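import Cfsg.Statements.S1472
import Cfsg.Agent.Lib.AppendixC.Final

set_option autoImplicit false
open Cfsg
open CfsgLib.AppendixC

namespace Cfsg.Agent.S1472

/-- Let p, q be primes with (p^q − 1)/(p − 1) coprime to p − 1, G a finite group, F a field with p ^ q elements, and P, U, Q subgroups of G with: f : G → F bijective from P onto F and additive on P; U normalizing P and acting through ψ : G → F, injective and multiplicative on U with ψ(u) ≠ 0 and f(uxu⁻¹) = ψ(u) f(x); #U · (p − 1) = p^q − 1; Q abelian of order coprime to p, normalized by every x ∈ P with f(x) in the prime field; and some y ∈ Q such that y x y⁻¹ normalizes U for every such x. Then p ≤ q. -/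
theorem result {G : Type*} [Group G] [Finite G] (p q : ℕ) [Fact p.Prime] [Fact q.Prime] (hA : Nat.Coprime ((p ^ q - 1) / (p - 1)) (p - 1))
    (F : Type*) [Field F] [Fintype F] (hF : Fintype.card F = p ^ q) (P U Q : Subgroup G) (f ψ : G → F)
    (hf : Set.BijOn f (P : Set G) Set.univ) (hfadd : ∀ x ∈ P, ∀ z ∈ P, f (x * z) = f x + f z)
    (hUP : U ≤ Subgroup.normalizer (P : Set G)) (hψ : ∀ u ∈ U, ψ u ≠ 0 ∧ ∀ x ∈ P, f (u * x * u⁻¹) = ψ u * f x)
    (hψmul : ∀ u ∈ U, ∀ v ∈ U, ψ (u * v) = ψ u * ψ v) (hψinj : Set.InjOn ψ (U : Set G)) (hUcard : Nat.card U * (p - 1) = p ^ q - 1)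
    (hQ : IsMulCommutative Q) (hQp : (Nat.card Q).Coprime p) (hP0Q : ∀ x ∈ P, f x ^ p = f x → x ∈ Subgroup.normalizer (Q : Set G))
    (y : G) (hy : y ∈ Q) (hP0U : ∀ x ∈ P, f x ^ p = f x → y * x * y⁻¹ ∈ Subgroup.normalizer (U : Set G)) :
    p ≤ q := by
  classical
  by_contra hle
  push Not at hle
  have hp : p.Prime := Fact.out
  have hq : q.Prime := Fact.out
  have hp2 : p ≠ 2 := by have := hq.two_le; omega
  have hq2 : q ≠ 2 := by
    rintro rfl
    obtain ⟨r, hr⟩ := hp.odd_of_ne_two hp2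
    have e : (p ^ 2 - 1) / (p - 1) = p + 1 := by
      rw [show p ^ 2 - 1 = (p + 1) * (p - 1) by rw [← Nat.sq_sub_sq, one_pow]]
      exact Nat.mul_div_cancel _ (by omega)
    rw [e] at hA
    have : 2 ∣ Nat.gcd (p + 1) (p - 1) :=
      Nat.dvd_gcd ⟨r + 1, by omega⟩ ⟨r, by omega⟩
    rw [hA.gcd_eq_one] at this
    omega
  set N := (p ^ q - 1) / (p - 1) with hN
  have d : FieldData p N F := fieldData p q hp hp2 hq F hF hA
  have hchar := d.char
  have hUN : Nat.card U = N := by
    rw [hN, ← hUcard, Nat.mul_div_cancel _ (by have := hp.two_le; omega)]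
  let ι : F → G := fun v => Function.invFunOn f (P : Set G) v
  have hιP : ∀ v, ι v ∈ P := fun v => Function.invFunOn_mem (hf.surjOn (Set.mem_univ v))
  have hfι : ∀ v, f (ι v) = v := fun v => Function.invFunOn_eq (hf.surjOn (Set.mem_univ v))
  have hιf : ∀ x ∈ P, ι (f x) = x := fun x hx => hf.injOn (hιP _) hx (hfι _)
  have hιadd : ∀ a b, ι (a + b) = ι a * ι b := fun a b =>
    hf.injOn (hιP _) (mul_mem (hιP a) (hιP b)) (by rw [hfadd _ (hιP a) _ (hιP b), hfι, hfι, hfι])
  have hιinj : Function.Injective ι := fun a b h => by rw [← hfι a, h, hfι]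
  have hψ1 : ψ 1 = 1 := by
    have h := hψmul 1 (one_mem U) 1 (one_mem U)
    rw [one_mul] at h
    exact (mul_eq_left₀ (hψ 1 (one_mem U)).1).1 h.symm
  have hψN : ∀ u ∈ U, ψ u ^ N = 1 := by
    intro u hu
    have h : ∀ n : ℕ, ψ (u ^ n) = ψ u ^ n := by
      intro n
      induction n with
      | zero => simpa using hψ1
      | succ n ih => rw [pow_succ, pow_succ, hψmul _ (pow_mem hu n) _ hu, ih]
    have h1 : u ^ Nat.card U = 1 := congrArg Subtype.val (pow_card_eq_one' (x := (⟨u, hu⟩ : U)))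
    rw [← hUN, ← h, h1, hψ1]
  have hsurj : ∀ x : F, x ^ N = 1 → ∃ u ∈ U, ψ u = x := by
    intro x hx
    have : Fintype U := Fintype.ofFinite _
    let T : Finset F := Finset.univ.filter fun z => z ^ N = 1
    let S : Finset F := Finset.univ.image fun u : U => ψ u
    have hsub : S ⊆ T := by
      intro z hz
      obtain ⟨u, -, rfl⟩ := Finset.mem_image.1 hz
      exact Finset.mem_filter.2 ⟨Finset.mem_univ _, hψN u u.2⟩
    have hS : S.card = N := by
      have hinj : Function.Injective (fun u : U => ψ u) := fun u v h =>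
        Subtype.ext (hψinj u.2 v.2 h)
      simp only [S]
      rw [Finset.card_image_of_injective _ hinj, Finset.card_univ, ← Nat.card_eq_fintype_card, hUN]
    have hT : T.card ≤ N := by
      calc T.card ≤ (Polynomial.nthRoots N (1 : F)).toFinset.card := by
            refine Finset.card_le_card fun z hz => ?_
            rw [Multiset.mem_toFinset, Polynomial.mem_nthRoots d.pos]
            exact (Finset.mem_filter.1 hz).2
        _ ≤ _ := Multiset.toFinset_card_le _
        _ ≤ N := Polynomial.card_nthRoots _ _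
    have hxT : x ∈ T := Finset.mem_filter.2 ⟨Finset.mem_univ _, hx⟩
    rw [← Finset.eq_of_subset_of_card_le hsub (by omega)] at hxT
    obtain ⟨u, -, rfl⟩ := Finset.mem_image.1 hxT
    exact ⟨u, u.2, rfl⟩
  let υ : F → G := fun x => Function.invFunOn ψ (U : Set G) x
  have hυU : ∀ x, x ^ N = 1 → υ x ∈ U := fun x hx => Function.invFunOn_mem (hsurj x hx)
  have hψυ : ∀ x, x ^ N = 1 → ψ (υ x) = x := fun x hx => Function.invFunOn_eq (hsurj x hx)
  have hυψ : ∀ u ∈ U, υ (ψ u) = u := fun u hu =>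
    hψinj (hυU _ (hψN u hu)) hu (hψυ _ (hψN u hu))
  have hsfix : f (ι 1) ^ p = f (ι 1) := by rw [hfι, one_pow]
  set t := y * ι 1 * y⁻¹ with ht
  have htU : t ∈ Subgroup.normalizer (U : Set G) := hP0U _ (hιP 1) hsfix
  have htj : ∀ (j : ℤ) (u : G), u ∈ U → t ^ (-j) * u * t ^ j ∈ U := by
    intro j u hu
    have := (Subgroup.mem_normalizer_iff.1 (zpow_mem htU (-j)) u).1 hu
    rwa [← zpow_neg, neg_neg] at this
  have hι0 : ι 0 = 1 := by
    have h := hιadd 0 0
    rwa [add_zero, left_eq_mul] at h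
  let ιh : F →+ Additive G :=
    { toFun := fun a => Additive.ofMul (ι a)
      map_zero' := congrArg Additive.ofMul hι0
      map_add' := fun a b => congrArg Additive.ofMul (hιadd a b) }
  have hιint : ∀ n : ℤ, ι (n : F) = ι 1 ^ n := by
    intro n
    have h := congrArg Additive.toMul (map_zsmul ιh n 1)
    rw [zsmul_eq_mul, mul_one] at h
    simpa [ιh] using h
  have htp : t ^ p = 1 := by
    rw [ht, conj_pow, ← zpow_natCast (ι 1), ← hιint, Int.cast_natCast, CharP.cast_eq_zero, hι0,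
      mul_one, mul_inv_cancel]
  have hQmem : ∀ a ∈ Q, a ^ p = 1 → a = 1 := fun a ha h => by
    have h1 : orderOf a ∣ Nat.card Q := by
      have := orderOf_dvd_natCard (⟨a, ha⟩ : Q)
      rwa [Subgroup.orderOf_mk] at this
    have h2 := Nat.dvd_gcd h1 (orderOf_dvd_of_pow_eq_one h)
    rw [hQp.gcd_eq_one, Nat.dvd_one, orderOf_eq_one_iff] at h2
    exact h2
  let C : Config p N F G :=
    { ι := ι
      ι_add := hιadd
      ι_inj := hιinj
      t := t
      Q := Q
      comm := fun a ha b hb =>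
        congrArg Subtype.val (hQ.is_comm.comm (⟨a, ha⟩ : Q) ⟨b, hb⟩)
      coprime := hQmem
      norm_s := hP0Q _ (hιP 1) hsfix
      t_pow := htp
      ts_mem := fun i => by
        have h1 := zpow_mem (hP0Q _ (hιP 1) hsfix) i
        have h2 := (Subgroup.mem_normalizer_iff.1 h1 y⁻¹).1 (inv_mem hy)
        rw [← Int.cast_neg, hιint, ht, conj_zpow, zpow_neg]
        simpa only [mul_assoc] using mul_mem hy h2
      Φ := fun j x => ψ (t ^ (-j) * υ x * t ^ j)
      Φ_mem := fun j x hx => hψN _ (htj j _ (hυU x hx))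
      Φ_zero := fun x hx => by simpa using hψυ x hx
      Φ_comp := fun i j x hx => by
        show ψ (t ^ (-i) * υ (ψ (t ^ (-j) * υ x * t ^ j)) * t ^ i) = _
        rw [hυψ _ (htj j _ (hυU x hx))]
        congr 1
        group
      Φ_mul := fun j a b ha hb => by
        show ψ _ = ψ _ * ψ _
        rw [← hψmul _ (htj j _ (hυU a ha)) _ (htj j _ (hυU b hb))]
        congr 1
        have e : υ (a * b) = υ a * υ b := by
          rw [← hυψ _ (mul_mem (hυU a ha) (hυU b hb)), hψmul _ (hυU a ha) _ (hυU b hb), hψυ a ha,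
            hψυ b hb]
        rw [e]; group
      Φ_period := fun x hx => by
        show ψ _ = x
        rw [zpow_neg, zpow_natCast, htp, inv_one, one_mul, mul_one, hψυ x hx]
      equiv := fun x hx => ⟨υ x, fun j v => by
        have hu := htj j _ (hυU x hx)
        have hn := (Subgroup.mem_normalizer_iff.1 (hUP hu) (ι v)).1 (hιP v)
        have h := (hψ _ hu).2 (ι v) (hιP v)
        rw [hfι] at h
        rw [← h, hιf _ hn]
        group⟩ }
  obtain ⟨x, hx, hz⟩ := exists_pair p q hp hq hle hq2 F hF hA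
  have hgoal : Commute (ι 1) (C.π 1 1) := Config.goal d C hx hz (add_sub_cancel x 1)
  rw [Config.s1_eq] at hgoal
  have hsw : Commute (ι 1) (t * (ι 1)⁻¹) := Config.commute_of_commute (C := C) d Config.w_mem hgoal
  have hst : Commute (ι 1) (y * ι 1 * y⁻¹) := by
    have := hsw.mul_right (Commute.refl (ι 1))
    rwa [inv_mul_cancel_right] at this
  have hsy : Commute (ι 1) y := Config.commute_of_commute (C := C) d hy hst
  have hts : t = ι 1 := by rw [ht, ← hsy.eq, mul_inv_cancel_right]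
  have hU1 : ∀ u ∈ U, u = 1 := by
    intro u hu
    have hc : ι 1 * u * (ι 1)⁻¹ * u⁻¹ ∈ U := by
      refine mul_mem ?_ (inv_mem hu)
      rw [← hts]
      exact (Subgroup.mem_normalizer_iff.1 htU u).1 hu
    have hn := (Subgroup.mem_normalizer_iff.1 (hUP hu) _).1 (inv_mem (hιP 1))
    have hcP : ι 1 * u * (ι 1)⁻¹ * u⁻¹ ∈ P := by
      simpa only [mul_assoc] using mul_mem (hιP 1) hn
    have h1 := (hψ _ hc).2 (ι 1) (hιP 1)
    have hcomm : Commute (ι (f (ι 1 * u * (ι 1)⁻¹ * u⁻¹))) (ι 1) := C.ι_comm _ _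
    rw [hιf _ hcP] at hcomm
    rw [hcomm.eq, mul_inv_cancel_right, hfι, mul_one] at h1
    have hc1 : ι 1 * u * (ι 1)⁻¹ * u⁻¹ = 1 := hψinj hc (one_mem U) (by rw [hψ1]; exact h1.symm)
    rw [mul_inv_eq_one, mul_inv_eq_iff_eq_mul] at hc1
    have h2 := (hψ _ hu).2 (ι 1) (hιP 1)
    rw [← hc1, mul_inv_cancel_right, hfι, mul_one] at h2
    exact hψinj hu (one_mem U) (by rw [hψ1]; exact h2.symm)
  have hbot : U = ⊥ := (Subgroup.eq_bot_iff_forall U).2 hU1
  apply d.ne_one
  rw [← hUN, hbot, Subgroup.card_bot]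

end Cfsg.Agent.S1472
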