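import Cfsg.Statements.S0755
import Mathlib
import Cfsg.Agent.Lib.Transvec.Unitary
-- import your own Cfsg.Agent.* helpers here

set_option autoImplicit false
open Cfsg

namespace Cfsg.Agent.S0755

/-- Classification of Hermitian forms over finite fields: if σ is a non-identity involutive automorphism of the finite field F and B is a non-degenerate conjugate-symmetric σ-sesquilinear form on the finite-dimensional space V, then V has a B-orthonormal basis. -/
theorem result {F V : Type*} [Field F] [Finite F] [AddCommGroup V] [Module F V] [FiniteDimensional F V] (σ : F →+* F) (hσ : σ ≠ RingHom.id F) (hσ2 : ∀ a : F, σ (σ a) = a) (B : V →ₛₗ[σ] V →ₗ[F] F) (hS : B.IsSymm) (hB : B.Nondegenerate) : ∃ b : Module.Basis (Fin (Module.finrank F V)) F V, ∀ i j, B (b i) (b j) = if i = j then 1 else 0 := by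
  classical
  have hbij : Function.Bijective σ := ⟨σ.injective, fun a => ⟨σ a, hσ2 a⟩⟩
  let τ : F ≃+* F := RingEquiv.ofBijective σ hbij
  have hτ : ∀ a, τ a = σ a := fun _ => rfl
  have hne : τ ≠ RingEquiv.refl F := fun h => hσ (RingHom.ext fun a => (hτ a).symm.trans (by rw [h]; rfl))
  have hinv : ∀ a, τ (τ a) = a := hσ2
  have hsym : ∀ u v, σ (B u v) = B v u := fun u v => hS.eq u v
  suffices H : ∀ k ≤ Module.finrank F V, ∃ b : Fin k → V, ∀ i j, B (b i) (b j) = if i = j then 1 else 0 by
    obtain ⟨b, hb⟩ := H _ le_rfl
    have hli : LinearIndependent F b := by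
      rw [Fintype.linearIndependent_iff]
      intro a ha i
      have h := congrArg (B (b i)) ha
      simpa [map_sum, map_smul, hb] using h
    rcases Nat.eq_zero_or_pos (Module.finrank F V) with h0 | h0
    · refine ⟨Module.finBasis F V, fun i => absurd i.2 (by omega)⟩
    · haveI : Nonempty (Fin (Module.finrank F V)) := ⟨⟨0, h0⟩⟩
      refine ⟨basisOfLinearIndependentOfCardEqFinrank hli (by simp), fun i j => ?_⟩
      simpa using hb i j
  intro k
  induction k with
  | zero => exact fun _ => ⟨![], fun i => i.elim0⟩
  | succ k ih =>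
    intro hk
    obtain ⟨b, hb⟩ := ih (by omega)
    let p : V → V := fun x => x - ∑ i, B (b i) x • b i
    have hp : ∀ i x, B (b i) (p x) = 0 := fun i x => by
      simp [p, map_sum, map_smul, hb]
    have hp' : ∀ x i, B (p x) (b i) = 0 := fun x i => by rw [← hsym, hp, map_zero]
    have hx : ∀ x, x = p x + ∑ i, B (b i) x • b i := fun x => by simp [p]
    obtain ⟨u, hu⟩ : ∃ u, p u ≠ 0 := by
      by_contra hc
      push Not at hc
      have hle : (⊤ : Submodule F V) ≤ Submodule.span F (Set.range b) := fun x _ => by
        rw [hx x, hc x, zero_add]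
        exact Submodule.sum_mem _ fun i _ => Submodule.smul_mem _ _ (Submodule.subset_span ⟨i, rfl⟩)
      have h1 := Submodule.finrank_mono hle
      rw [finrank_top] at h1
      have h2 := finrank_range_le_card (R := F) b
      rw [Fintype.card_fin, Set.finrank] at h2
      omega
    obtain ⟨w, hw⟩ : ∃ w, B (p u) w ≠ 0 := by
      by_contra hc
      push Not at hc
      exact hu (hB.1 _ hc)
    have hpw : B (p u) (p w) ≠ 0 := by
      rw [hx w, map_add] at hw
      simpa [-map_sub, map_sum, map_smul, hp'] using hw
    obtain ⟨v, hv, hvv⟩ : ∃ v, (∀ i, B (b i) v = 0) ∧ B v v ≠ 0 := by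
      by_contra hc
      push Not at hc
      obtain ⟨e, he⟩ := CfsgLib.Transvec.Unitary.exists_trace_ne_zero hne
      let c := B (p u) (p w)
      have h := hc (p u + (e / c) • p w) (fun i => by simp [hp])
      have h1 := hc (p u) (fun i => hp i u)
      have h2 := hc (p w) (fun i => hp i w)
      simp only [map_add, map_smulₛₗ, LinearMap.add_apply, LinearMap.smul_apply, smul_eq_mul, h1, h2,
        RingHom.id_apply, ← hsym (p u) (p w), mul_zero, add_zero, zero_add] at h
      refine he ?_
      rw [hτ, ← h]
      rw [← map_mul, div_mul_cancel₀ e hpw, add_comm]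
    obtain ⟨a, ha⟩ := CfsgLib.Transvec.Unitary.exists_norm_eq (b := (B v v)⁻¹) hne hinv
      (by rw [hτ, map_inv₀, hsym])
    have hb' : ∀ i, B v (b i) = 0 := fun i => by rw [← hsym, hv, map_zero]
    refine ⟨Fin.snoc b (a • v), fun i j => ?_⟩
    induction i using Fin.lastCases with
    | last =>
      induction j using Fin.lastCases with
      | last =>
        simp [map_smulₛₗ]
        rw [← hτ, ← mul_inv_cancel₀ hvv, ← ha]; ring
      | cast j => simp [map_smulₛₗ, hb', (Fin.castSucc_ne_last j).symm]
    | cast i =>
      induction j using Fin.lastCases with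
      | last => simp [map_smulₛₗ, hv, Fin.castSucc_ne_last]
      | cast j => simp [hb]

end Cfsg.Agent.S0755
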