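import Cfsg.Statements.S0494
import Cfsg.Agent.Lib.SmallGroups.Basic

set_option autoImplicit false
open Cfsg

namespace Cfsg.Agent.S0494

/-- A simple group of order 60 is isomorphic to the alternating group of degree 5. -/
theorem result {G : Type*} [Group G] [Finite G] [IsSimpleGroup G]
    (h : Nat.card G = 60) : Nonempty (G ≃* alternatingGroup (Fin 5)) := by
  have hG : ¬ IsMulCommutative G := fun hc => by
    have := CfsgLib.SmallGroups.not_isMulCommutative_of_not_prime (G := G) (by rw [h]; norm_num)
    exact this hc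
  have h2 : Fact (Nat.Prime 2) := ⟨Nat.prime_two⟩
  have hcard : Nat.card G = 2 ^ 2 * 15 := by rw [h]; norm_num
  have hdvd := CfsgLib.SmallGroups.card_sylow_dvd_of_card_eq (p := 2) hcard (by norm_num)
  obtain ⟨P⟩ : Nonempty (Sylow 2 G) := inferInstance
  have h2G : 2 ∣ Nat.card G := by rw [h]; norm_num
  have hne1 := CfsgLib.SmallGroups.card_sylow_ne_one (p := 2) hG h2G
  have hfac := CfsgLib.SmallGroups.two_mul_card_dvd_factorial_card_sylow (p := 2) hG h2G
  have hmul := CfsgLib.SmallGroups.card_sylow_mul_card_normalizer P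
  set m := Nat.card (Sylow 2 G) with hm
  set N := Subgroup.normalizer ((P : Subgroup G) : Set G) with hN
  have hle : m ≤ 15 := Nat.le_of_dvd (by norm_num) hdvd
  have hcases : m = 3 ∨ m = 5 ∨ m = 15 := by
    interval_cases m <;> first | omega | (norm_num at hdvd) | (norm_num at hne1)
  rcases hcases with h3 | h5 | h15
  · rw [h3, h] at hfac; norm_num [Nat.factorial] at hfac
  · have hidx : N.index = 5 := by
      rw [hN, ← CfsgLib.SmallGroups.card_sylow_eq_index P, ← hm, h5]
    obtain ⟨f, hf⟩ := CfsgLib.SmallGroups.exists_injective_alternating hG N fun ht => by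
      rw [ht, Subgroup.index_top] at hidx; omega
    let g : G →* ↥(alternatingGroup (Fin 5)) := (Equiv.altCongrHom (finCongr hidx)).toMonoidHom.comp f
    refine ⟨MulEquiv.ofBijective g ?_⟩
    rw [Nat.bijective_iff_injective_and_card]
    refine ⟨(Equiv.altCongrHom (finCongr hidx)).injective.comp hf, ?_⟩
    rw [h, nat_card_alternatingGroup, Nat.card_eq_fintype_card, Fintype.card_fin]
    rfl
  · have hN4 : Nat.card N = 4 := by
      rw [h15, h] at hmul; omega
    refine (CfsgLib.SmallGroups.card_normalizer_ne_of_isMulCommutative hG h2G P ?_).elim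
    exact IsPGroup.isMulCommutative_of_card_eq_prime_sq (p := 2) (by rw [← hN, hN4]; norm_num)

end Cfsg.Agent.S0494
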