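import Cfsg.Statements.S3377
import Cfsg.Agent.Lib.Recognition.IcosaPres

set_option autoImplicit false
open Cfsg

namespace Cfsg.Agent.S3377

theorem exists_gens : ∃ a b : alternatingGroup (Fin 5), a ^ 3 = 1 ∧ b ^ 5 = 1 ∧ (a * b) ^ 2 = 1 ∧
    a * b ≠ 1 ∧ Subgroup.closure {a, b} = ⊤ := by

  set A := alternatingGroup (Fin 5)
  let x : A := ⟨Equiv.swap 0 2 * Equiv.swap 0 1, Equiv.Perm.mem_alternatingGroup.2 (by decide)⟩
  let y : A := ⟨Equiv.swap 0 4 * Equiv.swap 0 1 * Equiv.swap 0 3 * Equiv.swap 0 2, Equiv.Perm.mem_alternatingGroup.2 (by decide)⟩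
  have hx : x ^ 3 = 1 ∧ x ≠ 1 := by decide +kernel
  have hy : y ^ 5 = 1 ∧ y ≠ 1 := by decide +kernel
  have hxy : (x * y) ^ 2 = 1 ∧ x * y ≠ 1 := by decide +kernel
  have h60 : Nat.card A = 60 := by
    rw [nat_card_alternatingGroup, Nat.card_eq_fintype_card, Fintype.card_fin]; rfl
  refine ⟨x, y, hx.1, hy.1, hxy.1, hxy.2, ?_⟩
  set H := Subgroup.closure {x, y}
  have hxH : x ∈ H := Subgroup.subset_closure (Or.inl rfl)
  have hyH : y ∈ H := Subgroup.subset_closure (Or.inr rfl)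
  have hord : ∀ (g : A) (p : ℕ), p.Prime → g ∈ H → g ^ p = 1 ∧ g ≠ 1 → p ∣ Nat.card H := by
    intro g p hp hg h
    haveI := Fact.mk hp
    rw [← orderOf_eq_prime h.1 h.2, ← Subgroup.orderOf_mk g hg]
    exact orderOf_dvd_natCard _
  have h30 : 30 ∣ Nat.card H := by
    have h2 := hord _ 2 Nat.prime_two (mul_mem hxH hyH) hxy
    have h3 := hord _ 3 Nat.prime_three hxH hx
    have h5 := hord _ 5 (by norm_num) hyH hy
    exact Nat.Coprime.mul_dvd_of_dvd_of_dvd (by norm_num : Nat.Coprime 6 5)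
      (Nat.Coprime.mul_dvd_of_dvd_of_dvd (by norm_num : Nat.Coprime 2 3) h2 h3) h5
  have hmul := H.card_mul_index
  rw [h60] at hmul
  obtain ⟨k, hk⟩ := h30
  have hi : H.index = 1 ∨ H.index = 2 := by
    rw [hk, mul_assoc] at hmul
    exact (Nat.dvd_prime Nat.prime_two).1 ⟨k, by rw [mul_comm]; omega⟩
  rcases hi with hi | hi
  · exact Subgroup.index_eq_one.1 hi
  · haveI : IsSimpleGroup A := alternatingGroup.isSimpleGroup_five
    rcases IsSimpleGroup.eq_bot_or_eq_top_of_normal H (Subgroup.normal_of_index_eq_two hi) with e | e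
    · rw [e, Subgroup.index_bot, h60] at hi; omega
    · exact e

/-- The alternating group of degree 5 has the presentation ⟨x, y | x³ = 1, y⁵ = 1, (xy)² = 1⟩: the group so presented is isomorphic to Alt(5). -/
theorem result :
    Nonempty (PresentedGroup ({FreeGroup.of (0 : Fin 2) ^ 3, FreeGroup.of (1 : Fin 2) ^ 5,
        (FreeGroup.of (0 : Fin 2) * FreeGroup.of 1) ^ 2} : Set (FreeGroup (Fin 2))) ≃* alternatingGroup (Fin 5)) := by
  obtain ⟨x, y, hx, hy, hxy, -, hgen⟩ := exists_gens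
  let φ := PresentedGroup.toGroup (f := ![x, y])
    (rels := ({FreeGroup.of (0 : Fin 2) ^ 3, FreeGroup.of (1 : Fin 2) ^ 5,
      (FreeGroup.of (0 : Fin 2) * FreeGroup.of 1) ^ 2} : Set (FreeGroup (Fin 2)))) (by
      rintro r (rfl | rfl | rfl) <;> simp [hx, hy, hxy])
  have h60 : Nat.card (alternatingGroup (Fin 5)) = 60 := by
    rw [nat_card_alternatingGroup, Nat.card_eq_fintype_card, Fintype.card_fin]; rfl
  have hsurj : Function.Surjective φ := by
    rw [← MonoidHom.range_eq_top, eq_top_iff, ← hgen, Subgroup.closure_le]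
    rintro w (rfl | rfl)
    · exact ⟨PresentedGroup.of 0, PresentedGroup.toGroup.of _⟩
    · exact ⟨PresentedGroup.of 1, PresentedGroup.toGroup.of _⟩
  obtain ⟨hfin, hle⟩ := CfsgLib.Recognition.card_le_sixty
    (x := (PresentedGroup.of 0 : PresentedGroup ({FreeGroup.of (0 : Fin 2) ^ 3, FreeGroup.of (1 : Fin 2) ^ 5,
      (FreeGroup.of (0 : Fin 2) * FreeGroup.of 1) ^ 2} : Set (FreeGroup (Fin 2))))) (y := PresentedGroup.of 1)
    (by
      rw [← PresentedGroup.closure_range_of]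
      congr 1
      ext z
      constructor
      · rintro (rfl | rfl) <;> exact ⟨_, rfl⟩
      · rintro ⟨i, rfl⟩
        fin_cases i
        · exact Or.inl rfl
        · exact Or.inr rfl)
    (PresentedGroup.one_of_mem (Or.inl rfl)) (PresentedGroup.one_of_mem (Or.inr (Or.inl rfl)))
    (PresentedGroup.one_of_mem (Or.inr (Or.inr rfl)))
  haveI := hfin
  exact ⟨MulEquiv.ofBijective φ ((Nat.bijective_iff_surjective_and_card φ).2
    ⟨hsurj, le_antisymm (hle.trans h60.ge) (Nat.card_le_card_of_surjective φ hsurj)⟩)⟩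

end Cfsg.Agent.S3377
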