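import Cfsg.Statements.S0939
import Cfsg.Agent.Lib.Blocks.Covering
import Cfsg.Agent.Lib.Cores.Basic

set_option autoImplicit false
open Cfsg

namespace Cfsg.Agent.S0939

/-- Let G be a finite group with a normal p-complement (the largest normal subgroup O_p'(G) of order prime to p has p-power index). Then, relative to any maximal ideal M of the algebraic integers containing p, the principal block of G is the set of irreducible characters χ with χ n = χ 1 for every n ∈ O_p'(G). -/
theorem result {G : Type*} [Group G] [Finite G] (p : ℕ) [Fact p.Prime] (M : Ideal Cfsg.AlgInt) (hM : Cfsg.IsPModular p M) (hnc : ∃ k : ℕ, (Cfsg.pPrimeCore p G).index = p ^ k) : Cfsg.principalBlock M G = {χ : Cfsg.IrrCharacter G | ∀ n ∈ Cfsg.pPrimeCore p G, (χ : G → ℂ) n = (χ : G → ℂ) 1} := by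
  classical
  have := hM.2.1
  have := Fintype.ofFinite G
  have := Fintype.ofFinite (Cfsg.pPrimeCore p G)
  rw [CfsgLib.Blocks.principalBlock_eq]
  ext χ
  constructor
  · intro h
    exact CfsgLib.Blocks.trivialOn_of_sameBlock hM (CfsgLib.Cores.not_dvd_card_pPrimeCore p) h
      (fun n _ => rfl)
  · intro h
    refine CfsgLib.Blocks.sameBlock_of_congr_on_normal (N := Cfsg.pPrimeCore p G) hM
      (fun g hg => CfsgLib.Blocks.mem_of_index_pow hM.1 hnc hg) (fun n => ?_)
    rw [CfsgLib.Blocks.centralChar_eq_icc_of_over (CfsgLib.Char.irrOne (G := G)).2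
        (θ := CfsgLib.Char.irrOne) (CfsgLib.Blocks.classInner_res_one_ne_zero
          (CfsgLib.Char.irrOne (G := G)).2 (fun _ _ => rfl)) n.2,
      CfsgLib.Blocks.centralChar_eq_icc_of_over χ.2
        (θ := CfsgLib.Char.irrOne) (CfsgLib.Blocks.classInner_res_one_ne_zero χ.2 h) n.2, sub_self]
    exact (CfsgLib.Blocks.res_eq_zero_iff M 0).mp (map_zero _)

end Cfsg.Agent.S0939
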