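import Cfsg.Statements.S0869
import Mathlib


set_option autoImplicit false
open Cfsg

namespace Cfsg.Agent.S0869

/-- Let S be a nonempty finite type and R an additive subgroup of the integer-valued functions on S that is closed under pointwise multiplication. If the constant function 1 is not in R, then there exist a point x of S and a prime p such that p divides f x for every f in R. -/
theorem result {S : Type*} [Finite S] [Nonempty S] (R : AddSubgroup (S → ℤ)) (hmul : ∀ f ∈ R, ∀ g ∈ R, f * g ∈ R) (h1 : (1 : S → ℤ) ∉ R) : ∃ (x : S) (p : ℕ), p.Prime ∧ ∀ f ∈ R, (p : ℤ) ∣ f x := by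
  by_contra hno
  push Not at hno
  classical
  have := Fintype.ofFinite S
  have hone : ∀ x, ∃ f ∈ R, f x = 1 := by
    intro x
    let φ : R →+ ℤ := ((Pi.evalAddMonoidHom (fun _ : S => ℤ) x).comp R.subtype)
    obtain ⟨d, hd⟩ := Int.subgroup_cyclic φ.range
    rw [← AddSubgroup.zmultiples_eq_closure] at hd
    by_cases h : d.natAbs = 1
    · have h1 : (1 : ℤ) ∈ φ.range := by
        rw [hd, Int.mem_zmultiples_iff]
        exact Int.natAbs_dvd.mp (by rw [h]; norm_num)
      obtain ⟨f, hf⟩ := h1
      exact ⟨f, f.2, hf⟩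
    · obtain ⟨p, hp, hpd⟩ := Nat.exists_prime_and_dvd h
      obtain ⟨f, hf, hnd⟩ := hno x p hp
      refine absurd ?_ hnd
      have hm : f x ∈ φ.range := ⟨⟨f, hf⟩, rfl⟩
      rw [hd, Int.mem_zmultiples_iff] at hm
      exact (Int.natCast_dvd.mpr hpd).trans hm
  have key : ∀ s : Finset S, ∃ f ∈ R, ∀ x ∈ s, f x = 1 := by
    intro s
    induction s using Finset.induction with
    | empty => exact ⟨0, R.zero_mem, by simp⟩
    | insert a s _ ih =>
      obtain ⟨f, hf, hfs⟩ := ih
      obtain ⟨g, hg, hga⟩ := hone a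
      refine ⟨f + g - f * g, R.sub_mem (R.add_mem hf hg) (hmul f hf g hg), fun x hx => ?_⟩
      rcases Finset.mem_insert.mp hx with rfl | hx
      · simp [hga]
      · simp [hfs x hx]
  obtain ⟨f, hf, hfs⟩ := key Finset.univ
  exact h1 (by
    have : f = 1 := funext fun x => hfs x (Finset.mem_univ x)
    exact this ▸ hf)

end Cfsg.Agent.S0869
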