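import Cfsg.Statements.S0176
import Cfsg.Agent.Lib.Char.Ito

set_option autoImplicit false
open Cfsg

namespace Cfsg.Agent.S0176

open CfsgLib.Char CfsgLib.CharNormal
open scoped ComplexConjugate

/-- A finite nilpotent group is an M-group: each irreducible complex character is induced from a homomorphism of some subgroup into ℂˣ. -/
theorem result {G : Type*} [Group G] [Fintype G] [Group.IsNilpotent G] (χ : G → ℂ) (hχ : Cfsg.IsIrrCharacter G χ) : ∃ (H : Subgroup G) (lam : H →* ℂˣ), χ = Cfsg.indFun H (fun h => (lam h : ℂ)) := by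
  classical
  suffices h : ∀ (n : ℕ) (G : Type u_1) [Group G] [Fintype G] [Group.IsNilpotent G], Nat.card G = n →
      ∀ χ : G → ℂ, Cfsg.IsIrrCharacter G χ →
      ∃ (H : Subgroup G) (lam : H →* ℂˣ), χ = Cfsg.indFun H (fun h => (lam h : ℂ)) from
    h _ G rfl χ hχ
  intro n
  induction n using Nat.strong_induction_on with
  | _ n ih =>
  intro G _ _ _ hn χ hχ
  obtain ⟨d, ρ, hirr, hρ⟩ := id hχ
  -- the subgroup of scalar elements
  let Z : Subgroup G :=
    { carrier := {g | ∃ c : ℂ, ρ g = c • LinearMap.id}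
      one_mem' := ⟨1, by rw [map_one, one_smul]; rfl⟩
      mul_mem' := fun {a b} ⟨c, hc⟩ ⟨c', hc'⟩ => ⟨c * c', by
        rw [map_mul, hc, hc']; exact LinearMap.ext fun v => by simp [smul_smul, mul_comm]⟩
      inv_mem' := fun {a} ⟨c, hc⟩ => by
        show ∃ c : ℂ, ρ a⁻¹ = c • LinearMap.id
        rw [← norm_character_eq_iff, character_inv, Complex.norm_conj, norm_character_eq_iff]
        exact ⟨c, hc⟩ }
  have hZ : ∀ g, g ∈ Z ↔ ∃ c : ℂ, ρ g = c • LinearMap.id := fun g => Iff.rfl
  have hcomm : ∀ z ∈ Z, ∀ g, ρ z * ρ g = ρ g * ρ z := by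
    rintro z ⟨c, hc⟩ g
    rw [hc]
    exact LinearMap.ext fun v => by simp
  have hZn : Z.Normal := ⟨fun z hz g => by
    rw [hZ, map_mul, map_mul, ← hcomm z hz g, mul_assoc, ← map_mul, mul_inv_cancel, map_one, mul_one]
    exact hz⟩
  by_cases hZtop : Z = ⊤
  · -- a linear character
    have h1 : χ 1 = 1 := by
      obtain ⟨e, he0, he⟩ := exists_degree_pos hχ
      have hone := classInner_irr_self hχ
      have hne : ∀ g, χ g * conj (χ g) = (e : ℂ) ^ 2 := by
        intro g
        obtain ⟨c, hc⟩ := (hZ g).mp (hZtop ▸ Subgroup.mem_top g)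
        have hn1 := (norm_character_eq_iff ρ g).mpr ⟨c, hc⟩
        have hd : d = e := by
          rw [← hρ] at he
          simpa using he
        rw [hρ, Module.finrank_fin_fun, hd] at hn1
        rw [Complex.mul_conj, Complex.normSq_eq_norm_sq, hn1]
        push_cast
        rfl
      rw [classInner_def, Finset.sum_congr rfl fun g _ => hne g, Finset.sum_const, Finset.card_univ,
        nsmul_eq_mul, ← Nat.card_eq_fintype_card, inv_mul_cancel_left₀ card_ne_zero'] at hone
      have hone' : e ^ 2 = 1 := by exact_mod_cast hone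
      rw [he, (Nat.pow_eq_one.mp hone').resolve_right two_ne_zero, Nat.cast_one]
    refine ⟨⊤, (linearHom (isCharacter_of_isIrr hχ) h1).comp (⊤ : Subgroup G).subtype, ?_⟩
    conv_lhs => rw [← indFun_top (isClassFunction_of_isIrr hχ)]
    rfl
  -- an element central modulo `Z`
  have : Nontrivial (G ⧸ Z) := QuotientGroup.nontrivial_iff.mpr hZtop
  have : Nontrivial (Subgroup.center (G ⧸ Z)) :=
    (Subgroup.nontrivial_iff_ne_bot _).mpr (Group.IsNilpotent.center_ne_bot _)
  obtain ⟨q, hq1⟩ := exists_ne (1 : Subgroup.center (G ⧸ Z))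
  obtain ⟨x, hx⟩ := QuotientGroup.mk_surjective (q : G ⧸ Z)
  have hxZ : x ∉ Z := fun h =>
    hq1 (Subtype.ext (hx.symm.trans ((QuotientGroup.eq_one_iff x).mpr h)))
  let A : Subgroup G := (Subgroup.zpowers (q : G ⧸ Z)).comap (QuotientGroup.mk' Z)
  have hxA : x ∈ A := Subgroup.mem_comap.mpr (by
    show (x : G ⧸ Z) ∈ _
    rw [hx]; exact Subgroup.mem_zpowers _)
  have hAn : A.Normal := by
    have : (Subgroup.zpowers (q : G ⧸ Z)).Normal := ⟨fun y hy g => by
      have hyc : y ∈ Subgroup.center (G ⧸ Z) := Subgroup.zpowers_le.mpr q.2 hy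
      rw [Subgroup.mem_center_iff.mp hyc g, mul_inv_cancel_right]
      exact hy⟩
    exact Subgroup.Normal.comap this _
  have hAcomm : ∀ a ∈ A, ∀ b ∈ A, ρ a * ρ b = ρ b * ρ a := by
    have key : ∀ a ∈ A, ∃ i : ℤ, ∃ z ∈ Z, a = x ^ i * z := by
      intro a ha
      obtain ⟨i, hi⟩ := Subgroup.mem_zpowers_iff.mp (Subgroup.mem_comap.mp ha)
      refine ⟨i, (x ^ i)⁻¹ * a, ?_, by group⟩
      rw [← QuotientGroup.eq, QuotientGroup.mk_zpow, hx]
      exact hi
    intro a ha b hb
    obtain ⟨i, z, hz, rfl⟩ := key a ha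
    obtain ⟨j, w, hw, rfl⟩ := key b hb
    simp only [map_mul]
    rw [mul_assoc, ← mul_assoc (ρ z), hcomm z hz (x ^ j), mul_assoc, ← mul_assoc (ρ (x ^ i)),
      hcomm z hz w, ← map_mul ρ (x ^ i), ← zpow_add, add_comm, zpow_add, map_mul, mul_assoc,
      ← mul_assoc (ρ (x ^ i)), ← hcomm w hw (x ^ i), mul_assoc, ← mul_assoc (ρ (x ^ j))]
  have := Fintype.ofFinite A
  obtain ⟨θ, hθ, hθ0⟩ := exists_constituent (isCharacter_res A (isCharacter_of_isIrr hχ))
    (fun h => irr_one_ne_zero hχ (by simpa using congrFun h 1))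
  have := Fintype.ofFinite (inertia A θ)
  have hle := le_inertia A (isClassFunction_of_isIrr hθ)
  have hTlt : inertia A θ ≠ ⊤ := by
    intro htop
    have hinv : ∀ g : G, conjFun A g θ = θ := fun g =>
      (mem_inertia A).mp (htop ▸ Subgroup.mem_top g)
    have hres := res_eq_smul_of_invariant A hχ hθ hinv hθ0
    -- `ρ` restricted to `A` has abelian image, so `θ` is linear
    have hθ1 : θ 1 = 1 := by
      have hk : ∀ a b : A, θ (a * b * a⁻¹ * b⁻¹) = θ 1 := by
        intro a b
        have h1 : ρ ((a * b * a⁻¹ * b⁻¹ : A) : G) = ρ 1 := by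
          simp only [Subgroup.coe_mul, map_mul, Subgroup.coe_inv]
          rw [hAcomm _ a.2 _ b.2, mul_assoc (ρ (b : G)), ← map_mul ρ (a : G), mul_inv_cancel,
            map_one, mul_one, ← map_mul, mul_inv_cancel, map_one]
        have e1 := congrFun hres (a * b * a⁻¹ * b⁻¹)
        have e2 := congrFun hres 1
        simp only [Pi.smul_apply, smul_eq_mul] at e1 e2
        have : χ ((a * b * a⁻¹ * b⁻¹ : A) : G) = χ ((1 : A) : G) := by
          rw [← hρ, Subgroup.coe_one]
          exact congrArg (LinearMap.trace ℂ _) h1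
        rw [e1, e2] at this
        exact mul_left_cancel₀ hθ0 this
      obtain ⟨m, σ, hσ, rfl⟩ := hθ
      have hσc : ∀ a b, σ a * σ b = σ b * σ a := by
        intro a b
        have := hk a b
        rw [σ.char_one] at this
        have h2 := (character_eq_degree_iff σ _).mp this
        calc σ a * σ b = σ (a * b * a⁻¹ * b⁻¹) * (σ b * σ a) := by
              rw [← map_mul, ← map_mul, ← map_mul]; group
          _ = σ b * σ a := by rw [h2]; rfl
      have hsc : ∀ a, ∃ c : ℂ, σ a = c • LinearMap.id :=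
        fun a => exists_eq_smul_id σ _ fun b => hσc a b
      have hn1 : ∀ a, σ.character a * conj (σ.character a) = (m : ℂ) ^ 2 := fun a => by
        have := (norm_character_eq_iff σ a).mpr (hsc a)
        rw [Module.finrank_fin_fun] at this
        rw [Complex.mul_conj, Complex.normSq_eq_norm_sq, this]
        push_cast
        rfl
      have hone := classInner_irr_self (G := A) (⟨m, σ, hσ, rfl⟩ : Cfsg.IsIrrCharacter A σ.character)
      rw [classInner_def, Finset.sum_congr rfl fun g _ => hn1 g, Finset.sum_const, Finset.card_univ,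
        nsmul_eq_mul, ← Nat.card_eq_fintype_card, inv_mul_cancel_left₀ card_ne_zero'] at hone
      have hm : m ^ 2 = 1 := by exact_mod_cast hone
      rw [σ.char_one, Module.finrank_fin_fun, (Nat.pow_eq_one.mp hm).resolve_right two_ne_zero, Nat.cast_one]
    apply hxZ
    rw [hZ, ← norm_character_eq_iff, Module.finrank_fin_fun]
    have e1 := congrFun hres ⟨x, hxA⟩
    have e2 := congrFun hres 1
    simp only [Pi.smul_apply, smul_eq_mul, hθ1, mul_one, Subgroup.coe_one] at e1 e2
    rw [show χ 1 = (d : ℂ) by rw [← hρ, ρ.char_one, Module.finrank_fin_fun]] at e2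
    rw [hρ, e1, ← e2, norm_mul, Complex.norm_natCast,
      ← linearHom_apply (isCharacter_of_isIrr hθ) hθ1,
      norm_eq_one_of_pow_eq_one' (Nat.card_pos (α := A)).ne' (by
        rw [← Units.val_pow_eq_pow_val, ← map_pow, pow_card_eq_one', map_one, Units.val_one]),
      mul_one]
  obtain ⟨ψ, hψ, hind, -⟩ := clifford_correspondence A hθ (inertia A θ)
    (fun g => mem_inertia A) hle hχ hθ0
  have hlt : Nat.card (inertia A θ) < n := by
    rw [← hn, ← Nat.card_congr (Subgroup.topEquiv (G := G)).toEquiv]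
    exact Set.Finite.card_lt_card (Set.toFinite _)
      (SetLike.coe_ssubset_coe.mpr (lt_top_iff_ne_top.mpr hTlt))
  obtain ⟨H', lam, hlam⟩ := ih _ hlt (inertia A θ) rfl ψ hψ
  obtain ⟨H, hH, rfl⟩ : ∃ H : Subgroup G, H ≤ inertia A θ ∧ H.subgroupOf (inertia A θ) = H' :=
    ⟨H'.map (inertia A θ).subtype, Subgroup.map_subtype_le H',
      Subgroup.comap_map_eq_self_of_injective (Subgroup.subtype_injective _) H'⟩
  let e := Subgroup.subgroupOfEquivOfLe hH
  refine ⟨H, lam.comp e.symm.toMonoidHom, ?_⟩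
  rw [← hind, hlam, ← indFun_trans H hH]
  congr 2

end Cfsg.Agent.S0176
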