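import Cfsg.Statements.S1894
import Cfsg.Agent.Lib.PGroup.Basic

set_option autoImplicit false
open Cfsg

namespace Cfsg.Agent.S1894

/-- Let P be a finite p-group, A a normal subgroup of P and B an abelian subgroup of A that is normal in P. Then some subgroup C of A containing B is normal in P and is self-centralizing and normal in A (C ∈ SCN(A)). -/
theorem result {P : Type*} [Group P] [Finite P] {p : ℕ} [Fact p.Prime] (hP : IsPGroup p P)
    (A : Subgroup P) [A.Normal] (B : Subgroup P) [B.Normal] (hBA : B ≤ A) (hB : IsMulCommutative B) :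
    ∃ C : Subgroup P, C.Normal ∧ B ≤ C ∧ Cfsg.IsSCN A C := by
  classical
  obtain ⟨C, hBC, hC⟩ := Finite.exists_le_maximal
    (p := fun C : Subgroup P => C.Normal ∧ C ≤ A ∧ IsMulCommutative C) (a := B) ⟨inferInstance, hBA, hB⟩
  obtain ⟨hCn, hCA, hCc⟩ := hC.prop
  haveI := hCn
  refine ⟨C, hCn, hBC, hCA, by rw [Subgroup.normalizer_eq_top]; exact le_top, ?_⟩
  set D := A ⊓ Subgroup.centralizer (C : Set P) with hD
  haveI := hCc
  have hCD : C ≤ D := le_inf hCA (Subgroup.le_centralizer C)
  by_contra hne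
  have hlt : C < D := lt_of_le_of_ne hCD (Ne.symm hne)
  set π := QuotientGroup.mk' C with hπ
  have hDn : D.Normal := inferInstance
  haveI : (D.map π).Normal := hDn.map π (QuotientGroup.mk'_surjective C)
  have hDne : D.map π ≠ ⊥ := fun h => hlt.not_ge fun x hx => by
    rw [Subgroup.map_eq_bot_iff, hπ, QuotientGroup.ker_mk'] at h
    exact h hx
  obtain ⟨y, ⟨hy, hyc⟩, hy1⟩ := SetLike.exists_of_lt (bot_lt_iff_ne_bot.2
    (CfsgLib.PGroup.inf_center_ne_bot (hP.to_quotient C) (D.map π) hDne))
  obtain ⟨x, hx, rfl⟩ := hy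
  have hxC : x ∉ C := fun h => hy1 (Subgroup.mem_bot.2 ((QuotientGroup.eq_one_iff x).2 h))
  have hnew : (C ⊔ Subgroup.zpowers x).Normal := by
    refine ⟨fun z hz g => ?_⟩
    have hle : C ⊔ Subgroup.zpowers x ≤ (C ⊔ Subgroup.zpowers x).comap (MulAut.conj g).toMonoidHom := by
      refine sup_le (fun c hc => Subgroup.mem_sup_left (hCn.conj_mem c hc g)) ?_
      rw [Subgroup.zpowers_le, Subgroup.mem_comap]
      show g * x * g⁻¹ ∈ _
      have h1 : g * x * g⁻¹ * x⁻¹ ∈ C := by
        refine (QuotientGroup.eq_one_iff _).1 ?_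
        show π _ = 1
        rw [map_mul, map_mul, map_mul, Subgroup.mem_center_iff.1 hyc (π g), map_inv, mul_inv_cancel_right,
          map_inv, mul_inv_cancel]
      have := mul_mem (Subgroup.mem_sup_left h1 : _ ∈ C ⊔ Subgroup.zpowers x)
        (Subgroup.mem_sup_right (Subgroup.mem_zpowers x))
      rwa [inv_mul_cancel_right] at this
    exact hle hz
  have habel : IsMulCommutative ↥(C ⊔ Subgroup.zpowers x) := by
    rw [← Subgroup.le_centralizer_iff_isMulCommutative]
    have hxC' : Subgroup.zpowers x ≤ Subgroup.centralizer (C : Set P) := Subgroup.zpowers_le.2 hx.2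
    refine sup_le ?_ ?_ <;> refine Subgroup.le_centralizer_iff.1 (sup_le ?_ ?_)
    · exact Subgroup.le_centralizer C
    · exact hxC'
    · exact Subgroup.le_centralizer_iff.1 hxC'
    · exact Subgroup.le_centralizer (Subgroup.zpowers x)
  exact hxC (hC.eq_of_le ⟨hnew, sup_le hCA (Subgroup.zpowers_le.2 hx.1), habel⟩ le_sup_left ▸
    Subgroup.mem_sup_right (Subgroup.mem_zpowers x))

end Cfsg.Agent.S1894
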