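import Cfsg.Statements.S1459
import Cfsg.Agent.Lib.PStab.Supplement
import Cfsg.Agent.Lib.Transfer.Abelian
import Cfsg.Agent.Lib.PGroup.Basic
import Cfsg.Agent.Lib.Cores.Basic

set_option autoImplicit false
open Cfsg
open scoped commutatorElement

namespace Cfsg.Agent.S1459

open Subgroup in
theorem normal_commutator_complement {G : Type*} [Group G] [Finite G] {H K : Subgroup G}
    (hHK : H ⊔ K = ⊤) : (⁅H, K⁆ : Subgroup G).Normal := by
  refine normalizer_eq_top_iff.1 (eq_top_iff.2 (hHK.ge.trans (sup_le ?_ ?_)))
  · intro x hx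
    refine CfsgLib.Solvable.mem_normalizer_of_conj_mem fun y hy => ?_
    refine (show ⁅H, K⁆ ≤ (⁅H, K⁆ : Subgroup G).comap (MulAut.conj x).toMonoidHom from ?_) hy
    rw [commutator_le]
    intro h hh k hk
    show x * ⁅h, k⁆ * x⁻¹ ∈ ⁅H, K⁆
    rw [show x * ⁅h, k⁆ * x⁻¹ = ⁅x * h, k⁆ * ⁅x, k⁆⁻¹ by simp only [commutatorElement_def]; group]
    exact mul_mem (commutator_mem_commutator (mul_mem hx hh) hk) (inv_mem (commutator_mem_commutator hx hk))
  · intro x hx
    refine CfsgLib.Solvable.mem_normalizer_of_conj_mem fun y hy => ?_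
    refine (show ⁅H, K⁆ ≤ (⁅H, K⁆ : Subgroup G).comap (MulAut.conj x).toMonoidHom from ?_) hy
    rw [commutator_le]
    intro h hh k hk
    show x * ⁅h, k⁆ * x⁻¹ ∈ ⁅H, K⁆
    rw [show x * ⁅h, k⁆ * x⁻¹ = ⁅h, x⁆⁻¹ * ⁅h, x * k⁆ by simp only [commutatorElement_def]; group]
    exact mul_mem (inv_mem (commutator_mem_commutator hh hx)) (commutator_mem_commutator hh (mul_mem hx hk))

open Subgroup in
/-- Part (a). -/
theorem part_a {G : Type*} [Group G] [Finite G] [Group.IsSolvable G] (H K : Subgroup G) [H.Normal]
    (hco : (Nat.card H).Coprime H.index) (hHK : Subgroup.IsComplement' H K) (hH : H ≤ commutator G) :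
    H = ⁅H, K⁆ ∧ H ⊓ Subgroup.centralizer (K : Set G) ≤ ⁅H, H⁆ := by
  have hcard : (Nat.card H).Coprime (Nat.card K) := by rwa [← hHK.symm.index_eq_card]
  have hsup : H ⊔ K = ⊤ := hHK.sup_eq_top
  constructor
  · refine le_antisymm ?_ (commutator_le_left H K)
    have := normal_commutator_complement hsup
    set π := QuotientGroup.mk' (⁅H, K⁆) with hπ
    set M := H.map π with hM
    set C := K.map π with hC
    have hMC : ⁅M, C⁆ = ⊥ := by
      rw [hM, hC, ← map_commutator, Subgroup.map_eq_bot_iff, QuotientGroup.ker_mk']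
    have hsup' : C ⊔ M = ⊤ := by
      rw [hC, hM, ← Subgroup.map_sup, sup_comm, hsup, map_top_of_surjective _ (QuotientGroup.mk'_surjective _)]
    have hCn : C.Normal := normalizer_eq_top_iff.1 (eq_top_iff.2 (hsup'.ge.trans (sup_le le_normalizer
      (((commutator_eq_bot_iff_le_centralizer.1 hMC)).trans (centralizer_le_normalizer _)))))
    have h1 : M ≤ ⁅M, M⁆ := by
      refine le_trans (le_inf le_rfl ?_) (CfsgLib.PStab.inf_commutator_le_of_supplement C M M hsup' le_rfl
        ((hcard.coprime_dvd_left (card_map_dvd H π)).coprime_dvd_right (card_map_dvd K π)))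
      rw [hM, commutator_def, ← map_top_of_surjective π (QuotientGroup.mk'_surjective _), ← map_commutator,
        ← commutator_def]
      exact map_mono hH
    by_contra hne
    have hM1 : M ≠ ⊥ := fun h => hne (by rwa [hM, Subgroup.map_eq_bot_iff, QuotientGroup.ker_mk'] at h)
    exact (Group.IsSolvable.commutator_lt_of_ne_bot hM1).not_ge h1
  · rintro c ⟨hcH, hcK⟩
    set π := QuotientGroup.mk' (⁅H, H⁆) with hπ
    set A := H.map π with hA
    have hAc : IsMulCommutative A := by
      refine ⟨⟨?_⟩⟩
      rintro ⟨_, a, ha, rfl⟩ ⟨_, b, hb, rfl⟩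
      refine Subtype.ext (commutatorElement_eq_one_iff_mul_comm.1 ?_ : π a * π b = π b * π a)
      rw [← map_commutatorElement]
      exact (QuotientGroup.eq_one_iff _).2 (commutator_mem_commutator ha hb)
    have hAn : A.Normal := Subgroup.Normal.map inferInstance π (QuotientGroup.mk'_surjective _)
    have hAco : (Nat.card A).Coprime A.index := (hco.coprime_dvd_left (card_map_dvd H π)).coprime_dvd_right
      (Subgroup.index_map_dvd H (QuotientGroup.mk'_surjective _))
    have hmem : π c ∈ A ⊓ commutator (G ⧸ ⁅H, H⁆) ⊓ center (G ⧸ ⁅H, H⁆) := by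
      refine ⟨⟨mem_map_of_mem π hcH, ?_⟩, mem_center_iff.2 fun q => ?_⟩
      · rw [commutator_def, ← map_top_of_surjective π (QuotientGroup.mk'_surjective _), ← map_commutator,
          ← commutator_def]
        exact mem_map_of_mem π (hH hcH)
      · obtain ⟨g, rfl⟩ := QuotientGroup.mk'_surjective _ q
        obtain ⟨h, hh, k, hk, rfl⟩ := mem_sup_of_normal_left.1 (show g ∈ H ⊔ K from hsup ▸ mem_top g)
        have e1 : π h * π c = π c * π h :=
          congrArg Subtype.val (hAc.is_comm.comm (⟨_, mem_map_of_mem π hh⟩ : A) ⟨_, mem_map_of_mem π hcH⟩)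
        have e2 : π k * π c = π c * π k := by rw [← map_mul, ← map_mul, mem_centralizer_iff.1 hcK k hk]
        rw [map_mul, mul_assoc, e2, ← mul_assoc, e1, mul_assoc]
    rw [CfsgLib.Transfer.inf_commutator_inf_center A hAc hAco, mem_bot] at hmem
    exact (QuotientGroup.eq_one_iff _).1 hmem

open Subgroup in
/-- A nilpotent derived group of prime index has order prime to the index. -/
theorem coprime_of_derived_index_prime {G : Type*} [Group G] [Finite G]
    (hnil : Group.IsNilpotent ↥(commutator G)) (hq : (commutator G).index.Prime) :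
    (Nat.card ↥(commutator G)).Coprime (commutator G).index := by
  set D := commutator G with hD
  set q := D.index with hqdef
  have : Fact q.Prime := ⟨hq⟩
  set N := (Cfsg.pPrimeCore q D).map D.subtype with hN
  have hNn : N.Normal := by
    refine ⟨?_⟩
    rintro _ ⟨x, hx, rfl⟩ g
    exact ⟨MulAut.conjNormal g x, (CfsgLib.Cores.map_pPrimeCore_le (p := q) (MulAut.conjNormal g : MulAut D).toMonoidHom
      (MulAut.conjNormal g : MulAut D).surjective) ⟨x, hx, rfl⟩, by simp⟩
  have hDq : ∀ r : ℕ, r.Prime → r ∣ (Cfsg.pPrimeCore q D).index → r = q := by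
    intro r hr hd
    by_contra hrq
    have : Fact r.Prime := ⟨hr⟩
    obtain ⟨R⟩ := (inferInstance : Nonempty (Sylow r D))
    have hRn : (R : Subgroup D).Normal := R.normal_of_normalizerCondition Group.normalizerCondition_of_isNilpotent
    have hle : (R : Subgroup D) ≤ Cfsg.pPrimeCore q D := by
      refine CfsgLib.Cores.le_pPrimeCore ?_
      obtain ⟨n, hn⟩ := IsPGroup.iff_card.1 R.2
      rw [hn]
      exact Nat.Coprime.pow_left n ((Nat.coprime_primes hr hq).2 hrq)
    exact R.not_dvd_index (hd.trans (index_dvd_of_le hle))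
  have hidx : ∀ r : ℕ, r.Prime → r ∣ Nat.card (G ⧸ N) → r = q := by
    intro r hr hd
    rw [show Nat.card (G ⧸ N) = N.index from rfl, hN, index_map_subtype] at hd
    rcases (Nat.Prime.dvd_mul hr).1 hd with h | h
    · exact hDq r hr h
    · exact (Nat.prime_dvd_prime_iff_eq hr hq).1 h
  have hP : IsPGroup q (G ⧸ N) := IsPGroup.of_card (Nat.eq_prime_pow_of_unique_prime_dvd Nat.card_pos.ne'
    fun {r} hr hd => hidx r hr hd)
  set π := QuotientGroup.mk' N
  have hmap : D.map π = commutator (G ⧸ N) := by
    rw [hD, commutator_def, map_commutator, map_top_of_surjective π (QuotientGroup.mk'_surjective _), ← commutator_def]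
  have hcyc : IsCyclic (G ⧸ N) := by
    refine CfsgLib.PGroup.isCyclic_of_frattini_quotient ?_
    have h1 : Nat.card ((G ⧸ N) ⧸ frattini (G ⧸ N)) ∣ q := by
      refine (index_dvd_of_le (CfsgLib.PGroup.commutator_le_frattini hP)).trans ?_
      rw [← hmap]
      exact index_map_dvd D (QuotientGroup.mk'_surjective _)
    rcases (Nat.dvd_prime hq).1 h1 with h | h
    · have : Subsingleton ((G ⧸ N) ⧸ frattini (G ⧸ N)) := (Nat.card_eq_one_iff_unique.1 h).1
      exact isCyclic_of_subsingleton
    · exact isCyclic_of_prime_card h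
  have hbot : commutator (G ⧸ N) = ⊥ := by
    rw [commutator_def, Subgroup.commutator_eq_bot_iff_le_centralizer]
    intro a _
    rw [mem_centralizer_iff]
    intro b _
    exact hcyc.commutative.is_comm.comm b a
  rw [hbot, Subgroup.map_eq_bot_iff, QuotientGroup.ker_mk'] at hmap
  exact (CfsgLib.Cores.coprime_card_pPrimeCore (G := D) q).coprime_dvd_left (by
    rw [← card_map_of_injective D.subtype_injective, ← hN]
    exact card_dvd_of_le hmap)

/-- Let G be a finite solvable group. (a) If H is a normal subgroup of order coprime to its index, K is a complement to H, and H ≤ G', then H = [H, K] and H ∩ C_G(K) ≤ [H, H]. (b) If G' is nilpotent and has prime index in G, then the order of G' is coprime to its index and G' = [G, K] (the subgroup generated by commutators of elements of G with elements of K) for every complement K of G'. -/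
theorem result {G : Type*} [Group G] [Finite G] [Group.IsSolvable G] :
    (∀ (H K : Subgroup G), H.Normal → (Nat.card H).Coprime H.index → Subgroup.IsComplement' H K → H ≤ commutator G →
        H = ⁅H, K⁆ ∧ H ⊓ Subgroup.centralizer (K : Set G) ≤ ⁅H, H⁆) ∧
      (Group.IsNilpotent ↥(commutator G) → (commutator G).index.Prime →
        (Nat.card ↥(commutator G)).Coprime (commutator G).index ∧
        ∀ K : Subgroup G, Subgroup.IsComplement' (commutator G) K → commutator G = ⁅(⊤ : Subgroup G), K⁆) := by
  refine ⟨fun H K hH hco hHK hle => part_a H K hco hHK hle, fun hnil hq => ?_⟩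
  have hco := coprime_of_derived_index_prime hnil hq
  refine ⟨hco, fun K hK => le_antisymm ?_ (Subgroup.commutator_mono le_rfl le_top)⟩
  exact (part_a (commutator G) K hco hK le_rfl).1.le.trans (Subgroup.commutator_mono le_top le_rfl)

end Cfsg.Agent.S1459
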