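import Cfsg.Statements.S1461
import Cfsg.Agent.Lib.PStab.Supplement
import Cfsg.Agent.Lib.Transfer.PSolvable

set_option autoImplicit false
open Cfsg
open scoped commutatorElement Pointwise

namespace Cfsg.Agent.S1461

/-- Let G be a finite solvable group, p a prime with G = O_{p',p,p'}(G), and S a Sylow p-subgroup. Then: if S ≤ G' then S ≤ [N_G(S), N_G(S)]; if Y ⊆ S and xYx⁻¹ ⊆ S then x = g c for some g ∈ N_G(S) and c centralizing Y; and for every p-subgroup Q there is x ∈ C_G(Q ∩ S) with xQx⁻¹ ≤ S. -/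
theorem result {G : Type*} [Group G] [Finite G] [Group.IsSolvable G] (p : ℕ) [Fact p.Prime] (hpl : Cfsg.PLengthLE p 1 G) (S : Sylow p G) :
    ((S : Subgroup G) ≤ commutator G → (S : Subgroup G) ≤ ⁅Subgroup.normalizer ((S : Subgroup G) : Set G), Subgroup.normalizer ((S : Subgroup G) : Set G)⁆) ∧
      (∀ (Y : Set G) (x : G), Y ⊆ (S : Subgroup G) → (fun y => x * y * x⁻¹) '' Y ⊆ (S : Subgroup G) →
        ∃ g ∈ Subgroup.normalizer ((S : Subgroup G) : Set G), ∃ c ∈ Subgroup.centralizer Y, g * c = x) ∧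
      ∀ Q : Subgroup G, IsPGroup p Q → ∃ x ∈ Subgroup.centralizer ((Q ⊓ (S : Subgroup G) : Subgroup G) : Set G), Q.map (MulAut.conj x).toMonoidHom ≤ (S : Subgroup G) := by
  set K := (Cfsg.upperPSeries p G 1).1 with hKdef
  set W := (Cfsg.upperPSeries p G 2).1 with hWdef
  have hKn : K.Normal := (Cfsg.upperPSeries p G 1).2
  have hWn : W.Normal := (Cfsg.upperPSeries p G 2).2
  have hcomap : ∀ {N : Subgroup G} [N.Normal] (M : Subgroup (G ⧸ N)),
      Nat.card (M.comap (QuotientGroup.mk' N)) = Nat.card N * Nat.card M := by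
    intro N _ M
    have hle : N ≤ M.comap (QuotientGroup.mk' N) := (QuotientGroup.ker_mk' N).ge.trans (MonoidHom.ker_le_comap _ _)
    rw [← Subgroup.card_mul_index (N.subgroupOf (M.comap (QuotientGroup.mk' N))),
      Nat.card_congr (Subgroup.subgroupOfEquivOfLe hle).toEquiv]
    congr 1
    show N.relIndex _ = _
    have h := Subgroup.relIndex_ker (QuotientGroup.mk' N) (K := M.comap (QuotientGroup.mk' N))
    rw [Subgroup.map_comap_eq_self_of_surjective (QuotientGroup.mk'_surjective N)] at h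
    rw [← h]
    exact congrArg (fun L : Subgroup G => L.relIndex _) (QuotientGroup.ker_mk' N).symm
  have hKp : (Nat.card K).Coprime p := by
    rw [hKdef, CfsgLib.Transfer.upperPSeries_succ_of_even p G (n := 0) (by decide), hcomap]
    refine Nat.Coprime.mul_left ?_ (CfsgLib.Cores.coprime_card_pPrimeCore p)
    show (Nat.card (⊥ : Subgroup G)).Coprime p
    rw [Subgroup.card_bot]
    exact Nat.coprime_one_left p
  have htop : Cfsg.pPrimeCore p (G ⧸ W) = ⊤ := by
    have h3 : (Cfsg.upperPSeries p G (2 + 1)).1 = ⊤ := hpl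
    rw [CfsgLib.Transfer.upperPSeries_succ_of_even p G (n := 2) (by decide)] at h3
    have := congrArg (Subgroup.map (QuotientGroup.mk' W)) h3
    rwa [Subgroup.map_comap_eq_self_of_surjective (QuotientGroup.mk'_surjective W),
      Subgroup.map_top_of_surjective _ (QuotientGroup.mk'_surjective W)] at this
  have hidx : (Nat.card (G ⧸ W)).Coprime p := by
    have := CfsgLib.Cores.coprime_card_pPrimeCore (G := G ⧸ W) p
    rwa [htop, Subgroup.card_top] at this
  have hSW : ∀ Q : Subgroup G, IsPGroup p Q → Q ≤ W := by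
    intro Q hQ x hx
    rw [← QuotientGroup.ker_mk' W, MonoidHom.mem_ker]
    obtain ⟨k, hk⟩ := hQ ⟨x, hx⟩
    have hk' : x ^ p ^ k = 1 := congrArg Subtype.val hk
    refine orderOf_eq_one_iff.1 (Nat.eq_one_of_dvd_coprimes (hidx.pow_right k) (orderOf_dvd_natCard _) ?_)
    exact (orderOf_map_dvd _ _).trans (orderOf_dvd_of_pow_eq_one hk')
  have hKS : W ≤ K ⊔ (S : Subgroup G) := by
    rw [hWdef, CfsgLib.Transfer.upperPSeries_succ_of_odd p G (n := 1) (by decide)]
    refine le_trans (Subgroup.comap_mono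
      (CfsgLib.Cores.pCore_le_sylow (S.mapSurjective (QuotientGroup.mk'_surjective K)))) ?_
    rw [Sylow.coe_mapSurjective, Subgroup.comap_map_eq, QuotientGroup.ker_mk', sup_comm]
  set N := Subgroup.normalizer ((S : Subgroup G) : Set G) with hN
  have hWS : W = K ⊔ (S : Subgroup G) := le_antisymm hKS
    (sup_le (CfsgLib.Transfer.le_upperPSeries_succ p G 1) (hSW _ S.2))
  have hKN : K ⊔ N = ⊤ := by
    have h1 := Sylow.normalizer_sup_eq_top' S (N := W) (hSW _ S.2)
    refine eq_top_iff.2 (h1.ge.trans (sup_le le_sup_right (hKS.trans (sup_le le_sup_left ?_))))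
    exact Subgroup.le_normalizer.trans le_sup_right
  have hcop : (Nat.card (S : Subgroup G)).Coprime (Nat.card K) := by
    obtain ⟨n, hn⟩ := IsPGroup.iff_card.1 S.2
    rw [hn]
    exact Nat.Coprime.pow_left n hKp.symm
  have hdis : ∀ k ∈ K, ∀ y ∈ (S : Subgroup G), k * y * k⁻¹ ∈ (S : Subgroup G) → k * y * k⁻¹ = y := by
    intro k hk y hy hky
    have h1 : k * y * k⁻¹ * y⁻¹ ∈ K ⊓ (S : Subgroup G) := by
      refine Subgroup.mem_inf.2 ⟨?_, mul_mem hky (inv_mem hy)⟩
      rw [mul_assoc k, mul_assoc k]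
      exact mul_mem hk (hKn.conj_mem _ (inv_mem hk) y)
    rw [CfsgLib.Solvable.disjoint_of_coprime hcop.symm, Subgroup.mem_bot, mul_inv_eq_one] at h1
    exact h1
  refine ⟨fun hS => (le_inf le_rfl hS).trans
      (CfsgLib.PStab.inf_commutator_le_of_supplement K N _ hKN Subgroup.le_normalizer hcop), ?_, ?_⟩
  · intro Y x hY hxY
    have hH : Subgroup.closure Y ≤ (S : Subgroup G) := (Subgroup.closure_le _).2 hY
    obtain ⟨u, hu, c, hc, hxc⟩ := CfsgLib.PStab.exists_mul_centralizer_of_supplement K N (Subgroup.closure Y) hKN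
      (hH.trans Subgroup.le_normalizer) (hcop.coprime_dvd_left (Subgroup.card_dvd_of_le hH)) inferInstance x (by
        refine le_trans ?_ (Subgroup.le_normalizer (H := (S : Subgroup G)))
        rw [MonoidHom.map_closure, Subgroup.closure_le]
        rintro _ ⟨y, hy, rfl⟩
        exact hxY ⟨y, hy, rfl⟩)
    exact ⟨u, hu, c, Subgroup.centralizer_le Subgroup.subset_closure hc.2, hxc.symm⟩
  · intro Q hQ
    obtain ⟨k, hk, hkQ⟩ := CfsgLib.Solvable.exists_conj_le_of_pGroup K (S : Subgroup G) Q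
      (le_top.trans (Subgroup.normalizer_eq_top_iff.2 hKn).ge) (CfsgLib.Solvable.disjoint_of_coprime hcop.symm)
      ((hSW Q hQ).trans hKS) hQ ((CfsgLib.Cores.coprime_iff_not_dvd Fact.out _).1 hKp)
    refine ⟨k, Subgroup.mem_centralizer_iff.2 fun y hy => ?_, hkQ⟩
    have h1 := hdis k hk y hy.2 (hkQ ⟨y, hy.1, rfl⟩)
    exact (mul_inv_eq_iff_eq_mul.1 h1).symm

end Cfsg.Agent.S1461
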