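import Cfsg.Statements.S3771
import Mathlib
import Cfsg.Agent.Lib.PGroup.ElemAbelian
import Cfsg.Agent.Lib.PGroup.ClassSize

set_option autoImplicit false
open Cfsg

namespace Cfsg.Agent.S3771

/-- Let p be a prime and R a finite p-group of p-rank at most 2 (no elementary abelian subgroup of order p³) in which every element has order dividing p. Then R has order at most p³. -/
theorem result {R : Type*} [Group R] [Finite R] {p : ℕ} [Fact p.Prime] (hR : IsPGroup p R) (hrank : Cfsg.PRankLE p 2 R) (hexp : ∀ x : R, x ^ p = 1) : Nat.card R ≤ p ^ 3 := by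
  have hp : p.Prime := Fact.out
  obtain ⟨A, -, hAn, hAc, hCA⟩ := CfsgLib.PGroup.exists_normal_abelian_centralizer_eq hR ⊥
    inferInstance (fun a ha b hb => by rw [Subgroup.mem_bot.1 ha, Subgroup.mem_bot.1 hb])
  have hA2 : Nat.card A ≤ p ^ 2 := hrank A hAc (fun a _ => hexp a)
  haveI := hAn
  have hmul : ∀ a ∈ A, ∀ b ∈ A, a * b = b * a := fun a ha b hb =>
    congrArg Subtype.val (hAc.is_comm.comm (⟨a, ha⟩ : A) ⟨b, hb⟩)
  by_cases hAZ : A ≤ Subgroup.center R
  · have htop : A = ⊤ := by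
      rw [← hCA, eq_top_iff]
      exact fun x _ => Subgroup.mem_centralizer_iff.2 fun a ha =>
        (Subgroup.mem_center_iff.1 (hAZ ha) x).symm
    rw [htop, Subgroup.card_top] at hA2
    exact hA2.trans (Nat.pow_le_pow_right hp.pos (by norm_num))
  obtain ⟨a, haA, haZ⟩ := SetLike.not_le_iff_exists.1 hAZ
  have hAbot : A ≠ ⊥ := fun h => haZ (by rw [h, Subgroup.mem_bot] at haA; rw [haA]; exact one_mem _)
  have hZ1 : A ⊓ Subgroup.center R ≠ ⊥ := CfsgLib.PGroup.inf_center_ne_bot hR A hAbot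
  have hpZ : p ≤ Nat.card ↥(A ⊓ Subgroup.center R) :=
    Nat.le_of_dvd Nat.card_pos (CfsgLib.PGroup.dvd_card_of_ne_bot hR hZ1)
  -- `A` is generated by `a` and `A ⊓ Z(R)`
  have hgen : A = (A ⊓ Subgroup.center R) ⊔ Subgroup.zpowers a := by
    refine (Subgroup.eq_of_le_of_card_ge (sup_le inf_le_left (Subgroup.zpowers_le.2 haA)) ?_).symm
    obtain ⟨i, hi⟩ := CfsgLib.PGroup.card_eq_pow (hR.to_subgroup ((A ⊓ Subgroup.center R) ⊔ Subgroup.zpowers a))
    have hlt : Nat.card ↥(A ⊓ Subgroup.center R) <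
        Nat.card ↥((A ⊓ Subgroup.center R) ⊔ Subgroup.zpowers a) := by
      have := Set.ncard_lt_ncard
        (s := ((A ⊓ Subgroup.center R : Subgroup R) : Set R))
        (t := (((A ⊓ Subgroup.center R) ⊔ Subgroup.zpowers a : Subgroup R) : Set R))
        (SetLike.coe_ssubset_coe.2 (lt_of_le_of_ne le_sup_left fun h => haZ
          ((h ▸ Subgroup.mem_sup_right (Subgroup.mem_zpowers a) : a ∈ A ⊓ Subgroup.center R)).2))
        (Set.toFinite _)
      rwa [← Nat.card_coe_set_eq, ← Nat.card_coe_set_eq] at this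
    rw [hi] at hlt ⊢
    refine hA2.trans (Nat.pow_le_pow_right hp.pos ?_)
    by_contra h
    have : p ^ i ≤ p ^ 1 := Nat.pow_le_pow_right hp.pos (by omega)
    rw [pow_one] at this
    omega
  have hCa : Subgroup.centralizer ({a} : Set R) = A := by
    refine le_antisymm (fun x hx => hCA.le (Subgroup.mem_centralizer_iff.2 fun b hb => ?_))
      (fun x hx => Subgroup.mem_centralizer_singleton_iff.2 (hmul x hx a haA))
    have hle : A ≤ Subgroup.centralizer ({x} : Set R) := hgen.le.trans (sup_le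
      (fun c hc => Subgroup.mem_centralizer_singleton_iff.2 (Subgroup.mem_center_iff.1 hc.2 x).symm)
      (Subgroup.zpowers_le.2 (Subgroup.mem_centralizer_singleton_iff.2
        (Subgroup.mem_centralizer_singleton_iff.1 hx).symm)))
    exact Subgroup.mem_centralizer_singleton_iff.1 (hle hb)
  have hlt : (Subgroup.centralizer ({a} : Set R)).index < p ^ 2 := by
    rw [← CfsgLib.PGroup.ncard_conjugates_eq_index]
    refine lt_of_lt_of_le ?_ hA2
    rw [← SetLike.coe_sort_coe, Nat.card_coe_set_eq]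
    refine Set.ncard_lt_ncard ((Set.ssubset_iff_of_subset ?_).2 ⟨1, A.one_mem, ?_⟩) (Set.toFinite _)
    · rintro b ⟨c, rfl⟩
      exact hAn.conj_mem a haA c
    · rintro ⟨c, hc⟩
      have hc' : c * a * c⁻¹ = 1 := hc
      rw [mul_inv_eq_one] at hc'
      exact haZ (by rw [show a = 1 from mul_left_cancel (hc'.trans (mul_one c).symm)]; exact one_mem _)
  rw [← Subgroup.card_mul_index A, ← hCa, pow_succ p 2]
  obtain ⟨i, hi⟩ := hR.index (Subgroup.centralizer ({a} : Set R))
  rw [hi] at hlt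
  have : i < 2 := (Nat.pow_lt_pow_iff_right hp.one_lt).1 hlt
  rw [hi, hCa]
  exact Nat.mul_le_mul hA2 (le_of_le_of_eq (Nat.pow_le_pow_right hp.pos (Nat.lt_succ_iff.1 this)) (pow_one p))

end Cfsg.Agent.S3771
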