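import Cfsg.Statements.S1448
import Cfsg.Agent.Lib.OddLocal.RankTwo.Coprime

set_option autoImplicit false
open Cfsg
open scoped commutatorElement

namespace Cfsg.Agent.S1448

/-- Let G be a finite group, p an odd prime, R a nontrivial p-subgroup with no elementary abelian subgroup of order p ^ 3, and A a subgroup of odd order coprime to p normalizing R with [R, A] = R. Then 3 < p, and either R is abelian or R is generated by two elementwise-commuting subgroups R₁, R₂ with R₁ non-abelian of order p ^ 3 and exponent p, R₂ cyclic, and the elements of R₂ of order dividing p generating exactly [R₁, R₁]. -/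
theorem result {G : Type*} [Group G] [Finite G] (p : ℕ) [Fact p.Prime] (hp : p ≠ 2) (R A : Subgroup G) (hR : IsPGroup p R) (hR1 : R ≠ ⊥) (hr : Cfsg.PRankLE p 2 R)
    (hA : (A ≤ Subgroup.normalizer (R : Set G))) (hcop : (Nat.card A).Coprime p) (hAodd : Odd (Nat.card A)) (hRA : ⁅R, A⁆ = R) :
    3 < p ∧ (IsMulCommutative R ∨ ∃ R₁ R₂ : Subgroup G, R₁ ⊔ R₂ = R ∧ (∀ a ∈ R₁, ∀ b ∈ R₂, a * b = b * a) ∧
        ¬ IsMulCommutative R₁ ∧ Nat.card R₁ = p ^ 3 ∧ Monoid.exponent R₁ = p ∧ IsCyclic R₂ ∧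
        Subgroup.closure {x : G | x ∈ R₂ ∧ x ^ p = 1} = ⁅R₁, R₁⁆) := by
  let ψ : A →* MulAut R := (Subgroup.normalizerMonoidHom R).comp (Subgroup.inclusion hA)
  have hgen : CfsgLib.OddLocal.RankTwo.Generates ψ := by
    have hle : ⁅R, A⁆ ≤ (Subgroup.closure {d : R | ∃ a x, x⁻¹ * ψ a x = d}).map R.subtype := by
      refine Subgroup.commutator_le.2 fun r hr' a ha => ?_
      refine ⟨_, Subgroup.subset_closure ⟨⟨a, ha⟩, (⟨r, hr'⟩ : R)⁻¹, rfl⟩, ?_⟩
      show ((⟨r, hr'⟩ : R)⁻¹⁻¹ : R).1 * (a * r⁻¹ * a⁻¹) = r * a * r⁻¹ * a⁻¹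
      simp only [inv_inv, mul_assoc]
    refine Subgroup.map_injective R.subtype_injective ?_
    rw [← MonoidHom.range_eq_map, Subgroup.range_subtype]
    exact le_antisymm (Subgroup.map_subtype_le _) (le_of_eq_of_le hRA.symm hle)
  obtain ⟨h3, h⟩ := CfsgLib.OddLocal.RankTwo.coprime_structure hp hR
    ((Subgroup.nontrivial_iff_ne_bot R).2 hR1) hr hcop hAodd hgen
  refine ⟨h3, h.imp (fun h => ⟨⟨h⟩⟩) ?_⟩
  rintro ⟨R₁, R₂, hsup, hcomm, hnc, hcard, hexp, hcyc, hcl⟩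
  let e := fun K : Subgroup R => Subgroup.equivMapOfInjective K R.subtype R.subtype_injective
  refine ⟨R₁.map R.subtype, R₂.map R.subtype, ?_, ?_, ?_, ?_, ?_, ?_, ?_⟩
  · rw [← Subgroup.map_sup, hsup, ← MonoidHom.range_eq_map, Subgroup.range_subtype]
  · rintro _ ⟨a, ha, rfl⟩ _ ⟨b, hb, rfl⟩
    exact congrArg Subtype.val (hcomm a ha b hb)
  · exact fun hc => hnc ⟨⟨fun a b => (e R₁).injective (by rw [map_mul, map_mul]; exact hc.is_comm.comm _ _)⟩⟩
  · rw [← hcard]; exact Nat.card_congr (e R₁).symm.toEquiv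
  · rw [← hexp]; exact Monoid.exponent_eq_of_mulEquiv (e R₁).symm
  · exact isCyclic_of_surjective (e R₂) (e R₂).surjective
  · rw [← Subgroup.map_commutator, ← hcl, MonoidHom.map_closure]
    congr 1
    ext x
    constructor
    · rintro ⟨⟨y, hy, rfl⟩, hx⟩
      exact ⟨y, ⟨hy, Subtype.ext hx⟩, rfl⟩
    · rintro ⟨y, ⟨hy, hyp⟩, rfl⟩
      exact ⟨⟨y, hy, rfl⟩, by simpa using congrArg R.subtype hyp⟩

end Cfsg.Agent.S1448
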