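import Cfsg.Statements.S1445
import Cfsg.Agent.Lib.OddLocal.BGAction
import Cfsg.Agent.Lib.OddLocal.Basic
import Cfsg.Agent.Lib.FGS.ThompsonKernel
import Cfsg.Agent.Lib.OddLocal.Ten.Complement
import Cfsg.Agent.Lib.Solvable.Fitting

set_option autoImplicit false
open Cfsg
open scoped commutatorElement

namespace Cfsg.Agent.S1445

open Subgroup CfsgLib.Solvable
open scoped commutatorElement Pointwise

/-- Let G be a solvable group of odd order, K a normal subgroup and R a subgroup with G = KR and the orders of K and R coprime. Suppose K ∩ C_G(x) = K ∩ C_G(R) for every non-identity x ∈ R, and F(K) ∩ C_G(R) = 1. Then [K, R] is contained in the Fitting subgroup of K. -/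
theorem result {G : Type*} [Group G] [Finite G] [Group.IsSolvable G] (hodd : Odd (Nat.card G)) (K R : Subgroup G) [K.Normal] (hKR : K ⊔ R = ⊤) (hcop : (Nat.card K).Coprime (Nat.card R))
    (hprime : ∀ x ∈ R, x ≠ 1 → K ⊓ Subgroup.centralizer ({x} : Set G) = (K ⊓ Subgroup.centralizer (R : Set G)))
    (hF : Cfsg.fittingOf K ⊓ Subgroup.centralizer (R : Set G) = ⊥) :
    ⁅K, R⁆ ≤ Cfsg.fittingOf K := by
  rcases eq_or_ne R ⊥ with rfl | hR
  · rw [commutator_bot_right]; exact bot_le
  obtain ⟨p, hp, hpR⟩ := Nat.exists_prime_and_dvd fun e => hR (Subgroup.card_eq_one.1 e)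
  have : Fact p.Prime := ⟨hp⟩
  obtain ⟨⟨x, hxR⟩, hx⟩ := exists_prime_orderOf_dvd_card' (G := R) p hpR
  rw [Subgroup.orderOf_mk] at hx
  have hx1 : x ≠ 1 := fun e => hp.ne_one (by rw [← hx, e, orderOf_one])
  have hp2 : p ≠ 2 := fun e => Nat.not_even_iff_odd.2 hodd
    (even_iff_two_dvd.2 ((e ▸ hpR).trans (card_subgroup_dvd_card R)))
  have hpK : ¬ p ∣ Nat.card K := fun h => hp.ne_one (Nat.eq_one_of_dvd_coprimes hcop h hpR)
  have hCx : ∀ W : Subgroup G, W ≤ K → ∀ w ∈ W, w * x = x * w → w ∈ W ⊓ centralizer (R : Set G) :=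
    fun W hW w hw hwx => ⟨hw, ((hprime x hxR hx1).le
      ⟨hW hw, mem_centralizer_singleton_iff.2 hwx⟩).2⟩
  have : (fittingSubgroup K).Characteristic := CfsgLib.Cores.fittingSubgroup_characteristic
  set F := fittingOf K with hFdef
  have hFn : F.Normal := ConjAct.normal_of_characteristic_of_normal
  have hFK : F ≤ K := map_subtype_le _
  have hFnil : Group.IsNilpotent F := CfsgLib.OddLocal.isNilpotent_fittingOf K
  have hleF : ∀ D : Subgroup G, D.Normal → D ≤ K → Group.IsNilpotent D → D ≤ F := fun D hD hDK hDn => by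
    rw [hFdef, fittingOf, ← map_subgroupOf_eq_of_le hDK]
    have : (D.subgroupOf K).Normal := normal_subgroupOf
    exact map_mono (CfsgLib.Cores.le_fittingSubgroup
      (Group.nilpotent_of_mulEquiv (_h := hDn) (subgroupOfEquivOfLe hDK).symm))
  set π := QuotientGroup.mk' F
  have hπ : Function.Surjective π := QuotientGroup.mk'_surjective F
  have hKn : (K.map π).Normal := Subgroup.Normal.map inferInstance π hπ
  -- `R` centralises each `O_q(K / F)`
  have key : ∀ q : ℕ, q.Prime → q ∣ Nat.card K → ∀ y ∈ (pCore q ↥(K.map π)).map (K.map π).subtype,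
      ∀ r ∈ R, y * π r = π r * y := by
    intro q hq hqK
    have : Fact q.Prime := ⟨hq⟩
    have hq2 : q ≠ 2 := fun e => Nat.not_even_iff_odd.2 hodd
      (even_iff_two_dvd.2 ((e ▸ hqK).trans (card_subgroup_dvd_card K)))
    have hqp : q ≠ p := fun e => hpK (e ▸ hqK)
    have := CfsgLib.Cores.pCore_characteristic (G := ↥(K.map π)) q
    set P := (pCore q ↥(K.map π)).map (K.map π).subtype with hPdef
    have hPn : P.Normal := ConjAct.normal_of_characteristic_of_normal
    have hPq : IsPGroup q P := (CfsgLib.Cores.isPGroup_pCore q).map _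
    set W := P.comap π with hWdef
    have hWn : W.Normal := hPn.comap π
    have hWK : W ≤ K := by
      intro w hw
      obtain ⟨k, hk, hkw⟩ := map_subtype_le _ (mem_comap.1 hw)
      have : k⁻¹ * w ∈ F := QuotientGroup.eq.1 hkw
      simpa using mul_mem hk (hFK this)
    have hWmap : W.map π = P := map_comap_eq_self_of_surjective hπ P
    obtain ⟨Q₀, hQ₀⟩ := exists_invariant_sylow (A := R) (K := W)
      (by rw [normalizer_eq_top_iff.2 hWn]; exact le_top) (hcop.symm.coprime_dvd_right (card_dvd_of_le hWK))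
      (Or.inl inferInstance) q
    set Q := (Q₀ : Subgroup W).map W.subtype with hQdef
    have hQW : Q ≤ W := map_subtype_le _
    have hQq : IsPGroup q Q := Q₀.isPGroup'.map _
    have hQmap : Q.map π = P := by
      refine le_antisymm ((map_mono hQW).trans hWmap.le) ?_
      intro y hy
      obtain ⟨w, hw, rfl⟩ := mem_map.1 (hWmap.ge hy)
      have hsur : Function.Surjective (π.subgroupMap W) := MonoidHom.subgroupMap_surjective _ _
      have htop : IsPGroup q ↥(⊤ : Subgroup ↥(W.map π)) := by
        refine (hWmap ▸ hPq : IsPGroup q ↥(W.map π)).to_subgroup ⊤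
      have h1 := (Q₀.mapSurjective hsur).is_maximal' htop le_top
      obtain ⟨⟨z, hzW⟩, hz, hzy⟩ := (h1 ▸ mem_top (π.subgroupMap W ⟨w, hw⟩) :
        π.subgroupMap W ⟨w, hw⟩ ∈ ((Q₀.mapSurjective hsur : Sylow q ↥(W.map π)) : Subgroup ↥(W.map π)))
      exact ⟨z, ⟨⟨z, hzW⟩, hz, rfl⟩, congrArg Subtype.val hzy⟩
    -- `O_{q'}(F)`
    have := CfsgLib.Cores.pPrimeCore_characteristic (G := F) q
    set V := (pPrimeCore q F).map F.subtype with hVdef
    have hVn : V.Normal := ConjAct.normal_of_characteristic_of_normal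
    have hVF : V ≤ F := map_subtype_le _
    have htopV : ∀ S : Subgroup G, S ≤ normalizer (V : Set G) := fun S => by
      rw [normalizer_eq_top_iff.2 hVn]; exact le_top
    have hVnil : Group.IsNilpotent V := Group.nilpotent_of_mulEquiv
      (_h := (inferInstance : Group.IsNilpotent (V.subgroupOf F))) (subgroupOfEquivOfLe hVF)
    have hqV : ¬ q ∣ Nat.card V := fun h => hq.ne_one (Nat.eq_one_of_dvd_coprimes
      ((CfsgLib.Cores.coprime_card_pPrimeCore (G := F) q).coprime_dvd_left (Subgroup.card_map_dvd _ _))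
      h dvd_rfl)
    have hxQ : x ∈ normalizer (Q : Set G) := hQ₀ hxR
    have hfix : V ⊓ centralizer ({x} : Set G) = ⊥ := eq_bot_iff.2 fun v hv => by
      have h1 := hCx F hFK v (hVF hv.1) (mem_centralizer_singleton_iff.1 hv.2)
      rwa [hF] at h1
    have hcomm : ⁅Q, zpowers x⁆ ≤ centralizer (V : Set G) :=
      CfsgLib.OddLocal.BG.commutator_le_centralizer_of_fpf hp2 hq2 hqp (hx ▸ pow_orderOf_eq_one x)
        hxQ hQq (htopV Q) (htopV ⊤ (mem_top x)) hVnil
        (fun h => hpK (h.trans (card_dvd_of_le (hVF.trans hFK)))) hqV hfix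
    set D := W ⊓ centralizer (V : Set G) with hDdef
    have hDn : D.Normal := by
      have : (centralizer (V : Set G)).Normal := Subgroup.normal_centralizer
      exact Subgroup.normal_inf_normal _ _
    have hDnil : Group.IsNilpotent D := by
      refine Group.of_quotient_center_nilpotent (IsPGroup.isNilpotent (p := q) fun y => ?_)
      induction y using QuotientGroup.induction_on with
      | _ y =>
        obtain ⟨n, hn⟩ := hPq ⟨π y, mem_comap.1 y.2.1⟩
        have hyF : (y : G) ^ q ^ n ∈ F := (QuotientGroup.eq_one_iff _).1 (by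
          have := congrArg Subtype.val hn
          rw [Subgroup.coe_pow, Subgroup.coe_one] at this
          exact (map_pow π (y : G) _).trans this)
        obtain ⟨m, hm⟩ := CfsgLib.OddLocal.Ten.index_pPrimeCore_eq_pow
          (p := q) (CfsgLib.FGS.hasNormalPComplement_of_isNilpotent (p := q) F)
        have hyV : ((y : G) ^ q ^ n) ^ q ^ m ∈ V := by
          have hn' : (pPrimeCore q F).Normal := Subgroup.sSup_normal _ fun _ h => h.1
          have := (pPrimeCore q F).pow_index_mem (⟨_, hyF⟩ : F)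
          rw [hm] at this
          exact ⟨_, this, rfl⟩
        refine ⟨n + m, ?_⟩
        rw [← QuotientGroup.mk_pow, QuotientGroup.eq_one_iff, mem_center_iff]
        intro z
        refine Subtype.ext ?_
        rw [Subgroup.coe_mul, Subgroup.coe_mul, Subgroup.coe_pow, pow_add, pow_mul]
        exact (mem_centralizer_iff.1 z.2.2 _ hyV).symm
    have hle : ⁅Q, zpowers x⁆ ≤ F := (le_inf ((commutator_le_of_le_normalizer
      (zpowers_le.2 hxQ)).trans hQW) hcomm).trans (hleF D hDn (inf_le_left.trans hWK) hDnil)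
    intro y hy r hr
    obtain ⟨z, hz, rfl⟩ := mem_map.1 (hQmap.ge hy)
    have hcopQ : (Nat.card (zpowers x)).Coprime (Nat.card Q) := by
      rw [Nat.card_zpowers, hx]
      exact (hp.coprime_iff_not_dvd).2 fun h => hpK (h.trans (card_dvd_of_le (hQW.trans hWK)))
    have hdec := commutator_sup_centralizer (zpowers_le.2 hxQ) hcopQ
      (Or.inr (by have := hQq.isNilpotent; infer_instance))
    have hle2 : ⁅Q, zpowers x⁆ ⊔ (Q ⊓ centralizer (zpowers x : Set G)) ≤
        (centralizer ({π r} : Set (G ⧸ F))).comap π := by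
      refine sup_le (fun c hc => mem_comap.2 ?_) fun c hc => mem_comap.2 ?_
      · rw [show π c = 1 from (QuotientGroup.eq_one_iff c).2 (hle hc)]
        exact one_mem _
      · have h1 := hCx Q (hQW.trans hWK) c hc.1 (mem_centralizer_iff.1 hc.2 x (mem_zpowers x)).symm
        refine mem_centralizer_singleton_iff.2 ?_
        rw [← map_mul, ← map_mul, (mem_centralizer_iff.1 h1.2 r hr)]
    exact mem_centralizer_singleton_iff.1 (mem_comap.1 (hle2 (hdec.ge hz)))
  -- hence `R` centralises `F(K / F)`, so `[K, R]` does as well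
  have hcn : (fittingSubgroup ↥(K.map π)).Characteristic := CfsgLib.Cores.fittingSubgroup_characteristic
  set T := (fittingSubgroup ↥(K.map π)).map (K.map π).subtype with hTdef
  have hTn : T.Normal := ConjAct.normal_of_characteristic_of_normal
  have hTR : R.map π ≤ centralizer (T : Set (G ⧸ F)) := by
    rw [le_centralizer_iff, hTdef, CfsgLib.Cores.fittingSubgroup_eq_iSup_pCore, Subgroup.map_iSup,
      iSup_le_iff]
    rintro ⟨q, hq⟩ y hy
    refine mem_centralizer_iff.2 ?_
    rintro _ ⟨r, hr, rfl⟩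
    exact (key q (Nat.prime_of_mem_primeFactors hq)
      ((Nat.dvd_of_mem_primeFactors hq).trans (Subgroup.card_map_dvd _ _)) y hy r hr).symm
  have h3 : ⁅⁅K.map π, R.map π⁆, T⁆ = ⊥ := by
    have hRT : ⁅R.map π, T⁆ = ⊥ := commutator_eq_bot_iff_le_centralizer.2 hTR
    refine commutator_commutator_eq_bot_of_rotate ?_ ?_
    · rw [hRT, commutator_bot_left]
    · refine le_bot_iff.1 ((commutator_mono (commutator_le_left _ _) le_rfl).trans ?_)
      rw [commutator_comm, hRT]
  have hKsol : Group.IsSolvable ↥(K.map π) := inferInstance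
  have hKRT : ⁅K.map π, R.map π⁆ ≤ T := by
    intro y hy
    have hyK : y ∈ K.map π := commutator_le_left _ _ hy
    have h4 : (⟨y, hyK⟩ : ↥(K.map π)) ∈ fittingSubgroup ↥(K.map π) :=
      CfsgLib.Solvable.centralizer_fittingSubgroup_le (mem_centralizer_iff.2 fun t ht => Subtype.ext
        (mem_centralizer_iff.1 (commutator_eq_bot_iff_le_centralizer.1 h3 hy) (t : G ⧸ F)
          (mem_map_of_mem (K.map π).subtype ht)))
    exact ⟨_, h4, rfl⟩
  have h5 : ⁅⁅K.map π, R.map π⁆, R.map π⁆ = ⊥ :=
    le_bot_iff.1 ((commutator_mono hKRT le_rfl).trans (by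
      rw [commutator_comm, commutator_eq_bot_iff_le_centralizer.2 hTR]))
  have h6 : ⁅K.map π, R.map π⁆ = ⊥ := by
    rw [← h5]
    exact (commutator_commutator_self (by rw [normalizer_eq_top_iff.2 hKn]; exact le_top)
      ((hcop.symm.coprime_dvd_left (Subgroup.card_map_dvd _ _)).coprime_dvd_right (Subgroup.card_map_dvd _ _))
      (Or.inr hKsol)).symm
  rw [← map_commutator, Subgroup.map_eq_bot_iff, QuotientGroup.ker_mk'] at h6
  exact h6

end Cfsg.Agent.S1445
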