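import Cfsg.Statements.S1446
import Cfsg.Agent.Lib.OddLocal.PrimeAction.CyclicFix
import Cfsg.Agent.Lib.OddLocal.FrobeniusAction
import Cfsg.Agent.Lib.FGS.ThompsonKernel
import Cfsg.Agent.Lib.OddLocal.ActionTools

set_option autoImplicit false
open Cfsg
open scoped commutatorElement

namespace Cfsg.Agent.S1446

open Subgroup CfsgLib.Solvable CfsgLib.OddChar.FrobFix
open scoped commutatorElement

/-- The prime order of `R`. -/
theorem prime_card {X : Type*} [Group X] [Finite X] (K R M : Subgroup X) (hR1 : R ≠ ⊥)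
    (hRK : R ≤ normalizer (K : Set X)) (hfrob : ∀ r ∈ R, r ≠ 1 → K ⊓ centralizer ({r} : Set X) = ⊥)
    (hM1 : M ≠ ⊥) (hMn : Group.IsNilpotent M) (hKM : K ≤ normalizer (M : Set X))
    (hRM : R ≤ normalizer (M : Set X)) (hcop : (Nat.card K).Coprime (Nat.card M))
    (hCK : M ⊓ centralizer (K : Set X) = ⊥)
    (hpr : ∀ x ∈ R, x ≠ 1 → M ⊓ centralizer ({x} : Set X) = M ⊓ centralizer (R : Set X)) :
    (Nat.card R).Prime := by
  obtain ⟨p, hp, hpR⟩ := Nat.exists_prime_and_dvd fun e => hR1 (Subgroup.card_eq_one.1 e)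
  have : Fact p.Prime := ⟨hp⟩
  obtain ⟨⟨x, hxR⟩, hx⟩ := exists_prime_orderOf_dvd_card' (G := R) p hpR
  rw [Subgroup.orderOf_mk] at hx
  have hx1 : x ≠ 1 := fun e => hp.ne_one (by rw [← hx, e, orderOf_one])
  by_contra hnp
  obtain ⟨k, hkR, hk⟩ : ∃ k ∈ R, k ∉ zpowers x := by
    by_contra h
    push Not at h
    apply hnp
    rw [show R = zpowers x from le_antisymm h (zpowers_le.2 hxR), Nat.card_zpowers, hx]
    exact hp
  set Z := (center M).map M.subtype with hZdef
  have hZM : Z ≤ M := map_subtype_le _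
  have hNZ : normalizer (M : Set X) ≤ normalizer (Z : Set X) :=
    CfsgLib.OddLocal.normalizer_le_normalizer_map_characteristic (center M)
  have hZc : ∀ a b : Z, a * b = b * a := fun a b => Subtype.ext (by
    obtain ⟨a', ha', ea⟩ := a.2
    obtain ⟨b', hb', eb⟩ := b.2
    show (a : X) * b = b * a
    rw [← ea, ← eb, ← map_mul, ← map_mul, mem_center_iff.1 hb' a'])
  let cg : CommGroup Z := { (inferInstance : Group Z) with mul_comm := hZc }
  let N := normalizer (Z : Set X)
  let φ : N →* MulAut Z := normalizerMonoidHom Z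
  have := Fintype.ofFinite ↥(K.subgroupOf N)
  have := Fintype.ofFinite ↥((zpowers x).subgroupOf N)
  have hxN : x ∈ N := hNZ (hRM hxR)
  have hcast : ∀ {a : N} {u : N}, (a : X) ∈ R → (a : X) ≠ 1 → u ∈ K.subgroupOf N → u * a = a * u → u = 1 :=
    fun {a u} ha ha1 hu hc => Subtype.ext (mem_bot.1 ((hfrob _ ha ha1).le
      ⟨mem_subgroupOf.1 hu, mem_centralizer_singleton_iff.2 (congrArg Subtype.val hc)⟩))
  have hnK : ∀ a : N, (a : X) ∈ R → a ∈ normalizer ((K.subgroupOf N : Subgroup N) : Set N) := fun a ha =>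
    mem_normalizer_iff.2 fun y => mem_normalizer_iff.1 (hRK ha) (y : X)
  have hone : ∀ v : Z, v = 1 := fun v => by
    refine CfsgLib.OddLocal.eq_one_of_frobenius_prime_action φ (K.subgroupOf N) ?_ ?_
      ((zpowers x).subgroupOf N) (k := ⟨k, hNZ (hRM hkR)⟩) (fun h => hk (mem_subgroupOf.1 h))
      (fun a ha => hnK a (zpowers_le.2 hxR (mem_subgroupOf.1 ha))) (hnK _ hkR) ?_ ?_ ?_ v
    · intro w hw
      refine Subtype.ext (mem_bot.1 (hCK.le ⟨hZM w.2, mem_centralizer_iff.2 fun u hu => ?_⟩))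
      have h1 := congrArg Subtype.val (hw ⟨u, hNZ (hKM hu)⟩ (mem_subgroupOf.2 hu))
      exact mul_inv_eq_iff_eq_mul.1 h1
    · refine Nat.Coprime.coprime_dvd_right (card_dvd_of_le hZM) (Nat.Coprime.coprime_dvd_left ?_ hcop)
      rw [Nat.card_congr (subgroupOfEquivOfLe (hKM.trans hNZ)).toEquiv]
    · exact fun a ha ha1 u hu hc => hcast (zpowers_le.2 hxR (mem_subgroupOf.1 ha))
        (fun e => ha1 (Subtype.ext e)) hu hc
    · intro a ha u hu hc
      refine hcast (R.mul_mem hkR (zpowers_le.2 hxR (mem_subgroupOf.1 ha))) (fun e => hk ?_) hu hc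
      rw [show k = ((a : X))⁻¹ from eq_inv_of_mul_eq_one_left e]
      exact inv_mem (mem_subgroupOf.1 ha)
    · intro w hw
      have h1 : (w : X) ∈ M ⊓ centralizer (R : Set X) := (hpr x hxR hx1).le ⟨hZM w.2,
        mem_centralizer_singleton_iff.2 (mul_inv_eq_iff_eq_mul.1
          (congrArg Subtype.val (hw ⟨x, hxN⟩ (mem_subgroupOf.2 (mem_zpowers x))))).symm⟩
      exact Subtype.ext (mul_inv_eq_iff_eq_mul.2 (mem_centralizer_iff.1 h1.2 k hkR))
  have : Nontrivial M := (nontrivial_iff_ne_bot M).2 hM1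
  refine (Group.IsNilpotent.center_ne_bot M) ((eq_bot_iff_forall _).2 fun z hz => ?_)
  have h0 := congrArg Subtype.val (hone ⟨(z : X), mem_map_of_mem _ hz⟩)
  exact Subtype.ext h0

/-- Let X be a finite group with subgroups K, R, M such that: K and R are nontrivial, K ∩ R = 1, R normalizes K, no non-identity element of R centralizes a non-identity element of K, K ⊔ R is solvable of odd order; M is nilpotent and nontrivial, normalized by K and by R, with order coprime to that of K ⊔ R, M ∩ C(K) = 1, and M ∩ C(x) = M ∩ C(R) for all non-identity x ∈ R. Then R has prime order p, #M = #(M ∩ C(R)) ^ p, and if M ∩ C(R) is cyclic then [K, K] centralizes M. -/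
theorem result {X : Type*} [Group X] [Finite X] (K R M : Subgroup X) (hK1 : K ≠ ⊥) (hR1 : R ≠ ⊥) (hKR : K ⊓ R = ⊥)
    (hRK : R ≤ Subgroup.normalizer (K : Set X)) (hfrob : ∀ r ∈ R, r ≠ 1 → K ⊓ Subgroup.centralizer ({r} : Set X) = ⊥)
    (hsolv : Group.IsSolvable ↥(K ⊔ R)) (hodd : Odd (Nat.card ↥(K ⊔ R)))
    (hM1 : M ≠ ⊥) (hMn : Group.IsNilpotent M) (hKM : K ≤ Subgroup.normalizer (M : Set X)) (hRM : R ≤ Subgroup.normalizer (M : Set X))
    (hcop : (Nat.card ↥(K ⊔ R)).Coprime (Nat.card M)) (hCK : M ⊓ Subgroup.centralizer (K : Set X) = ⊥)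
    (hpr : ∀ x ∈ R, x ≠ 1 → M ⊓ Subgroup.centralizer ({x} : Set X) = M ⊓ Subgroup.centralizer (R : Set X)) :
    (Nat.card R).Prime ∧ Nat.card M = Nat.card ↥(M ⊓ Subgroup.centralizer (R : Set X)) ^ Nat.card R ∧
      (IsCyclic ↥(M ⊓ Subgroup.centralizer (R : Set X)) → ⁅K, K⁆ ≤ Subgroup.centralizer (M : Set X)) := by
  have hprime := prime_card K R M hR1 hRK hfrob hM1 hMn hKM hRM
    (hcop.coprime_dvd_left (card_dvd_of_le le_sup_left)) hCK hpr
  set Y := K ⊔ R with hY
  have hYM : Y ≤ normalizer (M : Set X) := sup_le hKM hRM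
  have : Fact (Nat.card R).Prime := ⟨hprime⟩
  -- `K` is nilpotent
  have hKnil : Group.IsNilpotent K := by
    obtain ⟨x, hxR, hx1⟩ : ∃ x ∈ R, x ≠ 1 := by
      by_contra h
      push Not at h
      exact hR1 ((eq_bot_iff_forall R).2 h)
    have : (K.subgroupOf Y).Normal :=
      (normal_subgroupOf_iff_le_normalizer le_sup_left).2 (sup_le le_normalizer hRK)
    have h1 : Group.IsNilpotent ↥(K.subgroupOf Y) := by
      refine CfsgLib.FGS.isNilpotent_of_fpf_element (K.subgroupOf Y) hprime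
        (h := (⟨x, mem_sup_right hxR⟩ : Y)) ?_ fun n hn hc => Subtype.ext (mem_bot.1 ((hfrob x hxR hx1).le
          ⟨mem_subgroupOf.1 hn, mem_centralizer_singleton_iff.2 (congrArg Subtype.val hc)⟩))
      rw [Subgroup.orderOf_mk]
      refine ((Nat.dvd_prime hprime).1 (Subgroup.orderOf_dvd_natCard R hxR)).resolve_left
        fun e => hx1 (orderOf_eq_one_iff.1 e)
    exact Group.nilpotent_of_mulEquiv (_h := h1) (subgroupOfEquivOfLe le_sup_left)
  have hF : Frob K R :=
    { norm := fun e he u hu => (mem_normalizer_iff.1 (hRK he) u).1 hu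
      fpf := fun e he he1 u hu hc => mem_bot.1 ((hfrob e he he1).le
        ⟨hu, mem_centralizer_singleton_iff.2 hc.symm⟩)
      nil := hKnil }
  have hMsol : Group.IsSolvable M := inferInstance
  have hform := card_inf_centralizer_formula hF (H := M)
    (fun x hx a ha => (mem_normalizer_iff.1 (hYM hx) a).1 ha) hMsol hcop.symm
  have hCY : M ⊓ centralizer ((K ⊔ R : Subgroup X) : Set X) = ⊥ :=
    le_bot_iff.1 (hCK ▸ inf_le_inf_left M (centralizer_le (SetLike.coe_subset_coe.2 le_sup_left)))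
  rw [hCY, hCK, card_bot, one_pow, one_mul, mul_one] at hform
  refine ⟨hprime, hform, fun hcyc => ?_⟩
  let ψ : Y →* MulAut M := (normalizerMonoidHom M).comp (inclusion hYM)
  -- fixed points of quotients come from fixed points
  have hlift : ∀ (N : Subgroup M) [N.Characteristic] (A : Subgroup X), A ≤ Y → ∀ m : M,
      (∀ a (ha : a ∈ A) (hY : a ∈ Y), (ψ ⟨a, hY⟩ m : M ⧸ N) = (m : M ⧸ N)) →
      ∃ n : M, n ∈ N ∧ ((n * m : M) : X) ∈ centralizer (A : Set X) := by
    intro N _ A hAY m hm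
    have hA : A ≤ normalizer ((N.map M.subtype : Subgroup X) : Set X) :=
      (hAY.trans hYM).trans (CfsgLib.OddLocal.normalizer_le_normalizer_map_characteristic N)
    obtain ⟨_, ⟨n, hn, rfl⟩, hc⟩ := exists_mul_mem_centralizer A (N.map M.subtype) hA
      ((hcop.coprime_dvd_left (card_dvd_of_le hAY)).coprime_dvd_right (card_dvd_of_le (map_subtype_le N)))
      (Or.inr (isSolvable_of_le hMsol (map_subtype_le N))) (m : X) (fun a ha => by
        have h1 := QuotientGroup.eq.1 (hm a ha (hAY ha))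
        have h2 : (ψ ⟨a, hAY ha⟩ m) * m⁻¹ ∈ N := by
          have h3 := inv_mem ((inferInstance : N.Normal).conj_mem _ h1 m)
          simpa [mul_assoc] using h3
        refine ⟨_, h2, ?_⟩
        show a * (m : X) * a⁻¹ * (m : X)⁻¹ = ⁅a, (m : X)⁆
        rw [commutatorElement_def])
    exact ⟨n, hn, hc⟩
  refine commutator_le.2 fun a ha b hb => mem_centralizer_iff.2 fun m hm => ?_
  set c := ⁅a, b⁆ with hc
  have hcK : c ∈ K := K.mul_mem (K.mul_mem (K.mul_mem ha hb) (K.inv_mem ha)) (K.inv_mem hb)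
  suffices h : (M ⊓ centralizer ({c} : Set X)).subgroupOf M = ⊤ by
    have h1 : (m : X) ∈ M ⊓ centralizer ({c} : Set X) := mem_subgroupOf.1 (h ▸ mem_top (⟨m, hm⟩ : M))
    exact mem_centralizer_singleton_iff.1 h1.2
  by_contra hne
  obtain ⟨Mx, hMx, hle⟩ := (eq_top_or_exists_le_coatom _).resolve_left hne
  have : Mx.Normal := NormalizerCondition.normal_of_coatom Mx Group.normalizerCondition_of_isNilpotent hMx
  -- the quotient by `Mx` has prime order
  have : Nontrivial (M ⧸ Mx) := QuotientGroup.nontrivial_iff.2 hMx.1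
  obtain ⟨r, hr, hrd⟩ := Nat.exists_prime_and_dvd (n := Nat.card (M ⧸ Mx))
    (by have := Finite.one_lt_card (α := M ⧸ Mx); omega)
  have : Fact r.Prime := ⟨hr⟩
  obtain ⟨y, hy⟩ := exists_prime_orderOf_dvd_card' (G := M ⧸ Mx) r hrd
  have hytop : zpowers y = ⊤ := by
    have hsur := QuotientGroup.mk'_surjective Mx
    rcases hMx.le_iff.1 (show Mx ≤ (zpowers y).comap (QuotientGroup.mk' Mx) from fun z hz =>
        mem_comap.2 (by rw [show QuotientGroup.mk' Mx z = 1 from (QuotientGroup.eq_one_iff z).2 hz]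
                        exact one_mem _)) with h | h
    · rw [← map_comap_eq_self_of_surjective hsur (zpowers y), h, map_top_of_surjective _ hsur]
    · have h1 : zpowers y = ⊥ := by
        rw [← map_comap_eq_self_of_surjective hsur (zpowers y), h, Subgroup.map_eq_bot_iff,
          QuotientGroup.ker_mk']
      exact absurd (hy ▸ orderOf_eq_one_iff.2 (mem_bot.1 (h1 ▸ mem_zpowers y))) hr.ne_one
  let N : Subgroup M := closure {z | (∃ u v : M, ⁅u, v⁆ = z) ∨ ∃ u : M, u ^ r = z}
  have hNc : N.Characteristic := characteristic_iff_map_le.2 fun f => by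
    rw [MonoidHom.map_closure]
    refine closure_mono ?_
    rintro _ ⟨z, (⟨u, v, rfl⟩ | ⟨u, rfl⟩), rfl⟩
    · exact Or.inl ⟨f u, f v, (map_commutatorElement _ _ _).symm⟩
    · exact Or.inr ⟨f u, (map_pow _ _ _).symm⟩
  have hNMx : N ≤ Mx := by
    refine (closure_le _).2 ?_
    rintro z (⟨u, v, rfl⟩ | ⟨u, rfl⟩) <;> refine (QuotientGroup.eq_one_iff _).1 ?_
    · show QuotientGroup.mk' Mx ⁅u, v⁆ = 1
      rw [map_commutatorElement, commutatorElement_eq_one_iff_mul_comm]
      obtain ⟨i, hi⟩ := mem_zpowers_iff.1 (hytop.ge (mem_top (QuotientGroup.mk' Mx u)))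
      obtain ⟨j, hj⟩ := mem_zpowers_iff.1 (hytop.ge (mem_top (QuotientGroup.mk' Mx v)))
      rw [← hi, ← hj, ← zpow_add, ← zpow_add, add_comm]
    · show QuotientGroup.mk' Mx (u ^ r) = 1
      rw [map_pow, ← orderOf_dvd_iff_pow_eq_one]
      refine (_root_.orderOf_dvd_natCard (QuotientGroup.mk' Mx u)).trans (dvd_of_eq ?_)
      rw [← card_top (G := M ⧸ Mx), ← hytop, Nat.card_zpowers, hy]
  have hcommV : ∀ u v : M ⧸ N, u * v = v * u := fun u v => by
    induction u using QuotientGroup.induction_on with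
    | _ u =>
      induction v using QuotientGroup.induction_on with
      | _ v =>
        rw [← commutatorElement_eq_one_iff_mul_comm]
        show QuotientGroup.mk' N ⁅u, v⁆ = 1
        exact (QuotientGroup.eq_one_iff _).2 (Subgroup.subset_closure (Or.inl ⟨u, v, rfl⟩))
  let cgV : CommGroup (M ⧸ N) := { (inferInstance : Group (M ⧸ N)) with mul_comm := hcommV }
  have hchar : ∀ t, ∀ n ∈ N, ψ t n ∈ N := fun t n hn =>
    characteristic_iff_map_le.1 hNc (ψ t) (mem_map_of_mem (ψ t).toMonoidHom hn)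
  let φ := quoAut ψ N hchar
  have hrM : r ∣ Nat.card M := hrd.trans (card_quotient_dvd_card Mx)
  have hexp : ∀ v : M ⧸ N, v ^ r = 1 := fun v => by
    induction v using QuotientGroup.induction_on with
    | _ v => exact (QuotientGroup.eq_one_iff _).2 (Subgroup.subset_closure (Or.inr ⟨v, rfl⟩))
  have hUfix : fixG φ (K.subgroupOf Y) = ⊥ := by
    rw [eq_bot_iff]
    intro v hv
    obtain ⟨m, rfl⟩ := QuotientGroup.mk_surjective v
    obtain ⟨n, hn, hnc⟩ := hlift N K le_sup_left m fun a ha haY => hv ⟨a, haY⟩ (mem_subgroupOf.2 ha)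
    have h1 : n * m = 1 := Subtype.ext (mem_bot.1 (hCK.le ⟨(n * m).2, hnc⟩))
    refine mem_bot.2 ((QuotientGroup.eq_one_iff m).2 ?_)
    rw [eq_inv_of_mul_eq_one_right h1]
    exact inv_mem hn
  have hEfix : Nat.card (fixG φ (R.subgroupOf Y)) ≤ r := by
    let D := ((M ⊓ centralizer (R : Set X)).subgroupOf M).map (QuotientGroup.mk' N)
    have hle' : fixG φ (R.subgroupOf Y) ≤ D := by
      intro v hv
      obtain ⟨m, rfl⟩ := QuotientGroup.mk_surjective v
      obtain ⟨n, hn, hnc⟩ := hlift N R le_sup_right m fun a ha haY => hv ⟨a, haY⟩ (mem_subgroupOf.2 ha)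
      refine ⟨n * m, mem_subgroupOf.2 ⟨(n * m).2, hnc⟩, ?_⟩
      show QuotientGroup.mk' N (n * m) = _
      rw [map_mul, show QuotientGroup.mk' N n = 1 from (QuotientGroup.eq_one_iff n).2 hn, one_mul]
      rfl
    have : IsCyclic ↥((M ⊓ centralizer (R : Set X)).subgroupOf M) :=
      isCyclic_of_surjective (subgroupOfEquivOfLe inf_le_left).symm
        (subgroupOfEquivOfLe (inf_le_left : M ⊓ centralizer (R : Set X) ≤ M)).symm.surjective
    have : IsCyclic D := isCyclic_of_surjective ((QuotientGroup.mk' N).subgroupMap _)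
      (MonoidHom.subgroupMap_surjective _ _)
    refine (card_le_of_le hle').trans ?_
    rw [← IsCyclic.exponent_eq_card]
    exact Nat.le_of_dvd hr.pos (Monoid.exponent_dvd_of_forall_pow_eq_one fun v => Subtype.ext (hexp v))
  have haY : a ∈ Y := mem_sup_left ha
  have hbY : b ∈ Y := mem_sup_left hb
  have hφ := CfsgLib.OddLocal.PrimeAction.comm_of_cyclic_fixed hF hprime φ hr hexp
    (hcop.symm.coprime_dvd_left hrM) hUfix hEfix (a := ⟨a, haY⟩) (b := ⟨b, hbY⟩) ha hb
  have hcY : c ∈ Y := mem_sup_left hcK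
  have hφc : φ ⟨c, hcY⟩ = 1 := by
    rw [show (⟨c, hcY⟩ : Y) = ⁅(⟨a, haY⟩ : Y), ⟨b, hbY⟩⁆ from Subtype.ext rfl, map_commutatorElement,
      commutatorElement_eq_one_iff_mul_comm.2 hφ]
  refine hMx.1 (top_le_iff.1 fun m _ => ?_)
  obtain ⟨n, hn, hnc⟩ := hlift N (zpowers c) (zpowers_le.2 hcY) m fun d hd hdY => by
    obtain ⟨i, rfl⟩ := mem_zpowers_iff.1 hd
    have h1 : φ ⟨c ^ i, hdY⟩ = 1 := by
      rw [show (⟨c ^ i, hdY⟩ : Y) = (⟨c, hcY⟩ : Y) ^ i from Subtype.ext (by simp), map_zpow, hφc, one_zpow]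
    exact DFunLike.congr_fun h1 (m : M ⧸ N)
  have h1 : n * m ∈ Mx := hle (mem_subgroupOf.2 ⟨(n * m).2,
    mem_centralizer_singleton_iff.2 (mem_centralizer_iff.1 hnc c (mem_zpowers c)).symm⟩)
  exact (mul_mem_cancel_left (hNMx hn)).1 h1

end Cfsg.Agent.S1446
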