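import Cfsg.Statements.S1453
import Cfsg.Agent.Lib.OddLocal.Ten.Narrow
import Cfsg.Agent.Lib.OddLocal.RankTwo.Narrow

set_option autoImplicit false
open Cfsg
open scoped commutatorElement

namespace Cfsg.Agent.S1453

open Subgroup CfsgLib.PGroup
open scoped commutatorElement

/-- Let p be an odd prime and R a finite p-group with an elementary abelian subgroup of order p ^ 3 and an elementary abelian subgroup E of order p ^ 2 contained in no larger elementary abelian subgroup. Let Z₂ be the second centre of R, W the subgroup generated by the elements of Z₂ of order dividing p, and T = C_R(W). Then E is not contained in T; the elements of order dividing p of the centre of R generate a group of order p; W is elementary abelian of order p ^ 2; and T is characteristic in R of index p. -/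
theorem result {R : Type*} [Group R] [Finite R] (p : ℕ) [Fact p.Prime] (hp : p ≠ 2) (hR : IsPGroup p R) (hr : ¬ Cfsg.PRankLE p 2 R)
    (E : Subgroup R) (hE : Cfsg.IsElementaryAbelian p E) (hE2 : Nat.card E = p ^ 2)
    (hEmax : ∀ B : Subgroup R, Cfsg.IsElementaryAbelian p B → E ≤ B → B = E) :
    ¬ E ≤ Subgroup.centralizer ((Subgroup.closure {x : R | x ∈ Subgroup.upperCentralSeries R 2 ∧ x ^ p = 1} : Subgroup R) : Set R) ∧
      Nat.card ↥(Subgroup.closure {x : R | x ∈ Subgroup.center R ∧ x ^ p = 1}) = p ∧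
      (Cfsg.IsElementaryAbelian p (Subgroup.closure {x : R | x ∈ Subgroup.upperCentralSeries R 2 ∧ x ^ p = 1}) ∧
        Nat.card ↥(Subgroup.closure {x : R | x ∈ Subgroup.upperCentralSeries R 2 ∧ x ^ p = 1}) = p ^ 2) ∧
      (Subgroup.centralizer ((Subgroup.closure {x : R | x ∈ Subgroup.upperCentralSeries R 2 ∧ x ^ p = 1} : Subgroup R) : Set R)).Characteristic ∧
      (Subgroup.centralizer ((Subgroup.closure {x : R | x ∈ Subgroup.upperCentralSeries R 2 ∧ x ^ p = 1} : Subgroup R) : Set R)).index = p := by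
  have hp' := (Fact.out : p.Prime)
  have hCA : ∀ v : R, v ^ p = 1 → (∀ e ∈ E, e * v = v * e) → v ∈ E := fun v hv hc => by
    have h := hEmax _ (elemAb_sup hE (elemAb_zpowers hv) fun a ha b hb => by
      obtain ⟨i, rfl⟩ := mem_zpowers_iff.1 hb
      exact ((show Commute a v from hc a ha).zpow_right i).eq) le_sup_left
    exact h ▸ mem_sup_right (mem_zpowers v)
  obtain ⟨B, hB, hBc⟩ := CfsgLib.Cores.not_pRankLE_two_iff.1 hr
  have h23 : p ^ 2 < p ^ 3 := Nat.pow_lt_pow_right hp'.one_lt (by norm_num)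
  have hlt : p < p ^ 2 := lt_self_pow₀ hp'.one_lt (by norm_num)
  obtain ⟨U, hUn, hU, hUc⟩ := CfsgLib.RankGraph.exists_normal_sq hR hr
  have hU1 : U ≠ ⊥ := fun e => by
    rw [e, card_bot] at hUc
    exact (Nat.one_lt_pow (by norm_num) hp'.one_lt).ne hUc
  obtain ⟨Z, hZU, hZZ, hZn, hZc⟩ := exists_card_eq_le_center hR U hU1
  have hZp : ∀ z ∈ Z, z ^ p = 1 := fun z hz => hU.2 z (hZU hz)
  have hcen : ∀ z ∈ center R, ∀ e : R, e * z = z * e := fun z hz e => mem_center_iff.1 hz e
  have hZE : Z ≤ E := fun z hz => hCA z (hZp z hz) fun e _ => hcen z (hZZ hz) e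
  have hcomm : ∀ {Y : Subgroup R} {y : R}, Z ≤ Y → y ∈ E → y ∉ Z → y ∈ Y → E ≤ Y := fun hZY hy hyZ hyY =>
    (CfsgLib.OddLocal.Ten.sup_zpowers_eq_of_sq hE hE2 hZE hZc hy hyZ).ge.trans
      (sup_le hZY (zpowers_le.2 hyY))
  have hom : ∀ y ∈ center R, y ^ p = 1 → y ∈ Z := fun y hy hyp => by
    by_contra hyZ
    have hEC := hcomm hZZ (hCA y hyp fun e _ => hcen y hy e) hyZ hy
    exact h23.not_ge (hBc.trans ((card_le_of_le fun b hb =>
      hCA b (hB.2 b hb) fun e he => (hcen e (hEC he) b).symm).trans_eq hE2))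
  let S : Subgroup R :=
    { carrier := {x | x ^ p = 1 ∧ ∀ r, ⁅x, r⁆ ∈ Z}
      one_mem' := ⟨one_pow p, fun r => by rw [commutatorElement_one_left]; exact one_mem Z⟩
      inv_mem' := fun {x} hx => ⟨by rw [inv_pow, hx.1, inv_one], fun r => by
        have h1 : ⁅x⁻¹, r⁆ = x⁻¹ * ⁅x, r⁆⁻¹ * x := by
          simp only [commutatorElement_def]; group
        rw [h1]
        simpa using hZn.conj_mem _ (inv_mem (hx.2 r)) x⁻¹⟩
      mul_mem' := fun {x y} hx hy => ⟨by
        rw [mul_pow_of_comm_mem_center (hZZ (hy.2 x)), hx.1, hy.1, one_mul, one_mul]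
        obtain ⟨k, hk⟩ := hp'.dvd_choose_self two_ne_zero (lt_of_le_of_ne hp'.two_le (Ne.symm hp))
        rw [hk, pow_mul, hZp _ (hy.2 x), one_pow], fun r => by
        have h1 : ⁅x * y, r⁆ = x * ⁅y, r⁆ * x⁻¹ * ⁅x, r⁆ := by
          simp only [commutatorElement_def]; group
        rw [h1]
        exact mul_mem (hZn.conj_mem _ (hy.2 r) x) (hx.2 r)⟩ }
  have hSmem : ∀ x, x ∈ S ↔ x ^ p = 1 ∧ ∀ r, ⁅x, r⁆ ∈ Z := fun x => Iff.rfl
  have hUS : U ≤ S := fun u hu => ⟨hU.2 u hu, fun r => by
    have : (U.map (QuotientGroup.mk' Z)).Normal := hUn.map _ (QuotientGroup.mk'_surjective Z)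
    have hquot := le_center_of_card_eq (p := p) (hR.to_quotient Z) (U.map (QuotientGroup.mk' Z)) (by
      rw [← relIndex_eq_card_map]
      refine Nat.eq_of_mul_eq_mul_left hp'.pos ?_
      rw [← pow_two, ← hUc]
      conv_lhs => rw [← hZc]
      rw [← relIndex_bot_left, ← relIndex_bot_left, relIndex_mul_relIndex ⊥ Z U bot_le hZU])
    rw [← QuotientGroup.eq_one_iff, ← QuotientGroup.mk'_apply, map_commutatorElement]
    exact commutatorElement_eq_one_iff_mul_comm.2 (mem_center_iff.1 (hquot (mem_map_of_mem _ hu)) _).symm⟩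
  obtain ⟨a, haE, haZ⟩ : ∃ a ∈ E, a ∉ Z := by
    by_contra h
    push Not at h
    exact hlt.not_ge (hE2 ▸ hZc ▸ card_le_of_le (show E ≤ Z from h))
  have hgen := CfsgLib.OddLocal.Ten.sup_zpowers_eq_of_sq hE hE2 hZE hZc haE haZ
  have hCa : ∀ v : R, v ^ p = 1 → v * a = a * v → v ∈ E := fun v hv hc => hCA v hv fun e he =>
    mem_centralizer_singleton_iff.1 ((sup_le (fun z hz => mem_centralizer_singleton_iff.2
      (hcen z (hZZ hz) v).symm) (zpowers_le.2 (mem_centralizer_singleton_iff.2 hc.symm))) (hgen.ge he))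
  have haS : a ∉ S := fun h => by
    have h1 := CfsgLib.OddLocal.RankTwo.card_le_card_mul_centralizer (N := B) (H := Z) a fun b _ => by
      rw [← commutatorElement_inv]; exact inv_mem (h.2 b)
    have hle : B ⊓ centralizer ({a} : Set R) ≤ E := fun b hb =>
      hCa b (hB.2 b hb.1) (mem_centralizer_singleton_iff.1 hb.2)
    have heq : B ⊓ centralizer ({a} : Set R) = E := eq_of_le_of_card_ge hle (by
      rw [hE2]
      refine Nat.le_of_mul_le_mul_left ?_ hp'.pos
      rw [← pow_succ']
      exact hBc.trans (hZc ▸ h1))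
    have hBE : B ≤ E := fun b hb => hCA b (hB.2 b hb) fun e he => elemAb_comm hB (heq.ge he).1 hb
    exact h23.not_ge (hBc.trans ((card_le_of_le hBE).trans_eq hE2))
  have hZS : Z ≤ S := hZU.trans hUS
  have hSU : S = U := by
    refine (eq_of_le_of_card_ge hUS ?_).symm
    have h1 := CfsgLib.OddLocal.RankTwo.card_le_card_mul_centralizer (N := S) (H := Z) a fun x hx => hx.2 a
    rw [hUc, pow_two]
    refine h1.trans ?_
    rw [hZc]
    refine Nat.mul_le_mul_left _ (hZc ▸ card_le_of_le fun x hx => ?_)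
    by_contra hxZ
    exact haS (hcomm hZS (hCa x hx.1.1 (mem_centralizer_singleton_iff.1 hx.2)) hxZ hx.1 haE)
  obtain ⟨u, huU, huZ⟩ : ∃ u ∈ U, u ∉ Z := by
    by_contra h
    push Not at h
    exact hlt.not_ge (hUc ▸ hZc ▸ card_le_of_le (show U ≤ Z from h))
  have hset : ∀ x, (x ∈ Subgroup.upperCentralSeries R 2 ∧ x ^ p = 1) ↔ x ∈ U := fun x => by
    rw [← hSU, hSmem, Subgroup.mem_upperCentralSeries_succ_iff, Subgroup.upperCentralSeries_one]
    constructor
    · rintro ⟨h, hxp⟩
      refine ⟨hxp, fun r => hom _ (h r) ?_⟩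
      rw [← comm_pow_left (h r), hxp, commutatorElement_one_left]
    · exact fun h => ⟨fun r => hZZ (h.2 r), h.1⟩
  have hW : Subgroup.closure {x : R | x ∈ Subgroup.upperCentralSeries R 2 ∧ x ^ p = 1} = U := by
    rw [show {x : R | x ∈ Subgroup.upperCentralSeries R 2 ∧ x ^ p = 1} = (U : Set R) from Set.ext hset,
      closure_eq]
  have hUchar : U.Characteristic := characteristic_iff_map_le.2 fun φ => by
    rintro _ ⟨x, hx, rfl⟩
    obtain ⟨h1, h2⟩ := (hset x).2 hx
    refine (hset _).1 ⟨?_, by rw [← map_pow, h2, map_one]⟩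
    exact characteristic_iff_map_le.1 (inferInstance : (Subgroup.upperCentralSeries R 2).Characteristic) φ
      (mem_map_of_mem _ h1)
  rw [hW]
  refine ⟨fun h => ?_, ?_, ⟨hU, hUc⟩, inferInstance, ?_⟩
  · have huE : u ∈ E := hCA u (hU.2 u huU) fun e he => (mem_centralizer_iff.1 (h he) u huU).symm
    exact haS (hcomm hZS huE huZ (hUS huU) haE)
  · rw [show {x : R | x ∈ Subgroup.center R ∧ x ^ p = 1} = (Z : Set R) from Set.ext fun x =>
      ⟨fun h => hom x h.1 h.2, fun h => ⟨hZZ h, hZp x h⟩⟩, closure_eq, hZc]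
  · have hne : ¬ (⊤ : Subgroup R) ≤ centralizer ({u} : Set R) := fun h => huZ (hom u
      (mem_center_iff.2 fun g => mem_centralizer_singleton_iff.1 (h (mem_top g))) (hU.2 u huU))
    have hk := card_inf_centralizer_mul hZZ hZc (K := (⊤ : Subgroup R))
      (fun k _ => by rw [← commutatorElement_inv]; exact inv_mem ((hUS huU).2 k)) hne
    rw [top_inf_eq, card_top, ← card_mul_index (centralizer ({u} : Set R))] at hk
    have hgenU := CfsgLib.OddLocal.Ten.sup_zpowers_eq_of_sq hU hUc hZU hZc huU huZ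
    have heq : centralizer (U : Set R) = centralizer ({u} : Set R) := by
      refine le_antisymm (fun g hg => mem_centralizer_singleton_iff.2
        (mem_centralizer_iff.1 hg u huU).symm) fun g hg => mem_centralizer_iff.2 fun w hw => ?_
      exact mem_centralizer_singleton_iff.1 ((sup_le (fun z hz => mem_centralizer_singleton_iff.2
        (hcen z (hZZ hz) g).symm) (zpowers_le.2 (mem_centralizer_singleton_iff.2
          (mem_centralizer_singleton_iff.1 hg).symm))) (hgenU.ge hw))
    rw [heq]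
    exact (Nat.eq_of_mul_eq_mul_left Nat.card_pos hk).symm

end Cfsg.Agent.S1453
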