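import Cfsg.Statements.S1454
import Cfsg.Agent.Lib.OddLocal.RankTwo.NarrowStructure

set_option autoImplicit false
open Cfsg
open scoped commutatorElement

namespace Cfsg.Agent.S1454

/-- Let G be a finite group, p an odd prime, R a narrow p-subgroup and A a solvable subgroup of odd order normalizing R with A ∩ C_G(R) = 1. Then [A, A] ≤ O_p(A) and the index of O_p(A) in A is coprime to p; if R has an elementary abelian subgroup of order p ^ 3 then the order of every element of A of order coprime to p divides p − 1; and if the order of A is a prime not dividing p(p − 1), then 2·#A divides p + 1, and if in addition [R, A] = R and R is non-abelian then #R = p ^ 3. -/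
theorem result {G : Type*} [Group G] [Finite G] (p : ℕ) [Fact p.Prime] (hp : p ≠ 2) (R A : Subgroup G) (hR : IsPGroup p R) (hRn : Cfsg.IsNarrow p R)
    (hA : (A ≤ Subgroup.normalizer (R : Set G))) (hAs : Group.IsSolvable A) (hAodd : Odd (Nat.card A)) (hfaith : A ⊓ Subgroup.centralizer (R : Set G) = ⊥) :
    (commutator ↥A ≤ Cfsg.pCore p ↥A ∧ ((Cfsg.pCore p ↥A).index).Coprime p) ∧
      (¬ Cfsg.PRankLE p 2 R → ∀ a ∈ A, (orderOf a).Coprime p → orderOf a ∣ p - 1) ∧
      ((Nat.card A).Prime → ¬ Nat.card A ∣ p * (p - 1) →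
        2 * Nat.card A ∣ p + 1 ∧ (⁅R, A⁆ = R → ¬ IsMulCommutative R → Nat.card R = p ^ 3)) := by
  have : Group.IsSolvable A := hAs
  let ψ : A →* MulAut R := (Subgroup.normalizerMonoidHom R).comp (Subgroup.inclusion hA)
  have hinj : ∀ a : A, ψ a = 1 → a = 1 := fun a h => by
    have hC : (a : G) ∈ A ⊓ Subgroup.centralizer (R : Set G) := by
      refine ⟨a.2, Subgroup.mem_centralizer_iff.2 fun r hr => ?_⟩
      have h2 : (a : G) * r * (a : G)⁻¹ = r := congrArg Subtype.val (DFunLike.congr_fun h (⟨r, hr⟩ : R))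
      exact (mul_inv_eq_iff_eq_mul.1 h2).symm
    rw [hfaith, Subgroup.mem_bot] at hC
    exact Subtype.ext hC
  obtain ⟨h1, h2, h3⟩ := CfsgLib.OddLocal.RankTwo.operator_narrow hR hp hRn hAodd ψ (fun a _ h => hinj a h)
  have hle := CfsgLib.Cores.le_pCore h1
  refine ⟨⟨hle, CfsgLib.OddLocal.RankTwo.index_pCore_of_commutator hle⟩, fun hr a ha hcop => ?_,
    fun hq hnd => ?_⟩
  · rw [← Subgroup.orderOf_mk a ha]
    exact h3 hr ⟨a, ha⟩ (by rw [Subgroup.orderOf_mk]; exact hcop)
  have hne : Nat.card A ≠ p := fun e => hnd (e ▸ dvd_mul_right p (p - 1))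
  have hr : Cfsg.PRankLE p 2 R := by
    by_contra hr
    have : Fact (Nat.card A).Prime := ⟨hq⟩
    obtain ⟨a, ha⟩ := exists_prime_orderOf_dvd_card' (Nat.card A) dvd_rfl
    exact hnd ((ha ▸ h3 hr a (ha ▸ (Nat.coprime_primes hq Fact.out).2 hne)).mul_left _)
  refine ⟨?_, fun hRA hnc => ?_⟩
  · obtain ⟨hd, -⟩ := h2 _ hq hne dvd_rfl
    have hd' : Nat.card A ∣ p + 1 := (hq.dvd_mul.1 hd).resolve_left fun h => hnd (h.mul_left _)
    refine Nat.Coprime.mul_dvd_of_dvd_of_dvd (Nat.coprime_two_left.2 hAodd) ?_ hd'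
    exact even_iff_two_dvd.1 ((Fact.out : p.Prime).odd_of_ne_two hp).add_one
  · have hgen : CfsgLib.OddLocal.RankTwo.Generates ψ := by
      have hle : ⁅R, A⁆ ≤ (Subgroup.closure {d : R | ∃ a x, x⁻¹ * ψ a x = d}).map R.subtype := by
        refine Subgroup.commutator_le.2 fun r hr' a ha => ?_
        refine ⟨_, Subgroup.subset_closure ⟨⟨a, ha⟩, (⟨r, hr'⟩ : R)⁻¹, rfl⟩, ?_⟩
        show ((⟨r, hr'⟩ : R)⁻¹⁻¹ : R).1 * (a * r⁻¹ * a⁻¹) = r * a * r⁻¹ * a⁻¹
        simp only [inv_inv, mul_assoc]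
      refine Subgroup.map_injective R.subtype_injective ?_
      rw [← MonoidHom.range_eq_map, Subgroup.range_subtype]
      exact le_antisymm (Subgroup.map_subtype_le _) (le_of_eq_of_le hRA.symm hle)
    exact CfsgLib.OddLocal.RankTwo.card_of_prime_operator hR hp hr hAodd hq hnd hgen
      fun h => hnc ⟨⟨h⟩⟩

end Cfsg.Agent.S1454
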