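import Cfsg.Statements.S1526
import Cfsg.Agent.Lib.OddChar.PartitionFinal

set_option autoImplicit false
open Cfsg

namespace Cfsg.Agent.S1526

/-- Let G be a finite group of odd order and (L i, H i), i in a finite index type with at least two elements, pairs of subgroups with H i a nontrivial proper normal subgroup of L i such that every non-identity element of H i has its centraliser within L i contained in H i (L i is a Frobenius group with kernel H i), the orders of the H i pairwise coprime, and the underlying set of each H i a TI-subset of G with normaliser L i. If every non-identity element of G is conjugate to an element of some H i, we reach a contradiction. -/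
theorem result {G : Type*} [Group G] [Finite G] (hodd : Odd (Nat.card G)) {ι : Type*} [Fintype ι] (hι : 2 ≤ Fintype.card ι) (L H : ι → Subgroup G) (hHL : ∀ i, H i < L i) (hH1 : ∀ i, H i ≠ ⊥) (hHn : ∀ i, ∀ x ∈ L i, ∀ h ∈ H i, x * h * x⁻¹ ∈ H i) (hfrob : ∀ i, ∀ h ∈ H i, h ≠ 1 → L i ⊓ Subgroup.centralizer ({h} : Set G) ≤ H i) (hcop : ∀ i j, i ≠ j → Nat.Coprime (Nat.card (H i)) (Nat.card (H j))) (hTI : ∀ i, Cfsg.IsTISubset (H i : Set G) ∧ Subgroup.normalizer (H i : Set G) = L i) (hcover : ∀ g : G, g ≠ 1 → ∃ i, ∃ x : G, x * g * x⁻¹ ∈ H i) : False := by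
  open CfsgLib.OddChar.Partition in
  classical
  have := Fintype.ofFinite G
  have hn : ∀ i, ((H i).subgroupOf (L i)).Normal := fun i => ⟨fun a ha g => hHn i g g.2 a ha⟩
  have hC : ∀ i, ∀ k ∈ (H i).subgroupOf (L i), k ≠ 1 →
      Subgroup.centralizer ({k} : Set (L i)) ≤ (H i).subgroupOf (L i) := fun i k hk hk1 x hx =>
    hfrob i (k : G) hk (fun e => hk1 (Subtype.ext e)) ⟨x.2, Subgroup.mem_centralizer_singleton_iff.mpr
      (congrArg Subtype.val (Subgroup.mem_centralizer_singleton_iff.mp hx))⟩
  have hD : ∀ i, ∃ D : Family (H i), D.e * Nat.card (H i) = Nat.card (L i) := fun i => by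
    have := hn i
    refine exists_family (H i) (L i) (hodd.of_dvd_nat (Subgroup.card_subgroup_dvd_card _)) (hC i)
      (fun h => hH1 i ?_) (lt_top_iff_ne_top.mpr fun h => (hHL i).not_ge (Subgroup.subgroupOf_eq_top.mp h))
      (hHL i).le (hTI i).2 (hTI i).1
    rwa [Subgroup.subgroupOf_eq_bot, disjoint_iff, inf_eq_left.mpr (hHL i).le] at h
  choose D hDc using hD
  have : Nonempty ι := Fintype.card_pos_iff.mp (lt_of_lt_of_le two_pos hι)
  refine no_partition L H D hodd hDc (fun i j hij e => hH1 i ?_)
    (fun i g hg => (hTI i).1 g ((hTI i).2.symm ▸ hg)) hHn (fun i j hij x => ?_) hcover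
  · have h := hcop i j hij
    rw [← e, Nat.coprime_self] at h
    exact Subgroup.card_eq_one.mp h
  · by_contra hcon
    simp only [Off, not_or, not_forall, not_not] at hcon
    obtain ⟨⟨hx, y, hy⟩, -, z, hz⟩ := hcon
    have ho : ∀ w : G, orderOf (w * x * w⁻¹) = orderOf x := fun w =>
      orderOf_injective (MulAut.conj w).toMonoidHom (MulAut.conj w).injective x
    have h1 := Subgroup.orderOf_dvd_natCard (H i) hy
    have h2 := Subgroup.orderOf_dvd_natCard (H j) hz
    rw [ho] at h1 h2
    exact hx (orderOf_eq_one_iff.mp (Nat.eq_one_of_dvd_coprimes (hcop i j hij) h1 h2))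

end Cfsg.Agent.S1526
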