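import Cfsg.Statements.S1503
import Cfsg.Agent.Lib.OddChar.CyclicTI

set_option autoImplicit false
open Cfsg

namespace Cfsg.Agent.S1503

/-- Let W₁, W₂ ≤ G with W = W₁ ⊔ W₂ and let χ an orthonormal family of irreducible characters of G up to sign, indexed by the linear characters ω of W, with χ_1 = 1, χ_ω = ω on W outside W₁ ∪ W₂, and the induction identity for (1 − φ)(1 − ψ). If θ is an irreducible character of G orthogonal to χ ω for every linear character ω of W, then θ vanishes at every element of W lying outside W₁ ∪ W₂. -/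
theorem result {G : Type*} [Group G] [Fintype G] (W₁ W₂ : Subgroup G) (hW : Cfsg.IsSelfNormalizingCyclic W₁ W₂) (χ : (↥(W₁ ⊔ W₂) →* ℂˣ) → (G → ℂ)) (hχ : Cfsg.IsCyclicTIFamily W₁ W₂ χ) (θ : G → ℂ) (hθ : Cfsg.IsIrrCharacter G θ) (horth : ∀ ω, Cfsg.classInner θ (χ ω) = 0) (w : ↥(W₁ ⊔ W₂)) (hw₁ : (w : G) ∉ W₁) (hw₂ : (w : G) ∉ W₂) : θ w = 0 := by
  open CfsgLib.Char CfsgLib.OddChar.CTI in
  classical
  have := Fintype.ofFinite ↥(W₁ ⊔ W₂)
  have hcomm := commute_of_mem hW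
  have := finite_hom hcomm
  have := Fintype.ofFinite (↥(W₁ ⊔ W₂) →* ℂˣ)
  obtain ⟨π₁, π₂, hπ, hπ₁, hπ₂, h₁, h₂⟩ := exists_proj hW
  have hθc := isClassFunction_of_isIrr hθ
  have hF : ∀ ω : ↥(W₁ ⊔ W₂) →* ℂˣ,
      Cfsg.classInner (prod (ω.comp π₁) (ω.comp π₂)) (fun x : ↥(W₁ ⊔ W₂) => θ x) = 0 := by
    intro ω
    have hα : ∀ v : ↥(W₁ ⊔ W₂), (v : G) ∈ W₂ → ω.comp π₁ v = 1 := fun v hv => by
      simp [(h₂ v hv).1]
    have hβ : ∀ v : ↥(W₁ ⊔ W₂), (v : G) ∈ W₁ → ω.comp π₂ v = 1 := fun v hv => by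
      simp [(h₁ v hv).2]
    by_cases ha : ω.comp π₁ = 1
    · rw [show prod (ω.comp π₁) (ω.comp π₂) = 0 by funext v; simp [prod, ha], classInner_zero_left]
    by_cases hb : ω.comp π₂ = 1
    · rw [show prod (ω.comp π₁) (ω.comp π₂) = 0 by funext v; simp [prod, hb], classInner_zero_left]
    rw [← frobenius_reciprocity _ _ hθc,
      show Cfsg.indFun (W₁ ⊔ W₂) (prod (ω.comp π₁) (ω.comp π₂)) =
        χ 1 - χ (ω.comp π₁) - χ (ω.comp π₂) + χ (ω.comp π₁ * ω.comp π₂) by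
        rw [hχ.map_one]; exact hχ.induced_eq _ _ ha hb hα hβ]
    rw [classInner_add_left, classInner_sub_left, classInner_sub_left]
    have : ∀ ν, Cfsg.classInner (χ ν) θ = 0 := fun ν => by
      rw [← classInner_conj_symm, horth, map_zero]
    simp [this]
  -- the indicator of `w` as a combination of the products
  have hind : ∀ x : ↥(W₁ ⊔ W₂),
      ∑ ω : ↥(W₁ ⊔ W₂) →* ℂˣ, lin ω w⁻¹ * prod (ω.comp π₁) (ω.comp π₂) x =
        if x = w then (Nat.card ↥(W₁ ⊔ W₂) : ℂ) else 0 := by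
    intro x
    have e : ∀ ω : ↥(W₁ ⊔ W₂) →* ℂˣ, lin ω w⁻¹ * prod (ω.comp π₁) (ω.comp π₂) x =
        lin ω w⁻¹ - lin ω (w⁻¹ * π₁ x) - lin ω (w⁻¹ * π₂ x) + lin ω (w⁻¹ * x) := by
      intro ω
      simp only [prod, lin, MonoidHom.comp_apply, map_mul, Units.val_mul]
      rw [show (ω x : ℂ) = (ω (π₁ x) : ℂ) * (ω (π₂ x) : ℂ) by rw [← Units.val_mul, ← map_mul, hπ]]
      ring
    rw [Finset.sum_congr rfl fun ω _ => e ω, Finset.sum_add_distrib, Finset.sum_sub_distrib,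
      Finset.sum_sub_distrib, sum_lin hcomm, sum_lin hcomm, sum_lin hcomm, sum_lin hcomm]
    rw [if_neg (show ¬ w⁻¹ = 1 from fun h => hw₁ (by rw [inv_eq_one.mp h]; exact W₁.one_mem)),
      if_neg (show ¬ w⁻¹ * π₁ x = 1 from fun h => hw₁ (by rw [inv_mul_eq_one.mp h]; exact hπ₁ x)),
      if_neg (show ¬ w⁻¹ * π₂ x = 1 from fun h => hw₂ (by rw [inv_mul_eq_one.mp h]; exact hπ₂ x))]
    simp only [inv_mul_eq_one, eq_comm (a := w) (b := x), sub_zero, zero_add]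
  have h0 : Cfsg.classInner (fun x : ↥(W₁ ⊔ W₂) => if x = w then (Nat.card ↥(W₁ ⊔ W₂) : ℂ) else 0)
      (fun x : ↥(W₁ ⊔ W₂) => θ x) = 0 := by
    rw [show (fun x : ↥(W₁ ⊔ W₂) => if x = w then (Nat.card ↥(W₁ ⊔ W₂) : ℂ) else 0) =
      ∑ ω : ↥(W₁ ⊔ W₂) →* ℂˣ, lin ω w⁻¹ • prod (ω.comp π₁) (ω.comp π₂) from
      funext fun x => by simp [Finset.sum_apply, hind x], classInner_sum_left]
    simp [classInner_smul_left, hF]
  simpa [classInner_def, ite_mul, Nat.card_pos.ne'] using h0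

end Cfsg.Agent.S1503
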