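import Cfsg.Statements.S1508
import Cfsg.Agent.Lib.OddChar.CyclicTI
import Cfsg.Agent.Lib.CharNormal.Galois
import Cfsg.Agent.S1503

set_option autoImplicit false
open Cfsg

namespace Cfsg.Agent.S1508

/-- Let W₁, W₂ ≤ G form a self-normalising cyclic subgroup W = W₁ ⊔ W₂ of odd order and χ an orthonormal family of irreducible characters of G up to sign, indexed by the linear characters ω of W, with χ_1 = 1, χ_ω = ω on W outside W₁ ∪ W₂, and the induction identity for (1 − φ)(1 − ψ). Let ω be a linear character of W and g an element of G whose order is coprime to the order of ω. Then χ ω g is an integer. -/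
theorem result {G : Type*} [Group G] [Fintype G] (W₁ W₂ : Subgroup G) (hW : Cfsg.IsSelfNormalizingCyclic W₁ W₂) (hodd : Odd (Nat.card ↥(W₁ ⊔ W₂))) (χ : (↥(W₁ ⊔ W₂) →* ℂˣ) → (G → ℂ)) (hχ : Cfsg.IsCyclicTIFamily W₁ W₂ χ) (ω : ↥(W₁ ⊔ W₂) →* ℂˣ) (g : G) (hg : Nat.Coprime (orderOf g) (orderOf ω)) : ∃ n : ℤ, χ ω g = n := by
  open CfsgLib.Char CfsgLib.CharNormal CfsgLib.OddChar.CTI in
  classical
  obtain ⟨e, he, hirr⟩ : ∃ e : ℂ, (e = 1 ∨ e = -1) ∧ Cfsg.IsIrrCharacter G (e • χ ω) := by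
    rcases hχ.irr_or_neg ω with h | h
    · exact ⟨1, Or.inl rfl, by rwa [one_smul]⟩
    · exact ⟨-1, Or.inr rfl, by rwa [neg_one_smul]⟩
  suffices ∃ m : ℤ, (e • χ ω) g = m by
    obtain ⟨m, hm⟩ := this
    rcases he with rfl | rfl
    · exact ⟨m, by simpa using hm⟩
    · refine ⟨-m, ?_⟩
      rw [Int.cast_neg, ← hm]
      simp
  open CfsgLib.Char CfsgLib.CharNormal CfsgLib.OddChar.CTI in
  refine exists_int_of_forall_coprime (isCharacter_of_isIrr hirr) g fun k hk => ?_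
  have := Fintype.ofFinite ↥(W₁ ⊔ W₂)
  have := finite_hom (commute_of_mem hW)
  obtain ⟨k', hk1, hk2⟩ := Nat.chineseRemainder hg k 1
  have hk' : k'.Coprime (orderOf g * orderOf ω) := by
    refine Nat.Coprime.mul_right ?_ ?_
    · rw [Nat.Coprime, hk1.gcd_eq]; exact hk
    · rw [Nat.Coprime, hk2.gcd_eq]; exact Nat.gcd_one_left _
  open CfsgLib.Char CfsgLib.CharNormal CfsgLib.OddChar.CTI in
  obtain ⟨σ, hσ⟩ := exists_ringEquiv_root_pow
    (Nat.mul_ne_zero (orderOf_pos g).ne' (orderOf_pos ω).ne') hk'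
  open CfsgLib.Char CfsgLib.CharNormal CfsgLib.OddChar.CTI in
  have hval : σ ((e • χ ω) g) = (e • χ ω) (g ^ k) := by
    rw [ringEquiv_char_apply hσ (isCharacter_of_isIrr hirr) (dvd_mul_right _ _),
      pow_eq_pow_iff_modEq.mpr hk1]
  have hω : ∀ w : ↥(W₁ ⊔ W₂), σ (ω w : ℂ) = (ω w : ℂ) := by
    intro w
    have h1 : (ω w) ^ orderOf ω = 1 := by
      rw [← MonoidHom.pow_apply, pow_orderOf_eq_one]; rfl
    rw [hσ _ (by rw [← Units.val_pow_eq_pow_val, mul_comm, pow_mul, h1, one_pow, Units.val_one]),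
      ← Units.val_pow_eq_pow_val]
    congr 1
    conv_rhs => rw [← pow_one (ω w)]
    exact pow_eq_pow_iff_modEq.mpr (hk2.of_dvd (orderOf_dvd_of_pow_eq_one h1))
  have hσe : σ e = e := by rcases he with rfl | rfl <;> simp
  -- the family is fixed by the automorphism
  suffices hfix : ∀ x, σ (χ ω x) = χ ω x by
    rw [← hval]
    simp only [Pi.smul_apply, smul_eq_mul, map_mul, hσe, hfix]
  open CfsgLib.Char CfsgLib.CharNormal CfsgLib.OddChar.CTI in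
  have hσirr : Cfsg.IsIrrCharacter G (fun x => e * σ (χ ω x)) := by
    rw [show (fun x => e * σ (χ ω x)) = σ ∘ (e • χ ω) from funext fun x => by simp [map_mul, hσe]]
    exact isIrr_ringEquiv σ hirr
  open CfsgLib.Char CfsgLib.CharNormal CfsgLib.OddChar.CTI in
  obtain ⟨π₁, π₂, hπ, hπ₁, hπ₂, h₁, h₂⟩ := exists_proj hW
  -- nontrivial elements of the two factors
  have hnt : ∀ V : Subgroup G, V ≠ ⊥ → Odd (Nat.card V) → ∃ v ∈ V, v ≠ 1 ∧ v * v ≠ 1 := by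
    intro V hV hVo
    obtain ⟨v, hv, hv1⟩ := (Subgroup.ne_bot_iff_exists_ne_one.mp hV : ∃ v : V, v ≠ 1) |> fun ⟨v, hv⟩ =>
      (⟨(v : G), v.2, fun h => hv (Subtype.ext h)⟩ : ∃ v, v ∈ V ∧ v ≠ 1)
    refine ⟨v, hv, hv1, fun h => hv1 ?_⟩
    have h2 : orderOf v ∣ 2 := orderOf_dvd_of_pow_eq_one (by rw [pow_two, h])
    have h3 := Subgroup.orderOf_dvd_natCard V hv
    exact orderOf_eq_one_iff.mp (Nat.eq_one_of_dvd_coprimes
      ((Nat.coprime_two_left).mpr hVo) h2 h3)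
  obtain ⟨u, hu, hu1, hu2⟩ := hnt W₁ hW.1 (hodd.of_dvd_nat (Subgroup.card_dvd_of_le le_sup_left))
  obtain ⟨v, hv, hv1, hv2⟩ := hnt W₂ hW.2.1 (hodd.of_dvd_nat (Subgroup.card_dvd_of_le le_sup_right))
  have hout : ∀ x ∈ W₁, ∀ y ∈ W₂, x ≠ 1 → y ≠ 1 → x * y ∉ W₁ ∧ x * y ∉ W₂ := by
    intro x hx y hy hx1 hy1
    refine ⟨fun h => hy1 ?_, fun h => hx1 ?_⟩
    · have h' : y ∈ W₁ ⊓ W₂ := ⟨by simpa using W₁.mul_mem (W₁.inv_mem hx) h, hy⟩
      rwa [hW.2.2.1, Subgroup.mem_bot] at h'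
    · have h' : x ∈ W₁ ⊓ W₂ := ⟨hx, by simpa using W₂.mul_mem h (W₂.inv_mem hy)⟩
      rwa [hW.2.2.1, Subgroup.mem_bot] at h'
  let w₀ : ↥(W₁ ⊔ W₂) :=
    ⟨u, le_sup_left (a := W₁) hu⟩ * ⟨v, le_sup_right (b := W₂) hv⟩
  have hσon : ∀ w : ↥(W₁ ⊔ W₂), (w : G) ∉ W₁ → (w : G) ∉ W₂ → σ (χ ω w) = (ω w : ℂ) :=
    fun w hw1 hw2 => by rw [hχ.eq_on ω w hw1 hw2, hω]
  open CfsgLib.Char CfsgLib.CharNormal CfsgLib.OddChar.CTI in
  obtain ⟨ν, hν⟩ : ∃ ν, Cfsg.classInner (fun x => e * σ (χ ω x)) (χ ν) ≠ 0 := by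
    by_contra h
    push Not at h
    have h0 := Cfsg.Agent.S1503.result W₁ W₂ hW χ hχ _ hσirr h w₀
      (hout u hu v hv hu1 hv1).1 (hout u hu v hv hu1 hv1).2
    rw [hσon w₀ (hout u hu v hv hu1 hv1).1 (hout u hu v hv hu1 hv1).2] at h0
    rcases mul_eq_zero.mp h0 with h1 | h1
    · rcases he with rfl | rfl <;> norm_num at h1
    · exact Units.ne_zero _ h1
  open CfsgLib.Char CfsgLib.CharNormal CfsgLib.OddChar.CTI in
  obtain ⟨f, hf, hfν⟩ : ∃ f : ℂ, (f = 1 ∨ f = -1) ∧ ∀ x, σ (χ ω x) = f * χ ν x := by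
    rcases hχ.irr_or_neg ν with h | h
    · refine ⟨e, he, fun x => ?_⟩
      have hee : e * e = 1 := by rcases he with rfl | rfl <;> norm_num
      by_cases heq : (fun x => e * σ (χ ω x)) = χ ν
      · rw [← congrFun heq x, ← mul_assoc, hee, one_mul]
      · exact absurd (classInner_irr_ne hσirr h heq) hν
    · refine ⟨-e, by rcases he with rfl | rfl <;> simp, fun x => ?_⟩
      have hee : e * e = 1 := by rcases he with rfl | rfl <;> norm_num
      by_cases heq : (fun x => e * σ (χ ω x)) = -χ ν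
      · have := congrFun heq x
        simp only [Pi.neg_apply] at this
        linear_combination e * this - σ (χ ω x) * hee
      · have h0 := classInner_irr_ne hσirr h heq
        rw [classInner_neg_right, neg_eq_zero] at h0
        exact absurd h0 hν
  have hV : ∀ x (hx : x ∈ W₁) y (hy : y ∈ W₂), x ≠ 1 → y ≠ 1 →
      (ω ⟨x, le_sup_left (a := W₁) hx⟩ : ℂ) * ω ⟨y, le_sup_right (b := W₂) hy⟩ =
        f * ((ν ⟨x, le_sup_left (a := W₁) hx⟩ : ℂ) * ν ⟨y, le_sup_right (b := W₂) hy⟩) := by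
    intro x hx y hy hx1 hy1
    obtain ⟨n1, n2⟩ := hout x hx y hy hx1 hy1
    have h := hσon (⟨x, le_sup_left (a := W₁) hx⟩ * ⟨y, le_sup_right (b := W₂) hy⟩) n1 n2
    rw [hfν, hχ.eq_on ν _ n1 n2] at h
    rw [map_mul, map_mul, Units.val_mul, Units.val_mul] at h
    exact h.symm
  let ρ : ↥(W₁ ⊔ W₂) →* ℂˣ := ω * ν⁻¹
  have hρ : ∀ x (hx : x ∈ W₁) y (hy : y ∈ W₂), x ≠ 1 → y ≠ 1 →
      (ρ ⟨x, le_sup_left (a := W₁) hx⟩ : ℂ) * ρ ⟨y, le_sup_right (b := W₂) hy⟩ = f := by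
    intro x hx y hy hx1 hy1
    have h := hV x hx y hy hx1 hy1
    simp only [ρ, MonoidHom.mul_apply, MonoidHom.inv_apply, Units.val_mul, Units.val_inv_eq_inv_val]
    have ha := Units.ne_zero (ν ⟨x, le_sup_left (a := W₁) hx⟩)
    have hb := Units.ne_zero (ν ⟨y, le_sup_right (b := W₂) hy⟩)
    field_simp
    linear_combination h
  have h1 : ∀ x (hx : x ∈ W₁), ρ ⟨x, le_sup_left (a := W₁) hx⟩ = 1 := by
    have hconst : ∀ x (hx : x ∈ W₁), x ≠ 1 →
        (ρ ⟨x, le_sup_left (a := W₁) hx⟩ : ℂ) = ρ ⟨u, le_sup_left (a := W₁) hu⟩ := fun x hx hx1 =>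
      mul_right_cancel₀ (Units.ne_zero _) ((hρ x hx v hv hx1 hv1).trans (hρ u hu v hv hu1 hv1).symm)
    have hc : (ρ ⟨u, le_sup_left (a := W₁) hu⟩ : ℂ) = 1 := by
      have h2 := hconst (u * u) (W₁.mul_mem hu hu) hu2
      rw [show (⟨u * u, le_sup_left (a := W₁) (W₁.mul_mem hu hu)⟩ : ↥(W₁ ⊔ W₂)) =
        ⟨u, le_sup_left (a := W₁) hu⟩ * ⟨u, le_sup_left (a := W₁) hu⟩ from rfl, map_mul,
        Units.val_mul] at h2
      exact mul_eq_right₀ (Units.ne_zero _) |>.mp h2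
    intro x hx
    by_cases hx1 : x = 1
    · subst hx1; exact map_one ρ
    · exact Units.ext ((hconst x hx hx1).trans hc)
  have h2 : ∀ y (hy : y ∈ W₂), ρ ⟨y, le_sup_right (b := W₂) hy⟩ = 1 := by
    have hf2 : ∀ y (hy : y ∈ W₂), y ≠ 1 → (ρ ⟨y, le_sup_right (b := W₂) hy⟩ : ℂ) = f := fun y hy hy1 => by
      simpa [h1 u hu] using hρ u hu y hy hu1 hy1
    have hff : f = 1 := by
      have h3 := hf2 (v * v) (W₂.mul_mem hv hv) hv2
      rw [show (⟨v * v, le_sup_right (b := W₂) (W₂.mul_mem hv hv)⟩ : ↥(W₁ ⊔ W₂)) =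
        ⟨v, le_sup_right (b := W₂) hv⟩ * ⟨v, le_sup_right (b := W₂) hv⟩ from rfl, map_mul,
        Units.val_mul, hf2 v hv hv1] at h3
      rcases hf with rfl | rfl
      · rfl
      · norm_num at h3
    intro y hy
    by_cases hy1 : y = 1
    · subst hy1; exact map_one ρ
    · exact Units.ext ((hf2 y hy hy1).trans hff)
  open CfsgLib.OddChar.CTI in
  have hρ1 : ρ = 1 := hom_eq_one (fun w hw => h1 w hw) (fun w hw => h2 w hw)
  have hνω : ν = ω := (mul_inv_eq_one.mp hρ1).symm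
  have hf1 : f = 1 := by
    have := hρ u hu v hv hu1 hv1
    rw [h1 u hu, h2 v hv, Units.val_one, mul_one] at this
    exact this.symm
  intro x
  rw [hfν x, hνω, hf1, one_mul]

end Cfsg.Agent.S1508
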