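import Cfsg.Statements.S1525
import Cfsg.Agent.Lib.OddChar.Dade

set_option autoImplicit false
open Cfsg

namespace Cfsg.Agent.S1525

/-- Under the Dade hypothesis for (A, L, H), let χ be a class function of G and let ψ be a function on L whose value at each a ∈ A is the average of χ over the coset a·H(a). Then (1/|G|) Σ |χ g|² over the elements g of G conjugate into some coset a·H(a) with a ∈ A is at least (1/|L|) Σ_{a ∈ A ∩ L} |ψ a|². -/
theorem result {G : Type*} [Group G] [Fintype G] (A : Set G) (L : Subgroup G) [Fintype L] (H : G → Subgroup G) (hD : Cfsg.DadeHypothesis A L H) (χ : G → ℂ) (hχ : Cfsg.IsClassFunction G χ) (ψ : L → ℂ) (hψ : ∀ a : L, (a : G) ∈ A → ψ a = (Nat.card (H a) : ℂ)⁻¹ * ∑ᶠ u ∈ (H a : Set G), χ (a * u)) : (Nat.card L : ℝ)⁻¹ * ∑ᶠ a ∈ {a : L | (a : G) ∈ A}, ‖ψ a‖ ^ 2 ≤ (Nat.card G : ℝ)⁻¹ * ∑ᶠ g ∈ {g : G | ∃ a ∈ A, ∃ u ∈ H a, ∃ x : G, x * g * x⁻¹ = a * u}, ‖χ g‖ ^ 2 := by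
  open CfsgLib.Char CfsgLib.OddChar.Dade in
  classical
  let α : L → ℂ := fun x => if (x : G) ∈ A then 1 else 0
  have hα : Cfsg.IsClassFunction L α := by
    intro x c
    have : ((c * x * c⁻¹ : L) : G) ∈ A ↔ (x : G) ∈ A := by
      refine ⟨fun h => ?_, fun h => hD.conj_mem c c.2 x h⟩
      have := hD.conj_mem (c : G)⁻¹ (inv_mem c.2) _ h
      simpa [mul_assoc] using this
    simp only [α, this]
  have hαA : ∀ x : L, (x : G) ∉ A → α x = 0 := fun x hx => if_neg hx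
  let f : G → ℂ := fun g => ((‖χ g‖ ^ 2 : ℝ) : ℂ)
  have hf : Cfsg.IsClassFunction G f := fun g c => by simp only [f, hχ g c]
  have key := dade_sum_classFun hD hα hαA hf
  set S : Set G := {g : G | ∃ a ∈ A, ∃ u ∈ H a, ∃ x : G, x * g * x⁻¹ = a * u} with hS
  have hL : ∑ g : G, Cfsg.dadeIsometry A L H α g * f g =
      ((∑ᶠ g ∈ S, ‖χ g‖ ^ 2 : ℝ) : ℂ) := by
    rw [finsum_mem_eq_toFinset_sum, Complex.ofReal_sum, Set.toFinset_setOf, Finset.sum_filter]
    refine Finset.sum_congr rfl fun g _ => ?_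
    by_cases h : ∃ a ∈ A, ∃ u ∈ H a, ∃ x : G, x * g * x⁻¹ = a * u
    · rw [if_pos h]
      obtain ⟨a, ha, u, hu, x, hx⟩ := h
      rw [dade_apply hD hα (a := ⟨a, hD.subset ha⟩) ha hu hx]
      simp [α, ha, f]
    · rw [if_neg h, dade_apply_none]
      · simp
      · rintro ⟨a, ha, x, u, hu, hx⟩
        exact h ⟨a, ha, u, hu, x, hx⟩
  have hR : ∀ a : L, α a * ((Nat.card (H (a : G)) : ℂ)⁻¹ *
      ∑ᶠ u ∈ (H (a : G) : Set G), f ((a : G) * u)) =
      ((if (a : G) ∈ A then (Nat.card (H (a : G)) : ℝ)⁻¹ *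
        ∑ u : H (a : G), ‖χ ((a : G) * u)‖ ^ 2 else 0 : ℝ) : ℂ) := by
    intro a
    by_cases ha : (a : G) ∈ A
    · simp only [α, if_pos ha, one_mul, f]
      rw [← finsum_set_coe_eq_finsum_mem, finsum_eq_sum_of_fintype, Complex.ofReal_mul,
        Complex.ofReal_inv, Complex.ofReal_natCast, Complex.ofReal_sum]
      rfl
    · simp [α, ha]
  rw [hL, Finset.sum_congr rfl fun a _ => hR a, ← Complex.ofReal_sum, ← Complex.ofReal_natCast,
    ← Complex.ofReal_natCast (Nat.card L), ← Complex.ofReal_inv, ← Complex.ofReal_mul,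
    ← Complex.ofReal_mul] at key
  rw [Complex.ofReal_inj.mp key]
  have hG : (Nat.card G : ℝ) ≠ 0 := by exact_mod_cast Nat.card_pos.ne'
  rw [← mul_assoc, ← mul_assoc, inv_mul_cancel₀ hG, one_mul]
  refine mul_le_mul_of_nonneg_left ?_ (by positivity)
  rw [finsum_mem_eq_toFinset_sum, Set.toFinset_setOf, Finset.sum_filter]
  refine Finset.sum_le_sum fun a _ => ?_
  by_cases ha : (a : G) ∈ A
  · rw [if_pos ha, if_pos ha, hψ a ha, ← finsum_set_coe_eq_finsum_mem, finsum_eq_sum_of_fintype,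
      norm_mul, norm_inv, Complex.norm_natCast, mul_pow]
    set n := Nat.card (H (a : G)) with hn
    have hn0 : (0 : ℝ) < n := by exact_mod_cast Nat.card_pos
    have h1 : ‖∑ u : H (a : G), χ ((a : G) * u)‖ ^ 2 ≤ n * ∑ u : H (a : G), ‖χ ((a : G) * u)‖ ^ 2 := by
      refine (pow_le_pow_left₀ (norm_nonneg _) (norm_sum_le _ _) 2).trans ?_
      rw [hn, Nat.card_eq_fintype_card, ← Finset.card_univ]
      exact sq_sum_le_card_mul_sum_sq
    calc ((n : ℝ)⁻¹) ^ 2 * ‖∑ u : H (a : G), χ ((a : G) * u)‖ ^ 2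
        ≤ ((n : ℝ)⁻¹) ^ 2 * (n * ∑ u : H (a : G), ‖χ ((a : G) * u)‖ ^ 2) :=
          mul_le_mul_of_nonneg_left h1 (by positivity)
      _ = (n : ℝ)⁻¹ * ∑ u : H (a : G), ‖χ ((a : G) * u)‖ ^ 2 := by field_simp
  · rw [if_neg ha, if_neg ha]

end Cfsg.Agent.S1525
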