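import Cfsg.Statements.S0205
import Cfsg.Agent.Lib.OddChar.PairFinal
import Cfsg.Agent.Lib.OddChar.OddSolvable
import Cfsg.Agent.Lib.OddChar.Prime.NoFive

set_option autoImplicit false
open Cfsg

namespace Cfsg.Agent.S0205

/-- The Odd Order Theorem: a finite group of odd order is solvable. -/
theorem result {G : Type*} [Group G] [Finite G] (hG : Odd (Nat.card G)) : Group.IsSolvable G := by
  refine CfsgLib.OddChar.OddSolvable.isSolvable_of_odd ?_ hG
  intro H _ _ hH
  have hV : CfsgLib.OddChar.PairFinal.NoTypeV H := by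
    haveI := Fintype.ofFinite H
    exact fun L hL => CfsgLib.OddChar.Prime.not_V hH hL
  exact CfsgLib.OddChar.PairFinal.absurd_of_noTypeV hH hV

end Cfsg.Agent.S0205
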