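import Cfsg.Statements.S0915
import Cfsg.Agent.Lib.Transfer.PSolvable
import Cfsg.Agent.Lib.Cores.Basic
import Cfsg.Agent.Lib.Blocks.Orth
import Cfsg.Agent.Lib.Blocks.FirstMain
-- import your own Cfsg.Agent.* helpers here

set_option autoImplicit false
open Cfsg

namespace Cfsg.Agent.S0915

/-- Let G be a finite p-solvable group with trivial largest normal subgroup of order prime to p. Then any two irreducible characters of G lie in the same block relative to every maximal ideal M of the algebraic integers containing p: G has a single p-block. -/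
theorem result {G : Type*} [Group G] [Finite G] (p : ℕ) [Fact p.Prime] (M : Ideal Cfsg.AlgInt) (hM : Cfsg.IsPModular p M) (hsolv : Cfsg.IsPSolvable p G) (hcore : Cfsg.pPrimeCore p G = ⊥) (χ ψ : Cfsg.IrrCharacter G) : Cfsg.SameBlock M (χ : G → ℂ) (ψ : G → ℂ) := by
  classical
  have := hM.2.1
  let _ := Fintype.ofFinite G
  have : Finite (ConjClasses G) := Finite.of_surjective _ ConjClasses.mk_surjective
  have := Fintype.ofFinite (ConjClasses G)
  have hQn : (Cfsg.pCore p G).Normal := Subgroup.sSup_normal _ (fun _ h => h.1)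
  have hB := CfsgLib.Blocks.isPBlock_blockOf (M := M) ψ
  set e := CfsgLib.Blocks.idem hB with he
  have key : ∀ (η : Cfsg.IrrCharacter G) (g : G), CfsgLib.Blocks.rcoeff e g ≠ 0 →
      CfsgLib.Blocks.bomega η (CfsgLib.Blocks.zclass M g) ≠ 0 → g = 1 := by
    intro η g h1 h2
    have hc := CfsgLib.Blocks.mem_centralizer_of_bomega_ne_zero hM
      (CfsgLib.Cores.isPGroup_pCore (G := G) p) h2
    have hq := CfsgLib.Transfer.centralizer_pCore_le_of_isPSolvable hsolv hcore hc
    by_contra hne
    have hdvd : p ∣ orderOf g := by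
      obtain ⟨k, hk⟩ := (CfsgLib.Cores.isPGroup_pCore (G := G) p) ⟨g, hq⟩
      have hk' : g ^ p ^ k = 1 := congrArg Subtype.val hk
      obtain ⟨j, -, hj⟩ := (Nat.dvd_prime_pow Fact.out).mp (orderOf_dvd_of_pow_eq_one hk')
      rw [hj]
      refine dvd_pow_self p ?_
      rintro rfl
      rw [pow_zero, orderOf_eq_one_iff] at hj
      exact hne hj
    refine h1 ((CfsgLib.Blocks.rcoeff_eq_zero_iff e g).mpr ?_)
    have h0 := CfsgLib.Blocks.blockCoeff_eq_zero hM hB hdvd
    refine ⟨0, 1, M.zero_mem, fun h => hM.2.1.ne_top ((Ideal.eq_top_iff_one _).mpr h), ?_⟩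
    rw [he]
    change _ = (CfsgLib.Blocks.blockElt _).coeff g
    rw [CfsgLib.Blocks.blockElt, CfsgLib.Blocks.coeff_ofFun, h0]
    simp
  have hsum : ∀ η : Cfsg.IrrCharacter G,
      CfsgLib.Blocks.bomega η e = CfsgLib.Blocks.rcoeff e 1 := by
    intro η
    rw [CfsgLib.Blocks.bomega_eq_sum, Finset.sum_eq_single (ConjClasses.mk (1 : G))]
    · have h1 : (ConjClasses.mk (1 : G)).out = 1 :=
        isConj_one_left.mp (ConjClasses.mk_eq_mk_iff_isConj.mp (Quotient.out_eq _))
      rw [h1]
      have h2 : CfsgLib.Blocks.bomega (M := M) η (CfsgLib.Blocks.zclass M (1 : G)) = 1 := by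
        have : CfsgLib.Blocks.zclass M (1 : G) = 1 := by
          refine Subtype.ext (MonoidAlgebra.coeff_injective (Finsupp.ext fun x => ?_))
          rw [CfsgLib.Blocks.coe_zclass, CfsgLib.Blocks.classSum_coeff]
          change _ = (1 : CfsgLib.Blocks.CA G).coeff x
          rw [MonoidAlgebra.one_def, MonoidAlgebra.coeff_single, Finsupp.single_apply]
          exact if_congr ⟨fun h => (isConj_one_right.mp h).symm, fun h => h ▸ IsConj.refl _⟩ rfl rfl
        rw [this, map_one]
      rw [h2, mul_one]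
    · intro C _ hC
      by_cases h1 : CfsgLib.Blocks.rcoeff e C.out = 0
      · rw [h1, zero_mul]
      · by_contra h2
        have hg := key η C.out h1 (right_ne_zero_of_mul h2)
        apply hC
        conv_lhs => rw [← Quotient.out_eq C, hg]
        rfl
    · simp
  refine (CfsgLib.Blocks.sameBlock_iff χ ψ).mpr ?_
  have h1 : CfsgLib.Blocks.bomega χ e = 1 := by
    rw [hsum, ← hsum ψ, he, CfsgLib.Blocks.bomega_idem, if_pos (CfsgLib.Blocks.mem_blockOf_self ψ)]
  have h2 : χ ∈ Cfsg.blockOf M (ψ : G → ℂ) :=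
    CfsgLib.Blocks.isPBlock_idem_bomega hB (by rw [← he, h1]; exact one_ne_zero)
  exact ((CfsgLib.Blocks.mem_blockOf_iff ψ χ).mp h2).symm

end Cfsg.Agent.S0915
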