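import Cfsg.Statements.S4691
import Cfsg.Agent.Lib.BrauerPairs.Principal
import Cfsg.Agent.Lib.Transfer.Frobenius

set_option autoImplicit false
open Cfsg

namespace Cfsg.Agent.S4691

/-- Fix a prime p and a maximal ideal M of the algebraic integers containing p. A finite group G has a normal p-complement if and only if its principal p-block is nilpotent. -/
theorem result {G : Type*} [Group G] [Fintype G] (p : ℕ) [Fact p.Prime] (M : Ideal Cfsg.AlgInt) (hM : Cfsg.IsPModular p M) : Cfsg.HasNormalPComplement p G ↔ Cfsg.IsNilpotentBlock p M (Cfsg.principalBlock M G) := by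
  have : M.IsMaximal := hM.2.1
  have hp : p.Prime := hM.1
  constructor
  · intro hc
    obtain ⟨N, hN, hco, k, hk⟩ := CfsgLib.Transfer.hasNormalPComplement_iff.mp hc
    refine ⟨CfsgLib.Blocks.isPBlock_principalBlock, fun Q e hQ x hxn _ hxr => ?_⟩
    have hxN : x ∈ N := by
      rw [← QuotientGroup.eq_one_iff, ← orderOf_eq_one_iff]
      have h1 : orderOf (x : G ⧸ N) ∣ orderOf x := orderOf_map_dvd (QuotientGroup.mk' N) x
      have h2 : orderOf (x : G ⧸ N) ∣ p ^ k := hk ▸ orderOf_dvd_natCard _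
      exact Nat.eq_one_of_dvd_coprimes
        (Nat.Coprime.pow_right k (hp.coprime_iff_not_dvd.mpr hxr).symm) h1 h2
    obtain ⟨n, hn⟩ := IsPGroup.iff_card.mp hQ.1.1
    have hdis : Q ⊓ N = ⊥ := Subgroup.inf_eq_bot_of_coprime (hn ▸ (hco.pow_right n).symm)
    refine Subgroup.mem_centralizer_iff.mpr fun q hq => ?_
    have h1 : x * q * x⁻¹ * q⁻¹ ∈ Q :=
      mul_mem ((Subgroup.mem_set_normalizer_iff.mp hxn q).mp hq) (inv_mem hq)
    have h2 : x * q * x⁻¹ * q⁻¹ ∈ N := by
      have := mul_mem hxN (hN.conj_mem _ (inv_mem hxN) q)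
      simpa [mul_assoc] using this
    have h3 : x * q * x⁻¹ * q⁻¹ = 1 := by
      have : x * q * x⁻¹ * q⁻¹ ∈ Q ⊓ N := ⟨h1, h2⟩
      rwa [hdis, Subgroup.mem_bot] at this
    calc q * x = x * q * x⁻¹ * q⁻¹ * (q * x) := by rw [h3, one_mul]
      _ = x * q := by group
  · intro hnil
    obtain ⟨S⟩ : Nonempty (Sylow p G) := inferInstance
    have hmax := CfsgLib.BrauerPairs.isMaximal_principal hM S
    have hF := CfsgLib.BrauerPairs.blockFusion_spec hM hmax
    have hin := (CfsgLib.BrauerPairs.nilpotent_iff_inner hM hF).mp hnil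
    refine CfsgLib.Transfer.hasNormalPComplement_of_controlsFusion S fun x hx g hg => ?_
    have hzS : Subgroup.zpowers x ≤ (S : Subgroup G) := Subgroup.zpowers_le.mpr hx
    have hmem : Cfsg.conjHom (Subgroup.zpowers x) g ∈
        (Cfsg.groupFusionSystem (S : Subgroup G)).Hom (Subgroup.zpowers x) := by
      refine ⟨hzS, fun y => ?_, g, fun y => rfl⟩
      obtain ⟨m, hm⟩ := Subgroup.mem_zpowers_iff.mp y.2
      show g * (y : G) * g⁻¹ ∈ (S : Subgroup G)
      rw [← hm, ← conj_zpow]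
      exact zpow_mem hg m
    rw [← CfsgLib.BrauerPairs.principal_hom_eq hM S hF, hin] at hmem
    obtain ⟨-, v, hv, hvx⟩ := hmem
    exact ⟨v, hv, (hvx ⟨x, Subgroup.mem_zpowers x⟩).symm⟩


end Cfsg.Agent.S4691
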