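import Cfsg.Statements.S4646
import Cfsg.Agent.S4691
import Cfsg.Agent.Lib.Blocks.PrincipalSection
import Cfsg.Agent.Lib.BlockArith.SmallRank
import Cfsg.Agent.Lib.CharNormal.Kernel
import Cfsg.Agent.Lib.Cores.Basic

set_option autoImplicit false
open Cfsg

namespace Cfsg.Agent.S4646

/-- For a finite group G, a prime p and a maximal ideal M of the algebraic integers containing p: the principal block of G is nilpotent if and only if its p-regular rank is 1 (the trivial Brauer character is its only irreducible Brauer character). -/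
theorem result {G : Type*} [Group G] [Finite G] (p : ℕ) [Fact p.Prime] (M : Ideal Cfsg.AlgInt) (hM : Cfsg.IsPModular p M) : Cfsg.IsNilpotentBlock p M (Cfsg.principalBlock M G) ↔ Cfsg.blockRank p (Cfsg.principalBlock M G) = 1 := by
  classical
  have : M.IsMaximal := hM.2.1
  have := Fintype.ofFinite G
  have hp : p.Prime := hM.1
  rw [← Cfsg.Agent.S4691.result p M hM]
  set W := Submodule.span ℂ ((fun χ : IrrCharacter G => pRegularPart p (χ : G → ℂ)) '' principalBlock M G)
  set v : G → ℂ := pRegularPart p ((CfsgLib.Char.irrOne : IrrCharacter G) : G → ℂ) with hv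
  have hvW : v ∈ W := Submodule.subset_span ⟨_, CfsgLib.Blocks.irrOne_mem_principalBlock, rfl⟩
  have hv1 : ∀ g : G, ¬ p ∣ orderOf g → v g = 1 := fun g hg => by
    rw [hv, CfsgLib.BlockArith.pRegularPart_apply, if_neg hg]; rfl
  have hv0 : v ≠ 0 := fun h => by
    have h1 := hv1 1 (by rw [orderOf_one]; exact hp.not_dvd_one)
    rw [h] at h1
    exact zero_ne_one h1
  have hB := CfsgLib.Blocks.isPBlock_principalBlock (M := M) (G := G)
  constructor
  · intro hc
    obtain ⟨N, hN, hco, k, hk⟩ := CfsgLib.Transfer.hasNormalPComplement_iff.mp hc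
    have hNK : N ≤ pPrimeCore p G := le_sSup ⟨hN, hco⟩
    obtain ⟨j, -, hj⟩ := (Nat.dvd_prime_pow hp).mp (hk ▸ Subgroup.index_dvd_of_le hNK)
    have hK : ∃ k : ℕ, (pPrimeCore p G).index = p ^ k := ⟨j, hj⟩
    have hchar := Cfsg.Agent.S0939.result p M hM hK
    have hle : W ≤ Submodule.span ℂ {v} := by
      refine Submodule.span_le.mpr ?_
      rintro _ ⟨χ, hχ, rfl⟩
      refine Submodule.mem_span_singleton.mpr ⟨(χ : G → ℂ) 1, funext fun g => ?_⟩
      rw [Pi.smul_apply, smul_eq_mul]
      show _ = pRegularPart p (χ : G → ℂ) g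
      rw [CfsgLib.BlockArith.pRegularPart_apply]
      by_cases hg : p ∣ orderOf g
      · rw [if_pos hg, hv, CfsgLib.BlockArith.pRegularPart_apply, if_pos hg, mul_zero]
      · rw [if_neg hg, hv1 g hg, mul_one]
        rw [hchar] at hχ
        have := CfsgLib.Cores.pPrimeCore_characteristic (G := G) p
        exact (hχ g (CfsgLib.Blocks.mem_of_index_pow hp hK hg)).symm
    have h1 := (Submodule.finrank_mono hle).trans (finrank_span_le_card {v})
    simp only [Set.toFinset_singleton, Finset.card_singleton] at h1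
    have h2 := CfsgLib.BlockArith.blockRank_pos (p := p) hB
    rw [blockRank] at h2 ⊢
    exact le_antisymm h1 h2
  · intro hl
    have hval : ∀ χ ∈ principalBlock M G, ∀ g : G, ¬ p ∣ orderOf g → (χ : G → ℂ) g = (χ : G → ℂ) 1 := by
      intro χ hχ g hg
      obtain ⟨c, hc⟩ := exists_smul_eq_of_finrank_eq_one (show Module.finrank ℂ W = 1 from hl)
        (x := ⟨v, hvW⟩) (fun h => hv0 (congrArg Subtype.val h))
        ⟨pRegularPart p (χ : G → ℂ), Submodule.subset_span ⟨χ, hχ, rfl⟩⟩
      have hc' : ∀ s : G, ¬ p ∣ orderOf s → (χ : G → ℂ) s = c := fun s hs => by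
        have h1 := congrFun (congrArg Subtype.val hc) s
        simp only [SetLike.val_smul, Pi.smul_apply, smul_eq_mul, hv1 s hs, mul_one] at h1
        rw [CfsgLib.BlockArith.pRegularPart_apply, if_neg hs] at h1
        exact h1.symm
      rw [hc' g hg, hc' 1 (by rw [orderOf_one]; exact hp.not_dvd_one)]
    let N : Subgroup G := Subgroup.closure {g : G | ¬ p ∣ orderOf g}
    have hNn : N.Normal := by
      refine ⟨fun a ha x => ?_⟩
      have hle : N ≤ N.comap (MulAut.conj x).toMonoidHom := by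
        refine (Subgroup.closure_le _).mpr fun g hg => ?_
        refine Subgroup.subset_closure ?_
        show ¬ p ∣ orderOf (MulAut.conj x g)
        rwa [MulEquiv.orderOf_eq]
      exact hle ha
    refine CfsgLib.Transfer.hasNormalPComplement_iff.mpr ⟨N, hNn, ?_, ?_⟩
    · rw [Nat.coprime_comm, hp.coprime_iff_not_dvd]
      intro hdvd
      obtain ⟨y, hy⟩ := exists_prime_orderOf_dvd_card' (G := N) p hdvd
      have hyo : p ∣ orderOf (y : G) := by rw [Subgroup.orderOf_coe, hy]
      have hker : ∀ χ ∈ principalBlock M G, (χ : G → ℂ) (y : G) = (χ : G → ℂ) 1 := fun χ hχ => by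
        have hle : N ≤ CfsgLib.CharNormal.charKer (CfsgLib.Char.isCharacter_of_isIrr χ.2) :=
          (Subgroup.closure_le _).mpr fun g hg =>
            CfsgLib.CharNormal.mem_charKer.mpr (hval χ hχ g hg)
        exact CfsgLib.CharNormal.mem_charKer.mp (hle y.2)
      have h1 := CfsgLib.Blocks.weak_orthogonality hM hB (x := 1) (y := (y : G))
        (by rw [orderOf_one]; exact hp.not_dvd_one) hyo
      have h2 : ∀ χ : IrrCharacter G, (if χ ∈ principalBlock M G then
          (χ : G → ℂ) 1 * starRingEnd ℂ ((χ : G → ℂ) (y : G)) else 0) =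
          ((if χ ∈ principalBlock M G then charDegree (χ : G → ℂ) ^ 2 else 0 : ℕ) : ℂ) := fun χ => by
        split_ifs with h
        · rw [hker χ h, ← CfsgLib.CharBlocks.coe_charDegree_irr χ, Complex.conj_natCast, Nat.cast_pow]
          ring
        · rw [Nat.cast_zero]
      rw [Finset.sum_congr rfl fun χ _ => h2 χ, ← Nat.cast_sum, Nat.cast_eq_zero,
        Finset.sum_eq_zero_iff] at h1
      have h3 := h1 CfsgLib.Char.irrOne (Finset.mem_univ _)
      rw [if_pos CfsgLib.Blocks.irrOne_mem_principalBlock] at h3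
      exact absurd (pow_eq_zero_iff two_ne_zero |>.mp h3) (CfsgLib.CharBlocks.charDegree_pos CfsgLib.Char.irrOne.2).ne'
    · by_contra hk
      obtain ⟨q, hq, hqd, hqp⟩ : ∃ q : ℕ, q.Prime ∧ q ∣ N.index ∧ q ≠ p := by
        by_contra hc
        push Not at hc
        exact hk ⟨_, Nat.eq_prime_pow_of_unique_prime_dvd Subgroup.index_ne_zero_of_finite fun hq hd => hc _ hq hd⟩
      have := Fact.mk hq
      obtain ⟨z, hz⟩ := exists_prime_orderOf_dvd_card' (G := G ⧸ N) q hqd
      obtain ⟨g, rfl⟩ := QuotientGroup.mk'_surjective N z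
      obtain ⟨y, s, hys⟩ : ∃ y s : G, g = y * s ∧ (∃ k : ℕ, orderOf y = p ^ k) ∧ ¬ p ∣ orderOf s := by
        obtain ⟨y, hy⟩ := CfsgLib.Blocks.exists_isPPart (p := p) g
        obtain ⟨s, hgs, -, hyk, hs⟩ := hy
        exact ⟨y, s, hgs.symm, hyk, hs⟩
      obtain ⟨rfl, ⟨j, hj⟩, hs⟩ := hys
      have hsN : QuotientGroup.mk' N s = 1 := (QuotientGroup.eq_one_iff s).mpr (Subgroup.subset_closure hs)
      rw [map_mul, hsN, mul_one] at hz
      have h4 : q ∣ p ^ j := hj ▸ hz ▸ orderOf_map_dvd (QuotientGroup.mk' N) y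
      exact hqp ((Nat.prime_dvd_prime_iff_eq hq hp).mp (hq.dvd_of_dvd_pow h4))


end Cfsg.Agent.S4646
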