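import Cfsg.Statements.S4606
import Cfsg.Agent.Lib.Blocks.OneClass.Basic

set_option autoImplicit false
open Cfsg

namespace Cfsg.Agent.S4606

/-- Let G be a finite group, p a prime, M a maximal ideal of the algebraic integers containing p, and B a p-block of G with defect group D. Suppose the number of irreducible characters in B exceeds the p-regular rank of B (the number of irreducible Brauer characters in B) by exactly one. If B is the principal block, or if G is p-solvable, then D is elementary abelian. -/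
theorem result {G : Type*} [Group G] [Finite G] (p : ℕ) [Fact p.Prime] (M : Ideal Cfsg.AlgInt) (hM : Cfsg.IsPModular p M) (B : Set (Cfsg.IrrCharacter G)) (hB : Cfsg.IsPBlock M B) (D : Subgroup G) (hD : Cfsg.IsDefectGroup p M B D)
    (hk : Nat.card B = Cfsg.blockRank p B + 1) (hB0 : B = Cfsg.principalBlock M G ∨ Cfsg.IsPSolvable p G) :
    Cfsg.IsElementaryAbelian p D := by
  classical
  have : M.IsMaximal := hM.2.1
  have := Fintype.ofFinite G
  have hDp := CfsgLib.Blocks.IsDefectGroup.isPGroup hD
  have hc := CfsgLib.Blocks.OneClass.conj_of_count hM hB hD hk.le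
  have hexp := CfsgLib.Blocks.OneClass.pow_eq_one_of_conj hDp fun x hx hx1 y hy hy1 => (hc x hx hx1).2 y hy hy1
  suffices hcomm : ∀ a ∈ D, ∀ b ∈ D, a * b = b * a from
    ⟨⟨⟨fun a b => Subtype.ext (hcomm a a.2 b b.2)⟩⟩, hexp⟩
  rcases hB0 with hB0 | hsolv
  swap
  · exact CfsgLib.Blocks.OneClass.comm_of_pSolvable p hM _ G rfl hsolv B hB D hD hk.le
  subst hB0
  -- the defect group is a Sylow subgroup
  obtain ⟨S⟩ := (inferInstance : Nonempty (Sylow p G))
  obtain ⟨w, hw⟩ := CfsgLib.Blocks.defectGroups_conj hM hB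
    (CfsgLib.BrauerPairs.isDefectGroup_of_maximal hM (CfsgLib.BrauerPairs.isMaximal_principal hM S)) hD
  obtain ⟨P, rfl⟩ : ∃ P : Sylow p G, (P : Subgroup G) = D := by
    refine ⟨Sylow.ofCard D ?_, rfl⟩
    rw [← hw, ← S.card_eq_multiplicity]
    exact Subgroup.card_map_of_injective (MulEquiv.injective _)
  refine CfsgLib.Blocks.OneClass.comm_of_centralizers P
    (fun x hx hx1 y hy hy1 => (hc x hx hx1).2 y hy hy1) fun x hx hx1 => ?_
  set C := Subgroup.centralizer ({x} : Set G) with hC
  have := Fintype.ofFinite C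
  rw [Cfsg.Agent.S4691.result p M hM, Cfsg.Agent.S4646.result p M hM]
  have hone := (hc x hx hx1).1
  have hind : Cfsg.IsInducedBlock M C (Cfsg.principalBlock M C) (Cfsg.principalBlock M G) := by
    have hC' : C = CfsgLib.BrauerPairs.Cen (Subgroup.zpowers x) := by
      rw [hC, Subgroup.zpowers_eq_closure, CfsgLib.BrauerPairs.Cen, Subgroup.centralizer_closure]
    clear_value C
    subst hC'
    have hZ : IsPGroup p (Subgroup.zpowers x) := hDp.to_le (Subgroup.zpowers_le.mpr hx)
    exact (CfsgLib.BrauerPairs.brauerPairOf_iff_induced hM hZ CfsgLib.Blocks.isPBlock_principalBlock hB).mp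
      ((CfsgLib.BrauerPairs.brauerPairOf_principal_iff hM hZ CfsgLib.Blocks.isPBlock_principalBlock).mpr rfl)
  refine le_antisymm (hone ▸ ?_) (CfsgLib.BlockArith.blockRank_pos hind.1)
  rw [CfsgLib.Blocks.ChainSum.rankSum, finsum_mem_eq_finite_toFinset_sum _ (Set.toFinite _)]
  exact Finset.single_le_sum (f := fun β => Cfsg.blockRank p β) (fun β _ => Nat.zero_le _)
    ((Set.Finite.mem_toFinset _).mpr hind)

end Cfsg.Agent.S4606
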