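import Cfsg.Statements.S1182
import Cfsg.Agent.Lib.Invol.Isolated

set_option autoImplicit false
open Cfsg

namespace Cfsg.Agent.S1182

/-- Let z be an isolated involution of the finite group G and H a subgroup normalized by z. If x, y ∈ H both commute with z and y = h x h⁻¹ for some h ∈ H, then y = c x c⁻¹ for some c ∈ H commuting with z. -/
theorem result {G : Type*} [Group G] [Finite G] (z : G) (hz : Cfsg.IsIsolatedInvolution z) (H : Subgroup G) (hzH : z ∈ Subgroup.normalizer (H : Set G)) (x y : G) (hx : x ∈ H) (hy : y ∈ H) (hxz : Commute x z) (hyz : Commute y z) (h : G) (hh : h ∈ H) (hconj : h * x * h⁻¹ = y) : ∃ c ∈ H, Commute c z ∧ c * x * c⁻¹ = y := by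
  have hz' : z * h * z⁻¹ ∈ H := (Subgroup.mem_normalizer_iff.mp hzH h).mp hh
  have hk : z * (h * z * h⁻¹) ∈ H := by
    rw [show z * (h * z * h⁻¹) = z * h * z⁻¹ * (z * z) * h⁻¹ by group,
      CfsgLib.Invol.mul_self_of_orderOf_two hz.1, mul_one]
    exact mul_mem hz' (inv_mem hh)
  obtain ⟨d, hd, hdz⟩ := CfsgLib.Invol.exists_conj_of_odd hz.1
    ((CfsgLib.Invol.orderOf_conj_eq h z).trans hz.1) (CfsgLib.Invol.isolated_odd_mul_conj hz h)
  have hwy : Commute (h * z * h⁻¹) y := by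
    rw [← hconj]; exact (Commute.conj_iff h).mpr hxz.symm
  have hdy : Commute d y := by
    obtain ⟨i, rfl⟩ := Subgroup.mem_zpowers_iff.mp hd
    exact ((hyz.symm).mul_left hwy).zpow_left i
  refine ⟨d⁻¹ * h, mul_mem (inv_mem (Subgroup.zpowers_le.mpr hk hd)) hh, ?_, ?_⟩
  · show d⁻¹ * h * z = z * (d⁻¹ * h)
    rw [show d⁻¹ * h * z = d⁻¹ * (h * z * h⁻¹) * h by group, ← hdz]
    group
  · rw [show d⁻¹ * h * x * (d⁻¹ * h)⁻¹ = d⁻¹ * (h * x * h⁻¹) * d by group, hconj,
      (hdy.inv_left).eq, mul_assoc, inv_mul_cancel, mul_one]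

end Cfsg.Agent.S1182
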