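import Cfsg.Statements.S0942
import Cfsg.Agent.Lib.Invol.BlockConst

set_option autoImplicit false
open Cfsg

namespace Cfsg.Agent.S0942

/-- Let u be a p-element of the finite group G, let v lie in the largest normal subgroup of C_G(u) of order prime to p, and let χ belong to the principal block (relative to a maximal ideal M of the algebraic integers containing p). Then χ (u * v) = χ u. -/
theorem result {G : Type*} [Group G] [Finite G] (p : ℕ) [Fact p.Prime] (M : Ideal Cfsg.AlgInt) (hM : Cfsg.IsPModular p M) (u : G) (hu : ∃ k : ℕ, orderOf u = p ^ k) (v : G) (hv : v ∈ Cfsg.centralizerPPrimeCore p u) (χ : Cfsg.IrrCharacter G) (hχ : χ ∈ Cfsg.principalBlock M G) : (χ : G → ℂ) (u * v) = (χ : G → ℂ) u := by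
  classical
  have := hM.2.1
  have := Fintype.ofFinite G
  refine CfsgLib.Invol.principalBlock_const hM hu (centralizerPPrimeCore p u) ?_ ?_ ?_ hχ hv
  · exact Subgroup.map_subtype_le _
  · intro c hc k hk
    obtain ⟨k', hk', rfl⟩ := Subgroup.mem_map.mp hk
    have := CfsgLib.Cores.pPrimeCore_characteristic (G := Subgroup.centralizer ({u} : Set G)) p
    exact Subgroup.mem_map.mpr ⟨⟨c, hc⟩ * k' * ⟨c, hc⟩⁻¹,
      Subgroup.Normal.conj_mem inferInstance _ hk' _, rfl⟩
  · rw [centralizerPPrimeCore, Subgroup.card_map_of_injective (Subgroup.subtype_injective _)]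
    exact CfsgLib.Cores.not_dvd_card_pPrimeCore p

end Cfsg.Agent.S0942
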