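import Cfsg.Statements.S0898
import Cfsg.Agent.Lib.Char.ClassAlgebra
import Cfsg.Agent.Lib.Char.Vanishing
import Cfsg.Agent.Lib.Char.Linear
import Cfsg.Agent.Lib.CharNormal.Kernel
import Cfsg.Agent.Lib.Char.Generalized

set_option autoImplicit false
open Cfsg

namespace Cfsg.Agent.S0898

open CfsgLib.Char

open scoped ComplexConjugate

theorem apply_central_mul {G : Type*} [Group G] [Fintype G] {ψ : G → ℂ}
    (hψ : Cfsg.IsIrrCharacter G ψ) {z : G} (hz : z ∈ Subgroup.center G) (y : G) :
    ψ (z * y) = ψ z * ψ y / ψ 1 := by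
  have h := sum_char_conj_mul hψ z y
  rw [Finset.sum_congr rfl fun b _ => by
      rw [Subgroup.mem_center_iff.mp hz b, mul_inv_cancel_right],
    Finset.sum_const, Finset.card_univ, nsmul_eq_mul, ← Nat.card_eq_fintype_card, mul_assoc,
    mul_div_assoc] at h
  exact mul_left_cancel₀ card_ne_zero' h

theorem normSq_central {G : Type*} [Group G] [Fintype G] {ψ : G → ℂ}
    (hψ : Cfsg.IsIrrCharacter G ψ) {z : G} (hz : z ∈ Subgroup.center G) :
    Complex.normSq (ψ z) = (ψ 1).re ^ 2 := by
  obtain ⟨d, hd0, hd⟩ := exists_degree_pos hψ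
  have h := apply_central_mul hψ hz z⁻¹
  rw [mul_inv_cancel, char_inv (isCharacter_of_isIrr hψ), Complex.mul_conj, hd,
    eq_div_iff (by exact_mod_cast hd0.ne')] at h
  rw [hd, Complex.natCast_re, sq]
  exact_mod_cast h.symm

theorem main_lemma {G : Type*} [Group G] [Fintype G] (H : Subgroup G) [Fintype H]
    (hab : ∀ a ∈ H, ∀ b ∈ H, a * b = b * a) (hZ : H ⊓ Subgroup.center G = ⊥)
    (hone : ∀ g : G, g ∉ Subgroup.center G → ∀ a b : G,
      Subgroup.centralizer ({g} : Set G) ⊓ H.map (MulAut.conj a).toMonoidHom ≠ ⊥ →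
      Subgroup.centralizer ({g} : Set G) ⊓ H.map (MulAut.conj b).toMonoidHom ≠ ⊥ →
      H.map (MulAut.conj a).toMonoidHom = H.map (MulAut.conj b).toMonoidHom)
    {χ : G → ℂ} (hχ : Cfsg.IsIrrCharacter G χ) (hker : ∃ h ∈ H, χ h ≠ χ 1) {c : ℕ}
    (hc : Cfsg.classInner (fun h : H => χ h) (fun _ => 1) = c) :
    (c : ℝ) ^ 2 * Nat.card H < ((χ 1).re) ^ 2 := by
  classical
  obtain ⟨h₀, hh₀, hh₀χ⟩ := hker
  have hh₀1 : h₀ ≠ 1 := fun e => hh₀χ (e ▸ rfl)
  set N := Subgroup.normalizer (H : Set G) with hN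
  have hmap1 : H.map (MulAut.conj (1 : G)).toMonoidHom = H := by
    ext x; simp
  -- commuting with a nonidentity element of `H` forces normalizing `H`
  have hVN : ∀ g h : G, h ∈ H → h ≠ 1 → h * g = g * h → g ∈ N := by
    intro g h hh h1 hcomm
    have hnc : h ∉ Subgroup.center G := fun hzz => h1 ((Subgroup.eq_bot_iff_forall _).mp hZ h
      (Subgroup.mem_inf.mpr ⟨hh, hzz⟩))
    have e : H.map (MulAut.conj g).toMonoidHom = H.map (MulAut.conj (1 : G)).toMonoidHom := by
      refine hone h hnc g 1 (fun hb => h1 ?_) (fun hb => h1 ?_)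
      · exact (Subgroup.eq_bot_iff_forall _).mp hb h (Subgroup.mem_inf.mpr
          ⟨Subgroup.mem_centralizer_singleton_iff.mpr rfl, h, hh, by simp [← hcomm]⟩)
      · exact (Subgroup.eq_bot_iff_forall _).mp hb h (Subgroup.mem_inf.mpr
          ⟨Subgroup.mem_centralizer_singleton_iff.mpr rfl, h, hh, by simp⟩)
    rw [hmap1] at e
    rw [hN, Subgroup.mem_normalizer_iff]
    intro x
    constructor
    · intro hx
      exact e ▸ ⟨x, hx, rfl⟩
    · intro hx
      obtain ⟨y, hy, hyx⟩ := (e.ge hx : g * x * g⁻¹ ∈ H.map (MulAut.conj g).toMonoidHom)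
      have : y = x := by simpa using hyx
      exact this ▸ hy
  let inV : G → Prop := fun g => ∃ h ∈ H, h ≠ 1 ∧ h * g = g * h
  have hZV : ∀ z ∈ Subgroup.center G, inV z := fun z hz =>
    ⟨h₀, hh₀, hh₀1, Subgroup.mem_center_iff.mp hz h₀⟩
  let Z : Finset G := Finset.univ.filter fun g => g ∈ Subgroup.center G
  let W : Finset G := Finset.univ.filter fun g => inV g ∧ g ∉ Subgroup.center G
  have hmapconj : ∀ a w : G, inV w →
      Subgroup.centralizer ({a * w * a⁻¹} : Set G) ⊓ H.map (MulAut.conj a).toMonoidHom ≠ ⊥ := by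
    rintro a w ⟨h, hh, h1, hcm⟩ hb
    have := (Subgroup.eq_bot_iff_forall _).mp hb (a * h * a⁻¹) (Subgroup.mem_inf.mpr
      ⟨Subgroup.mem_centralizer_singleton_iff.mpr (by
        calc a * h * a⁻¹ * (a * w * a⁻¹) = a * (h * w) * a⁻¹ := by group
          _ = a * (w * h) * a⁻¹ := by rw [hcm]
          _ = a * w * a⁻¹ * (a * h * a⁻¹) := by group), h, hh, rfl⟩)
    exact h1 (conj_eq_one_iff.mp this)
  -- the conjugates of `W` are disjoint
  have := Fintype.ofFinite (G ⧸ N)
  have hχcl := isClassFunction_of_isIrr hχ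
  have hcount : (N.index : ℝ) * ∑ g ∈ W, Complex.normSq (χ g) +
      ∑ g ∈ Z, Complex.normSq (χ g) ≤ (Nat.card G : ℝ) := by
    have htot : ∑ g : G, Complex.normSq (χ g) = (Nat.card G : ℝ) := by
      have h := card_mul_classInner χ χ
      rw [classInner_irr_self hχ, mul_one] at h
      simp only [Complex.mul_conj] at h
      exact_mod_cast h.symm
    let conjMap : (G ⧸ N) × G → G := fun p => Quotient.out p.1 * p.2 * (Quotient.out p.1)⁻¹
    have hinj : Set.InjOn conjMap ((Finset.univ ×ˢ W : Finset ((G ⧸ N) × G)) : Set ((G ⧸ N) × G)) := by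
      rintro ⟨q, w⟩ hq ⟨q', w'⟩ hq' he
      simp only [Finset.mem_coe, Finset.mem_product, Finset.mem_univ, true_and, W,
        Finset.mem_filter] at hq hq'
      set a := Quotient.out q with ha
      set b := Quotient.out q' with hb
      have he' : a * w * a⁻¹ = b * w' * b⁻¹ := he
      have hnc : a * w * a⁻¹ ∉ Subgroup.center G := fun h => hq.2 (by
        simpa [mul_assoc] using (inferInstance : (Subgroup.center G).Normal).conj_mem _ h a⁻¹)
      have e := hone _ hnc a b (hmapconj a w hq.1) (he' ▸ hmapconj b w' hq'.1)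
      have hab' : a⁻¹ * b ∈ N := by
        rw [hN, Subgroup.mem_normalizer_iff]
        intro x
        constructor
        · intro hx
          obtain ⟨y, hy, hyx⟩ := (e.ge ⟨x, hx, rfl⟩ :
            (MulAut.conj b).toMonoidHom x ∈ H.map (MulAut.conj a).toMonoidHom)
          have : a⁻¹ * b * x * (a⁻¹ * b)⁻¹ = y := by
            simp only [MulEquiv.coe_toMonoidHom, MulAut.conj_apply] at hyx
            rw [mul_inv_rev, inv_inv,
              show a⁻¹ * b * x * (b⁻¹ * a) = a⁻¹ * (b * x * b⁻¹) * a by group, ← hyx]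
            group
          rw [this]; exact hy
        · intro hx
          obtain ⟨y, hy, hyx⟩ := (e.le ⟨_, hx, rfl⟩ :
            (MulAut.conj a).toMonoidHom (a⁻¹ * b * x * (a⁻¹ * b)⁻¹) ∈
              H.map (MulAut.conj b).toMonoidHom)
          simp only [MulEquiv.coe_toMonoidHom, MulAut.conj_apply] at hyx
          have : y = x := by
            have h2 : b * y * b⁻¹ = b * x * b⁻¹ := by rw [hyx]; group
            simpa using h2
          exact this ▸ hy
      have hqq : q = q' := by
        rw [← QuotientGroup.out_eq' q, ← QuotientGroup.out_eq' q', QuotientGroup.eq]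
        exact hab'
      subst hqq
      exact Prod.ext rfl (by simpa [ha, hb] using he')
    have hdis : Disjoint ((Finset.univ ×ˢ W).image conjMap) Z := by
      rw [Finset.disjoint_left]
      intro g hg hgZ
      obtain ⟨⟨q, w⟩, hp, rfl⟩ := Finset.mem_image.mp hg
      simp only [Finset.mem_product, W, Finset.mem_filter, Finset.mem_univ, true_and] at hp
      simp only [Z, Finset.mem_filter, Finset.mem_univ, true_and, conjMap] at hgZ
      exact hp.2 (by simpa [mul_assoc] using
        (inferInstance : (Subgroup.center G).Normal).conj_mem _ hgZ (Quotient.out q)⁻¹)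
    rw [← htot]
    refine le_trans (le_of_eq ?_) (Finset.sum_le_sum_of_subset_of_nonneg
      (Finset.subset_univ ((Finset.univ ×ˢ W).image conjMap ∪ Z))
      fun g _ _ => Complex.normSq_nonneg (χ g))
    rw [Finset.sum_union hdis, Finset.sum_image hinj, Finset.sum_product]
    congr 1
    rw [Finset.sum_congr rfl fun q _ => Finset.sum_congr rfl fun w _ => by
        rw [show χ (conjMap (q, w)) = χ w from hχcl w (Quotient.out q)],
      Finset.sum_const, Finset.card_univ, nsmul_eq_mul, Subgroup.index_eq_card,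
      Nat.card_eq_fintype_card]
  -- inside the normalizer
  have := Fintype.ofFinite N
  let H' := H.subgroupOf N
  have : H'.Normal := Subgroup.normal_in_normalizer
  have := Fintype.ofFinite H'
  have hHN : H ≤ N := Subgroup.le_normalizer
  let r : N → ℂ := fun x => χ x
  have hr : Cfsg.IsCharacter N r := isCharacter_res N (isCharacter_of_isIrr hχ)
  obtain ⟨m, hm, -⟩ := char_decomp hr
  let triv : Cfsg.IrrCharacter N → Prop := fun ψ => ∀ x ∈ H', (ψ : N → ℂ) x = (ψ : N → ℂ) 1
  let f : N → ℂ := ∑ ψ ∈ Finset.univ.filter triv, (m ψ : ℂ) • (ψ : N → ℂ)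
  let f' : N → ℂ := ∑ ψ ∈ Finset.univ.filter (fun ψ => ¬ triv ψ), (m ψ : ℂ) • (ψ : N → ℂ)
  have hsplit : ∀ x : N, r x = f x + f' x := by
    intro x
    rw [congrFun hm x]
    exact congrFun (Finset.sum_filter_add_sum_filter_not Finset.univ triv
      (fun ψ : Cfsg.IrrCharacter N => (m ψ : ℂ) • (ψ : N → ℂ))).symm x
  have hnt : ∀ ψ : Cfsg.IrrCharacter N, ¬ triv ψ → ∃ x ∈ H', (ψ : N → ℂ) x ≠ (ψ : N → ℂ) 1 :=
    fun ψ h => by simpa [triv] using h
  have hfsupp : ∀ x : N, ¬ inV x → f' x = 0 := by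
    intro x hx
    simp only [f', Finset.sum_apply, Pi.smul_apply]
    refine Finset.sum_eq_zero fun ψ hψ => ?_
    rw [eq_zero_of_centralizer_inf_eq_bot H' ψ.2 (hnt ψ (Finset.mem_filter.mp hψ).2) x
      (fun h hh hcm => by
        by_contra h1
        exact hx ⟨h, Subgroup.mem_subgroupOf.mp hh, fun e => h1 (Subtype.ext e),
          congrArg Subtype.val hcm⟩), smul_zero]
  have horth : Cfsg.classInner f f' = 0 := by
    simp only [f, f', classInner_sum_left, classInner_sum_right]
    refine Finset.sum_eq_zero fun a ha => Finset.sum_eq_zero fun b hb => ?_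
    rw [classInner_smul_left, classInner_smul_right, classInner_irr_ne b.2 a.2, mul_zero, mul_zero]
    intro e
    have : b = a := Subtype.ext e
    subst this
    exact (Finset.mem_filter.mp ha).2 (Finset.mem_filter.mp hb).2
  have hf'1 : (1 : ℝ) * Nat.card N ≤ ∑ x : N, Complex.normSq (f' x) := by
    have hf'c : Cfsg.IsCharacter N f' := isCharacter_sum _ fun ψ _ =>
      isCharacter_natCast_smul (isCharacter_of_isIrr ψ.2) _
    obtain ⟨k, hk⟩ := classInner_char_nat hf'c hf'c
    have hk0 : k ≠ 0 := fun e => by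
      have hz : f' = 0 := eq_zero_of_classInner_self_eq_zero (by rw [hk, e, Nat.cast_zero])
      refine hh₀χ ?_
      have h1 := hsplit ⟨h₀, hHN hh₀⟩
      have h2 := hsplit 1
      simp only [hz, Pi.zero_apply, add_zero] at h1 h2
      have : f ⟨h₀, hHN hh₀⟩ = f 1 := by
        simp only [f, Finset.sum_apply, Pi.smul_apply]
        exact Finset.sum_congr rfl fun ψ hψ => by
          rw [(Finset.mem_filter.mp hψ).2 ⟨h₀, hHN hh₀⟩ hh₀]
      rw [this, ← h2] at h1
      exact h1
    have h := card_mul_classInner f' f'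
    rw [hk] at h
    simp only [Complex.mul_conj] at h
    have h' : (Nat.card N : ℝ) * k = ∑ x : N, Complex.normSq (f' x) := by exact_mod_cast h
    rw [← h', one_mul]
    exact le_mul_of_one_le_right (Nat.cast_nonneg _) (by exact_mod_cast Nat.pos_of_ne_zero hk0)
  have hsumN : ∑ x : N, Complex.normSq (r x) =
      ∑ x : N, Complex.normSq (f x) + ∑ x : N, Complex.normSq (f' x) := by
    have h : Cfsg.classInner r r = Cfsg.classInner f f + Cfsg.classInner f' f' := by
      rw [show r = f + f' from funext hsplit, classInner_add_left, classInner_add_right,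
        classInner_add_right, ← classInner_conj_symm f f', horth, map_zero]
      ring
    have h' := congrArg ((Nat.card N : ℂ) * ·) h
    simp only [mul_add, card_mul_classInner, Complex.mul_conj] at h'
    exact_mod_cast h'
  let VN : Finset N := Finset.univ.filter fun x => inV x
  have hVN1 : ∑ x ∈ VN, Complex.normSq (r x) =
      ∑ x ∈ VN, Complex.normSq (f x) + ∑ x : N, Complex.normSq (f' x) := by
    have e2 := Finset.sum_filter_add_sum_filter_not (Finset.univ : Finset N) (fun x : N => inV x)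
      (fun x => Complex.normSq (f x))
    have e3 : ∑ x ∈ Finset.univ.filter (fun x : N => ¬ inV x), Complex.normSq (r x) =
        ∑ x ∈ Finset.univ.filter (fun x : N => ¬ inV x), Complex.normSq (f x) :=
      Finset.sum_congr rfl fun x hx => by
        rw [hsplit x, hfsupp x (Finset.mem_filter.mp hx).2, add_zero]
    have e1 := Finset.sum_filter_add_sum_filter_not (Finset.univ : Finset N) (fun x : N => inV x)
      (fun x => Complex.normSq (r x))
    simp only [VN]
    linarith
  have hVW : ∑ x ∈ VN, Complex.normSq (r x) =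
      ∑ g ∈ W, Complex.normSq (χ g) + ∑ g ∈ Z, Complex.normSq (χ g) := by
    rw [← Finset.sum_union]
    · refine Finset.sum_bij (fun x _ => (x : G)) (fun x hx => ?_) (fun a _ b _ e => Subtype.ext e)
        (fun g hg => ?_) (fun x _ => rfl)
      · simp only [VN, Finset.mem_filter, Finset.mem_univ, true_and] at hx
        simp only [W, Z, Finset.mem_union, Finset.mem_filter, Finset.mem_univ, true_and]
        rcases em ((x : G) ∈ Subgroup.center G) with h | h
        · exact Or.inr h
        · exact Or.inl ⟨hx, h⟩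
      · have hg' : inV g := by
          simp only [W, Z, Finset.mem_union, Finset.mem_filter, Finset.mem_univ, true_and] at hg
          rcases hg with h | h
          · exact h.1
          · exact hZV g h
        obtain ⟨h, hh, h1, hcm⟩ := hg'
        exact ⟨⟨g, hVN g h hh h1 hcm⟩,
          Finset.mem_filter.mpr ⟨Finset.mem_univ _, h, hh, h1, hcm⟩, rfl⟩
    · rw [Finset.disjoint_left]
      intro g h1 h2
      simp only [W, Z, Finset.mem_filter] at h1 h2
      exact h1.2.2 h2.2
  -- values on `H Z`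
  have hfval : ∀ (z : G), z ∈ Subgroup.center G → ∀ k : H, ∀ hx : z * (k : G) ∈ N,
      Complex.normSq (f ⟨z * k, hx⟩) = (c : ℝ) ^ 2 := by
    intro z hz k hx
    have hzN : z ∈ N := by simpa using N.mul_mem hx (N.inv_mem (hHN k.2))
    have hzc : (⟨z, hzN⟩ : N) ∈ Subgroup.center N :=
      Subgroup.mem_center_iff.mpr fun y => Subtype.ext (Subgroup.mem_center_iff.mp hz (y : G))
    have hk' : ∀ (l : H) (ψ : Cfsg.IrrCharacter N), triv ψ →
        (ψ : N → ℂ) (⟨z, hzN⟩ * ⟨l, hHN l.2⟩) = (ψ : N → ℂ) ⟨z, hzN⟩ := by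
      intro l ψ hψ
      rw [apply_central_mul ψ.2 hzc, hψ ⟨l, hHN l.2⟩ l.2,
        mul_div_cancel_right₀ _ (irr_one_ne_zero ψ.2)]
    have hfconst : ∀ l : H, f (⟨z, hzN⟩ * ⟨l, hHN l.2⟩) = f ⟨z, hzN⟩ := by
      intro l
      simp only [f, Finset.sum_apply, Pi.smul_apply]
      exact Finset.sum_congr rfl fun ψ hψ => by rw [hk' l ψ (Finset.mem_filter.mp hψ).2]
    have hf'sum : ∑ l : H, f' (⟨z, hzN⟩ * ⟨l, hHN l.2⟩) = 0 := by
      simp only [f', Finset.sum_apply, Pi.smul_apply, smul_eq_mul]
      rw [Finset.sum_comm]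
      refine Finset.sum_eq_zero fun ψ hψ => ?_
      obtain ⟨x, hxH, hxne⟩ := hnt ψ (Finset.mem_filter.mp hψ).2
      have hs : ∑ l : H, (ψ : N → ℂ) ⟨l, hHN l.2⟩ = 0 := by
        by_contra hs
        refine hxne (CfsgLib.CharNormal.res_eq_degree_of_constituent_one H' ψ.2 ?_ x hxH)
        rw [classInner_one_right]
        refine mul_ne_zero (inv_ne_zero (card_subgroup_ne_zero H')) ?_
        rwa [Fintype.sum_equiv (Subgroup.subgroupOfEquivOfLe hHN).toEquiv
          (fun n : H' => (ψ : N → ℂ) n) (fun l : H => (ψ : N → ℂ) ⟨l, hHN l.2⟩)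
          (fun n => congrArg _ (Subtype.ext rfl))]
      simp only [apply_central_mul ψ.2 hzc, ← Finset.mul_sum, ← Finset.sum_div, hs, mul_zero,
        zero_div]
    have htot : ∑ l : H, r (⟨z, hzN⟩ * ⟨l, hHN l.2⟩) = (Nat.card H : ℂ) * f ⟨z, hzN⟩ := by
      simp only [hsplit, Finset.sum_add_distrib, hf'sum, hfconst, Finset.sum_const,
        Finset.card_univ, nsmul_eq_mul, ← Nat.card_eq_fintype_card, add_zero]
    have htot' : ∑ l : H, r (⟨z, hzN⟩ * ⟨l, hHN l.2⟩) = χ z / χ 1 * ((Nat.card H : ℂ) * c) := by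
      rw [← hc, classInner_one_right, ← mul_assoc (Nat.card H : ℂ),
        mul_inv_cancel₀ (card_subgroup_ne_zero H), one_mul, Finset.mul_sum]
      refine Finset.sum_congr rfl fun l _ => ?_
      show χ (z * (l : G)) = _
      rw [apply_central_mul hχ hz]
      ring
    have he : f ⟨z * k, hx⟩ = χ z / χ 1 * c := by
      rw [show (⟨z * k, hx⟩ : N) = ⟨z, hzN⟩ * ⟨k, hHN k.2⟩ from rfl, hfconst k]
      refine mul_left_cancel₀ (card_subgroup_ne_zero H) ?_
      rw [← htot, htot']
      ring
    obtain ⟨d, hd0, hd⟩ := exists_degree_pos hχ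
    rw [he, Complex.normSq_mul, Complex.normSq_div, normSq_central hχ hz, hd, Complex.natCast_re,
      Complex.normSq_natCast, Complex.normSq_natCast, ← sq, ← sq, div_self (by positivity), one_mul]
  have hlow : (Z.card : ℝ) * Nat.card H * (c : ℝ) ^ 2 ≤ ∑ x ∈ VN, Complex.normSq (f x) := by
    let j : {g // g ∈ Z} × H → N := fun p => ⟨(p.1 : G) * (p.2 : G), N.mul_mem
      (hVN p.1 h₀ hh₀ hh₀1 (Subgroup.mem_center_iff.mp (Finset.mem_filter.mp p.1.2).2 h₀))
      (hHN p.2.2)⟩
    have hj : Function.Injective j := by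
      intro p q e
      have e' : (p.1 : G) * (p.2 : G) = (q.1 : G) * (q.2 : G) := congrArg Subtype.val e
      have h1 : ((q.1 : G)⁻¹ * p.1) = (q.2 : G) * (p.2 : G)⁻¹ := by
        rw [inv_mul_eq_iff_eq_mul, ← mul_assoc, eq_mul_inv_iff_mul_eq]
        exact e'
      have h2 : ((q.1 : G)⁻¹ * p.1) = 1 := (Subgroup.eq_bot_iff_forall _).mp hZ _
        (Subgroup.mem_inf.mpr ⟨h1 ▸ H.mul_mem q.2.2 (H.inv_mem p.2.2),
          Subgroup.mul_mem _ (Subgroup.inv_mem _ (Finset.mem_filter.mp q.1.2).2)
            (Finset.mem_filter.mp p.1.2).2⟩)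
      have h3 : (p.1 : G) = q.1 := (inv_mul_eq_one.mp h2).symm
      refine Prod.ext (Subtype.ext h3) (Subtype.ext ?_)
      rw [h3] at e'
      exact mul_left_cancel e'
    refine le_trans (le_of_eq ?_) (Finset.sum_le_sum_of_subset_of_nonneg
      (s := Finset.univ.image j) ?_ fun x _ _ => Complex.normSq_nonneg _)
    · rw [Finset.sum_image hj.injOn,
        Finset.sum_congr rfl (g := fun _ => (c : ℝ) ^ 2)
          fun p _ => hfval _ (Finset.mem_filter.mp p.1.2).2 p.2 _,
        Finset.sum_const, Finset.card_univ, Fintype.card_prod, Fintype.card_coe, nsmul_eq_mul,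
        Nat.cast_mul, Nat.card_eq_fintype_card]
    · intro x hx
      obtain ⟨⟨z, l⟩, -, rfl⟩ := Finset.mem_image.mp hx
      refine Finset.mem_filter.mpr ⟨Finset.mem_univ _, h₀, hh₀, hh₀1, ?_⟩
      have hzz := Subgroup.mem_center_iff.mp (Finset.mem_filter.mp z.2).2
      show h₀ * ((z : G) * l) = (z : G) * l * h₀
      rw [← mul_assoc, hzz h₀, mul_assoc, hab h₀ hh₀ l l.2, mul_assoc]
  have hZval : ∑ g ∈ Z, Complex.normSq (χ g) = (Z.card : ℝ) * (χ 1).re ^ 2 := by
    rw [Finset.sum_congr rfl fun g hg => normSq_central hχ (Finset.mem_filter.mp hg).2,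
      Finset.sum_const, nsmul_eq_mul]
  have hZpos : 0 < Z.card :=
    Finset.card_pos.mpr ⟨1, Finset.mem_filter.mpr ⟨Finset.mem_univ _, one_mem _⟩⟩
  have hidx : (N.index : ℝ) * Nat.card N = Nat.card G := by exact_mod_cast N.index_mul_card
  have hipos : (0 : ℝ) < N.index := by
    exact_mod_cast Nat.pos_of_ne_zero Subgroup.index_ne_zero_of_finite
  obtain ⟨d, hd0, hd⟩ := exists_degree_pos hχ
  have hdp : (0 : ℝ) < (χ 1).re ^ 2 := by
    rw [hd, Complex.natCast_re]
    positivity
  have hZp : (0 : ℝ) < Z.card := by exact_mod_cast hZpos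
  set Sf := ∑ x ∈ VN, Complex.normSq (f x)
  set SW := ∑ g ∈ W, Complex.normSq (χ g)
  have h1 : Sf + Nat.card N ≤ SW + (Z.card : ℝ) * (χ 1).re ^ 2 := by
    rw [← hZval, ← hVW, hVN1]; linarith
  rw [hZval] at hcount
  have h2 : (N.index : ℝ) * Sf + (Z.card : ℝ) * (χ 1).re ^ 2 ≤
      (N.index : ℝ) * ((Z.card : ℝ) * (χ 1).re ^ 2) := by
    nlinarith [mul_le_mul_of_nonneg_left h1 hipos.le]
  have h3 : Sf < (Z.card : ℝ) * (χ 1).re ^ 2 := by
    by_contra hle
    push Not at hle
    nlinarith [mul_le_mul_of_nonneg_left hle hipos.le, mul_pos hZp hdp]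
  by_contra hle
  push Not at hle
  nlinarith [mul_le_mul_of_nonneg_left hle hZp.le]


/-- Let H be an abelian subgroup of the finite group G meeting the centre of G trivially, such that for every non-central g the centralizer of g has nontrivial intersection with at most one conjugate of H. Let χ be an irreducible character of G with χ h ≠ χ 1 for some h in H, and let c be the inner product of the restriction of χ to H with the principal character. Then χ(1)² > (order of H)·c²; and if in addition χ 1 ≠ 1 and no proper normal subgroup of G contains H, then (1 + χ 1)² > order of H (both sides read as real numbers). -/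
theorem result {G : Type*} [Group G] [Fintype G] (H : Subgroup G) [Fintype H] (hab : ∀ a ∈ H, ∀ b ∈ H, a * b = b * a) (hZ : H ⊓ Subgroup.center G = ⊥) (hone : ∀ g : G, g ∉ Subgroup.center G → ∀ a b : G, Subgroup.centralizer ({g} : Set G) ⊓ H.map (MulAut.conj a).toMonoidHom ≠ ⊥ → Subgroup.centralizer ({g} : Set G) ⊓ H.map (MulAut.conj b).toMonoidHom ≠ ⊥ → H.map (MulAut.conj a).toMonoidHom = H.map (MulAut.conj b).toMonoidHom) (χ : G → ℂ) (hχ : Cfsg.IsIrrCharacter G χ) (hker : ∃ h ∈ H, χ h ≠ χ 1) : (χ 1).re ^ 2 > (Nat.card H : ℝ) * (Cfsg.classInner (fun h : H => χ h) (fun _ => 1)).re ^ 2 ∧ (χ 1 ≠ 1 → (∀ M : Subgroup G, M.Normal → H ≤ M → M = ⊤) → (1 + (χ 1).re) ^ 2 > (Nat.card H : ℝ)) := by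
  classical
  have hmain : ∀ ψ : G → ℂ, Cfsg.IsIrrCharacter G ψ → (∃ h ∈ H, ψ h ≠ ψ 1) → ∀ c : ℕ,
      Cfsg.classInner (fun h : H => ψ h) (fun _ => 1) = c →
      (c : ℝ) ^ 2 * Nat.card H < ((ψ 1).re) ^ 2 :=
    fun ψ hψ hk c hc => main_lemma H hab hZ hone hψ hk hc
  obtain ⟨c, hc⟩ := classInner_char_nat (isCharacter_res H (isCharacter_of_isIrr hχ))
    (isCharacter_one (G := H))
  refine ⟨?_, fun hn1 hgen => ?_⟩
  · rw [hc, Complex.natCast_re]
    have := hmain χ hχ hker c hc
    linarith
  -- the square of the absolute value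
  set Φ : G → ℂ := fun g => χ g * conj (χ g) with hΦdef
  have hχc := isCharacter_of_isIrr hχ
  have hΦ : Cfsg.IsCharacter G Φ := isCharacter_mul hχc (isCharacter_conj hχc)
  obtain ⟨m, hm, hmi⟩ := char_decomp hΦ
  obtain ⟨n, hn0, hn⟩ := exists_degree_pos hχ
  have hnc : χ 1 * conj (χ 1) = ((n * n : ℕ) : ℂ) := by rw [hn, map_natCast, Nat.cast_mul]
  have hm1 : m irrOne = 1 := by
    have e : Cfsg.classInner Φ ((irrOne : Cfsg.IrrCharacter G) : G → ℂ) =
        Cfsg.classInner χ χ := by
      rw [classInner_def, classInner_def]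
      simp [hΦdef, irrOne_apply]
    rw [hmi irrOne, classInner_irr_self hχ] at e
    exact_mod_cast e
  choose d hd0 hd using fun ψ : Cfsg.IrrCharacter G => exists_degree_pos ψ.2
  choose cH hcH using fun ψ : Cfsg.IrrCharacter G =>
    classInner_char_nat (isCharacter_res H (isCharacter_of_isIrr ψ.2)) (isCharacter_one (G := H))
  have hcH' : ∀ ψ : Cfsg.IrrCharacter G,
      Cfsg.classInner (fun h : H => (ψ : G → ℂ) h) (fun _ => 1) = cH ψ := hcH
  have hlt : ∀ ψ : Cfsg.IrrCharacter G, ψ ≠ irrOne →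
      (cH ψ : ℝ) * Real.sqrt (Nat.card H) < d ψ := by
    intro ψ hψ
    have hrel : ∃ h ∈ H, (ψ : G → ℂ) h ≠ (ψ : G → ℂ) 1 := by
      by_contra hall
      push Not at hall
      have hψc := isCharacter_of_isIrr ψ.2
      have htop := hgen (CfsgLib.CharNormal.charKer hψc) (CfsgLib.CharNormal.charKer_normal hψc)
        (fun h hh => CfsgLib.CharNormal.mem_charKer.mpr (hall h hh))
      have hconst : ∀ g, (ψ : G → ℂ) g = (ψ : G → ℂ) 1 := fun g =>
        CfsgLib.CharNormal.mem_charKer.mp (htop.ge (Subgroup.mem_top g))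
      have h1 := classInner_irr_ne ψ.2 isIrrCharacter_one fun e => hψ (Subtype.ext e)
      rw [classInner_one_right, Finset.sum_congr rfl fun g _ => hconst g, Finset.sum_const,
        Finset.card_univ, nsmul_eq_mul, ← Nat.card_eq_fintype_card, ← mul_assoc,
        inv_mul_cancel₀ card_ne_zero', one_mul] at h1
      exact irr_one_ne_zero ψ.2 h1
    have h := hmain _ ψ.2 hrel (cH ψ) (hcH' ψ)
    rw [hd ψ, Complex.natCast_re] at h
    refine lt_of_pow_lt_pow_left₀ 2 (Nat.cast_nonneg _) ?_
    rwa [mul_pow, Real.sq_sqrt (Nat.cast_nonneg _)]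
  -- the restriction of `χ` to the abelian group `H`
  have hnorm : (n : ℝ) ≤ ∑ ψ, (m ψ : ℝ) * cH ψ := by
    obtain ⟨k, hk, hki⟩ := char_decomp (isCharacter_res H hχc)
    have h1 : n = ∑ lam, k lam := by
      have h := congrFun hk 1
      simp only [OneMemClass.coe_one, hn, Finset.sum_apply, Pi.smul_apply, smul_eq_mul,
        irr_one_eq_one_of_comm (fun a b : H => Subtype.ext (hab a a.2 b b.2))
          (Subtype.prop (_ : Cfsg.IrrCharacter H)), mul_one] at h
      exact_mod_cast h
    have h2 : ∑ ψ, m ψ * cH ψ = ∑ lam, k lam * k lam := by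
      have e1 : Cfsg.classInner (fun h : H => Φ h) (fun _ => 1) =
          ((∑ lam, k lam * k lam : ℕ) : ℂ) := by
        have e := classInner_eq_sum (f' := fun h : H => χ h)
          (isClassFunction_of_isCharacter (isCharacter_res H hχc))
        simp only [hki, map_natCast, ← Nat.cast_mul, ← Nat.cast_sum] at e
        rw [← e, classInner_def, classInner_def]
        simp [hΦdef]
      have e2 : Cfsg.classInner (fun h : H => Φ h) (fun _ => 1) =
          ((∑ ψ, m ψ * cH ψ : ℕ) : ℂ) := by
        have : (fun h : H => Φ h) =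
            ∑ ψ : Cfsg.IrrCharacter G, (m ψ : ℂ) • fun h : H => (ψ : G → ℂ) h := by
          funext h
          simp [congrFun hm (h : G)]
        rw [this, classInner_sum_left, Nat.cast_sum]
        exact Finset.sum_congr rfl fun ψ _ => by rw [classInner_smul_left, hcH', Nat.cast_mul]
      exact_mod_cast e2.symm.trans e1
    have h3 : n ≤ ∑ ψ, m ψ * cH ψ := by
      rw [h1, h2]
      exact Finset.sum_le_sum fun lam _ => Nat.le_mul_self _
    exact_mod_cast h3
  have hdeg : ∑ ψ, (m ψ : ℝ) * d ψ = (n : ℝ) * n := by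
    have h := congrFun hm 1
    simp only [hΦdef, hnc, Finset.sum_apply, Pi.smul_apply, smul_eq_mul, hd] at h
    exact_mod_cast h.symm
  rw [← Finset.add_sum_erase _ _ (Finset.mem_univ (irrOne : Cfsg.IrrCharacter G)), hm1,
    Nat.cast_one, one_mul] at hnorm hdeg
  have hc1 : cH irrOne = 1 := by
    have h := hcH' irrOne
    rw [show (fun h : H => ((irrOne : Cfsg.IrrCharacter G) : G → ℂ) h) = fun _ => (1 : ℂ) from
      funext fun h => irrOne_apply (h : G), classInner_irr_self isIrrCharacter_one] at h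
    exact_mod_cast h.symm
  have hd1 : d irrOne = 1 := by
    have h := hd irrOne
    rw [show ((irrOne : Cfsg.IrrCharacter G) : G → ℂ) 1 = 1 from irrOne_apply 1] at h
    exact_mod_cast h.symm
  rw [hc1, Nat.cast_one] at hnorm
  rw [hd1, Nat.cast_one] at hdeg
  have hn2 : (1 : ℝ) < n := by
    have : n ≠ 1 := fun e => hn1 (by rw [hn, e, Nat.cast_one])
    have : 1 < n := by omega
    exact_mod_cast this
  set s := Real.sqrt (Nat.card H) with hs
  set R := (Finset.univ.erase (irrOne : Cfsg.IrrCharacter G))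
  have hstrict : (∑ ψ ∈ R, (m ψ : ℝ) * cH ψ) * s < ∑ ψ ∈ R, (m ψ : ℝ) * d ψ := by
    rw [Finset.sum_mul]
    refine Finset.sum_lt_sum (fun ψ hψ => ?_) ?_
    · rw [mul_assoc]
      exact mul_le_mul_of_nonneg_left (hlt ψ (Finset.ne_of_mem_erase hψ)).le (Nat.cast_nonneg _)
    · by_contra hall
      push Not at hall
      have hz : ∑ ψ ∈ R, (m ψ : ℝ) * d ψ = 0 := by
        refine Finset.sum_eq_zero fun ψ hψ => ?_
        have h1 := hall ψ hψ
        rw [mul_assoc] at h1
        rcases Nat.eq_zero_or_pos (m ψ) with h0 | h0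
        · simp [h0]
        · exfalso
          have := mul_lt_mul_of_pos_left (hlt ψ (Finset.ne_of_mem_erase hψ))
            (show (0 : ℝ) < (m ψ : ℝ) by exact_mod_cast h0)
          linarith
      nlinarith
  have hs0 : 0 ≤ s := Real.sqrt_nonneg _
  have hkey : s < (n : ℝ) + 1 := by
    by_contra hle
    push Not at hle
    nlinarith
  rw [hn, Complex.natCast_re, gt_iff_lt, ← Real.sq_sqrt (Nat.cast_nonneg (Nat.card H))]
  nlinarith

end Cfsg.Agent.S0898
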