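import Cfsg.Statements.S0319
import Cfsg.Agent.Lib.Chev.BNPair

set_option autoImplicit false
open Cfsg

namespace Cfsg.Agent.S0319

/-- Simplicity criterion for groups with a (B,N)-pair: if the distinguished generators admit no
splitting into two non-empty mutually commuting parts, `B` is solvable, `G` is perfect and the intersection
of all conjugates of `B` is trivial, then `G` is simple. -/
theorem result {G : Type*} [Group G] [Nontrivial G]
    (P : Cfsg.BNPair G) (hirr : P.Irreducible) (hsolv : Group.IsSolvable P.B) (hperf : commutator G = ⊤)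
    (hcore : P.B.normalCore = ⊥) : IsSimpleGroup G := by
  refine ⟨fun K hK => ?_⟩
  by_cases hK0 : K = ⊥
  · exact Or.inl hK0
  right
  have hM : P.B ≤ P.B ⊔ K := le_sup_left
  set J := P.S ∩ ((P.B ⊔ K : Subgroup G) : Set G) with hJdef
  have hMJ : P.B ⊔ K = P.parabolic J := CfsgLib.Chev.BN.eq_parabolic hM
  by_cases hJS : J = P.S
  · rw [hJS, CfsgLib.Chev.BN.parabolic_S] at hMJ
    have hsurj : Function.Surjective ((QuotientGroup.mk' K).comp P.B.subtype) := by
      intro x
      obtain ⟨g, rfl⟩ := QuotientGroup.mk'_surjective K x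
      have hg : g ∈ P.B ⊔ K := hMJ.symm ▸ Subgroup.mem_top g
      obtain ⟨b, hb, k, hk, rfl⟩ := Subgroup.mem_sup_of_normal_right.1 hg
      refine ⟨⟨b, hb⟩, ?_⟩
      simp only [MonoidHom.comp_apply, Subgroup.subtype_apply, map_mul]
      rw [show QuotientGroup.mk' K k = 1 from (QuotientGroup.eq_one_iff k).2 hk, mul_one]
    haveI := hsolv
    have hsol : Group.IsSolvable (G ⧸ K) := Group.isSolvable_of_surjective hsurj
    have hperf' : commutator (G ⧸ K) = ⊤ := by
      have h := Subgroup.map_commutator (⊤ : Subgroup G) ⊤ (QuotientGroup.mk' K)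
      rw [Subgroup.map_top_of_surjective _ (QuotientGroup.mk'_surjective K), ← commutator_def,
        hperf, Subgroup.map_top_of_surjective _ (QuotientGroup.mk'_surjective K)] at h
      rw [commutator_def]; exact h.symm
    rcases subsingleton_or_nontrivial (G ⧸ K) with h | h
    · exact QuotientGroup.subgroup_eq_top_of_subsingleton K h
    · exact absurd hperf' (Group.IsSolvable.commutator_lt_top_of_nontrivial (G ⧸ K)).ne
  exfalso
  by_cases hJ0 : J = ∅
  · apply hK0
    have hKB : K ≤ P.B := by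
      have hle : P.B ⊔ K ≤ P.B := by
        rw [hMJ, hJ0]; simp [Cfsg.BNPair.parabolic]
      exact le_sup_right.trans hle
    exact le_bot_iff.1 (hcore ▸ Subgroup.normal_le_normalCore.2 hKB)
  have hJsub : J ⊆ P.S := Set.inter_subset_left
  obtain ⟨s, hsJ, s', hs'J, hss'⟩ := hirr J hJsub (Set.nonempty_iff_ne_empty.2 hJ0)
    (Set.sdiff_nonempty.2 fun h => hJS (le_antisymm hJsub h))
  obtain ⟨hs'S, hs'J⟩ := hs'J
  have hsS := hJsub hsJ
  obtain ⟨b, hb, k, hk, hbk⟩ := Subgroup.mem_sup_of_normal_right.1 (hsJ.2 : s ∈ P.B ⊔ K)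
  -- `k = b⁻¹ s` lies in `K`; its conjugate by `s'` lies in the parabolic subgroup
  have hconj : s' * k * s'⁻¹ ∈ P.parabolic J := hMJ ▸ Subgroup.mem_sup_right (hK.conj_mem k hk s')
  have hsN := P.subset hsS
  have hs'N := P.subset hs'S
  have hs'not : s' ∉ P.parabolic J := fun h => hs'J ((CfsgLib.Chev.BN.mem_parabolic_S hJsub hs'S).1 h)
  have hlen2 : CfsgLib.Chev.BN.len P (s' * s) = 2 := by
    rcases CfsgLib.Chev.BN.len_up_or_down hs'S hsN with h | h
    · rw [h, CfsgLib.Chev.BN.len_s hsS]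
    · exfalso
      rw [CfsgLib.Chev.BN.len_s hsS] at h
      have h0 : s' * s ∈ P.B := (CfsgLib.Chev.BN.len_eq_zero_iff (mul_mem hs'N hsN)).1 (by omega)
      apply hs'not
      have := mul_mem (CfsgLib.Chev.BN.B_le_parabolic J h0)
        (inv_mem (CfsgLib.Chev.BN.J_subset_parabolic hsJ))
      simpa using this
  -- `s' b⁻¹ s ∈ B s' s B`
  have hmem : s' * b⁻¹ * s ∈ CfsgLib.Chev.BN.cell P (s' * s) :=
    CfsgLib.Chev.BN.step_up hs'S hsN (by rw [hlen2, CfsgLib.Chev.BN.len_s hsS]; omega) (inv_mem hb)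
  obtain ⟨b₁, hb₁, b₂, hb₂, e⟩ := CfsgLib.Chev.BN.mem_cell.1 hmem
  have hk' : k = b⁻¹ * s := by rw [← hbk]; group
  have hP : b₁ * (s' * s * b₂ * s'⁻¹) ∈ P.parabolic J := by
    rw [show b₁ * (s' * s * b₂ * s'⁻¹) = (b₁ * (s' * s) * b₂) * s'⁻¹ by group, ← e,
      show s' * b⁻¹ * s * s'⁻¹ = s' * k * s'⁻¹ by rw [hk']; group]
    exact hconj
  have hP' : s' * s * b₂ * s'⁻¹ ∈ P.parabolic J := by
    have := mul_mem (inv_mem (CfsgLib.Chev.BN.B_le_parabolic J hb₁)) hP
    simpa using this
  have hP'' : s' * s * (b₂ * (s' * s')⁻¹) * s' ∈ P.parabolic J := by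
    rwa [show s' * s * (b₂ * (s' * s')⁻¹) * s' = s' * s * b₂ * s'⁻¹ by group]
  have hnN : s' * s * s' ∈ P.N := mul_mem (mul_mem hs'N hsN) hs'N
  rcases CfsgLib.Chev.BN.step_right hs'S (mul_mem hs'N hsN)
      (mul_mem hb₂ (inv_mem (P.sq_mem s' hs'S))) (CfsgLib.Chev.BN.mem_cell_self (s' * s)) with h | h
  · obtain ⟨l, hl, hl'⟩ := (CfsgLib.Chev.BN.mem_parabolic_iff hJsub).1 hP''
    have hlw : CfsgLib.Chev.BN.IsWord P l := fun x hx => hJsub (hl x hx)
    have he := CfsgLib.Chev.BN.eqv_of_mem_cells hlw.prod_mem hnN hl' h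
    have hin : s' * s * s' ∈ P.parabolic J :=
      (CfsgLib.Chev.BN.mem_parabolic_iff hJsub).2 ⟨l, hl, he.cell_eq ▸ CfsgLib.Chev.BN.mem_cell_self _⟩
    have hinW := (CfsgLib.Chev.BN.mem_parabolic_N hJsub hnN).1 hin
    obtain ⟨m, hmJ, hmred, hme⟩ := CfsgLib.Chev.BN.exists_red_subset hJsub hinW
    have hmlen : CfsgLib.Chev.BN.len P (s' * s * s') = m.length := by
      rw [← CfsgLib.Chev.BN.len_congr hme, hmred.2]
    -- the word `s' s s'` is not reduced, so it has length one
    have hlow : CfsgLib.Chev.BN.len P (s' * s * s') ≠ 3 := by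
      intro h3
      have hred : CfsgLib.Chev.BN.Red P [s', s, s'] := by
        refine ⟨by intro x hx; simp at hx; rcases hx with rfl | rfl | rfl <;> assumption, ?_⟩
        simpa [mul_assoc] using h3
      have := CfsgLib.Chev.BN.red_mem_J hJsub hred (by simpa [mul_assoc] using hinW) s' (by simp)
      exact hs'J this
    obtain ⟨m', hsub, hm'red, hm'e⟩ := CfsgLib.Chev.BN.exists_red_sublist (P := P) (l := [s', s, s'])
      (by intro x hx; simp at hx; rcases hx with rfl | rfl | rfl <;> assumption)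
    have hm'J : ∀ x ∈ m', x ∈ J := by
      refine CfsgLib.Chev.BN.red_mem_J hJsub hm'red ?_
      have h1 : m'.prod ∈ P.parabolic J := by
        have h2 : CfsgLib.Chev.BN.Eqv P m'.prod (s' * s * s') := by simpa [mul_assoc] using hm'e
        have := mul_mem hin (CfsgLib.Chev.BN.B_le_parabolic J h2.symm.1)
        rwa [mul_inv_cancel_left] at this
      exact (CfsgLib.Chev.BN.mem_parabolic_N hJsub hm'red.1.prod_mem).1 h1
    classical
    have hsub' : m'.Sublist [s] := by
      have hf : m'.filter (fun x => decide (x ≠ s')) = m' := by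
        rw [List.filter_eq_self]
        intro x hx
        have : x ≠ s' := fun h => hs'J (h ▸ hm'J x hx)
        simpa using this
      have := hsub.filter (fun x => decide (x ≠ s'))
      rw [hf] at this
      have hne : s ≠ s' := fun h => hs'J (h ▸ hsJ)
      simpa [hne] using this
    have hcases : m' = [] ∨ m' = [s] := by
      rcases List.sublist_cons_iff.1 hsub' with h | ⟨r, rfl, hr⟩
      · exact Or.inl (List.eq_nil_of_sublist_nil h)
      · exact Or.inr (by rw [List.eq_nil_of_sublist_nil hr])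
    rcases hcases with rfl | rfl
    · -- `s' s s' ∈ B`
      have he1 : CfsgLib.Chev.BN.Eqv P 1 (s' * s * s') := by simpa [mul_assoc] using hm'e
      have h1 := CfsgLib.Chev.BN.len_congr (he1.mul_left s')
      rw [mul_one, CfsgLib.Chev.BN.len_s hs'S, mul_assoc,
        CfsgLib.Chev.BN.len_congr (CfsgLib.Chev.BN.eqv_twice hs'S (mul_mem hsN hs'N))] at h1
      have h2 : CfsgLib.Chev.BN.Eqv P (s' * 1) (s' * (s' * (s * s'))) := by
        have := he1.mul_left s'
        simpa [mul_assoc] using this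
      have h3 := h2.trans (CfsgLib.Chev.BN.eqv_twice hs'S (mul_mem hsN hs'N))
      have h4 := h3.mul_right (inv_mem hs'N)
      rw [mul_one, mul_inv_cancel, mul_inv_cancel_right] at h4
      exact CfsgLib.Chev.BN.s_not_mem_B hsS (CfsgLib.Chev.BN.eqv_one_iff.1 h4).1
    · -- `s` and `s'` commute modulo `B ∩ N`
      have he1 : CfsgLib.Chev.BN.Eqv P s (s' * s * s') := by simpa [mul_assoc] using hm'e
      have h2 : CfsgLib.Chev.BN.Eqv P (s' * s) (s * s') := by
        have h := he1.mul_left s'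
        rw [mul_assoc s' s s'] at h
        exact h.trans (CfsgLib.Chev.BN.eqv_twice hs'S (mul_mem hsN hs'N))
      have h3 : CfsgLib.Chev.BN.Eqv P 1 (s * s' * (s' * s)⁻¹) := by
        have := h2.mul_right (inv_mem (mul_mem hs'N hsN))
        rwa [mul_inv_cancel] at this
      exact hss' (by simpa [mul_assoc] using (CfsgLib.Chev.BN.eqv_one_iff.1 h3).1)
  · obtain ⟨l, hl, hl'⟩ := (CfsgLib.Chev.BN.mem_parabolic_iff hJsub).1 hP''
    have hlw : CfsgLib.Chev.BN.IsWord P l := fun x hx => hJsub (hl x hx)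
    have he := CfsgLib.Chev.BN.eqv_of_mem_cells hlw.prod_mem (mul_mem hs'N hsN) hl' h
    have hin : s' * s ∈ P.parabolic J :=
      (CfsgLib.Chev.BN.mem_parabolic_iff hJsub).2 ⟨l, hl, he.cell_eq ▸ CfsgLib.Chev.BN.mem_cell_self _⟩
    apply hs'not
    simpa using mul_mem hin (inv_mem (CfsgLib.Chev.BN.J_subset_parabolic hsJ))

end Cfsg.Agent.S0319
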