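import Cfsg.Statements.S3963

set_option autoImplicit false
open Cfsg

namespace Cfsg.Agent.S3963

/-- For every `n ≥ 1` the dicyclic (generalized quaternion) group of order `4 n` has trivial Schur multiplier. -/
theorem result (n : ℕ) [NeZero n] : Cfsg.HasCyclicSchurMultiplier (QuaternionGroup n) 1 := by
  refine ⟨⟨QuaternionGroup n, inferInstance, inferInstance, MonoidHom.id _,
    ⟨fun x => ⟨x, rfl⟩, by simp, by simp⟩, ⟨?_⟩⟩, ?_⟩
  · have hs : Subsingleton (MonoidHom.id (QuaternionGroup n)).ker := ⟨fun u v => Subtype.ext (by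
      have hu : (u : QuaternionGroup n) = 1 := u.2
      have hv : (v : QuaternionGroup n) = 1 := v.2
      rw [hu, hv])⟩
    exact { toFun := fun _ => 1, invFun := fun _ => 1, left_inv := fun _ => Subsingleton.elim _ _,
            right_inv := fun _ => Subsingleton.elim _ _, map_mul' := fun _ _ => (one_mul _).symm }
  intro Γ _ _ σ ⟨hsurj, hcen, hcomm⟩
  suffices hbot : ∀ k ∈ σ.ker, k = 1 by
    exact ⟨1, fun y => ⟨1, Subtype.ext (hbot y y.2).symm⟩⟩
  obtain ⟨X, hX⟩ := hsurj (QuaternionGroup.a 1)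
  obtain ⟨Y, hY⟩ := hsurj (QuaternionGroup.xa 0)
  have hcz : ∀ {z : Γ}, σ z = 1 → ∀ g, g * z = z * g := fun hz g =>
    Subgroup.mem_center_iff.1 (hcen hz) g
  set z2 := X * (Y * X * Y⁻¹) with hz2
  have hz2k : σ z2 = 1 := by
    rw [hz2, map_mul, map_mul, map_mul, map_inv, hX, hY, ← mul_assoc, mul_inv_eq_one]
    simp [QuaternionGroup.xa_mul_a, QuaternionGroup.a_mul_xa]
  have hz1k : σ ((X ^ n)⁻¹ * Y ^ 2) = 1 := by
    rw [map_mul, map_inv, map_pow, map_pow, hX, hY, QuaternionGroup.a_one_pow,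
      QuaternionGroup.xa_sq]
    simp
  have hconj : Y * X * Y⁻¹ = X⁻¹ * z2 := by rw [hz2]; group
  set C := (X ^ 2)⁻¹ * z2 with hC
  have hXC : X * C * X⁻¹ = C := by
    rw [hC, ← mul_assoc X, mul_assoc _ z2, ← hcz hz2k X⁻¹]; group
  have hYC : Y * C * Y⁻¹ = C⁻¹ := by
    have h1 : Y * C * Y⁻¹ = ((Y * X * Y⁻¹) ^ 2)⁻¹ * (Y * z2 * Y⁻¹) := by
      rw [conj_pow, hC]; group
    rw [h1, hconj, hcz hz2k Y, mul_inv_cancel_right, Commute.mul_pow (hcz hz2k X⁻¹), hC]
    simp only [mul_inv_rev, inv_pow, inv_inv]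
    have h2 : (z2 ^ 2)⁻¹ * z2 = z2⁻¹ := by group
    rw [show ((z2 : Γ) ^ 2)⁻¹ * X ^ 2 * z2 = (z2 ^ 2)⁻¹ * z2 * X ^ 2 by
      rw [mul_assoc ((z2 : Γ) ^ 2)⁻¹ (X ^ 2) z2, hcz hz2k (X ^ 2), ← mul_assoc ((z2 : Γ) ^ 2)⁻¹ z2 (X ^ 2)], h2]
  -- the derived subgroup lies in the cyclic group generated by `C`
  have hgen : Subgroup.closure ({X, Y} ∪ (σ.ker : Set Γ)) = ⊤ := by
    refine eq_top_iff.2 fun g _ => ?_
    have hXm : X ∈ Subgroup.closure ({X, Y} ∪ (σ.ker : Set Γ)) :=
      Subgroup.subset_closure (Or.inl (Or.inl rfl))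
    have hYm : Y ∈ Subgroup.closure ({X, Y} ∪ (σ.ker : Set Γ)) :=
      Subgroup.subset_closure (Or.inl (Or.inr rfl))
    have key : ∀ w : Γ, σ w = σ g → w ∈ Subgroup.closure ({X, Y} ∪ (σ.ker : Set Γ)) →
        g ∈ Subgroup.closure ({X, Y} ∪ (σ.ker : Set Γ)) := fun w hw hwm => by
      rw [show g = w * (w⁻¹ * g) by group]
      exact Subgroup.mul_mem _ hwm (Subgroup.subset_closure (Or.inr (by
        rw [SetLike.mem_coe, MonoidHom.mem_ker, map_mul, map_inv, hw, inv_mul_cancel])))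
    cases hg : σ g with
    | a i =>
      refine key (X ^ i.val) ?_ (Subgroup.pow_mem _ hXm _)
      rw [hg, map_pow, hX, QuaternionGroup.a_one_pow, ZMod.natCast_zmod_val]
    | xa i =>
      refine key (Y * X ^ i.val) ?_ (Subgroup.mul_mem _ hYm (Subgroup.pow_mem _ hXm _))
      rw [hg, map_mul, map_pow, hX, hY, QuaternionGroup.a_one_pow, ZMod.natCast_zmod_val,
        QuaternionGroup.xa_mul_a, zero_add]
  haveI hN : (Subgroup.zpowers C).Normal := by
    rw [← Subgroup.normalizer_eq_top_iff, eq_top_iff, ← hgen, Subgroup.closure_le]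
    have key : ∀ w : Γ, (w * C * w⁻¹ = C ∨ w * C * w⁻¹ = C⁻¹) →
        w ∈ Subgroup.normalizer (Subgroup.zpowers C : Set Γ) := by
      intro w hw
      have hmap : (Subgroup.zpowers C).map (MulAut.conj w).toMonoidHom = Subgroup.zpowers C := by
        rw [MonoidHom.map_zpowers]
        rcases hw with h | h <;> simp [MulAut.conj_apply, h]
      refine Subgroup.mem_normalizer_iff.2 fun s => ⟨fun hs => ?_, fun hs => ?_⟩
      · rw [← hmap]; exact ⟨s, hs, by simp⟩
      · rw [← hmap] at hs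
        obtain ⟨u, hu, hu'⟩ := hs
        simp at hu'
        exact hu' ▸ hu
    rintro w ((rfl | rfl) | hw)
    · exact key _ (Or.inl hXC)
    · exact key _ (Or.inr hYC)
    · exact key _ (Or.inl (by rw [← hcz hw C]; group))
  have hab : commutator Γ ≤ Subgroup.zpowers C := by
    let f := QuotientGroup.mk' (Subgroup.zpowers C)
    have hCeq : C = (X ^ 2)⁻¹ * X * (Y * X * Y⁻¹) := by rw [hC, hz2]; group
    have hxy : f Y * f X = f X * f Y := by
      have h1 : f C = 1 := (QuotientGroup.eq_one_iff C).2 (Subgroup.mem_zpowers C)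
      have h1' : f ((X ^ 2)⁻¹ * X * (Y * X * Y⁻¹)) = 1 := (congrArg f hCeq).symm.trans h1
      simp only [map_mul, map_inv, map_pow] at h1'
      calc f Y * f X = f X * ((f X ^ 2)⁻¹ * f X * (f Y * f X * (f Y)⁻¹)) * f Y := by group
        _ = f X * f Y := by rw [h1', mul_one]
    have hall : ∀ g : Γ, f g ∈ Subgroup.center (Γ ⧸ Subgroup.zpowers C) := by
      have hgen' : ∀ w ∈ ({X, Y} ∪ (σ.ker : Set Γ)), f w ∈ Subgroup.center _ := by
        intro w hw
        refine Subgroup.mem_center_iff.2 fun q => ?_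
        obtain ⟨g, rfl⟩ := QuotientGroup.mk'_surjective (Subgroup.zpowers C) q
        have hg : g ∈ Subgroup.closure ({X, Y} ∪ (σ.ker : Set Γ)) := hgen ▸ Subgroup.mem_top g
        suffices Commute (f g) (f w) from this.eq
        induction hg using Subgroup.closure_induction with
        | mem v hv =>
          rcases hw with (rfl | rfl) | hw
          · rcases hv with (rfl | rfl) | hv
            · exact Commute.refl _
            · exact hxy
            · exact Commute.map (show Commute v w from (hcz hv _).symm) f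
          · rcases hv with (rfl | rfl) | hv
            · exact hxy.symm
            · exact Commute.refl _
            · exact Commute.map (show Commute v w from (hcz hv _).symm) f
          · exact Commute.map (show Commute v w from hcz hw v) f
        | one => rw [map_one]; exact Commute.one_left _
        | mul a b _ _ iha ihb => rw [map_mul]; exact iha.mul_left ihb
        | inv a _ iha => rw [map_inv]; exact iha.inv_left
      intro g
      have hg : g ∈ Subgroup.closure ({X, Y} ∪ (σ.ker : Set Γ)) := hgen ▸ Subgroup.mem_top g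
      exact ((Subgroup.closure_le (K := (Subgroup.center _).comap f)).2 hgen') hg
    rw [commutator_def, Subgroup.commutator_le]
    intro u _ v _
    refine (QuotientGroup.eq_one_iff _).1 ?_
    show f _ = 1
    rw [map_commutatorElement, commutatorElement_eq_one_iff_mul_comm]
    exact Subgroup.mem_center_iff.1 (hall v) (f u)
  intro k hk
  obtain ⟨m, rfl⟩ := hab (hcomm hk)
  -- `C ^ n = 1`
  have hCn : C ^ n = 1 := by
    have h1 : Y * X ^ n * Y⁻¹ = X ^ n := by
      have h2 := hcz hz1k Y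
      have hXn : X ^ n = Y ^ 2 * ((X ^ n)⁻¹ * Y ^ 2)⁻¹ := by group
      rw [hXn, ← mul_assoc, mul_assoc _ _ Y⁻¹]
      have h3 : ((X ^ n)⁻¹ * Y ^ 2)⁻¹ * Y⁻¹ = Y⁻¹ * ((X ^ n)⁻¹ * Y ^ 2)⁻¹ := by
        rw [← mul_inv_rev, ← mul_inv_rev, h2]
      rw [h3]; group
    rw [← conj_pow, hconj, Commute.mul_pow (hcz hz2k X⁻¹)] at h1
    rw [hC, Commute.mul_pow (hcz hz2k _), inv_pow, ← pow_mul, mul_comm 2 n, pow_mul, sq]
    rw [inv_pow] at h1
    calc (X ^ n * X ^ n)⁻¹ * z2 ^ n = (X ^ n)⁻¹ * ((X ^ n)⁻¹ * z2 ^ n) := by group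
      _ = 1 := by rw [h1, inv_mul_cancel]
  have hord : orderOf C ∣ n := orderOf_dvd_of_pow_eq_one hCn
  suffices (n : ℤ) ∣ m by
    obtain ⟨r, rfl⟩ := this
    show C ^ ((n : ℤ) * r) = 1
    rw [zpow_mul, zpow_natCast, hCn, one_zpow]
  have hσC : σ C = ((QuaternionGroup.a 1 : QuaternionGroup n) ^ 2)⁻¹ := by
    rw [hC, map_mul, hz2k, mul_one, map_inv, map_pow, hX]
  have hk' : σ (C ^ m) = 1 := hk
  rw [map_zpow, hσC, inv_zpow, inv_eq_one, ← zpow_natCast, ← zpow_mul,
    ← orderOf_dvd_iff_zpow_eq_one, QuaternionGroup.orderOf_a_one] at hk'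
  exact (mul_dvd_mul_iff_left (two_ne_zero (α := ℤ))).1 (by simpa using hk')

end Cfsg.Agent.S3963
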