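import Cfsg.Statements.S0081
import Cfsg.Agent.Lib.Transfer.Tate

set_option autoImplicit false
open Cfsg

namespace Cfsg.Agent.S0081

/-- If a normal subgroup meets a Sylow p-subgroup P inside the Frattini subgroup of P, then it has a normal p-complement. -/
theorem result {G : Type*} [Group G] [Finite G] {p : ℕ} [Fact p.Prime] (P : Sylow p G) (N : Subgroup G) [N.Normal] (h : N ⊓ (P : Subgroup G) ≤ (frattini P).map (P : Subgroup G).subtype) : Cfsg.HasNormalPComplement p N := by
  have hPM : (P : Subgroup G) ≤ N ⊔ (P : Subgroup G) := le_sup_right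
  have hNM : N ≤ N ⊔ (P : Subgroup G) := le_sup_left
  set M := N ⊔ (P : Subgroup G)
  let PM := P.subtype hPM
  have hR : Cfsg.pResidual p M ≤ N.subgroupOf M := by
    have : (N.subgroupOf M).Normal := Subgroup.Normal.subgroupOf inferInstance M
    refine CfsgLib.Transfer.pResidual_le ?_
    obtain ⟨a, ha⟩ := IsPGroup.iff_card.1 P.2
    obtain ⟨j, -, hj⟩ := (Nat.dvd_prime_pow (Fact.out : p.Prime)).1 (show N.relIndex M ∣ p ^ a by
      rw [show N.relIndex M = N.relIndex (P : Subgroup G) by
        show N.relIndex (N ⊔ (P : Subgroup G)) = _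
        rw [sup_comm, Subgroup.relIndex_sup_right], ← ha]
      exact Subgroup.relIndex_dvd_card N _)
    exact IsPGroup.of_card (n := j) hj
  have key : Cfsg.HasNormalPComplement p M := by
    refine CfsgLib.Transfer.hasNormalPComplement_of_le_frattini PM ?_
    rintro x ⟨hxP, hxR⟩
    obtain ⟨y, hy, e⟩ := h (show (x : G) ∈ N ⊓ (P : Subgroup G) from ⟨hR hxR, hxP⟩)
    let e0 : (PM : Subgroup M) ≃* (P : Subgroup G) := Subgroup.subgroupOfEquivOfLe hPM
    exact ⟨e0.symm y, frattini_le_comap_frattini_of_surjective (φ := e0.symm.toMonoidHom)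
      e0.symm.surjective hy, Subtype.ext e⟩
  exact CfsgLib.Transfer.hasNormalPComplement_of_injective (Subgroup.inclusion hNM)
    (Subgroup.inclusion_injective hNM) key

end Cfsg.Agent.S0081
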