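import Cfsg.Statements.S2426
import Cfsg.Agent.Lib.SL2Pres.Steinberg

set_option autoImplicit false
open Cfsg

namespace Cfsg.Agent.S2426

open CfsgLib.SL2Pres
open Multiplicative (ofAdd)
open scoped MatrixGroups

/-- The root elements in SL₂. -/
def root {K : Type*} [Field K] (p : Bool × K) : Matrix.SpecialLinearGroup (Fin 2) K :=
  if p.1 then xHom K (ofAdd p.2) else ⟨!![1, 0; p.2, 1], by simp [Matrix.det_fin_two]⟩

theorem root_val {K : Type*} [Field K] (b : Bool) (c : K) :
    ((root (b, c) : Matrix.SpecialLinearGroup (Fin 2) K) : Matrix (Fin 2) (Fin 2) K)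
      = if b then !![1, c; 0, 1] else !![1, 0; c, 1] := by
  cases b <;> rfl


/-- The rank-one Steinberg presentation of `SL₂` over a finite field `K`: generators `x(t)`, `y(t)` (`t ∈ K`; the two opposite root subgroups) subject to additivity `x(t)x(u) = x(t+u)`, `y(t)y(u) = y(t+u)` and, with `w(t) = x(t) y(−t⁻¹) x(t)` and `w'(t) = y(t) x(−t⁻¹) y(t)` for `t ≠ 0`, the relations `w(t) x(u) w(t)⁻¹ = y(−t⁻² u)` and `w'(t) y(u) w'(t)⁻¹ = x(−t⁻² u)`, present `SL₂(K)`, with `x(t) ↦ (1 t; 0 1)` and `y(t) ↦ (1 0; t 1)`. -/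
theorem result {K : Type*} [Field K] [Finite K] :
    ∃ e : PresentedGroup
        ({g : FreeGroup (Bool × K) | ∃ (b : Bool) (t u : K), g = FreeGroup.of (b, t) * FreeGroup.of (b, u) * (FreeGroup.of (b, t + u))⁻¹} ∪
          {g | ∃ (b : Bool) (t u : K), t ≠ 0 ∧
            g = (FreeGroup.of (b, t) * FreeGroup.of (!b, -t⁻¹) * FreeGroup.of (b, t)) * FreeGroup.of (b, u) *
                  (FreeGroup.of (b, t) * FreeGroup.of (!b, -t⁻¹) * FreeGroup.of (b, t))⁻¹ * (FreeGroup.of (!b, -(t⁻¹ ^ 2 * u)))⁻¹})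
        ≃* Matrix.SpecialLinearGroup (Fin 2) K,
      (∀ t : K, ((e (PresentedGroup.of (true, t)) : Matrix (Fin 2) (Fin 2) K)) = !![1, t; 0, 1]) ∧
      (∀ t : K, ((e (PresentedGroup.of (false, t)) : Matrix (Fin 2) (Fin 2) K)) = !![1, 0; t, 1]) := by
  classical
  have := Fintype.ofFinite K
  set R : Set (FreeGroup (Bool × K)) := _ ∪ _ with hR
  have hrel : ∀ r ∈ R, FreeGroup.lift (root (K := K)) r = 1 := by
    rintro r (⟨b, t, u, rfl⟩ | ⟨b, t, u, ht, rfl⟩)
    · simp only [map_mul, map_inv, FreeGroup.lift_apply_of]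
      rw [mul_inv_eq_one]
      refine Matrix.SpecialLinearGroup.ext _ _ fun i j => ?_
      rw [Matrix.SpecialLinearGroup.coe_mul, root_val, root_val, root_val]
      cases b <;> fin_cases i <;> fin_cases j <;>
        simp [Matrix.mul_apply, Fin.sum_univ_two, add_comm]
    · simp only [map_mul, map_inv, FreeGroup.lift_apply_of]
      rw [mul_inv_eq_one, mul_inv_eq_iff_eq_mul]
      refine Matrix.SpecialLinearGroup.ext _ _ fun i j => ?_
      simp only [Matrix.SpecialLinearGroup.coe_mul, root_val]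
      cases b <;> fin_cases i <;> fin_cases j <;>
        simp [Matrix.mul_apply, Fin.sum_univ_two] <;> field_simp <;> ring_nf <;> simp [ht]
  let φ : PresentedGroup R →* Matrix.SpecialLinearGroup (Fin 2) K := PresentedGroup.toGroup hrel
  have φof : ∀ b c, φ (PresentedGroup.of (b, c)) = root (b, c) :=
    fun b c => PresentedGroup.toGroup.of hrel
  let e : Bool → K → PresentedGroup R := fun b c => PresentedGroup.of (b, c)
  have S : St2 e :=
    { add := fun b t u => by
        have h := PresentedGroup.one_of_mem (rels := R) (Or.inl ⟨b, t, u, rfl⟩)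
        simp only [map_mul, map_inv] at h
        exact (mul_inv_eq_one.1 h).symm
      rel := fun b t u ht => by
        have h := PresentedGroup.one_of_mem (rels := R) (Or.inr ⟨b, t, u, ht, rfl⟩)
        simp only [map_mul, map_inv] at h
        exact mul_inv_eq_one.1 h }
  obtain ⟨t, ht, -⟩ := exists_gen K
  have hspan : ∀ c : K, ∃ P : Polynomial ℤ, Polynomial.aeval ((t : K) ^ 2) P = c := by
    by_cases h2 : (2 : K) = 0
    · intro c
      have : CharP K 2 := CharTwo.of_one_ne_zero_of_two_eq_zero one_ne_zero h2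
      obtain ⟨y, rfl⟩ := FiniteField.isSquare_of_char_two (ringChar.eq K 2) c
      rcases eq_or_ne y 0 with rfl | hy0
      · exact ⟨0, by simp⟩
      · obtain ⟨k, hk⟩ := ht (Units.mk0 y hy0)
        refine ⟨Polynomial.X ^ k, ?_⟩
        rw [map_pow, Polynomial.aeval_X, ← pow_mul, mul_comm 2 k, pow_mul,
          ← Units.val_pow_eq_pow_val t, hk, Units.val_mk0, pow_two]
    · exact square_generates h2 ht
  obtain ⟨n, hn⟩ := ht (-1)
  have hn' : (t : K) ^ n = -1 := by rw [← Units.val_pow_eq_pow_val, hn]; simp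
  obtain ⟨D, hDX, hDw, hDh⟩ := S.exists_rules ht n hn'
  set M := slModel t ht hspan n hn'
  have hs : (t : K) ^ 2 ≠ 0 := pow_ne_zero _ t.ne_zero
  have hN : 0 < orderOf t := orderOf_pos t
  have φX : ∀ c, φ (D.X (ofAdd c)) = M.X (ofAdd c) := fun c => by
    rw [hDX]
    exact φof true c
  have φwSt : ∀ c : K, c ≠ 0 → ((φ (wSt e true c) : Matrix.SpecialLinearGroup (Fin 2) K) :
      Matrix (Fin 2) (Fin 2) K) = !![0, c; -c⁻¹, 0] := by
    intro c hc
    simp only [wSt, map_mul, e, φof, Bool.not_true, Matrix.SpecialLinearGroup.coe_mul, root_val]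
    ext i j
    fin_cases i <;> fin_cases j <;> simp [Matrix.mul_apply, Fin.sum_univ_two, hc]
  have φw : φ D.w = M.w := by
    rw [hDw]
    refine Matrix.SpecialLinearGroup.ext _ _ fun i j => ?_
    rw [φwSt 1 one_ne_zero]
    show _ = ((wEl K : Matrix.SpecialLinearGroup (Fin 2) K) : Matrix (Fin 2) (Fin 2) K) i j
    rw [wEl_val, inv_one]
  have φh : φ D.h = M.h := by
    rw [hDh, hSt, map_mul, map_inv, mul_inv_eq_iff_eq_mul]
    refine Matrix.SpecialLinearGroup.ext _ _ fun i j => ?_
    rw [Matrix.SpecialLinearGroup.coe_mul, φwSt 1 one_ne_zero, φwSt _ t.ne_zero,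
      show ((M.h : Matrix.SpecialLinearGroup (Fin 2) K) : Matrix (Fin 2) (Fin 2) K)
        = !![(t : K), 0; 0, ((t⁻¹ : Kˣ) : K)] from hDiag_val t]
    fin_cases i <;> fin_cases j <;> simp [Matrix.mul_apply, Fin.sum_univ_two]
  have hgenP : Subgroup.closure ({D.X (ofAdd 1), D.h, D.w} : Set (PresentedGroup R)) = ⊤ := by
    set C := Subgroup.closure ({D.X (ofAdd 1), D.h, D.w} : Set (PresentedGroup R))
    have hX : ∀ c, D.X (ofAdd c) ∈ C := hom_mem_of_span D.X D.h D.conj hspan C
      (Subgroup.subset_closure (by simp)) (Subgroup.subset_closure (by simp))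
    rw [eq_top_iff, ← PresentedGroup.closure_range_of, Subgroup.closure_le]
    rintro _ ⟨⟨b, c⟩, rfl⟩
    cases b
    · have h := S.w_conj true one_ne_zero (-c)
      simp only [Bool.not_true, inv_one, one_pow, one_mul, neg_neg] at h
      show e false c ∈ C
      rw [← h, ← hDw, ← hDX]
      exact mul_mem (mul_mem (Subgroup.subset_closure (by simp)) (hX _))
        (inv_mem (Subgroup.subset_closure (by simp)))
    · show e true c ∈ C
      rw [← hDX]
      exact hX _
  have hcovc : ∀ c : K, c ≠ 0 → D.w * D.X (ofAdd c) * D.w⁻¹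
      = D.X (ofAdd (-c⁻¹)) * (hSt e c⁻¹ * D.w) * D.X (ofAdd (-c⁻¹)) := by
    intro c hc
    have h := S.w_conj true one_ne_zero c
    simp only [Bool.not_true, inv_one, one_pow, one_mul] at h
    rw [hDw, ← S.w_eq c⁻¹, hDX, hDX, h]
    simp only [wSt, Bool.not_true, inv_inv, S.neg]
    group
  have hcov1 : D.Cov 1 := by
    unfold Rules.Cov
    rw [hcovc 1 one_ne_zero, inv_one, S.h_one, one_mul]
    exact D.big_mul_X (D.big_X_mul D.big_w _) _
  have hcovt : D.Cov (t : K) := by
    unfold Rules.Cov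
    rw [hcovc _ t.ne_zero, ← S.w_h t.ne_zero, ← hDw, ← hDh, D.whw,
      show D.h⁻¹ = D.h ^ (1 * (orderOf t - 1)) by rw [← D.inv_pow_eq hN, pow_one]]
    exact D.big_mul_X (D.big_X_mul (D.big_pow_mul D.big_w _) _) _
  have hcov := cov_all D hN ht hcov1 0 (by simpa using hcovt)
  have hbij : Function.Bijective φ := by
    refine ⟨?_, ?_⟩
    · rw [injective_iff_map_eq_one]
      intro g hg
      rcases D.nf_all hN hs hgenP hcov g with ⟨a, k, hk, rfl⟩ | ⟨a, k, b, rfl⟩
      · rw [map_mul, map_pow, φX, φh] at hg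
        obtain ⟨rfl, rfl⟩ := M.ker_small a k hk hg
        simp
      · rw [map_mul, map_mul, map_mul, map_pow, φX, φX, φh, φw] at hg
        exact absurd hg (M.ker_big a k b)
    · rw [← MonoidHom.range_eq_top, eq_top_iff, ← M.gen, Subgroup.closure_le]
      rintro x (rfl | rfl | rfl)
      · exact ⟨_, φX 1⟩
      · exact ⟨_, φh⟩
      · exact ⟨_, φw⟩
  refine ⟨MulEquiv.ofBijective φ hbij, fun c => ?_, fun c => ?_⟩
  · show ((φ (PresentedGroup.of (true, c)) : Matrix.SpecialLinearGroup (Fin 2) K) :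
      Matrix (Fin 2) (Fin 2) K) = _
    rw [φof, root_val]
    rfl
  · show ((φ (PresentedGroup.of (false, c)) : Matrix.SpecialLinearGroup (Fin 2) K) :
      Matrix (Fin 2) (Fin 2) K) = _
    rw [φof, root_val]
    rfl

end Cfsg.Agent.S2426
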