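import Cfsg.Statements.S0102
import Cfsg.Agent.Lib.Transfer.Abelian

set_option autoImplicit false
open Cfsg

namespace Cfsg.Agent.S0102

/-- A finite perfect group with cyclic Sylow p-subgroups has no perfect central extension whose kernel has order divisible by p. -/
theorem result {G : Type*} {H : Type*} [Group G] [Group H] [Finite G] [Finite H] (hG : commutator G = ⊤) {p : ℕ} [Fact p.Prime] (hcyc : ∀ P : Sylow p G, IsCyclic P) (σ : H →* G) (hσ : Function.Surjective σ) (hz : σ.ker ≤ Subgroup.center H) (hH : commutator H = ⊤) : ¬ p ∣ Nat.card σ.ker := by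
  intro hdvd
  obtain ⟨⟨z, hzk⟩, hoz⟩ := exists_prime_orderOf_dvd_card' (G := σ.ker) p hdvd
  rw [Subgroup.orderOf_mk] at hoz
  obtain ⟨P, hP⟩ := (IsPGroup.of_card (G := Subgroup.zpowers z) (p := p) (n := 1)
    (by rw [Nat.card_zpowers, hoz, pow_one])).exists_le_sylow
  obtain ⟨S, hS⟩ := (P.2.map σ).exists_le_sylow
  have : IsCyclic (S : Subgroup G) := hcyc S
  have : IsCyclic ((P : Subgroup H).map σ) :=
    isCyclic_of_injective _ (Subgroup.inclusion_injective hS)
  let f : (P : Subgroup H) →* (P : Subgroup H).map σ :=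
    σ.subgroupMap (P : Subgroup H)
  have hf : f.ker ≤ Subgroup.center (P : Subgroup H) := by
    intro x hx
    have : (x : H) ∈ σ.ker := congrArg Subtype.val hx
    exact Subgroup.mem_center_iff.2 fun y => Subtype.ext (Subgroup.mem_center_iff.1 (hz this) y)
  have hPc : IsMulCommutative (P : Subgroup H) :=
    ⟨⟨commutative_of_cyclic_center_quotient f hf⟩⟩
  have hmem : z ∈ (P : Subgroup H) ⊓ commutator H ⊓ Subgroup.center H :=
    ⟨⟨hP (Subgroup.mem_zpowers z), hH ▸ Subgroup.mem_top z⟩, hz hzk⟩
  rw [CfsgLib.Transfer.inf_commutator_inf_center (P : Subgroup H) hPc P.card_coprime_index,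
    Subgroup.mem_bot] at hmem
  rw [hmem, orderOf_one] at hoz
  exact (Fact.out : p.Prime).one_lt.ne hoz

end Cfsg.Agent.S0102
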