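import Cfsg.Statements.S0892
import Cfsg.Agent.Lib.Schur.AlternatingBound

set_option autoImplicit false
open Cfsg

namespace Cfsg.Agent.S0892

/-- Let n ≥ 4 with n ≠ 6 and n ≠ 7, and let Γ be a finite group with a subgroup Z contained in both the centre and the commutator subgroup of Γ such that Γ / Z is isomorphic to the alternating group on n letters. Then Z has order at most 2. -/
theorem result (n : ℕ) (hn : 4 ≤ n) (h6 : n ≠ 6) (h7 : n ≠ 7) {Γ : Type*} [Group Γ] [Finite Γ] (Z : Subgroup Γ) [Z.Normal] (hZc : Z ≤ Subgroup.center Γ) (hZd : Z ≤ commutator Γ) (e : Γ ⧸ Z ≃* alternatingGroup (Fin n)) : Nat.card Z ≤ 2 := by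
  let f : Γ →* Equiv.Perm (Fin n) :=
    ((alternatingGroup (Fin n)).subtype.comp e.toMonoidHom).comp (QuotientGroup.mk' Z)
  have hker : f.ker = Z := by
    ext x
    simp [f, MonoidHom.mem_ker]
  have hr : f.range = alternatingGroup (Fin n) := by
    ext π
    constructor
    · rintro ⟨x, rfl⟩
      exact (e (QuotientGroup.mk' Z x)).2
    · intro hπ
      obtain ⟨x, hx⟩ := QuotientGroup.mk'_surjective Z (e.symm ⟨π, hπ⟩)
      exact ⟨x, by simp only [f, MonoidHom.comp_apply, hx]; simp⟩
  rw [← hker] at hZc hZd ⊢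
  exact CfsgLib.Schur.AltBound.card_ker_le_two hn h6 h7 f hZc hr hZd

end Cfsg.Agent.S0892
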