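import Cfsg.Statements.S4458
import Cfsg.Agent.S4457
import Cfsg.Agent.S0176
import Cfsg.Agent.Lib.CharNormal.MonomialDerived

set_option autoImplicit false
open Cfsg

namespace Cfsg.Agent.S4458

/-- If a finite group has exactly two irreducible character degrees, 1 and m with m ≠ 1, then its commutator subgroup is abelian. -/
theorem result {G : Type*} [Group G] [Finite G] (m : ℕ) (hcd : ∀ χ : Cfsg.IrrCharacter G, Cfsg.charDegree (χ : G → ℂ) = 1 ∨ Cfsg.charDegree (χ : G → ℂ) = m) (hm : ∃ χ : Cfsg.IrrCharacter G, Cfsg.charDegree (χ : G → ℂ) = m) (hm1 : m ≠ 1) : ∀ a ∈ commutator G, ∀ b ∈ commutator G, a * b = b * a := by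
  classical
  have := Fintype.ofFinite G
  have hcast : ∀ χ : Cfsg.IrrCharacter G,
      (χ : G → ℂ) 1 = (Cfsg.charDegree (χ : G → ℂ) : ℂ) :=
    fun χ => CfsgLib.Char.charDegree_cast (CfsgLib.Char.isCharacter_of_isIrr χ.2)
  rcases Cfsg.Agent.S4457.result m hcd hm hm1 with ⟨A, hA, hAc, hAi⟩ | ⟨p, e, hp, he, P, A, hP, hA, hPp, hAc, hinf, hsup⟩
  · have hab : ∀ a b : G ⧸ A, a * b = b * a := by
      refine CfsgLib.Char.comm_iff_forall_linear.mpr fun ψ => ?_
      obtain ⟨χ, hχ⟩ := hm
      have h1 := hcd ⟨_, CfsgLib.CharNormal.isIrr_comp_mk' A ψ.2⟩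
      have h2 := CfsgLib.Char.charDegree_cast (CfsgLib.Char.isCharacter_of_isIrr ψ.2)
      rcases h1 with h | h
      · rw [h2]
        change ((Cfsg.charDegree (ψ : G ⧸ A → ℂ) : ℕ) : ℂ) = 1
        rw [show Cfsg.charDegree (ψ : G ⧸ A → ℂ) = 1 from h, Nat.cast_one]
      · exfalso
        have := Fintype.ofFinite (G ⧸ A)
        have h3 := (CfsgLib.CharNormal.degree_sq_le_center ψ.2 (show (ψ : G ⧸ A → ℂ) 1 = (m : ℂ) by
          rw [h2, show Cfsg.charDegree (ψ : G ⧸ A → ℂ) = m from h])).trans
          (Nat.le_of_dvd Nat.card_pos (Subgroup.index_dvd_card _))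
        rw [show Nat.card (G ⧸ A) = m from hAi] at h3
        have hA0 : m ≠ 0 := hAi ▸ Subgroup.index_ne_zero_of_finite
        have : 2 ≤ m := by omega
        nlinarith
    have hle : commutator G ≤ A := by
      rw [commutator_def, Subgroup.commutator_le]
      intro a _ b _
      rw [← QuotientGroup.eq_one_iff, commutatorElement_def]
      simp only [QuotientGroup.mk_mul, QuotientGroup.mk_inv]
      rw [hab a b]
      group
    exact fun a ha b hb => hAc a (hle ha) b (hle hb)
  · have := Fact.mk hp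
    have hcomm : ∀ x : P, ∀ y : A, Commute (x : G) y := fun x y =>
      Subgroup.commute_of_normal_of_disjoint P A hP hA (disjoint_iff.mpr hinf) x y x.2 y.2
    have : Group.IsNilpotent P := hPp.isNilpotent
    have : IsMulCommutative A := ⟨⟨fun a b => Subtype.ext (hAc a a.2 b b.2)⟩⟩
    letI : CommGroup A := { (inferInstance : Group A) with mul_comm := mul_comm' }
    let f : P × A →* G := MonoidHom.noncommCoprod P.subtype A.subtype hcomm
    have hf : Function.Surjective f := fun g => by
      obtain ⟨x, hx, y, hy, rfl⟩ := Subgroup.mem_sup_of_normal_right.mp (hsup ▸ Subgroup.mem_top g)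
      exact ⟨(⟨x, hx⟩, ⟨y, hy⟩), rfl⟩
    have : Group.IsNilpotent G := Group.nilpotent_of_surjective f hf
    have h2 : derivedSeries G 2 = ⊥ := by
      refine eq_bot_iff.mpr ((derivedSeries_antitone G ?_).trans
        (CfsgLib.CharNormal.derivedSeries_eq_bot_of_monomial
          (fun χ hχ => Cfsg.Agent.S0176.result χ hχ) {1, m} fun χ => ?_).le)
      · exact Finset.card_le_two
      · exact ⟨Cfsg.charDegree (χ : G → ℂ), by simpa using hcd χ, hcast χ⟩
    intro a ha b hb
    rw [← derivedSeries_one] at ha hb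
    have h3 := Subgroup.commutator_mem_commutator ha hb
    rw [← derivedSeries_succ, h2, Subgroup.mem_bot] at h3
    exact commutatorElement_eq_one_iff_mul_comm.mp h3

end Cfsg.Agent.S4458
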