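import Cfsg.Statements.S0878
import Cfsg.Agent.Lib.Char.Induced

set_option autoImplicit false
open Cfsg

namespace Cfsg.Agent.S0878

/-- Let G be a Zassenhaus group on the finite set Ω, a a point, and let H be the subgroup of the stabilizer of a consisting of the identity and the elements fixing no point other than a (given here as a subgroup of the stabilizer of order one less than the number of points whose non-identity elements fix only a; it is the Frobenius kernel of the stabilizer). Then an element outside the stabilizer of a conjugates no non-identity element of H into H, and the normalizer of H is exactly the stabilizer of a. -/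
theorem result {G Ω : Type*} [Group G] [Finite G] [MulAction G Ω] [Fintype Ω] (hZ : Cfsg.IsZassenhausGroup G Ω) (a : Ω) (H : Subgroup G) (hHa : H ≤ MulAction.stabilizer G a) (hHcard : Nat.card H + 1 = Fintype.card Ω) (hHfix : ∀ u ∈ H, u ≠ 1 → ∀ c : Ω, u • c = c → c = a) : (∀ g : G, g ∉ MulAction.stabilizer G a → ∀ u ∈ H, g * u * g⁻¹ ∈ H → u = 1) ∧ Subgroup.normalizer (H : Set G) = MulAction.stabilizer G a := by
  classical
  obtain ⟨hfaith, h2, h3, ⟨g₀, hg₀, a₀, b₀, hab₀, ha₀, hb₀⟩, -⟩ := hZ
  rw [MulAction.is_two_pretransitive_iff] at h2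
  have hn : 3 ≤ Fintype.card Ω := by
    by_contra hlt
    apply hg₀
    refine hfaith.eq_of_smul_eq_smul fun c => ?_
    rw [one_smul]
    have hsub : ({a₀, b₀} : Finset Ω) = Finset.univ := by
      refine Finset.eq_univ_of_card _ ?_
      have := Finset.card_le_univ ({a₀, b₀} : Finset Ω)
      rw [Finset.card_pair hab₀] at this ⊢
      omega
    have := hsub ▸ Finset.mem_univ c
    simp only [Finset.mem_insert, Finset.mem_singleton] at this
    rcases this with rfl | rfl
    · exact ha₀
    · exact hb₀
  have hTI : ∀ g : G, g ∉ MulAction.stabilizer G a → ∀ u ∈ H, g * u * g⁻¹ ∈ H → u = 1 := by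
    intro g hg u hu hgu
    by_contra hu1
    have h1 : (g * u * g⁻¹) • (g • a) = g • a := by
      rw [mul_smul, inv_smul_smul, mul_smul, MulAction.mem_stabilizer_iff.mp (hHa hu)]
    exact hg (MulAction.mem_stabilizer_iff.mpr
      (hHfix _ hgu (fun e => hu1 (conj_eq_one_iff.mp e)) (g • a) h1))
  refine ⟨hTI, le_antisymm (fun g hg => ?_) ?_⟩
  · by_contra hga
    have : Nontrivial H := Finite.one_lt_card_iff_nontrivial.mp (by omega)
    obtain ⟨u, hu⟩ := exists_ne (1 : H)
    exact hu (Subtype.ext (hTI g hga u u.2 ((Subgroup.mem_normalizer_iff.mp hg u).mp u.2)))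
  · -- count the elements of the stabilizer without further fixed points
    let B := MulAction.stabilizer G a
    let X := {c : Ω // c ≠ a}
    letI : MulAction B X :=
      { smul := fun g c => ⟨(g : G) • c.1, fun e => c.2 (smul_left_cancel (g : G)
          (e.trans (MulAction.mem_stabilizer_iff.mp g.2).symm))⟩
        one_smul := fun c => Subtype.ext (one_smul G c.1)
        mul_smul := fun g k c => Subtype.ext (mul_smul (g : G) (k : G) c.1) }
    have hsm : ∀ (g : B) (c : X), ((g • c : X) : Ω) = (g : G) • (c : Ω) := fun _ _ => rfl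
    have hX : Fintype.card X + 1 = Fintype.card Ω := by
      simp only [X, Fintype.card_subtype_compl, Fintype.card_subtype_eq]
      omega
    have : Fintype B := Fintype.ofFinite B
    have : Subsingleton (Quotient (MulAction.orbitRel B X)) := ⟨fun q r => by
      induction q using Quotient.inductionOn' with | _ c =>
      induction r using Quotient.inductionOn' with | _ d =>
      obtain ⟨t, ht1, ht2⟩ := h2 (Ne.symm d.2) (Ne.symm c.2)
      exact Quotient.sound' ⟨⟨t, ht1⟩, Subtype.ext ht2⟩⟩
    have hXne : Nonempty X := Fintype.card_pos_iff.mp (by omega)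
    have : Nonempty (Quotient (MulAction.orbitRel B X)) := ⟨Quotient.mk'' hXne.some⟩
    have hburn := MulAction.sum_card_fixedBy_eq_card_orbits_mul_card_group B X
    rw [show Fintype.card (Quotient (MulAction.orbitRel B X)) = 1 from
      le_antisymm (Fintype.card_le_one_iff_subsingleton.mpr inferInstance) Fintype.card_pos, one_mul,
      ← Finset.add_sum_erase _ _ (Finset.mem_univ (1 : B))] at hburn
    have hone : Fintype.card (MulAction.fixedBy X (1 : B)) = Fintype.card X :=
      Fintype.card_congr (Equiv.subtypeUnivEquiv fun c => one_smul B c)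
    have hle : ∀ g : B, g ≠ 1 → Fintype.card (MulAction.fixedBy X g) ≤ 1 := by
      intro g hg
      rw [Fintype.card_le_one_iff_subsingleton]
      refine ⟨fun c d => Subtype.ext (Subtype.ext ?_)⟩
      by_contra hne
      refine hg (Subtype.ext ?_)
      exact h3 g a c.1.1 d.1.1 (Ne.symm c.1.2) hne (Ne.symm d.1.2)
        (MulAction.mem_stabilizer_iff.mp g.2) (congrArg Subtype.val c.2) (congrArg Subtype.val d.2)
    let F := (Finset.univ.erase (1 : B)).filter fun g => Fintype.card (MulAction.fixedBy X g) = 0
    have hsplit : ∑ g ∈ Finset.univ.erase (1 : B), Fintype.card (MulAction.fixedBy X g) + F.card =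
        Fintype.card B - 1 := by
      rw [Finset.card_filter, ← Finset.sum_add_distrib, Finset.sum_congr rfl (g := fun _ => 1)
        fun g hg => by
          have := hle g (Finset.ne_of_mem_erase hg)
          split_ifs with h <;> omega]
      simp
    have hFcard : F.card + 1 = Nat.card H := by
      rw [hone] at hburn
      have : 0 < Fintype.card B := Fintype.card_pos
      omega
    have := Fintype.ofFinite H
    let i : H → B := fun u => ⟨u, hHa u.2⟩
    have hsub : (Finset.univ.erase (1 : H)).image i ⊆ F := by
      intro g hg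
      obtain ⟨u, hu, rfl⟩ := Finset.mem_image.mp hg
      have hu1 : u ≠ 1 := Finset.ne_of_mem_erase hu
      simp only [F, Finset.mem_filter, Finset.mem_erase, Finset.mem_univ, and_true]
      refine ⟨fun e => hu1 (Subtype.ext (congrArg (fun z : B => (z : G)) e)), ?_⟩
      rw [Fintype.card_eq_zero_iff]
      exact ⟨fun c => c.1.2 (hHfix u u.2 (fun e => hu1 (Subtype.ext e)) c.1.1
        (congrArg Subtype.val c.2))⟩
    have hEq : (Finset.univ.erase (1 : H)).image i = F := by
      refine Finset.eq_of_subset_of_card_le hsub ?_
      rw [Finset.card_image_of_injective (f := i) _ (fun u v e => Subtype.ext (congrArg (fun z : B => (z : G)) e)),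
        Finset.card_erase_of_mem (Finset.mem_univ _), Finset.card_univ, ← Nat.card_eq_fintype_card]
      omega
    have hkey : ∀ g ∈ MulAction.stabilizer G a, ∀ u ∈ H, g * u * g⁻¹ ∈ H := by
      intro g hg u hu
      rcases eq_or_ne u 1 with rfl | hu1
      · simp [H.one_mem]
      have hgB : g * u * g⁻¹ ∈ B := B.mul_mem (B.mul_mem hg (hHa hu)) (B.inv_mem hg)
      have hF : (⟨_, hgB⟩ : B) ∈ F := by
        simp only [F, Finset.mem_filter, Finset.mem_erase, Finset.mem_univ, and_true]
        refine ⟨fun e => hu1 (conj_eq_one_iff.mp (congrArg (fun z : B => (z : G)) e)), ?_⟩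
        rw [Fintype.card_eq_zero_iff]
        refine ⟨fun c => c.1.2 ?_⟩
        have hc : (g * u * g⁻¹) • (c.1.1) = c.1.1 := congrArg Subtype.val c.2
        have := hHfix u hu hu1 (g⁻¹ • c.1.1) (by
          rw [mul_smul, mul_smul] at hc
          exact smul_left_cancel g (hc.trans (smul_inv_smul g _).symm))
        rw [inv_smul_eq_iff, MulAction.mem_stabilizer_iff.mp hg] at this
        exact this
      rw [← hEq] at hF
      obtain ⟨w, -, hw⟩ := Finset.mem_image.mp hF
      have e : (w : G) = g * u * g⁻¹ := congrArg (fun z : B => (z : G)) hw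
      exact e ▸ w.2
    intro g hg
    rw [Subgroup.mem_normalizer_iff]
    intro u
    refine ⟨hkey g hg u, fun h => ?_⟩
    have := hkey g⁻¹ (inv_mem hg) _ h
    simpa [mul_assoc] using this

end Cfsg.Agent.S0878
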