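import Cfsg.Statements.S0493
import Cfsg.Agent.Lib.SmallGroups.Basic

set_option autoImplicit false
open Cfsg

namespace Cfsg.Agent.S0493

/-- The primes below one hundred. -/
def primesList : List ℕ :=
  [2, 3, 5, 7, 11, 13, 17, 19, 23, 29, 31, 37, 41, 43, 47, 53, 59, 61, 67, 71, 73, 79, 83, 89, 97]

theorem prime_of_mem {p : ℕ} (h : p ∈ primesList) : p.Prime := by
  simp only [primesList, List.mem_cons, List.not_mem_nil, or_false] at h
  casesm* _ ∨ _ <;> subst_vars <;> norm_num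

/-- A Sylow number argument is available. -/
abbrev Crit (n : ℕ) : Prop :=
  ∃ p ∈ primesList, ∃ a ∈ List.range 8, 1 ≤ a ∧ n % p ^ a = 0 ∧ n % p ^ (a + 1) ≠ 0 ∧
    ∀ d ∈ List.range (n + 1), (n / p ^ a) % d = 0 → d % p = 1 →
      d = 1 ∨ d.factorial % (2 * n) ≠ 0 ∨ (n / d = p ^ a ∧ a ≤ 2)

theorem crit_all : ∀ n ∈ List.range 101, n < 2 ∨ n = 60 ∨ Crit n := by decide +kernel

theorem crit_of_le (n : ℕ) (h2 : 2 ≤ n) (h : n ≤ 100) (h60 : n ≠ 60) :
    ∃ p ∈ primesList, ∃ a, (1 ≤ a ∧ a < 8) ∧ n % p ^ a = 0 ∧ n % p ^ (a + 1) ≠ 0 ∧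
      ∀ d ∈ List.range (n + 1), (n / p ^ a) % d = 0 → d % p = 1 →
        d = 1 ∨ d.factorial % (2 * n) ≠ 0 ∨ (n / d = p ^ a ∧ a ≤ 2) := by
  rcases crit_all n (List.mem_range.2 (by omega)) with h' | h' | ⟨p, hp, a, ha, h1, h2', h3, h4⟩
  · omega
  · exact absurd h' h60
  · exact ⟨p, hp, a, ⟨h1, List.mem_range.1 ha⟩, h2', h3, h4⟩

/-- A finite simple group of order at most 100 that is not cyclic has order 60. -/
theorem result {G : Type*} [Group G] [Finite G] [IsSimpleGroup G]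
    (hG : ¬ IsCyclic G) (h : Nat.card G ≤ 100) : Nat.card G = 60 := by
  have hG' : ¬ IsMulCommutative G := fun hc => by
    letI : CommGroup G := { (inferInstance : Group G) with mul_comm := hc.is_comm.comm }
    have : Fact (Nat.card G).Prime := ⟨IsSimpleGroup.prime_card⟩
    exact hG (isCyclic_of_prime_card (p := Nat.card G) rfl)
  have h2 : 2 ≤ Nat.card G := by
    have : Nontrivial G := IsSimpleGroup.toNontrivial
    exact Finite.one_lt_card
  by_contra h60
  obtain ⟨p, hp, a, ha, hpa, hpa', hall⟩ := crit_of_le (Nat.card G) h2 h h60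
  have : Fact p.Prime := ⟨prime_of_mem hp⟩
  have hcard : Nat.card G = p ^ a * (Nat.card G / p ^ a) := (Nat.mul_div_cancel' (Nat.dvd_of_mod_eq_zero hpa)).symm
  have hnd : ¬ p ∣ Nat.card G / p ^ a := fun hd => hpa' (Nat.mod_eq_zero_of_dvd (by
    rw [pow_succ, hcard]; exact Nat.mul_dvd_mul_left _ hd))
  have hpG : p ∣ Nat.card G := (dvd_pow_self p (Nat.one_le_iff_ne_zero.1 ha.1)).trans (Nat.dvd_of_mod_eq_zero hpa)
  obtain ⟨P⟩ : Nonempty (Sylow p G) := inferInstance
  have hdvd := CfsgLib.SmallGroups.card_sylow_dvd_of_card_eq (p := p) hcard hnd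
  have hmod := CfsgLib.SmallGroups.mod_eq_one_card_sylow (p := p) (G := G)
  have hne := CfsgLib.SmallGroups.card_sylow_ne_one (p := p) hG' hpG
  have hle : Nat.card (Sylow p G) < Nat.card G + 1 :=
    Nat.lt_succ_of_le (Nat.le_of_dvd Nat.card_pos CfsgLib.SmallGroups.card_sylow_dvd_card)
  rcases hall (Nat.card (Sylow p G)) (List.mem_range.2 hle) (Nat.mod_eq_zero_of_dvd hdvd) hmod with h1 | h1 | ⟨h1, ha2⟩
  · exact hne h1
  · exact h1 (Nat.mod_eq_zero_of_dvd (CfsgLib.SmallGroups.two_mul_card_dvd_factorial_card_sylow hG' hpG))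
  · set N := Subgroup.normalizer ((P : Subgroup G) : Set G)
    have hN : Nat.card N = p ^ a := by
      rw [← h1]
      have hm : Nat.card (Sylow p G) * Nat.card N = Nat.card G :=
        CfsgLib.SmallGroups.card_sylow_mul_card_normalizer P
      rw [← hm, Nat.mul_div_cancel_left _ Nat.card_pos]
    refine (CfsgLib.SmallGroups.card_normalizer_ne_of_isMulCommutative hG' hpG P ?_).elim
    rcases (show a = 1 ∨ a = 2 by omega) with rfl | rfl
    · haveI : IsCyclic N := isCyclic_of_prime_card (p := p) (by rw [hN, pow_one])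
      infer_instance
    · exact IsPGroup.isMulCommutative_of_card_eq_prime_sq hN

end Cfsg.Agent.S0493
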