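import Cfsg.Statements.S3669
import Cfsg.Agent.S0494
import Cfsg.Agent.Lib.Solvable.CoprimeAction
import Cfsg.Agent.Lib.SmallGroups.Basic
import Cfsg.Agent.Lib.Char.PermChar
import Cfsg.Agent.Lib.Char.Ito
import Cfsg.Agent.Lib.CharBlocks.Degree

set_option autoImplicit false
open Cfsg

namespace Cfsg.Agent.S3669

open scoped Pointwise

theorem conj_eq_self_of_small {G : Type*} [Group G] [Finite G] {u r : G} (hu : orderOf u = 5)
    (R : Subgroup G) (hR : Nat.card R ≤ 4) (hnorm : ∀ v ∈ R, u * v * u⁻¹ ∈ R) (hr : r ∈ R) :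
    u * r * u⁻¹ = r := by
  classical
  by_cases hr1 : r = 1
  · subst hr1; group
  let f : {v : G // v ∈ R ∧ v ≠ 1} → {v : G // v ∈ R ∧ v ≠ 1} := fun v =>
    ⟨u * v * u⁻¹, hnorm v v.2.1, by simpa [mul_inv_eq_one] using v.2.2⟩
  have hcard : Nat.card {v : G // v ∈ R ∧ v ≠ 1} < 5 := by
    let j : {v : G // v ∈ R ∧ v ≠ 1} → R := fun v => ⟨v.1, v.2.1⟩
    have hj : Function.Injective j := fun a b h => Subtype.ext (congrArg (fun z : R => (z : G)) h)
    exact lt_of_le_of_lt ((Nat.card_le_card_of_injective j hj).trans hR) (by norm_num)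
  have hf : Function.Bijective f := Finite.injective_iff_bijective.1 fun a b h => by
    have := congrArg Subtype.val h
    exact Subtype.ext (by simpa [f] using this)
  set σ := Equiv.ofBijective f hf
  have hσ : ∀ i : ℕ, ∀ v, ((σ ^ i) v).1 = u ^ i * v.1 * (u ^ i)⁻¹ := by
    intro i
    induction i with
    | zero => intro v; simp
    | succ i ih =>
      intro v
      rw [pow_succ', Equiv.Perm.mul_apply]
      show u * ((σ ^ i) v).1 * u⁻¹ = _
      rw [ih, pow_succ' u]; group
  have h5 : σ ^ 5 = 1 := Equiv.ext fun v => Subtype.ext (by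
    rw [hσ, ← hu, pow_orderOf_eq_one, one_mul, inv_one, mul_one, Equiv.Perm.one_apply])
  have hd : orderOf σ ∣ (Nat.card {v : G // v ∈ R ∧ v ≠ 1}).factorial := by
    rw [← Nat.card_perm]; exact orderOf_dvd_natCard σ
  have h1 : orderOf σ = 1 := by
    rcases (Nat.dvd_prime (by norm_num : Nat.Prime 5)).1 (orderOf_dvd_of_pow_eq_one h5) with h | h
    · exact h
    · exfalso
      rw [h, (by norm_num : Nat.Prime 5).dvd_factorial] at hd
      omega
  have h2 : σ ⟨r, hr, hr1⟩ = ⟨r, hr, hr1⟩ := by rw [orderOf_eq_one_iff.1 h1]; rfl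
  exact congrArg Subtype.val h2

theorem no_three {G : Type*} [Group G] [Finite G] (P : Subgroup G) (hP : Nat.card P = 5)
    (hN : ¬ 3 ∣ Nat.card (Subgroup.normalizer (P : Set G))) (K : Subgroup G)
    (hPK : P ≤ Subgroup.normalizer (K : Set G)) (h3 : 3 ∣ Nat.card K) (hK : Nat.card K ∣ 12) : False := by
  haveI : Fact (Nat.Prime 3) := ⟨Nat.prime_three⟩
  haveI : Fact (Nat.Prime 5) := ⟨by norm_num⟩
  have hsol : Group.IsSolvable P := by
    have := (IsPGroup.of_card (p := 5) (n := 1) (by rw [hP, pow_one])).isNilpotent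
    infer_instance
  obtain ⟨R, hR⟩ := CfsgLib.Solvable.exists_invariant_sylow P K hPK (by
    rw [hP]
    exact (Nat.Coprime.coprime_dvd_right hK (by norm_num))) (Or.inl hsol) 3
  have hRc : Nat.card ((R : Subgroup K).map K.subtype) = 3 := by
    rw [Subgroup.card_map_of_injective K.subtype_injective, R.card_eq_multiplicity]
    have h1 := (Nat.prime_three.pow_dvd_iff_le_factorization (k := 1) Nat.card_pos.ne').1 (by simpa using h3)
    have h2 : (Nat.card K).factorization 3 ≤ 1 := by
      by_contra h
      have := ((Nat.prime_three.pow_dvd_iff_le_factorization (k := 2) Nat.card_pos.ne').2 (by omega)).trans hK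
      norm_num at this
    rw [show (Nat.card K).factorization 3 = 1 by omega, pow_one]
  refine hN (hRc ▸ Subgroup.card_dvd_of_le fun r hr => ?_)
  refine Subgroup.mem_normalizer_fintype fun u hu => ?_
  have hcu : u * r * u⁻¹ = r := by
    by_cases hu1 : u = 1
    · subst hu1; group
    refine conj_eq_self_of_small ?_ _ (by rw [hRc]; norm_num)
      (fun v hv => (Subgroup.mem_normalizer_iff.1 (hR hu) v).1 hv) hr
    have := orderOf_dvd_natCard (⟨u, hu⟩ : P)
    rw [Subgroup.orderOf_mk, hP] at this
    exact ((Nat.dvd_prime (by norm_num)).1 this).resolve_left (by rwa [orderOf_eq_one_iff])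
  have : r * u * r⁻¹ = u := by
    rw [mul_inv_eq_iff_eq_mul] at hcu ⊢
    exact hcu.symm
  rw [this]; exact hu

theorem simple_of_six {G : Type*} [Group G] [Finite G] (h60 : Nat.card G = 60)
    [Fact (Nat.Prime 5)] (h6 : Nat.card (Sylow 5 G) = 6) : IsSimpleGroup G := by
  obtain ⟨P⟩ : Nonempty (Sylow 5 G) := inferInstance
  have hP : Nat.card (P : Subgroup G) = 5 := by
    have := CfsgLib.SmallGroups.card_sylow_eq (p := 5) (a := 1) (m := 12) (by rw [h60]; norm_num)
      (by norm_num) P
    simpa using this
  have hN : Nat.card (Subgroup.normalizer ((P : Subgroup G) : Set G)) = 10 := by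
    have := CfsgLib.SmallGroups.card_sylow_mul_card_normalizer P
    rw [h6, h60] at this
    omega
  have h3N : ¬ 3 ∣ Nat.card (Subgroup.normalizer ((P : Subgroup G) : Set G)) := by rw [hN]; norm_num
  have compl : ∀ (M : Subgroup G) (Q : Sylow 5 M), (Q : Subgroup M).map M.subtype = P →
      Subgroup.normalizer ((Q : Subgroup M) : Set M) ≤ Subgroup.centralizer ((Q : Subgroup M) : Set M) →
      Nat.card M ∣ 60 → 3 ∣ Nat.card M → False := by
    intro M Q hQ hQc hM h3
    have hc := MonoidHom.ker_transferSylow_isComplement' Q hQc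
    set K := (MonoidHom.transferSylow Q hQc).ker
    have hQ5 : Nat.card (Q : Subgroup M) = 5 := by
      rw [← Subgroup.card_map_of_injective M.subtype_injective, hQ, hP]
    have hcK := hc.card_mul
    rw [hQ5] at hcK
    refine no_three (P : Subgroup G) hP h3N (K.map M.subtype) ?_ ?_ ?_
    · intro u hu
      rw [← hQ] at hu
      obtain ⟨u', hu', rfl⟩ := hu
      refine Subgroup.mem_normalizer_fintype fun v hv => ?_
      obtain ⟨v', hv', rfl⟩ := hv
      exact ⟨u' * v' * u'⁻¹, (MonoidHom.normal_ker _).conj_mem v' hv' u', by simp⟩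
    · rw [Subgroup.card_map_of_injective M.subtype_injective]
      rw [← hcK] at h3
      exact ((Nat.Coprime.dvd_of_dvd_mul_right (by norm_num)) h3)
    · rw [Subgroup.card_map_of_injective M.subtype_injective]
      rw [← hcK] at hM
      exact Nat.dvd_of_mul_dvd_mul_right (by norm_num : 0 < 5) (by simpa using hM)
  have hCP : ¬ Subgroup.normalizer ((P : Subgroup G) : Set G) ≤ Subgroup.centralizer ((P : Subgroup G) : Set G) := by
    intro h
    have hc := MonoidHom.ker_transferSylow_isComplement' P h
    have hcK := hc.card_mul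
    rw [hP, h60] at hcK
    exact no_three (P : Subgroup G) hP h3N _ (by rw [Subgroup.normalizer_eq_top]; exact le_top)
      (by rw [show Nat.card (MonoidHom.transferSylow P h).ker = 12 by omega]; norm_num)
      (dvd_of_eq (show Nat.card (MonoidHom.transferSylow P h).ker = 12 by omega))
  haveI : Nontrivial G := Finite.one_lt_card_iff_nontrivial.1 (by omega)
  refine ⟨fun N hNn => ?_⟩
  by_contra hcon
  push_neg at hcon
  obtain ⟨hNb, hNt⟩ := hcon
  have hNd : Nat.card N ∣ 60 := h60 ▸ N.card_subgroup_dvd_card
  have hN1 : Nat.card N ≠ 1 := fun h => hNb (Subgroup.eq_bot_of_card_eq N h)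
  have hN60 : Nat.card N ≠ 60 := fun h => hNt (Subgroup.eq_top_of_card_eq N (h.trans h60.symm))
  by_cases h5 : 5 ∣ Nat.card N
  · have hPN : (P : Subgroup G) ≤ N := by
      obtain ⟨Q⟩ : Nonempty (Sylow 5 N) := inferInstance
      have hQ : Nat.card (Q : Subgroup N) = 5 := by
        obtain ⟨k, hk⟩ := h5
        have hk' : ¬ 5 ∣ k := fun h => by
          have : 25 ∣ 60 := (show 25 ∣ Nat.card N by rw [hk]; exact Nat.mul_dvd_mul_left 5 h).trans hNd
          norm_num at this
        simpa using CfsgLib.SmallGroups.card_sylow_eq (p := 5) (a := 1) (m := k) (by rw [hk, pow_one]) hk' Q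
      obtain ⟨S, hS⟩ := (Q.2.map N.subtype).exists_le_sylow
      have hSc : Nat.card (S : Subgroup G) = 5 := by
        simpa using CfsgLib.SmallGroups.card_sylow_eq (p := 5) (a := 1) (m := 12) (by rw [h60]; norm_num)
          (by norm_num) S
      have hSN : (S : Subgroup G) ≤ N := by
        rw [← Subgroup.eq_of_le_of_card_ge hS (by
          rw [Subgroup.card_map_of_injective N.subtype_injective, hQ, hSc])]
        exact Subgroup.map_subtype_le _
      obtain ⟨g, hg⟩ := MulAction.exists_smul_eq G S P
      rw [← hg, Sylow.coe_subgroup_smul]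
      intro z hz
      rw [Subgroup.mem_pointwise_smul_iff_inv_smul_mem, MulAut.smul_def, MulAut.conj_inv_apply] at hz
      have := hNn.conj_mem _ (hSN hz) g
      simpa [mul_assoc] using this
    set Q := P.subtype hPN
    have hQP : (Q : Subgroup N).map N.subtype = P := by
      rw [Sylow.coe_subtype]; exact Subgroup.map_subgroupOf_eq_of_le hPN
    have hnot1 : Nat.card (Sylow 5 N) ≠ 1 := by
      intro h1
      haveI := (Nat.card_eq_one_iff_unique.1 h1).1
      haveI := Sylow.characteristic_of_normal Q (CfsgLib.SmallGroups.sylow_normal_of_card_eq_one h1 Q)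
      have hn : ((Q : Subgroup N).map N.subtype).Normal := inferInstance
      rw [hQP] at hn
      rw [CfsgLib.SmallGroups.card_sylow_eq_one_of_normal P hn] at h6
      omega
    have hmul := CfsgLib.SmallGroups.card_sylow_mul_card_normalizer Q
    have hQc : Nat.card (Q : Subgroup N) = 5 := by
      rw [← Subgroup.card_map_of_injective N.subtype_injective, hQP, hP]
    have hle : 5 ∣ Nat.card (Subgroup.normalizer ((Q : Subgroup N) : Set N)) :=
      (dvd_of_eq hQc.symm).trans (Subgroup.card_dvd_of_le Subgroup.le_normalizer)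
    have hmod := CfsgLib.SmallGroups.mod_eq_one_card_sylow (G := N) (p := 5)
    obtain ⟨j, hj⟩ := hle
    rw [hj, ← mul_assoc, mul_comm _ 5, mul_assoc] at hmul
    have hd12 : Nat.card (Sylow 5 N) * j ∣ 12 :=
      Nat.dvd_of_mul_dvd_mul_left (by norm_num : 0 < 5) (hmul ▸ hNd)
    have hs12 : Nat.card (Sylow 5 N) ∣ 12 := (dvd_mul_right _ j).trans hd12
    have hs : Nat.card (Sylow 5 N) = 6 := by
      have := Nat.le_of_dvd (by norm_num) hs12
      interval_cases hv : Nat.card (Sylow 5 N) <;> simp_all
    rw [hs] at hmul hd12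
    have hj12 : j = 1 := by
      have := Nat.le_of_dvd (by norm_num) hd12
      rcases Nat.lt_or_ge j 2 with h | h
      · rcases Nat.eq_zero_or_pos j with h0 | h0
        · rw [h0] at hd12; norm_num at hd12
        · omega
      · omega
    subst hj12
    refine compl N Q hQP ?_ hNd (by rw [← hmul]; norm_num)
    haveI : IsCyclic (Q : Subgroup N) := isCyclic_of_prime_card hQc
    have e : (Q : Subgroup N) = Subgroup.normalizer ((Q : Subgroup N) : Set N) :=
      Subgroup.eq_of_le_of_card_ge Subgroup.le_normalizer (by rw [hj, hQc])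
    intro z hz
    rw [← e] at hz
    rw [Subgroup.mem_centralizer_iff]
    intro w hw
    exact congrArg Subtype.val ((IsCyclic.commGroup (α := (Q : Subgroup N))).mul_comm ⟨w, hw⟩ ⟨z, hz⟩)
  · have h12 : Nat.card N ∣ 12 := by
      refine Nat.Coprime.dvd_of_dvd_mul_left ?_ (show Nat.card N ∣ 5 * 12 by simpa using hNd)
      exact ((Nat.Prime.coprime_iff_not_dvd (by norm_num : Nat.Prime 5)).2 h5).symm
    by_cases h3 : 3 ∣ Nat.card N
    · exact no_three (P : Subgroup G) hP h3N N (by rw [Subgroup.normalizer_eq_top]; exact le_top) h3 h12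
    · have h4 : Nat.card N ∣ 4 := by
        refine Nat.Coprime.dvd_of_dvd_mul_left ?_ (show Nat.card N ∣ 3 * 4 by simpa using h12)
        exact ((Nat.Prime.coprime_iff_not_dvd Nat.prime_three).2 h3).symm
      apply hCP
      have hcent : N ≤ Subgroup.centralizer ((P : Subgroup G) : Set G) := by
        intro v hv
        rw [Subgroup.mem_centralizer_iff]
        intro u hu
        by_cases hu1 : u = 1
        · subst hu1; simp
        refine mul_inv_eq_iff_eq_mul.1 (conj_eq_self_of_small ?_ N (Nat.le_of_dvd (by norm_num) h4)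
          (fun w hw => hNn.conj_mem w hw u) hv)
        have := orderOf_dvd_natCard (⟨u, hu⟩ : (P : Subgroup G))
        rw [Subgroup.orderOf_mk, hP] at this
        exact ((Nat.dvd_prime (by norm_num)).1 this).resolve_left (by rwa [orderOf_eq_one_iff])
      have hPc : (P : Subgroup G) ≤ Subgroup.centralizer ((P : Subgroup G) : Set G) := by
        haveI : IsCyclic (P : Subgroup G) := isCyclic_of_prime_card hP
        intro z hz
        rw [Subgroup.mem_centralizer_iff]
        intro w hw
        exact congrArg Subtype.val ((IsCyclic.commGroup (α := (P : Subgroup G))).mul_comm ⟨w, hw⟩ ⟨z, hz⟩)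
      set C := Subgroup.centralizer ((P : Subgroup G) : Set G)
      have hCN : C ≤ Subgroup.normalizer ((P : Subgroup G) : Set G) := Subgroup.centralizer_le_normalizer _
      have e1 : Nat.card C ∣ 10 := hN ▸ Subgroup.card_dvd_of_le hCN
      have e2 : 5 ∣ Nat.card C := hP ▸ Subgroup.card_dvd_of_le hPc
      have e3 : Nat.card N ∣ Nat.card C := Subgroup.card_dvd_of_le hcent
      have hC10 : Nat.card C = 10 := by
        have := Nat.le_of_dvd (by norm_num) e1
        obtain ⟨k, hk⟩ := e2
        have hk2 : k = 1 ∨ k = 2 := by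
          have : 0 < Nat.card C := Nat.card_pos
          omega
        rcases hk2 with rfl | rfl
        · exfalso
          rw [hk] at e3
          exact hN1 (Nat.eq_one_of_dvd_coprimes (by norm_num : Nat.Coprime 4 (5 * 1)) h4 e3)
        · rw [hk]
      exact (Subgroup.eq_of_le_of_card_ge hCN (by rw [hN, hC10])).ge

theorem five_mem_degreePrimes_A5 : (5 : ℕ) ∈ Cfsg.degreePrimes (alternatingGroup (Fin 5)) := by
  classical
  haveI : Fact (Nat.Prime 5) := ⟨by norm_num⟩
  set G := alternatingGroup (Fin 5)
  haveI : IsSimpleGroup G := alternatingGroup.isSimpleGroup_five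
  have h60 : Nat.card G = 60 := by
    rw [nat_card_alternatingGroup, Nat.card_eq_fintype_card, Fintype.card_fin]; rfl
  have hP5 : ∀ P : Sylow 5 G, Nat.card (P : Subgroup G) = 5 := fun P => by
    simpa using CfsgLib.SmallGroups.card_sylow_eq (p := 5) (a := 1) (m := 12) (by rw [h60]; norm_num)
      (by norm_num) P
  have h6 : Nat.card (Sylow 5 G) = 6 := by
    have h1 := CfsgLib.SmallGroups.card_sylow_mem_filter (G := G) (p := 5) (a := 1) (m := 12)
      (by rw [h60]; norm_num) (by norm_num)
    have h2 : Nat.card (Sylow 5 G) ≠ 1 := fun h => by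
      obtain ⟨P⟩ : Nonempty (Sylow 5 G) := inferInstance
      rcases IsSimpleGroup.eq_bot_or_eq_top_of_normal _
        (CfsgLib.SmallGroups.sylow_normal_of_card_eq_one h P) with e | e
      · have := hP5 P; rw [e, Subgroup.card_bot] at this; omega
      · have := hP5 P; rw [e, Subgroup.card_top, h60] at this; omega
    simp only [Finset.mem_filter, Finset.mem_range] at h1
    obtain ⟨h1a, h1b, h1c⟩ := h1
    interval_cases hv : Nat.card (Sylow 5 G) <;> simp_all
  have h2t : MulAction.IsMultiplyPretransitive G (Sylow 5 G) 2 := by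
    rw [MulAction.is_two_pretransitive_iff]
    intro a b c d hab hcd
    obtain ⟨g, hg⟩ := MulAction.exists_smul_eq G a c
    have hgb : g • b ≠ c := fun e => hab (smul_left_cancel g (hg.trans e.symm))
    -- the Sylow subgroup `c` is transitive on the other five
    have horb : d ∈ MulAction.orbit (c : Subgroup G) (g • b) := by
      set O := MulAction.orbit (c : Subgroup G) (g • b)
      have hsub : O ⊆ {x | x ≠ c} := by
        rintro _ ⟨u, rfl⟩ e
        have hu : (u : G) • c = c := Sylow.smul_eq_iff_mem_normalizer.2 (Subgroup.le_normalizer u.2)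
        exact hgb (smul_left_cancel (u : G) (e.trans hu.symm))
      have hn : Set.ncard {x : Sylow 5 G | x ≠ c} = 5 := by
        rw [show {x : Sylow 5 G | x ≠ c} = {c}ᶜ from rfl, Set.ncard_compl, Set.ncard_singleton, h6]
      have hidx : O.ncard ∣ 5 := by
        have h := (MulAction.stabilizer (c : Subgroup G) (g • b)).index_dvd_card
        rwa [hP5 c, MulAction.index_stabilizer] at h
      rcases (Nat.dvd_prime (by norm_num)).1 hidx with h1 | h1
      · exfalso
        obtain ⟨x, hx⟩ := Set.ncard_eq_one.1 h1
        apply hgb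
        refine (CfsgLib.SmallGroups.sylow_eq_of_normalizes c (g • b) fun u hu => ?_).symm
        have e1 : g • b = x := hx.subset (MulAction.mem_orbit_self _)
        have e2 : (⟨u, hu⟩ : (c : Subgroup G)) • (g • b) = x := hx.subset ⟨_, rfl⟩
        exact Sylow.smul_eq_iff_mem_normalizer.1 ((e2.trans e1.symm) : u • (g • b) = g • b)
      · rw [Set.eq_of_subset_of_ncard_le hsub (by rw [hn, h1]) (Set.toFinite _)]
        exact Ne.symm hcd
    obtain ⟨u, hu⟩ := horb
    refine ⟨(u : G) * g, ?_, by rw [mul_smul]; exact hu⟩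
    rw [mul_smul, hg]
    exact Sylow.smul_eq_iff_mem_normalizer.2 (Subgroup.le_normalizer u.2)
  have hirr := (CfsgLib.Char.permChar_sub_one_irr_iff (G := G) (X := Sylow 5 G) (by omega)).2 h2t
  refine ⟨by norm_num, 5, ⟨⟨_, hirr⟩, CfsgLib.CharBlocks.charDegree_eq ?_⟩, dvd_rfl⟩
  show (Nat.card (MulAction.fixedBy (Sylow 5 G) (1 : G)) : ℂ) - 1 = _
  rw [MulAction.fixedBy_one_eq_univ, Nat.card_congr (Equiv.Set.univ _), h6]
  norm_num

/-- The character degree graph of a finite group has as vertices the primes dividing some irreducible complex character degree, two distinct primes being joined when their product divides some irreducible character degree; two groups have the same character degree graph when they have the same vertices and the same joined pairs. A finite group of order 60 with the same character degree graph as the alternating group A₅ (whose character degrees are 1, 3, 4, 5, so the graph has vertices 2, 3, 5 and no edges) is isomorphic to A₅. -/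
theorem result {G : Type*} [Group G] [Finite G] (hcard : Nat.card G = 60)
    (hΓ : Cfsg.degreePrimes G = Cfsg.degreePrimes (alternatingGroup (Fin 5)) ∧ Cfsg.degreeGraph G = Cfsg.degreeGraph (alternatingGroup (Fin 5))) : Nonempty (G ≃* alternatingGroup (Fin 5)) := by
  classical
  haveI := Fintype.ofFinite G
  haveI : Fact (Nat.Prime 5) := ⟨by norm_num⟩
  obtain ⟨-, d, ⟨χ, hd⟩, h5⟩ := hΓ.1 ▸ five_mem_degreePrimes_A5
  have h6 : Nat.card (Sylow 5 G) = 6 := by
    have h1 := CfsgLib.SmallGroups.card_sylow_mem_filter (G := G) (p := 5) (a := 1) (m := 12)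
      (by rw [hcard]; norm_num) (by norm_num)
    have h2 : Nat.card (Sylow 5 G) ≠ 1 := fun h => by
      obtain ⟨P⟩ : Nonempty (Sylow 5 G) := inferInstance
      haveI := CfsgLib.SmallGroups.sylow_normal_of_card_eq_one h P
      have hP : Nat.card (P : Subgroup G) = 5 := by
        simpa using CfsgLib.SmallGroups.card_sylow_eq (p := 5) (a := 1) (m := 12) (by rw [hcard]; norm_num)
          (by norm_num) P
      haveI : IsCyclic (P : Subgroup G) := isCyclic_of_prime_card hP
      have hdvd := CfsgLib.Char.degree_dvd_index_abelian_normal (P : Subgroup G) (fun a ha b hb =>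
        congrArg Subtype.val ((IsCyclic.commGroup (α := (P : Subgroup G))).mul_comm ⟨a, ha⟩ ⟨b, hb⟩))
        χ.2 (CfsgLib.CharBlocks.coe_charDegree_irr χ).symm
      have hi : (P : Subgroup G).index = 12 := by
        have := (P : Subgroup G).card_mul_index
        rw [hP, hcard] at this; omega
      rw [hd, hi] at hdvd
      have := h5.trans hdvd
      norm_num at this
    simp only [Finset.mem_filter, Finset.mem_range] at h1
    obtain ⟨h1a, h1b, h1c⟩ := h1
    interval_cases hv : Nat.card (Sylow 5 G) <;> simp_all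
  haveI := simple_of_six hcard h6
  exact Cfsg.Agent.S0494.result hcard

end Cfsg.Agent.S3669
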