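import Cfsg.Statements.S3378
import Cfsg.Agent.S3377
import Cfsg.Agent.S3669
import Cfsg.Agent.S0494
import Cfsg.Agent.Lib.Recognition.IcosaPres
import Cfsg.Agent.Lib.Solvable.BurnsideHall

set_option autoImplicit false
open Cfsg

namespace Cfsg.Agent.S3378

open scoped Pointwise

/-- The relators. -/
def rels : Set (FreeGroup (Fin 3)) :=
  {FreeGroup.of (0 : Fin 3) ^ 3, FreeGroup.of (1 : Fin 3) ^ 5, FreeGroup.of (2 : Fin 3) ^ 2,
    (FreeGroup.of (2 : Fin 3))⁻¹ * FreeGroup.of 0 * FreeGroup.of 2 * (FreeGroup.of (0 : Fin 3))⁻¹,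
    (FreeGroup.of (2 : Fin 3))⁻¹ * FreeGroup.of 1 * FreeGroup.of 2 * (FreeGroup.of (1 : Fin 3))⁻¹,
    (FreeGroup.of (0 : Fin 3) * FreeGroup.of 1) ^ 2 * (FreeGroup.of (2 : Fin 3))⁻¹}

theorem equiv_of_gens {G : Type*} [Group G] [Finite G] (hG : Nat.card G = 120) {x y z : G}
    (hx : x ^ 3 = 1) (hy : y ^ 5 = 1) (hz : z ^ 2 = 1) (hzx : Commute z x) (hzy : Commute z y)
    (hxy : (x * y) ^ 2 = z) (hgen : Subgroup.closure {x, y, z} = ⊤) :
    Nonempty (PresentedGroup rels ≃* G) := by
  let φ := PresentedGroup.toGroup (f := ![x, y, z]) (rels := rels) (by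
    rintro r (rfl | rfl | rfl | rfl | rfl | rfl)
    · simp [hx]
    · simp [hy]
    · simp [hz]
    · simp [hzx.inv_left.eq]
    · simp [hzy.inv_left.eq]
    · simp [hxy])
  have hsurj : Function.Surjective φ := by
    rw [← MonoidHom.range_eq_top, eq_top_iff, ← hgen, Subgroup.closure_le]
    rintro w (rfl | rfl | rfl)
    · exact ⟨PresentedGroup.of 0, PresentedGroup.toGroup.of _⟩
    · exact ⟨PresentedGroup.of 1, PresentedGroup.toGroup.of _⟩
    · exact ⟨PresentedGroup.of 2, PresentedGroup.toGroup.of _⟩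
  obtain ⟨hfin, hle⟩ := CfsgLib.Recognition.card_le_oneTwenty
    (x := (PresentedGroup.of 0 : PresentedGroup rels)) (y := PresentedGroup.of 1) (z := PresentedGroup.of 2)
    (by
      rw [← PresentedGroup.closure_range_of]
      congr 1
      ext w
      constructor
      · rintro (rfl | rfl | rfl) <;> exact ⟨_, rfl⟩
      · rintro ⟨i, rfl⟩
        fin_cases i
        · exact Or.inl rfl
        · exact Or.inr (Or.inl rfl)
        · exact Or.inr (Or.inr rfl))
    (PresentedGroup.one_of_mem (Or.inl rfl)) (PresentedGroup.one_of_mem (Or.inr (Or.inl rfl)))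
    (PresentedGroup.one_of_mem (Or.inr (Or.inr (Or.inl rfl))))
    (PresentedGroup.one_of_mem (Or.inr (Or.inr (Or.inr (Or.inl rfl)))))
    (PresentedGroup.one_of_mem (Or.inr (Or.inr (Or.inr (Or.inr (Or.inr rfl))))))
  haveI := hfin
  exact ⟨MulEquiv.ofBijective φ ((Nat.bijective_iff_surjective_and_card φ).2
    ⟨hsurj, le_antisymm (hle.trans hG.ge) (Nat.card_le_card_of_surjective φ hsurj)⟩)⟩

open CfsgLib in
theorem presented_equiv_SL :
    Nonempty (PresentedGroup rels ≃* Matrix.SpecialLinearGroup (Fin 2) (ZMod 5)) := by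
  let x : Matrix.SpecialLinearGroup (Fin 2) (ZMod 5) := ⟨!![0, 1; 4, 4], by decide +kernel⟩
  let y : Matrix.SpecialLinearGroup (Fin 2) (ZMod 5) := ⟨!![0, 4; 1, 2], by decide +kernel⟩
  let z : Matrix.SpecialLinearGroup (Fin 2) (ZMod 5) := ⟨!![4, 0; 0, 4], by decide +kernel⟩
  have h120 : Nat.card (Matrix.SpecialLinearGroup (Fin 2) (ZMod 5)) = 120 := by
    rw [Nat.card_eq_fintype_card]; decide +kernel
  refine equiv_of_gens h120 (x := x) (y := y) (z := z) (by decide +kernel) (by decide +kernel)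
    (by decide +kernel) (by unfold Commute SemiconjBy; decide +kernel)
    (by unfold Commute SemiconjBy; decide +kernel) (Subtype.ext (by decide +kernel)) ?_
  let gen : ℕ → Matrix.SpecialLinearGroup (Fin 2) (ZMod 5) := fun g => [x, y, z, x⁻¹, y⁻¹, z⁻¹].getD g 1
  let l := (List.range 120).map fun i => CosetCert.act gen (Recognition.sl25Data.rep i)
  have hnd : l.Nodup := by decide +kernel
  set H := Subgroup.closure {x, y, z}
  have hgenH : ∀ g, gen g ∈ H := by
    intro g
    have hx' : x ∈ H := Subgroup.subset_closure (Or.inl rfl)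
    have hy' : y ∈ H := Subgroup.subset_closure (Or.inr (Or.inl rfl))
    have hz' : z ∈ H := Subgroup.subset_closure (Or.inr (Or.inr rfl))
    show List.getD _ g 1 ∈ H
    match g with
    | 0 => exact hx'
    | 1 => exact hy'
    | 2 => exact hz'
    | 3 => exact inv_mem hx'
    | 4 => exact inv_mem hy'
    | 5 => exact inv_mem hz'
    | _ + 6 => exact one_mem H
  have hact : ∀ w : List ℕ, CosetCert.act gen w ∈ H := by
    intro w
    induction w with
    | nil => exact one_mem H
    | cons g w ih => exact mul_mem ih (hgenH g)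
  refine Subgroup.eq_top_of_le_card H ?_
  rw [h120]
  have hsub : (l.toFinset : Set (Matrix.SpecialLinearGroup (Fin 2) (ZMod 5))) ⊆ H := by
    intro w hw
    obtain ⟨i, -, rfl⟩ := List.mem_map.1 (List.mem_toFinset.1 hw)
    exact hact _
  have := Set.ncard_le_ncard hsub (Set.toFinite _)
  rw [Set.ncard_coe_finset, List.toFinset_card_of_nodup hnd] at this
  rw [← Nat.card_coe_set_eq] at this
  simpa [l] using this

theorem isSolvable_of_quotient {G : Type*} [Group G] (N : Subgroup G) [N.Normal]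
    (h1 : Group.IsSolvable N) (h2 : Group.IsSolvable (G ⧸ N)) : Group.IsSolvable G :=
  solvable_of_ker_le_range N.subtype (QuotientGroup.mk' N)
    (by rw [QuotientGroup.ker_mk', Subgroup.range_subtype])

theorem card_sylow_five_ne_one {H : Type*} [Group H] [Finite H] [Fact (Nat.Prime 5)] {m : ℕ}
    (hH : Nat.card H = 5 * m) (hm : m = 12 ∨ m = 24) (hns : ¬ Group.IsSolvable H) :
    Nat.card (Sylow 5 H) ≠ 1 := by
  intro h
  obtain ⟨P⟩ : Nonempty (Sylow 5 H) := inferInstance
  haveI := CfsgLib.SmallGroups.sylow_normal_of_card_eq_one h P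
  haveI : Group.IsNilpotent (P : Subgroup H) := P.2.isNilpotent
  refine hns (isSolvable_of_quotient (P : Subgroup H) inferInstance
    (CfsgLib.Solvable.isSolvable_of_primeFactors_card_le_two ?_))
  have hP : Nat.card (P : Subgroup H) = 5 := by
    simpa using CfsgLib.SmallGroups.card_sylow_eq (p := 5) (a := 1) (m := m) (by rw [hH, pow_one])
      (by rcases hm with rfl | rfl <;> norm_num) P
  have hq : Nat.card (H ⧸ (P : Subgroup H)) = m := by
    have h1 := Subgroup.card_eq_card_quotient_mul_card_subgroup (P : Subgroup H)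
    rw [hP, hH] at h1
    omega
  rw [hq]
  refine le_trans (Finset.card_le_card (Nat.primeFactors_mono
    (show m ∣ 24 by rcases hm with rfl | rfl <;> norm_num) (by norm_num))) ?_
  rw [show (24 : ℕ).primeFactors = {2, 3} by decide +kernel]
  simp

theorem quaternion_unique_involution : ∀ a : QuaternionGroup 2, a ^ 2 = 1 → a = 1 ∨ a = QuaternionGroup.a 2 := by
  decide +kernel

theorem structure_120 {G : Type*} [Group G] [Finite G] (h120 : Nat.card G = 120)
    (hns : ¬ Group.IsSolvable G)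
    (hQ : ∀ P : Sylow 2 G, Nonempty ((P : Subgroup G) ≃* QuaternionGroup 2)) :
    ∃ x y z : G, x ^ 3 = 1 ∧ y ^ 5 = 1 ∧ z ^ 2 = 1 ∧ Commute z x ∧ Commute z y ∧ (x * y) ^ 2 = z ∧
      Subgroup.closure {x, y, z} = ⊤ := by
  classical
  haveI : Fact (Nat.Prime 2) := ⟨Nat.prime_two⟩
  haveI : Fact (Nat.Prime 5) := ⟨by norm_num⟩
  have huniq : ∀ (S : Sylow 2 G) (a b : G), a ∈ (S : Subgroup G) → b ∈ (S : Subgroup G) →
      a ^ 2 = 1 → a ≠ 1 → b ^ 2 = 1 → b ≠ 1 → a = b := by
    intro S a b ha hb ha2 ha1 hb2 hb1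
    obtain ⟨e⟩ := hQ S
    have key : ∀ c : (S : Subgroup G), (c : G) ^ 2 = 1 → (c : G) ≠ 1 → e c = QuaternionGroup.a 2 := by
      intro c hc hc1
      refine (quaternion_unique_involution _ ?_).resolve_left fun h => hc1 ?_
      · rw [← map_pow, show c ^ 2 = 1 from Subtype.ext (by simpa using hc), map_one]
      · rw [e.map_eq_one_iff] at h; rw [h]; rfl
    exact congrArg Subtype.val (e.injective ((key ⟨a, ha⟩ ha2 ha1).trans (key ⟨b, hb⟩ hb2 hb1).symm))
  have h6 : Nat.card (Sylow 5 G) = 6 := by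
    have h1 := CfsgLib.SmallGroups.card_sylow_mem_filter (G := G) (p := 5) (a := 1) (m := 24)
      (by rw [h120]; norm_num) (by norm_num)
    have h2 := card_sylow_five_ne_one (m := 24) (by rw [h120]) (Or.inr rfl) hns
    simp only [Finset.mem_filter, Finset.mem_range] at h1
    obtain ⟨h1a, h1b, h1c⟩ := h1
    interval_cases hv : Nat.card (Sylow 5 G) <;> simp_all
  set K := (MulAction.toPermHom G (Sylow 5 G)).ker with hK
  -- every involution fixes all six Sylow 5-subgroups
  have hinv : ∀ t : G, t ^ 2 = 1 → t ≠ 1 → t ∈ K := by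
    intro t ht ht1
    rw [hK, MonoidHom.mem_ker]
    refine Equiv.ext fun T => ?_
    show t • T = T
    obtain ⟨S, hS⟩ := (IsPGroup.of_card (p := 2) (n := 1) (G := Subgroup.zpowers t)
      (by rw [Nat.card_zpowers, pow_one]; exact orderOf_eq_prime ht ht1)).exists_le_sylow
    obtain ⟨e⟩ := hQ S
    have hS8 : Nat.card (S : Subgroup G) = 8 := by
      simpa using CfsgLib.SmallGroups.card_sylow_eq (p := 2) (a := 3) (m := 15) (by rw [h120]; norm_num)
        (by norm_num) S
    have hst : MulAction.stabilizer (S : Subgroup G) T ≠ ⊥ := by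
      intro h
      have h' := MulAction.index_stabilizer (S : Subgroup G) T
      rw [h, Subgroup.index_bot, hS8] at h'
      have := Set.ncard_le_ncard (Set.subset_univ (MulAction.orbit (S : Subgroup G) T)) (Set.toFinite _)
      rw [Set.ncard_univ, h6] at this
      omega
    obtain ⟨c, hc⟩ := exists_prime_orderOf_dvd_card' 2
      (show 2 ∣ Nat.card (MulAction.stabilizer (S : Subgroup G) T) by
        have hd := Subgroup.card_subgroup_dvd_card (MulAction.stabilizer (S : Subgroup G) T)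
        rw [hS8] at hd
        haveI := (Subgroup.nontrivial_iff_ne_bot _).2 hst
        obtain ⟨i, -, hi⟩ := (Nat.dvd_prime_pow Nat.prime_two).1 (show _ ∣ 2 ^ 3 from hd)
        have := Finite.one_lt_card (α := MulAction.stabilizer (S : Subgroup G) T)
        rw [hi] at this ⊢
        exact dvd_pow_self 2 (fun h => by rw [h, pow_zero] at this; omega))
    have hco : orderOf ((c : (S : Subgroup G)) : G) = 2 := by
      rw [Subgroup.orderOf_coe, Subgroup.orderOf_coe, hc]
    have hc2 : ((c : (S : Subgroup G)) : G) ^ 2 = 1 :=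
      (congrArg (fun n => ((c : (S : Subgroup G)) : G) ^ n) hco).symm.trans (pow_orderOf_eq_one _)
    have hc1 : ((c : (S : Subgroup G)) : G) ≠ 1 := fun e => by
      have : orderOf ((c : (S : Subgroup G)) : G) = 2 := by rw [Subgroup.orderOf_coe, Subgroup.orderOf_coe, hc]
      rw [e, orderOf_one] at this; omega
    rw [huniq S t _ (hS (Subgroup.mem_zpowers t)) (c : (S : Subgroup G)).2 ht ht1 hc2 hc1]
    exact c.2
  have hK4 : IsPGroup 2 K := by
    have hd : Nat.card K ∣ 20 := by
      obtain ⟨P⟩ : Nonempty (Sylow 5 G) := inferInstance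
      have hN : Nat.card (Subgroup.normalizer ((P : Subgroup G) : Set G)) = 20 := by
        have := CfsgLib.SmallGroups.card_sylow_mul_card_normalizer P
        rw [h6, h120] at this; omega
      rw [← hN]
      refine Subgroup.card_dvd_of_le fun g hg => ?_
      have := congrArg (fun σ : Equiv.Perm (Sylow 5 G) => σ P) (MonoidHom.mem_ker.1 hg)
      exact Sylow.smul_eq_iff_mem_normalizer.1 this
    have h5 : ¬ 5 ∣ Nat.card K := by
      intro h
      obtain ⟨c, hc⟩ := exists_prime_orderOf_dvd_card' 5 h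
      have hc' : orderOf (c : G) = 5 := by rw [Subgroup.orderOf_coe, hc]
      obtain ⟨P, hP⟩ := (IsPGroup.of_card (p := 5) (n := 1) (G := Subgroup.zpowers (c : G))
        (by rw [Nat.card_zpowers, hc', pow_one])).exists_le_sylow
      have hcard : ∀ Q : Sylow 5 G, Nat.card (Q : Subgroup G) = 5 := fun Q => by
        simpa using CfsgLib.SmallGroups.card_sylow_eq (p := 5) (a := 1) (m := 24) (by rw [h120]; norm_num)
          (by norm_num) Q
      have hsub : Subsingleton (Sylow 5 G) := ⟨fun A B => by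
        have heq : ∀ Q : Sylow 5 G, (Q : Subgroup G) = Subgroup.zpowers (c : G) := by
          intro Q
          symm
          refine Subgroup.eq_of_le_of_card_ge ?_ (by rw [hcard, Nat.card_zpowers, hc'])
          rw [Subgroup.zpowers_le]
          have h1 : (c : G) • Q = Q := congrArg (fun σ : Equiv.Perm (Sylow 5 G) => σ Q) (MonoidHom.mem_ker.1 c.2)
          have h2 : Subgroup.zpowers (c : G) ≤ Subgroup.normalizer ((Q : Subgroup G) : Set G) :=
            Subgroup.zpowers_le.2 (Sylow.smul_eq_iff_mem_normalizer.1 h1)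
          have h3 := (IsPGroup.of_card (p := 5) (n := 1) (G := Subgroup.zpowers (c : G))
            (by rw [Nat.card_zpowers, hc', pow_one])).inf_normalizer_sylow Q
          have h4 : (Subgroup.zpowers (c : G)) ≤ (Q : Subgroup G) := by
            have := h3 ▸ le_inf le_rfl h2
            exact this.trans inf_le_right
          exact h4 (Subgroup.mem_zpowers _)
        exact Sylow.ext ((heq A).trans (heq B).symm)⟩
      have := (Finite.card_le_one_iff_subsingleton (α := Sylow 5 G)).2 hsub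
      omega
    refine IsPGroup.of_card (n := (Nat.card K).factorization 2) ?_
    have hd4 : Nat.card K ∣ 2 ^ 2 := by
      refine Nat.Coprime.dvd_of_dvd_mul_left ?_ (show Nat.card K ∣ 5 * 2 ^ 2 by simpa using hd)
      exact ((Nat.Prime.coprime_iff_not_dvd (by norm_num : Nat.Prime 5)).2 h5).symm
    obtain ⟨i, -, hi⟩ := (Nat.dvd_prime_pow Nat.prime_two).1 hd4
    rw [hi, Nat.prime_two.factorization_pow, Finsupp.single_eq_same]
  obtain ⟨S, hS⟩ := hK4.exists_le_sylow
  obtain ⟨z, hz⟩ := exists_prime_orderOf_dvd_card' (G := G) 2 (by rw [h120]; norm_num)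
  have hz2 : z ^ 2 = 1 := by rw [← hz, pow_orderOf_eq_one]
  have hz1 : z ≠ 1 := fun e => by rw [e, orderOf_one] at hz; omega
  have honly : ∀ t : G, t ^ 2 = 1 → t ≠ 1 → t = z := fun t ht ht1 =>
    huniq S t z (hS (hinv t ht ht1)) (hS (hinv z hz2 hz1)) ht ht1 hz2 hz1
  have hzc : ∀ g : G, Commute g z := by
    intro g
    have := honly (g * z * g⁻¹) (by rw [conj_pow, hz2, mul_one, mul_inv_cancel]) (by
      simpa [mul_inv_eq_one] using hz1)
    exact mul_inv_eq_iff_eq_mul.1 this
  set Z := Subgroup.zpowers z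
  haveI : Z.Normal := ⟨fun v hv g => by
    obtain ⟨j, rfl⟩ := Subgroup.mem_zpowers_iff.1 hv
    rw [((hzc g).zpow_right j).eq, mul_inv_cancel_right]
    exact Subgroup.zpow_mem _ (Subgroup.mem_zpowers z) j⟩
  have hZ2 : Nat.card Z = 2 := by rw [Nat.card_zpowers, hz]
  have hq60 : Nat.card (G ⧸ Z) = 60 := by
    have := Subgroup.card_eq_card_quotient_mul_card_subgroup Z
    rw [h120, hZ2] at this; omega
  have hqns : ¬ Group.IsSolvable (G ⧸ Z) := fun h => hns (isSolvable_of_quotient Z (by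
    haveI : IsCyclic Z := isCyclic_of_prime_card hZ2
    haveI := IsCyclic.commGroup (α := Z)
    infer_instance) h)
  have hq6 : Nat.card (Sylow 5 (G ⧸ Z)) = 6 := by
    have h1 := CfsgLib.SmallGroups.card_sylow_mem_filter (G := G ⧸ Z) (p := 5) (a := 1) (m := 12)
      (by rw [hq60]; norm_num) (by norm_num)
    have h2 := card_sylow_five_ne_one (m := 12) (by rw [hq60]) (Or.inl rfl) hqns
    simp only [Finset.mem_filter, Finset.mem_range] at h1
    obtain ⟨h1a, h1b, h1c⟩ := h1
    interval_cases hv : Nat.card (Sylow 5 (G ⧸ Z)) <;> simp_all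
  haveI := Cfsg.Agent.S3669.simple_of_six hq60 hq6
  obtain ⟨e⟩ := Cfsg.Agent.S0494.result (G := G ⧸ Z) hq60
  let ψ : G →* alternatingGroup (Fin 5) := e.toMonoidHom.comp (QuotientGroup.mk' Z)
  have hψs : Function.Surjective ψ := e.surjective.comp (QuotientGroup.mk'_surjective Z)
  have hψk : ∀ g, ψ g = 1 ↔ g ∈ Z := fun g => by
    show e (g : G ⧸ Z) = 1 ↔ _
    rw [e.map_eq_one_iff, QuotientGroup.eq_one_iff]
  have hsq : ∀ g, ψ g = 1 → g ^ 2 = 1 := fun g hg => by
    obtain ⟨j, rfl⟩ := Subgroup.mem_zpowers_iff.1 ((hψk g).1 hg)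
    rw [← zpow_natCast, ← zpow_mul, mul_comm, zpow_mul, zpow_natCast, hz2, one_zpow]
  obtain ⟨a, b, ha, hb, hab, hab1, hgen⟩ := Cfsg.Agent.S3377.exists_gens
  obtain ⟨X, hX⟩ := hψs a
  obtain ⟨Y, hY⟩ := hψs b
  have hXi : ψ (X ^ 4) = a := by rw [map_pow, hX, pow_succ, ha, one_mul]
  have hYi : ψ (Y ^ 6) = b := by rw [map_pow, hY, pow_succ, hb, one_mul]
  refine ⟨X ^ 4, Y ^ 6, z, ?_, ?_, hz2, (hzc _).symm, (hzc _).symm, ?_, ?_⟩
  · have := hsq (X ^ 3) (by rw [map_pow, hX, ha])
    rw [← pow_mul] at this ⊢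
    rw [show 4 * 3 = 3 * 2 * 2 by norm_num, pow_mul, this, one_pow]
  · have := hsq (Y ^ 5) (by rw [map_pow, hY, hb])
    rw [← pow_mul] at this ⊢
    rw [show 6 * 5 = 5 * 2 * 3 by norm_num, pow_mul, this, one_pow]
  · have h1 : ψ ((X ^ 4 * Y ^ 6) ^ 2) = 1 := by rw [map_pow, map_mul, hXi, hYi, hab]
    refine honly _ (hsq _ h1) fun e2 => hab1 ?_
    by_cases h0 : X ^ 4 * Y ^ 6 = 1
    · rw [← hXi, ← hYi, ← map_mul, h0, map_one]
    · have := honly _ e2 h0
      rw [← hXi, ← hYi, ← map_mul, this]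
      exact (hψk z).2 (Subgroup.mem_zpowers z)
  · rw [eq_top_iff]
    intro g _
    set H := Subgroup.closure {X ^ 4, Y ^ 6, z}
    have hH : H.map ψ = ⊤ := by
      rw [eq_top_iff, ← hgen, Subgroup.closure_le]
      rintro w (rfl | rfl)
      · exact ⟨_, Subgroup.subset_closure (Or.inl rfl), hXi⟩
      · exact ⟨_, Subgroup.subset_closure (Or.inr (Or.inl rfl)), hYi⟩
    obtain ⟨h, hh, e3⟩ := hH.ge (Subgroup.mem_top (ψ g))
    have h4 : h⁻¹ * g ∈ Z := (hψk _).1 (by rw [map_mul, map_inv, e3, inv_mul_cancel])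
    have h5 : Z ≤ H := Subgroup.zpowers_le.2 (Subgroup.subset_closure (Or.inr (Or.inr rfl)))
    simpa using mul_mem hh (h5 h4)

/-- Every non-solvable group of order 120 whose Sylow 2-subgroups are quaternion of order 8 is isomorphic to SL(2,5), and SL(2,5) has the presentation ⟨x, y, z | x³ = y⁵ = z² = 1, z⁻¹xz = x, z⁻¹yz = y, (xy)² = z⟩. -/
theorem result :
    (∀ (G : Type*) [Group G] [Finite G], Nat.card G = 120 → ¬ Group.IsSolvable G →
      (∀ P : Sylow 2 G, Nonempty ((P : Subgroup G) ≃* QuaternionGroup 2)) →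
      Nonempty (G ≃* Matrix.SpecialLinearGroup (Fin 2) (ZMod 5))) ∧
    Nonempty (PresentedGroup ({FreeGroup.of (0 : Fin 3) ^ 3, FreeGroup.of (1 : Fin 3) ^ 5, FreeGroup.of (2 : Fin 3) ^ 2,
        (FreeGroup.of (2 : Fin 3))⁻¹ * FreeGroup.of 0 * FreeGroup.of 2 * (FreeGroup.of (0 : Fin 3))⁻¹,
        (FreeGroup.of (2 : Fin 3))⁻¹ * FreeGroup.of 1 * FreeGroup.of 2 * (FreeGroup.of (1 : Fin 3))⁻¹,
        (FreeGroup.of (0 : Fin 3) * FreeGroup.of 1) ^ 2 * (FreeGroup.of (2 : Fin 3))⁻¹} : Set (FreeGroup (Fin 3)))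
      ≃* Matrix.SpecialLinearGroup (Fin 2) (ZMod 5)) := by
  refine ⟨fun G _ _ h120 hns hQ => ?_, presented_equiv_SL⟩
  obtain ⟨x, y, z, hx, hy, hz, hzx, hzy, hxy, hgen⟩ := structure_120 h120 hns hQ
  obtain ⟨e1⟩ := equiv_of_gens h120 hx hy hz hzx hzy hxy hgen
  obtain ⟨e2⟩ := presented_equiv_SL
  exact ⟨e1.symm.trans e2⟩

end Cfsg.Agent.S3378
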