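import Cfsg.Statements.S4722
import Cfsg.Agent.Lib.Blocks.SecondMain
import Cfsg.Agent.Lib.Blocks.Covering
import Cfsg.Agent.Lib.CharNormal.Kernel
import Cfsg.Agent.Lib.Cores.Basic

set_option autoImplicit false
open Cfsg

namespace Cfsg.Agent.S4722

open scoped ComplexConjugate

theorem finsum_mem_ite {α : Type*} [Fintype α] (s : Set α) [DecidablePred (· ∈ s)] (f : α → ℂ) :
    ∑ᶠ a ∈ s, f a = ∑ a : α, if a ∈ s then f a else 0 := by
  classical
  rw [finsum_eq_sum_of_fintype]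
  refine Finset.sum_congr rfl fun a _ => ?_
  rw [finsum_eq_if]

/-- The sign argument: three vanishing moments and at most one term of sign `ε`. -/
theorem eq_of_moments {ι : Type*} [Fintype ι] (b c v : ι → ℝ) (hc : ∀ i, 0 < c i)
    (h0 : ∑ i, b i * c i = 0) (h1 : ∑ i, b i * v i = 0) (h2 : ∑ i, b i * (v i ^ 2 / c i) = 0)
    (i₀ i : ι) (hneg : ∀ j, j ≠ i₀ → b j ≤ 0) (hi : b i ≠ 0) : v i / c i = v i₀ / c i₀ := by
  set r := v i₀ / c i₀ with hr
  have hterm : ∀ j, b j * c j * (v j / c j - r) ^ 2 =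
      b j * (v j ^ 2 / c j) - 2 * r * (b j * v j) + r ^ 2 * (b j * c j) := by
    intro j
    have := (hc j).ne'
    field_simp
    ring
  have hsum : ∑ j, b j * c j * (v j / c j - r) ^ 2 = 0 := by
    simp only [hterm, Finset.sum_add_distrib, Finset.sum_sub_distrib, ← Finset.mul_sum, h0, h1, h2]
    ring
  have hle : ∀ j ∈ (Finset.univ : Finset ι), b j * c j * (v j / c j - r) ^ 2 ≤ 0 := by
    intro j _
    by_cases hj : j = i₀
    · subst hj; simp [hr]
    · exact mul_nonpos_of_nonpos_of_nonneg (mul_nonpos_of_nonpos_of_nonneg (hneg j hj) (hc j).le)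
        (sq_nonneg _)
  have := (Finset.sum_eq_zero_iff_of_nonpos hle).mp hsum i (Finset.mem_univ i)
  rcases mul_eq_zero.mp this with h | h
  · exact absurd h (mul_ne_zero hi (hc i).ne')
  · exact sub_eq_zero.mp (eq_zero_of_pow_eq_zero h)

/-- Let M be a maximal ideal of the algebraic integers containing 2, P a 2-subgroup of the finite group G, U a subset of P, and t an involution of G such that no element of U is inverted by any conjugate of t. Let θ be a generalized character of P vanishing outside U, and for χ in the principal 2-block B₀ put a_χ = #P⁻¹ Σ_{y ∈ P} χ(y) θ(y⁻¹). Then Σ_{χ ∈ B₀} a_χ χ(t)^2/χ(1) = 0, Σ_{χ ∈ B₀} a_χ χ(1) = 0 and Σ_{χ ∈ B₀} a_χ χ(t) = 0. If moreover #P⁻¹ Σ_{y ∈ P} θ(y) ≠ 0, then either at least two of the a_χ have positive real part and at least two have negative real part, or G has a proper normal subgroup containing O_2'(G) and t. -/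
theorem result {G : Type*} [Group G] [Finite G] (M : Ideal Cfsg.AlgInt) (hM : Cfsg.IsPModular 2 M) (P : Subgroup G) (hP : IsPGroup 2 P) (U : Set G) (hUP : U ⊆ (P : Set G)) (t : G) (ht : orderOf t = 2) (hinv : ∀ u ∈ U, ∀ g : G, (g * t * g⁻¹) * u * (g * t * g⁻¹)⁻¹ ≠ u⁻¹) (θ : ↥P → ℂ) (hθ : Cfsg.IsGeneralizedCharacter ↥P θ) (hθU : ∀ y : ↥P, (y : G) ∉ U → θ y = 0) : (∑ᶠ χ ∈ Cfsg.principalBlock M G, ((Nat.card ↥P : ℂ)⁻¹ * ∑ᶠ y : ↥P, (χ : G → ℂ) (y : G) * θ y⁻¹) * (χ : G → ℂ) t ^ 2 / (χ : G → ℂ) 1 = 0) ∧ (∑ᶠ χ ∈ Cfsg.principalBlock M G, ((Nat.card ↥P : ℂ)⁻¹ * ∑ᶠ y : ↥P, (χ : G → ℂ) (y : G) * θ y⁻¹) * (χ : G → ℂ) 1 = 0) ∧ (∑ᶠ χ ∈ Cfsg.principalBlock M G, ((Nat.card ↥P : ℂ)⁻¹ * ∑ᶠ y : ↥P, (χ : G → ℂ) (y : G) * θ y⁻¹) * (χ : G → ℂ) t = 0) ∧ ((Nat.card ↥P : ℂ)⁻¹ * ∑ᶠ y : ↥P, θ y ≠ 0 → (2 ≤ Nat.card {χ : Cfsg.IrrCharacter G // χ ∈ Cfsg.principalBlock M G ∧ 0 < (((Nat.card ↥P : ℂ)⁻¹ * ∑ᶠ y : ↥P, (χ : G → ℂ) (y : G) * θ y⁻¹)).re}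 ∧ 2 ≤ Nat.card {χ : Cfsg.IrrCharacter G // χ ∈ Cfsg.principalBlock M G ∧ (((Nat.card ↥P : ℂ)⁻¹ * ∑ᶠ y : ↥P, (χ : G → ℂ) (y : G) * θ y⁻¹)).re < 0}) ∨ ∃ K : Subgroup G, K.Normal ∧ K ≠ ⊤ ∧ Cfsg.pPrimeCore 2 G ≤ K ∧ t ∈ K) := by
  classical
  have := Fintype.ofFinite G
  have := hM.2.1
  have : Fact (Nat.Prime 2) := ⟨Nat.prime_two⟩
  let _ := Fintype.ofFinite P
  have hP2 : ∀ y : P, ∃ k : ℕ, orderOf ((y : G)) = 2 ^ k := fun y => by
    obtain ⟨k, hk⟩ := IsPGroup.iff_orderOf.mp hP y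
    exact ⟨k, by rw [Subgroup.orderOf_coe, hk]⟩
  have hB : IsPBlock M (principalBlock M G) := by
    rw [CfsgLib.Blocks.principalBlock_eq]; exact CfsgLib.Blocks.isPBlock_blockOf _
  have hch : ∀ χ : IrrCharacter G, IsCharacter G (χ : G → ℂ) :=
    fun χ => CfsgLib.Char.isCharacter_of_isIrr χ.2
  have ht2 : t⁻¹ = t := by
    rw [inv_eq_iff_mul_eq_one, ← sq, ← ht, pow_orderOf_eq_one]
  let a : IrrCharacter G → ℂ := fun χ =>
    (Nat.card P : ℂ)⁻¹ * ∑ y : P, (χ : G → ℂ) (y : G) * θ y⁻¹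
  let B := principalBlock M G
  -- the columns of `U` are orthogonal to every element inverted by `t`
  have horth : ∀ u : P, (u : G) ∈ U → ∀ w : G, t * w * t⁻¹ = w⁻¹ →
      ∑ χ : IrrCharacter G, (if χ ∈ B then (χ : G → ℂ) w * conj ((χ : G → ℂ) (u : G)) else 0) = 0 := by
    intro u hu w hw
    obtain ⟨z, hz⟩ := CfsgLib.Blocks.exists_isPPart (p := 2) w
    refine CfsgLib.Blocks.block_orthogonality hM hz
      (CfsgLib.Blocks.isPPart_self Nat.prime_two (hP2 u)) ?_ hB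
    intro hc
    obtain ⟨g, hg⟩ := isConj_iff.mp hc
    have h1 := CfsgLib.Blocks.isPPart_conj hz t
    rw [hw] at h1
    have h2 : IsPPart 2 w⁻¹ z⁻¹ := by
      obtain ⟨y, rfl, hzy, ⟨k, hk⟩, hy⟩ := hz
      exact ⟨y⁻¹, by rw [hzy.eq, mul_inv_rev], hzy.inv_inv, ⟨k, by rw [orderOf_inv, hk]⟩,
        by rwa [orderOf_inv]⟩
    have h3 := CfsgLib.Blocks.isPPart_unique h1 h2
    refine hinv (u : G) hu g ?_
    rw [← hg]
    calc g * t * g⁻¹ * (g * z * g⁻¹) * (g * t * g⁻¹)⁻¹ = g * (t * z * t⁻¹) * g⁻¹ := by group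
      _ = (g * z * g⁻¹)⁻¹ := by rw [h3]; group
  have hsumF : ∀ F : IrrCharacter G → ℂ,
      (∀ u : P, (u : G) ∈ U →
        ∑ χ : IrrCharacter G, (if χ ∈ B then F χ * conj ((χ : G → ℂ) (u : G)) else 0) = 0) →
      ∑ χ : IrrCharacter G, (if χ ∈ B then a χ * F χ else 0) = 0 := by
    intro F hF
    have e : ∀ χ : IrrCharacter G, (if χ ∈ B then a χ * F χ else 0) =
        ∑ y : P, (Nat.card P : ℂ)⁻¹ * θ y⁻¹ *
          (if χ ∈ B then F χ * (χ : G → ℂ) (y : G) else 0) := by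
      intro χ
      split_ifs
      · simp only [a, Finset.mul_sum, Finset.sum_mul]
        exact Finset.sum_congr rfl fun y _ => by ring
      · simp
    rw [Finset.sum_congr rfl (fun χ _ => e χ), Finset.sum_comm]
    refine Finset.sum_eq_zero fun y _ => ?_
    rw [← Finset.mul_sum]
    by_cases hy : ((y⁻¹ : P) : G) ∈ U
    · refine mul_eq_zero_of_right _ (Eq.trans (Finset.sum_congr rfl fun χ _ => ?_) (hF y⁻¹ hy))
      rw [Subgroup.coe_inv, CfsgLib.Char.char_inv (hch χ), Complex.conj_conj]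
    · rw [hθU _ hy, mul_zero, zero_mul]
  have hE1 : ∑ χ : IrrCharacter G, (if χ ∈ B then a χ * (χ : G → ℂ) 1 else 0) = 0 :=
    hsumF _ fun u hu => horth u hu 1 (by group)
  have hE2 : ∑ χ : IrrCharacter G, (if χ ∈ B then a χ * (χ : G → ℂ) t else 0) = 0 :=
    hsumF _ fun u hu => horth u hu t (by rw [mul_inv_cancel_right, ht2])
  have hE3 : ∑ χ : IrrCharacter G,
      (if χ ∈ B then a χ * ((χ : G → ℂ) t ^ 2 / (χ : G → ℂ) 1) else 0) = 0 := by
    refine hsumF _ fun u hu => ?_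
    have e : ∀ χ : IrrCharacter G,
        (if χ ∈ B then (χ : G → ℂ) t ^ 2 / (χ : G → ℂ) 1 * conj ((χ : G → ℂ) (u : G)) else 0) =
        ∑ g : G, (Nat.card G : ℂ)⁻¹ *
          (if χ ∈ B then (χ : G → ℂ) (t * (g * t * g⁻¹)) * conj ((χ : G → ℂ) (u : G)) else 0) := by
      intro χ
      split_ifs
      · rw [← Finset.mul_sum, ← Finset.sum_mul, CfsgLib.Blocks.sum_char_mul_conj χ.2]
        have := CfsgLib.Char.card_ne_zero' (G := G)
        field_simp
      · simp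
    rw [Finset.sum_congr rfl (fun χ _ => e χ), Finset.sum_comm]
    refine Finset.sum_eq_zero fun g _ => ?_
    rw [← Finset.mul_sum, horth u hu _ ?_, mul_zero]
    have hcv : (g * t * g⁻¹)⁻¹ = g * t * g⁻¹ := by
      rw [mul_inv_rev, mul_inv_rev, inv_inv, ht2, mul_assoc]
    rw [mul_inv_rev, hcv, ← mul_assoc t t]
    have htt : t * t = 1 := inv_eq_iff_mul_eq_one.mp ht2
    rw [htt, one_mul]
  rw [finsum_mem_ite, finsum_mem_ite, finsum_mem_ite]
  simp only [finsum_eq_sum_of_fintype]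
  refine ⟨?_, hE1, hE2, fun h1 => ?_⟩
  · refine Eq.trans (Finset.sum_congr rfl fun χ _ => ?_) hE3
    show _ = if χ ∈ B then _ else 0
    simp only [a, B]
    split_ifs
    · rw [mul_div_assoc]
    · rfl
  have hgen : ∀ χ : IrrCharacter G, ∃ z : ℤ, a χ = z := by
    intro χ
    obtain ⟨z, hz⟩ := CfsgLib.Char.classInner_gen_int
      (CfsgLib.Char.isGen_res P (CfsgLib.Char.isGen_of_char (hch χ))) hθ
    refine ⟨z, ?_⟩
    rw [← hz, CfsgLib.Char.classInner_def]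
    simp only [a]
    refine congrArg _ (Finset.sum_congr rfl fun y _ => ?_)
    rw [CfsgLib.Char.gen_inv hθ]
  choose n hn using hgen
  let one : IrrCharacter G := CfsgLib.Char.irrOne
  have hone : one ∈ B := by
    show one ∈ principalBlock M G
    rw [CfsgLib.Blocks.principalBlock_eq]
    exact CfsgLib.Blocks.mem_blockOf_self _
  have hn1 : n one ≠ 0 := by
    intro h
    apply h1
    have h2 := hn one
    rw [h, Int.cast_zero] at h2
    rw [← h2]
    simp only [a, one, CfsgLib.Char.irrOne_apply, one_mul]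
    exact congrArg _ (Fintype.sum_equiv (Equiv.inv P) _ _ fun y => by simp)
  let c : IrrCharacter G → ℝ := fun χ => (Cfsg.charDegree (χ : G → ℂ) : ℝ)
  let v : IrrCharacter G → ℝ := fun χ => ((χ : G → ℂ) t).re
  let b : IrrCharacter G → ℝ := fun χ => if χ ∈ B then (n χ : ℝ) else 0
  have hc : ∀ χ, 0 < c χ := fun χ =>
    Nat.cast_pos.mpr (Nat.pos_of_ne_zero (CfsgLib.Blocks.charDegree_ne_zero χ))
  have hcC : ∀ χ : IrrCharacter G, ((c χ : ℝ) : ℂ) = (χ : G → ℂ) 1 := fun χ => by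
    simp only [c]
    push_cast
    exact (CfsgLib.Blocks.charDegree_eq (hch χ)).symm
  have hvC : ∀ χ : IrrCharacter G, ((v χ : ℝ) : ℂ) = (χ : G → ℂ) t := fun χ => by
    refine Complex.conj_eq_iff_re.mp ?_
    rw [← CfsgLib.Char.char_inv (hch χ), ht2]
  have hbC : ∀ χ : IrrCharacter G, ((b χ : ℝ) : ℂ) = if χ ∈ B then a χ else 0 := fun χ => by
    simp only [b, hn χ]
    split_ifs <;> simp
  have hr0 : ∑ χ, b χ * c χ = 0 := by
    apply Complex.ofReal_injective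
    push_cast
    rw [← hE1]
    exact Finset.sum_congr rfl fun χ _ => by rw [hbC, hcC, ite_mul, zero_mul]
  have hr1 : ∑ χ, b χ * v χ = 0 := by
    apply Complex.ofReal_injective
    push_cast
    rw [← hE2]
    exact Finset.sum_congr rfl fun χ _ => by rw [hbC, hvC, ite_mul, zero_mul]
  have hr2 : ∑ χ, b χ * (v χ ^ 2 / c χ) = 0 := by
    apply Complex.ofReal_injective
    push_cast
    rw [← hE3]
    exact Finset.sum_congr rfl fun χ _ => by rw [hbC, hvC, hcC, ite_mul, zero_mul]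
  have hbone : b one ≠ 0 := by simp [b, hone, hn1]
  have key : ∀ ε : ℝ, (ε = 1 ∨ ε = -1) →
      Nat.card {χ : IrrCharacter G // χ ∈ B ∧ 0 < ε * (a χ).re} < 2 →
      ∃ K : Subgroup G, K.Normal ∧ K ≠ ⊤ ∧ pPrimeCore 2 G ≤ K ∧ t ∈ K := by
    intro ε hε hcard
    have hε0 : ε ≠ 0 := by rcases hε with h | h <;> simp [h]
    have hre : ∀ χ, χ ∈ B → (a χ).re = b χ := fun χ hχ => by simp [b, hχ, hn χ]
    obtain ⟨i₀, hi₀⟩ : ∃ i₀ : IrrCharacter G, ∀ j, j ≠ i₀ → ε * b j ≤ 0 := by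
      rcases isEmpty_or_nonempty {χ : IrrCharacter G // χ ∈ B ∧ 0 < ε * (a χ).re} with he | ⟨⟨i₀, hi₀⟩⟩
      · refine ⟨one, fun j _ => ?_⟩
        by_cases hj : j ∈ B
        · by_contra h
          exact he.false ⟨j, hj, by rw [hre j hj]; exact lt_of_not_ge h⟩
        · simp [b, hj]
      · refine ⟨i₀, fun j hj => ?_⟩
        by_cases hjB : j ∈ B
        · by_contra h
          have hs : Subsingleton {χ : IrrCharacter G // χ ∈ B ∧ 0 < ε * (a χ).re} :=
            Finite.card_le_one_iff_subsingleton.mp (by omega)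
          exact hj (congrArg Subtype.val (hs.elim ⟨j, hjB, by rw [hre j hjB]; exact lt_of_not_ge h⟩
            ⟨i₀, hi₀⟩))
        · simp [b, hjB]
    have hkey : ∀ χ, b χ ≠ 0 → v χ = c χ := by
      intro χ hb
      have hm : ∀ F : IrrCharacter G → ℝ, ∑ χ, b χ * F χ = 0 → ∑ χ, ε * b χ * F χ = 0 := fun F hF => by
        simp only [mul_assoc, ← Finset.mul_sum, hF, mul_zero]
      have e1 := eq_of_moments (fun χ => ε * b χ) c v hc (hm _ hr0) (hm _ hr1) (hm _ hr2) i₀ χ hi₀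
        (mul_ne_zero hε0 hb)
      have e2 := eq_of_moments (fun χ => ε * b χ) c v hc (hm _ hr0) (hm _ hr1) (hm _ hr2) i₀ one hi₀
        (mul_ne_zero hε0 hbone)
      rw [← e2] at e1
      have h11 : v one / c one = 1 := by
        simp [v, c, one, CfsgLib.Char.irrOne_apply, CfsgLib.Blocks.charDegree_one,
          show (CfsgLib.Char.irrOne : IrrCharacter G).1 = fun _ => (1 : ℂ) from rfl]
      rw [h11, div_eq_one_iff_eq (hc χ).ne'] at e1
      exact e1
    obtain ⟨χ, hχne, hbχ⟩ : ∃ χ, χ ≠ one ∧ b χ ≠ 0 := by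
      by_contra h
      push Not at h
      rw [Finset.sum_eq_single one (fun j _ hj => by rw [h j hj, zero_mul]) (by simp)] at hr0
      exact mul_ne_zero hbone (hc one).ne' hr0
    have hχB : χ ∈ B := by
      by_contra h
      exact hbχ (by simp [b, h])
    refine ⟨CfsgLib.CharNormal.charKer (hch χ), CfsgLib.CharNormal.charKer_normal (hch χ), ?_, ?_, ?_⟩
    · intro htop
      have hall : ∀ g : G, (χ : G → ℂ) g = (χ : G → ℂ) 1 := fun g =>
        CfsgLib.CharNormal.mem_charKer.mp (htop ▸ Subgroup.mem_top g)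
      have h0 := CfsgLib.Char.classInner_irrCharacter χ one
      rw [if_neg hχne, CfsgLib.Char.classInner_def] at h0
      simp only [one, CfsgLib.Char.irrOne_apply, hall, map_one, mul_one, Finset.sum_const,
        Finset.card_univ, nsmul_eq_mul, ← Nat.card_eq_fintype_card] at h0
      rw [inv_mul_cancel_left₀ (CfsgLib.Char.card_ne_zero' (G := G))] at h0
      exact CfsgLib.Char.irr_one_ne_zero χ.2 h0
    · rw [CfsgLib.Cores.pPrimeCore_le_iff]
      intro N hN hcop x hx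
      let _ := Fintype.ofFinite N
      have hnd : ¬ 2 ∣ Nat.card N := (CfsgLib.Cores.coprime_iff_not_dvd Nat.prime_two _).mp hcop
      have hsame : SameBlock M ((CfsgLib.Char.irrOne : IrrCharacter G) : G → ℂ) (χ : G → ℂ) := hχB
      exact CfsgLib.Blocks.trivialOn_of_sameBlock hM hnd hsame (fun _ _ => rfl) x hx
    · refine CfsgLib.CharNormal.mem_charKer.mpr ?_
      rw [← hvC, ← hcC, hkey χ hbχ]
  by_cases hpos : 2 ≤ Nat.card {χ : IrrCharacter G // χ ∈ B ∧ 0 < (a χ).re}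
  · by_cases hneg : 2 ≤ Nat.card {χ : IrrCharacter G // χ ∈ B ∧ (a χ).re < 0}
    · exact Or.inl ⟨hpos, hneg⟩
    · refine Or.inr (key (-1) (Or.inr rfl) ?_)
      simpa [neg_one_mul] using hneg
  · refine Or.inr (key 1 (Or.inl rfl) ?_)
    simpa using hpos

end Cfsg.Agent.S4722
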