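import Cfsg.Statements.S3743
import Mathlib
import Cfsg.Agent.Lib.Cores.Fitting

set_option autoImplicit false
open Cfsg

namespace Cfsg.Agent.S3743

theorem piCore_isPi {H : Type*} [Group H] [Finite H] (π : Set ℕ) :
    ∀ p : ℕ, p.Prime → p ∣ Nat.card (Cfsg.piCore π H) → p ∈ π := by
  refine CfsgLib.Cores.sSup_normal_induction
    (fun N => ∀ p : ℕ, p.Prime → p ∣ Nat.card N → p ∈ π) ?_ ?_ _ ?_
  · intro p hp h
    rw [Subgroup.card_bot] at h
    exact absurd (Nat.dvd_one.1 h) hp.ne_one
  · intro N M _ _ hN hM p hp h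
    rcases hp.dvd_mul.1 (h.trans (CfsgLib.Cores.card_sup_dvd_mul N M)) with h1 | h1
    · exact hN p hp h1
    · exact hM p hp h1
  · exact fun N hN => hN

theorem le_piCore_of_isSubnormal {H : Type*} [Group H] [Finite H] (π : Set ℕ) {A : Subgroup H}
    (hA : A.IsSubnormal) (hπ : ∀ p : ℕ, p.Prime → p ∣ Nat.card A → p ∈ π) :
    A ≤ Cfsg.piCore π H := by
  induction hn : Nat.card H using Nat.strong_induction_on generalizing H with
  | _ n ih =>
    subst hn
    rcases hA.lt_normal with rfl | ⟨K, hKn, hAK, hK⟩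
    · exact le_sSup ⟨inferInstance, hπ⟩
    haveI := hKn
    have hlt : Nat.card K < Nat.card H := lt_of_le_of_ne (Subgroup.card_le_card_group K)
      fun h => hK.ne (Subgroup.eq_top_of_card_eq K h)
    have h1 := ih _ hlt (hA.subgroupOf (K := K)) (fun p hp hd => hπ p hp (by
      rwa [Nat.card_congr (Subgroup.subgroupOfEquivOfLe hAK).toEquiv] at hd)) rfl
    haveI : (Cfsg.piCore π K).Characteristic := Subgroup.characteristic_iff_map_le.2 fun φ => by
      refine Subgroup.map_le_iff_le_comap.2 (sSup_le fun N hN => Subgroup.map_le_iff_le_comap.1 ?_)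
      refine le_sSup ⟨hN.1.map _ φ.surjective, fun p hp hd => hN.2 p hp ?_⟩
      rwa [Subgroup.card_map_of_injective φ.injective] at hd
    have h2 : (Cfsg.piCore π K).map K.subtype ≤ Cfsg.piCore π H := by
      refine le_sSup ⟨inferInstance, fun p hp hd => piCore_isPi (H := K) π p hp ?_⟩
      rwa [Subgroup.card_map_of_injective K.subtype_injective] at hd
    intro x hx
    exact h2 ⟨⟨x, hAK hx⟩, h1 hx, rfl⟩

/-- In a finite group G, every subnormal nilpotent subgroup lies in the Fitting subgroup F(G), and, for a set of primes π, every subnormal subgroup all of whose prime divisors lie in π lies in O_π(G). -/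
theorem result {G : Type*} [Group G] [Finite G] (A : Subgroup G) (hA : A.IsSubnormal) : (Group.IsNilpotent A → A ≤ Cfsg.fittingSubgroup G) ∧ ∀ π : Set ℕ, (∀ p : ℕ, p.Prime → p ∣ Nat.card A → p ∈ π) → A ≤ Cfsg.piCore π G := by
  exact ⟨fun h => CfsgLib.Cores.le_fittingSubgroup_of_isSubnormal hA h,
    fun π h => le_piCore_of_isSubnormal π hA h⟩

end Cfsg.Agent.S3743
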