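import Cfsg.Statements.S0867
import Cfsg.Agent.Lib.Char.Extension

set_option autoImplicit false
open Cfsg

namespace Cfsg.Agent.S0867

/-- Let N be a normal subgroup of the finite group G and ϑ an irreducible character of N of degree d, invariant under conjugation by G, such that the index of N is coprime to the product of d and the determinantal order of ϑ. Then there is an irreducible character χ of G restricting to ϑ whose determinantal order equals that of ϑ, and χ is the only irreducible character of G restricting to ϑ whose determinantal order is coprime to the index of N. -/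
theorem result {G : Type*} [Group G] [Finite G] (N : Subgroup G) [hN : N.Normal] (ϑ : N → ℂ) (hϑ : Cfsg.IsIrrCharacter N ϑ) (hinv : ∀ (g : G) (n : N), ϑ ⟨g * n * g⁻¹, hN.conj_mem (n : G) n.2 g⟩ = ϑ n) (d : ℕ) (hd : ϑ 1 = d) (hcop : Nat.Coprime N.index (Cfsg.detOrder ϑ * d)) : ∃ χ : G → ℂ, (Cfsg.IsIrrCharacter G χ ∧ (∀ n : N, χ n = ϑ n) ∧ Cfsg.detOrder χ = Cfsg.detOrder ϑ) ∧ ∀ χ' : G → ℂ, Cfsg.IsIrrCharacter G χ' → (∀ n : N, χ' n = ϑ n) → Nat.Coprime N.index (Cfsg.detOrder χ') → χ' = χ := by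
  have := Fintype.ofFinite G
  obtain ⟨k, ρ, hirr, hρ⟩ := id hϑ
  have hdet : Cfsg.detChar ϑ = CfsgLib.Char.linFun (CfsgLib.Char.detHom ρ) := by
    rw [← hρ]; exact CfsgLib.Char.detChar_eq_detHom ρ
  have hc1 : Nat.Coprime N.index (orderOf (Cfsg.detChar ϑ)) := hcop.coprime_dvd_right (Dvd.intro _ rfl)
  have hc2 : Nat.Coprime N.index d := hcop.coprime_dvd_right (Dvd.intro_left _ rfl)
  obtain ⟨f, ⟨hf, hord⟩, huniq⟩ := CfsgLib.Char.canonical_linear_extension N
    (lam := Cfsg.detChar ϑ) (hdet ▸ CfsgLib.Char.isCharacter_linFun _)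
    (CfsgLib.Char.det_invariant N (CfsgLib.Char.isCharacter_of_isIrr hϑ) hinv) hc1
  have hext := (CfsgLib.Char.extend_iff_det N hϑ hinv hd hc2).mpr
    ⟨_, (CfsgLib.Char.isCharacter_linFun f).1, (CfsgLib.Char.isCharacter_linFun f).2, hf⟩
  obtain ⟨χ, ⟨hχ, hχN, hχd⟩, huχ⟩ := CfsgLib.Char.existsUnique_ext_det N hϑ hd hc2 hext
    (CfsgLib.Char.isCharacter_linFun f) hf
  refine ⟨χ, ⟨hχ, hχN, ?_⟩, fun χ' hχ' hχ'N hcop' => huχ χ' ⟨hχ', hχ'N, ?_⟩⟩
  · rw [Cfsg.detOrder, hχd, CfsgLib.Char.orderOf_linFun, hord]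
    rfl
  · obtain ⟨k', σ, -, rfl⟩ := hχ'
    rw [Cfsg.detOrder, CfsgLib.Char.detChar_eq_detHom] at hcop'
    rw [CfsgLib.Char.detChar_eq_detHom]
    refine congrArg CfsgLib.Char.linFun (huniq _ (fun n => ?_)
      (CfsgLib.Char.orderOf_linFun (CfsgLib.Char.detHom σ) ▸ hcop'))
    let σN : Representation ℂ N (Fin k' → ℂ) := σ.comp N.subtype
    have : σN.character = ϑ := funext hχ'N
    rw [← this, CfsgLib.Char.detChar_eq]
    rfl

end Cfsg.Agent.S0867
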