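import Cfsg.Statements.S4740
import Mathlib
import Cfsg.Agent.Lib.CharBlocks.RankTrick

set_option autoImplicit false
open Cfsg

namespace Cfsg.Agent.S4740

/-- Let p be an odd prime, G a finite group of even order, x an involution of G and P a subgroup of G of order p ^ c such that no conjugate of x inverts a non-identity element of P. If p ^ a is the p-part of the order of C_G(x), then some irreducible character of G has degree divisible by p ^ (c - a). -/
theorem result {G : Type*} [Group G] [Finite G] (p : ℕ) [Fact p.Prime] (hp2 : p ≠ 2) (hG : Even (Nat.card G)) (x : G) (hx : orderOf x = 2) (P : Subgroup G) (c : ℕ) (hP : Nat.card ↥P = p ^ c) (hinv : ∀ g : G, IsConj x g → ∀ z ∈ P, z ≠ 1 → g * z * g⁻¹ ≠ z⁻¹) (a : ℕ) (ha : (Nat.card ↥(Subgroup.centralizer ({x} : Set G))).factorization p = a) : ∃ χ : Cfsg.IrrCharacter G, p ^ (c - a) ∣ Cfsg.charDegree (χ : G → ℂ) := by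
  classical
  have := Fintype.ofFinite G
  have hxx : x * x = 1 := by rw [← pow_two, ← hx, pow_orderOf_eq_one]
  have hxi : x⁻¹ = x := inv_eq_of_mul_eq_one_right hxx
  have h := CfsgLib.CharBlocks.exists_pow_dvd_of_not_isConj (Fact.out : p.Prime) P hP x x
    (by rw [hxi]) (fun z hz hz1 g hgz => ?_)
  · rwa [ha] at h
  · obtain ⟨u, hu⟩ := isConj_iff.mp hgz
    have hs : (u * (g * x * g⁻¹) * u⁻¹) * (u * (g * x * g⁻¹) * u⁻¹) = 1 := by
      calc _ = u * (g * (x * x) * g⁻¹) * u⁻¹ := by group
        _ = 1 := by rw [hxx]; group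
    have ht : (u * x * u⁻¹) * (u * x * u⁻¹) = 1 := by
      calc _ = u * (x * x) * u⁻¹ := by group
        _ = 1 := by rw [hxx]; group
    have hzst : z = (u * (g * x * g⁻¹) * u⁻¹) * (u * x * u⁻¹) := by rw [← hu]; group
    generalize hS : u * (g * x * g⁻¹) * u⁻¹ = S at hs hzst
    generalize hT : u * x * u⁻¹ = T at ht hzst
    refine hinv S (hS ▸ isConj_iff.mpr ⟨u * g, by group⟩) z hz hz1 ?_
    rw [hzst, mul_inv_rev, inv_eq_of_mul_eq_one_right hs, inv_eq_of_mul_eq_one_right ht,
      ← mul_assoc, hs, one_mul]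

end Cfsg.Agent.S4740
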