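import Cfsg.Statements.S4744
import Cfsg.Agent.S4740
import Cfsg.Agent.Lib.CharBlocks.InvolSylow
import Cfsg.Agent.Lib.CharBlocks.Degree

set_option autoImplicit false
open Cfsg

namespace Cfsg.Agent.S4744

open CfsgLib.CharBlocks

/-- With no defect-zero character, every involution inverts some nontrivial `p`-element. -/
theorem exists_inverted {G : Type*} [Group G] [Finite G] {p : ℕ} [Fact p.Prime] (hp2 : p ≠ 2)
    (hG : Even (Nat.card G))
    (hodd : ∀ t z : G, orderOf t = 2 → (∃ k, orderOf z = p ^ k) → t * z = z * t → z = 1)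
    (hno : ¬ ∃ χ : Cfsg.IrrCharacter G,
      (Cfsg.charDegree (χ : G → ℂ)).factorization p = (Nat.card G).factorization p)
    {g : G} (hg : orderOf g = 2) :
    ∃ P : Sylow p G, InvolSylow.Inverts g P := by
  classical
  by_contra hcon
  have hC : (Nat.card (Subgroup.centralizer ({g} : Set G))).factorization p = 0 := by
    refine Nat.factorization_eq_zero_of_not_dvd fun h => ?_
    obtain ⟨w, hw⟩ := exists_prime_orderOf_dvd_card' p h
    rw [← Subgroup.orderOf_coe] at hw
    have := hodd g w hg ⟨1, by rw [hw, pow_one]⟩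
      (Subgroup.mem_centralizer_singleton_iff.mp w.2).symm
    rw [this, orderOf_one] at hw
    exact (Fact.out : p.Prime).ne_one hw.symm
  obtain ⟨P⟩ : Nonempty (Sylow p G) := inferInstance
  obtain ⟨χ, hχ⟩ := Cfsg.Agent.S4740.result p hp2 hG g hg (P : Subgroup G) _ P.card_eq_multiplicity
    (fun t ht z hz hz1 heq => hcon (by
      obtain ⟨c, rfl⟩ := isConj_iff.mp ht
      obtain ⟨k, hk⟩ := P.2 ⟨z, hz⟩
      obtain ⟨i, -, hi⟩ := (Nat.dvd_prime_pow (Fact.out : p.Prime)).mp
        (orderOf_dvd_of_pow_eq_one (congrArg Subtype.val hk))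
      refine InvolSylow.exists_inverted_sylow hp2 hodd hg (z := c⁻¹ * z * c)
        (fun h => hz1 ?_) ⟨i, ?_⟩ ?_
      · calc z = c * (c⁻¹ * z * c) * c⁻¹ := by group
          _ = 1 := by rw [h]; group
      · rw [← hi, show c⁻¹ * z * c = c⁻¹ * z * c⁻¹⁻¹ by rw [inv_inv]]
        exact (SemiconjBy.conj_mk c⁻¹ z).orderOf_eq.symm
      · calc g * (c⁻¹ * z * c) * g⁻¹ = c⁻¹ * (c * g * c⁻¹ * z * (c * g * c⁻¹)⁻¹) * c := by group
          _ = (c⁻¹ * z * c)⁻¹ := by rw [heq]; group)) 0 hC
  rw [Nat.sub_zero] at hχ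
  refine hno ⟨χ, le_antisymm ?_ ?_⟩
  · exact (Nat.factorization_le_iff_dvd (CfsgLib.CharBlocks.charDegree_pos χ.2).ne' Nat.card_pos.ne').mpr
      (CfsgLib.CharBlocks.charDegree_dvd_card χ.2) p
  · exact ((Fact.out : p.Prime).pow_dvd_iff_le_factorization
      (CfsgLib.CharBlocks.charDegree_pos χ.2).ne').mp hχ

theorem sylow_comm {G : Type*} [Group G] [Finite G] {p : ℕ} [Fact p.Prime] {g : G} {P : Sylow p G}
    (h : InvolSylow.Inverts g P) (Q : Sylow p G) : IsMulCommutative ↥(Q : Subgroup G) := by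
  obtain ⟨c, hc⟩ := MulAction.exists_smul_eq G P Q
  refine ⟨⟨fun a b => ?_⟩⟩
  have e : ∀ a : (Q : Subgroup G), c⁻¹ * a * c ∈ (P : Subgroup G) := fun a => by
    have ha : (a : G) ∈ ((c • P : Sylow p G) : Subgroup G) := by rw [hc]; exact a.2
    simpa [Sylow.coe_subgroup_smul, Subgroup.mem_pointwise_smul_iff_inv_smul_mem, MulAut.smul_def]
      using ha
  apply Subtype.ext
  calc (a : G) * b = c * ((c⁻¹ * a * c) * (c⁻¹ * b * c)) * c⁻¹ := by group
    _ = c * ((c⁻¹ * b * c) * (c⁻¹ * a * c)) * c⁻¹ := by rw [h.comm _ (e a) _ (e b)]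
    _ = b * a := by group

/-- Let p be an odd prime and G a finite group of even order divisible by p in which the centralizer of every non-identity p-element has odd order. Then either G has an irreducible character of p-defect zero, or the normalizer of every Sylow p-subgroup P of G has even order and P is abelian. -/
theorem result {G : Type*} [Group G] [Finite G] (p : ℕ) [Fact p.Prime] (hp2 : p ≠ 2) (hpG : p ∣ Nat.card G) (h2G : 2 ∣ Nat.card G) (hC : ∀ g : G, g ≠ 1 → (∃ k : ℕ, orderOf g = p ^ k) → Odd (Nat.card ↥(Subgroup.centralizer ({g} : Set G)))) : (∃ χ : Cfsg.IrrCharacter G, (Cfsg.charDegree (χ : G → ℂ)).factorization p = (Nat.card G).factorization p) ∨ ∀ P : Sylow p G, Even (Nat.card ↥(Subgroup.normalizer ((P : Subgroup G) : Set G))) ∧ IsMulCommutative ↥(P : Subgroup G) := by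
  classical
  by_cases hno : ∃ χ : Cfsg.IrrCharacter G,
      (Cfsg.charDegree (χ : G → ℂ)).factorization p = (Nat.card G).factorization p
  · exact Or.inl hno
  refine Or.inr fun Q => ?_
  have hodd : ∀ t z : G, orderOf t = 2 → (∃ k, orderOf z = p ^ k) → t * z = z * t → z = 1 := by
    intro t z ht hz hcom
    by_contra hz1
    have h := orderOf_dvd_natCard (⟨t, Subgroup.mem_centralizer_singleton_iff.mpr hcom⟩ :
      Subgroup.centralizer ({z} : Set G))
    rw [Subgroup.orderOf_mk, ht] at h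
    exact Nat.not_even_iff_odd.mpr (hC z hz1 hz) (even_iff_two_dvd.mpr h)
  obtain ⟨g, hg⟩ := exists_prime_orderOf_dvd_card' 2 h2G
  obtain ⟨P, hP⟩ := exists_inverted hp2 (even_iff_two_dvd.mpr h2G) hodd hno hg
  refine ⟨?_, sylow_comm hP Q⟩
  rw [← Subgroup.index_mul_card (⊥ : Subgroup ↥(Subgroup.normalizer ((Q : Subgroup G) : Set G))),
    Subgroup.card_bot, mul_one, Subgroup.index_bot, even_iff_two_dvd]
  obtain ⟨c, hc⟩ := MulAction.exists_smul_eq G P Q
  have hmem : c * g * c⁻¹ ∈ Subgroup.normalizer ((Q : Subgroup G) : Set G) := by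
    refine (InvolSylow.Inverts.mem_normalizer (Q := (Q : Subgroup G)) fun z hz => ?_)
    have hz' : c⁻¹ * z * c ∈ (P : Subgroup G) := by
      rw [← hc] at hz
      simpa [Sylow.coe_subgroup_smul, Subgroup.mem_pointwise_smul_iff_inv_smul_mem, MulAut.smul_def]
        using hz
    calc c * g * c⁻¹ * z * (c * g * c⁻¹)⁻¹ = c * (g * (c⁻¹ * z * c) * g⁻¹) * c⁻¹ := by group
      _ = z⁻¹ := by rw [hP _ hz']; group
  have := orderOf_dvd_natCard (⟨_, hmem⟩ : Subgroup.normalizer ((Q : Subgroup G) : Set G))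
  rwa [Subgroup.orderOf_mk, (SemiconjBy.conj_mk c g).orderOf_eq.symm.trans hg] at this

end Cfsg.Agent.S4744
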