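import Cfsg.Statements.S4914
import Cfsg.Agent.Lib.CharBlocks.RelGlauberman
import Cfsg.Agent.Lib.Blocks.Heights
import Cfsg.Agent.Lib.CharNormal.ConjAut

set_option autoImplicit false
open Cfsg

namespace Cfsg.Agent.S4914


open CfsgLib.CharNormal CfsgLib.CharBlocks.RelGlauberman
/-- Let P and K be subgroups of a finite group G with P a p-group normalizing K, and suppose K has a normal Sylow p-subgroup Q. Let C be the subgroup of those k ∈ K whose commutator with every element of P lies in Q (so that C/Q is the fixed-point subgroup of P on K/Q). Then there is a bijection f from the P-invariant irreducible complex characters of K onto the P-invariant irreducible complex characters of C such that, for every P-invariant irreducible character χ of K, the multiplicity of f(χ) in the restriction of χ to C is a natural number congruent to 1 or to −1 modulo p, every other P-invariant irreducible character of C occurs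 in that restriction with multiplicity divisible by p, and the degrees of χ and f(χ) are congruent modulo p up to sign. -/
theorem result {G : Type*} [Group G] [Finite G] (p : ℕ) [Fact p.Prime] (P K Q C : Subgroup G) (hP : IsPGroup p ↥P) (hPK : P ≤ Subgroup.normalizer (K : Set G)) (hQK : Q ≤ K) (hQn : ∀ k ∈ K, ∀ q ∈ Q, k * q * k⁻¹ ∈ Q) (hQp : ∃ a : ℕ, Nat.card ↥Q = p ^ a) (hQsyl : ¬ p ∣ Q.relIndex K) (hCK : C ≤ K) (hC : ∀ k : G, k ∈ C ↔ (k ∈ K ∧ ∀ x ∈ P, x * k * x⁻¹ * k⁻¹ ∈ Q)) : ∃ f : {χ : Cfsg.IrrCharacter ↥K // (∀ x ∈ P, ∀ k k' : ↥K, (k' : G) = x * (k : G) * x⁻¹ → (χ : ↥K → ℂ) k' = (χ : ↥K → ℂ) k)} → {ξ : Cfsg.IrrCharacter ↥C // (∀ x ∈ P, ∀ k k' : ↥C, (k' : G) = x * (k : G) * x⁻¹ → (ξ : ↥C → ℂ) k' = (ξ : ↥C → ℂ) k)}, Function.Bijective f ∧ ∀ χ, (∀ ξ : {ξ : Cfsg.IrrCharacter ↥C // (∀ x ∈ P, ∀ k k' : ↥C, (k' : G) = x * (k : G) * x⁻¹ → (ξ : ↥C → ℂ) k' = (ξ : ↥C → ℂ) k)}, ∃ m : ℕ, (Nat.card ↥C : ℂ)⁻¹ * ∑ᶠ c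 : ↥C, (χ.1 : ↥K → ℂ) (Subgroup.inclusion hCK c) * (starRingEnd ℂ) ((ξ.1 : ↥C → ℂ) c) = (m : ℂ) ∧ (ξ = f χ → ((m : ZMod p) = 1 ∨ (m : ZMod p) = -1)) ∧ (ξ ≠ f χ → p ∣ m)) ∧ ((Cfsg.charDegree ((f χ).1 : ↥C → ℂ) : ZMod p) = (Cfsg.charDegree (χ.1 : ↥K → ℂ) : ZMod p) ∨ (Cfsg.charDegree ((f χ).1 : ↥C → ℂ) : ZMod p) = -(Cfsg.charDegree (χ.1 : ↥K → ℂ) : ZMod p)) := by

  classical
  have hp : Fact p.Prime := inferInstance
  have := Fintype.ofFinite K
  have := Fintype.ofFinite C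
  have := Fintype.ofFinite (C.subgroupOf K)
  have hnorm : ∀ s ∈ P, ∀ g ∈ K, s * g * s⁻¹ ∈ K := fun s hs g hg =>
    (Subgroup.mem_set_normalizer_iff.mp (hPK hs) g).mp hg
  let φ := conjAut K P hnorm
  have hQ'n : (Q.subgroupOf K).Normal := ⟨fun q hq k => hQn k k.2 q hq⟩
  obtain ⟨a, ha⟩ := hQp
  have hQc : ∀ x ∈ P, ∀ q ∈ Q, x * q * x⁻¹ ∈ Q := fun x hx q hq => by
    have hq' : q ∈ C := by
      refine (hC q).mpr ⟨hQK hq, fun z hz => ?_⟩
      -- the normal Sylow subgroup is invariant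
      have h1 : z * q * z⁻¹ ∈ K := hnorm z hz q (hQK hq)
      refine Q.mul_mem ?_ (Q.inv_mem hq)
      have h2 : ((⟨z * q * z⁻¹, h1⟩ : K) : K ⧸ Q.subgroupOf K) = 1 := by
        rw [← orderOf_eq_one_iff]
        refine Nat.eq_one_of_dvd_coprimes
          ((Fact.out : p.Prime).coprime_iff_not_dvd.mpr hQsyl |>.pow_left a) ?_ (orderOf_dvd_natCard _)
        refine (orderOf_map_dvd (QuotientGroup.mk' (Q.subgroupOf K)) _).trans ?_
        rw [Subgroup.orderOf_mk,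
          show orderOf (z * q * z⁻¹) = orderOf q from MulEquiv.orderOf_eq (MulAut.conj z) q,
          ← ha, ← Subgroup.orderOf_mk q hq]
        exact orderOf_dvd_natCard _
      exact (QuotientGroup.eq_one_iff (N := Q.subgroupOf K) _).mp h2
    have h1 := ((hC q).mp hq').2 x hx
    simpa using Q.mul_mem h1 hq
  have hrel : RelFix p φ (Q.subgroupOf K) (C.subgroupOf K) :=
    { pgroup := hP
      pQ := (IsPGroup.of_card ha : IsPGroup p Q).comap_subtype
      index := hQsyl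
      stable := fun s q hq => hQc s s.2 q hq
      mem_iff := fun k => by
        rw [Subgroup.mem_subgroupOf, hC]
        exact ⟨fun h s => h.2 s s.2, fun h => ⟨k.2, fun x hx => h ⟨x, hx⟩⟩⟩ }
  obtain ⟨hexC, hexK, hmod⟩ := correspondence hrel
  let e : C.subgroupOf K ≃* C := Subgroup.subgroupOfEquivOfLe hCK
  have hinvK : ∀ χ : Cfsg.IrrCharacter K, IsInvariant φ χ ↔
      ∀ x ∈ P, ∀ k k' : K, (k' : G) = x * (k : G) * x⁻¹ → (χ : K → ℂ) k' = (χ : K → ℂ) k :=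
    fun χ => forall_conjAut_iff K P hnorm _
  let toC : Cfsg.IrrCharacter (C.subgroupOf K) → Cfsg.IrrCharacter C := fun β =>
    ⟨(β : C.subgroupOf K → ℂ) ∘ e.symm, isIrr_comp_mulEquiv β.2 e.symm⟩
  let ofC : Cfsg.IrrCharacter C → Cfsg.IrrCharacter (C.subgroupOf K) := fun ξ =>
    ⟨(ξ : C → ℂ) ∘ e, isIrr_comp_mulEquiv ξ.2 e⟩
  have hto : ∀ β, ofC (toC β) = β := fun β => Subtype.ext (funext fun c => by simp [ofC, toC])
  have hof : ∀ ξ, toC (ofC ξ) = ξ := fun ξ => Subtype.ext (funext fun c => by simp [ofC, toC])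
  have hinvC : ∀ ξ : Cfsg.IrrCharacter C,
      InvOn φ (C.subgroupOf K) (ofC ξ : C.subgroupOf K → ℂ) ↔
      ∀ x ∈ P, ∀ k k' : C, (k' : G) = x * (k : G) * x⁻¹ → (ξ : C → ℂ) k' = (ξ : C → ℂ) k := by
    intro ξ
    constructor
    · intro h x hx k k' hk
      have h1 := h ⟨x, hx⟩ (e.symm k) (e.symm k') (Subtype.ext hk)
      simpa [ofC] using h1
    · intro h s c c' hc
      exact h s s.2 (e c) (e c') (congrArg Subtype.val hc)
  choose g hg hguniq using hexC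
  have hginv : ∀ (χ : Cfsg.IrrCharacter K) (h : IsInvariant φ χ),
      InvOn φ (C.subgroupOf K) (ofC (toC (g χ h)) : C.subgroupOf K → ℂ) := fun χ h => by
    rw [hto]; exact (hg χ h).1
  refine ⟨fun χ => ⟨toC (g χ.1 ((hinvK χ.1).mpr χ.2)), (hinvC _).mp (hginv _ _)⟩,
    ⟨fun χ χ' he => ?_, fun ξ => ?_⟩, fun χ => ?_⟩
  · have h1 : g χ.1 ((hinvK χ.1).mpr χ.2) = g χ'.1 ((hinvK χ'.1).mpr χ'.2) := by
      have h2 := congrArg (fun z => ofC z) (congrArg Subtype.val he)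
      simpa only [hto] using h2
    have h3 := hg χ'.1 ((hinvK χ'.1).mpr χ'.2)
    rw [← h1] at h3
    exact Subtype.ext ((hexK _ (hg χ.1 _).1).unique ⟨(hinvK χ.1).mpr χ.2, (hg χ.1 _).2⟩
      ⟨(hinvK χ'.1).mpr χ'.2, h3.2⟩)
  · obtain ⟨χ, ⟨hχ, hR⟩, -⟩ := hexK (ofC ξ.1) ((hinvC ξ.1).mpr ξ.2)
    refine ⟨⟨χ, (hinvK χ).mp hχ⟩, Subtype.ext ?_⟩
    show toC (g χ _) = ξ.1
    rw [← hguniq χ hχ (ofC ξ.1) ⟨(hinvC ξ.1).mpr ξ.2, hR⟩, hof]
  · have hχ := (hinvK χ.1).mpr χ.2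
    refine ⟨fun ξ => ⟨mult (C.subgroupOf K).subtype χ.1 (ofC ξ.1), ?_, ?_, ?_⟩, ?_⟩
    · rw [← classInner_eq_mult, finsum_eq_sum_of_fintype, ← CfsgLib.Char.classInner_def]
      exact (CfsgLib.Char.classInner_comp_mulEquiv e _ _).symm
    · intro hξ
      have h1 : ofC ξ.1 = g χ.1 hχ := by rw [hξ]; exact hto _
      rw [h1]
      rcases hmod χ.1 _ hχ (hg χ.1 hχ).1 (hg χ.1 hχ).2 with h | h
      · left
        simpa using (ZMod.intCast_eq_intCast_iff _ 1 p).mpr h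
      · right
        simpa using (ZMod.intCast_eq_intCast_iff _ (-1) p).mpr h
    · intro hne
      by_contra hd
      apply hne
      refine Subtype.ext ?_
      show ξ.1 = toC (g χ.1 hχ)
      rw [← hguniq χ.1 hχ (ofC ξ.1) ⟨(hinvC ξ.1).mpr ξ.2, hd⟩, hof]
    · have hd := CfsgLib.Blocks.charDegree_eq (CfsgLib.Char.isCharacter_of_isIrr χ.1.2)
      have he := CfsgLib.Blocks.charDegree_eq (CfsgLib.Char.isCharacter_of_isIrr (toC (g χ.1 hχ)).2)
      have he' : (g χ.1 hχ : C.subgroupOf K → ℂ) 1 =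
          (charDegree ((toC (g χ.1 hχ)) : C → ℂ) : ℂ) := by
        rw [← he]; simp [toC]
      have h1 := degree_congr hrel hχ (hg χ.1 hχ).1 (hg χ.1 hχ).2 hd he'
      have h2 := (ZMod.intCast_eq_intCast_iff_dvd_sub _ _ p).mpr h1
      push_cast at h2
      rcases hmod χ.1 _ hχ (hg χ.1 hχ).1 (hg χ.1 hχ).2 with h | h
      · left
        have h3 := (ZMod.intCast_eq_intCast_iff _ _ p).mpr h
        push_cast at h3
        rw [h3, one_mul] at h2
        exact h2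
      · right
        have h3 := (ZMod.intCast_eq_intCast_iff _ _ p).mpr h
        push_cast at h3
        rw [h3, neg_one_mul] at h2
        show (charDegree ((toC (g χ.1 hχ)) : C → ℂ) : ZMod p) = -(charDegree (χ.1 : K → ℂ) : ZMod p)
        rw [← h2, neg_neg]

end Cfsg.Agent.S4914
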