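import Cfsg.Statements.S4604
import Cfsg.Agent.Lib.Blocks.CharMod
import Cfsg.Agent.Lib.Blocks.GaloisInv
import Cfsg.Agent.Lib.Char.PiSection
import Cfsg.Agent.Lib.Modular.Lift

set_option autoImplicit false
open Cfsg

namespace Cfsg.Agent.S4604

open Cfsg CfsgLib.Char CfsgLib.Blocks in
theorem char_pow_congr {G : Type*} [Group G] [Finite G] {p : ℕ} [Fact p.Prime] {χ : G → ℂ}
    (hχ : IsCharacter G χ) (g : G) (k : ℕ) :
    ∃ γ : AlgInt, χ g ^ (p ^ k) - χ (g ^ (p ^ k)) = (p : ℂ) * (γ : ℂ) := by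
  obtain ⟨d, ρ, rfl⟩ := hχ
  obtain ⟨z, hz, hzk⟩ := exists_roots_char_pow ρ g
  have hzi : ∀ i, z i ∈ AlgInt := fun i =>
    IsIntegral.of_pow (orderOf_pos g) (by rw [hz i]; exact isIntegral_one)
  let I : Ideal AlgInt := Ideal.span {(p : AlgInt)}
  have : CharP (AlgInt ⧸ I) p := CharP.quotient AlgInt p (by
    rw [mem_nonunits_iff]
    rintro h
    obtain ⟨u, hu⟩ := h.exists_right_inv
    have h1 : IsIntegral ℤ (((p : ℚ)⁻¹ : ℚ) : ℂ) := by
      have hu' := congrArg (fun a : AlgInt => (a : ℂ)) hu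
      push_cast at hu'
      have e : (((p : ℚ)⁻¹ : ℚ) : ℂ) = (u : ℂ) := by
        push_cast
        exact (eq_inv_of_mul_eq_one_right hu').symm
      rw [e]
      exact u.2
    obtain ⟨n, hn⟩ := (isIntegral_rat_iff _).mp h1
    have hp := (Fact.out : p.Prime)
    have h2 : (n : ℚ) * p = 1 := by rw [hn]; exact inv_mul_cancel₀ (by exact_mod_cast hp.ne_zero)
    have h3 : n * (p : ℤ) = 1 := by exact_mod_cast h2
    exact hp.ne_one (by exact_mod_cast Int.eq_one_of_mul_eq_one_left (Int.natCast_nonneg p) h3))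
  have key : Ideal.Quotient.mk I ((∑ i, (⟨z i, hzi i⟩ : AlgInt)) ^ p ^ k) =
      Ideal.Quotient.mk I (∑ i, (⟨z i, hzi i⟩ : AlgInt) ^ p ^ k) := by
    simp only [map_pow, map_sum, sum_pow_char_pow]
  obtain ⟨γ, hγ⟩ := Ideal.mem_span_singleton'.mp (Ideal.Quotient.eq.mp key)
  refine ⟨γ, ?_⟩
  have h1 := hzk 1
  simp only [pow_one] at h1
  rw [hzk, h1]
  have h := congrArg (fun a : AlgInt => (a : ℂ)) hγ
  push_cast at h
  linear_combination -h

/-- Let G be a finite group, p a prime and p^a the p-part of the order of G. Let x, y ∈ G and let x′, y′ be their p-regular parts: x′ has order prime to p, commutes with x·x′⁻¹, and x·x′⁻¹ has p-power order (likewise for y). Then x′ and y′ are conjugate in G if and only if for every irreducible character χ of G the algebraic integer χ(x)^(p^a) − χ(y)^(p^a) is p times an algebraic integer. -/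
theorem result {G : Type*} [Group G] [Finite G] (p : ℕ) [Fact p.Prime] (x y x' y' : G)
    (hx : (∃ k : ℕ, orderOf (x * x'⁻¹) = p ^ k) ∧ Commute (x * x'⁻¹) x' ∧ ¬ p ∣ orderOf x')
    (hy : (∃ k : ℕ, orderOf (y * y'⁻¹) = p ^ k) ∧ Commute (y * y'⁻¹) y' ∧ ¬ p ∣ orderOf y') :
    IsConj x' y' ↔ ∀ χ : Cfsg.IrrCharacter G, ∃ γ : Cfsg.AlgInt,
      (χ : G → ℂ) x ^ (p ^ (Nat.card G).factorization p) - (χ : G → ℂ) y ^ (p ^ (Nat.card G).factorization p) = (p : ℂ) * (γ : ℂ) := by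
  classical
  have := Fintype.ofFinite G
  have hp : p.Prime := Fact.out
  set a := (Nat.card G).factorization p with ha
  set m := Nat.card G / p ^ a with hm
  have hcard : Nat.card G = p ^ a * m := (Nat.ordProj_mul_ordCompl_eq_self _ p).symm
  have hpm : ¬ p ∣ m := Nat.not_dvd_ordCompl hp Nat.card_pos.ne'
  have hcop : Nat.Coprime (p ^ a) m := (hp.coprime_iff_not_dvd.mpr hpm).pow_left _
  have hq : ∀ u u' : G, ((∃ k : ℕ, orderOf (u * u'⁻¹) = p ^ k) ∧ Commute (u * u'⁻¹) u' ∧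
      ¬ p ∣ orderOf u') → u ^ p ^ a = u' ^ p ^ a ∧ u' ^ m = 1 := by
    rintro u u' ⟨⟨k, hk⟩, hc, hu'⟩
    refine ⟨?_, orderOf_dvd_iff_pow_eq_one.mp
      (Nat.Coprime.dvd_of_dvd_mul_left ((hp.coprime_iff_not_dvd.mpr hu').pow_left a).symm
        (hcard ▸ orderOf_dvd_natCard u'))⟩
    have h1 : (u * u'⁻¹) ^ p ^ a = 1 := by
      rw [← orderOf_dvd_iff_pow_eq_one, hk]
      refine pow_dvd_pow p ((hp.pow_dvd_iff_le_factorization Nat.card_pos.ne').mp ?_)
      rw [← hk]; exact orderOf_dvd_natCard _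
    calc u ^ p ^ a = (u * u'⁻¹ * u') ^ p ^ a := by rw [inv_mul_cancel_right]
      _ = u' ^ p ^ a := by rw [hc.mul_pow, h1, one_mul]
  obtain ⟨hxq, hxm⟩ := hq x x' hx
  obtain ⟨hyq, hym⟩ := hq y y' hy
  constructor
  · intro hconj χ
    obtain ⟨γ, hγ⟩ := char_pow_congr (p := p) (CfsgLib.Char.isCharacter_of_isIrr χ.2) x a
    obtain ⟨δ, hδ⟩ := char_pow_congr (p := p) (CfsgLib.Char.isCharacter_of_isIrr χ.2) y a
    have h1 : (χ : G → ℂ) (x ^ p ^ a) = (χ : G → ℂ) (y ^ p ^ a) := by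
      rw [hxq, hyq]
      obtain ⟨c, hc⟩ := isConj_iff.mp hconj
      rw [← hc, conj_pow]
      exact (CfsgLib.Char.isClassFunction_of_isIrr χ.2 _ _).symm
    exact ⟨γ - δ, by push_cast; linear_combination hγ - hδ + h1⟩
  · intro h
    obtain ⟨M, hM⟩ := CfsgLib.Blocks.exists_isPModular hp
    have := hM.2.1
    set u := x' ^ p ^ a with hu
    set v := y' ^ p ^ a with hv
    suffices huv : IsConj u v by
      obtain ⟨c, hc⟩ := isConj_iff.mp huv
      refine isConj_iff.mpr ⟨c, ?_⟩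
      have e1 : (c * x' * c⁻¹) ^ p ^ a = y' ^ p ^ a := by rw [conj_pow]; exact hc
      have hb : (c * x' * c⁻¹) ^ m = 1 := by rw [conj_pow, hxm, mul_one, mul_inv_cancel]
      obtain ⟨l, hl⟩ := exists_pow_eq_self_of_coprime
        (hcop.coprime_dvd_right (orderOf_dvd_of_pow_eq_one hb))
      obtain ⟨l', hl'⟩ := exists_pow_eq_self_of_coprime
        (hcop.coprime_dvd_right (orderOf_dvd_of_pow_eq_one hym))
      have hcomm : Commute (c * x' * c⁻¹) y' := by
        rw [← hl, ← hl', e1]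
        exact ((Commute.refl (y' ^ p ^ a)).pow_left l).pow_right l'
      refine mul_inv_eq_one.mp ?_
      have h1 : (c * x' * c⁻¹ * y'⁻¹) ^ p ^ a = 1 := by
        rw [hcomm.inv_right.mul_pow, e1, inv_pow, mul_inv_cancel]
      have h2 : (c * x' * c⁻¹ * y'⁻¹) ^ m = 1 := by
        rw [hcomm.inv_right.mul_pow, hb, inv_pow, hym, inv_one, mul_one]
      have h3 := pow_gcd_eq_one.mpr ⟨h1, h2⟩
      rwa [hcop.gcd_eq_one, pow_one] at h3
    have hu1 : u ^ m = 1 := by rw [hu, ← pow_mul, mul_comm, pow_mul, hxm, one_pow]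
    have hv1 : v ^ m = 1 := by rw [hv, ← pow_mul, mul_comm, pow_mul, hym, one_pow]
    by_contra hne
    set f : G → ℂ := fun g => if IsConj (CfsgLib.Char.piPart (p ^ a) m g) u then (m : ℂ) else 0 with hf
    have hcf : Cfsg.IsClassFunction G f := fun g c => by
      simp only [hf, CfsgLib.Char.piPart_conj]
      have hc' : IsConj (CfsgLib.Char.piPart (p ^ a) m g) (c * CfsgLib.Char.piPart (p ^ a) m g * c⁻¹) :=
        isConj_iff.mpr ⟨c, rfl⟩
      by_cases hg : IsConj (CfsgLib.Char.piPart (p ^ a) m g) u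
      · rw [if_pos hg, if_pos (hc'.symm.trans hg)]
      · rw [if_neg hg, if_neg (fun h => hg (hc'.trans h))]
    have hsum := CfsgLib.Char.classFun_eq_sum hcf
    have hfu : f u = (m : ℂ) := by
      simp only [hf, CfsgLib.Char.piPart_eq_self hcop hu1]; exact if_pos (IsConj.refl u)
    have hfv : f v = 0 := by
      simp only [hf, CfsgLib.Char.piPart_eq_self hcop hv1]; exact if_neg (fun h => hne h.symm)
    let K : Cfsg.IrrCharacter G → CfsgLib.Blocks.locRing M := fun χ =>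
      ⟨_, CfsgLib.Blocks.algInt_le_locRing M
        (CfsgLib.Char.isIntegral_classInner_section hcard hcop u (CfsgLib.Char.isCharacter_of_isIrr χ.2))⟩
    have hfg : ∀ g : G, f g = ((∑ χ, K χ * CfsgLib.Blocks.cvalR M
        (CfsgLib.Char.isCharacter_of_isIrr χ.2) g : CfsgLib.Blocks.locRing M) : ℂ) := fun g => by
      rw [hsum]
      push_cast [Finset.sum_apply, Pi.smul_apply, smul_eq_mul, CfsgLib.Blocks.coe_cvalR]
      rfl
    have hres : ∀ χ : Cfsg.IrrCharacter G, CfsgLib.Blocks.cval M χ u = CfsgLib.Blocks.cval M χ v := by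
      intro χ
      obtain ⟨γ, hγ⟩ := h χ
      rw [← hxq, ← hyq, CfsgLib.Blocks.cval_pow hM, CfsgLib.Blocks.cval_pow hM]
      simp only [CfsgLib.Blocks.cval, ← map_pow]
      rw [← sub_eq_zero, ← map_sub]
      have e : CfsgLib.Blocks.cvalR M (CfsgLib.Char.isCharacter_of_isIrr χ.2) x ^ p ^ a -
          CfsgLib.Blocks.cvalR M (CfsgLib.Char.isCharacter_of_isIrr χ.2) y ^ p ^ a =
          (p : CfsgLib.Blocks.locRing M) * CfsgLib.Blocks.ofInt M γ := by
        apply Subtype.ext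
        push_cast [CfsgLib.Blocks.coe_cvalR, CfsgLib.Blocks.coe_ofInt]
        exact hγ
      rw [e, map_mul, (CfsgLib.Blocks.res_natCast_eq_zero_iff M hM p).mpr dvd_rfl, zero_mul]
    have e1 : (∑ χ, K χ * CfsgLib.Blocks.cvalR M (CfsgLib.Char.isCharacter_of_isIrr χ.2) u :
        CfsgLib.Blocks.locRing M) = (m : CfsgLib.Blocks.locRing M) :=
      Subtype.ext (((hfg u).symm.trans hfu).trans (by push_cast; rfl))
    have e2 : (∑ χ, K χ * CfsgLib.Blocks.cvalR M (CfsgLib.Char.isCharacter_of_isIrr χ.2) v :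
        CfsgLib.Blocks.locRing M) = 0 :=
      Subtype.ext (((hfg v).symm.trans hfv).trans (by push_cast; rfl))
    refine hpm ((CfsgLib.Blocks.res_natCast_eq_zero_iff M hM m).mp ?_)
    rw [← e1, ← map_zero (CfsgLib.Blocks.res M), ← e2, map_sum, map_sum]
    simp only [map_mul]
    exact Finset.sum_congr rfl fun χ _ => congrArg _ (hres χ)

end Cfsg.Agent.S4604
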