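import Cfsg.Statements.S0247
import Mathlib
import Cfsg.Agent.Lib.Classical.SpPerm
import Cfsg.Agent.Lib.Classical.SpOrder
-- import your own Cfsg.Agent.* helpers here

set_option autoImplicit false
open Cfsg

namespace Cfsg.Agent.S0247

/-- Sp_4(2) is isomorphic to the symmetric group S_6. -/
theorem result {F : Type*} [Field F] [Fintype F] (hF : Fintype.card F = 2) : Nonempty (Matrix.symplecticGroup (Fin 2) F ≃* Equiv.Perm (Fin 6)) := by
  classical
  haveI : CharP F 2 := by
    obtain ⟨p, hp⟩ := CharP.exists F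
    obtain ⟨k, hpp, hk⟩ := FiniteField.card F p
    rw [hF] at hk
    obtain rfl : p = 2 := (Nat.prime_dvd_prime_iff_eq hpp Nat.prime_two).1 (hk ▸ dvd_pow_self p k.pos.ne')
    exact hp
  obtain ⟨f, hf⟩ := CfsgLib.Classical.exists_perm_sp (F := F) 3 le_rfl
  refine ⟨(MulEquiv.ofBijective f ((Nat.bijective_iff_injective_and_card f).2 ⟨hf, ?_⟩)).symm⟩
  rw [CfsgLib.Classical.card_sp, Nat.card_perm, Nat.card_eq_fintype_card, Fintype.card_fin, hF]
  simp [Finset.prod_range_succ, Fin.prod_univ_two, Nat.factorial]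

end Cfsg.Agent.S0247
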