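import Cfsg.Statements.S1153
import Cfsg.Agent.Lib.Chev.Twist.G2Points

set_option autoImplicit false
open Cfsg

namespace Cfsg.Agent.S1153

open CfsgLib.Chev

/-- In the small Ree group ²G₂(q), q = 3^(2m+1), realised as G¹ inside the Chevalley group G₂ over the field with q elements, with `B¹ = G¹ ∩ B`: in the action of `G¹` on the cosets of `B¹`, the joint stabiliser of any three distinct cosets has order at most 2, and for some three distinct cosets it has order exactly 2. -/
theorem result {K : Type*} [Field K] [Fintype K] {m : ℕ} (hK : Fintype.card K = 3 ^ (2 * m + 1)) :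
    (∀ x y z : ↥(Cfsg.Lie.twistedG2 K (3 ^ m)) ⧸ ((Cfsg.Lie.chevG2.borelSubgroup K ⊓ Cfsg.Lie.twistedG2 K (3 ^ m))).subgroupOf (Cfsg.Lie.twistedG2 K (3 ^ m)), x ≠ y → x ≠ z → y ≠ z →
        Nat.card ↥(MulAction.stabilizer ↥(Cfsg.Lie.twistedG2 K (3 ^ m)) x ⊓ MulAction.stabilizer ↥(Cfsg.Lie.twistedG2 K (3 ^ m)) y ⊓ MulAction.stabilizer ↥(Cfsg.Lie.twistedG2 K (3 ^ m)) z) ≤ 2) ∧
      ∃ x y z : ↥(Cfsg.Lie.twistedG2 K (3 ^ m)) ⧸ ((Cfsg.Lie.chevG2.borelSubgroup K ⊓ Cfsg.Lie.twistedG2 K (3 ^ m))).subgroupOf (Cfsg.Lie.twistedG2 K (3 ^ m)), x ≠ y ∧ x ≠ z ∧ y ≠ z ∧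
        Nat.card ↥(MulAction.stabilizer ↥(Cfsg.Lie.twistedG2 K (3 ^ m)) x ⊓ MulAction.stabilizer ↥(Cfsg.Lie.twistedG2 K (3 ^ m)) y ⊓ MulAction.stabilizer ↥(Cfsg.Lie.twistedG2 K (3 ^ m)) z) = 2 := by
  classical
  obtain ⟨C⟩ := CfsgLib.Chev.TwG2.nonempty_ctx hK
  set G := Cfsg.Lie.twistedG2 K (3 ^ m) with hG
  let par' : Kˣ → ↥G := fun b => ⟨C.par b, (C.range_le ⟨b, rfl⟩).2⟩
  have hpar : Function.Injective par' := fun a b e => C.par_injective (congrArg Subtype.val e)
  let base : ↥G ⧸ C.bor := QuotientGroup.mk 1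
  have hmove : ∀ x y : ↥G ⧸ C.bor, x ≠ y →
      ∃ g : ↥G, g • base = x ∧ g • C.opp = y := by
    intro x y hxy
    obtain ⟨g, rfl⟩ := QuotientGroup.mk_surjective x
    rcases C.eq_smul_opp (g⁻¹ • y) with e | ⟨u, hu, e⟩
    · refine absurd ?_ hxy
      rw [inv_smul_eq_iff] at e
      rw [e, MulAction.Quotient.smul_mk, smul_eq_mul, mul_one]
    · refine ⟨g * u, ?_, ?_⟩
      · rw [← smul_smul, (C.stab_base u).2 (DataG2.facts.pos_le_borel
          (DataG2.facts.posUnipotent_eq (F := K) ▸ hu)),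
          MulAction.Quotient.smul_mk, smul_eq_mul, mul_one]
      · rw [← smul_smul, ← e, smul_inv_smul]
  have hconj : ∀ (g : ↥G) (a b c : ↥G ⧸ C.bor),
      Nat.card ↥(MulAction.stabilizer ↥G (g • a) ⊓ MulAction.stabilizer ↥G (g • b) ⊓
        MulAction.stabilizer ↥G (g • c)) =
      Nat.card ↥(MulAction.stabilizer ↥G a ⊓ MulAction.stabilizer ↥G b ⊓
        MulAction.stabilizer ↥G c) := by
    intro g a b c
    rw [MulAction.stabilizer_smul_eq_stabilizer_map_conj,
      MulAction.stabilizer_smul_eq_stabilizer_map_conj,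
      MulAction.stabilizer_smul_eq_stabilizer_map_conj,
      ← Subgroup.map_inf _ _ _ (MulAut.conj g).injective,
      ← Subgroup.map_inf _ _ _ (MulAut.conj g).injective]
    exact Subgroup.card_map_of_injective (MulAut.conj g).injective
  refine ⟨fun x y z hxy hxz hyz => ?_, ?_⟩
  · obtain ⟨g, rfl, rfl⟩ := hmove x y hxy
    obtain ⟨z, rfl⟩ : ∃ z', g • z' = z := ⟨g⁻¹ • z, smul_inv_smul g z⟩
    rw [hconj]
    rcases C.eq_smul_opp z with e | ⟨u, hu, rfl⟩
    · exact absurd (congrArg (g • ·) e.symm) hxz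
    obtain ⟨t, a, v, e⟩ := C.mem_posU_iff.1 ⟨hu, u.2⟩
    have hsub : ∀ s : ↥G, s ∈ MulAction.stabilizer ↥G base ⊓ MulAction.stabilizer ↥G C.opp ⊓
        MulAction.stabilizer ↥G (u • C.opp) → s = par' 1 ∨ s = par' (-1) := by
      rintro s ⟨⟨h1, h2⟩, h3⟩
      obtain ⟨b, hb⟩ := C.stab_two (MulAction.mem_stabilizer_iff.1 h1)
        (MulAction.mem_stabilizer_iff.1 h2)
      obtain rfl : s = par' b := Subtype.ext hb
      have h := (C.par_smul_iff b hu).1 h3
      rw [e] at h
      by_contra hne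
      have hu1 := C.fix_point_free (fun e => hne (Or.inl (by rw [e])))
        (fun e => hne (Or.inr (by rw [e]))) h
      apply hyz
      rw [show u = 1 from Subtype.ext (e.trans hu1), one_smul]
    calc Nat.card ↥(MulAction.stabilizer ↥G base ⊓ MulAction.stabilizer ↥G C.opp ⊓
          MulAction.stabilizer ↥G (u • C.opp))
        ≤ Nat.card ↥({par' 1, par' (-1)} : Finset ↥G) :=
          Nat.card_le_card_of_injective (fun s => ⟨s.1, by
            rcases hsub s.1 s.2 with h | h <;> simp [h]⟩)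
            fun a b e => Subtype.ext (congrArg Subtype.val e :)
      _ ≤ 2 := by rw [Nat.card_eq_fintype_card, Fintype.card_coe]; exact Finset.card_le_two
  · set u : ↥G := ⟨C.cl 0 1 0, (C.cl_mem 0 1 0).1⟩ with hu
    have huP : (u : GL Cfsg.Lie.chevG2.Idx K) ∈ Cfsg.Lie.chevG2.posUnipotent K :=
      (C.mem_posU_iff.2 ⟨0, 1, 0, rfl⟩).1
    have hs : ∀ x : ↥G, x • base = base ↔ (x : GL Cfsg.Lie.chevG2.Idx K) ∈
        Cfsg.Lie.chevG2.borelSubgroup K := C.stab_base
    have h01 : base ≠ C.opp := by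
      intro e
      have hB := C.borel_inf_conj huP (by
        have : u • C.opp = (1 : ↥G) • C.opp := by
          rw [one_smul, ← e, hs]
          exact DataG2.facts.pos_le_borel (DataG2.facts.posUnipotent_eq (F := K) ▸ huP)
        have := (C.smul_opp_eq 1 u).1 this.symm
        simpa using this)
      rw [← C.cl_zero] at hB
      exact one_ne_zero (C.cl_inj hB).2.1
    refine ⟨base, C.opp, u • C.opp, h01, ?_, ?_, ?_⟩
    · intro e
      refine h01 ?_
      rw [← inv_smul_smul u C.opp, ← e, eq_comm, hs]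
      exact Subgroup.inv_mem _
        (DataG2.facts.pos_le_borel (DataG2.facts.posUnipotent_eq (F := K) ▸ huP))
    · intro e
      have hB := C.borel_inf_conj huP (by
        have := (C.smul_opp_eq 1 u).1 (by rw [one_smul]; exact e)
        simpa using this)
      rw [← C.cl_zero] at hB
      exact one_ne_zero (C.cl_inj hB).2.1
    · refine le_antisymm ?_ ?_
      · refine le_trans (Nat.card_le_card_of_injective (β := ↥({par' 1, par' (-1)} : Finset ↥G))
          (fun s => ⟨s.1, ?_⟩) fun a b e => Subtype.ext (congrArg Subtype.val e :))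
          (by rw [Nat.card_eq_fintype_card, Fintype.card_coe]; exact Finset.card_le_two)
        obtain ⟨⟨h1, h2⟩, h3⟩ := s.2
        obtain ⟨b, hb⟩ := C.stab_two (MulAction.mem_stabilizer_iff.1 h1)
          (MulAction.mem_stabilizer_iff.1 h2)
        have hb' : (s : ↥G) = par' b := Subtype.ext hb
        have h3' : par' b • (u • C.opp) = u • C.opp := hb' ▸ MulAction.mem_stabilizer_iff.1 h3
        have h := (C.par_smul_iff b huP).1 h3'
        rcases em (b = 1) with e | e
        · simp [hb', e]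
        rcases em (b = -1) with e' | e'
        · simp [hb', e']
        exact absurd (C.cl_inj ((C.fix_point_free e e' h).trans C.cl_zero.symm)).2.1 one_ne_zero
      · have hm : ∀ b : Kˣ, b = 1 ∨ b = -1 → par' b ∈
            MulAction.stabilizer ↥G base ⊓ MulAction.stabilizer ↥G C.opp ⊓
              MulAction.stabilizer ↥G (u • C.opp) := by
          intro b hb
          refine ⟨⟨(C.par_mem_stab b).1, (C.par_mem_stab b).2⟩, (C.par_smul_iff b huP).2 ?_⟩
          rcases hb with rfl | rfl
          · rw [map_one, one_mul, mul_one]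
          · exact C.neg_one_comm 1
        calc 2 = ({par' 1, par' (-1)} : Finset ↥G).card :=
              (Finset.card_pair fun e => C.neg_one_ne (hpar e).symm).symm
          _ = Nat.card ↥({par' 1, par' (-1)} : Finset ↥G) := by
              rw [Nat.card_eq_fintype_card, Fintype.card_coe]
          _ ≤ _ := Nat.card_le_card_of_injective (α := ↥({par' 1, par' (-1)} : Finset ↥G))
              (β := ↥(MulAction.stabilizer ↥G base ⊓ MulAction.stabilizer ↥G C.opp ⊓
                MulAction.stabilizer ↥G (u • C.opp))) (fun s => ⟨s.1, by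
                rcases Finset.mem_insert.1 s.2 with h | h
                · rw [h]; exact hm 1 (Or.inl rfl)
                · rw [Finset.mem_singleton.1 h]; exact hm (-1) (Or.inr rfl)⟩)
              fun a b e => Subtype.ext (congrArg Subtype.val e :)

end Cfsg.Agent.S1153
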