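import Cfsg.Statements.S1154
import Cfsg.Agent.Lib.Chev.Twist.G2Points

set_option autoImplicit false
open Cfsg

namespace Cfsg.Agent.S1154

/-- In the small Ree group ²G₂(q), q = 3^(2m+1) with m ≥ 1, realised as G¹ inside the Chevalley group G₂ over the field with q elements (θ the 3^m-th power map), with `U¹ = G¹ ∩ U` (U the positive unipotent subgroup of the ambient G₂): `U¹` has exactly `q² - 1` elements of order 3. -/
theorem result {K : Type*} [Field K] [Fintype K] {m : ℕ} (hm : 1 ≤ m) (hK : Fintype.card K = 3 ^ (2 * m + 1)) :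
    Nat.card {u : ↥(Cfsg.Lie.chevG2.posUnipotent K ⊓ Cfsg.Lie.twistedG2 K (3 ^ m)) // orderOf u = 3} = (3 ^ (2 * m + 1)) ^ 2 - 1 := by
  classical
  obtain ⟨C⟩ := CfsgLib.Chev.TwG2.nonempty_ctx hK
  haveI : Fact (Nat.Prime 3) := ⟨Nat.prime_three⟩
  let f : {p : K × K // p ≠ 0} →
      {u : ↥(Cfsg.Lie.chevG2.posUnipotent K ⊓ Cfsg.Lie.twistedG2 K (3 ^ m)) // orderOf u = 3} :=
    fun p => ⟨⟨C.cl 0 p.1.1 p.1.2, C.mem_posU_iff.2 ⟨_, _, _, rfl⟩⟩,
      orderOf_eq_prime (Subtype.ext (C.cl_cube_center _ _)) fun e => p.2 (by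
        obtain ⟨-, h1, h2⟩ := C.cl_inj ((congrArg Subtype.val e).trans C.cl_zero.symm)
        exact Prod.ext h1 h2)⟩
  rw [← Nat.card_eq_of_bijective f ⟨?_, ?_⟩]
  · rw [Nat.card_eq_fintype_card, Fintype.card_subtype_compl, Fintype.card_subtype_eq,
      Fintype.card_prod, hK, pow_two]
  · intro p r e
    obtain ⟨-, h1, h2⟩ := C.cl_inj (congrArg (fun x => x.1.1) e)
    exact Subtype.ext (Prod.ext h1 h2)
  · rintro ⟨⟨x, hx⟩, ho⟩
    obtain ⟨t, u, v, rfl⟩ := C.mem_posU_iff.1 hx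
    rw [← Subgroup.orderOf_coe] at ho
    have ht : t = 0 := by
      by_contra ht
      exact C.cube_ne_one ht u v (by rw [← ho]; exact pow_orderOf_eq_one (C.cl t u v))
    subst ht
    refine ⟨⟨(u, v), fun e => ?_⟩, rfl⟩
    rw [Prod.ext_iff] at e
    obtain ⟨e1, e2⟩ := e
    simp only [Prod.fst_zero, Prod.snd_zero] at e1 e2
    subst e1 e2
    change orderOf (C.cl 0 0 0) = 3 at ho
    rw [C.cl_zero, orderOf_one] at ho
    omega

end Cfsg.Agent.S1154
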