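import Cfsg.Statements.S1080
import Cfsg.Agent.Lib.Chev.All

set_option autoImplicit false
open Cfsg

namespace Cfsg.Agent.S1080

/-- Field automorphisms: for every field automorphism `f` there is a group automorphism sending each `x_r(t)` to `x_r(f t)`. -/
theorem result {F : Type*} [Field F] (D : Cfsg.Lie.ChevalleyDatum) (hD : D ∈ [Cfsg.Lie.chevG2, Cfsg.Lie.chevB2, Cfsg.Lie.chevD4, Cfsg.Lie.chevF4, Cfsg.Lie.chevE6, Cfsg.Lie.chevE7, Cfsg.Lie.chevE8]) (f : F ≃+* F) :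
    ∃ α : ↥(D.group F) ≃* ↥(D.group F), ∀ (g : ↥(D.group F)) (r : ℕ) (t : F), r < D.nroots →
      ((g : GL D.Idx F) : Matrix D.Idx D.Idx F) = D.x F r t → ((α g : GL D.Idx F) : Matrix D.Idx D.Idx F) = D.x F r (f t) := by
  obtain ⟨⟨co, hF⟩, -⟩ := CfsgLib.Chev.good_of_mem.{0} hD
  let e : GL D.Idx F ≃* GL D.Idx F := Units.mapEquiv f.mapMatrix.toMulEquiv
  have he : ∀ r < D.nroots, ∀ t : F,
      e (CfsgLib.Chev.xU D r t) = CfsgLib.Chev.xU D r (f t) := fun r hr t => by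
    ext1
    show ((CfsgLib.Chev.xU D r t : GL D.Idx F) : Matrix D.Idx D.Idx F).map f = _
    rw [hF.xU_val' hr, hF.xU_val' hr]
    exact CfsgLib.Chev.xR_map (f : F →+* F) r t
  have hmap : (D.group F).map e.toMonoidHom = D.group F := by
    rw [hF.group_eq, CfsgLib.Chev.rootClosure, MonoidHom.map_closure]
    refine congrArg Subgroup.closure (Set.ext fun g => ?_)
    constructor
    · rintro ⟨x, ⟨r, t, hr, -, rfl⟩, rfl⟩
      exact ⟨r, f t, hr, trivial, he r hr t⟩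
    · rintro ⟨r, t, hr, -, rfl⟩
      exact ⟨_, ⟨r, f.symm t, hr, trivial, rfl⟩, (he r hr _).trans (by rw [RingEquiv.apply_symm_apply])⟩
  refine ⟨(e.subgroupMap (D.group F)).trans (MulEquiv.subgroupCongr hmap), fun g r t hr hg => ?_⟩
  rw [← hF.xU_val hr, Units.val_inj] at hg
  rw [← hF.xU_val hr, Units.val_inj, ← he r hr, ← hg]
  rfl

end Cfsg.Agent.S1080
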