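import Cfsg.Statements.S0496
import Cfsg.Agent.Lib.SmallSimple.AtMost1092.Table
import Cfsg.Agent.Lib.SmallSimple.AtMost1092.Special
import Cfsg.Agent.Lib.SmallSimple.AtMost1092.M10

set_option autoImplicit false
open Cfsg

namespace Cfsg.Agent.S0496

/-- A non-abelian finite simple group of order at most 1092 has order 60, 168, 360, 504, 660 or 1092. -/
theorem result {G : Type*} [Group G] [Finite G] [IsSimpleGroup G]
    (hG : ¬ IsMulCommutative G) (h : Nat.card G ≤ 1092) :
    Nat.card G = 60 ∨ Nat.card G = 168 ∨ Nat.card G = 360 ∨ Nat.card G = 504 ∨ Nat.card G = 660 ∨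
      Nat.card G = 1092 := by
  have h2 : 2 ≤ Nat.card G := Finite.one_lt_card
  obtain ⟨w, hw⟩ := CfsgLib.SmallSimple.AtMost1092.exists_witness (Nat.card G) h2 h
  have he := CfsgLib.SmallSimple.AtMost1092.exceptional_of_check hG hw
  simp only [CfsgLib.SmallSimple.AtMost1092.isExceptional, List.contains_eq_mem, List.mem_cons,
    List.not_mem_nil, or_false, decide_eq_true_eq] at he
  have h420 : Nat.card G ≠ 420 := fun e =>
    CfsgLib.SmallSimple.AtMost1092.card_ne_seven_mul hG (m := 60) (Or.inl rfl) (by rw [e])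
  have h840 : Nat.card G ≠ 840 := fun e =>
    CfsgLib.SmallSimple.AtMost1092.card_ne_seven_mul hG (m := 120) (Or.inr rfl) (by rw [e])
  have h756 := CfsgLib.SmallSimple.AtMost1092.card_ne_756 hG
  have h960 := CfsgLib.SmallSimple.AtMost1092.card_ne_960 hG
  have h720 := CfsgLib.SmallSimple.AtMost1092.Sev20.card_ne hG
  omega

end Cfsg.Agent.S0496
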