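import Cfsg.Statements.S0671
import Cfsg.Agent.Lib.SmallGroups.PermModule

set_option autoImplicit false
open Cfsg

namespace Cfsg.Agent.S0671

/-- If the heart of the permutation module in characteristic `p` of a transitive action of degree `p ^ f` has no trivial composition factor, the action is doubly transitive. The hypothesis is phrased without composition series: no invariant subspaces `W < W'` between the constants and the sum-zero functions with trivial action on the quotient. -/
theorem result {G : Type*} [Group G] [Finite G] {K : Type*} [Field K] {p f : ℕ} [Fact p.Prime] [CharP K p] {Ω : Type*} [Fintype Ω] [MulAction G Ω] [MulAction.IsPretransitive G Ω] (hf : 1 ≤ f) (hcard : Fintype.card Ω = p ^ f) (h : ∀ W W' : Subrepresentation (Cfsg.permRep K G Ω), (Cfsg.permConstants K G Ω).toSubmodule ≤ W.toSubmodule → W.toSubmodule < W'.toSubmodule → W'.toSubmodule ≤ (Cfsg.permSumZero K G Ω).toSubmodule → ∃ g : G, ∃ v ∈ W'.toSubmodule, Cfsg.permRep K G Ω g v - v ∉ W.toSubmodule) : MulAction.IsMultiplyPretransitive G Ω 2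 := by
  classical
  by_contra h2
  open CfsgLib.SmallGroups.PermModule in
  -- a suborbit that is not everything
  obtain ⟨a, b, d, hba, hda, hbd⟩ : ∃ a b d : Ω, b ≠ a ∧ d ≠ a ∧
      b ∉ MulAction.orbit (MulAction.stabilizer G a) d := by
    by_contra hall
    push Not at hall
    apply h2
    rw [MulAction.is_two_pretransitive_iff]
    intro a b c d hab hcd
    obtain ⟨g, hg⟩ := MulAction.exists_smul_eq G a c
    have hne : g • b ≠ c := fun e => hab (MulAction.injective g (hg.trans e.symm))
    obtain ⟨s, hs⟩ := hall c d (g • b) hcd.symm hne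
    exact ⟨(s : G) * g, by rw [mul_smul, hg]; exact s.2, by rw [mul_smul]; exact hs⟩
  set O := MulAction.orbit (MulAction.stabilizer G a) d with hO
  choose t ht using fun x : Ω => MulAction.exists_smul_eq G a x
  -- the vector attached to a point
  let v₀ : Ω → K := fun y => (if y ∈ O then 1 else 0) -
    (if y = a then ((Finset.univ.filter fun z => z ∈ O).card : K) else 0)
  let w : Ω → Ω → K := fun x => Cfsg.permRep K G Ω (t x) v₀
  have hv0fix : ∀ g ∈ MulAction.stabilizer G a, ∀ y, v₀ (g • y) = v₀ y := by
    intro g hg y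
    have h1 : g • y ∈ O ↔ y ∈ O := by
      constructor
      · intro hy
        have := MulAction.mem_orbit_of_mem_orbit (⟨g, hg⟩⁻¹ : MulAction.stabilizer G a) hy
        simpa [Subgroup.smul_def] using this
      · intro hy
        exact MulAction.mem_orbit_of_mem_orbit (⟨g, hg⟩ : MulAction.stabilizer G a) hy
    have h2 : g • y = a ↔ y = a := by
      constructor
      · intro e; rw [← inv_smul_smul g y, e, inv_smul_eq_iff]; exact (MulAction.mem_stabilizer_iff.mp hg).symm
      · intro e; rw [e]; exact hg
    simp only [v₀, h1, h2]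
  let N : (Ω → K) →ₗ[K] (Ω → K) :=
    { toFun := fun f => fun y => ∑ x, f x * w x y
      map_add' := fun f₁ f₂ => by funext y; simp [add_mul, Finset.sum_add_distrib]
      map_smul' := fun c f => by funext y; simp [Finset.mul_sum, mul_assoc] }
  have hw : ∀ (g : G) (x y : Ω), w (g • x) (g • y) = w x y := by
    intro g x y
    show v₀ ((t (g • x))⁻¹ • g • y) = v₀ ((t x)⁻¹ • y)
    have hmem : (t (g • x))⁻¹ * g * t x ∈ MulAction.stabilizer G a := by
      rw [MulAction.mem_stabilizer_iff, mul_smul, mul_smul, ht, inv_smul_eq_iff, ht]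
    have := hv0fix _ hmem ((t x)⁻¹ • y)
    rw [← this, mul_smul, mul_smul, smul_inv_smul]
  have hN : ∀ (g : G) (f : Ω → K), N (Cfsg.permRep K G Ω g f) = Cfsg.permRep K G Ω g (N f) := by
    intro g f
    funext y
    show ∑ x, f (g⁻¹ • x) * w x y = ∑ x, f x * w x (g⁻¹ • y)
    refine Fintype.sum_equiv (MulAction.toPerm g⁻¹) _ _ (fun x => ?_)
    simp only [MulAction.toPerm_apply]
    rw [hw]
  have hwsum : ∀ x, ∑ y, w x y = 0 := by
    intro x
    rw [show (∑ y, w x y) = ∑ y, v₀ y from
      Fintype.sum_equiv (MulAction.toPerm (t x)⁻¹) _ _ (fun y => rfl)]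
    simp [v₀, Finset.sum_sub_distrib, Finset.sum_ite_eq']
  -- the range and the image of the sum-zero functions
  let W' : Subrepresentation (Cfsg.permRep K G Ω) :=
    { toSubmodule := LinearMap.range N
      apply_mem_toSubmodule := by
        rintro g _ ⟨f, rfl⟩
        exact ⟨_, hN g f⟩ }
  let W : Subrepresentation (Cfsg.permRep K G Ω) :=
    { toSubmodule := (Cfsg.permSumZero K G Ω).toSubmodule.map N
      apply_mem_toSubmodule := by
        rintro g _ ⟨f, hf, rfl⟩
        exact ⟨_, (Cfsg.permSumZero K G Ω).apply_mem_toSubmodule g hf, hN g f⟩ }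
  have hδ : ∀ x, N (fun z => if z = x then 1 else 0) = w x := by
    intro x; funext y
    show ∑ z, (if z = x then (1 : K) else 0) * w z y = w x y
    simp
  have hnc : ¬ LinearMap.range N ≤ (Cfsg.permConstants K G Ω).toSubmodule := by
    intro hle
    obtain ⟨c, hc⟩ := CfsgLib.SmallGroups.PermModule.mem_constants.mp (hle ⟨_, hδ a⟩)
    have h1 : ∀ y, v₀ y = c := fun y => by
      have hmem : t a ∈ MulAction.stabilizer G a := ht a
      rw [← hc y]
      exact (hv0fix _ (inv_mem hmem) y).symm
    have hd' : v₀ d = 1 := by simp [v₀, hda, hO, MulAction.mem_orbit_self]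
    have hb' : v₀ b = 0 := by simp [v₀, hba, hbd]
    exact one_ne_zero ((hd'.symm.trans (h1 d)).trans ((h1 b).symm.trans hb'))
  have hW'M : LinearMap.range N ≤ (Cfsg.permSumZero K G Ω).toSubmodule := by
    rintro _ ⟨f, rfl⟩
    show ∑ y, (∑ x, f x * w x y) = 0
    rw [Finset.sum_comm]
    simp [← Finset.mul_sum, hwsum]
  have hne : W'.toSubmodule ≠ ⊥ := fun e => hnc (by
    show W'.toSubmodule ≤ _
    rw [e]; exact bot_le)
  have hC : (Cfsg.permConstants K G Ω).toSubmodule ≤ W'.toSubmodule :=
    CfsgLib.SmallGroups.PermModule.constants_le hcard hne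
  -- the kernel is inside the sum-zero functions, so the image of those is smaller
  have hker : LinearMap.ker N ≤ (Cfsg.permSumZero K G Ω).toSubmodule := by
    refine CfsgLib.SmallGroups.PermModule.le_sumZero hcard (W := ⟨LinearMap.ker N, fun g f hf => by
      rw [LinearMap.mem_ker] at hf ⊢
      rw [hN, hf, map_zero]⟩) ?_
    intro htop
    apply hnc
    rintro _ ⟨f, rfl⟩
    have htop' : LinearMap.ker N = ⊤ := htop
    have : f ∈ LinearMap.ker N := by rw [htop']; trivial
    rw [LinearMap.mem_ker.mp this]
    exact Submodule.zero_mem _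
  let V : Subrepresentation (Cfsg.permRep K G Ω) := Cfsg.permConstants K G Ω ⊔ W
  have hstep : ∀ (g : G), ∀ u ∈ W'.toSubmodule, Cfsg.permRep K G Ω g u - u ∈ V.toSubmodule := by
    rintro g _ ⟨f, rfl⟩
    apply Submodule.mem_sup_right
    refine ⟨Cfsg.permRep K G Ω g f - f, ?_, by rw [map_sub, hN]⟩
    show ∑ x, (f (g⁻¹ • x) - f x) = 0
    rw [Finset.sum_sub_distrib, sub_eq_zero]
    exact Fintype.sum_equiv (MulAction.toPerm g⁻¹) _ _ (fun x => rfl)
  have hVW' : V.toSubmodule ≤ W'.toSubmodule := sup_le hC (LinearMap.map_le_range)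
  have hVne : V.toSubmodule ≠ W'.toSubmodule := by
    intro e
    by_cases hW0 : W.toSubmodule = ⊥
    · apply hnc
      show W'.toSubmodule ≤ _
      rw [← e]
      exact sup_le le_rfl (by rw [hW0]; exact bot_le)
    · have hCW : (Cfsg.permConstants K G Ω).toSubmodule ≤ W.toSubmodule :=
        CfsgLib.SmallGroups.PermModule.constants_le hcard hW0
      have hVW : V.toSubmodule = W.toSubmodule := sup_eq_right.mpr hCW
      have hmem : w a ∈ W.toSubmodule := by
        rw [← hVW, e]; exact ⟨_, hδ a⟩
      obtain ⟨f, hf, hfa⟩ := hmem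
      have hk : (fun z => if z = a then (1 : K) else 0) - f ∈ LinearMap.ker N := by
        rw [LinearMap.mem_ker, map_sub, hδ, hfa, sub_self]
      have h0 : ∑ z, ((if z = a then (1 : K) else 0) - f z) = 0 := hker hk
      have hf0 : ∑ z, f z = 0 := hf
      simp [Finset.sum_sub_distrib, hf0] at h0
  obtain ⟨g, u, hu, hgu⟩ := h V W' le_sup_left (lt_of_le_of_ne hVW' hVne) hW'M
  exact hgu (hstep g u hu)

end Cfsg.Agent.S0671
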