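import Cfsg.Statements.S0675
import Cfsg.Agent.Lib.SmallGroups.PrimeTransitive
import Cfsg.Agent.S0671

set_option autoImplicit false
open Cfsg

namespace Cfsg.Agent.S0675

/-- Burnside's Theorem on permutation groups of prime degree: a transitive permutation group of prime degree that is not solvable is doubly transitive. -/
theorem result {α : Type*} [Fintype α] [DecidableEq α] (hα : (Fintype.card α).Prime) (G : Subgroup (Equiv.Perm α)) [MulAction.IsPretransitive G α] : Group.IsSolvable G ∨ MulAction.IsMultiplyPretransitive G α 2 := by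
  classical
  set p := Fintype.card α with hpdef
  haveI : Fact p.Prime := ⟨hα⟩
  refine (em (Group.IsSolvable G)).imp id fun hG => ?_
  refine Cfsg.Agent.S0671.result (K := ZMod p) (p := p) (f := 1) le_rfl (pow_one p).symm ?_
  intro W W' hC hlt hM
  open CfsgLib.SmallGroups in
  have hW := heart_irreducible (K := ZMod p) rfl G hG W hC (hlt.le.trans hM)
  open CfsgLib.SmallGroups in
  have hW' := heart_irreducible (K := ZMod p) rfl G hG W' (hC.trans hlt.le) hM
  obtain rfl : W = Cfsg.permConstants (ZMod p) G α := hW.resolve_right fun e => by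
    subst e; exact absurd hlt (not_lt_of_ge hM)
  obtain rfl : W' = Cfsg.permSumZero (ZMod p) G α := hW'.resolve_left fun e => by
    subst e; exact lt_irrefl _ hlt
  by_contra hall
  push Not at hall
  obtain ⟨σ, hσG, hσ⟩ := CfsgLib.SmallGroups.exists_orderOf_eq_of_isPretransitive rfl G
  obtain ⟨a⟩ : Nonempty α := Fintype.card_pos_iff.mp hα.pos
  obtain ⟨e, -, he⟩ := CfsgLib.SmallGroups.exists_coord rfl hσ a
  by_cases hp3 : p ≤ 3
  · -- the symmetric group of degree at most three is solvable
    refine hG (CfsgLib.SmallGroups.isSolvable_normalizer rfl hσ ?_)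
    haveI hnorm : (Subgroup.zpowers σ).Normal := by
      rcases (by have := hα.two_le; omega : p = 2 ∨ p = 3) with h | h
      · rw [Subgroup.eq_top_of_card_eq (Subgroup.zpowers σ)]
        · infer_instance
        · rw [Nat.card_zpowers, hσ, Nat.card_perm, Nat.card_eq_fintype_card, ← hpdef, h]; rfl
      · apply Subgroup.normal_of_index_eq_two
        have := (Subgroup.zpowers σ).card_mul_index
        rw [Nat.card_zpowers, hσ, Nat.card_perm, Nat.card_eq_fintype_card, ← hpdef, h,
          show Nat.factorial 3 = 3 * 2 from rfl] at this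
        omega
    rw [Subgroup.normalizer_eq_top_iff.mpr hnorm]
    exact le_top
  · -- the function x ↦ x ^ 2
    let v : α → ZMod p := fun x => (e.symm x) ^ 2
    have hv : v ∈ (Cfsg.permSumZero (ZMod p) G α).toSubmodule := by
      show ∑ x, (e.symm x) ^ 2 = (0 : ZMod p)
      rw [Fintype.sum_equiv e.symm (fun x => (e.symm x) ^ 2) (fun j : ZMod p => j ^ 2) (fun x => rfl)]
      exact FiniteField.sum_pow_lt_card_sub_one (ZMod p) 2 (by rw [ZMod.card]; omega)
    obtain ⟨c, hc⟩ := CfsgLib.SmallGroups.PermModule.mem_constants.mp (hall ⟨σ⁻¹, inv_mem hσG⟩ v hv)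
    have h0 := hc (e 0)
    have h1 := hc (e 1)
    simp only [Pi.sub_apply, CfsgLib.SmallGroups.PermModule.permRep_apply] at h0 h1
    have hs : ∀ j, (⟨σ⁻¹, inv_mem hσG⟩ : G)⁻¹ • e j = e (j + 1) := fun j => by
      show (σ⁻¹)⁻¹ (e j) = _
      rw [inv_inv, he]
    rw [hs] at h0 h1
    simp only [v, e.symm_apply_apply] at h0 h1
    have h2 : (2 : ZMod p) = 0 := by linear_combination h1 - h0
    have : (p : ℕ) ∣ 2 := (ZMod.natCast_eq_zero_iff 2 p).mp (by exact_mod_cast h2)
    have := Nat.le_of_dvd (by norm_num) this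
    omega

end Cfsg.Agent.S0675
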