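import Cfsg.Statements.S2589
import Mathlib
import Cfsg.Agent.Lib.Classical.SemisimpleConjugacy
import Cfsg.Agent.Lib.Classical.SpBasic
-- import your own Cfsg.Agent.* helpers here

set_option autoImplicit false
open Cfsg

namespace Cfsg.Agent.S2589

open Matrix CfsgLib.Classical Cfsg

/-- Two semisimple elements of the finite symplectic group Sp_2m(F) (elements of order prime to the characteristic) are conjugate in Sp_2m(F) if and only if they are conjugate in GL_2m(F). -/
theorem result {F : Type*} [Field F] [Fintype F] {p : ℕ} [Fact p.Prime] [CharP F p] {m : ℕ} (A B : Matrix.symplecticGroup (Fin m) F) (hA : (orderOf A).Coprime p) : IsConj A B ↔ IsConj (A : Matrix (Fin m ⊕ Fin m) (Fin m ⊕ Fin m) F) (B : Matrix (Fin m ⊕ Fin m) (Fin m ⊕ Fin m) F) := by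
  classical
  constructor
  · exact fun h => (Matrix.symplecticGroup (Fin m) F).subtype.map_isConj h
  rintro ⟨c, hc⟩
  let N := orderOf A
  have hN : (N : F) ≠ 0 := fun h => by
    have h1 : p ∣ N := (CharP.cast_eq_zero_iff F p N).1 h
    exact (Fact.out : p.Prime).ne_one (Nat.dvd_one.1 (hA ▸ Nat.dvd_gcd h1 dvd_rfl))
  let P : (Fin m ⊕ Fin m → F) ≃ₗ[F] (Fin m ⊕ Fin m → F) := LinearEquiv.ofBijective
    (Matrix.toLin' (c : Matrix (Fin m ⊕ Fin m) (Fin m ⊕ Fin m) F))
    (Finite.injective_iff_bijective.1 (Matrix.mulVec_injective_iff_isUnit.2 c.isUnit))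
  have hP : ∀ v, P v = (c : Matrix (Fin m ⊕ Fin m) (Fin m ⊕ Fin m) F) *ᵥ v := fun v => rfl
  have hPA : ∀ v, P (A.1 *ᵥ v) = B.1 *ᵥ P v := fun v => by
    rw [hP, hP, mulVec_mulVec, mulVec_mulVec]
    exact congrArg (fun M : Matrix (Fin m ⊕ Fin m) (Fin m ⊕ Fin m) F => M *ᵥ v) hc
  let C := (spBilin m F).compl₁₂ P.toLinearMap P.toLinearMap
  have hC : ∀ u v, C u v = sympForm m F (P u) (P v) := fun u v => rfl
  obtain ⟨z, hzA, hzz⟩ := CfsgLib.Classical.SemiConj.twin_alt (Matrix.toLin' A.1) (spBilin m F) C hN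
    (by rw [← Matrix.toLin'_pow, ← SubmonoidClass.coe_pow, pow_orderOf_eq_one, OneMemClass.coe_one, Matrix.toLin'_one]; rfl)
    (fun x y => sp_form A x y)
    (fun x y => by simp only [hC, Matrix.toLin'_apply, hPA, sp_form])
    spBilin_isAlt (fun x h => sympForm_nondeg h) (fun x => sympForm_self (P x))
    (fun x h => P.map_eq_zero_iff.1 (sympForm_nondeg fun w => by
      obtain ⟨w, rfl⟩ := P.surjective w
      rw [← hC]; exact h w))
  let g : (Fin m ⊕ Fin m → F) →ₗ[F] (Fin m ⊕ Fin m → F) := P.toLinearMap ∘ₗ z.symm.toLinearMap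
  have hg : ∀ v, LinearMap.toMatrix' g *ᵥ v = P (z.symm v) := fun v => LinearMap.toMatrix'_mulVec _ v
  have hmem : LinearMap.toMatrix' g ∈ Matrix.symplecticGroup (Fin m) F := mem_sp_iff.2 fun u v => by
    rw [hg, hg, ← hC, ← hzz, LinearEquiv.apply_symm_apply, LinearEquiv.apply_symm_apply]
    rfl
  refine isConj_iff.2 ⟨⟨_, hmem⟩, ?_⟩
  rw [mul_inv_eq_iff_eq_mul]
  refine sp_ext fun v => ?_
  rw [Submonoid.coe_mul, Submonoid.coe_mul, ← mulVec_mulVec, ← mulVec_mulVec, hg, hg, ← hPA]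
  congr 1
  rw [LinearEquiv.symm_apply_eq]
  have := hzA (z.symm v)
  simp only [Matrix.toLin'_apply, LinearEquiv.apply_symm_apply] at this
  exact this.symm

end Cfsg.Agent.S2589
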