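import Cfsg.Statements.S2389
import Mathlib
import Cfsg.Agent.S2589
import Cfsg.Agent.Lib.KnownSimple.SemisimpleClasses.Classes
-- import your own Cfsg.Agent.* helpers here

set_option autoImplicit false
open Cfsg

namespace Cfsg.Agent.S2389

/-- In the symplectic group `Sp_{2n}(q)`, `q` a power of the prime `p`, two elements of order prime to `p` with the same characteristic polynomial are conjugate in `Sp_{2n}(q)`. -/
theorem result {F : Type*} [Field F] [Fintype F] (p : ℕ) [Fact p.Prime] [CharP F p] (n : ℕ)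
    (g h : ↥(Matrix.symplecticGroup (Fin n) F)) (hg : (orderOf g).Coprime p) (hh : (orderOf h).Coprime p)
    (hc : (g : Matrix (Fin n ⊕ Fin n) (Fin n ⊕ Fin n) F).charpoly = (h : Matrix (Fin n ⊕ Fin n) (Fin n ⊕ Fin n) F).charpoly) :
    IsConj g h := by
  classical
  refine (Cfsg.Agent.S2589.result g h hg).2 ?_
  have hg1 : (g : Matrix (Fin n ⊕ Fin n) (Fin n ⊕ Fin n) F) ^ orderOf g = 1 := by
    rw [← SubmonoidClass.coe_pow, pow_orderOf_eq_one, OneMemClass.coe_one]
  have hh1 : (h : Matrix (Fin n ⊕ Fin n) (Fin n ⊕ Fin n) F) ^ orderOf h = 1 := by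
    rw [← SubmonoidClass.coe_pow, pow_orderOf_eq_one, OneMemClass.coe_one]
  obtain ⟨P, hP⟩ := CfsgLib.SSClasses.exists_conj_of_charpoly
    (CfsgLib.SSClasses.natCast_ne_zero_of_coprime (F := F) p (hg.mul_left hh)) (by rw [pow_mul, hg1, one_pow])
    (by rw [mul_comm, pow_mul, hh1, one_pow]) hc
  exact ⟨P, hP⟩

end Cfsg.Agent.S2389
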