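import Cfsg.Statements.S5667
import Cfsg.Agent.Lib.Classical22.TensorRefine
import Cfsg.Agent.Lib.Transvec.Symplectic
-- import your own Cfsg.Agent.* helpers here

set_option autoImplicit false
open Cfsg

namespace Cfsg.Agent.S5667

open Matrix CfsgLib.Transvec CfsgLib.Classical22.TensorRefine

variable {F : Type*} [Field F]

theorem pair_flip (h3 : (3 : F) = 0) {V : Type*} [AddCommGroup V] [Module F V] (B : V →ₗ[F] V →ₗ[F] F)
    (hs : ∀ x y, B x y = B y x) {a b c : V} (hab : B a b = 0) (hac : B a c = 0) (hbc : B b c = 0) {k : F}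
    (ha : B a a = k) (hb : B b b = k) (hc : B c c = -k) :
    ∃ u : Fin 3 → V, ∀ i j, B (u i) (u j) = if i = j then -k else 0 := by
  refine ⟨![a + b, a - b, c], fun i j => ?_⟩
  fin_cases i <;> fin_cases j <;>
    simp [ha, hb, hc, hab, hac, hbc, hs b a, hs c a, hs c b] <;> linear_combination k * h3

theorem equal_norm_basis [Fintype F] (hq : Fintype.card F = 3) {f : (Fin 3 → F) → (Fin 3 → F) → F}
    (hf : Cfsg.Geo.IsSymmetricForm f) :
    ∃ (ε : F) (u : Fin 3 → (Fin 3 → F)), ε ≠ 0 ∧ ∀ i j, f (u i) (u j) = if i = j then ε else 0 := by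
  classical
  have h3 : (3 : F) = 0 := by
    have h := FiniteField.cast_card_eq_zero F
    rw [hq] at h
    simpa using h
  have h2 : (2 : F) ≠ 0 := fun h => one_ne_zero (α := F) (by linear_combination h3 - h)
  haveI : Invertible (2 : F) := invertibleOfNonzero h2
  obtain ⟨B, hB⟩ : ∃ B : (Fin 3 → F) →ₗ[F] (Fin 3 → F) →ₗ[F] F, ∀ x y, B x y = f x y :=
    ⟨LinearMap.mk₂ F f hf.bilinear.add_left hf.bilinear.smul_left hf.bilinear.add_right hf.bilinear.smul_right,
      fun x y => rfl⟩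
  have hs : ∀ x y, B x y = B y x := fun x y => by rw [hB, hB, hf.symm]
  have hS : LinearMap.IsSymm B := ⟨fun x y => by simpa using hs x y⟩
  obtain ⟨b₀, hb₀⟩ := LinearMap.BilinForm.exists_orthogonal_basis hS
  obtain ⟨b, hb⟩ : ∃ b : Module.Basis (Fin 3) F (Fin 3 → F), ∀ i j, i ≠ j → B (b i) (b j) = 0 :=
    ⟨b₀.reindex (finCongr (Module.finrank_fin_fun F)), fun i j h => by
      rw [Module.Basis.reindex_apply, Module.Basis.reindex_apply]
      exact hb₀ (fun hc => h ((finCongr (Module.finrank_fin_fun F (n := 3))).symm.injective hc))⟩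
  have hne : ∀ i, B (b i) (b i) ≠ 0 := fun i h0 => by
    obtain ⟨x, hx⟩ := (hf.nondegenerate (b i) (b.ne_zero i)).2
    apply hx
    rw [← hB, ← b.sum_repr x, map_sum]
    refine Finset.sum_eq_zero fun j _ => ?_
    by_cases hij : i = j
    · subst hij; rw [map_smul, h0, smul_zero]
    · rw [map_smul, hb i j hij, smul_zero]
  have hval : ∀ i, B (b i) (b i) = 1 ∨ B (b i) (b i) = -1 := fun i => by
    have h := FiniteField.pow_card_sub_one_eq_one _ (hne i)
    rw [hq] at h
    exact sq_eq_one_iff.1 h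
  obtain ⟨u, ε, hε, hu⟩ : ∃ (u : Fin 3 → (Fin 3 → F)) (ε : F), ε ≠ 0 ∧ ∀ i j, B (u i) (u j) = if i = j then ε else 0 := by
    have two : ∀ i j l : Fin 3, i ≠ j → i ≠ l → j ≠ l → ∀ k : F, k ≠ 0 → B (b i) (b i) = k → B (b j) (b j) = k →
        B (b l) (b l) = -k → ∃ (u : Fin 3 → (Fin 3 → F)) (ε : F), ε ≠ 0 ∧ ∀ i j, B (u i) (u j) = if i = j then ε else 0 :=
      fun i j l hij hil hjl k hk ei ej el => by
        obtain ⟨u, hu⟩ := pair_flip h3 B hs (hb i j hij) (hb i l hil) (hb j l hjl) ei ej el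
        exact ⟨u, -k, neg_ne_zero.2 hk, hu⟩
    have hall : ∀ k : F, k ≠ 0 → (∀ i, B (b i) (b i) = k) →
        ∃ (u : Fin 3 → (Fin 3 → F)) (ε : F), ε ≠ 0 ∧ ∀ i j, B (u i) (u j) = if i = j then ε else 0 :=
      fun k hk h => ⟨b, k, hk, fun i j => by
        by_cases hij : i = j
        · subst hij; rw [if_pos rfl, h]
        · rw [if_neg hij, hb i j hij]⟩
    have n0 : (1 : F) ≠ 0 := one_ne_zero
    have n1 : (-1 : F) ≠ 0 := neg_ne_zero.2 one_ne_zero
    rcases hval 0 with e0 | e0 <;> rcases hval 1 with e1 | e1 <;> rcases hval 2 with e2 | e2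
    · exact hall 1 n0 fun i => by fin_cases i <;> assumption
    · exact two 0 1 2 (by decide) (by decide) (by decide) 1 n0 e0 e1 e2
    · exact two 0 2 1 (by decide) (by decide) (by decide) 1 n0 e0 e2 e1
    · exact two 1 2 0 (by decide) (by decide) (by decide) (-1) n1 e1 e2 (by rw [e0, neg_neg])
    · exact two 1 2 0 (by decide) (by decide) (by decide) 1 n0 e1 e2 e0
    · exact two 0 2 1 (by decide) (by decide) (by decide) (-1) n1 e0 e2 (by rw [e1, neg_neg])
    · exact two 0 1 2 (by decide) (by decide) (by decide) (-1) n1 e0 e1 (by rw [e2, neg_neg])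
    · exact hall (-1) n1 fun i => by fin_cases i <;> assumption
  exact ⟨ε, u, hε, fun i j => by rw [← hB]; exact hu i j⟩

theorem exists_overgroup [Fintype F] (m : ℕ) (hm : 7 ≤ m) (hq : Fintype.card F = 3) (n₁ : ℕ)
    (e : (Fin m ⊕ Fin m) ≃ Fin n₁ × Fin 3) (P : Matrix.GeneralLinearGroup (Fin m ⊕ Fin m) F)
    (f₁ : (Fin n₁ → F) → (Fin n₁ → F) → F) (f₂ : (Fin 3 → F) → (Fin 3 → F) → F)
    (hf₁ : Cfsg.Geo.IsSymplecticForm f₁) (hf₂ : Cfsg.Geo.IsSymmetricForm f₂)
    (hT : Cfsg.Geo.IsTensorFormStructure id (Cfsg.sympForm m F) f₁ f₂ e P) :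
    ∃ K : Subgroup (Matrix.GeneralLinearGroup (Fin m ⊕ Fin m) F),
      Cfsg.Geo.tensorProductSubgroup n₁ 3 e P ⊓ Cfsg.spGL m F < K ∧ K < Cfsg.spGL m F := by
  classical
  have hcard : m + m = n₁ * 3 := by simpa using Fintype.card_congr e
  have h3 : (3 : F) = 0 := by
    have h := FiniteField.cast_card_eq_zero F
    rw [hq] at h
    simpa using h
  have hsq : ∀ a : F, a ≠ 0 → a ^ 2 = 1 := fun a ha => by
    have := FiniteField.pow_card_sub_one_eq_one a ha
    rwa [hq] at this
  have hf := isSymplecticForm_sympForm (F := F) m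
  obtain ⟨c, hc, hcT⟩ := hT
  obtain ⟨ε, u, hε, hu⟩ := equal_norm_basis hq hf₂
  obtain ⟨τ, hτ⟩ : ∃ τ : (Fin 3 → F) →ₗ[F] (Fin n₁ → F) →ₗ[F] (Fin m ⊕ Fin m → F), ∀ u y,
      τ u y = (P : Matrix (Fin m ⊕ Fin m) (Fin m ⊕ Fin m) F) *ᵥ ((fun p => y p.1 * u p.2) ∘ e) := by
    refine ⟨LinearMap.mk₂ F (fun u y => (P : Matrix (Fin m ⊕ Fin m) (Fin m ⊕ Fin m) F) *ᵥ ((fun p => y p.1 * u p.2) ∘ e)) ?_ ?_ ?_ ?_,
      fun u y => rfl⟩
    · intro a b y; rw [← Matrix.mulVec_add]; congr 1; funext l; simp [mul_add]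
    · intro k a y; rw [← Matrix.mulVec_smul]; congr 1; funext l; simp [mul_left_comm]
    · intro a y z; rw [← Matrix.mulVec_add]; congr 1; funext l; simp [add_mul]
    · intro k a y; rw [← Matrix.mulVec_smul]; congr 1; funext l; simp [mul_assoc]
  obtain ⟨y₀, hy₀⟩ : ∃ y : Fin n₁ → F, y ≠ 0 := ⟨Pi.single ⟨0, by omega⟩ 1, by simp⟩
  obtain ⟨y₁, h10⟩ := (hf₁.nondegenerate y₀ hy₀).1
  refine CfsgLib.Classical22.TensorRefine.exists_overgroup (σ := RingEquiv.refl F) (show 2 ≤ 3 by norm_num)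
    (Cfsg.sympForm m F) hf.bilinear.add_left hf.bilinear.add_right (fun x y => ε * f₂ x y) f₁
    (fun k x v => by rw [hf₂.bilinear.smul_left]; ring)
    (fun k v x => by rw [hf₂.bilinear.smul_right, RingEquiv.refl_apply]; ring)
    hf₁.bilinear.add_left hf₁.bilinear.smul_left (fun y hy => (hf₁.nondegenerate y hy).2) τ
    (mul_ne_zero hc hε) ?_ _ _ (fun g hg => hg) ?_ u (fun i j => ?_) ?_ hy₀ (hf₁.alternating y₀) h10 ?_
  · intro a a' y y'
    rw [hτ, hτ, hcT, formOfGram_kronecker id (fun _ _ => rfl),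
      ← form_eq (σ := id) hf₁.bilinear.add_left hf₁.bilinear.smul_left hf₁.bilinear.add_right hf₁.bilinear.smul_right,
      ← form_eq (σ := id) hf₂.bilinear.add_left hf₂.bilinear.smul_left hf₂.bilinear.add_right hf₂.bilinear.smul_right]
    linear_combination (-(c * f₁ y y' * f₂ a a')) * hsq ε hε
  · intro g hg
    obtain ⟨A, B, hA, hB, hAB⟩ := tensor_mem e P hg
    exact ⟨B, A, hB, hA, fun a y => by rw [hτ, hτ, hAB]⟩
  · simp only [hu]
    split_ifs
    · rw [← sq, hsq ε hε]
    · rw [mul_zero]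
  · intro v s hs hv i
    have hu' : ∀ i j, ε * f₂ (u i) (u j) = if i = j then 1 else 0 := fun i j => by
      rw [hu]
      split_ifs
      · rw [← sq, hsq ε hε]
      · rw [mul_zero]
    obtain ⟨L, hL⟩ : ∃ L : (Fin 3 → F) →ₗ[F] (Fin 3 → F), ∀ α, L α = α 0 • u 0 + α 1 • u 1 + α 2 • u 2 :=
      ⟨(LinearMap.proj 0).smulRight (u 0) + (LinearMap.proj 1).smulRight (u 1) + (LinearMap.proj 2).smulRight (u 2),
        fun α => rfl⟩
    have hLu : ∀ α k, ε * f₂ (L α) (u k) = α k := fun α k => by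
      rw [hL, hf₂.bilinear.add_left, hf₂.bilinear.add_left, hf₂.bilinear.smul_left, hf₂.bilinear.smul_left,
        hf₂.bilinear.smul_left, mul_add, mul_add, mul_left_comm, hu', mul_left_comm, hu', mul_left_comm, hu']
      fin_cases k <;> simp
    have hLi : Function.Injective L := fun α β h => funext fun k => by rw [← hLu α k, ← hLu β k, h]
    choose α hα using fun i => LinearMap.injective_iff_surjective.1 hLi (v i)
    have hdot : ∀ i j, α i 0 * α j 0 + α i 1 * α j 1 + α i 2 * α j 2 = if i = j then s else 0 := by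
      intro i j
      have h := hv i j
      rw [← h, ← hα i, ← hα j, hL (α j), hf₂.bilinear.add_right, hf₂.bilinear.add_right, hf₂.bilinear.smul_right,
        hf₂.bilinear.smul_right, hf₂.bilinear.smul_right, mul_add, mul_add, mul_left_comm ε, hLu, mul_left_comm ε, hLu,
        mul_left_comm ε, hLu]
      ring
    have hs1 : s = 1 := by
      have hM : Matrix.of α * (Matrix.of α)ᵀ = Matrix.diagonal fun _ => s := by
        ext i j
        simp [Matrix.mul_apply, Fin.sum_univ_three, hdot, Matrix.diagonal_apply]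
      have h := congrArg Matrix.det hM
      rw [Matrix.det_mul, Matrix.det_transpose, Matrix.det_diagonal, Finset.prod_const, Finset.card_univ,
        Fintype.card_fin, ← sq] at h
      have hd : (Matrix.of α).det ≠ 0 := fun h0 => by
        rw [h0, zero_pow (by norm_num)] at h
        exact pow_ne_zero 3 hs h.symm
      rw [hsq _ hd] at h
      linear_combination (-h) - s * hsq s hs
    have hnorm : α i 0 ^ 2 + α i 1 ^ 2 + α i 2 ^ 2 = 1 := by
      have := hdot i i
      rw [if_pos rfl, hs1] at this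
      linear_combination this
    have hvi : v i = α i 0 • u 0 + α i 1 • u 1 + α i 2 • u 2 := by rw [← hα, hL]
    by_cases h0 : α i 0 = 0 <;> by_cases h1 : α i 1 = 0 <;> by_cases h2 : α i 2 = 0
    · rw [h0, h1, h2] at hnorm; norm_num at hnorm
    · exact ⟨2, α i 2, by rw [hvi, h0, h1]; simp⟩
    · exact ⟨1, α i 1, by rw [hvi, h0, h2]; simp⟩
    · rw [h0, hsq _ h1, hsq _ h2] at hnorm
      exact absurd (show (1 : F) = 0 by linear_combination hnorm) one_ne_zero
    · exact ⟨0, α i 0, by rw [hvi, h1, h2]; simp⟩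
    · rw [h1, hsq _ h0, hsq _ h2] at hnorm
      exact absurd (show (1 : F) = 0 by linear_combination hnorm) one_ne_zero
    · rw [h2, hsq _ h0, hsq _ h1] at hnorm
      exact absurd (show (1 : F) = 0 by linear_combination hnorm) one_ne_zero
    · rw [hsq _ h0, hsq _ h1, hsq _ h2] at hnorm
      exact absurd (show (1 : F) = 0 by linear_combination h3 - hnorm) one_ne_zero
  · intro v _
    exact ⟨sT (Cfsg.sympForm m F) v 1, sT_mem_spGL m v 1, fun x => by rw [sT_mulVec hf, one_mul]⟩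

/-- Over the field with 3 elements and for m ≥ 7, suppose the standard alternating form on F^(2m) is similar, through P and e, to the tensor product of a non-degenerate symplectic form f₁ on F^(n₁) and a non-degenerate symmetric bilinear form f₂ on F^3. Then the elements of Sp_2m(3) in the stabiliser of this tensor decomposition form a subgroup that is not maximal: some subgroup lies strictly between it and Sp_2m(3). -/
theorem result {F : Type*} [Field F] [Fintype F] (m : ℕ) (hm : 7 ≤ m) (hq : Fintype.card F = 3) (n₁ : ℕ) (e : (Fin m ⊕ Fin m) ≃ Fin n₁ × Fin 3) (P : Matrix.GeneralLinearGroup (Fin m ⊕ Fin m) F) (f₁ : (Fin n₁ → F) → (Fin n₁ → F) → F) (f₂ : (Fin 3 → F) → (Fin 3 → F) → F) (hf₁ : Cfsg.Geo.IsSymplecticForm f₁) (hf₂ : Cfsg.Geo.IsSymmetricForm f₂) (hT : Cfsg.Geo.IsTensorFormStructure id (Cfsg.sympForm m F) f₁ f₂ e P) : ∃ K : Subgroup (Matrix.GeneralLinearGroup (Fin m ⊕ Fin m) F), Cfsg.Geo.tensorProductSubgroup n₁ 3 e P ⊓ Cfsg.spGL m F < K ∧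 K < Cfsg.spGL m F := by
  exact exists_overgroup m hm hq n₁ e P f₁ f₂ hf₁ hf₂ hT

end Cfsg.Agent.S5667
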