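import Cfsg.Statements.S5647
import Cfsg.Agent.Lib.Transvec.SympSpaces

set_option autoImplicit false
open Cfsg

namespace Cfsg.Agent.S5647

open CfsgLib.Transvec Matrix
open scoped MatrixGroups

variable {ι : Type} [Fintype ι] [DecidableEq ι] {F : Type*} [Field F] {f : (ι → F) → (ι → F) → F}
  {t : ℕ} {D : Fin t → Submodule F (ι → F)}

/-- The set of members in which `x` has a non-zero component. -/
noncomputable def supp (hint : DirectSum.IsInternal D) (x : ι → F) : Finset (Fin t) :=
  haveI := Classical.decEq (ι → F)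
  Finset.univ.filter fun i => dcomp hint i x ≠ 0

lemma mem_supp (hint : DirectSum.IsInternal D) {x : ι → F} {i : Fin t} :
    i ∈ supp hint x ↔ dcomp hint i x ≠ 0 := by simp [supp]

lemma supp_subset_singleton (hint : DirectSum.IsInternal D) {x : ι → F} {i : Fin t} :
    supp hint x ⊆ {i} ↔ x ∈ D i := by
  constructor
  · intro h
    rw [← sum_dcomp hint x, Finset.sum_eq_single i ?_ (fun h => absurd (Finset.mem_univ i) h)]
    · exact dcomp_mem hint i x
    · intro j _ hj
      by_contra hne
      exact hj (Finset.mem_singleton.mp (h ((mem_supp hint).mpr hne)))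
  · intro hx j hj
    rw [mem_supp, dcomp_of_mem hint hx] at hj
    rw [Finset.mem_singleton]
    by_contra hne
    exact hj (if_neg hne)

/-- The closure argument: a group containing the decomposition stabiliser and one element outside it contains
all transvections. -/
theorem all_full (hf : Cfsg.Geo.IsSymplecticForm f) (hint : DirectSum.IsInternal D)
    (horth : ∀ i j, i ≠ j → ∀ u ∈ D i, ∀ v ∈ D j, f u v = 0)
    (hnd : ∀ i, ∀ w ∈ D i, w ≠ 0 → ∃ x ∈ D i, f x w ≠ 0)
    (hdim : ∀ i j, Module.finrank F (D i) = Module.finrank F (D j))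
    (hspare : ∀ i, ∀ u ∈ D i, u ≠ 0 → ∃ a ∈ D i, f u a = 0 ∧ a ≠ 0 ∧ a ≠ u)
    {M : Subgroup (GL ι F)} (hstab : ∀ g, Iso f g → g ∈ Cfsg.Geo.decompositionStabilizer D → g ∈ M)
    {g : GL ι F} (hgM : g ∈ M) (hg : Iso f g) (hgD : g ∉ Cfsg.Geo.decompositionStabilizer D) :
    ∀ x, Full f M x := by
  classical
  -- transvections centred in a member
  have hDfull : ∀ i, ∀ v ∈ D i, Full f M v := by
    intro i v hv c
    refine hstab _ (iso_sT hf v c) ⟨1, fun k => ?_⟩
    refine map_gl_eq_of_le _ rfl fun x hx => ?_
    rw [sT_mulVec hf, Equiv.Perm.one_apply]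
    by_cases hk : k = i
    · subst hk; exact (D k).add_mem hx ((D k).smul_mem _ hv)
    · rw [horth k i hk x hx v hv, mul_zero, zero_smul, add_zero]; exact hx
  have hsplit : ∀ (x : ι → F) i, f x x = 0 → x = (x - dcomp hint i x) + dcomp hint i x := fun x i _ => by abel
  -- changing one component
  have hchange : ∀ u, Full f M u → ∀ i, dcomp hint i u ≠ 0 → ∀ a ∈ D i, a ≠ 0 →
      Full f M (u - dcomp hint i u + a) := by
    intro u hu i hui a ha ha0
    obtain ⟨h, hh, hi, he, hfix⟩ := exists_move_in hf (hDfull i) (hnd i) (dcomp_mem hint i u) ha hui ha0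
    have hrest : (h : Matrix ι ι F) *ᵥ (u - dcomp hint i u) = u - dcomp hint i u := by
      refine hfix _ fun w hw => ?_
      rw [form_eq_sum hf hint horth]
      refine Finset.sum_eq_zero fun k _ => ?_
      rw [map_sub, dcomp_of_mem hint (dcomp_mem hint i u), dcomp_of_mem hint hw]
      by_cases hk : k = i
      · subst hk; rw [if_pos rfl, if_pos rfl, sub_self, zero_left' hf]
      · rw [if_neg hk, if_neg hk, zero_right' hf]
    have := full_conj hf hh hi hu
    conv at this => arg 3; rw [hsplit u i (hf.alternating u), mulVec_add, hrest, he]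
    exact this
  -- the support is all that matters
  have hsame : ∀ u x, Full f M u → supp hint u = supp hint x → Full f M x := by
    intro u x hu hux
    suffices h : ∀ s : Finset (Fin t),
        Full f M (∑ k, if k ∈ s then dcomp hint k x else dcomp hint k u) by
      have := h Finset.univ
      simpa [sum_dcomp] using this
    intro s
    induction s using Finset.induction_on with
    | empty => simpa [sum_dcomp] using hu
    | @insert l s hl ih =>
      set y := ∑ k, if k ∈ s then dcomp hint k x else dcomp hint k u with hy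
      have hyl : dcomp hint l y = dcomp hint l u := by
        rw [hy, dcomp_sum_of_mem hint _ (fun k => by split_ifs <;> exact dcomp_mem hint k _), if_neg hl]
      have heq : (∑ k, if k ∈ insert l s then dcomp hint k x else dcomp hint k u) =
          y - dcomp hint l y + dcomp hint l x := by
        rw [hyl, hy, ← Finset.add_sum_erase _ _ (Finset.mem_univ l),
          ← Finset.add_sum_erase _ _ (Finset.mem_univ l), if_pos (Finset.mem_insert_self l s), if_neg hl]
        rw [Finset.sum_congr rfl (fun k hk => by
          simp only [Finset.mem_insert, Finset.ne_of_mem_erase hk, false_or] :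
          ∀ k ∈ Finset.univ.erase l, (if k ∈ insert l s then dcomp hint k x else dcomp hint k u) =
            if k ∈ s then dcomp hint k x else dcomp hint k u)]
        abel
      rw [heq]
      by_cases h0 : dcomp hint l u = 0
      · have hx0 : dcomp hint l x = 0 := by
          by_contra hne
          exact (mem_supp hint).mp (hux ▸ (mem_supp hint).mpr hne) h0
        rw [hyl, h0, hx0, sub_zero, add_zero]; exact ih
      · have hx0 : dcomp hint l x ≠ 0 := (mem_supp hint).mp (hux ▸ (mem_supp hint).mpr h0)
        exact hchange y ih l (by rwa [hyl]) _ (dcomp_mem hint l x) hx0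
  -- a full centre with support of size at least two
  obtain ⟨u, hu, hu2⟩ : ∃ u, Full f M u ∧ ∀ i, ¬ supp hint u ⊆ {i} := by
    by_contra hcon
    simp only [not_exists, not_and, not_forall, not_not] at hcon
    have hone : ∀ i, ∀ v ∈ D i, ∃ j, (g : Matrix ι ι F) *ᵥ v ∈ D j := fun i v hv => by
      obtain ⟨j, hj⟩ := hcon _ (full_conj hf hgM hg (hDfull i v hv))
      exact ⟨j, (supp_subset_singleton hint).mp hj⟩
    have hex : ∀ i, ∃ j, ∀ v ∈ D i, (g : Matrix ι ι F) *ᵥ v ∈ D j := by
      intro i
      by_cases htriv : ∀ v ∈ D i, v = 0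
      · exact ⟨i, fun v hv => by rw [htriv v hv, mulVec_zero]; exact (D i).zero_mem⟩
      simp only [not_forall] at htriv
      obtain ⟨v, hv, hv0⟩ := htriv
      obtain ⟨j, hj⟩ := hone i v hv
      refine ⟨j, fun w hw => ?_⟩
      obtain ⟨k, hk⟩ := hone i w hw
      by_cases hjk : j = k
      · exact hjk ▸ hk
      obtain ⟨l, hl⟩ := hone i (v + w) ((D i).add_mem hv hw)
      rw [mulVec_add] at hl
      by_contra hw'
      have hgw : (g : Matrix ι ι F) *ᵥ w ≠ 0 := fun h => hw' (by rw [h]; exact (D j).zero_mem)
      have h1 := dcomp_of_mem hint hl j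
      have h2 := dcomp_of_mem hint hl k
      rw [map_add, dcomp_of_mem hint hj, dcomp_of_mem hint hk, if_pos rfl, if_neg hjk, add_zero] at h1
      rw [map_add, dcomp_of_mem hint hj, dcomp_of_mem hint hk, if_pos rfl, if_neg (Ne.symm hjk), zero_add] at h2
      by_cases hjl : j = l
      · rw [if_neg (by rw [← hjl]; exact Ne.symm hjk)] at h2; exact hgw h2
      · rw [if_neg hjl] at h1; exact mulVec_ne_zero g hv0 h1
    choose σ hσ using hex
    have himg : ∀ i, (D i).map (Matrix.toLin' (g : Matrix ι ι F)) = D (σ i) := fun i =>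
      map_gl_eq_of_le g (hdim _ _) (hσ i)
    have hne : ∀ i, ∃ v ∈ D i, v ≠ 0 := by
      intro i
      by_contra hz
      simp only [not_exists, not_and, not_not] at hz
      refine hgD ⟨1, fun j => ?_⟩
      have hbot : ∀ j, D j = ⊥ := fun j => by
        rw [← Submodule.finrank_eq_zero, hdim j i, Submodule.finrank_eq_zero, Submodule.eq_bot_iff]; exact hz
      simp [hbot]
    have hinj : Function.Injective σ := by
      intro i j hij
      obtain ⟨v, hv, hv0⟩ := hne i
      have h1 : (g : Matrix ι ι F) *ᵥ v ∈ (D j).map (Matrix.toLin' (g : Matrix ι ι F)) := by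
        rw [himg j, ← hij]; exact hσ i v hv
      obtain ⟨w, hw, hwv⟩ := h1
      rw [Matrix.toLin'_apply] at hwv
      have hvw : w = v := mulVec_injective g hwv
      subst hvw
      by_contra hne'
      have := dcomp_of_mem hint hv i
      rw [dcomp_of_mem hint hw i, if_neg hne', if_pos rfl] at this
      exact hv0 this.symm
    exact hgD ⟨Equiv.ofBijective σ hinj.bijective_of_finite, himg⟩
  -- a full centre supported on exactly two members
  obtain ⟨a, b, hab, v, hv, hvs⟩ : ∃ a b : Fin t, a ≠ b ∧ ∃ v, Full f M v ∧ supp hint v = {a, b} := by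
    have hne : (supp hint u).Nonempty := by
      by_contra h
      rw [Finset.not_nonempty_iff_eq_empty] at h
      have : Nonempty (Fin t) := by
        by_contra ht
        refine hgD ⟨1, fun i => absurd ⟨i⟩ ht⟩
      obtain ⟨i⟩ := this
      exact hu2 i (h ▸ Finset.empty_subset _)
    obtain ⟨i, hi⟩ := hne
    obtain ⟨j, hj, hji⟩ : ∃ j ∈ supp hint u, j ≠ i := by
      by_contra h
      simp only [not_exists, not_and, not_not] at h
      exact hu2 i fun x hx => Finset.mem_singleton.mpr (h x hx)
    rw [mem_supp] at hi hj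
    obtain ⟨x, hx, hx0, hxne, hxu⟩ := hspare i _ (dcomp_mem hint i u) hi
    obtain ⟨y, hy, huy⟩ := exists_pair hf (hnd j) (dcomp_mem hint j u) hj
    have hy0 : y ≠ 0 := fun h => by rw [h, zero_right' hf] at huy; exact zero_ne_one huy
    have hyu : y ≠ dcomp hint j u := fun h => by rw [h, hf.alternating] at huy; exact zero_ne_one huy
    set u' := (u - dcomp hint i u + x) - dcomp hint j u + y with hu'
    have hcj : dcomp hint j (u - dcomp hint i u + x) = dcomp hint j u := by
      rw [map_add, map_sub, dcomp_of_mem hint (dcomp_mem hint i u), dcomp_of_mem hint hx, if_neg hji, if_neg hji]; simp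
    have hu'full : Full f M u' := by
      have := hchange _ (hchange u hu i hi x hx hxne) j (by rwa [hcj]) y hy hy0
      rwa [hcj] at this
    have hcomp : ∀ k, dcomp hint k u' = if k = i then x else if k = j then y else dcomp hint k u := by
      intro k
      rw [hu', map_add, map_sub, map_add, map_sub, dcomp_of_mem hint (dcomp_mem hint i u),
        dcomp_of_mem hint hx, dcomp_of_mem hint (dcomp_mem hint j u), dcomp_of_mem hint hy]
      by_cases hki : k = i
      · subst hki; simp [hji, Ne.symm hji]
      · by_cases hkj : k = j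
        · subst hkj; simp [hki]
        · simp [hki, hkj]
    have hfu : f u u' = 1 := by
      rw [form_eq_sum hf hint horth, Finset.sum_eq_single j ?_ (fun h => absurd (Finset.mem_univ j) h)]
      · rw [hcomp, if_neg hji, if_pos rfl, huy]
      · intro k _ hk
        rw [hcomp, if_neg hk]
        by_cases hki : k = i
        · subst hki; rw [if_pos rfl, hx0]
        · rw [if_neg hki, hf.alternating]
    refine ⟨i, j, Ne.symm hji, u + (-1 : F) • u', full_add_smul hf hu hu'full (by rw [hfu]; exact one_ne_zero) _, ?_⟩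
    ext k
    rw [mem_supp, map_add, map_smul, hcomp, Finset.mem_insert, Finset.mem_singleton, neg_one_smul,
      ← sub_eq_add_neg]
    by_cases hki : k = i
    · subst hki; simp [sub_eq_zero, Ne.symm hxu]
    · by_cases hkj : k = j
      · subst hkj; simp [hki, sub_eq_zero, Ne.symm hyu]
      · simp [hki, hkj]
  -- all pairs occur
  have hpair : ∀ c d : Fin t, c ≠ d → ∃ w, Full f M w ∧ supp hint w = {c, d} := by
    intro c d hcd
    obtain ⟨s, hsa, hsb⟩ : ∃ s : Equiv.Perm (Fin t), s a = c ∧ s b = d := by
      refine ⟨(Equiv.swap a c).trans (Equiv.swap (Equiv.swap a c b) d), ?_, ?_⟩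
      · have h1 : Equiv.swap a c b ≠ c := fun h => hab ((Equiv.swap a c).injective (by rw [h, Equiv.swap_apply_left]))
        rw [Equiv.trans_apply, Equiv.swap_apply_left, Equiv.swap_apply_of_ne_of_ne h1.symm hcd]
      · rw [Equiv.trans_apply, Equiv.swap_apply_left]
    obtain ⟨h, hiso, hmap, hzero⟩ := exists_iso_perm hf hint horth hnd hdim s
    refine ⟨_, full_conj hf (hstab h hiso ⟨s, hmap⟩) hiso hv, ?_⟩
    have hin : ∀ k ∈ supp hint v, s k ∈ supp hint ((h : Matrix ι ι F) *ᵥ v) := fun k hk =>
      (mem_supp hint).mpr fun h0 => (mem_supp hint).mp hk (hzero v k h0)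
    refine le_antisymm (fun k hk => ?_) ?_
    · by_contra hk'
      refine (mem_supp hint).mp hk ?_
      rw [← sum_dcomp hint v, mulVec_sum, map_sum]
      refine Finset.sum_eq_zero fun l _ => ?_
      have hl : (h : Matrix ι ι F) *ᵥ dcomp hint l v ∈ D (s l) := by
        rw [← hmap l]; exact Submodule.mem_map.mpr ⟨_, dcomp_mem hint l v, by rw [Matrix.toLin'_apply]⟩
      rw [dcomp_of_mem hint hl]
      by_cases hls : l ∈ supp hint v
      · rw [if_neg]
        rintro rfl
        refine hk' ?_
        rw [hvs, Finset.mem_insert, Finset.mem_singleton] at hls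
        rcases hls with rfl | rfl
        · simp [hsa]
        · simp [hsb]
      · rw [mem_supp, not_not] at hls
        rw [hls, mulVec_zero, ite_self]
    · intro k hk
      rw [Finset.mem_insert, Finset.mem_singleton] at hk
      rcases hk with rfl | rfl
      · rw [← hsa]; exact hin a (by simp [hvs])
      · rw [← hsb]; exact hin b (by simp [hvs])
  -- all supports occur
  have hall : ∀ J : Finset (Fin t), ∃ x, Full f M x ∧ supp hint x = J ∨ ∀ x, supp hint x ≠ J := by
    intro J
    induction J using Finset.induction_on with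
    | empty =>
      exact ⟨0, Or.inl ⟨full_zero hf, by ext k; simp [mem_supp]⟩⟩
    | @insert l J hl ih =>
      by_cases hex : ∃ x, supp hint x = insert l J
      swap
      · exact ⟨0, Or.inr fun x hx => hex ⟨x, hx⟩⟩
      obtain ⟨z, hz⟩ := hex
      have hzl : dcomp hint l z ≠ 0 := (mem_supp hint).mp (by simp [hz])
      by_cases hJ : J = ∅
      · refine ⟨dcomp hint l z, Or.inl ⟨hDfull l _ (dcomp_mem hint l z), ?_⟩⟩
        ext k
        rw [mem_supp, dcomp_of_mem hint (dcomp_mem hint l z), hJ]
        by_cases hk : k = l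
        · subst hk; simp [hzl]
        · simp [hk]
      have hzJ : supp hint (z - dcomp hint l z) = J := by
        ext k
        rw [mem_supp, map_sub, dcomp_of_mem hint (dcomp_mem hint l z)]
        by_cases hk : k = l
        · subst hk; simp [hl]
        · rw [if_neg hk, sub_zero, ← mem_supp, hz, Finset.mem_insert, or_iff_right hk]
      obtain ⟨x, ⟨hx, hxJ⟩ | hno⟩ := ih
      swap
      · exact absurd hzJ (hno _)
      obtain ⟨j, hj⟩ := Finset.nonempty_iff_ne_empty.mpr hJ
      have hjl : j ≠ l := fun h => hl (h ▸ hj)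
      have hxj : dcomp hint j x ≠ 0 := (mem_supp hint).mp (hxJ ▸ hj)
      obtain ⟨w, hw, hws⟩ := hpair j l hjl
      obtain ⟨y, hy, hxy⟩ := exists_pair hf (hnd j) (dcomp_mem hint j x) hxj
      have hy0 : y ≠ 0 := fun h => by rw [h, zero_right' hf] at hxy; exact zero_ne_one hxy
      have hwj : dcomp hint j w ≠ 0 := (mem_supp hint).mp (by simp [hws])
      have hw' := hchange w hw j hwj y hy hy0
      set w' := w - dcomp hint j w + y with hw'def
      have hwc : ∀ k, dcomp hint k w' = if k = j then y else dcomp hint k w := by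
        intro k
        rw [hw'def, map_add, map_sub, dcomp_of_mem hint (dcomp_mem hint j w), dcomp_of_mem hint hy]
        by_cases hk : k = j
        · subst hk; simp
        · simp [hk]
      have hwz : ∀ k, k ≠ j → k ≠ l → dcomp hint k w = 0 := fun k h1 h2 => by
        by_contra h
        have := (mem_supp hint).mpr h
        simp [hws, h1, h2] at this
      have hfxw : f x w' = 1 := by
        rw [form_eq_sum hf hint horth, Finset.sum_eq_single j ?_ (fun h => absurd (Finset.mem_univ j) h)]
        · rw [hwc, if_pos rfl, hxy]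
        · intro k _ hk
          rw [hwc, if_neg hk]
          by_cases hkl : k = l
          · have : dcomp hint k x = 0 := by
              by_contra h; exact hl (hkl ▸ hxJ ▸ (mem_supp hint).mpr h)
            rw [this, zero_left' hf]
          · rw [hwz k hk hkl, zero_right' hf]
      refine ⟨x + (1 : F) • w', Or.inl ⟨full_add_smul hf hx hw' (by rw [hfxw]; exact one_ne_zero) _, ?_⟩⟩
      ext k
      rw [one_smul, mem_supp, map_add, hwc, Finset.mem_insert]
      by_cases hkj : k = j
      · subst hkj
        rw [if_pos rfl, iff_true_right (Or.inr hj)]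
        intro h
        rw [eq_neg_of_add_eq_zero_left h, neg_left' hf, hf.alternating, neg_zero] at hxy
        exact zero_ne_one hxy
      · rw [if_neg hkj]
        by_cases hkl : k = l
        · subst hkl
          have : dcomp hint k x = 0 := by
            by_contra h; exact hl (hxJ ▸ (mem_supp hint).mpr h)
          rw [this, zero_add, iff_true_right (Or.inl rfl), ← mem_supp, hws]; simp
        · rw [hwz k hkj hkl, add_zero, ← mem_supp, hxJ, or_iff_right hkl]
  intro x
  obtain ⟨y, ⟨hy, hyx⟩ | hno⟩ := hall (supp hint x)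
  · exact hsame y x hy hyx
  · exact absurd rfl (hno x)

/-- The general form of the statement. -/
theorem result_of_le {F : Type*} [Field F] [Fintype F] (m : ℕ) (hm : 3 ≤ m) {t : ℕ} (k : ℕ) (D : Fin t → Submodule F (Fin m ⊕ Fin m → F)) (hD : Cfsg.Geo.IsNondegenerateMDecomposition (Cfsg.sympForm m F) k D) (hex : ¬ (k = 2 ∧ Fintype.card F = 2)) : Cfsg.Geo.IsMaximalIn (Cfsg.spGL m F) (Cfsg.Geo.decompositionStabilizer D ⊓ Cfsg.spGL m F) := by
  classical
  have hf := isSymplecticForm_sympForm (F := F) m
  have hint : DirectSum.IsInternal D :=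
    DirectSum.isInternal_submodule_of_iSupIndep_of_iSup_eq_top hD.decomp.indep hD.decomp.iSup_eq_top
  have hnd : ∀ i, ∀ w ∈ D i, w ≠ 0 → ∃ x ∈ D i, Cfsg.sympForm m F x w ≠ 0 :=
    fun i w hw hw0 => (hD.nondegenerate i w hw hw0).1
  have horth : ∀ i j, i ≠ j → ∀ u ∈ D i, ∀ v ∈ D j, Cfsg.sympForm m F u v = 0 := hD.orthogonal
  have hdim : ∀ i j, Module.finrank F (D i) = Module.finrank F (D j) :=
    fun i j => by rw [hD.decomp.finrank_eq, hD.decomp.finrank_eq]
  have hnot1 : k ≠ 1 := by
    intro h1
    let i : Fin t := ⟨0, lt_of_lt_of_le two_pos hD.decomp.two_le⟩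
    obtain ⟨v, hv0, hv⟩ := finrank_eq_one_iff'.mp ((hD.decomp.finrank_eq i).trans h1)
    obtain ⟨x, hx, hxv⟩ := hnd i v v.2 (fun h => hv0 (Subtype.ext h))
    obtain ⟨c, hc⟩ := hv ⟨x, hx⟩
    apply hxv
    rw [show x = c • (v : Fin m ⊕ Fin m → F) from (congrArg Subtype.val hc).symm, smul_left' hf, hf.alternating,
      mul_zero]
  have hspare : ∀ i, ∀ u ∈ D i, u ≠ 0 → ∃ a ∈ D i, Cfsg.sympForm m F u a = 0 ∧ a ≠ 0 ∧ a ≠ u := by
    intro i u hu hu0
    by_cases h3 : 3 ≤ k
    · let φ : D i →ₗ[F] F := (toBilin hf.bilinear u).comp (D i).subtype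
      have hne : ¬ LinearMap.ker φ ≤ Submodule.span F {(⟨u, hu⟩ : D i)} := by
        intro hk
        have h1 := Submodule.finrank_mono hk
        have h2 : Module.finrank F (Submodule.span F ({⟨u, hu⟩} : Set (D i))) = 1 :=
          finrank_span_singleton (fun h => hu0 (congrArg Subtype.val h))
        have h5 := LinearMap.finrank_range_add_finrank_ker φ
        have h4 := Submodule.finrank_le (LinearMap.range φ)
        rw [hD.decomp.finrank_eq] at h5
        rw [Module.finrank_self] at h4
        omega
      obtain ⟨a, ha, hau⟩ := SetLike.not_le_iff_exists.mp hne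
      refine ⟨a, a.2, LinearMap.mem_ker.mp ha, fun h => hau ?_, fun h => hau ?_⟩
      · rw [show a = 0 from Subtype.ext h]; exact Submodule.zero_mem _
      · rw [show a = ⟨u, hu⟩ from Subtype.ext h]; exact Submodule.mem_span_singleton_self _
    · have hk : k = 2 := by have := hD.decomp.pos; omega
      have hq : 2 < Fintype.card F := by
        have h1 : 1 < Fintype.card F := Fintype.one_lt_card
        have h2 : Fintype.card F ≠ 2 := fun h => hex ⟨hk, h⟩
        omega
      obtain ⟨c, hc⟩ : ∃ c : F, c ∉ ({0, 1} : Finset F) := by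
        by_contra h
        simp only [not_exists, not_not] at h
        have := Finset.card_le_card (fun x (_ : x ∈ (Finset.univ : Finset F)) => h x)
        have h2 : ({0, 1} : Finset F).card ≤ 2 := Finset.card_le_two
        rw [Finset.card_univ] at this
        omega
      simp only [Finset.mem_insert, Finset.mem_singleton, not_or] at hc
      refine ⟨c • u, (D i).smul_mem _ hu, by rw [smul_right' hf, hf.alternating, mul_zero],
        smul_ne_zero hc.1 hu0, fun h => hc.2 ?_⟩
      exact smul_left_injective F hu0 (by simpa using h)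
  refine ⟨lt_of_le_not_ge inf_le_right fun hle => ?_, fun M hHM hMK => ?_⟩
  · let i : Fin t := ⟨0, lt_of_lt_of_le two_pos hD.decomp.two_le⟩
    let j : Fin t := ⟨1, hD.decomp.two_le⟩
    have hij : i ≠ j := fun h => by simpa [i, j] using congrArg Fin.val h
    have hex' : ∀ l : Fin t, ∃ v ∈ D l, v ≠ 0 := fun l => Submodule.exists_mem_ne_zero_of_ne_bot fun h => by
      have h1 := hD.decomp.finrank_eq l
      rw [h, finrank_bot] at h1
      exact absurd hD.decomp.pos (by omega)
    obtain ⟨v, hv, hv0⟩ := hex' i
    obtain ⟨w, hw, hw0⟩ := hex' j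
    obtain ⟨x, hx, hvx⟩ := exists_pair hf (hnd i) hv hv0
    obtain ⟨σ, hσ⟩ := (hle (sT_mem_spGL m (v + w) 1)).1
    have h1 : (sT (Cfsg.sympForm m F) (v + w) 1 : Matrix (Fin m ⊕ Fin m) (Fin m ⊕ Fin m) F) *ᵥ x ∈ D (σ i) := by
      rw [← hσ i]; exact Submodule.mem_map.mpr ⟨x, hx, by rw [Matrix.toLin'_apply]⟩
    rw [sT_mulVec hf, add_right' hf, horth i j hij x hx w hw, add_zero, hf.skew x v, hvx] at h1
    have hj := dcomp_of_mem hint h1 j
    have hi := dcomp_of_mem hint h1 i
    rw [map_add, map_smul, map_add, dcomp_of_mem hint hx, dcomp_of_mem hint hv, dcomp_of_mem hint hw,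
      if_neg hij.symm, if_neg hij.symm, if_pos rfl] at hj
    rw [map_add, map_smul, map_add, dcomp_of_mem hint hx, dcomp_of_mem hint hv, dcomp_of_mem hint hw,
      if_pos rfl, if_pos rfl, if_neg hij] at hi
    simp only [one_mul, neg_smul, one_smul, zero_add, add_zero] at hi hj
    by_cases hσi : i = σ i
    · rw [if_neg (by rw [← hσi]; exact hij.symm)] at hj
      exact hw0 (neg_eq_zero.mp hj)
    · rw [if_neg hσi, ← sub_eq_add_neg, sub_eq_zero] at hi
      rw [hi, hf.alternating] at hvx
      exact zero_ne_one hvx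
  by_cases hM : M ≤ Cfsg.Geo.decompositionStabilizer D
  · exact Or.inl (le_antisymm (le_inf hM hMK) hHM)
  right
  obtain ⟨g, hgM, hg⟩ := SetLike.not_le_iff_exists.mp hM
  exact le_antisymm hMK (spGL_le_of_full
    (all_full hf hint horth hnd hdim hspare (fun h hi hs => hHM ⟨hs, hi⟩) hgM (hMK hgM) hg))

/-- For a finite field F with q elements and m ≥ 7, let D be a decomposition of F^(2m) into t ≥ 2 pairwise orthogonal subspaces of equal dimension k on each of which the standard alternating form is non-degenerate, spanning F^(2m). Unless k = 2 and q = 2, the elements of Sp_2m(F) permuting the members of D form a maximal subgroup of Sp_2m(F). -/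
theorem result {F : Type*} [Field F] [Fintype F] (m : ℕ) (hm : 7 ≤ m) {t : ℕ} (k : ℕ) (D : Fin t → Submodule F (Fin m ⊕ Fin m → F)) (hD : Cfsg.Geo.IsNondegenerateMDecomposition (Cfsg.sympForm m F) k D) (hex : ¬ (k = 2 ∧ Fintype.card F = 2)) : Cfsg.Geo.IsMaximalIn (Cfsg.spGL m F) (Cfsg.Geo.decompositionStabilizer D ⊓ Cfsg.spGL m F) :=
  result_of_le m (le_trans (by norm_num) hm) k D hD hex

end Cfsg.Agent.S5647
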