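import Cfsg.Statements.S0881
import Cfsg.Agent.Lib.Char.Zassenhaus

set_option autoImplicit false
open Cfsg

namespace Cfsg.Agent.S0881

open MulAction CfsgLib.Char CfsgLib.Char.Zassenhaus
open scoped ComplexConjugate

/-- The induced function of a point stabiliser as a sum over fixed points. -/
theorem indFun_stabilizer {G Ω : Type*} [Group G] [Fintype G] [MulAction G Ω] [Fintype Ω]
    [DecidableEq Ω] (a : Ω) {θ : stabilizer G a → ℂ}
    (hθ : Cfsg.IsClassFunction (stabilizer G a) θ) (s : Ω → G) (hs : ∀ c, s c • a = c) (g : G) :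
    Cfsg.indFun (stabilizer G a) θ g = ∑ c : Ω, if g • c = c then
      Cfsg.extendByZero (stabilizer G a) θ ((s c)⁻¹ * g * s c) else 0 := by
  classical
  have := Fintype.ofFinite (stabilizer G a)
  have hbij : Function.Bijective (fun p : Ω × stabilizer G a => s p.1 * (p.2 : G)) := by
    constructor
    · rintro ⟨c, m⟩ ⟨d, k⟩ h
      have h1 : c = d := by
        have e := congrArg (fun z : G => z • a) h
        simpa [mul_smul, mem_stabilizer_iff.mp m.2, mem_stabilizer_iff.mp k.2, hs] using e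
      subst h1
      exact Prod.ext rfl (Subtype.ext (mul_left_cancel h))
    · exact fun x => ⟨(x • a, ⟨(s (x • a))⁻¹ * x, by
        rw [mem_stabilizer_iff, mul_smul, inv_smul_eq_iff, hs]⟩), by simp⟩
  rw [indFun_apply, ← Fintype.sum_bijective _ hbij _ _ fun p => rfl, Fintype.sum_prod_type]
  have hval : ∀ c : Ω, ∀ m : stabilizer G a,
      Cfsg.extendByZero (stabilizer G a) θ ((s c * (m : G))⁻¹ * g * (s c * m)) =
        if g • c = c then Cfsg.extendByZero (stabilizer G a) θ ((s c)⁻¹ * g * s c) else 0 := by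
    intro c m
    split_ifs with hc
    · rw [← extendByZero_conj_mem θ hθ ((stabilizer G a).inv_mem m.2) ((s c)⁻¹ * g * s c)]
      congr 1
      group
    · refine extendByZero_of_notMem _ fun hm => hc ?_
      have h1 := mem_stabilizer_iff.mp hm
      rw [mul_smul, mul_smul, inv_smul_eq_iff] at h1
      simpa [mul_smul, mem_stabilizer_iff.mp m.2, hs] using h1
  simp only [hval, Finset.sum_const, Finset.card_univ, ← Nat.card_eq_fintype_card, nsmul_eq_mul]
  rw [← Finset.mul_sum, inv_mul_cancel_left₀ (card_subgroup_ne_zero _)]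


/-- Let G be a finite simple Zassenhaus group on Ω with n points, a ≠ b points with two-point stabilizer E of odd order less than n - 2, and let H be the subgroup of the stabilizer of a consisting of the identity and the elements fixing no point other than a (given here as a subgroup of the stabilizer of order one less than the number of points whose non-identity elements fix only a; it is the Frobenius kernel of the stabilizer). Let μ be a character of degree 1 of the stabilizer of a that is identically 1 on H but not identically 1. Then the function induced from μ to G is an irreducible character of G, and it takes the value 1 at every non-identity element of H. -/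
theorem result {G Ω : Type*} [Group G] [Fintype G] [MulAction G Ω] [Fintype Ω] (hZ : Cfsg.IsZassenhausGroup G Ω) {a b : Ω} (hab : a ≠ b) [IsSimpleGroup G] (hodd : Odd (Nat.card ↥(MulAction.stabilizer G a ⊓ MulAction.stabilizer G b : Subgroup G))) (hlt : Nat.card ↥(MulAction.stabilizer G a ⊓ MulAction.stabilizer G b : Subgroup G) < Fintype.card Ω - 2) (H : Subgroup G) (hHa : H ≤ MulAction.stabilizer G a) (hHcard : Nat.card H + 1 = Fintype.card Ω) (hHfix : ∀ u ∈ H, u ≠ 1 → ∀ c : Ω, u • c = c → c = a) (μ : MulAction.stabilizer G a → ℂ) (hμ : Cfsg.IsCharacter (MulAction.stabilizer G a) μ ∧ μ 1 = 1) (hμH : ∀ u : MulAction.stabilizer G a, (u : G) ∈ H → μ u = 1) (hμne : μ ≠ fun _ => 1) : Cfsg.IsIrrCharacter G (Cfsg.indFun (MulAction.stabilizer G a) μ) ∧ ∀ u ∈ H, u ≠ 1 → Cfsg.indFun (MulAction.stabilizer G a) μ u = 1 := by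
  classical
  set E : Subgroup G := stabilizer G a ⊓ stabilizer G b with hEdef
  have := Fintype.ofFinite (stabilizer G a)
  have := Fintype.ofFinite E
  have := Fintype.ofFinite H
  obtain ⟨t, -, hta, htb⟩ := exists_swap hZ hab hodd
  set lam := linearHom hμ.1 hμ.2 with hlam
  have hlamμ : ∀ x : (stabilizer G a), (lam x : ℂ) = μ x := linearHom_apply hμ.1 hμ.2
  have hmul : ∀ x y : (stabilizer G a), μ (x * y) = μ x * μ y := linear_map_mul hμ.1 hμ.2
  -- a section
  have := CfsgLib.Char.Zassenhaus.isPretransitive hZ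
  choose s₀ hs₀ using fun c : Ω => MulAction.exists_smul_eq G a c
  let s : Ω → G := Function.update (Function.update s₀ b t) a 1
  have hsa : s a = 1 := Function.update_self ..
  have hsb : s b = t := by
    simp only [s, Function.update_of_ne hab.symm, Function.update_self]
  have hs : ∀ c, s c • a = c := by
    intro c
    rcases eq_or_ne c a with rfl | hca
    · rw [hsa, one_smul]
    rcases eq_or_ne c b with rfl | hcb
    · rw [hsb, hta]
    · simp only [s, Function.update_of_ne hca, Function.update_of_ne hcb, hs₀]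
  have hμcl := isClassFunction_of_isCharacter hμ.1
  set Φ := Cfsg.indFun (stabilizer G a) μ with hΦ
  have hΦu : ∀ u ∈ H, u ≠ 1 → Φ u = 1 := by
    intro u hu hu1
    rw [hΦ, indFun_stabilizer a hμcl s hs, Finset.sum_eq_single a (fun c _ hc => if_neg fun h =>
      hc (hHfix u hu hu1 c h)) (fun h => absurd (Finset.mem_univ _) h),
      if_pos (mem_stabilizer_iff.mp (hHa hu)), hsa, inv_one, one_mul, mul_one,
      extendByZero_of_mem μ (hHa hu)]
    exact hμH ⟨u, hHa hu⟩ hu
  refine ⟨?_, hΦu⟩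
  -- the swap acts on `μ` as inversion
  have hswap : ∀ (y : G) (hy : y ∈ E) (hy' : t⁻¹ * y * t ∈ (stabilizer G a)),
      μ ⟨t⁻¹ * y * t, hy'⟩ = conj (μ ⟨y, hy.1⟩) := by
    intro y hy hy'
    have h := congrArg Units.val (map_mul_map_swap hZ hab lam hta htb hy)
    rw [Units.val_mul, Units.val_one, hlamμ, hlamμ] at h
    rw [← char_inv hμ.1]
    have h1 : μ (⟨y, hy.1⟩ : (stabilizer G a))⁻¹ * μ ⟨y, hy.1⟩ = 1 := by rw [← hmul, inv_mul_cancel, hμ.2]
    calc μ ⟨t⁻¹ * y * t, hy'⟩ = μ (⟨y, hy.1⟩ : (stabilizer G a))⁻¹ * (μ ⟨y, hy.1⟩ * μ ⟨t⁻¹ * y * t, hy'⟩) := by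
          rw [← mul_assoc, h1, one_mul]
      _ = _ := by rw [h, mul_one]
  have hyE : ∀ y : E, y ≠ 1 → Φ (y : G) = μ ⟨y, y.2.1⟩ + conj (μ ⟨y, y.2.1⟩) := by
    intro y hy1
    have hya := mem_stabilizer_iff.mp y.2.1
    have hyb := mem_stabilizer_iff.mp y.2.2
    rw [hΦ, indFun_stabilizer a hμcl s hs,
      ← Finset.sum_subset (Finset.subset_univ ({a, b} : Finset Ω)) (fun c _ hc => ?_),
      Finset.sum_pair hab]
    · rw [if_pos hya, if_pos hyb, hsa, hsb, inv_one, one_mul, mul_one,
        extendByZero_of_mem μ y.2.1]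
      congr 1
      have hm : t⁻¹ * (y : G) * t ∈ (stabilizer G a) := by
        rw [mem_stabilizer_iff, mul_smul, mul_smul, hta, hyb, inv_smul_eq_iff, hta]
      rw [extendByZero_of_mem μ hm]
      exact hswap y y.2 hm
    · simp only [Finset.mem_insert, Finset.mem_singleton, not_or] at hc
      refine if_neg fun h => hy1 (Subtype.ext ?_)
      exact eq_one_of_fix hZ hab (Ne.symm hc.2) (Ne.symm hc.1) hya hyb h
  -- `μ` is nontrivial on the two-point stabiliser, of odd order
  let r : E →* ℂ :=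
    { toFun := fun y => μ ⟨y, y.2.1⟩ * μ ⟨y, y.2.1⟩
      map_one' := by
        show μ 1 * μ 1 = 1
        rw [hμ.2, one_mul]
      map_mul' := fun y z => by
        show μ (⟨y, y.2.1⟩ * ⟨z, z.2.1⟩) * μ (⟨y, y.2.1⟩ * ⟨z, z.2.1⟩) = _
        rw [hmul]
        ring }
  have hr : r ≠ 1 := by
    intro hr
    apply hμne
    funext x
    obtain ⟨u, hu, y, hy, hxy⟩ := decompose hZ hab hHa hHcard hHfix x.2
    have hx : x = (⟨u, hHa hu⟩ : (stabilizer G a)) * ⟨y, hy.1⟩ := Subtype.ext hxy
    rw [hx, hmul, hμH _ hu, one_mul]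
    obtain ⟨j, hj⟩ : Odd (orderOf (⟨y, hy⟩ : E)) := hodd.of_dvd_nat (orderOf_dvd_natCard _)
    have h1 : μ ⟨y, hy.1⟩ * μ ⟨y, hy.1⟩ = 1 := congrArg (fun q : E →* ℂ => q ⟨y, hy⟩) hr
    have h2 : ∀ k : ℕ, μ ((⟨y, hy.1⟩ : (stabilizer G a)) ^ k) = μ ⟨y, hy.1⟩ ^ k := by
      intro k
      induction k with
      | zero => rw [pow_zero, pow_zero, hμ.2]
      | succ k ih => rw [pow_succ, pow_succ, hmul, ih]
    have h3 : (⟨y, hy.1⟩ : (stabilizer G a)) ^ (2 * j + 1) = 1 := Subtype.ext (by
      show y ^ (2 * j + 1) = 1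
      rw [← hj, Subgroup.orderOf_mk, pow_orderOf_eq_one])
    have h4 := h2 (2 * j + 1)
    rw [h3, hμ.2, pow_succ, pow_mul, pow_two, h1, one_pow, one_mul] at h4
    exact h4.symm
  have hsumr : ∑ y : E, r y = 0 := sum_hom_units_eq_zero r hr
  refine irr_of_norm_one (isCharacter_indFun (stabilizer G a) hμ.1) ?_
  rw [frobenius_reciprocity (stabilizer G a) μ (isClassFunction_of_isCharacter (isCharacter_indFun (stabilizer G a) hμ.1))]
  set F : (stabilizer G a) → ℂ := fun x => μ x * conj (Φ (x : G)) with hF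
  show (Nat.card (stabilizer G a) : ℂ)⁻¹ * ∑ x : (stabilizer G a), F x = 1
  have hFconj : ∀ g x : (stabilizer G a), F (g * x * g⁻¹) = F x := by
    intro g x
    have hΦcl : Cfsg.IsClassFunction G Φ := by rw [hΦ]; exact isClassFunction_indFun _ μ
    simp only [hF]
    rw [hμcl x g, Subgroup.coe_mul, Subgroup.coe_mul, Subgroup.coe_inv, hΦcl (x : G) (g : G)]
  have hsplit := Finset.sum_filter_add_sum_filter_not (Finset.univ : Finset (stabilizer G a))
    (fun x : (stabilizer G a) => (x : G) ∈ H) F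
  have hh : Fintype.card Ω = Nat.card H + 1 := hHcard.symm
  have hpartH : ∑ x ∈ Finset.univ.filter (fun x : (stabilizer G a) => (x : G) ∈ H), F x =
      2 * (Nat.card H : ℂ) := by
    refine (Finset.sum_bij' (f := F) (t := (Finset.univ : Finset H)) (g := fun u : H => F ⟨u, hHa u.2⟩)
      (fun x hx => (⟨x, (Finset.mem_filter.mp hx).2⟩ : H)) (fun u _ => (⟨u, hHa u.2⟩ : (stabilizer G a)))
      (fun _ _ => Finset.mem_univ _) (fun u _ => Finset.mem_filter.mpr ⟨Finset.mem_univ _, u.2⟩)
      (fun _ _ => rfl) (fun _ _ => rfl) (fun _ _ => rfl)).trans ?_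
    rw [← Finset.add_sum_erase _ _ (Finset.mem_univ (1 : H))]
    rw [Finset.sum_congr rfl (g := fun _ => (1 : ℂ)) fun u hu => ?_, Finset.sum_const,
      Finset.card_erase_of_mem (Finset.mem_univ _), Finset.card_univ, ← Nat.card_eq_fintype_card,
      nsmul_eq_mul, mul_one]
    · have h1 : F 1 = (Fintype.card Ω : ℂ) := by
        simp only [hF, hμ.2, one_mul, OneMemClass.coe_one, hΦ, indFun_one, mul_one, map_natCast,
          Nat.cast_inj]
        rw [index_stabilizer_of_transitive, Nat.card_eq_fintype_card]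
      rw [show (⟨((1 : H) : G), hHa (1 : H).2⟩ : (stabilizer G a)) = 1 from rfl, h1, hh,
        Nat.cast_sub (Nat.card_pos (α := H))]
      push_cast
      ring
    · have hu1 : (u : G) ≠ 1 := fun h => Finset.ne_of_mem_erase hu (Subtype.ext h)
      simp only [hF]
      rw [hΦu u u.2 hu1, hμH ⟨u, hHa u.2⟩ u.2, map_one, mul_one]
  have hpartE : ∑ x ∈ Finset.univ.filter (fun x : (stabilizer G a) => ¬ (x : G) ∈ H), F x =
      (Nat.card H : ℂ) * ((Nat.card E : ℂ) - 2) := by
    have hbz : ∀ z ∈ E, z ≠ 1 → ∀ c : Ω, z • c = c → c = a ∨ c = b := fun z hz hz1 c hc => by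
      by_contra hne
      push Not at hne
      exact hz1 (eq_one_of_fix hZ hab (Ne.symm hne.2) (Ne.symm hne.1)
        (mem_stabilizer_iff.mp hz.1) (mem_stabilizer_iff.mp hz.2) hc)
    have hHinE : ∀ y ∈ E, y ∈ H → y = 1 := fun y hy hyH =>
      eq_one_of_smul_b hab hHfix hyH (mem_stabilizer_iff.mp hy.2)
    rw [← Finset.sum_bij (s := (Finset.univ : Finset H) ×ˢ Finset.univ.erase (1 : E))
      (f := fun p => F (⟨p.2, p.2.2.1⟩ : (stabilizer G a)))
      (fun p _ => (⟨p.1, hHa p.1.2⟩ : (stabilizer G a)) * ⟨p.2, p.2.2.1⟩ * (⟨p.1, hHa p.1.2⟩ : (stabilizer G a))⁻¹)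
      (fun p hp => ?_) (fun p hp q hq e => ?_) (fun x hx => ?_) (fun p hp => (hFconj _ _).symm)]
    · rw [Finset.sum_product]
      dsimp only
      refine (Finset.sum_congr rfl (g := fun _ : H => ∑ y ∈ Finset.univ.erase (1 : E),
        F (⟨y, y.2.1⟩ : stabilizer G a)) fun _ _ => rfl).trans ?_
      rw [Finset.sum_const, Finset.card_univ, ← Nat.card_eq_fintype_card, nsmul_eq_mul]
      congr 1
      have h1 : ∀ y ∈ Finset.univ.erase (1 : E), F (⟨y, y.2.1⟩ : (stabilizer G a)) = 1 + r y := by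
        intro y hy
        have h0 : μ (⟨y, y.2.1⟩ : (stabilizer G a))⁻¹ * μ ⟨y, y.2.1⟩ = 1 := by rw [← hmul, inv_mul_cancel, hμ.2]
        simp only [hF]
        rw [hyE y (Finset.ne_of_mem_erase hy), map_add, Complex.conj_conj,
          ← char_inv hμ.1, mul_add, mul_comm, h0]
        rfl
      rw [Finset.sum_congr rfl h1, Finset.sum_add_distrib, Finset.sum_const,
        Finset.card_erase_of_mem (Finset.mem_univ _), Finset.sum_erase_eq_sub (Finset.mem_univ _),
        hsumr, map_one, Finset.card_univ, ← Nat.card_eq_fintype_card, nsmul_eq_mul,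
        Nat.cast_sub (Nat.card_pos (α := E))]
      push_cast
      ring
    · simp only [Finset.mem_product, Finset.mem_erase, Finset.mem_univ, and_true, true_and] at hp
      refine Finset.mem_filter.mpr ⟨Finset.mem_univ _, fun hmem => hp (Subtype.ext ?_)⟩
      have h2 := H.mul_mem (H.mul_mem (H.inv_mem p.1.2) hmem) p.1.2
      simp only [Subgroup.coe_mul, Subgroup.coe_inv] at h2
      rw [show (p.1 : G)⁻¹ * ((p.1 : G) * (p.2 : G) * (p.1 : G)⁻¹) * (p.1 : G) = (p.2 : G) by group]
        at h2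
      exact hHinE _ p.2.2 h2
    · simp only [Finset.mem_product, Finset.mem_erase, Finset.mem_univ, and_true, true_and] at hp hq
      have := hZ.1
      obtain ⟨h1, h2⟩ := conj_injective hab hHfix p.1.2 q.1.2 p.2.2
        (congrArg (fun z : (stabilizer G a) => (z : G)) e)
        (hbz _ q.2.2 fun h => hq (Subtype.ext h))
        (fun h => hab.symm (smul_left_cancel (p.1 : G)
          (h.trans (mem_stabilizer_iff.mp (hHa p.1.2)).symm)))
        (mem_stabilizer_iff.mp (hHa q.1.2))
      exact Prod.ext (Subtype.ext h1) (Subtype.ext h2)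
    · obtain ⟨u, hu, y, hy, hy1, hxy⟩ :=
        exists_conj_mem hZ hab hHa hHcard hHfix x.2 (Finset.mem_filter.mp hx).2
      exact ⟨(⟨u, hu⟩, ⟨y, hy⟩), Finset.mem_product.mpr ⟨Finset.mem_univ _, Finset.mem_erase.mpr
        ⟨fun h => hy1 (congrArg Subtype.val h), Finset.mem_univ _⟩⟩, Subtype.ext hxy.symm⟩
  rw [← hsplit, hpartH, hpartE]
  have hcardB : Nat.card (stabilizer G a) = Nat.card H * Nat.card E := by
    have h1 := card_stabilizer_mul hZ a
    rw [← card_group hZ hab, hh, Nat.add_sub_cancel, mul_assoc] at h1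
    exact Nat.eq_of_mul_eq_mul_left (by omega) h1
  have hB0 : (Nat.card (stabilizer G a) : ℂ) ≠ 0 := card_subgroup_ne_zero (stabilizer G a)
  rw [inv_mul_eq_iff_eq_mul₀ hB0, mul_one, hcardB]
  push_cast
  ring

end Cfsg.Agent.S0881
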