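import Cfsg.Statements.S0883
import Cfsg.Agent.Lib.Char.Zassenhaus

set_option autoImplicit false
open Cfsg

namespace Cfsg.Agent.S0883

open MulAction CfsgLib.Char CfsgLib.Char.Zassenhaus


/-- Let G be a finite simple Zassenhaus group on Ω with h + 1 points whose two-point stabilizer E has odd order e with 2e < h - 1, and let H be the subgroup of the stabilizer of a consisting of the identity and the elements fixing no point other than a (given here as a subgroup of the stabilizer of order one less than the number of points whose non-identity elements fix only a; it is the Frobenius kernel of the stabilizer). If a non-identity element u of H is a product of two involutions of G, then u is an involution. -/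
theorem result {G Ω : Type*} [Group G] [Finite G] [MulAction G Ω] [Fintype Ω] (hZ : Cfsg.IsZassenhausGroup G Ω) {a b : Ω} (hab : a ≠ b) [IsSimpleGroup G] (h e : ℕ) (hh : Fintype.card Ω = h + 1) (he : Nat.card ↥(MulAction.stabilizer G a ⊓ MulAction.stabilizer G b : Subgroup G) = e) (hodd : Odd e) (hlt : 2 * e < h - 1) (H : Subgroup G) (hHa : H ≤ MulAction.stabilizer G a) (hHcard : Nat.card H + 1 = Fintype.card Ω) (hHfix : ∀ u ∈ H, u ≠ 1 → ∀ c : Ω, u • c = c → c = a) (u : G) (hu : u ∈ H) (hu1 : u ≠ 1) (x y : G) (hx : orderOf x = 2) (hy : orderOf y = 2) (hxy : x * y = u) : orderOf u = 2 := by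
  classical
  have := Fintype.ofFinite G
  have := Fintype.ofFinite H
  have hodd' : Odd (Nat.card ↥(stabilizer G a ⊓ stabilizer G b : Subgroup G)) := he.symm ▸ hodd
  set E : Subgroup G := stabilizer G a ⊓ stabilizer G b with hEdef
  have hxx : x * x = 1 := by rw [← pow_two, ← hx, pow_orderOf_eq_one]
  have hyy : y * y = 1 := by rw [← pow_two, ← hy, pow_orderOf_eq_one]
  have hxinv : x⁻¹ = x := inv_eq_of_mul_eq_one_left hxx
  have hua : u • a = a := mem_stabilizer_iff.mp (hHa hu)
  have hxa : x • a = a := by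
    refine hHfix u⁻¹ (H.inv_mem hu) (inv_ne_one.mpr hu1) _ ?_
    have e : u⁻¹ * x = x * u := by
      rw [← hxy, ← mul_assoc, hxx, one_mul, mul_inv_rev, hxinv, inv_eq_of_mul_eq_one_left hyy,
        mul_assoc, hxx, mul_one]
    rw [← mul_smul, e, mul_smul, hua]
  have hmemH : ∀ z : G, orderOf z = 2 → z • a = a → z ∈ H := by
    intro z hz hza
    by_contra hzH
    obtain ⟨v, -, w, hw, -, rfl⟩ := exists_conj_mem hZ hab hHa hHcard hHfix hza hzH
    rw [← MulAut.conj_apply, MulEquiv.orderOf_eq] at hz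
    exact (Nat.not_even_iff_odd.mpr hodd')
      (even_iff_two_dvd.mpr (hz ▸ Subgroup.orderOf_dvd_natCard _ hw))
  have hxH : x ∈ H := hmemH x hx hxa
  have hya : y • a = a := by
    rw [show y = x * u by rw [← hxy, ← mul_assoc, hxx, one_mul], mul_smul, hua, hxa]
  have hyH : y ∈ H := hmemH y hy hya
  obtain ⟨hcard, hfix⟩ := card_involution hZ hab hh he hodd
  have hev : Even h := by
    by_contra hev
    have h1 := hfix x hx
    rw [if_neg hev, Nat.card_eq_zero] at h1
    rcases h1 with h1 | h1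
    · exact h1.elim ⟨a, hxa⟩
    · exact not_finite {c : Ω // x • c = c}
  rw [if_pos hev] at hcard
  -- the involutions fixing a given point
  have hk : Nat.card {z : G // orderOf z = 2 ∧ z • a = a} = e := by
    have hfib : ∀ c : Ω, Nat.card {z : G // orderOf z = 2 ∧ z • c = c} =
        Nat.card {z : G // orderOf z = 2 ∧ z • a = a} := by
      intro c
      obtain ⟨g, rfl⟩ := (CfsgLib.Char.Zassenhaus.isPretransitive hZ).exists_smul_eq a c
      refine (Nat.card_congr ((MulAut.conj g).toEquiv.subtypeEquiv fun z => ?_)).symm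
      show _ ↔ orderOf (MulAut.conj g z) = 2 ∧ (g * z * g⁻¹) • g • a = g • a
      rw [MulEquiv.orderOf_eq, mul_smul, mul_smul, inv_smul_smul, smul_left_cancel_iff]
    have h1 : Nat.card (Σ c : Ω, {z : G // orderOf z = 2 ∧ z • c = c}) = e * (h + 1) := by
      rw [← hcard]
      refine Nat.card_congr (Equiv.ofBijective (fun p => (⟨p.2.1, p.2.2.1⟩ : {z : G // orderOf z = 2}))
        ⟨?_, ?_⟩)
      · rintro ⟨c, z, hz⟩ ⟨d, w, hw⟩ e'
        obtain rfl : z = w := congrArg Subtype.val e'
        obtain rfl : c = d := fix_unique_of_involution hZ hodd' hab hz.1 hz.2 hw.2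
        rfl
      · rintro ⟨z, hz⟩
        have h2 := hfix z hz
        rw [if_pos hev] at h2
        obtain ⟨⟨c, hc⟩⟩ := (Nat.card_eq_one_iff_unique.mp h2).2
        exact ⟨⟨c, z, hz, hc⟩, rfl⟩
    rw [Nat.card_sigma, Finset.sum_congr rfl (fun c _ => hfib c), Finset.sum_const, Finset.card_univ,
      smul_eq_mul, hh, mul_comm e] at h1
    exact Nat.eq_of_mul_eq_mul_left (Nat.succ_pos h) h1
  have hfpf := fpf hZ hab hHa hHfix
  have hcomm : ∀ k ∈ H, k * x = x * k := by
    intro k hk'
    let f : E → {z : G // orderOf z = 2 ∧ z • a = a} := fun ε =>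
      ⟨(ε : G) * x * (ε : G)⁻¹, by rw [← MulAut.conj_apply, MulEquiv.orderOf_eq, hx],
        (stabilizer G a).mul_mem ((stabilizer G a).mul_mem ε.2.1 hxa)
          ((stabilizer G a).inv_mem ε.2.1)⟩
    have hx1 : x ≠ 1 := fun h => by rw [h, orderOf_one] at hx; exact absurd hx (by norm_num)
    have hinj : Function.Injective f := by
      intro ε ε' h'
      have h'' : (ε : G) * x * (ε : G)⁻¹ = ε' * x * (ε' : G)⁻¹ := congrArg Subtype.val h'
      by_contra hne
      refine hx1 (CfsgLib.Solvable.eq_one_of_fpf hfpf (E.mul_mem (E.inv_mem ε'.2) ε.2)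
        (fun h => hne (Subtype.ext (inv_mul_eq_one.mp h).symm)) hxH ?_)
      calc (ε' : G)⁻¹ * ε * x * ((ε' : G)⁻¹ * ε)⁻¹
          = (ε' : G)⁻¹ * (ε * x * (ε : G)⁻¹) * ε' := by group
        _ = x := by rw [h'']; group
    have hb := (Nat.bijective_iff_injective_and_card f).mpr ⟨hinj, by rw [hk]; exact he⟩
    obtain ⟨ε, hε⟩ := hb.2 ⟨k * x * k⁻¹, by rw [← MulAut.conj_apply, MulEquiv.orderOf_eq, hx],
      (stabilizer G a).mul_mem ((stabilizer G a).mul_mem (hHa hk') hxa)
        ((stabilizer G a).inv_mem (hHa hk'))⟩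
    have hε' : (ε : G) * x * (ε : G)⁻¹ = k * x * k⁻¹ := congrArg Subtype.val hε
    set d := (ε : G)⁻¹ * k with hd
    have hdx : d * x * d⁻¹ = x := by
      calc d * x * d⁻¹ = (ε : G)⁻¹ * (k * x * k⁻¹) * ε := by rw [hd]; group
        _ = x := by rw [← hε']; group
    have hdH : d ∈ H := by
      by_contra hdH
      obtain ⟨v, hv, w, hw, hw1, hdw⟩ := exists_conj_mem hZ hab hHa hHcard hHfix
        ((stabilizer G a).mul_mem ((stabilizer G a).inv_mem ε.2.1) (hHa hk')) hdH
      have hd' : d = v * w * v⁻¹ := hdw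
      have hv' : v⁻¹ * x * v ∈ H := H.mul_mem (H.mul_mem (H.inv_mem hv) hxH) hv
      have h1 := CfsgLib.Solvable.eq_one_of_fpf hfpf hw hw1 hv' (by
        calc w * (v⁻¹ * x * v) * w⁻¹ = v⁻¹ * (v * w * v⁻¹ * x * (v * w * v⁻¹)⁻¹) * v := by group
          _ = v⁻¹ * x * v := by rw [← hd', hdx])
      exact hx1 (by
        calc x = v * (v⁻¹ * x * v) * v⁻¹ := by group
          _ = 1 := by rw [h1]; group)
    have hε1 : (ε : G) = 1 := by
      refine eq_one_of_smul_b hab hHfix ?_ (mem_stabilizer_iff.mp ε.2.2)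
      have := H.mul_mem hk' (H.inv_mem hdH)
      simpa [hd] using this
    rw [hε1, one_mul, inv_one, mul_one, eq_mul_inv_iff_mul_eq] at hε'
    exact hε'.symm
  refine orderOf_eq_prime ?_ hu1
  rw [← hxy, pow_two, mul_assoc, ← mul_assoc y x, hcomm y hyH, mul_assoc x y y, hyy, mul_one, hxx]

end Cfsg.Agent.S0883
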