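import Cfsg.Statements.S5653
import Cfsg.Agent.Lib.Transvec.UnitarySub
import Cfsg.Agent.Lib.Transvec.HermForm

set_option autoImplicit false
open Cfsg

namespace Cfsg.Agent.S5653

open CfsgLib.Transvec CfsgLib.Transvec.Unitary Matrix
open scoped MatrixGroups

variable {ι : Type} [Fintype ι] [DecidableEq ι] {F : Type*} [Field F] [Finite F] {σ : F ≃+* F}
  {f : (ι → F) → (ι → F) → F}

/-- A group containing the stabiliser of a totally singular subspace and one more element contains all unitary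
transvections. -/
theorem all_full (hf : Cfsg.Geo.IsUnitaryForm σ f) {W : Submodule F (ι → F)}
    (hW : ∀ u ∈ W, ∀ v ∈ W, f u v = 0) {M : Subgroup (GL ι F)}
    (hstab : ∀ g, Iso f g → (g : Matrix ι ι F).det = 1 → g ∈ Cfsg.Geo.subspaceStabilizer W → g ∈ M)
    {g : GL ι F} (hgM : g ∈ M) (hg : Iso f g) (hgW : g ∉ Cfsg.Geo.subspaceStabilizer W) :
    ∀ x, f x x = 0 → UFull σ f M x := by
  obtain ⟨P, hP⟩ : ∃ P, P = perpU hf W := ⟨_, rfl⟩
  have hmemP : ∀ {x}, x ∈ P ↔ ∀ w ∈ W, f x w = 0 := fun {x} => by rw [hP]; rfl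
  have hWP : ∀ w ∈ W, w ∈ P := fun w hw => hmemP.mpr (hW w hw)
  have hPP : perpU hf P = W := by rw [hP, perpU_perpU hf]
  have hperp : ∀ v ∈ P, f v v = 0 → UFull σ f M v := fun v hv h0 => ⟨h0, fun c hc =>
    hstab _ (iso_uT hf h0 hc) ((mem_specialLinear_iff _).mp (transv_mem_specialLinear _ _))
      (uT_mem_stab_of_perp hf h0 (hP ▸ hv) c)⟩
  -- a full isotropic vector outside the orthogonal of W
  obtain ⟨u₀, hu₀, hu₀P⟩ : ∃ u, UFull σ f M u ∧ u ∉ P := by
    by_contra hcon
    simp only [not_exists, not_and, not_not] at hcon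
    have himg : ∀ v ∈ P, f v v = 0 → (g : Matrix ι ι F) *ᵥ v ∈ P := fun v hv h0 =>
      hcon _ (ufull_conj hf hgM hg (hperp v hv h0))
    by_cases hiso : ∀ v ∈ P, f v v = 0 → v ∈ W
    · exact hgW (mem_subspaceStabilizer_of_maps fun w hw => hiso _ (himg w (hWP w hw) (hW w hw w hw))
        (by rw [hg]; exact hW w hw w hw))
    simp only [not_forall] at hiso
    obtain ⟨v, hv, hvv, hvW⟩ := hiso
    obtain ⟨z, hz, hzv⟩ : ∃ z ∈ P, f z v ≠ 0 := by
      by_contra h
      simp only [not_exists, not_and, not_not] at h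
      exact hvW (hPP ▸ fun z hz => (eq_zero_comm hf).mp (h z hz))
    have key : ∀ x ∈ P, f x v ≠ 0 → (g : Matrix ι ι F) *ᵥ x ∈ P := by
      intro x hx hxv
      obtain ⟨t, ht⟩ := exists_trace_eq hf.ne_refl hf.involutive (b := -f x x) (by rw [map_neg, self_fixed hf])
      obtain ⟨a, ha⟩ : ∃ a, a = t / f v x := ⟨_, rfl⟩
      have hvx : f v x ≠ 0 := fun h => hxv ((eq_zero_comm hf).mp h)
      have h1 : a * f v x = t := by rw [ha, div_mul_cancel₀ t hvx]
      have h2 : σ a * f x v = σ t := by rw [← h1, map_mul, ← hf.herm]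
      have hi : f (x + a • v) (x + a • v) = 0 := by
        rw [hf.add_left, Unitary.add_right' hf, Unitary.add_right' hf, hf.smul_left, hf.smul_left,
          Unitary.smul_right' hf, Unitary.smul_right' hf, hvv]
        linear_combination h1 + h2 + ht
      have h3 := P.sub_mem (himg _ (P.add_mem hx (P.smul_mem a hv)) hi) (P.smul_mem a (himg v hv hvv))
      rwa [mulVec_add, mulVec_smul, add_sub_cancel_right] at h3
    have hall : ∀ x ∈ P, (g : Matrix ι ι F) *ᵥ x ∈ P := by
      intro x hx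
      by_cases hxv : f x v = 0
      · have h := P.sub_mem (key (x + z) (P.add_mem hx hz) (by rwa [hf.add_left, hxv, zero_add])) (key z hz hzv)
        rwa [mulVec_add, add_sub_cancel_right] at h
      · exact key x hx hxv
    refine hgW (mem_subspaceStabilizer_of_maps fun w hw => ?_)
    rw [← hPP]
    intro y hy
    rw [← map_gl_eq_of_le g rfl hall] at hy
    obtain ⟨z, hz, rfl⟩ := hy
    rw [Matrix.toLin'_apply, hg]
    exact (eq_zero_comm hf).mp (hmemP.mp hz w hw)
  -- moving inside a coset of W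
  have hclose : ∀ u x, UFull σ f M u → u ∉ P → f x x = 0 → x - u ∈ W → UFull σ f M x := by
    have hstep : ∀ u x, UFull σ f M u → f x x = 0 → x - u ∈ W → f u (x - u) ≠ 0 → UFull σ f M x := by
      intro u x hu hxx hd hne
      have hdd : f (x - u) (x - u) = 0 := hW _ hd _ hd
      have hskew : σ (f u (x - u)) = -f u (x - u) := by
        have h := hdd
        rw [sub_left' hf, sub_right' hf, sub_right' hf, hxx, hu.1] at h
        rw [sub_right' hf, map_sub, ← hf.herm, self_fixed hf, hu.1]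
        linear_combination -h
      have hc : (f u (x - u))⁻¹ + σ (f u (x - u))⁻¹ = 0 := by rw [map_inv₀, hskew, inv_neg, add_neg_cancel]
      have h1 := uT_add_smul hf hu hdd hc ((hperp _ (hWP _ hd) hdd).2 _ hc)
      rwa [inv_mul_cancel₀ hne, one_smul, add_sub_cancel] at h1
    intro u x hu huP hxx hd
    by_cases hs : f u (x - u) = 0
    · rw [hmemP] at huP
      simp only [not_forall] at huP
      obtain ⟨w, hw, huw⟩ := huP
      obtain ⟨c, hc0, hc⟩ := exists_skew hf.ne_refl hf.involutive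
      obtain ⟨w₁, hw₁, huw₁⟩ : ∃ w₁ ∈ W, f u w₁ = c :=
        ⟨σ (c / f u w) • w, W.smul_mem _ hw, by
          rw [Unitary.smul_right' hf, hf.involutive, div_mul_cancel₀ c huw]⟩
      have hw₁u : f w₁ u = σ c := by rw [hf.herm, huw₁]
      have h11 : f (u + w₁) (u + w₁) = 0 := by
        rw [hf.add_left, Unitary.add_right' hf, Unitary.add_right' hf, hu.1, huw₁, hw₁u, hW _ hw₁ _ hw₁]
        linear_combination hc
      have h2 := hstep u (u + w₁) hu h11 (by rwa [add_sub_cancel_left])
        (by rw [add_sub_cancel_left, huw₁]; exact hc0)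
      refine hstep _ x h2 hxx (by rw [← sub_sub]; exact W.sub_mem hd hw₁) ?_
      rw [← sub_sub, hf.add_left, sub_right' hf u, sub_right' hf w₁, hs, huw₁, hW _ hw₁ _ hd, hW _ hw₁ _ hw₁]
      simpa using hc0
    · exact hstep u x hu hxx hd hs
  -- moving to a new coset
  have hmove : ∀ u x w, UFull σ f M u → w ∈ W → f u w = 1 → f (x - u) w = 0 → f x x = 0 → UFull σ f M x := by
    intro u x w hu hw huw hyw hxx
    obtain ⟨y, hy⟩ : ∃ y, y = x - u := ⟨_, rfl⟩
    rw [← hy] at hyw
    have hwy : f w y = 0 := (eq_zero_comm hf).mp hyw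
    have hww : f w w = 0 := hW w hw w hw
    obtain ⟨l, hl⟩ := exists_trace_eq hf.ne_refl hf.involutive (b := f y y) (self_fixed hf y)
    have hd1 : uvec f w ⬝ᵥ y = 0 := by rw [uvec_dot hf, hyw]
    have hd2 : (-uvec f y + l • uvec f w) ⬝ᵥ w = 0 := by
      rw [add_dotProduct, neg_dotProduct, smul_dotProduct, uvec_dot hf, uvec_dot hf, hwy, hww, smul_zero, neg_zero,
        add_zero]
    obtain ⟨e, he⟩ : ∃ e, e = transv w (-uvec f y + l • uvec f w) * transv y (uvec f w) := ⟨_, rfl⟩
    have happ : ∀ z, (e : Matrix ι ι F) *ᵥ z =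
        z + f z w • y + (-f z y - f z w * f y y + l * f z w) • w := by
      intro z
      rw [he, mul_mulVec, transv_mulVec hd1, transv_mulVec hd2, uvec_dot hf]
      congr 2
      rw [add_dotProduct, neg_dotProduct, smul_dotProduct, uvec_dot hf, uvec_dot hf, hf.add_left, hf.add_left,
        hf.smul_left, hf.smul_left, hyw, smul_eq_mul]
      ring
    have hiso : Iso f e := fun a b => by
      rw [happ, happ]
      simp only [hf.add_left, Unitary.add_right' hf, hf.smul_left, Unitary.smul_right' hf, hyw, hwy, hww,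
        map_add, map_sub, map_neg, map_mul, self_fixed hf, ← hf.herm]
      linear_combination (f a w * f w b) * hl
    have hdet : (e : Matrix ι ι F).det = 1 := by
      rw [he, Units.val_mul, det_mul, (mem_specialLinear_iff _).mp (transv_mem_specialLinear _ _),
        (mem_specialLinear_iff _).mp (transv_mem_specialLinear _ _), one_mul]
    have heM : e ∈ M := hstab e hiso hdet (mem_subspaceStabilizer_of_maps fun z hz => by
      rw [happ, hW z hz w hw, zero_smul, add_zero]; exact W.add_mem hz (W.smul_mem _ hw))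
    have h1 := ufull_conj hf heM hiso hu
    refine hclose _ x h1 (fun h => ?_) hxx ?_
    · have h2 := hmemP.mp h w hw
      rw [happ, hf.add_left, hf.add_left, hf.smul_left, hf.smul_left, hyw, hww, huw] at h2
      simp at h2
    · rw [happ, huw, one_smul, hy, add_sub_cancel]
      simpa using W.smul_mem _ hw
  intro x hxx
  by_cases hxP : x ∈ P
  · exact hperp x hxP hxx
  by_cases hA : ∃ w ∈ W, f u₀ w ≠ 0 ∧ f (x - u₀) w = 0
  · obtain ⟨w, hw, h1, h2⟩ := hA
    exact hmove u₀ x (σ (f u₀ w)⁻¹ • w) hu₀ (W.smul_mem _ hw)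
      (by rw [Unitary.smul_right' hf, hf.involutive, inv_mul_cancel₀ h1])
      (by rw [Unitary.smul_right' hf, h2, mul_zero]) hxx
  simp only [not_exists, not_and] at hA
  rw [hmemP] at hu₀P
  simp only [not_forall] at hu₀P
  obtain ⟨w₀, hw₀, huw₀⟩ := hu₀P
  have hk : f (x - u₀) w₀ ≠ 0 := hA w₀ hw₀ huw₀
  obtain ⟨l, hl⟩ : ∃ l, l = f x w₀ / f u₀ w₀ := ⟨_, rfl⟩
  have hprop : ∀ w ∈ W, f x w = l * f u₀ w := by
    intro w hw
    have h1 : f (x - u₀) (w - σ (f (x - u₀) w / f (x - u₀) w₀) • w₀) = 0 := by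
      rw [sub_right' hf, Unitary.smul_right' hf, hf.involutive, div_mul_cancel₀ _ hk, sub_self]
    have h2 : f u₀ (w - σ (f (x - u₀) w / f (x - u₀) w₀) • w₀) = 0 := by
      by_contra h
      exact hA _ (W.sub_mem hw (W.smul_mem _ hw₀)) h h1
    rw [sub_right' hf, Unitary.smul_right' hf, hf.involutive, sub_eq_zero, div_mul_eq_mul_div, eq_div_iff hk,
      sub_left' hf, sub_left' hf] at h2
    rw [hl, div_mul_eq_mul_div, eq_div_iff huw₀]
    linear_combination -h2
  have hl0 : l ≠ 0 := fun h => hxP (hmemP.mpr fun w hw => by rw [hprop w hw, h, zero_mul])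
  refine hmove (l • u₀) x (σ (l * f u₀ w₀)⁻¹ • w₀) (ufull_smul hf hu₀ l) (W.smul_mem _ hw₀) ?_ ?_ hxx
  · rw [Unitary.smul_right' hf, hf.involutive, hf.smul_left, inv_mul_cancel₀ (mul_ne_zero hl0 huw₀)]
  · rw [sub_left' hf, hf.smul_left, hprop _ (W.smul_mem _ hw₀), sub_self]

/-- The engine with a lower bound on the dimension. -/
theorem result_of_le {F : Type*} [Field F] [Fintype F] (n q : ℕ) (hF : Fintype.card F = q ^ 2) (hn : 6 ≤ n) (W : Submodule F (Fin n → F)) (hW0 : W ≠ ⊥) (hW : Cfsg.Geo.IsTotallySingularFor (Cfsg.hermForm n F q) W) : Cfsg.Geo.IsMaximalIn (Cfsg.GU n F q ⊓ Cfsg.Geo.specialLinear (Fin n) F) (Cfsg.Geo.subspaceStabilizer W ⊓ (Cfsg.GU n F q ⊓ Cfsg.Geo.specialLinear (Fin n) F)) := by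
  obtain ⟨σ, hσ, hinv, hne⟩ := exists_frob hF
  have hf := isUnitaryForm_hermForm (n := n) hσ hinv hne
  refine ⟨lt_of_le_not_ge inf_le_right fun hle => ?_, fun M hHM hMK => ?_⟩
  · obtain ⟨w, hw, hw0⟩ := Submodule.exists_mem_ne_zero_of_ne_bot hW0
    obtain ⟨y, hy, -, hyw⟩ := exists_iso_test hf (by rw [Fintype.card_fin]; omega) (p := 0) (w := w)
      (by rw [Submodule.span_zero_singleton, Submodule.mem_bot]; exact hw0)
    obtain ⟨c, hc0, hc⟩ := exists_skew hne hinv
    have h := mulVec_mem_of_mem_subspaceStabilizer (hle (uT_mem_SU hσ hinv hne hy hc)).1 hw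
    rw [uT_mulVec hf hy, W.add_mem_iff_right hw,
      W.smul_mem_iff (mul_ne_zero hc0 fun h0 => hyw ((eq_zero_comm hf).mp h0))] at h
    exact hyw (hW y h w hw)
  by_cases hM : M ≤ Cfsg.Geo.subspaceStabilizer W
  · exact Or.inl (le_antisymm (le_inf hM hMK) hHM)
  right
  obtain ⟨g, hgM, hg⟩ := SetLike.not_le_iff_exists.mp hM
  refine le_antisymm hMK (SU_le_of_transv hσ hinv hne (by omega) fun v hv c hc => ?_)
  exact (all_full hf hW (fun h hi hdet hs => hHM ⟨hs, hi, (mem_specialLinear_iff h).mpr hdet⟩) hgM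
    (hMK hgM).1 hg v hv).2 c hc

/-- Let F be the field with q² elements and n ≥ 13, and let SU_n(q) be the group of matrices of determinant one preserving the standard unitary form Σ u_i v_i^q on F^n (the intersection of the unitary group GU_n with the kernel of the determinant). The elements of SU_n(q) stabilising a non-zero subspace on which the form vanishes identically form a maximal subgroup of SU_n(q). -/
theorem result {F : Type*} [Field F] [Fintype F] (n q : ℕ) (hF : Fintype.card F = q ^ 2) (hn : 13 ≤ n) (W : Submodule F (Fin n → F)) (hW0 : W ≠ ⊥) (hW : Cfsg.Geo.IsTotallySingularFor (Cfsg.hermForm n F q) W) : Cfsg.Geo.IsMaximalIn (Cfsg.GU n F q ⊓ Cfsg.Geo.specialLinear (Fin n) F) (Cfsg.Geo.subspaceStabilizer W ⊓ (Cfsg.GU n F q ⊓ Cfsg.Geo.specialLinear (Fin n) F)) := by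
  exact result_of_le n q hF (by omega) W hW0 hW

end Cfsg.Agent.S5653
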