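import Cfsg.Statements.S5654
import Cfsg.Agent.Lib.Transvec.UnitarySub
import Cfsg.Agent.Lib.Transvec.HermForm

set_option autoImplicit false
open Cfsg

namespace Cfsg.Agent.S5654

open CfsgLib.Transvec CfsgLib.Transvec.Unitary Matrix
open scoped MatrixGroups

variable {ι : Type} [Fintype ι] [DecidableEq ι] {F : Type*} [Field F] [Finite F] {σ : F ≃+* F}
  {f : (ι → F) → (ι → F) → F}

/-- A group containing the stabiliser of a non-degenerate subspace and one more element contains all unitary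
transvections. -/
theorem all_full (hf : Cfsg.Geo.IsUnitaryForm σ f) {W : Submodule F (ι → F)}
    (hnd : ∀ w ∈ W, w ≠ 0 → ∃ x ∈ W, f x w ≠ 0) (hdim : 2 * Module.finrank F W < Fintype.card ι)
    (hn : 6 ≤ Fintype.card ι) {M : Subgroup (GL ι F)}
    (hstab : ∀ g, Iso f g → (g : Matrix ι ι F).det = 1 → g ∈ Cfsg.Geo.subspaceStabilizer W → g ∈ M)
    {g : GL ι F} (hgM : g ∈ M) (hg : Iso f g) (hgW : g ∉ Cfsg.Geo.subspaceStabilizer W) :
    ∀ x, f x x = 0 → UFull σ f M x := by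
  obtain ⟨U, hU⟩ : ∃ U, U = perpU hf W := ⟨_, rfl⟩
  have hndU : ∀ w ∈ U, w ≠ 0 → ∃ x ∈ U, f x w ≠ 0 := hU ▸ perpU_nondegenerate hf hnd
  have hdimU : 4 ≤ Module.finrank F U := by
    have := finrank_perpU_ge hf W
    rw [← hU] at this
    omega
  have hUperp : ∀ w ∈ W, w ∈ perpU hf U := fun w hw z hz => perp_left hf (hU ▸ hz) hw
  have horth : ∀ a ∈ W, ∀ b ∈ U, f a b = 0 ∧ f b a = 0 :=
    fun a ha b hb => ⟨hUperp a ha b hb, perp_left hf (hUperp a ha) hb⟩
  have hT : ∀ v, f v v = 0 → v ∈ W ∨ v ∈ U → ∀ c, c + σ c = 0 → uT f v c ∈ M := by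
    intro v hv hor c hc
    exact hstab _ (iso_uT hf hv hc) ((mem_specialLinear_iff _).mp (transv_mem_specialLinear _ _))
      (hor.elim (fun h => uT_mem_stab_of_mem hf hv h c) (fun h => uT_mem_stab_of_perp hf hv (hU ▸ h) c))
  have hUM : ∀ v ∈ U, f v v = 0 → ∀ c, c + σ c = 0 → uT f v c ∈ M := fun v hv h0 => hT v h0 (Or.inr hv)
  -- a full isotropic vector outside both
  obtain ⟨u, hu, huW, huU⟩ : ∃ u, UFull σ f M u ∧ u ∉ W ∧ u ∉ U := by
    by_contra hcon
    simp only [not_exists, not_and, not_not] at hcon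
    have himg : ∀ v ∈ U, f v v = 0 → (g : Matrix ι ι F) *ᵥ v ∈ W ∨ (g : Matrix ι ι F) *ᵥ v ∈ U := by
      intro v hv h0
      by_cases h : (g : Matrix ι ι F) *ᵥ v ∈ W
      · exact Or.inl h
      · exact Or.inr (hcon _ (ufull_conj hf hgM hg ⟨h0, hUM v hv h0⟩) h)
    have hpair : ∀ v ∈ U, ∀ z ∈ U, f v v = 0 → f z z = 0 → f z v ≠ 0 → (g : Matrix ι ι F) *ᵥ v ∈ W →
        (g : Matrix ι ι F) *ᵥ z ∈ W := by
      intro v hv z hz hvv hzz hzv hgv
      rcases himg z hz hzz with h | h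
      · exact h
      · exact absurd ((hg z v).symm.trans (horth _ hgv _ h).2) hzv
    by_cases hA : ∃ v ∈ U, f v v = 0 ∧ v ≠ 0 ∧ (g : Matrix ι ι F) *ᵥ v ∈ W
    · obtain ⟨v, hv, hvv, hv0, hgv⟩ := hA
      have hall : ∀ x ∈ U, (g : Matrix ι ι F) *ᵥ x ∈ W := by
        intro x hx
        refine Submodule.span_induction (p := fun x _ => (g : Matrix ι ι F) *ᵥ x ∈ W) ?_ ?_ ?_ ?_
          (mem_span_iso_in hf hndU hdimU hx)
        · rintro y ⟨hy, hyy⟩
          by_cases hy0 : y = 0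
          · rw [hy0, mulVec_zero]; exact W.zero_mem
          obtain ⟨z, hz, hzz, hzv, hzy⟩ := exists_iso_avoid_in hf hndU hdimU hv hy hv0 hy0
          exact hpair z hz y hy hzz hyy (fun h => hzy ((eq_zero_comm hf).mp h)) (hpair v hv z hz hvv hzz hzv hgv)
        · rw [mulVec_zero]; exact W.zero_mem
        · intro a b _ _ ha hb; rw [mulVec_add]; exact W.add_mem ha hb
        · intro c a _ ha; rw [mulVec_smul]; exact W.smul_mem _ ha
      have h1 : (U.map (Matrix.toLin' (g : Matrix ι ι F))) ≤ W := by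
        rintro _ ⟨x, hx, rfl⟩
        rw [Matrix.toLin'_apply]
        exact hall x hx
      have h2 := Submodule.finrank_mono h1
      have h3 := finrank_perpU_ge hf W
      rw [finrank_map_gl] at h2
      rw [← hU] at h3
      omega
    · simp only [not_exists, not_and] at hA
      have hall : ∀ x ∈ U, (g : Matrix ι ι F) *ᵥ x ∈ U := by
        intro x hx
        refine Submodule.span_induction (p := fun x _ => (g : Matrix ι ι F) *ᵥ x ∈ U) ?_ ?_ ?_ ?_
          (mem_span_iso_in hf hndU hdimU hx)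
        · rintro y ⟨hy, hyy⟩
          by_cases hy0 : y = 0
          · rw [hy0, mulVec_zero]; exact U.zero_mem
          exact (himg y hy hyy).resolve_left (hA y hy hyy hy0)
        · rw [mulVec_zero]; exact U.zero_mem
        · intro a b _ _ ha hb; rw [mulVec_add]; exact U.add_mem ha hb
        · intro c a _ ha; rw [mulVec_smul]; exact U.smul_mem _ ha
      refine hgW (mem_subspaceStabilizer_of_maps fun w hw => ?_)
      rw [← perpU_perpU hf W, ← hU]
      intro y hy
      rw [← map_gl_eq_of_le g rfl hall] at hy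
      obtain ⟨z, hz, rfl⟩ := hy
      rw [Matrix.toLin'_apply, hg]
      exact (horth w hw z hz).1
  obtain ⟨a₀, ha₀, b₀, hb₀', hab⟩ := exists_add_perpU hf hnd u
  rw [← hab] at hu huW huU
  have hb₀ : b₀ ∈ U := hU ▸ hb₀'
  have ha₀0 : a₀ ≠ 0 := by rintro rfl; exact huU (by rwa [zero_add])
  have hb₀0 : b₀ ≠ 0 := by rintro rfl; exact huW (by rwa [add_zero])
  have hsplit : ∀ a ∈ W, ∀ b ∈ U, f (a + b) (a + b) = f a a + f b b := fun a ha b hb => by
    rw [hf.add_left, Unitary.add_right' hf, Unitary.add_right' hf, (horth a ha b hb).1, (horth a ha b hb).2]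
    ring
  -- the good vectors of W
  let A : Submodule F (ι → F) :=
    { carrier := {a | a ∈ W ∧ ∀ b ∈ U, b ≠ 0 → f b b = -f a a → UFull σ f M (a + b)}
      zero_mem' := by
        refine ⟨W.zero_mem, fun b hb _ h => ?_⟩
        rw [Unitary.zero_left' hf, neg_zero] at h
        rw [zero_add]
        exact ⟨h, hUM b hb h⟩
      smul_mem' := by
        rintro k a ⟨ha, hA⟩
        refine ⟨W.smul_mem k ha, fun b hb hb0 h => ?_⟩
        by_cases hk : k = 0
        · rw [hk, zero_smul, zero_add]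
          rw [hk, zero_smul, Unitary.zero_left' hf, neg_zero] at h
          exact ⟨h, hUM b hb h⟩
        have h1 := ufull_smul hf (hA (k⁻¹ • b) (U.smul_mem _ hb) (smul_ne_zero (inv_ne_zero hk) hb0) (by
          rw [hf.smul_left, Unitary.smul_right' hf, h, hf.smul_left, Unitary.smul_right' hf, map_inv₀]
          have : σ k ≠ 0 := (map_ne_zero_iff _ σ.injective).mpr hk
          field_simp)) k
        rwa [smul_add, smul_inv_smul₀ hk] at h1
      add_mem' := by
        rintro a₁ a₂ ⟨ha₁, hA₁⟩ ⟨ha₂, hA₂⟩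
        refine ⟨W.add_mem ha₁ ha₂, fun b hb hb0 h => ?_⟩
        obtain ⟨c, hc0, hc⟩ := exists_skew hf.ne_refl hf.involutive
        obtain ⟨b₁, hb₁, -, hb₁n, hb₁s⟩ := exists_fiber_one_in hf hndU hdimU hb hb0 0 (-f a₁ a₁)
          (by rw [map_neg, self_fixed hf])
        have hb₁0 : b₁ ≠ 0 := fun h0 => hb₁s (by rw [h0]; exact Submodule.zero_mem _)
        obtain ⟨b₂, hb₂, hb₂p, hb₂n, hb₂s⟩ := exists_fiber_one_in hf hndU hdimU hb₁ hb₁0
          (σ (c⁻¹ - f a₁ a₂)) (-f a₂ a₂) (by rw [map_neg, self_fixed hf])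
        have hb₂0 : b₂ ≠ 0 := fun h0 => hb₂s (by rw [h0]; exact Submodule.zero_mem _)
        have h12 : f b₁ b₂ = c⁻¹ - f a₁ a₂ := by rw [hf.herm, hb₂p, hf.involutive]
        have hx2 := hA₂ b₂ hb₂ hb₂0 hb₂n
        have h1 := uT_add_smul hf (hA₁ b₁ hb₁ hb₁0 hb₁n) hx2.1 hc (hx2.2 c hc)
        have hval : c * f (a₁ + b₁) (a₂ + b₂) = 1 := by
          rw [hf.add_left, Unitary.add_right' hf, Unitary.add_right' hf, (horth a₁ ha₁ b₂ hb₂).1,
            (horth a₂ ha₂ b₁ hb₁).2, h12, zero_add, add_zero, add_sub_cancel, mul_inv_cancel₀ hc0]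
        rw [hval, one_smul, add_add_add_comm] at h1
        have hne : b₁ + b₂ ≠ 0 := fun h0 => hb₂s (Submodule.mem_span_singleton.mpr
          ⟨-1, by rw [neg_one_smul]; exact (eq_neg_of_add_eq_zero_right h0).symm⟩)
        have hnorm : f (b₁ + b₂) (b₁ + b₂) = f b b := by
          have h2 := hsplit _ (W.add_mem ha₁ ha₂) _ (U.add_mem hb₁ hb₂)
          rw [h1.1] at h2
          rw [h]
          linear_combination -h2
        obtain ⟨m, hm, hmi, hme, hmfix⟩ := move_in hf hndU hUM hdimU (U.add_mem hb₁ hb₂) hb hne hb0 hnorm.symm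
        have h3 := ufull_conj hf hm hmi h1
        rwa [mulVec_add, hmfix _ (hUperp _ (W.add_mem ha₁ ha₂)), hme] at h3 }
  have ha₀A : a₀ ∈ A := by
    refine ⟨ha₀, fun b hb hb0 h => ?_⟩
    have h2 := hsplit a₀ ha₀ b₀ hb₀
    rw [hu.1] at h2
    obtain ⟨m, hm, hmi, hme, hmfix⟩ := move_in hf hndU hUM hdimU hb₀ hb hb₀0 hb0 (by rw [h]; linear_combination h2)
    have h3 := ufull_conj hf hm hmi hu
    rwa [mulVec_add, hmfix _ (hUperp _ ha₀), hme] at h3
  have hreach : ∀ w ∈ W, f a₀ w ≠ 0 → w ∈ A := by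
    intro w hw haw
    have himgA : ∀ (h : GL ι F), h ∈ M → Iso f h → (h : Matrix ι ι F) *ᵥ a₀ ∈ W →
        (∀ b ∈ U, ∃ b' ∈ U, (h : Matrix ι ι F) *ᵥ b' = b) → (h : Matrix ι ι F) *ᵥ a₀ ∈ A := by
      intro h hh hi hW hpre
      refine ⟨hW, fun b hb hb0 hn => ?_⟩
      obtain ⟨b', hb', hbb'⟩ := hpre b hb
      have h1 := ufull_conj hf hh hi (ha₀A.2 b' hb' (fun h0 => hb0 (by rw [← hbb', h0, mulVec_zero]))
        (by rw [← hi b' b', hbb', hn, hi]))
      rwa [mulVec_add, hbb'] at h1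
    by_cases hww : f w w = 0
    · obtain ⟨c, hc0, hc⟩ := exists_skew hf.ne_refl hf.involutive
      have h1 := himgA (uT f w c) (hT w hww (Or.inl hw) c hc) (iso_uT hf hww hc)
        (by rw [uT_mulVec hf hww]; exact W.add_mem ha₀ (W.smul_mem _ hw))
        (fun b hb => ⟨b, hb, by rw [uT_mulVec hf hww, (horth w hw b hb).2, mul_zero, zero_smul, add_zero]⟩)
      rw [uT_mulVec hf hww, A.add_mem_iff_right ha₀A] at h1
      exact (Submodule.smul_mem_iff _ (mul_ne_zero hc0 haw)).mp h1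
    obtain ⟨l, hl, hl1⟩ : ∃ l : F, l * σ l = 1 ∧ l ≠ 1 := by
      obtain ⟨a, ha⟩ : ∃ a : F, σ a ≠ a := by
        by_contra h
        simp only [not_exists, not_not] at h
        exact hf.ne_refl (RingEquiv.ext h)
      have ha0 : a ≠ 0 := fun h => ha (by rw [h, map_zero])
      have hσa : σ a ≠ 0 := (map_ne_zero_iff _ σ.injective).mpr ha0
      exact ⟨σ a / a, by rw [map_div₀, hf.involutive]; field_simp, fun h => ha ((div_eq_one_iff_eq ha0).mp h)⟩
    have hl' : l⁻¹ * σ l⁻¹ = 1 := by rw [map_inv₀, ← mul_inv, hl, inv_one]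
    obtain ⟨k, hk⟩ := exists_norm_eq hf.ne_refl hf.involutive (b := (f w w)⁻¹) (by rw [map_inv₀, self_fixed hf])
    have hk0 : k ≠ 0 := by rintro rfl; rw [zero_mul, eq_comm, inv_eq_zero] at hk; exact hww hk
    obtain ⟨x, hx⟩ : ∃ x, x = k • w := ⟨_, rfl⟩
    have hxW : x ∈ W := hx ▸ W.smul_mem k hw
    have hxx : f x x = 1 := by
      rw [hx, hf.smul_left, Unitary.smul_right' hf, ← mul_assoc, hk, inv_mul_cancel₀ hww]
    obtain ⟨y, hy, -, hyy, -⟩ := exists_fiber_one_in hf hndU hdimU hb₀ hb₀0 0 1 (map_one σ)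
    have happ : ∀ z, ((qR f x l * qR f y l⁻¹ : GL ι F) : Matrix ι ι F) *ᵥ z =
        z + ((l⁻¹ - 1) * f z y) • y + ((l - 1) * f z x) • x := fun z => by
      rw [mul_mulVec, qR_mulVec hf hyy hl', qR_mulVec hf hxx hl, hf.add_left, hf.smul_left,
        (horth x hxW y hy).2, mul_zero, add_zero]
    have hmem : qR f x l * qR f y l⁻¹ ∈ M := by
      refine hstab _ ((iso_qR hf hxx hl).mul (iso_qR hf hyy hl')) ?_ ?_
      · rw [Units.val_mul, det_mul, det_qR hf hxx hl, det_qR hf hyy hl',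
          mul_inv_cancel₀ (left_ne_zero_of_mul_eq_one hl)]
      · refine mem_subspaceStabilizer_of_maps fun z hz => ?_
        rw [happ, (horth z hz y hy).1, mul_zero, zero_smul, add_zero]
        exact W.add_mem hz (W.smul_mem _ hxW)
    have h1 := himgA _ hmem ((iso_qR hf hxx hl).mul (iso_qR hf hyy hl'))
      (by rw [happ, (horth a₀ ha₀ y hy).1, mul_zero, zero_smul, add_zero]
          exact W.add_mem ha₀ (W.smul_mem _ hxW))
      (fun b hb => ⟨(qR f y l : Matrix ι ι F) *ᵥ b, by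
          rw [qR_mulVec hf hyy hl]; exact U.add_mem hb (U.smul_mem _ hy), by
          rw [mul_mulVec, ← mul_mulVec (qR f y l⁻¹), qR_mul hf hyy hl' hl,
            inv_mul_cancel₀ (left_ne_zero_of_mul_eq_one hl), qR_one hf hyy, Units.val_one, one_mulVec,
            qR_mulVec hf hxx hl, (horth x hxW b hb).2, mul_zero, zero_smul, add_zero]⟩)
    rw [happ, (horth a₀ ha₀ y hy).1, mul_zero, zero_smul, add_zero, A.add_mem_iff_right ha₀A, hx, smul_smul] at h1
    refine (Submodule.smul_mem_iff _ (mul_ne_zero (mul_ne_zero (sub_ne_zero.mpr hl1) ?_) hk0)).mp h1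
    rw [Unitary.smul_right' hf]
    exact mul_ne_zero ((map_ne_zero_iff _ σ.injective).mpr hk0) haw
  obtain ⟨w₁, hw₁, haw₁⟩ := hnd a₀ ha₀ ha₀0
  have hA : ∀ w ∈ W, w ∈ A := by
    intro w hw
    have haw₁' : f a₀ w₁ ≠ 0 := fun h => haw₁ ((eq_zero_comm hf).mp h)
    by_cases h : f a₀ w = 0
    · have h1 := A.sub_mem (hreach (w + w₁) (W.add_mem hw hw₁) (by rwa [Unitary.add_right' hf, h, zero_add]))
        (hreach w₁ hw₁ haw₁')
      rwa [add_sub_cancel_right] at h1
    · exact hreach w hw h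
  intro x hx
  obtain ⟨a, ha, b, hb', rfl⟩ := exists_add_perpU hf hnd x
  have hb : b ∈ U := hU ▸ hb'
  by_cases hb0 : b = 0
  · rw [hb0, add_zero] at hx ⊢
    exact ⟨hx, hT a hx (Or.inl ha)⟩
  · refine (hA a ha).2 b hb hb0 ?_
    rw [hsplit a ha b hb] at hx
    linear_combination hx

/-- The engine with a lower bound on the dimension. -/
theorem result_of_le {F : Type*} [Field F] [Fintype F] (n q : ℕ) (hF : Fintype.card F = q ^ 2) (hn : 6 ≤ n) (W : Submodule F (Fin n → F)) (hW0 : W ≠ ⊥) (hW : Cfsg.Geo.IsNondegenerateOn (Cfsg.hermForm n F q) W) (hdim : 2 * Module.finrank F W < n) : Cfsg.Geo.IsMaximalIn (Cfsg.GU n F q ⊓ Cfsg.Geo.specialLinear (Fin n) F) (Cfsg.Geo.subspaceStabilizer W ⊓ (Cfsg.GU n F q ⊓ Cfsg.Geo.specialLinear (Fin n) F)) := by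
  obtain ⟨σ, hσ, hinv, hne⟩ := exists_frob hF
  have hf := isUnitaryForm_hermForm (n := n) hσ hinv hne
  have hnd : ∀ w ∈ W, w ≠ 0 → ∃ x ∈ W, Cfsg.hermForm n F q x w ≠ 0 := fun w hw h => (hW w hw h).1
  have hd : 2 * Module.finrank F W < Fintype.card (Fin n) := by rw [Fintype.card_fin]; exact hdim
  refine ⟨lt_of_le_not_ge inf_le_right fun hle => ?_, fun M hHM hMK => ?_⟩
  · have hndU := perpU_nondegenerate hf hnd
    have hdU : 4 ≤ Module.finrank F (perpU hf W) := by
      have := finrank_perpU_ge hf W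
      rw [Fintype.card_fin] at this
      omega
    obtain ⟨a, ha, ha0⟩ := Submodule.exists_mem_ne_zero_of_ne_bot hW0
    obtain ⟨y, hy, hy0⟩ : ∃ y ∈ perpU hf W, y ≠ 0 := Submodule.exists_mem_ne_zero_of_ne_bot fun h => by
      rw [h, finrank_bot] at hdU; omega
    obtain ⟨b, hb, -, hbb, hbs⟩ := exists_fiber_one_in hf hndU hdU hy hy0 0 (-Cfsg.hermForm n F q a a)
      (by rw [map_neg, self_fixed hf])
    have hv : Cfsg.hermForm n F q (a + b) (a + b) = 0 := by
      rw [hf.add_left, Unitary.add_right' hf, Unitary.add_right' hf, hbb, perp_left hf hb ha, hb a ha]; ring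
    obtain ⟨c, hc0, hc⟩ := exists_skew hne hinv
    obtain ⟨x, hx, hxa⟩ := hnd a ha ha0
    have h := mulVec_mem_of_mem_subspaceStabilizer (hle (uT_mem_SU hσ hinv hne hv hc)).1 hx
    rw [uT_mulVec hf hv, W.add_mem_iff_right hx, Unitary.add_right' hf, perp_left hf hb hx, add_zero,
      W.smul_mem_iff (mul_ne_zero hc0 hxa), W.add_mem_iff_right ha] at h
    have hb0 : b ≠ 0 := fun h0 => hbs (by rw [h0]; exact Submodule.zero_mem _)
    obtain ⟨z, hz, hzb⟩ := hnd b h hb0
    exact hzb (perp_left hf hb hz)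
  by_cases hM : M ≤ Cfsg.Geo.subspaceStabilizer W
  · exact Or.inl (le_antisymm (le_inf hM hMK) hHM)
  right
  obtain ⟨g, hgM, hg⟩ := SetLike.not_le_iff_exists.mp hM
  refine le_antisymm hMK (SU_le_of_transv hσ hinv hne (by omega) fun v hv c hc => ?_)
  exact (all_full hf hnd hd (by rw [Fintype.card_fin]; exact hn)
    (fun h hi hdet hs => hHM ⟨hs, hi, (mem_specialLinear_iff h).mpr hdet⟩) hgM (hMK hgM).1 hg v hv).2 c hc

/-- Let F be the field with q² elements and n ≥ 13. In SU_n(q) (determinant-one isometries of the standard unitary form on F^n) the stabiliser of a non-zero subspace W on which the form is non-degenerate and with 2 dim W < n is a maximal subgroup. -/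
theorem result {F : Type*} [Field F] [Fintype F] (n q : ℕ) (hF : Fintype.card F = q ^ 2) (hn : 13 ≤ n) (W : Submodule F (Fin n → F)) (hW0 : W ≠ ⊥) (hW : Cfsg.Geo.IsNondegenerateOn (Cfsg.hermForm n F q) W) (hdim : 2 * Module.finrank F W < n) : Cfsg.Geo.IsMaximalIn (Cfsg.GU n F q ⊓ Cfsg.Geo.specialLinear (Fin n) F) (Cfsg.Geo.subspaceStabilizer W ⊓ (Cfsg.GU n F q ⊓ Cfsg.Geo.specialLinear (Fin n) F)) := by
  exact result_of_le n q hF (by omega) W hW0 hW hdim

end Cfsg.Agent.S5654
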