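import Cfsg.Statements.S5655
import Cfsg.Agent.Lib.Classical22.UDecomp.OneMain
import Cfsg.Agent.Lib.Classical22.UDecomp.Big
import Cfsg.Agent.Lib.Classical22.DecompCoords
import Cfsg.Agent.Lib.Classical.HermSplit
-- import your own Cfsg.Agent.* helpers here

set_option autoImplicit false
open Cfsg

namespace Cfsg.Agent.S5655

open Matrix CfsgLib.Transvec CfsgLib.Transvec.Unitary CfsgLib.Classical22.Monomial CfsgLib.Classical22.DecompBlocks
open CfsgLib.Classical22.DecompCoords CfsgLib.Classical22.UDecomp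
open scoped MatrixGroups

variable {F : Type*} [Field F] [Fintype F] {n q t k : ℕ} {σ : F ≃+* F}

/-- Unitary coordinates adapted to the decomposition. -/
theorem unitary_coords (h : QField σ q) (hF : Fintype.card F = q ^ 2) {D : Fin t → Submodule F (Fin n → F)}
    (hD : Cfsg.Geo.IsNondegenerateMDecomposition (Cfsg.hermForm n F q) k D) :
    ∃ (e : Fin t × Fin k ≃ Fin n) (P : GL (Fin n) F), Iso (Cfsg.hermForm n F q) P ∧
      ∀ (j : Fin t) (x : Fin n → F), (P : Matrix (Fin n) (Fin n) F) *ᵥ x ∈ D j ↔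
        InBlk (fun l => (e.symm l).1) j x := by
  classical
  obtain ⟨e, -, -⟩ := exists_coords hD.decomp
  have hf := h.unitary (n := n)
  have hb : ∀ j, ∃ u : Fin k → (Fin n → F), (∀ r, u r ∈ D j) ∧
      ∀ r s, Cfsg.hermForm n F q (u r) (u s) = if r = s then 1 else 0 := by
    intro j
    obtain ⟨b, hb, hs⟩ := CfsgLib.Classical.exists_orthonormal_span hF (D j) fun w hw hw0 => by
      by_contra hne
      obtain ⟨x, hx, hx0⟩ := (hD.nondegenerate j w hw hne).2
      exact hx0 (hw0 x hx)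
    refine ⟨fun r => b (Fin.cast (hD.decomp.finrank_eq j).symm r), fun r => ?_, fun r s => ?_⟩
    · exact hs.le (Submodule.subset_span ⟨_, rfl⟩)
    · rw [hb]; simp [Fin.ext_iff]
  choose u hu hou using hb
  obtain ⟨U, hU⟩ : ∃ U : Matrix (Fin n) (Fin n) F, ∀ x, U *ᵥ x = ∑ l, x l • u (e.symm l).1 (e.symm l).2 := by
    refine ⟨Matrix.of fun i l => u (e.symm l).1 (e.symm l).2 i, fun x => ?_⟩
    funext i
    rw [Finset.sum_apply]
    simp [Matrix.mulVec, dotProduct, mul_comm]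
  have hdual : ∀ (x : Fin n → F) l, Cfsg.hermForm n F q (U *ᵥ x) (u (e.symm l).1 (e.symm l).2) = x l := by
    intro x l
    have hsum : ∀ (s : Finset (Fin n)) (z : Fin n → F),
        Cfsg.hermForm n F q (∑ i ∈ s, x i • u (e.symm i).1 (e.symm i).2) z =
        ∑ i ∈ s, x i * Cfsg.hermForm n F q (u (e.symm i).1 (e.symm i).2) z := by
      intro s z
      induction s using Finset.induction_on with
      | empty => simp [zero_left' hf]
      | insert i s hi ih => rw [Finset.sum_insert hi, Finset.sum_insert hi, hf.add_left, hf.smul_left, ih]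
    rw [hU, hsum, Finset.sum_eq_single l]
    · rw [hou, if_pos rfl, mul_one]
    · intro i _ hi
      by_cases hb : (e.symm i).1 = (e.symm l).1
      · rw [hb, hou, if_neg (fun h => hi (e.symm.injective (Prod.ext hb h))), mul_zero]
      · rw [hD.orthogonal _ _ hb _ (hu _ _) _ (hu _ _), mul_zero]
    · intro h; exact absurd (Finset.mem_univ _) h
  have hUi : Function.Injective U.mulVec := fun x y hxy => funext fun l => by
    rw [← hdual x l, ← hdual y l]; exact congrArg (fun z => Cfsg.hermForm n F q z _) hxy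
  obtain ⟨P, hPU⟩ : ∃ P : GL (Fin n) F, (P : Matrix (Fin n) (Fin n) F) = U :=
    ⟨(Matrix.mulVec_injective_iff_isUnit.1 hUi).unit, rfl⟩
  refine ⟨e, P, fun x y => ?_, fun j x => ?_⟩
  · have hsum : ∀ (s : Finset (Fin n)) (z : Fin n → F),
        Cfsg.hermForm n F q z (∑ i ∈ s, y i • u (e.symm i).1 (e.symm i).2) =
        ∑ i ∈ s, σ (y i) * Cfsg.hermForm n F q z (u (e.symm i).1 (e.symm i).2) := by
      intro s z
      induction s using Finset.induction_on with
      | empty => simp [zero_right' hf]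
      | insert i s hi ih => rw [Finset.sum_insert hi, Finset.sum_insert hi, add_right' hf, smul_right' hf, ih]
    rw [hPU, hU y, hsum, h.form_eq]
    exact Finset.sum_congr rfl fun i _ => by rw [hdual, mul_comm]
  · rw [hPU]
    constructor
    · intro hx l hl
      rw [← hdual x l]
      exact hD.orthogonal j _ (Ne.symm hl) _ hx _ (hu _ _)
    · intro hx
      rw [hU]
      refine (D j).sum_mem fun l _ => ?_
      by_cases hl : (e.symm l).1 = j
      · exact (D j).smul_mem _ (hl ▸ hu _ _)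
      · rw [hx l hl, zero_smul]
        exact (D j).zero_mem

/-- The overgroup statement in adapted coordinates. -/
theorem over_full (h : QField σ q) (hn : 8 ≤ n ∨ (n = 6 ∧ (k = 1 → 3 ≤ q))) (ht : 2 ≤ t) (hk0 : 0 < k) (hex : ¬ (k = 2 ∧ q = 2))
    (e : Fin t × Fin k ≃ Fin n) {N : Subgroup (GL (Fin n) F)}
    (hH : ∀ g ∈ N, Iso (Cfsg.hermForm n F q) g ∧ (g : Matrix (Fin n) (Fin n) F).det = 1)
    (hN : ∀ g : GL (Fin n) F, Iso (Cfsg.hermForm n F q) g → (g : Matrix (Fin n) (Fin n) F).det = 1 →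
      (∃ π : Equiv.Perm (Fin t), ∀ i v, InBlk (fun l => (e.symm l).1) i v →
        InBlk (fun l => (e.symm l).1) (π i) ((g : Matrix (Fin n) (Fin n) F) *ᵥ v)) → g ∈ N)
    {g : GL (Fin n) F} (hg : g ∈ N)
    (hgm : ¬ ∃ π : Equiv.Perm (Fin t), ∀ i v, InBlk (fun l => (e.symm l).1) i v →
        InBlk (fun l => (e.symm l).1) (π i) ((g : Matrix (Fin n) (Fin n) F) *ᵥ v)) :
    ∀ x, Cfsg.hermForm n F q x x = 0 → UFull σ (Cfsg.hermForm n F q) N x := by
  rcases (show k = 1 ∨ 2 ≤ k by omega) with rfl | hk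
  · obtain ⟨f, hf⟩ : ∃ f : Fin n ≃ Fin t, ∀ l, f l = (e.symm l).1 :=
      ⟨e.symm.trans (Equiv.prodUnique _ _), fun _ => rfl⟩
    have key : ∀ y : GL (Fin n) F, IsMono y → ∃ π : Equiv.Perm (Fin t), ∀ i v,
        InBlk (fun l => (e.symm l).1) i v →
          InBlk (fun l => (e.symm l).1) (π i) ((y : Matrix (Fin n) (Fin n) F) *ᵥ v) := by
      intro y hy
      obtain ⟨p, d, rfl⟩ := hy.exists_mono
      refine ⟨f.symm.trans (p.trans f), fun i v hv l hl => ?_⟩
      obtain ⟨l, rfl⟩ := p.surjective l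
      rw [mono_mulVec, hv l ?_, mul_zero]
      intro hli
      apply hl
      dsimp only at hli ⊢
      rw [← hf] at hli ⊢
      rw [Equiv.trans_apply, Equiv.trans_apply, ← hli, Equiv.symm_apply_apply]
    exact all_full_of_not_mono h (hn.imp_right fun h6 => ⟨h6.1, h6.2 rfl⟩) hH (fun y hy hy' hym => hN y hy hy' (key y hym)) hg fun hm => hgm (key g hm)
  · have hq := h.two_le
    have hn6 : 6 ≤ n := hn.elim (fun h8 => le_trans (by norm_num) h8) fun h6 => le_of_eq h6.1.symm
    exact BlockOver.all_full h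
      ⟨⟨e, fun j r => by simp⟩, hk, (by omega), ht, by omega, hH, hN⟩ hg hgm

/-- The engine, also in dimension six. -/
theorem result_of_bound {F : Type*} [Field F] [Fintype F] (n q : ℕ) (hF : Fintype.card F = q ^ 2) {t : ℕ} (k : ℕ) (hn : 8 ≤ n ∨ (n = 6 ∧ (k = 1 → 3 ≤ q))) (D : Fin t → Submodule F (Fin n → F)) (hD : Cfsg.Geo.IsNondegenerateMDecomposition (Cfsg.hermForm n F q) k D) (hex : ¬ (k = 2 ∧ q = 2)) : Cfsg.Geo.IsMaximalIn (Cfsg.GU n F q ⊓ Cfsg.Geo.specialLinear (Fin n) F) (Cfsg.Geo.decompositionStabilizer D ⊓ (Cfsg.GU n F q ⊓ Cfsg.Geo.specialLinear (Fin n) F)) := by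
  classical
  have hn6 : 6 ≤ n := hn.elim (fun h8 => le_trans (by norm_num) h8) fun h6 => le_of_eq h6.1.symm
  obtain ⟨σ, hσ, hinv, hne⟩ := exists_frob hF
  have h : QField σ q := ⟨by rw [Nat.card_eq_fintype_card, hF], hσ, hinv, hne⟩
  have hf := h.unitary (n := n)
  obtain ⟨e, P, hPi, hP⟩ := unitary_coords h hF hD
  obtain ⟨SU, hSU⟩ : ∃ SU, SU = Cfsg.GU n F q ⊓ Cfsg.Geo.specialLinear (Fin n) F := ⟨_, rfl⟩
  have hmem : ∀ g : GL (Fin n) F, g ∈ SU ↔ Iso (Cfsg.hermForm n F q) g ∧ (g : Matrix (Fin n) (Fin n) F).det = 1 := by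
    intro g; rw [hSU, Subgroup.mem_inf, mem_specialLinear_iff]; exact Iff.rfl
  have hPinv : Iso (Cfsg.hermForm n F q) P⁻¹ := fun x y => by
    rw [← hPi, mulVec_inv_cancel, mulVec_inv_cancel]
  have hdet : ∀ g : GL (Fin n) F, ((P * g * P⁻¹ : GL (Fin n) F) : Matrix (Fin n) (Fin n) F).det =
      (g : Matrix (Fin n) (Fin n) F).det := fun g => by
    rw [Units.val_mul, Units.val_mul, Matrix.det_units_conj]
  obtain ⟨c, hc0, hc⟩ := exists_skew h.ne h.inv
  rw [← hSU]
  have hnt : t * k = n := by simpa using Fintype.card_congr e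
  refine ⟨lt_of_le_of_ne inf_le_right fun heq => ?_, fun M hHM hMS => ?_⟩
  · obtain ⟨d, hd⟩ := exists_norm_eq h.ne h.inv (b := (-1 : F)) (by rw [map_neg, map_one])
    have hd0 : d ≠ 0 := left_ne_zero_of_mul (b := σ d) (by rw [hd]; exact neg_ne_zero.mpr one_ne_zero)
    obtain ⟨j₀, j₁, hj⟩ : ∃ j₀ j₁ : Fin t, j₀ ≠ j₁ :=
      ⟨⟨0, by have := hD.decomp.two_le; omega⟩, ⟨1, by have := hD.decomp.two_le; omega⟩, by simp⟩
    obtain ⟨b, hb⟩ : ∃ b, b = e (j₀, ⟨0, hD.decomp.pos⟩) := ⟨_, rfl⟩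
    obtain ⟨c', hc'⟩ : ∃ c', c' = e (j₁, ⟨0, hD.decomp.pos⟩) := ⟨_, rfl⟩
    have hbc : b ≠ c' := fun e0 => hj (by rw [hb, hc'] at e0; exact congrArg Prod.fst (e.injective e0))
    obtain ⟨a, g, hab, hac, hgb, hgc, hag⟩ : ∃ a g : Fin n, a ≠ b ∧ a ≠ c' ∧ g ≠ b ∧ g ≠ c' ∧ a ≠ g := by
      have : 2 ≤ ((Finset.univ.erase b).erase c').card := by
        rw [Finset.card_erase_of_mem (Finset.mem_erase.mpr ⟨hbc.symm, Finset.mem_univ _⟩),
          Finset.card_erase_of_mem (Finset.mem_univ _), Finset.card_univ, Fintype.card_fin]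
        omega
      obtain ⟨a, ha, g, hg, hag⟩ := Finset.one_lt_card.mp this
      simp only [Finset.mem_erase] at ha hg
      exact ⟨a, g, ha.2.1, ha.1, hg.2.1, hg.1, hag⟩
    obtain ⟨v, hv⟩ : ∃ v : Fin n → F, v = Pi.single a 1 + Pi.single b d + (Pi.single c' 1 + Pi.single g d) :=
      ⟨_, rfl⟩
    have hvv : Cfsg.hermForm n F q v v = 0 := by
      have hsd : ∀ i : Fin n, (Pi.single i d : Fin n → F) = d • Pi.single i 1 := fun i => by
        rw [← Pi.single_smul, smul_eq_mul, mul_one]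
      rw [hv, hsd, hsd]
      simp only [hf.add_left, Unitary.add_right' hf, hf.smul_left, Unitary.smul_right' hf, h.form_unit,
        h.form_ne hab, h.form_ne hab.symm, h.form_ne hac, h.form_ne hac.symm, h.form_ne hag, h.form_ne hag.symm,
        h.form_ne hbc, h.form_ne hbc.symm, h.form_ne hgb, h.form_ne hgb.symm, h.form_ne hgc, h.form_ne hgc.symm]
      linear_combination 2 * hd
    have hT := (hmem _).mpr ⟨(hPi.mul (iso_uT hf hvv hc)).mul hPinv,
      (hdet _).trans ((mem_specialLinear_iff _).mp (transv_mem_specialLinear _ _))⟩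
    rw [← heq] at hT
    obtain ⟨s, hs⟩ := (mem_stabilizer_iff hD.decomp hP _).1 hT.1
    rw [show P⁻¹ * (P * uT (Cfsg.hermForm n F q) v c * P⁻¹) * P = uT (Cfsg.hermForm n F q) v c by group] at hs
    have hva : v a = 1 := by simp [hv, hab, hac, hag]
    have hvb : v b = d := by simp [hv, hab.symm, hbc, hgb.symm]
    have hvc : v c' = 1 := by simp [hv, hac.symm, hbc.symm, hgc.symm]
    have hza := hs _ (Pi.single a 1) (inBlk_single (blk := fun l => (e.symm l).1) rfl 1)
    rw [uT_mulVec hf hvv, hermForm_single h.pow, hva, map_one, mul_one] at hza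
    have h1 : (e.symm b).1 = s (e.symm a).1 := by
      by_contra hne'
      have := hza b hne'
      simp [hvb, hab.symm, hc0, hd0] at this
    have h2 : (e.symm c').1 = s (e.symm a).1 := by
      by_contra hne'
      have := hza c' hne'
      simp [hvc, hac.symm, hc0] at this
    rw [← h2, hb, hc', Equiv.symm_apply_apply, Equiv.symm_apply_apply] at h1
    exact hj h1
  by_cases hMH : M ≤ Cfsg.Geo.decompositionStabilizer D ⊓ SU
  · exact Or.inl (le_antisymm hMH hHM)
  right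
  obtain ⟨y, hyM, hy⟩ := SetLike.not_le_iff_exists.mp hMH
  have hyD : y ∉ Cfsg.Geo.decompositionStabilizer D := fun e0 => hy ⟨e0, hMS hyM⟩
  rw [mem_stabilizer_iff hD.decomp hP] at hyD
  have hN : ∀ x, Cfsg.hermForm n F q x x = 0 →
      UFull σ (Cfsg.hermForm n F q) (M.comap (MulAut.conj P).toMonoidHom) x := by
    refine over_full h hn hD.decomp.two_le hD.decomp.pos hex e (fun g hg => ?_) (fun g hgi hgd hgb => ?_) ?_ hyD
    · have h1 := (hmem _).mp (hMS hg)
      simp only [MulEquiv.coe_toMonoidHom, MulAut.conj_apply] at h1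
      refine ⟨?_, (hdet g).symm.trans h1.2⟩
      have h2 := (hPinv.mul h1.1).mul hPi
      rwa [show P⁻¹ * (P * g * P⁻¹) * P = g by group] at h2
    · show P * g * P⁻¹ ∈ M
      refine hHM ⟨(mem_stabilizer_iff hD.decomp hP _).mpr ?_, (hmem _).mpr ⟨(hPi.mul hgi).mul hPinv, (hdet g).trans hgd⟩⟩
      rwa [show P⁻¹ * (P * g * P⁻¹) * P = g by group]
    · show P * (P⁻¹ * y * P) * P⁻¹ ∈ M
      rwa [show P * (P⁻¹ * y * P) * P⁻¹ = y by group]
  refine le_antisymm hMS ?_
  rw [hSU]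
  refine SU_le_of_transv hσ hinv hne (by omega) fun v hv c' hc' => ?_
  obtain ⟨w, hw⟩ : ∃ w, w = ((P⁻¹ : GL (Fin n) F) : Matrix (Fin n) (Fin n) F) *ᵥ v := ⟨_, rfl⟩
  have hww : Cfsg.hermForm n F q w w = 0 := by rw [hw, hPinv, hv]
  have h3 : P * uT (Cfsg.hermForm n F q) w c' * P⁻¹ ∈ M := (hN w hww).2 c' hc'
  rwa [conj_uT hf hPi hww, hw, mulVec_inv_cancel] at h3

/-- The engine with a lower bound on the dimension. -/
theorem result_of_le {F : Type*} [Field F] [Fintype F] (n q : ℕ) (hF : Fintype.card F = q ^ 2) (hn : 10 ≤ n) {t : ℕ} (k : ℕ) (D : Fin t → Submodule F (Fin n → F)) (hD : Cfsg.Geo.IsNondegenerateMDecomposition (Cfsg.hermForm n F q) k D) (hex : ¬ (k = 2 ∧ q = 2)) : Cfsg.Geo.IsMaximalIn (Cfsg.GU n F q ⊓ Cfsg.Geo.specialLinear (Fin n) F) (Cfsg.Geo.decompositionStabilizer D ⊓ (Cfsg.GU n F q ⊓ Cfsg.Geo.specialLinear (Fin n) F)) :=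
  result_of_bound n q hF k (Or.inl (by omega)) D hD hex

/-- Let F be the field with q² elements and n ≥ 13. Let D be a decomposition of F^n into t ≥ 2 pairwise orthogonal subspaces of equal dimension k, each non-degenerate for the standard unitary form, spanning F^n. Unless k = 2 and q = 2, the elements of SU_n(q) permuting the members of D form a maximal subgroup of SU_n(q). -/
theorem result {F : Type*} [Field F] [Fintype F] (n q : ℕ) (hF : Fintype.card F = q ^ 2) (hn : 13 ≤ n) {t : ℕ} (k : ℕ) (D : Fin t → Submodule F (Fin n → F)) (hD : Cfsg.Geo.IsNondegenerateMDecomposition (Cfsg.hermForm n F q) k D) (hex : ¬ (k = 2 ∧ q = 2)) : Cfsg.Geo.IsMaximalIn (Cfsg.GU n F q ⊓ Cfsg.Geo.specialLinear (Fin n) F) (Cfsg.Geo.decompositionStabilizer D ⊓ (Cfsg.GU n F q ⊓ Cfsg.Geo.specialLinear (Fin n) F)) := by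
  exact result_of_le n q hF (by omega) k D hD hex

end Cfsg.Agent.S5655
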