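import Cfsg.Statements.S5657
import Cfsg.Agent.Lib.Transvec.UnitaryPair
import Cfsg.Agent.Lib.Transvec.HermForm
import Cfsg.Agent.Lib.Transvec.SympSpaces
import Cfsg.Agent.Lib.Classical22.Monomial
-- import your own Cfsg.Agent.* helpers here

set_option autoImplicit false
open Cfsg

namespace Cfsg.Agent.S5657

open CfsgLib.Transvec CfsgLib.Transvec.Unitary Matrix
open scoped MatrixGroups

/-- The determinant of a member of the unitary group has norm one. -/
lemma det_norm {F : Type*} [Field F] {n q : ℕ} {σ : F ≃+* F} (hσ : ∀ x, σ x = x ^ q) {g : GL (Fin n) F}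
    (hg : Iso (Cfsg.hermForm n F q) g) :
    (g : Matrix (Fin n) (Fin n) F).det * σ (g : Matrix (Fin n) (Fin n) F).det = 1 := by
  have h : (g : Matrix (Fin n) (Fin n) F)ᵀ * ((g : Matrix (Fin n) (Fin n) F).map σ) = 1 := by
    ext i j
    have h1 := hg (Pi.single i 1) (Pi.single j 1)
    rw [hermForm_basis hσ, hermForm_eq hσ, mulVec_single_one, mulVec_single_one] at h1
    rw [Matrix.one_apply, ← h1, Matrix.mul_apply]
    rfl
  have h2 := congrArg Matrix.det h
  rw [det_mul, det_transpose, det_one] at h2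
  rwa [show ((g : Matrix (Fin n) (Fin n) F).map σ).det = σ (g : Matrix (Fin n) (Fin n) F).det from
    ((σ : F →+* F).map_det _).symm] at h2

/-- The engine with a lower bound on the dimension. -/
theorem result_of_le {F : Type*} [Field F] [Fintype F] (n q : ℕ) (hF : Fintype.card F = q ^ 2) (hn : 6 ≤ n) (k : ℕ) (hk : 2 * k = n) (D : Fin 2 → Submodule F (Fin n → F)) (hD : Cfsg.Geo.IsMDecomposition k D) (hts : ∀ i, Cfsg.Geo.IsTotallySingularFor (Cfsg.hermForm n F q) (D i)) : Cfsg.Geo.IsMaximalIn (Cfsg.GU n F q ⊓ Cfsg.Geo.specialLinear (Fin n) F) (Cfsg.Geo.decompositionStabilizer D ⊓ (Cfsg.GU n F q ⊓ Cfsg.Geo.specialLinear (Fin n) F)) := by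
  classical
  obtain ⟨σ, hσ, hinv, hne⟩ := exists_frob hF
  have hf := isUnitaryForm_hermForm (n := n) hσ hinv hne
  have hint : DirectSum.IsInternal D :=
    DirectSum.isInternal_submodule_of_iSupIndep_of_iSup_eq_top hD.indep hD.iSup_eq_top
  have hsplit : ∀ x, dcomp hint 0 x + dcomp hint 1 x = x := fun x => by
    conv_rhs => rw [← sum_dcomp hint x, Fin.sum_univ_two]
  have hmaps : ∀ (g : GL (Fin n) F) (τ : Equiv.Perm (Fin 2)),
      (∀ i, ∀ x ∈ D i, (g : Matrix _ _ F) *ᵥ x ∈ D (τ i)) → g ∈ Cfsg.Geo.decompositionStabilizer D :=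
    fun g τ h => ⟨τ, fun i => map_gl_eq_of_le g (by rw [hD.finrank_eq, hD.finrank_eq]) (h i)⟩
  have hX : ∀ c ∈ D 0, ∀ d ∈ D 1, Cfsg.hermForm n F q c d = 0 → ∀ μ, uX σ (Cfsg.hermForm n F q) c d μ ∈
      Cfsg.Geo.decompositionStabilizer D ⊓ (Cfsg.GU n F q ⊓ Cfsg.Geo.specialLinear (Fin n) F) := by
    intro c hc d hd hcd μ
    refine ⟨hmaps _ 1 fun i x hx => ?_, iso_uX hf (hts 0 c hc c hc) (hts 1 d hd d hd) hcd μ, ?_⟩
    · rw [uX_mulVec hf (hts 1 d hd d hd) hcd, Equiv.Perm.one_apply]
      fin_cases i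
      · simp only [Fin.zero_eta] at hx ⊢
        rw [hts 0 x hx c hc, mul_zero, zero_smul, sub_zero]
        exact (D 0).add_mem hx ((D 0).smul_mem _ hc)
      · simp only [Fin.mk_one] at hx ⊢
        rw [hts 1 x hx d hd, mul_zero, zero_smul, add_zero]
        exact (D 1).sub_mem hx ((D 1).smul_mem _ hd)
    · exact (Cfsg.Geo.specialLinear (Fin n) F).mul_mem (transv_mem_specialLinear _ _) (transv_mem_specialLinear _ _)
  -- an element of the stabiliser interchanging the two halves
  obtain ⟨J, hJi, hJd, hJ0, hJ1⟩ : ∃ J, Iso (Cfsg.hermForm n F q) J ∧ (J : Matrix (Fin n) (Fin n) F).det = 1 ∧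
      (∀ x ∈ D 0, (J : Matrix _ _ F) *ᵥ x ∈ D 1) ∧ ∀ x ∈ D 1, (J : Matrix _ _ F) *ᵥ x ∈ D 0 := by
    let b := Module.finBasisOfFinrankEq F (D 0) (hD.finrank_eq 0)
    let T : D 1 →ₗ[F] (Fin k → F) := LinearMap.pi fun i => (linL hf (b i : Fin n → F)).domRestrict (D 1)
    have hD0 : ∀ (z : Fin n → F), (∀ i, Cfsg.hermForm n F q (b i : Fin n → F) z = 0) →
        ∀ w ∈ D 0, Cfsg.hermForm n F q w z = 0 := by
      intro z hz w hw
      have hspan : (⟨w, hw⟩ : D 0) ∈ Submodule.span F (Set.range b) := by rw [b.span_eq]; trivial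
      refine Submodule.span_induction (p := fun (v : D 0) _ => Cfsg.hermForm n F q (v : Fin n → F) z = 0)
        ?_ (zero_left' hf _) ?_ ?_ hspan
      · rintro _ ⟨i, rfl⟩; exact hz i
      · intro u v _ _ hu hv; rw [Submodule.coe_add, hf.add_left, hu, hv, add_zero]
      · intro a u _ hu; rw [Submodule.coe_smul, hf.smul_left, hu, mul_zero]
    have hTi : Function.Injective T := by
      rw [injective_iff_map_eq_zero]
      intro y hy
      by_contra hy0
      have hy' : (y : Fin n → F) ≠ 0 := fun h => hy0 (Subtype.ext h)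
      obtain ⟨z, hz⟩ := (hf.nondegenerate _ hy').1
      refine hz ?_
      rw [← hsplit z, hf.add_left, hts 1 _ (dcomp_mem hint 1 z) _ y.2, add_zero]
      exact hD0 y (fun i => (eq_zero_comm hf).mp (congrFun hy i)) _ (dcomp_mem hint 0 z)
    have hTs : Function.Surjective T :=
      (LinearMap.injective_iff_surjective_of_finrank_eq_finrank (by rw [hD.finrank_eq, Module.finrank_fin_fun])).mp hTi
    choose g hg using fun i => hTs (Pi.single i 1)
    obtain ⟨e, he⟩ : ∃ e : Fin k → (Fin n → F), ∀ i, e i = (b i : Fin n → F) := ⟨_, fun _ => rfl⟩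
    obtain ⟨g', hg'⟩ : ∃ g' : Fin k → (Fin n → F), ∀ i, g' i = (g i : Fin n → F) := ⟨_, fun _ => rfl⟩
    have heD : ∀ i, e i ∈ D 0 := fun i => he i ▸ (b i).2
    have hgD : ∀ i, g' i ∈ D 1 := fun i => hg' i ▸ (g i).2
    have hge : ∀ i j, Cfsg.hermForm n F q (g' i) (e j) = if i = j then 1 else 0 := fun i j => by
      rw [hg', he]
      refine (congrFun (hg i) j).trans ?_
      simp [Pi.single_apply, eq_comm]
    have heg : ∀ i j, Cfsg.hermForm n F q (e i) (g' j) = if i = j then 1 else 0 := fun i j => by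
      rw [hf.herm, hge, apply_ite σ, map_one, map_zero]
      simp [eq_comm]
    have hee : ∀ i j, Cfsg.hermForm n F q (e i) (e j) = 0 := fun i j => hts 0 _ (heD i) _ (heD j)
    have hgg : ∀ i j, Cfsg.hermForm n F q (g' i) (g' j) = 0 := fun i j => hts 1 _ (hgD i) _ (hgD j)
    obtain ⟨E, hE⟩ : ∃ E : Fin k ⊕ Fin k → (Fin n → F), E = Sum.elim e g' := ⟨_, rfl⟩
    obtain ⟨E', hE'⟩ : ∃ E' : Fin k ⊕ Fin k → (Fin n → F), E' = Sum.elim g' e := ⟨_, rfl⟩
    have hEE : ∀ a c, Cfsg.hermForm n F q (E a) (E' c) = if a = c then 1 else 0 := by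
      rintro (a | a) (c | c) <;> simp [hE, hE', heg, hge, hee, hgg]
    have hEE' : ∀ a c, Cfsg.hermForm n F q (E a) (E c) = Cfsg.hermForm n F q (E' a) (E' c) := by
      rintro (a | a) (c | c) <;> simp [hE, hE', heg, hge, hee, hgg]
    have hind : LinearIndependent F E := by
      rw [Fintype.linearIndependent_iff]
      intro c hc a
      have h1 := congrArg (linL hf (E' a)) hc
      rw [map_sum, map_zero] at h1
      rw [← h1, Finset.sum_eq_single a]
      · rw [map_smul, smul_eq_mul]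
        show c a = c a * Cfsg.hermForm n F q (E a) (E' a)
        rw [hEE, if_pos rfl, mul_one]
      · intro l _ hl
        rw [map_smul, smul_eq_mul]
        show c l * Cfsg.hermForm n F q (E l) (E' a) = 0
        rw [hEE, if_neg hl, mul_zero]
      · simp
    haveI : Nonempty (Fin k ⊕ Fin k) := ⟨Sum.inl ⟨0, by omega⟩⟩
    let B := basisOfLinearIndependentOfCardEqFinrank hind (by simp; omega)
    have hB : ∀ a, B a = E a := fun a => congrFun (coe_basisOfLinearIndependentOfCardEqFinrank hind _) a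
    let τ : (Fin n → F) →ₗ[F] (Fin n → F) := B.constr F E'
    have hτE : ∀ a, τ (E a) = E' a := fun a => by rw [← hB]; exact B.constr_basis F E' a
    have hτi : ∀ x y, Cfsg.hermForm n F q (τ x) (τ y) = Cfsg.hermForm n F q x y := by
      intro x y
      have hsum : ∀ (G : Fin k ⊕ Fin k → (Fin n → F)) (c d : Fin k ⊕ Fin k → F),
          Cfsg.hermForm n F q (∑ a, c a • G a) (∑ l, d l • G l) =
            ∑ a, ∑ l, c a * (σ (d l) * Cfsg.hermForm n F q (G a) (G l)) := by
        intro G c d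
        rw [show Cfsg.hermForm n F q (∑ a, c a • G a) (∑ l, d l • G l) =
          linL hf (∑ l, d l • G l) (∑ a, c a • G a) from rfl, map_sum]
        refine Finset.sum_congr rfl fun a _ => ?_
        rw [map_smul, smul_eq_mul]
        show c a * Cfsg.hermForm n F q (G a) (∑ l, d l • G l) = _
        rw [← Finset.mul_sum]
        congr 1
        rw [hf.herm, show Cfsg.hermForm n F q (∑ l, d l • G l) (G a) = linL hf (G a) (∑ l, d l • G l) from rfl,
          map_sum, map_sum]
        refine Finset.sum_congr rfl fun l _ => ?_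
        rw [map_smul, smul_eq_mul, map_mul]
        show σ (d l) * σ (Cfsg.hermForm n F q (G l) (G a)) = _
        rw [← hf.herm]
      have hcoord : ∀ z, ∃ c : Fin k ⊕ Fin k → F, z = ∑ a, c a • E a := fun z =>
        ⟨fun a => B.repr z a, by
          conv_lhs => rw [← B.sum_repr z]
          simp only [hB]⟩
      obtain ⟨c, rfl⟩ := hcoord x
      obtain ⟨d, rfl⟩ := hcoord y
      rw [map_sum, map_sum]
      simp only [map_smul, hτE, hsum, hEE']
    obtain ⟨J0, hJ0v⟩ : ∃ J0 : GL (Fin n) F, ∀ x, (J0 : Matrix _ _ F) *ᵥ x = τ x := by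
      refine ⟨glOfInjective τ ?_, fun x => glOfInjective_mulVec _ _ x⟩
      rw [injective_iff_map_eq_zero]
      intro x hx
      by_contra h0
      obtain ⟨z, hz⟩ := (hf.nondegenerate x h0).1
      exact hz (by rw [← hτi, hx, zero_right' hf])
    have hJ0i : Iso (Cfsg.hermForm n F q) J0 := fun x y => by rw [hJ0v, hJ0v, hτi]
    have hJ0D : ∀ (i j : Fin 2) (G G' : Fin k → (Fin n → F)), (∀ l, G l ∈ D i) → (∀ l, G' l ∈ D j) →
        (∀ l, τ (G l) = G' l) → LinearIndependent F G → ∀ x ∈ D i, τ x ∈ D j := by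
      intro i j G G' hG hG' hτG hGind x hx
      have hle : D i ≤ Submodule.span F (Set.range G) := by
        refine (Submodule.eq_of_le_of_finrank_eq (Submodule.span_le.mpr (by rintro _ ⟨l, rfl⟩; exact hG l)) ?_).ge
        rw [finrank_span_eq_card hGind, Fintype.card_fin, hD.finrank_eq]
      have h1 : τ x ∈ (Submodule.span F (Set.range G)).map τ := ⟨x, hle hx, rfl⟩
      rw [Submodule.map_span] at h1
      refine Submodule.span_le.mpr ?_ h1
      rintro _ ⟨_, ⟨l, rfl⟩, rfl⟩
      rw [hτG]; exact hG' l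
    have hτ01 : ∀ x ∈ D 0, τ x ∈ D 1 := hJ0D 0 1 e g' heD hgD (fun l => by
      have := hτE (Sum.inl l); simpa [hE, hE'] using this) (by
      have := hind.comp Sum.inl Sum.inl_injective; simpa [hE, Function.comp_def] using this)
    have hτ10 : ∀ x ∈ D 1, τ x ∈ D 0 := hJ0D 1 0 g' e hgD heD (fun l => by
      have := hτE (Sum.inr l); simpa [hE, hE'] using this) (by
      have := hind.comp Sum.inr Sum.inr_injective; simpa [hE, Function.comp_def] using this)
    obtain ⟨δ, hδ⟩ : ∃ δ, δ = (J0 : Matrix (Fin n) (Fin n) F).det := ⟨_, rfl⟩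
    have hδn : δ * σ δ = 1 := hδ ▸ det_norm hσ hJ0i
    obtain ⟨μ, hμ0, hμ⟩ : ∃ μ : F, μ ≠ 0 ∧ σ μ = δ * μ := by
      have key : ∀ y, σ (y + σ δ * σ y) = δ * (y + σ δ * σ y) := fun y => by
        rw [map_add, map_mul, hinv, hinv]; linear_combination (-σ y) * hδn
      by_contra h
      simp only [not_exists, not_and] at h
      have hz : ∀ y, y + σ δ * σ y = 0 := fun y => by_contra fun h0 => h _ h0 (key y)
      have h1 := hz 1
      rw [map_one, mul_one] at h1
      refine hne (RingEquiv.ext fun y => ?_)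
      rw [RingEquiv.refl_apply]
      linear_combination (-1 : F) * hz y + σ y * h1
    have hσμ0 : σ μ ≠ 0 := (map_ne_zero_iff _ σ.injective).mpr hμ0
    let i0 : Fin k := ⟨0, by omega⟩
    have hu1 : uvec (Cfsg.hermForm n F q) (g' i0) ⬝ᵥ e i0 = 1 := by rw [uvec_dot hf, heg, if_pos rfl]
    have hu2 : uvec (Cfsg.hermForm n F q) (e i0) ⬝ᵥ g' i0 = 1 := by rw [uvec_dot hf, hge, if_pos rfl]
    obtain ⟨K, hK⟩ : ∃ K, K = CfsgLib.Classical22.Monomial.refl (e i0) (uvec (Cfsg.hermForm n F q) (g' i0)) μ *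
        CfsgLib.Classical22.Monomial.refl (g' i0) (uvec (Cfsg.hermForm n F q) (e i0)) (σ μ)⁻¹ := ⟨_, rfl⟩
    have hKv : ∀ x, (K : Matrix _ _ F) *ᵥ x = x + ((μ - 1) * Cfsg.hermForm n F q x (g' i0)) • e i0 +
        (((σ μ)⁻¹ - 1) * Cfsg.hermForm n F q x (e i0)) • g' i0 := by
      intro x
      rw [hK, mul_mulVec, CfsgLib.Classical22.Monomial.refl_mulVec hu2 (inv_ne_zero hσμ0),
        CfsgLib.Classical22.Monomial.refl_mulVec hu1 hμ0, uvec_dot hf, uvec_dot hf, hf.add_left, hf.smul_left, hgg]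
      simp [add_right_comm]
    refine ⟨K * J0, Iso.mul (fun x y => ?_) hJ0i, ?_, fun x hx => ?_, fun x hx => ?_⟩
    · rw [hKv, hKv]
      simp only [hf.add_left, add_right' hf, hf.smul_left, smul_right' hf, hee, hgg, heg, hge, if_true, map_mul,
        map_sub, map_one, map_inv₀, hinv, mul_zero, mul_one, add_zero, zero_add]
      rw [← hf.herm (g' i0) y, ← hf.herm (e i0) y]
      field_simp
      ring
    · rw [hK, Units.val_mul, Units.val_mul, det_mul, det_mul,
        CfsgLib.Classical22.Monomial.det_refl hu1 hμ0, CfsgLib.Classical22.Monomial.det_refl hu2 (inv_ne_zero hσμ0),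
        ← hδ]
      field_simp
      linear_combination (-1 : F) * hμ
    · rw [mul_mulVec, hJ0v, hKv, hts 1 _ (hτ01 x hx) _ (hgD i0), mul_zero, zero_smul, add_zero]
      exact (D 1).add_mem (hτ01 x hx) ((D 1).smul_mem _ (hgD i0))
    · rw [mul_mulVec, hJ0v, hKv, hts 0 _ (hτ10 x hx) _ (heD i0), mul_zero, zero_smul, add_zero]
      exact (D 0).add_mem (hτ10 x hx) ((D 0).smul_mem _ (heD i0))
  refine ⟨lt_of_le_not_ge inf_le_right fun hle => ?_, fun M hHM hMK => ?_⟩
  · obtain ⟨a, ha, ha0⟩ := Submodule.exists_mem_ne_zero_of_ne_bot (p := D 0) fun h => by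
      have := hD.finrank_eq 0; rw [h, finrank_bot] at this; omega
    obtain ⟨z, hz⟩ := (hf.nondegenerate a ha0).2
    obtain ⟨b, hb⟩ : ∃ b, b = dcomp hint 1 z := ⟨_, rfl⟩
    have hab : Cfsg.hermForm n F q a b ≠ 0 := by
      rw [← hsplit z, add_right' hf, hts 0 a ha _ (dcomp_mem hint 0 z), zero_add, ← hb] at hz
      exact hz
    have hbD : b ∈ D 1 := hb ▸ dcomp_mem hint 1 z
    obtain ⟨c, hc0, hc⟩ := exists_skew hne hinv
    obtain ⟨τ, hτ⟩ := (hle (uT_mem_SU hσ hinv hne (hts 1 b hbD b hbD) hc)).1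
    have h : (uT (Cfsg.hermForm n F q) b c : Matrix _ _ F) *ᵥ a ∈ D (τ 0) := by
      rw [← hτ 0]; exact Submodule.mem_map.mpr ⟨a, ha, by rw [Matrix.toLin'_apply]⟩
    rw [uT_mulVec hf (hts 1 b hbD b hbD)] at h
    have h0 := dcomp_of_mem hint h 0
    have h1 := dcomp_of_mem hint h 1
    rw [map_add, map_smul, dcomp_of_mem hint ha, dcomp_of_mem hint hbD] at h0 h1
    by_cases hs : τ 0 = 0
    · rw [hs] at h1
      simp [hc0] at h1
      rcases h1 with h1 | h1
      · exact hab h1
      · exact hab (by rw [h1, zero_right' hf])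
    · rw [if_neg (Ne.symm hs)] at h0
      simp at h0
      exact ha0 h0
  by_cases hM : M ≤ Cfsg.Geo.decompositionStabilizer D
  · exact Or.inl (le_antisymm (le_inf hM hMK) hHM)
  right
  obtain ⟨g, hgM, hgD⟩ := SetLike.not_le_iff_exists.mp hM
  have hgi : Iso (Cfsg.hermForm n F q) g := (hMK hgM).1
  have H : Halves σ (Cfsg.hermForm n F q) M (D 0) (D 1) (dcomp hint 0) (dcomp hint 1) :=
    ⟨fun x => dcomp_mem hint 0 x, fun x => dcomp_mem hint 1 x, hsplit, hts 0, hts 1,
      by rw [hD.finrank_eq]; omega, by rw [hD.finrank_eq]; omega, fun c hc d hd h l => hHM (hX c hc d hd h l)⟩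
  have hJM : J ∈ M := hHM ⟨hmaps J (Equiv.swap 0 1) (fun i x hx => by
    fin_cases i
    · simpa using hJ0 x hx
    · simpa using hJ1 x hx), hJi, (mem_specialLinear_iff _).mpr hJd⟩
  obtain ⟨u, hu0, hu⟩ : ∃ u, u ≠ 0 ∧ UFull σ (Cfsg.hermForm n F q) M u := by
    by_contra hcon
    -- every element of a half is sent into a half
    have hpure : ∀ i, ∀ x ∈ D i, (g : Matrix _ _ F) *ᵥ x ∈ D 0 ∨ (g : Matrix _ _ F) *ᵥ x ∈ D 1 := by
      intro i x hx
      by_contra h
      simp only [not_or] at h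
      have hne : dcomp hint 0 ((g : Matrix _ _ F) *ᵥ x) ≠ 0 ∧ dcomp hint 1 ((g : Matrix _ _ F) *ᵥ x) ≠ 0 := by
        refine ⟨fun h0 => h.2 ?_, fun h0 => h.1 ?_⟩
        · rw [← hsplit ((g : Matrix _ _ F) *ᵥ x), h0, zero_add]; exact dcomp_mem hint 1 _
        · rw [← hsplit ((g : Matrix _ _ F) *ᵥ x), h0, add_zero]; exact dcomp_mem hint 0 _
      fin_cases i
      · exact hcon (H.exists_full hf hgM hgi hx hne)
      · exact hcon ((H.symm hf).exists_full hf hgM hgi hx hne.symm)
    have hwhole : ∀ i, ∃ j, ∀ x ∈ D i, (g : Matrix _ _ F) *ᵥ x ∈ D j := by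
      intro i
      have hsub : (D i ≤ (D 0).comap (Matrix.toLin' (g : Matrix _ _ F))) ∨
          (D i ≤ (D 1).comap (Matrix.toLin' (g : Matrix _ _ F))) :=
        AddSubgroupClass.subset_union.mp fun x hx => by simpa [Matrix.toLin'_apply] using hpure i x hx
      rcases hsub with h | h
      · exact ⟨0, fun x hx => by simpa [Matrix.toLin'_apply] using h hx⟩
      · exact ⟨1, fun x hx => by simpa [Matrix.toLin'_apply] using h hx⟩
    choose s hs using hwhole
    have himg : ∀ i, (D i).map (Matrix.toLin' (g : Matrix _ _ F)) = D (s i) := fun i =>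
      map_gl_eq_of_le g (by rw [hD.finrank_eq, hD.finrank_eq]) (hs i)
    have hsne : s 0 ≠ s 1 := by
      intro h
      have h01 : D 0 = D 1 := by
        have := (himg 0).trans ((congrArg D h).trans (himg 1).symm)
        exact Submodule.map_injective_of_injective (fun x y hxy => mulVec_injective g (by simpa using hxy)) this
      obtain ⟨a, ha, ha0⟩ := Submodule.exists_mem_ne_zero_of_ne_bot (p := D 0) fun h => by
        have := hD.finrank_eq 0; rw [h, finrank_bot] at this; omega
      refine ha0 ?_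
      by_contra ha'
      obtain ⟨z, hz⟩ := (hf.nondegenerate a ha').1
      refine hz ?_
      rw [← hsplit z, hf.add_left, hts 0 _ (dcomp_mem hint 0 z) a ha, hts 1 _ (dcomp_mem hint 1 z) a (h01 ▸ ha), add_zero]
    have hsinj : Function.Injective s := by
      intro i j hij
      fin_cases i <;> fin_cases j <;> simp_all
    exact hgD ⟨Equiv.ofBijective s hsinj.bijective_of_finite, himg⟩
  have hall := H.spread hf hJM hJi hJ0 hJ1 hu0 hu
  exact le_antisymm hMK (SU_le_of_transv hσ hinv hne (by omega) fun v hv c hc => (hall v hv).2 c hc)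

/-- Let F be the field with q² elements and n = 2k ≥ 13. Let D be a decomposition of F^n into two complementary subspaces of dimension k on each of which the standard unitary form vanishes identically. Then the elements of SU_n(q) preserving or interchanging the two subspaces form a maximal subgroup of SU_n(q). -/
theorem result {F : Type*} [Field F] [Fintype F] (n q : ℕ) (hF : Fintype.card F = q ^ 2) (hn : 13 ≤ n) (k : ℕ) (hk : 2 * k = n) (D : Fin 2 → Submodule F (Fin n → F)) (hD : Cfsg.Geo.IsMDecomposition k D) (hts : ∀ i, Cfsg.Geo.IsTotallySingularFor (Cfsg.hermForm n F q) (D i)) : Cfsg.Geo.IsMaximalIn (Cfsg.GU n F q ⊓ Cfsg.Geo.specialLinear (Fin n) F) (Cfsg.Geo.decompositionStabilizer D ⊓ (Cfsg.GU n F q ⊓ Cfsg.Geo.specialLinear (Fin n) F)) := by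
  exact result_of_le n q hF (by omega) k hk D hD hts

end Cfsg.Agent.S5657
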