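import Cfsg.Statements.S5660
import Cfsg.Agent.Lib.Transvec.UnitarySub
import Cfsg.Agent.Lib.Transvec.HermForm
import Cfsg.Agent.Lib.Transvec.SympSpaces
import Cfsg.Agent.Lib.Transvec.Subfield

set_option autoImplicit false
open Cfsg

namespace Cfsg.Agent.S5660

open CfsgLib.Transvec CfsgLib.Transvec.Unitary Matrix
open scoped MatrixGroups

section
variable {ι : Type} [Fintype ι] [DecidableEq ι] {F : Type*} [Field F] [Finite F] {σ : F ≃+* F}
  {f : (ι → F) → (ι → F) → F} {F₀ : Subfield F} {P : GL ι F}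

/-- The rational vector with coordinates `u`. -/
def rv (P : GL ι F) (u : ι → F₀) : ι → F := (P : Matrix ι ι F) *ᵥ coeVec F₀ u

lemma rv_add (u v : ι → F₀) : rv P (u + v) = rv P u + rv P v := by
  rw [rv, coeVec_add, mulVec_add]; rfl

lemma rv_smul (c : F₀) (u : ι → F₀) : rv P (c • u) = (c : F) • rv P u := by
  rw [rv, coeVec_smul, mulVec_smul]; rfl

lemma rv_zero : rv P (0 : ι → F₀) = 0 := by rw [rv, coeVec_zero, mulVec_zero]

lemma gl_ext_rational {g h : GL ι F}
    (H : ∀ u : ι → F₀, (g : Matrix ι ι F) *ᵥ rv P u = (h : Matrix ι ι F) *ᵥ rv P u) : g = h := by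
  refine gl_ext fun x => ?_
  refine Submodule.span_induction (p := fun x _ => (g : Matrix ι ι F) *ᵥ x = (h : Matrix ι ι F) *ᵥ x) ?_ ?_ ?_ ?_
    (mem_span_rational (F₀ := F₀) (P := P) x)
  · rintro _ ⟨u, rfl⟩; exact H u
  · simp
  · intro a b _ _ ha hb; rw [mulVec_add, mulVec_add, ha, hb]
  · intro c a _ ha; rw [mulVec_smul, mulVec_smul, ha]

lemma iso_of_rational (hf : Cfsg.Geo.IsUnitaryForm σ f) {g : GL ι F}
    (H : ∀ u v : ι → F₀, f ((g : Matrix ι ι F) *ᵥ rv P u) ((g : Matrix ι ι F) *ᵥ rv P v) = f (rv P u) (rv P v)) :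
    Iso f g := by
  intro x y
  refine Submodule.span_induction
    (p := fun x _ => f ((g : Matrix ι ι F) *ᵥ x) ((g : Matrix ι ι F) *ᵥ y) = f x y) ?_ ?_ ?_ ?_
    (mem_span_rational (F₀ := F₀) (P := P) x)
  · rintro _ ⟨u, rfl⟩
    refine Submodule.span_induction
      (p := fun y _ => f ((g : Matrix ι ι F) *ᵥ rv P u) ((g : Matrix ι ι F) *ᵥ y) = f (rv P u) y) ?_ ?_ ?_ ?_
      (mem_span_rational (F₀ := F₀) (P := P) y)
    · rintro _ ⟨v, rfl⟩; exact H u v
    · rw [mulVec_zero, Unitary.zero_right' hf, Unitary.zero_right' hf]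
    · intro a b _ _ ha hb; rw [mulVec_add, Unitary.add_right' hf, Unitary.add_right' hf, ha, hb]
    · intro c a _ ha; rw [mulVec_smul, Unitary.smul_right' hf, Unitary.smul_right' hf, ha]
  · rw [mulVec_zero, Unitary.zero_left' hf, Unitary.zero_left' hf]
  · intro a b _ _ ha hb; rw [mulVec_add, hf.add_left, hf.add_left, ha, hb]
  · intro c a _ ha; rw [mulVec_smul, hf.smul_left, hf.smul_left, ha]

/-- The F₀-valued alternating form on the rational vectors. -/
def ratForm (ζ : F) (hP : Cfsg.Geo.IsFormRationalStructure f F₀ ζ P) (u v : ι → F₀) : F₀ :=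
  ⟨ζ * f (rv P u) (rv P v), hP _ _ (fun i => (u i).2) (fun i => (v i).2)⟩

lemma isSymplectic_ratForm (hf : Cfsg.Geo.IsUnitaryForm σ f) (hfix : ∀ x, σ x = x ↔ x ∈ F₀) {ζ : F} (hζ : ζ ≠ 0)
    (hP : Cfsg.Geo.IsFormRationalStructure f F₀ ζ P) (halt : ∀ u : ι → F₀, f (rv P u) (rv P u) = 0) :
    Cfsg.Geo.IsSymplecticForm (ratForm ζ hP) := by
  have hc : ∀ c : F₀, σ (c : F) = c := fun c => (hfix _).mpr c.2
  have hskew : ∀ v w : ι → F₀, f (rv P v) (rv P w) = - f (rv P w) (rv P v) := fun v w => by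
    have h := halt (v + w)
    rw [rv_add, hf.add_left, Unitary.add_right' hf, Unitary.add_right' hf, halt, halt] at h
    linear_combination h
  refine ⟨⟨fun x y v => ?_, fun c x v => ?_, fun v x y => ?_, fun c v x => ?_⟩, fun v w => ?_, fun v => ?_,
    fun v hv => ?_⟩
  · apply Subtype.ext; simp only [ratForm, rv_add, hf.add_left, Subfield.coe_add]; ring
  · apply Subtype.ext; simp only [ratForm, rv_smul, hf.smul_left, Subfield.coe_mul]; ring
  · apply Subtype.ext; simp only [ratForm, rv_add, Unitary.add_right' hf, Subfield.coe_add]; ring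
  · apply Subtype.ext; simp only [ratForm, rv_smul, Unitary.smul_right' hf, Subfield.coe_mul, hc]; ring
  · apply Subtype.ext
    simp only [ratForm, Subfield.coe_neg]
    rw [hskew v w]; ring
  · apply Subtype.ext; simp [ratForm, halt]
  · have hv0 : rv P v ≠ 0 := mulVec_ne_zero P fun h => hv (coeVec_injective (h.trans coeVec_zero.symm))
    obtain ⟨x, hx⟩ := (hf.nondegenerate _ hv0).1
    have hex : ∃ w : ι → F₀, f (rv P w) (rv P v) ≠ 0 := by
      by_contra hcon
      simp only [not_exists, not_not] at hcon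
      refine hx ?_
      refine Submodule.span_induction (p := fun x _ => f x (rv P v) = 0) ?_ (Unitary.zero_left' hf _) ?_ ?_
        (mem_span_rational (F₀ := F₀) (P := P) x)
      · rintro _ ⟨u, rfl⟩; exact hcon u
      · intro a b _ _ ha hb; rw [hf.add_left, ha, hb, add_zero]
      · intro c a _ ha; rw [hf.smul_left, ha, mul_zero]
    obtain ⟨w, hw⟩ := hex
    refine ⟨⟨w, fun h => ?_⟩, ⟨w, fun h => ?_⟩⟩
    · exact mul_ne_zero hζ hw (congrArg Subtype.val h)
    · have h' : ζ * f (rv P v) (rv P w) = 0 := congrArg Subtype.val h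
      rw [hskew, mul_neg, neg_eq_zero] at h'
      exact mul_ne_zero hζ hw h'

/-- A group containing the rational transvections and one element moving a rational line to a non-rational one
contains all unitary transvections. -/
theorem all_full (hf : Cfsg.Geo.IsUnitaryForm σ f) (hfix : ∀ x, σ x = x ↔ x ∈ F₀) {ζ : F} (hζ : ζ ≠ 0)
    (hζσ : ζ + σ ζ = 0) (hP : Cfsg.Geo.IsFormRationalStructure f F₀ ζ P)
    (halt : ∀ u : ι → F₀, f (rv P u) (rv P u) = 0) {M : Subgroup (GL ι F)}
    (hM : ∀ (v : ι → F₀) (c : F), c + σ c = 0 → uT f (rv P v) c ∈ M)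
    {g : GL ι F} (hgM : g ∈ M) (hg : Iso f g) (hgH : g ∉ Cfsg.Geo.subfieldSubgroup F₀ P) :
    ∀ x, f x x = 0 → UFull σ f M x := by
  have hB := isSymplectic_ratForm hf hfix hζ hP halt
  obtain ⟨M₀, hM₀⟩ : ∃ M₀, M₀ = M.comap (subfieldHom F₀ P) := ⟨_, rfl⟩
  have hrv : ∀ (h : GL ι F₀) u, ((subfieldHom F₀ P h : GL ι F) : Matrix ι ι F) *ᵥ rv P u =
      rv P ((h : Matrix ι ι F₀) *ᵥ u) := fun h u => subfieldHom_mulVec h u
  have hall : ∀ v, Full (ratForm ζ hP) M₀ v := by
    intro v c
    rw [hM₀, Subgroup.mem_comap]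
    have hskew : (c : F) * ζ + σ ((c : F) * ζ) = 0 := by
      rw [map_mul, (hfix _).mpr c.2, ← mul_add, hζσ, mul_zero]
    have e : subfieldHom F₀ P (sT (ratForm ζ hP) v c) = uT f (rv P v) ((c : F) * ζ) :=
      gl_ext_rational (F₀ := F₀) (P := P) fun u => by
        rw [hrv, sT_mulVec hB, rv_add, rv_smul, uT_mulVec hf (halt v)]
        congr 2
        simp only [ratForm, Subfield.coe_mul]
        ring
    rw [e]
    exact hM v _ hskew
  have hisoM : ∀ h : GL ι F₀, h ∈ M₀ → Iso (ratForm ζ hP) h → Iso f (subfieldHom F₀ P h) := fun h _ hi =>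
    iso_of_rational (F₀ := F₀) (P := P) hf fun u v => by
      rw [hrv, hrv]
      exact mul_left_cancel₀ hζ (congrArg Subtype.val (hi u v))
  -- coordinates
  obtain ⟨θ, hθ⟩ : ∃ θ : F, σ θ ≠ θ := by
    by_contra h
    simp only [not_exists, not_not] at h
    exact hf.ne_refl (RingEquiv.ext h)
  have hsplit : ∀ x : ι → F, ∃ a b : ι → F₀, x = rv P a + θ • rv P b := by
    intro x
    obtain ⟨y, hy⟩ : ∃ y, y = ((P⁻¹ : GL ι F) : Matrix ι ι F) *ᵥ x := ⟨_, rfl⟩
    have hd : θ - σ θ ≠ 0 := sub_ne_zero.mpr (Ne.symm hθ)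
    have hd' : σ θ - θ ≠ 0 := sub_ne_zero.mpr hθ
    have hb : ∀ i, (y i - σ (y i)) / (θ - σ θ) ∈ F₀ := fun i => (hfix _).mp (by
      rw [map_div₀, map_sub, map_sub, hf.involutive, hf.involutive, div_eq_div_iff hd' hd]; ring)
    have ha : ∀ i, y i - θ * ((y i - σ (y i)) / (θ - σ θ)) ∈ F₀ := fun i => (hfix _).mp (by
      rw [map_sub, map_mul, (hfix _).mpr (hb i)]
      field_simp
      ring)
    refine ⟨fun i => ⟨_, ha i⟩, fun i => ⟨_, hb i⟩, ?_⟩
    rw [rv, rv, ← mulVec_smul, ← mulVec_add, ← mulVec_inv_cancel P x, ← hy]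
    congr 1
    funext i
    simp [coeVec]
  have hpair : ∀ a b : ι → F₀, f (rv P a + θ • rv P b) (rv P a + θ • rv P b) = 0 → ratForm ζ hP a b = 0 := by
    intro a b h
    have hskew : f (rv P b) (rv P a) = - f (rv P a) (rv P b) := by
      have h' := halt (a + b)
      rw [rv_add, hf.add_left, Unitary.add_right' hf, Unitary.add_right' hf, halt, halt] at h'
      linear_combination h'
    rw [hf.add_left, Unitary.add_right' hf, Unitary.add_right' hf, hf.smul_left, hf.smul_left,
      Unitary.smul_right' hf, Unitary.smul_right' hf, halt, halt, hskew] at h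
    have h' : (σ θ - θ) * f (rv P a) (rv P b) = 0 := by linear_combination h
    have h'' : f (rv P a) (rv P b) = 0 := (mul_eq_zero.mp h').resolve_left (sub_ne_zero.mpr hθ)
    apply Subtype.ext
    simp [ratForm, h'']
  have hrat : ∀ v, UFull σ f M (rv P v) := fun v => ⟨halt v, fun c hc => hM v c hc⟩
  -- a full vector off the rational lines
  obtain ⟨a₀, b₀, hu₀, ha₀, hb₀⟩ : ∃ a b : ι → F₀, UFull σ f M (rv P a + θ • rv P b) ∧ a ≠ 0 ∧
      b ∉ Submodule.span F₀ {a} := by
    by_contra hcon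
    simp only [not_exists, not_and, not_not] at hcon
    refine hgH (mem_subfieldSubgroup_of_lines g fun u => ?_)
    have h1 := ufull_conj hf hgM hg (hrat u)
    obtain ⟨a, b, hab⟩ := hsplit ((g : Matrix ι ι F) *ᵥ rv P u)
    rw [hab] at h1
    change ∃ l r, (g : Matrix ι ι F) *ᵥ rv P u = l • rv P r
    by_cases ha : a = 0
    · exact ⟨θ, b, by rw [hab, ha, rv_zero, zero_add]⟩
    obtain ⟨j, hj⟩ := Submodule.mem_span_singleton.mp (hcon a b h1 ha)
    exact ⟨1 + θ * (j : F), a, by rw [hab, ← hj, rv_smul, smul_smul, add_smul, one_smul]⟩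
  have hB₀ := hpair a₀ b₀ hu₀.1
  intro x hxx
  obtain ⟨a, b, rfl⟩ := hsplit x
  by_cases ha : a = 0
  · rw [ha, rv_zero, zero_add]; exact ufull_smul hf (hrat b) θ
  by_cases hb : b ∈ Submodule.span F₀ {a}
  · obtain ⟨j, rfl⟩ := Submodule.mem_span_singleton.mp hb
    have := ufull_smul hf (hrat a) (1 + θ * (j : F))
    rwa [add_smul, one_smul, ← smul_smul, ← rv_smul] at this
  obtain ⟨h₁, hh₁, hi₁, he₁, -⟩ := exists_move_fix hB hall (⊥ : Submodule F₀ (ι → F₀)) (v := a₀) (b := a)
    (by simpa using ha₀) (by simpa using ha) (fun e he => by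
      rw [(Submodule.mem_bot F₀).mp he, CfsgLib.Transvec.zero_left' hB, CfsgLib.Transvec.zero_left' hB])
  have hb₁ : (h₁ : Matrix ι ι F₀) *ᵥ b₀ ∉ Submodule.span F₀ {a} := fun hm => by
    obtain ⟨j, hj⟩ := Submodule.mem_span_singleton.mp hm
    refine hb₀ (Submodule.mem_span_singleton.mpr ⟨j, mulVec_injective h₁ ?_⟩)
    simp only [mulVec_smul, he₁, hj]
  obtain ⟨h₂, hh₂, hi₂, he₂, hfix₂⟩ := exists_move_fix hB hall (Submodule.span F₀ {a})
    (v := (h₁ : Matrix ι ι F₀) *ᵥ b₀) (b := b) hb₁ hb (fun e he => by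
      obtain ⟨j, rfl⟩ := Submodule.mem_span_singleton.mp he
      rw [CfsgLib.Transvec.smul_left' hB, CfsgLib.Transvec.smul_left' hB, hpair a b hxx]
      conv_lhs => rw [← he₁, hi₁, hB₀])
  have hmem : subfieldHom F₀ P (h₂ * h₁) ∈ M := Subgroup.mem_comap.mp (hM₀ ▸ M₀.mul_mem hh₂ hh₁)
  have := ufull_conj hf hmem (hisoM _ (M₀.mul_mem hh₂ hh₁) (hi₂.mul hi₁)) hu₀
  rwa [mulVec_add, mulVec_smul, hrv, hrv, mul_mulVec, mul_mulVec, he₁,
    hfix₂ a (Submodule.mem_span_singleton_self a), he₂] at this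

end

/-- The engine with a lower bound on the dimension. -/
theorem result_of_le {F : Type*} [Field F] [Fintype F] (n q : ℕ) (hF : Fintype.card F = q ^ 2) (hn : 6 ≤ n) (heven : Even n) (F₀ : Subfield F) (hcard : Fintype.card F = Nat.card F₀ ^ 2) (ζ : F) (hζ0 : ζ ≠ 0) (hζ : ζ + ζ ^ q = 0) (P : Matrix.GeneralLinearGroup (Fin n) F) (hP : Cfsg.Geo.IsFormRationalStructure (Cfsg.hermForm n F q) F₀ ζ P) (halt : ∀ u : Fin n → F, (∀ i, u i ∈ F₀) → Cfsg.hermForm n F q (Matrix.mulVec (P : Matrix (Fin n) (Fin n) F) u) (Matrix.mulVec (P : Matrix (Fin n) (Fin n) F) u) = 0) : Cfsg.Geo.IsMaximalIn (Cfsg.GU n F q ⊓ Cfsg.Geo.specialLinear (Fin n) F) (Cfsg.Geo.subfieldSubgroup F₀ P ⊓ (Cfsg.GU n F q ⊓ Cfsg.Geo.specialLinear (Fin n) F)) := by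
  classical
  obtain ⟨σ, hσ, hinv, hne⟩ := exists_frob hF
  have hf := isUnitaryForm_hermForm (n := n) hσ hinv hne
  haveI : Fintype F₀ := Fintype.ofFinite F₀
  have hq : Fintype.card F₀ = q := by
    have := hcard.symm.trans hF
    rw [Nat.card_eq_fintype_card] at this
    exact Nat.pow_left_injective two_ne_zero this
  have hq1 : 1 < q := hq ▸ Fintype.one_lt_card
  have hmem : ∀ x ∈ F₀, σ x = x := fun x hx => by
    have := congrArg Subtype.val (FiniteField.pow_card (⟨x, hx⟩ : F₀))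
    rw [hq] at this
    rw [hσ]
    simpa using this
  have hfix : ∀ x, σ x = x ↔ x ∈ F₀ := by
    refine fun x => ⟨fun hx => ?_, hmem x⟩
    by_contra hx0
    obtain ⟨S, hS⟩ : ∃ S : Finset F, S = insert x (Finset.univ.image fun y : F₀ => (y : F)) := ⟨_, rfl⟩
    have h1 : S.card = q + 1 := by
      rw [hS, Finset.card_insert_of_notMem (by simpa using hx0),
        Finset.card_image_of_injective _ Subtype.val_injective, Finset.card_univ, hq]
    have hroot : ∀ y ∈ S, σ y = y := by
      intro y hy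
      rw [hS, Finset.mem_insert, Finset.mem_image] at hy
      rcases hy with rfl | ⟨z, -, rfl⟩
      · exact hx
      · exact hmem z z.2
    have h2 : S.card ≤ (Polynomial.X ^ q - Polynomial.X : Polynomial F).natDegree := by
      refine le_trans ((Finset.card_le_card fun y hy => ?_).trans (Multiset.toFinset_card_le _))
        (Polynomial.card_roots' _)
      rw [Multiset.mem_toFinset, Polynomial.mem_roots (FiniteField.X_pow_card_sub_X_ne_zero F hq1)]
      have := hroot y hy
      rw [hσ] at this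
      simp [this]
    rw [FiniteField.X_pow_card_sub_X_natDegree_eq F hq1] at h2
    omega
  have hζσ : ζ + σ ζ = 0 := by rw [hσ]; exact hζ
  have halt' : ∀ u : Fin n → F₀, Cfsg.hermForm n F q (rv P u) (rv P u) = 0 := fun u => halt _ fun i => (u i).2
  have hB := isSymplectic_ratForm hf hfix hζ0 hP halt'
  have hH : ∀ (v : Fin n → F₀) (c : F), c + σ c = 0 →
      uT (Cfsg.hermForm n F q) (rv P v) c ∈ Cfsg.Geo.subfieldSubgroup F₀ P ⊓
        (Cfsg.GU n F q ⊓ Cfsg.Geo.specialLinear (Fin n) F) := by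
    intro v c hc
    refine ⟨mem_subfieldSubgroup_of_lines _ fun u => ⟨1, u + (⟨c / ζ, (hfix _).mp ?_⟩ * ratForm ζ hP u v) • v, ?_⟩,
      uT_mem_SU hσ hinv hne (halt' v) hc⟩
    · rw [map_div₀, eq_neg_of_add_eq_zero_right hc, eq_neg_of_add_eq_zero_right hζσ, neg_div_neg_eq]
    · change (uT (Cfsg.hermForm n F q) (rv P v) c : Matrix _ _ F) *ᵥ rv P u = (1 : F) • rv P _
      rw [uT_mulVec hf (halt' v), one_smul, rv_add, rv_smul]
      congr 2
      simp only [ratForm, Subfield.coe_mul]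
      field_simp
  refine ⟨lt_of_le_not_ge inf_le_right fun hle => ?_, fun M hHM hMK => ?_⟩
  · obtain ⟨a, ha⟩ : ∃ a : Fin n → F₀, a ≠ 0 := ⟨Pi.single ⟨0, by omega⟩ 1, by simp⟩
    let φ := toBilin hB.bilinear a
    have hker : ¬ LinearMap.ker φ ≤ Submodule.span F₀ {a} := by
      intro hk
      have h1 := Submodule.finrank_mono hk
      have h2 : Module.finrank F₀ (Submodule.span F₀ ({a} : Set (Fin n → F₀))) = 1 := finrank_span_singleton ha
      have h3 := LinearMap.finrank_range_add_finrank_ker φ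
      have h4 := Submodule.finrank_le (LinearMap.range φ)
      rw [Module.finrank_fin_fun] at h3
      rw [Module.finrank_self] at h4
      omega
    obtain ⟨b, hb, hba⟩ := SetLike.not_le_iff_exists.mp hker
    have hab : ratForm ζ hP a b = 0 := LinearMap.mem_ker.mp hb
    have hab' : Cfsg.hermForm n F q (rv P a) (rv P b) = 0 :=
      (mul_eq_zero.mp (congrArg Subtype.val hab)).resolve_left hζ0
    obtain ⟨θ, hθ⟩ : ∃ θ : F, θ ∉ F₀ := by
      by_contra h
      simp only [not_exists, not_not] at h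
      exact hne (RingEquiv.ext fun x => hmem x (h x))
    have hu : Cfsg.hermForm n F q (rv P a + θ • rv P b) (rv P a + θ • rv P b) = 0 := by
      rw [hf.add_left, Unitary.add_right' hf, Unitary.add_right' hf, hf.smul_left, hf.smul_left,
        Unitary.smul_right' hf, Unitary.smul_right' hf, halt', halt', hab', (eq_zero_comm hf).mp hab']
      ring
    -- a rational vector orthogonal to b but not to a
    obtain ⟨x, hxb, hxa⟩ := exists_perp_ne hB (W := Submodule.span F₀ {b}) (v := a) (fun h => hba (by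
      obtain ⟨j, hj⟩ := Submodule.mem_span_singleton.mp h
      have hj0 : j ≠ 0 := fun h0 => ha (by rw [← hj, h0, zero_smul])
      exact Submodule.mem_span_singleton.mpr ⟨j⁻¹, by rw [← hj, inv_smul_smul₀ hj0]⟩))
    have hxb' : Cfsg.hermForm n F q (rv P x) (rv P b) = 0 :=
      (mul_eq_zero.mp (congrArg Subtype.val (hxb b (Submodule.mem_span_singleton_self b)))).resolve_left hζ0
    obtain ⟨l, r, hlr⟩ := lines_of_mem_subfieldSubgroup (hle (uT_mem_SU hσ hinv hne hu hζσ)).1 x
    change (uT (Cfsg.hermForm n F q) (rv P a + θ • rv P b) ζ : Matrix _ _ F) *ᵥ rv P x = l • rv P r at hlr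
    obtain ⟨k, hk⟩ : ∃ k, k = ratForm ζ hP x a := ⟨_, rfl⟩
    have hk0 : k ≠ 0 := hk ▸ hxa
    have hkv : ζ * Cfsg.hermForm n F q (rv P x) (rv P a + θ • rv P b) = k := by
      rw [Unitary.add_right' hf, Unitary.smul_right' hf, hxb', mul_zero, add_zero, hk]
      rfl
    rw [uT_mulVec hf hu, hkv, smul_add, smul_smul, ← add_assoc, ← rv_smul, ← rv_add, mul_comm, ← smul_smul,
      ← rv_smul] at hlr
    have hind : x + k • a ∉ Submodule.span F₀ {k • b} := fun hm => by
      obtain ⟨j, hj⟩ := Submodule.mem_span_singleton.mp hm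
      have hx' : x = (j * k) • b - k • a := by rw [← smul_smul, hj, add_sub_cancel_right]
      refine hxa ?_
      rw [hx', CfsgLib.Transvec.sub_left' hB, CfsgLib.Transvec.smul_left' hB, CfsgLib.Transvec.smul_left' hB,
        hB.skew b a, hab, hB.alternating]
      ring
    -- coordinates: (x + k a) + θ (k b) = l r
    have hkb : k • b ≠ 0 := smul_ne_zero hk0 fun h0 => hba (by rw [h0]; exact Submodule.zero_mem _)
    have hvec : coeVec F₀ (x + k • a) + θ • coeVec F₀ (k • b) = l • coeVec F₀ r := by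
      refine mulVec_injective P ?_
      simp only [mulVec_add, mulVec_smul]
      exact hlr
    obtain ⟨i, hi⟩ := Function.ne_iff.mp hkb
    have hii := congrFun hvec i
    simp only [coeVec, Pi.add_apply, Pi.smul_apply, smul_eq_mul] at hii hi
    have hri : (r i : F) ≠ 0 := by
      intro h0
      rw [h0, mul_zero] at hii
      refine hθ ?_
      have hb0 : ((k * b i : F₀) : F) ≠ 0 := fun h => hi (Subtype.ext h)
      have : θ = -((x i + k * a i : F₀) : F) / ((k * b i : F₀) : F) := by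
        rw [eq_div_iff hb0]; linear_combination hii
      rw [this]
      exact div_mem (neg_mem (SetLike.coe_mem _)) (SetLike.coe_mem _)
    obtain ⟨A, hA⟩ : ∃ A : F₀, (A : F) = ((x i + k * a i : F₀) : F) / r i :=
      ⟨⟨_, div_mem (SetLike.coe_mem _) (r i).2⟩, rfl⟩
    obtain ⟨C, hC⟩ : ∃ C : F₀, (C : F) = ((k * b i : F₀) : F) / r i :=
      ⟨⟨_, div_mem (SetLike.coe_mem _) (r i).2⟩, rfl⟩
    have hl : l = (A : F) + θ * C := by rw [hA, hC]; field_simp; linear_combination -hii
    have hsep : ∀ p s : F₀, (p : F) + θ * s = 0 → p = 0 ∧ s = 0 := by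
      intro p s h
      by_cases hs : s = 0
      · rw [hs, ZeroMemClass.coe_zero, mul_zero, add_zero] at h
        exact ⟨Subtype.ext h, hs⟩
      · refine absurd ?_ hθ
        have hs' : (s : F) ≠ 0 := fun h0 => hs (Subtype.ext h0)
        have : θ = -(p : F) / s := by rw [eq_div_iff hs']; linear_combination h
        rw [this]
        exact div_mem (neg_mem p.2) s.2
    have hcoord : ∀ j, x j + k * a j = A * r j ∧ k * b j = C * r j := by
      intro j
      have hj := congrFun hvec j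
      simp only [coeVec, Pi.add_apply, Pi.smul_apply, smul_eq_mul, hl] at hj
      obtain ⟨h1, h2⟩ := hsep (x j + k * a j - A * r j) (k * b j - C * r j) (by
        push_cast at hj ⊢
        linear_combination hj)
      exact ⟨sub_eq_zero.mp h1, sub_eq_zero.mp h2⟩
    have hC0 : C ≠ 0 := fun h0 => hkb (funext fun j => by simpa [h0] using (hcoord j).2)
    refine hind (Submodule.mem_span_singleton.mpr ⟨A / C, funext fun j => ?_⟩)
    simp only [Pi.smul_apply, Pi.add_apply, smul_eq_mul, (hcoord j).1, (hcoord j).2]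
    field_simp
  by_cases hM : M ≤ Cfsg.Geo.subfieldSubgroup F₀ P
  · exact Or.inl (le_antisymm (le_inf hM hMK) hHM)
  right
  obtain ⟨g, hgM, hg⟩ := SetLike.not_le_iff_exists.mp hM
  refine le_antisymm hMK (SU_le_of_transv hσ hinv hne (by omega) fun v hv c hc => ?_)
  exact (all_full hf hfix hζ0 hζσ hP halt' (fun u d hd => hHM (hH u d hd)) hgM (hMK hgM).1 hg v hv).2 c hc

/-- Let F be the field with q² elements, n ≥ 13 even, and F₀ the subfield with q elements. Let ζ be a non-zero element with ζ + ζ^q = 0 and P an invertible matrix such that ζ times the standard unitary form takes values in F₀ on the F₀-span of the columns of P and the form vanishes on every pair (u, u) of that span (so ζ times the form restricts to a non-degenerate alternating form there). Then the elements of SU_n(q) lying in the subfield group of P form a maximal subgroup of SU_n(q). -/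
theorem result {F : Type*} [Field F] [Fintype F] (n q : ℕ) (hF : Fintype.card F = q ^ 2) (hn : 13 ≤ n) (heven : Even n) (F₀ : Subfield F) (hcard : Fintype.card F = Nat.card F₀ ^ 2) (ζ : F) (hζ0 : ζ ≠ 0) (hζ : ζ + ζ ^ q = 0) (P : Matrix.GeneralLinearGroup (Fin n) F) (hP : Cfsg.Geo.IsFormRationalStructure (Cfsg.hermForm n F q) F₀ ζ P) (halt : ∀ u : Fin n → F, (∀ i, u i ∈ F₀) → Cfsg.hermForm n F q (Matrix.mulVec (P : Matrix (Fin n) (Fin n) F) u) (Matrix.mulVec (P : Matrix (Fin n) (Fin n) F) u) = 0) : Cfsg.Geo.IsMaximalIn (Cfsg.GU n F q ⊓ Cfsg.Geo.specialLinear (Fin n) F) (Cfsg.Geo.subfieldSubgroup F₀ P ⊓ (Cfsg.GU n F q ⊓ Cfsg.Geo.specialLinear (Fin n) F)) := by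
  exact result_of_le n q hF (by omega) heven F₀ hcard ζ hζ0 hζ P hP halt

end Cfsg.Agent.S5660
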