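import Cfsg.Statements.S5604
import Cfsg.Agent.Lib.M24Cert.Norm

set_option autoImplicit false
open scoped Pointwise
open Cfsg

namespace Cfsg.Agent.S5604

/-- For a subgroup S of order 7 of the group of the length-24 code (a Sylow 7-subgroup): the normaliser of S has order 126, the centraliser of S has order 42 and is non-abelian, and the whole normaliser leaves some trio invariant. (These are the orders of a Frobenius group of order 21 times a symmetric group of degree 3; the isomorphism type itself is not asserted here.) -/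
theorem result (S : Subgroup ↥Cfsg.M24) (hS : Nat.card S = 7) : Nat.card ↥(Subgroup.normalizer (S : Set ↥Cfsg.M24)) = 126 ∧ Nat.card ↥(Subgroup.centralizer (S : Set ↥Cfsg.M24)) = 42 ∧ (∃ x ∈ Subgroup.centralizer (S : Set ↥Cfsg.M24), ∃ y ∈ Subgroup.centralizer (S : Set ↥Cfsg.M24), x * y ≠ y * x) ∧ ∃ T ∈ Cfsg.trios, ∀ n ∈ Subgroup.normalizer (S : Set ↥Cfsg.M24), ((n : ↥Cfsg.M24) : Equiv.Perm Cfsg.GolayPt) • T = T := by
  obtain ⟨x, hx, hne⟩ : ∃ x ∈ S, x ≠ 1 := by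
    by_contra hc
    have : S = ⊥ := (Subgroup.eq_bot_iff_forall S).2 fun x hx => by by_contra h; exact hc ⟨x, hx, h⟩
    rw [this, Subgroup.card_bot] at hS
    omega
  have hord : ∀ y ∈ S, y ≠ 1 → orderOf y = 7 := fun y hy hy1 => by
    rcases (Nat.dvd_prime (show Nat.Prime 7 by norm_num)).1 (hS ▸ Subgroup.orderOf_dvd_natCard S hy) with h | h
    · exact absurd (orderOf_eq_one_iff.1 h) hy1
    · exact h
  obtain ⟨hRk, -, hRm⟩ := CfsgLib.M24Cert.elR_facts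
  obtain ⟨u, hu, y, hyS, hy1, hy⟩ : ∃ u ∈ Cfsg.M24, ∃ y ∈ S, y ≠ 1 ∧
      (y : Equiv.Perm Cfsg.GolayPt) = u * CfsgLib.M24Cert.pL CfsgLib.M24Cert.elR.L * u⁻¹ := by
    obtain ⟨u, hu, e | e⟩ := CfsgLib.M24Cert.seven_class x.2 (by rw [Subgroup.orderOf_coe]; exact hord x hx hne)
    · exact ⟨u, hu, x, hx, hne, e⟩
    · have h7 : orderOf x = 7 := hord x hx hne
      refine ⟨u, hu, x ^ 5, S.pow_mem hx 5, fun h5 => ?_, ?_⟩
      · have := orderOf_dvd_of_pow_eq_one h5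
        rw [h7] at this
        omega
      · have h7' : CfsgLib.M24Cert.pL CfsgLib.M24Cert.elR.L ^ 7 = 1 := by
          refine Equiv.ext fun p => ?_
          obtain ⟨i, hi, rfl⟩ := CfsgLib.M24Cert.exists_pt p
          rw [CfsgLib.M24Cert.elR_pow 7 hi, Nat.eq_of_beq_eq_true (CfsgLib.M24Cert.allLt_spec
            (show CfsgLib.M24Cert.allLt (fun i => Nat.beq (CfsgLib.M24Cert.iterN
              (CfsgLib.M24Cert.getR CfsgLib.M24Cert.elR.L) 7 i) i) 24 = true by decide +kernel) i hi)]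
          rfl
        rw [Subgroup.coe_pow, e, conj_pow, ← pow_mul, show 3 * 5 = 7 + (7 + 1) by norm_num, pow_add, pow_add, h7',
          one_mul, one_mul, pow_one]
  have hz : S = Subgroup.zpowers y := (Subgroup.eq_of_le_of_card_ge (Subgroup.zpowers_le.2 hyS) (by
    rw [Nat.card_zpowers, hord y hyS hy1, hS])).symm
  have hcent : ∀ n : ↥Cfsg.M24, n ∈ Subgroup.centralizer (S : Set ↥Cfsg.M24) ↔
      u⁻¹ * (n : Equiv.Perm Cfsg.GolayPt) * u ∈ Cfsg.M24 ∧
        u⁻¹ * (n : Equiv.Perm Cfsg.GolayPt) * u * CfsgLib.M24Cert.pL CfsgLib.M24Cert.elR.L =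
          CfsgLib.M24Cert.pL CfsgLib.M24Cert.elR.L * (u⁻¹ * (n : Equiv.Perm Cfsg.GolayPt) * u) := by
    intro n
    refine ⟨fun h => ⟨mul_mem (mul_mem (inv_mem hu) n.2) hu, ?_⟩, fun h => ?_⟩
    · have h' : (y : Equiv.Perm Cfsg.GolayPt) * n = n * y :=
        congrArg Subtype.val (Subgroup.mem_centralizer_iff.1 h y hyS)
      rw [hy] at h'
      calc _ = u⁻¹ * ((n : Equiv.Perm Cfsg.GolayPt) * (u * CfsgLib.M24Cert.pL CfsgLib.M24Cert.elR.L * u⁻¹)) * u := by group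
        _ = _ := by rw [← h']; group
    · rw [Subgroup.mem_centralizer_iff]
      intro z hzS
      have hle : S ≤ Subgroup.centralizer {n} := by
        rw [hz, Subgroup.zpowers_le, Subgroup.mem_centralizer_singleton_iff]
        refine Subtype.ext ?_
        show (y : Equiv.Perm Cfsg.GolayPt) * n = n * y
        rw [hy]
        calc _ = u * (CfsgLib.M24Cert.pL CfsgLib.M24Cert.elR.L * (u⁻¹ * (n : Equiv.Perm Cfsg.GolayPt) * u)) * u⁻¹ := by group
          _ = _ := by rw [← h.2]; group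
      exact Subgroup.mem_centralizer_singleton_iff.1 (hle hzS)
  have hnorm : ∀ n : ↥Cfsg.M24, n ∈ Subgroup.normalizer (S : Set ↥Cfsg.M24) ↔
      CfsgLib.M24Cert.NormR (u⁻¹ * (n : Equiv.Perm Cfsg.GolayPt) * u) := by
    intro n
    refine ⟨fun h => ⟨mul_mem (mul_mem (inv_mem hu) n.2) hu, ?_⟩, fun h => ?_⟩
    · have h1 : n * y * n⁻¹ ∈ S := (Subgroup.mem_normalizer_iff.1 h y).1 hyS
      rw [hz, mem_zpowers_iff_mem_range_orderOf, hord y hyS hy1, Finset.mem_image] at h1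
      obtain ⟨i, hi, e⟩ := h1
      refine ⟨i, Finset.mem_range.1 hi, ?_⟩
      have e' : (y : Equiv.Perm Cfsg.GolayPt) ^ i = n * y * (n : Equiv.Perm Cfsg.GolayPt)⁻¹ := congrArg Subtype.val e
      rw [hy, conj_pow] at e'
      calc _ = u⁻¹ * ((n : Equiv.Perm Cfsg.GolayPt) * (u * CfsgLib.M24Cert.pL CfsgLib.M24Cert.elR.L * u⁻¹) *
            (n : Equiv.Perm Cfsg.GolayPt)⁻¹) * (n : Equiv.Perm Cfsg.GolayPt) * u := by group
        _ = _ := by rw [← e']; group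
    · obtain ⟨-, i, -, e⟩ := h
      have hc : MulAut.conj n y = y ^ i := by
        refine Subtype.ext ?_
        show (n : Equiv.Perm Cfsg.GolayPt) * y * (n : Equiv.Perm Cfsg.GolayPt)⁻¹ = (y : Equiv.Perm Cfsg.GolayPt) ^ i
        rw [hy, conj_pow]
        calc _ = u * (u⁻¹ * (n : Equiv.Perm Cfsg.GolayPt) * u * CfsgLib.M24Cert.pL CfsgLib.M24Cert.elR.L) * u⁻¹ *
              (n : Equiv.Perm Cfsg.GolayPt)⁻¹ := by group
          _ = _ := by rw [e]; group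
      have hmap : S.map (MulAut.conj n).toMonoidHom = S := by
        refine Subgroup.eq_of_le_of_card_ge ?_ (by rw [Subgroup.card_map_of_injective (MulAut.conj n).injective])
        rw [hz, MonoidHom.map_zpowers, Subgroup.zpowers_le]
        show MulAut.conj n y ∈ _
        rw [hc]
        exact Subgroup.pow_mem _ (Subgroup.mem_zpowers y) i
      rw [Subgroup.mem_normalizer_iff]
      intro z
      conv_rhs => rw [← hmap]
      exact (Subgroup.mem_map_iff_mem (MulAut.conj n).injective).symm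
  let φ : Equiv.Perm Cfsg.GolayPt ≃* Equiv.Perm Cfsg.GolayPt := MulAut.conj u⁻¹
  have hφ : ∀ n : Equiv.Perm Cfsg.GolayPt, φ n = u⁻¹ * n * u := fun n => by simp [φ, MulAut.conj_apply]
  have card : ∀ (H : Subgroup ↥Cfsg.M24), Nat.card ↥H = Nat.card ↥((H.map Cfsg.M24.subtype).map φ.toMonoidHom) :=
    fun H => by rw [Subgroup.card_map_of_injective φ.injective, Subgroup.card_map_of_injective Cfsg.M24.subtype_injective]
  have memimg : ∀ (H : Subgroup ↥Cfsg.M24) (g : Equiv.Perm Cfsg.GolayPt),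
      g ∈ (H.map Cfsg.M24.subtype).map φ.toMonoidHom ↔ ∃ h : u * g * u⁻¹ ∈ Cfsg.M24, (⟨u * g * u⁻¹, h⟩ : ↥Cfsg.M24) ∈ H := by
    intro H g
    rw [Subgroup.mem_map]
    constructor
    · rintro ⟨_, ⟨⟨a, ha⟩, haH, rfl⟩, rfl⟩
      have e : u * φ a * u⁻¹ = a := by rw [hφ]; group
      have h' : u * φ a * u⁻¹ ∈ Cfsg.M24 := by rw [e]; exact ha
      refine ⟨h', ?_⟩
      show (⟨u * φ a * u⁻¹, h'⟩ : ↥Cfsg.M24) ∈ H
      rw [show (⟨u * φ a * u⁻¹, h'⟩ : ↥Cfsg.M24) = ⟨a, ha⟩ from Subtype.ext e]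
      exact haH
    · rintro ⟨h, hh⟩
      exact ⟨u * g * u⁻¹, ⟨⟨_, h⟩, hh, rfl⟩, by show φ _ = g; rw [hφ]; group⟩
  have back : ∀ g : Equiv.Perm Cfsg.GolayPt, u⁻¹ * (u * g * u⁻¹) * u = g := fun g => by group
  refine ⟨?_, ?_, ?_, u • CfsgLib.M24Cert.triTbl.el 3239, ?_, fun n hn => ?_⟩
  · rw [card]
    refine CfsgLib.M24Cert.card_normR fun g => (memimg _ g).trans ⟨?_, fun hg => ?_⟩
    · rintro ⟨h, hh⟩
      have := (hnorm _).1 hh
      rwa [back] at this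
    · refine ⟨mul_mem (mul_mem hu hg.1) (inv_mem hu), (hnorm _).2 ?_⟩
      show CfsgLib.M24Cert.NormR (u⁻¹ * (u * g * u⁻¹) * u)
      rwa [back]
  · rw [card]
    refine CfsgLib.M24Cert.card_centR fun g => (memimg _ g).trans ⟨?_, fun hg => ?_⟩
    · rintro ⟨h, hh⟩
      have := (hcent _).1 hh
      rwa [back] at this
    · refine ⟨mul_mem (mul_mem hu hg.1) (inv_mem hu), (hcent _).2 ?_⟩
      show (u⁻¹ * (u * g * u⁻¹) * u) ∈ _ ∧ (u⁻¹ * (u * g * u⁻¹) * u) * _ = _ * (u⁻¹ * (u * g * u⁻¹) * u)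
      rw [back]; exact hg
  · obtain ⟨a, ha, b, hb, hac, hbc, hab⟩ := CfsgLib.M24Cert.centR_noncomm
    refine ⟨⟨u * a * u⁻¹, mul_mem (mul_mem hu ha) (inv_mem hu)⟩, (hcent _).2 ?_,
      ⟨u * b * u⁻¹, mul_mem (mul_mem hu hb) (inv_mem hu)⟩, (hcent _).2 ?_, fun e => hab ?_⟩
    · show (u⁻¹ * (u * a * u⁻¹) * u) ∈ _ ∧ (u⁻¹ * (u * a * u⁻¹) * u) * _ = _ * (u⁻¹ * (u * a * u⁻¹) * u)
      rw [back]; exact ⟨ha, hac⟩
    · show (u⁻¹ * (u * b * u⁻¹) * u) ∈ _ ∧ (u⁻¹ * (u * b * u⁻¹) * u) * _ = _ * (u⁻¹ * (u * b * u⁻¹) * u)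
      rw [back]; exact ⟨hb, hbc⟩
    · have e' : u * a * u⁻¹ * (u * b * u⁻¹) = u * b * u⁻¹ * (u * a * u⁻¹) := congrArg Subtype.val e
      calc a * b = u⁻¹ * (u * a * u⁻¹ * (u * b * u⁻¹)) * u := by group
        _ = _ := by rw [e']; group
  · rw [CfsgLib.M24Cert.trios_eq]
    exact CfsgLib.M24Cert.Tbl.smul_mem CfsgLib.M24Cert.triTbl_closed hu ⟨3239, (by decide : (3239 : ℕ) < 3795), rfl⟩
  · have h := CfsgLib.M24Cert.normR_trio ((hnorm n).1 hn)
    rw [mul_smul, mul_smul, inv_smul_eq_iff] at h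
    exact h

end Cfsg.Agent.S5604
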