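import Cfsg.Statements.S3277
import Mathlib
import Cfsg.Agent.Lib.InvolChar.Basic
import Cfsg.Agent.Lib.Transfer.Frobenius
import Cfsg.Agent.Lib.Invol.Counting
-- import your own Cfsg.Agent.* helpers here

set_option autoImplicit false
open Cfsg

namespace Cfsg.Agent.S3277

section
variable {G : Type*} [Group G] [Finite G]
open CfsgLib.Invol

/-- Part A: the centralizer is a Sylow subgroup and no involution is moved outside. -/
theorem sylow_eq (x : G) (hx : orderOf x = 2)
    (hC4 : Nat.card ↥(Subgroup.centralizer ({x} : Set G)) = 4)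
    (hCe : ∀ c ∈ Subgroup.centralizer ({x} : Set G), c ^ 2 = 1)
    (hne : ∀ E : Subgroup G, E.Normal → Cfsg.IsElementaryAbelian 2 E → Nat.card ↥E ≠ 2 ∧ Nat.card ↥E ≠ 4) :
    ∃ S : Sylow 2 G, (S : Subgroup G) = Subgroup.centralizer ({x} : Set G) := by
  classical
  haveI : Fact (Nat.Prime 2) := ⟨Nat.prime_two⟩
  set V := Subgroup.centralizer ({x} : Set G) with hV
  have hxV : x ∈ V := Subgroup.mem_centralizer_singleton_iff.2 rfl
  obtain ⟨S, hS⟩ := (IsPGroup.of_card (p := 2) (G := ↥V) (n := 2) (by rw [hC4]; norm_num)).exists_le_sylow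
  refine ⟨S, ?_⟩
  by_contra hSV
  have hlt : V < (S : Subgroup G) := lt_of_le_of_ne hS (Ne.symm hSV)
  have h2 : ∀ c ∈ V, c * c = 1 := fun c hc => by rw [← sq]; exact hCe c hc
  -- a central involution
  haveI : Nontrivial ↥(S : Subgroup G) :=
    ⟨⟨⟨x, hS hxV⟩, 1, fun h => ne_one_of_orderOf_two hx (congrArg Subtype.val h)⟩⟩
  haveI := S.2.center_nontrivial
  obtain ⟨z0, hz0⟩ := exists_prime_orderOf_dvd_card' (G := ↥(Subgroup.center ↥(S : Subgroup G))) 2
    ((S.2.to_subgroup _).card_eq_or_dvd.resolve_left Finite.one_lt_card.ne')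
  set z : G := ((z0 : ↥(S : Subgroup G)) : G) with hz
  have hzo : orderOf z = 2 := by rw [hz, Subgroup.orderOf_coe, Subgroup.orderOf_coe, hz0]
  have hzS : ∀ s ∈ (S : Subgroup G), s * z = z * s := fun s hs =>
    congrArg Subtype.val (Subgroup.mem_center_iff.1 z0.2 ⟨s, hs⟩)
  have hzV : z ∈ V := Subgroup.mem_centralizer_singleton_iff.2 (hzS x (hS hxV)).symm
  have hzx : z ≠ x := by
    intro h
    refine hlt.not_ge fun s hs => Subgroup.mem_centralizer_singleton_iff.2 ?_
    rw [← h]; exact hzS s hs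
  have hxz1 : x * z ≠ 1 := fun h => hzx (by
    rw [← inv_eq_of_mul_eq_one_right h, inv_eq_of_orderOf_two hx])
  -- the four elements of `V`
  have hfour : ∀ v ∈ V, v = 1 ∨ v = x ∨ v = z ∨ v = x * z := by
    intro v hv
    by_contra h
    push Not at h
    obtain ⟨ha, hb, hc, hd⟩ := h
    haveI := Fintype.ofFinite G
    have hn1 := ne_one_of_orderOf_two hx
    have hn2 := ne_one_of_orderOf_two hzo
    have hn3 : x ≠ x * z := fun h => hn2 (by simpa using h.symm)
    have hn4 : z ≠ x * z := fun h => hn1 (by simpa using h.symm)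
    have hsub : ({1, x, z, x * z, v} : Finset G) ⊆ (V : Set G).toFinset := by
      intro y hy
      simp only [Finset.mem_insert, Finset.mem_singleton] at hy
      rw [Set.mem_toFinset, SetLike.mem_coe]
      rcases hy with rfl | rfl | rfl | rfl | rfl
      · exact one_mem _
      · exact hxV
      · exact hzV
      · exact mul_mem hxV hzV
      · exact hv
    have := Finset.card_le_card hsub
    have h5 : (V : Set G).toFinset.card = 4 := by
      rw [← Set.ncard_eq_toFinset_card', ← Nat.card_coe_set_eq]; exact hC4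
    rw [h5] at this
    simp [hn1.symm, hn2.symm, hxz1.symm, hn3, hn4, Ne.symm ha, Ne.symm hb, Ne.symm hc, Ne.symm hd,
      hzx.symm] at this
  have hVc : ∀ a ∈ V, ∀ b ∈ V, a * b = b * a := by
    intro a ha b hb
    have := h2 (a * b) (mul_mem ha hb)
    calc a * b = (a * b)⁻¹ := (inv_eq_of_mul_eq_one_right this).symm
      _ = b * a := by
        rw [mul_inv_rev, inv_eq_of_mul_eq_one_right (h2 a ha), inv_eq_of_mul_eq_one_right (h2 b hb)]
  -- some element of S maps x to xz
  haveI : Group.IsNilpotent ↥(S : Subgroup G) := S.2.isNilpotent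
  obtain ⟨y, hyS, hyN, hyV⟩ : ∃ y ∈ (S : Subgroup G), (∀ v ∈ V, y * v * y⁻¹ ∈ V) ∧ y ∉ V := by
    have hne' : V.subgroupOf (S : Subgroup G) < ⊤ :=
      lt_top_iff_ne_top.2 fun h => hlt.not_ge (Subgroup.subgroupOf_eq_top.1 h)
    obtain ⟨⟨y, hy⟩, hyn, hyV⟩ := SetLike.exists_of_lt (Group.normalizerCondition_of_isNilpotent _ hne')
    exact ⟨y, hy, fun v hv => (Subgroup.mem_normalizer_iff.1 hyn ⟨v, hS hv⟩).1 hv, hyV⟩
  have hyx : y * x * y⁻¹ = x * z := by
    rcases hfour _ (hyN x hxV) with h | h | h | h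
    · exact absurd (conj_eq_one_iff.1 h) (ne_one_of_orderOf_two hx)
    · exact absurd (Subgroup.mem_centralizer_singleton_iff.2 (mul_inv_eq_iff_eq_mul.1 h)) hyV
    · exfalso; apply hzx
      have h1 : y * x * y⁻¹ = y * z * y⁻¹ := by rw [h, hzS y hyS]; group
      exact (mul_left_cancel (mul_right_cancel h1)).symm
    · exact h
  have hxzconj : IsConj x (x * z) := isConj_iff.2 ⟨y, hyx⟩
  have hCxz : ∀ g : G, g * (x * z) = (x * z) * g → g ∈ V := by
    intro g hg
    have hle : V ≤ Subgroup.centralizer ({x * z} : Set G) := fun v hv =>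
      Subgroup.mem_centralizer_singleton_iff.2 (hVc v hv _ (mul_mem hxV hzV))
    have : Subgroup.centralizer ({x * z} : Set G) = V := by
      refine (Subgroup.eq_of_le_of_card_ge hle ?_).symm
      rw [card_centralizer_of_isConj hxzconj]
    rw [← this]; exact Subgroup.mem_centralizer_singleton_iff.2 hg
  have hzC : 4 < Nat.card ↥(Subgroup.centralizer ({z} : Set G)) := by
    have hle : (S : Subgroup G) ≤ Subgroup.centralizer ({z} : Set G) := fun s hs =>
      Subgroup.mem_centralizer_singleton_iff.2 (hzS s hs)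
    have h1 := Subgroup.card_le_of_le hle
    have h2' : Nat.card ↥V < Nat.card ↥(S : Subgroup G) := by
      rcases (Subgroup.card_le_of_le hS).lt_or_eq with h | h
      · exact h
      · exact absurd (Subgroup.eq_of_le_of_card_ge hS h.ge).symm hSV
    have h4 : Nat.card ↥V = 4 := hC4
    omega
  have hVconj : ∀ w ∈ V, IsConj z w → w = z := by
    intro w hw hconj
    have hc := card_centralizer_of_isConj hconj
    rcases hfour w hw with rfl | rfl | rfl | rfl
    · exact absurd (isConj_one_left.1 hconj) (ne_one_of_orderOf_two hzo)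
    · rw [← hV, hC4] at hc; omega
    · rfl
    · rw [card_centralizer_of_isConj hxzconj, ← hV, hC4] at hc; omega
  have hcom : ∀ w, IsConj z w → Commute z w := by
    intro w hw
    have hwo : orderOf w = 2 := (orderOf_eq_of_isConj hw).symm.trans hzo
    by_cases hwV : w ∈ V
    · exact hVc z hzV w hwV
    have hnc : ¬ IsConj x w := by
      intro h
      have h1 := card_centralizer_of_isConj h
      have h3 := card_centralizer_of_isConj hw
      rw [← hV, hC4] at h1
      omega
    obtain ⟨v, hvo, hvx, hvw, -⟩ := exists_common_involution hx hwo hnc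
    have hvV : v ∈ V := Subgroup.mem_centralizer_singleton_iff.2 hvx
    rcases hfour v hvV with rfl | rfl | rfl | rfl
    · exact absurd rfl (ne_one_of_orderOf_two hvo)
    · exact absurd (Subgroup.mem_centralizer_singleton_iff.2 hvw.symm) hwV
    · exact hvw
    · exact absurd (hCxz w hvw.symm) hwV
  set E := Subgroup.closure {w : G | IsConj z w} with hE
  have hzE : z ∈ E := Subgroup.subset_closure (IsConj.refl z)
  haveI hEn : E.Normal := ⟨fun a ha g => by
    have hle : E ≤ E.comap (MulAut.conj g).toMonoidHom := by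
      rw [hE, Subgroup.closure_le]
      intro w hw
      exact Subgroup.subset_closure (hw.trans (isConj_iff.2 ⟨g, rfl⟩))
    exact hle ha⟩
  have hEc : ∀ a ∈ E, ∀ b ∈ E, a * b = b * a := by
    have hgen : ∀ a b, IsConj z a → IsConj z b → Commute a b := by
      intro a b ha hb
      obtain ⟨g, hg⟩ := isConj_iff.1 ha
      have h1 : IsConj z (g⁻¹ * b * g) := hb.trans (isConj_iff.2 ⟨g⁻¹, by group⟩)
      have h3 := (hcom _ h1).map (MulAut.conj g).toMonoidHom
      rw [MulEquiv.coe_toMonoidHom, MulAut.conj_apply, MulAut.conj_apply, hg,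
        show g * (g⁻¹ * b * g) * g⁻¹ = b by group] at h3
      exact h3
    intro a ha b hb
    exact congrArg Subtype.val
      ((Subgroup.isMulCommutative_closure fun a ha b hb => hgen a b ha hb).is_comm.comm
        (⟨a, ha⟩ : ↥E) ⟨b, hb⟩)
  have hE2 : ∀ a ∈ E, a ^ 2 = 1 := by
    intro a ha
    induction ha using Subgroup.closure_induction with
    | mem w hw => rw [← (orderOf_eq_of_isConj hw).symm.trans hzo]; exact pow_orderOf_eq_one w
    | one => exact one_pow 2
    | mul a b ha hb iha ihb =>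
      have hc : Commute a b := hEc a ha b hb
      rw [hc.mul_pow, iha, ihb, one_mul]
    | inv a _ iha => rw [inv_pow, iha, inv_one]
  have hEel : Cfsg.IsElementaryAbelian 2 E := ⟨⟨⟨fun a b => Subtype.ext (hEc a a.2 b b.2)⟩⟩, hE2⟩
  have hxE : x ∉ E := by
    intro hxE
    refine (hne E hEn hEel).1 ?_
    have : E = Subgroup.zpowers z := by
      refine le_antisymm ?_ (Subgroup.zpowers_le.2 hzE)
      rw [hE, Subgroup.closure_le]
      intro w hw
      have hwV : w ∈ V := Subgroup.mem_centralizer_singleton_iff.2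
        (hEc w (Subgroup.subset_closure hw) x hxE)
      rw [hVconj w hwV hw]; exact Subgroup.mem_zpowers z
    rw [this, Nat.card_zpowers, hzo]
  have hxx : x * x = 1 := mul_self_of_orderOf_two hx
  let φ : ↥E →* ↥E :=
    { toFun := fun e => ⟨(e : G) * (x * e * x⁻¹), mul_mem e.2 (hEn.conj_mem _ e.2 x)⟩
      map_one' := Subtype.ext (by simp)
      map_mul' := fun a b => Subtype.ext (by
        have h1 := hEc _ b.2 _ (hEn.conj_mem _ a.2 x)
        simp only [Subgroup.coe_mul]
        calc (a : G) * b * (x * (a * b) * x⁻¹)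
            = (a : G) * (b * (x * a * x⁻¹)) * (x * b * x⁻¹) := by group
          _ = (a : G) * ((x * a * x⁻¹) * b) * (x * b * x⁻¹) := by rw [h1]
          _ = (a : G) * (x * a * x⁻¹) * ((b : G) * (x * b * x⁻¹)) := by group) }
  have hsmall : ∀ e : ↥E, x * (e : G) = e * x → (e : G) ∈ Subgroup.zpowers z := by
    intro e he
    rcases hfour _ (Subgroup.mem_centralizer_singleton_iff.2 he.symm) with h | h | h | h
    · rw [h]; exact one_mem _
    · exact absurd (h ▸ e.2) hxE
    · rw [h]; exact Subgroup.mem_zpowers z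
    · exfalso; apply hxE
      have := mul_mem (h ▸ e.2 : x * z ∈ E) (inv_mem hzE)
      simpa using this
  have hker : φ.ker ≤ (Subgroup.zpowers z).subgroupOf E := by
    intro e he
    refine hsmall e ?_
    have h1 : (e : G) * (x * e * x⁻¹) = 1 := congrArg Subtype.val (MonoidHom.mem_ker.1 he)
    have h3 : x * (e : G) * x⁻¹ = e := by
      rw [← inv_eq_of_mul_eq_one_right h1, inv_eq_of_mul_eq_one_right
        (show (e : G) * e = 1 by rw [← sq]; exact hE2 e e.2)]
    exact mul_inv_eq_iff_eq_mul.1 h3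
  have hrange : φ.range ≤ (Subgroup.zpowers z).subgroupOf E := by
    rintro _ ⟨e, rfl⟩
    refine Subgroup.mem_subgroupOf.2 (hsmall (φ e) ?_)
    show x * ((e : G) * (x * e * x⁻¹)) = (e : G) * (x * e * x⁻¹) * x
    calc x * ((e : G) * (x * e * x⁻¹)) = (x * e * x⁻¹) * ((x * x) * e * (x * x)⁻¹) * x := by group
      _ = (x * e * x⁻¹) * e * x := by rw [hxx]; group
      _ = (e : G) * (x * e * x⁻¹) * x := by rw [← hEc _ e.2 _ (hEn.conj_mem _ e.2 x)]
  have hz2card : Nat.card ↥((Subgroup.zpowers z).subgroupOf E) = 2 := by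
    rw [Nat.card_congr (Subgroup.subgroupOfEquivOfLe (Subgroup.zpowers_le.2 hzE)).toEquiv,
      Nat.card_zpowers, hzo]
  have hcard : Nat.card ↥E ≤ 4 := by
    have h1 := φ.ker.card_mul_index
    rw [Subgroup.index_ker] at h1
    rw [← h1]
    have a := Subgroup.card_le_of_le hker
    have b := Subgroup.card_le_of_le hrange
    rw [hz2card] at a b
    calc _ ≤ 2 * 2 := Nat.mul_le_mul a b
      _ = 4 := rfl
  have hdvd : 2 ∣ Nat.card ↥E := by
    rw [← hzo, ← Subgroup.orderOf_mk z hzE]; exact orderOf_dvd_natCard _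
  obtain ⟨k, hk⟩ := IsPGroup.iff_card.1 (show IsPGroup 2 ↥E from fun e => ⟨1, Subtype.ext (hE2 e e.2)⟩)
  obtain ⟨hn2, hn4⟩ := hne E hEn hEel
  rcases k with _ | _ | _ | k
  · rw [hk] at hdvd; norm_num at hdvd
  · exact hn2 hk
  · exact hn4 hk
  · rw [hk, pow_add] at hcard
    have := Nat.one_le_two_pow (n := k)
    omega

end


theorem cyclic_normal_central {G : Type*} [Group G] [Finite G] (P : Subgroup G) [P.Normal]
    [IsCyclic ↥P] (x : G) (h : ∀ {A : Type} [CommGroup A] (F : G →* A), F x = 1) :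
    ∀ p ∈ P, p * x = x * p := by
  intro p hp
  let e := IsCyclic.mulAutMulEquiv ↥P
  let F : G →* (ZMod (Nat.card ↥P))ˣ := e.toMonoidHom.comp (MulAut.conjNormal : G →* MulAut ↥P)
  have h1 : (MulAut.conjNormal x : MulAut ↥P) = 1 := e.injective ((h F).trans (map_one _).symm)
  have h2 : x * p * x⁻¹ = p := by
    have := congrArg (fun f : MulAut ↥P => ((f ⟨p, hp⟩ : ↥P) : G)) h1
    exact this
  exact (mul_inv_eq_iff_eq_mul.1 h2).symm

set_option maxHeartbeats 1000000 in
/-- Let G be a finite group containing an involution whose centralizer is elementary abelian of order 4. If G has no normal 2-complement and no normal elementary abelian 2-subgroup of order 2 or 4, then G is isomorphic to the alternating group of degree 5 (that is, to PSL(2, 5)). -/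
theorem result {G : Type*} [Group G] [Finite G] (x : G) (hx : orderOf x = 2)
    (hC4 : Nat.card ↥(Subgroup.centralizer ({x} : Set G)) = 4) (hCe : ∀ c ∈ Subgroup.centralizer ({x} : Set G), c ^ 2 = 1)
    (hnc : ¬ Cfsg.HasNormalPComplement 2 G)
    (hne : ∀ E : Subgroup G, E.Normal → Cfsg.IsElementaryAbelian 2 E → Nat.card ↥E ≠ 2 ∧ Nat.card ↥E ≠ 4) :
    Nonempty (G ≃* ↥(alternatingGroup (Fin 5))) := by
  classical
  haveI : Fact (Nat.Prime 2) := ⟨Nat.prime_two⟩
  obtain ⟨S, hS⟩ := sylow_eq x hx hC4 hCe hne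
  have hx2 : x * x = 1 := CfsgLib.Invol.mul_self_of_orderOf_two hx
  have hx1 : x ≠ 1 := CfsgLib.Invol.ne_one_of_orderOf_two hx
  set V := Subgroup.centralizer ({x} : Set G) with hV
  have hxV : x ∈ V := Subgroup.mem_centralizer_singleton_iff.2 rfl
  have h2 : ∀ c ∈ V, c * c = 1 := fun c hc => by rw [← sq]; exact hCe c hc
  have hVc : ∀ a ∈ V, ∀ b ∈ V, a * b = b * a := by
    intro a ha b hb
    have := h2 (a * b) (mul_mem ha hb)
    calc a * b = (a * b)⁻¹ := (inv_eq_of_mul_eq_one_right this).symm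
      _ = b * a := by
        rw [mul_inv_rev, inv_eq_of_mul_eq_one_right (h2 a ha), inv_eq_of_mul_eq_one_right (h2 b hb)]
  -- an element moving `x` around the three involutions
  obtain ⟨g, hgN, hgV⟩ : ∃ g ∈ Subgroup.normalizer (V : Set G), g ∉ V := by
    by_contra h
    push Not at h
    refine hnc (CfsgLib.Transfer.hasNormalPComplement_of_normalizer_le_centralizer S ?_)
    intro g hg
    have hgV : g ∈ V := h g (by rw [← hS]; exact hg)
    rw [Subgroup.mem_centralizer_iff]
    intro y hy
    exact hVc y (by rw [← hS]; exact hy) g hgV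
  have hN : ∀ w ∈ Subgroup.normalizer (V : Set G), ∀ v ∈ V, w * v * w⁻¹ ∈ V :=
    fun w hw v hv => (Subgroup.mem_normalizer_iff.1 hw v).1 hv
  have htwo : ∀ w ∈ Subgroup.normalizer (V : Set G), w ^ 2 ∈ V → w ∈ V := by
    intro w hw hw2
    have hp : IsPGroup 2 ↥(Subgroup.zpowers w) := by
      have : w ^ 4 = 1 := by
        rw [show (4 : ℕ) = 2 * 2 from rfl, pow_mul, sq, h2 _ hw2]
      obtain ⟨k, -, hk⟩ := (Nat.dvd_prime_pow Nat.prime_two).1
        (orderOf_dvd_of_pow_eq_one (show w ^ 2 ^ 2 = 1 from this))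
      exact IsPGroup.of_card (n := k) (by rw [Nat.card_zpowers, hk])
    have hN' : Subgroup.zpowers w ≤ Subgroup.normalizer ((S : Subgroup G) : Set G) :=
      Subgroup.zpowers_le.2 (by rw [hS]; exact hw)
    have h5 := S.3 (hp.to_sup_of_normal_right' S.2 hN') le_sup_right
    rw [← hS]
    exact h5.le ((le_sup_left : Subgroup.zpowers w ≤ _) (Subgroup.mem_zpowers w))
  set t1 := g * x * g⁻¹ with ht1
  set t2 := g * t1 * g⁻¹ with ht2
  have ht1V : t1 ∈ V := hN g hgN x hxV
  have ht2V : t2 ∈ V := hN g hgN t1 ht1V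
  have n1 : t1 ≠ x := fun h => hgV (Subgroup.mem_centralizer_singleton_iff.2 (mul_inv_eq_iff_eq_mul.1 h))
  have n2 : t2 ≠ t1 := fun h => n1 (mul_left_cancel (mul_right_cancel h))
  have n3 : t2 ≠ x := by
    intro h
    refine hgV (htwo g hgN (Subgroup.mem_centralizer_singleton_iff.2 ?_))
    refine mul_inv_eq_iff_eq_mul.1 ?_
    rw [← h]; simp only [t2, t1, h]
    calc g ^ 2 * x * (g ^ 2)⁻¹ = g * (g * x * g⁻¹) * g⁻¹ := by rw [pow_two]; group
      _ = x := h
  have e1 : t1 ≠ 1 := fun h => hx1 (conj_eq_one_iff.1 h)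
  have e2 : t2 ≠ 1 := fun h => e1 (conj_eq_one_iff.1 h)
  have hfour : ∀ v ∈ V, v ≠ 1 → v = x ∨ v = t1 ∨ v = t2 := by
    intro v hv hv1
    by_contra h
    push Not at h
    obtain ⟨ha, hb, hc⟩ := h
    haveI := Fintype.ofFinite G
    have hsub : ({1, x, t1, t2, v} : Finset G) ⊆ (V : Set G).toFinset := by
      intro y hy
      simp only [Finset.mem_insert, Finset.mem_singleton] at hy
      rw [Set.mem_toFinset, SetLike.mem_coe]
      rcases hy with rfl | rfl | rfl | rfl | rfl
      · exact one_mem _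
      · exact hxV
      · exact ht1V
      · exact ht2V
      · exact hv
    have := Finset.card_le_card hsub
    have h5 : (V : Set G).toFinset.card = 4 := by
      rw [← Set.ncard_eq_toFinset_card', ← Nat.card_coe_set_eq]; exact hC4
    rw [h5] at this
    simp [hx1.symm, e1.symm, e2.symm, n1.symm, n2.symm, n3.symm, hv1.symm, Ne.symm ha, Ne.symm hb, Ne.symm hc] at this
  have hVconj : ∀ v ∈ V, v ≠ 1 → IsConj x v := by
    intro v hv hv1
    have c1 : IsConj x t1 := isConj_iff.2 ⟨g, rfl⟩
    rcases hfour v hv hv1 with h | h | h <;> rw [h]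
    · exact c1
    · exact c1.trans (isConj_iff.2 ⟨g, rfl⟩)
  have hall : ∀ u : G, orderOf u = 2 → IsConj x u := by
    intro u hu
    obtain ⟨w, hw⟩ := CfsgLib.Transfer.exists_conj_mem_sylow S
      (S := Subgroup.zpowers u) (IsPGroup.of_card (n := 1) (by rw [Nat.card_zpowers, hu, pow_one]))
    have hwu : w * u * w⁻¹ ∈ V := by rw [← hS]; exact hw u (Subgroup.mem_zpowers u)
    have := hVconj _ hwu (fun h => CfsgLib.Invol.ne_one_of_orderOf_two hu (conj_eq_one_iff.1 h))
    exact this.trans (isConj_iff.2 ⟨w, rfl⟩).symm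
  have hcent : ∀ u : G, orderOf u = 2 → Nat.card ↥(Subgroup.centralizer ({u} : Set G)) = 4 :=
    fun u hu => (CfsgLib.Invol.card_centralizer_of_isConj (hall u hu)).trans hC4
  -- the character bound
  have hbound : Nat.card G < 96 := by
    set f := fun χ : Cfsg.IrrCharacter G => CfsgLib.InvolChar.intVal χ hx2 with hf
    have hsq : ∑ χ, f χ ^ 2 = 4 := by
      rw [CfsgLib.InvolChar.sum_intVal_sq hx2, ← hV, hC4]; norm_num
    have hdot := CfsgLib.InvolChar.sum_deg_mul_intVal hx2 hx1
    have hp := CfsgLib.InvolChar.pairs_eq hx2 hx2 hx2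
    rw [← hV, hC4] at hp
    have hpairs : Nat.card {p : G × G // IsConj x p.1 ∧ IsConj x p.2 ∧ p.1 * p.2 = x} = 2 := by
      have ht12 : t1 * t2 = x := by
        have hne1 : t1 * t2 ≠ 1 := fun h => n2 (by
          rw [← inv_eq_of_mul_eq_one_right h, inv_eq_of_mul_eq_one_right (h2 _ ht1V)])
        rcases hfour _ (mul_mem ht1V ht2V) hne1 with h | h | h
        · exact h
        · exact absurd (mul_left_cancel (h.trans (mul_one t1).symm)) e2
        · exact absurd (mul_right_cancel (h.trans (one_mul t2).symm)) e1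
      have ht21 : t2 * t1 = x := by rw [hVc _ ht2V _ ht1V]; exact ht12
      have key : {p : G × G | IsConj x p.1 ∧ IsConj x p.2 ∧ p.1 * p.2 = x} = {(t1, t2), (t2, t1)} := by
        ext ⟨u, v⟩
        simp only [Set.mem_ofPred_eq, Set.mem_insert_iff, Set.mem_singleton_iff, Prod.mk.injEq]
        constructor
        · rintro ⟨hu, hv, huv⟩
          have hu2 := CfsgLib.Invol.mul_self_of_orderOf_two ((CfsgLib.Invol.orderOf_eq_of_isConj hu).symm.trans hx)
          have hv2 := CfsgLib.Invol.mul_self_of_orderOf_two ((CfsgLib.Invol.orderOf_eq_of_isConj hv).symm.trans hx)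
          have hveq : v = u * x := by rw [← huv, ← mul_assoc, hu2, one_mul]
          have huV : u ∈ V := by
            rw [hV, Subgroup.mem_centralizer_singleton_iff]
            rw [hveq] at hv2
            have h3 : (u * x)⁻¹ = u * x := inv_eq_of_mul_eq_one_right hv2
            rw [mul_inv_rev, inv_eq_of_mul_eq_one_right hx2, inv_eq_of_mul_eq_one_right hu2] at h3
            exact h3.symm
          have hu1 : u ≠ 1 := fun h => hx1 (isConj_one_left.1 (h ▸ hu))
          rcases hfour u huV hu1 with h | h | h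
          · exfalso
            rw [h, hx2] at hveq
            exact hx1 (isConj_one_left.1 (hveq ▸ hv))
          · left; refine ⟨h, ?_⟩; rw [hveq, h]; nth_rewrite 1 [← ht12]; rw [← mul_assoc, h2 _ ht1V, one_mul]
          · right; refine ⟨h, ?_⟩; rw [hveq, h]; nth_rewrite 1 [← ht21]; rw [← mul_assoc, h2 _ ht2V, one_mul]
        · rintro (⟨rfl, rfl⟩ | ⟨rfl, rfl⟩)
          · exact ⟨hVconj _ ht1V e1, hVconj _ ht2V e2, ht12⟩
          · exact ⟨hVconj _ ht2V e2, hVconj _ ht1V e1, ht21⟩
      rw [← Set.coe_ofPred, key, Nat.card_coe_set_eq, Set.ncard_pair]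
      simp [n2.symm]
    rw [hpairs] at hp
    set one : Cfsg.IrrCharacter G := CfsgLib.Char.irrOne with hone
    have hf1 : f one = 1 := CfsgLib.InvolChar.intVal_irrOne hx2
    have hd1 : CfsgLib.InvolChar.deg one = 1 := CfsgLib.InvolChar.deg_irrOne
    set T := (Finset.univ.erase one).filter (fun χ => f χ ≠ 0) with hT
    have hsplit : ∀ {M : Type} [AddCommMonoid M] (F : Cfsg.IrrCharacter G → M),
        (∀ χ, f χ = 0 → F χ = 0) → ∑ χ, F χ = F one + ∑ χ ∈ T, F χ := by
      intro M _ F hF
      rw [← Finset.add_sum_erase _ F (Finset.mem_univ one), hT, Finset.sum_filter_of_ne]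
      exact fun χ _ hne0 h0 => hne0 (hF χ h0)
    rw [hsplit _ (fun χ h => by rw [h]; norm_num), hf1] at hsq
    rw [hsplit _ (fun χ h => by simp only [hf] at h; rw [h, mul_zero])] at hdot
    rw [hsplit _ (fun χ h => by simp only [hf] at h; rw [h]; norm_num)] at hp
    change _ = _ * (_ + ∑ χ ∈ T, _) at hp
    simp only [hd1, show CfsgLib.InvolChar.intVal one hx2 = 1 from hf1] at hdot hp
    have hsmall : ∀ χ ∈ T, f χ = 1 ∨ f χ = -1 := by
      intro χ hχ
      have h0 : f χ ≠ 0 := (Finset.mem_filter.1 hχ).2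
      have h3 : f χ ^ 2 ≤ 3 := by
        have := Finset.single_le_sum (f := fun χ => f χ ^ 2) (fun i _ => sq_nonneg _) hχ
        omega
      have : -2 < f χ ∧ f χ < 2 := by constructor <;> nlinarith
      omega
    have hcardT : T.card = 3 := by
      have : ∑ χ ∈ T, f χ ^ 2 = T.card := by
        rw [Finset.sum_congr rfl fun χ hχ => show f χ ^ 2 = 1 by
          rcases hsmall χ hχ with h | h <;> rw [h] <;> norm_num]
        simp
      omega
    have hdeg : ∀ χ ∈ T, f χ = -1 → 3 ≤ CfsgLib.InvolChar.deg χ := by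
      intro χ hχ hneg
      have hpos := CfsgLib.InvolChar.deg_pos χ
      obtain ⟨k, hk⟩ := CfsgLib.InvolChar.intVal_parity χ hx2
      simp only [hf] at hneg
      rw [hneg] at hk
      by_contra hlt
      have hd : CfsgLib.InvolChar.deg χ = 1 := by omega
      have ht12 : (t1 * t2) * (t1 * t2) = 1 := h2 _ (mul_mem ht1V ht2V)
      have hm := CfsgLib.InvolChar.intVal_mul_of_deg_one χ hd (h2 _ ht1V) (h2 _ ht2V) ht12
      have hne1 : t1 * t2 ≠ 1 := fun h => n2 (by
        rw [← inv_eq_of_mul_eq_one_right h, inv_eq_of_mul_eq_one_right (h2 _ ht1V)])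
      rw [← CfsgLib.InvolChar.intVal_isConj χ hx2 (h2 _ ht1V) (hVconj _ ht1V e1),
        ← CfsgLib.InvolChar.intVal_isConj χ hx2 (h2 _ ht2V) (hVconj _ ht2V e2),
        ← CfsgLib.InvolChar.intVal_isConj χ hx2 ht12 (hVconj _ (mul_mem ht1V ht2V) hne1), hneg] at hm
      norm_num at hm
    obtain ⟨χ0, hχ0, hpos0⟩ : ∃ χ ∈ T, f χ = 1 := by
      by_contra h
      push Not at h
      have h9 : ∀ χ ∈ T, (CfsgLib.InvolChar.deg χ : ℤ) * CfsgLib.InvolChar.intVal χ hx2 ≤ -3 := by
        intro χ hχ
        have hneg := (hsmall χ hχ).resolve_left (h χ hχ)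
        have := hdeg χ hχ hneg
        simp only [hf] at hneg
        rw [hneg]; omega
      have := Finset.sum_le_sum h9
      rw [Finset.sum_const, hcardT] at this
      norm_num at this hdot
      omega
    set term : Cfsg.IrrCharacter G → ℚ := fun χ =>
      ((CfsgLib.InvolChar.intVal χ hx2 * CfsgLib.InvolChar.intVal χ hx2 * CfsgLib.InvolChar.intVal χ hx2 : ℤ) : ℚ)
        / (CfsgLib.InvolChar.deg χ : ℚ) with hterm
    have hlow : ∀ χ ∈ T.erase χ0, -(1 / 3 : ℚ) ≤ term χ := by
      intro χ hχ
      have hT' := Finset.mem_of_mem_erase hχ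
      have hd : (0 : ℚ) < (CfsgLib.InvolChar.deg χ : ℚ) := by exact_mod_cast CfsgLib.InvolChar.deg_pos χ
      simp only [hterm]
      rw [le_div_iff₀ hd]
      rcases hsmall χ hT' with h | h
      · simp only [hf] at h; rw [h]; push_cast; linarith
      · have h3 : (3 : ℚ) ≤ (CfsgLib.InvolChar.deg χ : ℚ) := by exact_mod_cast hdeg χ hT' h
        simp only [hf] at h; rw [h]; push_cast; linarith
    have hsum : (1 / 3 : ℚ) < 1 + ∑ χ ∈ T, term χ := by
      have hge := Finset.sum_le_sum hlow
      rw [Finset.sum_const, Finset.card_erase_of_mem hχ0, hcardT] at hge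
      have h0 : 0 < term χ0 := by
        simp only [hterm]; simp only [hf] at hpos0; rw [hpos0]
        have := CfsgLib.InvolChar.deg_pos χ0
        positivity
      rw [← Finset.add_sum_erase T term hχ0]
      norm_num at hge
      linarith
    have hG : (0 : ℚ) < (Nat.card G : ℚ) := by exact_mod_cast Nat.card_pos
    have : (Nat.card G : ℚ) < 96 := by
      norm_num at hp
      nlinarith [mul_lt_mul_of_pos_left hsum hG]
    exact_mod_cast this
  -- the normalizer of V
  set N := Subgroup.normalizer (V : Set G) with hNdef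
  let pt : Fin 3 → G := ![x, t1, t2]
  have hNcard : Nat.card ↥N = 12 := by
    let cls : ↥N → G := fun w => (w : G) * x * (w : G)⁻¹
    have hk : ∀ w : ↥N, cls w = x ∨ cls w = t1 ∨ cls w = t2 := fun w =>
      hfour _ (hN w w.2 x hxV) (fun h => hx1 (conj_eq_one_iff.1 h))
    have hVN : V ≤ N := Subgroup.le_normalizer
    have hmem : ∀ w : ↥N, ∃ i : Fin 3, g ^ (-(i : ℤ)) * (w : G) ∈ V := by
      intro w
      rcases hk w with h | h | h
      · refine ⟨0, Subgroup.mem_centralizer_singleton_iff.2 ?_⟩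
        refine mul_inv_eq_iff_eq_mul.1 ?_
        simpa [cls] using h
      · refine ⟨1, Subgroup.mem_centralizer_singleton_iff.2 ?_⟩
        refine mul_inv_eq_iff_eq_mul.1 ?_
        calc g ^ (-((1 : Fin 3) : ℤ)) * (w : G) * x * (g ^ (-((1 : Fin 3) : ℤ)) * (w : G))⁻¹
            = g⁻¹ * ((w : G) * x * (w : G)⁻¹) * g := by simp [mul_assoc]
          _ = g⁻¹ * t1 * g := by rw [← h]
          _ = x := by simp only [t1]; group
      · refine ⟨2, Subgroup.mem_centralizer_singleton_iff.2 ?_⟩
        refine mul_inv_eq_iff_eq_mul.1 ?_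
        calc g ^ (-((2 : Fin 3) : ℤ)) * (w : G) * x * (g ^ (-((2 : Fin 3) : ℤ)) * (w : G))⁻¹
            = g⁻¹ * (g⁻¹ * ((w : G) * x * (w : G)⁻¹) * g) * g := by simp [mul_assoc, zpow_neg, pow_two]
          _ = g⁻¹ * (g⁻¹ * t2 * g) * g := by rw [← h]
          _ = x := by simp only [t2, t1]; group
    have hle : Nat.card ↥N ≤ 12 := by
      have hsurj : Function.Surjective (fun q : Fin 3 × ↥V =>
          (⟨g ^ (q.1 : ℤ) * (q.2 : G), mul_mem (Subgroup.zpow_mem _ hgN _) (hVN q.2.2)⟩ : ↥N)) := by
        intro w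
        obtain ⟨i, hi⟩ := hmem w
        exact ⟨(i, ⟨_, hi⟩), Subtype.ext (by show g ^ (i : ℤ) * _ = _; group)⟩
      have := Nat.card_le_card_of_surjective _ hsurj
      rw [Nat.card_prod, Nat.card_fin, hC4] at this
      omega
    have h4 : 4 ∣ Nat.card ↥N := hC4 ▸ Subgroup.card_dvd_of_le hVN
    have h3 : 3 ∣ Nat.card ↥N := by
      refine dvd_trans ?_ (Subgroup.orderOf_dvd_natCard N hgN)
      by_contra h3
      have h3' : g ^ 3 ∈ V := by
        have ht0 : g * t2 * g⁻¹ = x := by
          rcases hfour _ (hN g hgN t2 ht2V) (fun h => e2 (conj_eq_one_iff.1 h)) with h | h | h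
          · exact h
          · exact absurd (mul_left_cancel (mul_right_cancel h)) n3
          · exact absurd (mul_left_cancel (mul_right_cancel h)) n2
        refine Subgroup.mem_centralizer_singleton_iff.2 (mul_inv_eq_iff_eq_mul.1 ?_)
        calc g ^ 3 * x * (g ^ 3)⁻¹ = g * (g * (g * x * g⁻¹) * g⁻¹) * g⁻¹ := by
              rw [pow_succ, pow_two]; group
          _ = x := ht0
      apply hgV
      have hc : (orderOf g).Coprime 3 := ((Nat.prime_three.coprime_iff_not_dvd).2 h3).symm
      obtain ⟨m, hm⟩ := exists_pow_eq_self_of_coprime hc.symm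
      rw [← hm]
      exact Subgroup.pow_mem _ h3' _
    have : 12 ∣ Nat.card ↥N := Nat.Coprime.mul_dvd_of_dvd_of_dvd (by norm_num) h4 h3
    exact le_antisymm hle (Nat.le_of_dvd Nat.card_pos this)
  set m := Nat.card (Sylow 2 G) with hm
  have hm_eq : m * 12 = Nat.card G := by
    have h1 : Nat.card (Sylow 2 G) = N.index := by
      rw [hNdef, ← hS]; exact Sylow.card_eq_index_normalizer S
    rw [hm, ← hNcard, h1, Subgroup.index_mul_card]
  have hmodd : m % 2 = 1 := card_sylow_modEq_one 2 G
  have hm8 : m < 8 := by omega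
  have hVn : ¬ V.Normal := fun h => by
    refine (hne V h ⟨⟨⟨fun a b => Subtype.ext (hVc a a.2 b b.2)⟩⟩, hCe⟩).2 hC4
  have hsyl : ∀ P : Sylow 2 G, ∀ u : G, u * u = 1 → u ∈ Subgroup.normalizer ((P : Subgroup G) : Set G) →
      u ∈ (P : Subgroup G) := by
    intro P u hu hun
    have hp : IsPGroup 2 ↥(Subgroup.zpowers u) := by
      obtain ⟨k, -, hk⟩ := (Nat.dvd_prime_pow Nat.prime_two).1
        (orderOf_dvd_of_pow_eq_one (show u ^ 2 ^ 1 = 1 by rw [pow_one, sq, hu]))
      exact IsPGroup.of_card (n := k) (by rw [Nat.card_zpowers, hk])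
    exact (P.3 (hp.to_sup_of_normal_right' P.2 (Subgroup.zpowers_le.2 hun)) le_sup_right).le
      ((le_sup_left : Subgroup.zpowers u ≤ _) (Subgroup.mem_zpowers u))
  -- all involutions cannot lie in the kernel of the action on Sylow subgroups
  have hnotker : ¬ ∀ v ∈ V, MulAction.toPermHom G (Sylow 2 G) v = 1 := by
    intro h
    apply hVn
    have hsub : Subsingleton (Sylow 2 G) := by
      constructor
      have key : ∀ P : Sylow 2 G, P = S := by
        intro P
        refine (Sylow.ext (S.3 P.2 ?_)).symm.symm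
        rw [hS]
        intro v hv
        apply hsyl P v (h2 v hv)
        exact Sylow.smul_eq_iff_mem_normalizer.1 (Equiv.Perm.ext_iff.1 (h v hv) P)
      intro P Q; rw [key P, key Q]
    rw [← hS]
    exact S.normal_of_subsingleton
  have hker : ∀ k : G, MulAction.toPermHom G (Sylow 2 G) k = 1 → k = 1 := by
    intro k hk
    have hinv : ∀ u : G, orderOf u = 2 → MulAction.toPermHom G (Sylow 2 G) u ≠ 1 := by
      intro u hu h
      apply hnotker
      intro v hv
      by_cases hv1 : v = 1
      · rw [hv1, map_one]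
      obtain ⟨c, hc⟩ := isConj_iff.1 ((hall u hu).symm.trans (hVconj v hv hv1))
      rw [← hc, map_mul, map_mul, h, mul_one, ← map_mul, mul_inv_cancel, map_one]
    have hkN : k ∈ N := by
      rw [hNdef, ← hS]
      exact Sylow.smul_eq_iff_mem_normalizer.1 (Equiv.Perm.ext_iff.1 hk S)
    set c := k * x * k⁻¹ * x⁻¹ with hc
    have hcV : c ∈ V := mul_mem (hN k hkN x hxV) (inv_mem hxV)
    have hc1 : c = 1 := by
      by_contra hne'
      refine hinv c (CfsgLib.Invol.orderOf_eq_two_iff'.2 ⟨hne', h2 c hcV⟩) ?_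
      rw [hc, map_mul, map_mul, map_mul, map_inv, map_inv, hk, one_mul, inv_one, mul_one, mul_inv_cancel]
    have hkV : k ∈ V := Subgroup.mem_centralizer_singleton_iff.2
      (mul_inv_eq_iff_eq_mul.1 (mul_inv_eq_one.1 hc1))
    by_contra hne'
    exact hinv k (CfsgLib.Invol.orderOf_eq_two_iff'.2 ⟨hne', h2 k hkV⟩) hk
  have hA : ∀ {A : Type} [CommGroup A] (F : G →* A), ∀ v ∈ V, F v = 1 := by
    intro A _ F v hv
    have hFx : ∀ u : G, IsConj x u → F u = F x := by
      intro u hu
      obtain ⟨c, hc⟩ := isConj_iff.1 hu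
      rw [← hc, map_mul, map_mul, map_inv, mul_comm (F c), mul_inv_cancel_right]
    by_cases hv1 : v = 1
    · rw [hv1, map_one]
    have hne1 : t1 * t2 ≠ 1 := fun h => n2 (by
      rw [← inv_eq_of_mul_eq_one_right h, inv_eq_of_mul_eq_one_right (h2 _ ht1V)])
    have h := hFx _ (hVconj _ (mul_mem ht1V ht2V) hne1)
    rw [map_mul, hFx t1 (hVconj _ ht1V e1), hFx t2 (hVconj _ ht2V e2)] at h
    have h' : F x = 1 := by
      have := mul_left_cancel (h.trans (mul_one (F x)).symm)
      exact this
    rw [hFx v (hVconj v hv hv1), h']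
  have hm5 : m = 5 := by
    have : m = 1 ∨ m = 3 ∨ m = 5 ∨ m = 7 := by omega
    rcases this with h | h | h | h
    · exfalso
      apply hVn
      haveI : Subsingleton (Sylow 2 G) := (Nat.card_eq_one_iff_unique.1 (hm ▸ h)).1
      rw [← hS]; exact S.normal_of_subsingleton
    · exfalso
      apply hnotker
      intro v hv
      haveI := Fintype.ofFinite (Sylow 2 G)
      set F := MulAction.toPermHom G (Sylow 2 G)
      have hs : Equiv.Perm.sign (F v) = 1 := hA (Equiv.Perm.sign.comp F) v hv
      have hcard3 : Nat.card ↥(alternatingGroup (Sylow 2 G)) = 3 := by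
        haveI : Nontrivial (Sylow 2 G) := Finite.one_lt_card_iff_nontrivial.1 (by rw [← hm, h]; norm_num)
        rw [nat_card_alternatingGroup, ← hm, h]; rfl
      have h3 : orderOf (F v) ∣ 3 := by
        rw [← hcard3]; exact Subgroup.orderOf_dvd_natCard _ (Equiv.Perm.mem_alternatingGroup.2 hs)
      have h2' : orderOf (F v) ∣ 2 := orderOf_dvd_of_pow_eq_one (by rw [← map_pow, sq, h2 v hv, map_one])
      rw [← orderOf_eq_one_iff]
      exact Nat.dvd_one.1 (Nat.dvd_gcd h3 h2')
    · exact h
    · exfalso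
      haveI : Fact (Nat.Prime 7) := ⟨by norm_num⟩
      obtain ⟨P⟩ : Nonempty (Sylow 7 G) := inferInstance
      have hG84 : Nat.card G = 84 := by omega
      have hPc : Nat.card ↥(P : Subgroup G) = 7 := by
        obtain ⟨k, hk⟩ := IsPGroup.iff_card.1 P.2
        have h1 : 7 ^ 1 ∣ Nat.card ↥(P : Subgroup G) :=
          P.pow_dvd_card_of_pow_dvd_card (by rw [hG84]; norm_num)
        have h2' : Nat.card ↥(P : Subgroup G) ∣ 84 := hG84 ▸ Subgroup.card_subgroup_dvd_card _
        rw [hk] at h1 h2' ⊢
        rcases k with _ | _ | k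
        · norm_num at h1
        · norm_num
        · have := (pow_dvd_pow 7 (by omega : 2 ≤ k + 1 + 1)).trans h2'
          norm_num at this
      haveI hPn : (P : Subgroup G).Normal := by
        have h1 := card_sylow_modEq_one 7 G
        have h2' : Nat.card (Sylow 7 G) ∣ 12 := by
          have := P.card_dvd_index
          have e := (P : Subgroup G).card_mul_index
          rw [hPc, hG84] at e
          rwa [show (P : Subgroup G).index = 12 by omega] at this
        have h3 : Nat.card (Sylow 7 G) = 1 := by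
          have := Nat.le_of_dvd (by norm_num) h2'
          have h4 : Nat.card (Sylow 7 G) % 7 = 1 := h1
          interval_cases Nat.card (Sylow 7 G) <;> first | rfl | omega | (exfalso; revert h2'; decide)
        haveI : Subsingleton (Sylow 7 G) := (Nat.card_eq_one_iff_unique.1 h3).1
        exact P.normal_of_subsingleton
      haveI : IsCyclic ↥(P : Subgroup G) := isCyclic_of_prime_card hPc
      have hPV : (P : Subgroup G) ≤ V := by
        intro p hp
        exact Subgroup.mem_centralizer_singleton_iff.2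
          (cyclic_normal_central (P : Subgroup G) x (fun F => hA F x hxV) p hp)
      have := Subgroup.card_dvd_of_le hPV
      rw [hPc, hC4] at this
      norm_num at this
  haveI := Fintype.ofFinite (Sylow 2 G)
  let e5 : Sylow 2 G ≃ Fin 5 := (Finite.equivFin _).trans (finCongr (hm.symm.trans hm5))
  let φ : G →* Equiv.Perm (Fin 5) := e5.permCongrHom.toMonoidHom.comp (MulAction.toPermHom G (Sylow 2 G))
  have hφ : Function.Injective φ := by
    rw [injective_iff_map_eq_one]
    intro k hk
    exact hker k (e5.permCongrHom.injective (by rw [map_one]; exact hk))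
  have hrc : Nat.card ↥φ.range = 60 := by
    rw [← Nat.card_congr (MonoidHom.ofInjective hφ).toEquiv]; omega
  have hidx : φ.range.index = 2 := by
    have := φ.range.card_mul_index
    rw [hrc, Nat.card_perm, Nat.card_fin] at this
    norm_num [Nat.factorial] at this
    omega
  have hrA : φ.range = alternatingGroup (Fin 5) := Equiv.Perm.eq_alternatingGroup_of_index_eq_two hidx
  exact ⟨(MonoidHom.ofInjective hφ).trans (MulEquiv.subgroupCongr hrA)⟩

end Cfsg.Agent.S3277
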