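import Cfsg.Statements.S0213
import Cfsg.Agent.Lib.Invol.Counting

set_option autoImplicit false
open Cfsg

namespace Cfsg.Agent.S0213

/-- Thompson Order Formula, two-class case: if every involution of the finite group G is conjugate to exactly one of the non-conjugate involutions x₁, x₂, and nᵢ is the number of pairs (u, v) with u conjugate to x₁, v conjugate to x₂ and xᵢ in the cyclic group generated by uv, then |G| = |C(x₂)| n₁ + |C(x₁)| n₂. -/
theorem result {G : Type*} [Group G] [Finite G] (x₁ x₂ : G) (h₁ : orderOf x₁ = 2) (h₂ : orderOf x₂ = 2) (hnc : ¬ IsConj x₁ x₂) (hall : ∀ t : G, orderOf t = 2 → IsConj x₁ t ∨ IsConj x₂ t) : Nat.card G = Nat.card (Subgroup.centralizer ({x₂} : Set G)) * Nat.card {p : G × G // IsConj x₁ p.1 ∧ IsConj x₂ p.2 ∧ x₁ ∈ Subgroup.zpowers (p.1 * p.2)} + Nat.card (Subgroup.centralizer ({x₁} : Set G)) * Nat.card {p : G × G // IsConj x₁ p.1 ∧ IsConj x₂ p.2 ∧ x₂ ∈ Subgroup.zpowers (p.1 * p.2)} := by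
  classical
  haveI := Fintype.ofFinite G
  have hex : ∀ u v : G, IsConj x₁ u → IsConj x₂ v → ∃ z : G, orderOf z = 2 ∧
      Commute z u ∧ Commute z v ∧ z ∈ Subgroup.zpowers (u * v) := fun u v hu hv =>
    CfsgLib.Invol.exists_common_involution ((CfsgLib.Invol.orderOf_eq_of_isConj hu).symm.trans h₁)
      ((CfsgLib.Invol.orderOf_eq_of_isConj hv).symm.trans h₂)
      (fun h => hnc ((hu.trans h).trans hv.symm))
  let N : G → ℕ := fun x =>
    Nat.card {p : G × G // IsConj x₁ p.1 ∧ IsConj x₂ p.2 ∧ x ∈ Subgroup.zpowers (p.1 * p.2)}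
  have hNinv : ∀ x g : G, N (g * x * g⁻¹) = N x := by
    intro x g
    refine (Nat.card_congr (Equiv.subtypeEquiv
      ((MulAut.conj g).toEquiv.prodCongr (MulAut.conj g).toEquiv) fun p => ?_)).symm
    simp only [Equiv.prodCongr_apply, Prod.map, MulEquiv.toEquiv_eq_coe, EquivLike.coe_coe,
      MulAut.conj_apply]
    have hh : ∀ a b : G, IsConj a (g * b * g⁻¹) ↔ IsConj a b := fun a b =>
      ⟨fun h => h.trans (isConj_iff.mpr ⟨g⁻¹, by group⟩), fun h => h.trans (isConj_iff.mpr ⟨g, rfl⟩)⟩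
    rw [hh, hh, show g * p.1 * g⁻¹ * (g * p.2 * g⁻¹) = g * (p.1 * p.2) * g⁻¹ by group]
    refine and_congr_right fun _ => and_congr_right fun _ => ?_
    simp [Subgroup.mem_zpowers_iff, conj_zpow]
  -- pairs with attached involution
  let P := {p : G × G // IsConj x₁ p.1 ∧ IsConj x₂ p.2}
  let T := fun (x : G) => Σ y : {y : G // IsConj x y},
    {p : G × G // IsConj x₁ p.1 ∧ IsConj x₂ p.2 ∧ y.1 ∈ Subgroup.zpowers (p.1 * p.2)}
  have hT : ∀ x : G, Nat.card (T x) = Nat.card {y : G // IsConj x y} * N x := by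
    intro x
    simp only [T, Nat.card_sigma]
    rw [Finset.sum_congr rfl (fun y _ => show _ = N x from ?_)]
    · simp
    · obtain ⟨g, hg⟩ := isConj_iff.mp y.2
      rw [← hNinv x g, hg]
  have hbij : Nat.card (T x₁ ⊕ T x₂) = Nat.card P := by
    refine Nat.card_eq_of_bijective
      (Sum.elim (fun t => (⟨t.2.1, t.2.2.1, t.2.2.2.1⟩ : P)) (fun t => ⟨t.2.1, t.2.2.1, t.2.2.2.1⟩))
      ⟨?_, ?_⟩
    · have inj : ∀ (x x' : G) (t : T x) (t' : T x'), orderOf x = 2 → orderOf x' = 2 →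
          t.2.1 = t'.2.1 → t.1.1 = t'.1.1 := by
        intro x x' t t' hx hx' he
        have m' := t'.2.2.2.2
        rw [← he] at m'
        exact CfsgLib.Invol.mem_zpowers_unique_involution t.2.2.2.2 m'
          ((CfsgLib.Invol.orderOf_eq_of_isConj t.1.2).symm.trans hx)
          ((CfsgLib.Invol.orderOf_eq_of_isConj t'.1.2).symm.trans hx')
      have same : ∀ (x : G), orderOf x = 2 → ∀ t t' : T x, t.2.1 = t'.2.1 → t = t' := by
        intro x hx t t' he
        have e := inj x x t t' hx hx he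
        obtain ⟨⟨y, hy⟩, ⟨p, hp⟩⟩ := t
        obtain ⟨⟨y', hy'⟩, ⟨p', hp'⟩⟩ := t'
        simp only at e he
        subst e; subst he
        rfl
      rintro (t | t) (t' | t') he <;>
        simp only [Sum.elim_inl, Sum.elim_inr] at he <;> have he' := Subtype.mk.inj he
      · rw [same x₁ h₁ t t' he']
      · have e := inj x₁ x₂ t t' h₁ h₂ he'
        exact absurd ((e ▸ t.1.2).trans t'.1.2.symm) hnc
      · have e := inj x₂ x₁ t t' h₂ h₁ he'
        exact absurd (t'.1.2.trans (e ▸ t.1.2).symm) hnc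
      · rw [same x₂ h₂ t t' he']
    · rintro ⟨⟨u, v⟩, hu, hv⟩
      obtain ⟨z, hz, -, -, hzm⟩ := hex u v hu hv
      rcases hall z hz with h | h
      · exact ⟨Sum.inl ⟨⟨z, h⟩, ⟨(u, v), hu, hv, hzm⟩⟩, rfl⟩
      · exact ⟨Sum.inr ⟨⟨z, h⟩, ⟨(u, v), hu, hv, hzm⟩⟩, rfl⟩
  have hPc : Nat.card P = Nat.card {y : G // IsConj x₁ y} * Nat.card {y : G // IsConj x₂ y} := by
    rw [← Nat.card_prod]
    exact Nat.card_congr (Equiv.subtypeProdEquivProd (p := IsConj x₁) (q := IsConj x₂))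
  rw [Nat.card_sum, hT, hT, hPc] at hbij
  have e1 := CfsgLib.Invol.card_conjugates_mul x₁
  have e2 := CfsgLib.Invol.card_conjugates_mul x₂
  set c₁ := Nat.card (Subgroup.centralizer ({x₁} : Set G))
  set c₂ := Nat.card (Subgroup.centralizer ({x₂} : Set G))
  set k₁ := Nat.card {y : G // IsConj x₁ y}
  set k₂ := Nat.card {y : G // IsConj x₂ y}
  set g := Nat.card G
  show g = c₂ * N x₁ + c₁ * N x₂
  have hg : 0 < g := Nat.card_pos
  apply Nat.eq_of_mul_eq_mul_left hg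
  calc g * g = (k₁ * c₁) * (k₂ * c₂) := by rw [e1, e2]
    _ = (k₁ * k₂) * (c₁ * c₂) := by ring
    _ = (k₁ * N x₁ + k₂ * N x₂) * (c₁ * c₂) := by rw [hbij]
    _ = (k₁ * c₁) * (c₂ * N x₁) + (k₂ * c₂) * (c₁ * N x₂) := by ring
    _ = g * (c₂ * N x₁ + c₁ * N x₂) := by rw [e1, e2]; ring

end Cfsg.Agent.S0213
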