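import Cfsg.Statements.S0727
import Mathlib
import Cfsg.Agent.Lib.SmallGroups.SharpThreeField

set_option autoImplicit false
open Cfsg

namespace Cfsg.Agent.S0727

open CfsgLib.SmallGroups.SharplyThreeTransitive MulAction
open scoped LinearAlgebra.Projectivization

theorem toPermHom_bijective_of_card_three {H Y : Type*} [Group H] [MulAction H Y] [Finite Y]
    [FaithfulSMul H Y] (hS : IsSharpThree H Y) (h3 : Nat.card Y = 3) :
    Function.Bijective (toPermHom H Y) := by
  refine ⟨toPerm_injective, fun π => ?_⟩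
  have e := Finite.equivFinOfCardEq h3
  obtain ⟨g, g0, g1, g2⟩ := hS.1 (e.symm 0) (e.symm 1) (e.symm 2) (π (e.symm 0)) (π (e.symm 1))
    (π (e.symm 2)) (by simp) (by simp) (by simp) (by simp) (by simp) (by simp)
  refine ⟨g, Equiv.ext fun y => ?_⟩
  obtain ⟨i, rfl⟩ := e.symm.surjective y
  fin_cases i
  · exact g0
  · exact g1
  · exact g2

theorem isSharpThree_pgl (F : Type*) [Field F] :
    IsSharpThree (Matrix.ProjGenLinGroup (Fin 2) F) (ℙ F (Fin 2 → F)) := by
  obtain ⟨h1, h2⟩ := CfsgLib.Classical.pgl_two_sharply_three_transitive (F := F)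
  haveI := h1
  refine isSharpThree_of_stabilizer fun x => (Subgroup.eq_bot_iff_forall _).mpr fun g hg => ?_
  have hgi : ∀ i, g • x i = x i := fun i => DFunLike.congr_fun (mem_stabilizer_iff.mp hg) i
  exact h2 g (x 0) (x 1) (x 2) (x.injective.ne (by decide)) (x.injective.ne (by decide))
    (x.injective.ne (by decide)) (hgi 0) (hgi 1) (hgi 2)

/-- A sharply triply transitive permutation group of degree `2^f + 1` is isomorphic to the projective general linear group of degree 2 over the field with `2^f` elements. -/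
theorem result {α : Type*} [Fintype α] [DecidableEq α] {f : ℕ} (hf : 1 ≤ f) (hα : Fintype.card α = 2 ^ f + 1) (G : Subgroup (Equiv.Perm α)) (h3 : MulAction.IsMultiplyPretransitive G α 3) (hsharp : ∀ x : Fin 3 ↪ α, MulAction.stabilizer G x = ⊥) : ∃ (F : Type) (_ : Field F) (_ : Fintype F), Fintype.card F = 2 ^ f ∧ Nonempty (G ≃* Matrix.ProjGenLinGroup (Fin 2) F) := by
  classical
  haveI := h3
  have hS : IsSharpThree G α := isSharpThree_of_stabilizer hsharp
  have hcard : Nat.card α = 2 ^ f + 1 := by rw [Nat.card_eq_fintype_card, hα]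
  by_cases hf1 : f = 1
  · subst hf1
    haveI : Finite (ℙ (ZMod 2) (Fin 2 → ZMod 2)) := inferInstance
    have hX : Nat.card (ℙ (ZMod 2) (Fin 2 → ZMod 2)) = 3 := by
      rw [Projectivization.card_of_finrank_two (ZMod 2) _ (Module.finrank_fin_fun _), Nat.card_zmod]
    haveI : FaithfulSMul (Matrix.ProjGenLinGroup (Fin 2) (ZMod 2)) (ℙ (ZMod 2) (Fin 2 → ZMod 2)) := by
      refine ⟨fun {g h} hgh => inv_mul_eq_one.mp ?_⟩
      have e := Finite.equivFinOfCardEq hX
      have key : ∀ x : ℙ (ZMod 2) (Fin 2 → ZMod 2), (g⁻¹ * h) • x = x := fun x => by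
        rw [mul_smul, ← hgh x, inv_smul_smul]
      exact (isSharpThree_pgl (ZMod 2)).2 _ (e.symm 0) (e.symm 1) (e.symm 2) (by simp) (by simp)
        (by simp) (key _) (key _) (key _)
    have ε : α ≃ ℙ (ZMod 2) (Fin 2 → ZMod 2) :=
      (Finite.equivFinOfCardEq (show Nat.card α = 3 by rw [hcard]; norm_num)).trans
        (Finite.equivFinOfCardEq hX).symm
    refine ⟨ZMod 2, inferInstance, inferInstance, by simp, ⟨?_⟩⟩
    exact (MulEquiv.ofBijective _ (toPermHom_bijective_of_card_three hS (by rw [hcard]; norm_num))).trans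
      (ε.permCongrHom.trans (MulEquiv.ofBijective _
        (toPermHom_bijective_of_card_three (isSharpThree_pgl (ZMod 2)) hX)).symm)
  have h4 : 4 ≤ Nat.card α := by
    have := Nat.pow_le_pow_right (show 1 ≤ 2 by norm_num) (show 2 ≤ f by omega)
    omega
  have e := Finite.equivFinOfCardEq hcard
  have hlt : 2 < 2 ^ f + 1 := by omega
  let a : α := e.symm ⟨0, by omega⟩
  let b : α := e.symm ⟨1, by omega⟩
  let d : α := e.symm ⟨2, hlt⟩
  have hab : a ≠ b := fun h => by simpa [a, b] using e.symm.injective h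
  have had : a ≠ d := fun h => by simpa [a, d] using e.symm.injective h
  have hbd : b ≠ d := fun h => by simpa [b, d] using e.symm.injective h
  obtain ⟨s, hsa, hsb, hsd⟩ := hS.1 a b d b a d hab had hbd hab.symm hbd had
  have hs2 : s * s = 1 := hS.2 _ a b d hab had hbd (by rw [mul_smul, hsa, hsb])
    (by rw [mul_smul, hsb, hsa]) (by rw [mul_smul, hsd, hsd])
  have honly : ∀ x, s • x = x → x = d := by
    intro x hx
    by_contra hxd
    have hσ : (toPerm s : Equiv.Perm α) ^ 2 ^ 1 = 1 := by
      rw [pow_one, sq]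
      ext y
      show s • s • y = y
      rw [← mul_smul, hs2, one_smul]
    haveI : Fact (Nat.Prime 2) := ⟨Nat.prime_two⟩
    have hmod := Equiv.Perm.card_compl_support_modEq hσ
    have hsup : (toPerm s : Equiv.Perm α).supportᶜ = {x, d} := by
      ext y
      simp only [Finset.mem_compl, Equiv.Perm.mem_support, not_not, MulAction.toPerm_apply,
        Finset.mem_insert, Finset.mem_singleton]
      refine ⟨fun hy => ?_, ?_⟩
      · by_contra h
        push_neg at h
        have h1 := hS.2 s y x d h.1 h.2 hxd hy hx hsd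
        rw [h1, one_smul] at hsa
        exact hab hsa
      · rintro (rfl | rfl)
        · exact hx
        · exact hsd
    rw [hsup, Finset.card_pair hxd, hα, Nat.ModEq, Nat.add_mod, Nat.pow_mod] at hmod
    simp [Nat.zero_pow (show 0 < f by omega)] at hmod
  let H : Subgroup G := stabilizer G a ⊓ stabilizer G b
  have hconjmem : ∀ x : H, s * (x : G) * s⁻¹ ∈ H := by
    intro x
    have hsi : s⁻¹ = s := inv_eq_of_mul_eq_one_right hs2
    refine ⟨?_, ?_⟩
    · show (s * (x : G) * s⁻¹) • a = a
      rw [hsi, mul_smul, mul_smul, hsa, (mem_stabilizer_iff.mp x.2.2), hsb]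
    · show (s * (x : G) * s⁻¹) • b = b
      rw [hsi, mul_smul, mul_smul, hsb, (mem_stabilizer_iff.mp x.2.1), hsa]
  let φ : H →* H :=
    { toFun := fun x => ⟨s * (x : G) * s⁻¹, hconjmem x⟩
      map_one' := Subtype.ext (by simp)
      map_mul' := fun x y => Subtype.ext (by simp [mul_assoc]) }
  have hφ : MonoidHom.FixedPointFree φ := by
    intro x hx
    have hx' : s * (x : G) * s⁻¹ = (x : G) := congrArg Subtype.val hx
    have h1 : s • ((x : G) • d) = (x : G) • d := by
      conv_rhs => rw [← hx', mul_smul, mul_smul, inv_smul_eq_iff.mpr hsd.symm]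
    exact Subtype.ext (hS.2 _ a b d hab had hbd x.2.1 x.2.2 (honly _ h1))
  have hinvol : Function.Involutive φ := fun x => Subtype.ext (by
    show s * (s * (x : G) * s⁻¹) * s⁻¹ = (x : G)
    rw [inv_eq_of_mul_eq_one_right hs2, ← mul_assoc s, ← mul_assoc s, hs2, one_mul, mul_assoc, hs2,
      mul_one])
  have hinv : ∀ h : G, h • a = a → h • b = b → s * h * s⁻¹ = h⁻¹ := fun h ha hb =>
    congrArg Subtype.val (congrFun (hφ.coe_eq_inv_of_involutive hinvol) ⟨h, ha, hb⟩)
  have hcomm : ∀ g h : G, g • a = a → g • b = b → h • a = a → h • b = b → g * h = h * g :=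
    fun g h hga hgb hha hhb =>
      congrArg Subtype.val (hφ.commute_all_of_involutive hinvol ⟨g, hga, hgb⟩ ⟨h, hha, hhb⟩).eq
  obtain ⟨F, _, _, hF, hiso⟩ :=
    CfsgLib.SmallGroups.SharpThreeField.nonempty_pgl hS h4 hab had hbd hcomm hsa hsb hsd hinv
  exact ⟨F, inferInstance, inferInstance, by omega, hiso⟩

end Cfsg.Agent.S0727
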