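import Cfsg.Statements.S1226
import Cfsg.Agent.Lib.Invol.Isolated

set_option autoImplicit false
open Cfsg

namespace Cfsg.Agent.S1226

/-- Let G be a finite group with a Sylow 2-subgroup T that is neither cyclic nor normal, such that the centralizer of every involution is an elementary abelian 2-group. Then N_G(T) is a strongly embedded subgroup of G. -/
theorem result {G : Type*} [Group G] [Finite G] (T : Sylow 2 G) (hnc : ¬ IsCyclic (T : Subgroup G)) (hnn : ¬ (T : Subgroup G).Normal) (hC : ∀ t : G, orderOf t = 2 → IsMulCommutative (Subgroup.centralizer ({t} : Set G)) ∧ ∀ c ∈ Subgroup.centralizer ({t} : Set G), c ^ 2 = 1) : Cfsg.IsStronglyEmbedded (Subgroup.normalizer ((T : Subgroup G) : Set G)) := by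
  classical
  have hTcard : Nat.card (T : Subgroup G) ≠ 1 := fun h => hnc (by
    haveI := (Nat.card_eq_one_iff_unique.mp h).1
    infer_instance)
  haveI : Nontrivial (T : Subgroup G) := by
    rw [← Finite.one_lt_card_iff_nontrivial]
    have := Nat.card_pos (α := (T : Subgroup G))
    omega
  haveI := T.isPGroup'.center_nontrivial
  obtain ⟨z0, hz0⟩ : ∃ z : Subgroup.center (T : Subgroup G), orderOf z = 2 := by
    obtain ⟨k, hk⟩ := IsPGroup.iff_card.mp (T.isPGroup'.to_subgroup (Subgroup.center (T : Subgroup G)))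
    refine exists_prime_orderOf_dvd_card' 2 ?_
    rcases k with _ | k
    · rw [pow_zero] at hk
      have := Finite.one_lt_card (α := Subgroup.center (T : Subgroup G))
      omega
    · exact ⟨2 ^ k, by rw [hk, pow_succ']⟩
  have hz : orderOf ((z0 : (T : Subgroup G)) : G) = 2 := by
    rw [Subgroup.orderOf_coe, Subgroup.orderOf_coe, hz0]
  have hTC : (T : Subgroup G) ≤ Subgroup.centralizer ({((z0 : (T : Subgroup G)) : G)} : Set G) :=
    fun t ht => Subgroup.mem_centralizer_singleton_iff.mpr
      (congrArg Subtype.val (Subgroup.mem_center_iff.mp z0.2 ⟨t, ht⟩))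
  have hab : ∀ a ∈ (T : Subgroup G), ∀ b ∈ (T : Subgroup G), a * b = b * a := by
    intro a ha b hb
    haveI := (hC _ hz).1
    exact congrArg Subtype.val
      (mul_comm' (⟨a, hTC ha⟩ : Subgroup.centralizer ({((z0 : (T : Subgroup G)) : G)} : Set G)) ⟨b, hTC hb⟩)
  -- the centralizer of an involution of T is T
  have hCT : ∀ t ∈ (T : Subgroup G), orderOf t = 2 → ∀ c, c * t = t * c → c ∈ (T : Subgroup G) := by
    intro t ht ht2 c hc
    have hp : IsPGroup 2 (Subgroup.centralizer ({t} : Set G)) := fun a =>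
      ⟨1, Subtype.ext (by simpa using (hC t ht2).2 a.1 a.2)⟩
    have hle : (T : Subgroup G) ≤ Subgroup.centralizer ({t} : Set G) := fun a ha =>
      Subgroup.mem_centralizer_singleton_iff.mpr (hab a ha t ht)
    rw [← T.3 hp hle]
    exact Subgroup.mem_centralizer_singleton_iff.mpr hc
  -- every involution of the normalizer lies in T
  have hNT : ∀ t, orderOf t = 2 → t ∈ Subgroup.normalizer ((T : Subgroup G) : Set G) →
      t ∈ (T : Subgroup G) := by
    intro t ht htN
    have hp : IsPGroup 2 (Subgroup.zpowers t) := IsPGroup.of_card (n := 1) (by rw [Nat.card_zpowers, ht, pow_one])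
    have h1 := hp.to_sup_of_normal_right' T.isPGroup' (Subgroup.zpowers_le.mpr htN)
    rw [← T.3 h1 le_sup_right]
    exact Subgroup.mem_sup_left (Subgroup.mem_zpowers t)
  refine ⟨fun h => hnn (Subgroup.normalizer_eq_top_iff.mp h), ?_, ?_⟩
  · have h := Subgroup.orderOf_dvd_natCard _
      (Subgroup.le_normalizer (z0 : (T : Subgroup G)).2)
    rw [hz] at h
    exact even_iff_two_dvd.mpr h
  · intro g hg
    by_contra hodd
    rw [Nat.not_odd_iff_even] at hodd
    obtain ⟨⟨t, ht12⟩, ht⟩ := exists_prime_orderOf_dvd_card' 2 (even_iff_two_dvd.mp hodd)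
    obtain ⟨ht1, ht2⟩ := Subgroup.mem_inf.mp ht12
    rw [← Subgroup.orderOf_coe] at ht
    rw [CfsgLib.Invol.mem_map_conj] at ht2
    have htT := hNT t ht ht1
    have ht' : orderOf (g⁻¹ * t * g) = 2 := by
      have := CfsgLib.Invol.orderOf_conj_eq g⁻¹ t
      rw [inv_inv] at this
      rw [this, ht]
    have htT' := hNT _ ht' ht2
    apply hg
    rw [CfsgLib.Invol.mem_normalizer_iff_map_conj]
    refine Subgroup.eq_of_le_of_card_ge ?_ (CfsgLib.Invol.card_map_conj _ _).ge
    intro x hx
    rw [CfsgLib.Invol.mem_map_conj] at hx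
    refine hCT t htT ht x ?_
    have h := hab _ hx _ htT'
    calc x * t = g * ((g⁻¹ * x * g) * (g⁻¹ * t * g)) * g⁻¹ := by group
      _ = g * ((g⁻¹ * t * g) * (g⁻¹ * x * g)) * g⁻¹ := by rw [h]
      _ = t * x := by group

end Cfsg.Agent.S1226
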