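import Cfsg.Statements.S1229
import Cfsg.Agent.Lib.Invol.Zassenhaus

set_option autoImplicit false
open Cfsg

namespace Cfsg.Agent.S1229

/-- Let G be a finite group with a Sylow 2-subgroup T that is neither cyclic nor normal, such that the centralizer of every involution is an elementary abelian 2-group; put H = N_G(T) and X = G/H. Then G is triply transitive on X, an element fixing three distinct points of X is the identity, and T acts regularly on X minus the point H. -/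
theorem result {G : Type*} [Group G] [Finite G] (T : Sylow 2 G) (hnc : ¬ IsCyclic (T : Subgroup G)) (hnn : ¬ (T : Subgroup G).Normal) (hC : ∀ t : G, orderOf t = 2 → IsMulCommutative (Subgroup.centralizer ({t} : Set G)) ∧ ∀ c ∈ Subgroup.centralizer ({t} : Set G), c ^ 2 = 1) : (∀ x₁ x₂ x₃ y₁ y₂ y₃ : G ⧸ Subgroup.normalizer ((T : Subgroup G) : Set G), x₁ ≠ x₂ → x₁ ≠ x₃ → x₂ ≠ x₃ → y₁ ≠ y₂ → y₁ ≠ y₃ → y₂ ≠ y₃ → ∃ g : G, g • x₁ = y₁ ∧ g • x₂ = y₂ ∧ g • x₃ = y₃) ∧ (∀ g : G, ∀ x₁ x₂ x₃ : G ⧸ Subgroup.normalizer ((T : Subgroup G) : Set G), x₁ ≠ x₂ → x₁ ≠ x₃ → x₂ ≠ x₃ → g • x₁ = x₁ → g • x₂ = x₂ → g • x₃ = x₃ → g = 1) ∧ (∀ x y : G ⧸ Subgroup.normalizer ((T : Subgroup G) : Set G), x ≠ QuotientGroup.mk 1 → y ≠ QuotientGroup.mk 1 → ∃! t : G, t ∈ T ∧ t • x = y) := by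
  have S : CfsgLib.Invol.Zass.Setup T := ⟨hnc, hnn, hC⟩
  set x0 : G ⧸ Subgroup.normalizer ((T : Subgroup G) : Set G) := QuotientGroup.mk 1 with hx0
  have htrans : ∀ x, ∃ g : G, g • x = x0 := by
    intro x
    induction x using QuotientGroup.induction_on with
    | H a => exact ⟨a⁻¹, by rw [hx0, MulAction.Quotient.smul_mk, smul_eq_mul, inv_mul_cancel]⟩
  have hfree : ∀ g : G, ∀ x₁ x₂ x₃ : G ⧸ Subgroup.normalizer ((T : Subgroup G) : Set G),
      x₁ ≠ x₂ → x₁ ≠ x₃ → x₂ ≠ x₃ → g • x₁ = x₁ → g • x₂ = x₂ → g • x₃ = x₃ → g = 1 := by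
    intro g x₁ x₂ x₃ h12 h13 h23 e1 e2 e3
    obtain ⟨a, ha⟩ := htrans x₁
    have key : ∀ x : G ⧸ Subgroup.normalizer ((T : Subgroup G) : Set G), g • x = x → (a * g * a⁻¹) • (a • x) = a • x := by
      intro x hx
      rw [mul_smul, inv_smul_smul, mul_smul, hx]
    have n2 : a • x₂ ≠ x0 := fun h => h12 (smul_left_cancel a (ha.trans h.symm))
    have n3 : a • x₃ ≠ x0 := fun h => h13 (smul_left_cancel a (ha.trans h.symm))
    have n23 : a • x₃ ≠ a • x₂ := fun h => h23 (smul_left_cancel a h).symm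
    have h := S.D_free n2 n3 n23 (CfsgLib.Invol.Zass.mem_D.mpr
      ⟨CfsgLib.Invol.Zass.mem_N_iff_fix.mpr (by
        show (a * g * a⁻¹) • x0 = x0
        have k := key x₁ e1
        rwa [ha] at k), key x₂ e2⟩) (key x₃ e3)
    calc g = a⁻¹ * (a * g * a⁻¹) * a := by group
      _ = 1 := by rw [h]; group
  refine ⟨?_, hfree, ?_⟩
  · -- 3-transitivity
    intro x₁ x₂ x₃ y₁ y₂ y₃ hx12 hx13 hx23 hy12 hy13 hy23
    obtain ⟨w, hw⟩ : ∃ w : G, w ∉ Subgroup.normalizer ((T : Subgroup G) : Set G) := by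
      by_contra h
      push Not at h
      exact S.se.1 ((Subgroup.eq_top_iff' _).mpr h)
    set y0 : G ⧸ Subgroup.normalizer ((T : Subgroup G) : Set G) := QuotientGroup.mk w with hy0
    have hyne : y0 ≠ x0 := fun h => hw (by simpa [hy0, hx0] using QuotientGroup.eq.mp h)
    have key : ∀ z₁ z₂ z₃ : G ⧸ Subgroup.normalizer ((T : Subgroup G) : Set G), z₁ ≠ z₂ → z₁ ≠ z₃ → z₂ ≠ z₃ →
        ∃ g : G, g • z₁ = x0 ∧ g • z₂ = y0 ∧ g • z₃ ≠ x0 ∧ g • z₃ ≠ y0 := by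
      intro z₁ z₂ z₃ h12 h13 h23
      obtain ⟨a, ha⟩ := htrans z₁
      obtain ⟨b, hb, hbe⟩ := S.T_transitive hyne (z := a • z₂)
        (fun h => h12 (smul_left_cancel a (ha.trans h.symm)))
      have e1 : (b * a) • z₁ = x0 := by
        rw [mul_smul, ha]
        exact CfsgLib.Invol.Zass.mem_N_iff_fix.mp (Subgroup.le_normalizer hb)
      have e2 : (b * a) • z₂ = y0 := by rw [mul_smul, hbe]
      exact ⟨b * a, e1, e2, fun h => h13 (smul_left_cancel _ (e1.trans h.symm)),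
        fun h => h23 (smul_left_cancel _ (e2.trans h.symm))⟩
    obtain ⟨g, g1, g2, g3, g4⟩ := key x₁ x₂ x₃ hx12 hx13 hx23
    obtain ⟨f, f1, f2, f3, f4⟩ := key y₁ y₂ y₃ hy12 hy13 hy23
    obtain ⟨d, hd, hde⟩ := S.D_transitive hyne g3 g4 f3 f4
    refine ⟨f⁻¹ * d * g, ?_, ?_, ?_⟩
    · rw [mul_smul, mul_smul, g1, hx0, CfsgLib.Invol.Zass.mem_N_iff_fix.mp (CfsgLib.Invol.Zass.mem_D.mp hd).1]
      exact inv_smul_eq_iff.mpr (f1.trans hx0).symm
    · rw [mul_smul, mul_smul, g2, (CfsgLib.Invol.Zass.mem_D.mp hd).2, ← f2, inv_smul_smul]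
    · rw [mul_smul, mul_smul, hde, inv_smul_smul]
  · intro x y hx hy
    obtain ⟨a, ha, hae⟩ := S.T_transitive hy hx
    exact ⟨a, ⟨ha, hae⟩, fun b ⟨hb, hbe⟩ => S.T_free hx hb ha (hbe.trans hae.symm)⟩

end Cfsg.Agent.S1229
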