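import Cfsg.Statements.S1230
import Cfsg.Agent.S1229
import Cfsg.Agent.S0727
import Cfsg.Agent.Lib.Classical22.PSLMaxEven

set_option autoImplicit false
open Cfsg

namespace Cfsg.Agent.S1230

/-- Let G be a finite group with a Sylow 2-subgroup T that is neither cyclic nor normal, such that the centralizer of every involution is an elementary abelian 2-group. Then G ≅ PSL(2,F) for a finite field F with |F| = |T|. -/
theorem result {G : Type*} [Group G] [Finite G] (T : Sylow 2 G) (hnc : ¬ IsCyclic (T : Subgroup G)) (hnn : ¬ (T : Subgroup G).Normal) (hC : ∀ t : G, orderOf t = 2 → IsMulCommutative (Subgroup.centralizer ({t} : Set G)) ∧ ∀ c ∈ Subgroup.centralizer ({t} : Set G), c ^ 2 = 1) : ∃ (F : Type) (_ : Field F) (_ : Fintype F), Fintype.card F = Nat.card T ∧ Nonempty (G ≃* Matrix.ProjectiveSpecialLinearGroup (Fin 2) F) := by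
  classical
  haveI : Fact (Nat.Prime 2) := ⟨Nat.prime_two⟩
  have S : CfsgLib.Invol.Zass.Setup T := ⟨hnc, hnn, hC⟩
  set X := G ⧸ Subgroup.normalizer ((T : Subgroup G) : Set G)
  haveI : Fintype X := Fintype.ofFinite X
  obtain ⟨h3, hfree, -⟩ := Cfsg.Agent.S1229.result T hnc hnn hC
  obtain ⟨f, hf⟩ := IsPGroup.iff_card.mp T.isPGroup'
  have hf1 : 1 ≤ f := by
    by_contra h
    apply hnc
    have : (T : Subgroup G) = ⊥ := Subgroup.eq_bot_of_card_eq _ (by rw [hf, show f = 0 by omega, pow_zero])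
    rw [this]; infer_instance
  have hcard : Fintype.card X = 2 ^ f + 1 := by
    rw [← Nat.card_eq_fintype_card, S.card_coset, hf]
  let ρ : G →* Equiv.Perm X := MulAction.toPermHom G X
  have hinj : Function.Injective ρ := by
    rw [injective_iff_map_eq_one]
    intro g hg
    have h3' : 2 < Fintype.card X := by
      have := Nat.pow_le_pow_right (show 1 ≤ 2 by norm_num) hf1
      omega
    obtain ⟨a, b, c, hab, hac, hbc⟩ := Fintype.two_lt_card_iff.1 h3'
    have hfix : ∀ x : X, g • x = x := fun x => Equiv.ext_iff.1 hg x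
    exact hfree g a b c hab hac hbc (hfix a) (hfix b) (hfix c)
  have hval : ∀ (x : Fin 3 ↪ X), x 0 ≠ x 1 ∧ x 0 ≠ x 2 ∧ x 1 ≠ x 2 := fun x =>
    ⟨x.injective.ne (by decide), x.injective.ne (by decide), x.injective.ne (by decide)⟩
  have hm : MulAction.IsMultiplyPretransitive ρ.range X 3 := by
    rw [MulAction.isMultiplyPretransitive_iff]
    intro x y
    obtain ⟨x01, x02, x12⟩ := hval x
    obtain ⟨y01, y02, y12⟩ := hval y
    obtain ⟨g, g0, g1, g2⟩ := h3 _ _ _ _ _ _ x01 x02 x12 y01 y02 y12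
    refine ⟨⟨ρ g, g, rfl⟩, Function.Embedding.ext fun i => ?_⟩
    fin_cases i
    · exact g0
    · exact g1
    · exact g2
  have hs : ∀ x : Fin 3 ↪ X, MulAction.stabilizer ρ.range x = ⊥ := by
    intro x
    obtain ⟨x01, x02, x12⟩ := hval x
    rw [Subgroup.eq_bot_iff_forall]
    rintro ⟨_, g, rfl⟩ hgx
    have hgi : ∀ i, g • x i = x i := fun i => DFunLike.congr_fun (MulAction.mem_stabilizer_iff.1 hgx) i
    have := hfree g _ _ _ x01 x02 x12 (hgi 0) (hgi 1) (hgi 2)
    exact Subtype.ext (by show ρ g = 1; rw [this, map_one])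
  obtain ⟨F, i1, i2, hF, ⟨e⟩⟩ := Cfsg.Agent.S0727.result hf1 hcard ρ.range hm hs
  refine ⟨F, i1, i2, hF.trans hf.symm, ⟨?_⟩⟩
  exact ((MonoidHom.ofInjective hinj).trans e).trans
    (MulEquiv.ofBijective _ (CfsgLib.Classical22.toPGL_bijective_even hF (Nat.even_iff.1 (Nat.even_pow.2 ⟨even_two, by omega⟩)))).symm

end Cfsg.Agent.S1230
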