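import Cfsg.Statements.S4167
import Cfsg.Agent.Lib.FGS.Covering
import Cfsg.Agent.S0205
-- import your own Cfsg.Agent.* helpers here

set_option autoImplicit false
open Cfsg

namespace Cfsg.Agent.S4167


open scoped Pointwise

theorem index_inf_dvd {G : Type*} [Group G] [Finite G] (N : Subgroup G) [N.Normal] (x : ↥N) :
    (Subgroup.centralizer ({x} : Set ↥N)).index ∣ (Subgroup.centralizer ({(x : G)} : Set G)).index := by
  have h : Subgroup.centralizer ({x} : Set ↥N) =
      (Subgroup.centralizer ({(x : G)} : Set G)).subgroupOf N := by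
    ext y
    rw [Subgroup.mem_subgroupOf, Subgroup.mem_centralizer_singleton_iff,
      Subgroup.mem_centralizer_singleton_iff]
    exact Subtype.ext_iff
  rw [h]
  show (Subgroup.centralizer ({(x : G)} : Set G)).relIndex N ∣ _
  set C := Subgroup.centralizer ({(x : G)} : Set G)
  haveI : Fintype G := Fintype.ofFinite G
  have e1 : Nat.card (N ⊓ C : Subgroup G) * C.relIndex N = Nat.card N := by
    rw [← Subgroup.inf_relIndex_left, ← Subgroup.relIndex_bot_left (N ⊓ C),
      ← Subgroup.relIndex_bot_left N, Subgroup.relIndex_mul_relIndex ⊥ _ N bot_le inf_le_left]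
  have e2 : Nat.card C = Nat.card (N ⊓ C : Subgroup G) * N.relIndex C := by
    rw [← Subgroup.inf_relIndex_right, ← Subgroup.relIndex_bot_left (N ⊓ C),
      ← Subgroup.relIndex_bot_left C, Subgroup.relIndex_mul_relIndex ⊥ _ C bot_le inf_le_right]
  obtain ⟨d, hd⟩ := Subgroup.relIndex_dvd_index_of_normal N C
  refine ⟨d, ?_⟩
  have hk : 0 < Nat.card (N ⊓ C : Subgroup G) := Nat.card_pos
  have hj : 0 < N.relIndex C := Nat.pos_of_ne_zero Subgroup.index_ne_zero_of_finite
  have h3 : Nat.card N * N.index = Nat.card C * C.index := by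
    rw [N.card_mul_index, C.card_mul_index]
  rw [← e1, e2, hd] at h3
  apply Nat.eq_of_mul_eq_mul_left (Nat.mul_pos hk hj)
  rw [← h3]; ring

theorem index_quot_dvd {G : Type*} [Group G] [Finite G] (N : Subgroup G) [N.Normal] (x : G) :
    (Subgroup.centralizer ({(x : G ⧸ N)} : Set (G ⧸ N))).index ∣
      (Subgroup.centralizer ({x} : Set G)).index := by
  refine (Subgroup.index_dvd_of_le (?_ : (Subgroup.centralizer ({x} : Set G)).map
    (QuotientGroup.mk' N) ≤ _)).trans (Subgroup.index_map_dvd _ (QuotientGroup.mk'_surjective N))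
  rintro _ ⟨c, hc, rfl⟩
  rw [Subgroup.mem_centralizer_singleton_iff]
  have := congrArg (QuotientGroup.mk' N) (Subgroup.mem_centralizer_singleton_iff.1 hc)
  rw [map_mul, map_mul] at this
  exact this

/-- Some nontrivial element of a Sylow 2-subgroup of a simple group has a conjugate in each
subgroup of index at most two. -/
theorem exists_meets {S : Type*} [Group S] [Finite S] [IsSimpleGroup S]
    (hns : ¬ Group.IsSolvable S) (P : Sylow 2 S) :
    ∃ z ∈ (P : Subgroup S), z ≠ 1 ∧ ∀ A : Subgroup S, A ≤ P → A.relIndex P ≤ 2 →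
      ∃ g : S, g * z * g⁻¹ ∈ A := by
  classical
  haveI : Fact (Nat.Prime 2) := ⟨Nat.prime_two⟩
  have hidx : ∀ A : Subgroup S, A.relIndex P ≤ 2 →
      A.relIndex P = 1 ∨ (A.subgroupOf P).index = 2 := fun A h => by
    have h0 : A.relIndex P ≠ 0 := Subgroup.index_ne_zero_of_finite
    rcases (show A.relIndex P = 1 ∨ A.relIndex P = 2 by omega) with h' | h'
    · exact Or.inl h'
    · exact Or.inr h'
  by_cases hsq : ∃ s ∈ (P : Subgroup S), s * s ≠ 1
  · obtain ⟨s, hs, hs1⟩ := hsq
    refine ⟨s * s, mul_mem hs hs, hs1, fun A hA hi => ⟨1, ?_⟩⟩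
    rw [one_mul, inv_one, mul_one]
    rcases hidx A hi with h | h
    · exact Subgroup.relIndex_eq_one.1 h (mul_mem hs hs)
    · exact Subgroup.mem_subgroupOf.1 (Subgroup.mul_self_mem_of_index_two h ⟨s, hs⟩)
  push Not at hsq
  have hPne : (P : Subgroup S) ≠ ⊥ := by
    intro hP
    refine hns (Cfsg.Agent.S0205.result (Nat.not_even_iff_odd.1 fun he => ?_))
    exact P.not_dvd_index (by rw [hP, Subgroup.index_bot]; exact he.two_dvd)
  obtain ⟨z, hz, hz1⟩ := P.1.bot_or_exists_ne_one.resolve_left hPne
  refine ⟨z, hz, hz1, fun A hA hi => ?_⟩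
  rcases hidx A hi with h | h
  · exact ⟨1, by rw [one_mul, inv_one, mul_one]; exact Subgroup.relIndex_eq_one.1 h hz⟩
  have hab : ∀ a b : ↥(P : Subgroup S), a * b = b * a := by
    intro a b
    have h1 : ∀ c : ↥(P : Subgroup S), c = c⁻¹ := fun c =>
      eq_inv_of_mul_eq_one_left (Subtype.ext (hsq c c.2))
    calc a * b = (a * b)⁻¹ := h1 _
      _ = b * a := by rw [mul_inv_rev, ← h1 a, ← h1 b]
  haveI hPcomm : IsMulCommutative ↥(P : Subgroup S) := ⟨⟨hab⟩⟩
  open scoped IsMulCommutative in
  by_contra hno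
  push Not at hno
  let φ := Subgroup.normalizerMonoidHom (P : Subgroup S)
  letI : MulAction (Subgroup.normalizer ((P : Subgroup S) : Set S)) ↥(P : Subgroup S) :=
    MulAction.compHom _ φ
  let z' : ↥(P : Subgroup S) := ⟨z, hz⟩
  let O : Finset ↥(P : Subgroup S) := (MulAction.orbit
    (Subgroup.normalizer ((P : Subgroup S) : Set S)) z').toFinite.toFinset
  have hO : Odd O.card := by
    rw [← Set.ncard_eq_toFinset_card, ← Nat.card_coe_set_eq,
      Nat.card_congr (MulAction.orbitEquivQuotientStabilizer _ z'), ← Subgroup.index_eq_card,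
      ← Nat.not_even_iff_odd, even_iff_two_dvd]
    intro h2
    refine P.not_dvd_index (h2.trans ((Subgroup.index_dvd_of_le
      (?_ : (P : Subgroup S).subgroupOf _ ≤ _)).trans
      (Subgroup.relIndex_dvd_index_of_le Subgroup.le_normalizer)))
    intro n hn
    refine MulAction.mem_stabilizer_iff.2 (Subtype.ext ?_)
    show (n : S) * z * (n : S)⁻¹ = z
    have e : (n : S) * z = z * (n : S) :=
      congrArg Subtype.val (hab ⟨n, Subgroup.mem_subgroupOf.1 hn⟩ z')
    rw [e, mul_inv_cancel_right]
  let w := ∏ o ∈ O, o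
  have hwfix : ∀ n : Subgroup.normalizer ((P : Subgroup S) : Set S), φ n w = w := by
    intro n
    rw [map_prod]
    refine Finset.prod_bij' (fun o _ => φ n o) (fun o _ => φ n⁻¹ o) ?_ ?_ ?_ ?_ ?_
    · intro o ho
      simp only [O, Set.Finite.mem_toFinset] at ho ⊢
      exact MulAction.mem_orbit_of_mem_orbit n ho
    · intro o ho
      simp only [O, Set.Finite.mem_toFinset] at ho ⊢
      exact MulAction.mem_orbit_of_mem_orbit n⁻¹ ho
    · intro o _
      show φ n⁻¹ (φ n o) = o
      rw [← MulAut.mul_apply, ← map_mul, inv_mul_cancel, map_one, MulAut.one_apply]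
    · intro o _
      show φ n (φ n⁻¹ o) = o
      rw [← MulAut.mul_apply, ← map_mul, mul_inv_cancel, map_one, MulAut.one_apply]
    · intro o _
      rfl
  have hw1 : w = 1 := by
    by_contra hne
    let V := MonoidHom.transfer (MonoidHom.id ↥(P : Subgroup S))
    have key : ∀ (k : ℕ) (g₀ : S), g₀⁻¹ * (w : S) ^ k * g₀ ∈ (P : Subgroup S) →
        g₀⁻¹ * (w : S) ^ k * g₀ = (w : S) ^ k := by
      intro k g₀ hk
      obtain ⟨n, hn, he⟩ := P.conj_eq_normalizer_conj_of_mem _ g₀ (pow_mem w.2 k) hk
      rw [he]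
      have hfix := congrArg (fun t : ↥(P : Subgroup S) => ((t ^ k : ↥(P : Subgroup S)) : S))
        (hwfix ⟨n⁻¹, inv_mem hn⟩)
      simp only [SubmonoidClass.coe_pow] at hfix
      refine Eq.trans ?_ hfix
      show n⁻¹ * (w : S) ^ k * n = (n⁻¹ * (w : S) * n⁻¹⁻¹) ^ k
      rw [conj_pow, inv_inv]
    have hV : V (w : S) = w := by
      show MonoidHom.transfer (MonoidHom.id ↥(P : Subgroup S)) (w : S) = w
      rw [MonoidHom.transfer_eq_pow _ _ key]
      apply Subtype.ext
      show (w : S) ^ (P : Subgroup S).index = w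
      obtain ⟨m, hm⟩ := Nat.not_even_iff_odd.1 fun he => P.not_dvd_index he.two_dvd
      rw [hm, pow_succ, pow_mul, pow_two, hsq _ w.2, one_pow, one_mul]
    rcases (IsSimpleGroup.eq_bot_or_eq_top_of_normal V.ker inferInstance) with hk | hk
    · exact hns (Group.isSolvable_of_isSolvable_injective ((MonoidHom.ker_eq_bot_iff V).1 hk))
    · exact hne (hV.symm.trans (MonoidHom.mem_ker.1 (hk ▸ Subgroup.mem_top (w : S))))
  let A' := A.subgroupOf (P : Subgroup S)
  have hout : ∀ o ∈ O, o ∉ A' := by
    intro o ho hoA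
    simp only [O, Set.Finite.mem_toFinset] at ho
    obtain ⟨n, rfl⟩ := ho
    exact hno n (Subgroup.mem_subgroupOf.1 hoA)
  have hparity : ∀ T : Finset ↥(P : Subgroup S), (∀ o ∈ T, o ∉ A') →
      ((∏ o ∈ T, o) ∈ A' ↔ Even T.card) := by
    intro T
    induction T using Finset.induction_on with
    | empty => simp
    | @insert a T ha ih =>
      intro hT
      rw [Finset.prod_insert ha, Subgroup.mul_mem_iff_of_index_two h,
        Finset.card_insert_of_notMem ha, Nat.even_add_one,
        ih fun o ho => hT o (Finset.mem_insert_of_mem ho)]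
      have := hT a (Finset.mem_insert_self a T)
      tauto
  exact Nat.not_even_iff_odd.2 hO ((hparity O hout).1 (show w ∈ A' by rw [hw1]; exact one_mem _))

theorem simple_case {S : Type*} [Group S] [Finite S] [IsSimpleGroup S]
    (h : ∀ x : S, ¬ 4 ∣ (Subgroup.centralizer ({x} : Set S)).index) : Group.IsSolvable S := by
  by_contra hns
  haveI : Fact (Nat.Prime 2) := ⟨Nat.prime_two⟩
  obtain ⟨P⟩ : Nonempty (Sylow 2 S) := inferInstance
  obtain ⟨z, hz, hz1, hmeet⟩ := exists_meets hns P
  have htop : Subgroup.centralizer ({z} : Set S) = ⊤ := by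
    refine CfsgLib.FGS.eq_top_of_forall_exists_conj fun x => ?_
    set C := Subgroup.centralizer ({x} : Set S) with hC
    obtain ⟨T⟩ : Nonempty (Sylow 2 ↥C) := inferInstance
    obtain ⟨R, hR⟩ := (T.isPGroup'.map C.subtype).exists_le_sylow
    obtain ⟨c, hc⟩ := MulAction.exists_smul_eq S P R
    let B := C.map (MulAut.conj c⁻¹).toMonoidHom
    have hTc : Nat.card ((T : Subgroup ↥C).map C.subtype) = 2 ^ (Nat.card C).factorization 2 := by
      rw [Subgroup.card_map_of_injective C.subtype_injective, T.card_eq_multiplicity]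
    have hTR : ((T : Subgroup ↥C).map C.subtype).map (MulAut.conj c⁻¹).toMonoidHom ≤
        B ⊓ (P : Subgroup S) := by
      rintro _ ⟨y, hy, rfl⟩
      refine Subgroup.mem_inf.2 ⟨⟨y, Subgroup.map_subtype_le _ hy, rfl⟩, ?_⟩
      have h1 : y ∈ (R : Subgroup S) := hR hy
      rw [← hc, Sylow.coe_subgroup_smul, Subgroup.mem_smul_pointwise_iff_exists] at h1
      obtain ⟨u, hu, rfl⟩ := h1
      show MulAut.conj c⁻¹ (MulAut.conj c u) ∈ (P : Subgroup S)
      rw [← MulAut.mul_apply, ← map_mul, inv_mul_cancel, map_one, MulAut.one_apply]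
      exact hu
    have hrel : (B ⊓ (P : Subgroup S)).relIndex P ≤ 2 := by
      have e1 : Nat.card (B ⊓ (P : Subgroup S) : Subgroup S) * (B ⊓ (P : Subgroup S)).relIndex P =
          Nat.card P := by
        rw [← Subgroup.relIndex_bot_left, ← Subgroup.relIndex_bot_left (P : Subgroup S)]
        exact Subgroup.relIndex_mul_relIndex ⊥ _ _ bot_le inf_le_right
      have e2 := Nat.le_of_dvd Nat.card_pos (Subgroup.card_dvd_of_le hTR)
      rw [Subgroup.card_map_of_injective (MulAut.conj c⁻¹).injective, hTc] at e2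
      rw [P.card_eq_multiplicity] at e1
      have e3 : (Nat.card S).factorization 2 ≤ (Nat.card C).factorization 2 + 1 := by
        rw [← C.card_mul_index, Nat.factorization_mul Nat.card_pos.ne' Subgroup.index_ne_zero_of_finite,
          Finsupp.add_apply]
        have : ¬ 2 ^ 2 ∣ C.index := h x
        rw [Nat.prime_two.pow_dvd_iff_le_factorization Subgroup.index_ne_zero_of_finite] at this
        omega
      have e4 : 2 ^ (Nat.card S).factorization 2 ≤ 2 * 2 ^ (Nat.card C).factorization 2 := by
        rw [← pow_succ']; exact Nat.pow_le_pow_right (by norm_num) e3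
      have : 0 < 2 ^ (Nat.card C).factorization 2 := by positivity
      nlinarith
    obtain ⟨g, hg⟩ := hmeet _ inf_le_right hrel
    obtain ⟨y, hy, hye⟩ := (Subgroup.mem_inf.1 hg).1
    refine ⟨(c * g)⁻¹, Subgroup.mem_centralizer_singleton_iff.2 ?_⟩
    have hy' := Subgroup.mem_centralizer_singleton_iff.1 hy
    have hzy : z = (c * g)⁻¹ * y * (c * g) := by
      have : c⁻¹ * y * c⁻¹⁻¹ = g * z * g⁻¹ := hye
      rw [inv_inv] at this
      calc z = g⁻¹ * (g * z * g⁻¹) * g := by group
        _ = g⁻¹ * (c⁻¹ * y * c) * g := by rw [this]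
        _ = _ := by group
    rw [hzy]
    calc (c * g)⁻¹ * x * ((c * g)⁻¹)⁻¹ * ((c * g)⁻¹ * y * (c * g))
        = (c * g)⁻¹ * (x * y) * (c * g) := by group
      _ = (c * g)⁻¹ * (y * x) * (c * g) := by rw [hy']
      _ = _ := by group
  have hzc : z ∈ Subgroup.center S := Subgroup.mem_center_iff.2 fun g =>
    Subgroup.mem_centralizer_singleton_iff.1 (htop ▸ Subgroup.mem_top g)
  rcases IsSimpleGroup.eq_bot_or_eq_top_of_normal (Subgroup.center S) inferInstance with hb | ht
  · exact hz1 (Subgroup.mem_bot.1 (hb ▸ hzc))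
  · exact hns (Group.isSolvable_of_comm fun a b =>
      (Subgroup.mem_center_iff.1 (ht ▸ Subgroup.mem_top b) a))

/-- Let G be a finite group in which no conjugacy class has size divisible by 4. Then G is solvable. -/
theorem result {G : Type*} [Group G] [Finite G]
    (h : ∀ x : G, ¬ 4 ∣ (Subgroup.centralizer ({x} : Set G)).index) : Group.IsSolvable G := by
  suffices H : ∀ n (G : Type _) [Group G] [Finite G], Nat.card G = n →
      (∀ x : G, ¬ 4 ∣ (Subgroup.centralizer ({x} : Set G)).index) → Group.IsSolvable G from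
    H _ G rfl h
  clear h
  intro n
  induction n using Nat.strong_induction_on with
  | _ n ih =>
    intro G _ _ hn h
    subst hn
    rcases subsingleton_or_nontrivial G with hs | hs
    · infer_instance
    by_cases hN : ∃ N : Subgroup G, N.Normal ∧ N ≠ ⊥ ∧ N ≠ ⊤
    · obtain ⟨N, hNn, hb, ht⟩ := hN
      haveI : Group.IsSolvable ↥N := ih _ (lt_of_le_of_ne (Subgroup.card_le_card_group N)
        fun e => ht (Subgroup.eq_top_of_card_eq N e)) ↥N rfl
        fun x h4 => h x (h4.trans (index_inf_dvd N x))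
      haveI : Group.IsSolvable (G ⧸ N) := by
        refine ih _ ?_ (G ⧸ N) rfl fun x h4 => ?_
        · rw [← Subgroup.index_eq_card]
          have h1 := N.card_mul_index
          have h2 : 1 < Nat.card N := Subgroup.one_lt_card_iff_ne_bot N |>.2 hb
          have h3 := Nat.pos_of_ne_zero (N.index_ne_zero_of_finite)
          rw [← h1]
          exact lt_mul_left h3 h2
        · obtain ⟨y, rfl⟩ := QuotientGroup.mk_surjective x
          exact h y (h4.trans (index_quot_dvd N y))
      exact Group.isSolvable_of_ker_le_range (G' := ↥N) (G'' := G ⧸ N) N.subtype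
        (QuotientGroup.mk' N) (by rw [QuotientGroup.ker_mk', Subgroup.range_subtype])
    · push Not at hN
      haveI : IsSimpleGroup G := ⟨fun N hNn => or_iff_not_imp_left.2 fun hb => hN N hNn hb⟩
      exact simple_case h

end Cfsg.Agent.S4167
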