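import Cfsg.Statements.S4034
import Cfsg.Agent.Lib.Char.Burnside
import Cfsg.Agent.Lib.Solvable.NilpotentHall
import Cfsg.Agent.Lib.Solvable.KegelWielandt
import Cfsg.Agent.Lib.Solvable.Hall
import Cfsg.Agent.Lib.Solvable.Fitting
import Cfsg.Agent.Lib.Cores.Fitting
import Cfsg.Agent.Lib.FGS.Class
import Cfsg.Agent.Lib.FGS.Basics

set_option autoImplicit false
open Cfsg

namespace Cfsg.Agent.S4034

open Subgroup
open scoped Pointwise

universe u

/-- Every `p`-regular class size is a power of `p`. -/
def PPowClasses (p : ℕ) (G : Type u) [Group G] : Prop :=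
  ∀ x : G, (orderOf x).Coprime p → ∃ k : ℕ, (centralizer ({x} : Set G)).index = p ^ k

theorem PPowClasses.subgroup {p : ℕ} (hp : p.Prime) {G : Type u} [Group G] [Finite G]
    (h : PPowClasses p G) (N : Subgroup G) [N.Normal] : PPowClasses p N := by
  intro x hx
  rw [← Subgroup.orderOf_coe] at hx
  obtain ⟨k, hk⟩ := h (x : G) hx
  set C := centralizer ({(x : G)} : Set G)
  have he : centralizer ({x} : Set N) = C.subgroupOf N := by
    ext y
    rw [mem_subgroupOf, mem_centralizer_singleton_iff, mem_centralizer_singleton_iff,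
      Subtype.ext_iff, coe_mul, coe_mul]
  have h1 : (centralizer ({x} : Set N)).index ∣ p ^ k := by
    rw [he, ← hk]
    show C.relIndex N ∣ C.index
    have h1 := relIndex_mul_index (inf_le_right : C ⊓ N ≤ N)
    have h2 := relIndex_mul_index (inf_le_left : C ⊓ N ≤ C)
    rw [inf_relIndex_right] at h1
    rw [inf_comm, inf_relIndex_right] at h2
    have h3 := relIndex_mul_index (le_sup_left : N ≤ N ⊔ C)
    rw [relIndex_sup_left] at h3
    rw [inf_comm, ← h2, ← h3, ← mul_assoc, mul_comm (C.relIndex N), mul_assoc] at h1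
    exact Dvd.intro _ (Nat.eq_of_mul_eq_mul_left
      (Nat.pos_of_ne_zero (index_ne_zero_of_finite (H := N.subgroupOf C))) h1)
  obtain ⟨j, -, hj⟩ := (Nat.dvd_prime_pow hp).1 h1
  exact ⟨j, hj⟩

theorem PPowClasses.quotient {p : ℕ} [hp : Fact p.Prime] {G : Type u} [Group G] [Finite G]
    (h : PPowClasses p G) (N : Subgroup G) [N.Normal] : PPowClasses p (G ⧸ N) := by
  intro y hy
  obtain ⟨x, rfl⟩ := QuotientGroup.mk'_surjective N y
  obtain ⟨a, b, ⟨k, hk⟩, hcop, hab, -⟩ := CfsgLib.FGS.exists_p_parts p x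
  have ha : QuotientGroup.mk' N (x ^ a) = 1 := by
    rw [← orderOf_eq_one_iff, ← Nat.dvd_one]
    have h1 : orderOf (QuotientGroup.mk' N (x ^ a)) ∣ p ^ k := hk ▸ orderOf_map_dvd _ _
    have h2 : orderOf (QuotientGroup.mk' N (x ^ a)) ∣ orderOf (QuotientGroup.mk' N x) := by
      rw [map_pow]; exact orderOf_pow_dvd a
    exact (Nat.Coprime.pow_right k hy).gcd_eq_one ▸ Nat.dvd_gcd h2 h1
  have hxb : QuotientGroup.mk' N x = QuotientGroup.mk' N (x ^ b) := by
    conv_lhs => rw [← hab]
    rw [map_mul, ha, one_mul]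
  obtain ⟨j, hj⟩ := h (x ^ b) hcop
  set C := centralizer ({x ^ b} : Set G)
  have hle : C.map (QuotientGroup.mk' N) ≤ centralizer ({QuotientGroup.mk' N x} : Set (G ⧸ N)) := by
    rintro _ ⟨c, hc, rfl⟩
    rw [mem_centralizer_singleton_iff, hxb, ← map_mul, ← map_mul, mem_centralizer_singleton_iff.1 hc]
  have h1 : (centralizer ({QuotientGroup.mk' N x} : Set (G ⧸ N))).index ∣ p ^ j :=
    hj ▸ (index_dvd_of_le hle).trans (index_map_dvd _ (QuotientGroup.mk'_surjective N))
  obtain ⟨i, -, hi⟩ := (Nat.dvd_prime_pow hp.out).1 h1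
  exact ⟨i, hi⟩

theorem isSolvable_of_pPowClasses : ∀ (n : ℕ) (p : ℕ) (G : Type u) [Group G] [Finite G],
    Fact p.Prime → Nat.card G = n → PPowClasses p G → Group.IsSolvable G := by
  intro n
  induction n using Nat.strong_induction_on with
  | _ n ih =>
    intro p G _ _ hp hn h
    classical
    rcases subsingleton_or_nontrivial G with hs | hnt
    · infer_instance
    by_cases hN : ∃ N : Subgroup G, N.Normal ∧ N ≠ ⊥ ∧ N ≠ ⊤
    · obtain ⟨N, hNn, hN1, hN2⟩ := hN
      have := hNn
      have h1 := N.card_mul_index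
      have hN1' := (one_lt_card_iff_ne_bot N).2 hN1
      have hN2' : 1 < N.index :=
        lt_of_le_of_ne (Nat.pos_of_ne_zero index_ne_zero_of_finite)
          (fun e => hN2 (index_eq_one.1 e.symm))
      have hlt1 : Nat.card N < n := hn ▸ h1 ▸ lt_mul_right Nat.card_pos hN2'
      have hlt2 : N.index < n := hn ▸ h1 ▸ lt_mul_left (Nat.zero_lt_of_lt hN2') hN1'
      have := ih _ hlt1 p N hp rfl (h.subgroup hp.out N)
      have := ih _ hlt2 p (G ⧸ N) hp N.index_eq_card.symm (h.quotient N)
      exact Group.isSolvable_of_ker_le_range N.subtype (QuotientGroup.mk' N) (by simp)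
    push Not at hN
    haveI : IsSimpleGroup G := ⟨fun N hNn => or_iff_not_imp_left.2 (hN N hNn)⟩
    by_cases hp' : ∀ q : ℕ, q.Prime → q ∣ Nat.card G → q = p
    · have hG : IsPGroup p G := IsPGroup.of_card (n := (Nat.card G).primeFactorsList.length)
        (Nat.eq_prime_pow_of_unique_prime_dvd Nat.card_pos.ne' fun {d} hd hd' => hp' d hd hd')
      have := hG.isNilpotent
      infer_instance
    · push Not at hp'
      obtain ⟨q, hq, hqG, hqp⟩ := hp'
      have := Fact.mk hq
      obtain ⟨x, hx⟩ := exists_prime_orderOf_dvd_card' (G := G) q hqG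
      have hx1 : x ≠ 1 := fun e => hq.ne_one (by rw [← hx, e, orderOf_one])
      obtain ⟨k, hk⟩ := h x (by rw [hx]; exact (Nat.coprime_primes hq hp.out).2 hqp)
      letI := Fintype.ofFinite G
      have hpr : (Nat.card G).Prime := CfsgLib.Char.prime_card_of_class_primePow p k hp.out x hx1 hk
      have := Fact.mk hpr
      have : IsCyclic G := isCyclic_of_prime_card (p := Nat.card G) rfl
      letI : CommGroup G := IsCyclic.commGroup
      infer_instance

/-- The `p`-complement is abelian when `O_p` is trivial. -/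
theorem exists_abelian_of_pCore_eq_bot {p : ℕ} [hp : Fact p.Prime] {G : Type u} [Group G] [Finite G]
    [Group.IsSolvable G] (h : PPowClasses p G) (hcore : pCore p G = ⊥) (H : Subgroup G)
    (hH : ¬ p ∣ Nat.card H) (hHi : ∃ k : ℕ, H.index = p ^ k) : IsMulCommutative H := by
  classical
  set F := fittingSubgroup G with hF
  have hFn : F.Normal := by rw [hF, CfsgLib.Cores.fittingSubgroup_eq_iSup_pCore]; infer_instance
  have := hFn
  have hFp : ¬ p ∣ Nat.card F := by
    intro hd
    have := CfsgLib.Cores.isNilpotent_fittingSubgroup (G := G)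
    obtain ⟨P⟩ : Nonempty (Sylow p F) := inferInstance
    have hchar : (P : Subgroup F).Characteristic := P.characteristic_of_normal inferInstance
    have hn : ((P : Subgroup F).map F.subtype).Normal := ConjAct.normal_of_characteristic_of_normal
    have hle := CfsgLib.Cores.le_pCore (P.isPGroup'.map F.subtype)
    rw [hcore, le_bot_iff, map_eq_bot_iff_of_injective _ F.subtype_injective] at hle
    exact P.ne_bot_of_dvd_card hd hle
  obtain ⟨k, hk⟩ := hHi
  -- every `p`-regular element centralises `F`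
  have key : ∀ y : G, (orderOf y).Coprime p → y ∈ centralizer (F : Set G) := by
    intro y hy
    obtain ⟨j, hj⟩ := h y hy
    set C := centralizer ({y} : Set G) with hC
    have hGH := H.card_mul_index
    have hGC := C.card_mul_index
    rw [hk] at hGH
    rw [hj] at hGC
    have hdvd : Nat.card H ∣ Nat.card C := by
      refine Nat.Coprime.dvd_of_dvd_mul_right (n := p ^ j) (Nat.Coprime.pow_right j ?_) ?_
      · exact Nat.coprime_comm.1 (hp.out.coprime_iff_not_dvd.2 hH)
      · rw [hGC, ← hGH]; exact Dvd.intro _ rfl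
    obtain ⟨L, hL⟩ := CfsgLib.Solvable.exists_hall (G := C) (m := Nat.card H) (n := Nat.card C / Nat.card H)
      (Nat.mul_div_cancel' hdvd).symm (by
        refine Nat.coprime_of_dvd fun r hr hrH hrq => ?_
        have hrp : r ≠ p := fun e => hH (e ▸ hrH)
        have h2 : r * Nat.card H ∣ Nat.card C := by
          have := Nat.mul_dvd_mul_right hrq (Nat.card H)
          rwa [mul_comm (Nat.card C / Nat.card H), Nat.mul_div_cancel' hdvd] at this
        have h3 : r * Nat.card H ∣ p ^ k * Nat.card H := by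
          rw [mul_comm (p ^ k), hGH, ← hGC]; exact h2.mul_right _
        have h4 : r ∣ p := hr.dvd_of_dvd_pow (Nat.dvd_of_mul_dvd_mul_right Nat.card_pos h3)
        exact hrp ((Nat.prime_dvd_prime_iff_eq hr hp.out).1 h4))
    set L' := L.map C.subtype with hL'
    have hL'card : Nat.card L' = Nat.card H := by rw [hL', card_map_of_injective C.subtype_injective, hL]
    have hLC : L' ≤ C := map_subtype_le _
    -- `F` and `y` are contained in `L'`
    have habs : ∀ K : Subgroup G, ¬ p ∣ Nat.card K → L' ≤ K → K = L' := by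
      intro K hKp hLK
      refine (eq_of_le_of_card_ge hLK ?_).symm
      have h1 : Nat.card K ∣ Nat.card H * p ^ k := hGH.symm ▸ K.card_subgroup_dvd_card
      rw [hL'card]
      exact Nat.le_of_dvd Nat.card_pos (Nat.Coprime.dvd_of_dvd_mul_right
        (Nat.Coprime.pow_right k (Nat.coprime_comm.1 (hp.out.coprime_iff_not_dvd.2 hKp))) h1)
    have hFL : F ≤ L' := by
      have hprod : Nat.card (F ⊔ L' : Subgroup G) ∣ Nat.card F * Nat.card L' := by
        have h1 := (F.subgroupOf (F ⊔ L')).card_mul_index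
        rw [Nat.card_congr (subgroupOfEquivOfLe (le_sup_left : F ≤ F ⊔ L')).toEquiv] at h1
        rw [← h1]
        refine Nat.mul_dvd_mul_left _ ?_
        show F.relIndex (F ⊔ L') ∣ _
        rw [sup_comm, relIndex_sup_right]
        exact relIndex_dvd_card F L'
      have hnd : ¬ p ∣ Nat.card (F ⊔ L' : Subgroup G) := fun hd => by
        rcases hp.out.dvd_mul.1 (hd.trans hprod) with h' | h'
        · exact hFp h'
        · exact hH (hL'card ▸ h')
      exact (le_sup_left : F ≤ F ⊔ L').trans_eq (habs _ hnd le_sup_right)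
    rw [mem_centralizer_iff]
    intro f hf
    exact mem_centralizer_singleton_iff.1 (hLC (hFL hf))
  have hle : H ≤ F := fun x hx =>
    CfsgLib.Solvable.centralizer_fittingSubgroup_le (key x (Nat.Coprime.coprime_dvd_left
      (H.orderOf_dvd_natCard hx) (Nat.coprime_comm.1 (hp.out.coprime_iff_not_dvd.2 hH))))
  refine ⟨⟨fun a b => Subtype.ext ?_⟩⟩
  have hb : (b : G) ∈ centralizer (F : Set G) := key b (Nat.Coprime.coprime_dvd_left
      (H.orderOf_dvd_natCard b.2) (Nat.coprime_comm.1 (hp.out.coprime_iff_not_dvd.2 hH)))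
  exact mem_centralizer_iff.1 hb a (hle a.2)

/-- Let G be a finite group and p a prime. Every conjugacy class of p-regular elements of G (elements of order prime to p) has p-power size if and only if G has an abelian p-complement, i.e. an abelian subgroup of order prime to p and p-power index. -/
theorem result {G : Type*} [Group G] [Finite G] {p : ℕ} (hp : p.Prime) :
    (∀ x : G, (orderOf x).Coprime p → ∃ k : ℕ, (ConjClasses.mk x).carrier.ncard = p ^ k) ↔
    (∃ H : Subgroup G, IsMulCommutative H ∧ ¬ p ∣ Nat.card H ∧ ∃ k : ℕ, H.index = p ^ k) := by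
  classical
  have := Fact.mk hp
  constructor
  · intro h
    have h' : PPowClasses p G := fun x hx => by
      obtain ⟨k, hk⟩ := h x hx
      exact ⟨k, (CfsgLib.FGS.ncard_carrier_mk x).symm.trans hk⟩
    have := isSolvable_of_pPowClasses _ p G inferInstance rfl h'
    obtain ⟨k, r, hr, hk⟩ := Nat.exists_eq_pow_mul_and_not_dvd (Nat.card_pos (α := G)).ne' p hp.ne_one
    obtain ⟨H, hH⟩ := CfsgLib.Solvable.exists_hall (G := G) (m := r) (n := p ^ k)
      (hk.trans (mul_comm _ _)) (Nat.Coprime.pow_right k (Nat.coprime_comm.1 (hp.coprime_iff_not_dvd.2 hr)))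
    have hidx : H.index = p ^ k := by
      have h1 := H.card_mul_index
      rw [hH, hk, mul_comm (p ^ k)] at h1
      exact Nat.eq_of_mul_eq_mul_left (Nat.pos_of_ne_zero fun e => hr (by rw [e]; exact dvd_zero p)) h1
    refine ⟨H, ?_, hH ▸ hr, k, hidx⟩
    set O := Cfsg.pCore p G with hO
    have hOp : IsPGroup p O := CfsgLib.Cores.isPGroup_pCore p
    set π := QuotientGroup.mk' O
    have hinj : Function.Injective (π.comp H.subtype) := by
      refine (MonoidHom.ker_eq_bot_iff _).1 (eq_bot_iff.2 fun x hx => ?_)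
      have hxO : (x : G) ∈ O := (QuotientGroup.eq_one_iff _).1 hx
      obtain ⟨j, hj⟩ := IsPGroup.iff_orderOf.1 hOp ⟨x, hxO⟩
      rw [orderOf_mk] at hj
      rw [mem_bot, ← orderOf_eq_one_iff, ← orderOf_coe, ← Nat.dvd_one]
      have h1 := Nat.dvd_gcd (H.orderOf_dvd_natCard x.2) (hj ▸ dvd_rfl : orderOf (x : G) ∣ p ^ j)
      rwa [(Nat.Coprime.pow_right j (Nat.coprime_comm.1 (hp.coprime_iff_not_dvd.2 (hH ▸ hr)))).gcd_eq_one] at h1
    have hrange : (π.comp H.subtype).range = H.map π := by
      rw [MonoidHom.range_comp, H.range_subtype]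
    have hHb : ¬ p ∣ Nat.card (H.map π) := fun hd => hr (hH ▸ hd.trans (card_map_dvd _ _))
    have hib : ∃ j : ℕ, (H.map π).index = p ^ j := by
      obtain ⟨j, -, hj⟩ := (Nat.dvd_prime_pow hp).1 (hidx ▸ index_map_dvd H (QuotientGroup.mk'_surjective O))
      exact ⟨j, hj⟩
    have hab := exists_abelian_of_pCore_eq_bot (h'.quotient O) (CfsgLib.Cores.pCore_quotient_self p)
      (H.map π) hHb hib
    refine ⟨⟨fun a b => hinj ?_⟩⟩
    rw [map_mul, map_mul]
    exact congrArg Subtype.val
      (hab.1.1 ⟨_, mem_map_of_mem π a.2⟩ ⟨_, mem_map_of_mem π b.2⟩)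
  · rintro ⟨H, hab, hH, k, hk⟩ x hx
    obtain ⟨P⟩ : Nonempty (Sylow p G) := inferInstance
    have hHn : Group.IsNilpotent H := by
      letI : CommGroup H := { (inferInstance : Group H) with mul_comm := hab.1.1 }
      infer_instance
    have hcopH : (Nat.card H).Coprime H.index := by
      rw [hk]
      exact Nat.Coprime.pow_right k (Nat.coprime_comm.1 (hp.coprime_iff_not_dvd.2 hH))
    obtain ⟨c, hc⟩ := CfsgLib.Solvable.nilpotent_hall_dominates hHn hcopH (K := zpowers x)
      fun q hq hd => by
        rw [Nat.card_zpowers] at hd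
        have hqG : q ∣ Nat.card H * p ^ k := by
          rw [← hk, H.card_mul_index]; exact hd.trans (orderOf_dvd_natCard x)
        rcases hq.dvd_mul.1 hqG with h' | h'
        · exact h'
        · exfalso
          have := (Nat.prime_dvd_prime_iff_eq hq hp).1 (hq.dvd_of_dvd_pow h')
          exact hp.ne_one (Nat.eq_one_of_dvd_coprimes hx (this ▸ hd) dvd_rfl)
    have hle : MulAut.conj c • H ≤ centralizer ({x} : Set G) := by
      intro y hy
      rw [mem_centralizer_singleton_iff]
      have hx' := CfsgLib.FGS.mem_conj_smul.1 (hc (mem_zpowers x))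
      have hy' := CfsgLib.FGS.mem_conj_smul.1 hy
      have := congrArg Subtype.val (hab.1.1 ⟨_, hy'⟩ ⟨_, hx'⟩)
      simp only [coe_mul] at this
      calc y * x = c * ((c⁻¹ * y * c) * (c⁻¹ * x * c)) * c⁻¹ := by group
        _ = _ := by rw [this]; group
    have h1 := index_dvd_of_le hle
    rw [CfsgLib.Solvable.index_conj_smul, hk] at h1
    obtain ⟨j, -, hj⟩ := (Nat.dvd_prime_pow hp).1 h1
    exact ⟨j, (CfsgLib.FGS.ncard_carrier_mk x).trans hj⟩

end Cfsg.Agent.S4034
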