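import Cfsg.Statements.S4355
import Cfsg.Agent.Lib.Fusion.CentralElementsGroup

set_option autoImplicit false
open Cfsg

namespace Cfsg.Agent.S4355

/-- If every element of 2-power order of a finite group has a conjugacy class of odd size, then the Sylow 2-subgroups of the group are abelian. -/
theorem result {G : Type*} [Group G] [Finite G]
    (h : ∀ x : G, (∃ k : ℕ, orderOf x = 2 ^ k) → ¬ 2 ∣ (Subgroup.centralizer ({x} : Set G)).index) (P : Sylow 2 G) :
    IsMulCommutative P := by
  haveI : Fact (Nat.Prime 2) := ⟨Nat.prime_two⟩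
  refine CfsgLib.Fusion.CentralElements.sylow_two_abelian P fun x hx => ?_
  obtain ⟨k, hk⟩ := IsPGroup.iff_orderOf.1 P.2 ⟨x, hx⟩
  have hi := h x ⟨k, by rw [← hk, ← Subgroup.orderOf_coe]⟩
  obtain ⟨R⟩ : Nonempty (Sylow 2 (Subgroup.centralizer ({x} : Set G))) := inferInstance
  have hR : IsPGroup 2 ((R : Subgroup _).map (Subgroup.centralizer ({x} : Set G)).subtype) := R.2.map _
  refine ⟨hR.toSylow ?_, ?_⟩
  · rw [← Subgroup.relIndex_mul_index (Subgroup.map_subtype_le _), Nat.prime_two.dvd_mul,
      Subgroup.relIndex, Subgroup.subgroupOf,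
      Subgroup.comap_map_eq_self_of_injective (Subgroup.subtype_injective _)]
    exact not_or.2 ⟨R.not_dvd_index, hi⟩
  · rw [IsPGroup.toSylow_coe]
    exact Subgroup.map_subtype_le _

end Cfsg.Agent.S4355
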