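import Cfsg.Statements.S4035
import Cfsg.Agent.Lib.FGS.Covering
import Cfsg.Agent.Lib.FGS.Class
import Mathlib.GroupTheory.SchurZassenhaus

set_option autoImplicit false
open Cfsg

namespace Cfsg.Agent.S4035

/-- A normal Sylow subgroup centralised by all elements of order prime to `p` is a direct factor. -/
theorem direct_factor {G : Type*} [Group G] [Finite G] {p : ℕ} [Fact p.Prime] (P : Sylow p G)
    (hPn : (P : Subgroup G).Normal)
    (hc : ∀ x : G, (orderOf x).Coprime p → x ∈ Subgroup.centralizer ((P : Subgroup G) : Set G)) :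
    ∃ K : Subgroup G, K.Normal ∧ ¬ p ∣ Nat.card K ∧ (P : Subgroup G) ⊓ K = ⊥ ∧
      (P : Subgroup G) ⊔ K = ⊤ := by
  obtain ⟨K, hK⟩ := Subgroup.exists_right_complement'_of_coprime (P.card_coprime_index)
  have hp : ¬ p ∣ Nat.card K := hK.symm.index_eq_card ▸ P.not_dvd_index
  refine ⟨K, ?_, hp, hK.disjoint.eq_bot, hK.sup_eq_top⟩
  constructor
  intro k hk g
  obtain ⟨⟨⟨a, ha⟩, ⟨b, hb⟩⟩, hab⟩ := hK.surjective g
  have hab' : a * b = g := hab
  have hm : b * k * b⁻¹ ∈ K := mul_mem (mul_mem hb hk) (inv_mem hb)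
  have hord : (orderOf (b * k * b⁻¹)).Coprime p :=
    ((Nat.Prime.coprime_iff_not_dvd Fact.out).2 hp).symm.coprime_dvd_left
      (Subgroup.orderOf_dvd_natCard K hm)
  have hcomm := Subgroup.mem_centralizer_iff.1 (hc _ hord) a ha
  have e : g * k * g⁻¹ = b * k * b⁻¹ := by
    calc g * k * g⁻¹ = a * (b * k * b⁻¹) * a⁻¹ := by rw [← hab']; group
      _ = b * k * b⁻¹ := by rw [hcomm]; group
  rw [e]
  exact hm


/-- Let G be a finite group and p a prime such that p divides the size of no conjugacy class of p-regular elements (elements of order prime to p). Then G is the internal direct product of a Sylow p-subgroup P and a normal subgroup H of order prime to p: P is normal, P ⊓ H = 1 and PH = G. -/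
theorem result {G : Type*} [Group G] [Finite G] {p : ℕ} [Fact p.Prime]
    (h : ∀ x : G, (orderOf x).Coprime p → ¬ p ∣ (ConjClasses.mk x).carrier.ncard) (P : Sylow p G) :
    (P : Subgroup G).Normal ∧ ∃ H : Subgroup G, H.Normal ∧ ¬ p ∣ Nat.card H ∧
      (P : Subgroup G) ⊓ H = ⊥ ∧ (P : Subgroup G) ⊔ H = ⊤ := by
  classical
  have hp : p.Prime := Fact.out
  set C := Subgroup.centralizer ((P : Subgroup G) : Set G)
  set M := (P : Subgroup G) ⊔ C
  have hcover : M = ⊤ := by
    refine CfsgLib.FGS.eq_top_of_forall_exists_conj fun g => ?_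
    obtain ⟨a, b, ⟨k, hk⟩, hcop, hab, -⟩ := CfsgLib.FGS.exists_p_parts p g
    have hni : ¬ p ∣ (Subgroup.centralizer ({g ^ b} : Set G)).index := by
      rw [← CfsgLib.FGS.ncard_carrier_mk]; exact h _ hcop
    set D := Subgroup.centralizer ({g ^ b} : Set G)
    have huD : g ^ a ∈ D := Subgroup.mem_centralizer_singleton_iff.2 ((Commute.refl g).pow_pow a b)
    obtain ⟨S, hS⟩ := (CfsgLib.FGS.isPGroup_zpowers (u := (⟨g ^ a, huD⟩ : D))
      (by rw [Subgroup.orderOf_mk]; exact hk)).exists_le_sylow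
    -- `S` is a full Sylow subgroup of `G`
    let T := (S : Subgroup D).map D.subtype
    have hT : Nat.card T = Nat.card (P : Subgroup G) := by
      rw [Subgroup.card_map_of_injective D.subtype_injective, S.card_eq_multiplicity,
        P.card_eq_multiplicity, ← D.index_mul_card,
        Nat.factorization_mul Subgroup.index_ne_zero_of_finite Nat.card_pos.ne']
      simp [Nat.factorization_eq_zero_of_not_dvd hni]
    obtain ⟨c, hc⟩ := MulAction.exists_smul_eq G (Sylow.ofCard T (by rw [hT, P.card_eq_multiplicity])) P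
    refine ⟨c, ?_⟩
    have hmem : ∀ z ∈ T, c * z * c⁻¹ ∈ (P : Subgroup G) := fun z hz => by
      rw [← hc, Sylow.coe_subgroup_smul, CfsgLib.FGS.mem_conj_smul]
      simpa [mul_assoc] using hz
    rw [← hab, show c * (g ^ a * g ^ b) * c⁻¹ = (c * g ^ a * c⁻¹) * (c * g ^ b * c⁻¹) by group]
    refine mul_mem (Subgroup.mem_sup_left (hmem _ ⟨_, hS (Subgroup.mem_zpowers _), rfl⟩))
      (Subgroup.mem_sup_right ?_)
    rw [Subgroup.mem_centralizer_iff]
    intro z hz
    have hzT : c⁻¹ * z * c ∈ T := by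
      have hz' : z ∈ ((c • Sylow.ofCard T (by rw [hT, P.card_eq_multiplicity]) : Sylow p G) : Subgroup G) := by
        rw [hc]; exact hz
      rw [Sylow.coe_subgroup_smul, CfsgLib.FGS.mem_conj_smul] at hz'
      exact hz'
    obtain ⟨w, -, hw⟩ := hzT
    have hwD := Subgroup.mem_centralizer_singleton_iff.1 w.2
    calc z * (c * g ^ b * c⁻¹) = c * ((c⁻¹ * z * c) * g ^ b) * c⁻¹ := by group
      _ = c * (g ^ b * (c⁻¹ * z * c)) * c⁻¹ := by rw [← hw]; exact congrArg (fun t => c * t * c⁻¹) hwD
      _ = c * g ^ b * c⁻¹ * z := by group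
  have hMN : M ≤ Subgroup.normalizer ((P : Subgroup G) : Set G) :=
    sup_le Subgroup.le_normalizer (Subgroup.centralizer_le_normalizer _)
  rw [hcover, top_le_iff] at hMN
  have hPn : (P : Subgroup G).Normal := Subgroup.normalizer_eq_top_iff.1 hMN
  haveI hCn : C.Normal := by
    constructor
    intro z hz g
    rw [Subgroup.mem_centralizer_iff] at hz ⊢
    intro u hu
    have := hz _ (show g⁻¹ * u * g ∈ (P : Subgroup G) by simpa using hPn.conj_mem u hu g⁻¹)
    calc u * (g * z * g⁻¹) = g * ((g⁻¹ * u * g) * z) * g⁻¹ := by group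
      _ = g * z * g⁻¹ * u := by rw [this]; group
  have hc : ∀ x : G, (orderOf x).Coprime p → x ∈ C := by
    intro x hx
    rw [← QuotientGroup.eq_one_iff, ← orderOf_eq_one_iff]
    have hdvd : Nat.card (G ⧸ C) ∣ Nat.card (P : Subgroup G) := by
      refine Subgroup.card_dvd_of_surjective ((QuotientGroup.mk' C).comp (P : Subgroup G).subtype) ?_
      intro z
      induction z using QuotientGroup.induction_on with
      | _ z =>
        have hz : z ∈ M := hcover ▸ Subgroup.mem_top z
        rw [Subgroup.mem_sup_of_normal_right] at hz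
        obtain ⟨u, hu, v, hv, rfl⟩ := hz
        exact ⟨⟨u, hu⟩, by simpa using hv⟩
    obtain ⟨n, hn⟩ := P.isPGroup'.exists_card_eq
    exact Nat.eq_one_of_dvd_coprimes (hx.pow_right n) (orderOf_map_dvd (QuotientGroup.mk' C) x)
      (hn ▸ (orderOf_dvd_natCard _).trans hdvd)
  exact ⟨hPn, direct_factor P hPn hc⟩

end Cfsg.Agent.S4035
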