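import Cfsg.Statements.S4127
import Cfsg.Agent.Lib.FGS.SylowFactor
import Cfsg.Agent.Lib.Cores.Coprime

set_option autoImplicit false
open Cfsg

namespace Cfsg.Agent.S4127

/-- Let G be a finite group, p a prime and p^a the largest power of p dividing the size of any conjugacy class of G. If some element of p-power order has a conjugacy class of size exactly p^a, then G has a normal p-complement. -/
theorem result {G : Type*} [Group G] [Finite G] (p : ℕ) [Fact p.Prime]
    (a : ℕ) (hmax : ∀ y : G, ¬ p ^ (a + 1) ∣ (Subgroup.centralizer ({y} : Set G)).index)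
    (hx : ∃ x : G, (∃ k : ℕ, orderOf x = p ^ k) ∧ (Subgroup.centralizer ({x} : Set G)).index = p ^ a) :
    Cfsg.HasNormalPComplement p G := by
  classical
  obtain ⟨x, ⟨k, hk⟩, hxa⟩ := hx
  have hp : p.Prime := Fact.out
  set C := Subgroup.centralizer ({x} : Set G) with hC
  obtain ⟨P0⟩ : Nonempty (Sylow p C) := inferInstance
  have hxC : x ∈ C := Subgroup.mem_centralizer_singleton_iff.2 rfl
  -- central p-elements lie in every Sylow subgroup
  have hxP0 : (⟨x, hxC⟩ : C) ∈ (P0 : Subgroup C) := by
    refine CfsgLib.FGS.mem_of_mem_normalizer P0 ⟨k, (Subgroup.orderOf_coe _).symm.trans hk⟩ ?_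
    refine Subgroup.centralizer_le_normalizer _ (Subgroup.mem_centralizer_iff.2 fun s _ => ?_)
    exact Subtype.ext (Subgroup.mem_centralizer_singleton_iff.1 s.2)
  -- every p'-element of C centralises a Sylow subgroup of C
  have hloc : ∀ y : C, (orderOf y).Coprime p →
      ∃ R : Sylow p C, ∀ s ∈ (R : Subgroup C), s * y = y * s := by
    intro y hy
    set D := Subgroup.centralizer ({x * (y : G)} : Set G) with hD
    have hxy : x * (y : G) = (y : G) * x := (Subgroup.mem_centralizer_singleton_iff.1 y.2).symm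
    have hcop : (orderOf x).Coprime (orderOf (y : G)) := by
      rw [hk, Subgroup.orderOf_coe]
      exact Nat.Coprime.pow_left _ hy.symm
    have hord := (show Commute x (y : G) from hxy).orderOf_mul_eq_mul_orderOf_of_coprime hcop
    have hDg : ∀ g ∈ D, g * x = x * g ∧ g * (y : G) = (y : G) * g := by
      intro g hg
      have hcg : Commute g (x * (y : G)) := Subgroup.mem_centralizer_singleton_iff.1 hg
      obtain ⟨r, hr⟩ := exists_pow_eq_self_of_coprime
        (show (orderOf (y : G)).Coprime (orderOf x) from hcop.symm)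
      have hx' : ((x * (y : G)) ^ orderOf (y : G)) ^ r = x := by
        rw [(show Commute x (y : G) from hxy).mul_pow, pow_orderOf_eq_one, mul_one, hr]
      have h1 : Commute g x := hx' ▸ (hcg.pow_right _).pow_right _
      refine ⟨h1, ?_⟩
      have h2 : Commute g (x⁻¹ * (x * (y : G))) := h1.inv_right.mul_right hcg
      rwa [inv_mul_cancel_left] at h2
    have hDC : D ≤ C := fun g hg => Subgroup.mem_centralizer_singleton_iff.2 (hDg g hg).1
    have hndvd : ¬ p ∣ (D.subgroupOf C).index := by
      intro hd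
      refine hmax (x * (y : G)) ?_
      rw [← hD, ← Subgroup.relIndex_mul_index hDC, hxa, pow_succ, mul_comm (p ^ a) p]
      exact Nat.mul_dvd_mul hd dvd_rfl
    obtain ⟨R⟩ : Nonempty (Sylow p (D.subgroupOf C)) := inferInstance
    have hRp : IsPGroup p ((R : Subgroup (D.subgroupOf C)).map (D.subgroupOf C).subtype) :=
      R.isPGroup'.map _
    obtain ⟨S, hS⟩ := hRp.exists_le_sylow
    have hcard : Nat.card (S : Subgroup C) ≤
        Nat.card ((R : Subgroup (D.subgroupOf C)).map (D.subgroupOf C).subtype) := by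
      rw [Subgroup.card_map_of_injective (Subgroup.subtype_injective _), Sylow.card_eq_multiplicity,
        Sylow.card_eq_multiplicity]
      refine Nat.pow_le_pow_right hp.pos (le_of_eq ?_)
      rw [← (D.subgroupOf C).card_mul_index, Nat.factorization_mul Nat.card_pos.ne'
        Subgroup.index_ne_zero_of_finite, Finsupp.add_apply,
        Nat.factorization_eq_zero_of_not_dvd hndvd, add_zero]
    have hSeq := Subgroup.eq_of_le_of_card_ge hS hcard
    refine ⟨S, fun s hs => ?_⟩
    rw [← hSeq, Subgroup.mem_map] at hs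
    obtain ⟨d, -, rfl⟩ := hs
    exact Subtype.ext (hDg _ (Subgroup.mem_subgroupOf.1 d.2)).2
  obtain ⟨W, hWcard, hWmem, hWP⟩ :=
    CfsgLib.FGS.exists_normal_complement_of_pPrime_centralizes_sylow P0 hloc
  -- the normal closure of x is a p-group
  obtain ⟨S, hS⟩ := (P0.isPGroup'.map C.subtype).exists_le_sylow
  have hxS : x ∈ (S : Subgroup G) := hS ⟨_, hxP0, rfl⟩
  have hfG : (Nat.card G).factorization p = (Nat.card C).factorization p + a := by
    rw [← C.card_mul_index, hxa, Nat.factorization_mul Nat.card_pos.ne' (pow_ne_zero _ hp.ne_zero),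
      Finsupp.add_apply, hp.factorization_pow, Finsupp.single_eq_same]
  have hconj : ∀ g : G, g * x * g⁻¹ ∈ (S : Subgroup G) := by
    let f : ((S : Subgroup G) ⧸ C.subgroupOf (S : Subgroup G)) → G ⧸ C :=
      Quotient.lift (fun s : (S : Subgroup G) => ((s : G) : G ⧸ C)) fun s t hst => by
        refine QuotientGroup.eq.2 ?_
        simpa [Subgroup.mem_subgroupOf] using QuotientGroup.leftRel_apply.1 hst
    have hinj : Function.Injective f := by
      intro u v
      refine QuotientGroup.induction_on u (fun s => QuotientGroup.induction_on v (fun t h => ?_))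
      refine QuotientGroup.eq.2 (Subgroup.mem_subgroupOf.2 ?_)
      simpa using QuotientGroup.eq.1 h
    have hge : Nat.card (G ⧸ C) ≤ Nat.card ((S : Subgroup G) ⧸ C.subgroupOf (S : Subgroup G)) := by
      rw [← Subgroup.index_eq_card, ← Subgroup.index_eq_card, hxa]
      have h1 := (C.subgroupOf (S : Subgroup G)).card_mul_index
      rw [Sylow.card_eq_multiplicity, hfG, pow_add] at h1
      have hp' : IsPGroup p (((S : Subgroup G) ⊓ C : Subgroup G).subgroupOf C) :=
        (S.isPGroup'.to_le inf_le_left).of_equiv (Subgroup.subgroupOfEquivOfLe inf_le_right).symm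
      obtain ⟨T, hT⟩ := hp'.exists_le_sylow
      have h2 : Nat.card (C.subgroupOf (S : Subgroup G)) ≤ p ^ (Nat.card C).factorization p := by
        rw [← Sylow.card_eq_multiplicity T]
        refine le_trans (le_of_eq ?_) (Nat.card_le_card_of_injective _ (Subgroup.inclusion_injective hT))
        rw [← Subgroup.inf_subgroupOf_left C (S : Subgroup G),
          Nat.card_congr (Subgroup.subgroupOfEquivOfLe inf_le_left).toEquiv,
          Nat.card_congr (Subgroup.subgroupOfEquivOfLe inf_le_right).toEquiv]
      exact Nat.le_of_mul_le_mul_left (h1.ge.trans (Nat.mul_le_mul_right _ h2))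
        (pow_pos hp.pos _)
    intro g
    obtain ⟨u, hu⟩ := (hinj.bijective_of_nat_card_le hge).2 (g : G ⧸ C)
    induction u using QuotientGroup.induction_on with
    | H s =>
      have h1 : (s : G)⁻¹ * g ∈ C := QuotientGroup.eq.1 hu
      have h2 := Subgroup.mem_centralizer_singleton_iff.1 h1
      have h3 : g * x * g⁻¹ = (s : G) * x * (s : G)⁻¹ := by
        calc g * x * g⁻¹ = (s : G) * (((s : G)⁻¹ * g) * x) * g⁻¹ := by group
          _ = _ := by rw [h2]; group
      rw [h3]
      exact mul_mem (mul_mem s.2 hxS) (inv_mem s.2)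
  set K := Subgroup.normalClosure ({x} : Set G) with hK
  have hKS : K ≤ (S : Subgroup G) := by
    rw [hK, Subgroup.normalClosure, Subgroup.closure_le]
    intro y hy
    obtain ⟨z, hz, hzy⟩ := Group.mem_conjugatesOfSet_iff.1 hy
    rw [Set.mem_singleton_iff] at hz
    obtain ⟨c, hc⟩ := isConj_iff.1 (hz ▸ hzy)
    exact hc ▸ hconj c
  have hKp : IsPGroup p K := S.isPGroup'.to_le hKS
  have hxK : x ∈ K := Subgroup.subset_normalClosure rfl
  -- W centralises K
  have hWK : ∀ w ∈ W, ∀ q ∈ K, Commute ((w : C) : G) q := by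
    intro w hw
    refine CfsgLib.Cores.axb (P := Subgroup.zpowers x) (CfsgLib.FGS.isPGroup_zpowers hk) hKp
      ?_ ?_ ?_ ?_ ?_
    · rw [Subgroup.normalizer_eq_top]; exact le_top
    · rw [Subgroup.normalizer_eq_top]; exact Subgroup.mem_top _
    · rw [Subgroup.orderOf_coe]; exact (hWmem w).1 hw
    · intro y hy
      obtain ⟨i, rfl⟩ := Subgroup.mem_zpowers_iff.1 hy
      exact (show Commute ((w : C) : G) x from Subgroup.mem_centralizer_singleton_iff.1 w.2).zpow_right i
    · intro c hc hcomm
      have hcC : c ∈ C := Subgroup.mem_centralizer_singleton_iff.2 (hcomm x (Subgroup.mem_zpowers x))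
      have hcP : (⟨c, hcC⟩ : C) ∈ (P0 : Subgroup C) := by
        obtain ⟨hn, -⟩ := CfsgLib.FGS.normal_of_pPrime_centralizes_sylow P0 hloc
        refine CfsgLib.FGS.mem_of_mem_normalizer P0 ?_ ?_
        · obtain ⟨i, hi⟩ := IsPGroup.iff_orderOf.1 hKp ⟨c, hc⟩
          exact ⟨i, by rw [← Subgroup.orderOf_coe]; rw [← Subgroup.orderOf_coe] at hi; exact hi⟩
        · rw [Subgroup.normalizer_eq_top]; exact Subgroup.mem_top _
      exact (congrArg Subtype.val (hWP w hw _ hcP)).symm
  have hnormal : (W.map C.subtype).Normal := by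
    refine ⟨fun v hv g => ?_⟩
    obtain ⟨w, hw, rfl⟩ := hv
    have hzC : g * (w : G) * g⁻¹ ∈ C := by
      refine Subgroup.mem_centralizer_singleton_iff.2 ?_
      have := hWK w hw (g⁻¹ * x * g)
        (by simpa using Subgroup.normalClosure_normal.conj_mem x hxK g⁻¹)
      calc g * (w : G) * g⁻¹ * x = g * ((w : G) * (g⁻¹ * x * g)) * g⁻¹ := by group
        _ = _ := by rw [this.eq]; group
    refine ⟨⟨_, hzC⟩, (hWmem _).2 ?_, rfl⟩
    rw [← Subgroup.orderOf_coe]
    show (orderOf (g * (w : G) * g⁻¹)).Coprime p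
    rw [show g * (w : G) * g⁻¹ = MulAut.conj g (w : G) from rfl, MulEquiv.orderOf_eq,
      Subgroup.orderOf_coe]
    exact (hWmem w).1 hw
  refine ⟨S, W.map C.subtype, hnormal, Subgroup.isComplement'_of_coprime ?_ ?_⟩
  · rw [Subgroup.card_map_of_injective C.subtype_injective, Sylow.card_eq_multiplicity, hfG,
      pow_add, ← mul_assoc, ← Sylow.card_eq_multiplicity P0, hWcard, ← hxa, C.card_mul_index]
  · rw [Subgroup.card_map_of_injective C.subtype_injective]
    obtain ⟨j, hj⟩ := S.isPGroup'.exists_card_eq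
    rw [hj]
    refine Nat.Coprime.pow_right _ (Nat.coprime_comm.1 (hp.coprime_iff_not_dvd.2 fun hd => ?_))
    obtain ⟨w, hw⟩ := exists_prime_orderOf_dvd_card' p hd
    have := (hWmem w).1 w.2
    rw [Subgroup.orderOf_coe, hw] at this
    exact hp.ne_one (Nat.coprime_self p |>.1 this)

end Cfsg.Agent.S4127
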