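import Cfsg.Statements.S1139
import Cfsg.Agent.Lib.Suzuki.TwoGroup

set_option autoImplicit false
open Cfsg

namespace Cfsg.Agent.S1139
open Cfsg

universe u

theorem odd_orderOf {F : Type*} [Field F] [Fintype F] (φ : F ≃+* F)
    (hinj : Function.Injective fun x => x * φ x) : Odd (orderOf φ) := by
  classical
  haveI : Finite (F ≃+* F) :=
    Finite.of_injective (fun σ => (σ : F → F)) DFunLike.coe_injective
  set H := Subgroup.zpowers (φ * φ) with hH
  have hfix : ∀ y : F, (φ * φ) y = y → φ y = y := by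
    intro y hy
    by_cases hy0 : y = 0
    · rw [hy0, map_zero]
    have hφy : φ y ≠ 0 := fun h => hy0 (φ.injective (h.trans (map_zero φ).symm))
    have h1 : φ (y / φ y) = φ y / y := by
      rw [map_div₀]
      exact congrArg (φ y / ·) hy
    have h2 : (y / φ y) * φ (y / φ y) = 1 * φ 1 := by
      rw [h1, map_one]; field_simp
    have h3 := hinj h2
    exact ((div_eq_one_iff_eq hφy).1 h3).symm
  let α : F →ₐ[FixedPoints.subfield H F] F :=
    { (φ : F →+* F) with
      commutes' := fun r => hfix r.1 (r.2 ⟨φ * φ, Subgroup.mem_zpowers _⟩) }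
  haveI : Fintype H := Fintype.ofFinite H
  obtain ⟨h, hh⟩ := (FixedPoints.toAlgHom_bijective H F).2 α
  have hmem : φ ∈ H := by
    have : (h : F ≃+* F) = φ := RingEquiv.ext fun x => congrArg (fun f : F →ₐ[FixedPoints.subfield H F] F => f x) hh
    rw [← this]; exact h.2
  obtain ⟨k, hk⟩ := hmem
  have hd : (orderOf φ : ℤ) ∣ 2 * k - 1 := by
    rw [orderOf_dvd_iff_zpow_eq_one]
    simp only at hk
    rw [← pow_two, ← zpow_natCast, ← zpow_mul] at hk
    rw [zpow_sub, zpow_one]
    push_cast at hk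
    rw [hk, mul_inv_cancel]
  rcases Nat.even_or_odd (orderOf φ) with ⟨m, hm⟩ | ho
  · exfalso
    rw [hm] at hd
    obtain ⟨c, hc⟩ := hd
    push_cast at hc
    have : (2 : ℤ) ∣ 1 := ⟨k - m * c, by linarith⟩
    norm_num at this
  · exact ho

section Model

variable {F : Type*} [Field F]

/-- the matrix attached to a pair -/
def mat (φ : F →+* F) (x y : F) : Matrix (Fin 3) (Fin 3) F :=
  !![1, 0, 0; x, 1, 0; y, φ x, 1]

theorem mat_mul (φ : F →+* F) (x y x' y' : F) :
    mat φ x y * mat φ x' y' = mat φ (x + x') (y + y' + φ x * x') := by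
  ext i j
  fin_cases i <;> fin_cases j <;>
    simp [mat, Matrix.mul_apply, Fin.sum_univ_three, map_add] <;> ring

theorem mat_zero (φ : F →+* F) : mat φ 0 0 = 1 := by
  ext i j
  fin_cases i <;> fin_cases j <;> simp [mat]

theorem mat_inj (φ : F →+* F) {x y x' y' : F} (h : mat φ x y = mat φ x' y') : x = x' ∧ y = y' :=
  ⟨by simpa [mat] using congrFun (congrFun h 1) 0, by simpa [mat] using congrFun (congrFun h 2) 0⟩

/-- the element attached to a pair -/
def el (φ : F →+* F) (x y : F) : GL (Fin 3) F where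
  val := mat φ x y
  inv := mat φ (-x) (-y + φ x * x)
  val_inv := by rw [mat_mul, ← mat_zero φ]; congr 1 <;> ring
  inv_val := by rw [mat_mul, map_neg, ← mat_zero φ]; congr 1 <;> ring

/-- the set of all pairs as a subgroup -/
def pairs (φ : F →+* F) : Subgroup (GL (Fin 3) F) where
  carrier := {g | ∃ x y : F, (g : Matrix (Fin 3) (Fin 3) F) = mat φ x y}
  one_mem' := ⟨0, 0, (mat_zero φ).symm⟩
  mul_mem' := by
    rintro g g' ⟨x, y, hg⟩ ⟨x', y', hg'⟩
    exact ⟨_, _, by rw [Units.val_mul, hg, hg', mat_mul]⟩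
  inv_mem' := by
    rintro g ⟨x, y, hg⟩
    refine ⟨-x, -y + φ x * x, ?_⟩
    have : g = el φ x y := Units.ext hg
    rw [this]; rfl

theorem mem_typeA (φ : F →+* F) {g : GL (Fin 3) F} :
    g ∈ suzukiTypeA F φ ↔ ∃ x y : F, (g : Matrix (Fin 3) (Fin 3) F) = mat φ x y := by
  constructor
  · intro h
    exact (Subgroup.closure_le (pairs φ)).2 (fun g hg => hg) h
  · intro h
    exact Subgroup.subset_closure h

theorem typeA_coords (φ : F →+* F) :
    ∃ (X Y : ↥(suzukiTypeA F φ) → F) (mk : F → F → ↥(suzukiTypeA F φ)),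
      (∀ a b, X (a * b) = X a + X b) ∧ (∀ a b, Y (a * b) = Y a + Y b + φ (X a) * X b) ∧
      (∀ x y, X (mk x y) = x ∧ Y (mk x y) = y) ∧ ∀ t, mk (X t) (Y t) = t := by
  refine ⟨fun t => ((t : GL (Fin 3) F) : Matrix (Fin 3) (Fin 3) F) 1 0,
    fun t => ((t : GL (Fin 3) F) : Matrix (Fin 3) (Fin 3) F) 2 0,
    fun x y => ⟨el φ x y, (mem_typeA φ).2 ⟨x, y, rfl⟩⟩, ?_, ?_, ?_, ?_⟩
  · intro a b
    obtain ⟨x, y, ha⟩ := (mem_typeA φ).1 a.2
    obtain ⟨x', y', hb⟩ := (mem_typeA φ).1 b.2
    simp only [Subgroup.coe_mul, Units.val_mul]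
    rw [ha, hb, mat_mul]
    simp [mat]
  · intro a b
    obtain ⟨x, y, ha⟩ := (mem_typeA φ).1 a.2
    obtain ⟨x', y', hb⟩ := (mem_typeA φ).1 b.2
    simp only [Subgroup.coe_mul, Units.val_mul]
    rw [ha, hb, mat_mul]
    simp [mat]
  · intro x y
    constructor <;> simp [el, mat]
  · intro t
    obtain ⟨x, y, ht⟩ := (mem_typeA φ).1 t.2
    refine Subtype.ext (Units.ext ?_)
    show mat φ (((t : GL (Fin 3) F) : Matrix (Fin 3) (Fin 3) F) 1 0)
      (((t : GL (Fin 3) F) : Matrix (Fin 3) (Fin 3) F) 2 0) = _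
    rw [ht]
    simp [mat]

end Model

/-- Two central extensions with the same squaring map are isomorphic. -/
theorem iso_of_squares {P T A B : Type*} [Group P] [Group T] [Finite P] [Finite T]
    [AddCommGroup A] [AddCommGroup B]
    (f : P → A) (f' : T → A) (ι : B → P) (ι' : B → T)
    (hf : ∀ a b, f (a * b) = f a + f b) (hf' : ∀ a b, f' (a * b) = f' a + f' b)
    (hι : ∀ a b, ι (a + b) = ι a * ι b) (hι' : ∀ a b, ι' (a + b) = ι' a * ι' b)
    (hιi : Function.Injective ι) (hι'i : Function.Injective ι')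
    (hker : ∀ p, f p = 0 ↔ ∃ b, ι b = p) (hker' : ∀ t, f' t = 0 ↔ ∃ b, ι' b = t)
    (hsurj : Function.Surjective f) (hsurj' : Function.Surjective f')
    (hc : ∀ b p, ι b * p = p * ι b) (hc' : ∀ b t, ι' b * t = t * ι' b)
    (hsq : ∀ p t, f p = f' t → ∃ b, ι b = p * p ∧ ι' b = t * t) :
    Nonempty (P ≃* T) := by
  classical
  have f1 : f 1 = 0 := by simpa using hf 1 1
  have f1' : f' 1 = 0 := by simpa using hf' 1 1
  have fi : ∀ p, f p⁻¹ = -f p := fun p => eq_neg_of_add_eq_zero_left (by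
    rw [← hf, inv_mul_cancel, f1])
  have fi' : ∀ p, f' p⁻¹ = -f' p := fun p => eq_neg_of_add_eq_zero_left (by
    rw [← hf', inv_mul_cancel, f1'])
  have i0 : ι 0 = 1 := by simpa using hι 0 0
  have i0' : ι' 0 = 1 := by simpa using hι' 0 0
  have ineg : ∀ b, ι (-b) = (ι b)⁻¹ := fun b => eq_inv_of_mul_eq_one_left (by
    rw [← hι, neg_add_cancel, i0])
  have ineg' : ∀ b, ι' (-b) = (ι' b)⁻¹ := fun b => eq_inv_of_mul_eq_one_left (by
    rw [← hι', neg_add_cancel, i0'])
  let E : Subgroup (P × T) :=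
    { carrier := {e | f e.1 = f' e.2}
      one_mem' := by show f 1 = f' 1; rw [f1, f1']
      mul_mem' := by
        intro a b ha hb
        show f (a.1 * b.1) = f' (a.2 * b.2)
        rw [hf, hf', show f a.1 = f' a.2 from ha, show f b.1 = f' b.2 from hb]
      inv_mem' := by
        intro a ha
        show f a.1⁻¹ = f' a.2⁻¹
        rw [fi, fi', show f a.1 = f' a.2 from ha] }
  let D : Subgroup (P × T) :=
    { carrier := {e | ∃ b, ι b = e.1 ∧ ι' b = e.2}
      one_mem' := ⟨0, i0, i0'⟩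
      mul_mem' := by
        rintro x y ⟨b, h1, h2⟩ ⟨c, h3, h4⟩
        exact ⟨b + c, by rw [hι, h1, h3]; rfl, by rw [hι', h2, h4]; rfl⟩
      inv_mem' := by
        rintro x ⟨b, h1, h2⟩
        exact ⟨-b, by rw [ineg, h1]; rfl, by rw [ineg', h2]; rfl⟩ }
  have hDE : D ≤ E := by
    rintro x ⟨b, h1, h2⟩
    show f x.1 = f' x.2
    rw [(hker _).2 ⟨b, h1⟩, (hker' _).2 ⟨b, h2⟩]
  have hEsq : ∀ e ∈ E, e * e ∈ D := fun e he => hsq e.1 e.2 he
  let good : Subgroup (P × T) → Prop := fun H =>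
    D ≤ H ∧ H ≤ E ∧ ∀ b : B, ((ι b, (1 : T)) : P × T) ∈ H → b = 0
  have hD : good D := ⟨le_rfl, hDE, fun b ⟨c, h1, h2⟩ => by
    have hc0 : c = 0 := hι'i (h2.trans i0'.symm)
    exact hιi ((h1.symm.trans (by rw [hc0])))⟩
  obtain ⟨H, hHgood, hHmax⟩ := Set.Finite.exists_maximalFor (fun H : Subgroup (P × T) => Nat.card H)
    {H : Subgroup (P × T) | good H} (Set.toFinite _) ⟨D, hD⟩
  obtain ⟨hDH, hHE, hHι⟩ := hHgood
  have hcov : ∀ e ∈ E, ∃ b, ((ι b, (1 : T)) : P × T) * e ∈ H := by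
    intro e he
    by_contra hno
    push Not at hno
    have hcomm : ∀ h ∈ H, ∃ d ∈ D, e * h = d * (h * e) := by
      intro h hh
      refine ⟨(e * h) * (e * h) * ((e * h)⁻¹ * (h * e)⁻¹), ?_, by group⟩
      have h1 := hEsq _ (mul_mem he (hHE hh))
      obtain ⟨b, hb1, hb2⟩ := hEsq e he
      have h3 : h * (e * e) = (e * e) * h := by
        have : ((e * e : P × T)) = (ι b, ι' b) := Prod.ext hb1.symm hb2.symm
        rw [this]
        exact Prod.ext (hc b h.1).symm (hc' b h.2).symm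
      rw [← mul_inv_rev]
      refine mul_mem h1 (inv_mem ?_)
      rw [show (h * e) * (e * h) = h * (e * e) * h by group, h3, mul_assoc]
      exact mul_mem (hEsq e he) (hEsq h (hHE hh))
    have hee : e * e ∈ H := hDH (hEsq e he)
    have hswap : ∀ h ∈ H, ∃ h' ∈ H, e * h = h' * e := by
      intro h hh
      obtain ⟨d, hd, hdeq⟩ := hcomm h hh
      exact ⟨d * h, mul_mem (hDH hd) hh, by rw [hdeq, mul_assoc]⟩
    let H' : Subgroup (P × T) :=
      { carrier := {x | x ∈ H ∨ ∃ h ∈ H, x = h * e}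
        one_mem' := Or.inl H.one_mem
        mul_mem' := by
          rintro a b (ha | ⟨h, hh, rfl⟩) (hb | ⟨k, hk, rfl⟩)
          · exact Or.inl (mul_mem ha hb)
          · exact Or.inr ⟨a * k, mul_mem ha hk, by group⟩
          · obtain ⟨b', hb', hbe⟩ := hswap b hb
            exact Or.inr ⟨h * b', mul_mem hh hb', by rw [mul_assoc, hbe, mul_assoc]⟩
          · obtain ⟨k', hk', hke⟩ := hswap k hk
            refine Or.inl ?_
            have e1 : h * e * (k * e) = h * k' * (e * e) := by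
              rw [show h * e * (k * e) = h * (e * k) * e by group, hke]; group
            rw [e1]
            exact mul_mem (mul_mem hh hk') hee
        inv_mem' := by
          rintro a (ha | ⟨h, hh, rfl⟩)
          · exact Or.inl (inv_mem ha)
          · obtain ⟨h', hh', hhe⟩ := hswap h⁻¹ (inv_mem hh)
            refine Or.inr ⟨(e * e)⁻¹ * h', mul_mem (inv_mem hee) hh', ?_⟩
            calc (h * e)⁻¹ = (e * e)⁻¹ * (e * h⁻¹) := by group
              _ = _ := by rw [hhe, mul_assoc] }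
    have hle : H ≤ H' := fun x hx => Or.inl hx
    have hgood' : good H' := by
      refine ⟨hDH.trans hle, ?_, ?_⟩
      · rintro x (hx | ⟨h, hh, rfl⟩)
        · exact hHE hx
        · exact mul_mem (hHE hh) he
      · rintro b (hb | ⟨h, hh, hb⟩)
        · exact hHι b hb
        · exfalso
          refine hno (-b) ?_
          have : ((ι (-b), (1 : T)) : P × T) * e = ((ι b, (1 : T)) : P × T)⁻¹ * e := by
            rw [ineg]; refine congrArg (· * e) (Prod.ext rfl ?_)
            exact inv_one.symm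
          rw [this, hb, show (h * e)⁻¹ * e = e⁻¹ * h⁻¹ * e by group]
          obtain ⟨k, hk, hke⟩ := hswap _ (inv_mem hh)
          -- conjugation by the inverse of `e` agrees with conjugation by `e` modulo `e * e`
          have : e⁻¹ * h⁻¹ * e = (e * e)⁻¹ * k * (e * e) := by
            calc e⁻¹ * h⁻¹ * e = (e * e)⁻¹ * (e * h⁻¹) * e := by group
              _ = (e * e)⁻¹ * (k * e) * e := by rw [hke]
              _ = _ := by group
          rw [this]
          exact mul_mem (mul_mem (inv_mem hee) hk) hee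
    have hHH' : H = H' := Subgroup.eq_of_le_of_card_ge hle
      (hHmax hgood' (Subgroup.card_le_of_le hle))
    refine hno 0 ?_
    rw [i0, show ((1 : P), (1 : T)) = 1 from rfl, one_mul, hHH']
    exact Or.inr ⟨1, one_mem _, (one_mul e).symm⟩
  let p1 : H →* P := (MonoidHom.fst P T).comp H.subtype
  let p2 : H →* T := (MonoidHom.snd P T).comp H.subtype
  have h1 : Function.Bijective p1 := by
    constructor
    · rw [injective_iff_map_eq_one]
      intro x hx
      have hx1 : (x.1).1 = 1 := hx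
      have hf2 : f' (x.1).2 = 0 := by
        rw [← show f (x.1).1 = f' (x.1).2 from hHE x.2, hx1, f1]
      obtain ⟨b, hb⟩ := (hker' _).1 hf2
      have hm : ((ι b, (1 : T)) : P × T) ∈ H := by
        have := mul_mem (hDH (show ((ι b, ι' b) : P × T) ∈ D from ⟨b, rfl, rfl⟩)) (inv_mem x.2)
        convert this using 1
        refine Prod.ext ?_ ?_
        · show ι b = ι b * (x.1).1⁻¹
          rw [hx1, inv_one, mul_one]
        · show (1 : T) = ι' b * (x.1).2⁻¹
          rw [hb, mul_inv_cancel]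
      have hb0 := hHι b hm
      refine Subtype.ext (Prod.ext hx1 ?_)
      show (x.1).2 = 1
      rw [← hb, hb0, i0']
    · intro p
      obtain ⟨t, ht⟩ := hsurj' (f p)
      obtain ⟨b, hb⟩ := hcov (p, t) ht.symm
      refine ⟨⟨_, mul_mem hb (inv_mem (hDH (show ((ι b, ι' b) : P × T) ∈ D from ⟨b, rfl, rfl⟩)))⟩,
        ?_⟩
      show ι b * p * (ι b)⁻¹ = p
      rw [hc, mul_inv_cancel_right]
  have h2 : Function.Bijective p2 := by
    constructor
    · rw [injective_iff_map_eq_one]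
      intro x hx
      have hx2 : (x.1).2 = 1 := hx
      have hf1 : f (x.1).1 = 0 := by
        rw [show f (x.1).1 = f' (x.1).2 from hHE x.2, hx2, f1']
      obtain ⟨b, hb⟩ := (hker _).1 hf1
      have hb0 := hHι b (by
        convert x.2 using 1
        exact Prod.ext hb hx2.symm)
      refine Subtype.ext (Prod.ext ?_ hx2)
      show (x.1).1 = 1
      rw [← hb, hb0, i0]
    · intro t
      obtain ⟨p, hp⟩ := hsurj (f' t)
      obtain ⟨b, hb⟩ := hcov (p, t) hp
      exact ⟨⟨_, hb⟩, one_mul t⟩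
  exact ⟨(MulEquiv.ofBijective p1 h1).symm.trans (MulEquiv.ofBijective p2 h2)⟩

theorem seven {A : Type*} [AddCommGroup A] (h2 : ∀ w : A, w + w = 0) (a b d k l m : A) :
    (a + b + k + d + (l + m)) + (a + b + k) + (a + d + l) + (b + d + m) + a + b + d = 0 := by
  have e : (a + b + k + d + (l + m)) + (a + b + k) + (a + d + l) + (b + d + m) + a + b + d =
      ((a + a) + (a + a)) + ((b + b) + (b + b)) + ((d + d) + (d + d)) + (k + k) + (l + l) + (m + m) := by
    abel
  rw [e]; simp [h2]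

theorem type_A {P : Type u} [Group P] (hP : Cfsg.IsSuzukiTwoGroup P)
    (hcard : Nat.card P = Nat.card (Subgroup.center P) ^ 2) :
    ∃ (F : Type) (_ : Field F) (_ : Fintype F) (φ : F ≃+* F), Fintype.card F = Nat.card (Subgroup.center P) ∧
      φ ≠ RingEquiv.refl F ∧ Odd (orderOf φ) ∧ Nonempty (P ≃* Cfsg.suzukiTypeA F (φ : F →+* F)) := by
  classical
  obtain ⟨hfin, hP2, hna, -, K, hK, hreg⟩ := hP
  haveI := hfin
  haveI := Fact.mk Nat.prime_two
  haveI : Finite (MulAut P) :=
    Finite.of_injective (fun σ => (σ : P → P)) DFunLike.coe_injective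
  obtain ⟨g, hg⟩ := hK.exists_generator
  have htr : CfsgLib.Suzuki.TwoGroup.Trans (g : MulAut P) := by
    intro x y hx hx2 hy hy2
    obtain ⟨k, hk, -⟩ := hreg x y hx hx2 hy hy2
    obtain ⟨i, hi⟩ := (isOfFinOrder_of_finite g).mem_powers_iff_mem_zpowers.2 (hg k)
    exact ⟨i, by rw [← SubmonoidClass.coe_pow, show g ^ i = k from hi]; exact hk⟩
  set φ₀ : MulAut P := (g : MulAut P)
  set Z := Subgroup.center P with hZdef
  have hsqZ : ∀ z ∈ Z, z * z = 1 := fun z hz =>
    CfsgLib.Suzuki.TwoGroup.center_sq hP2 htr hna hz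
  have hinv : ∀ {x : P}, x * x = 1 → x ∈ Z := fun hx =>
    CfsgLib.Suzuki.TwoGroup.involution_central hP2 htr hx
  have hzc : ∀ {z : P}, z ∈ Z → ∀ p, p * z = z * p := fun hz p => Subgroup.mem_center_iff.1 hz p
  have hcoset : ∀ (x : P) {z : P}, z ∈ Z → (x * z) * (x * z) = x * x := fun x z hz => by
    rw [show (x * z) * (x * z) = x * (z * x) * z by group, ← hzc hz x,
      show x * (x * z) * z = x * x * (z * z) by group, hsqZ z hz, mul_one]
  let sQ : P ⧸ Z → P := fun c => Quotient.liftOn' c (fun x => x * x) fun a b h => by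
    rw [QuotientGroup.leftRel_apply] at h
    show a * a = b * b
    rw [← hcoset a h, mul_inv_cancel_left]
  have hQcard : Nat.card (P ⧸ Z) = Nat.card Z := by
    have h := Subgroup.card_eq_card_quotient_mul_card_subgroup Z
    rw [hcard, sq] at h
    exact (Nat.eq_of_mul_eq_mul_right Nat.card_pos h).symm
  haveI : Nontrivial (P ⧸ Z) := by
    rw [QuotientGroup.nontrivial_iff]
    intro h
    obtain ⟨x, y, hxy⟩ := hna
    exact hxy (hzc (h ▸ Subgroup.mem_top y : y ∈ Z) x)
  obtain ⟨x₀, hx₀, hx₀Z⟩ : ∃ x₀ : P, x₀ * x₀ ∈ Z ∧ x₀ ∉ Z := by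
    have hd : 2 ∣ Nat.card (P ⧸ Z) := by
      obtain ⟨m, hm, hc⟩ := (hP2.to_quotient Z).nontrivial_iff_card.1 ‹_›
      rw [hc]; exact dvd_pow_self 2 (by omega)
    obtain ⟨c, hc⟩ := exists_prime_orderOf_dvd_card' (G := P ⧸ Z) 2 hd
    obtain ⟨x, rfl⟩ := QuotientGroup.mk'_surjective Z c
    refine ⟨x, (QuotientGroup.eq_one_iff _).1 ?_, fun h => ?_⟩
    · rw [QuotientGroup.mk_mul]
      have := pow_orderOf_eq_one (QuotientGroup.mk' Z x)
      rw [hc, sq] at this
      exact this
    · rw [show QuotientGroup.mk' Z x = 1 from (QuotientGroup.eq_one_iff _).2 h, orderOf_one] at hc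
      omega
  have hx₀1 : x₀ * x₀ ≠ 1 := fun h => hx₀Z (hinv h)
  have hsurjZ : ∀ z ∈ Z, ∃ x, x * x = z := by
    intro z hz
    by_cases hz1 : z = 1
    · exact ⟨1, by rw [hz1, one_mul]⟩
    obtain ⟨i, hi⟩ := htr _ z hx₀1 (hsqZ _ hx₀) hz1 (hsqZ z hz)
    exact ⟨(φ₀ ^ i) x₀, by rw [← map_mul]; exact hi⟩
  choose rt hrt using fun z : Z => hsurjZ z z.2
  have hrtinj : Function.Injective (fun z : Z => (rt z : P ⧸ Z)) := fun a b h => by
    refine Subtype.ext ?_
    rw [← hrt a, ← hrt b]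
    exact congrArg sQ h
  haveI := Fintype.ofFinite Z
  haveI := Fintype.ofFinite (P ⧸ Z)
  have hrtbij : Function.Bijective (fun z : Z => (rt z : P ⧸ Z)) :=
    (Fintype.bijective_iff_injective_and_card _).2
      ⟨hrtinj, by rw [← Nat.card_eq_fintype_card, ← Nat.card_eq_fintype_card, hQcard]⟩
  have hsqmem : ∀ x : P, x * x ∈ Z := fun x => by
    obtain ⟨z, hz⟩ := hrtbij.2 (x : P ⧸ Z)
    have := congrArg sQ hz
    show x * x ∈ Z
    rw [show x * x = rt z * rt z from this.symm, hrt]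
    exact z.2
  let s : P ⧸ Z → Z := fun c => ⟨sQ c, by
    induction c using QuotientGroup.induction_on with
    | H x => exact hsqmem x⟩
  have hs : ∀ x : P, (s (x : P ⧸ Z) : P) = x * x := fun x => rfl
  have hsinj : Function.Injective s := by
    intro a b h
    obtain ⟨za, rfl⟩ := hrtbij.2 a
    obtain ⟨zb, rfl⟩ := hrtbij.2 b
    have h' := congrArg Subtype.val h
    rw [hs, hs, hrt, hrt] at h'
    rw [Subtype.ext h']
  have hQ2 : ∀ c : P ⧸ Z, c * c = 1 := fun c => by
    induction c using QuotientGroup.induction_on with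
    | H x => rw [← QuotientGroup.mk_mul, QuotientGroup.eq_one_iff]; exact hsqmem x
  letI : CommGroup (P ⧸ Z) := { (inferInstance : Group (P ⧸ Z)) with
    mul_comm := fun a b => by
      have h := hQ2 (a * b)
      have ha : a⁻¹ = a := inv_eq_of_mul_eq_one_right (hQ2 a)
      have hb : b⁻¹ = b := inv_eq_of_mul_eq_one_right (hQ2 b)
      calc a * b = (a * b)⁻¹ := (inv_eq_of_mul_eq_one_right h).symm
        _ = b * a := by rw [mul_inv_rev, ha, hb] }
  letI : CommGroup Z := { (inferInstance : Group Z) with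
    mul_comm := fun a b => Subtype.ext (hzc b.2 a) }
  obtain ⟨ψ, hψ⟩ := CfsgLib.Suzuki.TwoGroup.exists_restrict φ₀ Z fun x hx =>
    CfsgLib.Suzuki.TwoGroup.center_fixed φ₀ hx
  have hψtr : ∀ u v : Z, u ≠ 1 → v ≠ 1 → ∃ i : ℕ, (ψ ^ i : MulAut Z) u = v := fun a b ha hb => by
    obtain ⟨i, hi⟩ := htr a b (fun h => ha (Subtype.ext h)) (hsqZ _ a.2)
      (fun h => hb (Subtype.ext h)) (hsqZ _ b.2)
    exact ⟨i, Subtype.ext ((CfsgLib.Suzuki.TwoGroup.pow_apply_coe φ₀ ψ hψ i a).trans hi)⟩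
  have hmap : Z.map (φ₀ : P ≃* P).toMonoidHom = Z :=
    Subgroup.eq_of_le_of_card_ge
      (by rintro _ ⟨x, hx, rfl⟩; exact CfsgLib.Suzuki.TwoGroup.center_fixed φ₀ hx)
      (by rw [Subgroup.card_map_of_injective φ₀.injective])
  let χ : P ⧸ Z ≃* P ⧸ Z := QuotientGroup.congr Z Z φ₀ hmap
  have hsχ : ∀ c, s (χ c) = ψ (s c) := fun c => by
    induction c using QuotientGroup.induction_on with
    | H x =>
      refine Subtype.ext ?_
      rw [hψ, hs, map_mul]
      rfl
  have hsχi : ∀ (i : ℕ) c, s ((χ ^ i : MulAut (P ⧸ Z)) c) = (ψ ^ i : MulAut Z) (s c) := by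
    intro i
    induction i with
    | zero => intro c; rfl
    | succ i ih =>
      intro c
      rw [pow_succ, pow_succ]
      show s ((χ ^ i : MulAut (P ⧸ Z)) (χ c)) = (ψ ^ i : MulAut Z) (ψ (s c))
      rw [ih, hsχ]
  have hs1 : s 1 = 1 := Subtype.ext (one_mul 1)
  have hχtr : ∀ u v : P ⧸ Z, u ≠ 1 → v ≠ 1 → ∃ i : ℕ, (χ ^ i : MulAut (P ⧸ Z)) u = v :=
    fun a b ha hb => by
    obtain ⟨i, hi⟩ := hψtr (s a) (s b) (fun h => ha (hsinj (h.trans hs1.symm)))
      (fun h => hb (hsinj (h.trans hs1.symm)))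
    exact ⟨i, hsinj (by rw [hsχi, hi])⟩
  obtain ⟨v₀, hv₀⟩ := exists_ne (1 : P ⧸ Z)
  have hv₀' : s v₀ ≠ 1 := fun h => hv₀ (hsinj (h.trans hs1.symm))
  obtain ⟨FQ, _, _, _, μ, θQ, hθQ, haddQ, hμ, hgenQ⟩ :=
    CfsgLib.Suzuki.CyclicModule.exists_field χ hχtr hv₀ hQ2
  obtain ⟨FZ, _, _, _, lam, θZ, hθZ, haddZ, hlam, -⟩ :=
    CfsgLib.Suzuki.CyclicModule.exists_field ψ hψtr hv₀' (fun v => Subtype.ext (hsqZ _ v.2))
  -- the coordinate field in the lowest universe
  obtain ⟨m, hprime, hm⟩ := FiniteField.card FZ 2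
  let F := GaloisField 2 m
  letI : Fintype F := Fintype.ofFinite F
  have hFZ : Fintype.card FZ = Nat.card Z := by
    rw [← Nat.card_eq_fintype_card]; exact Nat.card_congr (Equiv.ofBijective θZ hθZ)
  have hFcard : Fintype.card F = Fintype.card FZ := by
    rw [← Nat.card_eq_fintype_card, GaloisField.card 2 m m.ne_zero, hm]
  have hFQ : Fintype.card F = Fintype.card FQ := by
    rw [hFcard, hFZ, ← hQcard, ← Nat.card_eq_fintype_card (α := FQ)]
    exact (Nat.card_congr (Equiv.ofBijective θQ hθQ)).symm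
  let εQ : F ≃+* FQ := FiniteField.ringEquivOfCardEq hFQ
  let εZ : F ≃+* FZ := FiniteField.ringEquivOfCardEq hFcard
  let cQ : F → P ⧸ Z := fun x => θQ (εQ x)
  have hcQ : Function.Bijective cQ := hθQ.comp εQ.bijective
  have hcQadd : ∀ x y, cQ (x + y) = cQ x * cQ y := fun x y => by simp only [cQ, map_add, haddQ]
  let cZ : F → Z := fun x => θZ (εZ x)
  have hcZ : Function.Bijective cZ := hθZ.comp εZ.bijective
  have hcZadd : ∀ x y, cZ (x + y) = cZ x * cZ y := fun x y => by simp only [cZ, map_add, haddZ]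
  let eZ := Equiv.ofBijective cZ hcZ
  have heZ : ∀ w, cZ (eZ.symm w) = w := eZ.apply_symm_apply
  let q : F → F := fun x => eZ.symm (s (cQ x))
  have hq : ∀ x, cZ (q x) = s (cQ x) := fun x => heZ _
  have hcQ0 : cQ 0 = 1 := by
    have := hcQadd 0 0; rw [add_zero] at this; exact left_eq_mul.1 this
  have hcZ0 : cZ 0 = 1 := by
    have := hcZadd 0 0; rw [add_zero] at this; exact left_eq_mul.1 this
  have hqinj : Function.Injective q := fun a b h => hcQ.1 (hsinj (by rw [← hq, h, hq]))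
  have hq0 : q 0 = 0 := hcZ.1 (by rw [hq, hcQ0, hs1, hcZ0])
  set μ' := εQ.symm μ with hμ'
  set lam' := εZ.symm lam with hlam'
  have hqμ : ∀ x, q (μ' * x) = lam' * q x := fun x => hcZ.1 (by
    rw [hq]
    show s (θQ (εQ (μ' * x))) = θZ (εZ (lam' * q x))
    rw [map_mul, map_mul, hμ', hlam', εQ.apply_symm_apply, εZ.apply_symm_apply, hμ, hlam, hsχ]
    exact congrArg ψ (hq x).symm)
  have hqpow : ∀ (i : ℕ) x, q (μ' ^ i * x) = lam' ^ i * q x := by
    intro i
    induction i with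
    | zero => intro x; simp
    | succ i ih => intro x; rw [pow_succ, mul_assoc, ih, hqμ, pow_succ, mul_assoc]
  have hgen : ∀ x : F, x ≠ 0 → ∃ i : ℕ, x = μ' ^ i := fun x hx => by
    obtain ⟨i, hi⟩ := hgenQ (εQ x) (fun h => hx (εQ.injective (h.trans (map_zero εQ).symm)))
    exact ⟨i, by rw [hμ', ← map_pow, ← hi, εQ.symm_apply_apply]⟩
  set c := q 1 with hcdef
  have hc0 : c ≠ 0 := fun h => one_ne_zero (hqinj (h.trans hq0.symm))
  let r : F → F := fun x => c⁻¹ * q x
  have hrpow : ∀ i : ℕ, r (μ' ^ i) = lam' ^ i := fun i => by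
    show c⁻¹ * q (μ' ^ i) = _
    rw [← mul_one (μ' ^ i), hqpow, ← hcdef, mul_left_comm, inv_mul_cancel₀ hc0, mul_one]
  have hrmul : ∀ x y, r (x * y) = r x * r y := by
    intro x y
    by_cases hx : x = 0
    · simp [r, hx, hq0]
    by_cases hy : y = 0
    · simp [r, hy, hq0]
    obtain ⟨i, rfl⟩ := hgen x hx
    obtain ⟨j, rfl⟩ := hgen y hy
    rw [← pow_add, hrpow, hrpow, hrpow, pow_add]
  let R : F →* F :=
    { toFun := r
      map_one' := by show c⁻¹ * q 1 = 1; rw [← hcdef]; exact inv_mul_cancel₀ hc0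
      map_mul' := hrmul }
  haveI : CharP F 2 := inferInstance
  haveI : Finite (F ≃+* F) :=
    Finite.of_injective (fun σ => (σ : F → F)) DFunLike.coe_injective
  -- the squaring map is quadratic
  have hcomm : ∀ a b : P, ∃ d ∈ Z, b * a = d * (a * b) := fun a b =>
    ⟨(b * a) * (a * b)⁻¹, by
      rw [← QuotientGroup.eq_one_iff, QuotientGroup.mk_mul, QuotientGroup.mk_inv,
        QuotientGroup.mk_mul, QuotientGroup.mk_mul, mul_comm (b : P ⧸ Z), mul_inv_cancel],
      by group⟩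
  have hquad : ∀ a b d : P, ((a * b * d) * (a * b * d)) * ((a * b) * (a * b)) *
      ((a * d) * (a * d)) * ((b * d) * (b * d)) * (a * a) * (b * b) * (d * d) = 1 := by
    intro a b d
    -- write each square with the commutators, which are central involutions
    let k : P → P → P := fun x y => (y * x) * (x * y)⁻¹
    have hk : ∀ x y, k x y ∈ Z := fun x y => by
      obtain ⟨e, he, hxy⟩ := hcomm x y
      show (y * x) * (x * y)⁻¹ ∈ Z
      rw [hxy, mul_inv_cancel_right]; exact he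
    have hke : ∀ x y, y * x = k x y * (x * y) := fun x y => by simp only [k]; group
    have hsq2 : ∀ x y, (x * y) * (x * y) = (x * x) * (y * y) * k x y := fun x y => by
      calc (x * y) * (x * y) = x * (y * x) * y := by group
        _ = x * (k x y * (x * y)) * y := by rw [hke x y]
        _ = (x * k x y) * (x * (y * y)) := by group
        _ = k x y * (x * (x * (y * y))) := by rw [hzc (hk x y) x]; group
        _ = (x * (x * (y * y))) * k x y := (hzc (hk x y) _).symm
        _ = _ := by group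
    have hkm : k (a * b) d = k a d * k b d := by
      calc k (a * b) d = (d * a) * (b * (a * b * d)⁻¹) := by simp only [k]; group
        _ = k a d * (a * d) * (b * (a * b * d)⁻¹) := by rw [hke a d]
        _ = k a d * (a * (d * b) * (a * b * d)⁻¹) := by group
        _ = k a d * (a * (k b d * (b * d)) * (a * b * d)⁻¹) := by rw [hke b d]
        _ = k a d * ((a * k b d) * (b * d) * (a * b * d)⁻¹) := by group
        _ = _ := by rw [hzc (hk b d) a]; group
    rw [hsq2 (a * b) d, hkm, hsq2 a b, hsq2 a d, hsq2 b d]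
    let Z' : P → Z := fun x => ⟨x * x, hsqmem x⟩
    let k' : P → P → Z := fun x y => ⟨k x y, hk x y⟩
    have h2 : ∀ w : Z, w * w = 1 := fun v => Subtype.ext (hsqZ _ v.2)
    have : (Z' a * Z' b * k' a b * Z' d * (k' a d * k' b d)) * (Z' a * Z' b * k' a b) *
        (Z' a * Z' d * k' a d) * (Z' b * Z' d * k' b d) * Z' a * Z' b * Z' d = 1 := by
      exact seven (A := Additive Z) h2 (Additive.ofMul (Z' a)) (Additive.ofMul (Z' b))
        (Additive.ofMul (Z' d)) (Additive.ofMul (k' a b)) (Additive.ofMul (k' a d))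
        (Additive.ofMul (k' b d))
    exact congrArg Subtype.val this
  have hRquad : ∀ x y z : F,
      r (x + y + z) + r (x + y) + r (x + z) + r (y + z) + r x + r y + r z = 0 := by
    intro x y z
    have h : q (x + y + z) + q (x + y) + q (x + z) + q (y + z) + q x + q y + q z = 0 := by
      refine hcZ.1 ?_
      simp only [hcZadd, hq, hcZ0, hcQadd]
      obtain ⟨a, ha⟩ := QuotientGroup.mk_surjective (cQ x)
      obtain ⟨b, hb⟩ := QuotientGroup.mk_surjective (cQ y)
      obtain ⟨d, hd⟩ := QuotientGroup.mk_surjective (cQ z)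
      rw [← ha, ← hb, ← hd]
      refine Subtype.ext ?_
      simp only [Subgroup.coe_mul, Subgroup.coe_one, ← QuotientGroup.mk_mul, hs]
      exact hquad a b d
    simp only [r, ← mul_add, h, mul_zero]
  haveI := Fintype.ofFinite (F ≃+* F)
  obtain ⟨σ, τ, hστ⟩ : ∃ σ τ : F ≃+* F, ∀ x, r x = σ x * τ x := by
    by_contra hno
    push Not at hno
    let pr : (F ≃+* F) × (F ≃+* F) → (F →* F) := fun p =>
      (p.1 : F →+* F).toMonoidHom * (p.2 : F →+* F).toMonoidHom
    have hnotin : R ∉ Set.range pr := by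
      rintro ⟨p, hp⟩
      obtain ⟨x, hx⟩ := hno p.1 p.2
      exact hx (DFunLike.congr_fun hp x).symm
    have hmem := CfsgLib.Suzuki.FieldEndo.quadratic_mem_quadSpan F r hRquad
    refine (linearIndependent_monoidHom F F).notMem_span_image (s := Set.range pr) hnotin ?_
    rw [← Set.range_comp]
    exact hmem
  let φ : F ≃+* F := τ.trans σ.symm
  have hσφ : ∀ x, σ (x * φ x) = σ x * τ x := fun x => by
    rw [map_mul]; simp [φ]
  have hqφ : ∀ x, q x = c * σ (x * φ x) := fun x => by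
    rw [hσφ, ← hστ]
    show q x = c * (c⁻¹ * q x)
    exact (mul_inv_cancel_left₀ hc0 _).symm
  have hinjφ : Function.Injective fun x => x * φ x := fun a b h => hqinj (by
    rw [hqφ, hqφ]; exact congrArg (fun w => c * σ w) h)
  have hφne : φ ≠ RingEquiv.refl F := by
    intro h
    have hqadd : ∀ x y, q (x + y) = q x + q y := fun x y => by
      have h2 : (2 : F) = 0 := CharTwo.two_eq_zero
      simp only [hqφ, h, RingEquiv.refl_apply, map_mul, map_add]
      linear_combination (c * σ x * σ y) * h2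
    obtain ⟨a, b, hab⟩ := hna
    obtain ⟨x, hx⟩ := hcQ.2 (a : P ⧸ Z)
    obtain ⟨y, hy⟩ := hcQ.2 (b : P ⧸ Z)
    have h1 : s ((a : P ⧸ Z) * b) = s a * s b := by
      rw [← hx, ← hy, ← hcQadd, ← hq, ← hq, ← hq, hqadd, hcZadd]
    have h2 : (a * b) * (a * b) = (a * a) * (b * b) := congrArg Subtype.val h1
    refine hab (mul_left_cancel (a := a) (mul_right_cancel (b := b) ?_))
    calc a * (a * b) * b = (a * a) * (b * b) := by group
      _ = (a * b) * (a * b) := h2.symm
      _ = a * (b * a) * b := by group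
  refine ⟨F, inferInstance, inferInstance, φ, hFcard.trans hFZ, hφne, odd_orderOf φ hinjφ, ?_⟩
  obtain ⟨X, Y, mk, hX, hY, hmk, hmk'⟩ := typeA_coords (φ : F →+* F)
  haveI : Finite ↥(suzukiTypeA F (φ : F →+* F)) :=
    Finite.of_injective (fun t => (X t, Y t)) fun a b h => by
      simp only [Prod.mk.injEq] at h
      rw [← hmk' a, ← hmk' b, h.1, h.2]
  let eQ := Equiv.ofBijective cQ hcQ
  have heQ : ∀ w, cQ (eQ.symm w) = w := eQ.apply_symm_apply
  have hadd2 : ∀ x : F, x + x = 0 := fun x => CharTwo.add_self_eq_zero x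
  refine iso_of_squares (fun p : P => eQ.symm (p : P ⧸ Z)) X
    (fun y => (cZ (c * σ y) : P)) (fun y => mk 0 y) ?_ hX ?_ ?_ ?_ ?_ ?_ ?_ ?_ ?_ ?_ ?_ ?_
  · intro a b
    exact hcQ.1 (by rw [hcQadd, heQ, heQ, heQ, QuotientGroup.mk_mul])
  · intro a b
    show (cZ (c * σ (a + b)) : P) = _
    rw [map_add, mul_add, hcZadd]; rfl
  · intro a b
    have h1 := hmk (0 : F) (a + b)
    rw [← hmk' (mk 0 a * mk 0 b), hX, hY, (hmk 0 a).1, (hmk 0 a).2, (hmk 0 b).1, (hmk 0 b).2]
    simp
  · intro a b h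
    exact σ.injective (mul_left_cancel₀ hc0 (hcZ.1 (Subtype.ext h)))
  · intro a b h
    rw [← (hmk 0 a).2, ← (hmk 0 b).2]
    exact congrArg Y h
  · intro p
    constructor
    · intro h
      have hp : p ∈ Z := by
        rw [← QuotientGroup.eq_one_iff, ← heQ (p : P ⧸ Z)]
        rw [show eQ.symm (p : P ⧸ Z) = 0 from h, hcQ0]
      refine ⟨σ.symm (c⁻¹ * eZ.symm ⟨p, hp⟩), ?_⟩
      show (cZ (c * σ (σ.symm _)) : P) = p
      rw [σ.apply_symm_apply, mul_inv_cancel_left₀ hc0, heZ]
    · rintro ⟨b, rfl⟩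
      refine hcQ.1 ?_
      rw [heQ, hcQ0, QuotientGroup.eq_one_iff]
      exact (cZ _).2
  · intro t
    constructor
    · intro h
      exact ⟨Y t, by rw [← h]; exact hmk' t⟩
    · rintro ⟨b, rfl⟩
      exact (hmk 0 b).1
  · intro a
    obtain ⟨p, hp⟩ := QuotientGroup.mk_surjective (cQ a)
    exact ⟨p, hcQ.1 (by rw [heQ, hp])⟩
  · intro a
    exact ⟨mk a 0, (hmk a 0).1⟩
  · intro b p
    exact (hzc (cZ _).2 p).symm
  · intro b t
    rw [← hmk' (mk 0 b * t), ← hmk' (t * mk 0 b), hX, hY, hX, hY, (hmk 0 b).1, (hmk 0 b).2]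
    simp [add_comm]
  · intro p t hpt
    refine ⟨X t * φ (X t), ?_, ?_⟩
    · show (cZ (c * σ (X t * φ (X t))) : P) = p * p
      rw [← hqφ, hq, ← hpt, heQ, hs]
    · rw [← hmk' (t * t), hX, hY, hadd2, hadd2, zero_add, mul_comm]
      rfl

/-- A Suzuki 2-group `P` with `|P| = |Z(P)|²` is of type A: for some finite field `F` with `|F| = |Z(P)|` and some field automorphism `φ ≠ 1` of odd order, `P` is isomorphic to the group of lower unitriangular matrices with rows `(1,0,0)`, `(x,1,0)`, `(y, φ x, 1)`. -/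
theorem result {P : Type*} [Group P] (hP : Cfsg.IsSuzukiTwoGroup P)
    (hcard : Nat.card P = Nat.card (Subgroup.center P) ^ 2) :
    ∃ (F : Type) (_ : Field F) (_ : Fintype F) (φ : F ≃+* F), Fintype.card F = Nat.card (Subgroup.center P) ∧
      φ ≠ RingEquiv.refl F ∧ Odd (orderOf φ) ∧ Nonempty (P ≃* Cfsg.suzukiTypeA F (φ : F →+* F)) := by
  exact type_A hP hcard

end Cfsg.Agent.S1139
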