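import Cfsg.Statements.S0741
import Mathlib

set_option autoImplicit false
open Cfsg

namespace Cfsg.Agent.S0741

open MulAction in
theorem exists_pair_involution {G Ω : Type*} [Group G] [Finite G] [MulAction G Ω]
    (ht : MulAction.IsMultiplyPretransitive G Ω 2) {a b : Ω} (hab : a ≠ b)
    (heven : Even (Nat.card ↥(stabilizer G a ⊓ stabilizer G b))) {u v : Ω} (huv : u ≠ v) :
    Nat.card ↥(stabilizer G u ⊓ stabilizer G v : Subgroup G) = Nat.card ↥(stabilizer G a ⊓ stabilizer G b) ∧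
      ∃ g : G, g • u = u ∧ g • v = v ∧ g * g = 1 ∧ g ≠ 1 := by
  rw [is_two_pretransitive_iff] at ht
  obtain ⟨t, hta, htb⟩ := ht hab huv
  have hmap : (stabilizer G a ⊓ stabilizer G b).map (MulAut.conj t).toMonoidHom =
      stabilizer G u ⊓ stabilizer G v := by
    rw [Subgroup.map_inf _ _ _ (MulAut.conj t).injective, ← stabilizer_smul_eq_stabilizer_map_conj,
      ← stabilizer_smul_eq_stabilizer_map_conj, hta, htb]
  have hc : Nat.card ↥((stabilizer G a ⊓ stabilizer G b).map (MulAut.conj t).toMonoidHom) =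
      Nat.card ↥(stabilizer G a ⊓ stabilizer G b : Subgroup G) :=
    Subgroup.card_map_of_injective (fun x y h => (MulAut.conj t).injective h)
  rw [hmap] at hc
  refine ⟨hc, ?_⟩
  haveI := Fact.mk Nat.prime_two
  obtain ⟨⟨g, hg⟩, hg2⟩ := exists_prime_orderOf_dvd_card'
    (G := ↥(stabilizer G u ⊓ stabilizer G v : Subgroup G)) 2 (by rw [hc]; exact even_iff_two_dvd.mp heven)
  rw [Subgroup.orderOf_mk] at hg2
  exact ⟨g, hg.1, hg.2, by rw [← pow_two, ← hg2, pow_orderOf_eq_one],
    fun e => by rw [e, orderOf_one] at hg2; omega⟩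

/-- If the two-point stabilisers of a finite Zassenhaus group of degree `n + 1` have even order `d`, then `2d ≥ n - 1`. -/
theorem result {G Ω : Type*} [Group G] [Finite G] [MulAction G Ω] [Fintype Ω] (hZ : Cfsg.IsZassenhausGroup G Ω) {a b : Ω} (hab : a ≠ b) (heven : Even (Nat.card ↥(MulAction.stabilizer G a ⊓ MulAction.stabilizer G b))) : Fintype.card Ω - 2 ≤ 2 * Nat.card ↥(MulAction.stabilizer G a ⊓ MulAction.stabilizer G b) := by
  classical
  obtain ⟨-, ht, hthree, -, -⟩ := hZ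
  set D := MulAction.stabilizer G a ⊓ MulAction.stabilizer G b with hD
  haveI : Fintype G := Fintype.ofFinite G
  let P := {q : Ω × Ω // q.1 ≠ q.2}
  have hz : ∀ q : P, ∃ g : G, g • q.1.1 = q.1.1 ∧ g • q.1.2 = q.1.2 ∧ g * g = 1 ∧ g ≠ 1 :=
    fun q => (exists_pair_involution ht hab heven q.2).2
  choose z hz1 hz2 hzz hzne using hz
  have hfix : ∀ (q : P) (x : Ω), z q • x = x → x = q.1.1 ∨ x = q.1.2 := by
    intro q x hx
    by_contra h
    push Not at h
    exact hzne q (hthree _ _ _ x q.2 h.2.symm h.1.symm (hz1 q) (hz2 q) hx)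
  let e := Fintype.equivFin Ω
  let F : (Σ q : P, {c : Ω // c ≠ q.1.1 ∧ c ≠ q.1.2}) →
      (Σ q : P, {g : G // g • q.1.1 = q.1.2 ∧ g • q.1.2 = q.1.1} × Bool) := fun x =>
    ⟨⟨(x.2.1, z x.1 • x.2.1), fun h => (hfix x.1 _ h.symm).elim x.2.2.1 x.2.2.2⟩,
      ⟨z x.1, rfl, by rw [← mul_smul, hzz, one_smul]⟩, decide (e x.1.1.1 < e x.1.1.2)⟩
  have hinj : Function.Injective F := by
    rintro ⟨q, c, hc⟩ ⟨q', c', hc'⟩ h
    have hcc : c = c' := congrArg (fun y => y.1.1.1) h
    have hg : z q = z q' := congrArg (fun y => (y.2.1.1 : G)) h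
    have hb : decide (e q.1.1 < e q.1.2) = decide (e q'.1.1 < e q'.1.2) :=
      congrArg (fun y => y.2.2) h
    subst hcc
    have hqq : q = q' := by
      have h1 := hfix q' q.1.1 (hg ▸ hz1 q)
      have h2 := hfix q' q.1.2 (hg ▸ hz2 q)
      apply Subtype.ext
      rcases h1 with h1 | h1 <;> rcases h2 with h2 | h2
      · exact absurd (h1.trans h2.symm) q.2
      · exact Prod.ext h1 h2
      · exfalso
        rw [h1, h2, decide_eq_decide] at hb
        rcases lt_or_gt_of_ne (e.injective.ne q'.2) with h' | h'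
        · exact lt_asymm h' (hb.mpr h')
        · exact lt_asymm h' (hb.mp h')
      · exact absurd (h1.trans h2.symm) q.2
    subst hqq
    rfl
  have hL : ∀ q : P, Fintype.card {c : Ω // c ≠ q.1.1 ∧ c ≠ q.1.2} = Fintype.card Ω - 2 := by
    intro q
    rw [Fintype.card_subtype, show (Finset.univ.filter fun c : Ω => c ≠ q.1.1 ∧ c ≠ q.1.2) =
      Finset.univ \ {q.1.1, q.1.2} by ext c; simp, Finset.card_sdiff_of_subset (Finset.subset_univ _),
      Finset.card_pair q.2, Finset.card_univ]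
  have hR : ∀ q : P, Fintype.card ({g : G // g • q.1.1 = q.1.2 ∧ g • q.1.2 = q.1.1} × Bool) ≤
      2 * Nat.card D := by
    intro q
    rw [Fintype.card_prod, Fintype.card_bool, mul_comm, ← (exists_pair_involution ht hab heven q.2).1,
      ← Nat.card_eq_fintype_card]
    refine Nat.mul_le_mul_left 2 ?_
    rcases isEmpty_or_nonempty {g : G // g • q.1.1 = q.1.2 ∧ g • q.1.2 = q.1.1} with h | ⟨⟨g₀⟩⟩
    · simp
    · refine Nat.card_le_card_of_injective (fun g => ⟨g₀.1⁻¹ * g.1, ?_, ?_⟩) ?_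
      · show (g₀.1⁻¹ * g.1) • q.1.1 = q.1.1
        rw [mul_smul, g.2.1, inv_smul_eq_iff, g₀.2.1]
      · show (g₀.1⁻¹ * g.1) • q.1.2 = q.1.2
        rw [mul_smul, g.2.2, inv_smul_eq_iff, g₀.2.2]
      · intro g g' h
        exact Subtype.ext (mul_left_cancel (congrArg Subtype.val h))
  have key := Fintype.card_le_of_injective F hinj
  rw [Fintype.card_sigma, Fintype.card_sigma] at key
  have key2 : Fintype.card P * (Fintype.card Ω - 2) ≤ Fintype.card P * (2 * Nat.card D) := by
    calc Fintype.card P * (Fintype.card Ω - 2)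
        = ∑ q : P, Fintype.card {c : Ω // c ≠ q.1.1 ∧ c ≠ q.1.2} := by
          rw [Finset.sum_congr rfl fun q _ => hL q, Finset.sum_const, Finset.card_univ, smul_eq_mul]
      _ ≤ _ := key
      _ ≤ ∑ q : P, 2 * Nat.card D := Finset.sum_le_sum fun q _ => hR q
      _ = _ := by rw [Finset.sum_const, Finset.card_univ, smul_eq_mul]
  exact Nat.le_of_mul_le_mul_left key2 (Fintype.card_pos_iff.mpr ⟨⟨(a, b), hab⟩⟩)

end Cfsg.Agent.S0741
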