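import Cfsg.Statements.S3494

set_option autoImplicit false
open Cfsg

namespace Cfsg.Agent.S3494

/-- Manning's Theorem on extremely primitive groups. Let a finite group G act faithfully and primitively on a finite set Ω with non-trivial point stabilizers, and suppose every point stabilizer G_α acts primitively on each of its orbits. Then G_α acts faithfully on each of its orbits other than {α}: an element of G_α fixing every point of one such orbit is the identity. -/
theorem result {G : Type*} [Group G] [Finite G] {Ω : Type*} [Fintype Ω] [MulAction G Ω] [FaithfulSMul G Ω] (hprim : MulAction.IsPreprimitive G Ω) (hH : ∀ α : Ω, MulAction.stabilizer G α ≠ ⊥) (hep : ∀ (α : Ω) (ω : Ω), MulAction.IsPreprimitive (MulAction.stabilizer G α) (MulAction.orbit (MulAction.stabilizer G α) ω))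
    (α ω : Ω) (hω : ω ≠ α) (h : MulAction.stabilizer G α) (hfix : ∀ x ∈ MulAction.orbit (MulAction.stabilizer G α) ω, h • x = x) : h = 1 := by
  classical
  by_contra hh1
  haveI := hprim
  haveI : Nontrivial Ω := ⟨⟨ω, α, hω⟩⟩
  revert h
  set H := MulAction.stabilizer G α with hHdef
  intro h hfix hh1
  have hco : IsCoatom H := MulAction.IsPreprimitive.isCoatom_stabilizer_of_isPreprimitive G α
  -- stabilizers of distinct points are distinct
  have hdist : ∀ β : Ω, β ≠ α → MulAction.stabilizer G β ≠ H := by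
    intro β hβ heq
    obtain ⟨g, hg⟩ := MulAction.exists_smul_eq G α β
    have hgH : g ∉ H := fun h' => hβ (hg.symm.trans h')
    have hconj : MulAction.stabilizer G β = H.map (MulAut.conj g).toMonoidHom := by
      rw [← hg, MulAction.stabilizer_smul_eq_stabilizer_map_conj]
    have hgn : g ∈ Subgroup.normalizer (H : Set G) := by
      rw [Subgroup.mem_normalizer_iff]
      intro x
      constructor
      · intro hx
        rw [← heq, hconj]
        exact ⟨x, hx, rfl⟩
      · intro hx
        rw [← heq, hconj] at hx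
        obtain ⟨y, hy, he⟩ := hx
        simp only [MulEquiv.coe_toMonoidHom, MulAut.conj_apply, mul_left_inj, mul_right_inj] at he
        exact he ▸ hy
    have htop : Subgroup.normalizer (H : Set G) = ⊤ :=
      hco.2 _ (lt_of_le_of_ne Subgroup.le_normalizer fun e => hgH (e ▸ hgn))
    haveI hn : H.Normal := Subgroup.normalizer_eq_top_iff.1 htop
    refine hH α (eq_bot_iff.2 fun x hx => Subgroup.mem_bot.2 (eq_of_smul_eq_smul (α := Ω) fun y => ?_))
    obtain ⟨c, rfl⟩ := MulAction.exists_smul_eq G α y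
    rw [one_smul]
    have h' : (c⁻¹ * x * c) • α = α := by
      have := hn.conj_mem x hx c⁻¹
      rw [inv_inv] at this
      exact this
    rw [mul_smul, mul_smul, inv_smul_eq_iff] at h'
    exact h'
  -- suborbit sizes
  let cnt : Ω → Ω → ℕ := fun a b => (MulAction.orbit (MulAction.stabilizer G a) b).ncard
  have hcnt_eq : ∀ a b, cnt a b * Nat.card {g : G // g • a = a ∧ g • b = b} = Nat.card H := by
    intro a b
    have h1 := Subgroup.card_mul_index (MulAction.stabilizer (MulAction.stabilizer G a) b)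
    rw [MulAction.index_stabilizer] at h1
    have h2 : Nat.card (MulAction.stabilizer (MulAction.stabilizer G a) b) =
        Nat.card {g : G // g • a = a ∧ g • b = b} :=
      Nat.card_congr ⟨fun x => ⟨x.1.1, x.1.2, x.2⟩, fun x => ⟨⟨x.1, x.2.1⟩, x.2.2⟩,
        fun x => rfl, fun x => rfl⟩
    obtain ⟨g, hg⟩ := MulAction.exists_smul_eq G α a
    have h3 : Nat.card H = Nat.card (MulAction.stabilizer G a) :=
      Nat.card_congr (MulAction.stabilizerEquivStabilizer hg.symm).toEquiv
    rw [h3, ← h1, h2, mul_comm]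
  have hsymm : ∀ a b, cnt a b = cnt b a := by
    intro a b
    have e : Nat.card {g : G // g • a = a ∧ g • b = b} = Nat.card {g : G // g • b = b ∧ g • a = a} :=
      Nat.card_congr (Equiv.subtypeEquivRight fun g => and_comm)
    have h1 := hcnt_eq a b
    rw [← hcnt_eq b a, e] at h1
    haveI : Nonempty {g : G // g • b = b ∧ g • a = a} := ⟨⟨1, one_smul _ _, one_smul _ _⟩⟩
    exact Nat.eq_of_mul_eq_mul_right Nat.card_pos h1
  have hshift : ∀ (g : G) a b, cnt (g • a) (g • b) = cnt a b := by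
    intro g a b
    have e : MulAction.orbit (MulAction.stabilizer G (g • a)) (g • b) =
        (g • ·) '' MulAction.orbit (MulAction.stabilizer G a) b := by
      ext y
      constructor
      · rintro ⟨⟨x, hx⟩, rfl⟩
        refine ⟨(g⁻¹ * x * g) • b, ⟨⟨g⁻¹ * x * g, ?_⟩, rfl⟩, ?_⟩
        · rw [MulAction.mem_stabilizer_iff] at hx ⊢
          rw [mul_smul, mul_smul, hx, inv_smul_smul]
        · change g • (g⁻¹ * x * g) • b = x • g • b
          rw [mul_smul, mul_smul, smul_inv_smul]
      · rintro ⟨_, ⟨⟨x, hx⟩, rfl⟩, rfl⟩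
        refine ⟨⟨g * x * g⁻¹, ?_⟩, ?_⟩
        · rw [MulAction.mem_stabilizer_iff] at hx ⊢
          rw [mul_smul, mul_smul, inv_smul_smul, hx]
        · change (g * x * g⁻¹) • g • b = g • x • b
          rw [mul_smul, mul_smul, inv_smul_smul]
    change (MulAction.orbit _ _).ncard = _
    rw [e, Set.ncard_image_of_injective _ (MulAction.injective g)]
  -- the kernel
  set K : Subgroup H := (MulAction.toPermHom H (MulAction.orbit H ω)).ker with hK
  have hKfix : ∀ k ∈ K, ∀ x ∈ MulAction.orbit H ω, k • x = x := fun k hk x hx =>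
    congrArg Subtype.val (Equiv.ext_iff.1 (MonoidHom.mem_ker.1 hk) ⟨x, hx⟩)
  have hhK : h ∈ K := MonoidHom.mem_ker.2 (Equiv.ext fun x => Subtype.ext (hfix x.1 x.2))
  obtain ⟨x₀, hx₀⟩ : ∃ x : Ω, h • x ≠ x := by
    by_contra hc
    simp only [not_exists, not_not] at hc
    exact hh1 (Subtype.ext (eq_of_smul_eq_smul (α := Ω) fun y => (hc y).trans (one_smul _ _).symm))
  obtain ⟨γ, hγmem, hγmax⟩ :=
    (Finset.univ.filter fun x : Ω => ∃ k ∈ K, k • x ≠ x).exists_max_image (cnt α)
      ⟨x₀, Finset.mem_filter.2 ⟨Finset.mem_univ _, h, hhK, hx₀⟩⟩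
  obtain ⟨k₀, hk₀, hk₀γ⟩ := (Finset.mem_filter.1 hγmem).2
  set Γ := MulAction.orbit H γ with hΓ
  have hγα : γ ≠ α := fun e => hk₀γ (by rw [e]; exact k₀.2)
  -- `K` is transitive on `Γ`
  have hKtr : ∀ y ∈ Γ, ∃ k ∈ K, k • γ = y := by
    haveI := hep α γ
    have htr : MulAction.IsPretransitive K Γ := by
      refine MulAction.IsQuasiPreprimitive.isPretransitive_of_normal fun hu => hk₀γ ?_
      exact congrArg Subtype.val
        ((hu ▸ Set.mem_univ _ : (⟨γ, MulAction.mem_orbit_self γ⟩ : Γ) ∈ MulAction.fixedPoints K Γ) ⟨k₀, hk₀⟩)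
    intro y hy
    obtain ⟨k, hk⟩ := MulAction.exists_smul_eq K (⟨γ, MulAction.mem_orbit_self γ⟩ : Γ) ⟨y, hy⟩
    exact ⟨k.1, k.2, congrArg Subtype.val hk⟩
  set U : Set Ω := {x | cnt α γ < cnt α x} with hU
  have hUfix : ∀ x ∈ U, ∀ k ∈ K, k • x = x := by
    intro x hx k hk
    by_contra hne
    exact absurd (hγmax x (Finset.mem_filter.2 ⟨Finset.mem_univ _, k, hk, hne⟩)) (not_le.2 hx)
  have hkey : ∀ β : Ω, β ≠ α → (∀ k ∈ K, k • β = β) → cnt α γ < cnt γ β := by
    intro β hβ hβfix
    rw [hsymm γ β]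
    have hsub : Γ ⊆ MulAction.orbit (MulAction.stabilizer G β) γ := by
      intro y hy
      obtain ⟨k, hk, rfl⟩ := hKtr y hy
      exact ⟨⟨(k : G), hβfix k hk⟩, rfl⟩
    rcases (Set.ncard_le_ncard hsub (Set.toFinite _)).lt_or_eq with hlt | heq
    · exact hlt
    exfalso
    have hΓeq := Set.eq_of_subset_of_ncard_le hsub heq.ge (Set.toFinite _)
    let L : Subgroup G :=
      { carrier := {g | ∀ y, g • y ∈ Γ ↔ y ∈ Γ}
        mul_mem' := fun {a b} ha hb y => by rw [mul_smul]; exact (ha _).trans (hb y)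
        one_mem' := fun y => by rw [one_smul]
        inv_mem' := fun {a} ha y => by
          have := ha (a⁻¹ • y)
          rw [smul_inv_smul] at this
          exact this.symm }
    have hHL : H ≤ L := fun g hg y => by
      rw [show g • y = (⟨g, hg⟩ : H) • y from rfl, hΓ]
      exact MulAction.mem_orbit_iff.trans ⟨fun ⟨a, ha⟩ => ⟨(⟨g, hg⟩ : H)⁻¹ * a,
        by dsimp only; rw [mul_smul, ha, inv_smul_smul]⟩, fun ⟨a, ha⟩ => ⟨⟨g, hg⟩ * a, by rw [mul_smul, ← ha]⟩⟩
    have hβL : MulAction.stabilizer G β ≤ L := fun g hg y => by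
      rw [show g • y = (⟨g, hg⟩ : MulAction.stabilizer G β) • y from rfl, hΓeq]
      exact MulAction.mem_orbit_iff.trans ⟨fun ⟨a, ha⟩ => ⟨(⟨g, hg⟩ : MulAction.stabilizer G β)⁻¹ * a,
        by dsimp only; rw [mul_smul, ha, inv_smul_smul]⟩, fun ⟨a, ha⟩ => ⟨⟨g, hg⟩ * a, by rw [mul_smul, ← ha]⟩⟩
    have hLtop : L = ⊤ := by
      refine hco.2 L (lt_of_le_of_ne hHL fun e => ?_)
      have hle : MulAction.stabilizer G β ≤ H := e ▸ hβL
      have hcoβ : IsCoatom (MulAction.stabilizer G β) :=
        MulAction.IsPreprimitive.isCoatom_stabilizer_of_isPreprimitive G β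
      exact hdist β hβ ((hcoβ.le_iff.1 hle).resolve_left hco.1).symm
    obtain ⟨g, hg⟩ := MulAction.exists_smul_eq G α γ
    have hαΓ : α ∈ Γ := ((hLtop ▸ Subgroup.mem_top g : g ∈ L) α).1 (hg ▸ MulAction.mem_orbit_self γ)
    obtain ⟨a, ha⟩ := hαΓ
    refine hγα ?_
    have e : (a : G) • γ = (a : G) • α := ha.trans a.2.symm
    exact MulAction.injective (a : G) e
  -- `U` is invariant
  obtain ⟨g, hg⟩ := MulAction.exists_smul_eq G α γ
  have hsubU : U ⊆ (g • ·) '' U := by
    intro x hx
    refine ⟨g⁻¹ • x, ?_, smul_inv_smul g x⟩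
    have hxα : x ≠ α := fun e => by
      have h1 : cnt α α ≤ cnt α γ := by
        have e1 : cnt α α = 1 := Set.ncard_eq_one.2 ⟨α, Set.eq_singleton_iff_unique_mem.2
          ⟨MulAction.mem_orbit_self α, fun y ⟨a, ha⟩ => ha ▸ a.2⟩⟩
        rw [e1]
        exact (Set.ncard_pos (Set.toFinite _)).2 ⟨γ, MulAction.mem_orbit_self γ⟩
      exact absurd h1 (not_le.2 (e ▸ hx : α ∈ U))
    have := hkey x hxα (hUfix x hx)
    rw [show cnt γ x = cnt α (g⁻¹ • x) by rw [← hshift g α, smul_inv_smul, hg]] at this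
    exact this
  have hUeq : U = (g • ·) '' U := Set.eq_of_subset_of_ncard_le hsubU
    (Set.ncard_image_of_injective _ (MulAction.injective g)).le (Set.toFinite _)
  have hUne : ω ∈ (g • ·) '' U := by
    refine ⟨g⁻¹ • ω, ?_, smul_inv_smul g ω⟩
    have := hkey ω hω fun k hk => hKfix k hk ω (MulAction.mem_orbit_self ω)
    rw [show cnt γ ω = cnt α (g⁻¹ • ω) by rw [← hshift g α, smul_inv_smul, hg]] at this
    exact this
  let L : Subgroup G :=
    { carrier := {g | ∀ y, g • y ∈ U ↔ y ∈ U}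
      mul_mem' := fun {a b} ha hb y => by rw [mul_smul]; exact (ha _).trans (hb y)
      one_mem' := fun y => by rw [one_smul]
      inv_mem' := fun {a} ha y => by
        have := ha (a⁻¹ • y)
        rw [smul_inv_smul] at this
        exact this.symm }
  have hHL : H ≤ L := fun a ha y => by
    change cnt α γ < cnt α (a • y) ↔ cnt α γ < cnt α y
    have := hshift a α y
    rw [MulAction.mem_stabilizer_iff.1 ha] at this
    rw [this]
  have hgL : g ∈ L := fun y => by
    constructor
    · intro hy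
      rw [hUeq] at hy
      obtain ⟨z, hz, e⟩ := hy
      exact MulAction.injective g e ▸ hz
    · intro hy
      rw [hUeq]
      exact ⟨y, hy, rfl⟩
  have hLtop : L = ⊤ := hco.2 L (lt_of_le_of_ne hHL fun e => hγα
    (hg.symm.trans (MulAction.mem_stabilizer_iff.1 (e ▸ hgL : g ∈ H))))
  obtain ⟨c, hc⟩ := MulAction.exists_smul_eq G α ω
  rw [← hUeq] at hUne
  have hαU : α ∈ U := ((hLtop ▸ Subgroup.mem_top c : c ∈ L) α).1 (hc ▸ hUne)
  have e1 : cnt α α = 1 := Set.ncard_eq_one.2 ⟨α, Set.eq_singleton_iff_unique_mem.2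
    ⟨MulAction.mem_orbit_self α, fun y ⟨a, ha⟩ => ha ▸ a.2⟩⟩
  have h1 : 0 < cnt α γ := (Set.ncard_pos (Set.toFinite _)).2 ⟨γ, MulAction.mem_orbit_self γ⟩
  have h2 : cnt α γ < cnt α α := hαU
  omega

end Cfsg.Agent.S3494
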