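import Cfsg.Statements.S2904
import Mathlib.RingTheory.Polynomial.Cyclotomic.Eval
import Mathlib.RingTheory.Polynomial.Cyclotomic.Expand
import Mathlib.NumberTheory.Multiplicity
import Mathlib.FieldTheory.Finite.Basic
import Mathlib.Tactic


set_option autoImplicit false
open Cfsg

namespace Cfsg.Agent.S2904

open Polynomial in
private lemma zsig_cast_eval (n r : ℕ) (a : ℕ) :
    (cyclotomic n (ZMod r)).eval (a : ZMod r) = (((cyclotomic n ℤ).eval (a : ℤ) : ℤ) : ZMod r) := by
  have h := cyclotomic.eval_apply (a : ℤ) n (algebraMap ℤ (ZMod r))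
  simpa using h

private lemma zsig_aux_growth : ∀ r : ℕ, 5 ≤ r → 3 * r + 1 ≤ 2 ^ r := by
  intro r hr
  induction r, hr using Nat.le_induction with
  | base => norm_num
  | succ r hr ih => rw [pow_succ]; omega

open Polynomial in
/-- If no primitive prime divisor exists, the value at `a` of the cyclotomic polynomial is a prime
divisor `r` of `n` and `a` has order `m` modulo `r`, where `n = r ^ k * m`. -/
private lemma zsig_structure (a n : ℕ) (ha : 1 < a) (hn : 1 < n)
    (h2 : ¬ (n = 2 ∧ ∃ m : ℕ, a + 1 = 2 ^ m))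
    (hno : ∀ r : ℕ, r.Prime → r ∣ a ^ n - 1 → ∃ k : ℕ, 0 < k ∧ k < n ∧ r ∣ a ^ k - 1) :
    ∃ r k m : ℕ, r.Prime ∧ 0 < k ∧ n = r ^ k * m ∧ ¬ r ∣ m ∧
      ((cyclotomic n ℤ).eval (a : ℤ)).natAbs = r ∧
      orderOf (a : ZMod r) = m ∧ m ∣ r - 1 := by
  set N := (cyclotomic n ℤ).eval (a : ℤ) with hN
  have hN2 : 2 ≤ N.natAbs := by
    have := sub_one_lt_natAbs_cyclotomic_eval hn (q := a) (by omega)
    omega
  have hdvd : ∀ r : ℕ, r ∣ N.natAbs → r ∣ a ^ n - 1 := by
    intro r hr
    have h1 : N ∣ (a : ℤ) ^ n - 1 := by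
      have := eval_dvd (x := (a : ℤ)) (cyclotomic.dvd_X_pow_sub_one n ℤ)
      simpa using this
    have h1' : (N.natAbs : ℤ) ∣ ((a ^ n - 1 : ℕ) : ℤ) := by
      rw [Int.natCast_sub (Nat.one_le_pow _ _ (by omega))]
      push_cast
      exact (abs_dvd _ _).2 h1
    exact hr.trans (Int.natCast_dvd_natCast.1 h1')
  -- every prime divisor `r` of `N` divides `n` and the order of `a` mod `r` is the `r'`-part
  have key : ∀ r : ℕ, r.Prime → r ∣ N.natAbs →
      ∃ k m : ℕ, 0 < k ∧ n = r ^ k * m ∧ ¬ r ∣ m ∧ orderOf (a : ZMod r) = m ∧ m ∣ r - 1 := by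
    intro r hr hrN
    have := Fact.mk hr
    have hroot : (cyclotomic n (ZMod r)).IsRoot (a : ZMod r) := by
      rw [IsRoot.def, zsig_cast_eval, ZMod.intCast_zmod_eq_zero_iff_dvd]
      exact Int.natCast_dvd.2 hrN
    obtain ⟨k, m, hm, hnkm⟩ := Nat.exists_eq_pow_mul_and_not_dvd (by omega : n ≠ 0) r hr.ne_one
    have : NeZero (m : ZMod r) := ⟨fun h => hm ((ZMod.natCast_eq_zero_iff m r).1 h)⟩
    have hprim : IsPrimitiveRoot (a : ZMod r) m := by
      rw [hnkm] at hroot
      exact isRoot_cyclotomic_prime_pow_mul_iff_of_charP.1 hroot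
    have hm0 : m ≠ 0 := by rintro rfl; exact hm (dvd_zero r)
    have hk : 0 < k := by
      rcases Nat.eq_zero_or_pos k with rfl | hk
      · exfalso
        obtain ⟨j, hj0, hjn, hjd⟩ := hno r hr (hdvd r hrN)
        rw [pow_zero, one_mul] at hnkm
        refine hprim.pow_ne_one_of_pos_of_lt hj0.ne' (hnkm ▸ hjn) ?_
        have hj := (ZMod.natCast_eq_zero_iff _ r).2 hjd
        rw [Nat.cast_sub (Nat.one_le_pow _ _ (by omega)), Nat.cast_pow, Nat.cast_one, sub_eq_zero] at hj
        exact hj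
      · exact hk
    refine ⟨k, m, hk, hnkm, hm, hprim.eq_orderOf.symm, ?_⟩
    rw [hprim.eq_orderOf]
    exact ZMod.orderOf_dvd_card_sub_one (hprim.ne_zero hm0)
  obtain ⟨r, hr, hrN⟩ := Nat.exists_prime_and_dvd (show N.natAbs ≠ 1 by omega)
  obtain ⟨k, m, hk, hnkm, hm, hord, hmr⟩ := key r hr hrN
  refine ⟨r, k, m, hr, hk, hnkm, hm, ?_, hord, hmr⟩
  -- `r` is the only prime divisor of `N`
  have huniq : ∀ {d : ℕ}, d.Prime → d ∣ N.natAbs → d = r := by
    intro s hs hsN
    by_contra hne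
    obtain ⟨l, m', hl, hnlm, hm', -, hm's⟩ := key s hs hsN
    have hs_n : s ∣ n := hnlm ▸ Dvd.dvd.mul_right (dvd_pow_self s hl.ne') m'
    have hr_n : r ∣ n := hnkm ▸ Dvd.dvd.mul_right (dvd_pow_self r hk.ne') m
    have h1 : s ∣ r - 1 := by
      refine dvd_trans ?_ hmr
      rw [hnkm] at hs_n
      exact ((Nat.coprime_primes hs hr).2 hne |>.pow_right k).dvd_of_dvd_mul_left hs_n
    have h2' : r ∣ s - 1 := by
      refine dvd_trans ?_ hm's
      rw [hnlm] at hr_n
      exact ((Nat.coprime_primes hr hs).2 (Ne.symm hne) |>.pow_right l).dvd_of_dvd_mul_left hr_n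
    have := Nat.le_of_dvd (by have := hr.two_le; omega) h1
    have := Nat.le_of_dvd (by have := hs.two_le; omega) h2'
    have := hr.two_le
    omega
  have hpow := Nat.eq_prime_pow_of_unique_prime_dvd (show N.natAbs ≠ 0 by omega) huniq
  set e := N.natAbs.primeFactorsList.length
  -- now `r ^ 2` does not divide `N`
  have hsq : ¬ r ^ 2 ∣ N.natAbs := by
    intro h
    by_cases hn2 : n = 2
    · subst hn2
      apply h2
      have hr2 : r = 2 := by
        have : r ∣ 2 := hnkm ▸ Dvd.dvd.mul_right (dvd_pow_self r hk.ne') m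
        exact (Nat.prime_dvd_prime_iff_eq hr Nat.prime_two).1 this
      refine ⟨rfl, e, ?_⟩
      subst hr2
      rw [← hpow, hN, cyclotomic_two]
      have : ((X : ℤ[X]) + 1).eval (a : ℤ) = ((a + 1 : ℕ) : ℤ) := by simp
      rw [this, Int.natAbs_natCast]
    set d := r ^ (k - 1) * m with hd
    have hdn : n = d * r := by
      rw [hnkm, hd, mul_right_comm, ← pow_succ, Nat.sub_add_cancel hk]
    have hd0 : d ≠ 0 := by rintro h0; rw [h0, zero_mul] at hdn; omega
    have hdr : d ∣ n := hdn ▸ dvd_mul_right d r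
    have hfac := congrArg (Polynomial.eval (a : ℤ))
      (X_pow_sub_one_mul_prod_cyclotomic_eq_X_pow_sub_one_of_dvd ℤ hdr (by omega : n ≠ 0))
    simp only [eval_mul, eval_sub, eval_pow, eval_X, eval_one, eval_prod] at hfac
    set b : ℤ := (a : ℤ) ^ d with hb
    have hbn : (a : ℤ) ^ n = b ^ r := by rw [hb, ← pow_mul, hdn]
    have hb1 : b - 1 ≠ 0 := by
      have : (1 : ℤ) < b := one_lt_pow₀ (by exact_mod_cast ha) hd0
      omega
    rw [hbn, ← geom_sum_mul b r, mul_comm (∑ i ∈ Finset.range r, b ^ i)] at hfac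
    have hS := mul_left_cancel₀ hb1 hfac
    have hmem : n ∈ n.divisors \ d.divisors := by
      simp only [Finset.mem_sdiff, Nat.mem_divisors]
      refine ⟨⟨dvd_rfl, by omega⟩, fun h => ?_⟩
      have h5 := Nat.le_of_dvd (Nat.pos_of_ne_zero hd0) h.1
      have h6 : d * 2 ≤ d * r := Nat.mul_le_mul_left d hr.two_le
      omega
    have hNS : N ∣ ∑ i ∈ Finset.range r, b ^ i := by
      rw [← hS]; exact Finset.dvd_prod_of_mem (fun i => (cyclotomic i ℤ).eval (a : ℤ)) hmem
    have hr2S : ((r : ℤ)) ^ 2 ∣ ∑ i ∈ Finset.range r, b ^ i := by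
      refine dvd_trans ?_ hNS
      rw [← Int.dvd_natAbs]
      exact_mod_cast h
    rcases hr.eq_two_or_odd' with hr2 | hodd
    · subst hr2
      have hm1 : m = 1 := Nat.dvd_one.1 hmr
      subst hm1
      have hk2 : 2 ≤ k := by
        rcases Nat.lt_or_ge k 2 with hlt | hge
        · exfalso; apply hn2; rw [hnkm, show k = 1 by omega]; rfl
        · exact hge
      have hb2 : b = ((a : ℤ) ^ 2 ^ (k - 2)) ^ 2 := by
        rw [hb, ← pow_mul, hd, mul_one, ← pow_succ, show k - 2 + 1 = k - 1 by omega]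
      rw [Finset.sum_range_succ, Finset.sum_range_one, pow_zero, pow_one, hb2] at hr2S
      have h4 := (ZMod.intCast_zmod_eq_zero_iff_dvd (1 + ((a : ℤ) ^ 2 ^ (k - 2)) ^ 2) 4).2
        (by simpa using hr2S)
      push_cast at h4
      revert h4
      generalize ((a : ZMod 4)) ^ 2 ^ (k - 2) = x
      revert x; decide
    · have hbr : (r : ℤ) ∣ b - 1 := by
        rw [← ZMod.intCast_zmod_eq_zero_iff_dvd, hb]
        push_cast
        rw [sub_eq_zero, ← orderOf_dvd_iff_pow_eq_one, hord, hd]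
        exact dvd_mul_left m _
      obtain ⟨t, ht⟩ := hbr
      have hb' : b = 1 + (r : ℤ) * t := by omega
      have h3 := odd_sq_dvd_geom_sum₂_sub (R := ℤ) (a := 1) t hodd
      simp only [one_pow, mul_one, ← hb'] at h3
      have h4 : ((r : ℤ)) ^ 2 ∣ (r : ℤ) := (dvd_sub_right hr2S).1 h3
      have h5 : r ^ 2 ∣ r := by exact_mod_cast h4
      have := Nat.le_of_dvd hr.pos h5
      nlinarith [hr.two_le]
  have he : e = 1 := by
    rcases Nat.lt_or_ge e 2 with hlt | hge
    · rcases Nat.eq_zero_or_pos e with h0 | h0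
      · rw [h0, pow_zero] at hpow; omega
      · omega
    · exact absurd (hpow ▸ pow_dvd_pow r hge) hsq
  rw [hpow, he, pow_one]

/-- Zsigmondy's Theorem: for natural numbers a > 1 and n > 1 there is a prime dividing aⁿ − 1 that divides aᵏ − 1 for no natural number 0 < k < n, unless a = 2 and n = 6, or n = 2 and a + 1 is a power of two. -/
theorem result (a n : ℕ) (ha : 1 < a) (hn : 1 < n) (h6 : ¬ (a = 2 ∧ n = 6)) (h2 : ¬ (n = 2 ∧ ∃ m : ℕ, a + 1 = 2 ^ m)) : ∃ r : ℕ, r.Prime ∧ r ∣ a ^ n - 1 ∧ ∀ k : ℕ, 0 < k → k < n → ¬ r ∣ a ^ k - 1 := by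
  classical
  by_contra hcon
  push Not at hcon
  have hno : ∀ r : ℕ, r.Prime → r ∣ a ^ n - 1 → ∃ k : ℕ, 0 < k ∧ k < n ∧ r ∣ a ^ k - 1 :=
    fun r hr hd => hcon r hr hd
  obtain ⟨r, k, m, hr, hk, hnkm, hm, hval, hord, hmr⟩ := zsig_structure a n ha hn h2 hno
  have hrn : r ∣ n := hnkm ▸ Dvd.dvd.mul_right (dvd_pow_self r hk.ne') m
  have htot : r - 1 ≤ n.totient := by
    rw [← Nat.totient_prime hr]
    exact Nat.le_of_dvd (Nat.totient_pos.2 (by omega)) (Nat.totient_dvd_of_dvd hrn)
  by_cases ha3 : 3 ≤ a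
  · -- the crude lower bound already exceeds `r`
    have h := Polynomial.sub_one_pow_totient_lt_natAbs_cyclotomic_eval hn (q := a) (by omega)
    rw [hval] at h
    have h1 : 2 ^ (r - 1) ≤ (a - 1) ^ n.totient :=
      (Nat.pow_le_pow_right (by norm_num) htot).trans (Nat.pow_le_pow_left (by omega) _)
    have h3 := @Nat.lt_two_pow_self (r - 1)
    omega
  obtain rfl : a = 2 := by omega
  have := Fact.mk hr
  have hm0 : m ≠ 0 := by rintro rfl; exact hm (dvd_zero r)
  have hm1 : m ≠ 1 := by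
    rintro rfl
    rw [orderOf_eq_one_iff] at hord
    have h1 : ((1 : ℕ) : ZMod r) = 0 := by
      have := congrArg (fun x : ZMod r => x - 1) hord
      push_cast at this ⊢
      linear_combination this
    rw [ZMod.natCast_eq_zero_iff] at h1
    exact hr.ne_one (Nat.dvd_one.1 h1)
  have hmle : m ≤ r - 1 := Nat.le_of_dvd (by have := hr.two_le; omega) hmr
  have hr3 : 3 ≤ r := by omega
  by_cases hk2 : 2 ≤ k
  · -- `n = n' * r` with `r ∣ n'`
    set n' := r ^ (k - 1) * m with hn'def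
    have hn' : n = n' * r := by
      rw [hnkm, hn'def, mul_right_comm, ← pow_succ, Nat.sub_add_cancel hk]
    have hrn' : r ∣ n' := Dvd.dvd.mul_right (dvd_pow_self r (by omega)) m
    have hn'1 : 1 < n' := by
      have := Nat.le_of_dvd (Nat.pos_of_ne_zero (by rintro h; rw [h] at hn'; omega)) hrn'
      omega
    have he := congrArg (Polynomial.eval (2 : ℤ))
      (Polynomial.cyclotomic_expand_eq_cyclotomic hr hrn' ℤ)
    rw [Polynomial.expand_eval] at he
    have h := Polynomial.sub_one_pow_totient_lt_natAbs_cyclotomic_eval hn'1 (q := 2 ^ r)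
      (by have := @Nat.lt_two_pow_self r; omega)
    push_cast at h hval
    rw [he, ← hn', hval] at h
    have h1 : 2 ^ r - 1 ≤ (2 ^ r - 1) ^ n'.totient :=
      Nat.le_self_pow (Nat.totient_pos.2 (by omega)).ne' _
    have := @Nat.lt_two_pow_self r
    omega
  · obtain rfl : k = 1 := by omega
    rw [pow_one] at hnkm
    by_cases hm2 : m = 2
    · -- then `r = 3` and `n = 6`
      subst hm2
      have hsq : ((2 : ℕ) : ZMod r) ^ 2 = 1 := orderOf_dvd_iff_pow_eq_one.1 (dvd_of_eq hord)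
      have h3 : ((3 : ℕ) : ZMod r) = 0 := by
        push_cast at hsq ⊢
        linear_combination hsq
      rw [ZMod.natCast_eq_zero_iff] at h3
      have := (Nat.prime_dvd_prime_iff_eq hr Nat.prime_three).1 h3
      exact h6 ⟨rfl, by omega⟩
    have hm3 : 3 ≤ m := by omega
    have hr5 : 5 ≤ r := by
      have : r ≠ 4 := by rintro rfl; exact absurd hr (by norm_num)
      omega
    have he := congrArg (Polynomial.eval (2 : ℤ))
      (Polynomial.cyclotomic_expand_eq_cyclotomic_mul hr hm ℤ)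
    rw [Polynomial.expand_eval, Polynomial.eval_mul, mul_comm m r, ← hnkm] at he
    push_cast at hval
    have hlow := Polynomial.sub_one_pow_totient_lt_natAbs_cyclotomic_eval (show 1 < m by omega)
      (q := 2 ^ r) (by have := @Nat.lt_two_pow_self r; omega)
    push_cast at hlow
    rw [he, Int.natAbs_mul, hval] at hlow
    have hup : ((Polynomial.cyclotomic m ℤ).eval (2 : ℤ)).natAbs < 3 ^ m.totient := by
      have h := Polynomial.cyclotomic_eval_lt_add_one_pow_totient hm3 (q := (2 : ℝ)) (by norm_num)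
      have hpos := Polynomial.cyclotomic_pos' m (R := ℤ) (x := 2) (by norm_num)
      have hcast : (Polynomial.cyclotomic m ℝ).eval (2 : ℝ) =
          (((Polynomial.cyclotomic m ℤ).eval (2 : ℤ) : ℤ) : ℝ) := by
        have := Polynomial.cyclotomic.eval_apply (2 : ℤ) m (algebraMap ℤ ℝ)
        simpa using this
      rw [hcast, show (2 : ℝ) + 1 = ((3 : ℤ) : ℝ) by norm_num, ← Int.cast_pow, Int.cast_lt] at h
      zify
      rw [abs_of_pos hpos]
      exact h
    have hφ : m.totient ≠ 0 := (Nat.totient_pos.2 (by omega)).ne'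
    have h1 : r * 3 ^ m.totient ≤ (3 * r) ^ m.totient := by
      rw [mul_pow, mul_comm]
      exact Nat.mul_le_mul_left _ (Nat.le_self_pow hφ r)
    have h2' : (2 ^ r - 1) ^ m.totient < (3 * r) ^ m.totient :=
      hlow.trans_le ((Nat.mul_le_mul_left r hup.le).trans h1)
    have := zsig_aux_growth r hr5
    have := lt_of_pow_lt_pow_left₀ _ (Nat.zero_le _) h2'
    omega

end Cfsg.Agent.S2904
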