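import Cfsg.Statements.S0688
import Cfsg.Agent.Lib.SmallGroups.LinearRegular
import Cfsg.Agent.S3360
import Mathlib

set_option autoImplicit false
open Cfsg

namespace Cfsg.Agent.S0688

/-- Degrees of the soluble exceptional sharply doubly transitive groups: if a solvable linear group over the prime field is regular on the non-zero vectors of `V` and has no irreducible cyclic normal subgroup, then `V` has 25, 49, 121 or 529 elements. -/
theorem result {p : ℕ} [Fact p.Prime] {V : Type*} [AddCommGroup V] [Module (ZMod p) V] [Finite V] (H : Subgroup (V ≃ₗ[ZMod p] V)) (hreg : ∀ v w : V, v ≠ 0 → w ≠ 0 → ∃! h : H, (h : V ≃ₗ[ZMod p] V) v = w) (hI : ∀ A : Subgroup H, A.Normal → IsCyclic A → ∃ W : Submodule (ZMod p) V, W ≠ ⊥ ∧ W ≠ ⊤ ∧ ∀ a ∈ A, ∀ v ∈ W, ((a : H) : V ≃ₗ[ZMod p] V) v ∈ W) (hsolv : Group.IsSolvable H) : Nat.card V = 25 ∨ Nat.card V = 49 ∨ Nat.card V = 121 ∨ Nat.card V = 529 := by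
  classical
  haveI : Finite (V ≃ₗ[ZMod p] V) := Finite.of_injective _ DFunLike.coe_injective
  have hp : p.Prime := Fact.out
  have hp2 := hp.two_le
  obtain ⟨W₀, hW₀, hW₀t, -⟩ := hI ⊥ inferInstance inferInstance
  haveI : Nontrivial V := by
    by_contra h
    rw [not_nontrivial_iff_subsingleton] at h
    exact hW₀ (Subsingleton.elim _ _)
  have hH := (CfsgLib.SmallGroups.LinearRegular.card_add_one hreg).resolve_right (not_subsingleton V)
  have hVn : Nat.card V = p ^ Module.finrank (ZMod p) V := by
    rw [Module.natCard_eq_pow_finrank (K := ZMod p) (V := V), Nat.card_zmod]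
  -- cyclic normal subgroups are small
  have small : ∀ A : Subgroup H, A.Normal → IsCyclic A →
      ∃ k, 1 ≤ k ∧ 2 * k ≤ Module.finrank (ZMod p) V ∧ Nat.card A ∣ p ^ k - 1 :=
    fun A hA hc => CfsgLib.SmallGroups.LinearRegular.exists_small_dvd hreg A hA (hI A hA hc)
  rcases Cfsg.Agent.S3360.result p hsolv H.subtype Subtype.val_injective
      (fun v w hv hw => (hreg v w hv hw).exists) with ⟨F, hF, hFf, e, he⟩ | h
  · exfalso
    simp only [Subgroup.coe_subtype] at he
    choose a σ hσ using he
    have hnz : ∀ g, a g ≠ 0 := by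
      intro g h0
      obtain ⟨v, hv⟩ := exists_ne (0 : V)
      have h1 := hσ g v
      rw [h0, zero_mul, ← map_zero e, e.apply_eq_iff_eq, LinearEquiv.map_eq_zero_iff] at h1
      exact hv h1
    have hval : ∀ (g : H) (x : F), e ((g : V ≃ₗ[ZMod p] V) (e.symm x)) = a g * σ g x := fun g x => by
      rw [hσ, e.apply_symm_apply]
    have haone : ∀ g : H, a g = e ((g : V ≃ₗ[ZMod p] V) (e.symm 1)) := fun g => by
      rw [hval, map_one, mul_one]
    have hmul : ∀ g h : H, ∀ x, a (g * h) * σ (g * h) x = a g * (σ g (a h) * σ g (σ h x)) := by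
      intro g h x
      rw [← hval, Subgroup.coe_mul, LinearEquiv.mul_apply, hσ, hval, map_mul]
    have hamul : ∀ g h : H, a (g * h) = a g * σ g (a h) := fun g h => by
      have := hmul g h 1
      rwa [map_one, map_one, map_one, mul_one, mul_one] at this
    haveI : Finite (RingAut F) := Finite.of_injective (fun s : F ≃+* F => (s : F → F)) DFunLike.coe_injective
    let ψ : H →* RingAut F := MonoidHom.mk' σ fun g h => RingEquiv.ext fun x => by
      refine mul_left_cancel₀ (hnz (g * h)) ?_
      show a (g * h) * σ (g * h) x = a (g * h) * σ g (σ h x)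
      rw [hmul, hamul, mul_assoc]
    set A := ψ.ker with hA
    have hA1 : ∀ g ∈ A, ∀ x, σ g x = x := fun g hg x => by
      rw [show σ g = 1 from hg]; rfl
    let f : A →* F :=
      { toFun := fun g => a g
        map_one' := by
          show a ((1 : A) : H) = 1
          rw [Subgroup.coe_one, haone, Subgroup.coe_one, LinearEquiv.one_eq_refl,
            LinearEquiv.refl_apply, e.apply_symm_apply]
        map_mul' := fun g h => by
          show a ((g * h : A) : H) = a g * a h
          rw [Subgroup.coe_mul, hamul, hA1 _ g.2] }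
    have hf : Function.Injective f := by
      intro g h hgh
      have h0 : e.symm (1 : F) ≠ 0 := fun h0 => by
        have h1 := congrArg e h0
        rw [e.apply_symm_apply, map_zero] at h1
        exact one_ne_zero h1
      refine Subtype.ext ((hreg _ _ h0 (fun h1 => h0 ((LinearEquiv.map_eq_zero_iff _).mp h1))).unique
        ?_ (rfl : ((h : H) : V ≃ₗ[ZMod p] V) (e.symm 1) = _))
      apply e.injective
      rw [← haone, ← haone]
      exact hgh
    have hcyc : IsCyclic A := isCyclic_of_injective_ringHom f hf
    obtain ⟨k, hk1, hk2, hkd⟩ := small A inferInstance hcyc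
    set n := Module.finrank (ZMod p) V
    have hcF : Nat.card F = p ^ n := by rw [← hVn, Nat.card_congr e.toEquiv]
    haveI : CharP F p := by
      refine (CharP.charP_iff_prime_eq_zero hp).mpr ?_
      rw [← mul_one (p : F), ← nsmul_eq_mul, ← e.apply_symm_apply (1 : F), ← map_nsmul,
        ← Nat.cast_smul_eq_nsmul (ZMod p), ZMod.natCast_self, zero_smul, map_zero]
    letI : Algebra (ZMod p) F := ZMod.algebra F p
    have hdim : Module.finrank (ZMod p) F = n := by
      have h1 := Module.natCard_eq_pow_finrank (K := ZMod p) (V := F)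
      rw [Nat.card_zmod, hcF] at h1
      exact (Nat.pow_right_injective hp2 h1).symm
    have hR : Nat.card ψ.range ≤ n := by
      rw [← hdim]
      refine le_trans ?_ (AlgEquiv.card_le (F := ZMod p) (K := F))
      rw [← Nat.card_eq_fintype_card]
      refine Nat.card_le_card_of_injective (fun s => AlgEquiv.ofRingEquiv (f := s.1) fun c =>
        RingHom.congr_fun (Subsingleton.elim ((s.1 : F →+* F).comp (algebraMap (ZMod p) F))
          (algebraMap (ZMod p) F)) c) fun s t hst => ?_
      exact Subtype.ext (RingEquiv.ext fun x => AlgEquiv.congr_fun hst x)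
    have hcard : Nat.card H = Nat.card A * Nat.card ψ.range := by
      rw [← Subgroup.index_ker, Subgroup.card_mul_index]
    have hAle : Nat.card A + 1 ≤ p ^ k := by
      have h1 := Nat.le_of_dvd (by
        have := Nat.one_lt_pow (by omega : k ≠ 0) hp.one_lt
        omega) hkd
      have := Nat.one_lt_pow (by omega : k ≠ 0) hp.one_lt
      omega
    have hnk : n ≤ p ^ (n - k) := by
      have h1 : 2 ^ (n - k) ≤ p ^ (n - k) := Nat.pow_le_pow_left hp2 _
      have h2 : ∀ m : ℕ, 2 * m ≤ 2 ^ m := fun m => by
        induction m with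
        | zero => simp
        | succ m ih =>
          have := Nat.one_le_two_pow (n := m)
          rw [pow_succ]; omega
      have := h2 (n - k)
      omega
    rw [hVn, hcard, show n = k + (n - k) by omega, pow_add] at hH
    have hR1 : 1 ≤ Nat.card ψ.range := Nat.card_pos
    have hone : 2 ≤ p ^ (n - k) := le_trans hp2 (Nat.le_self_pow (by omega) p)
    nlinarith [Nat.mul_le_mul hAle (le_trans hR hnk)]
  · simp only [Set.mem_insert_iff, Set.mem_singleton_iff] at h
    have hinv : ∀ z : H, z * z = 1 → z ≠ 1 → ∀ g : H, g * z = z * g := by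
      intro z hz hz1 g
      refine Subtype.ext (LinearEquiv.ext fun v => ?_)
      simp only [Subgroup.coe_mul, LinearEquiv.mul_apply,
        CfsgLib.SmallGroups.LinearRegular.involution_eq_neg hreg hz hz1, map_neg]
    rcases h with h | h | h | h | h | h
    · exfalso
      have hc8 : Nat.card H = 8 := by omega
      have hpn := hVn ▸ h
      have hp3 : p = 3 ∧ Module.finrank (ZMod p) V = 2 := by
        have hd : p ∣ 9 := hpn ▸ dvd_pow_self p (by intro h0; rw [h0, pow_zero] at hpn; omega)
        have h3 : p = 3 := (Nat.prime_dvd_prime_iff_eq hp Nat.prime_three).mp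
          ((hp.dvd_mul).mp (show p ∣ 3 * 3 from hd) |>.elim id id)
        subst h3
        exact ⟨rfl, Nat.pow_right_injective (le_refl 2 |>.trans (by norm_num)) (hpn.trans (by norm_num : 9 = 3 ^ 2))⟩
      obtain ⟨x, hx⟩ : ∃ x : H, 4 ∣ orderOf x := by
        by_contra hno
        push Not at hno
        have hall : ∀ x : H, x * x = 1 := fun x => by
          have hd : orderOf x ∣ 2 ^ 3 := by rw [show (2 : ℕ) ^ 3 = Nat.card H by omega]; exact orderOf_dvd_natCard x
          obtain ⟨i, hi, hxi⟩ := (Nat.dvd_prime_pow Nat.prime_two).mp hd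
          have hi1 : i ≤ 1 := by
            by_contra hi'
            exact hno x (hxi ▸ pow_dvd_pow 2 (by omega : 2 ≤ i))
          rw [← pow_two, ← orderOf_dvd_iff_pow_eq_one, hxi]
          exact (pow_dvd_pow 2 hi1).trans (by norm_num)
        have hsub : ∀ z w : H, z ≠ 1 → w ≠ 1 → z = w := fun z w hz hw =>
          Subtype.ext (LinearEquiv.ext fun v => by
            rw [CfsgLib.SmallGroups.LinearRegular.involution_eq_neg hreg (hall z) hz,
              CfsgLib.SmallGroups.LinearRegular.involution_eq_neg hreg (hall w) hw])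
        have : Nat.card H ≤ 2 := by
          rw [← Fintype.card_bool, ← Nat.card_eq_fintype_card]
          refine Nat.card_le_card_of_injective (fun z : H => decide (z = 1)) fun z w hzw => ?_
          rw [decide_eq_decide] at hzw
          by_cases hz : z = 1
          · rw [hz, hzw.mp hz]
          · exact hsub z w hz fun hw => hz (hzw.mpr hw)
        omega
      set A := Subgroup.zpowers x with hA
      have hA4 : 4 ∣ Nat.card A := by rwa [hA, Nat.card_zpowers]
      have hidx : A.index ∣ 2 := by
        have h1 := A.card_mul_index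
        rw [hc8] at h1
        obtain ⟨c, hc⟩ := hA4
        refine Dvd.intro_left c ?_
        rw [hc, mul_assoc] at h1
        omega
      haveI : A.Normal := by
        rcases (Nat.dvd_prime Nat.prime_two).mp hidx with h1 | h1
        · rw [Subgroup.index_eq_one.mp h1]; infer_instance
        · exact Subgroup.normal_of_index_eq_two h1
      obtain ⟨k, hk1, hk2, hkd⟩ := small A inferInstance inferInstance
      rw [hp3.2] at hk2
      obtain ⟨rfl, -⟩ := hp3
      rw [show k = 1 by omega] at hkd
      exact absurd (hA4.trans hkd) (by norm_num)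
    · exact Or.inl h
    · exact Or.inr (Or.inl h)
    · exact Or.inr (Or.inr (Or.inl h))
    · exact Or.inr (Or.inr (Or.inr h))
    · exfalso
      have hc : Nat.card H = 80 := by omega
      have hpn := hVn ▸ h
      have hd : p ∣ 81 := hpn ▸ dvd_pow_self p (by intro h0; rw [h0, pow_zero] at hpn; omega)
      have h3 : p = 3 := by
        have : p ∣ 3 ^ 4 := by norm_num; exact hd
        exact (Nat.prime_dvd_prime_iff_eq hp Nat.prime_three).mp (hp.dvd_of_dvd_pow this)
      subst h3
      have hn4 : Module.finrank (ZMod 3) V = 4 :=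
        Nat.pow_right_injective (by norm_num : 2 ≤ 3) (hpn.trans (by norm_num : 81 = 3 ^ 4))
      haveI : Fact (Nat.Prime 5) := ⟨by norm_num⟩
      obtain ⟨P⟩ : Nonempty (Sylow 5 H) := inferInstance
      have hP : Nat.card (P : Subgroup H) = 5 := by
        rw [P.card_eq_multiplicity, hc, show (80 : ℕ) = 5 * 16 by norm_num,
          Nat.factorization_mul (by norm_num) (by norm_num), Finsupp.add_apply,
          (Nat.Prime.factorization_self (by norm_num)),
          Nat.factorization_eq_zero_of_not_dvd (by norm_num : ¬ 5 ∣ 16), pow_one]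
      haveI : IsCyclic (P : Subgroup H) := isCyclic_of_prime_card hP
      have hmod := card_sylow_modEq_one 5 H
      have hmul := P.card_eq_index_normalizer
      obtain ⟨z, hz⟩ := exists_prime_orderOf_dvd_card' (G := H) 2 (by rw [hc]; norm_num)
      have hzz : z * z = 1 := by rw [← pow_two, ← hz, pow_orderOf_eq_one]
      have hz1 : z ≠ 1 := fun e => by rw [e, orderOf_one] at hz; omega
      set N := Subgroup.normalizer ((P : Subgroup H) : Set H) with hN
      have hzN : z ∈ N := by
        intro y
        rw [← hinv z hzz hz1 y, mul_inv_cancel_right]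
      have hN10 : 10 ∣ Nat.card N := by
        refine Nat.Coprime.mul_dvd_of_dvd_of_dvd (show Nat.Coprime 2 5 by norm_num) ?_ ?_
        · rw [← hz, ← Subgroup.orderOf_mk z hzN]; exact orderOf_dvd_natCard _
        · rw [← hP]; exact Subgroup.card_dvd_of_le Subgroup.le_normalizer
      have hi := N.card_mul_index
      rw [hc] at hi
      obtain ⟨c, hc10⟩ := hN10
      rw [hc10] at hi
      have hidx8 : N.index ∈ Nat.divisors 8 := by
        refine Nat.mem_divisors.mpr ⟨Dvd.intro_left c ?_, by norm_num⟩
        rw [mul_assoc] at hi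
        omega
      have hidx1 : N.index = 1 := by
        have hall : ∀ i ∈ Nat.divisors 8, i % 5 = 1 → i = 1 := by decide +kernel
        refine hall _ hidx8 ?_
        have hm : N.index ≡ 1 [MOD 5] := by
          have h5 := hmod
          rw [hmul] at h5
          exact h5
        exact hm
      haveI : (P : Subgroup H).Normal := Subgroup.normalizer_eq_top_iff.mp (Subgroup.index_eq_one.mp hidx1)
      obtain ⟨k, hk1, hk2, hkd⟩ := small P inferInstance inferInstance
      rw [hn4] at hk2
      rw [hP] at hkd
      rcases (show k = 1 ∨ k = 2 by omega) with rfl | rfl <;> norm_num at hkd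

end Cfsg.Agent.S0688
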