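import Cfsg.Statements.S4292
import Cfsg.Agent.Lib.FGS.FPFCharChange
import Cfsg.Agent.Lib.FGS.FPFComplement
import Cfsg.Agent.Lib.Solvable.Frobenius
import Cfsg.Agent.Lib.Solvable.FrobeniusComplement
import Cfsg.Agent.Lib.Solvable.FrobeniusTheorem

set_option autoImplicit false
open Cfsg

namespace Cfsg.Agent.S4292
open CfsgLib.FGS

universe u v

theorem one_notMem_of_mulAut {A : Type u} [Group A] [Finite A] {E : Type v} [CommGroup E] [Nontrivial E] {r : ℕ}
    [Fact r.Prime] (φ : A →* MulAut E) (hexp : ∀ x : E, x ^ r = 1) (hfpf : ∀ a, a ≠ 1 → ∀ x, φ a x = x → x = 1) :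
    (1 : MonoidAlgebra (ZMod r) A) ∉ CharChange.idl (ZMod r) A := by
  letI : Module (ZMod r) (Additive E) :=
    AddCommGroup.zmodModule (n := r) fun a => Additive.toMul.injective (hexp a.toMul)
  let act : A → (Additive E →+ Additive E) := fun a => (MonoidHom.toAdditive (φ a).toMonoidHom)
  let ρ : A →* Module.End (ZMod r) (Additive E) :=
    { toFun := fun a => (act a).toZModLinearMap r
      map_one' := LinearMap.ext fun v => by simp [act]
      map_mul' := fun a b => LinearMap.ext fun v => by simp [act] }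
  exact CharChange.one_notMem_of_fpf (Additive E) ρ fun a ha v hv => hfpf a ha v.toMul (congrArg Additive.toMul hv)

/-- A Frobenius complement has a fixed-point-free linear action in some prime characteristic. -/
theorem exists_rep {A : Type u} [Group A] [Finite A]
    (h : ∃ (L : Type) (_ : Group L) (_ : Finite L) (H : Subgroup L), Cfsg.IsFrobeniusComplement H ∧ Nonempty (A ≃* H)) :
    ∃ (r : ℕ) (_ : Fact r.Prime), ¬ r ∣ Nat.card A ∧ (1 : MonoidAlgebra (ZMod r) A) ∉ CharChange.idl (ZMod r) A := by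
  classical
  obtain ⟨L, _, _, H, hF, ⟨eA⟩⟩ := h
  obtain ⟨N, hN, hNn, hcomp⟩ := CfsgLib.Solvable.frobenius_theorem hF
  haveI := hNn
  have hNb : N ≠ ⊥ := by
    intro h
    rw [h, Subgroup.isComplement'_bot_left] at hcomp
    exact hF.2.1 hcomp
  have hfpf := (CfsgLib.Solvable.isFrobeniusComplement_iff_fpf hcomp hNb hF.1).1 hF
  have hcop := CfsgLib.Solvable.coprime_card_of_fpf (show H ≤ Subgroup.normalizer (N : Set L) by
    rw [Subgroup.normalizer_eq_top]; exact le_top) hfpf
  have hNidx : N.index = Nat.card H := hcomp.symm.index_eq_card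
  obtain ⟨r, hr, hrN⟩ := Nat.exists_prime_and_dvd (fun h => hNb (Subgroup.card_eq_one.1 h))
  haveI : Fact r.Prime := ⟨hr⟩
  have hrA : ¬ r ∣ Nat.card A := by
    rw [Nat.card_congr eA.toEquiv]
    exact fun hd => hr.ne_one (Nat.eq_one_of_dvd_coprimes hcop hd hrN)
  obtain ⟨R⟩ : Nonempty (Sylow r N) := inferInstance
  set R₀ := (R : Subgroup N).map N.subtype with hR₀
  set M := Subgroup.normalizer (R₀ : Set L) with hM
  have hMN : M ⊔ N = ⊤ := Sylow.normalizer_sup_eq_top R
  have hidx : (N.subgroupOf M).index = N.index := by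
    show N.relIndex M = N.index
    rw [← Subgroup.relIndex_sup_left, sup_comm, hMN, Subgroup.relIndex_top_right]
  obtain ⟨C, hC⟩ := Subgroup.exists_right_complement'_of_coprime (N := N.subgroupOf M) (by
    rw [hidx, hNidx]
    exact (hcop.coprime_dvd_right (by
      rw [← Subgroup.card_map_of_injective M.subtype_injective, Subgroup.subgroupOf_map_subtype]
      exact Subgroup.card_dvd_of_le inf_le_left)).symm)
  have hCcard : Nat.card C = Nat.card H := by rw [← hC.symm.index_eq_card, hidx, hNidx]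
  let q : C →* L ⧸ N := (QuotientGroup.mk' N).comp (M.subtype.comp C.subtype)
  have hq : Function.Injective q := by
    rw [injective_iff_map_eq_one]
    intro c hc
    have h1 : (c : M) ∈ N.subgroupOf M ⊓ C := ⟨(QuotientGroup.eq_one_iff ((c : M) : L)).1 hc, c.2⟩
    rw [hC.disjoint.eq_bot, Subgroup.mem_bot] at h1
    exact Subtype.ext h1
  let qH : H →* L ⧸ N := (QuotientGroup.mk' N).comp H.subtype
  have hqH : Function.Injective qH := by
    rw [injective_iff_map_eq_one]
    intro c hc
    have h1 : (c : L) ∈ N ⊓ H := ⟨(QuotientGroup.eq_one_iff _).1 hc, c.2⟩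
    rw [hcomp.disjoint.eq_bot, Subgroup.mem_bot] at h1
    exact Subtype.ext h1
  have hLN : Nat.card (L ⧸ N) = Nat.card H := hNidx
  let eC := MulEquiv.ofBijective q ((Nat.bijective_iff_injective_and_card q).2 ⟨hq, by rw [hCcard, hLN]⟩)
  let eH := MulEquiv.ofBijective qH ((Nat.bijective_iff_injective_and_card qH).2 ⟨hqH, hLN.symm⟩)
  let s : A →* L := (M.subtype.comp C.subtype).comp ((eA.trans eH).trans eC.symm).toMonoidHom
  have hsM : ∀ a, s a ∈ M := fun a => ((((eA.trans eH).trans eC.symm) a : C) : M).2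
  have hsN : ∀ a, a ≠ 1 → s a ∉ N := by
    intro a ha h
    apply ha
    have h1 : q (((eA.trans eH).trans eC.symm) a) = 1 := (QuotientGroup.eq_one_iff _).2 h
    rw [← map_one q] at h1
    exact ((eA.trans eH).trans eC.symm).injective ((hq h1).trans (map_one _).symm)
  -- the module
  let E : Subgroup L :=
    { carrier := {x | x ∈ R₀ ∧ (∀ y ∈ R₀, x * y = y * x) ∧ x ^ r = 1}
      one_mem' := ⟨R₀.one_mem, fun y _ => by simp, one_pow r⟩
      mul_mem' := fun {a b} ha hb => ⟨R₀.mul_mem ha.1 hb.1,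
        fun y hy => (Commute.mul_left (ha.2.1 y hy) (hb.2.1 y hy)).eq,
        by rw [Commute.mul_pow (ha.2.1 b hb.1), ha.2.2, hb.2.2, one_mul]⟩
      inv_mem' := fun {a} ha => ⟨R₀.inv_mem ha.1, fun y hy => (Commute.inv_left (ha.2.1 y hy)).eq,
        by rw [inv_pow, ha.2.2, inv_one]⟩ }
  have hEconj : ∀ g ∈ M, ∀ x ∈ E, g * x * g⁻¹ ∈ E := by
    intro g hg x hx
    refine ⟨(Subgroup.mem_normalizer_iff.1 hg x).1 hx.1, fun y hy => ?_, by rw [conj_pow, hx.2.2]; simp⟩
    have h1 : g⁻¹ * y * g ∈ R₀ := (Subgroup.mem_normalizer_iff.1 hg _).2 (by simpa [mul_assoc] using hy)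
    calc g * x * g⁻¹ * y = g * (x * (g⁻¹ * y * g)) * g⁻¹ := by group
      _ = _ := by rw [hx.2.1 _ h1]; group
  have hEne : ∃ x ∈ E, x ≠ 1 := by
    have hRp : IsPGroup r R₀ := R.2.map _
    have hdvd : r ∣ Nat.card R₀ := by
      rw [hR₀, Subgroup.card_map_of_injective N.subtype_injective]
      exact R.dvd_card_of_dvd_card hrN
    haveI : Nontrivial R₀ := by
      rw [← Finite.one_lt_card_iff_nontrivial]
      exact lt_of_lt_of_le hr.one_lt (Nat.le_of_dvd Nat.card_pos hdvd)
    haveI := hRp.center_nontrivial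
    obtain ⟨n, hn⟩ := IsPGroup.iff_card.1 (hRp.to_subgroup (Subgroup.center R₀))
    have hn0 : n ≠ 0 := by
      rintro rfl
      rw [pow_zero] at hn
      exact absurd (Finite.one_lt_card (α := Subgroup.center R₀)) (by omega)
    obtain ⟨z, hz⟩ := exists_prime_orderOf_dvd_card' (G := Subgroup.center R₀) r (hn ▸ dvd_pow_self r hn0)
    refine ⟨((z : R₀) : L), ⟨(z : R₀).2, fun y hy => congrArg Subtype.val (Subgroup.mem_center_iff.1 z.2 ⟨y, hy⟩).symm, ?_⟩, fun h => ?_⟩
    · rw [← SubmonoidClass.coe_pow, ← SubmonoidClass.coe_pow, ← hz, pow_orderOf_eq_one]; rfl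
    · have hz1 : z = 1 := Subtype.ext (Subtype.ext h)
      rw [hz1, orderOf_one] at hz
      exact hr.ne_one hz.symm
  letI : CommGroup E :=
    { (inferInstance : Group E) with mul_comm := fun a b => Subtype.ext (a.2.2.1 _ b.2.1) }
  haveI : Nontrivial E := by
    obtain ⟨x, hx, hx1⟩ := hEne
    exact ⟨⟨⟨x, hx⟩, 1, fun h => hx1 (congrArg Subtype.val h)⟩⟩
  have hEM : ∀ a, s a ∈ Subgroup.normalizer (E : Set L) := fun a => by
    refine Subgroup.mem_normalizer_iff.2 fun x => ⟨hEconj _ (hsM a) x, fun hx => ?_⟩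
    have := hEconj _ (M.inv_mem (hsM a)) _ hx
    simpa [mul_assoc] using this
  let φ : A →* MulAut E := E.normalizerMonoidHom.comp (s.codRestrict _ hEM)
  refine ⟨r, inferInstance, hrA, one_notMem_of_mulAut φ (fun x => Subtype.ext x.2.2.2) fun a ha v hv => ?_⟩
  have hfix : s a * (v : L) * (s a)⁻¹ = v := congrArg Subtype.val hv
  have hmem : s a ∉ Cfsg.frobeniusKernel H := fun h => hsN a ha (by rwa [← hN] at h)
  rw [CfsgLib.Solvable.mem_frobeniusKernel_iff] at hmem
  simp only [not_or, not_forall, not_not] at hmem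
  obtain ⟨h1, g, hg⟩ := hmem
  set e : L := (v : L)
  have hin : g⁻¹ * e * g ∈ H := by
    refine CfsgLib.Solvable.frobenius_mem_of_commute hF hg (fun h => h1 ?_) ?_
    · rw [show s a = g * (g⁻¹ * s a * g) * g⁻¹ by group, h]; group
    · calc g⁻¹ * e * g * (g⁻¹ * s a * g) = g⁻¹ * (e * s a) * g := by group
        _ = _ := by rw [← mul_inv_eq_iff_eq_mul.1 hfix]; group
  have heN : g⁻¹ * e * g ∈ N := by
    have h2 : e ∈ N := Subgroup.map_subtype_le _ v.2.1
    have := hNn.conj_mem _ h2 g⁻¹
    rwa [inv_inv] at this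
  have h3 : g⁻¹ * e * g ∈ N ⊓ H := ⟨heN, hin⟩
  rw [hcomp.disjoint.eq_bot, Subgroup.mem_bot] at h3
  have he : e = 1 := by rw [show e = g * (g⁻¹ * e * g) * g⁻¹ by group, h3]; group
  exact Subtype.ext he

theorem exists_complement_of_embedding {A : Type u} {B : Type v} [Group A] [Finite A] [Nontrivial A] [Group B] [Finite B]
    (ι : A →* B) (hι : Function.Injective ι)
    (h : ∃ (L : Type) (_ : Group L) (_ : Finite L) (H : Subgroup L), Cfsg.IsFrobeniusComplement H ∧ Nonempty (B ≃* H)) :
    ∃ (L : Type) (_ : Group L) (_ : Finite L) (H : Subgroup L), Cfsg.IsFrobeniusComplement H ∧ Nonempty (A ≃* H) := by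
  obtain ⟨r, hr, hrB, h1⟩ := exists_rep h
  haveI := hr
  obtain ⟨V, _, _, _, _, ρ, hfpf⟩ := CharChange.exists_fpf_module hrB h1
  exact exists_complement_of_fpf A V (fun a v => ρ (ι a) v) (fun a u v => map_add _ u v)
    (fun v => by rw [map_one, map_one, Module.End.one_apply]) (fun a b v => by rw [map_mul, map_mul, Module.End.mul_apply])
    (fun a ha v hv => hfpf _ (fun e => ha (hι (e.trans (map_one ι).symm))) v hv)


/-- Let A and B be nontrivial finite groups. Then the direct product A × B occurs as a Frobenius complement if and only if A and B both occur as Frobenius complements and the orders of A and B are coprime. -/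
theorem result {A B : Type*} [Group A] [Finite A] [Nontrivial A] [Group B] [Finite B] [Nontrivial B] :
    (∃ (L : Type) (_ : Group L) (_ : Finite L) (H : Subgroup L), Cfsg.IsFrobeniusComplement H ∧ Nonempty ((A × B) ≃* H)) ↔
    ((∃ (L : Type) (_ : Group L) (_ : Finite L) (H : Subgroup L), Cfsg.IsFrobeniusComplement H ∧ Nonempty (A ≃* H)) ∧
     (∃ (L : Type) (_ : Group L) (_ : Finite L) (H : Subgroup L), Cfsg.IsFrobeniusComplement H ∧ Nonempty (B ≃* H)) ∧
     (Nat.card A).Coprime (Nat.card B)) := by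
  classical
  constructor
  · intro h
    refine ⟨exists_complement_of_embedding (MonoidHom.inl A B) (fun a b e => congrArg Prod.fst e) h,
      exists_complement_of_embedding (MonoidHom.inr A B) (fun a b e => congrArg Prod.snd e) h, ?_⟩
    obtain ⟨L, _, _, H, hF, ⟨e⟩⟩ := h
    obtain ⟨N, hN, hNn, hcomp⟩ := CfsgLib.Solvable.frobenius_theorem hF
    haveI := hNn
    have hNb : N ≠ ⊥ := by
      intro h
      rw [h, Subgroup.isComplement'_bot_left] at hcomp
      exact hF.2.1 hcomp
    have hfpf := (CfsgLib.Solvable.isFrobeniusComplement_iff_fpf hcomp hNb hF.1).1 hF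
    by_contra hc
    obtain ⟨p, hp, hpA, hpB⟩ := Nat.Prime.not_coprime_iff_dvd.1 hc
    haveI : Fact p.Prime := ⟨hp⟩
    obtain ⟨a, ha⟩ := exists_prime_orderOf_dvd_card' (G := A) p hpA
    obtain ⟨b, hb⟩ := exists_prime_orderOf_dvd_card' (G := B) p hpB
    let ι : A × B →* L := H.subtype.comp e.toMonoidHom
    have hι : Function.Injective ι := H.subtype_injective.comp e.injective
    have ho1 : orderOf (ι (a, 1)) = p := by rw [orderOf_injective ι hι, Prod.orderOf_mk, orderOf_one, Nat.lcm_one_right, ha]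
    have ho2 : orderOf (ι (1, b)) = p := by rw [orderOf_injective ι hι, Prod.orderOf_mk, orderOf_one, Nat.lcm_one_left, hb]
    obtain ⟨k, hk⟩ := CfsgLib.Solvable.mem_zpowers_of_fpf hNb (by rw [Subgroup.normalizer_eq_top]; exact le_top) hfpf
      (e (a, 1)).2 (e (1, b)).2
      (show ι (a, 1) * ι (1, b) = ι (1, b) * ι (a, 1) by rw [← map_mul, ← map_mul]; congr 1; simp)
      (ho1.trans ho2.symm)
    have h2 : ((1, b) : A × B) ^ k = (a, 1) := hι (by rw [map_zpow]; exact hk)
    have h3 : a = 1 := by simpa using (congrArg Prod.fst h2).symm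
    rw [h3, orderOf_one] at ha
    exact hp.ne_one ha.symm
  · rintro ⟨hA, hB, hco⟩
    obtain ⟨r₁, hr₁, hr₁A, hA1⟩ := exists_rep hA
    obtain ⟨r₂, hr₂, hr₂B, hB1⟩ := exists_rep hB
    obtain ⟨r, hrle, hr⟩ := Nat.exists_infinite_primes (Nat.card A * Nat.card B + 1)
    haveI := hr₁
    haveI := hr₂
    haveI : Fact r.Prime := ⟨hr⟩
    have hrA : ¬ r ∣ Nat.card A := fun hd => by
      have := Nat.le_of_dvd Nat.card_pos hd
      have := Nat.le_mul_of_pos_right (Nat.card A) (Nat.card_pos (α := B))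
      omega
    have hrB : ¬ r ∣ Nat.card B := fun hd => by
      have := Nat.le_of_dvd Nat.card_pos hd
      have := Nat.le_mul_of_pos_left (Nat.card B) (Nat.card_pos (α := A))
      omega
    obtain ⟨V, _, _, _, _, ρ, hρ⟩ := CharChange.exists_fpf_module hrA (CharChange.one_notMem_change (r' := r) hr₁A hA1)
    obtain ⟨W, _, _, _, _, σ, hσ⟩ := CharChange.exists_fpf_module hrB (CharChange.one_notMem_change (r' := r) hr₂B hB1)
    haveI : Finite (V →ₗ[ZMod r] W) := Finite.of_injective (fun f => (f : V → W)) DFunLike.coe_injective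
    haveI : Nontrivial (V →ₗ[ZMod r] W) := by
      obtain ⟨v, hv⟩ := exists_ne (0 : V)
      obtain ⟨w, hw⟩ := exists_ne (0 : W)
      obtain ⟨φ, hφ⟩ := Module.Projective.exists_dual_ne_zero (ZMod r) hv
      exact ⟨⟨φ.smulRight w, 0, fun h => hw ((smul_eq_zero.1 (show φ v • w = 0 from LinearMap.congr_fun h v)).resolve_left hφ)⟩⟩
    refine exists_complement_of_fpf (A × B) (V →ₗ[ZMod r] W) (fun g f => σ g.2 * 1 |>.comp (f.comp (ρ g.1⁻¹)))
      (fun g f f' => LinearMap.ext fun v => by simp) (fun f => LinearMap.ext fun v => by simp)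
      (fun g g' f => LinearMap.ext fun v => by simp [mul_inv_rev]) ?_
    intro g hg f hf
    obtain ⟨p, hp, hpd⟩ := Nat.exists_prime_and_dvd (fun h => hg (orderOf_eq_one_iff.1 h))
    set c := g ^ (orderOf g / p) with hcd
    have hco' : orderOf c = p := orderOf_pow_orderOf_div (orderOf_pos g).ne' hpd
    have hfixp : ∀ i : ℕ, (σ (g ^ i).2).comp (f.comp (ρ (g ^ i).1⁻¹)) = f := by
      intro i
      induction i with
      | zero => exact LinearMap.ext fun v => by simp
      | succ i ih =>
        refine LinearMap.ext fun v => ?_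
        have e1 := LinearMap.congr_fun hf (ρ (g ^ i).1⁻¹ v)
        have e2 := LinearMap.congr_fun ih v
        simp only [LinearMap.comp_apply, mul_one] at e1 e2
        rw [pow_succ, Prod.fst_mul, Prod.snd_mul, mul_inv_rev, map_mul, map_mul]
        simp only [LinearMap.comp_apply, Module.End.mul_apply]
        rw [e1, e2]
    have hfc := hfixp (orderOf g / p)
    rw [← hcd] at hfc
    have hpc : c ^ p = 1 := hco' ▸ pow_orderOf_eq_one c
    have hnotboth : c.1 = 1 ∨ c.2 = 1 := by
      by_contra! h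
      haveI : Fact p.Prime := ⟨hp⟩
      have h1 : orderOf c.1 = p := orderOf_eq_prime (congrArg Prod.fst hpc) h.1
      have h2 : orderOf c.2 = p := orderOf_eq_prime (congrArg Prod.snd hpc) h.2
      exact hp.ne_one (Nat.eq_one_of_dvd_coprimes hco (h1 ▸ orderOf_dvd_natCard _) (h2 ▸ orderOf_dvd_natCard _))
    have hc1 : c ≠ 1 := fun h => hp.ne_one (by rw [← hco', h, orderOf_one])
    refine LinearMap.ext fun v => ?_
    rcases hnotboth with h | h
    · have h' : c.2 ≠ 1 := fun e => hc1 (Prod.ext h e)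
      have e1 := LinearMap.congr_fun hfc v
      rw [h, inv_one, map_one] at e1
      exact hσ _ h' _ e1
    · have h' : c.1⁻¹ ≠ 1 := fun e => hc1 (Prod.ext (inv_eq_one.1 e) h)
      let D : V →ₗ[ZMod r] V := ρ c.1⁻¹ - 1
      have hinj : Function.Injective D := by
        rw [injective_iff_map_eq_zero]
        intro w hw
        exact hρ _ h' w (sub_eq_zero.1 hw)
      obtain ⟨w, hw⟩ := (Finite.injective_iff_surjective.1 hinj) v
      have e1 := LinearMap.congr_fun hfc w
      rw [h, map_one] at e1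
      simp only [LinearMap.comp_apply, Module.End.one_apply] at e1
      rw [← hw]
      show f (ρ c.1⁻¹ w - w) = 0
      rw [map_sub, e1, sub_self]

end Cfsg.Agent.S4292
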