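import Cfsg.Statements.S0728
import Mathlib
import Cfsg.Agent.Lib.SmallGroups.SharplyThreeTransitive

set_option autoImplicit false
open Cfsg

namespace Cfsg.Agent.S0728

/-- In a sharply triply transitive group of even degree at least 6 (degree `q + 1`, `q` odd), a two-point stabiliser has at most one subgroup of order 3. -/
theorem result {α : Type*} [Fintype α] [DecidableEq α] (heven : Even (Fintype.card α)) (h6 : 6 ≤ Fintype.card α) (G : Subgroup (Equiv.Perm α)) (h3 : MulAction.IsMultiplyPretransitive G α 3) (hsharp : ∀ x : Fin 3 ↪ α, MulAction.stabilizer G x = ⊥) {a b : α} (hab : a ≠ b) (A B : Subgroup G) (hA : A ≤ MulAction.stabilizer G a ⊓ MulAction.stabilizer G b) (hB : B ≤ MulAction.stabilizer G a ⊓ MulAction.stabilizer G b) (hA3 : Nat.card A = 3) (hB3 : Nat.card B = 3) : A = B := by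
  haveI := h3
  haveI := Fact.mk Nat.prime_three
  have hS := CfsgLib.SmallGroups.SharplyThreeTransitive.isSharpThree_of_stabilizer hsharp
  haveI : FaithfulSMul G α := ⟨fun {g₁ g₂} h => Subtype.ext (Equiv.ext h)⟩
  have hgen : ∀ C : Subgroup G, Nat.card C = 3 → ∃ u : G, u ∈ C ∧ orderOf u = 3 ∧
      Subgroup.zpowers u = C := by
    intro C hC
    obtain ⟨⟨u, hu⟩, h⟩ := exists_prime_orderOf_dvd_card' (G := C) 3 (dvd_of_eq hC.symm)
    rw [← Subgroup.orderOf_coe] at h
    change orderOf u = 3 at h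
    exact ⟨u, hu, h, Subgroup.eq_of_le_of_card_ge (Subgroup.zpowers_le.mpr hu)
      (by rw [hC, Nat.card_zpowers, h])⟩
  obtain ⟨u, huA, hu3, huz⟩ := hgen A hA3
  obtain ⟨w, hwB, hw3, hwz⟩ := hgen B hB3
  rw [← huz, ← hwz]
  exact CfsgLib.SmallGroups.SharplyThreeTransitive.unique_order_three hS
    (by rw [Nat.card_eq_fintype_card]; omega) (by rwa [Nat.card_eq_fintype_card]) hab
    (hA huA).1 (hA huA).2 hu3 (hB hwB).1 (hB hwB).2 hw3

end Cfsg.Agent.S0728
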