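import Cfsg.Statements.S0729
import Cfsg.Agent.S0728
import Cfsg.Agent.Lib.SmallGroups.SharplyThreeTransitive
import Cfsg.Agent.Lib.SmallGroups.SharpThreeIndexTwo

set_option autoImplicit false
open Cfsg

namespace Cfsg.Agent.S0729

/-- In a sharply triply transitive group of even degree at least 6, the two-point stabiliser `H = G_{a,b}` has a normal subgroup of index 2 that is normalised by the element `s` interchanging `a, b` and fixing a third point `c`. -/
theorem result {α : Type*} [Fintype α] [DecidableEq α] (heven : Even (Fintype.card α)) (h6 : 6 ≤ Fintype.card α) (G : Subgroup (Equiv.Perm α)) (h3 : MulAction.IsMultiplyPretransitive G α 3) (hsharp : ∀ x : Fin 3 ↪ α, MulAction.stabilizer G x = ⊥) {a b c : α} (hab : a ≠ b) (hac : a ≠ c) (hbc : b ≠ c) (s : G) (hsa : s • a = b) (hsb : s • b = a) (hsc : s • c = c) : ∃ N : Subgroup G, N ≤ MulAction.stabilizer G a ⊓ MulAction.stabilizer G b ∧ (N.subgroupOf (MulAction.stabilizer G a ⊓ MulAction.stabilizer G b)).Normal ∧ N.relIndex (MulAction.stabilizer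 G a ⊓ MulAction.stabilizer G b) = 2 ∧ ∀ n ∈ N, s * n * s⁻¹ ∈ N := by
  classical
  haveI := h3
  haveI : FaithfulSMul G α := ⟨fun {g₁ g₂} h => Subtype.ext (Equiv.ext h)⟩
  have hS := CfsgLib.SmallGroups.SharplyThreeTransitive.isSharpThree_of_stabilizer hsharp
  set H : Subgroup G := MulAction.stabilizer G a ⊓ MulAction.stabilizer G b with hH
  obtain ⟨p, j, K, hp, hj, hα, hKa, hKc, hKp, hKn, hKtr, hKfree, hHcard⟩ :=
    CfsgLib.SmallGroups.SharplyThreeTransitive.exists_additive hS
      (by rw [Nat.card_eq_fintype_card]; omega) a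
  haveI := Fact.mk hp
  rw [Nat.card_eq_fintype_card] at hα
  have hp2 : p ≠ 2 := by
    intro e
    subst e
    rw [hα, Nat.even_add_one] at heven
    exact heven (Nat.even_pow.mpr ⟨even_two, by omega⟩)
  -- the additive group as a vector space
  letI : CommGroup K :=
    { (inferInstance : Group K) with mul_comm := fun x y => Subtype.ext (hKc _ x.2 _ y.2) }
  haveI hmod : Module (ZMod p) (Additive K) := AddCommGroup.zmodModule fun x => by
    apply Additive.toMul.injective
    rw [toMul_nsmul, toMul_zero]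
    exact Subtype.ext (by rw [SubgroupClass.coe_pow]; exact hKp _ (Additive.toMul x).2)
  let pt : Additive K → α := fun m => ((Additive.toMul m : K) : G) • b
  have hpt_ne : ∀ m, pt m ≠ a := fun m e =>
    hab (MulAction.injective ((Additive.toMul m : K) : G) (e.trans (hKa _ (Additive.toMul m).2).symm)).symm
  have hpt_inj : Function.Injective pt := by
    intro m n h
    have h1 : ((Additive.toMul m)⁻¹ * Additive.toMul n : K).1 • b = b := by
      show (((Additive.toMul m : K) : G)⁻¹ * ((Additive.toMul n : K) : G)) • b = b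
      rw [mul_smul]
      show ((Additive.toMul m : K) : G)⁻¹ • pt n = b
      rw [← h, inv_smul_smul]
    have h2 : ((Additive.toMul m)⁻¹ * Additive.toMul n : K) = 1 :=
      Subtype.ext (hKfree _ ((Additive.toMul m)⁻¹ * Additive.toMul n : K).2 b hab.symm h1)
    exact Additive.toMul.injective (inv_mul_eq_one.mp h2)
  let lin : H → Module.End (ZMod p) (Additive K) := fun h => AddMonoidHom.toZModLinearMap p
    { toFun := fun m => Additive.ofMul (⟨(h : G) * ((Additive.toMul m : K) : G) * (h : G)⁻¹,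
        hKn (h : G) h.2.1 _ (Additive.toMul m).2⟩ : K)
      map_zero' := by
        apply Additive.toMul.injective
        refine Subtype.ext ?_
        show (h : G) * ((1 : K) : G) * (h : G)⁻¹ = ((1 : K) : G)
        rw [Subgroup.coe_one, mul_one, mul_inv_cancel]
      map_add' := fun m n => by
        apply Additive.toMul.injective
        refine Subtype.ext ?_
        show (h : G) * ((Additive.toMul m * Additive.toMul n : K) : G) * (h : G)⁻¹ =
          ((h : G) * ((Additive.toMul m : K) : G) * (h : G)⁻¹) *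
            ((h : G) * ((Additive.toMul n : K) : G) * (h : G)⁻¹)
        rw [Subgroup.coe_mul]
        group }
  have hlin : ∀ (h : H) m, pt (lin h m) = (h : G) • pt m := fun h m => by
    show ((h : G) * ((Additive.toMul m : K) : G) * (h : G)⁻¹) • b = (h : G) • _
    rw [mul_smul, mul_smul, inv_smul_eq_iff.mpr h.2.2.symm]
  let φ : H →* (Additive K ≃ₗ[ZMod p] Additive K) := MonoidHom.mk'
    (fun h => LinearEquiv.ofLinear (lin h) (lin h⁻¹)
      (LinearMap.ext fun m => hpt_inj (by
        rw [LinearMap.comp_apply, hlin, hlin, Subgroup.coe_inv, smul_inv_smul, LinearMap.id_apply]))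
      (LinearMap.ext fun m => hpt_inj (by
        rw [LinearMap.comp_apply, hlin, hlin, Subgroup.coe_inv, inv_smul_smul, LinearMap.id_apply])))
    fun g h => LinearEquiv.ext fun m => hpt_inj (by
      show pt (lin (g * h) m) = pt (lin g (lin h m))
      rw [hlin, hlin, hlin, Subgroup.coe_mul, mul_smul])
  have hφpt : ∀ (h : H) m, pt (φ h m) = (h : G) • pt m := hlin
  have hφinj : Function.Injective φ := by
    intro g h e
    obtain ⟨k, hk, hkc⟩ := hKtr b c hab.symm hac.symm
    have h1 : (g : G) • c = (h : G) • c := by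
      rw [← hkc, ← show pt (Additive.ofMul ⟨k, hk⟩) = k • b from rfl, ← hφpt, ← hφpt, e]
    refine Subtype.ext (inv_mul_eq_one.mp (hS.2 ((h : G)⁻¹ * g) a b c hab hac hbc ?_ ?_ ?_)).symm
    · rw [mul_smul, g.2.1, inv_smul_eq_iff, h.2.1]
    · rw [mul_smul, g.2.2, inv_smul_eq_iff, h.2.2]
    · rw [mul_smul, h1, inv_smul_smul]
  have hzero : pt 0 = b := one_smul G b
  have hreg : ∀ v w : Additive K, v ≠ 0 → w ≠ 0 →
      ∃! h : φ.range, (h : Additive K ≃ₗ[ZMod p] Additive K) v = w := by
    intro v w hv hw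
    have hv' : pt v ≠ b := fun e => hv (hpt_inj (e.trans hzero.symm))
    have hw' : pt w ≠ b := fun e => hw (hpt_inj (e.trans hzero.symm))
    obtain ⟨g, hga, hgb, hgv⟩ := hS.1 a b (pt v) a b (pt w) hab (hpt_ne v).symm hv'.symm hab
      (hpt_ne w).symm hw'.symm
    refine ⟨⟨φ ⟨g, hga, hgb⟩, ⟨_, rfl⟩⟩, hpt_inj ((hφpt _ v).trans hgv), ?_⟩
    rintro ⟨_, ⟨h, rfl⟩⟩ he
    refine Subtype.ext (congrArg φ (Subtype.ext ?_))
    have h1 : (h : G) • pt v = pt w := (hφpt h v).symm.trans (congrArg pt he)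
    refine (inv_mul_eq_one.mp (hS.2 (g⁻¹ * (h : G)) a b (pt v) hab (hpt_ne v).symm hv'.symm ?_ ?_ ?_)).symm
    · rw [mul_smul, h.2.1, inv_smul_eq_iff, hga]
    · rw [mul_smul, h.2.2, inv_smul_eq_iff, hgb]
    · rw [mul_smul, h1, inv_smul_eq_iff, hgv]
  let e : H ≃* φ.range := MonoidHom.ofInjective hφinj
  have hdvd : 2 ∣ Nat.card φ.range := by
    rw [← Nat.card_congr e.toEquiv, hH, hHcard b hab.symm]
    exact even_iff_two_dvd.mp (Nat.Odd.sub_odd ((hp.odd_of_ne_two hp2).pow) odd_one)
  have hone : ∀ A B : Subgroup φ.range, Nat.card A = 3 → Nat.card B = 3 → A = B := by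
    intro A B hA hB
    let f : φ.range →* G := H.subtype.comp e.symm.toMonoidHom
    have hf : Function.Injective f := H.subtype_injective.comp e.symm.injective
    refine Subgroup.map_injective hf ?_
    exact Cfsg.Agent.S0728.result heven h6 G h3 hsharp hab _ _
      (Subgroup.map_le_iff_le_comap.mpr fun x _ => (e.symm x).2)
      (Subgroup.map_le_iff_le_comap.mpr fun x _ => (e.symm x).2)
      (by rw [Subgroup.card_map_of_injective hf, hA]) (by rw [Subgroup.card_map_of_injective hf, hB])
  obtain ⟨M₀, hM₀⟩ := CfsgLib.SmallGroups.SharpThreeIndexTwo.exists_index_two φ.range hreg hdvd hone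
  let M : Subgroup H := M₀.comap e.toMonoidHom
  have hM : M.index = 2 := by
    exact (Subgroup.index_comap_of_surjective M₀ (f := e.toMonoidHom) e.surjective).trans hM₀
  -- the involution normalises an index two subgroup
  have hss : s * s = 1 := hS.2 _ a b c hab hac hbc (by rw [mul_smul, hsa, hsb])
    (by rw [mul_smul, hsb, hsa]) (by rw [mul_smul, hsc, hsc])
  have hsi : s⁻¹ = s := inv_eq_of_mul_eq_one_right hss
  let σ : H →* H := MonoidHom.mk' (fun x => ⟨s * (x : G) * s⁻¹,
      ⟨show (s * (x : G) * s⁻¹) • a = a by rw [hsi, mul_smul, mul_smul, hsa, MulAction.mem_stabilizer_iff.mp x.2.2, hsb],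
       show (s * (x : G) * s⁻¹) • b = b by rw [hsi, mul_smul, mul_smul, hsb, MulAction.mem_stabilizer_iff.mp x.2.1, hsa]⟩⟩)
    fun x y => Subtype.ext (by simp [mul_assoc])
  have hσσ : ∀ x, σ (σ x) = x := fun x => Subtype.ext (by
    show s * (s * (x : G) * s⁻¹) * s⁻¹ = x
    rw [hsi, ← mul_assoc s, ← mul_assoc s, hss, one_mul, mul_assoc, hss, mul_one])
  obtain ⟨M', hM', hσM⟩ : ∃ M' : Subgroup H, M'.index = 2 ∧ ∀ x ∈ M', σ x ∈ M' := by
    by_cases hinv : ∀ x ∈ M, σ x ∈ M
    · exact ⟨M, hM, hinv⟩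
    push Not at hinv
    obtain ⟨x₀, hx₀, hx₀'⟩ := hinv
    let M' : Subgroup H :=
      { carrier := {x | x ∈ M ↔ σ x ∈ M}
        one_mem' := by simp [M.one_mem]
        mul_mem' := fun {x y} hx hy => by
          simp only [Set.mem_setOf_eq, map_mul, Subgroup.mul_mem_iff_of_index_two hM] at *
          rw [hx, hy]
        inv_mem' := fun {x} hx => by
          simp only [Set.mem_setOf_eq, map_inv, inv_mem_iff] at *
          exact hx }
    refine ⟨M', Subgroup.index_eq_two_iff.mpr ⟨x₀, fun y => ?_⟩, fun x (hx : x ∈ M ↔ σ x ∈ M) => ?_⟩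
    · show Xor (y * x₀ ∈ M ↔ σ (y * x₀) ∈ M) (y ∈ M ↔ σ y ∈ M)
      rw [map_mul, Subgroup.mul_mem_iff_of_index_two hM, Subgroup.mul_mem_iff_of_index_two hM]
      by_cases h1 : y ∈ M <;> by_cases h2 : σ y ∈ M <;> simp [h1, h2, hx₀, hx₀', Xor]
    · show σ x ∈ M ↔ σ (σ x) ∈ M
      rw [hσσ]
      exact hx.symm
  refine ⟨M'.map H.subtype, Subgroup.map_subtype_le _, ?_, ?_, ?_⟩
  · rw [Subgroup.subgroupOf, Subgroup.comap_map_eq_self_of_injective H.subtype_injective]
    exact Subgroup.normal_of_index_eq_two hM'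
  · rw [Subgroup.relIndex, Subgroup.subgroupOf, Subgroup.comap_map_eq_self_of_injective H.subtype_injective, hM']
  · rintro _ ⟨x, hx, rfl⟩
    exact ⟨σ x, hσM x hx, rfl⟩

end Cfsg.Agent.S0729
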