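import Cfsg.Statements.S0345
import Cfsg.Agent.Lib.ZassenhausSimple.Sharp
import Cfsg.Agent.Lib.SmallGroups.ZassenhausHalf.Swap
import Cfsg.Agent.Lib.Solvable.FrobeniusComplement
import Cfsg.Agent.S0741

set_option autoImplicit false
open Cfsg

open scoped Pointwise

namespace Cfsg.Agent.S0345

/-- In a finite simple Zassenhaus group the stabiliser `H` of two points `a ≠ b` is cyclic, and some involution
interchanging `a` and `b` inverts every element of `H`. -/
theorem result {G Ω : Type*} [Group G] [Finite G] [MulAction G Ω] [Finite Ω]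
    (hZ : Cfsg.IsZassenhausGroup G Ω) [IsSimpleGroup G]
    {a b : Ω} (hab : a ≠ b) :
    IsCyclic ↥(MulAction.stabilizer G a ⊓ MulAction.stabilizer G b) ∧
      ∃ v : G, orderOf v = 2 ∧ v • a = b ∧ v • b = a ∧ ∀ h ∈ MulAction.stabilizer G a ⊓ MulAction.stabilizer G b, v * h * v⁻¹ = h⁻¹ := by
  classical
  have := Fintype.ofFinite Ω
  set D : Subgroup G := MulAction.stabilizer G a ⊓ MulAction.stabilizer G b with hD
  obtain ⟨v, hv2, hva, hvb, hinv, hcomm⟩ : ∃ v : G, orderOf v = 2 ∧ v • a = b ∧ v • b = a ∧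
      (∀ h ∈ D, v * h * v⁻¹ = h⁻¹) ∧ ∀ x ∈ D, ∀ y ∈ D, x * y = y * x := by
    rcases Nat.even_or_odd (Nat.card D) with hev | hodd
    · have hdvd := CfsgLib.ZassenhausSimple.card_dvd hZ hab
      have hne := CfsgLib.ZassenhausSimple.card_ne_of_simple hZ hab hev
      have hle := Cfsg.Agent.S0741.result hZ hab hev
      have h3 := CfsgLib.Char.Zassenhaus.three_le_points hZ hab
      change Nat.card D ∣ _ at hdvd
      change Nat.card D ≠ _ at hne
      change _ ≤ 2 * Nat.card D at hle
      obtain ⟨k, hk⟩ := hdvd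
      have hd : 2 * Nat.card D = Fintype.card Ω - 2 := by
        rcases k with _ | _ | k
        · simp at hk; omega
        · simp at hk; omega
        · rw [hk] at hle ⊢
          have hp : 0 < Nat.card D := Nat.card_pos
          have hk2 : k + 1 + 1 ≤ 2 := Nat.le_of_mul_le_mul_left (by linarith) hp
          have : k = 0 := by omega
          subst this
          ring
      obtain ⟨g, hga, hgb⟩ := CfsgLib.Char.Zassenhaus.exists_map hZ hab hab.symm
      obtain ⟨hgg, -⟩ := CfsgLib.SmallGroups.ZassenhausHalf.swap_fix hZ hab hev hd hga hgb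
      obtain ⟨hi, hc⟩ := CfsgLib.SmallGroups.ZassenhausHalf.swap_inverts_even hZ hab hev hd hga hgb
      refine ⟨g, orderOf_eq_prime (by rw [pow_two, hgg]) ?_, hga, hgb,
        fun h hh => hi h hh.1 hh.2, fun x hx y hy => hc x y hx.1 hx.2 hy.1 hy.2⟩
      intro h1
      rw [h1, one_smul] at hga
      exact hab hga
    · obtain ⟨t, ht2, hta, htb⟩ := CfsgLib.Char.Zassenhaus.exists_swap hZ hab hodd
      obtain ⟨hi, hc⟩ := CfsgLib.Char.Zassenhaus.swap_inverts hZ hab hodd hta htb
      have hti : t⁻¹ = t := inv_eq_of_mul_eq_one_right (by rw [← pow_two, ← ht2, pow_orderOf_eq_one])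
      exact ⟨t, ht2, hta, htb, fun h hh => by
        have := hi h hh
        rw [hti] at this ⊢
        exact this, hc⟩
  refine ⟨?_, v, hv2, hva, hvb, hinv⟩
  obtain ⟨H, hHa, hHcard, hHfix⟩ := CfsgLib.Char.Zassenhaus.exists_kernel hZ hab
  have h3 := CfsgLib.Char.Zassenhaus.three_le_points hZ hab
  exact CfsgLib.Solvable.isCyclic_of_fpf (fun h => by rw [h, Subgroup.card_bot] at hHcard; omega)
    (inf_le_left.trans (Cfsg.Agent.S0878.result hZ a H hHa hHcard hHfix).2.ge)
    (CfsgLib.Char.Zassenhaus.fpf hZ hab hHa hHfix) (Or.inl hcomm)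

end Cfsg.Agent.S0345
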