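import Cfsg.Statements.S0738
import Mathlib
import Cfsg.Agent.Lib.FGS.FrobeniusCount

set_option autoImplicit false
open Cfsg

namespace Cfsg.Agent.S0738

/-- A group acting freely by conjugation on an invariant set divides its cardinality. -/
theorem dvd_card_invariant {G : Type*} [Group G] (D : Subgroup G) (S : Set G)
    (hinv : ∀ d ∈ D, ∀ x ∈ S, d * x * d⁻¹ ∈ S)
    (hfree : ∀ d ∈ D, ∀ x ∈ S, d * x * d⁻¹ = x → d = 1) : Nat.card D ∣ Nat.card S := by
  letI : MulAction D S :=
    { smul := fun d x => ⟨(d : G) * x * (d : G)⁻¹, hinv d d.2 x x.2⟩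
      one_smul := fun x => Subtype.ext (show ((1 : D) : G) * x * ((1 : D) : G)⁻¹ = x by simp)
      mul_smul := fun d e x => Subtype.ext (show ((d * e : D) : G) * x * ((d * e : D) : G)⁻¹ =
        (d : G) * ((e : G) * x * (e : G)⁻¹) * (d : G)⁻¹ by simp [mul_assoc]) }
  have h : ∀ x : S, MulAction.stabilizer D x = ⊥ := by
    intro x
    rw [Subgroup.eq_bot_iff_forall]
    intro d hd
    exact Subtype.ext (hfree d d.2 x x.2 (congrArg Subtype.val (MulAction.mem_stabilizer_iff.mp hd)))
  rw [Nat.card_congr (MulAction.selfEquivOrbitsQuotientProd h), Nat.card_prod]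
  exact dvd_mul_left _ _

/-- Let a finite Zassenhaus group of degree `n + 1` have two-point stabilisers of order `d` with `2d ≥ n - 1`. Then a normal subgroup of a point stabiliser acting regularly on the remaining points is elementary abelian, and the degree is a prime power plus one. -/
theorem result {G Ω : Type*} [Group G] [Finite G] [MulAction G Ω] [Fintype Ω] (hZ : Cfsg.IsZassenhausGroup G Ω) {a b : Ω} (hab : a ≠ b) (hd : Fintype.card Ω - 2 ≤ 2 * Nat.card ↥(MulAction.stabilizer G a ⊓ MulAction.stabilizer G b)) (F : Subgroup G) (hFle : F ≤ MulAction.stabilizer G a) (hFn : (F.subgroupOf (MulAction.stabilizer G a)).Normal) (hreg : ∀ y z : Ω, y ≠ a → z ≠ a → ∃! u : F, (u : G) • y = z) : IsMulCommutative F ∧ ∃ p f : ℕ, p.Prime ∧ (∀ u ∈ F, u ^ p = 1) ∧ Fintype.card Ω = p ^ f + 1 := by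
  classical
  obtain ⟨hfaith, h2t, hthree, ⟨g₀, hg₀, a₀, b₀, hab₀, hga₀, hgb₀⟩, -⟩ := hZ
  haveI := hfaith
  set D := MulAction.stabilizer G a ⊓ MulAction.stabilizer G b with hD
  have hconjF : ∀ g, g • a = a → ∀ u ∈ F, g * u * g⁻¹ ∈ F := fun g hg u hu =>
    Subgroup.mem_subgroupOf.mp
      (hFn.conj_mem ⟨u, hFle hu⟩ (Subgroup.mem_subgroupOf.mpr hu) ⟨g, hg⟩)
  have hua : ∀ u ∈ F, u • a = a := fun u hu => hFle hu
  have hun : ∀ u ∈ F, u • b = b → u = 1 := by
    intro u hu h
    obtain ⟨w, -, hw⟩ := hreg b b hab.symm hab.symm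
    exact congrArg Subtype.val ((hw ⟨u, hu⟩ h).trans (hw 1 (one_smul G b)).symm)
  -- free action of `D` on the nontrivial elements of `F`
  have hfree : ∀ g ∈ D, ∀ u ∈ F, u ≠ 1 → g * u * g⁻¹ = u → g = 1 := by
    intro g hg u hu hu1 h
    have hga : g • a = a := hg.1
    have hgb : g • b = b := hg.2
    have hc : g • u • b = u • b := by
      have h1 : g * u = u * g := by
        calc g * u = g * u * g⁻¹ * g := by group
          _ = u * g := by rw [h]
      rw [← mul_smul, h1, mul_smul, hgb]
    refine hthree g a b (u • b) hab (fun e => hu1 (hun u hu e.symm)) (fun e => hab ?_) hga hgb hc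
    exact MulAction.injective u ((hua u hu).trans e)
  -- the size of `F`
  have hF : Nat.card F + 1 = Fintype.card Ω := by
    have e : Nat.card F = Nat.card {y : Ω // y ≠ a} := by
      refine Nat.card_congr (Equiv.ofBijective
        (fun u : F => (⟨(u : G) • b, fun e => hab
          (MulAction.injective (u : G) ((hua u u.2).trans e.symm))⟩ : {y : Ω // y ≠ a})) ⟨?_, ?_⟩)
      · intro u v h
        obtain ⟨w, -, hw⟩ := hreg b ((u : G) • b) hab.symm
          (fun e => hab (MulAction.injective (u : G) ((hua u u.2).trans e.symm)))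
        exact (hw u rfl).trans (hw v (congrArg Subtype.val h).symm).symm
      · intro y
        obtain ⟨w, hw, -⟩ := hreg b y hab.symm y.2
        exact ⟨w, Subtype.ext hw⟩
    have h1 : 1 ≤ Fintype.card Ω := Fintype.card_pos_iff.mpr ⟨a⟩
    rw [e, Nat.card_eq_fintype_card, Fintype.card_subtype_compl, Fintype.card_subtype_eq]
    omega
  -- `D` is nontrivial
  have hd2 : 2 ≤ Nat.card D := by
    obtain ⟨s, hs⟩ := (MulAction.is_two_pretransitive_iff).mp h2t hab₀ hab
    rw [Nat.succ_le_iff, Subgroup.one_lt_card_iff_ne_bot]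
    intro e
    have hmem : s * g₀ * s⁻¹ ∈ D := by
      constructor
      · show (s * g₀ * s⁻¹) • a = a
        rw [← hs.1, mul_smul, mul_smul, inv_smul_smul, hga₀]
      · show (s * g₀ * s⁻¹) • b = b
        rw [← hs.2, mul_smul, mul_smul, inv_smul_smul, hgb₀]
    rw [e, Subgroup.mem_bot, mul_inv_eq_one, mul_eq_left] at hmem
    exact hg₀ hmem
  set n := Nat.card F with hn
  set d := Nat.card D with hdd
  -- invariant subsets containing `1`
  have key : ∀ S : Set F, (1 : F) ∈ S →
      (∀ g ∈ D, ∀ u : F, u ∈ S → ∀ v : F, (v : G) = g * u * g⁻¹ → v ∈ S) →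
      d ∣ Nat.card S - 1 := by
    intro S h1 hS
    let T : Set G := Subtype.val '' (S \ {1})
    have hT : Nat.card T = Nat.card S - 1 := by
      rw [Nat.card_coe_set_eq, Set.ncard_image_of_injective _ Subtype.val_injective,
        Set.ncard_sdiff_singleton_of_mem h1, Nat.card_coe_set_eq]
    rw [← hT]
    refine dvd_card_invariant D T ?_ ?_
    · rintro g hg _ ⟨u, ⟨hu, hu1⟩, rfl⟩
      refine ⟨⟨g * u * g⁻¹, hconjF g hg.1 u u.2⟩, ⟨hS g hg u hu _ rfl, ?_⟩, rfl⟩
      intro e
      apply hu1
      have h3 : g * (u : G) * g⁻¹ = 1 := congrArg Subtype.val (Set.mem_singleton_iff.mp e)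
      rw [mul_inv_eq_one, mul_eq_left] at h3
      exact Subtype.ext h3
    · rintro g hg _ ⟨u, ⟨hu, hu1⟩, rfl⟩ h
      exact hfree g hg u u.2 (fun e => hu1 (Subtype.ext e)) h
  have hnd : d ∣ n - 1 := by
    have h := key Set.univ trivial (fun _ _ _ _ _ _ => trivial)
    rwa [Nat.card_univ] at h
  have hbound : n - 1 ≤ 2 * d := by omega
  -- a prime dividing `n`
  have hn2 : 2 ≤ n := by
    by_contra hlt
    have hΩ : Fintype.card Ω ≤ 2 := by omega
    have hbot : D = ⊥ := by
      rw [Subgroup.eq_bot_iff_forall]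
      intro g hg
      refine (MulAction.toPerm_injective (α := G) (β := Ω)) ?_
      ext x
      by_cases hxa : x = a
      · rw [hxa, MulAction.toPerm_apply, MulAction.toPerm_apply, one_smul]; exact hg.1
      · by_cases hxb : x = b
        · rw [hxb, MulAction.toPerm_apply, MulAction.toPerm_apply, one_smul]; exact hg.2
        · have h3 : ({a, b, x} : Finset Ω).card ≤ Fintype.card Ω := Finset.card_le_univ _
          rw [Finset.card_insert_of_notMem (by simp [hab, Ne.symm hxa]),
            Finset.card_insert_of_notMem (by simp [Ne.symm hxb]), Finset.card_singleton] at h3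
          omega
    rw [hdd, hbot, Subgroup.card_bot] at hd2
    omega
  obtain ⟨p, hp, hpn⟩ := Nat.exists_prime_and_dvd (show n ≠ 1 by omega)
  haveI := Fact.mk hp
  -- an invariant subset of size divisible by `p` is everything
  have hfull : ∀ S : Set F, (1 : F) ∈ S → p ∣ Nat.card S →
      (∀ g ∈ D, ∀ u : F, u ∈ S → ∀ v : F, (v : G) = g * u * g⁻¹ → v ∈ S) → ∀ u : F, u ∈ S := by
    intro S h1 hpS hS u
    have hle : Nat.card S ≤ n := Nat.card_le_card_of_injective _ Subtype.val_injective
    have hpos : 2 ≤ Nat.card S := hp.two_le.trans (Nat.le_of_dvd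
      (by rw [Nat.card_coe_set_eq]; exact (Set.ncard_pos).mpr ⟨1, h1⟩) hpS)
    obtain ⟨j, hj⟩ := key S h1 hS
    obtain ⟨l, hl⟩ := hnd
    have hl2 : l ≤ 2 := Nat.le_of_mul_le_mul_left (by omega : d * l ≤ d * 2) (by omega)
    have hjl : j ≤ l := Nat.le_of_mul_le_mul_left (by omega : d * j ≤ d * l) (by omega)
    have hj1 : 1 ≤ j := by
      by_contra h0
      rw [show j = 0 by omega, Nat.mul_zero] at hj
      omega
    have heq : Nat.card S = n := by
      by_contra hne
      have hj' : j = 1 ∧ l = 2 := by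
        constructor
        · by_contra hh
          have : j = 2 ∧ l = 2 := by omega
          rw [this.1] at hj; rw [this.2] at hl; omega
        · by_contra hh
          have : j = 1 ∧ l = 1 := by omega
          rw [this.1] at hj; rw [this.2] at hl; omega
      rw [hj'.1] at hj; rw [hj'.2] at hl
      have h2 : p ∣ 2 * Nat.card S - n := Nat.dvd_sub (dvd_mul_of_dvd_right hpS 2) hpn
      rw [show 2 * Nat.card S - n = 1 by omega] at h2
      exact hp.ne_one (Nat.dvd_one.mp h2)
    have : S = Set.univ := Set.eq_of_subset_of_ncard_le (Set.subset_univ _)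
      (by rw [Set.ncard_univ, ← Nat.card_coe_set_eq S]; omega) (Set.toFinite _)
    rw [this]; trivial
  -- the exponent is `p`
  have hexp : ∀ u : F, u ^ p = 1 := by
    refine hfull {u | u ^ p = 1} (one_pow p) ?_ ?_
    · exact CfsgLib.FGS.dvd_card_pow_eq_one _ le_rfl p hpn
    · intro g _ u hu v hv
      show v ^ p = 1
      apply Subtype.ext
      rw [SubgroupClass.coe_pow, hv, conj_pow, ← SubgroupClass.coe_pow, (hu : u ^ p = 1)]
      simp
  have hpG : IsPGroup p F := fun u => ⟨1, by rw [pow_one]; exact hexp u⟩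
  haveI : Nontrivial F := Finite.one_lt_card_iff_nontrivial.mp (by omega)
  -- commutativity
  have hcomm : ∀ u : F, u ∈ (Subgroup.center F : Set F) := by
    refine hfull _ (Subgroup.one_mem _) ?_ ?_
    · obtain ⟨k, hk, hk'⟩ := (hpG.to_subgroup (Subgroup.center F)).nontrivial_iff_card.mp
        hpG.center_nontrivial
      show p ∣ Nat.card (Subgroup.center F)
      rw [hk']
      exact dvd_pow_self p hk.ne'
    · intro g hg u hu v hv
      show v ∈ Subgroup.center F
      rw [Subgroup.mem_center_iff]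
      intro w
      have hw : g⁻¹ * w * g ∈ F := by
        have := hconjF g⁻¹ (inv_smul_eq_iff.mpr (hg.1 : g • a = a).symm) w w.2
        rwa [inv_inv] at this
      have h1 : (g⁻¹ * (w : G) * g) * (u : G) = (u : G) * (g⁻¹ * w * g) :=
        congrArg Subtype.val (Subgroup.mem_center_iff.mp hu ⟨_, hw⟩)
      apply Subtype.ext
      rw [Subgroup.coe_mul, Subgroup.coe_mul, hv]
      calc (w : G) * (g * u * g⁻¹) = g * ((g⁻¹ * w * g) * u) * g⁻¹ := by group
        _ = g * ((u : G) * (g⁻¹ * w * g)) * g⁻¹ := by rw [h1]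
        _ = g * u * g⁻¹ * w := by group
  obtain ⟨f, hf⟩ := hpG.exists_card_eq
  refine ⟨⟨⟨fun u v => (Subgroup.mem_center_iff.mp (hcomm v) u)⟩⟩, p, f, hp, fun u hu =>
    congrArg Subtype.val (hexp ⟨u, hu⟩), ?_⟩
  rw [← hF, hn, hf]

end Cfsg.Agent.S0738
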