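import Cfsg.Statements.S0344
import Cfsg.Agent.S0741
import Cfsg.Agent.S0742
import Cfsg.Agent.Lib.ZassenhausSimple.Sharp

set_option autoImplicit false
open Cfsg

open scoped Pointwise

namespace Cfsg.Agent.S0344

/-- A finite simple Zassenhaus group with a two-point stabiliser of even order is isomorphic to `PSL₂(F)` for a finite
field `F` with more than three elements. -/
theorem result {G Ω : Type*} [Group G] [Finite G] [MulAction G Ω] [Finite Ω]
    (hZ : Cfsg.IsZassenhausGroup G Ω) [IsSimpleGroup G]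
    {a b : Ω} (hab : a ≠ b) (heven : Even (Nat.card ↥(MulAction.stabilizer G a ⊓ MulAction.stabilizer G b))) :
    ∃ (F : Type) (_ : Field F) (_ : Fintype F), 3 < Fintype.card F ∧ Nonempty (G ≃* Matrix.ProjectiveSpecialLinearGroup (Fin 2) F) := by
  classical
  haveI := Fintype.ofFinite Ω
  have hge := Cfsg.Agent.S0741.result hZ hab heven
  obtain ⟨k, hk⟩ := CfsgLib.ZassenhausSimple.card_dvd hZ hab
  have hne := CfsgLib.ZassenhausSimple.card_ne_of_simple hZ hab heven
  have hpos : 0 < Nat.card ↥(MulAction.stabilizer G a ⊓ MulAction.stabilizer G b) := Nat.card_pos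
  have h3 := CfsgLib.Char.Zassenhaus.three_le_points hZ hab
  generalize hd : Nat.card ↥(MulAction.stabilizer G a ⊓ MulAction.stabilizer G b) = d at hge hk hne hpos
  have hle : 2 * d ≤ Fintype.card Ω - 2 := by
    rcases (by omega : k = 0 ∨ k = 1 ∨ 2 ≤ k) with h | h | h
    · subst h; omega
    · subst h; omega
    · have := Nat.mul_le_mul_left d h
      omega
  subst hd
  obtain ⟨p, f, K, iK, iK', hp, hp2, hK, hΩ, hiso⟩ := Cfsg.Agent.S0742.result hZ hab heven hle
  refine ⟨K, iK, iK', ?_, hiso⟩
  obtain ⟨m, hm⟩ := heven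
  omega

end Cfsg.Agent.S0344
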