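import Cfsg.Statements.S0731
import Cfsg.Agent.S0741
import Cfsg.Agent.Lib.SmallGroups.ZassenhausHalf.Recognition
import Cfsg.Agent.Lib.SmallGroups.ZassenhausHalf.OddRecognition
import Cfsg.Agent.Lib.SmallGroups.ZassenhausHalf.Cuspidal
import Cfsg.Agent.Lib.Suzuki.ZassenhausNormal

set_option autoImplicit false
open Cfsg

namespace Cfsg.Agent.S0731

open MulAction in
/-- A Zassenhaus group with an abelian kernel and two-point stabilisers of odd order `d < q - 1` is
simple and has `2 d = q - 1`. -/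
theorem simple_and_half {Ω : Type*} [Fintype Ω] (m : ℕ) :
    ∀ {G : Type*} [Group G] [Finite G] [MulAction G Ω], Nat.card G ≤ m →
      Cfsg.IsZassenhausGroup G Ω → ∀ {a b : Ω}, a ≠ b → ∀ H : Subgroup G, H ≤ stabilizer G a →
      Nat.card H + 1 = Fintype.card Ω → (∀ u ∈ H, u ≠ 1 → ∀ c : Ω, u • c = c → c = a) →
      (∀ u ∈ H, ∀ v ∈ H, u * v = v * u) →
      Odd (Nat.card (stabilizer G a ⊓ stabilizer G b : Subgroup G)) →
      Nat.card (stabilizer G a ⊓ stabilizer G b : Subgroup G) < Fintype.card Ω - 2 →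
      IsSimpleGroup G ∧
        2 * Nat.card (stabilizer G a ⊓ stabilizer G b : Subgroup G) = Fintype.card Ω - 2 := by
  induction m with
  | zero =>
    intro G _ _ _ hle
    exact absurd (Nat.card_pos (α := G)) (by omega)
  | succ m ih =>
    intro G _ _ _ hle hZ a b hab H hHa hHcard hHfix hcomm hodd hlt
    have hsimple : IsSimpleGroup G := by
      obtain ⟨g₀, hg₀, -⟩ := hZ.2.2.2.1
      haveI : Nontrivial G := ⟨⟨g₀, 1, hg₀⟩⟩
      refine ⟨fun N hN => or_iff_not_imp_left.2 fun hN0 => by_contra fun hNtop => ?_⟩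
      haveI := hN
      obtain ⟨H', hH'a, hH'card, hH'fix, hH'N⟩ :=
        CfsgLib.Suzuki.ZassenhausNormal.exists_kernel_le hZ N hN0 hab
      rw [Nat.card_eq_fintype_card (α := Ω)] at hH'card
      have hHH : H = H' := by
        have hmem : ∀ u ∈ H, u ∈ H' := fun u hu => by
          by_contra hu'
          obtain ⟨v, hv, y, hy, hy1, rfl⟩ := CfsgLib.Char.Zassenhaus.exists_conj_mem hZ hab hH'a
            hH'card hH'fix (hHa hu) hu'
          have h1 : (v * y * v⁻¹) • (v • b) = v • b := by
            rw [mul_smul, inv_smul_smul, mul_smul, mem_stabilizer_iff.mp hy.2]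
          have h2 := hHfix _ hu (fun e => hy1 (conj_eq_one_iff.mp e)) _ h1
          exact hab (smul_left_cancel v ((mem_stabilizer_iff.mp (hH'a hv)).trans h2.symm))
        exact Subgroup.eq_of_le_of_card_ge hmem (by omega)
      subst hHH
      have hZN := CfsgLib.Suzuki.ZassenhausNormal.isZassenhaus_normal hZ N hN0
      have hst : ∀ c : Ω, stabilizer N c = (stabilizer G c).subgroupOf N := fun c => rfl
      have hcard : Nat.card (stabilizer N a ⊓ stabilizer N b : Subgroup N) =
          Nat.card (((stabilizer G a ⊓ stabilizer G b) ⊓ N : Subgroup G)) := by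
        rw [hst, hst, ← Subgroup.card_map_of_injective N.subtype_injective,
          Subgroup.map_inf _ _ _ N.subtype_injective, Subgroup.subgroupOf_map_subtype,
          Subgroup.subgroupOf_map_subtype, ← inf_inf_distrib_right]
      have hdvd := Subgroup.card_dvd_of_le
        (inf_le_left : (stabilizer G a ⊓ stabilizer G b) ⊓ N ≤ stabilizer G a ⊓ stabilizer G b)
      rw [← hcard] at hdvd
      have hNlt : Nat.card N < Nat.card G :=
        lt_of_le_of_ne (Subgroup.card_le_card_group N) fun e => hNtop (Subgroup.eq_top_of_card_eq N e)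
      obtain ⟨-, hhalf⟩ := ih (G := N) (by omega) hZN hab (H.subgroupOf N)
        (fun u hu => hHa (Subgroup.mem_subgroupOf.mp hu))
        (by rw [Nat.card_congr (Subgroup.subgroupOfEquivOfLe hH'N).toEquiv, hH'card])
        (fun u hu hu1 c hc => hHfix u (Subgroup.mem_subgroupOf.mp hu)
          (fun e => hu1 (Subtype.ext e)) c hc)
        (fun u hu v hv => Subtype.ext
          (hcomm u (Subgroup.mem_subgroupOf.mp hu) v (Subgroup.mem_subgroupOf.mp hv)))
        (hodd.of_dvd_nat hdvd)
        (lt_of_le_of_lt (Nat.le_of_dvd Nat.card_pos hdvd) hlt)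
      have h1 := CfsgLib.Char.Zassenhaus.card_group hZ hab
      have h2 := CfsgLib.Char.Zassenhaus.card_group hZN hab
      obtain ⟨k, hk⟩ := hdvd
      have hk1 : k = 1 := by
        rcases (by omega : k = 0 ∨ k = 1 ∨ 2 ≤ k) with h | h | h
        · subst h
          rw [Nat.mul_zero] at hk
          exact absurd hk Nat.card_pos.ne'
        · exact h
        · have := Nat.mul_le_mul_left (Nat.card (stabilizer N a ⊓ stabilizer N b : Subgroup N)) h
          omega
      rw [hk, hk1, mul_one, h2] at h1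
      omega
    exact ⟨hsimple, CfsgLib.SmallGroups.ZassenhausHalf.two_mul_card_eq_of_simple hZ hab hHa hHcard
      hHfix hcomm hodd hlt⟩

/-- A finite Zassenhaus group whose point stabiliser has an abelian regular normal subgroup on the remaining points is sharply triply transitive or isomorphic to `PSL(2, F)` for a finite field `F` of odd characteristic. -/
theorem result {G Ω : Type*} [Group G] [Finite G] [MulAction G Ω] [Finite Ω] (hZ : Cfsg.IsZassenhausGroup G Ω) (x : Ω) (F : Subgroup G) (hFle : F ≤ MulAction.stabilizer G x) (hFn : (F.subgroupOf (MulAction.stabilizer G x)).Normal) (hFab : IsMulCommutative F) (hreg : ∀ y z : Ω, y ≠ x → z ≠ x → ∃! u : F, (u : G) • y = z) : (MulAction.IsMultiplyPretransitive G Ω 3 ∧ ∀ t : Fin 3 ↪ Ω, MulAction.stabilizer G t = ⊥) ∨ ∃ (K : Type) (_ : Field K) (_ : Fintype K), ringChar K ≠ 2 ∧ Nonempty (G ≃* Matrix.ProjectiveSpecialLinearGroup (Fin 2) K) := by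
  classical
  haveI := Fintype.ofFinite Ω
  haveI := hZ.1
  obtain ⟨g₀, hg₀, a₀, b₀, hab₀, -, -⟩ := id hZ.2.2.2.1
  obtain ⟨b, hxb⟩ : ∃ b, x ≠ b := by
    by_cases h : x = a₀
    · exact ⟨b₀, h ▸ hab₀⟩
    · exact ⟨a₀, h⟩
  have hthree := hZ.2.2.1
  have hFfix : ∀ u ∈ F, u ≠ 1 → ∀ c : Ω, u • c = c → c = x := by
    intro u hu hu1 c hc
    by_contra hcx
    obtain ⟨w, -, huniq⟩ := hreg c c hcx hcx
    exact hu1 (congrArg Subtype.val ((huniq ⟨u, hu⟩ hc).trans (huniq 1 (one_smul G c)).symm))
  have hFcard : Nat.card F + 1 = Fintype.card Ω := by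
    have e : F ≃ {c : Ω // c ≠ x} := Equiv.ofBijective
      (fun u => ⟨(u : G) • b, fun e => hxb (MulAction.injective (u : G)
        ((MulAction.mem_stabilizer_iff.mp (hFle u.2)).trans e.symm))⟩)
      ⟨fun u v e => (hreg b _ hxb.symm (fun e' => hxb (MulAction.injective (v : G)
          ((MulAction.mem_stabilizer_iff.mp (hFle v.2)).trans e'.symm)))).unique
          (congrArg Subtype.val e) rfl,
        fun c => let ⟨u, hu, _⟩ := hreg b c.1 hxb.symm c.2; ⟨u, Subtype.ext hu⟩⟩
    have := Fintype.card_pos_iff.mpr ⟨x⟩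
    rw [Nat.card_congr e, Nat.card_eq_fintype_card, Fintype.card_subtype_compl,
      Fintype.card_subtype_eq]
    omega
  have hcomm : ∀ u ∈ F, ∀ v ∈ F, u * v = v * u := fun u hu v hv =>
    congrArg Subtype.val (mul_comm' (⟨u, hu⟩ : F) ⟨v, hv⟩)
  set D := MulAction.stabilizer G x ⊓ MulAction.stabilizer G b with hD
  set R := {c : Ω // c ≠ x ∧ c ≠ b}
  have hR : Fintype.card R = Fintype.card Ω - 2 := by
    rw [Fintype.card_subtype, show (Finset.univ.filter fun c : Ω => c ≠ x ∧ c ≠ b) =
      Finset.univ \ {x, b} by ext c; simp, Finset.card_sdiff_of_subset (Finset.subset_univ _),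
      Finset.card_pair hxb, Finset.card_univ]
  letI : MulAction D R :=
    { smul := fun g c => ⟨(g : G) • c.1,
        fun e => c.2.1 (MulAction.injective (g : G) (e.trans g.2.1.symm)),
        fun e => c.2.2 (MulAction.injective (g : G) (e.trans g.2.2.symm))⟩
      one_smul := fun c => Subtype.ext (one_smul G c.1)
      mul_smul := fun g k c => Subtype.ext (mul_smul (g : G) (k : G) c.1) }
  have hfree : ∀ c : R, MulAction.stabilizer D c = ⊥ := fun c => by
    rw [Subgroup.eq_bot_iff_forall]
    intro g hg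
    exact Subtype.ext (hthree g x b c.1 hxb c.2.2.symm c.2.1.symm g.2.1 g.2.2
      (congrArg Subtype.val hg))
  have hdvd : Nat.card D ∣ Fintype.card Ω - 2 := by
    rw [← hR, ← Nat.card_eq_fintype_card,
      Nat.card_congr (MulAction.selfEquivOrbitsQuotientProd hfree), Nat.card_prod]
    exact dvd_mul_left _ _
  by_cases hfull : Nat.card D = Fintype.card Ω - 2
  · left
    refine ⟨?_, fun t => ?_⟩
    · have hmove : ∀ t : Fin 3 ↪ Ω, ∀ c : R, ∃ g : G, g • x = t 0 ∧ g • b = t 1 ∧ g • c.1 = t 2 := by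
        intro t c
        obtain ⟨g, hg1, hg2⟩ := MulAction.is_two_pretransitive_iff.mp hZ.2.1 hxb
          (t.injective.ne (by decide : (0 : Fin 3) ≠ 1))
        have hc' : g⁻¹ • t 2 ≠ x ∧ g⁻¹ • t 2 ≠ b :=
          ⟨fun e => t.injective.ne (by decide : (2 : Fin 3) ≠ 0) (by rw [← hg1, ← e, smul_inv_smul]),
            fun e => t.injective.ne (by decide : (2 : Fin 3) ≠ 1) (by rw [← hg2, ← e, smul_inv_smul])⟩
        have hinj : Function.Injective fun y : D => y • c := fun y z e => by
          have h1 : z⁻¹ * y ∈ MulAction.stabilizer D c := by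
            rw [MulAction.mem_stabilizer_iff, mul_smul, inv_smul_eq_iff]
            exact e
          rw [hfree, Subgroup.mem_bot] at h1
          exact (inv_mul_eq_one.mp h1).symm
        haveI := Fintype.ofFinite D
        obtain ⟨y, hy⟩ := ((Fintype.bijective_iff_injective_and_card _).mpr
          ⟨hinj, by rw [hR, ← hfull, Nat.card_eq_fintype_card]⟩).2 ⟨g⁻¹ • t 2, hc'⟩
        refine ⟨g * (y : G), by rw [mul_smul, MulAction.mem_stabilizer_iff.mp y.2.1, hg1],
          by rw [mul_smul, MulAction.mem_stabilizer_iff.mp y.2.2, hg2], ?_⟩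
        rw [mul_smul, show (y : G) • c.1 = g⁻¹ • t 2 from congrArg Subtype.val hy, smul_inv_smul]
      have := CfsgLib.Char.Zassenhaus.three_le_points hZ hxb
      obtain ⟨c⟩ : Nonempty R := Fintype.card_pos_iff.mp (by omega)
      refine ⟨fun t u => ?_⟩
      obtain ⟨g, hg0, hg1, hg2⟩ := hmove t c
      obtain ⟨k, hk0, hk1, hk2⟩ := hmove u c
      refine ⟨k * g⁻¹, Function.Embedding.ext fun i => ?_⟩
      show (k * g⁻¹) • t i = u i
      fin_cases i
      · show (k * g⁻¹) • t 0 = u 0
        rw [mul_smul, ← hg0, inv_smul_smul, hk0]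
      · show (k * g⁻¹) • t 1 = u 1
        rw [mul_smul, ← hg1, inv_smul_smul, hk1]
      · show (k * g⁻¹) • t 2 = u 2
        rw [mul_smul, ← hg2, inv_smul_smul, hk2]
    · rw [Subgroup.eq_bot_iff_forall]
      intro g hg
      have h : ∀ i, g • t i = t i := fun i => congrArg (fun u : Fin 3 ↪ Ω => u i) hg
      exact hthree g _ _ _ (t.injective.ne (by decide : (0 : Fin 3) ≠ 1))
        (t.injective.ne (by decide : (1 : Fin 3) ≠ 2)) (t.injective.ne (by decide : (0 : Fin 3) ≠ 2))
        (h 0) (h 1) (h 2)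
  right
  have h3 := CfsgLib.Char.Zassenhaus.three_le_points hZ hxb
  have hlt : Nat.card D < Fintype.card Ω - 2 :=
    lt_of_le_of_ne (Nat.le_of_dvd (by omega) hdvd) hfull
  rcases Nat.even_or_odd (Nat.card D) with heven | hodd
  · have hge := Cfsg.Agent.S0741.result hZ hxb heven
    rw [← hD] at hge
    have hhalf : 2 * Nat.card D = Fintype.card Ω - 2 := by
      obtain ⟨k, hk⟩ := hdvd
      rcases (by omega : k = 0 ∨ k = 1 ∨ k = 2 ∨ 3 ≤ k) with h | h | h | h
      · subst h; omega
      · subst h; omega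
      · subst h; omega
      · have := Nat.mul_le_mul_left (Nat.card D) h
        omega
    obtain ⟨p, f, K, iK, iK', hp, hp2, hK, -, hiso⟩ :=
      CfsgLib.SmallGroups.ZassenhausHalf.nonempty_psl_of_half hZ hxb heven hhalf
    refine ⟨K, iK, iK', fun h2 => ?_, hiso⟩
    haveI : CharP K 2 := h2 ▸ ringChar.charP K
    obtain ⟨n, -, hn⟩ := FiniteField.card K 2
    rw [hK] at hn
    have h4 : 2 ∣ p ^ f := hn ▸ dvd_pow_self 2 n.ne_zero
    exact hp2 ((Nat.prime_dvd_prime_iff_eq Nat.prime_two hp).mp (Nat.prime_two.dvd_of_dvd_pow h4)).symm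
  · obtain ⟨hsimple, hhalf⟩ := simple_and_half (Nat.card G) le_rfl hZ hxb F hFle hFcard hFfix hcomm
      hodd hlt
    exact CfsgLib.SmallGroups.ZassenhausHalf.nonempty_psl_of_half_odd hZ hxb hodd hhalf

end Cfsg.Agent.S0731
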