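import Cfsg.Statements.S0680
import Mathlib
import Cfsg.Agent.Lib.SmallGroups.SharplyTwoTransitive

set_option autoImplicit false
open Cfsg

namespace Cfsg.Agent.S0680

/-- A finite sharply doubly transitive permutation group has degree a prime power `p ^ j`; a Sylow `p`-subgroup is normal, elementary abelian and regular, and consists of the identity together with the elements without fixed points. (Frobenius' Theorem is not needed.) -/
theorem result {α : Type*} [Fintype α] [DecidableEq α] (G : Subgroup (Equiv.Perm α)) [MulAction.IsMultiplyPretransitive G α 2] (hsharp : ∀ x : Fin 2 ↪ α, MulAction.stabilizer G x = ⊥) (h2 : 2 ≤ Fintype.card α) : ∃ p j : ℕ, p.Prime ∧ 1 ≤ j ∧ Fintype.card α = p ^ j ∧ ∀ (hp : Fact p.Prime) (P : Sylow p G), (P : Subgroup G).Normal ∧ IsMulCommutative (P : Subgroup G) ∧ (∀ x ∈ (P : Subgroup G), x ^ p = 1) ∧ MulAction.IsPretransitive (P : Subgroup G) α ∧ (∀ a : α, MulAction.stabilizer (P : Subgroup G) a = ⊥) ∧ ∀ g : G, g ∈ (P : Subgroup G) ↔ g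 = 1 ∨ ∀ a : α, g • a ≠ a := by
  classical
  have hS := CfsgLib.SmallGroups.SharplyTwoTransitive.isSharp_of_stabilizer (G := G) (α := α) hsharp
  have h2' : 2 ≤ Nat.card α := by rwa [Nat.card_eq_fintype_card]
  obtain ⟨p, j, K, hp, hj, hn, hK, hKn, hcomm, hpow, htr, hst, hmem⟩ :=
    CfsgLib.SmallGroups.SharplyTwoTransitive.exists_kernel hS h2'
  refine ⟨p, j, hp, hj, by rw [← Nat.card_eq_fintype_card, hn], fun hfp P => ?_⟩
  haveI := hKn
  haveI := Fact.mk hp
  have hKp : IsPGroup p K := fun x => ⟨1, Subtype.ext (by rw [pow_one]; exact hpow x x.2)⟩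
  have hle : K ≤ (P : Subgroup G) := by
    obtain ⟨Q, hQ⟩ := hKp.exists_le_sylow
    obtain ⟨g, hg⟩ := MulAction.exists_smul_eq G Q P
    intro x hx
    rw [← hg, Sylow.coe_subgroup_smul, Subgroup.mem_pointwise_smul_iff_inv_smul_mem]
    apply hQ
    have := hKn.conj_mem x hx g⁻¹
    simpa using this
  have hidx : Nat.card G = p ^ j * (Nat.card α - 1) := by
    rw [CfsgLib.SmallGroups.SharplyTwoTransitive.card_group hS h2', ← hn]
  have hPK : (P : Subgroup G) = K := by
    refine (Subgroup.eq_of_le_of_card_ge hle ?_).symm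
    obtain ⟨v, hv⟩ := P.isPGroup'.exists_card_eq
    have h1 : p ^ v ∣ p ^ j * (Nat.card α - 1) := by
      rw [← hv, ← hidx]; exact Subgroup.card_subgroup_dvd_card _
    have hcop : Nat.Coprime (p ^ v) (Nat.card α - 1) := by
      refine Nat.Coprime.pow_left v ((Nat.Prime.coprime_iff_not_dvd hp).mpr fun h => hp.ne_one ?_)
      have hpn : p ∣ Nat.card α := hn ▸ dvd_pow_self p (by omega)
      have h3 := Nat.dvd_sub hpn h
      rw [show Nat.card α - (Nat.card α - 1) = 1 by omega] at h3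
      exact Nat.dvd_one.mp h3
    rw [hv, hK]
    exact Nat.le_of_dvd (pow_pos hp.pos j) (hcop.dvd_of_dvd_mul_right h1)
  rw [hPK]
  exact ⟨hKn, ⟨⟨fun x y => Subtype.ext (hcomm x x.2 y y.2)⟩⟩, hpow, htr, hst, hmem⟩

end Cfsg.Agent.S0680
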