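import Cfsg.Statements.S1292
import Cfsg.Agent.Lib.Cores.Local
-- import your own Cfsg.Agent.* helpers here

set_option autoImplicit false
open Cfsg

namespace Cfsg.Agent.S1292

/-- Let G be a finite group such that F*(C_G(t)) = O_2(C_G(t)) for every involution t. Then F*(N_G(T)) = O_2(N_G(T)) for every nontrivial 2-subgroup T of G. -/
theorem result {G : Type*} [Group G] [Finite G] (h : ∀ t : G, orderOf t = 2 → Cfsg.generalizedFittingSubgroup ↥(Subgroup.centralizer ({t} : Set G)) = Cfsg.pCore 2 ↥(Subgroup.centralizer ({t} : Set G))) (T : Subgroup G) (hT : IsPGroup 2 ↥T) (hT1 : T ≠ ⊥) : Cfsg.generalizedFittingSubgroup ↥(Subgroup.normalizer (T : Set G)) = Cfsg.pCore 2 ↥(Subgroup.normalizer (T : Set G)) := by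
  set H := Subgroup.normalizer (T : Set G)
  have hTn : Nontrivial ↥T := (Subgroup.nontrivial_iff_ne_bot T).2 hT1
  have hZn : Nontrivial ↥(Subgroup.center ↥T) := hT.center_nontrivial
  obtain ⟨⟨⟨z, hzT⟩, hzc⟩, hzo⟩ := exists_prime_orderOf_dvd_card' (G := ↥(Subgroup.center ↥T)) 2
    ((hT.to_subgroup _).card_eq_or_dvd.resolve_left fun h1 => by
      have := Finite.one_lt_card (α := ↥(Subgroup.center ↥T))
      omega)
  rw [← Subgroup.orderOf_coe, ← Subgroup.orderOf_coe] at hzo
  set C := Subgroup.centralizer ({z} : Set G)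
  have hTC : T ≤ C := fun t ht => by
    rw [Subgroup.mem_centralizer_singleton_iff]
    exact congrArg Subtype.val (Subgroup.mem_center_iff.1 hzc ⟨t, ht⟩)
  obtain ⟨hO, hE⟩ := CfsgLib.Cores.generalizedFittingSubgroup_eq_pCore_iff.1 (h z hzo)
  obtain ⟨hO', hE'⟩ := CfsgLib.Cores.pPrimeCore_eq_bot_and_layer_eq_bot_normalizer
    (P := T.subgroupOf C) (hT.of_equiv (Subgroup.subgroupOfEquivOfLe hTC).symm)
    ((CfsgLib.Cores.centralizer_pCore_le_iff hO).2 hE)
  let f : ↥(Subgroup.normalizer ((T.subgroupOf C : Subgroup ↥C) : Set ↥C)) →* ↥H :=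
    (C.subtype.comp (Subgroup.normalizer ((T.subgroupOf C : Subgroup ↥C) : Set ↥C)).subtype).codRestrict H (fun x => by
      refine Subgroup.mem_normalizer_iff.2 fun g => ?_
      have hx := Subgroup.mem_normalizer_iff.1 x.2
      constructor
      · intro hg
        exact (hx ⟨g, hTC hg⟩).1 hg
      · intro hg
        have hgC : g ∈ C := by
          have h' := mul_mem (mul_mem (inv_mem (x : ↥C).2) (hTC hg)) (x : ↥C).2
          simpa [mul_assoc] using h'
        exact (hx ⟨g, hgC⟩).2 hg)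
  have hfi : Function.Injective f := fun x y hxy => by
    have h' : ((x : ↥C) : G) = ((y : ↥C) : G) := congrArg (fun q : ↥H => (q : G)) hxy
    exact Subtype.ext (Subtype.ext h')
  have hrange : ∀ x : ↥H, (x : G) ∈ C → x ∈ f.range := by
    intro x hx
    refine ⟨⟨⟨(x : G), hx⟩, Subgroup.mem_normalizer_iff.2 fun g => ?_⟩, Subtype.ext rfl⟩
    exact (Subgroup.mem_normalizer_iff.1 x.2 g)
  have hcz : ∀ M : Subgroup ↥H, ⁅M, Cfsg.pCore 2 ↥H⁆ = ⊥ → M ≤ f.range := by
    intro M hM x hx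
    refine hrange x ?_
    rw [Subgroup.mem_centralizer_singleton_iff]
    have hzH : (⟨z, Subgroup.le_normalizer hzT⟩ : ↥H) ∈ Cfsg.pCore 2 ↥H :=
      CfsgLib.Cores.le_pCore (N := T.subgroupOf H) (hT.of_equiv (Subgroup.subgroupOfEquivOfLe Subgroup.le_normalizer).symm) hzT
    exact (congrArg Subtype.val (Subgroup.mem_centralizer_iff.1 (Subgroup.commutator_eq_bot_iff_le_centralizer.1 hM hx) _ hzH)).symm
  refine CfsgLib.Cores.generalizedFittingSubgroup_eq_pCore_iff.2 ⟨?_, ?_⟩
  · have hle := hcz (Cfsg.pPrimeCore 2 ↥H) (by rw [Subgroup.commutator_comm]; exact CfsgLib.Cores.commutator_pCore_pPrimeCore 2)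
    rw [← Subgroup.map_comap_eq_self hle]
    have h1 : (Cfsg.pPrimeCore 2 ↥H).comap f ≤ ⊥ := by
      rw [← hO']
      refine CfsgLib.Cores.le_pPrimeCore ?_
      rw [← Subgroup.card_map_of_injective hfi, Subgroup.map_comap_eq_self hle]
      exact CfsgLib.Cores.coprime_card_pPrimeCore 2
    rw [le_bot_iff.1 h1, Subgroup.map_bot]
  · rw [CfsgLib.Cores.layer_eq_bot_iff]
    intro L hL
    have hle : L ≤ f.range := (CfsgLib.Cores.component_le_layer hL).trans (hcz _ (eq_bot_iff.2
      ((Subgroup.commutator_mono le_rfl (CfsgLib.Cores.pCore_le_fittingSubgroup 2)).trans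
        CfsgLib.Cores.commutator_layer_fittingSubgroup.le)))
    refine CfsgLib.Cores.layer_eq_bot_iff.1 hE' (L.comap f) ⟨hL.1.comap f, ?_⟩
    refine CfsgLib.Cores.isQuasisimple_of_equiv ((MulEquiv.subgroupCongr (Subgroup.map_comap_eq_self hle).symm).trans
      (Subgroup.equivMapOfInjective (L.comap f) f hfi).symm) hL.2

end Cfsg.Agent.S1292
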