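import Cfsg.Statements.S1298
import Cfsg.Agent.Lib.Cores.BalanceAut
-- import your own Cfsg.Agent.* helpers here

set_option autoImplicit false
open Cfsg

namespace Cfsg.Agent.S1298

/-- Let G be finite and k ≥ 1. Suppose that for every x of order p, writing C = C_G(x), every component K of C / O_{p'}(C) has K / Z(K) locally k-balanced for p. Then G is k-balanced for p. -/
theorem result {G : Type*} [Group G] [Finite G] (p k : ℕ) [Fact p.Prime] (hk : 1 ≤ k) (h : ∀ x : G, orderOf x = p → ∀ K : Subgroup (↥(Subgroup.centralizer ({x} : Set G)) ⧸ Cfsg.pPrimeCore p ↥(Subgroup.centralizer ({x} : Set G))), Cfsg.IsComponent K → Cfsg.IsLocallyKBalanced p k (↥K ⧸ Subgroup.center ↥K)) : Cfsg.IsKBalanced p k G := by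
  intro A hA hcard b hb hcom
  have hA1 : A ≠ ⊥ := fun he => by
    rw [he, Subgroup.card_bot] at hcard
    exact (Nat.one_lt_pow (by omega) (Fact.out : p.Prime).one_lt).ne hcard
  set X := Subgroup.centralizer ({b} : Set G)
  set π := QuotientGroup.mk' (Cfsg.pPrimeCore p X)
  have hAX : A ≤ X := fun a ha => Subgroup.mem_centralizer_singleton_iff.2 (hcom a ha)
  have hA' : Cfsg.IsElementaryAbelian p (A.subgroupOf X) := CfsgLib.PGroup.elemAb_subgroupOf hA
  have hcard' : Nat.card ((A.subgroupOf X).map π) = p ^ k := by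
    rw [← hcard, ← Nat.card_congr (Subgroup.subgroupOfEquivOfLe hAX).toEquiv]
    refine (Nat.card_congr (Equiv.ofBijective (π.subgroupMap (A.subgroupOf X))
      ⟨?_, π.subgroupMap_surjective _⟩)).symm
    rw [← MonoidHom.ker_eq_bot_iff, Subgroup.eq_bot_iff_forall]
    intro a ha
    obtain ⟨n, hn⟩ := CfsgLib.PGroup.elemAb_isPGroup hA' a
    rw [← orderOf_eq_one_iff]
    refine Nat.eq_one_of_dvd_coprimes (Nat.Coprime.pow_left n (CfsgLib.Cores.coprime_card_pPrimeCore (G := X) p).symm)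
      (orderOf_dvd_of_pow_eq_one hn) ?_
    rw [← Subgroup.orderOf_coe]
    exact Subgroup.orderOf_dvd_natCard _ ((QuotientGroup.eq_one_iff (a : X)).1 (congrArg Subtype.val ha))
  have key := CfsgLib.Cores.signalizerDelta_eq_bot_of_locallyKBalanced (CfsgLib.Cores.pPrimeCore_quotient_self p)
    (CfsgLib.PGroup.elemAb_map hA' π) hk hcard' (h b hb)
  rintro d ⟨hd, hdX⟩
  refine ⟨⟨d, hdX⟩, ?_, rfl⟩
  have h1 := CfsgLib.Cores.map_signalizerDelta_le hAX hA ⟨⟨d, hdX⟩, hd, rfl⟩
  rw [key, Subgroup.mem_bot] at h1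
  exact (QuotientGroup.eq_one_iff _).1 h1

end Cfsg.Agent.S1298
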