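import Cfsg.Statements.S1297
import Cfsg.Agent.Lib.Cores.BalanceAut
import Cfsg.Agent.S1298
-- import your own Cfsg.Agent.* helpers here

set_option autoImplicit false
open Cfsg

namespace Cfsg.Agent.S1297

/-- Let G be finite. Suppose that for every involution x, writing C = C_G(x), every component K of C / O(C) has K / Z(K) locally balanced. Then G is balanced. -/
theorem result {G : Type*} [Group G] [Finite G] (h : ∀ x : G, orderOf x = 2 → ∀ K : Subgroup (↥(Subgroup.centralizer ({x} : Set G)) ⧸ Cfsg.oddCore ↥(Subgroup.centralizer ({x} : Set G))), Cfsg.IsComponent K → Cfsg.IsLocallyBalanced (↥K ⧸ Subgroup.center ↥K)) : Cfsg.IsBalanced G := by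
  have hkb : Cfsg.IsKBalanced 2 1 G := Cfsg.Agent.S1298.result 2 1 le_rfl fun x hx K hK =>
    CfsgLib.Cores.isLocallyKBalanced_one_of_isLocallyBalanced (h x hx K hK)
  have hle : ∀ x y : G, orderOf x = 2 → orderOf y = 2 → x * y = y * x →
      Cfsg.centralizerPPrimeCore 2 x ⊓ Subgroup.centralizer {y} ≤ Cfsg.centralizerPPrimeCore 2 y ⊓ Subgroup.centralizer {x} := by
    intro x y hx hy hxy
    refine le_inf ?_ (inf_le_left.trans (CfsgLib.Cores.centralizerPPrimeCore_le x))
    rw [← CfsgLib.Cores.signalizerDelta_zpowers hx]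
    refine hkb _ (CfsgLib.Cores.elemAb_zpowers hx) (by rw [Nat.card_zpowers, hx, pow_one]) y hy ?_
    rintro _ ⟨i, rfl⟩
    exact (Commute.zpow_left hxy i).eq
  exact fun x y hx hy hxy => le_antisymm (hle x y hx hy hxy) (hle y x hy hx hxy.symm)

end Cfsg.Agent.S1297
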