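import Cfsg.Statements.S0111
import Cfsg.Agent.Lib.Transfer.Basic

set_option autoImplicit false
open Cfsg

namespace Cfsg.Agent.S0111

/-- The Thompson transfer lemma states that an involution of a Sylow 2-subgroup P lying outside a subgroup Q of index 2 in P either lies outside some normal subgroup of index 2 in G or is conjugate to an element of Q. -/
theorem result {G : Type*} [Group G] [Finite G] (P : Sylow 2 G) (Q : Subgroup G) (hQP : Q ≤ (P : Subgroup G)) (hQi : Q.relIndex (P : Subgroup G) = 2) (u : G) (hu : orderOf u = 2) (huP : u ∈ (P : Subgroup G)) (huQ : u ∉ Q) : (∃ M : Subgroup G, M.Normal ∧ M.index = 2 ∧ u ∉ M) ∨ ∃ g : G, g * u * g⁻¹ ∈ Q := by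
  classical
  by_cases hex : ∃ g : G, g * u * g⁻¹ ∈ Q
  · exact Or.inr hex
  left
  have : Fintype (G ⧸ Q) := Fintype.ofFinite _
  let φ : G →* ℤˣ := (Equiv.Perm.sign : Equiv.Perm (G ⧸ Q) →* ℤˣ).comp (MulAction.toPermHom G (G ⧸ Q))
  have hfix : IsEmpty (Function.fixedPoints (MulAction.toPermHom G (G ⧸ Q) u)) := by
    refine ⟨fun ⟨q, hq⟩ => hex ?_⟩
    induction q using QuotientGroup.induction_on with
    | H g =>
      have h1 : ((u * g : G) : G ⧸ Q) = (g : G ⧸ Q) := hq
      refine ⟨g⁻¹, ?_⟩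
      have h2 := QuotientGroup.eq.1 h1.symm
      rwa [inv_inv, mul_assoc]
  have hu2 : u ^ 2 = 1 := hu ▸ pow_orderOf_eq_one u
  have hφu : φ u = -1 := by
    show Equiv.Perm.sign (MulAction.toPermHom G (G ⧸ Q) u) = -1
    rw [Equiv.Perm.sign_of_pow_two_eq_one (by rw [← map_pow, hu2, map_one]),
      Fintype.card_eq_zero (α := Function.fixedPoints (MulAction.toPermHom G (G ⧸ Q) u)),
      Nat.sub_zero]
    have hidx : Fintype.card (G ⧸ Q) = 2 * (P : Subgroup G).index := by
      rw [← Nat.card_eq_fintype_card, ← Subgroup.index_eq_card, ← Subgroup.relIndex_mul_index hQP, hQi]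
    rw [hidx, Nat.mul_div_cancel_left _ (by norm_num)]
    exact Odd.neg_one_pow (Nat.odd_iff.2 (Nat.two_dvd_ne_zero.1 P.not_dvd_index))
  have hsurj : Function.Surjective φ := by
    intro x
    rcases Int.units_eq_one_or x with rfl | rfl
    · exact ⟨1, map_one φ⟩
    · exact ⟨u, hφu⟩
  refine ⟨φ.ker, MonoidHom.normal_ker _, ?_, fun h => ?_⟩
  · rw [Subgroup.index_ker, MonoidHom.range_eq_top.2 hsurj, Subgroup.card_top,
      Nat.card_eq_fintype_card, Fintype.card_units_int]
  · rw [MonoidHom.mem_ker, hφu] at h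
    exact absurd h (by decide)

end Cfsg.Agent.S0111
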