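import Cfsg.Statements.S0115
import Cfsg.Agent.Lib.Transfer.MaximalClass

set_option autoImplicit false
open Cfsg
open scoped commutatorElement

namespace Cfsg.Agent.S0115

/-- A 2-group of order 2^n, n ≥ 3, is of maximal class exactly when its commutator quotient is a Klein four-group. -/
theorem result {X : Type*} [Group X] [Finite X] (n : ℕ) (hn : 3 ≤ n) (hX : Nat.card X = 2 ^ n) : Group.nilpotencyClass X = n - 1 ↔ IsKleinFour (X ⧸ commutator X) := by
  have := Fact.mk Nat.prime_two
  constructor
  · intro hc
    obtain ⟨h1, h2⟩ := CfsgLib.Transfer.squares_mem_commutator hn hX hc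
    have h4 : Nat.card (X ⧸ commutator X) = 4 := by rw [← Subgroup.index_eq_card, h1]
    refine ⟨h4, ?_⟩
    have hd : Monoid.exponent (X ⧸ commutator X) ∣ 2 := by
      rw [Monoid.exponent_dvd_iff_forall_pow_eq_one]
      intro q
      obtain ⟨x, rfl⟩ := QuotientGroup.mk'_surjective _ q
      rw [← map_pow]
      exact (QuotientGroup.eq_one_iff _).2 (h2 x)
    refine ((Nat.dvd_prime Nat.prime_two).1 hd).resolve_left fun h => ?_
    have : Subsingleton (X ⧸ commutator X) := Monoid.exp_eq_one_iff.1 h
    rw [Nat.card_unique] at h4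
    omega
  · intro hK
    refine (CfsgLib.Transfer.maximalClass_two hX ?_ fun x => ?_).1
    · rw [Subgroup.index_eq_card]; exact hK.card_four
    · rw [← QuotientGroup.eq_one_iff, QuotientGroup.mk_pow, ← hK.exponent_two]
      exact Monoid.pow_exponent_eq_one _

end Cfsg.Agent.S0115
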