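import Cfsg.Statements.S4399
import Cfsg.Agent.Lib.Transfer.MaximalClass
import Cfsg.Agent.Lib.Solvable.UniqueSubgroup

set_option autoImplicit false
open Cfsg

namespace Cfsg.Agent.S4399

open scoped commutatorElement

section Recognise

variable {S : Type*} [Group S] {N : ℕ} [NeZero N] {c : S}

/-- Powers of an element indexed by residues. -/
def zp (c : S) (i : ZMod N) : S := c ^ i.val

theorem zp_add (hc : c ^ N = 1) (i j : ZMod N) : zp c (i + j) = zp c i * zp c j := by
  rw [zp, zp, zp, ← pow_add, ZMod.val_add, ← pow_eq_pow_mod _ hc]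

theorem zp_zero : zp c (0 : ZMod N) = 1 := by simp [zp]

theorem zp_neg (hc : c ^ N = 1) (i : ZMod N) : zp c (-i) = (zp c i)⁻¹ := by
  refine eq_inv_of_mul_eq_one_left ?_
  rw [← zp_add hc, neg_add_cancel, zp_zero]

theorem zp_swap (hc : c ^ N = 1) {x : S} (hx : x * c * x⁻¹ = c⁻¹) (i : ZMod N) :
    zp c i * x = x * zp c (-i) := by
  have h : x * zp c i * x⁻¹ = (zp c i)⁻¹ := by rw [zp, ← conj_pow, hx, inv_pow]
  have h2 : x * zp c (-i) * x⁻¹ = zp c i := by
    rw [zp_neg hc, ← conj_inv, h, inv_inv]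
  calc zp c i * x = x * zp c (-i) * x⁻¹ * x := by rw [h2]
    _ = _ := by group

theorem exists_zp (hc : c ^ N = 1) {s : S} (hs : s ∈ Subgroup.zpowers c) : ∃ i : ZMod N, zp c i = s := by
  obtain ⟨k, rfl⟩ := hs
  refine ⟨(k : ZMod N), ?_⟩
  show c ^ ((k : ZMod N)).val = c ^ k
  rw [← zpow_natCast, ZMod.val_intCast]
  rw [zpow_eq_zpow_iff_modEq]
  exact (Int.mod_modEq k N).of_dvd (Int.natCast_dvd_natCast.2 (orderOf_dvd_of_pow_eq_one hc))

theorem dihedral_iso [Finite S] (hc : c ^ N = 1) {x : S} (hi : (Subgroup.zpowers c).index = 2)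
    (hxC : x ∉ Subgroup.zpowers c) (hx : x * c * x⁻¹ = c⁻¹) (hx2 : x * x = 1)
    (hcard : Nat.card S = 2 * N) : Nonempty (S ≃* DihedralGroup N) := by
  let f : DihedralGroup N →* S :=
    { toFun := fun g => match g with
        | .r i => zp c i
        | .sr i => x * zp c i
      map_one' := zp_zero
      map_mul' := fun g h => by
        rcases g with i | i <;> rcases h with j | j
        · exact zp_add hc i j
        · show x * zp c (j - i) = zp c i * (x * zp c j)
          rw [← mul_assoc, zp_swap hc hx, mul_assoc, ← zp_add hc, neg_add_eq_sub]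
        · show x * zp c (i + j) = x * zp c i * zp c j
          rw [zp_add hc, mul_assoc]
        · show zp c (j - i) = x * zp c i * (x * zp c j)
          rw [mul_assoc, ← mul_assoc (zp c i), zp_swap hc hx, mul_assoc, ← zp_add hc, neg_add_eq_sub,
            ← mul_assoc, hx2, one_mul] }
  have hsurj : Function.Surjective f := fun s => by
    by_cases hs : s ∈ Subgroup.zpowers c
    · obtain ⟨i, hi'⟩ := exists_zp hc hs
      exact ⟨.r i, hi'⟩
    · have h3 : x⁻¹ * s ∈ Subgroup.zpowers c := (Subgroup.mul_mem_iff_of_index_two hi).2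
        (iff_of_false (fun h => hxC ((Subgroup.inv_mem_iff _).1 h)) hs)
      obtain ⟨i, hi'⟩ := exists_zp hc h3
      exact ⟨.sr i, by show x * zp c i = s; rw [hi', mul_inv_cancel_left]⟩
  exact ⟨(MulEquiv.ofBijective f (hsurj.bijective_of_nat_card_le
    (by rw [DihedralGroup.nat_card, hcard]))).symm⟩

theorem quaternion_iso [Finite S] {m : ℕ} [NeZero m] {c : S} (hc : c ^ (2 * m) = 1) {x : S}
    (hi : (Subgroup.zpowers c).index = 2) (hxC : x ∉ Subgroup.zpowers c) (hx : x * c * x⁻¹ = c⁻¹)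
    (hx2 : x * x = c ^ m) (hcard : Nat.card S = 4 * m) : Nonempty (S ≃* QuaternionGroup m) := by
  have hm : zp c (m : ZMod (2 * m)) = c ^ m := by
    rw [zp, ZMod.val_natCast, Nat.mod_eq_of_lt (by have := NeZero.pos m; omega)]
  let f : QuaternionGroup m →* S :=
    { toFun := fun g => match g with
        | .a i => zp c i
        | .xa i => x * zp c i
      map_one' := zp_zero
      map_mul' := fun g h => by
        rcases g with i | i <;> rcases h with j | j
        · exact zp_add hc i j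
        · show x * zp c (j - i) = zp c i * (x * zp c j)
          rw [← mul_assoc, zp_swap hc hx, mul_assoc, ← zp_add hc, neg_add_eq_sub]
        · show x * zp c (i + j) = x * zp c i * zp c j
          rw [zp_add hc, mul_assoc]
        · show zp c ((m : ZMod (2 * m)) + j - i) = x * zp c i * (x * zp c j)
          rw [mul_assoc, ← mul_assoc (zp c i), zp_swap hc hx, mul_assoc, ← zp_add hc, neg_add_eq_sub,
            ← mul_assoc, hx2, ← hm, ← zp_add hc, add_sub_assoc] }
  have hsurj : Function.Surjective f := fun s => by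
    by_cases hs : s ∈ Subgroup.zpowers c
    · obtain ⟨i, hi'⟩ := exists_zp hc hs
      exact ⟨.a i, hi'⟩
    · have h3 : x⁻¹ * s ∈ Subgroup.zpowers c := (Subgroup.mul_mem_iff_of_index_two hi).2
        (iff_of_false (fun h => hxC ((Subgroup.inv_mem_iff _).1 h)) hs)
      obtain ⟨i, hi'⟩ := exists_zp hc h3
      exact ⟨.xa i, by show x * zp c i = s; rw [hi', mul_inv_cancel_left]⟩
  exact ⟨(MulEquiv.ofBijective f (hsurj.bijective_of_nat_card_le
    (by rw [Nat.card_eq_fintype_card, QuaternionGroup.card, hcard]))).symm⟩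

end Recognise


/-- Let S be a finite 2-group whose commutator quotient S/[S,S] is a Klein four-group (order 4 and exponent 2). Then S itself has order 4, or S is dihedral of order at least 8, semidihedral of order at least 16 (order 2^(k+4) with an element a of order 2^(k+3) and an involution b with b a b⁻¹ = a^(2^(k+2)−1)), or generalized quaternion of order at least 8. -/
theorem result {S : Type*} [Group S] [Finite S] (h2 : IsPGroup 2 S) (hab : Nat.card (Abelianization S) = 4)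
    (hexp : ∀ x : Abelianization S, x ^ 2 = 1) :
    Nat.card S = 4 ∨
    ((∃ k : ℕ, Nonempty (S ≃* DihedralGroup (2 ^ (k + 2)))) ∨
      (∃ k : ℕ, Nat.card S = 2 ^ (k + 4) ∧ ∃ a b : S, orderOf a = 2 ^ (k + 3) ∧ orderOf b = 2 ∧ b * a * b⁻¹ = a ^ (2 ^ (k + 2) - 1)) ∨
      (∃ k : ℕ, Nonempty (S ≃* QuaternionGroup (2 ^ (k + 1))))) := by
  have := Fact.mk Nat.prime_two
  obtain ⟨n, hn⟩ := IsPGroup.iff_card.1 h2
  have hidx : (commutator S).index = 4 := hab
  have hsq : ∀ g : S, g ^ 2 ∈ commutator S := fun g => by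
    rw [← QuotientGroup.eq_one_iff]
    exact hexp (Abelianization.of g)
  obtain ⟨-, C, hC, hCi⟩ := CfsgLib.Transfer.maximalClass_two hn hidx hsq
  have hcardge : 4 ≤ Nat.card S := hidx ▸ Nat.le_of_dvd Nat.card_pos (commutator S).index_dvd_card
  by_cases hn3 : n < 3
  · left
    rw [hn] at hcardge ⊢
    interval_cases n <;> simp_all
  right
  obtain ⟨l, rfl⟩ : ∃ l, n = l + 3 := ⟨n - 3, by omega⟩
  obtain ⟨c, rfl⟩ := (Subgroup.isCyclic_iff_exists_zpowers_eq_top C).1 hC
  have hoc : orderOf c = 2 ^ (l + 2) := by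
    have h1 := (Subgroup.zpowers c).card_mul_index
    rw [Nat.card_zpowers, hCi, hn, show 2 ^ (l + 3) = 2 ^ (l + 2) * 2 from pow_succ 2 _] at h1
    exact Nat.eq_of_mul_eq_mul_right two_pos h1
  have hcpow : c ^ 2 ^ (l + 2) = 1 := hoc ▸ pow_orderOf_eq_one c
  obtain ⟨x, hx⟩ : ∃ x, x ∉ Subgroup.zpowers c := by
    by_contra hcon
    push Not at hcon
    rw [(Subgroup.eq_top_iff' _).2 hcon, Subgroup.index_top] at hCi
    omega
  have hCn : (Subgroup.zpowers c).Normal := Subgroup.normal_of_index_eq_two hCi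
  obtain ⟨r, hr⟩ := hCn.conj_mem c (Subgroup.mem_zpowers c) x
  replace hr : x * c * x⁻¹ = c ^ r := hr.symm
  have hx2 : x * x ∈ Subgroup.zpowers c := Subgroup.mul_self_mem_of_index_two hCi x
  obtain ⟨j, hj⟩ := hx2
  replace hj : x * x = c ^ j := hj.symm
  have hconj : ∀ i : ℤ, x * c ^ i * x⁻¹ = c ^ (r * i) := fun i => by rw [← conj_zpow, hr, ← zpow_mul]
  have hdvd : ∀ a b : ℤ, c ^ a = c ^ b → ((2 : ℤ) ^ (l + 2)) ∣ a - b := fun a b h => by
    have h1 := (zpow_eq_zpow_iff_modEq.1 h).symm.dvd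
    rw [hoc] at h1
    exact_mod_cast h1
  have hof : ∀ a b : ℤ, ((2 : ℤ) ^ (l + 2)) ∣ a - b → c ^ a = c ^ b := fun a b h => by
    rw [zpow_eq_zpow_iff_modEq, hoc]
    exact (Int.modEq_iff_dvd.2 (by exact_mod_cast h)).symm
  have hrr : (2 : ℤ) ^ (l + 2) ∣ r * r - 1 := by
    apply hdvd
    rw [zpow_one]
    have h1 : x * (x * c * x⁻¹) * x⁻¹ = c := by
      have hcm : Commute (x * x) c := hj ▸ (Commute.refl c).zpow_left j
      calc x * (x * c * x⁻¹) * x⁻¹ = (x * x) * c * (x * x)⁻¹ := by group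
        _ = c := by rw [hcm.eq, mul_inv_cancel_right]
    rw [hr, hconj r] at h1
    exact h1
  have hjr : (2 : ℤ) ^ (l + 2) ∣ j * r - j := by
    apply hdvd
    rw [mul_comm, ← hconj, ← hj]
    group
  have h4 : ¬ (4 : ℤ) ∣ r - 1 := by
    intro h4
    set K := Subgroup.zpowers (c ^ (r - 1)) with hK
    have hgen : ∀ g : S, (∃ i : ℤ, g = c ^ i) ∨ ∃ i : ℤ, g = x * c ^ i := fun g => by
      by_cases hg : g ∈ Subgroup.zpowers c
      · obtain ⟨i, rfl⟩ := hg; exact Or.inl ⟨i, rfl⟩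
      · obtain ⟨i, hi⟩ := (Subgroup.mul_mem_iff_of_index_two hCi).2
          (iff_of_false (fun h => hx ((Subgroup.inv_mem_iff _).1 h)) hg : x⁻¹ ∈ Subgroup.zpowers c ↔ g ∈ _)
        exact Or.inr ⟨i, by rw [show c ^ i = x⁻¹ * g from hi, mul_inv_cancel_left]⟩
    have hKn : K.Normal := ⟨by
      rintro _ ⟨a, rfl⟩ g
      simp only [← zpow_mul]
      rcases hgen g with ⟨i, rfl⟩ | ⟨i, rfl⟩
      · exact ⟨a, by show (c ^ (r - 1)) ^ a = _; rw [← zpow_mul, ← zpow_neg, ← zpow_add, ← zpow_add]; congr 1; ring⟩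
      · refine ⟨r * a, ?_⟩
        show (c ^ (r - 1)) ^ (r * a) = _
        calc (c ^ (r - 1)) ^ (r * a) = c ^ (r * ((r - 1) * a)) := by rw [← zpow_mul]; congr 1; ring
          _ = x * c ^ ((r - 1) * a) * x⁻¹ := (hconj _).symm
          _ = x * c ^ i * c ^ ((r - 1) * a) * (x * c ^ i)⁻¹ := by group⟩
    let π := QuotientGroup.mk' K
    have hcx : π x * π c = π c * π x := by
      have h1 : π (x * c * x⁻¹ * c⁻¹) = 1 := by
        refine (QuotientGroup.eq_one_iff _).2 ?_
        rw [hr, ← zpow_neg_one, ← zpow_add, ← sub_eq_add_neg]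
        exact Subgroup.mem_zpowers _
      rw [map_mul, map_mul, map_mul, map_inv, map_inv, mul_inv_eq_one, mul_inv_eq_iff_eq_mul] at h1
      exact h1
    have hle : commutator S ≤ K := by
      rw [commutator_def, Subgroup.commutator_le]
      intro g _ h _
      rw [← QuotientGroup.eq_one_iff]
      change π ⁅g, h⁆ = 1
      rw [map_commutatorElement, commutatorElement_eq_one_iff_mul_comm]
      have hc' : Commute (π x) (π c) := hcx
      rcases hgen g with ⟨i, rfl⟩ | ⟨i, rfl⟩ <;> rcases hgen h with ⟨k, rfl⟩ | ⟨k, rfl⟩ <;>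
        simp only [map_mul, map_zpow]
      · exact ((Commute.refl (π c)).zpow_zpow i k).eq
      · exact ((hc'.symm.zpow_left i).mul_right ((Commute.refl (π c)).zpow_zpow i k)).eq
      · exact ((hc'.zpow_right k).mul_left ((Commute.refl (π c)).zpow_zpow i k)).eq
      · exact (((Commute.refl (π x)).mul_right (hc'.zpow_right k)).mul_left
          ((hc'.symm.zpow_left i).mul_right ((Commute.refl (π c)).zpow_zpow i k))).eq
    have hcK : Nat.card K ∣ 2 ^ l := by
      rw [hK, Nat.card_zpowers]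
      refine orderOf_dvd_of_pow_eq_one ?_
      rw [← zpow_natCast, ← zpow_mul, ← zpow_zero c]
      apply hof
      obtain ⟨t, ht⟩ := h4
      exact ⟨t, by rw [ht, pow_add]; push_cast; ring⟩
    have h5 := (Subgroup.card_dvd_of_le hle).trans hcK
    have h6 := (commutator S).card_mul_index
    rw [hidx, hn] at h6
    have h7 := Nat.le_of_dvd (pow_pos two_pos l) h5
    rw [pow_add, show (2 : ℕ) ^ 3 = 8 by rfl] at h6
    have := Nat.two_pow_pos l
    omega
  have hodd : ∃ u, r - 1 = 2 * (2 * u + 1) := by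
    obtain ⟨v, hv⟩ : (2 : ℤ) ∣ r - 1 := by
      have h8 : (2 : ℤ) ∣ (r - 1) * (r + 1) := by
        have := (dvd_pow_self (2 : ℤ) (show l + 2 ≠ 0 by omega)).trans hrr
        rwa [show (r - 1) * (r + 1) = r * r - 1 by ring]
      rcases Int.prime_two.dvd_or_dvd h8 with h | h
      · exact h
      · omega
    refine ⟨v / 2, ?_⟩
    omega
  obtain ⟨u, hu⟩ := hodd
  obtain ⟨w, hw⟩ : (2 : ℤ) ^ (l + 1) ∣ j := by
    have h9 : (2 : ℤ) ^ (l + 2) ∣ 2 * ((2 * u + 1) * j) := by
      rw [show 2 * ((2 * u + 1) * j) = j * r - j by rw [show r = 2 * (2 * u + 1) + 1 by omega]; ring]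
      exact hjr
    rw [pow_succ' (2 : ℤ) (l + 1)] at h9
    have h10 : (2 : ℤ) ^ (l + 1) ∣ (2 * u + 1) * j := Int.dvd_of_mul_dvd_mul_left two_ne_zero h9
    exact (IsCoprime.pow_left ⟨-u, 1, by ring⟩).dvd_of_dvd_mul_left h10
  set z := c ^ ((2 : ℕ) ^ (l + 1)) with hz
  have hz2 : z * z = 1 := by
    rw [hz, ← pow_add, show 2 ^ (l + 1) + 2 ^ (l + 1) = 2 ^ (l + 2) by rw [pow_succ 2 (l + 1)]; ring, hcpow]
  have hxx : x * x = 1 ∨ x * x = z := by
    rw [hj, hw, zpow_mul, show c ^ ((2 : ℤ) ^ (l + 1)) = z by rw [hz, ← zpow_natCast]; push_cast; rfl]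
    obtain ⟨a, rfl⟩ | ⟨a, rfl⟩ := Int.even_or_odd w
    · left
      rw [zpow_add, ← (Commute.refl z).mul_zpow, hz2, one_zpow]
    · right
      rw [zpow_add, zpow_one, zpow_mul, zpow_two, hz2, one_zpow, one_mul]
  have hrcases : (2 : ℤ) ^ (l + 2) ∣ r + 1 ∨
      (1 ≤ l ∧ (2 : ℤ) ^ (l + 2) ∣ r + 1 - 2 ^ (l + 1)) := by
    rcases Nat.eq_zero_or_pos l with rfl | hl
    · left
      exact ⟨u + 1, by omega⟩
    · rcases CfsgLib.Solvable.two_cases (n := l + 2) (by omega) hrr with h | h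
      · exact absurd ((pow_dvd_pow (2 : ℤ) (show 2 ≤ l + 2 - 1 by omega)).trans h) (by simpa using h4)
      · rw [show l + 2 - 1 = l + 1 by omega] at h
        obtain ⟨t, ht⟩ := h
        rcases Int.even_or_odd t with ⟨a, rfl⟩ | ⟨a, rfl⟩
        · exact Or.inl ⟨a, by rw [ht, pow_succ]; ring⟩
        · exact Or.inr ⟨hl, a, by rw [ht, pow_succ (2 : ℤ) (l + 1)]; ring⟩
  rcases hrcases with h | ⟨hl, h⟩
  · have hinv : x * c * x⁻¹ = c⁻¹ := by
      rw [hr, ← zpow_neg_one]
      exact hof _ _ (by simpa using h)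
    rcases hxx with hx1 | hx1
    · refine Or.inl ⟨l, ?_⟩
      exact dihedral_iso hcpow hCi hx hinv hx1 (by rw [hn]; exact pow_succ' 2 _)
    · refine Or.inr (Or.inr ⟨l, ?_⟩)
      have : NeZero (2 ^ (l + 1)) := ⟨pow_ne_zero _ two_ne_zero⟩
      exact quaternion_iso (by rw [← pow_succ', hcpow]) hCi hx hinv hx1
        (by rw [hn, show 4 = 2 ^ 2 by rfl, ← pow_add]; congr 1; omega)
  · refine Or.inr (Or.inl ⟨l - 1, by rw [hn]; congr 1; omega, c, ?_⟩)
    have e2 : l - 1 + 2 = l + 1 := by omega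
    have e3 : l - 1 + 3 = l + 2 := by omega
    have hcr : c ^ r = c ^ (2 ^ (l + 1) - 1 : ℕ) := by
      rw [← zpow_natCast]
      apply hof
      rw [Nat.cast_sub Nat.one_le_two_pow]
      push_cast
      rw [show r - ((2 : ℤ) ^ (l + 1) - 1) = r + 1 - 2 ^ (l + 1) by ring]
      exact h
    obtain ⟨b, hbC, hb2, hbc⟩ : ∃ b, b ∉ Subgroup.zpowers c ∧ b * b = 1 ∧ b * c * b⁻¹ = c ^ r := by
      rcases hxx with hx1 | hx1
      · exact ⟨x, hx, hx1, hr⟩
      · refine ⟨c * x, fun hh => hx ((Subgroup.mul_mem_cancel_left _ (Subgroup.mem_zpowers c)).1 hh), ?_, ?_⟩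
        · have e : c * x * (c * x) = c * (x * c * x⁻¹) * (x * x) := by group
          rw [e, hr, hx1]
          have hz' : c * c ^ r = z := by
            rw [← zpow_one_add, hz, ← zpow_natCast]
            apply hof
            push_cast
            rw [show 1 + r - (2 : ℤ) ^ (l + 1) = r + 1 - 2 ^ (l + 1) by ring]
            exact h
          rw [hz', hz2]
        · calc c * x * c * (c * x)⁻¹ = c * (x * c * x⁻¹) * c⁻¹ := by group
            _ = c ^ r := by rw [hr]; group
    refine ⟨b, ?_, ?_, ?_⟩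
    · rw [e3, hoc]
    · exact orderOf_eq_prime (by rw [sq, hb2]) (fun e => hbC (e ▸ Subgroup.one_mem _))
    · rw [e2, hbc, hcr]

end Cfsg.Agent.S4399
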