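import Cfsg.Statements.S3224
import Cfsg.Agent.S4399
import Cfsg.Agent.Lib.Transfer.MaximalClass
import Cfsg.Agent.Lib.FGS.Class
-- import your own Cfsg.Agent.* helpers here

set_option autoImplicit false
open Cfsg

namespace Cfsg.Agent.S3224


theorem quaternion_involution_central {n : ℕ} [NeZero n] (q : QuaternionGroup n) (hq : orderOf q = 2)
    (r : QuaternionGroup n) : r * q = q * r := by
  cases q with
  | a i =>
    have h2 : QuaternionGroup.a i * QuaternionGroup.a i = (1 : QuaternionGroup n) := by
      rw [← sq, ← hq]; exact pow_orderOf_eq_one _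
    have hi : i + i = 0 := by
      rw [QuaternionGroup.a_mul_a, QuaternionGroup.one_def] at h2
      injection h2
    have hni : -i = i := neg_eq_of_add_eq_zero_left hi
    cases r with
    | a j => simp [add_comm]
    | xa j => simp [sub_eq_add_neg, hni]
  | xa i => rw [QuaternionGroup.orderOf_xa] at hq; omega


/-- A finite 2-group containing an involution whose centralizer has order 4 is dihedral, quasi-dihedral (semidihedral), or of order 4. -/
theorem result {S : Type*} [Group S] [Finite S] (hS : IsPGroup 2 S)
    (x : S) (hx : orderOf x = 2) (hC : Nat.card ↥(Subgroup.centralizer ({x} : Set S)) = 4) :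
    (∃ n : ℕ, Nonempty (S ≃* DihedralGroup n)) ∨ Cfsg.IsQuasiDihedral S ∨ Nat.card S = 4 := by
  haveI : Fact (Nat.Prime 2) := ⟨Nat.prime_two⟩
  by_cases h4 : Nat.card S = 4
  · exact Or.inr (Or.inr h4)
  set C := Subgroup.centralizer ({x} : Set S) with hCdef
  have hncomm : ¬ ∀ y : S, y * x = x * y := by
    intro hall
    apply h4
    rw [← hC, hCdef, show Subgroup.centralizer ({x} : Set S) = ⊤ from
      eq_top_iff.mpr fun y _ => Subgroup.mem_centralizer_singleton_iff.mpr (hall y), Subgroup.card_top]
  have hnc : ¬ IsCyclic S := fun h => hncomm fun y => IsMulCommutative.is_comm.comm y x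
  have hcard : 2 ^ 2 ≤ Nat.card S := le_trans (by omega) (Subgroup.card_le_card_group C)
  have hle : C.index ≤ Nat.card (commutator S) := by
    rw [hCdef, ← CfsgLib.FGS.ncard_carrier_mk, CfsgLib.FGS.carrier_mk_eq, ← Nat.card_coe_set_eq]
    refine Nat.card_le_card_of_injective
      (fun h : {h : S | IsConj x h} => (⟨h.1 * x⁻¹, ?_⟩ : commutator S)) ?_
    · obtain ⟨g, hg⟩ := isConj_iff.mp h.2
      rw [← hg, ← commutatorElement_def]
      exact Subgroup.commutator_mem_commutator (Subgroup.mem_top _) (Subgroup.mem_top _)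
    · intro a b hab
      exact Subtype.ext (mul_right_cancel (congrArg Subtype.val hab))
  have hidx : (commutator S).index = 2 ^ 2 := by
    refine le_antisymm ?_ (CfsgLib.Transfer.prime_sq_le_index_commutator hS hcard)
    have h1 := C.card_mul_index
    have h2 := (commutator S).card_mul_index
    rw [hC] at h1
    have : Nat.card (commutator S) * (commutator S).index ≤ Nat.card (commutator S) * 2 ^ 2 := by
      rw [h2, ← h1]; omega
    exact Nat.le_of_mul_le_mul_left this Nat.card_pos
  have hab : Nat.card (Abelianization S) = 4 := hidx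
  have hexp : ∀ y : Abelianization S, y ^ 2 = 1 := by
    intro y
    obtain ⟨g, rfl⟩ := QuotientGroup.mk'_surjective (commutator S) y
    exact (QuotientGroup.eq_one_iff _).mpr (CfsgLib.Transfer.pow_prime_mem_commutator hS hnc hidx g)
  rcases Cfsg.Agent.S4399.result hS hab hexp with h | ⟨k, e⟩ | ⟨k, hk, a, b, ha, hb, hba⟩ | ⟨k, ⟨e⟩⟩
  · exact absurd h h4
  · exact Or.inl ⟨_, e⟩
  · exact Or.inr (Or.inl ⟨k + 3, by omega, by rw [hk], a, b, ha, hb, by
      rw [hba, show k + 3 - 1 = k + 2 by omega]⟩)
  · refine absurd (fun y => e.injective ?_) hncomm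
    rw [map_mul, map_mul]
    exact quaternion_involution_central _ (by rw [MulEquiv.orderOf_eq]; exact hx) _

end Cfsg.Agent.S3224
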