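import Cfsg.Statements.S3331
import Cfsg.Agent.Lib.SelfThree.Main
import Cfsg.Agent.S0494
import Cfsg.Agent.S0495
import Cfsg.Agent.Lib.LocalEven.SL2Higman
import Cfsg.Agent.Lib.PrimeDegreeTwo.AltFive
import Cfsg.Agent.Lib.ThreeTransp.Affine54
-- import your own Cfsg.Agent.* helpers here

set_option autoImplicit false
open Cfsg

namespace Cfsg.Agent.S3331

/-- Let G be a finite group containing a subgroup X of order 3 with C_G(X) = X. Then one of the following holds: G has a nilpotent normal subgroup N of order prime to 3 with G/N of order 3 or isomorphic to Sym(3); or G has an elementary abelian normal 2-subgroup N with G/N isomorphic to the alternating group of degree 5; or G is isomorphic to PSL(2,7). -/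
theorem result {G : Type*} [Group G] [Finite G]
    (X : Subgroup G) (hX : Nat.card X = 3) (hC : Subgroup.centralizer (X : Set G) = X) :
    (∃ (N : Subgroup G) (hN : N.Normal), Group.IsNilpotent N ∧ (Nat.card N).Coprime 3 ∧
        (Nat.card (G ⧸ N) = 3 ∨ Nonempty (G ⧸ N ≃* Equiv.Perm (Fin 3)))) ∨
    (∃ (N : Subgroup G) (hN : N.Normal), IsMulCommutative N ∧ (∀ n ∈ N, n ^ 2 = 1) ∧
        Nonempty (G ⧸ N ≃* alternatingGroup (Fin 5))) ∨
    Nonempty (G ≃* Matrix.ProjectiveSpecialLinearGroup (Fin 2) (ZMod 7)) := by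
  classical
  haveI : Fact (Nat.Prime 3) := ⟨Nat.prime_three⟩
  obtain ⟨x₀, hx₀⟩ := exists_prime_orderOf_dvd_card' (G := X) 3 (dvd_of_eq hX.symm)
  set x : G := (x₀ : G) with hxdef
  have hxo : orderOf x = 3 := by rw [hxdef, Subgroup.orderOf_coe, hx₀]
  have hXx : Subgroup.zpowers x = X :=
    Subgroup.eq_of_le_of_card_ge (Subgroup.zpowers_le.2 x₀.2) (by rw [hX, Nat.card_zpowers, hxo])
  have hCx : Subgroup.centralizer ({x} : Set G) = Subgroup.zpowers x := by
    rw [hXx]
    refine le_antisymm (fun g hg => ?_) ?_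
    · rw [← hC, Subgroup.mem_centralizer_iff]
      intro k hk
      rw [SetLike.mem_coe, ← hXx] at hk
      obtain ⟨i, rfl⟩ := Subgroup.mem_zpowers_iff.1 hk
      exact ((show Commute g x from Subgroup.mem_centralizer_singleton_iff.1 hg).zpow_right i).eq.symm
    · conv_lhs => rw [← hC]
      exact Subgroup.centralizer_le (Set.singleton_subset_iff.2 x₀.2)
  have h : CfsgLib.SelfThree.Hyp x := CfsgLib.SelfThree.hyp_of_centralizer hxo hCx
  rcases CfsgLib.SelfThree.shape h with ⟨N, hN, hnil, h3, hi⟩ | ⟨N, hN, h2, hi, hmax⟩ | ⟨hs, hc⟩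
  · left
    refine ⟨N, hN, hnil, (Nat.prime_three.coprime_iff_not_dvd.2 h3).symm, ?_⟩
    haveI := hN
    rw [Subgroup.index_eq_card] at hi
    rcases hi with e | e
    · exact Or.inl e
    · right
      set y : G ⧸ N := QuotientGroup.mk x
      have hy : CfsgLib.SelfThree.Hyp y := CfsgLib.SelfThree.hyp_quotient h N h3
      have hu : ∃ u, u * y * u⁻¹ = y⁻¹ := by
        by_contra hno
        push Not at hno
        obtain ⟨L, hLn, hyL, hLi⟩ := hy.complement hno
        have h1 := CfsgLib.SelfThree.Inv.card_mod hy ⟨hyL, fun a ha => hLn.conj_mem a ha _⟩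
        have h4 := L.card_mul_index
        rw [hLi, e] at h4
        omega
      obtain ⟨u, hu⟩ := hu
      have huy : u * y * y * (u * y)⁻¹ = y⁻¹ := by
        rw [show u * y * y * (u * y)⁻¹ = u * y * u⁻¹ by group, hu]
      refine CfsgLib.ThreeTransp.Affine54.iso_perm_three e (a := u) (b := u * y) (hy.mul_self_of_inverts hu) ?_ ?_
        (hy.mul_self_of_inverts huy) (fun e' => hy.ne_one (by simpa using e'.symm))
      · intro e'
        have := hy.orderOf_inverts hu
        rw [e', orderOf_one] at this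
        omega
      · rw [← mul_assoc, hy.mul_self_of_inverts hu, one_mul, hy.cube]
  · right; left
    haveI := hN
    rw [Subgroup.index_eq_card] at hi
    haveI hs : IsSimpleGroup (G ⧸ N) := CfsgLib.SelfThree.isSimple_of_sub (fun e => by
      subst e
      haveI : Subsingleton (G ⧸ (⊤ : Subgroup G)) := QuotientGroup.subsingleton_quotient_top
      rw [Nat.card_of_subsingleton (1 : G ⧸ (⊤ : Subgroup G))] at hi
      omega) hmax
    obtain ⟨e⟩ := Cfsg.Agent.S0494.result hi
    haveI : Fact (Nat.Prime 2) := ⟨Nat.prime_two⟩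
    haveI := Fintype.ofFinite (GaloisField 2 2)
    have hK : Fintype.card (GaloisField 2 2) = 4 := by
      rw [← Nat.card_eq_fintype_card, GaloisField.card 2 2 (by norm_num)]
      norm_num
    obtain ⟨e'⟩ := CfsgLib.PrimeDegreeTwo.nonempty_sl_four hK
    have h3 : ¬ 3 ∣ Nat.card N := fun hd => by
      obtain ⟨k, hk⟩ := IsPGroup.iff_card.1 h2
      rw [hk] at hd
      have := Nat.prime_three.dvd_of_dvd_pow hd
      omega
    have hNi := CfsgLib.SelfThree.inv_of_normal h N h3
    haveI : CharP (GaloisField 2 2) 2 := inferInstance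
    obtain ⟨⟨hcomm, hsq⟩, -⟩ := CfsgLib.LocalEven.SL2Higman.higman (n := 2) h2 (e.trans e'.symm)
      (by rw [Nat.card_eq_fintype_card, hK]; norm_num) (le_refl 2) hxo
      (fun g hg hgx => hNi.fpf h hg (mul_inv_eq_iff_eq_mul.1 hgx).symm)
    exact ⟨N, hN, hcomm, hsq, ⟨e⟩⟩
  · right; right
    haveI := hs
    haveI : Fact (Nat.Prime 7) := ⟨by norm_num⟩
    exact Cfsg.Agent.S0495.result hc (ZMod.card 7)

end Cfsg.Agent.S3331
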