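import Cfsg.Statements.S4482
import Cfsg.Agent.Lib.Blocks.DihBlock.OrderFormula

set_option autoImplicit false
open Cfsg

namespace Cfsg.Agent.S4482

/-- An order formula for groups with dihedral Sylow 2-subgroups and one class of involutions. Let G be a finite group whose Sylow 2-subgroup P = ⟨σ, τ⟩ is dihedral of order 2^n ≥ 8 (σ of order 2^(n−1), τ an involution inverting σ), let J be the central involution σ^(2^(n−2)), and suppose J, τ and στ are conjugate in G. Fix M over 2 and let χ₁ be an irreducible character in the principal 2-block taking one constant value δ₁ = ±1 at every non-identity power of σ, with χ₁ ≠ 1. Then, with x₁ = χ₁(1) and c(·) denoting orders of centralizers, x₁ ≠ δ₁ and #G · (x₁ − δ₁)² = 2·x₁(x₁ + δ₁)·c(J)³·(1/c(J, τ) + 1/c(J, στ))², where c(J, y) is the order of the joint centralizer of J and y. -/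
theorem result {G : Type*} [Group G] [Finite G] (M : Ideal Cfsg.AlgInt) (hM : Cfsg.IsPModular 2 M) (n : ℕ) (hn : 3 ≤ n) (P : Sylow 2 G) (σ τ : G) (hσ : σ ∈ (P : Subgroup G)) (hτ : τ ∈ (P : Subgroup G)) (hσo : orderOf σ = 2 ^ (n - 1)) (hτo : orderOf τ = 2) (hrel : τ * σ * τ⁻¹ = σ⁻¹) (hgen : Subgroup.closure ({σ, τ} : Set G) = (P : Subgroup G)) (hconj : IsConj (σ ^ (2 ^ (n - 2))) τ ∧ IsConj (σ ^ (2 ^ (n - 2))) (σ * τ)) (χ₁ : Cfsg.IrrCharacter G) (hχ₁ : χ₁ ∈ Cfsg.principalBlock M G) (h1 : (χ₁ : G → ℂ) ≠ (fun _ => 1)) (δ₁ : ℤ) (hδ₁ : δ₁ = 1 ∨ δ₁ = -1) (hval : ∀ l : ℕ, 0 < l → l < 2 ^ (n - 1) → (χ₁ : G → ℂ) (σ ^ l) = δ₁) : (Cfsg.charDegree (χ₁ : G → ℂ) : ℤ) ≠ δ₁ ∧ (Nat.card G : ℚ) * ((Cfsg.charDegree (χ₁ : G → ℂ) : ℚ) - δ₁) ^ 2 = 2 * (Cfsg.charDegree (χ₁ : G → ℂ) : ℚ) * ((Cfsg.charDegree (χ₁ : G → ℂ) : ℚ) + δ₁) * (Nat.card (Subgroup.centralizer ({σ ^ (2 ^ (n - 2))} : Set G)) : ℚ) ^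 3 * (1 / (Nat.card (Subgroup.centralizer ({σ ^ (2 ^ (n - 2)), τ} : Set G)) : ℚ) + 1 / (Nat.card (Subgroup.centralizer ({σ ^ (2 ^ (n - 2)), σ * τ} : Set G)) : ℚ)) ^ 2 := by
  classical
  let _ := Fintype.ofFinite G
  have : M.IsMaximal := hM.2.1
  obtain ⟨ι, hd, hισ, hιτ⟩ :=
    CfsgLib.Blocks.DihBlock.exists_data_of_generators hn hσ hτ hσo hτo hrel hgen
  have : NeZero (2 ^ (n - 1)) := ⟨pow_ne_zero _ two_ne_zero⟩
  have h2q : 2 * 2 ^ (n - 3) = 2 ^ (n - 2) := by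
    rw [show n - 2 = (n - 3) + 1 by omega, pow_succ, mul_comm]
  have hzz : CfsgLib.Invol.DihSylow.zz ι (2 ^ (n - 3)) = σ ^ (2 ^ (n - 2)) := by
    rw [CfsgLib.Invol.DihSylow.zz, h2q, ← DihedralGroup.r_one_pow, map_pow, hισ]
  have hστ : ι (DihedralGroup.sr (-1)) = σ * τ := by
    rw [← hισ, ← hιτ, ← map_mul, DihedralGroup.r_mul_sr, zero_sub]
  have hall : ∀ t : G, orderOf t = 2 → IsConj (CfsgLib.Invol.DihSylow.zz ι (2 ^ (n - 3))) t := by
    intro t ht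
    have h0 : IsConj (CfsgLib.Invol.DihSylow.zz ι (2 ^ (n - 3))) (CfsgLib.Invol.DihSylow.ss ι 0) := by
      rw [CfsgLib.Invol.DihSylow.ss, hιτ, hzz]; exact hconj.1
    have h1' : IsConj (CfsgLib.Invol.DihSylow.zz ι (2 ^ (n - 3))) (CfsgLib.Invol.DihSylow.ss ι (-1)) := by
      rw [CfsgLib.Invol.DihSylow.ss, hστ, hzz]; exact hconj.2
    have h1'' : IsConj (CfsgLib.Invol.DihSylow.ss ι (-1)) (CfsgLib.Invol.DihSylow.ss ι 1) :=
      CfsgLib.Invol.DihSylow.isConj_ss_of_par hd (by rw [map_neg, map_one]; decide)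
    rcases CfsgLib.Invol.DihSylow.isConj_cases hd ht with h | h | h
    · exact h.symm
    · exact h0.trans h.symm
    · exact (h1'.trans h1'').trans h.symm
  have hψ : (ZMod.stdAddChar (N := 2 ^ (n - 1))).IsPrimitive := ZMod.isPrimitive_stdAddChar _
  have h := CfsgLib.Blocks.DihBlock.order_formula hM hd hψ hall χ₁ hχ₁ (fun e => h1 (by rw [e]; rfl)) δ₁ hδ₁
    (fun l hl => by
      rw [← ZMod.natCast_zmod_val l, ← DihedralGroup.r_one_pow, map_pow, hισ]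
      exact hval l.val (Nat.pos_of_ne_zero ((ZMod.val_ne_zero _).2 hl)) (ZMod.val_lt l))
  rw [hιτ, hστ] at h
  dsimp only [CfsgLib.Blocks.DihBlock.CJ] at h
  rw [hzz] at h
  exact h

end Cfsg.Agent.S4482
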