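import Cfsg.Statements.S0514
import Cfsg.Agent.Lib.Local.OddAction
import Cfsg.Agent.Lib.LocalEven.Basic
import Mathlib.GroupTheory.SpecificGroups.Dihedral

set_option autoImplicit false
open Cfsg

namespace Cfsg.Agent.S0514

theorem mem_rot {n : ℕ} (i : ZMod n) : DihedralGroup.r i ∈ Subgroup.zpowers (DihedralGroup.r 1 : DihedralGroup n) := by
  obtain ⟨j, rfl⟩ := ZMod.intCast_surjective i
  exact ⟨j, DihedralGroup.r_one_zpow j⟩

theorem card_le_two_mul {Q : Type*} [Group Q] [Finite Q] (R : Subgroup Q)
    (h : ∀ x y : Q, x ∉ R → y ∉ R → x * y ∈ R) : Nat.card Q ≤ 2 * Nat.card R := by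
  classical
  by_cases hR : ∀ x, x ∈ R
  · rw [(Subgroup.eq_top_iff' R).2 hR, Subgroup.card_top]; omega
  push Not at hR
  obtain ⟨x, hx⟩ := hR
  refine (Nat.card_le_card_of_injective (β := Fin 2 × R)
    (fun y => if hy : y ∈ R then (0, ⟨y, hy⟩) else (1, ⟨x * y, h x y hx hy⟩)) fun a b hab => ?_).trans
    (by rw [Nat.card_prod, Nat.card_fin])
  dsimp only at hab
  split_ifs at hab with ha hb hb
  · exact congrArg Subtype.val (Prod.ext_iff.1 hab).2
  · exact absurd (Prod.ext_iff.1 hab).1 (by simp)
  · exact absurd (Prod.ext_iff.1 hab).1 (by simp)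
  · exact mul_left_cancel (congrArg Subtype.val (Prod.ext_iff.1 hab).2)

/-- In a finite group whose Sylow 2-subgroups are dihedral of order at least 4, the centralizer of any involution has a
normal subgroup of odd order whose index in the centralizer is a power of 2. -/
theorem result {X : Type*} [Group X] [Finite X]
    (S : Sylow 2 X) (n : ℕ) (hn : 2 ≤ n) (hS : Nonempty ((S : Subgroup X) ≃* DihedralGroup n)) (t : X)
    (ht : orderOf t = 2) :
    ∃ N : Subgroup (Subgroup.centralizer ({t} : Set X)), N.Normal ∧ Odd (Nat.card N) ∧ ∃ k : ℕ, N.index = 2 ^ k := by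
  have h2 : Fact (Nat.Prime 2) := ⟨Nat.prime_two⟩
  set C := Subgroup.centralizer ({t} : Set X) with hC
  have htC : t ∈ C := Subgroup.mem_centralizer_singleton_iff.2 rfl
  obtain ⟨e⟩ := hS
  have hF : CfsgLib.Transfer.FrobeniusCond 2 C := CfsgLib.Local.frobeniusCond_of_prime_pow fun q hq hq2 _ Q hQ g hg k hk => by
    have := Fact.mk hq
    set z : C := ⟨t, htC⟩
    have hz : z ∈ Subgroup.center C :=
      Subgroup.mem_center_iff.2 fun c => Subtype.ext (Subgroup.mem_centralizer_singleton_iff.1 c.2)
    have hzn : (Subgroup.zpowers z).Normal := ⟨fun w hw u => by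
      rwa [Subgroup.mem_center_iff.1 ((Subgroup.zpowers_le.2 hz) hw) u, mul_inv_cancel_right]⟩
    set Q1 := Q ⊔ Subgroup.zpowers z with hQ1
    have hzo : orderOf z = 2 := by rw [← Subgroup.orderOf_coe, ht]
    have hQ1p : IsPGroup 2 Q1 := hQ.to_sup_of_normal_right (IsPGroup.of_card (n := 1) (by rw [Nat.card_zpowers, hzo, pow_one]))
    have hg1 : g ∈ Subgroup.normalizer (Q1 : Set C) := by
      refine CfsgLib.LocalEven.mem_normalizer_of_conj_le ?_
      rw [hQ1, Subgroup.map_sup]
      refine sup_le_sup ?_ ?_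
      · rintro _ ⟨x, hx, rfl⟩; exact (Subgroup.mem_normalizer_iff.1 hg x).1 hx
      · rintro _ ⟨x, hx, rfl⟩; exact hzn.conj_mem x hx g
    -- embed `Q1` in a dihedral group
    obtain ⟨T, hT⟩ := (hQ1p.map C.subtype).exists_le_sylow
    let f : Q1 →* DihedralGroup n := ((T.equiv S).trans e).toMonoidHom.comp
      ((Subgroup.inclusion hT).comp (Q1.equivMapOfInjective C.subtype C.subtype_injective).toMonoidHom)
    have hf : Function.Injective f := ((T.equiv S).trans e).injective.comp
      ((Subgroup.inclusion_injective hT).comp (Q1.equivMapOfInjective C.subtype C.subtype_injective).injective)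
    set R : Subgroup Q1 := (Subgroup.zpowers (DihedralGroup.r 1 : DihedralGroup n)).comap f with hR
    have hout : ∀ x : Q1, x ∉ R → ∃ i, f x = DihedralGroup.sr i := by
      intro x hx
      rcases hfx : f x with i | i
      · exact absurd (show f x ∈ Subgroup.zpowers (DihedralGroup.r 1) by
          rw [hfx]; exact mem_rot i) hx
      · exact ⟨i, rfl⟩
    have hinv : ∀ x : Q1, x ∉ R → x ^ 2 = 1 := fun x hx => by
      obtain ⟨i, hi⟩ := hout x hx
      refine hf ?_
      rw [map_pow, map_one, hi, pow_two, DihedralGroup.sr_mul_sr, sub_self, DihedralGroup.r_zero]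
    have hmul : ∀ x y : Q1, x ∉ R → y ∉ R → x * y ∈ R := fun x y hx hy => by
      obtain ⟨i, hi⟩ := hout x hx
      obtain ⟨j, hj⟩ := hout y hy
      show f (x * y) ∈ Subgroup.zpowers _
      rw [map_mul, hi, hj, DihedralGroup.sr_mul_sr]; exact mem_rot _
    have hcard : Nat.card Q1 ≤ 2 * Nat.card R := card_le_two_mul R hmul
    have hcyc : IsCyclic R :=
      isCyclic_of_injective (f.subgroupComap (Subgroup.zpowers (DihedralGroup.r 1 : DihedralGroup n)))
        fun a b h => Subtype.ext (hf (congrArg Subtype.val h :))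
    have hc1 : g ∈ Subgroup.centralizer (Q1 : Set C) := by
      by_cases hall : ∀ x : Q1, x ^ 2 = 1
      · -- elementary abelian of order at most four
        have hR2 : Nat.card R ≤ 2 := by
          obtain ⟨x, hx⟩ := hcyc.exists_generator
          rw [← orderOf_eq_card_of_forall_mem_zpowers hx]
          exact orderOf_le_of_pow_eq_one two_pos (Subtype.ext (hall x))
        refine CfsgLib.Local.centralizes_of_fixed_le hQ1p hg1 hk (by
          simpa using fun h => hq2 ((Nat.prime_dvd_prime_iff_eq hq Nat.prime_two).1 h)) ?_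
        have hzc : Subgroup.zpowers z ≤ Q1 ⊓ Subgroup.centralizer ({g} : Set C) :=
          le_inf le_sup_right (Subgroup.zpowers_le.2 (Subgroup.mem_centralizer_singleton_iff.2 (Subgroup.mem_center_iff.1 hz g).symm))
        have h1 := Subgroup.card_le_of_le hzc
        rw [Nat.card_zpowers, hzo] at h1
        omega
      · push Not at hall
        obtain ⟨x0, hx0⟩ := hall
        obtain ⟨r, hr⟩ := hcyc.exists_generator
        have hr2 : (r : Q1) ^ 2 ≠ 1 := by
          intro h
          have hx0R : x0 ∈ R := by_contra fun h' => hx0 (hinv x0 h')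
          obtain ⟨i, hi⟩ := Subgroup.mem_zpowers_iff.1 (hr ⟨x0, hx0R⟩)
          refine hx0 ?_
          rw [← show ((r ^ i : R) : Q1) = x0 from congrArg Subtype.val hi, Subgroup.coe_zpow,
            ← zpow_natCast, ← zpow_mul, mul_comm, zpow_mul, zpow_natCast, h, one_zpow]
        have hgen : ∀ y : Q1, y ∈ R ↔ ((y : C) ∈ Subgroup.zpowers ((r : Q1) : C)) := by
          intro y
          constructor
          · intro hy
            obtain ⟨i, hi⟩ := Subgroup.mem_zpowers_iff.1 (hr ⟨y, hy⟩)
            exact ⟨i, congrArg (fun w : R => ((w : Q1) : C)) hi⟩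
          · rintro ⟨i, hi⟩
            have hy : y = (r : Q1) ^ i := Subtype.ext hi.symm
            rw [hy]; exact R.zpow_mem r.2 i
        have hgr : g ∈ Subgroup.normalizer (Subgroup.zpowers ((r : Q1) : C) : Set C) := by
          refine CfsgLib.LocalEven.mem_normalizer_of_conj_le ?_
          rw [MonoidHom.map_zpowers, Subgroup.zpowers_le]
          have hmem : g * (r : Q1) * g⁻¹ ∈ Q1 := (Subgroup.mem_normalizer_iff.1 hg1 _).1 (r : Q1).2
          refine (hgen ⟨_, hmem⟩).1 (by_contra fun h => hr2 ?_)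
          have h' : (g * ((r : Q1) : C) * g⁻¹) ^ 2 = 1 := congrArg Subtype.val (hinv _ h)
          rw [conj_pow] at h'
          exact Subtype.ext (conj_eq_one_iff.1 h')
        obtain ⟨m, hm⟩ := IsPGroup.iff_orderOf.1 hQ1p (r : Q1)
        rw [← Subgroup.orderOf_coe] at hm
        have hgc := CfsgLib.Local.centralizes_cyclic_two hk hq2 m _ hm hgr
        refine CfsgLib.Local.centralizes_of_fixed_le hQ1p hg1 hk (by
          simpa using fun h => hq2 ((Nat.prime_dvd_prime_iff_eq hq Nat.prime_two).1 h)) (hcard.trans ?_)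
        refine Nat.mul_le_mul_left 2 ?_
        refine Nat.card_le_card_of_injective (fun y => (⟨((y : Q1) : C), (y : Q1).2, ?_⟩ :
          ↥(Q1 ⊓ Subgroup.centralizer ({g} : Set C)))) fun a b h => ?_
        · exact (Subgroup.zpowers_le.2 (Subgroup.mem_centralizer_singleton_iff.2 hgc.symm)) ((hgen _).1 y.2)
        · exact Subtype.ext (Subtype.ext (congrArg (fun w : ↥(Q1 ⊓ Subgroup.centralizer ({g} : Set C)) => (w : C)) h))
    exact Subgroup.centralizer_le (SetLike.coe_subset_coe.2 le_sup_left) hc1
  obtain ⟨P, N, hN, hc⟩ := CfsgLib.Transfer.hasNormalPComplement_of_frobeniusCond hF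
  obtain ⟨m, hm⟩ := IsPGroup.iff_card.1 P.2
  have hNo : N.index = 2 ^ m := by rw [hc.symm.index_eq_card, hm]
  refine ⟨N, hN, ?_, m, hNo⟩
  rw [← Nat.not_even_iff_odd, even_iff_two_dvd]
  rw [← hc.index_eq_card]
  exact P.not_dvd_index

end Cfsg.Agent.S0514
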