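import Cfsg.Statements.S0508
import Cfsg.Agent.S0514
import Cfsg.Agent.Lib.Cores.Basic
import Cfsg.Agent.Lib.PGroup.SelfCentSimple.Recognise

set_option autoImplicit false
open Cfsg

namespace Cfsg.Agent.S0508

open DihedralGroup in
/-- Cyclic subgroups of index two in a dihedral group of order at least six. -/
theorem dihedral_index_two {n : ℕ} (hn : 3 ≤ n) {c : DihedralGroup n} (hc : orderOf c = n)
    {x : DihedralGroup n} (hx : x ∉ Subgroup.zpowers c) : x * x = 1 ∧ x * c * x⁻¹ = c⁻¹ := by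
  obtain ⟨i, rfl⟩ : ∃ i, c = r i := by
    cases c with
    | r i => exact ⟨i, rfl⟩
    | sr i => rw [orderOf_sr] at hc; omega
  cases x with
  | r j =>
    exfalso
    haveI : NeZero n := ⟨by omega⟩
    have hle : Subgroup.zpowers (r i) ≤ Subgroup.zpowers (r 1 : DihedralGroup n) :=
      Subgroup.zpowers_le.2 (Cfsg.Agent.S0514.mem_rot i)
    have heq := Subgroup.eq_of_le_of_card_ge hle
      (by rw [Nat.card_zpowers, Nat.card_zpowers, orderOf_r_one, hc])
    exact hx (heq ▸ Cfsg.Agent.S0514.mem_rot j)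
  | sr j =>
    refine ⟨sr_mul_self j, ?_⟩
    rw [inv_sr, sr_mul_r, sr_mul_sr, inv_r]
    congr 1
    abel

theorem pow_eq_invol {G : Type*} [Group G] [Finite G] {S : Sylow 2 G} {c t y : G}
    (hy : y ∈ Subgroup.zpowers c) (hc : c ∈ (S : Subgroup G)) (htc : t ∈ Subgroup.zpowers c)
    (ht : orderOf t = 2) (hy1 : y ≠ 1) : ∃ j : ℕ, y ^ j = t := by
  haveI : Fact (Nat.Prime 2) := ⟨Nat.prime_two⟩
  obtain ⟨b, hb⟩ := IsPGroup.iff_orderOf.1 S.2 ⟨y, Subgroup.zpowers_le.2 hc hy⟩
  rw [Subgroup.orderOf_mk] at hb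
  obtain ⟨l, rfl⟩ : ∃ l, b = l + 1 := ⟨b - 1, by
    rcases Nat.eq_zero_or_pos b with rfl | h
    · rw [pow_zero, orderOf_eq_one_iff] at hb; exact absurd hb hy1
    · omega⟩
  refine ⟨2 ^ l, CfsgLib.Invol.mem_zpowers_unique_involution (pow_mem hy _) htc ?_ ht⟩
  rw [orderOf_pow_of_dvd (by positivity) ⟨2, by rw [hb, pow_succ]⟩, hb, pow_succ']
  exact Nat.mul_div_cancel _ (by positivity)

theorem exists_generator {G : Type*} [Group G] [Finite G] (S : Sylow 2 G) (n : ℕ)
    (hn : 2 ≤ n) (e : (S : Subgroup G) ≃* DihedralGroup n) (t : G) (ht : orderOf t = 2)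
    (htS : t ∈ (S : Subgroup G)) (htZ : ∀ s ∈ (S : Subgroup G), s * t = t * s) (O : Subgroup G)
    (hOt : ∀ y ∈ O, y * t = t * y)
    (ha : O ≠ ⊥ → IsCyclic ((S : Subgroup G) ⊓ Subgroup.centralizer (O : Set G) : Subgroup G) ∧
      ((S : Subgroup G) ⊓ Subgroup.centralizer (O : Set G)).relIndex (S : Subgroup G) = 2) :
    ∃ c ∈ (S : Subgroup G), orderOf c = n ∧ t ∈ Subgroup.zpowers c ∧
      c ∈ Subgroup.centralizer (O : Set G) ∧
      (∀ x ∈ (S : Subgroup G), x ∉ Subgroup.zpowers c →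
        x * x = 1 ∧ x * c * x⁻¹ = c⁻¹ ∧ (x ∈ Subgroup.centralizer (O : Set G) → O = ⊥)) := by
  have hcard : Nat.card (S : Subgroup G) = 2 * n := by
    rw [Nat.card_congr e.toEquiv, DihedralGroup.nat_card]
  obtain ⟨c, hcS, hord, htc, hcO, hout⟩ : ∃ c ∈ (S : Subgroup G), orderOf c = n ∧
      (n = 2 → c = t) ∧ c ∈ Subgroup.centralizer (O : Set G) ∧
      (∀ x ∈ (S : Subgroup G), x ∈ Subgroup.centralizer (O : Set G) → x ∈ Subgroup.zpowers c ∨ O = ⊥) := by
    by_cases hO : O = ⊥
    · have hall : ∀ c : G, c ∈ Subgroup.centralizer (O : Set G) := fun c => by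
        rw [Subgroup.mem_centralizer_iff, hO]
        intro y hy
        rw [SetLike.mem_coe, Subgroup.mem_bot] at hy
        rw [hy, one_mul, mul_one]
      rcases eq_or_lt_of_le hn with h | h
      · exact ⟨t, htS, ht.trans h, fun _ => rfl, hall t, fun _ _ _ => Or.inr hO⟩
      · refine ⟨e.symm (DihedralGroup.r 1), SetLike.coe_mem _, ?_, fun h2 => absurd h2 (by omega),
          hall _, fun _ _ _ => Or.inr hO⟩
        rw [Subgroup.orderOf_coe, e.symm.orderOf_eq, DihedralGroup.orderOf_r_one]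
    · obtain ⟨hcyc, hri⟩ := ha hO
      set R := (S : Subgroup G) ⊓ Subgroup.centralizer (O : Set G) with hR
      obtain ⟨g, hg⟩ := hcyc.exists_generator
      have hRc : Nat.card R = n := by
        have h := Subgroup.relIndex_mul_relIndex ⊥ R (S : Subgroup G) bot_le inf_le_left
        rw [Subgroup.relIndex_bot_left, Subgroup.relIndex_bot_left, hri, hcard] at h
        omega
      have hgord : orderOf (g : G) = n := by
        rw [Subgroup.orderOf_coe, orderOf_eq_card_of_forall_mem_zpowers hg, hRc]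
      have hRz : ∀ x ∈ R, x ∈ Subgroup.zpowers (g : G) := fun x hx => by
        obtain ⟨i, hi⟩ := hg ⟨x, hx⟩
        exact ⟨i, by simpa using congrArg Subtype.val hi⟩
      refine ⟨g, (Subgroup.mem_inf.1 g.2).1, hgord, fun h2 => ?_, (Subgroup.mem_inf.1 g.2).2,
        fun x hx hxO => Or.inl (hRz x (Subgroup.mem_inf.2 ⟨hx, hxO⟩))⟩
      exact CfsgLib.Invol.mem_zpowers_unique_involution (Subgroup.mem_zpowers _)
        (hRz t (Subgroup.mem_inf.2 ⟨htS, Subgroup.mem_centralizer_iff.2 fun y hy => hOt y hy⟩))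
        (hgord.trans h2) ht
  have hz : ∀ y (hy : y ∈ (S : Subgroup G)), y ∈ Subgroup.zpowers c ↔
      e ⟨y, hy⟩ ∈ Subgroup.zpowers (e ⟨c, hcS⟩) := by
    intro y hy
    constructor
    · rintro ⟨i, hi⟩
      refine ⟨i, ?_⟩
      show e ⟨c, hcS⟩ ^ i = _
      rw [← map_zpow]
      exact congrArg e (Subtype.ext hi)
    · rintro ⟨i, hi⟩
      exact ⟨i, congrArg Subtype.val (e.injective ((map_zpow e ⟨c, hcS⟩ i).trans hi))⟩
  refine ⟨c, hcS, hord, ?_, hcO, fun x hx hxc => ⟨?_, ?_, fun h => (hout x hx h).resolve_left hxc⟩⟩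
  · rcases eq_or_lt_of_le hn with h | h
    · rw [htc h.symm]; exact Subgroup.mem_zpowers t
    · by_contra hne
      have h1 := (dihedral_index_two h (c := e ⟨c, hcS⟩) (x := e ⟨t, htS⟩)
        (by rw [e.orderOf_eq, Subgroup.orderOf_mk, hord]) (fun hh => hne ((hz t htS).2 hh))).2
      rw [← map_mul, ← map_inv, ← map_mul, ← map_inv] at h1
      have h2 : t * c * t⁻¹ = c⁻¹ := congrArg Subtype.val (e.injective h1)
      rw [← htZ c hcS, mul_inv_cancel_right] at h2
      have h3 : orderOf c ∣ 2 := orderOf_dvd_of_pow_eq_one (by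
        rw [pow_two]; nth_rewrite 1 [h2]; exact inv_mul_cancel c)
      have := Nat.le_of_dvd two_pos h3
      omega
  all_goals rcases eq_or_lt_of_le hn with h | h
  · subst h
    have h1 : ∀ d : DihedralGroup 2, d * d = 1 := by decide
    exact congrArg Subtype.val (e.injective (a₂ := 1)
      (by rw [map_one, map_mul]; exact h1 (e ⟨x, hx⟩)) : (⟨x, hx⟩ * ⟨x, hx⟩ : (S : Subgroup G)) = 1)
  · exact congrArg Subtype.val (e.injective (a₂ := 1) (by
      rw [map_one, map_mul]
      exact (dihedral_index_two h (c := e ⟨c, hcS⟩) (x := e ⟨x, hx⟩)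
        (by rw [e.orderOf_eq, Subgroup.orderOf_mk, hord]) (fun hh => hxc ((hz x hx).2 hh))).1) :
      (⟨x, hx⟩ * ⟨x, hx⟩ : (S : Subgroup G)) = 1)
  · rw [htc h.symm, htZ x hx, mul_inv_cancel_right, eq_inv_iff_mul_eq_one, ← pow_two, ← ht,
      pow_orderOf_eq_one]
  · have h1 := (dihedral_index_two h (c := e ⟨c, hcS⟩) (x := e ⟨x, hx⟩)
      (by rw [e.orderOf_eq, Subgroup.orderOf_mk, hord]) (fun hh => hxc ((hz x hx).2 hh))).2
    rw [← map_mul, ← map_inv, ← map_mul, ← map_inv] at h1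
    exact congrArg Subtype.val (e.injective h1)

/-- Let G be a finite simple group with a dihedral Sylow 2-subgroup S (of order at least 4), t an involution in the
centre of S, C the centralizer of t and O the core of C (its largest normal subgroup of odd order). Suppose that: if O
is nontrivial then the centralizer of O in S is cyclic of index 2 in S; every element of S not centralizing O inverts
every element of O; and the normalizer of every nontrivial subgroup of O lies in C. Then G is isomorphic to a projective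
special linear group of dimension 2 over a field of odd order. -/
theorem result {G : Type*} [Group G] [Finite G] [IsSimpleGroup G] (S : Sylow 2 G) (n : ℕ)
    (hn : 2 ≤ n) (hS : Nonempty ((S : Subgroup G) ≃* DihedralGroup n)) (t : G) (ht : orderOf t = 2)
    (htS : t ∈ (S : Subgroup G))
    (htZ : ∀ s ∈ (S : Subgroup G), s * t = t * s) (O : Subgroup G)
    (hO : O = (Cfsg.oddCore (Subgroup.centralizer ({t} : Set G))).map (Subgroup.centralizer ({t} : Set G)).subtype)
    (ha : O ≠ ⊥ → IsCyclic ((S : Subgroup G) ⊓ Subgroup.centralizer (O : Set G) : Subgroup G) ∧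
      ((S : Subgroup G) ⊓ Subgroup.centralizer (O : Set G)).relIndex (S : Subgroup G) = 2)
    (hb : ∀ s ∈ (S : Subgroup G), s ∉ Subgroup.centralizer (O : Set G) → ∀ y ∈ O, s * y * s⁻¹ = y⁻¹)
    (hc : ∀ Y : Subgroup G, Y ≤ O → Y ≠ ⊥ → Subgroup.normalizer (Y : Set G) ≤ Subgroup.centralizer ({t} : Set G)) :
    ∃ (F : Type) (_ : Field F) (_ : Fintype F), Odd (Fintype.card F) ∧ Nonempty (G ≃* Matrix.ProjectiveSpecialLinearGroup (Fin 2) F) := by
  classical
  haveI : Fact (Nat.Prime 2) := ⟨Nat.prime_two⟩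
  set C := Subgroup.centralizer ({t} : Set G) with hCdef
  set O' := Cfsg.oddCore C with hO'
  obtain ⟨e⟩ := hS
  have hna : ¬ IsMulCommutative G := fun hcomm => by
    haveI : (Subgroup.zpowers t).Normal := ⟨fun x hx g => by
      rw [hcomm.is_comm.comm g x, mul_inv_cancel_right]; exact hx⟩
    rcases (inferInstance : (Subgroup.zpowers t).Normal).eq_bot_or_eq_top with h | h
    · rw [Subgroup.zpowers_eq_bot] at h
      exact CfsgLib.Invol.ne_one_of_orderOf_two ht h
    · have h1 := Subgroup.card_le_card_group (S : Subgroup G)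
      rw [← Subgroup.card_top (G := G), ← h, Nat.card_zpowers, ht, Nat.card_congr e.toEquiv,
        DihedralGroup.nat_card] at h1
      omega
  have hSC : (S : Subgroup G) ≤ C := fun s hs =>
    Subgroup.mem_centralizer_singleton_iff.2 (htZ s hs)
  have hOC : O ≤ C := hO ▸ Subgroup.map_subtype_le _
  have hOt : ∀ y ∈ O, y * t = t * y := fun y hy =>
    Subgroup.mem_centralizer_singleton_iff.1 (hOC hy)
  have hOnorm : C ≤ Subgroup.normalizer (O : Set G) := by
    intro x hx
    rw [hO, Subgroup.mem_normalizer_iff]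
    intro y
    constructor
    · rintro ⟨z, hz, rfl⟩
      exact ⟨⟨x, hx⟩ * z * ⟨x, hx⟩⁻¹, Subgroup.Normal.conj_mem inferInstance z hz _, rfl⟩
    · rintro ⟨z, hz, hzy⟩
      refine ⟨⟨x, hx⟩⁻¹ * z * ⟨x, hx⟩, ?_, ?_⟩
      · simpa using Subgroup.Normal.conj_mem (inferInstance : (Cfsg.oddCore C).Normal) z hz ⟨x, hx⟩⁻¹
      · simp only [Subgroup.coe_subtype] at hzy
        show x⁻¹ * (z : G) * x = y
        rw [hzy]; group
  have hOodd : Odd (Nat.card O) := by
    rw [hO, Subgroup.card_map_of_injective (Subgroup.subtype_injective _)]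
    exact CfsgLib.Cores.odd_card_oddCore
  obtain ⟨c, hcS, hord, htc, hcO, hout⟩ := exists_generator S n hn e t ht htS htZ O hOt ha
  have hcard : Nat.card (S : Subgroup G) = 2 * n := by
    rw [Nat.card_congr e.toEquiv, DihedralGroup.nat_card]
  obtain ⟨v, hvS, hvc⟩ : ∃ v ∈ (S : Subgroup G), v ∉ Subgroup.zpowers c :=
    Set.not_subset.1 fun hle => by
      have h1 := Subgroup.card_le_of_le (show (S : Subgroup G) ≤ Subgroup.zpowers c from hle)
      rw [hcard, Nat.card_zpowers, hord] at h1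
      omega
  obtain ⟨hv2, hvinv, hvO⟩ := hout v hvS hvc
  have hv : orderOf v = 2 := orderOf_eq_prime (by rw [pow_two, hv2]) fun e1 => hvc (e1 ▸ one_mem _)
  have hidx : ((Subgroup.zpowers c).subgroupOf (S : Subgroup G)).index = 2 := by
    have h := ((Subgroup.zpowers c).subgroupOf (S : Subgroup G)).card_mul_index
    rw [Nat.card_congr (Subgroup.subgroupOfEquivOfLe (Subgroup.zpowers_le.2 hcS)).toEquiv,
      Nat.card_zpowers, hord, hcard] at h
    exact Nat.eq_of_mul_eq_mul_left (show 0 < n by omega) (h.trans (mul_comm 2 n))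
  have hsplit : ∀ x ∈ (S : Subgroup G), x ∈ Subgroup.zpowers c ∨ x * v⁻¹ ∈ Subgroup.zpowers c := by
    intro x hx
    by_cases h : x ∈ Subgroup.zpowers c
    · exact Or.inl h
    · exact Or.inr (Subgroup.mem_subgroupOf.1
        ((Subgroup.mul_mem_iff_of_index_two (a := (⟨x, hx⟩ : (S : Subgroup G)))
          (b := (⟨v, hvS⟩⁻¹ : (S : Subgroup G))) hidx).2
          (iff_of_false h fun h' => hvc (inv_inv v ▸ inv_mem (Subgroup.mem_subgroupOf.1 h')))))
  have hnorm : ∀ x ∈ (S : Subgroup G), x * c * x⁻¹ ∈ Subgroup.zpowers c := by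
    intro x hx
    by_cases h : x ∈ Subgroup.zpowers c
    · exact mul_mem (mul_mem h (Subgroup.mem_zpowers c)) (inv_mem h)
    · rw [(hout x hx h).2.1]; exact inv_mem (Subgroup.mem_zpowers c)
  have X : CfsgLib.PGroup.SelfCentSimple.Ctx S c t v := ⟨hcS, hvS, htc, ht, hv, hvc, hsplit, hnorm⟩
  -- elements outside the cyclic part invert the core
  have hinvO : ∀ x ∈ (S : Subgroup G), x ∉ Subgroup.zpowers c → ∀ y ∈ O, x * y * x⁻¹ = y⁻¹ := by
    intro x hx hxc y hy
    by_cases hxO : x ∈ Subgroup.centralizer (O : Set G)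
    · rw [(hout x hx hxc).2.2 hxO, Subgroup.mem_bot] at hy
      rw [hy, mul_one, mul_inv_cancel, inv_one]
    · exact hb x hx hxO y hy
  have hOab : ∀ a ∈ O, ∀ b ∈ O, a * b = b * a := fun a ha' b hb' => inv_injective (by
    calc (a * b)⁻¹ = v * (a * b) * v⁻¹ := (hinvO v hvS hvc _ (mul_mem ha' hb')).symm
      _ = (v * a * v⁻¹) * (v * b * v⁻¹) := by group
      _ = a⁻¹ * b⁻¹ := by rw [hinvO v hvS hvc a ha', hinvO v hvS hvc b hb']
      _ = (b * a)⁻¹ := (mul_inv_rev b a).symm)
  set K := O ⊔ Subgroup.zpowers c with hKdef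
  have hcn : Subgroup.zpowers c ≤ Subgroup.normalizer (O : Set G) :=
    (Subgroup.zpowers_le.2 hcO).trans (Subgroup.centralizer_le_normalizer _)
  have hcom : ∀ o ∈ O, ∀ y ∈ Subgroup.zpowers c, o * y = y * o := fun o ho y hy =>
    Subgroup.mem_centralizer_iff.1 (Subgroup.zpowers_le.2 hcO hy) o ho
  have hKmem : ∀ x ∈ K, ∃ o ∈ O, ∃ y ∈ Subgroup.zpowers c, x = o * y := by
    intro x hx
    rw [hKdef, ← SetLike.mem_coe, Subgroup.coe_mul_of_right_le_normalizer_left _ _ hcn] at hx
    obtain ⟨o, ho, y, hy, rfl⟩ := hx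
    exact ⟨o, ho, y, hy, rfl⟩
  have hKab : IsMulCommutative ↥K := ⟨⟨fun a b => Subtype.ext (by
    obtain ⟨o, ho, y, hy, ea⟩ := hKmem a a.2
    obtain ⟨o', ho', y', hy', eb⟩ := hKmem b b.2
    show (a : G) * b = b * a
    rw [ea, eb]
    calc o * y * (o' * y') = o * (y * o') * y' := by group
      _ = (o * o') * (y * y') := by rw [← hcom o' ho' y hy]; group
      _ = (o' * o) * (y' * y) := by rw [hOab o ho o' ho', X.comm_c hy hy']
      _ = o' * (o * y') * y := by group
      _ = _ := by rw [hcom o ho y' hy']; group)⟩⟩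
  have hKC : K ≤ C := sup_le hOC ((Subgroup.zpowers_le.2 hcS).trans hSC)
  have hzS : Subgroup.zpowers c ≤ (S : Subgroup G) := Subgroup.zpowers_le.2 hcS
  have hmO : ∀ o ∈ O, o ^ Nat.card O = 1 := fun o ho =>
    congrArg Subtype.val (pow_card_eq_one' (x := (⟨o, ho⟩ : O)))
  have hycop : ∀ y ∈ Subgroup.zpowers c, ∀ j : ℕ, Odd j → y ^ j = 1 → y = 1 := by
    intro y hy j hj hyj
    obtain ⟨b, hb'⟩ := IsPGroup.iff_orderOf.1 S.2 ⟨y, hzS hy⟩
    rw [Subgroup.orderOf_mk] at hb'
    refine orderOf_eq_one_iff.1 (Nat.eq_one_of_dvd_coprimes ((Nat.coprime_two_left.2 hj).pow_left b)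
      (dvd_of_eq hb') (orderOf_dvd_of_pow_eq_one hyj))
  have hKinvol : ∀ x ∈ K, x * x = 1 → x = 1 ∨ x = t := by
    intro x hx hx2
    obtain ⟨o, ho, y, hy, rfl⟩ := hKmem x hx
    have hc2 : Commute o y := hcom o ho y hy
    have h1 : o ^ 2 * y ^ 2 = 1 := by rw [← hc2.mul_pow, pow_two, hx2]
    have h2 : y ^ (2 * Nat.card O) = 1 := by
      have h3 := congrArg (fun z => z ^ Nat.card O) h1
      simp only [one_pow] at h3
      rwa [((hc2.pow_pow 2 2).mul_pow), ← pow_mul, mul_comm 2, pow_mul, hmO o ho, one_pow, one_mul,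
        ← pow_mul] at h3
    rw [pow_mul] at h2
    have h4 := hycop _ (pow_mem hy 2) _ hOodd h2
    rw [h4, mul_one] at h1
    have ho1 : o = 1 := by
      obtain ⟨k, hk⟩ := hOodd
      have h5 := hmO o ho
      rwa [hk, pow_succ, pow_mul, h1, one_pow, one_mul] at h5
    rw [ho1, one_mul] at hx2 ⊢
    by_cases hy1 : y = 1
    · exact Or.inl hy1
    · exact Or.inr (X.invol_eq hy (orderOf_eq_prime (by rw [pow_two, hx2]) hy1))
  -- the centralizer of `t`
  have hOS : O ⊔ (S : Subgroup G) = C := by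
    refine le_antisymm (sup_le hOC hSC) (Subgroup.relIndex_eq_one.1 ?_)
    have hd1 : (O ⊔ (S : Subgroup G)).relIndex C ∣ (S : Subgroup G).relIndex C :=
      Subgroup.relIndex_dvd_of_le_left _ le_sup_right
    have hd2 : (O ⊔ (S : Subgroup G)).relIndex C ∣ O.relIndex C :=
      Subgroup.relIndex_dvd_of_le_left _ le_sup_left
    obtain ⟨N, hN, hNo, k, hk⟩ := Cfsg.Agent.S0514.result S n hn ⟨e⟩ t ht
    haveI := hN
    have hOi : O.relIndex C ∣ 2 ^ k := by
      rw [hO, Subgroup.relIndex, Subgroup.subgroupOf,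
        Subgroup.comap_map_eq_self_of_injective (Subgroup.subtype_injective _), ← hk]
      exact Subgroup.index_dvd_of_le (CfsgLib.Cores.le_oddCore_of_odd hNo)
    have hodd : ¬ 2 ∣ (S : Subgroup G).relIndex C := (S.subtype hSC).not_dvd_index
    exact Nat.eq_one_of_dvd_coprimes
      (((Nat.prime_two.coprime_iff_not_dvd).2 hodd).pow_left k).symm hd1 (hd2.trans hOi)
  have hCmem : ∀ x ∈ C, ∃ o ∈ O, ∃ s ∈ (S : Subgroup G), x = o * s := by
    intro x hx
    rw [← hOS, ← SetLike.mem_coe,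
      Subgroup.coe_mul_of_right_le_normalizer_left _ _ (hSC.trans hOnorm)] at hx
    obtain ⟨o, ho, y, hy, rfl⟩ := hx
    exact ⟨o, ho, y, hy, rfl⟩
  have hKsup : K ⊔ Subgroup.zpowers v = C := by
    refine le_antisymm (sup_le hKC (Subgroup.zpowers_le.2 (hSC hvS))) (hOS ▸ sup_le ?_ fun x hx => ?_)
    · exact le_sup_left.trans le_sup_left
    rcases hsplit x hx with h | h
    · exact Subgroup.mem_sup_left (Subgroup.mem_sup_right h)
    · rw [show x = x * v⁻¹ * v by group]
      exact mul_mem (Subgroup.mem_sup_left (Subgroup.mem_sup_right h))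
        (Subgroup.mem_sup_right (Subgroup.mem_zpowers v))
  have hKinv : ∀ x ∈ K, v * x * v⁻¹ = x⁻¹ := by
    intro x hx
    obtain ⟨o, ho, y, hy, rfl⟩ := hKmem x hx
    obtain ⟨i, rfl⟩ := hy
    calc v * (o * c ^ i) * v⁻¹ = (v * o * v⁻¹) * (v * c ^ i * v⁻¹) := by group
      _ = o⁻¹ * (c ^ i)⁻¹ := by rw [hinvO v hvS hvc o ho, ← conj_zpow, hvinv, inv_zpow]
      _ = _ := by rw [← mul_inv_rev, ← hcom o ho _ ⟨i, rfl⟩]
  have hvK : v ∉ K := fun h => by
    rcases hKinvol v h hv2 with h' | h'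
    · exact hvc (h' ▸ one_mem _)
    · exact X.v_ne_t h'
  -- centralizers of nontrivial elements of the core
  have hCO : ∀ z ∈ O, z ≠ 1 → Subgroup.centralizer ({z} : Set G) ≤ K := by
    intro z hz hz1 x hx
    have hxc : x * z = z * x := Subgroup.mem_centralizer_singleton_iff.1 hx
    have hxC : x ∈ C := by
      refine hc (Subgroup.zpowers z) (Subgroup.zpowers_le.2 hz) (Subgroup.zpowers_ne_bot.2 hz1) ?_
      refine Subgroup.centralizer_le_normalizer _ ?_
      rw [Subgroup.zpowers_eq_closure, Subgroup.centralizer_closure]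
      exact hx
    obtain ⟨o, ho, s, hs, rfl⟩ := hCmem x hxC
    refine mul_mem (Subgroup.mem_sup_left ho) (Subgroup.mem_sup_right ?_)
    by_contra hsc
    have h1 := hinvO s hs hsc z hz
    have h2 : s * z * s⁻¹ = z := by
      calc s * z * s⁻¹ = o⁻¹ * (o * s * z) * s⁻¹ := by group
        _ = o⁻¹ * (z * (o * s)) * s⁻¹ := by rw [hxc]
        _ = o⁻¹ * (z * o) := by group
        _ = z := by rw [hOab z hz o ho, inv_mul_cancel_left]
    rw [h2] at h1
    have h3 : z ^ 2 = 1 := by rw [pow_two]; nth_rewrite 1 [h1]; exact inv_mul_cancel z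
    obtain ⟨k, hk⟩ := hOodd
    have h5 := hmO z hz
    rw [hk, pow_succ, pow_mul, h3, one_pow, one_mul] at h5
    exact hz1 h5
  obtain ⟨Q, D, hG, hCQ, -, hD, hQD, hN, -⟩ := Cfsg.Agent.S3282.result t ht K hKab hKC
    (Subgroup.mem_sup_right htc) v hv (hSC hvS) hvK hKsup
    (by
      ext x
      constructor
      · intro hx
        obtain ⟨h1, h2⟩ := Subgroup.mem_inf.1 hx
        have h3 := hKinv x h1
        rw [← Subgroup.mem_centralizer_singleton_iff.1 h2, mul_inv_cancel_right] at h3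
        rcases hKinvol x h1 (by nth_rewrite 1 [h3]; exact inv_mul_cancel x) with rfl | rfl
        · exact one_mem _
        · exact Subgroup.mem_zpowers _
      · rintro ⟨i, rfl⟩
        refine zpow_mem (Subgroup.mem_inf.2 ⟨Subgroup.mem_sup_right htc,
          Subgroup.mem_centralizer_singleton_iff.2 ?_⟩) i
        exact (X.t_comm hvS).symm)
    hKinv
    (fun g hg => by
      rw [Subgroup.eq_bot_iff_forall]
      intro x hx
      obtain ⟨h1, h2⟩ := Subgroup.mem_inf.1 hx
      obtain ⟨k, hk, hkx⟩ := Subgroup.mem_map.1 h2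
      rw [MulEquiv.coe_toMonoidHom, MulAut.conj_apply] at hkx
      by_contra hne
      have hgt : g * t * g⁻¹ ≠ t := fun e1 =>
        hg (Subgroup.mem_centralizer_singleton_iff.2 (mul_inv_eq_iff_eq_mul.1 e1))
      have hti : ∀ w ∈ K, w = g * t * g⁻¹ → False := by
        intro w hw hwe
        rcases hKinvol w hw (by rw [hwe, show g * t * g⁻¹ * (g * t * g⁻¹) = g * (t * t) * g⁻¹ by group,
          X.t_sq, mul_one, mul_inv_cancel]) with h | h
        · rw [hwe] at h
          exact CfsgLib.Invol.ne_one_of_orderOf_two ht (conj_eq_one_iff.1 h)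
        · exact hgt (hwe ▸ h)
      have hpc : ∀ w ∈ K, w ^ Nat.card O ∈ Subgroup.zpowers c ∧ (w ^ Nat.card O = 1 → w ∈ O) := by
        intro w hw
        obtain ⟨o, ho, y, hy, rfl⟩ := hKmem w hw
        rw [Commute.mul_pow (hcom o ho y hy), hmO o ho, one_mul]
        exact ⟨pow_mem hy _, fun h => by rw [hycop y hy _ hOodd h, mul_one]; exact ho⟩
      by_cases hkm : k ^ Nat.card O = 1
      · have hkO := (hpc k hk).2 hkm
        have hxm : x ^ Nat.card O = 1 := by rw [← hkx, conj_pow, hkm, mul_one, mul_inv_cancel]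
        have hxO := (hpc x h1).2 hxm
        have hk1 : k ≠ 1 := fun e1 => hne (by rw [← hkx, e1, mul_one, mul_inv_cancel])
        -- `g⁻¹ t g` centralizes `k`
        have hw : g⁻¹ * t * g ∈ K := by
          refine hCO k hkO hk1 (Subgroup.mem_centralizer_singleton_iff.2 ?_)
          calc g⁻¹ * t * g * k = g⁻¹ * (t * x) * g := by rw [← hkx]; group
            _ = g⁻¹ * (x * t) * g := by rw [← hOt x hxO]
            _ = _ := by rw [← hkx]; group
        rcases hKinvol _ hw (by rw [show g⁻¹ * t * g * (g⁻¹ * t * g) = g⁻¹ * (t * t) * g by group,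
          X.t_sq, mul_one, inv_mul_cancel]) with h | h
        · exact CfsgLib.Invol.ne_one_of_orderOf_two ht (by
            calc t = g * (g⁻¹ * t * g) * g⁻¹ := by group
              _ = 1 := by rw [h]; group)
        · exact hgt (by nth_rewrite 1 [← h]; group)
      · obtain ⟨j, hj⟩ := pow_eq_invol (hpc k hk).1 hcS htc ht hkm
        refine hti _ (pow_mem (pow_mem h1 (Nat.card O)) j) ?_
        rw [← hkx, conj_pow, conj_pow, hj])
    (fun x y hx hy => by
      obtain ⟨g, hg⟩ := X.inv_conj_t hna hx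
      obtain ⟨k, hk⟩ := X.inv_conj_t hna hy
      exact (isConj_iff.2 ⟨g, hg⟩).trans (isConj_iff.2 ⟨k, hk⟩).symm)
  obtain ⟨F, iF, iFF, hF, he⟩ := CfsgLib.PGroup.SelfCentSimple.psl_of_self_cent_kernel hna Q D hG hCQ hD hQD hN
  exact ⟨F, iF, iFF, Nat.odd_iff.2 (FiniteField.odd_card_of_char_ne_two hF), he⟩

end Cfsg.Agent.S0508
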