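import Cfsg.Statements.S4211
import Cfsg.Agent.Lib.PGroup.Basic
import Cfsg.Agent.Lib.OddLocal.Basic
import Cfsg.Agent.Lib.Transfer.Frobenius

set_option autoImplicit false
open Cfsg

namespace Cfsg.Agent.S4211

open scoped commutatorElement

theorem dvd_choose_two {p e : ℕ} (hp : p.Prime) (he : 1 ≤ e) (h : p ≠ 2 ∨ 2 ≤ e) : p ∣ (p ^ e).choose 2 := by
  rw [Nat.choose_two_right]
  rcases Nat.Prime.eq_two_or_odd' hp with rfl | hodd
  · have he2 : 2 ≤ e := h.resolve_left (fun h => h rfl)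
    obtain ⟨f, rfl⟩ : ∃ f, e = f + 2 := ⟨e - 2, by omega⟩
    rw [show 2 ^ (f + 2) * (2 ^ (f + 2) - 1) = 2 * (2 * (2 ^ f * (2 ^ (f + 2) - 1))) by ring,
      Nat.mul_div_cancel_left _ two_pos]
    exact dvd_mul_right _ _
  · obtain ⟨t, ht⟩ := hodd.pow (n := e)
    rw [ht, show (2 * t + 1) * (2 * t + 1 - 1) = 2 * ((2 * t + 1) * t) by simp; ring,
      Nat.mul_div_cancel_left _ two_pos, ← ht]
    exact (dvd_pow_self p (by omega)).mul_right _

/-- A nonabelian `p`-group with all subgroups normal is `Q₈` times an elementary abelian group. -/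
theorem dedekind_p {P : Type*} [Group P] [Finite P] {p : ℕ} [hpf : Fact p.Prime] (hP : IsPGroup p P)
    (hn : ∀ H : Subgroup P, H.Normal) (hna : ∃ u v : P, u * v ≠ v * u) :
    p = 2 ∧ ∃ (φ : QuaternionGroup 2 →* P) (E : Subgroup P), Function.Injective φ ∧
      Cfsg.IsElementaryAbelian 2 E ∧ φ.range ⊓ E = ⊥ ∧ φ.range ⊔ E = ⊤ := by
  classical
  have := Fintype.ofFinite P
  have hp := hpf.out
  have hpow : ∀ g x : P, ∃ i : ℤ, g * x * g⁻¹ = x ^ i := fun g x => by
    obtain ⟨i, hi⟩ := (hn (Subgroup.zpowers x)).conj_mem x (Subgroup.mem_zpowers x) g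
    exact ⟨i, hi.symm⟩
  have hcen : ∀ g h : P, ⁅g, h⁆ ∈ Subgroup.center P := fun g h => Subgroup.mem_center_iff.2 fun x => by
    obtain ⟨i, hi⟩ := hpow g x
    obtain ⟨j, hj⟩ := hpow h x
    have e1 : g * h * x * (g * h)⁻¹ = h * g * x * (h * g)⁻¹ := by
      calc g * h * x * (g * h)⁻¹ = g * (h * x * h⁻¹) * g⁻¹ := by group
        _ = x ^ (i * j) := by rw [hj, ← conj_zpow, hi, ← zpow_mul]
        _ = h * (g * x * g⁻¹) * h⁻¹ := by rw [hi, ← conj_zpow, hj, ← zpow_mul, mul_comm]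
        _ = _ := by group
    obtain ⟨y, rfl⟩ : ∃ y, x = h * g * y * (h * g)⁻¹ := ⟨(h * g)⁻¹ * x * (h * g), by group⟩
    obtain ⟨k, hk⟩ := hpow g y
    obtain ⟨l, hl⟩ := hpow h y
    have e2 : g * h * y * (g * h)⁻¹ = h * g * y * (h * g)⁻¹ := by
      calc g * h * y * (g * h)⁻¹ = g * (h * y * h⁻¹) * g⁻¹ := by group
        _ = y ^ (k * l) := by rw [hl, ← conj_zpow, hk, ← zpow_mul]
        _ = h * (g * y * g⁻¹) * h⁻¹ := by rw [hk, ← conj_zpow, hl, ← zpow_mul, mul_comm]
        _ = _ := by group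
    rw [commutatorElement_def]
    calc h * g * y * (h * g)⁻¹ * (g * h * g⁻¹ * h⁻¹) = (g * h * y * (g * h)⁻¹) * (g * h * g⁻¹ * h⁻¹) := by rw [e2]
      _ = g * h * g⁻¹ * h⁻¹ * (h * g * y * (h * g)⁻¹) := by group
  have hmemL : ∀ x y : P, ⁅x, y⁆ ∈ Subgroup.zpowers x := fun x y => by
    have h1 := (hn (Subgroup.zpowers x)).conj_mem x⁻¹ (Subgroup.inv_mem _ (Subgroup.mem_zpowers x)) y
    rw [commutatorElement_def, show x * y * x⁻¹ * y⁻¹ = x * (y * x⁻¹ * y⁻¹) by group]
    exact Subgroup.mul_mem _ (Subgroup.mem_zpowers x) h1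
  have hmemR : ∀ x y : P, ⁅x, y⁆ ∈ Subgroup.zpowers y := fun x y => by
    have h1 := (hn (Subgroup.zpowers y)).conj_mem y (Subgroup.mem_zpowers y) x
    rw [commutatorElement_def]
    exact Subgroup.mul_mem _ h1 (Subgroup.inv_mem _ (Subgroup.mem_zpowers y))
  -- a pair of noncommuting elements of smallest orders
  obtain ⟨⟨a, b⟩, hab0, hmin⟩ := Finset.exists_min_image
    (Finset.univ.filter fun q : P × P => q.1 * q.2 ≠ q.2 * q.1 ∧ orderOf q.2 ≤ orderOf q.1)
    (fun q => orderOf q.1 + orderOf q.2) (by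
      obtain ⟨u, v, huv⟩ := hna
      rcases le_total (orderOf v) (orderOf u) with h | h
      · exact ⟨(u, v), Finset.mem_filter.2 ⟨Finset.mem_univ _, huv, h⟩⟩
      · exact ⟨(v, u), Finset.mem_filter.2 ⟨Finset.mem_univ _, huv.symm, h⟩⟩)
  simp only [Finset.mem_filter, Finset.mem_univ, true_and] at hab0 hmin
  obtain ⟨hab, hle⟩ := hab0
  have hcomm : ∀ u v : P, orderOf u + orderOf v < orderOf a + orderOf b → u * v = v * u := by
    intro u v h
    by_contra huv
    rcases le_total (orderOf v) (orderOf u) with h1 | h1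
    · exact absurd (hmin (u, v) ⟨huv, h1⟩) (not_le.2 h)
    · exact absurd (hmin (v, u) ⟨Ne.symm huv, h1⟩) (not_le.2 (by show orderOf v + orderOf u < _; omega))
  obtain ⟨m, -, hm⟩ := (Nat.dvd_prime_pow hp).1 (orderOf_dvd_of_pow_eq_one (hP a).choose_spec)
  obtain ⟨n, -, hnn⟩ := (Nat.dvd_prime_pow hp).1 (orderOf_dvd_of_pow_eq_one (hP b).choose_spec)
  set c := ⁅a, b⁆ with hc
  have hc1 : c ≠ 1 := fun h => hab (commutatorElement_eq_one_iff_mul_comm.1 h)
  have hn1 : n ≠ 0 := by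
    rintro rfl
    rw [pow_zero, orderOf_eq_one_iff] at hnn
    exact hab (by rw [hnn, mul_one, one_mul])
  have hnm : n ≤ m := (Nat.pow_le_pow_iff_right hp.one_lt).1 (hm ▸ hnn ▸ hle)
  have hlow : ∀ {x : P} {k : ℕ}, orderOf x = p ^ (k + 1) → orderOf (x ^ p) = p ^ k := fun {x k} hx => by
    rw [orderOf_pow' _ hp.ne_zero, hx, Nat.gcd_eq_right (dvd_pow_self p (Nat.succ_ne_zero k)), pow_succ,
      Nat.mul_div_cancel _ hp.pos]
  obtain ⟨n, rfl⟩ : ∃ k, n = k + 1 := ⟨n - 1, by omega⟩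
  obtain ⟨m, rfl⟩ : ∃ k, m = k + 1 := ⟨m - 1, by omega⟩
  have hcp : c ^ p = 1 := by
    rw [hc, ← CfsgLib.PGroup.comm_pow_left (hcen a b), commutatorElement_eq_one_iff_mul_comm]
    refine hcomm _ _ (Nat.add_lt_add_right ?_ _)
    rw [hlow hm, hm]
    exact Nat.pow_lt_pow_right hp.one_lt (Nat.lt_succ_self m)
  have hco : orderOf c = p := orderOf_eq_prime hcp hc1
  have hroot : ∀ (x : P) (k : ℕ), orderOf x = p ^ (k + 1) → c ∈ Subgroup.zpowers x →
      Subgroup.zpowers c = Subgroup.zpowers (x ^ p ^ k) := fun x k hx hcx => by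
    have hox : orderOf (x ^ p ^ k) = p := by
      rw [orderOf_pow' _ (pow_ne_zero _ hp.ne_zero), hx, Nat.gcd_eq_right (pow_dvd_pow p (Nat.le_succ k)),
        pow_succ, Nat.mul_div_cancel_left _ (pow_pos hp.pos k)]
    refine Subgroup.eq_of_le_of_card_ge (Subgroup.zpowers_le.2 ?_) (by rw [Nat.card_zpowers, Nat.card_zpowers, hox, hco])
    rw [← mem_powers_iff_mem_zpowers, Submonoid.mem_powers_iff] at hcx
    obtain ⟨i, hi⟩ := hcx
    have h1 : p ^ (k + 1) ∣ i * p := hx ▸ orderOf_dvd_of_pow_eq_one (by rw [pow_mul, hi, hcp])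
    rw [pow_succ] at h1
    obtain ⟨i', rfl⟩ := Nat.dvd_of_mul_dvd_mul_right hp.pos h1
    rw [← hi, pow_mul]
    exact Subgroup.pow_mem _ (Subgroup.mem_zpowers _) _
  have hca := hroot a m hm (hmemL a b)
  have hcb := hroot b n hnn (hmemR a b)
  have hn0 : n ≠ 0 := fun h => by
    subst h
    rw [pow_zero, pow_one] at hcb
    have h1 : b ∈ Subgroup.center P :=
      (Subgroup.zpowers_le.2 (hcen a b) : Subgroup.zpowers c ≤ _) (hcb ▸ Subgroup.mem_zpowers b)
    exact hab (Subgroup.mem_center_iff.1 h1 a)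
  obtain ⟨u, hu⟩ : ∃ u : ℕ, (a ^ p ^ m) ^ u = b ^ p ^ n := by
    have h1 : b ^ p ^ n ∈ Subgroup.zpowers (a ^ p ^ m) := hca ▸ hcb.symm ▸ Subgroup.mem_zpowers _
    rwa [← mem_powers_iff_mem_zpowers, Submonoid.mem_powers_iff] at h1
  set s := (p - 1) * u with hs
  set a' := a ^ (p ^ (m - n) * s) with ha'
  have haN : a' ^ p ^ n * b ^ p ^ n = 1 := by
    rw [← hu, ha', ← pow_mul, ← pow_mul, ← pow_add]
    refine orderOf_dvd_iff_pow_eq_one.1 ?_
    rw [hm, show p ^ (m - n) * s * p ^ n = p ^ (m - n) * p ^ n * s by ring, ← pow_add,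
      Nat.sub_add_cancel (by omega), hs, ← mul_add, ← Nat.succ_mul, Nat.succ_eq_add_one,
      Nat.sub_add_cancel hp.one_le, pow_succ]
    exact mul_dvd_mul_left _ (dvd_mul_right _ _)
  have hpow' : (b * a') ^ p ^ n = c ^ (p ^ (m - n) * s * (p ^ n).choose 2) := by
    rw [CfsgLib.PGroup.mul_pow_of_comm_mem_center (hcen a' b), ha',
      CfsgLib.PGroup.comm_pow_left (hcen a b), ← hc, ← pow_mul c]
    have hcm : b ^ p ^ n * a' ^ p ^ n = 1 := mul_eq_one_comm.1 haN
    rw [← ha', hcm, one_mul]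
  have hnc' : a * (b * a') ≠ (b * a') * a := fun h => hab (by
    have hcm : Commute a a' := (Commute.refl a).pow_right _
    rw [mul_assoc b, ← hcm.eq, ← mul_assoc, ← mul_assoc] at h
    exact mul_right_cancel h)
  have hkey : ¬ p ∣ p ^ (m - n) * s * (p ^ n).choose 2 := fun hd => by
    apply hnc'
    refine hcomm _ _ (Nat.add_lt_add_left ?_ _)
    have h1 : (b * a') ^ p ^ n = 1 := by
      rw [hpow']
      exact orderOf_dvd_iff_pow_eq_one.1 (hco ▸ hd)
    refine lt_of_le_of_lt (Nat.le_of_dvd (pow_pos hp.pos n) (orderOf_dvd_of_pow_eq_one h1)) ?_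
    rw [hnn]
    exact Nat.pow_lt_pow_right hp.one_lt (Nat.lt_succ_self n)
  have hch : ¬ p ∣ (p ^ n).choose 2 := fun h => hkey (h.mul_left _)
  obtain ⟨hp2, hn1'⟩ : p = 2 ∧ n = 1 := by
    by_contra h
    refine hch (dvd_choose_two hp (by omega) ?_)
    rcases eq_or_ne p 2 with h2 | h2
    · exact Or.inr (Nat.two_le_iff n |>.2 ⟨hn0, fun hn1 => h ⟨h2, hn1⟩⟩)
    · exact Or.inl h2
  subst hp2 hn1'
  have hm1 : m = 1 := by
    by_contra h
    exact hkey (((dvd_pow_self 2 (show m - 1 ≠ 0 by omega)).mul_right s).mul_right _)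
  subst hm1
  norm_num at hm hnn hu hca hcb
  -- `a`, `b` generate a quaternion group
  have hu' : a ^ 2 = b ^ 2 := by
    have hb2 : b ^ 2 ≠ 1 := fun h => by
      have := Nat.le_of_dvd two_pos (hnn ▸ orderOf_dvd_of_pow_eq_one h)
      omega
    rcases Nat.even_or_odd u with ⟨t, rfl⟩ | ⟨t, rfl⟩
    · exfalso; apply hb2
      rw [← hu, ← pow_mul, show 2 * (t + t) = 4 * t by ring, pow_mul, ← hm, pow_orderOf_eq_one, one_pow]
    · rw [← hu, ← pow_mul, show 2 * (2 * t + 1) = 4 * t + 2 by ring, pow_add, pow_mul, ← hm,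
        pow_orderOf_eq_one, one_pow, one_mul]
  have ha4 : a ^ 4 = 1 := hm ▸ pow_orderOf_eq_one a
  have hcz : c = a ^ 2 := by
    have h1 : c ∈ Subgroup.zpowers (a ^ 2) := hca ▸ Subgroup.mem_zpowers c
    rw [← mem_powers_iff_mem_zpowers, Submonoid.mem_powers_iff] at h1
    obtain ⟨t, ht⟩ := h1
    rcases Nat.even_or_odd t with ⟨r, rfl⟩ | ⟨r, rfl⟩
    · exfalso; apply hc1
      rw [← ht, ← pow_mul, show 2 * (r + r) = 4 * r by ring, pow_mul, ha4, one_pow]
    · rw [← ht, ← pow_mul, show 2 * (2 * r + 1) = 4 * r + 2 by ring, pow_add, pow_mul, ha4, one_pow, one_mul]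
  have hbab : b * a * b⁻¹ = a⁻¹ := by
    have h1 : b * a * b⁻¹ = c⁻¹ * a := by rw [hc, commutatorElement_def]; group
    rw [h1, hcz, eq_inv_iff_mul_eq_one, mul_assoc, ← sq, inv_mul_cancel]
  let zp : ZMod (2 * 2) → P := fun i => a ^ i.val
  have zadd : ∀ i j, zp (i + j) = zp i * zp j := fun i j => by
    simp only [zp]
    rw [ZMod.val_add, ← pow_add, ← pow_eq_pow_mod _ ha4]
  have zswap : ∀ i, zp i * b = b * zp (-i) := fun i => by
    have h1 : b * zp (-i) * b⁻¹ = zp i := by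
      simp only [zp]
      rw [← conj_pow, hbab, inv_pow, inv_eq_iff_mul_eq_one, ← pow_add]
      refine orderOf_dvd_iff_pow_eq_one.1 ?_
      rw [hm, ← ZMod.natCast_eq_zero_iff, Nat.cast_add, ZMod.natCast_zmod_val, ZMod.natCast_zmod_val]
      exact neg_add_cancel i
    calc zp i * b = b * zp (-i) * b⁻¹ * b := by rw [h1]
      _ = _ := by group
  have hb2 : b * b = zp ((2 : ℕ) : ZMod (2 * 2)) := by rw [← sq, ← hu']; rfl
  let φ : QuaternionGroup 2 →* P :=
    { toFun := fun g => match g with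
        | .a i => zp i
        | .xa i => b * zp i
      map_one' := by show a ^ (0 : ZMod (2 * 2)).val = 1; simp
      map_mul' := fun g h => by
        rcases g with i | i <;> rcases h with j | j
        · exact zadd i j
        · show b * zp (j - i) = zp i * (b * zp j)
          rw [← mul_assoc, zswap, mul_assoc, ← zadd, neg_add_eq_sub]
        · show b * zp (i + j) = b * zp i * zp j
          rw [zadd, mul_assoc]
        · show zp (((2 : ℕ) : ZMod (2 * 2)) + j - i) = b * zp i * (b * zp j)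
          rw [mul_assoc, ← mul_assoc (zp i), zswap, mul_assoc, ← zadd, neg_add_eq_sub,
            ← mul_assoc, hb2, ← zadd, add_sub_assoc] }
  have hzp1 : ∀ i, zp i = 1 → i = 0 := fun i hi => by
    have h1 : 4 ∣ i.val := hm ▸ orderOf_dvd_of_pow_eq_one hi
    have h2 := ZMod.val_lt i
    rw [← ZMod.natCast_zmod_val i, show i.val = 0 by omega, Nat.cast_zero]
  have hφ : Function.Injective φ := by
    rw [injective_iff_map_eq_one]
    rintro (i | i) hi
    · rw [hzp1 i hi]; rfl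
    · exfalso
      have h1 : b = (zp i)⁻¹ := eq_inv_of_mul_eq_one_left hi
      exact hab (by rw [h1]; exact ((Commute.refl a).pow_right _).inv_right.eq)
  have hca' : a ∈ φ.range := ⟨.a 1, pow_one a⟩
  have hcb' : b ∈ φ.range := ⟨.xa 0, show b * a ^ (0 : ZMod (2 * 2)).val = b by simp⟩
  set C := Subgroup.centralizer ({a, b} : Set P) with hC
  have hmemC : ∀ g, g ∈ C ↔ (g * a = a * g ∧ g * b = b * g) := fun g => by
    rw [hC, Subgroup.mem_centralizer_iff]
    refine ⟨fun h => ⟨(h a (by simp)).symm, (h b (by simp)).symm⟩, fun h x hx => ?_⟩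
    rcases hx with rfl | rfl
    exacts [h.1.symm, h.2.symm]
  have hinv : ∀ g : P, ∀ x : P, x ^ 4 = 1 → x ^ 2 = c → ⁅g, x⁆ = 1 ∨ ⁅g, x⁆ = c := by
    intro g x hx4 hx2
    have h1 := hmemR g x
    rw [← mem_powers_iff_mem_zpowers, Submonoid.mem_powers_iff] at h1
    obtain ⟨i, hi⟩ := h1
    have hsq : ⁅g, x⁆ ^ 2 = 1 := by
      rw [← CfsgLib.PGroup.comm_pow_right (hcen g x), hx2, commutatorElement_eq_one_iff_mul_comm]
      exact Subgroup.mem_center_iff.1 (hcen a b) g
    rcases Nat.even_or_odd i with ⟨t, rfl⟩ | ⟨t, rfl⟩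
    · rw [← hi, ← two_mul, pow_mul, hx2]
      rcases Nat.even_or_odd t with ⟨r, rfl⟩ | ⟨r, rfl⟩
      · left; rw [← two_mul, pow_mul, hcp, one_pow]
      · right; rw [pow_add, pow_mul, hcp, one_pow, one_mul, pow_one]
    · exfalso
      rw [← hi, ← pow_mul, show (2 * t + 1) * 2 = 4 * t + 2 by ring, pow_add, pow_mul, hx4, one_pow, one_mul, hx2] at hsq
      exact hc1 hsq
  have hb4 : b ^ 4 = 1 := hnn ▸ pow_orderOf_eq_one b
  have hbc : ⁅b, a⁆ = c := by
    rw [← commutatorElement_inv, ← hc, inv_eq_of_mul_eq_one_left]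
    rw [← sq, hcp]
  have hdec : ∀ g : P, ∃ q ∈ φ.range, g * q ∈ C := by
    intro g
    have hstep : ∀ h : P, ∃ q ∈ φ.range, ⁅h * q, a⁆ = 1 := fun h => by
      rcases hinv h a ha4 hcz.symm with h1 | h1
      · exact ⟨1, φ.range.one_mem, by rw [mul_one, h1]⟩
      · exact ⟨b, hcb', by rw [CfsgLib.PGroup.comm_mul_left (hcen b a), h1, hbc, ← sq, hcp]⟩
    obtain ⟨q, hq, hq1⟩ := hstep g
    rcases hinv (g * q) b hb4 (hu'.symm.trans hcz.symm) with h1 | h1
    · exact ⟨q, hq, (hmemC _).2 ⟨commutatorElement_eq_one_iff_mul_comm.1 hq1,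
        commutatorElement_eq_one_iff_mul_comm.1 h1⟩⟩
    · refine ⟨q * a, φ.range.mul_mem hq hca', (hmemC _).2 ⟨?_, ?_⟩⟩ <;>
        rw [← mul_assoc, ← commutatorElement_eq_one_iff_mul_comm, CfsgLib.PGroup.comm_mul_left (hcen a _)]
      · rw [hq1, one_mul, commutatorElement_self]
      · rw [h1, ← hc, ← sq, hcp]
  have hexp : ∀ g ∈ C, g ^ 2 = 1 := by
    by_contra hcon
    push Not at hcon
    obtain ⟨g, hgC, hg⟩ := hcon
    obtain ⟨l, -, hl⟩ := (Nat.dvd_prime_pow hp).1 (orderOf_dvd_of_pow_eq_one (hP g).choose_spec)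
    have hl2 : 2 ≤ l := by
      by_contra h
      exact hg (orderOf_dvd_iff_pow_eq_one.1 (hl ▸ (pow_dvd_pow 2 (show l ≤ 1 by omega))))
    obtain ⟨r, rfl⟩ : ∃ r, l = r + 2 := ⟨l - 2, by omega⟩
    set k := g ^ 2 ^ r with hk
    have hkC : k ∈ C := C.pow_mem hgC _
    have hk4 : k ^ 4 = 1 := by rw [hk, ← pow_mul, show 2 ^ r * 4 = 2 ^ (r + 2) by ring, ← hl, pow_orderOf_eq_one]
    have hk2 : k ^ 2 ≠ 1 := fun h => by
      rw [hk, ← pow_mul] at h
      have := Nat.le_of_dvd (by positivity) (hl ▸ orderOf_dvd_of_pow_eq_one h)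
      have := Nat.two_pow_pos r
      rw [pow_add] at *
      omega
    obtain ⟨hka, hkb⟩ := (hmemC k).1 hkC
    have hak : Commute a k := (show Commute k a from hka).symm
    have hak4 : (a * k) ^ 4 = 1 := by rw [hak.mul_pow, ha4, hk4, one_mul]
    have hcj : b * (a * k) * b⁻¹ = a⁻¹ * k := by
      calc b * (a * k) * b⁻¹ = (b * a * b⁻¹) * (b * k * b⁻¹) := by group
        _ = _ := by rw [hbab, ← hkb, mul_inv_cancel_right]
    have h1 := (hn (Subgroup.zpowers (a * k))).conj_mem _ (Subgroup.mem_zpowers _) b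
    rw [hcj, ← mem_powers_iff_mem_zpowers, Submonoid.mem_powers_iff] at h1
    obtain ⟨i, hi⟩ := h1
    rw [pow_eq_pow_mod i hak4] at hi
    have hlt := Nat.mod_lt i (show 4 > 0 by norm_num)
    have hbk : Commute b k := (show Commute k b from hkb).symm
    have hb2c : Commute b (a ^ 2) := hcz ▸ (Subgroup.mem_center_iff.1 (hcen a b) b : b * c = c * b)
    have heven : ¬ Commute b (a⁻¹ * k) := fun h => by
      have h2 : Commute b a⁻¹ := by simpa using h.mul_right hbk.inv_right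
      exact hab (by simpa using h2.inv_right.eq.symm)
    interval_cases hi4 : i % 4
    · exact heven (by rw [← hi, pow_zero]; exact Commute.one_right b)
    · rw [pow_one, mul_left_inj, eq_inv_iff_mul_eq_one, ← sq] at hi
      exact hc1 (hcz.trans hi)
    · exact heven (by rw [← hi, hak.mul_pow]; exact hb2c.mul_right (hbk.pow_right 2))
    · rw [hak.mul_pow, show a⁻¹ = a ^ 3 from inv_eq_of_mul_eq_one_left (by rw [← pow_succ, ha4]),
        mul_right_inj, pow_succ, mul_eq_right] at hi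
      exact hk2 hi
  obtain ⟨E, ⟨hEC, hcE⟩, hEmax⟩ := (Set.toFinite {E : Subgroup P | E ≤ C ∧ c ∉ E}).exists_maximal
    ⟨⊥, bot_le, fun h => hc1 (Subgroup.mem_bot.1 h)⟩
  have hCab : ∀ g ∈ C, ∀ h ∈ C, g * h = h * g := fun g hg h hh => by
    have h1 := hexp _ (C.mul_mem hg hh)
    have e1 : g⁻¹ = g := inv_eq_of_mul_eq_one_right (by rw [← sq, hexp g hg])
    have e2 : h⁻¹ = h := inv_eq_of_mul_eq_one_right (by rw [← sq, hexp h hh])
    rw [sq, mul_eq_one_iff_eq_inv, mul_inv_rev, e1, e2] at h1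
    exact h1
  refine ⟨rfl, φ, E, hφ, ⟨⟨⟨fun x y => Subtype.ext (hCab x (hEC x.2) y (hEC y.2))⟩⟩, fun x hx => hexp x (hEC hx)⟩, ?_, ?_⟩
  · rw [Subgroup.eq_bot_iff_forall]
    rintro x ⟨⟨g, rfl⟩, hxE⟩
    obtain ⟨h1, h2⟩ := (hmemC _).1 (hEC hxE)
    rcases g with i | i
    · have h3 : zp i = 1 ∨ zp i = c := by
        have h4 : zp i * b = b * zp i := h2
        rw [zswap] at h4
        have h5 : -i = i := by
          have h6 := mul_left_cancel h4
          have h7 : zp (i + i) = 1 := by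
            rw [zadd]; nth_rewrite 1 [← h6]; rw [← zadd, neg_add_cancel]; simp [zp]
          exact neg_eq_of_add_eq_zero_left (hzp1 _ h7)
        have h8 : i = 0 ∨ i = 2 := (by decide : ∀ j : ZMod (2 * 2), -j = j → j = 0 ∨ j = 2) i h5
        rcases h8 with rfl | rfl
        · left; simp [zp]
        · right; exact hcz.symm
      rcases h3 with h3 | h3
      · exact h3
      · exact absurd (show c ∈ E from h3 ▸ hxE) hcE
    · exfalso
      have h4 : b * zp i * a = a * (b * zp i) := h1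
      rw [mul_assoc, ((Commute.refl a).pow_left _).eq, ← mul_assoc, ← mul_assoc] at h4
      exact hab (mul_right_cancel h4).symm
  · rw [eq_top_iff]
    intro g _
    obtain ⟨q, hq, hgq⟩ := hdec g
    have hcC : c ∈ C := (hmemC c).2 ⟨(Subgroup.mem_center_iff.1 (hcen a b) a).symm, (Subgroup.mem_center_iff.1 (hcen a b) b).symm⟩
    have hcQ : c ∈ φ.range := hcz ▸ Subgroup.pow_mem _ hca' 2
    have hmem : g * q ∈ φ.range ⊔ E := by
      by_contra hnot
      set w := g * q with hw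
      let E' : Subgroup P :=
        { carrier := {x | x ∈ C ∧ (x ∈ E ∨ x * w ∈ E)}
          one_mem' := ⟨C.one_mem, Or.inl E.one_mem⟩
          mul_mem' := fun {x y} hx hy => ⟨C.mul_mem hx.1 hy.1, by
            rcases hx.2 with h1 | h1 <;> rcases hy.2 with h2 | h2
            · exact Or.inl (E.mul_mem h1 h2)
            · exact Or.inr (by rw [mul_assoc]; exact E.mul_mem h1 h2)
            · exact Or.inr (by
                rw [mul_assoc, hCab y hy.1 w hgq, ← mul_assoc]; exact E.mul_mem h1 h2)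
            · refine Or.inl ?_
              have h3 := E.mul_mem h1 h2
              rwa [mul_assoc x w, ← mul_assoc w y, hCab w hgq y hy.1, mul_assoc y w, ← sq, hexp w hgq, mul_one] at h3⟩
          inv_mem' := fun {x} hx => by
            have e1 : x⁻¹ = x := inv_eq_of_mul_eq_one_right (by rw [← sq, hexp x hx.1])
            show x⁻¹ ∈ C ∧ (x⁻¹ ∈ E ∨ x⁻¹ * w ∈ E)
            rw [e1]
            exact hx }
      have hle' : E ≤ E' := fun x hx => ⟨hEC hx, Or.inl hx⟩
      have hwE' : w ∈ E' := ⟨hgq, Or.inr (by rw [← sq, hexp w hgq]; exact E.one_mem)⟩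
      by_cases hcE' : c ∈ E'
      · rcases hcE'.2 with h | h
        · exact hcE h
        · exact hnot (by
            rw [show w = c⁻¹ * (c * w) by group]
            exact Subgroup.mul_mem _ (Subgroup.mem_sup_left (φ.range.inv_mem hcQ)) (Subgroup.mem_sup_right h))
      · exact hnot (Subgroup.mem_sup_right (hEmax ⟨fun x (hx : x ∈ C ∧ _) => hx.1, hcE'⟩ hle' hwE'))
    simpa using Subgroup.mul_mem _ hmem (Subgroup.mem_sup_left (φ.range.inv_mem hq))


/-- A finite non-abelian group in which every subgroup is normal is the internal direct product of a subgroup isomorphic to the quaternion group of order `8`, an elementary abelian `2`-subgroup and an abelian subgroup of odd order. -/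
theorem result {G : Type*} [Group G] [Finite G] (hna : ¬ IsMulCommutative G) (hn : ∀ H : Subgroup G, H.Normal) : ∃ Q E A : Subgroup G, Nonempty (Q ≃* QuaternionGroup 2) ∧ Cfsg.IsElementaryAbelian 2 E ∧ IsMulCommutative A ∧ Odd (Nat.card A) ∧ E ⊓ A = ⊥ ∧ Q ⊓ (E ⊔ A) = ⊥ ∧ Q ⊔ (E ⊔ A) = ⊤ := by
  classical
  have hnil : Group.IsNilpotent G :=
    (Group.isNilpotent_of_finite_tfae (G := G)).out 0 3 rfl rfl |>.mpr fun _ _ P => hn _
  have key : ∀ (H : Subgroup G), ¬ IsMulCommutative H → ∃ (p : ℕ) (_ : Fact p.Prime) (P : Sylow p H),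
      ¬ IsMulCommutative (P : Subgroup H) := by
    intro H hH
    by_contra hcon
    push Not at hcon
    obtain ⟨e⟩ := (Group.isNilpotent_of_finite_tfae (G := H)).out 0 4 rfl rfl |>.mp inferInstance
    refine hH ⟨⟨fun a b => e.symm.injective ?_⟩⟩
    rw [map_mul, map_mul]
    funext q
    funext P
    exact (hcon q ⟨Nat.prime_of_mem_primeFactors q.2⟩ P).is_comm.comm _ _
  have hsubn : ∀ (H : Subgroup G) (K : Subgroup H), K.Normal := fun H K => by
    have := hn (K.map H.subtype)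
    rw [← Subgroup.comap_map_eq_self_of_injective H.subtype_injective K]
    infer_instance
  obtain ⟨p, hp, P, hPna⟩ : ∃ (p : ℕ) (_ : Fact p.Prime) (P : Sylow p G), ¬ IsMulCommutative (P : Subgroup G) := by
    by_contra hcon
    push Not at hcon
    obtain ⟨e⟩ := (Group.isNilpotent_of_finite_tfae (G := G)).out 0 4 rfl rfl |>.mp hnil
    refine hna ⟨⟨fun a b => e.symm.injective ?_⟩⟩
    rw [map_mul, map_mul]
    funext q
    funext P
    exact (hcon q ⟨Nat.prime_of_mem_primeFactors q.2⟩ P).is_comm.comm _ _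
  have hncomm : ∃ u v : (P : Subgroup G), u * v ≠ v * u := by
    by_contra h
    push Not at h
    exact hPna ⟨⟨h⟩⟩
  obtain ⟨rfl, φ, E, hφ, hE, hQE, hQEt⟩ := dedekind_p P.2 (hsubn _) hncomm
  obtain ⟨P', K, hKn, hKP⟩ : Cfsg.HasNormalPComplement 2 G := by
    refine CfsgLib.Transfer.hasNormalPComplement_of_frobeniusCond fun Q hQ g _ hco => ?_
    refine Subgroup.mem_centralizer_iff.2 fun u hu => CfsgLib.OddLocal.commute_of_coprime_orderOf u g ?_
    obtain ⟨j, hj⟩ := hQ ⟨u, hu⟩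
    have h1 : u ^ 2 ^ j = 1 := congrArg Subtype.val hj
    exact Nat.Coprime.coprime_dvd_left (orderOf_dvd_of_pow_eq_one h1) (hco.symm.pow_left j)
  have hPP : (P' : Subgroup G) = P := by
    let _ := Sylow.unique_of_normal P (hn _)
    rw [Subsingleton.elim P' P]
  rw [hPP] at hKP
  have hKodd : Odd (Nat.card K) :=
    Nat.coprime_two_right.1 (CfsgLib.Transfer.coprime_card_of_isComplement' P hKP)
  have hKab : IsMulCommutative K := by
    by_contra h
    obtain ⟨q, hq, R, hR⟩ := key K h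
    have hnR : ∀ L : Subgroup (R : Subgroup K), L.Normal := fun L => by
      have := hsubn K (L.map (R : Subgroup K).subtype)
      rw [← Subgroup.comap_map_eq_self_of_injective (R : Subgroup K).subtype_injective L]
      infer_instance
    have hR' : ∃ u v : (R : Subgroup K), u * v ≠ v * u := by
      by_contra h'
      push Not at h'
      exact hR ⟨⟨h'⟩⟩
    obtain ⟨rfl, ψ, -, hψ, -⟩ := dedekind_p R.2 hnR hR'
    have h4 : 2 ∣ Nat.card K := by
      refine (dvd_trans ?_ (Subgroup.card_subgroup_dvd_card (R : Subgroup K)))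
      refine dvd_trans ?_ (Subgroup.card_dvd_of_injective ψ hψ)
      rw [Nat.card_eq_fintype_card, QuaternionGroup.card]
      norm_num
    exact (Nat.not_even_iff_odd.2 hKodd) (even_iff_two_dvd.2 h4)
  let ι := (P : Subgroup G).subtype
  refine ⟨φ.range.map ι, E.map ι, K, ⟨((MonoidHom.ofInjective hφ).trans
    (φ.range.equivMapOfInjective ι (P : Subgroup G).subtype_injective)).symm⟩, ?_, hKab, hKodd, ?_, ?_, ?_⟩
  · refine ⟨⟨⟨?_⟩⟩, ?_⟩
    · rintro ⟨_, x, hx, rfl⟩ ⟨_, y, hy, rfl⟩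
      exact Subtype.ext (congrArg (fun z : E => (((z : (P : Subgroup G)) : G))) (hE.1.is_comm.comm ⟨x, hx⟩ ⟨y, hy⟩))
    · rintro _ ⟨x, hx, rfl⟩
      rw [← map_pow, hE.2 x hx, map_one]
  · exact le_bot_iff.1 ((inf_le_inf_right _ (Subgroup.map_subtype_le E)).trans hKP.disjoint.symm.eq_bot.le)
  · rw [Subgroup.eq_bot_iff_forall]
    rintro z ⟨hzQ, hz⟩
    obtain ⟨e, he, k, hk, rfl⟩ := Subgroup.mem_sup_of_normal_right.1 hz
    have hk1 : k = 1 := Subgroup.disjoint_def.1 hKP.disjoint hk (by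
      have := (P : Subgroup G).mul_mem ((P : Subgroup G).inv_mem (Subgroup.map_subtype_le _ he)) (Subgroup.map_subtype_le _ hzQ)
      simpa using this)
    rw [hk1, mul_one] at hzQ ⊢
    have : e ∈ (φ.range ⊓ E).map ι := by
      rw [Subgroup.map_inf _ _ _ (P : Subgroup G).subtype_injective]; exact ⟨hzQ, he⟩
    rw [hQE, Subgroup.map_bot] at this
    exact this
  · rw [← sup_assoc, ← Subgroup.map_sup, hQEt, ← MonoidHom.range_eq_map, Subgroup.range_subtype, sup_comm]
    exact hKP.sup_eq_top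

end Cfsg.Agent.S4211
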