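import Cfsg.Statements.S0071
import Cfsg.Agent.Lib.Transfer.Frobenius

set_option autoImplicit false
open Cfsg

namespace Cfsg.Agent.S0071

/-- The Frobenius normal p-complement Theorem states that a Sylow p-subgroup has a normal complement exactly when, for each of its subgroups Q, every element of the normalizer of Q of order prime to p centralizes Q. -/
theorem result {G : Type*} [Group G] [Finite G] {p : ℕ} [Fact p.Prime] (P : Sylow p G) : (∃ N : Subgroup G, N.Normal ∧ N.IsComplement' (P : Subgroup G)) ↔ ∀ Q : Subgroup G, Q ≤ (P : Subgroup G) → ∀ g ∈ Subgroup.normalizer (Q : Set G), Nat.Coprime (orderOf g) p → g ∈ Subgroup.centralizer (Q : Set G) := by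
  rw [← CfsgLib.Transfer.hasNormalPComplement_iff_sylow P]
  constructor
  · intro h Q hQ g hg hco
    exact CfsgLib.Transfer.mem_centralizer_of_hasNormalPComplement h (P.2.to_le hQ) hg hco
  · intro h
    refine CfsgLib.Transfer.hasNormalPComplement_of_frobeniusCond fun Q hQ g hg hco => ?_
    obtain ⟨a, ha⟩ := CfsgLib.Transfer.exists_conj_mem_sylow P hQ
    let c := (MulAut.conj a).toMonoidHom
    have hgQ : c g ∈ Subgroup.normalizer ((Q.map c : Subgroup G) : Set G) := by
      rw [Subgroup.mem_normalizer_iff]
      intro y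
      constructor
      · rintro ⟨q, hq, rfl⟩
        exact ⟨g * q * g⁻¹, (Subgroup.mem_normalizer_iff.1 hg q).1 hq, by simp [c, mul_assoc]⟩
      · rintro ⟨q, hq, e⟩
        refine ⟨g⁻¹ * q * g, (Subgroup.mem_normalizer_iff''.1 hg q).1 hq, ?_⟩
        rw [map_mul, map_mul, map_inv, e]
        group
    have hord : Nat.Coprime (orderOf (c g)) p := Nat.Coprime.coprime_dvd_left (orderOf_map_dvd c g) hco
    have := h (Q.map c) (by rintro _ ⟨q, hq, rfl⟩; exact ha q hq) (c g) hgQ hord
    rw [Subgroup.mem_centralizer_iff] at this ⊢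
    intro q hq
    apply (MulAut.conj a).injective
    rw [map_mul, map_mul]
    exact this (c q) ⟨q, hq, rfl⟩

end Cfsg.Agent.S0071
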