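import Cfsg.Statements.S3300
import Cfsg.Agent.Lib.InvolChar.LargeExtraTransfer
import Cfsg.Agent.Lib.InvolChar.LargeExtraInvolution
import Cfsg.Agent.Lib.Cores.Basic
-- import your own Cfsg.Agent.* helpers here

set_option autoImplicit false
open Cfsg

namespace Cfsg.Agent.S3300

/-- The embedding of the group of order two into the units of the integers. -/
def toUnits : Multiplicative (ZMod 2) →* ℤˣ where
  toFun u := if Multiplicative.toAdd u = 0 then 1 else -1
  map_one' := rfl
  map_mul' := by decide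

theorem toUnits_eq_one : ∀ u : Multiplicative (ZMod 2), toUnits u = 1 → u = 1 := by decide

theorem one_add_one' : (1 : ZMod 2) + 1 = 0 := by decide


/-- Let G be a finite group with no nontrivial 2-group quotient (O^2(G) = G), z an involution of G with H = C_G(z), and suppose E = O_2(H) is extraspecial with C_G(E) ≤ E and of order 2^(2n+1) with n ≥ 3. If H has a normal subgroup of index 2, then z is conjugate in G to an element of E other than z. -/
theorem result {G : Type*} [Group G] [Finite G] (hres : Cfsg.pResidual 2 G = ⊤) (z : G) (hz : orderOf z = 2)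
    (E : Subgroup G) (hE : E = (Cfsg.pCore 2 ↥(Subgroup.centralizer ({z} : Set G))).map (Subgroup.centralizer ({z} : Set G)).subtype)
    (hext : Cfsg.IsExtraspecial 2 ↥E) (hcent : Subgroup.centralizer (E : Set G) ≤ E) (n : ℕ) (hn : 3 ≤ n) (hcard : Nat.card ↥E = 2 ^ (2 * n + 1))
    (K : Subgroup G) (hKH : K ≤ Subgroup.centralizer ({z} : Set G))
    (hKn : ∀ h ∈ Subgroup.centralizer ({z} : Set G), K.map (MulAut.conj h).toMonoidHom = K)
    (hKi : K.relIndex (Subgroup.centralizer ({z} : Set G)) = 2) :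
    ∃ g : G, g * z * g⁻¹ ∈ E ∧ g * z * g⁻¹ ≠ z := by
  classical
  by_contra hno'
  push Not at hno'
  obtain ⟨hzz, hz1⟩ : z * z = 1 ∧ z ≠ 1 := by
    have := orderOf_eq_prime_iff.1 hz
    rwa [sq] at this
  set H := Subgroup.centralizer ({z} : Set G) with hH
  have hEH : E ≤ H := hE ▸ Subgroup.map_subtype_le _
  have hEn : ∀ h ∈ H, ∀ e ∈ E, h * e * h⁻¹ ∈ E := by
    intro h hh x hx
    rw [hE] at hx ⊢
    obtain ⟨x', hx', rfl⟩ := hx
    haveI := CfsgLib.Cores.pCore_characteristic (G := ↥H) 2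
    exact ⟨⟨h, hh⟩ * x' * (⟨h, hh⟩ : H)⁻¹, (inferInstance : (Cfsg.pCore 2 H).Normal).conj_mem x' hx' _, rfl⟩
  have hno : ∀ f : G →* Multiplicative (ZMod 2), ∀ g, f g = 1 := fun f g =>
    toUnits_eq_one _ (CfsgLib.InvolChar.LargeExtraTransfer.hom_units_trivial hres (toUnits.comp f) g)
  have h128 : 128 ≤ Nat.card E := by
    rw [hcard]
    exact le_trans (by norm_num : 128 ≤ 2 ^ 7) (Nat.pow_le_pow_right (by norm_num) (by omega))
  have hKc : ∀ h ∈ H, ∀ k ∈ K, h * k * h⁻¹ ∈ K := fun h hh k hk => by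
    rw [← hKn h hh]
    exact ⟨k, hk, rfl⟩
  have hEK := CfsgLib.InvolChar.LargeExtraTransfer.le_of_index_two hres z hz E hE hext hcent (by omega) K hKH hKc hKi
  have b : CfsgLib.InvolChar.LargeExtraWeak.Hyp z E := ⟨hzz, hz1, hEH, hEn, hext, hcent, hno'⟩
  have hidx : (K.subgroupOf H).index = 2 := hKi
  let χ : G → ZMod 2 := fun g => if g ∈ K then 0 else 1
  have hχ : CfsgLib.InvolChar.OrbitTransfer.Additive' H χ := by
    intro a ha c hc
    have h1 := Subgroup.mul_mem_iff_of_index_two hidx (a := ⟨a, ha⟩) (b := ⟨c, hc⟩)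
    simp only [Subgroup.mem_subgroupOf, Subgroup.coe_mul] at h1
    simp only [χ]
    by_cases h2 : a ∈ K <;> by_cases h3 : c ∈ K <;> simp [h1, h2, h3, one_add_one']
  have hall := CfsgLib.InvolChar.LargeExtraWeak.char_zero hno b h128 hχ (fun e he => if_pos (hEK he))
  have hHK : H ≤ K := fun x hx => by
    by_contra hxK
    have := hall x hx
    simp only [χ, if_neg hxK] at this
    exact one_ne_zero this
  rw [Subgroup.relIndex_eq_one.2 hHK] at hKi
  omega

end Cfsg.Agent.S3300
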