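import Cfsg.Statements.S0357
import Cfsg.Agent.Lib.Golay.Design

set_option autoImplicit false
open Cfsg

namespace Cfsg.Agent.S0357

/-- In a Steiner system S(5, 6, 12), the complement of every block is again a block. -/
theorem result {α : Type*} [Fintype α] [DecidableEq α] (hα : Fintype.card α = 12) {B : Set (Finset α)} (hB : Cfsg.IsSteinerSystem 5 6 B) {b : Finset α} (hb : b ∈ B) : bᶜ ∈ B := by
  obtain ⟨h0, -⟩ := CfsgLib.Golay.inter_S5612 hα hB hb
  obtain ⟨c, hc⟩ := Finset.card_eq_one.1 h0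
  have hc' : c ∈ CfsgLib.Golay.blockFinset B ∧ (b ∩ c).card = 0 :=
    Finset.mem_filter.1 (hc.symm ▸ Finset.mem_singleton_self c)
  have hcB := CfsgLib.Golay.mem_blockFinset.1 hc'.1
  suffices bᶜ = c by rw [this]; exact hcB
  refine (Finset.eq_of_subset_of_card_le ?_ ?_).symm
  · intro x hx
    rw [Finset.mem_compl]
    intro hxb
    exact Finset.notMem_empty x (Finset.card_eq_zero.1 hc'.2 ▸ Finset.mem_inter.2 ⟨hxb, hx⟩)
  · rw [Finset.card_compl, hα, hB.1 b hb, hB.1 c hcB]

end Cfsg.Agent.S0357
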