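import Cfsg.Statements.S0672
import Mathlib

set_option autoImplicit false
open Cfsg

namespace Cfsg.Agent.S0672

theorem exists_invariant_function {G : Type*} [Group G] {K : Type*} [Field K] {Ω : Type*} [Fintype Ω]
    [DecidableEq Ω] [MulAction G Ω] (hn : (Fintype.card Ω : K) = 0)
    (a b c d : Ω) (hca : c ≠ a) (hcb : c ≠ b) (hda : d ≠ a) (hdb : d ≠ b)
    (hcd : ∀ g : G, (g • a = a ∧ g • b = b ∨ g • a = b ∧ g • b = a) → g • c ≠ d) :
    ∃ φ : Ω → K, (∃ x y, φ x ≠ φ y) ∧ ∑ x, φ x = 0 ∧
      ∀ g : G, (g • a = a ∧ g • b = b ∨ g • a = b ∧ g • b = a) → ∀ x, φ (g • x) = φ x := by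
  classical
  let O : Finset Ω := Finset.univ.filter fun y =>
    ∃ g : G, (g • a = a ∧ g • b = b ∨ g • a = b ∧ g • b = a) ∧ g • c = y
  let T : Finset Ω := {a, b}
  have hmul : ∀ g h : G, (g • a = a ∧ g • b = b ∨ g • a = b ∧ g • b = a) →
      (h • a = a ∧ h • b = b ∨ h • a = b ∧ h • b = a) →
      ((g * h) • a = a ∧ (g * h) • b = b ∨ (g * h) • a = b ∧ (g * h) • b = a) := by
    rintro g h hg (⟨h1, h2⟩ | ⟨h1, h2⟩)
    · rw [mul_smul, mul_smul, h1, h2]; exact hg
    · rw [mul_smul, mul_smul, h1, h2]; exact hg.symm.imp (fun p => p.symm) (fun p => p.symm)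
  have hinv : ∀ g : G, (g • a = a ∧ g • b = b ∨ g • a = b ∧ g • b = a) →
      (g⁻¹ • a = a ∧ g⁻¹ • b = b ∨ g⁻¹ • a = b ∧ g⁻¹ • b = a) := by
    rintro g (⟨h1, h2⟩ | ⟨h1, h2⟩)
    · exact Or.inl ⟨inv_smul_eq_iff.mpr h1.symm, inv_smul_eq_iff.mpr h2.symm⟩
    · exact Or.inr ⟨inv_smul_eq_iff.mpr h2.symm, inv_smul_eq_iff.mpr h1.symm⟩
  have hO : ∀ g : G, (g • a = a ∧ g • b = b ∨ g • a = b ∧ g • b = a) → ∀ x, g • x ∈ O ↔ x ∈ O := by
    intro g hg x
    simp only [O, Finset.mem_filter, Finset.mem_univ, true_and]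
    constructor
    · rintro ⟨h, hh, hhx⟩
      exact ⟨g⁻¹ * h, hmul _ _ (hinv g hg) hh, by rw [mul_smul, hhx, inv_smul_smul]⟩
    · rintro ⟨h, hh, hhx⟩
      exact ⟨g * h, hmul _ _ hg hh, by rw [mul_smul, hhx]⟩
  have hT : ∀ g : G, (g • a = a ∧ g • b = b ∨ g • a = b ∧ g • b = a) → ∀ x, g • x ∈ T ↔ x ∈ T := by
    intro g hg x
    simp only [T, Finset.mem_insert, Finset.mem_singleton]
    rcases hg with ⟨h1, h2⟩ | ⟨h1, h2⟩
    · exact or_congr ⟨fun e => MulAction.injective g (e.trans h1.symm), fun e => by rw [e, h1]⟩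
        ⟨fun e => MulAction.injective g (e.trans h2.symm), fun e => by rw [e, h2]⟩
    · rw [or_comm]
      exact or_congr ⟨fun e => MulAction.injective g (e.trans h1.symm), fun e => by rw [e, h1]⟩
        ⟨fun e => MulAction.injective g (e.trans h2.symm), fun e => by rw [e, h2]⟩
  have hcO : c ∈ O := by simp [O]; exact ⟨1, by simp, by simp⟩
  have hdO : d ∉ O := by
    simp only [O, Finset.mem_filter, Finset.mem_univ, true_and, not_exists, not_and]
    exact hcd
  have haO : a ∉ O := by
    intro h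
    simp only [O, Finset.mem_filter, Finset.mem_univ, true_and] at h
    obtain ⟨g, hg, hgc⟩ := h
    rcases hg with ⟨h1, -⟩ | ⟨-, h2⟩
    · exact hca (MulAction.injective g (hgc.trans h1.symm))
    · exact hcb (MulAction.injective g (hgc.trans h2.symm))
  by_cases hN : (O.card : K) = 0
  · refine ⟨fun x => if x ∈ O then 1 else 0, ⟨c, d, by simp [hcO, hdO]⟩, ?_, fun g hg x => ?_⟩
    · simp [hN]
    · simp only [hO g hg x]
  · refine ⟨fun x => (O.card : K) * (if x ∈ T then 1 else 0) - (T.card : K) * (if x ∈ O then 1 else 0),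
      ⟨a, d, ?_⟩, ?_, fun g hg x => ?_⟩
    · have hdT : d ∉ T := by simp [T, hda, hdb]
      have haT : a ∈ T := by simp [T]
      simp [haT, hdT, haO, hdO, hN]
    · simp [Finset.sum_sub_distrib, mul_comm]
    · simp only [hO g hg x, hT g hg x]

/-- Let a finite group act faithfully and doubly transitively with point stabilisers of even order, and let `K` have characteristic `p` dividing the degree. If the heart of the permutation module admits no non-zero equivariant map to the permutation module on unordered pairs (phrased: every intertwining map from the sum-zero functions vanishing on the constants is zero), the action is triply transitive. -/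
theorem result {G : Type*} [Group G] [Finite G] {K : Type*} [Field K] {p : ℕ} [Fact p.Prime] [CharP K p] {Ω : Type*} [Fintype Ω] [DecidableEq Ω] [MulAction G Ω] [FaithfulSMul G Ω] (h2 : MulAction.IsMultiplyPretransitive G Ω 2) (hp : p ∣ Fintype.card Ω) (heven : ∀ a : Ω, Even (Nat.card (MulAction.stabilizer G a))) (h : ∀ f : Representation.IntertwiningMap (Cfsg.permSumZero K G Ω).toRepresentation (Cfsg.permRep K G (Set.powersetCard Ω 2)), (∀ v : (Cfsg.permSumZero K G Ω).toSubmodule, (v : Ω → K) ∈ (Cfsg.permConstants K G Ω).toSubmodule → f v = 0) → f = 0) : MulAction.IsMultiplyPretransitive G Ω 3 := by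
  classical
  haveI := h2
  have hn : (Fintype.card Ω : K) = 0 := (CharP.cast_eq_zero_iff K p _).mpr hp
  have h2' : ∀ {a b c d : Ω}, a ≠ b → c ≠ d → ∃ g : G, g • a = c ∧ g • b = d :=
    MulAction.is_two_pretransitive_iff.mp h2
  -- setwise pair stabilisers are transitive on the other points
  have hset : ∀ a b c d : Ω, a ≠ b → c ≠ a → c ≠ b → d ≠ a → d ≠ b →
      ∃ g : G, (g • a = a ∧ g • b = b ∨ g • a = b ∧ g • b = a) ∧ g • c = d := by
    intro a b c d hab hca hcb hda hdb
    by_contra hno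
    push Not at hno
    obtain ⟨φ, ⟨x, y, hxy⟩, hsum, hφ⟩ := exists_invariant_function (K := K) hn a b c d hca hcb hda hdb hno
    -- transport the function to every pair
    have hex : ∀ P : Set.powersetCard Ω 2, ∃ g : G, (({a, b} : Finset Ω).image (g • ·)) = (P : Finset Ω) := by
      intro P
      obtain ⟨u, v, huv, huvP⟩ := Finset.card_eq_two.mp P.2
      obtain ⟨g, hgu, hgv⟩ := h2' hab huv
      exact ⟨g, by rw [huvP, Finset.image_insert, Finset.image_singleton, hgu, hgv]⟩
    choose t ht using hex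
    have key : ∀ (g g' : G), (({a, b} : Finset Ω).image (g • ·)) = (({a, b} : Finset Ω).image (g' • ·)) →
        ∀ z, φ (g⁻¹ • z) = φ (g'⁻¹ • z) := by
      intro g g' hgg z
      have hstab : (g'⁻¹ * g) • a = a ∧ (g'⁻¹ * g) • b = b ∨ (g'⁻¹ * g) • a = b ∧ (g'⁻¹ * g) • b = a := by
        have ha : g • a ∈ ({a, b} : Finset Ω).image (g' • ·) := by
          rw [← hgg]; exact Finset.mem_image_of_mem _ (by simp)
        have hb : g • b ∈ ({a, b} : Finset Ω).image (g' • ·) := by
          rw [← hgg]; exact Finset.mem_image_of_mem _ (by simp)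
        simp only [Finset.image_insert, Finset.image_singleton, Finset.mem_insert, Finset.mem_singleton] at ha hb
        simp only [mul_smul, inv_smul_eq_iff]
        rcases ha with ha | ha <;> rcases hb with hb | hb
        · exact absurd (MulAction.injective g (ha.trans hb.symm)) hab
        · exact Or.inl ⟨ha, hb⟩
        · exact Or.inr ⟨ha, hb⟩
        · exact absurd (MulAction.injective g (ha.trans hb.symm)) hab
      have := hφ _ hstab (g⁻¹ • z)
      rw [mul_smul, smul_inv_smul] at this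
      exact this.symm
    let L : (Cfsg.permSumZero K G Ω).toSubmodule →ₗ[K] (Set.powersetCard Ω 2 → K) :=
      { toFun := fun v => fun P => ∑ z, φ ((t P)⁻¹ • z) * (v : Ω → K) z
        map_add' := fun v w => by funext P; simp [mul_add, Finset.sum_add_distrib]
        map_smul' := fun r v => by funext P; simp [Finset.mul_sum, mul_left_comm] }
    let f := LinearMap.intertwiningMap_of_isIntertwiningMap (ρ := (Cfsg.permSumZero K G Ω).toRepresentation)
      (σ := Cfsg.permRep K G (Set.powersetCard Ω 2)) L (fun g v => by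
        funext P
        show ∑ z, φ ((t P)⁻¹ • z) * (v : Ω → K) (g⁻¹ • z) =
          ∑ z, φ ((t (g⁻¹ • P))⁻¹ • z) * (v : Ω → K) z
        refine Fintype.sum_equiv (MulAction.toPerm g⁻¹) _ _ (fun z => ?_)
        simp only [MulAction.toPerm_apply]
        congr 1
        rw [key (t P) (g * t (g⁻¹ • P)) ?_ z, mul_inv_rev, mul_smul]
        rw [ht P]
        have : (({a, b} : Finset Ω).image ((g * t (g⁻¹ • P)) • ·)) =
            (((g⁻¹ • P : Set.powersetCard Ω 2)) : Finset Ω).image (g • ·) := by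
          rw [← ht (g⁻¹ • P), Finset.image_image]
          congr 1
          funext w
          exact mul_smul _ _ _
        rw [this, Set.powersetCard.coe_smul, Finset.smul_finset_def, Finset.image_image]
        simp [Function.comp_def])
    have hf : f = 0 := h f fun v hv => by
      funext P
      show ∑ z, φ ((t P)⁻¹ • z) * (v : Ω → K) z = 0
      have hv' : (v : Ω → K) ∈ Submodule.span K {fun _ : Ω => (1 : K)} := hv
      obtain ⟨r, hr⟩ := Submodule.mem_span_singleton.mp hv'
      rw [← hr]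
      simp only [Pi.smul_apply, smul_eq_mul, mul_one, ← Finset.sum_mul]
      rw [Fintype.sum_equiv (MulAction.toPerm (t P)⁻¹) (fun z => φ ((t P)⁻¹ • z)) φ (fun z => rfl), hsum,
        zero_mul]
    apply hxy
    obtain ⟨P⟩ : Nonempty (Set.powersetCard Ω 2) := ⟨⟨{a, b}, Finset.card_pair hab⟩⟩
    let v : Ω → K := fun z => (if z = t P • x then 1 else 0) - (if z = t P • y then 1 else 0)
    have hv : v ∈ (Cfsg.permSumZero K G Ω).toSubmodule := by
      show ∑ z, v z = 0
      simp [v, Finset.sum_sub_distrib]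
    have h0 : ∑ z, φ ((t P)⁻¹ • z) * v z = 0 := by
      have := congrArg (fun F : Representation.IntertwiningMap (Cfsg.permSumZero K G Ω).toRepresentation
        (Cfsg.permRep K G (Set.powersetCard Ω 2)) => F ⟨v, hv⟩ P) hf
      exact this
    simpa [v, mul_sub, Finset.sum_sub_distrib, sub_eq_zero] using h0
  -- an element fixing one point and exchanging two others
  rw [MulAction.isMultiplyPretransitive_iff]
  intro X Y
  by_contra hno
  push Not at hno
  let R : (Fin 3 ↪ Ω) → (Fin 3 ↪ Ω) → Prop := fun u v => ∃ g : G, g • u = v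
  have Rsymm : ∀ {u v}, R u v → R v u := fun {u v} ⟨g, hg⟩ => ⟨g⁻¹, by rw [← hg, inv_smul_smul]⟩
  have Rtrans : ∀ {u v w}, R u v → R v w → R u w := fun {u v w} ⟨g, hg⟩ ⟨k, hk⟩ =>
    ⟨k * g, by rw [mul_smul, hg, hk]⟩
  let P01 : (Fin 3 ↪ Ω) → (Fin 3 ↪ Ω) := fun u => (Equiv.swap (0 : Fin 3) 1).toEmbedding.trans u
  let P12 : (Fin 3 ↪ Ω) → (Fin 3 ↪ Ω) := fun u => (Equiv.swap (1 : Fin 3) 2).toEmbedding.trans u
  have e3 : ∀ {u v : Fin 3 ↪ Ω}, u 0 = v 0 → u 1 = v 1 → u 2 = v 2 → u = v := fun {u v} h0 h1 h2 => by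
    ext i; fin_cases i <;> assumption
  have ne3 : ∀ (u : Fin 3 ↪ Ω) {i j : Fin 3}, i ≠ j → u i ≠ u j := fun u i j hij => u.injective.ne hij
  have P01R : ∀ {u v}, R u v → R (P01 u) (P01 v) := fun {u v} ⟨g, hg⟩ => ⟨g, by
    subst hg; ext i; simp [P01]⟩
  have P12R : ∀ {u v}, R u v → R (P12 u) (P12 v) := fun {u v} ⟨g, hg⟩ => ⟨g, by
    subst hg; ext i; simp [P12]⟩
  have two : ∀ u v, R u v ∨ R (P01 u) v := by
    intro u v
    obtain ⟨g, hg0, hg1⟩ := h2' (ne3 u (by decide : (0 : Fin 3) ≠ 1)) (ne3 v (by decide : (0 : Fin 3) ≠ 1))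
    obtain ⟨s, hs, hs2⟩ := hset (v 0) (v 1) (g • u 2) (v 2) (ne3 v (by decide))
      (fun e => ne3 u (by decide : (2 : Fin 3) ≠ 0) (MulAction.injective g (e.trans hg0.symm)))
      (fun e => ne3 u (by decide : (2 : Fin 3) ≠ 1) (MulAction.injective g (e.trans hg1.symm)))
      (ne3 v (by decide)) (ne3 v (by decide))
    rcases hs with ⟨h0, h1⟩ | ⟨h0, h1⟩
    · exact Or.inl ⟨s * g, e3 (by simp [mul_smul, hg0, h0]) (by simp [mul_smul, hg1, h1])
        (by simp [mul_smul, hs2])⟩
    · exact Or.inr ⟨s * g, e3 (by simp [P01, mul_smul, hg1, h1]) (by simp [P01, mul_smul, hg0, h0])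
        (by simp [P01, mul_smul, hs2, Equiv.swap_apply_of_ne_of_ne])⟩
  have hs01 : ∀ u, ¬ R (P01 u) u := by
    intro u hu
    have key : R X Y := by
      rcases two u X with hX | hX <;> rcases two u Y with hY | hY
      · exact Rtrans (Rsymm hX) hY
      · exact Rtrans (Rsymm hX) (Rtrans (Rsymm hu) hY)
      · exact Rtrans (Rsymm hX) (Rtrans hu hY)
      · exact Rtrans (Rsymm hX) hY
    obtain ⟨g, hg⟩ := key
    exact hno g hg
  -- the involution of a point stabiliser
  obtain ⟨t, ht, hta⟩ : ∃ t : G, orderOf t = 2 ∧ t • X 0 = X 0 := by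
    have h2d : 2 ∣ Nat.card (MulAction.stabilizer G (X 0)) := even_iff_two_dvd.mp (heven (X 0))
    obtain ⟨t, ht⟩ := exists_prime_orderOf_dvd_card' 2 h2d
    exact ⟨t, by rw [Subgroup.orderOf_coe, ht], t.2⟩
  obtain ⟨b, hb⟩ : ∃ b, t • b ≠ b := by
    by_contra hall
    push Not at hall
    have : t = 1 := eq_of_smul_eq_smul (α := Ω) fun w => by rw [hall w, one_smul]
    rw [this, orderOf_one] at ht
    omega
  have hba : b ≠ X 0 := fun e => hb (by rw [e, hta])
  have htb : t • t • b = b := by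
    rw [smul_smul, ← pow_two, ← ht, pow_orderOf_eq_one, one_smul]
  have hinj : Function.Injective ![X 0, b, t • b] := by
    have h1 : t • b ≠ X 0 := fun e => hba (MulAction.injective t (e.trans hta.symm))
    intro i j hij
    fin_cases i <;> fin_cases j <;>
      first
      | rfl
      | exact absurd hij hba
      | exact absurd hij.symm hba
      | exact absurd hij h1
      | exact absurd hij.symm h1
      | exact absurd hij hb
      | exact absurd hij.symm hb
  let t₀ : Fin 3 ↪ Ω := ⟨![X 0, b, t • b], hinj⟩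
  have hr0 : R t₀ (P12 t₀) := ⟨t, e3 (by simp [t₀, P12, hta, Equiv.swap_apply_of_ne_of_ne])
    (by simp [t₀, P12]) (by simp [t₀, P12, htb])⟩
  have hr : ∀ u, R u (P12 u) := by
    intro u
    rcases two t₀ u with h1 | h1
    · exact Rtrans (Rsymm h1) (Rtrans hr0 (P12R h1))
    · rcases two t₀ (P12 (P01 t₀)) with h3 | h3
      · exfalso
        have h4 := P12R h3
        have h5 : P12 (P12 (P01 t₀)) = P01 t₀ := by ext i; simp [P12]
        rw [h5] at h4
        exact hs01 t₀ (Rtrans (Rsymm h4) (Rsymm hr0))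
      · exact Rtrans (Rsymm h1) (Rtrans h3 (P12R h1))
  -- the transposition (0 2) computed in two ways
  have hA : R (P01 (P12 (P01 t₀))) t₀ := by
    have := P01R (hr (P01 t₀))
    have h5 : P01 (P01 t₀) = t₀ := by ext i; simp [P01]
    rw [h5] at this
    exact Rsymm this
  have hB : R (P12 (P01 (P12 t₀))) (P01 t₀) := by
    exact Rtrans (Rsymm (hr _)) (Rsymm (P01R (hr t₀)))
  have hbraid : P01 (P12 (P01 t₀)) = P12 (P01 (P12 t₀)) := by
    ext i; fin_cases i <;> simp [P01, P12, Equiv.swap_apply_of_ne_of_ne]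
  rw [hbraid] at hA
  exact hs01 t₀ (Rtrans (Rsymm hB) hA)

end Cfsg.Agent.S0672
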