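import Cfsg.Statements.S0676
import Cfsg.Agent.Lib.SmallGroups.PrimeTransitiveSylow
import Cfsg.Agent.S0672
import Cfsg.Agent.S0675

set_option autoImplicit false
open Cfsg
open Pointwise

namespace Cfsg.Agent.S0676

/-- A non-solvable transitive permutation group of prime degree `p` whose Sylow `p`-normaliser has even order is triply transitive. -/
theorem result {α : Type*} [Fintype α] [DecidableEq α] {p : ℕ} [Fact p.Prime] (hα : Fintype.card α = p) (G : Subgroup (Equiv.Perm α)) [MulAction.IsPretransitive G α] (hG : ¬ Group.IsSolvable G) (P : Sylow p G) (heven : Even (Nat.card (Subgroup.normalizer ((P : Subgroup G) : Set G)))) : MulAction.IsMultiplyPretransitive G α 3 := by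
  classical
  open CfsgLib.SmallGroups CfsgLib.SmallGroups.PermModule in
  have hp : p.Prime := Fact.out
  have hcard : Fintype.card α = p := hα
  have h2 : MulAction.IsMultiplyPretransitive G α 2 :=
    (Cfsg.Agent.S0675.result (by rw [hα]; exact hp) G).resolve_left hG
  have hp2 : p ≠ 2 := by
    intro h
    obtain ⟨σ, hσG, hσ⟩ := CfsgLib.SmallGroups.exists_orderOf_eq_of_isPretransitive hα G
    apply hG
    refine CfsgLib.SmallGroups.isSolvable_normalizer hα hσ ?_
    have : Subgroup.zpowers σ = ⊤ := Subgroup.eq_top_of_card_eq _ (by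
      rw [Nat.card_zpowers, hσ, Nat.card_perm, Nat.card_eq_fintype_card, hα, h]; rfl)
    rw [this, Subgroup.normalizer_eq_top_iff.mpr inferInstance]
    exact le_top
  obtain ⟨σ, e, u, hσG, hσ, he, huG, hu⟩ := CfsgLib.SmallGroups.exists_negation hα hp2 G P heven
  have h2ne : (2 : ZMod p) ≠ 0 := by
    intro h
    have h3 := (ZMod.natCast_eq_zero_iff 2 p).mp (by exact_mod_cast h)
    exact hp2 ((Nat.prime_dvd_prime_iff_eq hp Nat.prime_two).mp h3)
  have huu : ∀ x, u (u x) = x := by
    intro x
    obtain ⟨j, rfl⟩ := e.surjective x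
    rw [hu, hu, neg_neg]
  have huinv : u⁻¹ = u := inv_eq_of_mul_eq_one_left (Equiv.ext huu)
  have hu1 : u ≠ 1 := by
    intro h
    have := hu 1
    rw [h, Equiv.Perm.one_apply, e.apply_eq_iff_eq] at this
    exact h2ne (by linear_combination this)
  refine Cfsg.Agent.S0672.result (K := ZMod p) (p := p) h2 (by rw [hα]) (fun x => ?_) ?_
  · -- stabilisers have even order
    have hi : ∀ y : α, (MulAction.stabilizer G y).index = p := fun y => by
      rw [MulAction.index_stabilizer_of_transitive, Nat.card_eq_fintype_card, hα]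
    have hord : orderOf (⟨⟨u, huG⟩, show u (e 0) = e 0 by rw [hu, neg_zero]⟩ :
        MulAction.stabilizer G (e 0)) = 2 := by
      rw [← Subgroup.orderOf_coe, ← Subgroup.orderOf_coe]
      exact orderOf_eq_prime (by rw [pow_two]; exact Equiv.ext huu) hu1
    have hev : 2 ∣ Nat.card (MulAction.stabilizer G (e 0)) := hord ▸ orderOf_dvd_natCard _
    have h1 := (MulAction.stabilizer G x).card_mul_index
    have h2 := (MulAction.stabilizer G (e 0)).card_mul_index
    rw [hi, ← h2, hi] at h1
    rw [even_iff_two_dvd, Nat.eq_of_mul_eq_mul_right hp.pos h1]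
    exact hev
  · intro f hf
    have hone : (fun _ : α => (1 : ZMod p)) ∈ (Cfsg.permSumZero (ZMod p) G α).toSubmodule := by
      show ∑ _x : α, (1 : ZMod p) = 0
      simp [hα]
    let W : Subrepresentation (Cfsg.permRep (ZMod p) G α) :=
      { toSubmodule :=
          { carrier := {v | ∃ hv : v ∈ (Cfsg.permSumZero (ZMod p) G α).toSubmodule, f ⟨v, hv⟩ = 0}
            add_mem' := by
              rintro a b ⟨ha, ha'⟩ ⟨hb, hb'⟩
              refine ⟨Submodule.add_mem _ ha hb, ?_⟩
              have := map_add f.toLinearMap ⟨a, ha⟩ ⟨b, hb⟩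
              exact this.trans (by rw [show f.toLinearMap ⟨a, ha⟩ = 0 from ha', show f.toLinearMap ⟨b, hb⟩ = 0 from hb', add_zero])
            zero_mem' := ⟨Submodule.zero_mem _, map_zero f.toLinearMap⟩
            smul_mem' := by
              rintro c a ⟨ha, ha'⟩
              refine ⟨Submodule.smul_mem _ c ha, ?_⟩
              have := map_smul f.toLinearMap c ⟨a, ha⟩
              exact this.trans (by rw [show f.toLinearMap ⟨a, ha⟩ = 0 from ha', smul_zero]) }
        apply_mem_toSubmodule := by
          rintro g v ⟨hv, hv'⟩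
          refine ⟨(Cfsg.permSumZero (ZMod p) G α).apply_mem_toSubmodule g hv, ?_⟩
          have := congrArg (fun L => L ⟨v, hv⟩) (f.isIntertwining' g)
          exact this.trans (by
            show Cfsg.permRep (ZMod p) G _ g (f ⟨v, hv⟩) = 0
            rw [hv', map_zero]) }
    have hC : (Cfsg.permConstants (ZMod p) G α).toSubmodule ≤ W.toSubmodule := by
      intro v hv
      have hv' : v ∈ (Cfsg.permSumZero (ZMod p) G α).toSubmodule := by
        obtain ⟨c, hc⟩ := CfsgLib.SmallGroups.PermModule.mem_constants.mp hv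
        show ∑ x, v x = 0
        simp [hc, hα]
      exact ⟨hv', hf ⟨v, hv'⟩ hv⟩
    rcases CfsgLib.SmallGroups.heart_irreducible hα G hG W hC (fun v hv => hv.1) with hW | hW
    · exfalso
      -- the linear function is killed by f
      have hp3 : 3 ≤ p := by have := hp.two_le; omega
      let v : α → ZMod p := fun x => e.symm x
      have hv : v ∈ (Cfsg.permSumZero (ZMod p) G α).toSubmodule := by
        show ∑ x, e.symm x = (0 : ZMod p)
        rw [Fintype.sum_equiv e.symm (fun x => e.symm x) (fun j : ZMod p => j ^ 1) (fun x => (pow_one _).symm)]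
        exact FiniteField.sum_pow_lt_card_sub_one (ZMod p) 1 (by rw [ZMod.card]; omega)
      set φ := f ⟨v, hv⟩ with hφ
      have hfeq : ∀ (g : G) (w : α → ZMod p) (hw : w ∈ (Cfsg.permSumZero (ZMod p) G α).toSubmodule),
          f ⟨Cfsg.permRep (ZMod p) G α g w, (Cfsg.permSumZero (ZMod p) G α).apply_mem_toSubmodule g hw⟩ =
            Cfsg.permRep (ZMod p) G _ g (f ⟨w, hw⟩) := fun g w hw =>
        congrArg (fun L => L ⟨w, hw⟩) (f.isIntertwining' g)
      have hφσ : Cfsg.permRep (ZMod p) G _ (⟨σ, hσG⟩ : G) φ = φ := by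
        rw [hφ, ← hfeq]
        have hd : Cfsg.permRep (ZMod p) G α ⟨σ, hσG⟩ v = v + (-1 : ZMod p) • (fun _ => (1 : ZMod p)) := by
          funext x
          obtain ⟨j, rfl⟩ := e.surjective x
          have h3 : σ⁻¹ (e j) = e (j - 1) := by
            rw [Equiv.Perm.inv_eq_iff_eq, he, sub_add_cancel]
          show e.symm (σ⁻¹ (e j)) = _
          simp [h3, v, sub_eq_add_neg]
        have e1 : (⟨Cfsg.permRep (ZMod p) G α ⟨σ, hσG⟩ v,
            (Cfsg.permSumZero (ZMod p) G α).apply_mem_toSubmodule _ hv⟩ :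
              (Cfsg.permSumZero (ZMod p) G α).toSubmodule) = ⟨v, hv⟩ + (-1 : ZMod p) • ⟨_, hone⟩ :=
          Subtype.ext hd
        rw [e1]
        show f.toLinearMap (_ + _) = _
        rw [map_add, map_smul, show f.toLinearMap ⟨_, hone⟩ = 0 from
          hf ⟨_, hone⟩ CfsgLib.SmallGroups.PermModule.one_mem_constants, smul_zero, add_zero]
        rfl
      have hφu : Cfsg.permRep (ZMod p) G _ (⟨u, huG⟩ : G) φ = -φ := by
        rw [hφ, ← hfeq]
        have hd : Cfsg.permRep (ZMod p) G α ⟨u, huG⟩ v = -v := by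
          funext x
          obtain ⟨j, rfl⟩ := e.surjective x
          show e.symm (u⁻¹ (e j)) = _
          simp [huinv, hu, v]
        have e1 : (⟨Cfsg.permRep (ZMod p) G α ⟨u, huG⟩ v,
            (Cfsg.permSumZero (ZMod p) G α).apply_mem_toSubmodule _ hv⟩ :
              (Cfsg.permSumZero (ZMod p) G α).toSubmodule) = -⟨v, hv⟩ := Subtype.ext hd
        rw [e1]
        exact map_neg f.toLinearMap _
      have hzero : φ = 0 := by
        funext Q
        obtain ⟨x, y, hxy, hQ⟩ := Finset.card_eq_two.mp Q.2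
        obtain ⟨i, rfl⟩ := e.surjective x
        obtain ⟨j, rfl⟩ := e.surjective y
        have hpow : ∀ (n : ℕ) (R : Set.powersetCard α 2),
            φ (((⟨σ, hσG⟩ : G) ^ n)⁻¹ • R) = φ R := by
          intro n
          induction n with
          | zero => simp
          | succ n ih =>
            intro R
            rw [pow_succ, mul_inv_rev, mul_smul]
            have h5 := congrFun hφσ (((⟨σ, hσG⟩ : G) ^ n)⁻¹ • R)
            change φ ((⟨σ, hσG⟩ : G)⁻¹ • (((⟨σ, hσG⟩ : G) ^ n)⁻¹ • R)) = φ _ at h5
            rw [h5, ih]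
        have hkey : (⟨u, huG⟩ : G)⁻¹ • Q = (((⟨σ, hσG⟩ : G) ^ (i + j).val)⁻¹) • Q := by
          rw [eq_inv_smul_iff, smul_smul]
          apply Subtype.ext
          show ((⟨σ, hσG⟩ : G) ^ (i + j).val * (⟨u, huG⟩ : G)⁻¹) • (Q : Finset α) = (Q : Finset α)
          rw [hQ, Finset.smul_finset_def, Finset.image_insert, Finset.image_singleton]
          have h6 : ∀ k, ((⟨σ, hσG⟩ : G) ^ (i + j).val * (⟨u, huG⟩ : G)⁻¹) • e k = e (i + j - k) := by
            intro k
            show (σ ^ (i + j).val) (u⁻¹ (e k)) = _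
            rw [huinv, hu, CfsgLib.SmallGroups.coord_zpow he, ZMod.natCast_zmod_val, neg_add_eq_sub]
          rw [h6, h6, add_sub_cancel_left, add_sub_cancel_right, Finset.pair_comm]
        have h4 := congrFun hφu Q
        change φ ((⟨u, huG⟩ : G)⁻¹ • Q) = -(φ Q) at h4
        rw [hkey, hpow] at h4
        have h8 : (2 : ZMod p) * φ Q = 0 := by linear_combination h4
        exact (mul_eq_zero.mp h8).resolve_left h2ne
      have hvW : v ∈ W.toSubmodule := ⟨hv, hzero⟩
      rw [hW] at hvW
      obtain ⟨c, hc⟩ := CfsgLib.SmallGroups.PermModule.mem_constants.mp hvW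
      have h9 := (hc (e 1)).trans (hc (e 0)).symm
      simp [v] at h9
    · refine Representation.IntertwiningMap.ext (LinearMap.ext fun w => ?_)
      have hw : (w : α → ZMod p) ∈ W.toSubmodule := by rw [hW]; exact w.2
      exact hw.2

end Cfsg.Agent.S0676
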