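import Cfsg.Statements.S4142
import Cfsg.Agent.Lib.FGS.Class

set_option autoImplicit false
open Cfsg

namespace Cfsg.Agent.S4142

/-- Let G be a finite group and N a normal subgroup. Then the conjugacy class of every element g outside N is a union of cosets of N (gn is conjugate to g for all n ∈ N) if and only if for every g outside N the centralizer of g in G has the same order as the centralizer of gN in G/N. -/
theorem result {G : Type*} [Group G] [Finite G] (N : Subgroup G) [N.Normal] :
    (∀ g : G, g ∉ N → ∀ n ∈ N, ∃ x : G, x * g * x⁻¹ = g * n) ↔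
      ∀ g : G, g ∉ N → Nat.card (Subgroup.centralizer ({g} : Set G)) =
        Nat.card (Subgroup.centralizer ({(QuotientGroup.mk g : G ⧸ N)} : Set (G ⧸ N))) := by
  classical
  have hcoset : ∀ g : G, ({x : G | (QuotientGroup.mk x : G ⧸ N) = QuotientGroup.mk g}) =
      (fun n => g * n) '' (N : Set G) := by
    intro g; ext x
    rw [Set.mem_ofPred_eq, eq_comm, QuotientGroup.eq]
    constructor
    · intro h; exact ⟨g⁻¹ * x, h, by simp⟩
    · rintro ⟨n, hn, rfl⟩; simpa using hn
  refine forall_congr' fun g => imp_congr_right fun hg => ?_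
  -- the preimage of the class of `gN` fibres over it with fibres of size `#N`
  let A : Set G := {x : G | IsConj g x}
  let B : Set G := (QuotientGroup.mk : G → G ⧸ N) ⁻¹' {y | IsConj (QuotientGroup.mk g) y}
  have hAB : A ⊆ B := fun x hx => (QuotientGroup.mk' N).map_isConj hx
  have hB : B.ncard = Nat.card N * {y : G ⧸ N | IsConj (QuotientGroup.mk g) y}.ncard := by
    rw [← Nat.card_coe_set_eq, ← Nat.card_coe_set_eq]
    exact QuotientGroup.card_preimage_mk N _
  have eG := (Subgroup.centralizer ({g} : Set G)).index_mul_card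
  have eQ := (Subgroup.centralizer ({(QuotientGroup.mk g : G ⧸ N)} : Set (G ⧸ N))).index_mul_card
  rw [CfsgLib.FGS.index_centralizer_eq_ncard] at eG eQ
  have eN := N.card_eq_card_quotient_mul_card_subgroup
  have hpos : 0 < Nat.card (Subgroup.centralizer ({g} : Set G)) := Nat.card_pos
  have hpos' : 0 < A.ncard := (Set.ncard_pos (Set.toFinite _)).2 ⟨g, IsConj.refl g⟩
  constructor
  · intro h
    have hBA : B ⊆ A := by
      intro x hx
      obtain ⟨y, hy⟩ := isConj_iff.1 hx
      induction y using QuotientGroup.induction_on with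
      | _ y =>
        rw [← QuotientGroup.mk_inv, ← QuotientGroup.mk_mul, ← QuotientGroup.mk_mul] at hy
        obtain ⟨n, hn, hxn⟩ : x ∈ (fun n => (y * g * y⁻¹) * n) '' (N : Set G) := by
          rw [← hcoset]; exact hy.symm
        obtain ⟨z, hz⟩ := h (y⁻¹ * n * y) (by simpa using Subgroup.Normal.conj_mem ‹_› n hn y⁻¹)
        show IsConj g x
        rw [isConj_iff]
        refine ⟨y * z, ?_⟩
        rw [← hxn]
        show y * z * g * (y * z)⁻¹ = y * g * y⁻¹ * n
        calc y * z * g * (y * z)⁻¹ = y * (z * g * z⁻¹) * y⁻¹ := by group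
          _ = _ := by rw [hz]; group
    have hEq : A.ncard = B.ncard := congrArg Set.ncard (Set.Subset.antisymm hAB hBA)
    rw [hB] at hEq
    change A.ncard * _ = _ at eG
    rw [eN, ← eQ] at eG
    refine Nat.eq_of_mul_eq_mul_left hpos' ?_
    rw [eG]
    rw [hEq]; ring
  · intro h n hn
    change A.ncard * _ = _ at eG
    rw [eN, ← eQ, h] at eG
    have hEq : A.ncard = B.ncard := by
      rw [hB]
      refine Nat.eq_of_mul_eq_mul_right (h ▸ hpos) ?_
      rw [eG]; ring
    have hAB' : A = B := Set.eq_of_subset_of_ncard_le hAB hEq.ge (Set.toFinite _)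
    have : g * n ∈ A := by
      rw [hAB']
      show IsConj (QuotientGroup.mk g : G ⧸ N) (QuotientGroup.mk (g * n))
      rw [QuotientGroup.mk_mul, (QuotientGroup.eq_one_iff n).2 hn, mul_one]
    obtain ⟨x, hx⟩ := isConj_iff.1 this
    exact ⟨x, hx⟩

end Cfsg.Agent.S4142
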