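import Cfsg.Statements.S0713
import Cfsg.Agent.Lib.SmallGroups.Perm
import Mathlib

set_option autoImplicit false
open Cfsg
open Pointwise

namespace Cfsg.Agent.S0713

/-- Jordan's Theorem: a primitive permutation group of degree `n ≥ 5` containing a `p`-cycle for a prime `p ≤ n - 3` contains the alternating group. -/
theorem result {α : Type*} [Fintype α] [DecidableEq α] (G : Subgroup (Equiv.Perm α)) (hG : MulAction.IsPreprimitive G α) {p : ℕ} (hp : p.Prime) (hn : 5 ≤ Fintype.card α) (hpn : p + 3 ≤ Fintype.card α) {g : Equiv.Perm α} (hgc : g.IsCycle) (hgp : g.support.card = p) (hg : g ∈ G) : alternatingGroup α ≤ G := by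
  classical
  haveI : Fact p.Prime := ⟨hp⟩
  have hcard : Nat.card α = Fintype.card α := Nat.card_eq_fintype_card
  set Γ : Finset α := g.supportᶜ with hΓ
  have hΓcard : Γ.card = Fintype.card α - p := by rw [hΓ, Finset.card_compl, hgp]
  -- multiple transitivity
  have hmt : MulAction.IsMultiplyPretransitive G α Γ.card := by
    haveI := Equiv.Perm.isPretransitive_of_isCycle_mem hgc hg
    have hprim : MulAction.IsPreprimitive (fixingSubgroup G (g.support : Set α)ᶜ)
        (SubMulAction.ofFixingSubgroup G (g.support : Set α)ᶜ) := by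
      apply MulAction.IsPreprimitive.of_prime_card
      convert hp using 1
      rw [Nat.card_eq_fintype_card, Fintype.card_subtype, ← hgp]
      apply congr_arg
      ext x
      simp [SubMulAction.mem_ofFixingSubgroup_iff]
    have hnc : ((g.support : Set α)ᶜ).ncard = Fintype.card α - p := by
      rw [← Finset.coe_compl, Set.ncard_coe_finset, ← hΓ, hΓcard]
    haveI := hG.isMultiplyPreprimitive (s := (g.support : Set α)ᶜ) (n := Fintype.card α - p - 1)
      (by rw [hnc]; omega) (by rw [hcard]; have := hp.two_le; omega) hprim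
    haveI : MulAction.IsMultiplyPretransitive G α (Fintype.card α - p - 1 + 2) :=
      MulAction.IsMultiplyPreprimitive.isMultiplyPretransitive ..
    exact MulAction.isMultiplyPretransitive_of_le (n := Fintype.card α - p - 1 + 2)
      (by omega) (by rw [hcard]; have := hp.two_le; omega)
  -- the elements of G fixing Γ pointwise form a group with Sylow subgroup ⟨g⟩
  let F : Subgroup G := fixingSubgroup G (Γ : Set α)
  have hgF : (⟨g, hg⟩ : G) ∈ F := (mem_fixingSubgroup_iff G).mpr fun y hy => by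
    have : y ∈ g.supportᶜ := hy
    simpa using this
  set g' : F := ⟨⟨g, hg⟩, hgF⟩ with hg'
  have hmaps : ∀ (h : F) (x : α), x ∈ g.support → ((h : G) : Equiv.Perm α) x ∈ g.support := by
    intro h x hx
    by_contra hn
    have h1 : ((h : G) : Equiv.Perm α) (((h : G) : Equiv.Perm α) x) = ((h : G) : Equiv.Perm α) x :=
      (mem_fixingSubgroup_iff G).mp h.2 _ (by simpa [hΓ] using hn)
    rw [EmbeddingLike.apply_eq_iff_eq] at h1
    exact hn (h1.symm ▸ hx)
  have hFcard : Nat.card F ∣ p.factorial := by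
    let r : F →* Equiv.Perm {x // x ∈ g.support} :=
      { toFun := fun h =>
          { toFun := fun x => ⟨((h : G) : Equiv.Perm α) x, hmaps h x x.2⟩
            invFun := fun x => ⟨(((h⁻¹ : F) : G) : Equiv.Perm α) x, hmaps h⁻¹ x x.2⟩
            left_inv := fun x => Subtype.ext (by simp)
            right_inv := fun x => Subtype.ext (by simp) }
        map_one' := by ext x; rfl
        map_mul' := fun a b => by ext x; rfl }
    have hr : Function.Injective r := by
      intro a b hab
      refine Subtype.ext (Subtype.ext (Equiv.ext fun x => ?_))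
      by_cases hx : x ∈ g.support
      · exact congrArg Subtype.val (congrArg (fun σ : Equiv.Perm {x // x ∈ g.support} => σ ⟨x, hx⟩) hab)
      · have hxΓ : x ∈ (Γ : Set α) := by simpa [hΓ] using hx
        exact ((mem_fixingSubgroup_iff G).mp a.2 x hxΓ).trans ((mem_fixingSubgroup_iff G).mp b.2 x hxΓ).symm
    have := Subgroup.card_dvd_of_injective r hr
    rwa [Nat.card_perm, Nat.card_eq_fintype_card (α := {x // x ∈ g.support}), Fintype.card_coe, hgp] at this
  have hog : orderOf g' = p := by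
    rw [← Subgroup.orderOf_coe, ← Subgroup.orderOf_coe]
    show orderOf g = p
    rw [hgc.orderOf, hgp]
  have hPcard : Nat.card (Subgroup.zpowers g') = p := by rw [Nat.card_zpowers, hog]
  have hPsyl : Nat.card (Subgroup.zpowers g') = p ^ (Nat.card F).factorization p := by
    rw [hPcard]
    have hle := (Nat.factorization_le_iff_dvd Nat.card_pos.ne' (Nat.factorial_ne_zero p)).mpr hFcard p
    have hpf : p.factorial.factorization p = 1 := by
      have hnd : ¬ p ∣ (p - 1).factorial := by rw [hp.dvd_factorial]; have := hp.two_le; omega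
      rw [← Nat.mul_factorial_pred hp.ne_zero, Nat.factorization_mul hp.ne_zero (Nat.factorial_ne_zero _),
        Finsupp.add_apply, hp.factorization_self, Nat.factorization_eq_zero_of_not_dvd hnd]
    have hge : 1 ≤ (Nat.card F).factorization p := by
      rw [← hp.dvd_iff_one_le_factorization Nat.card_pos.ne']
      exact hog ▸ orderOf_dvd_natCard g'
    rw [show (Nat.card F).factorization p = 1 by omega, pow_one]
  let P : Sylow p F := Sylow.ofCard (Subgroup.zpowers g') hPsyl
  -- lifting permutations of Γ to elements normalising ⟨g⟩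
  have lift : ∀ f : α → α, Set.InjOn f (Γ : Set α) → (∀ y ∈ Γ, f y ∈ Γ) →
      ∃ x ∈ G, (∀ y ∈ Γ, x y = f y) ∧ ∃ i : ℤ, x * g * x⁻¹ = g ^ i := by
    intro f hf hfΓ
    obtain ⟨x, hxG, hx⟩ := CfsgLib.SmallGroups.exists_mem_eq_on_finset hmt
      (by rw [hΓcard]; omega) Γ le_rfl f hf
    have hΓinv : ∀ y ∈ Γ, x⁻¹ y ∈ Γ := by
      intro y hy
      have hb : Set.BijOn f (Γ : Set α) (Γ : Set α) :=
        ⟨hfΓ, hf, (Finset.surjOn_of_injOn_of_card_le f hfΓ hf le_rfl)⟩
      obtain ⟨z, hz, hzy⟩ := hb.surjOn hy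
      have : x⁻¹ y = z := by rw [← hzy, ← hx z hz]; exact x.symm_apply_apply z
      rw [this]; exact hz
    have hmemF : ∀ q : F, (⟨x, hxG⟩ : G) * q * (⟨x, hxG⟩ : G)⁻¹ ∈ F := fun q => by
      refine (mem_fixingSubgroup_iff G).mpr fun y hy => ?_
      show x (((q : G) : Equiv.Perm α) (x⁻¹ y)) = y
      rw [show ((q : G) : Equiv.Perm α) (x⁻¹ y) = x⁻¹ y from
        (mem_fixingSubgroup_iff G).mp q.2 _ (hΓinv y hy)]
      exact x.apply_symm_apply y
    set c : F := ⟨_, hmemF g'⟩ with hc
    have hoc : orderOf c = p := by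
      rw [← Subgroup.orderOf_coe, hc]
      show orderOf ((⟨x, hxG⟩ : G) * (g' : G) * (⟨x, hxG⟩ : G)⁻¹) = p
      rw [← MulAut.conj_apply, MulEquiv.orderOf_eq, Subgroup.orderOf_coe, hog]
    let Q : Sylow p F := Sylow.ofCard (Subgroup.zpowers c)
      (by rw [Nat.card_zpowers, hoc, ← hPsyl, hPcard])
    obtain ⟨k, hk⟩ := MulAction.exists_smul_eq F Q P
    have hkc : k * c * k⁻¹ ∈ Subgroup.zpowers g' := by
      have h1 : MulAut.conj k • (Q : Subgroup F) = (P : Subgroup F) := by
        rw [← Sylow.coe_subgroup_smul]; exact congrArg (fun S : Sylow p F => (S : Subgroup F)) hk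
      have h2 : MulAut.conj k • c ∈ MulAut.conj k • (Q : Subgroup F) :=
        Subgroup.smul_mem_pointwise_smul _ _ _ (Subgroup.mem_zpowers c)
      rw [h1] at h2
      exact h2
    obtain ⟨i, hi⟩ := Subgroup.mem_zpowers_iff.mp hkc
    refine ⟨((k : G) : Equiv.Perm α) * x, mul_mem k.1.2 hxG, fun y hy => ?_, i, ?_⟩
    · rw [Equiv.Perm.mul_apply, hx y hy]
      exact (mem_fixingSubgroup_iff G).mp k.2 _ (hfΓ y hy)
    · have h := congrArg (fun q : F => ((q : G) : Equiv.Perm α)) hi
      simp only [hc, hg', SubgroupClass.coe_zpow, Subgroup.coe_mul, Subgroup.coe_inv] at h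
      rw [h]; group
  obtain ⟨a, b, c, hab, hac, hbc, haΓ, hbΓ, hcΓ⟩ : ∃ a b c : α, a ≠ b ∧ a ≠ c ∧ b ≠ c ∧
      a ∈ Γ ∧ b ∈ Γ ∧ c ∈ Γ := by
    obtain ⟨t, ht, htc⟩ := Finset.exists_subset_card_eq (s := Γ) (n := 3) (by omega)
    obtain ⟨a, b, c, hab, hac, hbc, rfl⟩ := Finset.card_eq_three.mp htc
    exact ⟨a, b, c, hab, hac, hbc, ht (by simp), ht (by simp), ht (by simp)⟩
  set s := Equiv.swap a b with hs
  set t := Equiv.swap b c with ht
  have hsΓ : ∀ y ∈ Γ, s y ∈ Γ := fun y hy => by
    rw [hs, Equiv.swap_apply_def]; split_ifs <;> assumption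
  have htΓ : ∀ y ∈ Γ, t y ∈ Γ := fun y hy => by
    rw [ht, Equiv.swap_apply_def]; split_ifs <;> assumption
  obtain ⟨x, hxG, hx, i, hxi⟩ := lift s s.injective.injOn hsΓ
  obtain ⟨y, hyG, hy, j, hyj⟩ := lift t t.injective.injOn htΓ
  set h := x * y * x⁻¹ * y⁻¹ with hh
  have hhG : h ∈ G := mul_mem (mul_mem (mul_mem hxG hyG) (inv_mem hxG)) (inv_mem hyG)
  have hcomm : h * g = g * h := by
    have e1 : ∀ n : ℤ, x * g ^ n * x⁻¹ = g ^ (i * n) := fun n => by
      rw [← conj_zpow, hxi, ← zpow_mul]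
    have e2 : ∀ n : ℤ, y * g ^ n * y⁻¹ = g ^ (j * n) := fun n => by
      rw [← conj_zpow, hyj, ← zpow_mul]
    have e3 : x * y * g * (x * y)⁻¹ = y * x * g * (y * x)⁻¹ := by
      calc x * y * g * (x * y)⁻¹ = x * (y * g * y⁻¹) * x⁻¹ := by group
        _ = y * (x * g * x⁻¹) * y⁻¹ := by rw [hyj, hxi, e1, e2, mul_comm]
        _ = y * x * g * (y * x)⁻¹ := by group
    have e4 : h * g * h⁻¹ = g := by
      have hyx : h = (x * y) * (y * x)⁻¹ := by rw [hh]; group
      have e5 : h * (y * x * g * (y * x)⁻¹) * h⁻¹ = x * y * g * (x * y)⁻¹ := by rw [hyx]; group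
      rw [← e3] at e5
      have e6 : h * g ^ (i * j) * h⁻¹ = g ^ (i * j) := by
        have : x * y * g * (x * y)⁻¹ = g ^ (i * j) := by
          calc x * y * g * (x * y)⁻¹ = x * (y * g * y⁻¹) * x⁻¹ := by group
            _ = g ^ (i * j) := by rw [hyj, e1]
        rwa [this] at e5
      -- g ^ (i * j) generates the same group as g
      have hne : g ^ (i * j) ≠ 1 := by
        intro hone
        have : x * y * g * (x * y)⁻¹ = 1 := by
          rw [show x * y * g * (x * y)⁻¹ = x * (y * g * y⁻¹) * x⁻¹ by group, hyj, e1, hone]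
        rw [conj_eq_one_iff] at this
        exact hgc.ne_one this
      have hgen : g ∈ Subgroup.zpowers (g ^ (i * j)) := by
        have hle : Subgroup.zpowers (g ^ (i * j)) ≤ Subgroup.zpowers g :=
          Subgroup.zpowers_le.mpr (Subgroup.zpow_mem _ (Subgroup.mem_zpowers g) _)
        have hpc : Nat.card (Subgroup.zpowers g) = p := by rw [Nat.card_zpowers, hgc.orderOf, hgp]
        have hd := Subgroup.card_dvd_of_le hle
        rw [hpc] at hd
        have hn1 : Nat.card (Subgroup.zpowers (g ^ (i * j))) ≠ 1 := by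
          rw [Nat.card_zpowers, Ne, orderOf_eq_one_iff]; exact hne
        have := ((Nat.dvd_prime hp).mp hd).resolve_left hn1
        rw [Subgroup.eq_of_le_of_card_ge hle (by rw [this, hpc])]
        exact Subgroup.mem_zpowers g
      obtain ⟨n, hn⟩ := Subgroup.mem_zpowers_iff.mp hgen
      conv_lhs => rw [← hn, ← conj_zpow, e6, hn]
    calc h * g = (h * g * h⁻¹) * h := by group
      _ = g * h := by rw [e4]
  have hinvΓ : ∀ (u : Equiv.Perm α) (σ : Equiv.Perm α), (∀ z ∈ Γ, u z = σ z) → (∀ z ∈ Γ, σ z ∈ Γ) →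
      σ * σ = 1 → ∀ z ∈ Γ, u⁻¹ z = σ z := by
    intro u σ hu hσ h2 z hz
    rw [Equiv.Perm.inv_eq_iff_eq, hu _ (hσ z hz)]
    exact (congrArg (fun τ : Equiv.Perm α => τ z) h2).symm
  set π := s * t * s * t with hπ
  have hπΓ : ∀ z ∈ Γ, h z = π z := by
    intro z hz
    rw [hh, hπ]
    simp only [Equiv.Perm.mul_apply]
    rw [hinvΓ y t hy htΓ (Equiv.swap_mul_self _ _) z hz,
      hinvΓ x s hx hsΓ (Equiv.swap_mul_self _ _) _ (htΓ z hz), hy _ (hsΓ _ (htΓ z hz)),
      hx _ (htΓ _ (hsΓ _ (htΓ z hz)))]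
  have hπS : ∀ z, z ∉ Γ → π z = z := by
    intro z hz
    have hza : z ≠ a := fun e => hz (e ▸ haΓ)
    have hzb : z ≠ b := fun e => hz (e ▸ hbΓ)
    have hzc : z ≠ c := fun e => hz (e ▸ hcΓ)
    simp [hπ, hs, ht, Equiv.swap_apply_of_ne_of_ne, hza, hzb, hzc]
  -- h agrees with a power of g on the support
  obtain ⟨z₀, hz₀⟩ : ∃ z₀, z₀ ∈ g.support := Finset.card_pos.mp (hgp ▸ hp.pos)
  have hhs : h z₀ ∈ g.support := by
    rw [Equiv.Perm.mem_support] at hz₀ ⊢
    intro e
    apply hz₀
    have := congrArg (fun τ : Equiv.Perm α => τ z₀) hcomm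
    simp only [Equiv.Perm.mul_apply] at this
    exact h.injective (this.trans e)
  obtain ⟨m, hm⟩ := hgc.exists_zpow_eq (Equiv.Perm.mem_support.mp hz₀) (Equiv.Perm.mem_support.mp hhs)
  have hsupp : ∀ z ∈ g.support, h z = (g ^ m) z := by
    intro z hz
    obtain ⟨n, rfl⟩ := hgc.exists_zpow_eq (Equiv.Perm.mem_support.mp hz₀) (Equiv.Perm.mem_support.mp hz)
    have hc' : h * g ^ n = g ^ n * h := (Commute.zpow_right hcomm n).eq
    calc h ((g ^ n) z₀) = (h * g ^ n) z₀ := rfl
      _ = (g ^ n) (h z₀) := by rw [hc']; rfl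
      _ = (g ^ m) ((g ^ n) z₀) := by
        rw [← hm, ← Equiv.Perm.mul_apply, ← Equiv.Perm.mul_apply, ← zpow_add, ← zpow_add, add_comm]
  have heq : (g ^ m)⁻¹ * h = π := by
    ext z
    rw [Equiv.Perm.mul_apply]
    by_cases hz : z ∈ g.support
    · rw [hsupp z hz, hπS z (by simpa [hΓ] using hz)]
      exact (g ^ m).symm_apply_apply z
    · have hzΓ : z ∈ Γ := by simpa [hΓ] using hz
      rw [hπΓ z hzΓ, ← zpow_neg]
      refine Equiv.Perm.notMem_support.mp fun hmem => ?_
      have hπz : π z ∈ Γ := by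
        simp only [hπ, Equiv.Perm.mul_apply]
        exact hsΓ _ (htΓ _ (hsΓ _ (htΓ _ hzΓ)))
      have := Equiv.Perm.support_zpow_le g (-m) hmem
      rw [hΓ, Finset.mem_compl] at hπz
      exact hπz this
  have hπG : π ∈ G := heq ▸ mul_mem (inv_mem (zpow_mem hg m)) hhG
  have h3 : π.IsThreeCycle := by
    have h3' : (s * t).IsThreeCycle := by
      rw [hs, ht, Equiv.swap_comm a b]
      exact Equiv.Perm.isThreeCycle_swap_mul_swap_same hab.symm hbc hac
    rw [hπ, mul_assoc]
    exact h3'.isThreeCycle_sq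
  exact Equiv.Perm.alternatingGroup_le_of_isPreprimitive_of_isThreeCycle_mem hG h3 hπG

end Cfsg.Agent.S0713
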