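import Cfsg.Statements.S3972
import Cfsg.Agent.Lib.FGS.SchurCyclic

set_option autoImplicit false
open Cfsg

namespace Cfsg.Agent.S3972

/-- Let `p` be a prime, `m ≥ 2`, and `G` a transitive but not doubly transitive permutation group on `p ^ m` points containing a permutation of order `p ^ m` (necessarily a full cycle). Then `G` is imprimitive, and the normal closure in `G` of the `p ^ (m - 1)`-th power of that permutation is an intransitive normal subgroup. -/
theorem result {Ω : Type*} [Fintype Ω] [DecidableEq Ω] (p m : ℕ) (hp : p.Prime) (hm : 2 ≤ m) (hΩ : Fintype.card Ω = p ^ m) (G : Subgroup (Equiv.Perm Ω)) (htr : MulAction.IsPretransitive G Ω) (h2 : ¬ MulAction.IsMultiplyPretransitive G Ω 2) (g : G) (hg : orderOf g = p ^ m) : ¬ MulAction.IsPreprimitive G Ω ∧ ¬ MulAction.IsPretransitive (Subgroup.normalClosure ({g ^ (p ^ (m - 1))} : Set G)) Ω := by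
  classical
  haveI : Fact p.Prime := ⟨hp⟩
  haveI : NeZero (p ^ m) := ⟨pow_ne_zero _ hp.ne_zero⟩
  set γ : Equiv.Perm Ω := (g : Equiv.Perm Ω) with hγ
  have hγo : orderOf γ = p ^ m := by rw [hγ, Subgroup.orderOf_coe]; exact hg
  have hlt : p ^ (m - 1) < p ^ m := Nat.pow_lt_pow_right hp.one_lt (by omega)
  have hγ1 : γ ^ (p ^ (m - 1)) ≠ 1 :=
    pow_ne_one_of_lt_orderOf (pow_pos hp.pos _).ne' (hγo ▸ hlt)
  obtain ⟨ω0, hω0⟩ : ∃ ω, (γ ^ (p ^ (m - 1))) ω ≠ ω := by
    by_contra h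
    push Not at h
    exact hγ1 (Equiv.ext h)
  have hper : MulAction.period γ ω0 = p ^ m := by
    have hd : MulAction.period γ ω0 ∣ p ^ m := hγo ▸ MulAction.period_dvd_orderOf γ ω0
    obtain ⟨k, hk, hk'⟩ := (Nat.dvd_prime_pow hp).1 hd
    rcases eq_or_lt_of_le hk with rfl | hk2
    · exact hk'
    · exfalso
      refine hω0 ((MulAction.pow_smul_eq_iff_period_dvd (m := γ) (a := ω0) (n := p ^ (m - 1))).2 ?_)
      rw [hk']; exact pow_dvd_pow p (by omega)
  let φ : ZMod (p ^ m) → Ω := fun i => (γ ^ i.val) ω0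
  have hφ : ∀ k : ℕ, φ (k : ZMod (p ^ m)) = (γ ^ k) ω0 := by
    intro k
    simp only [φ, ZMod.val_natCast]
    rw [← hγo, pow_mod_orderOf]
  have hinj : Function.Injective φ := by
    intro a b hab
    wlog hle : a.val ≤ b.val generalizing a b
    · exact (this hab.symm (le_of_not_ge hle)).symm
    apply ZMod.val_injective
    have h1 : (γ ^ a.val) ((γ ^ (b.val - a.val)) ω0) = (γ ^ a.val) ω0 := by
      rw [← Equiv.Perm.mul_apply, ← pow_add, Nat.add_sub_cancel' hle]; exact hab.symm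
    have h2 := (γ ^ a.val).injective h1
    have h3 : MulAction.period γ ω0 ∣ b.val - a.val :=
      MulAction.pow_smul_eq_iff_period_dvd.1 h2
    rw [hper] at h3
    have := b.val_lt
    have := Nat.eq_zero_of_dvd_of_lt h3 (by omega)
    omega
  have hbij : Function.Bijective φ :=
    (Fintype.bijective_iff_injective_and_card φ).2 ⟨hinj, by rw [ZMod.card, hΩ]⟩
  let e : Ω ≃ ZMod (p ^ m) := (Equiv.ofBijective φ hbij).symm
  have hes : ∀ i, e.symm i = φ i := fun i => rfl
  let Φ : ↥G →* Equiv.Perm (ZMod (p ^ m)) := (e.permCongrHom.toMonoidHom).comp G.subtype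
  have hΦ : ∀ (h : ↥G) (i : ZMod (p ^ m)), Φ h i = e ((h : Equiv.Perm Ω) (φ i)) := fun h i => rfl
  let Γ : Subgroup (Equiv.Perm (ZMod (p ^ m))) := Φ.range
  have htrans : ∀ a : ZMod (p ^ m), Φ (g ^ a.val) = Equiv.addRight a := by
    intro a
    ext i
    rw [hΦ, Subgroup.coe_pow, ← hγ, Equiv.coe_addRight]
    apply e.symm.injective
    rw [Equiv.symm_apply_apply, hes]
    have h1 := hφ (a.val + i.val)
    rw [Nat.cast_add, ZMod.natCast_zmod_val, ZMod.natCast_zmod_val, add_comm] at h1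
    rw [h1, pow_add]; rfl
  have htrΓ : ∀ a : ZMod (p ^ m), Equiv.addRight a ∈ Γ := fun a => ⟨g ^ a.val, htrans a⟩
  have h2' : ∃ x y : ZMod (p ^ m), x ≠ 0 ∧ y ≠ 0 ∧ y ∉ Cfsg.Agent.SchurCyclic.orb Γ x := by
    by_contra hall
    push Not at hall
    apply h2
    rw [MulAction.is_two_pretransitive_iff]
    intro a b c d hab hcd
    obtain ⟨h, ⟨k, rfl⟩, i, hi⟩ := hall (e b - e a) (e d - e c)
      (sub_ne_zero.2 fun h => hab (e.injective h.symm))
      (sub_ne_zero.2 fun h => hcd (e.injective h.symm))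
    refine ⟨g ^ (e c - Φ k i).val * k * g ^ (i - e a).val, ?_, ?_⟩
    · apply e.injective
      have := hΦ (g ^ (e c - Φ k i).val * k * g ^ (i - e a).val) (e a)
      rw [map_mul, map_mul, htrans, htrans] at this
      rw [show φ (e a) = a from e.symm_apply_apply a] at this
      refine this.symm.trans ?_
      simp [Equiv.Perm.mul_apply]
    · apply e.injective
      have := hΦ (g ^ (e c - Φ k i).val * k * g ^ (i - e a).val) (e b)
      rw [map_mul, map_mul, htrans, htrans] at this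
      rw [show φ (e b) = b from e.symm_apply_apply b] at this
      refine this.symm.trans ?_
      simp only [Equiv.Perm.mul_apply, Equiv.coe_addRight]
      rw [show e b + (i - e a) = i + (e b - e a) by abel]
      linear_combination hi
  obtain ⟨L, hLb, hLt, hL⟩ :=
    Cfsg.Agent.SchurCyclic.exists_invariant_subgroup hm Γ htrΓ h2'
  have huL : ((p ^ (m - 1) : ℕ) : ZMod (p ^ m)) ∈ L := by
    obtain ⟨x, hx, hx0⟩ := (L.bot_or_exists_ne_zero).resolve_left hLb
    have hv0 : x.val ≠ 0 := by rwa [Ne, ZMod.val_eq_zero]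
    obtain ⟨s, w, hwp, hsw⟩ := Nat.exists_eq_pow_mul_and_not_dvd hv0 p hp.ne_one
    have hs : s < m := by
      have h1 : p ^ s ≤ x.val := by
        rw [hsw]; exact Nat.le_mul_of_pos_right _ (Nat.pos_of_ne_zero fun h => hwp (h ▸ dvd_zero p))
      exact (Nat.pow_lt_pow_iff_right hp.one_lt).1 (h1.trans_lt x.val_lt)
    have hwu : IsUnit ((w : ℕ) : ZMod (p ^ m)) :=
      (ZMod.isUnit_iff_coprime w _).2 ((Nat.Coprime.pow_left m ((hp.coprime_iff_not_dvd).2 hwp)).symm)
    obtain ⟨v, hv⟩ := hwu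
    have hmem := L.nsmul_mem hx (p ^ (m - 1 - s) * (↑v⁻¹ : ZMod (p ^ m)).val)
    convert hmem using 1
    have hx' : x = ((p ^ s * w : ℕ) : ZMod (p ^ m)) := by rw [← hsw, ZMod.natCast_zmod_val]
    rw [nsmul_eq_mul, hx']
    push_cast
    rw [ZMod.natCast_zmod_val, ← hv]
    have : (p : ZMod (p ^ m)) ^ (m - 1 - s) * (p : ZMod (p ^ m)) ^ s = (p : ZMod (p ^ m)) ^ (m - 1) := by
      rw [← pow_add, Nat.sub_add_cancel (by omega)]
    calc (p : ZMod (p ^ m)) ^ (m - 1)
        = ((p : ZMod (p ^ m)) ^ (m - 1 - s) * (p : ZMod (p ^ m)) ^ s) * (↑v⁻¹ * ↑v) := by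
          rw [this, Units.inv_mul, mul_one]
      _ = _ := by ring
  let K : Subgroup ↥G :=
    { carrier := {h | ∀ i, Φ h i - i ∈ L}
      one_mem' := fun i => by simp
      mul_mem' := fun {a b} ha hb i => by
        have h1 := add_mem (ha (Φ b i)) (hb i)
        rw [sub_add_sub_cancel] at h1
        rwa [map_mul]
      inv_mem' := fun {a} ha i => by
        have h1 := neg_mem (ha (Φ a⁻¹ i))
        rwa [← Equiv.Perm.mul_apply, ← map_mul, mul_inv_cancel, map_one, Equiv.Perm.one_apply,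
          neg_sub] at h1 }
  haveI hKn : K.Normal := ⟨fun k hk a i => by
    have h1 := hL (Φ a) ⟨a, rfl⟩ (Φ a⁻¹ i) (Φ k (Φ a⁻¹ i)) (hk (Φ a⁻¹ i))
    have h2 : Φ a (Φ a⁻¹ i) = i := by
      rw [← Equiv.Perm.mul_apply, ← map_mul, mul_inv_cancel, map_one, Equiv.Perm.one_apply]
    rw [h2] at h1
    simpa only [map_mul, Equiv.Perm.mul_apply] using h1⟩
  have hgK : g ^ (p ^ (m - 1)) ∈ K := by
    intro i
    have h1 := htrans ((p ^ (m - 1) : ℕ) : ZMod (p ^ m))
    rw [ZMod.val_natCast, Nat.mod_eq_of_lt hlt] at h1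
    rw [h1]
    simpa using huL
  have hN : Subgroup.normalClosure ({g ^ (p ^ (m - 1))} : Set G) ≤ K :=
    Subgroup.normalClosure_le_normal (Set.singleton_subset_iff.2 hgK)
  have hint : ¬ MulAction.IsPretransitive (Subgroup.normalClosure ({g ^ (p ^ (m - 1))} : Set G)) Ω := by
    intro hNt
    apply hLt
    rw [eq_top_iff]
    intro z _
    obtain ⟨k, hk⟩ := hNt.exists_smul_eq (φ 0) (φ z)
    have h1 := hN k.2 0
    rw [hΦ] at h1
    have h2 : ((k : ↥G) : Equiv.Perm Ω) (φ 0) = φ z := hk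
    rw [h2, show e (φ z) = z from e.apply_symm_apply z, sub_zero] at h1
    exact h1
  refine ⟨fun hprim => hint ?_, hint⟩
  refine MulAction.IsQuasiPreprimitive.isPretransitive_of_normal (G := ↥G) (X := Ω) ?_
  intro hfix
  have hmem : g ^ (p ^ (m - 1)) ∈ Subgroup.normalClosure ({g ^ (p ^ (m - 1))} : Set G) :=
    Subgroup.subset_normalClosure rfl
  have := Set.eq_univ_iff_forall.1 hfix ω0 ⟨_, hmem⟩
  exact hω0 this

end Cfsg.Agent.S3972
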