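import Cfsg.Statements.S3861
import Cfsg.Agent.Lib.Invol.BaerSuzuki
import Cfsg.Agent.Lib.Solvable.SchurZassenhaus

set_option autoImplicit false
open Cfsg

namespace Cfsg.Agent.S3861

open scoped Pointwise
universe u
theorem aux (n : ℕ) : ∀ (G : Type u) [Group G] [Finite G], Nat.card G = n →
    (∀ x : G, x ≠ 1 → Odd (orderOf x) → ∀ y : G, y * x * y⁻¹ ≠ x⁻¹) →
    ∀ P : Sylow 2 G, (P : Subgroup G).Normal := by
  induction n using Nat.strong_induction_on with
  | _ n ih =>
    intro G _ _ hn hno P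
    by_cases hP : (P : Subgroup G) = ⊥
    · rw [hP]; infer_instance
    obtain ⟨⟨z, hzP⟩, hzo⟩ := exists_prime_orderOf_dvd_card' (G := (P : Subgroup G)) 2 (by
      obtain ⟨k, hk⟩ := IsPGroup.iff_card.1 P.isPGroup'
      rw [hk]
      refine dvd_pow_self 2 fun h => hP (Subgroup.eq_bot_of_card_eq _ ?_)
      rw [hk, h, pow_zero])
    have hz : orderOf z = 2 := by rw [← hzo, ← Subgroup.orderOf_coe]
    obtain ⟨N, hN, hNp, hzN⟩ : ∃ N : Subgroup G, N.Normal ∧ IsPGroup 2 N ∧ z ∈ N := by
      by_contra! hc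
      obtain ⟨h, h1, h2, h3⟩ := CfsgLib.Invol.exists_inverted_odd z hz (fun N hN hNp => hc N hN hNp)
      exact hno h h1 h2 z h3
    haveI := hN
    have hNP : N ≤ (P : Subgroup G) := by
      obtain ⟨Q, hQ⟩ := hNp.exists_le_sylow
      obtain ⟨g, rfl⟩ := MulAction.exists_smul_eq G P Q
      intro a ha
      have h := hQ (hN.conj_mem a ha g)
      rw [Sylow.coe_subgroup_smul, Subgroup.mem_pointwise_smul_iff_inv_smul_mem] at h
      simpa [mul_assoc] using h
    have hlt : Nat.card (G ⧸ N) < n := by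
      rw [← hn, ← Subgroup.index_eq_card]
      conv_rhs => rw [← N.card_mul_index]
      refine lt_mul_of_one_lt_left (Nat.pos_of_ne_zero Subgroup.index_ne_zero_of_finite)
        ((Subgroup.one_lt_card_iff_ne_bot N).2 fun h => ?_)
      rw [h, Subgroup.mem_bot] at hzN
      rw [hzN, orderOf_one] at hz
      exact absurd hz (by norm_num)
    have hquot : ∀ x : G ⧸ N, x ≠ 1 → Odd (orderOf x) → ∀ y : G ⧸ N, y * x * y⁻¹ ≠ x⁻¹ := by
      intro xb hx1 hxo yb hy
      obtain ⟨x₀, rfl⟩ := QuotientGroup.mk'_surjective N xb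
      obtain ⟨y, rfl⟩ := QuotientGroup.mk'_surjective N yb
      set π := QuotientGroup.mk' N
      -- replace `x₀` by a lift of odd order
      obtain ⟨a, m, hm, e⟩ := Nat.exists_eq_two_pow_mul_odd (orderOf_pos x₀).ne'
      have hcop : Nat.Coprime (orderOf (π x₀)) (2 ^ a) := (Nat.coprime_two_right.2 hxo).pow_right a
      obtain ⟨c, hc⟩ := exists_pow_eq_self_of_coprime hcop.symm
      set x := (x₀ ^ 2 ^ a) ^ c with hxdef
      have hπx : π x = π x₀ := by rw [hxdef, map_pow, map_pow]; exact hc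
      have hodd : Odd (orderOf x) := by
        refine hm.of_dvd_nat ((orderOf_pow_dvd c).trans ?_)
        refine orderOf_dvd_of_pow_eq_one ?_
        rw [← pow_mul, ← e, pow_orderOf_eq_one]
      rw [← hπx] at hy hx1
      obtain ⟨j, hj⟩ := IsPGroup.iff_card.1 hNp
      have hcopN : (Nat.card N).Coprime (Nat.card (Subgroup.zpowers (y * x * y⁻¹))) := by
        rw [hj, Nat.card_zpowers, CfsgLib.Invol.orderOf_conj_eq y x]
        exact (Nat.coprime_two_left.2 hodd).pow_left j
      have hd : N ⊓ Subgroup.zpowers x = ⊥ := by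
        refine Subgroup.inf_eq_bot_of_coprime ?_
        rw [hj, Nat.card_zpowers]
        exact (Nat.coprime_two_left.2 hodd).pow_left j
      obtain ⟨k, hkN, hk⟩ := CfsgLib.Solvable.exists_conj_le N (Subgroup.zpowers x)
        (Subgroup.zpowers (y * x * y⁻¹)) (Subgroup.normalizer_eq_top_iff.2 hN ▸ le_top) hd
        (Subgroup.zpowers_le.2 (by
          have hn : (y * x * y⁻¹) * x ∈ N := by
            rw [← QuotientGroup.eq_one_iff]
            show π (y * x * y⁻¹ * x) = 1
            rw [map_mul, map_mul, map_mul, map_inv, hy, inv_mul_cancel]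
          have := Subgroup.mul_mem_sup hn (Subgroup.inv_mem _ (Subgroup.mem_zpowers x))
          simpa [mul_assoc] using this))
        hcopN (Or.inl (by haveI := hNp.isNilpotent; infer_instance))
      have hmem : k * (y * x * y⁻¹) * k⁻¹ ∈ Subgroup.zpowers x :=
        hk (Subgroup.smul_mem_pointwise_smul _ _ _ (Subgroup.mem_zpowers _))
      have hkey : k * (y * x * y⁻¹) * k⁻¹ * x ∈ N ⊓ Subgroup.zpowers x := by
        refine ⟨?_, Subgroup.mul_mem _ hmem (Subgroup.mem_zpowers x)⟩
        show k * (y * x * y⁻¹) * k⁻¹ * x ∈ N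
        rw [← QuotientGroup.eq_one_iff]
        show π (k * (y * x * y⁻¹) * k⁻¹ * x) = 1
        have hk1 : π k = 1 := (QuotientGroup.eq_one_iff k).2 hkN
        simp only [map_mul, map_inv, hk1, one_mul, inv_one, mul_one]
        rw [hy, inv_mul_cancel]
      rw [hd, Subgroup.mem_bot, mul_eq_one_iff_eq_inv] at hkey
      refine hno x (fun h => hx1 (by rw [h, map_one])) hodd (k * y) ?_
      rw [← hkey]; group
    have hQn := ih _ hlt (G ⧸ N) rfl hquot (P.mapSurjective (QuotientGroup.mk'_surjective N))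
    have heq : ((P : Subgroup G).map (QuotientGroup.mk' N)).comap (QuotientGroup.mk' N) = P :=
      Subgroup.comap_map_eq_self (by rw [QuotientGroup.ker_mk']; exact hNP)
    have h2 : ((P : Subgroup G).map (QuotientGroup.mk' N)).Normal := hQn
    rw [← heq]
    exact h2.comap _

/-- A finite group G has no non-identity element of odd order that is conjugate to its inverse if and only if the Sylow 2-subgroups of G are normal. -/
theorem result {G : Type*} [Group G] [Finite G] (P : Sylow 2 G) : (∀ x : G, x ≠ 1 → Odd (orderOf x) → ¬ IsConj x x⁻¹) ↔ (P : Subgroup G).Normal := by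
  constructor
  · intro h
    refine aux _ G rfl (fun x hx1 hxo y hy => h x hx1 hxo (isConj_iff.2 ⟨y, hy⟩)) P
  · intro hP x hx1 hxo hconj
    haveI := hP
    obtain ⟨y, hy⟩ := isConj_iff.1 hconj
    set π := QuotientGroup.mk' (P : Subgroup G)
    have hG : Odd (Nat.card (G ⧸ (P : Subgroup G))) := by
      rw [← Subgroup.index_eq_card, Nat.odd_iff]
      have := P.not_dvd_index
      omega
    have h1 : π x = 1 := by
      have hodd : Odd (orderOf (π y)) := hG.of_dvd_nat (orderOf_dvd_natCard _)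
      have hsq : π y ^ 2 * π x * (π y ^ 2)⁻¹ = π x := by
        calc π y ^ 2 * π x * (π y ^ 2)⁻¹ = π (y * (y * x * y⁻¹) * y⁻¹) := by
              simp only [map_mul, map_inv, sq, mul_inv_rev, mul_assoc]
          _ = π (y * x⁻¹ * y⁻¹) := by rw [hy]
          _ = π ((y * x * y⁻¹)⁻¹) := by congr 1; group
          _ = π x := by rw [hy, inv_inv]
      have hc : Commute (π y ^ 2) (π x) := mul_inv_eq_iff_eq_mul.1 hsq
      obtain ⟨c, hc'⟩ := exists_pow_eq_self_of_coprime (Nat.coprime_two_left.2 hodd)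
      have hc2 : Commute (π y) (π x) := hc' ▸ hc.pow_left c
      have h2 : π x = (π x)⁻¹ := by
        rw [← map_inv, ← hy, map_mul, map_mul, map_inv, hc2.eq, mul_inv_cancel_right]
      have h3 : π x ^ 2 = 1 := by rw [sq]; exact eq_inv_iff_mul_eq_one.1 h2
      have h4 : orderOf (π x) ∣ 1 := by
        have := Nat.dvd_gcd (orderOf_dvd_of_pow_eq_one h3) (orderOf_map_dvd π x)
        rwa [(Nat.coprime_two_left.2 hxo).gcd_eq_one] at this
      exact orderOf_eq_one_iff.1 (Nat.dvd_one.1 h4)
    obtain ⟨k, hk⟩ := P.isPGroup' ⟨x, (QuotientGroup.eq_one_iff x).1 h1⟩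
    have hd := orderOf_dvd_of_pow_eq_one (congrArg Subtype.val hk)
    exact hx1 (orderOf_eq_one_iff.1 (Nat.eq_one_of_dvd_coprimes ((Nat.coprime_two_right.2 hxo).pow_right k) dvd_rfl hd))

end Cfsg.Agent.S3861
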