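import Cfsg.Statements.S4216

set_option autoImplicit false
open Cfsg

namespace Cfsg.Agent.S4216

open scoped commutatorElement

theorem conj_out_eq {G A : Type*} [Group G] [CommGroup A] {P : Subgroup G} (θ : P →* A) (a x : G) (h : G)
    (hh : h ∈ P) (hx : x⁻¹ * a * x ∈ P) (hx' : (x * h)⁻¹ * a * (x * h) ∈ P) :
    θ ⟨(x * h)⁻¹ * a * (x * h), hx'⟩ = θ ⟨x⁻¹ * a * x, hx⟩ := by
  have e : (⟨(x * h)⁻¹ * a * (x * h), hx'⟩ : P) = ⟨h, hh⟩⁻¹ * ⟨x⁻¹ * a * x, hx⟩ * ⟨h, hh⟩ :=
    Subtype.ext (by show (x * h)⁻¹ * a * (x * h) = h⁻¹ * (x⁻¹ * a * x) * h; group)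
  rw [e, map_mul, map_mul, map_inv, mul_right_comm, inv_mul_cancel, one_mul]

theorem gruen {G : Type*} [Group G] [Finite G] {p : ℕ} [hp : Fact p.Prime] (P : Sylow p G) (R : Subgroup G)
    (hRP : R ≤ P) (hN : (P : Subgroup G) ⊓ ⁅Subgroup.normalizer ((P : Subgroup G) : Set G),
      Subgroup.normalizer ((P : Subgroup G) : Set G)⁆ ≤ R)
    (hz : ∀ z : G, (P : Subgroup G) ⊓ (⁅(P : Subgroup G), (P : Subgroup G)⁆).map (MulAut.conj z).toMonoidHom ≤ R) :
    ∀ a ∈ (P : Subgroup G) ⊓ commutator G, a ∈ R := by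
  classical
  have hP' : ∀ u ∈ (P : Subgroup G), ∀ v ∈ (P : Subgroup G), ⁅u, v⁆ ∈ R := fun u hu v hv => by
    refine hz 1 ⟨?_, ⁅u, v⁆, Subgroup.commutator_mem_commutator hu hv, by simp⟩
    rw [commutatorElement_def]
    exact (P : Subgroup G).mul_mem ((P : Subgroup G).mul_mem ((P : Subgroup G).mul_mem hu hv)
      ((P : Subgroup G).inv_mem hu)) ((P : Subgroup G).inv_mem hv)
  let R' : Subgroup (P : Subgroup G) := R.subgroupOf (P : Subgroup G)
  have hR'n : R'.Normal := ⟨fun r hr g => by
    have h1 := R.mul_mem (hP' _ g.2 _ r.2) (show (r : G) ∈ R from hr)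
    rw [commutatorElement_def, inv_mul_cancel_right] at h1
    exact h1⟩
  letI : CommGroup ((P : Subgroup G) ⧸ R') :=
    { QuotientGroup.Quotient.group R' with
      mul_comm := by
        intro u v
        induction u using QuotientGroup.induction_on with
        | H u =>
          induction v using QuotientGroup.induction_on with
          | H v =>
            rw [← QuotientGroup.mk_mul, ← QuotientGroup.mk_mul, QuotientGroup.eq]
            show ((u * v)⁻¹ * (v * u) : (P : Subgroup G)).1 ∈ R
            have h1 := hP' _ ((P : Subgroup G).inv_mem v.2) _ ((P : Subgroup G).inv_mem u.2)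
            convert h1 using 1
            simp [commutatorElement_def, mul_assoc] }
  let θ : (P : Subgroup G) →* (P : Subgroup G) ⧸ R' := QuotientGroup.mk' R'
  have hθ : ∀ u v : (P : Subgroup G), (u : G)⁻¹ * v ∈ R → θ u = θ v := fun u v h =>
    QuotientGroup.eq.2 h
  suffices main : ∀ n a, orderOf a = n → a ∈ (P : Subgroup G) ⊓ commutator G → a ∈ R from
    fun a ha => main _ a rfl ha
  intro n
  induction n using Nat.strong_induction_on with
  | _ n ih =>
  intro a hn haPG
  obtain ⟨haP, haG⟩ := haPG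
  by_cases ha1 : a = 1
  · rw [ha1]; exact R.one_mem
  obtain ⟨e, he⟩ : ∃ e, orderOf a = p ^ e := by
    obtain ⟨k, hk⟩ := P.2 ⟨a, haP⟩
    obtain ⟨e, -, he⟩ := (Nat.dvd_prime_pow hp.out).1 (orderOf_dvd_of_pow_eq_one (congrArg Subtype.val hk : a ^ p ^ k = 1))
    exact ⟨e, he⟩
  have he0 : e ≠ 0 := fun h => ha1 (orderOf_eq_one_iff.1 (by rw [he, h, pow_zero]))
  have hsmall : ∀ k, p ∣ k → ∀ x, x⁻¹ * a ^ k * x ∈ (P : Subgroup G) → x⁻¹ * a ^ k * x ∈ R := by
    intro k hk x hx
    refine ih _ ?_ _ rfl ⟨hx, ?_⟩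
    · rw [← hn, show orderOf (x⁻¹ * a ^ k * x) = orderOf (a ^ k) by
        rw [show x⁻¹ * a ^ k * x = (MulAut.conj x⁻¹) (a ^ k) by simp]
        exact MulEquiv.orderOf_eq _ _, he]
      obtain ⟨j, rfl⟩ := hk
      have hd : orderOf (a ^ (p * j)) ∣ p ^ (e - 1) := by
        refine orderOf_dvd_of_pow_eq_one ?_
        rw [← pow_mul, mul_assoc, mul_comm j, ← mul_assoc, ← pow_succ', Nat.sub_add_cancel (Nat.one_le_iff_ne_zero.2 he0),
          pow_mul, ← he, pow_orderOf_eq_one, one_pow]
      exact lt_of_le_of_lt (Nat.le_of_dvd (pow_pos hp.out.pos _) hd)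
        (Nat.pow_lt_pow_right hp.out.one_lt (by omega))
    · exact (inferInstance : (commutator G).Normal).conj_mem' _ (Subgroup.pow_mem _ haG k) x
  let X := G ⧸ (P : Subgroup G)
  have hfix : ∀ c : X, a • c = c → c.out⁻¹ * a * c.out ∈ (P : Subgroup G) := by
    intro c hc
    have h1 : ((a * c.out : G) : X) = (c.out : X) := by
      rw [QuotientGroup.out_eq']
      conv_rhs => rw [← hc]
      conv_rhs => rw [← QuotientGroup.out_eq' c]
      rfl
    have := (P : Subgroup G).inv_mem (QuotientGroup.eq.1 h1)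
    simpa [mul_assoc] using this
  let F : X → (P : Subgroup G) ⧸ R' := fun c => if h : a • c = c then θ ⟨_, hfix c h⟩ else 1
  haveI : Fintype X := Fintype.ofFinite _
  haveI : Fintype (Quotient (MulAction.orbitRel (Subgroup.zpowers a) X)) := Fintype.ofFinite _
  -- the transfer of `a` is the product of the contributions of its fixed cosets
  have htr : (1 : (P : Subgroup G) ⧸ R') = ∏ c : X, F c := by
    have hτ : MonoidHom.transfer θ a = 1 := Abelianization.commutator_subset_ker (MonoidHom.transfer θ) haG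
    rw [← hτ, MonoidHom.transfer_eq_prod_quotient_orbitRel_zpowers_quot]
    symm
    refine Finset.prod_bij_ne_one (fun c _ _ => (⟦c⟧ : Quotient (MulAction.orbitRel (Subgroup.zpowers a) X)))
      (fun _ _ _ => Finset.mem_univ _) ?_ ?_ ?_
    · intro c _ hc d _ hd hcd
      have hc' : a • c = c := by by_contra h; exact hc (dif_neg h)
      obtain ⟨⟨g, hg⟩, hgc⟩ := Quotient.exact hcd.symm
      obtain ⟨i, rfl⟩ := Subgroup.mem_zpowers_iff.1 hg
      have h2 : a ^ i • c = c :=
        MulAction.mem_stabilizer_iff.1 ((MulAction.stabilizer G c).zpow_mem hc' i)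
      exact h2.symm.trans hgc
    · intro q _ hq
      have hper : Function.minimalPeriod (a • ·) q.out = 1 := by
        by_contra hne
        apply hq
        have hdvd : Function.minimalPeriod (a • ·) q.out ∣ p ^ e := by
          refine Function.IsPeriodicPt.minimalPeriod_dvd ?_
          show (a • ·)^[p ^ e] q.out = q.out
          rw [smul_iterate, ← he, pow_orderOf_eq_one]
          exact one_smul G _
        obtain ⟨j, -, hj⟩ := (Nat.dvd_prime_pow hp.out).1 hdvd
        have hp' : p ∣ Function.minimalPeriod (a • ·) q.out := by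
          rw [hj]
          exact dvd_pow_self p (fun h => hne (by rw [hj, h, pow_zero]))
        exact (QuotientGroup.eq_one_iff _).2 (hsmall _ hp' _ (QuotientGroup.out_conj_pow_minimalPeriod_mem _ a q.out))
      have hfx : a • q.out = q.out := Function.minimalPeriod_eq_one_iff_isFixedPt.1 hper
      have hval : F q.out ≠ 1 := by
        show (if h : a • q.out = q.out then _ else _) ≠ 1
        rw [dif_pos hfx]
        convert hq using 3
        simp [hper]
      exact ⟨q.out, Finset.mem_univ _, hval, Quotient.out_eq q⟩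
    · intro c _ hc
      have hc' : a • c = c := by by_contra h; exact hc (dif_neg h)
      set q : Quotient (MulAction.orbitRel (Subgroup.zpowers a) X) := ⟦c⟧ with hq
      have hout : q.out = c := by
        obtain ⟨⟨g, hg⟩, hgc⟩ := Quotient.exact (Quotient.out_eq q)
        obtain ⟨i, rfl⟩ := Subgroup.mem_zpowers_iff.1 hg
        exact hgc.symm.trans (MulAction.mem_stabilizer_iff.1 ((MulAction.stabilizer G c).zpow_mem hc' i))
      show F c = θ _
      simp only [F, dif_pos hc']
      congr 1
      refine Subtype.ext ?_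
      show c.out⁻¹ * a * c.out = q.out.out⁻¹ * a ^ Function.minimalPeriod (a • ·) q.out * q.out.out
      rw [hout, Function.minimalPeriod_eq_one_iff_isFixedPt.2 hc', pow_one]
  -- group the fixed cosets by the orbits of `P`
  haveI : Fintype (MulAction.orbitRel.Quotient (P : Subgroup G) X) := Fintype.ofFinite _
  let π : X → MulAction.orbitRel.Quotient (P : Subgroup G) X := fun c => Quotient.mk'' c
  have hπ : ∀ c d : X, π d = π c ↔ d ∈ MulAction.orbit (P : Subgroup G) c := fun c d => Quotient.eq''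
  set S : Finset X := Finset.univ.filter fun c => c ∈ MulAction.fixedPoints (P : Subgroup G) X with hS
  have hgen : ∀ c : X, (∀ u : (P : Subgroup G), u • c = c) → F c = θ ⟨a, haP⟩ := by
    intro c hc
    have hc' : a • c = c := hc ⟨a, haP⟩
    simp only [F, dif_pos hc']
    refine (hθ _ _ ?_).symm
    have hxN : c.out ∈ Subgroup.normalizer ((P : Subgroup G) : Set G) := by
      have h1 : ∀ u ∈ (P : Subgroup G), c.out⁻¹ * u * c.out ∈ (P : Subgroup G) := fun u hu => by
        have h2 : ((u * c.out : G) : X) = (c.out : X) := by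
          have h4 : (⟨u, hu⟩ : (P : Subgroup G)) • c = c := hc ⟨u, hu⟩
          rw [QuotientGroup.out_eq']
          conv_rhs => rw [← h4, ← QuotientGroup.out_eq' c]
          rfl
        have := (P : Subgroup G).inv_mem (QuotientGroup.eq.1 h2)
        simpa [mul_assoc] using this
      have h3 : ((P : Subgroup G)).map (MulAut.conj c.out⁻¹).toMonoidHom = P :=
        Subgroup.eq_of_le_of_card_ge (by rintro _ ⟨u, hu, rfl⟩; simpa using h1 u hu)
          (by rw [Subgroup.card_map_of_injective (MulAut.conj c.out⁻¹).injective])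
      refine inv_inv c.out ▸ Subgroup.inv_mem _ ?_
      refine Subgroup.mem_normalizer_iff.2 fun g => ⟨fun hg => by simpa using h1 g hg, fun hg => ?_⟩
      obtain ⟨g', hg', eg⟩ := h3.ge hg
      exact (MulAut.conj c.out⁻¹).injective eg ▸ hg'
    refine hN ⟨?_, ?_⟩
    · exact (P : Subgroup G).mul_mem ((P : Subgroup G).inv_mem haP) (hfix c hc')
    · show a⁻¹ * (c.out⁻¹ * a * c.out) ∈ _
      rw [show a⁻¹ * (c.out⁻¹ * a * c.out) = ⁅a⁻¹, c.out⁻¹⁆ by rw [commutatorElement_def]; group]
      exact Subgroup.commutator_mem_commutator (Subgroup.inv_mem _ (Subgroup.le_normalizer haP))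
        (Subgroup.inv_mem _ hxN)
  have hrest : ∏ c ∈ Sᶜ, F c = 1 := by
    rw [← Finset.prod_fiberwise (s := Sᶜ) (g := π) (f := F)]
    refine Finset.prod_eq_one fun O _ => ?_
    set T := (Sᶜ.filter fun c => π c = O).filter fun c => a • c = c with hT
    have hsub : ∏ c ∈ T, F c = ∏ c ∈ Sᶜ.filter (fun c => π c = O), F c := by
      refine Finset.prod_subset (Finset.filter_subset _ _) fun c hc hcT => ?_
      exact dif_neg fun h => hcT (Finset.mem_filter.2 ⟨hc, h⟩)
    rw [← hsub]
    rcases T.eq_empty_or_nonempty with hE | ⟨c₀, hc₀⟩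
    · rw [hE, Finset.prod_empty]
    simp only [hT, Finset.mem_filter, Finset.mem_compl, hS, Finset.mem_univ, true_and] at hc₀
    obtain ⟨⟨hc₀S, hc₀O⟩, hc₀a⟩ := hc₀
    set x := c₀.out with hx
    have hall : ∀ c ∈ T, F c = F c₀ := by
      intro c hc
      simp only [hT, Finset.mem_filter] at hc
      obtain ⟨⟨-, hcO⟩, hca⟩ := hc
      obtain ⟨u, hu⟩ := (hπ c₀ c).1 (hcO.trans hc₀O.symm)
      have hcx : ((u : G) * x : G) = (c : X) := by
        rw [← hu, hx]
        conv_rhs => rw [← QuotientGroup.out_eq' c₀]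
        rfl
      obtain ⟨h, hh⟩ : ∃ h ∈ (P : Subgroup G), c.out = (u : G) * x * h := by
        refine ⟨((u : G) * x)⁻¹ * c.out, QuotientGroup.eq.1 (hcx.trans (QuotientGroup.out_eq' c).symm), ?_⟩
        group
      obtain ⟨hhP, hout⟩ := hh
      simp only [F, dif_pos hca, dif_pos hc₀a]
      have hm1 : x⁻¹ * a * x ∈ (P : Subgroup G) := hfix c₀ hc₀a
      have hm2 : ((u : G) * x)⁻¹ * a * ((u : G) * x) ∈ (P : Subgroup G) := by
        have := (P : Subgroup G).mul_mem ((P : Subgroup G).mul_mem hhP (hfix c hca)) ((P : Subgroup G).inv_mem hhP)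
        rw [hout] at this
        simpa [mul_assoc] using this
      have e1 : (⟨c.out⁻¹ * a * c.out, hfix c hca⟩ : (P : Subgroup G)) = ⟨((u : G) * x * h)⁻¹ * a * ((u : G) * x * h),
          hout ▸ hfix c hca⟩ := Subtype.ext (by simp only [hout])
      rw [e1, conj_out_eq θ a ((u : G) * x) h hhP hm2]
      refine hθ _ _ ?_
      show (((u : G) * x)⁻¹ * a * ((u : G) * x))⁻¹ * (x⁻¹ * a * x) ∈ R
      refine hz x⁻¹ ⟨(P : Subgroup G).mul_mem ((P : Subgroup G).inv_mem hm2) hm1, ⁅(u : G)⁻¹, a⁻¹⁆,
        Subgroup.commutator_mem_commutator ((P : Subgroup G).inv_mem u.2) ((P : Subgroup G).inv_mem haP), ?_⟩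
      simp [commutatorElement_def, mul_assoc]
    rw [Finset.prod_congr rfl hall, Finset.prod_const]
    have hp' : p ∣ T.card := by
      let O' := MulAction.orbit (P : Subgroup G) c₀
      letI : MulAction (Subgroup.zpowers a) O' :=
        MulAction.compHom O' (Subgroup.inclusion (Subgroup.zpowers_le.2 haP))
      have hzp : IsPGroup p (Subgroup.zpowers a) := P.2.to_le (Subgroup.zpowers_le.2 haP)
      have hmod := hzp.card_modEq_card_fixedPoints O'
      have hO : p ∣ Nat.card O' := by
        obtain ⟨k, hk⟩ := P.2.card_orbit c₀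
        refine hk ▸ dvd_pow_self p fun hk0 => hc₀S fun u => ?_
        rw [hk0, pow_zero, Nat.card_eq_one_iff_unique] at hk
        haveI := hk.1
        exact congrArg Subtype.val (Subsingleton.elim (⟨u • c₀, MulAction.mem_orbit c₀ u⟩ : O')
          ⟨c₀, MulAction.mem_orbit_self c₀⟩)
      have hT' : T.card = Nat.card (MulAction.fixedPoints (Subgroup.zpowers a) O') := by
        rw [← Nat.card_eq_finsetCard]
        refine Nat.card_congr
          { toFun := fun c => ⟨⟨c.1, ?_⟩, ?_⟩
            invFun := fun d => ⟨d.1.1, ?_⟩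
            left_inv := fun _ => rfl
            right_inv := fun _ => rfl }
        · have := c.2
          simp only [hT, Finset.mem_filter] at this
          exact (hπ c₀ _).1 (this.1.2.trans hc₀O.symm)
        · have h2 := c.2
          simp only [hT, Finset.mem_filter] at h2
          rintro ⟨g, hg⟩
          obtain ⟨i, rfl⟩ := Subgroup.mem_zpowers_iff.1 hg
          exact Subtype.ext (MulAction.mem_stabilizer_iff.1 ((MulAction.stabilizer G c.1).zpow_mem h2.2 i))
        · simp only [hT, Finset.mem_filter, Finset.mem_compl, hS, Finset.mem_univ, true_and]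
          refine ⟨⟨fun hfx => ?_, ((hπ c₀ _).2 d.1.2).trans hc₀O⟩,
            congrArg Subtype.val (d.2 ⟨a, Subgroup.mem_zpowers a⟩)⟩
          obtain ⟨u, hu⟩ := d.1.2
          have h3 : c₀ = d.1.1 := (inv_smul_eq_iff.2 hu.symm).symm.trans (hfx u⁻¹)
          exact hc₀S (h3 ▸ hfx)
      rw [hT']
      exact Nat.modEq_zero_iff_dvd.1 (hmod.symm.trans (Nat.modEq_zero_iff_dvd.2 hO))
    simp only [F, dif_pos hc₀a]
    rw [← map_pow]
    refine (QuotientGroup.eq_one_iff _).2 ?_
    show ((⟨x⁻¹ * a * x, hfix c₀ hc₀a⟩ : (P : Subgroup G)) ^ T.card).1 ∈ R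
    have e2 : (x⁻¹ * a * x) ^ T.card = x⁻¹ * a ^ T.card * x := by
      have := conj_pow (i := T.card) (a := x⁻¹) (b := a)
      simpa using this
    rw [SubmonoidClass.coe_pow]
    show (x⁻¹ * a * x) ^ T.card ∈ R
    rw [e2]
    exact hsmall _ hp' x (e2 ▸ (P : Subgroup G).pow_mem (hfix c₀ hc₀a) _)
  rw [← Finset.prod_compl_mul_prod S, hrest, one_mul, Finset.prod_congr rfl (fun c hc => hgen c (by
    simpa [hS] using hc)), Finset.prod_const] at htr
  have hcard : ¬ p ∣ S.card := by
    have h1 := P.2.card_modEq_card_fixedPoints X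
    have h2 : S.card = Nat.card (MulAction.fixedPoints (P : Subgroup G) X) := by
      rw [Nat.card_eq_fintype_card, Fintype.card_subtype]
    intro h
    rw [h2] at h
    exact P.not_dvd_index (Nat.modEq_zero_iff_dvd.1 (h1.trans (Nat.modEq_zero_iff_dvd.2 h)))
  have hc : (p ^ e).Coprime S.card := ((hp.out.coprime_iff_not_dvd).2 hcard).pow_left e
  have hord : orderOf (θ ⟨a, haP⟩) ∣ 1 := by
    rw [← hc.gcd_eq_one]
    refine Nat.dvd_gcd (orderOf_dvd_of_pow_eq_one ?_) (orderOf_dvd_of_pow_eq_one htr.symm)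
    rw [← map_pow, show (⟨a, haP⟩ : (P : Subgroup G)) ^ p ^ e = 1 from Subtype.ext (by
      show a ^ p ^ e = 1
      rw [← he, pow_orderOf_eq_one]), map_one]
  rw [Nat.dvd_one, orderOf_eq_one_iff] at hord
  exact (QuotientGroup.eq_one_iff (N := R') (⟨a, haP⟩ : (P : Subgroup G))).1 hord


/-- Grün's first Theorem: if `P` is a Sylow `p`-subgroup of the finite group `G`, then `P ∩ G'` is the subgroup generated by `P ∩ N_G(P)'` together with the subgroups `P ∩ z P' z⁻¹` for all `z ∈ G`, where `'` denotes the derived subgroup and `N_G(P)` the normalizer of `P`. -/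
theorem result {G : Type*} [Group G] [Finite G] {p : ℕ} [Fact p.Prime] (P : Sylow p G) : (P : Subgroup G) ⊓ commutator G = ((P : Subgroup G) ⊓ ⁅Subgroup.normalizer ((P : Subgroup G) : Set G), Subgroup.normalizer ((P : Subgroup G) : Set G)⁆) ⊔ ⨆ z : G, (P : Subgroup G) ⊓ (⁅(P : Subgroup G), (P : Subgroup G)⁆).map (MulAut.conj z).toMonoidHom := by
  refine le_antisymm (gruen P _ (sup_le inf_le_left (iSup_le fun z => inf_le_left)) le_sup_left
    fun z => le_sup_of_le_right (le_iSup (fun z : G => (P : Subgroup G) ⊓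
      (⁅(P : Subgroup G), (P : Subgroup G)⁆).map (MulAut.conj z).toMonoidHom) z)) ?_
  refine sup_le (inf_le_inf_left _ ?_) (iSup_le fun z => inf_le_inf_left _ ?_)
  · rw [commutator_def]; exact Subgroup.commutator_mono le_top le_top
  · rw [commutator_def, Subgroup.map_commutator]; exact Subgroup.commutator_mono le_top le_top

end Cfsg.Agent.S4216
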