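import Cfsg.Statements.S4072
import Cfsg.Agent.S4216
import Cfsg.Agent.Lib.Transfer.Abelian
import Mathlib

set_option autoImplicit false
open Cfsg

namespace Cfsg.Agent.S4072

open Subgroup
open scoped commutatorElement

variable {G : Type*} [Group G] [Finite G]

/-- In a finite p-group with all proper subgroups abelian, commutators are central of exponent `p`. -/
theorem comm_central {P : Type*} [Group P] [Finite P] {p : ℕ} [Fact p.Prime] (hP : IsPGroup p P)
    (hab : ∀ K : Subgroup P, K ≠ ⊤ → IsMulCommutative K) (a b : P) :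
    ⁅a, b⁆ ∈ center P ∧ ⁅a, b⁆ ^ p = 1 := by
  by_cases hc : a * b = b * a
  · rw [commutatorElement_eq_one_iff_mul_comm.2 hc]
    exact ⟨one_mem _, one_pow p⟩
  have hcyc : ∀ x : P, (∃ y, x * y ≠ y * x) → zpowers x ≠ ⊤ := by
    rintro x ⟨y, hy⟩ h
    have hy' : y ∈ zpowers x := h ▸ mem_top y
    obtain ⟨i, rfl⟩ := mem_zpowers_iff.1 hy'
    exact hy (Commute.self_zpow x i)
  obtain ⟨K₁, hK₁, ha⟩ := (eq_top_or_exists_le_coatom (zpowers a)).resolve_left (hcyc a ⟨b, hc⟩)
  obtain ⟨K₂, hK₂, hb⟩ := (eq_top_or_exists_le_coatom (zpowers b)).resolve_left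
    (hcyc b ⟨a, Ne.symm hc⟩)
  rw [zpowers_le] at ha hb
  have : Group.IsNilpotent P := hP.isNilpotent
  have hn₁ : K₁.Normal := Group.normalizerCondition_of_isNilpotent.normal_of_coatom _ hK₁
  have hn₂ : K₂.Normal := Group.normalizerCondition_of_isNilpotent.normal_of_coatom _ hK₂
  have := hab K₁ hK₁.1
  have := hab K₂ hK₂.1
  have hgen : closure ({a, b} : Set P) = ⊤ := by
    by_contra hne
    have := hab _ hne
    exact hc (congrArg Subtype.val (mul_comm'
      (⟨a, subset_closure (Or.inl rfl)⟩ : closure ({a, b} : Set P)) ⟨b, subset_closure (Or.inr rfl)⟩))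
  have c1 : ⁅a, b⁆ ∈ K₁ := by
    rw [commutatorElement_def, mul_assoc, mul_assoc]
    refine mul_mem ha ?_
    have := hn₁.conj_mem _ (inv_mem ha) b
    rwa [mul_assoc] at this
  have c2 : ⁅a, b⁆ ∈ K₂ := by
    rw [commutatorElement_def]
    exact mul_mem (hn₂.conj_mem _ hb a) (inv_mem hb)
  have hcen : ⁅a, b⁆ ∈ center P := by
    rw [mem_center_iff]
    intro g
    have hg : g ∈ closure ({a, b} : Set P) := hgen ▸ mem_top g
    induction hg using Subgroup.closure_induction with
    | mem x hx =>
      rcases hx with rfl | rfl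
      · exact congrArg Subtype.val (mul_comm' (⟨x, ha⟩ : K₁) ⟨_, c1⟩)
      · exact congrArg Subtype.val (mul_comm' (⟨x, hb⟩ : K₂) ⟨_, c2⟩)
    | one => rw [one_mul, mul_one]
    | mul x y _ _ hx hy => rw [mul_assoc, hy, ← mul_assoc, hx, mul_assoc]
    | inv x _ hx => exact (Commute.inv_left hx : Commute x⁻¹ _)
  refine ⟨hcen, ?_⟩
  set c := ⁅a, b⁆ with hcd
  have hconj : b * a * b⁻¹ = c⁻¹ * a := by rw [hcd, commutatorElement_def]; group
  have hca : Commute c a := (mem_center_iff.1 hcen a).symm
  have hcomm : Commute c⁻¹ a := hca.inv_left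
  have hpow : b * a ^ p * b⁻¹ = c⁻¹ ^ p * a ^ p := by rw [← conj_pow, hconj, hcomm.mul_pow]
  have haK : a ^ p ∈ K₂ := by
    have hid : K₂.index = p := by
      obtain ⟨k, hk⟩ := hP.index K₂
      have hidx := hK₂
      rcases Nat.lt_or_ge k 2 with hk2 | hk2
      · rcases (show k = 0 ∨ k = 1 by omega) with rfl | rfl
        · exact absurd (index_eq_one.1 (by rw [hk, pow_zero])) hK₂.1
        · rw [hk, pow_one]
      · exfalso
        obtain ⟨g, hg⟩ := exists_prime_orderOf_dvd_card' (G := P ⧸ K₂) p
          (by rw [← index_eq_card, hk]; exact dvd_pow_self p (by omega))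
        have htop : ((zpowers g).comap (QuotientGroup.mk' K₂)) = ⊤ := by
          refine hK₂.2 _ (lt_of_le_of_ne (fun x hx => ?_) fun h => ?_)
          · rw [mem_comap, QuotientGroup.mk'_apply, (QuotientGroup.eq_one_iff x).2 hx]
            exact one_mem _
          · obtain ⟨x, rfl⟩ := QuotientGroup.mk_surjective g
            have : x ∈ K₂ := h ▸ mem_zpowers (QuotientGroup.mk x : P ⧸ K₂)
            rw [(QuotientGroup.eq_one_iff x).2 this, orderOf_one] at hg
            exact (Fact.out : p.Prime).one_lt.ne hg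
        have hc' : Nat.card (P ⧸ K₂) = p := by
          rw [← hg, ← Nat.card_zpowers]
          have : zpowers g = ⊤ := by
            rw [← map_comap_eq_self_of_surjective (QuotientGroup.mk'_surjective K₂) (zpowers g),
              htop, map_top_of_surjective _ (QuotientGroup.mk'_surjective K₂)]
          rw [this, card_top]
        rw [← index_eq_card, hk] at hc'
        have := Nat.pow_right_injective (Fact.out : p.Prime).two_le (hc'.trans (pow_one p).symm)
        omega
    exact hid ▸ pow_index_mem K₂ a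
  have hfix : b * a ^ p * b⁻¹ = a ^ p := by
    rw [show b * a ^ p = a ^ p * b from
      congrArg Subtype.val (mul_comm' (⟨b, hb⟩ : K₂) ⟨_, haK⟩), mul_inv_cancel_right]
  have := hpow.symm.trans hfix
  rwa [mul_eq_right, inv_pow, inv_eq_one] at this

/-- A maximal normal subgroup of a perfect group in which all proper normal subgroups are abelian
and nonabelian subgroups are self-normalizing is central. -/
theorem le_center_of_perfect (hS : ∀ H : Subgroup G, ¬ IsMulCommutative H →
      Subgroup.normalizer (H : Set G) = H) (hperf : commutator G = ⊤) (M : Subgroup G) [M.Normal]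
    (hMT : M ≠ ⊤) (hMmax : ∀ K : Subgroup G, K.Normal → M ≤ K → K ≠ ⊤ → K = M)
    (hMab : IsMulCommutative M) : M ≤ center G := by
  have hMC : M ≤ centralizer (M : Set G) := fun x hx y hy =>
    congrArg Subtype.val (mul_comm' (⟨y, hy⟩ : M) ⟨x, hx⟩)
  by_cases hC : centralizer (M : Set G) = ⊤
  · intro m hm
    rw [mem_center_iff]
    intro g
    exact ((hC ▸ mem_top g : g ∈ centralizer (M : Set G)) m hm).symm
  exfalso
  have hCM : centralizer (M : Set G) = M := hMmax _ inferInstance hMC hC
  have hQnorm : ∀ y : G ⧸ M, y ≠ 1 → normalizer ((zpowers y : Subgroup (G ⧸ M)) : Set (G ⧸ M)) =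
      zpowers y := by
    intro y hy
    set H := (zpowers y).comap (QuotientGroup.mk' M) with hH
    have hHna : ¬ IsMulCommutative H := by
      intro hc
      obtain ⟨x, rfl⟩ := QuotientGroup.mk_surjective y
      apply hy
      rw [QuotientGroup.eq_one_iff, ← hCM]
      intro m hm
      have hmH : m ∈ H := by
        rw [hH, mem_comap, QuotientGroup.mk'_apply, (QuotientGroup.eq_one_iff m).2 hm]
        exact one_mem _
      exact congrArg Subtype.val (mul_comm' (⟨m, hmH⟩ : H) ⟨x, mem_zpowers _⟩)
    have h := hS H hHna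
    refine le_antisymm (fun z hz => ?_) le_normalizer
    obtain ⟨g, rfl⟩ := QuotientGroup.mk_surjective z
    have hg : g ∈ normalizer (H : Set G) := by
      rw [Subgroup.mem_normalizer_iff]
      intro w
      exact Subgroup.mem_normalizer_iff.1 hz (QuotientGroup.mk w)
    rw [h] at hg
    exact hg
  have hQnt : Nontrivial (G ⧸ M) := QuotientGroup.nontrivial_iff.2 hMT
  obtain ⟨p, hp, hpd⟩ := Nat.exists_prime_and_dvd (Finite.one_lt_card (α := G ⧸ M)).ne'
  have : Fact p.Prime := ⟨hp⟩
  obtain ⟨P⟩ := (inferInstance : Nonempty (Sylow p (G ⧸ M)))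
  have : Nontrivial (P : Subgroup (G ⧸ M)) :=
    (Subgroup.nontrivial_iff_ne_bot _).2 (P.ne_bot_of_dvd_card hpd)
  have := P.isPGroup'.center_nontrivial
  obtain ⟨⟨⟨z, hzP⟩, hzc⟩, hz1⟩ := exists_ne (1 : center (P : Subgroup (G ⧸ M)))
  have hz1' : z ≠ 1 := fun h => hz1 (Subtype.ext (Subtype.ext h))
  have hPz : (P : Subgroup (G ⧸ M)) ≤ zpowers z := fun w hw => by
    rw [← hQnorm z hz1']
    have hcw : w * z = z * w := congrArg Subtype.val (mem_center_iff.1 hzc ⟨w, hw⟩)
    exact (centralizer_le_normalizer ((zpowers z : Subgroup (G ⧸ M)) : Set (G ⧸ M))) fun v hv => by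
      obtain ⟨i, rfl⟩ := mem_zpowers_iff.1 hv
      exact ((show Commute w z from hcw).zpow_right i).eq.symm
  have hPe : (P : Subgroup (G ⧸ M)) = zpowers z := le_antisymm hPz (zpowers_le.2 hzP)
  have hle : normalizer ((P : Subgroup (G ⧸ M)) : Set (G ⧸ M)) ≤
      centralizer ((P : Subgroup (G ⧸ M)) : Set (G ⧸ M)) := by
    rw [hPe, hQnorm z hz1']
    intro a ha b hb
    obtain ⟨i, rfl⟩ := mem_zpowers_iff.1 ha
    obtain ⟨j, rfl⟩ := mem_zpowers_iff.1 hb
    exact ((Commute.refl z).zpow_zpow j i).eq
  have hcompl := MonoidHom.ker_transferSylow_isComplement' P hle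
  set K := (MonoidHom.transferSylow P hle).ker with hK
  set K' := K.comap (QuotientGroup.mk' M) with hK'
  have hMK : M ≤ K' := fun m hm => by
    rw [hK', mem_comap, QuotientGroup.mk'_apply, (QuotientGroup.eq_one_iff m).2 hm]
    exact one_mem _
  rcases eq_or_ne K' ⊤ with hT | hT
  · have : K = ⊤ := by
      rw [← map_comap_eq_self_of_surjective (QuotientGroup.mk'_surjective M) K, ← hK', hT,
        map_top_of_surjective _ (QuotientGroup.mk'_surjective M)]
    rw [this] at hcompl
    exact P.ne_bot_of_dvd_card hpd ((Subgroup.isComplement'_top_left).1 hcompl)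
  · have hKb : K = ⊥ := by
      rw [← map_comap_eq_self_of_surjective (QuotientGroup.mk'_surjective M) K, ← hK',
        hMmax K' inferInstance hMK hT, Subgroup.map_eq_bot_iff, QuotientGroup.ker_mk']
    rw [hKb] at hcompl
    have hPtop : (P : Subgroup (G ⧸ M)) = ⊤ := (Subgroup.isComplement'_bot_left).1 hcompl
    have hcomm : ∀ a b : G ⧸ M, a * b = b * a := fun a b => by
      have ha : a ∈ zpowers z := hPe ▸ hPtop ▸ mem_top a
      have hb : b ∈ zpowers z := hPe ▸ hPtop ▸ mem_top b
      obtain ⟨i, rfl⟩ := mem_zpowers_iff.1 ha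
      obtain ⟨j, rfl⟩ := mem_zpowers_iff.1 hb
      exact ((Commute.refl z).zpow_zpow i j).eq
    apply hMT
    rw [eq_top_iff, ← hperf, _root_.commutator_def, commutator_le]
    intro a _ b _
    rw [← QuotientGroup.eq_one_iff, ← QuotientGroup.mk'_apply, map_commutatorElement,
      commutatorElement_eq_one_iff_mul_comm]
    exact hcomm _ _

theorem eq_bot_of_central_perfect (hS : ∀ H : Subgroup G, ¬ IsMulCommutative H →
      Subgroup.normalizer (H : Set G) = H) (hperf : commutator G = ⊤) (M : Subgroup G)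
    (hM : M ≤ center G) : M = ⊥ := by
  by_contra hne
  obtain ⟨p, hp, hpd⟩ := Nat.exists_prime_and_dvd fun h => hne (Subgroup.card_eq_one.1 h)
  have : Fact p.Prime := ⟨hp⟩
  obtain ⟨⟨z, hzM⟩, hzo⟩ := exists_prime_orderOf_dvd_card' p hpd
  rw [Subgroup.orderOf_mk] at hzo
  have hzc : z ∈ center G := hM hzM
  obtain ⟨P, hzP⟩ := (IsPGroup.of_card (p := p) (n := 1)
    (by rw [Nat.card_zpowers, hzo, pow_one]) : IsPGroup p (zpowers z)).exists_le_sylow
  have hzP : z ∈ (P : Subgroup G) := hzP (mem_zpowers z)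
  have hz1 : z ≠ 1 := by rintro rfl; rw [orderOf_one] at hzo; exact hp.one_lt.ne hzo
  by_cases hPab : IsMulCommutative (P : Subgroup G)
  · have h := CfsgLib.Transfer.inf_commutator_inf_center (P : Subgroup G) hPab
      (P.card_coprime_index)
    apply hz1
    rw [← Subgroup.mem_bot, ← h, hperf]
    exact Subgroup.mem_inf.2 ⟨Subgroup.mem_inf.2 ⟨hzP, mem_top z⟩, hzc⟩
  have hN := hS _ hPab
  have hpr : ∀ K : Subgroup (P : Subgroup G), K ≠ ⊤ → IsMulCommutative K := by
    intro K hK
    by_contra hKab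
    have hmapna : ¬ IsMulCommutative (K.map (P : Subgroup G).subtype) := fun hc => hKab
      ⟨⟨fun a b => Subtype.ext (Subtype.ext (congrArg Subtype.val (mul_comm'
        (⟨_, mem_map_of_mem _ a.2⟩ : K.map (P : Subgroup G).subtype) ⟨_, mem_map_of_mem _ b.2⟩) :))⟩⟩
    have h := hS _ hmapna
    have : Group.IsNilpotent (P : Subgroup G) := P.isPGroup'.isNilpotent
    have hlt := Group.normalizerCondition_of_isNilpotent K (lt_top_iff_ne_top.2 hK)
    refine hlt.not_ge fun g hg => ?_
    have : (g : G) ∈ normalizer ((K.map (P : Subgroup G).subtype : Subgroup G) : Set G) :=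
      le_normalizer_map _ ⟨g, hg, rfl⟩
    rw [h] at this
    obtain ⟨g', hg', he⟩ := this
    exact (Subtype.ext he : g' = g) ▸ hg'
  -- commutators in P are central of order dividing p
  have hP' : ⁅(P : Subgroup G), (P : Subgroup G)⁆ ≤
      (closure {c : (P : Subgroup G) | c ^ p = 1}).map (P : Subgroup G).subtype := by
    rw [commutator_le]
    intro a ha b hb
    let a' : (P : Subgroup G) := ⟨a, ha⟩
    let b' : (P : Subgroup G) := ⟨b, hb⟩
    exact ⟨⁅a', b'⁆, subset_closure (comm_central P.isPGroup' hpr a' b').2,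
      map_commutatorElement _ _ _⟩
  have hPN : ∀ R : Subgroup G, ⁅(P : Subgroup G), (P : Subgroup G)⁆ ≤ R →
      (P : Subgroup G) ⊓ ⁅Subgroup.normalizer ((P : Subgroup G) : Set G),
        Subgroup.normalizer ((P : Subgroup G) : Set G)⁆ ≤ R := fun R hR => by
    rw [hN]; exact inf_le_right.trans hR
  have hPP : ⁅(P : Subgroup G), (P : Subgroup G)⁆ ≤ (P : Subgroup G) :=
    commutator_le.2 fun a ha b hb => mul_mem (mul_mem (mul_mem ha hb) (inv_mem ha)) (inv_mem hb)
  have hcommP : ∀ w ∈ commutator (P : Subgroup G), w ∈ center (P : Subgroup G) ∧ w ^ p = 1 := by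
    intro w hw
    rw [commutator_eq_closure] at hw
    induction hw using Subgroup.closure_induction with
    | mem x hx =>
      obtain ⟨a, b, rfl⟩ := hx
      exact comm_central P.isPGroup' hpr a b
    | one => exact ⟨one_mem _, one_pow p⟩
    | mul x y _ _ hx hy =>
      have hxy : Commute x y := (mem_center_iff.1 hx.1 y).symm
      exact ⟨mul_mem hx.1 hy.1, by rw [hxy.mul_pow, hx.2, hy.2, one_mul]⟩
    | inv x _ hx => exact ⟨inv_mem hx.1, by rw [inv_pow, hx.2, inv_one]⟩
  -- P is generated by elements of order p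
  set Ω := (closure {c : (P : Subgroup G) | c ^ p = 1}).map (P : Subgroup G).subtype with hΩ
  have hall : (P : Subgroup G) ≤ Ω := by
    intro a ha
    refine Cfsg.Agent.S4216.gruen P Ω (map_subtype_le _) (hPN Ω hP') (fun g => ?_) a
      (Subgroup.mem_inf.2 ⟨ha, hperf ▸ mem_top a⟩)
    intro w hw
    obtain ⟨hwP, v, hv, rfl⟩ := Subgroup.mem_inf.1 hw
    refine ⟨⟨_, hwP⟩, subset_closure (Subtype.ext ?_), rfl⟩
    show (g * v * g⁻¹) ^ p = 1
    have hvp : v ^ p = 1 := by
      have hvc : v ∈ (commutator (P : Subgroup G)).map (P : Subgroup G).subtype := by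
        rwa [_root_.commutator_def, map_commutator, ← MonoidHom.range_eq_map, range_subtype]
      obtain ⟨v', hv', rfl⟩ := hvc
      exact congrArg Subtype.val (hcommP v' hv').2
    rw [conj_pow, hvp, mul_one, mul_inv_cancel]
  -- two noncommuting elements of order p
  obtain ⟨u, v, hu, hv, huv⟩ : ∃ u v : (P : Subgroup G), u ^ p = 1 ∧ v ^ p = 1 ∧ u * v ≠ v * u := by
    by_contra hcon
    push Not at hcon
    apply hPab
    have hab : IsMulCommutative (closure {c : (P : Subgroup G) | c ^ p = 1}) :=
      Subgroup.isMulCommutative_closure fun a ha b hb => hcon a b ha hb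
    refine ⟨⟨fun a b => ?_⟩⟩
    obtain ⟨a', ha', hae⟩ := hall a.2
    obtain ⟨b', hb', hbe⟩ := hall b.2
    have ea : a' = a := Subtype.ext hae
    have eb : b' = b := Subtype.ext hbe
    subst ea eb
    exact congrArg Subtype.val (mul_comm' (⟨a', ha'⟩ : closure {c : (P : Subgroup G) | c ^ p = 1})
      ⟨b', hb'⟩)
  set c := ⁅u, v⁆ with hc
  obtain ⟨hcc, hcp⟩ := comm_central P.isPGroup' hpr u v
  have hc1 : c ≠ 1 := fun h => huv (commutatorElement_eq_one_iff_mul_comm.1 h)
  have hgen : closure ({u, v} : Set (P : Subgroup G)) = ⊤ := by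
    by_contra h
    have := hpr _ h
    exact huv (congrArg Subtype.val (mul_comm'
      (⟨u, subset_closure (Or.inl rfl)⟩ : closure ({u, v} : Set (P : Subgroup G)))
      ⟨v, subset_closure (Or.inr rfl)⟩))
  set K := zpowers v ⊔ zpowers c with hK
  have : (zpowers c).Normal := ⟨fun w hw g => by
    obtain ⟨i, rfl⟩ := mem_zpowers_iff.1 hw
    rw [← conj_zpow, mem_center_iff.1 hcc g, mul_inv_cancel_right]
    exact zpow_mem (mem_zpowers c) i⟩
  have huvc : u * v * u⁻¹ = c * v := by rw [hc, commutatorElement_def]; group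
  have hKn : K.Normal := by
    rw [← normalizer_eq_top_iff, eq_top_iff, ← hgen, closure_le]
    intro g hg
    rcases hg with rfl | rfl
    · have hle : K.map (MulAut.conj g).toMonoidHom = K := by
        refine Subgroup.eq_of_le_of_card_ge ?_ (by
          rw [Subgroup.card_map_of_injective (MulAut.conj g).injective])
        rw [hK, Subgroup.map_sup, sup_le_iff, MonoidHom.map_zpowers, MonoidHom.map_zpowers,
          zpowers_le, zpowers_le]
        refine ⟨?_, ?_⟩
        · show g * v * g⁻¹ ∈ _
          rw [huvc]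
          exact mul_mem (mem_sup_right (mem_zpowers c)) (mem_sup_left (mem_zpowers v))
        · show g * c * g⁻¹ ∈ _
          rw [mem_center_iff.1 hcc g, mul_inv_cancel_right]
          exact mem_sup_right (mem_zpowers c)
      rw [SetLike.mem_coe, Subgroup.mem_normalizer_iff]
      intro w
      constructor
      · intro hw
        rw [← hle]
        exact ⟨w, hw, rfl⟩
      · intro hw
        rw [← hle] at hw
        obtain ⟨w', hw', he⟩ := hw
        exact (MulAut.conj g).injective he ▸ hw'
    · exact le_normalizer (mem_sup_left (mem_zpowers g))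
  have hKv : ∀ k ∈ K, Commute k v := by
    intro k hk
    obtain ⟨a, ha, b, hb, rfl⟩ := mem_sup_of_normal_right.1 hk
    obtain ⟨i, rfl⟩ := mem_zpowers_iff.1 ha
    obtain ⟨j, rfl⟩ := mem_zpowers_iff.1 hb
    have hcv0 : Commute c v := (mem_center_iff.1 hcc v).symm
    exact ((Commute.refl v).zpow_left i).mul_left (hcv0.zpow_left j)
  set z' : (P : Subgroup G) := ⟨z, hzP⟩ with hz'
  have hz'c : ∀ g, g * z' = z' * g := fun g => Subtype.ext (mem_center_iff.1 hzc g)
  have hztop : z' ∈ zpowers u ⊔ K := by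
    have : zpowers u ⊔ K = ⊤ := by
      rw [eq_top_iff, ← hgen, closure_le]
      rintro g (rfl | rfl)
      · exact mem_sup_left (mem_zpowers g)
      · exact mem_sup_right (mem_sup_left (mem_zpowers g))
    rw [this]; exact mem_top _
  obtain ⟨a, ha, k, hk, hak⟩ := mem_sup_of_normal_right.1 hztop
  obtain ⟨i, rfl⟩ := mem_zpowers_iff.1 ha
  have hcu : Commute c u := (mem_center_iff.1 hcc u).symm
  have hcv : Commute c v := (mem_center_iff.1 hcc v).symm
  -- u^i commutes with v
  have huiv : Commute (u ^ i) v := by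
    rw [show u ^ i = z' * k⁻¹ by rw [← hak, mul_inv_cancel_right]]
    exact Commute.mul_left (hz'c v).symm (hKv k hk).inv_left
  have hpc : orderOf c = p := orderOf_eq_prime hcp hc1
  have hdvd : (p : ℤ) ∣ i := by
    have e : v * u * v⁻¹ = c⁻¹ * u := by rw [hc, commutatorElement_def]; group
    have e2 : v * u ^ i * v⁻¹ = c⁻¹ ^ i * u ^ i := by rw [← conj_zpow, e, hcu.inv_left.mul_zpow]
    rw [huiv.symm.eq, mul_inv_cancel_right, right_eq_mul, inv_zpow, inv_eq_one] at e2
    rw [← hpc]
    exact orderOf_dvd_iff_zpow_eq_one.2 e2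
  have hzK : z' ∈ K := by
    obtain ⟨d, rfl⟩ := hdvd
    rw [zpow_mul, zpow_natCast, hu, one_zpow, one_mul] at hak
    exact hak ▸ hk
  obtain ⟨a, ha, b, hb, hab⟩ := mem_sup_of_normal_right.1 hzK
  obtain ⟨j, rfl⟩ := mem_zpowers_iff.1 ha
  have hvju : Commute (v ^ j) u := by
    rw [show v ^ j = z' * b⁻¹ by rw [← hab, mul_inv_cancel_right]]
    obtain ⟨l, rfl⟩ := mem_zpowers_iff.1 hb
    exact Commute.mul_left (hz'c u).symm (hcu.zpow_left l).inv_left
  have hdvdj : (p : ℤ) ∣ j := by
    have e2 : u * v ^ j * u⁻¹ = c ^ j * v ^ j := by rw [← conj_zpow, huvc, hcv.mul_zpow]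
    rw [hvju.symm.eq, mul_inv_cancel_right, right_eq_mul] at e2
    rw [← hpc]
    exact orderOf_dvd_iff_zpow_eq_one.2 e2
  have hzC : z' ∈ zpowers c := by
    obtain ⟨d, rfl⟩ := hdvdj
    rw [zpow_mul, zpow_natCast, hv, one_zpow, one_mul] at hab
    exact hab ▸ hb
  -- hence c is central in G
  have hceq : zpowers z' = zpowers c := Subgroup.eq_of_le_of_card_ge (zpowers_le.2 hzC)
    (by rw [Nat.card_zpowers, Nat.card_zpowers, hpc, hz', Subgroup.orderOf_mk, hzo])
  have hcG : ((c : (P : Subgroup G)) : G) ∈ center G := by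
    obtain ⟨l, hl⟩ := mem_zpowers_iff.1 (hceq ▸ mem_zpowers c : c ∈ zpowers z')
    rw [← hl]
    simpa [hz'] using zpow_mem hzc l
  set R := (zpowers c).map (P : Subgroup G).subtype with hR
  have hcommR : ⁅(P : Subgroup G), (P : Subgroup G)⁆ ≤ R := by
    have h1 : commutator (P : Subgroup G) ≤ zpowers c := by
      rw [_root_.commutator_def, commutator_le]
      intro a _ b _
      rw [← QuotientGroup.eq_one_iff, ← QuotientGroup.mk'_apply, map_commutatorElement,
        commutatorElement_eq_one_iff_mul_comm]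
      have hgen' : closure {QuotientGroup.mk' (zpowers c) u, QuotientGroup.mk' (zpowers c) v} = ⊤ := by
        rw [← Set.image_pair, ← MonoidHom.map_closure, hgen,
          map_top_of_surjective _ (QuotientGroup.mk'_surjective _)]
      have hcomm : IsMulCommutative
          (closure {QuotientGroup.mk' (zpowers c) u, QuotientGroup.mk' (zpowers c) v}) := by
        refine Subgroup.isMulCommutative_closure ?_
        have e : QuotientGroup.mk' (zpowers c) u * QuotientGroup.mk' (zpowers c) v =
            QuotientGroup.mk' (zpowers c) v * QuotientGroup.mk' (zpowers c) u := by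
          rw [← commutatorElement_eq_one_iff_mul_comm, ← map_commutatorElement,
            QuotientGroup.mk'_apply, QuotientGroup.eq_one_iff]
          exact mem_zpowers c
        rintro x (rfl | rfl) y (rfl | rfl)
        exacts [rfl, e, e.symm, rfl]
      exact congrArg Subtype.val (mul_comm'
        (⟨QuotientGroup.mk' (zpowers c) a, hgen' ▸ mem_top _⟩ :
          closure {QuotientGroup.mk' (zpowers c) u, QuotientGroup.mk' (zpowers c) v})
        ⟨QuotientGroup.mk' (zpowers c) b, hgen' ▸ mem_top _⟩)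
    refine le_trans (le_of_eq ?_) (map_mono h1)
    rw [_root_.commutator_def, map_commutator, ← MonoidHom.range_eq_map, range_subtype]
  apply hPab
  have hPR : (P : Subgroup G) ≤ R := fun a ha =>
    Cfsg.Agent.S4216.gruen P R (map_subtype_le _) (hPN R hcommR) (fun g w hw => by
      obtain ⟨-, v', hv', rfl⟩ := Subgroup.mem_inf.1 hw
      have hv'R := hcommR hv'
      show g * v' * g⁻¹ ∈ R
      obtain ⟨x, hx, rfl⟩ := hv'R
      obtain ⟨l, rfl⟩ := mem_zpowers_iff.1 hx
      have : ((P : Subgroup G).subtype (c ^ l)) ∈ center G := by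
        rw [map_zpow]; exact zpow_mem hcG l
      rw [mem_center_iff.1 this g, mul_inv_cancel_right]
      exact ⟨_, zpow_mem (mem_zpowers c) l, rfl⟩) a (Subgroup.mem_inf.2 ⟨ha, hperf ▸ mem_top a⟩)
  refine ⟨⟨fun a b => Subtype.ext ?_⟩⟩
  obtain ⟨x, hx, hxe⟩ := hPR a.2
  obtain ⟨l, rfl⟩ := mem_zpowers_iff.1 hx
  show (a : G) * b = b * a
  rw [← hxe, map_zpow]
  exact (mem_center_iff.1 (zpow_mem hcG l) b).symm


/-- A finite group in which every non-abelian subgroup is self-normalizing is solvable or simple. -/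
theorem result {G : Type*} [Group G] [Finite G] (hS : ∀ H : Subgroup G, ¬ IsMulCommutative H → Subgroup.normalizer (H : Set G) = H) :
    Group.IsSolvable G ∨ IsSimpleGroup G := by
  rcases subsingleton_or_nontrivial G with hG | hG
  · exact Or.inl inferInstance
  by_cases hperf : commutator G = ⊤
  · right
    have hab : ∀ N : Subgroup G, N.Normal → N ≠ ⊤ → IsMulCommutative N := fun N hN hT => by
      by_contra h
      exact hT ((hS N h).symm.trans (@normalizer_eq_top G _ N hN))
    refine ⟨fun N hN => ?_⟩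
    by_contra hcon
    rw [not_or] at hcon
    obtain ⟨hN1, hNT⟩ := hcon
    obtain ⟨M, hNM, hMmax⟩ := (Set.toFinite {K : Subgroup G | K.Normal ∧ K ≠ ⊤}).exists_le_maximal
      (a := N) ⟨hN, hNT⟩
    obtain ⟨hMn, hMT⟩ := hMmax.1
    have := hMn
    have hmax : ∀ K : Subgroup G, K.Normal → M ≤ K → K ≠ ⊤ → K = M := fun K hK hle hKT =>
      le_antisymm (hMmax.2 ⟨hK, hKT⟩ hle) hle
    have hcen := le_center_of_perfect hS hperf M hMT hmax (hab M hMn hMT)
    exact hN1 (le_bot_iff.1 (hNM.trans (eq_bot_of_central_perfect hS hperf M hcen).le))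
  · left
    have habC : IsMulCommutative (commutator G) := by
      by_contra h
      exact hperf ((hS _ h).symm.trans (normalizer_eq_top (commutator G)))
    rw [Group.isSolvable_def]
    refine ⟨2, ?_⟩
    rw [derivedSeries_succ, derivedSeries_one, eq_bot_iff, Subgroup.commutator_le]
    intro a ha b hb
    rw [Subgroup.mem_bot, commutatorElement_eq_one_iff_mul_comm]
    exact congrArg Subtype.val (mul_comm' (⟨a, ha⟩ : commutator G) ⟨b, hb⟩)

end Cfsg.Agent.S4072
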