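import Cfsg.Statements.S4075
import Cfsg.Agent.Lib.FGS.Covering
import Mathlib.GroupTheory.Nilpotent

set_option autoImplicit false
open Cfsg

namespace Cfsg.Agent.S4075

/-- Let G be a finite nilpotent group. Every non-abelian subgroup of G is self-normalizing if and only if G is abelian or G is a minimal non-abelian p-group for some prime p (non-abelian of prime-power order with every proper subgroup abelian). -/
theorem result {G : Type*} [Group G] [Finite G]
    [Group.IsNilpotent G] :
    (∀ H : Subgroup G, ¬ IsMulCommutative H → Subgroup.normalizer (H : Set G) = H) ↔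
    (IsMulCommutative G ∨ (IsPrimePow (Nat.card G) ∧ ¬ IsMulCommutative G ∧ ∀ H : Subgroup G, H ≠ ⊤ → IsMulCommutative H)) := by
  classical
  constructor
  · intro h
    by_cases hab : IsMulCommutative G
    · exact Or.inl hab
    refine Or.inr ?_
    have hprop : ∀ H : Subgroup G, H ≠ ⊤ → IsMulCommutative H := by
      intro H hH
      by_contra hne
      exact hH (normalizerCondition_iff_only_full_group_self_normalizing.1
        Group.normalizerCondition_of_isNilpotent H (h H hne))
    refine ⟨?_, hab, hprop⟩
    by_contra hpp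
    refine hab ⟨⟨fun g₁ g₂ => ?_⟩⟩
    suffices hh : g₁ ∈ Subgroup.centralizer ({g₂} : Set G) from Subgroup.mem_centralizer_singleton_iff.1 hh
    refine CfsgLib.FGS.mem_of_prime_powers _ g₁ ?_
    rintro a ⟨p, i, hp, hi⟩
    rw [Subgroup.mem_centralizer_singleton_iff]
    suffices hh : g₂ ∈ Subgroup.centralizer ({g₁ ^ a} : Set G) from
      (Subgroup.mem_centralizer_singleton_iff.1 hh).symm
    refine CfsgLib.FGS.mem_of_prime_powers _ g₂ ?_
    rintro b ⟨q, j, hq, hj⟩
    rw [Subgroup.mem_centralizer_singleton_iff]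
    haveI := Fact.mk hp
    haveI := Fact.mk hq
    obtain ⟨P, hP⟩ := (CfsgLib.FGS.isPGroup_zpowers hi).exists_le_sylow
    obtain ⟨Q, hQ⟩ := (CfsgLib.FGS.isPGroup_zpowers hj).exists_le_sylow
    have hPn : (P : Subgroup G).Normal := Sylow.normal_of_normalizerCondition Group.normalizerCondition_of_isNilpotent P
    have hQn : (Q : Subgroup G).Normal := Sylow.normal_of_normalizerCondition Group.normalizerCondition_of_isNilpotent Q
    have hxP := hP (Subgroup.mem_zpowers (g₁ ^ a))
    have hzQ := hQ (Subgroup.mem_zpowers (g₂ ^ b))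
    by_cases hpq : p = q
    · subst hpq
      haveI := hPn
      haveI : Subsingleton (Sylow p G) := @Unique.instSubsingleton _ (Sylow.unique_of_normal P hPn)
      have hne : (P : Subgroup G) ≠ ⊤ := by
        intro e
        obtain ⟨n, hn⟩ := P.isPGroup'.exists_card_eq
        rw [e, Subgroup.card_top] at hn
        rcases Nat.eq_zero_or_pos n with rfl | hn0
        · haveI : Subsingleton G := (Nat.card_eq_one_iff_unique.1 (by simpa using hn)).1
          exact hab ⟨⟨fun x y => Subsingleton.elim _ _⟩⟩
        · exact hpp (hn ▸ hp.isPrimePow.pow hn0.ne')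
      have hzP : g₂ ^ b ∈ (P : Subgroup G) := Subsingleton.elim Q P ▸ hzQ
      exact congrArg Subtype.val ((hprop _ hne).is_comm.comm (⟨_, hzP⟩ : (P : Subgroup G)) ⟨_, hxP⟩)
    · exact (Subgroup.commute_of_normal_of_disjoint _ _ hQn hPn
        (IsPGroup.disjoint_of_ne q p (Ne.symm hpq) _ _ Q.isPGroup' P.isPGroup') _ _ hzQ hxP).eq
  · rintro (hab | ⟨-, -, hprop⟩) H hH
    · exact absurd ⟨⟨fun x y => Subtype.ext (hab.is_comm.comm (x : G) y)⟩⟩ hH
    · by_cases hT : H = ⊤
      · rw [hT]; exact top_le_iff.1 (Subgroup.le_normalizer)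
      · exact absurd (hprop H hT) hH

end Cfsg.Agent.S4075
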