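import Cfsg.Statements.S0042
import Cfsg.Agent.Lib.FGS.ThompsonKernel
import Cfsg.Agent.Lib.Solvable.FrobeniusTheorem

set_option autoImplicit false
open Cfsg

namespace Cfsg.Agent.S0042

/-- In a finite Frobenius group, the Frobenius kernel is (the carrier of) a normal subgroup which is nilpotent. -/
theorem result {G : Type*} [Group G] [Finite G] (H : Subgroup G) (hH : Cfsg.IsFrobeniusComplement H) :
    ∃ N : Subgroup G, (N : Set G) = Cfsg.frobeniusKernel H ∧ N.Normal ∧ Group.IsNilpotent N := by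
  obtain ⟨N, hNk, hNn, hc⟩ := CfsgLib.Solvable.frobenius_theorem hH
  haveI := hNn
  refine ⟨N, hNk, hNn, ?_⟩
  have hN1 : N ≠ ⊥ := by
    rintro rfl
    exact hH.2.1 (by simpa using hc)
  have hfpf := (CfsgLib.Solvable.isFrobeniusComplement_iff_fpf hc hN1 hH.1).1 hH
  obtain ⟨r, hr, hrd⟩ := Nat.exists_prime_and_dvd (fun h => hH.1 (Subgroup.eq_bot_of_card_eq H h))
  haveI := Fact.mk hr
  obtain ⟨h, hh⟩ := exists_prime_orderOf_dvd_card' (G := H) r hrd
  refine CfsgLib.FGS.isNilpotent_of_fpf_element N hr (h := (h : G)) (by rw [Subgroup.orderOf_coe, hh])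
    fun n hn hnc => ?_
  refine Subgroup.mem_bot.1 ((hfpf h h.2 ?_).le ⟨hn, Subgroup.mem_centralizer_singleton_iff.2 hnc⟩)
  intro e
  rw [← Subgroup.orderOf_coe, e, orderOf_one] at hh
  exact hr.ne_one hh.symm

end Cfsg.Agent.S0042
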