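import Cfsg.Statements.S1514
import Cfsg.Agent.Lib.Char.TI

set_option autoImplicit false
open Cfsg

namespace Cfsg.Agent.S1514

/-- Let S be a nonempty set of irreducible characters of the finite group L, closed under complex conjugation and containing no real-valued member, and τ a linear isometry on the integer combinations of S vanishing at 1, with values virtual characters of G vanishing at 1. Then there is a choice R making (S, τ, R) a coherence system. -/
theorem result {L : Type*} [Group L] [Fintype L] {G : Type*} [Group G] [Fintype G] (S : Set (L → ℂ)) (hS : S.Nonempty) (hirr : ∀ χ ∈ S, Cfsg.IsIrrCharacter L χ) (hconj : ∀ χ ∈ S, Cfsg.conjFun χ ∈ S ∧ Cfsg.conjFun χ ≠ χ) (τ : (L → ℂ) → (G → ℂ)) (hτ : Cfsg.IsLinearIsometryOn (Cfsg.zspanOn S {1}ᶜ) τ) (hτ1 : ∀ α ∈ Cfsg.zspanOn S {1}ᶜ, τ α 1 = 0) : ∃ R : (L → ℂ) → Finset (G → ℂ), Cfsg.IsCoherenceSystem S τ R := by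
  open CfsgLib.Char in
  classical
  obtain ⟨hadd, hsmul, hinner, hgen⟩ := hτ
  have horth : ∀ χ ∈ S, ∀ φ ∈ S, χ ≠ φ → Cfsg.classInner χ φ = 0 := fun χ hχ φ hφ h =>
    classInner_irr_ne (hirr χ hχ) (hirr φ hφ) h
  have hmem : ∀ χ ∈ S, χ - Cfsg.conjFun χ ∈ Cfsg.zspanOn S {1}ᶜ := fun χ hχ =>
    ⟨Submodule.sub_mem _ (Submodule.subset_span hχ) (Submodule.subset_span (hconj χ hχ).1),
      fun x hx => by
        have : x = 1 := by simpa using hx
        subst this
        simp [Cfsg.conjFun, char_conj_one (isCharacter_of_isIrr (hirr χ hχ))]⟩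
  have hex : ∀ χ ∈ S, ∃ a b : Cfsg.IrrCharacter G, a ≠ b ∧
      τ (χ - Cfsg.conjFun χ) = (a : G → ℂ) - b := by
    intro χ hχ
    refine gen_norm_two (hgen _ (hmem χ hχ)) ?_ (hτ1 _ (hmem χ hχ))
    rw [hinner _ (hmem χ hχ) _ (hmem χ hχ), classInner_sub_left, classInner_sub_right,
      classInner_sub_right, classInner_irr_self (hirr χ hχ),
      classInner_irr_self (hirr _ (hconj χ hχ).1),
      classInner_irr_ne (hirr χ hχ) (hirr _ (hconj χ hχ).1) (Ne.symm (hconj χ hχ).2),
      classInner_irr_ne (hirr _ (hconj χ hχ).1) (hirr χ hχ) (hconj χ hχ).2]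
    norm_num
  let R : (L → ℂ) → Finset (G → ℂ) := fun χ => if h : χ ∈ S then
    {((hex χ h).choose : G → ℂ), -((hex χ h).choose_spec.choose : G → ℂ)} else ∅
  have hR : ∀ χ (h : χ ∈ S), ∃ a b : Cfsg.IrrCharacter G, a ≠ b ∧
      τ (χ - Cfsg.conjFun χ) = (a : G → ℂ) - b ∧ R χ = {(a : G → ℂ), -(b : G → ℂ)} := fun χ h =>
    ⟨_, _, (hex χ h).choose_spec.choose_spec.1, (hex χ h).choose_spec.choose_spec.2, dif_pos h⟩
  have hneg : ∀ a b : Cfsg.IrrCharacter G, (a : G → ℂ) ≠ -(b : G → ℂ) := by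
    intro a b h
    obtain ⟨m, hm, hm'⟩ := exists_degree_pos a.2
    obtain ⟨n, hn, hn'⟩ := exists_degree_pos b.2
    have := congrFun h 1
    rw [Pi.neg_apply, hm', hn', eq_neg_iff_add_eq_zero] at this
    have : m + n = 0 := by exact_mod_cast this
    omega
  refine ⟨R, hS, fun χ hχ => isCharacter_of_isIrr (hirr χ hχ), fun χ hχ => (hconj χ hχ).1,
    fun χ hχ => (hconj χ hχ).2, ⟨hadd, hsmul, hinner, hgen⟩, hτ1, horth, ?_, ?_, ?_, ?_⟩
  · intro χ hχ α hα β hβ
    obtain ⟨a, b, hab, -, hRe⟩ := hR χ hχ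
    rw [hRe, Finset.mem_insert, Finset.mem_singleton] at hα hβ
    rcases hα with rfl | rfl <;> rcases hβ with rfl | rfl
    · rw [if_pos rfl, classInner_irr_self a.2]
    · rw [if_neg (hneg a b), classInner_neg_right,
        classInner_irr_ne a.2 b.2 fun e => hab (Subtype.ext e), neg_zero]
    · rw [if_neg (hneg a b).symm, classInner_neg_left,
        classInner_irr_ne b.2 a.2 fun e => hab (Subtype.ext e.symm), neg_zero]
    · rw [if_pos rfl, classInner_neg_left, classInner_neg_right, neg_neg, classInner_irr_self b.2]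
  · intro χ hχ α hα
    obtain ⟨a, b, -, -, hRe⟩ := hR χ hχ
    rw [hRe, Finset.mem_insert, Finset.mem_singleton] at hα
    rcases hα with rfl | rfl
    · exact isGen_of_irr a.2
    · exact isGen_neg (isGen_of_irr b.2)
  · intro χ hχ
    obtain ⟨a, b, -, he, hRe⟩ := hR χ hχ
    rw [he, hRe, Finset.sum_pair (hneg a b), sub_eq_add_neg]
  · intro χ hχ φ hφ h1 h2 α hα β hβ
    obtain ⟨a, b, hab, he, hRe⟩ := hR χ hχ
    obtain ⟨c, d, hcd, he', hRe'⟩ := hR φ hφ
    have h3 := hinner _ (hmem φ hφ) _ (hmem χ hχ)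
    have hz : Cfsg.classInner (φ - Cfsg.conjFun φ) (χ - Cfsg.conjFun χ) = 0 := by
      have e1 : Cfsg.classInner (Cfsg.conjFun φ) χ = 0 := by
        refine horth _ (hconj φ hφ).1 _ hχ fun e => ?_
        have : φ = Cfsg.conjFun χ := by funext x; simp [← e, Cfsg.conjFun]
        rw [← this, classInner_irr_self (hirr φ hφ)] at h2
        exact one_ne_zero h2
      have e2 : Cfsg.classInner (Cfsg.conjFun φ) (Cfsg.conjFun χ) = 0 := by
        refine horth _ (hconj φ hφ).1 _ (hconj χ hχ).1 fun e => ?_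
        have : φ = χ := by
          funext x
          have := congrFun e x
          exact (starRingEnd ℂ).injective this
        rw [this, classInner_irr_self (hirr χ hχ)] at h1
        exact one_ne_zero h1
      simp [classInner_sub_left, classInner_sub_right, h1, h2, e1, e2]
    rw [he, he', hz, irr_sub_inner] at h3
    have hne : c ≠ a ∧ c ≠ b ∧ d ≠ a ∧ d ≠ b := by
      refine ⟨fun x1 => ?_, fun x2 => ?_, fun x3 => ?_, fun x4 => ?_⟩
      · subst x1
        rw [if_pos rfl, if_neg hab, if_neg (Ne.symm hcd)] at h3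
        split_ifs at h3 <;> norm_num at h3
      · subst x2
        rw [if_pos rfl, if_neg (Ne.symm hab), if_neg (Ne.symm hcd)] at h3
        split_ifs at h3 <;> norm_num at h3
      · subst x3
        rw [if_pos rfl, if_neg hab, if_neg hcd] at h3
        split_ifs at h3 <;> norm_num at h3
      · subst x4
        rw [if_pos rfl, if_neg (Ne.symm hab), if_neg hcd] at h3
        split_ifs at h3 <;> norm_num at h3
    rw [hRe', Finset.mem_insert, Finset.mem_singleton] at hα
    rw [hRe, Finset.mem_insert, Finset.mem_singleton] at hβ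
    have hi : ∀ p q : Cfsg.IrrCharacter G, p ≠ q → Cfsg.classInner (p : G → ℂ) q = 0 :=
      fun p q h => classInner_irr_ne p.2 q.2 fun e => h (Subtype.ext e)
    rcases hα with rfl | rfl <;> rcases hβ with rfl | rfl <;>
      simp [classInner_neg_left, classInner_neg_right, hi _ _ hne.1, hi _ _ hne.2.1,
        hi _ _ hne.2.2.1, hi _ _ hne.2.2.2]

end Cfsg.Agent.S1514
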