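import Cfsg.Statements.S1536
import Cfsg.Agent.Lib.OddChar.Coset
import Cfsg.Agent.Lib.Char.PermLemma
import Cfsg.Agent.Lib.CharNormal.Clifford

set_option autoImplicit false
open Cfsg

namespace Cfsg.Agent.S1536

/-- Let H be a normal subgroup of the finite group M whose order is coprime to its index. For x ∈ M: some non-principal irreducible character of H is unchanged under h ↦ θ(x h x⁻¹) if and only if some non-identity element of H commutes with x. -/
theorem result {M : Type*} [Group M] [Finite M] (H : Subgroup M) [hN : H.Normal] (hHall : Nat.Coprime (Nat.card H) H.index) (x : M) : (∃ θ : H → ℂ, Cfsg.IsIrrCharacter H θ ∧ θ ≠ (fun _ => 1) ∧ (fun h : H => θ ⟨x * h * x⁻¹, hN.conj_mem h h.2 x⟩) = θ) ↔ ∃ h ∈ H, h ≠ 1 ∧ x * h = h * x := by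
  open CfsgLib.CharNormal CfsgLib.Char in
  classical
  have := Fintype.ofFinite M
  have := Fintype.ofFinite H
  let e : MulAut H := MulAut.conjNormal x
  let σ : Cfsg.IrrCharacter H ≃ Cfsg.IrrCharacter H :=
    { toFun := conjIrr H x
      invFun := conjIrr H x⁻¹
      left_inv := fun θ => Subtype.ext (conjFun_inv_conjFun H x θ.1)
      right_inv := fun θ => Subtype.ext (conjFun_conjFun_inv H x θ.1) }
  let π : ConjClasses H ≃ ConjClasses H :=
    { toFun := ConjClasses.map e.symm.toMonoidHom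
      invFun := ConjClasses.map e.toMonoidHom
      left_inv := fun C => by
        obtain ⟨g, rfl⟩ := ConjClasses.mk_surjective C
        exact congrArg ConjClasses.mk (e.apply_symm_apply g)
      right_inv := fun C => by
        obtain ⟨g, rfl⟩ := ConjClasses.mk_surjective C
        exact congrArg ConjClasses.mk (e.symm_apply_apply g) }
  have hcard := card_fixed_eq σ π fun θ g g' hg => by
    show CfsgLib.CharNormal.conjFun H x θ.1 g' = θ.1 g
    rw [conjFun_eq_comp]
    have h1 : IsConj g' (e.symm g) := ConjClasses.mk_eq_mk_iff_isConj.mp hg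
    have h2 : IsConj (e g') g := by simpa using (MonoidHom.map_isConj e.toMonoidHom h1)
    exact isClassFunction_iff.mp (isClassFunction_of_isIrr θ.2) _ _ h2
  have hfix : (∃ θ : H → ℂ, Cfsg.IsIrrCharacter H θ ∧ θ ≠ (fun _ => 1) ∧
      (fun h : H => θ ⟨x * h * x⁻¹, hN.conj_mem h h.2 x⟩) = θ) ↔
      1 < Nat.card {θ : Cfsg.IrrCharacter H // σ θ = θ} := by
    rw [Finite.one_lt_card_iff_nontrivial]
    have h1 : σ irrOne = irrOne := Subtype.ext rfl
    constructor
    · rintro ⟨θ, hθ, hne, he⟩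
      exact ⟨⟨⟨⟨θ, hθ⟩, Subtype.ext he⟩, ⟨irrOne, h1⟩, fun h =>
        hne (congrArg (fun t => t.1.1) h)⟩⟩
    · intro hnt
      obtain ⟨⟨θ, hθ⟩, hne⟩ := exists_ne (⟨irrOne, h1⟩ : {θ : Cfsg.IrrCharacter H // σ θ = θ})
      exact ⟨θ.1, θ.2, fun h => hne (Subtype.ext (Subtype.ext h)), congrArg Subtype.val hθ⟩
  rw [hfix, hcard, Finite.one_lt_card_iff_nontrivial]
  have hπ1 : π (ConjClasses.mk 1) = ConjClasses.mk 1 := congrArg ConjClasses.mk (map_one e.symm)
  constructor
  · intro hnt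
    obtain ⟨⟨C, hC⟩, hne⟩ := exists_ne (⟨_, hπ1⟩ : {C : ConjClasses H // π C = C})
    obtain ⟨g, rfl⟩ := ConjClasses.mk_surjective C
    have hg1 : g ≠ 1 := fun h => hne (Subtype.ext (congrArg ConjClasses.mk h))
    obtain ⟨y, hy⟩ := isConj_iff.mp (ConjClasses.mk_eq_mk_iff_isConj.mp hC)
    -- split off the part of x of order prime to H
    set b := orderOf (x : M ⧸ H) with hb
    have hbn : b ∣ orderOf x := orderOf_map_dvd (QuotientGroup.mk' H) x
    have hxb : x ^ b ∈ H := by
      rw [← QuotientGroup.eq_one_iff, QuotientGroup.mk_pow, pow_orderOf_eq_one]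
    obtain ⟨d, hd⟩ := hbn
    have hd0 : d ≠ 0 := by
      rintro rfl
      rw [mul_zero] at hd
      exact (orderOf_pos x).ne' hd
    have hb0 : b ≠ 0 := (orderOf_pos _).ne'
    have hdH : d ∣ Nat.card H := by
      have h' := Subgroup.orderOf_dvd_natCard H hxb
      rwa [orderOf_pow' x hb0, hd, Nat.gcd_mul_right_left,
        Nat.mul_div_cancel_left _ (Nat.pos_of_ne_zero hb0)] at h'
    have hbI : b ∣ H.index := orderOf_dvd_natCard _
    have hbH : Nat.Coprime b (Nat.card H) := (hHall.coprime_dvd_right hbI).symm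
    obtain ⟨k, hk1, hk0⟩ := Nat.chineseRemainder (hbH.coprime_dvd_right hdH) 1 0
    have hx1 : x * (x ^ k)⁻¹ ∈ H := by
      have he : ((x : M ⧸ H)) ^ k = (x : M ⧸ H) := by
        conv_rhs => rw [← pow_one (x : M ⧸ H)]
        exact pow_eq_pow_iff_modEq.mpr hk1
      rw [← QuotientGroup.eq_one_iff, QuotientGroup.mk_mul, QuotientGroup.mk_inv,
        QuotientGroup.mk_pow, he, mul_inv_cancel]
    have hx2 : (x ^ k) ^ b = 1 := by
      rw [← pow_mul, ← orderOf_dvd_iff_pow_eq_one, hd, mul_comm b d]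
      exact Nat.mul_dvd_mul_right (Nat.modEq_zero_iff_dvd.mp hk0) b
    have hcop : Nat.Coprime (orderOf (x ^ k)) (Nat.card H) :=
      hbH.coprime_dvd_left (orderOf_dvd_of_pow_eq_one hx2)
    -- an element of the coset of x centralises g
    have hy' : (y : M) * (x⁻¹ * (g : M) * x) * (y : M)⁻¹ = g := by
      have hy'' := congrArg (Subtype.val : H → M) hy
      rw [Subgroup.coe_mul, Subgroup.coe_mul, Subgroup.coe_inv,
        show ((e.symm.toMonoidHom g : H) : M) = x⁻¹ * (g : M) * x from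
          MulAut.conjNormal_symm_apply x g] at hy''
      exact hy''
    set h0 : M := (y : M) * x⁻¹ with hh0
    have hh0g : Commute h0⁻¹ (g : M) := by
      refine (Commute.inv_left ?_)
      show h0 * (g : M) = (g : M) * h0
      calc h0 * (g : M) = (y : M) * (x⁻¹ * (g : M) * x) * (y : M)⁻¹ * h0 := by rw [hh0]; group
        _ = (g : M) * h0 := by rw [hy']
    have hh : h0⁻¹ * (x ^ k)⁻¹ ∈ H := by
      rw [hh0, show ((y : M) * x⁻¹)⁻¹ * (x ^ k)⁻¹ =
        (x * (y : M)⁻¹ * x⁻¹) * (x * (x ^ k)⁻¹) by group]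
      exact H.mul_mem (hN.conj_mem _ (H.inv_mem y.2) x) hx1
    obtain ⟨z, hz, c, hc, hcc, hzc⟩ := CfsgLib.OddChar.exists_conj_coset H (x ^ k)
      (by rw [Subgroup.normalizer_eq_top]; exact Subgroup.mem_top _) hcop hh
    rw [inv_mul_cancel_right] at hzc
    set g' : M := z * (g : M) * z⁻¹ with hg'
    have hg'H : g' ∈ H := hN.conj_mem _ g.2 z
    have hg'1 : g' ≠ 1 := fun h => hg1 (Subtype.ext (conj_eq_one_iff.mp h))
    have hcg : Commute (c * x ^ k) g' := by
      rw [← hzc, hg']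
      exact hh0g.map (MulAut.conj z).toMonoidHom
    obtain ⟨j, hj⟩ := CfsgLib.OddChar.exists_pow_of_coprime (G := M) hcop
    have hpow : (c * x ^ k) ^ j = x ^ k := by
      rw [hcc]
      refine hj (x ^ k) c hcc.symm (pow_orderOf_eq_one _) ?_
      exact orderOf_dvd_iff_pow_eq_one.mp (Subgroup.orderOf_dvd_natCard _ hc)
    have hxg : Commute (x ^ k) g' := hpow ▸ hcg.pow_left j
    by_cases hx10 : x * (x ^ k)⁻¹ = 1
    · refine ⟨g', hg'H, hg'1, ?_⟩
      rw [← eq_of_mul_inv_eq_one hx10] at hxg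
      exact hxg
    · exact ⟨_, hx1, hx10,
        ((Commute.refl x).mul_right ((Commute.refl x).pow_right k).inv_right : _)⟩
  · rintro ⟨h, hh, h1, hxh⟩
    refine ⟨⟨ConjClasses.mk ⟨h, hh⟩, congrArg ConjClasses.mk ?_⟩, ⟨_, hπ1⟩, fun he => h1 ?_⟩
    · refine e.injective ?_
      show e (e.symm _) = _
      rw [e.apply_symm_apply]
      ext
      show h = x * h * x⁻¹
      rw [hxh, mul_inv_cancel_right]
    · have := ConjClasses.mk_eq_mk_iff_isConj.mp (congrArg Subtype.val he)
      exact congrArg Subtype.val (isConj_one_left.mp this)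

end Cfsg.Agent.S1536
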