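import Cfsg.Statements.S0292
import Mathlib
import Cfsg.Agent.Lib.Classical.QuadPOmega
-- import your own Cfsg.Agent.* helpers here

set_option autoImplicit false
open Cfsg

namespace Cfsg.Agent.S0292

/-- 2 |PΩ_{2m+1}(q)| = q^(m^2) prod_{i=1}^{m} (q^(2i) - 1), for q odd and m at least 3 (type B_m). -/
theorem result {F : Type*} [Field F] [Fintype F] {q : ℕ} (hF : Fintype.card F = q) (hodd : Odd q) (m : ℕ) (hm : 3 ≤ m) : 2 * Nat.card (Cfsg.POmega F (Cfsg.quadFormOdd m F)) = q ^ (m ^ 2) * ∏ i ∈ Finset.range m, (q ^ (2 * (i + 1)) - 1) := by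
  subst hF
  have h2 := CfsgLib.Classical.two_ne_zero_of_odd_card (F := F) hodd
  have hc : Nat.card (Subgroup.center (Cfsg.Omega F ⇑(CfsgLib.Classical.qOdd m F))) = 1 := by
    rw [CfsgLib.Classical.center_Omega_qOdd hm h2, Subgroup.card_bot]
  have h := CfsgLib.Classical.card_POmega_mul (CfsgLib.Classical.qOdd m F) hc
    (CfsgLib.Classical.index_Omega_odd _ h2 (CfsgLib.Classical.polarNondeg_qOdd h2 m) (by simp; omega))
  rw [CfsgLib.Classical.card_qAut_qOdd, CfsgLib.Classical.card_qAut_line h2] at h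
  rw [← CfsgLib.Classical.coe_qOdd m F]
  linarith

end Cfsg.Agent.S0292
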