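import Cfsg.Statements.S5349
import Cfsg.Agent.Lib.ThreeTransp.Core
import Cfsg.Agent.Lib.Cores.Basic

set_option autoImplicit false
open Cfsg CfsgLib.ThreeTransp

namespace Cfsg.Agent.S5349

/-- Let D be a conjugacy class of 3-transpositions generating the finite group G, with at least two members, and d a member of D. Then the set of members of D commuting with exactly the same members of D as d coincides with the set of members of D lying in the coset of d modulo the largest normal 2-subgroup of G, and also with the orbit of d under conjugation by that normal 2-subgroup. -/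
theorem result {G : Type*} [Group G] [Finite G] {D : Set G} (hD : Cfsg.IsThreeTranspositionClass D) (hD2 : ∃ a ∈ D, ∃ b ∈ D, a ≠ b) {d : G} (hd : d ∈ D) : {v : G | v ∈ D ∧ ∀ e ∈ D, Commute v e ↔ Commute d e} = {v : G | v ∈ D ∧ d⁻¹ * v ∈ Cfsg.pCore 2 G} ∧ {v : G | v ∈ D ∧ ∀ e ∈ D, Commute v e ↔ Commute d e} = {v : G | ∃ g ∈ Cfsg.pCore 2 G, v = g * d * g⁻¹} := by
  classical
  have hT := isTT_of_class hD
  obtain ⟨d₀, -, hcl⟩ := hD.2.1
  have hV : ∀ v : G, (v ∈ D ∧ ∀ e ∈ D, Commute v e ↔ Commute d e) ↔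
      (v ∈ D ∧ perp D v = perp D d) := by
    intro v
    refine and_congr_right fun _ => ⟨fun h => Set.ext fun e => ?_, fun h e he => ?_⟩
    · exact ⟨fun he => ⟨he.1, (h e he.1).mp he.2⟩, fun he => ⟨he.1, (h e he.1).mpr he.2⟩⟩
    · exact ⟨IsTT.commute_of_perp_eq he h, IsTT.commute_of_perp_eq he h.symm⟩
  haveI : Fact (Nat.Prime 2) := ⟨Nat.prime_two⟩
  haveI hn := hT.keyKer_normal hT.equivariant_perp
  have hker : keyKer D (perp D) ≤ Cfsg.pCore 2 G := CfsgLib.Cores.le_pCore hT.perpKer_isPGroup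
  have hcore := CfsgLib.Cores.isPGroup_pCore (G := G) 2
  -- members in one coset of `O₂` have the same perp
  have hcos : ∀ v ∈ D, d * v ∈ Cfsg.pCore 2 G → ∀ e ∈ D, Commute v e ↔ Commute d e := by
    intro v hv hdv
    have key : ∀ u ∈ D, ∀ w ∈ D, u * w ∈ Cfsg.pCore 2 G → ∀ e ∈ D, Commute u e → Commute w e := by
      intro u hu w hw huw e he hue
      rcases hT.cond w hw e he with h | h
      · exact h
      refine hT.commute_of_mem_pGroup_two hcore hw he ?_
      have h3 := pow_three_eq_one (hT.sq w hw) (hT.sq e he) h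
      rw [← QuotientGroup.eq_one_iff]
      have heq : ((w * e : G) : G ⧸ Cfsg.pCore 2 G) = ((u * e : G) : G ⧸ Cfsg.pCore 2 G) := by
        rw [QuotientGroup.mk_mul, QuotientGroup.mk_mul]
        congr 1
        rw [eq_comm, QuotientGroup.eq, hT.inv_eq hu]
        exact huw
      have h2 : ((w * e : G) : G ⧸ Cfsg.pCore 2 G) ^ 2 = 1 := by
        rw [heq, ← QuotientGroup.mk_pow, hue.mul_pow, pow_two, pow_two, hT.sq u hu, hT.sq e he,
          one_mul, QuotientGroup.mk_one]
      have h3' : ((w * e : G) : G ⧸ Cfsg.pCore 2 G) ^ 3 = 1 := by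
        rw [← QuotientGroup.mk_pow, h3, QuotientGroup.mk_one]
      rw [pow_succ, h2, one_mul] at h3'
      exact h3'
    exact fun e he => ⟨key v hv d hd (by
      rw [show v * d = (d * v)⁻¹ by rw [mul_inv_rev, hT.inv_eq hv, hT.inv_eq hd]]
      exact Subgroup.inv_mem _ hdv) e he, key d hd v hv hdv e he⟩
  have hstep : ∀ v, (v ∈ D ∧ perp D v = perp D d) → ∃ g ∈ Cfsg.pCore 2 G, v = g * d * g⁻¹ := by
    rintro v ⟨hv, hvd⟩
    obtain ⟨x, hx, hdx⟩ : ∃ x ∈ D, ¬Commute d x := by
      by_contra hno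
      push Not at hno
      obtain ⟨a, ha, b, hb, hab⟩ := hD2
      have hc : ∀ g : G, Commute g d := fun g =>
        Subgroup.closure_induction (p := fun z _ => Commute z d) (fun z hz => (hno z hz).symm)
          (Commute.one_left d) (fun _ _ _ _ e1 e2 => e1.mul_left e2) (fun _ _ e1 => e1.inv_left)
          (hD.2.2 ▸ Subgroup.mem_top g : g ∈ Subgroup.closure D)
      have heq : ∀ u ∈ D, u = d := by
        intro u hu
        rw [hcl] at hu hd
        obtain ⟨g, rfl⟩ := isConj_iff.mp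
          ((show IsConj d₀ d from hd).symm.trans (show IsConj d₀ u from hu))
        rw [(hc g).eq, mul_inv_cancel_right]
      exact hab ((heq a ha).trans (heq b hb).symm)
    obtain ⟨g, hg, hge⟩ := hT.exists_conj_keyKer hd hv hx hdx (Or.inr fun hp =>
      hT.not_commute_cj_left hd hdx
        (IsTT.commute_of_perp_eq (hT.cj_mem hd hx) hvd hp.symm)) hn hvd
    exact ⟨g, hker hg, hge⟩
  refine ⟨?_, ?_⟩
  · ext v
    simp only [Set.mem_setOf_eq]
    refine ⟨fun h => ⟨h.1, ?_⟩, fun h => ⟨h.1, hcos v h.1 (by rw [hT.inv_eq hd] at h; exact h.2)⟩⟩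
    rw [hT.inv_eq hd]
    exact hker (mul_mem_keyKer hd h.1 ((hV v).mp h).2.symm)
  · ext v
    simp only [Set.mem_setOf_eq]
    refine ⟨fun h => hstep v ((hV v).mp h), ?_⟩
    rintro ⟨g, hg, rfl⟩
    refine ⟨hT.conj g d hd, hcos _ (hT.conj g d hd) ?_⟩
    have hnc : (Cfsg.pCore 2 G).Normal := inferInstance
    rw [show d * (g * d * g⁻¹) = (d * g * d⁻¹) * g⁻¹ by rw [hT.inv_eq hd]; group]
    exact Subgroup.mul_mem _ (hnc.conj_mem g hg d) (Subgroup.inv_mem _ hg)

end Cfsg.Agent.S5349
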