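import Cfsg.Statements.S5350
import Cfsg.Agent.Lib.ThreeTransp.Core
import Cfsg.Agent.Lib.Cores.Basic

set_option autoImplicit false
open Cfsg CfsgLib.ThreeTransp

namespace Cfsg.Agent.S5350

/-- Let D be a conjugacy class of 3-transpositions generating the finite group G, with at least two members, and d a member of D. Then the set of members w of D whose commuting partners in D (other than w) are exactly those of d (other than d) coincides with the set of members of D lying in the coset of d modulo the largest normal 3-subgroup of G, and also with the orbit of d under conjugation by that normal 3-subgroup. -/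
theorem result {G : Type*} [Group G] [Finite G] {D : Set G} (hD : Cfsg.IsThreeTranspositionClass D) (hD2 : ∃ a ∈ D, ∃ b ∈ D, a ≠ b) {d : G} (hd : d ∈ D) : {w : G | w ∈ D ∧ {y : G | y ∈ D ∧ y ≠ d ∧ Commute d y} = {y : G | y ∈ D ∧ y ≠ w ∧ Commute w y}} = {w : G | w ∈ D ∧ d⁻¹ * w ∈ Cfsg.pCore 3 G} ∧ {w : G | w ∈ D ∧ {y : G | y ∈ D ∧ y ≠ d ∧ Commute d y} = {y : G | y ∈ D ∧ y ≠ w ∧ Commute w y}} = {w : G | ∃ g ∈ Cfsg.pCore 3 G, w = g * d * g⁻¹} := by
  classical
  have hT := isTT_of_class hD
  obtain ⟨d₀, -, hcl⟩ := hD.2.1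
  haveI : Fact (Nat.Prime 3) := ⟨Nat.prime_three⟩
  haveI hn := hT.keyKer_normal hT.equivariant_link
  have hker : keyKer D (link D) ≤ Cfsg.pCore 3 G := CfsgLib.Cores.le_pCore hT.linkKer_isPGroup
  have hcore := CfsgLib.Cores.isPGroup_pCore (G := G) 3
  -- members in one coset of `O₃` have the same link
  have key : ∀ u ∈ D, ∀ w ∈ D, u * w ∈ Cfsg.pCore 3 G → link D u ⊆ link D w := by
    intro u hu w hw huw e he
    have hew : e ≠ w := fun h => he.2.1 <| by
      subst h
      exact (hT.eq_of_mem_pGroup_three hcore hu hw huw he.2.2).symm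
    refine ⟨he.1, hew, ?_⟩
    rcases hT.cond w hw e he.1 with h | h
    · exact h
    exfalso
    have h3 := pow_three_eq_one (hT.sq w hw) (hT.sq e he.1) h
    have heq : ((w * e : G) : G ⧸ Cfsg.pCore 3 G) = ((u * e : G) : G ⧸ Cfsg.pCore 3 G) := by
      rw [QuotientGroup.mk_mul, QuotientGroup.mk_mul]
      congr 1
      rw [eq_comm, QuotientGroup.eq, hT.inv_eq hu]
      exact huw
    have h2 : ((w * e : G) : G ⧸ Cfsg.pCore 3 G) ^ 2 = 1 := by
      rw [heq, ← QuotientGroup.mk_pow, he.2.2.mul_pow, pow_two, pow_two, hT.sq u hu,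
        hT.sq e he.1, one_mul, QuotientGroup.mk_one]
    have h3' : ((w * e : G) : G ⧸ Cfsg.pCore 3 G) ^ 3 = 1 := by
      rw [← QuotientGroup.mk_pow, h3, QuotientGroup.mk_one]
    rw [pow_succ, h2, one_mul, heq, QuotientGroup.eq_one_iff] at h3'
    exact he.2.1 (hT.eq_of_mem_pGroup_three hcore hu he.1 h3' he.2.2).symm
  have hcos : ∀ v ∈ D, d * v ∈ Cfsg.pCore 3 G → link D d = link D v := by
    intro v hv hdv
    refine Set.Subset.antisymm (key d hd v hv hdv) (key v hv d hd ?_)
    rw [show v * d = (d * v)⁻¹ by rw [mul_inv_rev, hT.inv_eq hv, hT.inv_eq hd]]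
    exact Subgroup.inv_mem _ hdv
  have hstep : ∀ v, v ∈ D → link D v = link D d → ∃ g ∈ Cfsg.pCore 3 G, v = g * d * g⁻¹ := by
    intro v hv hvd
    obtain ⟨x, hx, hdx⟩ : ∃ x ∈ D, ¬Commute d x := by
      by_contra hno
      push Not at hno
      obtain ⟨a, ha, b, hb, hab⟩ := hD2
      have hc : ∀ g : G, Commute g d := fun g =>
        Subgroup.closure_induction (p := fun z _ => Commute z d) (fun z hz => (hno z hz).symm)
          (Commute.one_left d) (fun _ _ _ _ e1 e2 => e1.mul_left e2) (fun _ _ e1 => e1.inv_left)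
          (hD.2.2 ▸ Subgroup.mem_top g : g ∈ Subgroup.closure D)
      have heq : ∀ u ∈ D, u = d := by
        intro u hu
        rw [hcl] at hu hd
        obtain ⟨g, rfl⟩ := isConj_iff.mp
          ((show IsConj d₀ d from hd).symm.trans (show IsConj d₀ u from hu))
        rw [(hc g).eq, mul_inv_cancel_right]
      exact hab ((heq a ha).trans (heq b hb).symm)
    have hp : d * x * d = v ∨ ¬Commute (d * x * d) v := by
      by_cases he : d * x * d = v
      · exact Or.inl he
      · refine Or.inr fun hc => ?_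
        have : d * x * d ∈ link D v := ⟨hT.cj_mem hd hx, he, hc.symm⟩
        rw [hvd] at this
        exact hT.not_commute_cj_left hd hdx this.2.2
    obtain ⟨g, hg, hge⟩ := hT.exists_conj_keyKer hd hv hx hdx hp hn hvd
    exact ⟨g, hker hg, hge⟩
  refine ⟨?_, ?_⟩
  · ext v
    refine ⟨fun h => ⟨h.1, ?_⟩, fun h => ⟨h.1, hcos v h.1 ?_⟩⟩
    · rw [hT.inv_eq hd]
      exact hker (mul_mem_keyKer hd h.1 h.2)
    · have := h.2; rwa [hT.inv_eq hd] at this
  · ext v
    refine ⟨fun h => hstep v h.1 h.2.symm, ?_⟩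
    rintro ⟨g, hg, rfl⟩
    refine ⟨hT.conj g d hd, hcos _ (hT.conj g d hd) ?_⟩
    have hnc : (Cfsg.pCore 3 G).Normal := inferInstance
    rw [show d * (g * d * g⁻¹) = (d * g * d⁻¹) * g⁻¹ by rw [hT.inv_eq hd]; group]
    exact Subgroup.mul_mem _ (hnc.conj_mem g hg d) (Subgroup.inv_mem _ hg)

end Cfsg.Agent.S5350
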