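import Cfsg.Statements.S2608
import Cfsg.Agent.Lib.KnownSimple.POAut.OutPlus

set_option autoImplicit false
open Cfsg CfsgLib.Classical CfsgLib.POAut

namespace Cfsg.Agent.S2608

/-- Outer automorphism group of PΩ⁺_2m(q), q = p^f odd: for m = 4 it is S_4 × C_f (triality); for m ≥ 5 it is C_2 × C_2 × C_f when q ≡ 3 (mod 4) and m is odd, and D_8 × C_f otherwise. -/
theorem result {F : Type*} [Field F] [Fintype F] {p f m : ℕ} [Fact p.Prime] (hf : 1 ≤ f) (hF : Fintype.card F = p ^ f) (hp : p ≠ 2) (hm : 4 ≤ m) : if m = 4 then Nonempty (Cfsg.Out (Cfsg.POmega F (Cfsg.quadFormPlus m F)) ≃* Equiv.Perm (Fin 4) × Multiplicative (ZMod f)) else if p ^ f % 4 = 3 ∧ Odd m then Nonempty (Cfsg.Out (Cfsg.POmega F (Cfsg.quadFormPlus m F)) ≃* Multiplicative (ZMod 2 × ZMod 2 × ZMod f)) else Nonempty (Cfsg.Out (Cfsg.POmega F (Cfsg.quadFormPlus m F)) ≃* DihedralGroup 4 × Multiplicative (ZMod f)) := by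
  have h2 : ringChar F ≠ 2 := fun hc => by
    rw [FiniteField.even_card_iff_char_two, hF] at hc
    have := ((Fact.out : p.Prime).odd_of_ne_two hp).pow (n := f)
    rw [Nat.odd_iff] at this
    omega
  obtain ⟨e₁⟩ := out_plus_equiv (F := F) hm
  by_cases h : m = 4
  · subst h
    rw [if_pos rfl]
    obtain ⟨e₂⟩ := (out_D4 (F := F) hF hf).2 h2
    exact ⟨e₁.trans e₂⟩
  rw [if_neg h]
  have := out_plus_odd (F := F) hF hf hp (show 5 ≤ m by omega)
  by_cases hc : p ^ f % 4 = 3 ∧ Odd m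
  · rw [if_pos hc] at this ⊢
    obtain ⟨e₂⟩ := this
    let ea : ((ZMod 2 × ZMod 2) × ZMod f) ≃+ (ZMod 2 × ZMod 2 × ZMod f) := AddEquiv.prodAssoc
    exact ⟨(e₁.trans e₂).trans ((MulEquiv.prodMultiplicative (ZMod 2 × ZMod 2) (ZMod f)).symm.trans
      ea.toMultiplicative)⟩
  · rw [if_neg hc] at this ⊢
    obtain ⟨e₂⟩ := this
    exact ⟨e₁.trans e₂⟩

end Cfsg.Agent.S2608
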