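import Cfsg.Statements.S2761
import Cfsg.Agent.Lib.LocalEven.QdOver
import Mathlib.Data.ZMod.Basic

set_option autoImplicit false
open Cfsg

namespace Cfsg.Agent.S2761

private theorem card_sl_two_two : Nat.card (Matrix.SpecialLinearGroup (Fin 2) (ZMod 2)) = 6 := by
  rw [Nat.card_eq_fintype_card]
  decide

/-- The group Qd(2), the natural semidirect product of an elementary abelian group of order 4 by SL₂(2) (realised as the affine subgroup of SL₃(2)), is isomorphic to the symmetric group of degree 4. -/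
theorem result : Nonempty (↥(Cfsg.qd 2) ≃* Equiv.Perm (Fin 4)) := by
  have hq : Cfsg.qd 2 = Cfsg.qdOver (ZMod 2) := rfl
  rw [hq]
  haveI : Fact (Nat.Prime 2) := ⟨Nat.prime_two⟩
  let f : CfsgLib.LocalEven.QdOver.Qd (ZMod 2) →* Equiv.Perm (Fin 2 → ZMod 2) :=
    CfsgLib.LocalEven.QdOver.actHom
  have hinj : Function.Injective f := CfsgLib.LocalEven.QdOver.actHom_injective
  have hcard : Nat.card (CfsgLib.LocalEven.QdOver.Qd (ZMod 2)) = Nat.card (Equiv.Perm (Fin 2 → ZMod 2)) := by
    rw [CfsgLib.LocalEven.QdOver.card, Nat.card_perm, Nat.card_fun, Nat.card_zmod,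
      Nat.card_eq_fintype_card (α := Fin 2), Fintype.card_fin, card_sl_two_two]
    rfl
  exact ⟨(MulEquiv.ofBijective f ((Nat.bijective_iff_injective_and_card f).2 ⟨hinj, hcard⟩)).trans
    ((Fintype.equivFinOfCardEq (by simp)).permCongrHom)⟩

end Cfsg.Agent.S2761
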