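import Cfsg.Statements.S0001
import Cfsg.Agent.Lib.Solvable.CoprimeAction

set_option autoImplicit false
open Pointwise
open Cfsg

namespace Cfsg.Agent.S0001

/-- Conjugacy half of the Schur–Zassenhaus Theorem, under a solvability assumption on the normal Hall subgroup or on its quotient. -/
theorem result {G : Type*} [Group G] [Finite G] (N : Subgroup G) [N.Normal]
    (hN : (Nat.card N).Coprime N.index) (hsolv : Group.IsSolvable N ∨ Group.IsSolvable (G ⧸ N))
    (H K : Subgroup G) (hH : Subgroup.IsComplement' N H) (hK : Subgroup.IsComplement' N K) :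
    ∃ g : G, MulAut.conj g • H = K := by
  obtain ⟨n, hn, h⟩ := CfsgLib.Solvable.exists_conj_le N K H
    (Subgroup.le_normalizer_of_normal) hK.disjoint.eq_bot (by simp [hK.sup_eq_top])
    (by rwa [← hH.symm.index_eq_card]) (hsolv.imp id fun hs => by
      haveI := hs
      exact Group.isSolvable_of_surjective (f := (hH.symm.QuotientMulEquiv).toMonoidHom)
        hH.symm.QuotientMulEquiv.surjective)
  exact ⟨n, Subgroup.eq_of_le_of_card_ge h (by
    rw [CfsgLib.Solvable.card_conj_smul, ← hH.symm.index_eq_card, ← hK.symm.index_eq_card])⟩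

end Cfsg.Agent.S0001
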