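import Cfsg.Statements.S5197
import Cfsg.Agent.Lib.Fusion.FunctorStatements

set_option autoImplicit false
universe u
open Cfsg Cfsg.FusionSystem CfsgLib.Fusion

namespace Cfsg.Agent.S5197

/-- Let p be a prime and W a positive characteristic p-functor: W assigns to every finite p-group Q (in a fixed universe) a subgroup W(Q), nontrivial when Q is, carried to W(R) by every isomorphism Q ≅ R. Suppose W satisfies the local condition: for every finite group G with Sylow p-subgroup P such that C_G(O_p(G)) ≤ O_p(G), one has O_p(G) ∩ [G, G] = O_p(G) ∩ [N, N] for N = N_G(W(P)). Then W controls transfer in every saturated fusion system F over a finite p-group S: the focal subgroup of F equals the focal subgroup of the normalizer fusion system of W(S) in F. -/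
theorem result {p : ℕ} [Fact p.Prime] (W : ∀ (Q : Type u) [Group Q], Subgroup Q) (hW1 : ∀ (Q : Type u) [Group Q] [Finite Q], IsPGroup p Q → Nontrivial Q → W Q ≠ ⊥) (hW2 : ∀ (Q R : Type u) [Group Q] [Group R] [Finite Q], IsPGroup p Q → ∀ φ : Q ≃* R, (W Q).map φ.toMonoidHom = W R) (hT : ∀ (G : Type u) [Group G] [Finite G] (P : Sylow p G), Subgroup.centralizer ((Cfsg.pCore p G : Subgroup G) : Set G) ≤ Cfsg.pCore p G → Cfsg.pCore p G ⊓ commutator G = Cfsg.pCore p G ⊓ (commutator ↥(Subgroup.normalizer (((W ↥(P : Subgroup G)).map (P : Subgroup G).subtype : Subgroup G) : Set G))).map (Subgroup.normalizer (((W ↥(P : Subgroup G)).map (P : Subgroup G).subtype : Subgroup G) : Set G)).subtype) {Ω : Type u} [Group Ω] {S : Subgroup Ω} [Finite S] (hS : IsPGroup p S) (F : Cfsg.FusionSystem S) (hF : F.IsSaturated p) (N : Cfsg.FusionSystem (Cfsg.FusionSystem.normalizerIn S ((W ↥S).map S.subtype))) (hN : F.IsNormalizerSystem ((W ↥S).map S.subtype) N) : N.focalSubgroup = F.focalSubgroup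 := by
  have hWn := le_normalizerIn_wImg W hW2 hS
  have hkey : F.focalSubgroup ≤ focalLocal F (wImg W S) := by
    refine focalSubgroup_le_focalLocal W hW1 hW2 (fun Ω' _ S' _ F' hS' hF' hc => ?_) F hS hF
    obtain ⟨G, _, ι, hG, hr, ⟨T, hT'⟩, hC⟩ := exists_model_of_core hS' hF' hc
    have hX : F'.IsNormal F'.core := isNormal_core
    have hXn := map_normal_of_isModel ⟨hG, hr, ⟨T, hT'⟩, hC⟩ hX
    rintro y ⟨hy, hyX⟩
    have hyS : y ∈ S' := hX.1 hyX
    have h1 : ι ⟨y, hyS⟩ ∈ pCore p G := CfsgLib.Cores.le_pCore (hn := hXn)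
      ((hS'.to_subgroup (F'.core.subgroupOf S')).map ι) ⟨⟨y, hyS⟩, hyX, rfl⟩
    have h2 : ι ⟨y, hyS⟩ ∈ commutator G := by
      have hle : F'.focalSubgroup ≤ ((commutator G).comap ι).map S'.subtype := by
        refine (Subgroup.closure_le _).2 ?_
        rintro _ ⟨P, φ, x, hφ, rfl⟩
        obtain ⟨g, hg⟩ := (hr.2 P (le_S F' hφ) φ (apply_mem_S F' hφ)).1 hφ
        refine ⟨(⟨x, le_S F' hφ x.2⟩ : S')⁻¹ * ⟨φ x, apply_mem_S F' hφ x⟩, ?_, rfl⟩
        rw [SetLike.mem_coe, Subgroup.mem_comap, map_mul, map_inv, hg]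
        have h4 := Subgroup.commutator_mem_commutator
          (Subgroup.mem_top (ι ⟨x, le_S F' hφ x.2⟩)⁻¹) (Subgroup.mem_top g)
        rw [commutator_def]
        convert h4 using 1
        simp [commutatorElement_def, mul_assoc]
      obtain ⟨s, hs, hse⟩ := hle hy
      rw [show (⟨y, hyS⟩ : S') = s from Subtype.ext hse.symm]
      exact hs
    have h3 := ((hT G T hC).le ⟨h1, h2⟩).2
    rw [map_wImg_sylow W hW2 hS' hr.1 hT'] at h3
    obtain ⟨s, hs, hse⟩ := commutator_normalizer_inf_le W hW2 hS' hr T hT' rfl ⟨h3, ⟨_, rfl⟩⟩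
    have h5 : s = ⟨y, hyS⟩ := hr.1 hse
    rw [h5] at hs
    exact hs
  refine le_antisymm (Subgroup.closure_mono ?_) (hkey.trans (Subgroup.closure_mono ?_))
  · rintro _ ⟨P, φ, x, hφ, rfl⟩
    rw [hN P] at hφ
    exact ⟨P, φ, x, hφ.1, rfl⟩
  · rintro _ ⟨P, φ, x, hφ, rfl⟩
    exact ⟨P, φ, x, (hN P).ge hφ, rfl⟩

end Cfsg.Agent.S5197
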