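import Cfsg.Statements.S1447
import Cfsg.Agent.Lib.OddLocal.RankTwo.MetacyclicAction
import Cfsg.Agent.Lib.OddLocal.Ten.RankOne
import Cfsg.Agent.Lib.Solvable.CoprimeAction

set_option autoImplicit false
open Cfsg
open scoped commutatorElement Pointwise

namespace Cfsg.Agent.S1447

open Subgroup CfsgLib.PGroup CfsgLib.Solvable
open scoped commutatorElement Pointwise

/-- Let G be a finite group, p an odd prime, R a metacyclic p-subgroup and A a subgroup of order coprime to p normalizing R. Then [R, A] is abelian; R is generated by [R, A] and R ∩ C_G(A), which meet trivially; and if R is non-abelian and A does not centralize R, then [R, A] and R ∩ C_G(A) are nontrivial cyclic groups and [R, R] ≤ [R, A]. -/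
theorem result {G : Type*} [Group G] [Finite G] (p : ℕ) [Fact p.Prime] (hp : p ≠ 2) (R A : Subgroup G) (hR : IsPGroup p R) (hRm : Cfsg.IsMetacyclic R)
    (hA : (A ≤ Subgroup.normalizer (R : Set G))) (hcop : (Nat.card A).Coprime p) :
    IsMulCommutative ↥⁅R, A⁆ ∧ ⁅R, A⁆ ⊔ (R ⊓ Subgroup.centralizer (A : Set G)) = R ∧ ⁅R, A⁆ ⊓ (R ⊓ Subgroup.centralizer (A : Set G)) = ⊥ ∧
      (¬ IsMulCommutative R → ¬ A ≤ Subgroup.centralizer (R : Set G) →
        ⁅R, A⁆ ≠ ⊥ ∧ IsCyclic ↥⁅R, A⁆ ∧ (R ⊓ Subgroup.centralizer (A : Set G)) ≠ ⊥ ∧ IsCyclic ↥(R ⊓ Subgroup.centralizer (A : Set G)) ∧ ⁅R, R⁆ ≤ ⁅R, A⁆) := by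
  have hp' := (Fact.out : p.Prime)
  have hcopR : (Nat.card A).Coprime (Nat.card R) := by
    obtain ⟨n, hn⟩ := hR.exists_card_eq
    rw [hn]; exact hcop.pow_right n
  have hsol : Group.IsSolvable A ∨ Group.IsSolvable R := Or.inr (by
    have := hR.isNilpotent; infer_instance)
  have hle : ⁅R, A⁆ ≤ R := commutator_le_of_le_normalizer hA
  have hR₁p : IsPGroup p ↥⁅R, A⁆ := hR.to_le hle
  have hA₁ : A ≤ normalizer ((⁅R, A⁆ : Subgroup G) : Set G) := le_normalizer_commutator_right hA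
  let ψ : A →* MulAut ↥⁅R, A⁆ := (normalizerMonoidHom ⁅R, A⁆).comp (inclusion hA₁)
  have hgen : CfsgLib.OddLocal.RankTwo.Generates ψ := by
    have hle' : ⁅⁅R, A⁆, A⁆ ≤
        (Subgroup.closure {d : ↥⁅R, A⁆ | ∃ a x, x⁻¹ * ψ a x = d}).map (⁅R, A⁆).subtype := by
      refine Subgroup.commutator_le.2 fun r hr' a ha => ?_
      refine ⟨_, Subgroup.subset_closure ⟨⟨a, ha⟩, (⟨r, hr'⟩ : ↥⁅R, A⁆)⁻¹, rfl⟩, ?_⟩
      show ((⟨r, hr'⟩ : ↥⁅R, A⁆)⁻¹⁻¹ : ↥⁅R, A⁆).1 * (a * r⁻¹ * a⁻¹) = r * a * r⁻¹ * a⁻¹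
      simp only [inv_inv, mul_assoc]
    refine Subgroup.map_injective (⁅R, A⁆).subtype_injective ?_
    rw [← MonoidHom.range_eq_map, Subgroup.range_subtype]
    exact le_antisymm (Subgroup.map_subtype_le _)
      (le_of_eq_of_le (commutator_commutator_self hA hcopR hsol).symm hle')
  have hcomm : ∀ a b : ↥⁅R, A⁆, a * b = b * a :=
    CfsgLib.OddLocal.RankTwo.comm_of_metacyclic_generates hR₁p hp
      (CfsgLib.OddLocal.RankTwo.isMetacyclic_of_injective hRm (inclusion hle) (inclusion_injective hle))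
      hcop hgen
  have hinf : ⁅R, A⁆ ⊓ (R ⊓ centralizer (A : Set G)) = ⊥ := by
    let cg : CommGroup ↥⁅R, A⁆ := { (inferInstance : Group ↥⁅R, A⁆) with mul_comm := hcomm }
    rw [eq_bot_iff]
    rintro v ⟨hv, -, hvc⟩
    by_contra hv1
    refine @CfsgLib.OddLocal.RankTwo.closure_ne_top_of_fixed _ cg A _ _ ψ ⟨v, hv⟩
      (fun e => hv1 (mem_bot.2 (congrArg Subtype.val e))) (fun a => Subtype.ext ?_) ?_ hgen
    · show (a : G) * v * (a : G)⁻¹ = v
      rw [mem_centralizer_iff.1 hvc a a.2, mul_inv_cancel_right]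
    · obtain ⟨k, hk⟩ := IsPGroup.iff_orderOf.1 hR₁p ⟨v, hv⟩
      rw [hk]; exact hcop.pow_right k
  have hsup := commutator_sup_centralizer hA hcopR hsol
  refine ⟨⟨⟨hcomm⟩⟩, hsup, hinf, fun hna hnc => ?_⟩
  set C := R ⊓ centralizer (A : Set G)
  have h1ne : ⁅R, A⁆ ≠ ⊥ := fun e => hnc
    (le_centralizer_iff.1 (commutator_eq_bot_iff_le_centralizer.1 e))
  have hCne : C ≠ ⊥ := fun e => hna (by
    rw [e, sup_bot_eq] at hsup
    exact hsup ▸ (⟨⟨hcomm⟩⟩ : IsMulCommutative ↥⁅R, A⁆))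
  obtain ⟨W, hW, -, hWc⟩ := CfsgLib.Fusion.exists_omega_of_metacyclic hR hp hRm
  have hcyc : ∀ X Y : Subgroup G, X ≤ R → Y ≤ R → X ⊓ Y = ⊥ → Y ≠ ⊥ → IsCyclic X := by
    intro X Y hX hY hXY hY1
    obtain ⟨y, hy, hyo⟩ : ∃ y ∈ Y, orderOf y = p := by
      have hYp : IsPGroup p Y := hR.to_le hY
      have : Nontrivial Y := (nontrivial_iff_ne_bot Y).2 hY1
      obtain ⟨n, hn0, hn⟩ := (IsPGroup.nontrivial_iff_card hYp).1 inferInstance
      obtain ⟨y, hy⟩ := exists_prime_orderOf_dvd_card' (G := Y) p (hn ▸ dvd_pow_self p hn0.ne')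
      exact ⟨y, y.2, (Subgroup.orderOf_coe y).trans hy⟩
    refine CfsgLib.OddLocal.Ten.isCyclic_of_pRankLE_one (hR.to_le hX) hp
      ((pRankLE_subgroup_iff X).2 fun B hB hBe => ?_)
    let f : B × zpowers y → W := fun q => ⟨⟨(q.1 : G), hX (hB q.1.2)⟩ * ⟨(q.2 : G), hY (zpowers_le.2 hy q.2.2)⟩,
      W.mul_mem ((hW _).2 (Subtype.ext (hBe.2 q.1 q.1.2))) ((hW _).2 (Subtype.ext (by
        have := pow_card_eq_one' (x := q.2)
        rw [Nat.card_zpowers, hyo] at this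
        exact (Subgroup.coe_pow _ q.2 p).symm.trans (congrArg Subtype.val this))))⟩
    have hf : Function.Injective f := fun q q' h => by
      have hd : Disjoint B (zpowers y) := disjoint_iff.2 (le_bot_iff.1
        (hXY ▸ inf_le_inf hB (zpowers_le.2 hy)))
      exact Subgroup.mul_injective_of_disjoint hd (congrArg (fun z : W => ((z : R) : G)) h)
    have h := (Nat.card_le_card_of_injective f hf).trans hWc
    rw [Nat.card_prod, Nat.card_zpowers, hyo, pow_two] at h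
    rw [pow_one]
    exact Nat.le_of_mul_le_mul_right h hp'.pos
  have hC : IsCyclic C := hcyc C _ inf_le_left hle (by rw [inf_comm]; exact hinf) h1ne
  refine ⟨h1ne, hcyc _ C hle inf_le_left hinf hCne, hCne, hC, ?_⟩
  have hn : R ≤ normalizer ((⁅R, A⁆ : Subgroup G) : Set G) := le_normalizer_commutator_left R A
  have : ((⁅R, A⁆).subgroupOf R).Normal := (normal_subgroupOf_iff_le_normalizer hle).2 hn
  set π := QuotientGroup.mk' ((⁅R, A⁆).subgroupOf R)
  have himg : ∀ r : R, ∃ c : R, (c : G) ∈ C ∧ π c = π r := fun r => by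
    have hr : (r : G) ∈ (((⁅R, A⁆ : Subgroup G) : Set G) * (C : Set G)) := by
      rw [← coe_mul_of_right_le_normalizer_left ⁅R, A⁆ C ((inf_le_left : C ≤ R).trans hn), hsup]
      exact r.2
    obtain ⟨u, hu, c, hc, huc⟩ := Set.mem_mul.1 hr
    refine ⟨⟨c, hc.1⟩, hc, ?_⟩
    rw [show r = (⟨u, hle hu⟩ : R) * ⟨c, hc.1⟩ from Subtype.ext huc.symm, map_mul,
      show π ⟨u, hle hu⟩ = 1 from (QuotientGroup.eq_one_iff _).2 (mem_subgroupOf.2 hu), one_mul]
  refine commutator_le.2 fun a ha b hb => ?_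
  obtain ⟨c, hc, ec⟩ := himg ⟨a, ha⟩
  obtain ⟨d, hd, ed⟩ := himg ⟨b, hb⟩
  have hcd : c * d = d * c := R.subtype_injective
    (congrArg Subtype.val (hC.isMulCommutative.is_comm.comm (⟨(c : G), hc⟩ : C) ⟨(d : G), hd⟩))
  have h : π ⁅(⟨a, ha⟩ : R), ⟨b, hb⟩⁆ = 1 := by
    rw [map_commutatorElement, ← ec, ← ed, ← map_commutatorElement,
      commutatorElement_eq_one_iff_mul_comm.2 hcd, map_one]
  exact mem_subgroupOf.1 ((QuotientGroup.eq_one_iff _).1 h)

end Cfsg.Agent.S1447
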