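import Cfsg.Statements.S4143
import Cfsg.Agent.Lib.Transfer.MaximalClass

set_option autoImplicit false
open Cfsg

namespace Cfsg.Agent.S4143

/-- Let X be a finite p-group of order p^n containing a non-abelian subgroup B of order p³ with C_X(B) ≤ B. Then X has nilpotency class n − 1 (maximal class). -/
theorem result {X : Type*} [Group X] [Finite X] {p : ℕ} [Fact p.Prime] (n : ℕ) (hX : Nat.card X = p ^ n)
    (B : Subgroup X) (hB : Nat.card B = p ^ 3) (hBna : ¬ IsMulCommutative B) (hC : Subgroup.centralizer (B : Set X) ≤ B) :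
    Group.nilpotencyClass X = n - 1 := by
  open Subgroup in
  open scoped commutatorElement in
  have hp : p.Prime := Fact.out
  have hXp : IsPGroup p X := IsPGroup.of_card hX
  -- two non-commuting elements generate `B`
  obtain ⟨a, ha, b, hb, hab⟩ : ∃ a ∈ B, ∃ b ∈ B, a * b ≠ b * a := by
    by_contra h
    push Not at h
    exact hBna ⟨⟨fun u v => Subtype.ext (h u u.2 v v.2)⟩⟩
  have hgen : closure {a, b} = B := by
    refine eq_of_le_of_card_ge ((closure_le B).2 ?_) ?_
    · rintro y (rfl | rfl) <;> assumption
    obtain ⟨i, hi⟩ := IsPGroup.iff_card.1 (hXp.to_subgroup (closure {a, b}))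
    rw [hB, hi]
    refine Nat.pow_le_pow_right hp.pos ?_
    by_contra hlt
    haveI : IsMulCommutative (closure {a, b}) := by
      rcases Nat.lt_or_ge i 2 with h | h
      · haveI : IsCyclic (closure {a, b}) := by
          rcases Nat.eq_zero_or_pos i with h0 | h0
          · rw [h0, pow_zero] at hi
            haveI := (Nat.card_eq_one_iff_unique.1 hi).1
            infer_instance
          · rw [show i = 1 by omega, pow_one] at hi
            exact isCyclic_of_prime_card hi
        infer_instance
      · rw [show i = 2 by omega] at hi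
        exact IsPGroup.isMulCommutative_of_card_eq_prime_sq hi
    have h1 := mul_comm' (⟨a, subset_closure (Or.inl rfl)⟩ : closure {a, b})
      ⟨b, subset_closure (Or.inr rfl)⟩
    exact hab (congrArg Subtype.val h1)
  set Z := center X with hZdef
  have hZC : Z ≤ centralizer (B : Set X) := fun z hz => mem_centralizer_iff.2 fun y _ =>
    mem_center_iff.1 hz y
  -- the centre of `B` has order `p`
  have hCcard : Nat.card (centralizer (B : Set X)) ≤ p := by
    obtain ⟨i, hi⟩ := IsPGroup.iff_card.1 (hXp.to_subgroup (centralizer (B : Set X)))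
    rw [hi]
    by_contra hlt
    have h2 : 2 ≤ i := by
      by_contra h
      exact hlt ((Nat.pow_le_pow_right hp.pos (show i ≤ 1 by omega)).trans (pow_one p).le)
    -- then `B` would be generated by its centre and one element
    have hbig : p ^ 2 ∣ Nat.card (centralizer (B : Set X)) := hi ▸ pow_dvd_pow p h2
    set T := centralizer (B : Set X) ⊔ zpowers a with hT
    have hTB : T ≤ B := sup_le hC (zpowers_le.2 ha)
    have haC : a ∉ centralizer (B : Set X) := fun h => hab ((mem_centralizer_iff.1 h b hb).symm)
    have hlt' : centralizer (B : Set X) < T := by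
      refine lt_of_le_of_ne le_sup_left fun he => haC ?_
      rw [he]
      exact mem_sup_right (mem_zpowers a)
    have h3 := CfsgLib.Transfer.prime_mul_card_le hXp hlt'
    have h4 : p ^ 3 ≤ Nat.card T := by
      refine le_trans ?_ h3
      rw [pow_succ, mul_comm]
      exact Nat.mul_le_mul_left p (Nat.le_of_dvd Nat.card_pos hbig)
    have hTeq : T = B := eq_of_le_of_card_ge hTB (hB ▸ h4)
    refine hab ?_
    have hsub : T ≤ centralizer ({a} : Set X) := by
      refine sup_le (fun z hz => ?_) (zpowers_le.2 (mem_centralizer_singleton_iff.2 rfl))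
      exact mem_centralizer_singleton_iff.2 (mem_centralizer_iff.1 hz a ha).symm
    exact (mem_centralizer_singleton_iff.1 (hsub (hTeq ▸ hb))).symm
  haveI : Nontrivial X := ⟨a, b, fun h => hab (by rw [h])⟩
  have hn3 : 3 ≤ n := by
    have := Nat.le_of_dvd Nat.card_pos (card_subgroup_dvd_card B)
    rw [hB, hX] at this
    exact (Nat.pow_le_pow_iff_right hp.one_lt).1 this
  have hZcard : Nat.card Z = p := by
    refine le_antisymm ((card_le_of_le hZC).trans hCcard) ?_
    obtain ⟨i, hi⟩ := IsPGroup.iff_card.1 (hXp.to_subgroup Z)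
    haveI := hXp.center_nontrivial
    have h1 : 1 < Nat.card Z := Finite.one_lt_card
    rw [hi] at h1 ⊢
    exact Nat.le_self_pow (fun h => by simp [h] at h1) p
  have hCZ : centralizer (B : Set X) = Z :=
    (eq_of_le_of_card_ge hZC (hCcard.trans hZcard.ge)).symm
  have hZB : Z ≤ B := hCZ ▸ hC
  set φ := QuotientGroup.mk' Z with hφ
  set Ab := B.map φ with hAb
  have hAbcard : Nat.card Ab = p ^ 2 := by
    have h1 := B.card_mul_index
    have h2 : Ab.index = B.index := index_map_eq _ (QuotientGroup.mk'_surjective Z)
      (by rwa [QuotientGroup.ker_mk'])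
    have h3 := Ab.card_mul_index
    have h4 := Z.card_mul_index
    rw [h2] at h3
    rw [index_eq_card Z, ← h3, hZcard, ← h1, hB, ← mul_assoc] at h4
    exact Nat.eq_of_mul_eq_mul_left hp.pos ((Nat.eq_of_mul_eq_mul_right
      (Nat.pos_of_ne_zero B.index_ne_zero_of_finite) h4).trans (by ring))
  have hself : centralizer (Ab : Set (X ⧸ Z)) = Ab := by
    have hcm : ∀ u ∈ B, ∀ v ∈ B, φ u * φ v = φ v * φ u := by
      haveI := IsPGroup.isMulCommutative_of_card_eq_prime_sq hAbcard
      intro u hu v hv
      exact congrArg Subtype.val (mul_comm' (⟨φ u, mem_map_of_mem φ hu⟩ : Ab)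
        ⟨φ v, mem_map_of_mem φ hv⟩)
    set S := (centralizer (Ab : Set (X ⧸ Z))).comap φ with hS
    have hBS : B ≤ S := fun u hu => mem_centralizer_iff.2 (by
      rintro _ ⟨v, hv, rfl⟩
      exact hcm v hv u hu)
    have hcomm : ∀ x ∈ S, ∀ u ∈ B, ⁅x, u⁆ ∈ Z := by
      intro x hx u hu
      refine (QuotientGroup.eq_one_iff _).1 ?_
      show φ ⁅x, u⁆ = 1
      rw [map_commutatorElement, commutatorElement_eq_one_iff_mul_comm]
      exact (mem_centralizer_iff.1 hx _ (mem_map_of_mem φ hu)).symm
    suffices S = B by
      refine le_antisymm (fun y hy => ?_) (fun y hy => ?_)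
      · obtain ⟨x, rfl⟩ := QuotientGroup.mk'_surjective Z y
        exact mem_map_of_mem φ (this.le hy)
      · obtain ⟨x, hx, rfl⟩ := hy
        exact this.ge hx
    refine (eq_of_le_of_card_ge hBS ?_).symm
    set T := (centralizer (B : Set X)).subgroupOf S
    let f : ↥S ⧸ T → Z × Z := fun q =>
      (⟨_, hcomm _ q.out.2 a ha⟩, ⟨_, hcomm _ q.out.2 b hb⟩)
    have hf : Function.Injective f := by
      intro q q' h
      rw [← QuotientGroup.out_eq' q, ← QuotientGroup.out_eq' q', QuotientGroup.eq]
      simp only [f, Prod.mk.injEq, Subtype.mk.injEq, commutatorElement_def, mul_left_inj] at h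
      rw [mem_subgroupOf, ← hgen, mem_centralizer_iff]
      intro y hy
      induction hy using closure_induction with
      | mem y hy =>
        have key : ∀ u : X, (q.out : X) * u * (q.out : X)⁻¹ = q'.out * u * (q'.out : X)⁻¹ →
            u * ((q.out : X)⁻¹ * q'.out) = ((q.out : X)⁻¹ * q'.out) * u := by
          intro u hu
          calc u * ((q.out : X)⁻¹ * q'.out)
              = (q.out : X)⁻¹ * ((q.out : X) * u * (q.out : X)⁻¹) * q'.out := by group
            _ = _ := by rw [hu]; group
        rcases hy with rfl | rfl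
        · exact key _ h.1
        · exact key _ h.2
      | one => simp
      | mul u v _ _ hu hv => exact ((show Commute u _ from hu).mul_left hv).eq
      | inv u _ hu => exact ((show Commute u _ from hu).inv_left).eq
    have h1 := Nat.card_le_card_of_injective f hf
    rw [Nat.card_prod, hZcard, ← index_eq_card] at h1
    calc Nat.card S = Nat.card T * T.index := T.card_mul_index.symm
      _ ≤ p * (p * p) := by
        refine Nat.mul_le_mul ?_ h1
        rw [← hZcard, ← hCZ]
        exact Finite.card_le_of_embedding ⟨fun t => ⟨((t : S) : X), t.2⟩,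
          fun t t' h => Subtype.ext (Subtype.ext (Subtype.ext_iff.1 h :))⟩
      _ = Nat.card B := by rw [hB]; ring
  have hQ : Nat.card (X ⧸ Z) = p ^ (n - 1) := by
    have h4 := Z.card_mul_index
    rw [index_eq_card Z, hZcard, hX, show p ^ n = p * p ^ (n - 1) by rw [← pow_succ']; congr 1; omega] at h4
    exact Nat.eq_of_mul_eq_mul_left hp.pos h4
  have hrec := CfsgLib.Transfer.nilpotencyClass_of_self_centralizing hQ Ab hAbcard hself
  haveI := hXp.isNilpotent
  rw [Group.nilpotencyClass_eq_quotient_center_plus_one, hrec]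
  omega

end Cfsg.Agent.S4143
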