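import Cfsg.Statements.S1196
import Cfsg.Agent.Lib.Invol.QDW.Wreath
import Cfsg.Agent.Lib.Invol.QDW.WrBasics
import Cfsg.Agent.Lib.Invol.QDW.WrSubgroups
import Cfsg.Agent.Lib.Invol.QDW.Transport

set_option autoImplicit false
open Cfsg

namespace Cfsg.Agent.S1196

open CfsgLib.Invol.QDW

/-- A wreathed 2-group S of order 2^(2n+1) has a unique commutative subgroup of order 2^(2n), and this subgroup is isomorphic to the direct product of two cyclic groups of order 2^n. -/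
theorem result {S : Type*} [Group S] [Finite S] (hS : Cfsg.IsWreathed S) (n : ℕ) (hn : Nat.card S = 2 ^ (2 * n + 1)) : (∃! U : Subgroup S, IsMulCommutative U ∧ Nat.card U = 2 ^ (2 * n)) ∧ ∀ U : Subgroup S, IsMulCommutative U → Nat.card U = 2 ^ (2 * n) → Nonempty (U ≃* Multiplicative (ZMod (2 ^ n) × ZMod (2 ^ n))) := by
  obtain ⟨n', hn', hcard, ⟨e⟩⟩ := exists_equiv_wr hS
  obtain ⟨r, rfl⟩ : ∃ r, n' = r + 2 := ⟨n' - 2, by omega⟩
  have hnr : n = r + 2 := by
    have := Nat.pow_right_injective (le_refl 2) (hn.symm.trans hcard); omega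
  subst hnr
  have hN : (2 : ℕ) ^ (2 * (r + 2)) = 2 ^ (r + 2) * 2 ^ (r + 2) := by rw [← pow_add]; congr 1; ring
  have key : ∀ U : Subgroup S, IsMulCommutative U → Nat.card U = 2 ^ (2 * (r + 2)) →
      U.map e.toMonoidHom = Wr.base (2 ^ (r + 2)) := fun U hU hc => by
    refine Wr.eq_base_of_comm ⟨⟨?_⟩⟩ (by rw [← Nat.card_congr (mapEquiv e U).toEquiv, hc, hN])
    intro a b
    obtain ⟨a, rfl⟩ := (mapEquiv e U).surjective a
    obtain ⟨b, rfl⟩ := (mapEquiv e U).surjective b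
    rw [← map_mul, ← map_mul, mul_comm' a b]
  let te : ↥((Wr.base (2 ^ (r + 2))).comap e.toMonoidHom) ≃* ↥(Wr.base (2 ^ (r + 2))) :=
    (mapEquiv e _).trans (MulEquiv.subgroupCongr (Subgroup.map_comap_eq_self_of_surjective e.surjective _))
  refine ⟨⟨_, ⟨⟨⟨fun a b => te.injective (by rw [map_mul, map_mul]; exact Subtype.ext (Wr.base_comm (te a).2 (te b).2))⟩⟩,
    by rw [Nat.card_congr te.toEquiv, Wr.card_base, hN]⟩, fun U hU => eq_comap_of_map_eq e (key U hU.1 hU.2)⟩, fun U hU hc => ?_⟩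
  exact ⟨((mapEquiv e U).trans (MulEquiv.subgroupCongr (key U hU hc))).trans Wr.baseEquiv⟩

end Cfsg.Agent.S1196
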