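import Cfsg.Statements.S3774
import Cfsg.Agent.Lib.PGroup.Basic

set_option autoImplicit false
open Cfsg

namespace Cfsg.Agent.S3774

/-- Let G be a nontrivial finite 2-group whose automorphism group permutes the involutions of G transitively. Then every involution of G is central, so that the involutions together with 1 form the subgroup Ω₁(Z(G)), and if this subgroup has order q then |G| is a power of q. -/
theorem result {G : Type*} [Group G] [Finite G] [Nontrivial G] (hG : IsPGroup 2 G) (htrans : ∀ x y : G, x ≠ 1 → x ^ 2 = 1 → y ≠ 1 → y ^ 2 = 1 → ∃ a : MulAut G, a x = y) : (∀ x : G, x ^ 2 = 1 → x ∈ Subgroup.center G) ∧ ∃ m : ℕ, Nat.card G = Nat.card {z : G // z ^ 2 = 1} ^ m := by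
  classical
  haveI := Fintype.ofFinite G
  -- every nonidentity element has even order
  have heven : ∀ x : G, x ≠ 1 → 2 ∣ orderOf x := by
    intro x hx
    obtain ⟨k, hk⟩ := IsPGroup.iff_orderOf.1 hG x
    rw [hk]
    refine dvd_pow_self 2 fun h => hx (orderOf_eq_one_iff.1 (by rw [hk, h, pow_zero]))
  have hinv : ∀ x : G, x ≠ 1 → x ^ (orderOf x / 2) ≠ 1 ∧ (x ^ (orderOf x / 2)) ^ 2 = 1 := by
    intro x hx
    have h0 := orderOf_pos x
    obtain ⟨c, hc⟩ := heven x hx
    refine ⟨pow_ne_one_of_lt_orderOf (by omega) (by omega), ?_⟩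
    rw [← pow_mul, Nat.div_mul_cancel (heven x hx), pow_orderOf_eq_one]
  have hne : Subgroup.center G ≠ ⊥ := (Subgroup.center G).nontrivial_iff_ne_bot.1 hG.center_nontrivial
  obtain ⟨⟨z, hz⟩, hz1'⟩ := (Subgroup.center G).ne_bot_iff_exists_ne_one.1 hne
  have hz1 : z ≠ 1 := fun h => hz1' (Subtype.ext h)
  have hcentral : ∀ x : G, x ^ 2 = 1 → x ∈ Subgroup.center G := by
    intro x hx
    rcases eq_or_ne x 1 with rfl | hx1
    · exact Subgroup.one_mem _
    obtain ⟨a, rfl⟩ := htrans _ x (hinv z hz1).1 (hinv z hz1).2 hx1 hx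
    refine Subgroup.mem_center_iff.2 fun g => ?_
    obtain ⟨g, rfl⟩ := a.surjective g
    rw [← map_mul, ← map_mul, Subgroup.mem_center_iff.1 (Subgroup.pow_mem _ hz _) g]
  refine ⟨hcentral, ?_⟩
  let Ω : Subgroup G :=
    { carrier := {x | x ^ 2 = 1}
      one_mem' := one_pow 2
      mul_mem' := fun {a b} (ha : a ^ 2 = 1) (hb : b ^ 2 = 1) => by
        show (a * b) ^ 2 = 1
        rw [(show Commute a b from Subgroup.mem_center_iff.1 (hcentral b hb) a).mul_pow, ha, hb, one_mul]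
      inv_mem' := fun {a} (ha : a ^ 2 = 1) => by show a⁻¹ ^ 2 = 1; rw [inv_pow, ha, inv_one] }
  show ∃ m : ℕ, Nat.card G = Nat.card Ω ^ m
  obtain ⟨n, hn⟩ := IsPGroup.iff_card.1 (hG.to_subgroup Ω)
  obtain ⟨N, hN⟩ := IsPGroup.iff_card.1 hG
  -- the map to involutions has equicardinal fibres
  let f : {x : G // x ≠ 1} → {x : G // x ≠ 1 ∧ x ^ 2 = 1} := fun x => ⟨x.1 ^ (orderOf x.1 / 2), hinv x.1 x.2⟩
  have hfib : ∀ u v, Nat.card {x // f x = u} ≤ Nat.card {x // f x = v} := by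
    intro u v
    obtain ⟨a, ha⟩ := htrans u.1 v.1 u.2.1 u.2.2 v.2.1 v.2.2
    refine Nat.card_le_card_of_injective (fun x => ⟨⟨a x.1.1, fun h => x.1.2 (a.injective (by rw [h, map_one]))⟩, ?_⟩) ?_
    · refine Subtype.ext ?_
      show (a x.1.1) ^ (orderOf (a x.1.1) / 2) = v.1
      rw [MulEquiv.orderOf_eq, ← map_pow, show x.1.1 ^ (orderOf x.1.1 / 2) = u.1 from congrArg Subtype.val x.2, ha]
    · intro x y h
      exact Subtype.ext (Subtype.ext (a.injective
        (congrArg (fun w : {w // f w = v} => (w.1.1 : G)) h)))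
  have h1 : Nat.card {x : G // x ≠ 1} = Nat.card G - 1 := by
    rw [Nat.card_eq_fintype_card, Fintype.card_subtype_compl, Fintype.card_subtype_eq, Nat.card_eq_fintype_card]
  have h2 : Nat.card {x : G // x ≠ 1 ∧ x ^ 2 = 1} = Nat.card Ω - 1 := by
    rw [show Nat.card {x : G // x ≠ 1 ∧ x ^ 2 = 1} = Nat.card {x : Ω // x ≠ 1} from Nat.card_congr
      { toFun := fun x => ⟨⟨x.1, x.2.2⟩, fun h => x.2.1 (congrArg Subtype.val h)⟩
        invFun := fun x => ⟨x.1.1, fun h => x.2 (Subtype.ext h), x.1.2⟩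
        left_inv := fun x => rfl
        right_inv := fun x => rfl }]
    rw [Nat.card_eq_fintype_card, Fintype.card_subtype_compl, Fintype.card_subtype_eq, Nat.card_eq_fintype_card]
  have hdvd : Nat.card Ω - 1 ∣ Nat.card G - 1 := by
    rw [← h1, ← h2, ← Nat.card_congr (Equiv.sigmaFiberEquiv f), Nat.card_sigma]
    set u₀ : {x : G // x ≠ 1 ∧ x ^ 2 = 1} := f ⟨z, hz1⟩
    rw [Finset.sum_congr rfl fun u _ => le_antisymm (hfib u u₀) (hfib u₀ u), Finset.sum_const, smul_eq_mul,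
      Finset.card_univ, ← Nat.card_eq_fintype_card]
    exact dvd_mul_right _ _
  rw [hn, hN] at hdvd
  have hg := Nat.pow_sub_one_gcd_pow_sub_one 2 n N
  rw [Nat.gcd_eq_left hdvd] at hg
  have hgn : 2 ^ n = 2 ^ Nat.gcd n N := by
    have := Nat.two_pow_pos n
    have := Nat.two_pow_pos (Nat.gcd n N)
    omega
  obtain ⟨m, hm⟩ : n ∣ N := by
    rw [Nat.pow_right_injective le_rfl hgn]
    exact Nat.gcd_dvd_right n N
  exact ⟨m, by rw [hn, hN, hm, pow_mul]⟩

end Cfsg.Agent.S3774
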