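import Cfsg.Statements.S3773
import Cfsg.Prelude.Def_Transfer
import Cfsg.Agent.Lib.PGroup.Basic
import Cfsg.Agent.Lib.PGroup.ExponentTwo
import Cfsg.Agent.Lib.PGroup.PrimeIndex

set_option autoImplicit false
open Cfsg

namespace Cfsg.Agent.S3773

open CfsgLib.PGroup
open scoped commutatorElement
set_option maxHeartbeats 800000

/-- Let G be a finite 2-group of nilpotency class at most 2 and exponent dividing 4 in which the elements x with x² = 1 form a subgroup N. Then |G| ≤ |N|³, and |G| < |N|³ unless G is special. -/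
theorem result {G : Type*} [Group G] [Finite G] (hG : IsPGroup 2 G) (hcl : (⊤ : Subgroup G).lowerCentralSeries 2 = ⊥) (hexp : ∀ x : G, x ^ 4 = 1) (hN : ∀ x y : G, x ^ 2 = 1 → y ^ 2 = 1 → (x * y) ^ 2 = 1) : Nat.card G ≤ Nat.card {x : G // x ^ 2 = 1} ^ 3 ∧ (¬ Cfsg.IsSpecial 2 G → Nat.card G < Nat.card {x : G // x ^ 2 = 1} ^ 3) := by
  classical
  have hcen : ∀ a b : G, ⁅a, b⁆ ∈ Subgroup.center G := fun a b => by
    refine Subgroup.mem_center_iff.2 fun c => ?_
    have h := commutatorElement_eq_one_iff_mul_comm.1 (show ⁅⁅a, b⁆, c⁆ = 1 from ?_)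
    · exact h.symm
    · rw [← Subgroup.mem_bot, ← hcl, Subgroup.lowerCentralSeries_succ]
      refine Subgroup.commutator_mem_commutator ?_ (Subgroup.mem_top c)
      rw [Subgroup.lowerCentralSeries_succ, Subgroup.lowerCentralSeries_zero]
      exact Subgroup.commutator_mem_commutator (Subgroup.mem_top a) (Subgroup.mem_top b)
  let N : Subgroup G :=
    { carrier := {x | x ^ 2 = 1}
      one_mem' := one_pow 2
      mul_mem' := fun {a b} ha hb => hN a b ha hb
      inv_mem' := fun {a} (ha : a ^ 2 = 1) => by show a⁻¹ ^ 2 = 1; rw [inv_pow, ha, inv_one] }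
  have hNmem : ∀ x : G, x ∈ N ↔ x ^ 2 = 1 := fun x => Iff.rfl
  have hNeq : Nat.card {x : G // x ^ 2 = 1} = Nat.card N := rfl
  rw [hNeq]
  have hsqN : ∀ x : G, x ^ 2 ∈ N := fun x => by rw [hNmem, ← pow_mul]; exact hexp x
  have hsqmul : ∀ x y : G, (x * y) ^ 2 = x ^ 2 * y ^ 2 * ⁅y, x⁆ := fun x y => by
    rw [mul_pow_of_comm_mem_center (hcen y x), Nat.choose_self, pow_one]
  have hcN : ∀ x y : G, ⁅y, x⁆ ∈ N := fun x y => by
    rw [show ⁅y, x⁆ = (x ^ 2 * y ^ 2)⁻¹ * (x * y) ^ 2 by rw [hsqmul, inv_mul_cancel_left]]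
    exact N.mul_mem (N.inv_mem (N.mul_mem (hsqN x) (hsqN y))) (hsqN _)
  have hsqc : ∀ x : G, x ^ 2 ∈ Subgroup.center G := fun x => Subgroup.mem_center_iff.2 fun b =>
    (commutatorElement_eq_one_iff_mul_comm.1 (by rw [comm_pow_left (hcen x b)]; exact (hNmem _).1 (hcN b x))).symm
  set Z0 := Subgroup.center G ⊓ N with hZ0
  haveI hZ0n : Z0.Normal := ⟨fun a ha g => by
    rw [Subgroup.mem_center_iff.1 ha.1 g, mul_inv_cancel_right]; exact ha⟩
  have hQ2 : ∀ u : G ⧸ Z0, u * u = 1 := fun u => by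
    induction u using QuotientGroup.induction_on with
    | _ x =>
      rw [← QuotientGroup.mk_mul, QuotientGroup.eq_one_iff, ← sq]
      exact ⟨hsqc x, hsqN x⟩
  have hsqz : ∀ x : G, ∀ z ∈ Z0, (x * z) ^ 2 = x ^ 2 := fun x z hz => by
    rw [(show Commute x z from Subgroup.mem_center_iff.1 hz.1 x).mul_pow, (hNmem z).1 hz.2, mul_one]
  let qz : G ⧸ Z0 → Z0 := fun u => ⟨u.out ^ 2, hsqc _, hsqN _⟩
  have hqz : ∀ x : G, qz (x : G ⧸ Z0) = ⟨x ^ 2, hsqc _, hsqN _⟩ := fun x => by
    refine Subtype.ext ?_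
    obtain ⟨z, hz⟩ := QuotientGroup.mk_out_eq_mul Z0 x
    show (x : G ⧸ Z0).out ^ 2 = x ^ 2
    rw [hz, hsqz _ _ z.2]
  have hZ2 : ∀ z : Z0, z * z = 1 := fun z => Subtype.ext (by simpa [sq] using (hNmem _).1 z.2.2)
  -- functions from characters of `Z0`
  have hdeg2 : ∀ l : Z0 → ZMod 2, (∀ a b, l (a * b) = l a + l b) → DegLE 2 (fun u => l (qz u)) := by
    intro l hl
    refine .diff fun a => ?_
    induction a using QuotientGroup.induction_on with
    | _ y =>
      have hc : ∀ x : G, (l (qz ((x : G ⧸ Z0) * (y : G ⧸ Z0))) + l (qz (x : G ⧸ Z0))) =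
          l ⟨⁅y, x⁆, hcen y x, hcN x y⟩ + l (qz (y : G ⧸ Z0)) := by
        intro x
        rw [← QuotientGroup.mk_mul, hqz, hqz, hqz]
        have e : (⟨(x * y) ^ 2, hsqc _, hsqN _⟩ : Z0) =
            ⟨x ^ 2, hsqc _, hsqN _⟩ * ⟨y ^ 2, hsqc _, hsqN _⟩ * ⟨⁅y, x⁆, hcen y x, hcN x y⟩ :=
          Subtype.ext (hsqmul x y)
        rw [e, hl, hl]
        linear_combination (l ⟨x ^ 2, hsqc _, hsqN _⟩) * CharTwo.two_eq_zero (R := ZMod 2)
      refine DegLE.diff fun b => ?_
      induction b using QuotientGroup.induction_on with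
      | _ w =>
        have hfun : ∀ u : G ⧸ Z0, (fun v : G ⧸ Z0 => l (qz (v * (y : G ⧸ Z0))) + l (qz v)) (u * (w : G ⧸ Z0)) +
            (fun v : G ⧸ Z0 => l (qz (v * (y : G ⧸ Z0))) + l (qz v)) u = l ⟨⁅y, w⁆, hcen y w, hcN w y⟩ := by
          intro u
          induction u using QuotientGroup.induction_on with
          | _ x =>
            show (l (qz ((x : G ⧸ Z0) * (w : G ⧸ Z0) * (y : G ⧸ Z0))) + l (qz ((x : G ⧸ Z0) * (w : G ⧸ Z0)))) +
              (l (qz ((x : G ⧸ Z0) * (y : G ⧸ Z0))) + l (qz (x : G ⧸ Z0))) = _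
            rw [← QuotientGroup.mk_mul Z0 x w, hc, hc,
              show (⟨⁅y, x * w⁆, hcen y _, hcN _ y⟩ : Z0) = ⟨⁅y, x⁆, hcen y x, hcN x y⟩ * ⟨⁅y, w⁆, hcen y w, hcN w y⟩
                from Subtype.ext (comm_mul_right (hcen y w)), hl]
            linear_combination (l ⟨⁅y, x⁆, hcen y x, hcN x y⟩ + l (qz (y : G ⧸ Z0))) * CharTwo.two_eq_zero (R := ZMod 2)
        rw [funext hfun]
        exact .const _ _
  have hl1 : ∀ l : Z0 → ZMod 2, (∀ a b, l (a * b) = l a + l b) → l 1 = 0 := fun l hl => by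
    simpa using hl 1 1
  have hqz1 : qz 1 = 1 := by
    rw [← QuotientGroup.mk_one, hqz]
    exact Subtype.ext (one_pow 2)
  set π := QuotientGroup.mk' Z0
  set W := N.map π
  have hW : ∀ u : G ⧸ Z0, qz u = 1 → u ∈ W := fun u => by
    induction u using QuotientGroup.induction_on with
    | _ x => exact fun h => ⟨x, by rw [hqz] at h; exact congrArg Subtype.val h, rfl⟩
  obtain ⟨U, -, hUW, hUcard⟩ := exp2_exists_complement hQ2 (W := W) (U₀ := ⊥) (bot_inf_eq _)
  have hUqz : ∀ u : U, qz (u : G ⧸ Z0) = 1 → u = 1 := fun u hu => by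
    have : (u : G ⧸ Z0) ∈ U ⊓ W := ⟨u.2, hW _ hu⟩
    rw [hUW, Subgroup.mem_bot] at this
    exact Subtype.ext this
  have hU2 : ∀ u : U, u * u = 1 := fun u => Subtype.ext (hQ2 u)
  obtain ⟨n, hn⟩ := IsPGroup.iff_card.1 ((hG.to_quotient Z0).to_subgroup U)
  obtain ⟨m, hm⟩ := IsPGroup.iff_card.1 (hG.to_subgroup Z0)
  -- the dimension of the complement is at most twice the dimension of `Z0`
  have hn2 : n ≤ 2 * m := by
    by_contra hlt
    obtain ⟨k, hk, l, hl, -, hsep⟩ := exp2_exists_chars hZ2 ⊥ _ ⊤ le_rfl bot_le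
    rw [Subgroup.card_bot, mul_one, Subgroup.card_top, hm] at hk
    have hkm : k = m := Nat.pow_right_injective le_rfl hk
    obtain ⟨v, hv1, hv⟩ := exp2_chevalley_warning hU2 hn (Finset.univ : Finset (Fin k)) (fun _ => 2)
      (fun i u => l i (qz (u : G ⧸ Z0))) (fun i _ => (hdeg2 (l i) (hl i)).comp U.subtype)
      (by simp; omega) (fun i _ => by rw [Subgroup.coe_one, hqz1, hl1 _ (hl i)])
    exact hv1 (hUqz v (Subgroup.mem_bot.1 (hsep _ (Subgroup.mem_top _) fun i => hv i (Finset.mem_univ i))))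
  have hGcard : Nat.card G = Nat.card N * 2 ^ n := by
    have hQc : Nat.card G = Nat.card Z0 * Nat.card (G ⧸ Z0) := by
      rw [← Subgroup.index_eq_card, Subgroup.card_mul_index]
    have hWc : Nat.card Z0 * Nat.card W = Nat.card N := by
      have h1 := W.card_mul_index
      rw [Subgroup.index_map_eq N (QuotientGroup.mk'_surjective Z0) (by rw [QuotientGroup.ker_mk']; exact inf_le_right),
        ← Subgroup.index_eq_card] at h1
      have h2 : Nat.card Z0 * Nat.card W * N.index = Nat.card N * N.index := by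
        rw [mul_assoc, h1, Subgroup.card_mul_index, Subgroup.card_mul_index]
      exact Nat.eq_of_mul_eq_mul_right (Nat.pos_of_ne_zero Subgroup.index_ne_zero_of_finite) h2
    rw [hQc, ← hUcard, hn, ← hWc]
    ring
  have hle : 2 ^ m ≤ Nat.card N := hm ▸ Subgroup.card_le_of_le inf_le_right
  have hb1 : 2 ^ n ≤ 2 ^ (2 * m) := Nat.pow_le_pow_right two_pos hn2
  have hb2 : (2 : ℕ) ^ (2 * m) ≤ Nat.card N ^ 2 := by
    rw [mul_comm, pow_mul]
    exact Nat.pow_le_pow_left hle 2
  refine ⟨?_, fun hns => ?_⟩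
  · rw [hGcard, pow_succ' (Nat.card N) 2]
    exact Nat.mul_le_mul_left _ (hb1.trans hb2)
  by_contra hge
  rw [hGcard, pow_succ' (Nat.card N) 2] at hge
  have hge' : Nat.card N ^ 2 ≤ 2 ^ n := Nat.le_of_mul_le_mul_left (not_lt.1 hge) Nat.card_pos
  have hn2' : n = 2 * m :=
    le_antisymm hn2 ((Nat.pow_le_pow_iff_right (by norm_num)).1 (hb2.trans hge'))
  have hNc : Nat.card N = 2 ^ m := by
    refine le_antisymm (not_lt.1 fun hlt => ?_) hle
    have h3 : (2 ^ m) ^ 2 < Nat.card N ^ 2 := Nat.pow_lt_pow_left hlt two_ne_zero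
    rw [← pow_mul, mul_comm] at h3
    exact absurd (lt_of_lt_of_le h3 hge') (not_lt.2 hb1)
  have hZN : Z0 = N := Subgroup.eq_of_le_of_card_ge inf_le_right (by rw [hNc, hm])
  have hNcen : N ≤ Subgroup.center G := hZN ▸ inf_le_left
  -- now every element with trivial square lies in `Z0`, and `U` is everything
  have hW1 : ∀ u : G ⧸ Z0, qz u = 1 → u = 1 := fun u hu => by
    obtain ⟨x, hx, rfl⟩ := hW u hu
    exact (QuotientGroup.eq_one_iff x).2 (hZN ▸ hx)
  have hQn : Nat.card (G ⧸ Z0) = 2 ^ (2 * m) := by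
    refine Nat.eq_of_mul_eq_mul_left (Nat.card_pos (α := Z0)) ?_
    rw [← Subgroup.index_eq_card, Subgroup.card_mul_index, hGcard, hn2', hNc, hm]
  have hcenN : Subgroup.center G ≤ N := by
    intro z hz
    by_contra hzN
    have hz1 : (z : G ⧸ Z0) ≠ 1 := fun h => hzN ((QuotientGroup.eq_one_iff z).1 h).2
    obtain ⟨μ, hμ, -, hμz⟩ := exp2_exists_char hQ2 (R := ⊥) (x := (z : G ⧸ Z0)) (by rwa [Subgroup.mem_bot])
    let e : Z0 := ⟨z ^ 2, hsqc z, hsqN z⟩
    have he1 : e ≠ 1 := fun h => hzN ((hNmem z).2 (congrArg Subtype.val h))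
    obtain ⟨k, hk, l, hl, -, hsep⟩ := exp2_exists_chars hZ2 (Subgroup.zpowers e) _ ⊤ le_rfl le_top
    rw [Subgroup.card_top, hm, Nat.card_zpowers,
      orderOf_eq_prime (p := 2) (by rw [sq]; exact hZ2 e) he1, ← pow_succ] at hk
    have hkm : k + 1 = m := Nat.pow_right_injective le_rfl hk
    obtain ⟨v, hv1, hv⟩ := exp2_chevalley_warning hQ2 hQn (Finset.univ : Finset (Option (Fin k)))
      (fun o => o.elim 1 fun _ => 2) (fun o => o.elim μ fun i u => l i (qz u))
      (fun o _ => by cases o with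
        | none => exact degLE_char hμ
        | some i => exact hdeg2 (l i) (hl i))
      (by simp [Fintype.sum_option]; omega)
      (fun o _ => by cases o with
        | none => simpa using hμ 1 1
        | some i => show l i (qz 1) = 0; rw [hqz1, hl1 _ (hl i)])
    have hμv : μ v = 0 := hv none (Finset.mem_univ _)
    obtain ⟨j, hj⟩ := Subgroup.mem_zpowers_iff.1 (hsep (qz v) (Subgroup.mem_top _) fun i => hv (some i) (Finset.mem_univ _))
    rcases Int.even_or_odd j with ⟨t, rfl⟩ | ⟨t, rfl⟩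
    · rw [← two_mul, zpow_mul, zpow_two, hZ2, one_zpow] at hj
      exact hv1 (hW1 v hj.symm)
    · rw [zpow_add, zpow_mul, zpow_two, hZ2, one_zpow, one_mul, zpow_one] at hj
      induction v using QuotientGroup.induction_on with
      | _ x =>
        have h1 : ((x * z : G) : G ⧸ Z0) = 1 := by
          refine hW1 _ ?_
          rw [hqz]
          refine Subtype.ext ?_
          show (x * z) ^ 2 = 1
          rw [(show Commute x z from Subgroup.mem_center_iff.1 hz x).mul_pow]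
          rw [hqz] at hj
          have hj' : z ^ 2 = x ^ 2 := congrArg Subtype.val hj
          rw [← hj', ← sq]
          exact (hNmem _).1 (hsqN z)
        rw [QuotientGroup.mk_mul] at h1
        rw [eq_inv_of_mul_eq_one_left h1, exp2_inv hQ2, hμz] at hμv
        exact one_ne_zero hμv
  have hGN : Subgroup.center G = N := le_antisymm hcenN hNcen
  have hder : _root_.commutator G ≤ N := by
    rw [_root_.commutator_def, Subgroup.commutator_le]
    exact fun a _ b _ => hcN b a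
  have hder' : N ≤ _root_.commutator G := by
    intro x hx
    by_contra hxD
    have hx' : (⟨x, hNcen hx, hx⟩ : Z0) ∉ (_root_.commutator G).subgroupOf Z0 := hxD
    obtain ⟨l₀, hl₀, hl₀D, hl₀x⟩ := exp2_exists_char hZ2 hx'
    let K : Subgroup Z0 :=
      { carrier := {a | l₀ a = 0}
        one_mem' := hl1 l₀ hl₀
        mul_mem' := fun {a b} (ha : l₀ a = 0) (hb : l₀ b = 0) => by show l₀ (a * b) = 0; rw [hl₀, ha, hb, add_zero]
        inv_mem' := fun {a} ha => by rw [exp2_inv hZ2 a]; exact ha }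
    obtain ⟨k, hk, l, hl, -, hsep⟩ := exp2_exists_chars hZ2 ⊥ _ K le_rfl bot_le
    rw [Subgroup.card_bot, mul_one] at hk
    have hK : Nat.card K < 2 ^ m := by
      rw [← hm]
      refine lt_of_le_of_ne (Subgroup.card_le_card_group _) fun h => ?_
      have : (⟨x, hNcen hx, hx⟩ : Z0) ∈ K := (Subgroup.eq_top_of_card_eq _ h).ge (Subgroup.mem_top _)
      rw [show l₀ ⟨x, hNcen hx, hx⟩ = 0 from this] at hl₀x
      exact zero_ne_one hl₀x
    rw [← hk] at hK
    have hkm := (Nat.pow_lt_pow_iff_right (by norm_num : 1 < 2)).1 hK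
    have hlin : DegLE 1 (fun u => l₀ (qz u)) := degLE_char (fun u v => by
      induction u using QuotientGroup.induction_on with
      | _ a =>
        induction v using QuotientGroup.induction_on with
        | _ b =>
          rw [← QuotientGroup.mk_mul, hqz, hqz, hqz]
          have e : (⟨(a * b) ^ 2, hsqc _, hsqN _⟩ : Z0) =
              ⟨a ^ 2, hsqc _, hsqN _⟩ * ⟨b ^ 2, hsqc _, hsqN _⟩ * ⟨⁅b, a⁆, hcen b a, hcN a b⟩ :=
            Subtype.ext (hsqmul a b)
          rw [e, hl₀, hl₀, hl₀D ⟨⁅b, a⁆, hcen b a, hcN a b⟩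
            (Subgroup.mem_subgroupOf.2 (Subgroup.commutator_mem_commutator (Subgroup.mem_top b) (Subgroup.mem_top a))),
            add_zero])
    obtain ⟨v, hv1, hv⟩ := exp2_chevalley_warning hQ2 hQn (Finset.univ : Finset (Option (Fin k)))
      (fun o => o.elim 1 fun _ => 2) (fun o => o.elim (fun u => l₀ (qz u)) fun i u => l i (qz u))
      (fun o _ => by cases o with
        | none => exact hlin
        | some i => exact hdeg2 (l i) (hl i))
      (by simp [Fintype.sum_option]; omega)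
      (fun o _ => by cases o with
        | none => show l₀ (qz 1) = 0; rw [hqz1, hl1 _ hl₀]
        | some i => show l i (qz 1) = 0; rw [hqz1, hl1 _ (hl i)])
    refine hv1 (hW1 v (Subgroup.mem_bot.1 (hsep _ ?_ fun i => hv (some i) (Finset.mem_univ _))))
    exact hv none (Finset.mem_univ _)
  refine hns ⟨hG, ?_, (le_antisymm hder hder').trans hGN.symm⟩
  rw [hGN]
  refine le_antisymm (fun g hg => ?_) ((hder'.trans (commutator_le_frattini hG)))
  by_contra hgN
  have hgQ : (g : G ⧸ Z0) ∉ (⊥ : Subgroup (G ⧸ Z0)) := by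
    rw [Subgroup.mem_bot]; exact fun h => hgN ((QuotientGroup.eq_one_iff g).1 h).2
  obtain ⟨μ, hμ, -, hμg⟩ := exp2_exists_char hQ2 hgQ
  let M : Subgroup G :=
    { carrier := {x | μ (x : G ⧸ Z0) = 0}
      one_mem' := by show μ ((1 : G) : G ⧸ Z0) = 0; rw [QuotientGroup.mk_one]; simpa using hμ 1 1
      mul_mem' := fun {a b} (ha : μ (a : G ⧸ Z0) = 0) (hb : μ (b : G ⧸ Z0) = 0) => by
        show μ ((a * b : G) : G ⧸ Z0) = 0
        rw [QuotientGroup.mk_mul, hμ, ha, hb, add_zero]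
      inv_mem' := fun {a} (ha : μ (a : G ⧸ Z0) = 0) => by
        show μ ((a⁻¹ : G) : G ⧸ Z0) = 0
        rw [QuotientGroup.mk_inv, exp2_inv hQ2]; exact ha }
  have hgM : g ∉ M := fun h => one_ne_zero (hμg.symm.trans h)
  have hMi : M.index = 2 := by
    refine Subgroup.index_eq_two_iff.2 ⟨g, fun b => ?_⟩
    show Xor' (μ ((b * g : G) : G ⧸ Z0) = 0) (μ (b : G ⧸ Z0) = 0)
    rw [QuotientGroup.mk_mul, hμ, hμg]
    generalize μ (b : G ⧸ Z0) = z
    revert z
    unfold Xor'
    decide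
  exact hgM (frattini_le_coatom (isCoatom_of_index_prime (A := M) (hMi ▸ Nat.prime_two)) hg)

end Cfsg.Agent.S3773
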