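import Cfsg.Statements.S1237
import Cfsg.Agent.S3774
import Cfsg.Agent.S3773
import Cfsg.Agent.S1139
import Cfsg.Agent.Lib.Classical.HermOrder
import Cfsg.Agent.Lib.PGroup.RankTwoCoords
import Cfsg.Agent.Lib.PGroup.Suzuki.Structure

set_option autoImplicit false
open Cfsg

namespace Cfsg.Agent.S1237

open scoped commutatorElement

theorem coords_section {R F : Type*} [Group R] [Field F] [CharP F 2] (B : AddSubgroup F)
    (hB : ∀ x, x ∈ B ↔ x ^ 4 = x) (d : CfsgLib.SU3Sylow.Coords R F 4) : ∃ ι : B → R,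
      (∀ a b, ι (a + b) = ι a * ι b) ∧ Function.Injective ι ∧ (∀ p, d.π p = 0 ↔ ∃ b, ι b = p) ∧
      (∀ b p, ι b * p = p * ι b) ∧ ∀ p, ∀ b : B, (b : F) = d.π p ^ 5 → ι b = p * p := by
  have huniq : ∀ u ∈ Subgroup.center R, ∀ v ∈ Subgroup.center R, d.ζ u = d.ζ v → u = v := by
    intro u hu v hv h
    have h1 := d.ζ_eq_zero _ (mul_mem hu hv) (by rw [d.ζ_mul u hu v hv, h, CharTwo.add_self_eq_zero])
    exact mul_right_cancel (b := v) (h1.trans (d.center_sq v hv).symm)
  have hsqc : ∀ r : R, r * r ∈ Subgroup.center R := fun r =>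
    (d.π_eq_zero _).1 (by rw [d.π_mul, CharTwo.add_self_eq_zero])
  have hex : ∀ b : B, ∃ u ∈ Subgroup.center R, d.ζ u = (b : F) := fun b => by
    obtain ⟨r, hr⟩ := d.π_surj ((b : F) ^ 2)
    refine ⟨r * r, hsqc r, ?_⟩
    rw [d.ζ_sq, hr]
    have hb : (b : F) ^ 4 = b := (hB _).1 b.2
    linear_combination ((b : F) ^ 6 + (b : F) ^ 3 + 1) * hb
  choose ι hιc hιζ using hex
  refine ⟨ι, fun a b => huniq _ (hιc _) _ (mul_mem (hιc a) (hιc b)) ?_, fun a b h => ?_,
    fun p => ⟨fun h => ?_, fun ⟨b, hb⟩ => (d.π_eq_zero p).2 (hb ▸ hιc b)⟩,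
    fun b p => (Subgroup.mem_center_iff.1 (hιc b) p).symm,
    fun p b hb => huniq _ (hιc _) _ (hsqc p) ?_⟩
  · rw [hιζ, d.ζ_mul _ (hιc a) _ (hιc b), hιζ, hιζ, AddSubgroup.coe_add]
  · exact Subtype.ext (by rw [← hιζ a, h, hιζ])
  · have hp := (d.π_eq_zero p).1 h
    exact ⟨⟨d.ζ p, (hB _).2 (d.ζ_pow p hp)⟩, huniq _ (hιc _) _ hp (hιζ _)⟩
  · rw [hιζ, hb, d.ζ_sq]

theorem coords_iso {S S' F : Type*} [Group S] [Group S'] [Finite S] [Finite S'] [Field F] [CharP F 2]
    (c : CfsgLib.SU3Sylow.Coords S F 4) (c' : CfsgLib.SU3Sylow.Coords S' F 4) : Nonempty (S ≃* S') := by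
  classical
  let B : AddSubgroup F :=
    { carrier := {x | x ^ 4 = x}
      zero_mem' := zero_pow (by norm_num)
      add_mem' := fun {a b} (ha : a ^ 4 = a) (hb : b ^ 4 = b) => by
        show (a + b) ^ 4 = a + b
        rw [CfsgLib.RankTwoTrans.frob4_add, ha, hb]
      neg_mem' := fun {a} (ha : a ^ 4 = a) => by
        show (-a) ^ 4 = -a
        rw [CharTwo.neg_eq, ha] }
  obtain ⟨ι, h1, h2, h3, h4, h5⟩ := coords_section B (fun _ => Iff.rfl) c
  obtain ⟨ι', h1', h2', h3', h4', h5'⟩ := coords_section B (fun _ => Iff.rfl) c'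
  refine Cfsg.Agent.S1139.iso_of_squares c.π c'.π ι ι' c.π_mul c'.π_mul h1 h1' h2 h2' h3 h3'
    c.π_surj c'.π_surj h4 h4' fun p t hpt => ?_
  have hb : (c.π p ^ 5) ^ 4 = c.π p ^ 5 := by
    have := c.ζ_pow (p * p) ((c.π_eq_zero _).1 (by rw [c.π_mul, CharTwo.add_self_eq_zero]))
    rwa [c.ζ_sq] at this
  exact ⟨⟨c.π p ^ 5, hb⟩, h5 p _ rfl, h5' t _ (by rw [← hpt])⟩

theorem abelian_case {T : Type*} [Group T] [Finite T] (hcomm : ∀ x y : T, x * y = y * x) (hT : IsPGroup 2 T)
    (hV : Nat.card {x : T // x ^ 2 = 1} = 4) (ψ : MulAut T) (hfix : ∀ x : T, ψ x = x → x = 1) :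
    ∃ n : ℕ, 1 ≤ n ∧ Nonempty (T ≃* Multiplicative (ZMod (2 ^ n) × ZMod (2 ^ n))) := by
  classical
  obtain ⟨a, hmax⟩ := Finite.exists_max (fun x : T => orderOf x)
  obtain ⟨n, hn⟩ := IsPGroup.iff_orderOf.1 hT a
  have hexp : ∀ x : T, x ^ 2 ^ n = 1 := fun x => by
    obtain ⟨m, hm⟩ := IsPGroup.iff_orderOf.1 hT x
    have h := hmax x
    rw [hm, hn] at h
    exact orderOf_dvd_iff_pow_eq_one.1 (hm ▸ Nat.pow_dvd_pow 2 ((Nat.pow_le_pow_iff_right (by norm_num)).1 h))
  have hn1 : 1 ≤ n := by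
    by_contra h
    have h0 : n = 0 := by omega
    have hsub : Subsingleton T := ⟨fun x y => by
      have hx := hexp x; have hy := hexp y
      rw [h0, pow_zero, pow_one] at hx hy
      rw [hx, hy]⟩
    have := (Finite.card_le_one_iff_subsingleton (α := {x : T // x ^ 2 = 1})).2 inferInstance
    omega
  set b := ψ a with hb
  set u := a ^ 2 ^ (n - 1) with hu
  set w := b ^ 2 ^ (n - 1) with hw
  have hpow : 2 ^ (n - 1) * 2 = 2 ^ n := by rw [← pow_succ]; congr 1; omega
  have hu2 : u * u = 1 := by rw [hu, ← sq, ← pow_mul, hpow]; exact hexp a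
  have hu1 : u ≠ 1 := fun h => by
    have := Nat.le_of_dvd (by positivity) (hn ▸ orderOf_dvd_of_pow_eq_one h)
    have : 0 < 2 ^ (n - 1) := by positivity
    omega
  have hwu : w = ψ u := by rw [hw, hu, hb, map_pow]
  have hw2 : w * w = 1 := by rw [hwu, ← map_mul, hu2, map_one]
  have hw1 : w ≠ 1 := fun h => hu1 (ψ.injective (by rw [← hwu, h, map_one]))
  have huw : u * w ≠ 1 := fun h => by
    have : w = u := mul_left_cancel (h.trans hu2.symm)
    exact hu1 (hfix u (hwu ▸ this))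
  have hind : ∀ (k : ℕ), k ≤ n → ∀ i j : ℕ, a ^ i * b ^ j = 1 → 2 ^ k ∣ i ∧ 2 ^ k ∣ j := by
    intro k
    induction k with
    | zero => intro _ i j _; simp
    | succ k ih =>
      intro hk i j h
      obtain ⟨⟨i', rfl⟩, ⟨j', rfl⟩⟩ := ih (by omega) i j h
      have h1 : u ^ i' * w ^ j' = 1 := by
        have h2 : (a ^ (2 ^ k * i') * b ^ (2 ^ k * j')) ^ 2 ^ (n - 1 - k) = 1 := by rw [h, one_pow]
        rw [(show Commute _ _ from hcomm _ _).mul_pow, ← pow_mul, ← pow_mul] at h2
        have e : ∀ l, 2 ^ k * l * 2 ^ (n - 1 - k) = 2 ^ (n - 1) * l := fun l => by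
          rw [show 2 ^ (n - 1) = 2 ^ k * 2 ^ (n - 1 - k) by rw [← pow_add]; congr 1; omega]
          ring
        rwa [e, e, pow_mul, pow_mul] at h2
      rw [pow_eq_pow_mod i' (show u ^ 2 = 1 by rw [sq]; exact hu2),
        pow_eq_pow_mod j' (show w ^ 2 = 1 by rw [sq]; exact hw2)] at h1
      have hd : i' % 2 = 0 ∧ j' % 2 = 0 := by
        rcases Nat.mod_two_eq_zero_or_one i' with e1 | e1 <;>
          rcases Nat.mod_two_eq_zero_or_one j' with e2 | e2 <;>
            simp [e1, e2, hu1, hw1, huw] at h1 ⊢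
      rw [pow_succ]
      exact ⟨Nat.mul_dvd_mul_left _ (Nat.dvd_of_mod_eq_zero hd.1),
        Nat.mul_dvd_mul_left _ (Nat.dvd_of_mod_eq_zero hd.2)⟩
  haveI : NeZero (2 ^ n) := ⟨by positivity⟩
  let f : Multiplicative (ZMod (2 ^ n) × ZMod (2 ^ n)) →* T :=
    { toFun := fun x => a ^ x.toAdd.1.val * b ^ x.toAdd.2.val
      map_one' := by simp
      map_mul' := fun x y => by
        simp only [toAdd_mul, Prod.fst_add, Prod.snd_add, ZMod.val_add,
          ← pow_eq_pow_mod _ (hexp a), ← pow_eq_pow_mod _ (hexp b), pow_add]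
        exact Commute.mul_mul_mul_comm (hcomm _ _) _ _ }
  have hf : Function.Injective f := by
    rw [injective_iff_map_eq_one]
    intro x hx
    obtain ⟨h1, h2⟩ := hind n le_rfl _ _ hx
    refine Multiplicative.toAdd.injective (Prod.ext (ZMod.val_injective _ ?_) (ZMod.val_injective _ ?_))
    · exact (Nat.eq_zero_of_dvd_of_lt h1 (ZMod.val_lt _)).trans ZMod.val_zero.symm
    · exact (Nat.eq_zero_of_dvd_of_lt h2 (ZMod.val_lt _)).trans ZMod.val_zero.symm
  have hbound : ∀ k, Nat.card {x : T // x ^ 2 ^ k = 1} ≤ 4 ^ k := by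
    intro k
    induction k with
    | zero =>
      rw [pow_zero]
      exact Finite.card_le_one_iff_subsingleton.2 ⟨fun x y => Subtype.ext (by
        have hx := x.2; have hy := y.2
        simp only [pow_zero, pow_one] at hx hy
        rw [hx, hy])⟩
    | succ k ih =>
      let R : T → T := fun y => if h : ∃ x, x ^ 2 = y then Classical.choose h else 1
      have hR : ∀ x : T, (R (x ^ 2)) ^ 2 = x ^ 2 := fun x => by
        have h : ∃ z, z ^ 2 = x ^ 2 := ⟨x, rfl⟩
        simp only [R, dif_pos h]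
        exact Classical.choose_spec h
      calc Nat.card {x : T // x ^ 2 ^ (k + 1) = 1}
          ≤ Nat.card ({x : T // x ^ 2 ^ k = 1} × {x : T // x ^ 2 = 1}) := by
            refine Nat.card_le_card_of_injective (fun x => (⟨x.1 ^ 2, ?_⟩, ⟨x.1 * (R (x.1 ^ 2))⁻¹, ?_⟩)) ?_
            · rw [← pow_mul, ← pow_succ']; exact x.2
            · rw [(show Commute _ _ from hcomm _ _).mul_pow, inv_pow, hR, mul_inv_cancel]
            · intro x y h
              simp only [Prod.mk.injEq, Subtype.mk.injEq] at h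
              refine Subtype.ext ?_
              have h2 := h.2
              rw [h.1] at h2
              exact mul_right_cancel h2
        _ = Nat.card {x : T // x ^ 2 ^ k = 1} * 4 := by rw [Nat.card_prod, hV]
        _ ≤ 4 ^ (k + 1) := by rw [pow_succ 4 k]; exact Nat.mul_le_mul_right 4 ih
  have hcard : Nat.card T = Nat.card (Multiplicative (ZMod (2 ^ n) × ZMod (2 ^ n))) := by
    have h1 := Nat.card_le_card_of_injective f hf
    have h2 : Nat.card T ≤ 4 ^ n := by
      refine le_trans (le_of_eq ?_) (hbound n)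
      exact Nat.card_congr ((Equiv.subtypeUnivEquiv hexp).symm)
    have h3 : Nat.card (Multiplicative (ZMod (2 ^ n) × ZMod (2 ^ n))) = 4 ^ n := by
      rw [Nat.card_congr Multiplicative.toAdd, Nat.card_prod, Nat.card_zmod, ← mul_pow]; norm_num
    omega
  exact ⟨n, hn1, ⟨(MulEquiv.ofBijective f ((Nat.bijective_iff_injective_and_card f).2 ⟨hf, hcard.symm⟩)).symm⟩⟩

/-- Let T be a finite 2-group of 2-rank exactly 2 (it has a Klein four-subgroup but no elementary abelian subgroup of order 8) admitting an automorphism φ such that any two involutions of T are carried to one another by a power of φ. Then T ≅ Z_{2^n} × Z_{2^n} for some n ≥ 1, or T is isomorphic to a Sylow 2-subgroup of PSU(3) over the field with 16 elements. -/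
theorem result {T : Type*} [Group T] [Finite T] (hT : IsPGroup 2 T) (h2 : Cfsg.PRankLE 2 2 T) (h1 : ¬ Cfsg.PRankLE 2 1 T) (φ : MulAut T) (htrans : ∀ s t : T, orderOf s = 2 → orderOf t = 2 → ∃ k : ℕ, (φ ^ k) s = t) {F : Type*} [Field F] [Fintype F] (hF : Fintype.card F = 16) (P : Sylow 2 (Cfsg.PSU 3 F 4)) : (∃ n : ℕ, 1 ≤ n ∧ Nonempty (T ≃* Multiplicative (ZMod (2 ^ n) × ZMod (2 ^ n)))) ∨ Nonempty (T ≃* (P : Subgroup (Cfsg.PSU 3 F 4))) := by
  classical
  haveI : Fact (Nat.Prime 2) := ⟨Nat.prime_two⟩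
  haveI : Finite (MulAut T) := Finite.of_injective _ DFunLike.coe_injective
  obtain ⟨A, hAc, hA2, hAcard⟩ :
      ∃ A : Subgroup T, IsMulCommutative A ∧ (∀ a ∈ A, a ^ 2 = 1) ∧ 2 < Nat.card A := by
    by_contra h
    push Not at h
    exact h1 fun A hA hA' => by simpa using h A hA hA'
  haveI : Nontrivial T := by
    by_contra h
    rw [not_nontrivial_iff_subsingleton] at h
    have := (Finite.card_le_one_iff_subsingleton (α := A)).2 inferInstance
    omega
  have hord : ∀ {x : T}, x ≠ 1 → x ^ 2 = 1 → orderOf x = 2 := fun hx hx2 => orderOf_eq_prime hx2 hx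
  have htr : ∀ x y : T, x ≠ 1 → x ^ 2 = 1 → y ≠ 1 → y ^ 2 = 1 → ∃ a : MulAut T, a x = y :=
    fun x y hx hx2 hy hy2 =>
      let ⟨k, hk⟩ := htrans x y (hord hx hx2) (hord hy hy2)
      ⟨φ ^ k, hk⟩
  obtain ⟨hcen, m, hm⟩ := Cfsg.Agent.S3774.result hT htr
  let V : Subgroup T :=
    { carrier := {x | x ^ 2 = 1}
      one_mem' := one_pow 2
      mul_mem' := fun {x y} (hx : x ^ 2 = 1) (hy : y ^ 2 = 1) => by
        show (x * y) ^ 2 = 1
        rw [(show Commute x y from Subgroup.mem_center_iff.1 (hcen y hy) x).mul_pow, hx, hy, one_mul]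
      inv_mem' := fun {x} (hx : x ^ 2 = 1) => by show x⁻¹ ^ 2 = 1; rw [inv_pow, hx, inv_one] }
  have hVle : Nat.card V ≤ 4 :=
    h2 V ⟨⟨fun x y => Subtype.ext (Subgroup.mem_center_iff.1 (hcen y.1 y.2) x.1)⟩⟩ fun x hx => hx
  have hV4 : Nat.card V = 4 := by
    have hAV := Subgroup.card_le_of_le (show A ≤ V from fun x hx => hA2 x hx)
    obtain ⟨k, hk⟩ := IsPGroup.iff_card.1 (hT.to_subgroup V)
    rcases Nat.lt_or_ge k 2 with h | h
    · have := Nat.pow_le_pow_right (show 0 < 2 by norm_num) (show k ≤ 1 by omega)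
      omega
    · have := Nat.pow_le_pow_right (show 0 < 2 by norm_num) h
      omega
  have hVsub : Nat.card {x : T // x ^ 2 = 1} = 4 := hV4
  have hexpV : ∀ x : V, x * x = 1 := fun x => Subtype.ext (by rw [← sq]; exact x.2)
  -- the action on the three involutions
  have hφV : ∀ x ∈ V, φ x ∈ V := fun x (hx : x ^ 2 = 1) => by
    show (φ x) ^ 2 = 1
    rw [← map_pow, hx, map_one]
  have hone : ∀ x ∈ V, φ x = x → x = 1 := by
    intro x hx hfx
    by_contra hx1
    have hall : ∀ k : ℕ, (φ ^ k) x = x := fun k => by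
      induction k with
      | zero => rfl
      | succ k ih => rw [pow_succ', MulAut.mul_apply, ih, hfx]
    have hsub : (V : Set T) ⊆ {1, x} := fun y hy => by
      by_cases hy1 : y = 1
      · exact Or.inl hy1
      · obtain ⟨k, hk⟩ := htrans x y (hord hx1 hx) (hord hy1 hy)
        exact Or.inr (by rw [← hk, hall]; rfl)
    have h3 : Nat.card V ≤ 2 := by
      show Nat.card (V : Set T) ≤ 2
      rw [Nat.card_coe_set_eq]
      refine (Set.ncard_le_ncard hsub (Set.toFinite _)).trans ?_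
      refine (Set.ncard_insert_le _ _).trans ?_
      rw [Set.ncard_singleton]
    omega
  have hφ3 : ∀ x ∈ V, φ (φ x) = x * φ x := by
    intro x hx
    by_cases hx1 : x = 1
    · simp [hx1]
    set y := φ x with hy
    have hy1 : y ≠ 1 := fun h => hx1 (φ.injective (h.trans (map_one φ).symm))
    have hyx : y ≠ x := fun h => hx1 (hone x hx h)
    have hzy : φ y ≠ y := fun h => hy1 (hone y (hφV x hx) h)
    have hzx : φ y ≠ x := by
      intro h
      have hall : ∀ k : ℕ, (φ ^ k) x = x ∨ (φ ^ k) x = y := fun k => by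
        induction k with
        | zero => exact Or.inl rfl
        | succ k ih =>
          rw [pow_succ', MulAut.mul_apply]
          rcases ih with e | e <;> rw [e]
          · exact Or.inr rfl
          · exact Or.inl h
      have hsub : (V : Set T) ⊆ {1, x, y} := fun v hv => by
        by_cases hv1 : v = 1
        · exact Or.inl hv1
        · obtain ⟨k, hk⟩ := htrans x v (hord hx1 hx) (hord hv1 hv)
          exact Or.inr ((hall k).imp (fun e => hk ▸ e) (fun e => hk ▸ e))
      have h3 : Nat.card V ≤ 3 := by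
        show Nat.card (V : Set T) ≤ 3
        rw [Nat.card_coe_set_eq]
        refine (Set.ncard_le_ncard hsub (Set.toFinite _)).trans ?_
        refine (Set.ncard_insert_le _ _).trans ?_
        rw [Set.ncard_pair (Ne.symm hyx)]
      omega
    have hbij : Function.Bijective
        (CfsgLib.RankTwoTrans.pair (⟨x, hx⟩ : V) (⟨y, hφV x hx⟩ : V)) :=
      (Nat.bijective_iff_injective_and_card _).2
        ⟨CfsgLib.RankTwoTrans.pair_inj hexpV (fun h => hx1 (congrArg Subtype.val h))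
          (fun h => hy1 (congrArg Subtype.val h)) (fun h => hyx (congrArg Subtype.val h)),
          by rw [hV4, Nat.card_eq_fintype_card]; rfl⟩
    obtain ⟨k, hk⟩ := hbij.2 ⟨φ y, hφV y (hφV x hx)⟩
    have hk' := congrArg Subtype.val hk
    rcases CfsgLib.RankTwoTrans.k_cases k with rfl | rfl | rfl | rfl <;> simp at hk'
    · exact absurd (φ.injective ((map_one φ).trans hk')).symm hy1
    · exact absurd hk'.symm hzx
    · exact absurd hk'.symm hzy
    · exact hk'.symm
  have hφcube : ∀ x ∈ V, φ (φ (φ x)) = x := fun x hx => by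
    rw [hφ3 x hx, map_mul, hφ3 x hx, ← mul_assoc, Subgroup.mem_center_iff.1 (hcen x hx) (φ x),
      mul_assoc, ← sq, (show (φ x) ^ 2 = 1 from hφV x hx), mul_one]
  -- the 3-part of `φ`
  obtain ⟨e, r, hr, her⟩ := Nat.exists_eq_pow_mul_and_not_dvd (orderOf_pos φ).ne' 3 (by norm_num)
  set ω : MulAut T := φ ^ r with hωdef
  have hω : ω ^ 3 ^ e = 1 := by rw [hωdef, ← pow_mul, mul_comm, ← her, pow_orderOf_eq_one]
  have hωfixV : ∀ x ∈ V, ω x = x → x = 1 := by
    intro x hx h
    have h3 : (φ ^ 3) x = x := by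
      rw [show (3 : ℕ) = 1 + 1 + 1 from rfl, pow_succ, pow_succ, pow_one]; exact hφcube x hx
    have hfix' : ∀ q, (φ ^ (3 * q)) x = x := fun q => by
      induction q with
      | zero => rfl
      | succ q ih => rw [Nat.mul_succ, pow_add, MulAut.mul_apply, h3, ih]
    have hr' : (φ ^ (r % 3)) x = x := by
      rw [hωdef, ← Nat.mod_add_div r 3, pow_add, MulAut.mul_apply, hfix'] at h
      exact h
    rcases (show r % 3 = 1 ∨ r % 3 = 2 by omega) with h' | h' <;> rw [h'] at hr'
    · exact hone x hx (by simpa using hr')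
    · refine hone x hx ?_
      rw [pow_two, MulAut.mul_apply] at hr'
      exact (congrArg φ hr').symm.trans (hφcube x hx)
  have hωfix : ∀ x : T, ω x = x → x = 1 := by
    intro x hx
    by_contra hx1
    obtain ⟨k, hk⟩ := IsPGroup.iff_orderOf.1 hT x
    have hk1 : k ≠ 0 := fun h => hx1 (orderOf_eq_one_iff.1 (by rw [hk, h, pow_zero]))
    have hd : 2 ^ (k - 1) * 2 = 2 ^ k := by rw [← pow_succ]; congr 1; omega
    have hv : x ^ 2 ^ (k - 1) ∈ V := by
      show (x ^ 2 ^ (k - 1)) ^ 2 = 1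
      rw [← pow_mul, hd, ← hk, pow_orderOf_eq_one]
    have := hωfixV _ hv (by rw [map_pow, hx])
    have h' := Nat.le_of_dvd (by positivity) (hk ▸ orderOf_dvd_of_pow_eq_one this)
    have : 0 < 2 ^ (k - 1) := by positivity
    omega
  by_cases hab : ∀ x y : T, x * y = y * x
  · exact Or.inl (abelian_case hab hT hVsub ω hωfix)
  refine Or.inr ?_
  -- the non-abelian case
  obtain ⟨z₁, hz₁⟩ : ∃ x : V, x ≠ 1 := by
    haveI : Nontrivial V := (Finite.one_lt_card_iff_nontrivial).1 (by omega)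
    exact exists_ne 1
  have hz1' : (z₁ : T) ≠ 1 := fun h => hz₁ (Subtype.ext h)
  obtain ⟨ψ, ⟨ctx⟩⟩ := CfsgLib.PGroup.SuzukiExp.exists_ctx hT
    ⟨z₁.1, φ z₁.1, fun h => hz1' (hone _ z₁.2 h.symm), hz1', z₁.2,
      fun h => hz1' (φ.injective (h.trans (map_one φ).symm)), hφV _ z₁.2⟩
    (Subgroup.zpowers φ)
    (Group.isSolvable_of_comm fun a b => Subtype.ext (by
      obtain ⟨i, hi⟩ := a.2
      obtain ⟨j, hj⟩ := b.2
      show (a : MulAut T) * b = b * a
      rw [← hi, ← hj]
      exact (Commute.refl φ).zpow_zpow i j))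
    (fun x y hx hx2 hy hy2 =>
      let ⟨k, hk⟩ := htrans x y (hord hx hx2) (hord hy hy2)
      ⟨φ ^ k, ⟨k, zpow_natCast φ k⟩, hk⟩)
  obtain ⟨hcf, hfz, hZ, h4⟩ := ctx.special hab
  have hc : ∀ x y : T, ⁅x, y⁆ ∈ Subgroup.center T := fun x y => by
    rw [← hfz, ← hcf]
    exact Subgroup.commutator_mem_commutator (Subgroup.mem_top x) (Subgroup.mem_top y)
  have hcl : (⊤ : Subgroup T).lowerCentralSeries 2 = ⊥ := by
    rw [Subgroup.lowerCentralSeries_succ, Subgroup.commutator_eq_bot_iff_le_centralizer,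
      Subgroup.lowerCentralSeries_succ, Subgroup.lowerCentralSeries_zero, Subgroup.commutator_le]
    intro x _ y _
    exact Subgroup.mem_centralizer_iff.2 fun g _ => Subgroup.mem_center_iff.1 (hc x y) g
  have hle : Nat.card T ≤ 4 ^ 3 := hVsub ▸ (Cfsg.Agent.S3773.result hT hcl h4 fun x y hx hy =>
    V.mul_mem (show x ∈ V from hx) (show y ∈ V from hy)).1
  rw [hVsub] at hm
  have hcard4 : Nat.card (Subgroup.center T) = 4 := by
    rw [show Subgroup.center T = V from SetLike.ext hZ]; exact hV4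
  have hgt : 4 < Nat.card T := by
    by_contra h
    refine hab fun x y => ?_
    have htop : Subgroup.center T = ⊤ := Subgroup.eq_top_of_le_card _ (by omega)
    exact Subgroup.mem_center_iff.1 (htop ▸ Subgroup.mem_top y : y ∈ Subgroup.center T) x
  have hbound : Nat.card T = 16 ∨ Nat.card T = 64 := by
    rcases m with - | - | - | - | m
    · omega
    · omega
    · left; omega
    · right; omega
    · have := Nat.pow_le_pow_right (show 0 < 4 by norm_num) (show 4 ≤ m + 1 + 1 + 1 + 1 by omega)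
      omega
  haveI : CharP F 2 := charP_of_card_eq_prime_pow (f := 4) (by rw [hF]; norm_num)
  obtain ⟨cT⟩ := CfsgLib.RankTwoTrans.coords_of_trans hF hZ hcard4 h4 hc hab hbound ω e hω hωfix
  have hF' : Fintype.card F = (2 ^ 2) ^ 2 := by rw [hF]; norm_num
  have hz : Subgroup.center (Cfsg.SU 3 F 4) = ⊥ := Subgroup.eq_bot_of_card_eq _ (by
    rw [CfsgLib.Classical.card_center_su (q := 4) (by rw [hF]; norm_num) (by norm_num)]
    rfl)
  let i : Cfsg.PSU 3 F 4 ≃* Cfsg.SU 3 F (2 ^ 2) :=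
    (QuotientGroup.quotientMulEquivOfEq hz).trans QuotientGroup.quotientBot
  obtain ⟨c₀⟩ := CfsgLib.SU3Sylow.coords_sylow hF' (P.mapSurjective (f := i.toMonoidHom) i.surjective)
  have cP : CfsgLib.SU3Sylow.Coords (P : Subgroup (Cfsg.PSU 3 F 4)) F 4 :=
    c₀.congr ((MulEquiv.subgroupMap i (P : Subgroup (Cfsg.PSU 3 F 4))).trans
      (MulEquiv.subgroupCongr (Sylow.coe_mapSurjective _ P).symm))
  haveI : Finite (P : Subgroup (Cfsg.PSU 3 F 4)) := inferInstance
  exact coords_iso cT cP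

end Cfsg.Agent.S1237
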