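import Cfsg.Statements.S1137
import Cfsg.Agent.Lib.Suzuki.TwoGroup

set_option autoImplicit false
open Cfsg

namespace Cfsg.Agent.S1137

/-- In a Suzuki 2-group `P` (a finite non-abelian 2-group with more than one involution admitting a cyclic group of automorphisms regular on its involutions) the involutions are exactly the non-identity central elements, and `Z(P)` is elementary abelian. -/
theorem result {P : Type*} [Group P] (hP : Cfsg.IsSuzukiTwoGroup P) :
    (∀ x : P, (x ≠ 1 ∧ x * x = 1) ↔ (x ∈ Subgroup.center P ∧ x ≠ 1)) ∧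
      ∀ z ∈ Subgroup.center P, z * z = 1 := by
  obtain ⟨hfin, hP2, hna, -, K, hK, hreg⟩ := hP
  haveI := hfin
  haveI : Finite (MulAut P) :=
    Finite.of_injective (fun σ => (σ : P → P)) DFunLike.coe_injective
  obtain ⟨g, hg⟩ := hK.exists_generator
  have htr : CfsgLib.Suzuki.TwoGroup.Trans (g : MulAut P) := by
    intro x y hx hx2 hy hy2
    obtain ⟨k, hk, -⟩ := hreg x y hx hx2 hy hy2
    obtain ⟨i, hi⟩ := (isOfFinOrder_of_finite g).mem_powers_iff_mem_zpowers.2 (hg k)
    refine ⟨i, ?_⟩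
    rw [← SubmonoidClass.coe_pow, show g ^ i = k from hi]
    exact hk
  have hsq : ∀ z ∈ Subgroup.center P, z * z = 1 := fun z hz =>
    CfsgLib.Suzuki.TwoGroup.center_sq hP2 htr hna hz
  exact ⟨fun x => ⟨fun h => ⟨CfsgLib.Suzuki.TwoGroup.involution_central hP2 htr h.2, h.1⟩,
    fun h => ⟨h.2, hsq x h.1⟩⟩, hsq⟩

end Cfsg.Agent.S1137
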