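import Cfsg.Statements.S1138
import Cfsg.Agent.S3773
import Cfsg.Agent.Lib.PGroup.Suzuki.Structure

set_option autoImplicit false
open Cfsg

namespace Cfsg.Agent.S1138

/-- Let `P` be a Suzuki 2-group with `|Z(P)| = q`. Then every square lies in `Z(P)` and `P/Z(P)` is abelian (so elementary abelian), `|P| = q²` or `|P| = q³`, and `P` has exponent 4. -/
theorem result {P : Type*} [Group P] (hP : Cfsg.IsSuzukiTwoGroup P) :
    (∀ x : P, x * x ∈ Subgroup.center P) ∧ (∀ x y : P, x⁻¹ * y⁻¹ * x * y ∈ Subgroup.center P) ∧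
      (Nat.card P = Nat.card (Subgroup.center P) ^ 2 ∨ Nat.card P = Nat.card (Subgroup.center P) ^ 3) ∧
      Monoid.exponent P = 4 := by
  obtain ⟨hfin, hP2, ⟨a₀, b₀, hab⟩, ⟨x₀, y₀, hxy, hx1, hx2, hy1, hy2⟩, K, hK, hreg⟩ := hP
  haveI := hfin
  haveI : Nontrivial P := ⟨⟨x₀, 1, hx1⟩⟩
  haveI := hK
  have hsol : Group.IsSolvable K :=
    Group.isSolvable_of_comm fun a b => IsCyclic.commGroup.mul_comm a b
  have htr : ∀ x y : P, x ≠ 1 → x ^ 2 = 1 → y ≠ 1 → y ^ 2 = 1 → ∃ a ∈ K, a x = y := by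
    intro x y hx hx' hy hy'
    obtain ⟨k, hk, -⟩ := hreg x y hx (by rw [← sq]; exact hx') hy (by rw [← sq]; exact hy')
    exact ⟨k, k.2, hk⟩
  obtain ⟨φ, ⟨c⟩⟩ := CfsgLib.PGroup.SuzukiExp.exists_ctx hP2
    ⟨x₀, y₀, hxy, hx1, by rw [sq]; exact hx2, hy1, by rw [sq]; exact hy2⟩ K hsol htr
  obtain ⟨h1, h2, h3, h4⟩ := c.special fun h => hab (h a₀ b₀)
  have hsq : ∀ x : P, x * x ∈ Subgroup.center P := fun x => by
    rw [h3, ← sq, ← pow_mul]; exact h4 x
  have hcm : ∀ x y : P, x⁻¹ * y⁻¹ * x * y ∈ Subgroup.center P := fun x y => by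
    rw [← h2, ← h1]
    have h := Subgroup.commutator_mem_commutator (Subgroup.mem_top x⁻¹) (Subgroup.mem_top y⁻¹)
    rw [commutatorElement_def, inv_inv, inv_inv] at h
    exact h
  refine ⟨hsq, hcm, ?_, ?_⟩
  · have hΩ : Nat.card {z : P // z ^ 2 = 1} = Nat.card (Subgroup.center P) :=
      Nat.card_congr (Equiv.subtypeEquivRight fun z => (h3 z).symm)
    obtain ⟨-, m, hm⟩ := Cfsg.Agent.S3774.result hP2 fun x y hx hx' hy hy' =>
      let ⟨a, _, ha⟩ := htr x y hx hx' hy hy'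
      ⟨a, ha⟩
    have hcl : (⊤ : Subgroup P).lowerCentralSeries 2 = ⊥ := by
      rw [Subgroup.lowerCentralSeries_succ, Subgroup.lowerCentralSeries_succ,
        Subgroup.lowerCentralSeries_zero, Subgroup.commutator_top_right_eq_bot_iff_le_center]
      exact le_of_eq (h1.trans h2)
    have hle := (Cfsg.Agent.S3773.result hP2 hcl h4 fun x y hx hy => by
      rw [(show Commute x y from Subgroup.mem_center_iff.1 ((h3 y).2 hy) x).mul_pow, hx, hy,
        one_mul]).1
    rw [hΩ] at hm hle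
    have hq : 1 < Nat.card (Subgroup.center P) := by
      haveI := hfin
      refine Finite.one_lt_card_iff_nontrivial.2 ⟨⟨⟨x₀, (h3 x₀).2 (by rw [sq]; exact hx2)⟩, 1,
        fun h => hx1 (congrArg Subtype.val h)⟩⟩
    have hm1 : m ≠ 0 := by
      rintro rfl
      rw [pow_zero] at hm
      have := Finite.one_lt_card_iff_nontrivial.2 ‹Nontrivial P›
      omega
    have hm2 : m ≠ 1 := by
      rintro rfl
      rw [pow_one] at hm
      have htop := Subgroup.eq_top_of_card_eq _ hm.symm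
      exact hab (Subgroup.mem_center_iff.1 (htop ▸ Subgroup.mem_top b₀) a₀)
    have hm3 : m ≤ 3 := by
      rw [hm] at hle
      exact (Nat.pow_le_pow_iff_right hq).1 hle
    rcases (show m = 2 ∨ m = 3 by omega) with rfl | rfl
    · exact Or.inl hm
    · exact Or.inr hm
  · haveI := hfin
    have hdvd : Monoid.exponent P ∣ 2 ^ 2 := Monoid.exponent_dvd_of_forall_pow_eq_one h4
    obtain ⟨i, hi, he⟩ := (Nat.dvd_prime_pow Nat.prime_two).1 hdvd
    have hi2 : i = 2 := by
      by_contra hne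
      refine hab (Subgroup.mem_center_iff.1 ((h3 b₀).2 ?_) a₀)
      refine Monoid.exponent_dvd_iff_forall_pow_eq_one.1 ?_ b₀
      rw [he]
      simpa using pow_dvd_pow 2 (show i ≤ 1 by omega)
    rw [he, hi2]
    norm_num

end Cfsg.Agent.S1138
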