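import Cfsg.Statements.S5214
import Cfsg.Agent.S1137
import Cfsg.Agent.S1138
import Cfsg.Agent.Lib.Fusion.Normal

set_option autoImplicit false
open Cfsg

namespace Cfsg.Agent.S5214

/-- Let S be a Suzuki 2-group (a finite nonabelian 2-group with more than one involution admitting a cyclic group of automorphisms permuting its involutions regularly). Then S is normal in every saturated fusion system over S (such a group is resistant). -/
theorem result {Ω : Type*} [Group Ω] {S : Subgroup Ω} [Finite S] (hS : IsPGroup 2 S) (F : Cfsg.FusionSystem S) (hF : F.IsSaturated 2) (hsz : Cfsg.IsSuzukiTwoGroup ↥S) : F.IsNormal S := by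
  obtain ⟨h1, h1'⟩ := Cfsg.Agent.S1137.result hsz
  obtain ⟨hsq, hcm, -, -⟩ := Cfsg.Agent.S1138.result hsz
  set Z : Subgroup Ω := (Subgroup.center S).map S.subtype with hZ
  have hZS : Z ≤ S := Subgroup.map_subtype_le _
  have hmem : ∀ x : S, (x : Ω) ∈ Z ↔ x * x = 1 := by
    intro x
    constructor
    · rintro ⟨z, hz, hzx⟩
      obtain rfl : z = x := Subtype.ext hzx
      exact h1' z hz
    · intro hx
      refine ⟨x, ?_, rfl⟩
      rcases eq_or_ne x 1 with rfl | hx1
      · exact (Subgroup.center S).one_mem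
      · exact ((h1 x).1 ⟨hx1, hx⟩).1
  have hS' : F.StronglyClosed S := ⟨le_rfl, fun R _ φ hφ x => (F.le_of_mem hφ).2 x⟩
  have hbot : F.StronglyClosed ⊥ :=
    CfsgLib.Fusion.stronglyClosed_of_isNormal CfsgLib.Fusion.isNormal_bot
  have hZc : F.StronglyClosed Z := by
    refine ⟨hZS, fun R hR φ hφ x => ?_⟩
    have hx2 : x * x = 1 := Subtype.ext (by
      have h := (hmem ⟨x.1, hZS (hR x.2)⟩).1 (hR x.2)
      show (x : Ω) * x = 1
      exact congrArg Subtype.val h)
    refine (hmem ⟨φ x, (F.le_of_mem hφ).2 x⟩).2 (Subtype.ext ?_)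
    show φ x * φ x = 1
    rw [← map_mul, hx2, map_one]
  refine CfsgLib.Fusion.isNormal_of_series hS hF hS'
    (fun i => match i with | 0 => ⊥ | 1 => Z | _ => S) 2 rfl rfl ?_ ?_ ?_
  · intro i hi
    interval_cases i
    · exact bot_le
    · exact hZS
    · exact le_rfl
  · intro i hi
    interval_cases i
    · exact hbot
    · exact hZc
    · exact hS'
  · intro i hi
    interval_cases i
    · show ⁅S, Z⁆ ≤ ⊥
      rw [Subgroup.commutator_le]
      rintro a ha _ ⟨z, hz, rfl⟩
      rw [Subgroup.mem_bot, commutatorElement_eq_one_iff_mul_comm]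
      exact congrArg Subtype.val (Subgroup.mem_center_iff.1 hz ⟨a, ha⟩)
    · show ⁅S, S⁆ ≤ Z
      rw [Subgroup.commutator_le]
      intro a ha b hb
      refine ⟨_, hcm ⟨a, ha⟩⁻¹ ⟨b, hb⟩⁻¹, ?_⟩
      simp [commutatorElement_def]

end Cfsg.Agent.S5214
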