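import Cfsg.Statements.S1952
import Cfsg.Agent.Lib.PGroup.ElemAbelian
import Cfsg.Agent.Lib.Solvable.Basic
import Mathlib.Algebra.CharP.Lemmas
import Mathlib.RingTheory.Nilpotent.Basic
import Mathlib.NumberTheory.Padics.PadicVal.Basic

set_option autoImplicit false
open Cfsg

namespace Cfsg.Agent.S1952

/-- Let P be a finite p-group with a normal elementary abelian subgroup A of index p, and let x ∈ A and y ∈ P with y outside A. If the product of the p conjugates y^(-i) x y^i (i = 0, …, p−1) is not the identity, then the wreath product Z_p ≀ Z_p, realised as a Sylow p-subgroup of the symmetric group of degree p², is a homomorphic image of P. -/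
theorem result {P : Type*} [Group P] [Finite P] {p : ℕ} [Fact p.Prime] (hP : IsPGroup p P) (A : Subgroup P) [A.Normal]
    (hA : Cfsg.IsElementaryAbelian p A) (hidx : A.index = p) (x y : P) (hx : x ∈ A) (hy : y ∉ A)
    (hprod : ((List.range p).map (fun i => (y ^ i)⁻¹ * x * y ^ i)).prod ≠ 1) :
    ∃ (Q : Sylow p (Equiv.Perm (Fin (p ^ 2)))) (f : P →* ↥(Q : Subgroup (Equiv.Perm (Fin (p ^ 2))))), Function.Surjective f := by
  classical
  have hp : p.Prime := Fact.out
  have hcomm : ∀ a ∈ A, ∀ b ∈ A, a * b = b * a := fun a ha b hb =>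
    CfsgLib.PGroup.elemAb_comm hA ha hb
  have hyp : y ^ p ∈ A := by
    have := Subgroup.pow_index_mem A y
    rwa [hidx] at this
  set c : ℕ → P → P := fun n a => (y ^ n)⁻¹ * a * y ^ n with hc
  have hcA : ∀ n, ∀ a ∈ A, c n a ∈ A := fun n a ha => by
    have h := (inferInstance : A.Normal).conj_mem a ha (y ^ n)⁻¹
    rwa [inv_inv] at h
  have hcadd : ∀ m n a, c (m + n) a = c n (c m a) := fun m n a => by
    simp only [hc, pow_add, mul_inv_rev]; group
  have hcp : ∀ k, ∀ a ∈ A, c (p * k) a = a := fun k a ha => by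
    show (y ^ (p * k))⁻¹ * a * y ^ (p * k) = a
    rw [pow_mul, mul_assoc, hcomm a ha _ (A.pow_mem hyp k), inv_mul_cancel_left]
  have hcmod : ∀ n, ∀ a ∈ A, c n a = c (n % p) a := fun n a ha => by
    conv_lhs => rw [← Nat.div_add_mod n p]
    rw [hcadd, hcp _ a ha]
  set N0 := ((List.range p).map (fun i => (y ^ i)⁻¹ * x * y ^ i)).prod with hN0
  have hN0A : N0 ∈ A := by
    refine list_prod_mem fun z hz => ?_
    obtain ⟨i, -, rfl⟩ := List.mem_map.1 hz
    exact hcA i x hx
  obtain ⟨B0, -, ⟨hB0A, hB0N⟩, hmax⟩ := Finite.exists_le_maximal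
    (p := fun B : Subgroup P => B ≤ A ∧ N0 ∉ B) (a := ⊥)
    ⟨bot_le, fun h => hprod (Subgroup.mem_bot.1 h)⟩
  set B := B0.subgroupOf A with hB
  haveI hBn : B.Normal := ⟨fun b hb a => by
    show (a : P) * (b : P) * (a : P)⁻¹ ∈ B0
    rw [hcomm a a.2 b b.2, mul_inv_cancel_right]
    exact hb⟩
  have hspan : ∀ a ∈ A, ∃ j : ℤ, a * N0 ^ j ∈ B0 := by
    intro a ha
    by_cases haB : a ∈ B0
    · exact ⟨0, by simpa using haB⟩
    have h1 : N0 ∈ B0 ⊔ Subgroup.zpowers a := by
      by_contra h
      exact haB (hmax ⟨sup_le hB0A (Subgroup.zpowers_le.2 ha), h⟩ le_sup_left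
        (Subgroup.mem_sup_right (Subgroup.mem_zpowers a)))
    have hn : Subgroup.zpowers a ≤ Subgroup.normalizer (B0 : Set P) := Subgroup.zpowers_le.2
      (CfsgLib.Solvable.mem_normalizer_of_conj_mem fun b hb => by
        rw [hcomm a ha b (hB0A hb), mul_inv_cancel_right]; exact hb)
    have h2 : N0 ∈ ((B0 ⊔ Subgroup.zpowers a : Subgroup P) : Set P) := h1
    rw [Subgroup.coe_mul_of_right_le_normalizer_left B0 _ hn] at h2
    obtain ⟨b, hb, _, ⟨i, rfl⟩, hbi⟩ := h2
    change b * a ^ i = N0 at hbi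
    have hap : a ^ (p : ℤ) = 1 := by rw [zpow_natCast]; exact hA.2 a ha
    by_cases hpi : (p : ℤ) ∣ i
    · obtain ⟨k, rfl⟩ := hpi
      rw [zpow_mul, hap, one_zpow, mul_one] at hbi
      exact absurd (hbi ▸ hb) hB0N
    obtain ⟨u, v, huv⟩ := ((Nat.prime_iff_prime_int.1 hp).coprime_iff_not_dvd.2 hpi)
    refine ⟨-v, ?_⟩
    have hab : Commute b (a ^ i) := hcomm b (hB0A hb) _ (A.zpow_mem ha i)
    have e : a ^ (i * v) = a := by
      conv_rhs => rw [← zpow_one a, ← huv, zpow_add, mul_comm u (p : ℤ), zpow_mul, hap, one_zpow, one_mul]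
      rw [mul_comm]
    rw [← hbi, hab.mul_zpow, ← zpow_mul a i (-v), hcomm _ (A.zpow_mem (hB0A hb) _) _ (A.zpow_mem ha _),
      ← mul_assoc, mul_neg, zpow_neg, e, mul_inv_cancel, one_mul]
    exact B0.zpow_mem hb _
  let q := QuotientGroup.mk' B
  have hgen : ∀ z : ↥A ⧸ B, z ∈ Subgroup.zpowers (q ⟨N0, hN0A⟩) := by
    intro z
    obtain ⟨⟨a, ha⟩, rfl⟩ := QuotientGroup.mk'_surjective B z
    obtain ⟨j, hj⟩ := hspan a ha
    refine ⟨-j, ?_⟩
    have h1 : q ((⟨a, ha⟩ : ↥A) * ⟨N0, hN0A⟩ ^ j) = 1 := (QuotientGroup.eq_one_iff _).2 hj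
    rw [map_mul, map_zpow] at h1
    exact (zpow_neg _ _).trans (inv_eq_of_mul_eq_one_left h1)
  have hordN : orderOf (q ⟨N0, hN0A⟩) = p := orderOf_eq_prime
    (by rw [← map_pow]; exact (QuotientGroup.eq_one_iff _).2 (by
      show N0 ^ p ∈ B0
      rw [hA.2 N0 hN0A]; exact one_mem _))
    (fun h => hB0N ((QuotientGroup.eq_one_iff (N := B) (⟨N0, hN0A⟩ : ↥A)).1 h))
  have hcardq : Nat.card (↥A ⧸ B) = p := by
    rw [← hordN, ← Nat.card_zpowers, (Subgroup.eq_top_iff' _).2 hgen, Subgroup.card_top]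
  let e : ↥A ⧸ B ≃* Multiplicative (ZMod p) := mulEquivOfPrimeCardEq hcardq (by
    rw [Nat.card_congr Multiplicative.toAdd, Nat.card_zmod])
  let lam : ∀ a : P, a ∈ A → ZMod p := fun a ha => Multiplicative.toAdd (e (q ⟨a, ha⟩))
  have hlam_mul : ∀ a b (ha : a ∈ A) (hb : b ∈ A), lam (a * b) (A.mul_mem ha hb) = lam a ha + lam b hb := by
    intro a b ha hb
    show Multiplicative.toAdd (e (q ((⟨a, ha⟩ : ↥A) * ⟨b, hb⟩))) = _
    rw [map_mul, map_mul, toAdd_mul]
  have hlam0 : ∀ a (ha : a ∈ A), lam a ha = 0 ↔ a ∈ B0 := by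
    intro a ha
    show Multiplicative.toAdd (e (q ⟨a, ha⟩)) = 0 ↔ _
    rw [toAdd_eq_zero, e.map_eq_one_iff]
    exact QuotientGroup.eq_one_iff _
  have hcmul : ∀ n a b, c n (a * b) = c n a * c n b := fun n a b => by simp only [hc]; group
  let Φ : ↥A →* Multiplicative (ZMod p → ZMod p) :=
    { toFun := fun a => Multiplicative.ofAdd fun i => lam (c i.val a) (hcA _ a a.2)
      map_one' := Multiplicative.toAdd.injective (funext fun i =>
        (hlam0 _ _).2 (by
          show (y ^ i.val)⁻¹ * 1 * y ^ i.val ∈ B0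
          rw [mul_one, inv_mul_cancel]; exact one_mem _))
      map_mul' := fun a b => Multiplicative.toAdd.injective (funext fun i => by
        show lam (c i.val ((a : P) * b)) _ = lam (c i.val a) _ + lam (c i.val b) _
        rw [← hlam_mul]
        congr 1
        exact hcmul _ _ _) }
  set V : AddSubgroup (ZMod p → ZMod p) :=
    { carrier := {w | ∃ a : ↥A, Multiplicative.toAdd (Φ a) = w}
      zero_mem' := ⟨1, by simp⟩
      add_mem' := fun {a b} ⟨u, hu⟩ ⟨v, hv⟩ => ⟨u * v, by rw [map_mul, toAdd_mul, hu, hv]⟩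
      neg_mem' := fun {a} ⟨u, hu⟩ => ⟨u⁻¹, by rw [map_inv, toAdd_inv, hu]⟩ } with hV
  set T : Module.End (ZMod p) (ZMod p → ZMod p) := LinearMap.funLeft (ZMod p) (ZMod p) fun i => i + 1 with hT
  have hTV : ∀ w ∈ V, T w ∈ V := by
    rintro w ⟨a, rfl⟩
    refine ⟨⟨c 1 a, hcA 1 a a.2⟩, funext fun i => ?_⟩
    show lam (c i.val (c 1 a)) _ = lam (c (i + 1).val a) _
    congr 1
    rw [← hcadd, hcmod _ _ a.2, ZMod.val_add, ZMod.val_one, add_comm]
  have hTn : ∀ (n : ℕ) (w : ZMod p → ZMod p) (i : ZMod p), (T ^ n) w i = w (i + n) := by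
    intro n
    induction n with
    | zero => simp
    | succ n ih =>
      intro w i
      rw [pow_succ, Module.End.mul_apply, ih]
      show w (i + n + 1) = _
      push_cast; rw [add_assoc]
  set v : ZMod p → ZMod p := Multiplicative.toAdd (Φ ⟨x, hx⟩) with hv
  have hsum : ∑ i, v i ≠ 0 := by
    have h1 : ∀ (l : List ℕ) (hl : (l.map fun i => c i x).prod ∈ A),
        lam (l.map fun i => c i x).prod hl = (l.map fun i => lam (c i x) (hcA i x hx)).sum := by
      intro l
      induction l with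
      | nil => exact fun _ => (hlam0 _ _).2 (one_mem _)
      | cons a l ih =>
        intro hl
        have hl' : (l.map fun i => c i x).prod ∈ A := list_prod_mem fun z hz => by
          obtain ⟨i, -, rfl⟩ := List.mem_map.1 hz; exact hcA i x hx
        simp only [List.map_cons, List.prod_cons, List.sum_cons]
        rw [hlam_mul _ _ (hcA a x hx) hl', ih hl']
    intro h0
    refine hB0N ((hlam0 N0 hN0A).1 ?_)
    rw [h1 (List.range p) hN0A, ← h0]
    refine (List.sum_toFinset _ (List.nodup_range)).symm.trans ?_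
    rw [List.toFinset_range]
    refine Finset.sum_bij (fun i _ => (i : ZMod p)) (fun _ _ => Finset.mem_univ _) ?_ ?_ ?_
    · intro a ha b hb hab
      rw [Finset.mem_range] at ha hb
      have := congrArg ZMod.val hab
      rwa [ZMod.val_cast_of_lt (by assumption), ZMod.val_cast_of_lt (by assumption)] at this
    · exact fun b _ => ⟨b.val, Finset.mem_range.2 (ZMod.val_lt b), ZMod.natCast_zmod_val b⟩
    · intro a ha
      show lam (c a x) _ = lam (c (a : ZMod p).val x) _
      congr 1
      rw [ZMod.val_cast_of_lt (Finset.mem_range.1 ha)]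
  set U : Module.End (ZMod p) (ZMod p → ZMod p) := ∑ j : ZMod p, v j • T ^ (-j).val with hU
  haveI : CharP (Module.End (ZMod p) (ZMod p → ZMod p)) p :=
    charP_of_injective_algebraMap (R := ZMod p) (RingHom.injective _) p
  have hnil : IsNilpotent (T - 1) := ⟨p, by
    rw [sub_pow_char_of_commute (p := p) (x := T) (y := 1) (Commute.one_right T), one_pow, sub_eq_zero]
    refine LinearMap.ext fun w => funext fun i => ?_
    rw [hTn]; simp⟩
  have hUnit : IsUnit U := by
    have hd : U = (∑ j, v j) • 1 + (T - 1) * ∑ j : ZMod p, v j • ∑ m ∈ Finset.range (-j).val, T ^ m := by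
      rw [hU, Finset.sum_smul, Finset.mul_sum, ← Finset.sum_add_distrib]
      refine Finset.sum_congr rfl fun j _ => ?_
      rw [mul_smul_comm, mul_geom_sum, smul_sub, add_sub_cancel]
    rw [hd]
    refine IsNilpotent.isUnit_add_left_of_commute ?_ ?_ ?_
    · refine Commute.isNilpotent_mul_right ?_ hnil
      exact Commute.sum_right _ _ _ fun j _ => Commute.smul_right (Commute.sum_right _ _ _
        fun m _ => ((Commute.self_pow T m).sub_left (Commute.one_left _))) _
    · rw [← Algebra.algebraMap_eq_smul_one]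
      exact (isUnit_iff_ne_zero.2 hsum).map _
    · exact (Commute.one_right _).smul_right _
  have hVtop : ∀ w, w ∈ V := by
    intro w
    have hUinj : Function.Injective U := ((Module.End.isUnit_iff U).1 hUnit).injective
    have hUsurj : Function.Surjective U := ((Module.End.isUnit_iff U).1 hUnit).surjective
    have hUe : ∀ k : ZMod p, U (Pi.single k 1) = (T ^ (-k).val) v := by
      intro k
      funext i
      rw [hU, LinearMap.sum_apply, Finset.sum_apply, hTn, ZMod.natCast_zmod_val]
      simp only [LinearMap.smul_apply, Pi.smul_apply, hTn, ZMod.natCast_zmod_val, smul_eq_mul]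
      rw [Finset.sum_eq_single (i + -k)]
      · rw [show i + -(i + -k) = k by ring, Pi.single_eq_same, mul_one]
      · intro j _ hj
        rw [Pi.single_eq_of_ne, mul_zero]
        intro h
        exact hj (by rw [← h]; ring)
      · exact fun h => absurd (Finset.mem_univ _) h
    have hTV' : ∀ n, ∀ w ∈ V, (T ^ n) w ∈ V := by
      intro n
      induction n with
      | zero => exact fun w hw => by simpa using hw
      | succ n ih => exact fun w hw => by rw [pow_succ, Module.End.mul_apply]; exact ih _ (hTV w hw)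
    obtain ⟨z, rfl⟩ := hUsurj w
    rw [← Finset.univ_sum_single z, map_sum]
    refine V.sum_mem fun k _ => ?_
    rw [show Pi.single k (z k) = z k • Pi.single (M := fun _ => ZMod p) k 1 by
      rw [← Pi.single_smul, smul_eq_mul, mul_one], map_smul, hUe, ← ZMod.natCast_zmod_val (z k), Nat.cast_smul_eq_nsmul]
    exact V.nsmul_mem (hTV' _ v ⟨⟨x, hx⟩, rfl⟩) _
  have hsurj : Function.Surjective Φ := fun w => by
    obtain ⟨a, ha⟩ := hVtop (Multiplicative.toAdd w)
    exact ⟨a, Multiplicative.toAdd.injective ha⟩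
  -- every element of `P` is an element of `A` times a power of `y`
  have hdec : ∀ g : P, ∃ a ∈ A, ∃ n : ℕ, g = a * y ^ n := by
    intro g
    have hne : QuotientGroup.mk' A y ≠ 1 := fun h => hy ((QuotientGroup.eq_one_iff y).1 h)
    obtain ⟨n, hn⟩ := mem_powers_of_prime_card (G := P ⧸ A) (p := p)
      (by rw [← Subgroup.index_eq_card, hidx]) (g' := QuotientGroup.mk' A g) hne
    refine ⟨g * (y ^ n)⁻¹, (QuotientGroup.eq_one_iff _).1 ?_, n, (inv_mul_cancel_right g _).symm⟩
    show QuotientGroup.mk' A (g * (y ^ n)⁻¹) = 1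
    rw [map_mul, map_inv, map_pow, ← hn, mul_inv_cancel]
  have hker : Φ.ker = B0.normalCore.subgroupOf A := by
    ext a
    rw [MonoidHom.mem_ker]
    constructor
    · intro ha g
      have hi : ∀ i : ZMod p, c i.val a ∈ B0 := fun i =>
        (hlam0 _ (hcA _ a a.2)).1 (congrFun (congrArg Multiplicative.toAdd ha) i)
      obtain ⟨b, hb, n, hgn⟩ := hdec g⁻¹
      show g * (a : P) * g⁻¹ ∈ B0
      rw [show g * (a : P) * g⁻¹ = c n (b⁻¹ * a * b) by
        have e : g = (g⁻¹)⁻¹ := (inv_inv g).symm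
        rw [e, hgn]; simp only [hc]; group]
      rw [mul_assoc, hcomm _ a.2 _ hb, inv_mul_cancel_left, hcmod _ _ a.2]
      have h1 := hi ((n : ℕ) : ZMod p)
      rwa [ZMod.val_natCast] at h1
    · intro ha
      refine Multiplicative.toAdd.injective (funext fun i => ?_)
      refine (hlam0 _ (hcA _ a a.2)).2 ?_
      have := ha (y ^ i.val)⁻¹
      rwa [inv_inv] at this
  have hcoreA : B0.normalCore ≤ A := B0.normalCore_le.trans hB0A
  have hcard1 : Nat.card ↥A = Nat.card ↥B0.normalCore * p ^ p := by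
    rw [← Subgroup.card_mul_index (Φ.ker), Subgroup.index_ker, MonoidHom.range_eq_top.2 hsurj, Subgroup.card_top,
      Nat.card_congr Multiplicative.toAdd, Nat.card_fun, Nat.card_zmod, hker,
      Nat.card_congr (Subgroup.subgroupOfEquivOfLe hcoreA).toEquiv]
  -- the action on the cosets of `B0`
  have hidxB : B0.index = p ^ 2 := by
    rw [← Subgroup.relIndex_mul_index hB0A, hidx, pow_two]
    congr 1
  haveI : Fintype (P ⧸ B0) := Fintype.ofFinite _
  let eΩ : P ⧸ B0 ≃ Fin (p ^ 2) := Finite.equivFinOfCardEq (by rw [← Subgroup.index_eq_card, hidxB])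
  let f0 : P →* Equiv.Perm (Fin (p ^ 2)) :=
    eΩ.permCongrHom.toMonoidHom.comp (MulAction.toPermHom P (P ⧸ B0))
  have hf0ker : f0.ker = B0.normalCore := by
    rw [Subgroup.normalCore_eq_ker]
    ext g
    show eΩ.permCongrHom (MulAction.toPermHom P (P ⧸ B0) g) = 1 ↔ MulAction.toPermHom P (P ⧸ B0) g = 1
    exact eΩ.permCongrHom.map_eq_one_iff
  have hrange : Nat.card f0.range = p ^ (p + 1) := by
    have h1 := Subgroup.card_mul_index A
    rw [hidx, hcard1] at h1
    have h2 := Subgroup.card_mul_index f0.ker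
    rw [Subgroup.index_ker, hf0ker, ← h1, mul_assoc, ← pow_succ] at h2
    exact Nat.eq_of_mul_eq_mul_left Nat.card_pos h2
  obtain ⟨Q, hQ⟩ := (hP.of_surjective f0.rangeRestrict f0.rangeRestrict_surjective).exists_le_sylow
  have hQcard : Nat.card Q = p ^ (p + 1) := by
    rw [Q.card_eq_multiplicity, Nat.card_perm, Nat.card_fin, pow_two, Nat.factorization_def _ hp,
      padicValNat_factorial_mul, show padicValNat p (Nat.factorial p) = 1 by
        have := padicValNat_factorial_mul (p := p) 1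
        rw [mul_one, Nat.factorial_one, padicValNat.one, zero_add] at this
        exact this, add_comm 1 p]
  have hQeq : f0.range = (Q : Subgroup (Equiv.Perm (Fin (p ^ 2)))) :=
    Subgroup.eq_of_le_of_card_ge hQ (by rw [hrange]; exact hQcard.le)
  exact ⟨Q, (MulEquiv.subgroupCongr hQeq).toMonoidHom.comp f0.rangeRestrict,
    (MulEquiv.subgroupCongr hQeq).surjective.comp f0.rangeRestrict_surjective⟩

end Cfsg.Agent.S1952
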