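import Cfsg.Statements.S0904
import Cfsg.Agent.Lib.Blocks.SimpleGroup

set_option autoImplicit false
open Cfsg

namespace Cfsg.Agent.S0904

/-- Let G be a finite simple group of order p ^ a * q ^ b * r with p, q, r distinct primes. Then every Sylow r-subgroup S of G satisfies C_G(S) = S. -/
theorem result {G : Type*} [Group G] [Finite G] [IsSimpleGroup G] (p q r a b : ℕ) (hp : p.Prime) (hq : q.Prime) [Fact r.Prime] (hpq : p ≠ q) (hpr : p ≠ r) (hqr : q ≠ r) (hcard : Nat.card G = p ^ a * q ^ b * r) (S : Sylow r G) : Subgroup.centralizer (S : Set G) = (S : Subgroup G) := by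
  classical
  have := Fintype.ofFinite G
  have hr : r.Prime := Fact.out
  have hScard : Nat.card S = r := by
    have hnd : ¬ r ∣ p ^ a * q ^ b := fun h => (hr.dvd_mul.mp h).elim
      (fun h' => hpr ((Nat.prime_dvd_prime_iff_eq hr hp).mp (hr.dvd_of_dvd_pow h')).symm)
      (fun h' => hqr ((Nat.prime_dvd_prime_iff_eq hr hq).mp (hr.dvd_of_dvd_pow h')).symm)
    have h0 : p ^ a * q ^ b ≠ 0 := fun h => hnd (h ▸ dvd_zero r)
    rw [S.card_eq_multiplicity, hcard, Nat.factorization_mul h0 hr.ne_zero, Finsupp.add_apply,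
      Nat.factorization_eq_zero_of_not_dvd hnd, hr.factorization_self, zero_add, pow_one]
  by_cases hna : ∃ u v : G, u * v ≠ v * u
  swap
  · push Not at hna
    let _ : CommGroup G := { ‹Group G› with mul_comm := hna }
    have hprime : (Nat.card G).Prime := IsSimpleGroup.prime_card
    have hG : Nat.card G = r :=
      ((Nat.prime_dvd_prime_iff_eq hr hprime).mp (hcard ▸ dvd_mul_left r _)).symm
    have htop : (S : Subgroup G) = ⊤ := Subgroup.eq_top_of_card_eq _ (hScard.trans hG.symm)
    refine le_antisymm (htop ▸ le_top) (fun x _ => Subgroup.mem_centralizer_iff.mpr fun y _ => hna y x)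
  have hle : (S : Subgroup G) ≤ Subgroup.centralizer (S : Set G) := by
    intro x hx
    rw [Subgroup.mem_centralizer_iff]
    intro y hy
    have hc : IsCyclic (S : Subgroup G) := isCyclic_of_prime_card hScard
    let _ : CommGroup (S : Subgroup G) := IsCyclic.commGroup
    exact congrArg Subtype.val (mul_comm (⟨y, hy⟩ : (S : Subgroup G)) ⟨x, hx⟩)
  refine (Subgroup.eq_of_le_of_card_ge hle ?_).symm
  by_contra hlt
  rw [not_le, hScard] at hlt
  obtain ⟨m, hm⟩ : r ∣ Nat.card (Subgroup.centralizer (S : Set G)) :=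
    hScard.symm.dvd.trans (Subgroup.card_dvd_of_le hle)
  have hm1 : m ≠ 1 := fun h => hlt.ne' (by rw [hm, h, mul_one])
  obtain ⟨l, hl, hlm⟩ := Nat.exists_prime_and_dvd hm1
  have hmd : r * m ∣ r * (p ^ a * q ^ b) := by
    rw [← hm, mul_comm r, ← hcard]
    exact Subgroup.card_subgroup_dvd_card _
  have hlpq : l ∣ p ^ a * q ^ b := hlm.trans (Nat.dvd_of_mul_dvd_mul_left hr.pos hmd)
  have := Fact.mk hl
  obtain ⟨x, hx⟩ := exists_prime_orderOf_dvd_card' (G := Subgroup.centralizer (S : Set G)) l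
    (by rw [hm]; exact hlm.mul_left r)
  obtain ⟨s, hs⟩ := exists_prime_orderOf_dvd_card' (G := (S : Subgroup G)) r (by rw [hScard])
  have hcomm : Commute (x : G) (s : G) := (Subgroup.mem_centralizer_iff.mp x.2 _ s.2).symm
  rcases hl.dvd_mul.mp hlpq with h | h
  · have e : l = p := (Nat.prime_dvd_prime_iff_eq hl hp).mp (hl.dvd_of_dvd_pow h)
    refine CfsgLib.Blocks.not_orderOf_mul_eq (a := b) (b := a) hq hp hr hpq.symm hqr hpr
      (by rw [hcard, mul_comm (p ^ a)]) hna ((x : G) * s) ?_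
    rw [hcomm.orderOf_mul_eq_mul_orderOf_of_coprime] <;>
      rw [Subgroup.orderOf_coe, Subgroup.orderOf_coe, hx, hs, e]
    exact (Nat.coprime_primes hp hr).mpr hpr
  · have e : l = q := (Nat.prime_dvd_prime_iff_eq hl hq).mp (hl.dvd_of_dvd_pow h)
    refine CfsgLib.Blocks.not_orderOf_mul_eq hp hq hr hpq hpr hqr hcard hna ((x : G) * s) ?_
    rw [hcomm.orderOf_mul_eq_mul_orderOf_of_coprime] <;>
      rw [Subgroup.orderOf_coe, Subgroup.orderOf_coe, hx, hs, e]
    exact (Nat.coprime_primes hq hr).mpr hqr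

end Cfsg.Agent.S0904
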