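import Cfsg.Statements.S1001
import Mathlib
import Cfsg.Agent.S0904
import Cfsg.Agent.S0144

set_option autoImplicit false
open Cfsg

namespace Cfsg.Agent.S1001

/-- In a finite simple group whose order has the form p * 3^a * 2^b with p prime, the centralizer of any element of order p is the cyclic group it generates. -/
theorem result {G : Type*} [Group G] [Finite G] [IsSimpleGroup G] (p a b : ℕ) (hp : p.Prime) (hG : Nat.card G = p * 3 ^ a * 2 ^ b) (x : G) (hx : orderOf x = p) : Subgroup.centralizer ({x} : Set G) = Subgroup.zpowers x := by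
  classical
  have hzle : Subgroup.zpowers x ≤ Subgroup.centralizer ({x} : Set G) := by
    rw [Subgroup.zpowers_le, Subgroup.mem_centralizer_singleton_iff]
  by_cases h23 : p = 2 ∨ p = 3
  · -- two primes: the group is solvable, so cyclic of prime order
    have hsol : Group.IsSolvable G := by
      rcases h23 with rfl | rfl
      · exact Cfsg.Agent.S0144.result 2 3 (b + 1) a Nat.prime_two Nat.prime_three (by rw [hG]; ring)
      · exact Cfsg.Agent.S0144.result 2 3 b (a + 1) Nat.prime_two Nat.prime_three (by rw [hG]; ring)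
    haveI := hsol
    letI : CommGroup G := { ‹Group G› with mul_comm := fun u v => IsSimpleGroup.comm_iff_isSolvable.mpr hsol u v }
    have hpr : (Nat.card G).Prime := IsSimpleGroup.prime_card
    have hx' : Nat.card G = p := ((Nat.prime_dvd_prime_iff_eq hp hpr).mp (hx ▸ orderOf_dvd_natCard x)).symm
    refine le_antisymm (fun u _ => ?_) hzle
    have htop : Subgroup.zpowers x = ⊤ := Subgroup.eq_top_of_card_eq _ (by rw [Nat.card_zpowers, hx, hx'])
    rw [htop]; trivial
  push Not at h23
  haveI : Fact p.Prime := ⟨hp⟩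
  have hcard : Nat.card G = 3 ^ a * 2 ^ b * p := by rw [hG]; ring
  have hnd : ¬ p ∣ 3 ^ a * 2 ^ b := fun h => (hp.dvd_mul.mp h).elim
    (fun h' => h23.2 ((Nat.prime_dvd_prime_iff_eq hp Nat.prime_three).mp (hp.dvd_of_dvd_pow h')))
    (fun h' => h23.1 ((Nat.prime_dvd_prime_iff_eq hp Nat.prime_two).mp (hp.dvd_of_dvd_pow h')))
  have hS : Nat.card (Subgroup.zpowers x) = p ^ (Nat.card G).factorization p := by
    rw [Nat.card_zpowers, hx, hcard, Nat.factorization_mul (fun h => hnd (by rw [h]; exact dvd_zero p)) hp.ne_zero,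
      Finsupp.add_apply, Nat.factorization_eq_zero_of_not_dvd hnd, hp.factorization_self, zero_add, pow_one]
  refine le_antisymm (fun u hu => ?_) hzle
  have hmain := Cfsg.Agent.S0904.result 3 2 p a b Nat.prime_three Nat.prime_two (by norm_num)
    (Ne.symm h23.2) (Ne.symm h23.1) hcard (Sylow.ofCard (Subgroup.zpowers x) hS)
  have hu' : u ∈ Subgroup.centralizer ((Sylow.ofCard (Subgroup.zpowers x) hS : Sylow p G) : Set G) := by
    rw [Subgroup.mem_centralizer_iff]
    intro w hw
    obtain ⟨k, rfl⟩ := Subgroup.mem_zpowers_iff.mp (show w ∈ Subgroup.zpowers x from hw)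
    exact ((show Commute x u from (Subgroup.mem_centralizer_singleton_iff.mp hu).symm).zpow_left k).eq
  rw [hmain] at hu'
  exact hu'

end Cfsg.Agent.S1001
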