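import Cfsg.Statements.S3304
import Mathlib
import Cfsg.Agent.Lib.Solvable.Fitting
import Cfsg.Agent.Lib.Cores.Basic
import Cfsg.Agent.Lib.Solvable.UniqueSubgroup
import Cfsg.Agent.Lib.Fusion.CyclicIndexTwo
-- import your own Cfsg.Agent.* helpers here

set_option autoImplicit false
open Cfsg

namespace Cfsg.Agent.S3304


open QuaternionGroup

abbrev E := QuaternionGroup 2
abbrev T := QuaternionGroup 2 × Fin 3 × Bool

/-- A two-generator map out of the quaternion group. -/
def pf {M : Type*} [Monoid M] (x y : M) : E → M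
  | .a i => x ^ i.val
  | .xa i => y * x ^ i.val

abbrev Good (p : E × E) : Prop := p.1 ^ 2 ≠ 1 ∧ p.2 ^ 2 ≠ 1 ∧ p.1 * p.2 ≠ p.2 * p.1

theorem pf_hom : ∀ p : E × E, Good p → ∀ q r, pf p.1 p.2 (q * r) = pf p.1 p.2 q * pf p.1 p.2 r := by
  decide +kernel

theorem pf_inj : ∀ p : E × E, Good p → ∀ q r, pf p.1 p.2 q = pf p.1 p.2 r → q = r := by
  decide +kernel

theorem good_base : Good (a 1, xa 0) := by decide +kernel

noncomputable def mkAut (p : E × E) (h : Good p) : MulAut E :=
  MulEquiv.ofBijective (MonoidHom.mk' (pf p.1 p.2) (pf_hom p h))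
    (Finite.injective_iff_bijective.1 fun q r hqr => pf_inj p h q r hqr)

theorem mkAut_apply (p : E × E) (h : Good p) (q : E) : mkAut p h q = pf p.1 p.2 q := rfl

theorem aut_eq_pf (α : MulAut E) (q : E) : α q = pf (α (a 1)) (α (xa 0)) q := by
  rcases q with i | i
  · have h : (a i : E) = a 1 ^ i.val := by rw [a_one_pow, ZMod.natCast_zmod_val]
    conv_lhs => rw [h, map_pow]
    rfl
  · have h : (xa i : E) = xa 0 * a 1 ^ i.val := by
      rw [a_one_pow, ZMod.natCast_zmod_val, xa_mul_a, zero_add]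
    conv_lhs => rw [h, map_mul, map_pow]
    rfl

theorem aut_good (α : MulAut E) : Good (α (a 1), α (xa 0)) := by
  obtain ⟨h1, h2, h3⟩ := good_base
  refine ⟨?_, ?_, ?_⟩
  · rw [← map_pow]; simpa using h1
  · rw [← map_pow]; simpa using h2
  · rw [← map_mul, ← map_mul]; simpa using h3

theorem pf_one : ∀ p : E × E, pf p.1 p.2 (a 1) = p.1 ∧ pf p.1 p.2 (xa 0) = p.2 := by decide +kernel

theorem card_good : Fintype.card {p : E × E // Good p} = 24 := by decide +kernel

theorem card_aut : Nat.card (MulAut E) = 24 := by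
  rw [← card_good, ← Nat.card_eq_fintype_card]
  refine Nat.card_congr
    { toFun := fun α => ⟨(α (a 1), α (xa 0)), aut_good α⟩
      invFun := fun p => mkAut p.1 p.2
      left_inv := fun α => MulEquiv.ext fun q => by rw [mkAut_apply, ← aut_eq_pf α q]
      right_inv := fun p => Subtype.ext (Prod.ext (pf_one p.1).1 (pf_one p.1).2) }

/-- The automorphism of order three. -/
def sf : E → E := pf (xa 0) (xa 3)
/-- The automorphism of order two. -/
def tf : E → E := pf (a 3) (xa 1)
noncomputable def sig : MulAut E := mkAut (xa 0, xa 3) (by decide +kernel)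
noncomputable def tau : MulAut E := mkAut (a 3, xa 1) (by decide +kernel)
theorem sig_apply (q : E) : sig q = sf q := rfl
theorem tau_apply (q : E) : tau q = tf q := rfl

theorem sf_three : ∀ q, sf (sf (sf q)) = q := by decide +kernel
theorem tf_two : ∀ q, tf (tf q) = q := by decide +kernel
theorem tst : ∀ q, tf (sf q) = sf (sf (tf q)) := by decide +kernel

theorem z_fixed : ∀ p : E × E, Good p → pf p.1 p.2 (a 2) = a 2 := by decide +kernel
theorem z_central : ∀ q : E, a 2 * q = q * a 2 := by decide +kernel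
theorem central_cases : ∀ r : E, (∀ q, r * q = q * r) → r = 1 ∨ r = a 2 := by decide +kernel
theorem invol_eq : ∀ r : E, r * r = 1 → r = 1 ∨ r = a 2 := by decide +kernel

theorem aut_z (α : MulAut E) : α (a 2) = a 2 := by
  rw [aut_eq_pf α]; exact z_fixed _ (aut_good α)

theorem invol_class_pair : ∀ p : E × E, Good p → (∀ q, pf p.1 p.2 (pf p.1 p.2 q) = q) →
    (∃ r : E, ∀ q, pf p.1 p.2 q = r * q * r⁻¹) ∨
    ∃ s : E × E, Good s ∧ ∀ q, pf p.1 p.2 (pf s.1 s.2 q) = pf s.1 s.2 (tf q) := by
  decide +kernel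

theorem tau_outer : ∀ r : E, ∃ q, tf q ≠ r * q * r⁻¹ := by decide +kernel

def sp (c : Fin 3) : E → E := sf^[c.val]
def tp (d : Bool) : E → E := if d then tf else id
def zz (e : Bool) : E := if e then a 2 else 1
def e0 : T := (1, 0, false)
def z0 : T := (a 2, 0, false)

/-- Multiplication of normal forms. -/
def mulT (ε : Bool) (x y : T) : T :=
  (x.1 * sp x.2.1 (tp x.2.2 y.1) * zz (x.2.2 && y.2.2 && ε),
    if x.2.2 then x.2.1 - y.2.1 else x.2.1 + y.2.1, xor x.2.2 y.2.2)

theorem mulT_inv : ∀ (ε : Bool) (y : T), ∃ w, mulT ε y w = e0 ∧ ∀ x, mulT ε x w = e0 → x = y := by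
  decide +kernel

theorem act_kernel : ∀ x : T, (∀ r, x.1 * sp x.2.1 (tp x.2.2 r) * x.1⁻¹ = r) → x = e0 ∨ x = z0 := by
  decide +kernel

theorem sp_z : ∀ (c : Fin 3) (e : Bool), sp c (zz e) = zz e := by decide +kernel
theorem fin_add : ∀ c c' : Fin 3, (c.val + c'.val) % 3 = (c + c').val := by decide +kernel
theorem fin_sub : ∀ c c' : Fin 3, (c.val + 2 * c'.val) % 3 = (c - c').val := by decide +kernel

variable {M : Type*} [Group M]

def phi (ι : E →* M) (u t : M) (x : T) : M := ι x.1 * u ^ x.2.1.val * (if x.2.2 then t else 1)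

structure Rel (ε : Bool) (ι : E →* M) (u t : M) : Prop where
  u3 : u ^ 3 = 1
  tu : t * u = u ^ 2 * t
  tt : t * t = ι (zz ε)
  ui : ∀ q, u * ι q = ι (sf q) * u
  ti : ∀ q, t * ι q = ι (tf q) * t

variable {ε : Bool} {ι : E →* M} {u t : M}

theorem Rel.u_pow (h : Rel ε ι u t) (n : ℕ) (q : E) : u ^ n * ι q = ι (sf^[n] q) * u ^ n := by
  induction n generalizing q with
  | zero => simp
  | succ n ih =>
    rw [pow_succ, mul_assoc, h.ui, ← mul_assoc, ih, Function.iterate_succ_apply, mul_assoc]

theorem Rel.t_pow (h : Rel ε ι u t) (n : ℕ) : t * u ^ n = u ^ (2 * n) * t := by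
  induction n with
  | zero => simp
  | succ n ih =>
    calc t * u ^ (n + 1) = t * u ^ n * u := by rw [pow_succ, mul_assoc]
      _ = u ^ (2 * n) * (t * u) := by rw [ih, mul_assoc]
      _ = u ^ (2 * (n + 1)) * t := by
          rw [h.tu, ← mul_assoc, ← pow_add]; congr 2

theorem Rel.u_mod (h : Rel ε ι u t) (n : ℕ) : u ^ n = u ^ (n % 3) := pow_eq_pow_mod n h.u3

theorem Rel.phi_mul (h : Rel ε ι u t) (x y : T) : phi ι u t x * phi ι u t y = phi ι u t (mulT ε x y) := by
  obtain ⟨q, c, d⟩ := x
  obtain ⟨q', c', d'⟩ := y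
  have e1 : ∀ w : M, u ^ c.val * (ι q' * w) = ι (sp c q') * (u ^ c.val * w) := fun w => by
    rw [← mul_assoc, h.u_pow, mul_assoc]; rfl
  cases d
  · simp only [phi, mulT, tp, Bool.false_eq_true, if_false, id_eq, Bool.false_and, zz, mul_one,
      Bool.false_bne, map_mul, map_one, mul_assoc]
    rw [e1, ← mul_assoc (u ^ c.val), ← pow_add, h.u_mod, fin_add]
  · have e2 : ∀ w : M, t * (ι q' * w) = ι (tf q') * (t * w) := fun w => by
      rw [← mul_assoc, h.ti, mul_assoc]
    have e3 : ∀ w : M, u ^ c.val * (ι (tf q') * w) = ι (sp c (tf q')) * (u ^ c.val * w) := fun w => by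
      rw [← mul_assoc, h.u_pow, mul_assoc]; rfl
    cases d'
    · simp only [phi, mulT, tp, Bool.false_eq_true, if_false, if_true, Bool.and_false, Bool.false_and, zz,
        mul_one, Bool.bne_false, map_mul, map_one, mul_assoc]
      rw [e2, e3, h.t_pow, ← mul_assoc (u ^ c.val), ← pow_add, h.u_mod, fin_sub]
    · have e4 : ι q * u ^ c.val * t * (ι q' * u ^ c'.val * t) =
          ι (q * sp c (tf q')) * u ^ (c - c').val * (t * t) := by
        simp only [map_mul, mul_assoc]
        rw [e2, e3, ← mul_assoc t, h.t_pow, mul_assoc, ← mul_assoc (u ^ c.val) (u ^ (2 * c'.val)),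
          ← pow_add, h.u_mod, fin_sub]
      have e5 : u ^ (c - c').val * ι (zz ε) = ι (zz ε) * u ^ (c - c').val := by
        rw [h.u_pow]; exact congrArg (fun r => ι r * _) (sp_z (c - c') ε)
      simp only [phi, mulT, tp, if_true, Bool.true_and, bne_self_eq_false,
        Bool.false_eq_true, if_false, mul_one]
      rw [e4, h.tt, mul_assoc, e5, ← mul_assoc, ← map_mul]

theorem Rel.injective (h : Rel ε ι u t) (hk : ∀ x, phi ι u t x = 1 → x = e0) :
    Function.Injective (phi ι u t) := by
  intro x y hxy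
  obtain ⟨w, hw, huniq⟩ := mulT_inv ε y
  refine huniq x (hk _ ?_)
  rw [← h.phi_mul, hxy, h.phi_mul, hw]
  simp [phi, e0]

theorem card_T : Nat.card T = 48 := by rw [Nat.card_eq_fintype_card]; decide +kernel

theorem Rel.bijective (h : Rel ε ι u t) [Finite M] (hM : Nat.card M = 48) (hk : ∀ x, phi ι u t x = 1 → x = e0) :
    Function.Bijective (phi ι u t) :=
  (Nat.bijective_iff_injective_and_card _).2 ⟨h.injective hk, by rw [card_T, hM]⟩

/-- Transport along normal forms. -/
noncomputable def transHom {N : Type*} [Group N] [Finite M] {ι' : E →* N} {u' t' : N}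
    (h : Rel ε ι u t) (h' : Rel ε ι' u' t') (hb : Function.Bijective (phi ι u t)) : M →* N :=
  MonoidHom.mk' (fun g => phi ι' u' t' ((Equiv.ofBijective _ hb).symm g)) (by
    intro g g'
    rw [h'.phi_mul]
    congr 1
    apply hb.1
    rw [← h.phi_mul, Equiv.ofBijective_apply_symm_apply _ hb g, Equiv.ofBijective_apply_symm_apply _ hb g',
      Equiv.ofBijective_apply_symm_apply _ hb (g * g')])

abbrev GL₂ := GL (Fin 2) (ZMod 3)
def gi : GL₂ := ⟨!![0, 2; 1, 0], !![0, 1; 2, 0], by decide +kernel, by decide +kernel⟩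
def gj : GL₂ := ⟨!![1, 1; 1, 2], !![2, 2; 2, 1], by decide +kernel, by decide +kernel⟩
def gu : GL₂ := ⟨!![1, 1; 0, 1], !![1, 2; 0, 1], by decide +kernel, by decide +kernel⟩
def gt' : GL₂ := ⟨!![1, 0; 0, 2], !![1, 0; 0, 2], by decide +kernel, by decide +kernel⟩

theorem gl_hom : ∀ q r, pf gi gj (q * r) = pf gi gj q * pf gi gj r := by decide +kernel
def glι : E →* GL₂ := MonoidHom.mk' (pf gi gj) gl_hom

theorem gl_rel : Rel false glι gu gt' :=
  ⟨by decide +kernel, by decide +kernel, by decide +kernel, by decide +kernel, by decide +kernel⟩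

theorem gl_kernel : ∀ x, phi glι gu gt' x = 1 → x = e0 := by decide +kernel

theorem card_gl : Nat.card GL₂ = 48 := by
  haveI : Fact (Nat.Prime 3) := ⟨Nat.prime_three⟩
  rw [Matrix.card_GL_field]
  simp [ZMod.card, Fin.prod_univ_two]

abbrev S4 := Equiv.Perm (Fin 4)
def si : S4 := Equiv.swap 0 1 * Equiv.swap 2 3
def sj : S4 := Equiv.swap 0 2 * Equiv.swap 1 3
def su : S4 := Equiv.swap 1 2 * Equiv.swap 2 3
def st : S4 := Equiv.swap 2 3

theorem s4_hom : ∀ q r, pf si sj (q * r) = pf si sj q * pf si sj r := by decide +kernel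
def s4ι : E →* S4 := MonoidHom.mk' (pf si sj) s4_hom

theorem s4_rel : ∀ e, Rel e s4ι su st := by
  have h1 : su ^ 3 = 1 := by decide +kernel
  have h2 : st * su = su ^ 2 * st := by decide +kernel
  have h3 : ∀ e, st * st = s4ι (zz e) := by decide +kernel
  have h4 : ∀ q, su * s4ι q = s4ι (sf q) * su := by decide +kernel
  have h5 : ∀ q, st * s4ι q = s4ι (tf q) * st := by decide +kernel
  exact fun e => ⟨h1, h2, h3 e, h4, h5⟩

theorem s4_kernel : ∀ x, phi s4ι su st x = 1 → x = e0 ∨ x = z0 := by decide +kernel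
theorem s4_z0 : phi s4ι su st z0 = 1 := by decide +kernel
theorem s4_surj : ∀ p : S4, ∃ x, phi s4ι su st x = p := by decide +kernel

/-- A 2-group of rank one has a unique involution. -/
theorem inv_unique {H : Type*} [Group H] [Finite H] (hr : Cfsg.PRankLE 2 1 H) (hp : IsPGroup 2 H)
    (x y : H) (hx : orderOf x = 2) (hy : orderOf y = 2) : x ∈ Subgroup.zpowers y := by
  classical
  haveI : Fact (Nat.Prime 2) := ⟨Nat.prime_two⟩
  have hne : Nontrivial H := ⟨⟨x, 1, fun h => by rw [h, orderOf_one] at hx; omega⟩⟩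
  haveI := hp.center_nontrivial
  obtain ⟨n, hn⟩ := IsPGroup.iff_card.1 (hp.to_subgroup (Subgroup.center H))
  have hn0 : n ≠ 0 := by
    rintro rfl
    have := Finite.one_lt_card (α := Subgroup.center H)
    simp [hn] at this
  obtain ⟨⟨w, hwc⟩, hw⟩ := exists_prime_orderOf_dvd_card' (G := Subgroup.center H) 2 (hn ▸ dvd_pow_self 2 hn0)
  rw [Subgroup.orderOf_mk] at hw
  have key : ∀ v : H, orderOf v = 2 → v = w := by
    intro v hv
    by_contra hvw
    have hv2 : v ^ 2 = 1 := hv ▸ pow_orderOf_eq_one v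
    have hw2 : w ^ 2 = 1 := hw ▸ pow_orderOf_eq_one w
    have hcomm : ∀ a ∈ ({v, w} : Set H), ∀ b ∈ ({v, w} : Set H), a * b = b * a := by
      intro a ha b hb
      rcases ha with rfl | rfl <;> rcases hb with rfl | rfl <;>
        first | rfl | exact (Subgroup.mem_center_iff.1 hwc _) | exact (Subgroup.mem_center_iff.1 hwc _).symm
    let K := Subgroup.closure ({v, w} : Set H)
    have hK : IsMulCommutative K := Subgroup.isMulCommutative_closure hcomm
    have hexp : ∀ a ∈ K, a ^ 2 = 1 := by
      intro a ha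
      induction ha using Subgroup.closure_induction with
      | mem a ha => rcases ha with rfl | rfl <;> assumption
      | one => exact one_pow _
      | mul a b ha hb iha ihb =>
        have hab : a * b = b * a := congrArg Subtype.val (hK.is_comm.comm ⟨a, ha⟩ ⟨b, hb⟩)
        rw [Commute.mul_pow hab, iha, ihb, one_mul]
      | inv a _ iha => rw [inv_pow, iha, inv_one]
    have h3 : 3 ≤ Nat.card K := by
      have hv1 : v ≠ 1 := fun h => by rw [h, orderOf_one] at hv; omega
      have hw1 : w ≠ 1 := fun h => by rw [h, orderOf_one] at hw; omega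
      have hs : ({1, v, w} : Set H) ⊆ (K : Set H) := by
        rintro a (rfl | rfl | rfl)
        · exact K.one_mem
        · exact Subgroup.subset_closure (by simp)
        · exact Subgroup.subset_closure (by simp)
      have := Set.ncard_le_ncard hs (Set.toFinite _)
      rw [Set.ncard_insert_of_notMem (by simp [hv1.symm, hw1.symm]), Set.ncard_pair hvw] at this
      exact this
    have := hr K hK hexp
    omega
  rw [key x hx, key y hy]
  exact Subgroup.mem_zpowers w

/-- Uniqueness of involutions in Sylow intersections passes to quotients by odd normal subgroups. -/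
theorem quot_unique {G : Type*} [Group G] [Finite G]
    (hI : ∀ S T : Sylow 2 G, S ≠ T → Cfsg.PRankLE 2 1 ↥((S : Subgroup G) ⊓ (T : Subgroup G)))
    (H : Subgroup G) [H.Normal] (hH : (Nat.card H).Coprime 2)
    (S T : Sylow 2 (G ⧸ H)) (hST : S ≠ T) (x y : G ⧸ H)
    (hxm : x ∈ (S : Subgroup (G ⧸ H)) ⊓ (T : Subgroup (G ⧸ H)))
    (hym : y ∈ (S : Subgroup (G ⧸ H)) ⊓ (T : Subgroup (G ⧸ H)))
    (hx : orderOf x = 2) (hy : orderOf y = 2) : x ∈ Subgroup.zpowers y := by
  haveI : Fact (Nat.Prime 2) := ⟨Nat.prime_two⟩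
  let π := QuotientGroup.mk' H
  have hπ : Function.Surjective π := QuotientGroup.mk'_surjective H
  let X : Subgroup G := ((S : Subgroup (G ⧸ H)) ⊓ (T : Subgroup (G ⧸ H))).comap π
  obtain ⟨R⟩ : Nonempty (Sylow 2 ↥X) := inferInstance
  let R' : Subgroup G := (R : Subgroup ↥X).map X.subtype
  have lift : ∀ U : Sylow 2 (G ⧸ H), X ≤ (U : Subgroup (G ⧸ H)).comap π →
      ∃ P : Sylow 2 G, R' ≤ (P : Subgroup G) ∧ (P : Subgroup G).map π = (U : Subgroup (G ⧸ H)) := by
    intro U hXU
    let Y : Subgroup G := (U : Subgroup (G ⧸ H)).comap π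
    have hR'Y : R' ≤ Y := (Subgroup.map_subtype_le _).trans hXU
    have hp : IsPGroup 2 ↥(R'.subgroupOf Y) :=
      (R.isPGroup'.map X.subtype).comap_subtype
    obtain ⟨P, hP⟩ := hp.exists_le_sylow
    have hidx : ¬ 2 ∣ ((P : Subgroup ↥Y).map Y.subtype).index := by
      rw [Subgroup.index_map_subtype, Subgroup.index_comap_of_surjective _ hπ]
      exact (Nat.prime_two.not_dvd_mul P.not_dvd_index U.not_dvd_index)
    refine ⟨(P.isPGroup'.map Y.subtype).toSylow hidx, ?_, ?_⟩
    · intro r hr
      exact ⟨⟨r, hR'Y hr⟩, hP hr, rfl⟩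
    · simp only [IsPGroup.toSylow_coe]
      rw [Subgroup.map_map]
      apply le_antisymm
      · rintro _ ⟨q, _, rfl⟩; exact q.2
      · let f : ↥Y →* ↥(U : Subgroup (G ⧸ H)) := (π.comp Y.subtype).codRestrict _ fun q => q.2
        have hf : Function.Surjective f := by
          rintro ⟨b, hb⟩
          obtain ⟨a, rfl⟩ := hπ b
          exact ⟨⟨a, hb⟩, rfl⟩
        have htop := U.isPGroup'
        have hmap : (P.mapSurjective hf : Subgroup ↥(U : Subgroup (G ⧸ H))) = ⊤ := by
          refine ((P.mapSurjective hf).3 (htop.to_subgroup ⊤) le_top).symm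
        intro b hb
        have : (⟨b, hb⟩ : ↥(U : Subgroup (G ⧸ H))) ∈ (P : Subgroup ↥Y).map f := by
          rw [← Sylow.coe_mapSurjective hf, hmap]; trivial
        obtain ⟨q, hq, hqe⟩ := this
        exact ⟨q, hq, congrArg Subtype.val hqe⟩
  obtain ⟨P, hRP, hP⟩ := lift S (Subgroup.comap_mono inf_le_left)
  obtain ⟨P', hRP', hP'⟩ := lift T (Subgroup.comap_mono inf_le_right)
  have hne : P ≠ P' := fun h => hST (Sylow.ext (by rw [← hP, ← hP', h]))
  have hR'p : IsPGroup 2 R' := R.isPGroup'.map X.subtype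
  have hinj : ∀ r ∈ R', π r = 1 → r = 1 := by
    intro r hr hr1
    have hrH : r ∈ H := (QuotientGroup.eq_one_iff r).1 hr1
    obtain ⟨k, hk⟩ := IsPGroup.iff_orderOf.1 hR'p ⟨r, hr⟩
    rw [Subgroup.orderOf_mk] at hk
    have h1 : orderOf r ∣ Nat.card H := Subgroup.orderOf_dvd_natCard _ hrH
    exact orderOf_eq_one_iff.1 (Nat.eq_one_of_dvd_coprimes (hH.pow_right k) h1 (hk ▸ dvd_rfl))
  have hsurj : ∀ d ∈ (S : Subgroup (G ⧸ H)) ⊓ (T : Subgroup (G ⧸ H)), ∃ r ∈ R', π r = d := by
    let D : Subgroup (G ⧸ H) := (S : Subgroup (G ⧸ H)) ⊓ (T : Subgroup (G ⧸ H))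
    let f : ↥X →* ↥D := (π.comp X.subtype).codRestrict _ fun q => q.2
    have hf : Function.Surjective f := by
      rintro ⟨b, hb⟩
      obtain ⟨a, rfl⟩ := hπ b
      exact ⟨⟨a, hb⟩, rfl⟩
    have hpD : IsPGroup 2 ↥D := S.isPGroup'.to_le inf_le_left
    have hmap : (R.mapSurjective hf : Subgroup ↥D) = ⊤ :=
      ((R.mapSurjective hf).3 (hpD.to_subgroup ⊤) le_top).symm
    intro b hb
    have : (⟨b, hb⟩ : ↥D) ∈ (R : Subgroup ↥X).map f := by
      rw [← Sylow.coe_mapSurjective hf, hmap]; trivial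
    obtain ⟨q, hq, hqe⟩ := this
    exact ⟨q, ⟨q, hq, rfl⟩, congrArg Subtype.val hqe⟩
  have hord : ∀ d ∈ (S : Subgroup (G ⧸ H)) ⊓ (T : Subgroup (G ⧸ H)), orderOf d = 2 →
      ∃ r : ↥((P : Subgroup G) ⊓ (P' : Subgroup G)), orderOf r = 2 ∧ π r = d := by
    intro d hd h2
    obtain ⟨r, hr, rfl⟩ := hsurj d hd
    refine ⟨⟨r, hRP hr, hRP' hr⟩, orderOf_eq_prime ?_ ?_, rfl⟩
    · refine Subtype.ext ?_
      show r ^ 2 = 1
      refine hinj _ (pow_mem hr 2) ?_
      rw [map_pow, ← h2, pow_orderOf_eq_one]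
    · intro h
      have h' : r = 1 := congrArg Subtype.val h
      rw [h', map_one, orderOf_one] at h2
      omega
  obtain ⟨a, ha, rfl⟩ := hord x hxm hx
  obtain ⟨b, hb, rfl⟩ := hord y hym hy
  obtain ⟨i, hi⟩ := inv_unique (hI P P' hne) (P.isPGroup'.to_le inf_le_left) a b ha hb
  exact ⟨i, by rw [← hi]; simp⟩

theorem main (Q : Type*) [Group Q] [Finite Q]
    (hcen : Subgroup.centralizer (Cfsg.pCore 2 Q : Set Q) ≤ Cfsg.pCore 2 Q)
    (hu : ∀ S T : Sylow 2 Q, S ≠ T → ∀ x y, x ∈ (S : Subgroup Q) ⊓ (T : Subgroup Q) →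
      y ∈ (S : Subgroup Q) ⊓ (T : Subgroup Q) → orderOf x = 2 → orderOf y = 2 → x ∈ Subgroup.zpowers y) :
    (∃ P : Sylow 2 Q, (P : Subgroup Q).Normal) ∨ Nonempty (Q ≃* GL (Fin 2) (ZMod 3)) ∨
    (Nat.card Q = 48 ∧ Nat.card ↥(Subgroup.center Q) = 2 ∧
      Nonempty (Q ⧸ Subgroup.center Q ≃* Equiv.Perm (Fin 4)) ∧
      ∀ P : Sylow 2 Q, Nonempty (↥(P : Subgroup Q) ≃* QuaternionGroup 4)) := by
  classical
  haveI : Fact (Nat.Prime 2) := ⟨Nat.prime_two⟩
  by_cases hall : ∀ S T : Sylow 2 Q, S = T
  · haveI : Subsingleton (Sylow 2 Q) := ⟨hall⟩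
    obtain ⟨P⟩ := (inferInstance : Nonempty (Sylow 2 Q))
    exact Or.inl ⟨P, P.normal_of_subsingleton⟩
  push_neg at hall
  obtain ⟨S, T, hST⟩ := hall
  right
  set A := Cfsg.pCore 2 Q with hAdef
  have hAp : IsPGroup 2 ↥A := CfsgLib.Cores.isPGroup_pCore 2
  haveI hAn : A.Normal := Subgroup.sSup_normal _ fun N hN => hN.1
  have hAle : ∀ P : Sylow 2 Q, A ≤ (P : Subgroup Q) := CfsgLib.Cores.pCore_le_sylow
  have hnp : ¬ IsPGroup 2 Q := by
    intro h
    have h1 : (S : Subgroup Q) = ⊤ := (S.3 (h.to_subgroup ⊤) le_top).symm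
    have h2 : (T : Subgroup Q) = ⊤ := (T.3 (h.to_subgroup ⊤) le_top).symm
    exact hST (Sylow.ext (h1.trans h2.symm))
  have hAu : ∀ x y : ↥A, orderOf x = 2 → orderOf y = 2 → x ∈ Subgroup.zpowers y := by
    intro x y hx hy
    obtain ⟨i, hi⟩ := hu S T hST x y ⟨hAle S x.2, hAle T x.2⟩ ⟨hAle S y.2, hAle T y.2⟩
      (by rwa [Subgroup.orderOf_coe]) (by rwa [Subgroup.orderOf_coe])
    exact ⟨i, Subtype.ext (by simpa using hi)⟩
  let f0 : Q →* MulAut ↥A := MulAut.conjNormal
  have hker0 : ∀ g, f0 g = 1 → g ∈ A := by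
    intro k hk
    refine hcen ?_
    rw [Subgroup.mem_centralizer_iff]
    intro a ha
    have h1 : f0 k ⟨a, ha⟩ = ⟨a, ha⟩ := by rw [hk]; rfl
    have h2 : k * a * k⁻¹ = a := by
      have := congrArg Subtype.val h1
      simpa [f0, MulAut.conjNormal_apply] using this
    calc a * k = (k * a * k⁻¹) * k := by rw [h2]
      _ = k * a := by group
  have hnotaut : ¬ IsPGroup 2 (MulAut ↥A) := by
    intro hMA
    have htop : IsPGroup 2 ↥(⊤ : Subgroup Q) := by
      have := (hMA.to_subgroup ⊤).comap_of_ker_isPGroup f0 (hAp.to_le fun k hk => hker0 k hk)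
      rwa [Subgroup.comap_top] at this
    exact hnp (htop.of_equiv Subgroup.topEquiv)
  have hncyc : ¬ IsCyclic ↥A := by
    intro hc
    obtain ⟨k, hk⟩ := IsPGroup.iff_card.1 hAp
    refine hnotaut ?_
    rcases Nat.eq_zero_or_pos k with h0 | h0
    · exact IsPGroup.of_card (n := 0) (by rw [IsCyclic.card_mulAut, hk, h0, pow_zero, Nat.totient_one])
    · exact IsPGroup.of_card (n := k - 1) (by
        rw [IsCyclic.card_mulAut, hk, Nat.totient_prime_pow Nat.prime_two h0]; simp)
  obtain ⟨e⟩ : Nonempty (↥A ≃* E) := by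
    rcases CfsgLib.Solvable.isCyclic_or_quaternion hAp hAu with hc | ⟨-, n, ⟨e⟩⟩
    · exact absurd hc hncyc
    match n, e with
    | 0, e =>
      refine absurd ?_ hncyc
      refine isCyclic_of_orderOf_eq_card (e.symm (xa 0)) ?_
      rw [MulEquiv.orderOf_eq, orderOf_xa, Nat.card_congr e.toEquiv, Nat.card_eq_fintype_card, QuaternionGroup.card]
      norm_num
    | 1, e => exact ⟨e⟩
    | (m + 2), e =>
      refine absurd ?_ hnotaut
      intro α
      have hpE : IsPGroup 2 (QuaternionGroup (2 ^ (m + 2))) := hAp.of_equiv e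
      obtain ⟨j, hj⟩ := CfsgLib.Fusion.aut_pow_quaternion (by omega) hpE (MulAut.congr e α)
      exact ⟨j, (MulAut.congr e).injective (by rw [map_pow, hj, map_one])⟩
  let ι : E →* Q := A.subtype.comp e.symm.toMonoidHom
  have hιinj : Function.Injective ι := A.subtype_injective.comp e.symm.injective
  have hιA : ∀ q, ι q ∈ A := fun q => (e.symm q).2
  have hιsur : ∀ g ∈ A, ∃ q, ι q = g := fun g hg => ⟨e ⟨g, hg⟩, by simp [ι]⟩
  let f : Q →* MulAut E := (MulAut.congr e).toMonoidHom.comp f0
  have hf : ∀ g q, g * ι q = ι (f g q) * g := by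
    intro g q
    simp [f, f0, ι, MulAut.congr, MulAut.conjNormal_apply]
  have hconj : ∀ r q, f (ι r) q = r * q * r⁻¹ := by
    intro r q
    apply hιinj
    have h := hf (ι r) q
    rw [map_mul, map_mul, map_inv, h, mul_inv_cancel_right]
  set w := ι (a 2) with hwdef
  have hwc : ∀ g, g * w = w * g := fun g => by rw [hwdef, hf, aut_z]
  have hw2 : w ^ 2 = 1 := by
    rw [hwdef, ← map_pow, show ((a 2 : E) ^ 2) = 1 from by decide +kernel, map_one]
  have hw1 : w ≠ 1 := by
    rw [hwdef, ← map_one ι]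
    exact hιinj.ne (by decide +kernel)
  have hordw : orderOf w = 2 := orderOf_eq_prime hw2 hw1
  have hker : ∀ g, f g = 1 → g = 1 ∨ g = w := by
    intro g hg
    have h0 : f0 g = 1 := (MulAut.congr e).injective (by rw [map_one]; exact hg)
    obtain ⟨r, rfl⟩ := hιsur g (hker0 g h0)
    rcases central_cases r (fun q => by
      have h := hconj r q
      rw [hg, MulAut.one_apply] at h
      calc r * q = r * q * r⁻¹ * r := by group
        _ = q * r := by rw [← h]) with rfl | rfl
    · exact Or.inl (map_one ι)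
    · exact Or.inr rfl
  have hfw : f w = 1 := MulEquiv.ext fun q => by
    rw [hwdef, hconj, z_central, mul_inv_cancel_right]; rfl
  have hcent : Subgroup.center Q = Subgroup.zpowers w := by
    refine le_antisymm (fun g hg => ?_) (Subgroup.zpowers_le.2 (Subgroup.mem_center_iff.2 hwc))
    have h1 : f g = 1 := MulEquiv.ext fun q => by
      apply hιinj
      have h := hf g q
      rw [← Subgroup.mem_center_iff.1 hg (ι q)] at h
      exact (mul_right_cancel h).symm
    rcases hker g h1 with rfl | rfl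
    · exact one_mem _
    · exact Subgroup.mem_zpowers _
  have hkereq : f.ker = Subgroup.zpowers w := by
    refine le_antisymm (fun g hg => ?_) (Subgroup.zpowers_le.2 hfw)
    rcases hker g hg with rfl | rfl
    · exact one_mem _
    · exact Subgroup.mem_zpowers _
  have hcardA : Nat.card ↥A = 8 := by
    rw [Nat.card_congr e.toEquiv, Nat.card_eq_fintype_card, QuaternionGroup.card]
  have hcard : Nat.card Q = 2 * Nat.card f.range := by
    rw [← Subgroup.card_mul_index f.ker, Subgroup.index_ker, hkereq, Nat.card_zpowers, hordw]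
  have hr24 : Nat.card f.range ∣ 24 := card_aut ▸ Subgroup.card_subgroup_dvd_card _
  have h8 : 8 ∣ Nat.card Q := hcardA ▸ Subgroup.card_subgroup_dvd_card A
  have hr : Nat.card f.range = 24 := by
    have hne : ∀ k, Nat.card Q ≠ 2 ^ k := fun k hk => hnp (IsPGroup.of_card hk)
    have hmem : Nat.card f.range ∈ Nat.divisors 24 := Nat.mem_divisors.2 ⟨hr24, by norm_num⟩
    have hdiv : Nat.divisors 24 = {1, 2, 3, 4, 6, 8, 12, 24} := by decide
    rw [hdiv] at hmem
    have n1 := hne 3
    have n2 := hne 4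
    simp only [Finset.mem_insert, Finset.mem_singleton] at hmem
    rcases hmem with h | h | h | h | h | h | h | h <;> rw [h] at hcard <;> try omega
    exfalso
    have hS : ∀ P : Sylow 2 Q, (P : Subgroup Q) = A := by
      intro P
      refine (Subgroup.eq_of_le_of_card_ge (hAle P) ?_).symm
      obtain ⟨k, hk⟩ := IsPGroup.iff_card.1 P.isPGroup'
      have hdP : Nat.card (P : Subgroup Q) ∣ 2 * 12 := hcard ▸ Subgroup.card_subgroup_dvd_card _
      rw [hk, hcardA]
      rw [hk] at hdP
      have h3 : 2 ^ k ∣ 2 ^ 3 := (Nat.Coprime.pow_left k (by norm_num : Nat.Coprime 2 3)).dvd_of_dvd_mul_right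
        (by norm_num at hdP ⊢; exact hdP)
      exact Nat.le_of_dvd (by norm_num) h3
    exact hST (Sylow.ext ((hS S).trans (hS T).symm))
  have hQ : Nat.card Q = 48 := by omega
  have hfsur : Function.Surjective f := by
    rw [← MonoidHom.range_eq_top]
    exact Subgroup.eq_top_of_card_eq _ (by rw [hr, card_aut])
  have hcu : ∀ {g g' : Q}, f g = f g' → g = g' ∨ g = g' * w := by
    intro g g' h
    rcases hker (g'⁻¹ * g) (by rw [map_mul, map_inv, h, inv_mul_cancel]) with h1 | h1
    · exact Or.inl (inv_mul_eq_one.1 h1).symm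
    · exact Or.inr (inv_mul_eq_iff_eq_mul.1 h1)
  obtain ⟨u0, hu0⟩ := hfsur sig
  have hsig3 : sig ^ 3 = 1 := MulEquiv.ext fun q => by
    simp [pow_succ, MulAut.mul_apply, sig_apply, sf_three]
  have htau2 : tau ^ 2 = 1 := MulEquiv.ext fun q => by
    simp [pow_succ, MulAut.mul_apply, tau_apply, tf_two]
  have hu03 : (u0 ^ 3) ^ 2 = 1 := by
    rcases hker (u0 ^ 3) (by rw [map_pow, hu0, hsig3]) with h | h <;> rw [h]
    · exact one_pow _
    · exact hw2
  obtain ⟨u, hudef⟩ : ∃ u, u = u0 ^ 4 := ⟨_, rfl⟩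
  have hu3 : u ^ 3 = 1 := by
    rw [hudef, ← pow_mul, show 4 * 3 = 3 * 2 * 2 by norm_num, pow_mul, pow_mul, hu03, one_pow]
  have hfu : f u = sig := by rw [hudef, map_pow, hu0, pow_succ, hsig3, one_mul]
  have hui : ∀ q, u * ι q = ι (sf q) * u := fun q => by rw [hf, hfu, sig_apply]
  have rel_of : ∀ (ε : Bool) (t : Q), f t = tau → t * t = ι (zz ε) → Rel ε ι u t := by
    intro ε t hft htt
    refine ⟨hu3, ?_, htt, hui, fun q => by rw [hf, hft, tau_apply]⟩
    have h1 : f (t * u) = f (u ^ 2 * t) := MulEquiv.ext fun q => by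
      rw [map_mul, map_mul, map_pow, hfu, hft, pow_two]
      simp [MulAut.mul_apply, sig_apply, tau_apply, tst]
    have h2 : f (t * u * t⁻¹) = f (u ^ 2) := by rw [map_mul, h1, map_mul, map_inv, mul_inv_cancel_right]
    rcases hcu h2 with h | h
    · rw [← h, inv_mul_cancel_right]
    · exfalso
      have h3 : (t * u * t⁻¹) ^ 3 = 1 := by rw [conj_pow, hu3, mul_one, mul_inv_cancel]
      rw [h, Commute.mul_pow (hwc _), ← pow_mul, show 2 * 3 = 3 * 2 by norm_num, pow_mul, hu3, one_pow,
        one_mul, pow_succ, hw2, one_mul] at h3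
      exact hw1 h3
  have bij_of : ∀ (ε : Bool) (t : Q), f t = tau → t * t = ι (zz ε) → Function.Bijective (phi ι u t) := by
    intro ε t hft htt
    refine (rel_of ε t hft htt).bijective hQ fun x hx => ?_
    have hact : ∀ r, x.1 * sp x.2.1 (tp x.2.2 r) * x.1⁻¹ = r := by
      intro r
      have h := DFunLike.congr_fun (congrArg f hx) r
      rw [map_one, MulAut.one_apply] at h
      conv_rhs => rw [← h]
      simp only [phi, map_mul, map_pow, hfu, MulAut.mul_apply, hconj]
      have hs : ∀ (n : ℕ) q, (sig ^ n) q = sf^[n] q := by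
        intro n
        induction n with
        | zero => intro q; rfl
        | succ n ih => intro q; rw [pow_succ, MulAut.mul_apply, ih, Function.iterate_succ_apply, sig_apply]
      rw [hs]
      cases x.2.2 <;> simp [tp, sp, hft, tau_apply]
    rcases act_kernel x hact with h | h
    · exact h
    · rw [h] at hx
      simp [phi, z0] at hx
      exact absurd hx hw1
  by_cases hinv : ∃ x : Q, x * x = 1 ∧ x ∉ A
  · left
    obtain ⟨x, hx2, hxA⟩ := hinv
    have hfx : ∀ q, f x (f x q) = q := by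
      intro q; rw [← MulAut.mul_apply, ← map_mul, hx2, map_one, MulAut.one_apply]
    rcases invol_class_pair _ (aut_good (f x)) (fun q => by simp only [← aut_eq_pf, hfx]) with
      ⟨r, hr'⟩ | ⟨s, hs, hs'⟩
    · exfalso
      simp only [← aut_eq_pf] at hr'
      rcases hcu (MulEquiv.ext fun q => by rw [hr', hconj] : f x = f (ι r)) with h | h
      · exact hxA (h ▸ hιA r)
      · exact hxA (h ▸ mul_mem (hιA r) (hιA _))
    · obtain ⟨g, hg⟩ := hfsur (mkAut s hs)
      simp only [← aut_eq_pf] at hs'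
      have hft : f (g⁻¹ * x * g) = tau := MulEquiv.ext fun q => by
        rw [map_mul, map_mul, map_inv, hg, MulAut.mul_apply, MulAut.mul_apply, mkAut_apply, hs',
          MulAut.inv_apply, tau_apply, ← mkAut_apply s hs, MulEquiv.symm_apply_apply]
      have htt : g⁻¹ * x * g * (g⁻¹ * x * g) = ι (zz false) := by
        simp only [zz, Bool.false_eq_true, if_false, map_one]
        calc g⁻¹ * x * g * (g⁻¹ * x * g) = g⁻¹ * (x * x) * g := by group
          _ = 1 := by rw [hx2, mul_one, inv_mul_cancel]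
      have hb := bij_of false _ hft htt
      have hb' := gl_rel.bijective card_gl gl_kernel
      let h := transHom (rel_of false _ hft htt) gl_rel hb
      have hbij : Function.Bijective h := hb'.comp (Equiv.ofBijective _ hb).symm.bijective
      exact ⟨MulEquiv.ofBijective h hbij⟩
  · right
    push_neg at hinv
    obtain ⟨t, hft⟩ := hfsur tau
    have htt : t * t = ι (zz true) := by
      rcases hker (t * t) (by rw [map_mul, hft, ← pow_two, htau2]) with h | h
      · exfalso
        obtain ⟨r, hr'⟩ := hιsur t (hinv t h)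
        obtain ⟨q, hq⟩ := tau_outer r
        exact hq (by rw [← tau_apply, ← hft, ← hr', hconj])
      · rw [h]; rfl
    refine ⟨hQ, by rw [hcent, Nat.card_zpowers, hordw], ?_, ?_⟩
    · have hb := bij_of true t hft htt
      let h := transHom (rel_of true t hft htt) (s4_rel true) hb
      have hsur : Function.Surjective h := by
        intro p
        obtain ⟨x, hx⟩ := s4_surj p
        exact ⟨phi ι u t x, by simp [h, transHom, hx]⟩
      have hk : h.ker = Subgroup.center Q := by
        ext g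
        obtain ⟨x, rfl⟩ := hb.2 g
        have e1 : h (phi ι u t x) = phi s4ι su st x := by simp [h, transHom]
        rw [MonoidHom.mem_ker, e1, hcent]
        constructor
        · intro hx
          rcases s4_kernel x hx with rfl | rfl
          · simp [phi, e0]
          · simp [phi, z0, hwdef]
        · intro hx
          have hz : phi ι u t z0 = w := by simp [phi, z0, hwdef]
          have h1 : phi ι u t e0 = 1 := by simp [phi, e0]
          obtain ⟨i, hi⟩ := hx
          rcases Int.even_or_odd i with ⟨m, rfl⟩ | ⟨m, rfl⟩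
          · have : phi ι u t x = 1 := by
              rw [← hi]
              show w ^ (m + m) = 1
              rw [← two_mul, zpow_mul]; simp [hw2]
            rw [hb.1 (this.trans h1.symm)]; simp [phi, e0]
          · have : phi ι u t x = w := by
              rw [← hi]
              show w ^ (2 * m + 1) = w
              rw [zpow_add, zpow_mul]; simp [hw2]
            rw [hb.1 (this.trans hz.symm)]; exact s4_z0
      exact ⟨(QuotientGroup.quotientMulEquivOfEq hk.symm).trans (QuotientGroup.quotientKerEquivOfSurjective h hsur)⟩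
    · intro P
      have hPc : Nat.card (P : Subgroup Q) = 16 := by
        obtain ⟨k, hk⟩ := IsPGroup.iff_card.1 P.isPGroup'
        have hk4 : k ≤ 4 := by
          have hd : 2 ^ k ∣ 48 := hQ ▸ hk ▸ Subgroup.card_subgroup_dvd_card _
          by_contra hlt
          have : 2 ^ 5 ∣ 48 := (pow_dvd_pow 2 (by omega : 5 ≤ k)).trans hd
          norm_num at this
        have hi := P.not_dvd_index
        have hm := Subgroup.card_mul_index (P : Subgroup Q)
        rw [hk, hQ] at hm
        interval_cases k <;> omega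
      have huP : ∀ x y : ↥(P : Subgroup Q), orderOf x = 2 → orderOf y = 2 → x ∈ Subgroup.zpowers y := by
        have key : ∀ x : ↥(P : Subgroup Q), orderOf x = 2 → (x : Q) = w := by
          intro x hx
          have hx2 : (x : Q) * x = 1 := by
            have h := pow_orderOf_eq_one (x : Q)
            rw [Subgroup.orderOf_coe, hx, pow_two] at h
            exact h
          obtain ⟨r, hr'⟩ := hιsur _ (hinv _ hx2)
          rcases invol_eq r (hιinj (by rw [map_mul, hr', hx2, map_one])) with rfl | rfl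
          · exfalso
            rw [map_one] at hr'
            have : x = 1 := Subtype.ext hr'.symm
            rw [this, orderOf_one] at hx; omega
          · exact hr'.symm
        intro x y hx hy
        rw [show x = y from Subtype.ext ((key x hx).trans (key y hy).symm)]
        exact Subgroup.mem_zpowers y
      rcases CfsgLib.Solvable.isCyclic_or_quaternion P.isPGroup' huP with hc | ⟨-, n, ⟨e'⟩⟩
      · exfalso
        exact hncyc (Subgroup.isCyclic_of_le (hAle P))
      · have hn : n = 2 := by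
          have h4 : 4 * 2 ^ n = 16 := by
            rw [← hPc, Nat.card_congr e'.toEquiv, Nat.card_eq_fintype_card, QuaternionGroup.card]
          have h5 : 2 ^ n = 2 ^ 2 := by omega
          exact Nat.pow_right_injective le_rfl h5
        subst hn
        exact ⟨e'⟩


/-- Let G be a finite solvable group in which the intersection of any two distinct Sylow 2-subgroups has 2-rank at most 1 (contains no Klein four-group). Write Q = G/O(G), O(G) the largest normal subgroup of odd order. Then Q has a normal Sylow 2-subgroup; or Q is isomorphic to GL(2,3); or Q has order 48, centre of order 2 with central quotient isomorphic to the symmetric group of degree 4, and generalized quaternion Sylow 2-subgroups of order 16 (the binary octahedral group). The last two are the two representation groups of the symmetric group of degree 4. -/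
theorem result {G : Type*} [Group G] [Finite G] (hs : Group.IsSolvable G)
    (hI : ∀ S T : Sylow 2 G, S ≠ T → Cfsg.PRankLE 2 1 ↥((S : Subgroup G) ⊓ (T : Subgroup G))) :
    (∃ P : Sylow 2 (G ⧸ Cfsg.oddCore G), (P : Subgroup (G ⧸ Cfsg.oddCore G)).Normal) ∨
    Nonempty ((G ⧸ Cfsg.oddCore G) ≃* GL (Fin 2) (ZMod 3)) ∨
    (Nat.card (G ⧸ Cfsg.oddCore G) = 48 ∧ Nat.card ↥(Subgroup.center (G ⧸ Cfsg.oddCore G)) = 2 ∧
      Nonempty ((G ⧸ Cfsg.oddCore G) ⧸ Subgroup.center (G ⧸ Cfsg.oddCore G) ≃* Equiv.Perm (Fin 4)) ∧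
      ∀ P : Sylow 2 (G ⧸ Cfsg.oddCore G), Nonempty (↥(P : Subgroup (G ⧸ Cfsg.oddCore G)) ≃* QuaternionGroup 4)) := by
  classical
  haveI : Fact (Nat.Prime 2) := ⟨Nat.prime_two⟩
  have hcop : (Nat.card (Cfsg.oddCore G)).Coprime 2 := CfsgLib.Cores.coprime_card_pPrimeCore 2
  have hcore : Cfsg.pPrimeCore 2 (G ⧸ Cfsg.oddCore G) = ⊥ := CfsgLib.Cores.pPrimeCore_quotient_self 2
  haveI hsolv : Group.IsSolvable (G ⧸ Cfsg.oddCore G) := Group.isSolvable_of_surjective
    (f := QuotientGroup.mk' (Cfsg.oddCore G)) (QuotientGroup.mk'_surjective _)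
  have hcen := CfsgLib.Solvable.centralizer_pCore_le 2 hcore
  have hu := quot_unique hI (Cfsg.oddCore G) hcop
  exact main _ hcen hu

end Cfsg.Agent.S3304
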