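import Cfsg.Statements.S2366
import Cfsg.Agent.Lib.KnownSimple.Unitary.Spectrum3

set_option autoImplicit false
open Cfsg

namespace Cfsg.Agent.S2366

/-- The set of element orders of PSU(3, q) for an odd prime power q = p^n: writing d = gcd(3, q + 1), a positive integer is the order of some element exactly when it divides one of q + 1, p(q + 1)/d, (q² − 1)/d, (q² − q + 1)/d. -/
theorem result {F : Type*} [Field F] [Fintype F] (p : ℕ) [Fact p.Prime] [CharP F p] (hp : p ≠ 2) (q : ℕ) (hF : Fintype.card F = q ^ 2) :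
    Set.range (orderOf : Cfsg.PSU 3 F q → ℕ) =
      {s : ℕ | s ∣ q + 1} ∪ {s : ℕ | s ∣ p * (q + 1) / Nat.gcd 3 (q + 1)} ∪
        {s : ℕ | s ∣ (q ^ 2 - 1) / Nat.gcd 3 (q + 1)} ∪ {s : ℕ | s ∣ (q ^ 2 - q + 1) / Nat.gcd 3 (q + 1)} := by
  obtain ⟨f, -, hf⟩ := FiniteField.card F p
  rw [hF] at hf
  obtain ⟨a, -, ha⟩ := (Nat.dvd_prime_pow Fact.out).1 (hf ▸ dvd_pow_self q two_ne_zero : q ∣ p ^ (f : ℕ))
  obtain ⟨τ, hτ, hττ, -⟩ := CfsgLib.Classical.exists_qPow hF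
  let σ : F ≃+* F := RingEquiv.ofBijective τ ⟨τ.injective, fun x => ⟨τ x, hττ x⟩⟩
  exact CfsgLib.UnitarySpec.psu3_spectrum (σ := σ) hF (fun x => hτ x) Fact.out ha hp

end Cfsg.Agent.S2366
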