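import Cfsg.Statements.S2807
import Cfsg.Agent.Lib.Fusion.Yoshida
import Cfsg.Agent.Lib.Fusion.GroupSystem

set_option autoImplicit false
open Cfsg Cfsg.FusionSystem CfsgLib.Fusion

namespace Cfsg.Agent.S2807

/-- Let S be a Sylow p-subgroup of the finite group G. If S ∩ G' ≠ S ∩ (N_G(S))' (derived subgroups), then the wreath product Z_p ≀ Z_p — realised as a Sylow p-subgroup of the symmetric group of degree p² — is a homomorphic image of S. -/
theorem result {G : Type*} [Group G] [Finite G] {p : ℕ} [Fact p.Prime] (S : Sylow p G) (h : (S : Subgroup G) ⊓ commutator G ≠ (S : Subgroup G) ⊓ ⁅Subgroup.normalizer ((S : Subgroup G) : Set G), Subgroup.normalizer ((S : Subgroup G) : Set G)⁆) : ∃ (P : Sylow p (Equiv.Perm (Fin (p ^ 2)))) (f : ↥(S : Subgroup G) →* ↥(P : Subgroup (Equiv.Perm (Fin (p ^ 2))))), Function.Surjective f := by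
  let F := groupFusionSystem (S : Subgroup G)
  have hF : F.IsSaturated p := isSaturated_groupFusion (S := S)
  let N := normSys F (S : Subgroup G) rfl le_rfl
  refine Yoshida.exists_wreath_of_focal_ne S.2 hF N (fun _ => rfl) fun heq => h ?_
  set Nn := Subgroup.normalizer ((S : Subgroup G) : Set G) with hNn
  refine le_antisymm (le_inf inf_le_left ?_) (inf_le_inf_left _ ?_)
  swap
  · rw [commutator_def]
    exact Subgroup.commutator_mono le_top le_top
  have h1 : (S : Subgroup G) ⊓ commutator G ≤ F.focalSubgroup := by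
    rw [inf_comm, Subgroup.commutator_inf_eq_focalSubgroup, Subgroup.focalSubgroup_def,
      Subgroup.closure_le]
    rintro _ ⟨hmem, x, hx, u, rfl⟩
    have hux : u * x⁻¹ * u⁻¹ ∈ (S : Subgroup G) := by
      have := Subgroup.mul_mem _ (Subgroup.inv_mem _ hx) hmem
      simpa [commutatorElement_def, mul_assoc] using this
    have hle : Subgroup.zpowers x⁻¹ ≤ (S : Subgroup G) :=
      Subgroup.zpowers_le.2 (Subgroup.inv_mem _ hx)
    refine Subgroup.subset_closure ⟨Subgroup.zpowers x⁻¹, conjHom (Subgroup.zpowers x⁻¹) u,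
      ⟨x⁻¹, Subgroup.mem_zpowers _⟩, ⟨hle, ?_, u, fun _ => rfl⟩, ?_⟩
    · rintro ⟨y, hy⟩
      obtain ⟨n, rfl⟩ := Subgroup.mem_zpowers_iff.1 hy
      show u * x⁻¹ ^ n * u⁻¹ ∈ (S : Subgroup G)
      rw [← conj_zpow]
      exact Subgroup.zpow_mem _ hux n
    · show _ = (x⁻¹)⁻¹ * (u * x⁻¹ * u⁻¹)
      rw [commutatorElement_def]
      group
  refine h1.trans (heq ▸ ?_)
  refine (Subgroup.closure_le _).2 ?_
  rintro _ ⟨P, φ, x, ⟨-, hP, -, ψ, ⟨-, -, g, hg⟩, hψe, hψS⟩, rfl⟩
  have hgn : g ∈ Nn := by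
    refine mem_normalizer_of_forall fun s hs => ?_
    have : ψ ⟨s, (le_sup_right : (S : Subgroup G) ≤ P ⊔ S) hs⟩ ∈ (S : Subgroup G) :=
      hψS.le ⟨_, hs, rfl⟩
    rwa [hg] at this
  have hxN : (x : G) ∈ Nn := Subgroup.le_normalizer (hP x.2).1
  show (x : G)⁻¹ * φ x ∈ ⁅Nn, Nn⁆
  rw [← hψe, hg]
  have hc := Subgroup.commutator_mem_commutator (Nn.inv_mem hxN) hgn
  simpa [commutatorElement_def, mul_assoc] using hc

end Cfsg.Agent.S2807
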