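import Cfsg.Statements.S2970
import Cfsg.Agent.Lib.LocalEven.Isolated
import Cfsg.Agent.Lib.Transfer.Frobenius
import Mathlib.RingTheory.Int.Basic
import Mathlib.NumberTheory.Basic

set_option autoImplicit false
open Cfsg

namespace Cfsg.Agent.S2970

/-- Let G be a finite group, p a prime and x ∈ G an element of p-power order which is isolated in G. Then the image of x in any quotient G ⧸ N is isolated in G ⧸ N; and if x ≠ 1 and the Sylow p-subgroups of G are cyclic, then G has a normal p-complement. -/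
theorem result {G : Type*} [Group G] [Finite G] {p : ℕ} [Fact p.Prime] (x : G) (hx : ∃ k : ℕ, orderOf x = p ^ k) (hiso : Cfsg.IsIsolated x) : (∀ (N : Subgroup G) [N.Normal], Cfsg.IsIsolated (QuotientGroup.mk x : G ⧸ N)) ∧ (x ≠ 1 → (∀ P : Sylow p G, IsCyclic ↥(P : Subgroup G)) → Cfsg.HasNormalPComplement p G) := by
  constructor
  · intro N hN q hcomm
    obtain ⟨g, rfl⟩ := QuotientGroup.mk'_surjective N q
    set f := QuotientGroup.mk' N with hf
    set X := (Subgroup.closure {f x, f g * f x * (f g)⁻¹}).comap f with hX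
    obtain ⟨c, hc, hcx⟩ := CfsgLib.LocalEven.isolated_exists_conj hiso hx (X := X)
      (Subgroup.mem_comap.2 (Subgroup.subset_closure (Set.mem_insert _ _)))
      (Subgroup.mem_comap.2 (Subgroup.subset_closure (Set.mem_insert_of_mem _ (by
        rw [Set.mem_singleton_iff, map_mul, map_mul, map_inv]))) : g * x * g⁻¹ ∈ X)
    have hcy : Commute (f c) (f g * f x * (f g)⁻¹) := by
      have : Subgroup.closure {f x, f g * f x * (f g)⁻¹} ≤
          Subgroup.centralizer ({f g * f x * (f g)⁻¹} : Set (G ⧸ N)) := by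
        rw [Subgroup.closure_le]
        rintro u (rfl | rfl)
        · exact Subgroup.mem_centralizer_singleton_iff.2 hcomm
        · exact Subgroup.mem_centralizer_singleton_iff.2 rfl
      exact Subgroup.mem_centralizer_singleton_iff.1 (this (Subgroup.mem_comap.1 hc))
    show f g * f x * (f g)⁻¹ = f x
    have h1 : f c * f g * f x = f x * (f c * f g) := by
      rw [← map_mul, ← map_mul, hcx, map_mul]
    calc f g * f x * (f g)⁻¹ = (f c)⁻¹ * (f c * f g * f x) * (f g)⁻¹ := by group
      _ = (f c)⁻¹ * f x * f c := by rw [h1]; group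
      _ = f x := ?_
    have h2 : f c * (f g * f x * (f g)⁻¹) = f x * f c := by
      calc f c * (f g * f x * (f g)⁻¹) = (f c * f g * f x) * (f g)⁻¹ := by group
        _ = f x * f c := by rw [h1]; group
    rw [hcy.eq] at h2
    have h3 := mul_right_cancel h2
    calc (f c)⁻¹ * f x * f c = (f c)⁻¹ * (f g * f x * (f g)⁻¹) * f c := by rw [h3]
      _ = f g * f x * (f g)⁻¹ := by rw [mul_assoc, ← hcy.eq]; group
      _ = f x := h3
  · intro hx1 hcyc
    obtain ⟨P, hP⟩ := (CfsgLib.LocalEven.isPGroup_zpowers hx).exists_le_sylow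
    have hxP : x ∈ (P : Subgroup G) := hP (Subgroup.mem_zpowers x)
    haveI := hcyc P
    refine CfsgLib.Transfer.hasNormalPComplement_of_abelian_sylow P IsCyclic.isMulCommutative ?_
    intro n hn hcop
    obtain ⟨z, hz⟩ := IsCyclic.exists_generator (α := ↥(P : Subgroup G))
    have hgen : ∀ u ∈ (P : Subgroup G), ∃ i : ℤ, (z : G) ^ i = u := fun u hu => by
      obtain ⟨i, hi⟩ := Subgroup.mem_zpowers_iff.1 (hz ⟨u, hu⟩)
      exact ⟨i, by simpa using congrArg Subtype.val hi⟩
    obtain ⟨a, ha⟩ := hgen _ (CfsgLib.LocalEven.conj_mem_of_mem_normalizer hn z.2)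
    obtain ⟨j, hj⟩ := hgen x hxP
    obtain ⟨e, he⟩ := IsPGroup.iff_orderOf.1 P.2 z
    have hq : orderOf (z : G) = p ^ e := by rw [Subgroup.orderOf_coe]; exact he
    have hpow : ∀ k : ℕ, n ^ k * z * (n ^ k)⁻¹ = (z : G) ^ (a ^ k) := by
      intro k
      induction k with
      | zero => simp
      | succ k ih =>
        calc n ^ (k + 1) * z * (n ^ (k + 1))⁻¹ = n * (n ^ k * z * (n ^ k)⁻¹) * n⁻¹ := by group
          _ = (z : G) ^ (a ^ (k + 1)) := by rw [ih, ← conj_zpow, ← ha, ← zpow_mul, pow_succ']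
    have hnx : n * x * n⁻¹ = x := mul_inv_eq_iff_eq_mul.2 (Subgroup.mem_centralizer_singleton_iff.1
      (CfsgLib.LocalEven.isolated_normalizer_le hiso P.2 hxP hn))
    have hpa : (p : ℤ) ∣ a - 1 := by
      by_contra hnd
      refine hx1 ?_
      rw [← hj, ← conj_zpow, ← ha, ← zpow_mul, ← mul_inv_eq_one, ← zpow_sub] at hnx
      have hdvd := orderOf_dvd_iff_zpow_eq_one.2 hnx
      rw [show a * j - j = (a - 1) * j by ring, hq] at hdvd
      push_cast at hdvd
      have hco : IsCoprime ((p : ℤ) ^ e) (a - 1) :=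
        ((Nat.prime_iff_prime_int.1 (Fact.out : p.Prime)).coprime_iff_not_dvd.2 hnd).pow_left
      rw [← hj]
      refine orderOf_dvd_iff_zpow_eq_one.1 ?_
      rw [hq]; push_cast
      exact hco.dvd_of_dvd_mul_left hdvd
    have hfix : n ^ p ^ e * z = z * n ^ p ^ e := by
      refine mul_inv_eq_iff_eq_mul.1 ?_
      rw [hpow, ← mul_inv_eq_one]
      nth_rw 2 [← zpow_one (z : G)]
      rw [← zpow_sub, ← orderOf_dvd_iff_zpow_eq_one, hq]
      push_cast
      have := dvd_sub_pow_of_dvd_sub hpa e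
      rw [one_pow] at this
      exact (pow_dvd_pow _ (Nat.le_succ e)).trans this
    obtain ⟨m, hm⟩ := exists_pow_eq_self_of_coprime (hcop.symm.pow_left e)
    have hnz : Commute n (z : G) := by
      rw [← hm]
      exact Commute.pow_left hfix m
    refine Subgroup.mem_centralizer_iff.2 fun u hu => ?_
    obtain ⟨i, rfl⟩ := hgen u hu
    exact ((hnz.zpow_right i).eq).symm

end Cfsg.Agent.S2970
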