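import Cfsg.Statements.S3888
import Cfsg.Agent.Lib.PGroup.RankTwoClassification

set_option autoImplicit false
open Cfsg

namespace Cfsg.Agent.S3888

/-- The classification of the p-groups of rank at most two for odd p. Let p be an odd prime and G a group of order p^n with no elementary abelian subgroup of order p³. Then one of the following holds: G is metacyclic; n ≥ 3 and G is generated by elements x, y, z with x^p = y^p = z^(p^(n−2)) = 1, z commuting with x and y, and x⁻¹yx = y z^(p^(n−3)); n ≥ 4 and G is generated by elements x, y, z with x^p = y^p = z^(p^(n−2)) = 1, yz = zy, x⁻¹yx = y z^(s p^(n−3)) and x⁻¹zx = yz, where s = 1 or s is a quadratic non-residue modulo p; or p = 3 and G has maximal class (nilpotency class n − 1). -/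
theorem result {G : Type*} [Group G] [Finite G] {p : ℕ} [Fact p.Prime] (hp : p ≠ 2) (n : ℕ) (hG : Nat.card G = p ^ n)
    (hrk : Cfsg.PRankLE p 2 G) :
    Cfsg.IsMetacyclic G ∨
    (3 ≤ n ∧ ∃ x y z : G, Subgroup.closure ({x, y, z} : Set G) = ⊤ ∧ x ^ p = 1 ∧ y ^ p = 1 ∧ z ^ p ^ (n - 2) = 1 ∧
        x * z = z * x ∧ y * z = z * y ∧ x⁻¹ * y * x = y * z ^ p ^ (n - 3)) ∨
    (4 ≤ n ∧ ∃ (s : ℕ) (x y z : G), (s = 1 ∨ ¬ IsSquare (s : ZMod p)) ∧ Subgroup.closure ({x, y, z} : Set G) = ⊤ ∧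
        x ^ p = 1 ∧ y ^ p = 1 ∧ z ^ p ^ (n - 2) = 1 ∧ y * z = z * y ∧ x⁻¹ * y * x = y * z ^ (s * p ^ (n - 3)) ∧
        x⁻¹ * z * x = y * z) ∨
    (p = 3 ∧ 2 ≤ n ∧ (⊤ : Subgroup G).lowerCentralSeries (n - 2) ≠ ⊥) := by
  classical
  have hGp : IsPGroup p G := IsPGroup.of_card hG
  by_cases hcy : IsCyclic G
  · refine Or.inl ⟨⊤, inferInstance, ?_, ?_⟩
    · exact isCyclic_of_surjective Subgroup.topEquiv.symm Subgroup.topEquiv.symm.surjective
    · exact isCyclic_of_surjective (QuotientGroup.mk' (⊤ : Subgroup G)) (QuotientGroup.mk'_surjective _)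
  obtain ⟨A, -, hAn, hAe, hAc⟩ := CfsgLib.Transfer.exists_normal_elemAb_sq hGp hp (S := ⊤) fun h =>
    hcy (isCyclic_of_surjective Subgroup.topEquiv Subgroup.topEquiv.surjective)
  have h : CfsgLib.PGroup.RankTwoClass.Setup p A := ⟨hp, hGp, hrk, hAn, hAe, hAc⟩
  have hsmall : (∀ g : G, g ^ p = 1 → g ∈ A) → CfsgLib.PGroup.HuppertMetacyclic.SmallOmega p G := fun hall =>
    le_trans (Nat.card_le_card_of_injective (fun g : {g : G // g ^ p = 1} => (⟨g, hall g g.2⟩ : A))
      (fun _ _ e => Subtype.ext (congrArg Subtype.val e :))) hAc.le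
  by_cases hA : A ≤ Subgroup.center G
  · have hall : ∀ g : G, g ^ p = 1 → g ∈ A := fun g hg =>
      h.mem_of_pow (Subgroup.mem_centralizer_iff.2 fun a ha => (Subgroup.mem_center_iff.1 (hA ha) g).symm) hg
    exact Or.inl (CfsgLib.PGroup.HuppertMetacyclic.isMetacyclic_rigid hp (h.rigid hall (Or.inl hA)) hGp
      (hsmall hall))
  by_cases hex : ∃ x ∉ Subgroup.centralizer (A : Set G), x ^ p = 1
  · obtain ⟨x, hx, hxp⟩ := hex
    by_cases hexc : p = 3 ∧ ∃ c : G, Subgroup.zpowers c =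
        Subgroup.centralizer (A : Set G) ⊓ Subgroup.centralizer {x} ∧ orderOf c = p
    · obtain ⟨hp3, c, hc, hco⟩ := hexc
      exact Or.inr (Or.inr (Or.inr ⟨hp3, h.maximal hA hx (by rw [hxp]; exact one_mem _) hc hco n hG⟩))
    · have hN := h.commutator_mem hA hx hxp fun hp3 c hc hco => hexc ⟨hp3, c, hc, hco⟩
      rcases h.types hA hx hxp hN n hG with h1 | h1
      · exact Or.inr (Or.inl h1)
      · exact Or.inr (Or.inr (Or.inl h1))
  push Not at hex
  have hall : ∀ g : G, g ^ p = 1 → g ∈ A := fun g hg =>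
    h.mem_of_pow (by_contra fun hgM => hex g hgM hg) hg
  by_cases hp3 : p = 3
  · subst hp3
    by_cases hcube : ∃ g ∉ Subgroup.centralizer (A : Set G), g ^ 3 ∈ A ⊓ Subgroup.center G
    · obtain ⟨g, hg, hgZ⟩ := hcube
      obtain ⟨c, k, hcM, hgc, hk1, hck, hcgen, hcZ⟩ := h.exists_cyc hA hg
      refine Or.inr (Or.inr (Or.inr ⟨rfl, h.maximal hA hg hgZ hcgen ?_ n hG⟩))
      by_contra hne
      have hk2 : 2 ≤ k := by
        by_contra h2
        exact hne (by rw [hck, show k = 1 by omega, pow_one])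
      obtain ⟨i, hi⟩ := Subgroup.mem_zpowers_iff.1 (hcZ.ge hgZ)
      set c' := (c ^ 3 ^ (k - 2)) ^ i with hc'
      have hc'M : c' ∈ Subgroup.centralizer (A : Set G) :=
        Subgroup.zpow_mem _ (pow_mem hcM _) i
      have hc'g : Commute g c'⁻¹ := (((show Commute g c from hgc).pow_right _).zpow_right i).inv_right
      have hc'3 : c' ^ 3 = g ^ 3 := by
        rw [← hi, hc', ← zpow_natCast, ← zpow_mul, mul_comm i, zpow_mul, zpow_natCast, ← pow_mul,
          ← pow_succ, show k - 2 + 1 = k - 1 by omega]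
      refine hex (g * c'⁻¹) (fun h1 => hg ?_) ?_
      · simpa using mul_mem h1 hc'M
      · rw [hc'g.mul_pow, inv_pow, hc'3, mul_inv_cancel]
    · push Not at hcube
      exact Or.inl (CfsgLib.PGroup.HuppertMetacyclic.isMetacyclic_rigid hp
        (h.rigid hall (Or.inr ⟨rfl, hA, hcube⟩)) hGp (hsmall hall))
  · have hp5 : 5 ≤ p := by
      have h2 := (Fact.out : p.Prime).two_le
      have h4 : p ≠ 4 := fun h4 => by subst h4; exact absurd (Fact.out : Nat.Prime 4) (by decide)
      omega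
    exact Or.inl (CfsgLib.PGroup.HuppertMetacyclic.isMetacyclic hp5 hGp (hsmall hall))

end Cfsg.Agent.S3888
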