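import Cfsg.Statements.S5572
import Cfsg.Agent.S5568
import Cfsg.Agent.S5569
import Cfsg.Agent.Lib.JankoFour.Rigid.Facts
import Cfsg.Agent.Lib.JankoFour.FiveModel
import Cfsg.Agent.Lib.JankoFour.FiveMain
import Cfsg.Agent.Lib.JankoFour.FiveSecond

set_option autoImplicit false
open Cfsg

namespace Cfsg.Agent.S5572

/-- Let G be a finite non-abelian simple group of Janko-four type (an involution z whose centralizer H has an extraspecial largest normal 2-subgroup E of order 2^13 containing its centralizer in H, a normal subgroup N ≥ E of H with N/E of order 3 and H/N the automorphism group of M₂₂, and a subgroup P ≤ N of order 3 with C_E(P) = ⟨z⟩, N_H(P) ≠ C_H(P) and P ≤ C_H(P)′). Let Q ≤ H have order 5. Then Q is a Sylow 5-subgroup of G; its centralizer is Q × J with J a non-split extension of an elementary abelian group of order 8 by L₃(2); its normalizer contains a subgroup of order 20 containing Q in which Q is self-centralizing (a Frobenius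 group of order 20); and the normalizer of Q has order 2^8·3·5·7. -/
theorem result {G : Type*} [Group G] [Finite G] [IsSimpleGroup G] (hG : ¬ IsMulCommutative G) (z : G) (hJ : Cfsg.IsOfJankoFourTypeAt z) (Q : Subgroup G) (hQ : Nat.card ↥Q = 5) (hQz : Q ≤ Subgroup.centralizer ({z} : Set G)) :
    ¬ (25 ∣ Nat.card G) ∧
    (∃ J : Subgroup G, Cfsg.IsInternalDirectProduct Q J (Subgroup.centralizer (Q : Set G)) ∧
      ∃ (E : Subgroup ↥J) (_ : E.Normal), Cfsg.IsElementaryAbelian 2 E ∧ Nat.card ↥E = 8 ∧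
        Nonempty (↥J ⧸ E ≃* Matrix.SpecialLinearGroup (Fin 3) (ZMod 2)) ∧ ∀ K : Subgroup ↥J, ¬ E.IsComplement' K) ∧
    (∃ R : Subgroup G, Q ≤ R ∧ R ≤ Subgroup.normalizer (Q : Set G) ∧ Nat.card ↥R = 20 ∧ R ⊓ Subgroup.centralizer (Q : Set G) = Q) ∧
    Nat.card ↥(Subgroup.normalizer (Q : Set G)) = 2 ^ 8 * 3 * 5 * 7 := by
  classical
  haveI : Fact (Nat.Prime 5) := ⟨by norm_num⟩
  -- a generator
  obtain ⟨x, hxQ, hx⟩ : ∃ x ∈ Q, orderOf x = 5 := by
    obtain ⟨x, hx⟩ := exists_prime_orderOf_dvd_card' (G := ↥Q) 5 (by rw [hQ])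
    exact ⟨x, x.2, by rw [Subgroup.orderOf_coe]; exact hx⟩
  have hQeq : Q = Subgroup.zpowers x :=
    (Subgroup.eq_of_le_of_card_ge (Subgroup.zpowers_le.2 hxQ) (by rw [Nat.card_zpowers, hx, hQ])).symm
  subst hQeq
  obtain ⟨P, hP⟩ := hJ
  have hJ' : Cfsg.IsOfJankoFourTypeAt z := ⟨P, hP⟩
  obtain ⟨ι, _, q, _, π, n, M, φ, m, -, -⟩ := CfsgLib.JankoFour.exists_model_of_facts hP (fun c => c.facts)
  obtain ⟨f, rfl⟩ : ∃ f : Subgroup.centralizer ({z} : Set G), (f : G) = x := ⟨⟨x, hQz hxQ⟩, rfl⟩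
  have hf : orderOf f = 5 := by rw [← Subgroup.orderOf_coe]; exact hx
  have hF := m.core.fiveFacts
  obtain ⟨u, c⟩ := CfsgLib.JankoFour.Five.exists_ctx m hF hf
  -- an involution of the second class
  obtain ⟨s, hs⟩ := m.exists_class
  obtain ⟨B, hB, hBc⟩ := m.exists_big hs
  have hA : Cfsg.IsElementaryAbelian 2 (B.map (Subgroup.centralizer ({z} : Set G)).subtype) := by
    refine ⟨⟨⟨?_⟩⟩, ?_⟩
    · rintro ⟨_, a, ha, rfl⟩ ⟨_, b, hb, rfl⟩
      refine Subtype.ext ?_
      haveI := hB.1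
      exact congrArg (fun y : ↥B => ((y : Subgroup.centralizer ({z} : Set G)) : G))
        (mul_comm' (⟨a, ha⟩ : ↥B) ⟨b, hb⟩)
    · rintro _ ⟨a, ha, rfl⟩
      rw [← map_pow, hB.2 a ha, map_one]
  obtain ⟨z', t, -, htA, ht1, hzz', hnc, h1771, -, hle⟩ := Cfsg.Agent.S5568.result hG z hJ' _ hA
    (by rw [Subgroup.card_map_of_injective (Subgroup.subtype_injective _), hBc])
  have htt : t ^ 2 = 1 := hA.2 t htA
  have hcard : ∀ t' : G, t' * t' = 1 → t' ≠ 1 → orderOf t' = 2 := fun t' h h' => by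
    haveI : Fact (Nat.Prime 2) := ⟨Nat.prime_two⟩
    exact orderOf_eq_prime (by rw [pow_two]; exact h) h'
  obtain ⟨W, L, -, hLt, -, -, -, -, -, ⟨e⟩⟩ := Cfsg.Agent.S5569.result hG z hJ' t (hcard t (by rwa [← pow_two]) ht1) hnc
  obtain ⟨y, hy⟩ := exists_prime_orderOf_dvd_card' (G := ↥L) 5 (by
    rw [Nat.card_congr e.toEquiv, CfsgLib.JankoFour.card_aut_M22]; norm_num)
  have hy' : orderOf (y : G) = 5 := by rw [Subgroup.orderOf_coe]; exact hy
  have hyt : (y : G) * t = t * (y : G) := Subgroup.mem_centralizer_singleton_iff.1 (hLt y.2)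
  obtain ⟨v, hv, hyv⟩ := CfsgLib.JankoFour.Five.exists_fixed_conj hy' (hle (hLt y.2)) (a := z')
    (by rw [h1771]; norm_num)
  obtain ⟨g, hg⟩ := CfsgLib.JankoFour.Five.exists_second_mem c hy' (hzz'.trans hv) hyv hyt
  have hT : CfsgLib.JankoFour.Five.Second z f :=
    { ex := ⟨_, hg, by
        rw [show g * t * g⁻¹ * (g * t * g⁻¹) = g * t ^ 2 * g⁻¹ by rw [pow_two]; group, htt]; group,
        fun e' => ht1 (conj_eq_one_iff.1 e'),
        fun h => hnc (h.trans (isConj_iff.2 ⟨g, rfl⟩ : IsConj t (g * t * g⁻¹)).symm)⟩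
      cent := fun t' ht' h2 h1 hn => by
        obtain ⟨W', L', hW', hL', hnorm, -, hW11, hdis, hsup, ⟨e'⟩⟩ :=
          Cfsg.Agent.S5569.result hG z hJ' t' (hcard t' h2 h1) hn
        exact CfsgLib.JankoFour.Five.cent_split m.core hF hx hW' hL' hnorm hW11 hdis hsup e'
          (Subgroup.mem_centralizer_singleton_iff.2 (Subgroup.mem_centralizer_singleton_iff.1 ht').symm) }
  exact c.structure_five hT

end Cfsg.Agent.S5572
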