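import Cfsg.Statements.S0219
import Mathlib

set_option autoImplicit false
open Cfsg

namespace Cfsg.Agent.S0219

theorem index_two_of_cyclic_sylow {G : Type*} [Group G] [Finite G] (heven : Even (Nat.card G))
    (T : Sylow 2 G) (hT : IsCyclic (T : Subgroup G)) : ∃ H : Subgroup G, H.index = 2 := by
  have hmin : (Nat.card G).minFac = 2 := (Nat.minFac_eq_two_iff _).mpr (even_iff_two_dvd.mp heven)
  have hcompl := IsCyclic.isComplement' hmin hT
  generalize hker : (MonoidHom.transferSylow T (hT.normalizer_le_centralizer hmin)).ker = N at hcompl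
  haveI : N.Normal := hker ▸ MonoidHom.normal_ker _
  haveI : IsCyclic (G ⧸ N) := isCyclic_of_surjective
    ((QuotientGroup.mk' N).comp (T : Subgroup G).subtype) (by
      intro q
      obtain ⟨g, rfl⟩ := QuotientGroup.mk'_surjective N q
      obtain ⟨⟨⟨n, hn⟩, ⟨t, ht⟩⟩, rfl⟩ := hcompl.2 g
      refine ⟨⟨t, ht⟩, ?_⟩
      simp [(QuotientGroup.eq_one_iff n).mpr hn])
  have hdvd : 2 ∣ Nat.card (G ⧸ N) := by
    rw [← Subgroup.index_eq_card, hcompl.symm.index_eq_card]
    exact T.dvd_card_of_dvd_card (even_iff_two_dvd.mp heven)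
  obtain ⟨a, ha⟩ := IsCyclic.exists_generator (α := G ⧸ N)
  let φ : G ⧸ N →* Multiplicative (ZMod 2) := monoidHomOfForallMemZpowers ha
    (g' := Multiplicative.ofAdd (1 : ZMod 2)) (by
      rw [orderOf_eq_card_of_forall_mem_zpowers ha, orderOf_ofAdd_eq_addOrderOf]
      simpa using hdvd)
  refine ⟨(φ.comp (QuotientGroup.mk' N)).ker, ?_⟩
  rw [Subgroup.index_ker, MonoidHom.range_eq_top.mpr]
  · simp [Nat.card_zmod]
  · intro m
    obtain ⟨k, hk⟩ : ∃ k : ℕ, Multiplicative.ofAdd ((k : ZMod 2)) = m := ⟨m.toAdd.val, by simp⟩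
    obtain ⟨g, hg⟩ := QuotientGroup.mk'_surjective N (a ^ k)
    refine ⟨g, ?_⟩
    rw [MonoidHom.comp_apply, hg, map_pow, monoidHomOfForallMemZpowers_apply_gen, ← hk, ← ofAdd_nsmul]
    simp

/-- If a finite group has even order and a cyclic Sylow 2-subgroup, then it has a subgroup of index 2 (consider the parity of permutations in the regular representation). -/
theorem result {G : Type*} [Group G] [Finite G] (heven : Even (Nat.card G)) (T : Sylow 2 G) (hT : IsCyclic (T : Subgroup G)) : ∃ H : Subgroup G, H.index = 2 := by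
  exact index_two_of_cyclic_sylow heven T hT

end Cfsg.Agent.S0219
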