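import Cfsg.Statements.S5450
import Cfsg.Agent.Lib.LargeFischer.FourCent.Main
import Cfsg.Agent.Lib.LargeFischer.Inner.Final
import Cfsg.Agent.Lib.LargeFischer.Setting
import Cfsg.Agent.Lib.U6Central.Model6
import Cfsg.Agent.Lib.Classical.UnitaryPSU

set_option autoImplicit false
open Cfsg

namespace Cfsg.Agent.S5450

open CfsgLib.LargeFischer CfsgLib.LargeFischer.Thompson

private theorem psu_six_perfect {F : Type} [Field F] [Fintype F] (hF : Fintype.card F = 4) :
    commutator (Cfsg.PSU 6 F 2) = ⊤ := by
  have hF' : Fintype.card F = 2 ^ 2 := by rw [hF]; norm_num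
  refine Inner.commutator_top_of_surjective (QuotientGroup.mk' _) (QuotientGroup.mk'_surjective _) ?_
  rw [eq_top_iff, ← CfsgLib.Classical.Unitary.su_closure_transvections (n := 6) hF' (by norm_num) (by norm_num),
    Subgroup.closure_le, commutator_eq_closure]
  rintro A ⟨v, c, hv, hA⟩
  exact Subgroup.subset_closure
    (CfsgLib.Classical.Unitary.su_transvection_mem_commutatorSet hF' (by norm_num) A v c hv hA)

/-- Let G be a finite group of large Fischer type at the involution z: the generalized Fitting subgroup Q of H = C_G(z) is extraspecial of order 2^13, H has normal subgroups Q ≤ H₁ ≤ H₂ with H₁/Q of order 3, H₂/H₁ the projective special unitary group of dimension 4 over the field with nine elements and H₂ of index 2 in H, and some conjugate of z other than z lies in Q. Let t be an involution of Q not conjugate to z in G, and K the generalized Fitting subgroup of the centralizer of t. Then K is quasisimple of index 2 in the centralizer of t, contains t, and the centralizer of t modulo the subgroup generated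 by t is isomorphic to the full automorphism group of the Fischer group Fi₂₂ (as presented). -/
theorem result {G : Type*} [Group G] [Finite G] (z : G) (Q : Subgroup (Subgroup.centralizer ({z} : Set G))) [Q.Normal] (hF : Cfsg.IsOfLargeFischerTypeAt z Q) (t : G) (htQ : ∃ htc : t ∈ Subgroup.centralizer ({z} : Set G), (⟨t, htc⟩ : Subgroup.centralizer ({z} : Set G)) ∈ Q) (ht2 : orderOf t = 2) (ht : ¬ IsConj z t) (K : Subgroup ↥(Subgroup.centralizer ({t} : Set G))) (hK : K = Cfsg.generalizedFittingSubgroup ↥(Subgroup.centralizer ({t} : Set G))) [hn : ((Subgroup.zpowers t).subgroupOf (Subgroup.centralizer ({t} : Set G))).Normal] : Cfsg.IsQuasisimple ↥K ∧ K.index = 2 ∧ (∃ htc : t ∈ Subgroup.centralizer ({t} : Set G), (⟨t, htc⟩ : ↥(Subgroup.centralizer ({t} : Set G))) ∈ K) ∧ Nonempty (↥(Subgroup.centralizer ({t} : Set G)) ⧸ (Subgroup.zpowers t).subgroupOf (Subgroup.centralizer ({t} : Set G)) ≃* MulAut Cfsg.Spor.Fi22) := by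
  obtain ⟨ι, hι, q, hact, π, n, M, φ, m⟩ := exists_model z Q hF
  obtain ⟨s, E, D, A, Ab, T₀, c, -⟩ := exists_ctx hF m
  obtain ⟨T, f, R⟩ := c.exists_frame
  obtain ⟨cd⟩ := R.exists_central c
  obtain ⟨e⟩ := CfsgLib.U6Central.iso cd
  obtain ⟨htc, htQ⟩ := htQ
  let θ := e.toMonoidHom.comp (tmk f)
  have hθ : Function.Surjective θ := e.surjective.comp (QuotientGroup.mk'_surjective _)
  have hθk : ∀ g : ↥(triC f), θ g = 1 ↔ (g : G) = 1 ∨ (g : G) = f (0, 1) * f (0, 2) ∨
      (g : G) = f (0, 2) * f (0, 3) ∨ (g : G) = f (0, 1) * f (0, 3) := fun g => by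
    rw [← R.mem_tri c, ← Subgroup.mem_subgroupOf, ← QuotientGroup.eq_one_iff]
    exact map_eq_one_iff e e.injective
  have hperf : commutator ↥(triC f) = ⊤ := by
    refine eq_top_iff.2 fun g _ => ?_
    obtain ⟨k, hk, hkg⟩ : θ g ∈ (commutator ↥(triC f)).map θ := by
      rw [commutator_def, Subgroup.map_commutator, Subgroup.map_top_of_surjective θ hθ, ← commutator_def,
        psu_six_perfect cd.hF]
      exact Subgroup.mem_top _
    have h1 : θ (k⁻¹ * g) = 1 := by rw [map_mul, map_inv, hkg, inv_mul_cancel]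
    have h2 : ((k⁻¹ * g : ↥(triC f)) : G) ∈ tri f := (R.mem_tri c).2 ((hθk _).1 h1)
    obtain ⟨u, hu, hue⟩ := R.tri_le_commutator c h2
    have h3 : u = k⁻¹ * g := Subtype.ext hue
    have := mul_mem hk (h3 ▸ hu)
    rwa [mul_inv_cancel_left] at this
  exact Inner.goodCent_of_triangle c f R.mem R.pair R.cover (R.cell 0) (R.inner_pi 0) cd.hF (triC f)
    (fun g => R.mem_triC c) hperf θ hθ hθk (t := ⟨⟨t, htc⟩, htQ⟩) ht2 ht K hK

end Cfsg.Agent.S5450
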