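import Cfsg.Statements.S0206
import Cfsg.Agent.Lib.Invol.Dihedral

set_option autoImplicit false
open Cfsg

namespace Cfsg.Agent.S0206

/-- Two distinct involutions x, y of a finite group generate a subgroup isomorphic to the dihedral group of order 2·|xy|. -/
theorem result {G : Type*} [Group G] [Finite G] (x y : G) (hx : orderOf x = 2) (hy : orderOf y = 2) (hxy : x ≠ y) : Nonempty (↥(Subgroup.closure ({x, y} : Set G)) ≃* DihedralGroup (orderOf (x * y))) := by
  obtain hr : 0 < orderOf (x * y) := orderOf_pos _
  set n := orderOf (x * y) with hn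
  haveI : NeZero n := ⟨by omega⟩
  have hper : ∀ a b : ℤ, ((a : ZMod n) = b) → (x * y) ^ a = (x * y) ^ b := by
    intro a b h
    rw [zpow_eq_zpow_iff_modEq]
    exact (ZMod.intCast_eq_intCast_iff a b n).mp h
  let f : DihedralGroup n → G := fun d => match d with
    | .r i => (x * y) ^ (i.cast : ℤ)
    | .sr i => x * (x * y) ^ (i.cast : ℤ)
  have hmul : ∀ a b, f (a * b) = f a * f b := by
    rintro (i | i) (j | j)
    · simp only [f, DihedralGroup.r_mul_r, ← zpow_add]
      exact hper _ _ (by simp)
    · simp only [f, DihedralGroup.r_mul_sr]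
      rw [← mul_assoc, CfsgLib.Invol.mul_zpow_comm hx hy, mul_assoc, ← zpow_add]
      congr 1
      exact hper _ _ (by simp [sub_eq_add_neg, add_comm])
    · simp only [f, DihedralGroup.sr_mul_r]
      rw [mul_assoc, ← zpow_add]
      congr 1
      exact hper _ _ (by simp)
    · simp only [f, DihedralGroup.sr_mul_sr]
      rw [mul_assoc, ← mul_assoc _ x, CfsgLib.Invol.mul_zpow_comm hx hy, mul_assoc,
        CfsgLib.Invol.mul_mul_cancel_of_orderOf_two hx, ← zpow_add]
      exact hper _ _ (by simp [sub_eq_add_neg, add_comm])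
  let F : DihedralGroup n →* G := MonoidHom.mk' f hmul
  have hinj : Function.Injective F := by
    rw [injective_iff_map_eq_one]
    rintro (i | i) h
    · simp only [F, f, MonoidHom.mk'_apply] at h
      rw [← orderOf_dvd_iff_zpow_eq_one, ← hn, ← ZMod.intCast_zmod_eq_zero_iff_dvd, ZMod.intCast_zmod_cast] at h
      subst h
      rfl
    · simp only [F, f, MonoidHom.mk'_apply] at h
      have := CfsgLib.Invol.orderOf_mul_zpow hx hy hxy (i.cast : ℤ)
      rw [h, orderOf_one] at this
      omega
  have hrange : F.range = Subgroup.closure ({x, y} : Set G) := by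
    ext d
    rw [CfsgLib.Invol.mem_closure_pair_invol hx hy, MonoidHom.mem_range]
    constructor
    · rintro ⟨i | i, rfl⟩
      · exact ⟨_, Or.inl rfl⟩
      · exact ⟨_, Or.inr rfl⟩
    · rintro ⟨k, rfl | rfl⟩
      · exact ⟨.r k, hper _ _ (by simp)⟩
      · exact ⟨.sr k, congrArg (x * ·) (hper _ _ (by simp))⟩
  exact ⟨((MonoidHom.ofInjective hinj).trans (MulEquiv.subgroupCongr hrange)).symm⟩

end Cfsg.Agent.S0206
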