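import Cfsg.Statements.S3006
import Cfsg.Agent.Lib.LocalEven.Measure

set_option autoImplicit false
open scoped Pointwise
open Cfsg

namespace Cfsg.Agent.S3006

/-- Let P be a finite p-group, Q a centrally large subgroup of P (|Q|·|Z(Q)| maximal among subgroups of P) and A an abelian subgroup of P of largest order. Then QA = AQ is a centrally large subgroup of P, C_{QA}(Q ∩ A) = Z(Q)·A, and the subgroup generated by all centrally large subgroups of P contains C_P(Z(J(P))), where J(P) is generated by the abelian subgroups of largest order. -/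
theorem result {p : ℕ} [Fact p.Prime] (P : Type*) [Group P] [Finite P] (hP : IsPGroup p P) (Q A : Subgroup P) (hQ : Cfsg.IsCentrallyLarge Q) (hA : A ∈ Cfsg.maxAbelianSubgroups P) : ((Q ⊔ A : Subgroup P) : Set P) = (Q : Set P) * (A : Set P) ∧ Cfsg.IsCentrallyLarge (Q ⊔ A) ∧ (Q ⊔ A) ⊓ Subgroup.centralizer ((Q ⊓ A : Subgroup P) : Set P) = (Q ⊓ Subgroup.centralizer (Q : Set P)) ⊔ A ∧ (((Q ⊓ Subgroup.centralizer (Q : Set P)) ⊔ A : Subgroup P) : Set P) = ((Q ⊓ Subgroup.centralizer (Q : Set P)) : Set P) * (A : Set P) ∧ Subgroup.centralizer ((Cfsg.thompsonSubgroupA P ⊓ Subgroup.centralizer (Cfsg.thompsonSubgroupA P : Set P) : Subgroup P) : Set P) ≤ Cfsg.centrallyLargeJoin P := by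
  have hmaxA : ∀ B ∈ Cfsg.maxAbelianSubgroups P, Subgroup.centralizer (B : Set P) = B := by
    intro B hB
    refine le_antisymm (fun x hx => ?_) (fun x hx => Subgroup.mem_centralizer_iff.2 fun b hb =>
      congrArg Subtype.val (hB.1.1.comm (⟨b, hb⟩ : ↥B) ⟨x, hx⟩))
    have hcl : IsMulCommutative ↥(Subgroup.closure (insert x (B : Set P))) := by
      refine Subgroup.isMulCommutative_closure ?_
      intro a ha b hb
      rcases Set.mem_insert_iff.1 ha with ea | ha <;> rcases Set.mem_insert_iff.1 hb with eb | hb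
      · rw [ea, eb]
      · rw [ea]; exact (Subgroup.mem_centralizer_iff.1 hx b hb).symm
      · rw [eb]; exact Subgroup.mem_centralizer_iff.1 hx a ha
      · exact congrArg Subtype.val (hB.1.1.comm (⟨a, ha⟩ : ↥B) ⟨b, hb⟩)
    have hle : B ≤ Subgroup.closure (insert x (B : Set P)) :=
      fun b hb => Subgroup.subset_closure (Set.mem_insert_of_mem _ hb)
    rw [Subgroup.eq_of_le_of_card_ge hle (hB.2 _ hcl)]
    exact Subgroup.subset_closure (Set.mem_insert _ _)
  have key : ∀ B ∈ Cfsg.maxAbelianSubgroups P, ∀ R : Subgroup P, Cfsg.IsCentrallyLarge R →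
      ((R ⊔ B : Subgroup P) : Set P) = (R : Set P) * (B : Set P) ∧ Cfsg.IsCentrallyLarge (R ⊔ B) ∧
      (R ⊔ B) ⊓ Subgroup.centralizer ((R ⊓ B : Subgroup P) : Set P) = (R ⊓ Subgroup.centralizer (R : Set P)) ⊔ B ∧
      (((R ⊓ Subgroup.centralizer (R : Set P)) ⊔ B : Subgroup P) : Set P) =
        ((R ⊓ Subgroup.centralizer (R : Set P)) : Set P) * (B : Set P) := by
    intro B hB R hR
    obtain ⟨hRl, hRC⟩ := CfsgLib.LocalEven.isCentrallyLarge_iff.1 hR
    set Z := R ⊓ Subgroup.centralizer (R : Set P) with hZdef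
    have hZ : Z = Subgroup.centralizer (R : Set P) := inf_eq_right.2 hRC
    set D := R ⊓ B with hDdef
    have hDZcomm : ∀ a ∈ (D : Set P) ∪ Z, ∀ b ∈ (D : Set P) ∪ Z, a * b = b * a := by
      rintro a (ha | ha) b (hb | hb)
      · exact congrArg Subtype.val (hB.1.1.comm (⟨a, ha.2⟩ : ↥B) ⟨b, hb.2⟩)
      · exact Subgroup.mem_centralizer_iff.1 hb.2 a ha.1
      · exact (Subgroup.mem_centralizer_iff.1 ha.2 b hb.1).symm
      · exact Subgroup.mem_centralizer_iff.1 hb.2 a ha.1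
    have hDZab : IsMulCommutative ↥(D ⊔ Z) := by
      have := Subgroup.isMulCommutative_closure (k := (D : Set P) ∪ Z) hDZcomm
      rwa [Subgroup.closure_union, Subgroup.closure_eq, Subgroup.closure_eq] at this
    have hle1 := hB.2 _ hDZab
    have h1 := CfsgLib.PGroup.card_mul_card_le_sup_inf D Z
    have h2 := CfsgLib.PGroup.card_mul_card_le_sup_inf R B
    rw [← hDdef] at h2
    have hDZinf : D ⊓ Z = Z ⊓ B := by
      rw [hDdef, hZdef]
      apply le_antisymm
      · exact le_inf inf_le_right (inf_le_left.trans inf_le_right)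
      · exact le_inf (le_inf (inf_le_left.trans inf_le_left) inf_le_right) inf_le_left
    rw [hDZinf] at h1
    have hCJ : Subgroup.centralizer ((R ⊔ B : Subgroup P) : Set P) = Z ⊓ B := by
      rw [CfsgLib.LocalEven.centralizer_sup, hmaxA B hB, hZ]
    have hcd := CfsgLib.LocalEven.cdMeasure_le (R ⊔ B)
    have hRm : CfsgLib.LocalEven.cdMeasure R = Cfsg.maxCentralizerProduct P := hRl
    rw [← hRm] at hcd
    simp only [CfsgLib.LocalEven.cdMeasure, hCJ, ← hZ] at hcd
    -- the chain of inequalities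
    have h1' : Nat.card D * Nat.card Z ≤ Nat.card B * Nat.card ↥(Z ⊓ B) :=
      h1.trans (Nat.mul_le_mul_right _ hle1)
    have e2 : Nat.card ↥(R ⊔ B) * Nat.card D ≤ Nat.card R * Nat.card B := by
      refine Nat.le_of_mul_le_mul_right ?_ (Nat.card_pos (α := ↥Z))
      calc Nat.card ↥(R ⊔ B) * Nat.card D * Nat.card Z = Nat.card ↥(R ⊔ B) * (Nat.card D * Nat.card Z) := by ring
        _ ≤ Nat.card ↥(R ⊔ B) * (Nat.card B * Nat.card ↥(Z ⊓ B)) := Nat.mul_le_mul_left _ h1'
        _ = Nat.card B * (Nat.card ↥(R ⊔ B) * Nat.card ↥(Z ⊓ B)) := by ring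
        _ ≤ Nat.card B * (Nat.card R * Nat.card Z) := Nat.mul_le_mul_left _ hcd
        _ = Nat.card R * Nat.card B * Nat.card Z := by ring
    have e3 : Nat.card R * Nat.card Z ≤ Nat.card ↥(R ⊔ B) * Nat.card ↥(Z ⊓ B) := by
      refine Nat.le_of_mul_le_mul_right ?_ (Nat.mul_pos (Nat.card_pos (α := ↥D)) (Nat.card_pos (α := ↥B)))
      calc Nat.card R * Nat.card Z * (Nat.card D * Nat.card B)
          = (Nat.card R * Nat.card B) * (Nat.card D * Nat.card Z) := by ring
        _ ≤ (Nat.card ↥(R ⊔ B) * Nat.card D) * (Nat.card B * Nat.card ↥(Z ⊓ B)) := Nat.mul_le_mul h2 h1'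
        _ = Nat.card ↥(R ⊔ B) * Nat.card ↥(Z ⊓ B) * (Nat.card D * Nat.card B) := by ring
    have e4 : Nat.card B ≤ Nat.card ↥(D ⊔ Z) := by
      refine Nat.le_of_mul_le_mul_right ?_ (Nat.mul_pos (Nat.card_pos (α := ↥R)) (Nat.card_pos (α := ↥(Z ⊓ B))))
      calc Nat.card B * (Nat.card R * Nat.card ↥(Z ⊓ B)) = Nat.card R * Nat.card B * Nat.card ↥(Z ⊓ B) := by ring
        _ ≤ Nat.card ↥(R ⊔ B) * Nat.card D * Nat.card ↥(Z ⊓ B) := Nat.mul_le_mul_right _ h2
        _ = Nat.card ↥(R ⊔ B) * Nat.card ↥(Z ⊓ B) * Nat.card D := by ring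
        _ ≤ Nat.card R * Nat.card Z * Nat.card D := Nat.mul_le_mul_right _ hcd
        _ = Nat.card R * (Nat.card D * Nat.card Z) := by ring
        _ ≤ Nat.card R * (Nat.card ↥(D ⊔ Z) * Nat.card ↥(Z ⊓ B)) := Nat.mul_le_mul_left _ h1
        _ = Nat.card ↥(D ⊔ Z) * (Nat.card R * Nat.card ↥(Z ⊓ B)) := by ring
    have hDZmax : D ⊔ Z ∈ Cfsg.maxAbelianSubgroups P :=
      ⟨hDZab, fun C hC => (hB.2 C hC).trans e4⟩
    have hJl : Cfsg.IsCentralizerLarge (R ⊔ B) := by
      refine CfsgLib.LocalEven.isCentralizerLarge_of_le ?_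
      rw [← hRm]
      simp only [CfsgLib.LocalEven.cdMeasure, hCJ, ← hZ]
      exact e3
    have hmul : ((R ⊔ B : Subgroup P) : Set P) = (R : Set P) * (B : Set P) :=
      CfsgLib.LocalEven.coe_sup_eq_mul e2
    have hDZmul : ((D ⊔ Z : Subgroup P) : Set P) = (D : Set P) * (Z : Set P) := by
      refine CfsgLib.LocalEven.coe_sup_eq_mul ?_
      rw [hDZinf]
      refine Nat.le_of_mul_le_mul_right ?_ (Nat.card_pos (α := ↥R))
      calc Nat.card ↥(D ⊔ Z) * Nat.card ↥(Z ⊓ B) * Nat.card R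
          ≤ Nat.card B * Nat.card ↥(Z ⊓ B) * Nat.card R := by
            exact Nat.mul_le_mul_right _ (Nat.mul_le_mul_right _ hle1)
        _ = Nat.card R * Nat.card B * Nat.card ↥(Z ⊓ B) := by ring
        _ ≤ Nat.card ↥(R ⊔ B) * Nat.card D * Nat.card ↥(Z ⊓ B) := Nat.mul_le_mul_right _ h2
        _ = Nat.card ↥(R ⊔ B) * Nat.card ↥(Z ⊓ B) * Nat.card D := by ring
        _ ≤ Nat.card R * Nat.card Z * Nat.card D := Nat.mul_le_mul_right _ hcd
        _ = Nat.card D * Nat.card Z * Nat.card R := by ring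
    have hZAle : Z ⊔ B ≤ (R ⊔ B) ⊓ Subgroup.centralizer (D : Set P) := by
      refine sup_le (le_inf (inf_le_left.trans le_sup_left) (fun z hz => Subgroup.mem_centralizer_iff.2 fun d hd =>
        Subgroup.mem_centralizer_iff.1 hz.2 d hd.1)) (le_inf le_sup_right (fun b hb =>
        Subgroup.mem_centralizer_iff.2 fun d hd => congrArg Subtype.val (hB.1.1.comm (⟨d, hd.2⟩ : ↥B) ⟨b, hb⟩)))
    have hdec : ∀ x ∈ (R ⊔ B) ⊓ Subgroup.centralizer (D : Set P), x ∈ (Z : Set P) * (B : Set P) := by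
      rintro x ⟨hx, hxD⟩
      have hx' : x ∈ ((R ⊔ B : Subgroup P) : Set P) := hx
      rw [hmul] at hx'
      obtain ⟨r, hr, b, hb, rfl⟩ := Set.mem_mul.1 hx'
      have hrD : r ∈ Subgroup.centralizer (D : Set P) := by
        have := Subgroup.mul_mem _ hxD (Subgroup.inv_mem _ ((hZAle (Subgroup.mem_sup_right hb)).2))
        simpa [mul_assoc] using this
      have hrDZ : r ∈ ((D ⊔ Z : Subgroup P) : Set P) := by
        rw [← hmaxA _ hDZmax, CfsgLib.LocalEven.centralizer_sup]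
        exact ⟨hrD, Subgroup.mem_centralizer_iff.2 fun z hz => (Subgroup.mem_centralizer_iff.1 hz.2 r hr).symm⟩
      rw [hDZmul] at hrDZ
      obtain ⟨d, hd, z, hz, rfl⟩ := Set.mem_mul.1 hrDZ
      refine Set.mem_mul.2 ⟨z, hz, d * b, B.mul_mem hd.2 hb, ?_⟩
      rw [← mul_assoc, hDZcomm z (Or.inr hz) d (Or.inl hd)]
    have heq : (R ⊔ B) ⊓ Subgroup.centralizer (D : Set P) = Z ⊔ B := by
      refine le_antisymm (fun x hx => ?_) hZAle
      obtain ⟨z, hz, b, hb, rfl⟩ := Set.mem_mul.1 (hdec x hx)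
      exact Subgroup.mul_mem_sup hz hb
    refine ⟨hmul, CfsgLib.LocalEven.isCentrallyLarge_iff.2 ⟨hJl, ?_⟩, heq, ?_⟩
    · rw [hCJ]; exact inf_le_right.trans le_sup_right
    · refine Set.Subset.antisymm (fun x hx => hdec x (heq.symm ▸ hx)) ?_
      exact Set.mul_subset_iff.2 fun z hz b hb => Subgroup.mul_mem_sup hz hb
  obtain ⟨k1, k2, k3, k4⟩ := key A hA Q hQ
  refine ⟨k1, k2, k3, k4, ?_⟩
  set W := Cfsg.centrallyLargeJoin P with hW
  have hWl : Cfsg.IsCentrallyLarge W := CfsgLib.LocalEven.isCentrallyLarge_sSup (fun _ h => h) ⟨Q, hQ⟩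
  have hJW : Cfsg.thompsonSubgroupA P ≤ W :=
    sSup_le fun B hB => le_sup_right.trans (le_sSup (key B hB Q hQ).2.1)
  obtain ⟨hWc, hWC⟩ := CfsgLib.LocalEven.isCentrallyLarge_iff.1 hWl
  have hCW : Subgroup.centralizer (W : Set P) ≤
      Cfsg.thompsonSubgroupA P ⊓ Subgroup.centralizer (Cfsg.thompsonSubgroupA P : Set P) := by
    have h1 := Subgroup.centralizer_le (SetLike.coe_subset_coe.2 hJW)
    refine le_inf (fun x hx => ?_) h1
    have h2 : A ≤ Cfsg.thompsonSubgroupA P := le_sSup hA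
    have h3 := Subgroup.centralizer_le (SetLike.coe_subset_coe.2 h2) (h1 hx)
    rw [hmaxA A hA] at h3
    exact h2 h3
  calc _ ≤ Subgroup.centralizer ((Subgroup.centralizer (W : Set P) : Subgroup P) : Set P) :=
        Subgroup.centralizer_le (SetLike.coe_subset_coe.2 hCW)
    _ = W := hWc.centralizer_centralizer.2.symm

end Cfsg.Agent.S3006
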