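import Cfsg.Statements.S3007
import Cfsg.Agent.Lib.LocalEven.Measure

set_option autoImplicit false
open scoped Pointwise commutatorElement
open Cfsg

namespace Cfsg.Agent.S3007

/-- Let P be a finite p-group and Q, R minimal centrally large subgroups of P (centrally large: |Q|·|Z(Q)| maximal among subgroups of P; minimal among such under inclusion). Then Q = (Q ∩ R)·Z(Q), the derived subgroups [Q, Q] and [R, R] coincide, |Q| = |R| and |Z(Q)| = |Z(R)|; and if Q is abelian then the minimal centrally large subgroups of P are exactly the abelian subgroups of P of largest order. -/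
theorem result {p : ℕ} [Fact p.Prime] (P : Type*) [Group P] [Finite P] (hP : IsPGroup p P) (Q R : Subgroup P) (hQ : Cfsg.IsMinimalCentrallyLarge Q) (hR : Cfsg.IsMinimalCentrallyLarge R) : (Q ⊓ R) ⊔ (Q ⊓ Subgroup.centralizer (Q : Set P)) = Q ∧ ⁅Q, Q⁆ = ⁅R, R⁆ ∧ Nat.card ↥Q = Nat.card ↥R ∧ Nat.card ↥(Q ⊓ Subgroup.centralizer (Q : Set P)) = Nat.card ↥(R ⊓ Subgroup.centralizer (R : Set P)) ∧ (IsMulCommutative ↥Q → ∀ X : Subgroup P, Cfsg.IsMinimalCentrallyLarge X ↔ X ∈ Cfsg.maxAbelianSubgroups P) := by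
  have key : ∀ Q R : Subgroup P, Cfsg.IsMinimalCentrallyLarge Q → Cfsg.IsMinimalCentrallyLarge R →
      (Q ⊓ R) ⊔ (Q ⊓ Subgroup.centralizer (Q : Set P)) = Q ∧ ⁅Q, Q⁆ = ⁅Q ⊓ R, Q ⊓ R⁆ ∧
      Q ⊓ R ⊓ (Q ⊓ Subgroup.centralizer (Q : Set P)) = Q ⊓ R ⊓ Subgroup.centralizer ((Q ⊓ R : Subgroup P) : Set P) ∧
      Nat.card Q * Nat.card ↥(Q ⊓ R ⊓ (Q ⊓ Subgroup.centralizer (Q : Set P))) =
        Nat.card ↥(Q ⊓ R) * Nat.card ↥(Q ⊓ Subgroup.centralizer (Q : Set P)) := by
    intro Q R hQ hR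
    obtain ⟨hQl, hQC⟩ := CfsgLib.LocalEven.isCentrallyLarge_iff.1 hQ.1
    obtain ⟨hRl, hRC⟩ := CfsgLib.LocalEven.isCentrallyLarge_iff.1 hR.1
    rw [inf_eq_right.2 hQC]
    set CQ := Subgroup.centralizer (Q : Set P) with hCQ
    set I := Q ⊓ R with hI
    obtain ⟨-, hIl, -, -, hCI⟩ := hQl.lattice hRl
    obtain ⟨hCQl, hQQ⟩ := hQl.centralizer_centralizer
    obtain ⟨hjl, -, hjm, -, -⟩ := hIl.lattice hCQl
    have heq : I ⊔ CQ = Q := by
      refine hQ.2 _ (sup_le inf_le_left hQC) (CfsgLib.LocalEven.isCentrallyLarge_iff.2 ⟨hjl, ?_⟩)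
      rw [CfsgLib.LocalEven.centralizer_sup, hCI, ← hQQ]
      rintro x ⟨hx, hxQ⟩
      have h2 : CQ ⊔ Subgroup.centralizer (R : Set P) = Subgroup.centralizer (I : Set P) := hCI.symm
      have h3 : ((CQ ⊔ Subgroup.centralizer (R : Set P) : Subgroup P) : Set P) =
          (CQ : Set P) * (Subgroup.centralizer (R : Set P) : Set P) := (hQl.lattice hRl).2.2.2.1
      have hx' : x ∈ ((CQ ⊔ Subgroup.centralizer (R : Set P) : Subgroup P) : Set P) := hx
      rw [h3] at hx'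
      obtain ⟨a, ha, b, hb, rfl⟩ := Set.mem_mul.1 hx'
      refine Subgroup.mul_mem _ (Subgroup.mem_sup_right ha) (Subgroup.mem_sup_left ⟨?_, hRC hb⟩)
      simpa using Q.mul_mem (Q.inv_mem (hQC ha)) hxQ
    have hcomm : ∀ x ∈ Q, ∃ i ∈ I, ∃ c ∈ CQ, x = i * c := by
      intro x hx
      rw [← heq, ← SetLike.mem_coe, hjm] at hx
      obtain ⟨i, hi, c, hc, rfl⟩ := Set.mem_mul.1 hx
      exact ⟨i, hi, c, hc, rfl⟩
    have hinf : I ⊓ CQ = I ⊓ Subgroup.centralizer (I : Set P) := by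
      refine le_antisymm (inf_le_inf_left I (Subgroup.centralizer_le (SetLike.coe_subset_coe.2 inf_le_left))) ?_
      rintro y ⟨hy, hy'⟩
      refine ⟨hy, Subgroup.mem_centralizer_iff.2 fun x hx => ?_⟩
      obtain ⟨i, hi, c, hc, rfl⟩ := hcomm x hx
      rw [mul_assoc, ← Subgroup.mem_centralizer_iff.1 hc y hy.1, ← mul_assoc,
        Subgroup.mem_centralizer_iff.1 hy' i hi, mul_assoc]
    refine ⟨heq, le_antisymm ?_ (Subgroup.commutator_mono inf_le_left inf_le_left), hinf, ?_⟩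
    · rw [Subgroup.commutator_le]
      intro x hx y hy
      obtain ⟨i, hi, c, hc, rfl⟩ := hcomm x hx
      obtain ⟨j, hj, d, hd, rfl⟩ := hcomm y hy
      have hcom : ∀ z ∈ CQ, ∀ q ∈ Q, q * z = z * q := fun z hz q hq => Subgroup.mem_centralizer_iff.1 hz q hq
      have e : ⁅i * c, j * d⁆ = ⁅i, j⁆ := by
        have c1 : c * (j * d) = j * d * c := (hcom c hc _ hy).symm
        have c2 : (i : P) * d = d * i := hcom d hd i hi.1
        calc ⁅i * c, j * d⁆ = i * (c * (j * d)) * c⁻¹ * i⁻¹ * (j * d)⁻¹ := by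
              simp [commutatorElement_def, mul_assoc]
          _ = i * (j * d) * i⁻¹ * (j * d)⁻¹ := by rw [c1]; group
          _ = i * j * (d * i⁻¹) * d⁻¹ * j⁻¹ := by group
          _ = ⁅i, j⁆ := by
              rw [(show Commute d i⁻¹ from (show Commute d i from c2.symm).inv_right).eq]
              simp [commutatorElement_def, mul_assoc]
      rw [e]
      exact Subgroup.commutator_mem_commutator hi hj
    · refine le_antisymm ?_ ?_
      · have := CfsgLib.PGroup.card_setMul_mul_card_inf I CQ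
        rw [← hjm, heq] at this
        exact this.le
      · have := CfsgLib.PGroup.card_mul_card_le_sup_inf I CQ
        rwa [heq] at this
  obtain ⟨hQ1, hQ2, hQ3, hQ4⟩ := key Q R hQ hR
  obtain ⟨-, hR2, hR3, hR4⟩ := key R Q hR hQ
  rw [inf_comm R Q] at hR2 hR3 hR4
  have hcards : Nat.card ↥Q = Nat.card ↥R ∧ Nat.card ↥(Q ⊓ Subgroup.centralizer (Q : Set P)) =
      Nat.card ↥(R ⊓ Subgroup.centralizer (R : Set P)) := by
    rw [hQ3] at hQ4
    rw [hR3] at hR4
    have e1 : Nat.card Q * Nat.card ↥(Subgroup.center ↥Q) = Cfsg.maxCentralProduct P := hQ.1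
    have e2 : Nat.card R * Nat.card ↥(Subgroup.center ↥R) = Cfsg.maxCentralProduct P := hR.1
    rw [CfsgLib.LocalEven.card_center_eq] at e1 e2
    set a := Nat.card ↥(Q ⊓ R) with hadef
    set z := Nat.card ↥(Q ⊓ R ⊓ Subgroup.centralizer ((Q ⊓ R : Subgroup P) : Set P))
    set x := Nat.card ↥(Q ⊓ Subgroup.centralizer (Q : Set P))
    set y := Nat.card ↥(R ⊓ Subgroup.centralizer (R : Set P))
    have hxy : a * (x * x) = a * (y * y) := by
      calc a * (x * x) = (a * x) * x := by ring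
        _ = Nat.card Q * z * x := by rw [hQ4]
        _ = (Nat.card Q * x) * z := by ring
        _ = (Nat.card R * y) * z := by rw [e1, e2]
        _ = Nat.card R * z * y := by ring
        _ = (a * y) * y := by rw [hR4]
        _ = a * (y * y) := by ring
    have hxy' : x = y := Nat.mul_self_inj.1 (Nat.eq_of_mul_eq_mul_left (hadef ▸ Nat.card_pos) hxy)
    refine ⟨?_, hxy'⟩
    rw [hxy'] at hQ4
    exact Nat.eq_of_mul_eq_mul_right Nat.card_pos (hQ4.trans hR4.symm)
  refine ⟨hQ1, hQ2.trans hR2.symm, hcards.1, hcards.2, fun hab X => ?_⟩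
  have habc : ∀ Y : Subgroup P, IsMulCommutative ↥Y → Nat.card ↥(Subgroup.center ↥Y) = Nat.card ↥Y := fun Y hY => by
    rw [Subgroup.center_eq_top_iff.2 hY]
    exact Nat.card_congr Subgroup.topEquiv.toEquiv
  have hQsq : Nat.card Q * Nat.card Q = Cfsg.maxCentralProduct P := by
    have := hQ.1
    rwa [Cfsg.IsCentrallyLarge, habc Q hab] at this
  constructor
  · intro hX
    obtain ⟨-, h2, h3, h4⟩ := key Q X hQ hX
    obtain ⟨-, h2', h3', h4'⟩ := key X Q hX hQ
    have hXab : IsMulCommutative ↥X := by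
      refine ⟨⟨fun a b => Subtype.ext ?_⟩⟩
      have h5 : ⁅(a : P), (b : P)⁆ ∈ ⁅X, X⁆ := Subgroup.commutator_mem_commutator a.2 b.2
      rw [h2', inf_comm, ← h2] at h5
      have h6 : ⁅Q, Q⁆ = ⊥ := by
        rw [eq_bot_iff, Subgroup.commutator_le]
        intro u hu v hv
        rw [Subgroup.mem_bot, commutatorElement_eq_one_iff_mul_comm]
        exact congrArg Subtype.val (hab.1.comm (⟨u, hu⟩ : ↥Q) ⟨v, hv⟩)
      rw [h6, Subgroup.mem_bot, commutatorElement_eq_one_iff_mul_comm] at h5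
      exact h5
    refine ⟨hXab, fun B hB => ?_⟩
    have hXsq : Nat.card X * Nat.card X = Cfsg.maxCentralProduct P := by
      have := hX.1
      rwa [Cfsg.IsCentrallyLarge, habc X hXab] at this
    refine Nat.mul_self_le_mul_self_iff.1 (hXsq.symm ▸ ?_)
    rw [CfsgLib.LocalEven.maxCentralProduct_eq]
    refine le_trans ?_ (CfsgLib.LocalEven.cdMeasure_le B)
    exact Nat.mul_le_mul_left _ (Subgroup.card_le_of_le fun b hb => Subgroup.mem_centralizer_iff.2 fun c hc =>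
      congrArg Subtype.val (hB.1.comm (⟨c, hc⟩ : ↥B) ⟨b, hb⟩))
  · rintro ⟨hXab, hXmax⟩
    have hbound : ∀ B : Subgroup P, IsMulCommutative ↥B → Nat.card B * Nat.card B ≤ Cfsg.maxCentralProduct P := by
      intro B hB
      rw [CfsgLib.LocalEven.maxCentralProduct_eq]
      refine le_trans ?_ (CfsgLib.LocalEven.cdMeasure_le B)
      exact Nat.mul_le_mul_left _ (Subgroup.card_le_of_le fun b hb => Subgroup.mem_centralizer_iff.2 fun c hc =>
        congrArg Subtype.val (hB.1.comm (⟨c, hc⟩ : ↥B) ⟨b, hb⟩))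
    have hXQ : Nat.card X = Nat.card Q :=
      le_antisymm (Nat.mul_self_le_mul_self_iff.1 (hQsq.symm ▸ hbound X hXab)) (hXmax Q hab)
    refine ⟨?_, fun X' hX' hX'l => Subgroup.eq_of_le_of_card_ge hX' ?_⟩
    · rw [Cfsg.IsCentrallyLarge, habc X hXab, hXQ, hQsq]
    · have hX'ab : IsMulCommutative ↥X' := ⟨⟨fun a b => Subtype.ext
        (congrArg Subtype.val (hXab.1.comm (⟨a, hX' a.2⟩ : ↥X) ⟨b, hX' b.2⟩) :)⟩⟩
      rw [Cfsg.IsCentrallyLarge, habc X' hX'ab, ← hQsq, ← hXQ] at hX'l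
      exact (Nat.mul_self_inj.1 hX'l).ge

end Cfsg.Agent.S3007
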