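import Cfsg.Statements.S2961
import Cfsg.Agent.Lib.LocalEven.CharP

set_option autoImplicit false
open Cfsg

namespace Cfsg.Agent.S2961

/-- Let G be a finite group of characteristic p (C_G(O_p(G)) ≤ O_p(G)), p prime, T a Sylow p-subgroup of G and Q a normal subgroup of T with C_T(Q) ≤ Q. Then every subgroup L of G containing Q has characteristic p: C_L(O_p(L)) ≤ O_p(L). -/
theorem result {G : Type*} [Group G] [Finite G] {p : ℕ} [Fact p.Prime] (hG : Subgroup.centralizer (Cfsg.pCore p G : Set G) ≤ Cfsg.pCore p G) (T : Sylow p G) (Q : Subgroup G) (hQT : Q ≤ (T : Subgroup G)) (hQn : (T : Subgroup G) ≤ Subgroup.normalizer (Q : Set G)) (hC : (T : Subgroup G) ⊓ Subgroup.centralizer (Q : Set G) ≤ Q) (L : Subgroup G) (hQL : Q ≤ L) : Subgroup.centralizer (Cfsg.pCore p ↥L : Set ↥L) ≤ Cfsg.pCore p ↥L := by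
  have hT := CfsgLib.Cores.pCore_le_sylow T (p := p)
  have hQp : IsPGroup p ↥Q := T.2.to_le hQT
  have hCQ : Subgroup.centralizer (Q : Set G) ≤ Q := by
    have hn : Subgroup.normalizer (Cfsg.pCore p G : Set G) = ⊤ := Subgroup.normalizer_eq_top _
    have hCp : IsPGroup p ↥(Subgroup.centralizer (Q : Set G)) := by
      refine CfsgLib.LocalEven.isPGroup_of_forall_coprime fun x hx hxo => ?_
      refine CfsgLib.LocalEven.HasCharP.eq_one hG hxo ?_
      refine CfsgLib.LocalEven.commute_of_commute_fixed hQp (CfsgLib.Cores.isPGroup_pCore p)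
        (by rw [hn]; exact le_top) hxo (by rw [hn]; trivial)
        (fun r hr => (Subgroup.mem_centralizer_iff.1 hx r hr).symm) fun v hv hvQ => ?_
      exact (Subgroup.mem_centralizer_iff.1 hx v (hC ⟨hT hv, Subgroup.mem_centralizer_iff.2 hvQ⟩)).symm
    have hTC : (T : Subgroup G) ≤ Subgroup.normalizer (Subgroup.centralizer (Q : Set G) : Set G) := by
      intro t ht
      refine CfsgLib.LocalEven.mem_normalizer_of_conj_le ?_
      rintro _ ⟨c, hc, rfl⟩
      refine Subgroup.mem_centralizer_iff.2 fun q hq => ?_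
      have h1 : t⁻¹ * q * t⁻¹⁻¹ ∈ Q :=
        CfsgLib.LocalEven.conj_mem_of_mem_normalizer (hQn ((T : Subgroup G).inv_mem ht)) hq
      have h2 := Subgroup.mem_centralizer_iff.1 hc _ h1
      calc q * (t * c * t⁻¹) = t * ((t⁻¹ * q * t⁻¹⁻¹) * c) * t⁻¹ := by group
        _ = t * c * t⁻¹ * q := by rw [h2]; group
    have hle : Subgroup.centralizer (Q : Set G) ≤ (T : Subgroup G) :=
      le_sup_right.trans (T.3 (IsPGroup.to_sup_of_normal_right' T.2 hCp hTC) le_sup_left).le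
    exact fun x hx => hC ⟨hle hx, hx⟩
  set P := Cfsg.pCore p G with hPdef
  have hPn : P.Normal := by
    have := CfsgLib.Cores.pCore_characteristic (G := G) p
    infer_instance
  have hLn : (Cfsg.pCore p ↥L).Normal := by
    have := CfsgLib.Cores.pCore_characteristic (G := ↥L) p
    infer_instance
  -- elements of `L` centralising `O_p(L)` and acting trivially on `P / (P ∩ L)`
  let D : Subgroup ↥L :=
    { carrier := {y | (∀ v ∈ Cfsg.pCore p ↥L, y * v = v * y) ∧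
        ∀ v ∈ P, v⁻¹ * ((y : G) * v * (y : G)⁻¹) ∈ L}
      one_mem' := ⟨by simp, by simp⟩
      mul_mem' := by
        rintro a b ⟨ha, ha'⟩ ⟨hb, hb'⟩
        refine ⟨fun v hv => by rw [mul_assoc, hb v hv, ← mul_assoc, ha v hv, mul_assoc], fun v hv => ?_⟩
        have hw : (b : G) * v * (b : G)⁻¹ ∈ P := hPn.conj_mem v hv _
        have h := L.mul_mem (hb' v hv) (ha' _ hw)
        simpa [mul_assoc] using h
      inv_mem' := by
        rintro a ⟨ha, ha'⟩
        refine ⟨fun v hv => (Commute.inv_left (ha v hv)).eq, fun v hv => ?_⟩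
        have hw : (a : G)⁻¹ * v * (a : G)⁻¹⁻¹ ∈ P := hPn.conj_mem v hv _
        have h := L.inv_mem (ha' _ hw)
        simpa [mul_assoc] using h }
  have hDn : D.Normal := by
    refine ⟨fun y ⟨hy, hy'⟩ l => ⟨fun v hv => ?_, fun v hv => ?_⟩⟩
    · have h1 := hy _ (hLn.conj_mem v hv l⁻¹)
      calc l * y * l⁻¹ * v = l * (y * (l⁻¹ * v * l⁻¹⁻¹)) * l⁻¹ := by group
        _ = v * (l * y * l⁻¹) := by rw [h1]; group
    · have h1 := hy' _ (hPn.conj_mem v hv (l : G)⁻¹)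
      have h2 := L.mul_mem (L.mul_mem l.2 h1) (L.inv_mem l.2)
      simpa [mul_assoc] using h2
  have hDp : IsPGroup p ↥D := by
    refine CfsgLib.LocalEven.isPGroup_of_forall_coprime fun y hy hyo => Subtype.ext ?_
    refine CfsgLib.LocalEven.HasCharP.eq_one hG (by rwa [Subgroup.orderOf_coe]) fun v hv => ?_
    have hd : v⁻¹ * ((y : G) * v * (y : G)⁻¹) ∈ P := P.mul_mem (P.inv_mem hv) (hPn.conj_mem v hv _)
    exact CfsgLib.LocalEven.commute_of_conj_eq_mul (CfsgLib.Cores.isPGroup_pCore p) hd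
      (by rwa [Subgroup.orderOf_coe]) (by group)
      (congrArg Subtype.val (hy.1 _ (CfsgLib.LocalEven.mem_pCore_of_mem_pCore_inf hd (hy.2 v hv)) :))
  have hDle : D ≤ Cfsg.pCore p ↥L := CfsgLib.Cores.le_pCore hDp
  refine CfsgLib.LocalEven.hasCharP_of_pPrime fun x hxo hxc => Subtype.ext ?_
  refine CfsgLib.LocalEven.eq_one_of_pow_eq_one_of_pGroup hQp (hCQ (Subgroup.mem_centralizer_iff.2 fun q hq => ?_))
    (by rwa [Subgroup.orderOf_coe]) (pow_orderOf_eq_one (x : G))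
  set q' : ↥L := ⟨q, hQL hq⟩ with hq'
  set y := q' * x * q'⁻¹ * x⁻¹ with hy
  have hyD : y ∈ D := by
    refine ⟨fun v hv => ?_, fun v hv => ?_⟩
    · have h1 := hxc _ (hLn.conj_mem v hv q'⁻¹)
      have h2 : x⁻¹ * v = v * x⁻¹ := (Commute.inv_left (hxc v hv)).eq
      calc q' * x * q'⁻¹ * x⁻¹ * v = q' * (x * (q'⁻¹ * v * q'⁻¹⁻¹)) * q'⁻¹ * x⁻¹ := by
            rw [mul_assoc _ x⁻¹ v, h2]; group
        _ = v * (q' * x * q'⁻¹ * x⁻¹) := by rw [h1]; group
    · have hQP : ∀ r ∈ Q, ∀ u ∈ P, u⁻¹ * (r * u * r⁻¹) ∈ L := fun r hr u hu => by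
        refine hQL ?_
        have h1 := CfsgLib.LocalEven.conj_mem_of_mem_normalizer (hQn ((T : Subgroup G).inv_mem (hT hu))) hr
        simpa [mul_assoc] using Q.mul_mem h1 (Q.inv_mem hr)
      set w := (x : G)⁻¹ * v * (x : G)⁻¹⁻¹ with hw
      have hwP : w ∈ P := hPn.conj_mem v hv _
      have hw1 : q⁻¹ * w * q⁻¹⁻¹ ∈ P := hPn.conj_mem w hwP _
      have hw2 : (x : G) * (q⁻¹ * w * q⁻¹⁻¹) * (x : G)⁻¹ ∈ P := hPn.conj_mem _ hw1 _
      have h1 := hQP q hq _ hw2
      have h2 : v⁻¹ * ((x : G) * (q⁻¹ * w * q⁻¹⁻¹) * (x : G)⁻¹) ∈ L := by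
        have h3 := L.mul_mem (L.mul_mem x.2 (hQP q⁻¹ (Q.inv_mem hq) w hwP)) (L.inv_mem x.2)
        have e : v⁻¹ * ((x : G) * (q⁻¹ * w * q⁻¹⁻¹) * (x : G)⁻¹) =
            (x : G) * (w⁻¹ * (q⁻¹ * w * q⁻¹⁻¹)) * (x : G)⁻¹ := by rw [hw]; group
        rw [e]; exact h3
      have h4 := L.mul_mem h2 h1
      simpa [hy, hq', hw, mul_assoc] using h4
  have hyx : x * y = y * x := hxc y (hDle hyD)
  have hyn : y ^ orderOf x = 1 := by
    have h1 : (q' * x * q'⁻¹) ^ orderOf x = 1 := by rw [conj_pow, pow_orderOf_eq_one]; group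
    have h2 : q' * x * q'⁻¹ = y * x := by rw [hy]; group
    rw [h2, (show Commute y x from hyx.symm).mul_pow, pow_orderOf_eq_one, mul_one] at h1
    exact h1
  have hy1 : y = 1 := CfsgLib.LocalEven.eq_one_of_pow_eq_one_of_pGroup hDp hyD hxo hyn
  have h5 := congrArg Subtype.val (mul_inv_eq_iff_eq_mul.1 (mul_inv_eq_one.1 hy1) : q' * x = x * q')
  exact h5

end Cfsg.Agent.S2961
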