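import Cfsg.Statements.S2947
import Cfsg.Agent.Lib.LocalEven.SylowChains
import Cfsg.Agent.Lib.Transfer.Thompson
import Cfsg.Agent.Lib.PGroup.Basic

set_option autoImplicit false
open Cfsg

namespace Cfsg.Agent.S2947

/-- Let G be a finite group of characteristic 2 type in which every 2-local subgroup is solvable and the centralizer of Ω₁(Z(S)) lies in N_G(S) for every Sylow 2-subgroup S; suppose O₂(G) = 1, fix a Sylow 2-subgroup S and a 2-local subgroup M containing N_G(J(S)) (J the Thompson subgroup generated by the elementary abelian 2-subgroups of largest order). Then M is strongly embedded in G (a proper subgroup of even order whose intersection with each conjugate by an element outside M has odd order) if and only if no nontrivial 2-subgroup of M lies in a 2-local subgroup of G not contained in M. -/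
theorem result {G : Type*} [Group G] [Finite G] (hL : Cfsg.IsCharacteristicTwoType G) (hN : ∀ N : Subgroup G, Cfsg.IsTwoLocal N → Group.IsSolvable ↥N)
    (hZ : ∀ S : Sylow 2 G, Subgroup.centralizer (Cfsg.omegaCenterOf (S : Subgroup G) : Set G) ≤ Subgroup.normalizer ((S : Subgroup G) : Set G)) (hO : Cfsg.pCore 2 G = ⊥) (S : Sylow 2 G) (M : Subgroup G) (hM : Cfsg.IsTwoLocal M)
    (hMJ : Subgroup.normalizer (Cfsg.thompsonSubgroupOf 2 (S : Subgroup G) : Set G) ≤ M) :
    Cfsg.IsStronglyEmbedded M ↔ Cfsg.straddlingTwoSubgroups M = ∅ := by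
  classical
  have hSM : (S : Subgroup G) ≤ M := by
    refine le_trans (fun s hs => CfsgLib.LocalEven.mem_normalizer_of_conj_le ?_) hMJ
    rintro _ ⟨_, ⟨u, hu, rfl⟩, rfl⟩
    exact ⟨(⟨s, hs⟩ : ↥(S : Subgroup G)) * u * (⟨s, hs⟩ : ↥(S : Subgroup G))⁻¹,
      (CfsgLib.Transfer.thompsonSubgroup_normal_inst' 2).conj_mem u hu _, rfl⟩
  obtain ⟨T₀, hT₀, hT₀1, hMT⟩ := hM
  have hMtop : M ≠ ⊤ := by
    intro e
    haveI : T₀.Normal := Subgroup.normalizer_eq_top_iff.1 (hMT ▸ e)
    exact hT₀1 (le_bot_iff.1 (hO ▸ le_sSup ⟨inferInstance, hT₀⟩))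
  have heven : Even (Nat.card M) := by
    have h0 : T₀ ≤ M := hMT ▸ Subgroup.le_normalizer
    exact even_iff_two_dvd.2 ((hT₀.card_eq_or_dvd.resolve_left
      (mt (Subgroup.eq_bot_of_card_eq T₀) hT₀1)).trans (Subgroup.card_dvd_of_le h0))
  constructor
  · intro hse
    have hH : CfsgLib.LocalEven.IsClassicalSPE 2 M := ⟨hse.1, even_iff_two_dvd.1 hse.2.1, fun g hg h2 =>
      Nat.not_even_iff_odd.2 (hse.2.2 g hg) (even_iff_two_dvd.2 h2)⟩
    refine Set.eq_empty_iff_forall_notMem.2 ?_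
    rintro T ⟨hT, hT1, hTM, L, ⟨Q, hQ, hQ1, rfl⟩, hTL, hLM⟩
    apply hLM
    -- `T` fixes a nontrivial element of `Q`
    have hTQ : IsPGroup 2 ↥(Q ⊔ T) := hQ.to_sup_of_normal_left' hT hTL
    haveI : (Q.subgroupOf (Q ⊔ T)).Normal :=
      (Subgroup.normal_subgroupOf_iff_le_normalizer le_sup_left).2 (sup_le Subgroup.le_normalizer hTL)
    have hQne : Q.subgroupOf (Q ⊔ T) ≠ ⊥ := by
      intro e
      rw [Subgroup.subgroupOf_eq_bot] at e
      exact hQ1 (le_bot_iff.1 fun z hz => e.le_bot ⟨hz, Subgroup.mem_sup_left hz⟩)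
    have h0 := CfsgLib.PGroup.inf_center_ne_bot (p := 2) hTQ (Q.subgroupOf (Q ⊔ T)) hQne
    obtain ⟨y, ⟨hyQ, hyc⟩, hy1⟩ := (Subgroup.bot_or_exists_ne_one _).resolve_left h0
    obtain ⟨t, ht, ht1⟩ := (Subgroup.bot_or_exists_ne_one _).resolve_left hT1
    have htp : ∃ k : ℕ, orderOf t = 2 ^ k := by
      obtain ⟨k, hk⟩ := hT ⟨t, ht⟩
      obtain ⟨j, -, hj⟩ := (Nat.dvd_prime_pow Nat.prime_two).1
        (orderOf_dvd_of_pow_eq_one (congrArg Subtype.val hk : t ^ 2 ^ k = 1))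
      exact ⟨j, hj⟩
    have hyM : (y : G) ∈ M := hH.centralizer_le htp ht1 (hTM ht) (Subgroup.mem_centralizer_singleton_iff.2
      ((congrArg Subtype.val (Subgroup.mem_center_iff.1 hyc ⟨t, Subgroup.mem_sup_right ht⟩)).symm))
    have hQM1 : Q ⊓ M ≠ ⊥ := fun e => hy1 (Subtype.ext (Subgroup.mem_bot.1 (e ▸ ⟨hyQ, hyM⟩)))
    have hQM : Q ⊓ M = Q := CfsgLib.LocalEven.eq_of_inf_normalizer_le hQ inf_le_left fun z hz =>
      ⟨hz.1, hH.normalizer_le (hQ.to_le inf_le_left) hQM1 inf_le_right hz.2⟩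
    exact hH.normalizer_le hQ hQ1 (hQM ▸ inf_le_right)
  · intro he
    have hloc : ∀ Q : Subgroup G, IsPGroup 2 ↥Q → Q ≠ ⊥ → Q ≤ M →
        Subgroup.normalizer (Q : Set G) ≤ M := by
      intro Q hQ hQ1 hQM
      by_contra hc
      exact (Set.eq_empty_iff_forall_notMem.1 he Q)
        ⟨hQ, hQ1, hQM, _, ⟨Q, hQ, hQ1, rfl⟩, Subgroup.le_normalizer, hc⟩
    refine ⟨hMtop, heven, fun g hg => Nat.not_even_iff_odd.1 fun hev => hg ?_⟩
    obtain ⟨t, ht⟩ := exists_prime_orderOf_dvd_card' 2 (even_iff_two_dvd.1 hev)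
    have ht' : orderOf (t : G) = 2 := by rw [Subgroup.orderOf_coe, ht]
    have htp : IsPGroup 2 ↥(Subgroup.zpowers (t : G)) :=
      CfsgLib.LocalEven.isPGroup_zpowers ⟨1, by rw [ht', pow_one]⟩
    obtain ⟨c, hc, R, hR, hRM, hSR, htR⟩ := CfsgLib.LocalEven.exists_conj_common_pGroup (p := 2) hSM
      (Subgroup.zpowers_le.2 t.2.1) S.2 htp
    obtain rfl := S.is_maximal' hR hSR
    rw [CfsgLib.LocalEven.conj_zpowers, Subgroup.zpowers_le] at htR
    have htg : g⁻¹ * (t : G) * g ∈ M := CfsgLib.LocalEven.mem_map_conj.1 t.2.2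
    obtain ⟨d, hd, R', hR', hRM', hSR', htR'⟩ := CfsgLib.LocalEven.exists_conj_common_pGroup (p := 2) hSM
      (Subgroup.zpowers_le.2 htg) S.2 (by
        rw [show g⁻¹ * (t : G) * g = g⁻¹ * (t : G) * (g⁻¹)⁻¹ by rw [inv_inv],
          ← CfsgLib.LocalEven.conj_zpowers]
        exact htp.map _)
    obtain rfl := S.is_maximal' hR' hSR'
    rw [CfsgLib.LocalEven.conj_zpowers, Subgroup.zpowers_le] at htR'
    set k := d * g⁻¹ * c⁻¹ with hk
    set V := k⁻¹ • S with hV
    have hcV : c * (t : G) * c⁻¹ ∈ (V : Subgroup G) := by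
      refine ⟨_, htR', ?_⟩
      simp only [MulDistribMulAction.toMonoidEnd_apply, MulDistribMulAction.toMonoidHom_apply,
        MulAut.smul_def, MulAut.conj_apply, hk]
      group
    have hVM : (V : Subgroup G) ≤ M := by
      have hne : (V : Subgroup G) ⊓ M ≠ ⊥ := fun e => by
        have : c * (t : G) * c⁻¹ = 1 := Subgroup.mem_bot.1 (e ▸ ⟨hcV, hSM htR⟩)
        rw [conj_eq_one_iff] at this
        rw [this, orderOf_one] at ht'
        omega
      have : (V : Subgroup G) ⊓ M = (V : Subgroup G) :=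
        CfsgLib.LocalEven.eq_of_inf_normalizer_le V.2 inf_le_left fun z hz =>
          ⟨hz.1, hloc _ (V.2.to_le inf_le_left) hne inf_le_right hz.2⟩
      exact this ▸ inf_le_right
    obtain ⟨m, hm⟩ := MulAction.exists_smul_eq ↥M (S.subtype hSM) (V.subtype hVM)
    rw [Sylow.smul_subtype] at hm
    have hmS : m • S = V := Sylow.subtype_injective hm
    have hn : (m : G)⁻¹ * k⁻¹ ∈ M := by
      refine hloc _ S.2 (fun e => ?_) hSM
        (Sylow.smul_eq_iff_mem_normalizer.1 (by rw [mul_smul, ← hV, ← hmS, Subgroup.smul_def, inv_smul_smul]))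
      have : c * (t : G) * c⁻¹ = 1 := Subgroup.mem_bot.1 (e ▸ htR)
      rw [conj_eq_one_iff] at this
      rw [this, orderOf_one] at ht'
      omega
    have hkM : k⁻¹ ∈ M := by simpa using M.mul_mem m.2 hn
    have := M.mul_mem (M.mul_mem (M.inv_mem hc) hkM) hd
    simpa [hk, mul_assoc] using this

end Cfsg.Agent.S2947
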