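import Cfsg.Statements.S3761
import Cfsg.Agent.Lib.Solvable.UniqueSubgroup
import Cfsg.Agent.Lib.PGroup.ElemAbelian
import Mathlib

set_option autoImplicit false
open Cfsg

namespace Cfsg.Agent.S3761

open Subgroup CfsgLib.Solvable

universe u

variable {G : Type u} [Group G]

theorem coset_dichotomy {a x : G} (hidx : ∀ g : G, g ∉ zpowers a → x⁻¹ * g ∈ zpowers a) (g : G) :
    (∃ i : ℤ, g = a ^ i) ∨ ∃ i : ℤ, g = x * a ^ i := by
  by_cases hg : g ∈ zpowers a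
  · obtain ⟨i, hi⟩ := hg; exact Or.inl ⟨i, hi.symm⟩
  · obtain ⟨i, hi⟩ := hidx g hg
    exact Or.inr ⟨i, by rw [show a ^ i = x⁻¹ * g from hi, mul_inv_cancel_left]⟩

theorem dihedral_of {N : ℕ} [NeZero N] {a x : G} (ha : orderOf a = N) (hx : x ∉ zpowers a)
    (hinv : x * a * x⁻¹ = a⁻¹) (hsq : x * x = 1) (hidx : ∀ g : G, g ∉ zpowers a → x⁻¹ * g ∈ zpowers a) :
    Nonempty (G ≃* DihedralGroup N) := by
  let f : ZMod N → G := fun i => a ^ i.val
  have fadd : ∀ i j : ZMod N, f (i + j) = f i * f j := fun i j => by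
    show a ^ (i + j).val = a ^ i.val * a ^ j.val
    rw [← pow_add, ZMod.val_add]
    exact pow_eq_pow_iff_modEq.2 (by rw [ha]; exact Nat.mod_modEq _ _)
  have fint : ∀ m : ℤ, f (m : ZMod N) = a ^ m := fun m => by
    show a ^ ((m : ZMod N)).val = _
    rw [← zpow_natCast, zpow_eq_zpow_iff_modEq, ha, ZMod.val_intCast]
    exact Int.mod_modEq _ _
  have fsub : ∀ i j : ZMod N, f (j - i) = (f i)⁻¹ * f j := fun i j => by
    rw [eq_inv_mul_iff_mul_eq, ← fadd]; congr 1; ring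
  have fx : ∀ i : ZMod N, f i * x = x * (f i)⁻¹ := fun i => by
    have h : x * a ^ (-(i.val : ℤ)) * x⁻¹ = a ^ ((-1 : ℤ) * -(i.val : ℤ)) :=
      conj_zpow_exp (by rw [zpow_neg_one]; exact hinv) _
    rw [zpow_neg, zpow_natCast, neg_one_mul, neg_neg, zpow_natCast, mul_inv_eq_iff_eq_mul] at h
    exact h.symm
  let φ : DihedralGroup N →* G :=
    MonoidHom.mk' (fun q => match q with
      | DihedralGroup.r i => f i
      | DihedralGroup.sr i => x * f i) (by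
      rintro (i | i) (j | j)
      · exact fadd i j
      · show x * f (j - i) = f i * (x * f j)
        rw [fsub, ← mul_assoc x, ← fx, mul_assoc]
      · show x * f (i + j) = x * f i * f j
        rw [fadd, mul_assoc]
      · show f (j - i) = x * f i * (x * f j)
        rw [fsub]
        calc (f i)⁻¹ * f j = x * x * ((f i)⁻¹ * f j) := by rw [hsq, one_mul]
          _ = x * (x * (f i)⁻¹) * f j := by group
          _ = x * (f i * x) * f j := by rw [fx]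
          _ = x * f i * (x * f j) := by group)
  refine ⟨(MulEquiv.ofBijective φ ⟨?_, ?_⟩).symm⟩
  · rw [injective_iff_map_eq_one]
    rintro (i | i) hi
    · show DihedralGroup.r i = 1
      have h1 : a ^ i.val = 1 := hi
      rw [← orderOf_dvd_iff_pow_eq_one, ha] at h1
      rw [(ZMod.val_eq_zero i).1 (Nat.eq_zero_of_dvd_of_lt h1 i.val_lt), DihedralGroup.r_zero]
    · refine absurd ?_ hx
      have h1 : x * f i = 1 := hi
      rw [eq_inv_of_mul_eq_one_left h1]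
      exact inv_mem (pow_mem (mem_zpowers a) _)
  · intro g
    rcases coset_dichotomy hidx g with ⟨m, rfl⟩ | ⟨m, rfl⟩
    · exact ⟨DihedralGroup.r m, fint m⟩
    · exact ⟨DihedralGroup.sr m, by show x * f _ = _; rw [fint]⟩

theorem quaternion_of {N : ℕ} [NeZero N] {a x : G} (ha : orderOf a = 2 * N) (hx : x ∉ zpowers a)
    (hinv : x * a * x⁻¹ = a⁻¹) (hsq : x * x = a ^ N) (hidx : ∀ g : G, g ∉ zpowers a → x⁻¹ * g ∈ zpowers a) :
    Nonempty (G ≃* QuaternionGroup N) := by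
  let f : ZMod (2 * N) → G := fun i => a ^ i.val
  have fadd : ∀ i j : ZMod (2 * N), f (i + j) = f i * f j := fun i j => by
    show a ^ (i + j).val = a ^ i.val * a ^ j.val
    rw [← pow_add, ZMod.val_add]
    exact pow_eq_pow_iff_modEq.2 (by rw [ha]; exact Nat.mod_modEq _ _)
  have fint : ∀ m : ℤ, f (m : ZMod (2 * N)) = a ^ m := fun m => by
    show a ^ ((m : ZMod (2 * N))).val = _
    rw [← zpow_natCast, zpow_eq_zpow_iff_modEq, ha, ZMod.val_intCast]
    exact Int.mod_modEq _ _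
  have fsub : ∀ i j : ZMod (2 * N), f (j - i) = (f i)⁻¹ * f j := fun i j => by
    rw [eq_inv_mul_iff_mul_eq, ← fadd]; congr 1; ring
  have fx : ∀ i : ZMod (2 * N), f i * x = x * (f i)⁻¹ := fun i => by
    have h : x * a ^ (-(i.val : ℤ)) * x⁻¹ = a ^ ((-1 : ℤ) * -(i.val : ℤ)) :=
      conj_zpow_exp (by rw [zpow_neg_one]; exact hinv) _
    rw [zpow_neg, zpow_natCast, neg_one_mul, neg_neg, zpow_natCast, mul_inv_eq_iff_eq_mul] at h
    exact h.symm
  let φ : QuaternionGroup N →* G :=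
    MonoidHom.mk' (fun q => match q with
      | QuaternionGroup.a i => f i
      | QuaternionGroup.xa i => x * f i) (by
      rintro (i | i) (j | j)
      · exact fadd i j
      · show x * f (j - i) = f i * (x * f j)
        rw [fsub, ← mul_assoc x, ← fx, mul_assoc]
      · show x * f (i + j) = x * f i * f j
        rw [fadd, mul_assoc]
      · show f ((N : ℕ) + j - i) = x * f i * (x * f j)
        have hN : f ((N : ℕ) : ZMod (2 * N)) = x * x := by
          rw [show ((N : ℕ) : ZMod (2 * N)) = ((N : ℤ) : ZMod (2 * N)) by push_cast; rfl, fint, zpow_natCast, hsq]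
        rw [add_sub_assoc, fadd, hN, fsub]
        calc x * x * ((f i)⁻¹ * f j) = x * (x * (f i)⁻¹) * f j := by group
          _ = x * (f i * x) * f j := by rw [fx]
          _ = x * f i * (x * f j) := by group)
  refine ⟨(MulEquiv.ofBijective φ ⟨?_, ?_⟩).symm⟩
  · rw [injective_iff_map_eq_one]
    rintro (i | i) hi
    · show QuaternionGroup.a i = 1
      have h1 : a ^ i.val = 1 := hi
      rw [← orderOf_dvd_iff_pow_eq_one, ha] at h1
      rw [(ZMod.val_eq_zero i).1 (Nat.eq_zero_of_dvd_of_lt h1 i.val_lt), QuaternionGroup.a_zero]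
    · refine absurd ?_ hx
      have h1 : x * f i = 1 := hi
      rw [eq_inv_of_mul_eq_one_left h1]
      exact inv_mem (pow_mem (mem_zpowers a) _)
  · intro g
    rcases coset_dichotomy hidx g with ⟨m, rfl⟩ | ⟨m, rfl⟩
    · exact ⟨QuaternionGroup.a m, fint m⟩
    · exact ⟨QuaternionGroup.xa m, by show x * f _ = _; rw [fint]⟩

/-- Everything known about the action on a self-centralising cyclic normal subgroup. -/
structure Data (G : Type u) [Group G] (p n : ℕ) where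
  a : G
  hord : orderOf a = p ^ n
  hnorm : ∀ g : G, g * a * g⁻¹ ∈ zpowers a
  hcent : ∀ g : G, g * a * g⁻¹ = a → g ∈ zpowers a
  hne : ∃ g : G, g ∉ zpowers a

namespace Data

variable {p n : ℕ} (D : Data G p n)

theorem hexp (g : G) : ∃ r : ℤ, g * D.a * g⁻¹ = D.a ^ r := ⟨_, (D.hnorm g).choose_spec.symm⟩

theorem heq (i j : ℤ) : D.a ^ i = D.a ^ j ↔ (p : ℤ) ^ n ∣ i - j := by
  rw [← mul_inv_eq_one, ← zpow_sub, ← orderOf_dvd_iff_zpow_eq_one, D.hord]
  push_cast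
  rfl

/-- Membership in the centraliser of the powers. -/
def InM (g : G) : Prop := g * D.a ^ (p : ℤ) * g⁻¹ = D.a ^ (p : ℤ)

theorem inM_iff {g : G} {r : ℤ} (hr : g * D.a * g⁻¹ = D.a ^ r) (hn : 1 ≤ n) (hp : p.Prime) :
    D.InM g ↔ (p : ℤ) ^ (n - 1) ∣ r - 1 := by
  obtain ⟨m, rfl⟩ : ∃ m, n = m + 1 := ⟨n - 1, by omega⟩
  unfold InM
  rw [conj_zpow_exp hr, D.heq, show r * (p : ℤ) - p = (r - 1) * p by ring, pow_succ, Nat.add_sub_cancel]
  exact Int.mul_dvd_mul_iff_right (by exact_mod_cast hp.ne_zero)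

theorem mem_of_dvd {g : G} {r : ℤ} (hr : g * D.a * g⁻¹ = D.a ^ r) (h : (p : ℤ) ^ n ∣ r - 1) : g ∈ zpowers D.a := by
  refine D.hcent g ?_
  rw [hr]
  conv_rhs => rw [← zpow_one D.a]
  exact (D.heq r 1).2 h

theorem not_dvd {g : G} {r : ℤ} (hr : g * D.a * g⁻¹ = D.a ^ r) (hg : g ∉ zpowers D.a) : ¬ (p : ℤ) ^ n ∣ r - 1 :=
  fun h => hg (D.mem_of_dvd hr h)

theorem pow_exp {x : G} {r : ℤ} (hr : x * D.a * x⁻¹ = D.a ^ r) :
    ∀ l : ℕ, x ^ l * D.a * (x ^ l)⁻¹ = D.a ^ (r ^ l) := by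
  intro l
  induction l with
  | zero => simp
  | succ l ih =>
    calc x ^ (l + 1) * D.a * (x ^ (l + 1))⁻¹ = x * (x ^ l * D.a * (x ^ l)⁻¹) * x⁻¹ := by
          rw [pow_succ']; group
      _ = D.a ^ (r ^ (l + 1)) := by rw [ih, conj_zpow_exp hr, pow_succ']

theorem pow_dvd_of_mem {x : G} {r : ℤ} (hr : x * D.a * x⁻¹ = D.a ^ r) {l : ℕ} (hx : x ^ l ∈ zpowers D.a) :
    (p : ℤ) ^ n ∣ r ^ l - 1 := by
  refine (D.heq _ _).1 ?_
  rw [zpow_one, ← D.pow_exp hr l]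
  obtain ⟨k, hk⟩ := hx
  rw [← show D.a ^ k = x ^ l from hk]
  group

theorem mul_exp {x y : G} {r s : ℤ} (hr : x * D.a * x⁻¹ = D.a ^ r) (hs : y * D.a * y⁻¹ = D.a ^ s) :
    x * y * D.a * (x * y)⁻¹ = D.a ^ (r * s) := by
  rw [show x * y * D.a * (x * y)⁻¹ = x * (y * D.a * y⁻¹) * x⁻¹ by group, hs, conj_zpow_exp hr]

end Data

theorem first_case [Finite G] {n : ℕ} [Fact (Nat.Prime 2)] (hG : IsPGroup 2 G) (D : Data G 2 n) (hn : 2 ≤ n)
    (hM : n = 2 ∨ ∀ g : G, D.InM g → g ∈ zpowers D.a) :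
    Nat.card G = 2 ^ (n + 1) ∧
      ((∃ m : ℕ, Nonempty (G ≃* DihedralGroup m)) ∨ (∃ m : ℕ, Nonempty (G ≃* QuaternionGroup m)) ∨
        Cfsg.IsQuasiDihedral G) := by
  classical
  have hodd : ∀ {g : G} {r : ℤ}, g * D.a * g⁻¹ = D.a ^ r → g ^ 2 ∈ zpowers D.a → g ∉ zpowers D.a →
      (2 : ℤ) ^ (n - 1) ∣ r + 1 := by
    intro g r hr hg2 hg
    have h := D.pow_dvd_of_mem hr hg2
    rw [pow_two] at h
    rcases hM with rfl | hM
    · norm_num at h ⊢
      obtain ⟨c, hc⟩ := h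
      rcases Int.even_or_odd r with ⟨t, ht⟩ | ⟨t, ht⟩
      · subst ht
        have : 4 * (t * t - c) = 1 := by linarith
        omega
      · exact ⟨t + 1, by rw [ht]; ring⟩
    · rcases Nat.lt_or_ge n 3 with hn3 | hn3
      · obtain rfl : n = 2 := by omega
        norm_num at h ⊢
        obtain ⟨c, hc⟩ := h
        rcases Int.even_or_odd r with ⟨t, ht⟩ | ⟨t, ht⟩
        · subst ht
          have : 4 * (t * t - c) = 1 := by linarith
          omega
        · exact ⟨t + 1, by rw [ht]; ring⟩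
      · rcases two_cases hn3 (by exact_mod_cast h) with h1 | h1
        · exact absurd (hM g ((D.inM_iff hr (by omega) Nat.prime_two).2 (by exact_mod_cast h1))) hg
        · exact h1
  have hstrong : ∀ g : G, g ∉ zpowers D.a → g ^ 2 ∈ zpowers D.a := by
    intro g hg
    by_contra hg2
    obtain ⟨j, hj, hj'⟩ := exists_notMem_pow_mem hG hg2
    set h := (g ^ 2) ^ 2 ^ j with hh
    obtain ⟨s, hs⟩ := D.hexp (g ^ 2 ^ j)
    have hsq : h = g ^ 2 ^ j * g ^ 2 ^ j := by rw [hh, ← pow_mul, ← pow_add]; congr 1; ring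
    have hr : h * D.a * h⁻¹ = D.a ^ (s * s) := by rw [hsq]; exact D.mul_exp hs hs
    obtain ⟨c, hc⟩ := hodd hr hj' hj
    obtain ⟨m, rfl⟩ : ∃ m, n = m + 2 := ⟨n - 2, by omega⟩
    rcases Nat.eq_zero_or_pos m with rfl | hm
    · -- order four: squares act trivially
      rcases Int.even_or_odd s with ⟨t, ht⟩ | ⟨t, ht⟩
      · subst ht; norm_num at hc; have : 2 * (2 * t * t - c) = -1 := by linarith
        omega
      · refine hj (D.mem_of_dvd hr ⟨t * t + t, ?_⟩)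
        rw [ht]; push_cast; ring
    · obtain ⟨m, rfl⟩ : ∃ k, m = k + 1 := ⟨m - 1, by omega⟩
      simp only [show m + 1 + 2 - 1 = m + 2 by omega, pow_succ] at hc
      rcases Int.even_or_odd s with ⟨t, ht⟩ | ⟨t, ht⟩
      · subst ht
        have : 2 * (2 * t * t - 2 ^ m * 2 * c) = -1 := by linarith
        omega
      · subst ht
        have : 4 * (t * t + t - 2 ^ m * c) = -2 := by linarith
        omega
  obtain ⟨x, hx⟩ := D.hne
  obtain ⟨r, hr⟩ := D.hexp x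
  have hidx : ∀ g : G, g ∉ zpowers D.a → x⁻¹ * g ∈ zpowers D.a := by
    intro g hg
    by_contra hne
    obtain ⟨s, hs⟩ := D.hexp g
    obtain ⟨t, ht⟩ := D.hexp (x⁻¹ * g)
    have e : D.a ^ s = D.a ^ (r * t) := by rw [← hs, ← D.mul_exp hr ht, mul_inv_cancel_left]
    have h0 := (D.heq s (r * t)).1 e
    obtain ⟨c1, hc1⟩ := hodd hr (hstrong x hx) hx
    obtain ⟨c2, hc2⟩ := hodd hs (hstrong g hg) hg
    obtain ⟨c3, hc3⟩ := hodd ht (hstrong _ hne) hne
    rcases hM with rfl | hM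
    · -- only two automorphisms
      refine hne (D.mem_of_dvd ht ?_)
      norm_num at h0 hc1 hc2 hc3 ⊢
      obtain ⟨c, hc⟩ := h0
      rw [show s = 2 * c2 - 1 by linarith, show r = 2 * c1 - 1 by linarith, show t = 2 * c3 - 1 by linarith] at hc
      have h1 := D.not_dvd hr hx
      have h2 := D.not_dvd hs hg
      norm_num at h1 h2
      rcases Int.even_or_odd c1 with ⟨e1, he1⟩ | ⟨e1, he1⟩
      · rcases Int.even_or_odd c3 with ⟨e3, he3⟩ | ⟨e3, he3⟩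
        · exfalso
          subst he1 he3
          exact h2 ⟨4 * e1 * e3 - e1 - e3 + c, by linarith⟩
        · exact ⟨e3, by rw [show t = 2 * c3 - 1 by linarith, he3]; ring⟩
      · exact absurd ⟨e1, by rw [show r = 2 * c1 - 1 by linarith, he1]; ring⟩ h1
    · obtain ⟨m, rfl⟩ : ∃ m, n = m + 2 := ⟨n - 2, by omega⟩
      simp only [show m + 2 - 1 = m + 1 by omega] at hc1 hc2 hc3
      refine hg (hM g ((D.inM_iff hs (by omega) Nat.prime_two).2 ?_))
      obtain ⟨c, hc⟩ := h0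
      refine ⟨2 * c + (2 ^ (m + 1) * c1 * c3 - c1 - c3), ?_⟩
      simp only [show m + 2 - 1 = m + 1 by omega]
      push_cast at hc ⊢
      rw [show r = 2 ^ (m + 1) * c1 - 1 by linarith, show t = 2 ^ (m + 1) * c3 - 1 by linarith] at hc
      rw [pow_succ _ (m + 1)] at hc
      linear_combination hc
  have hcard : Nat.card G = 2 ^ (n + 1) := by
    have h2 : (zpowers D.a).index = 2 := Subgroup.index_eq_two_iff.2 ⟨x, fun b => ?_⟩
    · rw [← Subgroup.card_mul_index (zpowers D.a), Nat.card_zpowers, D.hord, h2, pow_succ]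
    · have hxn : (zpowers D.a).Normal := ⟨fun y hy g => by
        obtain ⟨i, rfl⟩ := hy
        show g * D.a ^ i * g⁻¹ ∈ _
        rw [← conj_zpow]; exact Subgroup.zpow_mem _ (D.hnorm g) i⟩
      by_cases hb : b ∈ zpowers D.a
      · refine Or.inr ⟨hb, fun h => hx ?_⟩
        exact (Subgroup.mul_mem_cancel_left _ hb).1 h
      · refine Or.inl ⟨?_, hb⟩
        have h1 := hidx b hb
        have h2 := hxn.mem_comm h1
        have h3 : b * x⁻¹ * (x * x) ∈ zpowers D.a := Subgroup.mul_mem _ h2 (pow_two x ▸ hstrong x hx)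
        rwa [show b * x⁻¹ * (x * x) = b * x by group] at h3
  refine ⟨hcard, ?_⟩
  obtain ⟨k, hk⟩ := hstrong x hx
  obtain ⟨c, hc⟩ := hodd hr (hstrong x hx) hx
  obtain ⟨m, rfl⟩ : ∃ m, n = m + 2 := ⟨n - 2, by omega⟩
  simp only [show m + 2 - 1 = m + 1 by omega] at hc
  have hk' : D.a ^ k = x * x := by rw [← pow_two]; exact hk
  have hfix : ((2 : ℕ) : ℤ) ^ (m + 2) ∣ r * k - k := by
    refine (D.heq _ _).1 ?_
    rw [← conj_zpow_exp hr, hk']
    group
  push_cast at hfix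
  obtain ⟨d, hd⟩ := hfix
  have hr' : r = 2 ^ (m + 1) * c - 1 := by linarith
  subst hr'
  rw [pow_succ _ (m + 1)] at hd
  have hk1 : 2 ^ (m + 1) * (c * k - 2 * d) = 2 * k := by linear_combination hd
  have hkm : (2 : ℤ) ^ m ∣ k := ⟨c * k - 2 * d, by rw [pow_succ] at hk1; linarith⟩
  rcases Int.even_or_odd c with ⟨c', hc'⟩ | ⟨c', hc'⟩
  · have hinv : x * D.a * x⁻¹ = D.a⁻¹ := by
      rw [hr, ← zpow_neg_one, D.heq]
      exact ⟨c', by push_cast; rw [hc', pow_succ _ (m + 1)]; ring⟩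
    have hk2 : (2 : ℤ) ^ (m + 1) ∣ k := ⟨c' * k - d, by rw [hc'] at hk1; linarith⟩
    obtain ⟨k', hk2⟩ := hk2
    rcases Int.even_or_odd k' with ⟨e, he⟩ | ⟨e, he⟩
    · left
      haveI : NeZero (2 ^ (m + 2)) := ⟨by positivity⟩
      refine ⟨_, dihedral_of (N := 2 ^ (m + 2)) D.hord hx hinv ?_ hidx⟩
      rw [← hk', ← zpow_zero D.a, D.heq]
      exact ⟨e, by push_cast; rw [hk2, he, pow_succ _ (m + 1)]; ring⟩
    · right; left
      haveI : NeZero (2 ^ (m + 1)) := ⟨by positivity⟩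
      refine ⟨_, quaternion_of (N := 2 ^ (m + 1)) (by rw [D.hord, pow_succ']) hx hinv ?_ hidx⟩
      rw [← hk', ← zpow_natCast, D.heq]
      exact ⟨e, by push_cast; rw [hk2, he, pow_succ _ (m + 1)]; ring⟩
  · right; right
    have hm : 1 ≤ m := by
      by_contra hlt
      obtain rfl : m = 0 := by omega
      refine D.not_dvd hr hx ⟨c', ?_⟩
      rw [hc']; push_cast; ring
    obtain ⟨l, rfl⟩ : ∃ l, m = l + 1 := ⟨m - 1, by omega⟩
    obtain ⟨k', hk'2⟩ := hkm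
    have hk2 : (2 : ℤ) ^ (l + 2) ∣ k := by
      rcases Int.even_or_odd k' with ⟨e, he⟩ | ⟨e, he⟩
      · exact ⟨e, by rw [hk'2, he, pow_succ]; ring⟩
      · exfalso
        rw [hk'2, he, hc', show l + 1 + 1 = l + 2 from rfl] at hk1
        have h2 : (2 : ℤ) ^ (l + 2) * ((2 * c' + 1) * (2 ^ (l + 1) * (2 * e + 1)) - 2 * d - (2 * e + 1)) = 0 := by
          rw [pow_succ _ (l + 1)] at hk1 ⊢
          linear_combination hk1
        have h3 := (mul_eq_zero.1 h2).resolve_left (by positivity)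
        rw [pow_succ] at h3
        have h4 : 2 * ((2 * c' + 1) * (2 ^ l * (2 * e + 1)) - d - e) = 1 := by linarith
        omega
    obtain ⟨k2, hk2⟩ := hk2
    have hsd : x * D.a * x⁻¹ = D.a ^ ((2 : ℤ) ^ (l + 2) - 1) := by
      rw [hr, D.heq]
      refine ⟨c', ?_⟩
      push_cast; rw [hc', pow_succ _ (l + 2)]; ring
    have hy : ∃ y : G, y ∉ zpowers D.a ∧ y * D.a * y⁻¹ = D.a ^ ((2 : ℤ) ^ (l + 2) - 1) ∧ y * y = 1 := by
      rcases Int.even_or_odd k2 with ⟨e, he⟩ | ⟨e, he⟩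
      · refine ⟨x, hx, hsd, ?_⟩
        rw [← hk', ← zpow_zero D.a, D.heq]
        exact ⟨e, by push_cast; rw [hk2, he, pow_succ _ (l + 2)]; ring⟩
      · refine ⟨D.a * x, fun h => hx ((Subgroup.mul_mem_cancel_left _ (mem_zpowers D.a)).1 h), ?_, ?_⟩
        · rw [show D.a * x * D.a * (D.a * x)⁻¹ = D.a * (x * D.a * x⁻¹) * D.a⁻¹ by group, hsd]
          group
        · rw [show D.a * x * (D.a * x) = D.a * (x * D.a * x⁻¹) * (x * x) by group, hsd, ← hk', ← zpow_one_add,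
            ← zpow_add, ← zpow_zero D.a, D.heq]
          exact ⟨e + 1, by push_cast; rw [hk2, he, pow_succ _ (l + 2)]; ring⟩
    obtain ⟨y, hyU, hyc, hyy⟩ := hy
    refine ⟨l + 3, by omega, ?_, D.a, y, ?_, ?_, ?_⟩
    · rw [hcard]
    · rw [D.hord]
    · exact orderOf_eq_prime (by rw [pow_two]; exact hyy) fun h => hyU (h ▸ one_mem _)
    · rw [hyc, ← zpow_natCast]
      congr 1
      rw [show l + 3 - 1 = l + 2 by omega]
      push_cast [Nat.cast_sub (Nat.one_le_two_pow (n := l + 2))]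
      rfl

theorem second_case [Finite G] {p n : ℕ} [hp : Fact p.Prime] (hG : IsPGroup p G) (D : Data G p n)
    (hn : 2 ≤ n) (hpn : p ≠ 2 ∨ 3 ≤ n) {g₀ : G} (hg₀M : D.InM g₀) (hg₀ : g₀ ∉ zpowers D.a)
    (M : Subgroup G) (hM : ∀ g, g ∈ M ↔ D.InM g) :
    (zpowers D.a).relIndex M = p ∧ Cfsg.IsElementaryAbelian p (Cfsg.omegaOne p M) ∧
      Nat.card ↥(Cfsg.omegaOne p M) = p ^ 2 ∧ (Cfsg.omegaOne p M).Characteristic := by
  classical
  have hp' := hp.out
  obtain ⟨m, rfl⟩ : ∃ m, n = m + 2 := ⟨n - 2, by omega⟩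
  set U := zpowers D.a with hU
  haveI hUn : U.Normal := ⟨fun y hy g => by
    obtain ⟨i, rfl⟩ := hy
    show g * D.a ^ i * g⁻¹ ∈ _
    rw [← conj_zpow]; exact Subgroup.zpow_mem _ (D.hnorm g) i⟩
  have hUM : U ≤ M := by
    intro y hy
    obtain ⟨i, rfl⟩ := hy
    rw [hM]
    show D.a ^ i * D.a ^ (p : ℤ) * (D.a ^ i)⁻¹ = _
    group
  obtain ⟨r₀, hr₀⟩ := D.hexp g₀
  obtain ⟨t₀, ht₀⟩ : (p : ℤ) ^ (m + 1) ∣ r₀ - 1 := (D.inM_iff hr₀ (by omega) hp').1 hg₀M
  have ht₀p : ¬ (p : ℤ) ∣ t₀ := fun ⟨e, he⟩ => D.not_dvd hr₀ hg₀ ⟨e, by rw [ht₀, he, pow_succ _ (m + 1)]; ring⟩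
  -- every element of `M` is a coset representative power
  have hMc : ∀ g ∈ M, ∃ l : ℕ, (g₀ ^ l)⁻¹ * g ∈ U := by
    intro g hg
    obtain ⟨r, hr⟩ := D.hexp g
    obtain ⟨t, ht⟩ : (p : ℤ) ^ (m + 1) ∣ r - 1 := (D.inM_iff hr (by omega) hp').1 ((hM g).1 hg)
    obtain ⟨l, hl⟩ : ∃ l : ℕ, (p : ℤ) ∣ t - l * t₀ := by
      refine ⟨((t : ZMod p) / (t₀ : ZMod p)).val, ?_⟩
      rw [← ZMod.intCast_zmod_eq_zero_iff_dvd]
      have h0 : (t₀ : ZMod p) ≠ 0 := fun h => ht₀p ((ZMod.intCast_zmod_eq_zero_iff_dvd _ _).1 h)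
      push_cast
      rw [ZMod.natCast_zmod_val, div_mul_cancel₀ _ h0, sub_self]
    refine ⟨l, ?_⟩
    obtain ⟨s, hs⟩ := D.hexp ((g₀ ^ l)⁻¹ * g)
    refine D.mem_of_dvd hs ?_
    have e : D.a ^ r = D.a ^ (r₀ ^ l * s) := by
      rw [← hr, ← D.mul_exp (D.pow_exp hr₀ l) hs, mul_inv_cancel_left]
    have h1 := (D.heq _ _).1 e
    have h2 : (p : ℤ) ^ (m + 2) ∣ r₀ ^ l - (1 + l * (r₀ - 1)) := by
      have hsq : (p : ℤ) ^ (m + 2) ∣ (r₀ - 1) * (r₀ - 1) := by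
        rw [show r₀ - 1 = (p : ℤ) ^ (m + 2 - 1) * t₀ from ht₀]
        refine ⟨(p : ℤ) ^ m * t₀ * t₀, ?_⟩
        rw [show m + 2 - 1 = m + 1 by omega, pow_succ _ (m + 1)]; ring
      clear h1 e hl hs
      induction l with
      | zero => simp
      | succ l ih =>
        have e : r₀ ^ (l + 1) - (1 + ((l + 1 : ℕ) : ℤ) * (r₀ - 1)) =
            r₀ * (r₀ ^ l - (1 + (l : ℤ) * (r₀ - 1))) + (l : ℤ) * ((r₀ - 1) * (r₀ - 1)) := by
          push_cast; ring
        rw [e]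
        exact dvd_add (dvd_mul_of_dvd_right ih _) (dvd_mul_of_dvd_right hsq _)
    obtain ⟨q1, hq1⟩ := h1
    obtain ⟨q2, hq2⟩ := h2
    obtain ⟨q3, hq3⟩ := hl
    have hu : IsCoprime ((p : ℤ) ^ (m + 2)) (1 + (l : ℤ) * ((p : ℤ) ^ (m + 1) * t₀)) :=
      IsCoprime.pow_left ⟨-((l : ℤ) * ((p : ℤ) ^ m * t₀)), 1, by rw [pow_succ]; ring⟩
    refine hu.dvd_of_dvd_mul_left ⟨q3 - q1 - q2 * s, ?_⟩
    rw [pow_succ _ (m + 1)] at hq1 hq2 ⊢
    linear_combination ht - hq1 + (p : ℤ) ^ (m + 1) * hq3 - ((s : ℤ) * (l : ℤ)) * ht₀ - s * hq2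
  have hg₀p : g₀ ^ p ∈ U := by
    obtain ⟨s, hs⟩ : ∃ s : ℤ, g₀ ^ p * D.a * (g₀ ^ p)⁻¹ = D.a ^ s := D.hexp _
    refine D.mem_of_dvd (D.pow_exp hr₀ p) ?_
    
    have h1 : (p : ℤ) ^ (m + 2) ∣ (r₀ - 1) * (p : ℤ) := ⟨t₀, by rw [ht₀, pow_succ _ (m + 1)]; ring⟩
    obtain ⟨q, hq⟩ : r₀ - 1 ∣ r₀ ^ p - 1 - (p : ℤ) * (r₀ - 1) := by
      refine dvd_sub ?_ ⟨p, by ring⟩
      simpa using sub_dvd_pow_sub_pow r₀ 1 p
    have hgs : r₀ ^ p - 1 = (r₀ - 1) * ∑ i ∈ Finset.range p, r₀ ^ i := (mul_geom_sum r₀ p).symm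
    rw [hgs]
    refine dvd_trans h1 (mul_dvd_mul_left _ ?_)
    rw [← ZMod.intCast_zmod_eq_zero_iff_dvd]
    push_cast
    have : (r₀ : ZMod p) = 1 := by
      have h2 : ((r₀ - 1 : ℤ) : ZMod p) = 0 := (ZMod.intCast_zmod_eq_zero_iff_dvd _ _).2
        ⟨(p : ℤ) ^ m * t₀, by rw [ht₀, pow_succ]; ring⟩
      push_cast at h2; exact sub_eq_zero.1 h2
    simp [this]
  obtain ⟨k, hk⟩ := hg₀p
  simp only at hk
  
  -- the geometric sums
  have hS : ∀ r t : ℤ, r - 1 = (p : ℤ) ^ (m + 1) * t → ∃ u : ℤ, IsCoprime ((p : ℤ) ^ (m + 2)) u ∧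
      (p : ℤ) ^ (m + 2) ∣ (∑ i ∈ Finset.range p, r ^ i) - p * u := by
    intro r t hrt
    rcases hpn with hp2 | hn3
    · exact ⟨1, isCoprime_one_right, by
        rw [mul_one]; exact geom_sum_modEq (by omega) ⟨t, by simpa using hrt⟩ hp2⟩
    · by_cases hp2 : p = 2
      · subst hp2
        obtain ⟨m', rfl⟩ : ∃ m', m = m' + 1 := ⟨m - 1, by omega⟩
        refine ⟨1 + 2 ^ (m' + 1) * t, IsCoprime.pow_left ⟨-(2 ^ m' * t), 1, by push_cast; ring⟩, 0, ?_⟩
        simp [Finset.sum_range_succ]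
        push_cast at hrt
        linear_combination hrt
      · exact ⟨1, isCoprime_one_right, by
          rw [mul_one]; exact geom_sum_modEq (by omega) ⟨t, by simpa using hrt⟩ hp2⟩
  obtain ⟨u₀, hu₀, hS₀⟩ := hS r₀ t₀ ht₀
  have hpk : (p : ℤ) ∣ k := by
    have h1 : g₀ * D.a ^ k * g₀⁻¹ = D.a ^ k := by rw [hk, ← pow_succ', pow_succ, mul_inv_cancel_right]
    rw [conj_zpow_exp hr₀, D.heq] at h1
    obtain ⟨q, hq⟩ := h1
    have h2 : (p : ℤ) ^ (m + 1) * (t₀ * k - p * q) = 0 := by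
      rw [pow_succ _ (m + 1)] at hq; linear_combination hq - k * ht₀
    have h3 := (mul_eq_zero.1 h2).resolve_left (pow_ne_zero _ (by exact_mod_cast hp'.ne_zero))
    exact ((Nat.prime_iff_prime_int.1 hp').dvd_or_dvd ⟨q, by linarith⟩).resolve_left ht₀p
  obtain ⟨j, rfl⟩ := hpk
  obtain ⟨α, β, hαβ⟩ := hu₀
  obtain ⟨q₀, hq₀⟩ := hS₀
  set y := D.a ^ (-(β * j)) * g₀ with hy
  have hyp : y ^ p = 1 := by
    rw [hy, zpow_mul_pow hr₀, ← hk, ← zpow_add, ← zpow_zero D.a, D.heq]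
    exact ⟨-(β * j) * q₀ + p * j * α, by linear_combination (-(β * j)) * hq₀ - (p : ℤ) * j * hαβ⟩
  have hyU : y ∉ U := fun h => hg₀ ((Subgroup.mul_mem_cancel_left _ (Subgroup.zpow_mem _ (mem_zpowers _) _)).1 h)
  have hyr : y * D.a * y⁻¹ = D.a ^ r₀ := by
    rw [hy, show D.a ^ (-(β * j)) * g₀ * D.a * (D.a ^ (-(β * j)) * g₀)⁻¹ =
      D.a ^ (-(β * j)) * (g₀ * D.a * g₀⁻¹) * (D.a ^ (-(β * j)))⁻¹ by group, hr₀]
    group
  have hyM : y ∈ M := mul_mem (hUM (Subgroup.zpow_mem _ (mem_zpowers _) _)) ((hM g₀).2 hg₀M)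
  have hcoset : ∀ g ∈ M, ∃ (i : ℤ) (l : ℕ), g = D.a ^ i * y ^ l := by
    intro g hg
    obtain ⟨l, hl⟩ := hMc g hg
    have h1 : g * (y ^ l)⁻¹ ∈ U := by
      rw [← QuotientGroup.eq_one_iff, QuotientGroup.mk_mul, QuotientGroup.mk_inv, QuotientGroup.mk_pow,
        show (y : G ⧸ U) = (g₀ : G ⧸ U) from QuotientGroup.eq.2 (by
          rw [hy, show (D.a ^ (-(β * j)) * g₀)⁻¹ * g₀ = g₀⁻¹ * (D.a ^ (-(β * j)))⁻¹ * g₀⁻¹⁻¹ by group]
          exact hUn.conj_mem _ (inv_mem (Subgroup.zpow_mem _ (mem_zpowers _) _)) _),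
        ← QuotientGroup.mk_pow, mul_inv_eq_one, eq_comm, QuotientGroup.eq]
      exact hl
    obtain ⟨i, hi⟩ := h1
    exact ⟨i, l, by rw [show D.a ^ i = g * (y ^ l)⁻¹ from hi, inv_mul_cancel_right]⟩
  have hord : ∀ g ∈ M, g ^ p = 1 → ∃ (i : ℤ) (l : ℕ), g = D.a ^ ((p : ℤ) ^ (m + 1) * i) * y ^ l := by
    intro g hg hgp
    obtain ⟨i, l, rfl⟩ := hcoset g hg
    have hl : (y ^ l) * D.a * (y ^ l)⁻¹ = D.a ^ (r₀ ^ l) := D.pow_exp hyr l
    rw [zpow_mul_pow hl, ← pow_mul, mul_comm l, pow_mul, hyp, one_pow, mul_one, ← zpow_zero D.a, D.heq, sub_zero]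
      at hgp
    obtain ⟨t, ht⟩ : r₀ - 1 ∣ r₀ ^ l - 1 := by simpa using sub_dvd_pow_sub_pow r₀ 1 l
    obtain ⟨u, hu, q, hq⟩ := hS (r₀ ^ l) (t₀ * t) (by rw [ht, ht₀]; ring)
    obtain ⟨c, hc⟩ := hgp
    have h1 : (p : ℤ) ^ (m + 1) ∣ i * u := by
      refine ⟨c - i * q, mul_left_cancel₀ (show (p : ℤ) ≠ 0 by exact_mod_cast hp'.ne_zero) ?_⟩
      rw [pow_succ _ (m + 1)] at hc hq
      linear_combination hc - i * hq
    obtain ⟨i', hi'⟩ := (hu.of_isCoprime_of_dvd_left (pow_dvd_pow _ (by omega))).dvd_of_dvd_mul_right h1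
    exact ⟨i', l, by rw [hi']⟩
  set z := D.a ^ (p ^ (m + 1)) with hz
  have hzo : orderOf z = p := by
    rw [hz, orderOf_pow' _ (pow_pos hp'.pos _).ne', D.hord, Nat.gcd_eq_right (pow_dvd_pow p (by omega)),
      pow_succ _ (m + 1), Nat.mul_div_cancel_left _ (pow_pos hp'.pos _)]
  have hzy : Commute z y := by
    show z * y = y * z
    have h1 : y * D.a ^ ((p : ℤ) ^ (m + 1)) * y⁻¹ = D.a ^ ((p : ℤ) ^ (m + 1)) := by
      rw [conj_zpow_exp hyr, D.heq]
      refine ⟨(p : ℤ) ^ m * t₀, ?_⟩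
      rw [pow_succ _ (m + 1)]
      linear_combination (p : ℤ) ^ (m + 1) * ht₀
    rw [← Nat.cast_pow, zpow_natCast, mul_inv_eq_iff_eq_mul] at h1
    exact h1.symm
  let φ : ↥(zpowers z) × ↥(zpowers y) →* G := MonoidHom.noncommCoprod (zpowers z).subtype (zpowers y).subtype
    fun a b => by
      obtain ⟨i, hi⟩ := mem_zpowers_iff.1 a.2
      obtain ⟨l, hl⟩ := mem_zpowers_iff.1 b.2
      show Commute (a : G) (b : G)
      rw [← hi, ← hl]
      exact hzy.zpow_zpow i l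
  have hyo : orderOf y = p := orderOf_eq_prime hyp fun h => hyU (h ▸ one_mem U)
  have hinj : Function.Injective φ := by
    refine (injective_iff_map_eq_one φ).2 ?_
    rintro ⟨⟨a, ha⟩, ⟨b, hb⟩⟩ hab
    have hab' : a * b = 1 := hab
    have hbU : b ∈ U := by
      rw [eq_inv_of_mul_eq_one_right hab']
      exact inv_mem (zpowers_le.2 (pow_mem (mem_zpowers D.a) _) ha)
    have hb1 : b = 1 := by
      by_contra hb1
      obtain ⟨l, rfl⟩ := hb
      have hco : IsCoprime l (p : ℤ) := by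
        rw [isCoprime_comm]
        refine (Nat.prime_iff_prime_int.1 hp').coprime_iff_not_dvd.2 fun ⟨e, he⟩ => hb1 ?_
        show y ^ l = 1
        rw [he, zpow_mul, zpow_natCast, hyp, one_zpow]
      obtain ⟨u, v, huv⟩ := hco
      refine hyU ?_
      have : y = (y ^ l) ^ u * (y ^ (p : ℤ)) ^ v := by
        rw [← zpow_mul, ← zpow_mul, ← zpow_add, show l * u + (p : ℤ) * v = 1 by linarith, zpow_one]
      rw [this, zpow_natCast, hyp, one_zpow, mul_one]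
      exact Subgroup.zpow_mem _ hbU u
    subst hb1
    rw [mul_one] at hab'
    subst hab'
    rfl
  have hW : ∀ g, g ∈ φ.range → g ∈ M ∧ g ^ p = 1 := by
    rintro _ ⟨⟨⟨a, ha⟩, ⟨b, hb⟩⟩, rfl⟩
    refine ⟨mul_mem (hUM (zpowers_le.2 (pow_mem (mem_zpowers D.a) _) ha)) (zpowers_le.2 hyM hb), ?_⟩
    show (a * b) ^ p = 1
    obtain ⟨i, rfl⟩ := ha
    obtain ⟨l, rfl⟩ := hb
    rw [(hzy.zpow_zpow i l).mul_pow, ← zpow_natCast, ← zpow_natCast, ← zpow_mul, ← zpow_mul, mul_comm i, mul_comm l,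
      zpow_mul, zpow_mul, zpow_natCast, zpow_natCast, hyp, ← hzo, pow_orderOf_eq_one, one_zpow, one_zpow, one_mul]
  have hW' : ∀ g ∈ M, g ^ p = 1 → g ∈ φ.range := by
    intro g hg hgp
    obtain ⟨i, l, rfl⟩ := hord g hg hgp
    refine ⟨(⟨z ^ i, Subgroup.zpow_mem _ (mem_zpowers z) i⟩, ⟨y ^ l, pow_mem (mem_zpowers y) l⟩), ?_⟩
    show z ^ i * y ^ l = _
    rw [hz, ← zpow_natCast D.a, ← zpow_mul, Nat.cast_pow]
  have hΩ : Cfsg.omegaOne p M = φ.range := le_antisymm ((closure_le _).2 fun g hg => hW' g hg.1 hg.2)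
    fun g hg => subset_closure (hW g hg)
  have hΩc : Nat.card ↥(Cfsg.omegaOne p M) = p ^ 2 := by
    rw [hΩ, Nat.card_congr (MonoidHom.ofInjective hinj).toEquiv.symm, Nat.card_prod, Nat.card_zpowers,
      Nat.card_zpowers, hzo, hyo, pow_two]
  have hrel : U.relIndex M = p := by
    have hsup : U ⊔ zpowers y = M := le_antisymm (sup_le hUM (zpowers_le.2 hyM)) fun g hg => by
      obtain ⟨i, l, rfl⟩ := hcoset g hg
      exact mul_mem (mem_sup_left (Subgroup.zpow_mem _ (mem_zpowers _) _)) (mem_sup_right (pow_mem (mem_zpowers y) l))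
    have hdisj : U.subgroupOf (zpowers y) = ⊥ := by
      refine (eq_bot_iff).2 fun w hw => ?_
      have h0 := hinj (a₁ := (1, w)) (a₂ := (1, 1))
      by_contra hne
      obtain ⟨w, hwy⟩ := w
      have hwU : w ∈ U := hw
      have hgen : zpowers w = zpowers y := by
        haveI := Fact.mk hp'
        refine Subgroup.eq_of_le_of_card_ge (zpowers_le.2 hwy) ?_
        rw [Nat.card_zpowers, Nat.card_zpowers, hyo]
        have hd : orderOf w ∣ p := hyo ▸ orderOf_dvd_of_mem_zpowers hwy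
        rcases (Nat.dvd_prime hp').1 hd with h | h
        · exact absurd (Subgroup.mem_bot.2 (Subtype.ext (orderOf_eq_one_iff.1 h))) hne
        · exact h.ge
      exact hyU (zpowers_le.2 hwU (hgen.ge (mem_zpowers y)))
    have h1 : U.relIndex M = U.relIndex (zpowers y) := by
      rw [← hsup]
      exact Subgroup.relIndex_sup_left (zpowers y) U
    rw [h1]
    show (U.subgroupOf (zpowers y)).index = p
    rw [hdisj, Subgroup.index_bot, Nat.card_zpowers, hyo]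
  have hEA : Cfsg.IsElementaryAbelian p (Cfsg.omegaOne p M) := by
    refine ⟨⟨⟨fun a b => Subtype.ext ?_⟩⟩, fun a ha => (hW a (hΩ ▸ ha)).2⟩
    obtain ⟨a', ha'⟩ := hΩ.le a.2
    obtain ⟨b', hb'⟩ := hΩ.le b.2
    show (a : G) * b = b * a
    rw [← ha', ← hb', ← map_mul, ← map_mul]
    congr 1
    exact Prod.ext (mul_comm' _ _) (mul_comm' _ _)
  haveI hMn : M.Normal := ⟨fun v hv g => by
    rw [hM] at hv ⊢
    obtain ⟨r, hr⟩ := D.hexp g⁻¹
    have h1 : g⁻¹ * D.a ^ (p : ℤ) * g⁻¹⁻¹ = D.a ^ (r * p) := conj_zpow_exp hr _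
    have h2 : v * D.a ^ (r * (p : ℤ)) * v⁻¹ = D.a ^ (r * (p : ℤ)) := by
      rw [mul_comm r, zpow_mul, ← conj_zpow, show v * D.a ^ (p : ℤ) * v⁻¹ = D.a ^ (p : ℤ) from hv]
    show g * v * g⁻¹ * D.a ^ (p : ℤ) * (g * v * g⁻¹)⁻¹ = D.a ^ (p : ℤ)
    rw [show g * v * g⁻¹ * D.a ^ (p : ℤ) * (g * v * g⁻¹)⁻¹ =
      g * (v * (g⁻¹ * D.a ^ (p : ℤ) * g⁻¹⁻¹) * v⁻¹) * g⁻¹ by group, h1, h2, ← h1]
    group⟩
  haveI hΩn : (Cfsg.omegaOne p M).Normal := CfsgLib.PGroup.omegaOne_normal p M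
  refine ⟨hrel, hEA, hΩc, ⟨fun ψ => ?_⟩⟩
  set W := (Cfsg.omegaOne p M).comap ψ.toMonoidHom with hWdef
  haveI : W.Normal := Normal.comap hΩn _
  have hWc : Nat.card ↥W = p ^ 2 := by
    rw [← hΩc, hWdef]
    exact Nat.card_congr (Equiv.subtypeEquiv ψ.toEquiv fun g => Iff.rfl)
  have hWM : ∀ v ∈ W, v ∈ M ∧ v ^ p = 1 := by
    intro v hv
    have hvp : v ^ p = 1 := ψ.injective (by rw [map_pow, map_one]; exact (hW _ (hΩ ▸ hv)).2)
    refine ⟨?_, hvp⟩
    obtain ⟨r, hr⟩ := D.hexp v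
    have hmem : v * D.a * v⁻¹ * D.a⁻¹ ∈ W := by
      rw [show v * D.a * v⁻¹ * D.a⁻¹ = v * (D.a * v⁻¹ * D.a⁻¹) by group]
      exact mul_mem hv (Normal.conj_mem inferInstance _ (inv_mem hv) _)
    rw [hr, show D.a⁻¹ = D.a ^ (-1 : ℤ) from (zpow_neg_one _).symm, ← zpow_add] at hmem
    have h1 : (D.a ^ (r + -1)) ^ p = 1 := ψ.injective (by rw [map_pow, map_one]; exact (hW _ (hΩ ▸ hmem)).2)
    rw [← zpow_natCast, ← zpow_mul, ← zpow_zero D.a, D.heq, sub_zero] at h1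
    rw [hM, D.inM_iff hr (by omega) hp']
    obtain ⟨c, hc⟩ := h1
    refine ⟨c, mul_right_cancel₀ (show (p : ℤ) ≠ 0 by exact_mod_cast hp'.ne_zero) ?_⟩
    simp only [show m + 2 - 1 = m + 1 by omega]
    rw [pow_succ _ (m + 1)] at hc
    linear_combination hc
  exact Subgroup.eq_of_le_of_card_ge (fun v hv => subset_closure (hWM v hv)) (by rw [hWc, hΩc])

theorem build [Finite G] {p : ℕ} [hp : Fact p.Prime] (hG : IsPGroup p G) (hna : ¬ IsMulCommutative G)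
    (U : Subgroup G) [U.Normal] (hU : IsCyclic U) (n : ℕ) (hUn : Nat.card U = p ^ n)
    (hC : centralizer (U : Set G) = U) : ∃ D : Data G p n, zpowers D.a = U ∧ 2 ≤ n := by
  obtain ⟨⟨a, ha⟩, hgen⟩ := hU.exists_generator
  have haU : zpowers a = U := le_antisymm (zpowers_le.2 ha) fun y hy => by
    obtain ⟨i, hi⟩ := hgen ⟨y, hy⟩
    exact ⟨i, congrArg Subtype.val hi⟩
  have hne : ∃ g : G, g ∉ zpowers a := by
    by_contra! hall
    refine hna ⟨⟨fun x y => ?_⟩⟩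
    obtain ⟨i, rfl⟩ := hall x
    obtain ⟨j, rfl⟩ := hall y
    exact (Commute.zpow_zpow (Commute.refl a) i j).eq
  let D : Data G p n :=
    { a := a
      hord := by rw [← Nat.card_zpowers, haU, hUn]
      hnorm := fun g => haU.symm ▸ Normal.conj_mem inferInstance _ ha g
      hcent := fun g hg => by
        rw [haU, ← hC, mem_centralizer_iff]
        intro y hy
        rw [SetLike.mem_coe, ← haU] at hy
        obtain ⟨i, rfl⟩ := hy
        exact ((show Commute g a from mul_inv_eq_iff_eq_mul.1 hg).zpow_right i).eq.symm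
      hne := hne }
  refine ⟨D, haU, ?_⟩
  by_contra hlt
  obtain ⟨g, hg⟩ := hne
  obtain ⟨r, hr⟩ := D.hexp g
  obtain ⟨e, he⟩ := hG g
  have h1 : (p : ℤ) ^ n ∣ r ^ p ^ e - 1 := D.pow_dvd_of_mem hr (by rw [he]; exact one_mem _)
  refine hg (D.mem_of_dvd hr ?_)
  rcases Nat.le_one_iff_eq_zero_or_eq_one.1 (Nat.lt_succ_iff.1 (not_le.1 hlt)) with rfl | rfl
  · simp
  rw [pow_one] at h1 ⊢
  rw [← ZMod.intCast_zmod_eq_zero_iff_dvd] at h1 ⊢
  push_cast at h1 ⊢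
  rwa [ZMod.pow_card_pow] at h1

theorem exists_in_M [Finite G] {p n : ℕ} [hp : Fact p.Prime] (hp2 : p ≠ 2) (hG : IsPGroup p G) (D : Data G p n)
    (hn : 1 ≤ n) : ∃ g, D.InM g ∧ g ∉ zpowers D.a := by
  obtain ⟨x, hx⟩ := D.hne
  obtain ⟨j, hj, hj'⟩ := exists_notMem_pow_mem hG hx
  obtain ⟨r, hr⟩ := D.hexp (x ^ p ^ j)
  refine ⟨_, ?_, hj⟩
  exact (D.inM_iff hr hn hp.out).2 (dvd_sub_one_of_dvd_pow_sub_one hp2 (D.pow_dvd_of_mem hr hj')).1

/-- Let G be a finite non-abelian p-group with a cyclic normal subgroup U of order p^n such that C_G(U) = U. Then either p = 2 and G is dihedral, generalized quaternion or semidihedral of order 2^(n+1); or, writing U₁ for the subgroup generated by the p-th powers of elements of U and M = C_G(U₁), the subgroup U has index p in M and the subgroup Ω₁(M) generated by the elements of M of order dividing p is elementary abelian of order p² and characteristic in G. -/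
theorem result {G : Type*} [Group G] [Finite G] {p : ℕ} [Fact p.Prime] (hG : IsPGroup p G) (hna : ¬ IsMulCommutative G) (U : Subgroup G) [U.Normal] (hU : IsCyclic U) (n : ℕ) (hUn : Nat.card U = p ^ n) (hC : Subgroup.centralizer (U : Set G) = U) : (p = 2 ∧ Nat.card G = 2 ^ (n + 1) ∧ ((∃ m : ℕ, Nonempty (G ≃* DihedralGroup m)) ∨ (∃ m : ℕ, Nonempty (G ≃* QuaternionGroup m)) ∨ Cfsg.IsQuasiDihedral G)) ∨ (U.relIndex (Subgroup.centralizer (Cfsg.powerClosure p 1 U : Set G)) = p ∧ Cfsg.IsElementaryAbelian p (Cfsg.omegaOne p (Subgroup.centralizer (Cfsg.powerClosure p 1 U : Set G))) ∧ Nat.card ↥(Cfsg.omegaOne p (Subgroup.centralizer (Cfsg.powerClosure p 1 U : Set G))) = p ^ 2 ∧ (Cfsg.omegaOne p (Subgroup.centralizer (Cfsg.powerClosure p 1 U : Set G))).Characteristic) := by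
  classical
  obtain ⟨D, hDU, hn⟩ := build hG hna U hU n hUn hC
  have hM : ∀ g, g ∈ Subgroup.centralizer (Cfsg.powerClosure p 1 U : Set G) ↔ D.InM g := by
    intro g
    rw [Subgroup.mem_centralizer_iff]
    constructor
    · intro h
      have h1 := h (D.a ^ (p : ℤ)) (by
        refine Subgroup.subset_closure ⟨D.a, hDU ▸ mem_zpowers D.a, ?_⟩
        rw [pow_one, zpow_natCast])
      show g * D.a ^ (p : ℤ) * g⁻¹ = _
      rw [← h1, mul_inv_cancel_right]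
    · intro h y hy
      have h1 : Commute g (D.a ^ (p : ℤ)) := mul_inv_eq_iff_eq_mul.1 h
      have h2 : y ∈ zpowers (D.a ^ (p : ℤ)) := by
        refine (Subgroup.closure_le _).2 ?_ hy
        rintro _ ⟨x, hx, rfl⟩
        rw [← hDU] at hx
        obtain ⟨i, rfl⟩ := hx
        refine ⟨i, ?_⟩
        show (D.a ^ (p : ℤ)) ^ i = (D.a ^ i) ^ (p ^ 1)
        rw [pow_one, ← zpow_natCast (D.a ^ i), ← zpow_mul, ← zpow_mul, mul_comm]
      obtain ⟨i, rfl⟩ := h2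
      exact ((h1.zpow_right i).eq).symm
  by_cases hcase : (p ≠ 2 ∨ 3 ≤ n) ∧ ∃ g, D.InM g ∧ g ∉ zpowers D.a
  · obtain ⟨hpn, g, hg, hgU⟩ := hcase
    right
    have := second_case hG D hn hpn hg hgU _ hM
    rwa [hDU] at this
  left
  have hp2 : p = 2 := by
    by_contra hp2
    exact hcase ⟨Or.inl hp2, exists_in_M hp2 hG D (by omega)⟩
  subst hp2
  refine ⟨rfl, first_case hG D hn ?_⟩
  by_contra hcon
  push Not at hcon
  obtain ⟨h2, g, hg, hgU⟩ := hcon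
  exact hcase ⟨Or.inr (by omega), g, hg, hgU⟩

end Cfsg.Agent.S3761
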