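import Cfsg.Statements.S3762
import Mathlib
import Cfsg.Agent.S3761
import Cfsg.Agent.Lib.Transfer.Critical
import Cfsg.Agent.Lib.PGroup.Basic
import Cfsg.Agent.Lib.PGroup.Extraspecial

set_option autoImplicit false
open Cfsg

namespace Cfsg.Agent.S3762

open Subgroup CfsgLib.PGroup
open scoped commutatorElement

universe u

section
variable {G : Type u} [Group G] [Finite G] {p : ℕ} [hp : Fact p.Prime]

theorem comm_split (hG : IsPGroup p G) {N H E : Subgroup G} (hN : N ≤ center G)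
    (hNp : Nat.card N = p) (hNE : N ≤ E) (hEH : E ≤ H)
    (hcom : ∀ h ∈ H, ∀ x ∈ E, ⁅h, x⁆ ∈ N) (hE : E ⊓ centralizer (E : Set G) = N) :
    ∀ g ∈ H, ∃ e ∈ E, ∃ t ∈ H ⊓ centralizer (E : Set G), g = e * t := by
  obtain ⟨L, -, hLmax⟩ := Finite.exists_le_maximal
    (p := fun L : Subgroup G => N ≤ L ∧ L ≤ E ∧
      Nat.card H * p ≤ Nat.card ↥(H ⊓ centralizer (L : Set G)) * Nat.card L) (a := N)
    ⟨le_rfl, hNE, by
      rw [inf_eq_left.2, hNp]
      intro h _
      exact mem_centralizer_iff.2 fun y hy => (mem_center_iff.1 (hN hy) h).symm⟩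
  obtain ⟨⟨hNL, hLE, hLc⟩, hmax⟩ := hLmax
  have hL : L = E := by
    rcases hLE.eq_or_lt with h | h
    · exact h
    obtain ⟨x, hxE, hxL⟩ := SetLike.exists_of_lt h
    refine absurd (hmax ⟨le_sup_of_le_left hNL, sup_le hLE (zpowers_le.2 hxE), ?_⟩ le_sup_left
      (mem_sup_right (mem_zpowers x))) hxL
    set L' := L ⊔ zpowers x with hL'
    have hcc : H ⊓ centralizer (L : Set G) ⊓ centralizer ({x} : Set G) ≤
        H ⊓ centralizer (L' : Set G) := by
      rintro g ⟨⟨hgH, hgL⟩, hgx⟩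
      refine ⟨hgH, mem_centralizer_iff.2 fun y hy => ?_⟩
      have : L' ≤ centralizer ({g} : Set G) := sup_le
        (fun l hl => mem_centralizer_singleton_iff.2 (mem_centralizer_iff.1 hgL l hl))
        (zpowers_le.2 (mem_centralizer_singleton_iff.2
          (mem_centralizer_singleton_iff.1 hgx).symm))
      exact mem_centralizer_singleton_iff.1 (this hy)
    have h1 : Nat.card ↥(H ⊓ centralizer (L : Set G)) ≤
        Nat.card ↥(H ⊓ centralizer (L : Set G) ⊓ centralizer ({x} : Set G)) * p := by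
      by_cases hle : H ⊓ centralizer (L : Set G) ≤ centralizer ({x} : Set G)
      · rw [inf_eq_left.2 hle]
        exact Nat.le_mul_of_pos_right _ hp.out.pos
      · exact (card_inf_centralizer_mul (K := H ⊓ centralizer (L : Set G)) hN hNp
          (fun k hk => hcom k hk.1 x hxE) hle).ge
    have h2 : Nat.card L * p ≤ Nat.card L' := by
      have hlt : L < L' := lt_of_le_of_ne le_sup_left fun h =>
        hxL (h ▸ (mem_sup_right (mem_zpowers x) : x ∈ L'))
      obtain ⟨a, ha⟩ := IsPGroup.iff_card.1 (hG.to_subgroup L)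
      obtain ⟨b, hb⟩ := IsPGroup.iff_card.1 (hG.to_subgroup L')
      have hc : Nat.card L < Nat.card L' := by
        refine lt_of_le_of_ne (card_le_of_le hlt.le) fun h => hlt.ne ?_
        exact eq_of_le_of_card_ge hlt.le h.ge
      rw [ha, hb] at hc ⊢
      rw [← pow_succ]
      exact Nat.pow_le_pow_right hp.out.pos ((Nat.pow_lt_pow_iff_right hp.out.one_lt).1 hc)
    calc Nat.card H * p ≤ Nat.card ↥(H ⊓ centralizer (L : Set G)) * Nat.card L := hLc
      _ ≤ Nat.card ↥(H ⊓ centralizer (L : Set G) ⊓ centralizer ({x} : Set G)) * p * Nat.card L :=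
          Nat.mul_le_mul_right _ h1
      _ = Nat.card ↥(H ⊓ centralizer (L : Set G) ⊓ centralizer ({x} : Set G)) *
          (Nat.card L * p) := by ring
      _ ≤ _ := Nat.mul_le_mul (card_le_of_le hcc) h2
  subst hL
  set T := H ⊓ centralizer (L : Set G) with hT
  let f : ↥L × ↥T →* G := L.subtype.noncommCoprod T.subtype fun e t =>
    mem_centralizer_iff.1 t.2.2 _ e.2
  have hker : Nat.card f.ker ≤ p := by
    rw [← hNp]
    refine Nat.card_le_card_of_injective (fun v => (⟨(v.1.1 : G), ?_⟩ : N)) ?_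
    · have hv : (v.1.1 : G) * v.1.2 = 1 := v.2
      rw [← hE]
      refine ⟨v.1.1.2, ?_⟩
      rw [eq_inv_of_mul_eq_one_left hv]
      exact Subgroup.inv_mem _ v.1.2.2.2
    · intro v w hvw
      have hv : (v.1.1 : G) * v.1.2 = 1 := v.2
      have hw : (w.1.1 : G) * w.1.2 = 1 := w.2
      have h : (v.1.1 : G) = w.1.1 := congrArg (fun a : ↥N => (a : G)) hvw
      rw [h] at hv
      exact Subtype.ext (Prod.ext (Subtype.ext h) (Subtype.ext (mul_left_cancel (hv.trans hw.symm))))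
  have hrange : f.range ≤ H := by
    rintro _ ⟨v, rfl⟩
    exact H.mul_mem (hEH v.1.2) v.2.2.1
  have heq : f.range = H := by
    refine eq_of_le_of_card_ge hrange ?_
    have h := card_mul_index f.ker
    rw [index_ker, Nat.card_prod] at h
    refine Nat.le_of_mul_le_mul_right (c := p) ?_ hp.out.pos
    calc Nat.card H * p ≤ Nat.card ↥T * Nat.card L := hLc
      _ = Nat.card f.ker * Nat.card f.range := by rw [h, mul_comm]
      _ ≤ Nat.card f.range * p := by rw [mul_comm]; exact Nat.mul_le_mul_left _ hker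
  intro g hg
  rw [← heq] at hg
  obtain ⟨v, rfl⟩ := hg
  exact ⟨_, v.1.2, _, v.2.2, rfl⟩

theorem cyclic_mem_zpowers {A : Subgroup G} (hA : IsCyclic A) {a b : G} (ha : a ∈ A) (hb : b ∈ A)
    (h : orderOf a ∣ orderOf b) : a ∈ zpowers b := by
  classical
  haveI : Fintype G := Fintype.ofFinite G
  obtain ⟨c, hc⟩ := isCyclic_iff_exists_zpowers_eq_top.1 hA
  set s : Finset ↥A := Finset.univ.filter (fun x => x ^ orderOf b = 1) with hs
  have hcard : s.card ≤ orderOf b := IsCyclic.card_pow_eq_one_le (orderOf_pos b)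
  set t : Finset ↥A := Finset.univ.filter (fun x : ↥A => x ∈ zpowers (⟨b, hb⟩ : ↥A)) with ht
  have hts : t ⊆ s := by
    intro x hx
    simp only [ht, hs, Finset.mem_filter, Finset.mem_univ, true_and] at hx ⊢
    obtain ⟨i, rfl⟩ := hx
    ext
    simp only [SubgroupClass.coe_zpow, SubmonoidClass.coe_pow, OneMemClass.coe_one]
    rw [← zpow_natCast, zpow_comm, zpow_natCast, pow_orderOf_eq_one, one_zpow]
  have htc : t.card = orderOf b := by
    rw [ht, ← Fintype.card_subtype, ← Nat.card_eq_fintype_card]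
    exact (Nat.card_zpowers _).trans (orderOf_mk b hb)
  have : (⟨a, ha⟩ : ↥A) ∈ t := by
    rw [Finset.eq_of_subset_of_card_le hts (by rw [htc]; exact hcard)]
    simp only [hs, Finset.mem_filter, Finset.mem_univ, true_and]
    exact Subtype.ext (orderOf_dvd_iff_pow_eq_one.1 h)
  simp only [ht, Finset.mem_filter, Finset.mem_univ, true_and] at this
  obtain ⟨i, hi⟩ := this
  exact ⟨i, congrArg Subtype.val hi⟩

/-- Elements of a subgroup `E ⊔ ⟨x⟩` when `x` normalises `E`. -/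
theorem mem_sup_zpowers {E : Subgroup G} {x y : G} (hx : x ∈ normalizer (E : Set G))
    (hy : y ∈ E ⊔ zpowers x) : ∃ e ∈ E, ∃ m : ℤ, y = e * x ^ m := by
  rw [← SetLike.mem_coe, coe_mul_of_right_le_normalizer_left _ _ (zpowers_le.2 hx),
    Set.mem_mul] at hy
  obtain ⟨e, he, _, ⟨m, rfl⟩, rfl⟩ := hy
  exact ⟨e, he, m, rfl⟩

theorem conj_pow_eq {g y : G} (n : ℕ) : (g * y * g⁻¹) ^ n = g * y ^ n * g⁻¹ := by
  simp [conj_pow]

theorem comm_class_pow {H : Subgroup G} {a b : G} (ha : a ∈ H) (hb : b ∈ H)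
    (hc : ∀ g ∈ H, Commute g ⁅b, a⁆) :
    (a * b) ^ p = a ^ p * b ^ p * ⁅b, a⁆ ^ p.choose 2 ∧ ⁅b ^ p, a⁆ = ⁅b, a⁆ ^ p := by
  have hcc : ⁅(⟨b, hb⟩ : ↥H), (⟨a, ha⟩ : ↥H)⁆ ∈ center ↥H :=
    mem_center_iff.2 fun g => Subtype.ext (hc g g.2).eq
  constructor
  · exact congrArg Subtype.val (mul_pow_of_comm_mem_center hcc p)
  · exact congrArg Subtype.val (comm_pow_left hcc p)

theorem class_two_structure (hG : IsPGroup p G)
    (hsymp : ∀ A : Subgroup G, A.Characteristic → IsMulCommutative A → IsCyclic A)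
    (H : Subgroup G) [H.Characteristic] (N : Subgroup G) (hNc : N ≤ center G)
    (hNp : Nat.card N = p) (hNZ : N ≤ H ⊓ centralizer (H : Set G))
    (hpow : ∀ x ∈ H, x ^ p ∈ H ⊓ centralizer (H : Set G))
    (hcomm : ∀ a ∈ H, ∀ b ∈ H, ⁅a, b⁆ ∈ H ⊓ centralizer (H : Set G)) :
    ∃ E : Subgroup G, N ≤ E ∧ E ≤ H ∧ E ⊓ centralizer (E : Set G) = N ∧
      (∀ x ∈ E, x ^ p ∈ N) ∧ (∀ a ∈ E, ∀ b ∈ E, ⁅a, b⁆ ∈ N) ∧
      ∀ g ∈ H, ∃ e ∈ E, ∃ z ∈ H ⊓ centralizer (H : Set G), g = e * z := by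
  set Z := H ⊓ centralizer (H : Set G) with hZ
  have hZcom : ∀ z ∈ Z, ∀ h ∈ H, Commute h z := fun z hz h hh =>
    mem_centralizer_iff.1 hz.2 h hh
  have hcyc : IsCyclic Z := hsymp Z inferInstance
    ⟨⟨fun a b => Subtype.ext ((hZcom b b.2 a a.2.1).eq)⟩⟩
  -- `N` is the set of elements of `Z` of order dividing `p`
  have hNpow : ∀ n ∈ N, n ^ p = 1 := fun n hn =>
    congrArg Subtype.val (hNp ▸ pow_card_eq_one' (x := (⟨n, hn⟩ : ↥N)) :)
  have hNmem : ∀ x ∈ Z, x ^ p = 1 → x ∈ N := by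
    intro x hx hxp
    obtain ⟨n, hn, hn'⟩ : ∃ n ∈ N, orderOf n = p := by
      have hb : N ≠ ⊥ := fun h => hp.out.ne_one (hNp ▸ card_eq_one.2 h)
      exact exists_orderOf_eq hG hb
    have := cyclic_mem_zpowers hcyc hx (hNZ hn) (hn'.symm ▸ orderOf_dvd_of_pow_eq_one hxp)
    exact zpowers_le.2 hn this
  have hNch : ∀ φ : G ≃* G, ∀ n ∈ N, φ n ∈ N := by
    intro φ n hn
    refine hNmem _ ?_ (by rw [← map_pow, hNpow n hn, map_one])
    have h := hNZ hn
    have e := (inferInstance : Z.Characteristic).fixed φ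
    rw [← e] at h
    exact h
  have hcN : ∀ a ∈ H, ∀ b ∈ H, ⁅a, b⁆ ∈ N := by
    intro a ha b hb
    refine hNmem _ (hcomm a ha b hb) ?_
    rw [← (comm_class_pow hb ha fun g hg => hZcom _ (hcomm a ha b hb) g hg).2]
    exact commutatorElement_eq_one_iff_commute.2 (hZcom _ (hpow a ha) b hb).symm
  -- the subgroup `K`
  let K : Subgroup G :=
    { carrier := {x | x ∈ H ∧ x ^ p ∈ N}
      one_mem' := ⟨H.one_mem, by rw [one_pow]; exact N.one_mem⟩
      mul_mem' := by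
        rintro a b ⟨ha, ha'⟩ ⟨hb, hb'⟩
        refine ⟨H.mul_mem ha hb, ?_⟩
        rw [(comm_class_pow ha hb fun g hg => hZcom _ (hcomm b hb a ha) g hg).1]
        exact N.mul_mem (N.mul_mem ha' hb') (N.pow_mem (hcN b hb a ha) _)
      inv_mem' := by
        rintro a ⟨ha, ha'⟩
        exact ⟨H.inv_mem ha, by rw [inv_pow]; exact N.inv_mem ha'⟩ }
  have hKH : K ≤ H := fun x hx => hx.1
  have hNK : N ≤ K := fun n hn => ⟨(hNZ hn).1, by rw [hNpow n hn]; exact N.one_mem⟩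
  haveI : K.Characteristic := by
    refine characteristic_iff_le_comap.2 fun φ x hx => ⟨?_, ?_⟩
    · have h := hx.1
      rw [← (inferInstance : H.Characteristic).fixed φ] at h
      exact h
    · show (φ x) ^ p ∈ N
      rw [← map_pow]
      exact hNch φ _ hx.2
  obtain ⟨c, hc⟩ := isCyclic_iff_exists_zpowers_eq_top.1 hcyc
  have hcZ : ∀ z ∈ Z, ∃ i : ℤ, (c : G) ^ i = z := by
    intro z hz
    have : (⟨z, hz⟩ : ↥Z) ∈ zpowers c := hc ▸ mem_top _
    obtain ⟨i, hi⟩ := this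
    exact ⟨i, congrArg Subtype.val hi⟩
  obtain ⟨k, hk⟩ := IsPGroup.iff_orderOf.1 hG (c : G)
  have hsmall : k ≤ 1 → Z ≤ N ∧ H ≤ K := by
    intro hk1
    have hle : Z ≤ N := by
      intro z hz
      obtain ⟨i, rfl⟩ := hcZ z hz
      refine hNmem _ hz ?_
      rw [← zpow_natCast, zpow_comm, zpow_natCast,
        orderOf_dvd_iff_pow_eq_one.1 (hk ▸ (pow_dvd_pow p hk1).trans (pow_one p).dvd), one_zpow]
    exact ⟨hle, fun x hx => ⟨hx, hle (hpow x hx)⟩⟩
  -- the centre of `K` lies in `Z`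
  have hKZ : K ⊓ centralizer (K : Set G) ≤ Z := by
    intro u hu
    by_cases hk1 : k ≤ 1
    · exact ⟨hu.1.1, mem_centralizer_iff.2 fun h hh =>
        mem_centralizer_iff.1 hu.2 h ((hsmall hk1).2 hh)⟩
    have hKcyc : IsCyclic ↥(K ⊓ centralizer (K : Set G)) := hsymp _ inferInstance
      ⟨⟨fun a b => Subtype.ext (mem_centralizer_iff.1 b.2.2 a a.2.1)⟩⟩
    set i := (c : G) ^ p ^ (k - 2) with hi
    have hio : orderOf i = p ^ 2 := by
      rw [hi, orderOf_pow_of_dvd (pow_ne_zero _ hp.out.ne_zero)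
        (hk ▸ pow_dvd_pow p (Nat.sub_le k 2)), hk, Nat.pow_div (Nat.sub_le k 2) hp.out.pos]
      congr 1
      omega
    have hiZ : i ∈ Z := Z.pow_mem c.2 _
    have hiK : i ∈ K := by
      refine ⟨hiZ.1, hNmem _ (Z.pow_mem hiZ _) ?_⟩
      rw [← pow_mul, ← sq, ← hio, pow_orderOf_eq_one]
    have hiC : i ∈ K ⊓ centralizer (K : Set G) :=
      ⟨hiK, mem_centralizer_iff.2 fun h hh => hZcom i hiZ h hh.1⟩
    have := cyclic_mem_zpowers hKcyc hu hiC (hio.symm ▸ orderOf_dvd_of_pow_eq_one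
      (by rw [sq, pow_mul, hNpow _ hu.1.2]))
    exact zpowers_le.2 hiZ this
  -- the subgroup `E`
  obtain ⟨E, -, hEmax⟩ := Finite.exists_le_maximal
    (p := fun E : Subgroup G => N ≤ E ∧ E ≤ K ∧ E ⊓ Z ≤ N) (a := N) ⟨le_rfl, hNK, inf_le_left⟩
  obtain ⟨⟨hNE, hEK, hEZ⟩, hmax⟩ := hEmax
  have hEH : E ≤ H := hEK.trans hKH
  have hKE : ∀ x ∈ K, ∃ e ∈ E, ∃ z ∈ Z, x = e * z := by
    intro x hx
    by_cases hxE : x ∈ E
    · exact ⟨x, hxE, 1, Z.one_mem, (mul_one x).symm⟩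
    have hxn : x ∈ normalizer (E : Set G) := by
      refine mem_normalizer_iff.2 fun e => ⟨fun he => ?_, fun he => ?_⟩
      · rw [show x * e * x⁻¹ = ⁅x, e⁆ * e by rw [commutatorElement_def]; group]
        exact E.mul_mem (hNE (hcN x hx.1 e (hEH he))) he
      · rw [show e = ⁅x⁻¹, x * e * x⁻¹⁆ * (x * e * x⁻¹) by rw [commutatorElement_def]; group]
        exact E.mul_mem (hNE (hcN _ (H.inv_mem hx.1) _ (hEH he))) he
    have hbad : ¬ (E ⊔ zpowers x) ⊓ Z ≤ N := fun h => hxE (hmax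
      ⟨le_sup_of_le_left hNE, sup_le hEK (zpowers_le.2 hx), h⟩ le_sup_left
      (mem_sup_right (mem_zpowers x)))
    obtain ⟨u, ⟨huE, huZ⟩, huN⟩ := SetLike.not_le_iff_exists.1 hbad
    obtain ⟨e, he, m, rfl⟩ := mem_sup_zpowers hxn huE
    have hm : ¬ (p : ℤ) ∣ m := by
      rintro ⟨l, rfl⟩
      refine huN (hEZ ⟨E.mul_mem he ?_, huZ⟩)
      rw [zpow_mul, zpow_natCast]
      exact Subgroup.zpow_mem _ (hNE hx.2) l
    obtain ⟨a, b, hab⟩ := ((Nat.prime_iff_prime_int.1 hp.out).coprime_iff_not_dvd.2 hm)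
    -- `x = (x ^ p) ^ a * (x ^ m) ^ b`
    have hxm : Commute e⁻¹ (e * x ^ m) := hZcom _ huZ _ (H.inv_mem (hEH he))
    refine ⟨(x ^ p) ^ a * e⁻¹ ^ b, E.mul_mem (Subgroup.zpow_mem _ (hNE hx.2) a)
      (Subgroup.zpow_mem _ (E.inv_mem he) b), (e * x ^ m) ^ b, Subgroup.zpow_mem _ huZ b, ?_⟩
    rw [mul_assoc, ← hxm.mul_zpow, inv_mul_cancel_left, ← zpow_natCast x p, ← zpow_mul,
      ← zpow_mul, ← zpow_add, mul_comm _ a, mul_comm m b, hab, zpow_one]
  have hEC : E ⊓ centralizer (E : Set G) = N := by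
    refine le_antisymm (fun u hu => hEZ ⟨hu.1, hKZ ⟨hEK hu.1, mem_centralizer_iff.2 ?_⟩⟩)
      fun n hn => ⟨hNE hn, mem_centralizer_iff.2 fun e _ => mem_center_iff.1 (hNc hn) e⟩
    intro y hy
    obtain ⟨e, he, z, hz, rfl⟩ := hKE y hy
    exact ((Commute.mul_left (mem_centralizer_iff.1 hu.2 e he)
      ((hZcom z hz u (hEH hu.1)).symm))).eq
  refine ⟨E, hNE, hEH, hEC, fun x hx => (hEK hx).2,
    fun a ha b hb => hcN a (hEH ha) b (hEH hb), fun g hg => ?_⟩
  -- the centralizer of `E` in `H` is `Z`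
  obtain ⟨e, he, t, ht, rfl⟩ := comm_split hG hNc hNp hNE hEH
    (fun h hh x hx => hcN h hh x (hEH hx)) hEC g hg
  refine ⟨e, he, t, ?_, rfl⟩
  have hTK : ∀ s ∈ H ⊓ centralizer (E : Set G), s ∈ K → s ∈ Z := by
    intro s hs hsK
    refine hKZ ⟨hsK, mem_centralizer_iff.2 fun y hy => ?_⟩
    obtain ⟨e', he', z, hz, rfl⟩ := hKE y hy
    exact ((Commute.mul_left (mem_centralizer_iff.1 hs.2 e' he')
      ((hZcom z hz s hs.1).symm))).eq
  by_cases hk1 : k ≤ 1
  · exact hTK t ht ((hsmall hk1).2 ht.1)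
  have hpN : N ≤ zpowers ((c : G) ^ p) := by
    intro n hn
    refine cyclic_mem_zpowers hcyc (hNZ hn) (Z.pow_mem c.2 p) ?_
    refine (orderOf_dvd_of_pow_eq_one (hNpow n hn)).trans ?_
    rw [orderOf_pow_of_dvd hp.out.ne_zero (hk ▸ dvd_pow_self p (by omega)), hk]
    obtain ⟨k', rfl⟩ : ∃ k', k = k' + 1 := ⟨k - 1, by omega⟩
    rw [pow_succ, Nat.mul_div_cancel _ hp.out.pos]
    exact dvd_pow_self p (by omega)
  have hdiv : ∀ s ∈ H ⊓ centralizer (E : Set G), s ^ p ∈ zpowers ((c : G) ^ p) → s ∈ Z := by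
    intro s hs hsp
    obtain ⟨j, hj⟩ := hsp
    change ((c : G) ^ p) ^ j = s ^ p at hj
    have hz : ((c : G) ^ j)⁻¹ ∈ Z := Z.inv_mem (Subgroup.zpow_mem _ c.2 j)
    have hmem : s * ((c : G) ^ j)⁻¹ ∈ Z := by
      refine hTK _ ⟨H.mul_mem hs.1 hz.1, mem_centralizer_iff.2 fun e he => ?_⟩
        ⟨H.mul_mem hs.1 hz.1, ?_⟩
      · exact (Commute.mul_right (mem_centralizer_iff.1 hs.2 e he) (hZcom _ hz e (hEH he))).eq
      · rw [(hZcom _ hz s hs.1).mul_pow, inv_pow, ← zpow_natCast ((c : G) ^ j),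
          zpow_comm, zpow_natCast, hj, mul_inv_cancel]
        exact N.one_mem
    have := Z.mul_mem hmem (Z.inv_mem hz)
    rwa [inv_inv, inv_mul_cancel_right] at this
  by_contra htZ
  obtain ⟨j, hj⟩ := hcZ _ (hpow t ht.1)
  have hjp : ¬ (p : ℤ) ∣ j := by
    rintro ⟨l, rfl⟩
    exact htZ (hdiv t ht ⟨l, by show ((c : G) ^ p) ^ l = t ^ p; rw [← hj, zpow_mul, zpow_natCast]⟩)
  obtain ⟨a, b, hab⟩ := ((Nat.prime_iff_prime_int.1 hp.out).coprime_iff_not_dvd.2 hjp)
  refine htZ ⟨ht.1, mem_centralizer_iff.2 fun y hy => ?_⟩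
  obtain ⟨e', he', s, hs, rfl⟩ := comm_split hG hNc hNp hNE hEH
    (fun h hh x hx => hcN h hh x (hEH hx)) hEC y hy
  suffices hcs : Commute s t by
    exact ((Commute.mul_left (mem_centralizer_iff.1 ht.2 e' he') hcs)).eq
  obtain ⟨l, hl⟩ := hcZ _ (hpow s hs.1)
  have hw : s * t ^ (-(l * b)) ∈ H ⊓ centralizer (E : Set G) :=
    Subgroup.mul_mem _ hs (Subgroup.zpow_mem _ ht _)
  have hwZ : s * t ^ (-(l * b)) ∈ Z := by
    refine hdiv _ hw ?_
    rw [(comm_class_pow hs.1 (Subgroup.zpow_mem _ ht.1 _)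
      fun g hg => hZcom _ (hcomm _ (Subgroup.zpow_mem _ ht.1 _) s hs.1) g hg).1]
    refine Subgroup.mul_mem _ ⟨l * a, ?_⟩
      (Subgroup.pow_mem _ (hpN (hcN _ (Subgroup.zpow_mem _ ht.1 _) s hs.1)) _)
    show ((c : G) ^ p) ^ (l * a) = s ^ p * (t ^ (-(l * b))) ^ p
    rw [← hl, ← zpow_natCast (t ^ (-(l * b))), zpow_comm, zpow_natCast, ← hj, ← zpow_natCast,
      ← zpow_mul, ← zpow_mul, ← zpow_add]
    congr 1
    linear_combination l * hab
  have h1 : Commute (s * t ^ (-(l * b))) t := (hZcom _ hwZ t ht.1).symm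
  have h2 : Commute ((t ^ (-(l * b)))⁻¹) t := ((Commute.refl t).zpow_left _).inv_left
  simpa using h1.mul_left h2

theorem inner_facts (hG : IsPGroup p G) {N Z M : Subgroup G} (hZM : Z ≤ M)
    (hN : N ≤ center G) {c : G} (hcZ : Z = zpowers c) (hnorm : ∀ g : G, g * c * g⁻¹ ∈ Z)
    (hNmem : ∀ x ∈ Z, x ^ p = 1 → x ∈ N) (hNP : N ≤ zpowers (c ^ p))
    (hP : ∀ m ∈ M, Commute m (c ^ p)) (hidx : Z.relIndex M = p)
    (hself : ∀ m ∈ M, Commute m c → m ∈ Z) :
    (∀ a ∈ M, a ^ p ∈ zpowers (c ^ p)) ∧ (∀ a ∈ M, ∀ b ∈ M, ⁅a, b⁆ ∈ N) ∧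
      M ⊓ centralizer (M : Set G) ≤ zpowers (c ^ p) := by
  have hp' := hp.out
  haveI hZn : Z.Normal := ⟨fun y hy g => by
    rw [hcZ] at hy
    obtain ⟨i, rfl⟩ := hy
    show g * c ^ i * g⁻¹ ∈ Z
    rw [← conj_zpow]
    exact Subgroup.zpow_mem _ (hnorm g) i⟩
  have hidx' : (Z.subgroupOf M).index = p := hidx
  haveI : (Z.subgroupOf M).Normal := inferInstance
  have hpowZ : ∀ a ∈ M, a ^ p ∈ Z := by
    intro a ha
    have := (Z.subgroupOf M).pow_index_mem (⟨a, ha⟩ : ↥M)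
    rw [hidx'] at this
    exact this
  obtain ⟨m₀, hm₀M, hm₀Z⟩ := SetLike.not_le_iff_exists.1
    (fun hle : M ≤ Z => hp'.ne_one (hidx ▸ relIndex_eq_one.2 hle))
  have hnc : ¬ Commute m₀ c := fun h => hm₀Z (hself m₀ hm₀M h)
  -- powers of `c` commuting with an element of `M` outside `Z` lie in `⟨c ^ p⟩`
  have hpart : ∀ a ∈ M, a ∉ Z → ∀ i : ℤ, Commute a (c ^ i) → c ^ i ∈ zpowers (c ^ p) := by
    intro a ha haZ i hai
    by_cases hpi : (p : ℤ) ∣ i
    · obtain ⟨l, rfl⟩ := hpi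
      exact ⟨l, by show (c ^ p) ^ l = c ^ ((p : ℤ) * l); rw [zpow_mul, zpow_natCast]⟩
    obtain ⟨u, v, huv⟩ := ((Nat.prime_iff_prime_int.1 hp').coprime_iff_not_dvd.2 hpi)
    refine absurd (hself a ha ?_) haZ
    rw [show c = (c ^ p) ^ u * (c ^ i) ^ v by
      rw [← zpow_natCast, ← zpow_mul, ← zpow_mul, ← zpow_add, mul_comm _ u, mul_comm i v, huv,
        zpow_one]]
    exact ((hP a ha).zpow_right u).mul_right (hai.zpow_right v)
  have hpow : ∀ a ∈ M, a ^ p ∈ zpowers (c ^ p) := by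
    intro a ha
    have haZ := hpowZ a ha
    rw [hcZ] at haZ
    obtain ⟨i, hi⟩ := haZ
    change c ^ i = a ^ p at hi
    by_cases ha' : a ∈ Z
    · rw [hcZ] at ha'
      obtain ⟨j, rfl⟩ := ha'
      exact ⟨j, by show (c ^ p) ^ j = (c ^ j) ^ p; simp only [← zpow_natCast, ← zpow_mul, mul_comm]⟩
    rw [← hi]
    exact hpart a ha ha' i (hi ▸ (Commute.refl a).pow_right p)
  have hcz : ∀ a ∈ M, ∀ z ∈ Z, ⁅a, z⁆ ∈ N := by
    intro a ha z hz
    have h1 : a * z * a⁻¹ ∈ Z := hZn.conj_mem z hz a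
    refine hNmem _ (Z.mul_mem h1 (Z.inv_mem hz)) ?_
    have hzp : Commute a (z ^ p) := by
      rw [hcZ] at hz
      obtain ⟨j, rfl⟩ := hz
      show Commute a ((c ^ j) ^ p)
      rw [← zpow_natCast, zpow_comm, zpow_natCast]
      exact (hP a ha).zpow_right j
    have hcom : Commute (a * z * a⁻¹) z⁻¹ := by
      have h2 := h1
      rw [hcZ] at h2 hz
      obtain ⟨i, hi⟩ := h2
      obtain ⟨j, rfl⟩ := hz
      rw [← hi]
      exact (Commute.zpow_zpow (Commute.refl c) i j).inv_right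
    show (a * z * a⁻¹ * z⁻¹) ^ p = 1
    rw [hcom.mul_pow, conj_pow_eq, inv_pow, hzp.eq, mul_inv_cancel_right, mul_inv_cancel]
  have hcomm : ∀ a ∈ M, ∀ b ∈ M, ⁅a, b⁆ ∈ N := by
    intro a ha b hb
    by_cases ha' : a ∈ Z
    · rw [← commutatorElement_inv]; exact N.inv_mem (hcz b hb a ha')
    have hne : QuotientGroup.mk' (Z.subgroupOf M) ⟨a, ha⟩ ≠ 1 := fun h =>
      ha' ((QuotientGroup.eq_one_iff (N := Z.subgroupOf M) ⟨a, ha⟩).1 h)
    have hcard : Nat.card (↥M ⧸ Z.subgroupOf M) = p := hidx'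
    have htop := zpowers_eq_top_of_prime_card hcard hne
    have hbm : QuotientGroup.mk' (Z.subgroupOf M) ⟨b, hb⟩ ∈
        zpowers (QuotientGroup.mk' (Z.subgroupOf M) ⟨a, ha⟩) := htop ▸ mem_top _
    obtain ⟨k, hk⟩ := hbm
    change (QuotientGroup.mk' (Z.subgroupOf M) ⟨a, ha⟩) ^ k = _ at hk
    rw [← map_zpow] at hk
    have hz : (a ^ k)⁻¹ * b ∈ Z :=
      (QuotientGroup.eq (s := Z.subgroupOf M) (a := (⟨a, ha⟩ : ↥M) ^ k) (b := ⟨b, hb⟩)).1 hk
    have hk' := hcz a ha _ hz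
    rw [show ⁅a, b⁆ = a ^ k * ⁅a, (a ^ k)⁻¹ * b⁆ * (a ^ k)⁻¹ by
      simp only [commutatorElement_def]; group]
    rw [mem_center_iff.1 (hN hk') (a ^ k), mul_inv_cancel_right]
    exact hk'
  refine ⟨hpow, hcomm, fun u hu => ?_⟩
  have huZ : u ∈ Z := hself u hu.1 (mem_centralizer_iff.1 hu.2 c (hZM (hcZ ▸ mem_zpowers c))).symm
  rw [hcZ] at huZ
  obtain ⟨i, rfl⟩ := huZ
  exact hpart m₀ hm₀M hm₀Z i (mem_centralizer_iff.1 hu.2 m₀ hm₀M)

theorem main (hG : IsPGroup p G)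
    (hsymp : ∀ A : Subgroup G, A.Characteristic → IsMulCommutative A → IsCyclic A) :
    ∃ E R : Subgroup G, (∀ e ∈ E, ∀ r ∈ R, e * r = r * e) ∧ E ⊔ R = ⊤ ∧
      (E = ⊥ ∨ Cfsg.IsExtraspecial p ↥E) ∧ (IsCyclic R ∨ (p = 2 ∧ 16 ≤ Nat.card R ∧
        ((∃ m : ℕ, Nonempty (↥R ≃* DihedralGroup m)) ∨ (∃ m : ℕ, Nonempty (↥R ≃* QuaternionGroup m))
          ∨ Cfsg.IsQuasiDihedral ↥R))) := by
  have hp' := hp.out
  obtain ⟨H, hHc, hpow, hcr, hCH⟩ := CfsgLib.Transfer.exists_critical hG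
  haveI := hHc
  set Z := H ⊓ centralizer (H : Set G) with hZ
  have hcyc : IsCyclic Z := hsymp Z inferInstance
    ⟨⟨fun a b => Subtype.ext (mem_centralizer_iff.1 b.2.2 a a.2.1)⟩⟩
  by_cases hZb : Z = ⊥
  · have hC : centralizer (H : Set G) = ⊥ := by
      rw [← hZb, hZ, inf_eq_right.2 hCH]
    have hcen : center G = ⊥ := le_bot_iff.1 (hC ▸ center_le_centralizer _)
    have : Subsingleton G := by
      by_contra h
      haveI : Nontrivial G := not_subsingleton_iff_nontrivial.1 h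
      exact hG.bot_lt_center.ne' hcen
    refine ⟨⊥, ⊤, fun e he r _ => Subsingleton.elim _ _, bot_sup_eq _, Or.inl rfl,
      Or.inl ⟨⟨1, fun x => ⟨0, Subsingleton.elim _ _⟩⟩⟩⟩
  obtain ⟨z₀, hz₀, hoz₀⟩ := exists_orderOf_eq hG hZb
  set N := zpowers z₀ with hN
  have hNp : Nat.card N = p := by rw [hN, Nat.card_zpowers, hoz₀]
  have hNZ : N ≤ Z := zpowers_le.2 hz₀
  have hNmem : ∀ x ∈ Z, x ^ p = 1 → x ∈ N := fun x hx hxp =>
    cyclic_mem_zpowers hcyc hx hz₀ (hoz₀ ▸ orderOf_dvd_of_pow_eq_one hxp)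
  have hNpow : ∀ n ∈ N, n ^ p = 1 := fun n hn =>
    congrArg Subtype.val (hNp ▸ pow_card_eq_one' (x := (⟨n, hn⟩ : ↥N)) :)
  haveI hZn : Z.Normal := inferInstance
  haveI hNn : N.Normal := ⟨fun n hn g => hNmem _ (hZn.conj_mem n (hNZ hn) g)
    (by rw [conj_pow_eq, hNpow n hn, mul_one, mul_inv_cancel])⟩
  have hNc : N ≤ center G := le_center_of_card_eq hG N hNp
  obtain ⟨E, hNE, hEH, hEC, hEpow, hEcom, hHEZ⟩ := class_two_structure hG hsymp H N hNc hNp hNZ hpow
    (fun a ha b _ => hcr (commutator_mem_commutator ha (mem_top b)))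
  have hEZc : ∀ e ∈ E, ∀ z ∈ Z, Commute e z := fun e he z hz =>
    mem_centralizer_iff.1 hz.2 e (hEH he)
  have hgE : ∀ g : G, ∀ x ∈ E, ⁅g, x⁆ ∈ N := by
    intro g x hx
    have hxg : ⁅x, g⁆ ∈ Z := hcr (commutator_mem_commutator (hEH hx) (mem_top g))
    rw [← commutatorElement_inv]
    refine N.inv_mem (hNmem _ hxg ?_)
    -- `x ^ p` is central
    have h1 : ∀ n : ℕ, ⁅x ^ n, g⁆ = ⁅x, g⁆ ^ n := by
      intro n
      induction n with
      | zero => simp
      | succ n ih =>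
        rw [pow_succ', commutatorElement_mul_left_eq_conj_mul, ih,
          ((hEZc x hx _ (Z.pow_mem hxg n))).eq, mul_inv_cancel_right, pow_succ]
    rw [← h1]
    exact commutatorElement_eq_one_iff_commute.2
      (mem_center_iff.1 (hNc (hEpow x hx)) g).symm
  set R := centralizer (E : Set G) with hR
  have hsplit : ∀ g : G, ∃ e ∈ E, ∃ r ∈ R, g = e * r := by
    intro g
    obtain ⟨e, he, t, ht, h⟩ := comm_split hG hNc hNp hNE le_top (fun h _ x hx => hgE h x hx) hEC g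
      (mem_top g)
    exact ⟨e, he, t, ht.2, h⟩
  have hER : E ⊔ R = ⊤ := eq_top_iff.2 fun g _ => by
    obtain ⟨e, he, r, hr, rfl⟩ := hsplit g
    exact mul_mem_sup he hr
  have hZR : Z ≤ R := fun z hz => mem_centralizer_iff.2 fun e he => (hEZc e he z hz).eq
  have hRZ : ∀ r ∈ R, (∀ z ∈ Z, Commute r z) → r ∈ Z := by
    intro r hr hc
    have : r ∈ centralizer (H : Set G) := mem_centralizer_iff.2 fun h hh => by
      obtain ⟨e, he, z, hz, rfl⟩ := hHEZ h hh
      exact (Commute.mul_left (mem_centralizer_iff.1 hr e he) (hc z hz).symm).eq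
    exact ⟨hCH this, this⟩
  -- the output in the main case
  have hEout : E = N ∨ Cfsg.IsExtraspecial p ↥E := by
    by_cases h : E = N
    · exact Or.inl h
    right
    have hmemc : ∀ x : ↥E, (x : G) ∈ N → x ∈ center ↥E := fun x hx =>
      mem_center_iff.2 fun y => Subtype.ext (mem_center_iff.1 (hNc hx) y)
    refine isExtraspecial_mk (hG.to_subgroup E) ?_ ?_ (fun a b => hmemc _ (hEcom a a.2 b b.2))
      (fun a => hmemc _ (hEpow a a.2))
    · have he : center ↥E = N.subgroupOf E := by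
        refine le_antisymm (fun x hx => ?_) fun x hx => hmemc x hx
        rw [mem_subgroupOf, ← hEC]
        exact ⟨x.2, mem_centralizer_iff.2 fun e he =>
          congrArg Subtype.val (mem_center_iff.1 hx ⟨e, he⟩)⟩
      rw [he, Nat.card_congr (subgroupOfEquivOfLe hNE).toEquiv, hNp]
    · intro hc
      refine h (le_antisymm ?_ hNE)
      rw [← hEC]
      exact fun x hx => ⟨hx, mem_centralizer_iff.2 fun e he =>
        congrArg Subtype.val (hc.is_comm.comm (⟨e, he⟩ : ↥E) ⟨x, hx⟩)⟩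
  have hfinish : (IsCyclic R ∨ (p = 2 ∧ 16 ≤ Nat.card R ∧
        ((∃ m : ℕ, Nonempty (↥R ≃* DihedralGroup m)) ∨ (∃ m : ℕ, Nonempty (↥R ≃* QuaternionGroup m))
          ∨ Cfsg.IsQuasiDihedral ↥R))) →
      ∃ E R : Subgroup G, (∀ e ∈ E, ∀ r ∈ R, e * r = r * e) ∧ E ⊔ R = ⊤ ∧
      (E = ⊥ ∨ Cfsg.IsExtraspecial p ↥E) ∧ (IsCyclic R ∨ (p = 2 ∧ 16 ≤ Nat.card R ∧
        ((∃ m : ℕ, Nonempty (↥R ≃* DihedralGroup m)) ∨ (∃ m : ℕ, Nonempty (↥R ≃* QuaternionGroup m))
          ∨ Cfsg.IsQuasiDihedral ↥R))) := by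
    intro hRout
    rcases hEout with h | h
    · refine ⟨⊥, R, fun e he r _ => by rw [mem_bot.1 he, one_mul, mul_one], ?_, Or.inl rfl, hRout⟩
      rw [bot_sup_eq, ← hER]
      exact (sup_eq_right.2 (h ▸ hNZ.trans hZR)).symm
    · exact ⟨E, R, fun e he r hr => mem_centralizer_iff.1 hr e he, hER, Or.inr h, hRout⟩
  by_cases hna : IsMulCommutative ↥R
  · refine hfinish (Or.inl ?_)
    have : R = Z := le_antisymm (fun r hr => hRZ r hr fun z hz =>
      congrArg Subtype.val (hna.is_comm.comm (⟨r, hr⟩ : ↥R) ⟨z, hZR hz⟩)) hZR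
    rw [this]; exact hcyc
  obtain ⟨c₀, hc₀⟩ := isCyclic_iff_exists_zpowers_eq_top.1 hcyc
  set c : G := (c₀ : G) with hc
  have hZc : Z = zpowers c := by
    refine le_antisymm (fun z hz => ?_) (zpowers_le.2 c₀.2)
    have h : (⟨z, hz⟩ : ↥Z) ∈ zpowers c₀ := hc₀ ▸ mem_top _
    obtain ⟨i, hi⟩ := h
    exact ⟨i, congrArg Subtype.val hi⟩
  have hccomm : ∀ r : G, Commute r c → ∀ z ∈ Z, Commute r z := by
    intro r h z hz
    rw [hZc] at hz
    obtain ⟨i, rfl⟩ := hz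
    exact h.zpow_right i
  obtain ⟨n, hn⟩ := IsPGroup.iff_orderOf.1 hG c
  have hcard : Nat.card Z = p ^ n := by rw [hZc, Nat.card_zpowers, hn]
  have hn2 : 2 ≤ n := by
    by_contra hlt
    have hle : Z ≤ center G := by
      refine le_trans (fun z hz => hNmem z hz ?_) hNc
      have h1 : Nat.card Z ∣ p := hcard ▸ (pow_dvd_pow p (by omega : n ≤ 1)).trans (pow_one p).dvd
      exact congrArg Subtype.val (orderOf_dvd_iff_pow_eq_one.1
        ((_root_.orderOf_dvd_natCard (⟨z, hz⟩ : ↥Z)).trans h1))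
    refine hna ⟨⟨fun a b => Subtype.ext ?_⟩⟩
    have hb : (b : G) ∈ Z := hRZ b b.2 fun z hz => mem_center_iff.1 (hle hz) b
    exact mem_center_iff.1 (hle hb) a
  set P := zpowers (c ^ p) with hP
  have hPZ : P ≤ Z := zpowers_le.2 (Z.pow_mem c₀.2 p)
  have hNP : N ≤ P := by
    intro m hm
    refine cyclic_mem_zpowers hcyc (hNZ hm) (Z.pow_mem c₀.2 p) ?_
    refine (orderOf_dvd_of_pow_eq_one (hNpow m hm)).trans ?_
    rw [orderOf_pow_of_dvd hp'.ne_zero (hn ▸ dvd_pow_self p (by omega)), hn]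
    obtain ⟨k', rfl⟩ : ∃ k', n = k' + 1 := ⟨n - 1, by omega⟩
    rw [pow_succ, Nat.mul_div_cancel _ hp'.pos]
    exact dvd_pow_self p (by omega)
  haveI hPch : P.Characteristic := by
    refine characteristic_iff_le_comap.2 fun φ x hx => ?_
    obtain ⟨i, rfl⟩ := hx
    have h : c ∈ Z := c₀.2
    rw [← (inferInstance : Z.Characteristic).fixed φ] at h
    have h' : φ c ∈ zpowers c := hZc ▸ h
    obtain ⟨l, hl⟩ := h'
    change c ^ l = φ c at hl
    refine ⟨l * i, ?_⟩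
    show (c ^ p) ^ (l * i) = φ ((c ^ p) ^ i)
    rw [map_zpow, map_pow, ← hl]
    simp only [← zpow_natCast, ← zpow_mul]
    congr 1
    ring
  set M := R ⊓ centralizer (P : Set G) with hM
  haveI hZRn : (Z.subgroupOf R).Normal := inferInstance
  have hcardU : Nat.card (Z.subgroupOf R) = p ^ n := by
    rw [Nat.card_congr (subgroupOfEquivOfLe hZR).toEquiv, hcard]
  have hUC : centralizer ((Z.subgroupOf R : Subgroup ↥R) : Set ↥R) = Z.subgroupOf R := by
    refine le_antisymm (fun (r : ↥R) hr => mem_subgroupOf.2 (hRZ r r.2 fun z hz => ?_)) ?_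
    · exact (congrArg Subtype.val (mem_centralizer_iff.1 hr ⟨z, hZR hz⟩ hz)).symm
    · intro r hr
      refine mem_centralizer_iff.2 fun y hy => Subtype.ext ?_
      exact mem_centralizer_iff.1 (mem_subgroupOf.1 hr).2 y (mem_subgroupOf.1 hy).1
  have hUcyc : IsCyclic (Z.subgroupOf R) :=
    (subgroupOfEquivOfLe hZR).isCyclic.2 hcyc
  have hcenU : centralizer (Cfsg.powerClosure p 1 (Z.subgroupOf R) : Set ↥R) =
      (centralizer (P : Set G)).subgroupOf R := by
    ext g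
    rw [mem_subgroupOf, mem_centralizer_iff, mem_centralizer_iff]
    constructor
    · intro h y hy
      obtain ⟨i, rfl⟩ := hy
      have h1 := h (⟨c, hZR c₀.2⟩ ^ p) (Subgroup.subset_closure ⟨⟨c, hZR c₀.2⟩, c₀.2, by rw [pow_one]⟩)
      have h2 : Commute (c ^ p) (g : G) := congrArg Subtype.val h1
      exact (h2.zpow_left i).eq
    · intro h y hy
      have : Cfsg.powerClosure p 1 (Z.subgroupOf R) ≤ centralizer ({g} : Set ↥R) := by
        refine (Subgroup.closure_le _).2 ?_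
        rintro _ ⟨x, hx, rfl⟩
        refine mem_centralizer_singleton_iff.2 (Subtype.ext ?_)
        have hx' : (x : G) ∈ zpowers c := hZc ▸ hx
        obtain ⟨i, hi⟩ := hx'
        change c ^ i = (x : G) at hi
        refine h _ ⟨i, ?_⟩
        show (c ^ p) ^ i = ((x ^ p ^ 1 : ↥R) : G)
        rw [SubmonoidClass.coe_pow, ← hi, pow_one]
        simp only [← zpow_natCast, ← zpow_mul, mul_comm]
      exact mem_centralizer_singleton_iff.1 (this hy)
  have hS := S3761.result (hG.to_subgroup R) hna (Z.subgroupOf R) hUcyc n hcardU hUC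
  have hrel : Z.relIndex M = p ∨ (p = 2 ∧ 3 ≤ n) := by
    rcases hS with ⟨h2, hcR, -⟩ | ⟨h1, -⟩
    · by_cases hn3 : 3 ≤ n
      · exact Or.inr ⟨h2, hn3⟩
      left
      have hMR : M = R := by
        rw [hM, inf_eq_left]
        intro r _
        refine mem_centralizer_iff.2 fun y hy => ?_
        have hPN : P ≤ N := zpowers_le.2 (hNmem _ (Z.pow_mem c₀.2 p) (by
          rw [← pow_mul, ← sq, show 2 = n by omega, ← hn, pow_orderOf_eq_one]))
        exact (mem_center_iff.1 (hNc (hPN hy)) r).symm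
      rw [hMR]
      have := (Z.subgroupOf R).card_mul_index
      rw [hcardU, hcR, pow_succ] at this
      show (Z.subgroupOf R).index = p
      subst h2
      exact Nat.eq_of_mul_eq_mul_left (by positivity) this
    · left
      rw [hcenU, ← inf_subgroupOf_left (centralizer (P : Set G)), relIndex_subgroupOf inf_le_left] at h1
      exact h1
  by_cases hsmallout : p = 2 ∧ 3 ≤ n ∧ Nat.card R = 2 ^ (n + 1) ∧
      ((∃ m : ℕ, Nonempty (↥R ≃* DihedralGroup m)) ∨ (∃ m : ℕ, Nonempty (↥R ≃* QuaternionGroup m))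
          ∨ Cfsg.IsQuasiDihedral ↥R)
  · obtain ⟨h2, hn3, hcR, hshape⟩ := hsmallout
    refine hfinish (Or.inr ⟨h2, ?_, hshape⟩)
    rw [hcR]
    calc 16 = 2 ^ 4 := by norm_num
      _ ≤ 2 ^ (n + 1) := Nat.pow_le_pow_right (by norm_num) (by omega)
  have hidx : Z.relIndex M = p := by
    rcases hS with ⟨h2, hcR, hsh⟩ | ⟨h1, -⟩
    · rcases hrel with h | ⟨-, hn3⟩
      · exact h
      · exact absurd ⟨h2, hn3, hcR, hsh⟩ hsmallout
    · rw [hcenU, ← inf_subgroupOf_left (centralizer (P : Set G)), relIndex_subgroupOf inf_le_left] at h1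
      exact h1
  have hZM : Z ≤ M := le_inf hZR fun z hz => mem_centralizer_iff.2 fun y hy =>
    mem_centralizer_iff.1 hz.2 y (hPZ hy).1
  obtain ⟨hMpow, hMcom, hMcen⟩ := inner_facts hG hZM hNc hZc
    (fun g => hZn.conj_mem c c₀.2 g) hNmem hNP
    (fun m hm => (mem_centralizer_iff.1 hm.2 _ (mem_zpowers (c ^ p))).symm) hidx
    (fun m hm h => hRZ m hm.1 (hccomm m h))
  set Hc := centralizer (P : Set G) with hHc'
  have hPHc : P ≤ Hc := fun y hy => (hZM (hPZ hy)).2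
  have hdec : ∀ g ∈ Hc, ∃ e ∈ E, ∃ m ∈ M, g = e * m := by
    intro g hg
    obtain ⟨e, he, r, hr, rfl⟩ := hsplit g
    have he' : e ∈ Hc := mem_centralizer_iff.2 fun y hy => ((hEZc e he y (hPZ hy)).symm).eq
    refine ⟨e, he, r, ⟨hr, ?_⟩, rfl⟩
    have := Hc.mul_mem (Hc.inv_mem he') hg
    rwa [inv_mul_cancel_left] at this
  have hPin : P ≤ Hc ⊓ centralizer (Hc : Set G) := le_inf hPHc fun y hy =>
    mem_centralizer_iff.2 fun g hg => (mem_centralizer_iff.1 hg y hy).symm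
  have hHcom : ∀ a ∈ Hc, ∀ b ∈ Hc, ⁅a, b⁆ ∈ N := by
    intro a ha b hb
    obtain ⟨e, he, m, hm, rfl⟩ := hdec a ha
    obtain ⟨e', he', m', hm', rfl⟩ := hdec b hb
    have hcj : ∀ n ∈ N, ∀ g : G, g * n * g⁻¹ = n := fun n hn g => by
      rw [mem_center_iff.1 (hNc hn) g, mul_inv_cancel_right]
    rw [commutatorElement_mul_left_eq_conj_mul]
    refine N.mul_mem (hNn.conj_mem _ ?_ e) ?_
    · rw [commutatorElement_mul_right_eq_mul_conj]
      have h2 := hMcom m hm m' hm'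
      rw [mul_assoc ⁅m, e'⁆, mul_assoc ⁅m, e'⁆, hcj _ h2]
      exact N.mul_mem (hgE m e' he') h2
    · rw [← commutatorElement_inv]
      exact N.inv_mem (hgE _ e he)
  have hHpow : ∀ a ∈ Hc, a ^ p ∈ P := by
    intro a ha
    obtain ⟨e, he, m, hm, rfl⟩ := hdec a ha
    rw [(show Commute e m from mem_centralizer_iff.1 hm.1 e he).mul_pow]
    exact P.mul_mem (hNP (hEpow e he)) (hMpow m hm)
  have hHcen : Hc ⊓ centralizer (Hc : Set G) ≤ P := by
    intro u hu
    obtain ⟨e, he, m, hm, rfl⟩ := hdec u hu.1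
    have hEHc : E ≤ Hc := fun x hx => mem_centralizer_iff.2 fun y hy =>
      ((hEZc x hx y (hPZ hy)).symm).eq
    have hecen : e ∈ N := by
      rw [← hEC]
      refine ⟨he, mem_centralizer_iff.2 fun x hx => ?_⟩
      have h1 : Commute x (e * m) := mem_centralizer_iff.1 hu.2 x (hEHc hx)
      have h2 : Commute x m := mem_centralizer_iff.1 hm.1 x hx
      simpa using (h1.mul_right h2.inv_right).eq
    refine P.mul_mem (hNP hecen) (hMcen ⟨hm, mem_centralizer_iff.2 fun y hy => ?_⟩)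
    have h1 : Commute y (e * m) := mem_centralizer_iff.1 hu.2 y hy.2
    have h2 : Commute y e := mem_center_iff.1 (hNc hecen) y
    simpa [mul_assoc] using (h2.inv_right.mul_right h1).eq
  haveI : Hc.Characteristic := inferInstance
  by_cases hn3 : 3 ≤ n
  · exfalso
    obtain ⟨E₂, -, -, -, hE₂pow, -, hE₂⟩ := class_two_structure hG hsymp Hc N hNc hNp
      (hNP.trans hPin) (fun x hx => hPin (hHpow x hx))
      (fun a ha b hb => hPin (hNP (hHcom a ha b hb)))
    obtain ⟨e, he, q, hq, hcq⟩ := hE₂ c (hZM c₀.2).2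
    obtain ⟨i, hi⟩ := hHcen hq
    change (c ^ p) ^ i = q at hi
    have hc2 : ∀ n ∈ N, ∃ j : ℤ, n = (c ^ p ^ 2) ^ j := by
      intro m hm
      have h := cyclic_mem_zpowers hcyc (hNZ hm) (Z.pow_mem c₀.2 (p ^ 2)) ?_
      · obtain ⟨j, hj⟩ := h; exact ⟨j, hj.symm⟩
      refine (orderOf_dvd_of_pow_eq_one (hNpow m hm)).trans ?_
      rw [orderOf_pow_of_dvd (pow_ne_zero _ hp'.ne_zero) (hn ▸ pow_dvd_pow p (by omega)), hn,
        Nat.pow_div (by omega : 2 ≤ n) hp'.pos]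
      exact dvd_pow_self p (by omega)
    have hep : Commute e q := by
      rw [← hi]
      refine Commute.zpow_right ?_ i
      have : e = c * q⁻¹ := by rw [hcq, mul_inv_cancel_right]
      rw [this, ← hi, ← zpow_natCast, ← zpow_mul, ← zpow_neg]
      exact ((Commute.refl c).mul_left ((Commute.refl c).zpow_left _)).zpow_right _
    obtain ⟨j, hj⟩ := hc2 _ (hE₂pow e he)
    have heq : c ^ p = (c ^ p ^ 2) ^ (j + i) := by
      conv_lhs => rw [hcq, hep.mul_pow, hj, ← hi]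
      rw [zpow_add]
      congr 1
      simp only [← zpow_natCast, ← zpow_mul]
      congr 1
      push_cast
      ring
    have h1 : c ^ ((p : ℤ) * (1 - p * (j + i))) = 1 := by
      rw [mul_sub, mul_one, zpow_sub, zpow_natCast, heq, ← zpow_natCast, ← zpow_mul]
      rw [mul_inv_eq_one]
      congr 1
      push_cast
      ring
    have h2 := orderOf_dvd_iff_zpow_eq_one.2 h1
    rw [hn, show n = (n - 1) + 1 by omega, pow_succ'] at h2
    push_cast at h2
    have h3 := (mul_dvd_mul_iff_left (by exact_mod_cast hp'.ne_zero)).1 h2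
    have h4 : (p : ℤ) ∣ 1 - p * (j + i) := (dvd_pow_self _ (by omega)).trans h3
    have h5 : (p : ℤ) ∣ 1 := by
      have := dvd_add h4 (dvd_mul_right (p : ℤ) (j + i))
      rwa [sub_add_cancel] at this
    exact hp'.ne_one (Nat.dvd_one.1 (by exact_mod_cast h5))
  · -- `G` is extraspecial
    have hn' : n = 2 := by omega
    have hPN : P ≤ N := zpowers_le.2 (hNmem _ (Z.pow_mem c₀.2 p) (by
      rw [← pow_mul, ← sq, ← hn', ← hn, pow_orderOf_eq_one]))
    have htop : Hc = ⊤ := eq_top_iff.2 fun g _ => mem_centralizer_iff.2 fun y hy =>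
      (mem_center_iff.1 (hNc (hPN hy)) g).symm
    have hcen : center G = N := by
      refine le_antisymm (fun u hu => hPN (hHcen ⟨htop ▸ mem_top u, ?_⟩)) hNc
      exact center_le_centralizer _ hu
    have hex : Cfsg.IsExtraspecial p G := by
      refine isExtraspecial_mk hG (hcen ▸ hNp) (fun h => hna
        ⟨⟨fun a b => Subtype.ext (h.is_comm.comm (a : G) b)⟩⟩)
        (fun a b => hcen ▸ hHcom a (htop ▸ mem_top a) b (htop ▸ mem_top b))
        (fun a => hcen ▸ hPN (hHpow a (htop ▸ mem_top a)))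
    have hcen'' : Nat.card (center G) = Nat.card (center ↥(⊤ : Subgroup G)) :=
      Nat.card_congr (centerCongr topEquiv.symm).toEquiv
    refine ⟨⊤, ⊥, fun e _ r hr => by rw [mem_bot.1 hr, one_mul, mul_one], by simp,
      Or.inr ?_, Or.inl inferInstance⟩
    exact CfsgLib.PGroup.isExtraspecial_mk (hG.to_subgroup ⊤)
      (by rw [← hcen'', hex.2]) (fun h => extraspecial_not_comm hex
        ⟨⟨fun a b => congrArg Subtype.val (h.is_comm.comm (⟨a, mem_top a⟩ : ↥(⊤ : Subgroup G)) ⟨b, mem_top b⟩)⟩⟩)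
      (fun a b => mem_center_iff.2 fun g => Subtype.ext
        (mem_center_iff.1 (special_comm_mem_center hex.1 (a : G) b) g))
      (fun a => mem_center_iff.2 fun g => Subtype.ext
        (mem_center_iff.1 (special_pow_mem_center hex.1 (a : G)) g))

end

/-- Let G be a finite p-group of symplectic type: every characteristic abelian subgroup of G is cyclic. Then G = E ∗ R is a central product of subgroups E and R (they commute elementwise and generate G) where E is extraspecial or trivial, and R is cyclic, or p = 2 and R is dihedral, semidihedral or generalized quaternion of order at least 16. -/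
theorem result {G : Type*} [Group G] [Finite G] {p : ℕ} [Fact p.Prime] (hG : IsPGroup p G) (hsymp : ∀ A : Subgroup G, A.Characteristic → IsMulCommutative A → IsCyclic A) : ∃ E R : Subgroup G, (∀ e ∈ E, ∀ r ∈ R, e * r = r * e) ∧ E ⊔ R = ⊤ ∧ (E = ⊥ ∨ Cfsg.IsExtraspecial p ↥E) ∧ (IsCyclic R ∨ (p = 2 ∧ 16 ≤ Nat.card R ∧ ((∃ m : ℕ, Nonempty (↥R ≃* DihedralGroup m)) ∨ (∃ m : ℕ, Nonempty (↥R ≃* QuaternionGroup m)) ∨ Cfsg.IsQuasiDihedral ↥R))) := by
  exact main hG hsymp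

end Cfsg.Agent.S3762
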