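import Cfsg.Statements.S3755
import Cfsg.Agent.Lib.LocalEven.DihedralCriterion
import Cfsg.Agent.Lib.LocalEven.CharP
import Cfsg.Agent.Lib.Solvable.Generation
import Cfsg.Agent.Lib.Solvable.NilpotentParts
import Cfsg.Agent.Lib.Cores.Basic

set_option autoImplicit false
open Cfsg

namespace Cfsg.Agent.S3755

open scoped commutatorElement

universe u

theorem dihedral_three_equiv : Nonempty (DihedralGroup 3 ≃* Equiv.Perm (Fin 3)) := by
  let f := CfsgLib.LocalEven.DihedralCrit.toGroup (p := 3) (Equiv.swap (0 : Fin 3) 1) (finRotate 3)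
    (by decide) (by decide) (by decide)
  have hf : Function.Injective f := by
    refine CfsgLib.LocalEven.DihedralCrit.toGroup_injective _ _ _ ?_ ?_
    · exact orderOf_eq_prime (by decide) (by decide)
    · intro h
      have h2 : orderOf (Equiv.swap (0 : Fin 3) 1) ∣ orderOf (finRotate 3) := by
        rw [← Nat.card_zpowers (finRotate 3)]
        exact Subgroup.orderOf_dvd_natCard _ h
      rw [orderOf_eq_prime (p := 2) (by decide) (by decide),
        orderOf_eq_prime (p := 3) (by decide) (by decide)] at h2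
      exact absurd h2 (by decide)
  refine ⟨MulEquiv.ofBijective f (hf.bijective_of_nat_card_le ?_)⟩
  rw [DihedralGroup.nat_card, Nat.card_eq_fintype_card, Fintype.card_perm, Fintype.card_fin]
  decide

theorem commute_of_commute_sq {G : Type u} [Group G] [Finite G] {x : G} (hx : Odd (orderOf x)) {v : G}
    (h : x ^ 2 * v = v * x ^ 2) : x * v = v * x := by
  obtain ⟨m, hm⟩ := hx
  have h1 : x = (x ^ 2) ^ (m + 1) := by
    rw [← pow_mul, show 2 * (m + 1) = orderOf x + 1 by omega, pow_succ, pow_orderOf_eq_one, one_mul]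
  have h2 : Commute (x ^ 2) v := h
  have h3 := h2.pow_left (m + 1)
  rw [← h1] at h3
  exact h3.eq

set_option maxHeartbeats 400000 in
theorem exists_inverted_three {X : Type u} [Group X] [Finite X] (M V K A : Subgroup X)
    (hV : ∀ v ∈ V, v * v = 1) (hVc : ∀ v ∈ V, ∀ w ∈ V, v * w = w * v)
    (hMV : M ≤ Subgroup.normalizer (V : Set X)) (hfaith : M ⊓ Subgroup.centralizer (V : Set X) = ⊥)
    (hKM : K ≤ M) (hKodd : Odd (Nat.card K)) (hMK : M ≤ Subgroup.normalizer (K : Set X))
    (hCK : M ⊓ Subgroup.centralizer (K : Set X) ≤ K)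
    (hAM : A ≤ M) (hA1 : ∀ a ∈ A, a * a = 1) (hAc : ∀ a ∈ A, ∀ b ∈ A, a * b = b * a)
    (hsmall : (V ⊓ Subgroup.centralizer (A : Set X)).relIndex V < Nat.card A ^ 2) :
    ∃ a ∈ M, ∃ x ∈ M, a * a = 1 ∧ orderOf x = 3 ∧ a * x * a⁻¹ = x⁻¹ := by
  classical
  haveI : Fact (Nat.Prime 2) := ⟨Nat.prime_two⟩
  obtain ⟨B, ⟨hBA, hBs⟩, hBmin⟩ := Set.Finite.exists_minimalFor (fun B : Subgroup X => Nat.card B)
    {B | B ≤ A ∧ (V ⊓ Subgroup.centralizer (B : Set X)).relIndex V < Nat.card B ^ 2}
    (Set.toFinite _) ⟨A, le_rfl, hsmall⟩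
  have hV2 : IsPGroup 2 V := fun v => ⟨1, Subtype.ext (by rw [pow_one, sq]; exact hV v v.2)⟩
  have hB2 : IsPGroup 2 B := fun v => ⟨1, Subtype.ext (by rw [pow_one, sq]; exact hA1 v (hBA v.2))⟩
  have hBne : B ≠ ⊥ := by
    rintro rfl
    rw [Subgroup.card_bot, one_pow, Nat.lt_one_iff] at hBs
    exact Subgroup.index_ne_zero_of_finite hBs
  have hBM : B ≤ M := hBA.trans hAM
  have hBK : B ≤ Subgroup.normalizer (K : Set X) := hBM.trans hMK
  have hBnc : ¬ K ≤ Subgroup.centralizer (B : Set X) := by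
    intro h
    apply hBne
    rw [Subgroup.eq_bot_iff_forall]
    intro b hb
    have hbK : b ∈ K := hCK ⟨hBM hb,
      Subgroup.mem_centralizer_iff.2 fun k hk => (Subgroup.mem_centralizer_iff.1 (h hk) b hb).symm⟩
    have h1 : orderOf b ∣ 2 := orderOf_dvd_of_pow_eq_one (by rw [sq]; exact hA1 b (hBA hb))
    exact orderOf_eq_one_iff.1 (Nat.eq_one_of_dvd_coprimes (Nat.coprime_two_left.2 hKodd) h1
      (Subgroup.orderOf_dvd_natCard K hbK))
  obtain ⟨B₁, -, ⟨hB₁B, hB₁⟩, hB₁max⟩ := Finite.exists_le_maximal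
    (p := fun B₁ : Subgroup X => B₁ ≤ B ∧
      ¬ K ⊓ Subgroup.centralizer (B₁ : Set X) ≤ Subgroup.centralizer (B : Set X)) (a := ⊥)
    ⟨bot_le, fun h => hBnc fun k hk => h ⟨hk, Subgroup.mem_centralizer_iff.2 fun g hg => by
      rw [Subgroup.mem_bot.1 hg]; simp⟩⟩
  set Kc := K ⊓ Subgroup.centralizer (B₁ : Set X) with hKc
  obtain ⟨k, hk, hknc⟩ := SetLike.not_le_iff_exists.1 hB₁
  rw [Subgroup.mem_centralizer_iff] at hknc
  push Not at hknc
  obtain ⟨a, haB, hak⟩ := hknc
  have haB₁ : a ∉ B₁ := fun h => hak (Subgroup.mem_centralizer_iff.1 hk.2 a h)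
  have hlt : ∀ b ∈ B, b ∉ B₁ →
      Kc ⊓ Subgroup.centralizer {b} ≤ Subgroup.centralizer (B : Set X) := by
    intro b hb hbn
    have hnot : ¬ (B₁ ⊔ Subgroup.zpowers b ≤ B ∧
        ¬ K ⊓ Subgroup.centralizer ((B₁ ⊔ Subgroup.zpowers b : Subgroup X) : Set X) ≤
          Subgroup.centralizer (B : Set X)) := fun h =>
      hbn ((hB₁max h le_sup_left) (Subgroup.mem_sup_right (Subgroup.mem_zpowers b)))
    have h2 := not_not.1 fun h => hnot ⟨sup_le hB₁B (Subgroup.zpowers_le.2 hb), h⟩
    intro y hy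
    refine h2 ⟨hy.1.1, ?_⟩
    have : B₁ ⊔ Subgroup.zpowers b ≤ Subgroup.centralizer {y} := by
      refine sup_le (fun g hg => Subgroup.mem_centralizer_singleton_iff.2
        (Subgroup.mem_centralizer_iff.1 hy.1.2 g hg)) (Subgroup.zpowers_le.2 ?_)
      exact Subgroup.mem_centralizer_singleton_iff.2 (Subgroup.mem_centralizer_singleton_iff.1 hy.2).symm
    exact Subgroup.mem_centralizer_iff.2 fun g hg => Subgroup.mem_centralizer_singleton_iff.1 (this hg)
  have hgen : B ≤ B₁ ⊔ Subgroup.zpowers a := by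
    intro b hb
    by_contra hbn
    have hb1 : b ∉ B₁ := fun h => hbn (Subgroup.mem_sup_left h)
    have hab1 : a * b ∉ B₁ := fun h => hbn (by
      have h2 : a⁻¹ ∈ B₁ ⊔ Subgroup.zpowers a :=
        Subgroup.mem_sup_right (inv_mem (Subgroup.mem_zpowers a))
      have := mul_mem h2 (Subgroup.mem_sup_left h)
      rwa [inv_mul_cancel_left] at this)
    set F := Subgroup.closure ({a, b} : Set X) with hF
    have hFB : F ≤ B := by
      rw [hF, Subgroup.closure_le]
      rintro _ (rfl | rfl)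
      · exact haB
      · exact hb
    have hFc : ∀ y ∈ F, ∀ z ∈ F, y * z = z * y := fun y hy z hz => hAc y (hBA (hFB hy)) z (hBA (hFB hz))
    have ha2 := hA1 a (hBA haB)
    have hb2 := hA1 b (hBA hb)
    have hcase : ∀ f ∈ F, f = 1 ∨ f = a ∨ f = b ∨ f = a * b := by
      intro f hf
      rw [hF] at hf
      induction hf using Subgroup.closure_induction with
      | mem y hy =>
        rcases hy with rfl | rfl
        · exact Or.inr (Or.inl rfl)
        · exact Or.inr (Or.inr (Or.inl rfl))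
      | one => exact Or.inl rfl
      | mul y z _ _ hy hz =>
        have hab : b * a = a * b := hAc b (hBA hb) a (hBA haB)
        have e1 : a * (a * b) = b := by rw [← mul_assoc, ha2, one_mul]
        have e2 : b * (a * b) = a := by rw [← mul_assoc, hab, mul_assoc, hb2, mul_one]
        have e3 : a * b * a = b := by rw [mul_assoc, hab, e1]
        have e4 : a * b * b = a := by rw [mul_assoc, hb2, mul_one]
        have e5 : a * b * (a * b) = 1 := by rw [← mul_assoc, e3, hb2]
        rcases hy with rfl | rfl | rfl | rfl <;> rcases hz with rfl | rfl | rfl | rfl <;>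
          simp only [one_mul, mul_one, ha2, hb2, hab, e1, e2, e3, e4, e5, eq_self_iff_true, true_or,
            or_true]
      | inv y _ hy =>
        rcases hy with rfl | rfl | rfl | rfl
        · simp
        · exact Or.inr (Or.inl (inv_eq_of_mul_eq_one_right ha2))
        · exact Or.inr (Or.inr (Or.inl (inv_eq_of_mul_eq_one_right hb2)))
        · refine Or.inr (Or.inr (Or.inr (inv_eq_of_mul_eq_one_right ?_)))
          rw [mul_assoc, ← mul_assoc b a b, hAc b (hBA hb) a (hBA haB), mul_assoc a b b, hb2, mul_one, ha2]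
    have hnc : ¬ IsCyclic F := by
      intro hcyc
      obtain ⟨⟨c, hc⟩, hcgen⟩ := IsCyclic.exists_generator (α := ↥F)
      have hpow : ∀ f ∈ F, f = 1 ∨ f = c := by
        intro f hf
        obtain ⟨j, hj⟩ := Subgroup.mem_zpowers_iff.1 (hcgen ⟨f, hf⟩)
        have h1 : f = c ^ j := (congrArg Subtype.val hj).symm
        rcases Int.even_or_odd j with ⟨i, rfl⟩ | ⟨i, rfl⟩
        · left; rw [h1, ← two_mul, zpow_mul, zpow_two, hA1 c (hBA (hFB hc)), one_zpow]
        · right; rw [h1, zpow_add, zpow_mul, zpow_two, hA1 c (hBA (hFB hc)), one_zpow, one_mul, zpow_one]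
      rcases hpow a (Subgroup.subset_closure (Set.mem_insert _ _)) with h1 | h1
      · exact haB₁ (h1 ▸ one_mem B₁)
      rcases hpow b (Subgroup.subset_closure (Set.mem_insert_of_mem _ rfl)) with h2 | h2
      · exact hb1 (h2 ▸ one_mem B₁)
      · exact hbn (by rw [h2, ← h1]; exact Subgroup.mem_sup_right (Subgroup.mem_zpowers a))
    have hFK : F ≤ Subgroup.normalizer (Kc : Set X) := by
      refine CfsgLib.Solvable.le_normalizer_inf (hFB.trans hBK) fun f hf => ?_
      refine CfsgLib.Solvable.normalizer_le_normalizer_centralizer B₁ ?_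
      exact Subgroup.centralizer_le_normalizer _
        (Subgroup.mem_centralizer_iff.2 fun g hg => hAc g (hBA (hB₁B hg)) f (hBA (hFB hf)))
    have hcop : (Nat.card F).Coprime (Nat.card Kc) := by
      obtain ⟨j, hj⟩ := (hB2.to_le hFB).exists_card_eq
      rw [hj]
      exact (Nat.coprime_two_left.2 (hKodd.of_dvd_nat (Subgroup.card_dvd_of_le inf_le_left))).pow_left j
    have hle : Kc ≤ Subgroup.centralizer (B : Set X) := by
      rw [← CfsgLib.Solvable.iSup_centralizer_eq hFc hnc hFK hcop]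
      refine iSup₂_le fun f hf => hlt f (hFB hf.1) ?_
      rcases hcase f hf.1 with h | h | h | h
      · exact absurd h hf.2
      · rw [h]; exact haB₁
      · rw [h]; exact hb1
      · rw [h]; exact hab1
    exact hak (Subgroup.mem_centralizer_iff.1 (hle hk) a haB)
  have hia : a⁻¹ = a := inv_eq_of_mul_eq_one_right (hA1 a (hBA haB))
  set x₀ := k⁻¹ * (a * k * a⁻¹) with hx₀
  have haK : a ∈ Subgroup.normalizer (K : Set X) := hBK haB
  have hx₀K : x₀ ∈ Kc := by
    refine ⟨Subgroup.mul_mem _ (Subgroup.inv_mem _ hk.1) ((Subgroup.mem_normalizer_iff.1 haK k).1 hk.1), ?_⟩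
    refine Subgroup.mul_mem _ (Subgroup.inv_mem _ hk.2) ?_
    have hac : a ∈ Subgroup.centralizer (B₁ : Set X) :=
      Subgroup.mem_centralizer_iff.2 fun g hg => hAc g (hBA (hB₁B hg)) a (hBA haB)
    exact Subgroup.mul_mem _ (Subgroup.mul_mem _ hac hk.2) (Subgroup.inv_mem _ hac)
  have hx₀inv : a * x₀ * a⁻¹ = x₀⁻¹ := by
    rw [hx₀, mul_inv_rev, mul_inv_rev, inv_inv, mul_inv_rev, inv_inv]
    calc a * (k⁻¹ * (a * k * a⁻¹)) * a⁻¹ = a * k⁻¹ * a * k * (a * a)⁻¹ := by group
      _ = a * (k⁻¹ * a⁻¹) * k := by rw [hA1 a (hBA haB), inv_one, mul_one, hia]; group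
      _ = _ := by group
  have hx₀1 : x₀ ≠ 1 := fun h => hak (by
    rw [hx₀, inv_mul_eq_one] at h
    exact mul_inv_eq_iff_eq_mul.1 h.symm)
  obtain ⟨q, hq, hqd⟩ := Nat.exists_prime_and_dvd (fun h => hx₀1 (orderOf_eq_one_iff.1 h))
  haveI := Fact.mk hq
  set x := x₀ ^ (orderOf x₀ / q) with hx
  have hxo : orderOf x = q := orderOf_pow_orderOf_div (orderOf_pos x₀).ne' hqd
  have hxK : x ∈ Kc := pow_mem hx₀K _
  have hxinv : a * x * a⁻¹ = x⁻¹ := by rw [hx, ← conj_pow, hx₀inv, inv_pow]
  have hxodd : Odd (orderOf x) := hKodd.of_dvd_nat (Subgroup.orderOf_dvd_natCard K hxK.1)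
  have hxM : x ∈ M := hKM hxK.1
  refine ⟨a, hBM haB, x, hxM, hA1 a (hBA haB), ?_, hxinv⟩
  set W := V ⊓ Subgroup.centralizer (B₁ : Set X) with hW
  set D := V ⊓ Subgroup.centralizer (B : Set X) with hD
  have hDW : D ≤ W := inf_le_inf_left _ (Subgroup.centralizer_le hB₁B)
  have hBcard : Nat.card B ≤ 2 * Nat.card B₁ := by
    have h1 : B₁ ⊔ Subgroup.zpowers a ≤ B := sup_le hB₁B (Subgroup.zpowers_le.2 haB)
    rw [le_antisymm hgen h1]
    have h2 := CfsgLib.Solvable.card_sup_dvd_of_le_normalizer (A := B₁) (X := Subgroup.zpowers a)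
      (Subgroup.zpowers_le.2 (Subgroup.centralizer_le_normalizer _
        (Subgroup.mem_centralizer_iff.2 fun g hg => hAc g (hBA (hB₁B hg)) a (hBA haB))))
    refine (Nat.le_of_dvd (Nat.mul_pos Nat.card_pos Nat.card_pos) h2).trans ?_
    rw [Nat.card_zpowers, mul_comm]
    exact Nat.mul_le_mul_right _ (Nat.le_of_dvd two_pos
      (orderOf_dvd_of_pow_eq_one (by rw [sq]; exact hA1 a (hBA haB))))
  have hB₁lt : Nat.card B₁ < Nat.card B := lt_of_not_ge fun h =>
    haB₁ ((Subgroup.eq_of_le_of_card_ge hB₁B h).symm ▸ haB)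
  have hB₁big : Nat.card B₁ ^ 2 ≤ W.relIndex V := by
    by_contra hlt'
    push Not at hlt'
    exact absurd (hBmin (j := B₁) ⟨hB₁B.trans hBA, hlt'⟩ hB₁lt.le) hB₁lt.not_ge
  have hidx : D.relIndex W < 4 := by
    have h1 := Subgroup.relIndex_mul_relIndex D W V hDW inf_le_left
    have h3 : D.relIndex W * W.relIndex V < 4 * Nat.card B₁ ^ 2 := by
      rw [h1]
      exact hBs.trans_le (by nlinarith [hBcard])
    nlinarith
  have hidx2 : D.relIndex W ≤ 2 := by
    obtain ⟨j, hj⟩ := (hV2.to_le (inf_le_left : W ≤ V)).index (D.subgroupOf W)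
    change D.relIndex W = 2 ^ j at hj
    rw [hj] at hidx ⊢
    rcases j with _ | _ | j
    · norm_num
    · norm_num
    · exfalso; rw [pow_succ, pow_succ] at hidx; have := Nat.one_le_two_pow (n := j); omega
  set E := D ⊓ D.map (MulAut.conj x).toMonoidHom with hE
  have hxW : ∀ g : X, g ∈ M → g ∈ Subgroup.centralizer (B₁ : Set X) →
      ∀ w ∈ W, g * w * g⁻¹ ∈ W := fun g hgM hgc w hw =>
    ⟨(Subgroup.mem_normalizer_iff.1 (hMV hgM) w).1 hw.1, Subgroup.mul_mem _ (Subgroup.mul_mem _ hgc hw.2) (Subgroup.inv_mem _ hgc)⟩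
  have hWimg : W.map (MulAut.conj x).toMonoidHom = W := by
    refine Subgroup.eq_of_le_of_card_ge ?_
      (Subgroup.card_map_of_injective (MulAut.conj x).injective).ge
    rintro _ ⟨w, hw, rfl⟩
    exact hxW x hxM hxK.2 w hw
  have hEW : E.relIndex W ≤ 4 := by
    have h1 : (D.map (MulAut.conj x).toMonoidHom).relIndex W = D.relIndex W := by
      conv_lhs => rw [← hWimg]
      exact Subgroup.relIndex_map_map_of_injective D W (MulAut.conj x).injective
    refine (Subgroup.relIndex_inf_le).trans ?_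
    rw [h1]
    exact (Nat.mul_le_mul hidx2 hidx2).trans (by norm_num)
  have hxE : ∀ d ∈ E, x * d = d * x := by
    intro d hd
    refine commute_of_commute_sq hxodd ?_
    obtain ⟨e, he, hed⟩ := hd.2
    have h1 : a * d = d * a := Subgroup.mem_centralizer_iff.1 hd.1.2 a haB
    have h2 : a * e = e * a := Subgroup.mem_centralizer_iff.1 he.2 a haB
    have h3 : Commute (x * a * x⁻¹) d := by
      rw [← hed]
      show x * a * x⁻¹ * (x * e * x⁻¹) = x * e * x⁻¹ * (x * a * x⁻¹)
      calc x * a * x⁻¹ * (x * e * x⁻¹) = x * (a * e) * x⁻¹ := by group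
        _ = _ := by rw [h2]; group
    have h4 : x ^ 2 = x * a * x⁻¹ * a⁻¹ := by
      rw [sq]
      calc x * x = x * (a * x * a⁻¹)⁻¹ := by rw [hxinv, inv_inv]
        _ = _ := by group
    rw [h4]
    exact (h3.mul_left (show Commute a d from h1).inv_left).eq
  by_contra h3
  rw [hxo] at h3
  -- `x` centralises `W`, hence `V`
  have hxWc : ∀ w ∈ W, x * w = w * x := by
    intro w hw
    set N := E.subgroupOf W with hN
    haveI : N.Normal := ⟨fun n hn g => by
      rw [Subgroup.mem_subgroupOf] at hn ⊢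
      simp only [Subgroup.coe_mul, Subgroup.coe_inv]
      rw [hVc _ g.2.1 _ n.2.1, mul_inv_cancel_right]
      exact hn⟩
    let c : ↥W →* ↥W := ((MulAut.conj x).toMonoidHom.comp W.subtype).codRestrict W
      fun y => hxW x hxM hxK.2 y y.2
    have hcN : N ≤ N.comap c := fun n hn => by
      rw [Subgroup.mem_comap, Subgroup.mem_subgroupOf]
      show x * (n : X) * x⁻¹ ∈ E
      rw [show x * (n : X) = (n : X) * x from hxE _ hn, mul_inv_cancel_right]; exact hn
    let cq : (↥W ⧸ N) →* (↥W ⧸ N) := QuotientGroup.map N N c hcN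
    have hcpow : ∀ (i : ℕ) (y : ↥W), ((c^[i] y : ↥W) : X) = x ^ i * y * (x ^ i)⁻¹ := by
      intro i
      induction i with
      | zero => intro y; simp
      | succ i ih =>
        intro y
        rw [Function.iterate_succ_apply']
        show x * ((c^[i] y : ↥W) : X) * x⁻¹ = _
        rw [ih, pow_succ']; group
    have hcq : ∀ (i : ℕ) (y : ↥W), cq^[i] (QuotientGroup.mk y) = QuotientGroup.mk (c^[i] y) := by
      intro i
      induction i with
      | zero => intro y; rfl
      | succ i ih => intro y; rw [Function.iterate_succ_apply', Function.iterate_succ_apply', ih]; rfl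
    have hq5 : 5 ≤ q := by
      have h2 : q ≠ 2 := fun h => by rw [hxo, h] at hxodd; exact absurd hxodd (by decide)
      have := hq.two_le
      by_contra hlt5
      push Not at hlt5
      interval_cases q <;> first | exact h3 rfl | exact h2 rfl | exact absurd hq (by decide)
    set y : ↥W := ⟨w, hw⟩
    have hper : Function.IsPeriodicPt cq q (QuotientGroup.mk y) := by
      show cq^[q] (QuotientGroup.mk y) = QuotientGroup.mk y
      rw [hcq]
      refine congrArg _ (Subtype.ext ?_)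
      rw [hcpow, ← hxo, pow_orderOf_eq_one]; simp
    have hfixq : cq (QuotientGroup.mk y) = QuotientGroup.mk y := by
      rcases (Nat.dvd_prime hq).1 hper.minimalPeriod_dvd with h1 | h1
      · exact Function.minimalPeriod_eq_one_iff_isFixedPt.1 h1
      · exfalso
        haveI := Fintype.ofFinite (↥W ⧸ N)
        have hle : Function.minimalPeriod cq (QuotientGroup.mk y) ≤ Fintype.card (↥W ⧸ N) := by
          have hinj : Function.Injective fun i : Fin (Function.minimalPeriod cq (QuotientGroup.mk y)) =>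
              cq^[i] (QuotientGroup.mk y) := fun i j hij =>
            Fin.ext ((Function.iterate_eq_iterate_iff_of_lt_minimalPeriod i.2 j.2).1 hij)
          simpa using Fintype.card_le_of_injective _ hinj
        rw [h1, ← Nat.card_eq_fintype_card] at hle
        change q ≤ E.relIndex W at hle
        omega
    have hd : (y : X)⁻¹ * (x * y * x⁻¹) ∈ E := Subgroup.mem_subgroupOf.1 (QuotientGroup.eq.1 hfixq.symm)
    refine CfsgLib.LocalEven.commute_of_conj_eq_mul (P := V) hV2 (d := w⁻¹ * (x * w * x⁻¹))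
      (mul_mem (inv_mem hw.1) ((Subgroup.mem_normalizer_iff.1 (hMV hxM) w).1 hw.1))
      (Nat.coprime_two_right.2 hxodd) (by group) (hxE _ hd)
  have hall := CfsgLib.LocalEven.commute_of_commute_fixed (R := B₁) (hB2.to_le hB₁B) hV2
    (hB₁B.trans (hBM.trans hMV)) (Nat.coprime_two_right.2 hxodd) (hMV hxM)
    (fun r hr => (Subgroup.mem_centralizer_iff.1 hxK.2 r hr).symm)
    (fun v hv hvB => hxWc v ⟨hv, Subgroup.mem_centralizer_iff.2 hvB⟩)
  have hx1 : x ∈ (⊥ : Subgroup X) := hfaith ▸ ⟨hxM, Subgroup.mem_centralizer_iff.2 fun v hv => (hall v hv).symm⟩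
  rw [Subgroup.mem_bot] at hx1
  rw [hx1, orderOf_one] at hxo
  exact hq.ne_one hxo.symm

/-- Let M and V be subgroups of a finite group with V an elementary abelian 2-group, M normalizing V and acting faithfully on it (M ∩ C(V) = 1), and C_M(O_{2'}(M)) ≤ O_{2'}(M). If some elementary abelian 2-subgroup A of M satisfies |V : C_V(A)| < |A|², then M has a section isomorphic to the symmetric group of degree 3. -/
theorem result {X : Type*} [Group X] [Finite X] (M V : Subgroup X) (hV : Cfsg.IsElementaryAbelian 2 V) (hMV : M ≤ Subgroup.normalizer (V : Set X)) (hfaith : M ⊓ Subgroup.centralizer (V : Set X) = ⊥) (hcon : Subgroup.centralizer (Cfsg.pPrimeCore 2 ↥M : Set ↥M) ≤ Cfsg.pPrimeCore 2 ↥M) (A : Subgroup X) (hAM : A ≤ M) (hA : Cfsg.IsElementaryAbelian 2 A) (hsmall : (V ⊓ Subgroup.centralizer (A : Set X)).relIndex V < Nat.card A ^ 2) : Cfsg.Involves (Equiv.Perm (Fin 3)) ↥M := by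
  classical
  haveI : Fact (Nat.Prime 2) := ⟨Nat.prime_two⟩
  obtain ⟨hVc, hVe⟩ := hV
  obtain ⟨hAc, hAe⟩ := hA
  set K := (Cfsg.pPrimeCore 2 ↥M).map M.subtype with hK
  have hKn : M ≤ Subgroup.normalizer (K : Set X) := by
    refine CfsgLib.Solvable.le_normalizer_of_conj_mem fun m hm y hy => ?_
    obtain ⟨y, hy, rfl⟩ := hy
    haveI := CfsgLib.Cores.pPrimeCore_characteristic (G := ↥M) 2
    exact ⟨⟨m, hm⟩ * y * ⟨m, hm⟩⁻¹, (inferInstance : (Cfsg.pPrimeCore 2 ↥M).Normal).conj_mem y hy _, rfl⟩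
  have hKodd : Odd (Nat.card K) := by
    rw [hK, Subgroup.card_map_of_injective M.subtype_injective]
    exact Nat.coprime_two_right.1 (CfsgLib.Cores.coprime_card_pPrimeCore 2)
  have hCK : M ⊓ Subgroup.centralizer (K : Set X) ≤ K := fun y hy =>
    ⟨⟨y, hy.1⟩, hcon (Subgroup.mem_centralizer_iff.2 fun g hg => Subtype.ext
      (Subgroup.mem_centralizer_iff.1 hy.2 g ⟨g, hg, rfl⟩)), rfl⟩
  obtain ⟨a, haM, x, hxM, ha, hx, hax⟩ := exists_inverted_three M V K A
    (fun v hv => by rw [← sq]; exact hVe v hv)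
    (fun v hv w hw => congrArg Subtype.val (hVc.is_comm.comm ⟨v, hv⟩ ⟨w, hw⟩)) hMV hfaith
    (Subgroup.map_subtype_le _) hKodd hKn hCK hAM (fun b hb => by rw [← sq]; exact hAe b hb)
    (fun b hb c hc => congrArg Subtype.val (hAc.is_comm.comm ⟨b, hb⟩ ⟨c, hc⟩)) hsmall
  obtain ⟨e⟩ := dihedral_three_equiv
  let f := CfsgLib.LocalEven.DihedralCrit.toGroup (p := 3) (⟨a, haM⟩ : ↥M) ⟨x, hxM⟩
    (Subtype.ext ha) (Subtype.ext (by rw [SubmonoidClass.coe_pow, ← hx, pow_orderOf_eq_one]; rfl))
    (Subtype.ext hax)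
  have hf : Function.Injective f := by
    refine CfsgLib.LocalEven.DihedralCrit.toGroup_injective _ _ _ ?_ ?_
    · rw [Subgroup.orderOf_mk, hx]
    · intro h
      have h2 : orderOf (⟨a, haM⟩ : ↥M) ∣ 3 := by
        have := Subgroup.orderOf_dvd_natCard _ h
        rwa [Nat.card_zpowers, Subgroup.orderOf_mk x hxM, hx] at this
      have h3 : orderOf (⟨a, haM⟩ : ↥M) ∣ 2 := orderOf_dvd_of_pow_eq_one (by rw [sq]; exact Subtype.ext ha)
      have h4 := orderOf_eq_one_iff.1 (Nat.eq_one_of_dvd_coprimes (by decide : Nat.Coprime 2 3) h3 h2)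
      have hxx : x = x⁻¹ := by
        rw [show a = 1 from congrArg Subtype.val h4] at hax
        simpa using hax
      have : orderOf x ∣ 2 := orderOf_dvd_of_pow_eq_one (by rw [sq]; nth_rewrite 1 [hxx]; simp)
      rw [hx] at this
      exact absurd this (by decide)
  haveI : ((⊥ : Subgroup ↥M).subgroupOf f.range).Normal := by
    rw [Subgroup.bot_subgroupOf]; infer_instance
  exact ⟨f.range, ⊥, inferInstance,
    ⟨(QuotientGroup.quotientMulEquivOfEq (Subgroup.bot_subgroupOf _)).trans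
      (QuotientGroup.quotientBot.trans ((MonoidHom.ofInjective hf).symm.trans e))⟩⟩

end Cfsg.Agent.S3755
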