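import Cfsg.Statements.S3171
import Cfsg.Agent.Lib.InvolChar.M24SylowQuot

set_option autoImplicit false
open Cfsg

namespace Cfsg.Agent.S3171

/-- Let P be a Sylow 2-subgroup of the Mathieu group of degree 24 and S the quotient of P by its centre. Then the centre of every maximal subgroup of S has order at most 8; S has an elementary abelian subgroup of order 64; and S has only one abelian subgroup of order 64. -/
theorem result (P : Sylow 2 ↥Cfsg.M24) :
    (∀ M : Subgroup (↥(P : Subgroup ↥Cfsg.M24) ⧸ Subgroup.center ↥(P : Subgroup ↥Cfsg.M24)), IsCoatom M →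
        Nat.card ↥(Subgroup.center ↥M) ≤ 8) ∧
      (∃ A : Subgroup (↥(P : Subgroup ↥Cfsg.M24) ⧸ Subgroup.center ↥(P : Subgroup ↥Cfsg.M24)),
        Cfsg.IsElementaryAbelian 2 A ∧ Nat.card ↥A = 64) ∧
      ∀ A B : Subgroup (↥(P : Subgroup ↥Cfsg.M24) ⧸ Subgroup.center ↥(P : Subgroup ↥Cfsg.M24)),
        IsMulCommutative ↥A → Nat.card ↥A = 64 → IsMulCommutative ↥B → Nat.card ↥B = 64 → A = B := by
  classical
  have : Fact (Nat.Prime 2) := ⟨Nat.prime_two⟩
  have h0 := CfsgLib.InvolChar.M24SylowQuot.base_ok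
  simp only [CfsgLib.InvolChar.M24SylowQuot.baseOk, Bool.and_eq_true] at h0
  obtain ⟨-, hgv, hcard⟩ := CfsgLib.Fusion.PermCert.elems_spec h0.1.1.1.1.1.1.1.2
  set gens := CfsgLib.InvolChar.M24SylowQuot.gensA ++ CfsgLib.InvolChar.M24SylowQuot.gensT with hgens
  set S0 := CfsgLib.Fusion.PermCert.genBy gens with hS0
  have hle : S0 ≤ Cfsg.M24 := CfsgLib.Fusion.PermCert.genBy_le fun a ha =>
    CfsgLib.Golay.mem_M24_of_test (CfsgLib.InvolChar.M24SylowQuot.mem_gensAT ha)
  set T : Subgroup ↥Cfsg.M24 := S0.subgroupOf Cfsg.M24 with hT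
  have hTcard : Nat.card T = 2 ^ gens.length :=
    (Nat.card_congr (Subgroup.subgroupOfEquivOfLe hle).toEquiv).trans hcard
  have hTp : IsPGroup 2 T := IsPGroup.of_card hTcard
  have hlen : gens.length = 10 := rfl
  have hTi : ¬ 2 ∣ T.index := by
    have h1 := T.card_mul_index
    rw [hTcard, hlen, CfsgLib.Golay.card_M24] at h1
    omega
  obtain ⟨k, hk⟩ := MulAction.exists_smul_eq ↥Cfsg.M24 P (hTp.toSylow hTi)
  have hmap : (P : Subgroup ↥Cfsg.M24).map (MulAut.conj k).toMonoidHom = T := by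
    have := congrArg (fun Q : Sylow 2 ↥Cfsg.M24 => (Q : Subgroup ↥Cfsg.M24)) hk
    exact this
  refine CfsgLib.InvolChar.M24SylowQuot.main
    ((Cfsg.M24.subtype.comp (MulAut.conj k).toMonoidHom).comp (P : Subgroup ↥Cfsg.M24).subtype) ?_ ?_
  · exact (Subtype.val_injective.comp (MulAut.conj k).injective).comp Subtype.val_injective
  · rw [MonoidHom.range_comp, Subgroup.range_subtype, ← Subgroup.map_map, hmap, hT, Subgroup.map_subgroupOf_eq_of_le hle]

end Cfsg.Agent.S3171
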