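import Cfsg.Statements.S3035
import Cfsg.Agent.Lib.InvolChar.D8
import Cfsg.Agent.Lib.InvolChar.SubgroupsA8
import Cfsg.Agent.Lib.InvolChar.SmallAut
import Cfsg.Agent.Lib.Known.AltAut
import Cfsg.Agent.Lib.SmallSimple.Order168
import Cfsg.Agent.Lib.Transfer.Frobenius
import Cfsg.Agent.Lib.Transfer.CentralHall
import Cfsg.Agent.S0497
import Cfsg.Agent.S3277

set_option autoImplicit false
open Cfsg

namespace Cfsg.Agent.S3035


open Subgroup

theorem card_mulAut_four {D : Type*} [Group D] [Finite D] (h : Nat.card D = 4)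
    {X : Type*} [Group X] (f : X →* MulAut D) : Nat.card f.range ∣ 24 := by
  let g : MulAut D →* Equiv.Perm D := { toFun := MulEquiv.toEquiv, map_one' := rfl, map_mul' := fun _ _ => rfl }
  have hg : Function.Injective g := fun a b hab => MulEquiv.ext fun x => congrArg (fun e : Equiv.Perm D => e x) hab
  have h1 := card_dvd_of_injective (g.comp f.range.subtype) (hg.comp f.range.subtype_injective)
  rwa [Nat.card_perm, h, show Nat.factorial 4 = 24 from rfl] at h1

theorem sl3_equiv {G : Type*} [Group G] [Finite G] [IsSimpleGroup G] (h : Nat.card G = 168) :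
    Nonempty (G ≃* Matrix.SpecialLinearGroup (Fin 3) (ZMod 2)) := by
  haveI : Fact (Nat.Prime 2) := ⟨Nat.prime_two⟩
  have hdet : ∀ g : GL (Fin 3) (ZMod 2), (g : Matrix (Fin 3) (Fin 3) (ZMod 2)).det = 1 := fun g =>
    (CfsgLib.A8.zmod_two_cases _).resolve_left
      ((Matrix.isUnit_iff_isUnit_det (g : Matrix (Fin 3) (Fin 3) (ZMod 2))).1 g.isUnit).ne_zero
  obtain ⟨e1⟩ := CfsgLib.SmallSimple.O168.nonempty_iso h
  obtain ⟨e2⟩ := CfsgLib.SmallSimple.O168.nonempty_iso CfsgLib.InvolChar.SubgroupsA8.gl3_card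
  exact ⟨(e1.trans e2.symm).trans (CfsgLib.A8.glEquivSL hdet)⟩

set_option maxHeartbeats 1000000 in
/-- Let G be a finite group with an involution z whose centralizer is dihedral of order 8. Then G = C_G(z) O(G) with O(G) the largest normal subgroup of odd order, or G is isomorphic to the symmetric group of degree 4, the symmetric group of degree 5, the group SL₃(2), or the alternating group of degree 6. -/
theorem result {G : Type*} [Group G] [Finite G] (z : G) (hz : orderOf z = 2)
    (hC : Nonempty (↥(Subgroup.centralizer ({z} : Set G)) ≃* DihedralGroup 4)) :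
    Subgroup.centralizer ({z} : Set G) ⊔ Cfsg.oddCore G = ⊤ ∨ Nonempty (G ≃* Equiv.Perm (Fin 4)) ∨ Nonempty (G ≃* Equiv.Perm (Fin 5)) ∨
      Nonempty (G ≃* Matrix.SpecialLinearGroup (Fin 3) (ZMod 2)) ∨ Nonempty (G ≃* ↥(alternatingGroup (Fin 6))) := by
  classical
  obtain ⟨e⟩ := hC
  haveI : Fact (Nat.Prime 2) := ⟨Nat.prime_two⟩
  set C := Subgroup.centralizer ({z} : Set G) with hCdef
  have hC8 : Nat.card ↥C = 8 := by rw [Nat.card_congr e.toEquiv, DihedralGroup.nat_card]
  set a : ↥C := e.symm (DihedralGroup.r 1) with ha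
  set b : ↥C := e.symm (DihedralGroup.sr 0) with hb
  have hao : orderOf (a : G) = 4 := by
    rw [Subgroup.orderOf_coe, ha, MulEquiv.orderOf_eq, DihedralGroup.orderOf_r_one]
  have hbo : orderOf (b : G) = 2 := by
    rw [Subgroup.orderOf_coe, hb, MulEquiv.orderOf_eq, DihedralGroup.orderOf_sr]
  have hrel : b * a * b⁻¹ = a⁻¹ := by
    apply e.injective
    simp [ha, hb]
  have hrel' : (b : G) * a * (b : G)⁻¹ = (a : G)⁻¹ := by exact_mod_cast congrArg Subtype.val hrel
  obtain ⟨hz2, hbA, hcov, hib, hcentA, hcen⟩ :=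
    CfsgLib.InvolChar.dihedral_facts rfl hC8 hz a.2 hao b.2 hbo hrel'
  have hzC : z ∈ C := mem_centralizer_singleton_iff.2 rfl
  have hnab : ∃ s ∈ C, ∃ t ∈ C, s * t ≠ t * s := by
    refine ⟨b, b.2, a, a.2, fun h => hbA ?_⟩
    exact hcentA b b.2 h
  obtain ⟨P, hP⟩ : ∃ P : Sylow 2 G, (C : Subgroup G) ≤ P :=
    (IsPGroup.of_card (n := 3) (by rw [hC8]; norm_num)).exists_le_sylow
  have hPC : (P : Subgroup G) = C := by
    by_contra hne
    have hlt : C < (P : Subgroup G) := lt_of_le_of_ne hP (Ne.symm hne)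
    have hlt' : C.subgroupOf P < ⊤ := lt_top_iff_ne_top.2 fun h => hne (le_antisymm (subgroupOf_eq_top.1 h) hP)
    have := P.isPGroup'.isNilpotent
    have hN := normalizerCondition_of_isNilpotent (G := ↥(P : Subgroup G)) _ hlt'
    obtain ⟨n, hn, hnC⟩ := SetLike.exists_of_lt hN
    have hconj : (n : G) * z * (n : G)⁻¹ ∈ C ∧ ∀ t ∈ C, t * ((n : G) * z * (n : G)⁻¹) = (n : G) * z * (n : G)⁻¹ * t := by
      have hmem : ∀ t : ↥(P : Subgroup G), (t : G) ∈ C ↔ ((n * t * n⁻¹ : ↥(P : Subgroup G)) : G) ∈ C := fun t =>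
        mem_normalizer_iff.1 hn t
      refine ⟨(hmem ⟨z, hP hzC⟩).1 hzC, fun t ht => ?_⟩
      have h1 : ((n⁻¹ * ⟨t, hP ht⟩ * n : ↥(P : Subgroup G)) : G) ∈ C := by
        rw [hmem]; simpa [mul_assoc] using ht
      have h2 : (n : G)⁻¹ * t * n * z = z * ((n : G)⁻¹ * t * n) := mem_centralizer_singleton_iff.1 h1
      calc t * ((n : G) * z * (n : G)⁻¹) = n * ((n : G)⁻¹ * t * n * z) * (n : G)⁻¹ := by group
        _ = _ := by rw [h2]; group
    rcases hcen _ hconj.1 hconj.2 with h | h
    · exact (show z ≠ 1 from fun h1 => by rw [h1, orderOf_one] at hz; omega)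
        (by simpa using conj_eq_one_iff.1 h)
    · exact hnC (mem_centralizer_singleton_iff.2 (mul_inv_eq_iff_eq_mul.1 h))
  by_cases hG : ∀ H : Subgroup G, H.index ≠ 2
  · obtain ⟨hs, h168 | h360⟩ := CfsgLib.InvolChar.dihedral_eight hG hC8 hz a.2 hao b.2 hbo hrel'
    · exact Or.inr (Or.inr (Or.inr (Or.inl (sl3_equiv h168))))
    · exact Or.inr (Or.inr (Or.inr (Or.inr (Cfsg.Agent.S0497.result h360))))
  push Not at hG
  obtain ⟨M, hMi⟩ := hG
  haveI hMn : M.Normal := normal_of_index_eq_two hMi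
  have hzM : z ∈ M := hz2 ▸ mul_self_mem_of_index_two hMi _
  set D := C ⊓ M with hD
  have hcardG : ∀ n, Nat.card M = n → Nat.card G = 2 * n := fun n hn => by
    rw [← M.card_mul_index, hMi, hn, mul_comm]
  have hCnM : ¬ C ≤ M := by
    intro h
    have h1 : 8 ∣ Nat.card M := hC8 ▸ card_dvd_of_le h
    have h2 : ¬ 2 ∣ (C : Subgroup G).index := hPC ▸ P.not_dvd_index
    have h3 := C.card_mul_index
    rw [hC8, hcardG _ rfl] at h3
    obtain ⟨k, hk⟩ := h1
    exact h2 ⟨k, by omega⟩
  have hD4 : Nat.card D = 4 := by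
    have h1 : (M.subgroupOf C).index ∣ 2 := by
      rw [← hMi]
      exact relIndex_dvd_index_of_normal M C
    have h2 : (M.subgroupOf C).index ≠ 1 := fun h => hCnM (subgroupOf_eq_top.1 (index_eq_one.1 h))
    have h3 := (M.subgroupOf C).card_mul_index
    rw [((Nat.dvd_prime Nat.prime_two).1 h1).resolve_left h2, hC8] at h3
    have h4 : Nat.card (M.subgroupOf C) = Nat.card D := Nat.card_congr
      { toFun := fun x => ⟨x.1.1, x.1.2, x.2⟩
        invFun := fun x => ⟨⟨x.1, x.2.1⟩, x.2.2⟩
        left_inv := fun _ => rfl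
        right_inv := fun _ => rfl }
    omega
  have hDM : D ≤ M := inf_le_right
  set D' := D.subgroupOf M with hD'
  have hD'4 : Nat.card D' = 4 := by rw [hD', Nat.card_congr (subgroupOfEquivOfLe hDM).toEquiv, hD4]
  set zM : M := ⟨z, hzM⟩
  have hzMo : orderOf zM = 2 := by rw [← orderOf_coe]; exact hz
  have hcentM : Subgroup.centralizer ({zM} : Set M) = D' := by
    ext x
    rw [mem_centralizer_singleton_iff, hD', mem_subgroupOf, hD, mem_inf, hCdef, mem_centralizer_singleton_iff]
    exact ⟨fun h => ⟨congrArg Subtype.val h, x.2⟩, fun h => Subtype.ext h.1⟩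
  have hDodd : ¬ 2 ∣ D'.index := by
    intro h
    have h3 := C.card_mul_index
    have h4 := D'.card_mul_index
    rw [hC8, hcardG _ h4.symm, hD'4] at h3
    exact (hPC ▸ P.not_dvd_index : ¬ 2 ∣ C.index) (by rwa [show C.index = D'.index by omega])
  have hD'p : IsPGroup 2 D' := IsPGroup.of_card (n := 2) (by rw [hD'4]; norm_num)
  set Q : Sylow 2 M := hD'p.toSylow hDodd with hQ
  by_cases hnc : Cfsg.HasNormalPComplement 2 M
  · left
    obtain ⟨R, N, hNn, hNR⟩ := hnc
    haveI := hNn
    have hR4 : Nat.card (R : Subgroup M) = 4 := by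
      rw [R.card_eq_multiplicity, ← Q.card_eq_multiplicity]; exact hD'4
    have hidx : N.index = 4 := by rw [hNR.symm.index_eq_card, hR4]
    have hodd : ¬ 2 ∣ Nat.card N := by
      intro h
      have h1 := N.card_mul_index
      rw [hidx] at h1
      have h2 := D'.card_mul_index
      rw [hD'4] at h2
      exact hDodd (by rwa [show D'.index = Nat.card N by omega])
    haveI : N.Characteristic := CfsgLib.Transfer.characteristic_of_coprime_index (by
      rw [hidx, show (4 : ℕ) = 2 ^ 2 from rfl]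
      exact ((Nat.prime_two.coprime_iff_not_dvd.2 hodd).symm).pow_right 2)
    set O := N.map M.subtype with hO
    haveI : O.Normal := ConjAct.normal_of_characteristic_of_normal
    have hOc : Nat.card O = Nat.card N := card_map_of_injective M.subtype_injective
    have hOo : O ≤ Cfsg.oddCore G := le_sSup ⟨inferInstance, by
      rw [hOc]; exact Nat.prime_two.coprime_iff_not_dvd.2 hodd |>.symm⟩
    have hcop : (Nat.card C).Coprime (Nat.card O) := by
      rw [hC8, hOc, show (8 : ℕ) = 2 ^ 3 from rfl]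
      exact (Nat.prime_two.coprime_iff_not_dvd.2 hodd).pow_left 3
    have hdvd : Nat.card C * Nat.card O ∣ Nat.card ↥(C ⊔ O) :=
      hcop.mul_dvd_of_dvd_of_dvd (card_dvd_of_le le_sup_left) (card_dvd_of_le le_sup_right)
    refine eq_top_mono (sup_le_sup_left hOo C) (eq_top_of_le_card _ ?_)
    refine le_trans (le_of_eq ?_) (Nat.le_of_dvd Nat.card_pos hdvd)
    rw [hC8, hOc, hcardG _ N.card_mul_index.symm, hidx]
    omega
  -- `D` is elementary abelian
  have hDe : ∀ c ∈ Subgroup.centralizer ({zM} : Set M), c ^ 2 = 1 := by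
    rw [hcentM]
    by_contra hcon
    push Not at hcon
    obtain ⟨c, hc, hc2⟩ := hcon
    refine hnc (CfsgLib.Transfer.hasNormalPComplement_of_normalizer_le_centralizer Q ?_)
    refine IsCyclic.normalizer_le_centralizer (P := Q) ?_ ?_
    · show (Nat.card M).minFac = 2
      rw [Nat.minFac_eq_two_iff]
      exact (show (2 : ℕ) ∣ 4 by norm_num).trans (hD'4 ▸ card_subgroup_dvd_card D')
    · show IsCyclic D'
      refine isCyclic_of_orderOf_eq_card ⟨c, hc⟩ ?_
      rw [hD'4, orderOf_mk]
      have hdvd : orderOf c ∣ 2 ^ 2 := by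
        have := orderOf_dvd_natCard (⟨c, hc⟩ : D')
        rwa [hD'4, orderOf_mk] at this
      obtain ⟨i, hi, hi'⟩ := (Nat.dvd_prime_pow Nat.prime_two).1 hdvd
      have h0 : c ≠ 1 := fun h => hc2 (by rw [h, one_pow])
      interval_cases i
      · exact absurd (orderOf_eq_one_iff.1 (by simpa using hi')) h0
      · exact absurd (by rw [← show orderOf c = 2 by simpa using hi']; exact pow_orderOf_eq_one c) hc2
      · simpa using hi'
  have hCG : Nat.card M ≠ 4 := fun h => hnc ⟨Q, ⊥, inferInstance, by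
    refine isComplement'_of_disjoint_and_mul_eq_univ disjoint_bot_left ?_
    have : (Q : Subgroup M) = ⊤ := eq_top_of_card_eq _ (by rw [show Nat.card (Q : Subgroup M) = 4 from hD'4, h])
    rw [this]; simp⟩
  have hDnotC : ∀ c ∈ C, (∀ d ∈ D, c * d = d * c) → c ∈ D := by
    intro c hc hcd
    by_contra hcD
    have hgen : closure ((D : Set G) ∪ {c}) = C := by
      refine eq_of_le_of_card_ge ((closure_le _).2 ?_) ?_
      · rintro x (hx | rfl)
        · exact hx.1
        · exact hc
      · rw [hC8]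
        have hlt : D < closure ((D : Set G) ∪ {c}) :=
          lt_of_le_of_ne (fun x hx => subset_closure (Or.inl hx))
            fun h => hcD (h.symm ▸ subset_closure (Or.inr rfl))
        obtain ⟨k, hk⟩ := card_dvd_of_le hlt.le
        have hne : Nat.card D ≠ Nat.card ↥(closure ((D : Set G) ∪ {c})) := fun h =>
          hlt.ne (eq_of_le_of_card_ge hlt.le h.ge)
        rw [hD4] at hk hne
        rcases k with _ | _ | k
        · exfalso
          have := Nat.card_pos (α := ↥(closure ((D : Set G) ∪ {c})))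
          omega
        · omega
        · omega
    obtain ⟨s, hs, t, ht, hst⟩ := hnab
    refine hst ?_
    have hDab : ∀ x ∈ D, ∀ y ∈ D, x * y = y * x := by
      intro x hx y hy
      have h2 : ∀ w ∈ D, w * w = 1 := fun w hw => by
        have := congrArg Subtype.val (hDe ⟨w, hw.2⟩ (by rw [hcentM]; exact hw))
        simpa [pow_two] using this
      have hi : ∀ w ∈ D, w⁻¹ = w := fun w hw => inv_eq_of_mul_eq_one_right (h2 w hw)
      calc x * y = (x * y)⁻¹ := (hi _ (mul_mem hx hy)).symm
        _ = y * x := by rw [mul_inv_rev, hi x hx, hi y hy]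
    have hcomm : ∀ x ∈ (D : Set G) ∪ {c}, ∀ y ∈ (D : Set G) ∪ {c}, x * y = y * x := by
      rintro x (hx | rfl) y (hy | rfl)
      · exact hDab x hx y hy
      · exact (hcd x hx).symm
      · exact hcd y hy
      · rfl
    rw [← hgen] at hs ht
    exact congrArg Subtype.val ((isMulCommutative_closure hcomm).is_comm.comm ⟨s, hs⟩ ⟨t, ht⟩)
  by_cases hE : ∀ E : Subgroup M, E.Normal → Cfsg.IsElementaryAbelian 2 E → Nat.card ↥E ≠ 2 ∧ Nat.card ↥E ≠ 4
  · -- `M ≅ A₅`, `G ≅ S₅`
    obtain ⟨f⟩ := Cfsg.Agent.S3277.result zM hzMo (by rw [hcentM, hD'4]) hDe hnc hE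
    refine Or.inr (Or.inr (Or.inl ?_))
    have hcent : ∀ g : G, (∀ m ∈ M, g * m = m * g) → g = 1 := by
      intro g hg
      have hgC : g ∈ C := mem_centralizer_singleton_iff.2 (hg z hzM)
      have hgM : g ∈ M := (hDnotC g hgC fun d hd => hg d hd.2).2
      have hgc : f ⟨g, hgM⟩ ∈ Subgroup.center ↥(alternatingGroup (Fin 5)) := by
        rw [mem_center_iff]
        intro w
        obtain ⟨m, rfl⟩ := f.surjective w
        rw [← map_mul, ← map_mul]
        exact congrArg f (Subtype.ext (hg m m.2).symm)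
      rw [alternatingGroup.center_eq_bot (by simp), mem_bot, ← map_one f] at hgc
      exact congrArg Subtype.val (f.injective hgc)
    let π := Equiv.ofBijective _ (CfsgLib.Known.AltAut.bijective_conjNormal (n := 5) (by norm_num) (by norm_num))
    let πm : Equiv.Perm (Fin 5) ≃* MulAut (alternatingGroup (Fin 5)) :=
      MulEquiv.ofBijective _ (CfsgLib.Known.AltAut.bijective_conjNormal (n := 5) (by norm_num) (by norm_num))
    let Φ : G →* Equiv.Perm (Fin 5) :=
      πm.symm.toMonoidHom.comp ((MulAut.congr f).toMonoidHom.comp (MulAut.conjNormal (H := M)))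
    have hinj : Function.Injective Φ := by
      rw [injective_iff_map_eq_one]
      intro g hg
      refine hcent g fun m hm => ?_
      have h1 : MulAut.conjNormal (H := M) g = 1 := by
        refine (MulAut.congr f).injective (πm.symm.injective ?_)
        rw [map_one, map_one]; exact hg
      have h2 := congrArg (fun φ : MulAut M => ((φ ⟨m, hm⟩ : M) : G)) h1
      exact mul_inv_eq_iff_eq_mul.1 (by simpa [MulAut.conjNormal_apply] using h2)
    refine ⟨MulEquiv.ofBijective Φ ((Nat.bijective_iff_injective_and_card Φ).2 ⟨hinj, ?_⟩)⟩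
    rw [hcardG _ (Nat.card_congr f.toEquiv), nat_card_alternatingGroup, Nat.card_perm, Nat.card_fin]
    rfl
  push Not at hE
  obtain ⟨E, hEn, hEel, hEcard⟩ := hE
  haveI := hEn
  have hED : E ≤ D' := by
    have hEp : IsPGroup 2 E := by
      intro x
      exact ⟨1, by rw [pow_one]; exact Subtype.ext (hEel.2 x x.2)⟩
    exact hEp.le_sylow_of_normal Q
  have hno2 : ∀ v ∈ D, v ≠ 1 → ¬ ∀ m ∈ M, m * v = v * m := by
    intro v hv hv1 hvc
    have hcase : v ≠ z → ∃ g ∈ C, g * v ≠ v * g := by
      intro hvz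
      by_contra h
      push Not at h
      rcases hcen v hv.1 h with h' | h'
      · exact hv1 h'
      · exact hvz h'
    have hzc : ∀ m ∈ M, m * z = z * m := by
      by_cases hvz : v = z
      · exact hvz ▸ hvc
      obtain ⟨g, hg, hgv⟩ := hcase hvz
      set v' := g * v * g⁻¹ with hv'
      have hv'c : ∀ m ∈ M, m * v' = v' * m := fun m hm => by
        have h1 := hvc _ (hMn.conj_mem m hm g⁻¹)
        rw [hv']
        calc m * (g * v * g⁻¹) = g * ((g⁻¹ * m * g⁻¹⁻¹) * v) * g⁻¹ := by group
          _ = _ := by rw [h1]; group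
      have hv'D : v' ∈ D := ⟨C.mul_mem (C.mul_mem hg hv.1) (C.inv_mem hg), hMn.conj_mem v hv.2 g⟩
      have hne : v' ≠ v := fun h => hgv (mul_inv_eq_iff_eq_mul.1 h)
      have hv'1 : v' ≠ 1 := fun h => hv1 (conj_eq_one_iff.1 h)
      have hne1 : v * v' ≠ 1 := fun h => hne (by
        have h2 : v * v = 1 := by
          have := congrArg Subtype.val (hDe ⟨v, hv.2⟩ (by rw [hcentM]; exact hv))
          simpa [pow_two] using this
        exact mul_left_cancel (h.trans h2.symm))
      have hz' : v * v' = z := by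
        by_contra hvv
        have hsub : Finset.card ({(⟨1, one_mem D⟩ : D), ⟨v, hv⟩, ⟨v', hv'D⟩, ⟨v * v', mul_mem hv hv'D⟩,
            ⟨z, hzC, hzM⟩} : Finset D) = 5 := by
          have e1 : v ≠ v * v' := fun h => hv'1 (mul_left_cancel (a := v) (by rw [mul_one]; exact h.symm))
          have e2 : v' ≠ v * v' := fun h => hv1 (mul_right_cancel (b := v') (by rw [one_mul]; exact h.symm))
          have e3 : v' ≠ z := fun h => by
            have hgz : g * z * g⁻¹ = z := by
              rw [mem_centralizer_singleton_iff.1 hg, mul_inv_cancel_right]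
            exact hvz (mul_left_cancel (mul_right_cancel (h.trans hgz.symm)))
          have e4 : z ≠ 1 := fun h1 => by rw [h1, orderOf_one] at hz; omega
          simp [Subtype.ext_iff, hv1, hv1.symm, hv'1.symm, hne1.symm, Ne.symm hne, hvz, hvv, e1, e2, e3, e4.symm]
        haveI := Fintype.ofFinite D
        have := Finset.card_le_univ ({(⟨1, one_mem D⟩ : D), ⟨v, hv⟩, ⟨v', hv'D⟩, ⟨v * v', mul_mem hv hv'D⟩,
            ⟨z, hzC, hzM⟩} : Finset D)
        rw [hsub, ← Nat.card_eq_fintype_card, hD4] at this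
        omega
      intro m hm
      rw [← hz']
      exact (Commute.mul_right (hvc m hm) (hv'c m hm)).eq
    refine hCG ?_
    have : D' = ⊤ := by
      rw [← hcentM, eq_top_iff]
      intro m _
      exact mem_centralizer_singleton_iff.2 (Subtype.ext (hzc m m.2))
    rw [← hD'4, this, card_top]
  rcases eq_or_ne (Nat.card E) 2 with hE2 | hE2
  · exfalso
    obtain ⟨v, hv, hv1⟩ : ∃ v ∈ E, v ≠ 1 := by
      by_contra h
      push Not at h
      rw [(eq_bot_iff_forall E).2 h, card_bot] at hE2
      omega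
    refine hno2 v (hED hv) (fun h => hv1 (Subtype.ext h)) fun m hm => ?_
    have hmem : (⟨m, hm⟩ : M) * v * (⟨m, hm⟩ : M)⁻¹ ∈ E := hEn.conj_mem v hv _
    haveI := Fintype.ofFinite E
    have hEv : ∀ w ∈ E, w = 1 ∨ w = v := by
      intro w hw
      by_contra h
      push Not at h
      have h3 : Finset.card ({(1 : E), ⟨v, hv⟩, ⟨w, hw⟩} : Finset E) = 3 := by
        simp [Subtype.ext_iff, hv1.symm, h.1.symm, h.2.symm]
      have := Finset.card_le_univ ({(1 : E), ⟨v, hv⟩, ⟨w, hw⟩} : Finset E)
      rw [h3, ← Nat.card_eq_fintype_card, hE2] at this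
      omega
    rcases hEv _ hmem with h | h
    · exact absurd (conj_eq_one_iff.1 h) hv1
    · exact congrArg Subtype.val (mul_inv_eq_iff_eq_mul.1 h)
  -- `E = D` is normal: `G ≅ S₄`
  have hE4 : Nat.card E = 4 := hEcard hE2
  have hED' : E = D' := eq_of_le_of_card_ge hED (by rw [hE4, hD'4])
  haveI hD'n : D'.Normal := hED' ▸ hEn
  refine Or.inr (Or.inl ?_)
  haveI hDn : D.Normal := by
    constructor
    intro d hd g
    have hCnorm : ∀ c ∈ C, ∀ d ∈ D, c * d * c⁻¹ ∈ D := fun c hc d hd =>
      ⟨C.mul_mem (C.mul_mem hc hd.1) (C.inv_mem hc), hMn.conj_mem d hd.2 c⟩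
    have hMnorm : ∀ m ∈ M, ∀ d ∈ D, m * d * m⁻¹ ∈ D := fun m hm d hd =>
      hD'n.conj_mem ⟨d, hd.2⟩ hd ⟨m, hm⟩
    by_cases hg : g ∈ M
    · exact hMnorm g hg d hd
    obtain ⟨c, hc, hcM⟩ := SetLike.not_le_iff_exists.1 hCnM
    have hgc : g * c⁻¹ ∈ M := by
      rw [mul_mem_iff_of_index_two hMi, inv_mem_iff]
      exact iff_of_false hg hcM
    have := hMnorm _ hgc _ (hCnorm c hc d hd)
    simpa [mul_assoc] using this
  have hM12 : Nat.card M = 12 := by
    set f : M →* MulAut D' := MulAut.conjNormal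
    have hker : f.ker ≤ D' := by
      intro m hm
      rw [← hcentM, mem_centralizer_singleton_iff]
      have hzD' : zM ∈ D' := by rw [hD', mem_subgroupOf]; exact ⟨hzC, hzM⟩
      have h1 := congrArg Subtype.val (DFunLike.congr_fun (show f m = 1 from hm) ⟨zM, hzD'⟩)
      rw [MulAut.conjNormal_apply] at h1
      exact mul_inv_eq_iff_eq_mul.1 h1
    have hkD : D' ≤ f.ker := by
      intro m hm
      rw [MonoidHom.mem_ker]
      refine MulEquiv.ext fun d => Subtype.ext ?_
      rw [MulAut.conjNormal_apply]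
      have h2 : ∀ w ∈ D', w⁻¹ = w := fun w hw =>
        inv_eq_of_mul_eq_one_right (by rw [← pow_two]; exact hDe w (by rw [hcentM]; exact hw))
      have hmd : m * (d : M) = d * m := by
        calc m * (d : M) = (m * d)⁻¹ := (h2 _ (mul_mem hm d.2)).symm
          _ = d * m := by rw [mul_inv_rev, h2 _ hm, h2 _ d.2]
      rw [hmd, mul_inv_cancel_right]; rfl
    have hk : f.ker = D' := le_antisymm hker hkD
    have h1 : D'.index = Nat.card f.range := (congrArg Subgroup.index hk).symm.trans (index_ker f)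
    have h2 := card_mulAut_four hD'4 f
    have h3 := D'.card_mul_index
    rw [hD'4, h1] at h3
    have h4 : ¬ 2 ∣ Nat.card f.range := h1 ▸ hDodd
    have h5 : Nat.card f.range = 1 ∨ Nat.card f.range = 3 := by
      rcases (Nat.Coprime.dvd_of_dvd_mul_left ((Nat.prime_two.coprime_iff_not_dvd.2 h4).symm.pow_right 3)
        (show Nat.card f.range ∣ 2 ^ 3 * 3 from h2)) with hd
      exact (Nat.dvd_prime Nat.prime_three).1 hd
    rcases h5 with h5 | h5
    · exact absurd (by omega) hCG
    · omega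
  have hG24 : Nat.card G = 24 := hcardG 12 hM12
  haveI : Fact (Nat.Prime 3) := ⟨Nat.prime_three⟩
  obtain ⟨R⟩ := (inferInstance : Nonempty (Sylow 3 G))
  have hR3 : Nat.card (R : Subgroup G) = 3 := by
    rw [R.card_eq_multiplicity, hG24, show (24 : ℕ) = 2 ^ 3 * 3 from rfl,
      Nat.factorization_mul (by norm_num) (by norm_num), Finsupp.add_apply,
      Nat.Prime.factorization_pow Nat.prime_two, Finsupp.single_apply, if_neg (by norm_num),
      Nat.Prime.factorization_self Nat.prime_three]
    norm_num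
  have hRC : ∀ r ∈ (R : Subgroup G), r ∈ C → r = 1 := by
    intro r hr hrC
    have h1 : orderOf r ∣ 3 := hR3 ▸ orderOf_dvd_natCard _ hr
    have h2 : orderOf r ∣ 8 := hC8 ▸ orderOf_dvd_natCard _ hrC
    exact orderOf_eq_one_iff.1 (Nat.eq_one_of_dvd_coprimes (by norm_num) h1 h2)
  have hDR : Disjoint D (R : Subgroup G) := by
    rw [disjoint_def]
    exact fun {x} hx hxR => hRC x hxR hx.1
  have hRD : ∃ r ∈ (R : Subgroup G), r ∉ Subgroup.centralizer (D : Set G) := by
    by_contra h
    push Not at h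
    obtain ⟨r, hr, hr1⟩ : ∃ r ∈ (R : Subgroup G), r ≠ 1 := by
      by_contra h'
      push Not at h'
      rw [(eq_bot_iff_forall _).2 h', card_bot] at hR3
      omega
    exact hr1 (hRC r hr (mem_centralizer_singleton_iff.2 (mem_centralizer_iff.1 (h r hr) z ⟨hzC, hzM⟩).symm))
  set N := normalizer ((R : Subgroup G) : Set G) with hN
  have hN4 : N.index = 4 := by
    have h1 : Nat.card (Sylow 3 G) = N.index := Sylow.card_eq_index_normalizer R
    have h2 : Nat.card (Sylow 3 G) ≡ 1 [MOD 3] := card_sylow_modEq_one 3 G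
    have h3 : N.index ∣ 8 := by
      rw [← h1]
      have := Sylow.card_dvd_index R
      have h5 := (R : Subgroup G).card_mul_index
      rw [hR3, hG24] at h5
      rwa [show (R : Subgroup G).index = 8 by omega] at this
    rw [h1] at h2
    have hne1 : N.index ≠ 1 := by
      intro h
      obtain ⟨r, hr, hrD⟩ := hRD
      haveI : (R : Subgroup G).Normal := normalizer_eq_top_iff.1 (index_eq_one.1 h)
      exact hrD (mem_centralizer_iff.2 fun d hd => commute_of_normal_of_disjoint _ _ hDn inferInstance hDR d r hd hr)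
    have hle := Nat.le_of_dvd (by norm_num) h3
    unfold Nat.ModEq at h2
    interval_cases hi : N.index <;> omega
  set φ := MulAction.toPermHom G (G ⧸ N)
  have hker : φ.ker = ⊥ := by
    rw [← normalCore_eq_ker]
    set L := N.normalCore
    have hLD : L ⊓ D = ⊥ := by
      by_contra hne
      obtain ⟨x, hx, hx1⟩ : ∃ x ∈ L ⊓ D, x ≠ 1 := by
        by_contra h
        push Not at h
        exact hne ((eq_bot_iff_forall _).2 h)
      have hxR : ∀ r ∈ (R : Subgroup G), r * x = x * r := by
        intro r hr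
        have hxN : x ∈ N := normalCore_le N hx.1
        have h1 : r * x * r⁻¹ * x⁻¹ ∈ D := mul_mem (hDn.conj_mem x hx.2 r) (inv_mem hx.2)
        have h2 : r * x * r⁻¹ * x⁻¹ ∈ (R : Subgroup G) := by
          rw [show r * x * r⁻¹ * x⁻¹ = r * (x * r⁻¹ * x⁻¹) by group]
          exact mul_mem hr ((mem_normalizer_iff.1 hxN r⁻¹).1 (inv_mem hr))
        have h3 := disjoint_def.1 hDR h1 h2
        exact (mul_inv_eq_iff_eq_mul.1 (mul_inv_eq_one.1 h3))
      refine hno2 x hx.2 hx1 fun m hm => ?_
      -- `M` is generated by `D` and `R`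
      have hRM : (R : Subgroup G) ≤ M := by
        intro r hr
        by_contra hrM
        have h1 := orderOf_dvd_natCard _ hr
        rw [hR3] at h1
        have h3 : r ^ 3 = 1 := orderOf_dvd_iff_pow_eq_one.1 h1
        refine hrM ?_
        rw [show r = (r * r) * (r * r) by rw [show r * r * (r * r) = r ^ 3 * r by simp [pow_succ, mul_assoc], h3, one_mul]]
        exact mul_mem (mul_self_mem_of_index_two hMi r) (mul_self_mem_of_index_two hMi r)
      have hgen : D ⊔ (R : Subgroup G) = M := by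
        refine eq_of_le_of_card_ge (sup_le hDM hRM) ?_
        rw [hM12]
        refine Nat.le_of_dvd Nat.card_pos ?_
        have h1 : 4 ∣ Nat.card ↥(D ⊔ (R : Subgroup G)) := by
          have := card_dvd_of_le (le_sup_left : D ≤ D ⊔ (R : Subgroup G))
          rwa [hD4] at this
        have h2 : 3 ∣ Nat.card ↥(D ⊔ (R : Subgroup G)) := by
          have := card_dvd_of_le (le_sup_right : (R : Subgroup G) ≤ D ⊔ (R : Subgroup G))
          rwa [hR3] at this
        exact Nat.Coprime.mul_dvd_of_dvd_of_dvd (show Nat.Coprime 4 3 by norm_num) h1 h2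
      have hle : M ≤ Subgroup.centralizer ({x} : Set G) := by
        rw [← hgen]
        refine sup_le (fun d hd => mem_centralizer_singleton_iff.2 ?_)
          (fun r hr => mem_centralizer_singleton_iff.2 (hxR r hr))
        have h2 : ∀ w ∈ D, w⁻¹ = w := fun w hw => by
          have h1 := congrArg Subtype.val (hDe ⟨w, hw.2⟩ (by rw [hcentM]; exact hw))
          exact inv_eq_of_mul_eq_one_right (by simpa [pow_two] using h1)
        calc d * x = (d * x)⁻¹ := (h2 _ (mul_mem hd hx.2)).symm
          _ = x * d := by rw [mul_inv_rev, h2 d hd, h2 x hx.2]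
      exact mem_centralizer_singleton_iff.1 (hle hm)
    rw [eq_bot_iff]
    intro x hx
    have hxD : ∀ d ∈ D, x * d = d * x := fun d hd =>
      commute_of_normal_of_disjoint L D (normalCore_normal N) hDn (disjoint_iff.2 hLD) x d hx hd
    have hxC : x ∈ C := mem_centralizer_singleton_iff.2 (hxD z ⟨hzC, hzM⟩)
    rw [← hLD]
    exact ⟨hx, hDnotC x hxC hxD⟩
  have hinj := (MonoidHom.ker_eq_bot_iff φ).1 hker
  have hX : Nat.card (G ⧸ N) = 4 := hN4
  haveI := Fintype.ofFinite (G ⧸ N)
  let ε : G ⧸ N ≃ Fin 4 := Fintype.equivFinOfCardEq (by rw [← Nat.card_eq_fintype_card, hX])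
  let Φ : G →* Equiv.Perm (Fin 4) := ε.permCongrHom.toMonoidHom.comp φ
  refine ⟨MulEquiv.ofBijective Φ ((Nat.bijective_iff_injective_and_card Φ).2
    ⟨ε.permCongrHom.injective.comp hinj, ?_⟩)⟩
  rw [hG24, Nat.card_perm, Nat.card_fin]
  rfl

end Cfsg.Agent.S3035
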