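import Cfsg.Statements.S4219

set_option autoImplicit false
open Cfsg

namespace Cfsg.Agent.S4219

open scoped Pointwise


/-- Let a finite group `G` act `t`-fold transitively on a finite set, let `H` be the stabilizer of `t` distinct points and `P` a Sylow `p`-subgroup of `H`. Then the normalizer of `P` in `G` is `t`-fold transitive on the fixed points of `P`: any `t` distinct fixed points of `P` can be carried to any other `t` distinct fixed points of `P` by an element normalizing `P`. -/
theorem result {G : Type*} [Group G] [Finite G] {α : Type*} [Fintype α] [MulAction G α] {t : ℕ} (hG : MulAction.IsMultiplyPretransitive G α t) (x : Fin t ↪ α) {p : ℕ} [Fact p.Prime] (P : Sylow p (MulAction.stabilizer G x)) (a b : Fin t ↪ α) (ha : ∀ i, a i ∈ MulAction.fixedPoints ((P : Subgroup (MulAction.stabilizer G x)).map (MulAction.stabilizer G x).subtype) α) (hb : ∀ i, b i ∈ MulAction.fixedPoints ((P : Subgroup (MulAction.stabilizer G x)).map (MulAction.stabilizer G x).subtype) α) : ∃ g ∈ Subgroup.normalizer ((((P : Subgroup (MulAction.stabilizer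 G x)).map (MulAction.stabilizer G x).subtype) : Subgroup G) : Set G), g • a = b := by
  obtain ⟨g, hg⟩ := hG.exists_smul_eq a b
  obtain ⟨k, hk⟩ := hG.exists_smul_eq x a
  set R := (P : Subgroup (MulAction.stabilizer G x)).map (MulAction.stabilizer G x).subtype with hR
  have hmem : ∀ (c : Fin t ↪ α), (∀ i, c i ∈ MulAction.fixedPoints R α) → R ≤ MulAction.stabilizer G c := by
    intro c hc r hr
    rw [MulAction.mem_stabilizer_iff]
    ext i
    exact hc i ⟨r, hr⟩
  have hconj : MulAut.conj g • R ≤ MulAction.stabilizer G b := by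
    intro y hy
    rw [Subgroup.mem_pointwise_smul_iff_inv_smul_mem, MulAut.smul_def, MulAut.conj_inv_apply] at hy
    have := hmem a ha hy
    rw [MulAction.mem_stabilizer_iff, mul_smul, mul_smul, hg, inv_smul_eq_iff, hg] at this
    exact this
  have hRp : IsPGroup p R := P.2.map _
  have hnd : ∀ (K : Subgroup G), Nat.card K = Nat.card R → (h : K ≤ MulAction.stabilizer G b) → IsPGroup p K →
      ∃ Q : Sylow p (MulAction.stabilizer G b), (Q : Subgroup _) = K.subgroupOf (MulAction.stabilizer G b) := by
    intro K hK hle hKp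
    have hc : Nat.card (MulAction.stabilizer G b) = Nat.card (MulAction.stabilizer G x) := by
      rw [← hg, ← hk, ← mul_smul, MulAction.stabilizer_smul_eq_stabilizer_map_conj,
        Subgroup.card_map_of_injective (MulAut.conj _).injective]
    refine ⟨Sylow.ofCard (K.subgroupOf (MulAction.stabilizer G b)) ?_, rfl⟩
    rw [Nat.card_congr (Subgroup.subgroupOfEquivOfLe hle).toEquiv, hK, hR,
      Subgroup.card_map_of_injective (MulAction.stabilizer G x).subtype_injective, P.card_eq_multiplicity, hc]
  obtain ⟨Q1, hQ1⟩ := hnd R rfl (hmem b hb) hRp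
  obtain ⟨Q2, hQ2⟩ := hnd (MulAut.conj g • R) (Nat.card_congr (Subgroup.equivSMul _ _).toEquiv.symm) hconj
    (hRp.of_equiv (Subgroup.equivSMul (MulAut.conj g) R))
  obtain ⟨h, hh⟩ := MulAction.exists_smul_eq (MulAction.stabilizer G b) Q2 Q1
  refine ⟨(h : G) * g, ?_, by rw [mul_smul, hg]; exact h.2⟩
  rw [Subgroup.mem_normalizer_iff_map_conj_eq]
  have e := congrArg (fun Q : Sylow p (MulAction.stabilizer G b) => Q.toSubgroup.map (MulAction.stabilizer G b).subtype) hh
  simp only [Sylow.coe_subgroup_smul, hQ1, hQ2, Subgroup.subgroupOf_map_subtype, inf_eq_left.2 (hmem b hb)] at e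
  rw [Subgroup.conj_smul_subgroupOf hconj h, Subgroup.subgroupOf_map_subtype,
    inf_eq_left.2 (Subgroup.conj_smul_le_of_le hconj h)] at e
  rw [← mul_smul, ← map_mul] at e
  exact e

end Cfsg.Agent.S4219
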