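import Cfsg.Statements.S0946
import Cfsg.Agent.Lib.Blocks.TwoLocal

set_option autoImplicit false
open Cfsg

namespace Cfsg.Agent.S0946

/-- Let P be a Sylow 2-subgroup of the finite group G isomorphic to Z/2^m × Z/2^m with m ≥ 1. Then either P has a normal complement in G, or all involutions of G are conjugate. -/
theorem result {G : Type*} [Group G] [Finite G] (P : Sylow 2 G) (m : ℕ) (hm : 1 ≤ m) (e : (P : Subgroup G) ≃* Multiplicative (ZMod (2 ^ m) × ZMod (2 ^ m))) : (∃ N : Subgroup G, N.Normal ∧ Subgroup.IsComplement' N (P : Subgroup G)) ∨ ∀ s t : G, orderOf s = 2 → orderOf t = 2 → IsConj s t := by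
  classical
  obtain ⟨h1, h2⟩ := CfsgLib.Blocks.TwoLocal.card_range_involsHom P hm e
  rcases h2 with hc | hc
  · left
    have hle : Subgroup.normalizer (P : Set G) ≤ Subgroup.centralizer (P : Set G) := by
      rw [← Subgroup.relIndex_eq_one, h1, hc]
    exact ((CfsgLib.Transfer.hasNormalPComplement_of_normalizer_le_centralizer P hle) |>
      (CfsgLib.Transfer.hasNormalPComplement_iff_sylow P).mp)
  · right
    have hab : ∀ a ∈ (P : Subgroup G), ∀ b ∈ (P : Subgroup G), a * b = b * a := fun a ha b hb =>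
      congrArg Subtype.val (e.injective (by rw [map_mul, map_mul, mul_comm]) :
        (⟨a, ha⟩ : (P : Subgroup G)) * ⟨b, hb⟩ = ⟨b, hb⟩ * ⟨a, ha⟩)
    have hinv : ∀ s : G, orderOf s = 2 → ∃ t : CfsgLib.Blocks.TwoLocal.invols (P : Subgroup G),
        IsConj s (t : G) := by
      intro s hs
      obtain ⟨Q, hQ⟩ := (IsPGroup.of_card (p := 2) (n := 1)
        (G := Subgroup.zpowers s) (by rw [Nat.card_zpowers, hs, pow_one])).exists_le_sylow
      obtain ⟨x, hx⟩ := MulAction.exists_smul_eq G Q P
      refine ⟨⟨x * s * x⁻¹, ?_, ?_, ?_⟩, isConj_iff.mpr ⟨x, rfl⟩⟩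
      · rw [← hx, Sylow.coe_subgroup_smul]
        exact ⟨s, hQ (Subgroup.mem_zpowers s), rfl⟩
      · rw [conj_pow, orderOf_dvd_iff_pow_eq_one.mp hs.dvd]
        group
      · intro h
        rw [conj_eq_one_iff] at h
        rw [h, orderOf_one] at hs
        omega
    -- some element of the range is a three-cycle, so the normalizer is transitive
    have htrans : ∀ t t' : CfsgLib.Blocks.TwoLocal.invols (P : Subgroup G), IsConj (t : G) (t' : G) := by
      intro t t'
      have hfree : ∀ σ ∈ (CfsgLib.Blocks.TwoLocal.involsHom (P : Subgroup G)).range, σ t = t → σ = 1 := by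
        rintro σ ⟨⟨n, hn⟩, rfl⟩ hfix
        have h' := congrArg Subtype.val hfix
        rw [CfsgLib.Blocks.TwoLocal.involsHom_apply, mul_inv_eq_iff_eq_mul] at h'
        have hmem : n ∈ Subgroup.centralizer ({(t : G)} : Set G) ⊓ Subgroup.normalizer (P : Set G) :=
          ⟨Subgroup.mem_centralizer_singleton_iff.mpr h', hn⟩
        rw [CfsgLib.Blocks.TwoLocal.centralizer_singleton_inf_normalizer P hm e t.2.1 t.2.2.2] at hmem
        have : (⟨n, hn⟩ : Subgroup.normalizer ((P : Subgroup G) : Set G)) ∈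
            (CfsgLib.Blocks.TwoLocal.involsHom (P : Subgroup G)).ker := by
          rw [CfsgLib.Blocks.TwoLocal.ker_involsHom P hab, Subgroup.mem_subgroupOf]
          exact hmem
        exact this
      let ev : (CfsgLib.Blocks.TwoLocal.involsHom (P : Subgroup G)).range →
          CfsgLib.Blocks.TwoLocal.invols (P : Subgroup G) := fun σ => σ.1 t
      have hinj : Function.Injective ev := fun σ τ h => by
        have h' := hfree (τ.1⁻¹ * σ.1) (Subgroup.mul_mem _ (Subgroup.inv_mem _ τ.2) σ.2)
          (by rw [Equiv.Perm.mul_apply, show σ.1 t = τ.1 t from h]; simp)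
        exact Subtype.ext (inv_mul_eq_one.mp h').symm
      have hbij : Function.Bijective ev := (Nat.bijective_iff_injective_and_card ev).mpr
        ⟨hinj, by rw [hc, CfsgLib.Blocks.TwoLocal.card_invols hm e]⟩
      obtain ⟨⟨σ, ⟨n, rfl⟩⟩, hσ⟩ := hbij.2 t'
      exact isConj_iff.mpr ⟨n, congrArg Subtype.val hσ⟩
    intro s t hs ht
    obtain ⟨s', hs'⟩ := hinv s hs
    obtain ⟨t', ht'⟩ := hinv t ht
    exact (hs'.trans (htrans s' t')).trans ht'.symm

end Cfsg.Agent.S0946
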