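import Cfsg.Statements.S0992
import Cfsg.Agent.Lib.SmallGroups.Basic
import Mathlib

set_option autoImplicit false
open Cfsg

namespace Cfsg.Agent.S0992

/-- Let G be a non-abelian finite simple group of even order not divisible by 8, and T a Sylow 2-subgroup. Then T is a Klein four-group and the centralizer of T has index 3 in the normalizer of T. -/
theorem result {G : Type*} [Group G] [Finite G] [IsSimpleGroup G] (hG : ¬ IsMulCommutative G) (h2 : Even (Nat.card G)) (h8 : ¬ 8 ∣ Nat.card G) (T : Sylow 2 G) : IsKleinFour ↥(T : Subgroup G) ∧ (Subgroup.centralizer ((T : Subgroup G) : Set G)).relIndex (Subgroup.normalizer ((T : Subgroup G) : Set G)) = 3 := by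
  classical
  have h2' : 2 ∣ Nat.card G := even_iff_two_dvd.mp h2
  have hmin : (Nat.card G).minFac = 2 := (Nat.minFac_eq_two_iff _).mpr h2'
  have hnotcyc : ¬ IsCyclic (T : Subgroup G) := fun hc =>
    CfsgLib.SmallGroups.not_normalizer_le_centralizer hG h2' T (IsCyclic.normalizer_le_centralizer hmin hc)
  obtain ⟨k, hk⟩ := IsPGroup.iff_card.mp T.2
  have hk2 : k ≤ 2 := by
    by_contra hlt
    apply h8
    refine dvd_trans ?_ (T : Subgroup G).card_subgroup_dvd_card
    rw [hk, show (8 : ℕ) = 2 ^ 3 from rfl]
    exact Nat.pow_dvd_pow 2 (by omega)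
  have h4 : Nat.card (T : Subgroup G) = 4 := by
    interval_cases k
    · haveI : Subsingleton (T : Subgroup G) := (Nat.card_eq_one_iff_unique.mp (by rw [hk]; norm_num)).1
      exact absurd (isCyclic_of_subsingleton (α := (T : Subgroup G))) hnotcyc
    · haveI : Fact (Nat.Prime 2) := ⟨Nat.prime_two⟩
      exact absurd (isCyclic_of_prime_card (p := 2) (by rw [hk, pow_one])) hnotcyc
    · exact hk
  haveI : Nontrivial (T : Subgroup G) := Finite.one_lt_card_iff_nontrivial.mp (by rw [h4]; norm_num)
  have hexp : Monoid.exponent (T : Subgroup G) = 2 := by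
    rw [Monoid.exponent_eq_prime_iff Nat.prime_two]
    intro g hg
    have hd : orderOf g ∣ 4 := h4 ▸ orderOf_dvd_natCard g
    have hne4 : orderOf g ≠ 4 := fun e => hnotcyc (isCyclic_of_orderOf_eq_card g (by rw [e, h4]))
    have hne1 : orderOf g ≠ 1 := fun e => hg (orderOf_eq_one_iff.mp e)
    have := Nat.le_of_dvd (by norm_num) hd
    have hne3 : orderOf g ≠ 3 := fun e => by rw [e] at hd; omega
    have := orderOf_pos g
    omega
  refine ⟨⟨h4, hexp⟩, ?_⟩
  set N := Subgroup.normalizer ((T : Subgroup G) : Set G) with hN
  set C := Subgroup.centralizer ((T : Subgroup G) : Set G) with hC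
  have hrel : C.relIndex N = (T : Subgroup G).normalizerMonoidHom.ker.index := by
    rw [Subgroup.normalizerMonoidHom_ker]; rfl
  have h6 : C.relIndex N ∣ 6 := by
    rw [hrel, Subgroup.index_ker]
    refine dvd_trans (Subgroup.card_subgroup_dvd_card _) ?_
    let r : MulAut (T : Subgroup G) →* Equiv.Perm {x : (T : Subgroup G) // x ≠ 1} :=
      { toFun := fun φ =>
          { toFun := fun x => ⟨φ x.1, fun h => x.2 (φ.injective (h.trans (map_one φ).symm))⟩
            invFun := fun x => ⟨φ.symm x.1, fun h => x.2 (φ.symm.injective (h.trans (map_one φ.symm).symm))⟩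
            left_inv := fun x => Subtype.ext (φ.symm_apply_apply x.1)
            right_inv := fun x => Subtype.ext (φ.apply_symm_apply x.1) }
        map_one' := by ext x; rfl
        map_mul' := fun a b => by ext x; rfl }
    have hr : Function.Injective r := by
      intro a b hab
      refine MulEquiv.ext fun x => ?_
      by_cases hx : x = 1
      · simp [hx]
      · exact congrArg Subtype.val (congrArg (fun σ : Equiv.Perm {x : (T : Subgroup G) // x ≠ 1} => σ ⟨x, hx⟩) hab)
    have := Subgroup.card_dvd_of_injective r hr
    rw [Nat.card_perm] at this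
    haveI hft := Fintype.ofFinite (T : Subgroup G)
    rwa [Nat.card_eq_fintype_card (α := {x : (T : Subgroup G) // x ≠ 1}), Fintype.card_subtype_compl,
      Fintype.card_subtype_eq, ← Nat.card_eq_fintype_card, h4] at this
  have hne1 : C.relIndex N ≠ 1 := fun h =>
    CfsgLib.SmallGroups.not_normalizer_le_centralizer hG h2' T (Subgroup.relIndex_eq_one.mp h)
  have hodd : ¬ 2 ∣ C.relIndex N := by
    intro h
    haveI : Fact (Nat.Prime 2) := ⟨Nat.prime_two⟩
    apply T.not_dvd_index
    haveI : IsMulCommutative (T : Subgroup G) := ⟨⟨mul_comm_of_exponent_two hexp⟩⟩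
    have hTC : (T : Subgroup G) ≤ C := Subgroup.le_centralizer _
    rw [← Subgroup.relIndex_mul_index (Subgroup.le_normalizer : (T : Subgroup G) ≤ N),
      ← Subgroup.relIndex_mul_relIndex (T : Subgroup G) C N hTC
        (by
          intro g hg
          rw [hN, Subgroup.mem_normalizer_iff]
          intro x
          have hcg := Subgroup.mem_centralizer_iff.mp hg
          constructor
          · intro hx; rwa [← hcg x hx, mul_inv_cancel_right]
          · intro hx
            have h3 := hcg _ hx
            have h5 : g * x * g⁻¹ = x := by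
              calc g * x * g⁻¹ = g⁻¹ * ((g * x * g⁻¹) * g) := by rw [h3]; group
                _ = x := by group
            rwa [h5] at hx)]
    exact dvd_mul_of_dvd_left (dvd_mul_of_dvd_right h _) _
  have := Nat.le_of_dvd (by norm_num) h6
  generalize C.relIndex N = m at h6 hne1 hodd this ⊢
  have hpos : 0 < m := Nat.pos_of_ne_zero (fun h0 : m = 0 => hodd (by rw [h0]; exact dvd_zero 2))
  interval_cases m <;> omega

end Cfsg.Agent.S0992
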