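import Cfsg.Statements.S0976
import Cfsg.Agent.Lib.SmallGroups.SylowFixed
import Cfsg.Agent.Lib.SmallGroups.InvertingInvolution
import Cfsg.Agent.Lib.SmallGroups.AbelianSylow

set_option autoImplicit false
open Cfsg

namespace Cfsg.Agent.S0976

open CfsgLib.SmallGroups

/-- No finite simple group has order 4032 = 2^6 * 3^2 * 7. -/
theorem result {G : Type*} [Group G] [Finite G] [IsSimpleGroup G] : Nat.card G ≠ 4032 := by
  intro hG
  haveI : Fact (Nat.Prime 7) := ⟨by norm_num⟩
  haveI : Fact (Nat.Prime 3) := ⟨by norm_num⟩
  have hna : ¬ IsMulCommutative G := not_isMulCommutative_of_not_prime (by rw [hG]; norm_num)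
  have hfac : Nat.card G = 7 ^ 1 * 576 := by rw [hG]; norm_num
  have hdvd : 7 ∣ Nat.card G := by rw [hG]; norm_num
  obtain ⟨P⟩ : Nonempty (Sylow 7 G) := inferInstance
  have hP : Nat.card (P : Subgroup G) = 7 := SylowFixed.setup hfac (by norm_num) rfl P
  set N := Subgroup.normalizer ((P : Subgroup G) : Set G) with hNdef
  set C := Subgroup.centralizer ((P : Subgroup G) : Set G) with hCdef
  have h1 := card_sylow_mem_filter (G := G) (p := 7) hfac (by norm_num)
  have h2 := card_sylow_ne_one (G := G) (p := 7) hna hdvd
  have h3 : (Finset.range (576 + 1)).filter (fun d => 576 % d = 0 ∧ d % 7 = 1) = {1, 8, 36, 64, 288} := by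
    decide +kernel
  rw [h3] at h1
  simp only [Finset.mem_insert, Finset.mem_singleton] at h1
  have hNG := card_sylow_mul_card_normalizer P
  rw [← hNdef] at hNG
  have hNC : Nat.card N ∣ (7 - 1) * Nat.card C := card_normalizer_dvd_of_card_prime hP
  rcases h1 with e | e | e | e | e
  · exact h2 e
  · rw [e, hG] at hNG
    have h5 := SylowFixed.card_normalizer_dvd hna hdvd P hP (by rw [e]; norm_num)
    rw [e, ← hNdef, show Nat.card N = 504 by omega] at h5
    norm_num [Nat.factorial] at h5
  · rw [e, hG] at hNG
    have h5 := SylowFixed.card_centralizer_dvd hna P (by norm_num) hP (t := 5) (by norm_num) (by rw [e])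
    have h6 : Nat.card C ∣ 420 := by
      refine Nat.dvd_of_mul_dvd_mul_left two_pos (h5.trans (dvd_of_eq ?_))
      norm_num [Nat.factorial]
    rw [show Nat.card N = 112 by omega] at hNC
    norm_num at hNC
    have h56 : 56 ∣ Nat.card C := by omega
    exact absurd (h56.trans h6) (by norm_num)
  · rw [e, hG] at hNG
    have hN : Nat.card N = 7 * 3 ^ 2 := by norm_num; omega
    have hC7 : 7 < Nat.card C := by
      have hd : 21 ∣ Nat.card C := by rw [hN] at hNC; norm_num at hNC; omega
      have := Nat.le_of_dvd Nat.card_pos hd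
      omega
    obtain ⟨y, hyC, hy3, hNy⟩ := SylowFixed.exists_central P hP (by norm_num : Nat.Prime 3) (by norm_num) hN hC7
    have hy1 : y ≠ 1 := fun h => by rw [h, orderOf_one] at hy3; norm_num at hy3
    obtain ⟨k, hk⟩ := SylowFixed.exists_fixCard_eq P hP hyC
    have hmod : SylowFixed.fixCard 7 y % 3 = 1 := by
      have hp : IsPGroup 3 (Subgroup.zpowers y) := IsPGroup.of_card (n := 1) (by rw [Nat.card_zpowers, hy3, pow_one])
      have hm := hp.card_modEq_card_fixedPoints (Sylow 7 G)
      have hf : Nat.card (MulAction.fixedPoints (Subgroup.zpowers y) (Sylow 7 G)) = SylowFixed.fixCard 7 y := by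
        refine Nat.card_congr (Equiv.subtypeEquivRight fun Q => ⟨fun h => h ⟨y, Subgroup.mem_zpowers y⟩, ?_⟩)
        rintro h ⟨u, hu⟩
        have : Subgroup.zpowers y ≤ MulAction.stabilizer G Q := Subgroup.zpowers_le.mpr h
        exact this hu
      rw [hf, e, Nat.ModEq] at hm
      omega
    rcases Nat.eq_zero_or_pos k with rfl | hk0
    · -- the element of order three is isolated
      obtain ⟨E, hEN⟩ : ∃ E : Sylow 3 G, (E : Subgroup G) ≤ N := by
        obtain ⟨E₀⟩ : Nonempty (Sylow 3 N) := inferInstance
        have hc : Nat.card (E₀ : Subgroup N) = 3 ^ 2 := by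
          refine card_sylow_eq (m := 7) ?_ (by norm_num) E₀
          rw [hN, mul_comm]
        have hE : Nat.card ((E₀ : Subgroup N).map N.subtype) = 3 ^ (Nat.card G).factorization 3 := by
          rw [Subgroup.card_map_of_injective N.subtype_injective, hc, hG]
          congr 1
          rw [show (4032 : ℕ) = 3 ^ 2 * 448 by norm_num, Nat.factorization_mul (by norm_num) (by norm_num),
            Finsupp.add_apply, Nat.Prime.factorization_pow (by norm_num), Finsupp.single_eq_same,
            Nat.factorization_eq_zero_of_not_dvd (show ¬ 3 ∣ 448 by norm_num)]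
        refine ⟨Sylow.ofCard _ hE, ?_⟩
        exact Subgroup.map_subtype_le _
      have hfacE : Nat.card G = 3 ^ 2 * 448 := by rw [hG]; norm_num
      haveI : IsMulCommutative (E : Subgroup G) :=
        IsPGroup.isMulCommutative_of_card_eq_prime_sq (p := 3) (card_sylow_eq hfacE (by norm_num) E)
      have hyE : y ∈ (E : Subgroup G) := by
        have hp : IsPGroup 3 (Subgroup.zpowers y) := IsPGroup.of_card (n := 1) (by rw [Nat.card_zpowers, hy3, pow_one])
        have h5 : Subgroup.zpowers y ≤ Subgroup.normalizer ((E : Subgroup G) : Set G) := by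
          rw [Subgroup.zpowers_le]
          intro x
          have hxy : ∀ x ∈ (E : Subgroup G), y * x * y⁻¹ = x := fun x hx => by
            rw [← Subgroup.mem_centralizer_singleton_iff.mp (hNy (hEN hx)), mul_inv_cancel_right]
          constructor
          · intro hx; rwa [hxy x hx]
          · intro hx
            have h6 := hxy _ hx
            have h7 : y * x * y⁻¹ = x := by
              apply mul_left_cancel (a := y)
              apply mul_right_cancel (b := y⁻¹)
              exact h6
            rwa [h7] at hx
        have h6 := hp.inf_normalizer_sylow E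
        rw [inf_eq_left.mpr (show Subgroup.zpowers y ≤ Subgroup.normalizer (E : Set G) from h5)] at h6
        exact (h6 ▸ Subgroup.mem_zpowers y : y ∈ Subgroup.zpowers y ⊓ (E : Subgroup G)).2
      apply hy1
      refine eq_one_of_central_in_normalizer_of_abelian_sylow (commutator_eq_top_of_simple hna) E hyE fun n hn => ?_
      have hy' : n * y * n⁻¹ ∈ (E : Subgroup G) := (hn y).mp hyE
      have honly : ∀ Q : Sylow 7 G, y • Q = Q → Q = P := by
        have h5 : SylowFixed.fixCard 7 y = 1 := by omega
        haveI := (Nat.card_eq_one_iff_unique.mp h5).1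
        intro Q hQ
        exact congrArg Subtype.val (Subsingleton.elim
          (⟨Q, hQ⟩ : {Q : Sylow 7 G // y • Q = Q}) ⟨P, Sylow.smul_eq_iff_mem_normalizer.mpr (hEN hyE)⟩)
      have hfixP : (n * y * n⁻¹) • P = P := Sylow.smul_eq_iff_mem_normalizer.mpr (hEN hy')
      have hnP : n⁻¹ • P = P := by
        apply honly
        rw [mul_smul, mul_smul] at hfixP
        exact eq_inv_smul_iff.mpr hfixP
      have hnN : n⁻¹ ∈ N := Sylow.smul_eq_iff_mem_normalizer.mp hnP
      have hnN' : n ∈ N := by simpa using inv_mem hnN
      exact Subgroup.mem_centralizer_singleton_iff.mp (hNy hnN')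
    · have hlt : 9 + 1 < SylowFixed.fixCard 7 y := by omega
      have hs := SylowFixed.card_sylow_centralizer_ne_one P hP (t := 9) (by rw [e]) hyC hlt
      set H := Subgroup.centralizer ({y} : Set G) with hH
      have hHc := SylowFixed.card_eq_card_sylow_mul P (H := H) hNy
      rw [← hNdef, hN] at hHc
      have hidx := H.card_mul_index
      have hmod' := mod_eq_one_card_sylow (G := H) (p := 7)
      rw [hHc, hG] at hidx
      have hd64 : Nat.card (Sylow 7 H) ∣ 64 := ⟨H.index, by nlinarith⟩
      have hidx1 : H.index ≠ 1 := fun h => SylowFixed.centralizer_ne_top hna hy1 (Subgroup.index_eq_one.mp h)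
      have h64 : Nat.card (Sylow 7 H) ∈ (Nat.divisors 64).filter (fun d => d % 7 = 1) :=
        Finset.mem_filter.mpr ⟨Nat.mem_divisors.mpr ⟨hd64, by norm_num⟩, hmod'⟩
      rw [show (Nat.divisors 64).filter (fun d => d % 7 = 1) = {1, 8, 64} by decide +kernel] at h64
      simp only [Finset.mem_insert, Finset.mem_singleton] at h64
      rcases h64 with h' | h' | h'
      · exact hs h'
      · refine SylowFixed.index_ne_of_alternating hna (m := 8) (j := 5) (by norm_num) (by norm_num)
          (by norm_num [Nat.factorial]) (by rw [hG]; norm_num [Nat.factorial]) H ?_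
        rw [h'] at hidx; omega
      · rw [h'] at hidx; omega
  · rw [e, hG] at hNG
    have hN : Nat.card N = 7 * 2 := by omega
    obtain ⟨s, a, A, hs, -, ha, ha1, hb, hb1, -, -, h⟩ :=
      PrimeOrderChar.involution_formula_of_simple hna 7 (by norm_num) P hP hdvd hN
    rw [hG] at h ha hb
    have hc : (Nat.card (Subgroup.centralizer ({s} : Set G)) : ℤ) ≠ 0 := by exact_mod_cast Nat.card_pos.ne'
    rcases PrimeOrderChar.eq_of_sq_mul_succ (a := a) (m := 24) (d := a - A) hc (by push_cast at h ⊢; exact mul_left_cancel₀ (by norm_num : (7 : ℤ) ≠ 0) (by linear_combination h)) with rfl | rfl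
    · norm_num at ha
    · norm_num at ha1

end Cfsg.Agent.S0976
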