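import Cfsg.Statements.S0977
import Mathlib
import Cfsg.Agent.S0904
import Cfsg.Agent.Lib.SmallGroups.InvertingInvolution
import Cfsg.Agent.Lib.SmallGroups.SignedData
import Cfsg.Agent.Lib.SmallGroups.SmallPiece

set_option autoImplicit false
open Cfsg

namespace Cfsg.Agent.S0977

open CfsgLib.SmallGroups CfsgLib.InvolChar

def types : List (ℕ × ℤ) :=
  [(2, 2), (3, -2), (4, -1), (6, 1), (8, -2), (9, -1), (12, 2), (16, 1), (18, -2), (24, -1), (27, 2),
    (32, 2), (36, 1), (48, -2), (54, -1)]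

theorem mem_types : ∀ d ∈ Nat.divisors 4320, ∀ e ∈ [(-2 : ℤ), -1, 1, 2], 2 ≤ d → d * d < 4320 →
    (5 : ℤ) ∣ (d : ℤ) - e → (d, e) ∈ types := by decide +kernel

theorem no_solution : ∀ m ∈ SignedSearch.stage 4320 4 (-1) types 0 0 0,
    ∀ c ∈ (Nat.divisors 864).filter (fun c => 2 ∣ c),
      SignedSearch.search 4320 5 (c : ℤ) (SignedSearch.degSq m) m 1 ((4320 : ℕ) : ℤ) 1 1 = false := by
  decide +kernel

/-- No finite simple group has order 4320 = 2^5 * 3^3 * 5. -/
theorem result {G : Type*} [Group G] [Finite G] [IsSimpleGroup G] : Nat.card G ≠ 4320 := by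
  classical
  intro hG
  haveI := Fintype.ofFinite G
  haveI : Fact (Nat.Prime 5) := ⟨by norm_num⟩
  haveI : Fact (Nat.Prime 2) := ⟨Nat.prime_two⟩
  have hna : ¬ IsMulCommutative G := not_isMulCommutative_of_not_prime (by rw [hG]; norm_num)
  have h5 : Nat.card G = 5 ^ 1 * 864 := by rw [hG]; norm_num
  obtain ⟨P⟩ : Nonempty (Sylow 5 G) := inferInstance
  have hP : Nat.card (P : Subgroup G) = 5 := SylowFixed.setup h5 (by norm_num) rfl P
  have hCP : Subgroup.centralizer ((P : Subgroup G) : Set G) = P := Cfsg.Agent.S0904.result 2 3 5 5 3 Nat.prime_two Nat.prime_three (by norm_num) (by norm_num)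
    (by norm_num) (by rw [hG]; norm_num) P
  have hNd := card_normalizer_dvd_of_card_prime (p := 5) hP
  rw [hCP, hP] at hNd
  have hNG := card_sylow_mul_card_normalizer P
  have hmod := mod_eq_one_card_sylow (G := G) (p := 5)
  have hN : Nat.card (Subgroup.normalizer ((P : Subgroup G) : Set G)) = 20 := by
    have hcases : ∀ m ∈ Nat.divisors 20, 4320 / m % 5 = 1 → m = 20 := by decide +kernel
    refine hcases _ (Nat.mem_divisors.mpr ⟨hNd, by norm_num⟩) ?_
    rw [← hG, ← hNG, Nat.mul_div_cancel _ Nat.card_pos]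
    exact hmod
  obtain ⟨x, hx, hPx⟩ := exists_zpowers_of_card_prime hP
  have hC : Subgroup.centralizer ({x} : Set G) = Subgroup.zpowers x := by
    rw [← hPx, ← hCP, ← Subgroup.centralizer_closure, ← Subgroup.zpowers_eq_closure, ← hPx]
  have hNx : Nat.card (Subgroup.normalizer ((Subgroup.zpowers x : Subgroup G) : Set G)) = 5 * (5 - 1) := by
    rw [← hPx, hN]
  have hconj : ∀ y ∈ Subgroup.zpowers x, y ≠ 1 → IsConj x y := fun y hy hy1 =>
    PrimeRational.isConj_of_mem hx hC hNx hy hy1
  choose ee hee using fun χ : Cfsg.IrrCharacter G => PrimeRational.exists_int_value hx hconj χ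
  obtain ⟨⟨s, hsN⟩, hs⟩ := exists_prime_orderOf_dvd_card'
    (G := Subgroup.normalizer ((Subgroup.zpowers x : Subgroup G) : Set G)) 2 (by rw [hNx]; norm_num)
  rw [Subgroup.orderOf_mk] at hs
  have hss : s * s = 1 := by rw [← pow_two, ← hs, pow_orderOf_eq_one]
  have hs1 : s ≠ 1 := fun h => by rw [h, orderOf_one] at hs; norm_num at hs
  have hpairs := PrimeOrderChar.card_pairs hx (by norm_num) hC hsN hs
  set c := Nat.card (Subgroup.centralizer ({s} : Set G)) with hc
  have hc0 : c ∈ (Nat.divisors 864).filter (fun c => 2 ∣ c) := by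
    rw [Finset.mem_filter, Nat.mem_divisors]
    refine ⟨⟨?_, by norm_num⟩, hs ▸ Subgroup.orderOf_dvd_natCard _
      (Subgroup.mem_centralizer_singleton_iff.mpr rfl)⟩
    refine (Nat.Coprime.dvd_mul_left ?_).mp
      ((Subgroup.card_subgroup_dvd_card _).trans (dvd_of_eq (by rw [hG] : Nat.card G = 5 * 864)))
    refine ((Nat.Prime.coprime_iff_not_dvd (by norm_num)).mpr fun h' => ?_).symm
    have := SmallPiece.orderOf_dvd_of_prime_dvd_centralizer P hP hx hC h'
    rw [hs] at this
    norm_num at this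
  have hc864 : c ≤ 864 := Nat.le_of_dvd (by norm_num) (Nat.mem_divisors.mp (Finset.mem_filter.mp hc0).1).1
  have hx1 : x ≠ 1 := fun h => by rw [h, orderOf_one] at hx; norm_num at hx
  have hone : ee CfsgLib.Char.irrOne = 1 := by
    have h := (hee CfsgLib.Char.irrOne).1
    rw [CfsgLib.Char.irrOne_apply] at h
    exact_mod_cast h.symm
  refine SignedData.false_of_no_solution hna hss hs1 (by omega) ee 1 4 5 types hone ?_ ?_ ?_ ?_ ?_ ?_
  · have h := CfsgLib.Char.second_orthogonality x x
    rw [if_pos (IsConj.refl x), hC, Nat.card_zpowers, hx] at h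
    simp only [fun χ => (hee χ).1, map_intCast] at h
    have h2 : ((∑ χ, ee χ ^ 2 : ℤ) : ℂ) = ((1 ^ 2 + 4 : ℤ) : ℂ) := by
      push_cast
      simp only [sq]
      rw [h]
      norm_num
    exact_mod_cast h2
  · have h := CfsgLib.Char.sum_degree_mul_apply x
    rw [if_neg hx1] at h
    simp only [fun χ => (hee χ).1, fun χ : Cfsg.IrrCharacter G => deg_spec χ] at h
    have h2 : ((∑ χ, ee χ * (deg χ : ℤ) : ℤ) : ℂ) = ((0 : ℤ) : ℂ) := by
      push_cast
      rw [← h]
      exact Finset.sum_congr rfl fun χ _ => mul_comm _ _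
    exact_mod_cast h2
  · have h := CfsgLib.Char.second_orthogonality s x
    rw [if_neg (fun hh => by
      have := CfsgLib.Invol.orderOf_eq_of_isConj hh
      omega)] at h
    simp only [fun χ => (hee χ).1, fun χ : Cfsg.IrrCharacter G => intVal_spec χ hss, map_intCast] at h
    have h2 : ((∑ χ, ee χ * intVal χ hss : ℤ) : ℂ) = ((0 : ℤ) : ℂ) := by
      push_cast
      rw [← h]
      exact Finset.sum_congr rfl fun χ _ => mul_comm _ _
    exact_mod_cast h2
  · have h := pairs_eq_gen s s x _ _ ee (fun χ => intVal_spec χ hss) (fun χ => intVal_spec χ hss)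
      (fun χ => (hee χ).1)
    rw [hpairs, ← hc] at h
    rw [← h]
    push_cast
    ring
  · intro χ h0 h4 h2 hd hlt
    rw [hG] at hd hlt
    refine mem_types _ (Nat.mem_divisors.mpr ⟨hd, by norm_num⟩) _ ?_ h2 hlt (hee χ).2
    have h5 : -2 ≤ ee χ ∧ ee χ ≤ 2 := ⟨by nlinarith, by nlinarith⟩
    simp only [List.mem_cons, List.not_mem_nil, or_false]
    omega
  · intro m hm _
    rw [hG] at hm ⊢
    rw [mul_one]
    exact no_solution m hm c hc0

end Cfsg.Agent.S0977
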