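import Cfsg.Statements.S0978
import Mathlib
import Cfsg.Agent.Lib.SmallGroups.InvertingInvolution
import Cfsg.Agent.Lib.SmallGroups.PrimeRational
import Cfsg.Agent.Lib.SmallGroups.Search5040
import Cfsg.Agent.Lib.SmallGroups.SylowLocal
import Cfsg.Agent.Lib.SmallGroups.SmallPiece

set_option autoImplicit false
open Cfsg

namespace Cfsg.Agent.S0978

open CfsgLib.SmallGroups CfsgLib.InvolChar
open scoped Classical

section Rational

variable {G : Type*} [Group G] [Finite G] [IsSimpleGroup G]

set_option maxHeartbeats 800000 in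
/-- The self-centralising case. -/
theorem no_rational (hG : Nat.card G = 5040) (hna : ¬ IsMulCommutative G) (P : Sylow 7 G) [Fact (Nat.Prime 7)]
    (hP : Nat.card (P : Subgroup G) = 7)
    (hN : Nat.card (Subgroup.normalizer ((P : Subgroup G) : Set G)) = 42)
    (hCP : Nat.card (Subgroup.centralizer ((P : Subgroup G) : Set G)) = 7) : False := by
  haveI := Fintype.ofFinite G
  obtain ⟨x, hx, hPx⟩ := exists_zpowers_of_card_prime hP
  have hcent : Subgroup.centralizer ((P : Subgroup G) : Set G) = Subgroup.centralizer ({x} : Set G) := by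
    ext g
    rw [Subgroup.mem_centralizer_singleton_iff, Subgroup.mem_centralizer_iff, hPx]
    constructor
    · exact fun h => (h x (Subgroup.mem_zpowers x)).symm
    · intro h y hy
      obtain ⟨k, rfl⟩ := Subgroup.mem_zpowers_iff.mp hy
      exact (((show Commute g x from h).zpow_right k).eq).symm
  have hC : Subgroup.centralizer ({x} : Set G) = Subgroup.zpowers x := by
    refine (Subgroup.eq_of_le_of_card_ge (fun u hu => ?_) ?_).symm
    · rw [Subgroup.mem_centralizer_singleton_iff]
      obtain ⟨k, rfl⟩ := Subgroup.mem_zpowers_iff.mp hu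
      exact ((Commute.refl x).zpow_left k).eq
    · rw [← hcent, hCP, Nat.card_zpowers, hx]
  have hNx : Nat.card (Subgroup.normalizer ((Subgroup.zpowers x : Subgroup G) : Set G)) = 7 * (7 - 1) := by
    rw [← hPx, hN]
  have hconj : ∀ u ∈ Subgroup.zpowers x, u ≠ 1 → IsConj x u := fun u hu hu1 =>
    PrimeRational.isConj_of_mem hx hC hNx hu hu1
  choose ee hee using fun χ : Cfsg.IrrCharacter G => PrimeRational.exists_int_value hx hconj χ
  -- an involution inverting x
  haveI : Fact (Nat.Prime 2) := ⟨Nat.prime_two⟩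
  obtain ⟨⟨s, hsN⟩, hs⟩ := exists_prime_orderOf_dvd_card'
    (G := Subgroup.normalizer ((Subgroup.zpowers x : Subgroup G) : Set G)) 2 (by rw [hNx]; norm_num)
  rw [Subgroup.orderOf_mk] at hs
  have hss : s * s = 1 := by rw [← pow_two, ← hs, pow_orderOf_eq_one]
  have hs1 : s ≠ 1 := fun h => by rw [h, orderOf_one] at hs; norm_num at hs
  have hpairs := PrimeOrderChar.card_pairs hx (by norm_num) hC hsN hs
  set c := Nat.card (Subgroup.centralizer ({s} : Set G)) with hc
  have hc0 : c ∈ (Nat.divisors 720).filter (fun c => 2 ∣ c) := by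
    rw [Finset.mem_filter, Nat.mem_divisors]
    refine ⟨⟨?_, by norm_num⟩, hs ▸ Subgroup.orderOf_dvd_natCard _
      (Subgroup.mem_centralizer_singleton_iff.mpr rfl)⟩
    refine (Nat.Coprime.dvd_mul_left ?_).mp
      ((Subgroup.card_subgroup_dvd_card _).trans (dvd_of_eq (by rw [hG] : Nat.card G = 7 * 720)))
    refine ((Nat.Prime.coprime_iff_not_dvd (by norm_num)).mpr fun h' => ?_).symm
    have := SmallPiece.orderOf_dvd_of_prime_dvd_centralizer P hP hx hC h'
    rw [hs] at this
    norm_num at this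
  have hc720 : c ≤ 720 := Nat.le_of_dvd (by norm_num) (Nat.mem_divisors.mp (Finset.mem_filter.mp hc0).1).1
  set one : Cfsg.IrrCharacter G := CfsgLib.Char.irrOne with hone
  have hone_e : ee one = 1 := by
    have h := (hee one).1
    rw [hone, CfsgLib.Char.irrOne_apply] at h
    exact_mod_cast h.symm
  let v : Cfsg.IrrCharacter G → ℤ := fun χ => intVal χ hss
  let d : Cfsg.IrrCharacter G → ℕ := fun χ => deg χ
  set S := (Finset.univ.erase one).filter (fun χ => ee χ ≠ 0) with hS
  set U := (Finset.univ.erase one).filter (fun χ => ¬ ee χ ≠ 0) with hU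
  have split : ∀ f : Cfsg.IrrCharacter G → ℤ, ∑ χ, f χ = f one + (∑ χ ∈ S, f χ + ∑ χ ∈ U, f χ) := by
    intro f
    rw [Finset.sum_filter_add_sum_filter_not, Finset.add_sum_erase _ _ (Finset.mem_univ one)]
  have hU0 : ∀ χ ∈ U, ee χ = 0 := fun χ hχ => not_not.mp (Finset.mem_filter.mp hχ).2
  have hx1 : x ≠ 1 := fun h => by rw [h, orderOf_one] at hx; norm_num at hx
  -- the five relations
  have r1 : ∑ χ, ee χ ^ 2 = 7 := by
    have h := CfsgLib.Char.second_orthogonality x x
    rw [if_pos (IsConj.refl x), show Nat.card (Subgroup.centralizer ({x} : Set G)) = 7 by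
      rw [← hcent, hCP]] at h
    simp only [fun χ => (hee χ).1, map_intCast] at h
    have h2 : ((∑ χ, ee χ ^ 2 : ℤ) : ℂ) = ((7 : ℤ) : ℂ) := by
      push_cast
      simpa [sq] using h
    exact_mod_cast h2
  have r2 : ∑ χ, ee χ * (d χ : ℤ) = 0 := by
    have h := CfsgLib.Char.sum_degree_mul_apply x
    rw [if_neg hx1] at h
    simp only [fun χ => (hee χ).1, fun χ : Cfsg.IrrCharacter G => deg_spec χ] at h
    have h2 : ((∑ χ, ee χ * (d χ : ℤ) : ℤ) : ℂ) = ((0 : ℤ) : ℂ) := by
      push_cast
      rw [← h]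
      exact Finset.sum_congr rfl fun χ _ => mul_comm _ _
    exact_mod_cast h2
  have r3 : ∑ χ, ee χ * v χ = 0 := by
    have h := CfsgLib.Char.second_orthogonality s x
    rw [if_neg (fun hh => by
      have := CfsgLib.Invol.orderOf_eq_of_isConj hh
      omega)] at h
    simp only [fun χ => (hee χ).1, fun χ : Cfsg.IrrCharacter G => intVal_spec χ hss, map_intCast] at h
    have h2 : ((∑ χ, ee χ * v χ : ℤ) : ℂ) = ((0 : ℤ) : ℂ) := by
      push_cast
      rw [← h]
      exact Finset.sum_congr rfl fun χ _ => mul_comm _ _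
    exact_mod_cast h2
  have r4 : ∑ χ, v χ ^ 2 = (c : ℤ) := sum_intVal_sq hss
  have r5 : ∑ χ, (d χ : ℤ) * v χ = 0 := sum_deg_mul_intVal hss hs1
  have r6 : ∑ χ, (d χ : ℤ) ^ 2 = 5040 := by
    have h := CfsgLib.Char.sum_degree_sq (G := G)
    simp only [fun χ : Cfsg.IrrCharacter G => deg_spec χ] at h
    rw [hG] at h
    exact_mod_cast h
  have hd1 : d one = 1 := deg_irrOne
  have hv1 : v one = 1 := intVal_irrOne hss
  -- facts on the members of S
  have hfacts : ∀ χ ∈ S, d χ ∣ 5040 ∧ 2 ≤ d χ ∧ (7 : ℤ) ∣ (d χ : ℤ) - ee χ ∧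
      (4 : ℤ) ∣ (d χ : ℤ) - v χ ∧ v χ * v χ ≤ (d χ : ℤ) * d χ := by
    intro χ hχ
    have hne : χ ≠ one := Finset.ne_of_mem_erase (Finset.mem_filter.mp hχ).1
    refine ⟨?_, ?_, (hee χ).2, PrimeRational.four_dvd_deg_sub (PrimeOrderChar.linear_trivial hna) χ hss, ?_⟩
    · rw [← hG]
      exact CfsgLib.Char.degree_dvd_card χ.2 (deg_spec χ)
    · by_contra hlt
      have h1 : d χ = 1 := by have : 0 < d χ := deg_pos χ; omega
      apply hne
      apply Subtype.ext
      funext g
      have hd1' : (χ : G → ℂ) 1 = 1 := by rw [deg_spec χ, show deg χ = 1 from h1, Nat.cast_one]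
      rw [hone, CfsgLib.Char.irrOne_apply,
        ← CfsgLib.Char.linearHom_apply (CfsgLib.Char.isCharacter_of_isIrr χ.2) hd1' g,
        PrimeOrderChar.linear_trivial hna (CfsgLib.Char.linearHom (CfsgLib.Char.isCharacter_of_isIrr χ.2) hd1')]
      rfl
    · obtain ⟨w, hw1, -, hw3⟩ := exists_int_value χ hss
      have : w = v χ := by
        have h1 := intVal_spec χ hss
        rw [hw1] at h1
        exact_mod_cast h1
      subst this
      rw [← sq, ← sq]
      exact sq_le_sq' (by linarith [neg_le_of_abs_le hw3]) (le_of_abs_le hw3)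
  have s1 : ∑ χ ∈ S, ee χ ^ 2 = 6 := by
    rw [split, hone_e, Finset.sum_eq_zero (s := U) fun χ hχ => by simp [hU0 χ hχ]] at r1
    linarith
  have s2 : ∑ χ ∈ S, ee χ * (d χ : ℤ) = -1 := by
    rw [split, hone_e, hd1, Finset.sum_eq_zero (s := U) fun χ hχ => by simp [hU0 χ hχ]] at r2
    push_cast at r2
    linarith
  have s3 : ∑ χ ∈ S, ee χ * v χ = -1 := by
    rw [split, hone_e, hv1, Finset.sum_eq_zero (s := U) fun χ hχ => by simp [hU0 χ hχ]] at r3
    linarith
  rw [split, hv1] at r4
  rw [split, hv1, hd1] at r5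
  rw [split, hd1] at r6
  push_cast at r5 r6
  have hU2 : 0 ≤ ∑ χ ∈ U, (d χ : ℤ) ^ 2 := Finset.sum_nonneg fun χ _ => sq_nonneg _
  have hU4 : 0 ≤ ∑ χ ∈ U, v χ ^ 2 := Finset.sum_nonneg fun χ _ => sq_nonneg _
  have hsmall : ∀ χ ∈ S, (d χ : ℤ) * d χ ≤ 5039 := fun χ hχ => by
    have := Finset.single_le_sum (f := fun χ => (d χ : ℤ) ^ 2) (fun χ _ => sq_nonneg _) hχ
    rw [← sq]
    linarith
  have hee1 : ∀ χ ∈ S, 1 ≤ ee χ ^ 2 := fun χ hχ => by
    have h0 : ee χ ≠ 0 := (Finset.mem_filter.mp hχ).2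
    have : 0 < ee χ ^ 2 := by positivity
    omega
  obtain ⟨l, hl, hlst⟩ := Search5040.stage_spec (fun χ => (d χ, ee χ)) Search5040.types S.val 0 0 0
    (fun χ hχ => by
      obtain ⟨h1, h2, h3, -, -⟩ := hfacts χ hχ
      have h4 := hsmall χ hχ
      refine Search5040.mem_types _ (Nat.mem_divisors.mpr ⟨h1, by norm_num⟩) _ ?_ h2 (by exact_mod_cast h4) h3
      have h5 : ee χ ^ 2 ≤ 6 := by
        have := Finset.single_le_sum (f := fun χ => ee χ ^ 2) (fun χ _ => sq_nonneg _) hχ
        linarith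
      have h6 := hee1 χ hχ
      have : -2 ≤ ee χ ∧ ee χ ≤ 2 := ⟨by nlinarith, by nlinarith⟩
      have h0 : ee χ ≠ 0 := (Finset.mem_filter.mp hχ).2
      simp only [List.mem_cons, List.not_mem_nil, or_false]
      omega)
    le_rfl (by rw [zero_add]; exact s1) (by rw [zero_add]; exact s2)
    (by
      rw [zero_add]
      have : ((∑ χ ∈ S, d χ * d χ : ℕ) : ℤ) ≤ 5039 := by
        push_cast
        simp only [← sq]
        linarith
      exact_mod_cast this)
    (fun χ hχ => hee1 χ hχ)
  have hlsum : ∀ f : Cfsg.IrrCharacter G → ℤ, (l.map f).sum = ∑ χ ∈ S, f χ := fun f => by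
    rw [Finset.sum, ← hl]
    rfl
  have hmem : ∀ χ ∈ l, χ ∈ S := fun χ hχ => by
    rw [← Finset.mem_val, ← hl]; exact hχ
  have hdvd720 : ∀ χ ∈ S, d χ ∣ 720 := by
    intro χ hχ
    obtain ⟨h1, -, h3, -, -⟩ := hfacts χ hχ
    refine (Nat.Coprime.dvd_mul_left ?_).mp (h1.trans (by norm_num : 5040 ∣ 7 * 720))
    refine ((Nat.Prime.coprime_iff_not_dvd (by norm_num)).mpr fun h' => ?_).symm
    have h7 : (7 : ℤ) ∣ ee χ := by
      have h8 : (7 : ℤ) ∣ (d χ : ℤ) := by exact_mod_cast h'
      simpa using dvd_sub h8 h3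
    obtain ⟨k, hk⟩ := h7
    have h5 := hee1 χ hχ
    have h9 : ee χ ^ 2 ≤ 6 := by
      have := Finset.single_le_sum (f := fun χ => ee χ ^ 2) (fun χ _ => sq_nonneg _) hχ
      linarith
    rw [hk] at h5 h9
    have : k ^ 2 = 0 := by nlinarith [sq_nonneg k]
    rw [pow_eq_zero_iff two_ne_zero] at this
    subst this
    norm_num at h5
  have r7 : 720 + ∑ χ ∈ S, Search5040.weight (d χ, ee χ) * (v χ * v χ) = (c : ℤ) * c := by
    have h := pairs_eq_gen s s x v v ee (fun χ => intVal_spec χ hss) (fun χ => intVal_spec χ hss)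
      (fun χ => (hee χ).1)
    rw [hpairs, ← hc, hG] at h
    have hterm : ∀ χ ∈ S, ((Search5040.weight (d χ, ee χ) * (v χ * v χ) : ℤ) : ℚ) =
        720 * (((v χ * v χ * ee χ : ℤ) : ℚ) / (d χ : ℚ)) := by
      intro χ hχ
      obtain ⟨k, hk⟩ := hdvd720 χ hχ
      have hd0 : 0 < d χ := deg_pos χ
      have hdiv : 720 / d χ = k := by rw [hk, Nat.mul_div_cancel_left _ hd0]
      simp only [Search5040.weight, hdiv]
      rw [show (720 : ℚ) = (d χ : ℚ) * (k : ℚ) by exact_mod_cast hk]
      have : (d χ : ℚ) ≠ 0 := by exact_mod_cast hd0.ne'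
      push_cast
      field_simp
    have hrest : ∑ χ, ((v χ * v χ * ee χ : ℤ) : ℚ) / (d χ : ℚ) =
        1 + ∑ χ ∈ S, ((v χ * v χ * ee χ : ℤ) : ℚ) / (d χ : ℚ) := by
      rw [← Finset.add_sum_erase _ _ (Finset.mem_univ one),
        ← Finset.sum_filter_add_sum_filter_not (Finset.univ.erase one) (fun χ => ee χ ≠ 0),
        Finset.sum_eq_zero (s := (Finset.univ.erase one).filter fun χ => ¬ ee χ ≠ 0)
          (fun χ hχ => by simp [hU0 χ hχ]), hone_e, hv1, hd1, hS]
      simp
    rw [hrest] at h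
    have h2 : ((720 + ∑ χ ∈ S, Search5040.weight (d χ, ee χ) * (v χ * v χ) : ℤ) : ℚ) = (((c : ℤ) * c : ℤ) : ℚ) := by
      rw [Int.cast_add, Int.cast_sum, Finset.sum_congr rfl hterm, ← Finset.mul_sum]
      push_cast at h ⊢
      linarith
    exact_mod_cast h2
  have hsearch := Search5040.search_spec (c : ℤ) (Search5040.degSq (l.map fun χ => (d χ, ee χ)))
    (by exact_mod_cast hc720) (l.map fun χ => ((d χ, ee χ), v χ)) 1 720 1 1 ?_ zero_le_one ?_ ?_ ?_ ?_
  · rw [List.map_map] at hsearch
    have := Search5040.no_solution _ hlst c hc0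
    rw [show (Prod.fst ∘ fun χ => ((d χ, ee χ), v χ)) = fun χ => (d χ, ee χ) from rfl] at hsearch
    rw [hsearch] at this
    exact Bool.noConfusion this
  · intro a ha
    obtain ⟨χ, hχ, rfl⟩ := List.mem_map.mp ha
    obtain ⟨-, -, -, h4, h5⟩ := hfacts χ (hmem χ hχ)
    exact ⟨h4, h5⟩
  · rw [List.map_map, hlsum]
    simp only [Function.comp_apply, ← sq]
    linarith
  · rw [List.map_map, hlsum]
    simp only [Function.comp_apply]
    linarith
  · rw [List.map_map, hlsum]
    exact r7
  · rw [List.map_map, List.map_map, hlsum, hlsum, Search5040.degSq, List.map_map, hlsum]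
    simp only [Function.comp_apply, ← sq]
    have hcs := Finset.sum_mul_sq_le_sq_mul_sq U (fun χ => (d χ : ℤ)) v
    have e1 : (1 : ℤ) + ∑ χ ∈ S, (d χ : ℤ) * v χ = -∑ χ ∈ U, (d χ : ℤ) * v χ := by linarith
    have e2 : 5040 - (1 + ∑ χ ∈ S, (d χ : ℤ) ^ 2) = ∑ χ ∈ U, (d χ : ℤ) ^ 2 := by linarith
    have e3 : (c : ℤ) - (1 + ∑ χ ∈ S, v χ ^ 2) = ∑ χ ∈ U, v χ ^ 2 := by linarith
    rw [e1, e2, e3, neg_sq]
    exact hcs

end Rational

/-- An element of order `r` of a centraliser of order `7 r` generates a subgroup normal in `N`. -/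
theorem conj_mem_zpowers {G : Type*} [Group G] [Finite G] {r : ℕ} (hr : r.Prime) (hr7 : r ≠ 7) {C : Subgroup G}
    {y z : G} (hy : orderOf y = r) (hz : orderOf z = 7) (hyC : y ∈ C) (hzC : z ∈ C) (hyz : Commute y z)
    (hC : Nat.card C = 7 * r) {w : G} (hw : w ∈ C) (hwr : w ^ r = 1) : w ∈ Subgroup.zpowers y := by
  have hcop : (orderOf y).Coprime (orderOf z) := by
    rw [hy, hz]; exact (Nat.coprime_primes hr (by norm_num)).mpr hr7
  have hgen : Subgroup.zpowers (y * z) = C := Subgroup.eq_of_le_of_card_ge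
    (Subgroup.zpowers_le.mpr (mul_mem hyC hzC)) (by
      rw [Nat.card_zpowers, hyz.orderOf_mul_eq_mul_orderOf_of_coprime hcop, hy, hz, hC, mul_comm])
  rw [← hgen] at hw
  obtain ⟨k, rfl⟩ := Subgroup.mem_zpowers_iff.mp hw
  rw [hyz.mul_zpow] at hwr ⊢
  rw [(hyz.zpow_zpow k k).mul_pow] at hwr
  have hy1 : (y ^ k) ^ r = 1 := by
    rw [← zpow_natCast, zpow_comm, zpow_natCast, ← hy, pow_orderOf_eq_one, one_zpow]
  rw [hy1, one_mul] at hwr
  have hz1 : z ^ k = 1 := by
    rw [← orderOf_eq_one_iff]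
    refine Nat.eq_one_of_dvd_coprimes ((Nat.coprime_primes hr (by norm_num : Nat.Prime 7)).mpr hr7)
      (orderOf_dvd_of_pow_eq_one hwr) (hz ▸ orderOf_dvd_of_mem_zpowers (Subgroup.zpow_mem _ (Subgroup.mem_zpowers z) k))
  rw [hz1, mul_one]
  exact Subgroup.zpow_mem _ (Subgroup.mem_zpowers y) k

set_option maxHeartbeats 800000 in
/-- `|N(P)| = 140` is impossible. -/
theorem no_thirtysix {G : Type*} [Group G] [Finite G] [IsSimpleGroup G] (hG : Nat.card G = 5040)
    (hna : ¬ IsMulCommutative G) (P : Sylow 7 G) [Fact (Nat.Prime 7)] (hP : Nat.card (P : Subgroup G) = 7)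
    (hn : Nat.card (Sylow 7 G) = 36) : False := by
  haveI : Fact (Nat.Prime 5) := ⟨by norm_num⟩
  haveI : Fact (Nat.Prime 2) := ⟨Nat.prime_two⟩
  have hdvd : 7 ∣ Nat.card G := by rw [hG]; norm_num
  have hN : Nat.card (Subgroup.normalizer ((P : Subgroup G) : Set G)) = 140 := by
    have := card_sylow_mul_card_normalizer P
    rw [hn, hG] at this; omega
  set N := Subgroup.normalizer ((P : Subgroup G) : Set G) with hNdef
  set C := Subgroup.centralizer ((P : Subgroup G) : Set G) with hCdef
  have hCN : C ≤ N := Subgroup.centralizer_le_normalizer _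
  have hC420 : 2 * Nat.card C ∣ 840 := (SylowFixed.card_centralizer_dvd hna P (by norm_num) hP (t := 5)
    (by norm_num) (by rw [hn])).trans (by norm_num [Nat.factorial])
  have h6 : Nat.card N ∣ (7 - 1) * Nat.card C := card_normalizer_dvd_of_card_prime hP
  have hCd : Nat.card C ∣ 140 := hN ▸ Subgroup.card_dvd_of_le hCN
  have hC : Nat.card C = 70 := by
    rw [hN] at h6
    have hm := Nat.mem_divisors.mpr ⟨hCd, by norm_num⟩
    have hcases : ∀ m ∈ Nat.divisors 140, 140 ∣ (7 - 1) * m → m = 70 ∨ m = 140 := by decide +kernel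
    rcases hcases _ hm h6 with e | e
    · exact e
    · exact absurd (Subgroup.eq_of_le_of_card_ge hCN (by rw [hN, e])).ge (not_normalizer_le_centralizer hna hdvd P)
  obtain ⟨z, hz, hPz⟩ := exists_zpowers_of_card_prime hP
  have hPC : (P : Subgroup G) ≤ C := by
    haveI : IsMulCommutative (P : Subgroup G) :=
      haveI := isCyclic_of_prime_card (p := 7) hP
      inferInstance
    exact Subgroup.le_centralizer _
  obtain ⟨⟨v, hv⟩, hvo⟩ := exists_prime_orderOf_dvd_card' (G := C) 2 (by rw [hC]; norm_num)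
  rw [Subgroup.orderOf_mk] at hvo
  have hvv : v * v = 1 := by rw [← pow_two, ← hvo, pow_orderOf_eq_one]
  have hv1 : v ≠ 1 := fun h => by rw [h, orderOf_one] at hvo; norm_num at hvo
  have hfix : SylowFixed.fixCard 7 v = 8 := by
    obtain ⟨k, hk⟩ := SylowFixed.exists_fixCard_eq P hP hv
    have h4 := SylowFixed.four_dvd_moved (p := 7) hna hvv
    have hle : SylowFixed.fixCard 7 v < 36 := by
      rw [← hn]
      by_contra hge
      refine hv1 (SylowFixed.faithful (by rw [hn]; norm_num) fun Q => ?_)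
      have heq : Nat.card {Q : Sylow 7 G // v • Q = Q} = Nat.card (Sylow 7 G) :=
        le_antisymm (Nat.card_le_card_of_injective _ Subtype.val_injective) (not_lt.mp hge)
      obtain ⟨⟨R, hR⟩, rfl⟩ := ((Nat.bijective_iff_injective_and_card _).mpr
        ⟨Subtype.val_injective, heq⟩).2 Q
      exact hR
    rw [hn] at h4
    omega
  -- no element of order five commutes with v
  have hno5 : ∀ u ∈ C, orderOf u = 5 → ¬ Commute u v := by
    intro u hu huo hcomm
    have hp : IsPGroup 5 (Subgroup.zpowers u) := IsPGroup.of_card (n := 1) (by rw [Nat.card_zpowers, huo, pow_one])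
    have hmod1 : SylowFixed.fixCard 7 u % 5 = 1 := by
      have hm := hp.card_modEq_card_fixedPoints (Sylow 7 G)
      have hf : Nat.card (MulAction.fixedPoints (Subgroup.zpowers u) (Sylow 7 G)) = SylowFixed.fixCard 7 u := by
        refine Nat.card_congr (Equiv.subtypeEquivRight fun Q => ⟨fun h => h ⟨u, Subgroup.mem_zpowers u⟩, ?_⟩)
        rintro h ⟨w, hw⟩
        exact (Subgroup.zpowers_le.mpr h : Subgroup.zpowers u ≤ MulAction.stabilizer G Q) hw
      rw [hf, hn, Nat.ModEq] at hm
      omega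
    have hone : SylowFixed.fixCard 7 u = 1 := by
      obtain ⟨k, hk⟩ := SylowFixed.exists_fixCard_eq P hP hu
      by_contra hne
      have hle : SylowFixed.fixCard 7 u ≤ 36 := hn ▸ Nat.card_le_card_of_injective _ Subtype.val_injective
      have hu1 : u ≠ 1 := fun h => by rw [h, orderOf_one] at huo; norm_num at huo
      have hall : SylowFixed.fixCard 7 u = 36 := by omega
      refine hu1 (SylowFixed.faithful (by rw [hn]; norm_num) fun Q => ?_)
      obtain ⟨⟨R, hR⟩, rfl⟩ := ((Nat.bijective_iff_injective_and_card _).mpr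
        ⟨Subtype.val_injective, hall.trans hn.symm⟩).2 Q
      exact hR
    let act : MulAction (Subgroup.zpowers u) {Q : Sylow 7 G // v • Q = Q} :=
      { smul := fun w Q => ⟨(w : G) • Q.1, by
          obtain ⟨i, hi⟩ := Subgroup.mem_zpowers_iff.mp w.2
          rw [← mul_smul, ← hi, ← (hcomm.zpow_left i).eq, mul_smul, Q.2]⟩
        one_smul := fun Q => Subtype.ext (one_smul G Q.1)
        mul_smul := fun a b Q => Subtype.ext (mul_smul (a : G) (b : G) Q.1) }
    letI := act
    have hm := hp.card_modEq_card_fixedPoints {Q : Sylow 7 G // v • Q = Q}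
    have hle : Nat.card (MulAction.fixedPoints (Subgroup.zpowers u) {Q : Sylow 7 G // v • Q = Q}) ≤
        SylowFixed.fixCard 7 u := by
      refine Nat.card_le_card_of_injective (fun Q => ⟨Q.1.1, congrArg Subtype.val (Q.2 ⟨u, Subgroup.mem_zpowers u⟩)⟩) ?_
      intro A B h
      exact Subtype.ext (Subtype.ext (congrArg (fun Q : {Q : Sylow 7 G // u • Q = Q} => Q.1) h))
    rw [show Nat.card {Q : Sylow 7 G // v • Q = Q} = 8 from hfix, Nat.ModEq] at hm
    omega
  -- the centraliser of v
  set H := Subgroup.centralizer ({v} : Set G) with hHdef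
  have hPH : (P : Subgroup G) ≤ H := fun w hw => by
    rw [Subgroup.mem_centralizer_singleton_iff]
    exact Subgroup.mem_centralizer_iff.mp hv w hw
  have hH := SylowLocal.card_eq_mul_inf P hPH
  rw [← hNdef] at hH
  set D := N ⊓ H with hD
  have hn8 : Nat.card (Sylow 7 H) = 8 := by
    have hne := SylowFixed.card_sylow_centralizer_ne_one P hP (t := 5) (by rw [hn]) hv (by omega)
    rw [← hHdef] at hne
    have hle : Nat.card (Sylow 7 H) ≤ 8 := by
      rw [SylowLocal.card_sylow_eq_card_le P hPH, ← hfix]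
      refine Nat.card_le_card_of_injective (fun Q => ⟨Q.1, Sylow.smul_eq_iff_mem_normalizer.mpr
        (Subgroup.centralizer_le_normalizer _ ?_)⟩) fun A B h =>
          Subtype.ext (congrArg (fun Q : {Q : Sylow 7 G // v • Q = Q} => Q.1) h)
      rw [Subgroup.mem_centralizer_iff]
      exact fun w hw => Subgroup.mem_centralizer_singleton_iff.mp (Q.2 hw)
    have := mod_eq_one_card_sylow (G := H) (p := 7)
    omega
  have hD5 : ¬ 5 ∣ Nat.card D := by
    intro h5
    obtain ⟨⟨u, hu⟩, huo⟩ := exists_prime_orderOf_dvd_card' (G := D) 5 h5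
    rw [Subgroup.orderOf_mk] at huo
    refine hno5 u (SylowLocal.mem_centralizer_of_coprime (P : Subgroup G) (k := 2) ?_ hu.1 ?_) huo
      (show Commute u v from Subgroup.mem_centralizer_singleton_iff.mp hu.2)
    · rw [← hNdef, ← hCdef, hN, hC]
    · rw [huo]; norm_num
  have hDd : Nat.card D ∣ 140 := hN ▸ Subgroup.card_dvd_of_le inf_le_left
  have hD14 : 14 ∣ Nat.card D := by
    refine Nat.Coprime.mul_dvd_of_dvd_of_dvd (by norm_num : Nat.Coprime 2 7) ?_ ?_
    · rw [← hvo]
      exact Subgroup.orderOf_dvd_natCard _ ⟨hCN hv, Subgroup.mem_centralizer_singleton_iff.mpr rfl⟩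
    · rw [← hP]
      exact Subgroup.card_dvd_of_le (le_inf Subgroup.le_normalizer hPH)
  have hDc : Nat.card D = 14 := by
    have hHG : Nat.card H ∣ 5040 := hG ▸ Subgroup.card_subgroup_dvd_card H
    rw [hH, hn8] at hHG
    have hcases : ∀ m ∈ Nat.divisors 140, 14 ∣ m → ¬ 5 ∣ m → 8 * m ∣ 5040 → m = 14 := by decide +kernel
    exact hcases _ (Nat.mem_divisors.mpr ⟨hDd, by norm_num⟩) hD14 hD5 hHG
  -- five involutions in C
  set v' : C := ⟨v, hv⟩ with hv'
  have hone : ∀ w : C, orderOf w = 2 → IsConj v' w := by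
    intro w hw
    have mk : ∀ u : C, orderOf u = 2 → ∃ Q : Sylow 2 C, (Q : Subgroup C) = Subgroup.zpowers u := by
      intro u hu
      obtain ⟨Q, hQ⟩ := (IsPGroup.of_card (G := Subgroup.zpowers u) (n := 1)
        (by rw [Nat.card_zpowers, hu, pow_one])).exists_le_sylow
      refine ⟨Q, (Subgroup.eq_of_le_of_card_ge hQ ?_).symm⟩
      rw [Nat.card_zpowers, hu, card_sylow_eq (a := 1) (m := 35) (by rw [hC]; norm_num) (by norm_num) Q, pow_one]
    obtain ⟨Q, hQ⟩ := mk v' (by rw [hv', Subgroup.orderOf_mk, hvo])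
    obtain ⟨R, hR⟩ := mk w hw
    obtain ⟨g, hg⟩ := MulAction.exists_smul_eq C Q R
    refine isConj_iff.mpr ⟨g, ?_⟩
    have hmem : g * v' * g⁻¹ ∈ Subgroup.zpowers w := by
      rw [← hR, ← hg, Sylow.coe_subgroup_smul, Subgroup.mem_pointwise_smul_iff_inv_smul_mem, hQ]
      simp [MulAut.smul_def, mul_assoc]
    exact CfsgLib.Invol.mem_zpowers_unique_involution hmem (Subgroup.mem_zpowers w)
      (by rw [CfsgLib.Invol.orderOf_conj_eq, hv', Subgroup.orderOf_mk, hvo]) hw
  have hI := SmallPiece.card_involutions_mul (G := C) (s := v') (by rw [hv', Subgroup.orderOf_mk, hvo]) hone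
  have hCv : 14 ≤ Nat.card (Subgroup.centralizer ({v'} : Set C)) := by
    rw [← hDc]
    refine Nat.card_le_card_of_injective (fun w : D => ⟨⟨(w : G), ?_⟩, ?_⟩) ?_
    · have hcase : Subgroup.zpowers (v * z) = D := Subgroup.eq_of_le_of_card_ge
        (Subgroup.zpowers_le.mpr (mul_mem ⟨hCN hv, Subgroup.mem_centralizer_singleton_iff.mpr rfl⟩
          ⟨Subgroup.le_normalizer (hPz ▸ Subgroup.mem_zpowers z), hPH (hPz ▸ Subgroup.mem_zpowers z)⟩))
        (by
          rw [Nat.card_zpowers, (show Commute v z from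
            (Subgroup.mem_centralizer_iff.mp hv z (hPz ▸ Subgroup.mem_zpowers z)).symm).orderOf_mul_eq_mul_orderOf_of_coprime
              (by rw [hvo, hz]; norm_num), hvo, hz, hDc])
      exact (Subgroup.zpowers_le.mpr (mul_mem hv (hPC (hPz ▸ Subgroup.mem_zpowers z)))) (by rw [hcase]; exact w.2)
    · rw [Subgroup.mem_centralizer_singleton_iff]
      exact Subtype.ext (Subgroup.mem_centralizer_singleton_iff.mp w.2.2)
    · intro a b h
      exact Subtype.ext (congrArg (fun t : Subgroup.centralizer ({v'} : Set C) => ((t : C) : G)) h)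
  rw [hC] at hI
  set nv : N := ⟨v, hCN hv⟩ with hnv
  have hcl := CfsgLib.Invol.card_conjugates_mul nv
  rw [hN] at hcl
  have hCN' : Nat.card (Subgroup.centralizer ({nv} : Set N)) ≤ 14 := by
    rw [← hDc]
    refine Nat.card_le_card_of_injective (fun w => (⟨((w : N) : G), (w : N).2, ?_⟩ : D)) fun a b h =>
      Subtype.ext (Subtype.ext (congrArg (fun t : D => (t : G)) h))
    show ((w : N) : G) ∈ H
    rw [hHdef, Subgroup.mem_centralizer_singleton_iff]
    exact congrArg Subtype.val (Subgroup.mem_centralizer_singleton_iff.mp w.2)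
  have hcl5 : Nat.card {w : N // IsConj nv w} ≤ Nat.card {w : C // orderOf w = 2} := by
    refine Nat.card_le_card_of_injective (fun w => ⟨⟨((w : N) : G), ?_⟩, ?_⟩) ?_
    · obtain ⟨g, hg⟩ := isConj_iff.mp w.2
      have hnorm : (g : G) * v * (g : G)⁻¹ ∈ C := by
        rw [hCdef, Subgroup.mem_centralizer_iff]
        intro y hy
        have h1 : (g : G)⁻¹ * y * g ∈ (P : Subgroup G) := by
          have := ((inv_mem g.2 : (g : G)⁻¹ ∈ N) y).mp hy
          rwa [inv_inv] at this
        have h2 := Subgroup.mem_centralizer_iff.mp hv _ h1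
        calc y * ((g : G) * v * (g : G)⁻¹) = g * ((g : G)⁻¹ * y * g * v) * (g : G)⁻¹ := by group
          _ = g * (v * ((g : G)⁻¹ * y * g)) * (g : G)⁻¹ := by rw [h2]
          _ = (g : G) * v * (g : G)⁻¹ * y := by group
      rw [← hg]
      exact hnorm
    · rw [Subgroup.orderOf_mk]
      show orderOf ((w : N) : G) = 2
      rw [Subgroup.orderOf_coe, ← CfsgLib.Invol.orderOf_eq_of_isConj w.2, hnv, Subgroup.orderOf_mk, hvo]
    · intro a b h
      exact Subtype.ext (Subtype.ext (congrArg (fun t : {w : C // orderOf w = 2} => ((t : C) : G)) h))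
  nlinarith

set_option maxHeartbeats 800000 in
/-- A centraliser of order `7 r`, `r = 2, 3`, is impossible. -/
theorem no_central {G : Type*} [Group G] [Finite G] [IsSimpleGroup G] (hG : Nat.card G = 5040)
    (hna : ¬ IsMulCommutative G) (P : Sylow 7 G) [Fact (Nat.Prime 7)] (hP : Nat.card (P : Subgroup G) = 7)
    (hn : Nat.card (Sylow 7 G) = 120) {r k : ℕ} (hr : r = 2 ∧ k = 3 ∨ r = 3 ∧ k = 2)
    (hC : Nat.card (Subgroup.centralizer ((P : Subgroup G) : Set G)) = 7 * r) : False := by
  have hrp : r.Prime := by rcases hr with ⟨rfl, -⟩ | ⟨rfl, -⟩ <;> norm_num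
  haveI : Fact r.Prime := ⟨hrp⟩
  have hr7 : r ≠ 7 := by omega
  have hN : Nat.card (Subgroup.normalizer ((P : Subgroup G) : Set G)) = 42 := by
    have := card_sylow_mul_card_normalizer P
    rw [hn, hG] at this; omega
  set N := Subgroup.normalizer ((P : Subgroup G) : Set G) with hNdef
  set C := Subgroup.centralizer ((P : Subgroup G) : Set G) with hCdef
  have hCN : C ≤ N := Subgroup.centralizer_le_normalizer _
  obtain ⟨z, hz, hPz⟩ := exists_zpowers_of_card_prime hP
  have hzP : z ∈ (P : Subgroup G) := hPz ▸ Subgroup.mem_zpowers z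
  have hzC : z ∈ C := by
    haveI : IsMulCommutative (P : Subgroup G) :=
      haveI := isCyclic_of_prime_card (p := 7) hP
      inferInstance
    exact Subgroup.le_centralizer _ hzP
  obtain ⟨⟨y, hy⟩, hyo⟩ := exists_prime_orderOf_dvd_card' (G := C) r (by rw [hC]; exact dvd_mul_left _ _)
  rw [Subgroup.orderOf_mk] at hyo
  have hy1 : y ≠ 1 := fun h => hrp.ne_one (by rw [← hyo, h, orderOf_one])
  have hyz : Commute y z := (Subgroup.mem_centralizer_iff.mp hy z hzP).symm
  set Y := Subgroup.zpowers y with hY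
  set H := Subgroup.normalizer (Y : Set G) with hH
  have hNH : N ≤ H := by
    have key : ∀ g ∈ N, g * y * g⁻¹ ∈ Y := by
      intro g hg
      refine conj_mem_zpowers hrp hr7 hyo hz hy hzC hyz hC ?_ ?_
      · rw [hCdef, Subgroup.mem_centralizer_iff]
        intro w hw
        have h1 : g⁻¹ * w * g ∈ (P : Subgroup G) := by
          have := ((inv_mem hg : g⁻¹ ∈ N) w).mp hw
          rwa [inv_inv] at this
        have h2 := Subgroup.mem_centralizer_iff.mp hy _ h1
        calc w * (g * y * g⁻¹) = g * (g⁻¹ * w * g * y) * g⁻¹ := by group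
          _ = g * (y * (g⁻¹ * w * g)) * g⁻¹ := by rw [h2]
          _ = g * y * g⁻¹ * w := by group
      · rw [conj_pow, ← hyo, pow_orderOf_eq_one]; group
    intro g hg
    refine Subgroup.mem_normalizer_iff.mpr fun w => ⟨fun hw => ?_, fun hw => ?_⟩
    · obtain ⟨i, rfl⟩ := Subgroup.mem_zpowers_iff.mp hw
      rw [← conj_zpow]
      exact Subgroup.zpow_mem _ (key g hg) i
    · obtain ⟨i, hi⟩ := Subgroup.mem_zpowers_iff.mp hw
      have : w = (g⁻¹ * y * g⁻¹⁻¹) ^ i := by rw [conj_zpow, hi]; group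
      rw [this]
      exact Subgroup.zpow_mem _ (key g⁻¹ (inv_mem hg)) i
  have hPH : (P : Subgroup G) ≤ H := Subgroup.le_normalizer.trans hNH
  have hP7 : ∀ Q : Sylow 7 G, Nat.card (Q : Subgroup G) = 7 := fun Q => by
    rw [Nat.card_congr (Q.equiv P).toEquiv, hP]
  have hQN : ∀ Q : Sylow 7 G, Nat.card (Subgroup.normalizer ((Q : Subgroup G) : Set G)) = 42 := fun Q => by
    have := card_sylow_mul_card_normalizer Q
    rw [hn, hG] at this; omega
  have hrk : r * k = 6 := by rcases hr with ⟨rfl, rfl⟩ | ⟨rfl, rfl⟩ <;> norm_num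
  have hfixiff : ∀ Q : Sylow 7 G, (Q : Subgroup G) ≤ H ↔ y • Q = Q := by
    intro Q
    rw [Sylow.smul_eq_iff_mem_normalizer]
    constructor
    · intro hQ
      refine Subgroup.centralizer_le_normalizer _ ?_
      rw [Subgroup.mem_centralizer_iff]
      intro w hw
      have hw' : w ∈ Subgroup.centralizer (Y : Set G) := by
        refine SylowLocal.mem_centralizer_of_coprime Y (k := r - 1) ?_ (hQ hw) ?_
        · exact card_normalizer_dvd_of_card_prime (by rw [hY, Nat.card_zpowers, hyo])
        · refine Nat.Coprime.coprime_dvd_left (hP7 Q ▸ Subgroup.orderOf_dvd_natCard _ hw) ?_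
          rcases hr with ⟨rfl, -⟩ | ⟨rfl, -⟩ <;> norm_num
      exact (Subgroup.mem_centralizer_iff.mp hw' y (Subgroup.mem_zpowers y)).symm
    · intro hQ w hw
      have hyQ : y ∈ Subgroup.centralizer ((Q : Subgroup G) : Set G) := by
        refine SylowLocal.mem_centralizer_of_coprime (Q : Subgroup G) (k := k) ?_ hQ ?_
        · rw [hQN, SylowLocal.card_centralizer_sylow P Q, ← hCdef, hC,
            show k * (7 * r) = 7 * (r * k) by ring, hrk]
        · rw [hyo]; rcases hr with ⟨rfl, rfl⟩ | ⟨rfl, rfl⟩ <;> norm_num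
      refine Subgroup.centralizer_le_normalizer _ ?_
      rw [Subgroup.mem_centralizer_iff]
      intro u hu
      obtain ⟨i, rfl⟩ := Subgroup.mem_zpowers_iff.mp hu
      exact ((show Commute w y from Subgroup.mem_centralizer_iff.mp hyQ w hw).symm.zpow_left i).eq
  have hnH : Nat.card (Sylow 7 H) = SylowFixed.fixCard 7 y := by
    rw [SylowLocal.card_sylow_eq_card_le P hPH]
    exact Nat.card_congr (Equiv.subtypeEquivRight hfixiff)
  have hHc : Nat.card H = SylowFixed.fixCard 7 y * 42 := by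
    rw [SylowFixed.card_eq_card_sylow_mul P hNH, hnH, hN]
  obtain ⟨j, hj⟩ := SylowFixed.exists_fixCard_eq P hP hy
  have hdiv : SylowFixed.fixCard 7 y ∣ 120 := by
    refine Nat.dvd_of_mul_dvd_mul_right (show 0 < 42 by norm_num) ?_
    rw [← hHc]
    exact (Subgroup.card_subgroup_dvd_card H).trans (by rw [hG])
  have hlt : SylowFixed.fixCard 7 y ≠ 120 := by
    intro heq
    refine hy1 (SylowFixed.faithful (by rw [hn]; norm_num) fun Q => ?_)
    obtain ⟨⟨R, hR⟩, rfl⟩ := ((Nat.bijective_iff_injective_and_card _).mpr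
      ⟨Subtype.val_injective, heq.trans hn.symm⟩).2 Q
    exact hR
  have hcases : ∀ m ∈ Nat.divisors 120, m % 7 = 1 → m ≠ 120 → m = 1 ∨ m = 8 ∨ m = 15 := by decide +kernel
  have hm := hcases _ (Nat.mem_divisors.mpr ⟨hdiv, by norm_num⟩) (by omega) hlt
  have hidx := H.card_mul_index
  rw [hHc, hG] at hidx
  rcases hr with ⟨rfl, rfl⟩ | ⟨rfl, rfl⟩
  · have hyy : y * y = 1 := by rw [← pow_two, ← hyo, pow_orderOf_eq_one]
    have h4 := SylowFixed.four_dvd_moved (p := 7) hna hyy
    rw [hn] at h4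
    have h8 : SylowFixed.fixCard 7 y = 8 := by omega
    rw [h8] at hidx
    have hX : Nat.card (G ⧸ H) = 15 := by rw [← Subgroup.index_eq_card]; omega
    have h4' := SylowLocal.four_dvd_moved_action hna (X := G ⧸ H) hyy
    rw [hX] at h4'
    have hHy : ∀ g : G, g ∈ H ↔ g * y * g⁻¹ = y := by
      intro g
      constructor
      · intro hg
        have h1 := (Subgroup.mem_normalizer_iff.mp hg y).mp (Subgroup.mem_zpowers y)
        exact CfsgLib.Invol.mem_zpowers_unique_involution h1 (Subgroup.mem_zpowers y)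
          (by rw [CfsgLib.Invol.orderOf_conj_eq, hyo]) hyo
      · intro hg
        refine Subgroup.centralizer_le_normalizer _ ?_
        rw [Subgroup.mem_centralizer_iff]
        intro u hu
        obtain ⟨i, rfl⟩ := Subgroup.mem_zpowers_iff.mp hu
        exact ((show Commute g y from mul_inv_eq_iff_eq_mul.mp hg).symm.zpow_left i).eq
    have hzfix : ∀ q : G ⧸ H, z • q = q → q = ((1 : G) : G ⧸ H) := by
      intro q hq
      induction q using QuotientGroup.induction_on with | _ g => ?_
      rw [MulAction.Quotient.smul_coe, smul_eq_mul, QuotientGroup.eq] at hq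
      have hq' : g⁻¹ * z * g ∈ H := by simpa [mul_assoc] using inv_mem hq
      have h1 : g⁻¹ * z * g * y = y * (g⁻¹ * z * g) := mul_inv_eq_iff_eq_mul.mp ((hHy _).mp hq')
      have h2 : g * y * g⁻¹ ∈ C := by
        rw [hCdef, Subgroup.mem_centralizer_iff, hPz]
        intro u hu
        obtain ⟨i, rfl⟩ := Subgroup.mem_zpowers_iff.mp hu
        have h3 : Commute z (g * y * g⁻¹) := by
          show z * (g * y * g⁻¹) = g * y * g⁻¹ * z
          calc z * (g * y * g⁻¹) = g * (g⁻¹ * z * g * y) * g⁻¹ := by group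
            _ = g * (y * (g⁻¹ * z * g)) * g⁻¹ := by rw [h1]
            _ = g * y * g⁻¹ * z := by group
        exact (h3.zpow_left i).eq
      have h4'' : g * y * g⁻¹ ∈ Y := conj_mem_zpowers hrp hr7 hyo hz hy hzC hyz hC h2
        (by rw [conj_pow, ← hyo, pow_orderOf_eq_one]; group)
      rw [QuotientGroup.eq, mul_one]
      exact inv_mem ((hHy g).mpr (CfsgLib.Invol.mem_zpowers_unique_involution h4'' (Subgroup.mem_zpowers y)
        (by rw [CfsgLib.Invol.orderOf_conj_eq, hyo]) hyo))
    have hfixed : Nat.card {q : G ⧸ H // y • q = q} % 7 = 1 := by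
      have hy1' : y • ((1 : G) : G ⧸ H) = ((1 : G) : G ⧸ H) := by
        rw [MulAction.Quotient.smul_coe, smul_eq_mul, mul_one, QuotientGroup.eq, mul_one]
        exact inv_mem ((hHy y).mpr (by group))
      let act : MulAction (Subgroup.zpowers z) {q : G ⧸ H // y • q = q} :=
        { smul := fun w q => ⟨(w : G) • q.1, by
            obtain ⟨i, hi⟩ := Subgroup.mem_zpowers_iff.mp w.2
            rw [← mul_smul, ← hi, (hyz.zpow_right i).eq, mul_smul, q.2]⟩
          one_smul := fun q => Subtype.ext (one_smul G q.1)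
          mul_smul := fun a b q => Subtype.ext (mul_smul (a : G) (b : G) q.1) }
      letI := act
      have hp : IsPGroup 7 (Subgroup.zpowers z) := IsPGroup.of_card (n := 1) (by rw [Nat.card_zpowers, hz, pow_one])
      have hmod := hp.card_modEq_card_fixedPoints {q : G ⧸ H // y • q = q}
      have hF : MulAction.fixedPoints (Subgroup.zpowers z) {q : G ⧸ H // y • q = q} =
          {⟨((1 : G) : G ⧸ H), hy1'⟩} := by
        ext q
        rw [MulAction.mem_fixedPoints, Set.mem_singleton_iff]
        constructor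
        · intro h
          exact Subtype.ext (hzfix q.1 (congrArg Subtype.val (h ⟨z, Subgroup.mem_zpowers z⟩)))
        · rintro rfl w
          apply Subtype.ext
          show (w : G) • ((1 : G) : G ⧸ H) = _
          rw [MulAction.Quotient.smul_coe, smul_eq_mul, mul_one, QuotientGroup.eq, mul_one]
          exact inv_mem ((Subgroup.zpowers_le.mpr (hPH hzP)) w.2)
      rw [hF, Nat.card_coe_set_eq, Set.ncard_singleton, Nat.ModEq] at hmod
      omega
    have hle : Nat.card {q : G ⧸ H // y • q = q} ≤ 15 :=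
      hX ▸ Nat.card_le_card_of_injective _ Subtype.val_injective
    have hall : Nat.card {q : G ⧸ H // y • q = q} = 15 := by omega
    have hbij := ((Nat.bijective_iff_injective_and_card _).mpr
      ⟨Subtype.val_injective, hall.trans hX.symm⟩ : Function.Bijective
        (Subtype.val : {q : G ⧸ H // y • q = q} → G ⧸ H)).2
    have hHt : H ≠ ⊤ := fun e => by
      rw [e, Subgroup.index_top] at hidx
      omega
    obtain ⟨g, hg⟩ : ∃ g : G, g ∉ H := by
      by_contra hcon
      push Not at hcon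
      exact hHt (eq_top_iff.mpr fun g _ => hcon g)
    have hinj := toPermHom_injective_of_not_trivial (G := G) (X := G ⧸ H)
      ⟨g, ((1 : G) : G ⧸ H), fun h => hg (by
        rw [MulAction.Quotient.smul_coe, smul_eq_mul, mul_one, QuotientGroup.eq, mul_one] at h
        exact inv_mem_iff.mp h)⟩
    refine hy1 (hinj ?_)
    rw [map_one]
    ext q
    obtain ⟨⟨q', hq'⟩, rfl⟩ := hbij q
    exact hq'
  · have hp : IsPGroup 3 (Subgroup.zpowers y) := IsPGroup.of_card (n := 1) (by rw [Nat.card_zpowers, hyo, pow_one])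
    have hm3 := hp.card_modEq_card_fixedPoints (Sylow 7 G)
    have hf : Nat.card (MulAction.fixedPoints (Subgroup.zpowers y) (Sylow 7 G)) = SylowFixed.fixCard 7 y := by
      refine Nat.card_congr (Equiv.subtypeEquivRight fun Q => ⟨fun h => h ⟨y, Subgroup.mem_zpowers y⟩, ?_⟩)
      rintro h ⟨w, hw⟩
      exact (Subgroup.zpowers_le.mpr h : Subgroup.zpowers y ≤ MulAction.stabilizer G Q) hw
    rw [hf, hn, Nat.ModEq] at hm3
    have h15 : SylowFixed.fixCard 7 y = 15 := by omega
    rw [h15] at hidx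
    exact SylowFixed.index_ne_of_alternating hna (m := 8) (j := 4) (by norm_num) (by norm_num)
      (by norm_num [Nat.factorial]) (by rw [hG]; norm_num [Nat.factorial]) H (by omega)

/-- No finite simple group has order 5040 = 2^4 * 3^2 * 5 * 7. -/
theorem result {G : Type*} [Group G] [Finite G] [IsSimpleGroup G] : Nat.card G ≠ 5040 := by
  intro hG
  haveI : Fact (Nat.Prime 7) := ⟨by norm_num⟩
  have hna : ¬ IsMulCommutative G := not_isMulCommutative_of_not_prime (by rw [hG]; norm_num)
  have h7 : Nat.card G = 7 ^ 1 * 720 := by rw [hG]; norm_num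
  have hdvd : 7 ∣ Nat.card G := by rw [hG]; norm_num
  obtain ⟨P⟩ : Nonempty (Sylow 7 G) := inferInstance
  have hP : Nat.card (P : Subgroup G) = 7 := SylowFixed.setup h7 (by norm_num) rfl P
  set N := Subgroup.normalizer ((P : Subgroup G) : Set G) with hNdef
  set C := Subgroup.centralizer ((P : Subgroup G) : Set G) with hCdef
  have h1 := card_sylow_mem_filter (G := G) (p := 7) h7 (by norm_num)
  rw [show (Finset.range (720 + 1)).filter (fun d => 720 % d = 0 ∧ d % 7 = 1) = {1, 8, 15, 36, 120} by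
    decide +kernel] at h1
  simp only [Finset.mem_insert, Finset.mem_singleton] at h1
  have hNG := card_sylow_mul_card_normalizer P
  rw [← hNdef] at hNG
  have h6 : Nat.card N ∣ (7 - 1) * Nat.card C := card_normalizer_dvd_of_card_prime hP
  rcases h1 with e | e | e | e | e
  · exact card_sylow_ne_one hna hdvd e
  · rw [e, hG] at hNG
    have h5 := SylowFixed.card_normalizer_dvd hna hdvd P hP (by omega)
    rw [e, ← hNdef, show Nat.card N = 630 by omega] at h5
    norm_num [Nat.factorial] at h5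
  · rw [e, hG] at hNG
    have h5 := SylowFixed.card_centralizer_dvd hna P (by norm_num) hP (t := 2) (by norm_num) (by rw [e])
    rw [← hCdef] at h5
    norm_num [Nat.factorial] at h5
    rw [show Nat.card N = 336 by omega] at h6
    have hC7 : Nat.card C ≤ 7 := Nat.le_of_dvd (by norm_num) (Nat.dvd_of_mul_dvd_mul_left two_pos (by simpa [mul_comm] using h5))
    have := Nat.le_of_dvd (by have := Nat.card_pos (α := C); omega) h6
    omega
  · exact no_thirtysix hG hna P hP e
  · rw [e, hG] at hNG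
    have hN : Nat.card N = 42 := by omega
    have hCN : C ≤ N := Subgroup.centralizer_le_normalizer _
    have h7C : 7 ∣ Nat.card C := by
      haveI : IsMulCommutative (P : Subgroup G) :=
        haveI := isCyclic_of_prime_card (p := 7) hP
        inferInstance
      exact hP ▸ Subgroup.card_dvd_of_le (Subgroup.le_centralizer _)
    have hcases : ∀ m ∈ Nat.divisors 42, 7 ∣ m → m = 7 ∨ m = 14 ∨ m = 21 ∨ m = 42 := by decide +kernel
    rcases hcases _ (Nat.mem_divisors.mpr ⟨hN ▸ Subgroup.card_dvd_of_le hCN, by norm_num⟩) h7C with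
      hc | hc | hc | hc
    · exact no_rational hG hna P hP hN hc
    · exact no_central hG hna P hP e (r := 2) (k := 3) (Or.inl ⟨rfl, rfl⟩) hc
    · exact no_central hG hna P hP e (r := 3) (k := 2) (Or.inr ⟨rfl, rfl⟩) hc
    · exact absurd (Subgroup.eq_of_le_of_card_ge hCN (by rw [hN, hc])).ge (not_normalizer_le_centralizer hna hdvd P)

end Cfsg.Agent.S0978
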