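import Cfsg.Statements.S0979
import Cfsg.Agent.Lib.SmallGroups.PrimeOrderChar

set_option autoImplicit false
open Cfsg

namespace Cfsg.Agent.S0979

open CfsgLib.SmallGroups

theorem signed (a : ℤ) : ∃ s ∈ [(1 : ℤ), -1], a = s * a.natAbs := by
  rcases Int.natAbs_eq a with h | h
  · exact ⟨1, by simp, by rw [one_mul]; exact h⟩
  · exact ⟨-1, by simp, by rw [neg_one_mul]; exact h⟩

theorem arith : ∀ d ∈ (Nat.divisors 5472).filter (fun d => d ≠ 1), ∀ s ∈ [(1 : ℤ), -1],
    (19 : ℤ) ∣ s * d - 1 → ∀ d' ∈ (Nat.divisors 5472).filter (fun d => d ≠ 1), ∀ s' ∈ [(1 : ℤ), -1],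
    (19 : ℤ) ∣ s' * d' - 1 → (-1 - s * d - s' * d').natAbs ∣ 5472 →
      (19 : ℤ) ∣ -1 - s * d - s' * d' + 3 → (-1 - s * d - s' * d').natAbs = 1 := by decide +kernel

/-- No finite simple group has order 5472 = 2^5 * 3^2 * 19. -/
theorem result {G : Type*} [Group G] [Finite G] [IsSimpleGroup G] : Nat.card G ≠ 5472 := by
  intro hG
  haveI : Fact (Nat.Prime 19) := ⟨by norm_num⟩
  have hna : ¬ IsMulCommutative G := not_isMulCommutative_of_not_prime (by rw [hG]; norm_num)
  have hfac : Nat.card G = 19 ^ 1 * 288 := by rw [hG]; norm_num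
  obtain ⟨P⟩ : Nonempty (Sylow 19 G) := inferInstance
  have hP : Nat.card (P : Subgroup G) = 19 := by
    simpa using card_sylow_eq hfac (by norm_num) P
  have hdvd : 19 ∣ Nat.card G := by rw [hG]; norm_num
  have hn : Nat.card (Sylow 19 G) = 96 := by
    have h1 := card_sylow_mem_filter (G := G) (p := 19) hfac (by norm_num)
    have h2 := card_sylow_ne_one (G := G) (p := 19) hna hdvd
    have h3 : (Finset.range (288 + 1)).filter (fun d => 288 % d = 0 ∧ d % 19 = 1) = {1, 96} := by decide +kernel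
    rw [h3] at h1
    simp only [Finset.mem_insert, Finset.mem_singleton] at h1
    omega
  have hN : Nat.card (Subgroup.normalizer ((P : Subgroup G) : Set G)) = 19 * 3 := by
    have := card_sylow_mul_card_normalizer P
    rw [hn, hG] at this
    omega
  obtain ⟨L, b, hlen, hsum, hL, hb1, hb2, hb3⟩ :=
    PrimeOrderChar.signed_degrees_of_simple hna 19 3 P hP hdvd hN (by norm_num) (by norm_num) (by norm_num)
  obtain ⟨a, a', rfl⟩ := List.length_eq_two.mp hlen
  obtain ⟨ha1, ha2, ha3⟩ := hL a (by simp)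
  obtain ⟨ha1', ha2', ha3'⟩ := hL a' (by simp)
  simp only [List.sum_cons, List.sum_nil, add_zero] at hsum
  rw [hG] at ha1 ha1' hb1
  have hb : b = -1 - a - a' := by linarith
  obtain ⟨s, hs, has⟩ := signed a
  obtain ⟨s', hs', has'⟩ := signed a'
  refine hb2 ?_
  rw [hb, has, has']
  exact arith a.natAbs (Finset.mem_filter.mpr ⟨Nat.mem_divisors.mpr ⟨ha1, by norm_num⟩, ha2⟩) s hs
    (by rw [← has]; exact ha3)
    a'.natAbs (Finset.mem_filter.mpr ⟨Nat.mem_divisors.mpr ⟨ha1', by norm_num⟩, ha2'⟩) s' hs'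
    (by rw [← has']; exact ha3') (by rw [← has, ← has', ← hb]; exact hb1)
    (by rw [← has, ← has', ← hb]; exact hb3)

end Cfsg.Agent.S0979
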