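import Cfsg.Statements.S0980
import Mathlib
import Cfsg.Agent.S0904
import Cfsg.Agent.Lib.SmallGroups.InvertingInvolution
import Cfsg.Agent.Lib.SmallGroups.PrimeFive
import Cfsg.Agent.Lib.SmallGroups.SignedData
import Cfsg.Agent.Lib.SmallGroups.SmallPiece

set_option autoImplicit false
open Cfsg

namespace Cfsg.Agent.S0980

open CfsgLib.SmallGroups CfsgLib.InvolChar
open scoped ComplexConjugate

def types : List (ℕ × ℤ) :=
  [(2, -1), (3, 1), (4, -2), (6, 2), (8, 1), (9, -2), (12, -1), (16, 2), (18, 1), (24, -2), (32, -1),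
    (36, 2), (48, 1), (64, -2), (72, -1)]

theorem mem_types : ∀ d ∈ Nat.divisors 5760, ∀ e ∈ [(-2 : ℤ), -1, 1, 2], 2 ≤ d → d * d < 5760 →
    (5 : ℤ) ∣ 2 * (d : ℤ) - e → (d, e) ∈ types := by decide +kernel

theorem no_solution : ∀ m ∈ (SignedSearch.stage 5760 6 (-2) types 0 0 0).filter (fun m => decide (m.length = 3)),
    ∀ c ∈ [(128 : ℕ), 384], ∀ K ∈ [(0 : ℤ), 10],
      SignedSearch.search 5760 K (c : ℤ) (SignedSearch.degSq m) m 2 (((5760 : ℕ) : ℤ) * 2) 1 1 = false := by
  decide +kernel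

/-- Three characters besides the trivial one do not vanish. -/
theorem card_three {ι : Type*} (T : Finset ι) (u w : ι → ℤ) (hu : ∑ i ∈ T, u i ^ 2 = 6)
    (hw : ∑ i ∈ T, w i ^ 2 ≤ 2) (h0 : ∀ i ∈ T, u i ≠ 0) (hpar : ∀ i ∈ T, (2 : ℤ) ∣ u i - w i) :
    T.card = 3 := by
  classical
  have hub : ∀ i ∈ T, -2 ≤ u i ∧ u i ≤ 2 := fun i hi => by
    have h1 := Finset.single_le_sum (f := fun i => u i ^ 2) (fun i _ => sq_nonneg _) hi
    have h2 : u i ^ 2 ≤ 6 := by linarith
    exact ⟨by nlinarith, by nlinarith⟩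
  have hlow : ∀ i ∈ T, (4 : ℤ) - 3 * w i ^ 2 ≤ u i ^ 2 := by
    intro i hi
    have h1 := h0 i hi
    obtain ⟨k, hk⟩ := hpar i hi
    rcases eq_or_ne (w i) 0 with hw0 | hw0
    · rw [hw0] at hk ⊢
      have hu2 : u i = 2 * k := by omega
      rw [hu2]
      have : k ≠ 0 := by omega
      have : 1 ≤ k ^ 2 := by nlinarith [sq_pos_of_ne_zero this]
      nlinarith
    · have : 1 ≤ w i ^ 2 := by nlinarith [sq_pos_of_ne_zero hw0]
      have : 1 ≤ u i ^ 2 := by nlinarith [sq_pos_of_ne_zero h1]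
      linarith
  have h3 : T.card ≤ 3 := by
    have h := Finset.sum_le_sum hlow
    rw [hu, Finset.sum_sub_distrib, Finset.sum_const, ← Finset.mul_sum, nsmul_eq_mul] at h
    have : (T.card : ℤ) * 4 ≤ 12 := by linarith
    omega
  by_contra hne
  have hcases : ∀ i ∈ T, u i ^ 2 = 1 ∨ u i ^ 2 = 4 := fun i hi => by
    obtain ⟨h1, h2⟩ := hub i hi
    have := h0 i hi
    interval_cases u i <;> first | omega | norm_num
  rcases (by omega : T.card = 0 ∨ T.card = 1 ∨ T.card = 2) with h | h | h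
  · rw [Finset.card_eq_zero.mp h] at hu
    simp at hu
  · obtain ⟨a, ha⟩ := Finset.card_eq_one.mp h
    rw [ha, Finset.sum_singleton] at hu
    rcases hcases a (by simp [ha]) with e | e <;> omega
  · obtain ⟨a, b, hab, hT⟩ := Finset.card_eq_two.mp h
    rw [hT, Finset.sum_pair hab] at hu
    rcases hcases a (by simp [hT]) with e | e <;> rcases hcases b (by simp [hT]) with e' | e' <;> omega

set_option maxHeartbeats 800000 in
theorem impossible {G : Type*} [Group G] [Fintype G] [IsSimpleGroup G] (hG : Nat.card G = 5760)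
    (hna : ¬ IsMulCommutative G) {x t : G} (hx : orderOf x = 5) (hreal : IsConj x x⁻¹)
    (hC : Subgroup.centralizer ({x} : Set G) = Subgroup.zpowers x)
    (hC2 : Nat.card (Subgroup.centralizer ({x ^ 2} : Set G)) = 5) (hnc : ¬ IsConj x (x ^ 2))
    (ht : orderOf t = 2) (k : ℕ) (hk : k = 0 ∨ k = 5)
    (hc : Nat.card (Subgroup.centralizer ({t} : Set G)) ∈ [(128 : ℕ), 384])
    (hp1 : Nat.card {q : G × G // IsConj t q.1 ∧ IsConj t q.2 ∧ q.1 * q.2 = x} = k)
    (hp2 : Nat.card {q : G × G // IsConj t q.1 ∧ IsConj t q.2 ∧ q.1 * q.2 = x ^ 2} = k) : False := by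
  classical
  choose u w huw using fun χ : Cfsg.IrrCharacter G => PrimeFive.exists_values hx hreal χ
  have hss : t * t = 1 := by rw [← pow_two, ← ht, pow_orderOf_eq_one]
  have ht1 : t ≠ 1 := fun h => by rw [h, orderOf_one] at ht; norm_num at ht
  have hx1 : x ≠ 1 := fun h => by rw [h, orderOf_one] at hx; norm_num at hx
  have hx21 : x ^ 2 ≠ 1 := fun h => by
    have := orderOf_dvd_of_pow_eq_one h
    rw [hx] at this
    norm_num at this
  have hord2 : ∀ y : G, IsConj t y → orderOf y = 2 := fun y hy =>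
    (CfsgLib.Invol.orderOf_eq_of_isConj hy).symm.trans ht
  have hox2 : orderOf (x ^ 2) = 5 := by rw [orderOf_pow, hx]; norm_num
  have hreal2 : IsConj (x ^ 2) (x ^ 2)⁻¹ := by
    obtain ⟨g, hg⟩ := isConj_iff.mp hreal
    exact isConj_iff.mpr ⟨g, by rw [← conj_pow, hg, inv_pow]⟩
  have hcx : ∀ (χ : Cfsg.IrrCharacter G) {y : G}, IsConj y y⁻¹ → conj ((χ : G → ℂ) y) = (χ : G → ℂ) y := by
    intro χ y hy
    rw [← CfsgLib.Char.char_inv (CfsgLib.Char.isCharacter_of_isIrr χ.2)]
    exact (CfsgLib.Char.isClassFunction_iff.1 (CfsgLib.Char.isClassFunction_of_isIrr χ.2) _ _ hy).symm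
  -- orthogonality
  have hCx : Nat.card (Subgroup.centralizer ({x} : Set G)) = 5 := by rw [hC, Nat.card_zpowers, hx]
  have oxx := CfsgLib.Char.second_orthogonality x x
  rw [if_pos (IsConj.refl x), hCx] at oxx
  have oyy := CfsgLib.Char.second_orthogonality (x ^ 2) (x ^ 2)
  rw [if_pos (IsConj.refl (x ^ 2)), hC2] at oyy
  have oxy := CfsgLib.Char.second_orthogonality x (x ^ 2)
  rw [if_neg hnc] at oxy
  simp only [fun χ => hcx χ hreal, fun χ => hcx χ hreal2] at oxx oyy oxy
  have hsum_u : ∑ χ, u χ ^ 2 = 2 ^ 2 + 6 := by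
    have h : ((∑ χ, u χ ^ 2 : ℤ) : ℂ) = ((2 ^ 2 + 6 : ℤ) : ℂ) := by
      push_cast
      calc ∑ χ : Cfsg.IrrCharacter G, (u χ : ℂ) ^ 2 = ∑ χ : Cfsg.IrrCharacter G, ((χ : G → ℂ) x * (χ : G → ℂ) x +
            ((χ : G → ℂ) (x ^ 2) * (χ : G → ℂ) (x ^ 2) + 2 * ((χ : G → ℂ) x * (χ : G → ℂ) (x ^ 2)))) :=
            Finset.sum_congr rfl fun χ _ => by rw [← (huw χ).1]; ring
        _ = _ := by
          rw [Finset.sum_add_distrib, Finset.sum_add_distrib, ← Finset.mul_sum, oxx, oyy, oxy]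
          norm_num
    exact_mod_cast h
  have hsum_w : ∑ χ, w χ ^ 2 = 2 := by
    have h : ((∑ χ, 5 * w χ ^ 2 : ℤ) : ℂ) = ((10 : ℤ) : ℂ) := by
      push_cast
      calc ∑ χ : Cfsg.IrrCharacter G, 5 * (w χ : ℂ) ^ 2 = ∑ χ : Cfsg.IrrCharacter G, ((χ : G → ℂ) x * (χ : G → ℂ) x +
            ((χ : G → ℂ) (x ^ 2) * (χ : G → ℂ) (x ^ 2) + (-2) * ((χ : G → ℂ) x * (χ : G → ℂ) (x ^ 2)))) :=
            Finset.sum_congr rfl fun χ _ => by rw [← (huw χ).2.1]; ring
        _ = _ := by
          rw [Finset.sum_add_distrib, Finset.sum_add_distrib, ← Finset.mul_sum, oxx, oyy, oxy]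
          norm_num
    have h' : ∑ χ, 5 * w χ ^ 2 = 10 := by exact_mod_cast h
    rw [← Finset.mul_sum] at h'
    linarith
  have hone : u CfsgLib.Char.irrOne = 2 := by
    have h := (huw CfsgLib.Char.irrOne).1
    rw [CfsgLib.Char.irrOne_apply, CfsgLib.Char.irrOne_apply] at h
    norm_num at h
    exact_mod_cast h.symm
  have hc1152 : Nat.card (Subgroup.centralizer ({t} : Set G)) ≤ 1152 := by
    simp only [List.mem_cons, List.not_mem_nil, or_false] at hc
    omega
  refine SignedData.false_of_no_solution hna hss ht1 hc1152 u 2 6 (2 * (k : ℤ)) types hone hsum_u ?_ ?_ ?_ ?_ ?_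
  · have h := CfsgLib.Char.sum_degree_mul_apply x
    rw [if_neg hx1] at h
    have h' := CfsgLib.Char.sum_degree_mul_apply (x ^ 2)
    rw [if_neg hx21] at h'
    simp only [fun χ : Cfsg.IrrCharacter G => deg_spec χ] at h h'
    have h2 : ((∑ χ, u χ * (deg χ : ℤ) : ℤ) : ℂ) = ((0 : ℤ) : ℂ) := by
      push_cast
      calc ∑ χ : Cfsg.IrrCharacter G, (u χ : ℂ) * (deg χ : ℂ) =
            ∑ χ : Cfsg.IrrCharacter G, ((deg χ : ℂ) * (χ : G → ℂ) x + (deg χ : ℂ) * (χ : G → ℂ) (x ^ 2)) :=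
            Finset.sum_congr rfl fun χ _ => by rw [← (huw χ).1]; ring
        _ = _ := by rw [Finset.sum_add_distrib, h, h', add_zero]
    exact_mod_cast h2
  · have h := CfsgLib.Char.second_orthogonality t x
    rw [if_neg (fun hh => by have := hord2 _ hh; omega)] at h
    have h' := CfsgLib.Char.second_orthogonality t (x ^ 2)
    rw [if_neg (fun hh => by have := hord2 _ hh; omega)] at h'
    simp only [fun χ => hcx χ hreal, fun χ => hcx χ hreal2,
      fun χ : Cfsg.IrrCharacter G => intVal_spec χ hss] at h h'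
    have h2 : ((∑ χ, u χ * intVal χ hss : ℤ) : ℂ) = ((0 : ℤ) : ℂ) := by
      push_cast
      calc ∑ χ : Cfsg.IrrCharacter G, (u χ : ℂ) * (intVal χ hss : ℂ) =
            ∑ χ : Cfsg.IrrCharacter G, ((intVal χ hss : ℂ) * (χ : G → ℂ) x + (intVal χ hss : ℂ) * (χ : G → ℂ) (x ^ 2)) :=
            Finset.sum_congr rfl fun χ _ => by rw [← (huw χ).1]; ring
        _ = _ := by rw [Finset.sum_add_distrib, h, h', add_zero]
    exact_mod_cast h2
  · have h := CfsgLib.Char.card_classProduct_eq t t x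
    have h' := CfsgLib.Char.card_classProduct_eq t t (x ^ 2)
    rw [hp1] at h
    rw [hp2] at h'
    simp only [fun χ => hcx χ hreal, fun χ => hcx χ hreal2,
      fun χ : Cfsg.IrrCharacter G => intVal_spec χ hss,
      fun χ : Cfsg.IrrCharacter G => deg_spec χ] at h h'
    have hcc : (Nat.card {y : G // IsConj t y} : ℂ) *
        (Nat.card (Subgroup.centralizer ({t} : Set G)) : ℂ) = (Nat.card G : ℂ) := by
      exact_mod_cast CfsgLib.Invol.card_conjugates_mul t
    have hG0 : (Nat.card G : ℂ) ≠ 0 := by exact_mod_cast Nat.card_pos.ne'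
    apply Rat.cast_injective (α := ℂ)
    push_cast
    set c : ℂ := (Nat.card (Subgroup.centralizer ({t} : Set G)) : ℂ) with hcdef
    set a : ℂ := (Nat.card {y : G // IsConj t y} : ℂ) with hadef
    set N : ℂ := (Nat.card G : ℂ) with hNdef
    calc N * ∑ χ : Cfsg.IrrCharacter G, (intVal χ hss : ℂ) * (intVal χ hss : ℂ) * (u χ : ℂ) / (deg χ : ℂ)
        = (a * c) ^ 2 / N * (∑ χ : Cfsg.IrrCharacter G,
            (intVal χ hss : ℂ) * (intVal χ hss : ℂ) * (χ : G → ℂ) x / (deg χ : ℂ) +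
          ∑ χ : Cfsg.IrrCharacter G,
            (intVal χ hss : ℂ) * (intVal χ hss : ℂ) * (χ : G → ℂ) (x ^ 2) / (deg χ : ℂ)) := by
          rw [← Finset.sum_add_distrib, hcc, sq, mul_div_assoc, div_self hG0, mul_one]
          congr 1
          exact Finset.sum_congr rfl fun χ _ => by rw [← (huw χ).1]; ring
      _ = c ^ 2 * ((k : ℂ) + (k : ℂ)) := by
          nth_rw 1 [h]
          rw [h']
          ring
      _ = _ := by ring
  · intro χ h0 h4 h2 hd hlt
    rw [hG] at hd hlt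
    refine mem_types _ (Nat.mem_divisors.mpr ⟨hd, by norm_num⟩) _ ?_ h2 hlt (huw χ).2.2.1
    have h5 : -2 ≤ u χ ∧ u χ ≤ 2 := ⟨by nlinarith, by nlinarith⟩
    simp only [List.mem_cons, List.not_mem_nil, or_false]
    omega
  · intro m hm hlen
    rw [hG] at hm ⊢
    refine no_solution m (List.mem_filter.mpr ⟨hm, decide_eq_true ?_⟩) _ hc _ ?_
    · rw [hlen, Nat.card_eq_fintype_card, Fintype.card_subtype]
      refine card_three _ u w ?_ ?_ (fun i hi => (Finset.mem_filter.mp hi).2.2) (fun i _ => (huw i).2.2.2)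
      · have hsplit := hsum_u
        rw [← Finset.add_sum_erase _ _ (Finset.mem_univ (CfsgLib.Char.irrOne : Cfsg.IrrCharacter G)), hone] at hsplit
        have hz : ∑ χ ∈ Finset.univ.filter (fun χ => χ ≠ CfsgLib.Char.irrOne ∧ u χ ≠ 0), u χ ^ 2 =
            ∑ χ ∈ Finset.univ.erase (CfsgLib.Char.irrOne : Cfsg.IrrCharacter G), u χ ^ 2 := by
          refine Finset.sum_subset (fun χ hχ => by simp_all) fun χ hχ hχ' => ?_
          simp_all
        rw [hz]
        linarith
      · rw [← hsum_w]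
        exact Finset.sum_le_sum_of_subset_of_nonneg (Finset.subset_univ _) fun χ _ _ => sq_nonneg _
    · simp only [List.mem_cons, List.not_mem_nil, or_false]
      omega

/-- No finite simple group has order 5760 = 2^7 * 3^2 * 5. -/
theorem result {G : Type*} [Group G] [Finite G] [IsSimpleGroup G] : Nat.card G ≠ 5760 := by
  classical
  intro hG
  haveI := Fintype.ofFinite G
  haveI : Fact (Nat.Prime 5) := ⟨by norm_num⟩
  haveI : Fact (Nat.Prime 2) := ⟨Nat.prime_two⟩
  have hna : ¬ IsMulCommutative G := not_isMulCommutative_of_not_prime (by rw [hG]; norm_num)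
  have h5 : Nat.card G = 5 ^ 1 * 1152 := by rw [hG]; norm_num
  obtain ⟨P⟩ : Nonempty (Sylow 5 G) := inferInstance
  have hP : Nat.card (P : Subgroup G) = 5 := SylowFixed.setup h5 (by norm_num) rfl P
  have hCP : Subgroup.centralizer ((P : Subgroup G) : Set G) = P := Cfsg.Agent.S0904.result 2 3 5 7 2 Nat.prime_two Nat.prime_three (by norm_num) (by norm_num)
    (by norm_num) (by rw [hG]; norm_num) P
  have hNd := card_normalizer_dvd_of_card_prime (p := 5) hP
  rw [hCP, hP] at hNd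
  have hNG := card_sylow_mul_card_normalizer P
  have hmod := mod_eq_one_card_sylow (G := G) (p := 5)
  have hN : Nat.card (Subgroup.normalizer ((P : Subgroup G) : Set G)) = 10 := by
    have hcases : ∀ m ∈ Nat.divisors 20, 5760 / m % 5 = 1 → m = 10 := by decide +kernel
    refine hcases _ (Nat.mem_divisors.mpr ⟨hNd, by norm_num⟩) ?_
    rw [← hG, ← hNG, Nat.mul_div_cancel _ Nat.card_pos]
    exact hmod
  obtain ⟨x, hx, hPx⟩ := exists_zpowers_of_card_prime hP
  have hC : Subgroup.centralizer ({x} : Set G) = Subgroup.zpowers x := by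
    rw [← hPx, ← hCP, ← Subgroup.centralizer_closure, ← Subgroup.zpowers_eq_closure, ← hPx]
  obtain ⟨⟨s, hsN⟩, hs⟩ := exists_prime_orderOf_dvd_card'
    (G := Subgroup.normalizer ((P : Subgroup G) : Set G)) 2 (by rw [hN]; norm_num)
  rw [Subgroup.orderOf_mk] at hs
  rw [hPx] at hsN
  have hinv := PrimeOrderChar.inverts hx (by norm_num) hC hsN hs
  have hreal : IsConj x x⁻¹ := isConj_iff.mpr ⟨s, hinv⟩
  have hox2 : orderOf (x ^ 2) = 5 := by rw [orderOf_pow, hx]; norm_num
  have hz2 : Subgroup.zpowers (x ^ 2) = Subgroup.zpowers x :=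
    Subgroup.eq_of_le_of_card_ge (Subgroup.zpowers_le.mpr (Subgroup.pow_mem _ (Subgroup.mem_zpowers x) 2))
      (by rw [Nat.card_zpowers, Nat.card_zpowers, hox2, hx])
  have hC2' : Subgroup.centralizer ({x ^ 2} : Set G) = Subgroup.zpowers (x ^ 2) := by
    rw [← Subgroup.centralizer_closure, ← Subgroup.zpowers_eq_closure, hz2, ← hPx]
    exact hCP
  have hC2 : Nat.card (Subgroup.centralizer ({x ^ 2} : Set G)) = 5 := by
    rw [hC2', Nat.card_zpowers, hox2]
  have hinv2 : s * x ^ 2 * s⁻¹ = (x ^ 2)⁻¹ := by rw [← conj_pow, hinv, inv_pow]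
  have hnc : ¬ IsConj x (x ^ 2) := by
    intro h
    obtain ⟨g, hg⟩ := isConj_iff.mp h
    have hgN : g ∈ Subgroup.normalizer ((P : Subgroup G) : Set G) := by
      have hmap : (P : Subgroup G).map (MulAut.conj g).toMonoidHom = (P : Subgroup G) := by
        rw [hPx, MonoidHom.map_zpowers, show (MulAut.conj g).toMonoidHom x = x ^ 2 from hg, hz2]
      refine Subgroup.mem_normalizer_iff.mpr fun y => ?_
      conv_rhs => rw [← hmap]
      rw [Subgroup.mem_map_equiv]
      simp [mul_assoc]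
    -- g² centralises x, so x⁴ = x
    have hd : orderOf (⟨g, hgN⟩ : Subgroup.normalizer ((P : Subgroup G) : Set G)) ∣ 10 :=
      hN ▸ orderOf_dvd_natCard _
    rw [Subgroup.orderOf_mk] at hd
    have hg10 : g ^ 10 = 1 := orderOf_dvd_iff_pow_eq_one.mp hd
    have hn : ∀ n : ℕ, g ^ n * x * (g ^ n)⁻¹ = x ^ 2 ^ n := by
      intro n
      induction n with
      | zero => simp
      | succ n ih =>
        rw [pow_succ', mul_inv_rev, show g * g ^ n * x * ((g ^ n)⁻¹ * g⁻¹) =
          g * (g ^ n * x * (g ^ n)⁻¹) * g⁻¹ by group, ih, ← conj_pow, hg, ← pow_mul, pow_succ']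
    have h10 := hn 10
    rw [hg10, one_mul, inv_one, mul_one] at h10
    have : x ^ 1023 = 1 := by
      have : x * x ^ 1023 = x * 1 := by rw [mul_one, ← pow_succ']; exact h10.symm
      exact mul_left_cancel this
    have := orderOf_dvd_of_pow_eq_one this
    rw [hx] at this
    norm_num at this
  -- a central involution of a Sylow 2-subgroup
  obtain ⟨T⟩ : Nonempty (Sylow 2 G) := inferInstance
  have hT : Nat.card (T : Subgroup G) = 2 ^ 7 := card_sylow_eq (m := 45) (by rw [hG]; norm_num) (by norm_num) T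
  haveI : Nontrivial (T : Subgroup G) := by
    rw [← Finite.one_lt_card_iff_nontrivial, hT]; norm_num
  haveI := T.2.center_nontrivial
  obtain ⟨j, hj0, hj⟩ := (T.2.to_subgroup (Subgroup.center (T : Subgroup G))).nontrivial_iff_card.mp inferInstance
  obtain ⟨⟨⟨z, hzT⟩, hzc⟩, hz⟩ := exists_prime_orderOf_dvd_card' (G := Subgroup.center (T : Subgroup G)) 2
    (by rw [hj]; exact dvd_pow_self 2 (by omega))
  rw [Subgroup.orderOf_mk, Subgroup.orderOf_mk] at hz
  have h128 : 128 ∣ Nat.card (Subgroup.centralizer ({z} : Set G)) := by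
    rw [show 128 = 2 ^ 7 by norm_num, ← hT]
    refine Subgroup.card_dvd_of_le fun y hy => ?_
    rw [Subgroup.mem_centralizer_singleton_iff]
    exact congrArg Subtype.val (Subgroup.mem_center_iff.mp hzc ⟨y, hy⟩)
  have hzc' : Nat.card (Subgroup.centralizer ({z} : Set G)) ∈ [(128 : ℕ), 384] := by
    have h1152 : Nat.card (Subgroup.centralizer ({z} : Set G)) ∣ 1152 := by
      refine (Nat.Coprime.dvd_mul_left ?_).mp
        ((Subgroup.card_subgroup_dvd_card _).trans (dvd_of_eq (by rw [hG] : Nat.card G = 5 * 1152)))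
      refine ((Nat.Prime.coprime_iff_not_dvd (by norm_num)).mpr fun h' => ?_).symm
      have := SmallPiece.orderOf_dvd_of_prime_dvd_centralizer P hP hx hC h'
      rw [hz] at this
      norm_num at this
    have hcases : ∀ m ∈ Nat.divisors 1152, 128 ∣ m → m ∈ [(128 : ℕ), 384] ∨ m = 1152 := by decide +kernel
    refine (hcases _ (Nat.mem_divisors.mpr ⟨h1152, by norm_num⟩) h128).resolve_right fun e => ?_
    have hz1 : z ≠ 1 := fun h => by rw [h, orderOf_one] at hz; norm_num at hz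
    have hfac := two_mul_card_dvd_factorial hna _ (SylowFixed.centralizer_ne_top hna hz1)
    have hidx := (Subgroup.centralizer ({z} : Set G)).card_mul_index
    rw [e, hG] at hidx
    rw [show (Subgroup.centralizer ({z} : Set G)).index = 5 by omega, hG] at hfac
    norm_num [Nat.factorial] at hfac
  by_cases hsz : IsConj s z
  · refine impossible hG hna hx hreal hC hC2 hnc hs 5 (Or.inr rfl) ?_
      (PrimeOrderChar.card_pairs hx (by norm_num) hC hsN hs)
      (PrimeOrderChar.card_pairs hox2 (by norm_num) hC2' (by rw [hz2]; exact hsN) hs)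
    rw [← CfsgLib.Invol.card_centralizer_of_isConj hsz]
    exact hzc'
  · have hsq : ∀ {g : G}, orderOf g = 2 → g * g = 1 := fun hg => by
      rw [← pow_two, ← hg, pow_orderOf_eq_one]
    haveI : IsEmpty {q : G × G // IsConj z q.1 ∧ IsConj z q.2 ∧ q.1 * q.2 = x} :=
      ⟨fun q => hsz (PrimeOrderChar.isConj_of_pair hx (by norm_num) hC hinv (hsq hs) (hsq hz) q.2)⟩
    haveI : IsEmpty {q : G × G // IsConj z q.1 ∧ IsConj z q.2 ∧ q.1 * q.2 = x ^ 2} :=
      ⟨fun q => hsz (PrimeOrderChar.isConj_of_pair hox2 (by norm_num) hC2' hinv2 (hsq hs) (hsq hz) q.2)⟩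
    exact impossible hG hna hx hreal hC hC2 hnc hz 0 (Or.inl rfl) hzc' Nat.card_of_isEmpty Nat.card_of_isEmpty

end Cfsg.Agent.S0980
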