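import Cfsg.Statements.S0983
import Cfsg.Agent.Lib.SmallSimple.Band6232.Table
import Cfsg.Agent.Lib.SmallSimple.Band6232.Cases
import Cfsg.Agent.S0975
import Cfsg.Agent.S0976
import Cfsg.Agent.S0977
import Cfsg.Agent.S0978
import Cfsg.Agent.S0979
import Cfsg.Agent.S0980
-- import your own Cfsg.Agent.* helpers here

set_option autoImplicit false
open Cfsg

namespace Cfsg.Agent.S0983

/-- A non-abelian finite simple group of order greater than 3640 and at most 6232 has order 4080, 5616, 6048 or 6072. -/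
theorem result {G : Type*} [Group G] [Finite G] [IsSimpleGroup G] (hG : ¬ IsMulCommutative G) (h1 : 3640 < Nat.card G) (h2 : Nat.card G ≤ 6232) : Nat.card G = 4080 ∨ Nat.card G = 5616 ∨ Nat.card G = 6048 ∨ Nat.card G = 6072 := by
  obtain ⟨w, hw⟩ := CfsgLib.SmallSimple.Band6232.exists_cert h1 h2
  have h := CfsgLib.SmallSimple.Band6232.mem_separate_of_check hG hw
  simp only [CfsgLib.SmallSimple.Band6232.separate, List.mem_cons, List.not_mem_nil, or_false] at h
  rcases h with h | h | h | h | h | h | h | h | h | h | h | h | h | h | h | h | h | h | h | h | h | h | h | h |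
    h | h | h | h | h | h
  · exact Or.inl h
  · exact Or.inr (Or.inl h)
  · exact Or.inr (Or.inr (Or.inl h))
  · exact Or.inr (Or.inr (Or.inr h))
  · exact absurd h Cfsg.Agent.S0975.result
  · exact absurd h Cfsg.Agent.S0976.result
  · exact absurd h Cfsg.Agent.S0977.result
  · exact absurd h Cfsg.Agent.S0978.result
  · exact absurd h Cfsg.Agent.S0979.result
  · exact absurd h Cfsg.Agent.S0980.result
  · exact absurd h (CfsgLib.SmallSimple.Band6232.ne_3696 hG)
  · exact absurd h (CfsgLib.SmallSimple.Band6232.ne_3780 hG)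
  · exact absurd h (CfsgLib.SmallSimple.Band6232.ne_3960 hG)
  · exact absurd h (CfsgLib.SmallSimple.Band6232.ne_4200 hG)
  · exact absurd h (CfsgLib.SmallSimple.Band6232.ne_4212 hG)
  · exact absurd h (CfsgLib.SmallSimple.Band6232.ne_4500 hG)
  · exact absurd h (CfsgLib.SmallSimple.Band6232.ne_4620 hG)
  · exact absurd h (CfsgLib.SmallSimple.Band6232.ne_4680 hG)
  · exact absurd h (CfsgLib.SmallSimple.Band6232.ne_4725 hG)
  · exact absurd h (CfsgLib.SmallSimple.Band6232.ne_4760 hG)
  · exact absurd h (CfsgLib.SmallSimple.Band6232.ne_5104 hG)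
  · exact absurd h (CfsgLib.SmallSimple.Band6232.ne_5148 hG)
  · exact absurd h (CfsgLib.SmallSimple.Band6232.ne_5292 hG)
  · exact absurd h (CfsgLib.SmallSimple.Band6232.ne_5400 hG)
  · exact absurd h (CfsgLib.SmallSimple.Band6232.ne_5460 hG)
  · exact absurd h (CfsgLib.SmallSimple.Band6232.ne_5600 hG)
  · exact absurd h (CfsgLib.SmallSimple.Band6232.ne_5880 hG)
  · exact absurd h (CfsgLib.SmallSimple.Band6232.ne_5940 hG)
  · exact absurd h (CfsgLib.SmallSimple.Band6232.ne_6000 hG)
  · exact absurd h (CfsgLib.SmallSimple.Band6232.ne_6160 hG)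

end Cfsg.Agent.S0983
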