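import Cfsg.Statements.S0732
import Mathlib
import Cfsg.Agent.S0727
import Cfsg.Agent.S0730
import Cfsg.Agent.Lib.Classical.Dickson.PSLMap
import Cfsg.Agent.Lib.SmallGroups.PrimePlusOne.Projective
import Cfsg.Agent.Lib.SmallGroups.PrimePlusOne.Affine

set_option autoImplicit false
open Cfsg

namespace Cfsg.Agent.S0732

open MulAction CfsgLib.SmallGroups.PrimePlusOne

theorem three_pretransitive {G α : Type*} [Group G] [Finite G] [MulAction G α] [FaithfulSMul G α]
    [IsPretransitive G α] {p d : ℕ} [Fact p.Prime] (Fr : Frame G α p d) (hd : d = p - 1) :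
    IsMultiplyPretransitive G α 3 ∧ ∀ x : Fin 3 ↪ α, stabilizer G x = ⊥ := by
  classical
  have hsurj : Function.Surjective Fr.mult := (Fr.mult_injective.bijective_of_nat_card_le (by
    rw [Nat.card_eq_fintype_card, ZMod.card_units, Fr.card_H, hd])).2
  have key : ∀ x : Fin 3 ↪ α, ∃ g : G, g • x 0 = Fr.a ∧ g • x 1 = Fr.b ∧ g • x 2 = Fr.pt 1 := by
    intro x
    have h01 : x 0 ≠ x 1 := x.injective.ne (by decide)
    obtain ⟨g, g0, g1⟩ := is_two_pretransitive_iff.mp Fr.two_pretransitive h01 Fr.a_ne_b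
    obtain ⟨t, ht⟩ := Fr.pt_surj (g • x 2) fun e =>
      absurd (x.injective (MulAction.injective g (g0.trans e.symm))) (by decide)
    have ht0 : t ≠ 0 := fun e => by
      rw [e] at ht
      exact absurd (x.injective (MulAction.injective g (g1.trans ht))) (by decide)
    obtain ⟨h, hh⟩ := hsurj (Units.mk0 t ht0)⁻¹
    refine ⟨(h : G) * g, ?_, ?_, ?_⟩
    · rw [mul_smul, g0, (Fr.mem_H.mp h.2).1]
    · rw [mul_smul, g1, (Fr.mem_H.mp h.2).2]
    · rw [mul_smul, ← ht, Fr.smul_H, hh, Units.val_inv_eq_inv_val, Units.val_mk0, inv_mul_cancel₀ ht0]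
  refine ⟨⟨fun x y => ?_⟩, fun x => (Subgroup.eq_bot_iff_forall _).mpr fun g hg => ?_⟩
  · obtain ⟨g, g0, g1, g2⟩ := key x
    obtain ⟨g', g0', g1', g2'⟩ := key y
    refine ⟨g'⁻¹ * g, Function.Embedding.ext fun i => ?_⟩
    show (g'⁻¹ * g) • x i = y i
    rw [mul_smul, inv_smul_eq_iff]
    fin_cases i
    · exact g0.trans g0'.symm
    · exact g1.trans g1'.symm
    · exact g2.trans g2'.symm
  · have hfix : ∀ i, g • x i = x i := fun i => DFunLike.congr_fun (mem_stabilizer_iff.mp hg) i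
    exact Fr.eq_one_of_fix (x.injective.ne (show (0 : Fin 3) ≠ 1 by decide))
      (x.injective.ne (show (0 : Fin 3) ≠ 2 by decide)) (x.injective.ne (show (1 : Fin 3) ≠ 2 by decide))
      (hfix 0) (hfix 1) (hfix 2)

theorem pGen_eq_map {G : Type*} [Group G] {p : ℕ} (N : Subgroup G) (h : ∀ x : G, x ^ p = 1 → x ∈ N) :
    pGen p G = (pGen p N).map N.subtype := by
  rw [pGen, pGen, MonoidHom.map_closure]
  refine congrArg Subgroup.closure (Set.ext fun x => ⟨fun hx => ⟨⟨x, h x hx⟩, Subtype.ext hx, rfl⟩, ?_⟩)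
  rintro ⟨y, hy, rfl⟩
  exact congrArg Subtype.val hy

/-- A transitive permutation group on `p + 1` points (`p` prime) of order `(p+1) p d` with `d < p` is isomorphic to `PGL(2,p)` with `d = p - 1`, or to `PSL(2,p)` with `2d = p - 1`, or else `p + 1 = 2^q` for a prime `q`, `d = 1` or `d = q`, and the group is permutation-isomorphic to a group of semi-affine maps `x ↦ a φ(x) + b` of the field with `2^q` elements. -/
theorem result {α : Type*} [Fintype α] [DecidableEq α] {p d : ℕ} (hp : p.Prime) (hα : Fintype.card α = p + 1) (G : Subgroup (Equiv.Perm α)) [MulAction.IsPretransitive G α] (hG : Nat.card G = (p + 1) * p * d) (hd : d < p) : (d = p - 1 ∧ Nonempty (G ≃* Matrix.ProjGenLinGroup (Fin 2) (ZMod p))) ∨ (2 * d = p - 1 ∧ Nonempty (G ≃* Matrix.ProjectiveSpecialLinearGroup (Fin 2) (ZMod p))) ∨ (∃ q : ℕ, q.Prime ∧ p + 1 = 2 ^ q ∧ (d = 1 ∨ d = q) ∧ ∃ e : α ≃ GaloisField 2 q, ∀ g : G, (e.symm.trans (((g : Equiv.Perm α)).trans e)) ∈ Cfsg.semiaffineGroup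 (GaloisField 2 q)) := by
  classical
  haveI : Fact p.Prime := ⟨hp⟩
  have hαN : Nat.card α = p + 1 := by rw [Nat.card_eq_fintype_card, hα]
  haveI : Nonempty α := Fintype.card_pos_iff.mp (by omega)
  obtain ⟨a⟩ : Nonempty α := inferInstance
  obtain ⟨Fr, -⟩ := exists_frame (G := G) hαN hG hd a
  by_cases hdp : d = p - 1
  · left
    refine ⟨hdp, ?_⟩
    obtain ⟨h3, hsharp⟩ := three_pretransitive Fr hdp
    by_cases hp2 : p = 2
    · subst hp2
      obtain ⟨F, _, _, hF, ⟨e⟩⟩ := Cfsg.Agent.S0727.result (f := 1) le_rfl (by rw [hα]; rfl) G h3 hsharp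
      exact ⟨e.trans (CfsgLib.Classical.Dickson.pglCongr (ZMod.ringEquivOfPrime F Nat.prime_two hF).symm)⟩
    · obtain ⟨F, _, _, hF, ⟨e⟩⟩ := Cfsg.Agent.S0730.result hp hp2 odd_one (by rw [hα, pow_one]) G h3 hsharp
      exact ⟨e.trans (CfsgLib.Classical.Dickson.pglCongr
        (ZMod.ringEquivOfPrime F hp (by rw [hF, pow_one])).symm)⟩
  have hd0 : 0 < d := by
    rw [← Fr.card_H]
    exact Nat.card_pos
  have hdd := Fr.d_dvd
  have hp2 : p ≠ 2 := by
    rintro rfl
    exact hdp (by omega)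
  rcases Nat.even_or_odd d with heven | hodd
  · obtain h | ⟨h2, s, e, hsa, hsb, hs, he, he0⟩ := even_case Fr hαN (even_iff_two_dvd.mp heven)
    · exact absurd h hdp
    · exact Or.inr (Or.inl ⟨h2, psl_of_inversion Fr hαN hG h2 hsa hsb hs he he0⟩)
  obtain ⟨k, hk⟩ := hdd
  have hk2 : 2 ≤ k := by
    rcases k with _ | _ | k
    · rw [mul_zero] at hk; have := hp.two_le; omega
    · exact absurd (by rw [hk]; simp) hdp
    · omega
  have aff : Nat.card (pGen p G) = (p + 1) * p →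
      (d = p - 1 ∧ Nonempty (G ≃* Matrix.ProjGenLinGroup (Fin 2) (ZMod p))) ∨
      (2 * d = p - 1 ∧ Nonempty (G ≃* Matrix.ProjectiveSpecialLinearGroup (Fin 2) (ZMod p))) ∨
      (∃ q : ℕ, q.Prime ∧ p + 1 = 2 ^ q ∧ (d = 1 ∨ d = q) ∧ ∃ e : α ≃ GaloisField 2 q, ∀ g : G,
        (e.symm.trans (((g : Equiv.Perm α)).trans e)) ∈ Cfsg.semiaffineGroup (GaloisField 2 q)) := fun h => by
    obtain ⟨q, hq, hpq, hdq, e, he⟩ := semiaffine_of_small Fr hαN hp2 h
    exact Or.inr (Or.inr ⟨q, hq, hpq, hdq, e, fun g => he g⟩)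
  by_cases hsmall : d = 1 ∨ 3 * d ≤ p - 1
  · exact aff (card_pGen Fr hαN hG hodd hsmall)
  push Not at hsmall
  have hk' : k = 2 := by
    by_contra hne
    have : d * 3 ≤ d * k := Nat.mul_le_mul_left d (by omega)
    omega
  have h2 : 2 * d = p - 1 := by rw [hk, hk', mul_comm]
  rcases inverted_or_reduce Fr hαN hG hd hodd with hinv | ⟨N, d', htrans, hN, hdvd, hlt, hmem⟩
  · obtain ⟨s, e, hsa, hsb, hs, he, he0⟩ := inversion_odd Fr hαN hG h2 hodd hinv
    exact Or.inr (Or.inl ⟨h2, psl_of_inversion Fr hαN hG h2 hsa hsb hs he he0⟩)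
  · refine aff ?_
    haveI := htrans
    obtain ⟨Fr', -⟩ := exists_frame (G := N) hαN hN (by omega) a
    have hd' : 3 * d' ≤ d := by
      obtain ⟨j, hj⟩ := hdvd
      have hjo : Odd j := hodd.of_dvd_nat (hj ▸ dvd_mul_left j d')
      have hj3 : 3 ≤ j := by
        rcases j with _ | _ | _ | j
        · exact absurd hjo (by decide)
        · omega
        · exact absurd hjo (by decide)
        · omega
      rw [hj, mul_comm 3]
      exact Nat.mul_le_mul_left d' hj3
    rw [pGen_eq_map N hmem, Subgroup.card_map_of_injective N.subtype_injective]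
    exact card_pGen Fr' hαN hN (hodd.of_dvd_nat hdvd) (Or.inr (by omega))

end Cfsg.Agent.S0732
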