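import Cfsg.Statements.S0073
import Cfsg.Agent.Lib.Transfer.SmallSylow

set_option autoImplicit false
open Cfsg

namespace Cfsg.Agent.S0073

/-- For a finite non-abelian simple group, either the cube of the least prime divisor of the order divides the order, or 12 does. -/
theorem result {G : Type*} [Group G] [Finite G] [IsSimpleGroup G] (hG : ∃ x y : G, x * y ≠ y * x) : (Nat.card G).minFac ^ 3 ∣ Nat.card G ∨ 12 ∣ Nat.card G := by
  obtain ⟨x, y, hxy⟩ := hG
  have hn1 : Nat.card G ≠ 1 := fun h => by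
    have := (Nat.card_eq_one_iff_unique.1 h).1
    exact hxy (Subsingleton.elim _ _)
  have hpp := Nat.minFac_prime hn1
  have hpG := Nat.minFac_dvd (Nat.card G)
  have hle := fun {q : ℕ} (hq : q.Prime) (h : q ∣ Nat.card G) => Nat.minFac_le_of_dvd hq.two_le h
  set p := (Nat.card G).minFac
  have := Fact.mk hpp
  obtain ⟨P⟩ : Nonempty (Sylow p G) := inferInstance
  obtain ⟨a, ha⟩ := IsPGroup.iff_card.1 P.2
  have hne : ¬ Cfsg.HasNormalPComplement p G := by
    intro h
    obtain ⟨N, hN, hc⟩ := (CfsgLib.Transfer.hasNormalPComplement_iff_sylow P).1 h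
    rcases hN.eq_bot_or_eq_top with rfl | rfl
    · have htop : (P : Subgroup G) = ⊤ := by simpa using hc
      have hG' : IsPGroup p G :=
        P.2.of_equiv ((MulEquiv.subgroupCongr htop).trans Subgroup.topEquiv)
      have : Group.IsNilpotent G := hG'.isNilpotent
      exact hxy (mul_comm' x y)
    · have hbot : (P : Subgroup G) = ⊥ := by simpa using hc
      exact P.ne_bot_of_dvd_card hpG hbot
  rcases le_or_gt 3 a with h3 | h3
  · exact Or.inl ((pow_dvd_pow p h3).trans (ha ▸ Subgroup.card_subgroup_dvd_card _))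
  have ha1 : 1 ≤ a := Nat.one_le_iff_ne_zero.2 fun h0 =>
    P.ne_bot_of_dvd_card hpG (Subgroup.card_eq_one.1 (by rw [ha, h0, pow_zero]))
  have hP : IsMulCommutative (P : Subgroup G) := by
    rcases (show a = 1 ∨ a = 2 by omega) with rfl | rfl
    · rw [pow_one] at ha
      have := isCyclic_of_prime_card ha
      exact inferInstance
    · exact IsPGroup.isMulCommutative_of_card_eq_prime_sq ha
  by_contra hcon
  rw [not_or] at hcon
  refine hne (CfsgLib.Transfer.hasNormalPComplement_of_forall_modEq P hP ha ?_)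
  intro q hq hqG hqp j hj hmod
  have hlt : p < q := lt_of_le_of_ne (hle hq hqG) (Ne.symm hqp)
  have hdvd : q ∣ p ^ a - p ^ j :=
    (Nat.modEq_iff_dvd' (Nat.pow_le_pow_right hpp.pos hj.le)).1 hmod.symm
  have hbad : ∀ m, m < q → 0 < m → ¬ q ∣ m := fun m h1 h2 h => absurd (Nat.le_of_dvd h2 h) (by omega)
  have hp2 := hpp.two_le
  rcases (show (a = 1 ∧ j = 0) ∨ (a = 2 ∧ j = 0) ∨ (a = 2 ∧ j = 1) by omega) with
    ⟨rfl, rfl⟩ | ⟨rfl, rfl⟩ | ⟨rfl, rfl⟩
  · rw [pow_one, pow_zero] at hdvd
    exact hbad _ (by omega) (by omega) hdvd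
  · rw [pow_zero, show p ^ 2 - 1 = (p + 1) * (p - 1) by rw [← Nat.sq_sub_sq, one_pow]] at hdvd
    rcases hq.dvd_mul.1 hdvd with h | h
    · have hq1 : q = p + 1 := le_antisymm (Nat.le_of_dvd (by omega) h) hlt
      have hp2' : p = 2 := by
        by_contra hne2
        have h1 := hpp.odd_of_ne_two hne2
        have h2 : Odd q := hq.odd_of_ne_two (by omega)
        rw [hq1] at h2
        exact (Nat.not_even_iff_odd.2 h2) h1.add_one
      have hq3 : q = 3 := by omega
      apply hcon.2
      have h4 : 4 ∣ Nat.card G := by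
        have := ha ▸ Subgroup.card_subgroup_dvd_card (P : Subgroup G)
        rw [hp2'] at this
        exact this
      exact (Nat.Coprime.mul_dvd_of_dvd_of_dvd (by decide : Nat.Coprime 4 3) h4 (hq3 ▸ hqG))
    · exact hbad _ (by omega) (by omega) h
  · rw [pow_one, show p ^ 2 - p = p * (p - 1) by rw [sq, Nat.mul_sub_one]] at hdvd
    rcases hq.dvd_mul.1 hdvd with h | h
    · exact hbad _ hlt hpp.pos h
    · exact hbad _ (by omega) (by omega) h

end Cfsg.Agent.S0073
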