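import Cfsg.Statements.S5415
import Cfsg.Agent.Lib.MonsterType.ThreeCentral.Induced
import Cfsg.Agent.Lib.MonsterType.ThreeCentral.Glue
import Cfsg.Agent.Lib.MonsterType.Local.Quot

set_option autoImplicit false
open Cfsg

namespace Cfsg.Agent.S5415

open CfsgLib.MonsterType CfsgLib.MonsterType.ThreeCentral

/-- The quotient of inverse images. -/
theorem comap_quotient {A B : Type*} [Group A] [Group B] (π : A →* B) (hπ : Function.Surjective π)
    (N M : Subgroup B) [N.Normal] :
    Nonempty (M.comap π ⧸ (N.comap π).subgroupOf (M.comap π) ≃* M ⧸ N.subgroupOf M) := by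
  let f : M.comap π →* M := (π.comp (M.comap π).subtype).codRestrict M fun x => x.2
  have hf : Function.Surjective f := fun y => by
    obtain ⟨x, hx⟩ := hπ y
    exact ⟨⟨x, show π x ∈ M from hx ▸ y.2⟩, Subtype.ext hx⟩
  let φ : M.comap π →* M ⧸ N.subgroupOf M := (QuotientGroup.mk' _).comp f
  have hker : φ.ker = (N.comap π).subgroupOf (M.comap π) := by
    ext x
    rw [MonoidHom.mem_ker, MonoidHom.comp_apply, QuotientGroup.mk'_apply, QuotientGroup.eq_one_iff,
      Subgroup.mem_subgroupOf, Subgroup.mem_subgroupOf, Subgroup.mem_comap]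
    rfl
  exact ⟨(QuotientGroup.quotientMulEquivOfEq hker.symm).trans
    (QuotientGroup.quotientKerEquivOfSurjective φ ((QuotientGroup.mk'_surjective _).comp hf))⟩

/-- Let G be a finite group of Monster type at the involution z with Q the extraspecial normal subgroup of order 2^25 of C = C_G(z) (so C/Q is identified with the first Conway group with Q modulo its centre the Leech lattice modulo 2, and z is not weakly closed in Q). Let s be a conjugate of z in Q other than z and let Y be a subgroup of order 3 of the joint centralizer L of z and s that is 3-central in L (Y lies in the centre of some Sylow 3-subgroup of L). Then the centralizer of Y modulo Y is a group of large Fischer type (an involution whose centralizer D has generalized Fitting subgroup R extraspecial of order 2^13 and normal subgroups R ≤ N ≤ M with N/R of order 3, M/N the projective special unitary group of dimension 4 over the field with nine elements and M of index 2 in D; the involution not weakly closed in R). -/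
theorem result {G : Type*} [Group G] [Finite G] (z : G) (Q : Subgroup (Subgroup.centralizer ({z} : Set G))) [Q.Normal] (hM : Cfsg.IsOfMonsterType z Q) (s : G) (hsQ : ∃ hsc : s ∈ Subgroup.centralizer ({z} : Set G), (⟨s, hsc⟩ : Subgroup.centralizer ({z} : Set G)) ∈ Q) (hs : IsConj z s) (hs1 : s ≠ z) (Y : Subgroup G) (hY : Y ≤ Subgroup.centralizer ({z, s} : Set G)) (hY3 : Nat.card Y = 3) (hc : ∃ P : Sylow 3 ↥(Subgroup.centralizer ({z, s} : Set G)), Y.subgroupOf (Subgroup.centralizer ({z, s} : Set G)) ≤ (Subgroup.center ↥(P : Subgroup ↥(Subgroup.centralizer ({z, s} : Set G)))).map (P : Subgroup ↥(Subgroup.centralizer ({z, s} : Set G))).subtype) [hn : (Y.subgroupOf (Subgroup.centralizer (Y : Set G))).Normal] : Cfsg.IsOfLargeFischerType (↥(Subgroup.centralizer (Y : Set G)) ⧸ Y.subgroupOf (Subgroup.centralizer (Y : Set G))) := by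
  classical
  have hsQ' : s ∈ qG Q := mem_qG_iff.2 hsQ
  obtain ⟨P, hP⟩ := hc
  obtain ⟨e, ψ, x, D, c, hcc, hcs⟩ := exists_central_data hM hsQ' hs hs1 hY hY3 P hP exists_inverting
  obtain ⟨hz, Qb, hQn, hset, ⟨φ⟩, -⟩ := quot_setting (w := 6) (by norm_num) D fixBasis toInd
    toInd_surjective (fun h => toInd_eq_one_iff) (fun h hh hb => faith hh hb) pCore_ind hcc hcs
  refine ⟨_, Qb, hQn, hset, ?_⟩
  let π := φ.toMonoidHom.comp (QuotientGroup.mk' Qb)
  have hπ : Function.Surjective π := φ.surjective.comp (QuotientGroup.mk'_surjective _)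
  have hker : π.ker = Qb := by
    ext d
    rw [MonoidHom.mem_ker, MonoidHom.comp_apply, MulEquiv.coe_toMonoidHom, MulEquiv.map_eq_one_iff,
      QuotientGroup.mk'_apply, QuotientGroup.eq_one_iff]
  refine ⟨nInd.comap π, mInd.comap π, inferInstance, inferInstance, ?_, Subgroup.comap_mono nInd_le_mInd,
    ?_, ?_, (Subgroup.index_comap_of_surjective _ hπ).trans mInd_index⟩
  · intro d hd
    rw [← hker] at hd
    exact Subgroup.ker_le_comap _ _ hd
  · have h := CfsgLib.MonsterType.card_eq_map_mul_ker_inf π (nInd.comap π)
    rw [Subgroup.map_comap_eq_self_of_surjective hπ, card_nInd, inf_eq_left.2 (Subgroup.ker_le_comap _ _),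
      hker] at h
    exact h
  · refine ⟨GaloisField 3 2, inferInstance, Fintype.ofFinite _, ?_, ?_⟩
    · rw [← Nat.card_eq_fintype_card, GaloisField.card 3 2 (by norm_num)]; norm_num
    · let inst : Fintype (GaloisField 3 2) := Fintype.ofFinite _
      obtain ⟨d⟩ := comap_quotient π hπ nInd mInd
      obtain ⟨q⟩ := @mInd_quotient_psu (GaloisField 3 2) _ inst (by
        rw [← Nat.card_eq_fintype_card, GaloisField.card 3 2 (by norm_num)]; norm_num)
      exact ⟨d.trans q⟩

end Cfsg.Agent.S5415
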