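import Cfsg.Statements.S4688
import Cfsg.Agent.Lib.BrauerPairs.Nilpotent

set_option autoImplicit false
open Cfsg

namespace Cfsg.Agent.S4688

/-- Fix a prime p and a maximal ideal M of the algebraic integers containing p, and a nilpotent p-block B of the finite group G with maximal Brauer pair (P, e). Then for every Brauer pair (Q, f) of B, f is a nilpotent block of C_G(Q); and if moreover (Q, f) ≤ (P, e), then C_P(Q) is a defect group of f as a block of C_G(Q). -/
theorem result {G : Type*} [Group G] [Fintype G] (p : ℕ) [Fact p.Prime] (M : Ideal Cfsg.AlgInt) (hM : Cfsg.IsPModular p M) (B : Set (Cfsg.IrrCharacter G)) (P : Subgroup G) (e : Set (Cfsg.IrrCharacter (Subgroup.centralizer (P : Set G)))) (hmax : Cfsg.IsMaximalBrauerPair p M B P e) (hnil : Cfsg.IsNilpotentBlock p M B) (Q : Subgroup G) (f : Set (Cfsg.IrrCharacter (Subgroup.centralizer (Q : Set G)))) (hQf : Cfsg.IsBrauerPairOf p M B Q f) : Cfsg.IsNilpotentBlock p M f ∧ (Cfsg.SubpairLE p M Q f P e → Cfsg.IsDefectGroup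 p M f ((P ⊓ Subgroup.centralizer (Q : Set G)).subgroupOf (Subgroup.centralizer (Q : Set G)))) := by
  have : M.IsMaximal := hM.2.1
  have hP := hmax.1.1
  have hb := hQf.1
  constructor
  · refine ⟨hb.2, fun R g hRg x hxn hxs hxr => ?_⟩
    have := Fintype.ofFinite (Subgroup.centralizer (Q : Set G))
    obtain ⟨⟨hRp, hg⟩, -, hocc⟩ := (CfsgLib.BrauerPairs.brauerPairOf_iff hM).mp hRg
    set A := Q ⊔ R.map (Subgroup.centralizer (Q : Set G)).subtype with hA
    have hRH : R.map (Subgroup.centralizer (Q : Set G)).subtype ≤ (Subgroup.centralizer (Q : Set G)) := Subgroup.map_subtype_le R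
    have hmem : ∀ z : G, z ∈ Subgroup.centralizer (A : Set G) ↔
        z ∈ (Subgroup.centralizer (Q : Set G)) ∧ z ∈ Subgroup.centralizer ((R.map (Subgroup.centralizer (Q : Set G)).subtype : Subgroup G) : Set G) := by
      intro z
      refine ⟨fun h => ⟨CfsgLib.BrauerPairs.centralizer_anti le_sup_left h,
        CfsgLib.BrauerPairs.centralizer_anti le_sup_right h⟩, fun ⟨h1, h2⟩ => ?_⟩
      refine Subgroup.mem_centralizer_iff.mpr fun y hy => ?_
      refine Subgroup.mem_centralizer_singleton_iff.mp ((sup_le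
        (fun w hw => Subgroup.mem_centralizer_singleton_iff.mpr
          (Subgroup.mem_centralizer_iff.mp h1 w hw))
        (fun w hw => Subgroup.mem_centralizer_singleton_iff.mpr
          (Subgroup.mem_centralizer_iff.mp h2 w hw)) :
          A ≤ Subgroup.centralizer ({z} : Set G)) hy)
    have hcA : (Subgroup.centralizer (R : Set (Subgroup.centralizer (Q : Set G)))).map (Subgroup.centralizer (Q : Set G)).subtype =
        Subgroup.centralizer (A : Set G) := by
      ext z
      rw [hmem]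
      constructor
      · rintro ⟨w, hw, rfl⟩
        refine ⟨w.2, Subgroup.mem_centralizer_iff.mpr ?_⟩
        rintro _ ⟨r, hr, rfl⟩
        exact congrArg Subtype.val (Subgroup.mem_centralizer_iff.mp hw r hr)
      · rintro ⟨h1, h2⟩
        exact ⟨⟨z, h1⟩, Subgroup.mem_centralizer_iff.mpr fun r hr =>
          Subtype.ext (Subgroup.mem_centralizer_iff.mp h2 (r : G) ⟨r, hr, rfl⟩), rfl⟩
    obtain ⟨g', hg', hu⟩ := CfsgLib.BrauerPairs.exists_up (M := M) ‹Fact p.Prime› (a := ⟨R, g⟩) hcA hg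
    have hAN : A ≤ Subgroup.normalizer (Q : Set G) :=
      sup_le Subgroup.le_normalizer (hRH.trans (Subgroup.centralizer_le_normalizer _))
    have hAp : IsPGroup p A := hb.1.to_sup_of_normal_left' (hRp.map _)
      (hRH.trans (Subgroup.centralizer_le_normalizer _))
    have hn : IsNormalSubpair p M Q f A g' := by
      refine (CfsgLib.BrauerPairs.normalSubpair_iff hM).mpr ⟨hb, ⟨hAp, hg'⟩, le_sup_left, hAN,
        CfsgLib.BrauerPairs.isFixed_iff_le_fixer.mpr (sup_le
          ((CfsgLib.BrauerPairs.le_stab f).trans inf_le_right)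
          (hRH.trans ((CfsgLib.BrauerPairs.cen_le_stab f).trans inf_le_right))), ?_⟩
      show CfsgLib.BrauerPairs.br A _ * CfsgLib.BrauerPairs.pid M (⟨A, g'⟩ : BrauerPairIdx G) =
        CfsgLib.BrauerPairs.pid M (⟨A, g'⟩ : BrauerPairIdx G)
      rw [hu.pid_eq, CfsgLib.BrauerPairs.gidem_eq_emb hb.2, ← CfsgLib.BrauerPairs.emb_br
        (fun z => CfsgLib.BrauerPairs.cen_iff_map hcA z), ← map_mul,
        ← CfsgLib.BrauerPairs.gidemTop_eq hb.2]
      exact congrArg (CfsgLib.BrauerPairs.emb (Subgroup.centralizer (Q : Set G))) hocc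
    have hBA : IsBrauerPairOf p M B A g' := (CfsgLib.BrauerPairs.brauerPairOf_iff_of_subpair hM
      (a := ⟨Q, f⟩) (b := ⟨A, g'⟩) (Relation.ReflTransGen.single hn)).mpr hQf
    have hxN : (x : G) ∈ Subgroup.normalizer (A : Set G) := by
      rw [Subgroup.mem_normalizer_iff_map_conj_eq]
      show (Q ⊔ R.map (Subgroup.centralizer (Q : Set G)).subtype).map (MulAut.conj (x : G)).toMonoidHom = Q ⊔ R.map (Subgroup.centralizer (Q : Set G)).subtype
      rw [Subgroup.map_sup, CfsgLib.BrauerPairs.map_conj_eq_self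
        (Subgroup.centralizer_le_normalizer _ x.2)]
      congr 1
      conv_rhs => rw [← CfsgLib.BrauerPairs.map_conj_eq_self hxn]
      rw [Subgroup.map_map, Subgroup.map_map]
      congr 1
    have hxA : (x : G) ∈ CfsgLib.BrauerPairs.stab M A g' := by
      refine ⟨hxN, ?_⟩
      show CfsgLib.BrauerPairs.cjA (x : G) (CfsgLib.BrauerPairs.pid M (⟨A, g'⟩ : BrauerPairIdx G)) =
        CfsgLib.BrauerPairs.pid M (⟨A, g'⟩ : BrauerPairIdx G)
      rw [hu.pid_eq, ← CfsgLib.BrauerPairs.emb_cjA]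
      exact congrArg (CfsgLib.BrauerPairs.emb (Subgroup.centralizer (Q : Set G)))
        ((CfsgLib.BrauerPairs.stabilizesBlock_iff hg).mp hxs).2
    have h1 := CfsgLib.BrauerPairs.nilpotent_stab hnil hBA _ hxA
      (by show ¬ p ∣ orderOf (x : G); rw [orderOf_submonoid]; exact hxr)
    exact (CfsgLib.BrauerPairs.cen_iff_map hcA x).mpr h1
  · intro hle
    have hF := CfsgLib.BrauerPairs.blockFusion_spec hM hmax
    refine (CfsgLib.BrauerPairs.fullyCentralized_iff hM hF hle).mp
      ⟨CfsgLib.BrauerPairs.subgroup_le (a := ⟨Q, f⟩) (b := ⟨P, e⟩) hle, fun Q' hQ' => ?_⟩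
    obtain ⟨g, rfl, hgf⟩ := (CfsgLib.BrauerPairs.isConj_iff_pair hM hF hle).mp hQ'
    obtain ⟨v, hv, hvq⟩ :=
      CfsgLib.BrauerPairs.exists_inner_of_nilpotent hM hmax hnil Q f hle g hgf
    have h1 : FusionSystem.centralizerIn P (Q.map (MulAut.conj g).toMonoidHom) ≤
        (FusionSystem.centralizerIn P Q).map (MulAut.conj v).toMonoidHom := by
      rintro y ⟨hyP, hyC⟩
      refine ⟨v⁻¹ * y * v, ⟨P.mul_mem (P.mul_mem (P.inv_mem hv) hyP) hv,
        Subgroup.mem_centralizer_iff.mpr fun q hq => ?_⟩, by simp [mul_assoc]⟩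
      have h2 := Subgroup.mem_centralizer_iff.mp hyC (g * q * g⁻¹) ⟨q, hq, rfl⟩
      rw [hvq q hq] at h2
      calc q * (v⁻¹ * y * v) = v⁻¹ * (v * q * v⁻¹ * y) * v := by group
        _ = v⁻¹ * (y * (v * q * v⁻¹)) * v := by rw [h2]
        _ = v⁻¹ * y * v * q := by group
    refine (Subgroup.card_le_of_le h1).trans ?_
    rw [Subgroup.card_map_of_injective (MulEquiv.injective _)]


end Cfsg.Agent.S4688
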