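import Cfsg.Statements.S2607
import Cfsg.Agent.Lib.KnownSimple.POAut.OutPlus

set_option autoImplicit false
open Cfsg CfsgLib.Classical CfsgLib.POAut

namespace Cfsg.Agent.S2607

/-- Outer automorphism group of PΩ⁺_2m(q), q = 2^f: for m ≥ 5 it is the direct product of a group of order 2 (graph automorphism, an orthogonal transvection) and a cyclic group of order f (field automorphisms); for m = 4 triality enlarges it to S_3 × C_f. -/
theorem result {F : Type*} [Field F] [Fintype F] {f m : ℕ} (hf : 1 ≤ f) (hF : Fintype.card F = 2 ^ f) (hm : 4 ≤ m) : if m = 4 then Nonempty (Cfsg.Out (Cfsg.POmega F (Cfsg.quadFormPlus m F)) ≃* Equiv.Perm (Fin 3) × Multiplicative (ZMod f)) else Nonempty (Cfsg.Out (Cfsg.POmega F (Cfsg.quadFormPlus m F)) ≃* Multiplicative (ZMod 2 × ZMod f)) := by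
  haveI : Fact (Nat.Prime 2) := ⟨Nat.prime_two⟩
  have h2 : ringChar F = 2 := by
    haveI : CharP F 2 := charP_of_card_eq_prime_pow hF
    exact ringChar.eq F 2
  obtain ⟨e₁⟩ := out_plus_equiv (F := F) hm
  split_ifs with h
  · subst h
    obtain ⟨e₂⟩ := (out_D4 (F := F) hF hf).1 h2
    exact ⟨e₁.trans e₂⟩
  · obtain ⟨e₂⟩ := out_plus_two (F := F) (show 5 ≤ m by omega) h2
    obtain ⟨eg⟩ := gal_equiv hF hf
    exact ⟨(e₁.trans (e₂.trans ((MulEquiv.refl _).prodCongr eg.symm))).trans
      (MulEquiv.prodMultiplicative (ZMod 2) (ZMod f)).symm⟩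

end Cfsg.Agent.S2607
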