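import Cfsg.Statements.S0817
import Cfsg.Agent.S2607
import Cfsg.Agent.S2608
import Cfsg.Agent.Lib.Classical.AutOrder.POmega

set_option autoImplicit false
open Cfsg CfsgLib.Classical CfsgLib.POAut

namespace Cfsg.Agent.S0817

/-- |Aut(PΩ⁺_2m(q))| for q = p^f, m ≥ 4: |PΩ⁺_2m(q)| times f, times 3 when m = 4, times 2 if p = 2, and times 8 or 4 if p is odd according as m(q−1)/2 is even or odd. -/
theorem result {F : Type*} [Field F] [Fintype F] (p f : ℕ) [Fact p.Prime] (hf : 1 ≤ f) (hF : Fintype.card F = p ^ f) (m : ℕ) (hm : 4 ≤ m) : Nat.card (MulAut (Cfsg.POmega F (Cfsg.quadFormPlus m F))) = (if m = 4 then 3 else 1) * (if p = 2 then 2 else (if Even (m * (p ^ f - 1) / 2) then 8 else 4)) * f * Nat.card (Cfsg.POmega F (Cfsg.quadFormPlus m F)) := by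
  have key : ∀ fq (h : ⇑(qPlus m F) = fq),
      Nat.card (MulAut (Cfsg.POmega F fq)) = Nat.card (Cfsg.Out (Cfsg.POmega F fq)) * Nat.card (Cfsg.POmega F fq) := by
    rintro _ rfl
    have hQ := pre_qPlus (F := F) hm
    haveI : Group.IsPerfect (eichGroup (qPlus m F)) := ⟨Subgroup.map_injective (eichGroup (qPlus m F)).subtype_injective (by
      rw [commutator_def, Subgroup.map_commutator, ← MonoidHom.range_eq_map, Subgroup.range_subtype,
        eichGroup_perfect (qPlus m F) hQ.nondeg (by have := hQ.seven; omega)])⟩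
    haveI : Group.IsPerfect (Cfsg.Omega F ⇑(qPlus m F)) := Group.IsPerfect.ofSurjective
      (f := (omegaEquiv (qPlus m F) hQ).symm.toMonoidHom) (omegaEquiv (qPlus m F) hQ).symm.surjective
    exact CfsgLib.Classical.AutOrder.card_mulAut_of_center_bot (Group.IsPerfect.center_quotient_center_eq_bot _)
  rw [key _ (coe_qPlus m)]
  congr 1
  haveI : NeZero f := ⟨by omega⟩
  have hz : Nat.card (Multiplicative (ZMod f)) = f := by rw [Nat.card_congr Multiplicative.toAdd, Nat.card_zmod]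
  by_cases hp : p = 2
  · subst hp
    rw [if_pos rfl]
    have h := Cfsg.Agent.S2607.result hf hF hm
    by_cases h4 : m = 4
    · rw [if_pos h4] at h ⊢
      obtain ⟨e⟩ := h
      rw [Nat.card_congr e.toEquiv, Nat.card_prod, hz, Nat.card_perm, Nat.card_fin]
      rfl
    · rw [if_neg h4] at h ⊢
      obtain ⟨e⟩ := h
      rw [Nat.card_congr e.toEquiv, Nat.card_congr Multiplicative.toAdd, Nat.card_prod, Nat.card_zmod, Nat.card_zmod,
        one_mul]
  rw [if_neg hp]
  have hq : p ^ f % 2 = 1 := Nat.odd_iff.1 ((Fact.out : p.Prime).odd_of_ne_two hp).pow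
  have hdiv : m * (p ^ f - 1) / 2 = m * ((p ^ f - 1) / 2) := Nat.mul_div_assoc m (by omega)
  have hev : Even (m * (p ^ f - 1) / 2) ↔ ¬ (p ^ f % 4 = 3 ∧ Odd m) := by
    rw [hdiv, Nat.even_mul, Nat.even_iff, Nat.even_iff, Nat.odd_iff]
    omega
  have h := Cfsg.Agent.S2608.result hf hF hp hm
  by_cases h4 : m = 4
  · rw [if_pos h4] at h ⊢
    obtain ⟨e⟩ := h
    rw [if_pos (hev.2 fun hc => absurd hc.2 (by rw [h4]; decide)), Nat.card_congr e.toEquiv, Nat.card_prod, hz,
      Nat.card_perm, Nat.card_fin]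
    rfl
  rw [if_neg h4] at h ⊢
  by_cases hc : p ^ f % 4 = 3 ∧ Odd m
  · rw [if_neg (fun he => hev.1 he hc)]
    rw [if_pos hc] at h
    obtain ⟨e⟩ := h
    rw [Nat.card_congr e.toEquiv, Nat.card_congr Multiplicative.toAdd, Nat.card_prod, Nat.card_prod, Nat.card_zmod,
      Nat.card_zmod]
    ring
  · rw [if_pos (hev.2 hc)]
    rw [if_neg hc] at h
    obtain ⟨e⟩ := h
    rw [Nat.card_congr e.toEquiv, Nat.card_prod, DihedralGroup.nat_card, hz]

end Cfsg.Agent.S0817
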