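import Cfsg.Statements.S0813
import Cfsg.Agent.Lib.KnownSimple.PSLAut.Out

set_option autoImplicit false
open Cfsg CfsgLib.PSLAut

namespace Cfsg.Agent.S0813

/-- |Aut(PSL_n(q))|, q = p^f: for n ≥ 3 it is 2 f |PGL_n(q)|, and for n = 2 (q ≥ 4) it is f |PGL_2(q)|. -/
theorem result {F : Type*} [Field F] [Fintype F] (p f : ℕ) [Fact p.Prime] (hf : 1 ≤ f) (hF : Fintype.card F = p ^ f) (n : ℕ) (hn : 2 ≤ n) (h2 : n = 2 → 4 ≤ p ^ f) : Nat.card (MulAut (Matrix.ProjectiveSpecialLinearGroup (Fin n) F)) = (if n = 2 then 1 else 2) * f * Nat.card (Matrix.ProjGenLinGroup (Fin n) F) := by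
  obtain ⟨e⟩ := exists_ringAut_equiv (F := F) hF
  haveI : NeZero f := ⟨by omega⟩
  have hA : Nat.card (F ≃+* F) = f := by
    rw [Nat.card_congr e.toEquiv, Nat.card_congr Multiplicative.toAdd, Nat.card_zmod]
  by_cases h : n = 2
  · obtain ⟨ψ, hs, hk⟩ := exists_aut_hom_two (F := F) (n := n) h
    rw [if_pos h, one_mul, card_aut_psl hn ψ hs hk, hA]
  · obtain ⟨ψ, hs, hk, -⟩ := exists_aut_hom_three (F := F) (n := n) (by omega)
    rw [if_neg h, card_aut_psl hn ψ hs hk, Nat.card_prod, hA, Nat.card_congr Multiplicative.toAdd, Nat.card_zmod,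
      mul_comm f]

end Cfsg.Agent.S0813
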