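import Cfsg.Statements.S1515
import Cfsg.Agent.Lib.Char.Generalized

set_option autoImplicit false
open Cfsg

namespace Cfsg.Agent.S1515

/-- Let (S, τ, R) be a coherence system from L to G, χ ∈ S, and ψ an integer combination of S with ⟨χ, ψ⟩ = ⟨conj χ, ψ⟩ = 0. Let τ₁ be a linear isometry on the integer combinations of χ − ψ and χ − conj χ, with virtual-character values, agreeing with τ on integer multiples of χ − conj χ. Then the sum over α ∈ R χ of the squared absolute values of ⟨τ₁(χ − ψ), α⟩ is at least ⟨χ, χ⟩; and if ⟨τ₁(χ − ψ), τ₁(χ − ψ)⟩ minus that sum is at least ⟨ψ, ψ⟩, then the sum equals ⟨χ, χ⟩ and every ⟨τ₁(χ − ψ), α⟩ with α ∈ R χ is 0 or 1. -/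
theorem result {L : Type*} [Group L] [Fintype L] {G : Type*} [Group G] [Fintype G] (S : Set (L → ℂ)) (τ : (L → ℂ) → (G → ℂ)) (R : (L → ℂ) → Finset (G → ℂ)) (hS : Cfsg.IsCoherenceSystem S τ R) (χ : L → ℂ) (hχ : χ ∈ S) (ψ : L → ℂ) (hψ : ψ ∈ Cfsg.zspan S) (h1 : Cfsg.classInner χ ψ = 0) (h2 : Cfsg.classInner (Cfsg.conjFun χ) ψ = 0) (τ₁ : (L → ℂ) → (G → ℂ)) (hτ₁ : Cfsg.IsLinearIsometryOn (Cfsg.zspan {χ - ψ, χ - Cfsg.conjFun χ}) τ₁) (hagree : ∀ n : ℤ, τ₁ (n • (χ - Cfsg.conjFun χ)) = τ (n • (χ - Cfsg.conjFun χ))) : (Cfsg.classInner χ χ).re ≤ ∑ α ∈ R χ, ‖Cfsg.classInner (τ₁ (χ - ψ)) α‖ ^ 2 ∧ ((Cfsg.classInner ψ ψ).re ≤ (Cfsg.classInner (τ₁ (χ - ψ)) (τ₁ (χ - ψ))).re - ∑ α ∈ R χ, ‖Cfsg.classInner (τ₁ (χ - ψ)) α‖ ^ 2 → (∑ α ∈ R χ, ‖Cfsg.classInner (τ₁ (χ - ψ)) α‖ ^ 2 = (Cfsg.classInner χ χ).re ∧ ∀ α ∈ R χ, Cfsg.classInner (τ₁ (χ - ψ)) α = 0 ∨ Cfsg.classInner (τ₁ (χ - ψ)) α = 1))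 := by
  open CfsgLib.Char in
  classical
  obtain ⟨-, -, hinner, hgen⟩ := hτ₁
  set c := Cfsg.conjFun χ with hc
  set T := Cfsg.zspan ({χ - ψ, χ - c} : Set (L → ℂ)) with hT
  have hA : χ - ψ ∈ T := Submodule.subset_span (by simp)
  have hB : χ - c ∈ T := Submodule.subset_span (by simp)
  have hag : τ₁ (χ - c) = ∑ α ∈ R χ, α := by
    have := hagree 1
    rw [one_zsmul] at this
    rw [this, hS.sum_eq χ hχ]
  have hχc : Cfsg.classInner χ c = 0 :=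
    hS.orthogonal χ hχ c (hS.conj_mem χ hχ) (Ne.symm (hS.conj_ne χ hχ))
  have hψc : Cfsg.classInner ψ c = 0 := by rw [← classInner_conj_symm, h2, map_zero]
  have hψχ : Cfsg.classInner ψ χ = 0 := by rw [← classInner_conj_symm, h1, map_zero]
  obtain ⟨n, hn⟩ := classInner_char_nat (hS.isCharacter χ hχ) (hS.isCharacter χ hχ)
  choose a ha using fun α : {α // α ∈ R χ} =>
    classInner_gen_int (hgen _ hA) (hS.virtual χ hχ α.1 α.2)
  have hsum : ∑ α, a α = (n : ℤ) := by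
    have e := hinner _ hA _ hB
    rw [hag, classInner_sum_right, classInner_sub_left, classInner_sub_right, classInner_sub_right,
      hn, hχc, hψc, hψχ, ← Finset.sum_coe_sort] at e
    simp only [ha] at e
    exact_mod_cast e.trans (by ring : (n : ℂ) - 0 - (0 - 0) = (n : ℂ))
  have hsq : (∑ α ∈ R χ, ‖Cfsg.classInner (τ₁ (χ - ψ)) α‖ ^ 2) = ((∑ α, a α ^ 2 : ℤ) : ℝ) := by
    rw [← Finset.sum_coe_sort]
    push_cast
    exact Finset.sum_congr rfl fun α _ => by rw [ha, Complex.norm_intCast, sq_abs]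
  have hle : (n : ℤ) ≤ ∑ α, a α ^ 2 := by
    rw [← hsum]
    exact Finset.sum_le_sum fun α _ => Int.le_self_sq (a α)
  have hn' : (Cfsg.classInner χ χ).re = ((n : ℤ) : ℝ) := by rw [hn]; simp
  refine ⟨by rw [hn', hsq]; exact_mod_cast hle, fun h => ?_⟩
  have hsplit : (Cfsg.classInner (τ₁ (χ - ψ)) (τ₁ (χ - ψ))).re =
      ((n : ℤ) : ℝ) + (Cfsg.classInner ψ ψ).re := by
    rw [hinner _ hA _ hA, classInner_sub_left, classInner_sub_right, classInner_sub_right, h1, hψχ,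
      ← hn']
    simp
  rw [hsplit, hsq] at h
  have hle' : ∑ α, a α ^ 2 ≤ (n : ℤ) := by exact_mod_cast (by linarith : ((∑ α, a α ^ 2 : ℤ) : ℝ) ≤ ((n : ℤ) : ℝ))
  refine ⟨by rw [hsq, hn', le_antisymm hle' hle], fun α hα => ?_⟩
  have hz : ∑ α, (a α ^ 2 - a α) = 0 := by
    rw [Finset.sum_sub_distrib, hsum]; linarith
  have := (Finset.sum_eq_zero_iff_of_nonneg fun α _ => by
    nlinarith [sq_nonneg (a α), sq_nonneg (a α - 1), Int.le_self_sq (a α)]).mp hz ⟨α, hα⟩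
      (Finset.mem_univ _)
  have h3 : a ⟨α, hα⟩ * (a ⟨α, hα⟩ - 1) = 0 := by rw [← this]; ring
  rcases mul_eq_zero.mp h3 with h4 | h4
  · left; rw [ha ⟨α, hα⟩, h4, Int.cast_zero]
  · right; rw [ha ⟨α, hα⟩, sub_eq_zero.mp h4, Int.cast_one]

end Cfsg.Agent.S1515
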