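import Cfsg.Statements.S1516
import Cfsg.Agent.Lib.OddChar.CohSystem

set_option autoImplicit false
open Cfsg

namespace Cfsg.Agent.S1516

/-- Let (S, τ, R) be a coherence system from L to G with degrees φ 1 = d φ and squared norms ⟨φ, φ⟩ = n φ for φ ∈ S. Let S₁ ⊆ S be a finite subset closed under complex conjugation such that (S₁, L minus 1, τ) is coherent, let χ ∈ S with χ ∉ S₁ and conj χ ∉ S₁, and let χ₁ ∈ S₁ with d χ₁ dividing d χ and 2 d χ d χ₁ < Σ_{φ ∈ S₁} (d φ)² / n φ. Then S₁ together with χ and conj χ is coherent. -/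
theorem result {L : Type*} [Group L] [Fintype L] {G : Type*} [Group G] [Fintype G] (S : Set (L → ℂ)) (τ : (L → ℂ) → (G → ℂ)) (R : (L → ℂ) → Finset (G → ℂ)) (hS : Cfsg.IsCoherenceSystem S τ R) (d n : (L → ℂ) → ℕ) (hd : ∀ φ ∈ S, φ 1 = (d φ : ℂ)) (hn : ∀ φ ∈ S, Cfsg.classInner φ φ = (n φ : ℂ)) (S₁ : Finset (L → ℂ)) (hS₁ : ↑S₁ ⊆ S) (hS₁c : ∀ φ ∈ S₁, Cfsg.conjFun φ ∈ S₁) (hcoh : Cfsg.IsCoherent (↑S₁ : Set (L → ℂ)) {1}ᶜ τ) (χ : L → ℂ) (hχ : χ ∈ S) (hχ₁ : χ ∉ S₁) (hχ₂ : Cfsg.conjFun χ ∉ S₁) (χ₁ : L → ℂ) (hχ₁S : χ₁ ∈ S₁) (hdvd : d χ₁ ∣ d χ) (hineq : (2 * d χ * d χ₁ : ℝ) < ∑ φ ∈ S₁, ((d φ : ℝ) ^ 2 / (n φ : ℝ))) : Cfsg.IsCoherent (↑S₁ ∪ {χ, Cfsg.conjFun χ} : Set (L → ℂ)) {1}ᶜ τ := by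
  open CfsgLib.Char CfsgLib.OddChar.Coh in
  classical
  obtain ⟨⟨α₀, hα₀, hα₀ne⟩, σ, hσ, hag⟩ := hcoh
  have hχ₁' : χ₁ ∈ S := hS₁ hχ₁S
  have hn0 : ∀ φ ∈ S, (n φ : ℂ) ≠ 0 := fun φ hφ h0 =>
    ne_zero hS hφ (eq_zero_of_classInner_self_eq_zero (by rw [hn φ hφ, h0]))
  have hd0 : ∀ φ ∈ S, d φ ≠ 0 := by
    intro φ hφ h0
    refine ne_zero hS hφ (funext fun x => norm_eq_zero.mp (le_antisymm ?_ (norm_nonneg _)))
    have := norm_char_le (hS.isCharacter φ hφ) x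
    rwa [hd φ hφ, h0, Nat.cast_zero, Complex.zero_re] at this
  obtain ⟨a, ha⟩ := hdvd
  set ψ : L → ℂ := (a : ℤ) • χ₁ with hψdef
  have hψz : ψ ∈ Cfsg.zspan S := Submodule.smul_mem _ _ (mem_zspan hχ₁')
  have hψ' : ψ = (a : ℂ) • χ₁ := by rw [hψdef, ← Int.cast_smul_eq_zsmul ℂ, Int.cast_natCast]
  have hdeg : χ 1 = ψ 1 := by
    rw [hψ', Pi.smul_apply, smul_eq_mul, hd χ hχ, hd χ₁ hχ₁', ha, Nat.cast_mul]; ring
  have hne : ∀ φ ∈ S₁, φ ≠ χ ∧ φ ≠ Cfsg.conjFun χ := fun φ hφ =>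
    ⟨fun e => hχ₁ (e ▸ hφ), fun e => hχ₂ (e ▸ hφ)⟩
  have ho : ∀ φ ∈ S₁, Cfsg.classInner χ φ = 0 ∧ Cfsg.classInner (Cfsg.conjFun χ) φ = 0 := fun φ hφ =>
    ⟨hS.orthogonal χ hχ φ (hS₁ hφ) (Ne.symm (hne φ hφ).1),
      hS.orthogonal _ (hS.conj_mem χ hχ) φ (hS₁ hφ) (Ne.symm (hne φ hφ).2)⟩
  have hψ1 : Cfsg.classInner χ ψ = 0 := by
    rw [hψ', classInner_smul_right, (ho χ₁ hχ₁S).1, mul_zero]
  have hψ2 : Cfsg.classInner (Cfsg.conjFun χ) ψ = 0 := by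
    rw [hψ', classInner_smul_right, (ho χ₁ hχ₁S).2, mul_zero]
  set D := τ (χ - ψ) with hDdef
  have hmemD : χ - ψ ∈ Cfsg.zspanOn S {1}ᶜ :=
    mem_zspanOn_one (Submodule.sub_mem _ (mem_zspan hχ) hψz) (by simp [hdeg])
  have hDgen : Cfsg.IsGeneralizedCharacter G D := hS.isometry.2.2.2 _ hmemD
  obtain ⟨hge, -⟩ := component_ge hS hχ hψz hdeg hψ1 hψ2
  -- inner products with the values of the extension
  have hσm : ∀ φ ∈ S₁, φ ∈ Cfsg.zspan (↑S₁ : Set (L → ℂ)) := fun φ hφ => mem_zspan hφ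
  have hσperp : ∀ φ ∈ S₁, ∀ α ∈ R χ, Cfsg.classInner α (σ φ) = 0 := by
    intro φ hφ α hα
    rw [← classInner_conj_symm, eq_proj hS hσ hag (hS₁ hφ) hφ (hS₁c φ hφ),
      proj_orth _ fun β hβ => R_orth hS hχ (hS₁ hφ) (hne φ hφ).1 (hne φ hφ).2 β hβ α hα, map_zero]
  obtain ⟨z, hz⟩ := classInner_gen_int hDgen (hσ.2.2.2 χ₁ (hσm χ₁ hχ₁S))
  set e : ℤ := z + (a : ℤ) * n χ₁ with he
  have hcoef : ∀ φ ∈ S₁, Cfsg.classInner D (σ φ) * (d χ₁ : ℂ) =
      (e : ℂ) * d φ - (if φ = χ₁ then (a : ℂ) * d χ₁ * n χ₁ else 0) := by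
    intro φ hφ
    have hm : (d χ₁ : ℤ) • φ - (d φ : ℤ) • χ₁ ∈ Cfsg.zspanOn (↑S₁ : Set (L → ℂ)) {1}ᶜ :=
      mem_zspanOn_one (Submodule.sub_mem _ (Submodule.smul_mem _ _ (hσm φ hφ))
        (Submodule.smul_mem _ _ (hσm χ₁ hχ₁S)))
        (by simp [hd φ (hS₁ hφ), hd χ₁ hχ₁']; ring)
    have h := hS.isometry.2.2.1 _ hmemD _ (zspanOn_mono hS₁ _ hm)
    have hσlin : σ ((d χ₁ : ℤ) • φ - (d φ : ℤ) • χ₁) =
        (d χ₁ : ℂ) • σ φ - (d φ : ℂ) • σ χ₁ := by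
      rw [sub_eq_add_neg, ← neg_smul, hσ.1 _ (Submodule.smul_mem _ _ (hσm φ hφ)) _
        (Submodule.smul_mem _ _ (hσm χ₁ hχ₁S)), hσ.2.1 _ (hσm φ hφ), hσ.2.1 _ (hσm χ₁ hχ₁S),
        ← Int.cast_smul_eq_zsmul ℂ, ← Int.cast_smul_eq_zsmul ℂ, Int.cast_neg, Int.cast_natCast,
        Int.cast_natCast, neg_smul, ← sub_eq_add_neg]
    have hφ1 : Cfsg.classInner χ₁ φ = if φ = χ₁ then (n χ₁ : ℂ) else 0 := by
      by_cases hφ' : φ = χ₁
      · rw [if_pos hφ', hφ', hn χ₁ hχ₁']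
      · rw [if_neg hφ', hS.orthogonal χ₁ hχ₁' φ (hS₁ hφ) (Ne.symm hφ')]
    rw [← hag _ hm, hσlin, ← Int.cast_smul_eq_zsmul ℂ, ← Int.cast_smul_eq_zsmul ℂ, Int.cast_natCast,
      Int.cast_natCast, classInner_sub_right, classInner_sub_right, classInner_smul_right,
      classInner_smul_right, classInner_smul_right, classInner_smul_right, map_natCast, map_natCast,
      hz, classInner_sub_left, classInner_sub_left, (ho φ hφ).1, (ho χ₁ hχ₁S).1, hψ',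
      classInner_smul_left, classInner_smul_left, hn χ₁ hχ₁', hφ1] at h
    rw [he, show D = τ (χ - (a : ℂ) • χ₁) by rw [hDdef, hψ']]
    push_cast
    split_ifs at h ⊢ with hh
    · subst hh; linear_combination h
    · linear_combination h
  set X := proj (R χ) D with hXdef
  have hRσ : ∀ φ ∈ S₁, Cfsg.classInner X (σ φ) = 0 := fun φ hφ => proj_orth D (hσperp φ hφ)
  set Y := X - D with hYdef
  set W : G → ℂ := ∑ φ ∈ S₁, ((d φ : ℂ) / (n φ : ℂ)) • σ φ with hW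
  set s : ℂ := ∑ φ ∈ S₁, (d φ : ℂ) ^ 2 / (n φ : ℂ) with hs
  have hσσ : ∀ φ ∈ S₁, ∀ φ' ∈ S₁, Cfsg.classInner (σ φ) (σ φ') = if φ = φ' then (n φ : ℂ) else 0 := by
    intro φ hφ φ' hφ'
    rw [hσ.2.2.1 φ (hσm φ hφ) φ' (hσm φ' hφ')]
    split_ifs with hh
    · subst hh; exact hn φ (hS₁ hφ)
    · exact hS.orthogonal φ (hS₁ hφ) φ' (hS₁ hφ') hh
  have hχ₁0 : (d χ₁ : ℂ) ≠ 0 := by exact_mod_cast hd0 χ₁ hχ₁'
  have cY1 : Cfsg.classInner Y (σ χ₁) = (a : ℂ) * n χ₁ - e := by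
    have := hcoef χ₁ hχ₁S
    rw [if_pos rfl] at this
    rw [hYdef, classInner_sub_left, hRσ χ₁ hχ₁S]
    exact mul_right_cancel₀ hχ₁0 (by linear_combination -this)
  have cW1 : Cfsg.classInner (σ χ₁) W = d χ₁ := by
    rw [hW, classInner_sum_right, Finset.sum_eq_single χ₁]
    · rw [classInner_smul_right, hσσ χ₁ hχ₁S χ₁ hχ₁S, if_pos rfl, map_div₀, map_natCast, map_natCast,
        div_mul_cancel₀ _ (hn0 χ₁ hχ₁')]
    · intro φ hφ hφ'
      rw [classInner_smul_right, hσσ χ₁ hχ₁S φ hφ, if_neg (Ne.symm hφ'), mul_zero]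
    · exact fun h => absurd hχ₁S h
  have cWW : Cfsg.classInner W W = s := by
    rw [hW, classInner_sum_left, hs]
    refine Finset.sum_congr rfl fun φ hφ => ?_
    rw [classInner_smul_left, classInner_sum_right, Finset.sum_eq_single φ]
    · rw [classInner_smul_right, hσσ φ hφ φ hφ, if_pos rfl, map_div₀, map_natCast, map_natCast,
        div_mul_cancel₀ _ (hn0 φ (hS₁ hφ))]
      ring
    · intro φ' hφ' hh
      rw [classInner_smul_right, hσσ φ hφ φ' hφ', if_neg (Ne.symm hh), mul_zero]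
    · exact fun h => absurd hφ h
  have cYW : Cfsg.classInner Y W = (a : ℂ) * d χ₁ - (e : ℂ) / d χ₁ * s := by
    have : ∀ φ ∈ S₁, Cfsg.classInner Y (((d φ : ℂ) / (n φ : ℂ)) • σ φ) =
        (if φ = χ₁ then (a : ℂ) * d χ₁ else 0) - (e : ℂ) / d χ₁ * ((d φ : ℂ) ^ 2 / (n φ : ℂ)) := by
      intro φ hφ
      have h := eq_div_iff hχ₁0 |>.mpr (hcoef φ hφ)
      have hnn := hn0 φ (hS₁ hφ)
      rw [classInner_smul_right, hYdef, classInner_sub_left, hRσ φ hφ, map_div₀, map_natCast,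
        map_natCast, h]
      split_ifs with hh
      · subst hh
        field_simp
        ring
      · field_simp
        ring
    rw [hW, classInner_sum_right, Finset.sum_congr rfl this, Finset.sum_sub_distrib, Finset.sum_ite_eq',
      if_pos hχ₁S, hs, Finset.mul_sum]
  set Q := Y - (a : ℂ) • σ χ₁ + ((e : ℂ) / d χ₁) • W with hQ
  have cQ : Cfsg.classInner Q Q = Cfsg.classInner Y Y - (a : ℂ) ^ 2 * n χ₁ +
      (2 * a * e - (e : ℂ) ^ 2 / (d χ₁ : ℂ) ^ 2 * s) := by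
    have t1 : Cfsg.classInner (σ χ₁) Y = (a : ℂ) * n χ₁ - e := by
      rw [← classInner_conj_symm, cY1]; simp
    have t2 : Cfsg.classInner W (σ χ₁) = d χ₁ := by
      rw [← classInner_conj_symm, cW1]; simp
    have hsr : starRingEnd ℂ s = s := by rw [hs]; simp
    have t3 : Cfsg.classInner W Y = (a : ℂ) * d χ₁ - (e : ℂ) / d χ₁ * s := by
      rw [← classInner_conj_symm, cYW]; simp [hsr]
    simp only [hQ, classInner_add_left, classInner_add_right, classInner_sub_left,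
      classInner_sub_right, classInner_smul_left, classInner_smul_right, map_div₀, map_natCast,
      map_intCast, cY1, cW1, cWW, cYW, t1, t2, t3, hσσ χ₁ hχ₁S χ₁ hχ₁S, if_true]
    field_simp
    ring
  have hyy : nsq Y = nsq (D - X) := by
    rw [hYdef, nsq, nsq, ← neg_sub D X, classInner_neg_left, classInner_neg_right, neg_neg]
  have hDD : nsq D = nsq χ + (a : ℝ) ^ 2 * n χ₁ := by
    have hψχ : Cfsg.classInner ψ χ = 0 := by rw [← classInner_conj_symm, hψ1, map_zero]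
    rw [nsq, nsq, hDdef, hS.isometry.2.2.1 _ hmemD _ hmemD, classInner_sub_left, classInner_sub_right,
      classInner_sub_right, hψ1, hψχ, hψ', classInner_smul_left, classInner_smul_right, map_natCast,
      hn χ₁ hχ₁', hn χ hχ, ← mul_assoc]
    simp [pow_two]
  have hdecomp := nsq_eq_add (hS.orthonormal χ hχ) D
  rw [← hXdef, ← hyy, hDD] at hdecomp
  have hQr := congrArg Complex.re cQ
  have hsreal : s = ((∑ φ ∈ S₁, ((d φ : ℝ) ^ 2 / (n φ : ℝ)) : ℝ) : ℂ) := by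
    rw [hs]; push_cast; rfl
  set Sr : ℝ := ∑ φ ∈ S₁, ((d φ : ℝ) ^ 2 / (n φ : ℝ)) with hSr
  rw [hsreal, ← nsq_coe, ← nsq_coe] at hQr
  norm_cast at hQr
  have hQr' : nsq Q = nsq Y - (a : ℝ) ^ 2 * n χ₁ + (2 * a * e - (e : ℝ) ^ 2 / (d χ₁ : ℝ) ^ 2 * Sr) := by
    exact_mod_cast hQr
  have hQ0 := nsq_nonneg Q
  have hSge : 2 * (a : ℝ) * (d χ₁ : ℝ) ^ 2 < Sr := by
    refine lt_of_eq_of_lt ?_ hineq
    rw [ha]; push_cast; ring
  have hd1pos : (0 : ℝ) < d χ₁ := by exact_mod_cast Nat.pos_of_ne_zero (hd0 χ₁ hχ₁')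
  have he0 : e = 0 := by
    have hkey : (e : ℝ) ^ 2 * Sr ≤ 2 * a * e * (d χ₁ : ℝ) ^ 2 := by
      have h1 : (e : ℝ) ^ 2 / (d χ₁ : ℝ) ^ 2 * Sr ≤ 2 * a * e := by linarith
      rwa [div_mul_eq_mul_div, div_le_iff₀ (by positivity)] at h1
    by_contra hne
    have ha0 : (0 : ℝ) ≤ a := Nat.cast_nonneg a
    have hd2 : (0 : ℝ) ≤ 2 * a * (d χ₁ : ℝ) ^ 2 := by positivity
    rcases lt_or_gt_of_ne hne with hlt | hgt
    · have hlt' : (e : ℝ) < 0 := by exact_mod_cast hlt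
      nlinarith [mul_pos (mul_pos_of_neg_of_neg hlt' hlt') (lt_of_le_of_lt hd2 hSge)]
    · have hgt' : (1 : ℝ) ≤ e := by exact_mod_cast hgt
      nlinarith [mul_lt_mul_of_pos_left hSge (show (0 : ℝ) < e by linarith),
        mul_le_mul_of_nonneg_left hgt' (show (0 : ℝ) ≤ e * Sr by
          exact mul_nonneg (by linarith) (le_of_lt (lt_of_le_of_lt hd2 hSge)))]
  rw [he0] at hQr' hQ
  simp only [Int.cast_zero, zero_div, zero_smul, add_zero, mul_zero, zero_mul, sub_zero, ne_eq,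
    OfNat.ofNat_ne_zero, not_false_eq_true, zero_pow] at hQr' hQ
  have hYeq : Y = (a : ℂ) • σ χ₁ := by
    have : nsq Q = 0 := by linarith
    exact sub_eq_zero.mp (hQ ▸ eq_zero_of_nsq this)
  have hXX : Cfsg.classInner X X = n χ := by
    have hn' : nsq χ = n χ := by rw [nsq, hn χ hχ, Complex.natCast_re]
    rw [← nsq_coe, hXdef, nsq_proj (hS.orthonormal χ hχ)]
    have h2 : (∑ α ∈ R χ, ‖Cfsg.classInner D α‖ ^ 2) = (n χ : ℝ) := by
      have hy : nsq Y = (a : ℝ) ^ 2 * n χ₁ := by linarith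
      linarith
    rw [h2, Complex.ofReal_natCast]
  have hXR : Cfsg.classInner X (∑ α ∈ R χ, α) = n χ := by
    rw [classInner_sum_right, Finset.sum_congr rfl fun α hα =>
      proj_inner (hS.orthonormal χ hχ) D hα, ← classInner_sum_right, hDdef, sum_R_inner hS hχ hmemD,
      classInner_sub_left, classInner_sub_left, hn χ hχ, orth_conj hS hχ]
    have : ∀ f : L → ℂ, Cfsg.classInner f ψ = 0 → Cfsg.classInner ψ f = 0 := fun f h => by
      rw [← classInner_conj_symm, h, map_zero]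
    rw [this χ hψ1, this _ hψ2]
    ring
  set c := Cfsg.conjFun χ with hc
  set Rs := ∑ α ∈ R χ, α with hRs
  obtain ⟨m, hm, hm'⟩ := exists_norm hS hχ
  have hRsσ : ∀ φ ∈ S₁, Cfsg.classInner Rs (σ φ) = 0 := fun φ hφ => by
    rw [hRs, classInner_sum_left]; exact Finset.sum_eq_zero fun α hα => hσperp φ hφ α hα
  have hRR : Cfsg.classInner Rs Rs = 2 * (n χ : ℂ) := by
    rw [hRs, ← hS.sum_eq χ hχ, hS.isometry.2.2.1 _ (sub_conj_mem hS hχ hχ (hS.conj_mem χ hχ)) _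
      (sub_conj_mem hS hχ hχ (hS.conj_mem χ hχ)), classInner_sub_left, classInner_sub_right,
      classInner_sub_right, orth_conj hS hχ, conj_orth hS hχ, classInner_conjFun, hn χ hχ, map_natCast]
    ring
  set T : (L → ℂ) → (G → ℂ) :=
    fun φ => if φ = χ then X else if φ = c then X - Rs else σ φ with hT
  have hTχ : T χ = X := if_pos rfl
  have hTc : T c = X - Rs := by
    simp only [hT]; rw [if_neg (show ¬ c = χ from hS.conj_ne χ hχ)]; simp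
  have hTσ : ∀ φ ∈ S₁, T φ = σ φ := fun φ hφ => by
    simp only [hT]; rw [if_neg (hne φ hφ).1, if_neg (hne φ hφ).2]
  set U : Set (L → ℂ) := ↑S₁ ∪ {χ, c} with hU
  have hUS : U ⊆ S := by
    rintro φ (hφ | rfl | rfl)
    · exact hS₁ hφ
    · exact hχ
    · exact hS.conj_mem χ hχ
  have hXgen : Cfsg.IsGeneralizedCharacter G X := isGen_proj D (hS.virtual χ hχ) hDgen
  have hRgen : Cfsg.IsGeneralizedCharacter G Rs := isGen_sum _ fun α hα => hS.virtual χ hχ α hα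
  obtain ⟨f, hf, hiso⟩ := exists_isometry (S := U) ((finite hS).subset hUS)
    (fun φ hφ ψ hψ => hS.orthogonal φ (hUS hφ) ψ (hUS hψ)) (fun φ hφ => ne_zero hS (hUS hφ)) T
    (by
      rintro φ (hφ | rfl | rfl)
      · rw [hTσ φ hφ]; exact hσ.2.2.2 φ (hσm φ hφ)
      · rw [hTχ]; exact hXgen
      · rw [hTc]; exact isGen_sub hXgen hRgen)
    (by
      have hflip : ∀ u v : G → ℂ, Cfsg.classInner u v = 0 → Cfsg.classInner v u = 0 := fun u v h => by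
        rw [← classInner_conj_symm, h, map_zero]
      have hflip' : ∀ u v : L → ℂ, Cfsg.classInner u v = 0 → Cfsg.classInner v u = 0 := fun u v h => by
        rw [← classInner_conj_symm, h, map_zero]
      have hRX : Cfsg.classInner Rs X = n χ := by rw [← classInner_conj_symm, hXR, map_natCast]
      rintro φ (hφ | rfl | rfl) φ' (hφ' | rfl | rfl)
      · rw [hTσ φ hφ, hTσ φ' hφ']; exact hσ.2.2.1 φ (hσm φ hφ) φ' (hσm φ' hφ')
      · rw [hTσ φ hφ, hTχ, hflip _ _ (hRσ φ hφ), hflip' _ _ (ho φ hφ).1]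
      · rw [hTσ φ hφ, hTc, classInner_sub_right, hflip _ _ (hRσ φ hφ), hflip _ _ (hRsσ φ hφ),
          hflip' _ _ (ho φ hφ).2, sub_zero]
      · rw [hTσ φ' hφ', hTχ, hRσ φ' hφ', (ho φ' hφ').1]
      · rw [hTχ, hXX, hn _ hχ]
      · rw [hTχ, hTc, classInner_sub_right, hXX, hXR, orth_conj hS hχ, sub_self]
      · rw [hTσ φ' hφ', hTc, classInner_sub_left, hRσ φ' hφ', hRsσ φ' hφ', (ho φ' hφ').2, sub_zero]
      · rw [hTχ, hTc, classInner_sub_left, hXX, hRX, conj_orth hS hχ, sub_self]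
      · rw [hTc, classInner_sub_left, classInner_sub_right, classInner_sub_right, hXX, hXR, hRX,
          hRR, hc, classInner_conjFun, hn χ hχ, map_natCast]
        ring)
  have hfσ : ∀ b ∈ Cfsg.zspan (↑S₁ : Set (L → ℂ)), f b = σ b :=
    eqOn_span f hσ.1 hσ.2.1 fun φ hφ => (hf φ (Or.inl hφ)).trans (hTσ φ hφ)
  refine ⟨⟨α₀, zspanOn_mono Set.subset_union_left _ hα₀, hα₀ne⟩, f, hiso, fun x hx => ?_⟩
  have key : ∀ x ∈ Cfsg.zspan U, ∃ b ∈ Cfsg.zspan (↑S₁ : Set (L → ℂ)), ∃ u v : ℤ,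
      x = b + u • (χ - ψ) + v • (χ - c) := by
    intro x hx
    induction hx using Submodule.span_induction with
    | mem φ hφ =>
      rcases hφ with hφ | rfl | rfl
      · exact ⟨φ, hσm φ hφ, 0, 0, by simp⟩
      · exact ⟨ψ, Submodule.smul_mem _ _ (hσm χ₁ hχ₁S), 1, 0, by simp⟩
      · exact ⟨ψ, Submodule.smul_mem _ _ (hσm χ₁ hχ₁S), 1, -1, by simp⟩
    | zero => exact ⟨0, Submodule.zero_mem _, 0, 0, by simp⟩
    | add x y _ _ hx hy =>
      obtain ⟨b, hb, u, v, rfl⟩ := hx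
      obtain ⟨b', hb', u', v', rfl⟩ := hy
      exact ⟨b + b', Submodule.add_mem _ hb hb', u + u', v + v', by rw [add_smul, add_smul]; abel⟩
    | smul k x _ hx =>
      obtain ⟨b, hb, u, v, rfl⟩ := hx
      exact ⟨k • b, Submodule.smul_mem _ k hb, k * u, k * v, by
        rw [smul_add, smul_add, mul_smul, mul_smul]⟩
  obtain ⟨b, hb, u, v, rfl⟩ := key x hx.1
  have hmc := sub_conj_mem hS hχ hχ (hS.conj_mem χ hχ)
  have hb1 : b 1 = 0 := by
    have := apply_one_of_mem hx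
    simpa [hdeg, hc, conj_one hS hχ] using this
  have hbS : b ∈ Cfsg.zspanOn S {1}ᶜ := zspanOn_mono hS₁ _ (mem_zspanOn_one hb hb1)
  have hu : u • (χ - ψ) ∈ Cfsg.zspanOn S {1}ᶜ :=
    mem_zspanOn_one (Submodule.smul_mem _ u hmemD.1) (by simp [hdeg])
  have hv : v • (χ - c) ∈ Cfsg.zspanOn S {1}ᶜ :=
    mem_zspanOn_one (Submodule.smul_mem _ v hmc.1) (by simp [hc, conj_one hS hχ])
  have hbu : b + u • (χ - ψ) ∈ Cfsg.zspanOn S {1}ᶜ :=
    mem_zspanOn_one (Submodule.add_mem _ hbS.1 hu.1) (by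
      rw [Pi.add_apply, hb1, zero_add, apply_one_of_mem hu])
  have e1 : f (χ - ψ) = D := by
    rw [map_sub, hf χ (Or.inr (Or.inl rfl)), hTχ, hψdef, map_zsmul, hf χ₁ (Or.inl hχ₁S),
      hTσ χ₁ hχ₁S, ← Int.cast_smul_eq_zsmul ℂ, Int.cast_natCast, ← hYeq, hYdef]
    abel
  have e2 : f (χ - c) = τ (χ - c) := by
    rw [map_sub, hf χ (Or.inr (Or.inl rfl)), hTχ, hf c (Or.inr (Or.inr rfl)), hTc, sub_sub_cancel,
      hRs, hc, hS.sum_eq χ hχ]
  rw [map_add, map_add, map_zsmul, map_zsmul, hfσ b hb, hag b (mem_zspanOn_one hb hb1), e1, e2,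
    hS.isometry.1 _ hbu _ hv, hS.isometry.1 _ hbS _ hu, hS.isometry.2.1 _ hmemD,
    hS.isometry.2.1 _ hmc]

end Cfsg.Agent.S1516
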