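import Cfsg.Statements.S1517
import Cfsg.Agent.Lib.OddChar.CohSystem

set_option autoImplicit false
open Cfsg

namespace Cfsg.Agent.S1517

/-- Let (S, τ, R) be a coherence system from L to G such that φ 1 = ψ 1 for all φ, ψ ∈ S. Then (S, L minus 1, τ) is coherent. -/
theorem result {L : Type*} [Group L] [Fintype L] {G : Type*} [Group G] [Fintype G] (S : Set (L → ℂ)) (τ : (L → ℂ) → (G → ℂ)) (R : (L → ℂ) → Finset (G → ℂ)) (hS : Cfsg.IsCoherenceSystem S τ R) (hdeg : ∀ φ ∈ S, ∀ ψ ∈ S, φ 1 = ψ 1) : Cfsg.IsCoherent S {1}ᶜ τ := by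
  open CfsgLib.Char CfsgLib.OddChar.Coh in
  classical
  obtain ⟨χ₁, hχ₁⟩ := hS.nonempty
  obtain ⟨n, hn, hn'⟩ := exists_norm hS hχ₁
  set c₁ := Cfsg.conjFun χ₁ with hc₁
  have hd : ∀ φ ∈ S, χ₁ 1 = φ 1 := fun φ hφ => hdeg χ₁ hχ₁ φ hφ
  let D : (L → ℂ) → (G → ℂ) := fun φ => τ (χ₁ - φ)
  have hmem : ∀ φ ∈ S, χ₁ - φ ∈ Cfsg.zspanOn S {1}ᶜ := fun φ hφ =>
    mem_zspanOn_one (Submodule.sub_mem _ (mem_zspan hχ₁) (mem_zspan hφ)) (by simp [hd φ hφ])
  have hDD : ∀ φ ∈ S, ∀ ψ ∈ S, Cfsg.classInner (D φ) (D ψ) =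
      Cfsg.classInner (χ₁ - φ) (χ₁ - ψ) := fun φ hφ ψ hψ =>
    hS.isometry.2.2.1 _ (hmem φ hφ) _ (hmem ψ hψ)
  -- decomposition of D φ
  have hdec : ∀ φ ∈ S, φ ≠ χ₁ → φ ≠ c₁ →
      D φ = proj (R χ₁) (D φ) + proj (R φ) (D φ) ∧
      Cfsg.classInner (proj (R χ₁) (D φ)) (proj (R χ₁) (D φ)) = n := by
    intro φ hφ h1 h2
    obtain ⟨m, hm, -⟩ := exists_norm hS hφ
    have hc1 : χ₁ ≠ Cfsg.conjFun φ := fun e => h2 (by rw [hc₁, e, conjFun_conjFun])
    have a := component_ge hS hχ₁ (mem_zspan hφ) (hd φ hφ)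
      (hS.orthogonal χ₁ hχ₁ φ hφ (Ne.symm h1))
      (hS.orthogonal c₁ (hS.conj_mem χ₁ hχ₁) φ hφ (Ne.symm h2))
    have b := (component_ge hS hφ (mem_zspan hχ₁) (hd φ hφ).symm
      (hS.orthogonal φ hφ χ₁ hχ₁ h1)
      (hS.orthogonal _ (hS.conj_mem φ hφ) χ₁ hχ₁ (Ne.symm hc1))).1
    have hneg : τ (φ - χ₁) = -D φ := by
      rw [show φ - χ₁ = (-1 : ℤ) • (χ₁ - φ) by simp, hS.isometry.2.1 _ (hmem φ hφ)]
      simp [D]
    have horth := R_orth hS hχ₁ hφ h1 h2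
    have hsum : (∑ α ∈ R φ, ‖Cfsg.classInner (τ (φ - χ₁)) α‖ ^ 2) =
        ∑ α ∈ R φ, ‖Cfsg.classInner (D φ - proj (R χ₁) (D φ)) α‖ ^ 2 := by
      refine Finset.sum_congr rfl fun α hα => ?_
      rw [hneg, classInner_neg_left, norm_neg, classInner_sub_left,
        proj_orth (D φ) fun β hβ => by rw [← classInner_conj_symm, horth α hα β hβ, map_zero],
        sub_zero]
    have e1 := nsq_eq_add (hS.orthonormal χ₁ hχ₁) (D φ)
    have e2 := nsq_eq_add (hS.orthonormal φ hφ) (D φ - proj (R χ₁) (D φ))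
    have etot : nsq (D φ) = (n : ℝ) + m := by
      rw [nsq, hDD φ hφ φ hφ, classInner_sub_left, classInner_sub_right, classInner_sub_right, hn,
        hm, hS.orthogonal φ hφ χ₁ hχ₁ h1, hS.orthogonal χ₁ hχ₁ φ hφ (Ne.symm h1)]
      simp
    have hn1 : nsq χ₁ = n := by rw [nsq, hn, Complex.natCast_re]
    have hn2 : nsq φ = m := by rw [nsq, hm, Complex.natCast_re]
    have hnn := nsq_nonneg (D φ - proj (R χ₁) (D φ) - proj (R φ) (D φ - proj (R χ₁) (D φ)))
    rw [hsum] at b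
    have hge := a.1
    simp only [D] at e1 e2 etot hnn b hge ⊢
    have hzero : nsq (τ (χ₁ - φ) - proj (R χ₁) (τ (χ₁ - φ)) -
        proj (R φ) (τ (χ₁ - φ) - proj (R χ₁) (τ (χ₁ - φ)))) = 0 := by linarith
    have hproj : proj (R φ) (τ (χ₁ - φ) - proj (R χ₁) (τ (χ₁ - φ))) =
        proj (R φ) (τ (χ₁ - φ)) := by
      refine Finset.sum_congr rfl fun α hα => ?_
      rw [classInner_sub_left,
        proj_orth _ fun β hβ => by rw [← classInner_conj_symm, horth α hα β hβ, map_zero], sub_zero]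
    refine ⟨?_, ?_⟩
    · have := eq_zero_of_nsq hzero
      rw [hproj, sub_sub, sub_eq_zero] at this
      exact this
    · rw [← nsq_coe, nsq_proj (hS.orthonormal χ₁ hχ₁)]
      have : (∑ α ∈ R χ₁, ‖Cfsg.classInner (τ (χ₁ - φ)) α‖ ^ 2) = (n : ℝ) := by linarith
      rw [this, Complex.ofReal_natCast]
  have hprojinner : ∀ φ ∈ S, φ ≠ χ₁ → φ ≠ c₁ → ∀ Y : G → ℂ,
      (∀ α ∈ R φ, Cfsg.classInner α Y = 0) →
      Cfsg.classInner (D φ) Y = Cfsg.classInner (proj (R χ₁) (D φ)) Y := by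
    intro φ hφ h1 h2 Y hY
    conv_lhs => rw [(hdec φ hφ h1 h2).1]
    rw [classInner_add_left, proj_orth _ hY, add_zero]
  have hin : ∀ φ ∈ S, φ ≠ χ₁ → φ ≠ c₁ → ∀ Z : G → ℂ, ∀ α ∈ R φ,
      Cfsg.classInner α (proj (R χ₁) Z) = 0 := by
    intro φ hφ h1 h2 Z α hα
    rw [← classInner_conj_symm, proj_orth Z fun β hβ => by
      rw [← classInner_conj_symm, R_orth hS hχ₁ hφ h1 h2 α hα β hβ, map_zero], map_zero]
  -- the image of χ₁
  obtain ⟨X, hXgen, hXX, hXR, hXD⟩ : ∃ X : G → ℂ, Cfsg.IsGeneralizedCharacter G X ∧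
      Cfsg.classInner X X = n ∧ Cfsg.classInner X (∑ α ∈ R χ₁, α) = n ∧
      ∀ φ ∈ S, φ ≠ χ₁ → φ ≠ c₁ → Cfsg.classInner (D φ) X = n := by
    by_cases hsmall : ∀ φ ∈ S, φ = χ₁ ∨ φ = c₁
    · obtain ⟨A, hA, hAc⟩ := Finset.exists_subset_card_eq (s := R χ₁) (n := n)
        (by rw [card_R hS hχ₁ hn]; omega)
      have hsel : ∀ B ⊆ R χ₁, A ⊆ B →
          Cfsg.classInner (∑ α ∈ A, α) (∑ α ∈ B, α) = n := by
        intro B hB hAB
        rw [classInner_sum_left, Finset.sum_congr rfl (g := fun _ => (1 : ℂ)) fun α hα => by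
          rw [classInner_sum_right, Finset.sum_eq_single α
            (fun β hβ hne => by rw [hS.orthonormal χ₁ hχ₁ α (hA hα) β (hB hβ), if_neg (Ne.symm hne)])
            (fun h => absurd (hAB hα) h), hS.orthonormal χ₁ hχ₁ α (hA hα) α (hA hα), if_pos rfl]]
        simp [hAc]
      exact ⟨∑ α ∈ A, α, isGen_sum _ fun α hα => hS.virtual χ₁ hχ₁ α (hA hα),
        hsel A hA subset_rfl, hsel _ subset_rfl hA,
        fun φ hφ h1 h2 => ((hsmall φ hφ).elim h1 h2).elim⟩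
    push Not at hsmall
    obtain ⟨φ₀, hφ₀, h1, h2⟩ := hsmall
    refine ⟨proj (R χ₁) (D φ₀), isGen_proj _ (hS.virtual χ₁ hχ₁) (hS.isometry.2.2.2 _ (hmem φ₀ hφ₀)),
      (hdec φ₀ hφ₀ h1 h2).2, ?_, ?_⟩
    · rw [classInner_sum_right, Finset.sum_congr rfl fun α hα =>
        proj_inner (hS.orthonormal χ₁ hχ₁) (D φ₀) hα, ← classInner_sum_right,
        sum_R_inner hS hχ₁ (hmem φ₀ hφ₀), classInner_sub_left, classInner_sub_left, hn,
        hS.orthogonal φ₀ hφ₀ χ₁ hχ₁ h1, orth_conj hS hχ₁,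
        hS.orthogonal φ₀ hφ₀ c₁ (hS.conj_mem χ₁ hχ₁) h2]
      ring
    · intro φ hφ g1 g2
      rw [hprojinner φ hφ g1 g2 _ (hin φ hφ g1 g2 _)]
      suffices proj (R χ₁) (D φ) = proj (R χ₁) (D φ₀) by rw [this, (hdec φ₀ hφ₀ h1 h2).2]
      by_cases e : φ = φ₀
      · rw [e]
      by_cases e' : φ = Cfsg.conjFun φ₀
      · refine Finset.sum_congr rfl fun α hα => ?_
        congr 1
        have hlin : D φ = D φ₀ + τ (φ₀ - Cfsg.conjFun φ₀) := by
          show τ (χ₁ - φ) = τ (χ₁ - φ₀) + _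
          rw [← hS.isometry.1 _ (hmem φ₀ hφ₀) _
            (sub_conj_mem hS hφ₀ hφ₀ (hS.conj_mem φ₀ hφ₀)), e', sub_add_sub_cancel]
        rw [hlin, classInner_add_left, hS.sum_eq φ₀ hφ₀, classInner_sum_left,
          Finset.sum_eq_zero fun β hβ => R_orth hS hχ₁ hφ₀ h1 h2 β hβ α hα, add_zero]
      refine sub_eq_zero.mp (eq_zero_of_classInner_self_eq_zero ?_)
      have key : Cfsg.classInner (proj (R χ₁) (D φ)) (proj (R χ₁) (D φ₀)) = n := by
        have h := hDD φ hφ φ₀ hφ₀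
        rw [classInner_sub_left, classInner_sub_right, classInner_sub_right, hn,
          hS.orthogonal φ hφ χ₁ hχ₁ g1, hS.orthogonal χ₁ hχ₁ φ₀ hφ₀ (Ne.symm h1),
          hS.orthogonal φ hφ φ₀ hφ₀ e, hprojinner φ hφ g1 g2] at h
        · conv at h => lhs; rw [(hdec φ₀ hφ₀ h1 h2).1]
          rw [classInner_add_right, proj_orth (D φ) (f := proj (R φ₀) (D φ₀))] at h
          · linear_combination h
          · intro α hα
            rw [← classInner_conj_symm, proj_orth _ fun β hβ => R_orth hS hχ₁ hφ₀ h1 h2 β hβ α hα,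
              map_zero]
        · intro α hα
          have hY := (hdec φ₀ hφ₀ h1 h2).1
          rw [hY, classInner_add_right, hin φ hφ g1 g2 _ α hα, zero_add, ← classInner_conj_symm,
            proj_orth _ fun β hβ => R_orth hS hφ hφ₀ (Ne.symm e) (fun e2 => e' (by
              rw [e2, conjFun_conjFun])) β hβ α hα, map_zero]
      have key' : Cfsg.classInner (proj (R χ₁) (D φ₀)) (proj (R χ₁) (D φ)) = n := by
        rw [← classInner_conj_symm, key, map_natCast]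
      rw [classInner_sub_left, classInner_sub_right, classInner_sub_right, key, key',
        (hdec φ₀ hφ₀ h1 h2).2, (hdec φ hφ g1 g2).2]
      ring
  -- the extension
  open CfsgLib.Char CfsgLib.OddChar.Coh in
  have hXD' : ∀ φ ∈ S, φ ≠ χ₁ → Cfsg.classInner (D φ) X = n := by
    intro φ hφ h1
    by_cases h2 : φ = c₁
    · show Cfsg.classInner (τ (χ₁ - φ)) X = n
      rw [h2, hS.sum_eq χ₁ hχ₁, ← classInner_conj_symm, hXR, map_natCast]
    · exact hXD φ hφ h1 h2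
  open CfsgLib.Char CfsgLib.OddChar.Coh in
  have hD0 : D χ₁ = 0 := by
    show τ (χ₁ - χ₁) = 0
    have := hS.isometry.2.1 _ (hmem χ₁ hχ₁) 0
    simpa using this
  open CfsgLib.Char CfsgLib.OddChar.Coh in
  obtain ⟨f, hf, hiso⟩ := exists_isometry (finite hS) hS.orthogonal (fun _ => ne_zero hS)
    (fun φ => X - D φ) (fun φ hφ => isGen_sub hXgen (hS.isometry.2.2.2 _ (hmem φ hφ))) (by
      intro φ hφ ψ hψ
      have e1 : ∀ φ ∈ S, Cfsg.classInner (D φ) X = if φ = χ₁ then 0 else (n : ℂ) := fun φ hφ => by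
        by_cases h : φ = χ₁
        · rw [if_pos h, h, hD0, classInner_zero_left]
        · rw [if_neg h, hXD' φ hφ h]
      have e2 : ∀ φ ∈ S, Cfsg.classInner φ χ₁ = if φ = χ₁ then (n : ℂ) else 0 := fun φ hφ => by
        by_cases h : φ = χ₁
        · rw [if_pos h, h, hn]
        · rw [if_neg h, hS.orthogonal φ hφ χ₁ hχ₁ h]
      have e3 : Cfsg.classInner X (D ψ) = if ψ = χ₁ then 0 else (n : ℂ) := by
        rw [← classInner_conj_symm, e1 ψ hψ]; split_ifs <;> simp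
      have e4 : Cfsg.classInner χ₁ ψ = if ψ = χ₁ then (n : ℂ) else 0 := by
        rw [← classInner_conj_symm, e2 ψ hψ]; split_ifs <;> simp
      show Cfsg.classInner (X - D φ) (X - D ψ) = _
      rw [classInner_sub_left, classInner_sub_right, classInner_sub_right, hXX, e1 φ hφ, e3,
        hDD φ hφ ψ hψ, classInner_sub_left, classInner_sub_right, classInner_sub_right, hn,
        e2 φ hφ, e4]
      split_ifs <;> ring)
  open CfsgLib.Char CfsgLib.OddChar.Coh in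
  refine ⟨⟨χ₁ - c₁, sub_conj_mem hS hχ₁ hχ₁ (hS.conj_mem χ₁ hχ₁),
    sub_ne_zero.mpr (Ne.symm (hS.conj_ne χ₁ hχ₁))⟩, f, hiso, ?_⟩
  open CfsgLib.Char CfsgLib.OddChar.Coh in
  intro a ha
  have hE : Cfsg.zspan ((fun φ => χ₁ - φ) '' S) ⊆ Cfsg.zspanOn S {1}ᶜ := by
    intro x hx
    induction hx using Submodule.span_induction with
    | mem y hy => obtain ⟨φ, hφ, rfl⟩ := hy; exact hmem φ hφ
    | zero => exact mem_zspanOn_one (Submodule.zero_mem _) rfl
    | add x y _ _ hx hy =>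
      exact mem_zspanOn_one (Submodule.add_mem _ hx.1 hy.1)
        (by simp [apply_one_of_mem hx, apply_one_of_mem hy])
    | smul k x _ hx =>
      exact mem_zspanOn_one (Submodule.smul_mem _ k hx.1) (by simp [apply_one_of_mem hx])
  refine eqOn_span f (fun x hx y hy => hS.isometry.1 x (hE hx) y (hE hy))
    (fun x hx k => hS.isometry.2.1 x (hE hx) k) ?_ a ?_
  · rintro e ⟨φ, hφ, rfl⟩
    show f (χ₁ - φ) = D φ
    rw [map_sub, hf χ₁ hχ₁, hf φ hφ, hD0]
    abel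
  · have key : ∀ x ∈ Cfsg.zspan S, ∃ k : ℤ, ∃ b ∈ Cfsg.zspan ((fun φ => χ₁ - φ) '' S),
        x = k • χ₁ + b := by
      intro x hx
      induction hx using Submodule.span_induction with
      | mem φ hφ =>
        exact ⟨1, -(χ₁ - φ), Submodule.neg_mem _ (mem_zspan ⟨φ, hφ, rfl⟩), by simp⟩
      | zero => exact ⟨0, 0, Submodule.zero_mem _, by simp⟩
      | add x y _ _ hx hy =>
        obtain ⟨k, b, hb, rfl⟩ := hx
        obtain ⟨l, c, hc, rfl⟩ := hy
        exact ⟨k + l, b + c, Submodule.add_mem _ hb hc, by rw [add_smul]; abel⟩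
      | smul j x _ hx =>
        obtain ⟨k, b, hb, rfl⟩ := hx
        exact ⟨j * k, j • b, Submodule.smul_mem _ j hb, by rw [smul_add, mul_smul]⟩
    obtain ⟨k, b, hb, rfl⟩ := key a ha.1
    have h1 := apply_one_of_mem ha
    rw [Pi.add_apply, apply_one_of_mem (hE hb), add_zero, Pi.smul_apply, zsmul_eq_mul, mul_eq_zero,
      Int.cast_eq_zero] at h1
    have hd1 : χ₁ 1 ≠ 0 := by
      intro h0
      obtain ⟨d, hd'⟩ := CfsgLib.Char.exists_degree (hS.isCharacter χ₁ hχ₁)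
      refine ne_zero hS hχ₁ (funext fun x => norm_eq_zero.mp (le_antisymm ?_ (norm_nonneg _)))
      have := CfsgLib.Char.norm_char_le (hS.isCharacter χ₁ hχ₁) x
      rwa [h0, Complex.zero_re] at this
    rw [h1.resolve_right hd1, zero_smul, zero_add]
    exact hb

end Cfsg.Agent.S1517
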