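import Cfsg.Statements.S1527
-- import your own Cfsg.Agent.* helpers here

set_option autoImplicit false
open Cfsg

namespace Cfsg.Agent.S1527

/-- Let G be a finite group and H i (i in a finite index type) subgroups of pairwise coprime orders, each of whose underlying sets is a TI-subset of G, such that every non-identity element of G is conjugate to an element of some H i. Then Nat.card G − 1 = Σ_i [G : N_G(H i)] · (Nat.card (H i) − 1). -/
theorem result {G : Type*} [Group G] [Finite G] {ι : Type*} [Fintype ι] (H : ι → Subgroup G) (hcop : ∀ i j, i ≠ j → Nat.Coprime (Nat.card (H i)) (Nat.card (H j))) (hTI : ∀ i, Cfsg.IsTISubset (H i : Set G)) (hcover : ∀ g : G, g ≠ 1 → ∃ i, ∃ x : G, x * g * x⁻¹ ∈ H i) : Nat.card G - 1 = ∑ i, (Subgroup.normalizer (H i : Set G)).index * (Nat.card (H i) - 1) := by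
  classical
  have := Fintype.ofFinite G
  let T : ι → Type _ := fun i =>
    (G ⧸ Subgroup.normalizer (H i : Set G)) × {h : H i // h ≠ 1}
  let Φ : (Σ i, T i) → {g : G // g ≠ 1} := fun p =>
    ⟨p.2.1.out * (p.2.2.1 : G) * p.2.1.out⁻¹, by
      intro h
      exact p.2.2.2 (Subtype.ext (conj_eq_one_iff.mp h))⟩
  have hinj : Function.Injective Φ := by
    rintro ⟨i, q, h, hh⟩ ⟨j, r, k, hk⟩ e
    have e' : q.out * (h : G) * q.out⁻¹ = r.out * (k : G) * r.out⁻¹ := congrArg Subtype.val e
    obtain rfl : i = j := by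
      by_contra hij
      have ho : orderOf (h : G) = orderOf (k : G) := by
        have := congrArg orderOf e'
        rwa [← MulAut.conj_apply, ← MulAut.conj_apply, MulEquiv.orderOf_eq,
          MulEquiv.orderOf_eq] at this
      have h1 : orderOf (h : G) ∣ Nat.card (H i) := Subgroup.orderOf_dvd_natCard _ h.2
      have h2 : orderOf (h : G) ∣ Nat.card (H j) := ho ▸ Subgroup.orderOf_dvd_natCard _ k.2
      have h3 := Nat.eq_one_of_dvd_coprimes (hcop i j hij) h1 h2
      exact hh (Subtype.ext (orderOf_eq_one_iff.mp h3))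
    have hN : r.out⁻¹ * q.out ∈ Subgroup.normalizer (H i : Set G) := by
      by_contra hn
      have := hTI i _ hn (h : G) h.2 (by
        rw [show r.out⁻¹ * q.out * (h : G) * (r.out⁻¹ * q.out)⁻¹ =
          r.out⁻¹ * (q.out * (h : G) * q.out⁻¹) * r.out by group, e']
        rw [show r.out⁻¹ * (r.out * (k : G) * r.out⁻¹) * r.out = k by group]
        exact k.2)
      exact hh (Subtype.ext this)
    have hqr : r = q := by
      rw [← QuotientGroup.out_eq' q, ← QuotientGroup.out_eq' r]
      exact QuotientGroup.eq.mpr hN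
    subst hqr
    obtain rfl : h = k := Subtype.ext (mul_left_cancel (mul_right_cancel e'))
    rfl
  have hsurj : Function.Surjective Φ := by
    rintro ⟨g, hg⟩
    obtain ⟨i, x, hx⟩ := hcover g hg
    set q : G ⧸ Subgroup.normalizer (H i : Set G) := ↑(x⁻¹) with hq
    obtain ⟨n, hn⟩ := QuotientGroup.mk_out_eq_mul (Subgroup.normalizer (H i : Set G)) x⁻¹
    have hmem : q.out⁻¹ * g * q.out ∈ H i := by
      rw [hq, hn, show (x⁻¹ * (n : G))⁻¹ * g * (x⁻¹ * (n : G)) =
        (n : G)⁻¹ * (x * g * x⁻¹) * (n : G) by group]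
      have := (Subgroup.mem_set_normalizer_iff.mp (inv_mem n.2) _).mp hx
      rw [inv_inv] at this
      exact this
    refine ⟨⟨i, q, ⟨⟨_, hmem⟩, fun h => hg ?_⟩⟩, Subtype.ext (by simp only [Φ]; group)⟩
    have h' : q.out⁻¹ * g * q.out = 1 := congrArg Subtype.val h
    rw [show g = q.out * (q.out⁻¹ * g * q.out) * q.out⁻¹ by group, h', mul_one, mul_inv_cancel]
  have hcard := Nat.card_eq_of_bijective Φ ⟨hinj, hsurj⟩
  rw [Nat.card_sigma] at hcard
  have hc : ∀ {Y : Type _} [Fintype Y] (a : Y), Nat.card {y : Y // y ≠ a} = Nat.card Y - 1 := by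
    intro Y _ a
    rw [Nat.card_eq_fintype_card, Nat.card_eq_fintype_card, Fintype.card_subtype_compl,
      Fintype.card_subtype_eq]
  rw [hc] at hcard
  rw [← hcard]
  refine Finset.sum_congr rfl fun i _ => ?_
  rw [Nat.card_prod, hc]
  rfl

end Cfsg.Agent.S1527
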