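import Cfsg.Statements.S1545
import Cfsg.Agent.Lib.OddChar.FrobeniusFixed
import Cfsg.Agent.Lib.FGS.ThompsonKernel
-- import your own Cfsg.Agent.* helpers here

set_option autoImplicit false
open Cfsg

namespace Cfsg.Agent.S1545

/-- Let X be a finite group with subgroups U, E and H such that U and E generate a subgroup UE = U ⊔ E normalising H, with U normal in UE, U ⊓ E = ⊥, U ≠ ⊥, E ≠ ⊥, every non-identity element of E commuting with no non-identity element of U (UE is a Frobenius group with kernel U acting on H by conjugation), H solvable, H ⊓ (U ⊔ E) = ⊥ and the orders of H and U ⊔ E coprime. Then Nat.card (H ⊓ C(U ⊔ E)) ^ Nat.card E * Nat.card H = Nat.card (H ⊓ C(E)) ^ Nat.card E * Nat.card (H ⊓ C(U)), where C(·) denotes the centraliser. -/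
theorem result {X : Type*} [Group X] [Finite X] (U E H : Subgroup X) (hU1 : U ≠ ⊥) (hE1 : E ≠ ⊥) (hUE : U ⊓ E = ⊥) (hUn : ∀ e ∈ E, ∀ u ∈ U, e * u * e⁻¹ ∈ U) (hfpf : ∀ e ∈ E, e ≠ 1 → ∀ u ∈ U, e * u = u * e → u = 1) (hHn : ∀ x ∈ U ⊔ E, ∀ h ∈ H, x * h * x⁻¹ ∈ H) (hdisj : H ⊓ (U ⊔ E) = ⊥) (hsolv : Group.IsSolvable H) (hcop : Nat.Coprime (Nat.card H) (Nat.card ↥(U ⊔ E))) : Nat.card ↥(H ⊓ Subgroup.centralizer ((U ⊔ E : Subgroup X) : Set X)) ^ Nat.card E * Nat.card H = Nat.card ↥(H ⊓ Subgroup.centralizer (E : Set X)) ^ Nat.card E * Nat.card ↥(H ⊓ Subgroup.centralizer (U : Set X)) := by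
  have hn : (U.subgroupOf (U ⊔ E)).Normal := by
    refine (Subgroup.normal_subgroupOf_iff le_sup_left).mpr fun u g hu hg => ?_
    have key : U ⊔ E ≤ Subgroup.normalizer (U : Set X) :=
      sup_le Subgroup.le_normalizer fun e he => Subgroup.mem_normalizer_iff.mpr fun u =>
        ⟨hUn e he u, fun hu => by
          have := hUn e⁻¹ (E.inv_mem he) _ hu
          simpa [mul_assoc] using this⟩
    exact (Subgroup.mem_normalizer_iff.mp (key hg) u).mp hu
  have : Nontrivial E := (Subgroup.nontrivial_iff_ne_bot E).mpr hE1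
  obtain ⟨r, hr, hrd⟩ := Nat.exists_prime_and_dvd (n := Nat.card E)
    (by have := Finite.one_lt_card (α := E); omega)
  have : Fact r.Prime := ⟨hr⟩
  obtain ⟨e, he⟩ := exists_prime_orderOf_dvd_card' (G := E) r hrd
  have he1 : (e : X) ≠ 1 := fun h => by
    rw [show e = 1 from Subtype.ext h, orderOf_one] at he
    exact hr.one_lt.ne he
  have hnil : Group.IsNilpotent (U.subgroupOf (U ⊔ E)) :=
    CfsgLib.FGS.isNilpotent_of_fpf_element _ hr (h := Subgroup.inclusion le_sup_right e)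
      ((orderOf_injective _ (Subgroup.inclusion_injective _) e).trans he)
      fun n hn' hne => Subtype.ext (hfpf e e.2 he1 _ (Subgroup.mem_subgroupOf.mp hn')
        (congrArg Subtype.val hne).symm)
  have hU : Group.IsNilpotent U := Group.nilpotent_of_mulEquiv (Subgroup.subgroupOfEquivOfLe (le_sup_left : U ≤ U ⊔ E))
  exact CfsgLib.OddChar.FrobFix.card_inf_centralizer_formula ⟨hUn, hfpf, hU⟩ hHn hsolv hcop

end Cfsg.Agent.S1545
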