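import Cfsg.Statements.S1509
import Cfsg.Agent.Lib.Char.Ortho

set_option autoImplicit false
open Cfsg

namespace Cfsg.Agent.S1509

/-- Let α, β, γ, δ be functions on a finite group X each of which is an irreducible character or the negative of one, and u, v nonzero real numbers. Suppose ⟨α, β⟩ = ⟨γ, δ⟩ = 0, ⟨α − β, uγ − vδ⟩ = 0, α 1 = β 1 and u γ 1 = v δ 1. Then also ⟨α, γ⟩ = ⟨α, δ⟩ = ⟨β, γ⟩ = ⟨β, δ⟩ = 0. -/
theorem result {X : Type*} [Group X] [Fintype X] (α β γ δ : X → ℂ) (hα : Cfsg.IsIrrCharacter X α ∨ Cfsg.IsIrrCharacter X (-α)) (hβ : Cfsg.IsIrrCharacter X β ∨ Cfsg.IsIrrCharacter X (-β)) (hγ : Cfsg.IsIrrCharacter X γ ∨ Cfsg.IsIrrCharacter X (-γ)) (hδ : Cfsg.IsIrrCharacter X δ ∨ Cfsg.IsIrrCharacter X (-δ)) (u v : ℝ) (hu : u ≠ 0) (hv : v ≠ 0) (hab : Cfsg.classInner α β = 0) (hcd : Cfsg.classInner γ δ = 0) (hmix : Cfsg.classInner (α - β) ((u : ℂ) • γ - (v : ℂ) • δ) = 0) (h1 : α 1 = β 1) (h2 : (u : ℂ) * γ 1 = (v : ℂ) * δ 1) : Cfsg.classInner α γ = 0 ∧ Cfsg.classInner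 α δ = 0 ∧ Cfsg.classInner β γ = 0 ∧ Cfsg.classInner β δ = 0 := by
  open CfsgLib.Char in
  classical
  have hself : ∀ x : X → ℂ, (Cfsg.IsIrrCharacter X x ∨ Cfsg.IsIrrCharacter X (-x)) →
      Cfsg.classInner x x = 1 ∧ x 1 ≠ 0 := by
    intro x hx
    rcases hx with hx | hx
    · exact ⟨classInner_irr_self hx, irr_one_ne_zero hx⟩
    · refine ⟨?_, fun h => irr_one_ne_zero hx (by simp [h])⟩
      have := classInner_irr_self hx
      rwa [classInner_neg_left, classInner_neg_right, neg_neg] at this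
  have hpar : ∀ x y : X → ℂ, (Cfsg.IsIrrCharacter X x ∨ Cfsg.IsIrrCharacter X (-x)) →
      (Cfsg.IsIrrCharacter X y ∨ Cfsg.IsIrrCharacter X (-y)) →
      Cfsg.classInner x y ≠ 0 → ∃ e : ℂ, e ≠ 0 ∧ y = e • x := by
    intro x y hx hy h
    rcases hx with hx | hx <;> rcases hy with hy | hy
    · refine ⟨1, one_ne_zero, ?_⟩
      by_contra hne
      exact h (classInner_irr_ne hx hy fun e => hne (by simp [e]))
    · refine ⟨-1, by norm_num, ?_⟩
      by_contra hne
      have := classInner_irr_ne hx hy fun e => hne (by simp [e])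
      exact h (by rwa [classInner_neg_right, neg_eq_zero] at this)
    · refine ⟨-1, by norm_num, ?_⟩
      by_contra hne
      have := classInner_irr_ne hx hy fun e => hne (by simp [← e])
      exact h (by rwa [classInner_neg_left, neg_eq_zero] at this)
    · refine ⟨1, one_ne_zero, ?_⟩
      by_contra hne
      have := classInner_irr_ne hx hy fun e => hne (by simpa using (neg_injective e).symm)
      exact h (by rwa [classInner_neg_left, classInner_neg_right, neg_neg] at this)
  have hu' : (u : ℂ) ≠ 0 := Complex.ofReal_ne_zero.mpr hu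
  have hv' : (v : ℂ) ≠ 0 := Complex.ofReal_ne_zero.mpr hv
  have hmain : ∀ (a b c d : X → ℂ) (s t : ℂ),
      (Cfsg.IsIrrCharacter X a ∨ Cfsg.IsIrrCharacter X (-a)) →
      (Cfsg.IsIrrCharacter X b ∨ Cfsg.IsIrrCharacter X (-b)) →
      (Cfsg.IsIrrCharacter X c ∨ Cfsg.IsIrrCharacter X (-c)) →
      (Cfsg.IsIrrCharacter X d ∨ Cfsg.IsIrrCharacter X (-d)) →
      s ≠ 0 → t ≠ 0 → starRingEnd ℂ s = s → starRingEnd ℂ t = t →
      Cfsg.classInner a b = 0 → Cfsg.classInner c d = 0 →
      Cfsg.classInner (a - b) (s • c - t • d) = 0 → a 1 = b 1 → s * c 1 = t * d 1 →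
      Cfsg.classInner a c = 0 := by
    intro a b c d s t ha hb hc hd hs ht hs' ht' hab' hcd' hm h1' h2'
    by_contra hac
    obtain ⟨e, he, rfl⟩ := hpar a c ha hc hac
    have hbc : Cfsg.classInner b (e • a) = 0 := by
      rw [classInner_smul_right, ← classInner_conj_symm, hab', map_zero, mul_zero]
    have had : Cfsg.classInner a d = 0 := by
      rw [classInner_smul_left] at hcd'
      exact (mul_eq_zero.mp hcd').resolve_left he
    rw [classInner_sub_left, classInner_sub_right, classInner_sub_right,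
      classInner_smul_right s, classInner_smul_right t, classInner_smul_right s,
      classInner_smul_right t, hbc, had, classInner_smul_right e, (hself a ha).1, hs', ht'] at hm
    have hbd : Cfsg.classInner b d ≠ 0 := by
      intro h0
      rw [h0] at hm
      simp [hs, he] at hm
    obtain ⟨f, hf, rfl⟩ := hpar b d hb hd hbd
    rw [classInner_smul_right f, (hself b hb).1] at hm
    simp only [Pi.smul_apply, smul_eq_mul, ← h1'] at h2'
    have hef : s * e = t * f := mul_right_cancel₀ (hself a ha).2 (by linear_combination h2')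
    have hef' : starRingEnd ℂ (s * e) = starRingEnd ℂ (t * f) := by rw [hef]
    rw [map_mul, map_mul, hs', ht'] at hef'
    have : s * starRingEnd ℂ e = 0 := by linear_combination (hm + hef') / 2
    rcases mul_eq_zero.mp this with h | h
    · exact hs h
    · exact he (by simpa using h)
  have hur : starRingEnd ℂ (u : ℂ) = u := Complex.conj_ofReal u
  have hvr : starRingEnd ℂ (v : ℂ) = v := Complex.conj_ofReal v
  have hcd' : Cfsg.classInner δ γ = 0 := by rw [← classInner_conj_symm, hcd, map_zero]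
  have hab' : Cfsg.classInner β α = 0 := by rw [← classInner_conj_symm, hab, map_zero]
  have hmix' : Cfsg.classInner (α - β) ((v : ℂ) • δ - (u : ℂ) • γ) = 0 := by
    rw [← neg_sub ((u : ℂ) • γ) ((v : ℂ) • δ), classInner_neg_right, hmix, neg_zero]
  have hmix'' : ∀ w : X → ℂ, Cfsg.classInner (α - β) w = 0 → Cfsg.classInner (β - α) w = 0 :=
    fun w hw => by rw [← neg_sub α β, classInner_neg_left, hw, neg_zero]
  exact ⟨hmain α β γ δ u v hα hβ hγ hδ hu' hv' hur hvr hab hcd hmix h1 h2,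
    hmain α β δ γ v u hα hβ hδ hγ hv' hu' hvr hur hab hcd' hmix' h1 h2.symm,
    hmain β α γ δ u v hβ hα hγ hδ hu' hv' hur hvr hab' hcd (hmix'' _ hmix) h1.symm h2,
    hmain β α δ γ v u hβ hα hδ hγ hv' hu' hvr hur hab' hcd' (hmix'' _ hmix') h1.symm h2.symm⟩

end Cfsg.Agent.S1509
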