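import Cfsg.Statements.S1518
import Cfsg.Agent.Lib.OddChar.Dade
import Cfsg.Agent.Lib.Char.TI
import Cfsg.Agent.Lib.Char.PermLemma

set_option autoImplicit false
open Cfsg

namespace Cfsg.Agent.S1518

/-- Under the Dade hypothesis for (A, L, H): if χ is an irreducible character of L vanishing at every non-identity element of L outside A, then the Dade image of χ − conj χ equals μ − conj μ for some irreducible character μ of G. -/
theorem result {G : Type*} [Group G] [Fintype G] (A : Set G) (L : Subgroup G) [Fintype L] (H : G → Subgroup G) (hD : Cfsg.DadeHypothesis A L H) (χ : L → ℂ) (hχ : Cfsg.IsIrrCharacter L χ) (hsupp : ∀ x : L, x ≠ 1 → (x : G) ∉ A → χ x = 0) : ∃ μ : G → ℂ, Cfsg.IsIrrCharacter G μ ∧ Cfsg.dadeIsometry A L H (χ - Cfsg.conjFun χ) = μ - Cfsg.conjFun μ := by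
  open CfsgLib.Char CfsgLib.OddChar.Dade in
  classical
  have hχc : Cfsg.IsIrrCharacter L (Cfsg.conjFun χ) := (irrConj ⟨χ, hχ⟩).2
  set α := χ - Cfsg.conjFun χ with hα
  have hαgen : Cfsg.IsGeneralizedCharacter L α := isGen_sub (isGen_of_irr hχ) (isGen_of_irr hχc)
  have hαcf := isClassFunction_of_isGen hαgen
  have hαA : ∀ x : L, (x : G) ∉ A → α x = 0 := by
    intro x hx
    rcases eq_or_ne x 1 with rfl | h1
    · simp [hα, Cfsg.conjFun, char_conj_one (isCharacter_of_isIrr hχ)]
    · simp [hα, Cfsg.conjFun, hsupp x h1 hx]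
  have hgen := isGen_dade hD hαgen hαA
  by_cases hreal : χ = Cfsg.conjFun χ
  · refine ⟨fun _ => 1, isIrrCharacter_one, funext fun g => ?_⟩
    have h0 : α = 0 := sub_eq_zero.mpr hreal
    rw [h0]
    by_cases h : ∃ a : L, (a : G) ∈ A ∧ ∃ x : G, ∃ u ∈ H (a : G), x * g * x⁻¹ = (a : G) * u
    · obtain ⟨a, ha, x, u, hu, hx⟩ := h
      rw [dade_apply hD (α := 0) (fun _ _ => rfl) ha hu hx]
      simp [Cfsg.conjFun]
    · rw [dade_apply_none h]
      simp [Cfsg.conjFun]
  have hnorm : Cfsg.classInner (Cfsg.dadeIsometry A L H α) (Cfsg.dadeIsometry A L H α) = 2 := by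
    rw [dade_classInner hD hαcf hαA (ψ := α) (isClassFunction_dade hD hαcf)]
    · simp only [hα, classInner_sub_left, classInner_sub_right, classInner_irr_self hχ,
        classInner_irr_self hχc, classInner_irr_ne hχ hχc hreal,
        classInner_irr_ne hχc hχ (Ne.symm hreal)]
      norm_num
    · intro a ha
      rw [← finsum_set_coe_eq_finsum_mem, finsum_eq_sum_of_fintype,
        Finset.sum_congr rfl (g := fun _ => α a) fun u _ =>
          dade_apply hD hαcf ha u.2 (x := 1) (by group),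
        Finset.sum_const, Finset.card_univ, nsmul_eq_mul, ← Nat.card_eq_fintype_card, ← mul_assoc,
        show Nat.card ↥((H (a : G) : Set G)) = Nat.card ↥(H (a : G)) from rfl,
        inv_mul_cancel₀ (card_subgroup_ne_zero (H (a : G))), one_mul]
  have h1 : Cfsg.dadeIsometry A L H α 1 = 0 := by
    refine dade_apply_none ?_
    rintro ⟨a, ha, x, u, hu, hx⟩
    rw [mul_one, mul_inv_cancel] at hx
    have haH : (a : G) ∈ H (a : G) := by
      have e : (a : G) = u⁻¹ := eq_inv_of_mul_eq_one_left hx.symm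
      have hu' : u⁻¹ ∈ H (a : G) := inv_mem hu
      rwa [← e] at hu'
    exact hD.one_not_mem ((eq_one_of_mem hD ha haH a.2) ▸ ha)
  obtain ⟨μ, ν, hμν, he⟩ := gen_norm_two hgen hnorm h1
  refine ⟨μ.1, μ.2, ?_⟩
  have hconj : ∀ g, starRingEnd ℂ (Cfsg.dadeIsometry A L H α g) = - Cfsg.dadeIsometry A L H α g := by
    intro g
    by_cases h : ∃ a : L, (a : G) ∈ A ∧ ∃ x : G, ∃ u ∈ H (a : G), x * g * x⁻¹ = (a : G) * u
    · obtain ⟨a, ha, x, u, hu, hx⟩ := h
      rw [dade_apply hD hαcf ha hu hx]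
      simp [hα, Cfsg.conjFun]
    · rw [dade_apply_none h, map_zero, neg_zero]
  suffices hν : ν = irrConj μ by rw [he, hν]; rfl
  by_contra hne
  have hrel : ((irrConj μ : Cfsg.IrrCharacter G) : G → ℂ) - (irrConj ν : Cfsg.IrrCharacter G).1 =
      (ν : G → ℂ) - μ.1 := funext fun g => by
    have := hconj g
    rw [he] at this
    simp only [Pi.sub_apply, map_sub, neg_sub] at this ⊢
    exact this
  have h3 := congrArg (fun f => Cfsg.classInner f ((irrConj μ : Cfsg.IrrCharacter G) : G → ℂ)) hrel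
  simp only [classInner_sub_left, classInner_irr_self (irrConj μ).2] at h3
  rw [classInner_irr_ne ν.2 (irrConj μ).2 fun e => hne (Subtype.ext e),
    classInner_irr_ne (irrConj ν).2 (irrConj μ).2 fun e =>
      hμν (by rw [← irrConj_irrConj μ, ← irrConj_irrConj ν, Subtype.ext e])] at h3
  rcases eq_or_ne μ (irrConj μ) with e | e
  · rw [← e, classInner_irr_self μ.2] at h3
    norm_num at h3
  · rw [classInner_irr_ne μ.2 (irrConj μ).2 fun e' => e (Subtype.ext e')] at h3
    norm_num at h3

end Cfsg.Agent.S1518
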