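import Cfsg.Statements.S1506
import Cfsg.Agent.Lib.OddChar.CyclicTI

set_option autoImplicit false
open Cfsg

namespace Cfsg.Agent.S1506

/-- Let W₁, W₂ ≤ G form a self-normalising cyclic subgroup W = W₁ ⊔ W₂ and χ an orthonormal family of irreducible characters of G up to sign, indexed by the linear characters ω of W, with χ_1 = 1, χ_ω = ω on W outside W₁ ∪ W₂, and the induction identity for (1 − φ)(1 − ψ). Let θ be a class function of G vanishing at every element of W outside W₁ ∪ W₂. For linear characters φ, φ' of W trivial on W₂ and ψ, ψ' trivial on W₁, the inner products a(ω) = ⟨θ, χ ω⟩ satisfy a(φψ) + a(φ'ψ') = a(φψ') + a(φ'ψ). -/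
theorem result {G : Type*} [Group G] [Fintype G] (W₁ W₂ : Subgroup G) (hW : Cfsg.IsSelfNormalizingCyclic W₁ W₂) (χ : (↥(W₁ ⊔ W₂) →* ℂˣ) → (G → ℂ)) (hχ : Cfsg.IsCyclicTIFamily W₁ W₂ χ) (θ : G → ℂ) (hθ : Cfsg.IsClassFunction G θ) (hθV : ∀ w : ↥(W₁ ⊔ W₂), (w : G) ∉ W₁ → (w : G) ∉ W₂ → θ w = 0) (φ φ' ψ ψ' : ↥(W₁ ⊔ W₂) →* ℂˣ) (hφ₂ : ∀ w : ↥(W₁ ⊔ W₂), (w : G) ∈ W₂ → φ w = 1 ∧ φ' w = 1) (hψ₁ : ∀ w : ↥(W₁ ⊔ W₂), (w : G) ∈ W₁ → ψ w = 1 ∧ ψ' w = 1) : Cfsg.classInner θ (χ (φ * ψ)) + Cfsg.classInner θ (χ (φ' * ψ')) = Cfsg.classInner θ (χ (φ * ψ')) + Cfsg.classInner θ (χ (φ' * ψ)) := by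
  open CfsgLib.Char CfsgLib.OddChar.CTI in
  classical
  have := Fintype.ofFinite ↥(W₁ ⊔ W₂)
  have key : ∀ α β : ↥(W₁ ⊔ W₂) →* ℂˣ, (∀ w : ↥(W₁ ⊔ W₂), (w : G) ∈ W₂ → α w = 1) →
      (∀ w : ↥(W₁ ⊔ W₂), (w : G) ∈ W₁ → β w = 1) →
      Cfsg.classInner θ (χ (α * β)) =
        Cfsg.classInner θ (χ α) + Cfsg.classInner θ (χ β) - Cfsg.classInner θ (χ 1) := by
    intro α β hα hβ
    by_cases ha : α = 1
    · subst ha; rw [hom_one_mul]; ring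
    by_cases hb : β = 1
    · subst hb; rw [hom_mul_one]; ring
    have h0 : Cfsg.classInner θ (Cfsg.indFun (W₁ ⊔ W₂) (prod α β)) = 0 := by
      rw [frobenius_reciprocity' _ _ hθ, classInner_def, Finset.sum_eq_zero, mul_zero]
      intro w _
      by_cases hw : (w : G) ∈ W₁ ∨ (w : G) ∈ W₂
      · rw [prod_eq_zero hα hβ hw, map_zero, mul_zero]
      · push Not at hw
        rw [hθV w hw.1 hw.2, zero_mul]
    rw [show Cfsg.indFun (W₁ ⊔ W₂) (prod α β) = χ 1 - χ α - χ β + χ (α * β) by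
      rw [hχ.map_one]; exact hχ.induced_eq α β ha hb hα hβ] at h0
    rw [classInner_add_right, classInner_sub_right, classInner_sub_right] at h0
    linear_combination h0
  have h2 : ∀ w : ↥(W₁ ⊔ W₂), (w : G) ∈ W₂ → φ w = 1 := fun w hw => (hφ₂ w hw).1
  have h2' : ∀ w : ↥(W₁ ⊔ W₂), (w : G) ∈ W₂ → φ' w = 1 := fun w hw => (hφ₂ w hw).2
  have h1 : ∀ w : ↥(W₁ ⊔ W₂), (w : G) ∈ W₁ → ψ w = 1 := fun w hw => (hψ₁ w hw).1
  have h1' : ∀ w : ↥(W₁ ⊔ W₂), (w : G) ∈ W₁ → ψ' w = 1 := fun w hw => (hψ₁ w hw).2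
  rw [key φ ψ h2 h1, key φ' ψ' h2' h1', key φ ψ' h2 h1', key φ' ψ h2' h1]
  ring

end Cfsg.Agent.S1506
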