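import Cfsg.Statements.S1513
import Cfsg.Agent.Lib.OddChar.Semidirect

set_option autoImplicit false
open Cfsg

namespace Cfsg.Agent.S1513

/-- Let L be a finite group with K normal with complement W₁ ≠ 1 a cyclic Hall subgroup, and W₂ ≠ 1 a cyclic subgroup of K equal to C_K(x) for every non-identity x ∈ W₁, with W₁W₂ of odd order. For an irreducible character θ of K: if θ is not fixed under conjugation by some element of W₁, then the function induced from θ to L is an irreducible character of L; and the irreducible characters of K fixed by all of W₁ are exactly Nat.card W₂ in number, each inducing to the sum of Nat.card W₁ pairwise distinct irreducible characters of L. -/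
theorem result {L : Type*} [Group L] [Fintype L] (K W₁ W₂ : Subgroup L) [hK : K.Normal] (hKW₁ : K ⊓ W₁ = ⊥) (hKW₁' : K ⊔ W₁ = ⊤) (hW₁ : W₁ ≠ ⊥) (hW₁c : IsCyclic W₁) (hHall : Nat.Coprime (Nat.card W₁) W₁.index) (hW₂ : W₂ ≠ ⊥) (hW₂c : IsCyclic W₂) (hW₂K : W₂ ≤ K) (hC : ∀ x ∈ W₁, x ≠ 1 → K ⊓ Subgroup.centralizer ({x} : Set L) = W₂) (hodd : Odd (Nat.card ↥(W₁ ⊔ W₂))) : (∀ θ : K → ℂ, Cfsg.IsIrrCharacter K θ → (∃ x ∈ W₁, (fun k : K => θ ⟨x * k * x⁻¹, hK.conj_mem (k : L) k.2 x⟩) ≠ θ) → Cfsg.IsIrrCharacter L (Cfsg.indFun K θ)) ∧ Nat.card {θ : Cfsg.IrrCharacter K // ∀ x ∈ W₁, (fun k : K => (θ : K → ℂ) ⟨x * k * x⁻¹, hK.conj_mem (k : L) k.2 x⟩) = θ} = Nat.card W₂ ∧ (∀ θ : K → ℂ, Cfsg.IsIrrCharacter K θ → (∀ x ∈ W₁, (fun k : K => θ ⟨x * k * x⁻¹, hK.conj_mem (k : L) k.2 x⟩) = θ) → ∃ C : Finset (L → ℂ), C.card = Nat.card W₁ ∧ (∀ μ ∈ C, Cfsg.IsIrrCharacter L μ) ∧ Cfsg.indFun K θ = ∑ μ ∈ C, μ) := by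
  open CfsgLib.Char CfsgLib.OddChar in
  classical
  have h : Semi.Setting K W₁ W₂ := ⟨hKW₁, hKW₁', hHall, hW₁c, hW₂c, hW₂K, hC⟩
  have := Fintype.ofFinite K
  have hindex : K.index = Nat.card W₁ := by
    have hc : Subgroup.IsComplement' K W₁ :=
      Subgroup.isComplement'_of_disjoint_and_mul_eq_univ (disjoint_iff.mpr hKW₁)
        (by rw [← Subgroup.normal_mul, hKW₁', Subgroup.coe_top])
    exact hc.symm.index_eq_card
  obtain ⟨⟨x₀, hx₀⟩, hx₀'⟩ := Subgroup.ne_bot_iff_exists_ne_one.mp hW₁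
  have hx₀1 : x₀ ≠ 1 := fun e => hx₀' (Subtype.ext e)
  refine ⟨fun θ hθ hmove => ?_, ?_, fun θ hθ hinv => ?_⟩
  · refine irr_of_norm_one (isCharacter_indFun K (isCharacter_of_isIrr hθ)) ?_
    have hmul := card_mul_classInner_indFun_normal K hθ hθ
    have hiff : ∀ g : L, CfsgLib.CharNormal.conjFun K g θ = θ ↔ g ∈ K := by
      refine fun g => ⟨fun hg => ?_,
        CfsgLib.CharNormal.conjFun_of_mem K (isClassFunction_of_isIrr hθ)⟩
      obtain ⟨k, hk, x, hx, rfl⟩ := Semi.exists_mul h g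
      by_cases hx1 : x = 1
      · rw [hx1, mul_one]; exact hk
      exfalso
      obtain ⟨y, hy, hne⟩ := hmove
      refine hne (Semi.fixed_all_of_fixed h hW₁ (θ := ⟨θ, hθ⟩) hx hx1 ?_ y hy)
      rwa [← CfsgLib.CharNormal.conjFun_conjFun,
        CfsgLib.CharNormal.conjFun_of_mem K (isClassFunction_of_isIrr hθ) hk] at hg
    rw [Nat.card_congr (Equiv.subtypeEquivRight hiff)] at hmul
    exact (mul_eq_left₀ (card_subgroup_ne_zero K)).mp hmul
  · rw [← Semi.card_fixed_irr h hW₁ hx₀ hx₀1]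
    exact Nat.card_congr (Equiv.subtypeEquivRight fun θ =>
      ⟨fun e => e x₀ hx₀, fun e => Semi.fixed_all_of_fixed h hW₁ hx₀ hx₀1 e⟩)
  · have hab : ∀ x ∈ (⊤ : Subgroup L), ∀ y ∈ (⊤ : Subgroup L), x * y * x⁻¹ * y⁻¹ ∈ K := by
      intro g _ g' _
      obtain ⟨k, hk, x, hx, rfl⟩ := Semi.exists_mul h g
      obtain ⟨k', hk', x', hx', rfl⟩ := Semi.exists_mul h g'
      rw [← QuotientGroup.eq_one_iff, QuotientGroup.mk_mul, QuotientGroup.mk_mul, QuotientGroup.mk_mul,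
        QuotientGroup.mk_inv, QuotientGroup.mk_inv, QuotientGroup.mk_mul, QuotientGroup.mk_mul,
        (QuotientGroup.eq_one_iff k).mpr hk, (QuotientGroup.eq_one_iff k').mpr hk', one_mul, one_mul,
        ← QuotientGroup.mk_inv, ← QuotientGroup.mk_inv, ← QuotientGroup.mk_mul, ← QuotientGroup.mk_mul,
        ← QuotientGroup.mk_mul]
      have hc := (hW₁c.isMulCommutative (α := W₁)).is_comm.comm ⟨x, hx⟩ ⟨x', hx'⟩
      rw [show x * x' * x⁻¹ * x'⁻¹ = 1 by
        rw [show x * x' = x' * x from congrArg Subtype.val hc]; group]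
      rfl
    have := Fintype.ofFinite (⊤ : Subgroup L)
    have hT : ∀ g : L, g ∈ (⊤ : Subgroup L) ↔ CfsgLib.CharNormal.conjFun K g θ = θ := by
      refine fun g => ⟨fun _ => ?_, fun _ => Subgroup.mem_top g⟩
      obtain ⟨k, hk, x, hx, rfl⟩ := Semi.exists_mul h g
      rw [← CfsgLib.CharNormal.conjFun_conjFun,
        CfsgLib.CharNormal.conjFun_of_mem K (isClassFunction_of_isIrr hθ) hk]
      exact hinv x hx
    obtain ⟨e, C, he, hC', hcard, hind, -, he1⟩ := exists_constituents_inertia K ⊤ hθ hT hab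
    have hrel : K.relIndex ⊤ = Nat.card W₁ := by rw [Subgroup.relIndex_top_right, hindex]
    obtain rfl := he1 (by rw [hrel]; exact (Semi.coprime_K h).symm)
    exact ⟨C, by simpa [hrel] using hcard, hC', by simpa using hind⟩

end Cfsg.Agent.S1513
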