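import Cfsg.Statements.S1393
import Cfsg.Agent.Lib.PStab.TransHyp

set_option autoImplicit false
open Cfsg

namespace Cfsg.Agent.S1393

/-- Let G be a minimal simple group of odd order, A a subgroup satisfying the transitivity hypothesis whose centre has rank at least 3, K = O_{π(A)'}(C_G(A)), and q a prime not dividing the order of A. Then any two maximal A-invariant q-subgroups of G are conjugate by an element of K. -/
theorem result {G : Type*} [Group G] [Finite G] (hG : Cfsg.IsMinSimpleOddOrder G)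
    (A : Subgroup G) (hA : Cfsg.TransitivityHypothesis A) (hZ : ¬ Cfsg.RankLE 2 ↥(A ⊓ Subgroup.centralizer (A : Set G)))
    (q : ℕ) (hq : q.Prime) (hqA : ¬ q ∣ Nat.card A) :
    ∀ Q₁ ∈ Cfsg.maxInvSubgroups ⊤ A {q}, ∀ Q₂ ∈ Cfsg.maxInvSubgroups ⊤ A {q}, ∃ k ∈ Cfsg.piCoreOf (Cfsg.primesNotDvd (Nat.card A)) (Subgroup.centralizer (A : Set G)), Q₂ = Q₁.map (MulAut.conj k).toMonoidHom := by
  obtain ⟨r, hr, B, hB, hB3, hBA, hBC, hrA⟩ := CfsgLib.PStab.exists_elementary_of_not_rankLE hZ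
  have : Fact r.Prime := ⟨hr⟩
  have : Fact q.Prime := ⟨hq⟩
  have hqr : q ≠ r := fun h => hqA (h ▸ hrA)
  intro Q₁ h₁ Q₂ h₂
  by_cases hne : Q₁ ⊓ Q₂ = ⊥
  swap
  · exact CfsgLib.PStab.kconj_of_inf_ne_bot hG hA hq hqA h₁ h₂ hne
  by_cases hb₁ : Q₁ ⊓ Q₂ = Q₁
  · rw [h₁.2 Q₂ h₂.1 (inf_eq_left.1 hb₁)]
    exact CfsgLib.PStab.KConj.refl Q₁
  by_cases hb₂ : Q₁ ⊓ Q₂ = Q₂
  · rw [h₂.2 Q₁ h₁.1 (inf_eq_right.1 hb₂)]
    exact CfsgLib.PStab.KConj.refl Q₂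
  obtain ⟨a, ha, ha1, hn₁, hn₂⟩ := CfsgLib.Signalizer.exists_common_fixed hB hB3 hqr
    (CfsgLib.PStab.isPGroup_iff_primes.2 h₁.1.2.1) (CfsgLib.PStab.isPGroup_iff_primes.2 h₂.1.2.1)
    (hBA.trans h₁.1.2.2) (hBA.trans h₂.1.2.2) hb₁ hb₂
  refine CfsgLib.PStab.kconj_of_common_overgroup hG hA hq hqA h₁ h₂
    (CfsgLib.PStab.centralizer_ne_top_of_minSimple hG ha1) (hBC a ha) ?_ ?_
  · exact fun h => hn₁ (((le_inf inf_le_right (inf_le_left.trans inf_le_right)).trans h.le).trans bot_le)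
  · exact fun h => hn₂ (((le_inf inf_le_right (inf_le_left.trans inf_le_right)).trans h.le).trans bot_le)

end Cfsg.Agent.S1393
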