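import Cfsg.Statements.S1395
import Cfsg.Agent.Lib.PStab.TransHyp

set_option autoImplicit false
open Cfsg
open scoped commutatorElement

namespace Cfsg.Agent.S1395

/-- Let G be a minimal simple group of odd order, A a subgroup satisfying the transitivity hypothesis with K = O_{π(A)'}(C_G(A)), q a prime not dividing the order of A, and P a proper subgroup all of whose prime divisors divide the order of A, containing A as a subnormal subgroup, such that any two maximal A-invariant q-subgroups are conjugate under K. Then (a) K ∩ C_G(P) = O_{π(A)'}(C_G(P)); (b) any two maximal P-invariant q-subgroups are conjugate under O_{π(A)'}(C_G(P)); (c) every maximal P-invariant q-subgroup is a maximal A-invariant q-subgroup; (d) for every maximal P-invariant q-subgroup Q, P ∩ N_G(P)' ≤ N_G(Q)' and N_G(P) is generated by O_{π(A)'}(C_G(P)) and N_G(P) ∩ N_G(Q). -/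
theorem result {G : Type*} [Group G] [Finite G] (hG : Cfsg.IsMinSimpleOddOrder G)
    (A : Subgroup G) (hA : Cfsg.TransitivityHypothesis A) (q : ℕ) (hq : q.Prime) (hqA : ¬ q ∣ Nat.card A)
    (P : Subgroup G) (hP : P ≠ ⊤) (hPπ : (∀ r : ℕ, r.Prime → r ∣ Nat.card P → r ∣ Nat.card A)) (hAP : A ≤ P) (hsn : (A.subgroupOf P).IsSubnormal)
    (htr : ∀ Q₁ ∈ Cfsg.maxInvSubgroups ⊤ A {q}, ∀ Q₂ ∈ Cfsg.maxInvSubgroups ⊤ A {q}, ∃ k ∈ Cfsg.piCoreOf (Cfsg.primesNotDvd (Nat.card A)) (Subgroup.centralizer (A : Set G)), Q₂ = Q₁.map (MulAut.conj k).toMonoidHom) :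
    Cfsg.piCoreOf (Cfsg.primesNotDvd (Nat.card A)) (Subgroup.centralizer (A : Set G)) ⊓ Subgroup.centralizer (P : Set G) = Cfsg.piCoreOf (Cfsg.primesNotDvd (Nat.card A)) (Subgroup.centralizer (P : Set G)) ∧
      (∀ Q₁ ∈ Cfsg.maxInvSubgroups ⊤ P {q}, ∀ Q₂ ∈ Cfsg.maxInvSubgroups ⊤ P {q}, ∃ k ∈ Cfsg.piCoreOf (Cfsg.primesNotDvd (Nat.card A)) (Subgroup.centralizer (P : Set G)), Q₂ = Q₁.map (MulAut.conj k).toMonoidHom) ∧
      Cfsg.maxInvSubgroups ⊤ P {q} ⊆ Cfsg.maxInvSubgroups ⊤ A {q} ∧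
      ∀ Q ∈ Cfsg.maxInvSubgroups ⊤ P {q},
        P ⊓ ⁅Subgroup.normalizer (P : Set G), Subgroup.normalizer (P : Set G)⁆ ≤ ⁅Subgroup.normalizer (Q : Set G), Subgroup.normalizer (Q : Set G)⁆ ∧
        Subgroup.normalizer (P : Set G) = Cfsg.piCoreOf (Cfsg.primesNotDvd (Nat.card A)) (Subgroup.centralizer (P : Set G)) ⊔ (Subgroup.normalizer (P : Set G) ⊓ Subgroup.normalizer (Q : Set G)) := by
  set π := Cfsg.primesNotDvd (Nat.card A) with hπdef
  have hprops : Cfsg.maxInvSubgroups ⊤ P {q} ⊆ Cfsg.maxInvSubgroups ⊤ A {q} ∧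
      ∀ Q₁ ∈ Cfsg.maxInvSubgroups ⊤ P {q}, ∀ Q₂ ∈ Cfsg.maxInvSubgroups ⊤ P {q},
        ∃ k ∈ Cfsg.piCoreOf π (Subgroup.centralizer (P : Set G)), Q₂ = Q₁.map (MulAut.conj k).toMonoidHom := by
    have key : ∀ H : Subgroup P, H.IsSubnormal → A ≤ H.map P.subtype →
        Cfsg.maxInvSubgroups ⊤ (H.map P.subtype) {q} ⊆ Cfsg.maxInvSubgroups ⊤ A {q} →
        (∀ Q₁ ∈ Cfsg.maxInvSubgroups ⊤ (H.map P.subtype) {q}, ∀ Q₂ ∈ Cfsg.maxInvSubgroups ⊤ (H.map P.subtype) {q},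
          ∃ k ∈ Cfsg.piCoreOf π (Subgroup.centralizer ((H.map P.subtype : Subgroup G) : Set G)),
            Q₂ = Q₁.map (MulAut.conj k).toMonoidHom) →
        Cfsg.maxInvSubgroups ⊤ P {q} ⊆ Cfsg.maxInvSubgroups ⊤ A {q} ∧
          ∀ Q₁ ∈ Cfsg.maxInvSubgroups ⊤ P {q}, ∀ Q₂ ∈ Cfsg.maxInvSubgroups ⊤ P {q},
            ∃ k ∈ Cfsg.piCoreOf π (Subgroup.centralizer (P : Set G)), Q₂ = Q₁.map (MulAut.conj k).toMonoidHom := by
      intro H hH
      induction hH with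
      | top =>
        intro _ h1 h2
        rw [← MonoidHom.range_eq_map, Subgroup.range_subtype] at h1 h2
        exact ⟨h1, h2⟩
      | step H H' hle _ hN ih =>
        intro hAH h1 h2
        have hnorm : H'.map P.subtype ≤ Subgroup.normalizer ((H.map P.subtype : Subgroup G) : Set G) :=
          (Subgroup.map_mono ((Subgroup.normal_subgroupOf_iff_le_normalizer hle).1 hN)).trans
            (Subgroup.le_normalizer_map _)
        obtain ⟨h1', h2'⟩ := CfsgLib.PStab.transitive_step hG hA hq hqA hAH (Subgroup.map_mono hle) hnorm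
          (fun r hr hd => hPπ r hr (hd.trans (Subgroup.card_dvd_of_le (Subgroup.map_subtype_le _)))) h1 h2
        exact ih (hAH.trans (Subgroup.map_mono hle)) h1' h2'
    have hAmap : (A.subgroupOf P).map P.subtype = A := Subgroup.map_subgroupOf_eq_of_le hAP
    refine key _ hsn hAmap.ge ?_ ?_
    · rw [hAmap]
    · rw [hAmap]; exact htr
  refine ⟨CfsgLib.PStab.core_inf_centralizer_eq hG hA hAP, hprops.2, hprops.1, fun Q hQ => ?_⟩
  set N := Subgroup.normalizer (P : Set G) with hN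
  set M := Subgroup.normalizer (Q : Set G) with hM
  set KP := Cfsg.piCoreOf π (Subgroup.centralizer (P : Set G)) with hKP
  have hKN : KP ≤ N := (Subgroup.map_subtype_le _).trans (Subgroup.centralizer_le_normalizer _)
  have hNK : N ≤ Subgroup.normalizer (KP : Set G) :=
    (CfsgLib.Solvable.normalizer_le_normalizer_centralizer P).trans
      (CfsgLib.PStab.normalizer_le_normalizer_piCoreOf π _)
  have hgen : N = KP ⊔ (N ⊓ M) := by
    refine le_antisymm (fun n hn => ?_) (sup_le hKN inf_le_left)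
    have hI : ∀ (R : Subgroup G) (d : G), R ∈ Cfsg.invSubgroups ⊤ P {q} → d ∈ N →
        R.map (MulAut.conj d).toMonoidHom ∈ Cfsg.invSubgroups ⊤ P {q} := by
      intro R d hR hd
      refine ⟨le_top, ?_, fun e he => Subgroup.mem_normalizer_iff_map_conj_eq.2 ?_⟩
      · rw [Subgroup.card_map_of_injective (MulAut.conj d).injective]
        exact hR.2.1
      · show (R.map (MulAut.conj d).toMonoidHom).map (MulAut.conj e).toMonoidHom = _
        rw [CfsgLib.PStab.map_conj_map_conj, show e * d = d * (d⁻¹ * e * d) by group,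
          ← CfsgLib.PStab.map_conj_map_conj,
          show R.map (MulAut.conj (d⁻¹ * e * d)).toMonoidHom = R from
            Subgroup.mem_normalizer_iff_map_conj_eq.1 (hR.2.2 ((Subgroup.mem_normalizer_iff''.1 hd e).1 he))]
    have hmem : Q.map (MulAut.conj n).toMonoidHom ∈ Cfsg.maxInvSubgroups ⊤ P {q} := by
      refine ⟨hI Q n hQ.1 hn, fun R hR hle => ?_⟩
      have h := hQ.2 _ (hI R n⁻¹ hR (inv_mem hn)) (by
        have := Subgroup.map_mono (f := (MulAut.conj n⁻¹).toMonoidHom) hle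
        rwa [CfsgLib.PStab.map_conj_map_conj, inv_mul_cancel, CfsgLib.PStab.map_conj_one'] at this)
      rw [← h, CfsgLib.PStab.map_conj_map_conj, mul_inv_cancel, CfsgLib.PStab.map_conj_one']
    obtain ⟨k, hk, he⟩ := hprops.2 Q hQ _ hmem
    have hkn : k⁻¹ * n ∈ N ⊓ M := by
      refine Subgroup.mem_inf.2 ⟨mul_mem (inv_mem (hKN hk)) hn, Subgroup.mem_normalizer_iff_map_conj_eq.2 ?_⟩
      show Q.map (MulAut.conj (k⁻¹ * n)).toMonoidHom = Q
      rw [← CfsgLib.PStab.map_conj_map_conj, he, CfsgLib.PStab.map_conj_map_conj, inv_mul_cancel,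
        CfsgLib.PStab.map_conj_one']
    have := Subgroup.mul_mem_sup hk hkn
    rwa [mul_inv_cancel_left] at this
  refine ⟨?_, hgen⟩
  set N₀ := N ⊓ M with hN₀
  set D := ⁅N₀, N₀⁆ with hD
  have hDN₀ : D ≤ N₀ := Subgroup.commutator_le_self _
  have hcomm : ⁅N, N⁆ ≤ KP ⊔ D := by
    set f := QuotientGroup.mk' (KP.subgroupOf (Subgroup.normalizer (KP : Set G))) with hf
    rw [Subgroup.commutator_le]
    intro a ha b hb
    rw [hgen] at ha hb
    obtain ⟨k₁, hk₁, a₀, ha₀, rfl⟩ := CfsgLib.Solvable.exists_mul_of_mem_sup (inf_le_left.trans hNK) ha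
    obtain ⟨k₂, hk₂, b₀, hb₀, rfl⟩ := CfsgLib.Solvable.exists_mul_of_mem_sup (inf_le_left.trans hNK) hb
    have hK' := Subgroup.le_normalizer (H := KP)
    have ha' : a₀ ∈ Subgroup.normalizer (KP : Set G) := hNK ha₀.1
    have hb' : b₀ ∈ Subgroup.normalizer (KP : Set G) := hNK hb₀.1
    have h1 : f ⁅(⟨k₁, hK' hk₁⟩ : Subgroup.normalizer (KP : Set G)) * ⟨a₀, ha'⟩,
        (⟨k₂, hK' hk₂⟩ : Subgroup.normalizer (KP : Set G)) * ⟨b₀, hb'⟩⁆ =
        f ⁅(⟨a₀, ha'⟩ : Subgroup.normalizer (KP : Set G)), ⟨b₀, hb'⟩⁆ := by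
      have e1 : f ⟨k₁, hK' hk₁⟩ = 1 := (QuotientGroup.eq_one_iff _).2 (Subgroup.mem_subgroupOf.2 hk₁)
      have e2 : f ⟨k₂, hK' hk₂⟩ = 1 := (QuotientGroup.eq_one_iff _).2 (Subgroup.mem_subgroupOf.2 hk₂)
      rw [map_commutatorElement, map_commutatorElement, map_mul, map_mul, e1, e2, one_mul, one_mul]
    have h2 : ⁅k₁ * a₀, k₂ * b₀⁆ * ⁅a₀, b₀⁆⁻¹ ∈ KP := by
      have h3 := (QuotientGroup.eq_one_iff (N := KP.subgroupOf (Subgroup.normalizer (KP : Set G))) _).1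
        (show f (⁅(⟨k₁, hK' hk₁⟩ : Subgroup.normalizer (KP : Set G)) * ⟨a₀, ha'⟩,
          (⟨k₂, hK' hk₂⟩ : Subgroup.normalizer (KP : Set G)) * ⟨b₀, hb'⟩⁆ *
            ⁅(⟨a₀, ha'⟩ : Subgroup.normalizer (KP : Set G)), ⟨b₀, hb'⟩⁆⁻¹) = 1 by
          rw [map_mul, map_inv, h1, mul_inv_cancel])
      simpa [commutatorElement_def] using Subgroup.mem_subgroupOf.1 h3
    have h4 := Subgroup.mul_mem_sup h2 (Subgroup.commutator_mem_commutator ha₀ hb₀)
    rwa [inv_mul_cancel_right] at h4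
  rintro x ⟨hxP, hxN⟩
  obtain ⟨k, hk, y, hy, rfl⟩ := CfsgLib.Solvable.exists_mul_of_mem_sup
    ((hDN₀.trans inf_le_left).trans hNK) (hcomm hxN)
  have hxN₀ : k * y ∈ N₀ := ⟨Subgroup.le_normalizer hxP, hQ.1.2.2 hxP⟩
  have hkN₀ : k ∈ N₀ := by simpa using mul_mem hxN₀ (inv_mem (hDN₀ hy))
  suffices hkD : k ∈ D from Subgroup.commutator_mono inf_le_right inf_le_right (mul_mem hkD hy)
  have hn : (D.subgroupOf N₀).Normal := by
    rw [hD, ← Subgroup.map_subtype_commutator N₀, Subgroup.subgroupOf,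
      Subgroup.comap_map_eq_self_of_injective N₀.subtype_injective]
    infer_instance
  let φ := QuotientGroup.mk' (D.subgroupOf N₀)
  have e : φ ⟨k * y, hxN₀⟩ = φ ⟨k, hkN₀⟩ := by
    rw [show (⟨k * y, hxN₀⟩ : N₀) = ⟨k, hkN₀⟩ * ⟨y, hDN₀ hy⟩ from rfl, map_mul,
      show φ ⟨y, hDN₀ hy⟩ = 1 from (QuotientGroup.eq_one_iff _).2 (Subgroup.mem_subgroupOf.2 hy), mul_one]
  have ho1 : orderOf (φ ⟨k, hkN₀⟩) ∣ Nat.card P := by
    rw [← e]
    refine (orderOf_map_dvd φ _).trans ?_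
    rw [Subgroup.orderOf_mk, ← Subgroup.orderOf_mk _ hxP]
    exact orderOf_dvd_natCard _
  have ho2 : orderOf (φ ⟨k, hkN₀⟩) ∣ Nat.card KP := by
    refine (orderOf_map_dvd φ _).trans ?_
    rw [Subgroup.orderOf_mk, ← Subgroup.orderOf_mk _ hk]
    exact orderOf_dvd_natCard _
  have h1 : φ ⟨k, hkN₀⟩ = 1 := orderOf_eq_one_iff.1 (Nat.eq_one_of_dvd_coprimes
    (Nat.coprime_of_dvd fun r hr hrP hrK =>
      (CfsgLib.PStab.prime_mem_of_dvd_piCoreOf r hr hrK).2 (hPπ r hr hrP)) ho1 ho2)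
  exact Subgroup.mem_subgroupOf.1 ((QuotientGroup.eq_one_iff _).1 h1)

end Cfsg.Agent.S1395
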