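import Cfsg.Statements.S1396
import Cfsg.Agent.Lib.PStab.Transitivity
import Cfsg.Agent.Lib.Cores.Balance
import Cfsg.Agent.Lib.Fusion.GroupSystem

set_option autoImplicit false
open Cfsg

namespace Cfsg.Agent.S1396

/-- Let G be a minimal simple group of odd order, p a prime dividing the order of G and A an abelian p-subgroup. Suppose either (1) A consists exactly of the elements x of C_G(A) with x^p = 1, and every proper subgroup of G has p-length at most one, or (2) A is normal and self-centralizing in some Sylow p-subgroup of G and has rank at least 2. Then A satisfies the transitivity hypothesis. -/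
theorem result {G : Type*} [Group G] [Finite G] (hG : Cfsg.IsMinSimpleOddOrder G)
    (p : ℕ) [Fact p.Prime] (hp : p ∣ Nat.card G) (A : Subgroup G) (hAp : IsPGroup p A) (hAc : IsMulCommutative A)
    (h : (∀ x ∈ Subgroup.centralizer (A : Set G), x ^ p = 1 ↔ x ∈ A) ∧ (∀ H : Subgroup G, H ≠ ⊤ → Cfsg.PLengthLE p 1 H) ∨
      ∃ P : Sylow p G, Cfsg.IsSCN (P : Subgroup G) A ∧ ¬ Cfsg.PRankLE p 1 A) :
    Cfsg.TransitivityHypothesis A := by
  have hodd : Odd (Nat.card G) := hG.1
  have hp2 : p ≠ 2 := by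
    rintro rfl
    exact Nat.not_even_iff_odd.2 hodd (even_iff_two_dvd.2 hp)
  have hncomm : ¬ IsMulCommutative G := hG.2.2.1
  have hA1 : A ≠ ⊥ := by
    rintro rfl
    rcases h with ⟨h1, -⟩ | ⟨P, -, hP⟩
    · obtain ⟨x, hx⟩ := exists_prime_orderOf_dvd_card' p hp
      have := (h1 x (Subgroup.mem_centralizer_iff.2 fun y hy => by
        rw [Subgroup.mem_bot.1 hy, one_mul, mul_one])).1 (hx ▸ pow_orderOf_eq_one x)
      rw [Subgroup.mem_bot.1 this, orderOf_one] at hx
      exact (Fact.out : p.Prime).ne_one hx.symm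
    · refine hP fun B _ _ => ?_
      refine (Subgroup.card_le_card_group B).trans ?_
      rw [Subgroup.card_bot, pow_one]
      exact (Fact.out : p.Prime).one_le
  have hAtop : A ≠ ⊤ := fun he => hncomm ⟨⟨fun a b =>
    congrArg Subtype.val (hAc.is_comm.comm (⟨a, he ▸ Subgroup.mem_top a⟩ : A) ⟨b, he ▸ Subgroup.mem_top b⟩)⟩⟩
  -- `A` contains the elements of order `p` of its centralizer
  have hfull : ∀ x ∈ Subgroup.centralizer (A : Set G), x ^ p = 1 → x ∈ A := by
    intro x hx hxp
    rcases h with ⟨h1, -⟩ | ⟨P, ⟨hAP, hPN, hPA⟩, -⟩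
    · exact (h1 x hx).1 hxp
    · have hCN : Subgroup.centralizer (A : Set G) ≤ Subgroup.normalizer (A : Set G) :=
        Subgroup.centralizer_le_normalizer _
      have hi : ¬ p ∣ A.relIndex (Subgroup.centralizer (A : Set G)) := by
        conv in A.relIndex _ => arg 1; rw [← hPA]
        refine CfsgLib.Fusion.not_dvd_relIndex_inf P.2 hPN ?_ hCN
          (CfsgLib.Solvable.normalizer_le_normalizer_centralizer A)
        exact fun hd => P.not_dvd_index (hd.trans (Subgroup.relIndex_dvd_index_of_le hPN))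
      have hxP : IsPGroup p (Subgroup.zpowers x) := by
        rintro ⟨_, i, rfl⟩
        refine ⟨1, Subtype.ext ?_⟩
        show (x ^ i) ^ p ^ 1 = 1
        rw [pow_one, ← zpow_natCast, ← zpow_mul, mul_comm, zpow_mul, zpow_natCast, hxp, one_zpow]
      obtain ⟨c, hc, hcm⟩ := CfsgLib.Fusion.exists_conj_mem_of_le hxP hAp
        (Subgroup.zpowers_le.2 hx) (fun a ha => Subgroup.mem_centralizer_iff.2 fun b hb =>
          congrArg Subtype.val (hAc.is_comm.comm (⟨b, hb⟩ : A) ⟨a, ha⟩)) hi
      have h3 := hcm x (Subgroup.mem_zpowers x)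
      have h4 : c * (c * x * c⁻¹) = (c * x * c⁻¹) * c := (Subgroup.mem_centralizer_iff.1 hc _ h3).symm
      have h5 : c * x * c⁻¹ = x := by
        calc c * x * c⁻¹ = c⁻¹ * (c * (c * x * c⁻¹)) := by group
          _ = c⁻¹ * ((c * x * c⁻¹) * c) := by rw [h4]
          _ = x := by group
      rwa [h5] at h3
  obtain ⟨n, hn⟩ := IsPGroup.iff_card.1 hAp
  have hn0 : n ≠ 0 := fun h0 => hA1 (Subgroup.eq_bot_of_card_eq _ (by rw [hn, h0, pow_zero]))
  refine ⟨hA1, hAtop, fun X hX hAX => ?_⟩
  have : Group.IsSolvable X := hG.2.2.2 X hX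
  have hmem : ∀ r, r ∈ Cfsg.primesNotDvd (Nat.card A) ↔ r.Prime ∧ r ≠ p := fun r => by
    rw [hn]; exact CfsgLib.PStab.primesNotDvd_pow hn0 r
  refine le_antisymm (sSup_le ?_) (le_sSup ⟨Subgroup.map_subtype_le _, ?_, ?_⟩)
  · rintro Y ⟨hYX, hYπ, hAY⟩
    have hY : (Nat.card Y).Coprime p := (CfsgLib.Cores.coprime_iff_not_dvd Fact.out _).2 fun hd =>
      ((hmem p).1 (hYπ p Fact.out hd)).2 rfl
    have hle : Y.subgroupOf X ≤ Cfsg.pPrimeCore p X := by
      refine CfsgLib.PStab.le_pPrimeCore_of_omega hp2 CfsgLib.Cores.isPConstrained_of_isSolvable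
        (E := A.subgroupOf X) (hAp.of_equiv (Subgroup.subgroupOfEquivOfLe hAX).symm) ?_ ?_ ?_
      · intro x hx hxp
        exact hfull _ (Subgroup.mem_centralizer_iff.2 fun a ha =>
          congrArg Subtype.val (Subgroup.mem_centralizer_iff.1 hx ⟨a, hAX ha⟩ ha)) (congrArg Subtype.val hxp)
      · rwa [Nat.card_congr (Subgroup.subgroupOfEquivOfLe hYX).toEquiv]
      · intro a ha
        rw [Subgroup.mem_normalizer_iff]
        intro d
        simp only [Subgroup.mem_subgroupOf, Subgroup.coe_mul, Subgroup.coe_inv]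
        exact Subgroup.mem_normalizer_iff.1 (hAY ha) (d : G)
    rw [← Subgroup.map_subgroupOf_eq_of_le hYX]
    refine Subgroup.map_mono (hle.trans (le_sSup ⟨inferInstance, fun r hr hd => (hmem r).2 ⟨hr, ?_⟩⟩))
    rintro rfl
    exact CfsgLib.Cores.not_dvd_card_pPrimeCore (G := X) r hd
  · intro r hr hd
    refine CfsgLib.PStab.prime_mem_of_dvd_piCore (G := X) _ r hr ?_
    unfold Cfsg.piCoreOf at hd
    rwa [Subgroup.card_map_of_injective X.subtype_injective] at hd
  · refine CfsgLib.Solvable.le_normalizer_of_conj_mem ?_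
    rintro a ha _ ⟨y, hy, rfl⟩
    exact ⟨⟨a, hAX ha⟩ * y * ⟨a, hAX ha⟩⁻¹, Subgroup.Normal.conj_mem inferInstance y hy _, rfl⟩

end Cfsg.Agent.S1396
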