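import Cfsg.Statements.S1524
import Cfsg.Agent.Lib.OddChar.TICoherent

set_option autoImplicit false
open Cfsg

namespace Cfsg.Agent.S1524

/-- Let G be a finite group and H ≤ L subgroups with L of odd order, H ≠ ⊥ nilpotent and normal in L with a nontrivial complement W₁ in L (H ⊓ W₁ = ⊥, H ⊔ W₁ = L) acting on H without non-identity fixed points (L is a Frobenius group with kernel H), and suppose the underlying set of H is a TI-subset of G whose normaliser is L. Let S be the set of functions on L induced from the non-principal irreducible characters of H. Then (S, L minus 1, induction to G) is coherent. -/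
theorem result {G : Type*} [Group G] [Fintype G] (H L W₁ : Subgroup G) [Fintype L] (hodd : Odd (Nat.card L)) (hHL : H ≤ L) (hW₁L : W₁ ≤ L) (hH1 : H ≠ ⊥) (hW1 : W₁ ≠ ⊥) (hnil : Group.IsNilpotent H) (hHn : ∀ x ∈ L, ∀ h ∈ H, x * h * x⁻¹ ∈ H) (hinf : H ⊓ W₁ = ⊥) (hsup : H ⊔ W₁ = L) (hfpf : ∀ w ∈ W₁, w ≠ 1 → ∀ h ∈ H, w * h = h * w → h = 1) (hTI : Cfsg.IsTISubset (H : Set G)) (hN : Subgroup.normalizer (H : Set G) = L) : Cfsg.IsCoherent (Cfsg.inducedIrrAbove (H.subgroupOf L) ⊥) {1}ᶜ (fun α : L → ℂ => Cfsg.indFun L α) := by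
  have hn : (H.subgroupOf L).Normal :=
    ⟨fun a ha g => hHn g g.2 a ha⟩
  have e := Subgroup.subgroupOfEquivOfLe hHL
  have hnt : H.subgroupOf L ≠ ⊥ := fun h => hH1 (by
    rw [Subgroup.subgroupOf_eq_bot, disjoint_iff, inf_eq_left.mpr hHL] at h; exact h)
  have hlt : H.subgroupOf L < ⊤ := lt_top_iff_ne_top.mpr fun h => hW1 (le_bot_iff.mp
    (hinf ▸ le_inf (hW₁L.trans (Subgroup.subgroupOf_eq_top.mp h)) le_rfl))
  exact CfsgLib.OddChar.Above.coherent_TI H L hodd
    (CfsgLib.OddChar.Above.centralizer_le_of_fpf H L W₁ hHL hHn hsup hfpf) hnt hlt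
    (Group.nilpotent_of_surjective e.symm.toMonoidHom e.symm.surjective) hHL hN hTI

end Cfsg.Agent.S1524
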