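import Cfsg.Statements.S1442
-- import your own Cfsg.Agent.* helpers here

set_option autoImplicit false
open Cfsg
open scoped commutatorElement

namespace Cfsg.Agent.S1442

/-- Let G be a finite group, H a nilpotent subgroup and A a subgroup normalizing H with the orders of A and H coprime. Put C = H ∩ C_G(A). If H ∩ C_G(C) ≤ C then A centralizes H. -/
theorem result {G : Type*} [Group G] [Finite G] (H A : Subgroup G) (hH : Group.IsNilpotent H) (hA : (A ≤ Subgroup.normalizer (H : Set G))) (hcop : (Nat.card A).Coprime (Nat.card H))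
    (hC : H ⊓ Subgroup.centralizer (((H ⊓ Subgroup.centralizer (A : Set G)) : Subgroup G) : Set G) ≤ (H ⊓ Subgroup.centralizer (A : Set G))) :
    A ≤ Subgroup.centralizer (H : Set G) := by
  set C := H ⊓ Subgroup.centralizer (A : Set G) with hCdef
  suffices hHC : H ≤ C from Subgroup.le_centralizer_iff.1 (hHC.trans inf_le_right)
  by_contra hne
  have hCH : C ≤ H := inf_le_left
  have hCA : ⁅C, A⁆ = ⊥ := Subgroup.commutator_eq_bot_iff_le_centralizer.2 inf_le_right
  -- the normalizer of C in H grows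
  have hgrow : C.subgroupOf H < Subgroup.normalizer ((C.subgroupOf H : Subgroup H) : Set H) := by
    refine Group.normalizerCondition_of_isNilpotent (h := hH) _ (lt_top_iff_ne_top.2 fun h => hne ?_)
    exact Subgroup.subgroupOf_eq_top.1 h
  obtain ⟨x, hxN, hxC⟩ := SetLike.exists_of_lt hgrow
  set N := H ⊓ Subgroup.normalizer (C : Set G) with hN
  have hxN' : (x : G) ∈ N := by
    refine ⟨x.2, Subgroup.mem_normalizer_iff.2 fun y => ?_⟩
    constructor
    · intro hy
      have := (Subgroup.mem_normalizer_iff.1 hxN ⟨y, hCH hy⟩).1 (Subgroup.mem_subgroupOf.2 hy)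
      simpa [Subgroup.mem_subgroupOf] using this
    · intro hy
      have hyH : y ∈ H := by
        have h1 := mul_mem (mul_mem (inv_mem x.2) (hCH hy)) x.2
        simpa [mul_assoc] using h1
      exact Subgroup.mem_subgroupOf.1 ((Subgroup.mem_normalizer_iff.1 hxN ⟨y, hyH⟩).2
        (Subgroup.mem_subgroupOf.2 (by simpa using hy)))
  have h1 : ⁅N, C⁆ ≤ C := by
    rw [← Subgroup.le_normalizer_iff_commutator_le_right]; exact inf_le_right
  have h2 : ⁅⁅N, C⁆, A⁆ = ⊥ := le_bot_iff.1 (hCA ▸ Subgroup.commutator_mono h1 le_rfl)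
  have h3 : ⁅⁅C, A⁆, N⁆ = ⊥ := by
    rw [hCA]; exact le_bot_iff.1 (Subgroup.commutator_bot_left _).le
  have h4 : ⁅⁅A, N⁆, C⁆ = ⊥ := Subgroup.commutator_commutator_eq_bot_of_rotate h2 h3
  have h5 : ⁅A, N⁆ ≤ C := by
    refine le_trans (le_inf ?_ (Subgroup.commutator_eq_bot_iff_le_centralizer.1 h4)) hC
    exact (Subgroup.commutator_mono le_rfl inf_le_left).trans
      (Subgroup.le_normalizer_iff_commutator_le_right.1 hA)
  refine hxC (Subgroup.mem_subgroupOf.2 ⟨x.2, Subgroup.mem_centralizer_iff.2 fun a ha => ?_⟩)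
  set z := ⁅a, (x : G)⁆ with hz
  have hzC : z ∈ C := h5 (Subgroup.commutator_mem_commutator ha hxN')
  have haz : a * z = z * a := Subgroup.mem_centralizer_iff.1 hzC.2 a ha
  have h6 : ∀ m : ℕ, a ^ m * x * (a ^ m)⁻¹ = z ^ m * x := by
    intro m
    induction m with
    | zero => simp
    | succ m ihm =>
      have e1 : a * z ^ m * a⁻¹ = z ^ m := by
        rw [← conj_pow, show a * z * a⁻¹ = z by rw [haz]; group]
      have e2 : a * x * a⁻¹ = z * x := by rw [hz, commutatorElement_def]; group
      calc a ^ (m + 1) * x * (a ^ (m + 1))⁻¹ = a * (a ^ m * x * (a ^ m)⁻¹) * a⁻¹ := by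
            rw [pow_succ']; group
        _ = (a * z ^ m * a⁻¹) * (a * x * a⁻¹) := by rw [ihm]; group
        _ = z ^ (m + 1) * x := by rw [e1, e2, pow_succ, mul_assoc]
  have h7 : z ^ orderOf a = 1 := by
    have := h6 (orderOf a)
    rw [pow_orderOf_eq_one] at this
    simpa using this.symm
  have h8 : orderOf z = 1 := Nat.eq_one_of_dvd_coprimes
    (hcop.coprime_dvd_left (Subgroup.orderOf_dvd_natCard A ha)) (orderOf_dvd_of_pow_eq_one h7)
    (Subgroup.orderOf_dvd_natCard H hzC.1)
  rw [orderOf_eq_one_iff, hz, commutatorElement_eq_one_iff_mul_comm] at h8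
  exact h8

end Cfsg.Agent.S1442
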