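import Cfsg.Statements.S1394
import Cfsg.Agent.Lib.PStab.TransHyp

set_option autoImplicit false
open Cfsg

namespace Cfsg.Agent.S1394

/-- Let G be a minimal simple group of odd order, A a subgroup satisfying the transitivity hypothesis whose centre has rank at least 2, K = O_{π(A)'}(C_G(A)), and q a prime dividing the order of C_G(A) but not that of A. Then any two maximal A-invariant q-subgroups of G are conjugate by an element of K. -/
theorem result {G : Type*} [Group G] [Finite G] (hG : Cfsg.IsMinSimpleOddOrder G)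
    (A : Subgroup G) (hA : Cfsg.TransitivityHypothesis A) (hZ : ¬ Cfsg.RankLE 1 ↥(A ⊓ Subgroup.centralizer (A : Set G)))
    (q : ℕ) (hq : q.Prime) (hqA : ¬ q ∣ Nat.card A) (hqC : q ∣ Nat.card (Subgroup.centralizer (A : Set G))) :
    ∀ Q₁ ∈ Cfsg.maxInvSubgroups ⊤ A {q}, ∀ Q₂ ∈ Cfsg.maxInvSubgroups ⊤ A {q}, ∃ k ∈ Cfsg.piCoreOf (Cfsg.primesNotDvd (Nat.card A)) (Subgroup.centralizer (A : Set G)), Q₂ = Q₁.map (MulAut.conj k).toMonoidHom := by
  obtain ⟨r, hr, B, hB, hB2, hBA, hBC, hrA⟩ := CfsgLib.PStab.exists_elementary_of_not_rankLE hZ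
  have : Fact r.Prime := ⟨hr⟩
  have : Fact q.Prime := ⟨hq⟩
  have hqr : q ≠ r := fun h => hqA (h ▸ hrA)
  obtain ⟨⟨x, hxC⟩, hx⟩ := exists_prime_orderOf_dvd_card' q hqC
  rw [Subgroup.orderOf_mk] at hx
  set R := Subgroup.zpowers x with hR
  have hRinv : R ∈ Cfsg.invSubgroups ⊤ A {q} := by
    refine ⟨le_top, fun s hs hd => ?_, fun a ha => CfsgLib.Solvable.mem_normalizer_of_conj_mem fun y hy => ?_⟩
    · rw [hR, Nat.card_zpowers, hx] at hd
      exact (Nat.prime_dvd_prime_iff_eq hs hq).1 hd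
    · rwa [Subgroup.mem_centralizer_iff.1 ((Subgroup.zpowers_le.2 hxC : R ≤ _) hy) a ha, mul_inv_cancel_right]
  have hR0 : R ≠ ⊥ := by
    rw [hR, Ne, Subgroup.zpowers_eq_bot]
    rintro rfl
    exact hq.ne_one (hx ▸ orderOf_one)
  obtain ⟨Q₃, h₃, hle⟩ := CfsgLib.PStab.exists_maxInvSubgroup_ge hRinv
  have key : ∀ Q ∈ Cfsg.maxInvSubgroups ⊤ A {q}, CfsgLib.PStab.KConj A Q Q₃ := by
    intro Q hQ
    have hQp : IsPGroup q Q := CfsgLib.PStab.isPGroup_iff_primes.2 hQ.1.2.1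
    obtain ⟨b, hb, hb1, hne⟩ : ∃ b ∈ B, b ≠ 1 ∧ Subgroup.centralizer ({b} : Set G) ⊓ Q ≠ ⊥ := by
      by_contra hall
      push Not at hall
      have hQbot : Q ≤ ⊥ := CfsgLib.Signalizer.le_of_fixed hB hB2 (U := Q) (fun hd => hqr
        ((Set.mem_singleton_iff.1 (hQ.1.2.1 r hr hd)).symm)) (hBA.trans hQ.1.2.2)
        fun b hb hb1 => (inf_comm Q _).le.trans (hall b hb hb1).le
      exact hR0 ((hQ.2 R hRinv (hQbot.trans bot_le)).trans (le_bot_iff.1 hQbot))
    refine CfsgLib.PStab.kconj_of_common_overgroup hG hA hq hqA hQ h₃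
      (CfsgLib.PStab.centralizer_ne_top_of_minSimple hG hb1) (hBC b hb) hne fun h => hR0 ?_
    refine le_bot_iff.1 ((le_inf ?_ hle).trans h.le)
    exact Subgroup.zpowers_le.2 (Subgroup.mem_centralizer_singleton_iff.2
      (Subgroup.mem_centralizer_iff.1 hxC b (hBA hb)).symm)
  exact fun Q₁ h₁ Q₂ h₂ => (key Q₁ h₁).trans (key Q₂ h₂).symm

end Cfsg.Agent.S1394
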