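import Cfsg.Statements.S1457
import Cfsg.Agent.Lib.PStab.Stable
import Cfsg.Agent.Lib.Cores.PConstrained
import Cfsg.Agent.Lib.Cores.Balance

set_option autoImplicit false
open Cfsg
open scoped commutatorElement

namespace Cfsg.Agent.S1457

/-- Let G be a solvable group of odd order, p a prime, S a Sylow p-subgroup of G and A an abelian subgroup of S normal in S. Then A ≤ O_{p',p}(G). -/
theorem result {G : Type*} [Group G] [Finite G] [Group.IsSolvable G] (hodd : Odd (Nat.card G)) (p : ℕ) [Fact p.Prime] (S : Sylow p G) (A : Subgroup G) (hA : A ≤ (S : Subgroup G)) (hAc : IsMulCommutative A)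
    (hAn : (S : Subgroup G) ≤ Subgroup.normalizer (A : Set G)) :
    A ≤ Cfsg.pPrimePCore p G := by
  set π := QuotientGroup.mk' (Cfsg.pPrimeCore p G) with hπ
  set P := Cfsg.pCore p (G ⧸ Cfsg.pPrimeCore p G) with hP
  have hPp : IsPGroup p P := CfsgLib.Cores.isPGroup_pCore p
  have hC : Subgroup.centralizer (P : Set (G ⧸ Cfsg.pPrimeCore p G)) ≤ P :=
    CfsgLib.Cores.isPConstrained_iff.1 CfsgLib.Cores.isPConstrained_of_isSolvable
  have hodd' : Odd (Nat.card (G ⧸ Cfsg.pPrimeCore p G)) :=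
    hodd.of_dvd_nat (Subgroup.card_quotient_dvd_card _)
  intro a ha
  show π a ∈ P
  have htop : Subgroup.normalizer (P : Set (G ⧸ Cfsg.pPrimeCore p G)) = ⊤ :=
    Subgroup.normalizer_eq_top_iff.2 inferInstance
  let Sb := S.mapSurjective (QuotientGroup.mk'_surjective (Cfsg.pPrimeCore p G))
  have hquad : CfsgLib.PStab.IsQuad P (π a) := by
    intro x hx
    obtain ⟨s, hs, rfl⟩ : x ∈ (S : Subgroup G).map π := by
      rw [← Sylow.coe_mapSurjective (QuotientGroup.mk'_surjective (Cfsg.pPrimeCore p G))]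
      exact CfsgLib.Cores.pCore_le_sylow Sb hx
    rw [← map_commutatorElement, ← map_commutatorElement,
      commutatorElement_eq_one_iff_mul_comm.2 (show ⁅s, a⁆ * a = a * ⁅s, a⁆ from ?_), map_one]
    have h1 : ⁅s, a⁆ ∈ A := by
      rw [commutatorElement_def]
      exact mul_mem ((Subgroup.mem_normalizer_iff.1 (hAn hs) a).1 ha) (inv_mem ha)
    exact congrArg Subtype.val (hAc.is_comm.comm (⟨_, h1⟩ : A) ⟨a, ha⟩)
  obtain ⟨K, -, hNK, haK, hK⟩ := CfsgLib.PStab.stableAll_of_odd hodd' P hPp (π a) (htop ▸ Subgroup.mem_top _) hquad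
  rw [htop, top_le_iff, Subgroup.normalizer_eq_top_iff] at hNK
  refine CfsgLib.Cores.le_pCore (N := K) ?_ haK
  rintro ⟨k, hk⟩
  obtain ⟨n, hn⟩ := hK k hk
  obtain ⟨m, hm⟩ := hPp ⟨_, hC hn⟩
  exact ⟨n + m, Subtype.ext (by rw [Subgroup.coe_pow, pow_add, pow_mul]; exact congrArg Subtype.val hm)⟩

end Cfsg.Agent.S1457
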