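import Cfsg.Statements.S1443
import Cfsg.Agent.Lib.Components.OmegaFixed

set_option autoImplicit false
open Cfsg

namespace Cfsg.Agent.S1443

/-- Let G be a finite group, p an odd prime, H a p-subgroup, E an elementary abelian subgroup of H, and A a subgroup of order coprime to p normalizing H. If A centralizes every element of order p in H ∩ C_G(E), then A centralizes H. -/
theorem result {G : Type*} [Group G] [Finite G] (p : ℕ) [Fact p.Prime] (hp : p ≠ 2) (H E A : Subgroup G) (hH : IsPGroup p H) (hE : E ≤ H) (hEe : Cfsg.IsElementaryAbelian p E)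
    (hA : (A ≤ Subgroup.normalizer (H : Set G))) (hcop : (Nat.card A).Coprime p)
    (hfix : ∀ x ∈ (H ⊓ Subgroup.centralizer (E : Set G)), orderOf x = p → A ≤ Subgroup.centralizer ({x} : Set G)) :
    A ≤ Subgroup.centralizer (H : Set G) := by
  have hord : ∀ v : G, v ^ p = 1 → v ≠ 1 → orderOf v = p := fun v hv hv1 =>
    orderOf_eq_prime hv hv1
  have hcomm : ∀ v ∈ H, v ^ p = 1 → v ∈ Subgroup.centralizer (E : Set G) → v ∈ Subgroup.centralizer (A : Set G) := by
    intro v hv hvp hvC
    rcases eq_or_ne v 1 with rfl | hv1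
    · exact one_mem _
    · refine Subgroup.mem_centralizer_iff.2 fun a ha => ?_
      exact Subgroup.mem_centralizer_singleton_iff.1 (hfix v ⟨hv, hvC⟩ (hord v hvp hv1) ha)
  have hEA : E ≤ Subgroup.centralizer (A : Set G) := fun e he =>
    hcomm e (hE he) (hEe.2 e he) (Subgroup.mem_centralizer_iff.2 fun x hx =>
      congrArg Subtype.val (hEe.1.is_comm.comm (⟨x, hx⟩ : E) ⟨e, he⟩))
  exact CfsgLib.Components.commute_of_fixed_omega hp hH hcop (hH.to_le hE) hA (hE.trans Subgroup.le_normalizer)
    (hEA.trans (Subgroup.centralizer_le_normalizer _)) hcomm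

end Cfsg.Agent.S1443
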