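import Cfsg.Statements.S1469
import Cfsg.Agent.Lib.PStab.Puig
import Cfsg.Agent.Lib.Cores.PConstrained

set_option autoImplicit false
open Cfsg

namespace Cfsg.Agent.S1469

/-- Let p be an odd prime, G a solvable group of odd order and S a Sylow p-subgroup, and let Z be the centre of the Puig subgroup L(S), viewed inside G. Then G is generated by O_{p'}(G) and N_G(Z); and if O_{p'}(G) = 1 then Z is normal in G. -/
theorem result {G : Type*} [Group G] [Finite G] [Group.IsSolvable G] (hodd : Odd (Nat.card G)) (p : ℕ) [Fact p.Prime] (hp : p ≠ 2) (S : Sylow p G) :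
    Cfsg.pPrimeCore p G ⊔ Subgroup.normalizer ((((Subgroup.center ↥(Cfsg.puigSubgroup ↥(S : Subgroup G))).map (Cfsg.puigSubgroup ↥(S : Subgroup G)).subtype).map (S : Subgroup G).subtype : Subgroup G) : Set G) = ⊤ ∧
      (Cfsg.pPrimeCore p G = ⊥ → (((Subgroup.center ↥(Cfsg.puigSubgroup ↥(S : Subgroup G))).map (Cfsg.puigSubgroup ↥(S : Subgroup G)).subtype).map (S : Subgroup G).subtype).Normal) := by
  rw [CfsgLib.PStab.Puig.center_puig_map_subtype]
  refine ⟨?_, fun hO => CfsgLib.PStab.Puig.pZ_normal hp hodd hO S⟩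
  set N := Cfsg.pPrimeCore p G with hN
  set π := QuotientGroup.mk' N with hπ
  set P := (S : Subgroup G) with hP
  set f := π.comp P.subtype with hf
  have hinj : Function.Injective f := by
    refine (injective_iff_map_eq_one f).2 fun x hx => ?_
    have hxN : (x : G) ∈ N := (QuotientGroup.eq_one_iff _).1 hx
    obtain ⟨k, hk⟩ := S.2 x
    have h1 : orderOf (x : G) ∣ p ^ k := orderOf_dvd_of_pow_eq_one (congrArg Subtype.val hk)
    have h2 : (orderOf (x : G)).Coprime p :=
      (CfsgLib.Cores.coprime_card_pPrimeCore (G := G) p).coprime_dvd_left (by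
        rw [← Subgroup.orderOf_mk _ hxN]; exact orderOf_dvd_natCard _)
    exact Subtype.ext (orderOf_eq_one_iff.1 (Nat.eq_one_of_dvd_coprimes (h2.pow_right k) dvd_rfl h1))
  let Sb := S.mapSurjective (QuotientGroup.mk'_surjective N)
  have hSb : (Sb : Subgroup (G ⧸ N)) = P.map π := Sylow.coe_mapSurjective _ S
  have hUp : (CfsgLib.PStab.Puig.pUp P).map π = CfsgLib.PStab.Puig.pUp (P.map π) := by
    rw [← CfsgLib.PStab.Puig.puigSubgroup_map_subtype, Subgroup.map_map,
      CfsgLib.PStab.Puig.puigSubgroup_map hinj, hf, ← Subgroup.map_map, CfsgLib.PStab.Puig.top_map_subtype]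
  have hZ : (CfsgLib.PStab.Puig.pZ P).map π = CfsgLib.PStab.Puig.pZ (P.map π) := by
    unfold CfsgLib.PStab.Puig.pZ
    rw [← hUp]
    refine le_antisymm ?_ ?_
    · rintro _ ⟨z, ⟨hz, hzc⟩, rfl⟩
      refine ⟨Subgroup.mem_map_of_mem π hz, Subgroup.mem_centralizer_iff.2 ?_⟩
      rintro _ ⟨y, hy, rfl⟩
      rw [← map_mul, ← map_mul, Subgroup.mem_centralizer_iff.1 hzc y hy]
    · rintro _ ⟨⟨z, hz, rfl⟩, hzc⟩
      refine ⟨z, ⟨hz, Subgroup.mem_centralizer_iff.2 fun y hy => ?_⟩, rfl⟩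
      have h := Subgroup.mem_centralizer_iff.1 hzc _ (Subgroup.mem_map_of_mem π hy)
      have hle := CfsgLib.PStab.Puig.pUp_le P
      exact congrArg Subtype.val (hinj (a₁ := (⟨y, hle hy⟩ : P) * ⟨z, hle hz⟩) (a₂ := ⟨z, hle hz⟩ * ⟨y, hle hy⟩)
        (by simpa [hf] using h))
  have hodd' : Odd (Nat.card (G ⧸ N)) := hodd.of_dvd_nat (Subgroup.card_quotient_dvd_card _)
  have hn : (CfsgLib.PStab.Puig.pZ (P.map π)).Normal :=
    hSb ▸ CfsgLib.PStab.Puig.pZ_normal hp hodd' (CfsgLib.Cores.pPrimeCore_quotient_self p) Sb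
  set Z := CfsgLib.PStab.Puig.pZ P with hZdef
  have hZp : IsPGroup p Z := S.2.to_le (inf_le_left.trans (CfsgLib.PStab.Puig.pUp_le P))
  have hmap := CfsgLib.Cores.map_mk'_normalizer_of_coprime (N := N) hZp (CfsgLib.Cores.coprime_card_pPrimeCore p)
  rw [hZ, Subgroup.normalizer_eq_top_iff.2 hn] at hmap
  have h := congrArg (Subgroup.comap π) hmap
  rwa [Subgroup.comap_map_eq, QuotientGroup.ker_mk', Subgroup.comap_top, sup_comm] at h

end Cfsg.Agent.S1469
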