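import Cfsg.Statements.S4337

set_option autoImplicit false
open Cfsg

namespace Cfsg.Agent.S4337

open scoped commutatorElement
set_option maxRecDepth 8000

def V4 : Subgroup (Equiv.Perm (Fin 4)) where
  carrier := {σ | σ * σ = 1 ∧ Equiv.Perm.sign σ = 1}
  one_mem' := ⟨by simp, by simp⟩
  mul_mem' := by
    intro a b ha hb
    revert a b
    decide
  inv_mem' := by
    intro a ha
    have : a⁻¹ = a := inv_eq_of_mul_eq_one_right ha.1
    rw [this]
    exact ha

theorem commutator_mem_V4 : ∀ a b : Equiv.Perm (Fin 4), Equiv.Perm.sign a = 1 → Equiv.Perm.sign b = 1 →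
    (a * b * a⁻¹ * b⁻¹) * (a * b * a⁻¹ * b⁻¹) = 1 := by decide

theorem V4_comm : ∀ a b : Equiv.Perm (Fin 4), a * a = 1 → Equiv.Perm.sign a = 1 → b * b = 1 →
    Equiv.Perm.sign b = 1 → a * b = b * a := by decide

theorem isSolvable_perm_four : Group.IsSolvable (Equiv.Perm (Fin 4)) := by
  have hA : Group.IsSolvable (alternatingGroup (Fin 4)) := by
    let W : Subgroup (alternatingGroup (Fin 4)) := V4.subgroupOf _
    have h1 : derivedSeries (alternatingGroup (Fin 4)) 1 ≤ W := by
      rw [derivedSeries_one, commutator_eq_closure, Subgroup.closure_le]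
      rintro x ⟨a, b, rfl⟩
      refine ⟨?_, ?_⟩
      · exact commutator_mem_V4 a b a.2 b.2
      · exact (⁅a, b⁆).2
    refine (Group.isSolvable_def _).2 ⟨2, ?_⟩
    rw [derivedSeries_succ, eq_bot_iff]
    refine (Subgroup.commutator_mono h1 h1).trans ?_
    rw [Subgroup.commutator_le]
    intro a ha b hb
    rw [Subgroup.mem_bot, commutatorElement_eq_one_iff_mul_comm]
    exact Subtype.ext (V4_comm a b ha.1 a.2 hb.1 b.2)
  refine Group.isSolvable_of_ker_le_range (alternatingGroup (Fin 4)).subtype Equiv.Perm.sign ?_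
  intro x hx
  exact ⟨⟨x, hx⟩, rfl⟩

theorem isSolvable_of_support {n : ℕ} (T : Finset (Fin n)) (hT : T.card ≤ 4)
    (S : Set (Equiv.Perm (Fin n))) (hS : ∀ σ ∈ S, σ.support ⊆ T) : Group.IsSolvable (Subgroup.closure S) := by
  have := isSolvable_perm_four
  obtain ⟨e⟩ : Nonempty ({x // x ∈ T} ↪ Fin 4) :=
    Function.Embedding.nonempty_of_card_le (by simpa using hT)
  have hP : Group.IsSolvable (Equiv.Perm {x // x ∈ T}) :=
    Group.isSolvable_of_isSolvable_injective (Equiv.Perm.viaEmbeddingHom_injective e)
  have hle : Subgroup.closure S ≤ (Equiv.Perm.ofSubtype : Equiv.Perm {x // x ∈ T} →* Equiv.Perm (Fin n)).range := by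
    rw [Subgroup.closure_le]
    intro σ hσ
    have h' : ∀ x, σ x ≠ x → x ∈ T := fun x hx => hS σ hσ (Equiv.Perm.mem_support.2 hx)
    refine ⟨Equiv.Perm.subtypePerm σ (fun x => ?_), Equiv.Perm.ofSubtype_subtypePerm _ h'⟩
    by_cases hx : σ x = x
    · rw [hx]
    · exact ⟨fun _ => h' x hx, fun _ => h' (σ x) (fun e => hx (σ.injective e))⟩
  have := Group.isSolvable_of_surjective (MonoidHom.rangeRestrict_surjective
    (Equiv.Perm.ofSubtype : Equiv.Perm {x // x ∈ T} →* Equiv.Perm (Fin n)))
  exact Group.isSolvable_of_isSolvable_injective (Subgroup.inclusion_injective hle)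

theorem isSolvable_of_commute {G : Type*} [Group G] (a b c : G) (hb : b * b = 1) (hc : c * c = 1)
    (hab : Commute a b) (hac : Commute a c) : Group.IsSolvable (Subgroup.closure ({a, b, c} : Set G)) := by
  set Z := Subgroup.zpowers (b * c) with hZ
  set H := Subgroup.closure ({a, b, c} : Set G) with hH
  have hbi : b⁻¹ = b := inv_eq_of_mul_eq_one_right hb
  have hci : c⁻¹ = c := inv_eq_of_mul_eq_one_right hc
  have hnorm : H ≤ Subgroup.normalizer (Z : Set G) := by
    rw [hH, Subgroup.closure_le]
    have key : ∀ g ∈ ({a, b, c} : Set G), g * (b * c) * g⁻¹ = b * c ∨ g * (b * c) * g⁻¹ = (b * c)⁻¹ := by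
      rintro g (rfl | rfl | rfl)
      · left
        rw [(hab.mul_right hac).eq, mul_inv_cancel_right]
      · right
        rw [mul_inv_rev, hbi, hci, ← mul_assoc, hb, one_mul]
      · right
        rw [mul_inv_rev, hbi, hci, mul_assoc, mul_assoc, hc, mul_one]
    intro g hg
    rw [SetLike.mem_coe, Subgroup.mem_normalizer_iff_map_conj_eq, hZ, MonoidHom.map_zpowers]
    rcases key g hg with e | e
    · exact congrArg Subgroup.zpowers e
    · exact (congrArg Subgroup.zpowers e).trans Subgroup.zpowers_inv
  have : (Z.subgroupOf H).Normal := Subgroup.normal_subgroupOf_of_le_normalizer hnorm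
  have hQ : ∀ x y : H ⧸ Z.subgroupOf H, x * y = y * x := by
    set π := QuotientGroup.mk' (Z.subgroupOf H)
    have ha' : a ∈ H := Subgroup.subset_closure (by simp)
    have hb' : b ∈ H := Subgroup.subset_closure (by simp)
    have hc' : c ∈ H := Subgroup.subset_closure (by simp)
    have hcb : π ⟨c, hc'⟩ = π ⟨b, hb'⟩ := by
      refine QuotientGroup.eq.2 ?_
      rw [Subgroup.mem_subgroupOf]
      change c⁻¹ * b ∈ Z
      rw [← hbi, ← mul_inv_rev]
      exact inv_mem (Subgroup.mem_zpowers _)
    have hgen : Subgroup.closure ({π ⟨a, ha'⟩, π ⟨b, hb'⟩} : Set (H ⧸ Z.subgroupOf H)) = ⊤ := by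
      rw [eq_top_iff]
      intro x _
      induction x using QuotientGroup.induction_on with | H x => ?_
      obtain ⟨x, hx⟩ := x
      rename_i hdummy
      clear hdummy
      induction hx using Subgroup.closure_induction with
      | mem y hy =>
        rcases hy with rfl | rfl | rfl
        · exact Subgroup.subset_closure (by left; rfl)
        · exact Subgroup.subset_closure (by right; rfl)
        · change π _ ∈ _
          rw [hcb]
          exact Subgroup.subset_closure (by right; rfl)
      | one => exact one_mem _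
      | mul y z _ _ ihy ihz => exact mul_mem ihy ihz
      | inv y _ ihy => exact inv_mem ihy
    intro x y
    have hcomm : IsMulCommutative (Subgroup.closure ({π ⟨a, ha'⟩, π ⟨b, hb'⟩} : Set (H ⧸ Z.subgroupOf H))) := by
      refine Subgroup.isMulCommutative_closure ?_
      have : π ⟨a, ha'⟩ * π ⟨b, hb'⟩ = π ⟨b, hb'⟩ * π ⟨a, ha'⟩ := by
        rw [← map_mul, ← map_mul]
        exact congrArg π (Subtype.ext hab.eq)
      rintro u (rfl | rfl) v (rfl | rfl)
      · rfl
      · exact this
      · exact this.symm
      · rfl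
    have h := hcomm.is_comm.comm ⟨x, hgen ▸ Subgroup.mem_top x⟩ ⟨y, hgen ▸ Subgroup.mem_top y⟩
    exact congrArg Subtype.val h
  have hQs : Group.IsSolvable (H ⧸ Z.subgroupOf H) := Group.isSolvable_of_comm hQ
  have hZs : Group.IsSolvable (Z.subgroupOf H) := by
    have hZc : Group.IsSolvable Z := Group.isSolvable_of_comm (fun x y => (Subgroup.zpowers_isMulCommutative _).is_comm.comm x y)
    exact Group.isSolvable_of_isSolvable_injective (f := ((H.subtype.comp (Z.subgroupOf H).subtype).codRestrict Z
      fun x => x.2)) fun x y e => Subtype.ext (Subtype.ext (congrArg (fun z : Z => (z : G)) e))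
  refine Group.isSolvable_of_ker_le_range (Z.subgroupOf H).subtype (QuotientGroup.mk' (Z.subgroupOf H)) ?_
  rw [QuotientGroup.ker_mk', Subgroup.range_subtype]


/-- In a finite symmetric group, any three transpositions generate a solvable subgroup. -/
theorem result (n : ℕ) (a b c : Equiv.Perm (Fin n))
    (ha : a.IsSwap) (hb : b.IsSwap) (hc : c.IsSwap) :
    Group.IsSolvable (Subgroup.closure ({a, b, c} : Set (Equiv.Perm (Fin n)))) := by
  have hsq : ∀ {σ : Equiv.Perm (Fin n)}, σ.IsSwap → σ * σ = 1 := by
    rintro σ ⟨x, y, -, rfl⟩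
    exact Equiv.swap_mul_self x y
  by_cases h1 : Disjoint a.support (b.support ∪ c.support)
  · rw [Finset.disjoint_union_right] at h1
    exact isSolvable_of_commute a b c (hsq hb) (hsq hc) (Equiv.Perm.disjoint_iff_disjoint_support.2 h1.1).commute
      (Equiv.Perm.disjoint_iff_disjoint_support.2 h1.2).commute
  by_cases h2 : Disjoint b.support (a.support ∪ c.support)
  · rw [Finset.disjoint_union_right] at h2
    rw [Set.insert_comm]
    exact isSolvable_of_commute b a c (hsq ha) (hsq hc) (Equiv.Perm.disjoint_iff_disjoint_support.2 h2.1).commute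
      (Equiv.Perm.disjoint_iff_disjoint_support.2 h2.2).commute
  by_cases h3 : Disjoint c.support (a.support ∪ b.support)
  · rw [Finset.disjoint_union_right] at h3
    rw [show ({a, b, c} : Set (Equiv.Perm (Fin n))) = {c, a, b} by ext; simp; tauto]
    exact isSolvable_of_commute c a b (hsq ha) (hsq hb) (Equiv.Perm.disjoint_iff_disjoint_support.2 h3.1).commute
      (Equiv.Perm.disjoint_iff_disjoint_support.2 h3.2).commute
  refine isSolvable_of_support (a.support ∪ b.support ∪ c.support) ?_ _ ?_
  · have ea := Equiv.Perm.card_support_eq_two.2 ha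
    have eb := Equiv.Perm.card_support_eq_two.2 hb
    have ec := Equiv.Perm.card_support_eq_two.2 hc
    have key : ∀ A B C : Finset (Fin n), A.card = 2 → B.card = 2 → C.card = 2 → ¬ Disjoint A B →
        ¬ Disjoint C (A ∪ B) → (A ∪ B ∪ C).card ≤ 4 := by
      intro A B C hA hB hC hAB hCAB
      rw [Finset.not_disjoint_iff_nonempty_inter, ← Finset.card_pos] at hAB hCAB
      have e1 := Finset.card_union_add_card_inter A B
      have e2 := Finset.card_union_add_card_inter (A ∪ B) C
      rw [Finset.inter_comm] at hCAB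
      omega
    by_cases hab : Disjoint a.support b.support
    · have hac : ¬ Disjoint a.support c.support := fun h => h1 (Finset.disjoint_union_right.2 ⟨hab, h⟩)
      have := key a.support c.support b.support ea ec eb hac h2
      rwa [Finset.union_right_comm]
    · exact key _ _ _ ea eb ec hab h3
  · rintro σ (rfl | rfl | rfl) x hx <;> simp [hx]

end Cfsg.Agent.S4337
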