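import Cfsg.Statements.S3780
import Cfsg.Agent.Lib.PGroup.Basic
import Mathlib

set_option autoImplicit false
open Cfsg

namespace Cfsg.Agent.S3780

open Polynomial in
/-- An endomorphism `a` with `a ^ p = 1` of a finite `ZMod p`-module has `|M| ≤ |C_M(a)| ^ p`. -/
theorem card_le_fix_pow {p : ℕ} [Fact p.Prime] {M : Type*} [AddCommGroup M] [Module (ZMod p) M] [Finite M]
    (β : M →+ M) (hβ : ∀ v, β^[p] v = v) (N : ℕ) (hN : Nat.card {v : M // β v = v} ≤ N) :
    Nat.card M ≤ N ^ p := by
  set a : Module.End (ZMod p) M := AddMonoidHom.toZModLinearMap p β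
  have ha : a ^ p = 1 := LinearMap.ext fun v => by
    rw [Module.End.pow_apply, Module.End.one_apply]
    exact hβ v
  have h : ((X : (ZMod p)[X]) - 1) ^ p = X ^ p - 1 := by rw [sub_pow_char, one_pow]
  have hnil : (a - 1) ^ p = 0 := by
    have := congrArg (Polynomial.aeval a) h
    simpa [ha] using this
  have hkerk : ∀ k : ℕ, Nat.card (LinearMap.ker ((a - 1) ^ k)) ≤ N ^ k := by
    intro k
    induction k with
    | zero => simp [Module.End.one_eq_id, LinearMap.ker_id]
    | succ k ih =>
      let g : LinearMap.ker ((a - 1) ^ (k + 1)) →+ LinearMap.ker ((a - 1) ^ k) :=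
        (((a - 1).comp (LinearMap.ker ((a - 1) ^ (k + 1))).subtype).codRestrict _ fun v => by
          obtain ⟨w, hw⟩ := v
          rw [LinearMap.mem_ker, pow_succ] at hw
          exact LinearMap.mem_ker.2 hw).toAddMonoidHom
      have h1 := AddSubgroup.card_mul_index g.ker
      rw [AddSubgroup.index_ker] at h1
      refine le_of_eq_of_le h1.symm ?_
      rw [pow_succ' N k]
      refine Nat.mul_le_mul ((Nat.card_le_card_of_injective
        (β := {v : M // β v = v}) (fun v => ⟨(v.1 : M), ?_⟩) ?_).trans hN) ?_
      · have h2 : a (v.1 : M) - v.1 = 0 := congrArg Subtype.val (AddMonoidHom.mem_ker.1 v.2)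
        exact sub_eq_zero.1 h2
      · intro v w h
        have h' : ((v.1 : LinearMap.ker ((a - 1) ^ (k + 1))) : M) = ((w.1 : LinearMap.ker ((a - 1) ^ (k + 1))) : M) :=
          congrArg (fun u : {v : M // β v = v} => (u : M)) h
        exact Subtype.ext (Subtype.ext h')
      · exact (Nat.card_le_card_of_injective _ Subtype.val_injective).trans ih
  refine le_trans ?_ (hkerk p)
  rw [hnil, LinearMap.ker_zero]
  exact le_of_eq (Nat.card_congr (Equiv.Set.univ _).symm)

/-- A finite group of exponent `p` of order at most `p ^ k` is generated by `k` elements. -/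
theorem exists_small_generators {Q : Type*} [Group Q] [Finite Q] {p : ℕ} [Fact p.Prime]
    (he : ∀ x : Q, x ^ p = 1) (k : ℕ) :
    ∃ S : Finset Q, S.card ≤ k ∧ (Subgroup.closure (S : Set Q) = ⊤ ∨ p ^ k ≤ Nat.card (Subgroup.closure (S : Set Q))) := by
  classical
  induction k with
  | zero => exact ⟨∅, le_rfl, Or.inr (by simp)⟩
  | succ k ih =>
    obtain ⟨S, hS, h⟩ := ih
    rcases h with h | h
    · exact ⟨S, hS.trans (Nat.le_succ k), Or.inl h⟩
    · by_cases htop : Subgroup.closure (S : Set Q) = ⊤
      · exact ⟨S, hS.trans (Nat.le_succ k), Or.inl htop⟩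
      · obtain ⟨x, -, hx⟩ := SetLike.exists_of_lt (lt_top_iff_ne_top.2 htop)
        refine ⟨insert x S, (Finset.card_insert_le _ _).trans (by omega), Or.inr ?_⟩
        have hp : IsPGroup p Q := fun y => ⟨1, by rw [pow_one, he]⟩
        have hle : Subgroup.closure (S : Set Q) ≤ Subgroup.closure ((insert x S : Finset Q) : Set Q) :=
          Subgroup.closure_mono (by simp)
        have hlt : Subgroup.closure (S : Set Q) < Subgroup.closure ((insert x S : Finset Q) : Set Q) :=
          lt_of_le_of_ne hle fun e => hx (e ▸ Subgroup.subset_closure (by simp))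
        obtain ⟨i, hi⟩ := IsPGroup.iff_card.1 (hp.to_subgroup (Subgroup.closure (S : Set Q)))
        obtain ⟨j, hj⟩ := IsPGroup.iff_card.1 (hp.to_subgroup (Subgroup.closure ((insert x S : Finset Q) : Set Q)))
        have h1 : p ^ i < p ^ j := by
          rw [← hi, ← hj]
          exact lt_of_le_of_ne (Subgroup.card_le_of_le hle) fun e => hlt.ne (Subgroup.eq_of_le_of_card_ge hle e.ge)
        have hij := (Nat.pow_lt_pow_iff_right (Fact.out : p.Prime).one_lt).1 h1
        rw [hi] at h
        rw [hj]
        have hki := (Nat.pow_le_pow_iff_right (Fact.out : p.Prime).one_lt).1 h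
        exact Nat.pow_le_pow_right (Fact.out : p.Prime).pos (by omega)

/-- Let V be a finite abelian p-group and α an automorphism of V of order p whose fixed-point subgroup has order p^n. Then V can be generated by pn elements: some subset of V with at most pn elements generates V. -/
theorem result {V : Type*} [CommGroup V] [Finite V] {p : ℕ} [Fact p.Prime] (hV : IsPGroup p V) (α : MulAut V) (hα : orderOf α = p) (n : ℕ) (hfix : Nat.card {v : V // α v = v} = p ^ n) : ∃ S : Finset V, S.card ≤ p * n ∧ Subgroup.closure (S : Set V) = ⊤ := by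
  classical
  have hp : p.Prime := Fact.out
  -- the subgroup of elements killed by `p`, as a module
  set Ω : Subgroup V := (powMonoidHom p : V →* V).ker
  have hΩ : ∀ v : Ω, (v : V) ^ p = 1 := fun v => v.2
  letI : Module (ZMod p) (Additive Ω) := AddCommGroup.zmodModule (fun x => by
    apply Additive.toMul.injective
    rw [toMul_nsmul, toMul_zero]
    exact Subtype.ext (by simpa using hΩ x.toMul))
  have hαΩ : ∀ v : Ω, α (v : V) ∈ Ω := fun v => by
    show (α (v : V)) ^ p = 1
    rw [← map_pow, hΩ v, map_one]
  let β : Additive Ω →+ Additive Ω :=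
    { toFun := fun v => Additive.ofMul ⟨α (v.toMul : V), hαΩ _⟩
      map_zero' := by apply Additive.toMul.injective; exact Subtype.ext (by simp)
      map_add' := fun x y => by apply Additive.toMul.injective; exact Subtype.ext (by simp) }
  have hit : ∀ (k : ℕ) (v : Additive Ω), ((β^[k] v).toMul : V) = (α ^ k : MulAut V) (v.toMul : V) := by
    intro k
    induction k with
    | zero => intro v; simp
    | succ k ih =>
      intro v
      rw [Function.iterate_succ_apply', pow_succ']
      show α ((β^[k] v).toMul : V) = _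
      rw [ih]
      rfl
  have hap : ∀ v, β^[p] v = v := fun v => by
    apply Additive.toMul.injective
    apply Subtype.ext
    conv_lhs => rw [hit, ← hα, pow_orderOf_eq_one]
    rfl
  have hΩcard : Nat.card Ω ≤ p ^ (p * n) := by
    rw [mul_comm, pow_mul, Nat.card_congr (Additive.ofMul (α := Ω))]
    refine card_le_fix_pow _ hap _ ?_
    rw [← hfix]
    refine Nat.card_le_card_of_injective (fun v => ⟨(v.1.toMul : V), ?_⟩) ?_
    · exact congrArg (fun w : Additive Ω => (w.toMul : V)) v.2
    · intro v w h
      exact Subtype.ext (Additive.toMul.injective (Subtype.ext (congrArg (fun u : {x : V // α x = x} => (u : V)) h)))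
  -- pass to the quotient by the `p`-th powers
  set R : Subgroup V := (powMonoidHom p : V →* V).range
  have hQ : Nat.card (V ⧸ R) = Nat.card Ω := by
    rw [← Subgroup.index_eq_card]
    have h1 := R.card_mul_index
    rw [← Subgroup.card_mul_index Ω, Subgroup.index_ker, mul_comm (Nat.card Ω)] at h1
    exact Nat.eq_of_mul_eq_mul_left Nat.card_pos h1
  have he : ∀ x : V ⧸ R, x ^ p = 1 := fun x => by
    induction x using QuotientGroup.induction_on with
    | _ v => exact (QuotientGroup.eq_one_iff _).2 ⟨v, rfl⟩
  obtain ⟨S, hS, h⟩ := exists_small_generators he (p * n)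
  have hStop : Subgroup.closure (S : Set (V ⧸ R)) = ⊤ := h.elim id fun h =>
    Subgroup.eq_top_of_le_card _ ((hQ.le.trans hΩcard).trans h)
  refine ⟨S.image Quotient.out, Finset.card_image_le.trans hS, ?_⟩
  refine CfsgLib.PGroup.eq_top_of_sup_frattini (top_le_iff.1 ?_)
  have hRΦ : R ≤ frattini V := by rintro _ ⟨v, rfl⟩; exact CfsgLib.PGroup.pow_mem_frattini hV v
  refine le_trans (le_of_eq ?_) (sup_le_sup_left hRΦ _)
  have hmap : (Subgroup.closure ((S.image Quotient.out : Finset V) : Set V)).map (QuotientGroup.mk' R) = ⊤ := by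
    rw [MonoidHom.map_closure, ← hStop]
    congr 1
    ext x
    simp
  have := congrArg (Subgroup.comap (QuotientGroup.mk' R)) hmap
  rw [Subgroup.comap_map_eq, QuotientGroup.ker_mk', Subgroup.comap_top] at this
  exact this.symm

end Cfsg.Agent.S3780
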