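import Cfsg.Statements.S3781
import Mathlib
import Cfsg.Agent.Lib.PGroup.Commutators

set_option autoImplicit false
open Cfsg

namespace Cfsg.Agent.S3781

/-- Let G be a finite p-group and n ≥ 1, and write γ_1(G) = G, γ_{k+1}(G) = [γ_k(G), G], and likewise γ_k(N) for a subgroup N. Let N be a normal subgroup of G contained in γ_n(G). If i > 1 and γ_{i+1}(N) ≠ 1, then |γ_i(N) : γ_{i+1}(N)| ≥ p^n. -/
theorem result {G : Type*} [Group G] [Finite G] {p : ℕ} [Fact p.Prime] (hG : IsPGroup p G) (n : ℕ) (hn : 1 ≤ n) (N : Subgroup G) [N.Normal] (hN : N ≤ (⊤ : Subgroup G).lowerCentralSeries (n - 1)) (i : ℕ) (hi : 1 < i) (hne : N.lowerCentralSeries i ≠ ⊥) : p ^ n ≤ (N.lowerCentralSeries i).relIndex (N.lowerCentralSeries (i - 1)) := by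
  classical
  have hp : p.Prime := Fact.out
  haveI := hG.isNilpotent
  obtain ⟨i, rfl⟩ : ∃ j, i = j + 1 := ⟨i - 1, by omega⟩
  rw [Nat.add_sub_cancel]
  have hnorm : ∀ j, (N.lowerCentralSeries j).Normal := by
    intro j
    induction j with
    | zero => simpa using ‹N.Normal›
    | succ j ih =>
      haveI := ih
      rw [Subgroup.lowerCentralSeries_succ]
      exact Subgroup.commutator_normal _ _
  haveI := hnorm i
  haveI := hnorm (i + 1)
  set M := N.lowerCentralSeries i with hM
  set L := N.lowerCentralSeries (i + 1) with hL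
  have hLM : L ≤ M := N.lowerCentralSeries_antitone (Nat.le_succ i)
  by_contra hcon
  apply hne
  -- below `p ^ n`, the section `M / L` dies under `n - 1` commutations with `G`
  have step : ∀ j ≤ n - 1, ∀ X : Subgroup G, X.Normal → L ≤ X →
      L.relIndex X < p ^ (j + 1) → (CfsgLib.PGroup.bracketTop^[j]) X ≤ L := by
    intro j
    induction j with
    | zero =>
      intro _ X _ hLX hidx
      obtain ⟨m, hm⟩ := (hG.to_subgroup X).index (L.subgroupOf X)
      rw [Subgroup.relIndex, hm] at hidx
      have hm0 : m = 0 := by have := (Nat.pow_lt_pow_iff_right hp.one_lt).1 hidx; omega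
      rw [hm0, pow_zero] at hm
      exact Subgroup.relIndex_eq_one.1 hm
    | succ j ih =>
      intro hj X hXn hLX hidx
      rw [Function.iterate_succ_apply]
      haveI := hXn
      have hbn : (CfsgLib.PGroup.bracketTop X).Normal := CfsgLib.PGroup.bracketTop_iterate_normal X 1
      by_cases hXL : X ≤ L
      · exact (CfsgLib.PGroup.bracketTop_iterate_mono
          ((Subgroup.commutator_le_left _ _).trans hXL) j).trans
          (Nat.rec (le_refl L) (fun k hk => by
            haveI := CfsgLib.PGroup.bracketTop_iterate_normal L k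
            rw [Function.iterate_succ_apply']
            exact (Subgroup.commutator_le_left _ _).trans hk) j)
      set Y := CfsgLib.PGroup.bracketTop X ⊔ L with hY
      have hYX : Y < X := lt_of_le_not_ge (sup_le (Subgroup.commutator_le_left _ _) hLX)
        (fun h => hXL (CfsgLib.PGroup.le_of_le_bracketTop_sup h))
      refine (CfsgLib.PGroup.bracketTop_iterate_mono le_sup_left j).trans
        (ih (by omega) Y (Subgroup.sup_normal _ _) le_sup_right ?_)
      obtain ⟨a, ha⟩ := (hG.to_subgroup Y).index (L.subgroupOf Y)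
      obtain ⟨b, hb⟩ := (hG.to_subgroup X).index (Y.subgroupOf X)
      have hmul := Subgroup.relIndex_mul_relIndex L Y X le_sup_right hYX.le
      rw [Subgroup.relIndex, Subgroup.relIndex, ha, hb] at hmul
      have hb0 : b ≠ 0 := fun h => by
        rw [h, pow_zero] at hb
        exact hYX.not_ge (Subgroup.relIndex_eq_one.1 hb)
      rw [← hmul, ← pow_add] at hidx
      rw [Subgroup.relIndex, ha]
      have := (Nat.pow_lt_pow_iff_right hp.one_lt).1 hidx
      exact Nat.pow_lt_pow_right hp.one_lt (by omega)
  have h1 : CfsgLib.PGroup.bracketTop^[n - 1] M ≤ L :=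
    step (n - 1) le_rfl M inferInstance hLM (by rw [Nat.sub_add_cancel hn]; omega)
  refine CfsgLib.PGroup.eq_bot_of_le_bracketTop ?_
  calc L = ⁅M, N⁆ := Subgroup.lowerCentralSeries_succ _ _
    _ ≤ ⁅M, (⊤ : Subgroup G).lowerCentralSeries (n - 1)⁆ := Subgroup.commutator_mono le_rfl hN
    _ ≤ CfsgLib.PGroup.bracketTop^[n - 1 + 1] M :=
      CfsgLib.PGroup.commutator_lowerCentralSeries_le _ _
    _ ≤ CfsgLib.PGroup.bracketTop L := by
      rw [Function.iterate_succ_apply']
      exact CfsgLib.PGroup.bracketTop_mono h1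

end Cfsg.Agent.S3781
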