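import Cfsg.Statements.S4066
import Cfsg.Agent.Lib.FGS.Basics

set_option autoImplicit false
open Cfsg

namespace Cfsg.Agent.S4066

/-- Let G be a finite group in which the centralizer of every element meets each of its conjugates by elements outside its normalizer trivially. Then any two distinct Sylow p-subgroups of G, for any prime p, intersect trivially. -/
theorem result {G : Type*} [Group G] [Finite G] (hTI : ∀ x : G, Cfsg.IsTISubset (Subgroup.centralizer ({x} : Set G) : Set G))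
    {p : ℕ} [Fact p.Prime] (P Q : Sylow p G) (hPQ : P ≠ Q) : (P : Subgroup G) ⊓ (Q : Subgroup G) = ⊥ := by
  classical
  have hN : ∀ x g z : G, z ∈ Subgroup.centralizer ({x} : Set G) →
      g * z * g⁻¹ ∈ Subgroup.centralizer ({x} : Set G) → z ≠ 1 →
      g ∈ Subgroup.normalizer ((Subgroup.centralizer ({x} : Set G) : Subgroup G) : Set G) := by
    intro x g z hz hgz hz1
    by_contra hg
    exact hz1 (hTI x g hg z hz hgz)
  -- the `p`-elements of the centraliser of a non-identity element form a subgroup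
  have hmain : ∀ x : G, x ≠ 1 → ∃ T : Subgroup G, IsPGroup p T ∧
      T ≤ Subgroup.centralizer ({x} : Set G) ∧
      ∀ w ∈ Subgroup.centralizer ({x} : Set G), (∃ k : ℕ, w ^ p ^ k = 1) → w ∈ T := by
    intro x hx
    set C := Subgroup.centralizer ({x} : Set G) with hC
    obtain ⟨T, -, ⟨hTp, hTC, hTn⟩, hTmax⟩ := Finite.exists_le_maximal
      (p := fun T : Subgroup G => IsPGroup p T ∧ T ≤ C ∧ ∀ c ∈ C, ∀ t ∈ T, c * t * c⁻¹ ∈ T)
      (a := (⊥ : Subgroup G))
      ⟨IsPGroup.of_bot, bot_le, fun c _ t ht => by rw [Subgroup.mem_bot] at ht ⊢; simp [ht]⟩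
    refine ⟨T, hTp, hTC, fun w hw hwp => ?_⟩
    set D := C ⊓ Subgroup.centralizer ({w} : Set G) with hD
    let K : Subgroup G :=
      { carrier := {z | z ∈ D ∧ (∀ t ∈ D, t * z = z * t) ∧ ∃ k : ℕ, z ^ p ^ k = 1}
        one_mem' := ⟨one_mem _, fun t _ => by simp, 0, by simp⟩
        mul_mem' := by
          rintro a b ⟨ha, ha', i, hi⟩ ⟨hb, hb', j, hj⟩
          refine ⟨mul_mem ha hb, fun t ht =>
            (Commute.mul_right (ha' t ht : Commute t a) (hb' t ht : Commute t b)).eq, i + j, ?_⟩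
          rw [Commute.mul_pow (hb' a ha), pow_add, pow_mul, hi, one_pow, one_mul, mul_comm (p ^ i),
            pow_mul, hj, one_pow]
        inv_mem' := by
          rintro a ⟨ha, ha', i, hi⟩
          exact ⟨inv_mem ha, fun t ht => (Commute.inv_right (ha' t ht : Commute t a)).eq, i,
            by rw [inv_pow, hi, inv_one]⟩ }
    have hKp : IsPGroup p K := fun z => by
      obtain ⟨k, hk⟩ := z.2.2.2
      exact ⟨k, Subtype.ext (by simpa using hk)⟩
    have hKn : ∀ c ∈ C, ∀ z ∈ K, c * z * c⁻¹ ∈ K := by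
      intro c hc z hz
      have hcw : c ∈ Subgroup.normalizer
          ((Subgroup.centralizer ({w} : Set G) : Subgroup G) : Set G) := by
        refine hN w c x ?_ ?_ hx
        · rw [Subgroup.mem_centralizer_singleton_iff] at hw ⊢; exact hw.symm
        · rw [Subgroup.mem_centralizer_singleton_iff] at hc hw ⊢
          rw [show c * x * c⁻¹ = x by rw [hc, mul_inv_cancel_right]]
          exact hw.symm
      have hDn : ∀ c' : G, c' ∈ C → c' ∈ Subgroup.normalizer
          ((Subgroup.centralizer ({w} : Set G) : Subgroup G) : Set G) → ∀ t ∈ D, c' * t * c'⁻¹ ∈ D :=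
        fun c' hc' hc'' t ht => Subgroup.mem_inf.2 ⟨mul_mem (mul_mem hc' ht.1) (inv_mem hc'),
          (Subgroup.mem_normalizer_iff.1 hc'' t).1 ht.2⟩
      refine ⟨hDn c hc hcw z hz.1, fun t ht => ?_, ?_⟩
      · have ht' := hDn c⁻¹ (inv_mem hc) (inv_mem hcw) t ht
        rw [inv_inv] at ht'
        calc t * (c * z * c⁻¹) = c * ((c⁻¹ * t * c) * z) * c⁻¹ := by group
          _ = c * (z * (c⁻¹ * t * c)) * c⁻¹ := by rw [hz.2.1 _ ht']
          _ = c * z * c⁻¹ * t := by group
      · obtain ⟨k, hk⟩ := hz.2.2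
        exact ⟨k, by rw [conj_pow, hk]; group⟩
    have hwK : w ∈ K := ⟨⟨hw, Subgroup.mem_centralizer_singleton_iff.2 rfl⟩,
      fun t ht => Subgroup.mem_centralizer_singleton_iff.1 ht.2, hwp⟩
    have hKC : K ≤ C := fun z hz => hz.1.1
    have hsup : IsPGroup p (T ⊔ K : Subgroup G) := by
      refine hTp.to_sup_of_normal_left' hKp fun z hz => ?_
      refine Subgroup.mem_normalizer_iff.2 fun t => ⟨fun ht => hTn z (hKC hz) t ht, fun ht => ?_⟩
      simpa [mul_assoc] using hTn z⁻¹ (inv_mem (hKC hz)) _ ht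
    refine hTmax ⟨hsup, sup_le hTC hKC, fun c hc t ht => ?_⟩ le_sup_left
      (le_sup_right (a := T) hwK)
    have hle : (T ⊔ K).map (MulAut.conj c).toMonoidHom ≤ T ⊔ K := by
      rw [Subgroup.map_sup]
      refine sup_le_sup ?_ ?_
      · rintro _ ⟨u, hu, rfl⟩; exact hTn c hc u hu
      · rintro _ ⟨u, hu, rfl⟩; exact hKn c hc u hu
    exact hle ⟨t, ht, rfl⟩
  -- consequences
  have hkey : ∀ (x : G) (S : Sylow p G), x ≠ 1 →
      (S : Subgroup G) ≤ Subgroup.normalizer ((Subgroup.centralizer ({x} : Set G) : Subgroup G) : Set G) →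
      ∀ w ∈ Subgroup.centralizer ({x} : Set G), (∃ k : ℕ, w ^ p ^ k = 1) → w ∈ (S : Subgroup G) := by
    intro x S hx hS w hw hwp
    obtain ⟨T, hTp, hTC, hT⟩ := hmain x hx
    have hSN : (S : Subgroup G) ≤ Subgroup.normalizer (T : Set G) := by
      intro s hs
      have hin : ∀ s' ∈ (S : Subgroup G), ∀ t ∈ T, s' * t * s'⁻¹ ∈ T := by
        intro s' hs' t ht
        refine hT _ ((Subgroup.mem_normalizer_iff.1 (hS hs') t).1 (hTC ht)) ?_
        obtain ⟨k, hk⟩ := hTp ⟨t, ht⟩
        exact ⟨k, by rw [conj_pow, show t ^ p ^ k = 1 by simpa using congrArg Subtype.val hk]; group⟩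
      refine Subgroup.mem_normalizer_iff.2 fun t => ⟨fun ht => hin s hs t ht, fun ht => ?_⟩
      simpa [mul_assoc] using hin s⁻¹ (inv_mem hs) _ ht
    have hp' := hTp.to_sup_of_normal_left' S.isPGroup' hSN
    rw [← S.is_maximal' hp' le_sup_right]
    exact le_sup_left (b := (S : Subgroup G)) (hT w hw hwp)
  have hpow : ∀ (S : Sylow p G) (w : G), w ∈ (S : Subgroup G) → ∃ k : ℕ, w ^ p ^ k = 1 := fun S w hw => by
    obtain ⟨k, hk⟩ := S.isPGroup' ⟨w, hw⟩
    exact ⟨k, by simpa using congrArg Subtype.val hk⟩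
  by_contra hne
  obtain ⟨⟨x, hxP, hxQ⟩, hx1⟩ := Subgroup.ne_bot_iff_exists_ne_one.1 hne
  have hx : x ≠ 1 := fun e => hx1 (Subtype.ext e)
  haveI : Nontrivial (P : Subgroup G) := ⟨⟨⟨x, hxP⟩, 1, fun e => hx (congrArg Subtype.val e)⟩⟩
  haveI := IsPGroup.center_nontrivial P.isPGroup'
  obtain ⟨⟨⟨u, huP⟩, huc⟩, hu1⟩ := exists_ne (1 : Subgroup.center (P : Subgroup G))
  have hu : u ≠ 1 := fun e => hu1 (Subtype.ext (Subtype.ext e))
  have huP' : ∀ s ∈ (P : Subgroup G), s * u = u * s := fun s hs =>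
    congrArg Subtype.val (Subgroup.mem_center_iff.1 huc ⟨s, hs⟩)
  haveI : Nontrivial (Q : Subgroup G) := ⟨⟨⟨x, hxQ⟩, 1, fun e => hx (congrArg Subtype.val e)⟩⟩
  haveI := IsPGroup.center_nontrivial Q.isPGroup'
  obtain ⟨⟨⟨v, hvQ⟩, hvc⟩, hv1⟩ := exists_ne (1 : Subgroup.center (Q : Subgroup G))
  have hv : v ≠ 1 := fun e => hv1 (Subtype.ext (Subtype.ext e))
  have hvQ' : ∀ s ∈ (Q : Subgroup G), s * v = v * s := fun s hs =>
    congrArg Subtype.val (Subgroup.mem_center_iff.1 hvc ⟨s, hs⟩)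
  have huQ : u ∈ (Q : Subgroup G) := by
    refine hkey x Q hx (fun s hs => hN x s v ?_ ?_ hv) u ?_ (hpow P u huP)
    · exact Subgroup.mem_centralizer_singleton_iff.2 (hvQ' x hxQ).symm
    · rw [show s * v * s⁻¹ = v by rw [hvQ' s hs, mul_inv_cancel_right]]
      exact Subgroup.mem_centralizer_singleton_iff.2 (hvQ' x hxQ).symm
    · exact Subgroup.mem_centralizer_singleton_iff.2 (huP' x hxP).symm
  have hle : (P : Subgroup G) ≤ Q := fun w hw => by
    refine hkey u Q hu (fun s hs => hN u s v ?_ ?_ hv) w ?_ (hpow P w hw)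
    · exact Subgroup.mem_centralizer_singleton_iff.2 (hvQ' u huQ).symm
    · rw [show s * v * s⁻¹ = v by rw [hvQ' s hs, mul_inv_cancel_right]]
      exact Subgroup.mem_centralizer_singleton_iff.2 (hvQ' u huQ).symm
    · exact Subgroup.mem_centralizer_singleton_iff.2 (huP' w hw)
  exact hPQ (Sylow.ext (P.is_maximal' Q.isPGroup' hle).symm)

end Cfsg.Agent.S4066
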