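import Cfsg.Statements.S3157
import Cfsg.Agent.Lib.InvolChar.FpfSixtyFour
import Cfsg.Agent.Lib.Fusion.UniTri
import Cfsg.Agent.Lib.Fusion.PSLnSimple
import Cfsg.Agent.Lib.Classical.GLOrder
-- import your own Cfsg.Agent.* helpers here

set_option autoImplicit false
open Cfsg

namespace Cfsg.Agent.S3157


open CfsgLib.FpfSixtyFour

theorem dihedral_of_involutions {C : Type*} [Group C] [Finite C] (h8 : Nat.card C = 8) {u v : C}
    (hu : u * u = 1) (hv : v * v = 1) (huv : u * v ≠ v * u) : Nonempty (C ≃* DihedralGroup 4) := by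
  classical
  have hui : u⁻¹ = u := inv_eq_of_mul_eq_one_right hu
  have hvi : v⁻¹ = v := inv_eq_of_mul_eq_one_right hv
  set r := u * v with hr
  have hru : u * r * u⁻¹ = r⁻¹ := by rw [hr, _root_.mul_inv_rev, hui, hvi, ← mul_assoc, hu, one_mul]
  have ho : orderOf r ∣ 2 ^ 3 := by rw [show (2 : ℕ) ^ 3 = 8 from rfl, ← h8]; exact orderOf_dvd_natCard r
  obtain ⟨k, hk, hrk⟩ := (Nat.dvd_prime_pow Nat.prime_two).1 ho
  have hnc : u ∉ Subgroup.zpowers r := fun hu' => huv (by
    obtain ⟨i, hi⟩ := hu'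
    have hc : u * r = r * u := by rw [← hi]; exact (Commute.zpow_self r i).eq
    rw [hr, ← mul_assoc, hu, one_mul] at hc
    calc u * v = u * (u * v * u) := by rw [← hc]
      _ = v * u := by rw [← mul_assoc, ← mul_assoc, hu, one_mul])
  have hk2 : ¬ k ≤ 1 := fun hk1 => huv (by
    have h1 : r * r = 1 := by
      rw [← sq]
      exact orderOf_dvd_iff_pow_eq_one.1 (hrk ▸ pow_dvd_pow 2 hk1)
    have e : r⁻¹ = r := inv_eq_of_mul_eq_one_right h1
    rw [hr, _root_.mul_inv_rev, hui, hvi] at e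
    exact e.symm)
  have hk3 : k ≠ 3 := fun e => by
    have := Subgroup.eq_top_of_le_card (Subgroup.zpowers r) (by rw [Nat.card_zpowers, hrk, e, h8]; norm_num)
    exact hnc (this ▸ Subgroup.mem_top u)
  have hr4 : orderOf r = 4 := by rw [hrk, show k = 2 by omega]; norm_num
  let φ : DihedralGroup 4 → C := fun
    | .r i => r ^ i.val
    | .sr i => u * r ^ i.val
  have hp : ∀ i j : ZMod 4, r ^ i.val * r ^ j.val = r ^ (i + j).val := fun i j => by
    rw [← pow_add, ← pow_mod_orderOf r (i.val + j.val), hr4, ZMod.val_add]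
  have hinv : ∀ i : ZMod 4, r ^ i.val * u = u * r ^ (-i).val := fun i => by
    have h1 : u * r ^ i.val * u⁻¹ = (r ^ i.val)⁻¹ := by rw [← conj_pow, hru, inv_pow]
    have h2 : r ^ (-i).val = (r ^ i.val)⁻¹ :=
      eq_inv_of_mul_eq_one_left (by rw [hp, neg_add_cancel, ZMod.val_zero, pow_zero])
    rw [h2, ← h1, hui, ← mul_assoc, ← mul_assoc, hu, one_mul]
  have hm : ∀ a b, φ (a * b) = φ a * φ b := by
    rintro (i | i) (j | j)
    · show r ^ (i + j).val = r ^ i.val * r ^ j.val
      rw [hp]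
    · show u * r ^ (j - i).val = r ^ i.val * (u * r ^ j.val)
      rw [← mul_assoc, hinv, mul_assoc, hp, neg_add_eq_sub]
    · show u * r ^ (i + j).val = u * r ^ i.val * r ^ j.val
      rw [mul_assoc, hp]
    · show r ^ (j - i).val = u * r ^ i.val * (u * r ^ j.val)
      rw [← mul_assoc, mul_assoc u, hinv, ← mul_assoc, hu, one_mul, hp, neg_add_eq_sub]
  have hinjr : ∀ i j : ZMod 4, r ^ i.val = r ^ j.val → i = j := fun i j e => by
    have := pow_inj_mod.1 e
    rw [hr4, Nat.mod_eq_of_lt (ZMod.val_lt i), Nat.mod_eq_of_lt (ZMod.val_lt j)] at this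
    exact ZMod.val_injective 4 this
  have hinj : Function.Injective φ := by
    rintro (i | i) (j | j) e
    · rw [hinjr i j e]
    · exact absurd (by
        have e' : u = r ^ i.val * (r ^ j.val)⁻¹ := by rw [show r ^ i.val = u * r ^ j.val from e, mul_inv_cancel_right]
        rw [e']; exact mul_mem (Subgroup.pow_mem _ (Subgroup.mem_zpowers r) _) (inv_mem (Subgroup.pow_mem _ (Subgroup.mem_zpowers r) _))) hnc
    · exact absurd (by
        have e' : u = r ^ j.val * (r ^ i.val)⁻¹ := by rw [← show u * r ^ i.val = r ^ j.val from e, mul_inv_cancel_right]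
        rw [e']; exact mul_mem (Subgroup.pow_mem _ (Subgroup.mem_zpowers r) _) (inv_mem (Subgroup.pow_mem _ (Subgroup.mem_zpowers r) _))) hnc
    · rw [hinjr i j (mul_left_cancel (show u * r ^ i.val = u * r ^ j.val from e))]
  let Φ : DihedralGroup 4 →* C := MonoidHom.mk' φ hm
  exact ⟨(MulEquiv.ofBijective Φ ((Nat.bijective_iff_injective_and_card Φ).2
    ⟨hinj, by rw [DihedralGroup.nat_card, h8]⟩)).symm⟩

theorem quaternion_of_unique {C : Type*} [Group C] [Finite C] (h8 : Nat.card C = 8)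
    (hna : ∃ a b : C, a * b ≠ b * a) (z : C) (huniq : ∀ u : C, u * u = 1 → u ≠ 1 → u = z) :
    Nonempty (C ≃* QuaternionGroup 2) := by
  haveI : Fact (Nat.Prime 2) := ⟨Nat.prime_two⟩
  rcases CfsgLib.Solvable.isCyclic_or_quaternion (p := 2) (IsPGroup.of_card (n := 3) (by rw [h8]; norm_num))
      (fun a b ha hb => by
        have e : ∀ w : C, orderOf w = 2 → w = z := fun w hw => huniq w
          (by rw [← sq, ← hw, pow_orderOf_eq_one]) (fun e => by rw [e, orderOf_one] at hw; omega)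
        rw [e a ha, e b hb]; exact Subgroup.mem_zpowers z) with hc | ⟨-, n, ⟨e⟩⟩
  · obtain ⟨g, hg⟩ := hc.exists_generator
    obtain ⟨a, b, hab⟩ := hna
    obtain ⟨i, rfl⟩ := hg a
    obtain ⟨j, rfl⟩ := hg b
    exact absurd (Commute.zpow_zpow_self g i j).eq hab
  · have h := Nat.card_congr e.toEquiv
    rw [h8, Nat.card_eq_fintype_card, QuaternionGroup.card] at h
    have : 2 ^ n = 2 := by omega
    exact ⟨e.trans (by rw [this])⟩

/-- Diagonal conjugation on the unitriangular group. -/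
theorem exists_model {F : Type} [Field F] [Fintype F] (hF : Fintype.card F = 4) :
    ∃ S : Sylow 2 (Matrix.ProjectiveSpecialLinearGroup (Fin 3) F),
      Nonempty (Gen ↥(S : Subgroup (Matrix.ProjectiveSpecialLinearGroup (Fin 3) F))) := by
  classical
  haveI : Fact (Nat.Prime 2) := ⟨Nat.prime_two⟩
  haveI : CharP F 2 := charP_of_card_eq_prime_pow (f := 2) (by rw [hF]; norm_num)
  set U := CfsgLib.Fusion.UniTri.upper F 3 with hU
  have hUni : ∀ g : U, g.1.1 1 0 = 0 ∧ g.1.1 2 0 = 0 ∧ g.1.1 2 1 = 0 ∧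
      g.1.1 0 0 = 1 ∧ g.1.1 1 1 = 1 ∧ g.1.1 2 2 = 1 := fun g =>
    ⟨g.2.1 1 0 (by decide), g.2.1 2 0 (by decide), g.2.1 2 1 (by decide), g.2.2 0, g.2.2 1, g.2.2 2⟩
  have hext : ∀ g k : U, g.1.1 0 1 = k.1.1 0 1 → g.1.1 1 2 = k.1.1 1 2 → g.1.1 0 2 = k.1.1 0 2 → g = k := by
    intro g k h1 h2 h3
    obtain ⟨a1, a2, a3, a4, a5, a6⟩ := hUni g
    obtain ⟨b1, b2, b3, b4, b5, b6⟩ := hUni k
    apply Subtype.ext; apply Subtype.ext
    ext i j
    fin_cases i <;> fin_cases j <;> simp_all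
  let mk' : F × F × F → U := fun p => ⟨⟨!![1, p.1, p.2.2; 0, 1, p.2.1; 0, 0, 1], by simp [Matrix.det_fin_three]⟩,
    ⟨fun x y hxy => by fin_cases x <;> fin_cases y <;> simp at hxy ⊢, fun x => by fin_cases x <;> rfl⟩⟩
  let e : U ≃ F × F × F :=
    { toFun := fun g => (g.1.1 0 1, g.1.1 1 2, g.1.1 0 2)
      invFun := mk'
      left_inv := fun g => hext _ _ rfl rfl rfl
      right_inv := fun p => rfl }
  have hcard : Nat.card U = 64 := by
    rw [Nat.card_congr e, Nat.card_prod, Nat.card_prod, Nat.card_eq_fintype_card, hF]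
  obtain ⟨w, hw3, hw1⟩ : ∃ w : F, w ^ 3 = 1 ∧ w ≠ 1 := by
    obtain ⟨g, hg⟩ := IsCyclic.exists_generator (α := Fˣ)
    have ho := orderOf_eq_card_of_forall_mem_zpowers hg
    rw [Nat.card_units, Nat.card_eq_fintype_card, hF] at ho
    refine ⟨g, ?_, fun h => ?_⟩
    · have := congrArg (fun u : Fˣ => (u : F)) (pow_orderOf_eq_one g)
      rw [ho] at this
      simpa using this
    · rw [Units.val_eq_one] at h
      rw [h, orderOf_one] at ho
      omega
  have hw0 : w ≠ 0 := fun h => by rw [h] at hw3; simp at hw3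
  have hw4 : w ^ 4 = w := by rw [pow_succ, hw3, one_mul]
  let r : U → U := fun g => mk' (w * g.1.1 0 1, w * g.1.1 1 2, w ^ 2 * g.1.1 0 2)
  have hr3 : ∀ g, r (r (r g)) = g := fun g => hext _ _
    (show w * (w * (w * g.1.1 0 1)) = _ by linear_combination (g.1.1 0 1) * hw3)
    (show w * (w * (w * g.1.1 1 2)) = _ by linear_combination (g.1.1 1 2) * hw3)
    (show w ^ 2 * (w ^ 2 * (w ^ 2 * g.1.1 0 2)) = _ by linear_combination (g.1.1 0 2 * (w ^ 3 + 1)) * hw3)
  have hmul : ∀ g k : U, (g * k).1.1 0 1 = g.1.1 0 1 + k.1.1 0 1 ∧ (g * k).1.1 1 2 = g.1.1 1 2 + k.1.1 1 2 ∧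
      (g * k).1.1 0 2 = g.1.1 0 2 + k.1.1 0 2 + g.1.1 0 1 * k.1.1 1 2 := by
    intro g k
    obtain ⟨a1, a2, a3, a4, a5, a6⟩ := hUni g
    obtain ⟨b1, b2, b3, b4, b5, b6⟩ := hUni k
    have : (g * k).1.1 = g.1.1 * k.1.1 := rfl
    rw [this]
    refine ⟨?_, ?_, ?_⟩ <;> simp [Matrix.mul_apply, Fin.sum_univ_three, *] <;> ring
  have hrmul : ∀ g k, r (g * k) = r g * r k := fun g k => hext _ _
    (by rw [(hmul _ _).1]; show w * (g * k).1.1 0 1 = w * g.1.1 0 1 + w * k.1.1 0 1; rw [(hmul g k).1]; ring)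
    (by rw [(hmul _ _).2.1]; show w * (g * k).1.1 1 2 = w * g.1.1 1 2 + w * k.1.1 1 2; rw [(hmul g k).2.1]; ring)
    (by rw [(hmul _ _).2.2]; show w ^ 2 * (g * k).1.1 0 2 = w ^ 2 * g.1.1 0 2 + w ^ 2 * k.1.1 0 2 + w * g.1.1 0 1 * (w * k.1.1 1 2)
        rw [(hmul g k).2.2]; ring)
  let ρ : U ≃* U :=
    { toFun := r, invFun := fun g => r (r g), left_inv := hr3, right_inv := hr3, map_mul' := hrmul }
  have hρ : Fpf ρ := by
    refine ⟨hr3, fun g hg => ?_⟩
    have hw21 : w ^ 2 ≠ 1 := fun h => hw1 (by rw [← hw4, show (4 : ℕ) = 2 * 2 from rfl, pow_mul, h, one_pow])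
    have h1 : w * g.1.1 0 1 = g.1.1 0 1 := congrArg (fun k : U => k.1.1 0 1) hg
    have h2 : w * g.1.1 1 2 = g.1.1 1 2 := congrArg (fun k : U => k.1.1 1 2) hg
    have h3 : w ^ 2 * g.1.1 0 2 = g.1.1 0 2 := congrArg (fun k : U => k.1.1 0 2) hg
    have key : ∀ {c x : F}, c ≠ 1 → c * x = x → x = 0 := fun {c x} hc h => by
      by_contra hx
      exact hc (mul_right_cancel₀ hx (h.trans (one_mul x).symm))
    exact hext _ _ (key hw1 h1) (key hw1 h2) (key hw21 h3)
  obtain ⟨ψ, hψker, hψs⟩ : ∃ ψ : Matrix.SpecialLinearGroup (Fin 3) F →* Matrix.ProjectiveSpecialLinearGroup (Fin 3) F,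
      ψ.ker = Subgroup.center _ ∧ Function.Surjective ψ :=
    ⟨QuotientGroup.mk' _, QuotientGroup.ker_mk' _, QuotientGroup.mk'_surjective _⟩
  have hinj : Function.Injective (ψ.comp U.subtype) := by
    rw [← MonoidHom.ker_eq_bot_iff, Subgroup.eq_bot_iff_forall]
    intro g hg
    have hz : (g : Matrix.SpecialLinearGroup (Fin 3) F) ∈ Subgroup.center _ := hψker ▸ hg
    obtain ⟨c, -, hc⟩ := Matrix.SpecialLinearGroup.mem_center_iff.1 hz
    refine hext _ _ ?_ ?_ ?_ <;> rw [← hc] <;> simp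
  let V := U.map ψ
  have hV : Nat.card V = 64 := by
    rw [← hcard]
    exact Nat.card_congr (Equiv.ofBijective (fun g : U => (⟨ψ g, g, g.2, rfl⟩ : V))
      ⟨fun g k h => hinj (congrArg Subtype.val h), by rintro ⟨_, g, hg, rfl⟩; exact ⟨⟨g, hg⟩, rfl⟩⟩).symm
  have hG : (Nat.card (Matrix.ProjectiveSpecialLinearGroup (Fin 3) F)).factorization 2 = 6 := by
    have h := CfsgLib.Classical.card_PSL_mul (F := F) hF 3 (by norm_num)
    have hN : Nat.card (Matrix.ProjectiveSpecialLinearGroup (Fin 3) F) = 2 ^ 6 * 315 := by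
      rw [Fin.prod_univ_three] at h
      norm_num at h ⊢
      omega
    rw [hN, Nat.factorization_mul (by norm_num) (by norm_num), Finsupp.add_apply,
      Nat.prime_two.factorization_pow, Nat.factorization_eq_zero_of_not_dvd (n := 315) (by norm_num)]
    simp
  refine ⟨Sylow.ofCard V (by rw [hV, hG]; norm_num), ?_⟩
  rw [Sylow.coe_ofCard]
  let eU : U ≃* V := MulEquiv.ofBijective (MonoidHom.codRestrict (ψ.comp U.subtype) V fun g => ⟨g, g.2, rfl⟩)
    ⟨fun g k h => hinj (congrArg Subtype.val h), by rintro ⟨_, g, hg, rfl⟩; exact ⟨⟨g, hg⟩, rfl⟩⟩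
  let ρV : V ≃* V := (eU.symm.trans ρ).trans eU
  have hρV : Fpf ρV := by
    refine ⟨fun y => ?_, fun y hy => ?_⟩
    · show eU (ρ (eU.symm (eU (ρ (eU.symm (eU (ρ (eU.symm y)))))))) = y
      rw [eU.symm_apply_apply, eU.symm_apply_apply, hρ.cube, eU.apply_symm_apply]
    · have : ρ (eU.symm y) = eU.symm y := eU.injective (hy.trans (eU.apply_symm_apply y).symm)
      rw [← eU.apply_symm_apply y, hρ.fixed _ this, map_one]
  set a := mk' (1, 0, 0) with ha
  set b := mk' (0, 1, 0) with hb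
  refine hρV.exists_gen hV (eU a) (eU b) ?_ ?_ ?_
  · rw [← map_mul, ← map_one eU]
    refine congrArg _ (hext _ _ ?_ ?_ ?_)
    · rw [(hmul _ _).1]; simpa [ha, mk'] using CharTwo.add_self_eq_zero (1 : F)
    · rw [(hmul _ _).2.1]; simp [ha, mk']
    · rw [(hmul _ _).2.2]; simp [ha, mk']
  · rw [← map_mul, ← map_one eU]
    refine congrArg _ (hext _ _ ?_ ?_ ?_)
    · rw [(hmul _ _).1]; simp [hb, mk']
    · rw [(hmul _ _).2.1]; simpa [hb, mk'] using CharTwo.add_self_eq_zero (1 : F)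
    · rw [(hmul _ _).2.2]; simp [hb, mk']
  · rw [← map_mul, ← map_mul]
    intro h
    have := congrArg (fun g : U => g.1.1 0 2) (eU.injective h)
    simp only [(hmul _ _).2.2] at this
    simp [ha, hb, mk'] at this

theorem fixed_facts {T : Type*} [Group T] [Finite T] (hT : Nat.card T = 64) {ρ : T ≃* T} (hρ : Fpf ρ)
    (hna : ∃ a b : T, a * b ≠ b * a) (x : T ≃* T) (hxx : ∀ y, x (x y) = y) (hxρ : ∀ y, x (ρ y) = ρ (ρ (x y)))
    (C : Subgroup T) (hC : ∀ y, y ∈ C ↔ x y = y) :
    Nat.card C = 8 ∧ ∃ z, z ∈ C ∧ z ∈ Subgroup.center T ∧ z ≠ 1 ∧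
      (∀ u ∈ C, u ∈ Subgroup.center T → u = 1 ∨ u = z) ∧ ∃ c d, c ∈ C ∧ d ∈ C ∧ κ c d = z := by
  classical
  haveI : Fintype T := Fintype.ofFinite T
  obtain ⟨hZ4, hκ, hsq, hz2⟩ := hρ.structure hT hna
  set Z := Subgroup.center T with hZ
  have hCρ : ∀ y ∈ C, ρ y ∈ C → y = 1 := fun y hy hy' => by
    have h1 := (hC _).1 hy'
    rw [hxρ, (hC _).1 hy] at h1
    exact hρ.fixed _ (ρ.injective h1)
  -- fixed central elements
  have hCZ : ∀ u v, u ∈ C → u ∈ Z → v ∈ C → v ∈ Z → u ≠ 1 → v ≠ 1 → u = v := by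
    intro u v huC hu hvC hv hu1 hv1
    by_contra hne
    have hρu : ρ u ∈ Z := center_invariant ρ u hu
    have hsub : ({1, u, v, u * v} : Finset T) ⊆ Finset.univ.filter (· ∈ Z) := by
      intro y hy
      simp only [Finset.mem_insert, Finset.mem_singleton] at hy
      simp only [Finset.mem_filter, Finset.mem_univ, true_and]
      rcases hy with rfl | rfl | rfl | rfl
      exacts [one_mem _, hu, hv, mul_mem hu hv]
    have huv1 : u * v ≠ 1 := fun e => hne (by rw [← mul_one u, ← hz2 v hv, ← mul_assoc, e, one_mul])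
    have hcard : ({1, u, v, u * v} : Finset T).card = 4 := by
      rw [Finset.card_insert_of_notMem, Finset.card_insert_of_notMem, Finset.card_insert_of_notMem,
        Finset.card_singleton]
      · simpa using hu1
      · simp only [Finset.mem_insert, Finset.mem_singleton, not_or]
        refine ⟨hne, ?_⟩
        intro e
        exact hv1 (by simpa using e)
      · simp only [Finset.mem_insert, Finset.mem_singleton, not_or]
        exact ⟨Ne.symm hu1, Ne.symm hv1, Ne.symm huv1⟩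
    have heq := Finset.eq_of_subset_of_card_le hsub (by
      rw [hcard, ← Fintype.card_subtype, ← Nat.card_eq_fintype_card, hZ4])
    have h1 : ρ u ∈ ({1, u, v, u * v} : Finset T) := by
      rw [heq]; simp [hρu]
    simp only [Finset.mem_insert, Finset.mem_singleton] at h1
    refine hu1 (hCρ u huC ?_)
    rcases h1 with e | e | e | e <;> rw [e]
    exacts [one_mem _, huC, hvC, mul_mem huC hvC]
  -- the sets of fixed and inverted elements
  obtain ⟨z, hzC, hzZ, hz1⟩ : ∃ z, z ∈ C ∧ z ∈ Z ∧ z ≠ 1 := by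
    by_contra hc
    push Not at hc
    obtain ⟨u, hu, hu1⟩ : ∃ u ∈ Z, u ≠ 1 := by
      by_contra h0
      push Not at h0
      rw [Subgroup.eq_bot_iff_forall _ |>.2 h0, Subgroup.card_bot] at hZ4
      omega
    have hxu : x u ∈ Z := center_invariant x u hu
    have hfix : x (u * x u) = u * x u := by
      rw [map_mul, hxx, Subgroup.mem_center_iff.1 hu (x u)]
    have h1 := hc _ ((hC _).2 hfix) (mul_mem hu hxu)
    have h2 : x u = u := by
      rw [← mul_one (x u), ← hz2 u hu, ← mul_assoc, Subgroup.mem_center_iff.1 hu (x u), h1, one_mul]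
    exact hu1 (hc u ((hC u).2 h2) hu)
  have hCle : Nat.card C ≤ 8 := by
    have hf : Function.Injective (fun p : C × C => (p.1 : T) * ρ p.2) := by
      rintro ⟨a, b⟩ ⟨a', b'⟩ e
      have e1 : ρ ((b : T) * (b' : T)⁻¹) = (a : T)⁻¹ * a' := by
        rw [map_mul, map_inv, eq_inv_mul_iff_mul_eq, ← mul_assoc, (show (a : T) * ρ b = a' * ρ b' from e), mul_inv_cancel_right]
      have h1 := hCρ ((b : T) * (b' : T)⁻¹) (mul_mem b.2 (inv_mem b'.2)) (by rw [e1]; exact mul_mem (inv_mem a.2) a'.2)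
      have hb : b = b' := Subtype.ext (mul_inv_eq_one.1 h1)
      subst hb
      exact Prod.ext (Subtype.ext (mul_right_cancel (e : (a : T) * ρ b = a' * ρ b))) rfl
    have := Nat.card_le_card_of_injective _ hf
    rw [Nat.card_prod, hT] at this
    nlinarith
  let C' : Subgroup T :=
    { carrier := {t | t⁻¹ * x t ∈ Z}
      one_mem' := by show (1 : T)⁻¹ * x 1 ∈ Z; rw [map_one, inv_one, one_mul]; exact one_mem _
      mul_mem' := fun {s t} hs ht => by
        show (s * t)⁻¹ * x (s * t) ∈ Z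
        have e : (s * t)⁻¹ * x (s * t) = (t⁻¹ * (s⁻¹ * x s) * t) * (t⁻¹ * x t) := by rw [map_mul]; group
        rw [e]
        refine mul_mem ?_ ht
        have := (inferInstance : (Subgroup.center T).Normal).conj_mem _ hs t⁻¹
        rwa [inv_inv] at this
      inv_mem' := fun {t} ht => by
        show (t⁻¹)⁻¹ * x t⁻¹ ∈ Z
        have := (inferInstance : (Subgroup.center T).Normal).conj_mem _ (inv_mem ht) t
        have e : t⁻¹⁻¹ * x t⁻¹ = t * (t⁻¹ * x t)⁻¹ * t⁻¹ := by rw [map_inv]; group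
        rwa [e] }
  have hZC' : ∀ u ∈ Z, u ∈ C' := fun u hu => mul_mem (inv_mem hu) (center_invariant x u hu)
  have hC'ρ : ∀ y ∈ C', ρ y ∈ C' → y ∈ Z := fun y hy hy' => by
    by_contra hyZ
    have h1 : (ρ y)⁻¹ * x (ρ y) ∈ Z := hy'
    have hy2 : y⁻¹ * x y ∈ Z := hy
    rw [hxρ, show x y = y * (y⁻¹ * x y) by rw [mul_inv_cancel_left], map_mul, map_mul, ← mul_assoc] at h1
    have h2 : (ρ y)⁻¹ * ρ (ρ y) ∈ Z := by
      have h3 := mul_mem h1 (inv_mem (center_invariant ρ _ (center_invariant ρ _ hy2)))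
      rwa [mul_inv_cancel_right] at h3
    have h4 : y⁻¹ * ρ y ∈ Z := by
      have e : y⁻¹ * ρ y = ρ (ρ ((ρ y)⁻¹ * ρ (ρ y))) := by
        rw [map_mul, map_mul, map_inv, map_inv, hρ.cube]
      rw [e]
      exact center_invariant ρ _ (center_invariant ρ _ h2)
    obtain ⟨v, hv, hve⟩ : ∃ v ∈ Z, y⁻¹ * ρ y = v⁻¹ * ρ v := by
      let f : Z → Z := fun v => ⟨(v : T)⁻¹ * ρ v, mul_mem (inv_mem v.2) (center_invariant ρ _ v.2)⟩
      have hf : Function.Injective f := fun v w e => by
        have e1 : (v : T)⁻¹ * ρ v = (w : T)⁻¹ * ρ w := congrArg Subtype.val e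
        refine Subtype.ext (inv_mul_eq_one.1 (hρ.fixed ((w : T)⁻¹ * v) ?_)).symm
        have hc : ρ (v : T) = v * ((w : T)⁻¹ * ρ w) := by rw [← e1, mul_inv_cancel_left]
        rw [map_mul, map_inv, hc, ← Subgroup.mem_center_iff.1 v.2 ((w : T)⁻¹ * ρ w),
          ← Subgroup.mem_center_iff.1 (inv_mem w.2) (ρ w)]
        group
      obtain ⟨v, hv⟩ := (Finite.injective_iff_surjective.1 hf) ⟨_, h4⟩
      exact ⟨v, v.2, (congrArg Subtype.val hv).symm⟩
    have e : ρ (y * v⁻¹) = y * v⁻¹ := by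
      have hy' : ρ y = y * (v⁻¹ * ρ v) := by rw [← hve, mul_inv_cancel_left]
      rw [map_mul, map_inv, hy', mul_assoc, mul_assoc, mul_inv_cancel, mul_one]
    exact hyZ (mul_inv_eq_one.1 (hρ.fixed _ e) ▸ hv)
  have hC'le : Nat.card C' ≤ 16 := by
    have h1 := Subgroup.relIndex_le_of_le_right (H := C'.map ρ.toMonoidHom) (K := C') (L := ⊤) le_top
      Subgroup.index_ne_zero_of_finite
    rw [Subgroup.relIndex_top_right] at h1
    have h2 := Subgroup.relIndex_mul_relIndex (⊥ : Subgroup T) (C'.map ρ.toMonoidHom ⊓ C') C' bot_le inf_le_right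
    rw [Subgroup.relIndex_bot_left, Subgroup.relIndex_bot_left, Subgroup.inf_relIndex_right] at h2
    have h3 : Nat.card ↥(C'.map ρ.toMonoidHom ⊓ C') ≤ 4 := by
      rw [← hZ4]
      refine Subgroup.card_le_of_le ?_
      rintro _ ⟨⟨y, hy, rfl⟩, hy'⟩
      exact center_invariant ρ y (hC'ρ y hy hy')
    have h4 := (C'.map ρ.toMonoidHom).card_mul_index
    rw [Subgroup.card_map_of_injective (show Function.Injective ρ.toMonoidHom from ρ.injective), hT] at h4
    have h5 := Nat.mul_le_mul h3 h1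
    rw [h2] at h5
    have h6 : Nat.card C' * Nat.card C' ≤ 4 * 64 := by
      calc _ ≤ Nat.card C' * (4 * (C'.map ρ.toMonoidHom).index) := Nat.mul_le_mul_left _ h5
        _ = _ := by rw [mul_left_comm, h4]
    nlinarith
  have hCge : 8 ≤ Nat.card C := by
    let φ : T → T := fun y => y⁻¹ * x y
    let f : T ⧸ C → {t : T // x t = t⁻¹} := fun q => q.liftOn'
      (fun y => ⟨y * x y⁻¹, by rw [map_mul, hxx, _root_.mul_inv_rev, map_inv, inv_inv]⟩) (by
        intro a b hab
        rw [QuotientGroup.leftRel_apply] at hab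
        have h1 := (hC _).1 hab
        rw [map_mul] at h1
        refine Subtype.ext ?_
        show a * x a⁻¹ = b * x b⁻¹
        rw [map_inv x b, eq_mul_inv_iff_mul_eq, mul_assoc, h1, mul_inv_cancel_left])
    have hf : Function.Injective f := by
      intro p q
      induction p using QuotientGroup.induction_on with
      | _ a =>
        induction q using QuotientGroup.induction_on with
        | _ b =>
          intro e
          have e1 : a * x a⁻¹ = b * x b⁻¹ := congrArg Subtype.val e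
          rw [QuotientGroup.eq, hC, map_mul, eq_inv_mul_iff_mul_eq, ← mul_assoc, e1, map_inv, inv_mul_cancel_right]
    obtain ⟨v, hvZ, hvC⟩ : ∃ v ∈ Z, v ∉ C := by
      by_contra hc
      push Not at hc
      have hρz : ρ z ∈ C := hc _ (center_invariant ρ z hzZ)
      exact hz1 (hCρ z hzC hρz)
    have hI : 2 * Nat.card {t : T // x t = t⁻¹} ≤ Nat.card C' := by
      have hmem : ∀ t : {t : T // x t = t⁻¹}, (t : T) ∈ C' := fun t => by
        show (t : T)⁻¹ * x t ∈ Z
        rw [t.2, ← _root_.mul_inv_rev]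
        exact inv_mem (hsq _)
      let g : {t : T // x t = t⁻¹} ⊕ {t : T // x t = t⁻¹} → C' := fun s =>
        s.elim (fun (t : {t : T // x t = t⁻¹}) => (⟨(t : T), hmem t⟩ : C'))
          (fun (t : {t : T // x t = t⁻¹}) => (⟨(t : T) * v, mul_mem (hmem t) (hZC' v hvZ)⟩ : C'))
      have hcross : ∀ s t : {t : T // x t = t⁻¹}, (s : T) ≠ t * v := fun s t e => by
        have h1 := s.2
        rw [e, map_mul, t.2, _root_.mul_inv_rev, ← Subgroup.mem_center_iff.1 (inv_mem hvZ) ((t : T)⁻¹)] at h1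
        have h2 := mul_left_cancel h1
        exact hvC ((hC v).2 (h2.trans (inv_eq_of_mul_eq_one_right (hz2 v hvZ))))
      have hg : Function.Injective g := by
        rintro (s | s) (t | t) e
        · exact congrArg Sum.inl (Subtype.ext (congrArg (fun c : C' => (c : T)) e))
        · exact absurd (congrArg (fun c : C' => (c : T)) e) (hcross s t)
        · exact absurd (congrArg (fun c : C' => (c : T)) e).symm (hcross t s)
        · exact congrArg Sum.inr (Subtype.ext (mul_right_cancel (congrArg (fun c : C' => (c : T)) e)))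
      have := Nat.card_le_card_of_injective g hg
      rw [Nat.card_sum] at this
      omega
    have h1 := Nat.card_le_card_of_injective f hf
    have h2 := C.card_eq_card_quotient_mul_card_subgroup
    rw [hT] at h2
    have h3 : Nat.card (T ⧸ C) ≤ 8 := by omega
    nlinarith
  refine ⟨le_antisymm hCle hCge, z, hzC, hzZ, hz1, fun u hu hu' => or_iff_not_imp_left.2 fun h1 =>
    hCZ u z hu hu' hzC hzZ h1 hz1, ?_⟩
  by_contra hc
  push Not at hc
  have hCab : ∀ c ∈ C, ∀ d ∈ C, κ c d = 1 := fun c hc' d hd => by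
    by_contra hne
    have hfix : κ c d ∈ C := mul_mem (mul_mem (mul_mem hc' hd) (inv_mem hc')) (inv_mem hd)
    exact hc c d hc' hd (hCZ _ _ hfix (hκ c d) hzC hzZ hne hz1)
  set M := Subgroup.closure ((C : Set T) ∪ (ρ '' (C : Set T))) with hM
  have hcomm : ∀ a b : T, κ a b = 1 → a * b = b * a := fun a b h => by
    rwa [κ, mul_inv_eq_one, mul_inv_eq_iff_eq_mul] at h
  have hMc : ∀ a ∈ M, ∀ b ∈ M, a * b = b * a := by
    refine closure_commute ?_
    have hv := hρ.κ_values hκ hz2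
    rintro a (ha | ⟨a, ha, rfl⟩) b (hb | ⟨b, hb, rfl⟩)
    · exact hcomm _ _ (hCab a ha b hb)
    · exact hcomm _ _ (by rw [(hv a b).2.2, hCab a ha b hb, map_one, one_mul])
    · exact hcomm _ _ (by rw [(hv a b).2.1, hCab a ha b hb, map_one, one_mul])
    · exact hcomm _ _ (by rw [(hv a b).1, hCab a ha b hb, map_one])
  have htop : M = ⊤ := by
    refine Subgroup.eq_top_of_le_card _ ?_
    let f : C × C → M := fun p => ⟨(p.1 : T) * ρ p.2,
      mul_mem (Subgroup.subset_closure (Or.inl p.1.2)) (Subgroup.subset_closure (Or.inr ⟨_, p.2.2, rfl⟩))⟩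
    have hf : Function.Injective f := by
      rintro ⟨a, b⟩ ⟨a', b'⟩ e
      have e0 : (a : T) * ρ b = a' * ρ b' := congrArg Subtype.val e
      have e1 : ρ ((b : T) * (b' : T)⁻¹) = (a : T)⁻¹ * a' := by
        rw [map_mul, map_inv, eq_inv_mul_iff_mul_eq, ← mul_assoc, e0, mul_inv_cancel_right]
      have h1 := hCρ ((b : T) * (b' : T)⁻¹) (mul_mem b.2 (inv_mem b'.2)) (by rw [e1]; exact mul_mem (inv_mem a.2) a'.2)
      have hb : b = b' := Subtype.ext (mul_inv_eq_one.1 h1)
      subst hb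
      exact Prod.ext (Subtype.ext (mul_right_cancel e0)) rfl
    have := Nat.card_le_card_of_injective f hf
    rw [Nat.card_prod, le_antisymm hCle hCge] at this
    rw [hT]
    omega
  obtain ⟨a, b, hab⟩ := hna
  exact hab (hMc a (htop ▸ Subgroup.mem_top a) b (htop ▸ Subgroup.mem_top b))

theorem exists_involutions {T : Type*} [Group T] [Finite T] (hT : Nat.card T = 64) {ρ : T ≃* T} (hρ : Fpf ρ)
    (hna : ∃ a b : T, a * b ≠ b * a) (x : T ≃* T) (hxx : ∀ y, x (x y) = y) (hxρ : ∀ y, x (ρ y) = ρ (ρ (x y)))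
    (C : Subgroup T) (hC : ∀ y, y ∈ C ↔ x y = y) :
    ∃ a b : T, a * a = 1 ∧ b * b = 1 ∧ a * b ≠ b * a := by
  classical
  obtain ⟨-, z, hzC, hzZ, hz1, hCZ, c, d, hc, hd, hcd⟩ := fixed_facts hT hρ hna x hxx hxρ C hC
  obtain ⟨-, hκ, hsq, hz2⟩ := hρ.structure hT hna
  have hne : c * d ≠ d * c := fun e => hz1 (by rw [← hcd, κ, e]; group)
  have hss : ∀ u ∈ C, u * u = 1 ∨ u * u = z := fun u hu => hCZ _ (mul_mem hu hu) (hsq u)
  have hzd : ∀ u : T, u * z = z * u := fun u => Subgroup.mem_center_iff.1 hzZ u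
  have hdc : d * c = c * d * z := by
    have e : z * (d * c) = c * d := by rw [← hcd, κ]; group
    rw [← e, mul_assoc, hzd (d * c), ← mul_assoc, hz2 z hzZ, one_mul]
  have hcd2 : (c * d) * (c * d) = (c * c) * (d * d) * z := by
    calc (c * d) * (c * d) = c * (d * c) * d := by group
      _ = c * (c * d * z) * d := by rw [hdc]
      _ = c * c * d * (z * d) := by group
      _ = c * c * d * (d * z) := by rw [hzd d]
      _ = _ := by group
  rcases hss c hc with h1 | h1 <;> rcases hss d hd with h2 | h2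
  · exact ⟨c, d, h1, h2, hne⟩
  · refine ⟨c, c * d, h1, by rw [hcd2, h1, h2, one_mul, hz2 z hzZ], fun e => hne ?_⟩
    rw [mul_assoc c d c] at e
    exact mul_left_cancel e
  · refine ⟨d, c * d, h2, by rw [hcd2, h1, h2, mul_one, hz2 z hzZ], fun e => hne ?_⟩
    rw [← mul_assoc] at e
    exact (mul_right_cancel e).symm
  · -- the quaternion case
    have hv := hρ.κ_values hκ hz2
    have hρzc := center_invariant ρ z hzZ
    have hzz := hz2 z hzZ
    have hρρz : ρ (ρ z) = z * ρ z := by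
      rw [hρ.rho_two]
      exact inv_eq_of_mul_eq_one_right (hz2 _ (mul_mem hzZ hρzc))
    have hsymm : ∀ u v : T, κ u v = κ v u := fun u v => by
      rw [← κ_inv u v]
      exact eq_inv_of_mul_eq_one_left (hz2 _ (hκ u v))
    have hmr : ∀ u v w : T, κ u (v * w) = κ u v * κ u w := fun u v w => by
      rw [hsymm, κ_mul_left (hκ w u), hsymm v u, hsymm w u]
    have hsq' : ∀ u v : T, (u * v) * (u * v) = (u * u) * (v * v) * κ v u := fun u v => by
      have e := Subgroup.mem_center_iff.1 (hκ v u)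
      calc (u * v) * (u * v) = u * (κ v u * (u * v)) * v := by simp only [κ]; group
        _ = u * ((u * v) * κ v u) * v := by rw [e (u * v)]
        _ = (u * u * v) * (κ v u * v) := by group
        _ = (u * u * v) * (v * κ v u) := by rw [e v]
        _ = _ := by group
    have k1 : κ (ρ d) c = z * ρ z := by rw [hsymm, (hv c d).2.2, hcd]
    have k2 : κ c (ρ (ρ d)) = ρ z := by
      have hi : ∀ u v : T, κ u v⁻¹ = κ u v := fun u v => by
        have h0 := hmr u v⁻¹ v
        rw [inv_mul_cancel, show κ u 1 = 1 by simp [κ]] at h0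
        exact (eq_inv_of_mul_eq_one_left h0.symm).trans (eq_inv_of_mul_eq_one_left (hz2 _ (hκ u v))).symm
      rw [hρ.rho_two d, hi, hmr, (hv c d).2.2, hcd, ← mul_assoc, hzz, one_mul]
    have hρd2 : ρ d * ρ d = ρ z := by rw [← map_mul, h2]
    have hρρd2 : ρ (ρ d) * ρ (ρ d) = ρ (ρ z) := by rw [← map_mul, hρd2]
    refine ⟨c * ρ d, c * ρ (ρ d), ?_, ?_, fun e => ?_⟩
    · rw [hsq', h1, hρd2, k1, hz2 _ (mul_mem hzZ hρzc)]
    · rw [hsq', h1, hρρd2, hρρz, hsymm, k2, ← mul_assoc, hzz, one_mul, hz2 _ hρzc]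
    · have h5 : κ (c * ρ d) (c * ρ (ρ d)) = 1 := by rw [κ, e]; group
      rw [κ_mul_left (hκ _ _), hmr, hmr, show κ c c = 1 by simp [κ], one_mul, k2, k1,
        show κ (ρ d) (ρ (ρ d)) = 1 by rw [κ, hρ.commute_rho (ρ d)]; group, mul_one,
        ← mul_assoc, hzd (ρ z), mul_assoc, hz2 _ hρzc, mul_one] at h5
      exact hz1 h5

theorem fixed_iso {T : Type*} [Group T] [Finite T] (hT : Nat.card T = 64) {ρ : T ≃* T} (hρ : Fpf ρ)
    (hna : ∃ a b : T, a * b ≠ b * a) (x : T ≃* T) (hxx : ∀ y, x (x y) = y) (hxρ : ∀ y, x (ρ y) = ρ (ρ (x y)))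
    (C : Subgroup T) (hC : ∀ y, y ∈ C ↔ x y = y) :
    Nonempty (↥C ≃* DihedralGroup 4) ∨ Nonempty (↥C ≃* QuaternionGroup 2) := by
  classical
  obtain ⟨hC8, z, hzC, hzZ, hz1, hCZ, c, d, hc, hd, hcd⟩ := fixed_facts hT hρ hna x hxx hxρ C hC
  obtain ⟨-, hκ, hsq, hz2⟩ := hρ.structure hT hna
  have hne : (⟨c, hc⟩ : C) * ⟨d, hd⟩ ≠ ⟨d, hd⟩ * ⟨c, hc⟩ := fun e => hz1 (by
    have e' : c * d = d * c := congrArg Subtype.val e
    rw [← hcd, κ, e']; group)
  by_cases h : ∃ u v : C, u * u = 1 ∧ v * v = 1 ∧ u * v ≠ v * u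
  · left
    obtain ⟨u, v, hu, hv, huv⟩ := h
    exact dihedral_of_involutions hC8 hu hv huv
  · right
    push Not at h
    have hzC2 : (⟨z, hzC⟩ : C) * ⟨z, hzC⟩ = 1 := Subtype.ext (hz2 z hzZ)
    refine quaternion_of_unique hC8 ⟨_, _, hne⟩ ⟨z, hzC⟩ fun u hu hu1 => ?_
    -- an involution outside the centre gives two non-commuting ones
    by_contra hne'
    have hu2 : (u : T) * u = 1 := congrArg Subtype.val hu
    have huZ : (u : T) ∉ Subgroup.center T := fun e => by
      rcases hCZ u u.2 e with e' | e'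
      · exact hu1 (Subtype.ext e')
      · exact hne' (Subtype.ext e')
    obtain ⟨v, hv, huv⟩ : ∃ v ∈ C, (u : T) * v ≠ v * u := by
      by_contra hall
      push Not at hall
      apply huZ
      have hv' := hρ.κ_values hκ hz2
      refine Subgroup.mem_center_iff.2 fun y => ?_
      set M := Subgroup.closure ((C : Set T) ∪ (ρ '' (C : Set T))) with hM
      have hf : Function.Injective (fun p : C × C => (⟨(p.1 : T) * ρ p.2,
          mul_mem (Subgroup.subset_closure (Or.inl p.1.2)) (Subgroup.subset_closure (Or.inr ⟨_, p.2.2, rfl⟩))⟩ : M)) := by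
        rintro ⟨a, b⟩ ⟨a', b'⟩ e
        have e0 : (a : T) * ρ b = a' * ρ b' := congrArg Subtype.val e
        have e1 : ρ ((b : T) * (b' : T)⁻¹) = (a : T)⁻¹ * a' := by
          rw [map_mul, map_inv, eq_inv_mul_iff_mul_eq, ← mul_assoc, e0, mul_inv_cancel_right]
        have h1 : ρ ((b : T) * (b' : T)⁻¹) ∈ C := by rw [e1]; exact mul_mem (inv_mem a.2) a'.2
        have h2 := (hC _).1 h1
        rw [hxρ, (hC _).1 (mul_mem b.2 (inv_mem b'.2))] at h2
        have hb : b = b' := Subtype.ext (mul_inv_eq_one.1 (hρ.fixed _ (ρ.injective h2)))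
        subst hb
        exact Prod.ext (Subtype.ext (mul_right_cancel e0)) rfl
      have hcard := Nat.card_le_card_of_injective _ hf
      rw [Nat.card_prod, hC8] at hcard
      have htop : M = ⊤ := Subgroup.eq_top_of_le_card _ (by rw [hT]; omega)
      have hle : M ≤ Subgroup.centralizer ({(u : T)} : Set T) := by
        rw [hM, Subgroup.closure_le]
        rintro w (hw | ⟨w, hw, rfl⟩)
        · exact Subgroup.mem_centralizer_singleton_iff.2 (hall w hw).symm
        · refine Subgroup.mem_centralizer_singleton_iff.2 (Eq.symm ?_)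
          have hk : κ (u : T) w = 1 := by rw [κ, hall w hw]; group
          have hk' : κ (u : T) (ρ w) = 1 := by rw [(hv' _ _).2.2, hk, map_one, one_mul]
          rwa [κ, mul_inv_eq_one, mul_inv_eq_iff_eq_mul] at hk'
      exact Subgroup.mem_centralizer_singleton_iff.1 (hle (htop ▸ Subgroup.mem_top y))
    have hκuv : κ (u : T) v = z := by
      rcases hCZ _ (mul_mem (mul_mem (mul_mem u.2 hv) (inv_mem u.2)) (inv_mem hv)) (hκ _ _) with e | e
      · exact absurd (by rwa [mul_inv_eq_one, mul_inv_eq_iff_eq_mul] at e) huv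
      · exact e
    rcases hCZ _ (mul_mem hv hv) (hsq v) with hv2 | hv2
    · exact huv (congrArg Subtype.val (h u ⟨v, hv⟩ hu (Subtype.ext hv2)))
    · have e2 : ((u : T) * v) * ((u : T) * v) = 1 := by
        have hzd := Subgroup.mem_center_iff.1 hzZ
        have hvu : v * (u : T) = (u : T) * v * z := by
          have e : z * (v * (u : T)) = u * v := by rw [← hκuv, κ]; group
          rw [← e, mul_assoc, hzd (v * u), ← mul_assoc, hz2 z hzZ, one_mul]
        calc ((u : T) * v) * ((u : T) * v) = u * (v * u) * v := by group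
          _ = u * (u * v * z) * v := by rw [hvu]
          _ = (u * u) * v * (z * v) := by group
          _ = (u * u) * (v * v) * z := by rw [← hzd v]; group
          _ = 1 := by rw [hu2, hv2, one_mul, hz2 z hzZ]
      have := congrArg Subtype.val (h u (u * ⟨v, hv⟩) hu (Subtype.ext e2))
      change (u : T) * (u * v) = u * v * u at this
      rw [mul_assoc (u : T) v] at this
      exact huv (mul_left_cancel this)


/-- Let T be a non-abelian group of order 64 admitting automorphisms ρ of order 3 and x of order 2 with x ρ x⁻¹ = ρ⁻¹ (so they generate a symmetric group of degree 3), where ρ fixes only the identity. Then T is isomorphic to a Sylow 2-subgroup of the projective special linear group of dimension 3 over the field with 4 elements, and the subgroup of fixed points of x is dihedral of order 8 or quaternion of order 8. -/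
theorem result {T : Type*} [Group T] [Finite T] (hT : Nat.card T = 64) (hna : ¬ IsMulCommutative T) (ρ x : MulAut T) (hρ : orderOf ρ = 3) (hx : orderOf x = 2)
    (hxr : x * ρ * x⁻¹ = ρ⁻¹) (hfp : ∀ y : T, ρ y = y → y = 1) (C : Subgroup T) (hC : ∀ y : T, y ∈ C ↔ x y = y) :
    (∃ (F : Type) (_ : Field F) (_ : Fintype F), Fintype.card F = 4 ∧
        ∃ S : Sylow 2 (Matrix.ProjectiveSpecialLinearGroup (Fin 3) F), Nonempty (T ≃* ↥(S : Subgroup (Matrix.ProjectiveSpecialLinearGroup (Fin 3) F)))) ∧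
      (Nonempty (↥C ≃* DihedralGroup 4) ∨ Nonempty (↥C ≃* QuaternionGroup 2)) := by
  classical
  haveI : Fact (Nat.Prime 2) := ⟨Nat.prime_two⟩
  have hρ3 : ρ ^ 3 = 1 := hρ ▸ pow_orderOf_eq_one ρ
  have hx2 : x ^ 2 = 1 := hx ▸ pow_orderOf_eq_one x
  have hfpf : Fpf ρ := ⟨fun y => by
    have := MulEquiv.congr_fun hρ3 y
    simpa [pow_succ] using this, hfp⟩
  have hxx : ∀ y, x (x y) = y := fun y => by
    have := MulEquiv.congr_fun hx2 y
    simpa [sq] using this
  have hxρ : ∀ y, x (ρ y) = ρ (ρ (x y)) := fun y => by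
    have h1 := MulEquiv.congr_fun hxr (x y)
    simp only [MulAut.mul_apply, MulAut.inv_apply, MulEquiv.symm_apply_apply] at h1
    rw [h1]
    apply ρ.injective
    rw [MulEquiv.apply_symm_apply, hfpf.cube]
  have hna' : ∃ a b : T, a * b ≠ b * a := by
    by_contra hc
    push Not at hc
    exact hna ⟨⟨hc⟩⟩
  obtain ⟨a, b, ha2, hb2, hab⟩ := exists_involutions hT hfpf hna' x hxx hxρ C hC
  refine ⟨?_, fixed_iso hT hfpf hna' x hxx hxρ C hC⟩
  haveI : Fintype (GaloisField 2 2) := Fintype.ofFinite _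
  have hF : Fintype.card (GaloisField 2 2) = 4 := by
    rw [← Nat.card_eq_fintype_card, GaloisField.card 2 2 (by norm_num)]
    rfl
  obtain ⟨g⟩ := hfpf.exists_gen hT a b ha2 hb2 hab
  obtain ⟨S, ⟨g'⟩⟩ := exists_model hF
  exact ⟨GaloisField 2 2, inferInstance, inferInstance, hF, S, g.nonempty_equiv g'⟩

end Cfsg.Agent.S3157
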