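import Cfsg.Statements.S3784
import Mathlib

set_option autoImplicit false
open Cfsg

namespace Cfsg.Agent.S3784

/-- For odd `x` and odd `n`, if `x ^ n - 1` is `± 2 ^ k` then `x ^ n - 1 = ± (x - 1)`. -/
theorem odd_geom {x : ℤ} {n k : ℕ} (hx : Odd x) (hn : Odd n) (h : (x ^ n - 1).natAbs = 2 ^ k) :
    (x ^ n - 1).natAbs = (x - 1).natAbs := by
  have hS : Odd (∑ i ∈ Finset.range n, x ^ i) := by
    rw [Int.odd_iff]
    have h2 : ((∑ i ∈ Finset.range n, x ^ i : ℤ) : ZMod 2) = 1 := by
      push_cast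
      have hx2 : (x : ZMod 2) = 1 := by
        obtain ⟨m, rfl⟩ := hx
        push_cast
        rw [show (2 : ZMod 2) = 0 from rfl]
        ring
      simp only [hx2, one_pow, Finset.sum_const, Finset.card_range, nsmul_eq_mul, mul_one]
      obtain ⟨m, rfl⟩ := hn
      push_cast
      rw [show (2 : ZMod 2) = 0 from rfl]
      ring
    have h3 := (ZMod.intCast_eq_intCast_iff' (∑ i ∈ Finset.range n, x ^ i) 1 2).1 (by rw [h2]; simp)
    simpa using h3
  rw [← geom_sum_mul x n, Int.natAbs_mul] at h ⊢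
  have hd : (∑ i ∈ Finset.range n, x ^ i).natAbs ∣ 2 ^ k := ⟨_, h.symm⟩
  have hcop : Nat.Coprime (∑ i ∈ Finset.range n, x ^ i).natAbs (2 ^ k) :=
    (Nat.coprime_two_right.2 (Int.natAbs_odd.2 hS)).pow_right k
  rw [Nat.Coprime.eq_one_of_dvd hcop hd, one_mul]

/-- Let p, q be primes and a, b positive integers with p^a = q^b + 1. Then either p = 2, b = 1, a is prime and q = 2^a − 1; or q = 2, a = 1, b is a power of 2 and p = 2^b + 1; or p^a = 9 and q^b = 8. -/
theorem result (p q a b : ℕ) (hp : p.Prime) (hq : q.Prime) (ha : 1 ≤ a) (hb : 1 ≤ b) (h : p ^ a = q ^ b + 1) : (p = 2 ∧ b = 1 ∧ a.Prime ∧ q + 1 = 2 ^ a) ∨ (q = 2 ∧ a = 1 ∧ (∃ m : ℕ, b = 2 ^ m) ∧ p = 2 ^ b + 1) ∨ (p ^ a = 9 ∧ q ^ b = 8) := by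
  rcases hp.eq_two_or_odd' with rfl | hpo
  · left
    have hqo : Odd q := by
      rcases hq.eq_two_or_odd' with rfl | h'
      · exfalso
        have h1 : 2 ∣ 2 ^ a := dvd_pow_self 2 (by omega)
        have h2 : 2 ∣ 2 ^ b := dvd_pow_self 2 (by omega)
        omega
      · exact h'
    have hq3 : 3 ≤ q := by
      have := hq.two_le
      obtain ⟨m, rfl⟩ := hqo
      omega
    have hb_odd : Odd b := by
      rcases Nat.even_or_odd b with ⟨c, rfl⟩ | h'
      · exfalso
        obtain ⟨m, hm⟩ := hqo.pow (n := c)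
        have h4 : q ^ (c + c) + 1 = 4 * (m * m + m) + 2 := by rw [pow_add, hm]; ring
        rcases Nat.lt_or_ge a 2 with ha2 | ha2
        · have h5 : 3 ≤ q ^ (c + c) := hq3.trans (Nat.le_self_pow (by omega) q)
          rw [show a = 1 by omega, pow_one] at h
          omega
        · obtain ⟨d, hd⟩ : (4 : ℕ) ∣ 2 ^ a := by
            rw [show (4 : ℕ) = 2 ^ 2 by norm_num]; exact pow_dvd_pow 2 ha2
          omega
      · exact h'
    have key := odd_geom (x := -(q : ℤ)) (k := a) (by exact_mod_cast (hqo.natCast (R := ℤ)).neg) hb_odd (by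
      rw [hb_odd.neg_pow, show -((q : ℤ) ^ b) - 1 = -((q ^ b + 1 : ℕ) : ℤ) by push_cast; ring,
        Int.natAbs_neg, Int.natAbs_natCast, h])
    rw [hb_odd.neg_pow, show -((q : ℤ) ^ b) - 1 = -((q ^ b + 1 : ℕ) : ℤ) by push_cast; ring,
      show -(q : ℤ) - 1 = -((q + 1 : ℕ) : ℤ) by push_cast; ring,
      Int.natAbs_neg, Int.natAbs_natCast, Int.natAbs_neg, Int.natAbs_natCast] at key
    have hb1 : b = 1 := by
      have h1 : q ^ b = q ^ 1 := by rw [pow_one]; omega
      exact Nat.pow_right_injective hq.two_le h1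
    subst hb1
    rw [pow_one] at h
    refine ⟨rfl, rfl, ?_, h.symm⟩
    have ha1 : a ≠ 1 := by
      rintro rfl
      rw [pow_one] at h
      omega
    exact (Nat.prime_of_pow_sub_one_prime (a := 2) ha1 (by
      rw [show 2 ^ a - 1 = q by omega]; exact hq)).2
  · right
    have hq2 : q = 2 := by
      rcases hq.eq_two_or_odd' with h' | h'
      · exact h'
      · exfalso
        obtain ⟨m, hm⟩ := hpo.pow (n := a)
        obtain ⟨l, hl⟩ := h'.pow (n := b)
        omega
    subst hq2
    by_cases ha1 : a = 1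
    · subst ha1
      rw [pow_one] at h
      left
      refine ⟨rfl, rfl, Nat.pow_of_pow_add_prime (a := 2) (n := b) (by norm_num) (by omega) (h ▸ hp), h⟩
    · right
      rcases Nat.even_or_odd a with ⟨c, rfl⟩ | hao
      · have hp3 : 3 ≤ p := by
          have := hp.two_le
          obtain ⟨m, rfl⟩ := hpo
          omega
        have hc3 : 3 ≤ p ^ c := hp3.trans (Nat.le_self_pow (by omega) p)
        have hprod : (p ^ c - 1) * (p ^ c + 1) = 2 ^ b := by
          have h2 : p ^ c * p ^ c = 2 ^ b + 1 := by rw [← pow_add]; exact h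
          obtain ⟨k, hk⟩ := Nat.exists_eq_add_of_le hc3
          rw [hk] at h2 ⊢
          rw [show 3 + k - 1 = k + 2 by omega]
          nlinarith
        obtain ⟨i, -, hi⟩ := (Nat.dvd_prime_pow Nat.prime_two).1 ⟨_, hprod.symm⟩
        obtain ⟨j, -, hj⟩ := (Nat.dvd_prime_pow Nat.prime_two).1 (Dvd.intro_left _ hprod : p ^ c + 1 ∣ 2 ^ b)
        have hij : 2 ^ j = 2 ^ i + 2 := by omega
        have hi1 : i = 1 := by
          by_contra hne
          rcases Nat.lt_or_ge i 1 with hi0 | hi2
          · rw [show i = 0 by omega, pow_zero] at hi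
            omega
          · obtain ⟨u, hu⟩ : 4 ∣ 2 ^ i := by
              rw [show (4 : ℕ) = 2 ^ 2 by norm_num]; exact pow_dvd_pow 2 (by omega)
            have hj2 : 2 ≤ j := by
              by_contra hj2
              have : 2 ^ j ≤ 2 ^ 1 := Nat.pow_le_pow_right (by norm_num) (by omega)
              omega
            obtain ⟨v, hv⟩ : 4 ∣ 2 ^ j := by
              rw [show (4 : ℕ) = 2 ^ 2 by norm_num]; exact pow_dvd_pow 2 hj2
            omega
        rw [hi1, pow_one] at hi
        have hpc : p ^ c = 3 := by omega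
        refine ⟨by rw [pow_add, hpc]; norm_num, ?_⟩
        rw [pow_add, hpc] at h
        omega
      · exfalso
        have hp3 : 3 ≤ p := by
          have := hp.two_le
          obtain ⟨m, rfl⟩ := hpo
          omega
        have key := odd_geom (x := (p : ℤ)) (k := b) (by exact_mod_cast (hpo.natCast (R := ℤ))) hao (by
          rw [show (p : ℤ) ^ a - 1 = ((2 ^ b : ℕ) : ℤ) by
            have : ((p ^ a : ℕ) : ℤ) = ((2 ^ b + 1 : ℕ) : ℤ) := by rw [h]
            push_cast at this ⊢; linarith, Int.natAbs_natCast])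
        have h1 : p ≤ p ^ a := Nat.le_self_pow (by omega) p
        rw [show (p : ℤ) ^ a - 1 = ((p ^ a - 1 : ℕ) : ℤ) by rw [Nat.cast_sub (by omega)]; push_cast; ring,
          show (p : ℤ) - 1 = ((p - 1 : ℕ) : ℤ) by rw [Nat.cast_sub (by omega)]; push_cast; ring,
          Int.natAbs_natCast, Int.natAbs_natCast] at key
        have h2 : p ^ a = p ^ 1 := by rw [pow_one]; omega
        exact ha1 (Nat.pow_right_injective hp.two_le h2)

end Cfsg.Agent.S3784
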