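import Cfsg.Statements.S0018
import Cfsg.Agent.Lib.Solvable.Fitting

set_option autoImplicit false
open Cfsg

open scoped Pointwise

namespace Cfsg.Agent.S0018

/-- A finite solvable group whose Sylow p-subgroups are abelian has p-length one: a Sylow p-subgroup together with the largest normal subgroup of order prime to p generates a normal subgroup. -/
theorem result {G : Type*} [Group G] [Finite G] [Group.IsSolvable G]
    (p : ℕ) [Fact p.Prime] (P : Sylow p G) (hP : IsMulCommutative P) :
    ((P : Subgroup G) ⊔ Cfsg.pPrimeCore p G).Normal := by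
  have hn : (Cfsg.pPrimeCore p G).Normal := Subgroup.sSup_normal _ fun N hN => hN.1
  set N := Cfsg.pPrimeCore p G
  have hsurj := QuotientGroup.mk'_surjective N
  haveI : Group.IsSolvable (G ⧸ N) := Group.isSolvable_of_surjective hsurj
  have h0 : Cfsg.pPrimeCore p (G ⧸ N) = ⊥ := CfsgLib.Cores.pPrimeCore_quotient_self p
  have hle := CfsgLib.Solvable.centralizer_pCore_le p h0
  set P' := P.mapSurjective hsurj
  have hsub : Cfsg.pCore p (G ⧸ N) ≤ (P' : Subgroup (G ⧸ N)) := CfsgLib.Cores.pCore_le_sylow P'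
  have h1 : (P' : Subgroup (G ⧸ N)) ≤ Subgroup.centralizer (Cfsg.pCore p (G ⧸ N) : Set (G ⧸ N)) := by
    intro x hx
    rw [Subgroup.mem_centralizer_iff]
    intro y hy
    obtain ⟨a, ha, rfl⟩ := hx
    obtain ⟨b, hb, rfl⟩ := hsub hy
    rw [← map_mul, ← map_mul]
    congr 1
    exact congrArg Subtype.val
      (hP.is_comm.comm (⟨b, hb⟩ : (P : Subgroup G)) (⟨a, ha⟩ : (P : Subgroup G)))
  have h2 : (P' : Subgroup (G ⧸ N)) = Cfsg.pCore p (G ⧸ N) := le_antisymm (h1.trans hle) hsub
  have h3 : (P : Subgroup G) ⊔ N = (Cfsg.pCore p (G ⧸ N)).comap (QuotientGroup.mk' N) := by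
    rw [← h2, Sylow.coe_mapSurjective, Subgroup.comap_map_eq, QuotientGroup.ker_mk']
  rw [h3]
  have : (Cfsg.pCore p (G ⧸ N)).Normal := Subgroup.sSup_normal _ fun K hK => hK.1
  exact this.comap _

end Cfsg.Agent.S0018
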