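import Cfsg.Statements.S4189
import Cfsg.Agent.Lib.Transfer.MaximalClass
import Cfsg.Agent.Lib.Fusion.AutTwoGroup
import Cfsg.Agent.Lib.Solvable.UniqueSubgroup

set_option autoImplicit false
open Cfsg

namespace Cfsg.Agent.S4189

/-- Let P be a finite non-abelian 2-group whose commutator subgroup has index 4 and whose automorphism group is not a 2-group (some automorphism has order that is not a power of 2). Then P is isomorphic to the quaternion group of order 8. -/
theorem result {P : Type*} [Group P] [Finite P] (hP : IsPGroup 2 P) (hna : ¬ IsMulCommutative P) (h4 : (commutator P).index = 4) (haut : ¬ IsPGroup 2 (MulAut P)) : Nonempty (P ≃* QuaternionGroup 2) := by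
  open Subgroup in
  open scoped commutatorElement in
  haveI : Fact (Nat.Prime 2) := ⟨Nat.prime_two⟩
  obtain ⟨n, hn⟩ := IsPGroup.iff_card.1 hP
  haveI := hP.isNilpotent
  -- squares lie in the commutator subgroup
  have hsq : ∀ x : P, x ^ 2 ∈ _root_.commutator P := by
    intro x
    have h1 : Nat.card (P ⧸ _root_.commutator P) = 4 := by rw [← index_eq_card, h4]
    by_contra hx
    have h2 : orderOf ((x : P ⧸ _root_.commutator P)) = 4 := by
      have hd := orderOf_dvd_natCard (G := P ⧸ _root_.commutator P) (x : P ⧸ _root_.commutator P)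
      rw [h1] at hd
      obtain ⟨i, hi, hi'⟩ := (Nat.dvd_prime_pow Nat.prime_two).1 (show _ ∣ 2 ^ 2 from hd)
      rcases Nat.lt_or_ge i 2 with h | h
      · refine absurd ((QuotientGroup.eq_one_iff _).1 ?_) hx
        rw [QuotientGroup.mk_pow]
        exact orderOf_dvd_iff_pow_eq_one.1 (hi' ▸ (pow_dvd_pow 2 (show i ≤ 1 by omega)).trans (by norm_num))
      · rw [hi', show i = 2 by omega]; norm_num
    haveI hc : IsCyclic (P ⧸ _root_.commutator P) :=
      isCyclic_of_orderOf_eq_card (x : P ⧸ _root_.commutator P) (by rw [h2, h1])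
    have hle : _root_.commutator P ≤ frattini P := CfsgLib.PGroup.commutator_le_frattini hP
    haveI : IsCyclic (P ⧸ frattini P) := isCyclic_of_surjective
      (QuotientGroup.map _ _ (MonoidHom.id P) hle)
      (fun y => by
        obtain ⟨z, rfl⟩ := QuotientGroup.mk_surjective y
        exact ⟨z, rfl⟩)
    have := CfsgLib.PGroup.isCyclic_of_frattini_quotient (G := P) inferInstance
    exact hna (inferInstance)
  obtain ⟨-, C, hCc, hC2⟩ := CfsgLib.Transfer.maximalClass_two hn h4 hsq
  obtain ⟨c, hc⟩ := isCyclic_iff_exists_zpowers_eq_top.1 hCc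
  set C' := zpowers (c : P) with hC'
  have hCeq : C = C' := by
    rw [hC', ← C.coe_subtype, ← MonoidHom.map_zpowers, hc, ← MonoidHom.range_eq_map, range_subtype]
  obtain ⟨c0, hc0⟩ : ∃ c0 : P, (c : P) = c0 := ⟨_, rfl⟩
  rw [hC', hc0] at hCeq
  rw [hCeq] at hC2
  clear hc hC' C' hc0 c hCc hCeq C
  haveI hCn : (zpowers c0).Normal := normal_of_index_eq_two hC2
  have hcomm : ∀ x ∈ zpowers c0, ∀ y ∈ zpowers c0, x * y = y * x := by
    rintro _ ⟨i, rfl⟩ _ ⟨j, rfl⟩
    exact (Commute.zpow_zpow (Commute.refl c0) i j).eq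
  have hinvol : ∀ y ∈ zpowers c0, y * y = 1 → y ≠ 1 → y = c0 ^ (orderOf c0 / 2) := by
    intro y hy hy2 hy1
    obtain ⟨i, rfl⟩ := hy
    have hi1 : ¬ (orderOf c0 : ℤ) ∣ i := fun h => hy1 (orderOf_dvd_iff_zpow_eq_one.1 h)
    rw [← zpow_add, ← orderOf_dvd_iff_zpow_eq_one] at hy2
    obtain ⟨f, hf⟩ := hy2
    rcases Int.even_or_odd f with ⟨g, rfl⟩ | ⟨g, rfl⟩
    · exact absurd ⟨g, by linarith⟩ hi1
    · rcases Nat.even_or_odd (orderOf c0) with ⟨h, hh⟩ | ⟨h, hh⟩
      · rw [hh, show (h + h) / 2 = h by omega]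
        show c0 ^ i = c0 ^ h
        rw [show i = (orderOf c0 : ℤ) * g + (h : ℤ) by rw [hh] at hf ⊢; push_cast at hf ⊢; linarith,
          zpow_add, zpow_mul, zpow_natCast, pow_orderOf_eq_one, one_zpow, one_mul, zpow_natCast]
      · exfalso
        have h0 : (orderOf c0 : ℤ) * (2 * g + 1) = (2 * (h : ℤ) + 1) * (2 * g + 1) := by rw [hh]; push_cast; ring
        rw [h0] at hf
        have : (2 : ℤ) * i = 2 * (2 * h * g + h + g) + 1 := by rw [two_mul, hf]; ring
        omega
  -- some automorphism moves the cyclic maximal subgroup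
  obtain ⟨α, hα⟩ : ∃ α : MulAut P, α c0 ∉ zpowers c0 := by
    by_contra hcon
    push Not at hcon
    obtain ⟨t, ht⟩ : ∃ t : P, t ∉ zpowers c0 := by
      by_contra h
      push Not at h
      rw [(eq_top_iff' _).2 h, index_top] at hC2
      omega
    refine haut fun a => CfsgLib.Fusion.aut_pow_of_abelian_index_two hP (A := zpowers c0)
      ?_ hcomm (t := t) ?_ ?_ a
    · rintro β _ ⟨i, rfl⟩
      rw [map_zpow]
      exact zpow_mem (hcon β) i
    · intro x
      by_cases hx : x ∈ zpowers c0
      · exact Or.inl hx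
      · refine Or.inr ?_
        rw [mul_mem_iff_of_index_two hC2, inv_mem_iff]
        exact iff_of_false ht hx
    · intro β e he he2
      rcases eq_or_ne e 1 with rfl | hne
      · simp
      obtain ⟨i, rfl⟩ := he
      have hbe : β (c0 ^ i) ∈ zpowers c0 := by rw [map_zpow]; exact zpow_mem (hcon β) i
      have hinv : ∀ y ∈ zpowers c0, y * y = 1 → y ≠ 1 → y = c0 ^ i := by
        intro y hy hy2 hy1
        rw [hinvol y hy hy2 hy1, hinvol _ (zpow_mem (mem_zpowers c0) i) he2 hne]
      have h1 : β (c0 ^ i) = c0 ^ i := hinv _ hbe (by rw [← map_mul, he2, map_one])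
        (fun h => hne (β.map_eq_one_iff.1 h))
      rw [h1, h1]
  set d := α c0 with hd
  set m := orderOf c0
  have hdo : orderOf d = m := α.orderOf_eq c0
  have hmem : ∀ x : P, x ∈ zpowers c0 ∨ d⁻¹ * x ∈ zpowers c0 := by
    intro x
    by_cases hx : x ∈ zpowers c0
    · exact Or.inl hx
    · refine Or.inr ?_
      rw [mul_mem_iff_of_index_two hC2, inv_mem_iff]
      exact iff_of_false hα hx
  have hd2 : d * d ∈ zpowers c0 := mul_self_mem_of_index_two hC2 d
  obtain ⟨j, hj : c0 ^ j = d * d⟩ := hd2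
  -- `d²` generates the subgroup of squares of `C`
  have hm2 : 2 ∣ m := by
    obtain ⟨a, ha⟩ := IsPGroup.iff_orderOf.1 hP c0
    rcases Nat.eq_zero_or_pos a with rfl | h
    · rw [pow_zero, orderOf_eq_one_iff] at ha
      exact absurd (by rw [hd, ha, map_one]; exact one_mem _) hα
    · rw [show m = 2 ^ a from ha]; exact dvd_pow_self 2 h.ne'
  have hdd : zpowers (d * d) = zpowers (c0 ^ 2) := by
    have hcard1 : Nat.card (zpowers (d * d)) = m / 2 := by
      rw [Nat.card_zpowers, ← pow_two, orderOf_pow' _ two_ne_zero, hdo, Nat.gcd_eq_right hm2]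
    have hcard2 : Nat.card (zpowers (c0 ^ 2)) = m / 2 := by
      rw [Nat.card_zpowers, orderOf_pow' _ two_ne_zero, Nat.gcd_eq_right hm2]
    refine eq_of_le_of_card_ge ?_ (le_of_eq (hcard2.trans hcard1.symm))
    rw [zpowers_le]
    rcases Int.even_or_odd j with ⟨f, hf⟩ | hodd
    · exact ⟨f, by
        show (c0 ^ 2) ^ f = d * d
        rw [← hj, hf, ← zpow_natCast, ← zpow_mul]
        congr 1
        push_cast
        ring⟩
    · exfalso
      have h1 : orderOf (d * d) = m := by
        rw [← hj]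
        have h2 : orderOf (c0 ^ j) ∣ m := by
          show orderOf (c0 ^ j) ∣ orderOf c0
          rw [← Nat.card_zpowers c0]
          exact Subgroup.orderOf_dvd_natCard _ (zpow_mem (mem_zpowers c0) j)
        refine Nat.dvd_antisymm h2 ?_
        obtain ⟨f, hf⟩ := hodd
        obtain ⟨a, ha⟩ := IsPGroup.iff_orderOf.1 hP c0
        have hone : c0 ^ (j * orderOf (c0 ^ j) : ℤ) = 1 := by
          rw [zpow_mul, zpow_natCast, pow_orderOf_eq_one]
        have h3 : (m : ℤ) ∣ j * orderOf (c0 ^ j) := orderOf_dvd_iff_zpow_eq_one.2 hone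
        have h4 : IsCoprime (m : ℤ) j := by
          rw [show m = 2 ^ a from ha, Nat.cast_pow]
          exact IsCoprime.pow_left ⟨-f, 1, by rw [hf]; push_cast; ring⟩
        exact Int.natCast_dvd_natCast.1 (h4.dvd_of_dvd_mul_left h3)
      have : m / 2 = m := by rw [← hcard1, Nat.card_zpowers, h1]
      have : 0 < m := orderOf_pos c0
      omega
  have hzc : ∀ x : P, Commute (c0 ^ 2) x := by
    intro x
    have h1 : Commute (c0 ^ 2) d := by
      have : c0 ^ 2 ∈ zpowers (d * d) := hdd ▸ mem_zpowers _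
      obtain ⟨i, hi⟩ := this
      rw [← hi]
      exact ((Commute.refl d).mul_left (Commute.refl d)).zpow_left i
    have hC : ∀ y ∈ zpowers c0, Commute (c0 ^ 2) y := fun y hy =>
      hcomm _ (pow_mem (mem_zpowers c0) 2) _ hy
    rcases hmem x with h | h
    · exact hC x h
    · have := h1.mul_right (hC _ h)
      rwa [mul_inv_cancel_left] at this
  set w := ⁅c0, d⁆ with hw
  have hwC : w ∈ zpowers c0 := by
    rw [hw, commutatorElement_def, show c0 * d * c0⁻¹ * d⁻¹ = c0 * (d * c0⁻¹ * d⁻¹) by group]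
    exact mul_mem (mem_zpowers c0) (hCn.conj_mem _ (inv_mem (mem_zpowers c0)) d)
  have hk : d * c0 * d⁻¹ = w⁻¹ * c0 := by rw [hw, commutatorElement_def]; group
  have hwc : Commute c0 w := hcomm _ (mem_zpowers c0) _ hwC
  have hw2 : w ^ 2 = 1 := by
    have h1 : d * c0 ^ 2 * d⁻¹ = (w⁻¹ * c0) ^ 2 := by rw [← conj_pow, hk]
    rw [(hzc d).symm.eq, mul_inv_cancel_right, (hwc.inv_right.symm).mul_pow, inv_pow] at h1
    exact inv_eq_one.1 (mul_eq_right.1 h1.symm)
  have hwZ : w ∈ center P := by
    rw [mem_center_iff]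
    intro x
    have h1 : Commute d w := by
      have h2 : d * d * c0 * (d * d)⁻¹ = c0 := by
        rw [← hj, (Commute.zpow_left (Commute.refl c0) j).eq, mul_inv_cancel_right]
      have h3 : d * w⁻¹ * d⁻¹ = w := by
        calc d * w⁻¹ * d⁻¹ = (d * d * c0 * (d * d)⁻¹) * (d * c0 * d⁻¹)⁻¹ := by
              rw [hw, commutatorElement_def]; group
          _ = c0 * (w⁻¹ * c0)⁻¹ := by rw [h2, hk]
          _ = w := by group
      have h4 : w⁻¹ = w := inv_eq_of_mul_eq_one_right (by rw [← pow_two, hw2])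
      rw [h4] at h3
      exact mul_inv_eq_iff_eq_mul.1 h3
    have hC : ∀ y ∈ zpowers c0, Commute y w := fun y hy => hcomm _ hy _ hwC
    rcases hmem x with h | h
    · exact (hC x h).eq
    · have := h1.mul_left (hC _ h)
      rw [mul_inv_cancel_left] at this
      exact this.eq
  have hcl : _root_.commutator P ≤ zpowers w := by
    haveI : (zpowers w).Normal := ⟨fun a ha g => by
      obtain ⟨i, rfl⟩ := ha
      have hz : w ^ i ∈ center P := zpow_mem hwZ i
      rw [mem_center_iff.1 hz g, mul_inv_cancel_right]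
      exact ⟨i, rfl⟩⟩
    refine Subgroup.Normal.quotient_commutative_iff_commutator_le.1 ?_
    refine ⟨⟨fun a b => ?_⟩⟩
    set q := QuotientGroup.mk' (zpowers w) with hq
    have hcd : Commute (q c0) (q d) := by
      rw [← commutatorElement_eq_one_iff_commute, ← map_commutatorElement]
      exact (QuotientGroup.eq_one_iff _).2 (mem_zpowers w)
    have hgen : ∀ x : P, ∃ i : ℤ, ∃ e : ℕ, q x = q c0 ^ i * q d ^ e := by
      intro x
      rcases hmem x with ⟨i, hi⟩ | ⟨i, hi⟩
      · exact ⟨i, 0, by rw [← hi]; simp⟩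
      · refine ⟨i, 1, ?_⟩
        rw [pow_one, (hcd.zpow_left i).eq, ← map_zpow, ← map_mul]
        exact congrArg q (by rw [show c0 ^ i = d⁻¹ * x from hi, mul_inv_cancel_left])
    obtain ⟨x, rfl⟩ := QuotientGroup.mk_surjective a
    obtain ⟨y, rfl⟩ := QuotientGroup.mk_surjective b
    obtain ⟨i, e, hx⟩ := hgen x
    obtain ⟨i', e', hy⟩ := hgen y
    show q x * q y = q y * q x
    rw [hx, hy]
    exact (((Commute.refl (q c0)).zpow_zpow i i').mul_right ((hcd.zpow_left i).pow_right e')).mul_left
      (((hcd.symm.pow_left e).zpow_right i').mul_right ((Commute.refl (q d)).pow_pow e e')) |>.eq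
  have hw1 : w ≠ 1 := by
    intro h
    rw [h, zpowers_one_eq_bot, le_bot_iff] at hcl
    refine hna ⟨⟨fun a b => ?_⟩⟩
    rw [← commutatorElement_eq_one_iff_mul_comm, ← mem_bot, ← hcl]
    exact commutator_mem_commutator (mem_top a) (mem_top b)
  have hwo : orderOf w = 2 := orderOf_eq_prime hw2 hw1
  have hcard8 : Nat.card P = 8 := by
    have h1 : Nat.card (_root_.commutator P) ∣ 2 := by
      rw [← hwo, ← Nat.card_zpowers]; exact card_dvd_of_le hcl
    have h2 := (_root_.commutator P).card_mul_index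
    rw [h4] at h2
    rcases (Nat.dvd_prime Nat.prime_two).1 h1 with h | h
    · rw [card_eq_one] at h
      refine absurd ?_ hw1
      rw [← mem_bot, ← h]
      exact commutator_mem_commutator (mem_top c0) (mem_top d)
    · omega
  have hm4 : m = 4 := by
    have h2 := (zpowers c0).card_mul_index
    rw [hC2, hcard8, Nat.card_zpowers] at h2
    omega
  have hc2 : ∀ y ∈ zpowers c0, y * y = 1 → y ≠ 1 → y = c0 ^ 2 := fun y hy hy2 hy1 => by
    have := hinvol y hy hy2 hy1
    rwa [hm4] at this
  have hdsq : d * d = c0 ^ 2 := by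
    refine hc2 _ ⟨j, hj⟩ ?_ ?_
    · rw [← mul_assoc, show d * d * d * d = d ^ m by rw [hm4]; simp [pow_succ, mul_assoc], ← hdo,
        pow_orderOf_eq_one]
    · rw [← pow_two]
      intro h
      have := orderOf_dvd_of_pow_eq_one h
      rw [hdo, hm4] at this
      exact absurd this (by decide)
  have hwval : w = c0 ^ 2 := hc2 w hwC (by rw [← pow_two, hw2]) hw1
  have huniq : ∀ x : P, orderOf x = 2 → x = c0 ^ 2 := by
    intro x hx
    have hx2 : x * x = 1 := by rw [← pow_two, ← hx, pow_orderOf_eq_one]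
    have hx1 : x ≠ 1 := fun h => by simp [h] at hx
    rcases hmem x with h | h
    · exact hc2 x h hx2 hx1
    · exfalso
      obtain ⟨i, hi : c0 ^ i = d⁻¹ * x⟩ := h
      have hxe : x = d * c0 ^ i := by rw [hi, mul_inv_cancel_left]
      have hdc : d⁻¹ * c0 * d = c0⁻¹ := by
        have h5 : d⁻¹ * c0 * d = w * c0 := by
          calc d⁻¹ * c0 * d = w * (d⁻¹ * (w⁻¹ * c0) * d) := by
                rw [← mul_assoc d⁻¹ w⁻¹ c0, mem_center_iff.1 (inv_mem hwZ) d⁻¹]
                group
            _ = w * c0 := by rw [← hk]; group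
        rw [h5, eq_inv_iff_mul_eq_one, hwval, ← pow_succ, ← pow_succ,
          show 2 + 1 + 1 = m from hm4.symm, pow_orderOf_eq_one]
      have hconj : d⁻¹ * c0 ^ i * d = c0 ^ (-i) := by
        rw [zpow_neg, ← inv_zpow, ← hdc]
        have := (map_zpow (MulAut.conj d⁻¹) c0 i)
        simpa [MulAut.conj_apply] using this
      have h6 : x * x = d * d := by
        rw [hxe, show d * c0 ^ i * (d * c0 ^ i) = d * d * (d⁻¹ * c0 ^ i * d) * c0 ^ i by group, hconj,
          mul_assoc, zpow_neg, inv_mul_cancel, mul_one]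
      rw [hx2, hdsq] at h6
      have := orderOf_dvd_of_pow_eq_one h6.symm
      change m ∣ 2 at this
      rw [hm4] at this
      exact absurd this (by decide)
  rcases CfsgLib.Solvable.isCyclic_or_quaternion hP (fun x y hx hy => by
    rw [huniq x hx, huniq y hy]; exact mem_zpowers _) with hcy | ⟨-, k, ⟨e⟩⟩
  · exact (hna inferInstance).elim
  · have h1 := Nat.card_congr e.toEquiv
    rw [hcard8, Nat.card_eq_fintype_card, QuaternionGroup.card] at h1
    have : k = 1 := by
      have : (2 : ℕ) ^ k = 2 ^ 1 := by omega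
      exact Nat.pow_right_injective le_rfl this
    subst this
    exact ⟨e⟩

end Cfsg.Agent.S4189
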