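import Cfsg.Statements.S0204
import Cfsg.Agent.Lib.Invol.ZStarFinal
import Cfsg.Agent.S0205

set_option autoImplicit false
open Cfsg

namespace Cfsg.Agent.S0204

/-- A non-cyclic finite simple group contains a subgroup which is a Klein four-group; this combines the Odd Order Theorem, Burnside's transfer argument for cyclic Sylow 2-subgroups and the Brauer–Suzuki Theorem. -/
theorem result {G : Type*} [Group G] [Finite G] [IsSimpleGroup G] (hG : ¬ IsCyclic G) : ∃ E : Subgroup G, IsKleinFour E := by
  by_contra hcon
  simp only [not_exists] at hcon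
  have hcomm_cyc : ¬ ∀ a b : G, a * b = b * a := fun h => by
    letI : CommGroup G := { (inferInstance : Group G) with mul_comm := h }
    exact hG inferInstance
  rcases Nat.even_or_odd (Nat.card G) with he | ho
  · obtain ⟨z, hz, N, hN, hNodd, hzN⟩ := CfsgLib.Invol.two_rank_one CfsgLib.Invol.constTwo he hcon
    rcases hN.eq_bot_or_eq_top with h | h
    · have hzc : z ∈ Subgroup.center G := Subgroup.mem_center_iff.2 fun g => by
        have := hzN g
        rw [h, Subgroup.mem_bot, mul_inv_eq_one, mul_inv_eq_iff_eq_mul] at this
        exact this.symm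
      rcases (inferInstance : (Subgroup.center G).Normal).eq_bot_or_eq_top with hc | hc
      · rw [hc, Subgroup.mem_bot] at hzc
        rw [hzc, orderOf_one] at hz
        norm_num at hz
      · exact hcomm_cyc fun a b => (Subgroup.mem_center_iff.1 (hc ▸ Subgroup.mem_top b) a)
    · rw [h, Subgroup.card_top] at hNodd
      exact (Nat.not_even_iff_odd.2 hNodd) he
  · haveI : Group.IsSolvable G := Cfsg.Agent.S0205.result ho
    exact hcomm_cyc (IsSimpleGroup.comm_iff_isSolvable.2 inferInstance)

end Cfsg.Agent.S0204
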