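import Cfsg.Statements.S3919
import Cfsg.Agent.Lib.Transfer.MaximalClass
import Cfsg.Agent.Lib.PGroup.AbelianConj
import Cfsg.Agent.Lib.Solvable.FrobeniusComplement

set_option autoImplicit false
open Cfsg

namespace Cfsg.Agent.S3919

theorem quaternion_centralizer {k : ℕ} (hk : k ≠ 0) (g : QuaternionGroup (2 ^ k))
    (hg : g * QuaternionGroup.xa 0 = QuaternionGroup.xa 0 * g) :
    g ∈ Subgroup.zpowers (QuaternionGroup.xa 0 : QuaternionGroup (2 ^ k)) := by
  have key : ∀ i : ZMod (2 * 2 ^ k), i + i = 0 → i = 0 ∨ i = ((2 ^ k : ℕ) : ZMod (2 * 2 ^ k)) := by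
    intro i hi
    obtain ⟨j, hj, rfl⟩ : ∃ j : ℕ, j < 2 * 2 ^ k ∧ (j : ZMod (2 * 2 ^ k)) = i :=
      ⟨i.val, ZMod.val_lt i, ZMod.natCast_zmod_val i⟩
    rw [← Nat.cast_add, ZMod.natCast_eq_zero_iff] at hi
    obtain ⟨c, hc⟩ := hi
    have hc2 : c ≤ 1 := by
      by_contra h
      have : 2 * 2 ^ k * 2 ≤ 2 * 2 ^ k * c := Nat.mul_le_mul_left _ (by omega)
      omega
    interval_cases c
    · left
      rw [show j = 0 by omega, Nat.cast_zero]
    · right
      rw [show j = 2 ^ k by omega]
  have hn : (QuaternionGroup.a ((2 ^ k : ℕ) : ZMod (2 * 2 ^ k)) : QuaternionGroup (2 ^ k)) ∈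
      Subgroup.zpowers (QuaternionGroup.xa 0 : QuaternionGroup (2 ^ k)) :=
    ⟨2, by show (QuaternionGroup.xa 0 : QuaternionGroup (2 ^ k)) ^ ((2 : ℕ) : ℤ) = _; rw [zpow_natCast, QuaternionGroup.xa_sq]⟩
  cases g with
  | a i =>
    rw [QuaternionGroup.a_mul_xa, QuaternionGroup.xa_mul_a, QuaternionGroup.xa.injEq, zero_sub, zero_add] at hg
    rcases key i (by nth_rewrite 1 [← hg]; exact neg_add_cancel i) with rfl | rfl
    · rw [QuaternionGroup.a_zero]; exact one_mem _
    · exact hn
  | xa i =>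
    rw [QuaternionGroup.xa_mul_xa, QuaternionGroup.xa_mul_xa, QuaternionGroup.a.injEq] at hg
    have h2 : i + i = 0 := by linear_combination -hg
    rcases key i h2 with rfl | rfl
    · exact Subgroup.mem_zpowers _
    · have h3 := Subgroup.mul_mem _ (Subgroup.mem_zpowers (QuaternionGroup.xa 0 : QuaternionGroup (2 ^ k))) hn
      rwa [QuaternionGroup.xa_mul_a, zero_add] at h3

theorem maximalClass_of_sc {G : Type*} [Group G] [Finite G] (hna : ¬ IsMulCommutative G) {n : ℕ}
    (hG : Nat.card G = 2 ^ n)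
    (h : ∀ H : Subgroup G, ¬ IsCyclic ↥H → Subgroup.centralizer (H : Set G) ≤ H) :
    Group.nilpotencyClass G = n - 1 := by
  haveI : Fact (Nat.Prime 2) := ⟨Nat.prime_two⟩
  have hP : IsPGroup 2 G := IsPGroup.of_card hG
  by_cases hu : ∀ x y : (⊤ : Subgroup G), orderOf x = 2 → orderOf y = 2 → x ∈ Subgroup.zpowers y
  · have hu' : ∀ x y : G, orderOf x = 2 → orderOf y = 2 → x ∈ Subgroup.zpowers y := by
      intro x y hx hy
      obtain ⟨i, hi⟩ := hu ⟨x, Subgroup.mem_top x⟩ ⟨y, Subgroup.mem_top y⟩ (by rwa [Subgroup.orderOf_mk]) (by rwa [Subgroup.orderOf_mk])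
      exact ⟨i, by simpa using congrArg Subtype.val hi⟩
    rcases CfsgLib.Solvable.isCyclic_or_quaternion hP hu' with hc | ⟨-, k, ⟨e⟩⟩
    · haveI := hc
      exact absurd ⟨⟨(IsCyclic.commGroup (α := G)).mul_comm⟩⟩ hna
    · have hk : k ≠ 0 := by
        rintro rfl
        rw [pow_zero] at e
        haveI := QuaternionGroup.quaternionGroup_one_isCyclic
        haveI := isCyclic_of_surjective _ e.symm.surjective
        exact hna ⟨⟨(IsCyclic.commGroup (α := G)).mul_comm⟩⟩
      set y := e.symm (QuaternionGroup.xa 0) with hy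
      refine CfsgLib.Transfer.nilpotencyClass_of_self_centralizing hG (Subgroup.zpowers y) ?_ ?_
      · rw [Nat.card_zpowers, hy, e.symm.orderOf_eq, QuaternionGroup.orderOf_xa]; rfl
      · refine le_antisymm (fun g hg => ?_) ?_
        · have h1 := congrArg e (Subgroup.mem_centralizer_iff.1 hg y (Subgroup.mem_zpowers y))
          rw [map_mul, map_mul, hy, e.apply_symm_apply] at h1
          obtain ⟨i, hi⟩ := quaternion_centralizer hk (e g) h1.symm
          exact ⟨i, e.injective (by rw [hy, map_zpow, e.apply_symm_apply]; exact hi)⟩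
        · exact Subgroup.le_centralizer _
  · obtain ⟨E, -, hEc, hEcard, hEexp⟩ := CfsgLib.PGroup.exists_plane_of_not_unique (hP.to_subgroup ⊤) hu
    have hEn : ¬ IsCyclic E := by
      intro hc
      obtain ⟨g, hg⟩ := IsCyclic.exists_ofOrder_eq_natCard (α := E)
      have h2 := hEexp g g.2
      rw [← SubmonoidClass.coe_pow, OneMemClass.coe_eq_one] at h2
      have := Nat.le_of_dvd (by norm_num) (orderOf_dvd_of_pow_eq_one h2)
      rw [hg, hEcard] at this
      norm_num at this
    exact CfsgLib.Transfer.nilpotencyClass_of_self_centralizing hG E hEcard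
      (le_antisymm (h E hEn) (@Subgroup.le_centralizer _ _ E hEc))

theorem sc_of_maximalClass {G : Type*} [Group G] [Finite G] {n : ℕ} (hn : 3 ≤ n)
    (hG : Nat.card G = 2 ^ n) (hc : Group.nilpotencyClass G = n - 1)
    (H : Subgroup G) (hH : ¬ IsCyclic ↥H) : Subgroup.centralizer (H : Set G) ≤ H := by
  haveI : Fact (Nat.Prime 2) := ⟨Nat.prime_two⟩
  have hP : IsPGroup 2 G := IsPGroup.of_card hG
  haveI := hP.isNilpotent
  obtain ⟨hidx, hsq⟩ := CfsgLib.Transfer.squares_mem_commutator hn hG hc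
  obtain ⟨-, C, hCc, hCi⟩ := CfsgLib.Transfer.maximalClass_two hG hidx hsq
  haveI := hCc
  haveI : IsMulCommutative C := ⟨⟨(IsCyclic.commGroup (α := C)).mul_comm⟩⟩
  have hna : ¬ ∀ x y : G, x * y = y * x := by
    intro hab
    have : Group.nilpotencyClass G ≤ 1 := by
      refine Subgroup.lowerCentralSeries_eq_bot_iff_nilpotencyClass_le.1 ?_
      rw [Subgroup.top_lowerCentralSeries_one, commutator_def, Subgroup.commutator_eq_bot_iff_le_centralizer]
      exact fun x _ => Subgroup.mem_centralizer_iff.2 fun y _ => hab y x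
    omega
  have hsplit : ∀ y : G, y ∉ C → ∀ g : G, g ∈ C ∨ y * g ∈ C := fun y hy g => by
    by_cases hg : g ∈ C
    · exact Or.inl hg
    · exact Or.inr ((Subgroup.mul_mem_iff_of_index_two hCi).2 (iff_of_false hy hg))
  have hcent : ∀ y, y ∉ C → ∀ c ∈ C, y * c = c * y → c ∈ Subgroup.center G := by
    intro y hy c hc' hcomm
    rw [Subgroup.mem_center_iff]
    intro g
    have hcC : ∀ d ∈ C, d * c = c * d := fun d hd =>
      congrArg Subtype.val ((IsCyclic.commGroup (α := C)).mul_comm (⟨d, hd⟩ : C) ⟨c, hc'⟩)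
    rcases hsplit y hy g with hg | hg
    · exact hcC g hg
    · have h1 := hcC _ hg
      have : y * g * c = y * (c * g) := by rw [h1, ← mul_assoc c, ← hcomm, mul_assoc]
      rw [mul_assoc] at this
      exact mul_left_cancel this
  have hZC : Subgroup.center G ≤ C := by
    intro z hz
    by_contra hzC
    apply hna
    intro a b
    have hcc : ∀ d ∈ C, d ∈ Subgroup.center G := fun d hd =>
      hcent z hzC d hd (Subgroup.mem_center_iff.1 hz d).symm
    have : ∀ g : G, g ∈ Subgroup.center G := fun g => by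
      rcases hsplit z hzC g with hg | hg
      · exact hcc g hg
      · simpa using (Subgroup.center G).mul_mem ((Subgroup.center G).inv_mem hz) (hcc _ hg)
    exact (Subgroup.mem_center_iff.1 (this b) a)
  have hZ2 : Nat.card (Subgroup.center G) ≤ 2 := by
    obtain ⟨r, hr, hrZ⟩ := (Nat.dvd_prime_pow Nat.prime_two).1 (hG ▸ (Subgroup.center G).index_dvd_card)
    by_cases h2 : 2 ≤ r
    · have h1 := CfsgLib.Transfer.normal_eq_lowerCentralSeries hG hc (by omega) (Subgroup.center G) h2 hrZ
      have hbot : (⊤ : Subgroup G).lowerCentralSeries (r - 1 + 1) = ⊥ := by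
        rw [Subgroup.lowerCentralSeries_succ, ← h1, Subgroup.commutator_eq_bot_iff_le_centralizer]
        exact Subgroup.center_le_centralizer _
      have h3 := Subgroup.lowerCentralSeries_eq_bot_iff_nilpotencyClass_le.1 hbot
      rw [h1, CfsgLib.Transfer.card_lowerCentralSeries hG (by omega) hc (by omega) (by omega)]
      calc 2 ^ (n - 1 - (r - 1)) ≤ 2 ^ 1 := Nat.pow_le_pow_right (by norm_num) (by omega)
        _ = 2 := by norm_num
    · exfalso
      apply hna
      have hcyc : IsCyclic (G ⧸ Subgroup.center G) := by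
        interval_cases r
        · haveI : Subsingleton (G ⧸ Subgroup.center G) :=
            (Nat.card_eq_one_iff_unique.1 (by rw [← Subgroup.index_eq_card, hrZ, pow_zero])).1
          infer_instance
        · exact isCyclic_of_prime_card (p := 2) (by rw [← Subgroup.index_eq_card, hrZ, pow_one])
      haveI := hcyc
      exact commutative_of_cyclic_center_quotient (QuotientGroup.mk' (Subgroup.center G)) (by rw [QuotientGroup.ker_mk'])
  haveI : Nontrivial G := by
    refine Finite.one_lt_card_iff_nontrivial.1 ?_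
    rw [hG]; exact Nat.one_lt_pow (by omega) (by norm_num)
  have hHC : ¬ H ≤ C := fun hle => hH (Subgroup.isCyclic_of_le hle)
  obtain ⟨y, hyH, hyC⟩ := SetLike.not_le_iff_exists.1 hHC
  have hHC' : H ⊓ C ≠ ⊥ := by
    intro hb
    apply hH
    refine ⟨⟨⟨y, hyH⟩, fun ⟨g, hg⟩ => ?_⟩⟩
    rcases hsplit y hyC g with h1 | h1
    · have : g = 1 := Subgroup.mem_bot.1 (hb ▸ (⟨hg, h1⟩ : g ∈ H ⊓ C))
      exact ⟨0, Subtype.ext (by simpa using this.symm)⟩
    · have : y * g = 1 := Subgroup.mem_bot.1 (hb ▸ (⟨H.mul_mem hyH hg, h1⟩ : y * g ∈ H ⊓ C))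
      exact ⟨-1, Subtype.ext (by simpa using (inv_eq_of_mul_eq_one_right this))⟩
  haveI := hP.center_nontrivial
  have hZH : Subgroup.center G ≤ H := by
    obtain ⟨m, hm⟩ := IsPGroup.iff_card.1 (hP.to_subgroup (H ⊓ C))
    have hm0 : m ≠ 0 := by
      rintro rfl
      exact hHC' (Subgroup.eq_bot_of_card_eq _ (by rw [hm, pow_zero]))
    obtain ⟨w, hw⟩ := exists_prime_orderOf_dvd_card' (G := ↥(H ⊓ C)) 2 (hm ▸ dvd_pow_self 2 hm0)
    intro z hz
    by_cases hz1 : z = 1
    · rw [hz1]; exact H.one_mem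
    have hzo : orderOf z = 2 := by
      have h1 := Nat.le_of_dvd Nat.card_pos ((Subgroup.orderOf_dvd_natCard _ hz))
      have h2 : 1 < orderOf z := by
        have := orderOf_pos z
        have := mt orderOf_eq_one_iff.1 hz1
        omega
      omega
    obtain ⟨i, hi⟩ := CfsgLib.Solvable.mem_zpowers_of_isCyclic (x := (⟨z, hZC hz⟩ : C)) (y := ⟨(w : G), w.2.2⟩)
      (by rw [Subgroup.orderOf_mk, Subgroup.orderOf_mk, hzo, Subgroup.orderOf_coe, hw])
    rw [show z = (w : G) ^ i by simpa using (congrArg Subtype.val hi).symm]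
    exact H.zpow_mem w.2.1 i
  intro g hg
  have hgy := Subgroup.mem_centralizer_iff.1 hg y hyH
  rcases hsplit y hyC g with h1 | h1
  · exact hZH (hcent y hyC g h1 hgy)
  · have h2 := hZH (hcent y hyC _ h1 (by rw [mul_assoc, hgy]))
    simpa using H.mul_mem (H.inv_mem hyH) h2

/-- Say that a group has self-centralizing non-cyclic subgroups when every non-cyclic subgroup H satisfies C_G(H) ≤ H. A finite non-abelian 2-group G of order 2^n has self-centralizing non-cyclic subgroups if and only if G has nilpotency class n − 1 (that is, G is dihedral, semidihedral or generalized quaternion). -/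
theorem result {G : Type*} [Group G] [Finite G] (hna : ¬ IsMulCommutative G) (n : ℕ) (hG : Nat.card G = 2 ^ n) :
    (∀ H : Subgroup G, ¬ IsCyclic ↥H → Subgroup.centralizer (H : Set G) ≤ H) ↔ (⊤ : Subgroup G).lowerCentralSeries (n - 2) ≠ ⊥ := by
  haveI : Fact (Nat.Prime 2) := ⟨Nat.prime_two⟩
  have hn : 3 ≤ n := by
    by_contra h
    apply hna
    interval_cases n
    · haveI := (Nat.card_eq_one_iff_unique.1 hG).1
      exact ⟨⟨fun a b => Subsingleton.elim _ _⟩⟩
    · haveI := isCyclic_of_prime_card (p := 2) (α := G) (by rw [hG, pow_one])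
      exact ⟨⟨(IsCyclic.commGroup (α := G)).mul_comm⟩⟩
    · exact ⟨⟨IsPGroup.commutative_of_card_eq_prime_sq hG⟩⟩
  haveI := (IsPGroup.of_card hG : IsPGroup 2 G).isNilpotent
  have hle := CfsgLib.Transfer.nilpotencyClass_le_of_card (p := 2) hG (by omega)
  constructor
  · intro h hb
    have h1 := maximalClass_of_sc hna hG h
    have h2 := Subgroup.lowerCentralSeries_eq_bot_iff_nilpotencyClass_le.1 hb
    omega
  · intro hb
    have hc : Group.nilpotencyClass G = n - 1 := by
      by_contra hne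
      exact hb (Subgroup.lowerCentralSeries_eq_bot_iff_nilpotencyClass_le.2 (by omega))
    exact sc_of_maximalClass hn hG hc

end Cfsg.Agent.S3919
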