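import Cfsg.Statements.S3279
import Mathlib
-- import your own Cfsg.Agent.* helpers here

set_option autoImplicit false
open Cfsg

namespace Cfsg.Agent.S3279

variable {G : Type*} [Group G]

/-- In a simple group, a nontrivial element commuting with all conjugates of a nontrivial element
forces commutativity. -/
lemma comm_of_simple [IsSimpleGroup G] (z w : G) (hz : z ≠ 1) (hw : w ≠ 1)
    (h : ∀ g : G, Commute w (g * z * g⁻¹)) : ∀ a b : G, a * b = b * a := by
  have hN : Subgroup.normalClosure ({z} : Set G) = ⊤ := by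
    rcases (Subgroup.normalClosure_normal (s := ({z} : Set G))).eq_bot_or_eq_top with hb | ht
    · exact absurd (Subgroup.mem_bot.1 (hb ▸ Subgroup.subset_normalClosure (Set.mem_singleton z))) hz
    · exact ht
  have hc : w ∈ Subgroup.center G := by
    rw [Subgroup.mem_center_iff]
    intro a
    have hle : Subgroup.normalClosure ({z} : Set G) ≤ Subgroup.centralizer ({w} : Set G) := by
      unfold Subgroup.normalClosure
      rw [Subgroup.closure_le]
      intro c hc
      rw [Group.mem_conjugatesOfSet_iff] at hc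
      obtain ⟨b, hb, hbc⟩ := hc
      obtain rfl : b = z := Set.mem_singleton_iff.1 hb
      obtain ⟨g, rfl⟩ := isConj_iff.1 hbc
      exact Subgroup.mem_centralizer_singleton_iff.2 ((h g).eq.symm)
    exact Subgroup.mem_centralizer_singleton_iff.1 (hle (hN ▸ Subgroup.mem_top a))
  rcases (inferInstance : (Subgroup.center G).Normal).eq_bot_or_eq_top with hb | ht
  · exact absurd (Subgroup.mem_bot.1 (hb ▸ hc)) hw
  · intro a b
    exact (Subgroup.mem_center_iff.1 (ht ▸ Subgroup.mem_top b : b ∈ Subgroup.center G) a)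

/-- Two non-conjugate involutions centralise a common involution. -/
lemma exists_common [Finite G] (x y : G) (hx : orderOf x = 2) (hy : orderOf y = 2)
    (hn : ¬ IsConj x y) : ∃ w : G, orderOf w = 2 ∧ Commute w x ∧ Commute w y := by
  have hxx : x⁻¹ = x := inv_eq_of_mul_eq_one_right (by rw [← sq, ← hx, pow_orderOf_eq_one])
  have hyy : y⁻¹ = y := inv_eq_of_mul_eq_one_right (by rw [← sq, ← hy, pow_orderOf_eq_one])
  have hx2 : x * x = 1 := by nth_rewrite 1 [← hxx]; exact inv_mul_cancel x
  have hy2 : y * y = 1 := by nth_rewrite 1 [← hyy]; exact inv_mul_cancel y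
  set d := x * y with hd
  have hxd : SemiconjBy x d d⁻¹ := by
    simp only [SemiconjBy, hd, mul_inv_rev, hxx, hyy]
    rw [← mul_assoc, hx2, one_mul, mul_assoc, hx2, mul_one]
  have hyd : SemiconjBy y d d⁻¹ := by
    simp only [SemiconjBy, hd, mul_inv_rev, hxx, hyy, mul_assoc]
  rcases Nat.even_or_odd' (orderOf d) with ⟨m, hm | hm⟩
  · have hpos := orderOf_pos d
    have hw : orderOf (d ^ m) = 2 := by
      rw [orderOf_pow' _ (by omega : m ≠ 0), hm, Nat.gcd_mul_left_left]
      exact Nat.mul_div_cancel _ (by omega)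
    have hinv : d⁻¹ ^ m = d ^ m := by
      rw [inv_pow]
      exact inv_eq_of_mul_eq_one_right (by rw [← pow_add, ← two_mul, ← hm, pow_orderOf_eq_one])
    refine ⟨d ^ m, hw, ?_, ?_⟩
    · exact ((hxd.pow_right m).eq.trans (by rw [hinv])).symm
    · exact ((hyd.pow_right m).eq.trans (by rw [hinv])).symm
  · exfalso
    apply hn
    rw [isConj_iff]
    refine ⟨d ^ m, ?_⟩
    have h1 : d ^ m * x * (d ^ m)⁻¹ = d ^ (2 * m) * x := by
      have := (hxd.pow_right m).inv_right.eq
      rw [inv_pow, inv_inv] at this
      rw [mul_assoc, this, ← mul_assoc, two_mul, pow_add]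
    have h2 : d ^ (2 * m) = d⁻¹ := by
      apply eq_inv_of_mul_eq_one_left
      rw [← pow_succ, ← hm, pow_orderOf_eq_one]
    rw [h1, h2, hd, mul_inv_rev, hxx, hyy, mul_assoc, hx2, mul_one]

lemma conj_order (g a : G) : orderOf (g * a * g⁻¹) = orderOf a :=
  (SemiconjBy.conj_mk g a).orderOf_eq g |>.symm

lemma conj_comm {a b : G} (g : G) (h : Commute a b) :
    Commute (g * a * g⁻¹) (g * b * g⁻¹) := Commute.conj h g

lemma mem_smul_sylow {p : ℕ} {g s : G} {P : Sylow p G} :
    s ∈ ((g • P : Sylow p G) : Subgroup G) ↔ g⁻¹ * s * g ∈ (P : Subgroup G) := by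
  rw [Sylow.smul_def, Sylow.pointwise_smul_def]
  rw [Subgroup.mem_pointwise_smul_iff_inv_smul_mem]
  simp [MulAut.smul_def, MulAut.conj_symm_apply]

lemma isConj_conj (g a : G) : IsConj a (g * a * g⁻¹) := isConj_iff.2 ⟨g, rfl⟩

/-- A relation of the shape "equal or not commuting" which is a two-part equivalence on a
conjugacy class yields a proper nontrivial normal subgroup. -/
lemma bipartite_false [IsSimpleGroup G] (u u' : G) (hu : u ≠ 1) (hconj : IsConj u u')
    (hne : u ≠ u') (hcu : Commute u u')
    (key : ∀ a b : G, IsConj u a → IsConj u b →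
      ((a = b ∨ ¬ Commute a b) ↔ ((u = a ∨ ¬ Commute u a) ↔ (u = b ∨ ¬ Commute u b)))) :
    False := by
  let K : Subgroup G :=
  { carrier := {g | ∀ c, IsConj u c → (c = g * c * g⁻¹ ∨ ¬ Commute c (g * c * g⁻¹))}
    one_mem' := by intro c _; left; group
    mul_mem' := by
      intro g h hg hh c hc
      have hhc : IsConj u (h * c * h⁻¹) := hc.trans (isConj_conj h c)
      have h1 := (key _ _ hc hhc).1 (hh c hc)
      have hghc : IsConj u (g * (h * c * h⁻¹) * g⁻¹) := hhc.trans (isConj_conj g _)
      have h2 := (key _ _ hhc hghc).1 (hg _ hhc)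
      have he : g * h * c * (g * h)⁻¹ = g * (h * c * h⁻¹) * g⁻¹ := by group
      rw [he]
      exact (key _ _ hc hghc).2 (h1.trans h2)
    inv_mem' := by
      intro g hg c hc
      have hc' : IsConj u (g⁻¹ * c * g⁻¹⁻¹) := hc.trans (isConj_conj g⁻¹ c)
      have := hg _ hc'
      rw [show g * (g⁻¹ * c * g⁻¹⁻¹) * g⁻¹ = c by group] at this
      rcases this with h | h
      · exact Or.inl h.symm
      · exact Or.inr fun hh => h hh.symm }
  have hKn : K.Normal := by
    refine ⟨fun n hn g c hc => ?_⟩
    have hc' : IsConj u (g⁻¹ * c * g⁻¹⁻¹) := hc.trans (isConj_conj g⁻¹ c)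
    rcases hn _ hc' with h | h
    · left
      have := congrArg (fun e => g * e * g⁻¹) h
      convert this using 1 <;> group
    · right
      intro hh
      apply h
      have := conj_comm g⁻¹ hh
      convert this using 1
      group
  have huK : u ∈ K := by
    intro c hc
    have hc' : IsConj u (u * c * u⁻¹) := hc.trans (isConj_conj u c)
    refine (key _ _ hc hc').2 ?_
    by_cases h : Commute u c
    · rw [h.eq, mul_inv_cancel_right]
    · have h1 : ¬ Commute u (u * c * u⁻¹) := fun hh => h (by
        have := conj_comm u⁻¹ hh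
        convert this using 1 <;> group)
      simp only [h, h1, not_false_eq_true, or_true]
  rcases hKn.eq_bot_or_eq_top with hb | ht
  · exact hu (Subgroup.mem_bot.1 (hb ▸ huK))
  · obtain ⟨g, hg⟩ := isConj_iff.1 hconj
    have hgK : g ∈ K := ht ▸ Subgroup.mem_top g
    rcases hgK u (IsConj.refl u) with h | h
    · exact hne (h.trans hg)
    · exact h (hg ▸ hcu)

end Cfsg.Agent.S3279

namespace Cfsg.Agent.S3279

/-- Let G be a finite simple group and x an involution of G whose centralizer contains at most three involutions. Then C_G(x) contains a Sylow 2-subgroup of G, and all involutions of G are conjugate. -/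
theorem result {G : Type*} [Group G] [Finite G] [IsSimpleGroup G] (x : G) (hx : orderOf x = 2)
    (h3 : Nat.card {u : ↥(Subgroup.centralizer ({x} : Set G)) // orderOf u = 2} ≤ 3) :
    (∃ S : Sylow 2 G, (S : Subgroup G) ≤ Subgroup.centralizer ({x} : Set G)) ∧
      ∀ u v : G, orderOf u = 2 → orderOf v = 2 → IsConj u v := by
  classical
  have h2one : ∀ a : G, orderOf a = 2 → a ≠ 1 := fun a ha h => by simp [h] at ha
  have hmul : ∀ a b : G, orderOf a = 2 → orderOf b = 2 → Commute a b → a ≠ b →
      orderOf (a * b) = 2 := by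
    intro a b ha hb hab hne
    refine orderOf_eq_prime ?_ ?_
    · rw [hab.mul_pow, ← ha, pow_orderOf_eq_one, ha, ← hb, pow_orderOf_eq_one, one_mul]
    · intro h1
      apply hne
      calc a = a * b * b⁻¹ := (mul_inv_cancel_right a b).symm
        _ = b⁻¹ := by rw [h1, one_mul]
        _ = b := inv_eq_of_mul_eq_one_right (by rw [← sq, ← hb, pow_orderOf_eq_one])
  -- the involutions of the centraliser
  have hinv : ∀ u : G, orderOf u = 2 → Commute u x → u ≠ x →
      ∀ w : G, orderOf w = 2 → Commute w x → w = x ∨ w = u ∨ w = x * u := by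
    intro u hu hux hne w hw hwx
    by_contra hcon
    push Not at hcon
    obtain ⟨h1, h2, h3'⟩ := hcon
    let T := {v : ↥(Subgroup.centralizer ({x} : Set G)) // orderOf v = 2}
    have mk : ∀ v : G, orderOf v = 2 → Commute v x → ∃ t : T, (t.1 : G) = v := fun v hv hvx =>
      ⟨⟨⟨v, Subgroup.mem_centralizer_singleton_iff.2 hvx.eq⟩, by
        rw [← hv]; exact (Subgroup.orderOf_coe _).symm⟩, rfl⟩
    have hxu : orderOf (x * u) = 2 := hmul x u hx hu hux.symm (Ne.symm hne)
    obtain ⟨t0, e0⟩ := mk x hx (Commute.refl x)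
    obtain ⟨t1, e1⟩ := mk u hu hux
    obtain ⟨t2, e2⟩ := mk (x * u) hxu ((Commute.refl x).mul_left hux)
    obtain ⟨t3, e3⟩ := mk w hw hwx
    have hinj : Function.Injective ![t0, t1, t2, t3] := by
      have hv : Function.Injective (fun i => ((![t0, t1, t2, t3] i).1 : G)) := by
        intro i j hij
        have a1 : x ≠ x * u := fun h => h2one u hu (mul_eq_left.1 h.symm)
        have a2 : u ≠ x * u := fun h => h2one x hx (mul_eq_right.1 h.symm)
        fin_cases i <;> fin_cases j <;>
          simp [e0, e1, e2, e3, hne, hne.symm, h1, Ne.symm h1, h2, Ne.symm h2, h3', Ne.symm h3',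
            a1, a1.symm, a2, a2.symm] at hij ⊢
      exact fun i j h => hv (by simp only [h])
    have := Nat.card_le_card_of_injective _ hinj
    simp [T] at this
    omega
  -- 2-central
  have hS : ∃ S : Sylow 2 G, (S : Subgroup G) ≤ Subgroup.centralizer ({x} : Set G) := by
    by_contra hno
    push Not at hno
    have : Fact (Nat.Prime 2) := ⟨Nat.prime_two⟩
    have hxp : IsPGroup 2 ↥(Subgroup.zpowers x) :=
      IsPGroup.of_card (n := 1) (by rw [Nat.card_zpowers, hx, pow_one])
    obtain ⟨S, hxS⟩ := hxp.exists_le_sylow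
    have hxS' : x ∈ (S : Subgroup G) := hxS (Subgroup.mem_zpowers x)
    have : Nontrivial ↥(S : Subgroup G) :=
      ⟨⟨x, hxS'⟩, 1, fun h => h2one x hx (congrArg Subtype.val h)⟩
    have hne := S.isPGroup'.center_nontrivial
    obtain ⟨⟨z, hzc⟩, hz2⟩ := exists_prime_orderOf_dvd_card' 2
      (by
        obtain ⟨n, hn⟩ := (S.isPGroup'.to_subgroup (Subgroup.center ↥(S : Subgroup G))).exists_card_eq
        rcases n with _ | n
        · exact absurd hn (by simpa using (Finite.one_lt_card (α := ↥(Subgroup.center ↥(S : Subgroup G)))).ne')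
        · exact ⟨2 ^ n, by rw [hn, pow_succ, mul_comm]⟩ : 2 ∣ Nat.card ↥(Subgroup.center ↥(S : Subgroup G)))
    rw [← Subgroup.orderOf_coe] at hz2
    rw [← Subgroup.orderOf_coe] at hz2
    simp only at hz2
    have hzcomm : ∀ s : G, s ∈ (S : Subgroup G) → Commute s (z : G) := fun s hs =>
      congrArg Subtype.val (Subgroup.mem_center_iff.1 hzc ⟨s, hs⟩)
    have hSz : (S : Subgroup G) ≤ Subgroup.centralizer ({(z : G)} : Set G) := fun s hs =>
      Subgroup.mem_centralizer_singleton_iff.2 (hzcomm s hs).eq
    have hnc : ¬ IsConj (z : G) x := by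
      intro hc
      obtain ⟨g, hg⟩ := isConj_iff.1 hc
      refine hno (g • S) ?_
      intro s hs
      rw [mem_smul_sylow] at hs
      have h1 : Commute (g⁻¹ * s * g) (z : G) := hzcomm _ hs
      have := conj_comm g h1
      rw [hg, show g * (g⁻¹ * s * g) * g⁻¹ = s by group] at this
      exact Subgroup.mem_centralizer_singleton_iff.2 this.eq
    have hzx : (z : G) ≠ x := fun h => hnc (h ▸ IsConj.refl _)
    have hzx' : Commute (z : G) x := (hzcomm x hxS').symm
    -- an element of S moving x to xz
    let X : ↥(S : Subgroup G) := ⟨x, hxS'⟩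
    let H : Subgroup ↥(S : Subgroup G) := Subgroup.centralizer {X}
    have hH : H ≠ ⊤ := by
      intro h
      refine hno S fun s hs => Subgroup.mem_centralizer_singleton_iff.2 ?_
      have : (⟨s, hs⟩ : ↥(S : Subgroup G)) ∈ H := h ▸ Subgroup.mem_top _
      exact congrArg Subtype.val (Subgroup.mem_centralizer_singleton_iff.1 this)
    have := S.isPGroup'.isNilpotent
    obtain ⟨s, hsN, hsH⟩ := SetLike.exists_of_lt
      (Group.normalizerCondition_of_isNilpotent H (lt_top_iff_ne_top.2 hH))
    have hsX : s * X * s⁻¹ ∈ H :=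
      (Subgroup.mem_normalizer_iff.1 hsN X).1 (Subgroup.mem_centralizer_singleton_iff.2 rfl)
    have hs1 : Commute ((s : G) * x * (s : G)⁻¹) x :=
      congrArg Subtype.val (Subgroup.mem_centralizer_singleton_iff.1 hsX)
    have hsne : (s : G) * x * (s : G)⁻¹ ≠ x := fun h => hsH
      (Subgroup.mem_centralizer_singleton_iff.2 (Subtype.ext (mul_inv_eq_iff_eq_mul.1 h)))
    have hsz : (s : G) * z * (s : G)⁻¹ = z := by rw [(hzcomm s s.2).eq, mul_inv_cancel_right]
    have hsx : (s : G) * x * (s : G)⁻¹ = x * z := by
      rcases hinv z hz2 hzx' hzx _ (by rw [conj_order, hx]) hs1 with h | h | h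
      · exact absurd h hsne
      · exfalso
        exact hnc (isConj_conj (s : G) x |>.trans (h ▸ IsConj.refl _) |>.symm)
      · exact h
    have only : ∀ y : G, IsConj (z : G) y → Commute y x → y = z := by
      intro y hy hyx
      have hyo : orderOf y = 2 := by
        obtain ⟨g, rfl⟩ := isConj_iff.1 hy; rw [conj_order, hz2]
      rcases hinv z hz2 hzx' hzx y hyo hyx with h | h | h
      · exact absurd (h ▸ hy) hnc
      · exact h
      · exact absurd (hy.trans (h.trans hsx.symm ▸ (isConj_conj (s : G) x).symm)) hnc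
    have hall : ∀ g : G, Commute (z : G) (g * z * g⁻¹) := by
      intro g
      have hy : IsConj (z : G) (g * z * g⁻¹) := isConj_conj g _
      have hyo : orderOf (g * (z : G) * g⁻¹) = 2 := by rw [conj_order, hz2]
      obtain ⟨w, hw2, hwx, hwy⟩ := exists_common x _ hx hyo
        (fun h => hnc (hy.trans h.symm))
      rcases hinv z hz2 hzx' hzx w hw2 hwx with h | h | h
      · rw [only _ hy (h ▸ hwy).symm]
      · exact h ▸ hwy
      · rw [h, ← hsx] at hwy
        have h1 := conj_comm (s : G)⁻¹ hwy
        rw [show (s : G)⁻¹ * ((s : G) * x * (s : G)⁻¹) * (s : G)⁻¹⁻¹ = x by group] at h1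
        have h2 := only _ (hy.trans (isConj_conj (s : G)⁻¹ _)) h1.symm
        have h3 : g * (z : G) * g⁻¹ = (s : G) * z * (s : G)⁻¹ := by
          nth_rewrite 2 [← h2]; group
        rw [h3, hsz]
    have hcomm := comm_of_simple (z : G) (z : G) (h2one _ hz2) (h2one _ hz2) hall
    exact hno S fun s _ => Subgroup.mem_centralizer_singleton_iff.2 (hcomm s x)
  refine ⟨hS, ?_⟩
  suffices hall : ∀ v : G, orderOf v = 2 → IsConj x v from
    fun u v hu hv => (hall u hu).symm.trans (hall v hv)
  by_contra hcon
  push Not at hcon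
  obtain ⟨v, hv, hxv⟩ := hcon
  -- an involution u in C(x) not conjugate to x
  obtain ⟨u, hu, hux, hnu⟩ : ∃ u : G, orderOf u = 2 ∧ Commute u x ∧ ¬ IsConj x u := by
    obtain ⟨w, hw, hwx, hwv⟩ := exists_common x v hx hv hxv
    by_cases hwc : IsConj x w
    · obtain ⟨g, rfl⟩ := isConj_iff.1 hwc
      refine ⟨g⁻¹ * v * g⁻¹⁻¹, by rw [conj_order, hv], ?_, fun h => hxv ?_⟩
      · have := conj_comm g⁻¹ hwv.symm
        rwa [show g⁻¹ * (g * x * g⁻¹) * g⁻¹⁻¹ = x by group] at this
      · exact h.trans (isConj_conj g⁻¹ v).symm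
    · exact ⟨w, hw, hwx, hwc⟩
  have hne : u ≠ x := fun h => hnu (h ▸ IsConj.refl x)
  have htri := hinv u hu hux hne
  have hnab : ¬ ∀ a b : G, a * b = b * a := by
    intro hab
    have hN : (Subgroup.zpowers x).Normal := ⟨fun a ha g => by
      rw [hab g a, mul_inv_cancel_right]; exact ha⟩
    rcases hN.eq_bot_or_eq_top with hb | ht
    · exact h2one x hx (Subgroup.zpowers_eq_bot.1 hb)
    · have huz : u ∈ Subgroup.zpowers x := ht ▸ Subgroup.mem_top u
      obtain ⟨k, hk⟩ := mem_powers_iff_mem_zpowers.2 huz
      simp only at hk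
      rcases Nat.even_or_odd' k with ⟨m, rfl | rfl⟩
      · exact h2one u hu (by rw [← hk, pow_mul, ← hx, pow_orderOf_eq_one, one_pow])
      · exact hne (by rw [← hk, pow_succ, pow_mul, ← hx, pow_orderOf_eq_one, one_pow, one_mul])
  have hclass : ∀ y : G, IsConj u y → orderOf y = 2 := by
    intro y hy; obtain ⟨g, rfl⟩ := isConj_iff.1 hy; rw [conj_order, hu]
  have hsep : ∀ y : G, IsConj u y → ¬ IsConj x y := fun y hy h => hnu (h.trans hy.symm)
  by_cases hA : IsConj x (x * u)
  · -- xu conjugate to x
    obtain ⟨g, hg⟩ := isConj_iff.1 hA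
    have only : ∀ y : G, IsConj u y → Commute y x → y = u := by
      intro y hy hyx
      rcases htri y (hclass y hy) hyx with h | h | h
      · exact absurd (h ▸ IsConj.refl x) (hsep y hy)
      · exact h
      · exact absurd (h ▸ hA) (hsep y hy)
    have hgu : g⁻¹ * u * g⁻¹⁻¹ = u := by
      refine only _ (isConj_conj g⁻¹ u) ?_
      have := conj_comm g⁻¹ (show Commute u (x * u) from hux.mul_right (Commute.refl u))
      rwa [← hg, show g⁻¹ * (g * x * g⁻¹) * g⁻¹⁻¹ = x by group] at this
    refine hnab (comm_of_simple u u (h2one u hu) (h2one u hu) fun c => ?_)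
    have hy : IsConj u (c * u * c⁻¹) := isConj_conj c u
    obtain ⟨w, hw, hwx, hwy⟩ := exists_common x _ hx (hclass _ hy) (hsep _ hy)
    rcases htri w hw hwx with h | h | h
    · rw [only _ hy (h ▸ hwy).symm]
    · exact h ▸ hwy
    · rw [h, ← hg] at hwy
      have h1 := conj_comm g⁻¹ hwy
      rw [show g⁻¹ * (g * x * g⁻¹) * g⁻¹⁻¹ = x by group] at h1
      have h2 := only _ (hy.trans (isConj_conj g⁻¹ _)) h1.symm
      have h3 : c * u * c⁻¹ = u := by
        conv_rhs => rw [show u = g * (g⁻¹ * u * g⁻¹⁻¹) * g⁻¹ by group, hgu]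
        calc c * u * c⁻¹ = g * (g⁻¹ * (c * u * c⁻¹) * g⁻¹⁻¹) * g⁻¹ := by group
          _ = g * u * g⁻¹ := by rw [h2]
      rw [h3]
  -- every commuting pair of involutions sits in a conjugate of the triple
  obtain ⟨S, hS⟩ := hS
  have hpair : ∀ a b : G, orderOf a = 2 → orderOf b = 2 → Commute a b → ∃ h : G,
      Commute a (h * x * h⁻¹) ∧ Commute b (h * x * h⁻¹) := by
    intro a b ha hb hab
    have : Fact (Nat.Prime 2) := ⟨Nat.prime_two⟩
    have hpa : IsPGroup 2 ↥(Subgroup.zpowers a) :=
      IsPGroup.of_card (n := 1) (by rw [Nat.card_zpowers, ha, pow_one])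
    have hpb : IsPGroup 2 ↥(Subgroup.zpowers b) :=
      IsPGroup.of_card (n := 1) (by rw [Nat.card_zpowers, hb, pow_one])
    have hle : Subgroup.zpowers a ≤ Subgroup.normalizer (Subgroup.zpowers b : Set G) := by
      refine Subgroup.zpowers_le.2 ?_
      apply Subgroup.centralizer_le_normalizer
      intro c hc
      obtain ⟨k, rfl⟩ := Subgroup.mem_zpowers_iff.1 hc
      exact (hab.zpow_right k).eq.symm
    obtain ⟨T, hT⟩ := (hpa.to_sup_of_normal_right' hpb hle).exists_le_sylow
    obtain ⟨h, hh⟩ := MulAction.exists_smul_eq G S T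
    refine ⟨h, ?_⟩
    have key : ∀ c : G, c ∈ (T : Subgroup G) → Commute c (h * x * h⁻¹) := by
      intro c hc
      rw [← hh, mem_smul_sylow] at hc
      have h1 : Commute (h⁻¹ * c * h) x := Subgroup.mem_centralizer_singleton_iff.1 (hS hc)
      have := conj_comm h h1
      rwa [show h * (h⁻¹ * c * h) * h⁻¹ = c by group] at this
    exact ⟨key a (hT (Subgroup.mem_sup_left (Subgroup.mem_zpowers a))),
      key b (hT (Subgroup.mem_sup_right (Subgroup.mem_zpowers b)))⟩
  -- the conjugated triple
  have htri' : ∀ h a : G, orderOf a = 2 → Commute a (h * x * h⁻¹) →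
      a = h * x * h⁻¹ ∨ a = h * u * h⁻¹ ∨ a = h * (x * u) * h⁻¹ := by
    intro h a ha hah
    have h1 := conj_comm h⁻¹ hah
    rw [show h⁻¹ * (h * x * h⁻¹) * h⁻¹⁻¹ = x by group] at h1
    rcases htri _ (by rw [conj_order, ha]) h1 with e | e | e
    · exact Or.inl (by rw [← e]; group)
    · exact Or.inr (Or.inl (by rw [← e]; group))
    · exact Or.inr (Or.inr (by rw [← e]; group))
  have hnotx : ∀ h y : G, IsConj u y → y ≠ h * x * h⁻¹ := fun h y hy e =>
    hsep y hy (e ▸ isConj_conj h x)
  by_cases hB : IsConj u (x * u)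
  · -- xu conjugate to u: the commuting graph on the class of u is bipartite
    have hdom : ∀ a b c : G, IsConj u a → IsConj u b → IsConj u c → a ≠ b → Commute a b →
        (Commute c a ∨ Commute c b) ∧ (Commute c a → Commute c b → c = a ∨ c = b) := by
      intro a b c ha hb hc hne' hab
      obtain ⟨h, h1, h2⟩ := hpair a b (hclass a ha) (hclass b hb) hab
      have ea : a = h * u * h⁻¹ ∨ a = h * (x * u) * h⁻¹ :=
        (htri' h a (hclass a ha) h1).resolve_left (hnotx h a ha)
      have eb : b = h * u * h⁻¹ ∨ b = h * (x * u) * h⁻¹ :=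
        (htri' h b (hclass b hb) h2).resolve_left (hnotx h b hb)
      have hprod : a * b = h * x * h⁻¹ := by
        have huu : u * u = 1 := by rw [← sq, ← hu, pow_orderOf_eq_one]
        rcases ea with rfl | rfl <;> rcases eb with rfl | rfl
        · exact absurd rfl hne'
        · calc _ = h * (u * (x * u)) * h⁻¹ := by group
            _ = _ := by rw [← mul_assoc u x u, hux.eq, mul_assoc x u u, huu, mul_one]
        · calc _ = h * (x * (u * u)) * h⁻¹ := by group
            _ = _ := by rw [huu, mul_one]
        · exact absurd rfl hne'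
      have hmem : ∀ d : G, IsConj u d → Commute d (h * x * h⁻¹) → d = a ∨ d = b := by
        intro d hd hdx
        rcases (htri' h d (hclass d hd) hdx).resolve_left (hnotx h d hd) with e | e <;>
          rcases ea with rfl | rfl <;> rcases eb with rfl | rfl
        all_goals first
          | exact absurd rfl hne'
          | exact Or.inl e
          | exact Or.inr e
      refine ⟨?_, fun hca hcb => hmem c hc (hprod ▸ hca.mul_right hcb)⟩
      obtain ⟨w, hw, hwx, hwc⟩ := exists_common (h * x * h⁻¹) c
        (by rw [conj_order, hx]) (hclass c hc) (fun e => hsep c hc ((isConj_conj h x).trans e))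
      rcases htri' h w hw hwx with e | e | e
      · rcases hmem c hc (e ▸ hwc).symm with r | r
        · exact Or.inl (r ▸ Commute.refl c)
        · exact Or.inr (r ▸ Commute.refl c)
      all_goals
        have hwab : w = a ∨ w = b := by
          rcases ea with r | r <;> rcases eb with r' | r' <;>
            first
              | exact absurd (r.trans r'.symm) hne'
              | exact Or.inl (e.trans r.symm)
              | exact Or.inr (e.trans r'.symm)
        rcases hwab with r | r
        · exact Or.inl (r ▸ hwc).symm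
        · exact Or.inr (r ▸ hwc).symm
    refine bipartite_false u (x * u) (h2one u hu) hB ?_ (hux.mul_right (Commute.refl u)) ?_
    · intro e; exact h2one x hx (mul_eq_right.1 e.symm)
    intro a b ha hb
    have huu : IsConj u u := IsConj.refl u
    by_cases hPa : u = a ∨ ¬ Commute u a <;> by_cases hPb : u = b ∨ ¬ Commute u b <;>
      simp only [hPa, hPb, iff_true, iff_false, true_iff, false_iff, not_true_eq_false, not_false_eq_true]
    · -- both on the side of u
      by_contra hcon
      push Not at hcon
      obtain ⟨hne', hab⟩ := hcon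
      rcases (hdom a b u ha hb huu hne' hab).1 with h | h
      · obtain rfl := hPa.resolve_right (not_not.2 h)
        exact hne' (hPb.resolve_right (not_not.2 hab))
      · obtain rfl := hPb.resolve_right (not_not.2 h)
        exact hne' (hPa.resolve_right (not_not.2 hab.symm)).symm
    · push Not at hPb ⊢
      obtain ⟨hub, hubc⟩ := hPb
      refine ⟨fun e => ?_, ?_⟩
      · subst e
        rcases hPa with r | r
        · exact hub r
        · exact r hubc
      · rcases hPa with r | r
        · exact r ▸ hubc
        · rcases (hdom u b a huu hb ha hub hubc).1 with h | h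
          · exact absurd h.symm r
          · exact h
    · push Not at hPa ⊢
      obtain ⟨hua, huac⟩ := hPa
      refine ⟨fun e => ?_, ?_⟩
      · subst e
        rcases hPb with r | r
        · exact hua r
        · exact r huac
      · rcases hPb with r | r
        · exact (r ▸ huac).symm
        · rcases (hdom u a b huu ha hb hua huac).1 with h | h
          · exact absurd h.symm r
          · exact h.symm
    · push Not at hPa hPb
      by_contra hcon
      push Not at hcon
      obtain ⟨hne', hab⟩ := hcon
      rcases (hdom u a b huu ha hb hPa.1 hPa.2).2 hPb.2.symm hab.symm with r | r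
      · exact hPb.1 r.symm
      · exact hne' r.symm
  · -- three classes: xu centralises every conjugate of u
    have honly : ∀ y : G, IsConj u y → Commute y u → y = u := by
      intro y hy hyu
      obtain ⟨h, h1, h2⟩ := hpair y u (hclass y hy) hu hyu
      have key : ∀ d : G, IsConj u d → Commute d (h * x * h⁻¹) → d = h * u * h⁻¹ := by
        intro d hd hdx
        rcases htri' h d (hclass d hd) hdx with e | e | e
        · exact absurd e (hnotx h d hd)
        · exact e
        · exact absurd (hd.trans (e ▸ (isConj_conj h (x * u)).symm)) hB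
      exact (key y hy h1).trans (key u (IsConj.refl u) h2).symm
    have hxu : orderOf (x * u) = 2 := hmul x u hx hu hux.symm (Ne.symm hne)
    refine hnab (comm_of_simple u (x * u) (h2one u hu) (h2one _ hxu) fun c => ?_)
    have hy : IsConj u (c * u * c⁻¹) := isConj_conj c u
    obtain ⟨w, hw, hwx, hwy⟩ := exists_common x _ hx (hclass _ hy) (hsep _ hy)
    have hxuu : Commute (x * u) u := (hux.symm.mul_left (Commute.refl u))
    rcases htri w hw hwx with h | h | h
    · rcases htri _ (hclass _ hy) (h ▸ hwy).symm with e | e | e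
      · exact absurd (e ▸ IsConj.refl x) (hsep _ hy)
      · rw [e]; exact hxuu
      · rw [e]
    · rw [honly _ hy (h ▸ hwy).symm]; exact hxuu
    · exact h ▸ hwy

end Cfsg.Agent.S3279
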