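import Cfsg.Statements.S3278
import Mathlib
import Cfsg.Agent.S3279
import Cfsg.Agent.S3277
import Cfsg.Agent.Lib.InvolChar.Basic
import Cfsg.Agent.Lib.Invol.BlockConst
import Cfsg.Agent.Lib.Blocks.Orth
import Cfsg.Agent.Lib.Blocks.GaloisInv
import Cfsg.Agent.Lib.Char.ClassAlgebra
import Cfsg.Agent.Lib.Transfer.Frobenius
-- import your own Cfsg.Agent.* helpers here

set_option autoImplicit false
open Cfsg

namespace Cfsg.Agent.S3278


section arith

set_option maxRecDepth 20000 in
set_option synthInstance.maxSize 4000 in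
theorem caseB_search : ∀ k < 24, ∀ b < 18, ∀ c < 80, 9 ≤ k → 3 ≤ b → b ≤ c → k % 2 = 1 → b % 2 = 1 →
    (k - 8) * (b + c - 1) * b * c + k * (b * c) = k * ((b + c - 1) * c + (b + c - 1) * b) → b = 3 := by
  decide +kernel

set_option maxRecDepth 20000 in
theorem caseA_search : ∀ a < 14, ∀ b < 50, 3 ≤ a → a ≤ b →
    7 * ((a + b + 1) * b) + 7 * ((a + b + 1) * a) ≠ a * b * (a + b + 1) + 7 * (a * b) := by
  decide +kernel

/-- Two positive signs are impossible. -/
theorem caseA {a b c k : ℕ} (ha : 3 ≤ a) (hab : a ≤ b) (hk : Odd k) (hc : c = a + b + 1)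
    (h : k * (a * b * c + b * c + a * c) = 8 * (a * b * c) + k * (a * b)) : False := by
  have habc : 0 < a * b * c := Nat.mul_pos (Nat.mul_pos (by omega) (by omega)) (by omega)
  have h1 : a * b < b * c + a * c := by subst hc; nlinarith
  have h2 : 3 * (b * c + a * c) ≤ 2 * (a * b * c) := by nlinarith [mul_le_mul ha (le_refl (b * c)) (Nat.zero_le _) (Nat.zero_le _), Nat.mul_le_mul (le_trans ha hab) (le_refl (a * c))]
  have hk8 : k < 8 := by
    by_contra hcon
    have := Nat.mul_lt_mul_of_pos_left h1 (show 0 < k by omega)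
    nlinarith
  have hk5 : 5 ≤ k := by
    by_contra hcon
    have : k ≤ 4 := by omega
    nlinarith
  obtain ⟨j, hj⟩ := hk
  interval_cases k
  · have ha3 : a ≤ 3 := by
      by_contra hcon
      have ha4 : 4 ≤ a := by omega
      nlinarith [Nat.mul_le_mul ha4 (le_refl (b * c)), Nat.mul_le_mul (ha4.trans hab) (le_refl (a * c))]
    obtain rfl : a = 3 := by omega
    subst hc
    nlinarith
  · omega
  · have ha13 : a < 14 := by
      by_contra hcon
      have ha4 : 14 ≤ a := by omega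
      nlinarith [Nat.mul_le_mul ha4 (le_refl (b * c)), Nat.mul_le_mul (ha4.trans hab) (le_refl (a * c))]
    have hb : b < 50 := by
      by_contra hcon
      rcases le_or_gt a 7 with h7 | h7
      · nlinarith [Nat.mul_le_mul h7 (le_refl (b * c))]
      · nlinarith [Nat.mul_le_mul (show 8 ≤ a by omega) (le_refl (b * c)),
          Nat.mul_le_mul (show 50 ≤ b by omega) (le_refl c)]
    subst hc
    exact caseA_search a ha13 b hb ha hab (by linarith)

/-- Two negative signs: the smaller is three. -/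
theorem caseB {a b c k : ℕ} (hb : 3 ≤ b) (hbc : b ≤ c) (hk : Odd k) (hbo : Odd b) (ha : a + 1 = b + c)
    (h : k * (a * b * c + b * c) = 8 * (a * b * c) + k * (a * c + a * b)) : b = 3 := by
  have hac : c + 2 ≤ a := by omega
  have h1 : b * c < a * c + a * b := by nlinarith
  have habc : 0 < a * b * c := by
    have : 0 < a := by omega
    have : 0 < c := by omega
    positivity
  have hk9 : 9 ≤ k := by
    by_contra hcon
    obtain ⟨j, hj⟩ := hk
    have hk7 : k ≤ 8 := by omega
    rcases Nat.eq_zero_or_pos k with hk0 | hk0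
    · subst hk0; omega
    · have h3 : k * (a * b * c) ≤ 8 * (a * b * c) := Nat.mul_le_mul_right _ hk7
      nlinarith [Nat.mul_lt_mul_of_pos_left h1 hk0]
  obtain ⟨k', rfl⟩ : ∃ k', k = 8 + k' := ⟨k - 8, by omega⟩
  have hb' : k' * (a * b * c) + (8 + k') * (b * c) = (8 + k') * (a * c + a * b) := by linarith
  have hk23 : 8 + k' < 24 := by
    by_contra hcon
    have h3 : 3 * (a * c + a * b) ≤ 2 * (a * b * c) := by
      nlinarith [Nat.mul_le_mul hb (le_refl (a * c)), Nat.mul_le_mul (hb.trans hbc) (le_refl (a * b))]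
    nlinarith [Nat.mul_le_mul (show 16 ≤ k' by omega) (le_refl (a * b * c)), Nat.mul_le_mul_left (8 + k') h3,
      Nat.mul_pos (show 0 < 8 + k' by omega) (Nat.mul_pos (show 0 < b by omega) (show 0 < c by omega))]
  have hblt : b < 18 := by
    by_contra hcon
    have h3 : 18 * (a * c) ≤ b * (a * c) := Nat.mul_le_mul_right _ (by omega)
    have h4 : a * b ≤ a * c := Nat.mul_le_mul_left _ hbc
    nlinarith [Nat.mul_le_mul_left k' h3, Nat.mul_le_mul_left (8 + k') h4, Nat.mul_le_mul (show 1 ≤ k' by omega) (le_refl (a * c)),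
      Nat.mul_pos (show 0 < 8 + k' by omega) (Nat.mul_pos (show 0 < b by omega) (show 0 < c by omega))]
  have hclt : c < 80 := by
    by_contra hcon
    have hpos : 8 + k' < k' * b := by
      by_contra hle
      push Not at hle
      have := Nat.mul_le_mul_right (a * c) hle
      have h5 : (8 + k') * (b * c) < (8 + k') * (a * b) := Nat.mul_lt_mul_of_pos_left (by nlinarith) (by omega)
      nlinarith
    have h5 : (8 + k' + 1) * (a * c) ≤ k' * b * (a * c) := Nat.mul_le_mul_right _ hpos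
    have h6 : a * c + (8 + k') * (b * c) ≤ (8 + k') * (a * b) := by nlinarith
    have ha' : a ≤ c + 16 := by omega
    have h7 : (8 + k') * (a * b) ≤ (8 + k') * (b * c) + 23 * (17 * 16) := by
      obtain ⟨b', rfl⟩ : ∃ b', b = b' + 1 := ⟨b - 1, by omega⟩
      have : a = c + b' := by omega
      subst this
      have h8 : (8 + k') * ((b' + 1) * b') ≤ 23 * (17 * 16) :=
        Nat.mul_le_mul (by omega) (Nat.mul_le_mul (by omega) (by omega))
      nlinarith
    nlinarith
  refine caseB_search (8 + k') hk23 b hblt c hclt (by omega) hb hbc (Nat.odd_iff.1 hk) (Nat.odd_iff.1 hbo) ?_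
  rw [show b + c - 1 = a by omega, Nat.add_sub_cancel_left]
  linarith

/-- The degree equation forces a character of degree three with negative value. -/
theorem degree_three {a b c k : ℕ} {s t u : ℤ} (ha : 3 ≤ a) (hb : 3 ≤ b) (hc : 3 ≤ c)
    (hao : Odd a) (hbo : Odd b) (hco : Odd c) (hk : Odd k)
    (hs : s = 1 ∨ s = -1) (ht : t = 1 ∨ t = -1) (hu : u = 1 ∨ u = -1)
    (hlin : 1 + s * a + t * b + u * c = 0)
    (heq : (k : ℤ) * (a * b * c + s * (b * c) + t * (a * c) + u * (a * b)) = 8 * (a * b * c)) :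
    (a = 3 ∧ s = -1) ∨ (b = 3 ∧ t = -1) ∨ (c = 3 ∧ u = -1) := by
  rcases hs with rfl | rfl <;> rcases ht with rfl | rfl <;> rcases hu with rfl | rfl
  · exfalso; omega
  · exfalso
    rcases le_total a b with h | h
    · exact caseA ha h hk (c := c) (by omega) (by zify; linarith)
    · exact caseA hb h hk (c := c) (by omega) (by zify; linarith)
  · exfalso
    rcases le_total a c with h | h
    · exact caseA ha h hk (c := b) (by omega) (by zify; linarith)
    · exact caseA hc h hk (c := b) (by omega) (by zify; linarith)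
  · rcases le_total b c with h | h
    · exact Or.inr (Or.inl ⟨caseB (a := a) hb h hk hbo (by omega) (by zify; linarith), rfl⟩)
    · exact Or.inr (Or.inr ⟨caseB (a := a) hc h hk hco (by omega) (by zify; linarith), rfl⟩)
  · exfalso
    rcases le_total b c with h | h
    · exact caseA hb h hk (c := a) (by omega) (by zify; linarith)
    · exact caseA hc h hk (c := a) (by omega) (by zify; linarith)
  · rcases le_total a c with h | h
    · exact Or.inl ⟨caseB (a := b) ha h hk hao (by omega) (by zify; linarith), rfl⟩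
    · exact Or.inr (Or.inr ⟨caseB (a := b) hc h hk hco (by omega) (by zify; linarith), rfl⟩)
  · rcases le_total a b with h | h
    · exact Or.inl ⟨caseB (a := c) ha h hk hao (by omega) (by zify; linarith), rfl⟩
    · exact Or.inr (Or.inl ⟨caseB (a := c) hb h hk hbo (by omega) (by zify; linarith), rfl⟩)
  · exfalso; omega

end arith

section chars

open CfsgLib.InvolChar
open scoped ComplexConjugate

variable {G : Type*} [Group G] [Finite G] [IsSimpleGroup G]

/-- The only linear character of a non-abelian simple group is the trivial one. -/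
theorem eq_irrOne_of_linear (hna : ¬ IsMulCommutative G) (χ : Cfsg.IrrCharacter G) (h : deg χ = 1) :
    χ = CfsgLib.Char.irrOne := by
  have h1 : (χ : G → ℂ) 1 = 1 := by rw [deg_spec χ, h]; norm_num
  let L := CfsgLib.Char.linearHom (CfsgLib.Char.isCharacter_of_isIrr χ.2) h1
  refine Subtype.ext (funext fun g => ?_)
  rcases Subgroup.Normal.eq_bot_or_eq_top (H := L.ker) inferInstance with hb | hb
  · refine absurd ⟨⟨fun a b => ?_⟩⟩ hna
    exact (MonoidHom.ker_eq_bot_iff L).1 hb (by rw [map_mul, map_mul, mul_comm])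
  · have h2 : g ∈ L.ker := by rw [hb]; trivial
    have h3 := congrArg Units.val (MonoidHom.mem_ker.1 h2)
    exact h3

/-- If `χ` is the nontrivial degree three character constant on the three sections, `d` is trivial. -/
theorem eq_one_of_degree_three (V : Subgroup G) (hV : IsKleinFour ↥V) (χ : Cfsg.IrrCharacter G)
    (h3 : (χ : G → ℂ) 1 = 3) (d : G) (hval : ∀ v ∈ V, v ≠ 1 → (χ : G → ℂ) (v * d) = -1 ∧ (χ : G → ℂ) v = -1) :
    d = 1 := by
  classical
  haveI := Fintype.ofFinite ↥V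
  obtain ⟨n, ρ, hirr, hρ⟩ := χ.2
  have hval' : ∀ g, ρ.character g = (χ : G → ℂ) g := fun g => congrFun hρ g
  have h4 : Nat.card ↥V = 4 := hV.card_four
  let σ : Representation ℂ ↥V (Fin n → ℂ) := ρ.comp V.subtype
  haveI : Invertible (Nat.card ↥V : ℂ) := invertibleOfNonzero (by rw [h4]; norm_num)
  have hsum : ∑ v : ↥V, σ.character v = 0 := by
    rw [← Finset.add_sum_erase _ _ (Finset.mem_univ (1 : ↥V)), Finset.sum_eq_card_nsmul (b := (-1 : ℂ))]
    · rw [Finset.card_erase_of_mem (Finset.mem_univ _), Finset.card_univ, ← Nat.card_eq_fintype_card, h4]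
      show ρ.character ((1 : ↥V) : G) + _ = 0
      rw [Subgroup.coe_one, hval', h3]
      norm_num
    · intro v hv
      show ρ.character (v : G) = -1
      rw [hval']
      exact (hval v v.2 (fun h => Finset.ne_of_mem_erase hv (Subtype.ext h))).2
  have hinv : σ.invariants = ⊥ := by
    have h5 := Representation.card_inv_mul_sum_char_eq_finrank σ
    rw [hsum, mul_zero] at h5
    rw [← Submodule.finrank_eq_zero]
    exact_mod_cast h5.symm
  have hP : ∑ v : ↥V, σ v = 0 := by
    have hnat : (Fintype.card ↥V : ℂ) ≠ 0 := by exact_mod_cast Fintype.card_ne_zero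
    haveI : Invertible (Fintype.card ↥V : ℂ) := invertibleOfNonzero hnat
    have hav : σ.averageMap = 0 := LinearMap.ext fun w => by
      have := Representation.averageMap_invariant σ w
      rw [hinv, Submodule.mem_bot] at this
      exact this
    simp [Representation.averageMap, GroupAlgebra.average, map_sum] at hav
    first
      | exact hav
      | exact hav.symm
  have htr : ∑ v : ↥V, ρ.character ((v : G) * d) = 0 := by
    simp only [Representation.character, map_mul]
    rw [← map_sum, ← Finset.sum_mul]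
    rw [show ∑ v : ↥V, ρ (v : G) = 0 from hP, zero_mul, map_zero]
  rw [← Finset.add_sum_erase _ _ (Finset.mem_univ (1 : ↥V)), Finset.sum_eq_card_nsmul (b := (-1 : ℂ))] at htr
  · rw [Finset.card_erase_of_mem (Finset.mem_univ _), Finset.card_univ, ← Nat.card_eq_fintype_card, h4,
      Subgroup.coe_one, one_mul] at htr
    have hd : ρ.character d = (Module.finrank ℂ (Fin n → ℂ) : ℂ) := by
      rw [← ρ.char_one, hval' 1, h3]
      norm_num at htr
      linear_combination htr
    have hker := (CfsgLib.Char.character_eq_degree_iff ρ d).1 hd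
    rcases Subgroup.Normal.eq_bot_or_eq_top (H := (ρ : G →* ((Fin n → ℂ) →ₗ[ℂ] (Fin n → ℂ))).ker)
        inferInstance with hb | hb
    · exact (Subgroup.mem_bot (x := d)).1 (hb ▸ MonoidHom.mem_ker.2 hker)
    · exfalso
      obtain ⟨v, hv, hv1⟩ := V.bot_or_exists_ne_one.resolve_left (fun h => by
        rw [h, Subgroup.card_bot] at h4; omega)
      have h6 : v ∈ (ρ : G →* ((Fin n → ℂ) →ₗ[ℂ] (Fin n → ℂ))).ker := by rw [hb]; trivial
      have h7 := (CfsgLib.Char.character_eq_degree_iff ρ v).2 (MonoidHom.mem_ker.1 h6)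
      rw [← ρ.char_one, hval', hval', h3, (hval v hv hv1).2] at h7
      norm_num at h7
  · intro v hv
    rw [hval']
    exact (hval v v.2 (fun h => Finset.ne_of_mem_erase hv (Subtype.ext h))).1

set_option maxHeartbeats 1000000 in
/-- The character argument: the odd part of the centralizer is trivial. -/
theorem odd_part_trivial (hna : ¬ IsMulCommutative G) (x : G) (hx : orderOf x = 2)
    (V : Subgroup G) (hV : IsKleinFour ↥V) (hxV : x ∈ V) (D : Subgroup G) (hDodd : Odd (Nat.card ↥D))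
    (hCcard : Nat.card ↥(Subgroup.centralizer ({x} : Set G)) = 4 * Nat.card ↥D)
    (hdec : ∀ c ∈ Subgroup.centralizer ({x} : Set G), ∃ v ∈ V, ∃ d ∈ D, c = v * d)
    (hVD : ∀ v ∈ V, ∀ d ∈ D, Commute v d)
    (hDn : ∀ c ∈ Subgroup.centralizer ({x} : Set G), ∀ d ∈ D, c * d * c⁻¹ ∈ D)
    (hconj : ∀ v ∈ V, v ≠ 1 → IsConj x v)
    (hcent : ∀ v ∈ V, v ≠ 1 → Subgroup.centralizer ({v} : Set G) = Subgroup.centralizer ({x} : Set G))
    (hk : Odd (Subgroup.centralizer ({x} : Set G)).index) :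
    ∀ d ∈ D, d = 1 := by
  classical
  haveI := Fintype.ofFinite G
  haveI : Fact (Nat.Prime 2) := ⟨Nat.prime_two⟩
  set C := Subgroup.centralizer ({x} : Set G) with hC
  set m := Nat.card ↥D with hm
  have hm0 : (m : ℝ) ≠ 0 := by exact_mod_cast Nat.card_pos.ne'
  have hx1 := CfsgLib.Invol.ne_one_of_orderOf_two hx
  have hx2 : x * x = 1 := CfsgLib.Invol.mul_self_of_orderOf_two hx
  have hDC : D ≤ C := fun d hd => Subgroup.mem_centralizer_singleton_iff.2 (hVD x hxV d hd).symm.eq
  have hdm : ∀ d ∈ D, d ^ m = 1 := fun d hd => by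
    have := pow_card_eq_one' (x := (⟨d, hd⟩ : ↥D))
    exact congrArg Subtype.val this
  have hxm : x ^ m = x := by
    obtain ⟨j, hj⟩ := hDodd
    rw [hj, pow_succ, pow_mul, sq, hx2, one_pow, one_mul]
  have hpow : ∀ d ∈ D, (x * d) ^ m = x := fun d hd => by
    rw [(hVD x hxV d hd).mul_pow, hdm d hd, hxm, mul_one]
  have hconjC : ∀ d ∈ D, ∀ d' ∈ D, ∀ g : G, g * (x * d) * g⁻¹ = x * d' → g ∈ C ∧ g * d * g⁻¹ = d' := by
    intro d hd d' hd' g hg
    have h1 : g * x * g⁻¹ = x := by
      have := congrArg (· ^ m) hg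
      simp only [conj_pow, hpow d hd, hpow d' hd'] at this
      exact this
    refine ⟨Subgroup.mem_centralizer_singleton_iff.2 (mul_inv_eq_iff_eq_mul.1 h1), ?_⟩
    refine mul_left_cancel (a := g * x * g⁻¹) ?_
    calc g * x * g⁻¹ * (g * d * g⁻¹) = g * (x * d) * g⁻¹ := by group
      _ = x * d' := hg
      _ = g * x * g⁻¹ * d' := by rw [h1]
  obtain ⟨M, hM⟩ := CfsgLib.Blocks.exists_isPModular (p := 2) Nat.prime_two
  haveI := hM.2.1
  set B := Cfsg.principalBlock M G with hB
  have h1B : (CfsgLib.Char.irrOne : Cfsg.IrrCharacter G) ∈ B := by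
    rw [hB, CfsgLib.Blocks.principalBlock_eq]
    exact CfsgLib.Blocks.sameBlock_refl _
  have hBblock : Cfsg.IsPBlock M B := by
    rw [hB, CfsgLib.Blocks.principalBlock_eq]; exact CfsgLib.Blocks.isPBlock_blockOf _
  -- constancy
  have hconst : ∀ χ ∈ B, ∀ v ∈ V, v ≠ 1 → ∀ d ∈ D, (χ : G → ℂ) (v * d) = (intVal χ hx2 : ℂ) := by
    intro χ hχ v hv hv1 d hd
    have hcl := CfsgLib.Char.isClassFunction_iff.1 (CfsgLib.Char.isClassFunction_of_isIrr χ.2)
    rw [← intVal_spec χ hx2, hcl x v (hconj v hv hv1)]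
    have hvo : orderOf v = 2 := (CfsgLib.Invol.orderOf_eq_of_isConj (hconj v hv hv1)).symm.trans hx
    refine CfsgLib.Invol.principalBlock_const hM ⟨1, by rw [pow_one]; exact hvo⟩ D ?_ ?_ ?_ hχ hd
    · rw [hcent v hv hv1]; exact hDC
    · rw [hcent v hv hv1]; exact hDn
    · exact fun h => (Nat.not_even_iff_odd.2 hDodd) (even_iff_two_dvd.2 h)
  let T : Cfsg.IrrCharacter G → ℂ := fun χ => ∑ d : ↥D, (χ : G → ℂ) (x * d)
  have hTB : ∀ χ ∈ B, T χ = (m : ℂ) * intVal χ hx2 := by
    intro χ hχ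
    show ∑ d : ↥D, (χ : G → ℂ) (x * d) = _
    rw [Finset.sum_congr rfl (fun (d : ↥D) _ => hconst χ hχ x hxV hx1 (d : G) d.2), Finset.sum_const, Finset.card_univ,
      ← Nat.card_eq_fintype_card, nsmul_eq_mul]
  -- column orthogonality
  have hrow : ∀ d : ↥D, Nat.card {d' : ↥D // IsConj (x * (d : G)) (x * (d' : G))} *
      Nat.card ↥(Subgroup.centralizer ({x * (d : G)} : Set G)) = 4 * m := by
    intro d
    set dC : ↥C := ⟨d, hDC d.2⟩
    have h1 := CfsgLib.Invol.card_conjugates_mul dC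
    rw [hCcard] at h1
    rw [← h1]
    congr 1
    · refine Nat.card_congr (Equiv.ofBijective (fun d' => ⟨⟨(d'.1 : G), hDC d'.1.2⟩, ?_⟩) ⟨?_, ?_⟩)
      · obtain ⟨g, hg⟩ := isConj_iff.1 d'.2
        obtain ⟨hgC, hgd⟩ := hconjC d d.2 d'.1 d'.1.2 g hg
        exact isConj_iff.2 ⟨⟨g, hgC⟩, Subtype.ext hgd⟩
      · intro a b h
        have h' : ((a.1 : ↥D) : G) = ((b.1 : ↥D) : G) := congrArg (fun y => ((y.1 : ↥C) : G)) h
        exact Subtype.ext (Subtype.ext h')
      · rintro ⟨y, hy⟩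
        obtain ⟨g, hg⟩ := isConj_iff.1 hy
        have hg' : (g : G) * d * (g : G)⁻¹ = y := congrArg Subtype.val hg
        have hyD : (y : G) ∈ D := hg' ▸ hDn g g.2 d d.2
        refine ⟨⟨⟨y, hyD⟩, isConj_iff.2 ⟨g, ?_⟩⟩, rfl⟩
        show (g : G) * (x * d) * (g : G)⁻¹ = x * y
        rw [← mul_assoc (g : G) x, Subgroup.mem_centralizer_singleton_iff.1 g.2, ← hg']
        group
    · refine Nat.card_congr ⟨fun g => ⟨⟨g, ?_⟩, ?_⟩, fun g => ⟨(g : ↥C), ?_⟩, fun g => rfl, fun g => rfl⟩
      · exact (hconjC d d.2 d d.2 g (mul_inv_eq_iff_eq_mul.2 (Subgroup.mem_centralizer_singleton_iff.1 g.2))).1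
      · exact Subgroup.mem_centralizer_singleton_iff.2 (Subtype.ext (mul_inv_eq_iff_eq_mul.1
          (hconjC d d.2 d d.2 g (mul_inv_eq_iff_eq_mul.2 (Subgroup.mem_centralizer_singleton_iff.1 g.2))).2))
      · refine Subgroup.mem_centralizer_singleton_iff.2 ?_
        have hd' : ((g : ↥C) : G) * d = d * ((g : ↥C) : G) :=
          congrArg Subtype.val (Subgroup.mem_centralizer_singleton_iff.1 g.2)
        rw [← mul_assoc, Subgroup.mem_centralizer_singleton_iff.1 (g : ↥C).2, mul_assoc, hd', ← mul_assoc]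
  have hT2 : ∑ χ : Cfsg.IrrCharacter G, Complex.normSq (T χ) = 4 * (m : ℝ) ^ 2 := by
    have hC2 : ∑ χ : Cfsg.IrrCharacter G, T χ * conj (T χ) = 4 * (m : ℂ) ^ 2 := by
      simp only [T, map_sum, Finset.sum_mul_sum]
      rw [Finset.sum_comm]
      have e : ∀ d : ↥D, ∑ χ : Cfsg.IrrCharacter G, ∑ d' : ↥D,
          (χ : G → ℂ) (x * d) * conj ((χ : G → ℂ) (x * d')) = 4 * (m : ℂ) := by
        intro d
        rw [Finset.sum_comm]
        simp only [CfsgLib.Char.second_orthogonality]
        rw [← Finset.sum_filter, Finset.sum_const, nsmul_eq_mul, ← Fintype.card_subtype, ← Nat.card_eq_fintype_card]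
        exact_mod_cast hrow d
      rw [Finset.sum_congr rfl fun d _ => e d, Finset.sum_const, Finset.card_univ, ← Nat.card_eq_fintype_card,
        nsmul_eq_mul, ← hm]
      ring
    apply Complex.ofReal_injective
    push_cast
    simp only [← Complex.mul_conj]
    exact hC2
  have hTB2 : ∀ χ ∈ B, Complex.normSq (T χ) = (m : ℝ) ^ 2 * (intVal χ hx2 : ℝ) ^ 2 := by
    intro χ hχ
    rw [hTB χ hχ, map_mul, Complex.normSq_natCast, Complex.normSq_intCast]
    ring
  set U := Finset.univ.filter (fun χ : Cfsg.IrrCharacter G => χ ∈ B ∧ intVal χ hx2 ≠ 0) with hU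
  have hone : intVal (CfsgLib.Char.irrOne : Cfsg.IrrCharacter G) hx2 = 1 := intVal_irrOne hx2
  have h1U : (CfsgLib.Char.irrOne : Cfsg.IrrCharacter G) ∈ U :=
    Finset.mem_filter.2 ⟨Finset.mem_univ _, h1B, by rw [hone]; norm_num⟩
  have hUsum : ∑ χ ∈ U, intVal χ hx2 ^ 2 ≤ 4 := by
    have h := Finset.sum_le_sum_of_subset_of_nonneg (Finset.subset_univ U)
      (fun χ _ _ => Complex.normSq_nonneg (T χ))
    rw [hT2, Finset.sum_congr rfl (fun χ hχ => hTB2 χ (Finset.mem_filter.1 hχ).2.1), ← Finset.mul_sum] at h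
    have h' : ∑ χ ∈ U, (intVal χ hx2 : ℝ) ^ 2 ≤ 4 := by
      have hpos : (0 : ℝ) < (m : ℝ) ^ 2 := by positivity
      nlinarith
    exact_mod_cast h'
  have hUlin : ∑ χ ∈ U, (deg χ : ℤ) * intVal χ hx2 = 0 := by
    have h := CfsgLib.Blocks.weak_orthogonality hM hBblock (x := 1) (y := x)
      (by rw [orderOf_one]; norm_num) (by rw [hx])
    have h' : ∑ χ : Cfsg.IrrCharacter G, (if χ ∈ B then (((deg χ : ℤ) * intVal χ hx2 : ℤ) : ℂ) else 0) = 0 := by
      refine Eq.trans (Finset.sum_congr rfl fun χ _ => ?_) h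
      split_ifs
      · rw [deg_spec χ, intVal_spec χ hx2, map_intCast]; push_cast; ring
      · rfl
    rw [← Finset.sum_filter, ← Int.cast_sum, Int.cast_eq_zero] at h'
    rw [← h']
    refine Finset.sum_subset (fun χ hχ => Finset.mem_filter.2 ⟨Finset.mem_univ _, (Finset.mem_filter.1 hχ).2.1⟩) ?_
    intro χ hχ hn
    have : intVal χ hx2 = 0 := by
      by_contra hne
      exact hn (Finset.mem_filter.2 ⟨Finset.mem_univ _, (Finset.mem_filter.1 hχ).2, hne⟩)
    rw [this, mul_zero]
  set W := U.erase CfsgLib.Char.irrOne with hW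
  have hWsum : ∑ χ ∈ W, intVal χ hx2 ^ 2 ≤ 3 := by
    rw [← Finset.add_sum_erase _ _ h1U, hone, ← hW] at hUsum
    linarith
  have hWlin : ∑ χ ∈ W, (deg χ : ℤ) * intVal χ hx2 = -1 := by
    rw [← Finset.add_sum_erase _ _ h1U, hone, deg_irrOne, ← hW] at hUlin
    push_cast at hUlin
    linarith
  have he : ∀ χ ∈ W, intVal χ hx2 = 1 ∨ intVal χ hx2 = -1 := by
    intro χ hχ
    have hne := (Finset.mem_filter.1 (Finset.mem_of_mem_erase hχ)).2.2
    have hle : intVal χ hx2 ^ 2 ≤ 3 :=
      le_trans (Finset.single_le_sum (fun χ _ => sq_nonneg (intVal χ hx2)) hχ) hWsum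
    have h1 : intVal χ hx2 < 2 := by nlinarith
    have h2 : -2 < intVal χ hx2 := by nlinarith
    omega
  have hWcard : W.card ≤ 3 := by
    have h1 : ∑ χ ∈ W, intVal χ hx2 ^ 2 = W.card := by
      rw [Finset.sum_congr rfl (fun χ hχ => show intVal χ hx2 ^ 2 = 1 by rcases he χ hχ with h | h <;> rw [h] <;> norm_num),
        Finset.sum_const, nsmul_eq_mul, mul_one]
    rw [h1] at hWsum
    exact_mod_cast hWsum
  have hdeg : ∀ χ ∈ W, 3 ≤ deg χ ∧ Odd (deg χ) := by
    intro χ hχ
    have hne := Finset.ne_of_mem_erase hχ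
    have hodd : Odd (deg χ) := by
      obtain ⟨j, hj⟩ := intVal_parity χ hx2
      rcases he χ hχ with h | h <;> rw [h] at hj <;> exact Nat.odd_iff.2 (by omega)
    obtain ⟨j, hj⟩ := hodd
    have : deg χ ≠ 1 := fun h => hne (eq_irrOne_of_linear hna χ h)
    exact ⟨by omega, ⟨j, hj⟩⟩
  have hW3 : W.card = 3 := by
    have h0 : W.card ≠ 0 := fun h => by
      rw [Finset.card_eq_zero.1 h, Finset.sum_empty] at hWlin; omega
    have h1 : W.card ≠ 1 := fun h => by
      obtain ⟨χ, hχ⟩ := Finset.card_eq_one.1 h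
      have hmem : χ ∈ W := by rw [hχ]; exact Finset.mem_singleton_self χ
      rw [hχ, Finset.sum_singleton] at hWlin
      have := (hdeg χ hmem).1
      rcases he χ hmem with h | h <;> rw [h] at hWlin <;> omega
    have h2 : W.card ≠ 2 := fun h => by
      obtain ⟨χ, ψ, hne, hχψ⟩ := Finset.card_eq_two.1 h
      have hm1 : χ ∈ W := by rw [hχψ]; simp
      have hm2 : ψ ∈ W := by rw [hχψ]; simp
      rw [hχψ, Finset.sum_pair hne] at hWlin
      obtain ⟨i, hi⟩ := (hdeg χ hm1).2
      obtain ⟨j, hj⟩ := (hdeg ψ hm2).2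
      rcases he χ hm1 with h' | h' <;> rcases he ψ hm2 with h'' | h'' <;> rw [h', h''] at hWlin <;> omega
    omega
  -- the other characters vanish on the section
  have hUfull : ∑ χ ∈ U, Complex.normSq (T χ) = 4 * (m : ℝ) ^ 2 := by
    rw [Finset.sum_congr rfl (fun χ hχ => hTB2 χ (Finset.mem_filter.1 hχ).2.1), ← Finset.mul_sum]
    have hsum : ∑ χ ∈ U, (intVal χ hx2 : ℝ) ^ 2 = 4 := by
      rw [← Finset.add_sum_erase _ _ h1U, hone, ← hW, Finset.sum_congr rfl (fun χ hχ =>
        show (intVal χ hx2 : ℝ) ^ 2 = 1 by rcases he χ hχ with h | h <;> rw [h] <;> norm_num),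
        Finset.sum_const, hW3]
      norm_num
    rw [hsum]; ring
  have hTzero : ∀ χ ∉ U, T χ = 0 := by
    intro χ hχ
    have h := Finset.sum_sdiff (Finset.subset_univ U) (f := fun χ => Complex.normSq (T χ))
    rw [hT2, hUfull, add_eq_right, Finset.sum_eq_zero_iff_of_nonneg (fun χ _ => Complex.normSq_nonneg _)] at h
    exact Complex.normSq_eq_zero.1 (h χ (Finset.mem_sdiff.2 ⟨Finset.mem_univ _, hχ⟩))
  -- counting pairs
  set k := C.index with hkdef
  have hG : (Nat.card G : ℂ) = 4 * (m : ℂ) * k := by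
    rw [← C.card_mul_index, hCcard]; push_cast; ring
  have hcls : (Nat.card {y : G // IsConj x y} : ℂ) = k := by
    have h := CfsgLib.Invol.card_conjugates_mul x
    rw [← hC, hCcard, ← C.card_mul_index, hCcard, mul_comm (4 * m)] at h
    exact_mod_cast Nat.eq_of_mul_eq_mul_right (by have := Nat.card_pos (α := ↥D); omega) h
  have hkey : ∀ d : ↥D, Nat.card {p : G × G // IsConj x p.1 ∧ IsConj x p.2 ∧ p.1 * p.2 = x * (d : G)} =
      if (d : G) = 1 then 2 else 0 := by
    intro d
    have hgen : ∀ u w : G, IsConj x u → IsConj x w → u * w = x * d → (d : G) = 1 ∧ u ∈ V ∧ u ≠ 1 ∧ u ≠ x := by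
      intro u w hu hw huw
      have huo := (CfsgLib.Invol.orderOf_eq_of_isConj hu).symm.trans hx
      have hwo := (CfsgLib.Invol.orderOf_eq_of_isConj hw).symm.trans hx
      have hu2 := CfsgLib.Invol.mul_self_of_orderOf_two huo
      have hui := CfsgLib.Invol.inv_eq_of_orderOf_two huo
      have hwi := CfsgLib.Invol.inv_eq_of_orderOf_two hwo
      have h1 : u * (x * d) * u⁻¹ = (x * d)⁻¹ := by
        rw [← huw, mul_inv_rev, hui, hwi, ← mul_assoc u u w, hu2, one_mul]
      have h2 : u * x * u⁻¹ = x := by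
        have := congrArg (· ^ m) h1
        simp only [conj_pow, inv_pow, hpow d d.2] at this
        rw [this]; exact CfsgLib.Invol.inv_eq_of_orderOf_two hx
      obtain ⟨v, hv, e, he', rfl⟩ := hdec u (Subgroup.mem_centralizer_singleton_iff.2 (mul_inv_eq_iff_eq_mul.1 h2))
      have he1 : e = 1 := by
        have hvv : v * v = 1 := by
          haveI := hV
          exact congrArg Subtype.val (IsKleinFour.mul_self (⟨v, hv⟩ : ↥V))
        have h3 : e * e = 1 := by
          calc e * e = (v * v) * (e * e) := by rw [hvv, one_mul]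
            _ = v * e * (v * e) := by
              calc (v * v) * (e * e) = v * (v * e) * e := by group
                _ = v * (e * v) * e := by rw [(hVD v hv e he').eq]
                _ = _ := by group
            _ = 1 := hu2
        obtain ⟨j, hj⟩ := hDodd
        have h4 := hdm e he'
        rw [hj, pow_succ, pow_mul, sq, h3, one_pow, one_mul] at h4
        exact h4
      subst he1
      rw [mul_one] at hu huo h1 hui huw hu2 ⊢
      have hd1 : (d : G) = 1 := by
        have h3 : v * (x * d) * v⁻¹ = x * d := mul_inv_eq_iff_eq_mul.2 (by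
          have hc1 : Commute v x := (Subgroup.mem_centralizer_singleton_iff.1
            (show v ∈ C from Subgroup.mem_centralizer_singleton_iff.2 (mul_inv_eq_iff_eq_mul.1 (by simpa using h2))))
          exact (hc1.mul_right (hVD v hv d d.2)).eq)
        rw [h3] at h1
        have h4 : (x * (d : G)) ^ 2 = 1 := by rw [sq]; nth_rewrite 1 [h1]; exact inv_mul_cancel _
        rw [(hVD x hxV d d.2).mul_pow, sq x, hx2, one_mul, sq] at h4
        obtain ⟨j, hj⟩ := hDodd
        have h5 := hdm d d.2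
        rw [hj, pow_succ, pow_mul, sq, h4, one_pow, one_mul] at h5
        exact h5
      refine ⟨hd1, hv, CfsgLib.Invol.ne_one_of_orderOf_two huo, fun h => ?_⟩
      rw [hd1, mul_one, h, mul_eq_left] at huw
      exact CfsgLib.Invol.ne_one_of_orderOf_two hwo huw
    split_ifs with hd
    · rw [show (2 : ℕ) = Nat.card {v : ↥V // (v : G) ≠ 1 ∧ (v : G) ≠ x} by
        haveI := Fintype.ofFinite ↥V
        rw [Nat.card_eq_fintype_card, Fintype.card_subtype,
          show (Finset.univ.filter fun v : ↥V => (v : G) ≠ 1 ∧ (v : G) ≠ x) =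
            (Finset.univ.erase 1).erase ⟨x, hxV⟩ by
              ext v
              simp only [Finset.mem_filter, Finset.mem_univ, true_and, Finset.mem_erase, ne_eq, Subtype.ext_iff,
                Subgroup.coe_one, and_true]
              exact and_comm,
          Finset.card_erase_of_mem (Finset.mem_erase.2 ⟨fun h => hx1 (congrArg Subtype.val h), Finset.mem_univ _⟩),
          Finset.card_erase_of_mem (Finset.mem_univ _), Finset.card_univ, ← Nat.card_eq_fintype_card, hV.card_four]]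
      refine Nat.card_congr (Equiv.ofBijective
        (fun p => ⟨⟨p.1.1, (hgen _ _ p.2.1 p.2.2.1 p.2.2.2).2.1⟩, (hgen _ _ p.2.1 p.2.2.1 p.2.2.2).2.2⟩) ⟨?_, ?_⟩)
      · intro p q h
        have h1 : p.1.1 = q.1.1 := congrArg (fun v : {v : ↥V // (v : G) ≠ 1 ∧ (v : G) ≠ x} => ((v.1 : ↥V) : G)) h
        refine Subtype.ext (Prod.ext h1 (mul_left_cancel (a := p.1.1) ?_))
        rw [p.2.2.2, h1, q.2.2.2]
      · rintro ⟨⟨v, hv⟩, hv1, hvx⟩
        haveI := hV
        have hvv : v * v = 1 := congrArg Subtype.val (IsKleinFour.mul_self (⟨v, hv⟩ : ↥V))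
        refine ⟨⟨(v, v * x), hconj v hv hv1, hconj _ (mul_mem hv hxV) ?_, ?_⟩, rfl⟩
        · intro h
          apply hvx
          exact (eq_inv_of_mul_eq_one_left h).trans (CfsgLib.Invol.inv_eq_of_orderOf_two hx)
        · show v * (v * x) = x * d
          rw [← mul_assoc, hvv, one_mul, hd, mul_one]
    · rw [Nat.card_eq_zero]
      exact Or.inl ⟨fun p => hd (hgen _ _ p.2.1 p.2.2.1 p.2.2.2).1⟩
  have hsum : (2 : ℂ) = (k : ℂ) * k / (4 * m * k) * ∑ χ ∈ U,
      (intVal χ hx2 : ℂ) * intVal χ hx2 * ((m : ℂ) * intVal χ hx2) / (deg χ : ℂ) := by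
    have h1 : ∑ d : ↥D, (Nat.card {p : G × G // IsConj x p.1 ∧ IsConj x p.2 ∧ p.1 * p.2 = x * (d : G)} : ℂ) = 2 := by
      simp only [hkey]
      rw [Finset.sum_eq_single (1 : ↥D)]
      · simp
      · intro d _ hd
        rw [if_neg (show ¬ ((d : G) = 1) from fun h => hd (Subtype.ext h))]; simp
      · simp
    simp only [CfsgLib.Char.card_classProduct_eq, hcls, hG] at h1
    rw [← Finset.mul_sum, Finset.sum_comm] at h1
    rw [← h1]
    congr 1
    have e : ∀ χ : Cfsg.IrrCharacter G, ∑ d : ↥D, (χ : G → ℂ) x * (χ : G → ℂ) x * conj ((χ : G → ℂ) (x * d)) / (χ : G → ℂ) 1 =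
        (intVal χ hx2 : ℂ) * intVal χ hx2 * conj (T χ) / (deg χ : ℂ) := by
      intro χ
      rw [intVal_spec χ hx2, deg_spec χ, map_sum, Finset.mul_sum, Finset.sum_div]
    rw [Finset.sum_congr rfl fun χ _ => e χ, ← Finset.sum_subset (Finset.subset_univ U) (fun χ _ hχ => by
      rw [hTzero χ hχ, map_zero, mul_zero, zero_div])]
    refine Finset.sum_congr rfl fun χ hχ => ?_
    rw [hTB χ (Finset.mem_filter.1 hχ).2.1, map_mul, map_natCast, map_intCast]
  obtain ⟨χ₁, χ₂, χ₃, h12, h13, h23, hWeq⟩ := Finset.card_eq_three.1 hW3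
  have m1 : χ₁ ∈ W := by rw [hWeq]; simp
  have m2 : χ₂ ∈ W := by rw [hWeq]; simp
  have m3 : χ₃ ∈ W := by rw [hWeq]; simp
  obtain ⟨a3, ao⟩ := hdeg χ₁ m1
  obtain ⟨b3, bo⟩ := hdeg χ₂ m2
  obtain ⟨c3, co⟩ := hdeg χ₃ m3
  have e1 := he χ₁ m1
  have e2 := he χ₂ m2
  have e3 := he χ₃ m3
  have hlin : 1 + intVal χ₁ hx2 * deg χ₁ + intVal χ₂ hx2 * deg χ₂ + intVal χ₃ hx2 * deg χ₃ = (0 : ℤ) := by
    rw [hWeq, Finset.sum_insert (by simp [h12, h13]), Finset.sum_pair h23] at hWlin
    linarith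
  have heq : (k : ℤ) * ((deg χ₁ : ℤ) * deg χ₂ * deg χ₃ + intVal χ₁ hx2 * ((deg χ₂ : ℤ) * deg χ₃) +
      intVal χ₂ hx2 * ((deg χ₁ : ℤ) * deg χ₃) + intVal χ₃ hx2 * ((deg χ₁ : ℤ) * deg χ₂)) =
      8 * ((deg χ₁ : ℤ) * deg χ₂ * deg χ₃) := by
    rw [← Finset.add_sum_erase _ _ h1U, hone, deg_irrOne, ← hW, hWeq,
      Finset.sum_insert (by simp [h12, h13]), Finset.sum_pair h23] at hsum
    have hm' : (m : ℂ) ≠ 0 := by exact_mod_cast Nat.card_pos.ne'
    have hk' : (k : ℂ) ≠ 0 := by exact_mod_cast Subgroup.index_ne_zero_of_finite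
    have d1 : (deg χ₁ : ℂ) ≠ 0 := by exact_mod_cast (by omega : deg χ₁ ≠ 0)
    have d2 : (deg χ₂ : ℂ) ≠ 0 := by exact_mod_cast (by omega : deg χ₂ ≠ 0)
    have d3 : (deg χ₃ : ℂ) ≠ 0 := by exact_mod_cast (by omega : deg χ₃ ≠ 0)
    have q1 : ∀ e : ℤ, e = 1 ∨ e = -1 → (e : ℂ) * e = 1 := fun e h => by rcases h with rfl | rfl <;> norm_num
    rw [q1 _ e1, q1 _ e2, q1 _ e3] at hsum
    push_cast at hsum
    field_simp at hsum
    rw [← @Int.cast_inj ℂ]
    push_cast
    linear_combination -hsum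
  intro d hd
  have huse : ∀ χ ∈ W, deg χ = 3 → intVal χ hx2 = -1 → d = 1 := by
    intro χ hχ h3 hneg
    have hχB : χ ∈ B := (Finset.mem_filter.1 (Finset.mem_of_mem_erase hχ)).2.1
    refine eq_one_of_degree_three V hV χ (by rw [deg_spec χ, h3]; norm_num) d fun v hv hv1 => ⟨?_, ?_⟩
    · rw [hconst χ hχB v hv hv1 d hd, hneg]; norm_num
    · rw [← mul_one v, hconst χ hχB v hv hv1 1 (one_mem D), hneg]; norm_num
  rcases degree_three a3 b3 c3 ao bo co hk e1 e2 e3 hlin heq with ⟨h, h'⟩ | ⟨h, h'⟩ | ⟨h, h'⟩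
  · exact huse _ m1 h h'
  · exact huse _ m2 h h'
  · exact huse _ m3 h h'

end chars


/-- Let G be a finite simple group with an involution x such that a Sylow 2-subgroup of C_G(x) is a Klein four-group which is normal in C_G(x). Then G is isomorphic to the alternating group of degree 5 (that is, to PSL(2, 5)). -/
theorem result {G : Type*} [Group G] [Finite G] [IsSimpleGroup G] (x : G) (hx : orderOf x = 2)
    (S₀ : Subgroup G) (hle : S₀ ≤ Subgroup.centralizer ({x} : Set G)) (hK : IsKleinFour ↥S₀)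
    (hodd : ¬ 2 ∣ S₀.relIndex (Subgroup.centralizer ({x} : Set G))) (hn : (S₀.subgroupOf (Subgroup.centralizer ({x} : Set G))).Normal) :
    Nonempty (G ≃* ↥(alternatingGroup (Fin 5))) := by
  classical
  haveI : Fact (Nat.Prime 2) := ⟨Nat.prime_two⟩
  set C := Subgroup.centralizer ({x} : Set G) with hC
  haveI := hn
  haveI := hK
  have h4 : Nat.card ↥S₀ = 4 := hK.card_four
  have hP : IsPGroup 2 ↥(S₀.subgroupOf C) :=
    (IsPGroup.of_card (p := 2) (G := ↥S₀) (n := 2) (by rw [h4]; norm_num)).of_equiv (Subgroup.subgroupOfEquivOfLe hle).symm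
  let P : Sylow 2 ↥C := hP.toSylow (by exact hodd)
  have hPeq : (P : Subgroup ↥C) = S₀.subgroupOf C := rfl
  haveI hPn : (P : Subgroup ↥C).Normal := hn
  have h2el : ∀ g : ↥C, IsPGroup 2 ↥(Subgroup.zpowers g) → g ∈ S₀.subgroupOf C := fun g hg =>
    (P.3 (hg.to_sup_of_normal_right P.2) le_sup_right).le (le_sup_left (b := (P : Subgroup ↥C)) (Subgroup.mem_zpowers g))
  have hx2 : x * x = 1 := CfsgLib.Invol.mul_self_of_orderOf_two hx
  have hxC : x ∈ C := Subgroup.mem_centralizer_singleton_iff.2 rfl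
  have hxS : x ∈ S₀ := h2el ⟨x, hxC⟩ (IsPGroup.of_card (n := 1) (by
    rw [Nat.card_zpowers, ← Subgroup.orderOf_coe, hx, pow_one]))
  have hS2 : ∀ v ∈ S₀, v * v = 1 := fun v hv => congrArg Subtype.val (IsKleinFour.mul_self (⟨v, hv⟩ : ↥S₀))
  have hSc : ∀ a ∈ S₀, ∀ b ∈ S₀, a * b = b * a := by
    intro a ha b hb
    calc a * b = (a * b)⁻¹ := (inv_eq_of_mul_eq_one_right (hS2 _ (mul_mem ha hb))).symm
      _ = b * a := by rw [mul_inv_rev, inv_eq_of_mul_eq_one_right (hS2 a ha), inv_eq_of_mul_eq_one_right (hS2 b hb)]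
  have h3 : Nat.card {u : ↥C // orderOf u = 2} ≤ 3 := by
    haveI := Fintype.ofFinite ↥S₀
    let ι : {u : ↥C // orderOf u = 2} → {v : ↥S₀ // v ≠ 1} := fun u =>
      ⟨⟨(u.1 : G), Subgroup.mem_subgroupOf.1 (h2el u.1 (IsPGroup.of_card (n := 1) (by rw [Nat.card_zpowers, u.2, pow_one])))⟩,
        fun h => by
          have hg' : ((u.1 : ↥C) : G) = 1 := congrArg Subtype.val h
          have h' : u.1 = 1 := Subtype.ext hg'
          have h2 := u.2
          rw [h', orderOf_one] at h2
          norm_num at h2⟩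
    refine (Nat.card_le_card_of_injective ι fun a b h => ?_).trans (le_of_eq ?_)
    · exact Subtype.ext (Subtype.ext (congrArg (fun v : {v : ↥S₀ // v ≠ 1} => ((v.1 : ↥S₀) : G)) h))
    · rw [Nat.card_eq_fintype_card, Fintype.card_subtype_compl, Fintype.card_subtype_eq, ← Nat.card_eq_fintype_card, h4]
  obtain ⟨⟨S, hSC⟩, hall⟩ := Cfsg.Agent.S3279.result x hx h3
  -- the four group is central
  have hcentral : ∀ g ∈ C, ∀ b ∈ S₀, g * b = b * g := by
    intro g hg b hb
    have hcj : ∀ h ∈ C, ∀ v ∈ S₀, h * v * h⁻¹ ∈ S₀ := fun h hh v hv =>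
      hn.conj_mem ⟨v, hle hv⟩ hv ⟨h, hh⟩
    by_contra hne
    have hgx : g * x * g⁻¹ = x := mul_inv_eq_iff_eq_mul.2 (Subgroup.mem_centralizer_singleton_iff.1 hg)
    have hbx : b ≠ x := fun h => hne (by rw [h]; exact Subgroup.mem_centralizer_singleton_iff.1 hg)
    have hb1 : b ≠ 1 := fun h => hne (by rw [h, mul_one, one_mul])
    have hxb1 : x * b ≠ 1 := fun h => hbx (by
      rw [← inv_eq_of_mul_eq_one_right h]; exact inv_eq_of_mul_eq_one_right hx2)
    have hfour : ∀ v ∈ S₀, v = 1 ∨ v = x ∨ v = b ∨ v = x * b := by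
      intro v hv
      have hx1 : (⟨x, hxS⟩ : ↥S₀) ≠ 1 := fun h => CfsgLib.Invol.ne_one_of_orderOf_two hx (congrArg Subtype.val h)
      have hb1' : (⟨b, hb⟩ : ↥S₀) ≠ 1 := fun h => hb1 (congrArg Subtype.val h)
      have hxb : (⟨x, hxS⟩ : ↥S₀) ≠ ⟨b, hb⟩ := fun h => hbx (congrArg Subtype.val h).symm
      by_contra hcon
      push Not at hcon
      have := IsKleinFour.eq_mul_of_ne_all hx1 hb1' hxb (z := (⟨v, hv⟩ : ↥S₀))
      have hv1 : (⟨v, hv⟩ : ↥S₀) ≠ 1 := fun h => hcon.1 (congrArg Subtype.val h)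
      exact hcon.2.2.2 (congrArg Subtype.val (this hv1 (fun h => hcon.2.1 (congrArg Subtype.val h))
        (fun h => hcon.2.2.1 (congrArg Subtype.val h))))
    have hflip : g * b * g⁻¹ = x * b := by
      rcases hfour _ (hcj g hg b hb) with h | h | h | h
      · exact absurd (conj_eq_one_iff.1 h) hb1
      · exact absurd (mul_left_cancel (mul_right_cancel (h.trans hgx.symm))) hbx
      · exact absurd (mul_inv_eq_iff_eq_mul.1 h) hne
      · exact h
    have hpow : ∀ j : ℕ, g ^ j * b * (g ^ j)⁻¹ = x ^ j * b := by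
      intro j
      induction j with
      | zero => simp
      | succ j ih =>
        have hgxj : g * x ^ j * g⁻¹ = x ^ j := by rw [← conj_pow, hgx]
        calc g ^ (j + 1) * b * (g ^ (j + 1))⁻¹ = g * (g ^ j * b * (g ^ j)⁻¹) * g⁻¹ := by rw [pow_succ']; group
          _ = (g * x ^ j * g⁻¹) * (g * b * g⁻¹) := by rw [ih]; group
          _ = _ := by rw [hgxj, hflip, pow_succ, mul_assoc]
    obtain ⟨a, j, hj, hord⟩ := Nat.exists_eq_two_pow_mul_odd (orderOf_pos g).ne'
    have hmem : (⟨g, hg⟩ : ↥C) ^ j ∈ S₀.subgroupOf C := by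
      refine h2el _ ?_
      have hdv : orderOf ((⟨g, hg⟩ : ↥C) ^ j) ∣ 2 ^ a := orderOf_dvd_of_pow_eq_one (by
        rw [← pow_mul, mul_comm, ← hord]
        exact Subtype.ext (pow_orderOf_eq_one g))
      obtain ⟨i, -, hi⟩ := (Nat.dvd_prime_pow Nat.prime_two).1 hdv
      exact IsPGroup.of_card (n := i) (by rw [Nat.card_zpowers, hi])
    have hgb : g ^ j * b * (g ^ j)⁻¹ = b := mul_inv_eq_iff_eq_mul.2 (hSc _ (Subgroup.mem_subgroupOf.1 hmem) b hb)
    rw [hpow j] at hgb
    obtain ⟨i, rfl⟩ := hj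
    rw [pow_succ, pow_mul, sq, hx2, one_pow, one_mul, mul_eq_right] at hgb
    exact CfsgLib.Invol.ne_one_of_orderOf_two hx hgb
  -- the complement
  have hNC : Subgroup.normalizer ((P : Subgroup ↥C) : Set ↥C) ≤ Subgroup.centralizer ((P : Subgroup ↥C) : Set ↥C) := by
    intro g _
    rw [Subgroup.mem_centralizer_iff]
    intro y hy
    exact Subtype.ext (hcentral g g.2 y hy).symm
  obtain ⟨P1, N, hN, hNP⟩ := CfsgLib.Transfer.hasNormalPComplement_of_normalizer_le_centralizer P hNC
  haveI := hN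
  have hP1 : (P1 : Subgroup ↥C) = S₀.subgroupOf C := by
    refine Subgroup.eq_of_le_of_card_ge ?_ (Nat.card_congr (Sylow.equiv P P1).toEquiv).le
    intro g hg
    exact h2el g (P1.2.to_le (Subgroup.zpowers_le.2 hg))
  have hCN : Nat.card ↥C = 4 * Nat.card ↥N := by
    rw [← hNP.card_mul, hP1, Nat.card_congr (Subgroup.subgroupOfEquivOfLe hle).toEquiv, h4]
    ring
  have hNodd : Odd (Nat.card ↥N) := by
    rw [← Nat.not_even_iff_odd, even_iff_two_dvd]
    intro h
    refine hodd ?_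
    show 2 ∣ (S₀.subgroupOf C).index
    rwa [← hP1, hNP.index_eq_card]
  set D := N.map C.subtype with hD
  have hDcard : Nat.card ↥D = Nat.card ↥N := Subgroup.card_map_of_injective C.subtype_injective
  have hScard : Nat.card ↥(S : Subgroup G) = 4 := by
    obtain ⟨n, hn'⟩ := IsPGroup.iff_card.1 S.2
    have h48 : 2 ^ n ∣ 4 * Nat.card ↥N := hCN ▸ hn' ▸ Subgroup.card_dvd_of_le hSC
    obtain ⟨Q, hQ⟩ := (IsPGroup.of_card (p := 2) (G := ↥S₀) (n := 2) (by rw [h4]; norm_num)).exists_le_sylow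
    have h16 := Subgroup.card_le_of_le hQ
    rw [h4, Nat.card_congr (Sylow.equiv Q S).toEquiv, hn'] at h16
    have hle4 : 2 ^ n ∣ 4 := (Nat.Coprime.pow_left n hNodd.coprime_two_left).dvd_of_dvd_mul_right h48
    have := Nat.le_of_dvd (by norm_num) hle4
    rw [hn']; omega
  have hk : Odd C.index := by
    rw [← Nat.not_even_iff_odd, even_iff_two_dvd]
    intro h
    refine S.not_dvd_index ?_
    have h1 := (S : Subgroup G).card_mul_index
    rw [hScard, ← C.card_mul_index, hCN] at h1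
    have : (S : Subgroup G).index = Nat.card ↥N * C.index := by nlinarith
    rw [this]; exact dvd_mul_of_dvd_right h _
  have hconj : ∀ v ∈ S₀, v ≠ 1 → IsConj x v := fun v hv hv1 =>
    hall x v hx (orderOf_eq_prime (by rw [sq]; exact hS2 v hv) hv1)
  have hcentv : ∀ v ∈ S₀, v ≠ 1 → Subgroup.centralizer ({v} : Set G) = C := by
    intro v hv hv1
    refine (Subgroup.eq_of_le_of_card_ge (fun g hg => Subgroup.mem_centralizer_singleton_iff.2 (hcentral g hg v hv)) ?_).symm
    rw [CfsgLib.Invol.card_centralizer_of_isConj (hconj v hv hv1)]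
  have hna : ¬ IsMulCommutative G := by
    intro h
    haveI := h
    letI : CommGroup G := { ‹Group G› with mul_comm := fun a b => h.is_comm.comm a b }
    have hp := IsSimpleGroup.prime_card (α := G)
    have h1 : 4 ∣ Nat.card G := h4 ▸ Subgroup.card_subgroup_dvd_card S₀
    rcases hp.eq_one_or_self_of_dvd 2 ((show 2 ∣ 4 by norm_num).trans h1) with h2 | h2
    · omega
    · have := Nat.le_of_dvd Nat.card_pos h1
      omega
  have htriv := odd_part_trivial hna x hx S₀ hK hxS D (hDcard ▸ hNodd) (by rw [hDcard, ← hC, hCN]) (by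
      intro c hc
      obtain ⟨⟨n, p⟩, hpn⟩ := hNP.2 (⟨c, hc⟩ : ↥C)
      have hp : (p : ↥C) ∈ S₀.subgroupOf C := hP1 ▸ p.2
      refine ⟨((p : ↥C) : G), Subgroup.mem_subgroupOf.1 hp, ((n : ↥C) : G), ⟨n, n.2, rfl⟩, ?_⟩
      exact (congrArg Subtype.val hpn).symm.trans (hcentral _ (n : ↥C).2 _ (Subgroup.mem_subgroupOf.1 hp)))
    (by rintro v hv _ ⟨n, -, rfl⟩; exact (hcentral n n.2 v hv).symm)
    (by rintro c hc _ ⟨n, hn', rfl⟩; exact ⟨_, hN.conj_mem n hn' ⟨c, hc⟩, rfl⟩)
    hconj hcentv hk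
  have hN1 : Nat.card ↥N = 1 := by
    rw [← hDcard, Subgroup.eq_bot_iff_forall D |>.2 htriv, Subgroup.card_bot]
  have hC4 : Nat.card ↥C = 4 := by rw [hCN, hN1]
  have hCS : C = S₀ := (Subgroup.eq_of_le_of_card_ge hle (by rw [hC4, h4])).symm
  refine Cfsg.Agent.S3277.result x hx hC4 (fun c hc => by rw [sq]; exact hS2 c (hCS ▸ hc)) ?_ ?_
  · rintro ⟨Q, M, hM, hMQ⟩
    rcases hM.eq_bot_or_eq_top with rfl | rfl
    · have h1 := hMQ.card_mul
      rw [Subgroup.card_bot] at h1
      have hQtop : (Q : Subgroup G) = ⊤ := Subgroup.eq_top_of_card_eq _ (by omega)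
      haveI : Nontrivial G := IsSimpleGroup.toNontrivial
      have hp : IsPGroup 2 G := fun g => by
        obtain ⟨j, hj⟩ := Q.2 ⟨g, hQtop ▸ Subgroup.mem_top g⟩
        exact ⟨j, congrArg Subtype.val hj⟩
      haveI := hp.center_nontrivial
      rcases Subgroup.Normal.eq_bot_or_eq_top (H := Subgroup.center G) inferInstance with h | h
      · exact absurd h (Subgroup.nontrivial_iff_ne_bot _ |>.1 inferInstance)
      · exact hna ⟨⟨fun a b => (Subgroup.mem_center_iff.1 (h ▸ Subgroup.mem_top b : b ∈ Subgroup.center G) a)⟩⟩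
    · have h1 := hMQ.card_mul
      rw [Subgroup.card_top] at h1
      have h2 : Nat.card ↥(Q : Subgroup G) = 1 := by
        have := Nat.card_pos (α := G)
        nlinarith
      rw [Nat.card_congr (Sylow.equiv Q S).toEquiv, hScard] at h2
      omega
  · intro E hE hEe
    rcases hE.eq_bot_or_eq_top with rfl | rfl
    · rw [Subgroup.card_bot]; omega
    · exfalso
      refine hna ⟨⟨fun a b => ?_⟩⟩
      exact congrArg Subtype.val (hEe.1.is_comm.comm (⟨a, trivial⟩ : ↥(⊤ : Subgroup G)) ⟨b, trivial⟩)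

end Cfsg.Agent.S3278
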