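import Cfsg.Statements.S0601
import Cfsg.Agent.Lib.Transfer.Sections
import Cfsg.Agent.Lib.Cores.Basic
import Cfsg.Agent.Lib.PGroup.ElemAbelian

set_option autoImplicit false
open Cfsg
open scoped commutatorElement

namespace Cfsg.Agent.S0601

/-- When O_p(G) contains its centralizer, the normal closure of Ω₁(Z(S)) is elementary abelian and G has no nontrivial normal p-subgroup modulo its centralizer. -/
theorem result {G : Type*} [Group G] [Finite G] {p : ℕ} [Fact p.Prime] (hc : Subgroup.centralizer (Cfsg.pCore p G : Set G) ≤ Cfsg.pCore p G) : (⨆ S : Sylow p G, Cfsg.omegaOne p (((S : Subgroup G)) ⊓ Subgroup.centralizer ((S : Subgroup G) : Set G))).Normal ∧ Cfsg.IsElementaryAbelian p (⨆ S : Sylow p G, Cfsg.omegaOne p (((S : Subgroup G)) ⊓ Subgroup.centralizer ((S : Subgroup G) : Set G))) ∧ ∀ D : Subgroup G, D.Normal → Subgroup.centralizer ((⨆ S : Sylow p G, Cfsg.omegaOne p (((S : Subgroup G)) ⊓ Subgroup.centralizer ((S : Subgroup G) : Set G)) : Subgroup G) :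 Set G) ≤ D → (∃ k : ℕ, (Subgroup.centralizer ((⨆ S : Sylow p G, Cfsg.omegaOne p (((S : Subgroup G)) ⊓ Subgroup.centralizer ((S : Subgroup G) : Set G)) : Subgroup G) : Set G)).relIndex D = p ^ k) → D = Subgroup.centralizer ((⨆ S : Sylow p G, Cfsg.omegaOne p (((S : Subgroup G)) ⊓ Subgroup.centralizer ((S : Subgroup G) : Set G)) : Subgroup G) : Set G) := by
  set f := fun S : Sylow p G =>
    Cfsg.omegaOne p ((S : Subgroup G) ⊓ Subgroup.centralizer ((S : Subgroup G) : Set G)) with hf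
  have hle : ∀ S, f S ≤ Subgroup.centralizer ((S : Subgroup G) : Set G) :=
    fun S => (CfsgLib.PGroup.omegaOne_le p _).trans inf_le_right
  have hO : ∀ S, f S ≤ Cfsg.pCore p G ⊓ Subgroup.centralizer (Cfsg.pCore p G : Set G) := fun S =>
    have h1 : f S ≤ Subgroup.centralizer (Cfsg.pCore p G : Set G) :=
      (hle S).trans (Subgroup.centralizer_le (CfsgLib.Cores.pCore_le_sylow S))
    le_inf (h1.trans hc) h1
  refine ⟨⟨fun x hx g => ?_⟩, ?_, fun D hD hCD hk =>
    CfsgLib.Transfer.eq_centralizer_of_iSup D f hle rfl hCD hk⟩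
  · have : (⨆ S, f S).map (MulAut.conj g).toMonoidHom ≤ ⨆ S, f S := by
      rw [Subgroup.map_iSup]
      refine iSup_le fun S => le_iSup_of_le (g • S) ?_
      refine (CfsgLib.PGroup.map_omegaOne_le p _ _).trans (CfsgLib.PGroup.omegaOne_mono ?_)
      rintro _ ⟨y, ⟨hy1, hy2⟩, rfl⟩
      have hy1' : (MulAut.conj g) y ∈ ((g • S : Sylow p G) : Subgroup G) := by
        rw [Sylow.coe_subgroup_smul]
        exact Subgroup.smul_mem_pointwise_smul y (MulAut.conj g) _ hy1
      refine ⟨hy1', Subgroup.mem_centralizer_iff.2 fun w hw => ?_⟩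
      change w ∈ ((g • S : Sylow p G) : Subgroup G) at hw
      rw [Sylow.coe_subgroup_smul] at hw
      obtain ⟨z, hz, rfl⟩ := hw
      show (MulAut.conj g) z * (MulAut.conj g) y = (MulAut.conj g) y * (MulAut.conj g) z
      rw [← map_mul, ← map_mul, Subgroup.mem_centralizer_iff.1 hy2 z hz]
    exact this ⟨x, hx, rfl⟩
  · refine CfsgLib.PGroup.elemAb_mono (B := Cfsg.omegaOne p (Cfsg.pCore p G ⊓
      Subgroup.centralizer (Cfsg.pCore p G : Set G))) ?_ (iSup_le fun S => ?_)
    · exact CfsgLib.PGroup.elemAb_omegaOne_of_comm fun a ha b hb =>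
        Subgroup.mem_centralizer_iff.1 hb.2 a ha.1
    · refine (Subgroup.closure_le _).2 ?_
      rintro x ⟨hx1, hx2⟩
      exact CfsgLib.PGroup.mem_omegaOne (hO S (CfsgLib.PGroup.mem_omegaOne hx1 hx2)) hx2

end Cfsg.Agent.S0601
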