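import Cfsg.Statements.S0606
import Cfsg.Agent.Lib.Transfer.Thompson
import Cfsg.Agent.Lib.Transfer.Counting

set_option autoImplicit false
open Cfsg
open scoped commutatorElement

namespace Cfsg.Agent.S0606

/-- Elementary abelian p-subgroups of maximal order are best offenders on any normal elementary abelian p-subgroup. -/
theorem result {G : Type*} [Group G] [Finite G] {p : ℕ} [Fact p.Prime] (V : Subgroup G) [V.Normal] (hV : Cfsg.IsElementaryAbelian p V) (A : Subgroup G) (hA : A ∈ Cfsg.maxElementaryAbelianSubgroups p G) : Cfsg.IsBestOffenderOn p V A := by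
  have hcomm : ∀ a ∈ A, ∀ b ∈ A, a * b = b * a := fun a ha b hb =>
    CfsgLib.PGroup.elemAb_comm hA.1 ha hb
  refine ⟨fun B hBA => ?_, ?_, fun a ha => ?_⟩
  · set CB := V ⊓ Subgroup.centralizer (B : Set G)
    set CA := V ⊓ Subgroup.centralizer (A : Set G)
    have hc : ∀ b ∈ B, ∀ c ∈ CB, b * c = c * b := fun b hb c hc =>
      Subgroup.mem_centralizer_iff.1 hc.2 b hb
    rw [CfsgLib.Transfer.card_mul_card_of_commute B CB hc]
    refine Nat.mul_le_mul (hA.2 _ (CfsgLib.PGroup.elemAb_sup (CfsgLib.PGroup.elemAb_mono hA.1 hBA)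
      (CfsgLib.PGroup.elemAb_mono hV inf_le_left) hc)) (Subgroup.card_le_of_le ?_)
    exact fun x hx => ⟨hx.2.1, Subgroup.mem_centralizer_iff.2 fun a ha => hcomm a ha x (hBA hx.1)⟩
  · have h : ⁅A, A⁆ = ⊥ := Subgroup.commutator_eq_bot_iff_le_centralizer.2 fun a ha =>
      Subgroup.mem_centralizer_iff.2 fun b hb => hcomm b hb a ha
    rw [h]
    exact bot_le
  · rw [hA.1.2 a ha]
    exact one_mem _

end Cfsg.Agent.S0606
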