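import Cfsg.Statements.S5029
import Cfsg.Agent.Lib.RootSubgroups.LineLemmas

set_option autoImplicit false
open Cfsg

namespace Cfsg.Agent.S5029

/-- Let S be a set of abstract root subgroups of G, A ∈ S having a rank one partner in S, and B ∈ S with C = ⁅A, B⁆ ∈ S. Then the members of S contained in AC are the conjugates of A by elements of B together with C, they partition AC, the members of S inside AC partition AC so that A is a line partner of C, and for every non-identity a ∈ A the map b ↦ a⁻¹ b⁻¹ a b is an isomorphism from B onto C. -/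
theorem result {G : Type*} [Group G] {S : Set (Subgroup G)} (hS : Cfsg.IsRootSubgroupSet S)
    {A B : Subgroup G} (hA : ¬ Cfsg.IsIsolatedIn (Cfsg.FAdj S) S A) (hAS : A ∈ S) (hB : B ∈ S) (hC : ⁅A, B⁆ ∈ S) :
    Cfsg.membersIn S (A ⊔ ⁅A, B⁆) = (fun b : G => Cfsg.conjBy A b) '' (B : Set G) ∪ {⁅A, B⁆} ∧
    Cfsg.IsSubgroupPartition (A ⊔ ⁅A, B⁆) (Cfsg.membersIn S (A ⊔ ⁅A, B⁆)) ∧
    A ∈ Cfsg.linePartners S ⁅A, B⁆ ∧
    ∀ a ∈ A, a ≠ 1 → ∃ φ : ↥B ≃* ↥⁅A, B⁆, ∀ b : ↥B, (φ b : G) = a⁻¹ * (b : G)⁻¹ * a * b := by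
  classical
  open CfsgLib.RankOne CfsgLib.RootLine in
  have h := CfsgLib.RootLine.commCase hS hAS hB hC
  set C := ⁅A, B⁆ with hCdef
  have hnC : ∀ b : G, Cfsg.conjBy A b ∈ S := fun b => hS.conj_mem A hAS b
  have hconjn : ∀ b : G, ¬ Cfsg.IsIsolatedIn (Cfsg.FAdj S) S (Cfsg.conjBy A b) := fun b hi => by
    obtain ⟨R, hR, hAR⟩ := CfsgLib.RankOne.exists_partner_of_not_isolated hAS hA
    exact (hi.2 (Cfsg.conjBy R b)).1 ⟨hnC b, hS.conj_mem R hR b, CfsgLib.RankOne.isRankOnePair_conjBy hAR b⟩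
  have hfix : ∀ b ∈ B, Cfsg.conjBy C b = C := fun b hb => by
    rw [hCdef, Subgroup.commutator_comm A B]
    exact CfsgLib.RootLine.commutator_invariant hS hB A hb
  have hinfC : ∀ b ∈ B, Cfsg.conjBy A b ⊓ C = ⊥ := fun b hb => by
    rw [← hfix b hb, ← Subgroup.map_inf _ _ _ (MulAut.conj b).injective,
      CfsgLib.RootLine.inf_commutator hS hAS hA h, Subgroup.map_bot]
  have hmem : Cfsg.membersIn S (A ⊔ C) = (fun b : G => Cfsg.conjBy A b) '' (B : Set G) ∪ {C} := by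
    ext D
    constructor
    · rintro ⟨hD, hDle⟩
      by_cases hDC : D ≤ C
      · exact Or.inr (CfsgLib.RootLine.eq_commutator_of_le hS hAS hA hB h hD hDC)
      · obtain ⟨x, hx, hxC⟩ := SetLike.not_le_iff_exists.1 hDC
        obtain ⟨b, hb, hxb⟩ := CfsgLib.RootLine.exists_conj_mem hS hAS h (hDle hx) hxC
        refine Or.inl ⟨b, hb, ?_⟩
        refine (CfsgLib.RankOne.inf_eq_bot_or_eq hS (hnC b) (hconjn b) hD).resolve_left fun e => hxC ?_
        rw [(Subgroup.eq_bot_iff_forall _).1 e x ⟨hxb, hx⟩]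
        exact one_mem C
    · rintro (⟨b, hb, rfl⟩ | rfl)
      · exact ⟨hnC b, CfsgLib.RootLine.conjBy_le_sup h hb⟩
      · exact ⟨hC, le_sup_right⟩
  have hpart : Cfsg.IsSubgroupPartition (A ⊔ C) (Cfsg.membersIn S (A ⊔ C)) := by
    refine ⟨fun D hD => hD.2, fun x hx _ => ?_, fun D hD E hE hne => ?_⟩
    · rw [hmem]
      by_cases hxC : x ∈ C
      · exact ⟨C, Or.inr rfl, hxC⟩
      · obtain ⟨b, hb, hxb⟩ := CfsgLib.RootLine.exists_conj_mem hS hAS h hx hxC
        exact ⟨_, Or.inl ⟨b, hb, rfl⟩, hxb⟩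
    · rw [hmem] at hD hE
      rcases hD with ⟨b, hb, rfl⟩ | rfl
      · exact (CfsgLib.RankOne.inf_eq_bot_or_eq hS (hnC b) (hconjn b) (by
          rcases hE with ⟨b', hb', rfl⟩ | rfl
          · exact hnC b'
          · exact hC)).resolve_right hne
      · rcases hE with ⟨b, hb, rfl⟩ | rfl
        · rw [inf_comm]; exact hinfC b hb
        · exact absurd rfl hne
  refine ⟨hmem, hpart, ⟨⟨hAS, fun e => hS.ne_bot A hAS ?_, ?_⟩, ?_⟩, fun a ha ha1 => ?_⟩
  · have := CfsgLib.RootLine.inf_commutator hS hAS hA h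
    rwa [← hCdef, ← e, inf_idem] at this
  · exact Subgroup.commutator_eq_bot_iff_le_centralizer.2 fun c hc =>
      Subgroup.mem_centralizer_iff.2 fun x hx => (h.2.1 c hc x (Subgroup.mem_sup_left hx)).symm
  · rw [sup_comm C A]
    exact hpart
  · have hgen : ∀ b ∈ B, a⁻¹ * b⁻¹ * a * b ∈ C := fun b hb => by
      have := Subgroup.commutator_mem_commutator (inv_mem ha) (inv_mem hb)
      rwa [commutatorElement_def, inv_inv, inv_inv] at this
    have hcB : ∀ c ∈ C, ∀ b ∈ B, c * b = b * c := fun c hc b hb => h.2.1 c hc b (Subgroup.mem_sup_right hb)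
    have hcC : ∀ c ∈ C, ∀ c' ∈ C, c * c' = c' * c := fun c hc c' hc' => CfsgLib.RankOne.member_comm hS hC hc hc'
    let φ : ↥B →* ↥C :=
      { toFun := fun b => ⟨a⁻¹ * (b : G)⁻¹ * a * b, hgen b b.2⟩
        map_one' := Subtype.ext (by simp)
        map_mul' := fun b b' => Subtype.ext (by
          show a⁻¹ * ((b : G) * b')⁻¹ * a * ((b : G) * b') = a⁻¹ * (b : G)⁻¹ * a * b * (a⁻¹ * (b' : G)⁻¹ * a * b')
          rw [hcC _ (hgen b b.2) _ (hgen b' b'.2)]
          calc a⁻¹ * ((b : G) * b')⁻¹ * a * ((b : G) * b')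
              = (a⁻¹ * (b' : G)⁻¹ * a) * ((a⁻¹ * (b : G)⁻¹ * a * b) * b') := by group
            _ = (a⁻¹ * (b' : G)⁻¹ * a) * (b' * (a⁻¹ * (b : G)⁻¹ * a * b)) := by rw [hcB _ (hgen b b.2) _ b'.2]
            _ = _ := by group) }
    refine ⟨MulEquiv.ofBijective φ ⟨?_, ?_⟩, fun b => rfl⟩
    · rw [injective_iff_map_eq_one]
      intro b hb
      have hb' : a⁻¹ * (b : G)⁻¹ * a * b = 1 := congrArg Subtype.val hb
      refine Subtype.ext (CfsgLib.RootLine.eq_one_of_commute hS hAS hA h ha ha1 b.2 ?_)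
      calc a * (b : G) = (b : G) * a * (a⁻¹ * (b : G)⁻¹ * a * b) := by group
        _ = (b : G) * a := by rw [hb', mul_one]
    · intro c
      obtain ⟨b, hb, he⟩ := CfsgLib.RootLine.exists_commutator h (inv_mem ha) (by simpa using ha1) c.2
      exact ⟨⟨b⁻¹, inv_mem hb⟩, Subtype.ext (show a⁻¹ * b⁻¹⁻¹ * a * b⁻¹ = c from by
        rw [inv_inv]; rwa [inv_inv] at he)⟩

end Cfsg.Agent.S5029
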