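import Cfsg.Statements.S5036
import Cfsg.Agent.Lib.RootSubgroups.LineLemmas

set_option autoImplicit false
open Cfsg

namespace Cfsg.Agent.S5036

open scoped commutatorElement
open Subgroup CfsgLib.RankOne CfsgLib.RootLine

variable {G : Type*} [Group G] {S : Set (Subgroup G)}

/-- The elements of `N` centralised by `P`. -/
def fixedIn (N P : Subgroup G) : Subgroup G := N ⊓ centralizer (P : Set G)

theorem fixedIn_conj {N P : Subgroup G} {x : G} (hx : conjBy N x = N) :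
    fixedIn N (conjBy P x) = conjBy (fixedIn N P) x := by
  ext y
  simp only [fixedIn, mem_inf, mem_conjBy, mem_centralizer_iff]
  have hy : y ∈ N ↔ x⁻¹ * y * x ∈ N := by
    conv_lhs => rw [← hx, mem_conjBy]
  refine and_congr hy ⟨fun h p hp => ?_, fun h p hp => ?_⟩
  · have := h (x * p * x⁻¹) (by simpa [mem_conjBy, mul_assoc] using hp)
    calc p * (x⁻¹ * y * x) = x⁻¹ * ((x * p * x⁻¹) * y) * x := by group
      _ = x⁻¹ * (y * (x * p * x⁻¹)) * x := by rw [this]
      _ = x⁻¹ * y * x * p := by group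
  · have := h (x⁻¹ * p * x) (mem_conjBy.1 hp)
    calc p * y = x * ((x⁻¹ * p * x) * (x⁻¹ * y * x)) * x⁻¹ := by group
      _ = x * ((x⁻¹ * y * x) * (x⁻¹ * p * x)) * x⁻¹ := by rw [this]
      _ = y * p := by group

theorem fixedIn_eq (hS : IsRootSubgroupSet S) {A B : Subgroup G} (hA : A ∈ S) (hB : B ∈ S)
    (h : RootCommutatorCase S A B) : fixedIn (A ⊔ ⁅A, B⁆) B = ⁅A, B⁆ := by
  refine le_antisymm ?_ (le_inf le_sup_right fun c hc => mem_centralizer_iff.2 fun b hb =>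
    (h.2.1 c hc b (mem_sup_right hb)).symm)
  rintro x ⟨hx, hxB⟩
  by_contra hxC
  obtain ⟨b, hb, hxb⟩ := exists_conj_mem hS hA h hx hxC
  obtain ⟨a, ha, rfl⟩ := hxb
  obtain ⟨b', hb', hb'1⟩ := exists_ne_one (hS.ne_bot B hB)
  have ha1 : a ≠ 1 := fun e => hxC (by rw [e, map_one]; exact one_mem _)
  refine hS.ne_bot _ h.1 ?_
  rw [← h.2.2.1 a ha ha1, eq_bot_iff, closure_le]
  rintro _ ⟨q, hq, rfl⟩
  rw [SetLike.mem_coe, mem_bot]
  have h1 : q * (b * a * b⁻¹) = b * a * b⁻¹ * q := mem_centralizer_iff.1 hxB q hq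
  have hqb : b * q = q * b := member_comm hS hB hb hq
  have h2 : q * a = a * q := by
    calc q * a = b⁻¹ * ((b * q) * a * b⁻¹) * b := by group
      _ = b⁻¹ * (q * (b * a * b⁻¹)) * b := by rw [hqb]; group
      _ = b⁻¹ * (b * a * b⁻¹ * q) * b := by rw [h1]
      _ = a * b⁻¹ * (q * b) := by group
      _ = a * q := by rw [← hqb]; group
  show a * q * a⁻¹ * q⁻¹ = 1
  rw [← h2]
  group

theorem inf_eq_bot' (hS : IsRootSubgroupSet S) {A B : Subgroup G} (h : RootCommutatorCase S A B) :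
    A ⊓ ⁅A, B⁆ = ⊥ := by
  refine (Subgroup.eq_bot_iff_forall _).2 fun x hx => ?_
  by_contra hx1
  refine hS.ne_bot _ h.1 ?_
  rw [← h.2.2.1 x hx.1 hx1, eq_bot_iff, closure_le]
  rintro _ ⟨b, hb, rfl⟩
  rw [SetLike.mem_coe, mem_bot]
  show x * b * x⁻¹ * b⁻¹ = 1
  rw [h.2.1 x hx.2 b (mem_sup_right hb)]
  group

theorem conj_eq_self_of_generators {N : Subgroup G} {x : G} (h1 : conjBy N x ≤ N) (h2 : conjBy N x⁻¹ ≤ N) :
    conjBy N x = N :=
  le_antisymm h1 fun y hy => mem_conjBy.2 (by simpa [mul_assoc] using h2 ⟨y, hy, rfl⟩)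

theorem sup_invariant (hS : IsRootSubgroupSet S) {A B : Subgroup G} (hB : B ∈ S) (h : RootCommutatorCase S A B)
    {b : G} (hb : b ∈ B) : conjBy (A ⊔ ⁅A, B⁆) b = A ⊔ ⁅A, B⁆ := by
  have key : ∀ b ∈ B, conjBy (A ⊔ ⁅A, B⁆) b ≤ A ⊔ ⁅A, B⁆ := fun b hb => by
    rw [conjBy, Subgroup.map_sup]
    refine sup_le (conjBy_le_sup h hb) ?_
    rintro _ ⟨c, hc, rfl⟩
    refine mem_sup_right ?_
    show b * c * b⁻¹ ∈ _
    rw [← h.2.1 c hc b (mem_sup_right hb), mul_inv_cancel_right]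
    exact hc
  exact conj_eq_self_of_generators (key b hb) (key b⁻¹ (inv_mem hb))

theorem fixed_of_commute {P : Subgroup G} {x : G} (h : ∀ p ∈ P, x * p = p * x) : conjBy P x = P :=
  conjBy_eq_self_iff.2 (centralizer_le_normalizer _ (mem_centralizer_iff.2 fun p hp => (h p hp).symm))

/-- Let S be a set of abstract root subgroups of G, A, B ∈ S with C = ⁅A, B⁆ ∈ S, and D ∈ S with ⁅D, C⁆ = A. Put X = ⟨B, D⟩ and N = AC. Then B, D form a rank one pair; the conjugates of A under X are the conjugates of C under X, namely the conjugates of A by elements of B together with C, equally the conjugates of C by elements of D together with A, and they partition N; and the centralizer of N in X is central in X. -/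
theorem result {G : Type*} [Group G] {S : Set (Subgroup G)} (hS : Cfsg.IsRootSubgroupSet S)
    {A B D : Subgroup G} (hA : A ∈ S) (hB : B ∈ S) (hC : ⁅A, B⁆ ∈ S) (hD : D ∈ S) (hDC : ⁅D, ⁅A, B⁆⁆ = A) :
    Cfsg.IsRankOnePair B D ∧
    {E | ∃ x ∈ B ⊔ D, E = Cfsg.conjBy A x} = {E | ∃ x ∈ B ⊔ D, E = Cfsg.conjBy ⁅A, B⁆ x} ∧
    {E | ∃ x ∈ B ⊔ D, E = Cfsg.conjBy A x} = (fun b : G => Cfsg.conjBy A b) '' (B : Set G) ∪ {⁅A, B⁆} ∧
    {E | ∃ x ∈ B ⊔ D, E = Cfsg.conjBy A x} = (fun d : G => Cfsg.conjBy ⁅A, B⁆ d) '' (D : Set G) ∪ {A} ∧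
    Cfsg.IsSubgroupPartition (A ⊔ ⁅A, B⁆) {E | ∃ x ∈ B ⊔ D, E = Cfsg.conjBy A x} ∧
    ∀ x ∈ (B ⊔ D) ⊓ Subgroup.centralizer ((A ⊔ ⁅A, B⁆ : Subgroup G) : Set G), ∀ y ∈ B ⊔ D, x * y = y * x := by
  classical
  have h := commCase hS hA hB hC
  set C := ⁅A, B⁆ with hCdef
  have h' : Cfsg.RootCommutatorCase S D C := commCase hS hD hC (by rw [hDC]; exact hA)
  have h'' := CfsgLib.RootSubgroups.SL2Pair.commutatorCase_symm h'
  have hCD : ⁅C, D⁆ = A := by rw [Subgroup.commutator_comm, hDC]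
  set N := A ⊔ C with hN
  have hAC : A ⊓ C = ⊥ := inf_eq_bot' hS h
  have hcBC : ∀ b ∈ B, ∀ c ∈ C, b * c = c * b := fun b hb c hc => (h.2.1 c hc b (mem_sup_right hb)).symm
  have hcDA : ∀ d ∈ D, ∀ a ∈ A, d * a = a * d := fun d hd a ha =>
    (h'.2.1 a (hDC.symm ▸ ha) d (mem_sup_left hd)).symm
  have hBN : ∀ b ∈ B, Cfsg.conjBy N b = N := fun b hb => sup_invariant hS hB h hb
  have hDN : ∀ d ∈ D, Cfsg.conjBy N d = N := fun d hd => by
    have := sup_invariant hS hD h'' hd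
    rwa [hCD, sup_comm, ← hN] at this
  have hfB : fixedIn N B = C := fixedIn_eq hS hA hB h
  have hfD : fixedIn N D = A := by
    have := fixedIn_eq hS hC hD h''
    rwa [hCD, sup_comm, ← hN] at this
  obtain ⟨a₀, ha₀, ha₀1⟩ := exists_ne_one (hS.ne_bot A hA)
  have hnotcent : ∀ b ∈ B, b ≠ 1 → ¬ ∀ a ∈ A, a * b = b * a := fun b hb hb1 hc => by
    refine hS.ne_bot C hC ?_
    rw [hCdef, ← h.2.2.2 b hb hb1, eq_bot_iff, closure_le]
    rintro _ ⟨a, ha, rfl⟩
    rw [SetLike.mem_coe, mem_bot]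
    show a * b * a⁻¹ * b⁻¹ = 1
    rw [hc a ha]
    group
  have hr : Cfsg.IsRankOnePair B D := by
    rcases hS.pair B hB D hD with hBD | hBD | hBD
    · exfalso
      refine hS.ne_bot A hA ?_
      rw [← hDC, commutator_eq_bot_iff_le_centralizer]
      intro d hd
      refine mem_centralizer_iff.2 fun c hc => ?_
      have hle : C ≤ centralizer ({d} : Set G) := by
        rw [hCdef, commutator_le]
        intro a ha b hb
        rw [mem_centralizer_singleton_iff, commutatorElement_def]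
        have c1 : Commute a d := (hcDA d hd a ha).symm
        have c2 : Commute b d := commute_of_commutator_eq_bot hBD hb hd
        exact (((c1.mul_left c2).mul_left c1.inv_left).mul_left c2.inv_left).eq
      exact mem_centralizer_singleton_iff.1 (hle hc)
    · exact hBD
    · exfalso
      obtain ⟨d, hd, hd1⟩ := exists_ne_one (hS.ne_bot D hD)
      obtain ⟨b, hb, hb1⟩ := exists_ne_one (hS.ne_bot B hB)
      set e := b * d * b⁻¹ * d⁻¹ with hedef
      have he : e ∈ ⁅B, D⁆ := commutator_mem_commutator hb hd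
      have hbd : b * d = e * (d * b) := by rw [hedef]; group
      have heX : e ∈ B ⊔ D := mul_mem (mul_mem (mul_mem (mem_sup_left hb) (mem_sup_right hd))
        (inv_mem (mem_sup_left hb))) (inv_mem (mem_sup_right hd))
      have heN : Cfsg.conjBy N e = N := by
        have hle : B ⊔ D ≤ normalizer (N : Set G) :=
          sup_le (fun x hx => conjBy_eq_self_iff.1 (hBN x hx)) (fun x hx => conjBy_eq_self_iff.1 (hDN x hx))
        exact conjBy_eq_self_iff.2 (hle heX)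
      have heC : Cfsg.conjBy C e = C := by
        rw [← hfB, ← fixedIn_conj heN, fixed_of_commute fun p hp => hBD.2.1 e he p (mem_sup_left hp)]
      have heA : Cfsg.conjBy A e = A := by
        rw [← hfD, ← fixedIn_conj heN, fixed_of_commute fun p hp => hBD.2.1 e he p (mem_sup_right hp)]
      -- `e` centralises `C`
      have hefix : ∀ w ∈ C, e * w * e⁻¹ = w := by
        intro w hw
        obtain ⟨a, ha, hab⟩ := exists_commutator (CfsgLib.RootSubgroups.SL2Pair.commutatorCase_symm h) hb hb1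
          (by rwa [commutator_comm B A])
        subst hab
        set w := b * a * b⁻¹ * a⁻¹ with hwdef
        have ht : d * w * d⁻¹ * w⁻¹ ∈ A := hDC ▸ commutator_mem_commutator hd hw
        set s := d * w * d⁻¹ * w⁻¹ with hsdef
        have hda : d * a * d⁻¹ = a := by rw [hcDA d hd a ha, mul_inv_cancel_right]
        have hwa : w * a = a * w := h.2.1 w hw a (mem_sup_left ha)
        have key : w * a = e * (s * a) * e⁻¹ * (e * w * e⁻¹) := by
          calc w * a = b * (d * a * d⁻¹) * b⁻¹ := by rw [hda, hwdef]; group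
            _ = (b * d) * a * (b * d)⁻¹ := by group
            _ = e * (d * (b * a * b⁻¹) * d⁻¹) * e⁻¹ := by rw [hbd]; group
            _ = e * ((d * w * d⁻¹) * (d * a * d⁻¹)) * e⁻¹ := by rw [hwdef]; group
            _ = e * (s * (w * a)) * e⁻¹ := by rw [hda, hsdef]; group
            _ = e * (s * a) * e⁻¹ * (e * w * e⁻¹) := by rw [hwa]; group
        have hmA : e * (s * a) * e⁻¹ ∈ A := heA.le ⟨_, mul_mem ht ha, rfl⟩
        have hmC : e * w * e⁻¹ ∈ C := heC.le ⟨_, hw, rfl⟩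
        have h1 : a⁻¹ * (e * (s * a) * e⁻¹) = w * (e * w * e⁻¹)⁻¹ := by
          rw [eq_mul_inv_iff_mul_eq, mul_assoc, ← key, hwa, inv_mul_cancel_left]
        have hmC' : a⁻¹ * (e * (s * a) * e⁻¹) ∈ C := by rw [h1]; exact mul_mem hw (inv_mem hmC)
        have h2 := (Subgroup.eq_bot_iff_forall _).1 hAC (a⁻¹ * (e * (s * a) * e⁻¹)) ⟨A.mul_mem (A.inv_mem ha) hmA, hmC'⟩
        rw [h1, mul_inv_eq_one] at h2
        exact h2.symm
      refine hnotcent b hb hb1 fun t ht => ?_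
      obtain ⟨c, hc, htc⟩ := exists_commutator h' hd hd1 (hDC.symm ▸ ht)
      subst htc
      set t := d * c * d⁻¹ * c⁻¹ with htdef
      have hbc : b * c * b⁻¹ = c := by rw [hcBC b hb c hc, mul_inv_cancel_right]
      have key : b * t * b⁻¹ = e * t * e⁻¹ := by
        calc b * t * b⁻¹ = (b * d) * c * (b * d)⁻¹ * (b * c * b⁻¹)⁻¹ := by rw [htdef]; group
          _ = e * (d * b * c * (d * b)⁻¹) * e⁻¹ * c⁻¹ := by rw [hbd, hbc]; group
          _ = e * (d * (b * c * b⁻¹) * d⁻¹) * e⁻¹ * c⁻¹ := by group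
          _ = e * t * e⁻¹ * (e * c * e⁻¹) * c⁻¹ := by rw [hbc, htdef]; group
          _ = e * t * e⁻¹ := by rw [hefix c hc, mul_inv_cancel_right]
      have hwC : b * t * b⁻¹ * t⁻¹ ∈ C := by
        rw [hCdef, commutator_comm]
        exact commutator_mem_commutator hb (hDC ▸ ht)
      have hwA : b * t * b⁻¹ * t⁻¹ ∈ A := by
        rw [key]
        exact mul_mem (heA.le ⟨_, ht, rfl⟩) (inv_mem ht)
      have h3 := (Subgroup.eq_bot_iff_forall _).1 hAC _ ⟨hwA, hwC⟩
      rw [mul_inv_eq_one, mul_inv_eq_iff_eq_mul] at h3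
      exact h3.symm
  have hAd : ∀ d ∈ D, Cfsg.conjBy A d = A := fun d hd => fixed_of_commute (hcDA d hd)
  have hCb : ∀ b ∈ B, Cfsg.conjBy C b = C := fun b hb => fixed_of_commute (hcBC b hb)
  -- the two parametrisations of the orbit agree
  have hpartner : ∀ b ∈ B, ∀ d ∈ D, Cfsg.conjBy B d⁻¹ = Cfsg.conjBy D b⁻¹ →
      Cfsg.conjBy C d⁻¹ = Cfsg.conjBy A b⁻¹ := fun b hb d hd he => by
    rw [← hfB, ← hfD, ← fixedIn_conj (hDN _ (inv_mem hd)), ← fixedIn_conj (hBN _ (inv_mem hb)), he]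
  have hsets : (fun b : G => Cfsg.conjBy A b) '' (B : Set G) ∪ {C} =
      (fun d : G => Cfsg.conjBy C d) '' (D : Set G) ∪ {A} := by
    ext E
    constructor
    · rintro (⟨b, hb, rfl⟩ | rfl)
      · rcases eq_or_ne b 1 with rfl | hb1
        · exact Or.inr (conjBy_one A)
        · obtain ⟨d, hd, -, he⟩ := hr.cond_left b⁻¹ (inv_mem hb) (inv_ne_one.2 hb1)
          refine Or.inl ⟨d⁻¹, inv_mem hd, ?_⟩
          have := hpartner b⁻¹ (inv_mem hb) d hd he
          rwa [inv_inv] at this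
      · exact Or.inl ⟨1, one_mem D, conjBy_one C⟩
    · rintro (⟨d, hd, rfl⟩ | hE)
      · rcases eq_or_ne d 1 with rfl | hd1
        · exact Or.inr (conjBy_one C)
        · obtain ⟨b, hb, -, he⟩ := hr.cond_right d⁻¹ (inv_mem hd) (inv_ne_one.2 hd1)
          refine Or.inl ⟨b⁻¹, inv_mem hb, ?_⟩
          have := hpartner b hb d⁻¹ (inv_mem hd) he.symm
          rw [inv_inv] at this
          exact this.symm
      · exact Or.inl ⟨1, one_mem B, (conjBy_one A).trans (Set.mem_singleton_iff.1 hE).symm⟩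
  set Ω := (fun b : G => Cfsg.conjBy A b) '' (B : Set G) ∪ {C} with hΩ
  have hinv : ∀ x ∈ B ⊔ D, (∀ E ∈ Ω, Cfsg.conjBy E x ∈ Ω) ∧ ∀ E ∈ Ω, Cfsg.conjBy E x⁻¹ ∈ Ω := by
    let T : Subgroup G :=
      { carrier := {x | (∀ E ∈ Ω, Cfsg.conjBy E x ∈ Ω) ∧ ∀ E ∈ Ω, Cfsg.conjBy E x⁻¹ ∈ Ω}
        one_mem' := by
          show (∀ E ∈ Ω, Cfsg.conjBy E 1 ∈ Ω) ∧ ∀ E ∈ Ω, Cfsg.conjBy E 1⁻¹ ∈ Ω
          simp only [inv_one, conjBy_one]
          exact ⟨fun E hE => hE, fun E hE => hE⟩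
        inv_mem' := fun {x} hx => ⟨hx.2, by rw [inv_inv]; exact hx.1⟩
        mul_mem' := fun {x y} hx hy => ⟨fun E hE => by rw [conjBy_mul]; exact hx.1 _ (hy.1 E hE),
          fun E hE => by rw [mul_inv_rev, conjBy_mul]; exact hy.2 _ (hx.2 E hE)⟩ }
    have hBT : ∀ b ∈ B, ∀ E ∈ Ω, Cfsg.conjBy E b ∈ Ω := by
      rintro b hb E (⟨b', hb', rfl⟩ | rfl)
      · exact Or.inl ⟨b * b', mul_mem hb hb', conjBy_mul A b b'⟩
      · exact Or.inr (hCb b hb)
    have hDT : ∀ d ∈ D, ∀ E ∈ Ω, Cfsg.conjBy E d ∈ Ω := by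
      intro d hd E hE
      rw [hsets] at hE ⊢
      rcases hE with ⟨d', hd', rfl⟩ | rfl
      · exact Or.inl ⟨d * d', mul_mem hd hd', conjBy_mul C d d'⟩
      · exact Or.inr (hAd d hd)
    intro x hx
    exact (sup_le (fun b hb => ⟨hBT b hb, hBT _ (inv_mem hb)⟩) (fun d hd => ⟨hDT d hd, hDT _ (inv_mem hd)⟩) :
      B ⊔ D ≤ T) hx
  obtain ⟨y, hy, hyC⟩ : ∃ y ∈ B ⊔ D, C = Cfsg.conjBy A y := by
    obtain ⟨b, hb, hb1⟩ := exists_ne_one (hS.ne_bot B hB)
    obtain ⟨d, hd, -, he⟩ := hr.cond_left b hb hb1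
    refine ⟨d * b⁻¹, mul_mem (mem_sup_right hd) (inv_mem (mem_sup_left hb)), ?_⟩
    rw [conjBy_mul, ← hpartner b hb d hd he, conjBy_conjBy_inv]
  have horb : {E | ∃ x ∈ B ⊔ D, E = Cfsg.conjBy A x} = Ω := by
    ext E
    constructor
    · rintro ⟨x, hx, rfl⟩
      exact (hinv x hx).1 A (Or.inl ⟨1, one_mem B, conjBy_one A⟩)
    · rintro (⟨b, hb, rfl⟩ | rfl)
      · exact ⟨b, mem_sup_left hb, rfl⟩
      · exact ⟨y, hy, hyC⟩
  have hmeet : ∀ b ∈ B, b ≠ 1 → A ⊓ Cfsg.conjBy A b = ⊥ := by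
    intro b hb hb1
    obtain ⟨d, hd, -, he⟩ := hr.cond_left b⁻¹ (inv_mem hb) (inv_ne_one.2 hb1)
    have := hpartner b⁻¹ (inv_mem hb) d hd he
    rw [inv_inv] at this
    rw [← this]
    conv_lhs => arg 1; rw [← hAd d⁻¹ (inv_mem hd)]
    rw [← Subgroup.map_inf _ _ _ (MulAut.conj d⁻¹).injective, hAC, Subgroup.map_bot]
  have hmeetC : ∀ b ∈ B, Cfsg.conjBy A b ⊓ C = ⊥ := fun b hb => by
    conv_lhs => arg 2; rw [← hCb b hb]
    rw [← Subgroup.map_inf _ _ _ (MulAut.conj b).injective, hAC, Subgroup.map_bot]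
  refine ⟨hr, ?_, horb, horb.trans hsets, ?_, ?_⟩
  · ext E
    constructor
    · rintro ⟨x, hx, rfl⟩
      refine ⟨x * y⁻¹, mul_mem hx (inv_mem hy), ?_⟩
      rw [hyC, ← conjBy_mul, inv_mul_cancel_right]
    · rintro ⟨x, hx, rfl⟩
      exact ⟨x * y, mul_mem hx hy, by rw [hyC, conjBy_mul]⟩
  · rw [horb]
    refine ⟨?_, fun x hx _ => ?_, ?_⟩
    · rintro E (⟨b, hb, rfl⟩ | rfl)
      · exact conjBy_le_sup h hb
      · exact le_sup_right
    · by_cases hxC : x ∈ C
      · exact ⟨C, Or.inr rfl, hxC⟩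
      · obtain ⟨b, hb, hxb⟩ := exists_conj_mem hS hA h hx hxC
        exact ⟨_, Or.inl ⟨b, hb, rfl⟩, hxb⟩
    · rintro E (⟨b, hb, rfl⟩ | rfl) F (⟨b', hb', rfl⟩ | rfl) hne
      · have hb1 : b⁻¹ * b' ≠ 1 := fun e => hne (by rw [inv_mul_eq_one.1 e])
        rw [show b' = b * (b⁻¹ * b') by group]
        show Cfsg.conjBy A b ⊓ Cfsg.conjBy A (b * (b⁻¹ * b')) = ⊥
        rw [conjBy_mul, ← Subgroup.map_inf _ _ _ (MulAut.conj b).injective,
          hmeet _ (mul_mem (inv_mem hb) hb') hb1, Subgroup.map_bot]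
      · exact hmeetC b hb
      · rw [inf_comm]; exact hmeetC b' hb'
      · exact absurd rfl hne
  · rintro z ⟨hzX, hzN⟩
    have hzfix : ∀ P : Subgroup G, P ≤ N → Cfsg.conjBy P z = P := fun P hP =>
      fixed_of_commute fun p hp => (mem_centralizer_iff.1 hzN p (hP hp)).symm
    have hzB : Cfsg.conjBy B z = B := by
      have hf : fixedIn N (Cfsg.conjBy B z) = C := by rw [fixedIn_conj (hzfix N le_rfl), hfB, hzfix C le_sup_right]
      rcases (mem_unipotentSubgroups_iff hr).1 (conjBy_mem_unipotentSubgroups self_mem_unipotentSubgroups hzX)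
        with e | ⟨b, hb, e⟩
      · exact e
      · exfalso
        rw [e, fixedIn_conj (hBN b hb), hfD] at hf
        have := hmeetC b hb
        rw [hf, inf_idem] at this
        exact hS.ne_bot C hC this
    have hzD : Cfsg.conjBy D z = D := by
      have hf : fixedIn N (Cfsg.conjBy D z) = A := by rw [fixedIn_conj (hzfix N le_rfl), hfD, hzfix A le_sup_left]
      have hr' := Cfsg.RankOnePair_symm hr
      rcases (mem_unipotentSubgroups_iff hr').1 (conjBy_mem_unipotentSubgroups self_mem_unipotentSubgroups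
        (sup_comm B D ▸ hzX)) with e | ⟨d, hd, e⟩
      · exact e
      · exfalso
        rw [e, fixedIn_conj (hDN d hd), hfB] at hf
        have : A ⊓ Cfsg.conjBy C d = ⊥ := by
          conv_lhs => arg 1; rw [← hAd d hd]
          rw [← Subgroup.map_inf _ _ _ (MulAut.conj d).injective, hAC, Subgroup.map_bot]
        rw [hf, inf_idem] at this
        exact hS.ne_bot A hA this
    have hnotcentD : ∀ d ∈ D, d ≠ 1 → ¬ ∀ c ∈ C, d * c = c * d := fun d hd hd1 hc => by
      refine hS.ne_bot A hA ?_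
      rw [← hDC, ← h'.2.2.1 d hd hd1, eq_bot_iff, closure_le]
      rintro _ ⟨c, hc', rfl⟩
      rw [SetLike.mem_coe, mem_bot]
      show d * c * d⁻¹ * c⁻¹ = 1
      rw [hc c hc']
      group
    have hcB : ∀ b ∈ B, z * b = b * z := by
      intro b hb
      have hm : z * b * z⁻¹ * b⁻¹ ∈ B := mul_mem (hzB.le ⟨b, hb, rfl⟩) (inv_mem hb)
      by_contra hne
      refine hnotcent _ hm (fun e => hne ?_) fun a ha => ?_
      · rwa [mul_inv_eq_one, mul_inv_eq_iff_eq_mul] at e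
      · have h1 : ∀ x ∈ N, z * x = x * z := fun x hx => (mem_centralizer_iff.1 hzN x hx).symm
        have hn : b⁻¹ * a * b ∈ N := by
          have := (hBN b⁻¹ (inv_mem hb)).le ⟨a, mem_sup_left ha, rfl⟩
          simpa using this
        have h2 : z⁻¹ * (b⁻¹ * a * b) * z = b⁻¹ * a * b := by
          rw [mul_assoc, ← h1 _ hn, inv_mul_cancel_left]
        have h3 : z * a * z⁻¹ = a := by rw [h1 a (mem_sup_left ha), mul_inv_cancel_right]
        calc a * (z * b * z⁻¹ * b⁻¹) = z * b * z⁻¹ * b⁻¹ * (b * z * (b⁻¹ * (z⁻¹ * a * z) * b) * z⁻¹ * b⁻¹) := by group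
          _ = z * b * z⁻¹ * b⁻¹ * (b * z * (b⁻¹ * a * b) * z⁻¹ * b⁻¹) := by
              rw [show z⁻¹ * a * z = a by rw [mul_assoc, ← h1 a (mem_sup_left ha), inv_mul_cancel_left]]
          _ = z * b * z⁻¹ * b⁻¹ * a := by
              rw [mul_assoc b z, mul_assoc b, h1 _ hn, mul_inv_cancel_right]; group
    have hcD : ∀ d ∈ D, z * d = d * z := by
      intro d hd
      have hm : z * d * z⁻¹ * d⁻¹ ∈ D := mul_mem (hzD.le ⟨d, hd, rfl⟩) (inv_mem hd)
      by_contra hne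
      refine hnotcentD _ hm (fun e => hne ?_) fun a ha => ?_
      · rwa [mul_inv_eq_one, mul_inv_eq_iff_eq_mul] at e
      · have h1 : ∀ x ∈ N, z * x = x * z := fun x hx => (mem_centralizer_iff.1 hzN x hx).symm
        have hn : d⁻¹ * a * d ∈ N := by
          have := (hDN d⁻¹ (inv_mem hd)).le ⟨a, mem_sup_right ha, rfl⟩
          simpa using this
        symm
        calc a * (z * d * z⁻¹ * d⁻¹) = z * d * z⁻¹ * d⁻¹ * (d * z * (d⁻¹ * (z⁻¹ * a * z) * d) * z⁻¹ * d⁻¹) := by group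
          _ = z * d * z⁻¹ * d⁻¹ * (d * z * (d⁻¹ * a * d) * z⁻¹ * d⁻¹) := by
              rw [show z⁻¹ * a * z = a by rw [mul_assoc, ← h1 a (mem_sup_right ha), inv_mul_cancel_left]]
          _ = z * d * z⁻¹ * d⁻¹ * a := by
              rw [mul_assoc d z, mul_assoc d, h1 _ hn, mul_inv_cancel_right]; group
    intro w hw
    have hle : B ⊔ D ≤ centralizer ({z} : Set G) :=
      sup_le (fun b hb => mem_centralizer_singleton_iff.2 (hcB b hb).symm)
        (fun d hd => mem_centralizer_singleton_iff.2 (hcD d hd).symm)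
    exact (mem_centralizer_singleton_iff.1 (hle hw)).symm

end Cfsg.Agent.S5036
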