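import Cfsg.Statements.S5031
import Cfsg.Agent.Lib.RootSubgroups.LineMoves
import Cfsg.Agent.S5036

set_option autoImplicit false
open Cfsg

namespace Cfsg.Agent.S5031

open Subgroup CfsgLib.RankOne CfsgLib.RootLine

variable {G : Type*} [Group G] {S : Set (Subgroup G)}

theorem reach_conj_sup (hS : Cfsg.IsRootSubgroupSet S) {E F : Subgroup G} (hE : E ∈ S) (hF : F ∈ S) :
    ∀ x ∈ E ⊔ F, ∀ A ∈ S, (∃ R ∈ S, Cfsg.IsRankOnePair A R) →
      Relation.ReflTransGen (Cfsg.FAdj S) A (Cfsg.conjBy A x) := by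
  intro x hx
  rw [Subgroup.sup_eq_closure] at hx
  have step : ∀ (g : G) (A : Subgroup G), (∃ R ∈ S, Cfsg.IsRankOnePair A R) →
      ∃ R ∈ S, Cfsg.IsRankOnePair (Cfsg.conjBy A g) R := fun g A ⟨R, hR, h⟩ =>
    ⟨_, hS.conj_mem R hR g, isRankOnePair_conjBy h g⟩
  induction hx using closure_induction with
  | mem y hy =>
    rintro A hA ⟨R, hR, hAR⟩
    rcases hy with hy | hy
    · exact reachable_conj hS hA hR hAR hE hy
    · exact reachable_conj hS hA hR hAR hF hy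
  | one => intro A _ _; rw [conjBy_one]
  | mul y z _ _ ihy ihz =>
    intro A hA hR
    rw [conjBy_mul]
    exact (ihz A hA hR).trans (ihy _ (hS.conj_mem A hA z) (step z A hR))
  | inv y _ ih =>
    intro A hA hR
    have := ih _ (hS.conj_mem A hA y⁻¹) (step y⁻¹ A hR)
    rw [conjBy_conjBy_inv] at this
    exact fAdj_rsymm this

/-- Let S be a set of abstract root subgroups of G and let A, B ∈ S lie in different connected components of the graph of rank one pairs on S, each component having more than one member. Then B is not a line partner of A. -/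
theorem result {G : Type*} [Group G] {S : Set (Subgroup G)} (hS : Cfsg.IsRootSubgroupSet S)
    {A B : Subgroup G} (hA : A ∈ S) (hB : B ∈ S)
    (hne : Cfsg.componentOf (Cfsg.FAdj S) S A ≠ Cfsg.componentOf (Cfsg.FAdj S) S B)
    (hA2 : ∃ A' ∈ Cfsg.componentOf (Cfsg.FAdj S) S A, A' ≠ A) (hB2 : ∃ B' ∈ Cfsg.componentOf (Cfsg.FAdj S) S B, B' ≠ B) :
    B ∉ Cfsg.linePartners S A := by
  classical
  rintro ⟨⟨-, hBA, hcomm⟩, hpart⟩
  have hiso : ∀ P ∈ S, (∃ P' ∈ Cfsg.componentOf (Cfsg.FAdj S) S P, P' ≠ P) →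
      ¬ Cfsg.IsIsolatedIn (Cfsg.FAdj S) S P := fun P _ ⟨P', hP', hne⟩ hi => by
    rcases Relation.ReflTransGen.cases_head hP'.2 with h | ⟨y, h, -⟩
    · exact hne h.symm
    · exact (hi.2 y).1 h
  have hFA := hiso A hA hA2
  have hFB := hiso B hB hB2
  refine hne ?_
  suffices h : Relation.ReflTransGen (Cfsg.FAdj S) A B from Set.ext fun P =>
    ⟨fun hP => ⟨hP.1, (fAdj_rsymm h).trans hP.2⟩, fun hP => ⟨hP.1, h.trans hP.2⟩⟩
  obtain ⟨R, hR, hAR⟩ := exists_partner_of_not_isolated hA hFA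
  obtain ⟨R', hR', hBR'⟩ := exists_partner_of_not_isolated hB hFB
  by_cases hBR : Cfsg.IsRankOnePair B R
  · exact (Relation.ReflTransGen.single ⟨hA, hR, hAR⟩).tail ⟨hR, hB, Cfsg.RankOnePair_symm hBR⟩
  by_cases hAR' : Cfsg.IsRankOnePair A R'
  · exact (Relation.ReflTransGen.single ⟨hA, hR', hAR'⟩).tail ⟨hR', hB, Cfsg.RankOnePair_symm hBR'⟩
  have hgen : ∀ x ∈ A ⊔ B, ∀ y, (∀ a ∈ A, y * a = a * y) → (∀ b ∈ B, y * b = b * y) → x * y = y * x := by
    intro x hx y h1 h2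
    have hle : A ⊔ B ≤ centralizer ({y} : Set G) :=
      sup_le (fun a ha => mem_centralizer_singleton_iff.2 (h1 a ha).symm)
        (fun b hb => mem_centralizer_singleton_iff.2 (h2 b hb).symm)
    exact mem_centralizer_singleton_iff.1 (hle hx)
  have hcA : ∀ x ∈ A ⊔ B, ∀ a ∈ A, x * a = a * x := fun x hx a ha =>
    hgen x hx a (fun a' ha' => member_comm hS hA ha ha') fun b hb => commute_of_commutator_eq_bot hcomm ha hb
  have hcB : ∀ x ∈ A ⊔ B, ∀ b ∈ B, x * b = b * x := fun x hx b hb =>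
    hgen x hx b (fun a ha => (commute_of_commutator_eq_bot hcomm ha hb).symm) fun b' hb' => member_comm hS hB hb hb'
  have hroot : ∀ x ∈ A ⊔ B, x ≠ 1 → ∃ C ∈ S, x ∈ C ∧ C ≤ A ⊔ B := fun x hx h1 => by
    obtain ⟨C, hC, hxC⟩ := hpart.2.1 x hx h1
    exact ⟨C, hC.1, hxC, hC.2⟩
  obtain ⟨hc1, hAE, hAEB⟩ := CfsgLib.RootLineMoves.commutator_eq hS hFA hFB hA hB hBA.symm hR hAR hBR
    (fun a ha b hb => commute_of_commutator_eq_bot hcomm ha hb) fun a ha b hb h1 => by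
      obtain ⟨C, hC, hx, hCN⟩ := hroot _ (mul_mem (mem_sup_left ha) (mem_sup_right hb)) h1
      exact ⟨C, hC, hx, fun c hc a' ha' => hcA c (hCN hc) a' ha'⟩
  obtain ⟨hc2, hBE, hBEA⟩ := CfsgLib.RootLineMoves.commutator_eq hS hFB hFA hB hA hBA hR' hBR' hAR'
    (fun b hb a ha => (commute_of_commutator_eq_bot hcomm ha hb).symm) fun b hb a ha h1 => by
      obtain ⟨C, hC, hx, hCN⟩ := hroot _ (mul_mem (mem_sup_right hb) (mem_sup_left ha)) h1
      exact ⟨C, hC, hx, fun c hc b' hb' => hcB c (hCN hc) b' hb'⟩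
  obtain ⟨-, horb, -⟩ := Cfsg.Agent.S5036.result hS hA hc1.1 hAE.1 hc2.1
    (by rw [hAEB, Subgroup.commutator_comm, hBEA])
  obtain ⟨x, hx, hBx⟩ : B ∈ {P | ∃ x ∈ ⁅B, R⁆ ⊔ ⁅A, R'⁆, P = Cfsg.conjBy A x} := by
    rw [horb, hAEB]
    exact ⟨1, one_mem _, (conjBy_one B).symm⟩
  rw [hBx]
  exact reach_conj_sup hS hc1.1 hc2.1 x hx A hA ⟨R, hR, hAR⟩

end Cfsg.Agent.S5031
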