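import Cfsg.Statements.S2507
import Cfsg.Agent.Lib.SL2Table.SL2Classes
import Cfsg.Agent.Lib.SL2Table.SL2EvenABA

set_option autoImplicit false

namespace CfsgLib.ClassSizesPSL2

open Matrix CfsgLib.SL2Table

variable {F : Type*} [Field F] [Fintype F] [CharP F 2]

local notation "S" => Matrix.SpecialLinearGroup (Fin 2) F

/-- The norm-one pairs. -/
noncomputable def cnt (t : F) : ℕ := Nat.card {p : F × F // p.1 * p.1 + t * p.1 * p.2 + p.2 * p.2 = 1}

theorem cnt_zero : cnt (0 : F) = Fintype.card F := by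
  rw [← Nat.card_eq_fintype_card]
  refine Nat.card_congr
    { toFun := fun p => p.1.2
      invFun := fun b => ⟨(b + 1, b), by
        linear_combination (b * b + b) * CharTwo.two_eq_zero (R := F)⟩
      left_inv := ?_
      right_inv := fun b => rfl }
  rintro ⟨⟨a, b⟩, h⟩
  refine Subtype.ext (Prod.ext ?_ rfl)
  show b + 1 = a
  have h1 : (b + 1 + a) * (b + 1 + a) = 0 := by
    linear_combination h + (1 + a + b + a * b) * CharTwo.two_eq_zero (R := F)
  exact CharTwo.add_eq_zero.1 (mul_self_eq_zero.1 h1)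

theorem cnt_split {r : F} (h0 : r ≠ 0) (h1 : r ≠ 1) :
    cnt (r + r⁻¹) = Fintype.card F - 1 ∧ r + r⁻¹ ≠ 0 := by
  classical
  have hd : r + r⁻¹ ≠ 0 := by
    intro h
    have h2 : r * r = 1 := by
      linear_combination r * h - mul_inv_cancel₀ h0 - CharTwo.two_eq_zero (R := F)
    rcases mul_self_eq_one_iff.1 h2 with e | e
    · exact h1 e
    · exact h1 (by rwa [CharTwo.neg_eq] at e)
  refine ⟨?_, hd⟩
  rw [← Nat.card_eq_fintype_card, ← Nat.card_units]
  have hfac : ∀ a b : F, a * a + (r + r⁻¹) * a * b + b * b = (a + r * b) * (a + r⁻¹ * b) := fun a b => by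
    linear_combination (-(b * b)) * mul_inv_cancel₀ h0
  refine Nat.card_congr
    { toFun := fun p => Units.mkOfMulEqOne (p.1.1 + r * p.1.2) (p.1.1 + r⁻¹ * p.1.2) (by rw [← hfac]; exact p.2)
      invFun := fun u => ⟨((u : F) + r * (((u : F) + (u : F)⁻¹) / (r + r⁻¹)),
        ((u : F) + (u : F)⁻¹) / (r + r⁻¹)), ?_⟩
      left_inv := ?_
      right_inv := ?_ }
  · have h22 := CharTwo.two_eq_zero (R := F)
    set b := ((u : F) + (u : F)⁻¹) / (r + r⁻¹) with hb
    have e : b * (r + r⁻¹) = (u : F) + (u : F)⁻¹ := div_mul_cancel₀ _ hd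
    show ((u : F) + r * b) * ((u : F) + r * b) + (r + r⁻¹) * ((u : F) + r * b) * b + b * b = 1
    rw [hfac]
    linear_combination (u : F) * e + mul_inv_cancel₀ u.ne_zero +
      ((u : F) * r * b + r * r * b * b + r * b * r⁻¹ * b + (u : F) * (u : F)) * h22
  · rintro ⟨⟨a, b⟩, h⟩
    have h22 := CharTwo.two_eq_zero (R := F)
    have hb : ((a + r * b) + (a + r * b)⁻¹) / (r + r⁻¹) = b := by
      have e : (a + r * b)⁻¹ = a + r⁻¹ * b := inv_eq_of_mul_eq_one_right ((hfac a b).symm.trans h)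
      rw [e, div_eq_iff hd]
      linear_combination a * h22
    refine Subtype.ext (Prod.ext ?_ hb)
    show a + r * b + r * (((a + r * b) + (a + r * b)⁻¹) / (r + r⁻¹)) = a
    rw [hb]
    linear_combination (r * b) * h22
  · intro u
    refine Units.ext ?_
    show (u : F) + r * (((u : F) + (u : F)⁻¹) / (r + r⁻¹)) + r * (((u : F) + (u : F)⁻¹) / (r + r⁻¹)) = (u : F)
    rw [add_assoc, CharTwo.add_self_eq_zero, add_zero]

theorem cnt_aniso {t : F} (ht : t ≠ 0) (hr : ∀ r : F, r * r + t * r + 1 ≠ 0) : cnt t = Fintype.card F + 1 := by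
  have hμ : ∀ s : F, s * s + s ≠ t⁻¹ * t⁻¹ := fun s e => hr (t * s) (by
    have h22 := CharTwo.two_eq_zero (R := F)
    have : t * t * (t⁻¹ * t⁻¹) = 1 := by field_simp
    linear_combination (t * t) * e + this + h22)
  rw [← card_evTorus hμ]
  refine Nat.card_congr (Equiv.ofBijective (fun p => ⟨⟨!![p.1.1, t⁻¹ * t⁻¹ * (t * p.1.2); t * p.1.2, p.1.1 + t * p.1.2],
    ?_⟩, by simp, by simp⟩) ⟨?_, ?_⟩)
  · rw [det_fin_two_of, CharTwo.sub_eq_add]
    have : t⁻¹ * t = 1 := inv_mul_cancel₀ ht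
    linear_combination p.2 + (p.1.2 * p.1.2) * (t⁻¹ * t + 1) * this
  · rintro ⟨⟨a, b⟩, h⟩ ⟨⟨a', b'⟩, h'⟩ e
    have e' := congrArg (fun g : evTorus (t⁻¹ * t⁻¹) => ((g : S) : Matrix (Fin 2) (Fin 2) F)) e
    have e1 := congrFun (congrFun e' 0) 0
    have e2 := congrFun (congrFun e' 1) 0
    simp at e1 e2
    exact Subtype.ext (Prod.ext e1 (e2.resolve_right ht))
  · rintro ⟨g, hg⟩
    have hd := evQ_det hg
    have h1 : t⁻¹ * t = 1 := inv_mul_cancel₀ ht
    refine ⟨⟨((g : Matrix (Fin 2) (Fin 2) F) 0 0, t⁻¹ * (g : Matrix (Fin 2) (Fin 2) F) 1 0), ?_⟩, ?_⟩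
    · rw [evQ] at hd
      linear_combination hd + ((g : Matrix (Fin 2) (Fin 2) F) 0 0 * (g : Matrix (Fin 2) (Fin 2) F) 1 0) * h1
    · refine Subtype.ext (Subtype.ext ?_)
      have h2 : t * (t⁻¹ * (g : Matrix (Fin 2) (Fin 2) F) 1 0) = (g : Matrix (Fin 2) (Fin 2) F) 1 0 :=
        mul_inv_cancel_left₀ ht _
      ext i j
      fin_cases i <;> fin_cases j <;> simp [h2, hg.1, hg.2]

theorem exists_aniso_trace : ∃ t : F, t ≠ 0 ∧ ∀ r : F, r * r + t * r + 1 ≠ 0 := by
  classical
  obtain ⟨μ, hμ⟩ := exists_aniso (F := F)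
  obtain ⟨s, hs⟩ := exists_sqrt_ev μ
  have hs0 : s ≠ 0 := by
    rintro rfl
    exact hμ 0 (by rw [← hs]; ring)
  refine ⟨s⁻¹, inv_ne_zero hs0, fun r e => hμ (s * r) ?_⟩
  have h1 : s * s⁻¹ = 1 := mul_inv_cancel₀ hs0
  have h22 := CharTwo.two_eq_zero (R := F)
  linear_combination (s * s) * e - (s * r) * h1 + hs - (s * s) * h22

theorem exists_ne_zero_one (h4 : 4 ≤ Fintype.card F) : ∃ r : F, r ≠ 0 ∧ r ≠ 1 := by
  classical
  obtain ⟨r, hr⟩ := Finset.exists_mem_notMem_of_card_lt_card
    (s := ({0, 1} : Finset F)) (t := Finset.univ) (by rw [Finset.card_univ]; exact (Finset.card_le_two).trans_lt (by omega))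
  exact ⟨r, by simpa using hr.2⟩

theorem centralizer_index {g : S} (hg : NonScalar (g : Matrix (Fin 2) (Fin 2) F)) :
    (Subgroup.centralizer ({g} : Set S)).index * cnt (g : Matrix (Fin 2) (Fin 2) F).trace =
      Fintype.card F * (Fintype.card F ^ 2 - 1) := by
  rw [cnt, ← card_centralizer_sl g hg, Subgroup.index_mul_card, card_sl_two]

theorem range_sl (h4 : 4 ≤ Fintype.card F) :
    Set.range (fun g : S => (Subgroup.centralizer ({g} : Set S)).index) =
      {1, Fintype.card F * (Fintype.card F - 1), Fintype.card F ^ 2 - 1, Fintype.card F * (Fintype.card F + 1)} := by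
  set q := Fintype.card F with hq
  obtain ⟨d, hd⟩ : ∃ d, q = d + 1 := ⟨q - 1, by omega⟩
  have hsq : q ^ 2 - 1 = (q - 1) * (q + 1) := by
    rw [mul_comm, show q ^ 2 - 1 = q ^ 2 - 1 ^ 2 by rw [one_pow], Nat.sq_sub_sq]
  have key0 : ∀ i : ℕ, i * q = q * (q ^ 2 - 1) → i = q ^ 2 - 1 := fun i h =>
    Nat.eq_of_mul_eq_mul_right (show 0 < q by omega) (h.trans (mul_comm _ _))
  have key1 : ∀ i : ℕ, i * (q - 1) = q * (q ^ 2 - 1) → i = q * (q + 1) := fun i h =>
    Nat.eq_of_mul_eq_mul_right (show 0 < q - 1 by omega) (h.trans (by rw [hsq]; ring))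
  have key2 : ∀ i : ℕ, i * (q + 1) = q * (q ^ 2 - 1) → i = q * (q - 1) := fun i h =>
    Nat.eq_of_mul_eq_mul_right (show 0 < q + 1 by omega) (h.trans (by rw [hsq]; ring))
  have hc : ∀ t : F, (Subgroup.centralizer ({cSL t} : Set S)).index * cnt t = q * (q ^ 2 - 1) := fun t => by
    have := centralizer_index (cSL_spec t).2
    rwa [(cSL_spec t).1] at this
  ext i
  simp only [Set.mem_range, Set.mem_insert_iff, Set.mem_singleton_iff]
  constructor
  · rintro ⟨g, rfl⟩
    by_cases hg : NonScalar (g : Matrix (Fin 2) (Fin 2) F)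
    · have h := centralizer_index hg
      set t := (g : Matrix (Fin 2) (Fin 2) F).trace
      by_cases ht : t = 0
      · rw [ht, cnt_zero] at h
        exact Or.inr (Or.inr (Or.inl (key0 _ h)))
      by_cases hr : ∃ r : F, r * r + t * r + 1 = 0
      · obtain ⟨r, hr⟩ := hr
        have h22 := CharTwo.two_eq_zero (R := F)
        have h0 : r ≠ 0 := by rintro rfl; simp at hr
        have h1 : r ≠ 1 := by
          rintro rfl
          exact ht (by linear_combination hr - h22)
        have e : t = r + r⁻¹ := by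
          refine mul_right_cancel₀ h0 ?_
          rw [add_mul, inv_mul_cancel₀ h0]
          linear_combination hr - (r * r + 1) * h22
        rw [e, (cnt_split h0 h1).1] at h
        exact Or.inr (Or.inr (Or.inr (key1 _ h)))
      · push Not at hr
        rw [cnt_aniso ht hr] at h
        exact Or.inr (Or.inl (key2 _ h))
    · left
      obtain ⟨a, ha, ha1⟩ := sl_scalar_val hg
      rw [Subgroup.index_eq_one, eq_top_iff]
      intro x _
      refine mem_centralizer_sl_iff.2 ?_
      rw [ha, mul_smul_comm, mul_one, smul_mul_assoc, one_mul]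
  · rintro (rfl | rfl | rfl | rfl)
    · refine ⟨1, ?_⟩
      rw [Subgroup.index_eq_one, eq_top_iff]
      intro x _
      rw [Subgroup.mem_centralizer_singleton_iff, one_mul, mul_one]
    · obtain ⟨t, ht, hr⟩ := exists_aniso_trace (F := F)
      exact ⟨cSL t, key2 _ (by rw [← cnt_aniso ht hr]; exact hc t)⟩
    · exact ⟨cSL 0, key0 _ (by have := hc (0 : F); rwa [cnt_zero] at this)⟩
    · obtain ⟨r, h0, h1⟩ := exists_ne_zero_one h4
      exact ⟨cSL (r + r⁻¹), key1 _ (by rw [← (cnt_split h0 h1).1]; exact hc _)⟩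

theorem range_of_equiv {G H : Type*} [Group G] [Group H] (e : G ≃* H) :
    Set.range (fun g : G => (Subgroup.centralizer ({g} : Set G)).index) =
      Set.range (fun h : H => (Subgroup.centralizer ({h} : Set H)).index) := by
  have key : ∀ g : G, (Subgroup.centralizer ({g} : Set G)).index = (Subgroup.centralizer ({e g} : Set H)).index := by
    intro g
    have h : (Subgroup.centralizer ({e g} : Set H)).comap e.toMonoidHom = Subgroup.centralizer ({g} : Set G) := by
      ext x
      simp [Subgroup.mem_centralizer_singleton_iff, ← map_mul]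
    rw [← h, Subgroup.index_comap_of_surjective _ e.surjective]
  ext i
  constructor
  · rintro ⟨g, rfl⟩
    exact ⟨e g, (key g).symm⟩
  · rintro ⟨h, rfl⟩
    exact ⟨e.symm h, by simpa using key (e.symm h)⟩

end CfsgLib.ClassSizesPSL2
open Cfsg

namespace Cfsg.Agent.S2507

/-- Let F be a finite field with q = 2^f ≥ 4 elements. The conjugacy class sizes of PSL(2,F) are exactly 1, q(q − 1), q² − 1 and q(q + 1). -/
theorem result {F : Type*} [Field F] [Fintype F]
    (h2 : 2 ∣ Fintype.card F) (h4 : 4 ≤ Fintype.card F) :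
    Set.range (fun g : (Matrix.ProjectiveSpecialLinearGroup (Fin 2) F) => (Subgroup.centralizer ({g} : Set (Matrix.ProjectiveSpecialLinearGroup (Fin 2) F))).index) =
      {1, Fintype.card F * (Fintype.card F - 1), Fintype.card F ^ 2 - 1, Fintype.card F * (Fintype.card F + 1)} := by
  have hev : Even (Fintype.card F) := even_iff_two_dvd.2 h2
  have : CharP F 2 := by
    obtain ⟨k, hp, hk⟩ := FiniteField.card F (ringChar F)
    rw [hk] at h2
    have e := (Nat.prime_dvd_prime_iff_eq Nat.prime_two hp).1 (Nat.prime_two.dvd_of_dvd_pow h2)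
    exact e ▸ ringChar.charP F
  have hz : Subgroup.center (Matrix.SpecialLinearGroup (Fin 2) F) = ⊥ := by
    rw [Subgroup.eq_bot_iff_forall]
    intro A hA
    obtain ⟨r, hr, hA'⟩ := Matrix.SpecialLinearGroup.mem_center_iff.1 hA
    have h1 : r = 1 := by
      rw [Fintype.card_fin, pow_two] at hr
      exact (mul_self_eq_one_iff.1 hr).elim id fun h => by rw [h, CharTwo.neg_eq]
    apply Subtype.ext
    rw [← hA', h1, map_one]
    rfl
  let e : Matrix.SpecialLinearGroup (Fin 2) F ≃* Matrix.ProjectiveSpecialLinearGroup (Fin 2) F :=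
    MulEquiv.ofBijective (QuotientGroup.mk' _) ⟨by rw [← MonoidHom.ker_eq_bot_iff, QuotientGroup.ker_mk']; exact hz,
      QuotientGroup.mk'_surjective _⟩
  rw [← CfsgLib.ClassSizesPSL2.range_of_equiv e]
  exact CfsgLib.ClassSizesPSL2.range_sl h4

end Cfsg.Agent.S2507
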