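import Cfsg.Statements.S2508
import Cfsg.Agent.Lib.KnownSimple.PSL2ClassSizes

set_option autoImplicit false
open Cfsg CfsgLib.KnownSimple

namespace Cfsg.Agent.S2508

/-- Let F be a finite field with q elements, q odd and q ≥ 7. If q ≡ 1 (mod 4) the conjugacy class sizes of PSL(2,F) are exactly 1, (q² − 1)/2, q(q + 1)/2, q(q − 1) and q(q + 1); if q ≡ 3 (mod 4) they are exactly 1, (q² − 1)/2, q(q − 1)/2, q(q + 1) and q(q − 1). -/
theorem result {F : Type*} [Field F] [Fintype F]
    (hodd : ¬ 2 ∣ Fintype.card F) (h7 : 7 ≤ Fintype.card F) :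
    (Fintype.card F % 4 = 1 →
      Set.range (fun g : (Matrix.ProjectiveSpecialLinearGroup (Fin 2) F) => (Subgroup.centralizer ({g} : Set (Matrix.ProjectiveSpecialLinearGroup (Fin 2) F))).index) =
        {1, (Fintype.card F ^ 2 - 1) / 2, Fintype.card F * (Fintype.card F + 1) / 2,
          Fintype.card F * (Fintype.card F - 1), Fintype.card F * (Fintype.card F + 1)}) ∧
    (Fintype.card F % 4 = 3 →
      Set.range (fun g : (Matrix.ProjectiveSpecialLinearGroup (Fin 2) F) => (Subgroup.centralizer ({g} : Set (Matrix.ProjectiveSpecialLinearGroup (Fin 2) F))).index) =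
        {1, (Fintype.card F ^ 2 - 1) / 2, Fintype.card F * (Fintype.card F - 1) / 2,
          Fintype.card F * (Fintype.card F + 1), Fintype.card F * (Fintype.card F - 1)}) := by
  have h2 : (2 : F) ≠ 0 := by
    intro h
    haveI : CharP F 2 := CharTwo.of_one_ne_zero_of_two_eq_zero one_ne_zero h
    obtain ⟨n, -, hn⟩ := FiniteField.card F 2
    exact hodd (hn ▸ dvd_pow_self 2 n.pos.ne')
  have h := OddClassSizes.range_eq h2 h7
  rw [CfsgLib.Classical.SL2Q.card_torus_eq h2] at h
  generalize hq : Fintype.card F = q at *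
  have hsq : q ^ 2 - 1 = (q - 1) * (q + 1) := by
    rw [mul_comm, show q ^ 2 - 1 = q ^ 2 - 1 ^ 2 by rw [one_pow], Nat.sq_sub_sq]
  refine ⟨fun h1 => ?_, fun h3 => ?_⟩ <;> rw [h]
  · rw [if_neg (by omega)]
    have : q * (q ^ 2 - 1) / 2 / (q - 1) = q * (q + 1) / 2 := by
      rw [Nat.div_div_eq_div_mul, hsq, mul_comm 2 (q - 1), ← Nat.div_div_eq_div_mul,
        show q * ((q - 1) * (q + 1)) = q * (q + 1) * (q - 1) by ring,
        Nat.mul_div_cancel _ (by omega)]
    rw [this]
  · rw [if_pos (by omega)]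
    have : q * (q ^ 2 - 1) / 2 / (q + 1) = q * (q - 1) / 2 := by
      rw [Nat.div_div_eq_div_mul, hsq, mul_comm 2 (q + 1), ← Nat.div_div_eq_div_mul,
        ← mul_assoc, Nat.mul_div_cancel _ (by omega)]
    rw [this]
    ext i
    simp only [Set.mem_insert_iff, Set.mem_singleton_iff]
    tauto

end Cfsg.Agent.S2508
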