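import Cfsg.Statements.S3341
import Cfsg.Agent.Lib.SmallGroups.NineLocal.Main
import Cfsg.Agent.Lib.SmallSimple.Order360

set_option autoImplicit false
open Cfsg

namespace Cfsg.Agent.S3341

open CfsgLib.SmallGroups CfsgLib.SmallGroups.NineLocal

theorem app_zero' : ∀ T : V × V, DihedralThree.app T 0 = 0 := by decide +kernel

theorem app_order : ∀ T : V × V, (∀ v, DihedralThree.app T v = 0 → v = 0) →
    ∀ v, (DihedralThree.app T)^[24] v = v := DihedralThree.bijective_order

/-- Let G be a finite simple group whose Sylow 3-subgroup S is elementary abelian of order 9, such that G has more than one conjugacy class of elements of order 3 and C_G(s) = S for every non-identity s in S. Then G is isomorphic to the alternating group of degree 6. -/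
theorem result {G : Type*} [Group G] [Finite G] [IsSimpleGroup G]
    (P : Sylow 3 G) (S : Subgroup G) (hSP : S = P) (hcomm : IsMulCommutative S) (hexp : ∀ a ∈ S, a ^ 3 = 1)
    (hcard : Nat.card S = 9)
    (hclasses : ∃ a b : G, orderOf a = 3 ∧ orderOf b = 3 ∧ ∀ g : G, g * a * g⁻¹ ≠ b)
    (hcent : ∀ s ∈ S, s ≠ 1 → Subgroup.centralizer ({s} : Set G) = S) :
    Nonempty (G ≃* alternatingGroup (Fin 6)) := by
  classical
  subst hSP
  haveI := hcomm
  have hMM : ∀ x ∈ (P : Subgroup G), ∀ y ∈ (P : Subgroup G), x * y = y * x := fun x hx y hy =>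
    congrArg Subtype.val (hcomm.is_comm.comm ⟨x, hx⟩ ⟨y, hy⟩)
  have hne : Nontrivial ↥(P : Subgroup G) := Finite.one_lt_card_iff_nontrivial.mp (by rw [hcard]; norm_num)
  obtain ⟨⟨s₀, hs₀⟩, hs₀1⟩ := exists_ne (1 : ↥(P : Subgroup G))
  have hs₀1' : s₀ ≠ 1 := fun e => hs₀1 (Subtype.ext e)
  have hself : Subgroup.centralizer ((P : Subgroup G) : Set G) = (P : Subgroup G) := by
    refine le_antisymm ?_ fun y hy => Subgroup.mem_centralizer_iff.mpr fun z hz => hMM z hz y hy
    conv_rhs => rw [← hcent s₀ hs₀ hs₀1']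
    exact Subgroup.centralizer_le (Set.singleton_subset_iff.mpr hs₀)
  have h : Hyp P := ⟨hcard, hexp, hself, fun g hg hg1 => (hcent g hg hg1).le.trans Subgroup.le_normalizer⟩
  have hna : ¬ IsMulCommutative G := by
    intro hc
    have htop : (P : Subgroup G) = ⊤ := by
      rw [← hcent s₀ hs₀ hs₀1', eq_top_iff]
      exact fun y _ => Subgroup.mem_centralizer_singleton_iff.mpr (hc.is_comm.comm y s₀)
    have hp : (Nat.card G).Prime := by
      letI : CommGroup G := { (inferInstance : Group G) with mul_comm := fun a b => hc.is_comm.comm a b }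
      exact IsSimpleGroup.prime_card
    rw [← Subgroup.card_top, ← htop, hcard] at hp
    exact absurd hp (by norm_num)
  have hnorm : ¬ (P : Subgroup G).Normal := by
    intro hn
    rcases IsSimpleGroup.eq_bot_or_eq_top_of_normal _ hn with e | e
    · rw [e, Subgroup.card_bot] at hcard; omega
    · exact hna ⟨⟨fun a b => hMM a (e ▸ Subgroup.mem_top a) b (e ▸ Subgroup.mem_top b)⟩⟩
  obtain ⟨e⟩ := h.exists_coord
  set k := (img e).card with hk
  have hN := card_img e h
  have hcancel : ∀ (n : ↥(Subgroup.normalizer ((P : Subgroup G) : Set G))) v,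
      DihedralThree.app (mat e n⁻¹) (DihedralThree.app (mat e n) v) = v := fun n v => by
    rw [← app_mat_mul, inv_mul_cancel, app_mat_one]
  have hinj : Set.InjOn (fun T => DihedralThree.app T ((1, 0) : V)) (img e : Set (V × V)) := by
    intro T hT T' hT' he
    obtain ⟨n, rfl⟩ := (mem_img e).mp hT
    obtain ⟨m, rfl⟩ := (mem_img e).mp hT'
    rw [mat_eq_iff e h]
    refine (SetLike.ext_iff.mp (hcent _ (phi_mem e (1, 0))
      (fun e' => absurd (el_injective e (e'.trans (el_zero _).symm)) (by decide))) _).mp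
      (Subgroup.mem_centralizer_singleton_iff.mpr ?_)
    have h1 := el_mat e n ((1, 0) : V)
    simp only at he
    rw [he, el_mat] at h1
    calc (n : G)⁻¹ * m * el (phi e) (1, 0) = (n : G)⁻¹ * ((m : G) * el (phi e) (1, 0) * (m : G)⁻¹) * m := by group
      _ = _ := by rw [h1]; group
  have hmaps : (img e).image (fun T => DihedralThree.app T ((1, 0) : V)) ⊆ Finset.univ.erase 0 := by
    intro w hw
    obtain ⟨T, hT, rfl⟩ := Finset.mem_image.mp hw
    obtain ⟨n, rfl⟩ := (mem_img e).mp hT
    refine Finset.mem_erase.mpr ⟨fun e0 => ?_, Finset.mem_univ _⟩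
    have h1 := el_mat e n ((1, 0) : V)
    rw [e0, el_zero, eq_comm, conj_eq_one_iff] at h1
    exact absurd (el_injective e (h1.trans (el_zero _).symm)) (by decide)
  have hkimg : ((img e).image (fun T => DihedralThree.app T ((1, 0) : V))).card = k :=
    Finset.card_image_of_injOn hinj
  have h8 : (Finset.univ.erase (0 : V)).card = 8 := by decide
  have hk8 : k ≤ 8 := by rw [← hkimg, ← h8]; exact Finset.card_le_card hmaps
  have hk0 : k ≠ 0 := Finset.card_ne_zero.mpr ⟨_, (mem_img e).mpr ⟨1, rfl⟩⟩
  haveI : Fact (Nat.Prime 3) := ⟨Nat.prime_three⟩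
  have hk3 : ¬ 3 ∣ k := by
    intro hd
    have h1 := Subgroup.card_subgroup_dvd_card (Subgroup.normalizer ((P : Subgroup G) : Set G))
    rw [hN] at h1
    have h2 : 3 ^ 3 ∣ Nat.card G := (Nat.mul_dvd_mul_left 9 hd).trans h1
    obtain ⟨K, hK⟩ := Sylow.exists_subgroup_card_pow_prime 3 h2
    have hKp : IsPGroup 3 K := IsPGroup.of_card hK
    obtain ⟨Q, hQ⟩ := hKp.exists_le_sylow
    have h3 := Subgroup.card_le_card_group ((K).subgroupOf Q)
    rw [Nat.card_congr (Subgroup.subgroupOfEquivOfLe hQ).toEquiv, hK, Q.card_eq_multiplicity,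
      ← P.card_eq_multiplicity, hcard] at h3
    omega
  have h57 : ∀ p : ℕ, p.Prime → 3 < p → ¬ p ∣ k := by
    intro p hp hp3 hd
    haveI : Fact p.Prime := ⟨hp⟩
    obtain ⟨n, hn⟩ := exists_prime_orderOf_dvd_card'
      p (hN ▸ Dvd.dvd.mul_left hd 9 : p ∣ Nat.card ↥(Subgroup.normalizer ((P : Subgroup G) : Set G)))
    have hit : ∀ (i : ℕ) v, DihedralThree.app (mat e (n ^ i)) v = (DihedralThree.app (mat e n))^[i] v := by
      intro i
      induction i with
      | zero => intro v; rw [pow_zero, app_mat_one]; rfl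
      | succ i ih => intro v; rw [pow_succ', app_mat_mul, ih, Function.iterate_succ_apply']
    have h24 : mat e (n ^ 24) = mat e 1 := mat_ext fun v => by
      rw [hit, app_mat_one]
      refine app_order _ (fun w hw => ?_) v
      have := hcancel n w
      rw [hw] at this
      rw [← this]
      exact app_zero' _
    have hmem : ((n ^ 24 : ↥(Subgroup.normalizer ((P : Subgroup G) : Set G))) : G) ∈ (P : Subgroup G) := by
      have := (mat_eq_iff e h 1 (n ^ 24)).mp h24.symm
      simpa using this
    have h72 : n ^ 72 = 1 := Subtype.ext (by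
      rw [show 72 = 24 * 3 by norm_num, pow_mul]
      exact hexp _ hmem)
    have := hn ▸ orderOf_dvd_of_pow_eq_one h72
    rcases (Nat.Prime.dvd_mul hp).mp (show p ∣ 2 ^ 3 * 3 ^ 2 by exact this) with h' | h' <;>
      [have := (Nat.prime_dvd_prime_iff_eq hp Nat.prime_two).mp (hp.dvd_of_dvd_pow h');
       have := (Nat.prime_dvd_prime_iff_eq hp Nat.prime_three).mp (hp.dvd_of_dvd_pow h')] <;> omega
  have hcases : k = 1 ∨ k = 2 ∨ k = 4 ∨ k = 8 := by
    have := h57 5 (by norm_num) (by norm_num)
    have := h57 7 (by norm_num) (by norm_num)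
    omega
  rcases hcases with h1 | h2 | h4 | h8'
  · exfalso
    have hNP : Subgroup.normalizer ((P : Subgroup G) : Set G) = (P : Subgroup G) :=
      (Subgroup.eq_of_le_of_card_ge Subgroup.le_normalizer (by rw [hN, hcard, ← hk, h1])).symm
    have hle : Subgroup.normalizer ((P : Subgroup G) : Set G) ≤ Subgroup.centralizer ((P : Subgroup G) : Set G) := by
      rw [hNP, hself]
    have hc := MonoidHom.ker_transferSylow_isComplement' P hle
    have hm := hc.card_mul
    rcases IsSimpleGroup.eq_bot_or_eq_top_of_normal (MonoidHom.transferSylow P hle).ker inferInstance with e' | e'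
    · rw [e', Subgroup.card_bot, one_mul] at hm
      have : (P : Subgroup G) = ⊤ := Subgroup.eq_top_of_card_eq _ hm
      exact hnorm (this ▸ inferInstance)
    · rw [e', Subgroup.card_top, hcard] at hm
      have := Nat.card_pos (α := G)
      omega
  · exfalso
    obtain ⟨χ, hχ, hd⟩ := h.linear_of_two (by rw [hN, ← hk, h2]) hcent
    exact hχ (eq_irrOne_of_deg_one hna χ hd)
  · by_cases hall : ∀ n ∈ Subgroup.normalizer ((P : Subgroup G) : Set G), n * n ∈ (P : Subgroup G)
    · exact absurd (h.normal_of_klein (by rw [hN, ← hk, h4]) hall) hnorm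
    · push Not at hall
      obtain ⟨n₀, hn₀, hn₀'⟩ := hall
      rcases (h.of_quarter (by rw [hN, ← hk, h4]) ⟨n₀, hn₀⟩ hn₀').2 with hn | ⟨h360, -⟩
      · exact absurd hn hnorm
      · have hA : Nat.card ↥(alternatingGroup (Fin 6)) = 360 := by
          rw [nat_card_alternatingGroup, Nat.card_fin]; rfl
        haveI : IsSimpleGroup ↥(alternatingGroup (Fin 6)) := alternatingGroup.isSimpleGroup (by simp)
        obtain ⟨e₁⟩ := CfsgLib.SmallSimple.O360.nonempty_iso h360
        obtain ⟨e₂⟩ := CfsgLib.SmallSimple.O360.nonempty_iso hA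
        exact ⟨e₁.trans e₂.symm⟩
  · exfalso
    have himg : (img e).image (fun T => DihedralThree.app T ((1, 0) : V)) = Finset.univ.erase 0 :=
      Finset.eq_of_subset_of_card_le hmaps (by rw [hkimg, h8, h8'])
    obtain ⟨a, b, ha, hb, hab⟩ := hclasses
    have key : ∀ a : G, orderOf a = 3 → IsConj (el (phi e) (1, 0)) a := by
      intro a ha
      obtain ⟨g, hg⟩ := exists_conj_mem (M := P) 1 (v := a) (by rw [pow_one, ← ha]; exact pow_orderOf_eq_one a)
      obtain ⟨x, hx⟩ : ∃ x, el (phi e) x = g * a * g⁻¹ :=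
        ⟨(e.symm ⟨_, hg⟩).toAdd, by simp [el]⟩
      have hx0 : x ≠ 0 := by
        rintro rfl
        rw [el_zero, eq_comm, conj_eq_one_iff] at hx
        rw [hx, orderOf_one] at ha
        omega
      obtain ⟨T, hT, hTx⟩ := Finset.mem_image.mp (himg.symm ▸ Finset.mem_erase.mpr ⟨hx0, Finset.mem_univ x⟩)
      obtain ⟨n, rfl⟩ := (mem_img e).mp hT
      have hga : IsConj a (g * a * g⁻¹) := isConj_iff.mpr ⟨g, rfl⟩
      refine IsConj.trans ?_ hga.symm
      refine isConj_iff.mpr ⟨n, ?_⟩
      rw [← el_mat, hTx, hx]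
    obtain ⟨c, hc⟩ := isConj_iff.mp ((key a ha).symm.trans (key b hb))
    exact hab c hc

end Cfsg.Agent.S3341
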