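import Cfsg.Statements.S1475
import Cfsg.Agent.Lib.FGS.PrimeGraphThree

set_option autoImplicit false
open Cfsg

namespace Cfsg.Agent.S1475

/-- Let G be a finite solvable group such that the order of every element is a prime power (1 included). Then at most two distinct primes divide the order of G. -/
theorem result {G : Type*} [Group G] [Finite G] [Group.IsSolvable G] (h : ∀ g : G, IsPrimePow (orderOf g) ∨ g = 1) :
    (Nat.card G).primeFactors.card ≤ 2 := by
  classical
  by_contra hlt
  obtain ⟨S, hS, hSc⟩ := Finset.exists_subset_card_eq (show 3 ≤ (Nat.card G).primeFactors.card by omega)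
  refine CfsgLib.FGS.false_of_three_primes (G := G) S hSc
    (fun p hp => ⟨Nat.prime_of_mem_primeFactors (hS hp), Nat.dvd_of_mem_primeFactors (hS hp)⟩) ?_
  intro a ha b hb hab g hd
  have hpa := Nat.prime_of_mem_primeFactors (hS ha)
  have hpb := Nat.prime_of_mem_primeFactors (hS hb)
  rcases h g with hpow | rfl
  · obtain ⟨p, k, hp, -, hk⟩ := (isPrimePow_nat_iff _).1 hpow
    refine hab ?_
    rw [(Nat.prime_dvd_prime_iff_eq hpa hp).1 (hpa.dvd_of_dvd_pow (hk ▸ (dvd_mul_right a b).trans hd)),
      (Nat.prime_dvd_prime_iff_eq hpb hp).1 (hpb.dvd_of_dvd_pow (hk ▸ (dvd_mul_left b a).trans hd))]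
  · rw [orderOf_one] at hd
    exact hpa.ne_one (Nat.eq_one_of_dvd_one ((dvd_mul_right a b).trans hd))

end Cfsg.Agent.S1475
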