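import Cfsg.Statements.S3992
import Cfsg.Agent.Lib.FGS.PrimeGraphThree
import Cfsg.Agent.Lib.Cores.Basic
import Cfsg.Agent.Lib.Solvable.UniqueSubgroup

set_option autoImplicit false
open Cfsg

namespace Cfsg.Agent.S3992

theorem prime_unique {n a b : ℕ} (h : IsPrimePow n) (ha : a.Prime) (hb : b.Prime)
    (hda : a ∣ n) (hdb : b ∣ n) : a = b := by
  obtain ⟨p, k, hp, -, rfl⟩ := (isPrimePow_nat_iff n).1 h
  rw [(Nat.prime_dvd_prime_iff_eq ha hp).1 (ha.dvd_of_dvd_pow hda),
    (Nat.prime_dvd_prime_iff_eq hb hp).1 (hb.dvd_of_dvd_pow hdb)]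

theorem mixed_false {X : Type*} [Group X] [Finite X] (hpp : ∀ g : X, g ≠ 1 → IsPrimePow (orderOf g))
    {a b : X} (hc : Commute a b) {t u : ℕ} (ht : t.Prime) (hu : u.Prime) (hne : t ≠ u)
    (hta : t ∣ orderOf a) (hub : u ∣ orderOf b) : False := by
  have h1 : orderOf (a ^ (orderOf a / t)) = t := orderOf_pow_orderOf_div (orderOf_pos a).ne' hta
  have h2 : orderOf (b ^ (orderOf b / u)) = u := orderOf_pow_orderOf_div (orderOf_pos b).ne' hub
  have h3 := (hc.pow_pow (orderOf a / t) (orderOf b / u)).orderOf_mul_eq_mul_orderOf_of_coprime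
    (by rw [h1, h2]; exact (Nat.coprime_primes ht hu).2 hne)
  rw [h1, h2] at h3
  have h4 : a ^ (orderOf a / t) * b ^ (orderOf b / u) ≠ 1 := fun e => by
    rw [e, orderOf_one] at h3
    exact ht.ne_one (Nat.eq_one_of_dvd_one ⟨u, h3⟩)
  have h5 := hpp _ h4
  rw [h3] at h5
  exact hne (prime_unique h5 ht hu (dvd_mul_right t u) (dvd_mul_left u t))

theorem solvable_comap {G : Type*} [Group G] (R : Subgroup G) [R.Normal] (hR : Group.IsSolvable R)
    (N : Subgroup (G ⧸ R)) (hN : Group.IsSolvable N) :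
    Group.IsSolvable (N.comap (QuotientGroup.mk' R)) := by
  have hle : R ≤ N.comap (QuotientGroup.mk' R) := fun x hx => by
    rw [Subgroup.mem_comap, QuotientGroup.mk'_apply, (QuotientGroup.eq_one_iff x).2 hx]
    exact one_mem N
  refine Group.isSolvable_of_ker_le_range (Subgroup.inclusion hle)
    ((QuotientGroup.mk' R).subgroupComap N) fun x hx => ?_
  have hx' : QuotientGroup.mk' R (x : G) = 1 := congrArg Subtype.val (MonoidHom.mem_ker.1 hx)
  exact ⟨⟨x, (QuotientGroup.eq_one_iff _).1 hx'⟩, rfl⟩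

theorem radical_isPGroup {G : Type*} [Group G] [Finite G] (hns : ¬ Group.IsSolvable G)
    (hpp : ∀ g : G, g ≠ 1 → IsPrimePow (orderOf g))
    (R : Subgroup G) [R.Normal] (hRs : Group.IsSolvable ↥R)
    (hRmax : ∀ N : Subgroup G, N.Normal → Group.IsSolvable ↥N → N ≤ R) :
    ∃ p : ℕ, p.Prime ∧ IsPGroup p ↥R := by
  classical
  by_cases hR1 : R = ⊥
  · exact ⟨2, Nat.prime_two, hR1 ▸ IsPGroup.of_bot⟩
  obtain ⟨N, hNn, hN1, hNR, hNmin⟩ := CfsgLib.Solvable.exists_minimal_normal_le R hR1
  haveI := hNn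
  obtain ⟨q, a, hq, -, hNq, -⟩ := CfsgLib.Solvable.exists_pow_card_of_minimal_normal N hN1 hNmin
    (Group.isSolvable_of_isSolvable_injective (Subgroup.inclusion_injective hNR))
  haveI := Fact.mk hq
  obtain ⟨Q, hNQ, ⟨hQn, hQR, hQp⟩, hQmax⟩ := Finite.exists_le_maximal
    (p := fun Q : Subgroup G => Q.Normal ∧ Q ≤ R ∧ IsPGroup q Q) (a := N) ⟨hNn, hNR, hNq⟩
  haveI := hQn
  by_cases hQR' : R ≤ Q
  · exact ⟨q, hq, hQp.to_le hQR'⟩
  exfalso
  set π := QuotientGroup.mk' Q with hπ
  haveI : (R.map π).Normal := Subgroup.Normal.map inferInstance π (QuotientGroup.mk'_surjective Q)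
  have hRb : R.map π ≠ ⊥ := fun h => hQR' (by
    rw [Subgroup.map_eq_bot_iff, hπ, QuotientGroup.ker_mk'] at h
    exact h)
  obtain ⟨Tb, hTn, hT1, hTR, hTmin⟩ := CfsgLib.Solvable.exists_minimal_normal_le (R.map π) hRb
  haveI := hTn
  haveI := hRs
  have hRbs : Group.IsSolvable (R.map π) :=
    Group.isSolvable_of_surjective (f := π.subgroupMap R) (π.subgroupMap_surjective R)
  obtain ⟨t, e, ht, he, hTt, hTc⟩ := CfsgLib.Solvable.exists_pow_card_of_minimal_normal Tb hT1 hTmin
    (Group.isSolvable_of_isSolvable_injective (Subgroup.inclusion_injective hTR))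
  haveI := Fact.mk ht
  have hTe := CfsgLib.Solvable.exists_prime_pow_eq_one_of_minimal_normal Tb hT1 hTmin
    (Group.isSolvable_of_isSolvable_injective (Subgroup.inclusion_injective hTR))
  set M := Tb.comap π with hM
  have hQM : Q ≤ M := fun x hx => by
    rw [hM, Subgroup.mem_comap, hπ, QuotientGroup.mk'_apply, (QuotientGroup.eq_one_iff x).2 hx]
    exact one_mem Tb
  have hMR : M ≤ R := by
    refine (Subgroup.comap_mono hTR).trans ?_
    rw [Subgroup.comap_map_eq, hπ, QuotientGroup.ker_mk', sup_eq_left.2 hQR]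
  have hMc : Nat.card M = Nat.card Q * t ^ e := by
    rw [hM, hπ, CfsgLib.Solvable.card_comap_mk', hTc]
  obtain ⟨i, hi⟩ := hQp.exists_card_eq
  have hqt : q ≠ t := by
    rintro rfl
    have hMp : IsPGroup q M := IsPGroup.of_card (n := i + e) (by rw [hMc, hi, pow_add])
    refine hT1 (eq_bot_iff.2 fun x hx => ?_)
    obtain ⟨g, rfl⟩ := QuotientGroup.mk'_surjective Q x
    exact Subgroup.mem_bot.2 ((QuotientGroup.eq_one_iff g).2
      (hQmax ⟨hTn.comap π, hMR, hMp⟩ hQM (show g ∈ M from hx)))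
  obtain ⟨T₀⟩ : Nonempty (Sylow t M) := inferInstance
  set T : Subgroup G := (T₀ : Subgroup M).map M.subtype with hT
  have hTM : T ≤ M := Subgroup.map_subtype_le _
  have hTp : IsPGroup t T := T₀.isPGroup'.map _
  have hTexp : ∀ x ∈ T, x ≠ 1 → orderOf x = t := by
    intro x hx hx1
    obtain ⟨j, hj⟩ := IsPGroup.iff_orderOf.1 hTp ⟨x, hx⟩
    rw [Subgroup.orderOf_mk] at hj
    obtain ⟨s, hs, hse⟩ := hTe
    have hs' : s = t := by
      obtain ⟨z, hz⟩ := exists_prime_orderOf_dvd_card' (G := Tb) t (hTc ▸ dvd_pow_self t (by omega))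
      exact ((Nat.prime_dvd_prime_iff_eq ht hs).1
        (hz ▸ orderOf_dvd_of_pow_eq_one (Subtype.ext (hse z z.2)))).symm
    have h1 : x ^ t ∈ Q := by
      rw [← QuotientGroup.eq_one_iff, ← QuotientGroup.mk'_apply, map_pow]
      exact hs' ▸ hse _ (hTM hx)
    have h2 : x ^ t = 1 := by
      rw [← orderOf_eq_one_iff]
      refine Nat.eq_one_of_dvd_coprimes (Nat.Coprime.pow i j ((Nat.coprime_primes hq ht).2 hqt))
        (hi ▸ Subgroup.orderOf_dvd_natCard Q h1) (hj ▸ orderOf_pow_dvd t)
    exact orderOf_eq_prime h2 hx1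
  have hTne : T ≠ ⊥ := fun h => T₀.ne_bot_of_dvd_card
    (hMc ▸ (dvd_pow_self t (show e ≠ 0 by omega)).mul_left _)
    ((Subgroup.map_eq_bot_iff_of_injective _ M.subtype_injective).1 h)
  obtain ⟨x₀, hx₀, hx₀1⟩ : ∃ x ∈ T, x ≠ 1 := by
    obtain ⟨z, hz⟩ := Subgroup.ne_bot_iff_exists_ne_one.1 hTne
    exact ⟨z, z.2, fun e => hz (Subtype.ext e)⟩
  have hN' : ∃ y ∈ N, y ≠ 1 := by
    obtain ⟨z, hz⟩ := Subgroup.ne_bot_iff_exists_ne_one.1 hN1
    exact ⟨z, z.2, fun e => hz (Subtype.ext e)⟩
  have hfpf : ∀ x ∈ T, x ≠ 1 → N ⊓ Subgroup.centralizer {x} = ⊥ := by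
    intro x hx hx1
    refine (Subgroup.eq_bot_iff_forall _).2 fun y hy => by_contra fun hy1 => ?_
    obtain ⟨j, hj⟩ := IsPGroup.iff_orderOf.1 hNq ⟨y, hy.1⟩
    rw [Subgroup.orderOf_mk] at hj
    have hj0 : j ≠ 0 := fun e => hy1 (orderOf_eq_one_iff.1 (by rw [hj, e, pow_zero]))
    exact mixed_false hpp (Subgroup.mem_centralizer_singleton_iff.1 hy.2) hq ht hqt
      (hj ▸ dvd_pow_self q hj0) (dvd_of_eq (hTexp x hx hx1).symm)
  have hNT : T ≤ Subgroup.normalizer (N : Set G) := by rw [Subgroup.normalizer_eq_top]; exact le_top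
  obtain hcyc | ⟨rfl, m, ⟨eQ⟩⟩ := CfsgLib.Solvable.isCyclic_or_quaternion hTp
    fun x y hx hy => CfsgLib.Solvable.mem_zpowers_of_fpf_pGroup hN1 hNT hfpf hTp hx hy
  swap
  · haveI : NeZero (2 ^ m) := ⟨by positivity⟩
    have h4 : orderOf (eQ.symm (QuaternionGroup.xa 0)) = 4 := by
      rw [MulEquiv.orderOf_eq, QuaternionGroup.orderOf_xa]
    have := hTexp _ (eQ.symm (QuaternionGroup.xa 0)).2 (fun hh => by
      rw [show eQ.symm (QuaternionGroup.xa 0) = 1 from Subtype.ext hh, orderOf_one] at h4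
      omega)
    rw [Subgroup.orderOf_coe, h4] at this
    omega
  -- the normalizer of T is solvable
  haveI := hcyc
  set NT := Subgroup.normalizer (T : Set G) with hNTdef
  have hsolvNT : Group.IsSolvable NT := by
    have hker : IsPGroup t T.normalizerMonoidHom.ker := IsPGroup.of_card
      (Nat.eq_prime_pow_of_unique_prime_dvd Nat.card_pos.ne' fun {d} hd hdd => by
        by_contra hne
        haveI := Fact.mk hd
        obtain ⟨c, hc⟩ := exists_prime_orderOf_dvd_card' (G := T.normalizerMonoidHom.ker) d hdd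
        have hc' : Commute ((c : NT) : G) x₀ := by
          have h1 := congrArg Subtype.val (congrArg (fun f : MulAut T => f ⟨x₀, hx₀⟩) (MonoidHom.mem_ker.1 c.2))
          have h2 : ((c : NT) : G) * x₀ * ((c : NT) : G)⁻¹ = x₀ := h1
          exact mul_inv_eq_iff_eq_mul.1 h2
        refine mixed_false hpp hc' hd ht hne ?_ (dvd_of_eq (hTexp x₀ hx₀ hx₀1).symm)
        rw [Subgroup.orderOf_coe, Subgroup.orderOf_coe, hc])
    haveI := hker.isNilpotent
    haveI : Group.IsSolvable (MulAut T) :=
      Group.isSolvable_of_comm fun f g => (IsCyclic.mulAutMulEquiv T).injective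
        (by rw [map_mul, map_mul, mul_comm])
    exact Group.isSolvable_of_ker_le_range T.normalizerMonoidHom.ker.subtype T.normalizerMonoidHom (by simp)
  have htop : NT ⊔ M = ⊤ := by
    haveI : M.Normal := hTn.comap π
    exact Sylow.normalizer_sup_eq_top T₀
  haveI : M.Normal := hTn.comap π
  have hMs : Group.IsSolvable M :=
    Group.isSolvable_of_isSolvable_injective (Subgroup.inclusion_injective hMR)
  have hquo : Group.IsSolvable (G ⧸ M) := by
    refine Group.isSolvable_of_surjective (f := (QuotientGroup.mk' M).comp NT.subtype) fun x => ?_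
    obtain ⟨g, rfl⟩ := QuotientGroup.mk'_surjective M x
    obtain ⟨a, ha, b, hb, rfl⟩ := Subgroup.mem_sup_of_normal_right.1 (htop.ge (Subgroup.mem_top g))
    refine ⟨⟨a, ha⟩, ?_⟩
    rw [MonoidHom.comp_apply, map_mul, QuotientGroup.mk'_apply M b, (QuotientGroup.eq_one_iff b).2 hb, mul_one]
    rfl
  exact hns (Group.isSolvable_of_ker_le_range M.subtype (QuotientGroup.mk' M) (by simp))

/-- Let G be a finite non-solvable group in which every element has prime-power order, and let R be its largest solvable normal subgroup. Then R is a p-group for some prime p; G/R has a non-abelian simple normal subgroup contained in every nontrivial normal subgroup of G/R (its unique minimal normal subgroup); and the order of every solvable subgroup of G has at most two prime divisors. -/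
theorem result {G : Type*} [Group G] [Finite G] (hns : ¬ Group.IsSolvable G) (hpp : ∀ g : G, g ≠ 1 → IsPrimePow (orderOf g))
    (R : Subgroup G) [R.Normal] (hRs : Group.IsSolvable ↥R) (hRmax : ∀ N : Subgroup G, N.Normal → Group.IsSolvable ↥N → N ≤ R) :
    (∃ p : ℕ, p.Prime ∧ IsPGroup p ↥R) ∧
      (∃ M : Subgroup (G ⧸ R), M.Normal ∧ IsSimpleGroup ↥M ∧ ¬ IsMulCommutative ↥M ∧
        ∀ N : Subgroup (G ⧸ R), N.Normal → N ≠ ⊥ → M ≤ N) ∧
      ∀ H : Subgroup G, Group.IsSolvable ↥H → (Nat.card ↥H).primeFactors.card ≤ 2 := by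
  classical
  refine ⟨radical_isPGroup hns hpp R hRs hRmax, ?_, fun H hH => ?_⟩
  swap
  · haveI := hH
    by_contra hlt
    obtain ⟨S, hS, hSc⟩ := Finset.exists_subset_card_eq (show 3 ≤ (Nat.card H).primeFactors.card by omega)
    refine CfsgLib.FGS.false_of_three_primes (G := H) S hSc
      (fun p hp => ⟨Nat.prime_of_mem_primeFactors (hS hp), Nat.dvd_of_mem_primeFactors (hS hp)⟩) ?_
    intro a ha b hb hab g hd
    have hne : g ≠ 1 := fun e => by
      rw [e, orderOf_one] at hd
      exact (Nat.prime_of_mem_primeFactors (hS ha)).ne_one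
        (Nat.eq_one_of_dvd_one ((dvd_mul_right a b).trans hd))
    have hpow := hpp (g : G) (fun e => hne (Subtype.ext e))
    rw [Subgroup.orderOf_coe] at hpow
    exact hab (prime_unique hpow (Nat.prime_of_mem_primeFactors (hS ha))
      (Nat.prime_of_mem_primeFactors (hS hb)) ((dvd_mul_right a b).trans hd) ((dvd_mul_left b a).trans hd))
  · -- the quotient by the radical
    have hppX : ∀ x : G ⧸ R, x ≠ 1 → IsPrimePow (orderOf x) := by
      intro x hx
      obtain ⟨g, rfl⟩ := QuotientGroup.mk'_surjective R x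
      exact (hpp g fun e => hx (by rw [e, map_one])).dvd (orderOf_map_dvd _ g)
        fun e => hx (orderOf_eq_one_iff.1 e)
    have hrad : ∀ N : Subgroup (G ⧸ R), N.Normal → Group.IsSolvable N → N = ⊥ := by
      intro N hN hNs
      have hN' : (N.comap (QuotientGroup.mk' R)).Normal := hN.comap _
      have hs : Group.IsSolvable (N.comap (QuotientGroup.mk' R)) := solvable_comap R hRs N hNs
      have hle := hRmax _ hN' hs
      refine eq_bot_iff.2 fun x hx => ?_
      obtain ⟨g, rfl⟩ := QuotientGroup.mk'_surjective R x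
      exact Subgroup.mem_bot.2 ((QuotientGroup.eq_one_iff g).2 (hle hx))
    haveI : Nontrivial (G ⧸ R) := by
      rcases subsingleton_or_nontrivial (G ⧸ R) with h | h
      · exfalso
        exact hns (Group.isSolvable_of_ker_le_range R.subtype (QuotientGroup.mk' R) (by simp))
      · exact h
    obtain ⟨M, hMn, hM1, hMmin⟩ := CfsgLib.Solvable.exists_minimal_normal (G := G ⧸ R)
    haveI := hMn
    have htwo : ∀ N : Subgroup (G ⧸ R), N.Normal → N ≠ ⊥ →
        ∀ t : ℕ, t.Prime → ∃ u : ℕ, u.Prime ∧ u ≠ t ∧ u ∣ Nat.card N := by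
      intro N hN hN1 t ht
      haveI := Fact.mk ht
      by_contra hno
      push Not at hno
      refine hN1 (hrad N hN ?_)
      haveI := (IsPGroup.of_card (Nat.eq_prime_pow_of_unique_prime_dvd Nat.card_pos.ne'
        fun {d} hd hdd => by_contra fun h => hno d hd h hdd) : IsPGroup t N).isNilpotent
      infer_instance
    refine ⟨M, hMn, ?_, fun hc => hM1 (hrad M hMn (Group.isSolvable_of_comm hc.is_comm.comm)), fun N hN hN1 => ?_⟩
    · haveI : Nontrivial M := M.nontrivial_iff_ne_bot.2 hM1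
      refine ⟨fun K hK => ?_⟩
      by_cases hK1 : K = ⊥
      · exact Or.inl hK1
      right
      obtain ⟨S, hSn, hS1, hSK, hSmin⟩ := CfsgLib.Solvable.exists_minimal_normal_le (G := M) K hK1
      haveI := hSn
      by_contra hKtop
      set S' := S.map M.subtype with hS'
      have hS'M : S' ≤ M := Subgroup.map_subtype_le S
      have hS'1 : S' ≠ ⊥ := fun h =>
        hS1 ((Subgroup.map_eq_bot_iff_of_injective _ M.subtype_injective).1 h)
      -- some conjugate of S' is different
      obtain ⟨g, s, hs, hgs⟩ : ∃ g : G ⧸ R, ∃ s : M, s ∈ S ∧ MulAut.conjNormal g s ∉ S := by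
        by_contra hall
        push Not at hall
        have hn : S'.Normal := ⟨by
          rintro _ ⟨s, hs, rfl⟩ g
          exact ⟨_, hall g s hs, MulAut.conjNormal_apply g s⟩⟩
        rcases hMmin S' hn hS'M with h | h
        · exact hS'1 h
        · refine hKtop (eq_top_iff.2 fun x _ => hSK ?_)
          obtain ⟨y, hy, hyx⟩ := h.ge x.2
          rwa [show x = y from Subtype.ext hyx.symm]
      set T := S.map (MulAut.conjNormal g : MulAut M).toMonoidHom with hT
      have hTn : T.Normal := hSn.map _ (MulEquiv.surjective _)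
      have hd : S ⊓ T = ⊥ := by
        rcases hSmin (S ⊓ T) inferInstance inf_le_left with h | h
        · exact h
        · exfalso
          have hST : S ≤ T := inf_eq_left.1 h
          have : S = T := Subgroup.eq_of_le_of_card_ge hST
            (by rw [hT, Subgroup.card_map_of_injective (MulEquiv.injective _)])
          exact hgs (this.symm ▸ ⟨s, hs, rfl⟩)
      have hcom : ∀ a ∈ S, ∀ b ∈ T, Commute a b := fun a ha b hb =>
        Subgroup.commute_of_normal_of_disjoint S T hSn hTn (disjoint_iff.2 hd) a b ha hb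
      obtain ⟨t, ht, htS⟩ := Nat.exists_prime_and_dvd (fun h => hS1 (Subgroup.eq_bot_of_card_eq S h))
      haveI := Fact.mk ht
      have hall : ∀ u : ℕ, u.Prime → u ∣ Nat.card S → u = t := by
        intro u hu hud
        haveI := Fact.mk hu
        obtain ⟨a, ha⟩ := exists_prime_orderOf_dvd_card' (G := S) t htS
        obtain ⟨b, hb⟩ := exists_prime_orderOf_dvd_card' (G := S) u hud
        by_contra hne
        have hb' : orderOf (MulAut.conjNormal g (b : M)) = u := by
          rw [MulEquiv.orderOf_eq, Subgroup.orderOf_coe, hb]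
        have hc := hcom a a.2 _ ⟨b, b.2, rfl⟩
        refine mixed_false hppX ((hcom a a.2 _ ⟨b, b.2, rfl⟩).map M.subtype) ht hu (fun e => hne e.symm) ?_ ?_
        · rw [Subgroup.subtype_apply, Subgroup.orderOf_coe, Subgroup.orderOf_coe, ha]
        · rw [Subgroup.subtype_apply, Subgroup.orderOf_coe]
          exact dvd_of_eq hb'.symm
      have hSp : IsPGroup t S := IsPGroup.of_card
        (Nat.eq_prime_pow_of_unique_prime_dvd Nat.card_pos.ne' fun {d} hd hdd => hall d hd hdd)
      haveI := CfsgLib.Cores.pCore_characteristic (G := M) t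
      have hC : ((Cfsg.pCore t M).map M.subtype) ≠ ⊥ := fun h => hS1 (eq_bot_iff.2 (by
        rw [← (Subgroup.map_eq_bot_iff_of_injective _ M.subtype_injective).1 h]
        exact CfsgLib.Cores.le_pCore (hn := hSn) hSp))
      haveI : Group.IsNilpotent ((Cfsg.pCore t M).map M.subtype : Subgroup (G ⧸ R)) :=
        ((CfsgLib.Cores.isPGroup_pCore (G := M) t).map _).isNilpotent
      exact hC (hrad _ inferInstance inferInstance)
    · by_contra hle
      have hd : M ⊓ N = ⊥ := by
        rcases hMmin (M ⊓ N) inferInstance inf_le_left with h | h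
        · exact h
        · exact absurd (inf_eq_left.1 h) hle
      obtain ⟨t, ht, htM⟩ := Nat.exists_prime_and_dvd (fun h => hM1 (Subgroup.eq_bot_of_card_eq M h))
      obtain ⟨u, hu, hut, huN⟩ := htwo N hN hN1 t ht
      haveI := Fact.mk ht
      haveI := Fact.mk hu
      obtain ⟨a, ha⟩ := exists_prime_orderOf_dvd_card' (G := M) t htM
      obtain ⟨b, hb⟩ := exists_prime_orderOf_dvd_card' (G := N) u huN
      exact mixed_false hppX (Subgroup.commute_of_normal_of_disjoint M N hMn hN (disjoint_iff.2 hd) a b a.2 b.2)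
        ht hu hut.symm (by rw [Subgroup.orderOf_coe, ha]) (by rw [Subgroup.orderOf_coe, hb])

end Cfsg.Agent.S3992
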