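import Cfsg.Statements.S0214
import Cfsg.Agent.Lib.Invol.Embedded

set_option autoImplicit false
open Cfsg

namespace Cfsg.Agent.S0214

/-- Let H be a proper subgroup of the finite group G and P a nontrivial Sylow 2-subgroup of H. Then H is strongly embedded in G if and only if N_G(X) ≤ H for every nontrivial subgroup X of P. -/
theorem result {G : Type*} [Group G] [Finite G] (H : Subgroup G) (hH : H ≠ ⊤) (P : Sylow 2 ↥H) (hP : (P : Subgroup ↥H) ≠ ⊥) : Cfsg.IsStronglyEmbedded H ↔ (∀ X : Subgroup ↥H, X ≤ (P : Subgroup ↥H) → X ≠ ⊥ → Subgroup.normalizer ((X.map H.subtype : Subgroup G) : Set G) ≤ H) := by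
  constructor
  · intro hSE X hXP hX g hg
    obtain ⟨t, ht⟩ : ∃ t : X, orderOf t = 2 := by
      obtain ⟨n, hn⟩ := IsPGroup.iff_card.mp (P.isPGroup'.to_le hXP)
      refine exists_prime_orderOf_dvd_card' 2 ?_
      rcases n with _ | n
      · exact absurd (Subgroup.card_eq_one.mp (by simpa using hn)) hX
      · exact ⟨2 ^ n, by rw [hn, pow_succ']⟩
    refine CfsgLib.Invol.stronglyEmbedded_conj_mem hSE (t := ((t : ↥H) : G)) (t : ↥H).2
      (by rw [Subgroup.orderOf_coe, Subgroup.orderOf_coe, ht]) ?_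
    have := (Subgroup.mem_normalizer_iff.mp hg ((t : ↥H) : G)).mp ⟨(t : ↥H), t.2, rfl⟩
    obtain ⟨y, -, hy⟩ := this
    rw [← hy]
    exact y.2
  · intro h
    refine ⟨hH, ?_, fun g hg => ?_⟩
    · obtain ⟨n, hn⟩ := IsPGroup.iff_card.mp P.isPGroup'
      rcases n with _ | n
      · exact absurd (Subgroup.card_eq_one.mp (by simpa using hn)) hP
      · exact even_iff_two_dvd.mpr (Dvd.dvd.trans ⟨2 ^ n, by rw [hn, pow_succ']⟩
          (Subgroup.card_subgroup_dvd_card (P : Subgroup ↥H)))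
    by_contra hodd
    rw [Nat.not_odd_iff_even] at hodd
    obtain ⟨⟨t, htm⟩, ht⟩ := exists_prime_orderOf_dvd_card' 2 (even_iff_two_dvd.mp hodd)
    rw [← Subgroup.orderOf_coe] at ht
    refine CfsgLib.Invol.not_prop_of_normalizer_le P (fun X => X ≠ ⊥)
      (fun X g hX he => hX ((Subgroup.map_eq_bot_iff_of_injective _ (MulAut.conj g).injective).mp he))
      (fun X Y hXY hX hY => hX (le_bot_iff.mp (hY ▸ hXY))) ?_ hg
      (IsPGroup.of_card (n := 1) (by rw [Nat.card_zpowers, ht, pow_one]))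
      (Subgroup.zpowers_le.mpr htm) (Subgroup.zpowers_ne_bot.mpr (CfsgLib.Invol.ne_one_of_orderOf_two ht))
    intro X hXP hX
    have he : (X.subgroupOf H).map H.subtype = X :=
      Subgroup.map_subgroupOf_eq_of_le (hXP.trans (Subgroup.map_subtype_le _))
    rw [← he]
    refine h _ (fun y hy => ?_) (fun hb => hX (by rw [← he, hb, Subgroup.map_bot]))
    obtain ⟨z, hz, hzy⟩ := hXP hy
    exact (Subtype.ext hzy : z = y) ▸ hz

end Cfsg.Agent.S0214
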