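import Cfsg.Statements.S2475
import Cfsg.Agent.Lib.Spectrum.PGL2
import Cfsg.Agent.Lib.Classical.SL2Semisimple
import Cfsg.Agent.Lib.SL2Table.SL2EvenABA

set_option autoImplicit false
open Cfsg

namespace Cfsg.Agent.S2475

open Matrix in
/-- The diagonal torus. -/
noncomputable def diagHom (F : Type*) [Field F] : Fˣ →* Matrix.SpecialLinearGroup (Fin 2) F where
  toFun a := ⟨!![(a : F), 0; 0, ((a⁻¹ : Fˣ) : F)], by simp [Matrix.det_fin_two]⟩
  map_one' := by ext i j; fin_cases i <;> fin_cases j <;> simp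
  map_mul' a b := Subtype.ext (by
    show (!![((a * b : Fˣ) : F), 0; 0, (((a * b)⁻¹ : Fˣ) : F)] : Matrix (Fin 2) (Fin 2) F) = !![(a : F), 0; 0, ((a⁻¹ : Fˣ) : F)] * !![(b : F), 0; 0, ((b⁻¹ : Fˣ) : F)]
    ext i j; fin_cases i <;> fin_cases j <;> simp [Matrix.mul_apply, Fin.sum_univ_two, mul_comm])

theorem diagHom_injective {F : Type*} [Field F] : Function.Injective (diagHom F) := fun a b h => by
  have := congrFun (congrFun (congrArg Subtype.val h) 0) 0
  exact Units.ext this

theorem odd_case {F : Type*} [Field F] [Fintype F] (p : ℕ) [Fact p.Prime] [CharP F p] (h4 : 4 ≤ Fintype.card F)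
    (h2 : (2 : F) ≠ 0) :
    Set.range (orderOf : Matrix.ProjectiveSpecialLinearGroup (Fin 2) F → ℕ) =
      {m : ℕ | m ∣ p ∨ m ∣ (Fintype.card F - 1) / 2 ∨ m ∣ (Fintype.card F + 1) / 2} := by
  obtain ⟨k, -, hq⟩ := FiniteField.card F p
  ext d
  constructor
  · rintro ⟨g, rfl⟩; exact CfsgLib.Spectrum.orderOf_psl_cases h2 hq g
  · intro hd
    have down : ∀ n : ℕ, 0 < n → (∃ g : Matrix.ProjectiveSpecialLinearGroup (Fin 2) F, orderOf g = n) → d ∣ n →
        d ∈ Set.range (orderOf : Matrix.ProjectiveSpecialLinearGroup (Fin 2) F → ℕ) := by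
      intro n hn ⟨g, hg⟩ hdn
      exact ⟨g ^ (n / d), by rw [← hg, orderOf_pow_orderOf_div (by omega) (hg ▸ hdn)]⟩
    rcases hd with hd | hd | hd
    · refine down p (Fact.out : p.Prime).pos ?_ hd
      let A : Matrix.SpecialLinearGroup (Fin 2) F := ⟨!![1, 1; 0, 1], by simp [Matrix.det_fin_two]⟩
      have hpow : ∀ n : ℕ, ((A ^ n : Matrix.SpecialLinearGroup (Fin 2) F) : Matrix (Fin 2) (Fin 2) F) = !![1, (n : F); 0, 1] := by
        intro n
        induction n with
        | zero => simp [Matrix.one_fin_two]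
        | succ n ih =>
          rw [pow_succ, Matrix.SpecialLinearGroup.coe_mul, ih]
          ext i j; fin_cases i <;> fin_cases j <;> simp [A, Matrix.mul_apply, Fin.sum_univ_two, add_comm]
      refine ⟨QuotientGroup.mk A, orderOf_eq_prime ?_ ?_⟩
      · rw [CfsgLib.Spectrum.psl_pow_eq_one_iff h2]
        left
        apply Subtype.ext
        rw [hpow, CharP.cast_eq_zero]
        simp [Matrix.one_fin_two]
      · intro h
        have h' : A ^ 1 = 1 ∨ A ^ 1 = -1 := (CfsgLib.Spectrum.psl_pow_eq_one_iff h2 A 1).1 (by rw [pow_one]; exact h)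
        rw [pow_one] at h'
        rcases h' with e | e <;> have := congrFun (congrFun (congrArg Subtype.val e) 0) 1 <;>
          simp [A] at this
    · obtain ⟨u, hu, m, hm, hum, hneg⟩ := CfsgLib.Spectrum.exists_torus_gen h2 (one_ne_zero (α := F))
      have hc := CfsgLib.Spectrum.torus_card_split h2
      rw [← orderOf_eq_card_of_forall_mem_zpowers hu, hum] at hc
      refine down ((Fintype.card F - 1) / 2) (by omega) ⟨QuotientGroup.mk (u : Matrix.SpecialLinearGroup (Fin 2) F), ?_⟩ hd
      rw [show (Fintype.card F - 1) / 2 = m by omega]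
      exact CfsgLib.Spectrum.orderOf_psl_torus h2 u hm hum hneg
    · obtain ⟨ε, hε⟩ := CfsgLib.Spectrum.exists_nonsquare' h2
      obtain ⟨u, hu, m, hm, hum, hneg⟩ := CfsgLib.Spectrum.exists_torus_gen h2 (fun e => hε (e ▸ IsSquare.zero) : ε ≠ 0)
      have hc := CfsgLib.Spectrum.torus_card_nonsplit h2 hε
      rw [← orderOf_eq_card_of_forall_mem_zpowers hu, hum] at hc
      refine down ((Fintype.card F + 1) / 2) (by omega) ⟨QuotientGroup.mk (u : Matrix.SpecialLinearGroup (Fin 2) F), ?_⟩ hd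
      rw [show (Fintype.card F + 1) / 2 = m by omega]
      exact CfsgLib.Spectrum.orderOf_psl_torus h2 u hm hum hneg

theorem even_case {F : Type*} [Field F] [Fintype F] [CharP F 2] :
    Set.range (orderOf : Matrix.ProjectiveSpecialLinearGroup (Fin 2) F → ℕ) =
      {m : ℕ | m ∣ 2 ∨ m ∣ Fintype.card F - 1 ∨ m ∣ Fintype.card F + 1} := by
  haveI : Fact (Nat.Prime 2) := ⟨Nat.prime_two⟩
  have hinj : Function.Injective (QuotientGroup.mk' (Subgroup.center (Matrix.SpecialLinearGroup (Fin 2) F))) := by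
    rw [← MonoidHom.ker_eq_bot_iff, QuotientGroup.ker_mk']
    exact CfsgLib.Spectrum.sl2_center_eq_bot
  have hord : ∀ A : Matrix.SpecialLinearGroup (Fin 2) F,
      orderOf (QuotientGroup.mk A : Matrix.ProjectiveSpecialLinearGroup (Fin 2) F) = orderOf A := fun A =>
    orderOf_injective (QuotientGroup.mk' (Subgroup.center (Matrix.SpecialLinearGroup (Fin 2) F))) hinj A
  have hq : 2 ≤ Fintype.card F := Fintype.one_lt_card
  ext d
  constructor
  · rintro ⟨g, rfl⟩
    obtain ⟨A, rfl⟩ := QuotientGroup.mk_surjective g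
    rw [hord]
    show orderOf A ∣ 2 ∨ _ ∨ _
    by_cases h2 : 2 ∣ orderOf A
    · obtain ⟨r, hr⟩ := h2
      left
      have h1 : A ^ (2 * r) = 1 := hr ▸ pow_orderOf_eq_one A
      rcases CfsgLib.Spectrum.sl2_charTwo_pow_two_mul A r h1 with e | e
      · have h3 := orderOf_dvd_of_pow_eq_one e
        have h4 : 0 < orderOf A := orderOf_pos A
        have := Nat.le_of_dvd (by omega) h3
        omega
      · exact orderOf_dvd_of_pow_eq_one e
    · right
      exact CfsgLib.Classical.sl_two_semisimple_order_dvd rfl 2 A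
        (Nat.Coprime.symm ((Nat.Prime.coprime_iff_not_dvd Nat.prime_two).2 h2))
  · intro hd
    have down : ∀ n : ℕ, 0 < n → (∃ A : Matrix.SpecialLinearGroup (Fin 2) F, orderOf A = n) → d ∣ n →
        d ∈ Set.range (orderOf : Matrix.ProjectiveSpecialLinearGroup (Fin 2) F → ℕ) := by
      intro n hn ⟨A, hA⟩ hdn
      exact ⟨QuotientGroup.mk (A ^ (n / d)), by rw [hord, ← hA, orderOf_pow_orderOf_div (by omega) (hA ▸ hdn)]⟩
    rcases hd with hd | hd | hd
    · exact down 2 two_pos ⟨_, CfsgLib.Spectrum.sl2_orderOf_shear⟩ hd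
    · obtain ⟨u, hu⟩ := IsCyclic.exists_generator (α := Fˣ)
      refine down _ (by omega) ⟨diagHom F u, ?_⟩ hd
      rw [orderOf_injective (diagHom F) diagHom_injective, orderOf_eq_card_of_forall_mem_zpowers hu, Nat.card_units,
        Nat.card_eq_fintype_card]
    · obtain ⟨μ, hμ⟩ := CfsgLib.SL2Table.exists_aniso (F := F)
      haveI := CfsgLib.SL2Table.isCyclic_evTorus hμ
      obtain ⟨u, hu⟩ := IsCyclic.exists_generator (α := CfsgLib.SL2Table.evTorus μ)
      refine down _ (by omega) ⟨(u : Matrix.SpecialLinearGroup (Fin 2) F), ?_⟩ hd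
      rw [Subgroup.orderOf_coe, orderOf_eq_card_of_forall_mem_zpowers hu, CfsgLib.SL2Table.card_evTorus hμ]

/-- The set of element orders of PSL(2,q): let F be a finite field of characteristic p with q ≥ 4 elements and d = gcd(2, q − 1). The orders of elements of PSL(2,F) are exactly the divisors of p, of (q − 1)/d and of (q + 1)/d. -/
theorem result {F : Type*} [Field F] [Fintype F] (p : ℕ) [Fact p.Prime] [CharP F p] (h4 : 4 ≤ Fintype.card F) :
    Set.range (orderOf : Matrix.ProjectiveSpecialLinearGroup (Fin 2) F → ℕ) =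
      {m : ℕ | m ∣ p ∨ m ∣ (Fintype.card F - 1) / Nat.gcd 2 (Fintype.card F - 1) ∨ m ∣ (Fintype.card F + 1) / Nat.gcd 2 (Fintype.card F - 1)} := by
  obtain ⟨k, -, hq⟩ := FiniteField.card F p
  rcases (Fact.out : p.Prime).eq_two_or_odd with rfl | hodd
  · have he : Fintype.card F % 2 = 0 := by
      rw [hq, Nat.pow_mod]; simp
    have hg : Nat.gcd 2 (Fintype.card F - 1) = 1 := by
      rw [← Nat.coprime_iff_gcd_eq_one, Nat.Prime.coprime_iff_not_dvd Nat.prime_two]
      omega
    rw [hg, Nat.div_one, Nat.div_one]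
    exact even_case
  · have ho : Fintype.card F % 2 = 1 := by
      rw [hq, Nat.pow_mod, hodd]; simp
    have hg : Nat.gcd 2 (Fintype.card F - 1) = 2 := Nat.gcd_eq_left (by omega)
    rw [hg]
    exact odd_case p h4 fun e => by
      have h2 : p = 2 := (Nat.prime_dvd_prime_iff_eq Fact.out Nat.prime_two).1
        ((CharP.cast_eq_zero_iff F p 2).1 (by exact_mod_cast e))
      omega

end Cfsg.Agent.S2475
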