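import Cfsg.Statements.S0646
import Mathlib

set_option autoImplicit false
open Cfsg
open scoped commutatorElement

namespace Cfsg.Agent.S0646

theorem two_pow_dvd_or {m : ℕ} {r : ℤ} (h : (2 : ℤ) ^ (m + 2) ∣ r ^ 2 - 1) :
    (2 : ℤ) ^ (m + 1) ∣ r - 1 ∨ (2 : ℤ) ^ (m + 1) ∣ r + 1 := by
  obtain ⟨u, hu⟩ : ∃ u, r = 2 * u + 1 := by
    rcases Int.even_or_odd r with ⟨v, hv⟩ | ⟨v, hv⟩
    · exfalso
      have h2 : (2 : ℤ) ∣ r ^ 2 - 1 := (dvd_pow_self 2 (by omega)).trans h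
      obtain ⟨w, hw⟩ := h2
      have : (2 : ℤ) * (w - 2 * v ^ 2) = -1 := by subst hv; nlinarith
      omega
    · exact ⟨v, hv⟩
  subst hu
  have h1 : (2 : ℤ) ^ m ∣ u * (u + 1) := by
    have : (2 : ℤ) ^ m * 4 ∣ (u * (u + 1)) * 4 := by
      have e1 : (2 * u + 1) ^ 2 - 1 = (u * (u + 1)) * 4 := by ring
      have e2 : (2 : ℤ) ^ (m + 2) = 2 ^ m * 4 := by ring
      rwa [e1, e2] at h
    exact Int.dvd_of_mul_dvd_mul_right (by norm_num) this
  rcases Int.even_or_odd u with ⟨w, hw⟩ | ⟨w, hw⟩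
  · left
    have hco : IsCoprime ((2 : ℤ) ^ m) (u + 1) :=
      IsCoprime.pow_left ⟨-w, 1, by subst hw; ring⟩
    have := hco.dvd_of_dvd_mul_right h1
    rw [pow_succ, show 2 * u + 1 - 1 = u * 2 by ring]
    exact mul_dvd_mul_right this 2
  · right
    have hco : IsCoprime ((2 : ℤ) ^ m) u :=
      IsCoprime.pow_left ⟨-w, 1, by subst hw; ring⟩
    have := hco.dvd_of_dvd_mul_left h1
    rw [pow_succ, show 2 * u + 1 + 1 = (u + 1) * 2 by ring]
    exact mul_dvd_mul_right this 2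

theorem zpow_eq_of_dvd {G : Type*} [Group G] {a : G} {N : ℕ} (ho : orderOf a = N) {i j : ℤ}
    (h : (N : ℤ) ∣ i - j) : a ^ i = a ^ j := by
  rw [← mul_inv_eq_one, ← zpow_neg, ← zpow_add, ← sub_eq_add_neg, ← orderOf_dvd_iff_zpow_eq_one, ho]
  exact h

theorem dvd_of_zpow_eq {G : Type*} [Group G] {a : G} {N : ℕ} (ho : orderOf a = N) {i j : ℤ}
    (h : a ^ i = a ^ j) : (N : ℤ) ∣ i - j := by
  rw [← ho, orderOf_dvd_iff_zpow_eq_one, zpow_sub, h, mul_inv_cancel]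

/-- Classification of non-abelian 2-groups with a cyclic maximal subgroup: dihedral, generalized quaternion, and for order at least 16 the modular group and the semidihedral group, each given by generators a (of index 2) and b with the stated relations. -/
theorem result {G : Type*} [Group G] [Finite G] (n : ℕ) (hn : 3 ≤ n) (hG : Nat.card G = 2 ^ n) (C : Subgroup G) (hC : IsCyclic C) (hCi : C.index = 2) (hna : ∃ x y : G, x * y ≠ y * x) : ∃ a b : G, orderOf a = 2 ^ (n - 1) ∧ b ∉ Subgroup.zpowers a ∧ ((b ^ 2 = 1 ∧ b * a * b⁻¹ = a⁻¹) ∨ (b ^ 2 = a ^ (2 ^ (n - 2)) ∧ b * a * b⁻¹ = a⁻¹) ∨ (4 ≤ n ∧ b ^ 2 = 1 ∧ b * a * b⁻¹ = a ^ (1 + 2 ^ (n - 2))) ∨ (4 ≤ n ∧ b ^ 2 = 1 ∧ b * a * b⁻¹ = a ^ (2 ^ (n - 2) - 1))) := by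
  obtain ⟨m, rfl⟩ : ∃ m, n = m + 3 := ⟨n - 3, by omega⟩
  simp only [show m + 3 - 1 = m + 2 by omega, show m + 3 - 2 = m + 1 by omega]
  obtain ⟨a, rfl⟩ : ∃ a : G, Subgroup.zpowers a = C := (Subgroup.isCyclic_iff_exists_zpowers_eq_top C).1 hC
  have hoa : orderOf a = 2 ^ (m + 2) := by
    have h1 := (Subgroup.zpowers a).card_mul_index
    rw [hCi, hG, Nat.card_zpowers, pow_succ] at h1
    omega
  have hn' : (Subgroup.zpowers a).Normal := Subgroup.normal_of_index_eq_two hCi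
  obtain ⟨b, hb⟩ : ∃ b, b ∉ Subgroup.zpowers a := by
    by_contra hcon
    push Not at hcon
    rw [(Subgroup.eq_top_iff' _).2 hcon, Subgroup.index_top] at hCi
    omega
  have hN : ((2 ^ (m + 2) : ℕ) : ℤ) = (2 : ℤ) ^ (m + 2) := by push_cast; rfl
  have heq : ∀ {i j : ℤ}, (2 : ℤ) ^ (m + 2) ∣ i - j → a ^ i = a ^ j := fun h => zpow_eq_of_dvd hoa (by rwa [hN])
  have hdv : ∀ {i j : ℤ}, a ^ i = a ^ j → (2 : ℤ) ^ (m + 2) ∣ i - j := fun h => hN ▸ dvd_of_zpow_eq hoa h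
  obtain ⟨r, hr⟩ := hn'.conj_mem _ (Subgroup.mem_zpowers a) b
  obtain ⟨t, ht⟩ : b ^ 2 ∈ Subgroup.zpowers a := hCi ▸ (Subgroup.zpowers a).pow_index_mem b
  simp only at hr ht
  have hconj : ∀ i : ℤ, b * a ^ i * b⁻¹ = a ^ (r * i) := fun i => by rw [← conj_zpow, ← hr, ← zpow_mul]
  have hr2 : (2 : ℤ) ^ (m + 2) ∣ r ^ 2 - 1 := by
    apply hdv
    calc a ^ (r ^ 2) = b * (b * a * b⁻¹) * b⁻¹ := by rw [← hr, hconj, sq]
      _ = b ^ 2 * a * (b ^ 2)⁻¹ := by rw [sq]; group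
      _ = a ^ (1 : ℤ) := by rw [← ht]; group
  have hrt : (2 : ℤ) ^ (m + 2) ∣ r * t - t := by
    apply hdv
    rw [← hconj, ht]
    group
  have hr1 : ¬ (2 : ℤ) ^ (m + 2) ∣ r - 1 := by
    intro h
    have hab : b * a = a * b := by
      rw [← mul_inv_eq_iff_eq_mul, ← hr, heq h, zpow_one]
    obtain ⟨x, y, hxy⟩ := hna
    refine hxy ?_
    have hdec : ∀ x : G, ∃ (i : ℤ) (e : ℕ), x = a ^ i * b ^ e := by
      intro x
      by_cases hx : x ∈ Subgroup.zpowers a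
      · obtain ⟨i, hi⟩ := hx
        exact ⟨i, 0, by simpa using hi.symm⟩
      · have hb' : b⁻¹ ∉ Subgroup.zpowers a := fun h => hb (by simpa using inv_mem h)
        have : x * b⁻¹ ∈ Subgroup.zpowers a :=
          (Subgroup.mul_mem_iff_of_index_two hCi).2 (iff_of_false hx hb')
        obtain ⟨i, hi⟩ := this
        exact ⟨i, 1, by simp only at hi; rw [hi, pow_one, inv_mul_cancel_right]⟩
    obtain ⟨i, e, rfl⟩ := hdec x
    obtain ⟨i', e', rfl⟩ := hdec y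
    have hc : Commute b a := hab
    have c1 : Commute (b ^ e) (a ^ i') := (hc.pow_left e).zpow_right i'
    have c2 : Commute (b ^ e') (a ^ i) := (hc.pow_left e').zpow_right i
    exact (((Commute.refl a).zpow_zpow i i').mul_right c2.symm).mul_left
      (c1.mul_right ((Commute.refl b).pow_pow e e')) |>.eq
  have hmul : ∀ x : ℤ, b * a ^ x ∉ Subgroup.zpowers a := fun x h =>
    hb ((Subgroup.mul_mem_cancel_right _ (zpow_mem (Subgroup.mem_zpowers a) x)).1 h)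
  have hsq : ∀ x : ℤ, (b * a ^ x) ^ 2 = a ^ (r * x + t + x) := fun x => by
    rw [sq, zpow_add, zpow_add, ← hconj, ht]
    group
  have hcj : ∀ x : ℤ, (b * a ^ x) * a * (b * a ^ x)⁻¹ = b * a * b⁻¹ := fun x => by group
  rcases two_pow_dvd_or hr2 with ⟨k, hk⟩ | ⟨k, hk⟩
  · -- the modular group
    have hk2 : ¬ (2 : ℤ) ∣ k := fun ⟨l, hl⟩ => hr1 ⟨l, by rw [hk, hl]; ring⟩
    obtain ⟨l, hl⟩ : Odd k := Int.not_even_iff_odd.1 fun h => hk2 (even_iff_two_dvd.1 h)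
    rcases Nat.eq_zero_or_pos m with rfl | hm
    · -- order eight: inversion
      have hinv : b * a * b⁻¹ = a⁻¹ := by
        rw [← hr, ← zpow_neg_one]
        exact heq ⟨l + 1, by norm_num at hk ⊢; omega⟩
      have h2t : (2 : ℤ) ^ (0 + 2) ∣ r * t - t := hrt
      obtain ⟨q, hq⟩ := h2t
      have : (2 : ℤ) ∣ t := by
        have : r * t - t = (r - 1) * t := by ring
        rw [this, hk, hl] at hq
        norm_num at hq
        exact ⟨q - l * t, by linarith⟩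
      obtain ⟨s, hs⟩ := this
      refine ⟨a, b, hoa, hb, ?_⟩
      rcases Int.even_or_odd s with ⟨w, hw⟩ | ⟨w, hw⟩
      · left
        refine ⟨?_, hinv⟩
        rw [← ht, ← zpow_zero a]
        exact heq ⟨w, by norm_num; omega⟩
      · right; left
        refine ⟨?_, hinv⟩
        rw [← ht, ← zpow_natCast]
        exact heq ⟨w, by norm_num; omega⟩
    · obtain ⟨j, rfl⟩ : ∃ j, m = j + 1 := ⟨m - 1, by omega⟩
      have hte : (2 : ℤ) ∣ t := by
        obtain ⟨q, hq⟩ := hrt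
        have h0 : r * t - t = (r - 1) * t := by ring
        rw [h0, hk, hl, pow_succ (2 : ℤ) (j + 1 + 1), mul_assoc, mul_assoc] at hq
        have h2 := mul_left_cancel₀ (pow_ne_zero _ two_ne_zero) hq
        exact ⟨q - l * t, by linarith⟩
      obtain ⟨s, hs⟩ := hte
      obtain ⟨u, v, huv⟩ : IsCoprime ((2 * l + 1) * (2 : ℤ) ^ (j + 1) + 1) ((2 : ℤ) ^ (j + 2)) :=
        IsCoprime.pow_right ⟨1, -((2 * l + 1) * 2 ^ j), by ring⟩
      refine ⟨a, b * a ^ (-(s * u)), hoa, hmul _, Or.inr (Or.inr (Or.inl ⟨by omega, ?_, ?_⟩))⟩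
      · rw [hsq, ← zpow_zero a]
        apply heq
        refine ⟨s * v, ?_⟩
        rw [show r = 2 ^ (j + 1 + 1) * (2 * l + 1) + 1 by rw [hl] at hk; linarith, hs]
        linear_combination (-2 * s) * huv
      · rw [hcj, ← hr, ← zpow_natCast]
        exact heq ⟨l, by push_cast; rw [show r = 2 ^ (j + 1 + 1) * (2 * l + 1) + 1 by rw [hl] at hk; linarith]; ring⟩
  · -- dihedral, quaternion, semidihedral
    rcases Int.even_or_odd k with ⟨l, hl⟩ | ⟨l, hl⟩
    · have hinv : b * a * b⁻¹ = a⁻¹ := by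
        rw [← hr, ← zpow_neg_one]
        exact heq ⟨l, by rw [show r - -1 = r + 1 by ring, hk, hl]; ring⟩
      obtain ⟨q, hq⟩ := hrt
      obtain ⟨s, hs⟩ : (2 : ℤ) ^ (m + 1) ∣ t := by
        refine ⟨l * t - q, ?_⟩
        have h0 : r * t - t = (r + 1) * t - 2 * t := by ring
        rw [h0, hk, hl] at hq
        have h2 : (2 : ℤ) ^ (m + 2) = 2 ^ (m + 1) * 2 := pow_succ 2 (m + 1)
        rw [h2] at hq
        linarith
      refine ⟨a, b, hoa, hb, ?_⟩
      rcases Int.even_or_odd s with ⟨w, hw⟩ | ⟨w, hw⟩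
      · left
        refine ⟨?_, hinv⟩
        rw [← ht, ← zpow_zero a]
        exact heq ⟨w, by rw [hs, hw]; ring⟩
      · right; left
        refine ⟨?_, hinv⟩
        rw [← ht, ← zpow_natCast]
        exact heq ⟨w, by rw [hs, hw]; push_cast; ring⟩
    · rcases Nat.eq_zero_or_pos m with rfl | hm
      · exfalso
        exact hr1 ⟨l, by norm_num at hk ⊢; omega⟩
      obtain ⟨j, rfl⟩ : ∃ j, m = j + 1 := ⟨m - 1, by omega⟩
      obtain ⟨q, hq⟩ := hrt
      obtain ⟨s, hs⟩ : (2 : ℤ) ^ (j + 2) ∣ t := by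
        have hco : IsCoprime ((2 : ℤ) ^ (j + 2)) ((2 * l + 1) * 2 ^ (j + 1) - 1) :=
          IsCoprime.pow_left ⟨(2 * l + 1) * 2 ^ j, -1, by ring⟩
        refine hco.dvd_of_dvd_mul_left ⟨q, ?_⟩
        have h0 : r * t - t = (r + 1) * t - 2 * t := by ring
        rw [h0, hk, hl] at hq
        have h2 : (2 : ℤ) ^ (j + 1 + 1 + 0) = 2 ^ (j + 1) * 2 := pow_succ 2 (j + 1)
        have h3 : (2 : ℤ) ^ (j + 1 + 2) = 2 ^ (j + 1) * 4 := by ring
        have h4 : (2 : ℤ) ^ (j + 2) = 2 ^ (j + 1) * 2 := pow_succ 2 (j + 1)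
        simp only [add_zero] at h2
        rw [h2, h3] at hq
        rw [h4]
        linarith
      rcases Int.even_or_odd s with ⟨w, hw⟩ | ⟨w, hw⟩
      · refine ⟨a, b, hoa, hb, Or.inr (Or.inr (Or.inr ⟨by omega, ?_, ?_⟩))⟩
        · rw [← ht, ← zpow_zero a]
          exact heq ⟨w, by rw [hs, hw]; ring⟩
        · rw [← hr, ← zpow_natCast]
          refine heq ⟨l, ?_⟩
          rw [Nat.cast_sub (Nat.one_le_two_pow), show r = 2 ^ (j + 1 + 1) * (2 * l + 1) - 1 by rw [hl] at hk; linarith]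
          push_cast
          ring
      · refine ⟨a, b * a ^ (1 : ℤ), hoa, hmul _, Or.inr (Or.inr (Or.inr ⟨by omega, ?_, ?_⟩))⟩
        · rw [hsq, ← zpow_zero a]
          refine heq ⟨l + w + 1, ?_⟩
          rw [show r = 2 ^ (j + 1 + 1) * (2 * l + 1) - 1 by rw [hl] at hk; linarith, hs, hw]
          ring
        · rw [hcj, ← hr, ← zpow_natCast]
          refine heq ⟨l, ?_⟩
          rw [Nat.cast_sub (Nat.one_le_two_pow), show r = 2 ^ (j + 1 + 1) * (2 * l + 1) - 1 by rw [hl] at hk; linarith]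
          push_cast
          ring

end Cfsg.Agent.S0646
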