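import Cfsg.Statements.S1147
import Cfsg.Agent.Lib.ZassenhausSimple.Suzuki.Square
import Cfsg.Agent.Lib.ZassenhausSimple.Suzuki.Cube

set_option autoImplicit false
open Cfsg

namespace Cfsg.Agent.S1147

/-- Let a finite simple Zassenhaus group `G` on `Ω` have a normal subgroup `U` of `G_a`, regular on `Ω` minus `a`, which is a non-abelian 2-group. Then `|Ω| = 2^(2n) + 1` with `n` odd, `n > 1`, a two-point stabiliser `G_a ⊓ G_b` is cyclic of order `2^n - 1`, and `U` is isomorphic to the type-A group over a field with `2^n` elements for some field automorphism `φ`. -/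
theorem result {G Ω : Type*} [Group G] [Finite G] [MulAction G Ω] [Finite Ω]
    (hZ : Cfsg.IsZassenhausGroup G Ω) [IsSimpleGroup G] {a b : Ω} (hab : a ≠ b)
    (U : Subgroup G) (hUle : U ≤ MulAction.stabilizer G a)
    (hUn : ∀ h ∈ MulAction.stabilizer G a, ∀ u ∈ U, h * u * h⁻¹ ∈ U)
    (hreg : ∀ c d : Ω, c ≠ a → d ≠ a → ∃! u : U, (u : G) • c = d)
    (hU2 : IsPGroup 2 U) (hUna : ∃ u ∈ U, ∃ v ∈ U, u * v ≠ v * u) :
    ∃ n : ℕ, Odd n ∧ 1 < n ∧ Nat.card Ω = 2 ^ (2 * n) + 1 ∧
      IsCyclic ↥(MulAction.stabilizer G a ⊓ MulAction.stabilizer G b) ∧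
      Nat.card ↥(MulAction.stabilizer G a ⊓ MulAction.stabilizer G b) = 2 ^ n - 1 ∧
      ∃ (F : Type) (_ : Field F) (_ : Fintype F) (φ : F ≃+* F), Fintype.card F = 2 ^ n ∧
        Nonempty (U ≃* Cfsg.suzukiTypeA F (φ : F →+* F)) := by
  classical
  haveI := Fintype.ofFinite G
  haveI := Fintype.ofFinite Ω
  have hUfix : ∀ u ∈ U, u ≠ 1 → ∀ c : Ω, u • c = c → c = a := by
    intro u hu hu1 c hc
    by_contra hca
    exact hu1 (congrArg Subtype.val ((hreg c c hca hca).unique (y₁ := ⟨u, hu⟩) (y₂ := 1) hc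
      (one_smul G c)))
  have hUcard : Nat.card U + 1 = Fintype.card Ω := by
    have hf : ∀ u : U, (u : G) • b ≠ a := fun u e => hab.symm (smul_left_cancel (u : G)
      (e.trans (MulAction.mem_stabilizer_iff.mp (hUle u.2)).symm))
    have hbij : Function.Bijective
        (fun u : U => (⟨(u : G) • b, hf u⟩ : {c : Ω // c ≠ a})) :=
      ⟨fun u v e => (hreg b ((u : G) • b) hab.symm (hf u)).unique rfl
          (congrArg Subtype.val e).symm,
        fun c => (hreg b c hab.symm c.2).exists.imp fun u hu => Subtype.ext hu⟩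
    rw [Nat.card_congr (Equiv.ofBijective _ hbij), Nat.card_eq_fintype_card,
      Fintype.card_subtype_compl, Fintype.card_subtype_eq]
    have : 0 < Fintype.card Ω := Fintype.card_pos_iff.mpr ⟨a⟩
    omega
  have D : CfsgLib.ZassenhausSimple.Suz.ZData a b U :=
    ⟨hZ, inferInstance, hab, hUle, hUcard, hUfix, hU2, hUna⟩
  obtain ⟨n, hn, hd, hh⟩ := D.orders
  have hh2 := hh.resolve_right fun h => D.not_cube hn hd h
  have hc : Nat.card (Subgroup.center U) = 2 ^ n := by
    rw [← CfsgLib.ZassenhausSimple.Suz.card_zc, D.card_center, hd]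
  obtain ⟨F, hF, hFt, φ, hcard, -, -, hiso⟩ :=
    Cfsg.Agent.S1139.result D.suzuki_two_group (by rw [hc, hh2])
  refine ⟨n, D.odd_exponent hn hd hh2, by omega, ?_, (Cfsg.Agent.S0345.result hZ hab).1, ?_,
    F, hF, hFt, φ, hcard.trans hc, hiso⟩
  · rw [Nat.card_eq_fintype_card, ← hUcard, hh2, ← pow_mul, mul_comm]
  · exact Nat.eq_sub_of_add_eq hd

end Cfsg.Agent.S1147
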