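import Cfsg.Statements.S0347
import Cfsg.Agent.S1147
import Cfsg.Agent.Lib.Char.Zassenhaus

set_option autoImplicit false
open Cfsg

namespace Cfsg.Agent.S0347

/-- If in a finite simple Zassenhaus group the stabiliser of a point `x` has a normal `2`-subgroup `U` which is
non-abelian and acts regularly on the points other than `x`, then the group is simple of Suzuki order (order-level
predicate `IsSuzuki`). -/
theorem result {G Ω : Type*} [Group G] [Finite G] [MulAction G Ω] [Finite Ω]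
    (hZ : Cfsg.IsZassenhausGroup G Ω) [IsSimpleGroup G]
    (x : Ω) (U : Subgroup G) (hUle : U ≤ MulAction.stabilizer G x) (hUn : (U.subgroupOf (MulAction.stabilizer G x)).Normal)
    (hU2 : IsPGroup 2 U) (hUna : ∃ u v : U, u * v ≠ v * u)
    (hreg : ∀ y z : Ω, y ≠ x → z ≠ x → ∃! u : U, (u : G) • y = z) :
    Cfsg.IsSuzuki G := by
  classical
  haveI := Fintype.ofFinite Ω
  obtain ⟨y, hy⟩ : ∃ y : Ω, y ≠ x := by
    obtain ⟨-, -, -, ⟨g, -, p, p', hpp, -⟩, -⟩ := id hZ
    by_cases hp : p = x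
    · exact ⟨p', fun e => hpp (hp.trans e.symm)⟩
    · exact ⟨p, hp⟩
  obtain ⟨n, hn, hn1, hΩ, -, hd, -⟩ := Cfsg.Agent.S1147.result hZ hy.symm U hUle
    (fun h hh u hu => Subgroup.mem_subgroupOf.mp
      (hUn.conj_mem ⟨u, hUle hu⟩ (Subgroup.mem_subgroupOf.mpr hu) ⟨h, hh⟩))
    hreg hU2 (by
      obtain ⟨u, v, huv⟩ := hUna
      exact ⟨u, u.2, v, v.2, fun e => huv (Subtype.ext e)⟩)
  obtain ⟨m, rfl⟩ := hn
  refine ⟨inferInstance, m, by omega, ?_⟩
  rw [← CfsgLib.Char.Zassenhaus.card_group hZ hy.symm, hd, ← Nat.card_eq_fintype_card, hΩ,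
    Nat.add_sub_cancel, ← pow_mul, mul_comm (2 * m + 1) 2]
  ring

end Cfsg.Agent.S0347
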