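import Cfsg.Statements.S0711
import Cfsg.Agent.Lib.SmallGroups.Perm
import Mathlib

set_option autoImplicit false
open Cfsg

namespace Cfsg.Agent.S0711

/-- Grow a set of points that is left by at most one of its `g`-images. -/
theorem exists_window {α : Type*} [DecidableEq α] (g : Equiv.Perm α) (S : Finset α)
    (hS : ∀ y ∈ S, g y ∈ S) (j : ℕ) (hj : j ≤ S.card) :
    ∃ A ⊆ S, A.card = j ∧ ((∀ y ∈ A, g y ∈ A) ∨ ∃ a ∈ A, g a ∉ A ∧ ∀ y ∈ A, y ≠ a → g y ∈ A) := by
  induction j with
  | zero => exact ⟨∅, by simp, by simp, Or.inl (by simp)⟩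
  | succ j ih =>
    obtain ⟨A, hAS, hAc, hA⟩ := ih (by omega)
    obtain ⟨c, hcS, hcA, hc⟩ : ∃ c ∈ S, c ∉ A ∧ ∀ y ∈ A, g y ∈ insert c A := by
      rcases hA with hA | ⟨a, ha, hga, hrest⟩
      · obtain ⟨c, hc⟩ : ∃ c, c ∈ S \ A := Finset.card_pos.mp (by
          rw [Finset.card_sdiff_of_subset hAS]; omega)
        rw [Finset.mem_sdiff] at hc
        exact ⟨c, hc.1, hc.2, fun y hy => Finset.mem_insert_of_mem (hA y hy)⟩
      · refine ⟨g a, hS a (hAS ha), hga, fun y hy => ?_⟩
        by_cases hya : y = a
        · subst hya; exact Finset.mem_insert_self _ _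
        · exact Finset.mem_insert_of_mem (hrest y hy hya)
    refine ⟨insert c A, Finset.insert_subset hcS hAS, by rw [Finset.card_insert_of_notMem hcA, hAc], ?_⟩
    by_cases hgc : g c ∈ insert c A
    · left
      intro y hy
      rcases Finset.mem_insert.mp hy with rfl | hy
      · exact hgc
      · exact hc y hy
    · right
      refine ⟨c, Finset.mem_insert_self _ _, hgc, fun y hy hyc => hc y ?_⟩
      exact (Finset.mem_insert.mp hy).resolve_left hyc

/-- Points moved by `g⁻¹ (x g x⁻¹)` when `x` fixes `A` pointwise and maps `c` to `d`. -/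
theorem support_bound {α : Type*} [Fintype α] [DecidableEq α] (g x : Equiv.Perm α) (A : Finset α)
    (hx : ∀ y ∈ A, x y = y) :
    (g⁻¹ * (x * g * x⁻¹)).support ⊆
      (g.support ∪ g.support.image x) \ (A.filter fun y => g y ∈ A) := by
  intro y hy
  rw [Equiv.Perm.mem_support] at hy
  have hval : (g⁻¹ * (x * g * x⁻¹)) y = g⁻¹ (x (g (x⁻¹ y))) := rfl
  rw [Finset.mem_sdiff]
  refine ⟨?_, fun hyA => ?_⟩
  · by_contra hn
    simp only [Finset.mem_union, not_or, Finset.mem_image, not_exists, not_and] at hn
    apply hy
    have h1 : g (x⁻¹ y) = x⁻¹ y := by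
      by_contra h
      exact hn.2 _ (Equiv.Perm.mem_support.mpr h) (x.apply_symm_apply y)
    rw [hval, h1, show x (x⁻¹ y) = y from x.apply_symm_apply y, Equiv.Perm.inv_eq_iff_eq]
    exact (Equiv.Perm.notMem_support.mp hn.1).symm
  · rw [Finset.mem_filter] at hyA
    apply hy
    rw [hval, show x⁻¹ y = y from by rw [Equiv.Perm.inv_eq_iff_eq, hx y hyA.1], hx _ hyA.2]
    exact g.symm_apply_apply y

/-- A `k`-transitive permutation group (`k ≥ 3`) with a non-identity element of support smaller than `2k - 2` contains a non-identity element of support at most 3, and therefore contains the alternating group. -/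
theorem result {α : Type*} [Fintype α] [DecidableEq α] (G : Subgroup (Equiv.Perm α)) {k : ℕ} (hk : 3 ≤ k) (hkn : k ≤ Fintype.card α) (hG : MulAction.IsMultiplyPretransitive G α k) (g : Equiv.Perm α) (hg : g ∈ G) (hg1 : g ≠ 1) (hsupp : g.support.card < 2 * k - 2) : (∃ h : Equiv.Perm α, h ∈ G ∧ h ≠ 1 ∧ h.support.card ≤ 3) ∧ alternatingGroup α ≤ G := by
  classical
  have hprim := CfsgLib.SmallGroups.isPreprimitive_of_isMultiplyPretransitive hG (by omega) hkn
  suffices hmain : ∃ h : Equiv.Perm α, h ∈ G ∧ h ≠ 1 ∧ h.support.card ≤ 3 by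
    refine ⟨hmain, ?_⟩
    obtain ⟨h, hh, hh1, hh3⟩ := hmain
    exact CfsgLib.SmallGroups.alternatingGroup_le_of_small_support hprim hh hh1 hh3
  induction hm : g.support.card using Nat.strong_induction_on generalizing g with
  | _ m ih =>
  subst hm
  by_cases h3 : g.support.card ≤ 3
  · exact ⟨g, hg, hg1, h3⟩
  rcases hkn.eq_or_lt with hkeq | hklt
  · -- G is the whole symmetric group
    have htop : G = ⊤ := by
      apply Equiv.Perm.eq_top_of_isMultiplyPretransitive
      haveI := hG
      exact MulAction.isMultiplyPretransitive_of_le (n := k) (by rw [Nat.card_eq_fintype_card]; omega)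
        (by rw [Nat.card_eq_fintype_card]; omega)
    obtain ⟨a, b, hab⟩ := Fintype.exists_pair_of_one_lt_card (α := α) (by omega)
    refine ⟨Equiv.swap a b, by rw [htop]; trivial, by simp [Equiv.swap_eq_one_iff, hab], ?_⟩
    rw [Equiv.Perm.card_support_swap hab]; omega
  set S := g.support with hS
  have hSinv : ∀ y ∈ S, g y ∈ S := fun y hy => Equiv.Perm.apply_mem_support.mpr hy
  -- the main step
  suffices key : ∃ x ∈ G, ∃ A : Finset α, (∀ y ∈ A, x y = y) ∧ x * g * x⁻¹ ≠ g ∧
      ((S ∪ S.image x) \ (A.filter fun y => g y ∈ A)).card < S.card by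
    obtain ⟨x, hxG, A, hxA, hxne, hlt⟩ := key
    set h := g⁻¹ * (x * g * x⁻¹) with hh
    have hh1 : h ≠ 1 := fun e => hxne (inv_mul_eq_one.mp e).symm
    have hle : h.support.card ≤ ((S ∪ S.image x) \ (A.filter fun y => g y ∈ A)).card :=
      Finset.card_le_card (support_bound g x A hxA)
    exact ih h.support.card (by omega) h (mul_mem (inv_mem hg) (mul_mem (mul_mem hxG hg) (inv_mem hxG)))
      hh1 (by omega) rfl
  -- choose a point of S outside A and its image
  have mkx : ∀ (A : Finset α) (c d : α), A.card + 1 ≤ k → c ∉ A → d ∉ A →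
      ∃ x ∈ G, (∀ y ∈ A, x y = y) ∧ x c = d := by
    intro A c d hA hc hd
    obtain ⟨x, hxG, hx⟩ := CfsgLib.SmallGroups.exists_mem_eq_on_finset hG hkn (insert c A)
      (by rw [Finset.card_insert_of_notMem hc]; omega) (Function.update id c d) (by
        intro u hu v hv huv
        simp only [Finset.coe_insert, Set.mem_insert_iff, Finset.mem_coe] at hu hv
        by_cases h1 : u = c <;> by_cases h2 : v = c
        · rw [h1, h2]
        · subst h1
          simp only [Function.update_self, Function.update_of_ne h2, id_eq] at huv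
          exact absurd (huv ▸ hv.resolve_left h2) hd
        · subst h2
          simp only [Function.update_self, Function.update_of_ne h1, id_eq] at huv
          exact absurd (huv ▸ hu.resolve_left h1) hd
        · simpa [Function.update_of_ne h1, Function.update_of_ne h2] using huv)
    refine ⟨x, hxG, fun y hy => ?_, ?_⟩
    · rw [hx y (Finset.mem_insert_of_mem hy), Function.update_of_ne (fun (e : y = c) => hc (e ▸ hy)), id]
    · rw [hx c (Finset.mem_insert_self _ _), Function.update_self]
  -- bounds on the union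
  have hun : ∀ (x : Equiv.Perm α) (T : Finset α), T ⊆ S → T ⊆ S.image x →
      (S ∪ S.image x).card + T.card ≤ 2 * S.card := by
    intro x T h1 h2
    have := Finset.card_union_add_card_inter S (S.image x)
    rw [Finset.card_image_of_injective _ x.injective] at this
    have := Finset.card_le_card (Finset.subset_inter h1 h2)
    omega
  have hdiff : ∀ (x : Equiv.Perm α) (A : Finset α), A ⊆ S → (∀ y ∈ A, x y = y) → ∀ e : ℕ,
      e ≤ (A.filter fun y => g y ∈ A).card →
      ((S ∪ S.image x) \ (A.filter fun y => g y ∈ A)).card + e ≤ (S ∪ S.image x).card := by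
    intro x A hA hxA e he
    have hsub : (A.filter fun y => g y ∈ A) ⊆ S ∪ S.image x := fun y hy =>
      Finset.mem_union_left _ (hA (Finset.mem_filter.mp hy).1)
    rw [Finset.card_sdiff_of_subset hsub]
    have := Finset.card_le_card hsub
    omega
  have hmlt : S.card < 2 * k - 2 := hsupp
  set j := min (k - 1) (S.card - 1) with hj
  obtain ⟨A, hAS, hAc, hA⟩ := exists_window g S hSinv j (by omega)
  have himg : ∀ (x : Equiv.Perm α) (B : Finset α), B ⊆ S → (∀ y ∈ B, x y = y) → B ⊆ S.image x :=
    fun x B hB hxB y hy => Finset.mem_image.mpr ⟨y, hB hy, hxB y hy⟩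
  -- a point whose image leaves A, with a target inside or outside S
  rcases hA with hA | ⟨a, ha, hga, hrest⟩
  · have hfull : A.filter (fun y => g y ∈ A) = A := Finset.filter_true_of_mem hA
    by_cases hout : ∃ d, d ∉ S
    · obtain ⟨d, hd⟩ := hout
      obtain ⟨c, hc⟩ : ∃ c, c ∈ S \ A := Finset.card_pos.mp (by
        rw [Finset.card_sdiff_of_subset hAS]; omega)
      rw [Finset.mem_sdiff] at hc
      obtain ⟨x, hxG, hxA, hxc⟩ := mkx A c d (by omega) hc.2 (fun h => hd (hAS h))
      refine ⟨x, hxG, A, hxA, fun e => hd ?_, ?_⟩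
      · have hmem : d ∈ (x * g * x⁻¹).support := by
          rw [Equiv.Perm.mem_support]
          show x (g (x⁻¹ d)) ≠ d
          rw [show x⁻¹ d = c by rw [Equiv.Perm.inv_eq_iff_eq, hxc], ← hxc]
          exact fun h => Equiv.Perm.mem_support.mp hc.1 (x.injective h)
        rwa [e] at hmem
      · have h1 := hun x A hAS (himg x A hAS hxA)
        have h2 := hdiff x A hAS hxA j (by rw [hfull]; omega)
        omega
    · push Not at hout
      have hSall : S.card = Fintype.card α := by
        rw [Finset.eq_univ_of_forall hout, Finset.card_univ]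
      -- modify A so that some image leaves it
      obtain ⟨w, hw⟩ : ∃ w, w ∈ S \ A := Finset.card_pos.mp (by
        rw [Finset.card_sdiff_of_subset hAS]; omega)
      rw [Finset.mem_sdiff] at hw
      obtain ⟨y₀, hy₀⟩ : A.Nonempty := Finset.card_pos.mp (by omega)
      obtain ⟨z, hz⟩ : ∃ z, z ∈ A \ {y₀, g y₀} := Finset.card_pos.mp (by
        have := Finset.le_card_sdiff {y₀, g y₀} A
        have := Finset.card_le_two (a := y₀) (b := g y₀)
        omega)
      simp only [Finset.mem_sdiff, Finset.mem_insert, Finset.mem_singleton, not_or] at hz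
      set B := insert w (A.erase z) with hB
      have hBS : B ⊆ S := Finset.insert_subset hw.1 ((Finset.erase_subset _ _).trans hAS)
      have hBc : B.card = j := by
        rw [hB, Finset.card_insert_of_notMem (by simp [hw.2]), Finset.card_erase_of_mem hz.1]
        omega
      set a := g⁻¹ z with hadef
      have haz : g a = z := g.apply_symm_apply z
      obtain ⟨q, hq, hgq⟩ : ∃ q ∈ B, g q ∉ B := by
        by_contra hall
        push Not at hall
        -- B invariant forces z into B
        have hb : ∀ q ∈ B, g q ∈ B := hall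
        have hsurj := Finset.surjOn_of_injOn_of_card_le (g : α → α) hb g.injective.injOn le_rfl
        have haA : a ∈ A := by
          have hs2 := Finset.surjOn_of_injOn_of_card_le (g : α → α) hA g.injective.injOn le_rfl
          obtain ⟨q, hq, hq'⟩ := hs2 hz.1
          rwa [← g.injective (hq'.trans haz.symm)]
        by_cases haz' : a = z
        · rw [haz'] at haz
          exact Equiv.Perm.mem_support.mp (hAS hz.1) haz
        · have := hb a (Finset.mem_insert_of_mem (Finset.mem_erase.mpr ⟨haz', haA⟩))
          rw [haz, hB, Finset.mem_insert, Finset.mem_erase] at this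
          rcases this with e | e
          · exact hw.2 (e ▸ hz.1)
          · exact e.1 rfl
      obtain ⟨d, hd⟩ : ∃ d, d ∈ (insert (g q) B)ᶜ := Finset.card_pos.mp (by
        rw [Finset.card_compl, Finset.card_insert_of_notMem hgq]; omega)
      simp only [Finset.mem_compl, Finset.mem_insert, not_or] at hd
      obtain ⟨x, hxG, hxB, hxc⟩ := mkx B (g q) d (by omega) hgq hd.2
      refine ⟨x, hxG, B, hxB, fun e => hd.1 ?_, ?_⟩
      · have := congrArg (fun σ : Equiv.Perm α => σ q) e
        simp only [Equiv.Perm.mul_apply] at this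
        rw [show x⁻¹ q = q by rw [Equiv.Perm.inv_eq_iff_eq, hxB q hq], hxc] at this
        exact this
      · have hne : (B.filter fun y => g y ∈ B).Nonempty := ⟨y₀, by
          rw [Finset.mem_filter, hB]
          refine ⟨Finset.mem_insert_of_mem (Finset.mem_erase.mpr ⟨Ne.symm hz.2.1, hy₀⟩),
            Finset.mem_insert_of_mem (Finset.mem_erase.mpr ⟨Ne.symm hz.2.2, hA y₀ hy₀⟩)⟩⟩
        have h1 : (S ∪ S.image x).card ≤ S.card := by rw [hSall]; exact Finset.card_le_univ _
        have h2 := hdiff x B hBS hxB 1 hne.card_pos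
        omega
  · have hfilter : A.erase a ⊆ A.filter fun y => g y ∈ A := fun y hy => by
      rw [Finset.mem_erase] at hy
      exact Finset.mem_filter.mpr ⟨hy.2, hrest y hy.2 hy.1⟩
    have hfc : j - 1 ≤ (A.filter fun y => g y ∈ A).card := by
      have := Finset.card_le_card hfilter
      rw [Finset.card_erase_of_mem ha, hAc] at this
      exact this
    set c := g a with hcdef
    have hcS : c ∈ S := hSinv a (hAS ha)
    by_cases hin : ∃ d ∈ S, d ∉ A ∧ d ≠ c
    · obtain ⟨d, hdS, hdA, hdc⟩ := hin
      obtain ⟨x, hxG, hxA, hxc⟩ := mkx A c d (by omega) hga hdA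
      refine ⟨x, hxG, A, hxA, fun e => hdc ?_, ?_⟩
      · have := congrArg (fun σ : Equiv.Perm α => σ a) e
        simp only [Equiv.Perm.mul_apply] at this
        rw [show x⁻¹ a = a by rw [Equiv.Perm.inv_eq_iff_eq, hxA a ha], ← hcdef, hxc] at this
        exact this
      · have h1 := hun x (insert d A) (Finset.insert_subset hdS hAS) (by
          refine Finset.insert_subset ?_ (himg x A hAS hxA)
          exact Finset.mem_image.mpr ⟨c, hcS, hxc⟩)
        rw [Finset.card_insert_of_notMem hdA] at h1
        have h2 := hdiff x A hAS hxA (j - 1) hfc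
        have : j + 2 ≤ S.card := by
          have := Finset.card_le_card (Finset.insert_subset hdS (Finset.insert_subset hcS hAS))
          rw [Finset.card_insert_of_notMem (by simp [hdA, hdc]), Finset.card_insert_of_notMem hga] at this
          omega
        omega
    · push Not at hin
      have hSj : S.card ≤ j + 1 := by
        have : S ⊆ insert c A := fun y hy => by
          by_cases hyA : y ∈ A
          · exact Finset.mem_insert_of_mem hyA
          · rw [hin y hy hyA]; exact Finset.mem_insert_self _ _
        have := Finset.card_le_card this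
        rw [Finset.card_insert_of_notMem hga] at this
        omega
      obtain ⟨d, hd⟩ : ∃ d, d ∈ Sᶜ := Finset.card_pos.mp (by rw [Finset.card_compl]; omega)
      rw [Finset.mem_compl] at hd
      obtain ⟨x, hxG, hxA, hxc⟩ := mkx A c d (by omega) hga (fun h => hd (hAS h))
      refine ⟨x, hxG, A, hxA, fun e => hd ?_, ?_⟩
      · have := congrArg (fun σ : Equiv.Perm α => σ a) e
        simp only [Equiv.Perm.mul_apply] at this
        rw [show x⁻¹ a = a by rw [Equiv.Perm.inv_eq_iff_eq, hxA a ha], ← hcdef, hxc] at this
        exact this ▸ hcS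
      · have h1 := hun x A hAS (himg x A hAS hxA)
        have h2 := hdiff x A hAS hxA (j - 1) hfc
        omega

end Cfsg.Agent.S0711
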