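import Cfsg.Statements.S0710
import Cfsg.Agent.Lib.SmallGroups.PrimeDegree

set_option autoImplicit false
open Cfsg

namespace Cfsg.Agent.S0710

/-- No transitive permutation group on 13 points has order `13 * 12 * 11 * 10 * 9 * 8`. -/
theorem result {α : Type*} [Fintype α] [DecidableEq α] (hα : Fintype.card α = 13) (G : Subgroup (Equiv.Perm α)) [MulAction.IsPretransitive G α] : Nat.card G ≠ 13 * 12 * 11 * 10 * 9 * 8 := by
  intro hG
  haveI : Fact (Nat.Prime 13) := ⟨by norm_num⟩
  obtain ⟨P⟩ : Nonempty (Sylow 13 G) := inferInstance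
  have hP : Nat.card (P : Subgroup G) = 13 := by
    simpa using CfsgLib.SmallGroups.card_sylow_eq (a := 1) (m := 95040) (by rw [hG]; norm_num) (by norm_num) P
  have h1 := CfsgLib.SmallGroups.card_normalizer_dvd_perm (by rw [hα]; norm_num) hP
  have h2 := CfsgLib.SmallGroups.card_sylow_mul_card_normalizer P
  have h3 := CfsgLib.SmallGroups.mod_eq_one_card_sylow (G := G) (p := 13)
  rw [hα] at h1
  rw [hG] at h2
  generalize Nat.card (Sylow 13 G) = n at h2 h3
  generalize Nat.card (Subgroup.normalizer ((P : Subgroup G) : Set G)) = N at h1 h2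
  norm_num at h1 h2
  have h4 : N ∈ Nat.divisors 156 := Nat.mem_divisors.mpr ⟨h1, by norm_num⟩
  have h5 : Nat.divisors 156 = {1, 2, 3, 4, 6, 12, 13, 26, 39, 52, 78, 156} := by decide
  rw [h5] at h4
  simp only [Finset.mem_insert, Finset.mem_singleton] at h4
  rcases h4 with h | h | h | h | h | h | h | h | h | h | h | h <;> subst h <;> omega

end Cfsg.Agent.S0710
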