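import Cfsg.Statements.S0985
import Cfsg.Agent.Lib.SmallGroups.Basic

set_option autoImplicit false
open Cfsg

namespace Cfsg.Agent.S0985

/-- If the number of Sylow p-subgroups of a finite group is not congruent to 1 modulo p^k, then there are two distinct Sylow p-subgroups P and R such that the index of P ∩ R in P is at most p^(k-1). -/
theorem result {G : Type*} [Group G] [Finite G] (p k : ℕ) [Fact p.Prime] (h : ¬ Nat.card (Sylow p G) ≡ 1 [MOD p ^ k]) : ∃ P R : Sylow p G, P ≠ R ∧ ((R : Subgroup G).subgroupOf (P : Subgroup G)).index ≤ p ^ (k - 1) := by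
  classical
  obtain ⟨P⟩ : Nonempty (Sylow p G) := inferInstance
  by_contra hne
  push Not at hne
  apply h
  have hstab : ∀ R : Sylow p G, MulAction.stabilizer (P : Subgroup G) R =
      (R : Subgroup G).subgroupOf (P : Subgroup G) := by
    intro R
    ext x
    rw [MulAction.mem_stabilizer_iff, Subgroup.mem_subgroupOf]
    show (x : G) • R = R ↔ _
    rw [Sylow.smul_eq_iff_mem_normalizer]
    constructor
    · intro hx
      have hinf := P.2.inf_normalizer_sylow R
      have : (x : G) ∈ (P : Subgroup G) ⊓ Subgroup.normalizer (R : Set G) := ⟨x.2, hx⟩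
      rw [hinf] at this
      exact this.2
    · intro hx
      exact Subgroup.le_normalizer hx
  have hdiv : ∀ R : Sylow p G, R ≠ P → p ^ k ∣ (MulAction.stabilizer (P : Subgroup G) R).index := by
    intro R hR
    rw [hstab]
    obtain ⟨n, hn⟩ := P.2.index ((R : Subgroup G).subgroupOf (P : Subgroup G))
    rw [hn]
    apply Nat.pow_dvd_pow
    have h1 := hne P R hR.symm
    rw [hn] at h1
    have := (Nat.pow_lt_pow_iff_right (Fact.out : p.Prime).one_lt).mp h1
    omega
  have hfix : ∀ R : Sylow p G, (∀ x : (P : Subgroup G), x • R = R) → R = P := by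
    intro R hR
    refine (CfsgLib.SmallGroups.sylow_eq_of_normalizes P R fun x hx => ?_).symm
    have := hR ⟨x, hx⟩
    exact Sylow.smul_eq_iff_mem_normalizer.mp this
  haveI := Fintype.ofFinite (MulAction.orbitRel.Quotient (P : Subgroup G) (Sylow p G))
  rw [Nat.card_congr (MulAction.selfEquivSigmaOrbitsQuotientStabilizer (P : Subgroup G) (Sylow p G)),
    Nat.card_sigma, ← Finset.add_sum_erase _ _ (Finset.mem_univ (Quotient.mk _ P))]
  have hP : (Quotient.mk (MulAction.orbitRel (P : Subgroup G) (Sylow p G)) P).out = P := by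
    obtain ⟨x, hx⟩ := Quotient.mk_out (s := MulAction.orbitRel (P : Subgroup G) (Sylow p G)) P
    rw [← hx]
    exact Sylow.smul_eq_iff_mem_normalizer.mpr (Subgroup.le_normalizer x.2)
  have h1 : Nat.card ((P : Subgroup G) ⧸ MulAction.stabilizer (P : Subgroup G)
      (Quotient.mk (MulAction.orbitRel (P : Subgroup G) (Sylow p G)) P).out) = 1 := by
    rw [← Subgroup.index_eq_card, hP, Subgroup.index_eq_one, eq_top_iff]
    exact fun x _ => Sylow.smul_eq_iff_mem_normalizer.mpr (Subgroup.le_normalizer x.2)
  rw [h1]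
  have h2 : p ^ k ∣ ∑ q ∈ Finset.univ.erase (Quotient.mk _ P),
      Nat.card ((P : Subgroup G) ⧸ MulAction.stabilizer (P : Subgroup G)
        (q : MulAction.orbitRel.Quotient (P : Subgroup G) (Sylow p G)).out) := by
    refine Finset.dvd_sum fun q hq => ?_
    rw [← Subgroup.index_eq_card]
    refine hdiv _ fun e => Finset.ne_of_mem_erase hq ?_
    rw [← Quotient.out_eq q, e]
  simpa using (Nat.modEq_zero_iff_dvd.mpr h2).add_left 1

end Cfsg.Agent.S0985
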