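import Cfsg.Statements.S1009
import Cfsg.Agent.Lib.SmallGroups.Basic

set_option autoImplicit false
open Cfsg

namespace Cfsg.Agent.S1009

/-- Brodkey's Theorem: if a finite group has abelian Sylow p-subgroups, then there are two Sylow p-subgroups whose intersection equals the intersection of all Sylow p-subgroups. -/
theorem result {G : Type*} [Group G] [Finite G] (p : ℕ) [Fact p.Prime] (hab : ∀ P : Sylow p G, IsMulCommutative ↥(P : Subgroup G)) : ∃ P Q : Sylow p G, (P : Subgroup G) ⊓ (Q : Subgroup G) = ⨅ R : Sylow p G, (R : Subgroup G) := by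
  classical
  haveI := Fintype.ofFinite (Sylow p G)
  obtain ⟨⟨P, Q⟩, -, hmin⟩ := Finset.exists_min_image (Finset.univ : Finset (Sylow p G × Sylow p G))
    (fun z => Nat.card ((z.1 : Subgroup G) ⊓ (z.2 : Subgroup G) : Subgroup G)) Finset.univ_nonempty
  refine ⟨P, Q, le_antisymm (le_iInf fun R => ?_) (le_inf (iInf_le _ P) (iInf_le _ Q))⟩
  set D : Subgroup G := (P : Subgroup G) ⊓ (Q : Subgroup G) with hD
  set C : Subgroup G := Subgroup.centralizer (D : Set G) with hC
  have hle : ∀ A : Sylow p G, D ≤ (A : Subgroup G) → (A : Subgroup G) ≤ C := by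
    intro A hA x hx
    rw [hC, Subgroup.mem_centralizer_iff]
    intro d hd
    exact congrArg Subtype.val ((hab A).is_comm.comm ⟨d, hA hd⟩ ⟨x, hx⟩)
  have hRp : IsPGroup p (((R : Subgroup G) ⊓ C).subgroupOf C) :=
    (R.2.to_le inf_le_left).comap_subtype
  obtain ⟨S, hS⟩ := hRp.exists_le_sylow
  obtain ⟨c, hc⟩ := MulAction.exists_smul_eq C (P.subtype (hle P inf_le_left)) S
  -- the conjugates of P and Q by c
  have hPc : (R : Subgroup G) ⊓ C ≤ (((c : G) • P : Sylow p G) : Subgroup G) := by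
    intro x hx
    have h1 : (⟨x, hx.2⟩ : C) ∈ (S : Subgroup C) := hS hx
    rw [← hc, Sylow.smul_subtype] at h1
    exact h1
  have hconj : ∀ A : Sylow p G, (((c : G) • A : Sylow p G) : Subgroup G) =
      (A : Subgroup G).map (MulAut.conj (c : G)).toMonoidHom := fun A => rfl
  have hQC : (((c : G) • Q : Sylow p G) : Subgroup G) ≤ C := Sylow.smul_le (hle Q inf_le_right) c
  have hfix : D.map (MulAut.conj (c : G)).toMonoidHom = D := by
    ext x
    have hcomm : ∀ d ∈ D, (c : G) * d * (c : G)⁻¹ = d := by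
      intro d hd
      have := Subgroup.mem_centralizer_iff.mp c.2 d hd
      rw [← this, mul_inv_cancel_right]
    constructor
    · rintro ⟨d, hd, rfl⟩
      show (c : G) * d * (c : G)⁻¹ ∈ D
      rwa [hcomm d hd]
    · intro hx
      exact ⟨x, hx, hcomm x hx⟩
  have h1 : (R : Subgroup G) ⊓ (((c : G) • Q : Sylow p G) : Subgroup G) ≤ D := by
    intro x hx
    have h2 : x ∈ (((c : G) • P : Sylow p G) : Subgroup G) ⊓ (((c : G) • Q : Sylow p G) : Subgroup G) :=
      ⟨hPc ⟨hx.1, hQC hx.2⟩, hx.2⟩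
    rw [hconj, hconj, ← Subgroup.map_inf _ _ _ (MulAut.conj (c : G)).injective, hfix] at h2
    exact h2
  have h3 := hmin (R, (c : G) • Q) (Finset.mem_univ _)
  rw [← Subgroup.eq_of_le_of_card_ge h1 h3]
  exact inf_le_left

end Cfsg.Agent.S1009
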