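import Cfsg.Statements.S1010
import Cfsg.Agent.Lib.SmallGroups.PrimeDegree
import Cfsg.Agent.Lib.SmallGroups.AbelianSylow
import Cfsg.Agent.Lib.SmallGroups.FreePrime
import Cfsg.Agent.S0985
import Cfsg.Agent.S1009
import Mathlib

set_option autoImplicit false
open Cfsg

namespace Cfsg.Agent.S1010

open CfsgLib.SmallGroups
open scoped Pointwise
set_option linter.style.haveILetI false

theorem sylow_subtype_injective {G : Type*} [Group G] {p : ℕ} {L : Subgroup G}
    (A B : Sylow p G) (hA : (A : Subgroup G) ≤ L) (hB : (B : Subgroup G) ≤ L)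
    (h : A.subtype hA = B.subtype hB) : A = B :=
  Sylow.subtype_injective h

theorem card_sylow_subgroup_le {G : Type*} [Group G] [Finite G] {p : ℕ} [Fact p.Prime]
    (H : Subgroup G) : Nat.card (Sylow p H) ≤ Nat.card (Sylow p G) := by
  choose Q hQ using fun R : Sylow p H => R.exists_comap_subtype_eq
  refine Nat.card_le_card_of_injective Q fun R R' h => Sylow.ext ?_
  rw [← hQ R, ← hQ R', h]

theorem card_sylow_quotient {G : Type*} [Group G] [Finite G] {p : ℕ} [Fact p.Prime]
    (K : Subgroup G) [K.Normal] (hK : ∀ k ∈ K, ∀ Q : Sylow p G, k • Q = Q) :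
    Nat.card (Sylow p (G ⧸ K)) = Nat.card (Sylow p G) := by
  have hs := Sylow.mapSurjective_surjective (QuotientGroup.mk'_surjective K) p
  refine (Nat.card_eq_of_bijective _ ⟨fun A B h => ?_, hs⟩).symm
  -- both Sylow subgroups lie in A ⊔ K, where A is normal
  have hA : ((A.mapSurjective (QuotientGroup.mk'_surjective K) : Sylow p (G ⧸ K)) : Subgroup (G ⧸ K)).comap
      (QuotientGroup.mk' K) = (A : Subgroup G) ⊔ K := by
    rw [Sylow.coe_mapSurjective, Subgroup.comap_map_eq, QuotientGroup.ker_mk']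
  have hle : (B : Subgroup G) ≤ (A : Subgroup G) ⊔ K := by
    rw [← hA, h, Sylow.coe_mapSurjective]
    exact Subgroup.le_comap_map _ _
  refine (sylow_eq_of_normalizes B A (hle.trans (sup_le Subgroup.le_normalizer fun k hk => ?_))).symm
  exact Sylow.smul_eq_iff_mem_normalizer.mp (hK k hk A)

theorem fpf_four : ∀ σ : Equiv.Perm (Fin 4), Equiv.Perm.sign σ = 1 → σ * σ * (σ * σ) = 1 →
    σ ≠ 1 → ∀ i, σ i ≠ i := by decide +kernel

theorem comm_four : ∀ σ τ : Equiv.Perm (Fin 4), Equiv.Perm.sign σ = 1 → Equiv.Perm.sign τ = 1 →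
    σ * σ * (σ * σ) = 1 → τ * τ * (τ * τ) = 1 → σ * τ = τ * σ := by decide +kernel

theorem perm_four {O : Type*} [Fintype O] [DecidableEq O] (hO : Fintype.card O = 4) (σ τ : Equiv.Perm O)
    (hσ : Equiv.Perm.sign σ = 1) (hτ : Equiv.Perm.sign τ = 1) (h4 : σ ^ 4 = 1) (h4' : τ ^ 4 = 1) :
    σ * τ = τ * σ ∧ (σ ≠ 1 → ∀ i, σ i ≠ i) := by
  let e : O ≃ Fin 4 := Fintype.equivFinOfCardEq hO
  have hm : ∀ x y : Equiv.Perm O, e.permCongr (x * y) = e.permCongr x * e.permCongr y :=
    fun x y => map_mul e.permCongrHom x y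
  have hp : ∀ x : Equiv.Perm O, x ^ 4 = 1 →
      e.permCongr x * e.permCongr x * (e.permCongr x * e.permCongr x) = 1 := fun x hx => by
    rw [← hm, ← hm, show x * x * (x * x) = x ^ 4 by simp [pow_succ, mul_assoc], hx]
    exact map_one e.permCongrHom
  have key := comm_four (e.permCongr σ) (e.permCongr τ) (by rw [Equiv.Perm.sign_permCongr, hσ])
    (by rw [Equiv.Perm.sign_permCongr, hτ]) (hp σ h4) (hp τ h4')
  rw [← hm, ← hm] at key
  refine ⟨e.permCongr.injective key, fun h i hi => ?_⟩
  exact fpf_four _ (by rw [Equiv.Perm.sign_permCongr, hσ]) (hp σ h4)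
    (fun h1 => h (e.permCongrHom.injective (h1.trans (map_one e.permCongrHom).symm))) (e i)
    (by simp [Equiv.permCongr_apply, hi])

theorem arith : ∀ m ∈ Nat.divisors 48, ∀ r ∈ Nat.divisors 18, 15 * m % r = 0 → 15 * m / r % 7 = 1 →
    r ≠ 1 → 2 ∣ m → 4 ∣ m → 8 ∣ m := by decide

section Minimal

variable {G : Type*} [Group G] [Finite G]

theorem sylow_le_of_index (h : Nat.card (Sylow 5 G) = 21)
    (hmin : ∀ H : Subgroup G, H ≠ ⊤ → Nat.card (Sylow 5 H) ≠ 21) (P : Sylow 5 G)
    (H : Subgroup G) (hH : Subgroup.normalizer ((P : Subgroup G) : Set G) ≤ H) :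
    H = Subgroup.normalizer ((P : Subgroup G) : Set G) ∨ H = ⊤ := by
  haveI : Fact (Nat.Prime 5) := ⟨by norm_num⟩
  by_contra hne
  push Not at hne
  set N := Subgroup.normalizer ((P : Subgroup G) : Set G)
  have hPH : (P : Subgroup G) ≤ H := Subgroup.le_normalizer.trans hH
  have h1 : N.relIndex H * H.index = 21 := by
    rw [Subgroup.relIndex_mul_index hH, ← card_sylow_eq_index P, h]
  have h2 : Nat.card (Sylow 5 H) = N.relIndex H := by
    rw [card_sylow_eq_index (P.subtype hPH), Sylow.coe_subtype]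
    show _ = (N.subgroupOf H).index
    congr 1
    rw [← Subgroup.subgroupOf_normalizer_eq hPH]
  have h3 := mod_eq_one_card_sylow (G := H) (p := 5)
  rw [h2] at h3
  have h4 : N.relIndex H ∣ 21 := Dvd.intro _ h1
  have h5 : N.relIndex H ∈ Nat.divisors 21 := Nat.mem_divisors.mpr ⟨h4, by norm_num⟩
  rw [show Nat.divisors 21 = {1, 3, 7, 21} by decide] at h5
  simp only [Finset.mem_insert, Finset.mem_singleton] at h5
  rcases h5 with e | e | e | e
  · exact hne.1 (le_antisymm (Subgroup.relIndex_eq_one.mp e) hH)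
  · omega
  · omega
  · exact hmin H hne.2 (h2.trans e)

/-- A minimal counterexample acting faithfully is simple. -/
theorem simple_of_minimal (h : Nat.card (Sylow 5 G) = 21)
    (hmin : ∀ H : Subgroup G, H ≠ ⊤ → Nat.card (Sylow 5 H) ≠ 21)
    (hfaith : ∀ g : G, (∀ Q : Sylow 5 G, g • Q = Q) → g = 1) : IsSimpleGroup G := by
  haveI : Fact (Nat.Prime 5) := ⟨by norm_num⟩
  haveI : Fact (Nat.Prime 7) := ⟨by norm_num⟩
  obtain ⟨P⟩ : Nonempty (Sylow 5 G) := inferInstance
  set N := Subgroup.normalizer ((P : Subgroup G) : Set G) with hN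
  haveI : Nontrivial G := by
    by_contra hn
    haveI := not_nontrivial_iff_subsingleton.mp hn
    have : Subsingleton (Sylow 5 G) := ⟨fun A B => Sylow.ext (Subsingleton.elim _ _)⟩
    rw [Nat.card_of_subsingleton P] at h
    omega
  refine ⟨fun M hM => ?_⟩
  by_contra hne
  push Not at hne
  haveI := hM
  have hnotle : ¬ M ≤ N := by
    intro hle
    apply hne.1
    rw [eq_bot_iff]
    intro k hk
    refine Subgroup.mem_bot.mpr (hfaith k fun Q => ?_)
    obtain ⟨g, rfl⟩ := MulAction.exists_smul_eq G P Q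
    have h2 : g⁻¹ * k * g ∈ N := hle (by simpa using hM.conj_mem k hk g⁻¹)
    have h3 := Sylow.smul_eq_iff_mem_normalizer.mpr h2
    rw [mul_smul, mul_smul, inv_smul_eq_iff] at h3
    exact h3
  have hsup : M ⊔ N = ⊤ :=
    (sylow_le_of_index h hmin P _ le_sup_right).resolve_left fun e => hnotle (le_sup_left.trans e.le)
  have hmove : ∀ Q : Sylow 5 G, ∃ m ∈ M, m • P = Q := by
    intro Q
    obtain ⟨g, rfl⟩ := MulAction.exists_smul_eq G P Q
    have hg : g ∈ (M : Set G) * (N : Set G) := by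
      rw [← Subgroup.normal_mul, hsup]; trivial
    obtain ⟨m, hm, n, hn, rfl⟩ := Set.mem_mul.mp hg
    exact ⟨m, hm, by rw [mul_smul, Sylow.smul_eq_iff_mem_normalizer.mpr hn]⟩
  have hMP : M ⊔ (P : Subgroup G) = ⊤ := by
    set L := M ⊔ (P : Subgroup G) with hL
    by_contra hL'
    have hle : ∀ Q : Sylow 5 G, (Q : Subgroup G) ≤ L := by
      intro Q
      obtain ⟨m, hm, rfl⟩ := hmove Q
      exact Sylow.smul_le (le_sup_right : (P : Subgroup G) ≤ L) ⟨m, Subgroup.mem_sup_left hm⟩
    have h1 : Nat.card (Sylow 5 G) ≤ Nat.card (Sylow 5 L) :=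
      Nat.card_le_card_of_injective (fun Q : Sylow 5 G => Q.subtype (hle Q))
        (fun A B e => sylow_subtype_injective A B (hle A) (hle B) e)
    have h2 := card_sylow_subgroup_le (p := 5) L
    exact hmin L hL' (by omega)
  set P0 := (P : Subgroup G) ⊓ M with hP0
  have hconjN : ∀ n ∈ N, ∀ x ∈ P0, n * x * n⁻¹ ∈ P0 :=
    fun n hn x hx => ⟨(hn x).mp hx.1, hM.conj_mem x hx.2 n⟩
  have hNP0 : N ≤ Subgroup.normalizer (P0 : Set G) := by
    intro n hn x
    refine ⟨hconjN n hn x, fun hx => ?_⟩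
    simpa [mul_assoc] using hconjN n⁻¹ (inv_mem hn) _ hx
  -- the Sylow subgroups of M are the intersections with those of G
  have hcomap : ∀ m : M, ∀ Q : Sylow 5 G, (((m : G) • Q : Sylow 5 G) : Subgroup G).comap M.subtype =
      ((Q : Subgroup G).comap M.subtype).map (MulAut.conj m).toMonoidHom := by
    intro m Q
    ext x
    constructor
    · rintro ⟨y, hy, hy'⟩
      have hy'' : (m : G) * y * (m : G)⁻¹ = x := hy'
      refine ⟨⟨y, ?_⟩, hy, Subtype.ext hy''⟩
      have : y = (m : G)⁻¹ * x * m := by rw [← hy'']; group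
      rw [this]
      exact mul_mem (mul_mem (inv_mem m.2) x.2) m.2
    · rintro ⟨y, hy, rfl⟩
      exact ⟨(y : G), hy, rfl⟩
  have hsyl : ∀ Q : Sylow 5 G, ∃ R : Sylow 5 M, (R : Subgroup M) = (Q : Subgroup G).comap M.subtype := by
    intro Q
    obtain ⟨R₁⟩ : Nonempty (Sylow 5 M) := inferInstance
    obtain ⟨Q₁, hQ₁⟩ := R₁.exists_comap_subtype_eq
    obtain ⟨m₁, hm₁, e₁⟩ := hmove Q₁
    obtain ⟨m, hm, e⟩ := hmove Q
    have e2 : Q = ((⟨m, hm⟩ * ⟨m₁, hm₁⟩⁻¹ : M) : G) • Q₁ := by
      rw [← e₁, ← e, smul_smul]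
      simp
    refine ⟨(⟨m, hm⟩ * ⟨m₁, hm₁⟩⁻¹ : M) • R₁, ?_⟩
    rw [e2, hcomap, hQ₁]
    rfl
  obtain ⟨R0, hR0⟩ := hsyl P
  have hP0bot : P0 = ⊥ := by
    rcases sylow_le_of_index h hmin P _ hNP0 with e | e
    · exfalso
      choose R hR using hsyl
      have hstab : ∀ n : G, n • (P : Sylow 5 G) = P ↔ n ∈ N := fun n => Sylow.smul_eq_iff_mem_normalizer
      have hinj : Function.Injective R := by
        intro A B hAB
        obtain ⟨a, ha, rfl⟩ := hmove A
        obtain ⟨b, hb, rfl⟩ := hmove B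
        have h1 := hR (a • P)
        have h2 := hR (b • P)
        rw [hAB, h2, show a • P = ((⟨a, ha⟩ : M) : G) • P from rfl,
          show b • P = ((⟨b, hb⟩ : M) : G) • P from rfl, hcomap, hcomap] at h1
        set C := (P : Subgroup G).comap M.subtype with hC
        -- b⁻¹ a normalises the intersection
        have hn : b⁻¹ * a ∈ Subgroup.normalizer (P0 : Set G) := by
          intro x
          have key : ∀ (u v : M), C.map (MulAut.conj u).toMonoidHom = C.map (MulAut.conj v).toMonoidHom →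
              ∀ y ∈ P0, ((v : G)⁻¹ * u) * y * ((v : G)⁻¹ * u)⁻¹ ∈ P0 := by
            intro u v huv y hy
            have : (MulAut.conj u).toMonoidHom (⟨y, hy.2⟩ : M) ∈ C.map (MulAut.conj v).toMonoidHom :=
              huv ▸ Subgroup.mem_map_of_mem _ (show (⟨y, hy.2⟩ : M) ∈ C from hy.1)
            obtain ⟨z, hz, hzy⟩ := this
            have hzy' : (v : G) * z * (v : G)⁻¹ = (u : G) * y * (u : G)⁻¹ := congrArg Subtype.val hzy
            have : ((v : G)⁻¹ * u) * y * ((v : G)⁻¹ * u)⁻¹ = (z : G) := by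
              calc ((v : G)⁻¹ * u) * y * ((v : G)⁻¹ * u)⁻¹
                  = (v : G)⁻¹ * ((u : G) * y * (u : G)⁻¹) * v := by group
                _ = (z : G) := by rw [← hzy']; group
            rw [this]
            exact ⟨hz, z.2⟩
          refine ⟨key ⟨a, ha⟩ ⟨b, hb⟩ h1.symm x, fun hx => ?_⟩
          have h4 := key ⟨b, hb⟩ ⟨a, ha⟩ h1 _ hx
          simpa [mul_assoc] using h4
        rw [e, ← hstab, mul_smul, inv_smul_eq_iff] at hn
        exact hn
      have hsurj : Function.Surjective R := by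
        intro S
        obtain ⟨Q, hQ⟩ := S.exists_comap_subtype_eq
        exact ⟨Q, Sylow.ext ((hR Q).trans hQ)⟩
      exact hmin M hne.2 ((Nat.card_eq_of_bijective R ⟨hinj, hsurj⟩).symm.trans h)
    · have hn : P0.Normal := Subgroup.normalizer_eq_top_iff.mp e
      rw [eq_bot_iff]
      intro x hx
      refine Subgroup.mem_bot.mpr (hfaith x fun Q => ?_)
      obtain ⟨g, rfl⟩ := MulAction.exists_smul_eq G P Q
      have h2 : g⁻¹ * x * g ∈ N := Subgroup.le_normalizer (show g⁻¹ * x * g ∈ (P : Subgroup G) by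
        have h2' := (hn.conj_mem x hx g⁻¹).1
        rwa [inv_inv] at h2')
      have h3 := Sylow.smul_eq_iff_mem_normalizer.mpr h2
      rw [mul_smul, mul_smul, inv_smul_eq_iff] at h3
      exact h3
  -- so M has order prime to five and G = M P
  have h5M : ¬ 5 ∣ Nat.card M := by
    intro h5
    have := R0.dvd_card_of_dvd_card h5
    have hb : (R0 : Subgroup M) = ⊥ := by
      rw [hR0, eq_bot_iff]
      intro x hx
      have : (x : G) ∈ P0 := ⟨hx, x.2⟩
      rw [hP0bot, Subgroup.mem_bot] at this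
      exact Subgroup.mem_bot.mpr (Subtype.ext this)
    rw [hb, Subgroup.card_bot] at this
    omega
  obtain ⟨k, hk⟩ := IsPGroup.iff_card.mp P.2
  have hcardG : Nat.card G = Nat.card M * 5 ^ k := by
    have h1 := Subgroup.relIndex_sup_left (H := (P : Subgroup G)) (K := M)
    rw [hMP, Subgroup.relIndex_top_right, ← Subgroup.inf_relIndex_left] at h1
    rw [← M.card_mul_index, h1, ← hP0, hP0bot, Subgroup.relIndex_bot_left, hk]
  have hN21 : 21 * Nat.card N = Nat.card M * 5 ^ k := by
    rw [← hcardG, ← h]; exact card_sylow_mul_card_normalizer P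
  obtain ⟨Q7⟩ : Nonempty (Sylow 7 M) := inferInstance
  obtain ⟨j, hj⟩ := IsPGroup.iff_card.mp Q7.2
  set H7 := (Q7 : Subgroup M).map M.subtype with hH7
  have hH7c : Nat.card H7 = 7 ^ j := by
    rw [hH7, Subgroup.card_map_of_injective M.subtype_injective, hj]
  have hjmax : ¬ 7 ^ (j + 1) ∣ Nat.card M := by
    intro hd
    have := Q7.pow_dvd_card_of_pow_dvd_card hd
    rw [hj] at this
    have := Nat.le_of_dvd (by positivity) this
    rw [pow_succ] at this
    have : 0 < 7 ^ j := by positivity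
    omega
  have hfr := Sylow.normalizer_sup_eq_top Q7
  set NQ := Subgroup.normalizer (H7 : Set G) with hNQ
  have hfr' : NQ ⊔ M = ⊤ := hfr
  have h5k : 5 ^ k ∣ Nat.card NQ := by
    have h1 : M.index = 5 ^ k := Nat.eq_of_mul_eq_mul_left (Nat.card_pos (α := M))
      (by rw [M.card_mul_index, hcardG])
    have h2 := Subgroup.relIndex_sup_right (H := NQ) (K := M)
    rw [hfr', Subgroup.relIndex_top_right, h1] at h2
    rw [h2]
    exact Subgroup.relIndex_dvd_card M NQ
  obtain ⟨X, hX⟩ := Sylow.exists_subgroup_card_pow_prime (G := NQ) 5 h5k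
  have hPcard : Nat.card (P : Subgroup G) = 5 ^ k := hk
  let P' : Sylow 5 G := Sylow.ofCard (X.map NQ.subtype) (by
    rw [Subgroup.card_map_of_injective NQ.subtype_injective, hX, ← hk, P.card_eq_multiplicity])
  have hP'c : Nat.card (P' : Subgroup G) = 5 ^ k := by
    show Nat.card (X.map NQ.subtype) = _
    rw [Subgroup.card_map_of_injective NQ.subtype_injective, hX]
  have hP'N : (P' : Subgroup G) ≤ NQ := Subgroup.map_subtype_le _
  set H := (P' : Subgroup G) ⊔ H7 with hH
  have hHc : Nat.card H = 5 ^ k * 7 ^ j := by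
    have h1 : Nat.card H = Nat.card H7 * H7.relIndex H := by
      rw [← Subgroup.card_mul_index (H7.subgroupOf H),
        Nat.card_congr (Subgroup.subgroupOfEquivOfLe (le_sup_right : H7 ≤ H)).toEquiv]
      rfl
    have h2 : H7.relIndex H = Nat.card (P' : Subgroup G) := by
      have hcop : (P' : Subgroup G) ⊓ H7 = ⊥ := by
        apply Subgroup.inf_eq_bot_of_coprime
        rw [hP'c, hH7c]
        exact Nat.Coprime.pow _ _ (by norm_num)
      haveI : (H7.subgroupOf H).Normal := by
        apply Subgroup.normal_subgroupOf_of_le_normalizer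
        exact sup_le hP'N Subgroup.le_normalizer
      -- count cosets through the subgroup P'
      rw [← Subgroup.inf_relIndex_right] at *
      have h3 : (H7.subgroupOf H).relIndex ((P' : Subgroup G).subgroupOf H) =
          (H7.subgroupOf H).index := by
        rw [← Subgroup.relIndex_sup_right (H := (P' : Subgroup G).subgroupOf H) (K := H7.subgroupOf H),
          ← Subgroup.subgroupOf_sup le_sup_left le_sup_right, Subgroup.subgroupOf_self,
          Subgroup.relIndex_top_right]
      have h4 : H7.relIndex (P' : Subgroup G) = (H7.subgroupOf H).relIndex ((P' : Subgroup G).subgroupOf H) :=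
        (Subgroup.relIndex_subgroupOf (le_sup_left : (P' : Subgroup G) ≤ H)).symm
      rw [Subgroup.inf_relIndex_right]
      show (H7.subgroupOf H).index = _
      rw [← h3, ← h4, ← Subgroup.inf_relIndex_left, hcop, Subgroup.relIndex_bot_left]
    rw [h1, h2, hP'c, hH7c, mul_comm]
  have hn5 : Nat.card (Sylow 5 H) = 1 := by
    have hd := card_sylow_dvd_of_card_eq (p := 5) hHc (fun hd => by
      have := (Nat.Prime.dvd_of_dvd_pow (by norm_num : Nat.Prime 5) hd)
      omega)
    have hm := mod_eq_one_card_sylow (G := H) (p := 5)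
    have hle := card_sylow_subgroup_le (p := 5) H
    obtain ⟨i, -, hi⟩ := (Nat.dvd_prime_pow (by norm_num : Nat.Prime 7)).mp hd
    rw [hi] at hm hle ⊢
    rcases i with _ | _ | i
    · rfl
    · norm_num at hm
    · have : 49 ≤ 7 ^ (i + 2) := le_trans (by norm_num) (Nat.pow_le_pow_right (by norm_num) (by omega : 2 ≤ i + 2))
      omega
  have hcent : H7 ≤ Subgroup.normalizer ((P' : Subgroup G) : Set G) := by
    have hn := sylow_normal_of_card_eq_one hn5 (P'.subtype le_sup_left)
    rw [Sylow.coe_subtype] at hn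
    exact le_sup_right.trans (Subgroup.le_normalizer_of_normal_subgroupOf (hK := hn) le_sup_left)
  have h7N : 7 ^ j ∣ Nat.card N := by
    obtain ⟨g, hg⟩ := MulAction.exists_smul_eq G P P'
    have hc : Nat.card (Subgroup.normalizer ((P' : Subgroup G) : Set G)) = Nat.card N := by
      have h1 := card_sylow_mul_card_normalizer P
      have h2 := card_sylow_mul_card_normalizer P'
      rw [h] at h1 h2
      omega
    rw [← hc, ← hH7c]
    exact Subgroup.card_dvd_of_le hcent
  apply hjmax
  have h7 : 7 ^ (j + 1) ∣ Nat.card M * 5 ^ k := by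
    rw [← hN21, pow_succ, mul_comm]
    exact Nat.mul_dvd_mul (by norm_num) h7N
  exact (Nat.Coprime.dvd_mul_right (Nat.Coprime.pow _ _ (by norm_num))).mp h7

set_option maxHeartbeats 1600000 in
/-- There is no simple group with 21 Sylow 5-subgroups. -/
theorem false_of_simple [IsSimpleGroup G] (h : Nat.card (Sylow 5 G) = 21) : False := by
  classical
  haveI : Fact (Nat.Prime 5) := ⟨by norm_num⟩
  haveI : Fact (Nat.Prime 7) := ⟨by norm_num⟩
  haveI : Fact (Nat.Prime 2) := ⟨by norm_num⟩
  haveI := Fintype.ofFinite (Sylow 5 G)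
  have hG : ¬ IsMulCommutative G := by
    intro hc
    obtain ⟨P⟩ : Nonempty (Sylow 5 G) := inferInstance
    have := card_sylow_eq_one_of_normal P ⟨fun x hx g => by
      rwa [show g * x * g⁻¹ = x by rw [hc.is_comm.comm g x, mul_inv_cancel_right]]⟩
    omega
  obtain ⟨P₀⟩ : Nonempty (Sylow 5 G) := inferInstance
  have hfaith : ∀ g : G, (∀ Q : Sylow 5 G, g • Q = Q) → g = 1 := by
    have hinj : Function.Injective (MulAction.toPermHom G (Sylow 5 G)) := by
      apply toPermHom_injective_of_not_trivial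
      by_contra hall
      push Not at hall
      haveI : Subsingleton (Sylow 5 G) := ⟨fun A B => by
        obtain ⟨g, hg⟩ := MulAction.exists_smul_eq G A B
        rw [← hg, hall]⟩
      rw [Nat.card_of_subsingleton P₀] at h
      omega
    exact fun g hg => hinj (Equiv.ext fun Q => by simpa using hg Q)
  have h5 : 5 ∣ Nat.card G := by
    by_contra h5
    obtain ⟨k, hk⟩ := IsPGroup.iff_card.mp P₀.2
    have hb : (P₀ : Subgroup G) = ⊥ := by
      rcases Nat.eq_zero_or_pos k with rfl | hk0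
      · exact Subgroup.eq_bot_of_card_eq _ (by rw [hk, pow_zero])
      · exact absurd ((dvd_pow_self 5 hk0.ne').trans (hk ▸ (P₀ : Subgroup G).card_subgroup_dvd_card)) h5
    have := card_sylow_eq_one_of_normal P₀ (by rw [hb]; infer_instance)
    omega
  -- Sylow 5-subgroups are abelian and any two meet in index at most five
  have hidx : ∀ A B : Sylow 5 G, A ≠ B → ((B : Subgroup G).subgroupOf (A : Subgroup G)).index = 5 := by
    intro A B hAB
    have hst : MulAction.stabilizer (A : Subgroup G) B = (B : Subgroup G).subgroupOf (A : Subgroup G) := by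
      ext x
      rw [MulAction.mem_stabilizer_iff, Subgroup.mem_subgroupOf]
      show (x : G) • B = B ↔ _
      rw [Sylow.smul_eq_iff_mem_normalizer]
      constructor
      · intro hx
        have hmem : (x : G) ∈ (A : Subgroup G) ⊓ Subgroup.normalizer (B : Set G) := ⟨x.2, hx⟩
        rw [A.2.inf_normalizer_sylow B] at hmem
        exact hmem.2
      · intro hx
        exact Subgroup.le_normalizer hx
    rw [← hst, MulAction.index_stabilizer]
    obtain ⟨n, hn⟩ := A.2.card_orbit B
    rw [Nat.card_coe_set_eq] at hn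
    have hA : A ∉ MulAction.orbit (A : Subgroup G) B := by
      rintro ⟨⟨u, hu⟩, hu'⟩
      apply hAB
      have hfix : u • A = A := Sylow.smul_eq_iff_mem_normalizer.mpr (Subgroup.le_normalizer hu)
      exact ((MulAction.injective u (hu'.trans hfix.symm)) : B = A).symm
    have hlt : (MulAction.orbit (A : Subgroup G) B).ncard < 21 := by
      rw [← h, ← Set.ncard_univ]
      exact Set.ncard_lt_ncard (Set.ssubset_univ_iff.mpr fun e => hA (e ▸ Set.mem_univ A))
    rw [hn] at hlt ⊢
    rcases n with _ | _ | n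
    · exfalso
      rw [pow_zero, Set.ncard_eq_one] at hn
      obtain ⟨C, hC⟩ := hn
      apply hAB
      refine sylow_eq_of_normalizes A B fun u hu => ?_
      apply Sylow.smul_eq_iff_mem_normalizer.mp
      have h1 : (⟨u, hu⟩ : (A : Subgroup G)) • B ∈ ({C} : Set (Sylow 5 G)) := hC ▸ MulAction.mem_orbit _ _
      have h2 : B ∈ ({C} : Set (Sylow 5 G)) := hC ▸ MulAction.mem_orbit_self _
      rw [Set.mem_singleton_iff] at h1 h2
      exact h1.trans h2.symm
    · norm_num
    · exfalso
      have : 25 ≤ 5 ^ (n + 1 + 1) := le_trans (by norm_num) (Nat.pow_le_pow_right (by norm_num) (by omega : 2 ≤ n + 1 + 1))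
      omega
  have hcomm : ∀ (A : Sylow 5 G), IsMulCommutative (A : Subgroup G) := by
    intro A
    refine ⟨⟨fun a b => ?_⟩⟩
    have h1 : ∀ x y : (A : Subgroup G), ((x * y * x⁻¹ * y⁻¹ : (A : Subgroup G)) : G) = 1 := by
      intro x y
      refine hfaith _ fun B => ?_
      apply Sylow.smul_eq_iff_mem_normalizer.mpr
      by_cases hBA : A = B
      · subst hBA
        exact Subgroup.le_normalizer (x * y * x⁻¹ * y⁻¹).2
      · set S := (B : Subgroup G).subgroupOf (A : Subgroup G)
        have hS5 : S.index = 5 := hidx A B hBA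
        obtain ⟨k, hk⟩ := IsPGroup.iff_card.mp A.2
        haveI : S.Normal := Subgroup.normal_of_index_eq_minFac_card (by
          rw [hS5, hk]
          have hk0 : k ≠ 0 := by
            intro h0
            have := S.index_dvd_card
            rw [hS5, hk, h0] at this
            norm_num at this
          rw [Nat.pow_minFac hk0, Nat.Prime.minFac_eq (by norm_num)])
        haveI : IsCyclic ((A : Subgroup G) ⧸ S) := isCyclic_of_prime_card (p := 5) (by rw [← Subgroup.index_eq_card, hS5])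
        have hxy : x * y * x⁻¹ * y⁻¹ ∈ S := by
          rw [← QuotientGroup.eq_one_iff]
          letI := IsCyclic.commGroup (α := (A : Subgroup G) ⧸ S)
          rw [QuotientGroup.mk_mul, QuotientGroup.mk_mul, QuotientGroup.mk_mul, QuotientGroup.mk_inv,
            QuotientGroup.mk_inv, mul_comm (x : (A : Subgroup G) ⧸ S) (y : (A : Subgroup G) ⧸ S),
            mul_inv_cancel_right, mul_inv_cancel]
        exact Subgroup.le_normalizer hxy
    have h2 : a * b * a⁻¹ * b⁻¹ = 1 := Subtype.ext (h1 a b)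
    calc a * b = (a * b * a⁻¹ * b⁻¹) * (b * a) := by group
      _ = b * a := by rw [h2, one_mul]
  -- so some pair meets trivially and the order of a Sylow 5-subgroup is five
  have hcard5 : ∀ A : Sylow 5 G, Nat.card (A : Subgroup G) = 5 := by
    obtain ⟨A, B, hAB⟩ := Cfsg.Agent.S1009.result 5 (fun A => hcomm A)
    have hbot : (A : Subgroup G) ⊓ (B : Subgroup G) = ⊥ := by
      rw [hAB, eq_bot_iff]
      intro x hx
      refine Subgroup.mem_bot.mpr (hfaith x fun Q => ?_)
      exact Sylow.smul_eq_iff_mem_normalizer.mpr (Subgroup.le_normalizer (Subgroup.mem_iInf.mp hx Q))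
    have hne : A ≠ B := by
      intro e
      subst e
      rw [inf_idem] at hbot
      have := A.dvd_card_of_dvd_card h5
      rw [hbot, Subgroup.card_bot] at this
      omega
    have h1 := hidx A B hne
    rw [show ((B : Subgroup G).subgroupOf (A : Subgroup G)) = ⊥ from by
      rw [Subgroup.subgroupOf_eq_bot, disjoint_iff, inf_comm]; exact hbot, Subgroup.index_bot] at h1
    intro C
    rw [Nat.card_congr (C.equiv A).toEquiv, h1]
  obtain ⟨P⟩ : Nonempty (Sylow 5 G) := inferInstance
  obtain ⟨z, hz, hPz⟩ := exists_zpowers_of_card_prime (hcard5 P)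
  set N := Subgroup.normalizer ((P : Subgroup G) : Set G) with hN
  have hzN : z ∈ N := Subgroup.le_normalizer (hPz ▸ Subgroup.mem_zpowers z)
  have hzord : orderOf (⟨z, hzN⟩ : N) = 5 := by rw [Subgroup.orderOf_mk]; exact hz
  haveI hnorm : (Subgroup.zpowers (⟨z, hzN⟩ : N)).Normal := by
    have : Subgroup.zpowers (⟨z, hzN⟩ : N) = (P : Subgroup G).subgroupOf N := by
      apply Subgroup.map_injective N.subtype_injective
      rw [MonoidHom.map_zpowers, Subgroup.subgroupOf_map_subtype, inf_eq_left.mpr Subgroup.le_normalizer, hPz]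
      rfl
    rw [this]
    exact Subgroup.normal_in_normalizer
  -- the other Sylow subgroups
  let β := {Q : Sylow 5 G // Q ≠ P}
  have hNP : ∀ n : N, (n : G) • P = P := fun n => Sylow.smul_eq_iff_mem_normalizer.mpr n.2
  letI act : MulAction N β :=
    { smul := fun n Q => ⟨(n : G) • Q.1, fun e => Q.2 (MulAction.injective (n : G) (e.trans (hNP n).symm))⟩
      one_smul := fun Q => Subtype.ext (one_smul G Q.1)
      mul_smul := fun a b Q => Subtype.ext (mul_smul (a : G) (b : G) Q.1) }
  have hfree : ∀ Q : β, (⟨z, hzN⟩ : N) • Q ≠ Q := by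
    intro Q e
    apply Q.2
    refine (sylow_eq_of_normalizes P Q.1 ?_).symm
    rw [hPz, Subgroup.zpowers_le]
    exact Sylow.smul_eq_iff_mem_normalizer.mp (congrArg Subtype.val e)
  haveI := Fintype.ofFinite (FreePrime.Orb (⟨z, hzN⟩ : N) β)
  have hcardO : Fintype.card (FreePrime.Orb (⟨z, hzN⟩ : N) β) = 4 := by
    have h1 := FreePrime.card_eq_mul (⟨z, hzN⟩ : N) hzord hfree
    rw [Fintype.card_subtype_compl, Fintype.card_subtype_eq, ← Nat.card_eq_fintype_card, h] at h1
    omega
  -- the two actions of N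
  let Φ : N →* MulAut (P : Subgroup G) × Equiv.Perm (FreePrime.Orb (⟨z, hzN⟩ : N) β) :=
    (P : Subgroup G).normalizerMonoidHom.prod (FreePrime.orbPerm (β := β) (⟨z, hzN⟩ : N))
  have hsgn : ∀ n : N, Equiv.Perm.sign (FreePrime.orbPerm (β := β) (⟨z, hzN⟩ : N) n) = 1 := by
    intro n
    rw [← FreePrime.sign_eq (⟨z, hzN⟩ : N) hzord hfree (by norm_num) n (Or.inr (by rw [hcardO]; decide))]
    have h1 := sign_eq_one_of_simple hG (MulAction.toPermHom G (Sylow 5 G)) (n : G)
    have hiff : ∀ Q, (MulAction.toPerm (n : G) : Equiv.Perm (Sylow 5 G)) Q ≠ P ↔ Q ≠ P := by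
      intro Q
      simp only [MulAction.toPerm_apply, ne_eq]
      rw [← hNP n, smul_left_cancel_iff]
      rw [hNP n]
    have h2 := Equiv.Perm.sign_subtypePerm (MulAction.toPerm (n : G) : Equiv.Perm (Sylow 5 G))
      (p := fun Q => Q ≠ P) hiff (fun Q hQ e => hQ (by rw [e]; exact hNP n))
    rw [show (MulAction.toPerm n : Equiv.Perm β) = Equiv.Perm.subtypePerm _ hiff from rfl, h2]
    exact h1
  have hker : ∀ n, n ∈ Φ.ker → (n : G) ∈ (P : Subgroup G) := by
    intro n hn
    have hn' : Φ n = 1 := hn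
    have hc : n * (⟨z, hzN⟩ : N) = (⟨z, hzN⟩ : N) * n := by
      have h1 : n ∈ (P : Subgroup G).normalizerMonoidHom.ker := (Prod.ext_iff.mp hn').1
      rw [Subgroup.normalizerMonoidHom_ker, Subgroup.mem_subgroupOf, Subgroup.mem_centralizer_iff] at h1
      exact Subtype.ext (h1 z (hPz ▸ Subgroup.mem_zpowers z)).symm
    have hp : (n : G) ^ 5 = 1 := by
      refine hfaith _ fun Q => ?_
      by_cases hQ : Q = P
      · subst hQ
        exact Sylow.smul_eq_iff_mem_normalizer.mpr (pow_mem n.2 5)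
      · have := FreePrime.pow_smul_eq_of_ker (⟨z, hzN⟩ : N) hzord hc (Prod.ext_iff.mp hn').2 (⟨Q, hQ⟩ : β)
        exact congrArg Subtype.val this
    have hpg : IsPGroup 5 (Subgroup.zpowers (n : G)) := fun ⟨x, hx⟩ => by
      obtain ⟨m, rfl⟩ := Subgroup.mem_zpowers_iff.mp hx
      refine ⟨1, Subtype.ext ?_⟩
      show ((n : G) ^ m) ^ 5 ^ 1 = 1
      rw [pow_one, ← zpow_natCast, ← zpow_mul, mul_comm, zpow_mul, zpow_natCast, hp, one_zpow]
    have h1 := hpg.inf_normalizer_sylow P
    have h2 : (n : G) ∈ Subgroup.zpowers (n : G) ⊓ Subgroup.normalizer (P : Set G) :=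
      ⟨Subgroup.mem_zpowers _, n.2⟩
    rw [h1] at h2
    exact h2.2
  -- the order of N is five times a divisor of 48
  have hrange : Nat.card Φ.range ∣ 48 := by
    haveI : Nontrivial (FreePrime.Orb (⟨z, hzN⟩ : N) β) := Fintype.one_lt_card_iff_nontrivial.mp (by omega)
    have hle : Φ.range ≤ (⊤ : Subgroup (MulAut (P : Subgroup G))).prod
        (alternatingGroup (FreePrime.Orb (⟨z, hzN⟩ : N) β)) := by
      rintro _ ⟨n, rfl⟩
      exact ⟨Subgroup.mem_top _, Equiv.Perm.mem_alternatingGroup.mpr (hsgn n)⟩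
    refine (Subgroup.card_dvd_of_le hle).trans ?_
    rw [Nat.card_congr (Subgroup.prodEquiv _ _).toEquiv, Nat.card_prod, Subgroup.card_top,
      card_mulAut_of_card_prime (hcard5 P)]
    have h2 := two_mul_nat_card_alternatingGroup (α := FreePrime.Orb (⟨z, hzN⟩ : N) β)
    rw [Nat.card_perm, Nat.card_eq_fintype_card (α := FreePrime.Orb (⟨z, hzN⟩ : N) β), hcardO,
      show Nat.factorial 4 = 24 from rfl] at h2
    rw [show Nat.card (alternatingGroup (FreePrime.Orb (⟨z, hzN⟩ : N) β)) = 12 by omega]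
  have hNcard : Nat.card N = 5 * Nat.card Φ.range := by
    have h1 : Φ.ker = (P : Subgroup G).subgroupOf N := by
      refine le_antisymm (fun n hn => hker n hn) fun n hn => ?_
      have hn5 : n ^ 5 = 1 := by
        apply Subtype.ext
        have h3 := pow_card_eq_one' (x := (⟨(n : G), hn⟩ : (P : Subgroup G)))
        rw [hcard5] at h3
        simpa using congrArg Subtype.val h3
      have hd1 : orderOf (Φ n) ∣ 5 := orderOf_dvd_of_pow_eq_one (by rw [← map_pow, hn5, map_one])
      have hd2 : orderOf (Φ n) ∣ 48 := by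
        rw [← Subgroup.orderOf_mk (H := Φ.range) (Φ n) ⟨n, rfl⟩]
        exact (orderOf_dvd_natCard _).trans hrange
      exact orderOf_eq_one_iff.mp (Nat.eq_one_of_dvd_coprimes (by norm_num : Nat.Coprime 5 48) hd1 hd2)
    rw [← Φ.ker.card_mul_index, Subgroup.index_ker, h1,
      Nat.card_congr (Subgroup.subgroupOfEquivOfLe (Subgroup.le_normalizer)).toEquiv, hcard5]
  set m := Nat.card Φ.range with hm
  have hGcard : Nat.card G = 105 * m := by
    rw [← card_sylow_mul_card_normalizer P, h, hNcard]; ring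
  have hm7 : ¬ 7 ∣ m := fun h7 => by
    have := h7.trans hrange
    omega
  have hm5 : ¬ 5 ∣ m := fun h7 => by
    have := h7.trans hrange
    omega
  -- the Sylow 7-subgroup
  obtain ⟨T⟩ : Nonempty (Sylow 7 G) := inferInstance
  have hT : Nat.card (T : Subgroup G) = 7 := by
    simpa using card_sylow_eq (a := 1) (m := 15 * m) (by rw [hGcard]; ring)
      (fun hd => hm7 (((by norm_num : Nat.Prime 7).dvd_mul.mp hd).resolve_left (by norm_num))) T
  obtain ⟨y, hy, hTy⟩ := exists_zpowers_of_card_prime hT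
  set M := Subgroup.normalizer ((T : Subgroup G) : Set G) with hM
  have hyM : y ∈ M := Subgroup.le_normalizer (hTy ▸ Subgroup.mem_zpowers y)
  have hyord : orderOf (⟨y, hyM⟩ : M) = 7 := by rw [Subgroup.orderOf_mk]; exact hy
  haveI hnormM : (Subgroup.zpowers (⟨y, hyM⟩ : M)).Normal := by
    have : Subgroup.zpowers (⟨y, hyM⟩ : M) = (T : Subgroup G).subgroupOf M := by
      apply Subgroup.map_injective M.subtype_injective
      rw [MonoidHom.map_zpowers, Subgroup.subgroupOf_map_subtype, inf_eq_left.mpr Subgroup.le_normalizer, hTy]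
      rfl
    rw [this]
    exact Subgroup.normal_in_normalizer
  have hfree7 : ∀ Q : Sylow 5 G, (⟨y, hyM⟩ : M) • Q ≠ Q := by
    intro Q e
    have hyQ : y ∈ Subgroup.normalizer ((Q : Subgroup G) : Set G) := Sylow.smul_eq_iff_mem_normalizer.mp e
    have h1 := card_sylow_mul_card_normalizer Q
    have h2 : 7 ∣ Nat.card (Subgroup.normalizer ((Q : Subgroup G) : Set G)) := by
      rw [← hy, ← Subgroup.orderOf_mk y hyQ]; exact orderOf_dvd_natCard _
    rw [h, hGcard] at h1
    have h3 : Nat.card (Subgroup.normalizer ((Q : Subgroup G) : Set G)) = 5 * m := by omega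
    rw [h3] at h2
    omega
  haveI := Fintype.ofFinite (FreePrime.Orb (⟨y, hyM⟩ : M) (Sylow 5 G))
  have hcardO7 : Fintype.card (FreePrime.Orb (⟨y, hyM⟩ : M) (Sylow 5 G)) = 3 := by
    have h1 := FreePrime.card_eq_mul (⟨y, hyM⟩ : M) hyord hfree7
    rw [← Nat.card_eq_fintype_card, h] at h1
    omega
  let Ψ : M →* MulAut (T : Subgroup G) × Equiv.Perm (FreePrime.Orb (⟨y, hyM⟩ : M) (Sylow 5 G)) :=
    (T : Subgroup G).normalizerMonoidHom.prod (FreePrime.orbPerm (β := Sylow 5 G) (⟨y, hyM⟩ : M))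
  have hrange7 : Nat.card Ψ.range ∣ 18 := by
    haveI : Nontrivial (FreePrime.Orb (⟨y, hyM⟩ : M) (Sylow 5 G)) := Fintype.one_lt_card_iff_nontrivial.mp (by omega)
    let q : Ψ.range →* MulAut (T : Subgroup G) := (MonoidHom.fst _ _).comp Ψ.range.subtype
    rw [← q.ker.card_mul_index, Subgroup.index_ker, show (18 : ℕ) = 3 * 6 from rfl]
    refine Nat.mul_dvd_mul ?_ ((Subgroup.card_subgroup_dvd_card _).trans (dvd_of_eq (card_mulAut_of_card_prime hT)))
    let r : q.ker →* alternatingGroup (FreePrime.Orb (⟨y, hyM⟩ : M) (Sylow 5 G)) :=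
      ((MonoidHom.snd _ _).comp (Ψ.range.subtype.comp q.ker.subtype)).codRestrict _ (by
        rintro ⟨⟨w, n, rfl⟩, hw⟩
        have hfst : (Ψ n).1 = 1 := hw
        have h1 : n ∈ (T : Subgroup G).normalizerMonoidHom.ker := hfst
        rw [Subgroup.normalizerMonoidHom_ker, Subgroup.mem_subgroupOf, Subgroup.mem_centralizer_iff] at h1
        have hc : n * (⟨y, hyM⟩ : M) = (⟨y, hyM⟩ : M) * n :=
          Subtype.ext (h1 y (hTy ▸ Subgroup.mem_zpowers y)).symm
        rw [Equiv.Perm.mem_alternatingGroup]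
        show Equiv.Perm.sign (FreePrime.orbPerm (β := Sylow 5 G) (⟨y, hyM⟩ : M) n) = 1
        rw [← FreePrime.sign_eq (⟨y, hyM⟩ : M) hyord hfree7 (by norm_num) n (Or.inl hc)]
        exact sign_eq_one_of_simple hG (MulAction.toPermHom G (Sylow 5 G)) (n : G))
    have hr : Function.Injective r := by
      intro u v huv
      refine Subtype.ext (Subtype.ext (Prod.ext ?_ (congrArg Subtype.val huv)))
      have hu : q u.1 = 1 := u.2
      have hv : q v.1 = 1 := v.2
      exact hu.trans hv.symm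
    refine (Subgroup.card_dvd_of_injective r hr).trans (dvd_of_eq ?_)
    have h2 := two_mul_nat_card_alternatingGroup (α := FreePrime.Orb (⟨y, hyM⟩ : M) (Sylow 5 G))
    rw [Nat.card_perm, Nat.card_eq_fintype_card (α := FreePrime.Orb (⟨y, hyM⟩ : M) (Sylow 5 G)), hcardO7,
      show Nat.factorial 3 = 6 from rfl] at h2
    omega
  have hMcard : Nat.card M = 7 * Nat.card Ψ.range := by
    have h1 : Ψ.ker = (T : Subgroup G).subgroupOf M := by
      refine le_antisymm (fun n hn => ?_) fun n hn => ?_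
      · have hn' : Ψ n = 1 := hn
        have hc : n * (⟨y, hyM⟩ : M) = (⟨y, hyM⟩ : M) * n := by
          have h1 : n ∈ (T : Subgroup G).normalizerMonoidHom.ker := (Prod.ext_iff.mp hn').1
          rw [Subgroup.normalizerMonoidHom_ker, Subgroup.mem_subgroupOf, Subgroup.mem_centralizer_iff] at h1
          exact Subtype.ext (h1 y (hTy ▸ Subgroup.mem_zpowers y)).symm
        have hp : (n : G) ^ 7 = 1 := hfaith _ fun Q =>
          FreePrime.pow_smul_eq_of_ker (⟨y, hyM⟩ : M) hyord hc (Prod.ext_iff.mp hn').2 Q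
        have hpg : IsPGroup 7 (Subgroup.zpowers (n : G)) := fun ⟨x, hx⟩ => by
          obtain ⟨l, rfl⟩ := Subgroup.mem_zpowers_iff.mp hx
          refine ⟨1, Subtype.ext ?_⟩
          show ((n : G) ^ l) ^ 7 ^ 1 = 1
          rw [pow_one, ← zpow_natCast, ← zpow_mul, mul_comm, zpow_mul, zpow_natCast, hp, one_zpow]
        have h1 := hpg.inf_normalizer_sylow T
        have h2 : (n : G) ∈ Subgroup.zpowers (n : G) ⊓ Subgroup.normalizer (T : Set G) :=
          ⟨Subgroup.mem_zpowers _, n.2⟩
        rw [h1] at h2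
        exact h2.2
      · have hn7 : n ^ 7 = 1 := by
          apply Subtype.ext
          have h3 := pow_card_eq_one' (x := (⟨(n : G), hn⟩ : (T : Subgroup G)))
          rw [hT] at h3
          simpa using congrArg Subtype.val h3
        have hd1 : orderOf (Ψ n) ∣ 7 := orderOf_dvd_of_pow_eq_one (by rw [← map_pow, hn7, map_one])
        have hd2 : orderOf (Ψ n) ∣ 18 := by
          rw [← Subgroup.orderOf_mk (H := Ψ.range) (Ψ n) ⟨n, rfl⟩]
          exact (orderOf_dvd_natCard _).trans hrange7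
        exact orderOf_eq_one_iff.mp (Nat.eq_one_of_dvd_coprimes (by norm_num : Nat.Coprime 7 18) hd1 hd2)
    rw [← Ψ.ker.card_mul_index, Subgroup.index_ker, h1,
      Nat.card_congr (Subgroup.subgroupOfEquivOfLe (Subgroup.le_normalizer)).toEquiv, hT]
  have hr1 : Nat.card Ψ.range ≠ 1 := by
    intro e
    have h7G : 7 ∣ Nat.card G := by rw [hGcard]; exact dvd_mul_of_dvd_left (by norm_num) _
    refine not_normalizer_le_centralizer hG h7G T fun g hg => ?_
    have hM7 : Nat.card M = 7 := by rw [hMcard, e]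
    have hMT : (T : Subgroup G) = M :=
      Subgroup.eq_of_le_of_card_ge Subgroup.le_normalizer (by rw [hM7, hT])
    have hgT : g ∈ (T : Subgroup G) := by rw [hMT]; exact hg
    rw [hTy] at hgT ⊢
    obtain ⟨a, rfl⟩ := Subgroup.mem_zpowers_iff.mp hgT
    rw [Subgroup.mem_centralizer_iff]
    intro x hx
    obtain ⟨b, rfl⟩ := Subgroup.mem_zpowers_iff.mp hx
    exact zpow_mul_comm _ _ _
  set n7 := Nat.card (Sylow 7 G) with hn7
  have heq7 : n7 * Nat.card Ψ.range = 15 * m := by
    have := card_sylow_mul_card_normalizer T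
    rw [← hn7, hMcard, hGcard] at this
    apply Nat.eq_of_mul_eq_mul_left (by norm_num : 0 < 7)
    linarith
  have hmod7 := mod_eq_one_card_sylow (G := G) (p := 7)
  -- a Sylow 2-subgroup has order at least eight
  have h2m : 2 ∣ m := by
    by_contra h2
    refine not_normalizer_le_centralizer hG h5 P fun g hg => ?_
    have h1 : ((P : Subgroup G).normalizerMonoidHom : N →* _) ⟨g, hg⟩ = 1 := by
      set x := ((P : Subgroup G).normalizerMonoidHom : N →* _) ⟨g, hg⟩ with hx
      have hd1 : orderOf x ∣ 4 := by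
        have := card_mulAut_of_card_prime (hcard5 P)
        exact (orderOf_dvd_natCard x).trans (dvd_of_eq this)
      have hd2 : orderOf x ∣ m := by
        have h3 : orderOf x ∣ orderOf (Φ ⟨g, hg⟩) := orderOf_map_dvd (MonoidHom.fst _ _) (Φ ⟨g, hg⟩)
        refine h3.trans ?_
        rw [← Subgroup.orderOf_mk (H := Φ.range) (Φ ⟨g, hg⟩) ⟨_, rfl⟩]
        exact orderOf_dvd_natCard _
      exact orderOf_eq_one_iff.mp (Nat.eq_one_of_dvd_coprimes (show Nat.Coprime 4 m from
        Nat.Coprime.pow_left 2 ((Nat.prime_two.coprime_iff_not_dvd).mpr h2)) hd1 hd2)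
    have h2' : (⟨g, hg⟩ : N) ∈ (P : Subgroup G).normalizerMonoidHom.ker := h1
    rw [Subgroup.normalizerMonoidHom_ker, Subgroup.mem_subgroupOf] at h2'
    exact h2'
  have h4m : 4 ∣ m := by
    by_contra h4
    have h2G : 2 ∣ Nat.card G := by rw [hGcard]; exact dvd_mul_of_dvd_right h2m _
    obtain ⟨U⟩ : Nonempty (Sylow 2 G) := inferInstance
    obtain ⟨a, ha⟩ := h2m
    have hU : Nat.card (U : Subgroup G) = 2 := by
      simpa using card_sylow_eq (a := 1) (m := 105 * a) (by rw [hGcard, ha]; ring) (by omega) U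
    exact not_normalizer_le_centralizer hG h2G U (IsCyclic.normalizer_le_centralizer
      ((Nat.minFac_eq_two_iff _).mpr h2G) (isCyclic_of_prime_card (p := 2) hU))
  have h8m : 8 ∣ m := by
    have hrpos : 0 < Nat.card Ψ.range := Nat.card_pos
    refine arith m (Nat.mem_divisors.mpr ⟨hrange, by norm_num⟩) _ (Nat.mem_divisors.mpr ⟨hrange7, by norm_num⟩)
      ?_ ?_ hr1 h2m h4m
    · rw [← heq7]; exact Nat.mul_mod_left _ _
    · rw [← heq7, Nat.mul_div_cancel _ hrpos]; exact hmod7
  -- a Sylow 2-subgroup of G inside N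
  obtain ⟨S₀⟩ : Nonempty (Sylow 2 N) := inferInstance
  have hfacG : (Nat.card G).factorization 2 = (Nat.card N).factorization 2 := by
    have h1 := card_sylow_mul_card_normalizer P
    rw [h] at h1
    rw [← h1, Nat.factorization_mul (by norm_num) Nat.card_pos.ne', Finsupp.add_apply,
      Nat.factorization_eq_zero_of_not_dvd (show ¬ 2 ∣ 21 by norm_num), zero_add]
  set S : Subgroup G := (S₀ : Subgroup N).map N.subtype with hS
  have hScard : Nat.card S = 2 ^ (Nat.card G).factorization 2 := by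
    rw [hS, Subgroup.card_map_of_injective N.subtype_injective, S₀.card_eq_multiplicity, hfacG]
  let SS : Sylow 2 G := Sylow.ofCard S hScard
  have hSN : S ≤ N := Subgroup.map_subtype_le _
  -- images of elements of S
  have h24 : ∀ s : S₀, (FreePrime.orbPerm (β := β) (⟨z, hzN⟩ : N) (s : N)) ^ 4 = 1 := by
    intro s
    set σ := FreePrime.orbPerm (β := β) (⟨z, hzN⟩ : N) (s : N) with hσ
    obtain ⟨k, hk⟩ := S₀.2 s
    have hd1 : orderOf σ ∣ 2 ^ k := by
      apply orderOf_dvd_of_pow_eq_one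
      rw [hσ, ← map_pow, ← SubmonoidClass.coe_pow, hk, OneMemClass.coe_one, map_one]
    obtain ⟨l, -, hl⟩ := (Nat.dvd_prime_pow Nat.prime_two).mp hd1
    have hd2 : orderOf σ ∣ 24 := by
      have := orderOf_dvd_natCard σ
      rwa [Nat.card_perm, Nat.card_eq_fintype_card (α := FreePrime.Orb (⟨z, hzN⟩ : N) β), hcardO,
        show Nat.factorial 4 = 24 from rfl] at this
    have hd3 : orderOf σ ∣ 4 := by
      rw [hl] at hd2 ⊢
      rcases l with _ | _ | _ | l
      · norm_num
      · norm_num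
      · norm_num
      · exfalso
        have hpos : 0 < orderOf σ := orderOf_pos σ
        have hmax : orderOf σ ≤ 4 := by
          have hsum : σ.cycleType.sum ≤ 4 := by
            rw [Equiv.Perm.sum_cycleType, ← hcardO]
            exact Finset.card_le_univ _
          have hlcm : σ.cycleType.lcm ∣ 12 := Multiset.lcm_dvd.mpr fun x hx => by
            have h2 := Equiv.Perm.two_le_of_mem_cycleType hx
            have hle := (Multiset.le_sum_of_mem hx).trans hsum
            interval_cases x <;> norm_num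
          rw [Equiv.Perm.lcm_cycleType, hl] at hlcm
          have h8 : 8 ∣ 12 := (Dvd.intro _ (by rw [show (8 : ℕ) = 2 ^ 3 from rfl, ← pow_add]; congr 1; omega :
            (8 : ℕ) * 2 ^ l = 2 ^ (l + 1 + 1 + 1))).trans hlcm
          omega
        have h8 : (8 : ℕ) ≤ 2 ^ (l + 1 + 1 + 1) := le_trans (by norm_num)
          (Nat.pow_le_pow_right (by norm_num) (by omega : 3 ≤ l + 1 + 1 + 1))
        omega
    exact orderOf_dvd_iff_pow_eq_one.mp hd3
  have hinjS : ∀ a b : S₀, Φ (a : N) = Φ (b : N) → a = b := by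
    intro a b hab
    have h1 : ((a * b⁻¹ : S₀) : N) ∈ Φ.ker := by
      rw [MonoidHom.mem_ker, Subgroup.coe_mul, Subgroup.coe_inv, map_mul, map_inv, hab, mul_inv_cancel]
    have h2 := hker _ h1
    obtain ⟨k, hk⟩ := S₀.2 (a * b⁻¹)
    have hd1 : orderOf (a * b⁻¹) ∣ 2 ^ k := orderOf_dvd_of_pow_eq_one hk
    have hd2 : orderOf (a * b⁻¹) ∣ 5 := by
      rw [← Subgroup.orderOf_coe, ← Subgroup.orderOf_coe, ← Subgroup.orderOf_mk _ h2]
      exact (orderOf_dvd_natCard _).trans (dvd_of_eq (hcard5 P))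
    exact mul_inv_eq_one.mp (orderOf_eq_one_iff.mp
      (Nat.eq_one_of_dvd_coprimes (Nat.Coprime.pow_left k (by norm_num : Nat.Coprime 2 5)) hd1 hd2))
  haveI hab : IsMulCommutative (SS : Subgroup G) := by
    have hS0 : ∀ a b : S₀, a * b = b * a := by
      intro a b
      apply hinjS
      rw [Subgroup.coe_mul, Subgroup.coe_mul, map_mul, map_mul]
      refine Prod.ext ?_ (perm_four hcardO _ _ (hsgn _) (hsgn _) (h24 a) (h24 b)).1
      haveI : IsCyclic (P : Subgroup G) := isCyclic_of_prime_card (hcard5 P)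
      apply (IsCyclic.mulAutMulEquiv (P : Subgroup G)).injective
      rw [Prod.fst_mul, Prod.fst_mul, map_mul, map_mul]
      exact mul_comm _ _
    refine ⟨⟨?_⟩⟩
    rintro ⟨_, a, ha, rfl⟩ ⟨_, b, hb, rfl⟩
    exact Subtype.ext (congrArg (fun w : S₀ => ((w : N) : G)) (hS0 ⟨a, ha⟩ ⟨b, hb⟩))
  -- S fixes only P
  let μ := (MonoidHom.fst _ _).comp (Φ.comp (S₀ : Subgroup N).subtype)
  let ν := (MonoidHom.snd _ _).comp (Φ.comp (S₀ : Subgroup N).subtype)
  have h8S : 8 ≤ Nat.card S₀ := by
    have h2 : 8 ∣ Nat.card N := by rw [hNcard]; exact dvd_mul_of_dvd_right h8m _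
    exact Nat.le_of_dvd Nat.card_pos (S₀.pow_dvd_card_of_pow_dvd_card (n := 3) h2)
  have hμν : Nat.card S₀ = Nat.card ν.ker * Nat.card ν.range := by
    rw [← Subgroup.index_ker, Subgroup.card_mul_index]
  have hνker : ∀ s ∈ ν.ker, ∀ t : S₀, μ s = μ t → t ∈ ν.ker → s = t := fun s hs t ht ht2 =>
    hinjS s t (Prod.ext ht ((show ν s = 1 from hs).trans (show ν t = 1 from ht2).symm))
  have hkerle : Nat.card ν.ker ≤ 4 := by
    refine le_trans (Nat.card_le_card_of_injective (fun s : ν.ker => μ s.1)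
      (fun s t e => Subtype.ext (hνker s.1 s.2 t.1 e t.2))) (le_of_eq (card_mulAut_of_card_prime (hcard5 P)))
  obtain ⟨s₁, hs₁⟩ : ∃ s : S₀, ν s ≠ 1 := by
    by_contra hall
    push Not at hall
    have : Nat.card ν.ker = Nat.card S₀ := by
      rw [show ν.ker = ⊤ from eq_top_iff.mpr fun s _ => hall s, Subgroup.card_top]
    omega
  have hνle : Nat.card ν.range ≤ 4 := by
    -- the image is a 2-group of even permutations
    haveI : Nontrivial (FreePrime.Orb (⟨z, hzN⟩ : N) β) := Fintype.one_lt_card_iff_nontrivial.mp (by omega)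
    have h2 := two_mul_nat_card_alternatingGroup (α := FreePrime.Orb (⟨z, hzN⟩ : N) β)
    rw [Nat.card_perm, Nat.card_eq_fintype_card (α := FreePrime.Orb (⟨z, hzN⟩ : N) β), hcardO,
      show Nat.factorial 4 = 24 from rfl] at h2
    have hle : ν.range ≤ alternatingGroup (FreePrime.Orb (⟨z, hzN⟩ : N) β) := by
      rintro _ ⟨s, rfl⟩
      exact Equiv.Perm.mem_alternatingGroup.mpr (hsgn _)
    have h3 := Subgroup.card_dvd_of_le hle
    obtain ⟨k, hk⟩ := IsPGroup.iff_card.mp
      (IsPGroup.of_surjective S₀.2 ν.rangeRestrict ν.rangeRestrict_surjective)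
    rw [show Nat.card (alternatingGroup (FreePrime.Orb (⟨z, hzN⟩ : N) β)) = 12 by omega, hk] at h3
    rw [hk]
    rcases k with _ | _ | _ | k
    · norm_num
    · norm_num
    · norm_num
    · exfalso
      have := (Nat.pow_dvd_pow 2 (show 3 ≤ k + 1 + 1 + 1 by omega)).trans h3
      norm_num at this
  obtain ⟨s₀, hs₀, hs₀1⟩ : ∃ s ∈ ν.ker, s ≠ (1 : S₀) := by
    by_contra hall
    push Not at hall
    have : Nat.card ν.ker = 1 := by
      rw [show ν.ker = ⊥ from eq_bot_iff.mpr fun s hs => hall s hs, Subgroup.card_bot]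
    rw [this, one_mul] at hμν
    omega
  set w : G := ((s₀ : N) : G) with hw
  have hwne : w ≠ 1 := fun e => hs₀1 (Subtype.ext (Subtype.ext e))
  apply hwne
  refine eq_one_of_central_in_normalizer_of_abelian_sylow (commutator_eq_top_of_simple hG) SS
    (show w ∈ S from ⟨(s₀ : N), s₀.2, rfl⟩) fun n hn => ?_
  have hnS : ∀ x, x ∈ S ↔ n * x * n⁻¹ ∈ S := fun x => hn x
  -- n fixes P
  have hnN : n ∈ N := by
    by_contra hnN
    have hQ : n • P ≠ P := fun e => hnN (Sylow.smul_eq_iff_mem_normalizer.mp e)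
    have hfix : ((s₁ : N) : G) • (n • P) = n • P := by
      have hmem : n⁻¹ * ((s₁ : N) : G) * n ∈ S := by
        rw [hnS, show n * (n⁻¹ * ((s₁ : N) : G) * n) * n⁻¹ = ((s₁ : N) : G) by group]
        exact ⟨(s₁ : N), s₁.2, rfl⟩
      have h1 := Sylow.smul_eq_iff_mem_normalizer.mpr (hSN hmem)
      rw [mul_smul, mul_smul, inv_smul_eq_iff] at h1
      exact h1
    have h2 := (perm_four hcardO _ _ (hsgn _) (hsgn _) (h24 s₁) (h24 s₁)).2 hs₁
      (Quotient.mk _ (⟨n • P, hQ⟩ : β))
    apply h2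
    rw [FreePrime.orbPerm_mk]
    exact congrArg _ (Subtype.ext hfix)
  have hmemS : n * w * n⁻¹ ∈ S := (hnS w).mp ⟨(s₀ : N), s₀.2, rfl⟩
  obtain ⟨v, hv, hvw⟩ := hmemS
  have hconj : (⟨v, hv⟩ : S₀) = s₀ := by
    apply hinjS
    have hve : v = (⟨n, hnN⟩ : N) * (s₀ : N) * (⟨n, hnN⟩ : N)⁻¹ := Subtype.ext hvw
    show Φ v = Φ (s₀ : N)
    rw [hve, map_mul, map_mul, map_inv]
    refine Prod.ext ?_ ?_
    · haveI : IsCyclic (P : Subgroup G) := isCyclic_of_prime_card (hcard5 P)
      apply (IsCyclic.mulAutMulEquiv (P : Subgroup G)).injective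
      rw [Prod.fst_mul, Prod.fst_mul, Prod.fst_inv, map_mul, map_mul, map_inv, mul_comm, inv_mul_cancel_left]
    · have h0 : (Φ (s₀ : N)).2 = 1 := hs₀
      rw [Prod.snd_mul, Prod.snd_mul, Prod.snd_inv, h0, mul_one, mul_inv_cancel]
  have h3 : n * w * n⁻¹ = w := by
    have h4 : ((v : N) : G) = n * w * n⁻¹ := hvw
    rw [← h4, hw, ← hconj]
  exact mul_inv_eq_iff_eq_mul.mp h3

end Minimal

theorem main {G : Type*} [Group G] [Finite G] : Nat.card (Sylow 5 G) ≠ 21 := by
  induction hn : Nat.card G using Nat.strong_induction_on generalizing G with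
  | _ n ih =>
  subst hn
  intro h
  haveI : Fact (Nat.Prime 5) := ⟨by norm_num⟩
  by_cases hfaith : ∀ g : G, (∀ Q : Sylow 5 G, g • Q = Q) → g = 1
  · haveI := simple_of_minimal h (fun H hH => ih _ (lt_of_le_of_ne H.card_le_card_group
      fun e => hH (Subgroup.eq_top_of_card_eq _ e)) rfl) hfaith
    exact false_of_simple h
  push Not at hfaith
  obtain ⟨g, hg, hg1⟩ := hfaith
  set K := (MulAction.toPermHom G (Sylow 5 G)).ker
  have hgK : g ∈ K := Equiv.ext fun Q => by simpa using hg Q
  have hlt : Nat.card (G ⧸ K) < Nat.card G := by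
    have h1 := K.card_mul_index
    have h2 : 1 < Nat.card K := Finite.one_lt_card_iff_nontrivial.mpr
      ⟨⟨⟨g, hgK⟩, 1, fun e => hg1 (congrArg Subtype.val e)⟩⟩
    have h3 : 0 < Nat.card (G ⧸ K) := Nat.card_pos
    rw [Subgroup.index_eq_card] at h1
    nlinarith
  exact ih _ hlt rfl ((card_sylow_quotient K fun k hk Q =>
    congrArg (fun σ : Equiv.Perm (Sylow 5 G) => σ Q) hk).trans h)

/-- No finite group has exactly twenty-one Sylow 5-subgroups. -/
theorem result {G : Type*} [Group G] [Finite G] : Nat.card (Sylow 5 G) ≠ 21 := by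
  exact main

end Cfsg.Agent.S1010
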