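import Cfsg.Statements.S0997
import Cfsg.Agent.Lib.SmallGroups.BrauerFew.Tuan

set_option autoImplicit false
open Cfsg

namespace Cfsg.Agent.S0997

/-- Let G be a non-cyclic finite simple group of order p * q^b * g₀, where p and q are distinct primes and g₀ < p - 1. Then either p has the form 2^m + 1 or 2^m - 1 and G is isomorphic to the projective special linear group of dimension 2 over the field with p elements, or p = 2^m + 1 > 3 and G is isomorphic to that group over the field with 2^m elements. -/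
theorem result {G : Type*} [Group G] [Finite G] [IsSimpleGroup G] (hG : ¬ IsCyclic G) (p q b g₀ : ℕ) (hp : p.Prime) (hq : q.Prime) (hpq : p ≠ q) (hG' : Nat.card G = p * q ^ b * g₀) (hg : g₀ < p - 1) : (∃ (m : ℕ) (F : Type) (_ : Field F) (_ : Fintype F), Fintype.card F = p ∧ (p = 2 ^ m + 1 ∨ p = 2 ^ m - 1) ∧ Nonempty (G ≃* Matrix.ProjectiveSpecialLinearGroup (Fin 2) F)) ∨ (∃ (m : ℕ) (F : Type) (_ : Field F) (_ : Fintype F), Fintype.card F = 2 ^ m ∧ p = 2 ^ m + 1 ∧ 3 < p ∧ Nonempty (G ≃* Matrix.ProjectiveSpecialLinearGroup (Fin 2) F)) := by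
  haveI := Fintype.ofFinite G
  haveI : Fact p.Prime := ⟨hp⟩
  have hna : ¬ IsMulCommutative G := fun hc => hG (by
    letI : CommGroup G := { (inferInstance : Group G) with mul_comm := mul_comm' }
    exact isCyclic_of_prime_card (hp := ⟨IsSimpleGroup.prime_card⟩) rfl)
  obtain ⟨h3, ⟨m, hm⟩, ⟨F, iF, iF', hF, hiso⟩ | ⟨m', F, iF, iF', hF, hm', hiso⟩⟩ :=
    CfsgLib.SmallGroups.BrauerFew.tuan hna hq hpq hG' hg
  · exact Or.inl ⟨m, F, iF, iF', hF, hm, hiso⟩
  · exact Or.inr ⟨m', F, iF, iF', hF, hm', h3, hiso⟩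

end Cfsg.Agent.S0997
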