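import Cfsg.Statements.S1003
import Mathlib
import Cfsg.Agent.Lib.SmallGroups.Order168Maximal

set_option autoImplicit false
open Cfsg

namespace Cfsg.Agent.S1003

/-- A simple group of order 168 has exactly 21 Sylow 2-subgroups, 28 Sylow 3-subgroups and 8 Sylow 7-subgroups. -/
theorem result {G : Type*} [Group G] [Finite G] [IsSimpleGroup G] (h : Nat.card G = 168) : Nat.card (Sylow 2 G) = 21 ∧ Nat.card (Sylow 3 G) = 28 ∧ Nat.card (Sylow 7 G) = 8 := by
  obtain ⟨C⟩ := CfsgLib.SmallGroups.Model168.exists_coding h
  haveI := Fact.mk Nat.prime_two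
  haveI := Fact.mk Nat.prime_three
  haveI : Fact (Nat.Prime 7) := ⟨by norm_num⟩
  have hna : ¬ IsMulCommutative G :=
    CfsgLib.SmallGroups.not_isMulCommutative_of_not_prime (by rw [h]; norm_num)
  refine ⟨?_, ?_, ?_⟩
  · obtain ⟨T⟩ : Nonempty (Sylow 2 G) := inferInstance
    have h1 := CfsgLib.SmallGroups.card_sylow_mul_card_normalizer T
    rw [CfsgLib.SmallGroups.Model168.normalizer_sylow_two C h T,
      CfsgLib.SmallGroups.Model168.card_sylow_two h T, h] at h1
    omega
  · have h1 := CfsgLib.SmallGroups.card_sylow_mem_filter (p := 3) (a := 1) (m := 56) (G := G)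
      (by rw [h]; norm_num) (by norm_num)
    have hf : (Finset.range (56 + 1)).filter (fun d => 56 % d = 0 ∧ d % 3 = 1) = {1, 4, 7, 28} := by
      decide
    rw [hf] at h1
    have h56 : Nat.card {g : G // orderOf g = 3} = 56 :=
      (C.card_eq (fun c => decide (CfsgLib.SmallGroups.Model168.pw c 3 =
        CfsgLib.SmallGroups.Model168.one ∧ c ≠ CfsgLib.SmallGroups.Model168.one)) _ fun g => by
        rw [C.orderOf_prime_iff g Nat.prime_three, decide_eq_true_eq]).trans
        CfsgLib.SmallGroups.Model168.count3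
    classical
    haveI := Fintype.ofFinite (Sylow 3 G)
    have hS : ∀ R : Sylow 3 G, Nat.card (R : Subgroup G) = 3 := fun R =>
      (CfsgLib.SmallGroups.card_sylow_eq (p := 3) (a := 1) (m := 56) (by rw [h]; norm_num)
        (by norm_num) R).trans (by norm_num)
    have hle : 56 ≤ Nat.card (Sylow 3 G) * 2 := by
      rw [← h56]
      have hsum : Nat.card (Σ R : Sylow 3 G, {x : (R : Subgroup G) // x ≠ 1}) =
          Nat.card (Sylow 3 G) * 2 := by
        rw [Nat.card_sigma, Finset.sum_congr rfl (g := fun _ => 2) fun R _ => ?_, Finset.sum_const,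
          Finset.card_univ, ← Nat.card_eq_fintype_card, smul_eq_mul]
        haveI := Fintype.ofFinite (R : Subgroup G)
        rw [Nat.card_eq_fintype_card, Fintype.card_subtype_compl, Fintype.card_subtype_eq,
          ← Nat.card_eq_fintype_card, hS]
      rw [← hsum]
      have hex : ∀ x : {g : G // orderOf g = 3}, ∃ R : Sylow 3 G, x.1 ∈ (R : Subgroup G) := fun x => by
        obtain ⟨R, hR⟩ := (IsPGroup.of_card (n := 1) (by rw [Nat.card_zpowers, x.2, pow_one]) :
          IsPGroup 3 (Subgroup.zpowers x.1)).exists_le_sylow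
        exact ⟨R, hR (Subgroup.mem_zpowers _)⟩
      choose R hR using hex
      refine Nat.card_le_card_of_injective (fun x => ⟨R x, ⟨x.1, hR x⟩, fun e => ?_⟩) fun x y e => ?_
      · have h1 : x.1 = 1 := congrArg Subtype.val e
        have h2 := x.2
        rw [h1, orderOf_one] at h2
        omega
      · exact Subtype.ext (congrArg
          (fun z : Σ R : Sylow 3 G, {x : (R : Subgroup G) // x ≠ 1} => ((z.2.1 : _) : G)) e)
    simp only [Finset.mem_insert, Finset.mem_singleton] at h1
    omega
  · have h1 := CfsgLib.SmallGroups.card_sylow_mem_filter (p := 7) (a := 1) (m := 24) (G := G)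
      (by rw [h]; norm_num) (by norm_num)
    have h2 := CfsgLib.SmallGroups.card_sylow_ne_one (G := G) (p := 7) hna (by rw [h]; norm_num)
    have hf : (Finset.range (24 + 1)).filter (fun d => 24 % d = 0 ∧ d % 7 = 1) = {1, 8} := by decide
    rw [hf] at h1
    simp only [Finset.mem_insert, Finset.mem_singleton] at h1
    omega

end Cfsg.Agent.S1003
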