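import Cfsg.Statements.S4782
import Cfsg.Agent.Lib.CharNormal.DegreePrimes.Three

set_option autoImplicit false
open Cfsg

namespace Cfsg.Agent.S4782

/-- If the finite group G is not solvable, then at least three distinct primes each divide some irreducible complex character degree of G. -/
theorem result {G : Type*} [Group G] [Finite G] (hG : ¬ Group.IsSolvable G) : ∃ p q r : ℕ, p ≠ q ∧ q ≠ r ∧ p ≠ r ∧ p ∈ Cfsg.degreePrimes G ∧ q ∈ Cfsg.degreePrimes G ∧ r ∈ Cfsg.degreePrimes G := by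
  obtain ⟨p, hp, -, -⟩ :=
    CfsgLib.CharNormal.DegreePrimes.exists_prime_ne_ne_of_not_solvable Nat.prime_two Nat.prime_two
      _ G rfl hG
  obtain ⟨q, hq, hqp, -⟩ :=
    CfsgLib.CharNormal.DegreePrimes.exists_prime_ne_ne_of_not_solvable hp.1 hp.1 _ G rfl hG
  obtain ⟨r, hr, hrp, hrq⟩ :=
    CfsgLib.CharNormal.DegreePrimes.exists_prime_ne_ne_of_not_solvable hp.1 hq.1 _ G rfl hG
  exact ⟨p, q, r, hqp.symm, hrq.symm, hrp.symm, hp, hq, hr⟩

end Cfsg.Agent.S4782
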