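import Cfsg.Statements.S0981
import Mathlib
import Cfsg.Agent.Lib.SmallGroups.SmallPiece
import Cfsg.Agent.Lib.SmallGroups.EvenCharRecog

set_option autoImplicit false
open Cfsg

namespace Cfsg.Agent.S0981

open CfsgLib.SmallGroups CfsgLib.SmallGroups.SmallPiece

theorem a_cases : ∀ d ∈ Nat.divisors 4080, ∀ e ∈ [(1 : ℤ), -1],
    (17 : ℤ) ∣ e * d - 1 → d ≠ 1 → (e * d + 1).natAbs ∣ 4080 → (e * d + 1).natAbs ≠ 1 → e * d = -16 := by
  decide +kernel

/-- A simple group of order 4080 is isomorphic to the projective special linear group of dimension 2 over the field with 16 elements. -/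
theorem result {G : Type*} [Group G] [Finite G] [IsSimpleGroup G] (h : Nat.card G = 4080) {F : Type*} [Field F] [Fintype F] (hF : Fintype.card F = 16) : Nonempty (G ≃* Matrix.ProjectiveSpecialLinearGroup (Fin 2) F) := by
  classical
  haveI : Fact (Nat.Prime 17) := ⟨by norm_num⟩
  haveI : Fact (Nat.Prime 5) := ⟨by norm_num⟩
  haveI : Fact (Nat.Prime 3) := ⟨by norm_num⟩
  haveI : Fact (Nat.Prime 2) := ⟨Nat.prime_two⟩
  have hna : ¬ IsMulCommutative G := not_isMulCommutative_of_not_prime (by rw [h]; norm_num)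
  have h17 : Nat.card G = 17 ^ 1 * 240 := by rw [h]; norm_num
  have hdvd : 17 ∣ Nat.card G := by rw [h]; norm_num
  obtain ⟨P⟩ : Nonempty (Sylow 17 G) := inferInstance
  have hP : Nat.card (P : Subgroup G) = 17 := SylowFixed.setup h17 (by norm_num) rfl P
  have hn17 : Nat.card (Sylow 17 G) = 120 := by
    have h1 := card_sylow_mem_filter (G := G) (p := 17) h17 (by norm_num)
    rw [show (Finset.range (240 + 1)).filter (fun d => 240 % d = 0 ∧ d % 17 = 1) = {1, 120} by
      decide +kernel] at h1
    simp only [Finset.mem_insert, Finset.mem_singleton] at h1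
    exact h1.resolve_left (card_sylow_ne_one hna hdvd)
  have hN : Nat.card (Subgroup.normalizer ((P : Subgroup G) : Set G)) = 17 * 2 := by
    have hNG := card_sylow_mul_card_normalizer P
    rw [hn17, h] at hNG
    omega
  obtain ⟨s, a, A, hs, ha1, ha2, ha3, ha4, ha5, hAa, hev, heq, hbd, x, hx, hC, hinv, hNx⟩ :=
    PrimeOrderChar.involution_formula_bound_of_simple hna 17 (by norm_num) P hP hdvd hN
  rw [h] at ha2 ha4 heq
  have acase : ∀ b : ℤ, (17 : ℤ) ∣ b - 1 → b.natAbs ∣ 4080 → b.natAbs ≠ 1 → (b + 1).natAbs ∣ 4080 →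
      (b + 1).natAbs ≠ 1 → b = -16 := by
    intro b h1 h2 h3 h4 h5
    have hm := Nat.mem_divisors.mpr ⟨h2, by norm_num⟩
    rcases Int.natAbs_eq b with hb | hb
    · have := a_cases _ hm 1 (by simp)
      rw [one_mul, ← hb] at this
      exact this h1 h3 h4 h5
    · have := a_cases _ hm (-1) (by simp)
      rw [neg_one_mul, ← hb] at this
      exact this h1 h3 h4 h5
  obtain rfl := acase a ha1 ha2 ha3 ha4 ha5
  have hone : ∀ v : G, orderOf v = 2 → IsConj s v := by
    intro v hv
    refine PrimeOrderChar.isConj_of_small_centralizer hna (by norm_num) hx hC hinv hs hNx hv ?_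
    intro b h1 h2 h3 h4 h5
    rw [h] at h2 h4
    rw [acase b h1 h2 h3 h4 h5]
    have hd : Nat.card (Subgroup.centralizer ({v} : Set G)) ∣ 240 := by
      refine (Nat.Coprime.dvd_mul_left ?_).mp
        ((Subgroup.card_subgroup_dvd_card _).trans (dvd_of_eq (by rw [h] : Nat.card G = 17 * 240)))
      refine ((Nat.Prime.coprime_iff_not_dvd (by norm_num)).mpr fun h' => ?_).symm
      have := orderOf_dvd_of_prime_dvd_centralizer P hP hx hC h'
      rw [hv] at this
      norm_num at this
    have := Nat.le_of_dvd (by norm_num) hd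
    norm_num
    omega
  have h16 : 2 ^ 4 ∣ Nat.card (Subgroup.centralizer ({s} : Set G)) :=
    two_part_dvd_centralizer hone (by norm_num) (m := 255) (by rw [h]; norm_num) (by norm_num)
  have hc : ∀ v : G, orderOf v = 2 → Nat.card (Subgroup.centralizer ({v} : Set G)) = 16 := by
    intro v hv
    rw [CfsgLib.Invol.card_centralizer_of_isConj (hone v hv)]
    have hpos : 0 < Nat.card (Subgroup.centralizer ({s} : Set G)) := Nat.card_pos
    generalize Nat.card (Subgroup.centralizer ({s} : Set G)) = c at heq hbd h16 hpos ⊢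
    have hsq : (c : ℤ) ^ 2 = (-16 - A) ^ 2 := by push_cast at heq; linarith
    have hA : |A| ≤ 4 ∧ (c : ℤ) ≤ 16 + |A| := by
      have h1 : (c : ℤ) ≤ 16 + |A| := by
        have := sq_eq_sq_iff_abs_eq_abs _ _ |>.mp hsq
        rw [abs_of_nonneg (Int.natCast_nonneg c)] at this
        rw [this]
        exact (abs_sub _ _).trans (by norm_num)
      refine ⟨?_, h1⟩
      nlinarith [abs_nonneg A, sq_abs A]
    obtain ⟨k, rfl⟩ := h16
    push_cast at hA
    have hk : k = 1 := by omega
    subst hk
    norm_num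
  -- elements of order seventeen
  have hX17 : 1920 ≤ Nat.card {y : G // orderOf y = 17} := by
    have hPx : Nat.card (Subgroup.zpowers x) = 17 := by rw [Nat.card_zpowers, hx]
    have hord : ∀ g ∈ Subgroup.zpowers x, g ≠ 1 → orderOf g = 17 := fun g hg hg1 =>
      (((Nat.dvd_prime (by norm_num)).mp (hPx ▸ Subgroup.orderOf_dvd_natCard _ hg))).resolve_left
        fun h => hg1 (orderOf_eq_one_iff.mp h)
    have h1 := EvenCharRecog.card_conjugates_le (C := Subgroup.zpowers x) (fun g hg hg1 => by
      refine (Subgroup.eq_of_le_of_card_ge (fun u hu => ?_) ?_).symm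
      · rw [Subgroup.mem_centralizer_singleton_iff]
        obtain ⟨i, rfl⟩ := Subgroup.mem_zpowers_iff.mp hg
        obtain ⟨j, rfl⟩ := Subgroup.mem_zpowers_iff.mp hu
        exact (Commute.zpow_zpow (Commute.refl x) j i).eq
      · rw [card_centralizer_eq P hP hx hC (hord g hg hg1), hPx]) (fun y => orderOf y = 17)
      (fun g hg hg1 k => by rw [CfsgLib.Invol.orderOf_conj_eq]; exact hord g hg hg1)
    have hidx := (Subgroup.normalizer ((Subgroup.zpowers x : Subgroup G) : Set G)).card_mul_index
    rw [hNx, h] at hidx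
    rw [hPx] at h1
    omega
  -- the centraliser of a Sylow subgroup of order five
  have h5G : Nat.card G = 5 ^ 1 * 816 := by rw [h]; norm_num
  have h5d : 5 ∣ Nat.card G := by rw [h]; norm_num
  obtain ⟨R⟩ : Nonempty (Sylow 5 G) := inferInstance
  have hR : Nat.card (R : Subgroup G) = 5 := SylowFixed.setup h5G (by norm_num) rfl R
  set N := Subgroup.normalizer ((R : Subgroup G) : Set G) with hNdef
  set C := Subgroup.centralizer ((R : Subgroup G) : Set G) with hCdef
  obtain ⟨z, hz, hRz⟩ := exists_zpowers_of_card_prime hR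
  have hzR : z ∈ (R : Subgroup G) := hRz ▸ Subgroup.mem_zpowers z
  have hzne : orderOf z ≠ 1 := by omega
  have hRC : (R : Subgroup G) ≤ C := by
    haveI : IsMulCommutative (R : Subgroup G) :=
      haveI := isCyclic_of_prime_card (p := 5) hR
      inferInstance
    exact Subgroup.le_centralizer _
  have hCN : C ≤ N := Subgroup.centralizer_le_normalizer _
  -- no element commuting with a non-trivial element of odd order dividing fifteen is an involution
  have hodd : ∀ g : G, orderOf g ∣ 15 → g ≠ 1 → ∀ H : Subgroup G,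
      (∀ u ∈ H, u * g = g * u) → Nat.card H ∣ 15 := by
    intro g hg hg1 H hH
    have hgne : ¬ orderOf g = 1 := fun h => hg1 (orderOf_eq_one_iff.mp h)
    refine (Nat.Coprime.dvd_mul_right ?_).mp
      ((Subgroup.card_subgroup_dvd_card _).trans (dvd_of_eq (by rw [h] : Nat.card G = 15 * 272)))
    rw [show (272 : ℕ) = 2 ^ 4 * 17 by norm_num]
    refine Nat.Coprime.mul_right (Nat.Coprime.pow_right 4 ?_) ?_
    · refine ((Nat.Prime.coprime_iff_not_dvd Nat.prime_two).mpr fun h' => ?_).symm
      obtain ⟨⟨v, hv⟩, hvo⟩ := exists_prime_orderOf_dvd_card' 2 h'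
      rw [Subgroup.orderOf_mk] at hvo
      have h8' : orderOf g ∣ 16 := hc v hvo ▸ Subgroup.orderOf_dvd_natCard _ (by
        rw [Subgroup.mem_centralizer_singleton_iff]; exact (hH v hv).symm)
      exact hgne (Nat.eq_one_of_dvd_coprimes (by norm_num : Nat.Coprime 16 15) h8' hg)
    · refine ((Nat.Prime.coprime_iff_not_dvd (by norm_num)).mpr fun h' => ?_).symm
      obtain ⟨⟨v, hv⟩, hvo⟩ := exists_prime_orderOf_dvd_card' 17 h'
      rw [Subgroup.orderOf_mk] at hvo
      have h17' : orderOf g ∣ 17 := card_centralizer_eq P hP hx hC hvo ▸ Subgroup.orderOf_dvd_natCard _ (by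
        rw [Subgroup.mem_centralizer_singleton_iff]; exact (hH v hv).symm)
      exact hgne (Nat.eq_one_of_dvd_coprimes (by norm_num : Nat.Coprime 17 15) h17' hg)
  have hC15 : Nat.card C ∣ 15 := hodd z (by rw [hz]; norm_num) (fun e => hzne (by rw [e, orderOf_one])) C
    (fun u hu => (Subgroup.mem_centralizer_iff.mp hu z hzR).symm)
  have hn5 : Nat.card (Sylow 5 G) = 136 := by
    have h1 := card_sylow_mem_filter (G := G) (p := 5) h5G (by norm_num)
    rw [show (Finset.range (816 + 1)).filter (fun d => 816 % d = 0 ∧ d % 5 = 1) = {1, 6, 16, 51, 136, 816} by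
      decide +kernel] at h1
    simp only [Finset.mem_insert, Finset.mem_singleton] at h1
    have hfac := two_mul_card_dvd_factorial_card_sylow hna h5d
    have hNG := card_sylow_mul_card_normalizer R
    rw [← hNdef] at hNG
    rcases h1 with e | e | e | e | e | e
    · exact absurd e (card_sylow_ne_one hna h5d)
    · rw [e, h] at hfac; norm_num [Nat.factorial] at hfac
    · rw [e, h] at hfac; norm_num [Nat.factorial] at hfac
    · rw [e, h] at hNG
      have h2 : 80 ∣ (5 - 1) * Nat.card C := by
        have h3 := card_normalizer_dvd_of_card_prime (p := 5) hR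
        rw [← hNdef, ← hCdef, show Nat.card N = 80 by omega] at h3
        exact h3
      have h3 := h2.trans (Nat.mul_dvd_mul_left 4 hC15)
      norm_num at h3
    · exact e
    · rw [e, h] at hNG
      refine absurd ?_ (not_normalizer_le_centralizer hna h5d R)
      rw [← hNdef, ← hCdef]
      refine le_trans (le_of_eq ?_) hRC
      exact (Subgroup.eq_of_le_of_card_ge (H := (R : Subgroup G)) Subgroup.le_normalizer
        (by rw [← hNdef, hR]; omega)).symm
  have hC15' : Nat.card C = 15 := by
    have hNG := card_sylow_mul_card_normalizer R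
    rw [← hNdef, hn5, h] at hNG
    have h3 := card_normalizer_dvd_of_card_prime (p := 5) hR
    rw [← hNdef, ← hCdef, show Nat.card N = 30 by omega] at h3
    refine Nat.dvd_antisymm hC15 ?_
    exact (Nat.Coprime.dvd_mul_left (by norm_num : Nat.Coprime 15 (5 - 1))).mp (dvd_trans (by norm_num) h3)
  have hCcomm : ∀ u ∈ C, ∀ w ∈ C, u * w = w * u := by
    obtain ⟨⟨y, hy⟩, hyo⟩ := exists_prime_orderOf_dvd_card' (G := C) 3 (by rw [hC15']; norm_num)
    rw [Subgroup.orderOf_mk] at hyo
    have hyz : Commute y z := (Subgroup.mem_centralizer_iff.mp hy z hzR).symm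
    have hgen : Subgroup.zpowers (y * z) = C := Subgroup.eq_of_le_of_card_ge
      (Subgroup.zpowers_le.mpr (mul_mem hy (hRC hzR))) (by
        rw [Nat.card_zpowers, hyz.orderOf_mul_eq_mul_orderOf_of_coprime (by rw [hyo, hz]; norm_num),
          hyo, hz, hC15'])
    intro u hu w hw
    rw [← hgen] at hu hw
    obtain ⟨i, rfl⟩ := Subgroup.mem_zpowers_iff.mp hu
    obtain ⟨j, rfl⟩ := Subgroup.mem_zpowers_iff.mp hw
    exact (Commute.zpow_zpow (Commute.refl _) i j).eq
  have hX15 : 1904 ≤ Nat.card {y : G // orderOf y ∣ 15 ∧ y ≠ 1} := by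
    have hord : ∀ g ∈ C, orderOf g ∣ 15 := fun g hg => hC15' ▸ Subgroup.orderOf_dvd_natCard _ hg
    have hself : ∀ g ∈ C, g ≠ 1 → Subgroup.centralizer ({g} : Set G) = C := by
      intro g hg hg1
      refine (Subgroup.eq_of_le_of_card_ge (fun u hu => ?_) ?_).symm
      · rw [Subgroup.mem_centralizer_singleton_iff]
        exact hCcomm u hu g hg
      · rw [hC15']
        exact Nat.le_of_dvd (by norm_num) (hodd g (hord g hg) hg1 _
          (fun u hu => Subgroup.mem_centralizer_singleton_iff.mp hu))
    have h1 := EvenCharRecog.card_conjugates_le (C := C) hself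
      (fun y => orderOf y ∣ 15 ∧ y ≠ 1) (fun g hg hg1 k =>
        ⟨by rw [CfsgLib.Invol.orderOf_conj_eq]; exact hord g hg, fun e => hg1 (conj_eq_one_iff.mp e)⟩)
    have hle : Subgroup.normalizer (C : Set G) ≤ N := by
      intro m hm
      have hzm : m * z * m⁻¹ ∈ (R : Subgroup G) := by
        have hmem : m * z * m⁻¹ ∈ C := (Subgroup.mem_normalizer_iff.mp hm z).mp (hRC hzR)
        have hp : IsPGroup 5 (Subgroup.zpowers (m * z * m⁻¹)) := IsPGroup.of_card (n := 1)
          (by rw [Nat.card_zpowers, CfsgLib.Invol.orderOf_conj_eq, hz, pow_one])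
        have h5 : Subgroup.zpowers (m * z * m⁻¹) ≤ Subgroup.normalizer (R : Set G) :=
          Subgroup.zpowers_le.mpr (hCN hmem)
        have h6 := hp.inf_normalizer_sylow R
        rw [inf_eq_left.mpr h5] at h6
        exact (h6 ▸ Subgroup.mem_zpowers _ :
          m * z * m⁻¹ ∈ Subgroup.zpowers (m * z * m⁻¹) ⊓ (R : Subgroup G)).2
      have hmap : (R : Subgroup G).map (MulAut.conj m).toMonoidHom = (R : Subgroup G) := by
        refine Subgroup.eq_of_le_of_card_ge ?_ (Subgroup.card_map_of_injective (MulAut.conj m).injective).ge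
        rw [hRz, MonoidHom.map_zpowers, Subgroup.zpowers_le, ← hRz]
        simpa using hzm
      refine Subgroup.mem_normalizer_iff.mpr fun u => ?_
      conv_rhs => rw [← hmap]
      rw [Subgroup.mem_map_equiv]
      simp [mul_assoc]
    have hidx : N.index ≤ (Subgroup.normalizer (C : Set G)).index :=
      Nat.le_of_dvd (Nat.pos_of_ne_zero Subgroup.index_ne_zero_of_finite) (Subgroup.index_dvd_of_le hle)
    rw [hNdef, ← card_sylow_eq_index, hn5] at hidx
    rw [hC15'] at h1
    omega
  have hI := card_involutions_mul hs hone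
  rw [hc s hs, h] at hI
  have hcov := cover_of_card (1 : G) (fun y => orderOf y = 2) (fun y => orderOf y = 17)
    (fun y => orderOf y ∣ 15 ∧ y ≠ 1) (by simp) (by simp) (by simp)
    (fun y h1 => by simp [h1]) (fun y h1 => by simp [h1]) (fun y h1 => by simp [h1])
    (by rw [h]; omega)
  refine EvenCharRecog.nonempty_psl_even (f := 4) (by norm_num) (by rw [h]; norm_num)
    (fun y hy => ?_) (fun t ht => by rw [hc t ht]; norm_num) (by rw [h]; omega) (by rw [hF]; norm_num)
  have hy16 : orderOf y ∣ 16 := orderOf_dvd_of_pow_eq_one (by simpa using hy)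
  rcases hcov y with rfl | e | e | ⟨e, -⟩
  · exact one_mul 1
  · rw [← pow_two, ← e, pow_orderOf_eq_one]
  · rw [e] at hy16; norm_num at hy16
  · rw [orderOf_eq_one_iff.mp (Nat.eq_one_of_dvd_coprimes (by norm_num : Nat.Coprime 16 15) hy16 e), one_mul]

end Cfsg.Agent.S0981
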