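import Cfsg.Statements.S0984
import Cfsg.Agent.Lib.SmallGroups.Order2520.Generators

set_option autoImplicit false
open Cfsg

namespace Cfsg.Agent.S0984

/-- A simple group of order 2520 is isomorphic to the alternating group of degree 7. -/
theorem result {G : Type*} [Group G] [Finite G] [IsSimpleGroup G] (h : Nat.card G = 2520) : Nonempty (G ≃* alternatingGroup (Fin 7)) := by
  haveI : Fact (Nat.Prime 3) := ⟨by norm_num⟩
  have hG : ¬ IsMulCommutative G :=
    CfsgLib.SmallGroups.not_isMulCommutative_of_not_prime (by rw [h]; norm_num)
  by_cases hno : Nonempty (G ≃* alternatingGroup (Fin 7))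
  · exact hno
  · exact CfsgLib.SmallGroups.Order2520.exists_iso
      (CfsgLib.SmallGroups.Order2520.counts hG h hno) hG

end Cfsg.Agent.S0984
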