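import Cfsg.Statements.S1011
import Mathlib
import Cfsg.Agent.Lib.SmallGroups.SmallPiece
import Cfsg.Agent.Lib.SmallGroups.EvenCharRecog

set_option autoImplicit false
open Cfsg

namespace Cfsg.Agent.S1011

open CfsgLib.SmallGroups CfsgLib.SmallGroups.SmallPiece

theorem a_cases : ∀ d ∈ Nat.divisors 504, ∀ e ∈ [(1 : ℤ), -1],
    (7 : ℤ) ∣ e * d - 1 → d ≠ 1 → (e * d + 1).natAbs ∣ 504 → (e * d + 1).natAbs ≠ 1 → e * d = 8 := by
  decide +kernel

/-- A simple group of order 504 is isomorphic to the projective special linear group of dimension 2 over the field with 8 elements. -/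
theorem result {G : Type*} [Group G] [Finite G] [IsSimpleGroup G] (h : Nat.card G = 504) {F : Type*} [Field F] [Fintype F] (hF : Fintype.card F = 8) : Nonempty (G ≃* Matrix.ProjectiveSpecialLinearGroup (Fin 2) F) := by
  classical
  haveI : Fact (Nat.Prime 7) := ⟨by norm_num⟩
  haveI : Fact (Nat.Prime 3) := ⟨by norm_num⟩
  haveI : Fact (Nat.Prime 2) := ⟨Nat.prime_two⟩
  have hna : ¬ IsMulCommutative G := not_isMulCommutative_of_not_prime (by rw [h]; norm_num)
  have h7 : Nat.card G = 7 ^ 1 * 72 := by rw [h]; norm_num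
  have hdvd : 7 ∣ Nat.card G := by rw [h]; norm_num
  obtain ⟨P⟩ : Nonempty (Sylow 7 G) := inferInstance
  have hP : Nat.card (P : Subgroup G) = 7 := SylowFixed.setup h7 (by norm_num) rfl P
  have hn7 : Nat.card (Sylow 7 G) = 36 := by
    have h1 := card_sylow_mem_filter (G := G) (p := 7) h7 (by norm_num)
    rw [show (Finset.range (72 + 1)).filter (fun d => 72 % d = 0 ∧ d % 7 = 1) = {1, 8, 36} by
      decide +kernel] at h1
    simp only [Finset.mem_insert, Finset.mem_singleton] at h1
    rcases h1 with e | e | e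
    · exact absurd e (card_sylow_ne_one hna hdvd)
    · have h5 := SylowFixed.card_normalizer_dvd hna hdvd P hP (by omega)
      have hNG := card_sylow_mul_card_normalizer P
      rw [e, h] at hNG
      rw [e, show Nat.card (Subgroup.normalizer ((P : Subgroup G) : Set G)) = 63 by omega] at h5
      norm_num [Nat.factorial] at h5
    · exact e
  have hN : Nat.card (Subgroup.normalizer ((P : Subgroup G) : Set G)) = 7 * 2 := by
    have hNG := card_sylow_mul_card_normalizer P
    rw [hn7, h] at hNG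
    omega
  obtain ⟨s, a, A, hs, ha1, ha2, ha3, ha4, ha5, hAa, hev, heq, hbd, x, hx, hC, hinv, hNx⟩ :=
    PrimeOrderChar.involution_formula_bound_of_simple hna 7 (by norm_num) P hP hdvd hN
  rw [h] at ha2 ha4 heq
  have acase : ∀ b : ℤ, (7 : ℤ) ∣ b - 1 → b.natAbs ∣ 504 → b.natAbs ≠ 1 → (b + 1).natAbs ∣ 504 →
      (b + 1).natAbs ≠ 1 → b = 8 := by
    intro b h1 h2 h3 h4 h5
    have hm := Nat.mem_divisors.mpr ⟨h2, by norm_num⟩
    rcases Int.natAbs_eq b with hb | hb
    · have := a_cases _ hm 1 (by simp)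
      rw [one_mul, ← hb] at this
      exact this h1 h3 h4 h5
    · have := a_cases _ hm (-1) (by simp)
      rw [neg_one_mul, ← hb] at this
      exact this h1 h3 h4 h5
  obtain rfl := acase a ha1 ha2 ha3 ha4 ha5
  have hc7 : ∀ v : G, orderOf v = 2 → Nat.card (Subgroup.centralizer ({v} : Set G)) ∣ 72 := by
    intro v hv
    refine (Nat.Coprime.dvd_mul_left ?_).mp
      ((Subgroup.card_subgroup_dvd_card _).trans (dvd_of_eq (by rw [h] : Nat.card G = 7 * 72)))
    refine ((Nat.Prime.coprime_iff_not_dvd (by norm_num)).mpr fun h' => ?_).symm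
    have := orderOf_dvd_of_prime_dvd_centralizer P hP hx hC h'
    rw [hv] at this
    norm_num at this
  have hone : ∀ v : G, orderOf v = 2 → IsConj s v := by
    intro v hv
    refine PrimeOrderChar.isConj_of_small_centralizer hna (by norm_num) hx hC hinv hs hNx hv ?_
    intro b h1 h2 h3 h4 h5
    rw [h] at h2 h4
    rw [acase b h1 h2 h3 h4 h5]
    have hle := Nat.le_of_dvd (by norm_num) (hc7 v hv)
    have hne : Nat.card (Subgroup.centralizer ({v} : Set G)) ≠ 72 := by
      intro e
      refine SylowFixed.index_ne_of_alternating hna (m := 7) (j := 5) (by norm_num) (by norm_num)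
        (by norm_num [Nat.factorial]) (by rw [h]; norm_num [Nat.factorial])
        (Subgroup.centralizer ({v} : Set G)) ?_
      have := (Subgroup.centralizer ({v} : Set G)).card_mul_index
      rw [e, h] at this
      omega
    obtain ⟨k, hk⟩ := hc7 v hv
    have hk2 : 2 ≤ k := by
      rcases Nat.lt_or_ge k 2 with hk' | hk'
      · interval_cases k <;> omega
      · exact hk'
    have : Nat.card (Subgroup.centralizer ({v} : Set G)) ≤ 36 := by nlinarith
    norm_num
    omega
  have h8 : 2 ^ 3 ∣ Nat.card (Subgroup.centralizer ({s} : Set G)) :=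
    two_part_dvd_centralizer hone (by norm_num) (m := 63) (by rw [h]; norm_num) (by norm_num)
  have hc : ∀ v : G, orderOf v = 2 → Nat.card (Subgroup.centralizer ({v} : Set G)) = 8 := by
    intro v hv
    rw [CfsgLib.Invol.card_centralizer_of_isConj (hone v hv)]
    generalize Nat.card (Subgroup.centralizer ({s} : Set G)) = c at heq hbd h8 ⊢
    have hsq : (c : ℤ) ^ 2 = (8 - A) ^ 2 := by push_cast at heq; linarith
    have hA : A.natAbs ≤ 3 := by
      have h1 : (c : ℤ) ≤ 8 + |A| := by
        have := sq_eq_sq_iff_abs_eq_abs _ _ |>.mp hsq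
        rw [abs_of_nonneg (Int.natCast_nonneg c)] at this
        rw [this]
        exact (abs_sub _ _).trans (by norm_num)
      have h2 : (|A|) ^ 2 = A ^ 2 := sq_abs A
      have h3 : (A.natAbs : ℤ) = |A| := Int.natCast_natAbs A
      have : |A| ≤ 3 := by nlinarith [abs_nonneg A]
      omega
    obtain ⟨k, rfl⟩ := h8
    have hk0 : 0 < 2 ^ 3 * k := by
      rcases Nat.eq_zero_or_pos (2 ^ 3 * k) with h0 | h0
      · rw [h0] at hbd; push_cast at hbd; nlinarith
      · exact h0
    have hk : k ≤ 1 := by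
      by_contra hk
      have h16 : (16 : ℤ) ≤ ((2 ^ 3 * k : ℕ) : ℤ) := by push_cast; omega
      have : A ≤ 3 ∧ -3 ≤ A := by omega
      nlinarith
    obtain rfl : k = 1 := by omega
    norm_num
  -- elements of order seven
  have hX7 : 216 ≤ Nat.card {y : G // orderOf y = 7} := by
    have hPx : Nat.card (Subgroup.zpowers x) = 7 := by rw [Nat.card_zpowers, hx]
    have h1 := EvenCharRecog.card_conjugates_le (C := Subgroup.zpowers x) (fun g hg hg1 => by
      have hgo : orderOf g = 7 := (((Nat.dvd_prime (by norm_num)).mp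
        (hPx ▸ Subgroup.orderOf_dvd_natCard _ hg))).resolve_left fun h => hg1 (orderOf_eq_one_iff.mp h)
      refine (Subgroup.eq_of_le_of_card_ge (fun u hu => ?_) ?_).symm
      · rw [Subgroup.mem_centralizer_singleton_iff]
        obtain ⟨i, rfl⟩ := Subgroup.mem_zpowers_iff.mp hg
        obtain ⟨j, rfl⟩ := Subgroup.mem_zpowers_iff.mp hu
        exact (Commute.zpow_zpow (Commute.refl x) j i).eq
      · rw [card_centralizer_eq P hP hx hC hgo, hPx]) (fun y => orderOf y = 7) (fun g hg hg1 k => by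
      rw [CfsgLib.Invol.orderOf_conj_eq]
      exact (((Nat.dvd_prime (by norm_num)).mp
        (hPx ▸ Subgroup.orderOf_dvd_natCard _ hg))).resolve_left fun h => hg1 (orderOf_eq_one_iff.mp h))
    have hidx := (Subgroup.normalizer ((Subgroup.zpowers x : Subgroup G) : Set G)).card_mul_index
    rw [hNx, h] at hidx
    rw [hPx] at h1
    omega
  -- Sylow subgroups of order nine
  have h3G : Nat.card G = 3 ^ 2 * 56 := by rw [h]; norm_num
  have hQc : ∀ Q : Sylow 3 G, Nat.card (Q : Subgroup G) = 9 := fun Q =>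
    (card_sylow_eq h3G (by norm_num) Q).trans (by norm_num)
  have hQab : ∀ (Q : Sylow 3 G), ∀ u ∈ (Q : Subgroup G), ∀ w ∈ (Q : Subgroup G), u * w = w * u := by
    intro Q u hu w hw
    haveI : IsMulCommutative (Q : Subgroup G) :=
      IsPGroup.isMulCommutative_of_card_eq_prime_sq (p := 3) (card_sylow_eq h3G (by norm_num) Q)
    exact congrArg Subtype.val (mul_comm' (⟨u, hu⟩ : (Q : Subgroup G)) ⟨w, hw⟩)
  have hQord : ∀ (Q : Sylow 3 G), ∀ g ∈ (Q : Subgroup G), orderOf g ∣ 9 := fun Q g hg =>
    hQc Q ▸ Subgroup.orderOf_dvd_natCard _ hg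
  have hCQ : ∀ (Q : Sylow 3 G), ∀ g ∈ (Q : Subgroup G), g ≠ 1 →
      Subgroup.centralizer ({g} : Set G) = Q := by
    intro Q g hg hg1
    have hgne : ¬ orderOf g = 1 := fun h => hg1 (orderOf_eq_one_iff.mp h)
    refine (Subgroup.eq_of_le_of_card_ge (fun u hu => ?_) ?_).symm
    · rw [Subgroup.mem_centralizer_singleton_iff]
      exact hQab Q u hu g hg
    · rw [hQc]
      refine Nat.le_of_dvd (by norm_num) ?_
      refine (Nat.Coprime.dvd_mul_right ?_).mp
        ((Subgroup.card_subgroup_dvd_card _).trans (dvd_of_eq (by rw [h] : Nat.card G = 9 * 56)))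
      rw [show (56 : ℕ) = 2 ^ 3 * 7 by norm_num]
      refine Nat.Coprime.mul_right (Nat.Coprime.pow_right 3 ?_) ?_
      · refine ((Nat.Prime.coprime_iff_not_dvd Nat.prime_two).mpr fun h' => ?_).symm
        obtain ⟨⟨v, hv⟩, hvo⟩ := exists_prime_orderOf_dvd_card' 2 h'
        rw [Subgroup.orderOf_mk] at hvo
        have h8' : orderOf g ∣ 8 := hc v hvo ▸ Subgroup.orderOf_dvd_natCard _ (by
          rw [Subgroup.mem_centralizer_singleton_iff] at hv ⊢; exact hv.symm)
        exact hgne (Nat.eq_one_of_dvd_coprimes (by norm_num : Nat.Coprime 8 9) h8' (hQord Q g hg))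
      · refine ((Nat.Prime.coprime_iff_not_dvd (by norm_num)).mpr fun h' => ?_).symm
        exact hgne (Nat.eq_one_of_dvd_coprimes (by norm_num : Nat.Coprime 7 9)
          (orderOf_dvd_of_prime_dvd_centralizer P hP hx hC h') (hQord Q g hg))
  have hn3 : Nat.card (Sylow 3 G) = 28 := by
    have h1 := card_sylow_mem_filter (G := G) (p := 3) h3G (by norm_num)
    rw [show (Finset.range (56 + 1)).filter (fun d => 56 % d = 0 ∧ d % 3 = 1) = {1, 4, 7, 28} by
      decide +kernel] at h1
    have hne := card_sylow_ne_one (G := G) (p := 3) hna (by rw [h]; norm_num)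
    haveI : Nontrivial (Sylow 3 G) := Finite.one_lt_card_iff_nontrivial.mp (by
      have := Nat.card_pos (α := Sylow 3 G); omega)
    obtain ⟨Q⟩ : Nonempty (Sylow 3 G) := inferInstance
    obtain ⟨R, hR⟩ := exists_ne Q
    have hle : 9 ≤ Nat.card (Sylow 3 G) := by
      rw [← hQc Q]
      refine Nat.card_le_card_of_injective (fun y : (Q : Subgroup G) => (y : G) • R) ?_
      intro y y' e
      by_contra hne'
      have hz : ((y : G)⁻¹ * y') • R = R := by
        rw [mul_smul, show (y' : G) • R = (y : G) • R from e.symm, inv_smul_smul]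
      have hzQ : (y : G)⁻¹ * y' ∈ (Q : Subgroup G) := mul_mem (inv_mem y.2) y'.2
      have hz1 : (y : G)⁻¹ * y' ≠ 1 := fun e => hne' (Subtype.ext (inv_mul_eq_one.mp e))
      have hp : IsPGroup 3 (Subgroup.zpowers ((y : G)⁻¹ * y')) := Q.2.to_le (Subgroup.zpowers_le.mpr hzQ)
      have h5 : Subgroup.zpowers ((y : G)⁻¹ * y') ≤ Subgroup.normalizer (R : Set G) :=
        Subgroup.zpowers_le.mpr (Sylow.smul_eq_iff_mem_normalizer.mp hz)
      have h6 := hp.inf_normalizer_sylow R
      rw [inf_eq_left.mpr h5] at h6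
      have hzR : (y : G)⁻¹ * y' ∈ (R : Subgroup G) :=
        (h6 ▸ Subgroup.mem_zpowers _ : (y : G)⁻¹ * y' ∈ Subgroup.zpowers ((y : G)⁻¹ * y') ⊓ (R : Subgroup G)).2
      exact hR (Sylow.ext ((hCQ R _ hzR hz1).symm.trans (hCQ Q _ hzQ hz1)))
    simp only [Finset.mem_insert, Finset.mem_singleton] at h1
    omega
  have hX3 : 224 ≤ Nat.card {y : G // orderOf y ∣ 9 ∧ y ≠ 1} := by
    obtain ⟨Q⟩ : Nonempty (Sylow 3 G) := inferInstance
    have h1 := EvenCharRecog.card_conjugates_le (C := (Q : Subgroup G)) (hCQ Q)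
      (fun y => orderOf y ∣ 9 ∧ y ≠ 1) (fun g hg hg1 k =>
        ⟨by rw [CfsgLib.Invol.orderOf_conj_eq]; exact hQord Q g hg, fun e => hg1 (conj_eq_one_iff.mp e)⟩)
    rw [hQc, ← card_sylow_eq_index, hn3] at h1
    omega
  have hI := card_involutions_mul hs hone
  rw [hc s hs, h] at hI
  have hcov := cover_of_card (1 : G) (fun y => orderOf y = 2) (fun y => orderOf y = 7)
    (fun y => orderOf y ∣ 9 ∧ y ≠ 1) (by simp) (by simp) (by simp)
    (fun y h1 => by simp [h1]) (fun y h1 => by simp [h1]) (fun y h1 => by simp [h1])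
    (by rw [h]; omega)
  refine EvenCharRecog.nonempty_psl_even (f := 3) (by norm_num) (by rw [h]; norm_num)
    (fun y hy => ?_) (fun t ht => by rw [hc t ht]; norm_num) (by rw [h]; omega) (by rw [hF]; norm_num)
  have hy8 : orderOf y ∣ 8 := orderOf_dvd_of_pow_eq_one (by simpa using hy)
  rcases hcov y with rfl | e | e | ⟨e, -⟩
  · exact one_mul 1
  · rw [← pow_two, ← e, pow_orderOf_eq_one]
  · rw [e] at hy8; norm_num at hy8
  · rw [orderOf_eq_one_iff.mp (Nat.eq_one_of_dvd_coprimes (by norm_num : Nat.Coprime 8 9) hy8 e), one_mul]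

end Cfsg.Agent.S1011
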