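import Cfsg.Statements.S4774
import Cfsg.Agent.Lib.CharBlocks.SL2Degrees

set_option autoImplicit false
open Cfsg

namespace Cfsg.Agent.S4774

open CfsgLib.CharBlocks.SL2Deg


/-- Let F be a finite field of odd characteristic t with q > 5 elements and let S be isomorphic to PSL(2,F) or to SL(2,F). Then the vertices of the character degree graph of S are the primes dividing q(q²−1); the prime t is adjacent to no vertex; two distinct primes dividing q² − 1 are adjacent exactly when one of them is 2, or both divide q + 1, or both divide q − 1. -/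
theorem result (F : Type*) [Field F] [Fintype F] (t : ℕ) [Fact t.Prime] [CharP F t] (ht : t ≠ 2) (q : ℕ) (hq : Fintype.card F = q) (h5 : 5 < q) {S : Type*} [Group S] [Finite S] (hS : Nonempty (S ≃* Matrix.ProjectiveSpecialLinearGroup (Fin 2) F) ∨ Nonempty (S ≃* Matrix.SpecialLinearGroup (Fin 2) F)) : Cfsg.degreePrimes S = {r : ℕ | r.Prime ∧ r ∣ q * (q ^ 2 - 1)} ∧ ∀ r s : ℕ, (Cfsg.degreeGraph S).Adj r s ↔ (r ≠ s ∧ r.Prime ∧ s.Prime ∧ r ∣ q ^ 2 - 1 ∧ s ∣ q ^ 2 - 1 ∧ (r = 2 ∨ s = 2 ∨ (r ∣ q + 1 ∧ s ∣ q + 1) ∨ (r ∣ q - 1 ∧ s ∣ q - 1))) := by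
  subst hq
  obtain ⟨k, htp, hk⟩ := FiniteField.card F t
  have hodd : Odd (Fintype.card F) := by
    rw [hk]
    exact (htp.odd_of_ne_two ht).pow
  have hsub : charDegrees S ⊆ charDegrees (Matrix.SpecialLinearGroup (Fin 2) F) := by
    rcases hS with ⟨⟨e⟩⟩ | ⟨⟨e⟩⟩
    · exact (charDegrees_congr e).trans_subset psl_degrees_subset
    · exact (charDegrees_congr e).subset
  have hsup : charDegrees (Matrix.ProjectiveSpecialLinearGroup (Fin 2) F) ⊆ charDegrees S := by
    rcases hS with ⟨⟨e⟩⟩ | ⟨⟨e⟩⟩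
    · exact (charDegrees_congr e).symm.subset
    · exact psl_degrees_subset.trans (charDegrees_congr e).symm.subset
  obtain ⟨hp1, hm1⟩ := odd_psl_pm (F := F) hodd h5
  have hqm := card_mem_psl_degrees (F := F)
  have hsq : Fintype.card F ^ 2 - 1 = (Fintype.card F + 1) * (Fintype.card F - 1) := by
    simpa using Nat.sq_sub_sq (Fintype.card F) 1
  obtain ⟨m, hm⟩ := hodd
  have h2p : 2 ∣ Fintype.card F + 1 := ⟨m + 1, by omega⟩
  have h2m : 2 ∣ Fintype.card F - 1 := ⟨m, by omega⟩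
  refine ⟨?_, fun r s => ?_⟩
  · ext r
    simp only [degreePrimes, Set.mem_setOf_eq, hsq]
    refine and_congr_right fun hr => ⟨?_, ?_⟩
    · rintro ⟨d, hd, hrd⟩
      rcases mem_degrees_cases (hsub hd) with rfl | rfl | h | h
      · exact absurd (Nat.dvd_one.1 hrd) hr.ne_one
      · exact hrd.mul_right _
      · exact ((hrd.trans h).mul_right _).mul_left _
      · exact ((hrd.trans h).mul_left _).mul_left _
    · intro h
      rcases (Nat.Prime.dvd_mul hr).1 h with h | h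
      · exact ⟨_, hsup hqm, h⟩
      rcases (Nat.Prime.dvd_mul hr).1 h with h | h
      · exact ⟨_, hsup hp1, h⟩
      · exact ⟨_, hsup hm1, h⟩
  · change (r ≠ s ∧ r.Prime ∧ s.Prime ∧ ∃ d ∈ charDegrees S, r * s ∣ d) ↔ _
    refine and_congr_right fun hrs => and_congr_right fun hr => and_congr_right fun hs => ?_
    rw [hsq]
    constructor
    · rintro ⟨d, hd, hrd⟩
      rcases mem_degrees_cases (hsub hd) with rfl | rfl | h | h
      · exact absurd (Nat.dvd_one.1 ((dvd_mul_right r s).trans hrd)) hr.ne_one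
      · rw [hk] at hrd
        have h2 : ∀ x : ℕ, x.Prime → x ∣ t ^ (k : ℕ) → x = t := fun x hx h =>
          (Nat.prime_dvd_prime_iff_eq hx htp).1 (hx.dvd_of_dvd_pow h)
        exact absurd ((h2 r hr ((dvd_mul_right r s).trans hrd)).trans
          (h2 s hs ((dvd_mul_left s r).trans hrd)).symm) hrs
      · have h1 := ((dvd_mul_right r s).trans hrd).trans h
        have h2 := ((dvd_mul_left s r).trans hrd).trans h
        exact ⟨h1.mul_right _, h2.mul_right _, Or.inr (Or.inr (Or.inl ⟨h1, h2⟩))⟩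
      · have h1 := ((dvd_mul_right r s).trans hrd).trans h
        have h2 := ((dvd_mul_left s r).trans hrd).trans h
        exact ⟨h1.mul_left _, h2.mul_left _, Or.inr (Or.inr (Or.inr ⟨h1, h2⟩))⟩
    · rintro ⟨hr', hs', h⟩
      have hc := (Nat.coprime_primes hr hs).2 hrs
      rcases h with rfl | rfl | ⟨h1, h2⟩ | ⟨h1, h2⟩
      · rcases (Nat.Prime.dvd_mul hs).1 hs' with h | h
        · exact ⟨_, hsup hp1, hc.mul_dvd_of_dvd_of_dvd h2p h⟩
        · exact ⟨_, hsup hm1, hc.mul_dvd_of_dvd_of_dvd h2m h⟩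
      · rcases (Nat.Prime.dvd_mul hr).1 hr' with h | h
        · exact ⟨_, hsup hp1, hc.mul_dvd_of_dvd_of_dvd h h2p⟩
        · exact ⟨_, hsup hm1, hc.mul_dvd_of_dvd_of_dvd h h2m⟩
      · exact ⟨_, hsup hp1, hc.mul_dvd_of_dvd_of_dvd h1 h2⟩
      · exact ⟨_, hsup hm1, hc.mul_dvd_of_dvd_of_dvd h1 h2⟩

end Cfsg.Agent.S4774
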