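import Cfsg.Statements.S4812
import Cfsg.Agent.Lib.CharBlocks.SL2Degrees

set_option autoImplicit false
open Cfsg

namespace Cfsg.Agent.S4812

open CfsgLib.CharBlocks.SL2Deg


/-- Let F be a finite field of characteristic 2 with q ≥ 4 elements and let S be isomorphic to PSL(2,F) or to SL(2,F). Then the vertices of the character degree graph of S are the primes dividing q(q²−1), and two distinct primes are adjacent exactly when both divide q + 1 or both divide q − 1; so the graph has the three connected components {2}, the primes dividing q + 1 and the primes dividing q − 1, each complete. -/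
theorem result (F : Type*) [Field F] [Fintype F] [CharP F 2] (q : ℕ) (hq : Fintype.card F = q) (h4 : 4 ≤ q) {S : Type*} [Group S] [Finite S] (hS : Nonempty (S ≃* Matrix.ProjectiveSpecialLinearGroup (Fin 2) F) ∨ Nonempty (S ≃* Matrix.SpecialLinearGroup (Fin 2) F)) : Cfsg.degreePrimes S = {r : ℕ | r.Prime ∧ r ∣ q * (q ^ 2 - 1)} ∧ ∀ r s : ℕ, (Cfsg.degreeGraph S).Adj r s ↔ (r ≠ s ∧ r.Prime ∧ s.Prime ∧ ((r ∣ q + 1 ∧ s ∣ q + 1) ∨ (r ∣ q - 1 ∧ s ∣ q - 1))) := by
  subst hq
  have hdeg : charDegrees S = charDegrees (Matrix.SpecialLinearGroup (Fin 2) F) := by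
    rcases hS with ⟨⟨e⟩⟩ | ⟨⟨e⟩⟩
    · rw [charDegrees_congr e, even_psl_degrees]
    · exact charDegrees_congr e
  obtain ⟨hp1, hm1⟩ := even_pm (F := F) h4
  have hqm : Fintype.card F ∈ charDegrees (Matrix.SpecialLinearGroup (Fin 2) F) :=
    psl_degrees_subset card_mem_psl_degrees
  obtain ⟨k, -, hk⟩ := FiniteField.card F 2
  have hsq : Fintype.card F ^ 2 - 1 = (Fintype.card F + 1) * (Fintype.card F - 1) := by
    simpa using Nat.sq_sub_sq (Fintype.card F) 1
  refine ⟨?_, fun r s => ?_⟩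
  · ext r
    simp only [degreePrimes, Set.mem_setOf_eq, hdeg, hsq]
    refine and_congr_right fun hr => ⟨?_, ?_⟩
    · rintro ⟨d, hd, hrd⟩
      rcases mem_degrees_cases hd with rfl | rfl | h | h
      · exact absurd (Nat.dvd_one.1 hrd) hr.ne_one
      · exact hrd.mul_right _
      · exact ((hrd.trans h).mul_right _).mul_left _
      · exact ((hrd.trans h).mul_left _).mul_left _
    · intro h
      rcases (Nat.Prime.dvd_mul hr).1 h with h | h
      · exact ⟨_, hqm, h⟩
      rcases (Nat.Prime.dvd_mul hr).1 h with h | h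
      · exact ⟨_, hp1, h⟩
      · exact ⟨_, hm1, h⟩
  · change (r ≠ s ∧ r.Prime ∧ s.Prime ∧ ∃ d ∈ charDegrees S, r * s ∣ d) ↔ _
    rw [hdeg]
    refine and_congr_right fun hrs => and_congr_right fun hr => and_congr_right fun hs => ⟨?_, ?_⟩
    · rintro ⟨d, hd, hrd⟩
      rcases mem_degrees_cases hd with rfl | rfl | h | h
      · exact absurd (Nat.dvd_one.1 ((dvd_mul_right r s).trans hrd)) hr.ne_one
      · rw [hk] at hrd
        have h2 : ∀ x : ℕ, x.Prime → x ∣ 2 ^ (k : ℕ) → x = 2 := fun x hx h =>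
          (Nat.prime_dvd_prime_iff_eq hx Nat.prime_two).1 (hx.dvd_of_dvd_pow h)
        exact absurd ((h2 r hr ((dvd_mul_right r s).trans hrd)).trans
          (h2 s hs ((dvd_mul_left s r).trans hrd)).symm) hrs
      · exact Or.inl ⟨((dvd_mul_right r s).trans hrd).trans h, ((dvd_mul_left s r).trans hrd).trans h⟩
      · exact Or.inr ⟨((dvd_mul_right r s).trans hrd).trans h, ((dvd_mul_left s r).trans hrd).trans h⟩
    · rintro (⟨h1, h2⟩ | ⟨h1, h2⟩)
      · exact ⟨_, hp1, ((Nat.coprime_primes hr hs).2 hrs).mul_dvd_of_dvd_of_dvd h1 h2⟩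
      · exact ⟨_, hm1, ((Nat.coprime_primes hr hs).2 hrs).mul_dvd_of_dvd_of_dvd h1 h2⟩

end Cfsg.Agent.S4812
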