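import Cfsg.Statements.S0539
import Cfsg.Agent.Lib.Solvable.Basic
import Cfsg.Agent.Lib.Transfer.SubnormalJoin

set_option autoImplicit false
open Pointwise
open Cfsg

namespace Cfsg.Agent.S0539

/-- Let S be a family of subnormal subgroups of a finite group that is closed under conjugation, and S₀ a proper subfamily. Then some member of S not in S₀ normalizes the join of S₀. -/
theorem result {G : Type*} [Group G] [Finite G] (S S₀ : Set (Subgroup G)) (hS : ∀ U ∈ S, U.IsSubnormal) (hconj : ∀ U ∈ S, ∀ g : G, MulAut.conj g • U ∈ S) (h₀ : S₀ ⊂ S) : ∃ X ∈ S, X ∉ S₀ ∧ X ≤ Subgroup.normalizer ((sSup S₀ : Subgroup G) : Set G) := by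
  classical
  have hJ : (sSup S₀).IsSubnormal := by
    have hf : S₀.Finite := Set.toFinite _
    have : ∀ T : Set (Subgroup G), T.Finite → (∀ U ∈ T, U.IsSubnormal) → (sSup T).IsSubnormal := by
      intro T hT
      induction T, hT using Set.Finite.induction_on with
      | empty => intro _; rw [sSup_empty]; exact Subgroup.IsSubnormal.bot
      | @insert a T _ _ ih =>
        intro h
        rw [sSup_insert]
        exact CfsgLib.Transfer.sup_isSubnormal (h a (Set.mem_insert _ _))
          (ih fun U hU => h U (Set.mem_insert_of_mem _ hU))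
    exact this S₀ hf fun U hU => hS U (h₀.subset hU)
  set J := sSup S₀ with hJdef
  by_contra hcon
  push Not at hcon
  have hout : ∀ X ∈ S, X ∉ S₀ → ¬ X ≤ J := fun X hX hX₀ h =>
    hcon X hX hX₀ (h.trans Subgroup.le_normalizer)
  obtain ⟨T, hT, hT₀⟩ := Set.exists_of_ssubset h₀
  suffices key : ∀ A : Subgroup G, A.IsSubnormal → J ≤ A → (∀ X ∈ S, X ≤ A → X ≤ J) → False from
    key J hJ le_rfl fun X _ h => h
  intro A hA
  induction hA with
  | top => exact fun _ h => hout T hT hT₀ (h T hT le_top)
  | step A K hAK _ hn ih =>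
    intro hJA hAJ
    refine ih (hJA.trans hAK) fun X hX hXK => ?_
    by_contra hXJ
    refine hcon X hX (fun h => hXJ (le_sSup h)) fun x hx => ?_
    have hxA : MulAut.conj x • A = A := CfsgLib.Solvable.conj_smul_self_of_mem_normalizer
      ((Subgroup.normal_subgroupOf_iff_le_normalizer hAK).1 hn (hXK hx))
    refine CfsgLib.Solvable.mem_normalizer_iff_conj_smul.2
      (CfsgLib.Solvable.conj_smul_eq_of_le ?_ le_rfl)
    rw [CfsgLib.Solvable.conj_smul_eq_map, Subgroup.map_le_iff_le_comap]
    refine sSup_le fun U hU => Subgroup.map_le_iff_le_comap.1 ?_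
    rw [← CfsgLib.Solvable.conj_smul_eq_map]
    refine hAJ _ (hconj U (h₀.subset hU) x) ?_
    rw [← hxA]
    exact CfsgLib.Solvable.conj_smul_mono x ((le_sSup hU).trans hJA)

end Cfsg.Agent.S0539
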