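import Cfsg.Statements.S0572
import Cfsg.Agent.Lib.Solvable.Basic

set_option autoImplicit false
open Cfsg

open scoped Pointwise

open scoped commutatorElement

namespace Cfsg.Agent.S0572

/-- Itô's Theorem: if a group G is the product AB of two abelian subgroups, then the commutator subgroup of G is abelian, i.e. the second term of the derived series is trivial. -/
theorem result {G : Type*} [Group G] (A B : Subgroup G) [IsMulCommutative A] [IsMulCommutative B] (hAB : ∀ g : G, ∃ a ∈ A, ∃ b ∈ B, g = a * b) : derivedSeries G 2 = ⊥ := by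
  have hA : ∀ x ∈ A, ∀ y ∈ A, x * y = y * x := fun x hx y hy =>
    congrArg Subtype.val ((inferInstance : IsMulCommutative A).is_comm.comm ⟨x, hx⟩ ⟨y, hy⟩)
  have hB : ∀ x ∈ B, ∀ y ∈ B, x * y = y * x := fun x hx y hy =>
    congrArg Subtype.val ((inferInstance : IsMulCommutative B).is_comm.comm ⟨x, hx⟩ ⟨y, hy⟩)
  have hBA : ∀ g : G, ∃ b ∈ B, ∃ a ∈ A, g = b * a := fun g => by
    obtain ⟨x, hx, y, hy, hg⟩ := hAB g⁻¹
    exact ⟨y⁻¹, inv_mem hy, x⁻¹, inv_mem hx, by rw [← mul_inv_rev, ← hg, inv_inv]⟩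
  set S : Set G := {g | ∃ a ∈ A, ∃ b ∈ B, g = ⁅a, b⁆}
  -- conjugation by elements of `A` and of `B`
  have hconjA : ∀ x ∈ A, ∀ b ∈ B, ∃ b' ∈ B, ∀ a ∈ A, x * ⁅a, b⁆ * x⁻¹ = ⁅a, b'⁆ := by
    intro x hx b hb
    obtain ⟨b', hb', a', ha', e⟩ := hBA (x * b * x⁻¹)
    refine ⟨b', hb', fun a ha => ?_⟩
    calc x * ⁅a, b⁆ * x⁻¹ = (x * a * x⁻¹) * (x * b * x⁻¹) * (x * a * x⁻¹)⁻¹ * (x * b * x⁻¹)⁻¹ := by
          rw [commutatorElement_def]; group
      _ = a * (b' * a') * a⁻¹ * (b' * a')⁻¹ := by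
          rw [hA x hx a ha, mul_inv_cancel_right, e]
      _ = a * b' * (a' * a⁻¹) * a'⁻¹ * b'⁻¹ := by group
      _ = a * b' * (a⁻¹ * a') * a'⁻¹ * b'⁻¹ := by rw [hA a' ha' a⁻¹ (inv_mem ha)]
      _ = ⁅a, b'⁆ := by rw [commutatorElement_def]; group
  have hconjB : ∀ y ∈ B, ∀ a ∈ A, ∃ a' ∈ A, ∀ b ∈ B, y * ⁅a, b⁆ * y⁻¹ = ⁅a', b⁆ := by
    intro y hy a ha
    obtain ⟨a', ha', b', hb', e⟩ := hAB (y * a * y⁻¹)
    refine ⟨a', ha', fun b hb => ?_⟩
    calc y * ⁅a, b⁆ * y⁻¹ = (y * a * y⁻¹) * (y * b * y⁻¹) * (y * a * y⁻¹)⁻¹ * (y * b * y⁻¹)⁻¹ := by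
          rw [commutatorElement_def]; group
      _ = (a' * b') * b * (a' * b')⁻¹ * b⁻¹ := by
          rw [hB y hy b hb, mul_inv_cancel_right, e]
      _ = a' * (b' * b) * b'⁻¹ * a'⁻¹ * b⁻¹ := by group
      _ = a' * (b * b') * b'⁻¹ * a'⁻¹ * b⁻¹ := by rw [hB b' hb' b hb]
      _ = ⁅a', b⁆ := by rw [commutatorElement_def]; group
  have hswap : ∀ a ∈ A, ∀ b ∈ B, ∀ s ∈ S, (a * b) * s * (a * b)⁻¹ = (b * a) * s * (b * a)⁻¹ := by
    rintro x hx y hy _ ⟨a, ha, b, hb, rfl⟩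
    obtain ⟨b', hb', h1⟩ := hconjA x hx b hb
    obtain ⟨a', ha', h2⟩ := hconjB y hy a ha
    calc (x * y) * ⁅a, b⁆ * (x * y)⁻¹ = x * (y * ⁅a, b⁆ * y⁻¹) * x⁻¹ := by group
      _ = ⁅a', b'⁆ := by rw [h2 b hb, h1 a' ha']
      _ = y * (x * ⁅a, b⁆ * x⁻¹) * y⁻¹ := by rw [h1 a ha, h2 b' hb']
      _ = (y * x) * ⁅a, b⁆ * (y * x)⁻¹ := by group
  set D := Subgroup.closure S
  have hDn : D.Normal := by
    refine ⟨fun n hn g => ?_⟩
    obtain ⟨x, hx, y, hy, rfl⟩ := hAB g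
    suffices D ≤ D.comap (MulAut.conj (x * y)).toMonoidHom from this hn
    rw [Subgroup.closure_le]
    rintro _ ⟨a, ha, b, hb, rfl⟩
    obtain ⟨a', ha', h2⟩ := hconjB y hy a ha
    obtain ⟨b', hb', h1⟩ := hconjA x hx b hb
    show (x * y) * ⁅a, b⁆ * (x * y)⁻¹ ∈ D
    refine Subgroup.subset_closure ⟨a', ha', b', hb', ?_⟩
    rw [show (x * y) * ⁅a, b⁆ * (x * y)⁻¹ = x * (y * ⁅a, b⁆ * y⁻¹) * x⁻¹ by group, h2 b hb,
      h1 a' ha']
  have hG1 : derivedSeries G 1 ≤ D := by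
    rw [derivedSeries_one, commutator_def, Subgroup.commutator_le]
    intro g _ h _
    rw [← QuotientGroup.eq_one_iff, ← QuotientGroup.mk'_apply, map_commutatorElement,
      commutatorElement_eq_one_iff_mul_comm]
    set π := QuotientGroup.mk' D
    have hc : ∀ a ∈ A, ∀ b ∈ B, Commute (π a) (π b) := fun a ha b hb => by
      rw [← commutatorElement_eq_one_iff_commute, ← map_commutatorElement]
      exact (QuotientGroup.eq_one_iff _).2 (Subgroup.subset_closure ⟨a, ha, b, hb, rfl⟩)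
    obtain ⟨a, ha, b, hb, rfl⟩ := hAB g
    obtain ⟨a', ha', b', hb', rfl⟩ := hAB h
    have e1 : Commute (π a) (π a') := (show Commute a a' from hA a ha a' ha').map π
    have e2 : Commute (π b) (π b') := (show Commute b b' from hB b hb b' hb').map π
    rw [map_mul, map_mul]
    exact ((e1.mul_right (hc a ha b' hb')).mul_left
      (((hc a' ha' b hb).symm).mul_right e2)).eq
  have hcomm : ∀ s ∈ S, ∀ t ∈ S, s * t = t * s := by
    rintro s hs _ ⟨a, ha, b, hb, rfl⟩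
    have h := hswap a⁻¹ (inv_mem ha) b⁻¹ (inv_mem hb) s hs
    refine Eq.symm ?_
    calc ⁅a, b⁆ * s = (a * b) * ((a⁻¹ * b⁻¹) * s * (a⁻¹ * b⁻¹)⁻¹) * (a⁻¹ * b⁻¹) := by
          rw [commutatorElement_def]; group
      _ = s * ⁅a, b⁆ := by rw [h, commutatorElement_def]; group
  have : ⁅D, D⁆ = ⊥ := by
    rw [Subgroup.commutator_eq_bot_iff_le_centralizer]
    refine Subgroup.closure_le _ |>.2 fun s hs => ?_
    rw [SetLike.mem_coe, Subgroup.centralizer_closure, Subgroup.mem_centralizer_iff]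
    exact fun t ht => hcomm t ht s hs
  rw [derivedSeries_succ, eq_bot_iff, ← this]
  exact Subgroup.commutator_mono hG1 hG1

end Cfsg.Agent.S0572
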