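import Cfsg.Statements.S0132
import Cfsg.Agent.Lib.Transfer.Frobenius
import Cfsg.Agent.Lib.OddLocal.Basic

set_option autoImplicit false
open Cfsg
open scoped commutatorElement

namespace Cfsg.Agent.S0132

/-- A minimal non-p-nilpotent finite group is a minimal non-nilpotent group with a normal Sylow p-subgroup. -/
theorem result {G : Type*} [Group G] [Finite G] {p : ℕ} [Fact p.Prime] (h1 : ¬ Cfsg.HasNormalPComplement p G) (h2 : ∀ H : Subgroup G, H ≠ ⊤ → Cfsg.HasNormalPComplement p H) : (∀ H : Subgroup G, H ≠ ⊤ → Group.IsNilpotent H) ∧ ¬ Group.IsNilpotent G ∧ ∀ P : Sylow p G, (P : Subgroup G).Normal := by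
  have hpp : p.Prime := Fact.out
  obtain ⟨Q, hQ, g, hg, hco, hgc⟩ : ∃ Q : Subgroup G, IsPGroup p Q ∧
      ∃ g ∈ Subgroup.normalizer (Q : Set G), Nat.Coprime (orderOf g) p ∧
        g ∉ Subgroup.centralizer (Q : Set G) := by
    by_contra h
    push Not at h
    exact h1 (CfsgLib.Transfer.hasNormalPComplement_of_frobeniusCond h)
  have hgen : Q ⊔ Subgroup.zpowers g = ⊤ := by
    by_contra hne
    have hle : Q ≤ Q ⊔ Subgroup.zpowers g := le_sup_left
    have h3 := CfsgLib.Transfer.mem_centralizer_of_hasNormalPComplement (h2 _ hne)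
      (hQ.of_equiv (Subgroup.subgroupOfEquivOfLe hle).symm)
      (g := ⟨g, Subgroup.mem_sup_right (Subgroup.mem_zpowers g)⟩)
      (by rw [Subgroup.mem_normalizer_iff]; exact fun x => Subgroup.mem_normalizer_iff.1 hg x)
      (by rw [Subgroup.orderOf_mk]; exact hco)
    apply hgc
    rw [Subgroup.mem_centralizer_iff] at h3 ⊢
    exact fun x hx => congrArg Subtype.val (h3 ⟨x, hle hx⟩ hx)
  have hQn : Q.Normal := Subgroup.normalizer_eq_top_iff.1 (top_le_iff.1 (hgen ▸
    sup_le Subgroup.le_normalizer ((Subgroup.zpowers_le).2 hg)))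
  have hQP : ∀ P : Sylow p G, (P : Subgroup G) = Q := by
    intro P
    refine (Subgroup.eq_of_le_of_card_ge (hQ.le_sylow_of_normal P) ?_).symm
    obtain ⟨a, ha⟩ := IsPGroup.iff_card.1 P.2
    have h4 : Q.index ∣ orderOf g := by
      rw [← Subgroup.relIndex_top_right, ← hgen, sup_comm, Subgroup.relIndex_sup_right,
        ← Nat.card_zpowers]
      exact Subgroup.relIndex_dvd_card _ _
    refine Nat.le_of_dvd Nat.card_pos ?_
    refine (ha ▸ ((Nat.Coprime.coprime_dvd_left h4 hco).pow_right a).symm).dvd_of_dvd_mul_right ?_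
    rw [Subgroup.card_mul_index]
    exact Subgroup.card_subgroup_dvd_card _
  refine ⟨fun H hH => ?_, fun hnil => ?_, fun P => (hQP P).symm ▸ hQn⟩
  · -- a proper subgroup is the product of its normal `p`-Sylow and an abelian `p'`-group
    obtain ⟨N, hN, hNc, k, hk⟩ := CfsgLib.Transfer.hasNormalPComplement_iff.1 (h2 H hH)
    obtain ⟨P⟩ : Nonempty (Sylow p G) := inferInstance
    have hcomm : ∀ n ∈ N, ∀ q ∈ Q.subgroupOf H, n * q = q * n := by
      intro n hn q hq
      refine Subgroup.commute_of_normal_of_disjoint N (Q.subgroupOf H) hN (hQn.subgroupOf H) ?_ n q hn hq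
      refine Subgroup.disjoint_of_coprime_natCard ?_
      obtain ⟨b, hb⟩ := IsPGroup.iff_card.1 (hQ.comap_subtype (K := H))
      rw [show Nat.card (Q.subgroupOf H) = p ^ b from hb]
      exact hNc.pow_right b
    let π := QuotientGroup.mk' Q
    have hcyc : ∀ x y : G ⧸ Q, x * y = y * x := by
      have hz : ∀ x : G ⧸ Q, x ∈ Subgroup.zpowers (π g) := by
        intro x
        obtain ⟨y, rfl⟩ := QuotientGroup.mk'_surjective Q x
        have hy : y ∈ Q ⊔ Subgroup.zpowers g := hgen ▸ Subgroup.mem_top y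
        rw [← SetLike.mem_coe, Subgroup.normal_mul] at hy
        obtain ⟨a, ha, b, ⟨i, rfl⟩, rfl⟩ := hy
        refine ⟨i, ?_⟩
        show π g ^ i = π (a * g ^ i)
        rw [map_mul, map_zpow, show π a = 1 from (QuotientGroup.eq_one_iff a).2 ha, one_mul]
      intro x y
      obtain ⟨i, rfl⟩ := hz x
      obtain ⟨j, rfl⟩ := hz y
      exact ((Commute.refl _).zpow_zpow i j).eq
    have hNab : ∀ m ∈ N, ∀ n ∈ N, m * n = n * m := by
      intro m hm n hn
      have hQN : ∀ x ∈ N, ((x : H) : G) ∈ Q → x = 1 := fun x hx hxQ =>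
        CfsgLib.Transfer.eq_one_of_coprime_of_isPGroup (hQ.comap_subtype (K := H))
          (a := (⟨x, hxQ⟩ : Q.subgroupOf H))
          ((orderOf_injective (Q.subgroupOf H).subtype (Subgroup.subtype_injective _)
            (⟨x, hxQ⟩ : Q.subgroupOf H)) ▸
              Nat.Coprime.coprime_dvd_left (Subgroup.orderOf_dvd_natCard N hx) hNc) |>
          congrArg Subtype.val
      rw [← commutatorElement_eq_one_iff_mul_comm]
      refine hQN _ (N.mul_mem (N.mul_mem (N.mul_mem hm hn) (N.inv_mem hm)) (N.inv_mem hn)) ?_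
      rw [← QuotientGroup.eq_one_iff]
      show π ((⁅m, n⁆ : H) : G) = 1
      simp only [commutatorElement_def, Subgroup.coe_mul, Subgroup.coe_inv, map_mul, map_inv]
      rw [← commutatorElement_def, commutatorElement_eq_one_iff_mul_comm]
      exact hcyc _ _
    let f : N × (Q.subgroupOf H) →* H :=
      { toFun := fun x => (x.1 : H) * x.2
        map_one' := by simp
        map_mul' := fun x y => by
          simp only [Prod.fst_mul, Prod.snd_mul, Subgroup.coe_mul]
          calc (x.1 : H) * y.1 * (x.2 * y.2) = x.1 * (y.1 * x.2) * y.2 := by group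
            _ = x.1 * (x.2 * y.1) * y.2 := by rw [hcomm _ y.1.2 _ x.2.2]
            _ = _ := by group }
    have hNnil : Group.IsNilpotent N := by
      let : CommGroup N := { (inferInstance : Group N) with
        mul_comm := fun a b => Subtype.ext (hNab a a.2 b b.2) }
      exact CommGroup.isNilpotent
    have hQnil : Group.IsNilpotent (Q.subgroupOf H) := (hQ.comap_subtype (K := H)).isNilpotent
    refine Group.nilpotent_of_surjective f ?_
    intro h
    obtain ⟨P'⟩ : Nonempty (Sylow p H) := inferInstance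
    have hP'Q : (P' : Subgroup H) ≤ Q.subgroupOf H := by
      obtain ⟨c, hc⟩ := CfsgLib.Transfer.exists_conj_mem_sylow P (P'.2.map H.subtype)
      intro x hx
      have := hc x ⟨x, hx, rfl⟩
      rw [hQP P] at this
      have h5 := hQn.conj_mem _ this c⁻¹
      show (x : G) ∈ Q
      simpa [mul_assoc] using h5
    have hh : h ∈ N ⊔ (P' : Subgroup H) := CfsgLib.Transfer.sup_sylow_eq_top P' hk ▸ Subgroup.mem_top h
    rw [← SetLike.mem_coe, Subgroup.normal_mul] at hh
    obtain ⟨n, hn, q, hq, rfl⟩ := hh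
    exact ⟨(⟨n, hn⟩, ⟨q, hP'Q hq⟩), rfl⟩
  · refine hgc (Subgroup.mem_centralizer_iff.2 fun x hx => ?_)
    refine CfsgLib.OddLocal.commute_of_coprime_orderOf _ _ ?_
    obtain ⟨k, hk⟩ := IsPGroup.iff_orderOf.1 hQ ⟨x, hx⟩
    rw [Subgroup.orderOf_mk] at hk
    exact hk ▸ (hco.pow_right k).symm

end Cfsg.Agent.S0132
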