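import Cfsg.Statements.S5344
import Cfsg.Agent.Lib.SporMisc.S4Hom

set_option autoImplicit false
open Cfsg

namespace Cfsg.Agent.S5344

/-- In a set of 3-transpositions, let a, b, c be members with a and c different and commuting, while neither a nor c commutes with b (a 3-string). Then there is an injective homomorphism from the symmetric group of degree 4 into the ambient group sending the transpositions (0 1), (1 2), (2 3) to a, b, c; so a, b, c generate a copy of the symmetric group of degree 4 in which they are transpositions. -/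
theorem result {G : Type*} [Group G] {D : Set G} (hD : Cfsg.IsThreeTranspositionSet D) {a b c : G} (ha : a ∈ D) (hb : b ∈ D) (hc : c ∈ D) (hac : a ≠ c) (hac' : Commute a c) (hab : ¬ Commute a b) (hbc : ¬ Commute b c) : ∃ φ : Equiv.Perm (Fin 4) →* G, Function.Injective φ ∧ φ (Equiv.swap 0 1) = a ∧ φ (Equiv.swap 1 2) = b ∧ φ (Equiv.swap 2 3) = c := by
  have sq : ∀ d ∈ D, d * d = 1 := fun d hd => by
    rw [← pow_two, ← hD.1 d hd]; exact pow_orderOf_eq_one d
  have inv' : ∀ d ∈ D, d⁻¹ = d := fun d hd => inv_eq_of_mul_eq_one_right (sq d hd)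
  have braid : ∀ u ∈ D, ∀ v ∈ D, ¬ Commute u v → u * v * u = v * u * v := by
    intro u hu v hv hn
    rcases hD.2 u hu v hv with h | h
    · exfalso
      apply hn
      rw [pow_two, mul_eq_one_iff_eq_inv, mul_inv_rev, inv' u hu, inv' v hv] at h
      exact h
    · have h' : (u * v * u) * (v * u * v) = 1 := by
        rw [← h, pow_succ, pow_two]; group
      rw [mul_eq_one_iff_eq_inv] at h'
      rw [h', mul_inv_rev, mul_inv_rev, inv' u hu, inv' v hv, mul_assoc]
  obtain ⟨φ, h0, h1, h2⟩ := CfsgLib.SporMisc.exists_hom_symm4 (sq a ha) (sq b hb) (sq c hc)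
    (braid a ha b hb hab) (braid b hb c hc hbc) hac'.eq
  refine ⟨φ, ?_, h0, h1, h2⟩
  rw [injective_iff_map_eq_one]
  intro σ hσ
  have hpair : ∀ i j k l : Fin 4, i ≠ j → k ≠ l → Equiv.swap i j ≠ Equiv.swap k l →
      ∃ g : Equiv.Perm (Fin 4), Equiv.swap (g i) (g j) = Equiv.swap 0 1 ∧
        (Equiv.swap (g k) (g l) = Equiv.swap 1 2 ∨ Equiv.swap (g k) (g l) = Equiv.swap 2 3) := by
    decide +kernel
  have hdist : ∀ i j k l : Fin 4, i ≠ j → k ≠ l →
      φ (Equiv.swap i j) = φ (Equiv.swap k l) → Equiv.swap i j = Equiv.swap k l := by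
    intro i j k l hij hkl he
    by_contra hne
    obtain ⟨g, hg1, hg2⟩ := hpair i j k l hij hkl hne
    have hg : ∀ p q : Fin 4, φ (Equiv.swap (g p) (g q)) = φ g * φ (Equiv.swap p q) * (φ g)⁻¹ := by
      intro p q
      rw [Equiv.swap_apply_apply, map_mul, map_mul, map_inv]
    have h := congrArg (fun t => φ g * t * (φ g)⁻¹) he
    simp only [← hg, hg1, h0] at h
    rcases hg2 with hg2 | hg2
    · rw [hg2, h1] at h; exact hab (h ▸ Commute.refl b)
    · rw [hg2, h2] at h; exact hac h
  by_contra hne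
  obtain ⟨i, hi⟩ : ∃ i, σ i ≠ i := by
    by_contra h
    push Not at h
    exact hne (Equiv.ext h)
  obtain ⟨j, hji, hjσ⟩ : ∃ j : Fin 4, j ≠ i ∧ j ≠ σ i := by
    have : ∀ p q : Fin 4, ∃ r, r ≠ p ∧ r ≠ q := by decide +kernel
    exact this i (σ i)
  have hconj : φ (Equiv.swap (σ i) (σ j)) = φ (Equiv.swap i j) := by
    rw [Equiv.swap_apply_apply, map_mul, map_mul, map_inv, hσ, one_mul, inv_one, mul_one]
  have := hdist _ _ _ _ (fun h => hji (σ.injective h).symm) (Ne.symm hji) hconj
  have h' := congrArg (fun t : Equiv.Perm (Fin 4) => t (σ i)) this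
  simp only [Equiv.swap_apply_left] at h'
  rw [Equiv.swap_apply_of_ne_of_ne hi (Ne.symm hjσ)] at h'
  exact hji (σ.injective h')

end Cfsg.Agent.S5344
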