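import Cfsg.Statements.S2504


set_option autoImplicit false
open Cfsg

namespace Cfsg.Agent.S2504

/-- The largest product of positive parts with a given sum. -/
def maxProd : ℕ → ℕ
  | 0 => 1
  | 1 => 1
  | 2 => 2
  | 3 => 3
  | 4 => 4
  | (m + 5) => 3 * maxProd (m + 2)

theorem maxProd_step : ∀ m : ℕ, 2 ≤ m → maxProd (m + 3) = 3 * maxProd m
  | 0, h => absurd h (by omega)
  | 1, h => absurd h (by omega)
  | m + 2, _ => by rw [show m + 2 + 3 = m + 5 by omega, maxProd]

theorem le_maxProd_step (m : ℕ) : 3 * maxProd m ≤ maxProd (m + 3) := by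
  rcases m with _ | _ | m
  · simp [maxProd]
  · simp [maxProd]
  · exact (maxProd_step (m + 2) (by omega)).ge

theorem maxProd_three_mul : ∀ k : ℕ, maxProd (3 * k) = 3 ^ k
  | 0 => rfl
  | 1 => rfl
  | k + 2 => by
    rw [show 3 * (k + 2) = 3 * (k + 1) + 3 by omega, maxProd_step _ (by omega), maxProd_three_mul (k + 1), pow_succ' 3 (k + 1)]

theorem maxProd_three_mul_add_one : ∀ k : ℕ, 1 ≤ k → maxProd (3 * k + 1) = 4 * 3 ^ (k - 1)
  | 0, h => absurd h (by omega)
  | 1, _ => rfl
  | k + 2, _ => by
    rw [show 3 * (k + 2) + 1 = (3 * (k + 1) + 1) + 3 by omega, maxProd_step _ (by omega),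
      maxProd_three_mul_add_one (k + 1) (by omega), show k + 2 - 1 = (k + 1 - 1) + 1 by omega, pow_succ']
    ring

theorem maxProd_three_mul_add_two : ∀ k : ℕ, maxProd (3 * k + 2) = 2 * 3 ^ k
  | 0 => rfl
  | k + 1 => by
    rw [show 3 * (k + 1) + 2 = (3 * k + 2) + 3 by omega, maxProd_step _ (by omega), maxProd_three_mul_add_two k, pow_succ']
    ring

theorem mul_maxProd_le (a : ℕ) : ∀ m, a * maxProd m ≤ maxProd (a + m) := by
  induction a using Nat.strong_induction_on with
  | _ a ih =>
    intro m
    rcases Nat.lt_or_ge a 5 with h | h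
    · obtain ⟨k, rfl | rfl | rfl⟩ : ∃ k, m = 3 * k ∨ m = 3 * k + 1 ∨ m = 3 * k + 2 := ⟨m / 3, by omega⟩
      · interval_cases a
        · simp
        · rcases k with _ | k
          · simp [maxProd]
          · rw [show 1 + 3 * (k + 1) = 3 * (k + 1) + 1 by omega, maxProd_three_mul, maxProd_three_mul_add_one _ (by omega), Nat.add_sub_cancel, pow_succ]
            omega
        · rw [show 2 + 3 * k = 3 * k + 2 by omega, maxProd_three_mul, maxProd_three_mul_add_two]
        · rw [show 3 + 3 * k = 3 * (k + 1) by omega, maxProd_three_mul, maxProd_three_mul, pow_succ']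
        · rw [show 4 + 3 * k = 3 * (k + 1) + 1 by omega, maxProd_three_mul, maxProd_three_mul_add_one _ (by omega), Nat.add_sub_cancel]
      · rcases k with _ | k
        · interval_cases a <;> simp [maxProd]
        · rw [maxProd_three_mul_add_one (k + 1) (by omega), Nat.add_sub_cancel]
          interval_cases a
          · simp
          · rw [show 1 + (3 * (k + 1) + 1) = 3 * (k + 1) + 2 by omega, maxProd_three_mul_add_two, pow_succ]
            omega
          · rw [show 2 + (3 * (k + 1) + 1) = 3 * (k + 2) by omega, maxProd_three_mul, pow_succ, pow_succ]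
            omega
          · rw [show 3 + (3 * (k + 1) + 1) = 3 * (k + 2) + 1 by omega, maxProd_three_mul_add_one _ (by omega), show k + 2 - 1 = k + 1 by omega, pow_succ]
            omega
          · rw [show 4 + (3 * (k + 1) + 1) = 3 * (k + 2) + 2 by omega, maxProd_three_mul_add_two, pow_succ, pow_succ]
            omega
      · rw [maxProd_three_mul_add_two]
        interval_cases a
        · simp
        · rw [show 1 + (3 * k + 2) = 3 * (k + 1) by omega, maxProd_three_mul, pow_succ]
          omega
        · rw [show 2 + (3 * k + 2) = 3 * (k + 1) + 1 by omega, maxProd_three_mul_add_one _ (by omega), Nat.add_sub_cancel]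
          omega
        · rw [show 3 + (3 * k + 2) = 3 * (k + 1) + 2 by omega, maxProd_three_mul_add_two, pow_succ]
          omega
        · rw [show 4 + (3 * k + 2) = 3 * (k + 2) by omega, maxProd_three_mul, pow_succ, pow_succ]
          omega
    · have h1 := ih (a - 3) (by omega) m
      have h2 := le_maxProd_step (a - 3 + m)
      rw [show a - 3 + m + 3 = a + m by omega] at h2
      have h3 : a * maxProd m ≤ 3 * ((a - 3) * maxProd m) := by
        rw [← mul_assoc]
        exact Nat.mul_le_mul_right _ (by omega)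
      omega

theorem prod_le_maxProd (s : Multiset ℕ) : s.prod ≤ maxProd s.sum := by
  induction s using Multiset.induction_on with
  | empty => simp [maxProd]
  | cons a s ih =>
    rw [Multiset.prod_cons, Multiset.sum_cons]
    exact le_trans (Nat.mul_le_mul_left a ih) (mul_maxProd_le a _)

theorem large_part (a : ℕ) : ∀ k m : ℕ, 5 ≤ a → a + m = 3 * k + 2 → 9 * (a * maxProd m) ≤ 16 * 3 ^ k := by
  induction a using Nat.strong_induction_on with
  | _ a ih =>
    intro k m ha hm
    rcases Nat.lt_or_ge a 8 with h | h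
    · interval_cases a
      · obtain ⟨j, rfl⟩ : ∃ j, k = j + 1 := ⟨k - 1, by omega⟩
        rw [show m = 3 * j by omega, maxProd_three_mul, pow_succ]
        omega
      · obtain ⟨j, rfl⟩ : ∃ j, k = j + 2 := ⟨k - 2, by omega⟩
        rw [show m = 3 * j + 2 by omega, maxProd_three_mul_add_two, pow_succ, pow_succ]
        omega
      · obtain ⟨j, rfl⟩ : ∃ j, k = j + 2 := ⟨k - 2, by omega⟩
        rcases j with _ | j
        · rw [show m = 1 by omega]; simp [maxProd]
        · rw [show m = 3 * (j + 1) + 1 by omega, maxProd_three_mul_add_one _ (by omega), Nat.add_sub_cancel, pow_succ, pow_succ, pow_succ]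
          omega
    · have h1 := ih (a - 3) (by omega) k (m + 3) (by omega) (by omega)
      have h3 : a * maxProd m ≤ (a - 3) * maxProd (m + 3) := by
        refine le_trans ?_ (Nat.mul_le_mul_left _ (le_maxProd_step m))
        rw [← mul_assoc]
        exact Nat.mul_le_mul_right _ (by omega)
      omega

theorem prod_le_second (k : ℕ) (hk : 2 ≤ k) (s : Multiset ℕ) (hs : s.sum = 3 * k + 2)
    (h0 : ∀ a ∈ s, 0 < a) (h2 : 2 ∉ s) : s.prod ≤ 16 * 3 ^ (k - 2) := by
  obtain ⟨j, rfl⟩ : ∃ j, k = j + 2 := ⟨k - 2, by omega⟩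
  have key : 9 * s.prod ≤ 16 * 3 ^ (j + 2) → s.prod ≤ 16 * 3 ^ (j + 2 - 2) := by
    intro h
    rw [Nat.add_sub_cancel]
    rw [pow_succ, pow_succ] at h
    omega
  by_cases h1 : 1 ∈ s
  · obtain ⟨t, rfl⟩ := Multiset.exists_cons_of_mem h1
    rw [Multiset.sum_cons] at hs
    apply key
    have h := prod_le_maxProd t
    rw [show t.sum = 3 * (j + 2) + 1 by omega, maxProd_three_mul_add_one _ (by omega),
      show j + 2 - 1 = j + 1 by omega, pow_succ] at h
    rw [Multiset.prod_cons, pow_succ, pow_succ]
    omega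
  by_cases h5 : ∃ a ∈ s, 5 ≤ a
  · obtain ⟨a, ha, ha5⟩ := h5
    obtain ⟨t, rfl⟩ := Multiset.exists_cons_of_mem ha
    rw [Multiset.sum_cons] at hs
    apply key
    rw [Multiset.prod_cons]
    refine le_trans (Nat.mul_le_mul_left 9 (Nat.mul_le_mul_left a (prod_le_maxProd t))) ?_
    exact large_part a (j + 2) t.sum ha5 hs
  push Not at h5
  have h34 : ∀ a ∈ s, a = 3 ∨ a = 4 := by
    intro a ha
    have := h0 a ha
    have := h5 a ha
    have : a ≠ 1 := fun h => h1 (h ▸ ha)
    have : a ≠ 2 := fun h => h2 (h ▸ ha)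
    omega
  have all3 : ∀ t : Multiset ℕ, (∀ a ∈ t, a = 3 ∨ a = 4) → 4 ∉ t → 3 ∣ t.sum := by
    intro t ht h4
    refine Multiset.dvd_sum fun a ha => ?_
    rcases ht a ha with h | h
    · rw [h]
    · exact absurd (h ▸ ha) h4
  have h4 : 4 ∈ s := by
    by_contra h4
    have := all3 s h34 h4
    omega
  obtain ⟨t, rfl⟩ := Multiset.exists_cons_of_mem h4
  rw [Multiset.sum_cons] at hs
  have h4' : 4 ∈ t := by
    by_contra h4'
    have := all3 t (fun a ha => h34 a (Multiset.mem_cons_of_mem ha)) h4'
    omega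
  obtain ⟨u, rfl⟩ := Multiset.exists_cons_of_mem h4'
  rw [Multiset.sum_cons] at hs
  have h := prod_le_maxProd u
  rw [show u.sum = 3 * j by omega, maxProd_three_mul] at h
  rw [Multiset.prod_cons, Multiset.prod_cons, Nat.add_sub_cancel]
  omega

/-- An abelian permutation group has order dividing the product of its orbit lengths; in an
alternating group the division is proper when some orbit has length two. -/
theorem exists_parts {n : ℕ} (A : Subgroup (alternatingGroup (Fin n))) (hA : IsMulCommutative A) :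
    ∃ s : Multiset ℕ, s.sum = n ∧ (∀ a ∈ s, 0 < a) ∧ Nat.card A ∣ s.prod ∧
      (2 ∈ s → Nat.card A < s.prod) := by
  classical
  haveI : ∀ x : Fin n, (MulAction.stabilizer A x).Normal := fun x => ⟨fun c hc g => by
    have h : g * c * g⁻¹ = c := by rw [hA.is_comm.comm g c, mul_assoc, mul_inv_cancel, mul_one]
    rw [h]; exact hc⟩
  letI := Fintype.ofFinite (MulAction.orbitRel.Quotient A (Fin n))
  have hcard : ∀ ω : MulAction.orbitRel.Quotient A (Fin n),
      Nat.card (A ⧸ MulAction.stabilizer A ω.out) = (MulAction.orbit A ω.out).ncard := fun ω => by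
    rw [← Subgroup.index, MulAction.index_stabilizer]
  refine ⟨Finset.univ.val.map fun ω : MulAction.orbitRel.Quotient A (Fin n) =>
    Nat.card (A ⧸ MulAction.stabilizer A ω.out), ?_, ?_, ?_, ?_⟩
  · show ∑ ω : MulAction.orbitRel.Quotient A (Fin n), _ = n
    rw [← Nat.card_sigma, ← Nat.card_congr (MulAction.selfEquivSigmaOrbitsQuotientStabilizer A (Fin n)), Nat.card_fin]
  · intro a ha
    obtain ⟨ω, -, rfl⟩ := Multiset.mem_map.1 ha
    exact Nat.card_pos
  all_goals
    let φ : A →* ∀ ω : MulAction.orbitRel.Quotient A (Fin n), A ⧸ MulAction.stabilizer A ω.out :=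
      MonoidHom.mk' (fun a ω => (QuotientGroup.mk a)) (fun a b => rfl)
    have hfix : ∀ (a : A) (ω : MulAction.orbitRel.Quotient A (Fin n)), φ a ω = 1 →
        ∀ x ∈ MulAction.orbit A ω.out, a • x = x := by
      intro a ω h x hx
      obtain ⟨b, rfl⟩ := hx
      have h' : a • ω.out = ω.out := (QuotientGroup.eq_one_iff a).1 h
      show a • b • ω.out = b • ω.out
      rw [smul_smul, hA.is_comm.comm a b, mul_smul, h']
    have horb : ∀ x : Fin n, x ∈ MulAction.orbit A (Quotient.out (Quotient.mk'' x : MulAction.orbitRel.Quotient A (Fin n))) := by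
      intro x
      have := Quotient.out_eq' (Quotient.mk'' x : MulAction.orbitRel.Quotient A (Fin n))
      exact MulAction.orbitRel_apply.1 (Quotient.eq''.1 this.symm)
    have hφ : Function.Injective φ := by
      rw [injective_iff_map_eq_one]
      intro a ha
      apply Subtype.ext; apply Subtype.ext
      ext x
      exact congrArg Fin.val (hfix a _ (congrFun ha _) x (horb x))
    have hP : (Finset.univ.val.map fun ω : MulAction.orbitRel.Quotient A (Fin n) =>
        Nat.card (A ⧸ MulAction.stabilizer A ω.out)).prod =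
        Nat.card (∀ ω : MulAction.orbitRel.Quotient A (Fin n), A ⧸ MulAction.stabilizer A ω.out) := by
      rw [Nat.card_pi]; rfl
  · rw [hP]; exact Subgroup.card_dvd_of_injective φ hφ
  · intro h2
    obtain ⟨ω₀, -, hω₀⟩ := Multiset.mem_map.1 h2
    rw [hP]
    refine lt_of_le_of_ne (Nat.le_of_dvd Nat.card_pos (Subgroup.card_dvd_of_injective φ hφ)) fun he => ?_
    have hsur : Function.Surjective φ := ((Nat.bijective_iff_injective_and_card φ).2 ⟨hφ, he⟩).2
    obtain ⟨q, hq⟩ : ∃ q : A ⧸ MulAction.stabilizer A ω₀.out, q ≠ 1 := by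
      haveI : Nontrivial (A ⧸ MulAction.stabilizer A ω₀.out) :=
        Finite.one_lt_card_iff_nontrivial.1 (by omega)
      exact exists_ne 1
    obtain ⟨a, ha⟩ := hsur (Pi.mulSingle ω₀ q)
    set x := ω₀.out with hx
    have hax : a • x ≠ x := by
      intro h
      apply hq
      have h1 := congrFun ha ω₀
      rw [Pi.mulSingle_eq_same] at h1
      rw [← h1]
      exact (QuotientGroup.eq_one_iff a).2 h
    have htwo : MulAction.orbit A x = {x, a • x} := by
      refine (Set.eq_of_subset_of_ncard_le (Set.insert_subset (MulAction.mem_orbit_self x)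
        (Set.singleton_subset_iff.2 (MulAction.mem_orbit x a))) ?_).symm
      rw [← hcard ω₀, hω₀, Set.ncard_pair hax.symm]
    have hswap : ((a : alternatingGroup (Fin n)) : Equiv.Perm (Fin n)) = Equiv.swap x (a • x) := by
      apply Equiv.ext
      intro y
      show a • y = _
      by_cases hy : y ∈ MulAction.orbit A x
      · rw [htwo] at hy
        rcases hy with rfl | hy
        · rw [Equiv.swap_apply_left]
        · rw [Set.mem_singleton_iff] at hy
          subst hy
          rw [Equiv.swap_apply_right]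
          have h1 : a • a • x ∈ MulAction.orbit A x := by rw [smul_smul]; exact MulAction.mem_orbit x _
          rw [htwo] at h1
          rcases h1 with h1 | h1
          · exact h1
          · exact absurd (smul_left_cancel a (Set.mem_singleton_iff.1 h1)) hax
      · rw [Equiv.swap_apply_of_ne_of_ne (fun (h : y = x) => hy (h.symm ▸ MulAction.mem_orbit_self x))
          (fun (h : y = a • x) => hy (h.symm ▸ MulAction.mem_orbit x a))]
        refine hfix a (Quotient.mk'' y) ?_ y (horb y)
        rw [ha]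
        refine Pi.mulSingle_eq_of_ne (fun h => hy ?_) _
        have := horb y
        rwa [h] at this
    have hs := Equiv.Perm.mem_alternatingGroup.1 (a : alternatingGroup (Fin n)).2
    rw [hswap, Equiv.Perm.sign_swap hax.symm] at hs
    exact absurd hs (by decide)

/-- Regular product action. -/
def regHom (ι T : Type*) [Group T] : (ι → T) →* Equiv.Perm (ι × T) where
  toFun g := Equiv.prodCongrRight fun i => Equiv.mulLeft (g i)
  map_one' := by ext x <;> simp
  map_mul' g h := by ext x <;> simp [mul_assoc]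

theorem exists_block (ι T : Type*) [Fintype ι] [DecidableEq ι] [CommGroup T] [Fintype T] [DecidableEq T]
    (hT : ∀ t : T, Equiv.Perm.sign (Equiv.mulLeft t) = 1) :
    ∃ f : (ι → T) →* Equiv.Perm (ι × T), Function.Injective f ∧ ∀ g, Equiv.Perm.sign (f g) = 1 := by
  refine ⟨regHom ι T, fun g h e => funext fun i => ?_, fun g => ?_⟩
  · have := congrArg Prod.snd (Equiv.congr_fun e (i, 1))
    simpa [regHom] using this
  · show Equiv.Perm.sign (Equiv.prodCongrRight fun i => Equiv.mulLeft (g i)) = 1
    rw [Equiv.Perm.sign_prodCongrRight]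
    exact Finset.prod_eq_one fun i _ => hT _

theorem exists_example (a b n : ℕ) (hn : 3 * a + 4 * b = n) :
    ∃ A : Subgroup (alternatingGroup (Fin n)), IsMulCommutative A ∧ Nat.card A = 3 ^ a * 4 ^ b := by
  classical
  obtain ⟨f, hf, hfs⟩ := exists_block (Fin a) (Multiplicative (ZMod 3)) (by decide)
  obtain ⟨g, hg, hgs⟩ := exists_block (Fin b) (Multiplicative (ZMod 2 × ZMod 2)) (by decide)
  have hc : Fintype.card (Fin a × Multiplicative (ZMod 3) ⊕ Fin b × Multiplicative (ZMod 2 × ZMod 2)) = n := by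
    simp only [Fintype.card_sum, Fintype.card_prod, Fintype.card_fin, Fintype.card_multiplicative, ZMod.card]
    omega
  let e := Fintype.equivFinOfCardEq hc
  let F : (Fin a → Multiplicative (ZMod 3)) × (Fin b → Multiplicative (ZMod 2 × ZMod 2)) →* Equiv.Perm (Fin n) :=
    (e.permCongrHom : _ ≃* _).toMonoidHom.comp ((Equiv.Perm.sumCongrHom _ _).comp (f.prodMap g))
  have hF : ∀ x, F x ∈ alternatingGroup (Fin n) := fun x => by
    rw [Equiv.Perm.mem_alternatingGroup]
    show Equiv.Perm.sign (e.permCongr (Equiv.sumCongr (f x.1) (g x.2))) = 1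
    rw [Equiv.Perm.sign_permCongr, Equiv.Perm.sign_sumCongr, hfs, hgs, one_mul]
  have hFi : Function.Injective F := by
    intro x y h
    have h2 : Equiv.Perm.sumCongrHom _ _ (f.prodMap g x) = Equiv.Perm.sumCongrHom _ _ (f.prodMap g y) :=
      e.permCongrHom.injective h
    have h3 := Equiv.Perm.sumCongrHom_injective h2
    exact Prod.ext (hf (congrArg Prod.fst h3)) (hg (congrArg Prod.snd h3))
  refine ⟨(F.codRestrict _ hF).range, ⟨⟨?_⟩⟩, ?_⟩
  · rintro ⟨_, x, rfl⟩ ⟨_, y, rfl⟩
    apply Subtype.ext
    show F.codRestrict _ hF x * F.codRestrict _ hF y = F.codRestrict _ hF y * F.codRestrict _ hF x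
    rw [← map_mul, mul_comm, map_mul]
  · rw [← Nat.card_congr (MonoidHom.ofInjective (f := F.codRestrict _ hF) (fun x y h => hFi (congrArg Subtype.val h))).toEquiv,
      Nat.card_prod, Nat.card_fun, Nat.card_fun]
    simp [Nat.card_eq_fintype_card, Fintype.card_multiplicative, ZMod.card]

/-- The largest order of an abelian subgroup of the alternating group of degree n is 3^k when n = 3k, 4·3^(k−1) when n = 3k + 1, and 16·3^(k−2) when n = 3k + 2, for every k ≥ 2 (so for all degrees n ≥ 6). -/
theorem result (k : ℕ) (hk : 2 ≤ k) :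
    IsGreatest {c : ℕ | ∃ A : Subgroup (alternatingGroup (Fin (3 * k))), IsMulCommutative A ∧ Nat.card A = c} (3 ^ k) ∧
    IsGreatest {c : ℕ | ∃ A : Subgroup (alternatingGroup (Fin (3 * k + 1))), IsMulCommutative A ∧ Nat.card A = c}
      (4 * 3 ^ (k - 1)) ∧
    IsGreatest {c : ℕ | ∃ A : Subgroup (alternatingGroup (Fin (3 * k + 2))), IsMulCommutative A ∧ Nat.card A = c}
      (16 * 3 ^ (k - 2)) := by
  obtain ⟨j, rfl⟩ : ∃ j, k = j + 2 := ⟨k - 2, by omega⟩
  refine ⟨⟨?_, ?_⟩, ⟨?_, ?_⟩, ⟨?_, ?_⟩⟩
  · simpa using exists_example (j + 2) 0 (3 * (j + 2)) (by omega)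
  · rintro c ⟨A, hA, rfl⟩
    obtain ⟨s, hs, h0, hd, -⟩ := exists_parts A hA
    refine le_trans (Nat.le_of_dvd (Nat.pos_of_ne_zero fun h => ?_) hd) ?_
    · exact absurd (Multiset.prod_eq_zero_iff.1 h) fun h' => lt_irrefl 0 (h0 0 h')
    · exact (prod_le_maxProd s).trans (by rw [hs, maxProd_three_mul])
  · obtain ⟨A, hA, hc⟩ := exists_example (j + 1) 1 (3 * (j + 2) + 1) (by omega)
    exact ⟨A, hA, by rw [hc, pow_one, mul_comm, show j + 2 - 1 = j + 1 by omega]⟩
  · rintro c ⟨A, hA, rfl⟩
    obtain ⟨s, hs, h0, hd, -⟩ := exists_parts A hA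
    refine le_trans (Nat.le_of_dvd (Nat.pos_of_ne_zero fun h => ?_) hd) ?_
    · exact absurd (Multiset.prod_eq_zero_iff.1 h) fun h' => lt_irrefl 0 (h0 0 h')
    · exact (prod_le_maxProd s).trans (by rw [hs, maxProd_three_mul_add_one _ (by omega)])
  · obtain ⟨A, hA, hc⟩ := exists_example j 2 (3 * (j + 2) + 2) (by omega)
    exact ⟨A, hA, by rw [hc, Nat.add_sub_cancel, mul_comm]; norm_num⟩
  · rintro c ⟨A, hA, rfl⟩
    obtain ⟨s, hs, h0, hd, hlt⟩ := exists_parts A hA
    have hpos : 0 < s.prod := Nat.pos_of_ne_zero fun h =>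
      absurd (Multiset.prod_eq_zero_iff.1 h) fun h' => lt_irrefl 0 (h0 0 h')
    by_cases h2 : 2 ∈ s
    · have h := hlt h2
      have hle := (prod_le_maxProd s).trans_eq (by rw [hs, maxProd_three_mul_add_two])
      obtain ⟨m, hm⟩ := hd
      have hm2 : 2 ≤ m := by
        rcases m with _ | _ | m
        · omega
        · omega
        · omega
      have h3 : Nat.card A * 2 ≤ s.prod := hm ▸ Nat.mul_le_mul_left _ hm2
      rw [Nat.add_sub_cancel]
      rw [pow_succ, pow_succ] at hle
      omega
    · exact (Nat.le_of_dvd hpos hd).trans (prod_le_second (j + 2) (by omega) s hs h0 h2)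

end Cfsg.Agent.S2504
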