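import Cfsg.Statements.S2530
import Mathlib
import Cfsg.Agent.Lib.Chev.Exchange
-- import your own Cfsg.Agent.* helpers here

set_option autoImplicit false
open Cfsg

namespace Cfsg.Agent.S2530

open CfsgLib.Chev

theorem adj_lt {n : ℕ} (c : Fin n) {a b : Fin (n + 1)} (hab : a < b) (h : ¬ (a = c.castSucc ∧ b = c.succ)) :
    Equiv.swap c.castSucc c.succ a < Equiv.swap c.castSucc c.succ b := by
  simp only [Equiv.swap_apply_def]
  simp only [Fin.ext_iff, Fin.lt_def, Fin.val_castSucc, Fin.val_succ] at *
  split_ifs <;> (try simp only [Fin.lt_def, Fin.val_castSucc, Fin.val_succ] at *) <;> omega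

theorem exch {n : ℕ} (l : List (Fin n)) : ∀ a b : Fin (n + 1), a < b →
    (Exch.prodW (fun i : Fin n => Equiv.swap i.castSucc i.succ) l)⁻¹ b <
      (Exch.prodW (fun i : Fin n => Equiv.swap i.castSucc i.succ) l)⁻¹ a →
    ∃ k < l.length, Equiv.swap a b * Exch.prodW (fun i : Fin n => Equiv.swap i.castSucc i.succ) l =
      Exch.prodW (fun i : Fin n => Equiv.swap i.castSucc i.succ) (l.eraseIdx k) := by
  induction l with
  | nil =>
    intro a b hab h
    rw [Exch.prodW_nil, inv_one, Equiv.Perm.one_apply, Equiv.Perm.one_apply] at h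
    exact absurd h hab.not_gt
  | cons c l ih =>
    intro a b hab h
    by_cases hc : a = c.castSucc ∧ b = c.succ
    · obtain ⟨rfl, rfl⟩ := hc
      exact ⟨0, by simp, by simp [← mul_assoc]⟩
    · rw [Exch.prodW_cons, mul_inv_rev, Equiv.swap_inv, Equiv.Perm.mul_apply, Equiv.Perm.mul_apply] at h
      obtain ⟨k, hk, he⟩ := ih _ _ (adj_lt c hab hc) h
      refine ⟨k + 1, by simpa using hk, ?_⟩
      rw [List.eraseIdx_cons_succ, Exch.prodW_cons, Exch.prodW_cons, ← he, ← mul_assoc, ← mul_assoc,
        Equiv.swap_apply_apply (Equiv.swap c.castSucc c.succ) a b, Equiv.swap_inv]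
      simp [mul_assoc]

/-- The Coxeter presentation of the symmetric group: for every n, the symmetric group on n+1 letters is the Coxeter group of type A_n with the adjacent transpositions (i, i+1) as simple reflections; that is, it is presented by generators r_1, …, r_n subject to r_i² = 1, (r_i r_j)² = 1 for |i − j| > 1 and (r_i r_{i+1})³ = 1, with r_i mapping to (i, i+1). -/
theorem result (n : ℕ) :
    ∃ cs : CoxeterSystem (CoxeterMatrix.A n) (Equiv.Perm (Fin (n + 1))), ∀ i : Fin n, cs.simple i = Equiv.swap i.castSucc i.succ := by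
  classical
  set g : Fin n → Equiv.Perm (Fin (n + 1)) := fun i => Equiv.swap i.castSucc i.succ with hg
  have hsq : ∀ i, g i * g i = 1 := fun i => Equiv.swap_mul_self _ _
  have hne' : ∀ i : Fin n, i.castSucc ≠ i.succ := fun i => Fin.castSucc_lt_succ.ne
  have hinj : Function.Injective g := fun i j h => by
    by_contra hij
    have hv : (i : ℕ) ≠ (j : ℕ) := fun h' => hij (Fin.ext h')
    have h1 := Equiv.congr_fun h i.castSucc
    simp only [hg, Equiv.swap_apply_left] at h1
    simp only [Equiv.swap_apply_def, Fin.ext_iff, Fin.val_castSucc, Fin.val_succ] at h1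
    split_ifs at h1 <;> simp only [Fin.val_castSucc, Fin.val_succ] at h1 <;> omega
  have hne : ∀ i, g i ≠ 1 := fun i h => hne' i (Equiv.swap_eq_one_iff.1 h)
  have hex : Exch.HasExchange g := by
    intro l i hl hil
    have hlt : i.castSucc < i.succ := Fin.castSucc_lt_succ
    by_cases hinv : (Exch.prodW g l)⁻¹ i.succ < (Exch.prodW g l)⁻¹ i.castSucc
    · exact exch l _ _ hlt hinv
    · exfalso
      simp only [Exch.RedW, not_forall, not_le] at hil
      obtain ⟨m, hm, hmlen⟩ := hil
      have hτ : (Exch.prodW g m)⁻¹ i.succ < (Exch.prodW g m)⁻¹ i.castSucc := by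
        rw [hm, Exch.prodW_cons, mul_inv_rev, Equiv.Perm.mul_apply, Equiv.Perm.mul_apply]
        simp only [hg, Equiv.swap_inv, Equiv.swap_apply_left, Equiv.swap_apply_right]
        refine lt_of_le_of_ne (not_lt.1 hinv) fun h => ?_
        exact hne' i ((Exch.prodW g l)⁻¹.injective h)
      obtain ⟨k, hk, he⟩ := exch m _ _ hlt hτ
      have := hl (m.eraseIdx k) (by
        rw [← he]
        show g i * Exch.prodW g m = _
        rw [hm, Exch.prodW_cons, ← mul_assoc, hsq, one_mul])
      rw [List.length_eraseIdx_of_lt hk] at this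
      simp only [List.length_cons] at hmlen
      omega
  have hgen : Subgroup.closure (Set.range g) = ⊤ := by
    refine eq_top_iff.2 fun x _ => ?_
    have hle : Submonoid.closure (Set.range g) ≤ (Subgroup.closure (Set.range g)).toSubmonoid :=
      Submonoid.closure_le.2 Subgroup.subset_closure
    exact hle (by rw [hg, Equiv.Perm.mclosure_swap_castSucc_succ]; trivial)
  obtain ⟨cs, hcs⟩ := Exch.exists_coxeterSystem hsq hinj hex hgen
  have key : ∀ i j : Fin n, orderOf (g i * g j) = CoxeterMatrix.A n i j := by
    intro i j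
    show _ = if i = j then 1 else (if (j : ℕ) + 1 = i ∨ (i : ℕ) + 1 = j then 3 else 2)
    split_ifs with h1 h2
    · subst h1; rw [hsq, orderOf_one]
    · have three : ∀ a b : Fin n, (a : ℕ) + 1 = b → orderOf (g a * g b) = 3 := fun a b hab => by
        have e : a.succ = b.castSucc := Fin.ext (by simp [hab])
        have ha : g a = Equiv.swap b.castSucc a.castSucc := by
          show Equiv.swap a.castSucc a.succ = _
          rw [e, Equiv.swap_comm]
        rw [ha]
        refine (Equiv.Perm.isThreeCycle_swap_mul_swap_same ?_ (hne' b) ?_).orderOf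
        · intro h; rw [← e] at h; exact hne' a h.symm
        · simp only [ne_eq, Fin.ext_iff, Fin.val_castSucc, Fin.val_succ]; omega
      rcases h2 with h2 | h2
      · rw [← orderOf_inv, mul_inv_rev]
        simp only [hg, Equiv.swap_inv]
        exact three j i h2
      · exact three i j h2
    · refine orderOf_eq_prime ?_ fun h => h1 (hinj ?_)
      · have hd : Equiv.Perm.Disjoint (g i) (g j) := by
          intro x
          simp only [hg, Equiv.swap_apply_def, Fin.ext_iff, Fin.val_castSucc, Fin.val_succ]
          split_ifs <;> simp_all <;> omega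
        rw [sq, mul_assoc, ← mul_assoc (g j), ← hd.commute.eq, mul_assoc, hsq, mul_one, hsq]
      · rw [eq_inv_of_mul_eq_one_left h]
        exact Equiv.swap_inv _ _
  have hM : Exch.coxMatrix hsq hinj = CoxeterMatrix.A n := by
    ext i j
    exact key i j
  refine ⟨⟨cs.mulEquiv.trans (hM ▸ MulEquiv.refl _)⟩, ?_⟩
  intro i
  clear key
  revert cs hM
  generalize Exch.coxMatrix hsq hinj = M
  intro cs hcs hM
  subst hM
  exact hcs i

end Cfsg.Agent.S2530
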