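import Cfsg.Statements.S4014
import Cfsg.Agent.Lib.FGS.LinearPGroupLength
import Cfsg.Agent.Lib.FGS.SymmSylowLength

set_option autoImplicit false
open Cfsg

namespace Cfsg.Agent.S4014

/-- Let p be a prime, n ≥ 1, and P a Sylow p-subgroup of the symmetric group on n letters. Then the derived length of P is exactly k = ⌊log_p n⌋ (the largest k with p^k ≤ n): the k-th derived subgroup of P is trivial and, when k ≥ 1, the (k−1)-st is not. -/
theorem result (p : ℕ) [Fact p.Prime] (n : ℕ) (hn : 1 ≤ n) (P : Sylow p (Equiv.Perm (Fin n))) : derivedSeries ↥(P : Subgroup (Equiv.Perm (Fin n))) (Nat.log p n) = ⊥ ∧ (1 ≤ Nat.log p n → derivedSeries ↥(P : Subgroup (Equiv.Perm (Fin n))) (Nat.log p n - 1) ≠ ⊥) := by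
  have hPp : IsPGroup p ↥(P : Subgroup (Equiv.Perm (Fin n))) := P.2
  refine ⟨?_, fun hk => ?_⟩
  · rw [eq_bot_iff]
    intro g hg
    rw [Subgroup.mem_bot]
    refine Subtype.ext (Equiv.ext fun x => ?_)
    have hidx : (MulAction.stabilizer ↥(P : Subgroup (Equiv.Perm (Fin n))) x).index ≤ n := by
      rw [MulAction.index_stabilizer, ← Nat.card_coe_set_eq]
      refine (Nat.card_le_card_of_injective _ Subtype.val_injective).trans ?_
      simp
    exact CfsgLib.FGS.LinearPLength.derivedSeries_le_of_index_le hPp _ hidx hg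
  · obtain ⟨k, hk'⟩ : ∃ k, Nat.log p n = k + 1 := ⟨_, (Nat.sub_add_cancel hk).symm⟩
    rw [hk', Nat.add_sub_cancel]
    let G := Multiplicative (ZMod p)
    haveI : NeZero p := ⟨(Fact.out : p.Prime).ne_zero⟩
    haveI : Fact (1 < p) := ⟨(Fact.out : p.Prime).one_lt⟩
    have hG : Nat.card G = p := by simp [G]
    have hle : Fintype.card (Fin (k + 1) → G) ≤ Fintype.card (Fin n) := by
      rw [Fintype.card_fun, Fintype.card_fin, Fintype.card_fin, ← Nat.card_eq_fintype_card, hG,
        ← hk']
      exact Nat.pow_log_le_self p (by omega)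
    obtain ⟨e⟩ := Function.Embedding.nonempty_of_card_le hle
    let f := (Equiv.Perm.viaEmbeddingHom e).comp (iteratedWreathToPermHom G (k + 1))
    have hf : Function.Injective f :=
      (Equiv.Perm.viaEmbeddingHom_injective e).comp (iteratedWreathToPermHomInj G (k + 1))
    have hrange : IsPGroup p f.range := by
      refine IsPGroup.of_card (n := ∑ i ∈ Finset.range (k + 1), Nat.card G ^ i) ?_
      rw [← Nat.card_congr (MonoidHom.ofInjective hf).toEquiv, IteratedWreathProduct.card, hG]
    obtain ⟨Q, hQ⟩ := hrange.exists_le_sylow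
    let j : IteratedWreathProduct G (k + 1) →* ↥(P : Subgroup (Equiv.Perm (Fin n))) :=
      (Q.equiv P).toMonoidHom.comp (f.codRestrict (Q : Subgroup (Equiv.Perm (Fin n)))
        (fun x => hQ ⟨x, rfl⟩))
    have hj : Function.Injective j := fun x y h => hf
      (congrArg Subtype.val ((Q.equiv P).injective h))
    intro hbot
    apply CfsgLib.FGS.SymmSylowLength.derivedSeries_iterated_ne_bot G k
    have h := map_derivedSeries_le_derivedSeries j k
    rw [hbot, le_bot_iff, Subgroup.map_eq_bot_iff_of_injective _ hj] at h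
    exact h

end Cfsg.Agent.S4014
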