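import Cfsg.Statements.S1983
import Cfsg.Agent.Lib.Techniques.HomChief
import Cfsg.Agent.Lib.Transfer.Critical

set_option autoImplicit false

open scoped commutatorElement
universe u
open Cfsg

namespace Cfsg.Agent.S1983

/-- Let p be a prime, G a finite group with Sylow p-subgroup S and T = O_p(G). Suppose that the lower or the upper K-infinity subgroup of S is not normal in G. Then there is an element g of S outside T such that [X, g, g, g, g] ≤ Y for every chief factor X/Y of G with X ≤ T, and [Z(T), g, g] = 1; and if moreover C_G(T) ≤ T then some quotient group of G is not p-stable (in the normalizer form: some quadratically acting element of a normalizer fails to map into O_p of the automizer). -/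
theorem result {G : Type u} [Group G] [Finite G] {p : ℕ} [Fact p.Prime] (S : Sylow p G) (hK : ¬ (Cfsg.inducedFunctor Cfsg.kInfLower (S : Subgroup G)).Normal ∨ ¬ (Cfsg.inducedFunctor Cfsg.kInfUpper (S : Subgroup G)).Normal) : ∃ g : G, g ∈ (S : Subgroup G) ∧ g ∉ (Cfsg.pCore p G) ∧ (∀ U V : Subgroup G, Cfsg.IsChiefFactor U V → U ≤ (Cfsg.pCore p G) → Cfsg.iterCommutator U (Subgroup.zpowers g) 4 ≤ V) ∧ ⁅⁅((Cfsg.pCore p G) ⊓ Subgroup.centralizer (((Cfsg.pCore p G) : Subgroup G) : Set G)), (Subgroup.zpowers g)⁆, (Subgroup.zpowers g)⁆ = ⊥ ∧ (Subgroup.centralizer (((Cfsg.pCore p G) : Subgroup G) : Set G) ≤ (Cfsg.pCore p G) → ∃ (N : Subgroup G) (_ : N.Normal), ¬ Cfsg.IsNormalizerPStable p (G ⧸ N)) := by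
  have hTc := CfsgLib.Cores.pCore_characteristic (G := G) p
  have hTn : (Cfsg.pCore p G).Normal := inferInstance
  have hT : IsPGroup p (Cfsg.pCore p G) := CfsgLib.Cores.isPGroup_pCore p
  obtain ⟨H, hHc, -, hcomm, hCH⟩ := CfsgLib.Transfer.exists_critical hT
  let f := (Cfsg.pCore p G).subtype
  have hf : Function.Injective f := Subtype.coe_injective
  set A := H.map f with hA
  have hAT : A ≤ Cfsg.pCore p G := Subgroup.map_subtype_le H
  have hAof : A.subgroupOf (Cfsg.pCore p G) = H := Subgroup.comap_map_eq_self_of_injective hf H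
  have hAchar : (A.subgroupOf (Cfsg.pCore p G)).Characteristic := by rw [hAof]; exact hHc
  have hZeq := CfsgLib.Techniques.KSeq.map_inf_centralizer hf H
  have hA3 : ⁅Cfsg.pCore p G, A⁆ ≤ A ⊓ Subgroup.centralizer (A : Set G) := by
    have htop : Cfsg.pCore p G = (⊤ : Subgroup ↥(Cfsg.pCore p G)).map f := by
      rw [← MonoidHom.range_eq_map, Subgroup.range_subtype]
    rw [Subgroup.commutator_comm, ← hZeq]
    conv_lhs => rw [htop, hA, ← Subgroup.map_commutator]
    exact Subgroup.map_mono hcomm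
  have hA2 : ⁅A, A⁆ ≤ Subgroup.centralizer (A : Set G) :=
    ((Subgroup.commutator_mono hAT le_rfl).trans hA3).trans inf_le_right
  have hA4 : Cfsg.pCore p G ⊓ Subgroup.centralizer (A : Set G) =
      A ⊓ Subgroup.centralizer (A : Set G) := by
    refine le_antisymm (fun x hx => ⟨?_, hx.2⟩) (inf_le_inf_right _ hAT)
    exact ⟨⟨x, hx.1⟩, hCH (Subgroup.mem_centralizer_iff.2 fun h hh => hf
      (Subgroup.mem_centralizer_iff.1 hx.2 (f h) (Subgroup.mem_map_of_mem f hh))), rfl⟩
  have hA5 : ∀ φ : MulAut ↥(Cfsg.pCore p G), (orderOf φ).Coprime p →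
      (∀ a : ↥(Cfsg.pCore p G), (a : G) ∈ A → φ a = a) → φ = 1 := fun φ hφ h => by
    have : H.Normal := inferInstance
    exact CfsgLib.Transfer.aut_eq_one_of_fix_normal hT H hCH φ hφ
      fun x hx => h x (Subgroup.mem_map_of_mem f hx)
  obtain ⟨g, hgS, hgT, hcub, hquad, hcl⟩ :=
    (CfsgLib.Techniques.KInfCritical.kInf_normal_or_exists S A hAT hAchar hA2 hA3 hA5).resolve_left
      (fun h => hK.elim (fun h' => h' h.1) (fun h' => h' h.2))
  have hAn := CfsgLib.Techniques.Chief.normal_of_characteristic_subgroupOf hAT hAchar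
  have hAA : ⁅A, A⁆ ≤ A ⊓ Subgroup.centralizer (A : Set G) :=
    le_inf (Subgroup.commutator_le_self A) hA2
  have hcubel := (CfsgLib.Techniques.Chief.iter_le_iff_normal inf_le_left hAA g 3).1 hcub
  have hquadel := (CfsgLib.Techniques.Chief.iter_le_iff_normal (V := ⊥) bot_le
    (Subgroup.commutator_eq_bot_iff_le_centralizer.2
      (inf_le_right.trans (Subgroup.centralizer_le (inf_le_left :
        A ⊓ Subgroup.centralizer (A : Set G) ≤ A)))).le g 2).1 hquad.le
  refine ⟨g, hgS, hgT, ?_, ?_, fun hC => ?_⟩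
  · refine CfsgLib.Techniques.HomChief.degree_add (Cfsg.pCore p G) hT A hAT hAn hA3 hA4 g 3 2
      (by omega) (fun U V hUV hUA => ?_) (fun U V hUV hUZ => ?_)
    · haveI := hUV.2.1
      haveI := hUV.2.2.1
      refine (CfsgLib.Techniques.Chief.iter_le_iff_normal hUV.1.le
        (CfsgLib.Techniques.Chief.chief_comm hUV (hT.to_le (hUA.trans hAT))) g 3).2 fun u hu => ?_
      rcases hUV.2.2.2 (V ⊔ U ⊓ (A ⊓ Subgroup.centralizer (A : Set G))) inferInstance le_sup_left
        (sup_le hUV.1.le inf_le_left) with h | h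
      · exact h.le (Subgroup.mem_sup_right (Subgroup.mem_inf.2
          ⟨CfsgLib.Techniques.KInfCritical.iter_mem
            (CfsgLib.Techniques.Chief.mem_normalizer_of_normal U g) hu 3, hcubel u (hUA hu)⟩))
      · obtain ⟨v, hv, z, hz, rfl⟩ := Subgroup.mem_sup_of_normal_left.1 (h.ge hu)
        have hzV : (fun x => ⁅x, g⁆)^[2] z ∈ V := by
          rw [Subgroup.mem_bot.1 (hquadel z hz.2)]; exact one_mem V
        rw [CfsgLib.Techniques.KInfCritical.mem_iff_mk,
          CfsgLib.Techniques.KInfCritical.iter_congr g 3 (show QuotientGroup.mk' V (v * z) =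
            QuotientGroup.mk' V z by
              rw [map_mul, CfsgLib.Techniques.KInfCritical.mem_iff_mk.1 hv, one_mul])]
        exact CfsgLib.Techniques.KInfCritical.mem_iff_mk.1
          (CfsgLib.Techniques.HomChief.iter_mem_of_le (n := 3) hzV (by omega))
    · haveI := hUV.2.1
      haveI := hUV.2.2.1
      refine (CfsgLib.Techniques.Chief.iter_le_iff_normal hUV.1.le (CfsgLib.Techniques.Chief.chief_comm
        hUV (hT.to_le ((hUZ.trans inf_le_left).trans hAT))) g 2).2 fun u hu => ?_
      rw [Subgroup.mem_bot.1 (hquadel u (hUZ hu))]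
      exact one_mem V
  · refine le_bot_iff.1 ((Subgroup.commutator_mono (Subgroup.commutator_mono ?_ le_rfl) le_rfl).trans
      hquad.le)
    rw [← hA4]
    exact inf_le_inf_left _ (Subgroup.centralizer_le hAT)
  · obtain ⟨U, V, hUV, hUA, hq, hnt⟩ := hcl hC
    haveI hUn := hUV.2.1
    haveI hVn := hUV.2.2.1
    have hUp : IsPGroup p U := hT.to_le (hUA.trans hAT)
    refine ⟨V, hVn, fun hst => ?_⟩
    let π := QuotientGroup.mk' V
    let P' := U.map π
    have hPn : P'.Normal := hUn.map π (QuotientGroup.mk'_surjective V)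
    have hN : ∀ x : G, π x ∈ Subgroup.normalizer (P' : Set (G ⧸ V)) := fun x =>
      CfsgLib.Techniques.Chief.mem_normalizer_of_normal P' _
    have hquot : ⁅⁅P', Subgroup.zpowers (π g)⁆, Subgroup.zpowers (π g)⁆ = ⊥ := by
      rw [← MonoidHom.map_zpowers, ← Subgroup.map_commutator, ← Subgroup.map_commutator,
        Subgroup.map_eq_bot_iff, QuotientGroup.ker_mk']
      exact hq
    have hmem := hst P' (hUp.map π) (π g) (hN g) hquot
    let ψ := (QuotientGroup.mk' ((Subgroup.centralizer (P' : Set (G ⧸ V))).subgroupOf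
      (Subgroup.normalizer (P' : Set (G ⧸ V))))).comp (π.codRestrict _ hN)
    let R := (Cfsg.pCore p (↥(Subgroup.normalizer (P' : Set (G ⧸ V))) ⧸
      (Subgroup.centralizer (P' : Set (G ⧸ V))).subgroupOf
        (Subgroup.normalizer (P' : Set (G ⧸ V))))).comap ψ
    have hR : R.Normal := by
      have := CfsgLib.Cores.pCore_characteristic
        (G := (↥(Subgroup.normalizer (P' : Set (G ⧸ V))) ⧸
          (Subgroup.centralizer (P' : Set (G ⧸ V))).subgroupOf
            (Subgroup.normalizer (P' : Set (G ⧸ V))))) p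
      exact Subgroup.Normal.comap inferInstance ψ
    refine hnt (CfsgLib.Techniques.Chief.commutator_zpowers_le
      (CfsgLib.Techniques.Chief.mem_normalizer_of_normal V g) fun u hu => ?_)
    refine CfsgLib.Techniques.HomChief.fixed_of_coprime hUV hUp (R := R) (fun r hr hc w hw => ?_)
      u hu g hmem
    obtain ⟨n, hn⟩ := CfsgLib.Cores.isPGroup_pCore p ⟨ψ r, hr⟩
    have h1 : ψ r = 1 := by
      rw [← orderOf_eq_one_iff]
      exact Nat.eq_one_of_dvd_coprimes (Nat.Coprime.pow_right n hc) (orderOf_map_dvd ψ r)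
        (orderOf_dvd_of_pow_eq_one (congrArg Subtype.val hn))
    have h2 := (QuotientGroup.eq_one_iff _).1 h1
    rw [CfsgLib.Techniques.KInfCritical.mem_iff_mk, map_commutatorElement,
      commutatorElement_eq_one_iff_mul_comm]
    exact Subgroup.mem_centralizer_iff.1 (Subgroup.mem_subgroupOf.1 h2) (π w)
      (Subgroup.mem_map_of_mem π hw)

end Cfsg.Agent.S1983
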