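import Cfsg.Statements.S0119
import Cfsg.Agent.Lib.Transfer.Critical
import Cfsg.Agent.Lib.PGroup.Basic

set_option autoImplicit false
open Cfsg
open scoped commutatorElement

namespace Cfsg.Agent.S0119

/-- If a p'-group A of automorphisms of a p-group G satisfies G = [G, A] and acts trivially on every characteristic abelian subgroup, then G is special with centre equal to the fixed points of A. -/
theorem result {G : Type*} [Group G] [Finite G] {p : ℕ} [Fact p.Prime] (hG : IsPGroup p G) (A : Subgroup (MulAut G)) (hA : Nat.Coprime (Nat.card A) p) (hGA : Subgroup.closure {x : G | ∃ g : G, ∃ a ∈ A, x = g⁻¹ * a g} = ⊤) (hchar : ∀ H : Subgroup G, H.Characteristic → IsMulCommutative H → ∀ a ∈ A, ∀ h ∈ H, a h = h) : Cfsg.IsSpecial p G ∧ (∀ g : G, (g ∈ Subgroup.center G ↔ ∀ a ∈ A, a g = g)) := by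
  classical
  have hp := (Fact.out : p.Prime)
  have := hG.isNilpotent
  -- characteristic abelian subgroups are central
  have hcentral : ∀ H : Subgroup G, H.Characteristic → IsMulCommutative H → H ≤ Subgroup.center G := by
    intro H hH hHc h hh
    have hfix := hchar H hH hHc
    have key : (⊤ : Subgroup G) ≤ Subgroup.centralizer ({h} : Set G) := by
      rw [← hGA, Subgroup.closure_le]
      rintro _ ⟨g, a, ha, rfl⟩
      rw [SetLike.mem_coe, Subgroup.mem_centralizer_singleton_iff]
      have h1 : a (g * h * g⁻¹) = g * h * g⁻¹ :=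
        hfix a ha _ ((inferInstance : H.Normal).conj_mem h hh g)
      rw [map_mul, map_mul, map_inv, hfix a ha h hh] at h1
      calc g⁻¹ * a g * h = g⁻¹ * (a g * h * (a g)⁻¹) * a g := by group
        _ = g⁻¹ * (g * h * g⁻¹) * a g := by rw [h1]
        _ = h * (g⁻¹ * a g) := by group
    exact Subgroup.mem_center_iff.2 fun g => Subgroup.mem_centralizer_singleton_iff.1 (key (Subgroup.mem_top g))
  -- class at most two
  have hc : ∀ a b : G, ⁅a, b⁆ ∈ Subgroup.center G := by
    have hab : ∀ u ∈ Subgroup.upperCentralSeries G 2 ⊓ commutator G, ∀ v ∈ Subgroup.upperCentralSeries G 2 ⊓ commutator G,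
        u * v = v * u := by
      intro u hu v hv
      have hcu : commutator G ≤ Subgroup.centralizer ({u} : Set G) := by
        rw [commutator_eq_closure, Subgroup.closure_le]
        rintro _ ⟨a, b, rfl⟩
        rw [SetLike.mem_coe, Subgroup.mem_centralizer_singleton_iff]
        have hua : ∀ g : G, ⁅u, g⁆ ∈ Subgroup.center G := fun g => by
          have h2 := Subgroup.mem_upperCentralSeries_succ_iff.1 hu.1 g
          rw [Subgroup.upperCentralSeries_one] at h2
          exact h2
        have h1 : ⁅u, ⁅a, b⁆⁆ = 1 := by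
          rw [commutatorElement_def a b, CfsgLib.PGroup.comm_mul_right (hua _), CfsgLib.PGroup.comm_mul_right (hua _),
            CfsgLib.PGroup.comm_mul_right (hua _)]
          have e1 : ∀ g : G, ⁅u, g⁆ * ⁅u, g⁻¹⁆ = 1 := fun g => by
            rw [← CfsgLib.PGroup.comm_mul_right (hua _), mul_inv_cancel, commutatorElement_one_right]
          rw [mul_assoc ⁅u, a⁆, Subgroup.mem_center_iff.1 (hua a⁻¹) ⁅u, b⁆, ← mul_assoc ⁅u, a⁆, e1, one_mul, e1]
        exact (commutatorElement_eq_one_iff_mul_comm.1 h1).symm
      exact (Subgroup.mem_centralizer_singleton_iff.1 (hcu hv.2)).symm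
    have hD : Subgroup.upperCentralSeries G 2 ⊓ commutator G ≤ Subgroup.center G := by
      refine hcentral _ ?_ ⟨⟨fun u v => Subtype.ext (hab u u.2 v v.2)⟩⟩
      rw [Subgroup.characteristic_iff_map_le]
      intro φ
      exact (Subgroup.map_inf_le _ _ _).trans (inf_le_inf (Subgroup.characteristic_iff_map_le.1 inferInstance φ)
        (Subgroup.characteristic_iff_map_le.1 inferInstance φ))
    suffices commutator G ≤ Subgroup.center G from fun a b =>
      this (Subgroup.commutator_mem_commutator (Subgroup.mem_top a) (Subgroup.mem_top b))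
    by_contra hle
    set π := QuotientGroup.mk' (Subgroup.center G)
    have hne : (commutator G).map π ≠ ⊥ := by
      rwa [Ne, Subgroup.map_eq_bot_iff, QuotientGroup.ker_mk']
    have : ((commutator G).map π).Normal := (inferInstance : (commutator G).Normal).map π (QuotientGroup.mk'_surjective _)
    obtain ⟨Z, hZle, hZc, -, hZ⟩ := CfsgLib.PGroup.exists_card_eq_le_center (hG.to_quotient _) _ hne
    obtain ⟨q, hq, hq1⟩ : ∃ q ∈ Z, q ≠ 1 := by
      by_contra hcon
      push Not at hcon
      rw [(Subgroup.eq_bot_iff_forall Z).2 hcon, Subgroup.card_bot] at hZ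
      exact hp.ne_one hZ.symm
    obtain ⟨g, hg, rfl⟩ := hZle hq
    refine hq1 ((QuotientGroup.eq_one_iff g).2 (hD ⟨?_, hg⟩))
    refine Subgroup.mem_upperCentralSeries_succ_iff.2 fun y => ?_
    rw [Subgroup.upperCentralSeries_one, ← QuotientGroup.eq_one_iff]
    show π ⁅g, y⁆ = 1
    rw [map_commutatorElement, commutatorElement_eq_one_iff_mul_comm]
    exact (Subgroup.mem_center_iff.1 (hZc hq) (π y)).symm
  have hGle : commutator G ≤ Subgroup.center G := by
    rw [commutator_eq_closure, Subgroup.closure_le]
    rintro _ ⟨a, b, rfl⟩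
    exact hc a b
  have hcomm_fix : ∀ a ∈ A, ∀ h ∈ commutator G, a h = h := hchar _ inferInstance
    ⟨⟨fun u v => Subtype.ext (Subgroup.mem_center_iff.1 (hGle v.2) u)⟩⟩
  have hfix : ∀ g : G, g ∈ Subgroup.center G ↔ ∀ a ∈ A, a g = g := by
    intro g
    refine ⟨fun hg a ha => hchar _ inferInstance inferInstance a ha g hg, fun hg => ?_⟩
    have key : (⊤ : Subgroup G) ≤ Subgroup.centralizer ({g} : Set G) := by
      rw [← hGA, Subgroup.closure_le]
      rintro _ ⟨y, a, ha, rfl⟩
      rw [SetLike.mem_coe, Subgroup.mem_centralizer_singleton_iff]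
      refine (commutatorElement_eq_one_iff_mul_comm.1 ?_).symm
      have h1 : ⁅g, a y⁆ = ⁅g, y⁆ := by
        conv_lhs => rw [← hg a ha, ← map_commutatorElement]
        exact hcomm_fix a ha _ (Subgroup.commutator_mem_commutator (Subgroup.mem_top g) (Subgroup.mem_top y))
      rw [CfsgLib.PGroup.comm_mul_right (hc _ _), h1, ← CfsgLib.PGroup.comm_mul_right (hc _ _), inv_mul_cancel,
        commutatorElement_one_right]
    exact Subgroup.mem_center_iff.2 fun y => Subgroup.mem_centralizer_singleton_iff.1 (key (Subgroup.mem_top y))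
  -- the centre lies in the commutator subgroup
  have hZle : Subgroup.center G ≤ commutator G := by
    intro z hz
    let _ := Fintype.ofFinite A
    let f : G →* Abelianization G :=
      { toFun := fun g => ∏ a : A, Abelianization.of ((a : MulAut G) g)
        map_one' := by simp
        map_mul' := fun u v => by simp [Finset.prod_mul_distrib] }
    have hf : ∀ g, f g = 1 := by
      have htop : (⊤ : Subgroup G) ≤ f.ker := by
        rw [← hGA, Subgroup.closure_le]
        rintro _ ⟨g, b, hb, rfl⟩
        show f (g⁻¹ * b g) = 1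
        rw [map_mul, map_inv, inv_mul_eq_one]
        show ∏ a : A, Abelianization.of ((a : MulAut G) g) = ∏ a : A, Abelianization.of ((a : MulAut G) (b g))
        refine (Fintype.prod_equiv (Equiv.mulRight (⟨b, hb⟩ : A)) _ _ fun a => ?_).symm
        rfl
      exact fun g => htop (Subgroup.mem_top g)
    have h1 : (Abelianization.of z) ^ Nat.card A = 1 := by
      rw [← hf z]
      show _ = ∏ a : A, Abelianization.of ((a : MulAut G) z)
      rw [Finset.prod_congr rfl (fun (a : A) _ => by rw [(hfix z).1 hz a a.2]), Finset.prod_const, Finset.card_univ,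
        Nat.card_eq_fintype_card]
    obtain ⟨k, hk⟩ := IsPGroup.iff_orderOf.1 hG z
    have h2 : orderOf (Abelianization.of z) ∣ p ^ k := hk ▸ orderOf_map_dvd _ z
    have h3 : orderOf (Abelianization.of z) = 1 :=
      Nat.eq_one_of_dvd_coprimes (hA.pow_right k) (orderOf_dvd_of_pow_eq_one h1) h2
    rw [orderOf_eq_one_iff] at h3
    exact (QuotientGroup.eq_one_iff z).1 h3
  -- commutators have order at most p
  have hexp : ∀ a b : G, ⁅a, b⁆ ^ p = 1 := by
    have hex : ∃ m, ∀ a b : G, ⁅a, b⁆ ^ p ^ m = 1 := by
      obtain ⟨k, hk⟩ := IsPGroup.iff_card.1 hG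
      exact ⟨k, fun a b => hk ▸ pow_card_eq_one'⟩
    set m := Nat.find hex with hm
    have hspec := Nat.find_spec hex
    rw [← hm] at hspec
    by_cases hm2 : m ≤ 1
    · intro a b
      rcases Nat.le_one_iff_eq_zero_or_eq_one.1 hm2 with h | h <;> rw [h] at hspec
      · have := hspec a b
        rw [pow_zero, pow_one] at this
        rw [this, one_pow]
      · simpa using hspec a b
    exfalso
    set S : Set G := {y | ∃ x : G, x ^ p ^ (m - 1) = y}
    set H := Subgroup.closure S
    have hHc : ∀ u ∈ S, ∀ v ∈ S, u * v = v * u := by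
      rintro _ ⟨x, rfl⟩ _ ⟨y, rfl⟩
      refine commutatorElement_eq_one_iff_mul_comm.1 ?_
      rw [CfsgLib.PGroup.comm_pow_left (hc _ _), CfsgLib.PGroup.comm_pow_right (hc _ _), ← pow_mul, ← pow_add,
        show m - 1 + (m - 1) = m + (m - 2) by omega, pow_add, pow_mul, hspec, one_pow]
    have hHchar : H.Characteristic := by
      rw [Subgroup.characteristic_iff_map_le]
      intro φ
      rw [MonoidHom.map_closure]
      refine Subgroup.closure_mono ?_
      rintro _ ⟨_, ⟨x, rfl⟩, rfl⟩
      exact ⟨φ x, (map_pow _ _ _).symm⟩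
    have hle := hcentral H hHchar (Subgroup.isMulCommutative_closure hHc)
    have hmin : ∀ a b : G, ⁅a, b⁆ ^ p ^ (m - 1) = 1 := fun a b => by
      rw [← CfsgLib.PGroup.comm_pow_left (hc _ _), commutatorElement_eq_one_iff_mul_comm]
      exact (Subgroup.mem_center_iff.1 (hle (Subgroup.subset_closure ⟨a, rfl⟩)) b).symm
    have := Nat.find_le (h := hex) hmin
    omega
  have hpow : ∀ x : G, x ^ p ∈ commutator G := fun x => hZle (Subgroup.mem_center_iff.2 fun y => by
    have h1 : ⁅x ^ p, y⁆ = 1 := by rw [CfsgLib.PGroup.comm_pow_left (hc x y), hexp]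
    exact (commutatorElement_eq_one_iff_mul_comm.1 h1).symm)
  have hΦ : frattini G = commutator G := le_antisymm
    (CfsgLib.Transfer.frattini_le_of_commutator_pow _
      (fun a b => Subgroup.commutator_mem_commutator (Subgroup.mem_top a) (Subgroup.mem_top b)) hpow)
    (CfsgLib.PGroup.commutator_le_frattini hG)
  exact ⟨⟨hG, hΦ.trans (le_antisymm hGle hZle), le_antisymm hGle hZle⟩, hfix⟩

end Cfsg.Agent.S0119
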