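import Cfsg.Statements.S0223
import Cfsg.Agent.Lib.Invol.Embedded

set_option autoImplicit false
open Cfsg

namespace Cfsg.Agent.S0223

/-- Let H be a proper subgroup of even order of the finite group G. Then H is strongly embedded if and only if (i) C_G(t) ≤ H for every involution t of H and (ii) H controls fusion of its involutions: involutions of H conjugate in G are conjugate in H. -/
theorem result {G : Type*} [Group G] [Finite G] (H : Subgroup G) (hH : H ≠ ⊤) (heven : Even (Nat.card H)) : Cfsg.IsStronglyEmbedded H ↔ ((∀ t ∈ H, orderOf t = 2 → Subgroup.centralizer ({t} : Set G) ≤ H) ∧ (∀ t ∈ H, ∀ s ∈ H, orderOf t = 2 → orderOf s = 2 → IsConj t s → ∃ h ∈ H, h * t * h⁻¹ = s)) := by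
  constructor
  · intro hSE
    refine ⟨fun t ht ht2 => CfsgLib.Invol.stronglyEmbedded_centralizer_le hSE ht ht2,
      fun t ht s hs ht2 _ hts => ?_⟩
    obtain ⟨g, rfl⟩ := isConj_iff.mp hts
    exact ⟨g, CfsgLib.Invol.stronglyEmbedded_conj_mem hSE ht ht2 hs, rfl⟩
  · rintro ⟨hC, hF⟩
    refine ⟨hH, heven, fun g hg => ?_⟩
    by_contra hodd
    rw [Nat.not_odd_iff_even] at hodd
    obtain ⟨⟨t, htm⟩, ht⟩ := exists_prime_orderOf_dvd_card' 2 (even_iff_two_dvd.mp hodd)
    rw [← Subgroup.orderOf_coe] at ht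
    obtain ⟨htH, htg⟩ := Subgroup.mem_inf.mp htm
    rw [CfsgLib.Invol.mem_map_conj] at htg
    have hs2 : orderOf (g⁻¹ * t * g) = 2 := by
      have := CfsgLib.Invol.orderOf_conj_eq g⁻¹ t
      rw [inv_inv] at this
      rw [this, ht]
    obtain ⟨h, hh, he⟩ := hF _ htg t htH hs2 ht (isConj_iff.mpr ⟨g, by group⟩)
    have hcen : g * h⁻¹ ∈ Subgroup.centralizer ({t} : Set G) := by
      rw [Subgroup.mem_centralizer_singleton_iff, ← mul_inv_eq_iff_eq_mul]
      calc g * h⁻¹ * t * (g * h⁻¹)⁻¹ = g * (h⁻¹ * t * h) * g⁻¹ := by group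
        _ = g * (h⁻¹ * (h * (g⁻¹ * t * g) * h⁻¹) * h) * g⁻¹ := by rw [he]
        _ = t := by group
    refine hg ?_
    simpa using mul_mem (hC t htH ht hcen) hh

end Cfsg.Agent.S0223
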