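import Cfsg.Statements.S1279
import Cfsg.Agent.Lib.Cores.Balance
import Cfsg.Agent.Lib.PGroup.ElemAbelian
-- import your own Cfsg.Agent.* helpers here

set_option autoImplicit false
open Cfsg

namespace Cfsg.Agent.S1279

/-- Let A be a noncyclic elementary abelian p-subgroup of the finite group G such that C_G(a) is solvable for every non-identity a ∈ A. Then a ↦ O_{p'}(C_G(a)) is a solvable A-signalizer functor on G. -/
theorem result {G : Type*} [Group G] [Finite G] (p : ℕ) [Fact p.Prime] (A : Subgroup G) (hA : Cfsg.IsElementaryAbelian p A) (hA2 : p ^ 2 ≤ Nat.card ↥A) (hsolv : ∀ a ∈ A, a ≠ 1 → Group.IsSolvable ↥(Subgroup.centralizer ({a} : Set G))) : Cfsg.IsSolvableSignalizerFunctor p A (fun a => Cfsg.centralizerPPrimeCore p a) := by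
  have hc : ∀ a ∈ A, ∀ b ∈ A, b * a = a * b := fun a ha b hb => CfsgLib.PGroup.elemAb_comm hA hb ha
  refine ⟨⟨fun a _ _ => CfsgLib.Cores.centralizerPPrimeCore_le a,
    fun a _ _ => (CfsgLib.Cores.coprime_iff_not_dvd Fact.out _).1 (CfsgLib.Cores.card_centralizerPPrimeCore_coprime a),
    fun a ha _ b hb x hx => CfsgLib.Cores.conj_mem_centralizerPPrimeCore (hc a ha b hb) hx,
    fun a ha ha1 b hb hb1 => ?_⟩, fun a ha ha1 => ?_⟩
  · haveI := hsolv b hb hb1
    exact CfsgLib.Cores.balance_of_constrained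
      (CfsgLib.Cores.isPGroup_zpowers_of_orderOf_eq (orderOf_eq_prime (hA.2 a ha) ha1)) (hc b hb a ha)
      CfsgLib.Cores.isPConstrained_of_isSolvable
  · exact CfsgLib.Solvable.isSolvable_of_le (hsolv a ha ha1) (CfsgLib.Cores.centralizerPPrimeCore_le a)

end Cfsg.Agent.S1279
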