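import Cfsg.Statements.S0009
import Cfsg.Agent.Lib.Cores.Fitting

set_option autoImplicit false
open Cfsg

open scoped Pointwise

namespace Cfsg.Agent.S0009

/-- The Fitting subgroup of a finite group is generated by the p-cores, p ranging over the primes. -/
theorem result {G : Type*} [Group G] [Finite G] :
    Cfsg.fittingSubgroup G = ⨆ p : Nat.Primes, Cfsg.pCore (p : ℕ) G := by
  rw [CfsgLib.Cores.fittingSubgroup_eq_iSup_pCore]
  refine le_antisymm (iSup_le fun q => ?_) (iSup_le fun q => ?_)
  · exact le_iSup_of_le (⟨(q : ℕ), Nat.prime_of_mem_primeFactors q.2⟩ : Nat.Primes) le_rfl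
  · haveI : Fact (q : ℕ).Prime := ⟨q.2⟩
    rw [← CfsgLib.Cores.fittingSubgroup_eq_iSup_pCore]
    exact CfsgLib.Cores.pCore_le_fittingSubgroup _

end Cfsg.Agent.S0009
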