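import Cfsg.Statements.S0011
import Cfsg.Agent.Lib.Solvable.Basic

set_option autoImplicit false
open Cfsg

open scoped Pointwise

namespace Cfsg.Agent.S0011

/-- If the Frattini quotient of a finite group is nilpotent then the group is nilpotent. -/
theorem result {G : Type*} [Group G] [Finite G]
    (h : Group.IsNilpotent (G ⧸ frattini G)) : Group.IsNilpotent G := by
  have hf := frattini_nilpotent (G := G)
  refine (Group.isNilpotent_of_finite_tfae (G := G)).out 3 0 |>.1 ?_
  intro p hp P
  have hsurj := QuotientGroup.mk'_surjective (frattini G)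
  have h1 : Subgroup.Normal ((P.mapSurjective hsurj : Sylow p _) : Subgroup (G ⧸ frattini G)) :=
    inferInstance
  rw [Sylow.coe_mapSurjective] at h1
  have h2 := h1.comap (QuotientGroup.mk' (frattini G))
  rw [Subgroup.comap_map_eq, QuotientGroup.ker_mk'] at h2
  set M := (P : Subgroup G) ⊔ frattini G
  have hle : (P : Subgroup G) ≤ M := le_sup_left
  have h3 := Sylow.normalizer_sup_eq_top (N := M) (P.subtype hle)
  rw [Sylow.coe_subtype, Subgroup.map_subgroupOf_eq_of_le hle] at h3
  have h4 : Subgroup.normalizer ((P : Subgroup G) : Set G) ⊔ frattini G = ⊤ := by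
    rw [eq_top_iff, ← h3]
    exact sup_le le_sup_left (sup_le (Subgroup.le_normalizer.trans le_sup_left) le_sup_right)
  exact Subgroup.normalizer_eq_top_iff.1 (frattini_nongenerating h4)

end Cfsg.Agent.S0011
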