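import Cfsg.Statements.S0015
import Cfsg.Agent.Lib.Solvable.Nilpotent

set_option autoImplicit false
open Cfsg

open scoped Pointwise

open scoped commutatorElement

namespace Cfsg.Agent.S0015

/-- In a finite nilpotent group, an abelian normal subgroup that is maximal among abelian normal subgroups equals its own centralizer. -/
theorem result {G : Type*} [Group G] [Finite G] [Group.IsNilpotent G]
    (N : Subgroup G) [N.Normal] [IsMulCommutative N]
    (hmax : ∀ M : Subgroup G, M.Normal → IsMulCommutative M → N ≤ M → M = N) :
    Subgroup.centralizer (N : Set G) = N := by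
  have hN : N ≤ Subgroup.centralizer (N : Set G) := fun a ha =>
    Subgroup.mem_centralizer_iff.2 fun b hb =>
      congrArg Subtype.val ((inferInstance : IsMulCommutative N).is_comm.comm ⟨b, hb⟩ ⟨a, ha⟩)
  refine le_antisymm (not_not.1 fun hne => ?_) hN
  obtain ⟨x, hxC, hxN, hx⟩ := CfsgLib.Solvable.exists_central_mod_of_isNilpotent hne
  set M := N ⊔ Subgroup.zpowers x
  have hMn : M.Normal := by
    rw [← Subgroup.normalizer_eq_top_iff, eq_top_iff]
    intro g _
    refine CfsgLib.Solvable.mem_normalizer_of_conj_mem fun y hy => ?_
    suffices M ≤ M.comap (MulAut.conj g).toMonoidHom from this hy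
    refine sup_le (fun z hz => Subgroup.mem_sup_left ((inferInstance : N.Normal).conj_mem z hz g)) ?_
    rw [Subgroup.zpowers_le]
    show g * x * g⁻¹ ∈ M
    have h := mul_mem (Subgroup.mem_sup_left (T := Subgroup.zpowers x) (inv_mem (hx g).2))
      (Subgroup.mem_sup_right (S := N) (Subgroup.mem_zpowers x))
    simpa [commutatorElement_def, mul_assoc] using h
  have hMc : IsMulCommutative M := by
    have : M ≤ Subgroup.centralizer (M : Set G) := by
      refine sup_le ?_ ?_
      · refine Subgroup.le_centralizer_iff.1 (sup_le hN ?_)
        rw [Subgroup.zpowers_le]; exact hxC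
      · rw [Subgroup.zpowers_le]
        refine Subgroup.mem_centralizer_iff.2 fun y hy => ?_
        suffices M ≤ Subgroup.centralizer {x} from
          (Subgroup.mem_centralizer_singleton_iff.1 (this hy))
        refine sup_le (fun z hz => ?_) ?_
        · exact Subgroup.mem_centralizer_singleton_iff.2 (Subgroup.mem_centralizer_iff.1 hxC z hz)
        · rw [Subgroup.zpowers_le]
          exact Subgroup.mem_centralizer_singleton_iff.2 rfl
    exact ⟨⟨fun a b => Subtype.ext (Subgroup.mem_centralizer_iff.1 (this b.2) a a.2)⟩⟩
  exact hxN ((hmax M hMn hMc le_sup_left) ▸ Subgroup.mem_sup_right (Subgroup.mem_zpowers x))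

end Cfsg.Agent.S0015
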