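import Cfsg.Statements.S0029
import Cfsg.Agent.Lib.Solvable.CoprimeAction

set_option autoImplicit false
open Cfsg

namespace Cfsg.Agent.S0029

/-- An action that is trivial on the Frattini quotient and coprime on the Frattini subgroup is trivial: if A normalises K, the orders of A and of the Frattini subgroup of K are coprime, and every commutator of an element of A with an element of K lies in the Frattini subgroup of K, then A centralises K. -/
theorem result {G : Type*} [Group G] [Finite G] (A K : Subgroup G)
    (hAK : A ≤ Subgroup.normalizer (K : Set G))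
    (hcop : (Nat.card A).Coprime (Nat.card (frattini K)))
    (htriv : ∀ a ∈ A, ∀ k ∈ K, a * k * a⁻¹ * k⁻¹ ∈ (frattini K).map K.subtype) :
    A ≤ Subgroup.centralizer (K : Set G) := by
  set F := (frattini K).map K.subtype with hF
  have hFK : F ≤ K := Subgroup.map_subtype_le _
  have hAF : A ≤ Subgroup.normalizer (F : Set G) := fun a ha => by
    refine CfsgLib.Solvable.mem_normalizer_of_conj_mem fun x hx => ?_
    obtain ⟨y, hy, rfl⟩ := hx
    exact ⟨Subgroup.normalizerMonoidHom K ⟨a, hAK ha⟩ y,
      Subgroup.Characteristic.fixed (inferInstance : (frattini K).Characteristic)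
        (Subgroup.normalizerMonoidHom K ⟨a, hAK ha⟩) |>.ge hy, rfl⟩
  have hFs : Group.IsSolvable F := by
    have : Group.IsNilpotent (frattini K) := frattini_nilpotent
    exact Group.isSolvable_of_surjective
      (f := ((frattini K).equivMapOfInjective _ K.subtype_injective).toMonoidHom)
      ((frattini K).equivMapOfInjective _ K.subtype_injective).surjective
  have hcardF : Nat.card F = Nat.card (frattini K) :=
    Subgroup.card_map_of_injective K.subtype_injective
  suffices h : (K ⊓ Subgroup.centralizer (A : Set G)).subgroupOf K ⊔ frattini K = ⊤ by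
    have h2 := frattini_nongenerating h
    rw [Subgroup.subgroupOf_eq_top] at h2
    exact Subgroup.le_centralizer_iff.1 fun k hk => (h2 hk).2
  refine eq_top_iff.2 fun k _ => ?_
  obtain ⟨n, hn, hc⟩ := CfsgLib.Solvable.exists_mul_mem_centralizer A F hAF (by rwa [hcardF])
    (Or.inr hFs) (k : G) (fun a ha => htriv a ha k k.2)
  obtain ⟨y, hy, rfl⟩ := hn
  have e : k = y⁻¹ * (y * k) := by group
  rw [e]
  exact mul_mem (Subgroup.mem_sup_right (inv_mem hy))
    (Subgroup.mem_sup_left (Subgroup.mem_inf.2 ⟨(y * k).2, hc⟩))

end Cfsg.Agent.S0029
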