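import Cfsg.Statements.S0030
import Cfsg.Agent.Lib.Solvable.CoprimeAction

set_option autoImplicit false
open Cfsg

namespace Cfsg.Agent.S0030

/-- Under coprime action fixed points of a product of two invariant subgroups factor: if K = X Y with X and Y normalised by A then every A-fixed element of K is a product of an A-fixed element of X and an A-fixed element of Y. -/
theorem result {G : Type*} [Group G] [Finite G] (A K : Subgroup G) (hAK : A ≤ Subgroup.normalizer (K : Set G))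
    (hcop : (Nat.card A).Coprime (Nat.card K)) (hsolv : Group.IsSolvable A ∨ Group.IsSolvable K)
    (X Y : Subgroup G) (hX : X ≤ K) (hY : Y ≤ K) (hXA : A ≤ Subgroup.normalizer (X : Set G)) (hYA : A ≤ Subgroup.normalizer (Y : Set G))
    (hXY : ∀ k ∈ K, ∃ x ∈ X, ∃ y ∈ Y, k = x * y) (k : G) (hk : k ∈ K ⊓ Subgroup.centralizer (A : Set G)) :
    ∃ x ∈ X ⊓ Subgroup.centralizer (A : Set G), ∃ y ∈ Y ⊓ Subgroup.centralizer (A : Set G), k = x * y := by
  obtain ⟨x, hx, y, hy, rfl⟩ := hXY k hk.1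
  have hYX : ∀ a ∈ A, a • ((x : G) : G ⧸ (Y ⊔ A)) = (x : G ⧸ (Y ⊔ A)) := by
    intro a ha
    show ((a * x : G) : G ⧸ (Y ⊔ A)) = _
    rw [QuotientGroup.eq]
    have h : a * (x * y) = x * y * a := Subgroup.mem_centralizer_iff.1 hk.2 a ha
    have e : (a * x)⁻¹ * x = y * a⁻¹ * y⁻¹ := by
      calc (a * x)⁻¹ * x = y * ((a * (x * y))⁻¹ * (x * y)) * y⁻¹ := by group
        _ = y * ((x * y * a)⁻¹ * (x * y)) * y⁻¹ := by rw [h]
        _ = y * a⁻¹ * y⁻¹ := by group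
    rw [e]
    exact mul_mem (mul_mem (Subgroup.mem_sup_left hy) (inv_mem (Subgroup.mem_sup_right ha)))
      (inv_mem (Subgroup.mem_sup_left hy))
  obtain ⟨c, hc, hcx⟩ := CfsgLib.Solvable.exists_centralizer_smul_eq (Ω := G ⧸ (Y ⊔ A)) A X hXA
    (hcop.coprime_dvd_right (Subgroup.card_dvd_of_le hX))
    (CfsgLib.Solvable.solvable_or_mono hX hsolv) ((1 : G) : G ⧸ (Y ⊔ A)) hx
    (fun a ha => by
      show ((a * 1 : G) : G ⧸ (Y ⊔ A)) = _
      rw [QuotientGroup.eq]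
      simpa using inv_mem (Subgroup.mem_sup_right (S := Y) ha))
    (fun a ha => by
      show a • ((x * 1 : G) : G ⧸ (Y ⊔ A)) = ((x * 1 : G) : G ⧸ (Y ⊔ A))
      rw [mul_one]; exact hYX a ha)
  have hcx' : c⁻¹ * x ∈ Y ⊔ A := by
    have h : ((c * 1 : G) : G ⧸ (Y ⊔ A)) = ((x * 1 : G) : G ⧸ (Y ⊔ A)) := hcx
    rw [mul_one, mul_one, QuotientGroup.eq] at h
    exact h
  obtain ⟨y', hy', a, ha, h⟩ := CfsgLib.Solvable.exists_mul_of_mem_sup hYA hcx'
  have : a ∈ K ⊓ A := by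
    refine Subgroup.mem_inf.2 ⟨?_, ha⟩
    have := mul_mem (inv_mem (hY hy')) (mul_mem (inv_mem (hX hc.1)) (hX hx))
    rwa [h, inv_mul_cancel_left] at this
  rw [CfsgLib.Solvable.disjoint_of_coprime hcop.symm, Subgroup.mem_bot] at this
  subst this
  refine ⟨c, hc, c⁻¹ * (x * y), Subgroup.mem_inf.2 ⟨?_, ?_⟩, by group⟩
  · rw [← mul_assoc, h, mul_one]; exact mul_mem hy' hy
  · exact mul_mem (inv_mem hc.2) hk.2

end Cfsg.Agent.S0030
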