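import Cfsg.Statements.S0031
import Cfsg.Agent.Lib.Solvable.MinimalNormal

set_option autoImplicit false
open Cfsg

open scoped Pointwise

namespace Cfsg.Agent.S0031

/-- A fixed-point-free automorphism of a finite group maps some Sylow p-subgroup to itself. -/
theorem result {G : Type*} [Group G] [Finite G] (φ : G ≃* G)
    (hφ : MonoidHom.FixedPointFree (φ : G →* G)) (p : ℕ) [Fact p.Prime] :
    ∃ P : Sylow p G, (P : Subgroup G).map (φ : G →* G) = P := by
  obtain ⟨P₀⟩ := (inferInstance : Nonempty (Sylow p G))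
  obtain ⟨Q, hQ⟩ : ∃ Q : Sylow p G, (Q : Subgroup G) = (P₀ : Subgroup G).map (φ : G →* G) :=
    ⟨P₀.mapSurjective (f := (φ : G →* G)) φ.surjective, Sylow.coe_mapSurjective _ _⟩
  obtain ⟨x, hx⟩ := MulAction.exists_smul_eq G P₀ Q
  obtain ⟨h, hh⟩ := hφ.commutatorMap_surjective x⁻¹
  refine ⟨h⁻¹ • P₀, ?_⟩
  have hh' : φ h = x * h := by
    have h1 : h * (φ h)⁻¹ = x⁻¹ := by rw [← div_eq_mul_inv]; exact hh
    rw [← inv_inj] at h1
    simp only [mul_inv_rev, inv_inv] at h1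
    rw [← h1]; group
  rw [Sylow.coe_subgroup_smul, CfsgLib.Solvable.map_conj_smul]
  have : (φ : G →* G) h⁻¹ = h⁻¹ * x⁻¹ := by
    show φ h⁻¹ = _
    rw [map_inv, hh', mul_inv_rev]
  rw [this, ← hQ, ← hx, Sylow.coe_subgroup_smul, CfsgLib.Solvable.conj_smul_conj_smul,
    inv_mul_cancel_right]

end Cfsg.Agent.S0031
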