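import Cfsg.Statements.S0032


set_option autoImplicit false
open Cfsg

open scoped Pointwise

namespace Cfsg.Agent.S0032

/-- If an automorphism of a finite group fixes only the identity and maps a normal subgroup N into itself, then the only cosets of N it fixes are those in N: a fixed coset xN forces x ∈ N. -/
theorem result {G : Type*} [Group G] [Finite G] (φ : G ≃* G)
    (hφ : MonoidHom.FixedPointFree (φ : G →* G)) (N : Subgroup G) [N.Normal] (hN : ∀ n ∈ N, φ n ∈ N)
    (x : G) (hx : (φ x)⁻¹ * x ∈ N) : x ∈ N := by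
  let f : N → N := fun n => ⟨φ n * (n : G)⁻¹, mul_mem (hN n n.2) (inv_mem n.2)⟩
  have hf : Function.Injective f := by
    intro a b hab
    have h : φ (a : G) * (a : G)⁻¹ = φ (b : G) * (b : G)⁻¹ := congrArg Subtype.val hab
    have h2 : φ ((b : G)⁻¹ * a) = (b : G)⁻¹ * a := by
      rw [map_mul, map_inv]
      calc (φ (b : G))⁻¹ * φ (a : G) = (φ (b : G))⁻¹ * (φ (a : G) * (a : G)⁻¹) * a := by group
        _ = (b : G)⁻¹ * a := by rw [h]; group
    exact Subtype.ext (inv_mul_eq_one.1 (hφ _ h2)).symm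
  obtain ⟨n, hn⟩ := Finite.surjective_of_injective hf ⟨(φ x)⁻¹ * x, hx⟩
  have hn' : φ (n : G) * (n : G)⁻¹ = (φ x)⁻¹ * x := congrArg Subtype.val hn
  have h2 : φ (x * n) = x * n := by
    rw [map_mul]
    calc φ x * φ (n : G) = φ x * (φ (n : G) * (n : G)⁻¹) * n := by group
      _ = x * n := by rw [hn']; group
  rw [eq_inv_of_mul_eq_one_left (hφ _ h2)]
  exact inv_mem n.2

end Cfsg.Agent.S0032
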