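import Cfsg.Statements.S0049
import Cfsg.Agent.Lib.Solvable.Basic

set_option autoImplicit false
open Cfsg

open scoped Pointwise

namespace Cfsg.Agent.S0049

/-- A prime divisor of the order of a finite group also divides the index of the Frattini subgroup. -/
theorem result {G : Type*} [Group G] [Finite G] (p : ℕ) (hp : p.Prime) (hdvd : p ∣ Nat.card G) :
    p ∣ (frattini G).index := by
  haveI : Fact p.Prime := ⟨hp⟩
  by_contra hnd
  obtain ⟨Q⟩ := (inferInstance : Nonempty (Sylow p (frattini G)))
  have : Group.IsNilpotent (frattini G) := frattini_nilpotent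
  have hQn : (Q : Subgroup (frattini G)).Normal := inferInstance
  have hQc : (Q : Subgroup (frattini G)).Characteristic := Q.characteristic_of_normal hQn
  set P : Subgroup G := (Q : Subgroup (frattini G)).map (frattini G).subtype with hP
  have hPn : P.Normal := inferInstance
  have hcard : Nat.card P = Nat.card Q :=
    Subgroup.card_map_of_injective (frattini G).subtype_injective
  have hpcop : ∀ n, (Nat.card Q).Coprime n ↔ (p ^ (Nat.card (frattini G)).factorization p).Coprime n := by
    intro n; rw [Q.card_eq_multiplicity]
  have hPidx : ¬ p ∣ P.index := by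
    rw [← Subgroup.relIndex_mul_index (show P ≤ frattini G from Subgroup.map_subtype_le _),
      hp.dvd_mul]
    rintro (h | h)
    · rw [hP, Subgroup.relIndex, Subgroup.subgroupOf,
        Subgroup.comap_map_eq_self_of_injective (frattini G).subtype_injective] at h
      exact Q.not_dvd_index h
    · exact hnd h
  have hcop : (Nat.card P).Coprime P.index := by
    rw [hcard, Q.card_eq_multiplicity]
    exact Nat.Coprime.pow_left _ (hp.coprime_iff_not_dvd.2 hPidx)
  obtain ⟨H, hH⟩ := Subgroup.exists_right_complement'_of_coprime hcop
  have htop : H = ⊤ := frattini_nongenerating (by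
    rw [eq_top_iff, ← hH.sup_eq_top]
    exact sup_le ((Subgroup.map_subtype_le _).trans le_sup_right) le_sup_left)
  subst htop
  have hbot : P = ⊥ := Subgroup.isComplement'_top_right.1 hH
  rw [hbot, Subgroup.index_bot] at hPidx
  exact hPidx hdvd

end Cfsg.Agent.S0049
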