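import Cfsg.Statements.S0050
import Cfsg.Agent.Lib.Solvable.Hall

set_option autoImplicit false
open Cfsg

open scoped Pointwise

namespace Cfsg.Agent.S0050

/-- Frattini argument for Hall subgroups: if L is a solvable normal subgroup and H a subgroup of L of order coprime to its index in L, then L together with the normaliser of H generates the whole group. -/
theorem result {G : Type*} [Group G] [Finite G] (L : Subgroup G) [L.Normal] (hL : Group.IsSolvable L)
    (H : Subgroup G) (hHL : H ≤ L) (hHall : (Nat.card H).Coprime (H.relIndex L)) :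
    L ⊔ Subgroup.normalizer (H : Set G) = ⊤ := by
  rw [eq_top_iff]
  intro g _
  haveI := hL
  set H' := MulAut.conj g • H
  have hH'L : H' ≤ L := CfsgLib.Solvable.conj_smul_le_iff.2 fun x hx =>
    (inferInstance : L.Normal).conj_mem x (hHL hx) g
  have hc : ∀ J : Subgroup G, J ≤ L → Nat.card (J.subgroupOf L) = Nat.card J := fun J hJ =>
    Nat.card_congr (Subgroup.subgroupOfEquivOfLe hJ).toEquiv
  obtain ⟨l, hl⟩ := CfsgLib.Solvable.exists_conj_le_of_coprime_index
    (H := H.subgroupOf L) (K := H'.subgroupOf L)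
    (by rw [hc H hHL]; exact hHall)
    (by rw [hc H' hH'L, CfsgLib.Solvable.card_conj_smul]; exact hHall)
  have h1 : MulAut.conj ((l : G) * g) • H ≤ H := CfsgLib.Solvable.conj_smul_le_iff.2 fun x hx => by
    have hx' : g * x * g⁻¹ ∈ H' := CfsgLib.Solvable.mem_conj_smul_iff.2 (by simpa [mul_assoc] using hx)
    have := CfsgLib.Solvable.conj_smul_le_iff.1 hl ⟨_, hH'L hx'⟩ hx'
    simpa [Subgroup.mem_subgroupOf, mul_assoc] using this
  have h2 : (l : G) * g ∈ Subgroup.normalizer (H : Set G) :=
    CfsgLib.Solvable.mem_normalizer_iff_conj_smul.2 (CfsgLib.Solvable.conj_smul_eq_of_le h1 le_rfl)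
  have := mul_mem (Subgroup.mem_sup_left (T := Subgroup.normalizer (H : Set G)) (inv_mem l.2))
    (Subgroup.mem_sup_right h2)
  simpa using this

end Cfsg.Agent.S0050
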