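import Cfsg.Statements.S0053
import Cfsg.Agent.Lib.Solvable.Basic

set_option autoImplicit false
open Cfsg

open scoped Pointwise

namespace Cfsg.Agent.S0053

/-- An abelian minimal normal subgroup N of a finite group is complemented exactly when N is not inside the Frattini subgroup. -/
theorem result {G : Type*} [Group G] [Finite G]
    (N : Subgroup G) [N.Normal] [IsMulCommutative N] (hN : N ≠ ⊥)
    (hmin : ∀ M : Subgroup G, M.Normal → M ≤ N → M = ⊥ ∨ M = N) :
    (∃ H : Subgroup G, Subgroup.IsComplement' N H) ↔ ¬ N ≤ frattini G := by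
  constructor
  · rintro ⟨H, hH⟩ hle
    have : H = ⊤ := frattini_nongenerating (by
      rw [eq_top_iff, ← hH.sup_eq_top]; exact sup_le (hle.trans le_sup_right) le_sup_left)
    subst this
    exact hN (Subgroup.isComplement'_top_right.1 hH)
  · intro hle
    obtain ⟨M, hM, hNM⟩ : ∃ M : Subgroup G, IsCoatom M ∧ ¬ N ≤ M := by
      by_contra h
      push_neg at h
      exact hle (le_iInf₂ fun M hM => h M hM)
    have htop : N ⊔ M = ⊤ := by rw [sup_comm]; exact hM.2 _ (left_lt_sup.2 hNM)
    have hNn : N ≤ Subgroup.normalizer ((N ⊓ M : Subgroup G) : Set G) := by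
      refine CfsgLib.Solvable.le_normalizer_of_conj_mem fun a ha x hx => ?_
      have : a * x = x * a := congrArg Subtype.val
        ((inferInstance : IsMulCommutative N).is_comm.comm ⟨a, ha⟩ ⟨x, hx.1⟩)
      rw [this, mul_inv_cancel_right]; exact hx
    have hnorm : (N ⊓ M).Normal := by
      rw [← Subgroup.normalizer_eq_top_iff, eq_top_iff, ← htop]
      exact sup_le hNn (CfsgLib.Solvable.le_normalizer_inf Subgroup.le_normalizer_of_normal
        Subgroup.le_normalizer)
    have hbot : N ⊓ M = ⊥ := (hmin _ hnorm inf_le_left).resolve_right fun h =>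
      hNM (h ▸ inf_le_right)
    refine ⟨M, Subgroup.isComplement'_of_disjoint_and_mul_eq_univ (disjoint_iff.2 hbot) ?_⟩
    rw [← Subgroup.normal_mul, htop, Subgroup.coe_top]

end Cfsg.Agent.S0053
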