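import Cfsg.Statements.S0056
import Cfsg.Agent.Lib.Solvable.AbelianAction

set_option autoImplicit false
open Cfsg

open scoped Pointwise

namespace Cfsg.Agent.S0056

/-- A coprime action on an abelian group that fixes all elements of prime order is trivial. -/
theorem result {G : Type*} [Group G] [Finite G] (A V : Subgroup G) [IsMulCommutative V]
    (hAV : A ≤ Subgroup.normalizer (V : Set G)) (hcop : (Nat.card A).Coprime (Nat.card V))
    (hΩ : ∀ v ∈ V, (orderOf v).Prime → ∀ a ∈ A, a * v = v * a) : A ≤ Subgroup.centralizer (V : Set G) := by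
  by_contra hne
  have hne2 : ⁅V, A⁆ ≠ ⊥ := fun h =>
    hne (Subgroup.le_centralizer_iff.1 (Subgroup.commutator_eq_bot_iff_le_centralizer.1 h))
  set D := ⁅V, A⁆
  have : Nontrivial D := D.nontrivial_iff_ne_bot.2 hne2
  have hp := Nat.minFac_prime (Finite.one_lt_card : 1 < Nat.card D).ne'
  haveI : Fact (Nat.card D).minFac.Prime := ⟨hp⟩
  obtain ⟨x, hx⟩ := exists_prime_orderOf_dvd_card' _ (Nat.minFac_dvd (Nat.card D))
  have hxV : (x : G) ∈ V := CfsgLib.Solvable.commutator_le_of_le_normalizer hAV x.2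
  have hord : orderOf (x : G) = (Nat.card D).minFac := by rw [Subgroup.orderOf_coe, hx]
  have : (x : G) ∈ (V ⊓ Subgroup.centralizer (A : Set G)) ⊓ D :=
    Subgroup.mem_inf.2 ⟨Subgroup.mem_inf.2 ⟨hxV,
      Subgroup.mem_centralizer_iff.2 (hΩ x hxV (hord ▸ hp))⟩, x.2⟩
  rw [CfsgLib.Solvable.inf_centralizer_inf_commutator A V hAV hcop, Subgroup.mem_bot] at this
  rw [this, orderOf_one] at hord
  exact hp.one_lt.ne hord

end Cfsg.Agent.S0056
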