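import Cfsg.Statements.S0060
import Cfsg.Agent.Lib.Cores.Basic
import Cfsg.Agent.Lib.Solvable.Basic

set_option autoImplicit false
open Pointwise
open Cfsg

namespace Cfsg.Agent.S0060

/-- Brodkey's Theorem: in a finite group with abelian Sylow p-subgroups and no nontrivial normal p-subgroup, some conjugate of a Sylow p-subgroup meets it trivially. -/
theorem result {G : Type*} [Group G] [Finite G] (p : ℕ) [Fact p.Prime]
    (S : Sylow p G) (hS : IsMulCommutative S) (hOp : Cfsg.pCore p G = ⊥) :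
    ∃ g : G, (S : Subgroup G) ⊓ MulAut.conj g • (S : Subgroup G) = ⊥ := by
  classical
  obtain ⟨t, -, ht⟩ := (Set.toFinite (Set.univ : Set G)).exists_minimalFor
    (fun g => Nat.card ↥((S : Subgroup G) ⊓ MulAut.conj g • (S : Subgroup G))) _ Set.univ_nonempty
  refine ⟨t, ?_⟩
  set D := (S : Subgroup G) ⊓ MulAut.conj t • (S : Subgroup G) with hD
  suffices h : ∀ r : G, D ≤ MulAut.conj r • (S : Subgroup G) by
    have h1 : D ≤ (S : Subgroup G).normalCore := fun x hx r => by
      have := CfsgLib.Solvable.mem_conj_smul_iff.1 (h r⁻¹ hx)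
      simpa using this
    have h2 : (S : Subgroup G).normalCore ≤ Cfsg.pCore p G :=
      CfsgLib.Cores.le_pCore (S.2.to_le (Subgroup.normalCore_le _))
    exact eq_bot_iff.2 ((h1.trans h2).trans hOp.le)
  set C := Subgroup.centralizer (D : Set G)
  have hcomm : ∀ g : G, D ≤ MulAut.conj g • (S : Subgroup G) →
      MulAut.conj g • (S : Subgroup G) ≤ C := by
    intro g hDg x hx
    rw [Subgroup.mem_centralizer_iff]
    intro d hd
    have h1 := CfsgLib.Solvable.mem_conj_smul_iff.1 hx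
    have h2 := CfsgLib.Solvable.mem_conj_smul_iff.1 (hDg hd)
    have h3 : (g⁻¹ * d * g) * (g⁻¹ * x * g) = (g⁻¹ * x * g) * (g⁻¹ * d * g) :=
      congrArg Subtype.val (hS.is_comm.comm ⟨_, h2⟩ ⟨_, h1⟩)
    calc d * x = g * ((g⁻¹ * d * g) * (g⁻¹ * x * g)) * g⁻¹ := by group
      _ = g * ((g⁻¹ * x * g) * (g⁻¹ * d * g)) * g⁻¹ := by rw [h3]
      _ = x * d := by group
  have hSC : (S : Subgroup G) ≤ C := by
    have := hcomm 1 (by simp [hD])
    simpa using this
  intro r
  set T : Sylow p G := t • S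
  have hTC : (T : Subgroup G) ≤ C := by
    rw [Sylow.coe_subgroup_smul]; exact hcomm t inf_le_right
  set R := MulAut.conj r • (S : Subgroup G)
  have hRp : IsPGroup p (R ⊓ C : Subgroup G) := by
    have hR : (R : Subgroup G) = ((r • S : Sylow p G) : Subgroup G) := (Sylow.coe_subgroup_smul ..).symm
    exact ((r • S).2.to_le (le_of_eq_of_le (by rw [hR]) le_rfl)).to_le inf_le_left
  obtain ⟨U, hU⟩ :=
    (hRp.of_equiv (Subgroup.subgroupOfEquivOfLe inf_le_right).symm).exists_le_sylow
  obtain ⟨c, rfl⟩ := MulAction.exists_smul_eq C (T.subtype hTC) U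
  have hcD : MulAut.conj (c : G) • D = D := by
    refine CfsgLib.Solvable.conj_smul_self_of_mem_normalizer ?_
    exact Subgroup.centralizer_le_normalizer _ c.2
  have hle : R ⊓ MulAut.conj (c : G) • (S : Subgroup G) ≤ D := by
    intro x hx
    have hxC : x ∈ C := by
      have := CfsgLib.Solvable.mem_conj_smul_iff.1 hx.2
      have h2 := mul_mem (mul_mem c.2 (hSC this)) (inv_mem c.2)
      simpa [mul_assoc] using h2
    have h := hU (show (⟨x, hxC⟩ : C) ∈ (R ⊓ C).subgroupOf C from ⟨hx.1, hxC⟩)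
    rw [Sylow.coe_subgroup_smul, Sylow.coe_subtype, CfsgLib.Solvable.mem_conj_smul_iff] at h
    have h' : (c : G)⁻¹ * x * (c : G) ∈ (T : Subgroup G) := h
    rw [Sylow.coe_subgroup_smul] at h'
    rw [← hcD, CfsgLib.Solvable.mem_conj_smul_iff]
    exact Subgroup.mem_inf.2 ⟨CfsgLib.Solvable.mem_conj_smul_iff.1 hx.2, h'⟩
  have hcard : Nat.card D ≤ Nat.card ↥(R ⊓ MulAut.conj (c : G) • (S : Subgroup G)) := by
    have h1 : MulAut.conj (c : G)⁻¹ • (R ⊓ MulAut.conj (c : G) • (S : Subgroup G)) =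
        (S : Subgroup G) ⊓ MulAut.conj ((c : G)⁻¹ * r) • (S : Subgroup G) := by
      rw [Subgroup.smul_inf, CfsgLib.Solvable.conj_smul_conj_smul,
        CfsgLib.Solvable.conj_smul_conj_smul, inv_mul_cancel, map_one, one_smul, inf_comm]
    have h2 := CfsgLib.Solvable.card_conj_smul (c : G)⁻¹ (R ⊓ MulAut.conj (c : G) • (S : Subgroup G))
    rw [h1] at h2
    rw [← h2]
    exact (le_total _ _).elim id fun h => ht (Set.mem_univ _) h
  rw [← Subgroup.eq_of_le_of_card_ge hle hcard]
  exact inf_le_left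

end Cfsg.Agent.S0060
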