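import Cfsg.Statements.S0063
import Cfsg.Agent.Lib.Solvable.MinimalNormal

set_option autoImplicit false
open Cfsg

open scoped Pointwise

namespace Cfsg.Agent.S0063

/-- A finite group of prime-power order p ^ m with m > 1 is nilpotent of class at most m - 1. -/
theorem result {G : Type*} [Group G] [Finite G] (p m : ℕ) [Fact p.Prime]
    (hG : Nat.card G = p ^ m) (hm : 1 < m) : Group.nilpotencyClass G ≤ m - 1 := by
  suffices key : ∀ c : ℕ, ∀ (H : Type _) [Group H] [Finite H] [Group.IsNilpotent H] (k : ℕ),
      Nat.card H = c → Nat.card H = p ^ k → Group.nilpotencyClass H ≤ max 1 (k - 1) by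
    haveI := (IsPGroup.of_card hG).isNilpotent
    exact (key _ G m rfl hG).trans (max_le (by omega) le_rfl)
  intro c
  induction c using Nat.strong_induction_on with
  | _ c ih =>
  intro H _ _ _ k hc hk
  subst hc
  by_cases hab : ∀ a b : H, a * b = b * a
  · letI : CommGroup H := { (inferInstance : Group H) with mul_comm := hab }
    exact CommGroup.nilpotencyClass_le_one.trans (le_max_left _ _)
  have : Nontrivial H := by
    by_contra h
    rw [not_nontrivial_iff_subsingleton] at h
    exact hab fun a b => Subsingleton.elim _ _
  have hZ : Subgroup.center H ≠ ⊥ := ((IsPGroup.of_card hk).bot_lt_center).ne'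
  obtain ⟨l, -, hl⟩ := (Nat.dvd_prime_pow (Fact.out : p.Prime)).1
    (hk ▸ (Subgroup.center H).card_quotient_dvd_card)
  have hlt := CfsgLib.Solvable.card_quotient_lt _ hZ
  have hlk : l < k := by
    rw [hl, hk] at hlt
    exact (Nat.pow_lt_pow_iff_right (Fact.out : p.Prime).one_lt).1 hlt
  have hl2 : 2 ≤ l := by
    by_contra hl2
    have hcyc : IsCyclic (H ⧸ Subgroup.center H) := by
      rcases (show l = 0 ∨ l = 1 by omega) with rfl | rfl
      · have : Subsingleton (H ⧸ Subgroup.center H) := (Nat.card_eq_one_iff_unique.1 (by simpa using hl)).1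
        infer_instance
      · exact isCyclic_of_prime_card (by simpa using hl)
    exact hab fun a b => commutative_of_cyclic_center_quotient (QuotientGroup.mk' (Subgroup.center H))
      (by rw [QuotientGroup.ker_mk']) a b
  rw [Group.nilpotencyClass_eq_quotient_center_plus_one]
  have h := ih _ hlt (H ⧸ Subgroup.center H) l rfl hl
  omega

end Cfsg.Agent.S0063
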