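import Cfsg.Statements.S0064
import Cfsg.Agent.Lib.Solvable.Basic

set_option autoImplicit false
open Cfsg

open scoped Pointwise

namespace Cfsg.Agent.S0064

/-- A finite group is nilpotent exactly when each of its subgroups is subnormal. -/
theorem result {G : Type*} [Group G] [Finite G] :
    Group.IsNilpotent G ↔ ∀ H : Subgroup G, H.IsSubnormal := by
  constructor
  · intro hn
    suffices key : ∀ n : ℕ, ∀ H : Subgroup G, H.index = n → H.IsSubnormal from fun H => key _ H rfl
    intro n
    induction n using Nat.strong_induction_on with
    | _ n ih =>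
    rintro H rfl
    by_cases hH : H = ⊤
    · subst hH; exact Subgroup.IsSubnormal.top
    have hlt := Group.normalizerCondition_of_isNilpotent H (lt_top_iff_ne_top.2 hH)
    exact Subgroup.IsSubnormal.step H _ hlt.le
      (ih _ (Subgroup.index_strictAnti hlt) _ rfl) Subgroup.normal_in_normalizer
  · intro h
    refine ((Group.isNilpotent_of_finite_tfae (G := G)).out 2 0).1 fun M hM => ?_
    obtain ⟨K, hKn, hMK, hKlt⟩ := (h M).lt_normal.resolve_left hM.1
    rcases lt_or_eq_of_le hMK with hlt | heq
    · exact absurd (hM.2 K hlt) hKlt.ne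
    · exact heq ▸ hKn

end Cfsg.Agent.S0064
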