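import Cfsg.Statements.S0068
import Cfsg.Agent.Lib.Solvable.FrobeniusComplement

set_option autoImplicit false
open Cfsg

open scoped Pointwise

namespace Cfsg.Agent.S0068

/-- Frobenius complements of even order: if H complements a nontrivial normal subgroup K, each nonidentity element of H has trivial centraliser in K, and H has even order, then H contains a unique involution s, K is abelian, and s inverts every element of K. -/
theorem result {G : Type*} [Group G] [Finite G] (K H : Subgroup G) [K.Normal]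
    (hc : Subgroup.IsComplement' K H) (hK : K ≠ ⊥) (hfpf : ∀ h ∈ H, h ≠ 1 → K ⊓ Subgroup.centralizer {h} = ⊥)
    (heven : 2 ∣ Nat.card H) :
    (∃ s ∈ H, orderOf s = 2 ∧ (∀ t ∈ H, orderOf t = 2 → t = s) ∧ ∀ k ∈ K, s * k * s⁻¹ = k⁻¹) ∧ IsMulCommutative K := by
  have hn : H ≤ Subgroup.normalizer (K : Set G) := Subgroup.normalizer_eq_top K ▸ le_top
  obtain ⟨s, hs⟩ := exists_prime_orderOf_dvd_card' (G := H) 2 heven
  have hs' : orderOf (s : G) = 2 := (Subgroup.orderOf_coe s).trans hs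
  have h1 := CfsgLib.Solvable.conj_eq_inv_of_fpf hn hfpf s.2 hs'
  refine ⟨⟨s, s.2, hs', fun t ht ht2 => ?_, h1⟩, ⟨⟨fun x y => Subtype.ext ?_⟩⟩⟩
  · have h2 := CfsgLib.Solvable.conj_eq_inv_of_fpf hn hfpf ht ht2
    by_contra hne
    obtain ⟨k, hk, hk1⟩ := (Subgroup.nontrivial_iff_exists_ne_one K).1
      ((Subgroup.nontrivial_iff_ne_bot K).2 hK)
    refine hk1 (CfsgLib.Solvable.eq_one_of_fpf hfpf (mul_mem ht (inv_mem s.2))
      (fun h => hne (mul_inv_eq_one.1 h)) hk ?_)
    have hsi : (s : G)⁻¹ * k * (s : G) = k⁻¹ := by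
      have := congrArg (fun u => (s : G)⁻¹ * u * s) (h1 k⁻¹ (inv_mem hk))
      simpa [mul_assoc] using this.symm
    calc t * (s : G)⁻¹ * k * (t * (s : G)⁻¹)⁻¹ = t * ((s : G)⁻¹ * k * s) * t⁻¹ := by group
      _ = k := by rw [hsi, h2 _ (inv_mem hk), inv_inv]
  · show (x : G) * y = y * x
    have h3 := h1 _ (mul_mem x.2 y.2)
    have h4 : (s : G) * (x * y) * (s : G)⁻¹ = (s * x * (s : G)⁻¹) * (s * y * (s : G)⁻¹) := by group
    rw [h4, h1 _ x.2, h1 _ y.2, ← mul_inv_rev, inv_inj] at h3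
    exact h3.symm

end Cfsg.Agent.S0068
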