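import Cfsg.Statements.S0070
import Cfsg.Agent.Lib.Solvable.Nilpotent
import Cfsg.Agent.Lib.Cores.Fitting

set_option autoImplicit false
open Cfsg

open scoped Pointwise

namespace Cfsg.Agent.S0070

/-- The Fitting subgroup commutes with passing to the Frattini quotient: the Fitting subgroup of G modulo its Frattini subgroup is the image of the Fitting subgroup of G. -/
theorem result {G : Type*} [Group G] [Finite G] :
    Cfsg.fittingSubgroup (G ⧸ frattini G) = (Cfsg.fittingSubgroup G).map (QuotientGroup.mk' (frattini G)) := by
  set π := QuotientGroup.mk' (frattini G) with hπ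
  have hsurj : Function.Surjective π := QuotientGroup.mk'_surjective _
  refine le_antisymm ?_ (CfsgLib.Cores.map_fittingSubgroup_le π hsurj)
  set F' := Cfsg.fittingSubgroup (G ⧸ frattini G)
  have hF'n : F'.Normal := CfsgLib.Cores.fittingSubgroup_normal
  set A := F'.comap π with hA
  have hBA : frattini G ≤ A := fun x hx => by
    rw [hA, Subgroup.mem_comap, show π x = 1 from (QuotientGroup.eq_one_iff x).2 hx]
    exact one_mem _
  have hq : Group.IsNilpotent (A ⧸ (frattini G).subgroupOf A) := by
    have : Group.IsNilpotent F' := CfsgLib.Cores.isNilpotent_fittingSubgroup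
    let g : A →* F' := (π.comp A.subtype).codRestrict F' fun x => x.2
    have hg : Function.Surjective g := fun y => by
      obtain ⟨x, hx⟩ := hsurj (y : G ⧸ frattini G)
      exact ⟨⟨x, show π x ∈ F' by rw [hx]; exact y.2⟩, Subtype.ext hx⟩
    have hker : g.ker = (frattini G).subgroupOf A := by
      ext x
      rw [MonoidHom.mem_ker, Subgroup.mem_subgroupOf, ← QuotientGroup.eq_one_iff, Subtype.ext_iff]
      rfl
    exact Group.nilpotent_of_mulEquiv
      ((QuotientGroup.quotientMulEquivOfEq hker.symm).trans
        (QuotientGroup.quotientKerEquivOfSurjective g hg)).symm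
  have hAn : A ≤ Cfsg.fittingSubgroup G := CfsgLib.Cores.le_fittingSubgroup
    (CfsgLib.Solvable.isNilpotent_of_quotient_frattini A (frattini G) hBA le_rfl hq)
  intro y hy
  obtain ⟨x, rfl⟩ := hsurj y
  exact Subgroup.mem_map_of_mem π (hAn hy)

end Cfsg.Agent.S0070
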