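import Cfsg.Statements.S0072
import Cfsg.Agent.Lib.Transfer.Frobenius

set_option autoImplicit false
open Cfsg

namespace Cfsg.Agent.S0072

/-- A finite group has a normal p-complement if and only if every p-local subgroup (normalizer of a nontrivial p-subgroup) has one. -/
theorem result {G : Type*} [Group G] [Finite G] (p : ℕ) [Fact p.Prime] : Cfsg.HasNormalPComplement p G ↔ ∀ Q : Subgroup G, IsPGroup p Q → Q ≠ ⊥ → Cfsg.HasNormalPComplement p (Subgroup.normalizer (Q : Set G)) := by
  constructor
  · intro h Q _ _
    exact CfsgLib.Transfer.hasNormalPComplement_subgroup h _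
  · intro h
    refine CfsgLib.Transfer.hasNormalPComplement_of_frobeniusCond fun Q hQ g hg hco => ?_
    by_cases hQ1 : Q = ⊥
    · subst hQ1
      rw [Subgroup.mem_centralizer_iff]
      intro x hx
      rw [Subgroup.coe_bot, Set.mem_singleton_iff] at hx
      rw [hx, one_mul, mul_one]
    have := CfsgLib.Transfer.mem_centralizer_of_hasNormalPComplement (h Q hQ hQ1)
      (hQ.of_equiv (Subgroup.subgroupOfEquivOfLe Subgroup.le_normalizer).symm)
      (g := ⟨g, hg⟩) ?_ (by rwa [Subgroup.orderOf_mk])
    · rw [Subgroup.mem_centralizer_iff] at this ⊢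
      exact fun x hx => congrArg Subtype.val (this ⟨x, Subgroup.le_normalizer hx⟩ hx)
    · rw [Subgroup.mem_normalizer_iff]
      exact fun x => Subgroup.mem_normalizer_iff.1 hg x

end Cfsg.Agent.S0072
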