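import Cfsg.Statements.S0078
import Cfsg.Agent.Lib.Transfer.Frobenius

set_option autoImplicit false
open Cfsg

namespace Cfsg.Agent.S0078

/-- In a p-normal group, a Sylow p-subgroup P meets O^p(G) exactly where it meets O^p(V), for any subgroup V containing the normalizer of the centre of P. -/
theorem result {G : Type*} [Group G] [Finite G] {p : ℕ} [Fact p.Prime] (P : Sylow p G) (hn : ∀ Q : Sylow p G, (P : Subgroup G) ⊓ Subgroup.centralizer (P : Set G) ≤ (Q : Subgroup G) → (Q : Subgroup G) ⊓ Subgroup.centralizer (Q : Set G) = (P : Subgroup G) ⊓ Subgroup.centralizer (P : Set G)) (V : Subgroup G) (hV : Subgroup.normalizer (((P : Subgroup G) ⊓ Subgroup.centralizer (P : Set G) : Subgroup G) : Set G) ≤ V) : (P : Subgroup G) ⊓ Cfsg.pResidual p G = (P : Subgroup G) ⊓ (Cfsg.pResidual p V).map V.subtype := by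
  set Z := (P : Subgroup G) ⊓ Subgroup.centralizer (P : Set G) with hZdef
  have hW : ∀ g : G, (∀ z ∈ Z, g * z * g⁻¹ ∈ (P : Subgroup G)) →
      g ∈ Subgroup.normalizer (Z : Set G) := by
    intro g hg
    have hle : Z ≤ ((g⁻¹ • P : Sylow p G) : Subgroup G) := fun z hz => by
      rw [Sylow.coe_subgroup_smul, Subgroup.mem_pointwise_smul_iff_inv_smul_mem]
      simpa using hg z hz
    have e := hn _ hle
    refine inv_mem_iff.1 (Subgroup.mem_normalizer_iff_map_conj_eq.2 ?_)
    refine Subgroup.eq_of_le_of_card_ge ?_ ?_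
    · rintro _ ⟨z, hz, rfl⟩
      rw [← e]
      have hz' : (MulAut.conj g⁻¹) z ∈ ((g⁻¹ • P : Sylow p G) : Subgroup G) := by
        rw [Sylow.coe_subgroup_smul]
        exact Subgroup.smul_mem_pointwise_smul z (MulAut.conj g⁻¹) _ hz.1
      refine ⟨hz', Subgroup.mem_centralizer_iff.2 fun w hw => ?_⟩
      rw [Sylow.coe_smul] at hw
      obtain ⟨v, hv, rfl⟩ := hw
      show (MulAut.conj g⁻¹) v * (MulAut.conj g⁻¹) z = (MulAut.conj g⁻¹) z * (MulAut.conj g⁻¹) v
      rw [← map_mul, ← map_mul, Subgroup.mem_centralizer_iff.1 hz.2 v hv]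
    · exact (Subgroup.card_map_of_injective (MulAut.conj g⁻¹).injective).ge
  refine CfsgLib.Transfer.inf_pResidual_eq P (fun x hx => hV ?_) fun x hx g hg => ?_
  · exact Subgroup.centralizer_le_normalizer _ (Subgroup.mem_centralizer_iff.2 fun z hz =>
      (Subgroup.mem_centralizer_iff.1 hz.2 x hx).symm)
  · obtain ⟨h, hh, e⟩ := CfsgLib.Transfer.controlsFusion_of_weaklyClosed P
      (inf_le_left : Z ≤ _) inf_le_right hW x hx g hg
    exact ⟨h, hV hh, e⟩

end Cfsg.Agent.S0078
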