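import Cfsg.Statements.S0079
import Cfsg.Agent.Lib.Transfer.Frobenius
import Cfsg.Agent.Lib.OddLocal.Basic

set_option autoImplicit false
open Cfsg
open scoped commutatorElement

namespace Cfsg.Agent.S0079

/-- A nilpotent Hall subgroup has a normal complement exactly when elements of it that are conjugate in the whole group are already conjugate inside it. -/
theorem result {G : Type*} [Group G] [Finite G] (H : Subgroup G) (hH : Group.IsNilpotent H) (hHall : Nat.Coprime (Nat.card H) H.index) : (∃ N : Subgroup G, N.Normal ∧ N.IsComplement' H) ↔ ∀ x ∈ H, ∀ y ∈ H, (∃ g : G, g * x * g⁻¹ = y) → ∃ h ∈ H, h * x * h⁻¹ = y := by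
  constructor
  · rintro ⟨N, hN, hNH⟩ x hx y hy ⟨g, hg⟩
    have hgm : g ∈ N ⊔ H := hNH.sup_eq_top ▸ Subgroup.mem_top g
    rw [← SetLike.mem_coe, Subgroup.normal_mul] at hgm
    obtain ⟨n, hn, h, hh, rfl⟩ := hgm
    refine ⟨h, hh, ?_⟩
    have h1 : ((h * x * h⁻¹ : G) : G ⧸ N) = (y : G ⧸ N) := by
      rw [← hg]
      simp only [QuotientGroup.mk_mul, QuotientGroup.mk_inv, (QuotientGroup.eq_one_iff n).2 hn,
        one_mul, inv_one, mul_one, mul_inv_rev]
    have h2 : (h * x * h⁻¹)⁻¹ * y ∈ N ⊓ H :=
      ⟨QuotientGroup.eq.1 h1, H.mul_mem (H.inv_mem (H.mul_mem (H.mul_mem hh hx) (H.inv_mem hh))) hy⟩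
    rw [disjoint_iff.1 hNH.disjoint, Subgroup.mem_bot, inv_mul_eq_one] at h2
    exact h2
  · intro hctl
    -- a normal `p`-complement for each prime divisor of `|H|`
    have key : ∀ p : ℕ, p.Prime → p ∣ Nat.card H → Cfsg.HasNormalPComplement p G := by
      intro p hp hpH
      have := Fact.mk hp
      obtain ⟨P⟩ : Nonempty (Sylow p H) := inferInstance
      have hidx : ¬ p ∣ H.index := fun h =>
        hp.one_lt.ne' (Nat.eq_one_of_dvd_coprimes hHall hpH h)
      have hnd : ¬ p ∣ ((P : Subgroup H).map H.subtype).index := by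
        rw [Subgroup.index_map_subtype, hp.dvd_mul, not_or]
        exact ⟨P.not_dvd_index, hidx⟩
      let Q : Sylow p G := (P.2.map H.subtype).toSylow hnd
      refine CfsgLib.Transfer.hasNormalPComplement_of_controlsFusion Q ?_
      rintro _ ⟨x, hx, rfl⟩ g hg
      obtain ⟨y, hy, hyx⟩ := hg
      obtain ⟨h, hh, he⟩ := hctl x x.2 y y.2 ⟨g, hyx.symm⟩
      have := hH
      have hP : (P : Subgroup H).Normal := inferInstance
      have hHc : Cfsg.HasNormalPComplement p H :=
        CfsgLib.Transfer.hasNormalPComplement_of_frobeniusCond fun R hR a ha hco => by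
          rw [Subgroup.mem_centralizer_iff]
          intro r hr
          refine CfsgLib.OddLocal.commute_of_coprime_orderOf _ _ ?_
          obtain ⟨k, hk⟩ := IsPGroup.iff_orderOf.1 hR ⟨r, hr⟩
          rw [Subgroup.orderOf_mk] at hk
          exact hk ▸ (hco.pow_right k).symm
      have hhm : (⟨h, hh⟩ : H) ∈ Cfsg.pResidual p H ⊔ (P : Subgroup H) :=
        CfsgLib.Transfer.pResidual_sup_sylow P ▸ Subgroup.mem_top _
      rw [sup_comm, ← SetLike.mem_coe, Subgroup.normal_mul] at hhm
      obtain ⟨q, hq, r, hr, hqr⟩ := hhm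
      refine ⟨(q : G), ⟨q, hq, rfl⟩, ?_⟩
      have hrc : r ∈ Subgroup.centralizer ((P : Subgroup H) : Set H) := by
        have hle : Cfsg.pResidual p H ≤ Subgroup.centralizer ((P : Subgroup H) : Set H) :=
          (Subgroup.closure_le _).2 fun a ha =>
            CfsgLib.Transfer.mem_centralizer_of_hasNormalPComplement hHc P.2
              (by rw [Subgroup.normalizer_eq_top]; trivial) ha
        exact hle hr
      have hrx := congrArg Subtype.val (Subgroup.mem_centralizer_iff.1 hrc x hx)
      push_cast at hrx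
      have hy' : (y : G) = g * (x : G) * g⁻¹ := hyx
      rw [Subgroup.subtype_apply, ← hy', ← he, show h = (q : G) * (r : G) from congrArg Subtype.val hqr.symm]
      calc (q : G) * x * (q : G)⁻¹ = (q : G) * ((x : G) * r) * (r : G)⁻¹ * (q : G)⁻¹ := by group
        _ = (q : G) * ((r : G) * x) * (r : G)⁻¹ * (q : G)⁻¹ := by rw [hrx]
        _ = _ := by group
    let N : Subgroup G := ⨅ p : {p : ℕ // p.Prime ∧ p ∣ Nat.card H}, Cfsg.pResidual p.1 G
    have hNn : N.Normal := Subgroup.normal_iInf_normal fun p => inferInstance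
    have hco : (Nat.card N).Coprime (Nat.card H) := by
      refine Nat.coprime_of_dvd fun q hq h1 h2 => ?_
      have := Fact.mk hq
      exact CfsgLib.Transfer.not_dvd_of_coprime
        (CfsgLib.Transfer.hasNormalPComplement_iff_pResidual.1 (key q hq h2))
        (h1.trans (Subgroup.card_dvd_of_le (iInf_le _ (⟨q, hq, h2⟩ : {p : ℕ // p.Prime ∧ p ∣ Nat.card H}))))
    have hco2 : Nat.Coprime N.index H.index := by
      refine Nat.coprime_of_dvd fun q hq h1 h2 => ?_
      have := Fact.mk hq
      obtain ⟨gq, hgq⟩ := exists_prime_orderOf_dvd_card' (G := G ⧸ N) q h1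
      obtain ⟨g, rfl⟩ := QuotientGroup.mk'_surjective N gq
      have hne := hgq
      set n := orderOf g with hn
      have hqn : q ∣ n := hgq ▸ orderOf_map_dvd (QuotientGroup.mk' N) g
      set m := n / q ^ n.factorization q with hm
      have hgm : g ^ m ∈ N := by
        refine Subgroup.mem_iInf.2 fun p => CfsgLib.Transfer.mem_pResidual_of_coprime ?_
        rw [orderOf_pow_of_dvd (by
          intro h0
          exact (orderOf_pos g).ne' (Nat.eq_zero_of_zero_dvd (h0 ▸ Nat.ordCompl_dvd n q)))
          (Nat.ordCompl_dvd n q), ← hn, Nat.div_div_self (Nat.ordProj_dvd n q) (orderOf_pos g).ne']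
        refine Nat.Coprime.pow_left _ ((Nat.coprime_primes hq p.2.1).2 fun e => ?_)
        exact hq.one_lt.ne' (Nat.eq_one_of_dvd_coprimes hHall (e ▸ p.2.2) h2)
      have h4 : (QuotientGroup.mk' N g) ^ m = 1 := by
        rw [← map_pow]; exact (QuotientGroup.eq_one_iff _).2 hgm
      have h5 : q ∣ m := hgq ▸ orderOf_dvd_of_pow_eq_one h4
      exact Nat.not_dvd_ordCompl hq (orderOf_pos g).ne' h5
    refine ⟨N, hNn, Subgroup.isComplement'_of_coprime (Nat.dvd_antisymm ?_ ?_) hco⟩
    · exact hco.mul_dvd_of_dvd_of_dvd (Subgroup.card_subgroup_dvd_card N) (Subgroup.card_subgroup_dvd_card H)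
    · conv_lhs => rw [← Subgroup.card_mul_index N]
      refine Nat.mul_dvd_mul_left _ (hco2.dvd_of_dvd_mul_right ?_)
      rw [Subgroup.card_mul_index]
      exact Subgroup.index_dvd_card N

end Cfsg.Agent.S0079
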