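import Cfsg.Statements.S0080
import Cfsg.Agent.Lib.Transfer.Basic

set_option autoImplicit false
open Cfsg

namespace Cfsg.Agent.S0080

/-- When the index of H is prime to the order of H/H', the focal subgroup of H is G' ∩ H, and H/(G' ∩ H) has a normal complement. -/
theorem result {G : Type*} [Group G] [Finite G] (H : Subgroup G) (h : Nat.Coprime H.index (⁅H, H⁆.relIndex H)) : Subgroup.focalSubgroup H = commutator G ⊓ H ∧ ∃ N : Subgroup G, N.Normal ∧ N ⊓ H = commutator G ⊓ H ∧ N ⊔ H = ⊤ := by
  have hco : Nat.Coprime (Nat.card (H ⧸ H.focalSubgroupOf)) H.index := by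
    refine Nat.Coprime.coprime_dvd_left ?_ h.symm
    rw [← Subgroup.index_eq_card, Subgroup.relIndex]
    refine Subgroup.index_dvd_of_le ?_
    intro x hx
    exact Subgroup.commutator_le_focalSubgroup H hx
  have hsurj : Function.Surjective H.transferFocal := by
    intro q
    obtain ⟨m, hm⟩ := exists_pow_eq_self_of_coprime
      (n := H.index) ((Nat.Coprime.coprime_dvd_left (orderOf_dvd_natCard q) hco).symm)
    obtain ⟨x, hx⟩ := QuotientGroup.mk'_surjective _ q
    refine ⟨(x : G) ^ m, ?_⟩
    rw [map_pow, Subgroup.transferFocal_eq_pow]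
    conv_rhs => rw [← hm, ← hx]
    rfl
  have hker : H.transferFocal.ker ⊓ H = H.focalSubgroup := by
    refine le_antisymm ?_ (le_inf ?_ H.focalSubgroup_le)
    · rintro x ⟨hx, hxH⟩
      have h2 : ((⟨x, hxH⟩ : H) : H ⧸ H.focalSubgroupOf) ^ H.index = 1 := by
        rw [← Subgroup.transferFocal_eq_pow]; exact hx
      have h1 := (Nat.Coprime.coprime_dvd_left (orderOf_dvd_natCard _) hco).eq_one_of_dvd
        (orderOf_dvd_of_pow_eq_one h2)
      rw [orderOf_eq_one_iff, QuotientGroup.eq_one_iff] at h1
      exact h1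
    · open scoped IsMulCommutative in
      exact H.focalSubgroup_le_commutator.trans (Abelianization.commutator_subset_ker H.transferFocal)
  have hfoc : H.focalSubgroup = commutator G ⊓ H := by
    refine le_antisymm (le_inf H.focalSubgroup_le_commutator H.focalSubgroup_le) ?_
    rw [← hker]
    open scoped IsMulCommutative in
    exact inf_le_inf_right _ (Abelianization.commutator_subset_ker H.transferFocal)
  refine ⟨hfoc, H.transferFocal.ker, MonoidHom.normal_ker _, hker.trans hfoc, ?_⟩
  rw [eq_top_iff]
  intro g _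
  obtain ⟨q, hq⟩ := QuotientGroup.mk'_surjective _ (H.transferFocal g)
  obtain ⟨m, hm⟩ := exists_pow_eq_self_of_coprime
    (n := H.index) ((Nat.Coprime.coprime_dvd_left (orderOf_dvd_natCard (H.transferFocal g)) hco).symm)
  have hy : H.transferFocal ((q : G) ^ m) = H.transferFocal g := by
    rw [map_pow, Subgroup.transferFocal_eq_pow]
    conv_rhs => rw [← hm, ← hq]
    rfl
  have : g * ((q : G) ^ m)⁻¹ ∈ H.transferFocal.ker := by
    rw [MonoidHom.mem_ker, map_mul, map_inv, hy, mul_inv_cancel]
  simpa using mul_mem (Subgroup.mem_sup_left (T := H) this)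
    (Subgroup.mem_sup_right (S := H.transferFocal.ker) (pow_mem q.2 m))

end Cfsg.Agent.S0080
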