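import Cfsg.Statements.S0082
import Cfsg.Agent.Lib.Transfer.Tate

set_option autoImplicit false
open Cfsg

namespace Cfsg.Agent.S0082

/-- With a cyclic Sylow p-subgroup, either there is a normal p-complement or the elements of order prime to p generate the whole group. -/
theorem result {G : Type*} [Group G] [Finite G] {p : ℕ} [Fact p.Prime] (P : Sylow p G) (hP : IsCyclic P) : Cfsg.HasNormalPComplement p G ∨ Cfsg.pResidual p G = ⊤ := by
  by_cases htop : (P : Subgroup G) ≤ Cfsg.pResidual p G
  · exact Or.inr (top_le_iff.1 ((CfsgLib.Transfer.pResidual_sup_sylow P).ge.trans (sup_le le_rfl htop)))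
  · refine Or.inl (CfsgLib.Transfer.hasNormalPComplement_of_le_frattini P fun x hx => ?_)
    refine ⟨⟨x, hx.1⟩, ?_, rfl⟩
    let K : Subgroup (P : Subgroup G) := (Cfsg.pResidual p G).subgroupOf (P : Subgroup G)
    have hK : K ≠ ⊤ := fun h => htop (Subgroup.subgroupOf_eq_top.1 h)
    refine (show K ≤ frattini (P : Subgroup G) from ?_) hx.2
    refine le_iInf₂ fun M hM => ?_
    have hcmp : K ≤ M ∨ M ≤ K := by
      classical
      have hsub : ∀ S T : Subgroup (P : Subgroup G), Nat.card S ∣ Nat.card T → S ≤ T := by
        intro S T hd s hs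
        have := Fintype.ofFinite (P : Subgroup G)
        have hT : (Finset.univ.filter fun y : (P : Subgroup G) => y ∈ T) =
            Finset.univ.filter fun y : (P : Subgroup G) => y ^ Nat.card T = 1 := by
          refine Finset.eq_of_subset_of_card_le (fun y hy => ?_) ?_
          · simp only [Finset.mem_filter, Finset.mem_univ, true_and] at hy ⊢
            exact congrArg Subtype.val (pow_card_eq_one' (x := (⟨y, hy⟩ : T)))
          · refine (IsCyclic.card_pow_eq_one_le Nat.card_pos).trans (le_of_eq ?_)
            rw [Nat.card_eq_fintype_card, Fintype.card_subtype]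
        have : s ∈ Finset.univ.filter fun y : (P : Subgroup G) => y ∈ T := by
          rw [hT]
          simp only [Finset.mem_filter, Finset.mem_univ, true_and]
          exact orderOf_dvd_iff_pow_eq_one.1 ((Subgroup.orderOf_dvd_natCard S hs).trans hd)
        simpa using this
      obtain ⟨i, -, hi⟩ := (Nat.dvd_prime_pow (Fact.out : p.Prime)).1
        ((IsPGroup.iff_card.1 P.2).choose_spec ▸ Subgroup.card_subgroup_dvd_card K)
      obtain ⟨j, -, hj⟩ := (Nat.dvd_prime_pow (Fact.out : p.Prime)).1
        ((IsPGroup.iff_card.1 P.2).choose_spec ▸ Subgroup.card_subgroup_dvd_card M)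
      rcases le_total i j with h | h
      · exact Or.inl (hsub _ _ (hi ▸ hj ▸ pow_dvd_pow p h))
      · exact Or.inr (hsub _ _ (hi ▸ hj ▸ pow_dvd_pow p h))
    rcases hcmp with h | h
    · exact h
    · exact ((hM.le_iff.1 h).resolve_left hK).le

end Cfsg.Agent.S0082
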