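import Cfsg.Statements.S0083
import Cfsg.Agent.Lib.Transfer.Frobenius

set_option autoImplicit false
open Cfsg

namespace Cfsg.Agent.S0083

/-- For an abelian Sylow p-subgroup P, a normal p-complement exists exactly when the normalizer of P is an internal direct product of P with some subgroup. -/
theorem result {G : Type*} [Group G] [Finite G] {p : ℕ} [Fact p.Prime] (P : Sylow p G) (hP : IsMulCommutative P) : Cfsg.HasNormalPComplement p G ↔ ∃ Q : Subgroup G, Q ≤ Subgroup.centralizer (P : Set G) ∧ Q ⊓ (P : Subgroup G) = ⊥ ∧ Q ⊔ (P : Subgroup G) = Subgroup.normalizer (P : Set G) := by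
  constructor
  · intro h
    obtain ⟨Q, hQ, hc⟩ := (CfsgLib.Transfer.hasNormalPComplement_iff_sylow
      (P.subtype (Subgroup.le_normalizer (H := (P : Subgroup G))))).1
      (CfsgLib.Transfer.hasNormalPComplement_subgroup h _)
    have hmap := congrArg (Subgroup.map (Subgroup.normalizer ((P : Subgroup G) : Set G)).subtype) hc.sup_eq_top
    have hinf := congrArg (Subgroup.map (Subgroup.normalizer ((P : Subgroup G) : Set G)).subtype)
      (disjoint_iff.1 hc.disjoint)
    rw [Sylow.coe_subtype] at hmap hinf
    rw [Subgroup.map_sup, Subgroup.map_subgroupOf_eq_of_le Subgroup.le_normalizer,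
      ← MonoidHom.range_eq_map, Subgroup.range_subtype] at hmap
    rw [Subgroup.map_inf _ _ _ (Subgroup.subtype_injective _),
      Subgroup.map_subgroupOf_eq_of_le Subgroup.le_normalizer, Subgroup.map_bot] at hinf
    refine ⟨_, ?_, hinf, hmap⟩
    rintro _ ⟨x, hx, rfl⟩
    exact CfsgLib.Transfer.mem_centralizer_of_hasNormalPComplement h P.2 x.2 (by
      rw [Subgroup.subtype_apply, Subgroup.orderOf_coe]
      exact Nat.Coprime.coprime_dvd_left (Subgroup.orderOf_dvd_natCard Q hx)
        (CfsgLib.Transfer.coprime_card_of_isComplement' _ hc))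
  · rintro ⟨Q, hQ, -, hsup⟩
    refine CfsgLib.Transfer.hasNormalPComplement_of_normalizer_le_centralizer P ?_
    rw [← hsup]
    exact sup_le hQ (@Subgroup.le_centralizer _ _ _ hP)

end Cfsg.Agent.S0083
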