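import Cfsg.Statements.S0084
import Cfsg.Agent.Lib.Transfer.SmallSylow

set_option autoImplicit false
open Cfsg

namespace Cfsg.Agent.S0084

/-- A group whose Sylow 2-subgroups are Klein four-groups and whose order is prime to 3 has a normal 2-complement. -/
theorem result {G : Type*} [Group G] [Finite G] (T : Sylow 2 G) (hT : IsKleinFour T) (h3 : ¬ 3 ∣ Nat.card G) : Cfsg.HasNormalPComplement 2 G := by
  have hc : IsMulCommutative (T : Subgroup G) := IsKleinFour.isMulCommutative (G := T)
  have h4 : Nat.card (T : Subgroup G) = 2 ^ 2 := hT.card_four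
  refine CfsgLib.Transfer.hasNormalPComplement_of_forall_modEq T hc h4 ?_
  intro q hq hqG hq2 j hj hmod
  have hq3 : q ≠ 3 := fun h => h3 (h ▸ hqG)
  have h5 : q ∣ 2 ^ 2 - 2 ^ j :=
    (Nat.modEq_iff_dvd' (Nat.pow_le_pow_right (by norm_num) hj.le)).1 hmod.symm
  rcases (show j = 0 ∨ j = 1 by omega) with rfl | rfl <;>
  · have := Nat.le_of_dvd (by norm_num) h5
    norm_num at this h5
    interval_cases q <;> first | omega | (revert hq; decide)

end Cfsg.Agent.S0084
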