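import Cfsg.Statements.S0085
import Cfsg.Agent.Lib.Transfer.SmallSylow

set_option autoImplicit false
open Cfsg

namespace Cfsg.Agent.S0085

/-- A group whose Sylow 2-subgroups are elementary abelian of order 8 and whose order is prime to 3 and to 7 has a normal 2-complement. -/
theorem result {G : Type*} [Group G] [Finite G] (T : Sylow 2 G) (h8 : Nat.card T = 8) (he : ∀ x : T, x * x = 1) (h3 : ¬ 3 ∣ Nat.card G) (h7 : ¬ 7 ∣ Nat.card G) : Cfsg.HasNormalPComplement 2 G := by
  have hc : IsMulCommutative (T : Subgroup G) := by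
    refine ⟨⟨fun a b => ?_⟩⟩
    have hi : ∀ x : (T : Subgroup G), x⁻¹ = x := fun x => inv_eq_of_mul_eq_one_right (he x)
    calc a * b = (a * b)⁻¹ := (hi _).symm
      _ = b * a := by rw [mul_inv_rev, hi, hi]
  have h8' : Nat.card (T : Subgroup G) = 2 ^ 3 := h8
  refine CfsgLib.Transfer.hasNormalPComplement_of_forall_modEq T hc h8' ?_
  intro q hq hqG hq2 j hj hmod
  have hq3 : q ≠ 3 := fun h => h3 (h ▸ hqG)
  have hq7 : q ≠ 7 := fun h => h7 (h ▸ hqG)
  have h5 : q ∣ 2 ^ 3 - 2 ^ j :=
    (Nat.modEq_iff_dvd' (Nat.pow_le_pow_right (by norm_num) hj.le)).1 hmod.symm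
  rcases (show j = 0 ∨ j = 1 ∨ j = 2 by omega) with rfl | rfl | rfl <;>
  · have := Nat.le_of_dvd (by norm_num) h5
    norm_num at this h5
    interval_cases q <;> first | omega | (revert hq; decide)

end Cfsg.Agent.S0085
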