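import Cfsg.Statements.S0089
import Cfsg.Agent.Lib.Transfer.Abelian
import Cfsg.Agent.Lib.Transfer.SmallSylow

set_option autoImplicit false
open Cfsg

namespace Cfsg.Agent.S0089

/-- When all Sylow subgroups are abelian, the derived subgroup meets the centre trivially. -/
theorem result {G : Type*} [Group G] [Finite G] (h : ∀ p : ℕ, p.Prime → ∀ P : Sylow p G, IsMulCommutative P) : commutator G ⊓ Subgroup.center G = ⊥ := by
  rw [eq_bot_iff]
  rintro z ⟨hz', hzZ⟩
  refine CfsgLib.Transfer.mem_of_prime_pow_powers ⊥ (isOfFinOrder_of_finite z) fun x hx q k hq hk ho => ?_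
  have := Fact.mk hq
  have hx' : x ∈ commutator G := Subgroup.zpowers_le.2 hz' hx
  have hxZ : x ∈ Subgroup.center G := Subgroup.zpowers_le.2 hzZ hx
  obtain ⟨P⟩ : Nonempty (Sylow q G) := inferInstance
  obtain ⟨g, hg⟩ := CfsgLib.Transfer.exists_conj_mem_sylow P
    (IsPGroup.of_card (G := Subgroup.zpowers x) (n := k) (by rw [Nat.card_zpowers, ho]))
  have hxP : x ∈ (P : Subgroup G) := by
    have := hg x (Subgroup.mem_zpowers x)
    rwa [Subgroup.mem_center_iff.1 hxZ g, mul_inv_cancel_right] at this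
  rw [← CfsgLib.Transfer.inf_commutator_inf_center (P : Subgroup G) (h q hq P) P.card_coprime_index]
  exact ⟨⟨hxP, hx'⟩, hxZ⟩

end Cfsg.Agent.S0089
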