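import Cfsg.Statements.S0090
import Cfsg.Agent.Lib.Transfer.Abelian

set_option autoImplicit false
open Cfsg

namespace Cfsg.Agent.S0090

/-- An abelian normal Hall subgroup A splits as the internal direct product of G' ∩ A and Z(G) ∩ A, and [A, G] = G' ∩ A. -/
theorem result {G : Type*} [Group G] [Finite G] (A : Subgroup G) [A.Normal] (hc : IsMulCommutative A) (hHall : Nat.Coprime (Nat.card A) A.index) : ⁅A, (⊤ : Subgroup G)⁆ = commutator G ⊓ A ∧ (commutator G ⊓ A) ⊓ (Subgroup.center G ⊓ A) = ⊥ ∧ (commutator G ⊓ A) ⊔ (Subgroup.center G ⊓ A) = A := by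
  have hle : ⁅A, (⊤ : Subgroup G)⁆ ≤ commutator G ⊓ A :=
    le_inf (Subgroup.commutator_mono le_top le_rfl) (Subgroup.commutator_le_left A ⊤)
  have hdec := CfsgLib.Transfer.le_commutator_sup_center A hc hHall
  have hbot := CfsgLib.Transfer.inf_commutator_inf_center A hc hHall
  refine ⟨le_antisymm hle ?_, eq_bot_iff.2 ?_, le_antisymm (sup_le inf_le_right inf_le_right)
    (hdec.trans (sup_le_sup_right hle _))⟩
  · rintro x ⟨hx', hxA⟩
    have hx := hdec hxA
    rw [← SetLike.mem_coe, Subgroup.normal_mul] at hx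
    obtain ⟨c, hc', z, hz, rfl⟩ := hx
    have hz' : z ∈ commutator G := by
      have := (commutator G).mul_mem ((commutator G).inv_mem (hle hc').1) hx'
      rwa [inv_mul_cancel_left] at this
    have : z ∈ A ⊓ commutator G ⊓ Subgroup.center G := ⟨⟨hz.2, hz'⟩, hz.1⟩
    rw [hbot, Subgroup.mem_bot] at this
    show c * z ∈ _
    rw [this, mul_one]
    exact hc'
  · rw [← hbot]
    exact le_inf (le_inf (inf_le_left.trans inf_le_right) (inf_le_left.trans inf_le_left))
      (inf_le_right.trans inf_le_left)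

end Cfsg.Agent.S0090
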