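import Cfsg.Statements.S0091
import Cfsg.Agent.Lib.Transfer.Fusion

set_option autoImplicit false
open Cfsg

namespace Cfsg.Agent.S0091

/-- If a nontrivial Sylow p-subgroup controls its own fusion then it is not contained in the derived subgroup. -/
theorem result {G : Type*} [Group G] [Finite G] {p : ℕ} [Fact p.Prime] (P : Sylow p G) (hp : p ∣ Nat.card G) (h : ∀ x ∈ P, ∀ y ∈ P, (∃ g : G, g * x * g⁻¹ = y) → ∃ z ∈ P, z * x * z⁻¹ = y) : ¬ (P : Subgroup G) ≤ commutator G := by
  intro hle
  have hctl : CfsgLib.Transfer.ControlsFusion (P : Subgroup G) (P : Subgroup G) :=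
    fun x hx g hg => h x hx _ hg ⟨g, rfl⟩
  have h2 := CfsgLib.Transfer.commutator_inf_sylow_eq P le_rfl hctl
  rw [inf_eq_right.2 hle] at h2
  have h3 : (P : Subgroup G) ≤ ⁅(P : Subgroup G), (P : Subgroup G)⁆ := h2.le.trans inf_le_left
  have : ∀ n, (P : Subgroup G) ≤ (P : Subgroup G).lowerCentralSeries n := by
    intro n
    induction n with
    | zero => exact le_rfl
    | succ n ih =>
      rw [Subgroup.lowerCentralSeries_succ]
      exact h3.trans (Subgroup.commutator_mono ih le_rfl)
  have hnil : Group.IsNilpotent (P : Subgroup G) := P.2.isNilpotent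
  obtain ⟨n, hn⟩ := Subgroup.nilpotent_iff_lowerCentralSeries.1 hnil
  have hb : (P : Subgroup G) = ⊥ := by
    refine le_bot_iff.1 ((this n).trans ?_)
    rw [← Subgroup.top_subtype_lowerCentralSeries, hn, Subgroup.map_bot]
  exact P.ne_bot_of_dvd_card hp hb

end Cfsg.Agent.S0091
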