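import Cfsg.Statements.S0092
import Cfsg.Agent.Lib.Transfer.Abelian
import Cfsg.Agent.Lib.Solvable.AbelianAction
import Cfsg.Agent.Lib.Solvable.SchurZassenhaus
import Cfsg.Agent.Lib.Transfer.CentralHall

set_option autoImplicit false
open Cfsg
open scoped commutatorElement

namespace Cfsg.Agent.S0092

/-- If the Sylow p-subgroups of O^p(G) are abelian then G splits over O^p(G). -/
theorem result {G : Type*} [Group G] [Finite G] {p : ℕ} [Fact p.Prime] (h : ∀ Q : Sylow p (Cfsg.pResidual p G), IsMulCommutative Q) : ∃ K : Subgroup G, K.IsComplement' (Cfsg.pResidual p G) := by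
  open Subgroup Pointwise in
  classical
  have hp := (Fact.out : p.Prime)
  have hRn : (pResidual p G).Normal := have := CfsgLib.Transfer.pResidual_characteristic (G := G) (p := p); inferInstance
  obtain ⟨Q⟩ : Nonempty (Sylow p ↥(pResidual p G)) := inferInstance
  set R := pResidual p G with hR
  have hQc : IsMulCommutative (Q : Subgroup R) := h Q
  have hRfull : pResidual p R = ⊤ := by
    have := CfsgLib.Transfer.pResidual_characteristic (G := R) (p := p)
    rw [eq_top_iff]
    intro x _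
    exact (QuotientGroup.eq_one_iff x).1
      (CfsgLib.Transfer.hom_pResidual_eq_one CfsgLib.Transfer.isPGroup_quotient_pResidual
        (QuotientGroup.mk' (pResidual p R)) x)
  have hQfull : (Q : Subgroup R) = ⁅(Q : Subgroup R), Subgroup.normalizer (Q : Set R)⁆ := by
    rw [← CfsgLib.Transfer.inf_pResidual_eq_commutator Q hQc, hRfull, inf_top_eq]
  set Qg : Subgroup G := (Q : Subgroup R).map R.subtype with hQg
  have hQR : Qg ≤ R := Subgroup.map_subtype_le _
  have hQgc : ∀ a ∈ Qg, ∀ b ∈ Qg, a * b = b * a := by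
    rintro _ ⟨a, ha, rfl⟩ _ ⟨b, hb, rfl⟩
    exact congrArg (fun x : (Q : Subgroup R) => ((x : R) : G)) (hQc.is_comm.comm ⟨a, ha⟩ ⟨b, hb⟩)
  have : IsMulCommutative Qg := ⟨⟨fun a b => Subtype.ext (hQgc a a.2 b b.2)⟩⟩
  set NR : Subgroup G := Subgroup.normalizer (Qg : Set G) ⊓ R with hNR
  have hQNR : Qg ≤ NR := le_inf Subgroup.le_normalizer hQR
  have hn : (Qg.subgroupOf NR).Normal := by
    rw [Subgroup.normal_subgroupOf_iff_le_normalizer hQNR]; exact inf_le_left
  have hQidx : (Qg.relIndex NR).Coprime p := by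
    refine CfsgLib.Transfer.coprime_of_not_dvd fun hd => Q.not_dvd_index ?_
    refine hd.trans ?_
    have h1 : Qg.subgroupOf R = (Q : Subgroup R) := Subgroup.comap_map_eq_self_of_injective R.subtype_injective _
    have h2 := Subgroup.relIndex_mul_relIndex Qg NR R hQNR inf_le_right
    show _ ∣ (Q : Subgroup R).index
    rw [← h1]
    exact ⟨_, h2.symm⟩
  obtain ⟨e, he⟩ := IsPGroup.iff_card.1 Q.2
  have hQcard : Nat.card Qg = p ^ e := by rw [hQg, Subgroup.card_map_of_injective R.subtype_injective, he]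
  have hcop : (Nat.card (Qg.subgroupOf NR)).Coprime (Qg.subgroupOf NR).index := by
    rw [Nat.card_congr (Subgroup.subgroupOfEquivOfLe hQNR).toEquiv, hQcard]
    exact Nat.Coprime.pow_left e hQidx.symm
  obtain ⟨K0, hK0⟩ := Subgroup.exists_right_complement'_of_coprime hcop
  set K : Subgroup G := K0.map NR.subtype with hK
  have hKNR : K ≤ NR := Subgroup.map_subtype_le _
  have hKcard : (Nat.card K).Coprime p := by
    rw [hK, Subgroup.card_map_of_injective NR.subtype_injective, ← hK0.symm.index_eq_card]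
    exact hQidx
  have hKQ : K ⊓ Qg = ⊥ := by
    refine disjoint_iff.1 (Subgroup.disjoint_of_coprime_natCard ?_)
    rw [hQcard]; exact hKcard.pow_right e
  have hNRsup : ∀ x ∈ NR, ∃ q ∈ Qg, ∃ k ∈ K, q * k = x := by
    intro x hx
    obtain ⟨⟨q, k⟩, hqk⟩ := hK0.2 ⟨x, hx⟩
    exact ⟨((q : NR) : G), q.2, ((k : NR) : G), Subgroup.mem_map_of_mem _ k.2, congrArg Subtype.val hqk⟩
  set L : Subgroup G := Subgroup.normalizer (Qg : Set G) ⊓ Subgroup.normalizer (K : Set G) with hL
  have hsupL : Subgroup.normalizer (Qg : Set G) ≤ R ⊔ L := by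
    intro g hg
    have hcardK : Nat.card (MulAut.conj g • K : Subgroup G) = Nat.card K :=
      (Nat.card_congr (Subgroup.equivSMul (MulAut.conj g) K).toEquiv).symm
    obtain ⟨x, hx, hxle⟩ := CfsgLib.Solvable.exists_conj_le Qg K (MulAut.conj g • K) (hKNR.trans inf_le_left)
      (by rw [inf_comm]; exact hKQ) (by
        rintro _ ⟨y, hy, rfl⟩
        have hz : g * y * g⁻¹ ∈ NR :=
          Subgroup.mem_inf.2 ⟨mul_mem (mul_mem hg (hKNR hy).1) (inv_mem hg), hRn.conj_mem _ (hKNR hy).2 g⟩
        obtain ⟨q, hq, k, hk, hqk⟩ := hNRsup _ hz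
        show g * y * g⁻¹ ∈ Qg ⊔ K
        rw [← hqk]
        exact mul_mem (Subgroup.mem_sup_left hq) (Subgroup.mem_sup_right hk))
      (by rw [hQcard, hcardK]; exact (hKcard.pow_right e).symm)
      (Or.inl (Group.isSolvable_of_comm fun a b => Subtype.ext (hQgc a a.2 b b.2)))
    rw [smul_smul, ← map_mul] at hxle
    have hxg : x * g ∈ Subgroup.normalizer (K : Set G) := Subgroup.mem_normalizer_fintype fun y hy =>
      hxle (Subgroup.smul_mem_pointwise_smul y (MulAut.conj (x * g)) K hy)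
    have hxgL : x * g ∈ L := ⟨mul_mem (Subgroup.le_normalizer hx) hg, hxg⟩
    have h2 := mul_mem (Subgroup.mem_sup_left (T := L) (inv_mem (hQR hx))) (Subgroup.mem_sup_right (S := R) hxgL)
    simpa using h2
  have hRL : R ⊔ L = ⊤ := by
    rw [eq_top_iff, ← Sylow.normalizer_sup_eq_top Q]
    exact sup_le hsupL le_sup_left
  have hQK : Qg ⊓ Subgroup.centralizer (K : Set G) = ⊥ := by
    have hle : Qg ≤ ⁅Qg, K⁆ := by
      conv_lhs => rw [hQg, hQfull, Subgroup.map_commutator]
      rw [← hQg, Subgroup.commutator_le]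
      rintro a ha _ ⟨n, hn', rfl⟩
      have hnNR : ((n : R) : G) ∈ NR := by
        refine ⟨Subgroup.mem_normalizer_fintype ?_, n.2⟩
        rintro _ ⟨z, hz, rfl⟩
        exact ⟨n * z * n⁻¹, (Subgroup.mem_normalizer_iff.1 hn' z).1 hz, rfl⟩
      obtain ⟨q, hq, k, hk, hqk⟩ := hNRsup _ hnNR
      show ⁅a, ((n : R) : G)⁆ ∈ _
      rw [← hqk]
      have hk' : k ∈ Subgroup.normalizer (Qg : Set G) := (hKNR hk).1
      have hak : ⁅a, k⁆ ∈ Qg := by
        rw [commutatorElement_def, show a * k * a⁻¹ * k⁻¹ = a * (k * a⁻¹ * k⁻¹) by group]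
        exact mul_mem ha ((Subgroup.mem_normalizer_iff.1 hk' _).1 (inv_mem ha))
      have : ⁅a, q * k⁆ = ⁅a, k⁆ := by
        rw [commutatorElement_mul_right_eq_mul_conj, show ⁅a, q⁆ = 1 from
          commutatorElement_eq_one_iff_mul_comm.2 (hQgc a ha q hq), one_mul, hQgc q hq _ hak, mul_inv_cancel_right]
      rw [this]
      exact Subgroup.commutator_mem_commutator ha hk
    have h1 := CfsgLib.Solvable.inf_centralizer_inf_commutator K Qg (hKNR.trans inf_le_left)
      (by rw [hQcard]; exact hKcard.pow_right e)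
    rw [eq_bot_iff, ← h1]
    exact le_inf le_rfl (inf_le_left.trans hle)
  have hLR : L ⊓ R ≤ K := by
    intro x hx
    obtain ⟨q, hq, k, hk, rfl⟩ := hNRsup x ⟨hx.1.1, hx.2⟩
    have hqL : q ∈ Subgroup.normalizer (K : Set G) := by
      simpa using mul_mem (show q * k ∈ Subgroup.normalizer (K : Set G) from hx.1.2) (inv_mem (Subgroup.le_normalizer (H := K) hk))
    have hqC : q ∈ Qg ⊓ Subgroup.centralizer (K : Set G) := by
      refine ⟨hq, Subgroup.mem_centralizer_iff.2 fun y hy => ?_⟩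
      have h1 : ⁅q, y⁆ ∈ Qg ⊓ K := by
        rw [commutatorElement_def]
        refine Subgroup.mem_inf.2 ⟨?_, mul_mem ((Subgroup.mem_normalizer_iff.1 hqL y).1 hy) (inv_mem hy)⟩
        rw [show q * y * q⁻¹ * y⁻¹ = q * (y * q⁻¹ * y⁻¹) by group]
        exact mul_mem hq ((Subgroup.mem_normalizer_iff.1 (hKNR hy).1 _).1 (inv_mem hq))
      rw [inf_comm, hKQ, Subgroup.mem_bot, commutatorElement_eq_one_iff_mul_comm] at h1
      exact h1.symm
    rw [hQK, Subgroup.mem_bot] at hqC
    rw [hqC, one_mul]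
    exact hk
  obtain ⟨S⟩ : Nonempty (Sylow p L) := inferInstance
  set S' : Subgroup G := (S : Subgroup L).map L.subtype with hS'
  obtain ⟨a, ha⟩ := IsPGroup.iff_card.1 S.2
  have hS'card : Nat.card S' = p ^ a := by rw [hS', Subgroup.card_map_of_injective L.subtype_injective, ha]
  have hdisj : S' ⊓ R = ⊥ := by
    have hle : S' ⊓ R ≤ S' ⊓ K := le_inf inf_le_left
      ((inf_le_inf_right R (Subgroup.map_subtype_le _)).trans hLR)
    refine le_bot_iff.1 (hle.trans (le_of_eq ?_))
    refine disjoint_iff.1 (Subgroup.disjoint_of_coprime_natCard ?_)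
    rw [hS'card]; exact (hKcard.pow_right a).symm
  refine ⟨S', Subgroup.isComplement'_of_card_mul_and_disjoint ?_ (disjoint_iff.2 hdisj)⟩
  obtain ⟨c, hc⟩ := CfsgLib.Transfer.index_pResidual (G := G) (p := p)
  have hRL' : R.relIndex L = R.index := by
    rw [← Subgroup.relIndex_sup_left, hRL, Subgroup.relIndex_top_right]
  have hLcard : Nat.card ↥(L ⊓ R : Subgroup G) * p ^ c = Nat.card L := by
    rw [← ((L ⊓ R).subgroupOf L).card_mul_index,
      Nat.card_congr (Subgroup.subgroupOfEquivOfLe (inf_le_left : L ⊓ R ≤ L)).toEquiv]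
    congr 1
    show _ = (L ⊓ R).relIndex L
    rw [Subgroup.inf_relIndex_left, hRL', hc]
  have hLRco : (Nat.card ↥(L ⊓ R : Subgroup G)).Coprime p := hKcard.coprime_dvd_left (Subgroup.card_dvd_of_le hLR)
  have hac : a = c := by
    have e1 := (S : Subgroup L).card_mul_index
    rw [ha, ← hLcard] at e1
    have hco2 : ((S : Subgroup L).index).Coprime p := CfsgLib.Transfer.coprime_of_not_dvd S.not_dvd_index
    refine Nat.pow_right_injective hp.two_le (Nat.dvd_antisymm ?_ ?_)
    · refine ((hLRco.pow_right a).symm).dvd_of_dvd_mul_left ?_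
      exact ⟨_, e1.symm⟩
    · refine ((hco2.pow_right c).symm).dvd_of_dvd_mul_right ?_
      exact ⟨_, by rw [e1, mul_comm]⟩
  rw [hS'card, hac, ← hc, mul_comm]
  exact R.card_mul_index

end Cfsg.Agent.S0092
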