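import Cfsg.Statements.S0093
import Cfsg.Agent.Lib.Transfer.Critical

set_option autoImplicit false
open Cfsg
open scoped commutatorElement

namespace Cfsg.Agent.S0093

/-- Every finite p-group has a critical subgroup: a characteristic subgroup H whose Frattini subgroup and whose commutator with the whole group lie in the centre of H, and whose centralizer is contained in H. -/
theorem result {P : Type*} [Group P] [Finite P] {p : ℕ} [Fact p.Prime] (hP : IsPGroup p P) : ∃ H : Subgroup P, H.Characteristic ∧ (frattini H).map H.subtype ≤ Subgroup.centralizer (H : Set P) ∧ ⁅H, (⊤ : Subgroup P)⁆ ≤ H ⊓ Subgroup.centralizer (H : Set P) ∧ Subgroup.centralizer (H : Set P) ≤ H := by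
  obtain ⟨H, hHc, hpow, hcomm, hC⟩ := CfsgLib.Transfer.exists_critical hP
  refine ⟨H, hHc, ?_, hcomm, hC⟩
  rintro _ ⟨x, hx, rfl⟩
  refine (show x ∈ ((H ⊓ Subgroup.centralizer (H : Set P)).subgroupOf H) from
    CfsgLib.Transfer.frattini_le_of_commutator_pow (G := H) (p := p) _ (fun a b => ?_) (fun a => hpow a a.2) hx).2
  exact hcomm (Subgroup.commutator_mem_commutator a.2 (Subgroup.mem_top (b : P)))

end Cfsg.Agent.S0093
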