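import Cfsg.Statements.S0096
import Cfsg.Agent.Lib.PGroup.Basic

set_option autoImplicit false
open Cfsg
open scoped commutatorElement

namespace Cfsg.Agent.S0096

/-- For odd p, in a p-group of class at most two the elements of order dividing p generate a subgroup of exponent dividing p. -/
theorem result {P : Type*} [Group P] [Finite P] {p : ℕ} [Fact p.Prime] (hp : p ≠ 2) (hP : IsPGroup p P) (h2 : ⁅commutator P, (⊤ : Subgroup P)⁆ = ⊥) (g : P) (hg : g ∈ Subgroup.closure {x : P | x ^ p = 1}) : g ^ p = 1 := by
  have hcen : ∀ a b : P, ⁅a, b⁆ ∈ Subgroup.center P := by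
    intro a b
    rw [Subgroup.mem_center_iff]
    intro g
    have h1 : (⁅⁅a, b⁆, g⁆ : P) ∈ (⊥ : Subgroup P) := h2 ▸ Subgroup.commutator_mem_commutator
      (Subgroup.commutator_mem_commutator (Subgroup.mem_top a) (Subgroup.mem_top b))
      (Subgroup.mem_top g)
    exact (commutatorElement_eq_one_iff_mul_comm.1 (Subgroup.mem_bot.1 h1)).symm
  induction hg using Subgroup.closure_induction with
  | mem x hx => exact hx
  | one => exact one_pow p
  | mul a b _ _ iha ihb =>
    obtain ⟨j, hj⟩ := (Fact.out : p.Prime).dvd_choose_self (by norm_num : (2 : ℕ) ≠ 0)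
      (lt_of_le_of_ne (Fact.out : p.Prime).two_le (Ne.symm hp))
    rw [CfsgLib.PGroup.mul_pow_of_comm_mem_center (hcen _ _), hj, pow_mul,
      ← CfsgLib.PGroup.comm_pow_left (hcen _ _), iha, ihb, commutatorElement_one_left, one_pow,
      one_mul, one_mul]
  | inv a _ iha => rw [inv_pow, iha, inv_one]

end Cfsg.Agent.S0096
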