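import Cfsg.Statements.S0097
import Cfsg.Agent.Lib.PGroup.Extraspecial

set_option autoImplicit false
open Cfsg
open scoped commutatorElement

namespace Cfsg.Agent.S0097

/-- For odd p and E extraspecial, the subgroup generated by the elements of order dividing p has exponent dividing p and index at most p. -/
theorem result {E : Type*} [Group E] [Finite E] {p : ℕ} [Fact p.Prime] (hp : p ≠ 2) (h : Cfsg.IsExtraspecial p E) : (Subgroup.closure {x : E | x ^ p = 1}).index ≤ p ∧ ∀ g ∈ Subgroup.closure {x : E | x ^ p = 1}, g ^ p = 1 := by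
  have hcen : ∀ a b : E, ⁅a, b⁆ ∈ Subgroup.center E := CfsgLib.PGroup.special_comm_mem_center h.1
  have hhom : ∀ a b : E, (a * b) ^ p = a ^ p * b ^ p := by
    intro a b
    obtain ⟨j, hj⟩ := (Fact.out : p.Prime).dvd_choose_self (by norm_num : (2 : ℕ) ≠ 0)
      (lt_of_le_of_ne (Fact.out : p.Prime).two_le (Ne.symm hp))
    rw [CfsgLib.PGroup.mul_pow_of_comm_mem_center (hcen _ _), hj, pow_mul,
      CfsgLib.PGroup.special_center_pow h.1 (hcen _ _), one_pow, mul_one]
  let f : E →* Subgroup.center E :=
    { toFun := fun x => ⟨x ^ p, CfsgLib.PGroup.special_pow_mem_center h.1 x⟩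
      map_one' := Subtype.ext (one_pow p)
      map_mul' := fun a b => Subtype.ext (hhom a b) }
  have hle : f.ker ≤ Subgroup.closure {x : E | x ^ p = 1} :=
    fun x hx => Subgroup.subset_closure (congrArg Subtype.val hx)
  have hge : Subgroup.closure {x : E | x ^ p = 1} ≤ f.ker :=
    (Subgroup.closure_le _).2 fun x hx => Subtype.ext hx
  refine ⟨?_, fun g hg => congrArg Subtype.val (hge hg)⟩
  calc (Subgroup.closure {x : E | x ^ p = 1}).index ≤ f.ker.index :=
        Nat.le_of_dvd (Nat.pos_of_ne_zero Subgroup.index_ne_zero_of_finite) (Subgroup.index_dvd_of_le hle)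
    _ ≤ Nat.card (Subgroup.center E) := by
        rw [Subgroup.index_ker]; exact Subgroup.card_le_card_group _
    _ = p := h.2

end Cfsg.Agent.S0097
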