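import Cfsg.Statements.S0098
import Cfsg.Agent.Lib.PGroup.Extraspecial

set_option autoImplicit false
open Cfsg
open scoped commutatorElement

namespace Cfsg.Agent.S0098

open Subgroup
universe u v
variable {p : ℕ} [hp : Fact p.Prime]

/-- Class at most two, exponent `p`, centre of order `p`. -/
def Heis (p : ℕ) (E : Type*) [Group E] : Prop :=
  Nat.card (center E) = p ∧ (∀ a b : E, ⁅a, b⁆ ∈ center E) ∧ ∀ a : E, a ^ p = 1

theorem pow_mod_p {G : Type*} [Group G] {g : G} {q : ℕ} (h : g ^ q = 1) (i : ℕ) : g ^ (i % q) = g ^ i := by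
  conv_rhs => rw [← Nat.mod_add_div i q, pow_add, pow_mul, h, one_pow, mul_one]

theorem exists_coords {E : Type u} [Group E] [Finite E] (h : Heis p E) {x y : E} (hxy : ⁅y, x⁆ ≠ 1) :
    ∃ C : Subgroup E, Heis p C ∧ ⁅y, x⁆ ∈ C ∧ (∀ c ∈ C, ⁅y, x⁆ ∈ center E ∧ x * c = c * x ∧ y * c = c * y) ∧
      ∀ g : E, ∃! t : ZMod p × ZMod p × C, x ^ t.1.val * y ^ t.2.1.val * (t.2.2 : E) = g := by
  obtain ⟨hZ, hc, he⟩ := h
  set z := ⁅y, x⁆ with hz
  have hzc : z ∈ center E := hc y x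
  have hzo : orderOf z = p := orderOf_eq_prime (he z) hxy
  have hgen : ∀ w ∈ center E, ∃ i : ℕ, z ^ i = w := by
    intro w hw
    have : zpowers z = center E := eq_of_le_of_card_ge (zpowers_le.2 hzc) (by rw [Nat.card_zpowers, hzo, hZ])
    obtain ⟨i, hi⟩ := mem_powers_iff_mem_zpowers.2 (this.ge hw)
    exact ⟨i, hi⟩
  have hmod : ∀ (w : E) (k : ℕ), w ^ ((k : ZMod p).val) = w ^ k := fun w k => by
    rw [ZMod.val_natCast, pow_mod_p (he w)]
  set C := centralizer ({x, y} : Set E) with hC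
  have hmemC : ∀ {c : E}, c ∈ C ↔ x * c = c * x ∧ y * c = c * y := fun {c} => by
    simp [hC, mem_centralizer_iff]
  have hzC : z ∈ C := hmemC.2 ⟨mem_center_iff.1 hzc x, mem_center_iff.1 hzc y⟩
  have hyc : ∀ (a b : ℕ) (c : E), c ∈ C → ⁅y, x ^ a * y ^ b * c⁆ = z ^ a := by
    intro a b c hcC
    rw [CfsgLib.PGroup.comm_mul_right (hc _ _), CfsgLib.PGroup.comm_mul_right (hc _ _),
      CfsgLib.PGroup.comm_pow_right (hc _ _), CfsgLib.PGroup.comm_pow_right (hc _ _), commutatorElement_self, one_pow,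
      mul_one, commutatorElement_eq_one_iff_mul_comm.2 (hmemC.1 hcC).2, mul_one]
  have hxc : ∀ (a b : ℕ) (c : E), c ∈ C → ⁅x, x ^ a * y ^ b * c⁆ = (z⁻¹) ^ b := by
    intro a b c hcC
    rw [CfsgLib.PGroup.comm_mul_right (hc _ _), CfsgLib.PGroup.comm_mul_right (hc _ _),
      CfsgLib.PGroup.comm_pow_right (hc _ _), CfsgLib.PGroup.comm_pow_right (hc _ _), commutatorElement_self, one_pow,
      one_mul, commutatorElement_eq_one_iff_mul_comm.2 (hmemC.1 hcC).1, mul_one, hz, commutatorElement_inv]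
  have hinjpow : ∀ (w : E), orderOf w = p → ∀ a b : ZMod p, w ^ a.val = w ^ b.val → a = b := fun w hw a b hab =>
    ZMod.val_injective p (pow_injOn_Iio_orderOf (by rw [hw]; exact ZMod.val_lt a) (by rw [hw]; exact ZMod.val_lt b) hab)
  have hbij : ∀ g : E, ∃! t : ZMod p × ZMod p × C, x ^ t.1.val * y ^ t.2.1.val * (t.2.2 : E) = g := by
    intro g
    obtain ⟨a, ha⟩ := hgen _ (hc y g)
    obtain ⟨b, hb⟩ := hgen _ (inv_mem (hc x g))
    have hk : (x ^ a * y ^ b)⁻¹ * g ∈ C := by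
      have e1 := hyc a b 1 C.one_mem
      have e2 := hxc a b 1 C.one_mem
      rw [mul_one] at e1 e2
      have e3 : ∀ w : E, ⁅w, x ^ a * y ^ b⁆ = ⁅w, g⁆ → w * ((x ^ a * y ^ b)⁻¹ * g) = ((x ^ a * y ^ b)⁻¹ * g) * w := by
        intro w hw
        refine commutatorElement_eq_one_iff_mul_comm.1 ?_
        have h1 : ⁅w, x ^ a * y ^ b * ((x ^ a * y ^ b)⁻¹ * g)⁆ = ⁅w, g⁆ := by rw [mul_inv_cancel_left]
        rwa [CfsgLib.PGroup.comm_mul_right (hc _ _), hw, mul_eq_left] at h1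
      exact hmemC.2 ⟨e3 x (by rw [e2, inv_pow, hb, inv_inv]), e3 y (by rw [e1, ha])⟩
    refine ⟨((a : ZMod p), (b : ZMod p), ⟨_, hk⟩), ?_, ?_⟩
    · show x ^ (a : ZMod p).val * y ^ (b : ZMod p).val * ((x ^ a * y ^ b)⁻¹ * g) = g
      rw [hmod, hmod, mul_inv_cancel_left]
    · rintro ⟨a', b', c'⟩ hg
      have e1 := hyc a'.val b'.val c' c'.2
      have e2 := hxc a'.val b'.val c' c'.2
      rw [hg] at e1 e2
      have ha' : a' = (a : ZMod p) := hinjpow z hzo _ _ (by rw [← e1, hmod, ha])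
      have hb' : b' = (b : ZMod p) := hinjpow z hzo _ _ (by
        rw [hmod, hb, e2, inv_pow, inv_inv])
      subst ha' hb'
      have : ((c' : E)) = (x ^ a * y ^ b)⁻¹ * g := by
        rw [← hg]
        simp only [hmod, inv_mul_cancel_left]
      exact Prod.ext rfl (Prod.ext rfl (Subtype.ext this))
  have hCle : ∀ c : C, c ∈ center C → (c : E) ∈ center E := by
    intro c hcc
    refine mem_center_iff.2 fun g => ?_
    obtain ⟨⟨a, b, d⟩, hg, -⟩ := hbij g
    rw [← hg]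
    have h1 : Commute (x ^ a.val) (c : E) := Commute.pow_left (hmemC.1 c.2).1 _
    have h2 : Commute (y ^ b.val) (c : E) := Commute.pow_left (hmemC.1 c.2).2 _
    have h3 : Commute (d : E) (c : E) := congrArg Subtype.val (mem_center_iff.1 hcc d)
    exact ((h1.mul_left h2).mul_left h3).eq
  refine ⟨C, ⟨?_, fun a b => ?_, fun a => Subtype.ext (by simpa using he a)⟩, hzC,
    fun c hcC => ⟨hzc, hmemC.1 hcC⟩, hbij⟩
  · have heq : (center C).map C.subtype = center E := by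
      refine le_antisymm ?_ fun w hw => ?_
      · rintro _ ⟨c, hcc, rfl⟩
        exact hCle c hcc
      · exact ⟨⟨w, center_le_centralizer _ hw⟩, mem_center_iff.2 fun d => Subtype.ext (mem_center_iff.1 hw d), rfl⟩
    rw [← card_map_of_injective C.subtype_injective, heq, hZ]
  · exact mem_center_iff.2 fun d => Subtype.ext (mem_center_iff.1 (hc a b) d)

theorem mul_coords {G : Type*} [Group G] (u v zz c c' : G) (he : ∀ g : G, g ^ p = 1) (hvu : ⁅v, u⁆ = zz)
    (hzz : zz ∈ center G) (hu : u * c = c * u) (hv : v * c = c * v) (a b a' b' : ZMod p) :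
    u ^ a.val * v ^ b.val * c * (u ^ a'.val * v ^ b'.val * c') =
      u ^ (a + a').val * v ^ (b + b').val * (zz ^ (b.val * a'.val) * (c * c')) := by
  have hpm : ∀ (g : G) (i : ℕ), g ^ (i % p) = g ^ i := fun g i => pow_mod_p (he g) i
  have hcom : ⁅v ^ b.val, u ^ a'.val⁆ = zz ^ (b.val * a'.val) := by
    have h1 : ⁅v, u⁆ ∈ center G := hvu ▸ hzz
    have h2 : ⁅v, u ^ a'.val⁆ = zz ^ a'.val := by rw [CfsgLib.PGroup.comm_pow_right h1, hvu]
    rw [CfsgLib.PGroup.comm_pow_left (h2 ▸ pow_mem hzz _), h2, ← pow_mul, mul_comm]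
  set Z := zz ^ (b.val * a'.val)
  have hZ : ∀ g : G, g * Z = Z * g := fun g => mem_center_iff.1 (pow_mem hzz _) g
  have h3 : v ^ b.val * u ^ a'.val = u ^ a'.val * v ^ b.val * Z := by
    rw [hZ, ← hcom, commutatorElement_def]; group
  have c1 : Commute (u ^ a'.val * v ^ b'.val) c := ((Commute.pow_left hu _).mul_left (Commute.pow_left hv _))
  rw [ZMod.val_add, ZMod.val_add, hpm, hpm]
  calc u ^ a.val * v ^ b.val * c * (u ^ a'.val * v ^ b'.val * c')
      = u ^ a.val * v ^ b.val * (c * (u ^ a'.val * v ^ b'.val)) * c' := by simp only [mul_assoc]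
    _ = u ^ a.val * (v ^ b.val * u ^ a'.val) * v ^ b'.val * (c * c') := by rw [← c1.eq]; simp only [mul_assoc]
    _ = u ^ a.val * u ^ a'.val * (v ^ b.val * (Z * v ^ b'.val)) * (c * c') := by rw [h3]; simp only [mul_assoc]
    _ = u ^ (a.val + a'.val) * v ^ (b.val + b'.val) * (Z * (c * c')) := by
        rw [← hZ, pow_add, pow_add]; simp only [mul_assoc]

theorem iso_of_card : ∀ {n : ℕ} {E : Type u} {F : Type v} [Group E] [Group F] [Finite E] [Finite F],
    Heis p E → Heis p F → Nat.card E = n → Nat.card F = n → Nonempty (E ≃* F) := by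
  intro n
  induction n using Nat.strong_induction_on with
  | _ n ih =>
  intro E F _ _ _ _ hE hF hEn hFn
  by_cases hEc : ∀ a b : E, ⁅a, b⁆ = 1
  · have hEtop : center E = ⊤ := eq_top_iff.2 fun a _ => mem_center_iff.2 fun b =>
      commutatorElement_eq_one_iff_mul_comm.1 (hEc b a)
    have hn : n = p := by rw [← hEn, ← card_top (G := E), ← hEtop, hE.1]
    exact ⟨mulEquivOfPrimeCardEq (hEn.trans hn) (hFn.trans hn)⟩
  push Not at hEc
  obtain ⟨y, x, hyx⟩ := hEc
  have hFc : ∃ a b : F, ⁅a, b⁆ ≠ 1 := by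
    by_contra hcon
    push Not at hcon
    have hFtop : center F = ⊤ := eq_top_iff.2 fun a _ => mem_center_iff.2 fun b =>
      commutatorElement_eq_one_iff_mul_comm.1 (hcon b a)
    have hn : n = p := by rw [← hFn, ← card_top (G := F), ← hFtop, hF.1]
    have hcy : IsCyclic E := isCyclic_of_prime_card (p := p) (hEn.trans hn)
    exact hyx (commutatorElement_eq_one_iff_mul_comm.2 ((IsMulCommutative.is_comm (M := E)).comm y x))
  obtain ⟨y', x', hyx'⟩ := hFc
  obtain ⟨C, hCH, hzC, hCp, hb⟩ := exists_coords hE hyx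
  obtain ⟨D, hDH, hzD, hDp, hb'⟩ := exists_coords hF hyx'
  let φ : ZMod p × ZMod p × C → E := fun t => x ^ t.1.val * y ^ t.2.1.val * (t.2.2 : E)
  have hφ : Function.Bijective φ := Function.bijective_iff_existsUnique φ |>.2 hb
  let φ' : ZMod p × ZMod p × D → F := fun t => x' ^ t.1.val * y' ^ t.2.1.val * (t.2.2 : F)
  have hφ' : Function.Bijective φ' := Function.bijective_iff_existsUnique φ' |>.2 hb'
  have hcardC : p * p * Nat.card C = n := by
    rw [← hEn, ← Nat.card_eq_of_bijective φ hφ, Nat.card_prod, Nat.card_prod, Nat.card_zmod, mul_assoc]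
  have hcardD : p * p * Nat.card D = n := by
    rw [← hFn, ← Nat.card_eq_of_bijective φ' hφ', Nat.card_prod, Nat.card_prod, Nat.card_zmod, mul_assoc]
  have hlt : Nat.card C < n := by
    have h4 : 4 ≤ p * p := Nat.mul_le_mul hp.out.two_le hp.out.two_le
    nlinarith [Nat.card_pos (α := C)]
  obtain ⟨e⟩ := ih _ hlt hCH hDH rfl (Nat.eq_of_mul_eq_mul_left (Nat.mul_pos hp.out.pos hp.out.pos) (hcardD.trans hcardC.symm))
  -- normalise `y'`
  set z : C := ⟨⁅y, x⁆, hzC⟩ with hzdef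
  set z' : D := ⟨⁅y', x'⁆, hzD⟩ with hz'def
  have hzc : z ∈ center C := mem_center_iff.2 fun d => Subtype.ext (mem_center_iff.1 (hCp _ hzC).1 d)
  have hz'c : z' ∈ center D := mem_center_iff.2 fun d => Subtype.ext (mem_center_iff.1 (hDp _ hzD).1 d)
  have hz'1 : z' ≠ 1 := fun h => hyx' (congrArg Subtype.val h)
  have hz'o : orderOf z' = p := orderOf_eq_prime (hDH.2.2 z') hz'1
  obtain ⟨k, hk⟩ : ∃ k : ℕ, z' ^ k = e z := by
    have hgen : zpowers z' = center D := eq_of_le_of_card_ge (zpowers_le.2 hz'c) (by rw [Nat.card_zpowers, hz'o, hDH.1])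
    have hez : e z ∈ center D := mem_center_iff.2 fun d => by
      obtain ⟨c, rfl⟩ := e.surjective d
      rw [← map_mul, ← map_mul, mem_center_iff.1 hzc c]
    obtain ⟨i, hi⟩ := mem_powers_iff_mem_zpowers.2 (hgen.ge hez)
    exact ⟨i, hi⟩
  set w := y' ^ k with hw
  have hwx : ⁅w, x'⁆ = (e z : F) := by
    rw [hw, CfsgLib.PGroup.comm_pow_left (hF.2.1 _ _), ← hk, SubmonoidClass.coe_pow]
  have hwne : ⁅w, x'⁆ ≠ 1 := by
    rw [hwx]
    intro h
    have h1 : e z = 1 := Subtype.ext h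
    rw [MulEquiv.map_eq_one_iff] at h1
    exact hyx (congrArg Subtype.val h1)
  let ψ : ZMod p × ZMod p × C → F := fun t => x' ^ t.1.val * w ^ t.2.1.val * (e t.2.2 : F)
  have hwD : ∀ d ∈ D, w * d = d * w := fun d hd => (Commute.pow_left (hDp d hd).2.2 k).eq
  have hψ : Function.Bijective ψ := by
    have hF' : Finite F := inferInstance
    refine (Nat.bijective_iff_injective_and_card _).2 ⟨?_, by
      rw [Nat.card_prod, Nat.card_prod, Nat.card_zmod, ← mul_assoc, hcardC, hFn]⟩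
    rintro ⟨a, b, c⟩ ⟨a₂, b₂, c₂⟩ h
    have hkp : ¬ p ∣ k := fun hd => hwne (by
      obtain ⟨l, rfl⟩ := hd
      rw [hw, pow_mul, hF.2.2, one_pow, commutatorElement_one_left])
    have hcast : ∀ m : ℕ, y' ^ m = y' ^ ((m : ZMod p)).val := fun m => by
      rw [ZMod.val_natCast, pow_mod_p (hF.2.2 y')]
    have h' : φ' (a, ((k * b.val : ℕ) : ZMod p), e c) = φ' (a₂, ((k * b₂.val : ℕ) : ZMod p), e c₂) := by
      simp only [φ', ← hcast, pow_mul]
      exact h
    have h2 := hφ'.1 h'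
    simp only [Prod.mk.injEq] at h2
    obtain ⟨ha, hbb, hcc⟩ := h2
    push_cast at hbb
    rw [ZMod.natCast_zmod_val, ZMod.natCast_zmod_val] at hbb
    have hk0 : (k : ZMod p) ≠ 0 := fun h0 => hkp ((ZMod.natCast_eq_zero_iff _ _).1 h0)
    exact Prod.ext ha (Prod.ext (mul_left_cancel₀ hk0 hbb) (e.injective hcc))
  have heqv : ∀ s t : ZMod p × ZMod p × C, ∃ r, φ s * φ t = φ r ∧ ψ s * ψ t = ψ r := by
    rintro ⟨a, b, c⟩ ⟨a', b', c'⟩
    refine ⟨(a + a', b + b', z ^ (b.val * a'.val) * (c * c')), ?_, ?_⟩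
    · exact mul_coords x y (z : E) c c' hE.2.2 rfl (hCp _ hzC).1 (hCp _ c.2).2.1 (hCp _ c.2).2.2 a b a' b'
    · have hzF : (e z : F) ∈ center F := hwx ▸ hF.2.1 w x'
      have h1 := mul_coords x' w (e z : F) (e c) (e c') hF.2.2 hwx hzF (hDp _ (e c).2).2.1 (hwD _ (e c).2) a b a' b'
      show _ = x' ^ (a + a').val * w ^ (b + b').val * (e (z ^ (b.val * a'.val) * (c * c')) : F)
      rw [map_mul, map_pow, map_mul]
      exact h1
  let f : E → F := fun g => ψ ((Equiv.ofBijective φ hφ).symm g)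
  have hfφ : ∀ t, f (φ t) = ψ t := fun t => by
    show ψ ((Equiv.ofBijective φ hφ).symm ((Equiv.ofBijective φ hφ) t)) = _
    rw [Equiv.symm_apply_apply]
  refine ⟨MulEquiv.ofBijective (MonoidHom.mk' f fun g h => ?_) (hψ.comp (Equiv.ofBijective φ hφ).symm.bijective)⟩
  obtain ⟨s, rfl⟩ := hφ.2 g
  obtain ⟨t, rfl⟩ := hφ.2 h
  obtain ⟨r, h1, h2⟩ := heqv s t
  rw [h1, hfφ, hfφ, hfφ, h2]

/-- For odd p, extraspecial p-groups of exponent p are determined up to isomorphism by their order. -/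
theorem result {E₁ : Type*} {E₂ : Type*} [Group E₁] [Group E₂] [Finite E₁] [Finite E₂] {p : ℕ} [Fact p.Prime] (hp : p ≠ 2) (h₁ : Cfsg.IsExtraspecial p E₁) (h₂ : Cfsg.IsExtraspecial p E₂) (he₁ : Monoid.exponent E₁ = p) (he₂ : Monoid.exponent E₂ = p) (hc : Nat.card E₁ = Nat.card E₂) : Nonempty (E₁ ≃* E₂) := by
  have key : ∀ {E : Type _} [Group E] [Finite E], Cfsg.IsExtraspecial p E → Monoid.exponent E = p → Heis p E :=
    fun {E} _ _ hE he => ⟨hE.2, fun a b => CfsgLib.PGroup.special_comm_mem_center hE.1 a b,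
      fun a => by rw [← he]; exact Monoid.pow_exponent_eq_one a⟩
  exact iso_of_card (key h₁ he₁) (by exact ⟨h₂.2, fun a b => CfsgLib.PGroup.special_comm_mem_center h₂.1 a b,
      fun a => by rw [← he₂]; exact Monoid.pow_exponent_eq_one a⟩) rfl hc.symm

end Cfsg.Agent.S0098
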