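import Cfsg.Statements.S4416
import Cfsg.Agent.Lib.PGroup.Extraspecial

set_option autoImplicit false
open Cfsg

namespace Cfsg.Agent.S4416
open Subgroup
open scoped commutatorElement
universe u v

/-- Centre of order two containing all commutators and squares. -/
def Heis (E : Type*) [Group E] : Prop :=
  Nat.card (center E) = 2 ∧ (∀ a b : E, ⁅a, b⁆ ∈ center E) ∧ ∀ a : E, a ^ 2 ∈ center E

theorem center_cases {E : Type*} [Group E] (h : Heis E) {z : E} (hz : z ∈ center E) (hz1 : z ≠ 1)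
    {w : E} (hw : w ∈ center E) : w = 1 ∨ w = z := by
  classical
  by_contra hcon
  push Not at hcon
  haveI : Finite (center E) := Nat.finite_of_card_ne_zero (by rw [h.1]; norm_num)
  haveI := Fintype.ofFinite (center E)
  have hle : Fintype.card (center E) ≤ 2 := by rw [← Nat.card_eq_fintype_card, h.1]
  have hthree : ({⟨1, one_mem _⟩, ⟨z, hz⟩, ⟨w, hw⟩} : Finset (center E)).card = 3 := by
    rw [Finset.card_eq_three]
    exact ⟨_, _, _, fun e => hz1 (congrArg Subtype.val e).symm, fun e => hcon.1 (congrArg Subtype.val e).symm,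
      fun e => hcon.2 (congrArg Subtype.val e).symm, rfl⟩
  have := Finset.card_le_univ ({⟨1, one_mem _⟩, ⟨z, hz⟩, ⟨w, hw⟩} : Finset (center E))
  omega

theorem zpow_two {E : Type*} [Group E] (h : Heis E) {z : E} (hz : z ∈ center E) : z * z = 1 := by
  have h1 : (⟨z, hz⟩ : center E) ^ Nat.card (center E) = 1 := pow_card_eq_one'
  rw [h.1, pow_two] at h1
  exact congrArg Subtype.val h1

/-- Coordinates attached to a noncommuting pair. -/
theorem exists_coords {E : Type u} [Group E] [Finite E] (h : Heis E) {x y : E} (hxy : ⁅y, x⁆ ≠ 1) :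
    ∃ C : Subgroup E, Heis C ∧ center E ≤ C ∧ (∀ c ∈ C, x * c = c * x ∧ y * c = c * y) ∧
      (∀ g : E, ∃! t : ZMod 2 × ZMod 2 × C, x ^ t.1.val * y ^ t.2.1.val * (t.2.2 : E) = g) := by
  obtain ⟨hZ, hc, hs⟩ := id h
  set z := ⁅y, x⁆ with hz
  have hzc : z ∈ center E := hc y x
  have hzz : z * z = 1 := zpow_two h hzc
  have hzinv : z⁻¹ = z := inv_eq_of_mul_eq_one_right hzz
  set C := centralizer ({x, y} : Set E) with hC
  have hmemC : ∀ {c : E}, c ∈ C ↔ x * c = c * x ∧ y * c = c * y := fun {c} => by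
    simp [hC, mem_centralizer_iff]
  have hyc : ∀ (a b : ℕ) (c : E), c ∈ C → ⁅y, x ^ a * y ^ b * c⁆ = z ^ a := by
    intro a b c hcC
    rw [CfsgLib.PGroup.comm_mul_right (hc _ _), CfsgLib.PGroup.comm_mul_right (hc _ _),
      CfsgLib.PGroup.comm_pow_right (hc _ _), CfsgLib.PGroup.comm_pow_right (hc _ _), commutatorElement_self, one_pow,
      mul_one, commutatorElement_eq_one_iff_mul_comm.2 (hmemC.1 hcC).2, mul_one]
  have hxc : ∀ (a b : ℕ) (c : E), c ∈ C → ⁅x, x ^ a * y ^ b * c⁆ = z ^ b := by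
    intro a b c hcC
    rw [CfsgLib.PGroup.comm_mul_right (hc _ _), CfsgLib.PGroup.comm_mul_right (hc _ _),
      CfsgLib.PGroup.comm_pow_right (hc _ _), CfsgLib.PGroup.comm_pow_right (hc _ _), commutatorElement_self, one_pow,
      one_mul, commutatorElement_eq_one_iff_mul_comm.2 (hmemC.1 hcC).1, mul_one, ← commutatorElement_inv, ← hz, hzinv]
  have hzval : ∀ a : ZMod 2, ∀ i : ℕ, z ^ a.val = z ^ i → a = (i : ZMod 2) := by
    intro a i hi
    have ho : orderOf z = 2 := orderOf_eq_prime (by rw [pow_two, hzz]) hxy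
    have h1 := pow_eq_pow_iff_modEq.1 hi
    rw [ho] at h1
    rw [← ZMod.natCast_zmod_val a, (ZMod.natCast_eq_natCast_iff _ _ _).2 h1]
  have hbij : ∀ g : E, ∃! t : ZMod 2 × ZMod 2 × C, x ^ t.1.val * y ^ t.2.1.val * (t.2.2 : E) = g := by
    intro g
    have hgen : ∀ w ∈ center E, ∃ a : ZMod 2, z ^ a.val = w := fun w hw => by
      rcases center_cases h hzc hxy hw with rfl | rfl
      · exact ⟨0, by simp⟩
      · exact ⟨1, by rw [ZMod.val_one, pow_one]⟩
    obtain ⟨a, ha⟩ := hgen _ (hc y g)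
    obtain ⟨b, hb⟩ := hgen _ (hc x g)
    have hk : (x ^ a.val * y ^ b.val)⁻¹ * g ∈ C := by
      have e1 := hyc a.val b.val 1 C.one_mem
      have e2 := hxc a.val b.val 1 C.one_mem
      rw [mul_one] at e1 e2
      have e3 : ∀ w : E, ⁅w, x ^ a.val * y ^ b.val⁆ = ⁅w, g⁆ →
          w * ((x ^ a.val * y ^ b.val)⁻¹ * g) = ((x ^ a.val * y ^ b.val)⁻¹ * g) * w := by
        intro w hw
        refine commutatorElement_eq_one_iff_mul_comm.1 ?_
        have h1 : ⁅w, x ^ a.val * y ^ b.val * ((x ^ a.val * y ^ b.val)⁻¹ * g)⁆ = ⁅w, g⁆ := by rw [mul_inv_cancel_left]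
        rwa [CfsgLib.PGroup.comm_mul_right (hc _ _), hw, mul_eq_left] at h1
      exact hmemC.2 ⟨e3 x (by rw [e2, hb]), e3 y (by rw [e1, ha])⟩
    refine ⟨(a, b, ⟨_, hk⟩), mul_inv_cancel_left _ g, ?_⟩
    rintro ⟨a', b', c'⟩ hg
    have e1 := hyc a'.val b'.val c' c'.2
    have e2 := hxc a'.val b'.val c' c'.2
    rw [hg, ← ha] at e1
    rw [hg, ← hb] at e2
    have ha' : a' = a := (hzval a' a.val e1.symm).trans (ZMod.natCast_zmod_val a)
    have hb' : b' = b := (hzval b' b.val e2.symm).trans (ZMod.natCast_zmod_val b)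
    subst ha' hb'
    have : (c' : E) = (x ^ a'.val * y ^ b'.val)⁻¹ * g := by rw [← hg]; exact (inv_mul_cancel_left _ _).symm
    exact Prod.ext rfl (Prod.ext rfl (Subtype.ext this))
  have hCle : ∀ c : C, c ∈ center C → (c : E) ∈ center E := by
    intro c hcc
    refine mem_center_iff.2 fun g => ?_
    obtain ⟨⟨a, b, d⟩, hg, -⟩ := hbij g
    rw [← hg]
    have h1 : Commute (x ^ a.val) (c : E) := Commute.pow_left (hmemC.1 c.2).1 _
    have h2 : Commute (y ^ b.val) (c : E) := Commute.pow_left (hmemC.1 c.2).2 _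
    have h3 : Commute (d : E) (c : E) := congrArg Subtype.val (mem_center_iff.1 hcc d)
    exact ((h1.mul_left h2).mul_left h3).eq
  refine ⟨C, ⟨?_, fun a b => ?_, fun a => ?_⟩, center_le_centralizer _, fun c hcC => hmemC.1 hcC, hbij⟩
  · have heq : (center C).map C.subtype = center E := by
      refine le_antisymm ?_ fun w hw => ?_
      · rintro _ ⟨c, hcc, rfl⟩
        exact hCle c hcc
      · exact ⟨⟨w, center_le_centralizer _ hw⟩, mem_center_iff.2 fun d => Subtype.ext (mem_center_iff.1 hw d), rfl⟩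
    rw [← card_map_of_injective C.subtype_injective, heq, hZ]
  · exact mem_center_iff.2 fun d => Subtype.ext (mem_center_iff.1 (hc a b) d)
  · exact mem_center_iff.2 fun d => Subtype.ext (mem_center_iff.1 (hs a) d)

theorem mul_coords {G : Type*} [Group G] (u v zz c c' : G) (hu2 : u ^ 2 ∈ center G) (hv2 : v ^ 2 ∈ center G)
    (hvu : ⁅v, u⁆ = zz) (hzz : zz ∈ center G) (hu : u * c = c * u) (hv : v * c = c * v) (a b a' b' : ZMod 2) :
    u ^ a.val * v ^ b.val * c * (u ^ a'.val * v ^ b'.val * c') =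
      u ^ (a + a').val * v ^ (b + b').val *
        (zz ^ (b.val * a'.val) * ((u ^ 2) ^ ((a.val + a'.val) / 2) * (v ^ 2) ^ ((b.val + b'.val) / 2)) * (c * c')) := by
  have hcom : ⁅v ^ b.val, u ^ a'.val⁆ = zz ^ (b.val * a'.val) := by
    have h1 : ⁅v, u⁆ ∈ center G := hvu ▸ hzz
    have h2 : ⁅v, u ^ a'.val⁆ = zz ^ a'.val := by rw [CfsgLib.PGroup.comm_pow_right h1, hvu]
    rw [CfsgLib.PGroup.comm_pow_left (h2 ▸ pow_mem hzz _), h2, ← pow_mul, mul_comm]
  set Z := zz ^ (b.val * a'.val)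
  have hZ : ∀ g : G, g * Z = Z * g := fun g => mem_center_iff.1 (pow_mem hzz _) g
  have h3 : v ^ b.val * u ^ a'.val = u ^ a'.val * v ^ b.val * Z := by
    rw [hZ, ← hcom, commutatorElement_def]; group
  have c1 : Commute (u ^ a'.val * v ^ b'.val) c := ((Commute.pow_left hu _).mul_left (Commute.pow_left hv _))
  have hsplit : ∀ (w : G) (s t : ZMod 2), w ^ (s.val + t.val) = w ^ (s + t).val * (w ^ 2) ^ ((s.val + t.val) / 2) :=
    fun w s t => by rw [ZMod.val_add, ← pow_mul, ← pow_add, Nat.mod_add_div]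
  have hU : ∀ g : G, g * (u ^ 2) ^ ((a.val + a'.val) / 2) = (u ^ 2) ^ ((a.val + a'.val) / 2) * g :=
    fun g => mem_center_iff.1 (pow_mem hu2 _) g
  calc u ^ a.val * v ^ b.val * c * (u ^ a'.val * v ^ b'.val * c')
      = u ^ a.val * v ^ b.val * (c * (u ^ a'.val * v ^ b'.val)) * c' := by simp only [mul_assoc]
    _ = u ^ a.val * (v ^ b.val * u ^ a'.val) * v ^ b'.val * (c * c') := by rw [← c1.eq]; simp only [mul_assoc]
    _ = u ^ a.val * u ^ a'.val * (v ^ b.val * (Z * v ^ b'.val)) * (c * c') := by rw [h3]; simp only [mul_assoc]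
    _ = u ^ (a.val + a'.val) * v ^ (b.val + b'.val) * (Z * (c * c')) := by
        rw [← hZ, pow_add, pow_add]; simp only [mul_assoc]
    _ = _ := by
        rw [hsplit u, hsplit v]
        have hV : ∀ g : G, g * (v ^ 2) ^ ((b.val + b'.val) / 2) = (v ^ 2) ^ ((b.val + b'.val) / 2) * g :=
          fun g => mem_center_iff.1 (pow_mem hv2 _) g
        set U := (u ^ 2) ^ ((a.val + a'.val) / 2)
        set V := (v ^ 2) ^ ((b.val + b'.val) / 2)
        set A := u ^ (a + a').val
        set B := v ^ (b + b').val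
        calc A * U * (B * V) * (Z * (c * c')) = A * (U * B) * V * (Z * (c * c')) := by simp only [mul_assoc]
          _ = A * (B * U) * V * (Z * (c * c')) := by rw [hU B]
          _ = A * B * (U * V * Z * (c * c')) := by simp only [mul_assoc]
          _ = A * B * (Z * (U * V) * (c * c')) := by rw [← hZ (U * V)]

/-- Number of elements squaring to one. -/
noncomputable def sq1 (E : Type*) [Group E] : ℕ := Nat.card {x : E // x ^ 2 = 1}

open Classical in
/-- The sign of the square. -/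
noncomputable def sgn {E : Type*} [Group E] (g : E) : ℤ := if g ^ 2 = 1 then 1 else -1

theorem sum_sgn (E : Type*) [Group E] [Fintype E] : ∑ g : E, sgn g = 2 * (sq1 E : ℤ) - Nat.card E := by
  classical
  rw [sq1, Nat.card_eq_fintype_card, Fintype.card_subtype, Nat.card_eq_fintype_card]
  simp only [sgn]
  rw [Finset.sum_ite, Finset.sum_const, Finset.sum_const, ← Finset.card_univ (α := E),
    ← Finset.card_filter_add_card_filter_not (s := (Finset.univ : Finset E)) (fun x : E => x ^ 2 = 1)]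
  simp; ring

theorem sgn_mul {E : Type*} [Group E] (h : Heis E) {g c : E} (hc : Commute g c) :
    sgn (g * c) = sgn g * sgn c := by
  classical
  have e : (g * c) ^ 2 = g ^ 2 * c ^ 2 := hc.mul_pow 2
  unfold sgn
  by_cases h1 : g ^ 2 = 1
  · by_cases h2 : c ^ 2 = 1 <;> simp [e, h1, h2]
  · by_cases h2 : c ^ 2 = 1
    · simp [e, h1, h2]
    · have h3 : c ^ 2 = g ^ 2 := (center_cases h (h.2.2 g) h1 (h.2.2 c)).resolve_left h2
      have h4 : (g * c) ^ 2 = 1 := by rw [e, h3, zpow_two h (h.2.2 g)]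
      simp [h4, h1, h2]

theorem sq_mul {E : Type*} [Group E] (h : Heis E) (a b : E) : (a * b) ^ 2 = a ^ 2 * b ^ 2 * ⁅b, a⁆ := by
  have hz := mem_center_iff.1 (h.2.1 b a)
  have e : b * a = ⁅b, a⁆ * (a * b) := by rw [commutatorElement_def]; group
  calc (a * b) ^ 2 = a * (b * a) * b := by rw [pow_two]; simp only [mul_assoc]
    _ = a * (a * b) * ⁅b, a⁆ * b := by rw [e, ← hz (a * b)]; simp only [mul_assoc]
    _ = a ^ 2 * b ^ 2 * ⁅b, a⁆ := by rw [pow_two, pow_two, mul_assoc _ ⁅b, a⁆ b, ← hz b]; simp only [mul_assoc]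

theorem card_comm {E : Type*} [Group E] (h : Heis E) (hc : ∀ a b : E, ⁅a, b⁆ = 1) : Nat.card E = 2 := by
  rw [← h.1, ← card_top (G := E), show center E = ⊤ from eq_top_iff.2 fun a _ => mem_center_iff.2 fun b =>
      commutatorElement_eq_one_iff_mul_comm.1 (hc b a)]

open Classical in
theorem pair_sum {E : Type*} [Group E] (h : Heis E) {x y : E} (hxy : ⁅y, x⁆ ≠ 1) :
    ∑ a : ZMod 2, ∑ b : ZMod 2, sgn (x ^ a.val * y ^ b.val) =
      if x ^ 2 = 1 ∨ y ^ 2 = 1 ∨ (x * y) ^ 2 = 1 then 2 else -2 := by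
  classical
  have hu : (Finset.univ : Finset (ZMod 2)) = {0, 1} := by decide
  simp only [hu, Finset.sum_insert (by decide : (0 : ZMod 2) ∉ ({1} : Finset (ZMod 2))), Finset.sum_singleton,
    ZMod.val_zero, ZMod.val_one, pow_zero, pow_one, one_mul, mul_one]
  have h1 : sgn (1 : E) = 1 := by simp [sgn]
  have h3 : (x * y) ^ 2 = x ^ 2 * y ^ 2 * ⁅y, x⁆ := sq_mul h x y
  have hzz : ⁅y, x⁆ * ⁅y, x⁆ = 1 := zpow_two h (h.2.1 y x)
  rw [h1]
  simp only [sgn]
  rcases center_cases h (h.2.1 y x) hxy (h.2.2 x) with hx | hx <;>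
    rcases center_cases h (h.2.1 y x) hxy (h.2.2 y) with hy | hy <;>
    simp [hx, hy, h3, hxy, hzz]

theorem sum_sgn_coords {E : Type*} [Group E] [Fintype E] (h : Heis E) {x y : E} (C : Subgroup E) [Fintype C]
    (hcomm : ∀ c ∈ C, x * c = c * x ∧ y * c = c * y)
    (hb : ∀ g : E, ∃! t : ZMod 2 × ZMod 2 × C, x ^ t.1.val * y ^ t.2.1.val * (t.2.2 : E) = g) :
    ∑ g : E, sgn g = (∑ a : ZMod 2, ∑ b : ZMod 2, sgn (x ^ a.val * y ^ b.val)) * ∑ c : C, sgn c := by
  classical
  rw [← Equiv.sum_comp (Equiv.ofBijective _ ((Function.bijective_iff_existsUnique _).2 hb))]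
  simp only [Equiv.ofBijective_apply, Fintype.sum_prod_type]
  rw [Finset.sum_mul]
  refine Finset.sum_congr rfl fun a _ => ?_
  rw [Finset.sum_mul]
  refine Finset.sum_congr rfl fun b _ => ?_
  rw [Finset.mul_sum]
  refine Finset.sum_congr rfl fun c _ => ?_
  rw [sgn_mul h ((Commute.pow_left (hcomm c c.2).1 _).mul_left (Commute.pow_left (hcomm c c.2).2 _))]
  congr 1
  unfold sgn
  by_cases hc : (c : E) ^ 2 = 1
  · rw [if_pos hc, if_pos (Subtype.ext (by simpa using hc))]
  · rw [if_neg hc, if_neg (fun e => hc (by simpa using congrArg Subtype.val e))]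

theorem card_coords {E : Type*} [Group E] {x y : E} (C : Subgroup E)
    (hb : ∀ g : E, ∃! t : ZMod 2 × ZMod 2 × C, x ^ t.1.val * y ^ t.2.1.val * (t.2.2 : E) = g) :
    Nat.card E = 4 * Nat.card C := by
  rw [← Nat.card_eq_of_bijective _ ((Function.bijective_iff_existsUnique _).2 hb), Nat.card_prod, Nat.card_prod,
    Nat.card_zmod]
  ring

theorem shape : ∀ {n : ℕ} {E : Type u} [Group E] [Finite E], Heis E → Nat.card E = n →
    ∃ m : ℕ, n = 2 ^ (2 * m + 1) ∧ (sq1 E = 2 ^ (2 * m) + 2 ^ m ∨ sq1 E = 2 ^ (2 * m) - 2 ^ m) := by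
  classical
  intro n
  induction n using Nat.strong_induction_on with
  | _ n ih =>
  intro E _ _ h hn
  haveI := Fintype.ofFinite E
  by_cases hc : ∀ a b : E, ⁅a, b⁆ = 1
  · refine ⟨0, by rw [← hn, card_comm h hc]; norm_num, Or.inl ?_⟩
    have hall : ∀ g : E, g ^ 2 = 1 := fun g => by
      rw [← card_comm h hc]; exact pow_card_eq_one'
    rw [sq1, Nat.card_congr (Equiv.subtypeUnivEquiv hall), card_comm h hc]; norm_num
  push Not at hc
  obtain ⟨y, x, hxy⟩ := hc
  obtain ⟨C, hC, -, hcm, hb⟩ := exists_coords h hxy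
  haveI := Fintype.ofFinite C
  have hcard := card_coords C hb
  obtain ⟨m, hm, hs⟩ := ih (Nat.card C) (by
    have := Nat.card_pos (α := C); omega) hC rfl
  refine ⟨m + 1, by rw [← hn, hcard, hm]; ring, ?_⟩
  have e := sum_sgn_coords h C hcm hb
  rw [pair_sum h hxy, sum_sgn, sum_sgn, hcard, hm] at e
  have p1 : 2 ^ (2 * (m + 1)) = 4 * 2 ^ (2 * m) := by ring
  have p2 : 2 ^ (m + 1) = 2 * 2 ^ m := by ring
  have p3 : 2 ^ (2 * m + 1) = 2 * 2 ^ (2 * m) := by ring
  have p4 : 2 ^ m ≤ 2 ^ (2 * m) := Nat.pow_le_pow_right (by norm_num) (by omega)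
  rw [p1, p2]
  rw [p3] at e
  generalize 2 ^ (2 * m) = A at *
  generalize 2 ^ m = B at *
  push_cast at e
  rcases hs with hs | hs <;> split_ifs at e <;> omega

theorem pair_inv {E : Type*} [Group E] [Finite E] (h : Heis E) (hE : Nat.card E ≠ 2) (h2 : 2 < sq1 E) :
    ∃ x y : E, ⁅y, x⁆ ≠ 1 ∧ x ^ 2 = 1 ∧ y ^ 2 = 1 := by
  obtain ⟨x, hx2, hxc⟩ : ∃ x : E, x ^ 2 = 1 ∧ x ∉ center E := by
    by_contra! hcon
    have : sq1 E ≤ Nat.card (center E) :=
      Nat.card_le_card_of_injective (fun t : {x : E // x ^ 2 = 1} => (⟨t.1, hcon t.1 t.2⟩ : center E))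
        (fun a b e => Subtype.ext (congrArg Subtype.val e :))
    rw [h.1] at this; omega
  obtain ⟨y, hy⟩ : ∃ y, ⁅y, x⁆ ≠ 1 := by
    by_contra! hcon
    exact hxc (mem_center_iff.2 fun g => commutatorElement_eq_one_iff_mul_comm.1 (hcon g))
  rcases center_cases h (h.2.1 y x) hy (h.2.2 y) with hy2 | hy2
  · exact ⟨x, y, hy, hx2, hy2⟩
  · refine ⟨x, x * y, ?_, hx2, ?_⟩
    · intro e
      rw [commutatorElement_eq_one_iff_mul_comm] at e
      refine hy (commutatorElement_eq_one_iff_mul_comm.2 ?_)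
      apply mul_left_cancel (a := x)
      rw [← mul_assoc, ← mul_assoc]; exact e.trans (mul_assoc x x y).symm
    · rw [sq_mul h, hx2, hy2, one_mul, zpow_two h (h.2.1 y x)]

theorem no_inv {G : Type*} [Group G] [Finite G] (hG : Heis G) (hlt : ¬ 2 < sq1 G) :
    ∀ g : G, g ∉ center G → g ^ 2 ≠ 1 := by
  intro g hg hg2
  refine hlt ?_
  let f : Option (center G) → {x : G // x ^ 2 = 1} := fun o =>
    o.elim ⟨g, hg2⟩ fun w => ⟨w.1, (pow_two _).trans (zpow_two hG w.2)⟩
  have hf : Function.Injective f := by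
    rintro (_ | a) (_ | b) e
    · rfl
    · exact absurd (by rw [show g = b.1 from congrArg Subtype.val e]; exact b.2) hg
    · exact absurd (by rw [← show a.1 = g from congrArg Subtype.val e]; exact a.2) hg
    · exact congrArg some (Subtype.ext (congrArg Subtype.val e :))
  have hle := Nat.card_le_card_of_injective f hf
  haveI := Fintype.ofFinite (center G)
  rw [Nat.card_eq_fintype_card, Fintype.card_option, ← Nat.card_eq_fintype_card, hG.1] at hle
  exact hle

theorem iso_of : ∀ {n : ℕ} {E : Type u} {F : Type v} [Group E] [Group F] [Finite E] [Finite F],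
    Heis E → Heis F → Nat.card E = n → Nat.card F = n → sq1 E = sq1 F → Nonempty (E ≃* F) := by
  classical
  intro n
  induction n using Nat.strong_induction_on with
  | _ n ih =>
  intro E F _ _ _ _ hE hF hEn hFn hsq
  haveI : Fact (Nat.Prime 2) := ⟨Nat.prime_two⟩
  by_cases hn2 : n = 2
  · exact ⟨mulEquivOfPrimeCardEq (p := 2) (hEn.trans hn2) (hFn.trans hn2)⟩
  haveI := Fintype.ofFinite E
  haveI := Fintype.ofFinite F
  obtain ⟨x, y, x', y', hxy, hxy', e1, e2⟩ : ∃ (x y : E) (x' y' : F), ⁅y, x⁆ ≠ 1 ∧ ⁅y', x'⁆ ≠ 1 ∧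
      (x ^ 2 = 1 ↔ x' ^ 2 = 1) ∧ (y ^ 2 = 1 ↔ y' ^ 2 = 1) := by
    by_cases h2 : 2 < sq1 E
    · obtain ⟨x, y, a, b, c⟩ := pair_inv hE (hEn ▸ hn2) h2
      obtain ⟨x', y', a', b', c'⟩ := pair_inv hF (hFn ▸ hn2) (hsq ▸ h2)
      exact ⟨x, y, x', y', a, a', iff_of_true b b', iff_of_true c c'⟩
    · obtain ⟨y, x, hxy⟩ : ∃ y x : E, ⁅y, x⁆ ≠ 1 := by
        by_contra! hc; exact hn2 (hEn ▸ card_comm hE hc)
      obtain ⟨y', x', hxy'⟩ : ∃ y x : F, ⁅y, x⁆ ≠ 1 := by
        by_contra! hc; exact hn2 (hFn ▸ card_comm hF hc)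
      refine ⟨x, y, x', y', hxy, hxy', iff_of_false (no_inv hE h2 x ?_) (no_inv hF (hsq ▸ h2) x' ?_),
        iff_of_false (no_inv hE h2 y ?_) (no_inv hF (hsq ▸ h2) y' ?_)⟩
      · exact fun hm => hxy (commutatorElement_eq_one_iff_mul_comm.2 (mem_center_iff.1 hm y))
      · exact fun hm => hxy' (commutatorElement_eq_one_iff_mul_comm.2 (mem_center_iff.1 hm y'))
      · exact fun hm => hxy (commutatorElement_eq_one_iff_mul_comm.2 (mem_center_iff.1 hm x).symm)
      · exact fun hm => hxy' (commutatorElement_eq_one_iff_mul_comm.2 (mem_center_iff.1 hm x').symm)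
  obtain ⟨C, hCH, hZC, hCp, hb⟩ := exists_coords hE hxy
  obtain ⟨D, hDH, hZD, hDp, hb'⟩ := exists_coords hF hxy'
  haveI := Fintype.ofFinite C
  haveI := Fintype.ofFinite D
  have hcC := card_coords C hb
  have hcD := card_coords D hb'
  set z := ⁅y, x⁆ with hz
  set z' := ⁅y', x'⁆ with hz'
  have hzc : z ∈ center E := hE.2.1 y x
  have hzc' : z' ∈ center F := hF.2.1 y' x'
  have hpat : (x * y) ^ 2 = 1 ↔ (x' * y') ^ 2 = 1 := by
    rw [sq_mul hE, sq_mul hF, ← hz, ← hz']
    rcases center_cases hE hzc hxy (hE.2.2 x) with hx | hx <;>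
      rcases center_cases hE hzc hxy (hE.2.2 y) with hy | hy <;>
      rcases center_cases hF hzc' hxy' (hF.2.2 x') with hx' | hx' <;>
      rcases center_cases hF hzc' hxy' (hF.2.2 y') with hy' | hy' <;>
      simp [hx, hy, hx', hy', hxy, hxy', ← hz, ← hz', zpow_two hE hzc, zpow_two hF hzc'] at e1 e2 ⊢
  have hsC : sq1 C = sq1 D := by
    have a := sum_sgn_coords hE C hCp hb
    have b := sum_sgn_coords hF D hDp hb'
    rw [pair_sum hE hxy, sum_sgn, sum_sgn] at a
    rw [pair_sum hF hxy', sum_sgn, sum_sgn, ← hsq] at b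
    simp only [e1, e2, hpat] at a
    split_ifs at a b <;> omega
  have hlt : Nat.card C < n := by have := Nat.card_pos (α := C); omega
  obtain ⟨e⟩ := ih _ hlt hCH hDH rfl (by omega) hsC
  let zC : C := ⟨z, hZC hzc⟩
  let zD : D := ⟨z', hZD hzc'⟩
  have hzCc : zC ∈ center C := mem_center_iff.2 fun d => Subtype.ext (mem_center_iff.1 hzc d)
  have hzDc : zD ∈ center D := mem_center_iff.2 fun d => Subtype.ext (mem_center_iff.1 hzc' d)
  have hzD1 : zD ≠ 1 := fun h => hxy' (congrArg Subtype.val h)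
  have hez : (e zC : F) = z' := by
    have hm : e zC ∈ center D := mem_center_iff.2 fun d => by
      obtain ⟨c, rfl⟩ := e.surjective d
      rw [← map_mul, ← map_mul, mem_center_iff.1 hzCc c]
    rcases center_cases hDH hzDc hzD1 hm with h | h
    · exact absurd (congrArg Subtype.val (e.injective (h.trans (map_one e).symm))) hxy
    · exact congrArg Subtype.val h
  have heq : ∀ w : E, ∀ w' : F, ∀ hw : w ∈ center E, w' ∈ center F → (w = 1 ↔ w' = 1) →
      (e ⟨w, hZC hw⟩ : F) = w' := by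
    intro w w' hw hw' hiff
    rcases center_cases hE hzc hxy hw with rfl | rfl
    · rw [hiff.1 rfl]; exact congrArg Subtype.val (map_one e)
    · exact hez.trans ((center_cases hF hzc' hxy' hw').resolve_left fun h => hxy (hiff.2 h)).symm
  let φ : ZMod 2 × ZMod 2 × C → E := fun t => x ^ t.1.val * y ^ t.2.1.val * (t.2.2 : E)
  have hφ : Function.Bijective φ := (Function.bijective_iff_existsUnique φ).2 hb
  let ψ : ZMod 2 × ZMod 2 × C → F := fun t => x' ^ t.1.val * y' ^ t.2.1.val * (e t.2.2 : F)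
  have hψ : Function.Bijective ψ :=
    ((Function.bijective_iff_existsUnique _).2 hb').comp
      (Function.bijective_id.prodMap (Function.bijective_id.prodMap e.bijective))
  have heqv : ∀ s t, ∃ r, φ s * φ t = φ r ∧ ψ s * ψ t = ψ r := by
    rintro ⟨a, b, c⟩ ⟨a', b', c'⟩
    let xC : C := ⟨x ^ 2, hZC (hE.2.2 x)⟩
    let yC : C := ⟨y ^ 2, hZC (hE.2.2 y)⟩
    refine ⟨(a + a', b + b', zC ^ (b.val * a'.val) * (xC ^ ((a.val + a'.val) / 2) * yC ^ ((b.val + b'.val) / 2)) * (c * c')),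
      ?_, ?_⟩
    · exact mul_coords x y z c c' (hE.2.2 x) (hE.2.2 y) rfl hzc (hCp _ c.2).1 (hCp _ c.2).2 a b a' b'
    · have h1 := mul_coords x' y' z' (e c) (e c') (hF.2.2 x') (hF.2.2 y') rfl hzc' (hDp _ (e c).2).1 (hDp _ (e c).2).2 a b a' b'
      refine h1.trans ?_
      simp only [ψ, map_mul, map_pow, Subgroup.coe_mul, SubmonoidClass.coe_pow, hez]
      rw [heq _ _ (hE.2.2 x) (hF.2.2 x') e1, heq _ _ (hE.2.2 y) (hF.2.2 y') e2]
  let f : E → F := fun g => ψ ((Equiv.ofBijective φ hφ).symm g)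
  have hfφ : ∀ t, f (φ t) = ψ t := fun t => by
    show ψ ((Equiv.ofBijective φ hφ).symm ((Equiv.ofBijective φ hφ) t)) = _
    rw [Equiv.symm_apply_apply]
  refine ⟨MulEquiv.ofBijective (MonoidHom.mk' f fun g h => ?_) (hψ.comp (Equiv.ofBijective φ hφ).symm.bijective)⟩
  obtain ⟨s, rfl⟩ := hφ.2 g
  obtain ⟨t, rfl⟩ := hφ.2 h
  obtain ⟨r, h1, h2⟩ := heqv s t
  rw [h1, hfφ, hfφ, hfφ, h2]

theorem heis_of {E : Type*} [Group E] [Finite E] (hE : Cfsg.IsExtraspecial 2 E) : Heis E :=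
  ⟨hE.2, fun a b => CfsgLib.PGroup.special_comm_mem_center hE.1 a b,
    fun a => CfsgLib.PGroup.special_pow_mem_center hE.1 a⟩

/-- Classification of extraspecial 2-groups in intrinsic form. An extraspecial 2-group has order 2^(2m+1) for some m ≥ 1, and the number of its elements squaring to the identity is either 2^(2m) + 2^m or 2^(2m) − 2^m; two extraspecial 2-groups of the same order with the same number of such elements are isomorphic. (The two cases are the central products of m dihedral groups of order 8, and of m − 1 dihedral groups with one quaternion group.) -/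
theorem result (E : Type*) [Group E] [Finite E] (hE : Cfsg.IsExtraspecial 2 E) :
    (∃ m : ℕ, 1 ≤ m ∧ Nat.card E = 2 ^ (2 * m + 1) ∧
      (Nat.card {x : E // x ^ 2 = 1} = 2 ^ (2 * m) + 2 ^ m ∨ Nat.card {x : E // x ^ 2 = 1} = 2 ^ (2 * m) - 2 ^ m)) ∧
    ∀ (E' : Type*) [Group E'] [Finite E'], Cfsg.IsExtraspecial 2 E' → Nat.card E' = Nat.card E →
      Nat.card {x : E' // x ^ 2 = 1} = Nat.card {x : E // x ^ 2 = 1} → Nonempty (E ≃* E') := by
  refine ⟨?_, fun E' _ _ hE' hc hn => iso_of (heis_of hE) (heis_of hE') rfl hc hn.symm⟩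
  obtain ⟨m, hm, hs⟩ := shape (heis_of hE) rfl
  refine ⟨m, ?_, hm, hs⟩
  rcases Nat.eq_zero_or_pos m with rfl | h
  · exfalso
    haveI : Fact (Nat.Prime 2) := ⟨Nat.prime_two⟩
    haveI : IsCyclic E := isCyclic_of_prime_card (p := 2) (by rw [hm]; norm_num)
    exact CfsgLib.PGroup.extraspecial_not_comm hE inferInstance
  · exact h

end Cfsg.Agent.S4416
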