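import Cfsg.Statements.S0099
import Cfsg.Agent.S4416

set_option autoImplicit false
open Cfsg
open scoped commutatorElement

namespace Cfsg.Agent.S0099

/-- Among three extraspecial 2-groups of equal order, some two are isomorphic. -/
theorem result {E₁ : Type*} {E₂ : Type*} {E₃ : Type*} [Group E₁] [Group E₂] [Group E₃] [Finite E₁] [Finite E₂] [Finite E₃] (h₁ : Cfsg.IsExtraspecial 2 E₁) (h₂ : Cfsg.IsExtraspecial 2 E₂) (h₃ : Cfsg.IsExtraspecial 2 E₃) (h12 : Nat.card E₁ = Nat.card E₂) (h23 : Nat.card E₂ = Nat.card E₃) : Nonempty (E₁ ≃* E₂) ∨ Nonempty (E₂ ≃* E₃) ∨ Nonempty (E₁ ≃* E₃) := by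
  obtain ⟨m, -, hm, hc1⟩ := (Cfsg.Agent.S4416.result.{_, 0} E₁ h₁).1
  obtain ⟨m₂, -, hm₂, hc2⟩ := (Cfsg.Agent.S4416.result.{_, 0} E₂ h₂).1
  obtain ⟨m₃, -, hm₃, hc3⟩ := (Cfsg.Agent.S4416.result.{_, 0} E₃ h₃).1
  have e2 : 2 * m + 1 = 2 * m₂ + 1 :=
    Nat.pow_right_injective le_rfl (hm.symm.trans (h12.trans hm₂))
  have e3 : 2 * m₂ + 1 = 2 * m₃ + 1 :=
    Nat.pow_right_injective le_rfl (hm₂.symm.trans (h23.trans hm₃))
  obtain rfl : m = m₂ := by omega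
  obtain rfl : m = m₃ := by omega
  rcases hc1 with a | a <;> rcases hc2 with b | b <;> rcases hc3 with c | c <;>
  first
    | exact Or.inl ((Cfsg.Agent.S4416.result E₁ h₁).2 E₂ h₂ h12.symm (b.trans a.symm))
    | exact Or.inr (Or.inl ((Cfsg.Agent.S4416.result E₂ h₂).2 E₃ h₃ h23.symm (c.trans b.symm)))
    | exact Or.inr (Or.inr ((Cfsg.Agent.S4416.result E₁ h₁).2 E₃ h₃ (h12.trans h23).symm (c.trans a.symm)))

end Cfsg.Agent.S0099
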