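import Cfsg.Statements.S0101
import Cfsg.Agent.Lib.Transfer.Abelian
import Cfsg.Agent.Lib.PGroup.Basic

set_option autoImplicit false
open Cfsg

namespace Cfsg.Agent.S0101

/-- In a perfect central extension, the kernel meets each Sylow p-subgroup P inside the Frattini subgroup of P. -/
theorem result {H : Type*} {G : Type*} [Group H] [Group G] [Finite H] (σ : H →* G) (hσ : Function.Surjective σ) (hc : σ.ker ≤ Subgroup.center H) (hH : commutator H = ⊤) {p : ℕ} [Fact p.Prime] (P : Sylow p H) : σ.ker ⊓ (P : Subgroup H) ≤ (frattini P).map (P : Subgroup H).subtype := by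
  rintro z ⟨hzk, hzP⟩
  refine ⟨⟨z, hzP⟩, ?_, rfl⟩
  show (⟨z, hzP⟩ : (P : Subgroup H)) ∈ frattini (P : Subgroup H)
  refine Subgroup.mem_iInf.2 fun M => Subgroup.mem_iInf.2 fun hM => ?_
  have hMn : M.Normal := CfsgLib.PGroup.normal_of_isCoatom P.2 hM
  have : IsMulCommutative ((P : Subgroup H) ⧸ M) :=
    Subgroup.Normal.quotient_commutative_iff_commutator_le.2
      (CfsgLib.PGroup.commutator_le_of_isCoatom P.2 hM)
  open scoped IsMulCommutative in
  have h1 := CfsgLib.Transfer.map_pow_index_eq_one (P : Subgroup H) (QuotientGroup.mk' M) hzP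
    (hc hzk) (hH ▸ Subgroup.mem_top z)
  have h2 := ((P.2.to_quotient M).powEquiv' P.not_dvd_index).injective
    (show (((⟨z, hzP⟩ : (P : Subgroup H)) : (P : Subgroup H) ⧸ M)) ^ (P : Subgroup H).index = 1 ^ (P : Subgroup H).index by
      rw [one_pow]; exact h1)
  exact (QuotientGroup.eq_one_iff _).1 h2

end Cfsg.Agent.S0101
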