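import Cfsg.Statements.S0104
import Cfsg.Agent.Lib.Transfer.Fusion

set_option autoImplicit false
open Cfsg

namespace Cfsg.Agent.S0104

/-- A subgroup Z of a Sylow p-subgroup P that is normalized by N_G(P) is weakly closed in P exactly when it is normal in every Sylow p-subgroup containing it. -/
theorem result {G : Type*} [Group G] [Finite G] {p : ℕ} [Fact p.Prime] (P : Sylow p G) (Z : Subgroup G) (hZP : Z ≤ (P : Subgroup G)) (hZN : Subgroup.normalizer (P : Set G) ≤ Subgroup.normalizer (Z : Set G)) : Cfsg.IsWeaklyClosed Z P ↔ ∀ R : Sylow p G, Z ≤ (R : Subgroup G) → (R : Subgroup G) ≤ Subgroup.normalizer (Z : Set G) := by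
  have hPZ : (P : Subgroup G) ≤ Subgroup.normalizer (Z : Set G) := Subgroup.le_normalizer.trans hZN
  constructor
  · intro hW R hR
    obtain ⟨g, hg⟩ := MulAction.exists_smul_eq G R P
    have hgZ : g ∈ Subgroup.normalizer (Z : Set G) := by
      refine Subgroup.mem_normalizer_iff_map_conj_eq.2 (hW.2 g ?_)
      rintro _ ⟨z, hz, rfl⟩
      rw [← hg, Sylow.coe_subgroup_smul]
      exact Subgroup.smul_mem_pointwise_smul z (MulAut.conj g) _ (hR hz)
    intro r hr
    have h1 : g * r * g⁻¹ ∈ Subgroup.normalizer (Z : Set G) := hPZ (by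
      rw [← hg, Sylow.coe_subgroup_smul]
      exact Subgroup.smul_mem_pointwise_smul r (MulAut.conj g) _ hr)
    have := mul_mem (mul_mem (inv_mem hgZ) h1) hgZ
    simpa [mul_assoc] using this
  · intro h
    refine ⟨hZP, fun g hg => ?_⟩
    have hR : Z ≤ ((g⁻¹ • P : Sylow p G) : Subgroup G) := fun z hz => by
      rw [Sylow.coe_subgroup_smul, Subgroup.mem_pointwise_smul_iff_inv_smul_mem]
      simpa using hg ⟨z, hz, rfl⟩
    have hN := h _ hR
    obtain ⟨n, hn⟩ := MulAction.exists_smul_eq (Subgroup.normalizer (Z : Set G))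
      ((g⁻¹ • P).subtype hN) (P.subtype hPZ)
    simp_rw [Sylow.smul_subtype, Subgroup.smul_def, smul_smul] at hn
    have h1 := hZN (Sylow.smul_eq_iff_mem_normalizer.1 (Sylow.subtype_injective hn))
    have h2 : g⁻¹ ∈ Subgroup.normalizer (Z : Set G) := by
      have := mul_mem (inv_mem n.2) h1
      rwa [inv_mul_cancel_left] at this
    exact Subgroup.mem_normalizer_iff_map_conj_eq.1 (inv_mem_iff.1 h2)

end Cfsg.Agent.S0104
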