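import Cfsg.Statements.S0105
import Cfsg.Agent.Lib.Transfer.Abelian

set_option autoImplicit false
open Cfsg

namespace Cfsg.Agent.S0105

/-- With an abelian Sylow p-subgroup P, some quotient of G is isomorphic to the part of P central in N_G(P). -/
theorem result {G : Type*} [Group G] [Finite G] {p : ℕ} [Fact p.Prime] (P : Sylow p G) (hP : IsMulCommutative P) : ∃ (N : Subgroup G) (hN : N.Normal), Nonempty (G ⧸ N ≃* ((P : Subgroup G) ⊓ Subgroup.centralizer (Subgroup.normalizer (P : Set G) : Set G) : Subgroup G)) := by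
  set N := Subgroup.normalizer (P : Set G) with hN
  let C : Subgroup G := (P : Subgroup G) ⊓ Subgroup.centralizer (N : Set G)
  let φ : C →* G ⧸ Cfsg.pResidual p G :=
    (QuotientGroup.mk' (Cfsg.pResidual p G)).comp C.subtype
  have hres := CfsgLib.Transfer.inf_pResidual_eq_commutator P hP
  let PN : Subgroup N := (P : Subgroup G).subgroupOf N
  have hPle : (P : Subgroup G) ≤ N := Subgroup.le_normalizer
  have : PN.Normal := Subgroup.normal_in_normalizer
  have hPNc : IsMulCommutative PN :=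
    ⟨⟨fun a b => Subtype.ext (Subtype.ext (by
      have e := congrArg Subtype.val (hP.is_comm.comm (⟨_, a.2⟩ : (P : Subgroup G)) ⟨_, b.2⟩)
      exact e))⟩⟩
  have hPNco : (Nat.card PN).Coprime PN.index := (P.subtype hPle).card_coprime_index
  have hmapC : (⁅PN, (⊤ : Subgroup N)⁆).map N.subtype = ⁅(P : Subgroup G), N⁆ := by
    rw [Subgroup.map_commutator, Subgroup.map_subgroupOf_eq_of_le hPle, ← MonoidHom.range_eq_map,
      Subgroup.range_subtype]
  have hinj : Function.Injective φ := by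
    rw [← MonoidHom.ker_eq_bot_iff, eq_bot_iff]
    rintro ⟨x, hxP, hxC⟩ hx
    have hx1 : x ∈ ⁅(P : Subgroup G), N⁆ := hres ▸ ⟨hxP, (QuotientGroup.eq_one_iff x).1 hx⟩
    rw [← hmapC] at hx1
    obtain ⟨y, hy, rfl⟩ := hx1
    have : y ∈ PN ⊓ commutator N ⊓ Subgroup.center N :=
      ⟨⟨hxP, Subgroup.commutator_mono le_top le_top hy⟩, Subgroup.mem_center_iff.2 fun g =>
        Subtype.ext (Subgroup.mem_centralizer_iff.1 hxC g g.2)⟩
    rw [CfsgLib.Transfer.inf_commutator_inf_center PN hPNc hPNco, Subgroup.mem_bot] at this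
    subst this
    exact Subgroup.mem_bot.2 (Subtype.ext rfl)
  have hsurj : Function.Surjective φ := by
    intro q
    obtain ⟨g, rfl⟩ := QuotientGroup.mk'_surjective _ q
    have hg : g ∈ Cfsg.pResidual p G ⊔ (P : Subgroup G) :=
      CfsgLib.Transfer.pResidual_sup_sylow P ▸ Subgroup.mem_top g
    rw [← SetLike.mem_coe, Subgroup.normal_mul] at hg
    obtain ⟨r, hr, x, hx, rfl⟩ := hg
    have hxd : (⟨x, hPle hx⟩ : N) ∈ ⁅PN, (⊤ : Subgroup N)⁆ ⊔ (Subgroup.center N ⊓ PN) :=
      CfsgLib.Transfer.le_commutator_sup_center PN hPNc hPNco hx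
    rw [← SetLike.mem_coe, Subgroup.normal_mul] at hxd
    obtain ⟨c, hc, z, hz, hcz⟩ := hxd
    refine ⟨⟨(z : G), hz.2, Subgroup.mem_centralizer_iff.2 fun n hn =>
      congrArg Subtype.val (Subgroup.mem_center_iff.1 hz.1 ⟨n, hn⟩)⟩, ?_⟩
    have hc1 : (c : G) ∈ Cfsg.pResidual p G :=
      (hres.ge (hmapC ▸ Subgroup.mem_map_of_mem N.subtype hc)).2
    have e : x = (c : G) * (z : G) := congrArg Subtype.val hcz.symm
    show ((z : G) : G ⧸ Cfsg.pResidual p G) = ((r * x : G) : G ⧸ Cfsg.pResidual p G)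
    rw [e, QuotientGroup.mk_mul, QuotientGroup.mk_mul, (QuotientGroup.eq_one_iff r).2 hr,
      (QuotientGroup.eq_one_iff (c : G)).2 hc1, one_mul, one_mul]
  exact ⟨Cfsg.pResidual p G, inferInstance, ⟨(MulEquiv.ofBijective φ ⟨hinj, hsurj⟩).symm⟩⟩

end Cfsg.Agent.S0105
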