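import Cfsg.Statements.S0107
import Cfsg.Agent.Lib.Invol.DihedralSylowTransfer
import Cfsg.Agent.Lib.Transfer.Basic

set_option autoImplicit false
open Cfsg

namespace Cfsg.Agent.S0107

/-- A finite group with no nontrivial 2-group quotient and dihedral Sylow 2-subgroups of order at least 8 has a single class of involutions. -/
theorem result {G : Type*} [Group G] [Finite G] (T : Sylow 2 G) (n : ℕ) (hn : 2 ≤ n) (hT : Nonempty ((T : Subgroup G) ≃* DihedralGroup (2 ^ n))) (hO : Cfsg.pResidual 2 G = ⊤) (x y : G) (hx : orderOf x = 2) (hy : orderOf y = 2) : ∃ g : G, g * x * g⁻¹ = y := by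
  classical
  haveI : Fact (Nat.Prime 2) := ⟨Nat.prime_two⟩
  obtain ⟨e⟩ := hT
  obtain ⟨h, ⟨E⟩⟩ := CfsgLib.Invol.DihedralSylow.exists_emb T
    ((Nat.le_self_pow (by omega) 2).trans le_rfl) e
  refine isConj_iff.mp (E.one_class (fun H hH => ?_) hx hy)
  haveI := Subgroup.normal_of_index_eq_two hH
  have h1 : Cfsg.pResidual 2 G ≤ H := CfsgLib.Transfer.pResidual_le
    (IsPGroup.of_card (n := 1) (by rw [← Subgroup.index_eq_card, hH, pow_one]))
  rw [hO, top_le_iff] at h1
  rw [h1, Subgroup.index_top] at hH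
  omega

end Cfsg.Agent.S0107
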