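import Cfsg.Statements.S0607
import Cfsg.Agent.Lib.Transfer.Timmesfeld

set_option autoImplicit false
open Cfsg
open scoped commutatorElement

namespace Cfsg.Agent.S0607

/-- The replacement Theorem for the Thompson subgroup: from A of maximal order among elementary abelian p-subgroups one obtains A₀ = [V, A] C_A([V, A]) of the same kind, quadratic on V and nontrivial on V when A is. -/
theorem result {G : Type*} [Group G] [Finite G] {p : ℕ} [Fact p.Prime] (V : Subgroup G) [V.Normal] (hV : Cfsg.IsElementaryAbelian p V) (A : Subgroup G) (hA : A ∈ Cfsg.maxElementaryAbelianSubgroups p G) : (⁅V, A⁆ ⊔ (A ⊓ Subgroup.centralizer ((⁅V, A⁆ : Subgroup G) : Set G))) ∈ Cfsg.maxElementaryAbelianSubgroups p G ∧ ⁅⁅V, ⁅V, A⁆ ⊔ (A ⊓ Subgroup.centralizer ((⁅V, A⁆ : Subgroup G) : Set G))⁆, ⁅V, A⁆ ⊔ (A ⊓ Subgroup.centralizer ((⁅V, A⁆ : Subgroup G) : Set G))⁆ = ⊥ ∧ (⁅V, A⁆ ≠ ⊥ → ⁅V, ⁅V, A⁆ ⊔ (A ⊓ Subgroup.centralizer ((⁅V, A⁆ : Subgroup G) : Set G))⁆ ≠ ⊥) :=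 by
  classical
  obtain ⟨hAe, hAmax⟩ := hA
  set W := ⁅V, A⁆ with hW
  set B := A ⊓ Subgroup.centralizer (W : Set G) with hB
  have hAV : A ≤ Subgroup.normalizer (V : Set G) := by rw [Subgroup.normalizer_eq_top]; exact le_top
  have hAc : ∀ a ∈ A, ∀ b ∈ A, a * b = b * a := fun a ha b hb => CfsgLib.PGroup.elemAb_comm hAe ha hb
  have hab : ⁅A, A⁆ ≤ Subgroup.centralizer (V : Set G) := Subgroup.commutator_le.2 fun a ha b hb => by
    rw [commutatorElement_eq_one_iff_mul_comm.2 (hAc a ha b hb)]; exact one_mem _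
  have hpow : ∀ a ∈ A, a ^ p ∈ Subgroup.centralizer (V : Set G) := fun a ha => by
    rw [hAe.2 a ha]; exact one_mem _
  have hWV : W ≤ V := CfsgLib.Transfer.commutator_le_base hAV le_rfl
  have hAVC : A ⊓ V ≤ V ⊓ Subgroup.centralizer (A : Set G) := fun x hx =>
    ⟨hx.2, Subgroup.mem_centralizer_iff.2 fun y hy => hAc y hy x hx.1⟩
  have hmax : ∀ B' ≤ A, CfsgLib.Transfer.offVal V B' ≤ CfsgLib.Transfer.offVal V A := by
    intro B' hB'
    set C' := V ⊓ Subgroup.centralizer (B' : Set G)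
    have hS : Cfsg.IsElementaryAbelian p (B' ⊔ C' : Subgroup G) :=
      CfsgLib.PGroup.elemAb_sup (CfsgLib.PGroup.elemAb_mono hAe hB') (CfsgLib.PGroup.elemAb_mono hV inf_le_left)
        fun a ha b hb => Subgroup.mem_centralizer_iff.1 hb.2 a ha
    calc Nat.card B' * Nat.card C' ≤ Nat.card ↥(B' ⊔ C') * Nat.card ↥(B' ⊓ C') :=
          CfsgLib.PGroup.card_mul_card_le_sup_inf B' C'
      _ ≤ Nat.card A * Nat.card ↥(V ⊓ Subgroup.centralizer (A : Set G)) :=
          Nat.mul_le_mul (hAmax _ hS) (Subgroup.card_le_of_le (le_trans (inf_le_inf hB' inf_le_left) hAVC))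
  obtain ⟨h1, h2⟩ := CfsgLib.Transfer.replace_eq hV.1 hAV hab hmax V le_rfl
  rw [← hW, ← hB] at h1 h2
  set C := V ⊓ Subgroup.centralizer (A : Set G) with hC
  have hA0 : Cfsg.IsElementaryAbelian p (W ⊔ B : Subgroup G) :=
    CfsgLib.PGroup.elemAb_sup (CfsgLib.PGroup.elemAb_mono hV hWV) (CfsgLib.PGroup.elemAb_mono hAe inf_le_left)
      fun a ha b hb => Subgroup.mem_centralizer_iff.1 hb.2 a ha
  have hCA : C ≤ A := fun x hx => by
    have hS : Cfsg.IsElementaryAbelian p (A ⊔ C : Subgroup G) :=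
      CfsgLib.PGroup.elemAb_sup hAe (CfsgLib.PGroup.elemAb_mono hV inf_le_left)
        fun a ha b hb => Subgroup.mem_centralizer_iff.1 hb.2 a ha
    exact (Subgroup.eq_of_le_of_card_ge le_sup_left (hAmax _ hS)).ge (Subgroup.mem_sup_right hx)
  have hWA : W ⊓ B = W ⊓ C := by
    refine le_antisymm (fun x hx => ?_) (fun x hx => ?_)
    · exact ⟨hx.1, hAVC ⟨hx.2.1, hWV hx.1⟩⟩
    · exact ⟨hx.1, ⟨hCA hx.2, Subgroup.mem_centralizer_iff.2 fun y hy =>
        CfsgLib.PGroup.elemAb_comm hV (hWV hy) hx.2.1⟩⟩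
  have hcomm : ∀ (S T : Subgroup G), (∀ a ∈ S, ∀ b ∈ T, a * b = b * a) →
      Nat.card ↥(S ⊔ T) * Nat.card ↥(S ⊓ T) = Nat.card S * Nat.card T := by
    intro S T h
    refine le_antisymm ?_ (CfsgLib.PGroup.card_mul_card_le_sup_inf S T)
    have hTN : T ≤ Subgroup.normalizer (S : Set G) :=
      le_trans (fun b hb => Subgroup.mem_centralizer_iff.2 fun a ha => h a ha b hb) (Subgroup.centralizer_le_normalizer _)
    refine le_of_eq ((congrArg (· * Nat.card ↥(S ⊓ T)) ?_).trans (CfsgLib.PGroup.card_setMul_mul_card_inf S T))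
    exact Nat.card_congr (Equiv.setCongr (Subgroup.coe_mul_of_right_le_normalizer_left _ _ hTN))
  have hcard : Nat.card ↥(W ⊔ B) = Nat.card A := by
    have e1 := hcomm W B (fun a ha b hb => Subgroup.mem_centralizer_iff.1 hb.2 a ha)
    have e2 := hcomm W C (fun a ha b hb => CfsgLib.PGroup.elemAb_comm hV (hWV ha) hb.1)
    have e3 : Nat.card B * Nat.card ↥(W ⊔ C) = Nat.card A * Nat.card C := by
      rw [← h1]; exact h2
    rw [hWA] at e1
    have key : Nat.card ↥(W ⊔ B) * (Nat.card ↥(W ⊓ C) * Nat.card ↥(W ⊔ C)) =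
        Nat.card A * (Nat.card ↥(W ⊓ C) * Nat.card ↥(W ⊔ C)) := by
      calc _ = Nat.card ↥(W ⊔ B) * Nat.card ↥(W ⊓ C) * Nat.card ↥(W ⊔ C) := by ring
        _ = Nat.card W * (Nat.card B * Nat.card ↥(W ⊔ C)) := by rw [e1]; ring
        _ = Nat.card A * (Nat.card W * Nat.card C) := by rw [e3]; ring
        _ = _ := by rw [← e2]; ring
    exact Nat.eq_of_mul_eq_mul_right (Nat.mul_pos Nat.card_pos Nat.card_pos) key
  refine ⟨⟨hA0, fun D hD => hcard ▸ hAmax D hD⟩, ?_, ?_⟩
  · rw [Subgroup.commutator_eq_bot_iff_le_centralizer]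
    have hWc : W ≤ Subgroup.centralizer ((W ⊔ B : Subgroup G) : Set G) := by
      refine Subgroup.le_centralizer_iff.1 (sup_le (fun a ha => ?_) inf_le_right)
      exact Subgroup.mem_centralizer_iff.2 fun b hb => CfsgLib.PGroup.elemAb_comm hV (hWV hb) (hWV ha)
    refine le_trans ?_ hWc
    rw [Subgroup.commutator_le]
    intro v hv x hx
    rw [Subgroup.sup_eq_closure] at hx
    suffices x ∈ (W ⊔ B : Subgroup G) ∧ ⁅v, x⁆ ∈ W from this.2
    induction hx using Subgroup.closure_induction with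
    | mem y hy =>
      rcases hy with hy | hy
      · refine ⟨Subgroup.mem_sup_left hy, ?_⟩
        rw [commutatorElement_eq_one_iff_mul_comm.2 (CfsgLib.PGroup.elemAb_comm hV hv (hWV hy))]
        exact one_mem _
      · exact ⟨Subgroup.mem_sup_right hy, Subgroup.commutator_mem_commutator hv hy.1⟩
    | one => exact ⟨one_mem _, by rw [commutatorElement_one_right]; exact one_mem _⟩
    | mul a b _ _ iha ihb =>
      refine ⟨mul_mem iha.1 ihb.1, ?_⟩
      rw [commutatorElement_mul_right_eq_mul_conj]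
      have hc := Subgroup.mem_centralizer_iff.1 (hWc ihb.2) a iha.1
      rw [mul_assoc ⁅v, a⁆ a, hc, ← mul_assoc, mul_inv_cancel_right]
      exact mul_mem iha.2 ihb.2
    | inv a _ iha =>
      refine ⟨inv_mem iha.1, ?_⟩
      have h := commutatorElement_mul_right_eq_mul_conj v a a⁻¹
      rw [mul_inv_cancel, commutatorElement_one_right] at h
      have e : ⁅v, a⁻¹⁆ = a⁻¹ * ⁅v, a⁆⁻¹ * a := by
        simp only [commutatorElement_def]; group
      have hc := Subgroup.mem_centralizer_iff.1 (hWc (inv_mem iha.2)) a⁻¹ (inv_mem iha.1)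
      rw [e, hc, inv_mul_cancel_right]
      exact inv_mem iha.2
  · intro hne h
    exact hne (CfsgLib.Transfer.commutator_eq_bot_of_replaced hV hAV hpow le_rfl h1
      (le_bot_iff.1 ((Subgroup.commutator_mono le_rfl le_sup_right).trans h.le)))

end Cfsg.Agent.S0607
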