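import Cfsg.Statements.S0109
import Cfsg.Agent.Lib.Transfer.SolvablePSolvable
import Cfsg.Agent.Lib.Transfer.Factorizable
import Cfsg.Agent.Lib.Transfer.Sections
import Cfsg.Agent.Lib.Transfer.PlaneGroup
import Cfsg.Agent.S0607

set_option autoImplicit false
open Cfsg
open scoped commutatorElement

namespace Cfsg.Agent.S0109

open Subgroup CfsgLib.Transfer
open scoped commutatorElement

/-- The Thompson factorization Theorem for solvable groups states that, with p odd (and abelian Sylow 2-subgroups when p = 3) and no nontrivial normal subgroup of order prime to p, every element of G is a product of an element normalizing J(P) and an element centralizing the elements of order dividing p in the centre of P. -/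
theorem result {G : Type*} [Group G] [Finite G] {p : ℕ} [Fact p.Prime] (hp : p ≠ 2) (hs : Group.IsSolvable G) (h3 : p = 3 → ∀ T : Sylow 2 G, IsMulCommutative T) (hF : ∀ N : Subgroup G, N.Normal → Nat.Coprime (Nat.card N) p → N = ⊥) (P : Sylow p G) (g : G) : ∃ a ∈ Subgroup.normalizer (Cfsg.thompsonSubgroupOf p (P : Subgroup G) : Set G), ∃ c ∈ Subgroup.centralizer {x : G | x ∈ (P : Subgroup G) ∧ (∀ y ∈ (P : Subgroup G), x * y = y * x) ∧ x ^ p = 1}, g = a * c := by
  have hsol := isPSolvable_of_isSolvable p hs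
  have hO : pPrimeCore p G = ⊥ := hF _ (Subgroup.sSup_normal _ fun _ h => h.1)
    (CfsgLib.Cores.coprime_card_pPrimeCore p)
  have hfree : StdFree p G := by
    by_contra h
    obtain ⟨h3', -⟩ := eq_three_of_not_stdFree hp hsol h
    exact h (stdFree_of_abelian_two hp (h3 h3'))
  have hstable := stableAll_of_stdFree hfree
  let V : Subgroup G := ⨆ S : Sylow p G, omegaCenterOf p (S : Subgroup G)
  have hcon := centralizer_pCore_le_of_isPSolvable hsol hO
  have hSO : ∀ S : Sylow p G, omegaCenterOf p (S : Subgroup G) ≤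
      pCore p G ⊓ centralizer (pCore p G : Set G) := fun S => by
    have hc : omegaCenterOf p (S : Subgroup G) ≤ centralizer (pCore p G : Set G) :=
      ((CfsgLib.PGroup.omegaOne_le p _).trans inf_le_right).trans
        (centralizer_le (SetLike.coe_subset_coe.2 (CfsgLib.Cores.pCore_le_sylow S)))
    exact le_inf (hc.trans hcon) hc
  have hVZ : V ≤ pCore p G ⊓ centralizer (pCore p G : Set G) := iSup_le hSO
  have hVc : ∀ a ∈ V, ∀ b ∈ V, a * b = b * a := fun a ha b hb =>
    mem_centralizer_iff.1 (hVZ hb).2 a (hVZ ha).1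
  have hVe : IsElementaryAbelian p V := by
    let T : Subgroup G :=
      { carrier := {x | x ∈ pCore p G ⊓ centralizer (pCore p G : Set G) ∧ x ^ p = 1}
        one_mem' := ⟨one_mem _, one_pow p⟩
        inv_mem' := fun {x} hx => ⟨inv_mem hx.1, by rw [inv_pow, hx.2, inv_one]⟩
        mul_mem' := fun {x y} hx hy => ⟨mul_mem hx.1 hy.1, by
          rw [(show Commute x y from mem_centralizer_iff.1 hy.1.2 x hx.1.1).mul_pow, hx.2, hy.2, one_mul]⟩ }
    have hle : V ≤ T := iSup_le fun S => (closure_le _).2 fun x hx =>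
      show x ∈ pCore p G ⊓ centralizer (pCore p G : Set G) ∧ x ^ p = 1 from
        ⟨hSO S (Subgroup.subset_closure hx), hx.2⟩
    exact CfsgLib.PGroup.isElementaryAbelian_mk hVc fun a ha => (hle ha).2
  have hVn : V.Normal := ⟨fun x hx g => by
    have hle : V ≤ V.comap (MulAut.conj g).toMonoidHom := iSup_le fun S => by
      intro y hy
      refine mem_comap.2 (le_iSup (fun S : Sylow p G => omegaCenterOf p (S : Subgroup G)) (g • S) ?_)
      show _ ∈ omegaCenterOf p ((g • S : Sylow p G) : Subgroup G)
      rw [Sylow.coe_subgroup_smul, CfsgLib.Solvable.conj_smul_eq_map,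
        ← omegaCenterOf_map _ ((MulAut.conj g).injective.injOn)]
      exact mem_map_of_mem _ hy
    exact hle hx⟩
  have hcore : pCore p (G ⧸ centralizer (V : Set G)) = ⊥ :=
    pCore_quotient_centralizer_eq_bot V fun D hD hle hk => eq_centralizer_of_iSup D
      (fun S : Sylow p G => omegaCenterOf p (S : Subgroup G))
      (fun S => (CfsgLib.PGroup.omegaOne_le p _).trans inf_le_right) rfl hle hk
  have hJ : thompsonSubgroup p G ≤ centralizer (V : Set G) := by
    refine sSup_le fun A hA => ?_
    by_contra hne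
    obtain ⟨-, hquad, hnt⟩ := Cfsg.Agent.S0607.result V hVe A hA
    set A₀ := ⁅V, A⁆ ⊔ (A ⊓ Subgroup.centralizer ((⁅V, A⁆ : Subgroup G) : Set G))
    refine hnt (fun e => hne (le_centralizer_iff.1 (commutator_eq_bot_iff_le_centralizer.1 e))) ?_
    rw [commutator_eq_bot_iff_le_centralizer, le_centralizer_iff]
    intro a ha
    have h1 := hstable.isPStableOn V (CfsgLib.PGroup.elemAb_isPGroup hVe) a (le_bot_iff.1
      ((commutator_mono (commutator_mono le_rfl (zpowers_le.2 ha)) (zpowers_le.2 ha)).trans hquad.le))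
    rw [hcore, mem_bot] at h1
    exact (QuotientGroup.eq_one_iff a).1 h1
  obtain ⟨x, hx, c, hc, n, hn, hg⟩ := (isThompsonFactorizable_iff hO).2 hJ P g⁻¹
  rw [hO, mem_bot] at hx
  rw [hx, one_mul] at hg
  refine ⟨n⁻¹, inv_mem hn, c⁻¹, inv_mem (mem_centralizer_iff.2 fun y hy => ?_), ?_⟩
  · refine mem_centralizer_iff.1 hc y (Subgroup.subset_closure ⟨⟨hy.1, mem_centralizer_iff.2 fun z hz => ?_⟩, hy.2.2⟩)
    exact (hy.2.1 z hz).symm
  · rw [← inv_inv g, hg, mul_inv_rev]

end Cfsg.Agent.S0109
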