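import Cfsg.Statements.S0110
import Cfsg.Agent.Lib.Transfer.Counting
import Cfsg.Agent.Lib.PGroup.Extraspecial

set_option autoImplicit false
open Cfsg
open scoped commutatorElement

namespace Cfsg.Agent.S0110

/-- In a p-group G, an extraspecial subgroup E with [G, E] ≤ Z(E) satisfies G = E C_G(E). -/
theorem result {G : Type*} [Group G] [Finite G] {p : ℕ} [Fact p.Prime] (hG : IsPGroup p G) (E : Subgroup G) (hE : Cfsg.IsExtraspecial p E) (h : ⁅(⊤ : Subgroup G), E⁆ ≤ E ⊓ Subgroup.centralizer (E : Set G)) : E ⊔ Subgroup.centralizer (E : Set G) = ⊤ := by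
  classical
  set Z := E ⊓ Subgroup.centralizer (E : Set G) with hZdef
  have hcard : Nat.card Z = p := by
    rw [← hE.2]
    exact Nat.card_congr
      { toFun := fun z => ⟨⟨z.1, z.2.1⟩, Subgroup.mem_center_iff.2 fun y =>
          Subtype.ext (Subgroup.mem_centralizer_iff.1 z.2.2 y y.2)⟩
        invFun := fun z => ⟨z.1.1, z.1.2, Subgroup.mem_centralizer_iff.2 fun y hy =>
          congrArg Subtype.val (Subgroup.mem_center_iff.1 z.2 ⟨y, hy⟩)⟩
        left_inv := fun _ => rfl
        right_inv := fun _ => rfl }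
  have : IsMulCommutative Z :=
    ⟨⟨fun a b => Subtype.ext (Subgroup.mem_centralizer_iff.1 b.2.2 a a.2.1)⟩⟩
  have hin : ∀ e ∈ E, ∀ g : G, ⁅e, g⁆ ∈ Z := fun e he g => h (by
    rw [Subgroup.commutator_comm]
    exact Subgroup.commutator_mem_commutator he (Subgroup.mem_top g))
  open scoped IsMulCommutative in
  let ψ : G → (E →* Z) := fun g =>
    { toFun := fun e => ⟨⁅(e : G), g⁆, hin e e.2 g⟩
      map_one' := Subtype.ext (commutatorElement_one_left g)
      map_mul' := fun a b => Subtype.ext (by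
        show ⁅((a : G) * b), g⁆ = ⁅(a : G), g⁆ * ⁅(b : G), g⁆
        have e1 := Subgroup.mem_centralizer_iff.1 (hin b b.2 g).2 a a.2
        have e2 := Subgroup.mem_centralizer_iff.1 (hin a a.2 g).2 ⁅(b : G), g⁆ (hin b b.2 g).1
        calc ⁅((a : G) * b), g⁆ = (a : G) * ⁅(b : G), g⁆ * (a : G)⁻¹ * ⁅(a : G), g⁆ := by
              simp only [commutatorElement_def]; group
          _ = ⁅(b : G), g⁆ * ⁅(a : G), g⁆ := by rw [e1, mul_inv_cancel_right]
          _ = _ := e2) }
  have hker : ∀ g, Subgroup.center E ≤ (ψ g).ker := by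
    intro g
    rw [← hE.1.2.2]
    open scoped IsMulCommutative in
    exact Abelianization.commutator_subset_ker (ψ g)
  let Φ : E ⧸ Subgroup.center E → (E ⧸ Subgroup.center E →* Z) := fun q =>
    QuotientGroup.lift _ (ψ ((q.out : E) : G)) (hker _)
  have hlift : ∀ g g' : G, QuotientGroup.lift _ (ψ g) (hker g) = QuotientGroup.lift _ (ψ g') (hker g') →
      g'⁻¹ * g ∈ Subgroup.centralizer (E : Set G) := by
    intro g g' he
    rw [Subgroup.mem_centralizer_iff]
    intro x hx
    have h1 : (⁅x⁻¹, g⁆ : G) = ⁅x⁻¹, g'⁆ :=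
      congrArg Subtype.val (DFunLike.congr_fun he ((⟨x⁻¹, E.inv_mem hx⟩ : E) : E ⧸ Subgroup.center E))
    rw [commutatorElement_def, commutatorElement_def, inv_inv] at h1
    calc x * (g'⁻¹ * g) = g'⁻¹ * (g' * x * g'⁻¹) * g := by group
      _ = g'⁻¹ * (x * (x⁻¹ * g' * x * g'⁻¹)) * g := by group
      _ = g'⁻¹ * (x * (x⁻¹ * g * x * g⁻¹)) * g := by rw [h1]
      _ = g'⁻¹ * g * x := by group
  have hinj : Function.Injective Φ := by
    intro q q' he
    rw [← QuotientGroup.out_eq' q, ← QuotientGroup.out_eq' q', eq_comm, QuotientGroup.eq,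
      Subgroup.mem_center_iff]
    exact fun y => Subtype.ext (Subgroup.mem_centralizer_iff.1 (hlift _ _ he) y y.2)
  have : Finite (E ⧸ Subgroup.center E →* Z) := Finite.of_injective _ DFunLike.coe_injective
  have hsurj : Function.Surjective Φ := (hinj.bijective_of_nat_card_le
    (CfsgLib.Transfer.card_hom_le hcard)).2
  rw [eq_top_iff]
  intro g _
  obtain ⟨q, hq⟩ := hsurj (QuotientGroup.lift _ (ψ g) (hker g))
  have := mul_mem (Subgroup.mem_sup_left (T := Subgroup.centralizer (E : Set G)) (q.out).2)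
    (Subgroup.mem_sup_right (S := E) (hlift _ _ hq.symm))
  rwa [mul_inv_cancel_left] at this

end Cfsg.Agent.S0110
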