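import Cfsg.Statements.S0114
import Cfsg.Agent.Lib.Transfer.MaximalClass

set_option autoImplicit false
open Cfsg
open scoped commutatorElement

namespace Cfsg.Agent.S0114

theorem dihedral_iso {Q : Type*} [Group Q] [Finite Q] {N : ℕ} [NeZero N] (a b : Q) (ha : orderOf a = N)
    (hb : b * b = 1) (hab : b * a * b = a⁻¹) (hbn : b ∉ Subgroup.zpowers a) (hcard : Nat.card Q = 2 * N) :
    Nonempty (Q ≃* DihedralGroup N) := by
  have hmodn : ∀ s : ℕ, a ^ (s % N) = a ^ s := fun s => by rw [← ha]; exact pow_mod_orderOf a s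
  let g : ZMod N → Q := fun i => a ^ i.val
  have hadd : ∀ i j, g (i + j) = g i * g j := fun i j => by
    show a ^ (i + j).val = _
    rw [ZMod.val_add, hmodn, pow_add]
  have hsub : ∀ i j, g (i - j) = g i * (g j)⁻¹ := fun i j => by
    rw [eq_mul_inv_iff_mul_eq, ← hadd, sub_add_cancel]
  have hbinv : b⁻¹ = b := inv_eq_of_mul_eq_one_right hb
  have hflip : ∀ k : ℕ, b * a ^ k * b = (a ^ k)⁻¹ := fun k => by
    have h1 : b * a * b⁻¹ = a⁻¹ := by rw [hbinv, hab]
    have h2 : (b * a * b⁻¹) ^ k = b * a ^ k * b⁻¹ := conj_pow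
    rw [h1, hbinv, inv_pow] at h2
    exact h2.symm
  have hcomm : ∀ i j, g i * g j = g j * g i := fun i j => by rw [← hadd, ← hadd, add_comm]
  have hmove : ∀ i, g i * b = b * (g i)⁻¹ := fun i => by
    show a ^ i.val * b = b * (a ^ i.val)⁻¹
    rw [← hflip, ← mul_assoc, ← mul_assoc, hb, one_mul]
  let f : DihedralGroup N → Q := fun x => match x with
    | DihedralGroup.r i => g i
    | DihedralGroup.sr i => b * g i
  have hf : ∀ x y, f (x * y) = f x * f y := by
    rintro (i | i) (j | j)
    · show g (i + j) = g i * g j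
      exact hadd i j
    · show b * g (j - i) = g i * (b * g j)
      rw [hsub, ← mul_assoc (g i), hmove, mul_assoc b, mul_right_inj]
      rw [eq_inv_mul_iff_mul_eq, ← mul_assoc, hcomm, mul_inv_cancel_right]
    · show b * g (i + j) = b * g i * g j
      rw [hadd, mul_assoc]
    · show g (j - i) = b * g i * (b * g j)
      rw [hsub, mul_assoc b, ← mul_assoc (g i), hmove, ← mul_assoc b, ← mul_assoc b, hb, one_mul]
      rw [eq_inv_mul_iff_mul_eq, ← mul_assoc, hcomm, mul_inv_cancel_right]
  have hinj : ∀ i j, g i = g j → i = j := fun i j h => by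
    refine ZMod.val_injective N ?_
    exact pow_injOn_Iio_orderOf (by rw [ha]; exact ZMod.val_lt i) (by rw [ha]; exact ZMod.val_lt j) h
  have hgmem : ∀ i, g i ∈ Subgroup.zpowers a := fun i => Subgroup.pow_mem _ (Subgroup.mem_zpowers a) _
  have hbij : Function.Bijective (MonoidHom.mk' f hf) := by
    refine (Nat.bijective_iff_injective_and_card _).2 ⟨?_, by rw [DihedralGroup.nat_card, hcard]⟩
    rintro (i | i) (j | j) h
    · exact congrArg _ (hinj i j h)
    · exfalso
      have h' : g i = b * g j := h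
      exact hbn ((Subgroup.mul_mem_cancel_right _ (hgmem j)).1 (h' ▸ hgmem i))
    · exfalso
      have h' : b * g i = g j := h
      exact hbn ((Subgroup.mul_mem_cancel_right _ (hgmem i)).1 (h'.symm ▸ hgmem j))
    · have h' : b * g i = b * g j := h
      exact congrArg _ (hinj i j (mul_left_cancel h'))
  exact ⟨(MulEquiv.ofBijective _ hbij).symm⟩

/-- The central quotient of a 2-group of maximal class is dihedral. -/
theorem result {X : Type*} [Group X] [Finite X] (n : ℕ) (hn : 3 ≤ n) (hX : Nat.card X = 2 ^ n) (hc : Group.nilpotencyClass X = n - 1) : Nonempty (X ⧸ Subgroup.center X ≃* DihedralGroup (2 ^ (n - 2))) := by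
  have := Fact.mk Nat.prime_two
  obtain ⟨h1, h2⟩ := CfsgLib.Transfer.squares_mem_commutator hn hX hc
  obtain ⟨C, hCc, hCi⟩ := (CfsgLib.Transfer.maximalClass_two hX h1 h2).2
  have hCn : C.Normal := Subgroup.normal_of_index_eq_two hCi
  have hXp : IsPGroup 2 X := IsPGroup.of_card hX
  have := hXp.isNilpotent
  have hna : ¬ Subgroup.center X = ⊤ := fun h => by
    have hcm : IsMulCommutative X := ⟨⟨fun a b => (Subgroup.mem_center_iff.1 (h.ge (Subgroup.mem_top a)) b).symm⟩⟩
    have h3 : Group.nilpotencyClass X ≤ 1 := (Group.IsNilpotent.nilpotencyClass_le_one_iff (G := X)).2 hcm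
    omega
  have hCab : ∀ a ∈ C, ∀ b ∈ C, a * b = b * a := fun a ha b hb =>
    congrArg Subtype.val ((IsMulCommutative.is_comm (M := C)).comm ⟨a, ha⟩ ⟨b, hb⟩)
  have hprime : C.index.Prime := hCi ▸ Nat.prime_two
  have hinv : ∀ u : X, u ∉ C → u * u ∈ Subgroup.center X := fun u hu => by
    rw [CfsgLib.PGroupExtra.center_eq_inf_centralizer C hCab hprime u hu hna, ← sq]
    refine ⟨hCi ▸ C.pow_index_mem u, Subgroup.mem_centralizer_singleton_iff.2 ?_⟩
    rw [← pow_succ, ← pow_succ']
  obtain ⟨b, hb⟩ : ∃ b, b ∉ C := by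
    by_contra hcon
    push Not at hcon
    rw [(Subgroup.eq_top_iff' _).2 hcon, Subgroup.index_top] at hCi
    omega
  have hZC : Subgroup.center X ≤ C := by
    rw [CfsgLib.PGroupExtra.center_eq_inf_centralizer C hCab hprime b hb hna]
    exact inf_le_left
  have hZcard : Nat.card (Subgroup.center X) = 2 := by
    have e1 := CfsgLib.PGroupExtra.card_commutator_mul_card_centralizer C hCab hprime b hb
    rw [← CfsgLib.PGroupExtra.center_eq_inf_centralizer C hCab hprime b hb hna] at e1
    have e2 := C.card_mul_index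
    have e3 := (commutator X).card_mul_index
    rw [hCi] at e2
    rw [h1] at e3
    nlinarith [Nat.card_pos (α := commutator X)]
  obtain ⟨a, rfl⟩ := (Subgroup.isCyclic_iff_exists_zpowers_eq_top C).1 hCc
  obtain ⟨m, rfl⟩ : ∃ m, n = m + 2 := ⟨n - 2, by omega⟩
  rw [show m + 2 - 2 = m by omega]
  set π := QuotientGroup.mk' (Subgroup.center X) with hπ
  have hQ : Nat.card (X ⧸ Subgroup.center X) = 2 * 2 ^ m := by
    have e := (Subgroup.center X).card_mul_index
    rw [hZcard, hX, Subgroup.index_eq_card, show 2 ^ (m + 2) = 2 * (2 * 2 ^ m) by ring] at e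
    omega
  have hmap : (Subgroup.zpowers a).map π = Subgroup.zpowers (π a) := MonoidHom.map_zpowers π a
  have ha : orderOf (π a) = 2 ^ m := by
    have e := ((Subgroup.zpowers a).map π).card_mul_index
    rw [Subgroup.index_map_eq _ (QuotientGroup.mk'_surjective _) (by rw [QuotientGroup.ker_mk']; exact hZC),
      hCi, hmap, Nat.card_zpowers, hQ] at e
    omega
  have hbi : π b * π b = 1 := by
    rw [← map_mul]
    exact (QuotientGroup.eq_one_iff _).2 (hinv b hb)
  have hba : π b * π a * π b = (π a)⁻¹ := by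
    have hnot : b * a ∉ Subgroup.zpowers a := fun h =>
      hb ((Subgroup.mul_mem_cancel_right _ (Subgroup.mem_zpowers a)).1 h)
    have e : π (b * a * (b * a)) = 1 := (QuotientGroup.eq_one_iff _).2 (hinv _ hnot)
    rw [map_mul, map_mul, ← mul_assoc] at e
    exact eq_inv_of_mul_eq_one_left e
  refine dihedral_iso (π a) (π b) ha hbi hba (fun h => hb ?_) hQ
  rw [← hmap] at h
  obtain ⟨c, hc', hcb⟩ := h
  rw [QuotientGroup.mk'_eq_mk'] at hcb
  obtain ⟨z, hz, hzb⟩ := hcb
  rw [← hzb]
  exact mul_mem hc' (hZC hz)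

end Cfsg.Agent.S0114
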