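import Cfsg.Statements.S0122
import Cfsg.Agent.Lib.OddLocal.RankThree
import Cfsg.Agent.Lib.OddLocal.ScnThree.Main
import Cfsg.Agent.Lib.OddLocal.RankTwo.Narrow

set_option autoImplicit false
open Cfsg
open scoped commutatorElement

namespace Cfsg.Agent.S0122

open Subgroup CfsgLib.PGroup
open scoped commutatorElement

/-- A member of a chain of normal subgroups of a `p`-group with quotient of order `p` is central modulo the next. -/
theorem comm_mem {G : Type*} [Group G] [Finite G] {p : ℕ} [hp : Fact p.Prime] (hG : IsPGroup p G)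
    {U W : Subgroup G} [U.Normal] (hWn : W.Normal) (hUW : U ≤ W) {k : ℕ} (hU : Nat.card U = p ^ k)
    (hW : Nat.card W = p ^ (k + 1)) (g : G) {w : G} (hw : w ∈ W) : ⁅g, w⁆ ∈ U := by
  have : (W.map (QuotientGroup.mk' U)).Normal := hWn.map _ (QuotientGroup.mk'_surjective U)
  have hquot := le_center_of_card_eq (p := p) (hG.to_quotient U) (W.map (QuotientGroup.mk' U)) (by
    rw [← relIndex_eq_card_map]
    refine Nat.eq_of_mul_eq_mul_left (pow_pos hp.out.pos k) ?_
    rw [← pow_succ, ← hW]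
    conv_lhs => rw [← hU]
    rw [← relIndex_bot_left, ← relIndex_bot_left, relIndex_mul_relIndex ⊥ U W bot_le hUW])
  rw [← QuotientGroup.eq_one_iff, ← QuotientGroup.mk'_apply, map_commutatorElement]
  exact commutatorElement_eq_one_iff_mul_comm.2 (mem_center_iff.1 (hquot (mem_map_of_mem _ hw)) _)

/-- For odd p, a p-group containing an elementary abelian subgroup of order p^4 has a normal elementary abelian subgroup of order p^4. -/
theorem result {G : Type*} [Group G] [Finite G] {p : ℕ} [Fact p.Prime] (hp : p ≠ 2) (hG : IsPGroup p G) (E : Subgroup G) (hE : Cfsg.IsElementaryAbelian p E) (hE4 : Nat.card E = p ^ 4) : ∃ A : Subgroup G, A.Normal ∧ Cfsg.IsElementaryAbelian p A ∧ Nat.card A = p ^ 4 := by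
  have hp' := (Fact.out : p.Prime)
  have hpp : ∀ {i j : ℕ}, i ≤ j → p ^ i ≤ p ^ j := fun h => Nat.pow_le_pow_right hp'.pos h
  have hlt : ∀ {i j : ℕ}, i < j → p ^ i < p ^ j := fun h => Nat.pow_lt_pow_right hp'.one_lt h
  have hrk : ¬ Cfsg.PRankLE p 2 G := fun h =>
    (hlt (show 2 < 4 by norm_num)).not_ge (hE4 ▸ pRankLE_iff.1 h E hE)
  obtain ⟨A, hAn, hAe, hAc⟩ := CfsgLib.OddLocal.exists_normal_cube hp hG hrk
  obtain ⟨W, hAW, ⟨hWn, hWe⟩, hmax⟩ := Finite.exists_le_maximal
    (p := fun W : Subgroup G => W.Normal ∧ IsElementaryAbelian p W) (a := A) ⟨hAn, hAe⟩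
  by_cases h4 : p ^ 4 ≤ Nat.card W
  · obtain ⟨K, hKW, hKn, hKc⟩ := CfsgLib.OddLocal.ScnThree.exists_normal_le_card hG (N := W) 4 h4
    exact ⟨K, hKn, elemAb_mono hWe hKW, hKc⟩
  have hWc : Nat.card W = p ^ 3 := by
    obtain ⟨n, hn⟩ := elemAb_card hWe
    rw [hn] at h4 ⊢
    have h1 := card_le_of_le hAW
    rw [hAc, hn] at h1
    have h2 := (Nat.pow_le_pow_iff_right hp'.one_lt).1 h1
    have h3 : n < 4 := by
      by_contra h
      exact h4 (hpp (Nat.le_of_not_lt h))
    rw [show n = 3 by omega]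
  have hom := CfsgLib.OddLocal.mem_of_centralizes_omega hp hG hWe
    fun W' h1 h2 h3 => le_antisymm (hmax ⟨h1, h2⟩ h3) h3
  obtain ⟨U, hUW, hUn, hUc⟩ := CfsgLib.OddLocal.ScnThree.exists_normal_le_card hG (N := W) 2
    (hWc ▸ hpp (by norm_num))
  have hWU : ∀ g : G, ∀ w ∈ W, ⁅g, w⁆ ∈ U := fun g w hw => comm_mem hG hWn hUW hUc hWc g hw
  have hWgen : ∀ a ∈ W, a ∉ U → ∀ x : G, (∀ u ∈ U, x * u = u * x) → x * a = a * x →
      x ∈ centralizer (W : Set G) := by
    intro a ha haU x hxU hxa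
    have hsup : U ⊔ zpowers a = W := by
      refine eq_of_le_of_card_ge (sup_le hUW (zpowers_le.2 ha)) ?_
      obtain ⟨n, hn⟩ := elemAb_card (elemAb_mono hWe (sup_le hUW (zpowers_le.2 ha)))
      rw [hWc, hn]
      refine hpp ((Nat.pow_lt_pow_iff_right hp'.one_lt).1 ?_)
      rw [← hUc, ← hn]
      exact lt_of_le_of_ne (card_le_of_le le_sup_left)
        fun e => haU (eq_of_le_of_card_ge le_sup_left e.ge ▸ mem_sup_right (mem_zpowers a))
    refine mem_centralizer_iff.2 fun y hy => (mem_centralizer_singleton_iff.1 ?_)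
    exact (sup_le (fun u hu => mem_centralizer_singleton_iff.2 (hxU u hu).symm)
      (zpowers_le.2 (mem_centralizer_singleton_iff.2 hxa.symm))) (hsup.ge hy)
  -- every elementary subgroup of order `p ^ 4` meets `W` in `U`
  have data : ∀ X : Subgroup G, IsElementaryAbelian p X → Nat.card X = p ^ 4 →
      X ⊓ W = U ∧ ∀ a ∈ W, a ∉ U → ∀ u ∈ U, ∃ x ∈ X, ⁅x, a⁆ = u := by
    intro X hX hXc
    have hcent : ∀ x ∈ X, x ∈ centralizer (W : Set G) → x ∈ W := fun x hx h => hom x h (hX.2 x hx)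
    obtain ⟨K, hKX, hXK, hKU⟩ := CfsgLib.RankGraph.exists_le_centralizing hG hUc X
    have hK3 : p ^ 3 ≤ Nat.card K :=
      Nat.le_of_mul_le_mul_left (by rw [← pow_succ', ← hXc]; exact hXK) hp'.pos
    have hFU : X ⊓ W ≤ U := by
      intro a ha
      by_contra haU
      have hKW : K ≤ W := fun k hk => hcent k (hKX hk)
        (hWgen a ha.2 haU k (hKU k hk) (elemAb_comm hX (hKX hk) ha.1))
      have hKeq : K = W := eq_of_le_of_card_ge hKW (hWc ▸ hK3)
      have hXW : X ≤ W := fun x hx => hcent x hx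
        (mem_centralizer_iff.2 fun w hw => elemAb_comm hX (hKX (hKeq.ge hw)) hx)
      exact (hlt (show 3 < 4 by norm_num)).not_ge (hXc ▸ hWc ▸ card_le_of_le hXW)
    obtain ⟨a₀, ha₀, ha₀U⟩ : ∃ a ∈ W, a ∉ U := by
      by_contra h
      push Not at h
      exact (hlt (show 2 < 3 by norm_num)).not_ge (hUc ▸ hWc ▸ card_le_of_le h)
    have hKa : K ⊓ centralizer ({a₀} : Set G) ≤ X ⊓ W := fun k hk => ⟨hKX hk.1, hcent k (hKX hk.1)
      (hWgen a₀ ha₀ ha₀U k (hKU k hk.1) (mem_centralizer_singleton_iff.1 hk.2))⟩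
    have hcentU : ∀ x ∈ X, ∀ u ∈ U, x * u = u * x := by
      intro d hd u hu
      by_contra hne
      have h1 := CfsgLib.OddLocal.RankTwo.card_le_card_mul_centralizer (N := K)
        (H := U ⊓ centralizer ({d} : Set G)) a₀ fun k hk => Subgroup.mem_inf.2 ⟨hWU k a₀ ha₀, by
          refine mem_centralizer_singleton_iff.2 ?_
          have hkd : k * d = d * k := elemAb_comm hX (hKX hk) hd
          set v := ⁅d, a₀⁆ with hv
          have hvU : v ∈ U := hWU d a₀ ha₀
          have e1 : d * ⁅k, a₀⁆ * d⁻¹ = ⁅k, v * a₀⁆ := by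
            have e0 : d * k * d⁻¹ = k := by rw [← hkd, mul_inv_cancel_right]
            have e2 : d * a₀ * d⁻¹ = v * a₀ := by rw [hv, commutatorElement_def]; group
            rw [show d * ⁅k, a₀⁆ * d⁻¹ = ⁅d * k * d⁻¹, d * a₀ * d⁻¹⁆ by
              simp only [commutatorElement_def]; group, e0, e2]
          have e3 : ⁅k, v * a₀⁆ = ⁅k, a₀⁆ := by
            have h5 : k * v = v * k := hKU k hk v hvU
            have h6 : v * ⁅k, a₀⁆ = ⁅k, a₀⁆ * v := elemAb_comm hWe (hUW hvU) (hUW (hWU k a₀ ha₀))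
            have e4 : ⁅k, v * a₀⁆ = (k * v) * k⁻¹ * v⁻¹ * (v * ⁅k, a₀⁆ * v⁻¹) := by
              simp only [commutatorElement_def]; group
            rw [e4, h5, mul_inv_cancel_right, mul_inv_cancel, one_mul, h6, mul_inv_cancel_right]
          exact (mul_inv_eq_iff_eq_mul.1 (e1.trans e3)).symm⟩
      have h2 : Nat.card ↥(U ⊓ centralizer ({d} : Set G)) ≤ p := by
        obtain ⟨n, hn⟩ := elemAb_card (elemAb_mono hWe
          ((inf_le_left : U ⊓ centralizer ({d} : Set G) ≤ U).trans hUW))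
        rw [hn]
        refine (hpp (j := 1) (Nat.le_of_lt_succ ((Nat.pow_lt_pow_iff_right hp'.one_lt).1 ?_))).trans_eq (pow_one p)
        rw [← hn, ← hUc]
        refine lt_of_le_of_ne (card_le_of_le inf_le_left) fun e => hne ?_
        have heq : U ⊓ centralizer ({d} : Set G) = U := eq_of_le_of_card_ge inf_le_left e.ge
        exact (mem_centralizer_singleton_iff.1 (heq.ge hu).2).symm
      have h3 : U ≤ X := by
        have hF : X ⊓ W = U := eq_of_le_of_card_ge hFU (by
          rw [hUc]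
          refine le_trans ?_ (card_le_of_le hKa)
          refine Nat.le_of_mul_le_mul_left ?_ hp'.pos
          rw [← pow_succ']
          exact hK3.trans (h1.trans (Nat.mul_le_mul_right _ h2)))
        exact hF.ge.trans inf_le_left
      exact hne (elemAb_comm hX hd (h3 hu))
    have hXa : ∀ a ∈ W, a ∉ U → X ⊓ centralizer ({a} : Set G) ≤ X ⊓ W := fun a ha haU x hx =>
      ⟨hx.1, hcent x hx.1 (hWgen a ha haU x (hcentU x hx.1) (mem_centralizer_singleton_iff.1 hx.2))⟩
    have hF : X ⊓ W = U := eq_of_le_of_card_ge hFU (by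
      have h1 := CfsgLib.OddLocal.RankTwo.card_le_card_mul_centralizer (N := X) (H := U) a₀
        fun x _ => hWU x a₀ ha₀
      rw [hXc, hUc] at h1
      rw [hUc]
      refine le_trans ?_ (card_le_of_le (hXa a₀ ha₀ ha₀U))
      exact Nat.le_of_mul_le_mul_left (by rw [← pow_add]; exact h1) (pow_pos hp'.pos 2))
    refine ⟨hF, fun a ha haU u hu => ?_⟩
    let f : X →* U := MonoidHom.mk' (fun x => ⟨⁅(x : G), a⁆, hWU x a ha⟩) fun x y => by
      refine Subtype.ext ?_
      show ⁅(x : G) * y, a⁆ = ⁅(x : G), a⁆ * ⁅(y : G), a⁆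
      have h1 : ⁅(x : G) * y, a⁆ = (x * ⁅(y : G), a⁆) * (x : G)⁻¹ * ⁅(x : G), a⁆ := by
        simp only [commutatorElement_def]; group
      rw [h1, hcentU x x.2 _ (hWU y a ha), mul_inv_cancel_right]
      exact elemAb_comm hWe (hUW (hWU y a ha)) (hUW (hWU x a ha))
    have hker : Nat.card f.ker ≤ Nat.card U := by
      refine le_of_le_of_eq ((Subgroup.card_map_of_injective X.subtype_injective).symm.trans_le
        (card_le_of_le (K := X ⊓ W) ?_)) (congrArg (fun Y : Subgroup G => Nat.card Y) hF)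
      rintro _ ⟨x, hx, rfl⟩
      exact hXa a ha haU ⟨x.2, mem_centralizer_singleton_iff.2
        (commutatorElement_eq_one_iff_mul_comm.1 (congrArg Subtype.val (MonoidHom.mem_ker.1 hx)))⟩
    have htop : f.range = ⊤ := eq_top_of_le_card _ (by
      have h2 := f.ker.card_mul_index
      rw [index_ker, hXc] at h2
      rw [hUc] at hker ⊢
      refine Nat.le_of_mul_le_mul_left ?_ (pow_pos hp'.pos 2)
      rw [← pow_add, ← h2]
      exact Nat.mul_le_mul_right _ hker)
    obtain ⟨x, hx⟩ := (htop ▸ mem_top (⟨u, hu⟩ : U) : (⟨u, hu⟩ : U) ∈ f.range)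
    exact ⟨x, x.2, congrArg Subtype.val hx⟩
  have hUX : ∀ X : Subgroup G, IsElementaryAbelian p X → Nat.card X = p ^ 4 → U ≤ X :=
    fun X h1 h2 => (data X h1 h2).1.ge.trans inf_le_left
  obtain ⟨w, hw, hwU⟩ : ∃ a ∈ W, a ∉ U := by
    by_contra h
    push Not at h
    exact (hlt (show 2 < 3 by norm_num)).not_ge (hUc ▸ hWc ▸ card_le_of_le h)
  have hWgen' : U ⊔ zpowers w = W := by
    refine eq_of_le_of_card_ge (sup_le hUW (zpowers_le.2 hw)) ?_
    obtain ⟨n, hn⟩ := elemAb_card (elemAb_mono hWe (sup_le hUW (zpowers_le.2 hw)))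
    rw [hWc, hn]
    refine hpp ((Nat.pow_lt_pow_iff_right hp'.one_lt).1 ?_)
    rw [← hUc, ← hn]
    exact lt_of_le_of_ne (card_le_of_le le_sup_left)
      fun e => hwU (eq_of_le_of_card_ge le_sup_left e.ge ▸ mem_sup_right (mem_zpowers w))
  -- `E` is the only one inside `W E`
  have huniq : ∀ X : Subgroup G, IsElementaryAbelian p X → Nat.card X = p ^ 4 →
      (∀ x ∈ X, ∃ a ∈ W, ∃ e ∈ E, a * e = x) → X = E := by
    intro X hX hXc hdec
    refine eq_of_le_of_card_ge (fun x hx => ?_) (by rw [hE4, hXc])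
    obtain ⟨a, ha, e, he, rfl⟩ := hdec x hx
    by_cases haU : a ∈ U
    · exact mul_mem (hUX E hE hE4 haU) he
    exfalso
    -- every commutator with `a` is a power of `⁅e, w⁆`
    have hcyc : U ≤ zpowers ⁅e, w⁆ := by
      intro u hu
      obtain ⟨e', he', rfl⟩ := (data E hE hE4).2 a ha haU u hu
      obtain ⟨b, hb, hbe⟩ : ∃ b ∈ W, b * e' ∈ X := by
        have hle : (E : Set G) ⊆ (fun q : W × X => ((q.1 : G) * (q.2 : G))) '' Set.univ := by
          have hsub : (X.map (QuotientGroup.mk' W)) = E.map (QuotientGroup.mk' W) := by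
            refine eq_of_le_of_card_ge ?_ ?_
            · rintro _ ⟨y, hy, rfl⟩
              obtain ⟨b, hb, e₁, he₁, rfl⟩ := hdec y hy
              refine ⟨e₁, he₁, ?_⟩
              rw [map_mul, show QuotientGroup.mk' W b = 1 from (QuotientGroup.eq_one_iff b).2 hb, one_mul]
            · have hcard : ∀ Y : Subgroup G, IsElementaryAbelian p Y → Nat.card Y = p ^ 4 →
                  Nat.card ↥(Y.map (QuotientGroup.mk' W)) = p ^ 2 := fun Y hY hYc => by
                rw [← relIndex_eq_card_map, ← inf_relIndex_left, (data Y hY hYc).1]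
                refine Nat.eq_of_mul_eq_mul_left (pow_pos hp'.pos 2) ?_
                rw [← pow_add, ← hYc]
                conv_lhs => rw [← hUc]
                rw [← relIndex_bot_left, ← relIndex_bot_left, relIndex_mul_relIndex ⊥ U Y bot_le (hUX Y hY hYc)]
              rw [hcard E hE hE4, hcard X hX hXc]
          intro e₂ he₂
          obtain ⟨y, hy, hye⟩ := hsub.ge (mem_map_of_mem (QuotientGroup.mk' W) he₂)
          exact ⟨(⟨e₂ * y⁻¹, by
            rw [← QuotientGroup.eq_one_iff, ← QuotientGroup.mk'_apply, map_mul, map_inv, hye, mul_inv_cancel]⟩,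
            ⟨y, hy⟩), Set.mem_univ _, inv_mul_cancel_right _ _⟩
        obtain ⟨⟨b, y⟩, -, hby⟩ := hle he'
        refine ⟨(b : G)⁻¹, inv_mem b.2, ?_⟩
        rw [← show (b : G) * (y : G) = e' from hby, inv_mul_cancel_left]
        exact y.2
      have hcomm : ⁅e', a⁆ = ⁅e, b⁆ := by
        have h1 : a * e * (b * e') = b * e' * (a * e) := elemAb_comm hX hx hbe
        have hee : e * e' = e' * e := elemAb_comm hE he he'
        have h2 : a * e * (b * e') = (a * ⁅e, b⁆ * b) * (e * e') := by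
          simp only [commutatorElement_def]; group
        have h3 : b * e' * (a * e) = (b * ⁅e', a⁆ * a) * (e * e') := by
          rw [hee]; simp only [commutatorElement_def]; group
        rw [h2, h3] at h1
        have h4 := mul_right_cancel h1
        have hc : ∀ {x y : G}, x ∈ W → y ∈ W → x * y = y * x := fun hx hy => elemAb_comm hWe hx hy
        have h5 : ⁅e, b⁆ * (a * b) = ⁅e', a⁆ * (a * b) := by
          calc ⁅e, b⁆ * (a * b) = a * ⁅e, b⁆ * b := by
                rw [← mul_assoc, hc (hUW (hWU e b hb)) ha]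
            _ = b * ⁅e', a⁆ * a := h4
            _ = ⁅e', a⁆ * (a * b) := by
                rw [hc hb (hUW (hWU e' a ha)), mul_assoc, hc hb ha]
        exact (mul_right_cancel h5).symm
      rw [hcomm]
      have heU : ∀ y ∈ W, ∀ z ∈ W, ⁅e, y * z⁆ = ⁅e, y⁆ * ⁅e, z⁆ := fun y hy z hz => by
        have h1 : ⁅e, y * z⁆ = ⁅e, y⁆ * (y * ⁅e, z⁆ * y⁻¹) := by
          simp only [commutatorElement_def]; group
        rw [h1, elemAb_comm hWe hy (hUW (hWU e z hz)), mul_inv_cancel_right]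
      let g : W →* G := MonoidHom.mk' (fun y => ⁅e, (y : G)⁆) fun y z => heU y y.2 z z.2
      have hle : W ≤ ((zpowers ⁅e, w⁆).comap g).map W.subtype := by
        refine hWgen'.ge.trans (sup_le (fun y hy => ⟨⟨y, hUW hy⟩, ?_, rfl⟩) (zpowers_le.2 ⟨⟨w, hw⟩, ?_, rfl⟩))
        · show ⁅e, y⁆ ∈ zpowers ⁅e, w⁆
          rw [commutatorElement_eq_one_iff_mul_comm.2 (elemAb_comm hE he (hUX E hE hE4 hy))]
          exact one_mem _
        · exact mem_zpowers _
      obtain ⟨⟨b', hb'⟩, hg, e0⟩ := hle hb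
      obtain rfl : b' = b := e0
      exact hg
    have h1 := card_le_of_le hcyc
    rw [hUc, Nat.card_zpowers] at h1
    have h2 : orderOf ⁅e, w⁆ ≤ p :=
      Nat.le_of_dvd hp'.pos (orderOf_dvd_of_pow_eq_one (hWe.2 _ (hUW (hWU e w hw))))
    exact (Nat.lt_of_lt_of_le (lt_self_pow₀ hp'.one_lt one_lt_two) (h1.trans h2)).false
  -- `E` is normal
  refine ⟨E, ?_, hE, hE4⟩
  rw [← normalizer_eq_top_iff]
  by_contra hne
  have := hG.isNilpotent
  have hlt' := Group.normalizerCondition_of_isNilpotent (G := G) _ (lt_top_iff_ne_top.2 hne)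
  obtain ⟨g, hg, hgN⟩ := SetLike.exists_of_lt hlt'
  set E' := E.map (MulAut.conj g).toMonoidHom with hE'
  have hE'e : IsElementaryAbelian p E' := elemAb_map hE _
  have hE'c : Nat.card E' = p ^ 4 := (Subgroup.card_map_of_injective (MulAut.conj g).injective).trans hE4
  have hnE : ∀ e ∈ E, ∀ y : G, y ∈ E ↔ e * y * e⁻¹ ∈ E := fun e he => mem_normalizer_iff.1 (le_normalizer he)
  -- `E'` normalises `E` and conversely
  have h12 : ∀ x ∈ E', ∀ e ∈ E, ⁅x, e⁆ ∈ E ⊓ E' := by
    rintro _ ⟨x, hx, rfl⟩ e he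
    show ⁅g * x * g⁻¹, e⁆ ∈ E ⊓ E'
    have hN1 : g * x * g⁻¹ ∈ normalizer (E : Set G) := (mem_normalizer_iff.1 hg x).1 (le_normalizer hx)
    have hN2 : g⁻¹ * e * g ∈ normalizer (E : Set G) := by
      have := (mem_normalizer_iff.1 (inv_mem hg) e).1 (le_normalizer he)
      rwa [inv_inv] at this
    refine ⟨?_, ?_⟩
    · rw [commutatorElement_def]
      exact E.mul_mem ((mem_normalizer_iff.1 hN1 e).1 he) (E.inv_mem he)
    · refine ⟨x * ((g⁻¹ * e * g) * x⁻¹ * (g⁻¹ * e * g)⁻¹),
        mul_mem hx ((mem_normalizer_iff.1 hN2 _).1 (inv_mem hx)), ?_⟩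
      show g * (x * ((g⁻¹ * e * g) * x⁻¹ * (g⁻¹ * e * g)⁻¹)) * g⁻¹ = ⁅g * x * g⁻¹, e⁆
      rw [commutatorElement_def]; group
  have hcover : ∀ x ∈ E', ∃ a ∈ W, ∃ e ∈ E, a * e = x := by
    intro x hx
    obtain ⟨e, he, hxe⟩ := (data E hE hE4).2 w hw hwU _ (hWU x w hw)
    refine ⟨x * e⁻¹, hom _ ?_ ?_, e, he, inv_mul_cancel_right _ _⟩
    · have hxU : ∀ u ∈ U, x * u = u * x := fun u hu => elemAb_comm hE'e hx (hUX E' hE'e hE'c hu)
      have heU : ∀ u ∈ U, e * u = u * e := fun u hu => elemAb_comm hE he (hUX E hE hE4 hu)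
      refine hWgen w hw hwU _ (fun u hu => ?_) ?_
      · exact ((show Commute x u from hxU u hu).mul_left (show Commute e u from heU u hu).inv_left).eq
      · rw [← commutatorElement_eq_one_iff_mul_comm]
        have hu := hWU e⁻¹ w hw
        have h1 : ⁅x * e⁻¹, w⁆ = x * ⁅e⁻¹, w⁆ * x⁻¹ * ⁅x, w⁆ := by
          simp only [commutatorElement_def]; group
        have h2 : e * ⁅e⁻¹, w⁆ * e⁻¹ * ⁅e, w⁆ = 1 := by
          simp only [commutatorElement_def]; group
        rw [h1, hxU _ hu, mul_inv_cancel_right]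
        rwa [heU _ hu, mul_inv_cancel_right, hxe] at h2
    · let H : Subgroup G := E ⊔ E'
      have hc : ⁅(⟨e⁻¹, mem_sup_left (inv_mem he)⟩ : H), ⟨x, mem_sup_right hx⟩⁆ ∈ center H := by
        refine mem_center_iff.2 fun z => Subtype.ext ?_
        have hmem : ⁅e⁻¹, x⁆ ∈ E ⊓ E' := by
          rw [← commutatorElement_inv]; exact inv_mem (h12 x hx _ (inv_mem he))
        exact mem_centralizer_singleton_iff.1 ((sup_le
          (fun y hy => mem_centralizer_singleton_iff.2 (elemAb_comm hE hy hmem.1))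
          (fun y hy => mem_centralizer_singleton_iff.2 (elemAb_comm hE'e hy hmem.2)) :
            H ≤ centralizer ({⁅e⁻¹, x⁆} : Set G)) z.2)
      have hmul := congrArg Subtype.val (mul_pow_of_comm_mem_center hc p)
      simp only [Subgroup.coe_mul, Subgroup.coe_pow] at hmul
      rw [hmul, hE'e.2 x hx, inv_pow, hE.2 e he, inv_one, one_mul, one_mul]
      obtain ⟨k, hk⟩ := hp'.dvd_choose_self two_ne_zero (lt_of_le_of_ne hp'.two_le (Ne.symm hp))
      rw [hk, pow_mul]
      have hmem : ⁅e⁻¹, x⁆ ∈ E := by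
        rw [← commutatorElement_inv]; exact inv_mem (h12 x hx _ (inv_mem he)).1
      show ((⁅e⁻¹, x⁆ : G) ^ p) ^ k = 1
      rw [hE.2 _ hmem, one_pow]
  have hEE := huniq E' hE'e hE'c hcover
  exact hgN (mem_normalizer_iff_map_conj_eq.2 hEE)

end Cfsg.Agent.S0122
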