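import Cfsg.Statements.S0123
import Cfsg.Agent.Lib.Transfer.ClassThree

set_option autoImplicit false
open Cfsg
open scoped commutatorElement

namespace Cfsg.Agent.S0123

/-- For a p-group of small class relative to p (class ≤ 2 with p odd, or class ≤ 3 with p > 3) whose derived subgroup is generated by elements of order dividing p, the p-th power map is multiplicative. -/
theorem result {R : Type*} [Group R] [Finite R] {p : ℕ} [Fact p.Prime] (hR : IsPGroup p R) (hcl : (p ≠ 2 ∧ ⁅commutator R, (⊤ : Subgroup R)⁆ = ⊥) ∨ (3 < p ∧ ⁅⁅commutator R, (⊤ : Subgroup R)⁆, (⊤ : Subgroup R)⁆ = ⊥)) (hder : commutator R ≤ Subgroup.closure {x : R | x ^ p = 1}) (x y : R) : (x * y) ^ p = x ^ p * y ^ p := by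
  classical
  have hp := (Fact.out : p.Prime)
  have hcm : ∀ a b : R, ⁅a, b⁆ ∈ Subgroup.closure {x : R | x ^ p = 1} := fun a b =>
    hder (Subgroup.commutator_mem_commutator (Subgroup.mem_top a) (Subgroup.mem_top b))
  rcases hcl with ⟨hp2, h2⟩ | ⟨hp3, h3⟩
  · have hc : ∀ a b : R, ⁅a, b⁆ ∈ Subgroup.center R := fun a b => Subgroup.mem_center_iff.2 fun g => by
      have h1 : ⁅⁅a, b⁆, g⁆ ∈ (⊥ : Subgroup R) := h2 ▸ Subgroup.commutator_mem_commutator
        (Subgroup.commutator_mem_commutator (Subgroup.mem_top a) (Subgroup.mem_top b)) (Subgroup.mem_top g)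
      exact (commutatorElement_eq_one_iff_mul_comm.1 (Subgroup.mem_bot.1 h1)).symm
    obtain ⟨k, hk⟩ := hp.dvd_choose_self (k := 2) (by norm_num) (lt_of_le_of_ne hp.two_le (Ne.symm hp2))
    have hΩ : ∀ g ∈ Subgroup.closure {x : R | x ^ p = 1}, g ^ p = 1 := by
      intro g hg
      induction hg using Subgroup.closure_induction with
      | mem x hx => exact hx
      | one => exact one_pow p
      | inv x _ ih => rw [inv_pow, ih, inv_one]
      | mul a b _ _ iha ihb =>
        have h1 : ⁅b, a⁆ ^ p = 1 := by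
          rw [← CfsgLib.PGroup.comm_pow_right (hc b a), iha, commutatorElement_one_right]
        rw [CfsgLib.PGroup.mul_pow_of_comm_mem_center (hc b a), hk, pow_mul, h1, one_pow, mul_one, iha, ihb, one_mul]
    rw [CfsgLib.PGroup.mul_pow_of_comm_mem_center (hc y x), hk, pow_mul, hΩ _ (hcm y x), one_pow, mul_one]
  · have h := CfsgLib.Transfer.classThree_of_eq_bot h3
    exact CfsgLib.Transfer.mul_pow_prime_of_powers h hp hp3 x y
      (CfsgLib.Transfer.pow_eq_one_of_mem_closure h hp hp3 (hcm y x))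

end Cfsg.Agent.S0123
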