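import Cfsg.Statements.S0125
import Cfsg.Agent.Lib.Transfer.Frobenius

set_option autoImplicit false
open Cfsg

namespace Cfsg.Agent.S0125

/-- The centralizer of a self-centralizing normal subgroup A of a Sylow p-subgroup is the direct product of A with a normal p'-subgroup. -/
theorem result {G : Type*} [Group G] [Finite G] {p : ℕ} [Fact p.Prime] (R : Sylow p G) (A : Subgroup G) (hAR : A ≤ (R : Subgroup G)) (hAn : (R : Subgroup G) ≤ Subgroup.normalizer (A : Set G)) (hC : (R : Subgroup G) ⊓ Subgroup.centralizer (A : Set G) = A) : ∃ H : Subgroup G, H ≤ Subgroup.centralizer (A : Set G) ∧ Nat.Coprime (Nat.card H) p ∧ Subgroup.centralizer (A : Set G) ≤ Subgroup.normalizer (H : Set G) ∧ H ⊓ A = ⊥ ∧ H ⊔ A = Subgroup.centralizer (A : Set G) := by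
  set C := Subgroup.centralizer (A : Set G) with hCdef
  have hAC : A ≤ C := hC.ge.trans inf_le_right
  have hAp : IsPGroup p A := R.2.to_le hAR
  obtain ⟨S, hS⟩ := (hAp.of_equiv (Subgroup.subgroupOfEquivOfLe hAC).symm).exists_le_sylow
  let S' : Subgroup G := (S : Subgroup C).map C.subtype
  have hCN : C ≤ Subgroup.normalizer (A : Set G) := Subgroup.centralizer_le_normalizer _
  obtain ⟨g, hg, hgS⟩ := CfsgLib.Transfer.exists_conj_mem_sylow_of_le R hAn
    (S := S') ((Subgroup.map_subtype_le _).trans hCN) (S.2.map C.subtype)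
  have hgC : ∀ x ∈ S', g * x * g⁻¹ ∈ C := by
    intro x hx
    have hxC : x ∈ C := Subgroup.map_subtype_le _ hx
    rw [hCdef, Subgroup.mem_centralizer_iff] at hxC ⊢
    intro a ha
    have := hxC _ ((Subgroup.mem_normalizer_iff''.1 hg a).1 ha)
    calc a * (g * x * g⁻¹) = g * (g⁻¹ * a * g * x) * g⁻¹ := by group
      _ = g * (x * (g⁻¹ * a * g)) * g⁻¹ := by rw [this]
      _ = g * x * g⁻¹ * a := by group
  have hle : S'.map (MulAut.conj g).toMonoidHom ≤ A := by
    rintro _ ⟨x, hx, rfl⟩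
    exact hC ▸ ⟨hgS x hx, hgC x hx⟩
  have hAS : A ≤ S' := fun a ha => ⟨⟨a, hAC ha⟩, hS ha, rfl⟩
  have hA_eq : A = S' := Subgroup.eq_of_le_of_card_ge hAS
    ((Subgroup.card_map_of_injective (MulAut.conj g).injective).ge.trans
      (Subgroup.card_le_of_le hle))
  have hmemA : ∀ s : C, s ∈ (S : Subgroup C) → (s : G) ∈ A := fun s hs =>
    hA_eq.ge ⟨s, hs, rfl⟩
  have hcompl := CfsgLib.Transfer.hasNormalPComplement_of_normalizer_le_centralizer S (fun x _ => by
    rw [Subgroup.mem_centralizer_iff]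
    intro y hy
    exact Subtype.ext (Subgroup.mem_centralizer_iff.1 x.2 y (hmemA y hy)))
  obtain ⟨N, hN, hNS⟩ := (CfsgLib.Transfer.hasNormalPComplement_iff_sylow S).1 hcompl
  have hSA : (S : Subgroup C).map C.subtype = A := hA_eq.symm
  refine ⟨N.map C.subtype, Subgroup.map_subtype_le _, ?_, ?_, ?_, ?_⟩
  · rw [Subgroup.card_subtype]
    exact CfsgLib.Transfer.coprime_card_of_isComplement' S hNS
  · intro c hc
    rw [Subgroup.mem_normalizer_iff]
    intro y
    constructor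
    · rintro ⟨n, hn, rfl⟩
      exact ⟨⟨c, hc⟩ * n * ⟨c, hc⟩⁻¹, hN.conj_mem n hn _, rfl⟩
    · rintro ⟨n, hn, e⟩
      refine ⟨⟨c, hc⟩⁻¹ * n * (⟨c, hc⟩⁻¹)⁻¹, hN.conj_mem n hn _, ?_⟩
      rw [map_mul, map_mul, map_inv, map_inv, e]
      show c⁻¹ * (c * y * c⁻¹) * c⁻¹⁻¹ = y
      group
  · rw [← hSA, ← Subgroup.map_inf _ _ _ C.subtype_injective, disjoint_iff.1 hNS.disjoint,
      Subgroup.map_bot]
  · rw [← hSA, ← Subgroup.map_sup, hNS.sup_eq_top, ← MonoidHom.range_eq_map, Subgroup.range_subtype]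

end Cfsg.Agent.S0125
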