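import Cfsg.Statements.S0128
import Cfsg.Agent.Lib.OddLocal.RankTwo.PowerMap

set_option autoImplicit false
open Cfsg

namespace Cfsg.Agent.S0128

/-- For p > 3, in a p-group of p-rank at most 2 the elements of order dividing p generate a subgroup of exponent dividing p. -/
theorem result {R : Type*} [Group R] [Finite R] {p : ℕ} [Fact p.Prime] (hp : 3 < p) (hR : IsPGroup p R) (hrk : ∀ E : Subgroup R, Cfsg.IsElementaryAbelian p E → Nat.card E ≤ p ^ 2) (g : R) (hg : g ∈ Subgroup.closure {x : R | x ^ p = 1}) : g ^ p = 1 := by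
  have hr : Cfsg.PRankLE p 2 R := CfsgLib.PGroup.pRankLE_iff.2 hrk
  have hp5 : 5 ≤ p := by
    have h4 : p ≠ 4 := fun h => by
      have := (Fact.out : p.Prime)
      subst h
      exact absurd this (by decide)
    omega
  exact (Subgroup.closure_le (K := CfsgLib.OddLocal.RankTwo.omegaSet p hp5 hR hr)).2 (fun x hx => hx) hg

end Cfsg.Agent.S0128
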