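import Cfsg.Statements.S0129
import Cfsg.Agent.Lib.Transfer.Counting
import Cfsg.Agent.Lib.PGroup.Basic

set_option autoImplicit false
open Cfsg
open scoped commutatorElement

namespace Cfsg.Agent.S0129

universe u

theorem index_centralizer_le {p : ℕ} [Fact p.Prime] (a : ℕ) : ∀ (G : Type u) [Group G] [Finite G],
    IsPGroup p G → ∀ (A : Subgroup G) [A.Normal], IsMulCommutative A → Nat.card A = p ^ a →
      (Subgroup.centralizer (A : Set G)).index ≤ p ^ (a * (a - 1) / 2) := by
  induction a with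
  | zero =>
    intro G _ _ _ A _ _ hcard
    rw [pow_zero] at hcard
    rw [Subgroup.card_eq_one.1 hcard, show Subgroup.centralizer ((⊥ : Subgroup G) : Set G) = ⊤ from
      eq_top_iff.2 fun g _ => Subgroup.mem_centralizer_iff.2 fun x hx => by
        rw [Subgroup.coe_bot, Set.mem_singleton_iff] at hx
        rw [hx, one_mul, mul_one], Subgroup.index_top]
    simp
  | succ a ih =>
    intro G _ _ hG A _ hA hcard
    have hpp : p.Prime := Fact.out
    have hA1 : A ≠ ⊥ := fun h => by
      rw [h, Subgroup.card_bot] at hcard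
      exact (Nat.one_lt_pow a.succ_ne_zero hpp.one_lt).ne hcard
    obtain ⟨Z, hZA, hZc, hZn, hZp⟩ := CfsgLib.PGroup.exists_card_eq_le_center hG A hA1
    let π := QuotientGroup.mk' Z
    have : (A.map π).Normal := (inferInstance : A.Normal).map π (QuotientGroup.mk'_surjective Z)
    have hcard' : Nat.card (A.map π) = p ^ a := by
      have h1 := Subgroup.card_mul_index (Z.subgroupOf A)
      rw [Nat.card_congr (Subgroup.subgroupOfEquivOfLe hZA).toEquiv, hZp, hcard, pow_succ'] at h1
      have h2 : Nat.card (A.map π) = (Z.subgroupOf A).index := by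
        rw [show A.map π = (π.comp A.subtype).range by rw [MonoidHom.range_comp, Subgroup.range_subtype],
          ← Subgroup.index_ker, show (π.comp A.subtype).ker = Z.subgroupOf A from
          (MonoidHom.comap_ker π A.subtype).symm.trans (by rw [QuotientGroup.ker_mk']; rfl)]
      rw [h2]
      exact Nat.eq_of_mul_eq_mul_left hpp.pos h1
    have hA' : IsMulCommutative (A.map π) := by
      refine ⟨⟨?_⟩⟩
      rintro ⟨_, x, hx, rfl⟩ ⟨_, y, hy, rfl⟩
      exact Subtype.ext (show π x * π y = π y * π x by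
        rw [← map_mul, ← map_mul, show x * y = y * x from
          congrArg Subtype.val (hA.is_comm.comm (⟨x, hx⟩ : A) ⟨y, hy⟩)])
    have h1 := ih (G ⧸ Z) (hG.to_quotient Z) (A.map π) hA' hcard'
    set C := Subgroup.centralizer (A : Set G) with hC
    set C1 := (Subgroup.centralizer ((A.map π : Subgroup (G ⧸ Z)) : Set (G ⧸ Z))).comap π with hC1
    have hle : C ≤ C1 := by
      intro g hg
      rw [hC1, Subgroup.mem_comap, Subgroup.mem_centralizer_iff]
      rintro _ ⟨x, hx, rfl⟩
      rw [← map_mul, ← map_mul, Subgroup.mem_centralizer_iff.1 hg x hx]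
    have hin : ∀ g ∈ C1, ∀ x ∈ A, ⁅x, g⁆ ∈ Z := by
      intro g hg x hx
      rw [← QuotientGroup.eq_one_iff]
      show π ⁅x, g⁆ = 1
      rw [map_commutatorElement, commutatorElement_eq_one_iff_mul_comm]
      exact Subgroup.mem_centralizer_iff.1 hg _ ⟨x, hx, rfl⟩
    let ψ : C1 → (A →* Z) := fun g =>
      { toFun := fun x => ⟨⁅(x : G), (g : G)⁆, hin g g.2 x x.2⟩
        map_one' := Subtype.ext (commutatorElement_one_left (g : G))
        map_mul' := fun x y => Subtype.ext (by
          show ⁅((x : G) * y), (g : G)⁆ = ⁅(x : G), (g : G)⁆ * ⁅(y : G), (g : G)⁆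
          exact CfsgLib.PGroup.comm_mul_left (hZc (hin g g.2 y y.2))) }
    have hker : ∀ g, Z.subgroupOf A ≤ (ψ g).ker := fun g z hz => Subtype.ext (by
      show ⁅(z : G), (g : G)⁆ = 1
      rw [commutatorElement_eq_one_iff_mul_comm]
      exact (Subgroup.mem_center_iff.1 (hZc hz) g).symm)
    have hZAn : (Z.subgroupOf A).Normal := hZn.subgroupOf A
    let Φ : C1 ⧸ C.subgroupOf C1 → (A ⧸ Z.subgroupOf A →* Z) := fun q =>
      QuotientGroup.lift _ (ψ q.out) (hker _)
    have hinj : Function.Injective Φ := by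
      intro q q' he
      rw [← QuotientGroup.out_eq' q, ← QuotientGroup.out_eq' q', eq_comm, QuotientGroup.eq,
        Subgroup.mem_subgroupOf]
      refine Subgroup.mem_centralizer_iff.2 fun x hx => ?_
      have h2 : (⁅x⁻¹, ((q.out : C1) : G)⁆ : G) = ⁅x⁻¹, ((q'.out : C1) : G)⁆ :=
        congrArg Subtype.val
          (DFunLike.congr_fun he ((⟨x⁻¹, A.inv_mem hx⟩ : A) : A ⧸ Z.subgroupOf A))
      push_cast
      generalize ((q.out : C1) : G) = g at h2 ⊢
      generalize ((q'.out : C1) : G) = g' at h2 ⊢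
      rw [commutatorElement_def, commutatorElement_def, inv_inv] at h2
      calc x * (g'⁻¹ * g) = g'⁻¹ * (x * (x⁻¹ * g' * x * g'⁻¹)) * g := by group
        _ = g'⁻¹ * (x * (x⁻¹ * g * x * g⁻¹)) * g := by rw [h2]
        _ = g'⁻¹ * g * x := by group
    have : Finite (A ⧸ Z.subgroupOf A →* Z) := Finite.of_injective _ DFunLike.coe_injective
    have h2 : C.relIndex C1 ≤ p ^ a := by
      refine ((Nat.card_le_card_of_injective Φ hinj).trans (CfsgLib.Transfer.card_hom_le hZp)).trans ?_
      refine le_of_eq ?_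
      have h3 := Subgroup.card_mul_index (Z.subgroupOf A)
      rw [Nat.card_congr (Subgroup.subgroupOfEquivOfLe hZA).toEquiv, hZp, hcard, pow_succ'] at h3
      exact Nat.eq_of_mul_eq_mul_left hpp.pos h3
    rw [← Subgroup.relIndex_mul_index hle, hC1,
      Subgroup.index_comap_of_surjective _ (QuotientGroup.mk'_surjective Z), ← hC1]
    refine (Nat.mul_le_mul h2 h1).trans (le_of_eq ?_)
    rw [← pow_add]
    congr 1
    rcases Nat.eq_zero_or_pos a with rfl | ha
    · rfl
    · obtain ⟨b, rfl⟩ : ∃ b, a = b + 1 := ⟨a - 1, by omega⟩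
      simp only [Nat.add_sub_cancel]
      rw [show (b + 1 + 1) * (b + 1) = (b + 1) * b + (b + 1) * 2 by ring,
        Nat.add_mul_div_right _ _ (by norm_num : 0 < 2), add_comm]

/-- The order of a p-group is bounded by p^(a(a+1)/2) when it has a maximal normal abelian subgroup of order p^a. -/
theorem result {G : Type*} [Group G] [Finite G] {p : ℕ} [Fact p.Prime] (hG : IsPGroup p G) (A : Subgroup G) [A.Normal] (hA : IsMulCommutative A) (hmax : ∀ B : Subgroup G, B.Normal → IsMulCommutative B → A ≤ B → B = A) (a : ℕ) (ha : Nat.card A = p ^ a) : Nat.card G ≤ p ^ (a * (a + 1) / 2) := by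
  obtain ⟨A', hAA', hA'n, hA'c, hA'C⟩ := CfsgLib.PGroup.exists_normal_abelian_centralizer_eq hG A
    inferInstance (fun x hx y hy => congrArg Subtype.val (hA.is_comm.comm (⟨x, hx⟩ : A) ⟨y, hy⟩))
  obtain rfl : A' = A := hmax A' hA'n hA'c hAA'
  have h := index_centralizer_le a G hG A' hA ha
  rw [hA'C] at h
  rw [← Subgroup.card_mul_index A', ha]
  refine (Nat.mul_le_mul le_rfl h).trans (le_of_eq ?_)
  rw [← pow_add]
  congr 1
  rcases Nat.eq_zero_or_pos a with rfl | ha'
  · rfl
  · obtain ⟨b, rfl⟩ : ∃ b, a = b + 1 := ⟨a - 1, by omega⟩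
    simp only [Nat.add_sub_cancel]
    rw [show (b + 1) * (b + 1 + 1) = (b + 1) * b + (b + 1) * 2 by ring,
      Nat.add_mul_div_right _ _ (by norm_num : 0 < 2), add_comm]

end Cfsg.Agent.S0129
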