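import Cfsg.Statements.S0130
import Cfsg.Agent.Lib.PGroup.Basic

set_option autoImplicit false
open Cfsg
open scoped commutatorElement

namespace Cfsg.Agent.S0130

theorem dvd_choose_two {p n : ℕ} (hp : p.Prime) (hn : 1 ≤ n) (hq : p ^ n ≠ 2) : p ∣ (p ^ n).choose 2 := by
  rcases hp.eq_two_or_odd' with rfl | hodd
  · have h2 : 2 ≤ n := by
      by_contra h
      exact hq (by rw [show n = 1 by omega, pow_one])
    obtain ⟨m, rfl⟩ : ∃ m, n = m + 2 := ⟨n - 2, by omega⟩
    refine ⟨2 ^ m * (2 ^ (m + 2) - 1), ?_⟩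
    rw [Nat.choose_two_right]
    have : 2 ^ (m + 2) = 2 * (2 * 2 ^ m) := by ring
    rw [this, mul_assoc 2 (2 * 2 ^ m), Nat.mul_div_cancel_left _ (by norm_num : 0 < 2)]
    ring
  · have h3 : 2 < p := lt_of_le_of_ne hp.two_le (fun h => by rw [← h] at hodd; exact absurd hodd (by decide))
    rw [Nat.choose_two_right, Nat.mul_div_assoc]
    · exact dvd_mul_of_dvd_left (dvd_pow_self p (by omega)) _
    · have : Odd (p ^ n) := hodd.pow
      obtain ⟨k, hk⟩ := this
      exact ⟨k, by omega⟩

open Subgroup in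
/-- The predicate of the candidates: a cyclic extension of `A` of order `p` that is abelian of exponent `q`. -/
def Cand {G : Type*} [Group G] (A D : Subgroup G) (p q : ℕ) : Prop :=
  A ≤ D ∧ A.relIndex D = p ∧ IsMulCommutative D ∧ ∀ d ∈ D, d ^ q = 1

open Subgroup in
theorem conj_map_eq {G : Type*} [Group G] [Finite G] {A : Subgroup G} {h : G} (hh : h ∈ normalizer (A : Set G)) :
    A.map (MulAut.conj h).toMonoidHom = A := by
  refine eq_of_le_of_card_ge ?_ (le_of_eq (card_map_of_injective (MulAut.conj h).injective).symm)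
  rintro _ ⟨a, ha, rfl⟩
  exact (mem_normalizer_iff.1 hh a).1 ha

open Subgroup in
theorem exists_cand {G : Type*} [Group G] [Finite G] {p : ℕ} [Fact p.Prime] (hG : IsPGroup p G) {q : ℕ}
    (A : Subgroup G) [A.Normal] (hAc : IsMulCommutative A) {F : Subgroup G} (hAF : A < F)
    (hFC : F ≤ centralizer (A : Set G)) (hFq : ∀ f ∈ F, f ^ q = 1) :
    ∃ W, Cand A W p q ∧ normalizer (F : Set G) ≤ normalizer (W : Set G) := by
  set M := normalizer (F : Set G)
  set π := QuotientGroup.mk' A with hπ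
  have hFM : F.map π ≤ M.map π := map_mono le_normalizer
  have hn : ((F.map π).subgroupOf (M.map π)).Normal := by
    rw [normal_subgroupOf_iff_le_normalizer hFM]
    exact le_normalizer_map π
  have hne : (F.map π).subgroupOf (M.map π) ≠ ⊥ := by
    rw [Ne, subgroupOf_eq_bot, disjoint_iff, inf_eq_left.2 hFM, Subgroup.map_eq_bot_iff, QuotientGroup.ker_mk']
    exact hAF.not_ge
  obtain ⟨Z, hZle, -, hZn, hZ⟩ := CfsgLib.PGroup.exists_card_eq_le_center
    ((hG.to_quotient A).to_subgroup (M.map π)) _ hne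
  set Zg := Z.map (M.map π).subtype with hZg
  set W := Zg.comap π with hW
  have hAW : A ≤ W := (QuotientGroup.ker_mk' A).ge.trans (MonoidHom.ker_le_comap π Zg)
  have hWF : W ≤ F := by
    refine (comap_mono (show Zg ≤ F.map π from ?_)).trans ?_
    · rintro _ ⟨z, hz, rfl⟩
      exact hZle hz
    · rw [comap_map_eq, QuotientGroup.ker_mk']
      exact sup_le le_rfl hAF.le
  have hWi : A.relIndex W = p := by
    rw [show A.relIndex W = π.ker.relIndex W by rw [hπ, QuotientGroup.ker_mk'], relIndex_ker,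
      map_comap_eq_self_of_surjective (QuotientGroup.mk'_surjective A), hZg,
      card_map_of_injective (M.map π).subtype_injective, hZ]
  refine ⟨W, ⟨hAW, hWi, ?_, fun w hw => hFq w (hWF hw)⟩, ?_⟩
  · obtain ⟨w, hwW, hwA⟩ : ∃ w ∈ W, w ∉ A := SetLike.not_le_iff_exists.1 fun h => by
      rw [relIndex_eq_one.2 h] at hWi
      exact (Fact.out : p.Prime).ne_one hWi.symm
    have hgen : W ≤ A ⊔ zpowers w := by
      have h1 : A.relIndex (A ⊔ zpowers w) * (A ⊔ zpowers w).relIndex W = p := by
        rw [relIndex_mul_relIndex _ _ _ le_sup_left (sup_le hAW (zpowers_le.2 hwW)), hWi]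
      rcases (Nat.dvd_prime Fact.out).1 (Dvd.intro _ h1) with h | h
      · exact absurd (relIndex_eq_one.1 h (mem_sup_right (mem_zpowers w))) hwA
      · rw [h] at h1
        exact relIndex_eq_one.1 (Nat.eq_of_mul_eq_mul_left (Fact.out : p.Prime).pos (h1.trans (mul_one p).symm))
    have hc : W ≤ centralizer (W : Set G) := by
      have h1 : A ⊔ zpowers w ≤ centralizer ((A ⊔ zpowers w : Subgroup G) : Set G) := by
        have hwC : w ∈ centralizer (A : Set G) := hFC (hWF hwW)
        have hA : A ≤ centralizer ((A ⊔ zpowers w : Subgroup G) : Set G) := by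
          rw [le_centralizer_iff]
          refine sup_le ?_ (zpowers_le.2 hwC)
          exact fun a ha => mem_centralizer_iff.2 fun b hb => congrArg Subtype.val (hAc.is_comm.comm ⟨b, hb⟩ ⟨a, ha⟩)
        refine sup_le hA ?_
        rw [le_centralizer_iff]
        refine sup_le (fun a ha => ?_) ?_
        · exact mem_centralizer_iff.2 fun b hb => by
            obtain ⟨i, rfl⟩ := hb
            exact ((Commute.zpow_right (mem_centralizer_iff.1 hwC a ha) i).eq).symm
        · exact le_centralizer_iff.1 (le_centralizer (zpowers w))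
      exact hgen.trans (h1.trans (centralizer_le hgen))
    exact ⟨⟨fun a b => Subtype.ext (mem_centralizer_iff.1 (hc b.2) a a.2)⟩⟩
  · intro m hm
    have key : ∀ u ∈ M, ∀ w ∈ W, u * w * u⁻¹ ∈ W := by
      intro u hu w hw
      obtain ⟨z, hz, hzw⟩ := hw
      show π (u * w * u⁻¹) ∈ Zg
      refine ⟨⟨π u, mem_map_of_mem π hu⟩ * z * ⟨π u, mem_map_of_mem π hu⟩⁻¹, hZn.conj_mem z hz _, ?_⟩
      show π u * (z : G ⧸ A) * (π u)⁻¹ = π (u * w * u⁻¹)
      rw [show (z : G ⧸ A) = π w from hzw, ← map_inv, ← map_mul, ← map_mul]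
    exact mem_normalizer_iff.2 fun w => ⟨key m hm w, fun h => by
      simpa [mul_assoc] using key m⁻¹ (inv_mem hm) _ h⟩


/-- If A is maximal among the normal abelian subgroups of exponent dividing p^n of a p-group (p^n ≠ 2), then A contains every element of order dividing p^n in its centralizer. -/
theorem result {G : Type*} [Group G] [Finite G] {p : ℕ} [Fact p.Prime] (hG : IsPGroup p G) (n : ℕ) (hn : p ^ n ≠ 2) (A : Subgroup G) [A.Normal] (hA : IsMulCommutative A) (hAe : ∀ a ∈ A, a ^ p ^ n = 1) (hmax : ∀ B : Subgroup G, B.Normal → IsMulCommutative B → (∀ b ∈ B, b ^ p ^ n = 1) → A ≤ B → B = A) (x : G) (hx : x ∈ Subgroup.centralizer (A : Set G)) (hxn : x ^ p ^ n = 1) : x ∈ A := by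
  classical
  have hp := (Fact.out : p.Prime)
  rcases Nat.eq_zero_or_pos n with rfl | hn1
  · rw [pow_zero, pow_one] at hxn
    exact hxn ▸ A.one_mem
  set q := p ^ n with hq
  set π := QuotientGroup.mk' A with hπ
  by_contra hxA
  have hAcomm : ∀ a ∈ A, ∀ b ∈ A, a * b = b * a := fun a ha b hb => congrArg Subtype.val (hA.is_comm.comm ⟨a, ha⟩ ⟨b, hb⟩)
  have hS : ∃ D, Cand A D p q := by
    set F := A ⊔ Subgroup.zpowers x
    have hxa : ∀ a ∈ A, Commute x a := fun a ha => (Subgroup.mem_centralizer_iff.1 hx a ha).symm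
    have hFC : F ≤ Subgroup.centralizer (A : Set G) :=
      sup_le (fun a ha => Subgroup.mem_centralizer_iff.2 fun b hb => hAcomm b hb a ha) (Subgroup.zpowers_le.2 hx)
    have hFq : ∀ f ∈ F, f ^ q = 1 := by
      intro f hf
      rw [← SetLike.mem_coe, Subgroup.normal_mul] at hf
      obtain ⟨a, ha, _, ⟨i, rfl⟩, rfl⟩ := hf
      show (a * x ^ i) ^ q = 1
      rw [((hxa a ha).zpow_left i).symm.mul_pow, hAe a ha, one_mul, ← zpow_natCast, ← zpow_mul, mul_comm,
        zpow_mul, zpow_natCast, hxn, one_zpow]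
    obtain ⟨W, hW, -⟩ := exists_cand hG A hA (F := F)
      (lt_of_le_of_ne le_sup_left fun h => hxA (h.ge (Subgroup.mem_sup_right (Subgroup.mem_zpowers x)))) hFC hFq
    exact ⟨W, hW⟩
  obtain ⟨D, hD, hDmax⟩ := Set.exists_max_image {D | Cand A D p q}
    (fun D => Nat.card (Subgroup.normalizer (D : Set G))) (Set.toFinite _) hS
  obtain ⟨hAD, hDi, hDc, hDq⟩ := hD
  set N := Subgroup.normalizer (D : Set G) with hN
  have hNtop : N ≠ ⊤ := fun h => by
    have := hmax D (Subgroup.normalizer_eq_top_iff.1 h) hDc hDq hAD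
    rw [this, Subgroup.relIndex_self] at hDi
    exact hp.ne_one hDi.symm
  set N1 := Subgroup.normalizer (N : Set G) with hN1
  have hlt : N < N1 := by
    have := hG.isNilpotent
    exact Group.normalizerCondition_of_isNilpotent N (lt_top_iff_ne_top.2 hNtop)
  have hDC : D ≤ Subgroup.centralizer (A : Set G) := fun d hd => Subgroup.mem_centralizer_iff.2 fun a ha =>
    congrArg Subtype.val (hDc.is_comm.comm ⟨a, hAD ha⟩ ⟨d, hd⟩)
  -- generators of `F`
  set S : Set G := {f | ∃ h ∈ N1, ∃ d ∈ D, h * d * h⁻¹ = f} with hS'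
  have hSC : ∀ f ∈ S, f ∈ Subgroup.centralizer (A : Set G) := by
    rintro _ ⟨h, -, d, hd, rfl⟩
    exact (inferInstance : (Subgroup.centralizer (A : Set G)).Normal).conj_mem d (hDC hd) h
  have hSp : ∀ f ∈ S, f ^ p ∈ A ∧ f ^ q = 1 := by
    rintro _ ⟨h, -, d, hd, rfl⟩
    rw [conj_pow, conj_pow, hDq d hd, mul_one, mul_inv_cancel]
    refine ⟨(inferInstance : A.Normal).conj_mem _ ?_ h, rfl⟩
    have := (A.subgroupOf D).pow_index_mem ⟨d, hd⟩
    rw [show (A.subgroupOf D).index = p from hDi] at this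
    exact this
  have hScomm : ∀ f ∈ S, ∀ g ∈ S, ⁅f, g⁆ ∈ A := by
    rintro _ ⟨h, hh, d, hd, rfl⟩ _ ⟨k, hk, e, he, rfl⟩
    -- reduce to `D` and a conjugate of `D`
    set u := h⁻¹ * k
    have hu : u ∈ N1 := mul_mem (inv_mem hh) hk
    suffices ⁅d, u * e * u⁻¹⁆ ∈ A by
      have h2 : ⁅h * d * h⁻¹, k * e * k⁻¹⁆ = h * ⁅d, u * e * u⁻¹⁆ * h⁻¹ := by
        simp only [u, commutatorElement_def]; group
      rw [h2]
      exact (inferInstance : A.Normal).conj_mem _ this h
    set D' := D.map (MulAut.conj u).toMonoidHom with hD'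
    have he' : u * e * u⁻¹ ∈ D' := ⟨e, he, rfl⟩
    have hAD' : A ≤ D' := fun a ha => ⟨u⁻¹ * a * u, hAD ((inferInstance : A.Normal).conj_mem' a ha u), by
      show u * (u⁻¹ * a * u) * u⁻¹ = a
      group⟩
    have hcomm : ⁅d, u * e * u⁻¹⁆ ∈ D ⊓ D' := by
      have hdN : d ∈ N := Subgroup.le_normalizer hd
      have heN : u * e * u⁻¹ ∈ N := (Subgroup.mem_normalizer_iff.1 hu e).1 (Subgroup.le_normalizer he)
      refine Subgroup.mem_inf.2 ⟨?_, ?_⟩
      · rw [commutatorElement_def, show d * (u * e * u⁻¹) * d⁻¹ * (u * e * u⁻¹)⁻¹ =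
          d * ((u * e * u⁻¹) * d⁻¹ * (u * e * u⁻¹)⁻¹) by group]
        exact mul_mem hd ((Subgroup.mem_normalizer_iff.1 heN d⁻¹).1 (inv_mem hd))
      · -- `d` normalizes `D'`
        have hdN' : d ∈ Subgroup.normalizer (D' : Set G) := by
          have hd' : u⁻¹ * d * u ∈ N := by
            simpa using (Subgroup.mem_normalizer_iff.1 (inv_mem hu) d).1 hdN
          have h3 := Subgroup.le_normalizer_map (MulAut.conj u).toMonoidHom
            (H := D) (Subgroup.mem_map_of_mem (MulAut.conj u).toMonoidHom hd')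
          convert h3 using 1
          show d = u * (u⁻¹ * d * u) * u⁻¹
          group
        rw [commutatorElement_def]
        exact mul_mem ((Subgroup.mem_normalizer_iff.1 hdN' _).1 he') (inv_mem he')
    by_cases hle : D ≤ D'
    · have hEq : D = D' := Subgroup.eq_of_le_of_card_ge hle
        (le_of_eq (Subgroup.card_map_of_injective (MulAut.conj u).injective))
      rw [← hEq] at he'
      rw [commutatorElement_eq_one_iff_mul_comm.2 (congrArg Subtype.val (hDc.is_comm.comm ⟨d, hd⟩ ⟨_, he'⟩))]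
      exact A.one_mem
    · have h1 : A.relIndex (D ⊓ D') * (D ⊓ D').relIndex D = p := by
        rw [Subgroup.relIndex_mul_relIndex _ _ _ (le_inf hAD hAD') inf_le_left, hDi]
      rcases (Nat.dvd_prime hp).1 (Dvd.intro _ h1) with h | h
      · exact Subgroup.relIndex_eq_one.1 h hcomm
      · rw [h] at h1
        exact absurd ((Subgroup.relIndex_eq_one.1
          (Nat.eq_of_mul_eq_mul_left hp.pos (h1.trans (mul_one p).symm))).trans inf_le_right) hle
  set F := Subgroup.closure S with hF
  have hDS : (D : Set G) ⊆ S := fun d hd => ⟨1, one_mem _, d, hd, by group⟩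
  have hDF : D ≤ F := fun d hd => Subgroup.subset_closure (hDS hd)
  have hFC : F ≤ Subgroup.centralizer (A : Set G) := (Subgroup.closure_le _).2 hSC
  have hFab : ∀ f ∈ F, ∀ g ∈ F, ⁅f, g⁆ ∈ A := by
    intro f hf g hg
    have hc : IsMulCommutative (Subgroup.closure (π '' S)) := Subgroup.isMulCommutative_closure (by
      rintro _ ⟨a, ha, rfl⟩ _ ⟨b, hb, rfl⟩
      have : π ⁅a, b⁆ = 1 := (QuotientGroup.eq_one_iff _).2 (hScomm a ha b hb)
      rwa [map_commutatorElement, commutatorElement_eq_one_iff_mul_comm] at this)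
    have hfm : π f ∈ Subgroup.closure (π '' S) := by rw [← MonoidHom.map_closure]; exact Subgroup.mem_map_of_mem π hf
    have hgm : π g ∈ Subgroup.closure (π '' S) := by rw [← MonoidHom.map_closure]; exact Subgroup.mem_map_of_mem π hg
    rw [← QuotientGroup.eq_one_iff, ← QuotientGroup.mk'_apply, map_commutatorElement,
      commutatorElement_eq_one_iff_mul_comm]
    exact congrArg Subtype.val (hc.is_comm.comm ⟨_, hfm⟩ ⟨_, hgm⟩)
  have hFq : ∀ f ∈ F, f ^ q = 1 ∧ f ^ p ∈ A := by
    intro f hf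
    induction hf using Subgroup.closure_induction with
    | mem f hf => exact ⟨(hSp f hf).2, (hSp f hf).1⟩
    | one => exact ⟨one_pow _, by rw [one_pow]; exact A.one_mem⟩
    | inv f _ ih => exact ⟨by rw [inv_pow, ih.1, inv_one], by rw [inv_pow]; exact inv_mem ih.2⟩
    | mul f g hf hg ihf ihg =>
      have hpA : ∀ g : G, g ^ p ∈ A ↔ π g ^ p = 1 := fun g => by
        rw [← map_pow]; exact (QuotientGroup.eq_one_iff _).symm
      have hfg : Commute (π f) (π g) := by
        have : π ⁅f, g⁆ = 1 := (QuotientGroup.eq_one_iff _).2 (hFab f hf g hg)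
        rwa [map_commutatorElement, commutatorElement_eq_one_iff_mul_comm] at this
      refine ⟨?_, (hpA _).2 (by rw [map_mul, hfg.mul_pow, (hpA f).1 ihf.2, (hpA g).1 ihg.2, one_mul])⟩
      -- compute inside `F`, where commutators are central
      have hc : ∀ a b : F, ⁅a, b⁆ ∈ Subgroup.center F := fun a b => Subgroup.mem_center_iff.2 fun e =>
        Subtype.ext ((Subgroup.mem_centralizer_iff.1 (hFC e.2) _ (hFab a a.2 b b.2)).symm)
      set f' : F := ⟨f, hf⟩
      set g' : F := ⟨g, hg⟩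
      have hp' : ⁅g', f'⁆ ^ p = 1 := by
        rw [← CfsgLib.PGroup.comm_pow_left (hc g' f'), commutatorElement_eq_one_iff_mul_comm]
        exact Subtype.ext (by simpa using Subgroup.mem_centralizer_iff.1 (hFC hf) _ ihg.2)
      obtain ⟨k, hk⟩ := dvd_choose_two hp hn1 hn
      have h4 := CfsgLib.PGroup.mul_pow_of_comm_mem_center (hc g' f') q
      rw [hq, hk, pow_mul _ p k, hp', one_pow, mul_one] at h4
      have h5 := congrArg Subtype.val h4
      simp only [SubmonoidClass.coe_pow, Subgroup.coe_mul, f', g'] at h5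
      rw [hq, h5, ← hq, ihf.1, ihg.1, one_mul]
  obtain ⟨W, hW, hWn⟩ := exists_cand hG A hA (F := F)
    (lt_of_lt_of_le (lt_of_le_of_ne hAD fun h => hp.ne_one (by rw [h, Subgroup.relIndex_self] at hDi; exact hDi.symm)) hDF)
    hFC (fun f hf => (hFq f hf).1)
  have hN1W : N1 ≤ Subgroup.normalizer (W : Set G) := by
    refine le_trans ?_ hWn
    intro k hk
    have key : ∀ k ∈ N1, F.map (MulAut.conj k).toMonoidHom ≤ F := by
      intro k hk
      rw [hF, MonoidHom.map_closure, Subgroup.closure_le]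
      rintro _ ⟨_, ⟨h, hh, d, hd, rfl⟩, rfl⟩
      exact Subgroup.subset_closure ⟨k * h, mul_mem hk hh, d, hd, by
        show k * h * d * (k * h)⁻¹ = k * (h * d * h⁻¹) * k⁻¹
        group⟩
    exact Subgroup.mem_normalizer_iff.2 fun f => ⟨fun hf => key k hk ⟨f, hf, rfl⟩, fun hf => by
      have h2 := key k⁻¹ (inv_mem hk) ⟨_, hf, rfl⟩
      simpa [mul_assoc] using h2⟩
  have h1 := hDmax W hW
  have h2 : Nat.card N < Nat.card (Subgroup.normalizer (W : Set G)) := by
    refine lt_of_lt_of_le ?_ (Subgroup.card_le_of_le hN1W)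
    by_contra h
    exact hlt.ne (Subgroup.eq_of_le_of_card_ge hlt.le (le_of_not_gt h))
  exact absurd h1 (not_le.2 h2)

end Cfsg.Agent.S0130
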