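import Cfsg.Statements.S0131
import Cfsg.Agent.Lib.Transfer.Basic

set_option autoImplicit false
open Cfsg

namespace Cfsg.Agent.S0131

/-- P/P' has a normal complement in G exactly when the focal subgroup G' ∩ P is as small as possible, namely P'. -/
theorem result {G : Type*} [Group G] [Finite G] {p : ℕ} [Fact p.Prime] (P : Sylow p G) : (∃ N : Subgroup G, N.Normal ∧ N ⊓ (P : Subgroup G) = ⁅(P : Subgroup G), (P : Subgroup G)⁆ ∧ N ⊔ (P : Subgroup G) = ⊤) ↔ commutator G ⊓ (P : Subgroup G) = ⁅(P : Subgroup G), (P : Subgroup G)⁆ := by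
  constructor
  · rintro ⟨N, hN, hinf, hsup⟩
    have hcomm : commutator G ≤ N := by
      rw [← Subgroup.Normal.quotient_commutative_iff_commutator_le]
      refine ⟨⟨fun a b => ?_⟩⟩
      obtain ⟨x, rfl⟩ := QuotientGroup.mk'_surjective N a
      obtain ⟨y, rfl⟩ := QuotientGroup.mk'_surjective N b
      have hdec : ∀ g : G, ∃ q ∈ (P : Subgroup G), (g : G ⧸ N) = q := by
        intro g
        have hg : g ∈ N ⊔ (P : Subgroup G) := hsup ▸ Subgroup.mem_top g
        rw [← SetLike.mem_coe, Subgroup.normal_mul] at hg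
        obtain ⟨r, hr, q, hq, rfl⟩ := hg
        exact ⟨q, hq, by rw [QuotientGroup.mk_mul, (QuotientGroup.eq_one_iff r).2 hr, one_mul]⟩
      obtain ⟨q, hq, hqe⟩ := hdec x
      obtain ⟨s, hs, hse⟩ := hdec y
      rw [QuotientGroup.mk'_apply, QuotientGroup.mk'_apply, hqe, hse, ← QuotientGroup.mk_mul,
        ← QuotientGroup.mk_mul, QuotientGroup.eq_iff_div_mem]
      have hm : q * s / (s * q) ∈ ⁅(P : Subgroup G), (P : Subgroup G)⁆ := by
        open scoped commutatorElement in
        rw [show q * s / (s * q) = ⁅q, s⁆ by rw [commutatorElement_def, div_eq_mul_inv]; group]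
        exact Subgroup.commutator_mem_commutator hq hs
      rw [← hinf] at hm
      exact hm.1
    refine le_antisymm (le_trans (inf_le_inf_right _ hcomm) hinf.le) (le_inf ?_ ?_)
    · exact Subgroup.commutator_mono le_top le_top
    · exact (P : Subgroup G).commutator_le_self
  · intro h
    refine ⟨(P : Subgroup G).transferFocal.ker, MonoidHom.normal_ker _, ?_, ?_⟩
    · rw [Subgroup.ker_transferFocal_inf_eq_focalSubgroup, ← Subgroup.commutator_inf_eq_focalSubgroup, h]
    · rw [eq_top_iff]
      intro g _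
      obtain ⟨q, hq⟩ := Subgroup.focalSubgroupOf.pow_index_surjective P
        ((P : Subgroup G).transferFocal g)
      obtain ⟨x, rfl⟩ := QuotientGroup.mk'_surjective _ q
      have : g * ((x : G))⁻¹ ∈ (P : Subgroup G).transferFocal.ker := by
        rw [MonoidHom.mem_ker, map_mul, map_inv, Subgroup.transferFocal_eq_pow]
        show _ * ((fun y => y ^ (P : Subgroup G).index) (QuotientGroup.mk' _ x))⁻¹ = 1
        rw [hq, mul_inv_cancel]
      simpa using mul_mem (Subgroup.mem_sup_left (T := (P : Subgroup G)) this)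
        (Subgroup.mem_sup_right (S := (P : Subgroup G).transferFocal.ker) x.2)

end Cfsg.Agent.S0131
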