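import Cfsg.Statements.S0158
import Cfsg.Agent.Lib.Char.FrobeniusSchur

set_option autoImplicit false
open Cfsg

namespace Cfsg.Agent.S0158

open CfsgLib.Char

/-- The Frobenius–Schur indicator of an irreducible complex representation of a finite group — the average over s of the character at s * s — is 0, 1 or −1, and it vanishes exactly when some character value is not real. -/
theorem result {G : Type*} [Group G] [Fintype G] {V : Type*} [AddCommGroup V] [Module ℂ V] [FiniteDimensional ℂ V] (ρ : Representation ℂ G V) [ρ.IsIrreducible] : ((Nat.card G : ℂ)⁻¹ * ∑ s : G, ρ.character (s * s) = 0 ∨ (Nat.card G : ℂ)⁻¹ * ∑ s : G, ρ.character (s * s) = 1 ∨ (Nat.card G : ℂ)⁻¹ * ∑ s : G, ρ.character (s * s) = -1) ∧ ((Nat.card G : ℂ)⁻¹ * ∑ s : G, ρ.character (s * s) = 0 ↔ ∃ s : G, (ρ.character s).im ≠ 0) := by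
  classical
  obtain ⟨n, σ, hσ, he⟩ := isIrrCharacter_char ρ
  rw [← he]
  have hcj : ∀ z : ℂ, starRingEnd ℂ z = z ↔ z.im = 0 := fun z => Complex.conj_eq_iff_im
  by_cases hreal : ∀ g, starRingEnd ℂ (σ.character g) = σ.character g
  · have hno : ¬ ∃ s, (σ.character s).im ≠ 0 := fun ⟨s, hs⟩ => hs ((hcj _).mp (hreal s))
    rcases fsIndicator_of_real σ hreal with h | ⟨h, -⟩ <;> rw [h]
    · exact ⟨Or.inr (Or.inl rfl), iff_of_false one_ne_zero hno⟩
    · exact ⟨Or.inr (Or.inr rfl), iff_of_false (neg_ne_zero.mpr one_ne_zero) hno⟩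
  · refine ⟨Or.inl (fsIndicator_of_not_real σ hreal), iff_of_true (fsIndicator_of_not_real σ hreal) ?_⟩
    by_contra hno
    push Not at hno
    exact hreal fun g => (hcj _).mpr (hno g)

end Cfsg.Agent.S0158
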