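import Cfsg.Statements.S0160
import Cfsg.Agent.Lib.Char.PermLemma

set_option autoImplicit false
open Cfsg

namespace Cfsg.Agent.S0160

/-- A finite group has as many real-valued irreducible complex characters as conjugacy classes closed under taking inverses. -/
theorem result {G : Type*} [Group G] [Finite G] : Nat.card {χ : Cfsg.IrrCharacter G // ∀ g : G, ((χ : G → ℂ) g).im = 0} = Nat.card {C : ConjClasses G // ∀ g : G, ConjClasses.mk g = C → IsConj g g⁻¹} := by
  have h := CfsgLib.Char.card_real_irr (G := G)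
  refine Eq.trans (Nat.card_congr (Equiv.subtypeEquivRight fun χ => ?_)) (h.trans ?_)
  · exact (CfsgLib.Char.irrConj_eq_self_iff χ).symm
  · refine Nat.card_congr (Equiv.subtypeEquivRight fun C => ?_)
    obtain ⟨g, rfl⟩ := ConjClasses.mk_surjective C
    rw [CfsgLib.Char.classInv_mk, ConjClasses.mk_eq_mk_iff_isConj]
    constructor
    · intro hg x hx
      obtain ⟨c, rfl⟩ := isConj_iff.mp (ConjClasses.mk_eq_mk_iff_isConj.mp hx).symm
      have h1 : IsConj g⁻¹ (c * g * c⁻¹)⁻¹ := isConj_iff.mpr ⟨c, by simp [mul_assoc]⟩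
      exact ((isConj_iff.mpr ⟨c, rfl⟩ : IsConj g (c * g * c⁻¹)).symm.trans hg.symm).trans h1
    · intro hg
      exact (hg g rfl).symm

end Cfsg.Agent.S0160
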