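import Cfsg.Statements.S0162
import Cfsg.Agent.Lib.Char.PermLemma
import Cfsg.Agent.Lib.Char.Integral

set_option autoImplicit false
open Cfsg

namespace Cfsg.Agent.S0162

/-- If a finite group has odd order, its order is congruent to its number of conjugacy classes modulo 16. -/
theorem result {G : Type*} [Group G] [Finite G] (hodd : Odd (Nat.card G)) : Nat.card G ≡ Nat.card (ConjClasses G) [MOD 16] := by
  classical
  have := Fintype.ofFinite G
  choose d hd using fun χ : Cfsg.IrrCharacter G =>
    CfsgLib.Char.exists_degree (CfsgLib.Char.isCharacter_of_isIrr χ.2)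
  have hodd' : ∀ χ, Odd (d χ) := fun χ =>
    Odd.of_dvd_nat hodd (CfsgLib.Char.degree_dvd_card χ.2 (hd χ))
  have hsum : ∑ χ, (d χ : ℕ) ^ 2 = Nat.card G := by
    have h := CfsgLib.Char.sum_degree_sq (G := G)
    simp only [hd] at h
    exact_mod_cast h
  have hmod : ∀ χ, (d χ : ZMod 16) ^ 2 + (d χ : ZMod 16) ^ 2 = 2 := by
    intro χ
    obtain ⟨k, hk⟩ := hodd' χ
    rw [hk]
    push_cast
    generalize (k : ZMod 16) = t
    revert t
    decide
  have hinv : ∀ χ : Cfsg.IrrCharacter G, d (CfsgLib.Char.irrConj χ) = d χ := by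
    intro χ
    have h := hd (CfsgLib.Char.irrConj χ)
    rw [CfsgLib.Char.irrConj_apply, CfsgLib.Char.char_conj_one
      (CfsgLib.Char.isCharacter_of_isIrr χ.2), hd] at h
    exact_mod_cast h.symm
  have h1 : d CfsgLib.Char.irrOne = 1 := by
    have h := hd (CfsgLib.Char.irrOne (G := G))
    rw [CfsgLib.Char.irrOne_apply] at h
    exact_mod_cast h.symm
  have key : ∑ χ : Cfsg.IrrCharacter G, ((d χ : ZMod 16) ^ 2 - 1) = 0 := by
    refine Finset.sum_involution (fun χ _ => CfsgLib.Char.irrConj χ) (fun χ _ => ?_)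
      (fun χ _ hne hfix => hne ?_) (fun _ _ => Finset.mem_univ _)
      (fun χ _ => CfsgLib.Char.irrConj_irrConj χ)
    · rw [hinv]
      linear_combination hmod χ
    · rw [CfsgLib.Char.irr_real_eq_one hodd hfix, h1]
      norm_num
  rw [← ZMod.natCast_eq_natCast_iff, ← CfsgLib.Char.card_irr_eq_card_conjClasses, ← hsum]
  rw [Finset.sum_sub_distrib, sub_eq_zero] at key
  push_cast
  rw [key]
  simp [Nat.card_eq_fintype_card]

end Cfsg.Agent.S0162
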