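import Cfsg.Statements.S0166
import Cfsg.Agent.Lib.Char.SplittingField

set_option autoImplicit false
open Cfsg

namespace Cfsg.Agent.S0166

open CfsgLib.Char CfsgLib.Char.Splitting


/-- Brauer's splitting field Theorem: a complex representation of a finite group of exponent m is equivalent to a representation by matrices with entries in ℚ adjoined exp(2πi/m). -/
theorem result {G : Type*} [Group G] [Finite G] (n : ℕ) (ρ : Representation ℂ G (Fin n → ℂ)) : ∃ σ : Representation ℂ G (Fin n → ℂ), Nonempty (ρ.Equiv σ) ∧ ∀ g : G, ∀ i j : Fin n, LinearMap.toMatrix' (σ g) i j ∈ Algebra.adjoin ℚ ({Complex.exp (2 * Real.pi * Complex.I / (Monoid.exponent G : ℂ))} : Set ℂ) := by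
  have := Fintype.ofFinite G
  set ζ : ℂ := Complex.exp (2 * Real.pi * Complex.I / (Monoid.exponent G : ℂ)) with hζdef
  have hm : Monoid.exponent G ≠ 0 := Monoid.exponent_ne_zero_of_finite
  have hζ : IsPrimitiveRoot ζ (Monoid.exponent G) := Complex.isPrimitiveRoot_exp _ hm
  have hint : IsIntegral ℚ ζ := IsIntegral.of_pow (Nat.pos_of_ne_zero hm) (by
    rw [hζ.pow_eq_one]; exact isIntegral_one)
  set K : Subfield ℂ := (IntermediateField.adjoin ℚ ({ζ} : Set ℂ)).toSubfield with hKdef
  have hK : ∀ z : ℂ, z ^ Monoid.exponent G = 1 → z ∈ K := by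
    intro z hz
    have : NeZero (Monoid.exponent G) := ⟨hm⟩
    obtain ⟨i, -, rfl⟩ := hζ.eq_pow_of_pow_eq_one hz
    exact pow_mem (IntermediateField.mem_adjoin_simple_self ℚ ζ) i
  obtain ⟨m, ρ', hρ'⟩ := isRealised_of_isCharacter hK (isCharacter_char ρ)
  have h1 := congrFun hρ' 1
  simp only [Representation.char_one, Module.finrank_fin_fun] at h1
  obtain rfl : n = m := by exact_mod_cast h1
  refine ⟨complexify ρ', nonempty_equiv_of_character_eq ρ (complexify ρ') (funext fun g => ?_),
    fun g i j => ?_⟩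
  · rw [character_complexify]
    exact congrFun hρ' g
  · rw [toMatrix'_complexify, Matrix.map_apply]
    rw [← IntermediateField.adjoin_simple_toSubalgebra_of_isAlgebraic hint.isAlgebraic]
    exact (LinearMap.toMatrix' (ρ' g) i j).2

end Cfsg.Agent.S0166
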