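import Cfsg.Statements.S0170
import Cfsg.Agent.Lib.Char.TI

set_option autoImplicit false
open Cfsg

namespace Cfsg.Agent.S0170

/-- Exceptional characters. Let S be a subset of a finite group contained in its normalizer N and meeting its conjugates by elements outside N only in the identity. Given n ≥ 2 distinct irreducible characters of N of equal degree that vanish on N away from S, there exist a sign ε and n distinct irreducible characters θ_i of G such that inducing χ_i − χ_j to G gives ε (θ_i − θ_j) for all i, j. -/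
theorem result {G : Type*} [Group G] [Fintype G] (S : Set G) (hSN : S ⊆ Subgroup.normalizer S) (hTI : ∀ g : G, g ∉ Subgroup.normalizer S → ∀ s ∈ S, g * s * g⁻¹ ∈ S → s = 1) (n : ℕ) (hn : 2 ≤ n) (χ : Fin n → (Subgroup.normalizer S → ℂ)) (hirr : ∀ i, Cfsg.IsIrrCharacter (Subgroup.normalizer S) (χ i)) (hinj : Function.Injective χ) (hvan : ∀ i, ∀ x : Subgroup.normalizer S, (x : G) ∉ S → χ i x = 0) (hdeg : ∀ i j, χ i 1 = χ j 1) : ∃ ε : ℂ, (ε = 1 ∨ ε = -1) ∧ ∃ θ : Fin n → (G → ℂ), (∀ i, Cfsg.IsIrrCharacter G (θ i)) ∧ Function.Injective θ ∧ ∀ i j, Cfsg.indFun (Subgroup.normalizer S) (χ i) - Cfsg.indFun (Subgroup.normalizer S) (χ j) = ε • (θ i - θ j) := by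
  classical
  let i₀ : Fin n := ⟨0, by omega⟩
  let _ : Fintype (Subgroup.normalizer S) := Fintype.ofFinite _
  let τ : Fin n → G → ℂ := fun i => Cfsg.indFun (Subgroup.normalizer S) (χ i - χ i₀)
  have hd : ∀ i, ∀ x : Subgroup.normalizer S, (x : G) ∉ S → (χ i - χ i₀) x = 0 := fun i x hx => by
    simp [hvan i x hx, hvan i₀ x hx]
  have hcl : ∀ i, Cfsg.IsClassFunction (Subgroup.normalizer S) (χ i - χ i₀) := fun i =>
    CfsgLib.Char.isClassFunction_sub (CfsgLib.Char.isClassFunction_of_isIrr (hirr i))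
      (CfsgLib.Char.isClassFunction_of_isIrr (hirr i₀))
  obtain ⟨ε, hε, μ, hμ, hμinj, hτ⟩ := CfsgLib.Char.coherent_of_gram i₀ τ
    (by simp [τ, CfsgLib.Char.indFun_zero])
    (fun i => CfsgLib.Char.isGen_indFun (Subgroup.normalizer S) (CfsgLib.Char.isGen_sub
      (CfsgLib.Char.isGen_of_irr (hirr i)) (CfsgLib.Char.isGen_of_irr (hirr i₀))))
    (fun i => by simp [τ, CfsgLib.Char.indFun_one, hdeg i i₀])
    (fun i j hi hj => by
      simp only [τ]
      rw [CfsgLib.Char.classInner_indFun_of_TI (Subgroup.normalizer S) S hTI (hcl j) (hd i) (hd j)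
        (by simp [hdeg i i₀])]
      simp only [CfsgLib.Char.classInner_sub_left, CfsgLib.Char.classInner_sub_right,
        CfsgLib.Char.classInner_irr (hirr _) (hirr _), hinj.eq_iff, if_neg hi, if_neg (Ne.symm hj)]
      split_ifs <;> norm_num)
  refine ⟨ε, hε, μ, hμ, hμinj, fun i j => ?_⟩
  have hi := hτ i
  have hj := hτ j
  simp only [τ, CfsgLib.Char.indFun_sub] at hi hj
  calc Cfsg.indFun (Subgroup.normalizer S) (χ i) - Cfsg.indFun (Subgroup.normalizer S) (χ j)
      = (Cfsg.indFun (Subgroup.normalizer S) (χ i) - Cfsg.indFun (Subgroup.normalizer S) (χ i₀)) -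
          (Cfsg.indFun (Subgroup.normalizer S) (χ j) - Cfsg.indFun (Subgroup.normalizer S) (χ i₀)) := by abel
    _ = ε • (μ i - μ j) := by rw [hi, hj, ← smul_sub]; abel_nf

end Cfsg.Agent.S0170
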