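import Cfsg.Statements.S0171
import Cfsg.Agent.Lib.Char.Ito
import Cfsg.Agent.Lib.Char.PermLemma

set_option autoImplicit false
open Cfsg

namespace Cfsg.Agent.S0171

open CfsgLib.Char CfsgLib.CharNormal

/-- Let G = K H with K normal, K ⊓ H trivial, and no non-identity element of H commuting with a non-identity element of K (a Frobenius group with kernel K and complement H). Then every non-principal irreducible character of K induces to an irreducible character of G. -/
theorem result {G : Type*} [Group G] [Fintype G] (K H : Subgroup G) [K.Normal] (hKH : K ⊓ H = ⊥) (hKH' : K ⊔ H = ⊤) (hfpf : ∀ h ∈ H, h ≠ 1 → ∀ k ∈ K, h * k = k * h → k = 1) (τ : K → ℂ) (hτ : Cfsg.IsIrrCharacter K τ) (hτ1 : τ ≠ fun _ => 1) : Cfsg.IsIrrCharacter G (Cfsg.indFun K τ) := by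
  classical
  have := Fintype.ofFinite K
  have hcent : ∀ g : G, g ∉ K → ∀ k ∈ K, g * k = k * g → k = 1 := by
    intro g hg k hk hcomm
    obtain ⟨a, ha, h, hh, rfl⟩ : ∃ a ∈ K, ∃ h ∈ H, a * h = g := by
      have : g ∈ K ⊔ H := hKH' ▸ Subgroup.mem_top g
      rwa [Subgroup.mem_sup_of_normal_left] at this
    have hh1 : h ≠ 1 := fun e => hg (by simp [e, ha])
    have hmem : ∀ u : K, (u : G) * h * (u : G)⁻¹ * h⁻¹ ∈ K := fun u => by
      simpa [mul_assoc] using K.mul_mem u.2
        (Subgroup.Normal.conj_mem inferInstance _ (K.inv_mem u.2) h)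
    obtain ⟨b, hb⟩ := Finite.surjective_of_injective (f := fun u : K => (⟨_, hmem u⟩ : K))
      (fun u v e => by
        have e' : (u : G) * h * (u : G)⁻¹ = (v : G) * h * (v : G)⁻¹ := by
          simpa using congrArg (fun z : K => (z : G) * h) e
        have hc : h * ((v : G)⁻¹ * u) = ((v : G)⁻¹ * u) * h := by
          have := congrArg (fun z => (v : G)⁻¹ * z * (u : G)) e'
          simpa [mul_assoc] using this.symm
        exact (Subtype.ext (inv_mul_eq_one.mp (hfpf h hh hh1 _ (v⁻¹ * u).2 hc)).symm)) ⟨a, ha⟩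
    have hb' : (b : G) * h * (b : G)⁻¹ = a * h := by
      simpa using congrArg (fun z : K => (z : G) * h) hb
    rw [← hb'] at hcomm
    have hc : h * ((b : G)⁻¹ * k * b) = ((b : G)⁻¹ * k * b) * h := by
      have := congrArg (fun z => (b : G)⁻¹ * z * b) hcomm
      simpa [mul_assoc] using this
    have := hfpf h hh hh1 _ (Subgroup.Normal.conj_mem' inferInstance _ hk _) hc
    simpa [mul_assoc] using congrArg (fun z => (b : G) * z * (b : G)⁻¹) this
  refine irr_of_norm_one (isCharacter_indFun K (isCharacter_of_isIrr hτ)) ?_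
  refine mul_left_cancel₀ (card_subgroup_ne_zero K) ?_
  rw [card_mul_classInner_indFun_normal K hτ hτ, mul_one]
  have hiff : ∀ g : G, conjFun K g τ = τ ↔ g ∈ K := by
    refine fun g => ⟨fun hfix => by_contra fun hg => hτ1 ?_,
      fun hg => conjFun_of_mem K (isClassFunction_of_isIrr hτ) hg⟩
    let σ : Cfsg.IrrCharacter K ≃ Cfsg.IrrCharacter K := Equiv.ofBijective (conjIrr K g)
      (Finite.injective_iff_bijective.mp fun x y e =>
        Subtype.ext (conjFun_injective K g (congrArg Subtype.val e)))
    let c : K →* K := (MulAut.conjNormal g⁻¹ : MulAut K).toMonoidHom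
    let π : ConjClasses K ≃ ConjClasses K := Equiv.ofBijective (ConjClasses.map c)
      (Finite.surjective_iff_bijective.mp
        (ConjClasses.map_surjective (MulAut.conjNormal g⁻¹ : MulAut K).surjective))
    have hcard := card_fixed_eq σ π fun χ k k' hk => by
      have hcj : IsConj k' (c k) := ConjClasses.mk_eq_mk_iff_isConj.mp hk
      show conjFun K g (χ : K → ℂ) k' = _
      rw [isClassFunction_iff.mp (isClassFunction_of_isIrr (isIrr_conjFun K χ.2 g)) _ _ hcj,
        conjFun_apply]
      refine congrArg _ (Subtype.ext ?_)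
      simp [c, MulAut.conjNormal_apply, mul_assoc]
    have hone : Nat.card {C : ConjClasses K // π C = C} ≤ 1 := by
      have : Subsingleton {C : ConjClasses K // π C = C} := by
        suffices ∀ C : ConjClasses K, π C = C → C = ConjClasses.mk 1 from
          ⟨fun x y => Subtype.ext ((this _ x.2).trans (this _ y.2).symm)⟩
        intro C hC
        obtain ⟨k, rfl⟩ := ConjClasses.mk_surjective C
        obtain ⟨u, hu⟩ := isConj_iff.mp (ConjClasses.mk_eq_mk_iff_isConj.mp hC)
        have hu' : (u : G) * (g⁻¹ * k * g) * (u : G)⁻¹ = k := by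
          simpa [c, MulAut.conjNormal_apply] using congrArg (fun z : K => (z : G)) hu
        have hcomm : (u : G) * g⁻¹ * k = k * ((u : G) * g⁻¹) := by
          have := congrArg (fun z => z * ((u : G) * g⁻¹)) hu'
          simpa [mul_assoc] using this
        have hnot : (u : G) * g⁻¹ ∉ K := fun h => hg (by
          have := K.mul_mem (K.inv_mem u.2) h
          rw [inv_mul_cancel_left] at this
          simpa using K.inv_mem this)
        rw [show k = 1 from Subtype.ext (hcent _ hnot k k.2 hcomm)]
      exact Finite.card_le_one_iff_subsingleton.mpr this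
    rw [← hcard, Finite.card_le_one_iff_subsingleton] at hone
    have := hone.elim ⟨⟨τ, hτ⟩, Subtype.ext hfix⟩ ⟨⟨fun _ => 1, isIrrCharacter_one⟩, rfl⟩
    exact congrArg (fun x : {χ : Cfsg.IrrCharacter K // σ χ = χ} => (x.1 : K → ℂ)) this
  rw [Nat.card_congr (Equiv.subtypeEquivRight hiff)]

end Cfsg.Agent.S0171
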