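import Cfsg.Statements.S0172
import Cfsg.Agent.Lib.Char.Ortho
import Mathlib.GroupTheory.GroupAction.CardCommute

set_option autoImplicit false
open Cfsg

namespace Cfsg.Agent.S0172

/-- Class number of a Frobenius group: if G = K H with K normal, K ⊓ H trivial and no non-identity element of H commuting with a non-identity element of K, then |H| * k(G) + 1 = |H| * k(H) + k(K), where k denotes the number of conjugacy classes. -/
theorem result {G : Type*} [Group G] [Finite G] (K H : Subgroup G) [K.Normal] (hKH : K ⊓ H = ⊥) (hKH' : K ⊔ H = ⊤) (hfpf : ∀ h ∈ H, h ≠ 1 → ∀ k ∈ K, h * k = k * h → k = 1) : Nat.card H * Nat.card (ConjClasses G) + 1 = Nat.card H * Nat.card (ConjClasses H) + Nat.card (ConjClasses K) := by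
  classical
  have := Fintype.ofFinite G
  have := Fintype.ofFinite K
  have := Fintype.ofFinite H
  let c : G → ℕ := fun x => Nat.card (Subgroup.centralizer ({x} : Set G))
  have count : ∀ (Q : Type _) [Group Q] [Fintype Q],
      ∑ x : Q, Nat.card (Subgroup.centralizer ({x} : Set Q)) =
        Nat.card (ConjClasses Q) * Nat.card Q := by
    intro Q _ _
    rw [← card_comm_eq_card_conjClasses_mul_card,
      Nat.card_congr (Equiv.subtypeProdEquivSigmaSubtype (fun a b : Q => Commute a b)),
      Nat.card_sigma]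
    refine Finset.sum_congr rfl fun x _ => Nat.card_congr (Equiv.subtypeEquivRight fun y => ?_)
    rw [Subgroup.mem_centralizer_singleton_iff]
    exact ⟨fun h => h.symm, fun h => h.symm⟩
  have hdec : ∀ g : G, ∃ k ∈ K, ∃ h ∈ H, k * h = g := fun g => by
    have : g ∈ K ⊔ H := hKH' ▸ Subgroup.mem_top g
    rwa [Subgroup.mem_sup_of_normal_left] at this
  have hinter : ∀ x, x ∈ K → x ∈ H → x = 1 := fun x hK hH => by
    have : x ∈ K ⊓ H := ⟨hK, hH⟩
    rwa [hKH, Subgroup.mem_bot] at this
  -- conjugation by `K` is transitive on each coset `K h`, `h ≠ 1`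
  have hinj : ∀ h ∈ H, h ≠ 1 → ∀ u v : K,
      (u : G) * h * (u : G)⁻¹ = (v : G) * h * (v : G)⁻¹ → u = v := by
    intro h hh hh1 u v e
    have hc : h * ((v : G)⁻¹ * u) = ((v : G)⁻¹ * u) * h := by
      have := congrArg (fun z => (v : G)⁻¹ * z * (u : G)) e
      simpa [mul_assoc] using this.symm
    exact (Subtype.ext (inv_mul_eq_one.mp (hfpf h hh hh1 _ (v⁻¹ * u).2 hc)).symm)
  have hmem : ∀ (u : K) (h : G), (u : G) * h * (u : G)⁻¹ * h⁻¹ ∈ K := fun u h => by
    simpa [mul_assoc] using K.mul_mem u.2 (Subgroup.Normal.conj_mem inferInstance _ (K.inv_mem u.2) h)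
  have hconj : ∀ g : G, g ∉ K → ∃ b : K, ∃ h ∈ H, h ≠ 1 ∧ (b : G) * h * (b : G)⁻¹ = g := by
    intro g hg
    obtain ⟨a, ha, h, hh, rfl⟩ := hdec g
    have hh1 : h ≠ 1 := fun e => hg (by simp [e, ha])
    obtain ⟨b, hb⟩ := Finite.surjective_of_injective
      (f := fun b : K => (⟨_, hmem b h⟩ : K)) (fun u v e => hinj h hh hh1 u v (by
        simpa using congrArg (fun z : K => (z : G) * h) e)) ⟨a, ha⟩
    exact ⟨b, h, hh, hh1, by simpa using congrArg (fun z : K => (z : G) * h) hb⟩
  have hmap : ∀ (L : Subgroup G) (x : L), (∀ g : G, g * x = x * g → g ∈ L) →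
      c x = Nat.card (Subgroup.centralizer ({x} : Set L)) := by
    intro L x hx
    have : Subgroup.centralizer ({(x : G)} : Set G) =
        (Subgroup.centralizer ({x} : Set L)).map L.subtype := by
      ext g
      simp only [Subgroup.mem_map, Subgroup.mem_centralizer_singleton_iff, Subgroup.coe_subtype]
      refine ⟨fun hg => ⟨⟨g, hx g hg⟩, Subtype.ext hg, rfl⟩, ?_⟩
      rintro ⟨y, hy, rfl⟩
      exact congrArg (fun z : L => (z : G)) hy
    simp only [c]
    rw [this, Subgroup.card_map_of_injective L.subtype_injective]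
  have hCK : ∀ k : K, k ≠ 1 → c k = Nat.card (Subgroup.centralizer ({k} : Set K)) := by
    refine fun k hk => hmap K k fun g hg => ?_
    by_contra hgK
    obtain ⟨b, h, hh, hh1, rfl⟩ := hconj g hgK
    have hc : h * ((b : G)⁻¹ * k * b) = ((b : G)⁻¹ * k * b) * h := by
      have := congrArg (fun z => (b : G)⁻¹ * z * b) hg
      simpa [mul_assoc] using this
    have := hfpf h hh hh1 _ (Subgroup.Normal.conj_mem' inferInstance _ k.2 _) hc
    exact hk (Subtype.ext (by
      simpa [mul_assoc] using congrArg (fun z => (b : G) * z * (b : G)⁻¹) this))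
  have hCH : ∀ h : H, h ≠ 1 → c h = Nat.card (Subgroup.centralizer ({h} : Set H)) := by
    refine fun h hh1 => hmap H h fun g hg => ?_
    obtain ⟨a, ha, b, hb, rfl⟩ := hdec g
    have h0 : (h : G) ≠ 1 := fun e => hh1 (Subtype.ext e)
    -- modulo `K` the elements `b` and `h` commute
    have h1 : (h : G) * b = b * h := by
      have hK : (b * h : G)⁻¹ * ((h : G) * b) ∈ K := by
        have : (b * h : G)⁻¹ * ((h : G) * b) =
            ((b * (h : G))⁻¹ * a * (b * h)) * (b⁻¹ * a⁻¹ * b) := by
          have e : (a * b : G) * h = h * (a * b) := hg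
          calc (b * h : G)⁻¹ * ((h : G) * b)
              = (b * h : G)⁻¹ * ((h : G) * (a * b)) * (b⁻¹ * a⁻¹ * b) := by group
            _ = _ := by rw [← e]; group
        rw [this]
        exact K.mul_mem (Subgroup.Normal.conj_mem' inferInstance _ ha _)
          (Subgroup.Normal.conj_mem' inferInstance _ (K.inv_mem ha) _)
      exact (inv_mul_eq_one.mp (hinter _ hK (H.mul_mem (H.inv_mem (H.mul_mem hb h.2))
        (H.mul_mem h.2 hb)))).symm
    have h2 : (h : G) * a = a * h := by
      have e : a * b * (h : G) = h * (a * b) := hg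
      rw [mul_assoc a, ← h1, ← mul_assoc, ← mul_assoc] at e
      exact (mul_right_cancel e).symm
    have := hfpf _ h.2 h0 a ha h2
    simpa [this] using hb
  have hcc : ∀ a g : G, c (g * a * g⁻¹) = c a := by
    intro a g
    simp only [c]
    refine Nat.card_congr ((MulAut.conj g⁻¹).toEquiv.subtypeEquiv fun y => ?_)
    simp only [Subgroup.mem_centralizer_singleton_iff]
    constructor <;> intro e
    · have := congrArg (fun z => g⁻¹ * z * g) e
      simpa [mul_assoc] using this
    · have := congrArg (fun z => g * z * g⁻¹) e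
      simpa [mul_assoc] using this
  -- the three pieces
  have hin : ∑ x ∈ Finset.univ.filter (· ∈ K), c x = ∑ k : K, c k := by
    rw [Finset.sum_subtype (p := (· ∈ K)) _ (fun x => by simp) c]
  have hout : ∑ x ∈ Finset.univ.filter (· ∉ K), c x =
      ∑ p ∈ (Finset.univ : Finset K) ×ˢ (Finset.univ.erase (1 : H)), c (p.2 : G) := by
    refine (Finset.sum_nbij (fun p : K × H => (p.1 : G) * p.2 * (p.1 : G)⁻¹) ?_ ?_ ?_ ?_).symm
    · rintro ⟨u, h⟩ hp
      simp only [Finset.mem_product, Finset.mem_erase, Finset.mem_univ, and_true, true_and] at hp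
      simp only [Finset.mem_filter, Finset.mem_univ, true_and]
      intro hK
      have : (h : G) ∈ K := by
        simpa [mul_assoc] using Subgroup.Normal.conj_mem' inferInstance _ hK (u : G)
      exact hp (Subtype.ext (hinter _ this h.2))
    · rintro ⟨u, h⟩ hp ⟨v, h'⟩ hp' e
      simp only [Finset.coe_product, Set.mem_prod, Finset.coe_erase, Finset.coe_univ, Set.mem_univ,
        Set.mem_diff, Set.mem_singleton_iff, true_and] at hp hp'
      simp only at e
      have hh : h = h' := by
        refine Subtype.ext (mul_inv_eq_one.mp (hinter _ ?_ (H.mul_mem h.2 (H.inv_mem h'.2))))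
        have k1 := hmem u h
        have k2 := hmem v h'
        rw [e] at k1
        have := K.mul_mem (K.inv_mem k1) k2
        simpa [mul_assoc] using this
      subst hh
      rw [hinj h h.2 (fun e => hp (Subtype.ext e)) u v e]
    · intro g hg
      simp only [Finset.coe_filter, Finset.mem_univ, true_and, Set.mem_setOf_eq] at hg
      obtain ⟨b, h, hh, hh1, rfl⟩ := hconj g hg
      exact ⟨(b, ⟨h, hh⟩), by simp [Subtype.ext_iff, hh1], rfl⟩
    · rintro ⟨u, h⟩ _
      exact (hcc _ _).symm
  have hG : c 1 = Nat.card G := by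
    have : Subgroup.centralizer ({(1 : G)} : Set G) = ⊤ := by
      ext y; simp [Subgroup.mem_centralizer_singleton_iff]
    simp only [c, this, Subgroup.card_top]
  have h1Q : ∀ (Q : Type _) [Group Q], Nat.card (Subgroup.centralizer ({(1 : Q)} : Set Q)) =
      Nat.card Q := fun Q _ => by
    have : Subgroup.centralizer ({(1 : Q)} : Set Q) = ⊤ := by
      ext y; simp [Subgroup.mem_centralizer_singleton_iff]
    rw [this, Subgroup.card_top]
  have hK' : ∑ k : K, c k + Nat.card K = Nat.card G + Nat.card (ConjClasses K) * Nat.card K := by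
    rw [← count K, ← Finset.add_sum_erase _ _ (Finset.mem_univ (1 : K)),
      ← Finset.add_sum_erase _ _ (Finset.mem_univ (1 : K)), h1Q K,
      Finset.sum_congr rfl fun k hk => hCK k (Finset.ne_of_mem_erase hk)]
    simp only [OneMemClass.coe_one, hG]
    ring
  have hH' : ∑ h ∈ Finset.univ.erase (1 : H), c h + Nat.card H =
      Nat.card (ConjClasses H) * Nat.card H := by
    rw [← count H, ← Finset.add_sum_erase _ _ (Finset.mem_univ (1 : H)), h1Q H,
      Finset.sum_congr rfl fun h hh => hCH h (Finset.ne_of_mem_erase hh)]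
    ring
  have hcard : Nat.card G = Nat.card K * Nat.card H :=
    (Subgroup.isComplement'_of_disjoint_and_mul_eq_univ (disjoint_iff.mpr hKH) (by
      rw [← Subgroup.normal_mul, hKH', Subgroup.coe_top])).card_mul.symm
  have hsum := count G
  rw [← Finset.sum_filter_add_sum_filter_not Finset.univ (· ∈ K), hin, hout,
    Finset.sum_product] at hsum
  simp only [Finset.sum_const, Finset.card_univ, ← Nat.card_eq_fintype_card, smul_eq_mul,
    hcard] at hsum
  rw [hcard] at hK'
  refine Nat.eq_of_mul_eq_mul_left (Nat.card_pos (α := K)) ?_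
  nlinarith [hsum, hK', congrArg (fun t => Nat.card K * t) hH']

end Cfsg.Agent.S0172
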