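import Cfsg.Statements.S0173
import Cfsg.Agent.Lib.Char.PermLemma

set_option autoImplicit false
open Cfsg

namespace Cfsg.Agent.S0173

/-- Brauer's permutation lemma for a single automorphism: the number of conjugacy classes mapped to themselves equals the number of irreducible complex characters χ with χ ∘ α = χ. -/
theorem result {G : Type*} [Group G] [Finite G] (α : G ≃* G) : Nat.card {C : ConjClasses G // ConjClasses.map α.toMonoidHom C = C} = Nat.card {χ : Cfsg.IrrCharacter G // (χ : G → ℂ) ∘ α = (χ : G → ℂ)} := by
  have := Fintype.ofFinite G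
  have hirr : ∀ (β : G ≃* G) (χ : Cfsg.IrrCharacter G),
      Cfsg.IsIrrCharacter G ((χ : G → ℂ) ∘ β) := fun β χ =>
    CfsgLib.Char.irr_of_norm_one
      (CfsgLib.Char.isCharacter_comp (CfsgLib.Char.isCharacter_of_isIrr χ.2) β.toMonoidHom)
      ((CfsgLib.Char.classInner_comp_mulEquiv β _ _).trans (CfsgLib.Char.classInner_irr_self χ.2))
  let σ : Cfsg.IrrCharacter G ≃ Cfsg.IrrCharacter G :=
    { toFun := fun χ => ⟨_, hirr α.symm χ⟩
      invFun := fun χ => ⟨_, hirr α χ⟩
      left_inv := fun χ => Subtype.ext (funext fun g => by simp)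
      right_inv := fun χ => Subtype.ext (funext fun g => by simp) }
  let π : ConjClasses G ≃ ConjClasses G :=
    { toFun := ConjClasses.map α.toMonoidHom
      invFun := ConjClasses.map α.symm.toMonoidHom
      left_inv := fun C => by
        obtain ⟨g, rfl⟩ := ConjClasses.mk_surjective C
        exact congrArg ConjClasses.mk (α.symm_apply_apply g)
      right_inv := fun C => by
        obtain ⟨g, rfl⟩ := ConjClasses.mk_surjective C
        exact congrArg ConjClasses.mk (α.apply_symm_apply g) }
  have h := CfsgLib.Char.card_fixed_eq σ π fun χ g g' hg' => ?_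
  · refine h.symm.trans (Nat.card_congr (Equiv.subtypeEquivRight fun χ => ?_))
    constructor
    · intro hχ
      funext g
      have := congrFun (congrArg Subtype.val hχ) (α g)
      simp [σ] at this ⊢
      exact this.symm
    · intro hχ
      refine Subtype.ext (funext fun g => ?_)
      have := congrFun hχ (α.symm g)
      simp [σ] at this ⊢
      exact this.symm
  · have hcj : IsConj g' (α g) := ConjClasses.mk_eq_mk_iff_isConj.mp hg'
    show (χ : G → ℂ) (α.symm g') = (χ : G → ℂ) g
    obtain ⟨c, hc⟩ := isConj_iff.mp hcj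
    refine CfsgLib.Char.isClassFunction_iff.mp (CfsgLib.Char.isClassFunction_of_isIrr χ.2) _ _
      (isConj_iff.mpr ⟨α.symm c, ?_⟩)
    rw [← map_inv, ← map_mul, ← map_mul, hc, α.symm_apply_apply]

end Cfsg.Agent.S0173
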