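import Cfsg.Statements.S0177
import Cfsg.Agent.Lib.Char.Artin

set_option autoImplicit false
open Cfsg

namespace Cfsg.Agent.S0177

open CfsgLib.Char

/-- The Artin induction Theorem: for a character χ of a finite group, |G| • χ is a ℤ-linear combination of functions induced from homomorphisms of cyclic subgroups into ℂˣ. -/
theorem result {G : Type*} [Group G] [Fintype G] (χ : G → ℂ) (hχ : Cfsg.IsCharacter G χ) : ∃ l : List ((A : Subgroup G) × ((A →* ℂˣ) × ℤ)), (∀ t ∈ l, IsCyclic t.1) ∧ (Nat.card G : ℂ) • χ = (l.map fun t => (t.2.2 : ℂ) • Cfsg.indFun t.1 (fun a => (t.2.1 a : ℂ))).sum := by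
  classical
  have := Fintype.ofFinite (Subgroup G)
  have hcyc : ∀ A : {A : Subgroup G // IsCyclic A}, ∀ a b : A.1, a * b = b * a := fun A a b => by
    have := A.2
    exact IsCyclic.commutative.is_comm.comm a b
  have hgen : ∀ A : Subgroup G, Cfsg.IsGeneralizedCharacter A (genFun A * fun a : A => χ a) :=
    fun A => isGen_mul (isGen_genFun A) (isGen_res A (isGen_of_char hχ))
  choose m hm using fun A : {A : Subgroup G // IsCyclic A} => gen_decomp (hgen A.1)
  let S : Finset (Σ A : {A : Subgroup G // IsCyclic A}, Cfsg.IrrCharacter A.1) := Finset.univ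
  refine ⟨S.toList.map fun p => ⟨p.1.1,
    linearHom (isCharacter_of_isIrr p.2.2) (irr_one_eq_one_of_comm (hcyc p.1) p.2.2),
    m p.1 p.2⟩, ?_, ?_⟩
  · intro t ht
    obtain ⟨p, -, rfl⟩ := List.mem_map.mp ht
    exact p.1.2
  rw [List.map_map, Finset.sum_map_toList, card_smul_eq_sum_indFun
    (isClassFunction_of_isCharacter hχ)]
  show _ = ∑ p : (Σ A : {A : Subgroup G // IsCyclic A}, Cfsg.IrrCharacter A.1),
    (m p.1 p.2 : ℂ) • Cfsg.indFun p.1.1 (p.2 : p.1.1 → ℂ)
  rw [Fintype.sum_sigma, ← Finset.sum_filter_add_sum_filter_not Finset.univ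
      (fun A : Subgroup G => IsCyclic A),
    Finset.sum_eq_zero (s := Finset.filter (fun A : Subgroup G => ¬ IsCyclic A) _), add_zero,
    Finset.sum_subtype (p := fun A : Subgroup G => IsCyclic A) _ (fun A => by simp)]
  · refine Finset.sum_congr rfl fun A _ => ?_
    conv_lhs => rw [(hm A).1]
    rw [indFun_sum]
    exact Finset.sum_congr rfl fun ψ _ => indFun_smul _ _ _
  · intro A hA
    rw [genFun_eq_zero_of_not_isCyclic (Finset.mem_filter.mp hA).2, zero_mul, indFun_zero]

end Cfsg.Agent.S0177
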