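import Cfsg.Statements.S0184
import Cfsg.Agent.Lib.Char.Ortho
import Cfsg.Agent.Lib.Char.Integral

set_option autoImplicit false
open Cfsg

namespace Cfsg.Agent.S0184

open CfsgLib.Char

/-- A finite p-group admits a faithful irreducible complex representation if and only if its centre is cyclic. -/
theorem result {G : Type*} [Group G] [Finite G] (p : ℕ) [Fact p.Prime] (hG : IsPGroup p G) : (∃ (n : ℕ) (ρ : Representation ℂ G (Fin n → ℂ)), ρ.IsIrreducible ∧ Function.Injective ρ) ↔ IsCyclic (Subgroup.center G) := by
  classical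
  have := Fintype.ofFinite G
  constructor
  · rintro ⟨n, ρ, hirr, hinj⟩
    have hsc : ∀ z : Subgroup.center G, ∃ c : ℂ, ρ (z : G) = c • LinearMap.id := fun z =>
      exists_eq_smul_id ρ _ fun g => by
        rw [← Module.End.mul_eq_comp, ← Module.End.mul_eq_comp, ← map_mul, ← map_mul,
          Subgroup.mem_center_iff.mp z.2 g]
    choose c hc using hsc
    have hid : (LinearMap.id : (Fin n → ℂ) →ₗ[ℂ] (Fin n → ℂ)) ≠ 0 := by
      intro h
      have hpos := finrank_pos_of_irreducible ρ
      rw [Module.finrank_pos_iff] at hpos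
      obtain ⟨v, hv⟩ := exists_ne (0 : Fin n → ℂ)
      exact hv (by simpa using LinearMap.congr_fun h v)
    let f : Subgroup.center G →* ℂ :=
      { toFun := c
        map_one' := smul_left_injective ℂ hid
          (show c 1 • LinearMap.id = (1 : ℂ) • LinearMap.id by
            rw [← hc, one_smul, OneMemClass.coe_one, map_one]; rfl)
        map_mul' := fun x y => smul_left_injective ℂ hid
          (show c (x * y) • LinearMap.id = (c x * c y) • LinearMap.id by
            rw [← hc, Subgroup.coe_mul, map_mul, hc, hc]
            exact LinearMap.ext fun v => by simp [smul_smul, mul_comm]) }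
    exact isCyclic_of_injective_ringHom f fun x y e => Subtype.ext (hinj (by
      rw [hc, hc]; exact congrArg (· • LinearMap.id) e))
  · intro hcyc
    by_cases htriv : Subsingleton G
    · obtain ⟨m, ρ, hirr, -⟩ := isIrrCharacter_one (G := G)
      exact ⟨m, ρ, hirr, fun x y _ => Subsingleton.elim x y⟩
    have : Nontrivial G := not_subsingleton_iff_nontrivial.mp htriv
    have := hG.center_nontrivial
    have hpZ : p ∣ Nat.card (Subgroup.center G) := by
      obtain ⟨j, hj⟩ := IsPGroup.iff_card.mp (hG.to_subgroup (Subgroup.center G))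
      have hgt : 1 < Nat.card (Subgroup.center G) := Finite.one_lt_card
      rw [hj] at hgt ⊢
      exact dvd_pow_self p fun e => by simp [e] at hgt
    obtain ⟨w, hw⟩ := exists_prime_orderOf_dvd_card' p hpZ
    have hwG : (w : G) ≠ 1 := fun e => by
      rw [show w = 1 from Subtype.ext e, orderOf_one] at hw
      exact (Fact.out : p.Prime).one_lt.ne hw
    obtain ⟨χ, hχ⟩ : ∃ χ : Cfsg.IrrCharacter G, (χ : G → ℂ) w ≠ (χ : G → ℂ) 1 := by
      by_contra hall
      push Not at hall
      have h := sum_degree_mul_apply (w : G)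
      have h1 := sum_degree_mul_apply (1 : G)
      rw [if_pos rfl] at h1
      rw [if_neg hwG] at h
      simp only [hall, h1] at h
      exact card_ne_zero' h
    obtain ⟨m, ρ, hirr, hρ⟩ := χ.2
    refine ⟨m, ρ, hirr, ?_⟩
    let f : G →* ((Fin m → ℂ) →ₗ[ℂ] (Fin m → ℂ)) := ρ
    by_contra hinj
    have hne : f.ker ≠ ⊥ := fun e => hinj ((MonoidHom.ker_eq_bot_iff f).mp e)
    -- the kernel meets the centre
    have : Nontrivial f.ker := f.ker.nontrivial_iff_ne_bot.mpr hne
    obtain ⟨x, hx, hx1⟩ : ∃ x : f.ker, (x : G) ∈ Subgroup.center G ∧ x ≠ 1 := by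
      have hp : p ∣ Nat.card f.ker := by
        obtain ⟨j, hj⟩ := IsPGroup.iff_card.mp (hG.to_subgroup f.ker)
        have hgt : 1 < Nat.card f.ker := Finite.one_lt_card
        rw [hj] at hgt ⊢
        exact dvd_pow_self p fun e => by simp [e] at hgt
      have := (IsPGroup.of_equiv hG ConjAct.toConjAct).exists_fixed_point_of_prime_dvd_card_of_fixed_point
        f.ker hp (a := 1) (by simp [MulAction.mem_fixedPoints])
      obtain ⟨x, hx, hx1⟩ := this
      refine ⟨x, Subgroup.mem_center_iff.mpr fun g => ?_, hx1.symm⟩
      have h := congrArg Subtype.val (hx (ConjAct.toConjAct g))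
      rw [ConjAct.Subgroup.val_conj_smul, ConjAct.toConjAct_smul] at h
      exact mul_inv_eq_iff_eq_mul.mp h
    -- so it contains the element of order `p`
    let z : Subgroup.center G := ⟨x, hx⟩
    have hz1 : z ≠ 1 := fun e => hx1 (Subtype.ext (congrArg (fun t : Subgroup.center G => (t : G)) e))
    have hpz : p ∣ Nat.card (Subgroup.zpowers z) := by
      obtain ⟨j, hj⟩ := IsPGroup.iff_card.mp
        ((hG.to_subgroup (Subgroup.center G)).to_subgroup (Subgroup.zpowers z))
      rw [hj]
      refine dvd_pow_self p fun e => hz1 ?_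
      rw [e, pow_zero, Nat.card_zpowers, orderOf_eq_one_iff] at hj
      exact hj
    obtain ⟨u, hu⟩ := exists_prime_orderOf_dvd_card' p hpz
    have hwu : w ∈ Subgroup.zpowers z := by
      have := Fintype.ofFinite (Subgroup.center G)
      have hT : (Subgroup.zpowers (u : Subgroup.center G) : Set (Subgroup.center G)).toFinset =
          Finset.univ.filter fun y : Subgroup.center G => y ^ p = 1 := by
        refine Finset.eq_of_subset_of_card_le (fun y hy => ?_) ?_
        · rw [Set.mem_toFinset] at hy
          obtain ⟨l, rfl⟩ := Subgroup.mem_zpowers_iff.mp hy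
          have hup : (u : Subgroup.center G) ^ p = 1 := by
            rw [← hu, ← Subgroup.orderOf_coe, pow_orderOf_eq_one]
          simp only [Finset.mem_filter, Finset.mem_univ, true_and]
          rw [← zpow_natCast, ← zpow_mul, mul_comm, zpow_mul, zpow_natCast, hup, one_zpow]
        · refine le_trans (IsCyclic.card_pow_eq_one_le (Fact.out : p.Prime).pos) (le_of_eq ?_)
          rw [Set.toFinset_card]
          exact ((Nat.card_eq_fintype_card).symm.trans ((Nat.card_zpowers _).trans
            ((Subgroup.orderOf_coe u).trans hu))).symm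
      have hwT : w ∈ (Subgroup.zpowers (u : Subgroup.center G) : Set (Subgroup.center G)).toFinset := by
        rw [hT]
        simp [← hw, pow_orderOf_eq_one]
      exact Subgroup.zpowers_le.mpr u.2 (Set.mem_toFinset.mp hwT)
    obtain ⟨i, hi⟩ := Subgroup.mem_zpowers_iff.mp hwu
    have : (w : G) ∈ f.ker := by
      rw [← hi, Subgroup.coe_zpow]
      exact f.ker.zpow_mem x.2 i
    apply hχ
    rw [← hρ]
    show LinearMap.trace ℂ _ (f w) = LinearMap.trace ℂ _ (f 1)
    rw [MonoidHom.mem_ker.mp this, map_one f]

end Cfsg.Agent.S0184
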