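import Cfsg.Statements.S0186
import Cfsg.Agent.Lib.Char.Ortho
import Cfsg.Agent.Lib.Char.Integral

set_option autoImplicit false
open Cfsg

namespace Cfsg.Agent.S0186

open CfsgLib.Char

/-- Let G be a finite simple group of order n and p a prime dividing n. If G has more than n / p^2 conjugacy classes, then every Sylow p-subgroup of G is abelian. -/
theorem result {G : Type*} [Group G] [Finite G] [IsSimpleGroup G] (p : ℕ) [Fact p.Prime] (hp : p ∣ Nat.card G) (hmany : Nat.card G < p ^ 2 * Nat.card (ConjClasses G)) (P : Sylow p G) (a b : G) (ha : a ∈ P) (hb : b ∈ P) : a * b = b * a := by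
  classical
  have := Fintype.ofFinite G
  have hprime : p.Prime := Fact.out
  by_contra hab
  have hGcomm : ¬ ∀ x y : G, x * y = y * x := fun h => hab (h a b)
  have hz : Subgroup.center G = ⊥ :=
    (Subgroup.Normal.eq_bot_or_eq_top (inferInstance : (Subgroup.center G).Normal)).resolve_right
      fun h => hGcomm fun x y => (Subgroup.mem_center_iff.mp (h ▸ Subgroup.mem_top y) x)
  -- the Sylow subgroup has order at least p ^ 3
  obtain ⟨k, hk⟩ := IsPGroup.iff_card.mp P.2
  have hk3 : 3 ≤ k := by
    by_contra hlt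
    apply hab
    have h2 : k = 0 ∨ k = 1 ∨ k = 2 := by omega
    have : ∀ x y : (P : Subgroup G), x * y = y * x := by
      rcases h2 with rfl | rfl | rfl
      · rw [pow_zero] at hk
        have := (Nat.card_eq_one_iff_unique.mp hk).1
        exact fun x y => Subsingleton.elim _ _
      · have := isCyclic_of_prime_card (p := p) (hk.trans (pow_one p))
        exact fun x y => IsCyclic.commutative.is_comm.comm x y
      · exact fun x y => (IsPGroup.isMulCommutative_of_card_eq_prime_sq hk).is_comm.comm x y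
    exact congrArg Subtype.val (this ⟨a, ha⟩ ⟨b, hb⟩)
  have hn : p ^ 3 ≤ Nat.card G := le_trans (Nat.pow_le_pow_right hprime.pos hk3)
    (hk ▸ Nat.le_of_dvd Nat.card_pos (Subgroup.card_subgroup_dvd_card _))
  choose d hd0 hd using fun χ : Cfsg.IrrCharacter G => exists_degree_pos χ.2
  have hsum : ∑ χ : Cfsg.IrrCharacter G, d χ ^ 2 = Nat.card G := by
    have := sum_degree_mul_apply (1 : G)
    simp only [hd, if_pos] at this
    simp only [sq]
    exact_mod_cast this
  obtain ⟨χ, hχne, hχd⟩ : ∃ χ : Cfsg.IrrCharacter G, (χ : G → ℂ) ≠ (fun _ => 1) ∧ d χ ≤ p := by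
    by_contra hall
    push Not at hall
    let o : Cfsg.IrrCharacter G := ⟨fun _ => 1, isIrrCharacter_one⟩
    have hlow : (Finset.univ.erase o).card * (p + 1) ^ 2 ≤
        ∑ χ ∈ Finset.univ.erase o, d χ ^ 2 := by
      have := Finset.card_nsmul_le_sum (Finset.univ.erase o) (fun χ => d χ ^ 2) ((p + 1) ^ 2)
        fun χ hχ => Nat.pow_le_pow_left
          (hall χ fun e => Finset.ne_of_mem_erase hχ (Subtype.ext e)) 2
      simpa using this
    have ho : d o = 1 := by
      have : ((d o : ℕ) : ℂ) = 1 := (hd o).symm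
      exact_mod_cast this
    rw [← Finset.add_sum_erase _ _ (Finset.mem_univ o), ho] at hsum
    rw [Finset.card_erase_of_mem (Finset.mem_univ o), Finset.card_univ, ← Nat.card_eq_fintype_card,
      card_irr_eq_card_conjClasses] at hlow
    have hkc : p < Nat.card (ConjClasses G) := by
      refine Nat.lt_of_mul_lt_mul_left (a := p ^ 2) ?_
      calc p ^ 2 * p = p ^ 3 := by ring
        _ ≤ _ := hn
        _ < _ := hmany
    obtain ⟨c, hc⟩ : ∃ c, Nat.card (ConjClasses G) = c + 1 := ⟨_, (Nat.succ_pred_eq_of_pos (by omega)).symm⟩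
    rw [hc] at hlow hmany hkc
    simp only [Nat.add_sub_cancel] at hlow
    nlinarith
  obtain ⟨m, ρ, hirr, hρ⟩ := χ.2
  have hm : m = d χ := by
    have := hd χ
    rw [← hρ] at this
    simpa using this
  have hρinj : Function.Injective ρ := by
    let f : G →* ((Fin m → ℂ) →ₗ[ℂ] (Fin m → ℂ)) := ρ
    rcases Subgroup.Normal.eq_bot_or_eq_top (inferInstance : f.ker.Normal) with h | h
    · exact (MonoidHom.ker_eq_bot_iff f).mp h
    · exfalso
      apply hχne
      have h1 : ∀ g, ρ g = 1 := fun g => (MonoidHom.mem_ker (f := f)).mp (h ▸ Subgroup.mem_top g)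
      have hconst : (χ : G → ℂ) = fun _ => (d χ : ℂ) := funext fun g => by
        rw [← hd χ, ← hρ]; simp [Representation.character, h1]
      have hone := classInner_irr_self χ.2
      rw [hconst, classInner_def] at hone
      simp only [map_natCast, Finset.sum_const, Finset.card_univ, nsmul_eq_mul,
        ← Nat.card_eq_fintype_card, inv_mul_cancel_left₀ card_ne_zero'] at hone
      have : d χ = 1 := Nat.eq_one_of_mul_eq_one_right (by exact_mod_cast hone : d χ * d χ = 1)
      rw [hconst, this, Nat.cast_one]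
  -- restrict to the Sylow subgroup
  have := Fintype.ofFinite (P : Subgroup G)
  let ρP : Representation ℂ (P : Subgroup G) (Fin m → ℂ) := ρ.comp (P : Subgroup G).subtype
  have hres : Cfsg.IsCharacter (P : Subgroup G) ρP.character := isCharacter_char ρP
  obtain ⟨e, he, hei⟩ := char_decomp hres
  choose t ht0 ht using fun θ : Cfsg.IrrCharacter (P : Subgroup G) => exists_degree_pos θ.2
  have hdeg : ∑ θ, e θ * t θ = d χ := by
    have h1 := congrFun he 1
    rw [Representation.char_one, Finset.sum_apply] at h1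
    simp only [Pi.smul_apply, smul_eq_mul, ht, Module.finrank_fin_fun, hm] at h1
    exact_mod_cast h1.symm
  by_cases hfull : ∃ θ, e θ ≠ 0 ∧ t θ = d χ
  · -- irreducible restriction: the centre of the Sylow subgroup would be central
    obtain ⟨θ, hθ0, hθ⟩ := hfull
    rw [← Finset.add_sum_erase _ _ (Finset.mem_univ θ), hθ] at hdeg
    have hge : d χ ≤ e θ * d χ := Nat.le_mul_of_pos_left _ (Nat.pos_of_ne_zero hθ0)
    have he1 : e θ = 1 := by
      have : e θ * d χ = 1 * d χ := by omega
      exact Nat.eq_of_mul_eq_mul_right (hd0 χ) this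
    have hzero : ∀ η, η ≠ θ → e η = 0 := fun η hη => by
      have h0 : ∑ η ∈ Finset.univ.erase θ, e η * t η = 0 := by omega
      have := Finset.sum_eq_zero_iff.mp h0 η (Finset.mem_erase.mpr ⟨hη, Finset.mem_univ _⟩)
      exact (Nat.mul_eq_zero.mp this).resolve_right (ht0 η).ne'
    rw [Finset.sum_eq_single θ (fun η _ hη => by simp [hzero η hη]) (by simp), he1, Nat.cast_one,
      one_smul] at he
    have := isIrreducible_of_isIrrCharacter ρP (he ▸ θ.2)
    have : Nontrivial (P : Subgroup G) := Finite.one_lt_card_iff_nontrivial.mp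
      (hk ▸ Nat.one_lt_pow (by omega) hprime.one_lt)
    have := P.2.center_nontrivial
    obtain ⟨z, hz1⟩ := exists_ne (1 : Subgroup.center (P : Subgroup G))
    obtain ⟨ω, hω⟩ := exists_eq_smul_id ρP (ρP (z : (P : Subgroup G))) fun g => by
      rw [← Module.End.mul_eq_comp, ← Module.End.mul_eq_comp, ← map_mul, ← map_mul,
        Subgroup.mem_center_iff.mp z.2 g]
    have hzc : ((z : (P : Subgroup G)) : G) ∈ Subgroup.center G := by
      refine Subgroup.mem_center_iff.mpr fun g => hρinj ?_
      rw [map_mul, map_mul]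
      change ρ g * ρP (z : (P : Subgroup G)) = ρP (z : (P : Subgroup G)) * ρ g
      rw [hω]
      exact LinearMap.ext fun v => by simp
    rw [hz, Subgroup.mem_bot] at hzc
    exact hz1 (Subtype.ext (Subtype.ext hzc))
  · push Not at hfull
    have hlin : ∀ θ, e θ ≠ 0 → t θ = 1 := by
      intro θ hθ
      have hle : t θ ≤ d χ := hdeg ▸ le_trans (Nat.le_mul_of_pos_left _ (Nat.pos_of_ne_zero hθ))
        (Finset.single_le_sum (f := fun η => e η * t η) (fun _ _ => Nat.zero_le _)
          (Finset.mem_univ θ))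
      have hdvd : t θ ∣ p ^ k := hk ▸ degree_dvd_card θ.2 (ht θ)
      obtain ⟨j, -, hj⟩ := (Nat.dvd_prime_pow hprime).mp hdvd
      rcases Nat.eq_zero_or_pos j with rfl | hj0
      · simpa using hj
      · have : p ≤ p ^ j := Nat.le_self_pow hj0.ne' p
        exact absurd (by omega) (hfull θ hθ)
    let x : (P : Subgroup G) := ⟨a, ha⟩ * ⟨b, hb⟩ * ⟨a, ha⟩⁻¹ * ⟨b, hb⟩⁻¹
    have hxχ : ρP.character x = (Module.finrank ℂ (Fin m → ℂ) : ℂ) := by
      rw [← ρP.char_one, he, Finset.sum_apply, Finset.sum_apply]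
      refine Finset.sum_congr rfl fun θ _ => ?_
      by_cases hθ : e θ = 0
      · simp [hθ]
      have h1 : (θ : ↥(P : Subgroup G) → ℂ) 1 = 1 := by rw [ht, hlin θ hθ, Nat.cast_one]
      have hmul := linear_map_mul (isCharacter_of_isIrr θ.2) h1
      have hinv : ∀ y, (θ : ↥(P : Subgroup G) → ℂ) y * (θ : ↥(P : Subgroup G) → ℂ) y⁻¹ = 1 :=
        fun y => by rw [← hmul, mul_inv_cancel, h1]
      simp only [Pi.smul_apply, smul_eq_mul, x, hmul, h1]
      linear_combination (e θ : ℂ) * ((θ : ↥(P : Subgroup G) → ℂ) ⟨b, hb⟩ *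
        (θ : ↥(P : Subgroup G) → ℂ) (⟨b, hb⟩ : (P : Subgroup G))⁻¹) *
          hinv ⟨a, ha⟩ + (e θ : ℂ) * hinv ⟨b, hb⟩
    have hx1 : (x : G) = 1 := hρinj ((character_eq_degree_iff ρP x).mp hxχ |>.trans
      (map_one ρ).symm)
    apply hab
    simpa [x, mul_inv_eq_one, mul_inv_eq_iff_eq_mul] using hx1

end Cfsg.Agent.S0186
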