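import Cfsg.Statements.S0189
import Cfsg.Agent.Lib.Char.Ortho

set_option autoImplicit false
open Cfsg

namespace Cfsg.Agent.S0189

/-- If a complex character of a finite group vanishes at every non-identity element of a Sylow p-subgroup P, then |P| divides its degree. -/
theorem result {G : Type*} [Group G] [Finite G] (p : ℕ) [Fact p.Prime] (P : Sylow p G) (χ : G → ℂ) (hχ : Cfsg.IsCharacter G χ) (hvan : ∀ g : G, g ∈ P → g ≠ 1 → χ g = 0) : ∃ k : ℕ, χ 1 = (Nat.card P : ℂ) * k := by
  classical
  have := Fintype.ofFinite G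
  obtain ⟨m, hm⟩ := CfsgLib.Char.classInner_char_nat
    (CfsgLib.Char.isCharacter_res (P : Subgroup G) hχ)
    (CfsgLib.Char.isCharacter_one (G := (P : Subgroup G)))
  refine ⟨m, ?_⟩
  rw [CfsgLib.Char.classInner_one_right, Finset.sum_eq_single 1] at hm
  · have h0 : (Nat.card (P : Subgroup G) : ℂ) ≠ 0 := by exact_mod_cast Nat.card_pos.ne'
    rw [← hm, Subgroup.coe_one, mul_inv_cancel_left₀ h0]
  · intro g _ hg
    exact hvan g g.2 fun h => hg (Subtype.ext h)
  · simp

end Cfsg.Agent.S0189
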