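import Cfsg.Statements.S0192
import Cfsg.Agent.Lib.Char.Equiv

set_option autoImplicit false
open Cfsg

namespace Cfsg.Agent.S0192

/-- Brauer's generation criterion. Let G be a finite simple group, H₁ and H₂ subgroups, and χ a non-principal irreducible character. If the multiplicity of the principal character in χ restricted to H₁ ⊓ H₂ is less than the sum of the corresponding multiplicities for H₁ and H₂, then H₁ and H₂ do not generate G. -/
theorem result {G : Type*} [Group G] [Fintype G] [IsSimpleGroup G] (H₁ H₂ : Subgroup G) [Fintype H₁] [Fintype H₂] [Fintype ↥(H₁ ⊓ H₂)] (χ : G → ℂ) (hχ : Cfsg.IsIrrCharacter G χ) (hχ1 : χ ≠ fun _ => 1) (hlt : (Cfsg.classInner (fun x : ↥(H₁ ⊓ H₂) => χ x) (fun _ => 1)).re < (Cfsg.classInner (fun x : H₁ => χ x) (fun _ => 1)).re + (Cfsg.classInner (fun x : H₂ => χ x) (fun _ => 1)).re) : H₁ ⊔ H₂ ≠ ⊤ := by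
  classical
  obtain ⟨n, ρ, hirr, rfl⟩ := hχ
  intro htop
  let inv : Subgroup G → Submodule ℂ (Fin n → ℂ) := fun H =>
    Representation.invariants (ρ.comp H.subtype)
  have hdim : ∀ (H : Subgroup G) [Fintype H],
      (Cfsg.classInner (fun x : H => ρ.character x) (fun _ => 1)).re =
        (Module.finrank ℂ (inv H) : ℝ) := by
    intro H _
    have := invertibleOfNonzero (CfsgLib.Char.card_ne_zero' (G := H))
    rw [CfsgLib.Char.classInner_one_right,
      show (fun x : H => ρ.character x) = Representation.character (ρ.comp H.subtype) from rfl,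
      Representation.card_inv_mul_sum_char_eq_finrank, Complex.natCast_re]
  rw [hdim, hdim, hdim] at hlt
  have hlt' : Module.finrank ℂ (inv (H₁ ⊓ H₂)) <
      Module.finrank ℂ (inv H₁) + Module.finrank ℂ (inv H₂) := by exact_mod_cast hlt
  have hle : inv H₁ ⊔ inv H₂ ≤ inv (H₁ ⊓ H₂) := sup_le
    (fun v hv x => hv ⟨x, (Subgroup.mem_inf.mp x.2).1⟩)
    (fun v hv x => hv ⟨x, (Subgroup.mem_inf.mp x.2).2⟩)
  have hpos : 0 < Module.finrank ℂ ↥(inv H₁ ⊓ inv H₂) := by
    have := Submodule.finrank_sup_add_finrank_inf_eq (inv H₁) (inv H₂)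
    have := Submodule.finrank_mono hle
    omega
  obtain ⟨⟨v, hv⟩, hv0⟩ := Module.finrank_pos_iff_exists_ne_zero.mp hpos
  let S : Subgroup G :=
    { carrier := {g | ρ g v = v}
      one_mem' := by simp
      mul_mem' := fun {a b} ha hb => by
        show ρ (a * b) v = v
        rw [map_mul, Module.End.mul_apply, hb, ha]
      inv_mem' := fun {a} ha => by
        show ρ a⁻¹ v = v
        calc ρ a⁻¹ v = ρ a⁻¹ (ρ a v) := by rw [ha]
          _ = v := by rw [← Module.End.mul_apply, ← map_mul]; simp }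
  have hS : H₁ ⊔ H₂ ≤ S := sup_le (fun x hx => hv.1 ⟨x, hx⟩) (fun x hx => hv.2 ⟨x, hx⟩)
  have hfix : ∀ g, ρ g v = v := fun g => hS (htop ▸ Subgroup.mem_top g)
  let U : Subrepresentation ρ := ⟨Submodule.span ℂ {v}, fun g w hw => by
    obtain ⟨c, rfl⟩ := Submodule.mem_span_singleton.mp hw
    rw [map_smul, hfix]
    exact Submodule.smul_mem _ _ (Submodule.mem_span_singleton_self v)⟩
  have hUtop : Submodule.span ℂ {v} = ⊤ := by
    rcases eq_bot_or_eq_top U with h | h
    · have : Submodule.span ℂ {v} = ⊥ := congrArg Subrepresentation.toSubmodule h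
      exact absurd (Subtype.ext (Submodule.span_singleton_eq_bot.mp this)) hv0
    · exact congrArg Subrepresentation.toSubmodule h
  have hid : ∀ g, ρ g = LinearMap.id := fun g => LinearMap.ext fun w => by
    obtain ⟨c, rfl⟩ := Submodule.mem_span_singleton.mp (hUtop ▸ Submodule.mem_top : w ∈ Submodule.span ℂ {v})
    rw [map_smul, hfix]; rfl
  refine hχ1 (funext fun g => ?_)
  have hdim1 : Module.finrank ℂ (Fin n → ℂ) = 1 := by
    rw [← finrank_top, ← hUtop]
    exact finrank_span_singleton fun h => hv0 (Subtype.ext h)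
  simp only [Representation.character, hid, LinearMap.trace_id, hdim1, Nat.cast_one]

end Cfsg.Agent.S0192
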