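import Cfsg.Statements.S0194
import Cfsg.Agent.Lib.Char.Ito
import Cfsg.Agent.Lib.Char.PermLemma

set_option autoImplicit false
open scoped ComplexConjugate
open Cfsg

namespace Cfsg.Agent.S0194

/-- Let G have odd order, H be a normal subgroup and θ a non-principal irreducible character of H. Then the function induced from θ is orthogonal to its complex conjugate. -/
theorem result {G : Type*} [Group G] [Fintype G] (hodd : Odd (Nat.card G)) (H : Subgroup G) [H.Normal] (θ : H → ℂ) (hθ : Cfsg.IsIrrCharacter H θ) (hθ1 : θ ≠ fun _ => 1) : Cfsg.classInner (fun g => conj (Cfsg.indFun H θ g)) (Cfsg.indFun H θ) = 0 := by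
  classical
  let _ : Fintype H := Fintype.ofFinite H
  have hθc : Cfsg.IsIrrCharacter H (fun h => conj (θ h)) := (CfsgLib.Char.irrConj ⟨θ, hθ⟩).2
  have hcard := CfsgLib.Char.card_mul_classInner_indFun_normal H hθc hθ
  have hzero : Nat.card {g : G // CfsgLib.CharNormal.conjFun H g θ = fun h => conj (θ h)} = 0 := by
    have : IsEmpty {g : G // CfsgLib.CharNormal.conjFun H g θ = fun h => conj (θ h)} := by
      refine ⟨fun ⟨g, hg⟩ => hθ1 ?_⟩
      have hg2 : CfsgLib.CharNormal.conjFun H (g ^ 2) θ = θ := by
        funext h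
        have e1 := congrFun hg ⟨g * h * g⁻¹, ‹H.Normal›.conj_mem h h.2 g⟩
        have e2 := congrFun hg h
        simp only [CfsgLib.CharNormal.conjFun_apply] at e1 e2 ⊢
        rw [e2, Complex.conj_conj] at e1
        rw [← e1]
        congr 1
        ext
        rw [sq]
        group
      have hmem : g ∈ CfsgLib.CharNormal.inertia H θ := by
        obtain ⟨k, hk⟩ := hodd
        have h1 : g ^ (2 * k + 1) = 1 := hk ▸ pow_card_eq_one'
        have hginv : g = ((g ^ 2) ^ k)⁻¹ :=
          eq_inv_of_mul_eq_one_left (by rw [← pow_mul, ← pow_succ', h1])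
        rw [hginv]
        exact inv_mem (pow_mem ((CfsgLib.CharNormal.mem_inertia H).mpr hg2) k)
      rw [(CfsgLib.CharNormal.mem_inertia H).mp hmem] at hg
      have hreal : CfsgLib.Char.irrConj (⟨θ, hθ⟩ : Cfsg.IrrCharacter H) = ⟨θ, hθ⟩ :=
        Subtype.ext hg.symm
      exact congrArg Subtype.val
        (CfsgLib.Char.irr_real_eq_one (Odd.of_dvd_nat hodd H.card_subgroup_dvd_card) hreal)
    exact Nat.card_of_isEmpty
  rw [hzero, Nat.cast_zero, mul_eq_zero] at hcard
  refine Eq.trans ?_ (hcard.resolve_left (by exact_mod_cast Nat.card_pos.ne'))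
  exact congrArg (Cfsg.classInner · _) (funext fun g => CfsgLib.Char.indFun_conj H θ g)

end Cfsg.Agent.S0194
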