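import Cfsg.Statements.S0196
import Cfsg.Agent.Lib.Char.Ortho

set_option autoImplicit false
open Cfsg

namespace Cfsg.Agent.S0196

/-- Let A be a subgroup of a finite group G that equals the centralizer of each of its non-identity elements, and let N be its normalizer. Then the index of A in N divides |A| − 1 (N/A permutes the non-identity elements of A in orbits of full length). -/
theorem result {G : Type*} [Group G] [Finite G] (A : Subgroup G) (hA : ∀ x ∈ A, x ≠ 1 → Subgroup.centralizer ({x} : Set G) = A) : (A.subgroupOf (Subgroup.normalizer (A : Set G))).index ∣ Nat.card A - 1 := by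
  set N := Subgroup.normalizer (A : Set G) with hN
  letI : MulAction N {a : A // a ≠ 1} :=
    { smul := fun n a => ⟨⟨(n : G) * (a.1 : G) * (n : G)⁻¹,
          (Subgroup.mem_normalizer_iff.mp n.2 _).mp a.1.2⟩, fun h => a.2 (Subtype.ext (by
            simpa using (congrArg (fun z : A => (z : G)) h : (n : G) * (a.1 : G) * (n : G)⁻¹ = 1)))⟩
      one_smul := fun a => Subtype.ext (Subtype.ext (show ((1 : N) : G) * (a.1 : G) *
        ((1 : N) : G)⁻¹ = a.1 by simp))
      mul_smul := fun m n a => Subtype.ext (Subtype.ext (show ((m * n : N) : G) * (a.1 : G) *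
        ((m * n : N) : G)⁻¹ = (m : G) * ((n : G) * (a.1 : G) * (n : G)⁻¹) * (m : G)⁻¹ by
          simp [mul_assoc])) }
  have hsm : ∀ (n : N) (a : {a : A // a ≠ 1}),
      ((n • a).1 : G) = (n : G) * (a.1 : G) * (n : G)⁻¹ := fun _ _ => rfl
  have hst : ∀ a : {a : A // a ≠ 1}, MulAction.stabilizer N a = A.subgroupOf N := by
    intro a
    ext n
    rw [MulAction.mem_stabilizer_iff, Subgroup.mem_subgroupOf, ← Subtype.val_inj, ← Subtype.val_inj,
      hsm]
    have hC : Subgroup.centralizer ({(a.1 : G)} : Set G) = A :=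
      hA _ a.1.2 fun h => a.2 (Subtype.ext h)
    conv_rhs => rw [← hC, Subgroup.mem_centralizer_singleton_iff]
    rw [mul_inv_eq_iff_eq_mul]
  have hcard : Nat.card A - 1 = Nat.card {a : A // a ≠ 1} := by
    classical
    have := Fintype.ofFinite A
    simp [Nat.card_eq_fintype_card, Fintype.card_subtype_compl]
  rw [hcard, Nat.card_congr (MulAction.selfEquivSigmaOrbitsQuotientStabilizer N _)]
  classical
  have := Fintype.ofFinite (Quotient (MulAction.orbitRel N {a : A // a ≠ 1}))
  rw [Nat.card_sigma]
  refine Finset.sum_induction _ (fun x => _ ∣ x) (fun _ _ => dvd_add) (dvd_zero _) fun ω _ => ?_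
  rw [hst]
  exact dvd_rfl

end Cfsg.Agent.S0196
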