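import Cfsg.Statements.S0203
import Cfsg.Agent.Lib.Invol.KleinSylow

set_option autoImplicit false
open Cfsg

namespace Cfsg.Agent.S0203

/-- If a Sylow 2-subgroup P of a finite group G is a Klein four-group, then G has three classes of involutions if and only if P has a normal complement in G. -/
theorem result {G : Type*} [Group G] [Finite G] (P : Sylow 2 G) (hP : IsKleinFour (P : Subgroup G)) : Nat.card {C : ConjClasses G // ∃ t : G, orderOf t = 2 ∧ ConjClasses.mk t = C} = 3 ↔ ∃ N : Subgroup G, N.Normal ∧ Subgroup.IsComplement' N (P : Subgroup G) := by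
  constructor
  · intro h3
    have hc : ∀ n ∈ Subgroup.normalizer ((P : Subgroup G) : Set G), ∀ a ∈ (P : Subgroup G), n * a = a * n := by
      by_contra hc
      rw [CfsgLib.Invol.card_classes_of_not_central P hP hc] at h3
      omega
    have hle : Subgroup.normalizer ((P : Subgroup G) : Set G) ≤ Subgroup.centralizer ((P : Subgroup G) : Set G) :=
      fun n hn => Subgroup.mem_centralizer_iff.mpr fun a ha => (hc n hn a ha).symm
    exact ⟨_, inferInstance, MonoidHom.ker_transferSylow_isComplement' P hle⟩
  · rintro ⟨N, hN, hcompl⟩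
    refine CfsgLib.Invol.card_classes_of_central P hP fun n hn a ha => ?_
    have hd : Disjoint N (P : Subgroup G) := hcompl.disjoint
    obtain ⟨⟨k, s⟩, hks⟩ := hcompl.2 n
    obtain rfl : (k : G) * s = n := hks
    have hs : (s : G) * a = a * s := CfsgLib.Invol.commute_of_kleinFour hP s.2 ha
    have hkn : (k : G) ∈ Subgroup.normalizer ((P : Subgroup G) : Set G) := by
      have := mul_mem hn (inv_mem (Subgroup.le_normalizer s.2))
      rwa [mul_inv_cancel_right] at this
    have h1 : (k : G) * a * (k : G)⁻¹ * a⁻¹ = 1 := by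
      refine Subgroup.disjoint_def.mp hd ?_ (mul_mem ((Subgroup.mem_normalizer_iff.mp hkn a).mp ha) (inv_mem ha))
      rw [show (k : G) * a * (k : G)⁻¹ * a⁻¹ = k * (a * (k : G)⁻¹ * a⁻¹) by group]
      exact mul_mem k.2 (hN.conj_mem _ (inv_mem k.2) a)
    rw [mul_assoc, hs, ← mul_assoc, ← mul_assoc, mul_inv_eq_iff_eq_mul.mp (mul_inv_eq_one.mp h1)]

end Cfsg.Agent.S0203
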