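import Cfsg.Statements.S0210
import Cfsg.Agent.Lib.Invol.Dihedral

set_option autoImplicit false
open Cfsg

namespace Cfsg.Agent.S0210

theorem conj_x {G : Type*} [Group G] {x y : G} (hx : orderOf x = 2) (hy : orderOf y = 2) {d : G}
    (hd : d ∈ Subgroup.closure ({x, y} : Set G)) :
    ∃ i : ℤ, d * x * d⁻¹ = x * (x * y) ^ (2 * i) := by
  obtain ⟨k, rfl | rfl⟩ := (CfsgLib.Invol.mem_closure_pair_invol hx hy).mp hd
  · exact ⟨-k, by rw [CfsgLib.Invol.conj_zpow_self hx hy]; congr 2; ring⟩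
  · refine ⟨k, ?_⟩
    rw [show x * (x * y) ^ k * x * (x * (x * y) ^ k)⁻¹ = x * ((x * y) ^ k * x * ((x * y) ^ k)⁻¹) * x⁻¹ by
      group, CfsgLib.Invol.conj_zpow_self hx hy, mul_assoc x (x * (x*y) ^ (-2 * k)) x⁻¹, mul_assoc x _ x⁻¹,
      ← mul_assoc x ((x * y) ^ (-2 * k)) x⁻¹, CfsgLib.Invol.conj_mul_zpow hx hy]
    congr 2
    ring

/-- If x, y are involutions whose product has even order, no element of the subgroup generated by x and y conjugates x to y. -/
theorem result {G : Type*} [Group G] [Finite G] (x y : G) (hx : orderOf x = 2) (hy : orderOf y = 2) (heven : Even (orderOf (x * y))) (d : G) (hd : d ∈ Subgroup.closure ({x, y} : Set G)) : d * x * d⁻¹ ≠ y := by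
  intro h
  obtain ⟨i, hi⟩ := conj_x hx hy hd
  rw [h] at hi
  have h2 : x * (x * y) ^ (2 * i) = x * (x * y) ^ (1 : ℤ) := by
    rw [← hi, CfsgLib.Invol.mul_zpow_one hx]
  rw [mul_right_inj, zpow_eq_zpow_iff_modEq, Int.modEq_iff_dvd] at h2
  obtain ⟨m, hm⟩ := heven
  rw [hm] at h2
  obtain ⟨c, hc⟩ := h2
  push_cast at hc
  have : (2 : ℤ) ∣ 1 := ⟨i + m * c, by linarith⟩
  omega

end Cfsg.Agent.S0210
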