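import Cfsg.Statements.S0211
import Cfsg.Agent.Lib.Invol.Dihedral

set_option autoImplicit false
open Cfsg

namespace Cfsg.Agent.S0211

theorem conj_x {G : Type*} [Group G] {x y : G} (hx : orderOf x = 2) (hy : orderOf y = 2) {d : G}
    (hd : d ∈ Subgroup.closure ({x, y} : Set G)) :
    ∃ i : ℤ, d * x * d⁻¹ = x * (x * y) ^ (2 * i) := by
  obtain ⟨k, rfl | rfl⟩ := (CfsgLib.Invol.mem_closure_pair_invol hx hy).mp hd
  · exact ⟨-k, by rw [CfsgLib.Invol.conj_zpow_self hx hy]; congr 2; ring⟩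
  · refine ⟨k, ?_⟩
    rw [show x * (x * y) ^ k * x * (x * (x * y) ^ k)⁻¹ = x * ((x * y) ^ k * x * ((x * y) ^ k)⁻¹) * x⁻¹ by
      group, CfsgLib.Invol.conj_zpow_self hx hy, mul_assoc x (x * (x*y) ^ (-2 * k)) x⁻¹, mul_assoc x _ x⁻¹,
      ← mul_assoc x ((x * y) ^ (-2 * k)) x⁻¹, CfsgLib.Invol.conj_mul_zpow hx hy]
    congr 2
    ring

/-- Let x, y be involutions with xy of even order n and z = (xy)^(n/2). Then xz is conjugate to x by an element of the subgroup generated by x, y if and only if 4 divides n. -/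
theorem result {G : Type*} [Group G] [Finite G] (x y : G) (hx : orderOf x = 2) (hy : orderOf y = 2) (heven : Even (orderOf (x * y))) : (∃ d ∈ Subgroup.closure ({x, y} : Set G), d * x * d⁻¹ = x * (x * y) ^ (orderOf (x * y) / 2)) ↔ 4 ∣ orderOf (x * y) := by
  constructor
  · rintro ⟨d, hd, h⟩
    obtain ⟨i, hi⟩ := conj_x hx hy hd
    rw [h, mul_right_inj, ← zpow_natCast, zpow_eq_zpow_iff_modEq, Int.modEq_iff_dvd] at hi
    obtain ⟨m, hm⟩ := heven
    have h2 : orderOf (x * y) / 2 = m := by omega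
    rw [h2, hm] at hi
    obtain ⟨c, hc⟩ := hi
    push_cast at hc
    have : (2 : ℤ) ∣ (m : ℤ) := ⟨i - m * c, by linarith⟩
    rw [hm]
    omega
  · intro h4
    obtain ⟨d, hd, h⟩ := CfsgLib.Invol.conj_half_of_four_dvd hx hy h4
    exact ⟨d, CfsgLib.Invol.zpowers_le_closure_pair x y hd, h⟩

end Cfsg.Agent.S0211
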