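import Cfsg.Statements.S0212
import Cfsg.Agent.Lib.Invol.BrauerFowler
import Cfsg.Agent.Lib.SmallGroups.Basic

set_option autoImplicit false
open Cfsg

namespace Cfsg.Agent.S0212

open CfsgLib.Invol

theorem bound {G : Type*} [Group G] [Finite G] {t : G} (ht : orderOf t = 2) :
    Nat.card G ≤ Nat.card (Subgroup.centralizer ({t} : Set G)) * Nat.card {t : G // orderOf t = 2} := by
  rw [← card_conjugates_mul t, mul_comm]
  refine Nat.mul_le_mul_left _ (Nat.card_le_card_of_injective
    (fun y : {y : G // IsConj t y} => (⟨y.1, (orderOf_eq_of_isConj y.2).symm.trans ht⟩ : {t : G // orderOf t = 2}))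
    fun a b h => Subtype.ext (congrArg Subtype.val h :))

theorem index_lt {N n c x : ℕ} (hb : N ≤ c * n) (h : 2 * x * n ^ 2 < N * (N + n)) (hc : 0 < c) :
    x < c ^ 2 := by
  by_contra hx
  push Not at hx
  have h1 : N * (N + n) ≤ c * n * (c * n + n) := Nat.mul_le_mul hb (by omega)
  have h2 : c ≤ c ^ 2 := Nat.le_self_pow (by norm_num) c
  have h3 : c ^ 2 * n ^ 2 ≤ x * n ^ 2 := Nat.mul_le_mul_right _ hx
  have h4 : c * n * n ≤ c ^ 2 * n ^ 2 := by rw [pow_two n, ← mul_assoc]; gcongr
  nlinarith

/-- The Brauer–Fowler bound: if G is a finite simple group and t an involution of G whose centralizer has order n, then |G| ≤ (2n^2)!. -/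
theorem result {G : Type*} [Group G] [Finite G] [IsSimpleGroup G] (t : G) (ht : orderOf t = 2) : Nat.card G ≤ Nat.factorial (2 * (Nat.card (Subgroup.centralizer ({t} : Set G))) ^ 2) := by
  set C := Subgroup.centralizer ({t} : Set G) with hC
  by_cases hab : IsMulCommutative G
  · have hCt : C = ⊤ := eq_top_iff.mpr fun g _ => Subgroup.mem_centralizer_singleton_iff.mpr (mul_comm' _ _)
    rw [hCt, Subgroup.card_top]
    exact le_trans (by nlinarith [Nat.card_pos (α := G)]) (Nat.self_le_factorial _)
  have hodd : Odd (Nat.card (Subgroup.center G)) := by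
    rw [CfsgLib.SmallGroups.eq_bot_or_comm_of_centre hab]; simp
  have heven : Even (Nat.card G) := even_iff_two_dvd.mpr (ht ▸ orderOf_dvd_natCard t)
  obtain ⟨H, hH, hcase⟩ := brauer_fowler_index heven hodd
  rcases hcase with h2 | hlt
  · exact absurd h2 (CfsgLib.SmallGroups.index_ne_two_of_simple hab H)
  have hx := index_lt (bound ht) hlt Nat.card_pos
  have h1 := Nat.le_of_dvd (Nat.factorial_pos _) (CfsgLib.SmallGroups.two_mul_card_dvd_factorial hab H hH)
  have h2 : H.index.factorial ≤ (2 * Nat.card C ^ 2).factorial :=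
    Nat.factorial_le (le_trans hx.le (Nat.le_mul_of_pos_left _ (by norm_num)))
  omega

end Cfsg.Agent.S0212
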