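import Cfsg.Statements.S0218
import Cfsg.Agent.Lib.Invol.Dihedral

set_option autoImplicit false
open Cfsg

namespace Cfsg.Agent.S0218

/-- The generalized quaternion group of order 2^(n+3) contains exactly one element of order 2. -/
theorem result (n : ℕ) : Nat.card {x : QuaternionGroup (2 ^ (n + 1)) // orderOf x = 2} = 1 := by
  set m : ℕ := 2 ^ (n + 1) with hm
  have hm2 : 2 ≤ m := by
    calc 2 = 2 ^ 1 := rfl
      _ ≤ 2 ^ (n + 1) := Nat.pow_le_pow_right (by norm_num) (by omega)
  haveI : NeZero m := ⟨by omega⟩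
  haveI : NeZero (2 * m) := ⟨by omega⟩
  rw [Nat.card_eq_one_iff_exists]
  refine ⟨⟨QuaternionGroup.a (m : ZMod (2 * m)), ?_⟩, ?_⟩
  · rw [QuaternionGroup.orderOf_a, ZMod.val_natCast, Nat.mod_eq_of_lt (by omega)]
    rw [Nat.gcd_eq_right (Dvd.intro_left 2 rfl)]
    exact Nat.div_eq_of_eq_mul_left (by omega) rfl
  · rintro ⟨x, hx⟩
    rcases x with i | i
    · rw [QuaternionGroup.orderOf_a] at hx
      apply Subtype.ext
      show QuaternionGroup.a i = QuaternionGroup.a _
      congr 1
      have hg : Nat.gcd (2 * m) i.val ∣ 2 * m := Nat.gcd_dvd_left _ _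
      have h2 : 2 * m = 2 * Nat.gcd (2 * m) i.val := by
        conv_lhs => rw [← Nat.div_mul_cancel hg, hx]
      have hlt : i.val < 2 * m := ZMod.val_lt i
      have hgv : Nat.gcd (2 * m) i.val = m := by omega
      obtain ⟨c, hc⟩ := hgv ▸ Nat.gcd_dvd_right (2 * m) i.val
      have hc2 : c < 2 := by
        by_contra hc2
        nlinarith [Nat.mul_le_mul_left m (not_lt.mp hc2)]
      have hiv : i.val = m := by
        interval_cases c
        · rw [mul_zero] at hc
          rw [hc, Nat.gcd_zero_right] at hgv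
          omega
        · simpa using hc
      exact (ZMod.natCast_zmod_val i).symm.trans (congrArg _ hiv)
    · rw [QuaternionGroup.orderOf_xa] at hx
      omega

end Cfsg.Agent.S0218
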