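import Cfsg.Statements.S0220
import Cfsg.Agent.Lib.Invol.Sylow
import Cfsg.Agent.Lib.Invol.Counting
import Cfsg.Agent.Lib.Invol.Dihedral

set_option autoImplicit false
open Cfsg

namespace Cfsg.Agent.S0220

theorem index_two_of_cyclic_sylow {G : Type*} [Group G] [Finite G] (heven : Even (Nat.card G))
    (T : Sylow 2 G) (hT : IsCyclic (T : Subgroup G)) : ∃ H : Subgroup G, H.index = 2 := by
  have hmin : (Nat.card G).minFac = 2 := (Nat.minFac_eq_two_iff _).mpr (even_iff_two_dvd.mp heven)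
  have hcompl := IsCyclic.isComplement' hmin hT
  generalize hker : (MonoidHom.transferSylow T (hT.normalizer_le_centralizer hmin)).ker = N at hcompl
  haveI : N.Normal := hker ▸ MonoidHom.normal_ker _
  haveI : IsCyclic (G ⧸ N) := isCyclic_of_surjective
    ((QuotientGroup.mk' N).comp (T : Subgroup G).subtype) (by
      intro q
      obtain ⟨g, rfl⟩ := QuotientGroup.mk'_surjective N q
      obtain ⟨⟨⟨n, hn⟩, ⟨t, ht⟩⟩, rfl⟩ := hcompl.2 g
      refine ⟨⟨t, ht⟩, ?_⟩
      simp [(QuotientGroup.eq_one_iff n).mpr hn])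
  have hdvd : 2 ∣ Nat.card (G ⧸ N) := by
    rw [← Subgroup.index_eq_card, hcompl.symm.index_eq_card]
    exact T.dvd_card_of_dvd_card (even_iff_two_dvd.mp heven)
  obtain ⟨a, ha⟩ := IsCyclic.exists_generator (α := G ⧸ N)
  let φ : G ⧸ N →* Multiplicative (ZMod 2) := monoidHomOfForallMemZpowers ha
    (g' := Multiplicative.ofAdd (1 : ZMod 2)) (by
      rw [orderOf_eq_card_of_forall_mem_zpowers ha, orderOf_ofAdd_eq_addOrderOf]
      simpa using hdvd)
  refine ⟨(φ.comp (QuotientGroup.mk' N)).ker, ?_⟩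
  rw [Subgroup.index_ker, MonoidHom.range_eq_top.mpr]
  · simp [Nat.card_zmod]
  · intro m
    obtain ⟨k, hk⟩ : ∃ k : ℕ, Multiplicative.ofAdd ((k : ZMod 2)) = m := ⟨m.toAdd.val, by simp⟩
    obtain ⟨g, hg⟩ := QuotientGroup.mk'_surjective N (a ^ k)
    refine ⟨g, ?_⟩
    rw [MonoidHom.comp_apply, hg, map_pow, monoidHomOfForallMemZpowers_apply_gen, ← hk, ← ofAdd_nsmul]
    simp

/-- If x is an involution of a finite group G and a Sylow 2-subgroup of the centralizer of x is cyclic, then G has a subgroup of index 2; in particular G is not simple unless it has order 2. -/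
theorem result {G : Type*} [Group G] [Finite G] (x : G) (hx : orderOf x = 2) (S : Sylow 2 ↥(Subgroup.centralizer ({x} : Set G))) (hS : IsCyclic (S : Subgroup ↥(Subgroup.centralizer ({x} : Set G)))) : ∃ H : Subgroup G, H.index = 2 := by
  obtain ⟨T, hxT, -⟩ := CfsgLib.Invol.exists_sylow_of_commute
    (CfsgLib.Invol.mul_self_of_orderOf_two hx) (CfsgLib.Invol.mul_self_of_orderOf_two hx) (Commute.refl x)
  haveI := hS
  have hxC : x ∈ (Subgroup.centralizer ({x} : Set G)) := Subgroup.mem_centralizer_singleton_iff.mpr rfl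
  haveI : Nontrivial (T : Subgroup G) := ⟨⟨⟨x, hxT⟩, 1, fun h =>
    CfsgLib.Invol.ne_one_of_orderOf_two hx (congrArg Subtype.val h)⟩⟩
  obtain ⟨z0, hz0⟩ : ∃ z : Subgroup.center (T : Subgroup G), orderOf z = 2 := by
    haveI := T.isPGroup'.center_nontrivial
    obtain ⟨k, hk⟩ := IsPGroup.iff_card.mp (T.isPGroup'.to_subgroup (Subgroup.center (T : Subgroup G)))
    refine exists_prime_orderOf_dvd_card' 2 ?_
    rcases k with _ | k
    · rw [pow_zero] at hk
      have := Finite.one_lt_card (α := Subgroup.center (T : Subgroup G))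
      omega
    · exact ⟨2 ^ k, by rw [hk, pow_succ']⟩
  set z : G := ((z0 : (T : Subgroup G)) : G) with hzdef
  have hz2 : orderOf z = 2 := by rw [hzdef, Subgroup.orderOf_coe, Subgroup.orderOf_coe, hz0]
  have hzT : z ∈ (T : Subgroup G) := (z0 : (T : Subgroup G)).2
  have hcent : ∀ t ∈ (T : Subgroup G), t * z = z * t := fun t ht =>
    congrArg Subtype.val (Subgroup.mem_center_iff.mp z0.2 ⟨t, ht⟩)
  have hzC : z ∈ (Subgroup.centralizer ({x} : Set G)) := Subgroup.mem_centralizer_singleton_iff.mpr (hcent x hxT).symm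
  -- both involutions lie in a cyclic Sylow subgroup of the centralizer
  have hzx : z = x := by
    obtain ⟨Q, hxQ, hzQ⟩ := CfsgLib.Invol.exists_sylow_of_commute (G := (Subgroup.centralizer ({x} : Set G))) (x := ⟨x, hxC⟩)
      (y := ⟨z, hzC⟩) (Subtype.ext (CfsgLib.Invol.mul_self_of_orderOf_two hx))
      (Subtype.ext (CfsgLib.Invol.mul_self_of_orderOf_two hz2))
      (Subtype.ext (hcent x hxT))
    haveI : IsCyclic (Q : Subgroup (Subgroup.centralizer ({x} : Set G))) := isCyclic_of_surjective _ (Sylow.equiv S Q).surjective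
    obtain ⟨g, hg⟩ := IsCyclic.exists_generator (α := (Q : Subgroup (Subgroup.centralizer ({x} : Set G))))
    obtain ⟨i, hi⟩ := Subgroup.mem_zpowers_iff.mp (hg ⟨_, hxQ⟩)
    obtain ⟨j, hj⟩ := Subgroup.mem_zpowers_iff.mp (hg ⟨_, hzQ⟩)
    have hmem : ∀ (k : ℤ) (a : G), ((g ^ k : (Q : Subgroup (Subgroup.centralizer ({x} : Set G)))) : (Subgroup.centralizer ({x} : Set G))) = (a : G) →
        a ∈ Subgroup.zpowers ((g : (Subgroup.centralizer ({x} : Set G))) : G) := fun k a h =>
      Subgroup.mem_zpowers_iff.mpr ⟨k, by rw [← h]; simp⟩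
    exact CfsgLib.Invol.mem_zpowers_unique_involution (hmem j z (by rw [hj])) (hmem i x (by rw [hi])) hz2 hx
  have hTC : (T : Subgroup G) ≤ (Subgroup.centralizer ({x} : Set G)) := fun t ht =>
    Subgroup.mem_centralizer_singleton_iff.mpr (hzx ▸ hcent t ht)
  obtain ⟨Q, hQ⟩ := (T.isPGroup'.of_equiv (Subgroup.subgroupOfEquivOfLe hTC).symm).exists_le_sylow
  haveI : IsCyclic (Q : Subgroup (Subgroup.centralizer ({x} : Set G))) := isCyclic_of_surjective _ (Sylow.equiv S Q).surjective
  haveI : IsCyclic ((T : Subgroup G).subgroupOf (Subgroup.centralizer ({x} : Set G))) :=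
    isCyclic_of_injective (Subgroup.inclusion hQ) (Subgroup.inclusion_injective hQ)
  have hTcyc : IsCyclic (T : Subgroup G) :=
    isCyclic_of_surjective _ (Subgroup.subgroupOfEquivOfLe hTC).surjective
  exact index_two_of_cyclic_sylow (even_iff_two_dvd.mpr (hx ▸ orderOf_dvd_natCard x)) T hTcyc

end Cfsg.Agent.S0220
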