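import Cfsg.Statements.S0221
import Cfsg.Agent.S0111
import Cfsg.Agent.Lib.Invol.NormalFourGroup

set_option autoImplicit false
open Cfsg

namespace Cfsg.Agent.S0221

open Subgroup

variable {P : Type*} [Group P]

/-- Two commuting exponent-two subgroups generate an exponent-two subgroup. -/
private theorem sup_sq {A B : Subgroup P} (hA : ∀ a ∈ A, a * a = 1) (hB : ∀ b ∈ B, b * b = 1)
    (hAB : ∀ a ∈ A, ∀ b ∈ B, a * b = b * a) : ∀ x ∈ A ⊔ B, x * x = 1 := by
  have hcomm2 : ∀ (C : Subgroup P), (∀ c ∈ C, c * c = 1) → ∀ c ∈ C, ∀ d ∈ C, c * d = d * c := by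
    intro C hC c hc d hd
    calc c * d = (c * d)⁻¹ := (inv_eq_of_mul_eq_one_right (hC _ (mul_mem hc hd))).symm
      _ = d * c := by rw [mul_inv_rev, inv_eq_of_mul_eq_one_right (hC _ hc), inv_eq_of_mul_eq_one_right (hC _ hd)]
  intro x hx
  have key : ∀ y ∈ A ⊔ B, y ∈ centralizer ((A : Set P) ∪ B) := by
    intro y hy
    refine (sup_le (fun a ha => ?_) (fun b hb => ?_) : A ⊔ B ≤ centralizer ((A : Set P) ∪ B)) hy
    · rw [mem_centralizer_iff]
      rintro c (hc | hc)
      · exact hcomm2 A hA c hc a ha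
      · exact (hAB a ha c hc).symm
    · rw [mem_centralizer_iff]
      rintro c (hc | hc)
      · exact hAB c hc b hb
      · exact hcomm2 B hB c hc b hb
  rw [sup_eq_closure] at hx
  induction hx using closure_induction with
  | mem y hy => rcases hy with h | h
                · exact hA y h
                · exact hB y h
  | one => exact one_mul 1
  | mul a b ha hb iha ihb =>
    have hbc : ∀ z ∈ closure ((A : Set P) ∪ B), z * b = b * z := by
      intro z hz
      refine mem_centralizer_iff.mp ?_ b hb |>.symm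
      have : closure ((A : Set P) ∪ B) ≤ centralizer ((closure ((A : Set P) ∪ B) : Subgroup P) : Set P) := by
        rw [le_centralizer_iff, closure_le]
        intro t ht
        rw [SetLike.mem_coe, mem_centralizer_iff]
        intro u hu
        exact (mem_centralizer_iff.mp (key u (by rw [sup_eq_closure]; exact hu)) t ht).symm
      exact this hz
    rw [show a * b * (a * b) = a * (b * a) * b by group, ← hbc a ha,
      show a * (a * b) * b = (a * a) * (b * b) by group, iha, ihb, one_mul]
  | inv a _ iha => rw [← mul_inv_rev, iha, inv_one]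

/-- In a 2-group, an exponent-two subgroup with more than four elements contains one of order eight. -/
private theorem cut_eight [Finite P] (hP : IsPGroup 2 P) (W : Subgroup P) (hW : 4 < Nat.card W) :
    ∃ F : Subgroup P, F ≤ W ∧ Nat.card F = 8 := by
  haveI : Fact (Nat.Prime 2) := ⟨Nat.prime_two⟩
  obtain ⟨m, hm⟩ := IsPGroup.iff_card.mp (hP.to_subgroup W)
  have h3 : 3 ≤ m := by
    by_contra h
    have : 2 ^ m ≤ 2 ^ 2 := Nat.pow_le_pow_right (by norm_num) (by omega)
    omega
  obtain ⟨K, hK⟩ := Sylow.exists_subgroup_card_pow_prime 2 (n := 3) (G := W) (hm ▸ pow_dvd_pow 2 h3)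
  exact ⟨K.map W.subtype, map_subtype_le K, by rw [card_map_of_injective W.subtype_injective, hK]; rfl⟩

/-- Every involution centralising the normal four-group lies in an elementary abelian group of order 8. -/
private theorem eight_in_centralizer [Finite P] (hP : IsPGroup 2 P) (E U : Subgroup P) (hE : Nat.card E = 8)
    (hE2 : ∀ e ∈ E, e * e = 1) (hU : Nat.card U = 4) (hU2 : ∀ u ∈ U, u * u = 1)
    (hidx : (centralizer (U : Set P)).index ≤ 2) (y : P) (hy : y * y = 1) (hyC : y ∈ centralizer (U : Set P)) :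
    ∃ F : Subgroup P, Nat.card F = 8 ∧ (∀ f ∈ F, f * f = 1) ∧ ∀ f ∈ F, f * y = y * f := by
  classical
  by_cases hyU : y ∈ U
  · set B := E ⊓ centralizer (U : Set P) with hB
    have hUB : ∀ u ∈ U, ∀ b ∈ B, u * b = b * u := fun u hu b hb => mem_centralizer_iff.mp hb.2 u hu
    have hbig : 4 < Nat.card (U ⊔ B : Subgroup P) := by
      by_contra hle
      push Not at hle
      have heq : U = U ⊔ B := eq_of_le_of_card_ge le_sup_left (by omega)
      have hBU : B ≤ U := heq ▸ le_sup_right
      have h1 : (centralizer (U : Set P)).relIndex E ≤ 2 := by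
        refine le_trans ?_ hidx
        rw [← relIndex_top_right]
        exact relIndex_le_of_le_right le_top (by rw [relIndex_top_right]; exact index_ne_zero_of_finite)
      have h2 : (B.subgroupOf E).index ≤ 2 := by
        rw [hB]; rw [inf_subgroupOf_left]; exact h1
      have h3 := (B.subgroupOf E).card_mul_index
      rw [Nat.card_congr (subgroupOfEquivOfLe (inf_le_left : B ≤ E)).toEquiv, hE] at h3
      have h4 : 4 ≤ Nat.card B := by
        have := Nat.mul_le_mul_left (Nat.card B) h2
        rw [h3] at this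
        omega
      have hBeq : B = U := eq_of_le_of_card_ge hBU (by omega)
      have hEC : E ≤ centralizer (U : Set P) := fun e he => mem_centralizer_iff.mpr fun u hu => by
        have huE : u ∈ E := (hBeq ▸ hu : u ∈ B).1
        calc u * e = (u * e)⁻¹ := (inv_eq_of_mul_eq_one_right (hE2 _ (mul_mem huE he))).symm
          _ = e * u := by rw [mul_inv_rev, inv_eq_of_mul_eq_one_right (hE2 _ huE), inv_eq_of_mul_eq_one_right (hE2 _ he)]
      have : B = E := inf_eq_left.mpr hEC
      rw [this] at hBU
      have := card_le_of_le hBU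
      omega
    have hsq := sup_sq hU2 (B := B) (fun b (hb : b ∈ E ⊓ centralizer (U : Set P)) => hE2 b hb.1) hUB
    obtain ⟨F, hF, hF8⟩ := cut_eight hP _ hbig
    refine ⟨F, hF8, fun f hf => hsq f (hF hf), fun f hf => ?_⟩
    have h1 := hsq _ (mul_mem (hF hf) (mem_sup_left hyU))
    calc f * y = (f * y)⁻¹ := (inv_eq_of_mul_eq_one_right h1).symm
      _ = y * f := by rw [mul_inv_rev, inv_eq_of_mul_eq_one_right (hsq f (hF hf)), inv_eq_of_mul_eq_one_right hy]
  · have hY : ∀ b ∈ zpowers y, b * b = 1 := by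
      rintro _ ⟨i, rfl⟩
      show y ^ i * y ^ i = 1
      rw [← zpow_add, ← two_mul, zpow_mul, zpow_two, hy, one_zpow]
    have hUY : ∀ u ∈ U, ∀ b ∈ zpowers y, u * b = b * u := by
      rintro u hu _ ⟨i, rfl⟩
      exact (Commute.zpow_right (show Commute u y from mem_centralizer_iff.mp hyC u hu) i).eq
    have hsq := sup_sq hU2 hY hUY
    have hbig : 4 < Nat.card (U ⊔ zpowers y : Subgroup P) := by
      by_contra hle
      push Not at hle
      exact hyU ((eq_of_le_of_card_ge le_sup_left (by omega) : U = U ⊔ zpowers y) ▸ mem_sup_right (mem_zpowers y))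
    obtain ⟨F, hF, hF8⟩ := cut_eight hP _ hbig
    refine ⟨F, hF8, fun f hf => hsq f (hF hf), fun f hf => ?_⟩
    have h1 := hsq _ (mul_mem (hF hf) (mem_sup_right (mem_zpowers y)))
    calc f * y = (f * y)⁻¹ := (inv_eq_of_mul_eq_one_right h1).symm
      _ = y * f := by rw [mul_inv_rev, inv_eq_of_mul_eq_one_right (hsq f (hF hf)), inv_eq_of_mul_eq_one_right hy]

/-- The centraliser of a normal four-group of a 2-group has index at most two. -/
private theorem centralizer_index [Finite P] (hP : IsPGroup 2 P) (U : Subgroup P) [U.Normal] (hU : Nat.card U = 4) :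
    (centralizer (U : Set P)).index ≤ 2 := by
  classical
  haveI : Fact (Nat.Prime 2) := ⟨Nat.prime_two⟩
  have hne : U ≠ ⊥ := fun h => by rw [h, card_bot] at hU; omega
  have h4 := CfsgLib.PGroup.inf_center_ne_bot (p := 2) hP U hne
  obtain ⟨z, ⟨hzU, hzc⟩, hz1⟩ : ∃ z ∈ U ⊓ center P, z ≠ 1 := by
    by_contra h; push Not at h; exact h4 ((eq_bot_iff_forall _).mpr h)
  by_cases htop : centralizer (U : Set P) = ⊤
  · rw [htop, index_top]; omega
  obtain ⟨a, ha⟩ : ∃ a, a ∉ centralizer (U : Set P) := by
    by_contra h; push Not at h; exact htop ((eq_top_iff' _).mpr h)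
  obtain ⟨u, hu, hua⟩ : ∃ u ∈ U, a * u * a⁻¹ ≠ u := by
    by_contra h
    push Not at h
    exact ha (mem_centralizer_iff.mpr fun u hu => ((mul_inv_eq_iff_eq_mul.mp (h u hu))).symm)
  have hu1 : u ≠ 1 := by rintro rfl; exact hua (by group)
  have huz : u ≠ z := by
    rintro rfl; exact hua (by rw [mem_center_iff.mp hzc a, mul_inv_cancel_right])
  have hzu1 : z * u ≠ 1 := fun h => by
    have : u = z⁻¹ := eq_inv_of_mul_eq_one_right h
    exact hua (by rw [this, mem_center_iff.mp (inv_mem hzc) a, mul_inv_cancel_right])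
  have hset : (U : Set P) = {1, z, u, z * u} := by
    refine (Set.eq_of_subset_of_ncard_le ?_ ?_ (Set.toFinite _)).symm
    · rintro x (rfl | rfl | rfl | rfl)
      · exact one_mem U
      · exact hzU
      · exact hu
      · exact mul_mem hzU hu
    · rw [show (U : Set P).ncard = Nat.card U from rfl, hU,
        Set.ncard_insert_of_notMem (by simp [Ne.symm hz1, Ne.symm hu1, Ne.symm hzu1]),
        Set.ncard_insert_of_notMem (by simp [Ne.symm huz, hu1]), Set.ncard_pair (by simpa using hz1)]
  have hin : ∀ g : P, g * u * g⁻¹ = u → g ∈ centralizer (U : Set P) := by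
    intro g hg
    rw [mem_centralizer_iff]
    intro x hx
    rw [hset] at hx
    rcases hx with rfl | rfl | rfl | rfl
    · simp
    · exact (mem_center_iff.mp hzc g).symm
    · exact (mul_inv_eq_iff_eq_mul.mp hg).symm
    · rw [mul_assoc, ← mul_inv_eq_iff_eq_mul.mp hg, ← mul_assoc, ← mem_center_iff.mp hzc g, mul_assoc]
  have hconj : ∀ g : P, g ∉ centralizer (U : Set P) → g * u * g⁻¹ = z * u := by
    intro g hg
    have hm : g * u * g⁻¹ ∈ (U : Set P) := ‹U.Normal›.conj_mem u hu g
    rw [hset] at hm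
    rcases hm with h | h | h | h
    · exact absurd (conj_eq_one_iff.mp h) hu1
    · exfalso
      apply huz
      have := mul_inv_eq_iff_eq_mul.mp h
      rw [← mem_center_iff.mp hzc g] at this
      exact mul_left_cancel this
    · exact absurd (hin g h) hg
    · exact h
  refine le_of_eq (index_eq_two_iff.mpr ⟨a, fun b => ?_⟩)
  by_cases hb : b ∈ centralizer (U : Set P)
  · exact Or.inr ⟨hb, fun h => ha ((mul_mem_cancel_left hb).mp h)⟩
  · refine Or.inl ⟨hin _ ?_, hb⟩
    rw [show b * a * u * (b * a)⁻¹ = b * (a * u * a⁻¹) * b⁻¹ by group, hconj a ha,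
      show b * (z * u) * b⁻¹ = (b * z * b⁻¹) * (b * u * b⁻¹) by group, hconj b hb,
      mem_center_iff.mp hzc b, mul_inv_cancel_right, ← mul_assoc]
    have hz2 : z * z = 1 := by
      have := hconj a ha
      have h2 : a * (a * u * a⁻¹) * a⁻¹ = z * (z * u) := by
        rw [this, show a * (z * u) * a⁻¹ = (a * z * a⁻¹) * (a * u * a⁻¹) by group, this,
          mem_center_iff.mp hzc a, mul_inv_cancel_right]
      have hzz : z * z = z * z := rfl
      have hm : z * z ∈ (U : Set P) := mul_mem hzU hzU
      rw [hset] at hm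
      rcases hm with h | h | h | h
      · exact h
      · exact absurd (mul_eq_left.mp h) hz1
      · exfalso
        apply hua
        rw [← h, show a * (z * z) * a⁻¹ = (a * z * a⁻¹) * (a * z * a⁻¹) by group,
          mem_center_iff.mp hzc a, mul_inv_cancel_right]
      · exact absurd (mul_left_cancel h).symm huz
    rw [hz2, one_mul]

/-- Let G be a finite group with no subgroup of index 2 whose 2-rank is at least 3 (it contains an elementary abelian subgroup of order 8). Then the centralizer of every involution of G also contains an elementary abelian subgroup of order 8. -/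
theorem result {G : Type*} [Group G] [Finite G] (hno : ∀ H : Subgroup G, H.index ≠ 2) (hrank : ∃ E : Subgroup G, Nat.card E = 8 ∧ ∀ e ∈ E, e ^ 2 = 1) (x : G) (hx : orderOf x = 2) : ∃ E : Subgroup G, E ≤ Subgroup.centralizer ({x} : Set G) ∧ Nat.card E = 8 ∧ ∀ e ∈ E, e ^ 2 = 1 := by
  classical
  haveI : Fact (Nat.Prime 2) := ⟨Nat.prime_two⟩
  obtain ⟨E, hE, hE2⟩ := hrank
  obtain ⟨S, hES⟩ := (IsPGroup.of_card (p := 2) (n := 3) (by rw [hE]; norm_num) : IsPGroup 2 E).exists_le_sylow
  let E' : Subgroup S := E.subgroupOf (S : Subgroup G)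
  have hE' : Nat.card E' = 8 := by rw [Nat.card_congr (subgroupOfEquivOfLe hES).toEquiv, hE]
  have hE'2 : ∀ e ∈ E', e * e = 1 := fun e he => Subtype.ext (by
    have := hE2 e.1 he
    rwa [pow_two] at this)
  obtain ⟨U, hUn, hU4, hU2⟩ := CfsgLib.Invol.FourGroup.exists_normal_four S.isPGroup' E' hE' hE'2
  haveI := hUn
  have hidx := centralizer_index S.isPGroup' U hU4
  set M := (centralizer (U : Set S)).map (S : Subgroup G).subtype with hM
  -- some conjugate of `x` lies in `M`
  have hxp : IsPGroup 2 (zpowers x) := IsPGroup.of_card (n := 1) (by rw [Nat.card_zpowers, hx, pow_one])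
  obtain ⟨T, hxT⟩ := hxp.exists_le_sylow
  obtain ⟨g, hg⟩ := MulAction.exists_smul_eq G T S
  have hyS : g * x * g⁻¹ ∈ (S : Subgroup G) := by
    rw [← hg]
    exact ⟨x, hxT (mem_zpowers x), rfl⟩
  have hordy : ∀ h : G, orderOf (h * x * h⁻¹) = 2 := fun h => by
    rw [← hx]; exact (MulAut.conj h).orderOf_eq x
  obtain ⟨h, hh⟩ : ∃ h : G, h * x * h⁻¹ ∈ M := by
    by_cases hyM : g * x * g⁻¹ ∈ M
    · exact ⟨g, hyM⟩
    have hrel : M.relIndex (S : Subgroup G) = 2 := by
      have h1 : M.subgroupOf (S : Subgroup G) = centralizer (U : Set S) :=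
        comap_map_eq_self_of_injective (S : Subgroup G).subtype_injective _
      have h2 : (centralizer (U : Set S)).index ≠ 1 := by
        rw [Ne, index_eq_one]
        intro htop
        exact hyM ⟨⟨_, hyS⟩, by rw [SetLike.mem_coe, htop]; trivial, rfl⟩
      have h3 : (centralizer (U : Set S)).index ≠ 0 := index_ne_zero_of_finite
      rw [relIndex, h1]; omega
    rcases Cfsg.Agent.S0111.result S M (map_subtype_le _) hrel _ (hordy g) hyS hyM with ⟨N, -, hN, -⟩ | ⟨k, hk⟩
    · exact absurd hN (hno N)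
    · exact ⟨k * g, by rwa [show k * g * x * (k * g)⁻¹ = k * (g * x * g⁻¹) * k⁻¹ by group]⟩
  obtain ⟨y, hyC, hy⟩ := hh
  have hy2 : y * y = 1 := Subtype.ext (by
    have h2 := pow_orderOf_eq_one (h * x * h⁻¹)
    rw [hordy h, pow_two, ← hy] at h2
    exact h2)
  obtain ⟨F, hF8, hF2, hFy⟩ := eight_in_centralizer S.isPGroup' E' U hE' hE'2 hU4 hU2 hidx y hy2 hyC
  let ψ : S →* G := (MulAut.conj h⁻¹).toMonoidHom.comp (S : Subgroup G).subtype
  have hψ : Function.Injective ψ := (MulAut.conj h⁻¹).injective.comp (S : Subgroup G).subtype_injective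
  have hψy : ψ y = x := by
    show h⁻¹ * (y : G) * h⁻¹⁻¹ = x
    rw [show ((y : G)) = h * x * h⁻¹ from hy]; group
  refine ⟨F.map ψ, ?_, by rw [card_map_of_injective hψ, hF8], ?_⟩
  · rintro _ ⟨f, hf, rfl⟩
    rw [mem_centralizer_singleton_iff, ← hψy, ← map_mul, ← map_mul, hFy f hf]
  · rintro _ ⟨f, hf, rfl⟩
    rw [← map_pow, pow_two, hF2 f hf, map_one]

end Cfsg.Agent.S0221
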