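import Cfsg.Statements.S0224
import Cfsg.Agent.Lib.Invol.Embedded

set_option autoImplicit false
open Cfsg

namespace Cfsg.Agent.S0224

/-- Let H be a proper subgroup of even order of the finite group G. Then H is strongly embedded if and only if each involution of H fixes exactly one point (namely the coset H) in the action of G on the cosets of H. -/
theorem result {G : Type*} [Group G] [Finite G] (H : Subgroup G) (hH : H ≠ ⊤) (heven : Even (Nat.card H)) : Cfsg.IsStronglyEmbedded H ↔ ∀ t ∈ H, orderOf t = 2 → Nat.card {c : G ⧸ H // t • c = c} = 1 := by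
  have hone : ∀ t ∈ H, t • (QuotientGroup.mk 1 : G ⧸ H) = QuotientGroup.mk 1 := fun t ht =>
    CfsgLib.Invol.smul_coset_eq_self.mpr (by simpa using ht)
  constructor
  · intro hSE t ht ht2
    rw [Nat.card_eq_one_iff_exists]
    exact ⟨⟨QuotientGroup.mk 1, hone t ht⟩, fun c =>
      Subtype.ext (CfsgLib.Invol.stronglyEmbedded_fixed_unique hSE ht2 c.2 (hone t ht))⟩
  · intro h
    refine ⟨hH, heven, fun g hg => ?_⟩
    by_contra hodd
    rw [Nat.not_odd_iff_even] at hodd
    obtain ⟨⟨t, htm⟩, ht⟩ := exists_prime_orderOf_dvd_card' 2 (even_iff_two_dvd.mp hodd)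
    rw [← Subgroup.orderOf_coe] at ht
    obtain ⟨htH, htg⟩ := Subgroup.mem_inf.mp htm
    rw [CfsgLib.Invol.mem_map_conj] at htg
    haveI := (Nat.card_eq_one_iff_unique.mp (h t htH ht)).1
    have := Subsingleton.elim (⟨QuotientGroup.mk 1, hone t htH⟩ : {c : G ⧸ H // t • c = c})
      ⟨QuotientGroup.mk g, CfsgLib.Invol.smul_coset_eq_self.mpr htg⟩
    have h1 := QuotientGroup.eq.mp (Subtype.mk.inj this)
    exact hg (by simpa using h1)

end Cfsg.Agent.S0224
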