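import Cfsg.Statements.S0226
import Cfsg.Agent.Lib.Invol.Dihedral

set_option autoImplicit false
open Cfsg

namespace Cfsg.Agent.S0226

/-- A finite group of even order has an odd number of involutions. -/
theorem result {G : Type*} [Group G] [Finite G] (heven : Even (Nat.card G)) : Odd (Nat.card {t : G // orderOf t = 2}) := by
  classical
  haveI := Fintype.ofFinite G
  let S := {a : G // a * a = 1}
  have hdvd : 2 ∣ Nat.card {a : G // a * a = 1} := by
    have h1 : (Finset.univ.filter (fun a : G => ¬ a * a = 1)).card % 2 = 0 := by
      let s := Finset.univ.filter (fun a : G => ¬ a * a = 1)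
      have : Even s.card := by
        have h := Finset.sum_involution (s := s) (f := fun _ => (1 : ZMod 2)) (fun a _ => a⁻¹)
          (fun _ _ => by decide)
          (fun a ha _ h => (Finset.mem_filter.mp ha).2 (by nth_rewrite 1 [← h]; exact inv_mul_cancel a))
          (fun a ha => Finset.mem_filter.mpr ⟨Finset.mem_univ _, fun h => (Finset.mem_filter.mp ha).2
            (by rw [← mul_inv_rev] at h; exact inv_eq_one.mp h)⟩) (fun a _ => inv_inv a)
        simpa [ZMod.natCast_eq_zero_iff_even] using h
      exact Nat.even_iff.mp this
    have h2 := Finset.card_filter_add_card_filter_not (s := (Finset.univ : Finset G)) (fun a : G => a * a = 1)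
    rw [Nat.card_eq_fintype_card, Fintype.card_subtype]
    rw [Finset.card_univ, ← Nat.card_eq_fintype_card] at h2
    obtain ⟨m, hm⟩ := heven
    omega
  have e : Nat.card {a : G // a * a = 1} = Nat.card {t : G // orderOf t = 2} + 1 := by
    rw [Nat.card_eq_fintype_card, Nat.card_eq_fintype_card, Fintype.card_subtype, Fintype.card_subtype]
    have hins : Finset.univ.filter (fun a : G => a * a = 1) =
        insert 1 (Finset.univ.filter (fun t : G => orderOf t = 2)) := by
      ext a
      simp only [Finset.mem_filter, Finset.mem_univ, true_and, Finset.mem_insert,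
        CfsgLib.Invol.orderOf_eq_two_iff']
      by_cases h : a = 1 <;> simp [h]
    rw [hins, Finset.card_insert_of_notMem (by simp)]
  obtain ⟨k, hk⟩ := hdvd
  exact ⟨k - 1, by omega⟩

end Cfsg.Agent.S0226
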