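import Cfsg.Statements.S0228
import Cfsg.Agent.Lib.Invol.Counting
import Cfsg.Agent.Lib.SmallGroups.Basic

set_option autoImplicit false
open Cfsg

namespace Cfsg.Agent.S0228

/-- A group of order 12 in which no involution is central is isomorphic to the alternating group on four letters. -/
theorem result {G : Type*} [Group G] [Finite G] (hG : Nat.card G = 12) (hz : ∀ z : G, orderOf z = 2 → z ∉ Subgroup.center G) : Nonempty (G ≃* alternatingGroup (Fin 4)) := by
  classical
  haveI : Fact (Nat.Prime 3) := ⟨by norm_num⟩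
  obtain ⟨R⟩ : Nonempty (Sylow 3 G) := inferInstance
  obtain ⟨P⟩ : Nonempty (Sylow 2 G) := inferInstance
  have hR3 : Nat.card (R : Subgroup G) = 3 := by
    simpa using CfsgLib.SmallGroups.card_sylow_eq (a := 1) (m := 4) (by rw [hG]; norm_num) (by norm_num) R
  have hidx : (R : Subgroup G).index = 4 := by
    have := (R : Subgroup G).card_mul_index; rw [hR3, hG] at this; omega
  have hn : Nat.card (Sylow 3 G) ∣ 4 := hidx ▸ R.card_dvd_index
  have hn1 : Nat.card (Sylow 3 G) ≠ 1 := by
    intro h1
    have hnorm := CfsgLib.SmallGroups.sylow_normal_of_card_eq_one h1 R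
    haveI : IsCyclic (R : Subgroup G) := isCyclic_of_prime_card hR3
    obtain ⟨⟨r, hr⟩, hgen⟩ := IsCyclic.exists_generator (α := (R : Subgroup G))
    have hr3 : orderOf r = 3 := by
      rw [← Subgroup.orderOf_mk r hr, orderOf_eq_card_of_forall_mem_zpowers hgen, hR3]
    have hcl : Nat.card {y : G // IsConj r y} ≤ 2 := by
      let F := Finset.univ (α := Fin 2)
      refine (Nat.card_le_card_of_injective (fun y : {y : G // IsConj r y} => (if y.1 = r then 0 else 1 : Fin 2)) ?_).trans (by simp)
      have key : ∀ y : {y : G // IsConj r y}, y.1 = r ∨ y.1 = r ^ 2 := by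
        rintro ⟨y, hy⟩
        obtain ⟨g, rfl⟩ := isConj_iff.mp hy
        obtain ⟨k, hk⟩ := hgen ⟨g * r * g⁻¹, hnorm.conj_mem r hr g⟩
        have hk' : r ^ k = g * r * g⁻¹ := by simpa using congrArg Subtype.val hk
        rw [← zpow_mod_orderOf, hr3] at hk'
        have : k % ((3 : ℕ) : ℤ) = 0 ∨ k % ((3 : ℕ) : ℤ) = 1 ∨ k % ((3 : ℕ) : ℤ) = 2 := by omega
        rcases this with h | h | h <;> rw [h] at hk'
        · exfalso
          have : orderOf (g * r * g⁻¹) = 1 := by rw [← hk']; simp
          rw [CfsgLib.Invol.orderOf_conj_eq, hr3] at this; omega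
        · left; simpa using hk'.symm
        · right; show g * r * g⁻¹ = r ^ 2; rw [← hk']; exact zpow_natCast r 2
      intro a b hab
      apply Subtype.ext
      dsimp only at hab
      split_ifs at hab with ha hb hb
      · rw [ha, hb]
      · exact absurd hab (by decide)
      · exact absurd hab (by decide)
      · rw [(key a).resolve_left ha, (key b).resolve_left hb]
    have hC := CfsgLib.Invol.card_conjugates_mul r
    set C := Subgroup.centralizer ({r} : Set G) with hCdef
    have hCd : Nat.card C ∣ 12 := hG ▸ C.card_subgroup_dvd_card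
    have hC2 : 2 ∣ Nat.card C := by
      have : 6 ≤ Nat.card C := by rw [hG] at hC; nlinarith
      have hle := Nat.le_of_dvd (by norm_num) hCd
      generalize Nat.card C = c at *
      interval_cases c <;> simp_all (config := {decide := true})
    obtain ⟨t, ht⟩ := exists_prime_orderOf_dvd_card' (G := C) 2 hC2
    have ht' : orderOf (t : G) = 2 := by rw [Subgroup.orderOf_coe]; exact ht
    obtain ⟨Q, hQ⟩ := ((show IsPGroup 2 (Subgroup.zpowers (t : G)) from IsPGroup.of_card (n := 1)
      (by rw [Nat.card_zpowers, ht', pow_one]))).exists_le_sylow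
    have hQ4 : Nat.card (Q : Subgroup G) = 2 ^ 2 := by
      exact CfsgLib.SmallGroups.card_sylow_eq (a := 2) (m := 3) (by rw [hG]; norm_num) (by norm_num) Q
    apply hz t ht'
    have hD : Subgroup.centralizer ({(t : G)} : Set G) = ⊤ := by
      apply Subgroup.eq_top_of_le_card
      rw [hG]
      apply Nat.le_of_dvd Nat.card_pos
      rw [show (12 : ℕ) = 2 ^ 2 * 3 by norm_num]
      refine Nat.Coprime.mul_dvd_of_dvd_of_dvd (by norm_num) ?_ ?_
      · rw [← hQ4]
        refine Subgroup.card_dvd_of_le fun q hq => Subgroup.mem_centralizer_singleton_iff.mpr ?_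
        have := IsPGroup.commutative_of_card_eq_prime_sq hQ4
        exact congrArg Subtype.val (this (⟨q, hq⟩ : (Q : Subgroup G)) ⟨t, hQ (Subgroup.mem_zpowers _)⟩)
      · rw [← hr3, ← Nat.card_zpowers]
        refine Subgroup.card_dvd_of_le ?_
        rw [Subgroup.zpowers_le, Subgroup.mem_centralizer_singleton_iff]
        exact (Subgroup.mem_centralizer_singleton_iff.mp t.2).symm
    exact Subgroup.mem_center_iff.mpr fun g => Subgroup.mem_centralizer_singleton_iff.mp (hD ▸ Subgroup.mem_top g)
  have hn4 : Nat.card (Sylow 3 G) = 4 := by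
    have h3 := card_sylow_modEq_one 3 G
    have := Nat.le_of_dvd (by norm_num) hn
    rw [Nat.ModEq] at h3
    generalize Nat.card (Sylow 3 G) = s at *
    interval_cases s <;> simp_all (config := {decide := true})
  have hNR : Subgroup.normalizer ((R : Subgroup G) : Set G) = (R : Subgroup G) := by
    refine (Subgroup.eq_of_le_of_card_ge Subgroup.le_normalizer ?_).symm
    have h := (Subgroup.normalizer ((R : Subgroup G) : Set G)).card_mul_index
    rw [← CfsgLib.SmallGroups.card_sylow_eq_index R, hn4, hG] at h
    omega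
  let e : Sylow 3 G ≃ Fin 4 := Finite.equivFinOfCardEq hn4
  let f : G →* Equiv.Perm (Fin 4) := (e.permCongrHom).toMonoidHom.comp (MulAction.toPermHom G (Sylow 3 G))
  have hinj : Function.Injective f := by
    apply e.permCongrHom.injective.comp
    rw [← MonoidHom.ker_eq_bot_iff]
    refine (Subgroup.eq_bot_iff_forall _).mpr fun g hg => ?_
    have hall : ∀ T : Sylow 3 G, g • T = T := fun T => congrArg (fun σ : Equiv.Perm (Sylow 3 G) => σ T) hg
    have hgR : g ∈ (R : Subgroup G) := hNR ▸ (Sylow.smul_eq_iff_mem_normalizer.mp (hall R))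
    obtain ⟨T, hT⟩ : ∃ T : Sylow 3 G, T ≠ R := by
      haveI : Nontrivial (Sylow 3 G) := Finite.one_lt_card_iff_nontrivial.mp (by omega)
      exact exists_ne R
    have hgT : g ∈ (T : Subgroup G) := by
      have hNT : Subgroup.normalizer ((T : Subgroup G) : Set G) = (T : Subgroup G) := by
        refine (Subgroup.eq_of_le_of_card_ge Subgroup.le_normalizer ?_).symm
        have h := (Subgroup.normalizer ((T : Subgroup G) : Set G)).card_mul_index
        rw [← CfsgLib.SmallGroups.card_sylow_eq_index T, hn4, hG] at h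
        have : Nat.card (T : Subgroup G) = 3 := by rw [Sylow.card_eq_multiplicity, ← Sylow.card_eq_multiplicity R, hR3]
        omega
      exact hNT ▸ (Sylow.smul_eq_iff_mem_normalizer.mp (hall T))
    by_contra hg1
    apply hT
    have hT3 : Nat.card (T : Subgroup G) = 3 := by rw [Sylow.card_eq_multiplicity, ← Sylow.card_eq_multiplicity R, hR3]
    have ho : orderOf g = 3 := by
      have h1 := orderOf_dvd_natCard (⟨g, hgR⟩ : (R : Subgroup G))
      rw [Subgroup.orderOf_mk, hR3] at h1
      exact ((Nat.dvd_prime (by norm_num)).mp h1).resolve_left (fun h => hg1 (orderOf_eq_one_iff.mp h))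
    have e1 := Subgroup.eq_of_le_of_card_ge (Subgroup.zpowers_le.mpr hgT) (by rw [Nat.card_zpowers, ho, hT3])
    have e2 := Subgroup.eq_of_le_of_card_ge (Subgroup.zpowers_le.mpr hgR) (by rw [Nat.card_zpowers, ho, hR3])
    exact Sylow.ext (e1.symm.trans e2)
  have hidx2 : f.range.index = 2 := by
    have h := f.range.card_mul_index
    rw [Nat.card_congr (MonoidHom.ofInjective hinj).toEquiv.symm, hG, Nat.card_perm, Nat.card_eq_fintype_card,
      Fintype.card_fin] at h
    simp [Nat.factorial] at h; omega
  exact ⟨(MonoidHom.ofInjective hinj).trans (MulEquiv.subgroupCongr (Equiv.Perm.eq_alternatingGroup_of_index_eq_two hidx2))⟩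

end Cfsg.Agent.S0228
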