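import Cfsg.Statements.S0230
import Cfsg.Agent.Lib.Invol.Counting

set_option autoImplicit false
open Cfsg

namespace Cfsg.Agent.S0230

/-- Let G be a finite group with two non-conjugate involutions, and let t be an involution whose centralizer has maximal order among centralizers of involutions. Then |G| < |C_G(t)|^3. -/
theorem result {G : Type*} [Group G] [Finite G] (s t : G) (hs : orderOf s = 2) (ht : orderOf t = 2) (hnc : ¬ IsConj s t) (hmax : ∀ u : G, orderOf u = 2 → Nat.card (Subgroup.centralizer ({u} : Set G)) ≤ Nat.card (Subgroup.centralizer ({t} : Set G))) : Nat.card G < Nat.card (Subgroup.centralizer ({t} : Set G)) ^ 3 := by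
  classical
  haveI := Fintype.ofFinite G
  set c := Nat.card (Subgroup.centralizer ({t} : Set G)) with hcdef
  -- every conjugate of `s` centralises some involution of C(t)
  have hex : ∀ v : {v : G // IsConj s v}, ∃ z : {z : G // z ∈ Subgroup.centralizer ({t} : Set G) ∧ orderOf z = 2},
      v.1 ∈ Subgroup.centralizer ({z.1} : Set G) := by
    rintro ⟨v, hv⟩
    obtain ⟨z, hz, hzt, hzv, -⟩ := CfsgLib.Invol.exists_common_involution ht
      ((CfsgLib.Invol.orderOf_eq_of_isConj hv).symm.trans hs) (fun h => hnc (hv.trans h.symm))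
    exact ⟨⟨z, Subgroup.mem_centralizer_singleton_iff.mpr hzt.eq, hz⟩,
      Subgroup.mem_centralizer_singleton_iff.mpr hzv.symm.eq⟩
  choose f hf using hex
  let Z := {z : G // z ∈ Subgroup.centralizer ({t} : Set G) ∧ orderOf z = 2}
  have h1 : Nat.card {v : G // IsConj s v} ≤ Nat.card (Σ z : Z, Subgroup.centralizer ({z.1} : Set G)) := by
    refine Nat.card_le_card_of_injective (fun v => ⟨f v, ⟨v.1, hf v⟩⟩) ?_
    intro a b h
    have := congrArg (fun q : (Σ z : Z, Subgroup.centralizer ({z.1} : Set G)) => (q.2 : G)) h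
    exact Subtype.ext this
  have h2 : Nat.card (Σ z : Z, Subgroup.centralizer ({z.1} : Set G)) ≤ Nat.card Z * c := by
    rw [Nat.card_sigma, Nat.card_eq_fintype_card (α := Z), ← Finset.card_univ, ← smul_eq_mul]
    exact Finset.sum_le_card_nsmul _ _ _ (fun z _ => hmax z.1 z.2.2)
  have h3 : Nat.card Z < c := by
    rw [hcdef, Nat.card_eq_fintype_card, Nat.card_eq_fintype_card]
    refine Fintype.card_lt_of_injective_of_notMem (fun z : Z => (⟨z.1, z.2.1⟩ : Subgroup.centralizer ({t} : Set G)))
      (fun a b h => Subtype.ext (Subtype.mk.inj h)) (b := 1) ?_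
    rintro ⟨z, hz⟩
    exact CfsgLib.Invol.ne_one_of_orderOf_two z.2.2 (congrArg Subtype.val hz)
  have e := CfsgLib.Invol.card_conjugates_mul s
  have hs' := hmax s hs
  have hspos := CfsgLib.Invol.card_centralizer_pos s
  have hcpos : 0 < c := Nat.card_pos
  calc Nat.card G = Nat.card {v : G // IsConj s v} * Nat.card (Subgroup.centralizer ({s} : Set G)) := e.symm
    _ ≤ (Nat.card Z * c) * c := Nat.mul_le_mul (h1.trans h2) hs'
    _ < (c * c) * c := Nat.mul_lt_mul_of_pos_right (Nat.mul_lt_mul_of_pos_right h3 hcpos) hcpos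
    _ = c ^ 3 := by ring

end Cfsg.Agent.S0230
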