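import Cfsg.Statements.S0231
import Cfsg.Agent.Lib.Invol.Isolated

set_option autoImplicit false
open scoped Pointwise
open Cfsg

namespace Cfsg.Agent.S0231

/-- Let T be a Sylow 2-subgroup of the finite group G which is not normal and which intersects every other Sylow 2-subgroup trivially. Then G has a single conjugacy class of involutions. -/
theorem result {G : Type*} [Group G] [Finite G] (T : Sylow 2 G) (hnn : ¬ (T : Subgroup G).Normal) (hTI : ∀ g : G, MulAut.conj g • (T : Subgroup G) ≠ T → MulAut.conj g • (T : Subgroup G) ⊓ T = ⊥) (s t : G) (hs : orderOf s = 2) (ht : orderOf t = 2) : IsConj s t := by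
  classical
  -- an involution in two conjugates of T forces equality
  have huniq : ∀ (P Q : Sylow 2 G) (z : G), z ≠ 1 → z ∈ (P : Subgroup G) → z ∈ (Q : Subgroup G) → P = Q := by
    intro P Q z hz hzP hzQ
    obtain ⟨a, rfl⟩ := MulAction.exists_smul_eq G T P
    obtain ⟨b, rfl⟩ := MulAction.exists_smul_eq G T Q
    rw [Sylow.coe_subgroup_smul, Subgroup.mem_pointwise_smul_iff_inv_smul_mem] at hzP hzQ
    simp only [← map_inv, MulAut.smul_def, MulAut.conj_apply, inv_inv] at hzP hzQ
    by_contra hne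
    apply hz
    have hbot := hTI (a⁻¹ * b) (fun h => hne (by
      apply Sylow.ext
      rw [Sylow.coe_subgroup_smul, Sylow.coe_subgroup_smul]
      calc MulAut.conj a • (T : Subgroup G) = MulAut.conj a • (MulAut.conj (a⁻¹ * b) • (T : Subgroup G)) := by rw [h]
        _ = MulAut.conj b • (T : Subgroup G) := by rw [← mul_smul, ← map_mul, mul_inv_cancel_left]))
    have hmem : a⁻¹ * z * a ∈ MulAut.conj (a⁻¹ * b) • (T : Subgroup G) ⊓ (T : Subgroup G) := by
      refine ⟨?_, hzP⟩
      show a⁻¹ * z * a ∈ MulAut.conj (a⁻¹ * b) • (T : Subgroup G)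
      rw [Subgroup.mem_pointwise_smul_iff_inv_smul_mem]
      simp only [← map_inv, MulAut.smul_def, MulAut.conj_apply]
      convert hzQ using 1
      group
    rw [hbot, Subgroup.mem_bot] at hmem
    calc z = a * (a⁻¹ * z * a) * a⁻¹ := by group
      _ = 1 := by rw [hmem]; group
  have hsyl : ∀ x : G, orderOf x = 2 → ∃ P : Sylow 2 G, x ∈ (P : Subgroup G) := fun x hx =>
    (CfsgLib.Invol.exists_sylow_of_commute (CfsgLib.Invol.mul_self_of_orderOf_two hx)
      (CfsgLib.Invol.mul_self_of_orderOf_two hx) (Commute.refl x)).imp fun P h => h.1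
  have key : ∀ x y : G, orderOf x = 2 → orderOf y = 2 → ¬ IsConj x y → ∀ P : Sylow 2 G,
      x ∈ (P : Subgroup G) → y ∈ (P : Subgroup G) := by
    intro x y hx hy hnc P hxP
    have he := CfsgLib.Invol.even_of_not_isConj hx hy hnc
    have hz := CfsgLib.Invol.orderOf_half he
    have hzx := CfsgLib.Invol.commute_half_left hx hy he
    have hzy := CfsgLib.Invol.commute_half_right hx hy he
    generalize (x * y) ^ (orderOf (x * y) / 2) = z at hz hzx hzy
    obtain ⟨Q, hzQ, hxQ⟩ := CfsgLib.Invol.exists_sylow_of_commute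
      (CfsgLib.Invol.mul_self_of_orderOf_two hz) (CfsgLib.Invol.mul_self_of_orderOf_two hx) hzx
    obtain ⟨R, hzR, hyR⟩ := CfsgLib.Invol.exists_sylow_of_commute
      (CfsgLib.Invol.mul_self_of_orderOf_two hz) (CfsgLib.Invol.mul_self_of_orderOf_two hy) hzy
    rw [huniq P Q x (CfsgLib.Invol.ne_one_of_orderOf_two hx) hxP hxQ,
      huniq Q R z (CfsgLib.Invol.ne_one_of_orderOf_two hz) hzQ hzR]
    exact hyR
  by_contra hnc
  obtain ⟨P, hsP⟩ := hsyl s hs
  have htP := key s t hs ht hnc P hsP
  -- some other Sylow subgroup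
  have : ∃ g : G, g • P ≠ P := by
    by_contra hall
    push Not at hall
    apply hnn
    refine ⟨fun x hx g => ?_⟩
    have hP : ∀ Q : Sylow 2 G, Q = P := fun Q => by
      obtain ⟨g, rfl⟩ := MulAction.exists_smul_eq G P Q
      exact hall g
    have hTT : g • T = T := (hP _).trans (hP T).symm
    have h2 : g * x * g⁻¹ ∈ ((g • T : Sylow 2 G) : Subgroup G) := by
      rw [Sylow.coe_subgroup_smul, Subgroup.mem_pointwise_smul_iff_inv_smul_mem]
      simpa [MulAut.smul_def, mul_assoc] using hx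
    rwa [hTT] at h2
  obtain ⟨g, hg⟩ := this
  have hu : g * s * g⁻¹ ∈ ((g • P : Sylow 2 G) : Subgroup G) := by
    rw [Sylow.coe_subgroup_smul, Subgroup.mem_pointwise_smul_iff_inv_smul_mem]
    simpa [MulAut.smul_def, mul_assoc] using hsP
  have hu2 : orderOf (g * s * g⁻¹) = 2 := (CfsgLib.Invol.orderOf_conj_eq g s).trans hs
  have hnc' : ¬ IsConj (g * s * g⁻¹) t := fun h => hnc ((isConj_iff.mpr ⟨g, rfl⟩).trans h)
  exact hg (huniq _ P t (CfsgLib.Invol.ne_one_of_orderOf_two ht) (key _ t hu2 ht hnc' _ hu) htP)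

end Cfsg.Agent.S0231
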