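import Cfsg.Statements.S0232
import Cfsg.Agent.Lib.Invol.BrauerFowler

set_option autoImplicit false
open Cfsg

namespace Cfsg.Agent.S0232

open CfsgLib.Invol

theorem bound {G : Type*} [Group G] [Finite G] {t : G} (ht : orderOf t = 2) :
    Nat.card G ≤ Nat.card (Subgroup.centralizer ({t} : Set G)) * Nat.card {t : G // orderOf t = 2} := by
  rw [← card_conjugates_mul t, mul_comm]
  refine Nat.mul_le_mul_left _ (Nat.card_le_card_of_injective
    (fun y : {y : G // IsConj t y} => (⟨y.1, (orderOf_eq_of_isConj y.2).symm.trans ht⟩ : {t : G // orderOf t = 2}))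
    fun a b h => Subtype.ext (congrArg Subtype.val h :))

theorem index_lt {N n c x : ℕ} (hb : N ≤ c * n) (h : 2 * x * n ^ 2 < N * (N + n)) (hc : 0 < c) :
    x < c ^ 2 := by
  by_contra hx
  push Not at hx
  have h1 : N * (N + n) ≤ c * n * (c * n + n) := Nat.mul_le_mul hb (by omega)
  have h2 : c ≤ c ^ 2 := Nat.le_self_pow (by norm_num) c
  have h3 : c ^ 2 * n ^ 2 ≤ x * n ^ 2 := Nat.mul_le_mul_right _ hx
  have h4 : c * n * n ≤ c ^ 2 * n ^ 2 := by rw [pow_two n, ← mul_assoc]; gcongr
  nlinarith

theorem main : ∀ (N : ℕ) {G : Type*} [Group G] [Finite G], Nat.card G = N → Even N → 2 < N →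
    ∃ H : Subgroup G, H ≠ ⊤ ∧ Nat.card G < (Nat.card H) ^ 3 := by
  intro N
  induction N using Nat.strong_induction_on with
  | _ N ih =>
  intro G _ _ hN heven hgt
  subst hN
  rcases Nat.even_or_odd (Nat.card (Subgroup.center G)) with hev | hod
  · obtain ⟨⟨z, hzc⟩, hz⟩ := exists_prime_orderOf_dvd_card' (G := Subgroup.center G) 2 (even_iff_two_dvd.mp hev)
    rw [Subgroup.orderOf_mk] at hz
    haveI hn : (Subgroup.zpowers z).Normal := ⟨fun a ha g => by
      have hac : a ∈ Subgroup.center G := Subgroup.zpowers_le.mpr hzc ha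
      rw [show g * a = a * g from (Subgroup.mem_center_iff.mp hac g), mul_inv_cancel_right]
      exact ha⟩
    have hZ : Nat.card (Subgroup.zpowers z) = 2 := by rw [Nat.card_zpowers, hz]
    have hcard := Subgroup.card_eq_card_quotient_mul_card_subgroup (Subgroup.zpowers z)
    rw [hZ] at hcard
    set m := Nat.card (G ⧸ Subgroup.zpowers z) with hm
    rcases Nat.even_or_odd m with hme | hmo
    · rcases Nat.lt_or_ge 2 m with h2 | h2
      · obtain ⟨H, hH, hlt⟩ := ih m (by omega) (G := G ⧸ Subgroup.zpowers z) rfl hme h2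
        refine ⟨H.comap (QuotientGroup.mk' _), fun h => hH ?_, ?_⟩
        · rw [← Subgroup.map_comap_eq_self_of_surjective (QuotientGroup.mk'_surjective _) H, h,
            Subgroup.map_top_of_surjective _ (QuotientGroup.mk'_surjective _)]
        · have hk : Nat.card (H.comap (QuotientGroup.mk' (Subgroup.zpowers z))) = 2 * Nat.card H := by
            have h1 := (H.comap (QuotientGroup.mk' (Subgroup.zpowers z))).card_mul_index
            rw [Subgroup.index_comap_of_surjective _ (QuotientGroup.mk'_surjective _), hcard] at h1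
            have h2 := H.card_mul_index
            have hi : 0 < H.index := Nat.pos_of_ne_zero Subgroup.index_ne_zero_of_finite
            refine Nat.eq_of_mul_eq_mul_right hi ?_
            rw [h1, mul_assoc, h2, hm]; ring
          rw [hk, hcard, mul_pow]
          omega
      · refine ⟨Subgroup.zpowers z, fun h => ?_, ?_⟩
        · rw [h, Subgroup.card_top] at hZ; omega
        · rw [hZ]; omega
    · obtain ⟨K, hK⟩ := Subgroup.exists_right_complement'_of_coprime (N := Subgroup.zpowers z) (by
        rw [hZ, Subgroup.index_eq_card]; exact Nat.coprime_two_left.mpr hmo)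
      have hKc := hK.card_mul
      rw [hZ] at hKc
      refine ⟨K, fun h => ?_, ?_⟩
      · rw [h, Subgroup.card_top] at hKc; omega
      · rw [pow_succ, pow_two]
        have : 2 ≤ Nat.card K := by omega
        nlinarith
  · obtain ⟨H, hH, hcase⟩ := brauer_fowler_index heven hod
    obtain ⟨t, ht⟩ := exists_prime_orderOf_dvd_card' (G := G) 2 (even_iff_two_dvd.mp heven)
    rcases hcase with h2 | hlt
    · refine ⟨H, hH, ?_⟩
      have h := H.card_mul_index
      rw [h2] at h
      have h3 : 2 ≤ Nat.card H := by omega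
      rw [← h, pow_succ, pow_two]
      nlinarith [Nat.mul_le_mul h3 h3]
    set C := Subgroup.centralizer ({t} : Set G) with hC
    have hx := index_lt (bound ht) hlt Nat.card_pos
    rw [← H.card_mul_index]
    rcases le_or_gt (Nat.card C) (Nat.card H) with hle | hgtc
    · refine ⟨H, hH, ?_⟩
      have : H.index < Nat.card H ^ 2 := hx.trans_le (Nat.pow_le_pow_left hle 2)
      have := Nat.mul_lt_mul_of_pos_left this (Nat.card_pos (α := H))
      rw [pow_succ' (Nat.card H) 2]; exact this
    · refine ⟨C, centralizer_ne_top_of_odd_center hod ht, ?_⟩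
      rw [pow_succ' (Nat.card C) 2]
      exact lt_of_le_of_lt (Nat.mul_le_mul_left _ hx.le) (Nat.mul_lt_mul_of_pos_right hgtc (pow_pos Nat.card_pos _))

/-- A finite group G of even order greater than 2 has a proper subgroup H with |G| < |H|^3. -/
theorem result {G : Type*} [Group G] [Finite G] (heven : Even (Nat.card G)) (hgt : 2 < Nat.card G) : ∃ H : Subgroup G, H ≠ ⊤ ∧ Nat.card G < (Nat.card H) ^ 3 := by
  exact main _ rfl heven hgt

end Cfsg.Agent.S0232
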