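import Cfsg.Statements.S0234
import Cfsg.Agent.Lib.Invol.BrauerFowler
import Cfsg.Agent.Lib.SmallGroups.Basic

set_option autoImplicit false
open Cfsg

namespace Cfsg.Agent.S0234

open CfsgLib.Invol

theorem a5_involutions :
    Fintype.card {g : alternatingGroup (Fin 5) // g * g = 1 ∧ g ≠ 1} = 15 := by
  decide +kernel

theorem not_small {G : Type*} [Group G] [Finite G] [IsSimpleGroup G] (hab : ¬ IsMulCommutative G)
    (heven : 2 ∣ Nat.card G) (hd : Nat.card G ∣ 60) (h : Nat.card G ≤ 12) : False := by
  haveI : Fact (Nat.Prime 5) := ⟨by norm_num⟩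
  obtain ⟨P⟩ : Nonempty (Sylow 2 G) := inferInstance
  have h1 := CfsgLib.SmallGroups.two_mul_card_dvd_factorial_card_sylow (p := 2) hab heven
  have h2 := (P.card_dvd_index).trans (Subgroup.index_dvd_card (P : Subgroup G))
  have h3 := card_sylow_modEq_one 2 G
  have h4 : Nat.card (Sylow 2 G) ≤ 12 := le_trans (Nat.le_of_dvd Nat.card_pos h2) h
  have h5 : 5 ∣ Nat.card G → False := fun h5 => by
    obtain ⟨Q⟩ : Nonempty (Sylow 5 G) := inferInstance
    have e1 := CfsgLib.SmallGroups.card_sylow_ne_one (p := 5) hab h5
    have e2 := (Q.card_dvd_index).trans (Subgroup.index_dvd_card (Q : Subgroup G))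
    have e3 := card_sylow_modEq_one 5 G
    have e4 : Nat.card (Sylow 5 G) ≤ 12 := le_trans (Nat.le_of_dvd Nat.card_pos e2) h
    rw [Nat.ModEq] at e3
    generalize Nat.card G = N at *
    generalize Nat.card (Sylow 5 G) = s at *
    interval_cases N <;> interval_cases s <;> omega
  have hpos : 0 < Nat.card G := Nat.card_pos
  rw [Nat.ModEq] at h3
  generalize Nat.card G = N at *
  generalize Nat.card (Sylow 2 G) = s at *
  interval_cases N <;> interval_cases s <;> simp_all (config := {decide := true})

/-- In a finite simple group G of even order greater than 2, the number n of involutions satisfies 3n < |G|. -/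
theorem result {G : Type*} [Group G] [Finite G] [IsSimpleGroup G] (heven : Even (Nat.card G)) (hgt : 2 < Nat.card G) : 3 * Nat.card {t : G // orderOf t = 2} < Nat.card G := by
  have hab : ¬ IsMulCommutative G := CfsgLib.SmallGroups.not_isMulCommutative_of_not_prime fun hp => by
    have := (Nat.prime_dvd_prime_iff_eq Nat.prime_two hp).mp (even_iff_two_dvd.mp heven)
    omega
  have hodd : Odd (Nat.card (Subgroup.center G)) := by
    rw [CfsgLib.SmallGroups.eq_bot_or_comm_of_centre hab]; simp
  obtain ⟨H, hH, hcase⟩ := brauer_fowler_index heven hodd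
  rcases hcase with h2 | hlt
  · exact absurd h2 (CfsgLib.SmallGroups.index_ne_two_of_simple hab H)
  set n := Nat.card {t : G // orderOf t = 2} with hn
  by_contra hcon
  push Not at hcon
  have hH6 : H.index ≤ 5 := by
    by_contra h
    push Not at h
    nlinarith [Nat.mul_le_mul hcon (Nat.add_le_add_right hcon n), Nat.mul_le_mul_right (2 * n ^ 2) (Nat.succ_le_of_lt h)]
  obtain ⟨f, hf⟩ := CfsgLib.SmallGroups.exists_injective_alternating hab H hH
  have hdvd := Subgroup.card_dvd_of_injective f hf
  have h2le : 2 ≤ H.index := by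
    have h1 : H.index ≠ 1 := fun h => hH (Subgroup.index_eq_one.mp h)
    have h0 : H.index ≠ 0 := Subgroup.index_ne_zero_of_finite
    omega
  have hA : ∀ k, k = H.index → 2 * Nat.card (alternatingGroup (Fin k)) = k.factorial := fun k hk => by
    haveI : Nontrivial (Fin k) := Fin.nontrivial_iff_two_le.mpr (hk ▸ h2le)
    rw [two_mul_nat_card_alternatingGroup, Nat.card_perm, Nat.card_eq_fintype_card, Fintype.card_fin]
  have h2d := even_iff_two_dvd.mp heven
  have hsmall : ∀ k, H.index = k → k ≤ 4 → False := by
    intro k hk hk4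
    have := hA _ hk.symm
    rw [hk] at hdvd h2le
    have h12 : Nat.card (alternatingGroup (Fin k)) ∣ 12 := by
      rw [← Nat.mul_dvd_mul_iff_left (show 0 < 2 by norm_num), this]
      exact Nat.factorial_dvd_factorial hk4
    exact not_small hab h2d (hdvd.trans (h12.trans (by norm_num))) (Nat.le_of_dvd (by norm_num) (hdvd.trans h12))
  rcases Nat.lt_or_ge H.index 5 with h | h
  · exact hsmall _ rfl (by omega)
  revert hdvd hf f
  rw [show H.index = 5 by omega]
  intro f hf hdvd
  have h60 : Nat.card (alternatingGroup (Fin 5)) = 60 := by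
    have := hA 5 (by omega); rw [show (5 : ℕ).factorial = 120 from rfl] at this; omega
  have hR : f.range = ⊤ := by
    by_contra hne
    have hna : ¬ IsMulCommutative (alternatingGroup (Fin 5)) := fun hc => by
      apply hab
      exact ⟨⟨fun a b => hf (by rw [map_mul, map_mul]; exact mul_comm' _ _)⟩⟩
    have h120 := CfsgLib.SmallGroups.two_mul_card_dvd_factorial hna f.range hne
    have hcard : Nat.card f.range = Nat.card G := Nat.card_congr (MonoidHom.ofInjective hf).toEquiv.symm
    have hmul := f.range.card_mul_index
    rw [hcard, h60] at hmul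
    rw [h60] at h120 hdvd
    have hidx : 5 ≤ f.range.index := by
      by_contra hlt5
      have := Nat.le_of_dvd (Nat.factorial_pos _) h120
      have := Nat.factorial_le (show f.range.index ≤ 4 by omega)
      simp [Nat.factorial] at this
      omega
    exact not_small hab h2d hdvd (by nlinarith)
  have hbij : Function.Bijective f := ⟨hf, MonoidHom.range_eq_top.mp hR⟩
  have hN : Nat.card G = 60 := by rw [Nat.card_congr (MulEquiv.ofBijective f hbij).toEquiv, h60]
  have hn15 : n ≤ 15 := by
    rw [hn, ← a5_involutions, ← Nat.card_eq_fintype_card]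
    refine Nat.card_le_card_of_injective (fun t => ⟨f t.1, ?_, ?_⟩) fun a b h => Subtype.ext (hf (congrArg Subtype.val h))
    · rw [← map_mul, mul_self_of_orderOf_two t.2, map_one]
    · exact fun h => ne_one_of_orderOf_two t.2 (hf (h.trans (map_one f).symm))
  omega

end Cfsg.Agent.S0234
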