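import Cfsg.Statements.S0235
import Cfsg.Agent.Lib.Invol.Dihedral

set_option autoImplicit false
open Cfsg

namespace Cfsg.Agent.S0235

theorem fwd {G : Type*} [Group G] {u v x : G} (hu : orderOf u = 2) (hv : orderOf v = 2)
    (h : u * v = x) : u * x * u⁻¹ = x⁻¹ ∧ u ≠ x ∧ u * x = v := by
  subst h
  refine ⟨CfsgLib.Invol.conj_mul_eq_inv hu hv, fun h => ?_,
    CfsgLib.Invol.mul_mul_cancel_of_orderOf_two hu v⟩
  exact CfsgLib.Invol.ne_one_of_orderOf_two hv (mul_eq_left.mp h.symm)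

theorem bwd {G : Type*} [Group G] {t x : G} (ht : orderOf t = 2) (hi : t * x * t⁻¹ = x⁻¹)
    (hne : t ≠ x) : orderOf (t * x) = 2 := by
  rw [CfsgLib.Invol.orderOf_eq_two_iff']
  refine ⟨fun h => hne ?_, ?_⟩
  · calc t = t * (t * x) := by rw [h, mul_one]
      _ = x := CfsgLib.Invol.mul_mul_cancel_of_orderOf_two ht x
  · rw [CfsgLib.Invol.inv_eq_of_orderOf_two ht] at hi
    rw [← mul_assoc, hi, inv_mul_cancel]

theorem pair_equiv {G : Type*} [Group G] (x : G) :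
    Nat.card {p : G × G // orderOf p.1 = 2 ∧ orderOf p.2 = 2 ∧ p.1 * p.2 = x} =
      Nat.card {t : G // orderOf t = 2 ∧ t * x * t⁻¹ = x⁻¹ ∧ t ≠ x} := by
  apply Nat.card_congr
  exact
  { toFun := fun p => ⟨p.1.1, p.2.1, (fwd p.2.1 p.2.2.1 p.2.2.2).1, (fwd p.2.1 p.2.2.1 p.2.2.2).2.1⟩
    invFun := fun t => ⟨(t.1, t.1 * x), t.2.1, bwd t.2.1 t.2.2.1 t.2.2.2,
      CfsgLib.Invol.mul_mul_cancel_of_orderOf_two t.2.1 x⟩
    left_inv := fun p => Subtype.ext (Prod.ext rfl (fwd p.2.1 p.2.2.1 p.2.2.2).2.2)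
    right_inv := fun t => rfl }

/-- If x² ≠ 1, the ordered pairs (u, v) of involutions with uv = x correspond bijectively to the involutions t with t x t⁻¹ = x⁻¹ (via (u, v) ↦ u), so the two counts agree. -/
theorem result {G : Type*} [Group G] [Finite G] (x : G) (hx : x ^ 2 ≠ 1) : Nat.card {p : G × G // orderOf p.1 = 2 ∧ orderOf p.2 = 2 ∧ p.1 * p.2 = x} = Nat.card {t : G // orderOf t = 2 ∧ t * x * t⁻¹ = x⁻¹} := by
  rw [pair_equiv]
  apply Nat.card_congr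
  exact Equiv.subtypeEquivRight fun t => ⟨fun h => ⟨h.1, h.2.1⟩, fun h => ⟨h.1, h.2, fun e => hx (by
    rw [← e, sq, CfsgLib.Invol.mul_self_of_orderOf_two h.1])⟩⟩

end Cfsg.Agent.S0235
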