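import Cfsg.Statements.S0237
import Mathlib

set_option autoImplicit false
open Cfsg

namespace Cfsg.Agent.S0237

theorem card_real {G : Type*} [Group G] (x : G) (hreal : IsConj x x⁻¹) :
    Nat.card {g : G // g * x * g⁻¹ = x⁻¹} = Nat.card (Subgroup.centralizer ({x} : Set G)) := by
  obtain ⟨a, ha⟩ := isConj_iff.mp hreal
  apply Nat.card_congr
  exact
  { toFun := fun g => ⟨a⁻¹ * g.1, by
      rw [Subgroup.mem_centralizer_singleton_iff, ← mul_inv_eq_iff_eq_mul]
      rw [show a⁻¹ * g.1 * x * (a⁻¹ * g.1)⁻¹ = a⁻¹ * (g.1 * x * g.1⁻¹) * a by group, g.2, ← ha]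
      group⟩
    invFun := fun c => ⟨a * c.1, by
      have hc := Subgroup.mem_centralizer_singleton_iff.mp c.2
      rw [show a * c.1 * x * (a * c.1)⁻¹ = a * (c.1 * x) * c.1⁻¹ * a⁻¹ by group, hc, ← ha]
      group⟩
    left_inv := fun g => by ext; simp
    right_inv := fun c => by ext; simp }

/-- If x is real (conjugate to x⁻¹) in a finite group G, the number of g with g x g⁻¹ = x⁻¹ equals |C_G(x)|. -/
theorem result {G : Type*} [Group G] [Finite G] (x : G) (hreal : IsConj x x⁻¹) : Nat.card {g : G // g * x * g⁻¹ = x⁻¹} = Nat.card (Subgroup.centralizer ({x} : Set G)) := by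
  exact card_real x hreal

end Cfsg.Agent.S0237
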