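import Cfsg.Statements.S0238
import Cfsg.Agent.Lib.Invol.Dihedral

set_option autoImplicit false
open Cfsg

namespace Cfsg.Agent.S0238

theorem fwd {G : Type*} [Group G] {u v x : G} (hu : orderOf u = 2) (hv : orderOf v = 2)
    (h : u * v = x) : u * x * u⁻¹ = x⁻¹ ∧ u ≠ x ∧ u * x = v := by
  subst h
  refine ⟨CfsgLib.Invol.conj_mul_eq_inv hu hv, fun h => ?_,
    CfsgLib.Invol.mul_mul_cancel_of_orderOf_two hu v⟩
  exact CfsgLib.Invol.ne_one_of_orderOf_two hv (mul_eq_left.mp h.symm)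

theorem bwd {G : Type*} [Group G] {t x : G} (ht : orderOf t = 2) (hi : t * x * t⁻¹ = x⁻¹)
    (hne : t ≠ x) : orderOf (t * x) = 2 := by
  rw [CfsgLib.Invol.orderOf_eq_two_iff']
  refine ⟨fun h => hne ?_, ?_⟩
  · calc t = t * (t * x) := by rw [h, mul_one]
      _ = x := CfsgLib.Invol.mul_mul_cancel_of_orderOf_two ht x
  · rw [CfsgLib.Invol.inv_eq_of_orderOf_two ht] at hi
    rw [← mul_assoc, hi, inv_mul_cancel]

theorem pair_equiv {G : Type*} [Group G] (x : G) :
    Nat.card {p : G × G // orderOf p.1 = 2 ∧ orderOf p.2 = 2 ∧ p.1 * p.2 = x} =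
      Nat.card {t : G // orderOf t = 2 ∧ t * x * t⁻¹ = x⁻¹ ∧ t ≠ x} := by
  apply Nat.card_congr
  exact
  { toFun := fun p => ⟨p.1.1, p.2.1, (fwd p.2.1 p.2.2.1 p.2.2.2).1, (fwd p.2.1 p.2.2.1 p.2.2.2).2.1⟩
    invFun := fun t => ⟨(t.1, t.1 * x), t.2.1, bwd t.2.1 t.2.2.1 t.2.2.2,
      CfsgLib.Invol.mul_mul_cancel_of_orderOf_two t.2.1 x⟩
    left_inv := fun p => Subtype.ext (Prod.ext rfl (fwd p.2.1 p.2.2.1 p.2.2.2).2.2)
    right_inv := fun t => rfl }
theorem card_real {G : Type*} [Group G] (x : G) (hreal : IsConj x x⁻¹) :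
    Nat.card {g : G // g * x * g⁻¹ = x⁻¹} = Nat.card (Subgroup.centralizer ({x} : Set G)) := by
  obtain ⟨a, ha⟩ := isConj_iff.mp hreal
  apply Nat.card_congr
  exact
  { toFun := fun g => ⟨a⁻¹ * g.1, by
      rw [Subgroup.mem_centralizer_singleton_iff, ← mul_inv_eq_iff_eq_mul]
      rw [show a⁻¹ * g.1 * x * (a⁻¹ * g.1)⁻¹ = a⁻¹ * (g.1 * x * g.1⁻¹) * a by group, g.2, ← ha]
      group⟩
    invFun := fun c => ⟨a * c.1, by
      have hc := Subgroup.mem_centralizer_singleton_iff.mp c.2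
      rw [show a * c.1 * x * (a * c.1)⁻¹ = a * (c.1 * x) * c.1⁻¹ * a⁻¹ by group, hc, ← ha]
      group⟩
    left_inv := fun g => by ext; simp
    right_inv := fun c => by ext; simp }

/-- For every x in a finite group G, the number c of ordered pairs (u, v) of involutions with uv = x is at most |C_G(x)|; c = 0 when x is not conjugate to x⁻¹; and c + 2 ≤ |C_G(x)| when x is an involution. -/
theorem result {G : Type*} [Group G] [Finite G] (x : G) : Nat.card {p : G × G // orderOf p.1 = 2 ∧ orderOf p.2 = 2 ∧ p.1 * p.2 = x} ≤ Nat.card (Subgroup.centralizer ({x} : Set G)) ∧ (¬ IsConj x x⁻¹ → Nat.card {p : G × G // orderOf p.1 = 2 ∧ orderOf p.2 = 2 ∧ p.1 * p.2 = x} = 0) ∧ (orderOf x = 2 → Nat.card {p : G × G // orderOf p.1 = 2 ∧ orderOf p.2 = 2 ∧ p.1 * p.2 = x} + 2 ≤ Nat.card (Subgroup.centralizer ({x} : Set G))) := by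
  classical
  haveI := Fintype.ofFinite G
  rw [pair_equiv]
  have hzero : ¬ IsConj x x⁻¹ →
      Nat.card {t : G // orderOf t = 2 ∧ t * x * t⁻¹ = x⁻¹ ∧ t ≠ x} = 0 := by
    intro h
    rw [Nat.card_eq_zero]
    exact Or.inl ⟨fun t => h (isConj_iff.mpr ⟨t.1, t.2.2.1⟩)⟩
  refine ⟨?_, hzero, ?_⟩
  · by_cases h : IsConj x x⁻¹
    · rw [← card_real x h]
      exact Nat.card_le_card_of_injective (fun t => ⟨t.1, t.2.2.1⟩)
        (fun a b h => Subtype.ext (Subtype.mk.inj h))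
    · rw [hzero h]; exact Nat.zero_le _
  · intro hx
    rw [Nat.card_eq_fintype_card, Nat.card_eq_fintype_card, Fintype.card_subtype, Fintype.card_subtype]
    set T := Finset.univ.filter (fun t : G => orderOf t = 2 ∧ t * x * t⁻¹ = x⁻¹ ∧ t ≠ x) with hT
    have h1 : (1 : G) ∉ insert x T := by
      simp [hT, (CfsgLib.Invol.ne_one_of_orderOf_two hx).symm]
    have h2 : x ∉ T := by simp [hT]
    have h3 : insert 1 (insert x T) ⊆ Finset.univ.filter (fun g => g ∈ Subgroup.centralizer ({x} : Set G)) := by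
      intro t ht
      rw [Finset.mem_filter]
      refine ⟨Finset.mem_univ _, Subgroup.mem_centralizer_singleton_iff.mpr ?_⟩
      rw [Finset.mem_insert, Finset.mem_insert, hT, Finset.mem_filter,
        CfsgLib.Invol.inv_eq_of_orderOf_two hx] at ht
      rcases ht with rfl | rfl | ⟨-, -, h, -⟩
      · simp
      · rfl
      · exact mul_inv_eq_iff_eq_mul.mp h
    have := Finset.card_le_card h3
    rw [Finset.card_insert_of_notMem h1, Finset.card_insert_of_notMem h2] at this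
    omega

end Cfsg.Agent.S0238
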