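import Cfsg.Statements.S0239
import Mathlib

set_option autoImplicit false
open Cfsg

namespace Cfsg.Agent.S0239

/-- If some nontrivial element x of a finite group G is conjugate to x⁻¹, then |G| is even. -/
theorem result {G : Type*} [Group G] [Finite G] (x : G) (hx : x ≠ 1) (hreal : IsConj x x⁻¹) : Even (Nat.card G) := by
  obtain ⟨g, hg⟩ := isConj_iff.mp hreal
  by_contra h
  rw [Nat.not_even_iff_odd] at h
  have hpow : ∀ n : ℕ, g ^ n * x * (g ^ n)⁻¹ = if Even n then x else x⁻¹ := by
    intro n
    induction n with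
    | zero => simp
    | succ n ih =>
      rw [pow_succ', show g * g ^ n * x * (g * g ^ n)⁻¹ = g * (g ^ n * x * (g ^ n)⁻¹) * g⁻¹ by group, ih]
      by_cases hn : Even n
      · rw [if_pos hn, if_neg (by simp [parity_simps, hn]), hg]
      · rw [if_neg hn, if_pos (by simp [parity_simps, hn]), ← conj_inv, hg, inv_inv]
  have hod : ∀ a : G, Odd (orderOf a) := fun a => h.of_dvd_nat (orderOf_dvd_natCard a)
  have h1 := hpow (orderOf g)
  rw [pow_orderOf_eq_one, if_neg (Nat.not_even_iff_odd.mpr (hod g))] at h1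
  simp only [one_mul, inv_one, mul_one] at h1
  have h2 : x * x = 1 := by nth_rewrite 2 [h1]; exact mul_inv_cancel x
  obtain ⟨m, hm⟩ := hod x
  have h3 := pow_orderOf_eq_one x
  rw [hm, pow_succ, pow_mul, sq, h2, one_pow, one_mul] at h3
  exact hx h3

end Cfsg.Agent.S0239
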