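import Cfsg.Statements.S0240
import Cfsg.Agent.Lib.Invol.Dihedral

set_option autoImplicit false
open Cfsg

namespace Cfsg.Agent.S0240

/-- Let G be a finite group with n involutions and H a subgroup with |H|·(n+1) > |G|. Then some nontrivial h ∈ H is strongly real in G: an involution t of G satisfies t h t⁻¹ = h⁻¹. -/
theorem result {G : Type*} [Group G] [Finite G] (H : Subgroup G) (hH : Nat.card G < Nat.card H * (Nat.card {t : G // orderOf t = 2} + 1)) : ∃ h : G, h ∈ H ∧ h ≠ 1 ∧ ∃ t : G, orderOf t = 2 ∧ t * h * t⁻¹ = h⁻¹ := by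
  classical
  haveI := Fintype.ofFinite G
  let A := H × ({a : G // a = 1 ∨ orderOf a = 2})
  have hA : Nat.card {a : G // a = 1 ∨ orderOf a = 2} = Nat.card {t : G // orderOf t = 2} + 1 := by
    rw [Nat.card_eq_fintype_card, Nat.card_eq_fintype_card, Fintype.card_subtype, Fintype.card_subtype]
    have hins : Finset.univ.filter (fun a : G => a = 1 ∨ orderOf a = 2) =
        insert 1 (Finset.univ.filter (fun t : G => orderOf t = 2)) := by
      ext a; simp
    rw [hins, Finset.card_insert_of_notMem (by simp)]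
  have hninj : ¬ Function.Injective (fun p : H × {a : G // a = 1 ∨ orderOf a = 2} => (p.1 : G) * p.2.1) := by
    intro hi
    have := Nat.card_le_card_of_injective _ hi
    rw [Nat.card_prod, hA] at this
    omega
  simp only [Function.Injective, not_forall] at hninj
  obtain ⟨⟨⟨h₁, hh₁⟩, a, ha⟩, ⟨⟨h₂, hh₂⟩, b, hb⟩, he, hne⟩ := hninj
  simp only at he
  have hab : a ≠ b := by
    rintro rfl
    exact hne (by simp [mul_right_cancel he])
  set k := h₂⁻¹ * h₁ with hk
  have hkH : k ∈ H := mul_mem (inv_mem hh₂) hh₁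
  have hinvs : ∀ c : G, c = 1 ∨ orderOf c = 2 → c⁻¹ = c := by
    rintro c (rfl | hc)
    · exact inv_one
    · exact CfsgLib.Invol.inv_eq_of_orderOf_two hc
  have hkab : k = b * a := by
    have : h₁ = h₂ * b * a⁻¹ := eq_mul_inv_of_mul_eq he
    rw [hk, this, hinvs a ha]; group
  have hk1 : k ≠ 1 := by
    rw [hkab]; intro h
    exact hab (by rw [← hinvs a ha]; exact (eq_inv_of_mul_eq_one_left h).symm ▸ rfl)
  refine ⟨k, hkH, hk1, ?_⟩
  rcases hb with rfl | hb
  · rcases ha with rfl | ha
    · exact absurd rfl hab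
    · refine ⟨a, ha, ?_⟩
      rw [hkab, one_mul, mul_inv_cancel_right, CfsgLib.Invol.inv_eq_of_orderOf_two ha]
  · refine ⟨b, hb, ?_⟩
    rcases ha with rfl | ha
    · rw [hkab, mul_one, mul_inv_cancel_right, CfsgLib.Invol.inv_eq_of_orderOf_two hb]
    · rw [hkab]
      exact CfsgLib.Invol.conj_mul_eq_inv hb ha

end Cfsg.Agent.S0240
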