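import Cfsg.Statements.S0241
import Cfsg.Agent.Lib.Invol.Dihedral

set_option autoImplicit false
open Cfsg

namespace Cfsg.Agent.S0241

/-- If x ≠ 1 is conjugate to x⁻¹ in a finite group G and |C_G(x)| is odd, then some involution t satisfies t x t⁻¹ = x⁻¹. -/
theorem result {G : Type*} [Group G] [Finite G] (x : G) (hx : x ≠ 1) (hreal : IsConj x x⁻¹) (hodd : Odd (Nat.card (Subgroup.centralizer ({x} : Set G)))) : ∃ t : G, orderOf t = 2 ∧ t * x * t⁻¹ = x⁻¹ := by
  obtain ⟨g, hg⟩ := isConj_iff.mp hreal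
  have hg2 : g * g ∈ Subgroup.centralizer ({x} : Set G) := by
    rw [Subgroup.mem_centralizer_singleton_iff, ← mul_inv_eq_iff_eq_mul,
      show g * g * x * (g * g)⁻¹ = g * (g * x * g⁻¹) * g⁻¹ by group, hg, ← conj_inv, hg, inv_inv]
  obtain ⟨m, hm⟩ := hodd.of_dvd_nat (Subgroup.orderOf_dvd_natCard _ hg2)
  refine ⟨g ^ (2 * m + 1), ?_, ?_⟩
  · rw [CfsgLib.Invol.orderOf_eq_two_iff']
    refine ⟨fun h => ?_, ?_⟩
    · have hxx : x⁻¹ = x := by
        have hc : g ^ (2 * m) * x = x * g ^ (2 * m) := by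
          rw [pow_mul, sq]
          exact (Subgroup.mem_centralizer_singleton_iff.mp (pow_mem hg2 m))
        have hgx : g = (g ^ (2 * m))⁻¹ := eq_inv_of_mul_eq_one_right (by rw [← pow_succ]; exact h)
        rw [← hg, hgx]
        have : (g ^ (2 * m))⁻¹ * x = x * (g ^ (2 * m))⁻¹ := (Commute.inv_left hc).eq
        rw [this, mul_inv_cancel_right]
      have h2 : orderOf x ∣ 2 := orderOf_dvd_of_pow_eq_one (by
        rw [sq]; nth_rewrite 1 [← hxx]; exact inv_mul_cancel x)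
      have ho : Odd (orderOf x) :=
        hodd.of_dvd_nat (Subgroup.orderOf_dvd_natCard _ (Subgroup.mem_centralizer_singleton_iff.mpr rfl))
      rcases (Nat.dvd_prime Nat.prime_two).mp h2 with h3 | h3
      · exact hx (orderOf_eq_one_iff.mp h3)
      · rw [h3] at ho; exact absurd ho (by decide)
    · rw [← pow_add, show (2 * m + 1) + (2 * m + 1) = 2 * (2 * m + 1) by ring, pow_mul, sq, ← hm,
        pow_orderOf_eq_one]
  · have hc : g ^ (2 * m) * x * (g ^ (2 * m))⁻¹ = x := by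
      rw [mul_inv_eq_iff_eq_mul, pow_mul, sq]
      exact (Subgroup.mem_centralizer_singleton_iff.mp (pow_mem hg2 m))
    rw [show g ^ (2 * m + 1) * x * (g ^ (2 * m + 1))⁻¹ = g * (g ^ (2 * m) * x * (g ^ (2 * m))⁻¹) * g⁻¹ by
      rw [pow_succ']; group, hc, hg]

end Cfsg.Agent.S0241
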