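import Cfsg.Statements.S0256
import Cfsg.Agent.Lib.InvolChar.A8
-- import your own Cfsg.Agent.* helpers here

set_option autoImplicit false
open Cfsg

namespace Cfsg.Agent.S0256

/-- PSL_4(2) is isomorphic to A_8. -/
theorem result {F : Type*} [Field F] [Fintype F] (hF : Fintype.card F = 2) : Nonempty (Matrix.ProjectiveSpecialLinearGroup (Fin 4) F ≃* alternatingGroup (Fin 8)) := by
  classical
  haveI : Fact (Nat.Prime 2) := ⟨Nat.prime_two⟩
  obtain ⟨e⟩ := CfsgLib.A8.sl4_equiv
  let r : F ≃+* ZMod 2 := (ZMod.ringEquivOfPrime F Nat.prime_two hF).symm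
  let m : Matrix.SpecialLinearGroup (Fin 4) F ≃* Matrix.SpecialLinearGroup (Fin 4) (ZMod 2) :=
    MulEquiv.ofBijective (Matrix.SpecialLinearGroup.map r.toRingHom)
      ⟨fun a b h => Subtype.ext (Matrix.map_injective r.injective (congrArg Subtype.val h)),
       fun b => ⟨Matrix.SpecialLinearGroup.map r.symm.toRingHom b, Subtype.ext (Matrix.ext fun i j => r.apply_symm_apply _)⟩⟩
  have hz : Subgroup.center (Matrix.SpecialLinearGroup (Fin 4) F) = ⊥ := by
    rw [Subgroup.eq_bot_iff_forall]
    intro z hz
    obtain ⟨c, hc, hcz⟩ := Matrix.SpecialLinearGroup.mem_center_iff.1 hz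
    have h1 : c = 1 := by
      have hr : r c = 1 := by
        rcases CfsgLib.A8.zmod_two_cases (r c) with h | h
        · exfalso
          rw [(map_eq_zero r).1 h, Fintype.card_fin, zero_pow (by norm_num)] at hc
          exact zero_ne_one hc
        · exact h
      exact r.injective (by rw [hr, map_one])
    exact Subtype.ext (by rw [← hcz, h1]; simp)
  exact ⟨((QuotientGroup.quotientMulEquivOfEq hz).trans QuotientGroup.quotientBot).trans (m.trans e)⟩

end Cfsg.Agent.S0256
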