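import Cfsg.Statements.S0263
import Mathlib
import Cfsg.Agent.Lib.Classical.GLOrder
-- import your own Cfsg.Agent.* helpers here

set_option autoImplicit false
open Cfsg

namespace Cfsg.Agent.S0263

/-- A Sylow p-subgroup of GL_n(q), p the characteristic, has order q^(n(n-1)/2). -/
theorem result {F : Type*} [Field F] [Fintype F] {q : ℕ} (hF : Fintype.card F = q) (p : ℕ) [Fact p.Prime] [CharP F p] (n : ℕ) (P : Sylow p (Matrix.GeneralLinearGroup (Fin n) F)) : Nat.card P = q ^ (n * (n - 1) / 2) := by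
  have hp : p.Prime := Fact.out
  obtain ⟨k, -, hk⟩ := FiniteField.card F p
  rw [hF] at hk
  have hk0 : 0 < (k : ℕ) := k.pos
  rw [P.card_eq_multiplicity, Matrix.card_GL_field, hF]
  have hterm : ∀ i : Fin n, q ^ n - q ^ (i : ℕ) = q ^ (i : ℕ) * (q ^ (n - (i : ℕ)) - 1) := by
    intro i
    rw [Nat.mul_sub, mul_one, ← pow_add, Nat.add_sub_cancel' i.2.le]
  simp_rw [hterm]
  rw [Finset.prod_mul_distrib, Finset.prod_pow_eq_pow_sum]
  have hsum : ∑ i : Fin n, (i : ℕ) = n * (n - 1) / 2 := by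
    rw [Fin.sum_univ_eq_sum_range (fun i => i), Finset.sum_range_id]
  have hndvd : ¬ p ∣ ∏ i : Fin n, (q ^ (n - (i : ℕ)) - 1) := by
    rw [hp.prime.dvd_finset_prod_iff]
    rintro ⟨i, -, hi⟩
    have hq : p ∣ q ^ (n - (i : ℕ)) := by
      rw [hk, ← pow_mul]
      exact dvd_pow_self p (Nat.mul_ne_zero hk0.ne' (by omega))
    have h1 : 1 ≤ q ^ (n - (i : ℕ)) := Nat.one_le_pow _ _ (hk ▸ pow_pos hp.pos _)
    exact hp.not_dvd_one (by
      have := Nat.dvd_sub hq hi
      rwa [Nat.sub_sub_self h1] at this)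
  have hne : ∏ i : Fin n, (q ^ (n - (i : ℕ)) - 1) ≠ 0 := fun h => hndvd (h ▸ dvd_zero p)
  rw [hsum, Nat.factorization_mul (pow_ne_zero _ (by rw [hk]; exact pow_ne_zero _ hp.ne_zero)) hne, Finsupp.add_apply,
    Nat.factorization_eq_zero_of_not_dvd hndvd, add_zero, hk, ← pow_mul,
    hp.factorization_pow, Finsupp.single_eq_same]

end Cfsg.Agent.S0263
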