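import Cfsg.Statements.S0268
import Mathlib
-- import your own Cfsg.Agent.* helpers here

set_option autoImplicit false
open Cfsg

namespace Cfsg.Agent.S0268

/-- For q odd, -1 is the unique involution of SL_2(q). -/
theorem result {F : Type*} [Field F] [Fintype F] (hF : Odd (Fintype.card F)) (g : Matrix.SpecialLinearGroup (Fin 2) F) (h1 : g ≠ 1) (h2 : g * g = 1) : (g : Matrix (Fin 2) (Fin 2) F) = -1 := by
  have hgg := h2
  replace h2 : (2 : F) ≠ 0 := by
    apply Ring.two_ne_zero
    intro h
    have h' := Nat.odd_iff.1 hF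
    have := (FiniteField.even_card_iff_char_two (F := F)).1 h
    omega
  have hdet : (g : Matrix (Fin 2) (Fin 2) F).det = 1 := g.2
  have hsq : (g : Matrix (Fin 2) (Fin 2) F) * (g : Matrix (Fin 2) (Fin 2) F) = 1 := by
    rw [← Matrix.SpecialLinearGroup.coe_mul, hgg]
    rfl
  set A : Matrix (Fin 2) (Fin 2) F := (g : Matrix (Fin 2) (Fin 2) F) with hA
  rw [Matrix.det_fin_two] at hdet
  have e00 := congrFun₂ hsq 0 0
  have e01 := congrFun₂ hsq 0 1
  have e10 := congrFun₂ hsq 1 0
  have e11 := congrFun₂ hsq 1 1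
  simp [Matrix.mul_apply, Fin.sum_univ_two] at e00 e01 e10 e11
  have hs : (A 0 0 + A 1 1) ^ 2 = 4 := by linear_combination e00 + e11 + 2 * hdet
  have hb : (A 0 0 + A 1 1) * A 0 1 = 0 := by linear_combination e01
  have hc : (A 0 0 + A 1 1) * A 1 0 = 0 := by linear_combination e10
  have hne : A 0 0 + A 1 1 ≠ 0 := fun h => by
    rw [h] at hs
    exact mul_ne_zero h2 h2 (by linear_combination -hs)
  have b0 : A 0 1 = 0 := (mul_eq_zero.1 hb).resolve_left hne
  have c0 : A 1 0 = 0 := (mul_eq_zero.1 hc).resolve_left hne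
  have had : A 0 0 = A 1 1 := by
    have : (A 0 0 - A 1 1) * (A 0 0 + A 1 1) = 0 := by linear_combination e00 - e11
    exact sub_eq_zero.1 ((mul_eq_zero.1 this).resolve_right hne)
  rw [b0, c0, mul_zero, add_zero] at e00
  rcases mul_self_eq_one_iff.1 e00 with ha | ha
  · exfalso
    apply h1
    apply Subtype.ext
    ext i j
    fin_cases i <;> fin_cases j <;>
      simp [← hA, b0, c0, ha, ← had]
  · ext i j
    fin_cases i <;> fin_cases j <;> simp [b0, c0, ha, ← had]

end Cfsg.Agent.S0268
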