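import Cfsg.Statements.S0274
import Cfsg.Agent.Lib.Transfer.DicksonFinite

set_option autoImplicit false
open Cfsg
open scoped commutatorElement

namespace Cfsg.Agent.S0274

/-- Dickson's Theorem for SL_2: if p is odd and H is a subgroup of SL_2(q), q a power of p, with more than one Sylow p-subgroup, then H contains a copy of SL_2(p). -/
theorem result {F : Type*} [Field F] [Fintype F] (p : ℕ) [Fact p.Prime] [CharP F p] (hp : p ≠ 2) (H : Subgroup (Matrix.SpecialLinearGroup (Fin 2) F)) (hH : 1 < Nat.card (Sylow p H)) : ∃ K : Subgroup (Matrix.SpecialLinearGroup (Fin 2) F), K ≤ H ∧ Nonempty (K ≃* Matrix.SpecialLinearGroup (Fin 2) (ZMod p)) := by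
  obtain ⟨S, ρ, A, B, c, hstd, hρ⟩ := CfsgLib.Transfer.exists_stdPair_of_sylow H hH
  obtain ⟨f, hf⟩ := hstd.exists_sl2_copy hp hρ
  refine ⟨((H.subtype.comp S.subtype).comp f).range, ?_, ⟨(MonoidHom.ofInjective ?_).symm⟩⟩
  · rintro _ ⟨M, rfl⟩
    exact (f M : H).2
  · exact (H.subtype_injective.comp S.subtype_injective).comp hf

end Cfsg.Agent.S0274
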