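import Cfsg.Statements.S0275
import Cfsg.Agent.Lib.Transfer.DicksonFinite
import Cfsg.Agent.Lib.Solvable.UniqueSubgroup

set_option autoImplicit false
open Cfsg
open scoped commutatorElement

namespace Cfsg.Agent.S0275

/-- If p is odd and H is a subgroup of SL_2(q), q a power of p, with more than one Sylow p-subgroup, then the Sylow 2-subgroups of H are generalised quaternion. -/
theorem result {F : Type*} [Field F] [Fintype F] (p : ℕ) [Fact p.Prime] [CharP F p] (hp : p ≠ 2) (H : Subgroup (Matrix.SpecialLinearGroup (Fin 2) F)) (hH : 1 < Nat.card (Sylow p H)) (S : Sylow 2 H) : ∃ k : ℕ, 1 ≤ k ∧ Nonempty ((S : Subgroup H) ≃* QuaternionGroup (2 ^ k)) := by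
  obtain ⟨S', ρ, A, B, c, hstd, -⟩ := CfsgLib.Transfer.exists_stdPair_of_sylow H hH
  have h2F : (2 : F) ≠ 0 := by
    intro h
    have h' : ((2 : ℕ) : F) = 0 := by exact_mod_cast h
    rw [CharP.cast_eq_zero_iff F p] at h'
    exact hp ((Nat.prime_dvd_prime_iff_eq (Fact.out : p.Prime) Nat.prime_two).1 h')
  have hnab : ¬ IsMulCommutative (S : Subgroup H) := by
    intro hab
    refine hstd.false_of_abelian_two hp fun T => ?_
    obtain ⟨T', hT'⟩ := (T.2.map S'.subtype).exists_le_sylow
    obtain ⟨g, hg⟩ := MulAction.exists_smul_eq H S T'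
    refine ⟨⟨fun a b => ?_⟩⟩
    have hmem : ∀ x : (T : Subgroup S'), g⁻¹ * ((x : S') : H) * g ∈ (S : Subgroup H) := fun x => by
      have hx : ((x : S') : H) ∈ ((g • S : Sylow 2 H) : Subgroup H) :=
        hg ▸ hT' (Subgroup.mem_map_of_mem _ x.2)
      rw [Sylow.coe_subgroup_smul, Subgroup.mem_pointwise_smul_iff_inv_smul_mem] at hx
      simpa [MulAut.smul_def, mul_assoc] using hx
    have h := congrArg Subtype.val (hab.is_comm.comm ⟨_, hmem a⟩ ⟨_, hmem b⟩)
    simp only [Subgroup.coe_mul] at h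
    refine Subtype.ext (Subtype.ext ?_)
    calc ((a * b : (T : Subgroup S')) : S').1
        = g * ((g⁻¹ * ((a : S') : H) * g) * (g⁻¹ * ((b : S') : H) * g)) * g⁻¹ := by simp; group
      _ = g * ((g⁻¹ * ((b : S') : H) * g) * (g⁻¹ * ((a : S') : H) * g)) * g⁻¹ := by rw [h]
      _ = _ := by simp; group
  have hu : ∀ x y : (S : Subgroup H), orderOf x = 2 → orderOf y = 2 → x ∈ Subgroup.zpowers y := by
    intro x y hx hy
    have key : ∀ z : (S : Subgroup H), orderOf z = 2 →
        (((z : H) : Matrix.SpecialLinearGroup (Fin 2) F) : Matrix (Fin 2) (Fin 2) F) = -1 := by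
      intro z hz
      rw [← Subgroup.orderOf_coe, ← Subgroup.orderOf_coe] at hz
      set M := ((z : H) : Matrix.SpecialLinearGroup (Fin 2) F)
      have hMM : M * M = 1 := by
        rw [← pow_two]; exact orderOf_dvd_iff_pow_eq_one.1 hz.dvd
      rcases CfsgLib.Transfer.sl2_eq_of_sq_eq_one h2F M.2 (congrArg Subtype.val hMM) with h1 | h1
      · rw [show M = 1 from Subtype.ext h1, orderOf_one] at hz
        exact absurd hz (by norm_num)
      · exact h1
    have : x = y := Subtype.ext (Subtype.ext (Subtype.ext ((key x hx).trans (key y hy).symm)))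
    exact this ▸ Subgroup.mem_zpowers x
  rcases CfsgLib.Solvable.isCyclic_or_quaternion S.2 hu with hcyc | ⟨-, n, ⟨e⟩⟩
  · exact absurd ⟨⟨fun a b => by
      obtain ⟨g, hg⟩ := hcyc.exists_generator
      obtain ⟨i, rfl⟩ := hg a
      obtain ⟨j, rfl⟩ := hg b
      exact (Commute.zpow_zpow_self g i j)⟩⟩ hnab
  · refine ⟨n, Nat.pos_of_ne_zero fun h => hnab ⟨⟨fun a b => e.injective ?_⟩⟩, ⟨e⟩⟩
    subst h
    rw [map_mul, map_mul]
    have hc : ∀ x y : QuaternionGroup (2 ^ 0), x * y = y * x := by decide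
    exact hc _ _

end Cfsg.Agent.S0275
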