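import Cfsg.Statements.S0282
import Mathlib
import Cfsg.Agent.Lib.Classical.HermOrder
import Cfsg.Agent.Lib.Char.Burnside
-- import your own Cfsg.Agent.* helpers here

set_option autoImplicit false
open Cfsg

namespace Cfsg.Agent.S0282

/-- PSU_3(2) is a solvable group of order 72. -/
theorem result {F : Type*} [Field F] [Fintype F] (hF : Fintype.card F = 4) : Nat.card (Cfsg.PSU 3 F 2) = 72 ∧ Group.IsSolvable (Cfsg.PSU 3 F 2) := by
  have h := CfsgLib.Classical.card_su (n := 3) (q := 2) (F := F) (by rw [hF]; norm_num) (by norm_num)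
  rw [Subgroup.card_eq_card_quotient_mul_card_subgroup (Subgroup.center (Cfsg.SU 3 F 2)),
    CfsgLib.Classical.card_center_su (by rw [hF]; norm_num) (by norm_num),
    show CfsgLib.Classical.unitaryOrder 2 3 = 648 by
      simp [CfsgLib.Classical.unitaryOrder, Finset.prod_range_succ, Nat.even_iff]] at h
  have h72 : Nat.card (Cfsg.PSU 3 F 2) = 72 := by
    rw [show Nat.gcd 3 (2 + 1) = 3 by rfl] at h
    change (2 + 1) * (Nat.card (Cfsg.PSU 3 F 2) * 3) = 648 at h
    omega
  refine ⟨h72, CfsgLib.Char.isSolvable_of_card_eq_pow_mul_pow (p := 2) (q := 3)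
    Nat.prime_two Nat.prime_three (a := 3) (b := 2) ?_⟩
  rw [h72]; norm_num

end Cfsg.Agent.S0282
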