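import Cfsg.Statements.S0293
import Mathlib
import Cfsg.Agent.Lib.Classical.QuadPOmega
-- import your own Cfsg.Agent.* helpers here

set_option autoImplicit false
open Cfsg

namespace Cfsg.Agent.S0293

/-- gcd(4, q^m - 1) |PΩ^+_{2m}(q)| = q^(m(m-1)) (q^m - 1) prod_{i=1}^{m-1} (q^(2i) - 1), m at least 4 (type D_m). -/
theorem result {F : Type*} [Field F] [Fintype F] {q : ℕ} (hF : Fintype.card F = q) (m : ℕ) (hm : 4 ≤ m) : Nat.gcd 4 (q ^ m - 1) * Nat.card (Cfsg.POmega F (Cfsg.quadFormPlus m F)) = q ^ (m * (m - 1)) * (q ^ m - 1) * ∏ i ∈ Finset.range (m - 1), (q ^ (2 * (i + 1)) - 1) := by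
  subst hF
  obtain ⟨k, rfl⟩ : ∃ k, m = k + 1 := ⟨m - 1, by omega⟩
  have hQ := CfsgLib.Classical.polarNondeg_qPlus (F := F) (k + 1)
  have hn : 6 ≤ Fintype.card (Fin (k + 1) ⊕ Fin (k + 1)) := by simp; omega
  have hcard : Nat.card (CfsgLib.Classical.qAut (CfsgLib.Classical.qPlus (k + 1) F)) = _ :=
    (CfsgLib.Classical.card_qAut_qPlus (k + 1)).trans (CfsgLib.Classical.card_qAut_plus k)
  rw [← CfsgLib.Classical.coe_qPlus (k + 1), show k + 1 - 1 = k from rfl]
  by_cases h2 : (2 : F) = 0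
  · haveI : CharP F 2 := CharTwo.of_one_ne_zero_of_two_eq_zero one_ne_zero h2
    have h := CfsgLib.Classical.card_POmega_mul _
      (CfsgLib.Classical.card_center_Omega_one _ hQ hn fun _ => h2)
      (CfsgLib.Classical.index_Omega_two _ hQ (by omega) (Or.inr (by omega)))
    rw [hcard] at h
    have hev := FiniteField.even_card_of_char_two (ringChar.eq F 2)
    obtain ⟨e, he⟩ : ∃ e, Fintype.card F ^ (k + 1) = 2 * e + 2 := by
      have h1 : Fintype.card F ≤ Fintype.card F ^ (k + 1) := Nat.le_self_pow (by omega) _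
      have h3 : 2 ∣ Fintype.card F ^ (k + 1) := dvd_pow (Nat.dvd_of_mod_eq_zero hev) (by omega)
      have h4 := Fintype.one_lt_card (α := F)
      exact ⟨(Fintype.card F ^ (k + 1) - 2) / 2, by omega⟩
    have hg : Nat.gcd 4 (Fintype.card F ^ (k + 1) - 1) = 1 := by
      have h5 : Nat.Coprime 2 (Fintype.card F ^ (k + 1) - 1) := by
        rw [Nat.Prime.coprime_iff_not_dvd Nat.prime_two]
        omega
      exact Nat.Coprime.mul_left h5 h5
    rw [hg]
    linarith
  · have hdet := CfsgLib.Classical.det_polarGram_qPlus (F := F) (k + 1)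
    have hiff := CfsgLib.Classical.negIso_mem_Omega_iff (CfsgLib.Classical.qPlus (k + 1) F) h2 hQ
      (by simp) (by omega)
    rw [hdet, CfsgLib.Classical.isSquare_neg_one_pow_iff h2] at hiff
    have hidx := CfsgLib.Classical.index_Omega_odd _ h2 hQ (by omega : 2 ≤ Fintype.card (Fin (k + 1) ⊕ Fin (k + 1)))
    rcases CfsgLib.Classical.pow_mod_four h2 (k + 1) with hm4 | hm4
    · have h := CfsgLib.Classical.card_POmega_mul _
        (CfsgLib.Classical.card_center_Omega_two _ h2 hQ hn (hiff.2 hm4)) hidx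
      rw [hcard] at h
      rw [Nat.gcd_eq_left (show 4 ∣ Fintype.card F ^ (k + 1) - 1 by omega)]
      linarith
    · have h := CfsgLib.Classical.card_POmega_mul _
        (CfsgLib.Classical.card_center_Omega_one _ hQ hn fun hc => absurd (hiff.1 hc) (by omega)) hidx
      rw [hcard] at h
      rw [show Nat.gcd 4 (Fintype.card F ^ (k + 1) - 1) = 2 by
        rw [Nat.gcd_rec, show (Fintype.card F ^ (k + 1) - 1) % 4 = 2 by omega]; rfl]
      linarith

end Cfsg.Agent.S0293
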