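import Cfsg.Statements.S0294
import Mathlib
import Cfsg.Agent.Lib.Classical.QuadPOmega
-- import your own Cfsg.Agent.* helpers here

set_option autoImplicit false
open Cfsg

namespace Cfsg.Agent.S0294

/-- gcd(4, q^m + 1) |PΩ^-_{2m}(q)| = q^(m(m-1)) (q^m + 1) prod_{i=1}^{m-1} (q^(2i) - 1), m at least 4 (type ²D_m). -/
theorem result {F : Type*} [Field F] [Fintype F] {q : ℕ} (hF : Fintype.card F = q) (m : ℕ) (hm : 4 ≤ m) (a b : F) (hab : ∀ z₁ z₂ : F, z₁ ^ 2 + a * z₁ * z₂ + b * z₂ ^ 2 = 0 → z₁ = 0 ∧ z₂ = 0) : Nat.gcd 4 (q ^ m + 1) * Nat.card (Cfsg.POmega F (Cfsg.quadFormMinus (m - 1) F a b)) = q ^ (m * (m - 1)) * (q ^ m + 1) * ∏ i ∈ Finset.range (m - 1), (q ^ (2 * (i + 1)) - 1) := by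
  subst hF
  obtain ⟨k, rfl⟩ : ∃ k, m = k + 1 := ⟨m - 1, by omega⟩
  have hQ := CfsgLib.Classical.polarNondeg_qExt (CfsgLib.Classical.polarNondeg_qBin hab) k
  have hn : 6 ≤ Fintype.card ((Fin k ⊕ Fin k) ⊕ Fin 2) := by simp; omega
  have hcard := CfsgLib.Classical.card_qAut_minus hab k
  rw [show k + 1 - 1 = k from rfl, ← CfsgLib.Classical.coe_qExt_qBin k a b]
  by_cases h2 : (2 : F) = 0
  · haveI : CharP F 2 := CharTwo.of_one_ne_zero_of_two_eq_zero one_ne_zero h2
    have h := CfsgLib.Classical.card_POmega_mul _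
      (CfsgLib.Classical.card_center_Omega_one _ hQ hn fun _ => h2)
      (CfsgLib.Classical.index_Omega_two _ hQ (by omega) (Or.inr (by omega)))
    rw [hcard] at h
    have hev := FiniteField.even_card_of_char_two (ringChar.eq F 2)
    have hg : Nat.gcd 4 (Fintype.card F ^ (k + 1) + 1) = 1 := by
      have h3 : 2 ∣ Fintype.card F ^ (k + 1) := dvd_pow (Nat.dvd_of_mod_eq_zero hev) (by omega)
      have h5 : Nat.Coprime 2 (Fintype.card F ^ (k + 1) + 1) := by
        rw [Nat.Prime.coprime_iff_not_dvd Nat.prime_two]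
        omega
      exact Nat.Coprime.mul_left h5 h5
    rw [hg]
    linarith
  · have hiff : CfsgLib.Classical.negIso (CfsgLib.Classical.qExt k (CfsgLib.Classical.qBin a b)) ∈
        Cfsg.Omega F ⇑(CfsgLib.Classical.qExt k (CfsgLib.Classical.qBin a b)) ↔
        Fintype.card F ^ (k + 1) % 4 = 3 := by
      rw [CfsgLib.Classical.negIso_mem_Omega_iff _ h2 hQ (by simp [parity_simps]) (by omega),
        CfsgLib.Classical.isSquare_det_polarGram_qExt_qBin h2 hab]
    have hidx := CfsgLib.Classical.index_Omega_odd _ h2 hQ (by omega : 2 ≤ Fintype.card ((Fin k ⊕ Fin k) ⊕ Fin 2))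
    rcases CfsgLib.Classical.pow_mod_four h2 (k + 1) with hm4 | hm4
    · have h := CfsgLib.Classical.card_POmega_mul _
        (CfsgLib.Classical.card_center_Omega_one _ hQ hn fun hc => absurd (hiff.1 hc) (by omega)) hidx
      rw [hcard] at h
      rw [show Nat.gcd 4 (Fintype.card F ^ (k + 1) + 1) = 2 by
        rw [Nat.gcd_rec, show (Fintype.card F ^ (k + 1) + 1) % 4 = 2 by omega]; rfl]
      linarith
    · have h := CfsgLib.Classical.card_POmega_mul _
        (CfsgLib.Classical.card_center_Omega_two _ h2 hQ hn (hiff.2 hm4)) hidx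
      rw [hcard] at h
      rw [Nat.gcd_eq_left (show 4 ∣ Fintype.card F ^ (k + 1) + 1 by omega)]
      linarith

end Cfsg.Agent.S0294
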