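import Cfsg.Statements.S0305
import Mathlib
import Cfsg.Agent.Lib.Classical.QuadStd
-- import your own Cfsg.Agent.* helpers here

set_option autoImplicit false
open Cfsg

namespace Cfsg.Agent.S0305

/-- GO^+_2(q) is dihedral of order 2(q-1). -/
theorem result {F : Type*} [Field F] [Fintype F] {q : ℕ} (hF : Fintype.card F = q) : Nonempty (Cfsg.isometryGroup F (Cfsg.quadFormPlus 1 F) ≃* DihedralGroup (q - 1)) := by
  subst hF
  rw [← CfsgLib.Classical.coe_qPlus (F := F) 1]
  let e : (F × F) ≃ₗ[F] (Fin 1 ⊕ Fin 1 → F) :=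
    { toFun := fun p => Sum.elim (fun _ => p.1) fun _ => p.2
      map_add' := fun p r => by funext i; rcases i with i | i <;> simp
      map_smul' := fun c p => by funext i; rcases i with i | i <;> simp
      invFun := fun v => (v (.inl 0), v (.inr 0))
      left_inv := fun _ => rfl
      right_inv := fun v => by funext i; rcases i with i | i <;> simp [Subsingleton.elim i 0] }
  obtain ⟨-, ⟨f⟩⟩ := CfsgLib.Classical.hyp2_dihedral (F := F)
  exact ⟨(CfsgLib.Classical.isoEquiv _).trans ((CfsgLib.Classical.qAutCongr e (fun p => by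
    rw [CfsgLib.Classical.coe_qPlus, Cfsg.quadFormPlus, Fin.sum_univ_one]
    rfl)).symm.trans f)⟩

end Cfsg.Agent.S0305
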