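import Cfsg.Statements.S0307
import Cfsg.Agent.Lib.Classical.GLOrder
-- import your own Cfsg.Agent.* helpers here

set_option autoImplicit false
open Cfsg

namespace Cfsg.Agent.S0307

/-- PSL_n(q) is normal in PGL_n(q) with cyclic quotient of order gcd(n, q-1): the image of the natural map PSL_n → PGL_n is the kernel of a surjective homomorphism onto the cyclic group of that order. -/
theorem result {F : Type*} [Field F] [Fintype F] {q : ℕ} (hF : Fintype.card F = q) (n : ℕ) (hn : 1 ≤ n) : ∃ g : Matrix.ProjGenLinGroup (Fin n) F →* Multiplicative (ZMod (Nat.gcd n (q - 1))), Function.Surjective g ∧ g.ker = (Matrix.ProjectiveSpecialLinearGroup.toPGL : Matrix.ProjectiveSpecialLinearGroup (Fin n) F →* Matrix.ProjGenLinGroup (Fin n) F).range := by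
  have : Nonempty (Fin n) := ⟨⟨0, hn⟩⟩
  let P : Subgroup Fˣ := (powMonoidHom n : Fˣ →* Fˣ).range
  have hcard : Nat.card (Fˣ ⧸ P) = Nat.gcd n (q - 1) := by
    change P.index = _
    rw [IsCyclic.index_powMonoidHom_range, CfsgLib.Classical.card_units_eq hF, Nat.gcd_comm]
  have : IsCyclic (Fˣ ⧸ P) :=
    isCyclic_of_surjective (QuotientGroup.mk' P) (QuotientGroup.mk'_surjective P)
  let e : Fˣ ⧸ P ≃* Multiplicative (ZMod (Nat.gcd n (q - 1))) :=
    mulEquivOfCyclicCardEq (by rw [hcard, Nat.card_congr Multiplicative.toAdd, Nat.card_zmod])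
  have hf : ((QuotientGroup.mk' P).comp Matrix.GeneralLinearGroup.det).comp
      (Matrix.GeneralLinearGroup.scalar (Fin n) : Fˣ →* _) = 1 := by
    ext u
    simp only [MonoidHom.comp_apply, MonoidHom.one_apply, QuotientGroup.mk'_apply,
      QuotientGroup.eq_one_iff, Matrix.GeneralLinearGroup.det_scalar, Fintype.card_fin]
    exact ⟨u, rfl⟩
  let f : Matrix.ProjGenLinGroup (Fin n) F →* Fˣ ⧸ P := Matrix.ProjGenLinGroup.lift _ hf
  have fs : Function.Surjective f := by
    intro x
    obtain ⟨u, rfl⟩ := QuotientGroup.mk_surjective x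
    obtain ⟨g, rfl⟩ := Matrix.GeneralLinearGroup.det_surjective (n := Fin n) u
    exact ⟨Matrix.ProjGenLinGroup.mk g, by simp [f]⟩
  refine ⟨e.toMonoidHom.comp f, e.surjective.comp fs, ?_⟩
  ext x
  obtain ⟨g, rfl⟩ := Matrix.ProjGenLinGroup.mk_surjective x
  simp only [MonoidHom.mem_ker, MonoidHom.comp_apply, MulEquiv.coe_toMonoidHom,
    EmbeddingLike.map_eq_one_iff, MonoidHom.mem_range]
  simp only [f, Matrix.ProjGenLinGroup.lift_mk, MonoidHom.comp_apply, QuotientGroup.mk'_apply,
    QuotientGroup.eq_one_iff]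
  constructor
  · rintro ⟨u, hu⟩
    simp only [powMonoidHom_apply] at hu
    have hk : g * (Matrix.GeneralLinearGroup.scalar (Fin n) u)⁻¹ ∈
        (Matrix.GeneralLinearGroup.det : Matrix.GeneralLinearGroup (Fin n) F →* Fˣ).ker := by
      simp [hu, Matrix.GeneralLinearGroup.det_scalar]
    rw [← CfsgLib.Classical.range_toGL] at hk
    obtain ⟨s, hs⟩ := hk
    refine ⟨(s : Matrix.ProjectiveSpecialLinearGroup (Fin n) F), ?_⟩
    rw [Matrix.ProjectiveSpecialLinearGroup.toPGL_mk, hs, map_mul, map_inv,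
      Matrix.ProjGenLinGroup.mk_scalar, inv_one, mul_one]
  · rintro ⟨y, hy⟩
    obtain ⟨s, rfl⟩ := QuotientGroup.mk_surjective y
    rw [Matrix.ProjectiveSpecialLinearGroup.toPGL_mk] at hy
    have hmem : g ∈ ((QuotientGroup.mk' P).comp Matrix.GeneralLinearGroup.det).ker := by
      have := congrArg f hy
      simp only [f, Matrix.ProjGenLinGroup.lift_mk] at this
      rw [MonoidHom.mem_ker, ← this]
      simp
    simpa using hmem

end Cfsg.Agent.S0307
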