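import Cfsg.Statements.S0312
import Cfsg.Agent.Lib.Chev.BNPair

set_option autoImplicit false
open Cfsg

namespace Cfsg.Agent.S0312

/-- Every standard parabolic subgroup of a group with a (B,N)-pair equals its own normaliser. -/
theorem result {G : Type*} [Group G] (P : Cfsg.BNPair G) {J : Set G}
    (hJ : J ⊆ P.S) : Subgroup.normalizer (P.parabolic J : Set G) = P.parabolic J := by
  refine le_antisymm (fun g hg => ?_) Subgroup.le_normalizer
  obtain ⟨n, hn, hgn⟩ := CfsgLib.Chev.BN.exists_cell (P := P) g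
  obtain ⟨b₁, hb₁, b₂, hb₂, rfl⟩ := CfsgLib.Chev.BN.mem_cell.1 hgn
  have hB := CfsgLib.Chev.BN.B_le_parabolic (P := P) J
  have hn' : n ∈ P.parabolic J := by
    refine CfsgLib.Chev.BN.mem_of_conj_le hB hn fun b hb => ?_
    have h1 := (Subgroup.mem_normalizer_iff.1 hg (b₂⁻¹ * b * b₂)).1
      (mul_mem (mul_mem (inv_mem (hB hb₂)) (hB hb)) (hB hb₂))
    have h2 := mul_mem (mul_mem (inv_mem (hB hb₁)) h1) (hB hb₁)
    rwa [show b₁⁻¹ * (b₁ * n * b₂ * (b₂⁻¹ * b * b₂) * (b₁ * n * b₂)⁻¹) * b₁ = n * b * n⁻¹ by group]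
      at h2
  exact mul_mem (mul_mem (hB hb₁) hn') (hB hb₂)

end Cfsg.Agent.S0312
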