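import Cfsg.Statements.S0313
import Cfsg.Agent.Lib.Chev.BNPair

set_option autoImplicit false
open Cfsg

namespace Cfsg.Agent.S0313

/-- Two standard parabolic subgroups of a group with a (B,N)-pair which are conjugate in `G` coincide. -/
theorem result {G : Type*} [Group G] (P : Cfsg.BNPair G) {J K : Set G}
    (hJ : J ⊆ P.S) (hK : K ⊆ P.S) (g : G)
    (h : (P.parabolic J).map (MulAut.conj g).toMonoidHom = P.parabolic K) :
    P.parabolic J = P.parabolic K := by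
  obtain ⟨n, hn, hgn⟩ := CfsgLib.Chev.BN.exists_cell (P := P) g
  obtain ⟨b₁, hb₁, b₂, hb₂, rfl⟩ := CfsgLib.Chev.BN.mem_cell.1 hgn
  have hBJ := CfsgLib.Chev.BN.B_le_parabolic (P := P) J
  have hBK := CfsgLib.Chev.BN.B_le_parabolic (P := P) K
  have key : ∀ x, x ∈ P.parabolic J ↔ n * x * n⁻¹ ∈ P.parabolic K := by
    intro x
    have h1 : ∀ y, y ∈ P.parabolic J ↔ (b₁ * n * b₂) * y * (b₁ * n * b₂)⁻¹ ∈ P.parabolic K := by
      intro y
      rw [← h]
      simp [Subgroup.mem_map_equiv, mul_assoc]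
    constructor
    · intro hx
      have h2 := (h1 _).1 (mul_mem (mul_mem (inv_mem (hBJ hb₂)) hx) (hBJ hb₂))
      have h3 := mul_mem (mul_mem (inv_mem (hBK hb₁)) h2) (hBK hb₁)
      rwa [show b₁⁻¹ * (b₁ * n * b₂ * (b₂⁻¹ * x * b₂) * (b₁ * n * b₂)⁻¹) * b₁ = n * x * n⁻¹ by group]
        at h3
    · intro hx
      have h2 : b₂⁻¹ * x * b₂ ∈ P.parabolic J := by
        rw [h1, show b₁ * n * b₂ * (b₂⁻¹ * x * b₂) * (b₁ * n * b₂)⁻¹ = b₁ * (n * x * n⁻¹) * b₁⁻¹ by group]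
        exact mul_mem (mul_mem (hBK hb₁) hx) (inv_mem (hBK hb₁))
      have h3 := mul_mem (mul_mem (hBJ hb₂) h2) (inv_mem (hBJ hb₂))
      rwa [show b₂ * (b₂⁻¹ * x * b₂) * b₂⁻¹ = x by group] at h3
  have hnK : n ∈ P.parabolic K :=
    CfsgLib.Chev.BN.mem_of_conj_le hBK hn fun b hb => (key b).1 (hBJ hb)
  ext x
  constructor
  · intro hx
    have := mul_mem (mul_mem (inv_mem hnK) ((key x).1 hx)) hnK
    rwa [show n⁻¹ * (n * x * n⁻¹) * n = x by group] at this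
  · intro hx
    exact (key x).2 (mul_mem (mul_mem hnK hx) (inv_mem hnK))

end Cfsg.Agent.S0313
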