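import Cfsg.Statements.S0315
import Cfsg.Agent.Lib.Chev.BNPair

set_option autoImplicit false
open Cfsg

namespace Cfsg.Agent.S0315

/-- Standard parabolic subgroups intersect as the index sets do: `P_J ⊓ P_K = P_{J ∩ K}`. -/
theorem result {G : Type*} [Group G] (P : Cfsg.BNPair G) {J K : Set G}
    (hJ : J ⊆ P.S) (hK : K ⊆ P.S) : P.parabolic J ⊓ P.parabolic K = P.parabolic (J ∩ K) := by
  refine le_antisymm (fun g hg => ?_) (le_inf ?_ ?_)
  · obtain ⟨n, hn, hgn⟩ := CfsgLib.Chev.BN.exists_cell (P := P) g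
    obtain ⟨l, hl, he⟩ := CfsgLib.Chev.BN.exists_red hn
    rw [← he.cell_eq] at hgn
    obtain ⟨b₁, hb₁, b₂, hb₂, rfl⟩ := CfsgLib.Chev.BN.mem_cell.1 hgn
    have hmem : ∀ L : Set G, L ⊆ P.S → b₁ * l.prod * b₂ ∈ P.parabolic L → ∀ x ∈ l, x ∈ L := by
      intro L hL hg'
      have hB := CfsgLib.Chev.BN.B_le_parabolic (P := P) L
      have := mul_mem (mul_mem (inv_mem (hB hb₁)) hg') (inv_mem (hB hb₂))
      rw [show b₁⁻¹ * (b₁ * l.prod * b₂) * b₂⁻¹ = l.prod by group] at this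
      exact CfsgLib.Chev.BN.red_mem_J hL hl
        ((CfsgLib.Chev.BN.mem_parabolic_N hL hl.1.prod_mem).1 this)
    refine (CfsgLib.Chev.BN.mem_parabolic_iff (fun x hx => hJ hx.1)).2
      ⟨l, fun x hx => ⟨hmem J hJ hg.1 x hx, hmem K hK hg.2 x hx⟩, hgn⟩
  · exact sup_le_sup le_rfl (Subgroup.closure_mono Set.inter_subset_left)
  · exact sup_le_sup le_rfl (Subgroup.closure_mono Set.inter_subset_right)

end Cfsg.Agent.S0315
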