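import Cfsg.Statements.S0316
import Cfsg.Agent.Lib.Chev.BNPair

set_option autoImplicit false
open Cfsg

namespace Cfsg.Agent.S0316

/-- The map `J ↦ P_J` is a lattice isomorphism from the power set of the set of distinguished generators onto the
subgroups containing `B`. -/
theorem result {G : Type*} [Group G] (P : Cfsg.BNPair G) :
    ∃ e : Set P.S ≃o {M : Subgroup G // P.B ≤ M},
      ∀ J : Set P.S, ((e J : {M : Subgroup G // P.B ≤ M}) : Subgroup G) = P.parabolic (Subtype.val '' J) := by
  have hsub : ∀ J : Set P.S, Subtype.val '' J ⊆ P.S := fun J => by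
    rintro _ ⟨s, -, rfl⟩; exact s.2
  have hinv : ∀ J : Set P.S, {s : P.S | (s : G) ∈ P.parabolic (Subtype.val '' J)} = J := by
    intro J
    ext s
    rw [Set.mem_setOf_eq, CfsgLib.Chev.BN.mem_parabolic_S (hsub J) s.2]
    simp
  have hinv' : ∀ M : Subgroup G, P.B ≤ M → P.parabolic (Subtype.val '' {s : P.S | (s : G) ∈ M}) = M := by
    intro M hM
    have : Subtype.val '' {s : P.S | (s : G) ∈ M} = P.S ∩ (M : Set G) := by
      ext x
      constructor
      · rintro ⟨s, hs, rfl⟩; exact ⟨s.2, hs⟩
      · rintro ⟨hx, hxM⟩; exact ⟨⟨x, hx⟩, hxM, rfl⟩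
    rw [this, ← CfsgLib.Chev.BN.eq_parabolic hM]
  refine ⟨
    { toFun := fun J => ⟨P.parabolic (Subtype.val '' J), CfsgLib.Chev.BN.B_le_parabolic _⟩
      invFun := fun M => {s : P.S | (s : G) ∈ M.1}
      left_inv := fun J => hinv J
      right_inv := fun M => Subtype.ext (hinv' M.1 M.2)
      map_rel_iff' := ?_ }, fun J => rfl⟩
  intro J K
  constructor
  · intro h s hs
    have h' : P.parabolic (Subtype.val '' J) ≤ P.parabolic (Subtype.val '' K) := h
    exact (hinv K).subset (h' (CfsgLib.Chev.BN.J_subset_parabolic (P := P) ⟨s, hs, rfl⟩))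
  · intro h
    show P.parabolic (Subtype.val '' J) ≤ P.parabolic (Subtype.val '' K)
    exact sup_le_sup (le_refl P.B) (Subgroup.closure_mono (Set.image_mono h))

end Cfsg.Agent.S0316
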