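import Cfsg.Statements.S0320
import Cfsg.Agent.Lib.Chev.BNPair
import Cfsg.Agent.Lib.Chev.Exchange

set_option autoImplicit false
open Cfsg

namespace Cfsg.Agent.S0320

/-- The Weyl group `W = N / (B ⊓ N)` of a (B,N)-pair, with its distinguished involutions, is a Coxeter system. -/
theorem result {G : Type*} [Group G] (P : Cfsg.BNPair G)
    [hN : ((P.B ⊓ P.N).subgroupOf P.N).Normal] :
    ∃ (M : CoxeterMatrix P.S) (cs : CoxeterSystem M (P.N ⧸ (P.B ⊓ P.N).subgroupOf P.N)),
      ∀ s : P.S, cs.simple s = QuotientGroup.mk (⟨(s : G), P.subset s.2⟩ : P.N) := by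
  set Q : Subgroup P.N := (P.B ⊓ P.N).subgroupOf P.N with hQ
  set g : P.S → P.N ⧸ Q := fun s => QuotientGroup.mk (⟨(s : G), P.subset s.2⟩ : P.N) with hg
  have heqv : ∀ a b : P.N, (QuotientGroup.mk a : P.N ⧸ Q) = QuotientGroup.mk b ↔
      CfsgLib.Chev.BN.Eqv P (a : G) (b : G) := by
    intro a b
    rw [QuotientGroup.eq, hQ, Subgroup.mem_subgroupOf]
    rfl
  have hone : ∀ a : P.N, (QuotientGroup.mk a : P.N ⧸ Q) = 1 ↔ CfsgLib.Chev.BN.Eqv P (a : G) 1 :=
    fun a => heqv a 1
  have hsq : ∀ s, g s * g s = 1 := by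
    intro s
    rw [hg, ← QuotientGroup.mk_mul, hone]
    exact (CfsgLib.Chev.BN.eqv_one_iff.2 (CfsgLib.Chev.BN.sq_mem_H s.2)).symm
  have hinj : Function.Injective g := by
    intro a b h
    rw [hg] at h
    have := ((heqv _ _).1 h).1
    exact Subtype.ext (P.inj _ a.2 _ b.2 this)
  have hprod : ∀ l : List P.S, ∃ n : P.N, (n : G) = (l.map Subtype.val).prod ∧
      (QuotientGroup.mk n : P.N ⧸ Q) = CfsgLib.Chev.Exch.prodW g l := by
    intro l
    induction l with
    | nil => exact ⟨1, rfl, rfl⟩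
    | cons a l ih =>
      obtain ⟨n, hn, hn'⟩ := ih
      exact ⟨⟨a.1, P.subset a.2⟩ * n, by simp [hn], by simp [hn', hg]⟩
  have hword : ∀ l : List P.S, CfsgLib.Chev.BN.IsWord P (l.map Subtype.val) := by
    intro l x hx
    obtain ⟨a, -, rfl⟩ := List.mem_map.1 hx
    exact a.2
  have hlift : ∀ m : List G, CfsgLib.Chev.BN.IsWord P m → ∃ l : List P.S, l.map Subtype.val = m := by
    intro m hm
    induction m with
    | nil => exact ⟨[], rfl⟩
    | cons a m ih =>
      obtain ⟨l, hl⟩ := ih fun x hx => hm x (List.mem_cons_of_mem _ hx)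
      exact ⟨⟨a, hm a (by simp)⟩ :: l, by simp [hl]⟩
  have hred : ∀ l : List P.S, CfsgLib.Chev.Exch.RedW g l ↔
      CfsgLib.Chev.BN.Red P (l.map Subtype.val) := by
    intro l
    obtain ⟨n, hn, hn'⟩ := hprod l
    constructor
    · intro h
      refine ⟨hword l, le_antisymm (CfsgLib.Chev.BN.len_le_of_word (hword l)
        (CfsgLib.Chev.BN.Eqv.refl _)) ?_⟩
      obtain ⟨m, hm, hmlen, hme⟩ := CfsgLib.Chev.BN.exists_len (hword l).prod_mem
      obtain ⟨l', rfl⟩ := hlift m hm
      obtain ⟨n₂, hn₂, hn₂'⟩ := hprod l'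
      have := h l' (by rw [← hn', ← hn₂', heqv, hn, hn₂]; exact hme)
      rw [← hmlen]; simpa using this
    · intro h m hm
      obtain ⟨n₂, hn₂, hn₂'⟩ := hprod m
      have he : CfsgLib.Chev.BN.Eqv P (m.map Subtype.val).prod (l.map Subtype.val).prod := by
        rw [← hn, ← hn₂, ← heqv, hn', hn₂']; exact hm
      have := CfsgLib.Chev.BN.len_le_of_word (hword m) he
      rw [h.2] at this
      simpa using this
  have hex : CfsgLib.Chev.Exch.HasExchange g := by
    intro l i hl hil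
    have hl' := (hred l).1 hl
    have hlt : CfsgLib.Chev.BN.len P ((i : G) * (l.map Subtype.val).prod) <
        (l.map Subtype.val).length := by
      rcases CfsgLib.Chev.BN.len_up_or_down i.2 hl'.1.prod_mem with h | h
      · exfalso
        apply hil
        rw [hred]
        refine ⟨hword _, ?_⟩
        rw [List.map_cons, List.prod_cons, List.length_cons, h, hl'.2]
      · have := hl'.2
        omega
    obtain ⟨k, hk, hke⟩ := CfsgLib.Chev.BN.exchange i.2 hl' hlt
    refine ⟨k, by simpa using hk, ?_⟩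
    obtain ⟨n₁, hn₁, hn₁'⟩ := hprod l
    obtain ⟨n₂, hn₂, hn₂'⟩ := hprod (l.eraseIdx k)
    rw [← hn₁', ← hn₂', hg, ← QuotientGroup.mk_mul, heqv, Subgroup.coe_mul, hn₁, hn₂]
    rw [← List.eraseIdx_map]
    exact hke
  have hgen : Subgroup.closure (Set.range g) = ⊤ := by
    refine eq_top_iff.2 fun x _ => ?_
    obtain ⟨n, rfl⟩ := QuotientGroup.mk_surjective x
    obtain ⟨m, hm, hme⟩ := CfsgLib.Chev.BN.exists_word n.2
    obtain ⟨l, rfl⟩ := hlift m hm
    obtain ⟨n', hn', hn''⟩ := hprod l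
    have : (QuotientGroup.mk n : P.N ⧸ Q) = CfsgLib.Chev.Exch.prodW g l := by
      rw [← hn'', heqv, hn']; exact hme.symm
    rw [this]
    exact list_prod_mem fun y hy => by
      obtain ⟨a, -, rfl⟩ := List.mem_map.1 hy
      exact Subgroup.subset_closure ⟨a, rfl⟩
  obtain ⟨cs, hcs⟩ := CfsgLib.Chev.Exch.exists_coxeterSystem hsq hinj hex hgen
  exact ⟨_, cs, hcs⟩

end Cfsg.Agent.S0320
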