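import Cfsg.Statements.S0321
import Cfsg.Agent.Lib.Chev.BNPair

set_option autoImplicit false
open Cfsg

namespace Cfsg.Agent.S0321

/-- For `n ∈ N` not in `B`, the union `B ∪ B n B` is (the underlying set of) a subgroup exactly when `n` agrees
modulo `B ⊓ N` with one of the distinguished representatives; thus the distinguished involutions are
determined by `B` and `N`. -/
theorem result {G : Type*} [Group G] (P : Cfsg.BNPair G) {n : G}
    (hn : n ∈ P.N) (hnB : n ∉ P.B) :
    (∃ H : Subgroup G, (H : Set G) = (P.B : Set G) ∪ DoubleCoset.doubleCoset n (P.B : Set G) P.B) ↔ ∃ s ∈ P.S, s⁻¹ * n ∈ P.B := by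
  constructor
  · rintro ⟨H, hH⟩
    have hBH : P.B ≤ H := fun b hb => by
      rw [← SetLike.mem_coe, hH]; exact Or.inl hb
    have hnH : n ∈ H := by
      rw [← SetLike.mem_coe, hH]; exact Or.inr (CfsgLib.Chev.BN.mem_cell_self n)
    obtain ⟨l, hl, he⟩ := CfsgLib.Chev.BN.exists_red hn
    have hlH : l.prod ∈ H := by
      have := mul_mem hnH (hBH he.symm.1)
      rwa [mul_inv_cancel_left] at this
    rcases l with - | ⟨s, l⟩
    · exact absurd (CfsgLib.Chev.BN.eqv_one_iff.1 (by simpa using he)).1 hnB
    have hs : s ∈ P.S := hl.1 s (by simp)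
    have hsH : s ∈ H := CfsgLib.Chev.BN.letters_mem hBH hl
      (fun b hb => mul_mem (mul_mem hlH (hBH hb)) (inv_mem hlH)) s (by simp)
    rw [← SetLike.mem_coe, hH] at hsH
    rcases hsH with h | h
    · exact absurd h (CfsgLib.Chev.BN.s_not_mem_B hs)
    · exact ⟨s, hs, (CfsgLib.Chev.BN.eqv_of_mem_cells (P.subset hs) hn
        (CfsgLib.Chev.BN.mem_cell_self s) h).1⟩
  · rintro ⟨s, hs, hsn⟩
    have he := CfsgLib.Chev.BN.eqv_of_mem (P.subset hs) hn hsn
    refine ⟨P.parabolic {s}, Set.ext fun g => ?_⟩
    rw [SetLike.mem_coe, CfsgLib.Chev.BN.mem_parabolic_iff (Set.singleton_subset_iff.2 hs)]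
    constructor
    · rintro ⟨l, hl, hg⟩
      obtain ⟨m, hm, hred, hme⟩ := CfsgLib.Chev.BN.exists_red_sublist (P := P) (l := l)
        (fun x hx => by rw [hl x hx]; exact hs)
      rw [← hme.cell_eq] at hg
      rcases m with - | ⟨a, m⟩
      · exact Or.inl (CfsgLib.Chev.BN.cell_one_subset (by simpa using hg))
      rcases m with - | ⟨b, m⟩
      · have ha : a = s := hl a (hm.subset (by simp))
        subst ha
        right
        show g ∈ CfsgLib.Chev.BN.cell P n
        rw [← he.cell_eq]; simpa using hg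
      · exfalso
        have ha : a = s := hl a (hm.subset (by simp))
        have hb : b = s := hl b (hm.subset (by simp))
        subst ha hb
        have h2 := hred.2
        simp only [List.prod_cons, List.length_cons] at h2
        rw [CfsgLib.Chev.BN.len_congr (CfsgLib.Chev.BN.eqv_twice hs
          hred.tail.tail.1.prod_mem), hred.tail.tail.2] at h2
        omega
    · rintro (hg | hg)
      · exact ⟨[], by simp, CfsgLib.Chev.BN.mem_cell.2 ⟨g, hg, 1, one_mem _, by simp⟩⟩
      · exact ⟨[s], by simp, by rw [List.prod_singleton, he.cell_eq]; exact hg⟩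

end Cfsg.Agent.S0321
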