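import Cfsg.Statements.S0322
import Cfsg.Agent.Lib.Chev.BNPair

set_option autoImplicit false
open Cfsg

namespace Cfsg.Agent.S0322

/-- A group with a (B,N)-pair of rank one acts doubly transitively on the left cosets of `B`. -/
theorem result {G : Type*} [Group G] (P : Cfsg.BNPair G) (h : P.rank = 1) : MulAction.IsMultiplyPretransitive G (G ⧸ P.B) 2 := by
  obtain ⟨hsub, hne⟩ := Nat.card_eq_one_iff_unique.1 h
  obtain ⟨⟨s, hs⟩⟩ := hne
  have hS : ∀ g : G, g ∉ P.B → g ∈ CfsgLib.Chev.BN.cell P s := by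
    intro g hg
    obtain ⟨n, hn, hgn⟩ := CfsgLib.Chev.BN.exists_cell (P := P) g
    obtain ⟨l, hl, he⟩ := CfsgLib.Chev.BN.exists_red hn
    rw [← he.cell_eq] at hgn
    rcases l with - | ⟨a, l⟩
    · exact absurd (CfsgLib.Chev.BN.cell_one_subset (by simpa using hgn)) hg
    have ha : a = s := congrArg Subtype.val (Subsingleton.elim (⟨a, hl.1 a (by simp)⟩ : P.S) ⟨s, hs⟩)
    rcases l with - | ⟨b, l⟩
    · rw [← ha]; simpa using hgn
    · exfalso
      have hb : b = s := congrArg Subtype.val (Subsingleton.elim (⟨b, hl.1 b (by simp)⟩ : P.S) ⟨s, hs⟩)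
      subst ha hb
      have h2 := hl.2
      simp only [List.prod_cons, List.length_cons] at h2
      rw [CfsgLib.Chev.BN.len_congr (CfsgLib.Chev.BN.eqv_twice hs
        hl.tail.tail.1.prod_mem), hl.tail.tail.2] at h2
      omega
  rw [MulAction.is_two_pretransitive_iff]
  have key : ∀ x y : G ⧸ P.B, x ≠ y → ∃ g : G, g • ((1 : G) : G ⧸ P.B) = x ∧ g • (s : G ⧸ P.B) = y := by
    intro x y hxy
    obtain ⟨a, rfl⟩ := QuotientGroup.mk_surjective x
    obtain ⟨b, rfl⟩ := QuotientGroup.mk_surjective y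
    have hab : a⁻¹ * b ∉ P.B := fun h => hxy (QuotientGroup.eq.2 h)
    obtain ⟨b₁, hb₁, b₂, hb₂, e⟩ := CfsgLib.Chev.BN.mem_cell.1 (hS _ hab)
    refine ⟨a * b₁, ?_, ?_⟩
    · rw [MulAction.Quotient.smul_mk]
      refine QuotientGroup.eq.2 ?_
      simpa using inv_mem hb₁
    · rw [MulAction.Quotient.smul_mk]
      refine QuotientGroup.eq.2 ?_
      have hb : b = a * (b₁ * s * b₂) := by rw [← e]; group
      rw [hb, smul_eq_mul, show (a * b₁ * s)⁻¹ * (a * (b₁ * s * b₂)) = b₂ by group]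
      exact hb₂
  intro a b c d hab hcd
  obtain ⟨g, h1, h2⟩ := key a b hab
  obtain ⟨k, h3, h4⟩ := key c d hcd
  exact ⟨k * g⁻¹, by rw [← h1, mul_smul, inv_smul_smul, h3], by rw [← h2, mul_smul, inv_smul_smul, h4]⟩

end Cfsg.Agent.S0322
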