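import Cfsg.Statements.S0323
import Cfsg.Agent.Lib.Chev.BNPair

set_option autoImplicit false
open scoped Pointwise
open Cfsg

namespace Cfsg.Agent.S0323

/-- A doubly transitive action on a set with at least three points yields a (B,N)-pair of rank one:
`B` is the stabiliser of a point `x`, `N` the setwise stabiliser of a pair `{x, y}`. -/
theorem result {G Ω : Type*} [Group G] [MulAction G Ω]
    (h2 : MulAction.IsMultiplyPretransitive G Ω 2) {x y z : Ω} (hxy : x ≠ y) (hyz : y ≠ z) (hxz : x ≠ z) :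
    ∃ P : Cfsg.BNPair G, P.B = MulAction.stabilizer G x ∧
      P.N = MulAction.stabilizer G ({x, y} : Set Ω) ∧ P.rank = 1 := by
  rw [MulAction.is_two_pretransitive_iff] at h2
  obtain ⟨t, htx, hty⟩ := h2 hxy hxy.symm
  obtain ⟨c, hcx, hcy⟩ := h2 hxy hxz
  set B := MulAction.stabilizer G x with hBdef
  set N := MulAction.stabilizer G ({x, y} : Set Ω) with hNdef
  have hN : ∀ g, g ∈ N ↔ g • ({x, y} : Set Ω) = {x, y} := fun g => Iff.rfl
  have hB : ∀ g, g ∈ B ↔ g • x = x := fun g => Iff.rfl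
  have hNcases : ∀ g ∈ N, (g • x = x ∧ g • y = y) ∨ (g • x = y ∧ g • y = x) := by
    intro g hg
    rw [hN, Set.smul_set_insert, Set.smul_set_singleton, Set.pair_eq_pair_iff] at hg
    rcases hg with ⟨h1, h2⟩ | ⟨h1, h2⟩
    · exact Or.inl ⟨h1, h2⟩
    · exact Or.inr ⟨h1, h2⟩
  have hmemN : ∀ g : G, ((g • x = x ∧ g • y = y) ∨ (g • x = y ∧ g • y = x)) → g ∈ N := by
    intro g hg
    rw [hN, Set.smul_set_insert, Set.smul_set_singleton, Set.pair_eq_pair_iff]
    exact hg
  have ht2 : t * t ∈ B := by rw [hB, mul_smul, htx, hty]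
  have htN : t ∈ N := hmemN t (Or.inr ⟨htx, hty⟩)
  have hcell : ∀ g : G, g • x ≠ x → g ∈ DoubleCoset.doubleCoset t (B : Set G) B := by
    intro g hg
    obtain ⟨k, hkx, hky⟩ := h2 hxy hg.symm
    rw [DoubleCoset.mem_doubleCoset]
    refine ⟨k, hkx, (k * t)⁻¹ * g, ?_, by group⟩
    show (k * t)⁻¹ * g ∈ B
    rw [hB, mul_smul, inv_smul_eq_iff, mul_smul, htx, hky]
  refine ⟨{
    B := B
    N := N
    S := {t}
    sup_eq_top := ?_
    conj_mem := ?_
    subset := Set.singleton_subset_iff.2 htN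
    sq_mem := fun s hs => by rw [Set.mem_singleton_iff.1 hs]; exact ht2
    inj := fun s hs s' hs' _ => by rw [Set.mem_singleton_iff.1 hs, Set.mem_singleton_iff.1 hs']
    closure_sup := ?_
    mul_mem_union := ?_
    conj_ne := ?_ }, rfl, rfl, by simp [Cfsg.BNPair.rank]⟩
  · refine eq_top_iff.2 fun g _ => ?_
    by_cases hg : g • x = x
    · exact Subgroup.mem_sup_left hg
    · obtain ⟨b, hb, b', hb', rfl⟩ := DoubleCoset.mem_doubleCoset.1 (hcell g hg)
      exact mul_mem (mul_mem (Subgroup.mem_sup_left hb) (Subgroup.mem_sup_right htN))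
        (Subgroup.mem_sup_left hb')
  · intro n hn b hb
    obtain ⟨hb1, hb2⟩ := hb
    replace hb1 : b • x = x := hb1
    have hby : b • y = y := by
      rcases hNcases b (hb2 : b ∈ N) with h | h
      · exact h.2
      · exact absurd (hb1.symm.trans h.1) hxy
    rw [hB, mul_smul, mul_smul]
    rcases hNcases n⁻¹ (inv_mem hn) with ⟨h, h'⟩ | ⟨h, h'⟩
    · rw [h, hb1]; exact (inv_smul_eq_iff.1 h).symm
    · rw [h, hby]; exact (inv_smul_eq_iff.1 h).symm
  · refine le_antisymm (sup_le ((Subgroup.closure_le _).2 (Set.singleton_subset_iff.2 htN)) inf_le_right)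
      fun n hn => ?_
    rcases hNcases n hn with ⟨h, -⟩ | ⟨h, h'⟩
    · exact Subgroup.mem_sup_right ⟨h, hn⟩
    · have h1 : t⁻¹ * n ∈ B ⊓ N :=
        ⟨by show t⁻¹ * n ∈ B; rw [hB, mul_smul, h, inv_smul_eq_iff, htx], N.mul_mem (N.inv_mem htN) hn⟩
      have := mul_mem (Subgroup.mem_sup_left (T := B ⊓ N) (Subgroup.subset_closure (Set.mem_singleton t)))
        (Subgroup.mem_sup_right h1)
      simpa using this
  · intro s hs n hn b hb
    rw [Set.mem_singleton_iff] at hs
    subst hs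
    have hone : ∀ u g : G, u ∈ B → g • x = x → g ∈ DoubleCoset.doubleCoset u (B : Set G) B := by
      intro u g hu hg
      exact DoubleCoset.mem_doubleCoset.2 ⟨1, one_mem _, u⁻¹ * g, mul_mem (inv_mem hu) hg, by group⟩
    have hsame : ∀ u g : G, u • x ≠ x → g • x ≠ x → g ∈ DoubleCoset.doubleCoset u (B : Set G) B := by
      intro u g hu hg
      rw [DoubleCoset.doubleCoset_eq_of_mem (hcell u hu)]
      exact hcell g hg
    rcases hNcases n hn with ⟨hn1, -⟩ | ⟨hn1, -⟩
    · left
      exact hsame _ _ (by rw [mul_smul, hn1, htx]; exact hxy.symm)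
        (by rw [mul_smul, mul_smul, hn1, (hB b).1 hb, htx]; exact hxy.symm)
    · by_cases hg : (s * b * n) • x = x
      · left
        exact hone _ _ (by rw [hB, mul_smul, hn1, hty]) hg
      · right
        exact hsame _ _ (by rw [hn1]; exact hxy.symm) hg
  · intro s hs h
    rw [Set.mem_singleton_iff] at hs
    subst hs
    have hcB : c ∈ (B : Set G) := hcx
    rw [← h] at hcB
    obtain ⟨b, hb, rfl⟩ := hcB
    have : (s * b * s) • y = y := by rw [mul_smul, mul_smul, hty, (hB b).1 hb, htx]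
    exact hyz (this.symm.trans hcy)

end Cfsg.Agent.S0323
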