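import Cfsg.Statements.S0328
import Cfsg.Agent.Lib.Suzuki.Facts

set_option autoImplicit false
open Cfsg

namespace Cfsg.Agent.S0328

/-- The stabiliser in the Suzuki group of the two ovoid points spanned by `(1,0,0,0)` and `(0,0,0,1)` is
isomorphic to the multiplicative group of the field (cyclic of order `q - 1`). -/
theorem result {F : Type*} [Field F] [Fintype F] {m : ℕ} (hm : 1 ≤ m)
    (hF : Fintype.card F = 2 ^ (2 * m + 1)) :
    Nonempty (↥(MulAction.stabilizer (Cfsg.Sz F m) (Cfsg.suzukiPointInfinity F) ⊓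
        MulAction.stabilizer (Cfsg.Sz F m) (Cfsg.suzukiPointZero F)) ≃* Fˣ) := by
  haveI := CfsgLib.Suzuki.charTwo hF
  let e : Fˣ → ↥(MulAction.stabilizer (Cfsg.Sz F m) (Cfsg.suzukiPointInfinity F) ⊓
      MulAction.stabilizer (Cfsg.Sz F m) (Cfsg.suzukiPointZero F)) := fun s =>
    ⟨CfsgLib.Suzuki.toSL hF (CfsgLib.SuzukiLaws.T hF s),
      congrArg Subtype.val (CfsgLib.Suzuki.T_smul_inf hF s),
      congrArg Subtype.val (CfsgLib.Suzuki.T_smul_zero hF s)⟩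
  refine ⟨((MulEquiv.ofBijective (MonoidHom.mk' e fun s t => Subtype.ext ?_) ⟨?_, ?_⟩)).symm⟩
  · show CfsgLib.Suzuki.toSL hF _ = CfsgLib.Suzuki.toSL hF _ * CfsgLib.Suzuki.toSL hF _
    rw [← map_mul, CfsgLib.SuzukiLaws.T_mul]
  · intro s t h
    exact CfsgLib.Suzuki.T_injective hF (CfsgLib.Suzuki.toSL_injective hF (congrArg Subtype.val h))
  · rintro ⟨g, h1, h2⟩
    obtain ⟨k, rfl⟩ := CfsgLib.Suzuki.toSL_surjective hF hm g
    obtain ⟨s, rfl⟩ := (CfsgLib.Suzuki.stab_two hF k).1 ⟨Subtype.ext h1, Subtype.ext h2⟩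
    exact ⟨s, rfl⟩

end Cfsg.Agent.S0328
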