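import Cfsg.Statements.S0329
import Cfsg.Agent.Lib.Suzuki.Facts

set_option autoImplicit false
open Cfsg

namespace Cfsg.Agent.S0329

/-- The stabiliser in the Suzuki group of the ovoid point spanned by `(1,0,0,0)` has order `q² (q - 1)`. -/
theorem result {F : Type*} [Field F] [Fintype F] {m : ℕ} (hm : 1 ≤ m)
    (hF : Fintype.card F = 2 ^ (2 * m + 1)) :
    Nat.card (MulAction.stabilizer (Cfsg.Sz F m) (Cfsg.suzukiPointInfinity F)) =
      (2 ^ (2 * m + 1)) ^ 2 * (2 ^ (2 * m + 1) - 1) := by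
  haveI := CfsgLib.Suzuki.charTwo hF
  refine (Nat.card_eq_of_bijective (fun p : (F × F) × Fˣ =>
    (⟨CfsgLib.Suzuki.toSL hF (CfsgLib.SuzukiLaws.T hF p.2 * CfsgLib.SuzukiLaws.U hF p.1.1 p.1.2),
      congrArg Subtype.val ((CfsgLib.Suzuki.stab_inf hF _).2 ⟨_, _, _, rfl⟩)⟩ :
      MulAction.stabilizer (Cfsg.Sz F m) (Cfsg.suzukiPointInfinity F))) ⟨?_, ?_⟩).symm.trans ?_
  · intro p r h
    obtain ⟨h1, h2, h3⟩ := CfsgLib.Suzuki.TU_injective hF
      (CfsgLib.Suzuki.toSL_injective hF (congrArg Subtype.val h))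
    exact Prod.ext (Prod.ext h2 h3) h1
  · rintro ⟨g, hg⟩
    obtain ⟨k, rfl⟩ := CfsgLib.Suzuki.toSL_surjective hF hm g
    obtain ⟨s, a, b, rfl⟩ := (CfsgLib.Suzuki.stab_inf hF k).1 (Subtype.ext hg)
    exact ⟨((a, b), s), rfl⟩
  · rw [Nat.card_prod, Nat.card_prod, Nat.card_units, Nat.card_eq_fintype_card, hF, sq]

end Cfsg.Agent.S0329
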