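import Cfsg.Statements.S0330
import Cfsg.Agent.Lib.Suzuki.Facts

set_option autoImplicit false
open Cfsg

namespace Cfsg.Agent.S0330

/-- A Sylow 2-subgroup `P` of the Suzuki group (field with `q = 2^(2m+1)` elements, `m ≥ 1`) has order `q²` and
exponent `4`; its centre coincides with its commutator subgroup and has order `q`. -/
theorem result {F : Type*} [Field F] [Fintype F] {m : ℕ} (hm : 1 ≤ m)
    (hF : Fintype.card F = 2 ^ (2 * m + 1)) (P : Sylow 2 (Cfsg.Sz F m)) :
    Nat.card P = (2 ^ (2 * m + 1)) ^ 2 ∧ Monoid.exponent P = 4 ∧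
      Subgroup.center P = commutator P ∧ Nat.card (Subgroup.center P) = 2 ^ (2 * m + 1) := by
  haveI := CfsgLib.Suzuki.charTwo hF
  haveI : Fact (Nat.Prime 2) := ⟨Nat.prime_two⟩
  have hsurj : Function.Surjective (CfsgLib.Suzuki.equiv hF hm).toMonoidHom :=
    (CfsgLib.Suzuki.equiv hF hm).surjective
  let Q := (CfsgLib.Suzuki.sylow hF hm).mapSurjective hsurj
  let e : ↥(P : Subgroup (Cfsg.Sz F m)) ≃* ↥(CfsgLib.Suzuki.unip hF) :=
    (P.equiv Q).trans ((CfsgLib.Suzuki.sylow hF hm : Subgroup _).equivMapOfInjective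
      (CfsgLib.Suzuki.equiv hF hm).toMonoidHom (CfsgLib.Suzuki.equiv hF hm).injective).symm
  refine ⟨?_, ?_, ?_, ?_⟩
  · rw [Nat.card_congr e.toEquiv, CfsgLib.Suzuki.card_unip, hF]
  · rw [Monoid.exponent_eq_of_mulEquiv e, CfsgLib.Suzuki.exponent_unip hF hm]
  · have h := CfsgLib.Suzuki.center_eq_commutator hF hm
    apply Subgroup.map_injective (f := e.toMonoidHom) e.injective
    show Subgroup.map e.toMonoidHom _ = Subgroup.map e.toMonoidHom _
    rw [commutator_def, Subgroup.map_commutator,
      Subgroup.map_top_of_surjective e.toMonoidHom e.surjective, ← commutator_def, ← h]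
    ext z
    constructor
    · rintro ⟨w, hw, rfl⟩
      exact Subgroup.mem_center_iff.2 fun u => by
        obtain ⟨u, rfl⟩ := e.surjective u
        show e u * e w = e w * e u
        rw [← map_mul, ← map_mul, Subgroup.mem_center_iff.1 hw u]
    · intro hz
      refine ⟨e.symm z, Subgroup.mem_center_iff.2 fun u => e.injective ?_, e.apply_symm_apply z⟩
      rw [map_mul, map_mul, e.apply_symm_apply]
      exact Subgroup.mem_center_iff.1 hz (e u)
  · rw [Nat.card_congr (Subgroup.centerCongr e).toEquiv, CfsgLib.Suzuki.card_center hF hm, hF]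

end Cfsg.Agent.S0330
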