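import Cfsg.Statements.S0331
import Cfsg.Agent.Lib.Suzuki.Dynamics

set_option autoImplicit false
open Cfsg

namespace Cfsg.Agent.S0331

/-- For every odd prime `p` the Sylow `p`-subgroups of the Suzuki group are cyclic. -/
theorem result {F : Type*} [Field F] [Fintype F] {m : ℕ} (hm : 1 ≤ m)
    (hF : Fintype.card F = 2 ^ (2 * m + 1)) {p : ℕ} [Fact p.Prime] (hp : p ≠ 2)
    (P : Sylow p (Cfsg.Sz F m)) : IsCyclic P := by
  haveI := CfsgLib.Suzuki.charTwo hF
  have hsurj : Function.Surjective (CfsgLib.Suzuki.equiv hF hm).symm.toMonoidHom :=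
    (CfsgLib.Suzuki.equiv hF hm).symm.surjective
  haveI := CfsgLib.Suzuki.sylow_cyclic hF hm hp (P.mapSurjective hsurj)
  let e : ↥(P : Subgroup (Cfsg.Sz F m)) ≃* ↥(P.mapSurjective hsurj : Subgroup (Cfsg.Lie.Sz F (2 ^ (m + 1)))) :=
    (P : Subgroup (Cfsg.Sz F m)).equivMapOfInjective
      (CfsgLib.Suzuki.equiv hF hm).symm.toMonoidHom (CfsgLib.Suzuki.equiv hF hm).symm.injective
  exact isCyclic_of_injective e.toMonoidHom e.injective

end Cfsg.Agent.S0331
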