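import Cfsg.Statements.S0332
import Cfsg.Agent.Lib.Suzuki.Dynamics

set_option autoImplicit false
open Cfsg

namespace Cfsg.Agent.S0332

/-- The Suzuki group is a CN-group: every non-identity element has nilpotent centraliser. -/
theorem result {F : Type*} [Field F] [Fintype F] {m : ℕ} (hm : 1 ≤ m)
    (hF : Fintype.card F = 2 ^ (2 * m + 1)) : Cfsg.IsCNGroup (Cfsg.Sz F m) := by
  haveI := CfsgLib.Suzuki.charTwo hF
  intro g hg
  set e := (CfsgLib.Suzuki.equiv hF hm).symm with he
  have h := CfsgLib.Suzuki.isCN hF hm (e g) (by simpa using hg)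
  let f : ↥(Subgroup.centralizer ({g} : Set (Cfsg.Sz F m))) →*
      ↥(Subgroup.centralizer ({e g} : Set (Cfsg.Lie.Sz F (2 ^ (m + 1))))) :=
    MonoidHom.mk' (fun x => ⟨e x.1, Subgroup.mem_centralizer_singleton_iff.2 (by
      rw [← map_mul, ← map_mul, Subgroup.mem_centralizer_singleton_iff.1 x.2])⟩)
      fun x y => Subtype.ext (map_mul e _ _)
  have hf : Function.Injective f := fun x y h => Subtype.ext (e.injective (congrArg Subtype.val h))
  haveI := h
  exact isNilpotent_of_ker_le_center f (by rw [(MonoidHom.ker_eq_bot_iff f).2 hf]; exact bot_le)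

end Cfsg.Agent.S0332
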