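import Cfsg.Statements.S0333
import Cfsg.Agent.Lib.Suzuki.Count

set_option autoImplicit false
open Cfsg

namespace Cfsg.Agent.S0333

/-- With `q = 2^(2m+1)` and `r = 2^m`, the Suzuki group has cyclic subgroups of orders `q + 2r + 1` and
`q - 2r + 1`; each is the centraliser of each of its non-identity elements and has index `4` in its normaliser. -/
theorem result {F : Type*} [Field F] [Fintype F] {m : ℕ} (hm : 1 ≤ m)
    (hF : Fintype.card F = 2 ^ (2 * m + 1)) :
    ∀ k ∈ ({2 ^ (2 * m + 1) + 2 ^ (m + 1) + 1, 2 ^ (2 * m + 1) - 2 ^ (m + 1) + 1} : Set ℕ),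
      ∃ U : Subgroup (Cfsg.Sz F m), IsCyclic U ∧ Nat.card U = k ∧
        (∀ u ∈ U, u ≠ 1 → Subgroup.centralizer {u} = U) ∧ Nat.card (Subgroup.normalizer (U : Set (Cfsg.Sz F m))) = 4 * k := by
  haveI := CfsgLib.Suzuki.charTwo hF
  intro k hk
  obtain ⟨A, hA, hcard, hcent, hN⟩ := CfsgLib.Suzuki.exists_tori hF hm k hk
  set e := CfsgLib.Suzuki.equiv hF hm with he
  refine ⟨A.map e.toMonoidHom, ?_, ?_, ?_, ?_⟩
  · exact (A.equivMapOfInjective e.toMonoidHom e.injective).isCyclic.1 hA
  · rw [Subgroup.card_map_of_injective (f := e.toMonoidHom) e.injective, hcard]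
  · rintro u ⟨v, hv, rfl⟩ hu1
    rw [← hcent v hv (fun h => hu1 (by rw [h, map_one]))]
    ext w
    obtain ⟨w, rfl⟩ := e.surjective w
    rw [Subgroup.mem_centralizer_singleton_iff, Subgroup.mem_map_equiv, e.symm_apply_apply,
      Subgroup.mem_centralizer_singleton_iff]
    show e w * e v = e v * e w ↔ _
    rw [← map_mul, ← map_mul, e.injective.eq_iff]
  · rw [← Subgroup.map_equiv_normalizer_eq, Subgroup.card_map_of_injective (f := e.toMonoidHom) e.injective, hN]

end Cfsg.Agent.S0333
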