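import Cfsg.Statements.S0335
import Cfsg.Agent.Lib.Suzuki.Facts

set_option autoImplicit false
open Cfsg

namespace Cfsg.Agent.S0335

/-- The Suzuki–Tits point set is an ovoid: any three distinct points of it are projectively independent
(no line of projective 3-space meets it in more than two points). -/
theorem result {F : Type*} [Field F] [Fintype F] {m : ℕ} (hm : 1 ≤ m)
    (hF : Fintype.card F = 2 ^ (2 * m + 1)) (p : Fin 3 ↪ Cfsg.suzukiOvoid F m) :
    Projectivization.Independent (fun i => (p i : Projectivization F (Fin 4 → F))) := by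
  haveI := CfsgLib.Suzuki.charTwo hF
  obtain ⟨g, h0, h1⟩ := CfsgLib.Suzuki.exists_smul_pair hF (p.injective.ne (show (0 : Fin 3) ≠ 1 by decide))
  set G := CfsgLib.Suzuki.toSL hF g with hG
  obtain ⟨o, ho⟩ := (CfsgLib.Suzuki.param_bijective m).2 (G⁻¹ • p 2)
  rcases o with _ | ⟨x, y⟩
  · exfalso
    refine p.injective.ne (show (0 : Fin 3) ≠ 2 by decide) ?_
    rw [← smul_inv_smul G (p 2), ← ho, ← h0]
    rfl
  have hxy : x ≠ 0 ∨ y ≠ 0 := by
    by_contra h
    push Not at h
    obtain ⟨rfl, rfl⟩ := h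
    refine p.injective.ne (show (1 : Fin 3) ≠ 2 by decide) ?_
    rw [← smul_inv_smul G (p 2), ← ho, ← h1]
    congr 1
    refine Subtype.ext ?_
    show Projectivization.mk F _ _ = Projectivization.mk F _ _
    congr 1
    exact CfsgLib.Suzuki.e3_eq
  set M : Matrix (Fin 4) (Fin 4) F := g.1.1 with hM
  let v : Fin 3 → (Fin 4 → F) :=
    ![M.mulVec ![1, 0, 0, 0], M.mulVec ![0, 0, 0, 1], M.mulVec (CfsgLib.Suzuki.ovVec m x y)]
  have hinj : Function.Injective M.mulVec :=
    Matrix.mulVec_injective_of_isUnit ⟨g.1, rfl⟩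
  have hlin : LinearIndependent F ![![1, 0, 0, 0], ![0, 0, 0, 1], CfsgLib.Suzuki.ovVec m x y] := by
    rw [Fintype.linearIndependent_iff]
    intro c hc
    simp only [Fin.sum_univ_three] at hc
    have a0 := congrFun hc 0
    have a1 := congrFun hc 1
    have a2 := congrFun hc 2
    have a3 := congrFun hc 3
    simp [CfsgLib.Suzuki.ovVec] at a0 a1 a2 a3
    have c2 : c 2 = 0 := by
      rcases hxy with h | h
      · exact a2.resolve_right h
      · exact a1.resolve_right h
    rw [c2] at a0 a3
    intro i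
    fin_cases i
    · simpa using a0
    · simpa using a3
    · exact c2
  have hv : LinearIndependent F v := by
    have := hlin.map' (Matrix.mulVecLin M) (LinearMap.ker_eq_bot.2 hinj)
    have e : v = (Matrix.mulVecLin M : (Fin 4 → F) → Fin 4 → F) ∘
        ![![1, 0, 0, 0], ![0, 0, 0, 1], CfsgLib.Suzuki.ovVec m x y] := by
      funext i
      fin_cases i <;> rfl
    rw [e]
    exact this
  have hv0 : ∀ i, v i ≠ 0 := fun i => hv.ne_zero i
  have key : (fun i => (p i : Projectivization F (Fin 4 → F))) =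
      fun i => Projectivization.mk F (v i) (hv0 i) := by
    refine funext (Fin.forall_fin_succ.2 ⟨?_, Fin.forall_fin_succ.2 ⟨?_, Fin.forall_fin_one.2 ?_⟩⟩)
    · rw [show p 0 = G • CfsgLib.Suzuki.inf from h0.symm]; rfl
    · rw [Fin.succ_zero_eq_one, show p 1 = G • CfsgLib.Suzuki.zero from h1.symm]; rfl
    · rw [Fin.succ_zero_eq_one, Fin.succ_one_eq_two, show p 2 = G • CfsgLib.Suzuki.param m (some (x, y)) by rw [ho, smul_inv_smul]]; rfl
  rw [key]
  exact Projectivization.Independent.mk v hv0 hv

end Cfsg.Agent.S0335
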