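import Cfsg.Statements.S0353
import Cfsg.Agent.Lib.Golay.Design

set_option autoImplicit false
open Cfsg

namespace Cfsg.Agent.S0353

open scoped symmDiff

theorem symm_diff_block {α : Type*} [Fintype α] [DecidableEq α] (hα : Fintype.card α = 24)
    {B : Set (Finset α)} (hB : Cfsg.IsSteinerSystem 5 8 B) {b c : Finset α} (hb : b ∈ B)
    (hc : c ∈ B) (h4 : (b ∩ c).card = 4) : b ∆ c ∈ B := by
  have hbad : ∀ d ∈ B, ∀ e ∈ B, (d ∩ e).card % 2 = 0 := by
    intro d hd e he
    by_cases hde : d = e
    · subst hde; rw [Finset.inter_self, hB.1 d hd]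
    obtain ⟨h0, h1, h2, h3, h4'⟩ := CfsgLib.Golay.inter_S5824 hα hB hd
    have hp := CfsgLib.Golay.interCount_pos (b := d) he
    have hlt : (d ∩ e).card < 5 := by
      by_contra h
      exact hde (CfsgLib.Golay.steiner_two_blocks hB hd he (by omega))
    interval_cases h : (d ∩ e).card <;> omega
  set X := b ∆ c with hX
  have hsplit : ∀ d : Finset α, (d ∩ X).card + 2 * (d ∩ (b ∩ c)).card =
      (d ∩ b).card + (d ∩ c).card := by
    intro d
    have e1 : d ∩ (b ∩ c) = (d ∩ b) ∩ (d ∩ c) := by ext x; simp; tauto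
    have e2 : d ∩ X = ((d ∩ b) ∪ (d ∩ c)) \ ((d ∩ b) ∩ (d ∩ c)) := by
      ext x; simp [hX, Finset.mem_symmDiff]; tauto
    rw [e2, e1, Finset.card_sdiff_of_subset Finset.inter_subset_union]
    have := Finset.card_union_add_card_inter (d ∩ b) (d ∩ c)
    have := Finset.card_le_card (Finset.inter_subset_union : (d ∩ b) ∩ (d ∩ c) ⊆ (d ∩ b) ∪ (d ∩ c))
    omega
  have hXc : X.card = 8 := by
    have := hsplit (b ∪ c)
    have e1 : (b ∪ c) ∩ X = X := Finset.inter_eq_right.2 symmDiff_le_sup
    have e2 : (b ∪ c) ∩ (b ∩ c) = b ∩ c := Finset.inter_eq_right.2 Finset.inter_subset_union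
    have e3 : (b ∪ c) ∩ b = b := Finset.inter_eq_right.2 Finset.subset_union_left
    have e4 : (b ∪ c) ∩ c = c := Finset.inter_eq_right.2 Finset.subset_union_right
    rw [e1, e2, e3, e4, hB.1 b hb, hB.1 c hc, h4] at this
    omega
  by_contra hXB
  have key : ∀ d ∈ B, 5 ≤ (d ∩ X).card → (d ∩ X).card = 6 := by
    intro d hd h5
    have := hsplit d
    have := hbad d hd b hb
    have := hbad d hd c hc
    have h8 := Finset.card_le_card (Finset.inter_subset_left : d ∩ X ⊆ d)
    rw [hB.1 d hd] at h8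
    have hne : (d ∩ X).card ≠ 8 := by
      intro h
      have e1 : d ∩ X = d := Finset.eq_of_subset_of_card_le Finset.inter_subset_left
        (by rw [h, hB.1 d hd])
      have e2 : d = X := Finset.eq_of_subset_of_card_le (Finset.inter_eq_left.1 e1)
        (by rw [hXc, hB.1 d hd])
      exact hXB (e2 ▸ hd)
    omega
  set D := (CfsgLib.Golay.blockFinset B).filter fun d => 5 ≤ (d ∩ X).card with hD
  have h := Finset.sum_card_bipartiteAbove_eq_sum_card_bipartiteBelow
    (s := D) (t := X.powersetCard 5) (fun d s => s ⊆ d)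
  simp only [Finset.bipartiteAbove, Finset.bipartiteBelow] at h
  have h1 : ∀ s ∈ X.powersetCard 5, (D.filter (s ⊆ ·)).card = 1 := by
    intro s hs
    rw [Finset.mem_powersetCard] at hs
    obtain ⟨d, hd, hu⟩ := hB.2 s hs.2
    rw [Finset.card_eq_one]
    refine ⟨d, ?_⟩
    ext e
    simp only [hD, Finset.mem_filter, CfsgLib.Golay.mem_blockFinset, Finset.mem_singleton]
    refine ⟨fun h => hu e ⟨h.1.1, h.2⟩, ?_⟩
    rintro rfl
    refine ⟨⟨hd.1, ?_⟩, hd.2⟩
    rw [← hs.2]
    exact Finset.card_le_card (Finset.subset_inter hd.2 hs.1)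
  have h2 : ∀ d ∈ D, ((X.powersetCard 5).filter (· ⊆ d)).card = 6 := by
    intro d hd
    simp only [hD, Finset.mem_filter, CfsgLib.Golay.mem_blockFinset] at hd
    have e : (X.powersetCard 5).filter (· ⊆ d) = (d ∩ X).powersetCard 5 := by
      ext s; simp only [Finset.mem_filter, Finset.mem_powersetCard, Finset.subset_inter_iff]; tauto
    rw [e, Finset.card_powersetCard, key d hd.1 hd.2]
    rfl
  rw [Finset.sum_congr rfl h2, Finset.sum_congr rfl h1] at h
  simp only [Finset.sum_const, smul_eq_mul, Finset.card_powersetCard, hXc] at h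
  have : Nat.choose 8 5 = 56 := rfl
  omega

/-- In an S(5, 8, 24), the symmetric difference of two blocks meeting in four points is a block. -/
theorem result {α : Type*} [Fintype α] [DecidableEq α] (hα : Fintype.card α = 24) {B : Set (Finset α)} (hB : Cfsg.IsSteinerSystem 5 8 B) {b c : Finset α} (hb : b ∈ B) (hc : c ∈ B) (h4 : (b ∩ c).card = 4) : symmDiff b c ∈ B := by
  exact symm_diff_block hα hB hb hc h4

end Cfsg.Agent.S0353
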