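import Cfsg.Statements.S0358
import Cfsg.Agent.Lib.Golay.Code

set_option autoImplicit false
open Cfsg

namespace Cfsg.Agent.S0358

/-- The length-24 code built from the squares modulo 23 has dimension 12 over the field with two elements. -/
theorem result : Module.finrank (ZMod 2) Cfsg.golayCode = 12 := by
  have h1 : Nat.card Cfsg.golayCode = 4096 := by
    have e : (Cfsg.golayCode : Set (Cfsg.GolayPt → ZMod 2)) =
        CfsgLib.Golay.toWord '' (↑CfsgLib.Golay.golayList.toFinset : Set ℕ) := by
      ext w; simp [CfsgLib.Golay.mem_golayCode]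
    have h : (Cfsg.golayCode : Set (Cfsg.GolayPt → ZMod 2)).ncard = 4096 := by
      rw [e, Set.InjOn.ncard_image, Set.ncard_coe_finset,
        List.toFinset_card_of_nodup CfsgLib.Golay.golayList_nodup,
        CfsgLib.Golay.golayList_length]
      intro a ha b hb hab
      simp only [List.coe_toFinset, Set.mem_ofPred_eq] at ha hb
      refine CfsgLib.Golay.toSet_injOn a ha b hb ?_
      rw [← CfsgLib.Golay.support_toWord, ← CfsgLib.Golay.support_toWord, hab]
    rwa [← Nat.card_coe_set_eq] at h
  rw [Module.natCard_eq_pow_finrank (K := ZMod 2), Nat.card_zmod] at h1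
  exact Nat.pow_right_injective le_rfl (h1.trans (by norm_num : (4096 : ℕ) = 2 ^ 12))

end Cfsg.Agent.S0358
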