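import Cfsg.Statements.S0362
import Cfsg.Agent.Lib.Golay.Code

set_option autoImplicit false
open Cfsg

namespace Cfsg.Agent.S0362

theorem basis_orth : ∀ c ∈ CfsgLib.Golay.golayBasis, ∀ d ∈ CfsgLib.Golay.golayBasis,
    ∑ i, CfsgLib.Golay.toWord c i * CfsgLib.Golay.toWord d i = 0 := by decide +kernel

/-- The length-24 code is self-orthogonal: the dot product over ZMod 2 of any two of its words vanishes (with dimension 12 this makes it self-dual). -/
theorem result (v w : Cfsg.GolayPt → ZMod 2) (hv : v ∈ Cfsg.golayCode) (hw : w ∈ Cfsg.golayCode) : ∑ i, v i * w i = 0 := by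
  obtain ⟨a, ha, rfl⟩ := CfsgLib.Golay.mem_golayCode.1 hv
  obtain ⟨b, hb, rfl⟩ := CfsgLib.Golay.mem_golayCode.1 hw
  refine CfsgLib.Golay.spanList_induction (bs := CfsgLib.Golay.golayBasis)
    (P := fun a => ∀ b ∈ CfsgLib.Golay.golayList,
      ∑ i, CfsgLib.Golay.toWord a i * CfsgLib.Golay.toWord b i = 0)
    (by intro b _; simp [CfsgLib.Golay.toWord_zero]) ?_ a ha b hb
  intro c hc n hn b hb
  simp only [CfsgLib.Golay.toWord_xor, Pi.add_apply, add_mul, Finset.sum_add_distrib, hn b hb,
    add_zero]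
  revert b
  refine CfsgLib.Golay.spanList_induction
    (P := fun b => ∑ i, CfsgLib.Golay.toWord c i * CfsgLib.Golay.toWord b i = 0)
    (by simp [CfsgLib.Golay.toWord_zero]) ?_
  intro d hd m hm
  simp only [CfsgLib.Golay.toWord_xor, Pi.add_apply, mul_add, Finset.sum_add_distrib, hm,
    add_zero]
  exact basis_orth c hc d hd

end Cfsg.Agent.S0362
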