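import Cfsg.Statements.S0371
import Cfsg.Agent.Lib.Golay.M24Gens

set_option autoImplicit false
open Cfsg

namespace Cfsg.Agent.S0371

/-- Multiplication by a nonzero square residue modulo 23, fixing the extra point, lies in the group of the length-24 code. -/
theorem result (u : (ZMod 23)ˣ) (hu : IsSquare u) : Equiv.optionCongr (Units.mulLeft u) ∈ Cfsg.M24 := by
  have h1 : CfsgLib.Golay.m24Test (CfsgLib.Golay.mulList (u : ZMod 23).val) = true := by
    obtain ⟨r, hr⟩ := hu
    haveI : Nontrivial (ZMod 23) := ⟨⟨0, 1, by decide⟩⟩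
    have hall : ∀ r : ZMod 23, r ≠ 0 →
        CfsgLib.Golay.m24Test (CfsgLib.Golay.mulList (r * r).val) = true := by decide +kernel
    rw [hr, Units.val_mul]
    exact hall _ r.ne_zero
  have hv : CfsgLib.Golay.validL 24 (CfsgLib.Golay.mulList (u : ZMod 23).val) = true := by
    simp only [CfsgLib.Golay.m24Test, Bool.and_eq_true] at h1
    exact h1.1
  have e : Equiv.optionCongr (Units.mulLeft u) =
      CfsgLib.Golay.permOf CfsgLib.Golay.ptEquiv (CfsgLib.Golay.mulList (u : ZMod 23).val) := by
    refine CfsgLib.Golay.perm_eq_permOf hv ?_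
    have hall : ∀ (v : ZMod 23) (p : Cfsg.GolayPt),
        (CfsgLib.Golay.ptEquiv (Option.map (fun x => v * x) p)).val =
          (CfsgLib.Golay.mulList v.val).getD (CfsgLib.Golay.ptEquiv p).val 0 := by decide +kernel
    exact fun p => hall u p
  rw [e]
  exact CfsgLib.Golay.mem_M24_of_test h1

end Cfsg.Agent.S0371
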