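import Cfsg.Statements.S0384
import Cfsg.Agent.Lib.Golay.Octad

set_option autoImplicit false
open scoped Pointwise
open Cfsg

namespace Cfsg.Agent.S0384

/-- A dodecad stabiliser is sharply 5-transitive on the dodecad. -/
theorem result (d : Finset Cfsg.GolayPt) (hd : d ∈ Cfsg.dodecads) (x y : Fin 5 ↪ Cfsg.GolayPt) (hx : ∀ i, x i ∈ d) (hy : ∀ i, y i ∈ d) : ∃! g : MulAction.stabilizer Cfsg.M24 d, ∀ i, ((g : Cfsg.M24) : Equiv.Perm Cfsg.GolayPt) (x i) = y i := by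
  obtain ⟨a, ha, rfl⟩ := CfsgLib.Golay.dodecads_transitive hd
  have hback : ∀ z : Fin 5 ↪ Cfsg.GolayPt,
      (∀ i, z i ∈ a • CfsgLib.Golay.toSet CfsgLib.Golay.baseDodecad) →
      ∀ i, (z.trans (a⁻¹ : Equiv.Perm Cfsg.GolayPt).toEmbedding) i ∈
        CfsgLib.Golay.toSet CfsgLib.Golay.baseDodecad := fun z hz i => by
    obtain ⟨q, hq, hqz⟩ := Finset.mem_smul_finset.1 (hz i)
    show a⁻¹ (z i) ∈ _
    rw [← hqz, Equiv.Perm.smul_def]
    simpa using hq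
  obtain ⟨m, hm, hu⟩ := CfsgLib.Golay.M12_sharp _ _ (hback x hx) (hback y hy)
  have hm' : ∀ i, m.val (a⁻¹ (x i)) = a⁻¹ (y i) := hm
  have hmem := CfsgLib.Golay.mem_M12.1 m.2
  refine ⟨⟨⟨a * m.val * a⁻¹, mul_mem (mul_mem ha hmem.1) (inv_mem ha)⟩, ?_⟩, fun i => ?_,
    fun g hg => ?_⟩
  · rw [MulAction.mem_stabilizer_iff, Subgroup.smul_def]
    show (a * m.val * a⁻¹) • a • _ = a • _
    rw [smul_smul, inv_mul_cancel_right, mul_smul, hmem.2]
  · show (a * m.val * a⁻¹) (x i) = y i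
    rw [Equiv.Perm.mul_apply, Equiv.Perm.mul_apply, hm']
    simp
  · have hgd : (g.val.val : Equiv.Perm Cfsg.GolayPt) •
        a • CfsgLib.Golay.toSet CfsgLib.Golay.baseDodecad =
        a • CfsgLib.Golay.toSet CfsgLib.Golay.baseDodecad := g.2
    have hg' : a⁻¹ * g.val.val * a ∈ Cfsg.Spor.M12 := CfsgLib.Golay.mem_M12.2
      ⟨mul_mem (mul_mem (inv_mem ha) g.val.2) ha, by
        rw [mul_smul, mul_smul, hgd, inv_smul_smul]⟩
    have := hu ⟨_, hg'⟩ fun i => by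
      show (a⁻¹ * g.val.val * a) (a⁻¹ (x i)) = a⁻¹ (y i)
      simp [hg i]
    refine Subtype.ext (Subtype.ext ?_)
    show g.val.val = a * m.val * a⁻¹
    rw [← this]
    simp [mul_assoc]

end Cfsg.Agent.S0384
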