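import Cfsg.Statements.S0389
import Cfsg.Agent.Lib.Golay.Octad

set_option autoImplicit false
open scoped Pointwise
open Cfsg

namespace Cfsg.Agent.S0389

/-- The stabiliser of a dodecad and a point on it is 3-transitive on the complementary dodecad. -/
theorem result (d : Finset Cfsg.GolayPt) (hd : d ∈ Cfsg.dodecads) (p : Cfsg.GolayPt) (hp : p ∈ d) (x y : Fin 3 ↪ Cfsg.GolayPt) (hx : ∀ i, x i ∉ d) (hy : ∀ i, y i ∉ d) : ∃ g ∈ MulAction.stabilizer Cfsg.M24 d ⊓ MulAction.stabilizer Cfsg.M24 p, ∀ i, (g : Equiv.Perm Cfsg.GolayPt) (x i) = y i := by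
  obtain ⟨a, ha, rfl, rfl⟩ := CfsgLib.Golay.dodecad_point_transitive hd hp
  have hback : ∀ z : Fin 3 ↪ Cfsg.GolayPt,
      (∀ i, z i ∉ a • CfsgLib.Golay.toSet CfsgLib.Golay.baseDodecad) →
      ∀ i, (z.trans (a⁻¹ : Equiv.Perm Cfsg.GolayPt).toEmbedding) i ∉
        CfsgLib.Golay.toSet CfsgLib.Golay.baseDodecad := fun z hz i h => by
    apply hz i
    have := Finset.smul_mem_smul_finset (a := a) h
    simpa using this
  obtain ⟨m, hm, hmi⟩ := CfsgLib.Golay.M11_map_three_outside _ _ (hback x hx) (hback y hy)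
  have hm' : ∀ i, m (a⁻¹ (x i)) = a⁻¹ (y i) := hmi
  obtain ⟨hm12, hm0⟩ := CfsgLib.Golay.mem_M11.1 hm
  have hmem := CfsgLib.Golay.mem_M12.1 hm12
  refine ⟨⟨a * m * a⁻¹, mul_mem (mul_mem ha hmem.1) (inv_mem ha)⟩, ⟨?_, ?_⟩, fun i => ?_⟩
  · show (a * m * a⁻¹) • a • CfsgLib.Golay.toSet CfsgLib.Golay.baseDodecad =
      a • CfsgLib.Golay.toSet CfsgLib.Golay.baseDodecad
    rw [smul_smul, inv_mul_cancel_right, mul_smul, hmem.2]
  · show (a * m * a⁻¹) (a (CfsgLib.Golay.pt 0)) = a (CfsgLib.Golay.pt 0)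
    simp [hm0]
  · show (a * m * a⁻¹) (x i) = y i
    rw [Equiv.Perm.mul_apply, Equiv.Perm.mul_apply, hm']
    simp

end Cfsg.Agent.S0389
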