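import Cfsg.Statements.S0412
import Cfsg.Agent.Lib.Golay.Uniq24
import Cfsg.Agent.Lib.Golay.Transport
import Cfsg.Agent.S0365
import Cfsg.Agent.S0369

set_option autoImplicit false
open Cfsg

namespace Cfsg.Agent.S0412

/-- Aut of an S(5, 8, 24) is simple of order 244823040 and 5-transitive on points. -/
theorem result {α : Type*} [Fintype α] [DecidableEq α] (hα : Fintype.card α = 24) {B : Set (Finset α)} (hB : Cfsg.IsSteinerSystem 5 8 B) : Cfsg.IsM24 (Cfsg.setSystemAut B) ∧ MulAction.IsMultiplyPretransitive (Cfsg.setSystemAut B) α 5 := by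
  obtain ⟨e, he⟩ := CfsgLib.Golay.iso_octads hα hB
  have hM : Cfsg.setSystemAut Cfsg.octads = Cfsg.M24 := Cfsg.Agent.S0369.result.symm
  let φ := CfsgLib.Golay.autEquiv e he
  refine ⟨⟨?_, ?_⟩, ?_⟩
  · haveI : IsSimpleGroup (Cfsg.setSystemAut Cfsg.octads) := hM ▸ Cfsg.Agent.S0365.result
    exact φ.isSimpleGroup
  · rw [Nat.card_congr φ.toEquiv, hM, CfsgLib.Golay.card_M24]
  · exact CfsgLib.Golay.pretransitive_transfer e he (hM ▸ CfsgLib.Golay.M24_five_transitive)

end Cfsg.Agent.S0412
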