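import Cfsg.Statements.S0426
import Cfsg.Agent.Lib.Golay.SysMathieu

set_option autoImplicit false
open Cfsg

namespace Cfsg.Agent.S0426

/-- Aut of an S(4, 5, 11) is simple of order 7920 and sharply 4-transitive on points. -/
theorem result {α : Type*} [Fintype α] [DecidableEq α] (hα : Fintype.card α = 11) {B : Set (Finset α)} (hB : Cfsg.IsSteinerSystem 4 5 B) : Cfsg.IsM11 (Cfsg.setSystemAut B) ∧ MulAction.IsMultiplyPretransitive (Cfsg.setSystemAut B) α 4 ∧ ∀ x : Fin 4 ↪ α, MulAction.stabilizer (Cfsg.setSystemAut B) x = ⊥ := by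
  obtain ⟨e, he⟩ := CfsgLib.Golay.iso_model11 hα hB
  obtain ⟨f, hf⟩ := CfsgLib.Golay.iso_model11 CfsgLib.Golay.card_EPt CfsgLib.Golay.hexads11_steiner
  obtain ⟨g, hg⟩ := CfsgLib.Golay.iso_of_models e he f hf
  obtain ⟨hs, hc⟩ := CfsgLib.Golay.hexads11_isM11
  let φ := CfsgLib.Golay.autEquiv g hg
  haveI := hs
  exact ⟨⟨φ.isSimpleGroup, (Nat.card_congr φ.toEquiv).trans hc⟩,
    CfsgLib.Golay.pretransitive_transfer g hg CfsgLib.Golay.hexads11_pretransitive,
    CfsgLib.Golay.sharp_transfer g hg CfsgLib.Golay.hexads11_sharp⟩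

end Cfsg.Agent.S0426
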