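import Cfsg.Statements.S0427
import Cfsg.Agent.Lib.Golay.Design22

set_option autoImplicit false
open Cfsg

namespace Cfsg.Agent.S0427

/-- The block graph (adjacent = disjoint) of an S(3, 6, 22) is strongly regular with parameters (77, 16, 0, 4). -/
theorem result {α : Type*} [Fintype α] (hα : Fintype.card α = 22) {B : Set (Finset α)} (hB : Cfsg.IsSteinerSystem 3 6 B) [Fintype B] [DecidableRel (Cfsg.blockGraph B).Adj] : (Cfsg.blockGraph B).IsSRGWith 77 16 0 4 := by
  classical
  have hcn : ∀ b c : B, (Cfsg.blockGraph B).commonNeighbors b c =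
      {x : B | Disjoint b.val x.val ∧ Disjoint c.val x.val} := by
    intro b c
    ext x
    simp [SimpleGraph.mem_commonNeighbors, CfsgLib.Golay.blockGraph_adj hB]
  refine ⟨?_, fun b => ?_, fun b c hbc => ?_, fun b c hne hbc => ?_⟩
  · rw [← Nat.card_eq_fintype_card, Nat.card_coe_set_eq, CfsgLib.Golay.s22_count hα hB]
  · rw [← SimpleGraph.card_neighborFinset_eq_degree, ← Set.ncard_coe_finset,
      SimpleGraph.coe_neighborFinset,
      show (Cfsg.blockGraph B).neighborSet b = {x : B | Disjoint b.val x.val} by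
        ext x; simp [CfsgLib.Golay.blockGraph_adj hB],
      CfsgLib.Golay.ncard_blockSet (fun a => Disjoint b.val a),
      CfsgLib.Golay.s22_disjoint_one hα hB b.2]
  · rw [← Nat.card_eq_fintype_card, Nat.card_coe_set_eq, hcn,
      CfsgLib.Golay.ncard_blockSet (fun a => Disjoint b.val a ∧ Disjoint c.val a)]
    exact (CfsgLib.Golay.s22_common hα hB b.2 c.2 fun h => hbc.ne (Subtype.ext h)).1
      ((CfsgLib.Golay.blockGraph_adj hB b c).1 hbc)
  · rw [← Nat.card_eq_fintype_card, Nat.card_coe_set_eq, hcn,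
      CfsgLib.Golay.ncard_blockSet (fun a => Disjoint b.val a ∧ Disjoint c.val a)]
    exact ((CfsgLib.Golay.s22_common hα hB b.2 c.2 fun h => hne (Subtype.ext h)).2
      fun h => hbc ((CfsgLib.Golay.blockGraph_adj hB b c).2 h)).1

end Cfsg.Agent.S0427
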