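import Cfsg.Statements.S0428
import Cfsg.Agent.Lib.Golay.Design22

set_option autoImplicit false
open Cfsg

namespace Cfsg.Agent.S0428

open CfsgLib.Golay in
theorem common_count {α : Type*} [Fintype α] [DecidableEq α] {B : Set (Finset α)}
    (hα : Fintype.card α = 22) (hB : Cfsg.IsSteinerSystem 3 6 B) :
    ∀ v w : Option (α ⊕ B), v ≠ w →
      ((Cfsg.pointBlockGraph B).Adj v w →
        ((Cfsg.pointBlockGraph B).commonNeighbors v w).ncard = 0) ∧
      (¬ (Cfsg.pointBlockGraph B).Adj v w →
        ((Cfsg.pointBlockGraph B).commonNeighbors v w).ncard = 6) := by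
  have cn : ∀ v w, (Cfsg.pointBlockGraph B).commonNeighbors v w =
      {u | (Cfsg.pointBlockGraph B).Adj v u ∧ (Cfsg.pointBlockGraph B).Adj w u} := fun v w => rfl
  have symm' : ∀ v w,
      (((Cfsg.pointBlockGraph B).Adj v w →
        ((Cfsg.pointBlockGraph B).commonNeighbors v w).ncard = 0) ∧
      (¬ (Cfsg.pointBlockGraph B).Adj v w →
        ((Cfsg.pointBlockGraph B).commonNeighbors v w).ncard = 6)) →
      (((Cfsg.pointBlockGraph B).Adj w v →
        ((Cfsg.pointBlockGraph B).commonNeighbors w v).ncard = 0) ∧
      (¬ (Cfsg.pointBlockGraph B).Adj w v →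
        ((Cfsg.pointBlockGraph B).commonNeighbors w v).ncard = 6)) := by
    intro v w h
    rw [SimpleGraph.commonNeighbors_symm]
    exact ⟨fun h' => h.1 h'.symm, fun h' => h.2 fun h'' => h' h''.symm⟩
  have none_point : ∀ p : α, ((Cfsg.pointBlockGraph B).commonNeighbors none (some (Sum.inl p))).ncard = 0 := by
    intro p
    rw [Set.ncard_eq_zero, cn, Set.eq_empty_iff_forall_notMem]
    rintro u ⟨h1, h2⟩
    rw [pbg_none_left] at h1
    obtain ⟨x, rfl⟩ := h1
    simp [pbg_point_left] at h2
  have none_block : ∀ b : B, ((Cfsg.pointBlockGraph B).commonNeighbors none (some (Sum.inr b))).ncard = 6 := by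
    intro b
    rw [cn, ncard_option_sum]
    simp [pbg_none_left, pbg_block_left hB, hB.1 b.val b.2]
  intro v w hvw
  rcases v with _ | p | b <;> rcases w with _ | q | c
  · exact absurd rfl hvw
  · exact ⟨fun _ => none_point q, fun h => absurd ((pbg_none_left _).2 ⟨q, rfl⟩) h⟩
  · exact ⟨fun h => by simp [pbg_none_left] at h, fun _ => none_block c⟩
  · exact symm' _ _ ⟨fun _ => none_point p, fun h => absurd ((pbg_none_left _).2 ⟨p, rfl⟩) h⟩
  · have hpq : p ≠ q := fun h => hvw (by rw [h])
    refine ⟨fun h => by simp [pbg_point_left] at h, fun _ => ?_⟩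
    rw [cn, ncard_option_sum]
    have e : {y : B | p ∈ y.val ∧ q ∈ y.val}.ncard = 5 := by
      rw [ncard_blockSet (fun a => p ∈ a ∧ q ∈ a)]
      exact s22_through_two hα hB hpq
    simp [pbg_point_left, e]
  · constructor
    · intro h
      rw [Set.ncard_eq_zero, cn, Set.eq_empty_iff_forall_notMem]
      have hp : p ∈ c.val := by simpa [pbg_point_left] using h
      rintro (_ | x | y) ⟨h1, h2⟩
      · simp [pbg_block_left hB] at h2
      · simp [pbg_point_left] at h1
      · simp only [pbg_point_left, pbg_block_left hB, Option.some.injEq, Sum.inr.injEq,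
          exists_eq_right', reduceCtorEq, false_or, and_false, exists_false] at h1 h2
        exact Finset.disjoint_left.1 h2 hp h1
    · intro h
      have hp : p ∉ c.val := fun h' => h (by simpa [pbg_point_left] using h')
      rw [cn, ncard_option_sum]
      have e : {y : B | p ∈ y.val ∧ Disjoint c.val y.val}.ncard = 6 := by
        rw [ncard_blockSet (fun a => p ∈ a ∧ Disjoint c.val a)]
        exact s22_point_block hα hB c.2 hp
      simp [pbg_point_left, pbg_block_left hB, e]
  · exact symm' _ _ ⟨fun h => by simp [pbg_none_left] at h, fun _ => none_block b⟩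
  · apply symm'
    constructor
    · intro h
      rw [Set.ncard_eq_zero, cn, Set.eq_empty_iff_forall_notMem]
      have hp : q ∈ b.val := by simpa [pbg_point_left] using h
      rintro (_ | x | y) ⟨h1, h2⟩
      · simp [pbg_block_left hB] at h2
      · simp [pbg_point_left] at h1
      · simp only [pbg_point_left, pbg_block_left hB, Option.some.injEq, Sum.inr.injEq,
          exists_eq_right', reduceCtorEq, false_or, and_false, exists_false] at h1 h2
        exact Finset.disjoint_left.1 h2 hp h1
    · intro h
      have hp : q ∉ b.val := fun h' => h (by simpa [pbg_point_left] using h')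
      rw [cn, ncard_option_sum]
      have e : {y : B | q ∈ y.val ∧ Disjoint b.val y.val}.ncard = 6 := by
        rw [ncard_blockSet (fun a => q ∈ a ∧ Disjoint b.val a)]
        exact s22_point_block hα hB b.2 hp
      simp [pbg_point_left, pbg_block_left hB, e]
  · have hbc : b.val ≠ c.val := fun h => hvw (by rw [Subtype.ext h])
    obtain ⟨hd, hnd⟩ := s22_common hα hB b.2 c.2 hbc
    constructor
    · intro h
      have hp : Disjoint b.val c.val := by
        simpa [pbg_block_left hB] using h
      rw [cn, ncard_option_sum]
      have e : {y : B | Disjoint b.val y.val ∧ Disjoint c.val y.val}.ncard = 0 := by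
        rw [ncard_blockSet (fun a => Disjoint b.val a ∧ Disjoint c.val a)]
        exact hd hp
      have e2 : {x : α | x ∈ b.val ∧ x ∈ c.val}.ncard = 0 := by
        rw [Set.ncard_eq_zero, Set.eq_empty_iff_forall_notMem]
        exact fun x hx => Finset.disjoint_left.1 hp hx.1 hx.2
      simp [pbg_block_left hB, e, e2]
    · intro h
      have hp : ¬ Disjoint b.val c.val := fun h' => h (by simpa [pbg_block_left hB] using h')
      rw [cn, ncard_option_sum]
      have e : {y : B | Disjoint b.val y.val ∧ Disjoint c.val y.val}.ncard = 4 := by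
        rw [ncard_blockSet (fun a => Disjoint b.val a ∧ Disjoint c.val a)]
        exact (hnd hp).1
      have e2 : {x : α | x ∈ b.val ∧ x ∈ c.val}.ncard = 2 := by
        rw [← (hnd hp).2, ← Set.ncard_coe_finset]
        congr 1
        ext x; simp
      simp [pbg_block_left hB, e, e2]

open CfsgLib.Golay in
theorem main {α : Type*} [Fintype α] [DecidableEq α] {B : Set (Finset α)}
    (hα : Fintype.card α = 22) (hB : Cfsg.IsSteinerSystem 3 6 B) [Fintype B]
    [DecidableRel (Cfsg.pointBlockGraph B).Adj] :
    (Cfsg.pointBlockGraph B).IsSRGWith 100 22 0 6 := by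
  refine ⟨?_, fun v => ?_, fun v w h => ?_, fun v w hne h => ?_⟩
  · rw [Fintype.card_option, Fintype.card_sum, hα, ← Nat.card_eq_fintype_card (α := B),
      Nat.card_coe_set_eq, s22_count hα hB]
  · rw [← SimpleGraph.card_neighborFinset_eq_degree, ← Set.ncard_coe_finset,
      SimpleGraph.coe_neighborFinset, ncard_option_sum]
    rcases v with _ | p | b
    · simp [pbg_none_left, Set.ncard_univ, hα]
    · have e : {y : B | p ∈ y.val}.ncard = 21 := by
        rw [ncard_blockSet (fun a => p ∈ a)]
        exact s22_through_one hα hB p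
      simp [pbg_point_left, e]
    · have e : {y : B | Disjoint b.val y.val}.ncard = 16 := by
        rw [ncard_blockSet (fun a => Disjoint b.val a)]
        exact s22_disjoint_one hα hB b.2
      simp [pbg_block_left hB, e, hB.1 b.val b.2]
  · rw [← Nat.card_eq_fintype_card, Nat.card_coe_set_eq]
    exact (common_count hα hB v w h.ne).1 h
  · rw [← Nat.card_eq_fintype_card, Nat.card_coe_set_eq]
    exact (common_count hα hB v w hne).2 h

/-- The point-block graph of an S(3, 6, 22) is strongly regular with parameters (100, 22, 0, 6). -/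
theorem result {α : Type*} [Fintype α] (hα : Fintype.card α = 22) {B : Set (Finset α)} (hB : Cfsg.IsSteinerSystem 3 6 B) [Fintype B] [DecidableRel (Cfsg.pointBlockGraph B).Adj] : (Cfsg.pointBlockGraph B).IsSRGWith 100 22 0 6 := by
  classical
  exact main hα hB

end Cfsg.Agent.S0428
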