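import Cfsg.Statements.S0429
import Cfsg.Agent.Lib.Golay.Srg77Design

set_option autoImplicit false
open Cfsg

namespace Cfsg.Agent.S0429

open CfsgLib.Golay in
theorem to_model {V : Type*} [Fintype V] [DecidableEq V] {G : SimpleGraph V} [DecidableRel G.Adj]
    (hG : G.IsSRGWith 77 16 0 4) :
    ∃ f : V ≃ model22Set, ∀ x y, G.Adj x y ↔ (f x).1 ∩ (f y).1 = ∅ := by
  classical
  obtain ⟨n, B, f, hn, hB, hadj⟩ := Srg77.exists_design hG
  obtain ⟨e, he⟩ := iso_model22 (by rw [Fintype.card_fin, hn]) hB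
  let g : B ≃ model22Set :=
    ((Equiv.Set.image (fun b : Finset (Fin n) => b.image e) B
      (Finset.image_injective e.injective))).trans (Equiv.setCongr he)
  refine ⟨f.trans g, fun x y => (hadj x y).trans ?_⟩
  show (f x).1 ∩ (f y).1 = ∅ ↔ (f x).1.image e ∩ (f y).1.image e = ∅
  rw [← Finset.image_inter _ _ e.injective, Finset.image_eq_empty]

/-- Uniqueness of the strongly regular graph with parameters (77, 16, 0, 4). -/
theorem result {V W : Type*} [Fintype V] [Fintype W] {G : SimpleGraph V} {H : SimpleGraph W} [DecidableRel G.Adj] [DecidableRel H.Adj] (hG : G.IsSRGWith 77 16 0 4) (hH : H.IsSRGWith 77 16 0 4) : Nonempty (G ≃g H) := by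
  classical
  obtain ⟨f, hf⟩ := to_model hG
  obtain ⟨g, hg⟩ := to_model hH
  refine ⟨⟨f.trans g.symm, fun {x y} => ?_⟩⟩
  rw [hg, hf]
  simp

end Cfsg.Agent.S0429
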