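import Cfsg.Statements.S0439


set_option autoImplicit false
open Cfsg

namespace Cfsg.Agent.S0439

/-- In the symmetric group of degree n ≥ 2, the set of transpositions is a conjugacy class of 3-transpositions which generates the group. -/
theorem result (n : ℕ) (hn : 2 ≤ n) : Cfsg.IsThreeTranspositionClass {σ : Equiv.Perm (Fin n) | σ.IsSwap} := by
  refine ⟨⟨?_, ?_⟩, ?_, Equiv.Perm.closure_isSwap⟩
  · rintro _ ⟨a, b, hab, rfl⟩
    exact orderOf_eq_prime (by rw [sq, Equiv.swap_mul_self])
      (fun h => hab (Equiv.swap_eq_one_iff.1 h))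
  · rintro _ ⟨a, b, hab, rfl⟩ _ ⟨c, d, hcd, rfl⟩
    by_cases hac : a = c ∨ a = d ∨ b = c ∨ b = d
    · have key : ∀ p q r : Fin n, p ≠ q → p ≠ r →
          (Equiv.swap p q * Equiv.swap p r) ^ 2 = 1 ∨ (Equiv.swap p q * Equiv.swap p r) ^ 3 = 1 := by
        intro p q r hpq hpr
        by_cases hqr : q = r
        · subst hqr; left; rw [Equiv.swap_mul_self, one_pow]
        · right
          rw [← (Equiv.Perm.isThreeCycle_swap_mul_swap_same hpq hpr hqr).orderOf]
          exact pow_orderOf_eq_one _
      rcases hac with rfl | rfl | rfl | rfl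
      · exact key a b d hab hcd
      · rw [Equiv.swap_comm c a]; exact key a b c hab hcd.symm
      · rw [Equiv.swap_comm a b]; exact key b a d hab.symm hcd
      · rw [Equiv.swap_comm a b, Equiv.swap_comm c b]; exact key b a c hab.symm hcd.symm
    · push Not at hac
      left
      have hd : (Equiv.swap a b).Disjoint (Equiv.swap c d) := by
        intro z
        by_cases h1 : z = a
        · subst h1; right; exact Equiv.swap_apply_of_ne_of_ne hac.1 hac.2.1
        by_cases h2 : z = b
        · subst h2; right; exact Equiv.swap_apply_of_ne_of_ne hac.2.2.1 hac.2.2.2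
        left; exact Equiv.swap_apply_of_ne_of_ne h1 h2
      rw [sq, mul_assoc, ← mul_assoc (Equiv.swap c d), hd.symm.commute.eq, mul_assoc,
        Equiv.swap_mul_self, mul_one, Equiv.swap_mul_self]
  · obtain ⟨a, b, hab⟩ : ∃ a b : Fin n, a ≠ b := ⟨⟨0, by omega⟩, ⟨1, by omega⟩, by simp⟩
    refine ⟨Equiv.swap a b, ⟨a, b, hab, rfl⟩, ?_⟩
    ext σ
    simp only [Set.mem_ofPred_eq, conjugatesOf]
    constructor
    · rintro ⟨c, d, hcd, rfl⟩
      exact Equiv.Perm.isConj_swap hab hcd
    · intro h
      obtain ⟨g, rfl⟩ := isConj_iff.1 h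
      refine ⟨g a, g b, fun h => hab (g.injective h), ?_⟩
      rw [Equiv.swap_apply_apply]

end Cfsg.Agent.S0439
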