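import Cfsg.Statements.S0441
import Cfsg.Agent.Lib.ThreeTransp.Rank3

set_option autoImplicit false
open Cfsg CfsgLib.ThreeTransp
open scoped commutatorElement

namespace Cfsg.Agent.S0441

/-- Fischer's rank-three property. Let a finite group be generated by a conjugacy class D of 3-transpositions, with non-abelian simple commutator subgroup. Then for a in D there are members of D other than a commuting with a and members not commuting with a, and the centraliser of a acts transitively on each of these two sets. -/
theorem result {G : Type*} [Group G] [Finite G] {D : Set G} (hD : Cfsg.IsThreeTranspositionClass D) (hsimple : IsSimpleGroup (commutator G)) (hnonab : ∃ x y : commutator G, x * y ≠ y * x) {a : G} (ha : a ∈ D) : (∃ b ∈ D, b ≠ a ∧ Commute a b) ∧ (∃ c ∈ D, ¬ Commute a c) ∧ (∀ b ∈ D, ∀ b' ∈ D, b ≠ a → b' ≠ a → Commute a b → Commute a b' → ∃ g : G, Commute g a ∧ g * b * g⁻¹ = b') ∧ (∀ c ∈ D, ∀ c' ∈ D, ¬ Commute a c → ¬ Commute a c' → ∃ g : G, Commute g a ∧ g * c * g⁻¹ = c') := by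
  classical
  have hT := isTT_of_class hD
  obtain ⟨d₀, -, hcl⟩ := hD.2.1
  have hclass : ∀ u ∈ D, ∀ v ∈ D, ∃ g : G, g * u * g⁻¹ = v := by
    intro u hu v hv
    rw [hcl] at hu hv
    exact isConj_iff.mp ((show IsConj d₀ u from hu).symm.trans (show IsConj d₀ v from hv))
  have hZ : ∀ z ∈ Subgroup.center G, z ∈ commutator G → z = 1 := by
    intro z hz hzc
    have hn : ((Subgroup.center G).subgroupOf (commutator G)).Normal := inferInstance
    rcases IsSimpleGroup.eq_bot_or_eq_top_of_normal _ hn with h | h
    · have : (⟨z, hzc⟩ : commutator G) ∈ (Subgroup.center G).subgroupOf (commutator G) := hz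
      rw [h, Subgroup.mem_bot] at this
      exact congrArg Subtype.val this
    · obtain ⟨x, y, hxy⟩ := hnonab
      have hx : x ∈ (Subgroup.center G).subgroupOf (commutator G) := h ▸ Subgroup.mem_top x
      exact absurd (Subtype.ext ((Subgroup.mem_center_iff.mp hx) (y : G)).symm) hxy
  have hsolG' : ¬Group.IsSolvable (commutator G) := fun h => by
    obtain ⟨x, y, hxy⟩ := hnonab
    exact hxy (IsSimpleGroup.comm_iff_isSolvable.mpr h x y)
  -- some member different from `a` commutes with `a`
  have h1 : ∃ b ∈ D, b ≠ a ∧ Commute a b := by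
    by_contra hno
    push Not at hno
    have hpair : ∀ u ∈ D, ∀ v ∈ D, u ≠ v → ¬Commute u v := by
      intro u hu v hv hne hc
      obtain ⟨g, hg⟩ := hclass u hu a ha
      refine hno (g * v * g⁻¹) (hT.conj g v hv) (fun e => hne ?_) ?_
      · rw [← hg] at e; simpa using e.symm
      · rw [← hg]; exact (Commute.conj_iff g).mpr hc
    have := (hT.mono_w1 subset_rfl hpair fun u hu v hv => hT.cj_mem hu hv).isSolvable_of_gen hD.2.2
    exact hsolG' inferInstance
  have h2 : ∃ c ∈ D, ¬Commute a c := by
    by_contra hno
    push Not at hno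
    have hca : ∀ g : G, Commute g a := by
      intro g
      refine Subgroup.closure_induction (p := fun z _ => Commute z a)
        (fun z hz => (hno z hz).symm) (Commute.one_left a)
        (fun _ _ _ _ e1 e2 => e1.mul_left e2) (fun _ _ e1 => e1.inv_left)
        (hD.2.2 ▸ Subgroup.mem_top g : g ∈ Subgroup.closure D)
    obtain ⟨b, hb, hba, -⟩ := h1
    obtain ⟨g, hg⟩ := hclass a ha b hb
    rw [(hca g).eq, mul_inv_cancel_right] at hg
    exact hba hg.symm
  -- pass to the quotient by the centre
  set π := QuotientGroup.mk' (Subgroup.center G) with hπ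
  have hinj : ∀ u ∈ D, ∀ v ∈ D, π u = π v → u = v := by
    intro u hu v hv huv
    have huz : u⁻¹ * v ∈ Subgroup.center G := QuotientGroup.eq.mp huv
    obtain ⟨g, rfl⟩ := hclass u hu v hv
    have : u⁻¹ * (g * u * g⁻¹) = 1 := by
      refine hZ _ huz ?_
      have e : u⁻¹ * (g * u * g⁻¹) = ⁅u⁻¹, g⁆ := by rw [commutatorElement_def]; group
      rw [e]
      exact Subgroup.commutator_mem_commutator (Subgroup.mem_top _) (Subgroup.mem_top _)
    exact eq_of_inv_mul_eq_one this
  have hcomm : ∀ u v : G, Commute (π u) (π v) → Commute u v := by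
    intro u v huv
    refine commutatorElement_eq_one_iff_commute.mp (hZ _ ?_ ?_)
    · rw [← QuotientGroup.eq_one_iff, ← QuotientGroup.mk'_apply, map_commutatorElement]
      exact commutatorElement_eq_one_iff_commute.mpr huv
    · exact Subgroup.commutator_mem_commutator (Subgroup.mem_top _) (Subgroup.mem_top _)
  have hF : FischerHyp (π '' D) := by
    refine ⟨⟨?_, ?_, ?_, ?_⟩, ?_, ?_, ?_, ?_⟩
    · rintro _ ⟨u, hu, rfl⟩
      rw [← map_mul, hT.sq u hu, map_one]
    · rintro _ ⟨u, hu, rfl⟩ h
      obtain ⟨g, hg⟩ := hclass u hu a ha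
      obtain ⟨c, hc, hac⟩ := h2
      apply hac
      have : π a = 1 := by rw [← hg, map_mul, map_mul, h, map_inv]; group
      have haz : a ∈ Subgroup.center G := (QuotientGroup.eq_one_iff a).mp this
      exact ((Subgroup.mem_center_iff.mp haz) c).symm
    · rintro _ ⟨u, hu, rfl⟩ _ ⟨v, hv, rfl⟩
      rcases hT.cond u hu v hv with h | h
      · exact Or.inl (h.map π)
      · exact Or.inr (by rw [← map_mul, ← map_mul, h, map_mul, map_mul])
    · intro g d hd
      obtain ⟨u, hu, rfl⟩ := hd
      obtain ⟨k, rfl⟩ := QuotientGroup.mk'_surjective _ g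
      exact ⟨k * u * k⁻¹, hT.conj k u hu, by simp [hπ]⟩
    · rw [← MonoidHom.map_closure, hD.2.2]
      exact Subgroup.map_top_of_surjective _ (QuotientGroup.mk'_surjective _)
    · intro N hN hNs
      haveI := hN
      rw [Subgroup.eq_bot_iff_forall]
      intro n hn
      obtain ⟨m, rfl⟩ := QuotientGroup.mk'_surjective _ n
      have hMsol : Group.IsSolvable (N.comap π) := by
        haveI := hNs
        let f : N.comap π →* N := (π.comp (N.comap π).subtype).codRestrict N fun x => x.2
        haveI : Group.IsSolvable (Subgroup.center G) :=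
          Group.isSolvable_of_comm fun u v => Subtype.ext (Subgroup.mem_center_iff.mp v.2 u)
        refine Group.isSolvable_of_ker_le_range
          (Subgroup.inclusion (show Subgroup.center G ≤ N.comap π from fun z hz => by
            rw [Subgroup.mem_comap]
            have e : π z = 1 := (QuotientGroup.eq_one_iff z).mpr hz
            rw [e]
            exact N.one_mem)) f ?_
        intro x hx
        have : π (x : G) = 1 := congrArg Subtype.val hx
        exact ⟨⟨x, (QuotientGroup.eq_one_iff _).mp this⟩, rfl⟩
      have hbot : (N.comap π).subgroupOf (commutator G) = ⊥ := by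
        rcases IsSimpleGroup.eq_bot_or_eq_top_of_normal _ (inferInstance :
          ((N.comap π).subgroupOf (commutator G)).Normal) with h | h
        · exact h
        · exact absurd (isSolvable_mono (fun x hx => by
            have : (⟨x, hx⟩ : commutator G) ∈ (N.comap π).subgroupOf (commutator G) :=
              h ▸ Subgroup.mem_top _
            exact this) hMsol) hsolG'
      have : m ∈ Subgroup.center G := by
        rw [Subgroup.mem_center_iff]
        intro g
        have hm : m ∈ N.comap π := hn
        have hc : ⁅m, g⁆ ∈ N.comap π := by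
          rw [commutatorElement_def, mul_assoc, mul_assoc]
          refine Subgroup.mul_mem _ hm ?_
          have := (inferInstance : (N.comap π).Normal).conj_mem _ (Subgroup.inv_mem _ hm) g
          simpa [mul_assoc] using this
        have hc' : ⁅m, g⁆ ∈ commutator G :=
          Subgroup.commutator_mem_commutator (Subgroup.mem_top _) (Subgroup.mem_top _)
        have : (⟨⁅m, g⁆, hc'⟩ : commutator G) ∈ (N.comap π).subgroupOf (commutator G) := hc
        rw [hbot, Subgroup.mem_bot] at this
        exact (commutatorElement_eq_one_iff_mul_comm.mp (congrArg Subtype.val this)).symm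
      exact (QuotientGroup.eq_one_iff m).mpr this
    · have hG'' : ⁅commutator G, commutator G⁆ = commutator G := by
        rcases IsSimpleGroup.eq_bot_or_eq_top_of_normal _ (inferInstance :
          (commutator (commutator G)).Normal) with h | h
        · obtain ⟨x, y, hxy⟩ := hnonab
          refine absurd ?_ hxy
          have : ⁅x, y⁆ ∈ commutator (commutator G) :=
            Subgroup.commutator_mem_commutator (Subgroup.mem_top _) (Subgroup.mem_top _)
          rw [h, Subgroup.mem_bot] at this
          exact commutatorElement_eq_one_iff_mul_comm.mp this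
        · have := congrArg (Subgroup.map (commutator G).subtype) h
          rw [Subgroup.map_subtype_commutator, ← MonoidHom.range_eq_map,
            Subgroup.range_subtype] at this
          exact this
      have hπc : (commutator G).map π = commutator (G ⧸ Subgroup.center G) := by
        rw [commutator_def, commutator_def, Subgroup.map_commutator,
          Subgroup.map_top_of_surjective _ (QuotientGroup.mk'_surjective _)]
      rw [← hπc, ← Subgroup.map_commutator, hG'']
    · rintro _ ⟨u, hu, rfl⟩ _ ⟨v, hv, rfl⟩
      obtain ⟨g, rfl⟩ := hclass u hu v hv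
      exact ⟨π g, by simp⟩
  refine ⟨h1, h2, ?_, ?_⟩
  · intro b hb b' hb' hba hb'a hab hab'
    obtain ⟨g, hg, hgb⟩ := hF.exists_conj_link ⟨a, ha, rfl⟩
      (y := π b) (y' := π b')
      ⟨⟨b, hb, rfl⟩, fun e => hba (hinj b hb a ha e), hab.map π⟩
      ⟨⟨b', hb', rfl⟩, fun e => hb'a (hinj b' hb' a ha e), hab'.map π⟩
    obtain ⟨g, rfl⟩ := QuotientGroup.mk'_surjective _ g
    refine ⟨g, hcomm g a ?_, hinj _ (hT.conj g b hb) b' hb' (by rw [map_mul, map_mul, map_inv]; exact hgb)⟩
    exact Subgroup.closure_induction (p := fun z _ => Commute z (π a))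
      (fun z hz => hz.2.2.symm) (Commute.one_left _) (fun _ _ _ _ e1 e2 => e1.mul_left e2)
      (fun _ _ e1 => e1.inv_left) hg
  · intro c hc c' hc' hac hac'
    obtain ⟨g, hg, hgc⟩ := hF.exists_conj_noncomm ⟨a, ha, rfl⟩ ⟨c, hc, rfl⟩ ⟨c', hc', rfl⟩
      (fun e => hac (hcomm a c e)) (fun e => hac' (hcomm a c' e))
    obtain ⟨g, rfl⟩ := QuotientGroup.mk'_surjective _ g
    exact ⟨g, hcomm g a hg, hinj _ (hT.conj g c hc) c' hc' (by rw [map_mul, map_mul, map_inv]; exact hgc)⟩

end Cfsg.Agent.S0441
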