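import Cfsg.Statements.S0442
import Cfsg.Agent.Lib.Invol.Dihedral

set_option autoImplicit false
open Cfsg

namespace Cfsg.Agent.S0442

/-- A standard trick for producing elements of an involution centraliser: for an involution a and an element g, let b be the conjugate g⁻¹ * a * g. If a * b has odd order 2m + 1 then g * (a * b) ^ m commutes with a; if a * b has even order 2m then (a * b) ^ m and (a * (g * a * g⁻¹)) ^ m commute with a. -/
theorem result {G : Type*} [Group G] (a g : G) (ha : orderOf a = 2) : (∀ m : ℕ, orderOf (a * (g⁻¹ * a * g)) = 2 * m + 1 → Commute (g * (a * (g⁻¹ * a * g)) ^ m) a) ∧ (∀ m : ℕ, orderOf (a * (g⁻¹ * a * g)) = 2 * m → Commute ((a * (g⁻¹ * a * g)) ^ m) a ∧ Commute ((a * (g * a * g⁻¹)) ^ m) a) := by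
  have aa : a * a = 1 := CfsgLib.Invol.mul_self_of_orderOf_two ha
  have hb : orderOf (g⁻¹ * a * g) = 2 := by
    simpa [ha] using CfsgLib.Invol.orderOf_conj_eq g⁻¹ a
  have hb' : orderOf (g * a * g⁻¹) = 2 := by rw [CfsgLib.Invol.orderOf_conj_eq, ha]
  have comm : ∀ (c : G), orderOf c = 2 → ∀ m : ℕ, orderOf (a * c) = 2 * m →
      Commute ((a * c) ^ m) a := by
    intro c hc m hm
    have h := CfsgLib.Invol.mul_zpow_comm ha hc (m : ℤ)
    have h1 : ((a * c) ^ m)⁻¹ = (a * c) ^ m := inv_eq_of_mul_eq_one_right (by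
      rw [← pow_add, ← two_mul, ← hm, pow_orderOf_eq_one])
    rw [zpow_neg, zpow_natCast, h1] at h
    exact h
  refine ⟨fun m hm => ?_, fun m hm => ⟨comm _ hb m hm, comm _ hb' m ?_⟩⟩
  · set r := a * (g⁻¹ * a * g) with hr
    have h := CfsgLib.Invol.mul_zpow_comm ha hb (m : ℤ)
    rw [← hr, zpow_natCast, zpow_neg, zpow_natCast] at h
    have h1 : (r ^ m)⁻¹ = r ^ (m + 1) := inv_eq_of_mul_eq_one_right (by
      rw [← pow_add, show m + (m + 1) = orderOf r by omega, pow_orderOf_eq_one])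
    show g * r ^ m * a = a * (g * r ^ m)
    calc g * r ^ m * a = g * (a * (r * r ^ m)) := by rw [mul_assoc, h, h1, pow_succ']
      _ = g * (a * (a * (g⁻¹ * a * g) * r ^ m)) := by rw [← hr]
      _ = g * (a * a) * g⁻¹ * a * g * r ^ m := by simp only [mul_assoc]
      _ = a * (g * r ^ m) := by rw [aa, mul_one, mul_inv_cancel, one_mul, mul_assoc]
  · rw [← hm]
    have e : g⁻¹ * (a * (g * a * g⁻¹)) * g⁻¹⁻¹ = (a * (g⁻¹ * a * g))⁻¹ := by
      rw [mul_inv_rev, mul_inv_rev, mul_inv_rev, CfsgLib.Invol.inv_eq_of_orderOf_two ha]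
      group
    rw [← CfsgLib.Invol.orderOf_conj_eq g⁻¹, e, orderOf_inv]

end Cfsg.Agent.S0442
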