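import Cfsg.Statements.S0443


set_option autoImplicit false
open Cfsg

namespace Cfsg.Agent.S0443

/-- Two definitions of a 2-central involution agree: an element t of order 2 of a finite group lies in the centre of some Sylow 2-subgroup if and only if its centraliser contains some Sylow 2-subgroup. -/
theorem result {G : Type*} [Group G] [Finite G] (t : G) (ht : orderOf t = 2) : Cfsg.IsTwoCentralInvolution t ↔ ∃ P : Sylow 2 G, (P : Subgroup G) ≤ Subgroup.centralizer ({t} : Set G) := by
  constructor
  · rintro ⟨-, P, -, hP⟩
    exact ⟨P, fun x hx => Subgroup.mem_centralizer_singleton_iff.2 (hP x hx)⟩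
  · rintro ⟨P, hP⟩
    have hcomm : ∀ x ∈ P, x * t = t * x := fun x hx =>
      Subgroup.mem_centralizer_singleton_iff.1 (hP hx)
    refine ⟨ht, P, ?_, hcomm⟩
    have hz : IsPGroup 2 (Subgroup.zpowers t) := IsPGroup.of_card (n := 1) (by rw [Nat.card_zpowers, ht, pow_one])
    have hsup : IsPGroup 2 ↥(Subgroup.zpowers t ⊔ (P : Subgroup G)) := by
      refine IsPGroup.to_sup_of_normal_right' hz P.isPGroup' ?_
      rw [Subgroup.zpowers_le]
      refine Subgroup.mem_normalizer_iff.2 fun x => ?_
      constructor
      · intro hx
        rwa [← hcomm x hx, mul_inv_cancel_right]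
      · intro hx
        have h := hcomm _ hx
        have : t * x * t⁻¹ = x := by
          have h' : t * x = t * (t * x * t⁻¹) := by rw [← h]; group
          exact (mul_left_cancel h').symm
        rwa [this] at hx
    have := P.is_maximal' hsup le_sup_right
    exact this.le (Subgroup.mem_sup_left (Subgroup.mem_zpowers t))

end Cfsg.Agent.S0443
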