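import Cfsg.Statements.S0444
import Cfsg.Agent.Lib.Golay.ThreeTransBasic

set_option autoImplicit false
open Cfsg

namespace Cfsg.Agent.S0444

theorem neg_val_modEq : ∀ i : ZMod 3, -(i.val : ℤ) ≡ ((-i).val : ℤ) [ZMOD (3 : ℕ)] := by decide

/-- The action of the dihedral group of order 6 on three points. -/
def toPermFun : DihedralGroup 3 → Equiv.Perm (Fin 3)
  | DihedralGroup.r i => Equiv.addRight (show Fin 3 from i)
  | DihedralGroup.sr i => Equiv.subLeft (show Fin 3 from -i)

theorem toPermFun_mul : ∀ x y : DihedralGroup 3, toPermFun (x * y) = toPermFun x * toPermFun y := by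
  decide +kernel

/-- The action as a homomorphism. -/
def toPermHom : DihedralGroup 3 →* Equiv.Perm (Fin 3) := MonoidHom.mk' toPermFun toPermFun_mul

theorem toPermHom_injective : Function.Injective toPermHom := by
  show Function.Injective toPermFun
  decide +kernel

/-- Two members of a set of 3-transpositions which do not commute generate a subgroup isomorphic to the symmetric group on three letters. -/
theorem result {G : Type*} [Group G] {E : Set G} (hE : Cfsg.IsThreeTranspositionSet E) {d e : G} (hd : d ∈ E) (he : e ∈ E) (h : ¬ Commute d e) : Nonempty (Subgroup.closure ({d, e} : Set G) ≃* Equiv.Perm (Fin 3)) := by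
  have hdo := hE.1 d hd
  have heo := hE.1 e he
  have dd : d * d = 1 := CfsgLib.Golay.tt_sq hE hd
  set r := d * e with hrdef
  have hr3 : r ^ 3 = 1 := CfsgLib.Golay.tt_cube hE hd he h
  have hr1 : r ≠ 1 := fun h0 => h (by
    have : e = d := by
      have := eq_inv_of_mul_eq_one_right h0
      rwa [CfsgLib.Golay.tt_inv hE hd] at this
    rw [this])
  haveI : Fact (Nat.Prime 3) := ⟨Nat.prime_three⟩
  have hor : orderOf r = 3 := orderOf_eq_prime hr3 hr1
  have rd : ∀ i : ℤ, r ^ i * d = d * r ^ (-i) := fun i => CfsgLib.Invol.mul_zpow_comm hdo heo i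
  let v : ZMod 3 → G := fun i => r ^ (i.val : ℤ)
  have vadd : ∀ i j : ZMod 3, v i * v j = v (i + j) := by
    intro i j
    simp only [v, ← zpow_add]
    rw [zpow_eq_zpow_iff_modEq, hor, ZMod.val_add, Int.natCast_mod, Nat.cast_add]
    exact (Int.mod_modEq _ _).symm
  have vneg : ∀ i : ZMod 3, r ^ (-(i.val : ℤ)) = v (-i) := by
    intro i
    simp only [v]
    rw [zpow_eq_zpow_iff_modEq, hor]
    exact neg_val_modEq i
  have vd : ∀ i, v i * d = d * v (-i) := fun i => by rw [← vneg]; exact rd _
  let f : DihedralGroup 3 → G := fun x => match x with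
    | DihedralGroup.r i => v i
    | DihedralGroup.sr i => d * v i
  let φ : DihedralGroup 3 →* G := MonoidHom.mk' f (by
    rintro (i | i) (j | j)
    · show f (DihedralGroup.r (i + j)) = _
      exact (vadd i j).symm
    · show d * v (j - i) = v i * (d * v j)
      rw [← mul_assoc, vd, mul_assoc, vadd, neg_add_eq_sub]
    · show d * v (i + j) = d * v i * v j
      rw [mul_assoc, vadd]
    · show v (j - i) = d * v i * (d * v j)
      rw [mul_assoc, ← mul_assoc (v i), vd, mul_assoc, vadd, ← mul_assoc, dd, one_mul,
        neg_add_eq_sub])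
  have hinj : Function.Injective φ := by
    rw [injective_iff_map_eq_one]
    rintro (i | i) hi
    · have hi' : r ^ (i.val : ℤ) = 1 := hi
      rw [zpow_natCast, ← orderOf_dvd_iff_pow_eq_one, hor] at hi'
      have : i.val = 0 := Nat.eq_zero_of_dvd_of_lt hi' (ZMod.val_lt i)
      rw [(ZMod.val_eq_zero i).1 this]
      exact DihedralGroup.one_def.symm
    · exfalso
      have hi' : d * v i = 1 := hi
      have hvd : v i = d := by
        have := eq_inv_of_mul_eq_one_right hi'
        rwa [CfsgLib.Golay.tt_inv hE hd] at this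
      have : orderOf d ∣ 3 := orderOf_dvd_of_pow_eq_one (by
        rw [← hvd]; simp only [v]
        rw [zpow_natCast, ← pow_mul, mul_comm, pow_mul, hr3, one_pow])
      rw [hdo] at this
      omega
  have hrange : φ.range = Subgroup.closure ({d, e} : Set G) := by
    ext x
    rw [CfsgLib.Invol.mem_closure_pair_invol hdo heo, MonoidHom.mem_range]
    constructor
    · rintro ⟨y, rfl⟩
      cases y with
      | r i => exact ⟨i.val, Or.inl rfl⟩
      | sr i => exact ⟨i.val, Or.inr rfl⟩
    · rintro ⟨k, hk⟩
      have hk' : r ^ k = v (k : ZMod 3) := by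
        simp only [v]
        rw [zpow_eq_zpow_iff_modEq, hor, ← ZMod.intCast_eq_intCast_iff]
        simp
      rcases hk with rfl | rfl
      · exact ⟨DihedralGroup.r (k : ZMod 3), hk'.symm⟩
      · exact ⟨DihedralGroup.sr (k : ZMod 3), congrArg (d * ·) hk'.symm⟩
  have hcard : Nat.card (DihedralGroup 3) = Nat.card (Equiv.Perm (Fin 3)) := by
    rw [DihedralGroup.nat_card, Nat.card_eq_fintype_card, Fintype.card_perm, Fintype.card_fin]
    rfl
  exact ⟨((MulEquiv.subgroupCongr hrange.symm).trans (MonoidHom.ofInjective hinj).symm).trans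
    (MulEquiv.ofBijective toPermHom ((Nat.bijective_iff_injective_and_card _).2
      ⟨toPermHom_injective, hcard⟩))⟩

end Cfsg.Agent.S0444
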