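import Cfsg.Statements.S0447
import Cfsg.Agent.Lib.SporMisc.DoubleCoverAlt.Split
import Cfsg.Agent.Lib.SporMisc.DoubleCoverAlt.Cover8

set_option autoImplicit false
open Cfsg

namespace Cfsg.Agent.S0447

open CfsgLib.SporMisc.DoubleCoverAlt Equiv

/-- Witness in degree four. -/
def w4 : DihedralWitness 4 where
  u := ⟨swap 0 1 * swap 2 3, Perm.mem_alternatingGroup.2 (by decide +kernel)⟩
  v := ⟨swap 0 2 * swap 1 3, Perm.mem_alternatingGroup.2 (by decide +kernel)⟩
  τ := swap 0 1
  m := 2
  hu := orderOf_eq_prime (by decide +kernel) (by decide +kernel)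
  hv := orderOf_eq_prime (by decide +kernel) (by decide +kernel)
  hm := orderOf_eq_prime (by decide +kernel) (by decide +kernel)
  hm4 := Or.inl rfl
  hne := by rw [mem_zpowers_iff_mem_range_orderOf, orderOf_eq_prime (p := 2) (by decide +kernel) (by decide +kernel)]; decide +kernel
  hτ := Perm.sign_swap (by decide)
  hτu := by decide +kernel
  odd_part := ⟨3, by decide, by rw [nat_card_alternatingGroup]; simp [Nat.factorial]⟩

/-- Witness in degree five. -/
def w5 : DihedralWitness 5 where
  u := ⟨swap 0 1 * swap 2 3, Perm.mem_alternatingGroup.2 (by decide +kernel)⟩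
  v := ⟨swap 0 2 * swap 1 3, Perm.mem_alternatingGroup.2 (by decide +kernel)⟩
  τ := swap 0 1
  m := 2
  hu := orderOf_eq_prime (by decide +kernel) (by decide +kernel)
  hv := orderOf_eq_prime (by decide +kernel) (by decide +kernel)
  hm := orderOf_eq_prime (by decide +kernel) (by decide +kernel)
  hm4 := Or.inl rfl
  hne := by rw [mem_zpowers_iff_mem_range_orderOf, orderOf_eq_prime (p := 2) (by decide +kernel) (by decide +kernel)]; decide +kernel
  hτ := Perm.sign_swap (by decide)
  hτu := by decide +kernel
  odd_part := ⟨15, by decide, by rw [nat_card_alternatingGroup]; simp [Nat.factorial]⟩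

/-- Witness in degree six. -/
def w6 : DihedralWitness 6 where
  u := ⟨swap 0 1 * swap 2 3, Perm.mem_alternatingGroup.2 (by decide +kernel)⟩
  v := ⟨swap 0 2 * swap 4 5, Perm.mem_alternatingGroup.2 (by decide +kernel)⟩
  τ := swap 0 1
  m := 4
  hu := orderOf_eq_prime (by decide +kernel) (by decide +kernel)
  hv := orderOf_eq_prime (by decide +kernel) (by decide +kernel)
  hm := orderOf_eq_prime_pow (p := 2) (n := 1) (by decide +kernel) (by decide +kernel)
  hm4 := Or.inr rfl
  hne := by
    rw [mem_zpowers_iff_mem_range_orderOf,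
      orderOf_eq_prime_pow (p := 2) (n := 1) (by decide +kernel) (by decide +kernel)]
    decide +kernel
  hτ := Perm.sign_swap (by decide)
  hτu := by decide +kernel
  odd_part := ⟨45, by decide, by rw [nat_card_alternatingGroup]; simp [Nat.factorial]⟩

/-- Witness in degree seven. -/
def w7 : DihedralWitness 7 where
  u := ⟨swap 0 1 * swap 2 3, Perm.mem_alternatingGroup.2 (by decide +kernel)⟩
  v := ⟨swap 0 2 * swap 4 5, Perm.mem_alternatingGroup.2 (by decide +kernel)⟩
  τ := swap 0 1
  m := 4
  hu := orderOf_eq_prime (by decide +kernel) (by decide +kernel)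
  hv := orderOf_eq_prime (by decide +kernel) (by decide +kernel)
  hm := orderOf_eq_prime_pow (p := 2) (n := 1) (by decide +kernel) (by decide +kernel)
  hm4 := Or.inr rfl
  hne := by
    rw [mem_zpowers_iff_mem_range_orderOf,
      orderOf_eq_prime_pow (p := 2) (n := 1) (by decide +kernel) (by decide +kernel)]
    decide +kernel
  hτ := Perm.sign_swap (by decide)
  hτu := by decide +kernel
  odd_part := ⟨315, by decide, by rw [nat_card_alternatingGroup]; simp [Nat.factorial]⟩

lemma unique_involution {n : ℕ} (hn : n ≤ 7) {H : Type} [Group H] [Finite H]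
    (hH : Cfsg.IsNonsplitDoubleCover H (alternatingGroup (Fin n))) :
    ∃ z : H, ∀ x : H, orderOf x = 2 → x = z := by
  obtain ⟨hc, ⟨φ⟩, hns⟩ := hH
  set f : H →* alternatingGroup (Fin n) :=
    φ.toMonoidHom.comp (QuotientGroup.mk' (Subgroup.center H)) with hfdef
  have hf : Function.Surjective f := φ.surjective.comp (QuotientGroup.mk'_surjective _)
  have hfker : f.ker = Subgroup.center H := by
    ext a; simp [hfdef]
  obtain ⟨z, hzne, huniv⟩ := (Nat.card_eq_two_iff' (1 : Subgroup.center H)).1 hc
  have hker : ∀ h, f h = 1 → h = 1 ∨ h = z := by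
    intro h hh
    have hm : h ∈ Subgroup.center H := hfker ▸ hh
    by_cases h1 : (⟨h, hm⟩ : Subgroup.center H) = 1
    · exact Or.inl (congrArg Subtype.val h1)
    · exact Or.inr (congrArg Subtype.val (huniv _ h1))
  have hz : f z = 1 := by
    have : (z : H) ∈ f.ker := hfker.symm ▸ z.2
    exact this
  have hz1 : (z : H) ≠ 1 := fun h => hzne (Subtype.ext h)
  have hz2 : (z : H) * z = 1 := by
    have := congrArg Subtype.val (pow_card_eq_one' (x := z))
    rwa [hc, pow_two] at this
  refine ⟨z, fun x hx => ?_⟩
  by_contra hxz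
  have hcen : ∀ h, h * (z : H) = z * h := fun h => Subgroup.mem_center_iff.1 z.2 h
  rcases Nat.lt_or_ge n 4 with hsmall | hbig
  · -- the quotient has odd order, so it has no involution
    have hfx : orderOf (f x) = 2 := by
      apply orderOf_eq_prime
      · rw [← map_pow, ← hx, pow_orderOf_eq_one, map_one]
      · intro h
        rcases hker x h with h' | h'
        · rw [h', orderOf_one] at hx; omega
        · exact hxz h'
    have hd := hfx ▸ orderOf_dvd_natCard (f x)
    rcases Nat.lt_or_ge n 2 with h2 | h2
    · have : Subsingleton (Fin n) := Fin.subsingleton_iff_le_one.2 (by omega)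
      have h1 : Nat.card (alternatingGroup (Fin n)) = 1 := by
        rw [Nat.card_eq_one_iff_unique]
        exact ⟨⟨fun a b => Subtype.ext (Equiv.ext fun i => Subsingleton.elim _ _)⟩, ⟨1⟩⟩
      rw [h1] at hd; omega
    · have : Nontrivial (Fin n) := Fin.nontrivial_iff_two_le.2 h2
      rw [nat_card_alternatingGroup] at hd
      interval_cases n <;> simp [Nat.factorial] at hd
  · obtain ⟨K, hK⟩ : ∃ K : Subgroup H, f.ker.IsComplement' K := by
      interval_cases n
      · exact complement_of_witness hn w4 f hf z hz hker hz2 hz1 hcen x hx hxz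
      · exact complement_of_witness hn w5 f hf z hz hker hz2 hz1 hcen x hx hxz
      · exact complement_of_witness hn w6 f hf z hz hker hz2 hz1 hcen x hx hxz
      · exact complement_of_witness hn w7 f hf z hz hker hz2 hz1 hcen x hx hxz
    exact hns K (hfker ▸ hK)

/-- Involutions in double covers of alternating groups: for n ≤ 7, a finite non-split double cover of the alternating group of degree n has exactly one element of order 2 (the central one); for degree 8 there is a non-split double cover with two distinct involutions. -/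
theorem result : (∀ (n : ℕ) (H : Type) (_ : Group H) (_ : Finite H), n ≤ 7 → Cfsg.IsNonsplitDoubleCover H (alternatingGroup (Fin n)) → ∀ x y : H, orderOf x = 2 → orderOf y = 2 → x = y) ∧ ∃ (H : Type) (_ : Group H) (_ : Finite H), Cfsg.IsNonsplitDoubleCover H (alternatingGroup (Fin 8)) ∧ ∃ x y : H, x ≠ y ∧ orderOf x = 2 ∧ orderOf y = 2 := by
  refine ⟨fun n H iG iF hn hH x y hx hy => ?_, cover, inferInstance, inferInstance,
    isNonsplit_cover, two_involutions⟩
  obtain ⟨z, hz⟩ := @unique_involution n hn H iG iF hH
  rw [hz x hx, hz y hy]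

end Cfsg.Agent.S0447
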