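import Cfsg.Statements.S0451
import Cfsg.Agent.Lib.HeType.Side.Statements

set_option autoImplicit false
open Cfsg

namespace Cfsg.Agent.S0451

/-- With s a transvection of SL(5, 2): two finite simple groups of equal order, each possessing an involution whose centraliser is isomorphic to the centraliser of s, are isomorphic. -/
theorem result {G H : Type*} [Group G] [Finite G] [IsSimpleGroup G] [Group H] [Finite H] [IsSimpleGroup H] (s : Matrix.SpecialLinearGroup (Fin 5) (ZMod 2)) (hs : (s : Matrix (Fin 5) (Fin 5) (ZMod 2)) = Matrix.transvection 0 1 1) (j : G) (k : H) (hj : orderOf j = 2) (hk : orderOf k = 2) (e : Subgroup.centralizer ({j} : Set G) ≃* Subgroup.centralizer ({s} : Set (Matrix.SpecialLinearGroup (Fin 5) (ZMod 2)))) (f : Subgroup.centralizer ({k} : Set H) ≃* Subgroup.centralizer ({s} : Set (Matrix.SpecialLinearGroup (Fin 5) (ZMod 2)))) (hcard : Nat.card G = Nat.card H) : Nonempty (G ≃* H) := by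
  haveI := CfsgLib.He.card_he.1
  have a5 := CfsgLib.JankoFour.TwoTen.Klein.card_SL5
  have a24 := CfsgLib.Golay.card_M24
  have aHe := CfsgLib.He.card_he.2
  rcases CfsgLib.HeType.Side.trichotomy s hs hj e with ⟨⟨φ⟩⟩ | ⟨⟨φ⟩⟩ | ⟨⟨φ⟩⟩ <;>
    rcases CfsgLib.HeType.Side.trichotomy s hs hk f with ⟨⟨ψ⟩⟩ | ⟨⟨ψ⟩⟩ | ⟨⟨ψ⟩⟩ <;>
    first
    | exact ⟨φ.trans ψ.symm⟩
    | (exfalso
       rw [Nat.card_congr φ.toEquiv, Nat.card_congr ψ.toEquiv] at hcard
       first
       | (rw [a5, a24] at hcard; norm_num at hcard)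
       | (rw [a24, a5] at hcard; norm_num at hcard)
       | (rw [a5, aHe] at hcard; norm_num at hcard)
       | (rw [aHe, a5] at hcard; norm_num at hcard)
       | (rw [a24, aHe] at hcard; norm_num at hcard)
       | (rw [aHe, a24] at hcard; norm_num at hcard))

end Cfsg.Agent.S0451
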