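import Cfsg.Statements.S0462
import Cfsg.Agent.Lib.He.Sp
import Cfsg.Agent.Lib.He.Simple

set_option autoImplicit false
open Cfsg

namespace Cfsg.Agent.S0462

/-- The Held group exists as a transitive permutation group of degree 2058: simple of order 4030387200, with point stabiliser containing, with index 2, a copy of the 4-dimensional symplectic group over the field with four elements. -/
theorem result : ∃ H : Subgroup (Equiv.Perm (Fin 2058)), Cfsg.IsHe H ∧ MulAction.IsPretransitive H (Fin 2058) ∧ ∃ (F : Type) (_ : Field F) (_ : Fintype F), Fintype.card F = 4 ∧ ∃ N : Subgroup (MulAction.stabilizer H (0 : Fin 2058)), N.index = 2 ∧ Nonempty (N ≃* Matrix.symplecticGroup (Fin 2) F) := by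
  haveI : Fintype (GaloisField 2 2) := Fintype.ofFinite _
  have hF : Fintype.card (GaloisField 2 2) = 4 := by
    rw [Fintype.card_eq_nat_card, GaloisField.card 2 2 two_ne_zero]; norm_num
  let φ : Cfsg.Spor.He →* Equiv.Perm (Fin 2058) := CfsgLib.He.phi
  have hφ : Function.Injective φ := CfsgLib.He.phi_injective
  let e : Cfsg.Spor.He ≃* φ.range := MonoidHom.ofInjective hφ
  haveI := CfsgLib.He.simple
  haveI : IsSimpleGroup φ.range := e.symm.isSimpleGroup
  refine ⟨φ.range, ⟨inferInstance, ?_⟩, ⟨fun i j => ?_⟩, ?_⟩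
  · rw [← Nat.card_congr e.toEquiv]; exact CfsgLib.He.card_he.2
  · obtain ⟨m, hm⟩ := CfsgLib.He.stab_le.1 i j
    exact ⟨⟨φ m, m, rfl⟩, hm⟩
  · obtain ⟨-, h2, ⟨h3⟩⟩ := CfsgLib.He.subN_spec CfsgLib.He.fieldK hF
    have hst : ∀ m : Cfsg.Spor.He, m ∈ CfsgLib.He.subH ↔ φ m 0 = 0 := fun m => by
      rw [CfsgLib.He.subH_eq]
      exact ⟨fun h => h (0 : Fin 2058) (List.mem_singleton.2 rfl),
        fun h i hi => by
          have : i = (0 : Fin 2058) := Fin.ext (List.mem_singleton.1 hi)
          subst this; exact h⟩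
    let f : CfsgLib.He.subH →* MulAction.stabilizer φ.range (0 : Fin 2058) :=
      { toFun := fun m => ⟨e m.val, (hst m.val).1 m.2⟩
        map_one' := Subtype.ext (map_one e)
        map_mul' := fun a b => Subtype.ext (map_mul e a.val b.val) }
    have hf : Function.Bijective f := by
      refine ⟨fun a b h => Subtype.ext (e.injective (congrArg Subtype.val h)), fun s => ?_⟩
      obtain ⟨⟨_, m, rfl⟩, hm⟩ := s
      exact ⟨⟨m, (hst m).2 hm⟩, rfl⟩
    refine ⟨GaloisField 2 2, inferInstance, inferInstance, hF,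
      (CfsgLib.He.subN CfsgLib.He.fieldK).map f, ?_,
      ⟨(((CfsgLib.He.subN CfsgLib.He.fieldK).equivMapOfInjective f hf.1).symm).trans h3⟩⟩
    rw [Subgroup.index_map_of_bijective hf, h2]

end Cfsg.Agent.S0462
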