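import Cfsg.Statements.S0463
import Cfsg.Agent.Lib.HNAlt.Main

set_option autoImplicit false
open Cfsg

namespace Cfsg.Agent.S0463

/-- The Harada–Norton group exists as a transitive permutation group of degree 1140000: simple of order 273030912000000 with point stabiliser isomorphic to the alternating group of degree 12. -/
theorem result : ∃ H : Subgroup (Equiv.Perm (Fin 1140000)), Cfsg.IsHN H ∧ MulAction.IsPretransitive H (Fin 1140000) ∧ Nonempty (MulAction.stabilizer H (0 : Fin 1140000) ≃* alternatingGroup (Fin 12)) := by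
  obtain ⟨K, ⟨eK⟩⟩ := CfsgLib.HNAlt.exists_alt
  have hHN := CfsgLib.HNIndex.hn_isHN
  haveI := hHN.1
  haveI : Finite Cfsg.Spor.HN := Nat.finite_of_card_ne_zero (by rw [hHN.2]; norm_num)
  have hKcard : Nat.card ↥K = 239500800 := by
    rw [Nat.card_congr eK.toEquiv]
    have := two_mul_nat_card_alternatingGroup (α := Fin 12)
    rw [Nat.card_perm, Nat.card_eq_fintype_card (α := Fin 12), Fintype.card_fin,
      show Nat.factorial 12 = 479001600 from rfl] at this
    omega
  have hidx : Nat.card (Cfsg.Spor.HN ⧸ K) = 1140000 := by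
    have := K.index_mul_card
    rw [Subgroup.index_eq_card, hKcard, hHN.2] at this
    omega
  let e0 : (Cfsg.Spor.HN ⧸ K) ≃ Fin 1140000 := Finite.equivFinOfCardEq hidx
  let e : (Cfsg.Spor.HN ⧸ K) ≃ Fin 1140000 :=
    e0.trans (Equiv.swap (e0 ((1 : Cfsg.Spor.HN) : Cfsg.Spor.HN ⧸ K)) 0)
  have he : e ((1 : Cfsg.Spor.HN) : Cfsg.Spor.HN ⧸ K) = 0 := Equiv.swap_apply_left _ _
  let φ : Cfsg.Spor.HN →* Equiv.Perm (Fin 1140000) :=
    (Equiv.permCongrHom e).toMonoidHom.comp (MulAction.toPermHom Cfsg.Spor.HN (Cfsg.Spor.HN ⧸ K))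
  have hφ : ∀ (g : Cfsg.Spor.HN) (q : Cfsg.Spor.HN ⧸ K), φ g (e q) = e (g • q) := fun g q => by
    simp [φ, Equiv.permCongr_apply]
  have hinj : Function.Injective φ := by
    rw [← MonoidHom.ker_eq_bot_iff]
    refine (IsSimpleGroup.eq_bot_or_eq_top_of_normal _ (MonoidHom.normal_ker _)).resolve_right fun h => ?_
    have hall : ∀ g : Cfsg.Spor.HN, g ∈ K := fun g => by
      have hg := hφ g ((1 : Cfsg.Spor.HN) : Cfsg.Spor.HN ⧸ K)
      rw [MonoidHom.mem_ker.1 (h ▸ Subgroup.mem_top g), Equiv.Perm.one_apply] at hg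
      have := e.injective hg
      rw [MulAction.Quotient.smul_coe, QuotientGroup.eq, inv_one, one_mul, smul_eq_mul, mul_one] at this
      exact this
    have : K = ⊤ := eq_top_iff.2 fun g _ => hall g
    rw [this, Subgroup.card_top, hHN.2] at hKcard
    norm_num at hKcard
  let f : Cfsg.Spor.HN ≃* φ.range := MonoidHom.ofInjective hinj
  haveI : IsSimpleGroup φ.range := f.symm.isSimpleGroup
  refine ⟨φ.range, ⟨inferInstance, ?_⟩, ⟨fun i j => ?_⟩, ?_⟩
  · rw [← Nat.card_congr f.toEquiv]; exact hHN.2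
  · obtain ⟨g, hg⟩ := MulAction.exists_smul_eq Cfsg.Spor.HN (e.symm i) (e.symm j)
    refine ⟨⟨φ g, g, rfl⟩, ?_⟩
    show φ g i = j
    have := hφ g (e.symm i)
    rwa [Equiv.apply_symm_apply, hg, Equiv.apply_symm_apply] at this
  · have hst : ∀ m : Cfsg.Spor.HN, m ∈ K ↔ φ m 0 = 0 := fun m => by
      rw [← he, hφ, e.apply_eq_iff_eq, MulAction.Quotient.smul_coe, QuotientGroup.eq, smul_eq_mul, mul_one,
        mul_one, inv_mem_iff]
    let s : ↥K →* MulAction.stabilizer φ.range (0 : Fin 1140000) :=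
      { toFun := fun m => ⟨f m.val, (hst m.val).1 m.2⟩
        map_one' := Subtype.ext (map_one f)
        map_mul' := fun a b => Subtype.ext (map_mul f a.val b.val) }
    have hs : Function.Bijective s := by
      refine ⟨fun a b h => Subtype.ext (f.injective (congrArg Subtype.val h)), fun u => ?_⟩
      obtain ⟨⟨_, m, rfl⟩, hm⟩ := u
      exact ⟨⟨m, (hst m).2 hm⟩, rfl⟩
    exact ⟨(MulEquiv.ofBijective s hs).symm.trans eK⟩

end Cfsg.Agent.S0463
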