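import Cfsg.Statements.S0473
import Cfsg.Agent.Lib.Fi24P.ThreeT.Class
import Cfsg.Agent.Lib.ThreeTransp.M24Held.Held
import Cfsg.Agent.Lib.Fi23P.ThreeT

set_option autoImplicit false
open Cfsg

namespace Cfsg.Agent.S0473

/-- The largest Fischer 3-transposition group: a group of order 2 · 1255205709190661721292800 generated by a conjugacy class of 306936 3-transpositions, in which a transposition centraliser has order 2 · 4089470473293004800 and contains a simple subgroup of order 4089470473293004800; its subgroup of index 2 is simple and contains simple subgroups of orders 4089470473293004800 and 4030387200. -/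
theorem result : ∃ (G : Type) (_ : Group G) (_ : Finite G), Nat.card G = 2 * 1255205709190661721292800 ∧ ∃ D : Set G, Cfsg.IsThreeTranspositionClass D ∧ Nat.card D = 306936 ∧ (∀ d ∈ D, Nat.card (Subgroup.centralizer ({d} : Set G)) = 2 * 4089470473293004800 ∧ ∃ K : Subgroup G, K ≤ Subgroup.centralizer ({d} : Set G) ∧ Cfsg.IsFi23 K) ∧ ∃ H : Subgroup G, H.index = 2 ∧ Cfsg.IsFi24' H ∧ (∃ K : Subgroup H, Cfsg.IsFi23 K) ∧ (∃ K : Subgroup H, Cfsg.IsHe K) := by
  haveI := CfsgLib.Fi24P.ThreeT.finite24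
  haveI := CfsgLib.Fi23P.simple
  refine ⟨Cfsg.Spor.Fi24, inferInstance, inferInstance, by rw [CfsgLib.Fi24P.card_big],
    CfsgLib.Fi24P.ThreeT.transp24, CfsgLib.Fi24P.ThreeT.transp24_class, ?_, fun d hd => ?_,
    CfsgLib.Fi24P.comG, CfsgLib.Fi24P.com_index, ⟨CfsgLib.Fi24P.com_simple, CfsgLib.Fi24P.card_com⟩, ?_, ?_⟩
  · rw [CfsgLib.Fi24P.ThreeT.transp24, CfsgLib.Fi23P.card_conjugates,
      CfsgLib.Fi24P.ThreeT.centralizer_eltL, CfsgLib.Fi24P.subgH_index]
  · obtain ⟨m, rfl⟩ := isConj_iff.1 hd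
    have e : Subgroup.centralizer ({m * CfsgLib.Fi24P.eltL * m⁻¹} : Set Cfsg.Spor.Fi24) =
        CfsgLib.Fi24P.subgH.map (MulAut.conj m).toMonoidHom := by
      ext z
      rw [Subgroup.mem_map_equiv, ← CfsgLib.Fi24P.ThreeT.centralizer_eltL,
        Subgroup.mem_centralizer_singleton_iff, Subgroup.mem_centralizer_singleton_iff,
        MulAut.conj_symm_apply]
      constructor
      · intro h
        calc m⁻¹ * z * m * CfsgLib.Fi24P.eltL = m⁻¹ * (z * (m * CfsgLib.Fi24P.eltL * m⁻¹)) * m := by group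
          _ = m⁻¹ * (m * CfsgLib.Fi24P.eltL * m⁻¹ * z) * m := by rw [h]
          _ = _ := by group
      · intro h
        calc z * (m * CfsgLib.Fi24P.eltL * m⁻¹) = m * (m⁻¹ * z * m * CfsgLib.Fi24P.eltL) * m⁻¹ := by group
          _ = m * (CfsgLib.Fi24P.eltL * (m⁻¹ * z * m)) * m⁻¹ := by rw [h]
          _ = _ := by group
    refine ⟨?_, (MonoidHom.range CfsgLib.Fi24P.psi).map (MulAut.conj m).toMonoidHom, ?_, ?_⟩
    · rw [e, Subgroup.card_map_of_injective (MulAut.conj m).injective, CfsgLib.Fi24P.subgH_card]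
    · rw [e]
      refine Subgroup.map_mono ?_
      rintro _ ⟨z, rfl⟩
      exact CfsgLib.Fi24P.psi_mem z
    · let f : Cfsg.Spor.Fi23 ≃* ↥((MonoidHom.range CfsgLib.Fi24P.psi).map (MulAut.conj m).toMonoidHom) :=
        (MonoidHom.ofInjective CfsgLib.Fi24P.psi_injective).trans ((MulAut.conj m).subgroupMap _)
      exact ⟨f.symm.isSimpleGroup, (Nat.card_congr f.toEquiv).symm.trans CfsgLib.Fi23P.card_fi.2⟩
  · have hinj : Function.Injective CfsgLib.Fi24P.psiCom := fun a b h =>
      CfsgLib.Fi24P.psi_injective (congrArg Subtype.val h)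
    let f := MonoidHom.ofInjective hinj
    exact ⟨_, f.symm.isSimpleGroup, (Nat.card_congr f.toEquiv).symm.trans CfsgLib.Fi23P.card_fi.2⟩
  · obtain ⟨K, -, hK⟩ := CfsgLib.Fi24P.Held.exists_he_com
    exact ⟨K, hK⟩

end Cfsg.Agent.S0473
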