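import Cfsg.Statements.S0475
import Cfsg.Agent.Lib.ThIndex.Simple
import Cfsg.Agent.Lib.ThInvol.Class
import Cfsg.Agent.Lib.ThOut.Shape

set_option autoImplicit false
open Cfsg

namespace Cfsg.Agent.S0475

/-- In some simple group of the Thompson group's order there is an involution whose centraliser C has a normal extraspecial subgroup Q of order 2 ^ 9 such that C / Q is isomorphic to the alternating group of degree 9. -/
theorem result : ∃ (G : Type) (_ : Group G) (_ : Finite G), Cfsg.IsTh G ∧ ∃ z : G, orderOf z = 2 ∧ ∃ (Q : Subgroup (Subgroup.centralizer ({z} : Set G))) (_ : Q.Normal), Nat.card Q = 2 ^ 9 ∧ Cfsg.IsExtraspecial 2 Q ∧ Nonempty ((Subgroup.centralizer ({z} : Set G)) ⧸ Q ≃* alternatingGroup (Fin 9)) := by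
  have hTh : Cfsg.IsTh Cfsg.Spor.Th := CfsgLib.ThIndex.th_isTh
  haveI : IsSimpleGroup Cfsg.Spor.Th := hTh.1
  haveI : Finite Cfsg.Spor.Th := Nat.finite_of_card_ne_zero (by rw [hTh.2]; norm_num)
  exact ⟨Cfsg.Spor.Th, inferInstance, inferInstance, hTh, CfsgLib.ThOut.el 0,
    CfsgLib.ThOut.orderOf_a, CfsgLib.ThOut.cent_shape (CfsgLib.ThInvol.card_cent_le hTh.2)⟩

end Cfsg.Agent.S0475
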