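import Cfsg.Statements.S0481


set_option autoImplicit false
open Cfsg

namespace Cfsg.Agent.S0481

/-- Large extraspecial subgroups: let z be an involution of a finite group G whose centraliser C contains a normal 2-subgroup Q with centre of order 2 and all squares central, such that every element of G centralising Q lies in Q. Then C contains a Sylow 2-subgroup of G, and any involution of G whose centraliser contains a Sylow 2-subgroup of G is conjugate to z. -/
theorem result {G : Type*} [Group G] [Finite G] (z : G) (hz : orderOf z = 2) (Q : Subgroup G) (hQC : Q ≤ Subgroup.centralizer ({z} : Set G)) (hQn : ∀ g ∈ Subgroup.centralizer ({z} : Set G), ∀ q ∈ Q, g * q * g⁻¹ ∈ Q) (hQ2 : IsPGroup 2 Q) (hZ : Nat.card (Subgroup.center Q) = 2) (hsq : ∀ x : Q, x ^ 2 ∈ Subgroup.center Q) (hlarge : Subgroup.centralizer (Q : Set G) ≤ Q) : (∃ P : Sylow 2 G, (P : Subgroup G) ≤ Subgroup.centralizer ({z} : Set G)) ∧ ∀ u : G, orderOf u = 2 → (∃ P : Sylow 2 G, (P : Subgroup G) ≤ Subgroup.centralizer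 ({u} : Set G)) → IsConj z u := by
  classical
  haveI : Fact (Nat.Prime 2) := ⟨Nat.prime_two⟩
  have hzC : z ∈ Subgroup.centralizer (Q : Set G) :=
    Subgroup.mem_centralizer_iff.2 fun q hq => Subgroup.mem_centralizer_singleton_iff.1 (hQC hq)
  have hz1 : z ≠ 1 := fun h => by rw [h, orderOf_one] at hz; omega
  have key : ∀ x : G, x ∈ Subgroup.centralizer (Q : Set G) → x = 1 ∨ x = z := by
    intro x hx
    have hxQ := hlarge hx
    have hzQ := hlarge hzC
    have hxc : (⟨x, hxQ⟩ : Q) ∈ Subgroup.center Q := Subgroup.mem_center_iff.2 fun q =>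
      Subtype.ext (Subgroup.mem_centralizer_iff.1 hx q q.2)
    have hzc : (⟨z, hzQ⟩ : Q) ∈ Subgroup.center Q := Subgroup.mem_center_iff.2 fun q =>
      Subtype.ext (Subgroup.mem_centralizer_iff.1 hzC q q.2)
    obtain ⟨u, w, huw, huniv⟩ := Nat.card_eq_two_iff.1 hZ
    have h1 : (1 : Subgroup.center Q) ∈ ({u, w} : Set _) := huniv ▸ Set.mem_univ _
    have h2 : (⟨_, hxc⟩ : Subgroup.center Q) ∈ ({u, w} : Set _) := huniv ▸ Set.mem_univ _
    have h3 : (⟨_, hzc⟩ : Subgroup.center Q) ∈ ({u, w} : Set _) := huniv ▸ Set.mem_univ _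
    have h13 : (⟨_, hzc⟩ : Subgroup.center Q) ≠ 1 := fun h =>
      hz1 (congrArg (fun t : Subgroup.center Q => ((t : Q) : G)) h)
    simp only [Set.mem_insert_iff, Set.mem_singleton_iff] at h1 h2 h3
    have h4 : (⟨_, hxc⟩ : Subgroup.center Q) = 1 ∨
        (⟨_, hxc⟩ : Subgroup.center Q) = ⟨_, hzc⟩ := by
      rcases h1 with h1 | h1 <;> rcases h2 with h2 | h2 <;> rcases h3 with h3 | h3 <;>
        first
          | exact Or.inl (h2.trans h1.symm)
          | exact Or.inr (h2.trans h3.symm)
          | exact absurd (h3.trans h1.symm) h13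
    exact h4.imp (congrArg fun t : Subgroup.center Q => ((t : Q) : G))
      (congrArg fun t : Subgroup.center Q => ((t : Q) : G))
  obtain ⟨P, hQP⟩ := hQ2.exists_le_sylow
  have hzP : (P : Subgroup G) ≤ Subgroup.centralizer ({z} : Set G) := by
    haveI : Nontrivial P := by
      refine ⟨⟨⟨z, hQP (hlarge hzC)⟩, 1, fun h => hz1 (congrArg Subtype.val h)⟩⟩
    haveI := P.isPGroup'.center_nontrivial
    obtain ⟨c, hc⟩ := exists_ne (1 : Subgroup.center P)
    have hcQ : ((c : P) : G) ∈ Subgroup.centralizer (Q : Set G) :=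
      Subgroup.mem_centralizer_iff.2 fun q hq =>
        congrArg Subtype.val (Subgroup.mem_center_iff.1 c.2 ⟨q, hQP hq⟩)
    rcases key _ hcQ with h | h
    · exact absurd (Subtype.ext (Subtype.ext h)) hc
    · intro x hx
      rw [Subgroup.mem_centralizer_singleton_iff, ← h]
      exact congrArg Subtype.val (Subgroup.mem_center_iff.1 c.2 ⟨x, hx⟩)
  refine ⟨⟨P, hzP⟩, fun u hu hex => ?_⟩
  obtain ⟨P', hP'⟩ := hex
  obtain ⟨g, hg⟩ := MulAction.exists_smul_eq G P' P
  have hcen : g * u * g⁻¹ ∈ Subgroup.centralizer (Q : Set G) := by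
    refine Subgroup.mem_centralizer_iff.2 fun q hq => ?_
    have hq' : g⁻¹ * q * g ∈ P' := by
      have h1 : q ∈ ((g • P' : Sylow 2 G) : Subgroup G) := by rw [hg]; exact hQP hq
      rw [Sylow.smul_def, Sylow.pointwise_smul_def] at h1
      have h2 := Subgroup.mem_pointwise_smul_iff_inv_smul_mem.1 h1
      show g⁻¹ * q * g ∈ (P' : Subgroup G)
      simpa [MulAut.smul_def, mul_assoc] using h2
    have := Subgroup.mem_centralizer_singleton_iff.1 (hP' hq')
    calc q * (g * u * g⁻¹) = g * ((g⁻¹ * q * g) * u) * g⁻¹ := by group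
      _ = g * u * g⁻¹ * q := by rw [this]; group
  rcases key _ hcen with h | h
  · exfalso
    rw [conj_eq_one_iff] at h
    rw [h, orderOf_one] at hu
    omega
  · exact (isConj_iff.2 ⟨g, h⟩).symm

end Cfsg.Agent.S0481
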