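import Cfsg.Statements.S0499
import Cfsg.Agent.Lib.Local.OddAction
import Cfsg.Agent.Lib.SmallGroups.Basic

set_option autoImplicit false
open Cfsg

namespace Cfsg.Agent.S0499

/-- A non-abelian finite simple group of even order has order divisible by 12, 16 or 56. -/
theorem result {G : Type*} [Group G] [Finite G] [IsSimpleGroup G]
    (hG : ¬ IsMulCommutative G) (h2 : Even (Nat.card G)) :
    12 ∣ Nat.card G ∨ 16 ∣ Nat.card G ∨ 56 ∣ Nat.card G := by
  have h2p : Fact (Nat.Prime 2) := ⟨Nat.prime_two⟩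
  by_contra hcon
  push Not at hcon
  obtain ⟨h12, h16, h56⟩ := hcon
  obtain ⟨S⟩ : Nonempty (Sylow 2 G) := inferInstance
  obtain ⟨a, ha⟩ := IsPGroup.iff_card.1 S.2
  have haG : 2 ^ a ∣ Nat.card G := ha ▸ Subgroup.card_subgroup_dvd_card _
  have ha3 : a ≤ 3 := by
    by_contra h
    exact h16 ((pow_dvd_pow 2 (by omega : 4 ≤ a)).trans haG)
  have hF : CfsgLib.Transfer.FrobeniusCond 2 G := CfsgLib.Local.frobeniusCond_of_prime_pow fun q hq hq2 hqG Q hQ g hg k hk => by
    have := Fact.mk hq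
    obtain ⟨b, hb⟩ := IsPGroup.iff_card.1 hQ
    have hba : b ≤ a := by
      obtain ⟨T, hT⟩ := hQ.exists_le_sylow
      have h1 := Subgroup.card_le_of_le hT
      rw [hb, T.card_eq_multiplicity, ← S.card_eq_multiplicity, ha] at h1
      exact (Nat.pow_le_pow_iff_right one_lt_two).1 h1
    obtain ⟨j, hj, hj'⟩ := (Nat.dvd_prime_pow Nat.prime_two).1
      (hb ▸ Subgroup.card_dvd_of_le (inf_le_left : Q ⊓ Subgroup.centralizer ({g} : Set G) ≤ Q))
    have hmod := CfsgLib.Transfer.card_modEq_inf_centralizer Q hg hk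
    rw [hb, hj'] at hmod
    rcases eq_or_lt_of_le hj with rfl | hlt
    · have heq := Subgroup.eq_of_le_of_card_ge (inf_le_left : Q ⊓ Subgroup.centralizer ({g} : Set G) ≤ Q) (by rw [hj', hb])
      exact Subgroup.mem_centralizer_iff.2 fun y hy =>
        Subgroup.mem_centralizer_singleton_iff.1 (inf_eq_left.1 heq hy)
    exfalso
    have hd := (Nat.modEq_iff_dvd' (Nat.pow_le_pow_right two_pos hlt.le)).1 hmod.symm
    have h3 : q = 3 → 2 ≤ a → False := fun h ha2 => h12 (by
      rw [show (12 : ℕ) = 2 ^ 2 * 3 by norm_num]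
      exact Nat.Coprime.mul_dvd_of_dvd_of_dvd (by norm_num) ((pow_dvd_pow 2 ha2).trans haG) (h ▸ hqG))
    have h7 : q = 7 → 3 ≤ a → False := fun h ha2 => h56 (by
      rw [show (56 : ℕ) = 2 ^ 3 * 7 by norm_num]
      exact Nat.Coprime.mul_dvd_of_dvd_of_dvd (by norm_num) ((pow_dvd_pow 2 ha2).trans haG) (h ▸ hqG))
    have hb3 : b ≤ 3 := hba.trans ha3
    have hdd : ∀ m : ℕ, q ∣ 2 ^ m → False := fun m hm =>
      hq2 ((Nat.prime_dvd_prime_iff_eq hq Nat.prime_two).1 (hq.dvd_of_dvd_pow hm))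
    interval_cases b <;> interval_cases j <;> norm_num at hd
    all_goals first
      | exact hq.one_lt.ne' hd
      | exact hdd 1 (by simpa using hd)
      | exact hdd 2 (by simpa using hd)
      | exact h3 ((Nat.prime_dvd_prime_iff_eq hq Nat.prime_three).1 hd) (by omega)
      | exact h7 ((Nat.prime_dvd_prime_iff_eq hq (by norm_num)).1 hd) (by omega)
      | exact h3 ((Nat.prime_dvd_prime_iff_eq hq Nat.prime_three).1 ((hq.dvd_mul.1 (show q ∣ 2 * 3 from hd)).resolve_left fun h => hdd 1 (by simpa using h))) (by omega)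
  obtain ⟨P, N, hN, hc⟩ := CfsgLib.Transfer.hasNormalPComplement_of_frobeniusCond hF
  rcases IsSimpleGroup.eq_bot_or_eq_top_of_normal N hN with h | h
  · rw [h, Subgroup.isComplement'_bot_left] at hc
    have hne := CfsgLib.SmallGroups.normalizer_sylow_ne_top hG (even_iff_two_dvd.1 h2) P
    exact hne (by rw [hc, Subgroup.normalizer_eq_top_iff]; infer_instance)
  · rw [h, Subgroup.isComplement'_top_left] at hc
    exact P.ne_bot_of_dvd_card (even_iff_two_dvd.1 h2) hc

end Cfsg.Agent.S0499
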