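import Cfsg.Statements.S0502
import Cfsg.Agent.Lib.Local.TwoGroupGraph

set_option autoImplicit false
open Cfsg

namespace Cfsg.Agent.S0502

open CfsgLib.Local CfsgLib.PGroup

variable {G : Type*} [Group G]

/-- The commuting relation on four-groups. -/
def Adj (A B : Subgroup G) : Prop := IsKleinFour A ∧ IsKleinFour B ∧ ∀ a ∈ A, ∀ b ∈ B, a * b = b * a

theorem adj_reverse {A B : Subgroup G} (h : Relation.ReflTransGen Adj A B) : Relation.ReflTransGen Adj B A := by
  induction h with
  | refl => exact Relation.ReflTransGen.refl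
  | tail _ h ih => exact Relation.ReflTransGen.head ⟨h.2.1, h.1, fun a ha b hb => (h.2.2 b hb a ha).symm⟩ ih

theorem elemAb_of_isKleinFour {U : Subgroup G} (h : IsKleinFour U) : Cfsg.IsElementaryAbelian 2 U := by
  haveI := h
  refine isElementaryAbelian_mk (fun a ha b hb => ?_) fun a ha => ?_
  · exact congrArg Subtype.val (mul_comm_of_exponent_two h.exponent_two (⟨a, ha⟩ : U) ⟨b, hb⟩)
  · have := Monoid.pow_exponent_eq_one (⟨a, ha⟩ : U)
    rw [h.exponent_two] at this
    exact congrArg Subtype.val this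

theorem isKleinFour_of_elemAb {U : Subgroup G} (h : Cfsg.IsElementaryAbelian 2 U) (h4 : Nat.card U = 4) :
    IsKleinFour U := by
  refine ⟨h4, ?_⟩
  have hd : Monoid.exponent U ∣ 2 := Monoid.exponent_dvd_of_forall_pow_eq_one fun a => Subtype.ext (h.2 a a.2)
  refine ((Nat.dvd_prime Nat.prime_two).1 hd).resolve_left fun h1 => ?_
  rw [Monoid.exp_eq_one_iff] at h1
  rw [Nat.card_eq_one_iff_unique.2 ⟨h1, ⟨1⟩⟩] at h4
  omega

theorem card_sup_le [Finite G] {A B : Subgroup G} (h : ∀ a ∈ A, ∀ b ∈ B, a * b = b * a) :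
    Nat.card ↥(A ⊔ B) ≤ Nat.card A * Nat.card B := by
  let φ : A × B →* G := MonoidHom.noncommCoprod A.subtype B.subtype fun a b => h a a.2 b b.2
  have hle : A ⊔ B ≤ φ.range := sup_le (fun a ha => ⟨(⟨a, ha⟩, 1), (MonoidHom.noncommCoprod_apply _ _ _ _).trans (by simp)⟩)
    fun b hb => ⟨(1, ⟨b, hb⟩), (MonoidHom.noncommCoprod_apply _ _ _ _).trans (by simp)⟩
  rw [← Nat.card_prod]
  exact (Subgroup.card_le_of_le hle).trans (Nat.card_le_card_of_surjective φ.rangeRestrict φ.rangeRestrict_surjective)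

/-- If a finite 2-group has a normal elementary abelian subgroup of order at least 8, then any two of its Klein
four-subgroups are joined by a chain of Klein four-subgroups with consecutive members commuting elementwise. -/
theorem result {P : Type*} [Group P] [Finite P] (hP : IsPGroup 2 P)
    (E : Subgroup P) [E.Normal] (hE : IsMulCommutative E) (hE2 : ∀ e ∈ E, e ^ 2 = 1) (hE8 : 8 ≤ Nat.card E) :
    Cfsg.IsFourConnected P := by
  have hEe : Cfsg.IsElementaryAbelian 2 E := ⟨hE, hE2⟩
  have hEne : E ≠ ⊥ := fun h => by rw [h, Subgroup.card_bot] at hE8; omega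
  obtain ⟨z, hzE, hz1, hzc⟩ := exists_central_mem hP hEne
  have hz : Cfsg.IsElementaryAbelian 2 (Subgroup.zpowers z) := elemAb_zpowers (hE2 z hzE)
  have reach : ∀ U : Subgroup P, IsKleinFour U → ∃ W ≤ E, IsKleinFour W ∧ Relation.ReflTransGen Adj U W := by
    intro U hU
    have hUe := elemAb_of_isKleinFour hU
    have hU4 : Nat.card U = 4 := hU.card_four
    obtain ⟨u, huU, huz⟩ : ∃ u ∈ U, u ∉ Subgroup.zpowers z := SetLike.not_le_iff_exists.1 fun h => by
      have h1 := Subgroup.card_le_of_le h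
      rw [hU4, Nat.card_zpowers] at h1
      have := orderOf_le_of_pow_eq_one two_pos (hE2 z hzE)
      omega
    have hD := elemAb_sup hUe hz fun a _ c hc => by
      obtain ⟨i, rfl⟩ := Subgroup.mem_zpowers_iff.1 hc
      exact (Commute.zpow_right (hzc a) i).eq
    set U1 := Subgroup.zpowers u ⊔ Subgroup.zpowers z with hU1
    have hU1D : U1 ≤ U ⊔ Subgroup.zpowers z := sup_le_sup_right (Subgroup.zpowers_le.2 huU) _
    have hU1k : IsKleinFour U1 := isKleinFour_of_elemAb (elemAb_mono hD hU1D) (by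
      have hu2 : orderOf u = 2 := orderOf_eq_prime (hUe.2 u huU) fun h => huz (h ▸ Subgroup.one_mem _)
      have hz2 : orderOf z = 2 := orderOf_eq_prime (hE2 z hzE) hz1
      have hlt : Nat.card (Subgroup.zpowers z) < Nat.card U1 := lt_of_le_of_ne
        (Subgroup.card_le_of_le le_sup_right) fun h => huz
          (Subgroup.eq_of_le_of_card_ge le_sup_right h.ge ▸ Subgroup.mem_sup_left (Subgroup.mem_zpowers u))
      have hle : Nat.card U1 ≤ Nat.card (Subgroup.zpowers u) * Nat.card (Subgroup.zpowers z) := card_sup_le fun a ha c hc => by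
        obtain ⟨i, rfl⟩ := Subgroup.mem_zpowers_iff.1 hc
        exact (Commute.zpow_right (hzc a) i).eq
      obtain ⟨n, hn⟩ := IsPGroup.iff_card.1 (hP.to_subgroup U1)
      rw [Nat.card_zpowers, hz2, hn] at hlt
      rw [Nat.card_zpowers, Nat.card_zpowers, hu2, hz2, hn] at hle
      have h1 : 1 < n := (Nat.pow_lt_pow_iff_right one_lt_two).1 (by simpa using hlt)
      have h2 : n ≤ 2 := (Nat.pow_le_pow_iff_right one_lt_two).1 (by simpa using hle)
      rw [hn, show n = 2 by omega]; norm_num)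
    have hadj1 : Adj U U1 := ⟨hU, hU1k, fun a ha b hb => elemAb_comm hD (Subgroup.mem_sup_left ha) (hU1D hb)⟩
    have hC : 4 ≤ Nat.card ↥(E ⊓ Subgroup.centralizer ({u} : Set P)) := by
      have h := card_le_sq_inf_centralizer hEe (a := u) (by rw [← pow_two, hUe.2 u huU]; exact Subgroup.one_mem _)
        fun e he => (inferInstance : E.Normal).conj_mem e he u
      obtain ⟨n, hn⟩ := IsPGroup.iff_card.1 (hP.to_subgroup (E ⊓ Subgroup.centralizer ({u} : Set P)))
      rw [hn] at h ⊢
      have : 3 ≤ n * 2 := (Nat.pow_le_pow_iff_right one_lt_two).1 (by rw [pow_mul]; omega)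
      calc 4 = 2 ^ 2 := by norm_num
        _ ≤ 2 ^ n := Nat.pow_le_pow_right two_pos (by omega)
    obtain ⟨W, -, hWC, hW, hWe⟩ := exists_between_card (elemAb_mono hEe inf_le_left)
      (bot_le : (⊥ : Subgroup P) ≤ E ⊓ Subgroup.centralizer ({u} : Set P)) (m := 2) (by simp) hC
    have hWk : IsKleinFour W := isKleinFour_of_elemAb hWe (by rw [hW]; norm_num)
    have hadj2 : Adj U1 W := ⟨hU1k, hWk, fun a ha b hb => by
      have hle : U1 ≤ Subgroup.centralizer ({b} : Set P) := sup_le
        (Subgroup.zpowers_le.2 (Subgroup.mem_centralizer_singleton_iff.2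
          (Subgroup.mem_centralizer_iff.1 (hWC hb).2 u rfl)))
        (Subgroup.zpowers_le.2 (Subgroup.mem_centralizer_singleton_iff.2 (hzc b).symm))
      exact Subgroup.mem_centralizer_singleton_iff.1 (hle ha)⟩
    exact ⟨W, hWC.trans inf_le_left, hWk, (Relation.ReflTransGen.single hadj1).tail hadj2⟩
  intro U V hU hV
  obtain ⟨W, hW, hWk, hUW⟩ := reach U hU
  obtain ⟨W', hW', hWk', hVW⟩ := reach V hV
  exact (hUW.tail ⟨hWk, hWk', fun a ha b hb => elemAb_comm hEe (hW ha) (hW' hb)⟩).trans (adj_reverse hVW)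

end Cfsg.Agent.S0502
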