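import Cfsg.Statements.S0949
import Cfsg.Agent.Lib.Blocks.HomocyclicTwoNormal

set_option autoImplicit false
open Cfsg

namespace Cfsg.Agent.S0949

/-- Let the finite group G have a Sylow 2-subgroup P isomorphic to Z/2^m × Z/2^m with m ≥ 2, and suppose G has no nontrivial normal subgroup of odd order. Then P is normal in G, C_G(P) = P, and the index of P is 1 or 3. -/
theorem result {G : Type*} [Group G] [Finite G] (P : Sylow 2 G) (m : ℕ) (hm : 2 ≤ m) (e : (P : Subgroup G) ≃* Multiplicative (ZMod (2 ^ m) × ZMod (2 ^ m))) (hO : ∀ N : Subgroup G, N.Normal → Odd (Nat.card N) → N = ⊥) : (P : Subgroup G).Normal ∧ Subgroup.centralizer (P : Set G) = (P : Subgroup G) ∧ ((P : Subgroup G).index = 1 ∨ (P : Subgroup G).index = 3) := by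
  have hn := CfsgLib.Blocks.HomocyclicTwo.normal_of_oddCore _ G P m rfl hm e hO
  have hNtop : Subgroup.normalizer (P : Set G) = ⊤ := Subgroup.normalizer_eq_top_iff.2 hn
  have hcomm := CfsgLib.Blocks.HomocyclicTwo.sylow_comm P e
  set C := Subgroup.centralizer (P : Set G) with hC
  have hPC : (P : Subgroup G) ≤ C := fun x hx =>
    Subgroup.mem_centralizer_iff.2 fun y hy => hcomm y hy x hx
  have hCn : C.Normal := by
    have h : (Subgroup.centralizer ((P : Subgroup G) : Set G)).Normal := inferInstance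
    exact h
  let Q : Sylow 2 C := P.subtype hPC
  have hQ : (Q : Subgroup C) = (P : Subgroup G).subgroupOf C := Sylow.coe_subtype P hPC
  have hle : Subgroup.normalizer ((Q : Subgroup C) : Set C) ≤
      Subgroup.centralizer ((Q : Subgroup C) : Set C) := by
    intro n _
    rw [Subgroup.mem_centralizer_iff]
    intro x hx
    rw [hQ] at hx
    exact Subtype.ext (Subgroup.mem_centralizer_iff.1 n.2 (x : G) (Subgroup.mem_subgroupOf.1 hx))
  have hcompl := MonoidHom.ker_transferSylow_isComplement' Q hle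
  have hK : (MonoidHom.transferSylow Q hle).ker ≤ Cfsg.pPrimeCore 2 C := CfsgLib.Cores.le_pPrimeCore
    (Nat.prime_two.coprime_iff_not_dvd.2 (MonoidHom.not_dvd_card_ker_transferSylow Q hle)).symm
  have := CfsgLib.Cores.pPrimeCore_characteristic (G := C) 2
  have hb := hO ((Cfsg.pPrimeCore 2 C).map C.subtype) inferInstance (by
    rw [Subgroup.card_map_of_injective C.subtype_injective]
    exact Nat.odd_iff.2 (Nat.two_dvd_ne_zero.1 (CfsgLib.Cores.not_dvd_card_pPrimeCore 2)))
  rw [Subgroup.map_eq_bot_iff_of_injective _ C.subtype_injective] at hb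
  rw [hb, le_bot_iff] at hK
  rw [hK, Subgroup.isComplement'_bot_left, hQ, Subgroup.subgroupOf_eq_top] at hcompl
  have hCP : C = (P : Subgroup G) := le_antisymm hcompl hPC
  refine ⟨hn, hCP, ?_⟩
  obtain ⟨h1, h2⟩ := CfsgLib.Blocks.TwoLocal.card_range_involsHom P (by omega : 1 ≤ m) e
  rw [hNtop, Subgroup.relIndex_top_right] at h1
  rw [← h1, ← hC, hCP] at h2
  exact h2

end Cfsg.Agent.S0949
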