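import Cfsg.Statements.S0516
import Cfsg.Agent.Lib.Fusion.RankTwo.GroupForm
import Cfsg.Agent.S0204
import Cfsg.Agent.S0949

set_option autoImplicit false
open Cfsg

namespace Cfsg.Agent.S0516

/-- In a non-abelian finite simple group of 2-rank at most 2, a Sylow 2-subgroup is dihedral (of order at least 4),
quasi-dihedral, wreathed, or isomorphic to a Sylow 2-subgroup of the projective special unitary group of dimension 3
over the field with 16 elements. -/
theorem result {G : Type*} [Group G] [Finite G] [IsSimpleGroup G]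
    (hG : ¬ IsMulCommutative G) (h2 : Cfsg.PRankLE 2 2 G) (S : Sylow 2 G) {F : Type*} [Field F] [Fintype F]
    (hF : Fintype.card F = 16) (P : Sylow 2 (Cfsg.PSU 3 F 4)) :
    (∃ n : ℕ, 2 ≤ n ∧ Nonempty ((S : Subgroup G) ≃* DihedralGroup n)) ∨ Cfsg.IsQuasiDihedral (S : Subgroup G) ∨
      Cfsg.IsWreathed (S : Subgroup G) ∨ Nonempty ((S : Subgroup G) ≃* (P : Subgroup (Cfsg.PSU 3 F 4))) := by
  have : Fact (Nat.Prime 2) := ⟨Nat.prime_two⟩
  obtain ⟨E, hE⟩ := Cfsg.Agent.S0204.result (G := G) fun hc => hG hc.isMulCommutative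
  have h1 : ¬ Cfsg.PRankLE 2 1 G := fun h => by
    have h4 := h E IsKleinFour.isMulCommutative fun a ha => by
      have := congrArg Subtype.val (IsKleinFour.mul_self (⟨a, ha⟩ : E))
      rw [pow_two]
      exact this
    rw [IsKleinFour.card_four] at h4
    norm_num at h4
  obtain ⟨hr2, hr3⟩ := CfsgLib.Fusion.RankTwo.sylow_rank S h2 h1
  have hS1 : (S : Subgroup G) ≠ ⊥ := by
    intro e
    obtain ⟨A, -, -, hA⟩ := hr2
    have h4 := hA.trans (Subgroup.card_le_card_group A)
    rw [Subgroup.card_eq_one.2 e] at h4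
    norm_num at h4
  rcases CfsgLib.Fusion.RankTwo.sylow_types S.2 (CfsgLib.Fusion.isSaturated_groupFusion S) hr2 hr3
    (CfsgLib.Fusion.RankTwo.center_eq_bot_of_simple hG S hS1) hF P with h | h | h | ⟨n, hn, ⟨e⟩⟩ | h
  · exact Or.inl h
  · exact Or.inr (Or.inl h)
  · exact Or.inr (Or.inr (Or.inl h))
  · exfalso
    have hO : ∀ N : Subgroup G, N.Normal → Odd (Nat.card N) → N = ⊥ := by
      intro N hN hodd
      refine (IsSimpleGroup.eq_bot_or_eq_top_of_normal N hN).resolve_right ?_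
      rintro rfl
      rw [Subgroup.card_top] at hodd
      obtain ⟨A, -, -, hA⟩ := hr2
      have h2d : 2 ∣ Nat.card G := by
        obtain ⟨k, hk⟩ := S.2.exists_card_eq
        rcases k with _ | k
        · exact absurd (Subgroup.card_eq_one.1 hk) hS1
        · exact (hk ▸ dvd_pow_self 2 (Nat.succ_ne_zero k)).trans
            (Subgroup.card_subgroup_dvd_card (S : Subgroup G))
      exact (Nat.not_even_iff_odd.2 hodd) (even_iff_two_dvd.2 h2d)
    obtain ⟨hn', -, -⟩ := Cfsg.Agent.S0949.result S n hn e hO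
    have htop : (S : Subgroup G) = ⊤ :=
      (IsSimpleGroup.eq_bot_or_eq_top_of_normal _ hn').resolve_left hS1
    refine hG ⟨⟨fun a b => ?_⟩⟩
    have hm : ∀ x : G, x ∈ (S : Subgroup G) := fun x => htop ▸ Subgroup.mem_top x
    exact congrArg Subtype.val (e.injective (a₁ := ⟨a, hm a⟩ * ⟨b, hm b⟩) (a₂ := ⟨b, hm b⟩ * ⟨a, hm a⟩)
      (by rw [map_mul, map_mul, mul_comm]))
  · exact Or.inr (Or.inr (Or.inr h))

end Cfsg.Agent.S0516
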