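import Cfsg.Statements.S0519
import Cfsg.Agent.Lib.PGroup.NormalRankOne

set_option autoImplicit false
open Cfsg

namespace Cfsg.Agent.S0519

/-- Let P be a finite p-group in which every abelian normal subgroup is cyclic, but which has a non-cyclic abelian
subgroup. Then p = 2 and P is generalized quaternion, dihedral of order at least 16, or quasi-dihedral. -/
theorem result {P : Type*} [Group P] [Finite P] (p : ℕ) [Fact p.Prime]
    (hP : IsPGroup p P) (hn : ∀ A : Subgroup P, A.Normal → IsMulCommutative A → IsCyclic A)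
    (hm : ∃ B : Subgroup P, IsMulCommutative B ∧ ¬ IsCyclic B) :
    p = 2 ∧ ((∃ n : ℕ, Nonempty (P ≃* QuaternionGroup n)) ∨ (∃ n : ℕ, 8 ≤ n ∧ Nonempty (P ≃* DihedralGroup n)) ∨
      Cfsg.IsQuasiDihedral P) := by
  classical
  obtain ⟨rfl, hg, hcard⟩ := CfsgLib.PGroup.NormalRankOne.good hP hn hm
  refine ⟨rfl, ?_⟩
  rcases CfsgLib.PGroup.RankTwo.classify hg hP with ⟨k, ⟨e⟩⟩ | ⟨k, hk, a, b, ha, hb, hab⟩ | ⟨k, ⟨e⟩⟩
  · refine Or.inr (Or.inl ⟨2 ^ (k + 2), ?_, ⟨e⟩⟩)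
    have := Nat.card_congr e.toEquiv
    rw [DihedralGroup.nat_card] at this
    omega
  · exact Or.inr (Or.inr ⟨k + 3, by omega, by rw [hk], a, b, ha, hb, by simpa using hab⟩)
  · exact Or.inl ⟨_, ⟨e⟩⟩

end Cfsg.Agent.S0519
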