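import Cfsg.Statements.S0520
import Cfsg.Agent.S0502
import Cfsg.Agent.Lib.LocalEven.StronglyEmbedded
import Cfsg.Agent.Lib.LocalEven.Basic
import Cfsg.Agent.Lib.Local.TwoGroupGraph

set_option autoImplicit false
open Cfsg

namespace Cfsg.Agent.S0520

open Cfsg.Agent.S0502 CfsgLib.PGroup

variable {G : Type*} [Group G]

theorem isPGroup_of_isKleinFour {U : Subgroup G} (hU : IsKleinFour U) : IsPGroup 2 U :=
  elemAb_isPGroup (elemAb_of_isKleinFour hU)

theorem isKleinFour_equiv {A B : Type*} [Group A] [Group B] (e : A ≃* B) (h : IsKleinFour A) : IsKleinFour B :=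
  ⟨(Nat.card_congr e.toEquiv).symm.trans h.card_four, (Monoid.exponent_eq_of_mulEquiv e).symm.trans h.exponent_two⟩

theorem adj_map {H : Type*} [Group H] {A B : Subgroup H} (h : Adj A B) (f : H →* G) (hf : Function.Injective f) :
    Adj (A.map f) (B.map f) :=
  ⟨isKleinFour_equiv (A.equivMapOfInjective f hf) h.1, isKleinFour_equiv (B.equivMapOfInjective f hf) h.2.1, by
    rintro _ ⟨a, ha, rfl⟩ _ ⟨b, hb, rfl⟩
    rw [← map_mul, ← map_mul, h.2.2 a ha b hb]⟩

theorem isKleinFour_conj {U : Subgroup G} (hU : IsKleinFour U) (g : G) :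
    IsKleinFour (U.map (MulAut.conj g).toMonoidHom : Subgroup G) :=
  isKleinFour_equiv (U.equivMapOfInjective _ (MulAut.conj g).injective) hU

theorem map_conj_one (U : Subgroup G) : U.map (MulAut.conj (1 : G)).toMonoidHom = U := by ext; simp

theorem map_conj_map (U : Subgroup G) (g h : G) :
    (U.map (MulAut.conj h).toMonoidHom).map (MulAut.conj g).toMonoidHom = U.map (MulAut.conj (g * h)).toMonoidHom := by
  rw [Subgroup.map_map]
  congr 1
  ext x; simp [mul_assoc]

theorem exists_isKleinFour [Finite G] (h : ¬ Cfsg.PRankLE 2 1 G) : ∃ U : Subgroup G, IsKleinFour U := by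
  by_contra hne
  refine h fun A hA hA2 => ?_
  have hAe : Cfsg.IsElementaryAbelian 2 A := ⟨hA, hA2⟩
  obtain ⟨n, hn⟩ := IsPGroup.iff_card.1 (elemAb_isPGroup hAe)
  rw [hn]
  refine Nat.pow_le_pow_right two_pos ?_
  by_contra hn2
  have h2' : Fact (Nat.Prime 2) := ⟨Nat.prime_two⟩
  obtain ⟨F, -, -, hF, hFe⟩ := CfsgLib.Local.exists_between_card hAe (bot_le : (⊥ : Subgroup G) ≤ A) (m := 2)
    (by simp) (by rw [hn]; exact Nat.pow_le_pow_right two_pos (by omega))
  exact hne ⟨F, isKleinFour_of_elemAb hFe (by rw [hF]; norm_num)⟩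

theorem exists_le_of_not_pRankLE [Finite G] {Q : Subgroup G} (h : ¬ Cfsg.PRankLE 2 1 Q) :
    ∃ U ≤ Q, IsKleinFour U := by
  obtain ⟨U, hU⟩ := exists_isKleinFour h
  exact ⟨U.map Q.subtype, Subgroup.map_subtype_le U, isKleinFour_equiv (U.equivMapOfInjective _ Q.subtype_injective) hU⟩

theorem not_pRankLE_one {Q : Subgroup G} (h : ∃ U ≤ Q, IsKleinFour U) : ¬ Cfsg.PRankLE 2 1 Q := by
  obtain ⟨U, hle, hU⟩ := h
  intro hr
  have hU' := isKleinFour_equiv (Subgroup.subgroupOfEquivOfLe hle).symm hU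
  have he := elemAb_of_isKleinFour hU'
  have := hr (U.subgroupOf Q) he.1 he.2
  rw [hU'.card_four] at this
  omega

/-- A 2-subgroup of an overgroup of a Sylow 2-subgroup is conjugate into it there. -/
theorem exists_conj_le_of_le [Finite G] (S : Sylow 2 G) {M B : Subgroup G} (hSM : (S : Subgroup G) ≤ M) (hBM : B ≤ M)
    (hB : IsPGroup 2 B) : ∃ k ∈ M, B.map (MulAut.conj k).toMonoidHom ≤ (S : Subgroup G) := by
  have h2 : Fact (Nat.Prime 2) := ⟨Nat.prime_two⟩
  obtain ⟨T, hT⟩ := (hB.comap_of_injective M.subtype M.subtype_injective).exists_le_sylow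
  obtain ⟨k, hk⟩ := MulAction.exists_smul_eq M T (S.subtype hSM)
  refine ⟨k, k.2, ?_⟩
  rintro _ ⟨b, hb, rfl⟩
  have hmem : k * ⟨b, hBM hb⟩ * k⁻¹ ∈ ((S.subtype hSM : Sylow 2 M) : Subgroup M) := by
    rw [← hk]
    exact Subgroup.smul_mem_pointwise_smul _ (MulAut.conj k) _ (hT hb)
  exact hmem

/-- An element carrying a four-group of `S` into `S` lies in `M`. -/
theorem mem_of_four [Finite G] (S : Sylow 2 G) (M : Subgroup G)
    (hmem : ∀ Q : Subgroup G, Q ≤ (S : Subgroup G) → (∃ U ≤ Q, IsKleinFour U) → Subgroup.normalizer (Q : Set G) ≤ M)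
    (hSM : (S : Subgroup G) ≤ M) (hNS : Subgroup.normalizer ((S : Subgroup G) : Set G) ≤ M)
    (g : G) (U : Subgroup G) (hU : IsKleinFour U) (hUS : U ≤ (S : Subgroup G))
    (hg : U.map (MulAut.conj g).toMonoidHom ≤ (S : Subgroup G)) : g ∈ M := by
  have h2 : Fact (Nat.Prime 2) := ⟨Nat.prime_two⟩
  suffices H : ∀ n : ℕ, ∀ g : G, ∀ U : Subgroup G, IsKleinFour U → U ≤ (S : Subgroup G) →
      U ≤ (S : Subgroup G).map (MulAut.conj g).toMonoidHom →
      Nat.card (S : Subgroup G) ≤ n + Nat.card ↥((S : Subgroup G) ⊓ (S : Subgroup G).map (MulAut.conj g).toMonoidHom) → g ∈ M from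
    H _ g _ (isKleinFour_conj hU g) hg (Subgroup.map_mono hUS) (Nat.le_add_right _ _)
  intro n
  induction n using Nat.strong_induction_on with
  | _ n ih =>
  intro g U hU hUS hUT hn
  set T := (S : Subgroup G).map (MulAut.conj g).toMonoidHom with hT
  set D := (S : Subgroup G) ⊓ T with hD
  have hTp : IsPGroup 2 T := S.2.map _
  have hcard : Nat.card T = Nat.card (S : Subgroup G) := Subgroup.card_map_of_injective (MulAut.conj g).injective
  by_cases heq : D = T
  · refine hNS (CfsgLib.LocalEven.mem_normalizer_of_conj_le ?_)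
    rw [← hT, ← heq]; exact inf_le_left
  have hgrow : ¬ T ⊓ Subgroup.normalizer (D : Set G) ≤ D := fun h =>
    heq (CfsgLib.LocalEven.eq_of_inf_normalizer_le hTp inf_le_right h)
  set R := T ⊓ Subgroup.normalizer (D : Set G) with hR
  have hDR : D ≤ R := le_inf inf_le_right Subgroup.le_normalizer
  have hRM : R ≤ M := inf_le_right.trans (hmem D inf_le_left ⟨U, le_inf hUS hUT, hU⟩)
  obtain ⟨k, hk, hkS⟩ := exists_conj_le_of_le S hSM hRM (hTp.to_le inf_le_left)
  have hle : R.map (MulAut.conj k).toMonoidHom ≤ (S : Subgroup G) ⊓ (S : Subgroup G).map (MulAut.conj (k * g)).toMonoidHom := by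
    refine le_inf hkS ?_
    rw [← map_conj_map]
    exact Subgroup.map_mono inf_le_left
  have hlt : Nat.card D < Nat.card R := lt_of_le_of_ne (Subgroup.card_le_of_le hDR) fun h =>
    hgrow (Subgroup.eq_of_le_of_card_ge hDR h.ge).ge
  have hR' : Nat.card R ≤ Nat.card ↥((S : Subgroup G) ⊓ (S : Subgroup G).map (MulAut.conj (k * g)).toMonoidHom) := by
    rw [← Subgroup.card_map_of_injective (K := R) (f := (MulAut.conj k).toMonoidHom) (MulAut.conj k).injective]
    exact Subgroup.card_le_of_le hle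
  have hUR : U ≤ R := (le_inf hUS hUT).trans hDR
  have hRT : Nat.card R ≤ Nat.card T := Subgroup.card_le_of_le inf_le_left
  have := ih (n - (Nat.card R - Nat.card D)) (by omega)
    (k * g) (U.map (MulAut.conj k).toMonoidHom) (isKleinFour_conj hU k)
    ((Subgroup.map_mono hUR).trans hkS) ((Subgroup.map_mono hUR).trans (hle.trans inf_le_right)) (by omega)
  have h' := M.mul_mem (M.inv_mem hk) this
  rwa [inv_mul_cancel_left] at h'

/-- Let G be a finite group of 2-rank at least 2 and S a Sylow 2-subgroup whose commuting graph of Klein four-subgroups is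
connected. Then the commuting graph of Klein four-subgroups of G is disconnected if and only if the 2-generated core — the
subgroup generated by the normalizers N_G(Q) of the subgroups Q of S that contain a Klein four-group — is a proper
subgroup of G. -/
theorem result {G : Type*} [Group G] [Finite G] (h2 : ¬ Cfsg.PRankLE 2 1 G)
    (S : Sylow 2 G) (hS : Cfsg.IsFourConnected (S : Subgroup G)) :
    ¬ Cfsg.IsFourConnected G ↔
      (⨆ Q : {Q : Subgroup G // Q ≤ (S : Subgroup G) ∧ ¬ Cfsg.PRankLE 2 1 Q},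
          Subgroup.normalizer ((Q : Subgroup G) : Set G)) ≠ ⊤ := by
  have h2' : Fact (Nat.Prime 2) := ⟨Nat.prime_two⟩
  set M := (⨆ Q : {Q : Subgroup G // Q ≤ (S : Subgroup G) ∧ ¬ Cfsg.PRankLE 2 1 Q},
      Subgroup.normalizer ((Q : Subgroup G) : Set G)) with hM
  -- a four-group in `S`
  obtain ⟨U0, hU0, hU0S⟩ : ∃ U : Subgroup G, IsKleinFour U ∧ U ≤ (S : Subgroup G) := by
    obtain ⟨U, hU⟩ := exists_isKleinFour h2
    obtain ⟨T, hT⟩ := (isPGroup_of_isKleinFour hU).exists_le_sylow
    obtain ⟨g, hg⟩ := MulAction.exists_smul_eq G T S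
    refine ⟨U.map (MulAut.conj g).toMonoidHom, isKleinFour_conj hU g, ?_⟩
    rintro _ ⟨u, hu, rfl⟩
    rw [← hg]
    exact Subgroup.smul_mem_pointwise_smul _ (MulAut.conj g) _ (hT hu)
  have hmem : ∀ Q : Subgroup G, Q ≤ (S : Subgroup G) → (∃ U ≤ Q, IsKleinFour U) →
      Subgroup.normalizer (Q : Set G) ≤ M := fun Q hQ hU =>
    le_iSup (fun Q : {Q : Subgroup G // Q ≤ (S : Subgroup G) ∧ ¬ Cfsg.PRankLE 2 1 Q} =>
      Subgroup.normalizer ((Q : Subgroup G) : Set G)) ⟨Q, hQ, not_pRankLE_one hU⟩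
  have hNS : Subgroup.normalizer ((S : Subgroup G) : Set G) ≤ M := hmem _ le_rfl ⟨U0, hU0S, hU0⟩
  have hSM : (S : Subgroup G) ≤ M := Subgroup.le_normalizer.trans hNS
  -- four-groups of `S` are connected
  have inS : ∀ U V : Subgroup G, IsKleinFour U → IsKleinFour V → U ≤ (S : Subgroup G) → V ≤ (S : Subgroup G) →
      Relation.ReflTransGen Adj U V := by
    intro U V hU hV hUS hVS
    have h := hS (U.subgroupOf S) (V.subgroupOf S) (isKleinFour_equiv (Subgroup.subgroupOfEquivOfLe hUS).symm hU)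
      (isKleinFour_equiv (Subgroup.subgroupOfEquivOfLe hVS).symm hV)
    have h' := Relation.ReflTransGen.lift (p := Adj) (fun A : Subgroup S => A.map (S : Subgroup G).subtype)
      (fun A B hAB => adj_map hAB (S : Subgroup G).subtype (S : Subgroup G).subtype_injective) _ _ h
    simp only [Function.onFun] at h'
    rwa [Subgroup.map_subgroupOf_eq_of_le hUS, Subgroup.map_subgroupOf_eq_of_le hVS] at h'
  have hconj : ∀ (g : G) {U V : Subgroup G}, Relation.ReflTransGen Adj U V →
      Relation.ReflTransGen Adj (U.map (MulAut.conj g).toMonoidHom) (V.map (MulAut.conj g).toMonoidHom) :=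
    fun g U V h => Relation.ReflTransGen.lift (p := Adj) (fun A : Subgroup G => A.map (MulAut.conj g).toMonoidHom)
      (fun A B hAB => adj_map hAB _ (MulAut.conj g).injective) _ _ h
  rw [not_iff_comm, not_ne_iff]
  constructor
  · intro htop U V hU hV
    have hH : ∀ g : G, Relation.ReflTransGen Adj (U0.map (MulAut.conj g).toMonoidHom) U0 := by
      intro g
      have hg : g ∈ M := htop ▸ Subgroup.mem_top g
      rw [hM, Subgroup.iSup_eq_closure] at hg
      induction hg using Subgroup.closure_induction_left with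
      | one => rw [map_conj_one]
      | mul_left x hx y _ ih =>
        obtain ⟨Q, hx⟩ := Set.mem_iUnion.1 hx
        obtain ⟨U, hUQ, hU⟩ := exists_le_of_not_pRankLE Q.2.2
        have hUx : U.map (MulAut.conj x).toMonoidHom ≤ Q.1 := by
          rintro _ ⟨u, hu, rfl⟩
          exact (Subgroup.mem_normalizer_iff.1 hx u).1 (hUQ hu)
        rw [← map_conj_map]
        exact ((hconj x ih).trans (hconj x (inS U0 U hU0 hU hU0S (hUQ.trans Q.2.1)))).trans
          (inS _ U0 (isKleinFour_conj hU x) hU0 (hUx.trans Q.2.1) hU0S)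
      | inv_mul_cancel x hx y _ ih =>
        obtain ⟨Q, hx⟩ := Set.mem_iUnion.1 hx
        have hx' : x⁻¹ ∈ Subgroup.normalizer ((Q.1 : Subgroup G) : Set G) := Subgroup.inv_mem _ hx
        obtain ⟨U, hUQ, hU⟩ := exists_le_of_not_pRankLE Q.2.2
        have hUx : U.map (MulAut.conj x⁻¹).toMonoidHom ≤ Q.1 := by
          rintro _ ⟨u, hu, rfl⟩
          exact (Subgroup.mem_normalizer_iff.1 hx' u).1 (hUQ hu)
        rw [← map_conj_map]
        exact ((hconj x⁻¹ ih).trans (hconj x⁻¹ (inS U0 U hU0 hU hU0S (hUQ.trans Q.2.1)))).trans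
          (inS _ U0 (isKleinFour_conj hU x⁻¹) hU0 (hUx.trans Q.2.1) hU0S)
    have hall : ∀ U : Subgroup G, IsKleinFour U → Relation.ReflTransGen Adj U U0 := by
      intro U hU
      obtain ⟨T, hT⟩ := (isPGroup_of_isKleinFour hU).exists_le_sylow
      obtain ⟨g, hg⟩ := MulAction.exists_smul_eq G T S
      have hle : U.map (MulAut.conj g).toMonoidHom ≤ (S : Subgroup G) := by
        rintro _ ⟨u, hu, rfl⟩
        rw [← hg]
        exact Subgroup.smul_mem_pointwise_smul _ (MulAut.conj g) _ (hT hu)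
      have h := hconj g⁻¹ (inS _ U0 (isKleinFour_conj hU g) hU0 hle hU0S)
      rw [map_conj_map, inv_mul_cancel, map_conj_one] at h
      exact h.trans (hH g⁻¹)
    exact (hall U hU).trans (adj_reverse (hall V hV))
  · intro hcon
    -- every four-group lies in a conjugate of `S` by an element of `M`
    have hinM : ∀ V : Subgroup G, IsKleinFour V →
        ∃ m ∈ M, V.map (MulAut.conj m).toMonoidHom ≤ (S : Subgroup G) := by
      intro V hV
      have hch : Relation.ReflTransGen Adj U0 V := hcon U0 V hU0 hV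
      clear hV
      induction hch with
      | refl => exact ⟨1, M.one_mem, by rw [map_conj_one]; exact hU0S⟩
      | @tail A B _ hAB ih =>
        obtain ⟨m, hm, hAm⟩ := ih
        obtain ⟨hA, hB, hcom⟩ := adj_map hAB (MulAut.conj m).toMonoidHom (MulAut.conj m).injective
        set A' := A.map (MulAut.conj m).toMonoidHom
        set B' := B.map (MulAut.conj m).toMonoidHom
        have hBM : B' ≤ M := fun b hb => hmem A' hAm ⟨A', le_rfl, hA⟩
          (Subgroup.centralizer_le_normalizer _ (Subgroup.mem_centralizer_iff.2 fun a ha => hcom a ha b hb))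
        obtain ⟨k, hk, hkS⟩ := exists_conj_le_of_le S hSM hBM (isPGroup_of_isKleinFour hB)
        exact ⟨k * m, M.mul_mem hk hm, by rw [← map_conj_map]; exact hkS⟩
    refine (Subgroup.eq_top_iff' M).2 fun g => ?_
    obtain ⟨m, hm, hmS⟩ := hinM _ (isKleinFour_conj hU0 g)
    rw [map_conj_map] at hmS
    have := mem_of_four S M hmem hSM hNS (m * g) U0 hU0 hU0S hmS
    have h' := M.mul_mem (M.inv_mem hm) this
    rwa [inv_mul_cancel_left] at h'

end Cfsg.Agent.S0520
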