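import Cfsg.Statements.S0521
import Cfsg.Agent.S0626
import Cfsg.Agent.Lib.Solvable.Fitting
import Cfsg.Agent.Lib.PStab.QuadPair
-- import your own Cfsg.Agent.* helpers here

set_option autoImplicit false
open Cfsg
open scoped commutatorElement

namespace Cfsg.Agent.S0521

/-- Let X be a finite solvable group of odd order, p a prime and S a Sylow p-subgroup of X whose commutator subgroup is
cyclic. Then the product of the largest normal subgroup of X of order prime to p with S is a normal subgroup of X. -/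
theorem result {X : Type*} [Group X] [Finite X] [Group.IsSolvable X]
    (hX : Odd (Nat.card X)) (p : ℕ) [Fact p.Prime] (S : Sylow p X) (hS : IsCyclic (commutator (S : Subgroup X))) :
    (Cfsg.pPrimeCore p X ⊔ (S : Subgroup X)).Normal := by
  classical
  rcases eq_or_ne p 2 with rfl | hp2
  · have hS1 : (S : Subgroup X) = ⊥ := by
      obtain ⟨k, hk⟩ := S.isPGroup'.exists_card_eq
      refine Subgroup.card_eq_one.1 ?_
      rcases Nat.eq_zero_or_pos k with rfl | hk0
      · simpa using hk
      · exfalso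
        exact (Nat.not_odd_iff_even.2 (even_iff_two_dvd.2
          (((dvd_pow_self 2 hk0.ne').trans (dvd_of_eq hk.symm)).trans
            (S : Subgroup X).card_subgroup_dvd_card))) hX
    rw [hS1, sup_bot_eq]
    exact Subgroup.sSup_normal _ fun N hN => hN.1
  have hn : (Cfsg.pPrimeCore p X).Normal := Subgroup.sSup_normal _ fun N hN => hN.1
  set N := Cfsg.pPrimeCore p X
  have hsurj := QuotientGroup.mk'_surjective N
  set H := X ⧸ N
  haveI : Group.IsSolvable H := Group.isSolvable_of_surjective hsurj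
  have h0 : Cfsg.pPrimeCore p H = ⊥ := CfsgLib.Cores.pPrimeCore_quotient_self p
  have hle := CfsgLib.Solvable.centralizer_pCore_le p h0
  set S' := S.mapSurjective hsurj
  haveI hPn : (Cfsg.pCore p H).Normal := Subgroup.sSup_normal _ fun K hK => hK.1
  set P := Cfsg.pCore p H
  have hsub : P ≤ (S' : Subgroup H) := CfsgLib.Cores.pCore_le_sylow S'
  have hHodd : Odd (Nat.card H) := hX.of_dvd_nat (N.card_quotient_dvd_card)
  have hab : ∀ T : Sylow 2 H, IsMulCommutative T := by
    intro T
    have hT : Nat.card T = 1 := by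
      obtain ⟨k, hk⟩ := T.isPGroup'.exists_card_eq
      rcases Nat.eq_zero_or_pos k with rfl | hk0
      · simpa using hk
      · exfalso
        exact (Nat.not_odd_iff_even.2 (even_iff_two_dvd.2
          (((dvd_pow_self 2 hk0.ne').trans (dvd_of_eq hk.symm)).trans
            (T : Subgroup H).card_subgroup_dvd_card))) hHodd
    haveI : Subsingleton T := (Nat.card_eq_one_iff_unique.1 hT).1
    exact ⟨⟨fun a b => Subsingleton.elim _ _⟩⟩
  have hstab := (Cfsg.Agent.S0626.result hp2 hab).2.1
  set Φ := (frattini P).map P.subtype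
  -- the cyclic derived group
  have hcyc : IsCyclic ↥⁅(S' : Subgroup H), (S' : Subgroup H)⁆ := by
    have e1 : ⁅(S' : Subgroup H), (S' : Subgroup H)⁆ =
        (⁅(S : Subgroup X), (S : Subgroup X)⁆).map (QuotientGroup.mk' N) := by
      rw [Subgroup.map_commutator]; rfl
    have e2 : IsCyclic ↥⁅(S : Subgroup X), (S : Subgroup X)⁆ := by
      rw [← Subgroup.map_subtype_commutator]
      haveI := hS
      exact isCyclic_of_surjective
        ((commutator (S : Subgroup X)).equivMapOfInjective _ (Subgroup.subtype_injective _))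
        (MulEquiv.surjective _)
    rw [e1]
    haveI := e2
    exact isCyclic_of_surjective _ ((QuotientGroup.mk' N).subgroupMap_surjective _)
  have hall : (S' : Subgroup H) ≤ P := by
    intro a ha
    set D := P ⊓ ⁅(S' : Subgroup H), (S' : Subgroup H)⁆
    haveI hD : IsCyclic D :=
      isCyclic_of_injective (Subgroup.inclusion inf_le_right) (Subgroup.inclusion_injective _)
    have hz : Subgroup.zpowers a ≤ (S' : Subgroup H) := Subgroup.zpowers_le.2 ha
    have h1 : ⁅P, Subgroup.zpowers a⁆ ≤ D :=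
      le_inf (Subgroup.commutator_le_left _ _) (Subgroup.commutator_mono hsub hz)
    have hpow : ∀ x ∈ P, x ^ p ∈ Φ := fun x hx => ⟨(⟨x, hx⟩ : P) ^ p,
      CfsgLib.PGroup.pow_mem_frattini (CfsgLib.Cores.isPGroup_pCore p) _, rfl⟩
    have h2 : ⁅⁅P, Subgroup.zpowers a⁆, Subgroup.zpowers a⁆ ≤ Φ := by
      refine (Subgroup.commutator_mono h1 le_rfl).trans (Subgroup.commutator_le.2 ?_)
      intro d hd g hg
      obtain ⟨⟨c, hc⟩, hgen⟩ := hD.exists_generator
      obtain ⟨i, hi⟩ := hgen ⟨d, hd⟩
      have hdi : c ^ i = d := congrArg Subtype.val hi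
      have hgc : g * c * g⁻¹ ∈ D := by
        refine ⟨hPn.conj_mem c hc.1 g, ?_⟩
        have hgS := hz hg
        have := Subgroup.commutator_mem_commutator hgS (hsub hc.1)
        have h3 := mul_mem this hc.2
        rwa [commutatorElement_def, inv_mul_cancel_right] at h3
      obtain ⟨r, hr⟩ := hgen ⟨_, hgc⟩
      have hr' : c ^ r = g * c * g⁻¹ := congrArg Subtype.val hr
      obtain ⟨k, hk⟩ := S'.isPGroup' ⟨g, hz hg⟩
      have hgk : g ^ p ^ k = 1 := congrArg Subtype.val hk
      have key : ∀ l : ℕ, g ^ l * c * (g ^ l)⁻¹ = c ^ (r ^ l) := by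
        intro l
        induction l with
        | zero => simp
        | succ l ih =>
          rw [show g ^ (l + 1) * c * (g ^ (l + 1))⁻¹ = g * (g ^ l * c * (g ^ l)⁻¹) * g⁻¹ by
            rw [pow_succ']; group, ih, ← conj_zpow, ← hr', ← zpow_mul, pow_succ']
      obtain ⟨e, he⟩ : ∃ e : ℤ, d * g * d⁻¹ * g⁻¹ = c ^ (p * e : ℤ) := by
        rcases eq_or_ne c 1 with rfl | hc1
        · refine ⟨0, ?_⟩
          rw [← hdi]; simp
        have h4 := key (p ^ k)
        rw [hgk, one_mul, inv_one, mul_one] at h4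
        have h5 : ((r ^ p ^ k : ℤ) : ZMod p) = ((1 : ℤ) : ZMod p) := by
          rw [ZMod.intCast_eq_intCast_iff_dvd_sub]
          have h6 : (orderOf c : ℤ) ∣ 1 - r ^ p ^ k := by
            rw [orderOf_dvd_iff_zpow_eq_one, zpow_sub, zpow_one, ← h4, mul_inv_cancel]
          obtain ⟨m, hm⟩ : ∃ m, orderOf c = p ^ m :=
            (IsPGroup.iff_orderOf.1 (CfsgLib.Cores.isPGroup_pCore (G := H) p) ⟨c, hc.1⟩).imp
              fun m hm => by rwa [Subgroup.orderOf_mk] at hm
          have hm0 : m ≠ 0 := by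
            rintro rfl
            exact hc1 (orderOf_eq_one_iff.1 (by simpa using hm))
          refine dvd_trans ?_ h6
          rw [hm]
          push_cast
          exact dvd_pow_self _ hm0
        push_cast at h5
        rw [ZMod.pow_card_pow] at h5
        obtain ⟨u, hu⟩ : (p : ℤ) ∣ 1 - r := by
          rw [← ZMod.intCast_eq_intCast_iff_dvd_sub]
          simpa using h5
        refine ⟨u * i, ?_⟩
        rw [show d * g * d⁻¹ * g⁻¹ = d * (g * d * g⁻¹)⁻¹ by group, ← hdi, ← conj_zpow, ← hr',
          ← zpow_mul, ← zpow_neg, ← zpow_add]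
        congr 1
        linear_combination i * hu
      rw [commutatorElement_def, he, zpow_mul, zpow_natCast]
      exact Φ.zpow_mem (hpow c hc.1) e
    obtain ⟨E, hEn, hKE, ⟨k, hk⟩, haE⟩ := hstab a h2
    have hKp : IsPGroup p (Cfsg.sectionKernel P Φ) := by
      refine IsPGroup.iff_card.2 ⟨_, Nat.eq_prime_pow_of_unique_prime_dvd Nat.card_pos.ne' ?_⟩
      intro r hr hrd
      by_contra hrp
      haveI := Fact.mk hr
      obtain ⟨⟨g, hg⟩, hgo⟩ := exists_prime_orderOf_dvd_card' r hrd
      rw [Subgroup.orderOf_mk] at hgo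
      have hgP : g ∈ P := hle (CfsgLib.PStab.mem_centralizer_of_frattini
        (CfsgLib.Cores.isPGroup_pCore p)
        (by rw [Subgroup.normalizer_eq_top]; trivial)
        (by rw [hgo]; exact (Nat.coprime_primes hr Fact.out).2 hrp) fun x hx => by
          have h3 := Subgroup.mem_centralizer_iff.1 hg (QuotientGroup.mk' Φ x) ⟨x, hx, rfl⟩
          rw [← (QuotientGroup.eq_one_iff (N := Φ) ⁅g, x⁆)]
          rw [← QuotientGroup.mk'_apply, map_commutatorElement, commutatorElement_eq_one_iff_mul_comm]
          exact h3.symm)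
      obtain ⟨m, hm⟩ := IsPGroup.iff_orderOf.1 (CfsgLib.Cores.isPGroup_pCore (G := H) p) ⟨g, hgP⟩
      rw [Subgroup.orderOf_mk, hgo] at hm
      have hm1 : r ∣ p := hr.dvd_of_dvd_pow (dvd_of_eq hm)
      exact hrp ((Nat.prime_dvd_prime_iff_eq hr Fact.out).1 hm1)
    have hEp : IsPGroup p E := by
      obtain ⟨m, hm⟩ := hKp.exists_card_eq
      refine IsPGroup.of_card (n := m + k) ?_
      rw [← Subgroup.card_mul_index ((Cfsg.sectionKernel P Φ).subgroupOf E),
        Nat.card_congr (Subgroup.subgroupOfEquivOfLe hKE).toEquiv, hm]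
      show p ^ m * (Cfsg.sectionKernel P Φ).relIndex E = _
      rw [hk, pow_add]
    exact le_sSup (α := Subgroup H) (show E ∈ {K : Subgroup H | K.Normal ∧ IsPGroup p K} from ⟨hEn, hEp⟩) haE
  have h3 : Cfsg.pPrimeCore p X ⊔ (S : Subgroup X) = P.comap (QuotientGroup.mk' N) := by
    rw [← le_antisymm hall hsub, Sylow.coe_mapSurjective, Subgroup.comap_map_eq,
      QuotientGroup.ker_mk', sup_comm]
  rw [h3]
  exact hPn.comap _

end Cfsg.Agent.S0521
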