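import Cfsg.Statements.S0522
import Cfsg.Agent.Lib.PStab.Transitivity
import Cfsg.Agent.Lib.Cores.Balance

set_option autoImplicit false
open Cfsg

namespace Cfsg.Agent.S0522

/-- Transitivity Theorem (odd-order setting). Let X be a finite group of odd order in which the normalizer of every
nontrivial p-subgroup is solvable, P a Sylow p-subgroup, and B an abelian subgroup of P, normalized by P, with
C_P(B) = B and containing an elementary abelian subgroup of order p^3. Then for every prime q ≠ p, any two q-subgroups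
that are maximal among the q-subgroups normalized by B are conjugate by an element of the centralizer of B. -/
theorem result {X : Type*} [Group X] [Finite X] (hX : Odd (Nat.card X)) (p : ℕ)
    [Fact p.Prime] (hloc : ∀ T : Subgroup X, IsPGroup p T → T ≠ ⊥ → Group.IsSolvable (Subgroup.normalizer (T : Set X)))
    (P : Sylow p X) (B : Subgroup X) (hBP : B ≤ (P : Subgroup X))
    (hBn : ∀ x ∈ (P : Subgroup X), ∀ b ∈ B, x * b * x⁻¹ ∈ B) (hBa : IsMulCommutative B)
    (hBc : (P : Subgroup X) ⊓ Subgroup.centralizer (B : Set X) = B)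
    (hB3 : ∃ E : Subgroup X, E ≤ B ∧ (∀ e ∈ E, e ^ p = 1) ∧ p ^ 3 ≤ Nat.card E)
    (q : ℕ) [Fact q.Prime] (hqp : q ≠ p) (Q₁ Q₂ : Subgroup X)
    (h₁ : IsPGroup q Q₁ ∧ B ≤ Subgroup.normalizer (Q₁ : Set X) ∧
      ∀ R : Subgroup X, IsPGroup q R → B ≤ Subgroup.normalizer (R : Set X) → Q₁ ≤ R → R = Q₁)
    (h₂ : IsPGroup q Q₂ ∧ B ≤ Subgroup.normalizer (Q₂ : Set X) ∧
      ∀ R : Subgroup X, IsPGroup q R → B ≤ Subgroup.normalizer (R : Set X) → Q₂ ≤ R → R = Q₂) :
    ∃ c ∈ Subgroup.centralizer (B : Set X), Q₂ = Q₁.map (MulAut.conj c).toMonoidHom := by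
  have hp : p.Prime := Fact.out
  obtain ⟨E, hEB, hEp, hE3⟩ := hB3
  have hcB : ∀ a ∈ B, ∀ b ∈ B, a * b = b * a := fun a ha b hb =>
    congrArg Subtype.val (hBa.is_comm.comm (⟨a, ha⟩ : B) ⟨b, hb⟩)
  have hBC : B ≤ Subgroup.centralizer (B : Set X) := fun a ha =>
    Subgroup.mem_centralizer_iff.2 fun b hb => hcB b hb a ha
  have hB : IsPGroup p B := P.isPGroup'.to_le hBP
  have hp2 : p ≠ 2 := by
    rintro rfl
    have hne : E ≠ ⊥ := by
      rintro rfl
      rw [Subgroup.card_bot] at hE3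
      omega
    obtain ⟨e, he⟩ := Subgroup.ne_bot_iff_exists_ne_one.1 hne
    have h2 : orderOf (e : X) = 2 :=
      orderOf_eq_prime (hEp _ e.2) fun h => he (Subtype.ext h)
    exact (Nat.not_even_iff_odd.2 hX) (even_iff_two_dvd.2 (h2 ▸ orderOf_dvd_natCard _))
  have hPN : (P : Subgroup X) ≤ Subgroup.normalizer (B : Set X) := by
    intro x hx
    rw [Subgroup.mem_normalizer_iff]
    refine fun b => ⟨hBn x hx b, fun h => ?_⟩
    have h' := hBn x⁻¹ (inv_mem hx) _ h
    rwa [show x⁻¹ * (x * b * x⁻¹) * x⁻¹⁻¹ = b by group] at h'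
  have hfull : ∀ x ∈ Subgroup.centralizer (B : Set X), IsPGroup p (Subgroup.zpowers x) → x ∈ B := by
    intro x hx hxp
    set T := B ⊔ Subgroup.zpowers x with hT
    have hTC : T ≤ Subgroup.centralizer (B : Set X) := sup_le hBC (Subgroup.zpowers_le.2 hx)
    have hTp : IsPGroup p T := hB.to_sup_of_normal_left' hxp
      ((Subgroup.zpowers_le.2 hx).trans (Subgroup.centralizer_le_normalizer _))
    have hTN : T ≤ Subgroup.normalizer (B : Set X) := hTC.trans (Subgroup.centralizer_le_normalizer _)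
    obtain ⟨S, hS⟩ := (hTp.of_equiv (Subgroup.subgroupOfEquivOfLe hTN).symm).exists_le_sylow
    obtain ⟨g, hg⟩ := MulAction.exists_smul_eq (Subgroup.normalizer (B : Set X)) S (P.subtype hPN)
    have hgT : ∀ t ∈ T, (g : X) * t * (g : X)⁻¹ ∈ B := by
      intro t ht
      refine hBc.le ⟨?_, ?_⟩
      · have h1 : (g * ⟨t, hTN ht⟩ * g⁻¹ : Subgroup.normalizer (B : Set X)) ∈ (g • S : Sylow p _) := by
          show _ ∈ (g • S).toSubgroup
          rw [Sylow.coe_subgroup_smul]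
          exact Subgroup.smul_mem_pointwise_smul (⟨t, hTN ht⟩ : Subgroup.normalizer (B : Set X)) (MulAut.conj g) _ (hS (x := (⟨t, hTN ht⟩ : Subgroup.normalizer (B : Set X))) ht)
        rw [hg] at h1
        exact h1
      · show (g : X) * t * (g : X)⁻¹ ∈ Subgroup.centralizer (B : Set X)
        rw [Subgroup.mem_centralizer_iff]
        intro b hb
        have h2 : (g : X)⁻¹ * b * (g : X) ∈ B := (Subgroup.mem_normalizer_iff''.1 g.2 b).1 hb
        have h3 := Subgroup.mem_centralizer_iff.1 (hTC ht) _ h2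
        calc b * ((g : X) * t * (g : X)⁻¹) = (g : X) * ((g : X)⁻¹ * b * g * t) * (g : X)⁻¹ := by group
          _ = (g : X) * (t * ((g : X)⁻¹ * b * g)) * (g : X)⁻¹ := by rw [h3]
          _ = _ := by group
    have hxT : x ∈ T := le_sup_right (a := B) (Subgroup.mem_zpowers x)
    have := (Subgroup.mem_normalizer_iff.1 g.2 x).2 (hgT x hxT)
    exact this
  have hpc : ∀ T : Subgroup X, IsPGroup p T → T ≠ ⊥ →
      Cfsg.IsPConstrained p ↥(Subgroup.normalizer (T : Set X)) := fun T hT hT1 => by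
    haveI := hloc T hT hT1
    exact CfsgLib.Cores.isPConstrained_of_isSolvable
  have hmem : ∀ Q : Subgroup X, (IsPGroup q Q ∧ B ≤ Subgroup.normalizer (Q : Set X) ∧
      ∀ R : Subgroup X, IsPGroup q R → B ≤ Subgroup.normalizer (R : Set X) → Q ≤ R → R = Q) →
      Q ∈ Cfsg.maxInvSubgroups ⊤ B {q} := by
    rintro Q ⟨h1, h2, h3⟩
    refine ⟨⟨le_top, fun r hr hrd => ?_, h2⟩, fun R ⟨_, hR, hRn⟩ hQR => h3 R ?_ hRn hQR⟩
    · obtain ⟨n, hn⟩ := IsPGroup.iff_card.1 h1
      exact (Nat.prime_dvd_prime_iff_eq hr Fact.out).1 (hr.dvd_of_dvd_pow (hn ▸ hrd))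
    · exact IsPGroup.of_card (n := (Nat.card R).primeFactorsList.length)
        (Nat.eq_prime_pow_of_unique_prime_dvd Nat.card_pos.ne' fun hd hdd => hR _ hd hdd)
  obtain ⟨k, hk, hk'⟩ := CfsgLib.PStab.transitivity_of_pConstrained hpc (fun h => absurd h hp2) hB hBa hfull
    (A := E) ⟨⟨⟨fun a b => Subtype.ext (hcB _ (hEB a.2) _ (hEB b.2))⟩⟩, hEp⟩ hEB hE3 hqp (hmem Q₁ h₁) (hmem Q₂ h₂)
  exact ⟨k, Subgroup.map_subtype_le _ hk, hk'⟩

end Cfsg.Agent.S0522
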