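import Cfsg.Statements.S0540
import Cfsg.Agent.Lib.Solvable.Basic
import Cfsg.Agent.S0539

set_option autoImplicit false
open Pointwise
open Cfsg

namespace Cfsg.Agent.S0540

/-- A uniqueness lemma of zipper type. Let A be a subgroup of a finite group G and U a nonempty family of subgroups. For V in U write S(V) for the set of conjugates of A that lie in V and are subnormal in V. Assume: A belongs to S(V) for every V in U; a member of some S(W) that lies in V belongs to S(V); and for all V, W in U the normalizer of the join of S(V) ∩ S(W) lies in some member of U. Then U has a greatest element. -/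
theorem result {G : Type*} [Group G] [Finite G] (A : Subgroup G) (U : Set (Subgroup G)) (hU : U.Nonempty) (S : Subgroup G → Set (Subgroup G)) (hS : ∀ V B : Subgroup G, B ∈ S V ↔ (∃ g : G, B = MulAut.conj g • A) ∧ B ≤ V ∧ (B.subgroupOf V).IsSubnormal) (h1 : ∀ V ∈ U, A ∈ S V) (h2 : ∀ V ∈ U, ∀ W ∈ U, ∀ B ∈ S W, B ≤ V → B ∈ S V) (h3 : ∀ V ∈ U, ∀ W ∈ U, ∃ X ∈ U, Subgroup.normalizer ((sSup (S V ∩ S W) : Subgroup G) : Set G) ≤ X) : ∃ M ∈ U, ∀ V ∈ U, V ≤ M := by
  classical
  have hfam : ∀ W ∈ U, ∀ T₀ : Set (Subgroup G), T₀ ⊂ S W →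
      ∃ X ∈ S W, X ∉ T₀ ∧ X ≤ Subgroup.normalizer ((sSup T₀ : Subgroup G) : Set G) := by
    intro W hW T₀ hT₀
    have hleW : ∀ B ∈ S W, B ≤ W := fun B hB => ((hS W B).1 hB).2.1
    set φ : Subgroup G → Subgroup W := fun B => B.subgroupOf W with hφ
    have hinj : ∀ B C : Subgroup G, B ≤ W → C ≤ W → φ B = φ C → B = C := fun B C hB hC h => by
      rw [← Subgroup.map_subgroupOf_eq_of_le hB, ← Subgroup.map_subgroupOf_eq_of_le hC]
      exact congrArg (Subgroup.map W.subtype) h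
    have hsn : ∀ B ∈ φ '' S W, B.IsSubnormal := by
      rintro _ ⟨B, hB, rfl⟩
      exact ((hS W B).1 hB).2.2
    have hconj : ∀ B ∈ φ '' S W, ∀ w : W, MulAut.conj w • B ∈ φ '' S W := by
      rintro _ ⟨B, hB, rfl⟩ w
      obtain ⟨⟨g, hg⟩, hBW, hBs⟩ := (hS W B).1 hB
      have e : φ (MulAut.conj (w : G) • B) = MulAut.conj w • φ B := by
        ext x
        rw [CfsgLib.Solvable.mem_conj_smul_iff]
        exact CfsgLib.Solvable.mem_conj_smul_iff
      refine ⟨MulAut.conj (w : G) • B, (hS W _).2 ⟨⟨w * g, ?_⟩, ?_, ?_⟩, e⟩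
      · rw [hg, CfsgLib.Solvable.conj_smul_conj_smul]
      · exact (CfsgLib.Solvable.conj_smul_mono _ hBW).trans
          (CfsgLib.Solvable.conj_smul_self_of_mem_normalizer (Subgroup.le_normalizer w.2)).le
      · show (φ _).IsSubnormal
        rw [e, CfsgLib.Solvable.conj_smul_eq_map]
        exact hBs.map (MulAut.conj w).surjective
    have hss : φ '' T₀ ⊂ φ '' S W := by
      obtain ⟨B, hB, hB₀⟩ := Set.exists_of_ssubset hT₀
      refine (Set.ssubset_iff_of_subset (Set.image_mono hT₀.subset)).2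
        ⟨φ B, Set.mem_image_of_mem φ hB, ?_⟩
      rintro ⟨C, hC, e⟩
      exact hB₀ (hinj C B (hleW C (hT₀.subset hC)) (hleW B hB) e ▸ hC)
    obtain ⟨_, ⟨X, hX, rfl⟩, hX₀, hXn⟩ := Cfsg.Agent.S0539.result (φ '' S W) (φ '' T₀) hsn hconj hss
    refine ⟨X, hX, fun h => hX₀ (Set.mem_image_of_mem φ h), fun x hx => ?_⟩
    have hJ : sSup T₀ ≤ W := sSup_le fun B hB => hleW B (hT₀.subset hB)
    have e : sSup (φ '' T₀) = (sSup T₀).subgroupOf W := by
      refine le_antisymm (sSup_le ?_) ?_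
      · rintro _ ⟨B, hB, rfl⟩
        exact Subgroup.comap_mono (le_sSup hB)
      · have h1 : sSup T₀ ≤ (sSup (φ '' T₀)).map W.subtype := sSup_le fun B hB => by
          rw [← Subgroup.map_subgroupOf_eq_of_le (hleW B (hT₀.subset hB))]
          exact Subgroup.map_mono (le_sSup (Set.mem_image_of_mem φ hB))
        refine (Subgroup.comap_mono h1).trans ?_
        rw [Subgroup.comap_map_eq_self_of_injective W.subtype_injective]
    rw [e, ← Subgroup.subgroupOf_normalizer_eq hJ] at hXn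
    exact hXn (show (⟨x, hleW X hX hx⟩ : W) ∈ φ X from hx)
  -- maximal elements of `U` coincide
  suffices key : ∀ V W : Subgroup G, Maximal (· ∈ U) V → Maximal (· ∈ U) W → V = W by
    obtain ⟨V₀, hV₀⟩ := hU
    obtain ⟨M, -, hM⟩ := (Set.toFinite U).exists_le_maximal hV₀
    refine ⟨M, hM.1, fun V hV => ?_⟩
    obtain ⟨M', hle, hM'⟩ := (Set.toFinite U).exists_le_maximal hV
    exact key M M' hM hM' ▸ hle
  by_contra hcon
  push Not at hcon
  obtain ⟨V₁, W₁, hV₁, hW₁, hne₁⟩ := hcon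
  let P : Set (Subgroup G × Subgroup G) :=
    {p | Maximal (· ∈ U) p.1 ∧ Maximal (· ∈ U) p.2 ∧ p.1 ≠ p.2}
  obtain ⟨⟨V, W⟩, ⟨hV, hW, hne⟩, hmax⟩ := Set.exists_max_image P
    (fun p => (S p.1 ∩ S p.2).ncard) (Set.toFinite P) ⟨(V₁, W₁), hV₁, hW₁, hne₁⟩
  set S₀ := S V ∩ S W with hS₀
  obtain ⟨X, hX, hNX⟩ := h3 V hV.1 W hW.1
  obtain ⟨X', hXX', hX'⟩ := (Set.toFinite U).exists_le_maximal hX
  have hNX' := hNX.trans hXX'
  have hbig : ∀ Y, Maximal (· ∈ U) Y → Y ≠ X' → S₀ ⊆ S Y → S₀ ≠ S Y → False := by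
    intro Y hY hYX hsub hne'
    obtain ⟨B, hB, hB₀, hBn⟩ := hfam Y hY.1 S₀ (lt_of_le_of_ne hsub hne')
    have hins : insert B S₀ ⊆ S Y ∩ S X' := by
      refine Set.insert_subset ⟨hB, h2 X' hX'.1 Y hY.1 B hB (hBn.trans hNX')⟩ fun C hC => ?_
      exact ⟨hsub hC, h2 X' hX'.1 V hV.1 C hC.1
        ((le_sSup hC).trans (Subgroup.le_normalizer.trans hNX'))⟩
    have h1 := hmax (Y, X') ⟨hY, hX', hYX⟩
    have h2' := Set.ncard_le_ncard hins (Set.toFinite _)
    rw [Set.ncard_insert_of_notMem hB₀ (Set.toFinite _)] at h2'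
    exact absurd (h2'.trans h1) (Nat.not_succ_le_self _)
  have hstab : ∀ Y, Maximal (· ∈ U) Y → S₀ = S Y → Y = X' := by
    intro Y hY e
    refine le_antisymm ?_ (hY.2 hX'.1 ?_)
    all_goals
      refine le_trans (fun y hy => ?_) hNX'
      refine CfsgLib.Solvable.mem_normalizer_iff_conj_smul.2
        (CfsgLib.Solvable.conj_smul_eq_of_le ?_ le_rfl)
      rw [CfsgLib.Solvable.conj_smul_eq_map, Subgroup.map_le_iff_le_comap]
      refine sSup_le fun B hB => Subgroup.map_le_iff_le_comap.1 ?_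
      rw [← CfsgLib.Solvable.conj_smul_eq_map]
      refine le_sSup ?_
      rw [← hS₀, e] at hB ⊢
      obtain ⟨⟨g, hg⟩, hBY, hBs⟩ := (hS Y B).1 hB
      refine (hS Y _).2 ⟨⟨y * g, by rw [hg, CfsgLib.Solvable.conj_smul_conj_smul]⟩,
        (CfsgLib.Solvable.conj_smul_mono _ hBY).trans
          (CfsgLib.Solvable.conj_smul_self_of_mem_normalizer (Subgroup.le_normalizer hy)).le, ?_⟩
      have e' : (MulAut.conj y • B).subgroupOf Y =
          (B.subgroupOf Y).map (MulAut.conj (⟨y, hy⟩ : Y)).toMonoidHom := by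
        rw [← CfsgLib.Solvable.conj_smul_eq_map]
        ext z
        rw [CfsgLib.Solvable.mem_conj_smul_iff, Subgroup.mem_subgroupOf,
          CfsgLib.Solvable.mem_conj_smul_iff]
        rfl
      rw [e']
      exact hBs.map (MulAut.conj (⟨y, hy⟩ : Y)).surjective
  rcases ne_or_eq V X' with hVX | hVX
  · exact hbig V hV hVX Set.inter_subset_left fun e => hVX (hstab V hV e)
  · have hWX : W ≠ X' := fun h => hne (hVX.trans h.symm)
    exact hbig W hW hWX Set.inter_subset_right fun e => hWX (hstab W hW e)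

end Cfsg.Agent.S0540
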