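import Cfsg.Statements.S0542
import Cfsg.Agent.Lib.Solvable.Sylow

set_option autoImplicit false
open Cfsg

open scoped Pointwise

namespace Cfsg.Agent.S0542

/-- A Sylow p-subgroup of a finite group meets every subnormal subgroup H in a Sylow p-subgroup of H. -/
theorem result {G : Type*} [Group G] [Finite G] (p : ℕ) [Fact p.Prime] (H : Subgroup G) (hH : H.IsSubnormal) (S : Sylow p G) : ∃ Q : Sylow p H, (Q : Subgroup H) = (S : Subgroup G).subgroupOf H := by
  obtain ⟨Q⟩ := (inferInstance : Nonempty (Sylow p H))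
  refine ⟨Sylow.ofCard ((S : Subgroup G).subgroupOf H) ?_, rfl⟩
  rw [← Subgroup.inf_subgroupOf_right,
    Nat.card_congr (Subgroup.subgroupOfEquivOfLe inf_le_right).toEquiv,
    CfsgLib.Solvable.card_inf_of_isSubnormal S hH Q, Q.card_eq_multiplicity]

end Cfsg.Agent.S0542
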