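import Cfsg.Statements.S0547
import Cfsg.Agent.Lib.Solvable.Primitive

set_option autoImplicit false
open Cfsg

open scoped Pointwise

namespace Cfsg.Agent.S0547

/-- Let a finite solvable group G act faithfully and primitively on a set, and let M be a minimal normal subgroup of G. Then M is transitive with trivial point stabilizers, and the number of points equals the order of M, which is a prime power p ^ d with d ≥ 1. -/
theorem result {G : Type*} [Group G] [Finite G] [Group.IsSolvable G] {Ω : Type*} [Nonempty Ω] [MulAction G Ω] [FaithfulSMul G Ω] (hprim : MulAction.IsPreprimitive G Ω) (M : Subgroup G) [M.Normal] (hM : M ≠ ⊥) (hmin : ∀ K : Subgroup G, K.Normal → K ≤ M → K = ⊥ ∨ K = M) : MulAction.IsPretransitive M Ω ∧ (∀ ω : Ω, MulAction.stabilizer M ω = ⊥) ∧ ∃ p d : ℕ, p.Prime ∧ 0 < d ∧ Nat.card Ω = p ^ d ∧ Nat.card M = p ^ d := by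
  have hc := CfsgLib.Solvable.commute_of_minimal_normal M hM hmin inferInstance
  obtain ⟨ω⟩ := ‹Nonempty Ω›
  have htr : MulAction.IsPretransitive M Ω := by
    refine ⟨fun a b => ?_⟩
    obtain ⟨-, -, hsup, -⟩ := CfsgLib.Solvable.primitive_abelian_minimal hprim M hM hc a
    obtain ⟨g, rfl⟩ := hprim.toIsPretransitive.exists_smul_eq a b
    obtain ⟨m, hm, u, hu, rfl⟩ := CfsgLib.Solvable.exists_mul_of_mem_sup (K := M)
      (A := MulAction.stabilizer G a) Subgroup.le_normalizer_of_normal (g := g) (by rw [hsup]; trivial)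
    refine ⟨⟨m, hm⟩, ?_⟩
    show m • a = _
    rw [mul_smul, MulAction.mem_stabilizer_iff.1 hu]
  have hfree : ∀ ω : Ω, MulAction.stabilizer M ω = ⊥ := fun ω => by
    obtain ⟨-, -, -, hinf, -⟩ := CfsgLib.Solvable.primitive_abelian_minimal hprim M hM hc ω
    rw [eq_bot_iff]
    intro x hx
    have h : (x : G) ∈ M ⊓ MulAction.stabilizer G ω := Subgroup.mem_inf.2 ⟨x.2, hx⟩
    rw [hinf, Subgroup.mem_bot] at h
    exact Subgroup.mem_bot.2 (Subtype.ext h)
  refine ⟨htr, hfree, ?_⟩
  obtain ⟨p, a, hp, ha, -, hcard⟩ :=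
    CfsgLib.Solvable.exists_pow_card_of_minimal_normal M hM hmin inferInstance
  refine ⟨p, a, hp, ha, ?_, hcard⟩
  have e := Nat.card_congr (MulAction.orbitEquivQuotientStabilizer M ω)
  rw [MulAction.orbit_eq_univ, Nat.card_congr (Equiv.Set.univ Ω), ← Subgroup.index_eq_card, hfree,
    Subgroup.index_bot] at e
  rw [e, hcard]

end Cfsg.Agent.S0547
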