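import Cfsg.Statements.S0548
import Cfsg.Agent.Lib.Solvable.Primitive

set_option autoImplicit false
open Cfsg

open scoped Pointwise

namespace Cfsg.Agent.S0548

/-- Let a finite solvable group G act faithfully and primitively on a set, let M be a minimal normal subgroup and H the stabilizer of a point. Then H is a complement to M, no non-identity element of H centralizes M, and the only subgroups of M normalized by H are the trivial subgroup and M. -/
theorem result {G : Type*} [Group G] [Finite G] [Group.IsSolvable G] {Ω : Type*} [MulAction G Ω] [FaithfulSMul G Ω] (hprim : MulAction.IsPreprimitive G Ω) (M : Subgroup G) [M.Normal] (hM : M ≠ ⊥) (hmin : ∀ K : Subgroup G, K.Normal → K ≤ M → K = ⊥ ∨ K = M) (ω : Ω) : Subgroup.IsComplement' M (MulAction.stabilizer G ω) ∧ MulAction.stabilizer G ω ⊓ Subgroup.centralizer (M : Set G) = ⊥ ∧ ∀ K : Subgroup G, K ≤ M → MulAction.stabilizer G ω ≤ Subgroup.normalizer (K : Set G) → K = ⊥ ∨ K = M := by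
  have hc := CfsgLib.Solvable.commute_of_minimal_normal M hM hmin inferInstance
  obtain ⟨-, -, hsup, -, hcent, hcompl⟩ := CfsgLib.Solvable.primitive_abelian_minimal hprim M hM hc ω
  refine ⟨hcompl, hcent, fun K hKM hK => hmin K ?_ hKM⟩
  rw [← Subgroup.normalizer_eq_top_iff, eq_top_iff, ← hsup]
  refine sup_le (fun m hm => ?_) hK
  rw [Subgroup.mem_normalizer_iff]
  intro x
  refine ⟨fun hx => ?_, fun hx => ?_⟩
  · rw [hc m hm x (hKM hx), mul_inv_cancel_right]; exact hx
  · have hxM : x ∈ M := by
      have := mul_mem (mul_mem (inv_mem hm) (hKM hx)) hm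
      simpa [mul_assoc] using this
    rwa [hc m hm x hxM, mul_inv_cancel_right] at hx

end Cfsg.Agent.S0548
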