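import Cfsg.Statements.S0549
import Cfsg.Agent.Lib.Solvable.Basic

set_option autoImplicit false
open Cfsg

open scoped Pointwise

namespace Cfsg.Agent.S0549

/-- Let U be a maximal subgroup of a finite group G whose normal core is trivial, and N a nontrivial normal subgroup with centralizer C. Then C ∩ U = 1, and either C = 1 or C is a minimal normal subgroup of G. -/
theorem result {G : Type*} [Group G] [Finite G] (U : Subgroup G) (hU : IsCoatom U) (hcore : U.normalCore = ⊥) (N : Subgroup G) [N.Normal] (hN : N ≠ ⊥) : Subgroup.centralizer (N : Set G) ⊓ U = ⊥ ∧ (Subgroup.centralizer (N : Set G) = ⊥ ∨ (Subgroup.centralizer (N : Set G) ≠ ⊥ ∧ ∀ K : Subgroup G, K.Normal → K ≤ Subgroup.centralizer (N : Set G) → K = ⊥ ∨ K = Subgroup.centralizer (N : Set G))) := by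
  set C := Subgroup.centralizer (N : Set G)
  have hCn : C.Normal := inferInstance
  have hNU : N ⊔ U = ⊤ := by
    rw [sup_comm]
    refine hU.2 _ (left_lt_sup.2 fun hle => hN ?_)
    rw [← le_bot_iff, ← hcore]
    exact Subgroup.normal_le_normalCore.2 hle
  have hnorm : (C ⊓ U).Normal := by
    rw [← Subgroup.normalizer_eq_top_iff, eq_top_iff, ← hNU]
    refine sup_le (CfsgLib.Solvable.le_normalizer_of_conj_mem fun a ha x hx => ?_)
      (CfsgLib.Solvable.le_normalizer_inf Subgroup.le_normalizer_of_normal Subgroup.le_normalizer)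
    have : a * x = x * a := Subgroup.mem_centralizer_iff.1 hx.1 a ha
    rw [this, mul_inv_cancel_right]; exact hx
  have hbot : C ⊓ U = ⊥ := by
    rw [← le_bot_iff, ← hcore]
    exact Subgroup.normal_le_normalCore.2 inf_le_right
  refine ⟨hbot, ?_⟩
  by_cases hC : C = ⊥
  · exact Or.inl hC
  refine Or.inr ⟨hC, fun K hK hKC => ?_⟩
  by_cases hK0 : K = ⊥
  · exact Or.inl hK0
  refine Or.inr (le_antisymm hKC fun c hc => ?_)
  have hKU : K ⊔ U = ⊤ := by
    rw [sup_comm]
    refine hU.2 _ (left_lt_sup.2 fun hle => hK0 ?_)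
    rw [← le_bot_iff, ← hcore]
    exact Subgroup.normal_le_normalCore.2 hle
  obtain ⟨k, hk, u, hu, rfl⟩ := CfsgLib.Solvable.exists_mul_of_mem_sup (K := K) (A := U)
    Subgroup.le_normalizer_of_normal (g := c) (by rw [hKU]; trivial)
  have : u ∈ C ⊓ U := Subgroup.mem_inf.2 ⟨by simpa using mul_mem (inv_mem (hKC hk)) hc, hu⟩
  rw [hbot, Subgroup.mem_bot] at this
  simpa [this] using hk

end Cfsg.Agent.S0549
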