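import Cfsg.Statements.S0562
import Cfsg.Agent.Lib.Solvable.Basic

set_option autoImplicit false
open Cfsg

open scoped Pointwise

namespace Cfsg.Agent.S0562

/-- Let the finite group G be the product HK of subgroups, A normal in H, B normal in K, and L the normalizer of the subgroup generated by A and B. Then every element of L is a product of an element of L ∩ H and an element of L ∩ K. -/
theorem result {G : Type*} [Group G] [Finite G] (H K A B : Subgroup G) (hHK : ∀ g : G, ∃ h ∈ H, ∃ k ∈ K, g = h * k) (hA : A ≤ H) (hAn : (A.subgroupOf H).Normal) (hB : B ≤ K) (hBn : (B.subgroupOf K).Normal) : ∀ g ∈ Subgroup.normalizer ((A ⊔ B : Subgroup G) : Set G), ∃ h ∈ Subgroup.normalizer ((A ⊔ B : Subgroup G) : Set G) ⊓ H, ∃ k ∈ Subgroup.normalizer ((A ⊔ B : Subgroup G) : Set G) ⊓ K, g = h * k := by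
  intro g hg
  obtain ⟨h, hh, k, hk, rfl⟩ := hHK g
  set J := A ⊔ B with hJ
  have hhA : MulAut.conj h • A = A := CfsgLib.Solvable.conj_smul_self_of_mem_normalizer
    ((Subgroup.normal_subgroupOf_iff_le_normalizer hA).1 hAn hh)
  have hkB : MulAut.conj k • B = B := CfsgLib.Solvable.conj_smul_self_of_mem_normalizer
    ((Subgroup.normal_subgroupOf_iff_le_normalizer hB).1 hBn hk)
  have hhJ : h ∈ Subgroup.normalizer (J : Set G) := by
    rw [CfsgLib.Solvable.mem_normalizer_iff_conj_smul]
    refine Subgroup.eq_of_le_of_card_ge ?_ (CfsgLib.Solvable.card_conj_smul h J).ge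
    have hB' : MulAut.conj h • B ≤ J := by
      have h1 := CfsgLib.Solvable.conj_smul_mono (h * k) (le_sup_right : B ≤ J)
      rw [CfsgLib.Solvable.conj_smul_self_of_mem_normalizer hg,
        ← CfsgLib.Solvable.conj_smul_conj_smul, hkB] at h1
      exact h1
    rw [hJ, Subgroup.smul_sup]
    exact sup_le (hhA.le.trans le_sup_left) hB'
  exact ⟨h, Subgroup.mem_inf.2 ⟨hhJ, hh⟩, k,
    Subgroup.mem_inf.2 ⟨by simpa using mul_mem (inv_mem hhJ) hg, hk⟩, rfl⟩

end Cfsg.Agent.S0562
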