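import Cfsg.Statements.S0574
import Cfsg.Agent.Lib.Solvable.ProductDerived

set_option autoImplicit false
open Cfsg

open scoped Pointwise

namespace Cfsg.Agent.S0574

/-- Let the finite group G be the product AB of an abelian subgroup A and a subgroup B of nilpotency class at most two, and let Ω be the number of prime factors, with multiplicity, of the order of the commutator subgroup of B. Then the term of index 2(1 + Ω) of the derived series of G is trivial. -/
theorem result {G : Type*} [Group G] [Finite G] (A B : Subgroup G) [IsMulCommutative A] (hB : commutator ↥B ≤ Subgroup.center ↥B) (hAB : ∀ g : G, ∃ a ∈ A, ∃ b ∈ B, g = a * b) : derivedSeries G (2 * (1 + (Nat.card ↥(commutator ↥B)).primeFactorsList.length)) = ⊥ := by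
  have hn : Group.IsNilpotent B := by
    exact Subgroup.isNilpotent_of_ker_le_center (Abelianization.of (G := ↥B))
      (by rw [Abelianization.ker_of]; exact hB)
  have hA : ∀ x ∈ A, ∀ y ∈ A, x * y = y * x := fun x hx y hy =>
    congrArg Subtype.val ((inferInstance : IsMulCommutative A).is_comm.comm ⟨x, hx⟩ ⟨y, hy⟩)
  refine CfsgLib.Solvable.derivedSeries_mul_nilpotent_aux _ A B hA hn hAB ?_
  rw [← Subgroup.map_subtype_commutator,
    Subgroup.card_map_of_injective (f := B.subtype) Subtype.val_injective]

end Cfsg.Agent.S0574
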