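import Cfsg.Statements.S0575
import Cfsg.Agent.Lib.Solvable.Basic

set_option autoImplicit false
open Cfsg

open scoped Pointwise

namespace Cfsg.Agent.S0575

/-- If H is a normal subgroup of a finite group G, then the Frattini subgroup of H, viewed in G, lies in the Frattini subgroup of G. -/
theorem result {G : Type*} [Group G] [Finite G] (H : Subgroup G) [H.Normal] : (frattini ↥H).map H.subtype ≤ frattini G := by
  set F := (frattini ↥H).map H.subtype
  refine le_iInf₂ fun M hM => ?_
  by_contra hFM
  have hFn : F.Normal := inferInstance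
  have htop : M ⊔ F = ⊤ := hM.2 _ (left_lt_sup.2 hFM)
  have : M.subgroupOf H ⊔ frattini ↥H = ⊤ := by
    rw [eq_top_iff]
    intro h _
    obtain ⟨f, hf, m, hm, e⟩ := CfsgLib.Solvable.exists_mul_of_mem_sup (K := F) (A := M)
      Subgroup.le_normalizer_of_normal (g := (h : G)) (by rw [sup_comm, htop]; trivial)
    obtain ⟨f', hf', rfl⟩ := hf
    have e2 : h = f' * (f'⁻¹ * h) := by group
    rw [e2]
    refine mul_mem (Subgroup.mem_sup_right hf') (Subgroup.mem_sup_left ?_)
    show ((f'⁻¹ * h : H) : G) ∈ M
    have : ((f'⁻¹ * h : H) : G) = m := by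
      show ((f' : G))⁻¹ * (h : G) = m
      rw [e]
      exact inv_mul_cancel_left _ _
    rw [this]; exact hm
  have h2 := frattini_nongenerating this
  rw [Subgroup.subgroupOf_eq_top] at h2
  exact hFM ((Subgroup.map_subtype_le _).trans h2)

end Cfsg.Agent.S0575
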