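import Cfsg.Statements.S0576
import Cfsg.Agent.Lib.Solvable.Basic

set_option autoImplicit false
open Cfsg

open scoped Pointwise

namespace Cfsg.Agent.S0576

/-- Let H be a normal subgroup of a finite group G with H contained in the Frattini subgroup of G. Then the group of inner automorphisms of H is contained in the Frattini subgroup of the automorphism group of H. -/
theorem result {G : Type*} [Group G] [Finite G] (H : Subgroup G) [H.Normal] (hH : H ≤ frattini G) : (MulAut.conj : ↥H →* MulAut ↥H).range ≤ frattini (MulAut ↥H) := by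
  refine le_iInf₂ fun M hM => ?_
  by_contra hle
  let f : G →* MulAut ↥H := MulAut.conjNormal
  have hfH : ∀ h : H, f (h : G) = MulAut.conj h := fun h => by
    ext x; simp [f]
  set R := (MulAut.conj : ↥H →* MulAut ↥H).range
  have htop : R ⊔ M = ⊤ := by
    rw [sup_comm]; exact hM.2 _ (left_lt_sup.2 hle)
  have hRn : M ≤ Subgroup.normalizer (R : Set (MulAut ↥H)) := CfsgLib.Solvable.le_normalizer_of_conj_mem fun a _ x hx => by
    obtain ⟨h, rfl⟩ := hx
    exact ⟨a h, by ext y; simp⟩
  have : M.comap f ⊔ frattini G = ⊤ := by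
    rw [eq_top_iff]
    intro g _
    obtain ⟨_, ⟨h, rfl⟩, m, hm, e⟩ := CfsgLib.Solvable.exists_mul_of_mem_sup hRn
      (g := f g) (by rw [htop]; trivial)
    have e2 : g = (h : G) * ((h : G)⁻¹ * g) := by group
    rw [e2]
    refine mul_mem (Subgroup.mem_sup_right (hH h.2)) (Subgroup.mem_sup_left ?_)
    rw [Subgroup.mem_comap, map_mul, map_inv, hfH, e, inv_mul_cancel_left]
    exact hm
  have h2 := frattini_nongenerating this
  refine hle ?_
  rintro _ ⟨h, rfl⟩
  rw [← hfH]
  exact h2.ge (Subgroup.mem_top (h : G))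

end Cfsg.Agent.S0576
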