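import Cfsg.Statements.S0578
import Cfsg.Agent.Lib.Solvable.Basic
import Cfsg.Agent.Lib.PGroup.Basic

set_option autoImplicit false
open Cfsg

open scoped Pointwise

open scoped commutatorElement

namespace Cfsg.Agent.S0578

/-- If in a finite group the normalizer of each abelian subgroup coincides with its centralizer, then the group is abelian. -/
theorem result {G : Type*} [Group G] [Finite G] (h : ∀ A : Subgroup G, IsMulCommutative A → Subgroup.normalizer (A : Set G) = Subgroup.centralizer (A : Set G)) : IsMulCommutative G := by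
  classical
  have key : ∀ (p : ℕ) [Fact p.Prime] (P : Sylow p G), IsMulCommutative P ∧
      Subgroup.normalizer ((P : Subgroup G) : Set G) ≤ Subgroup.centralizer (P : Set G) := by
    intro p _ P
    obtain ⟨A, -, hAn, hAc, hA⟩ := CfsgLib.PGroup.exists_normal_abelian_centralizer_eq P.2
      (⊥ : Subgroup P) inferInstance (fun a ha b hb => by
        rw [Subgroup.mem_bot.1 ha, Subgroup.mem_bot.1 hb])
    set A' := A.map (P : Subgroup G).subtype
    have hA'c : IsMulCommutative A' := inferInstance
    have hPA : (P : Subgroup G) ≤ Subgroup.normalizer (A' : Set G) :=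
      CfsgLib.Solvable.le_normalizer_of_conj_mem fun x hx y hy => by
        obtain ⟨z, hz, rfl⟩ := hy
        exact ⟨⟨x, hx⟩ * z * ⟨x, hx⟩⁻¹, hAn.conj_mem z hz _, by simp⟩
    rw [h A' hA'c] at hPA
    have htop : A = ⊤ := eq_top_iff.2 fun x _ => by
      rw [← hA, Subgroup.mem_centralizer_iff]
      exact fun a ha => Subtype.ext
        (Subgroup.mem_centralizer_iff.1 (hPA x.2) a (Subgroup.mem_map_of_mem _ ha))
    have hP : IsMulCommutative P := by
      constructor; constructor
      intro a b
      have ha : a ∈ A := htop ▸ Subgroup.mem_top a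
      have hb : b ∈ A := htop ▸ Subgroup.mem_top b
      exact congrArg Subtype.val (hAc.is_comm.comm ⟨a, ha⟩ ⟨b, hb⟩)
    exact ⟨hP, (h (P : Subgroup G) hP).le⟩
  suffices hb : commutator G = ⊥ by
    constructor; constructor
    intro a b
    rw [← commutatorElement_eq_one_iff_mul_comm, ← Subgroup.mem_bot, ← hb, commutator_def]
    exact Subgroup.commutator_mem_commutator (Subgroup.mem_top a) (Subgroup.mem_top b)
  by_contra hb
  have : Nontrivial (commutator G) := (commutator G).nontrivial_iff_ne_bot.2 hb
  have hp := Nat.minFac_prime (Finite.one_lt_card : 1 < Nat.card (commutator G)).ne'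
  set p := (Nat.card (commutator G)).minFac
  haveI : Fact p.Prime := ⟨hp⟩
  obtain ⟨P⟩ := (inferInstance : Nonempty (Sylow p G))
  obtain ⟨hPc, hN⟩ := key p P
  set K := (MonoidHom.transferSylow P hN).ker
  have hK : Subgroup.IsComplement' K (P : Subgroup G) :=
    MonoidHom.ker_transferSylow_isComplement' P hN
  have hle : commutator G ≤ K := by
    rw [commutator_def, Subgroup.commutator_le]
    intro a _ b _
    rw [MonoidHom.mem_ker, map_commutatorElement, commutatorElement_eq_one_iff_mul_comm]
    exact hPc.is_comm.comm _ _
  have hdK : ¬ p ∣ Nat.card K := by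
    rw [← hK.index_eq_card]; exact P.not_dvd_index
  exact hdK ((Nat.minFac_dvd _).trans (Subgroup.card_dvd_of_le hle))

end Cfsg.Agent.S0578
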