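import Cfsg.Statements.S0583
import Cfsg.Agent.Lib.Solvable.Nilpotent
import Cfsg.Agent.Lib.Cores.Fitting

set_option autoImplicit false
open Cfsg

open scoped Pointwise

namespace Cfsg.Agent.S0583

/-- In a finite group the Fitting subgroup is contained in the centralizer of each minimal normal subgroup. -/
theorem result {G : Type*} [Group G] [Finite G] (M : Subgroup G) [M.Normal] (hM : M ≠ ⊥) (hmin : ∀ K : Subgroup G, K.Normal → K ≤ M → K = ⊥ ∨ K = M) : Cfsg.fittingSubgroup G ≤ Subgroup.centralizer (M : Set G) := by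
  set F := Cfsg.fittingSubgroup G with hF
  have hFn : F.Normal := CfsgLib.Cores.fittingSubgroup_normal
  have hMF : (M ⊓ F).Normal := inferInstance
  rcases hmin (M ⊓ F) hMF inf_le_left with h | h
  · intro f hf
    refine Subgroup.mem_centralizer_iff.2 fun m hm => ?_
    have hd : Disjoint M F := disjoint_iff.2 h
    exact Subgroup.commute_of_normal_of_disjoint M F inferInstance hFn hd m f hm hf
  · have hle : M ≤ F := inf_eq_left.1 h
    have : Group.IsNilpotent F := CfsgLib.Cores.isNilpotent_fittingSubgroup
    have hne : M.subgroupOf F ≠ ⊥ := fun hb => hM (by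
      rw [Subgroup.subgroupOf_eq_bot, disjoint_iff, inf_eq_left.2 hle] at hb; exact hb)
    have hz := CfsgLib.Solvable.inf_center_ne_bot_of_isNilpotent hne
    rcases hmin (M ⊓ Subgroup.centralizer (F : Set G)) inferInstance inf_le_left with h0 | h1
    · refine absurd ?_ hz
      rw [eq_bot_iff]
      intro x hx
      have : (x : G) ∈ M ⊓ Subgroup.centralizer (F : Set G) := Subgroup.mem_inf.2 ⟨hx.1,
        Subgroup.mem_centralizer_iff.2 fun f hf =>
          congrArg Subtype.val (Subgroup.mem_center_iff.1 hx.2 ⟨f, hf⟩)⟩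
      rw [h0, Subgroup.mem_bot] at this
      exact Subgroup.mem_bot.2 (Subtype.ext this)
    · exact Subgroup.le_centralizer_iff.1 (inf_eq_left.1 h1)

end Cfsg.Agent.S0583
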