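import Cfsg.Statements.S0585
import Cfsg.Agent.Lib.Solvable.Basic

set_option autoImplicit false
open Cfsg

open scoped Pointwise

namespace Cfsg.Agent.S0585

/-- If the Frattini subgroup of a finite group G is trivial, then every abelian normal subgroup of G has a complement in G. -/
theorem result {G : Type*} [Group G] [Finite G] (hΦ : frattini G = ⊥) (A : Subgroup G) [A.Normal] [IsMulCommutative A] : ∃ H : Subgroup G, Subgroup.IsComplement' A H := by
  obtain ⟨H, hH⟩ := (Set.toFinite {H : Subgroup G | A ⊔ H = ⊤}).exists_minimal ⟨⊤, sup_top_eq A⟩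
  have htop : A ⊔ H = ⊤ := hH.1
  have hn : (A ⊓ H).Normal := by
    rw [← Subgroup.normalizer_eq_top_iff, eq_top_iff, ← htop]
    refine sup_le (CfsgLib.Solvable.le_normalizer_of_conj_mem fun a ha x hx => ?_)
      (CfsgLib.Solvable.le_normalizer_inf Subgroup.le_normalizer_of_normal Subgroup.le_normalizer)
    have : a * x = x * a := congrArg Subtype.val
      ((inferInstance : IsMulCommutative A).is_comm.comm ⟨a, ha⟩ ⟨x, hx.1⟩)
    rw [this, mul_inv_cancel_right]; exact hx
  suffices hb : A ⊓ H = ⊥ by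
    refine ⟨H, Subgroup.isComplement'_of_disjoint_and_mul_eq_univ (disjoint_iff.2 hb) ?_⟩
    rw [← Subgroup.normal_mul, htop, Subgroup.coe_top]
  rw [← le_bot_iff, ← hΦ]
  refine le_iInf₂ fun M hM => ?_
  by_contra hle
  have hMD : (A ⊓ H) ⊔ M = ⊤ := by rw [sup_comm]; exact hM.2 _ (left_lt_sup.2 hle)
  have h2 : A ⊔ (H ⊓ M) = ⊤ := by
    rw [eq_top_iff]
    intro g _
    obtain ⟨a, ha, h, hh, rfl⟩ := CfsgLib.Solvable.exists_mul_of_mem_sup (K := A) (A := H)
      Subgroup.le_normalizer_of_normal (g := g) (by rw [htop]; trivial)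
    obtain ⟨d, hd, m, hm, rfl⟩ := CfsgLib.Solvable.exists_mul_of_mem_sup (K := A ⊓ H) (A := M)
      Subgroup.le_normalizer_of_normal (g := h) (by rw [hMD]; trivial)
    have hmH : m ∈ H := by simpa using H.mul_mem (H.inv_mem hd.2) hh
    rw [← mul_assoc]
    exact mul_mem (Subgroup.mem_sup_left (mul_mem ha hd.1))
      (Subgroup.mem_sup_right (Subgroup.mem_inf.2 ⟨hmH, hm⟩))
  exact hle ((inf_le_right.trans (hH.2 h2 inf_le_left)).trans inf_le_right)

end Cfsg.Agent.S0585
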