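import Cfsg.Statements.S0586
import Cfsg.Agent.Lib.Solvable.MinimalNormal
import Cfsg.Agent.Lib.Cores.Fitting
import Cfsg.Agent.S0583
import Cfsg.Agent.S0585

set_option autoImplicit false
open Cfsg

open scoped Pointwise

namespace Cfsg.Agent.S0586

/-- If the Frattini subgroup of a finite group G is trivial, then the Fitting subgroup of G equals the join of all abelian minimal normal subgroups of G. -/
theorem result {G : Type*} [Group G] [Finite G] (hΦ : frattini G = ⊥) : Cfsg.fittingSubgroup G = sSup {N : Subgroup G | N.Normal ∧ N ≠ ⊥ ∧ IsMulCommutative N ∧ ∀ K : Subgroup G, K.Normal → K ≤ N → K = ⊥ ∨ K = N} := by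
  refine le_antisymm ?_ (sSup_le fun N hN => ?_)
  swap
  · obtain ⟨hNn, -, hNc, -⟩ := hN
    haveI := hNn
    haveI := hNc
    exact CfsgLib.Cores.le_fittingSubgroup (by open scoped IsMulCommutative in infer_instance)
  set T := {N : Subgroup G | N.Normal ∧ N ≠ ⊥ ∧ IsMulCommutative N ∧
    ∀ K : Subgroup G, K.Normal → K ≤ N → K = ⊥ ∨ K = N} with hT
  haveI : (sSup T).Normal := Subgroup.sSup_normal _ fun N hN => hN.1
  haveI hFn : (Cfsg.fittingSubgroup G).Normal := CfsgLib.Cores.fittingSubgroup_normal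
  have hTF : sSup T ≤ Cfsg.fittingSubgroup G := sSup_le fun N hN => by
    obtain ⟨hNn, -, hNc, -⟩ := hN
    haveI := hNn
    haveI := hNc
    exact CfsgLib.Cores.le_fittingSubgroup (by open scoped IsMulCommutative in infer_instance)
  have hcent : Cfsg.fittingSubgroup G ≤ Subgroup.centralizer ((sSup T : Subgroup G) : Set G) := by
    refine Subgroup.le_centralizer_iff.2 (sSup_le fun N hN => Subgroup.le_centralizer_iff.2 ?_)
    haveI := hN.1
    exact Cfsg.Agent.S0583.result N hN.2.1 hN.2.2.2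
  haveI : IsMulCommutative (sSup T : Subgroup G) := ⟨⟨fun a b => Subtype.ext
    (Subgroup.mem_centralizer_iff.1 (hcent (hTF b.2)) a a.2)⟩⟩
  obtain ⟨H, hH⟩ := Cfsg.Agent.S0585.result hΦ (sSup T)
  set D := Cfsg.fittingSubgroup G ⊓ H with hD
  haveI : D.Normal := Subgroup.normalizer_eq_top_iff.1 (top_le_iff.1 (hH.sup_eq_top.ge.trans (sup_le
    (fun x hx => CfsgLib.Solvable.mem_normalizer_of_conj_mem fun y hy => by
      rwa [Subgroup.mem_centralizer_iff.1 (hcent hy.1) x hx, mul_inv_cancel_right])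
    (CfsgLib.Solvable.le_normalizer_inf (Subgroup.normalizer_eq_top (Cfsg.fittingSubgroup G) ▸ le_top)
      Subgroup.le_normalizer))))
  have hDb : D = ⊥ := by
    by_contra hne
    obtain ⟨M, hMn, hM, hMD, hmin⟩ := CfsgLib.Solvable.exists_minimal_normal_le D hne
    haveI : Group.IsNilpotent (Cfsg.fittingSubgroup G) := CfsgLib.Cores.isNilpotent_fittingSubgroup
    have hc := CfsgLib.Solvable.commute_of_minimal_normal M hM hmin
      (CfsgLib.Solvable.isSolvable_of_le inferInstance (hMD.trans inf_le_left))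
    refine hM (eq_bot_mono (le_inf (le_sSup ?_) (hMD.trans inf_le_right)) hH.disjoint.eq_bot)
    exact ⟨hMn, hM, ⟨⟨fun a b => Subtype.ext (hc a a.2 b b.2)⟩⟩, hmin⟩
  intro f hf
  obtain ⟨x, hx, h, hh, rfl⟩ := CfsgLib.Solvable.exists_mul_of_mem_sup
    (Subgroup.normalizer_eq_top (sSup T : Subgroup G) ▸ le_top)
    (show f ∈ sSup T ⊔ H from hH.sup_eq_top.symm ▸ Subgroup.mem_top f)
  have : h ∈ D := ⟨by simpa using mul_mem (inv_mem (hTF hx)) hf, hh⟩
  rw [hDb, Subgroup.mem_bot] at this
  rwa [this, mul_one]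

end Cfsg.Agent.S0586
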