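import Cfsg.Statements.S0588
import Cfsg.Agent.Lib.Solvable.Basic
import Cfsg.Agent.Lib.PGroup.Basic

set_option autoImplicit false
open Cfsg

open scoped Pointwise

namespace Cfsg.Agent.S0588

/-- If a subgroup H of a finite group G contains the centralizer of every non-identity element of H, then the order of H is coprime to its index. -/
theorem result {G : Type*} [Group G] [Finite G] (H : Subgroup G) (h : ∀ x ∈ H, x ≠ 1 → Subgroup.centralizer ({x} : Set G) ≤ H) : (Nat.card H).Coprime H.index := by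
  rw [Nat.coprime_iff_gcd_eq_one]
  by_contra hne
  obtain ⟨p, hp, hpd⟩ := Nat.exists_prime_and_dvd hne
  haveI : Fact p.Prime := ⟨hp⟩
  obtain ⟨P⟩ := (inferInstance : Nonempty (Sylow p H))
  set P' := (P : Subgroup H).map H.subtype
  have hP'p : IsPGroup p P' := P.2.map _
  obtain ⟨n, hn⟩ := IsPGroup.iff_card.1 hP'p
  have hn1 : n ≠ 0 := by
    rintro rfl
    rw [Subgroup.card_map_of_injective H.subtype_injective, P.card_eq_multiplicity, pow_zero] at hn
    rw [Nat.pow_eq_one] at hn
    rcases hn with h1 | h1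
    · exact hp.one_lt.ne' h1
    · exact (hp.factorization_pos_of_dvd Nat.card_pos.ne'
        (hpd.trans (Nat.gcd_dvd_left _ _))).ne' h1
  have hP'c : Nat.card P' = Nat.card (P : Subgroup H) :=
    Subgroup.card_map_of_injective H.subtype_injective
  obtain ⟨R, hR, hPR⟩ := Sylow.exists_subgroup_card_pow_succ (p := p) (n := n) (H := P') (by
    rw [pow_succ, ← hn, ← H.card_mul_index, hP'c]
    exact Nat.mul_dvd_mul (P : Subgroup H).card_subgroup_dvd_card
      (hpd.trans (Nat.gcd_dvd_right _ _))) hn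
  have hRp : IsPGroup p R := IsPGroup.of_card hR
  haveI := hRp.isNilpotent
  have hPn : (P'.subgroupOf R).Normal := by
    refine CfsgLib.PGroup.normal_of_isCoatom hRp ⟨fun ht => ?_, fun J hJ => ?_⟩
    · rw [Subgroup.subgroupOf_eq_top] at ht
      have := Subgroup.card_le_of_le ht
      rw [hn, hR] at this
      exact absurd ((Nat.pow_le_pow_iff_right hp.one_lt).1 this) (by omega)
    · obtain ⟨j, hj⟩ := IsPGroup.iff_card.1 (hRp.to_subgroup J)
      have h1 := Set.Finite.card_lt_card (Set.toFinite (J : Set R)) hJ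
      have h2 := Subgroup.card_le_card_group J
      simp only [SetLike.coe_sort_coe,
        Nat.card_congr (Subgroup.subgroupOfEquivOfLe hPR).toEquiv, hn, hj] at h1
      rw [hR, hj] at h2
      have h3 := (Nat.pow_lt_pow_iff_right hp.one_lt).1 h1
      have h4 := (Nat.pow_le_pow_iff_right hp.one_lt).1 h2
      refine Subgroup.eq_top_of_card_eq _ ?_
      rw [hR, hj]; congr 1; omega
  have hne' : P'.subgroupOf R ≠ ⊥ := by
    intro hb
    have h1 : Nat.card (P'.subgroupOf R) = 1 := by rw [hb]; simp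
    rw [Nat.card_congr (Subgroup.subgroupOfEquivOfLe hPR).toEquiv, hn, Nat.pow_eq_one] at h1
    exact h1.elim hp.one_lt.ne' hn1
  obtain ⟨x, hx, hx1⟩ := ((P'.subgroupOf R ⊓ Subgroup.center R).ne_bot_iff_exists_ne_one).1
    (CfsgLib.PGroup.inf_center_ne_bot hRp _ hne') |> fun ⟨x, hx⟩ => (⟨x.1, x.2, fun h => hx (Subtype.ext h)⟩ : ∃ x ∈ P'.subgroupOf R ⊓ Subgroup.center R, x ≠ 1)
  have hxH : (x : G) ∈ H := Subgroup.map_subtype_le _ (Subgroup.mem_inf.1 hx).1
  have hRH : R ≤ H := fun r hr => h x hxH (fun e => hx1 (Subtype.ext e))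
    (Subgroup.mem_centralizer_singleton_iff.2
      (congrArg Subtype.val (Subgroup.mem_center_iff.1 (Subgroup.mem_inf.1 hx).2 ⟨r, hr⟩)))
  obtain ⟨T, hT⟩ := (hRp.of_equiv (Subgroup.subgroupOfEquivOfLe hRH).symm).exists_le_sylow
  have h5 := Subgroup.card_le_of_le hT
  rw [Nat.card_congr (Subgroup.subgroupOfEquivOfLe hRH).toEquiv, hR, T.card_eq_multiplicity,
    ← P.card_eq_multiplicity, ← hP'c, hn, Nat.pow_le_pow_iff_right hp.one_lt] at h5
  omega

end Cfsg.Agent.S0588
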