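import Cfsg.Statements.S0590
import Cfsg.Agent.Lib.PGroup.ElemAbelian

set_option autoImplicit false
open Cfsg
open scoped commutatorElement

namespace Cfsg.Agent.S0590

/-- Quadratic action on an elementary abelian p-group forces the acting group modulo the kernel of the action to be elementary abelian. -/
theorem result {G : Type*} [Group G] [Finite G] {p : ℕ} [Fact p.Prime] (V H : Subgroup G) (hV : Cfsg.IsElementaryAbelian p V) (hHV : H ≤ Subgroup.normalizer (V : Set G)) (hq : ⁅⁅V, H⁆, H⁆ = ⊥) : ⁅H, H⁆ ≤ Subgroup.centralizer (V : Set G) ∧ ∀ a ∈ H, a ^ p ∈ Subgroup.centralizer (V : Set G) := by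
  have h1 : ⁅⁅V, H⁆, H⁆ = ⊥ := hq
  have h2 : ⁅⁅H, V⁆, H⁆ = ⊥ := by rw [Subgroup.commutator_comm H V]; exact hq
  have h3 : ⁅⁅H, H⁆, V⁆ = ⊥ := Subgroup.commutator_commutator_eq_bot_of_rotate h2 h1
  refine ⟨Subgroup.commutator_eq_bot_iff_le_centralizer.1 h3, fun a ha => ?_⟩
  rw [Subgroup.mem_centralizer_iff]
  intro v hv
  rw [← commutatorElement_eq_one_iff_mul_comm]
  have hva : ⁅v, a⁆ ∈ ⁅V, H⁆ := Subgroup.commutator_mem_commutator hv ha
  have hvV : ⁅v, a⁆ ∈ V := by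
    rw [commutatorElement_def, show v * a * v⁻¹ * a⁻¹ = v * (a * v⁻¹ * a⁻¹) by group]
    exact V.mul_mem hv ((Subgroup.mem_normalizer_iff.1 (hHV ha) _).1 (V.inv_mem hv))
  have hcomm : a * ⁅v, a⁆ = ⁅v, a⁆ * a :=
    Subgroup.mem_centralizer_iff.1 (Subgroup.commutator_eq_bot_iff_le_centralizer.1 h1 hva) a ha
  have hn : ∀ n : ℕ, ⁅v, a ^ n⁆ = ⁅v, a⁆ ^ n := by
    intro n
    induction n with
    | zero => simp [commutatorElement_one_right]
    | succ n ih =>
      have hc : a * ⁅v, a⁆ ^ n = ⁅v, a⁆ ^ n * a := (Commute.pow_right hcomm n).eq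
      rw [pow_succ' a, show ⁅v, a * a ^ n⁆ = ⁅v, a⁆ * (a * ⁅v, a ^ n⁆ * a⁻¹) by
        simp only [commutatorElement_def]; group, ih, hc, mul_inv_cancel_right, pow_succ']
  rw [hn, hV.2 _ hvV]

end Cfsg.Agent.S0590
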