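import Cfsg.Statements.S0591
import Cfsg.Agent.Lib.PGroup.ElemAbelian

set_option autoImplicit false
open Cfsg
open scoped commutatorElement

namespace Cfsg.Agent.S0591

/-- For a quadratically acting element a on an elementary abelian p-group V, the fixed points C_V(a) have order at least the square root of the order of V. -/
theorem result {G : Type*} [Group G] [Finite G] {p : ℕ} [Fact p.Prime] (V : Subgroup G) (hV : Cfsg.IsElementaryAbelian p V) (a : G) (ha : a ∈ Subgroup.normalizer (V : Set G)) (hq : ⁅⁅V, Subgroup.zpowers a⁆, Subgroup.zpowers a⁆ = ⊥) : Nat.card V ≤ Nat.card ↥(V ⊓ Subgroup.centralizer (Subgroup.zpowers a : Set G)) ^ 2 := by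
  have haz := Subgroup.mem_zpowers a
  have hcm : ∀ v ∈ V, ∀ w ∈ V, v * w = w * v := fun v hv w hw => CfsgLib.PGroup.elemAb_comm hV hv hw
  have hVa : ∀ v ∈ V, ⁅v, a⁆ ∈ V := fun v hv => by
    rw [commutatorElement_def, show v * a * v⁻¹ * a⁻¹ = v * (a * v⁻¹ * a⁻¹) by group]
    exact V.mul_mem hv ((Subgroup.mem_normalizer_iff.1 ha _).1 (V.inv_mem hv))
  let f : V →* V :=
    { toFun := fun v => ⟨⁅(v : G), a⁆, hVa v v.2⟩
      map_one' := Subtype.ext (commutatorElement_one_left a)
      map_mul' := fun v w => Subtype.ext (by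
        show ⁅(v : G) * w, a⁆ = ⁅(v : G), a⁆ * ⁅(w : G), a⁆
        calc ⁅(v : G) * w, a⁆ = (v : G) * ⁅(w : G), a⁆ * (v : G)⁻¹ * ⁅(v : G), a⁆ := by
              simp only [commutatorElement_def]; group
          _ = ⁅(w : G), a⁆ * (v : G) * (v : G)⁻¹ * ⁅(v : G), a⁆ := by rw [hcm _ v.2 _ (hVa w w.2)]
          _ = ⁅(w : G), a⁆ * ⁅(v : G), a⁆ := by group
          _ = _ := hcm _ (hVa w w.2) _ (hVa v v.2)) }
  set C := V ⊓ Subgroup.centralizer (Subgroup.zpowers a : Set G) with hC
  have hker : Nat.card f.ker ≤ Nat.card C := by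
    refine Nat.card_le_card_of_injective (fun v => ⟨v.1.1, v.1.2, ?_⟩) fun v w h =>
      Subtype.ext (Subtype.ext ((Subtype.mk.injEq _ _ _ _).mp h))
    refine Subgroup.mem_centralizer_iff.2 ?_
    rintro _ ⟨i, rfl⟩
    have h1 : ⁅(v.1 : G), a⁆ = 1 := congrArg Subtype.val v.2
    exact ((Commute.symm (commutatorElement_eq_one_iff_mul_comm.1 h1)).zpow_left i).eq
  have hrange : Nat.card f.range ≤ Nat.card C := by
    refine Nat.card_le_card_of_injective (fun v => ⟨v.1.1, v.1.2, ?_⟩) fun v w h =>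
      Subtype.ext (Subtype.ext ((Subtype.mk.injEq _ _ _ _).mp h))
    obtain ⟨w, hw⟩ := v.2
    rw [← hw]
    exact Subgroup.commutator_eq_bot_iff_le_centralizer.1 hq
      (Subgroup.commutator_mem_commutator w.2 haz)
  rw [← Subgroup.card_mul_index f.ker, Subgroup.index_ker, sq]
  exact Nat.mul_le_mul hker hrange

end Cfsg.Agent.S0591
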