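import Cfsg.Statements.S0592
import Cfsg.Agent.Lib.Transfer.Plane

set_option autoImplicit false
open Cfsg
open scoped commutatorElement

namespace Cfsg.Agent.S0592

/-- Two quadratically acting generators of a linear group that is not a p-group, with the p'-part of the order of their product dividing q - 1, give a homomorphism onto a subgroup of SL(2, q) that is not a p-group. -/
theorem result {K : Type*} [Field K] [Fintype K] {p : ℕ} [Fact p.Prime] [CharP K p] {W : Type*} [AddCommGroup W] [Module K W] [FiniteDimensional K W] [Finite W] [Nontrivial W] (H : Subgroup (W ≃ₗ[K] W)) (a b : W ≃ₗ[K] W) (hH : H = Subgroup.closure {a, b}) (ha : ∀ w : W, a (a w - w) = a w - w) (hb : ∀ w : W, b (b w - w) = b w - w) (hnp : ¬ IsPGroup p H) (hk : ∃ e k : ℕ, orderOf (a * b) = p ^ e * k ∧ k ∣ Fintype.card K - 1) : ∃ φ : H →* Matrix.SpecialLinearGroup (Fin 2) K, ¬ IsPGroup p φ.range := by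
  classical
  have : Finite (W ≃ₗ[K] W) := Finite.of_injective (fun f => (f : W → W)) DFunLike.coe_injective
  obtain ⟨e, k, hord, hk⟩ := hk
  set φ : H →* Module.End K W :=
    { toFun := fun g => ((g : W ≃ₗ[K] W) : W →ₗ[K] W)
      map_one' := rfl
      map_mul' := fun _ _ => rfl } with hφ
  have hφapp : ∀ (g : H) (w : W), φ g w = (g : W ≃ₗ[K] W) w := fun _ _ => rfl
  let A : H := ⟨a, hH ▸ Subgroup.subset_closure (Or.inl rfl)⟩
  let B : H := ⟨b, hH ▸ Subgroup.subset_closure (Or.inr rfl)⟩
  have hgen : Subgroup.closure ({A, B} : Set H) = ⊤ := by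
    apply Subgroup.map_injective H.subtype_injective
    rw [MonoidHom.map_closure, ← MonoidHom.range_eq_map, Subgroup.range_subtype]
    simp [Set.image_insert_eq, A, B, hH]
  have quad : ∀ (C : H), (∀ w, (C : W ≃ₗ[K] W) ((C : W ≃ₗ[K] W) w - w) = (C : W ≃ₗ[K] W) w - w) →
      (φ C - 1) * (φ C - 1) = 0 := by
    intro C hC
    refine LinearMap.ext fun w => ?_
    simp only [Module.End.mul_apply, LinearMap.sub_apply, Module.End.one_apply, LinearMap.zero_apply,
      hφapp]
    rw [hC, sub_self]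
  have hA := quad A ha
  have hB := quad B hb
  -- the central element satisfies a split polynomial
  obtain ⟨⟨n, hn0⟩, hp, hcard⟩ := FiniteField.card K p
  have hcardK : Fintype.card K = p ^ n := hcard
  have hchar : CharP (Module.End K W) p :=
    charP_of_injective_algebraMap (algebraMap K (Module.End K W)).injective p
  set u := φ (A * B) with hu
  set v := φ (A * B)⁻¹ with hv
  have huv : Commute u v := by
    show u * v = v * u
    rw [hu, hv, ← map_mul, ← map_mul, mul_inv_cancel, inv_mul_cancel]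
  set z := (φ A - 1) * (φ B - 1) + (φ B - 1) * (φ A - 1) with hzd
  have hinv : ∀ (C : H), (φ C - 1) * (φ C - 1) = 0 → φ C⁻¹ = 2 - φ C := by
    intro C hC
    have h1 : φ C⁻¹ * φ C = 1 := by rw [← map_mul, inv_mul_cancel, map_one]
    have h2 : φ C * (2 - φ C) = 1 := by linear_combination (norm := noncomm_ring) -hC
    calc φ C⁻¹ = φ C⁻¹ * (φ C * (2 - φ C)) := by rw [h2, mul_one]
      _ = 2 - φ C := by rw [← mul_assoc, h1, one_mul]
  have hz : z = u + v - 2 := by
    rw [hu, hv, mul_inv_rev, map_mul, map_mul, hinv A hA, hinv B hB, hzd]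
    noncomm_ring
    simp [two_smul, one_add_one_eq_two]
    abel
  have hnilp : ∀ g : H, g ^ (p ^ e * k) = 1 → IsNilpotent (φ g ^ p ^ n - φ g) := by
    intro g hg
    have hq : p ^ n - 1 + 1 = p ^ n := Nat.sub_add_cancel (Nat.one_le_pow _ _ hp.pos)
    have h1 : IsNilpotent (φ g ^ (p ^ n - 1) - 1) := by
      refine ⟨p ^ e, ?_⟩
      rw [sub_pow_char_pow_of_commute _ (Commute.one_right _) (n := e), one_pow, ← pow_mul, ← map_pow,
        sub_eq_zero]
      obtain ⟨m, hm⟩ := hcardK ▸ hk
      rw [hm, show k * m * p ^ e = p ^ e * k * m by ring, pow_mul, hg, one_pow, map_one]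
    have h2 : φ g ^ p ^ n - φ g = φ g * (φ g ^ (p ^ n - 1) - 1) := by
      rw [mul_sub, mul_one, ← pow_succ', hq]
    rw [h2]
    exact ((Commute.refl (φ g)).pow_right _ |>.sub_right (Commute.one_right _)).isNilpotent_mul_left h1
  have hAB : (A * B) ^ (p ^ e * k) = 1 := by
    have : ((A * B : H) : W ≃ₗ[K] W) ^ (p ^ e * k) = 1 := by
      rw [← hord]
      exact pow_orderOf_eq_one _
    exact Subtype.ext (by simpa using this)
  have hzn : IsNilpotent (z ^ p ^ n - z) := by
    have h2 : (2 : Module.End K W) ^ p ^ n = 2 := by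
      rw [show (2 : Module.End K W) = algebraMap K _ 2 by simp [map_ofNat], ← map_pow, ← hcardK,
        FiniteField.pow_card]
    have e1 : z ^ p ^ n = u ^ p ^ n + v ^ p ^ n - 2 := by
      rw [hz, sub_pow_char_pow_of_commute (p := p) (n := (n : ℕ)) (Commute.ofNat_right _ 2),
        add_pow_char_pow_of_commute (p := p) (n := (n : ℕ)) huv, h2]
    have e2 : z ^ p ^ n - z = (u ^ p ^ n - u) + (v ^ p ^ n - v) := by
      rw [e1, hz]; abel
    rw [e2]
    refine Commute.isNilpotent_add ?_ (hnilp _ hAB) (hnilp _ (by rw [inv_pow, hAB, inv_one]))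
    exact Commute.sub_right
      (Commute.sub_left (huv.pow_pow _ _) (huv.pow_right _))
      (Commute.sub_left (huv.pow_left _) huv)
  obtain ⟨N, hN⟩ := hzn
  -- some element is not unipotent
  obtain ⟨h, hh⟩ : ∃ h : H, ∀ j : ℕ, h ^ p ^ j ≠ 1 := by
    by_contra hcon
    push Not at hcon
    exact hnp hcon
  have hq1 : 1 < p ^ n := Nat.one_lt_pow hn0.ne' hp.one_lt
  have hsplit : ((Polynomial.X ^ p ^ (n : ℕ) - Polynomial.X : Polynomial K) ^ N).Splits := by
    refine Polynomial.Splits.pow ?_ N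
    have : Polynomial.Splits (Polynomial.X ^ Fintype.card K - Polynomial.X : Polynomial K) :=
      Polynomial.splits_iff_card_roots.2 (by
        rw [FiniteField.roots_X_pow_card_sub_X, FiniteField.X_pow_card_sub_X_natDegree_eq _ (Fintype.one_lt_card)]
        simp)
    rwa [hcardK] at this
  obtain ⟨ρ, c, hstd, hρ⟩ := CfsgLib.Transfer.exists_plane_of_elem (p := p) hgen h _ W φ rfl hA hB
    ⟨(Polynomial.X ^ p ^ n - Polynomial.X) ^ N, pow_ne_zero _ (FiniteField.X_pow_card_sub_X_ne_zero K hq1),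
      hsplit, by simpa using hN⟩ (fun j hj => hh j (Subtype.ext (LinearEquiv.toLinearMap_injective hj)))
  refine ⟨CfsgLib.Transfer.toSL2 ρ hstd.det_eq_one, fun hP => ?_⟩
  obtain ⟨j, hj⟩ := hP ⟨_, h, rfl⟩
  refine hρ j ?_
  have h1 : (CfsgLib.Transfer.toSL2 ρ hstd.det_eq_one) (h ^ p ^ j) = 1 := by
    rw [map_pow]
    exact congrArg Subtype.val hj
  exact congrArg Subtype.val h1

end Cfsg.Agent.S0592
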