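import Cfsg.Statements.S0593
import Cfsg.Agent.Lib.Transfer.PlaneGroup

set_option autoImplicit false
open Cfsg
open scoped commutatorElement

namespace Cfsg.Agent.S0593

/-- For odd p, a faithful group on an elementary abelian p-group generated by two quadratically acting elements is a p-group or has non-abelian Sylow 2-subgroups. -/
theorem result {G : Type*} [Group G] [Finite G] {p : ℕ} [Fact p.Prime] (hp : p ≠ 2) (V H : Subgroup G) (hV : Cfsg.IsElementaryAbelian p V) (hHV : H ≤ Subgroup.normalizer (V : Set G)) (hf : H ⊓ Subgroup.centralizer (V : Set G) = ⊥) (a b : G) (hab : H = Subgroup.closure {a, b}) (ha : ⁅⁅V, Subgroup.zpowers a⁆, Subgroup.zpowers a⁆ = ⊥) (hb : ⁅⁅V, Subgroup.zpowers b⁆, Subgroup.zpowers b⁆ = ⊥) (hnp : ¬ IsPGroup p H) (T : Sylow 2 H) : ¬ IsMulCommutative T := by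
  intro hab'' 
  have hab' := hab
  clear hab
  have hab := hab''
  apply hnp
  intro ⟨h, hh⟩
  have hVp : IsPGroup p V := CfsgLib.PGroup.elemAb_isPGroup hV
  have haH : a ∈ H := hab' ▸ Subgroup.subset_closure (Or.inl rfl)
  have hbH : b ∈ H := hab' ▸ Subgroup.subset_closure (Or.inr rfl)
  subst hab'
  have habT : ∀ T' : Sylow 2 ↥(Subgroup.closure ({a, b} : Set G)), IsMulCommutative T' := fun T' => by
    obtain ⟨g, rfl⟩ := MulAction.exists_smul_eq (↥(Subgroup.closure ({a, b} : Set G))) T T'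
    refine ⟨⟨?_⟩⟩
    rintro ⟨x, hx⟩ ⟨y, hy⟩
    rw [Sylow.coe_subgroup_smul, CfsgLib.Solvable.mem_conj_smul_iff] at hx hy
    have h1 : (g⁻¹ * x * g) * (g⁻¹ * y * g) = (g⁻¹ * y * g) * (g⁻¹ * x * g) :=
      congrArg Subtype.val (hab.is_comm.comm ⟨_, hx⟩ ⟨_, hy⟩)
    apply Subtype.ext
    show x * y = y * x
    calc x * y = g * ((g⁻¹ * x * g) * (g⁻¹ * y * g)) * g⁻¹ := by group
      _ = g * ((g⁻¹ * y * g) * (g⁻¹ * x * g)) * g⁻¹ := by rw [h1]
      _ = y * x := by group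
  obtain ⟨k, hk⟩ := CfsgLib.PStab.exists_pow_mem_centralizer_of_quad_pair hVp (hHV haH) (hHV hbH)
    ((CfsgLib.PStab.isQuad_iff (hHV haH)).2 ha) ((CfsgLib.PStab.isQuad_iff (hHV hbH)).2 hb)
    (CfsgLib.Transfer.planeTame_of_stdFree (CfsgLib.Transfer.stdFree_of_abelian_two hp habT)) hh
  have h1 : h ^ p ^ k ∈ Subgroup.closure ({a, b} : Set G) ⊓ Subgroup.centralizer (V : Set G) :=
    ⟨pow_mem hh _, hk⟩
  rw [hf, Subgroup.mem_bot] at h1
  exact ⟨k, Subtype.ext h1⟩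

end Cfsg.Agent.S0593
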