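import Cfsg.Statements.S0594
import Cfsg.Agent.Lib.Transfer.PlaneGroup

set_option autoImplicit false
open Cfsg
open scoped commutatorElement

namespace Cfsg.Agent.S0594

/-- For odd p, two quadratic generators of a faithful group that is not a p-group, one of which acts nontrivially on a normal subgroup of order prime to p, force p = 3 and a section isomorphic to SL(2,3). -/
theorem result {G : Type*} [Group G] [Finite G] {p : ℕ} [Fact p.Prime] (hp : p ≠ 2) (V H : Subgroup G) (hV : Cfsg.IsElementaryAbelian p V) (hHV : H ≤ Subgroup.normalizer (V : Set G)) (hf : H ⊓ Subgroup.centralizer (V : Set G) = ⊥) (a b : G) (hab : H = Subgroup.closure {a, b}) (ha : ⁅⁅V, Subgroup.zpowers a⁆, Subgroup.zpowers a⁆ = ⊥) (hb : ⁅⁅V, Subgroup.zpowers b⁆, Subgroup.zpowers b⁆ = ⊥) (hnp : ¬ IsPGroup p H) (Q : Subgroup G) (hQH : Q ≤ H) (hQn : H ≤ Subgroup.normalizer (Q : Set G)) (hQ : (Nat.card Q).Coprime p) (hQa : ⁅Q, Subgroup.zpowers a⁆ ≠ ⊥) : p = 3 ∧ ∃ (K L : Subgroup G) (hL : (L.subgroupOf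 K).Normal), K ≤ H ∧ Nonempty ((K ⧸ L.subgroupOf K) ≃* Matrix.SpecialLinearGroup (Fin 2) (ZMod 3)) := by
  subst hab
  have haH : a ∈ Subgroup.closure ({a, b} : Set G) := Subgroup.subset_closure (Or.inl rfl)
  have hbH : b ∈ Subgroup.closure ({a, b} : Set G) := Subgroup.subset_closure (Or.inr rfl)
  obtain ⟨q, hq, hqa⟩ : ∃ q ∈ Q, q * a ≠ a * q := by
    by_contra hcon
    push Not at hcon
    refine hQa (Subgroup.commutator_eq_bot_iff_le_centralizer.2 fun q hq => ?_)
    refine Subgroup.mem_centralizer_iff.2 ?_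
    rintro _ ⟨i, rfl⟩
    exact (Commute.zpow_left (show Commute a q from (hcon q hq).symm) i).eq
  set h := ⁅q, a⁆ with hh
  have hhQ : h ∈ Q := by
    rw [hh, commutatorElement_def, mul_assoc, mul_assoc]
    exact mul_mem hq (by
      rw [← mul_assoc]
      exact (Subgroup.mem_normalizer_iff.1 (hQn haH) _).1 (inv_mem hq))
  have hcop : (orderOf h).Coprime p := hQ.coprime_dvd_left (Subgroup.orderOf_dvd_natCard _ hhQ)
  obtain ⟨ρ, c, hstd, hρ⟩ := CfsgLib.Transfer.exists_plane_of_quad_group hV (hHV haH) (hHV hbH)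
    ((CfsgLib.PStab.isQuad_iff (hHV haH)).2 ha) ((CfsgLib.PStab.isQuad_iff (hHV hbH)).2 hb)
    (hQH hhQ) (fun k hk => by
      have h1 : h ^ p ^ k ∈ Subgroup.closure ({a, b} : Set G) ⊓ Subgroup.centralizer (V : Set G) :=
        ⟨pow_mem (hQH hhQ) _, hk⟩
      rw [hf, Subgroup.mem_bot] at h1
      have h2 : orderOf h = 1 := Nat.eq_one_of_dvd_coprimes (hcop.pow_right k) dvd_rfl
        (orderOf_dvd_of_pow_eq_one h1)
      rw [orderOf_eq_one_iff, hh, commutatorElement_eq_one_iff_mul_comm] at h2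
      exact hqa h2)
  set φ := CfsgLib.Transfer.toSL2 ρ hstd.det_eq_one
  have : Finite φ.range := Finite.of_surjective φ.rangeRestrict φ.rangeRestrict_surjective
  set Q' := (Q.subgroupOf (Subgroup.closure ({a, b} : Set G))).map φ.rangeRestrict with hQ'
  have hQn' : (Q.subgroupOf (Subgroup.closure ({a, b} : Set G))).Normal := (Subgroup.normal_subgroupOf_iff_le_normalizer hQH).2 hQn
  obtain ⟨h3, hsl⟩ := CfsgLib.Transfer.eq_three_of_noncentral hp φ.range.subtype
    φ.range.subtype_injective (A := φ.rangeRestrict ⟨a, haH⟩) hstd.ne hstd.mapA (Q := Q')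
    (by
      have : Q'.Normal := hQn'.map _ φ.rangeRestrict_surjective
      rw [Subgroup.normalizer_eq_top]; exact Subgroup.mem_top _)
    (hQ.coprime_dvd_left ((Subgroup.card_map_dvd _ _).trans
      (Nat.card_congr (Subgroup.subgroupOfEquivOfLe hQH).toEquiv).dvd))
    (by
      intro hc
      have h1 := Subgroup.mem_centralizer_iff.1 hc (φ.rangeRestrict ⟨q, hQH hq⟩)
        ⟨⟨q, hQH hq⟩, hq, rfl⟩
      rw [← commutatorElement_eq_one_iff_mul_comm, ← map_commutatorElement] at h1
      refine hρ 0 ?_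
      rw [pow_zero, pow_one]
      have h2 := congrArg (fun x : φ.range => ((φ.range.subtype x) : Matrix (Fin 2) (Fin 2) (AlgebraicClosure (ZMod p)))) h1
      exact h2)
  obtain ⟨K, L, hL, hK, hiso⟩ :=
    ((hsl.of_surjective φ.rangeRestrict_surjective).exists_section h3)
  exact ⟨h3, K, L, hL, hK, hiso⟩

end Cfsg.Agent.S0594
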