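import Cfsg.Statements.S0597
import Cfsg.Agent.Lib.Transfer.SubnormalJoin
import Cfsg.Agent.Lib.Solvable.CoprimeAction
import Cfsg.Agent.Lib.Cores.Coprime
import Cfsg.Agent.Lib.PGroup.ElemAbelian

set_option autoImplicit false
open Cfsg
open scoped commutatorElement

namespace Cfsg.Agent.S0597

/-- If two subnormal subgroups of a faithful group on an elementary abelian p-group satisfy [V, E₁, E₂] = 1, then their commutator lies in the largest normal p-subgroup. -/
theorem result {G : Type*} [Group G] [Finite G] {p : ℕ} [Fact p.Prime] (V H : Subgroup G) (hV : Cfsg.IsElementaryAbelian p V) (hHV : H ≤ Subgroup.normalizer (V : Set G)) (hf : H ⊓ Subgroup.centralizer (V : Set G) = ⊥) (E₁ E₂ : Subgroup G) (h₁ : E₁ ≤ H) (h₂ : E₂ ≤ H) (hs₁ : (E₁.subgroupOf H).IsSubnormal) (hs₂ : (E₂.subgroupOf H).IsSubnormal) (hc : ⁅⁅V, E₁⁆, E₂⁆ = ⊥) : ⁅E₁, E₂⁆ ≤ (Cfsg.pCore p H).map H.subtype := by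
  set W := ⁅V, E₁⁆
  have hWV : W ≤ V := Subgroup.commutator_le.2 fun v hv e he => by
    rw [commutatorElement_def, show v * e * v⁻¹ * e⁻¹ = v * (e * v⁻¹ * e⁻¹) by group]
    exact V.mul_mem hv ((Subgroup.mem_normalizer_iff.1 (hHV (h₁ he)) _).1 (V.inv_mem hv))
  have hE1W : E₁ ≤ Subgroup.normalizer (W : Set G) := by
    intro e he
    have hmap : ∀ e ∈ E₁, ∀ w ∈ W, e * w * e⁻¹ ∈ W := by
      intro e he w hw
      have h1 : W.map (MulAut.conj e).toMonoidHom ≤ W := by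
        rw [Subgroup.map_commutator]
        refine Subgroup.commutator_mono ?_ ?_
        · rintro _ ⟨v, hv, rfl⟩
          exact (Subgroup.mem_normalizer_iff.1 (hHV (h₁ he)) v).1 hv
        · rintro _ ⟨x, hx, rfl⟩
          exact E₁.mul_mem (E₁.mul_mem he hx) (E₁.inv_mem he)
      exact h1 ⟨w, hw, rfl⟩
    refine Subgroup.mem_normalizer_iff.2 fun w => ⟨hmap e he w, fun h => ?_⟩
    have := hmap e⁻¹ (E₁.inv_mem he) _ h
    simpa [mul_assoc] using this
  have hE2W : E₂ ≤ Subgroup.centralizer (W : Set G) :=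
    Subgroup.le_centralizer_iff.1 (Subgroup.commutator_eq_bot_iff_le_centralizer.1 hc)
  set E := E₁ ⊔ E₂
  have hEW : E ≤ Subgroup.normalizer (W : Set G) :=
    sup_le hE1W (hE2W.trans (Subgroup.centralizer_le_normalizer _))
  have hEH : E ≤ H := sup_le h₁ h₂
  set X := ⁅E₁, E₂⁆ with hXdef
  have hXE : X ≤ E := (Subgroup.commutator_mono le_sup_left le_sup_right).trans E.commutator_le_self
  have hXW : X ≤ Subgroup.centralizer (W : Set G) := Subgroup.commutator_le.2 fun a ha b hb => by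
    have hn : a * b * a⁻¹ ∈ Subgroup.centralizer (W : Set G) := by
      refine Subgroup.mem_centralizer_iff.2 fun w hw => ?_
      have := Subgroup.mem_centralizer_iff.1 (hE2W hb) (a⁻¹ * w * a)
        ((Subgroup.mem_normalizer_iff''.1 (hE1W ha) w).1 hw)
      calc w * (a * b * a⁻¹) = a * (a⁻¹ * w * a * b) * a⁻¹ := by group
        _ = a * (b * (a⁻¹ * w * a)) * a⁻¹ := by rw [this]
        _ = _ := by group
    exact mul_mem hn (inv_mem (hE2W hb))
  -- elements of `E` moving `V` only inside `W`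
  have hXV : ∀ x ∈ X, ∀ v ∈ V, ⁅v, x⁆ ∈ W := by
    have hL1 : ∀ a ∈ E₁, ∀ v ∈ V, ⁅v, a⁆ ∈ W := fun a ha v hv => Subgroup.commutator_mem_commutator hv ha
    have hmul : ∀ y ∈ E, ∀ z, (∀ v ∈ V, ⁅v, y⁆ ∈ W) → (∀ v ∈ V, ⁅v, z⁆ ∈ W) → ∀ v ∈ V, ⁅v, y * z⁆ ∈ W := by
      intro y hy z h1 h2 v hv
      rw [show ⁅v, y * z⁆ = ⁅v, y⁆ * (y * ⁅v, z⁆ * y⁻¹) by simp only [commutatorElement_def]; group]
      exact W.mul_mem (h1 v hv) ((Subgroup.mem_normalizer_iff.1 (hEW hy) _).1 (h2 v hv))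
    have hconj : ∀ y, (∀ v ∈ V, ⁅v, y⁆ ∈ W) → ∀ z ∈ E, ∀ v ∈ V, ⁅v, z * y * z⁻¹⁆ ∈ W := by
      intro y hy z hz v hv
      rw [show ⁅v, z * y * z⁻¹⁆ = z * ⁅z⁻¹ * v * z, y⁆ * z⁻¹ by simp only [commutatorElement_def]; group]
      exact (Subgroup.mem_normalizer_iff.1 (hEW hz) _).1
        (hy _ ((Subgroup.mem_normalizer_iff''.1 (hHV (hEH hz)) v).1 hv))
    intro x hx
    rw [hXdef, Subgroup.commutator_def] at hx
    induction hx using Subgroup.closure_induction with
    | mem y hy =>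
      obtain ⟨a, ha, b, hb, rfl⟩ := hy
      rw [show (⁅a, b⁆ : G) = a * (b * a⁻¹ * b⁻¹) by rw [commutatorElement_def]; group]
      exact hmul a (Subgroup.mem_sup_left ha) _ (hL1 a ha)
        (hconj _ (hL1 _ (E₁.inv_mem ha)) b (Subgroup.mem_sup_right hb))
    | one => exact fun v _ => by rw [commutatorElement_one_right]; exact W.one_mem
    | mul y z hy _ iy iz =>
      exact hmul y (hXE (by rw [hXdef, Subgroup.commutator_def]; exact hy)) z iy iz
    | inv y hy iy =>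
      intro v hv
      have hyE : y ∈ E := hXE (by rw [hXdef, Subgroup.commutator_def]; exact hy)
      rw [show ⁅v, y⁻¹⁆ = y⁻¹ * ⁅v, y⁆⁻¹ * (y⁻¹)⁻¹ by simp only [commutatorElement_def]; group]
      exact (Subgroup.mem_normalizer_iff.1 (hEW (E.inv_mem hyE)) _).1 (W.inv_mem (iy v hv))
  have hexp : ∀ x ∈ X, x ^ p = 1 := by
    intro x hx
    have hmem : x ^ p ∈ H ⊓ Subgroup.centralizer (V : Set G) := by
      refine ⟨H.pow_mem (hEH (hXE hx)) p, Subgroup.mem_centralizer_iff.2 fun v hv => ?_⟩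
      rw [← commutatorElement_eq_one_iff_mul_comm]
      have hcm : x * ⁅v, x⁆ = ⁅v, x⁆ * x :=
        (Subgroup.mem_centralizer_iff.1 (hXW hx) _ (hXV x hx v hv)).symm
      have hn : ∀ n : ℕ, ⁅v, x ^ n⁆ = ⁅v, x⁆ ^ n := by
        intro n
        induction n with
        | zero => simp [commutatorElement_one_right]
        | succ n ih =>
          have hc' : x * ⁅v, x⁆ ^ n = ⁅v, x⁆ ^ n * x := (Commute.pow_right hcm n).eq
          rw [pow_succ' x, show ⁅v, x * x ^ n⁆ = ⁅v, x⁆ * (x * ⁅v, x ^ n⁆ * x⁻¹) by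
            simp only [commutatorElement_def]; group, ih, hc', mul_inv_cancel_right, pow_succ']
      rw [hn, hV.2 _ (hWV (hXV x hx v hv))]
    rw [hf, Subgroup.mem_bot] at hmem
    exact hmem
  have hsE : (E.subgroupOf H).IsSubnormal := by
    rw [show E.subgroupOf H = E₁.subgroupOf H ⊔ E₂.subgroupOf H from Subgroup.subgroupOf_sup h₁ h₂]
    exact CfsgLib.Transfer.sup_isSubnormal hs₁ hs₂
  have hXn : E ≤ Subgroup.normalizer (X : Set G) := by
    refine sup_le ?_ ?_
    · exact CfsgLib.Solvable.le_normalizer_commutator_left E₁ E₂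
    · rw [hXdef, Subgroup.commutator_comm E₁ E₂]
      exact CfsgLib.Solvable.le_normalizer_commutator_left E₂ E₁
  have hsX : (X.subgroupOf H).IsSubnormal := by
    refine Subgroup.IsSubnormal.trans (fun x hx => hXE hx : X.subgroupOf H ≤ E.subgroupOf H) ?_ hsE
    refine Subgroup.Normal.isSubnormal ((Subgroup.normal_subgroupOf_iff_le_normalizer
      (fun x hx => hXE hx : X.subgroupOf H ≤ E.subgroupOf H)).2 fun y hy => ?_)
    exact Subgroup.mem_normalizer_iff.2 fun x => Subgroup.mem_normalizer_iff.1 (hXn hy) x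
  have hXp : IsPGroup p (X.subgroupOf H) := fun x => ⟨1, by
    rw [pow_one]; exact Subtype.ext (Subtype.ext (hexp _ x.2))⟩
  intro x hx
  exact ⟨⟨x, hEH (hXE hx)⟩, CfsgLib.Cores.le_pCore_of_isSubnormal hsX hXp hx, rfl⟩

end Cfsg.Agent.S0597
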