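import Cfsg.Statements.S0617
import Cfsg.Agent.Lib.PStab.Offender.Structure

set_option autoImplicit false
open Cfsg
open scoped commutatorElement

namespace Cfsg.Agent.S0617

/-- Structure Theorem for failure of factorization: a faithful group generated by best offenders, with self-centralizing p'-core, is a direct product of copies of SL(2, p) (p = 2 or 3), each acting on its own plane in V, which is the direct product of these planes and C_V(H). -/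
theorem result {G : Type*} [Group G] [Finite G] {p : ℕ} [Fact p.Prime] (V H : Subgroup G) (hV : Cfsg.IsElementaryAbelian p V) (hHV : H ≤ Subgroup.normalizer (V : Set G)) (hf : H ⊓ Subgroup.centralizer (V : Set G) = ⊥) (hS1 : Subgroup.centralizer (Cfsg.pPrimeCore p ↥H : Set ↥H) ≤ Cfsg.pPrimeCore p ↥H) (hS3 : H = ⨆ A : {A : Subgroup G // A ≤ H ∧ Cfsg.IsBestOffenderOn p V A}, (A : Subgroup G)) (hH1 : H ≠ ⊥) : (p = 2 ∨ p = 3) ∧ (∀ E : {E : Subgroup G // ∃ A : Subgroup G, A ≤ H ∧ Cfsg.IsBestOffenderOn p V A ∧ ⁅V, A⁆ ≠ ⊥ ∧ (∀ B : Subgroup G, B ≤ A → Cfsg.IsBestOffenderOn p V B → ⁅V, B⁆ ≠ ⊥ → B = A) ∧ E = ⁅((Cfsg.pPrimeCore p ↥H).map H.subtype), A⁆ ⊔ A}, H ≤ Subgroup.normalizer ((E : Subgroup G) : Set G) ∧ Nonempty (↥(E : Subgroup G) ≃* Matrix.SpecialLinearGroup (Fin 2) (ZMod p)) ∧ Nat.card ↥(⁅V, (E : Subgroup G)⁆) = p ^ 2) ∧ iSupIndep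 (fun E : {E : Subgroup G // ∃ A : Subgroup G, A ≤ H ∧ Cfsg.IsBestOffenderOn p V A ∧ ⁅V, A⁆ ≠ ⊥ ∧ (∀ B : Subgroup G, B ≤ A → Cfsg.IsBestOffenderOn p V B → ⁅V, B⁆ ≠ ⊥ → B = A) ∧ E = ⁅((Cfsg.pPrimeCore p ↥H).map H.subtype), A⁆ ⊔ A} => (E : Subgroup G)) ∧ (⨆ E : {E : Subgroup G // ∃ A : Subgroup G, A ≤ H ∧ Cfsg.IsBestOffenderOn p V A ∧ ⁅V, A⁆ ≠ ⊥ ∧ (∀ B : Subgroup G, B ≤ A → Cfsg.IsBestOffenderOn p V B → ⁅V, B⁆ ≠ ⊥ → B = A) ∧ E = ⁅((Cfsg.pPrimeCore p ↥H).map H.subtype), A⁆ ⊔ A}, (E : Subgroup G)) = H ∧ iSupIndep (fun o : Option {E : Subgroup G // ∃ A : Subgroup G, A ≤ H ∧ Cfsg.IsBestOffenderOn p V A ∧ ⁅V, A⁆ ≠ ⊥ ∧ (∀ B : Subgroup G, B ≤ A → Cfsg.IsBestOffenderOn p V B → ⁅V, B⁆ ≠ ⊥ → B = A) ∧ E = ⁅((Cfsg.pPrimeCore p ↥H).map H.subtype), A⁆ ⊔ A} => o.elim (V ⊓ Subgroup.centralizer (H : Set G)) (fun E => ⁅V, (E : Subgroup G)⁆)) ∧ (V ⊓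 Subgroup.centralizer (H : Set G)) ⊔ (⨆ E : {E : Subgroup G // ∃ A : Subgroup G, A ≤ H ∧ Cfsg.IsBestOffenderOn p V A ∧ ⁅V, A⁆ ≠ ⊥ ∧ (∀ B : Subgroup G, B ≤ A → Cfsg.IsBestOffenderOn p V B → ⁅V, B⁆ ≠ ⊥ → B = A) ∧ E = ⁅((Cfsg.pPrimeCore p ↥H).map H.subtype), A⁆ ⊔ A}, ⁅V, (E : Subgroup G)⁆) = V := by
  have hS := CfsgLib.PStab.BestOff.setup_of_pPrimeCore hV hHV hf hS1
  have hgen := hS.le_sSup_of_generated hS3
  obtain ⟨T, hT⟩ := hS.exists_isTr hgen hH1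
  set P : Subgroup G → Prop := fun E => ∃ A : Subgroup G, A ≤ H ∧ Cfsg.IsBestOffenderOn p V A ∧
    ⁅V, A⁆ ≠ ⊥ ∧ (∀ B : Subgroup G, B ≤ A → Cfsg.IsBestOffenderOn p V B → ⁅V, B⁆ ≠ ⊥ → B = A) ∧
    E = ⁅((Cfsg.pPrimeCore p ↥H).map H.subtype), A⁆ ⊔ A with hP
  have hinj : Function.Injective (fun E : {E : Subgroup G // P E} => (E : Subgroup G)) :=
    Subtype.val_injective
  have hf' : ∀ E : {E : Subgroup G // P E}, ∃ T,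
      CfsgLib.PStab.BestOff.CompHyp p V H ((Cfsg.pPrimeCore p ↥H).map H.subtype) T ∧
      (E : Subgroup G) = CfsgLib.PStab.BestOff.comp ((Cfsg.pPrimeCore p ↥H).map H.subtype) T := by
    rintro ⟨E, A, hAH, hA, hAV, hmin, he⟩
    exact ⟨A, ⟨hS, hAH, hS.isTr_of_minimal hAH hA hAV hmin⟩, he⟩
  have hall : ∀ T, CfsgLib.PStab.BestOff.CompHyp p V H ((Cfsg.pPrimeCore p ↥H).map H.subtype) T →
      ∃ E : {E : Subgroup G // P E},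
        (E : Subgroup G) = CfsgLib.PStab.BestOff.comp ((Cfsg.pPrimeCore p ↥H).map H.subtype) T := by
    intro T hT
    obtain ⟨h1, h2, h3⟩ := hS.minimal_of_isTr hT.tr hT.le
    exact ⟨⟨_, T, hT.le, h1, h2, h3, rfl⟩, rfl⟩
  refine ⟨hT.p_cases, fun E => ?_, CfsgLib.PStab.BestOff.Setup.iSupIndep_comp hgen hinj hf',
    CfsgLib.PStab.BestOff.Setup.iSup_comp hgen hS hf' hall,
    hS.iSupIndep_plane hgen hinj hf', hS.iSup_plane hgen hinj hf' hall⟩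
  obtain ⟨A, hA, he⟩ := hf' E
  rw [he]
  exact ⟨hA.le_normalizer_comp hgen, hA.iso, hA.plane_card⟩

end Cfsg.Agent.S0617
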