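import Cfsg.Statements.S0618
import Cfsg.Agent.Lib.PStab.Offender.Factorization

set_option autoImplicit false
open Cfsg
open scoped commutatorElement

namespace Cfsg.Agent.S0618

/-- A p-separable group with trivial p'-core in which the Thompson factorization fails has p = 2 or 3, and J(G) induces on the normal closure of Ω₁(Z(S)) a group containing a normal SL(2, p). -/
theorem result {G : Type*} [Group G] [Finite G] {p : ℕ} [Fact p.Prime] (hsep : Cfsg.IsPSolvable p G) (hO : Cfsg.pPrimeCore p G = ⊥) (hnf : ¬ Cfsg.IsThompsonFactorizable p G) : (p = 2 ∨ p = 3) ∧ ∃ E : Subgroup G, Subgroup.centralizer ((⨆ S : Sylow p G, Cfsg.omegaOne p ((S : Subgroup G) ⊓ Subgroup.centralizer ((S : Subgroup G) : Set G))) : Set G) ≤ E ∧ E ≤ Cfsg.thompsonSubgroup p G ⊔ Subgroup.centralizer ((⨆ S : Sylow p G, Cfsg.omegaOne p ((S : Subgroup G) ⊓ Subgroup.centralizer ((S : Subgroup G) : Set G))) : Set G) ∧ Cfsg.thompsonSubgroup p G ⊔ Subgroup.centralizer ((⨆ S : Sylow p G, Cfsg.omegaOne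 p ((S : Subgroup G) ⊓ Subgroup.centralizer ((S : Subgroup G) : Set G))) : Set G) ≤ Subgroup.normalizer (E : Set G) ∧ ∃ hn : ((Subgroup.centralizer ((⨆ S : Sylow p G, Cfsg.omegaOne p ((S : Subgroup G) ⊓ Subgroup.centralizer ((S : Subgroup G) : Set G))) : Set G)).subgroupOf E).Normal, Nonempty ((↥E ⧸ (Subgroup.centralizer ((⨆ S : Sylow p G, Cfsg.omegaOne p ((S : Subgroup G) ⊓ Subgroup.centralizer ((S : Subgroup G) : Set G))) : Set G)).subgroupOf E) ≃* Matrix.SpecialLinearGroup (Fin 2) (ZMod p)) := by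
  obtain ⟨hDn, hDe, hD⟩ := Cfsg.Agent.S0601.result
    (CfsgLib.Transfer.centralizer_pCore_le_of_isPSolvable hsep hO)
  set D := ⨆ S : Sylow p G, Cfsg.omegaOne p ((S : Subgroup G) ⊓
    Subgroup.centralizer ((S : Subgroup G) : Set G))
  haveI : D.Normal := hDn
  have hOC := CfsgLib.Transfer.pCore_quotient_centralizer_eq_bot D hD
  obtain ⟨hS, hgen⟩ := CfsgLib.PStab.BestOff.semiJ_setup hDe hsep hOC
  have hne : CfsgLib.PStab.BestOff.semiJ D p ≠ ⊥ := by
    intro h
    refine hnf ((CfsgLib.Transfer.isThompsonFactorizable_iff hO).2 ?_)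
    rw [CfsgLib.PStab.BestOff.semiJ, CfsgLib.PStab.BestOff.semiMap,
      Subgroup.map_eq_bot_iff_of_injective _ SemidirectProduct.inr_injective,
      Subgroup.map_eq_bot_iff, QuotientGroup.ker_mk'] at h
    exact h
  obtain ⟨T, hT⟩ := hS.exists_isTr hgen hne
  have hcen : Subgroup.centralizer ((⨆ S : Sylow p G, Cfsg.omegaOne p ((S : Subgroup G) ⊓
      Subgroup.centralizer ((S : Subgroup G) : Set G))) : Set G) =
      Subgroup.centralizer (D : Set G) := by
    refine le_antisymm (Subgroup.le_centralizer_iff.2 (iSup_le fun S y hy => ?_))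
      (Subgroup.centralizer_le (iSup_le fun S y hy => Subgroup.mem_iSup_of_mem S hy))
    exact Subgroup.mem_centralizer_iff.2 fun c hc =>
      (Subgroup.mem_centralizer_iff.1 hc y (Set.mem_iUnion.2 ⟨S, hy⟩)).symm
  rw [hcen]
  exact ⟨hT.p_cases, CfsgLib.PStab.BestOff.exists_preimage hT hgen⟩

end Cfsg.Agent.S0618
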