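import Cfsg.Statements.S0619
import Cfsg.Agent.Lib.PStab.Offender.Embed

set_option autoImplicit false
open Cfsg
open scoped commutatorElement

namespace Cfsg.Agent.S0619

/-- For a p-separable group and a normal elementary abelian p-subgroup V with no nontrivial normal p-subgroup modulo its centralizer C, the Thompson subgroup J(G) moves Ω₁(Z(J(C))) only inside V. -/
theorem result {G : Type*} [Group G] [Finite G] {p : ℕ} [Fact p.Prime] (hsep : Cfsg.IsPSolvable p G) (V : Subgroup G) [V.Normal] (hV : Cfsg.IsElementaryAbelian p V) (hO : Cfsg.pCore p (G ⧸ Subgroup.centralizer (V : Set G)) = ⊥) : ⁅Cfsg.omegaOne p (Cfsg.centerThompsonOf p (Subgroup.centralizer (V : Set G))), Cfsg.thompsonSubgroup p G⁆ ≤ V := by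
  set C := Subgroup.centralizer (V : Set G) with hC
  set W := Cfsg.omegaOne p (Cfsg.centerThompsonOf p C) with hW
  set π := QuotientGroup.mk' V
  suffices h : Cfsg.thompsonSubgroup p G ≤
      (Subgroup.centralizer ((W.map π : Subgroup (G ⧸ V)) : Set (G ⧸ V))).comap π by
    have h1 : ⁅W.map π, (Cfsg.thompsonSubgroup p G).map π⁆ = ⊥ := by
      rw [Subgroup.commutator_comm]
      exact Subgroup.commutator_eq_bot_iff_le_centralizer.2 (Subgroup.map_le_iff_le_comap.2 h)
    rw [← Subgroup.map_commutator, Subgroup.map_eq_bot_iff, QuotientGroup.ker_mk'] at h1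
    exact h1
  refine sSup_le fun A hA => ?_
  rw [← Subgroup.map_le_iff_le_comap, Subgroup.le_centralizer_iff]
  set A0 := A ⊓ C with hA0
  have hcm : ∀ a ∈ A0, ∀ v ∈ V, a * v = v * a := fun a ha v hv =>
    (Subgroup.mem_centralizer_iff.1 ha.2 v hv).symm
  have hE : Cfsg.IsElementaryAbelian p (A0 ⊔ V) :=
    CfsgLib.PGroup.elemAb_sup (CfsgLib.PGroup.elemAb_mono hA.1 inf_le_left) hV hcm
  have hVC : V ≤ C := fun v hv => Subgroup.mem_centralizer_iff.2 fun w hw =>
    CfsgLib.PGroup.elemAb_comm hV hw hv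
  have hfix : A0 ⊓ V = V ⊓ Subgroup.centralizer (A : Set G) := by
    refine le_antisymm (fun x hx => ⟨hx.2, Subgroup.mem_centralizer_iff.2 fun a ha =>
      CfsgLib.PGroup.elemAb_comm hA.1 ha hx.1.1⟩) fun x hx => ⟨⟨?_, hVC hx.1⟩, hx.1⟩
    exact CfsgLib.Transfer.mem_of_mem_centralizer_maxEA hA hx.2 (hV.2 x hx.1)
  have hcard : Nat.card ↥(A0 ⊔ V) = Nat.card A := by
    have h1 := CfsgLib.Transfer.card_mul_card_of_commute A0 V hcm
    rw [mul_comm (Nat.card A0), CfsgLib.PStab.BestOff.card_maxEA hV hsep hO hA, hfix] at h1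
    exact (Nat.eq_of_mul_eq_mul_right Nat.card_pos h1).symm
  have hmax : (A0 ⊔ V).subgroupOf C ∈ Cfsg.maxElementaryAbelianSubgroups p ↥C := by
    refine ⟨CfsgLib.PGroup.elemAb_subgroupOf hE, fun B hB => ?_⟩
    rw [Nat.card_congr (Subgroup.subgroupOfEquivOfLe (sup_le inf_le_right hVC)).toEquiv, hcard,
      ← Subgroup.card_subtype C B]
    exact hA.2 _ (CfsgLib.PGroup.elemAb_map hB _)
  have hWle : W ≤ A0 ⊔ V := by
    refine (Subgroup.closure_le _).2 ?_
    rintro x ⟨⟨hx1, hx2⟩, hxp⟩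
    obtain ⟨⟨x, hxC⟩, -, rfl⟩ := hx1
    exact CfsgLib.Transfer.mem_of_mem_centralizer_maxEA hmax
      (Subgroup.mem_centralizer_iff.2 fun y hy => Subtype.ext (Subgroup.mem_centralizer_iff.1 hx2 _
        ⟨y, CfsgLib.Transfer.le_thompsonSubgroup hmax hy, rfl⟩)) (Subtype.ext hxp)
  refine (Subgroup.map_mono hWle).trans ?_
  rw [Subgroup.map_sup, sup_le_iff]
  refine ⟨?_, ?_⟩
  · rintro _ ⟨a, ha, rfl⟩
    refine Subgroup.mem_centralizer_iff.2 ?_
    rintro _ ⟨b, hb, rfl⟩
    rw [← map_mul, ← map_mul, CfsgLib.PGroup.elemAb_comm hA.1 hb ha.1]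
  · have hb : V.map π = ⊥ := by rw [Subgroup.map_eq_bot_iff, QuotientGroup.ker_mk']
    rw [hb]
    exact bot_le

end Cfsg.Agent.S0619
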