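import Cfsg.Statements.S0621
import Cfsg.Agent.Lib.PStab.Offender.CoprimeOperators

set_option autoImplicit false
open Cfsg
open scoped commutatorElement

namespace Cfsg.Agent.S0621

/-- Let K be p-separable with O_p'(K) = 1, normalized by an elementary abelian q-group X for a prime q not dividing the order of K. If the Thompson factorization fails in K, then p is 2 or 3 and the fixed points of X contain a plane W of order p² and a subgroup inducing SL(2, p) on it. -/
theorem result {G : Type*} [Group G] [Finite G] {p : ℕ} [Fact p.Prime] {q : ℕ} [Fact q.Prime] (K X : Subgroup G) (hXK : X ≤ Subgroup.normalizer (K : Set G)) (hX : Cfsg.IsElementaryAbelian q X) (hq : ¬ q ∣ Nat.card K) (hsep : Cfsg.IsPSolvable p ↥K) (hO : Cfsg.pPrimeCore p ↥K = ⊥) (hnf : ¬ Cfsg.IsThompsonFactorizable p ↥K) : (p = 2 ∨ p = 3) ∧ ∃ W D : Subgroup G, W ≤ K ⊓ Subgroup.centralizer (X : Set G) ∧ D ≤ K ⊓ Subgroup.centralizer (X : Set G) ∧ Cfsg.IsElementaryAbelian p W ∧ Nat.card W = p ^ 2 ∧ D ≤ Subgroup.normalizer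 (W : Set G) ∧ ∃ hn : ((Subgroup.centralizer (W : Set G)).subgroupOf D).Normal, Nonempty ((↥D ⧸ (Subgroup.centralizer (W : Set G)).subgroupOf D) ≃* Matrix.SpecialLinearGroup (Fin 2) (ZMod p)) := by
  obtain ⟨V, hVn, hV, h⟩ := CfsgLib.PStab.BestOff.exists_oper hXK hX hq hsep hO
  haveI : V.Normal := hVn
  obtain ⟨a, ha⟩ := h.psep.exists_trElt fun hle =>
    hnf ((CfsgLib.Transfer.isThompsonFactorizable_iff hO).2 (hV ▸ hle))
  obtain ⟨W, D, hWf, hDf, hWe, hWc, hDW, f, hf, hker⟩ := h.exists_diagonal ha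
  refine ⟨(h.psep.six_dvd ha).1, W.map K.subtype, D.map K.subtype, ?_, ?_,
    CfsgLib.PGroup.elemAb_map hWe _, ?_, ?_, ?_⟩
  · rintro _ ⟨w, hw, rfl⟩
    exact ⟨w.2, (CfsgLib.PStab.BestOff.fixed_iff hXK w).1 (hWf w hw)⟩
  · rintro _ ⟨d, hd, rfl⟩
    exact ⟨d.2, (CfsgLib.PStab.BestOff.fixed_iff hXK d).1 (hDf d hd)⟩
  · rw [Subgroup.card_map_of_injective K.subtype_injective, hWc]
  · rintro _ ⟨d, hd, rfl⟩
    rw [Subgroup.mem_normalizer_iff_map_conj_eq, Subgroup.map_map]
    conv_rhs => rw [← Subgroup.mem_normalizer_iff_map_conj_eq.1 (hDW hd), Subgroup.map_map]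
    rfl
  · set e := D.equivMapOfInjective K.subtype K.subtype_injective
    set g := f.comp e.symm.toMonoidHom with hg
    have hgk : g.ker = (Subgroup.centralizer ((W.map K.subtype : Subgroup G) : Set G)).subgroupOf
        (D.map K.subtype) := by
      ext y
      obtain ⟨d, rfl⟩ := e.surjective y
      rw [MonoidHom.mem_ker, hg, MonoidHom.comp_apply]
      show f (e.symm (e d)) = 1 ↔ _
      rw [MulEquiv.symm_apply_apply, ← MonoidHom.mem_ker, hker, Subgroup.mem_subgroupOf,
        Subgroup.mem_subgroupOf, Subgroup.coe_equivMapOfInjective_apply, Subgroup.mem_centralizer_iff,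
        Subgroup.mem_centralizer_iff]
      constructor
      · rintro hc _ ⟨w, hw, rfl⟩
        exact congrArg Subtype.val (hc w hw)
      · intro hc w hw
        exact Subtype.ext (hc _ ⟨w, hw, rfl⟩)
    haveI hn : ((Subgroup.centralizer ((W.map K.subtype : Subgroup G) : Set G)).subgroupOf
        (D.map K.subtype)).Normal := hgk ▸ inferInstance
    exact ⟨hn, ⟨(QuotientGroup.quotientMulEquivOfEq hgk.symm).trans
      (QuotientGroup.quotientKerEquivOfSurjective g (hf.comp e.symm.surjective))⟩⟩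

end Cfsg.Agent.S0621
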