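import Cfsg.Statements.S0630
import Cfsg.Agent.Lib.Cores.PConstrained

set_option autoImplicit false
open Cfsg
open scoped commutatorElement

namespace Cfsg.Agent.S0630

/-- p-constraint passes to and from the quotient by the largest normal subgroup of order prime to p. -/
theorem result {G : Type*} [Group G] [Finite G] {p : ℕ} [Fact p.Prime] : Cfsg.IsPConstrained p G ↔ Cfsg.IsPConstrained p (G ⧸ Cfsg.pPrimeCore p G) := by
  rw [CfsgLib.Cores.isPConstrained_iff, CfsgLib.Cores.isPConstrained_iff]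
  have hbot : Cfsg.pPrimeCore p (G ⧸ Cfsg.pPrimeCore p G) = ⊥ := CfsgLib.Cores.pPrimeCore_quotient_self p
  let e := (QuotientGroup.quotientMulEquivOfEq hbot).trans
    (QuotientGroup.quotientBot (G := G ⧸ Cfsg.pPrimeCore p G))
  have key : ∀ {X Y : Type _} [Group X] [Group Y] (e : X ≃* Y),
      Subgroup.centralizer (Cfsg.pCore p X : Set X) ≤ Cfsg.pCore p X →
        Subgroup.centralizer (Cfsg.pCore p Y : Set Y) ≤ Cfsg.pCore p Y := by
    intro X Y _ _ e h y hy
    rw [← CfsgLib.Cores.map_pCore_equiv e] at hy ⊢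
    refine ⟨e.symm y, h (Subgroup.mem_centralizer_iff.2 fun x hx => e.injective ?_), e.apply_symm_apply y⟩
    rw [map_mul, map_mul, e.apply_symm_apply]
    exact Subgroup.mem_centralizer_iff.1 hy _ ⟨x, hx, rfl⟩
  exact ⟨key e.symm, key e⟩

end Cfsg.Agent.S0630
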