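import Cfsg.Statements.S0631
import Cfsg.Agent.Lib.Cores.Local

set_option autoImplicit false
open Cfsg
open scoped commutatorElement

namespace Cfsg.Agent.S0631

open Subgroup in
theorem isPConstrained_of_surjective {K L : Type*} [Group K] [Finite K] [Group L] [Finite L] {p : ℕ} [Fact p.Prime]
    (f : K →* L) (hf : Function.Surjective f) (hker : (Nat.card f.ker).Coprime p)
    (hO : pPrimeCore p L = ⊥) (hE : layer L = ⊥) : IsPConstrained p K := by
  have hk : f.ker = pPrimeCore p K := by
    refine le_antisymm (CfsgLib.Cores.le_pPrimeCore hker) ?_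
    rw [← Subgroup.map_eq_bot_iff, eq_bot_iff, ← hO]
    exact CfsgLib.Cores.map_pPrimeCore_le f hf
  rw [CfsgLib.Cores.isPConstrained_iff_pLayer_eq_bot, CfsgLib.Cores.pLayer_eq_bot_iff]
  have e : (K ⧸ pPrimeCore p K) ≃* L :=
    (QuotientGroup.quotientMulEquivOfEq hk.symm).trans (QuotientGroup.quotientKerEquivOfSurjective f hf)
  rw [← CfsgLib.Cores.map_layer_equiv e.symm, hE, Subgroup.map_bot]

/-- In a p-constrained group the normalizer and the centralizer of any p-subgroup are again p-constrained. -/
theorem result {G : Type*} [Group G] [Finite G] {p : ℕ} [Fact p.Prime] (hG : Cfsg.IsPConstrained p G) (P : Subgroup G) (hP : IsPGroup p P) : Cfsg.IsPConstrained p ↥(Subgroup.normalizer (P : Set G)) ∧ Cfsg.IsPConstrained p ↥(Subgroup.centralizer (P : Set G)) := by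
  open Subgroup in
  set π := QuotientGroup.mk' (pPrimeCore p G) with hπ
  have hcon := CfsgLib.Cores.isPConstrained_iff.1 hG
  have hco := CfsgLib.Cores.coprime_card_pPrimeCore (G := G) p
  obtain ⟨hO, hE⟩ := CfsgLib.Cores.pPrimeCore_eq_bot_and_layer_eq_bot_normalizer (hP.map π) hcon
  set Nb := Subgroup.normalizer ((P.map π : Subgroup _) : Set (G ⧸ pPrimeCore p G)) with hNb
  set Cb := Subgroup.centralizer ((P.map π : Subgroup _) : Set (G ⧸ pPrimeCore p G)) with hCb
  have hker : ∀ (A : Subgroup G), (Nat.card (π.subgroupMap A).ker).Coprime p := by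
    intro A
    refine hco.coprime_dvd_left ?_
    rw [← Subgroup.card_map_of_injective A.subtype_injective]
    refine Subgroup.card_dvd_of_le ?_
    rintro _ ⟨a, ha, rfl⟩
    exact (QuotientGroup.eq_one_iff _).1 (congrArg Subtype.val ha)
  refine ⟨?_, ?_⟩
  · have hN := CfsgLib.Cores.map_mk'_normalizer_of_coprime hP hco
    refine isPConstrained_of_surjective (π.subgroupMap (Subgroup.normalizer (P : Set G)))
      (π.subgroupMap_surjective _) (hker _) ?_ ?_
    · rw [hN]; exact hO
    · rw [hN]; exact hE
  · have hC := CfsgLib.Cores.map_mk'_centralizer_of_coprime hP hco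
    refine isPConstrained_of_surjective (π.subgroupMap (Subgroup.centralizer (P : Set G)))
      (π.subgroupMap_surjective _) (hker _) ?_ ?_
    all_goals rw [hC]
    all_goals
      have hle : Cb ≤ Nb := Subgroup.centralizer_le_normalizer _
      have hn : (Cb.subgroupOf Nb).Normal := by
        rw [Subgroup.normal_subgroupOf_iff_le_normalizer hle]
        intro g hg
        rw [Subgroup.mem_normalizer_iff]
        have key : ∀ g ∈ Nb, ∀ x ∈ Cb, g * x * g⁻¹ ∈ Cb := by
          intro g hg x hx
          refine Subgroup.mem_centralizer_iff.2 fun y hy => ?_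
          have h1 := (Subgroup.mem_normalizer_iff'.1 hg (g⁻¹ * y)).2 (by simpa using hy)
          have h2 := Subgroup.mem_centralizer_iff.1 hx _ h1
          calc y * (g * x * g⁻¹) = g * ((g⁻¹ * y * g) * x) * g⁻¹ := by group
            _ = g * (x * (g⁻¹ * y * g)) * g⁻¹ := by rw [h2]
            _ = g * x * g⁻¹ * y := by group
        refine fun x => ⟨key g hg x, fun hx => ?_⟩
        have := key g⁻¹ (inv_mem hg) _ hx
        simpa [mul_assoc] using this
      have e : ↥(Cb.subgroupOf Nb) ≃* ↥Cb := Subgroup.subgroupOfEquivOfLe hle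
    · rw [← CfsgLib.Cores.map_pPrimeCore_equiv e, Subgroup.map_eq_bot_iff_of_injective _ e.injective,
        ← Subgroup.map_eq_bot_iff_of_injective _ (Cb.subgroupOf Nb).subtype_injective, eq_bot_iff, ← hO]
      exact CfsgLib.Cores.map_subtype_pPrimeCore_le_of_normal p _
    · rw [← CfsgLib.Cores.map_layer_equiv e, Subgroup.map_eq_bot_iff_of_injective _ e.injective,
        ← Subgroup.map_eq_bot_iff_of_injective _ (Cb.subgroupOf Nb).subtype_injective, eq_bot_iff, ← hE]
      exact CfsgLib.Cores.map_subtype_layer_le hn.isSubnormal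

end Cfsg.Agent.S0631
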