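import Cfsg.Statements.S0633
import Cfsg.Agent.Lib.Transfer.HallHigmanB
import Cfsg.Agent.Lib.PGroup.CyclicTransvection
import Cfsg.Agent.Lib.FGS.CoprimeNilpotentMaximal
import Mathlib.FieldTheory.IsAlgClosed.AlgebraicClosure

set_option autoImplicit false
open Cfsg
open scoped commutatorElement

namespace Cfsg.Agent.S0633

/-- Theorem B of Hall and Higman on the minimal polynomial of a p-element of order p^n in a p-solvable linear group on a nonzero vector space in characteristic p with no nontrivial normal p-subgroup: its degree is p^n, except when some p^n₀ - 1 (n₀ ≤ n) is a power of a prime q for which the Sylow q-subgroups are non-abelian, in which case the degree is at least p^(n-n₀)(p^n₀ - 1). -/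
theorem result {F : Type*} [Field F] {p : ℕ} [Fact p.Prime] [CharP F p] {V : Type*} [AddCommGroup V] [Module F V] [FiniteDimensional F V] [Nontrivial V] (H : Subgroup (V ≃ₗ[F] V)) [Finite H] (hsol : Cfsg.IsPSolvable p H) (hOp : Cfsg.pCore p H = ⊥) (x : V ≃ₗ[F] V) (hx : x ∈ H) (n : ℕ) (hn : orderOf x = p ^ n) (r : ℕ) (hr : minpoly F (x : Module.End F V) = (Polynomial.X - 1) ^ r) : r = p ^ n ∨ ∃ n₀ q m : ℕ, 1 ≤ n₀ ∧ n₀ ≤ n ∧ q.Prime ∧ 1 ≤ m ∧ p ^ n₀ - 1 = q ^ m ∧ (∀ Q : Sylow q H, ¬ IsMulCommutative Q) ∧ p ^ (n - n₀) * (p ^ n₀ - 1) ≤ r := by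
  classical
  set xh : H := ⟨x, hx⟩ with hxh
  have hxo : orderOf xh = p ^ n := by rw [← hn, ← Subgroup.orderOf_coe xh]
  set X : Module.End F V := (x : Module.End F V) with hX
  have hX0 : (X - 1) ^ r = 0 := by
    have h := minpoly.aeval F X
    rw [hr] at h
    simpa using h
  have hminle : ∀ i, (X - 1) ^ i = 0 → r ≤ i := fun i hi => by
    have h : minpoly F X ∣ (Polynomial.X - 1) ^ i := minpoly.dvd F X (by simpa using hi)
    rw [hr] at h
    have h2 := Polynomial.natDegree_le_of_dvd h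
      (pow_ne_zero i (by simpa using Polynomial.X_sub_C_ne_zero (1 : F)))
    simpa [Polynomial.natDegree_pow, show (Polynomial.X - 1 : Polynomial F).natDegree = 1 from
      by simpa using Polynomial.natDegree_X_sub_C (1 : F)] using h2
  have : CharP (Module.End F V) p :=
    charP_of_injective_algebraMap (algebraMap F (Module.End F V)).injective p
  let toEnd : H →* Module.End F V :=
    { toFun := fun h => ((h : V ≃ₗ[F] V) : Module.End F V)
      map_one' := rfl
      map_mul' := fun a b => rfl }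
  have htoEnd : Function.Injective toEnd := fun a b h => Subtype.ext (LinearEquiv.toLinearMap_injective h)
  have hXN : X ^ p ^ n = 1 := by
    have h := map_pow toEnd xh (p ^ n)
    rw [← hxo, pow_orderOf_eq_one, map_one, hxo] at h
    exact h.symm
  have hrle : r ≤ p ^ n := hminle _ (by
    rw [sub_pow_char_pow_of_commute _ _ (Commute.one_right X), one_pow, hXN, sub_self])
  rcases Nat.eq_zero_or_pos n with rfl | hn0
  · refine Or.inl (le_antisymm hrle (Nat.one_le_iff_ne_zero.2 fun h => ?_))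
    rw [h, pow_zero] at hX0
    exact one_ne_zero hX0
  set M := Cfsg.pPrimeCore p H with hM
  haveI := CfsgLib.Cores.pPrimeCore_characteristic (G := H) p
  have hMn : M.Normal := inferInstance
  set τ := xh ^ p ^ (n - 1) with hτ
  have hτo : orderOf τ = p := by
    rw [hτ, orderOf_pow, hxo, Nat.gcd_eq_right (pow_dvd_pow p (Nat.sub_le _ _)),
      Nat.pow_div (Nat.sub_le _ _) (Fact.out : p.Prime).pos, show n - (n - 1) = 1 by omega, pow_one]
  have hcop := CfsgLib.Cores.coprime_card_pPrimeCore (G := H) p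
  have hτM : ∃ m ∈ M, τ * m ≠ m * τ := by
    by_contra hcon
    push Not at hcon
    have hmem : τ ∈ M := CfsgLib.PGroup.CyclicTransvection.centralizer_pPrimeCore_le hsol hOp
      (Subgroup.mem_centralizer_iff.2 fun m hm => (hcon m hm).symm)
    have h1 := Subgroup.orderOf_dvd_natCard (s := M) hmem
    rw [hτo] at h1
    exact (Nat.Prime.coprime_iff_not_dvd Fact.out).1 hcop.symm h1
  set φ : Subgroup.zpowers xh →* MulAut M :=
    (MulAut.conjNormal : H →* MulAut M).comp (Subgroup.zpowers xh).subtype with hφ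
  have hcopA : (Nat.card (Subgroup.zpowers xh)).Coprime (Nat.card M) := by
    rw [Nat.card_zpowers, hxo]
    exact (hcop.pow_right n).symm
  have hAsol : Group.IsSolvable (Subgroup.zpowers xh) := Group.isSolvable_of_comm fun a b => mul_comm' a b
  let Fx : Subgroup M := (Subgroup.centralizer {τ}).subgroupOf M
  have hFx : Fx ≠ ⊤ := fun h => by
    obtain ⟨m, hm, hne⟩ := hτM
    exact hne (Subgroup.mem_centralizer_singleton_iff.1
      (Subgroup.mem_subgroupOf.1 (h ▸ Subgroup.mem_top (⟨m, hm⟩ : M)))).symm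
  obtain ⟨q, hq, hqdvd⟩ := Nat.exists_prime_and_dvd (fun h => hFx (Subgroup.index_eq_one.1 h))
  haveI : Fact q.Prime := ⟨hq⟩
  obtain ⟨P, hP⟩ := CfsgLib.FGS.NilpotentMaximal.exists_invariant_sylow φ hcopA (Or.inl hAsol) q
  have hPne : ¬ (P : Subgroup M) ≤ Fx := fun h =>
    P.not_dvd_index (hqdvd.trans (Subgroup.index_dvd_of_le h))
  obtain ⟨m₀, hm₀, hm₀F⟩ := SetLike.not_le_iff_exists.1 hPne
  have hqp : q ≠ p := fun h => by
    subst h
    exact (Nat.Prime.coprime_iff_not_dvd hq).1 hcop.symm (hqdvd.trans (Subgroup.index_dvd_card Fx))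
  have hPinv : ∀ y ∈ (P : Subgroup M), (MulAut.conjNormal xh : MulAut M) y ∈ (P : Subgroup M) :=
    fun y hy => hP ⟨xh, Subgroup.mem_zpowers xh⟩ y hy
  obtain ⟨σ, hσ⟩ := CfsgLib.FGS.exists_restrict_mulAut (MulAut.conjNormal xh : MulAut M) hPinv
  have hσv : ∀ (i : ℕ) (y : P),
      ((((σ ^ i) y : P) : M) : H) = xh ^ i * ((y : M) : H) * (xh ^ i)⁻¹ := fun i y => by
    rw [hσ, ← map_pow, MulAut.conjNormal_apply]
  let ρV : P →* Module.End F V := toEnd.comp (M.subtype.comp (P : Subgroup M).subtype)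
  have hρV : Function.Injective ρV :=
    htoEnd.comp (M.subtype_injective.comp (P : Subgroup M).subtype_injective)
  let k := AlgebraicClosure F
  haveI : CharP k p := charP_of_injective_algebraMap (algebraMap F k).injective p
  let bs := Module.finBasis F V
  let Φ : Module.End F V →+* Module.End k (Fin (Module.finrank F V) → k) :=
    ((Matrix.toLinAlgEquiv (Pi.basisFun k (Fin (Module.finrank F V)))).toRingEquiv.toRingHom.comp
      (RingHom.mapMatrix (algebraMap F k))).comp (LinearMap.toMatrixAlgEquiv bs).toRingEquiv.toRingHom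
  have hΦ : Function.Injective Φ :=
    ((Matrix.toLinAlgEquiv (Pi.basisFun k (Fin (Module.finrank F V)))).injective.comp
      (fun A B h => Matrix.map_injective (algebraMap F k).injective h)).comp
        (LinearMap.toMatrixAlgEquiv bs).injective
  have key := CfsgLib.Transfer.HHB.hall_higman_b (k := k) (p := p) (q := q) (n := n) hqp hn0
    (Nat.card P) (Q := P) rfl P.2 σ
    (MulEquiv.ext fun y => Subtype.ext (Subtype.ext (by
      rw [hσv, ← hxo, pow_orderOf_eq_one, one_mul, inv_one, mul_one, MulAut.one_apply])))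
    ⟨⟨m₀, hm₀⟩, fun h => hm₀F (Subgroup.mem_subgroupOf.2 (Subgroup.mem_centralizer_singleton_iff.2 (by
      have h1 := congrArg (fun y : P => ((y : M) : H)) h
      simp only [hσv] at h1
      exact (mul_inv_eq_iff_eq_mul.1 h1).symm)))⟩
    (Φ.toMonoidHom.comp ρV) (hΦ.comp hρV) (Φ X)
    (fun y => by
      show Φ X * Φ (ρV y) = Φ (ρV (σ y)) * Φ X
      rw [← map_mul, ← map_mul]
      refine congrArg Φ ?_
      have h1 := hσv 1 y
      simp only [pow_one] at h1
      show toEnd xh * toEnd ((y : M) : H) = toEnd (((σ y : P) : M) : H) * toEnd xh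
      rw [← map_mul, ← map_mul, h1, inv_mul_cancel_right])
    (by rw [← map_pow, hXN, map_one]) r
    (by rw [← map_one Φ, ← map_sub, ← map_pow, hX0, map_zero])
  rcases key with h | ⟨⟨a, b, hab⟩, n₀, m, h1, h2, h3, h4, h5⟩
  · exact Or.inl (le_antisymm hrle h)
  refine Or.inr ⟨n₀, q, m, h1, h2, hq, h3, h4, fun Q hQc => hab ?_, h5⟩
  obtain ⟨Q', hQ'⟩ := (P.2.map M.subtype).exists_le_sylow
  obtain ⟨g, rfl⟩ := MulAction.exists_smul_eq H Q Q'
  have hmem : ∀ y : P, g⁻¹ * ((y : M) : H) * g ∈ (Q : Subgroup H) := fun y => by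
    have h0 := hQ' (Subgroup.mem_map_of_mem M.subtype y.2)
    rw [Sylow.coe_subgroup_smul, Subgroup.mem_pointwise_smul_iff_inv_smul_mem, ← map_inv,
      MulAut.smul_def, MulAut.conj_apply, inv_inv] at h0
    exact h0
  have h0 := congrArg Subtype.val (hQc.is_comm.comm (⟨_, hmem a⟩ : (Q : Subgroup H)) ⟨_, hmem b⟩)
  refine Subtype.ext (Subtype.ext ?_)
  simp only [Subgroup.coe_mul, MulMemClass.mk_mul_mk] at h0 ⊢
  calc ((a : M) : H) * ((b : M) : H)
      = g * ((g⁻¹ * ((a : M) : H) * g) * (g⁻¹ * ((b : M) : H) * g)) * g⁻¹ := by group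
    _ = g * ((g⁻¹ * ((b : M) : H) * g) * (g⁻¹ * ((a : M) : H) * g)) * g⁻¹ := by rw [h0]
    _ = _ := by group

end Cfsg.Agent.S0633
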