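import Cfsg.Statements.S0635
import Cfsg.Agent.Lib.Transfer.PSolvable

set_option autoImplicit false
open Cfsg
open scoped commutatorElement

namespace Cfsg.Agent.S0635

/-- The p-length of a p-soluble group is at most the nilpotency class of its Sylow p-subgroups. -/
theorem result {G : Type*} [Group G] [Finite G] {p : ℕ} [Fact p.Prime] (hsol : Cfsg.IsPSolvable p G) (S : Sylow p G) : Cfsg.PLengthLE p (Group.nilpotencyClass ↥(S : Subgroup G)) G := by
  classical
  have key : ∀ k, ((Subgroup.upperCentralSeries ↥(S : Subgroup G) k).map (S : Subgroup G).subtype) ≤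
      (upperPSeries p G (2 * k)).1 := by
    intro k
    induction k with
    | zero => simp [Subgroup.upperCentralSeries_zero]
    | succ k ih =>
      rintro _ ⟨x, hx, rfl⟩
      have hodd : ¬ Even (2 * k + 1) := by simp [Nat.even_add_one]
      rw [show 2 * (k + 1) = 2 * k + 1 + 1 by ring, CfsgLib.Transfer.upperPSeries_succ_of_odd p G hodd,
        Subgroup.mem_comap]
      set π := QuotientGroup.mk' (upperPSeries p G (2 * k + 1)).1
      apply CfsgLib.Transfer.centralizer_pCore_le_of_isPSolvable (CfsgLib.Transfer.isPSolvable_quotient hsol _)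
        (CfsgLib.Transfer.pPrimeCore_quotient_upperPSeries p ⟨k, two_mul k⟩)
      rw [Subgroup.mem_centralizer_iff]
      intro q hq
      obtain ⟨y, hy, rfl⟩ : q ∈ (S : Subgroup G).map π :=
        CfsgLib.Cores.pCore_le_sylow (S.mapSurjective (f := π) (QuotientGroup.mk'_surjective _)) hq
      have h1 : x * ⟨y, hy⟩ * x⁻¹ * (⟨y, hy⟩ : ↥(S : Subgroup G))⁻¹ ∈ Subgroup.upperCentralSeries ↥(S : Subgroup G) k :=
        Subgroup.mem_upperCentralSeries_succ_iff.1 hx _
      have h2 : ((x : G) * y * (x : G)⁻¹ * y⁻¹) ∈ (upperPSeries p G (2 * k + 1)).1 :=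
        CfsgLib.Transfer.le_upperPSeries_succ p G _ (ih ⟨_, h1, rfl⟩)
      have h3 : π ((x : G) * y * (x : G)⁻¹ * y⁻¹) = 1 := (QuotientGroup.eq_one_iff _).2 h2
      rw [map_mul, map_mul, map_mul, map_inv, map_inv, mul_inv_eq_one] at h3
      calc π y * π (x : G) = π (x : G) * π y * (π (x : G))⁻¹ * π (x : G) := by rw [h3]
        _ = π (x : G) * π y := by group
  have hnil : Group.IsNilpotent ↥(S : Subgroup G) := S.2.isNilpotent
  have hS : (S : Subgroup G) ≤ (upperPSeries p G (2 * Group.nilpotencyClass ↥(S : Subgroup G))).1 := by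
    have := key (Group.nilpotencyClass ↥(S : Subgroup G))
    rwa [Subgroup.upperCentralSeries_nilpotencyClass, ← MonoidHom.range_eq_map, Subgroup.range_subtype] at this
  rw [PLengthLE, CfsgLib.Transfer.upperPSeries_succ_of_even p G ⟨_, two_mul _⟩]
  set N := (upperPSeries p G (2 * Group.nilpotencyClass ↥(S : Subgroup G))).1
  have hQ : (Nat.card (G ⧸ N)).Coprime p := by
    rw [CfsgLib.Cores.coprime_iff_not_dvd Fact.out]
    intro hd
    refine S.not_dvd_index' ?_ (hd.trans (N.index_eq_card ▸ Subgroup.index_dvd_of_le hS))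
    exact Nat.pos_iff_ne_zero.1 (Nat.pos_of_ne_zero Subgroup.index_ne_zero_of_finite)
  have : (⊤ : Subgroup (G ⧸ N)) ≤ pPrimeCore p (G ⧸ N) :=
    CfsgLib.Cores.le_pPrimeCore (by rwa [Subgroup.card_top])
  rw [top_le_iff.1 this, Subgroup.comap_top]

end Cfsg.Agent.S0635
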