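import Cfsg.Statements.S0638
import Cfsg.Agent.Lib.Transfer.CyclicMaximal

set_option autoImplicit false
open Cfsg
open scoped commutatorElement

namespace Cfsg.Agent.S0638

/-- For odd p, in a non-cyclic metacyclic p-group the elements of order dividing p generate an elementary abelian subgroup of order p². -/
theorem result {R : Type*} [Group R] [Finite R] {p : ℕ} [Fact p.Prime] (hp : p ≠ 2) (hR : IsPGroup p R) (hm : Cfsg.IsMetacyclic R) (hnc : ¬ IsCyclic R) : Cfsg.IsElementaryAbelian p (Cfsg.omegaOne p (⊤ : Subgroup R)) ∧ Nat.card ↥(Cfsg.omegaOne p (⊤ : Subgroup R)) = p ^ 2 := by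
  classical
  obtain ⟨N, hNn, hNc, hQc⟩ := hm
  obtain ⟨E, -, -, hEe, hE⟩ := CfsgLib.Transfer.exists_normal_elemAb_sq (S := (⊤ : Subgroup R)) hR hp
    (fun h => hnc (Subgroup.topEquiv.isCyclic.1 h))
  have hp1 := (Fact.out : p.Prime).one_lt
  set π := QuotientGroup.mk' N
  set W := CfsgLib.Transfer.omegaPow (R ⧸ N) p with hW
  set B : Subgroup R := W.comap π
  have hxB : ∀ x : R, x ^ p = 1 → x ∈ B := fun x hx =>
    CfsgLib.Transfer.mem_omegaPow (by rw [← map_pow, hx, map_one])
  have hEB : E ≤ B := fun x hx => hxB x (hEe.2 x hx)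
  have hWc : Nat.card W ≤ p := CfsgLib.Transfer.card_omegaPow_le (R ⧸ N) (Fact.out : p.Prime).pos
  have hBnc : ¬ IsCyclic B := by
    intro h
    have h1 : IsCyclic (E.subgroupOf B) := Subgroup.isCyclic _
    have h2 : IsCyclic E := isCyclic_of_surjective _ (Subgroup.subgroupOfEquivOfLe hEB).surjective
    obtain ⟨g, hg⟩ := h2.exists_generator
    have h3 : orderOf g = p ^ 2 := by rw [orderOf_eq_card_of_forall_mem_zpowers hg, hE]
    have h4 : orderOf g ∣ p := orderOf_dvd_of_pow_eq_one (Subtype.ext (by simpa using hEe.2 _ g.2))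
    rw [h3] at h4
    exact absurd (Nat.le_of_dvd (Fact.out : p.Prime).pos h4) (by nlinarith [hp1])
  have hle : N ≤ B := (QuotientGroup.ker_mk' N).ge.trans (MonoidHom.ker_le_comap π W)
  have hidx : (N.subgroupOf B).index = Nat.card W := by
    show N.relIndex B = _
    rw [show N.relIndex B = π.ker.relIndex B by rw [QuotientGroup.ker_mk'], Subgroup.relIndex_ker,
      Subgroup.map_comap_eq_self_of_surjective (QuotientGroup.mk'_surjective N)]
  have hCc : IsCyclic (N.subgroupOf B) :=
    isCyclic_of_surjective _ (Subgroup.subgroupOfEquivOfLe hle).symm.surjective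
  have hWp : Nat.card W = p := by
    obtain ⟨k, hk⟩ := IsPGroup.iff_card.1 ((hR.to_quotient N).to_subgroup W)
    rcases Nat.lt_or_ge k 1 with h | h
    · exfalso
      apply hBnc
      have hN : (N.subgroupOf B) = ⊤ := Subgroup.index_eq_one.1 (by rw [hidx, hk, show k = 0 by omega, pow_zero])
      rw [hN] at hCc
      exact Subgroup.topEquiv.isCyclic.1 hCc
    · refine le_antisymm hWc (hk ▸ Nat.le_self_pow (by omega) p)
  obtain ⟨h1, h2, -⟩ := CfsgLib.Transfer.omega_of_cyclic_index (hR.to_subgroup B) hp hBnc hCc (hidx.trans hWp)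
  have hΩ : Cfsg.omegaOne p (⊤ : Subgroup R) = (Subgroup.closure {x : B | x ^ p = 1}).map B.subtype := by
    rw [MonoidHom.map_closure]
    unfold Cfsg.omegaOne
    congr 1
    ext x
    constructor
    · rintro ⟨-, hx⟩
      exact ⟨⟨x, hxB x hx⟩, Subtype.ext hx, rfl⟩
    · rintro ⟨y, hy, rfl⟩
      exact ⟨trivial, congrArg Subtype.val hy⟩
  rw [hΩ]
  exact ⟨CfsgLib.PGroup.elemAb_map h1 _, by rw [Subgroup.card_map_of_injective B.subtype_injective, h2]⟩

end Cfsg.Agent.S0638
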