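import Cfsg.Statements.S0640
import Cfsg.Agent.Lib.OddLocal.RankTwo.Operator

set_option autoImplicit false
open Cfsg

namespace Cfsg.Agent.S0640

/-- For odd p, a prime q ≠ p dividing the order of the automorphism group of a p-group of rank at most 2 divides p² - 1 and is less than p. -/
theorem result {R : Type*} [Group R] [Finite R] {p : ℕ} [Fact p.Prime] (hp : p ≠ 2) (hR : IsPGroup p R) (hrk : Cfsg.PRankLE p 2 R) (q : ℕ) (hq : q.Prime) (hqp : q ≠ p) (hdvd : q ∣ Nat.card (MulAut R)) : q ∣ p ^ 2 - 1 ∧ q < p := by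
  have hp' : p.Prime := Fact.out
  have hp2 : 2 < p := lt_of_le_of_ne hp'.two_le (Ne.symm hp)
  have hmul : p ^ 2 - 1 = (p - 1) * (p + 1) := by
    rw [mul_comm, ← Nat.sq_sub_sq p 1, one_pow]
  by_cases hq2 : q = 2
  · subst hq2
    refine ⟨?_, hp2⟩
    rw [hmul]
    obtain ⟨j, hj⟩ := hp'.odd_of_ne_two hp
    exact Dvd.dvd.mul_right ⟨j, by omega⟩ _
  have := Fact.mk hq
  obtain ⟨a, ha⟩ := exists_prime_orderOf_dvd_card' q hdvd
  have hcard : Nat.card (Subgroup.zpowers a) = q := by rw [Nat.card_zpowers, ha]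
  have h := (CfsgLib.OddLocal.RankTwo.operator_rank_two hR hp hrk
    (A := Subgroup.zpowers a) (hcard ▸ hq.odd_of_ne_two hq2) (Subgroup.zpowers a).subtype
    (fun b _ hb => Subtype.ext hb)).2 q hq hqp (dvd_of_eq hcard.symm)
  exact ⟨hmul ▸ h.1, h.2⟩

end Cfsg.Agent.S0640
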