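import Cfsg.Statements.S0642
import Cfsg.Agent.Lib.PGroup.Basic
import Cfsg.Agent.Lib.PGroup.ElemAbelian

set_option autoImplicit false
open Cfsg
open scoped commutatorElement

namespace Cfsg.Agent.S0642

/-- Among finite 2-groups the regular ones are exactly the abelian ones. -/
theorem result {G : Type*} [Group G] [Finite G] (hG : IsPGroup 2 G) : Cfsg.IsRegularPGroup 2 G ↔ ∀ a b : G, a * b = b * a := by
  constructor
  · intro h a b
    set K := Subgroup.closure ({a, b} : Set G)
    have haK : a ∈ K := Subgroup.subset_closure (Or.inl rfl)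
    have hbK : b ∈ K := Subgroup.subset_closure (Or.inr rfl)
    let D := commutator K
    let M := Cfsg.powerClosure 2 1 D
    have : M.Characteristic := by
      rw [Subgroup.characteristic_iff_map_le]
      intro φ
      rw [CfsgLib.PGroup.map_powerClosure]
      exact CfsgLib.PGroup.powerClosure_mono 1
        (Subgroup.characteristic_iff_map_le.1 (inferInstance : D.Characteristic) φ)
    have hD : D ≤ M := by
      obtain ⟨c, hc, e⟩ := h.2 a b 1
      have hc' : c ∈ M.map K.subtype := by
        rw [CfsgLib.PGroup.map_powerClosure, show D.map K.subtype = ⁅K, K⁆ from Subgroup.map_subtype_commutator K]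
        exact hc
      obtain ⟨c, hcM, rfl⟩ := hc'
      have heq : ((⟨a, haK⟩ : K) * ⟨b, hbK⟩) ^ 2 ^ 1 = (⟨a, haK⟩ : K) ^ 2 ^ 1 * ⟨b, hbK⟩ ^ 2 ^ 1 * c :=
        Subtype.ext e
      have hq := congrArg (QuotientGroup.mk' M) heq
      rw [pow_one, map_mul, map_mul, map_pow, map_pow, map_pow, map_mul,
        show QuotientGroup.mk' M c = 1 from (QuotientGroup.eq_one_iff c).2 hcM, mul_one] at hq
      set x := QuotientGroup.mk' M ⟨a, haK⟩
      set y := QuotientGroup.mk' M ⟨b, hbK⟩
      have hyx : y * x = x * y := by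
        calc y * x = x⁻¹ * (x * y) ^ 2 * y⁻¹ := by rw [pow_two]; group
          _ = x⁻¹ * (x ^ 2 * y ^ 2) * y⁻¹ := by rw [hq]
          _ = _ := by group
      have hcl : Subgroup.closure ({x, y} : Set (K ⧸ M)) = ⊤ := by
        have h1 : Subgroup.closure ({⟨a, haK⟩, ⟨b, hbK⟩} : Set K) = ⊤ := by
          apply Subgroup.map_injective K.subtype_injective
          rw [MonoidHom.map_closure, Set.image_pair, ← MonoidHom.range_eq_map, Subgroup.range_subtype]
          rfl
        rw [← Subgroup.map_top_of_surjective _ (QuotientGroup.mk'_surjective M), ← h1,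
          MonoidHom.map_closure, Set.image_pair]
      have hc2 : IsMulCommutative (K ⧸ M) := by
        have := Subgroup.isMulCommutative_closure (k := ({x, y} : Set (K ⧸ M))) (by
          rintro u (rfl | rfl) v (rfl | rfl)
          · rfl
          · exact hyx.symm
          · exact hyx
          · rfl)
        rw [hcl] at this
        exact ⟨⟨fun u v => congrArg Subtype.val (this.is_comm.comm ⟨u, trivial⟩ ⟨v, trivial⟩)⟩⟩
      exact Subgroup.Normal.quotient_commutative_iff_commutator_le.1 hc2
    by_contra hne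
    have hDne : D ≠ ⊥ := fun hb => hne (by
      have h1 : ⁅(⟨a, haK⟩ : K), ⟨b, hbK⟩⁆ ∈ D :=
        Subgroup.commutator_mem_commutator (Subgroup.mem_top _) (Subgroup.mem_top _)
      rw [hb, Subgroup.mem_bot, commutatorElement_eq_one_iff_mul_comm] at h1
      exact congrArg Subtype.val h1)
    have hDp : IsPGroup 2 D := (hG.to_subgroup K).to_subgroup D
    have : Nontrivial D := (Subgroup.nontrivial_iff_ne_bot D).2 hDne
    refine CfsgLib.PGroup.frattini_ne_top hDp (top_le_iff.1 fun d _ => ?_)
    have h2 : (d : K) ∈ (frattini D).map D.subtype := by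
      refine (Subgroup.closure_le _).2 ?_ (hD d.2)
      rintro _ ⟨z, hz, rfl⟩
      exact ⟨⟨z, hz⟩ ^ 2, CfsgLib.PGroup.pow_mem_frattini hDp ⟨z, hz⟩, rfl⟩
    obtain ⟨d', hd', e'⟩ := h2
    exact Subtype.ext e' ▸ hd'
  · intro hab
    refine ⟨hG, fun a b n => ⟨1, Subgroup.one_mem _, ?_⟩⟩
    rw [mul_one, Commute.mul_pow (hab a b)]

end Cfsg.Agent.S0642
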