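import Cfsg.Statements.S0647
import Mathlib.GroupTheory.Subgroup.Centralizer

set_option autoImplicit false
open Cfsg
open scoped commutatorElement

namespace Cfsg.Agent.S0647

/-- For a nonempty family of maximal abelian subgroups of a finite group, the intersection of the family is the centre of the subgroup it generates, which is also the full centralizer of that subgroup. -/
theorem result {S : Type*} [Group S] [Finite S] (𝒜 : Set (Subgroup S)) (hne : 𝒜.Nonempty) (hab : ∀ A ∈ 𝒜, IsMulCommutative A) (hmax : ∀ A ∈ 𝒜, ∀ B : Subgroup S, IsMulCommutative B → A ≤ B → B = A) : sInf 𝒜 = sSup 𝒜 ⊓ Subgroup.centralizer ((sSup 𝒜 : Subgroup S) : Set S) ∧ sInf 𝒜 = Subgroup.centralizer ((sSup 𝒜 : Subgroup S) : Set S) := by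
  have hC : Subgroup.centralizer ((sSup 𝒜 : Subgroup S) : Set S) ≤ sInf 𝒜 := by
    intro x hx
    rw [Subgroup.mem_sInf]
    intro A hA
    have := hab A hA
    have hc : IsMulCommutative (Subgroup.closure ((A : Set S) ∪ {x})) := by
      refine Subgroup.isMulCommutative_closure fun u hu v hv => ?_
      have hAx : ∀ a ∈ A, a * x = x * a := fun a ha =>
        Subgroup.mem_centralizer_iff.1 hx a ((le_sSup hA : A ≤ sSup 𝒜) ha)
      rcases hu with hu | hu <;> rcases hv with hv | hv
      · exact congrArg Subtype.val (this.is_comm.comm (⟨u, hu⟩ : A) ⟨v, hv⟩)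
      · rw [hv]; exact hAx u hu
      · rw [hu]; exact (hAx v hv).symm
      · rw [hu, hv]
    rw [← hmax A hA _ hc (fun a ha => Subgroup.subset_closure (Or.inl ha))]
    exact Subgroup.subset_closure (Or.inr rfl)
  have hle : sInf 𝒜 ≤ sSup 𝒜 := by
    obtain ⟨A, hA⟩ := hne
    exact (sInf_le hA).trans (le_sSup hA)
  have hle2 : sInf 𝒜 ≤ Subgroup.centralizer ((sSup 𝒜 : Subgroup S) : Set S) := by
    rw [Subgroup.le_centralizer_iff, sSup_le_iff]
    intro A hA
    have := hab A hA
    exact (Subgroup.le_centralizer A).trans (Subgroup.centralizer_le (SetLike.coe_subset_coe.2 (sInf_le hA)))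
  exact ⟨le_antisymm (le_inf hle hle2) (inf_le_right.trans hC), le_antisymm hle2 hC⟩

end Cfsg.Agent.S0647
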