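import Cfsg.Statements.S0648
import Mathlib.GroupTheory.Commutator.Basic

set_option autoImplicit false
open Cfsg
open scoped commutatorElement

namespace Cfsg.Agent.S0648

/-- If A acts on B centralizing [B, B], then [B, A] has derived subgroup central in B, and for abelian A and b ∈ B with [[b, A], A, A] = 1 the derived subgroup of the subgroup [b, A] generated by the commutators of b with A has exponent dividing 2. -/
theorem result {G : Type*} [Group G] [Finite G] (A B : Subgroup G) (hAB : A ≤ Subgroup.normalizer (B : Set G)) (hc : ⁅⁅B, B⁆, A⁆ = ⊥) : ⁅⁅B, A⁆, ⁅B, A⁆⁆ ≤ B ⊓ Subgroup.centralizer (B : Set G) ∧ (IsMulCommutative A → ∀ b ∈ B, ⁅⁅(Subgroup.closure {g : G | ∃ a ∈ A, g = b⁻¹ * a * b * a⁻¹}), A⁆, A⁆ = ⊥ → ∀ w ∈ ⁅(Subgroup.closure {g : G | ∃ a ∈ A, g = b⁻¹ * a * b * a⁻¹}), (Subgroup.closure {g : G | ∃ a ∈ A, g = b⁻¹ * a * b * a⁻¹})⁆, w ^ 2 = 1) := by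
  set C := ⁅B, A⁆ with hCdef
  have hCB : C ≤ B := Subgroup.commutator_le.2 fun x hx a ha => by
    rw [commutatorElement_def, show x * a * x⁻¹ * a⁻¹ = x * (a * x⁻¹ * a⁻¹) by group]
    exact B.mul_mem hx ((Subgroup.mem_normalizer_iff.1 (hAB ha) _).1 (B.inv_mem hx))
  have hA' : ∀ y ∈ ⁅B, B⁆, ∀ a ∈ A, a * y = y * a := fun y hy a ha =>
    Subgroup.mem_centralizer_iff.1 (Subgroup.commutator_eq_bot_iff_le_centralizer.1 hc hy) a ha
  have hBn : B ≤ Subgroup.normalizer ((⁅B, B⁆ : Subgroup G) : Set G) := by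
    intro x hx
    refine Subgroup.mem_normalizer_iff.2 fun y => ⟨fun hy => ?_, fun hy => ?_⟩
    · have h1 := Subgroup.commutator_mem_commutator hx (B.commutator_le_self hy)
      rw [show x * y * x⁻¹ = ⁅x, y⁆ * y by rw [commutatorElement_def]; group]
      exact mul_mem h1 hy
    · have hxy : x * y * x⁻¹ ∈ B := B.commutator_le_self hy
      have h1 := Subgroup.commutator_mem_commutator (B.inv_mem hx) hxy
      rw [show y = ⁅x⁻¹, x * y * x⁻¹⁆ * (x * y * x⁻¹) by rw [commutatorElement_def]; group]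
      exact mul_mem h1 hy
  -- `C` centralizes `[B, B]`
  have hCD : C ≤ Subgroup.centralizer ((⁅B, B⁆ : Subgroup G) : Set G) := by
    rw [hCdef, Subgroup.commutator_le]
    intro x hx a ha
    refine Subgroup.mem_centralizer_iff.2 fun y hy => ?_
    have h1 := hA' _ ((Subgroup.mem_normalizer_iff.1 (hBn (B.inv_mem hx)) y).1 hy) a ha
    rw [inv_inv] at h1
    have h2 : a⁻¹ * y = y * a⁻¹ := by
      have := hA' y hy a ha
      calc a⁻¹ * y = a⁻¹ * (y * a) * a⁻¹ := by group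
        _ = a⁻¹ * (a * y) * a⁻¹ := by rw [this]
        _ = _ := by group
    rw [commutatorElement_def]
    calc y * (x * a * x⁻¹ * a⁻¹) = x * ((x⁻¹ * y * x) * a) * x⁻¹ * a⁻¹ := by group
      _ = x * (a * (x⁻¹ * y * x)) * x⁻¹ * a⁻¹ := by rw [h1]
      _ = x * a * x⁻¹ * (y * a⁻¹) := by group
      _ = x * a * x⁻¹ * (a⁻¹ * y) := by rw [h2]
      _ = _ := by group
  have hCC : ⁅⁅C, C⁆, B⁆ = ⊥ := by
    refine Subgroup.commutator_commutator_eq_bot_of_rotate ?_ ?_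
    · rw [Subgroup.commutator_eq_bot_iff_le_centralizer]
      exact (Subgroup.commutator_mono hCB le_rfl).trans (Subgroup.le_centralizer_iff.1 hCD)
    · rw [Subgroup.commutator_eq_bot_iff_le_centralizer]
      exact (Subgroup.commutator_mono le_rfl hCB).trans (Subgroup.le_centralizer_iff.1 hCD)
  have hpart1 : ⁅C, C⁆ ≤ B ⊓ Subgroup.centralizer (B : Set G) :=
    le_inf ((Subgroup.commutator_mono hCB hCB).trans B.commutator_le_self)
      (Subgroup.commutator_eq_bot_iff_le_centralizer.1 hCC)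
  refine ⟨hpart1, fun hAc b hb h3 w hw => ?_⟩
  set D := Subgroup.closure {g : G | ∃ a ∈ A, g = b⁻¹ * a * b * a⁻¹} with hD
  let d : G → G := fun a => b⁻¹ * a * b * a⁻¹
  have hdC : ∀ a ∈ A, d a ∈ C := fun a ha => by
    have := Subgroup.commutator_mem_commutator (B.inv_mem hb) ha
    rwa [commutatorElement_def, inv_inv] at this
  have hdD : ∀ a ∈ A, d a ∈ D := fun a ha => Subgroup.subset_closure ⟨a, ha, rfl⟩
  have hBcomm : ∀ x ∈ B, ∀ y ∈ B, x * y * x⁻¹ * y⁻¹ ∈ ⁅B, B⁆ := fun x hx y hy =>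
    Subgroup.commutator_mem_commutator hx hy
  have hCcomm : ∀ x ∈ C, ∀ y ∈ ⁅B, B⁆, x * y = y * x := fun x hx y hy =>
    (Subgroup.mem_centralizer_iff.1 (hCD hx) y hy).symm
  -- the twist `e a t = t⁻¹ a t a⁻¹` of `t` by `a`
  have key : ∀ a ∈ A, ∀ c ∈ A, (d a * d c * (d a)⁻¹ * (d c)⁻¹) ^ 2 = 1 := by
    intro a ha c hcA
    have hac : a * c = c * a := congrArg Subtype.val (hAc.is_comm.comm (⟨a, ha⟩ : A) ⟨c, hcA⟩)
    have hfix : ∀ s ∈ A, ∀ t ∈ A, ∀ u ∈ A,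
        u * ((d t)⁻¹ * s * d t * s⁻¹) = (d t)⁻¹ * s * d t * s⁻¹ * u := by
      intro s hs t ht u hu
      refine Subgroup.mem_centralizer_iff.1 (Subgroup.commutator_eq_bot_iff_le_centralizer.1 h3 ?_) u hu
      have := Subgroup.commutator_mem_commutator (D.inv_mem (hdD t ht)) hs
      rwa [commutatorElement_def, inv_inv] at this
    have hinC : ∀ s ∈ A, ∀ t ∈ A, (d t)⁻¹ * s * d t * s⁻¹ ∈ C := by
      intro s hs t ht
      have := Subgroup.commutator_mem_commutator (B.inv_mem (hCB (hdC t ht))) hs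
      rwa [commutatorElement_def, inv_inv] at this
    -- a fixed element of `B` commutes with every `d s`
    have hcd : ∀ e ∈ C, (∀ u ∈ A, u * e = e * u) → ∀ s ∈ A, e * d s = d s * e := by
      intro e he heA s hs
      have h1 := hA' _ (hBcomm e (hCB he) b hb) s hs
      have h2 := heA s hs
      show e * (b⁻¹ * s * b * s⁻¹) = b⁻¹ * s * b * s⁻¹ * e
      have h4 : s⁻¹ * e = e * s⁻¹ := by
        calc s⁻¹ * e = s⁻¹ * (e * s) * s⁻¹ := by group
          _ = s⁻¹ * (s * e) * s⁻¹ := by rw [h2]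
          _ = _ := by group
      have h5 : s * (e * b) * e⁻¹ * b⁻¹ = e * b * e⁻¹ * b⁻¹ * s := by rw [← h1]; group
      calc e * (b⁻¹ * s * b * s⁻¹) = e * b⁻¹ * e⁻¹ * (e * s) * b * s⁻¹ := by group
        _ = e * b⁻¹ * e⁻¹ * (s * e) * b * s⁻¹ := by rw [h2]
        _ = e * b⁻¹ * e⁻¹ * (s * (e * b) * e⁻¹ * b⁻¹) * b * (e * s⁻¹) := by group
        _ = e * b⁻¹ * e⁻¹ * (e * b * e⁻¹ * b⁻¹ * s) * b * (e * s⁻¹) := by rw [h5]
        _ = b⁻¹ * s * b * (e * s⁻¹) := by group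
        _ = b⁻¹ * s * b * (s⁻¹ * e) := by rw [h4]
        _ = _ := by group
    set e1 := (d c)⁻¹ * a * d c * a⁻¹ with he1
    set e2 := (d a)⁻¹ * c * d a * c⁻¹ with he2
    set x := d a * d c * (d a)⁻¹ * (d c)⁻¹ with hx
    have hxB : x ∈ ⁅B, B⁆ := hBcomm _ (hCB (hdC a ha)) _ (hCB (hdC c hcA))
    have hxb : b * x = x * b :=
      Subgroup.mem_centralizer_iff.1 (hpart1 (Subgroup.commutator_mem_commutator (hdC a ha) (hdC c hcA))).2 b hb
    have hstar : d a * d c * e1 = d c * d a * e2 := by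
      have : d a * (a * d c * a⁻¹) = d c * (c * d a * c⁻¹) := by
        show b⁻¹ * a * b * a⁻¹ * (a * (b⁻¹ * c * b * c⁻¹) * a⁻¹) =
          b⁻¹ * c * b * c⁻¹ * (c * (b⁻¹ * a * b * a⁻¹) * c⁻¹)
        calc _ = b⁻¹ * (a * c) * b * (a * c)⁻¹ := by group
          _ = b⁻¹ * (c * a) * b * (c * a)⁻¹ := by rw [hac]
          _ = _ := by group
      rw [he1, he2]
      calc d a * d c * ((d c)⁻¹ * a * d c * a⁻¹) = d a * (a * d c * a⁻¹) := by group
        _ = d c * (c * d a * c⁻¹) := this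
        _ = _ := by group
    have he1C := hinC a ha c hcA
    have he2C := hinC c hcA a ha
    have hx_eq : e2 = x * e1 := by
      have e2d := hcd e2 he2C (fun u hu => hfix c hcA a ha u hu)
      have e1d := hcd e1 he1C (fun u hu => hfix a ha c hcA u hu)
      have q : d a * d c * e1 * (d a)⁻¹ * (d c)⁻¹ = e2 := by
        rw [hstar]
        calc d c * d a * e2 * (d a)⁻¹ * (d c)⁻¹ = d c * (d a * e2) * (d a)⁻¹ * (d c)⁻¹ := by group
          _ = d c * (e2 * d a) * (d a)⁻¹ * (d c)⁻¹ := by rw [e2d a ha]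
          _ = d c * e2 * (d c)⁻¹ := by group
          _ = e2 * d c * (d c)⁻¹ := by rw [e2d c hcA]
          _ = _ := by group
      have r : e1 * ((d a)⁻¹ * (d c)⁻¹) = (d a)⁻¹ * (d c)⁻¹ * e1 := by
        have hh : d c * d a * e1 = e1 * (d c * d a) := by
          rw [mul_assoc, ← e1d a ha, ← mul_assoc, ← e1d c hcA, mul_assoc]
        calc e1 * ((d a)⁻¹ * (d c)⁻¹) = (d c * d a)⁻¹ * (d c * d a * e1) * (d c * d a)⁻¹ := by group
          _ = (d c * d a)⁻¹ * (e1 * (d c * d a)) * (d c * d a)⁻¹ := by rw [hh]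
          _ = _ := by group
      rw [← q, hx]
      calc d a * d c * e1 * (d a)⁻¹ * (d c)⁻¹ = d a * d c * (e1 * ((d a)⁻¹ * (d c)⁻¹)) := by group
        _ = d a * d c * ((d a)⁻¹ * (d c)⁻¹ * e1) := by rw [r]
        _ = _ := by group
    -- `f e = [b⁻¹, e]` takes `x⁻¹`, `x` on `e2`, `e1`
    have hf : ∀ s ∈ A, ∀ t ∈ A,
        b⁻¹ * ((d t)⁻¹ * s * d t * s⁻¹) * b * ((d t)⁻¹ * s * d t * s⁻¹)⁻¹ =
          (d t * d s * (d t)⁻¹ * (d s)⁻¹)⁻¹ := by
      intro s hs t ht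
      set e := (d t)⁻¹ * s * d t * s⁻¹ with he
      have heA := hfix s hs t ht
      have htB := hCB (hdC t ht)
      have hsbs : s * b * s⁻¹ ∈ B := (Subgroup.mem_normalizer_iff.1 (hAB hs) b).1 hb
      -- `s [d t, b] s⁻¹ = [d t, b]` and `s d_t s⁻¹ = d_t e`
      have h1 : s * (d t * b * (d t)⁻¹ * b⁻¹) * s⁻¹ = d t * b * (d t)⁻¹ * b⁻¹ := by
        rw [hA' _ (hBcomm _ htB b hb) s hs, mul_inv_cancel_right]
      have h2 : d t * e * (s * b * s⁻¹) * e⁻¹ * (d t)⁻¹ * (s * b * s⁻¹)⁻¹ =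
          d t * b * (d t)⁻¹ * b⁻¹ := by
        conv_rhs => rw [← h1]
        rw [he]; group
      have hds : d s = b⁻¹ * (s * b * s⁻¹) := by show b⁻¹ * s * b * s⁻¹ = _; group
      have hedt : e * d t = d t * e := hcd e (hinC s hs t ht) heA t ht
      have heds : e * d s = d s * e := hcd e (hinC s hs t ht) heA s hs
      set y := s * b * s⁻¹
      have hcent : d t * (e * y * e⁻¹ * y⁻¹) = e * y * e⁻¹ * y⁻¹ * d t :=
        hCcomm _ (hdC t ht) _ (hBcomm e (hCB (hinC s hs t ht)) y hsbs)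
      have h6 : y * (d t)⁻¹ * y⁻¹ = (e * y * e⁻¹ * y⁻¹)⁻¹ * (b * (d t)⁻¹ * b⁻¹) := by
        have h7 : e * y * e⁻¹ * (d t)⁻¹ * y⁻¹ = b * (d t)⁻¹ * b⁻¹ := by
          have := congrArg (fun z => (d t)⁻¹ * z) h2
          simp only [mul_assoc, inv_mul_cancel_left] at this ⊢
          exact this
        rw [← h7]; group
      have hye : e * y * e⁻¹ * y⁻¹ = e * b * e⁻¹ * b⁻¹ := by
        have := congrArg (fun z => b * z * e⁻¹) heds
        rw [hds] at this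
        have hy : y = b * d s := by rw [hds]; group
        rw [hy]
        calc e * (b * d s) * e⁻¹ * (b * d s)⁻¹ = e * b * (d s * e⁻¹ * (d s)⁻¹) * b⁻¹ := by group
          _ = e * b * (e⁻¹ * (e * d s) * e⁻¹ * (d s)⁻¹) * b⁻¹ := by group
          _ = e * b * (e⁻¹ * (d s * e) * e⁻¹ * (d s)⁻¹) * b⁻¹ := by rw [heds]
          _ = _ := by group
      rw [hye] at h6 hcent
      calc b⁻¹ * e * b * e⁻¹ = b⁻¹ * (e * b * e⁻¹ * b⁻¹) * b := by group
        _ = _ := by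
          rw [hds]
          calc b⁻¹ * (e * b * e⁻¹ * b⁻¹) * b
              = (d t * b⁻¹ * ((e * b * e⁻¹ * b⁻¹)⁻¹ * (b * (d t)⁻¹ * b⁻¹)) * b)⁻¹ := by
                have hz : d t * b⁻¹ * (e * b * e⁻¹ * b⁻¹)⁻¹ * b * (d t)⁻¹ =
                    b⁻¹ * (e * b * e⁻¹ * b⁻¹)⁻¹ * b := by
                  have hm : b⁻¹ * (e * b * e⁻¹ * b⁻¹)⁻¹ * b ∈ ⁅B, B⁆ := by
                    have := (Subgroup.mem_normalizer_iff.1 (hBn (B.inv_mem hb)) _).1
                      ((⁅B, B⁆).inv_mem (hBcomm e (hCB (hinC s hs t ht)) b hb))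
                    rwa [inv_inv] at this
                  have := hCcomm _ (hdC t ht) _ hm
                  calc d t * b⁻¹ * (e * b * e⁻¹ * b⁻¹)⁻¹ * b * (d t)⁻¹
                      = d t * (b⁻¹ * (e * b * e⁻¹ * b⁻¹)⁻¹ * b) * (d t)⁻¹ := by group
                    _ = b⁻¹ * (e * b * e⁻¹ * b⁻¹)⁻¹ * b * d t * (d t)⁻¹ := by rw [this]
                    _ = _ := by group
                calc b⁻¹ * (e * b * e⁻¹ * b⁻¹) * b = (b⁻¹ * (e * b * e⁻¹ * b⁻¹)⁻¹ * b)⁻¹ := by group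
                  _ = (d t * b⁻¹ * (e * b * e⁻¹ * b⁻¹)⁻¹ * b * (d t)⁻¹)⁻¹ := by rw [hz]
                  _ = _ := by group
            _ = (d t * b⁻¹ * (y * (d t)⁻¹ * y⁻¹) * b)⁻¹ := by rw [h6]
            _ = _ := by group
    have f2 := hf c hcA a ha
    have f1 := hf a ha c hcA
    rw [← he2, ← hx, hx_eq] at f2
    rw [← he1] at f1
    have hxinv : (d c * d a * (d c)⁻¹ * (d a)⁻¹)⁻¹ = x := by rw [hx]; group
    rw [hxinv] at f1
    have h8 : b⁻¹ * x = x * b⁻¹ := by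
      calc b⁻¹ * x = b⁻¹ * (x * b) * b⁻¹ := by group
        _ = b⁻¹ * (b * x) * b⁻¹ := by rw [hxb]
        _ = _ := by group
    have h9 : x * (b⁻¹ * e1 * b * e1⁻¹) * x⁻¹ = x⁻¹ := by
      conv_rhs => rw [← f2]
      calc x * (b⁻¹ * e1 * b * e1⁻¹) * x⁻¹ = (x * b⁻¹) * e1 * b * e1⁻¹ * x⁻¹ := by group
        _ = (b⁻¹ * x) * e1 * b * e1⁻¹ * x⁻¹ := by rw [h8]
        _ = _ := by group
    rw [f1, mul_inv_cancel_right] at h9
    rw [pow_two]
    nth_rewrite 2 [h9]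
    rw [mul_inv_cancel]
  -- all of `D'` lies in the elementary central part
  have hDB : D ≤ B := (Subgroup.closure_le _).2 (by rintro _ ⟨a, ha, rfl⟩; exact hCB (hdC a ha))
  have hDC : D ≤ C := (Subgroup.closure_le _).2 (by rintro _ ⟨a, ha, rfl⟩; exact hdC a ha)
  have hcen : ∀ u ∈ D, ∀ v ∈ D, ∀ z ∈ B, z * ⁅u, v⁆ = ⁅u, v⁆ * z := fun u hu v hv z hz =>
    Subgroup.mem_centralizer_iff.1 (hpart1 (Subgroup.commutator_mem_commutator (hDC hu) (hDC hv))).2 z hz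
  have hl : ∀ u ∈ D, ∀ v ∈ D, ∀ z ∈ D, ⁅u * v, z⁆ = ⁅v, z⁆ * ⁅u, z⁆ := by
    intro u hu v hv z hz
    calc ⁅u * v, z⁆ = u * ⁅v, z⁆ * u⁻¹ * ⁅u, z⁆ := by simp only [commutatorElement_def]; group
      _ = _ := by rw [hcen v hv z hz u (hDB hu), mul_inv_cancel_right]
  have hsq : ∀ u ∈ D, ∀ v ∈ D, ∀ u' ∈ D, ∀ v' ∈ D, ⁅u, v⁆ ^ 2 = 1 → ⁅u', v'⁆ ^ 2 = 1 →
      (⁅u, v⁆ * ⁅u', v'⁆) ^ 2 = 1 := by
    intro u hu v hv u' hu' v' hv' h1 h2
    have hcm : Commute ⁅u, v⁆ ⁅u', v'⁆ := hcen u' hu' v' hv' _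
      (B.commutator_le_self (Subgroup.commutator_mem_commutator (hDB hu) (hDB hv)))
    rw [hcm.mul_pow, h1, h2, one_mul]
  have hr : ∀ u ∈ D, ∀ v ∈ D, ∀ z ∈ D, ⁅z, u * v⁆ = ⁅z, u⁆ * ⁅z, v⁆ := by
    intro u hu v hv z hz
    calc ⁅z, u * v⁆ = ⁅z, u⁆ * (u * ⁅z, v⁆ * u⁻¹) := by simp only [commutatorElement_def]; group
      _ = _ := by rw [hcen z hz v hv u (hDB hu), mul_inv_cancel_right]
  have hpair : ∀ u ∈ D, ∀ v ∈ D, ⁅u, v⁆ ^ 2 = 1 := by
    intro u hu v hv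
    induction hu, hv using Subgroup.closure_induction₂ with
    | mem x y hx hy =>
      obtain ⟨a, ha, rfl⟩ := hx
      obtain ⟨c, hc', rfl⟩ := hy
      exact key a ha c hc'
    | one_left => rw [commutatorElement_one_left, one_pow]
    | one_right => rw [commutatorElement_one_right, one_pow]
    | mul_left x y z hx hy hz ihx ihy => rw [hl x hx y hy z hz]; exact hsq y hy z hz x hx z hz ihy ihx
    | mul_right y z x hy hz hx ihy ihz => rw [hr y hy z hz x hx]; exact hsq x hx y hy x hx z hz ihy ihz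
    | inv_left x y hx hy ih =>
      have h1 := hl x⁻¹ (D.inv_mem hx) x hx y hy
      rw [inv_mul_cancel, commutatorElement_one_left] at h1
      rw [eq_inv_of_mul_eq_one_right h1.symm, inv_pow, ih, inv_one]
    | inv_right x y hx hy ih =>
      have h1 := hr y⁻¹ (D.inv_mem hy) y hy x hx
      rw [inv_mul_cancel, commutatorElement_one_right] at h1
      rw [eq_inv_of_mul_eq_one_left h1.symm, inv_pow, ih, inv_one]
  rw [Subgroup.commutator_def] at hw
  suffices w ^ 2 = 1 ∧ w ∈ B ⊓ Subgroup.centralizer (B : Set G) from this.1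
  induction hw using Subgroup.closure_induction with
  | mem x hx =>
    obtain ⟨u, hu, v, hv, rfl⟩ := hx
    exact ⟨hpair u hu v hv, hpart1 (Subgroup.commutator_mem_commutator (hDC hu) (hDC hv))⟩
  | one => exact ⟨one_pow 2, one_mem _⟩
  | mul x y _ _ ihx ihy =>
    exact ⟨by rw [Commute.mul_pow (Subgroup.mem_centralizer_iff.1 ihy.2.2 x ihx.2.1), ihx.1, ihy.1,
      one_mul], mul_mem ihx.2 ihy.2⟩
  | inv x _ ih => exact ⟨by rw [inv_pow, ih.1, inv_one], inv_mem ih.2⟩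

end Cfsg.Agent.S0648
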