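import Cfsg.Statements.S0649
import Cfsg.Agent.Lib.PGroup.Basic

set_option autoImplicit false
open Cfsg
open scoped commutatorElement

namespace Cfsg.Agent.S0649

/-- In the Glauberman replacement situation, if B does not normalize A then some element of B normalizes N_S(A) without normalizing A. -/
theorem result {S : Type*} [Group S] [Finite S] {p : ℕ} [Fact p.Prime] (hS : IsPGroup p S) (B : Subgroup S) [B.Normal] (hB2 : p = 2 → IsMulCommutative B) (A : Subgroup S) (hA : IsMulCommutative A) (hBA : ⁅B, B⁆ ≤ A) (hnot : ¬ B ≤ Subgroup.normalizer (A : Set S)) : ∃ b ∈ B, b ∈ Subgroup.normalizer ((Subgroup.normalizer (A : Set S)) : Set S) ∧ b ∉ Subgroup.normalizer (A : Set S) := by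
  set N := Subgroup.normalizer (A : Set S) with hN
  let K := N ⊔ B
  have hAB : ⁅B, B⁆ ≤ B ⊓ N := le_inf B.commutator_le_self (hBA.trans Subgroup.le_normalizer)
  have hBn : ∀ x ∈ B, ∀ y ∈ B ⊓ N, x * y * x⁻¹ ∈ B ⊓ N := fun x hx y hy => by
    rw [show x * y * x⁻¹ = (x * y * x⁻¹ * y⁻¹) * y by group]
    exact mul_mem (hAB (Subgroup.commutator_mem_commutator hx hy.1)) hy
  let M : Subgroup K := (B ⊓ N).subgroupOf K
  have : M.Normal := by
    refine (Subgroup.normal_subgroupOf_iff_le_normalizer (inf_le_left.trans le_sup_right)).2 (sup_le ?_ ?_)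
    · intro x hx
      refine Subgroup.mem_normalizer_iff.2 fun y => ?_
      have h1 := Subgroup.mem_normalizer_iff.1 (Subgroup.le_normalizer hx : x ∈ Subgroup.normalizer (N : Set S)) y
      have h2 : y ∈ B ↔ x * y * x⁻¹ ∈ B := ⟨fun h => (inferInstance : B.Normal).conj_mem y h x,
        fun h => by
          have := (inferInstance : B.Normal).conj_mem _ h x⁻¹
          simpa [mul_assoc] using this⟩
      exact and_congr h2 h1
    · intro x hx
      refine Subgroup.mem_normalizer_iff.2 fun y => ⟨fun h => hBn x hx y h, fun h => ?_⟩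
      have := hBn x⁻¹ (B.inv_mem hx) _ h
      simpa [mul_assoc] using this
  let π := QuotientGroup.mk' M
  let Q : Subgroup (K ⧸ M) := (B.subgroupOf K).map π
  have : Q.Normal := ((inferInstance : B.Normal).subgroupOf K).map π (QuotientGroup.mk'_surjective M)
  have hQ : Q ≠ ⊥ := by
    rw [Ne, Subgroup.map_eq_bot_iff, QuotientGroup.ker_mk']
    exact fun h => hnot fun x hx => (h (show (⟨x, Subgroup.mem_sup_right hx⟩ : K) ∈ B.subgroupOf K from hx)).2
  have hinf := CfsgLib.PGroup.inf_center_ne_bot ((hS.to_subgroup K).to_quotient M) Q hQ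
  obtain ⟨q, ⟨hq, hqc⟩, hq1⟩ := Q ⊓ Subgroup.center (K ⧸ M) |>.ne_bot_iff_exists_ne_one.1 hinf |> fun ⟨q, h⟩ =>
    (⟨q.1, q.2, fun e => h (Subtype.ext e)⟩ : ∃ q, q ∈ Q ⊓ Subgroup.center (K ⧸ M) ∧ q ≠ 1)
  obtain ⟨b, hb, rfl⟩ := hq
  refine ⟨b, hb, ?_, fun h => hq1 ((QuotientGroup.eq_one_iff b).2 ⟨hb, h⟩)⟩
  have key : ∀ n ∈ N, (b : S) * n * (b : S)⁻¹ ∈ N := by
    intro n hn
    have h1 := Subgroup.mem_center_iff.1 hqc (π ⟨n, Subgroup.mem_sup_left hn⟩)
    have h2 : π (b * ⟨n, Subgroup.mem_sup_left hn⟩ * b⁻¹ * ⟨n, Subgroup.mem_sup_left hn⟩⁻¹) = 1 := by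
      rw [map_mul, map_mul, map_mul, map_inv, map_inv, ← h1]
      group
    have h3 : (b : S) * n * (b : S)⁻¹ * n⁻¹ ∈ N := ((QuotientGroup.eq_one_iff _).1 h2).2
    simpa [mul_assoc] using N.mul_mem h3 hn
  have hfin : Subgroup.map (MulAut.conj (b : S)).toMonoidHom N = N := by
    refine Subgroup.eq_of_le_of_card_ge ?_ (Subgroup.card_map_of_injective (MulAut.conj (b : S)).injective).ge
    rintro _ ⟨n, hn, rfl⟩
    exact key n hn
  exact Subgroup.mem_normalizer_iff_map_conj_eq.2 hfin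

end Cfsg.Agent.S0649
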