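import Cfsg.Statements.S0650
import Cfsg.Agent.Lib.PStab.Replacement

set_option autoImplicit false
open Cfsg

namespace Cfsg.Agent.S0650

/-- The Glauberman replacement Theorem: from an abelian A ⊇ [B, B] not normalized by the normal subgroup B and a suitable b ∈ B one gets the abelian subgroup A* = (A ∩ b⁻¹Ab)[A, b] of the same order, containing [B, B], meeting B strictly more than A does but not containing B, mutually normalizing with A, with strictly larger normalizer containing b, and (p odd) of no larger exponent. -/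
theorem result {S : Type*} [Group S] [Finite S] {p : ℕ} [Fact p.Prime] (hS : IsPGroup p S) (B : Subgroup S) [B.Normal] (hB2 : p = 2 → IsMulCommutative B) (A : Subgroup S) (hA : IsMulCommutative A) (hBA : ⁅B, B⁆ ≤ A) (hnot : ¬ B ≤ Subgroup.normalizer (A : Set S)) (b : S) (hb : b ∈ B) (hbN : b ∈ Subgroup.normalizer ((Subgroup.normalizer (A : Set S)) : Set S)) (hbA : b ∉ Subgroup.normalizer (A : Set S)) : Nat.card ↥((A ⊓ A.map (MulAut.conj (b⁻¹)).toMonoidHom) ⊔ Subgroup.closure {g : S | ∃ a ∈ A, g = a * b⁻¹ * a⁻¹ * b}) = Nat.card A ∧ IsMulCommutative ↥((A ⊓ A.map (MulAut.conj (b⁻¹)).toMonoidHom) ⊔ Subgroup.closure {g : S | ∃ a ∈ A, g = a * b⁻¹ * a⁻¹ * b}) ∧ ⁅B, B⁆ ≤ ((A ⊓ A.map (MulAut.conj (b⁻¹)).toMonoidHom) ⊔ Subgroup.closure {g : S | ∃ a ∈ A, g = a * b⁻¹ * a⁻¹ * b}) ∧ A ⊓ B < ((A ⊓ A.map (MulAut.conj (b⁻¹)).toMonoidHom) ⊔ Subgroup.closure {g : S | ∃ a ∈ A, g = a * b⁻¹ * a⁻¹ * b}) ⊓ B ∧ ((A ⊓ A.map (MulAut.conj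 (b⁻¹)).toMonoidHom) ⊔ Subgroup.closure {g : S | ∃ a ∈ A, g = a * b⁻¹ * a⁻¹ * b}) ⊓ B < B ∧ A ≤ Subgroup.normalizer (((A ⊓ A.map (MulAut.conj (b⁻¹)).toMonoidHom) ⊔ Subgroup.closure {g : S | ∃ a ∈ A, g = a * b⁻¹ * a⁻¹ * b} : Subgroup S) : Set S) ∧ ((A ⊓ A.map (MulAut.conj (b⁻¹)).toMonoidHom) ⊔ Subgroup.closure {g : S | ∃ a ∈ A, g = a * b⁻¹ * a⁻¹ * b}) ≤ Subgroup.normalizer (A : Set S) ∧ b ∈ Subgroup.normalizer (((A ⊓ A.map (MulAut.conj (b⁻¹)).toMonoidHom) ⊔ Subgroup.closure {g : S | ∃ a ∈ A, g = a * b⁻¹ * a⁻¹ * b} : Subgroup S) : Set S) ∧ Subgroup.normalizer (A : Set S) < Subgroup.normalizer (((A ⊓ A.map (MulAut.conj (b⁻¹)).toMonoidHom) ⊔ Subgroup.closure {g : S | ∃ a ∈ A, g = a * b⁻¹ * a⁻¹ * b} : Subgroup S) : Set S) ∧ (p ≠ 2 → Monoid.exponent ↥((A ⊓ A.map (MulAut.conj (b⁻¹)).toMonoidHom) ⊔ Subgroup.closure {g : S | ∃ a ∈ A, g = a * b⁻¹ * a⁻¹ * b}) ∣ Monoid.exponent A) := by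
  have hodd : p ≠ 2 → Odd p := fun h2 => (Fact.out : p.Prime).odd_of_ne_two h2
  have hN : ∀ g ∈ Subgroup.normalizer (A : Set S), b * g * b⁻¹ ∈ Subgroup.normalizer (A : Set S) :=
    fun g hg => (Subgroup.mem_normalizer_iff.1 hbN g).1 hg
  have h : CfsgLib.PStab.ReplaceData A B b :=
    { comm := hA
      derived := hBA
      normB := by rw [Subgroup.normalizer_eq_top B]; exact le_top
      memB := hb
      conj := fun a ha => (Subgroup.mem_normalizer_iff''.1 hbN a).1 (Subgroup.le_normalizer ha)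
      conj' := fun a ha => hN a (Subgroup.le_normalizer ha)
      twist := by
        by_cases h2 : p = 2
        · exact Or.inl (hB2 h2)
        · obtain ⟨k, hk⟩ := IsPGroup.iff_orderOf.1 hS b
          exact Or.inr (hk ▸ (hodd h2).pow) }
  refine ⟨h.card_replaced, h.isMulCommutative_replaced, h.derived_le_replaced,
    h.inf_lt_replaced_inf hbA, lt_of_le_of_ne inf_le_right ?_, h.le_normalizer_replaced,
    h.replaced_le_normalizer, h.mem_normalizer_replaced,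
    lt_of_le_of_ne ?_ ?_, fun h2 => ?_⟩
  · exact fun e => hnot ((inf_eq_right.1 e).trans h.replaced_le_normalizer)
  · exact fun g hg => h.mem_normalizer_replaced_of hg
      (by rw [Subgroup.normalizer_eq_top B]; trivial) (hN g hg)
  · exact fun e => hbA (e.ge h.mem_normalizer_replaced)
  · rw [Monoid.exponent_dvd_iff_forall_pow_eq_one]
    intro g
    apply Subtype.ext
    refine h.pow_eq_one_replaced ?_ (fun a ha => congrArg Subtype.val (Monoid.pow_exponent_eq_one (⟨a, ha⟩ : A))) g g.2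
    obtain ⟨k, hk⟩ := (hS.to_subgroup A).exists_card_eq
    exact ((hodd h2).pow (n := k)).of_dvd_nat (hk ▸ Group.exponent_dvd_nat_card)

end Cfsg.Agent.S0650
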