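import Cfsg.Statements.S0652
import Cfsg.Agent.Lib.Transfer.ReplaceFamily
import Cfsg.Agent.Lib.PGroup.ElemAbelian

set_option autoImplicit false
open Cfsg
open scoped commutatorElement

namespace Cfsg.Agent.S0652

/-- For odd p and D normal in the p-group S, the elementary abelian subgroups of D of largest order satisfy the replacement property for class-2 normal subgroups of S. -/
theorem result {S : Type*} [Group S] [Finite S] {p : ℕ} [Fact p.Prime] (hS : IsPGroup p S) (hp : p ≠ 2) (D : Subgroup S) [D.Normal] : ∀ (B : Subgroup S) [B.Normal], ⁅⁅B, B⁆, B⁆ = ⊥ → (∃ U ∈ (Set.image (fun A : Subgroup ↥D => A.map D.subtype) (Cfsg.maxElementaryAbelianSubgroups p ↥D)), ⁅B, B⁆ ≤ U ∧ ¬ B ≤ U) → ∃ A ∈ (Set.image (fun A : Subgroup ↥D => A.map D.subtype) (Cfsg.maxElementaryAbelianSubgroups p ↥D)), ⁅B, B⁆ ≤ A ∧ ¬ B ≤ A ∧ B ≤ Subgroup.normalizer (A : Set S) := by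
  intro B _ _ hex
  refine CfsgLib.Transfer.exists_normalized_of_replacement hS hp D B _ ?_ ?_ hex
  · rintro _ ⟨A, ⟨hA, -⟩, rfl⟩
    exact ⟨Subgroup.map_subtype_le A, (CfsgLib.PGroup.elemAb_map hA _).1⟩
  · rintro _ ⟨A, ⟨hA, hmax⟩, rfl⟩ b hd hle
    refine ⟨(CfsgLib.PStab.replaced _ b).subgroupOf D, ⟨?_, fun C hC => ?_⟩,
      Subgroup.map_subgroupOf_eq_of_le hle⟩
    · exact CfsgLib.PGroup.elemAb_subgroupOf (CfsgLib.PGroup.isElementaryAbelian_mk
        (fun x hx y hy => congrArg Subtype.val (hd.isMulCommutative_replaced.is_comm.comm ⟨x, hx⟩ ⟨y, hy⟩))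
        (hd.pow_eq_one_replaced ((Fact.out : p.Prime).odd_of_ne_two hp) (CfsgLib.PGroup.elemAb_map hA _).2))
    · rw [Nat.card_congr (Subgroup.subgroupOfEquivOfLe hle).toEquiv, hd.card_replaced,
        Subgroup.card_map_of_injective D.subtype_injective]
      exact hmax C hC

end Cfsg.Agent.S0652
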