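import Cfsg.Statements.S0657
import Cfsg.Agent.Lib.Transfer.DicksonSection

set_option autoImplicit false
open Cfsg
open scoped commutatorElement

namespace Cfsg.Agent.S0657

/-- For odd p, a group that fails to be p-stable modulo its largest normal subgroup of order prime to p, and whose upper p-series does not stop there, has a section isomorphic to SL(2, p). -/
theorem result {G : Type*} [Group G] [Finite G] {p : ℕ} [Fact p.Prime] (hp : p ≠ 2) (hO : Cfsg.pPrimeCore p G < Cfsg.pPrimePCore p G) (hns : ¬ Cfsg.IsPStable p (G ⧸ Cfsg.pPrimeCore p G)) : ∃ (K L : Subgroup G) (hL : (L.subgroupOf K).Normal), K ≤ ⊤ ∧ Nonempty ((K ⧸ L.subgroupOf K) ≃* Matrix.SpecialLinearGroup (Fin 2) (ZMod p)) := by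
  set N := Cfsg.pPrimeCore p G
  have hQ : Cfsg.pCore p (G ⧸ N) ≠ ⊥ := fun h => by
    refine hO.ne' ?_
    rw [Cfsg.pPrimePCore, h, MonoidHom.comap_bot, QuotientGroup.ker_mk']
  rw [CfsgLib.Transfer.isPStable_iff_of_core_eq_bot (CfsgLib.Cores.pPrimeCore_quotient_self p)] at hns
  have hns' : ¬ CfsgLib.Transfer.NormalStable p (G ⧸ N) := fun h =>
    hns ⟨(Fact.out : p.Prime).odd_of_ne_two hp, hQ, h⟩
  obtain ⟨S, f, hf⟩ := CfsgLib.Transfer.exists_sl2_surjective_of_not_normalStable hp hns'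
  set φ := (QuotientGroup.mk' N).comp (⊤ : Subgroup G).subtype with hφdef
  have hφ : Function.Surjective φ := fun q => by
    obtain ⟨g, rfl⟩ := QuotientGroup.mk'_surjective N q
    exact ⟨⟨g, Subgroup.mem_top g⟩, rfl⟩
  have hg : Function.Surjective (f.comp (φ.subgroupComap S)) := hf.comp fun ⟨y, hy⟩ => by
    obtain ⟨x, rfl⟩ := hφ y
    exact ⟨⟨x, hy⟩, rfl⟩
  obtain ⟨K, L, hL, hKH, he⟩ := CfsgLib.Transfer.exists_section_of_surjective hg
  exact ⟨K, L, hL, hKH, he⟩

end Cfsg.Agent.S0657
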