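import Cfsg.Statements.S0658
import Cfsg.Agent.Lib.PStab.FusionForms

set_option autoImplicit false
open Cfsg

namespace Cfsg.Agent.S0658

/-- In a group of characteristic p type all of whose p-locals are p-stable (p odd), the normalizer of Z(J(P)) contains the normalizer of every nontrivial subgroup of the Sylow p-subgroup P. -/
theorem result {G : Type*} [Group G] [Finite G] {p : ℕ} [Fact p.Prime] (hp : p ≠ 2) (hloc : ∀ Q : Subgroup G, IsPGroup p Q → Q ≠ ⊥ → Cfsg.pPrimeCore p ↥(Subgroup.normalizer (Q : Set G)) = ⊥ ∧ Cfsg.IsPConstrained p ↥(Subgroup.normalizer (Q : Set G)) ∧ Cfsg.IsPStable p ↥(Subgroup.normalizer (Q : Set G))) (P : Sylow p G) (Q : Subgroup G) (hQP : Q ≤ (P : Subgroup G)) (hQ1 : Q ≠ ⊥) : Subgroup.normalizer (Q : Set G) ≤ Subgroup.normalizer (Cfsg.centerThompsonAOf ((P : Subgroup G)) : Set G) := by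
  rw [CfsgLib.PStab.centerThompsonAOf_eq_zjGen]
  set M := Subgroup.normalizer (CfsgLib.PStab.zjGen 0 (P : Subgroup G) : Set G) with hM
  have hD : Cfsg.IsStronglyClosed (P : Subgroup G) (P : Subgroup G) := ⟨le_rfl, fun _ _ _ h => h⟩
  have hloc' : ∀ X ≤ (P : Subgroup G), X ≠ ⊥ →
      CfsgLib.Techniques.Functor.Full p (P : Subgroup G) X →
      Subgroup.normalizer (X : Set G) ≤ Subgroup.normalizer (CfsgLib.PStab.zjGen 0
        ((P : Subgroup G) ⊓ ((P : Subgroup G) ⊓ Subgroup.normalizer (X : Set G))) : Set G) := by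
    intro X hX hX0 hfull
    obtain ⟨h1, h2, h3⟩ := hloc X (P.2.to_le hX) hX0
    exact CfsgLib.PStab.factorAt_of_isPStable P hp (Or.inl rfl) hD hfull h1 h2 h3
  have hctrl := CfsgLib.PStab.control_of_factor P (e := 0) (Or.inl rfl) hD fun X hX hX0 hfull n hn =>
    ⟨1, one_mem _, n, ⟨hn, hloc' X hX hX0 hfull hn⟩, (one_mul n).symm⟩
  suffices key : ∀ (d : ℕ) (Y : Subgroup G), Y ≤ (P : Subgroup G) → Y ≠ ⊥ →
      Nat.card (P : Subgroup G) -
        Nat.card ((P : Subgroup G) ⊓ Subgroup.normalizer (Y : Set G) : Subgroup G) = d →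
      Subgroup.normalizer (Y : Set G) ≤ M from key _ Q hQP hQ1 rfl
  intro d
  induction d using Nat.strong_induction_on with
  | _ d ih =>
  intro Y hY hY0 hd
  obtain ⟨u, huS, hfull, huN⟩ := CfsgLib.Techniques.Functor.exists_full P hY
  obtain ⟨m, hm, hag⟩ := hctrl _ u inf_le_left huN
  have hYm : CfsgLib.Fusion.conjSub m Y = CfsgLib.Fusion.conjSub u Y :=
    (hag.mono (le_inf hY Subgroup.le_normalizer)).conjSub_eq
  set Y' := CfsgLib.Fusion.conjSub u Y with hY'
  set R := (P : Subgroup G) ⊓ Subgroup.normalizer (Y' : Set G) with hR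
  have hY'0 : Y' ≠ ⊥ := CfsgLib.Techniques.Functor.conjSub_ne_bot hY0
  have h1 : Subgroup.normalizer (Y' : Set G) ≤ M := by
    have h2 := hloc' Y' huS hY'0 hfull
    rw [inf_eq_right.2 (inf_le_left : R ≤ (P : Subgroup G))] at h2
    rcases eq_or_lt_of_le (inf_le_left : R ≤ (P : Subgroup G)) with heq | hlt
    · rw [heq] at h2; exact h2
    set W := CfsgLib.PStab.zjGen 0 R
    have hW0 : W ≠ ⊥ := CfsgLib.PStab.zjGen_ne_bot (Or.inl rfl) (P.2.to_le inf_le_left)
      fun e => hY'0 (le_bot_iff.1 ((le_inf huS Subgroup.le_normalizer).trans e.le))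
    refine h2.trans (ih _ ?_ W ((CfsgLib.PStab.zjGen_le 0 R).trans inf_le_left) hW0 rfl)
    have ha := CfsgLib.Techniques.Functor.card_lt_of_lt (CfsgLib.Techniques.Functor.lt_norm P.2 hlt)
    have hb : Nat.card ((P : Subgroup G) ⊓ Subgroup.normalizer (R : Set G) : Subgroup G) ≤
        Nat.card ((P : Subgroup G) ⊓ Subgroup.normalizer (W : Set G) : Subgroup G) :=
      Subgroup.card_le_of_le (inf_le_inf_left _ (CfsgLib.PStab.normalizer_le_normalizer_zjGen 0 R))
    have hc : Nat.card ((P : Subgroup G) ⊓ Subgroup.normalizer (Y : Set G) : Subgroup G) ≤ Nat.card R := by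
      rw [← CfsgLib.Fusion.card_conjSub u]
      exact Subgroup.card_le_of_le (CfsgLib.Techniques.Functor.conjSub_norm_le huN)
    have he : Nat.card ((P : Subgroup G) ⊓ Subgroup.normalizer (W : Set G) : Subgroup G) ≤
        Nat.card (P : Subgroup G) := Subgroup.card_le_of_le inf_le_left
    exact hd ▸ Nat.sub_lt_sub_left (hc.trans_lt (ha.trans_le (hb.trans he))) (hc.trans_lt (ha.trans_le hb))
  intro g hg
  have h3 : m * g * m⁻¹ ∈ Subgroup.normalizer (Y' : Set G) := by
    rw [← hYm, ← CfsgLib.Techniques.Functor.conjSub_normalizer]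
    exact CfsgLib.Fusion.conj_mem_conjSub hg
  have h4 := M.mul_mem (M.mul_mem (M.inv_mem hm) (h1 h3)) hm
  simpa [mul_assoc] using h4

end Cfsg.Agent.S0658
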