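import Cfsg.Statements.S0660
import Mathlib.Algebra.BigOperators.Group.Finset.Basic

set_option autoImplicit false
open Cfsg
open scoped commutatorElement

namespace Cfsg.Agent.S0660

/-- Under a coprime action on an abelian group, an invariant subgroup that is complemented admits an invariant complement. -/
theorem result {G : Type*} [Group G] [Finite G] (V A U : Subgroup G) (hVab : IsMulCommutative V) (hAV : A ≤ Subgroup.normalizer (V : Set G)) (hcop : (Nat.card A).Coprime (Nat.card V)) (hUV : U ≤ V) (hAU : A ≤ Subgroup.normalizer (U : Set G)) (W : Subgroup G) (hWV : W ≤ V) (hUW : U ⊓ W = ⊥) (hUWV : U ⊔ W = V) : ∃ W' : Subgroup G, W' ≤ V ∧ A ≤ Subgroup.normalizer (W' : Set G) ∧ U ⊓ W' = ⊥ ∧ U ⊔ W' = V := by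
  have hcm : ∀ v ∈ V, ∀ w ∈ V, v * w = w * v := fun v hv w hw =>
    congrArg Subtype.val (hVab.is_comm.comm (⟨v, hv⟩ : V) ⟨w, hw⟩)
  classical
  have : Fintype A := Fintype.ofFinite _
  -- the projection on `U` along `W`
  have hdec : ∀ v : V, ∃ u : U, (u : G)⁻¹ * v ∈ W := by
    intro v
    have hv : (v : G) ∈ U ⊔ W := hUWV.symm ▸ v.2
    rw [← SetLike.mem_coe, Subgroup.coe_mul_of_left_le_normalizer_right U W] at hv
    · obtain ⟨u, hu, w, hw, e⟩ := hv
      exact ⟨⟨u, hu⟩, by rw [← e]; simpa using hw⟩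
    · intro u hu
      refine Subgroup.centralizer_le_normalizer _ (Subgroup.mem_centralizer_iff.2 fun w hw => hcm w (hWV hw) u (hUV hu))
  have huniq : ∀ v : V, ∀ u u' : U, (u : G)⁻¹ * v ∈ W → (u' : G)⁻¹ * v ∈ W → u = u' := by
    intro v u u' h h'
    have : ((u : G)⁻¹ * u' : G) ∈ U ⊓ W := by
      refine ⟨U.mul_mem (U.inv_mem u.2) u'.2, ?_⟩
      have := W.mul_mem h (W.inv_mem h')
      simpa [mul_assoc] using this
    rw [hUW, Subgroup.mem_bot, inv_mul_eq_one] at this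
    exact Subtype.ext this
  choose π hπ using hdec
  have hπU : ∀ v : V, (v : G) ∈ U → ((π v : U) : G) = v := fun v hv =>
    congrArg Subtype.val (huniq v (π v) ⟨v, hv⟩ (hπ v) (by simp))
  have hπmul : ∀ v v' : V, π (v * v') = π v * π v' := by
    intro v v'
    refine huniq _ _ _ (hπ _) ?_
    have h1 := W.mul_mem (hπ v) (hπ v')
    have h2 : ((π v * π v' : U) : G)⁻¹ * ((v * v' : V) : G) =
        (π v : G)⁻¹ * v * ((π v' : G)⁻¹ * v') := by
      push_cast
      calc ((π v : G) * π v')⁻¹ * ((v : G) * v') = (π v' : G)⁻¹ * ((π v : G)⁻¹ * v) * v' := by group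
        _ = (π v : G)⁻¹ * v * (π v' : G)⁻¹ * v' := by
          rw [hcm _ (V.inv_mem (hUV (π v').2)) _ (V.mul_mem (V.inv_mem (hUV (π v).2)) v.2)]
        _ = _ := by group
    rwa [h2]
  have hUc : IsMulCommutative U :=
    ⟨⟨fun a b => Subtype.ext (hcm a (hUV a.2) b (hUV b.2))⟩⟩
  open scoped IsMulCommutative in
  let c : A → V → U := fun a v => ⟨(a : G) * π ⟨(a : G)⁻¹ * v * a,
    (Subgroup.mem_normalizer_iff''.1 (hAV a.2) v).1 v.2⟩ * (a : G)⁻¹,
    (Subgroup.mem_normalizer_iff.1 (hAU a.2) _).1 (SetLike.coe_mem _)⟩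
  open scoped IsMulCommutative in
  let F : V →* U :=
    { toFun := fun v => ∏ a : A, c a v
      map_one' := Finset.prod_eq_one fun a _ => Subtype.ext (by
        show (a : G) * π ⟨(a : G)⁻¹ * ((1 : V) : G) * a, _⟩ * (a : G)⁻¹ = 1
        rw [show π ⟨(a : G)⁻¹ * ((1 : V) : G) * a, (Subgroup.mem_normalizer_iff''.1 (hAV a.2) _).1 (1 : V).2⟩ = 1 from
          huniq _ _ _ (hπ _) (by simp)]
        simp)
      map_mul' := fun v w => by
        rw [← Finset.prod_mul_distrib]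
        refine Finset.prod_congr rfl fun a _ => Subtype.ext ?_
        show (a : G) * π ⟨(a : G)⁻¹ * ((v * w : V) : G) * a, _⟩ * (a : G)⁻¹ = _
        rw [show (⟨(a : G)⁻¹ * ((v * w : V) : G) * a, (Subgroup.mem_normalizer_iff''.1 (hAV a.2) _).1 (v * w).2⟩ : V) =
          ⟨(a : G)⁻¹ * v * a, (Subgroup.mem_normalizer_iff''.1 (hAV a.2) _).1 v.2⟩ *
          ⟨(a : G)⁻¹ * w * a, (Subgroup.mem_normalizer_iff''.1 (hAV a.2) _).1 w.2⟩ from
            Subtype.ext (by push_cast; group), hπmul]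
        simp [c, mul_assoc] }
  have hFU : ∀ v : V, ∀ hv : (v : G) ∈ U, F v = (⟨v, hv⟩ : U) ^ Fintype.card A := by
    intro v hv
    show ∏ a : A, c a v = _
    rw [Finset.prod_congr rfl (fun a _ => show c a v = (⟨v, hv⟩ : U) from Subtype.ext (by
      show (a : G) * π _ * (a : G)⁻¹ = v
      rw [hπU _ ((Subgroup.mem_normalizer_iff''.1 (hAU a.2) v).1 hv)]
      group)), Finset.prod_const, Finset.card_univ]
  have hco : (Nat.card U).Coprime (Fintype.card A) := by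
    rw [← Nat.card_eq_fintype_card]
    exact Nat.Coprime.coprime_dvd_left (Subgroup.card_dvd_of_le hUV) hcop.symm
  refine ⟨F.ker.map V.subtype, Subgroup.map_subtype_le _, ?_, ?_, ?_⟩
  · intro b hb
    have key : ∀ b ∈ A, ∀ x ∈ F.ker.map V.subtype, b * x * b⁻¹ ∈ F.ker.map V.subtype := by
      rintro b hb _ ⟨v, hv, rfl⟩
      refine ⟨⟨b * v * b⁻¹, (Subgroup.mem_normalizer_iff.1 (hAV hb) _).1 v.2⟩, ?_, rfl⟩
      open scoped IsMulCommutative in
      let φ : U →* U :=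
        { toFun := fun u => ⟨b * u * b⁻¹, (Subgroup.mem_normalizer_iff.1 (hAU hb) _).1 u.2⟩
          map_one' := Subtype.ext (by simp)
          map_mul' := fun u u' => Subtype.ext (by simp [mul_assoc]) }
      have h1 : ∏ a : A, c a v = 1 := hv
      show ∏ a : A, c a ⟨b * v * b⁻¹, _⟩ = 1
      rw [← map_one φ, ← h1, map_prod, ← Equiv.prod_comp (Equiv.mulLeft (⟨b, hb⟩ : A))]
      refine Finset.prod_congr rfl fun a _ => Subtype.ext ?_
      have hA1 : ((Equiv.mulLeft (⟨b, hb⟩ : A)) a : G) = b * a := rfl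
      show ((Equiv.mulLeft (⟨b, hb⟩ : A)) a : G) * (π ⟨((Equiv.mulLeft (⟨b, hb⟩ : A)) a : G)⁻¹ * (b * v * b⁻¹) *
        ((Equiv.mulLeft (⟨b, hb⟩ : A)) a : G), _⟩ : G) * ((Equiv.mulLeft (⟨b, hb⟩ : A)) a : G)⁻¹ =
        b * ((a : G) * (π ⟨(a : G)⁻¹ * v * a, _⟩ : G) * (a : G)⁻¹) * b⁻¹
      have hpt : (⟨(a : G)⁻¹ * v * a, (Subgroup.mem_normalizer_iff''.1 (hAV a.2) v).1 v.2⟩ : V) =
          ⟨((Equiv.mulLeft (⟨b, hb⟩ : A)) a : G)⁻¹ * (b * v * b⁻¹) * ((Equiv.mulLeft (⟨b, hb⟩ : A)) a : G),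
            (Subgroup.mem_normalizer_iff''.1 (hAV ((Equiv.mulLeft (⟨b, hb⟩ : A)) a).2) _).1
              ((Subgroup.mem_normalizer_iff.1 (hAV hb) _).1 v.2)⟩ :=
        Subtype.ext (by simp [mul_assoc])
      rw [← hpt, hA1]
      group
    refine Subgroup.mem_normalizer_iff.2 fun x => ⟨key b hb x, fun h => ?_⟩
    have := key b⁻¹ (A.inv_mem hb) _ h
    simpa [mul_assoc] using this
  · rw [eq_bot_iff]
    rintro x ⟨hxU, v, hv, rfl⟩
    have h1 : (⟨v, hxU⟩ : U) ^ Fintype.card A = 1 := (hFU v hxU).symm.trans hv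
    have h2 := (Nat.Coprime.coprime_dvd_left (orderOf_dvd_natCard _) hco).eq_one_of_dvd
      (orderOf_dvd_of_pow_eq_one h1)
    rw [orderOf_eq_one_iff] at h2
    exact Subgroup.mem_bot.2 (congrArg Subtype.val h2 : (v : G) = 1)
  · refine le_antisymm (sup_le hUV (Subgroup.map_subtype_le _)) fun v hv => ?_
    obtain ⟨u, hu⟩ := (powCoprime hco).surjective (F ⟨v, hv⟩)
    have hker : (⟨(u : G)⁻¹, V.inv_mem (hUV u.2)⟩ : V) * ⟨v, hv⟩ ∈ F.ker := by
      rw [MonoidHom.mem_ker, map_mul, hFU _ (U.inv_mem u.2),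
        show (⟨(u : G)⁻¹, U.inv_mem u.2⟩ : U) = u⁻¹ from rfl, inv_pow, ← hu]
      exact inv_mul_cancel _
    have := mul_mem (Subgroup.mem_sup_left (T := F.ker.map V.subtype) u.2)
      (Subgroup.mem_sup_right (S := U) (Subgroup.mem_map_of_mem V.subtype hker))
    simpa using this

end Cfsg.Agent.S0660
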