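import Cfsg.Statements.S0661
import Cfsg.Agent.Lib.Cores.Local

set_option autoImplicit false
open Cfsg
open scoped commutatorElement

namespace Cfsg.Agent.S0661

/-- If, modulo the largest normal subgroup of order prime to p, the largest normal p-subgroup contains its centralizer, then for every p-subgroup P the p'-core of N_G(P) is just O_p'(G) ∩ N_G(P). -/
theorem result {G : Type*} [Group G] [Finite G] {p : ℕ} [Fact p.Prime] (hc : Subgroup.centralizer (Cfsg.pCore p (G ⧸ Cfsg.pPrimeCore p G) : Set (G ⧸ Cfsg.pPrimeCore p G)) ≤ Cfsg.pCore p (G ⧸ Cfsg.pPrimeCore p G)) (P : Subgroup G) (hP : IsPGroup p P) : (Cfsg.pPrimeCore p ↥(Subgroup.normalizer (P : Set G))).map (Subgroup.normalizer (P : Set G)).subtype = Cfsg.pPrimeCore p G ⊓ Subgroup.normalizer (P : Set G) := by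
  open Subgroup in
  set N := normalizer (P : Set G) with hN
  set π := QuotientGroup.mk' (pPrimeCore p G) with hπ
  refine le_antisymm (le_inf ?_ (Subgroup.map_subtype_le _)) (CfsgLib.Cores.pPrimeCore_inf_le p N)
  have hker : pPrimeCore p G = π.ker := (QuotientGroup.ker_mk' _).symm
  rw [hker, ← Subgroup.map_eq_bot_iff]
  have hNbar := CfsgLib.Cores.map_mk'_normalizer_of_coprime hP (CfsgLib.Cores.coprime_card_pPrimeCore (G := G) p)
  have hle : ((pPrimeCore p ↥N).map N.subtype).map π ≤ Subgroup.normalizer ((P.map π : Subgroup _) : Set (G ⧸ pPrimeCore p G)) := by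
    rw [← hNbar]
    exact Subgroup.map_mono (Subgroup.map_subtype_le _)
  set M := ((pPrimeCore p ↥N).map N.subtype).map π with hM
  have hMn : (M.subgroupOf (Subgroup.normalizer ((P.map π : Subgroup _) : Set (G ⧸ pPrimeCore p G)))).Normal := by
    rw [Subgroup.normal_subgroupOf_iff_le_normalizer hle, ← hNbar, hM]
    refine le_trans (Subgroup.map_mono ?_) (Subgroup.le_normalizer_map _)
    refine le_trans (le_of_eq (MonoidHom.range_eq_map N.subtype ▸ (Subgroup.range_subtype N).symm)) ?_
    refine le_trans (Subgroup.map_mono ?_) (Subgroup.le_normalizer_map _)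
    rw [Subgroup.normalizer_eq_top]
  have hMco : (Nat.card M).Coprime p := by
    refine Nat.Coprime.coprime_dvd_left (Subgroup.card_map_dvd _ π) ?_
    rw [Subgroup.card_map_of_injective N.subtype_injective]
    exact CfsgLib.Cores.coprime_card_pPrimeCore p
  have h1 := CfsgLib.Cores.le_pPrimeCore (hn := hMn) (p := p)
    (by rwa [Nat.card_congr (Subgroup.subgroupOfEquivOfLe hle).toEquiv])
  rw [(CfsgLib.Cores.pPrimeCore_eq_bot_and_layer_eq_bot_normalizer (hP.map π) hc).1, le_bot_iff,
    Subgroup.subgroupOf_eq_bot, disjoint_iff, inf_eq_left.2 hle] at h1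
  exact h1

end Cfsg.Agent.S0661
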