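import Cfsg.Statements.S0663
import Cfsg.Agent.Lib.PGroup.Basic
import Mathlib.GroupTheory.Nilpotent

set_option autoImplicit false
open Cfsg
open scoped commutatorElement

namespace Cfsg.Agent.S0663

open Subgroup
variable {L : Type*} [Group L] [Finite L] {p : ℕ} [Fact p.Prime] {G : Subgroup L}

omit [Fact p.Prime] in
omit [Finite L] in
theorem isPGroup_join (hG : IsPGroup p G) {C : Subgroup L} (hC : IsPGroup p C)
    (hGC : G ≤ normalizer (C : Set L)) : IsPGroup p ↥(C ⊔ G) :=
  hC.to_sup_of_normal_left' hG hGC

omit [Finite L] in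
theorem normalizes_commutator {C : Subgroup L} (hGC : G ≤ normalizer (C : Set L)) :
    G ≤ normalizer ((⁅C, G⁆ : Subgroup L) : Set L) := by
  have key : ∀ g ∈ G, (⁅C, G⁆).map (MulAut.conj g).toMonoidHom ≤ ⁅C, G⁆ := by
    intro g hg
    rw [map_commutator]
    refine commutator_mono ?_ ?_
    · rintro _ ⟨c, hc, rfl⟩
      exact (mem_normalizer_iff.1 (hGC hg) c).1 hc
    · rintro _ ⟨k, hk, rfl⟩
      exact mul_mem (mul_mem hg hk) (inv_mem hg)
  intro g hg
  refine mem_normalizer_iff.2 fun x => ⟨fun hx => key g hg ⟨x, hx, rfl⟩, fun hx => ?_⟩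
  have h2 := key g⁻¹ (inv_mem hg) ⟨_, hx, rfl⟩
  simpa [mul_assoc] using h2

/-- An invariant subgroup of index `p` contains the commutator. -/
theorem commutator_le_of_relIndex (hG : IsPGroup p G) {C M : Subgroup L} (hC : IsPGroup p C)
    (hGC : G ≤ normalizer (C : Set L)) (hMC : M ≤ C) (hGM : G ≤ normalizer (M : Set L))
    (hi : M.relIndex C = p) : ⁅C, G⁆ ≤ M := by
  set P := C ⊔ G
  have hP : IsPGroup p ↥P := isPGroup_join hG hC hGC
  have hCM : C ≤ normalizer (M : Set L) := by
    rw [← normal_subgroupOf_iff_le_normalizer hMC]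
    obtain ⟨k, hk⟩ := IsPGroup.iff_card.1 hC
    refine normal_of_index_eq_minFac_card ?_
    show M.relIndex C = _
    have hk0 : k ≠ 0 := fun h0 => by
      have := relIndex_dvd_card (H := M) (K := C)
      rw [hi, hk, h0, pow_zero, Nat.dvd_one] at this
      exact (Fact.out : p.Prime).ne_one this
    rw [hi, hk, Nat.pow_minFac hk0, (Fact.out : p.Prime).minFac_eq]
  have hCP : C ≤ P := le_sup_left
  have hn1 : (M.subgroupOf P).Normal := by
    rw [normal_subgroupOf_iff_le_normalizer (hMC.trans hCP)]
    exact sup_le hCM hGM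
  have hn2 : (C.subgroupOf P).Normal := by
    rw [normal_subgroupOf_iff_le_normalizer hCP]
    exact sup_le le_normalizer hGC
  set π := QuotientGroup.mk' (M.subgroupOf P) with hπ
  have hn3 : ((C.subgroupOf P).map π).Normal := hn2.map π (QuotientGroup.mk'_surjective _)
  have hcard : Nat.card ((C.subgroupOf P).map π) = p := by
    rw [← relIndex_ker, QuotientGroup.ker_mk', relIndex_subgroupOf hCP, hi]
  have hz := CfsgLib.PGroup.le_center_of_card_eq (hP.to_quotient (M.subgroupOf P)) _ hcard
  rw [commutator_le]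
  intro c hc g hg
  have h1 := mem_center_iff.1 (hz (mem_map_of_mem π (show (⟨c, hCP hc⟩ : P) ∈ C.subgroupOf P from hc)))
    (π ⟨g, mem_sup_right hg⟩)
  have h2 : π ⁅(⟨c, hCP hc⟩ : P), ⟨g, mem_sup_right hg⟩⁆ = 1 := by
    rw [map_commutatorElement, commutatorElement_eq_one_iff_mul_comm]
    exact h1.symm
  have h3 : ⁅(⟨c, hCP hc⟩ : P), ⟨g, mem_sup_right hg⟩⁆ ∈ M.subgroupOf P := (QuotientGroup.eq_one_iff _).1 h2
  exact h3

/-- A proper invariant subgroup lies in an invariant subgroup of index `p`. -/
theorem exists_relIndex_eq (hG : IsPGroup p G) {C H : Subgroup L} (hC : IsPGroup p C)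
    (hGC : G ≤ normalizer (C : Set L)) (hH : H < C) (hGH : G ≤ normalizer (H : Set L)) :
    ∃ M, H ≤ M ∧ M ≤ C ∧ G ≤ normalizer (M : Set L) ∧ M.relIndex C = p := by
  obtain ⟨M, ⟨hHM, hMC, hGM⟩, hmax⟩ := Set.Finite.exists_maximal
    (s := {M : Subgroup L | H ≤ M ∧ M < C ∧ G ≤ normalizer (M : Set L)}) (Set.toFinite _) ⟨H, le_rfl, hH, hGH⟩
  have hD : C ⊓ normalizer (M : Set L) = C := by
    by_contra hne
    have hlt : C ⊓ normalizer (M : Set L) < C := lt_of_le_of_ne inf_le_left hne
    have hGD : G ≤ normalizer ((C ⊓ normalizer (M : Set L) : Subgroup L) : Set L) := by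
      intro g hg
      refine mem_normalizer_iff.2 fun x => ?_
      rw [mem_inf, mem_inf, ← mem_normalizer_iff.1 (hGC hg) x]
      refine and_congr_right fun _ => ?_
      constructor
      · intro hx
        exact mul_mem (mul_mem (hGM hg) hx) (inv_mem (hGM hg))
      · intro hx
        simpa [mul_assoc] using mul_mem (mul_mem (inv_mem (hGM hg)) hx) (hGM hg)
    have heq := hmax ⟨hHM.trans (le_inf hMC.le le_normalizer), hlt, hGD⟩ (le_inf hMC.le le_normalizer)
    have := hC.isNilpotent
    have hnc := Group.normalizerCondition_of_isNilpotent (M.subgroupOf C)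
      (lt_top_iff_ne_top.2 fun h => hMC.not_ge (subgroupOf_eq_top.1 h))
    obtain ⟨⟨x, hxC⟩, hxn, hxM⟩ := SetLike.exists_of_lt hnc
    refine hxM (heq ⟨hxC, mem_normalizer_iff.2 fun y => ?_⟩)
    constructor
    · intro hy
      exact (mem_normalizer_iff.1 hxn ⟨y, hMC.le hy⟩).1 hy
    · intro hy
      have hyC : y ∈ C := by simpa [mul_assoc] using mul_mem (mul_mem (inv_mem hxC) (hMC.le hy)) hxC
      exact (mem_normalizer_iff.1 hxn ⟨y, hyC⟩).2 hy
  set P := C ⊔ G
  have hP : IsPGroup p ↥P := isPGroup_join hG hC hGC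
  have hCP : C ≤ P := le_sup_left
  have hn1 : (M.subgroupOf P).Normal := by
    rw [normal_subgroupOf_iff_le_normalizer (hMC.le.trans hCP)]
    exact sup_le (hD.ge.trans inf_le_right) hGM
  have hn2 : (C.subgroupOf P).Normal := by
    rw [normal_subgroupOf_iff_le_normalizer hCP]
    exact sup_le le_normalizer hGC
  set π := QuotientGroup.mk' (M.subgroupOf P) with hπ
  have hn3 : ((C.subgroupOf P).map π).Normal := hn2.map π (QuotientGroup.mk'_surjective _)
  have hne : (C.subgroupOf P).map π ≠ ⊥ := fun h => by
    rw [Subgroup.map_eq_bot_iff, QuotientGroup.ker_mk'] at h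
    exact hMC.not_ge fun x hx => h (show (⟨x, hCP hx⟩ : P) ∈ C.subgroupOf P from hx)
  obtain ⟨Z, hZle, -, hZn, hZ⟩ := CfsgLib.PGroup.exists_card_eq_le_center (hP.to_quotient _) _ hne
  set W := (Z.comap π).map P.subtype with hW
  have hWP : W.subgroupOf P = Z.comap π := comap_map_eq_self_of_injective P.subtype_injective _
  have hWle : W ≤ P := map_subtype_le _
  have hMW : M ≤ W := fun x hx => ⟨⟨x, hCP (hMC.le hx)⟩, by
    show π ⟨x, hCP (hMC.le hx)⟩ ∈ Z
    rw [show π ⟨x, hCP (hMC.le hx)⟩ = 1 from (QuotientGroup.eq_one_iff _).2 hx]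
    exact one_mem Z, rfl⟩
  have hWC : W ≤ C := by
    have h1 : Z.comap π ≤ C.subgroupOf P := by
      refine (comap_mono hZle).trans ?_
      rw [comap_map_eq, QuotientGroup.ker_mk']
      exact sup_le le_rfl (comap_mono hMC.le)
    rintro _ ⟨w, hw, rfl⟩
    exact h1 hw
  have hWn : P ≤ normalizer (W : Set L) := by
    rw [← normal_subgroupOf_iff_le_normalizer hWle, hWP]
    exact hZn.comap π
  have hidx : M.relIndex W = p := by
    rw [← relIndex_subgroupOf hWle, hWP,
      show (M.subgroupOf P).relIndex (Z.comap π) = π.ker.relIndex (Z.comap π) by rw [QuotientGroup.ker_mk'],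
      relIndex_ker, map_comap_eq_self_of_surjective (QuotientGroup.mk'_surjective _), hZ]
  have hWeq : W = C := by
    by_contra h
    have := hmax ⟨hHM.trans hMW, lt_of_le_of_ne hWC h, le_sup_right.trans hWn⟩ hMW
    rw [relIndex_eq_one.2 this] at hidx
    exact (Fact.out : p.Prime).ne_one hidx.symm
  exact ⟨M, hHM, hMC.le, hGM, hWeq ▸ hidx⟩

omit [Finite L] in
theorem le_normalizer_bot (K : Subgroup L) : K ≤ normalizer (((⊥ : Subgroup L)) : Set L) := by
  rw [normalizer_eq_top]
  exact le_top

theorem prime_mul_card_commutator_le (hG : IsPGroup p G) {C : Subgroup L} (hC : IsPGroup p C)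
    (hGC : G ≤ normalizer (C : Set L)) (hne : C ≠ ⊥) : p * Nat.card ↥(⁅C, G⁆) ≤ Nat.card C := by
  obtain ⟨M, -, hMC, hGM, hi⟩ := exists_relIndex_eq hG (H := ⊥) hC hGC (bot_lt_iff_ne_bot.2 hne)
    (le_normalizer_bot G)
  have h1 := commutator_le_of_relIndex hG hC hGC hMC hGM hi
  rw [← (M.subgroupOf C).card_mul_index, Nat.card_congr (subgroupOfEquivOfLe hMC).toEquiv,
    show (M.subgroupOf C).index = p from hi, mul_comm]
  exact Nat.mul_le_mul_right p (card_le_of_le h1)

/-- A p-group acts uniserially on a p-group N of order p^n exactly when the iterated commutator chain from N has length n; in that case the chain terms are all the invariant subgroups of N and they are normal in N. -/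
theorem result {L : Type*} [Group L] [Finite L] {p : ℕ} [Fact p.Prime] (N G : Subgroup L) (hN : IsPGroup p N) (hG : IsPGroup p G) (hGN : G ≤ Subgroup.normalizer (N : Set L)) (n : ℕ) (hn : Nat.card N = p ^ n) : ((∀ H : Subgroup L, H ≤ N → G ≤ Subgroup.normalizer (H : Set L) → H ≠ ⊥ → (⁅H, G⁆).relIndex H = p) ↔ Cfsg.iterCommutator N G (n - 1) ≠ ⊥ ∨ n = 0) ∧ ((∀ H : Subgroup L, H ≤ N → G ≤ Subgroup.normalizer (H : Set L) → H ≠ ⊥ → (⁅H, G⁆).relIndex H = p) → ∀ H : Subgroup L, H ≤ N → G ≤ Subgroup.normalizer (H : Set L) → (∃ i ≤ n, H = Cfsg.iterCommutator N G i) ∧ N ≤ Subgroup.normalizer (H : Set L)) := by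
  classical
  have hp := (Fact.out : p.Prime)
  set c : ℕ → Subgroup L := Cfsg.iterCommutator N G with hc
  have hc0 : c 0 = N := rfl
  have hcs : ∀ i, c (i + 1) = ⁅c i, G⁆ := fun i => rfl
  have hcN : ∀ i, c i ≤ N ∧ G ≤ Subgroup.normalizer (c i : Set L) := by
    intro i
    induction i with
    | zero => exact ⟨le_rfl, hGN⟩
    | succ i ih =>
      refine ⟨?_, normalizes_commutator ih.2⟩
      rw [hcs, Subgroup.commutator_le]
      intro x hx g hg
      rw [commutatorElement_def]
      have h2 := (Subgroup.mem_normalizer_iff.1 (hGN hg) x⁻¹).1 (inv_mem (ih.1 hx))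
      have h3 : x * g * x⁻¹ * g⁻¹ = x * (g * x⁻¹ * g⁻¹) := by group
      rw [h3]
      exact mul_mem (ih.1 hx) h2
  have hcp : ∀ i, IsPGroup p (c i) := fun i => hN.to_le (hcN i).1
  have hdec : ∀ i, c i ≠ ⊥ → p * Nat.card (c (i + 1)) ≤ Nat.card (c i) := fun i h =>
    prime_mul_card_commutator_le hG (hcp i) (hcN i).2 h
  have hub : ∀ i, c i ≠ ⊥ → Nat.card (c i) * p ^ i ≤ p ^ n := by
    intro i
    induction i with
    | zero => intro _; simp [hc0, hn]
    | succ i ih =>
      intro h
      have h0 : c i ≠ ⊥ := fun hb => h (by rw [hcs, hb, Subgroup.commutator_bot_left])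
      calc Nat.card (c (i + 1)) * p ^ (i + 1) = p * Nat.card (c (i + 1)) * p ^ i := by ring
        _ ≤ Nat.card (c i) * p ^ i := Nat.mul_le_mul_right _ (hdec i h0)
        _ ≤ p ^ n := ih h0
  have hlast : c n = ⊥ := by
    by_contra h
    have h1 := hub n h
    have h2 : 1 < Nat.card (c n) := (Subgroup.one_lt_card_iff_ne_bot _).2 h
    nlinarith [pow_pos hp.pos n]
  set U := ∀ H : Subgroup L, H ≤ N → G ≤ Subgroup.normalizer (H : Set L) → H ≠ ⊥ → (⁅H, G⁆).relIndex H = p with hU
  -- the chain has full length
  set F := ∀ i ≤ n, Nat.card (c i) = p ^ (n - i) with hF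
  have hFU : F ↔ (c (n - 1) ≠ ⊥ ∨ n = 0) := by
    constructor
    · intro hf
      rcases Nat.eq_zero_or_pos n with h0 | h0
      · exact Or.inr h0
      · refine Or.inl fun h => ?_
        have := hf (n - 1) (by omega)
        rw [h, Subgroup.card_bot, show n - (n - 1) = 1 by omega, pow_one] at this
        exact hp.ne_one this.symm
    · rintro (hne | rfl) i hi
      · have hlow : ∀ k, k ≤ n → p ^ k ≤ Nat.card (c (n - k)) := by
          intro k hk
          induction k with
          | zero => simpa using Nat.one_le_iff_ne_zero.2 Nat.card_pos.ne'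
          | succ k ih =>
            have hb : c (n - (k + 1)) ≠ ⊥ := fun hb => hne (by
              obtain ⟨d, hd⟩ : ∃ d, n - 1 = n - (k + 1) + d := ⟨k, by omega⟩
              rw [hd]
              clear hd
              induction d with
              | zero => exact hb
              | succ d ih => rw [← add_assoc, hcs, ih, Subgroup.commutator_bot_left])
            have := hdec _ hb
            rw [show n - (k + 1) + 1 = n - k by omega] at this
            rw [pow_succ']
            exact (Nat.mul_le_mul_left p (ih (by omega))).trans this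
        have h1 := hlow (n - i) (by omega)
        rw [show n - (n - i) = i by omega] at h1
        refine le_antisymm ?_ h1
        rcases eq_or_ne (c i) ⊥ with hb | hb
        · rw [hb, Subgroup.card_bot]; exact Nat.one_le_pow _ _ hp.pos
        · have h2 := hub i hb
          rw [show p ^ n = p ^ (n - i) * p ^ i by rw [← pow_add]; congr 1; omega] at h2
          exact Nat.le_of_mul_le_mul_right h2 (pow_pos hp.pos i)
      · have : i = 0 := by omega
        subst this
        simpa [hc0] using hn
  have hUF : U → F := by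
    intro hu i hi
    induction i with
    | zero => simpa [hc0] using hn
    | succ i ih =>
      have hci := ih (by omega)
      have hne : c i ≠ ⊥ := fun h => by
        rw [h, Subgroup.card_bot] at hci
        exact absurd hci.symm (Nat.one_lt_pow (by omega) hp.one_lt).ne'
      have h1 := hu (c i) (hcN i).1 (hcN i).2 hne
      have hle : c (i + 1) ≤ c i := by
        obtain ⟨M, -, hMC, hGM, hi'⟩ := exists_relIndex_eq hG (H := ⊥) (hcp i) (hcN i).2
          (bot_lt_iff_ne_bot.2 hne) (le_normalizer_bot G)
        exact (commutator_le_of_relIndex hG (hcp i) (hcN i).2 hMC hGM hi').trans hMC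
      have h2 := ((c (i + 1)).subgroupOf (c i)).card_mul_index
      rw [Nat.card_congr (Subgroup.subgroupOfEquivOfLe hle).toEquiv,
        show ((c (i + 1)).subgroupOf (c i)).index = p from h1, hci,
        show n - i = n - (i + 1) + 1 by omega, pow_succ] at h2
      exact Nat.eq_of_mul_eq_mul_right hp.pos h2
  have hnext : F → ∀ i, i < n → ∀ M, M ≤ c i → G ≤ Subgroup.normalizer (M : Set L) → M.relIndex (c i) = p →
      M = c (i + 1) := by
    intro hf i hi M hMC hGM hidx
    refine (Subgroup.eq_of_le_of_card_ge (commutator_le_of_relIndex hG (hcp i) (hcN i).2 hMC hGM hidx) (le_of_eq ?_)).symm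
    have h2 := (M.subgroupOf (c i)).card_mul_index
    rw [Nat.card_congr (Subgroup.subgroupOfEquivOfLe hMC).toEquiv,
      show (M.subgroupOf (c i)).index = p from hidx, hf i hi.le, show n - i = n - (i + 1) + 1 by omega, pow_succ] at h2
    rw [← hcs, hf (i + 1) hi]
    exact Nat.eq_of_mul_eq_mul_right hp.pos h2
  have hall : F → ∀ H : Subgroup L, H ≤ N → G ≤ Subgroup.normalizer (H : Set L) → ∃ i ≤ n, H = c i := by
    intro hf H hHN hGH
    have key : ∀ k, ∀ i, i + k = n → H ≤ c i → ∃ j ≤ n, H = c j := by
      intro k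
      induction k with
      | zero =>
        intro i hi hle
        obtain rfl : i = n := by omega
        exact ⟨i, le_rfl, le_antisymm hle (hlast.le.trans bot_le)⟩
      | succ k ih =>
        intro i hi hle
        rcases eq_or_ne H (c i) with h | h
        · exact ⟨i, by omega, h⟩
        · obtain ⟨M, hHM, hMC, hGM, hidx⟩ := exists_relIndex_eq hG (hcp i) (hcN i).2 (lt_of_le_of_ne hle h) hGH
          exact ih (i + 1) (by omega) (hnext hf i (by omega) M hMC hGM hidx ▸ hHM)
    exact key n 0 (by omega) hHN
  have hFU' : F → U := by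
    intro hf H hHN hGH hne
    obtain ⟨i, hi, rfl⟩ := hall hf H hHN hGH
    have hin : i < n := lt_of_le_of_ne hi fun h => hne (h ▸ hlast)
    obtain ⟨M, -, hMC, hGM, hidx⟩ := exists_relIndex_eq hG (H := ⊥) (hcp i) (hcN i).2
      (bot_lt_iff_ne_bot.2 hne) (le_normalizer_bot G)
    rw [hnext hf i hin M hMC hGM hidx] at hidx
    exact hidx
  have hnorm : F → ∀ i ≤ n, N ≤ Subgroup.normalizer (c i : Set L) := by
    intro hf i hi
    induction i with
    | zero => exact Subgroup.le_normalizer
    | succ i ih =>
      have hNi := ih (by omega)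
      have key : ∀ k ≤ i, c k ≤ Subgroup.normalizer (c (i + 1) : Set L) := by
        intro k hk
        obtain ⟨d, rfl⟩ : ∃ d, k = i - d := ⟨i - k, by omega⟩
        clear hk
        have hle' : c (i + 1) ≤ c i := by
          rcases eq_or_ne (c i) ⊥ with hb | hb
          · rw [hcs, hb, Subgroup.commutator_bot_left]
          · obtain ⟨M, -, hMC, hGM, hi'⟩ := exists_relIndex_eq hG (H := ⊥) (hcp i) (hcN i).2
              (bot_lt_iff_ne_bot.2 hb) (le_normalizer_bot G)
            exact (commutator_le_of_relIndex hG (hcp i) (hcN i).2 hMC hGM hi').trans hMC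
        induction d with
        | zero =>
          have hne : c i ≠ ⊥ := fun h => by
            have := hf i (by omega)
            rw [h, Subgroup.card_bot] at this
            exact absurd this.symm (Nat.one_lt_pow (by omega) hp.one_lt).ne'
          rw [show i - 0 = i by omega, ← Subgroup.normal_subgroupOf_iff_le_normalizer hle']
          have hidx := hFU' hf (c i) (hcN i).1 (hcN i).2 hne
          obtain ⟨k', hk'⟩ := IsPGroup.iff_card.1 (hcp i)
          refine Subgroup.normal_of_index_eq_minFac_card ?_
          show (c (i + 1)).relIndex (c i) = _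
          rw [hcs, hidx, hk', Nat.pow_minFac, hp.minFac_eq]
          intro h0
          rw [h0, pow_zero] at hk'
          exact hne (Subgroup.eq_bot_of_card_eq _ hk')
        | succ d ihd =>
          rcases Nat.lt_or_ge d i with hdi | hdi
          · intro x hx
            set M := (c (i + 1)).map (MulAut.conj x).toMonoidHom with hM
            have hxN : x ∈ N := (hcN _).1 hx
            have hci : (c i).map (MulAut.conj x).toMonoidHom = c i := by
              refine Subgroup.eq_of_le_of_card_ge ?_ (le_of_eq (Subgroup.card_map_of_injective (MulAut.conj x).injective).symm)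
              rintro _ ⟨y, hy, rfl⟩
              exact (Subgroup.mem_normalizer_iff.1 (hNi hxN) y).1 hy
            have hMC : M ≤ c i := (Subgroup.map_mono hle').trans hci.le
            have hidx : M.relIndex (c i) = p := by
              have hne : c i ≠ ⊥ := fun h => by
                have := hf i (by omega)
                rw [h, Subgroup.card_bot] at this
                exact absurd this.symm (Nat.one_lt_pow (by omega) hp.one_lt).ne'
              have h0 := hFU' hf (c i) (hcN i).1 (hcN i).2 hne
              conv_lhs => rw [← hci]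
              rw [hM, Subgroup.relIndex_map_map_of_injective _ _ (MulAut.conj x).injective, hcs, h0]
            have hGM : G ≤ Subgroup.normalizer (M : Set L) := by
              have key2 : ∀ g ∈ G, ∀ y ∈ c (i + 1), g * (x * y * x⁻¹) * g⁻¹ ∈ M := by
                intro g hg y hy
                have h1 : ⁅x⁻¹, g⁆ ∈ c (i - d) := by
                  rw [show i - d = i - (d + 1) + 1 by omega, hcs]
                  exact Subgroup.commutator_mem_commutator (inv_mem hx) hg
                refine ⟨⁅x⁻¹, g⁆ * (g * y * g⁻¹) * ⁅x⁻¹, g⁆⁻¹,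
                  (Subgroup.mem_normalizer_iff.1 (ihd h1) _).1
                    ((Subgroup.mem_normalizer_iff.1 ((hcN (i + 1)).2 hg) y).1 hy), ?_⟩
                show x * (⁅x⁻¹, g⁆ * (g * y * g⁻¹) * ⁅x⁻¹, g⁆⁻¹) * x⁻¹ = _
                rw [commutatorElement_def]
                group
              intro g hg
              refine Subgroup.mem_normalizer_iff.2 fun z => ⟨?_, ?_⟩
              · rintro ⟨y, hy, rfl⟩
                exact key2 g hg y hy
              · rintro ⟨y, hy, hyz⟩
                have h3 := key2 g⁻¹ (inv_mem hg) y hy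
                have hyz' : x * y * x⁻¹ = g * z * g⁻¹ := hyz
                rw [hyz'] at h3
                simpa [mul_assoc] using h3
            have hMeq := hnext hf i (by omega) M hMC hGM hidx
            refine Subgroup.mem_normalizer_iff.2 fun y => ⟨fun hy => hMeq.le ⟨y, hy, rfl⟩, fun hy => ?_⟩
            obtain ⟨y', hy', hyy⟩ := hMeq.ge hy
            have hyy' : x * y' * x⁻¹ = x * y * x⁻¹ := hyy
            rwa [← mul_left_cancel (mul_right_cancel hyy')]
          · rw [show i - (d + 1) = i - d by omega]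
            exact ihd
      exact key 0 (Nat.zero_le _)
  refine ⟨⟨fun hu => hFU.1 (hUF hu), fun h => hFU' (hFU.2 h)⟩, fun hu H hHN hGH => ?_⟩
  obtain ⟨i, hi, rfl⟩ := hall (hUF hu) H hHN hGH
  exact ⟨⟨i, hi, rfl⟩, hnorm (hUF hu) i hi⟩

end Cfsg.Agent.S0663
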