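import Cfsg.Statements.S0666
import Cfsg.Agent.Lib.Solvable.Frobenius
import Cfsg.Agent.Lib.Solvable.FrobeniusTheorem

set_option autoImplicit false
open Cfsg
open scoped commutatorElement

namespace Cfsg.Agent.S0666

/-- A Frobenius group acting on a nontrivial abelian group of order prime to that of its kernel, with the kernel acting without nontrivial fixed points, has a complement with a nontrivial fixed point. -/
theorem result {G : Type*} [Group G] [Finite G] (V F : Subgroup G) (hVab : IsMulCommutative V) (hV1 : V ≠ ⊥) (hFV : F ≤ Subgroup.normalizer (V : Set G)) (H : Subgroup ↥F) (hH : Cfsg.IsFrobeniusComplement H) (hcop : (Nat.card V).Coprime (Nat.card (Cfsg.frobeniusKernel H))) (hCK : V ⊓ Subgroup.centralizer (Subtype.val '' Cfsg.frobeniusKernel H : Set G) = ⊥) : V ⊓ Subgroup.centralizer ((H.map F.subtype : Subgroup G) : Set G) ≠ ⊥ := by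
  classical
  intro hCH
  have := hVab
  obtain ⟨N, hN, hNn, hNc⟩ := CfsgLib.Solvable.frobenius_theorem hH
  have hmem : ∀ x : ↥F, x ∈ N ↔ x ∈ Cfsg.frobeniusKernel H := fun x => Set.ext_iff.1 hN x
  let act : ↥F →* MulAut ↥V := (Subgroup.normalizerMonoidHom V).comp (Subgroup.inclusion hFV)
  letI : CommGroup ↥V := { (inferInstance : Group ↥V) with mul_comm := fun a b => hVab.is_comm.comm a b }
  letI := Fintype.ofFinite ↥F
  letI := Fintype.ofFinite ↥H
  have hactG : ∀ (x : ↥F) (v : ↥V), ((act x v : ↥V) : G) = (x : G) * v * (x : G)⁻¹ := fun _ _ => rfl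
  -- norms over subgroups are fixed points
  have hfix : ∀ (X : Subgroup ↥F) [Fintype ↥X] (v : ↥V) (y : ↥F), y ∈ X →
      act y (∏ x : ↥X, act x v) = ∏ x : ↥X, act x v := by
    intro X _ v y hy
    rw [map_prod]
    refine Fintype.prod_equiv (Equiv.mulLeft (⟨y, hy⟩ : X)) _ _ fun x => ?_
    rw [← MulAut.mul_apply, ← map_mul]
    rfl
  have hnorm : ∀ (X : Subgroup ↥F) [Fintype ↥X] (T : Set G), (∀ t ∈ T, ∃ y ∈ X, (y : G) = t) →
      V ⊓ Subgroup.centralizer T = ⊥ → ∀ v : ↥V, ∏ x : ↥X, act x v = 1 := by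
    intro X _ T hT hbot v
    have hw : ((∏ x : ↥X, act x v : ↥V) : G) ∈ V ⊓ Subgroup.centralizer T := by
      refine ⟨SetLike.coe_mem _, Subgroup.mem_centralizer_iff.2 fun t ht => ?_⟩
      obtain ⟨y, hy, rfl⟩ := hT t ht
      have h1 := congrArg Subtype.val (hfix X v y hy)
      rw [hactG] at h1
      exact mul_inv_eq_iff_eq_mul.1 h1
    rw [hbot, Subgroup.mem_bot] at hw
    exact Subtype.ext hw
  have hNK : ∀ v : ↥V, ∏ x : ↥N, act x v = 1 := hnorm N _ (by
    rintro _ ⟨x, hx, rfl⟩; exact ⟨x, (hmem x).2 hx, rfl⟩) hCK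
  have hNH : ∀ v : ↥V, ∏ x : ↥H, act x v = 1 := hnorm H _ (by
    rintro _ ⟨x, hx, rfl⟩; exact ⟨x, hx, rfl⟩) hCH
  -- the partition of `F`
  let e : ↥N × {h : ↥H // h ≠ 1} → {x : ↥F // x ∉ N} := fun z =>
    ⟨(z.1 : ↥F) * (z.2.1 : ↥F) * (z.1 : ↥F)⁻¹, fun hc => z.2.2 (by
      have h1 := hNn.conj_mem' _ hc (z.1 : ↥F)
      have h2 : (z.2.1 : ↥F) ∈ N := by simpa [mul_assoc] using h1
      exact Subtype.ext (CfsgLib.Solvable.frobeniusKernel_inter ((hmem _).1 h2) z.2.1.2))⟩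
  have he : Function.Bijective e := by
    constructor
    · rintro ⟨k, h⟩ ⟨k', h'⟩ hkh
      have h1 : (k : ↥F) * (h.1 : ↥F) * (k : ↥F)⁻¹ = (k' : ↥F) * (h'.1 : ↥F) * (k' : ↥F)⁻¹ :=
        congrArg Subtype.val hkh
      have h2 : ((k' : ↥F)⁻¹ * k) * (h.1 : ↥F) * ((k' : ↥F)⁻¹ * k)⁻¹ = (h'.1 : ↥F) := by
        calc ((k' : ↥F)⁻¹ * k) * (h.1 : ↥F) * ((k' : ↥F)⁻¹ * k)⁻¹
            = (k' : ↥F)⁻¹ * ((k : ↥F) * (h.1 : ↥F) * (k : ↥F)⁻¹) * k' := by group
          _ = _ := by rw [h1]; group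
      have h3 : (k' : ↥F)⁻¹ * k ∈ H := CfsgLib.Solvable.frobenius_mem_of_conj_mem hH h.1.2
        (fun hc => h.2 (Subtype.ext hc)) (h2.symm ▸ h'.1.2)
      have h4 := CfsgLib.Solvable.frobeniusKernel_inter
        ((hmem _).1 (mul_mem (inv_mem k'.2) k.2)) h3
      have hk : k' = k := Subtype.ext (inv_mul_eq_one.1 h4)
      subst hk
      simp only [mul_left_inj, mul_right_inj] at h1
      exact Prod.ext rfl (Subtype.ext (Subtype.ext h1))
    · rintro ⟨x, hx⟩
      have h1 := mt (hmem x).2 hx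
      rw [CfsgLib.Solvable.mem_frobeniusKernel_iff, not_or, not_forall] at h1
      obtain ⟨hx1, g, hg⟩ := h1
      rw [not_not] at hg
      obtain ⟨⟨k, h⟩, hkh⟩ := hNc.2 g
      simp only at hkh
      have h2 : (k : ↥F)⁻¹ * x * k ∈ H := by
        have := mul_mem (mul_mem h.2 hg) (inv_mem h.2)
        rw [← hkh] at this
        simpa [mul_assoc] using this
      exact ⟨⟨k, ⟨⟨_, h2⟩, fun hc => hx1 (by
        have hc' : (k : ↥F)⁻¹ * x * k = 1 := congrArg Subtype.val hc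
        calc x = (k : ↥F) * ((k : ↥F)⁻¹ * x * k) * (k : ↥F)⁻¹ := by group
          _ = 1 := by rw [hc', mul_one, mul_inv_cancel])⟩⟩, Subtype.ext (by
        show (k : ↥F) * ((k : ↥F)⁻¹ * x * k) * (k : ↥F)⁻¹ = x
        group)⟩
  have hpow : ∀ v : ↥V, v ^ Nat.card ↥N = 1 := by
    intro v
    have hF : ∏ x : ↥F, act x v = 1 := by
      rw [← Fintype.prod_equiv (Equiv.ofBijective _ hNc) (fun z : ↥N × ↥H => act z.1 (act z.2 v))
        (fun x => act x v) fun z => by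
          show act (z.1 : ↥F) (act (z.2 : ↥F) v) = act ((z.1 : ↥F) * (z.2 : ↥F)) v
          rw [map_mul]; rfl, Fintype.prod_prod_type]
      refine Finset.prod_eq_one fun k _ => ?_
      show ∏ h : ↥H, act (k : ↥F) (act (h : ↥F) v) = 1
      rw [← map_prod, hNH, map_one]
    have hk : ∀ k : ↥N, ∏ h : {h : ↥H // h ≠ 1}, act ((k : ↥F) * (h.1 : ↥F) * (k : ↥F)⁻¹) v = v⁻¹ := by
      intro k
      have h1 := hNH (act (k : ↥F)⁻¹ v)
      rw [Fintype.prod_eq_mul_prod_subtype_ne _ (1 : ↥H)] at h1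
      have h2 : ∏ h : {h : ↥H // h ≠ 1}, act (h.1 : ↥F) (act (k : ↥F)⁻¹ v) = (act (k : ↥F)⁻¹ v)⁻¹ := by
        have := h1
        rw [OneMemClass.coe_one, map_one, MulAut.one_apply] at this
        exact eq_inv_of_mul_eq_one_right this
      calc ∏ h : {h : ↥H // h ≠ 1}, act ((k : ↥F) * (h.1 : ↥F) * (k : ↥F)⁻¹) v
          = act (k : ↥F) (∏ h : {h : ↥H // h ≠ 1}, act (h.1 : ↥F) (act (k : ↥F)⁻¹ v)) := by
            rw [map_prod]
            exact Finset.prod_congr rfl fun h _ => by rw [map_mul, map_mul]; rfl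
        _ = v⁻¹ := by
            rw [h2, map_inv, ← MulAut.mul_apply, ← map_mul, mul_inv_cancel, map_one, MulAut.one_apply]
    have hsplit := Fintype.prod_subtype_mul_prod_subtype (fun x : ↥F => x ∈ N) (fun x => act x v)
    rw [hF, show (∏ i : {x : ↥F // x ∈ N}, act i v) = 1 by convert hNK v, one_mul,
      ← Fintype.prod_equiv (Equiv.ofBijective e he) (fun z => act ((z.1 : ↥F) * (z.2.1 : ↥F) * (z.1 : ↥F)⁻¹) v)
        (fun x => act (x : ↥F) v) (fun z => rfl), Fintype.prod_prod_type] at hsplit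
    rw [Finset.prod_congr rfl (fun k _ => hk k), Finset.prod_const, Finset.card_univ, inv_pow,
      inv_eq_one, ← Nat.card_eq_fintype_card] at hsplit
    exact hsplit
  refine hV1 ((Subgroup.eq_bot_iff_forall _).2 fun v hv => ?_)
  have h1 := orderOf_dvd_of_pow_eq_one (hpow ⟨v, hv⟩)
  have h2 : orderOf (⟨v, hv⟩ : ↥V) ∣ Nat.card ↥V := orderOf_dvd_natCard _
  have hcard : Nat.card ↥N = Nat.card (Cfsg.frobeniusKernel H) := Nat.card_congr (Equiv.setCongr hN)
  exact congrArg Subtype.val (orderOf_eq_one_iff.1 (Nat.eq_one_of_dvd_coprimes hcop h2 (hcard ▸ h1)))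

end Cfsg.Agent.S0666
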