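import Cfsg.Statements.S0668
import Mathlib

set_option autoImplicit false
open Cfsg

namespace Cfsg.Agent.S0668

/-- The equivariant linear maps between the permutation modules of two finite `G`-sets form a space whose dimension is the number of `G`-orbits on the product of the two sets. -/
theorem result {G : Type*} [Group G] {K : Type*} [Field K] {Ω₁ Ω₂ : Type*} [Fintype Ω₁] [Fintype Ω₂] [MulAction G Ω₁] [MulAction G Ω₂] : Module.finrank K ((Cfsg.permRep K G Ω₁).linHom (Cfsg.permRep K G Ω₂)).invariants = Nat.card (MulAction.orbitRel.Quotient G (Ω₁ × Ω₂)) := by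
  classical
  let Q := MulAction.orbitRel.Quotient G (Ω₁ × Ω₂)
  haveI := Fintype.ofFinite Q
  let mk : Ω₁ × Ω₂ → Q := Quotient.mk''
  have hmk : ∀ (g : G) (x : Ω₁) (y : Ω₂), mk (g • x, g • y) = mk (x, y) := fun g x y =>
    Quotient.sound' ⟨g, rfl⟩
  let M : (Q → K) →ₗ[K] ((Ω₁ → K) →ₗ[K] (Ω₂ → K)) :=
    { toFun := fun φ => Matrix.toLin' (Matrix.of fun y x => φ (mk (x, y)))
      map_add' := fun φ ψ => by
        rw [← map_add]; rfl
      map_smul' := fun c φ => by
        rw [RingHom.id_apply, ← map_smul]; rfl }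
  have hMv : ∀ φ v y, M φ v y = ∑ x, φ (mk (x, y)) * v x := fun φ v y => rfl
  have hinv : ∀ φ, M φ ∈ ((Cfsg.permRep K G Ω₁).linHom (Cfsg.permRep K G Ω₂)).invariants := by
    intro φ g
    refine LinearMap.ext fun v => funext fun y => ?_
    show M φ (Cfsg.permRep K G Ω₁ g⁻¹ v) (g⁻¹ • y) = M φ v y
    rw [hMv, hMv]
    refine Fintype.sum_equiv (MulAction.toPerm g) _ _ fun x => ?_
    show φ (mk (x, g⁻¹ • y)) * v (g⁻¹⁻¹ • x) = φ (mk (g • x, y)) * v (g • x)
    rw [inv_inv, ← hmk g x (g⁻¹ • y), smul_inv_smul]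
  let L := M.codRestrict _ hinv
  have hcoef : ∀ φ x y, M φ (Pi.single x 1) y = φ (mk (x, y)) := by
    intro φ x y
    rw [hMv, Finset.sum_eq_single x] <;> simp +contextual
  have hbij : Function.Bijective L := by
    refine ⟨fun φ ψ h => funext fun q => ?_, fun f => ?_⟩
    · induction q using Quotient.inductionOn' with
      | h p =>
        obtain ⟨x, y⟩ := p
        have h' : M φ = M ψ := congrArg Subtype.val h
        have := congrArg (fun F : (Ω₁ → K) →ₗ[K] (Ω₂ → K) => F (Pi.single x 1) y) h'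
        rwa [hcoef, hcoef] at this
    · have hkey : ∀ (g : G) (x : Ω₁) (y : Ω₂),
          f.1 (Pi.single (g • x) 1) (g • y) = f.1 (Pi.single x 1) y := by
        intro g x y
        have h := congrArg (fun F : (Ω₁ → K) →ₗ[K] (Ω₂ → K) => F (Pi.single x 1) y) (f.2 g⁻¹)
        change f.1 (Cfsg.permRep K G Ω₁ g⁻¹⁻¹ (Pi.single x 1)) (g⁻¹⁻¹ • y) = _ at h
        rw [inv_inv] at h
        rw [← h]
        have e : (Pi.single (g • x) (1 : K) : Ω₁ → K) = Cfsg.permRep K G Ω₁ g (Pi.single x 1) := by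
          funext z
          show (Pi.single (g • x) (1 : K) : Ω₁ → K) z = (Pi.single x (1 : K) : Ω₁ → K) (g⁻¹ • z)
          simp [Pi.single_apply, inv_smul_eq_iff]
        rw [e]
      refine ⟨fun q => Quotient.liftOn' q (fun p => f.1 (Pi.single p.1 1) p.2) ?_, ?_⟩
      · rintro ⟨x, y⟩ ⟨x', y'⟩ ⟨g, hg⟩
        cases hg
        exact hkey g x' y'
      · refine Subtype.ext (LinearMap.pi_ext' fun x => LinearMap.ext_ring (funext fun y => ?_))
        exact hcoef _ x y
  rw [← (LinearEquiv.ofBijective L hbij).finrank_eq, Module.finrank_fintype_fun_eq_card,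
    Nat.card_eq_fintype_card]

end Cfsg.Agent.S0668
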