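import Cfsg.Statements.S0669


set_option autoImplicit false
open Cfsg

namespace Cfsg.Agent.S0669

/-- The rank of a transitive action: orbits on ordered pairs correspond to orbits of a point stabiliser. -/
theorem result {G : Type*} [Group G] {Ω : Type*} [Finite Ω] [MulAction G Ω] [MulAction.IsPretransitive G Ω] (a : Ω) : Nat.card (MulAction.orbitRel.Quotient G (Ω × Ω)) = Nat.card (MulAction.orbitRel.Quotient (MulAction.stabilizer G a) Ω) := by
  classical
  let f : MulAction.orbitRel.Quotient (MulAction.stabilizer G a) Ω →
      MulAction.orbitRel.Quotient G (Ω × Ω) :=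
    Quotient.map (fun x => (a, x)) fun x y hxy => by
      obtain ⟨g, rfl⟩ := hxy
      exact ⟨g.1, Prod.ext g.2 rfl⟩
  refine (Nat.card_eq_of_bijective f ⟨?_, ?_⟩).symm
  · intro u v
    induction u using Quotient.inductionOn with
    | h x =>
      induction v using Quotient.inductionOn with
      | h y =>
        intro h
        obtain ⟨g, hg⟩ := Quotient.exact h
        exact Quotient.sound ⟨⟨g, congrArg Prod.fst hg⟩, congrArg Prod.snd hg⟩
  · intro u
    induction u using Quotient.inductionOn with
    | h z =>
      obtain ⟨g, hg⟩ := MulAction.exists_smul_eq G z.1 a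
      exact ⟨Quotient.mk _ (g • z.2), Quotient.sound ⟨g, Prod.ext hg rfl⟩⟩

end Cfsg.Agent.S0669
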