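import Cfsg.Statements.S0677
import Cfsg.Agent.Lib.SmallGroups.PrimeTransitiveSylow
import Cfsg.Agent.Lib.SmallGroups.Perm
import Cfsg.Agent.S0676

set_option autoImplicit false
open Cfsg

namespace Cfsg.Agent.S0677

/-- Fisher's inequality. -/
theorem card_le_of_pair_balance {β γ : Type*} [Fintype β] [Fintype γ] (I : β → γ → Prop)
    [∀ y b, Decidable (I y b)] (lam mu : ℕ) (hlt : mu < lam)
    (h1 : ∀ y, (Finset.univ.filter fun b => I y b).card = lam)
    (h2 : ∀ y z, y ≠ z → (Finset.univ.filter fun b => I y b ∧ I z b).card = mu) :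
    Fintype.card β ≤ Fintype.card γ := by
  classical
  let L : (β → ℝ) →ₗ[ℝ] (γ → ℝ) :=
    { toFun := fun x b => ∑ y, (if I y b then x y else 0)
      map_add' := fun x y => by funext b; simp [← Finset.sum_add_distrib, ite_add_ite]
      map_smul' := fun c x => by funext b; simp [Finset.mul_sum, mul_ite] }
  have hinj : Function.Injective L := by
    rw [← LinearMap.ker_eq_bot, LinearMap.ker_eq_bot']
    intro x hx
    have h0 : ∑ b, (L x b) ^ 2 = 0 := by simp [hx]
    have h3 : ∑ b, (L x b) ^ 2 = ((lam : ℝ) - mu) * ∑ y, x y ^ 2 + mu * (∑ y, x y) ^ 2 := by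
      have e1 : ∀ b, (L x b) ^ 2 = ∑ y, ∑ z, (if I y b ∧ I z b then x y * x z else 0) := by
        intro b
        show (∑ y, (if I y b then x y else 0)) ^ 2 = _
        rw [pow_two, Finset.sum_mul_sum]
        refine Finset.sum_congr rfl fun y _ => Finset.sum_congr rfl fun z _ => ?_
        by_cases hy : I y b <;> by_cases hz : I z b <;> simp [hy, hz]
      simp only [e1]
      rw [Finset.sum_comm]
      have e2 : ∀ y, (∑ b, ∑ z, (if I y b ∧ I z b then x y * x z else 0)) =
          ((lam : ℝ) - mu) * x y ^ 2 + mu * (x y * ∑ z, x z) := by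
        intro y
        rw [Finset.sum_comm]
        simp only [← Finset.sum_filter, Finset.sum_const, nsmul_eq_mul]
        rw [← Finset.add_sum_erase _ _ (Finset.mem_univ y),
          Finset.sum_congr rfl (g := fun z => (mu : ℝ) * (x y * x z))
            (fun z hz => by rw [h2 y z (Finset.ne_of_mem_erase hz).symm]),
          Finset.sum_erase_eq_sub (Finset.mem_univ y), ← Finset.mul_sum, ← Finset.mul_sum]
        simp only [and_self, h1]
        ring
      rw [Finset.sum_congr rfl (fun y _ => e2 y), Finset.sum_add_distrib, ← Finset.mul_sum,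
        ← Finset.mul_sum, ← Finset.sum_mul, pow_two (∑ y, x y)]
    have hpos : (0 : ℝ) < (lam : ℝ) - mu := by
      have : (mu : ℝ) < lam := by exact_mod_cast hlt
      linarith
    have hsq : 0 ≤ ∑ y, x y ^ 2 := Finset.sum_nonneg fun y _ => sq_nonneg _
    have hm : 0 ≤ (mu : ℝ) * (∑ y, x y) ^ 2 := by positivity
    have hz : ∑ y, x y ^ 2 = 0 := by nlinarith
    funext y
    exact pow_eq_zero_iff (n := 2) two_ne_zero |>.mp
      ((Finset.sum_eq_zero_iff_of_nonneg fun z _ => sq_nonneg (x z)).mp hz y (Finset.mem_univ y))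
  simpa using LinearMap.finrank_le_finrank_of_injective hinj

/-- In a transitive permutation group of prime degree `p` whose Sylow `p`-normaliser has even order, the point stabilisers are the only subgroups of index `p`. -/
theorem result {α : Type*} [Fintype α] [DecidableEq α] {p : ℕ} [Fact p.Prime] (hα : Fintype.card α = p) (G : Subgroup (Equiv.Perm α)) [MulAction.IsPretransitive G α] (P : Sylow p G) (heven : Even (Nat.card (Subgroup.normalizer ((P : Subgroup G) : Set G)))) (H : Subgroup G) (hH : H.index = p) : ∃ a : α, H = MulAction.stabilizer G a := by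
  classical
  open CfsgLib.SmallGroups in
  have hp : p.Prime := Fact.out
  have hpH : ¬ p ∣ Nat.card H := fun h => not_sq_dvd_card hα G (by
    rw [← H.card_mul_index, hH]; exact Nat.mul_dvd_mul_right h p)
  suffices hfix : ∃ a : α, H ≤ MulAction.stabilizer G a by
    obtain ⟨a, ha⟩ := hfix
    refine ⟨a, Subgroup.eq_of_le_of_card_ge ha (le_of_eq ?_)⟩
    have h1 := (MulAction.stabilizer G a).card_mul_index
    rw [MulAction.index_stabilizer_of_transitive, Nat.card_eq_fintype_card (α := α), hα, ← H.card_mul_index, hH] at h1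
    exact Nat.eq_of_mul_eq_mul_right hp.pos h1
  obtain ⟨a₀⟩ : Nonempty α := Fintype.card_pos_iff.mp (hα ▸ hp.pos)
  by_cases hG : Group.IsSolvable G
  · open CfsgLib.SmallGroups in
    obtain ⟨σ, hσG, hσ, hle⟩ := le_normalizer_of_isSolvable hα G hG
    obtain ⟨e, -, he⟩ := CfsgLib.SmallGroups.exists_coord hα hσ a₀
    have hco : ∀ g : G, ∃ a c : ZMod p, a ≠ 0 ∧ ∀ j, (g : Equiv.Perm α) (e j) = e (a * j + c) :=
      fun g => CfsgLib.SmallGroups.coord_of_conj hσ he (((hle g.2) σ).mp (Subgroup.mem_zpowers σ))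
    have hone : ∀ h ∈ H, (h : Equiv.Perm α) ∈ Subgroup.zpowers σ → h = 1 := by
      intro h hh hz
      by_contra hne
      apply hpH
      have h1 : orderOf h = p := by
        have hd : orderOf (h : Equiv.Perm α) ∣ p := by
          rw [← hσ]
          obtain ⟨k, hk⟩ := Subgroup.mem_zpowers_iff.mp hz
          rw [← hk]
          apply orderOf_dvd_of_pow_eq_one
          rw [← zpow_natCast, ← zpow_mul, mul_comm, zpow_mul, zpow_natCast, pow_orderOf_eq_one, one_zpow]
        rw [← Subgroup.orderOf_coe]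
        exact ((Nat.dvd_prime hp).mp hd).resolve_left (fun h1 => hne (Subtype.ext (orderOf_eq_one_iff.mp h1)))
      rw [← h1, ← Subgroup.orderOf_mk h hh]
      exact orderOf_dvd_natCard _
    by_cases hex : ∀ h ∈ H, h = 1
    · exact ⟨a₀, fun h hh => by rw [hex h hh]; exact one_mem _⟩
    push Not at hex
    obtain ⟨h₀, hh₀, hh₀1⟩ := hex
    obtain ⟨a, c, -, hac⟩ := hco h₀
    have ha : a ≠ 1 := fun ha => hh₀1 (hone h₀ hh₀
      (CfsgLib.SmallGroups.mem_zpowers_of_coord he (c := c) (fun j => by rw [hac, ha, one_mul])))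
    refine ⟨e (c / (1 - a)), fun h hh => ?_⟩
    obtain ⟨b, d, -, hbd⟩ := hco h
    -- the commutator is a translation in H
    have hcomm : h * h₀ = h₀ * h := by
      have key : (h * h₀) * (h₀ * h)⁻¹ = 1 := by
        refine hone _ (mul_mem (mul_mem hh hh₀) (inv_mem (mul_mem hh₀ hh))) ?_
        refine CfsgLib.SmallGroups.mem_zpowers_of_coord he (c := b * c + d - (a * d + c)) fun j => ?_
        obtain ⟨i, hi⟩ := e.surjective (((h₀ * h : G) : Equiv.Perm α)⁻¹ (e j))
        have h2 : ((h₀ * h : G) : Equiv.Perm α) (e i) = e j := by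
          rw [hi]; exact Equiv.apply_symm_apply _ _
        have hj : a * (b * i + d) + c = j := by
          have h4 : (h₀ : Equiv.Perm α) ((h : Equiv.Perm α) (e i)) = e j := h2
          rw [hbd, hac] at h4
          exact e.injective h4
        show ((h * h₀ : G) : Equiv.Perm α) (((h₀ * h : G) : Equiv.Perm α)⁻¹ (e j)) = _
        rw [← hi]
        show (h : Equiv.Perm α) ((h₀ : Equiv.Perm α) (e i)) = _
        rw [hac, hbd, ← hj]
        congr 1
        ring
      exact mul_inv_eq_one.mp key
    rw [MulAction.mem_stabilizer_iff]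
    show (h : Equiv.Perm α) (e (c / (1 - a))) = e (c / (1 - a))
    have ha' : (1 : ZMod p) - a ≠ 0 := sub_ne_zero.mpr (Ne.symm ha)
    have hfixed : (h₀ : Equiv.Perm α) ((h : Equiv.Perm α) (e (c / (1 - a)))) =
        (h : Equiv.Perm α) (e (c / (1 - a))) := by
      have h3 : (h₀ : Equiv.Perm α) (e (c / (1 - a))) = e (c / (1 - a)) := by
        rw [hac]; congr 1; field_simp; ring
      have := congrArg (fun g : G => (g : Equiv.Perm α) (e (c / (1 - a)))) hcomm
      simp only [Subgroup.coe_mul, Equiv.Perm.mul_apply, h3] at this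
      exact this.symm
    rw [hbd] at hfixed ⊢
    rw [hac, e.apply_eq_iff_eq] at hfixed
    rw [e.apply_eq_iff_eq]
    rw [eq_div_iff ha']
    linear_combination -hfixed
  have h3t : MulAction.IsMultiplyPretransitive G α 3 := Cfsg.Agent.S0676.result hα G hG P heven
  have hp3 : 3 ≤ p := by
    by_contra hlt
    obtain ⟨σ, hσG, hσ⟩ := CfsgLib.SmallGroups.exists_orderOf_eq_of_isPretransitive hα G
    apply hG
    refine CfsgLib.SmallGroups.isSolvable_normalizer hα hσ ?_
    have : Subgroup.zpowers σ = ⊤ := Subgroup.eq_top_of_card_eq _ (by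
      rw [Nat.card_zpowers, hσ, Nat.card_perm, Nat.card_eq_fintype_card, hα,
        show p = 2 by have := hp.two_le; omega]; rfl)
    rw [this, Subgroup.normalizer_eq_top_iff.mpr inferInstance]
    exact le_top
  -- an invariant set of at most half of the points
  obtain ⟨D, hD, hDne, hDsmall⟩ : ∃ D : Finset α, (∀ h ∈ H, ∀ y, h • y ∈ D ↔ y ∈ D) ∧
      D.Nonempty ∧ 2 * D.card ≤ p := by
    let O : Finset α := Finset.univ.filter fun y => y ∈ MulAction.orbit H a₀
    have hO : ∀ h ∈ H, ∀ y, h • y ∈ O ↔ y ∈ O := by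
      intro h hh y
      simp only [O, Finset.mem_filter, Finset.mem_univ, true_and]
      exact ⟨fun hy => by
        have h1 := MulAction.mem_orbit_of_mem_orbit (⟨h, hh⟩⁻¹ : H) hy
        rwa [show (⟨h, hh⟩ : H)⁻¹ • h • y = y from inv_smul_smul (⟨h, hh⟩ : H) y] at h1, fun hy => MulAction.mem_orbit_of_mem_orbit (⟨h, hh⟩ : H) hy⟩
    have hOne : O ≠ Finset.univ := by
      intro hu
      apply hpH
      haveI : MulAction.IsPretransitive H α := ⟨fun x y => by
        have hx : x ∈ MulAction.orbit H a₀ := by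
          have : x ∈ O := hu ▸ Finset.mem_univ x
          simpa [O] using this
        have hy : y ∈ MulAction.orbit H a₀ := by
          have : y ∈ O := hu ▸ Finset.mem_univ y
          simpa [O] using this
        obtain ⟨g, rfl⟩ := hx
        obtain ⟨k, rfl⟩ := hy
        exact ⟨k * g⁻¹, by rw [mul_smul]; exact congrArg (k • ·) (inv_smul_smul g a₀)⟩⟩
      rw [← hα, ← Nat.card_eq_fintype_card, ← MulAction.index_stabilizer_of_transitive (G := H) a₀]
      exact Subgroup.index_dvd_card _
    by_cases hs : 2 * O.card ≤ p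
    · exact ⟨O, hO, ⟨a₀, by simp [O, MulAction.mem_orbit_self]⟩, hs⟩
    · refine ⟨Oᶜ, fun h hh y => by simp only [Finset.mem_compl, hO h hh y], ?_, by
        rw [Finset.card_compl, hα]; omega⟩
      rw [Finset.nonempty_iff_ne_empty, Ne, Finset.compl_eq_empty_iff]
      exact hOne
  by_cases hk1 : D.card = 1
  · obtain ⟨a, rfl⟩ := Finset.card_eq_one.mp hk1
    exact ⟨a, fun h hh => by simpa using (hD h hh a).mpr (Finset.mem_singleton_self a)⟩
  exfalso
  -- blocks
  haveI := Fintype.ofFinite (G ⧸ H)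
  let I : α → G ⧸ H → Prop := fun y q => (q.out)⁻¹ • y ∈ D
  have hI : ∀ (g : G) y q, I (g • y) (g • q) ↔ I y q := by
    intro g y q
    have hmem : ((g • q).out)⁻¹ * g * q.out ∈ H := by
      rw [mul_assoc]
      refine QuotientGroup.eq.mp ?_
      rw [QuotientGroup.out_eq', ← smul_eq_mul, ← MulAction.Quotient.smul_mk, QuotientGroup.out_eq']
    have := hD _ hmem ((q.out)⁻¹ • y)
    rw [mul_smul, mul_smul, smul_inv_smul] at this
    exact this
  let cnt : List α → ℕ := fun l => (Finset.univ.filter fun q : G ⧸ H => ∀ y ∈ l, I y q).card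
  have hinv : ∀ (g : G) (l : List α), cnt (l.map (g • ·)) = cnt l := by
    intro g l
    refine (Finset.card_equiv (MulAction.toPerm g) fun q => ?_).symm
    simp [hI]
  have h2t : MulAction.IsMultiplyPretransitive G α 2 :=
    MulAction.isMultiplyPretransitive_of_le (n := 3) (by norm_num) (by rw [Nat.card_eq_fintype_card]; omega)
  have h2' : ∀ {a b c d : α}, a ≠ b → c ≠ d → ∃ g : G, g • a = c ∧ g • b = d :=
    MulAction.is_two_pretransitive_iff.mp h2t
  have h3' : ∀ a b c a' b' c' : α, a ≠ b → a ≠ c → b ≠ c → a' ≠ b' → a' ≠ c' → b' ≠ c' →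
      ∃ g : G, g • a = a' ∧ g • b = b' ∧ g • c = c' := by
    intro a b c a' b' c' h1 h2 h3 h4 h5 h6
    obtain ⟨g, hg⟩ := CfsgLib.SmallGroups.exists_smul_eq_on_finset h3t
      (by rw [Nat.card_eq_fintype_card]; omega) {a, b, c} Finset.card_le_three
      (fun y => if y = a then a' else if y = b then b' else c') (by
        intro u hu v hv huv
        simp only [Finset.coe_insert, Finset.coe_singleton, Set.mem_insert_iff, Set.mem_singleton_iff] at hu hv
        rcases hu with rfl | rfl | rfl <;> rcases hv with rfl | rfl | rfl <;>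
          simp_all [eq_comm])
    refine ⟨g, ?_, ?_, ?_⟩
    · simpa using hg a (by simp)
    · simpa [h1.symm] using hg b (by simp)
    · simpa [h2.symm, h3.symm] using hg c (by simp)
  obtain ⟨x₁, hx₁, y₁, hy₁, hxy₁⟩ := Finset.one_lt_card.mp (by have := hDne.card_pos; omega : 1 < D.card)
  obtain ⟨z₁, hz₁⟩ : ∃ z, z ∈ Dᶜ := Finset.card_pos.mp (by rw [Finset.card_compl]; omega)
  rw [Finset.mem_compl] at hz₁
  set q₀ : G ⧸ H := ((1 : G) : G ⧸ H) with hq₀
  have hq0 : ∀ y, I y q₀ ↔ y ∈ D := by
    intro y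
    have hm : (q₀.out)⁻¹ ∈ H := by
      have := QuotientGroup.eq.mp (show ((q₀.out : G) : G ⧸ H) = ((1 : G) : G ⧸ H) by rw [QuotientGroup.out_eq'])
      simpa using this
    exact hD _ hm y
  -- every point is in |D| blocks
  have hdeg : ∀ y, cnt [y] = D.card := by
    intro y
    have hall : ∀ z, cnt [z] = cnt [y] := by
      intro z
      obtain ⟨g, hg⟩ := MulAction.exists_smul_eq G y z
      rw [← hinv g [y]]
      simp [hg]
    have hdc : ∑ z : α, cnt [z] = ∑ q : G ⧸ H, D.card := by
      simp only [cnt, List.mem_singleton, forall_eq]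
      simp only [Finset.card_filter]
      rw [Finset.sum_comm]
      refine Finset.sum_congr rfl fun q _ => ?_
      rw [← Finset.card_filter]
      exact Finset.card_equiv (MulAction.toPerm (q.out)⁻¹) (fun z => by simp [I])
    rw [Finset.sum_congr rfl (fun z _ => hall z), Finset.sum_const, Finset.sum_const, Finset.card_univ,
      Finset.card_univ, hα, ← Nat.card_eq_fintype_card, ← Subgroup.index_eq_card, hH, smul_eq_mul,
      smul_eq_mul] at hdc
    exact Nat.eq_of_mul_eq_mul_left hp.pos hdc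
  -- Fisher's inequality for the design derived at a₀
  let β := {y : α // y ≠ a₀}
  let γ := {q : G ⧸ H // I a₀ q}
  have hcardγ : Fintype.card γ = D.card := by
    rw [Fintype.card_subtype, ← hdeg a₀]
    simp [cnt]
  have hcardβ : Fintype.card β = p - 1 := by
    rw [Fintype.card_subtype_compl, Fintype.card_subtype_eq, hα]
  obtain ⟨y₂, z₂, hy₂, hz₂, hyz₂⟩ : ∃ y z : α, y ≠ a₀ ∧ z ≠ a₀ ∧ y ≠ z := by
    obtain ⟨y, hy⟩ : ∃ y, y ∈ ({a₀} : Finset α)ᶜ := Finset.card_pos.mp (by
      rw [Finset.card_compl, Finset.card_singleton, hα]; omega)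
    obtain ⟨z, hz⟩ : ∃ z, z ∈ ({a₀, y} : Finset α)ᶜ := Finset.card_pos.mp (by
      rw [Finset.card_compl, hα]
      have := Finset.card_le_two (a := a₀) (b := y)
      omega)
    simp only [Finset.mem_compl, Finset.mem_insert, Finset.mem_singleton, not_or] at hy hz
    exact ⟨y, z, hy, hz.1, fun e => hz.2 e.symm⟩
  have hlam : ∀ y : β, (Finset.univ.filter fun q : γ => I y.1 q.1).card = cnt [a₀, y₂] := by
    intro y
    obtain ⟨g, hg1, hg2⟩ := h2' hy₂.symm y.2.symm
    have e1 : cnt [a₀, y₂] = cnt [a₀, y.1] := by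
      rw [← hinv g [a₀, y₂]]
      simp [hg1, hg2]
    rw [e1]
    refine Finset.card_bij (fun q _ => q.1) (fun q hq => ?_) (fun q _ r _ e => Subtype.ext e) (fun q hq => ?_)
    · simp only [Finset.mem_filter, Finset.mem_univ, true_and] at hq
      simp [hq, q.2]
    · simp only [cnt, Finset.mem_filter, Finset.mem_univ, true_and, List.mem_cons, List.not_mem_nil,
        or_false, forall_eq_or_imp, forall_eq] at hq
      exact ⟨⟨q, hq.1⟩, by simp [hq.2], rfl⟩
  have hmu : ∀ y z : β, y ≠ z →
      (Finset.univ.filter fun q : γ => I y.1 q.1 ∧ I z.1 q.1).card = cnt [a₀, y₂, z₂] := by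
    intro y z hyz
    obtain ⟨g, hg1, hg2, hg3⟩ := h3' a₀ y₂ z₂ a₀ y.1 z.1 hy₂.symm hz₂.symm hyz₂ y.2.symm z.2.symm
      (fun e => hyz (Subtype.ext e))
    have e1 : cnt [a₀, y₂, z₂] = cnt [a₀, y.1, z.1] := by
      rw [← hinv g [a₀, y₂, z₂]]
      simp [hg1, hg2, hg3]
    rw [e1]
    refine Finset.card_bij (fun q _ => q.1) (fun q hq => ?_) (fun q _ r _ e => Subtype.ext e) (fun q hq => ?_)
    · simp only [Finset.mem_filter, Finset.mem_univ, true_and] at hq
      simp [hq.1, hq.2, q.2]
    · simp only [cnt, Finset.mem_filter, Finset.mem_univ, true_and, List.mem_cons, List.not_mem_nil,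
        or_false, forall_eq_or_imp, forall_eq] at hq
      exact ⟨⟨q, hq.1⟩, by simp [hq.2.1, hq.2.2], rfl⟩
  have hlt : cnt [a₀, y₂, z₂] < cnt [a₀, y₂] := by
    obtain ⟨g, hg1, hg2, hg3⟩ := h3' x₁ y₁ z₁ a₀ y₂ z₂ hxy₁ (fun e => hz₁ (e ▸ hx₁))
      (fun e => hz₁ (e ▸ hy₁)) hy₂.symm hz₂.symm hyz₂
    apply Finset.card_lt_card
    rw [Finset.ssubset_iff_of_subset (Finset.monotone_filter_right _ fun q _ hq y hy =>
      hq y (by rcases List.mem_cons.mp hy with h | h <;> simp_all))]
    refine ⟨g • q₀, ?_, ?_⟩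
    · simp only [Finset.mem_filter, Finset.mem_univ, true_and, List.mem_cons, List.not_mem_nil,
        or_false, forall_eq_or_imp, forall_eq]
      rw [← hg1, ← hg2, hI, hI, hq0, hq0]
      exact ⟨hx₁, hy₁⟩
    · simp only [Finset.mem_filter, Finset.mem_univ, true_and, List.mem_cons, List.not_mem_nil,
        or_false, forall_eq_or_imp, forall_eq]
      rintro ⟨-, -, h⟩
      rw [← hg3, hI, hq0] at h
      exact hz₁ h
  have := card_le_of_pair_balance (fun (y : β) (q : γ) => I y.1 q.1) _ _ hlt hlam hmu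
  rw [hcardβ, hcardγ] at this
  have := hDne.card_pos
  omega

end Cfsg.Agent.S0677
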