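import Mathlib
import Cfsg.Statements.S0681


set_option autoImplicit false
open Cfsg

namespace Cfsg.Agent.S0681

variable {F : Type*} [Cfsg.NearField F]

theorem nf_zero_mul (a : F) : (0 : F) * a = 0 := by
  have h := Cfsg.NearField.right_distrib (0 : F) 0 a
  rw [add_zero] at h
  exact left_eq_add.mp h

theorem nf_neg_mul (x a : F) : (-x) * a = -(x * a) := by
  apply eq_neg_of_add_eq_zero_left
  rw [← Cfsg.NearField.right_distrib, neg_add_cancel, nf_zero_mul]

theorem nf_sub_mul (x y a : F) : (x - y) * a = x * a - y * a := by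
  rw [sub_eq_add_neg, Cfsg.NearField.right_distrib, nf_neg_mul, sub_eq_add_neg]

/-- The affine maps `x ↦ x * a + b`, `a ≠ 0`, of a near-field form a sharply doubly transitive permutation group. -/
theorem result {F : Type*} [Cfsg.NearField F] : ∃ H : Subgroup (Equiv.Perm F), (∀ σ : Equiv.Perm F, σ ∈ H ↔ ∃ a b : F, a ≠ 0 ∧ ∀ x : F, σ x = x * a + b) ∧ MulAction.IsMultiplyPretransitive H F 2 ∧ ∀ x : Fin 2 ↪ F, MulAction.stabilizer H x = ⊥ := by
  classical
  let S : Set (Equiv.Perm F) := {σ | ∃ a b : F, a ≠ 0 ∧ ∀ x : F, σ x = x * a + b}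
  have hne : ∀ a c : F, a ≠ 0 → c ≠ 0 → a * c ≠ 0 := by
    intro a c ha hc h
    obtain ⟨b, -, hb⟩ := Cfsg.NearField.exists_inv a ha
    apply hc
    rw [← one_mul c, ← hb, mul_assoc, h, Cfsg.NearField.mul_zero]
  let H : Subgroup (Equiv.Perm F) :=
    { carrier := S
      one_mem' := ⟨1, 0, Cfsg.NearField.zero_ne_one.symm, fun x => by simp⟩
      mul_mem' := by
        rintro σ τ ⟨a, b, ha, hσ⟩ ⟨c, d, hc, hτ⟩
        refine ⟨c * a, d * a + b, hne c a hc ha, fun x => ?_⟩
        rw [Equiv.Perm.mul_apply, hτ, hσ, Cfsg.NearField.right_distrib, mul_assoc, add_assoc]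
      inv_mem' := by
        rintro σ ⟨a, b, ha, hσ⟩
        obtain ⟨c, hac, hca⟩ := Cfsg.NearField.exists_inv a ha
        refine ⟨c, (-b) * c, fun h => Cfsg.NearField.zero_ne_one (F := F)
          (by rw [← hac, h, Cfsg.NearField.mul_zero]), fun x => ?_⟩
        apply σ.injective
        rw [show σ (σ⁻¹ x) = x from σ.apply_symm_apply x, hσ, Cfsg.NearField.right_distrib, mul_assoc, mul_assoc, hca,
          mul_one, mul_one, add_assoc, neg_add_cancel, add_zero] }
  refine ⟨H, fun σ => Iff.rfl, ?_, ?_⟩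
  · rw [MulAction.is_two_pretransitive_iff]
    intro x y u v hxy huv
    obtain ⟨c, hc1, hc2⟩ := Cfsg.NearField.exists_inv (x - y) (sub_ne_zero.mpr hxy)
    set a := c * (u - v) with hadef
    have hxa : (x - y) * a = u - v := by rw [hadef, ← mul_assoc, hc1, one_mul]
    have ha : a ≠ 0 := fun h => huv (sub_eq_zero.mp (by rw [← hxa, h, Cfsg.NearField.mul_zero]))
    obtain ⟨d, had, hda⟩ := Cfsg.NearField.exists_inv a ha
    let σ : Equiv.Perm F :=
      { toFun := fun z => z * a + (-(x * a) + u)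
        invFun := fun z => (z + -(-(x * a) + u)) * d
        left_inv := fun z => by
          simp only [add_neg_cancel_right, mul_assoc, had, mul_one]
        right_inv := fun z => by
          simp only [mul_assoc, hda, mul_one, neg_add_cancel_right] }
    refine ⟨⟨σ, a, -(x * a) + u, ha, fun _ => rfl⟩, ?_, ?_⟩
    · show x * a + (-(x * a) + u) = u
      rw [← add_assoc, add_neg_cancel, zero_add]
    · show y * a + (-(x * a) + u) = v
      have h2 : x * a - y * a = u - v := by rw [← nf_sub_mul, hxa]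
      have h3 : y * a - x * a = v - u := by rw [← neg_sub (x * a), h2, neg_sub]
      rw [← add_assoc, ← sub_eq_add_neg, h3, sub_add_cancel]
  · intro t
    rw [eq_bot_iff]
    rintro ⟨σ, a, b, ha, hσ⟩ h
    have h0 : t 0 * a + b = t 0 := (hσ _).symm.trans (congrArg (fun e : Fin 2 ↪ F => e 0) h)
    have h1 : t 1 * a + b = t 1 := (hσ _).symm.trans (congrArg (fun e : Fin 2 ↪ F => e 1) h)
    have hd : (t 0 - t 1) * a = t 0 - t 1 := by
      rw [nf_sub_mul]
      conv_rhs => rw [← h0, ← h1]
      rw [add_sub_add_right_eq_sub]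
    have ha1 : a = 1 := by
      obtain ⟨c, -, hc⟩ := Cfsg.NearField.exists_inv _
        (sub_ne_zero.mpr (t.injective.ne (by decide : (0 : Fin 2) ≠ 1)))
      rw [← one_mul a, ← hc, mul_assoc, hd]
    have hb : b = 0 := by
      rw [ha1, mul_one] at h0
      exact add_left_cancel (h0.trans (add_zero _).symm)
    refine Subgroup.mem_bot.mpr (Subtype.ext (Equiv.ext fun z => ?_))
    rw [hσ, ha1, hb, mul_one, add_zero]; rfl

end Cfsg.Agent.S0681
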