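import Mathlib
import Cfsg.Statements.S0682


set_option autoImplicit false
open Cfsg

namespace Cfsg.Agent.S0682

variable {F : Type*} [Cfsg.NearField F]

theorem nf_zero_mul (a : F) : (0 : F) * a = 0 := by
  have h := Cfsg.NearField.right_distrib (0 : F) 0 a
  rw [add_zero] at h
  exact left_eq_add.mp h

/-- Right multiplication as an endomorphism of the additive group. -/
def mulRightHom (a : F) : F →+ F where
  toFun x := x * a
  map_zero' := nf_zero_mul a
  map_add' x y := Cfsg.NearField.right_distrib x y a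

theorem exists_right (x y : F) (hx : x ≠ 0) : ∃ a : F, x * a = y := by
  obtain ⟨b, hb, -⟩ := Cfsg.NearField.exists_inv x hx
  exact ⟨b * y, by rw [← mul_assoc, hb, one_mul]⟩

/-- A finite near-field has prime-power order; its additive group is commutative of prime exponent. -/
theorem result {F : Type*} [Cfsg.NearField F] [Finite F] : ∃ p j : ℕ, p.Prime ∧ 1 ≤ j ∧ Nat.card F = p ^ j ∧ (∀ x y : F, x + y = y + x) ∧ ∀ x : F, p • x = 0 := by
  classical
  haveI := Fintype.ofFinite F
  haveI : Nontrivial F := ⟨⟨0, 1, Cfsg.NearField.zero_ne_one⟩⟩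
  set p := (Nat.card F).minFac with hpdef
  have hp : p.Prime := Nat.minFac_prime (Finite.one_lt_card (α := F)).ne'
  haveI : Fact p.Prime := ⟨hp⟩
  obtain ⟨x₀, hx₀⟩ := exists_prime_addOrderOf_dvd_card' (G := F) p (Nat.minFac_dvd _)
  have hx₀' : x₀ ≠ 0 := fun h => hp.ne_one (by rw [← hx₀, h, addOrderOf_zero])
  have hall : ∀ x : F, p • x = 0 := fun x => by
    obtain ⟨a, rfl⟩ := exists_right x₀ x hx₀'
    have h := map_nsmul (mulRightHom a) p x₀
    simp only [mulRightHom, AddMonoidHom.coe_mk, ZeroHom.coe_mk] at h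
    rw [← h, ← hx₀, addOrderOf_nsmul_eq_zero, nf_zero_mul]
  have hpg : IsPGroup p (Multiplicative F) := fun x => ⟨1, by
    rw [pow_one]; exact congrArg Multiplicative.ofAdd (hall x.toAdd)⟩
  have hc := hpg.center_nontrivial
  obtain ⟨⟨z, hz⟩, hz1⟩ := exists_ne (1 : Subgroup.center (Multiplicative F))
  have hz0 : z.toAdd ≠ 0 := fun h => hz1 (Subtype.ext h)
  have comm : ∀ x y : F, x + y = y + x := by
    intro x y
    by_cases hy : y = 0
    · simp [hy]
    obtain ⟨a, ha⟩ := exists_right z.toAdd y hz0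
    obtain ⟨b, hb⟩ : ∃ b : F, b * a = x := by
      have ha0 : a ≠ 0 := fun h => hy (by rw [← ha, h, Cfsg.NearField.mul_zero])
      obtain ⟨c, -, hc⟩ := Cfsg.NearField.exists_inv a ha0
      exact ⟨x * c, by rw [mul_assoc, hc, mul_one]⟩
    rw [← hb, ← ha, ← Cfsg.NearField.right_distrib, ← Cfsg.NearField.right_distrib]
    congr 1
    exact congrArg Multiplicative.toAdd (Subgroup.mem_center_iff.mp hz (Multiplicative.ofAdd b))
  obtain ⟨j, hj⟩ := hpg.exists_card_eq
  have hj' : Nat.card F = p ^ j := by rw [← hj]; exact Nat.card_congr Multiplicative.ofAdd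
  refine ⟨p, j, hp, ?_, hj', comm, hall⟩
  rcases Nat.eq_zero_or_pos j with h | h
  · have := Finite.one_lt_card (α := F)
    rw [hj', h] at this; simp at this
  · exact h

end Cfsg.Agent.S0682
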