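import Cfsg.Statements.S0683
import Mathlib
import Cfsg.Agent.Lib.SmallGroups.SharplyTwoTransitive

set_option autoImplicit false
open Cfsg

namespace Cfsg.Agent.S0683

/-- A finite sharply doubly transitive permutation group is the affine group of a near-field: the permuted set carries a near-field structure for which the group consists exactly of the maps `x ↦ x * a + b` with `a ≠ 0`. -/
theorem result {α : Type*} [Fintype α] [DecidableEq α] (H : Subgroup (Equiv.Perm α)) [MulAction.IsMultiplyPretransitive H α 2] (hsharp : ∀ x : Fin 2 ↪ α, MulAction.stabilizer H x = ⊥) (h2 : 2 ≤ Fintype.card α) : ∃ _ : Cfsg.NearField α, ∀ σ : Equiv.Perm α, σ ∈ H ↔ ∃ a b : α, a ≠ 0 ∧ ∀ x : α, σ x = x * a + b := by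
  classical
  have hS := CfsgLib.SmallGroups.SharplyTwoTransitive.isSharp_of_stabilizer (G := H) (α := α) hsharp
  have h2' : 2 ≤ Nat.card α := by rwa [Nat.card_eq_fintype_card]
  obtain ⟨p, j, K, hp, -, hn, hK, hKn, hcomm, -, htr, hst, -⟩ :=
    CfsgLib.SmallGroups.SharplyTwoTransitive.exists_kernel hS h2'
  haveI : Nontrivial α := Fintype.one_lt_card_iff_nontrivial.mp h2
  obtain ⟨z, e, hze⟩ := exists_pair_ne α
  -- translations
  have hk : ∀ x : α, ∃ k : H, k ∈ K ∧ k • z = x := fun x =>
    (htr.exists_smul_eq z x).elim fun k hk => ⟨k, k.2, hk⟩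
  choose k hkK hkz using hk
  have hkuniq : ∀ g ∈ K, ∀ x : α, g • z = x → g = k x := by
    intro g hg x hx
    have h1 : (⟨(k x)⁻¹ * g, K.mul_mem (K.inv_mem (hkK x)) hg⟩ : K) ∈ MulAction.stabilizer K z :=
      MulAction.mem_stabilizer_iff.mpr (show ((k x)⁻¹ * g) • z = z by
        rw [mul_smul, hx, inv_smul_eq_iff, hkz])
    rw [hst, Subgroup.mem_bot] at h1
    exact (inv_mul_eq_one.mp (congrArg Subtype.val h1)).symm
  -- the stabiliser of `z`
  have hh : ∀ a : α, a ≠ z → ∃ g : H, g • z = z ∧ g • e = a := fun a ha =>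
    (MulAction.is_two_pretransitive_iff.mp inferInstance hze ha.symm).imp fun g hg => hg
  choose h hhz hhe using hh
  have hhuniq : ∀ (g : H) (a : α) (ha : a ≠ z), g • z = z → g • e = a → g = h a ha := by
    intro g a ha hgz hge
    refine ((inv_mul_eq_one (a := h a ha) (b := g)).mp (hS.2 _ z e hze ?_ ?_)).symm
    · rw [mul_smul, hgz, inv_smul_eq_iff, hhz]
    · rw [mul_smul, hge, inv_smul_eq_iff, hhe]
  have hk0 : k z = 1 := (hkuniq 1 K.one_mem z (one_smul H z)).symm
  have hkadd : ∀ x y : α, k (k y • x) = k y * k x := fun x y =>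
    (hkuniq _ (K.mul_mem (hkK y) (hkK x)) _ (by rw [mul_smul, hkz])).symm
  letI addg : AddGroup α :=
    letI : Add α := ⟨fun x y => k y • x⟩
    letI : Zero α := ⟨z⟩
    letI : Neg α := ⟨fun x => (k x)⁻¹ • z⟩
    AddGroup.ofRightAxioms
      (fun x y w => show k w • k y • x = k (k w • y) • x by rw [hkadd, mul_smul])
      (fun x => show k z • x = x by rw [hk0, one_smul])
      (fun x => show k ((k x)⁻¹ • z) • x = z by
        rw [← hkuniq _ (K.inv_mem (hkK x)) _ rfl, inv_smul_eq_iff, hkz])
  have hz0 : (0 : α) = z := rfl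
  have hadd : ∀ x y : α, x + y = k y • x := fun x y => rfl
  let mulf : α → α → α := fun x a => if ha : a = z then z else h a ha • x
  have hmne : ∀ (x a : α) (ha : a ≠ z), mulf x a = h a ha • x := fun x a ha => dif_neg ha
  have hmz : ∀ x : α, mulf x z = z := fun x => dif_pos rfl
  have hh1 : h e hze.symm = 1 :=
    (hhuniq 1 e hze.symm (one_smul H z) (one_smul H e)).symm
  have hcomp : ∀ (a c : α) (ha : a ≠ z) (hc : c ≠ z), ∃ hac : h c hc • a ≠ z,
      h (h c hc • a) hac = h c hc * h a ha := by
    intro a c ha hc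
    have hne : h c hc • a ≠ z := fun e' => ha (MulAction.injective (h c hc) (e'.trans (hhz c hc).symm))
    exact ⟨hne, (hhuniq _ _ hne (by rw [mul_smul, hhz, hhz]) (by rw [mul_smul, hhe])).symm⟩
  letI mon : Monoid α :=
    { mul := mulf
      one := e
      mul_assoc := fun x a c => show mulf (mulf x a) c = mulf x (mulf a c) by
        by_cases hc : c = z
        · rw [hc, hmz, hmz, hmz]
        by_cases ha : a = z
        · have : mulf z c = z := by rw [hmne _ _ hc, hhz]
          rw [ha, hmz, this, hmz]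
        obtain ⟨hac, hcmp⟩ := hcomp a c ha hc
        rw [hmne _ _ hc, hmne _ _ ha, hmne a c hc, hmne x _ hac, hcmp, mul_smul]
      one_mul := fun a => show mulf e a = a by
        by_cases ha : a = z
        · rw [ha, hmz]
        · rw [hmne _ _ ha, hhe]
      mul_one := fun a => show mulf a e = a by rw [hmne _ _ hze.symm, hh1, one_smul] }
  have hmul : ∀ x a : α, x * a = mulf x a := fun x a => rfl
  let nf : Cfsg.NearField α :=
    { toAddGroup := addg, toMonoid := mon
      right_distrib := fun x y c => by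
        rw [hmul, hmul, hmul, hadd, hadd]
        by_cases hc : c = z
        · rw [hc, hmz, hmz, hmz, hk0, one_smul]
        rw [hmne _ _ hc, hmne _ _ hc, hmne _ _ hc]
        have : k (h c hc • y) = h c hc * k y * (h c hc)⁻¹ := (hkuniq _ (hKn.conj_mem _ (hkK y) _) _
          (by rw [mul_smul, mul_smul, inv_smul_eq_iff.mpr (hhz c hc).symm, hkz])).symm
        rw [this, mul_smul, mul_smul, inv_smul_smul]
      mul_zero := fun a => hmz a
      zero_ne_one := hze
      exists_inv := fun a ha => by
        change a ≠ z at ha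
        have hne : (h a ha)⁻¹ • e ≠ z := fun e' =>
          hze ((hhz a ha).symm.trans (inv_smul_eq_iff.mp e').symm)
        have hinv : h _ hne = (h a ha)⁻¹ :=
          (hhuniq _ _ hne (inv_smul_eq_iff.mpr (hhz a ha).symm) rfl).symm
        refine ⟨(h a ha)⁻¹ • e, ?_, ?_⟩
        · show mulf a _ = e
          rw [hmne _ _ hne, hinv, inv_smul_eq_iff, hhe]
        · show mulf _ a = e
          rw [hmne _ _ ha, smul_inv_smul] }
  refine ⟨nf, fun σ => ⟨fun hσ => ?_, ?_⟩⟩
  · set g : H := ⟨σ, hσ⟩
    set b := g • z with hb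
    have h1 : ((k b)⁻¹ * g) • z = z := by rw [mul_smul, ← hb, inv_smul_eq_iff, hkz]
    have hane : ((k b)⁻¹ * g) • e ≠ z := fun e' =>
      hze (MulAction.injective ((k b)⁻¹ * g) (e'.trans h1.symm)).symm
    refine ⟨((k b)⁻¹ * g) • e, b, hane, fun x => ?_⟩
    show g • x = k b • mulf x _
    rw [hmne _ _ hane, ← hhuniq _ _ hane h1 rfl, ← mul_smul, mul_inv_cancel_left]
  · rintro ⟨a, b, ha, hσ⟩
    have : σ = ((k b * h a ha : H) : Equiv.Perm α) := by
      refine Equiv.ext fun x => ?_
      rw [hσ x]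
      show k b • mulf x a = (k b * h a ha) • x
      rw [hmne _ _ ha, mul_smul]
    rw [this]
    exact (k b * h a ha).2

end Cfsg.Agent.S0683
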