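import Cfsg.Statements.S0684
import Cfsg.Agent.Lib.SmallGroups.LinearRegular
import Mathlib

set_option autoImplicit false
open Cfsg

namespace Cfsg.Agent.S0684

/-- Point stabiliser of a sharply doubly transitive group not of semilinear type: a maximal normal abelian subgroup `A` of a linear group `H` that is regular on non-zero vectors and has no irreducible cyclic normal subgroup is cyclic and reducible, and the order of `A` divides `p ^ k - 1` for `k` the dimension of a minimal `A`-invariant subspace. -/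
theorem result {p : ℕ} [Fact p.Prime] {V : Type*} [AddCommGroup V] [Module (ZMod p) V] [Finite V] (H : Subgroup (V ≃ₗ[ZMod p] V)) (hreg : ∀ v w : V, v ≠ 0 → w ≠ 0 → ∃! h : H, (h : V ≃ₗ[ZMod p] V) v = w) (hI : ∀ A : Subgroup H, A.Normal → IsCyclic A → ∃ W : Submodule (ZMod p) V, W ≠ ⊥ ∧ W ≠ ⊤ ∧ ∀ a ∈ A, ∀ v ∈ W, ((a : H) : V ≃ₗ[ZMod p] V) v ∈ W) (A : Subgroup H) (hAn : A.Normal) (hAc : IsMulCommutative A) (hAmax : ∀ B : Subgroup H, B.Normal → IsMulCommutative B → A ≤ B → B = A) : IsCyclic A ∧ ∃ W : Submodule (ZMod p) V, W ≠ ⊥ ∧ W ≠ ⊤ ∧ (∀ a ∈ A, ∀ v ∈ W, ((a : H) : V ≃ₗ[ZMod p] V) v ∈ W) ∧ (∀ W' : Submodule (ZMod p) V, W' ≤ W → (∀ a ∈ A, ∀ v ∈ W', ((a : H) : V ≃ₗ[ZMod p] V) v ∈ W') → W' = ⊥ ∨ W' = W) ∧ Nat.card A ∣ p ^ Module.finrank (ZMod p) W - 1 := by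
  open CfsgLib.SmallGroups.LinearRegular in
  obtain ⟨W₁, hW₁⟩ : IsCyclic A ∧ ∃ W : Submodule (ZMod p) V, W ≠ ⊥ ∧ W ≠ ⊤ ∧ Inv A W ∧
      (∀ W' : Submodule (ZMod p) V, W' ≤ W → Inv A W' → W' = ⊥ ∨ W' = W) := by
    obtain ⟨W₀, hW₀, hW₀A, hmin⟩ : ∃ W : Submodule (ZMod p) V, W ≠ ⊥ ∧ Inv A W ∧
        ∀ W' : Submodule (ZMod p) V, W' ≤ W → Inv A W' → W' = ⊥ ∨ W' = W := by
      have hnt : (⊤ : Submodule (ZMod p) V) ≠ ⊥ := by
        intro h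
        obtain ⟨W, hW, hW', -⟩ := hI ⊥ inferInstance inferInstance
        exact hW (le_bot_iff.mp (h ▸ le_top))
      obtain ⟨W, hW, hmin⟩ := wellFounded_lt.has_min
        {W : Submodule (ZMod p) V | W ≠ ⊥ ∧ Inv A W} ⟨⊤, hnt, fun _ _ _ _ => trivial⟩
      refine ⟨W, hW.1, hW.2, fun W' hle hA => ?_⟩
      by_cases h0 : W' = ⊥
      · exact Or.inl h0
      · exact Or.inr ((eq_or_lt_of_le hle).resolve_right fun hlt => hmin W' ⟨h0, hA⟩ hlt)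
    have hc : IsCyclic A := isCyclic_of_minimal hreg A hAc W₀ hW₀ hW₀A hmin
    exact ⟨hc, exists_minimal A (hI A hAn hc)⟩
  obtain ⟨W, hW0, hWt, hWA, hmin⟩ := hW₁
  exact ⟨W₁, W, hW0, hWt, hWA, hmin, CfsgLib.SmallGroups.LinearRegular.card_dvd hreg A W hWA⟩

end Cfsg.Agent.S0684
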