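import Cfsg.Statements.S0685
import Cfsg.Agent.Lib.SmallGroups.LinearRegular
import Mathlib

set_option autoImplicit false
open Cfsg

namespace Cfsg.Agent.S0685

/-- In a linear group over the prime field that is regular on non-zero vectors and has no irreducible cyclic normal subgroup, a maximal normal abelian subgroup is properly contained in its centraliser, which is non-abelian. -/
theorem result {p : ℕ} [Fact p.Prime] {V : Type*} [AddCommGroup V] [Module (ZMod p) V] [Finite V] (H : Subgroup (V ≃ₗ[ZMod p] V)) (hreg : ∀ v w : V, v ≠ 0 → w ≠ 0 → ∃! h : H, (h : V ≃ₗ[ZMod p] V) v = w) (hI : ∀ A : Subgroup H, A.Normal → IsCyclic A → ∃ W : Submodule (ZMod p) V, W ≠ ⊥ ∧ W ≠ ⊤ ∧ ∀ a ∈ A, ∀ v ∈ W, ((a : H) : V ≃ₗ[ZMod p] V) v ∈ W) (A : Subgroup H) (hAn : A.Normal) (hAc : IsMulCommutative A) (hAmax : ∀ B : Subgroup H, B.Normal → IsMulCommutative B → A ≤ B → B = A) : A < Subgroup.centralizer (A : Set H) ∧ ¬ IsMulCommutative (Subgroup.centralizer (A : Set H)) := by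
  open CfsgLib.SmallGroups.LinearRegular in
  classical
  have hle : A ≤ Subgroup.centralizer (A : Set H) := fun x hx =>
    Subgroup.mem_centralizer_iff.mpr fun y hy => congrArg Subtype.val
      (hAc.is_comm.comm (⟨y, hy⟩ : A) ⟨x, hx⟩)
  haveI := hAn
  have hne : Subgroup.centralizer (A : Set H) ≠ A := by
    intro hC
    obtain ⟨W₀, hW₀, hW₀A, hmin₀⟩ : ∃ W : Submodule (ZMod p) V, W ≠ ⊥ ∧ Inv A W ∧
        ∀ W' : Submodule (ZMod p) V, W' ≤ W → Inv A W' → W' = ⊥ ∨ W' = W := by
      have hnt : (⊤ : Submodule (ZMod p) V) ≠ ⊥ := by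
        intro h
        obtain ⟨W, hW, hW', -⟩ := hI ⊥ inferInstance inferInstance
        exact hW (le_bot_iff.mp (h ▸ le_top))
      obtain ⟨W, hW, hmin⟩ := wellFounded_lt.has_min
        {W : Submodule (ZMod p) V | W ≠ ⊥ ∧ Inv A W} ⟨⊤, hnt, fun _ _ _ _ => trivial⟩
      refine ⟨W, hW.1, hW.2, fun W' hle hA => ?_⟩
      by_cases h0 : W' = ⊥
      · exact Or.inl h0
      · exact Or.inr ((eq_or_lt_of_le hle).resolve_right fun hlt => hmin W' ⟨h0, hA⟩ hlt)
    have hc : IsCyclic A := isCyclic_of_minimal hreg A hAc W₀ hW₀ hW₀A hmin₀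
    obtain ⟨W, hW0, hWt, hWA, hmin⟩ := exists_minimal A (hI A hAn hc)
    obtain ⟨w, hw, hw0⟩ := Submodule.exists_mem_ne_zero_of_ne_bot hW0
    obtain ⟨v, hv⟩ : ∃ v, v ∉ W := by
      by_contra h
      push Not at h
      exact hWt (eq_top_iff.mpr fun v _ => h v)
    obtain ⟨g, hg, -⟩ := hreg w v hw0 (fun h => hv (h ▸ W.zero_mem))
    set W' := W.map ((g : V ≃ₗ[ZMod p] V) : V →ₗ[ZMod p] V) with hW'
    have hW'A : Inv A W' := by
      rintro a ha _ ⟨x, hx, rfl⟩
      have hmem : g⁻¹ * a * g ∈ A := by simpa using hAn.conj_mem a ha g⁻¹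
      refine ⟨_, hWA _ hmem x hx, ?_⟩
      show (g : V ≃ₗ[ZMod p] V) (((g⁻¹ * a * g : H) : V ≃ₗ[ZMod p] V) x) =
        ((a : H) : V ≃ₗ[ZMod p] V) ((g : V ≃ₗ[ZMod p] V) x)
      rw [← LinearEquiv.mul_apply, ← LinearEquiv.mul_apply, ← Subgroup.coe_mul, ← Subgroup.coe_mul,
        show g * (g⁻¹ * a * g) = a * g by group]
    have hfr : Module.finrank (ZMod p) W' = Module.finrank (ZMod p) W :=
      LinearEquiv.finrank_map_eq (g : V ≃ₗ[ZMod p] V) W
    have hinf : W ⊓ W' = ⊥ := by
      rcases hmin (W ⊓ W') inf_le_left (fun a ha x hx => ⟨hWA a ha x hx.1, hW'A a ha x hx.2⟩) with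
        h | h
      · exact h
      · exact absurd ((Submodule.eq_of_le_of_finrank_le (inf_eq_left.mp h) hfr.le).symm ▸
          (⟨w, hw, hg⟩ : v ∈ W')) hv
    have h2k := Submodule.finrank_sup_add_finrank_inf_eq W W'
    rw [hinf, finrank_bot, hfr, add_zero] at h2k
    have hlek := Submodule.finrank_le (W ⊔ W')
    haveI : Finite (V ≃ₗ[ZMod p] V) := Finite.of_injective _ DFunLike.coe_injective
    obtain ⟨a, ha⟩ := hc.exists_generator
    let f : H → A := fun x => ⟨x * a * x⁻¹, hAn.conj_mem _ a.2 x⟩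
    have hsec : ∀ x : H, (Function.invFun f (f x))⁻¹ * x ∈ A := by
      intro x
      have he : f (Function.invFun f (f x)) = f x := Function.invFun_eq ⟨x, rfl⟩
      have he' : Function.invFun f (f x) * a * (Function.invFun f (f x))⁻¹ = x * a * x⁻¹ :=
        congrArg Subtype.val he
      set y := Function.invFun f (f x)
      have hya : (y⁻¹ * x) * a * (y⁻¹ * x)⁻¹ = (a : H) := by
        calc (y⁻¹ * x) * a * (y⁻¹ * x)⁻¹ = y⁻¹ * (x * a * x⁻¹) * y := by group
          _ = _ := by rw [← he']; group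
      rw [← hC, Subgroup.mem_centralizer_iff]
      intro b hb
      obtain ⟨m, hm⟩ := Subgroup.mem_zpowers_iff.mp (ha ⟨b, hb⟩)
      have hb' : b = (a : H) ^ m := by rw [← Subgroup.coe_zpow, hm]
      subst hb'
      exact ((Commute.zpow_left (mul_inv_eq_iff_eq_mul.mp hya).symm m)).eq
    have hbound : Nat.card H ≤ Nat.card A * Nat.card A := by
      rw [← Nat.card_prod]
      refine Nat.card_le_card_of_injective
        (fun x => (f x, (⟨_, hsec x⟩ : A))) fun x y hxy => ?_
      have h1 : f x = f y := congrArg Prod.fst hxy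
      have h2 : (Function.invFun f (f x))⁻¹ * x = (Function.invFun f (f y))⁻¹ * y :=
        congrArg (fun z => ((z : A × A).2 : H)) hxy
      rw [h1] at h2
      exact mul_left_cancel h2
    haveI : Nontrivial V := ⟨⟨w, 0, hw0⟩⟩
    have hH := (card_add_one hreg).resolve_right (not_subsingleton V)
    rw [Module.natCard_eq_pow_finrank (K := ZMod p) (V := V), Nat.card_zmod] at hH
    have hA := Nat.le_of_dvd (by
      have hk : 1 ≤ Module.finrank (ZMod p) W := by
        by_contra h
        exact hW0 (Submodule.finrank_eq_zero.mp (by omega))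
      have := Nat.one_lt_pow (by omega : Module.finrank (ZMod p) W ≠ 0)
        (Fact.out : p.Prime).one_lt
      omega) (card_dvd hreg A W hWA)
    have hpk : p ^ (Module.finrank (ZMod p) W + Module.finrank (ZMod p) W) ≤
        p ^ Module.finrank (ZMod p) V := Nat.pow_le_pow_right (Fact.out : p.Prime).pos (by omega)
    rw [pow_add] at hpk
    have hA1 : 0 < Nat.card A := Nat.card_pos
    have hA2 : Nat.card A + 1 ≤ p ^ Module.finrank (ZMod p) W := by omega
    nlinarith [Nat.mul_le_mul hA2 hA2]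
  refine ⟨lt_of_le_of_ne hle (Ne.symm hne), fun hcomm => hne ?_⟩
  exact hAmax _ inferInstance hcomm hle

end Cfsg.Agent.S0685
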