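import Cfsg.Statements.S0690
import Cfsg.Agent.Lib.Icosa.Complement

set_option autoImplicit false
open Cfsg

open scoped Pointwise

open scoped commutatorElement

namespace Cfsg.Agent.S0690

/-- Zassenhaus: a perfect non-trivial group of fixed-point-free automorphisms of a finite group is isomorphic to `SL(2,5)`. -/
theorem result {K : Type*} [Group K] [Finite K] (G : Subgroup (MulAut K)) (hfpf : ∀ φ ∈ G, φ ≠ 1 → ∀ k : K, φ k = k → k = 1) (hperf : commutator G = ⊤) (hne : G ≠ ⊥) : Nonempty (G ≃* Matrix.SpecialLinearGroup (Fin 2) (ZMod 5)) := by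
  have : Finite (MulAut K) := Finite.of_injective _ DFunLike.coe_injective
  have hGnt : Nontrivial G := (Subgroup.nontrivial_iff_ne_bot G).2 hne
  have hKnt : Nontrivial K := by
    by_contra hK
    rw [not_nontrivial_iff_subsingleton] at hK
    exact hne ((Subgroup.eq_bot_iff_forall G).2 fun φ _ => MulEquiv.ext fun k => Subsingleton.elim _ _)
  have hns : ¬ Group.IsSolvable G := fun hs => by
    have := hs
    exact absurd hperf (ne_of_lt (Group.IsSolvable.commutator_lt_top_of_nontrivial G))
  obtain ⟨S, M, hS, hM, ⟨e⟩, hcop, hZ, hinf, hcomm, hidx⟩ :=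
    CfsgLib.Icosa.complement_structure hns (CfsgLib.Icosa.exists_complement_of_aut G hfpf)
  have := hS
  have := hM
  have := hZ
  have htop : S ⊔ M = ⊤ := by
    by_contra hne2
    have h2 : (S ⊔ M).index = 2 := by
      have := Subgroup.index_ne_zero_of_finite (H := S ⊔ M)
      have : (S ⊔ M).index ≠ 1 := fun h1 => hne2 (Subgroup.index_eq_one.1 h1)
      omega
    have hcm : IsCyclic (G ⧸ (S ⊔ M)) := isCyclic_of_prime_card (p := 2) (by rw [← Subgroup.index_eq_card, h2])
    have h3 : commutator G ≤ S ⊔ M := by
      rw [← QuotientGroup.ker_mk' (S ⊔ M), commutator_def, Subgroup.commutator_le]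
      intro x _ y _
      rw [MonoidHom.mem_ker, map_commutatorElement, commutatorElement_eq_one_iff_mul_comm]
      exact IsCyclic.commGroup.mul_comm _ _
    rw [hperf, top_le_iff] at h3
    exact hne2 h3
  let f : M →* G ⧸ S := (QuotientGroup.mk' S).comp M.subtype
  have hf : Function.Surjective f := by
    intro q
    obtain ⟨g, rfl⟩ := QuotientGroup.mk'_surjective S q
    obtain ⟨s, hs, x, hx, rfl⟩ := Subgroup.mem_sup_of_normal_right.1 (htop ▸ Subgroup.mem_top g)
    refine ⟨⟨x, hx⟩, ?_⟩
    show QuotientGroup.mk' S x = _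
    rw [map_mul, (QuotientGroup.eq_one_iff s).2 hs |> fun h => show QuotientGroup.mk' S s = 1 from h, one_mul]
  have : Group.IsSolvable (G ⧸ S) := Group.isSolvable_of_surjective hf
  have hST : S = ⊤ := by
    by_contra hne2
    have : Nontrivial (G ⧸ S) := by
      rw [← Finite.one_lt_card_iff_nontrivial, ← Subgroup.index_eq_card]
      have := Subgroup.index_ne_zero_of_finite (H := S)
      have : S.index ≠ 1 := fun h1 => hne2 (Subgroup.index_eq_one.1 h1)
      omega
    have h4 : commutator (G ⧸ S) = ⊤ := by
      rw [commutator_def, ← Subgroup.map_top_of_surjective _ (QuotientGroup.mk'_surjective S),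
        ← Subgroup.map_commutator, ← commutator_def, hperf]
    exact absurd h4 (ne_of_lt (Group.IsSolvable.commutator_lt_top_of_nontrivial _))
  exact ⟨(Subgroup.topEquiv.symm.trans (MulEquiv.subgroupCongr hST.symm)).trans e⟩

end Cfsg.Agent.S0690
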