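import Cfsg.Statements.S0686
import Cfsg.Agent.Lib.SmallGroups.LinearRegularNormal
import Cfsg.Agent.S0690

set_option autoImplicit false
open Cfsg

namespace Cfsg.Agent.S0686

open scoped commutatorElement

/-- In a linear group over the prime field that is regular on non-zero vectors and has no irreducible cyclic normal subgroup, let `A` be a maximal normal abelian subgroup and `N` a normal subgroup centralising `A` that is minimal among non-abelian normal subgroups centralising `A`. Then `N` is quaternion of order 8 or isomorphic to `SL(2,5)`. -/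
theorem result {p : ℕ} [Fact p.Prime] {V : Type*} [AddCommGroup V] [Module (ZMod p) V] [Finite V] (H : Subgroup (V ≃ₗ[ZMod p] V)) (hreg : ∀ v w : V, v ≠ 0 → w ≠ 0 → ∃! h : H, (h : V ≃ₗ[ZMod p] V) v = w) (hI : ∀ A : Subgroup H, A.Normal → IsCyclic A → ∃ W : Submodule (ZMod p) V, W ≠ ⊥ ∧ W ≠ ⊤ ∧ ∀ a ∈ A, ∀ v ∈ W, ((a : H) : V ≃ₗ[ZMod p] V) v ∈ W) (A : Subgroup H) (hAn : A.Normal) (hAc : IsMulCommutative A) (hAmax : ∀ B : Subgroup H, B.Normal → IsMulCommutative B → A ≤ B → B = A) (N : Subgroup H) (hNn : N.Normal) (hNle : N ≤ Subgroup.centralizer (A : Set H)) (hNna : ¬ IsMulCommutative N) (hNmin : ∀ M : Subgroup H, M.Normal → M ≤ N → ¬ IsMulCommutative M → M = N) : Nonempty (N ≃* QuaternionGroup 2) ∨ Nonempty (N ≃* Matrix.SpecialLinearGroup (Fin 2) (ZMod 5)) := by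
  classical
  haveI : Finite (V ≃ₗ[ZMod p] V) := Finite.of_injective _ DFunLike.coe_injective
  haveI : Nontrivial V := by
    obtain ⟨W, hW, -⟩ := hI ⊥ inferInstance inferInstance
    by_contra h
    rw [not_nontrivial_iff_subsingleton] at h
    exact hW (Subsingleton.elim _ _)
  haveI := hNn
  haveI := hAn
  set D : Subgroup H := (commutator N).map N.subtype with hD
  haveI hDn : D.Normal := by
    rw [hD]; infer_instance
  have hDle : D ≤ N := Subgroup.map_subtype_le _
  by_cases hDab : IsMulCommutative D
  · -- class two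
    left
    refine CfsgLib.SmallGroups.LinearRegular.quaternion_of_class_two hreg N hNna ?_ hNmin
    have hcomm : ∀ x ∈ D, ∀ a ∈ A, a * x = x * a := fun x hx a ha =>
      Subgroup.mem_centralizer_iff.mp (hNle (hDle hx)) a ha
    haveI : IsMulCommutative (A ⊔ D : Subgroup H) := by
      rw [Subgroup.sup_eq_closure]
      refine Subgroup.isMulCommutative_closure fun x hx y hy => ?_
      rcases hx with hx | hx <;> rcases hy with hy | hy
      · exact congrArg Subtype.val (hAc.is_comm.comm (⟨x, hx⟩ : A) ⟨y, hy⟩)
      · exact hcomm y hy x hx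
      · exact (hcomm x hx y hy).symm
      · exact congrArg Subtype.val (hDab.is_comm.comm (⟨x, hx⟩ : D) ⟨y, hy⟩)
    have hDA : D ≤ A := le_sup_right.trans (hAmax _ inferInstance this le_sup_left).le
    intro x y z
    have h : ((⁅x, y⁆ : N) : H) ∈ A := hDA (Subgroup.mem_map_of_mem _
      (Subgroup.commutator_mem_commutator (Subgroup.mem_top x) (Subgroup.mem_top y)))
    exact Subtype.ext (Subgroup.mem_centralizer_iff.mp (hNle z.2) _ h)
  · -- perfect
    right
    have hperf : commutator N = ⊤ := by
      apply Subgroup.map_injective N.subtype_injective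
      rw [← hD, hNmin D hDn hDle hDab, ← MonoidHom.range_eq_map, Subgroup.range_subtype]
    let f : N →* MulAut (Multiplicative V) := MonoidHom.mk'
      (fun n => AddEquiv.toMultiplicative ((n : H) : V ≃ₗ[ZMod p] V).toAddEquiv)
      fun m n => MulEquiv.ext fun v => rfl
    have hf : Function.Injective f := fun m n h => Subtype.ext (Subtype.ext (LinearEquiv.ext fun v =>
      congrArg (fun φ : MulAut (Multiplicative V) =>
        Multiplicative.toAdd (φ (Multiplicative.ofAdd v))) h))
    have hne : f.range ≠ ⊥ := by
      intro h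
      rw [MonoidHom.range_eq_bot_iff] at h
      exact hNna ⟨⟨fun x y => hf (by rw [h]; rfl)⟩⟩
    have hperf' : commutator f.range = ⊤ := by
      rw [commutator_def, ← Subgroup.map_top_of_surjective f.rangeRestrict f.rangeRestrict_surjective,
        ← Subgroup.map_commutator, ← commutator_def, hperf]
    obtain ⟨e⟩ := Cfsg.Agent.S0690.result f.range (by
      rintro _ ⟨n, rfl⟩ hn v hv
      by_contra hv1
      refine hn ?_
      rw [show n = 1 from Subtype.ext (CfsgLib.SmallGroups.LinearRegular.eq_one_of_fix hreg
        (v := Multiplicative.toAdd v) (fun h => hv1 (Multiplicative.toAdd.injective h))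
        (congrArg Multiplicative.toAdd hv)), map_one]) hperf' hne
    exact ⟨(MonoidHom.ofInjective hf).trans e⟩

end Cfsg.Agent.S0686
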