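import Cfsg.Statements.S0691
import Cfsg.Agent.Lib.SmallGroups.MatCert

set_option autoImplicit false
open Cfsg

namespace Cfsg.Agent.S0691

open CfsgLib.SmallGroups

/-- BFS certificate: the `i`-th matrix is the product of an earlier one and a generator. -/
def cert : List (ℕ × ℕ) :=
  [(0,0), (0,1), (0,2), (1,0), (1,1), (1,2), (2,0), (2,2), (3,0), (3,2), (4,0), (4,1),
    (4,2), (5,2), (6,2), (8,0), (8,2), (9,1), (9,2), (13,2), (14,2), (16,2), (18,2)]

theorem good : MatCert.Good 5 [(2, 0, 0, 3), (0, 4, 1, 0), (1, 2, 1, 3)] 1 1 (MatCert.buildList 5 [(2, 0, 0, 3), (0, 4, 1, 0), (1, 2, 1, 3)] cert) := by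
  decide +kernel

/-- An exceptional sharply doubly transitive group of degree 5^2: the listed matrices generate a subgroup of GL(2,5) of order 24 acting regularly on the non-zero vectors. -/
theorem result (A : Matrix.GeneralLinearGroup (Fin 2) (ZMod 5)) (B : Matrix.GeneralLinearGroup (Fin 2) (ZMod 5)) (C : Matrix.GeneralLinearGroup (Fin 2) (ZMod 5)) (hA : (A : Matrix (Fin 2) (Fin 2) (ZMod 5)) = !![2, 0; 0, -2]) (hB : (B : Matrix (Fin 2) (Fin 2) (ZMod 5)) = !![0, -1; 1, 0]) (hC : (C : Matrix (Fin 2) (Fin 2) (ZMod 5)) = !![1, 2; 1, -2]) : Nat.card (Subgroup.closure ({A, B, C} : Set (Matrix.GeneralLinearGroup (Fin 2) (ZMod 5)))) = 24 ∧ ∀ v w : Fin 2 → ZMod 5, v ≠ 0 → w ≠ 0 → ∃! h : Subgroup.closure ({A, B, C} : Set (Matrix.GeneralLinearGroup (Fin 2) (ZMod 5))), Matrix.mulVec ((h : Matrix.GeneralLinearGroup (Fin 2) (ZMod 5)) : Matrix (Fin 2) (Fin 2) (ZMod 5)) v = w := by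
  haveI : Fact (Nat.Prime 5) := ⟨by norm_num⟩
  have mA : (A : Matrix (Fin 2) (Fin 2) (ZMod 5)) = MatCert.toMat 5 (2,0,0,3) := by
    rw [hA]; decide
  have mB : (B : Matrix (Fin 2) (Fin 2) (ZMod 5)) = MatCert.toMat 5 (0,4,1,0) := by
    rw [hB]; decide
  have mC : (C : Matrix (Fin 2) (Fin 2) (ZMod 5)) = MatCert.toMat 5 (1,2,1,3) := by
    rw [hC]; decide
  have key := MatCert.regular_of_cert (p := 5) [(2, 0, 0, 3), (0, 4, 1, 0), (1, 2, 1, 3)] cert 1 1 good
    (Subgroup.closure ({A, B, C} : Set (Matrix.GeneralLinearGroup (Fin 2) (ZMod 5)))) _ rfl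
    (by
      intro s hs
      simp only [Set.mem_insert_iff, Set.mem_singleton_iff] at hs
      rcases hs with rfl | rfl | rfl
      · exact Or.inl ⟨_, by simp, mA⟩
      · exact Or.inl ⟨_, by simp, mB⟩
      · exact Or.inl ⟨_, by simp, mC⟩)
    (by
      intro g hg
      simp only [List.mem_cons, List.not_mem_nil, or_false] at hg
      rcases hg with rfl | rfl | rfl
      · exact ⟨A, by simp, mA⟩
      · exact ⟨B, by simp, mB⟩
      · exact ⟨C, by simp, mC⟩)
    (Or.inl rfl)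
  exact ⟨key.1.trans (by norm_num), key.2⟩

end Cfsg.Agent.S0691
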