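import Cfsg.Statements.S0692
import Cfsg.Agent.Lib.SmallGroups.MatCert

set_option autoImplicit false
open Cfsg

namespace Cfsg.Agent.S0692

open CfsgLib.SmallGroups

/-- BFS certificate: the `i`-th matrix is the product of an earlier one and a generator. -/
def cert : List (ℕ × ℕ) :=
  [(0,0), (0,1), (1,0), (1,1), (2,0), (2,1), (3,0), (3,1), (4,0), (4,1), (5,1), (6,0),
    (7,1), (8,0), (8,1), (9,1), (10,0), (11,0), (11,1), (12,1), (13,0), (13,1), (14,1), (15,0),
    (16,0), (16,1), (17,1), (18,1), (19,0), (20,0), (20,1), (21,1), (22,0), (23,0), (23,1), (24,1),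
    (25,1), (26,0), (27,0), (27,1), (28,1), (29,1), (30,1), (32,0), (32,1), (33,1), (34,1), (35,0),
    (36,0), (36,1), (37,1), (38,1), (39,1), (41,0), (42,0), (42,1), (43,1), (44,1), (45,0), (46,0),
    (46,1), (47,1), (48,1), (49,1), (51,0), (52,0), (52,1), (53,1), (54,1), (55,1), (57,0), (58,1),
    (59,1), (60,1), (62,0), (63,0), (63,1), (64,1), (65,1), (66,1), (68,0), (69,0), (69,1), (70,1),
    (71,1), (72,0), (73,0), (73,1), (74,1), (75,1), (76,1), (78,0), (79,0), (79,1), (80,1), (81,1),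
    (82,1), (84,0), (85,0), (86,1), (87,1), (90,0), (90,1), (91,1), (92,1), (95,0), (96,0), (97,1),
    (98,1), (99,1), (100,0), (100,1), (101,1), (105,0), (106,1), (107,1), (108,0), (109,0), (110,1)]

theorem good : MatCert.Good 11 [(0, 10, 1, 0), (2, 4, 1, 8)] 1 1 (MatCert.buildList 11 [(0, 10, 1, 0), (2, 4, 1, 8)] cert) := by
  decide +kernel

/-- An exceptional sharply doubly transitive group of degree 11^2: the listed matrices generate a subgroup of GL(2,11) of order 120 acting regularly on the non-zero vectors. -/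
theorem result (A : Matrix.GeneralLinearGroup (Fin 2) (ZMod 11)) (B : Matrix.GeneralLinearGroup (Fin 2) (ZMod 11)) (hA : (A : Matrix (Fin 2) (Fin 2) (ZMod 11)) = !![0, -1; 1, 0]) (hB : (B : Matrix (Fin 2) (Fin 2) (ZMod 11)) = !![2, 4; 1, -3]) : Nat.card (Subgroup.closure ({A, B} : Set (Matrix.GeneralLinearGroup (Fin 2) (ZMod 11)))) = 120 ∧ ∀ v w : Fin 2 → ZMod 11, v ≠ 0 → w ≠ 0 → ∃! h : Subgroup.closure ({A, B} : Set (Matrix.GeneralLinearGroup (Fin 2) (ZMod 11))), Matrix.mulVec ((h : Matrix.GeneralLinearGroup (Fin 2) (ZMod 11)) : Matrix (Fin 2) (Fin 2) (ZMod 11)) v = w := by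
  haveI : Fact (Nat.Prime 11) := ⟨by norm_num⟩
  have mA : (A : Matrix (Fin 2) (Fin 2) (ZMod 11)) = MatCert.toMat 11 (0,10,1,0) := by
    rw [hA]; decide
  have mB : (B : Matrix (Fin 2) (Fin 2) (ZMod 11)) = MatCert.toMat 11 (2,4,1,8) := by
    rw [hB]; decide
  have key := MatCert.regular_of_cert (p := 11) [(0, 10, 1, 0), (2, 4, 1, 8)] cert 1 1 good
    (Subgroup.closure ({A, B} : Set (Matrix.GeneralLinearGroup (Fin 2) (ZMod 11)))) _ rfl
    (by
      intro s hs
      simp only [Set.mem_insert_iff, Set.mem_singleton_iff] at hs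
      rcases hs with rfl | rfl
      · exact Or.inl ⟨_, by simp, mA⟩
      · exact Or.inl ⟨_, by simp, mB⟩)
    (by
      intro g hg
      simp only [List.mem_cons, List.not_mem_nil, or_false] at hg
      rcases hg with rfl | rfl
      · exact ⟨A, by simp, mA⟩
      · exact ⟨B, by simp, mB⟩)
    (Or.inl rfl)
  exact ⟨key.1.trans (by norm_num), key.2⟩

end Cfsg.Agent.S0692
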