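import Cfsg.Statements.S0694
import Mathlib

set_option autoImplicit false
open Cfsg

namespace Cfsg.Agent.S0694

open Finset

def gs (q : ℕ) (i : ℕ) : ℕ := ∑ k ∈ range i, q ^ k

theorem gs_add (q a b : ℕ) : gs q (a + b) = gs q a + q ^ a * gs q b := by
  simp only [gs, sum_range_add, mul_sum, pow_add]

theorem gs_mul (q a b : ℕ) : gs q (a * b) = gs q a * gs (q ^ a) b := by
  induction b with
  | zero => simp [gs]
  | succ b ih =>
    rw [Nat.mul_succ, gs_add, ih, gs_add (q ^ a) b 1, pow_mul, show gs (q ^ a) 1 = 1 by simp [gs]]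
    ring

theorem cast_gs {R : Type*} [CommSemiring R] {q : ℕ} (h : (q : R) = 1) (i : ℕ) :
    (gs q i : R) = i := by
  simp [gs, h]

/-- The last factor is divisible by `r` exactly once. -/
theorem gs_prime {Q r : ℕ} (hr : r.Prime) (h1 : (Q : ZMod r) = 1)
    (h2 : r = 2 → (Q : ZMod 4) = 1) : ∃ w, gs Q r = r * w ∧ ¬ r ∣ w := by
  haveI := Fact.mk hr
  obtain ⟨w, hw⟩ : r ∣ gs Q r := by
    rw [← ZMod.natCast_eq_zero_iff, cast_gs h1, ZMod.natCast_self]
  refine ⟨w, hw, fun hd => ?_⟩
  have hdd : r * r ∣ gs Q r := hw ▸ Nat.mul_dvd_mul_left r hd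
  rcases hr.eq_two_or_odd' with rfl | hodd
  · have h4 : ((gs Q 2 : ℕ) : ZMod 4) = 0 := (ZMod.natCast_eq_zero_iff _ 4).mpr hdd
    rw [cast_gs (h2 rfl)] at h4
    exact absurd h4 (by decide)
  · have hQ : 1 ≤ Q := Nat.one_le_iff_ne_zero.mpr fun e => by
      rw [e, Nat.cast_zero] at h1; exact zero_ne_one h1
    obtain ⟨u, hu⟩ : r ∣ Q - 1 := by
      rw [← ZMod.natCast_eq_zero_iff, Nat.cast_sub hQ, h1, Nat.cast_one, sub_self]
    have hR : (r : ZMod (r * r)) * r = 0 := by
      rw [← Nat.cast_mul, ZMod.natCast_self]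
    have hQ' : (Q : ZMod (r * r)) = 1 + r * u := by
      rw [show Q = 1 + r * u by omega]; push_cast; ring
    have hpow : ∀ j : ℕ, (1 + (r : ZMod (r * r)) * u) ^ j = 1 + j * (r * u) := by
      intro j
      induction j with
      | zero => simp
      | succ j ih =>
        rw [pow_succ, ih]
        push_cast
        linear_combination ((j : ZMod (r * r)) * u * u) * hR
    have hsum : ((gs Q r : ℕ) : ZMod (r * r)) = r := by
      obtain ⟨s, hs⟩ := hodd
      have hg : (∑ j ∈ range r, j) = r * s := by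
        have h := Finset.sum_range_id_mul_two r
        rw [show r - 1 = s * 2 by omega, ← mul_assoc] at h
        exact Nat.eq_of_mul_eq_mul_right (by norm_num) h
      simp only [gs, Nat.cast_sum, Nat.cast_pow, hQ', hpow, sum_add_distrib, sum_const,
        card_range, nsmul_eq_mul, mul_one, ← sum_mul]
      rw [← Nat.cast_sum, hg, Nat.cast_mul]
      linear_combination ((s : ZMod (r * r)) * u) * hR
    rw [(ZMod.natCast_eq_zero_iff _ _).mpr hdd, eq_comm,
      ZMod.natCast_eq_zero_iff] at hsum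
    have := Nat.le_of_dvd hr.pos hsum
    have := hr.two_le
    nlinarith

theorem pow_dvd_gs_iff {q r : ℕ} (hr : r.Prime) (h1 : (q : ZMod r) = 1)
    (h2 : r = 2 → (q : ZMod 4) = 1) : ∀ i e : ℕ, r ^ e ∣ gs q i ↔ r ^ e ∣ i := by
  intro i
  induction i using Nat.strong_induction_on with
  | _ i ih =>
  intro e
  rcases Nat.eq_zero_or_pos i with rfl | hi
  · simp [gs]
  rcases e with _ | e
  · simp
  by_cases hd : r ∣ i
  · obtain ⟨j, rfl⟩ := hd
    obtain ⟨w, hw, hnw⟩ := gs_prime (Q := q ^ j) hr (by rw [Nat.cast_pow, h1, one_pow])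
      (fun h => by rw [Nat.cast_pow, h2 h, one_pow])
    have hj : j < r * j := by
      have := hr.two_le
      have : 0 < j := Nat.pos_of_mul_pos_left hi
      nlinarith
    rw [mul_comm r j, gs_mul, hw, mul_comm j r, pow_succ', mul_left_comm,
      Nat.mul_dvd_mul_iff_left hr.pos, Nat.mul_dvd_mul_iff_left hr.pos,
      Nat.Coprime.dvd_mul_right ((hr.coprime_iff_not_dvd.mpr hnw).pow_left e), ih j hj]
  · have hg : ¬ r ∣ gs q i := by
      rwa [← ZMod.natCast_eq_zero_iff, cast_gs h1, ZMod.natCast_eq_zero_iff]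
    exact ⟨fun h => absurd ((dvd_pow_self r e.succ_ne_zero).trans h) hg,
      fun h => absurd ((dvd_pow_self r e.succ_ne_zero).trans h) hd⟩

/-- The Dickson pair condition: for a prime power `q` and `n > 1`, (every prime factor of `n` divides `q - 1`, and `4 ∣ n → 4 ∣ q - 1`) holds exactly when `q ^ n ≡ 1` modulo `n * (q - 1)` but `q ^ i` is not, for `0 < i < n`. -/
theorem result (q n : ℕ) (hq : IsPrimePow q) (hn : 1 < n) : ((∀ r : ℕ, r.Prime → r ∣ n → r ∣ q - 1) ∧ (4 ∣ n → 4 ∣ q - 1)) ↔ (q ^ n ≡ 1 [MOD n * (q - 1)] ∧ ∀ i : ℕ, 0 < i → i < n → ¬ q ^ i ≡ 1 [MOD n * (q - 1)]) := by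
  have hq2 : 2 ≤ q := hq.two_le
  obtain ⟨t, rfl⟩ : ∃ t, q = t + 1 := ⟨q - 1, by omega⟩
  simp only [Nat.add_sub_cancel]
  have ht : 0 < t := by omega
  have hiff : ∀ i, (t + 1) ^ i ≡ 1 [MOD n * t] ↔ n ∣ gs (t + 1) i := by
    intro i
    have h : gs (t + 1) i * t + 1 = (t + 1) ^ i := geom_sum_mul_add t i
    rw [Nat.ModEq.comm, Nat.modEq_iff_dvd' (Nat.one_le_pow _ _ (by omega)), ← h,
      Nat.add_sub_cancel, Nat.mul_dvd_mul_iff_right ht]
  simp only [hiff]
  constructor
  · rintro ⟨hr, h4⟩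
    have key : ∀ i, n ∣ gs (t + 1) i ↔ n ∣ i := by
      intro i
      have step : ∀ r e : ℕ, r.Prime → r ^ e ∣ n → (r ^ e ∣ gs (t + 1) i ↔ r ^ e ∣ i) := by
        intro r e hrp he
        rcases Nat.eq_zero_or_pos e with rfl | hepos
        · simp
        have hrn : r ∣ n := (dvd_pow_self r hepos.ne').trans he
        have h1 : ((t + 1 : ℕ) : ZMod r) = 1 := by
          rw [Nat.cast_add, (ZMod.natCast_eq_zero_iff _ _).mpr (hr r hrp hrn)]; simp
        by_cases h2 : r = 2 → ((t + 1 : ℕ) : ZMod 4) = 1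
        · exact pow_dvd_gs_iff hrp h1 h2 i e
        · obtain ⟨rfl, h2⟩ := Classical.not_imp.mp h2
          have he1 : e = 1 := by
            by_contra hne
            refine h2 ?_
            have h4n : 4 ∣ n := (pow_dvd_pow 2 (show 2 ≤ e by omega)).trans he
            rw [Nat.cast_add, (ZMod.natCast_eq_zero_iff _ _).mpr (h4 h4n)]; simp
          subst he1
          rw [pow_one, ← ZMod.natCast_eq_zero_iff, cast_gs h1, ZMod.natCast_eq_zero_iff]
      constructor
      · intro h
        rw [Nat.dvd_iff_prime_pow_dvd_dvd]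
        exact fun r e hrp he => (step r e hrp he).mp (he.trans h)
      · intro h
        rw [Nat.dvd_iff_prime_pow_dvd_dvd]
        exact fun r e hrp he => (step r e hrp he).mpr (he.trans h)
    simp only [key]
    exact ⟨dvd_rfl, fun i hi hin h => absurd (Nat.le_of_dvd hi h) (by omega)⟩
  · rintro ⟨hn', hmin⟩
    haveI : NeZero n := ⟨by omega⟩
    have hcop : Nat.Coprime (t + 1) n := by
      refine Nat.coprime_of_dvd' fun r hrp hrq hrn => ?_
      have h := hrn.trans hn'
      rw [show n = 1 + (n - 1) by omega, gs_add, pow_one] at h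
      have h1 : gs (t + 1) 1 = 1 := by simp [gs]
      rw [h1, Nat.dvd_add_left (hrq.mul_right _)] at h
      exact h
    have hinj : Function.Injective fun i : Fin n => ((gs (t + 1) i : ℕ) : ZMod n) := by
      suffices key : ∀ i j : ℕ, i ≤ j → j < n →
          ((gs (t + 1) i : ℕ) : ZMod n) = (gs (t + 1) j : ℕ) → i = j by
        intro i j h
        rcases le_total (i : ℕ) j with hle | hle
        · exact Fin.ext (key _ _ hle j.2 h)
        · exact Fin.ext (key _ _ hle i.2 h.symm).symm
      intro i j hij hj h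
      by_contra hne
      refine hmin (j - i) (by omega) (by omega) ?_
      obtain ⟨d, rfl⟩ : ∃ d, j = i + d := ⟨j - i, by omega⟩
      rw [Nat.add_sub_cancel_left]
      rw [gs_add, Nat.cast_add, eq_comm, add_eq_left, ZMod.natCast_eq_zero_iff] at h
      exact (Nat.Coprime.pow_left i hcop).symm.dvd_of_dvd_mul_left h
    have hsurj : ∀ r : ℕ, r ∣ n → ∀ x : ZMod r, ∃ i : ℕ, (gs (t + 1) i : ZMod r) = x := by
      intro r hrn x
      obtain ⟨y, rfl⟩ := ZMod.castHom_surjective hrn x
      obtain ⟨i, hi⟩ := (hinj.bijective_of_nat_card_le (by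
        rw [Nat.card_zmod, Nat.card_fin])).2 y
      exact ⟨i, by rw [← hi]; simp⟩
    have hrec : ∀ (R : Type) [CommRing R] (i : ℕ),
        (gs (t + 1) (i + 1) : R) = 1 + ((t : R) + 1) * gs (t + 1) i := by
      intro R _ i
      rw [show i + 1 = 1 + i by omega, gs_add]
      simp [gs]
    refine ⟨fun r hrp hrn => ?_, fun h4n => ?_⟩
    · haveI := Fact.mk hrp
      by_contra hrt
      have ht0 : (t : ZMod r) ≠ 0 := fun h => hrt ((ZMod.natCast_eq_zero_iff _ _).mp h)
      obtain ⟨i, hi⟩ := hsurj r hrn (-(t : ZMod r)⁻¹)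
      have hall : ∀ i, (gs (t + 1) i : ZMod r) ≠ -(t : ZMod r)⁻¹ := by
        intro i
        induction i with
        | zero => simp [gs, ht0]
        | succ i ih =>
          intro h
          rw [hrec] at h
          have hq0 : ((t : ZMod r) + 1) ≠ 0 := by
            intro e
            have hd : r ∣ t + 1 := by
              rw [← ZMod.natCast_eq_zero_iff]; push_cast; exact e
            exact hrp.not_dvd_one (hcop ▸ Nat.dvd_gcd hd hrn)
          refine ih (mul_left_cancel₀ hq0 ?_)
          linear_combination h + mul_inv_cancel₀ ht0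
      exact hall i hi
    · obtain ⟨i, hi⟩ := hsurj 4 h4n 2
      by_contra ht4
      have hodd : (t : ZMod 4) = 2 := by
        have h2 : ¬ 2 ∣ t + 1 := fun h =>
          Nat.prime_two.not_dvd_one (hcop ▸ Nat.dvd_gcd h ((by norm_num : 2 ∣ 4).trans h4n))
        rw [show (2 : ZMod 4) = ((2 : ℕ) : ZMod 4) by norm_num, ZMod.natCast_eq_natCast_iff']
        omega
      have hall : ∀ i, (gs (t + 1) i : ZMod 4) = 0 ∨ (gs (t + 1) i : ZMod 4) = 1 := by
        intro i
        induction i with
        | zero => simp [gs]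
        | succ i ih =>
          rw [hrec, hodd]
          rcases ih with e | e <;> rw [e] <;> decide
      rcases hall i with e | e <;> rw [e] at hi <;> exact absurd hi (by decide)

end Cfsg.Agent.S0694
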