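import Cfsg.Statements.S0695
import Mathlib
import Cfsg.Agent.Lib.SmallGroups.RegularNormal

set_option autoImplicit false
open Cfsg

namespace Cfsg.Agent.S0695

/-- A regular normal subgroup of a doubly primitive group of finite degree at least 2 is an elementary abelian 2-group (and the degree is a power of 2), unless the degree is 3. -/
theorem result {G : Type*} [Group G] {X : Type*} [Fintype X] [MulAction G X] (hX : 2 ≤ Fintype.card X) (h2 : MulAction.IsMultiplyPreprimitive G X 2) (N : Subgroup G) [N.Normal] (htrans : MulAction.IsPretransitive N X) (hreg : ∀ x : X, MulAction.stabilizer N x = ⊥) : Fintype.card X = 3 ∨ (IsMulCommutative N ∧ (∀ n ∈ N, n ^ 2 = 1) ∧ ∃ m : ℕ, Fintype.card X = 2 ^ m) := by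
  by_cases h3 : Fintype.card X = 3
  · exact Or.inl h3
  right
  have hsq : ∀ n ∈ N, n * n = 1 := fun n hn =>
    CfsgLib.SmallGroups.RegularNormal.mul_self_eq_one N hX h2 hreg h3 hn
  have hinv : ∀ n : N, n⁻¹ = n := fun n =>
    inv_eq_of_mul_eq_one_right (Subtype.ext (hsq n n.2))
  refine ⟨⟨⟨fun x y => ?_⟩⟩, fun n hn => by rw [pow_two]; exact hsq n hn, ?_⟩
  · calc x * y = (x * y)⁻¹ := (hinv _).symm
      _ = y⁻¹ * x⁻¹ := mul_inv_rev x y
      _ = y * x := by rw [hinv, hinv]
  · obtain ⟨a⟩ : Nonempty X := Fintype.card_pos_iff.mp (by omega)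
    have hbij : Function.Bijective fun n : N => n • a := by
      refine ⟨fun n m h => Subtype.ext ?_, htrans.exists_smul_eq a⟩
      exact CfsgLib.SmallGroups.RegularNormal.eq_of_smul_eq N hreg n.2 m.2 h
    haveI : Finite N := Finite.of_injective _ hbij.1
    haveI := Fact.mk Nat.prime_two
    obtain ⟨m, hm⟩ := IsPGroup.exists_card_eq (p := 2) (G := N)
      (fun x => ⟨1, Subtype.ext (by rw [pow_one, pow_two]; exact hsq x x.2)⟩)
    exact ⟨m, by rw [← Nat.card_eq_fintype_card, ← Nat.card_eq_of_bijective _ hbij, hm]⟩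

end Cfsg.Agent.S0695
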