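import Cfsg.Statements.S0698
import Mathlib
import Cfsg.Agent.Lib.SmallGroups.MultiplyPrimitiveNormal

set_option autoImplicit false
open Cfsg

namespace Cfsg.Agent.S0698

/-- Jordan's Theorem on normal subgroups of multiply transitive groups: if `G` is `k`-transitive (`k > 1`) of degree greater than `k`, a non-trivial normal subgroup is `(k-1)`-transitive, except possibly for `k = 3` when it may be an elementary abelian 2-group. -/
theorem result {α : Type*} [Fintype α] [DecidableEq α] (G : Subgroup (Equiv.Perm α)) {k : ℕ} (hk : 1 < k) (hdeg : k < Fintype.card α) (hG : MulAction.IsMultiplyPretransitive G α k) (N : Subgroup G) [N.Normal] (hN : N ≠ ⊥) : MulAction.IsMultiplyPretransitive N α (k - 1) ∨ (k = 3 ∧ IsMulCommutative N ∧ ∀ n ∈ N, n ^ 2 = 1) := by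
  haveI := hG
  haveI : FaithfulSMul G α := ⟨fun {g₁ g₂} h => Subtype.ext (Equiv.ext h)⟩
  have hk2 : k ≤ Nat.card α := by rw [Nat.card_eq_fintype_card]; omega
  haveI h2 : MulAction.IsMultiplyPretransitive G α 2 :=
    MulAction.isMultiplyPretransitive_of_le (n := k) hk hk2
  haveI : MulAction.IsPreprimitive G α := MulAction.isPreprimitive_of_is_two_pretransitive h2
  haveI : MulAction.IsPretransitive N α := CfsgLib.SmallGroups.isPretransitive_of_normal_ne_bot hN
  have hn : Nat.card α = Fintype.card α := Nat.card_eq_fintype_card
  have hex : ∀ s : Finset α, s.card < Nat.card α → ∃ z, z ∉ s := by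
    intro s hs
    by_contra hall
    push Not at hall
    have h1 := Finset.card_le_card (fun x _ => hall x : (Finset.univ : Finset α) ⊆ s)
    rw [Finset.card_univ, ← Nat.card_eq_fintype_card] at h1
    omega
  by_cases hk3 : k = 2
  · subst hk3
    exact Or.inl (MulAction.is_one_pretransitive_iff.mpr inferInstance)
  by_cases hnr : ∃ a : α, MulAction.stabilizer N a ≠ ⊥
  · left
    by_cases htop : Function.Surjective (MulAction.toPerm : G → Equiv.Perm α)
    · -- the symmetric group: `N` contains every 3-cycle
      obtain ⟨a, ha⟩ := hnr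
      obtain ⟨⟨g, hgN⟩, hga, hg1⟩ := (Subgroup.bot_or_exists_ne_one _).resolve_left ha
      have hga' : (g : Equiv.Perm α) a = a := hga
      obtain ⟨b, hb⟩ : ∃ b, (g : Equiv.Perm α) b ≠ b := by
        by_contra hall
        push Not at hall
        exact hg1 (Subtype.ext (Subtype.ext (Equiv.ext hall)))
      set p : Equiv.Perm α := (g : Equiv.Perm α) with hp
      set c := p b with hc
      have hab : a ≠ b := fun e => hb (by rw [hc, ← e, hga', e])
      have hac : a ≠ c := fun e => hab (p.injective (hga'.trans e))
      obtain ⟨t, ht⟩ := htop (Equiv.swap b a)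
      have htv : ((t : Equiv.Perm α)) = Equiv.swap b a :=
        Equiv.ext fun x => Equiv.congr_fun ht x
      have hmem : g * (t * g⁻¹ * t⁻¹) ∈ N :=
        N.mul_mem hgN (Subgroup.Normal.conj_mem inferInstance _ (N.inv_mem hgN) t)
      have h3 : (p * (Equiv.swap b a * p⁻¹ * (Equiv.swap b a)⁻¹)).IsThreeCycle := by
        have hexp : p * (Equiv.swap b a * p⁻¹ * (Equiv.swap b a)⁻¹) =
            Equiv.swap a c * Equiv.swap a b := by
          rw [Equiv.swap_inv, ← mul_assoc, ← mul_assoc]
          have : p * Equiv.swap b a * p⁻¹ = Equiv.swap a c := by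
            rw [← Equiv.swap_apply_apply, hga', ← hc, Equiv.swap_comm]
          rw [this, Equiv.swap_comm b a]
        rw [hexp]
        exact Equiv.Perm.isThreeCycle_swap_mul_swap_same hac hab hb
      have hle : alternatingGroup α ≤ N.map G.subtype := by
        rw [← Equiv.Perm.closure_three_cycles_eq_alternating, Subgroup.closure_le]
        intro σ hσ
        obtain ⟨π, hπ⟩ := isConj_iff.mp (Equiv.Perm.isConj_iff_cycleType_eq.mpr
          ((h3.cycleType).trans (hσ : σ.IsThreeCycle).cycleType.symm))
        obtain ⟨u, hu⟩ := htop π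
        have huv : (u : Equiv.Perm α) = π := Equiv.ext fun x => Equiv.congr_fun hu x
        refine ⟨u * (g * (t * g⁻¹ * t⁻¹)) * u⁻¹,
          Subgroup.Normal.conj_mem inferInstance _ hmem u, ?_⟩
        rw [← hπ]
        simp only [Subgroup.coe_subtype, Subgroup.coe_mul, Subgroup.coe_inv, huv, htv]
        rfl
      have hA : MulAction.IsMultiplyPretransitive (alternatingGroup α) α (Nat.card α - 2) :=
        alternatingGroup.isMultiplyPretransitive α
      haveI hN' : MulAction.IsMultiplyPretransitive N α (Nat.card α - 2) := by
        rw [MulAction.isMultiplyPretransitive_iff] at hA ⊢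
        intro x y
        obtain ⟨m, hm⟩ := hA x y
        obtain ⟨w, hw, hwm⟩ := hle m.2
        refine ⟨⟨w, hw⟩, ?_⟩
        rw [← hm]
        ext i
        exact Equiv.congr_fun hwm (x i)
      exact MulAction.isMultiplyPretransitive_of_le (n := Nat.card α - 2)
        (by rw [Nat.card_eq_fintype_card] at *; omega) (Nat.sub_le _ _)
    · refine CfsgLib.SmallGroups.isMultiplyPretransitive_of_normal (k - 1) (by omega) ?_ htop N
        inferInstance hN hnr
      haveI : MulAction.IsMultiplyPretransitive G α (k - 1).succ := by
        rwa [show (k - 1).succ = k by omega]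
      exact MulAction.isMultiplyPreprimitive_of_isMultiplyPretransitive_succ G α
        (by rw [ENat.card_eq_coe_natCard]; exact_mod_cast (show (k - 1).succ ≤ Nat.card α by omega))
  · -- a regular normal subgroup
    push Not at hnr
    have hinj : ∀ (u v : N) (x : α), u • x = v • x → u = v := by
      intro u v x h
      have h1 : v⁻¹ * u ∈ MulAction.stabilizer N x :=
        MulAction.mem_stabilizer_iff.mpr (by rw [mul_smul, h, inv_smul_smul])
      rw [hnr x, Subgroup.mem_bot] at h1
      exact (inv_mul_eq_one.mp h1).symm
    have hN1 : ∀ (u : N) (x : α), u • x = x → u = 1 :=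
      fun u x h => hinj u 1 x (h.trans (one_smul N x).symm)
    haveI : MulAction.IsMultiplyPretransitive G α 3 :=
      MulAction.isMultiplyPretransitive_of_le (n := k) (by omega) hk2
    haveI : Nonempty α := Fintype.card_pos_iff.mp (by omega)
    let a : α := Classical.arbitrary α
    -- an element of the stabiliser of `a` conjugates by moving the orbit map
    have hconj : ∀ (h : G) (u : N), h • a = a →
        (⟨h * u * h⁻¹, Subgroup.Normal.conj_mem inferInstance _ u.2 h⟩ : N) • a = h • u • a := by
      intro h u ha
      show (h * (u : G) * h⁻¹) • a = h • (u : G) • a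
      rw [mul_smul, mul_smul, inv_smul_eq_iff.mpr ha.symm]
    have hfour : 4 ≤ Nat.card α := by omega
    have hsq : ∀ u : N, u ^ 2 = 1 := by
      intro u
      by_contra hu2
      have hu1 : u ≠ 1 := fun e => hu2 (by rw [e, one_pow])
      have huu : u • a ≠ u⁻¹ • a := fun e => hu2 (by
        rw [pow_two]; exact inv_eq_iff_mul_eq_one.mp (hinj _ _ a e).symm)
      obtain ⟨z, hz⟩ : ∃ z, z ∉ ({a, u • a, u⁻¹ • a} : Finset α) :=
        hex _ (lt_of_le_of_lt Finset.card_le_three (by omega))
      simp only [Finset.mem_insert, Finset.mem_singleton, not_or] at hz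
      have hx : Function.Injective ![a, u • a, u⁻¹ • a] := by
        intro i j h
        fin_cases i <;> fin_cases j <;> simp at h ⊢ <;>
          first
            | exact hu1 (hN1 _ _ h)
            | exact hu1 (hN1 _ _ h.symm)
            | exact hu1 (inv_eq_one.mp (hN1 _ _ h))
            | exact hu1 (inv_eq_one.mp (hN1 _ _ h.symm))
            | exact huu h
            | exact huu h.symm
      have hy : Function.Injective ![a, u • a, z] := by
        intro i j h
        fin_cases i <;> fin_cases j <;> simp at h ⊢ <;>
          first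
            | exact hu1 (hN1 _ _ h)
            | exact hu1 (hN1 _ _ h.symm)
            | exact hz.1 h
            | exact hz.1 h.symm
            | exact hz.2.1 h
            | exact hz.2.1 h.symm
      obtain ⟨h, hh⟩ := MulAction.exists_smul_eq G (⟨_, hx⟩ : Fin 3 ↪ α) ⟨_, hy⟩
      have h0 : h • a = a := DFunLike.congr_fun hh 0
      have h1 : h • u • a = u • a := DFunLike.congr_fun hh 1
      have h2 : h • u⁻¹ • a = z := DFunLike.congr_fun hh 2
      rw [← hconj h _ h0] at h1 h2
      have h3 := hinj _ _ a h1
      apply hz.2.2
      rw [← h2]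
      congr 1
      apply Subtype.ext
      have h4 : h * (u : G) * h⁻¹ = (u : G) := congrArg Subtype.val h3
      calc h * ((u⁻¹ : N) : G) * h⁻¹ = (h * (u : G) * h⁻¹)⁻¹ := by
            rw [Subgroup.coe_inv]; group
        _ = ((u⁻¹ : N) : G) := by rw [h4, Subgroup.coe_inv]
    have hcomm : ∀ u v : N, u * v = v * u := by
      intro u v
      have h1 : ∀ w : N, w⁻¹ = w := fun w => inv_eq_of_mul_eq_one_left (by rw [← pow_two, hsq])
      calc u * v = (u * v)⁻¹ := (h1 _).symm
        _ = v * u := by rw [mul_inv_rev, h1, h1]
    by_cases hk4 : k = 3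
    · exact Or.inr ⟨hk4, ⟨⟨hcomm⟩⟩, fun n hn => congrArg Subtype.val (hsq ⟨n, hn⟩)⟩
    exfalso
    haveI : MulAction.IsMultiplyPretransitive G α 4 :=
      MulAction.isMultiplyPretransitive_of_le (n := k) (by omega) hk2
    obtain ⟨b, hb⟩ : ∃ b, b ∉ ({a} : Finset α) :=
      hex _ (by rw [Finset.card_singleton]; omega)
    rw [Finset.mem_singleton] at hb
    obtain ⟨c, hc⟩ : ∃ c, c ∉ ({a, b} : Finset α) :=
      hex _ (lt_of_le_of_lt Finset.card_le_two (by omega))
    simp only [Finset.mem_insert, Finset.mem_singleton, not_or] at hc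
    obtain ⟨u, hu⟩ := MulAction.exists_smul_eq N a b
    obtain ⟨v, hv⟩ := MulAction.exists_smul_eq N a c
    set d := (u * v) • a with hd
    obtain ⟨z, hz⟩ : ∃ z, z ∉ ({a, b, c, d} : Finset α) :=
      hex _ (lt_of_le_of_lt Finset.card_le_four (by omega))
    simp only [Finset.mem_insert, Finset.mem_singleton, not_or] at hz
    have hinv : ∀ w : N, w * w = 1 := fun w => by rw [← pow_two, hsq]
    have hda : d ≠ a := fun e => by
      have h1 := hN1 _ _ e
      have : u = v := by
        calc u = u * (v * v) := by rw [hinv, mul_one]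
          _ = v := by rw [← mul_assoc, h1, one_mul]
      exact hc.2 (by rw [← hv, ← this, hu])
    have hdb : d ≠ b := fun e => by
      have h1 := hinj _ _ a (e.trans hu.symm)
      exact hc.1 (by rw [← hv, mul_eq_left.mp h1, one_smul])
    have hdc : d ≠ c := fun e => by
      have h1 := hinj _ _ a (e.trans hv.symm)
      exact hb (by rw [← hu, mul_eq_right.mp h1, one_smul])
    have hx : Function.Injective ![a, b, c, d] := by
      intro i j h
      fin_cases i <;> fin_cases j <;> simp at h ⊢ <;>
        first
          | exact hb h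
          | exact hb h.symm
          | exact hc.1 h
          | exact hc.1 h.symm
          | exact hc.2 h
          | exact hc.2 h.symm
          | exact hda h
          | exact hda h.symm
          | exact hdb h
          | exact hdb h.symm
          | exact hdc h
          | exact hdc h.symm
    have hy : Function.Injective ![a, b, c, z] := by
      intro i j h
      fin_cases i <;> fin_cases j <;> simp at h ⊢ <;>
        first
          | exact hb h
          | exact hb h.symm
          | exact hc.1 h
          | exact hc.1 h.symm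
          | exact hc.2 h
          | exact hc.2 h.symm
          | exact hz.1 h
          | exact hz.1 h.symm
          | exact hz.2.1 h
          | exact hz.2.1 h.symm
          | exact hz.2.2.1 h
          | exact hz.2.2.1 h.symm
    obtain ⟨h, hh⟩ := MulAction.exists_smul_eq G (⟨_, hx⟩ : Fin 4 ↪ α) ⟨_, hy⟩
    have h0 : h • a = a := DFunLike.congr_fun hh 0
    have h1 : h • b = b := DFunLike.congr_fun hh 1
    have h2 : h • c = c := DFunLike.congr_fun hh 2
    have h3 : h • d = z := DFunLike.congr_fun hh 3
    apply hz.2.2.2
    have e1 : h • u • a = u • a := by rw [hu, h1]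
    have e2 : h • v • a = v • a := by rw [hv, h2]
    rw [← hconj h _ h0] at e1 e2
    rw [← h3, hd, ← hconj h _ h0]
    congr 1
    apply Subtype.ext
    have f1 : h * (u : G) * h⁻¹ = (u : G) := congrArg Subtype.val (hinj _ _ a e1)
    have f2 : h * (v : G) * h⁻¹ = (v : G) := congrArg Subtype.val (hinj _ _ a e2)
    calc h * ((u * v : N) : G) * h⁻¹ = (h * (u : G) * h⁻¹) * (h * (v : G) * h⁻¹) := by
          rw [Subgroup.coe_mul]; group
      _ = ((u * v : N) : G) := by rw [f1, f2, Subgroup.coe_mul]

end Cfsg.Agent.S0698
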