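import Cfsg.Statements.S0699
import Cfsg.Agent.Lib.SmallGroups.Wagner
import Mathlib

set_option autoImplicit false
open Cfsg

namespace Cfsg.Agent.S0699

/-- Wagner's Theorem: a non-trivial normal subgroup of a triply transitive permutation group of odd degree at least 5 is triply transitive. -/
theorem result {α : Type*} [Fintype α] [DecidableEq α] (G : Subgroup (Equiv.Perm α)) (hodd : Odd (Fintype.card α)) (h5 : 5 ≤ Fintype.card α) (hG : MulAction.IsMultiplyPretransitive G α 3) (N : Subgroup G) [N.Normal] (hN : N ≠ ⊥) : MulAction.IsMultiplyPretransitive N α 3 := by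
  classical
  haveI := hG
  have h3 : ∀ a b c a' b' c' : α, a ≠ b → a ≠ c → b ≠ c → a' ≠ b' → a' ≠ c' → b' ≠ c' →
      ∃ g : G, g • a = a' ∧ g • b = b' ∧ g • c = c' := by
    intro a b c a' b' c' h1 h2 h3 h4 h5 h6
    have mk : ∀ a b c : α, a ≠ b → a ≠ c → b ≠ c → Function.Injective ![a, b, c] := by
      intro a b c h1 h2 h3 i j h
      fin_cases i <;> fin_cases j <;> simp_all
    obtain ⟨g, hg⟩ := MulAction.exists_smul_eq G (⟨_, mk a b c h1 h2 h3⟩ : Fin 3 ↪ α)
      ⟨_, mk a' b' c' h4 h5 h6⟩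
    exact ⟨g, DFunLike.congr_fun hg 0, DFunLike.congr_fun hg 1, DFunLike.congr_fun hg 2⟩
  rw [MulAction.isMultiplyPretransitive_iff]
  intro x y
  obtain ⟨n, hn, e0, e1, e2⟩ := CfsgLib.SmallGroups.Wagner.wagner N hodd h5 h3 hN
    (x.injective.ne (show (0 : Fin 3) ≠ 1 by decide)) (x.injective.ne (show (0 : Fin 3) ≠ 2 by decide))
    (x.injective.ne (show (1 : Fin 3) ≠ 2 by decide))
    (y.injective.ne (show (0 : Fin 3) ≠ 1 by decide)) (y.injective.ne (show (0 : Fin 3) ≠ 2 by decide))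
    (y.injective.ne (show (1 : Fin 3) ≠ 2 by decide))
  refine ⟨⟨n, hn⟩, ?_⟩
  ext i
  fin_cases i <;> assumption

end Cfsg.Agent.S0699
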