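import Mathlib
import Cfsg.Statements.S0703


set_option autoImplicit false
open Cfsg

namespace Cfsg.Agent.S0703

/-- An abelian transitive minimal normal subgroup `M` of a permutation group on a finite set is self-centralising in the symmetric group, regular, elementary abelian, and is the unique minimal normal subgroup. -/
theorem result {α : Type*} [Finite α] (G : Subgroup (Equiv.Perm α)) (M : Subgroup G) [M.Normal] (hM : M ≠ ⊥) (hmin : ∀ L : Subgroup G, L.Normal → L ≤ M → L = ⊥ ∨ L = M) (hab : IsMulCommutative M) (htrans : MulAction.IsPretransitive M α) : Subgroup.centralizer ((M.map G.subtype : Subgroup (Equiv.Perm α)) : Set (Equiv.Perm α)) = M.map G.subtype ∧ (∀ a : α, MulAction.stabilizer M a = ⊥) ∧ (∃ p : ℕ, p.Prime ∧ ∀ m ∈ M, m ^ p = 1) ∧ ∀ L : Subgroup G, L.Normal → L ≠ ⊥ → (∀ L' : Subgroup G, L'.Normal → L' ≤ L → L' = ⊥ ∨ L' = L) → L = M := by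
  classical
  haveI := htrans
  haveI : Finite G := inferInstance
  have hcomm : ∀ u v : M, u * v = v * u := fun u v => hab.is_comm.comm u v
  have hMfix : ∀ (m : M) (a : α), m • a = a → m = 1 := by
    intro m a h
    refine Subtype.ext (Subtype.ext (Equiv.ext fun x => ?_))
    obtain ⟨u, rfl⟩ := MulAction.exists_smul_eq M a x
    show m • (u • a) = u • a
    rw [← mul_smul, hcomm m u, mul_smul, h]
  have hC : Subgroup.centralizer ((M.map G.subtype : Subgroup (Equiv.Perm α)) : Set (Equiv.Perm α)) = M.map G.subtype := by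
    refine le_antisymm (fun c hc => ?_) ?_
    · rcases isEmpty_or_nonempty α with hα | ⟨⟨a⟩⟩
      · rw [Subsingleton.elim c 1]; exact one_mem _
      obtain ⟨m, hm⟩ := MulAction.exists_smul_eq M a (c a)
      refine ⟨(m : G), m.2, Equiv.ext fun x => ?_⟩
      obtain ⟨u, rfl⟩ := MulAction.exists_smul_eq M a x
      have h1 : c (u • a) = u • c a :=
        (congrArg (fun σ : Equiv.Perm α => σ a) (Subgroup.mem_centralizer_iff.mp hc _ ⟨(u : G), u.2, rfl⟩)).symm
      show m • (u • a) = c (u • a)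
      rw [h1, ← hm, ← mul_smul, ← mul_smul, hcomm]
    · rintro _ ⟨m, hm, rfl⟩
      rw [Subgroup.mem_centralizer_iff]
      rintro _ ⟨u, hu, rfl⟩
      exact congrArg (fun v : M => ((v : G) : Equiv.Perm α)) (hcomm ⟨u, hu⟩ ⟨m, hm⟩)
  refine ⟨hC, fun a => ?_, ?_, ?_⟩
  · rw [eq_bot_iff]
    exact fun m hm => Subgroup.mem_bot.mpr (hMfix m a hm)
  · have h1 : Nat.card M ≠ 1 := fun h => hM (Subgroup.eq_bot_of_card_eq _ h)
    obtain ⟨p, hp, hpd⟩ := Nat.exists_prime_and_dvd h1
    refine ⟨p, hp, ?_⟩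
    haveI : Fact p.Prime := ⟨hp⟩
    let L : Subgroup G :=
      { carrier := {g | g ∈ M ∧ g ^ p = 1}
        one_mem' := ⟨one_mem _, one_pow _⟩
        mul_mem' := fun {u v} hu hv => ⟨mul_mem hu.1 hv.1, by
          have h2 : Commute u v := congrArg Subtype.val (hcomm ⟨u, hu.1⟩ ⟨v, hv.1⟩)
          rw [h2.mul_pow, hu.2, hv.2, one_mul]⟩
        inv_mem' := fun {u} hu => ⟨inv_mem hu.1, by rw [inv_pow, hu.2, inv_one]⟩ }
    haveI : L.Normal := ⟨fun u hu g => ⟨Subgroup.Normal.conj_mem inferInstance u hu.1 g, by rw [conj_pow, hu.2]; group⟩⟩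
    rcases hmin L inferInstance (fun u hu => hu.1) with h | h
    · obtain ⟨m, hm⟩ := exists_prime_orderOf_dvd_card' (G := M) p hpd
      have hmL : (m : G) ∈ L := ⟨m.2, by rw [← hm, ← Subgroup.orderOf_coe, pow_orderOf_eq_one]⟩
      rw [h, Subgroup.mem_bot] at hmL
      rw [← Subgroup.orderOf_coe, hmL, orderOf_one] at hm
      exact absurd hm.symm hp.ne_one
    · intro m hm
      exact (h ▸ hm : m ∈ L).2
  · intro L hL hLne hLmin
    haveI := hL
    rcases hLmin (L ⊓ M) inferInstance inf_le_left with h | h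
    · exfalso
      apply hLne
      rw [eq_bot_iff]
      intro l hl
      have h1 : ((l : G) : Equiv.Perm α) ∈ Subgroup.centralizer ((M.map G.subtype : Subgroup (Equiv.Perm α)) : Set (Equiv.Perm α)) := by
        rw [Subgroup.mem_centralizer_iff]
        rintro _ ⟨m, hm, rfl⟩
        exact congrArg (fun v : G => (v : Equiv.Perm α))
          (Subgroup.commute_of_normal_of_disjoint M L inferInstance hL (disjoint_iff.mpr (inf_comm L M ▸ h)) m l hm hl).eq
      rw [hC] at h1
      obtain ⟨m, hm, hml⟩ := h1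
      rw [← h]
      exact ⟨hl, (Subtype.ext hml : m = l) ▸ hm⟩
    · rcases hmin L hL (h ▸ inf_le_right) with h2 | h2
      · exact absurd h2 hLne
      · exact h2

end Cfsg.Agent.S0703
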