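import Cfsg.Statements.S0700
import Cfsg.Agent.Lib.SmallGroups.HalfTransitive
import Cfsg.Agent.Lib.Recognition.PowerAction
import Cfsg.Agent.S0703
import Mathlib

set_option autoImplicit false
open Cfsg

namespace Cfsg.Agent.S0700

/-- Burnside's Theorem on doubly transitive groups: a minimal normal subgroup of a finite doubly transitive permutation group is elementary abelian and regular, or simple and primitive. -/
theorem result {α : Type*} [Fintype α] [DecidableEq α] (G : Subgroup (Equiv.Perm α)) (hG : MulAction.IsMultiplyPretransitive G α 2) (N : Subgroup G) [N.Normal] (hN : N ≠ ⊥) (hmin : ∀ M : Subgroup G, M.Normal → M ≤ N → M = ⊥ ∨ M = N) : (IsMulCommutative N ∧ (∃ p : ℕ, p.Prime ∧ ∀ n ∈ N, n ^ p = 1) ∧ ∀ a : α, MulAction.stabilizer N a = ⊥) ∨ (IsSimpleGroup N ∧ MulAction.IsPreprimitive N α) := by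
  classical
  haveI := hG
  haveI : MulAction.IsPretransitive G α := MulAction.isPretransitive_of_is_two_pretransitive
  haveI : MulAction.IsPreprimitive G α := MulAction.isPreprimitive_of_is_two_pretransitive hG
  have h2 : ∀ a b c : α, b ≠ a → c ≠ a → ∃ g : G, g • a = a ∧ g • b = c := by
    intro a b c hb hc
    exact (MulAction.is_two_pretransitive_iff.mp hG) hb.symm hc.symm
  haveI : Nontrivial N := N.nontrivial_iff_ne_bot.mpr hN
  haveI : MulAction.IsPretransitive N α := by
    apply MulAction.IsQuasiPreprimitive.isPretransitive_of_normal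
    intro hfix
    obtain ⟨n, hn⟩ := exists_ne (1 : N)
    refine hn (Subtype.ext (Subtype.ext (Equiv.ext fun x => ?_)))
    have hx : x ∈ MulAction.fixedPoints N α := hfix ▸ Set.mem_univ x
    exact hx n
  haveI : Nontrivial α := by
    by_contra hns
    rw [not_nontrivial_iff_subsingleton] at hns
    obtain ⟨n, hn⟩ := exists_ne (1 : N)
    exact hn (Subtype.ext (Subtype.ext (Equiv.ext fun x => Subsingleton.elim _ _)))
  by_cases hab : IsMulCommutative N
  · obtain ⟨-, hreg, hp, -⟩ := Cfsg.Agent.S0703.result G N hN hmin hab inferInstance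
    exact Or.inl ⟨hab, hp, hreg⟩
  by_cases hreg : ∀ a : α, MulAction.stabilizer N a = ⊥
  · exfalso
    obtain ⟨a⟩ : Nonempty α := inferInstance
    have hmove : ∀ n : N, n ≠ 1 → n • a ≠ a := fun n hn e =>
      hn (Subgroup.mem_bot.mp (hreg a ▸ MulAction.mem_stabilizer_iff.mpr e))
    have hord : ∀ n m : N, n ≠ 1 → m ≠ 1 → orderOf n = orderOf m := by
      intro n m hn hm
      obtain ⟨g, hga, hgnm⟩ := h2 a (n • a) (m • a) (hmove n hn) (hmove m hm)
      set c : N := ⟨g * (n : G) * g⁻¹, Subgroup.Normal.conj_mem inferInstance _ n.2 g⟩ with hc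
      have hcm : m = c := by
        have h : (c⁻¹ * m) • a = a := by
          rw [mul_smul, inv_smul_eq_iff, ← hgnm]
          show g • (n : G) • a = (g * (n : G) * g⁻¹) • a
          rw [mul_smul, mul_smul, inv_smul_eq_iff.mpr hga.symm]
        by_contra hne
        exact hmove _ (fun e => hne (inv_mul_eq_one.mp e).symm) h
      rw [hcm, ← Subgroup.orderOf_coe n, ← Subgroup.orderOf_coe c]
      exact ((SemiconjBy.conj_mk g (n : G)).orderOf_eq)
    obtain ⟨p, hp, hpd⟩ := Nat.exists_prime_and_dvd (n := Nat.card N)
      (Finite.one_lt_card_iff_nontrivial.mpr inferInstance).ne'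
    haveI : Fact p.Prime := ⟨hp⟩
    obtain ⟨u, hu⟩ := exists_prime_orderOf_dvd_card' (G := N) p hpd
    have hu1 : u ≠ 1 := fun e => by rw [e, orderOf_one] at hu; exact hp.ne_one hu.symm
    have hpN : IsPGroup p N := fun n => by
      by_cases hn : n = 1
      · exact ⟨0, by rw [hn, one_pow]⟩
      · exact ⟨1, by rw [pow_one, ← hu, hord u n hu1 hn, pow_orderOf_eq_one]⟩
    haveI hZ := hpN.center_nontrivial
    rcases hmin ((Subgroup.center N).map N.subtype) inferInstance (Subgroup.map_subtype_le _) with h | h
    · exact (Subgroup.nontrivial_iff_ne_bot _).mp hZ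
        (Subgroup.map_injective N.subtype_injective (h.trans (Subgroup.map_bot _).symm))
    · refine hab ⟨⟨fun x y => ?_⟩⟩
      have hx : (x : G) ∈ (Subgroup.center N).map N.subtype := h.symm ▸ x.2
      obtain ⟨x', hx', he⟩ := hx
      rw [show x = x' from Subtype.ext he.symm]
      exact (Subgroup.mem_center_iff.mp hx' y).symm
  · right
    obtain ⟨S, _, _, _, m, hS, hm, ⟨e⟩⟩ := CfsgLib.Recognition.PowerAction.power_decomp N hN hmin hab
    obtain ⟨a⟩ : Nonempty α := inferInstance
    have hm1 : m = 1 := by
      by_contra hne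
      exact CfsgLib.Recognition.PowerAction.two_transitive_power_false a N e hS hmin (by omega)
        fun b c hb hc => h2 a b c hb hc
    subst hm1
    have e' : N ≃* S := e.trans (MulEquiv.funUnique (Fin 1) S)
    haveI hsimp : IsSimpleGroup N :=
      IsSimpleGroup.isSimpleGroup_of_surjective e'.symm.toMonoidHom e'.symm.surjective
    refine ⟨hsimp, ?_⟩
    haveI : FaithfulSMul N α := ⟨fun h => Subtype.ext (eq_of_smul_eq_smul h)⟩
    -- conjugation between two-point stabilisers
    have hconj : ∀ (g : G) (b : α), MulAction.stabilizer N (g • b) =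
        (MulAction.stabilizer N b).map (MulAut.conjNormal g : MulAut N).toMonoidHom := by
      intro g b
      ext n
      rw [Subgroup.mem_map_equiv, MulAction.mem_stabilizer_iff, MulAction.mem_stabilizer_iff]
      show (n : G) • g • b = g • b ↔ (((MulAut.conjNormal g : MulAut N).symm n : N) : G) • b = b
      rw [MulAut.conjNormal_symm_apply, mul_smul, mul_smul, inv_smul_eq_iff]
    have hhalf : ∀ x y x' y' : α, x ≠ y → x' ≠ y' →
        (MulAction.stabilizer N y).relIndex (MulAction.stabilizer N x) =
          (MulAction.stabilizer N y').relIndex (MulAction.stabilizer N x') := by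
      intro x y x' y' hxy hxy'
      obtain ⟨g, hgx, hgy⟩ := (MulAction.is_two_pretransitive_iff.mp hG) hxy hxy'
      rw [← hgx, ← hgy, hconj, hconj]
      exact (Subgroup.relIndex_map_map_of_injective _ _ (MulEquiv.injective _)).symm
    obtain ⟨b, hba⟩ := exists_ne a
    refine CfsgLib.SmallGroups.HalfTransitive.isPreprimitive_of_simple
      (d := (MulAction.stabilizer N b).relIndex (MulAction.stabilizer N a))
      (fun x y hxy => hhalf x y a b hxy hba.symm) fun c hc => hreg fun c' => ?_
    obtain ⟨g, hg⟩ := MulAction.exists_smul_eq G c c'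
    rw [← hg, hconj, hc, Subgroup.map_bot]

end Cfsg.Agent.S0700
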