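import Cfsg.Statements.S0701


set_option autoImplicit false
open Cfsg

namespace Cfsg.Agent.S0701

/-- The centraliser in the full symmetric group of a transitive permutation group `G` is semiregular, and it is transitive if and only if `G` is regular. -/
theorem result {α : Type*} (G : Subgroup (Equiv.Perm α)) [MulAction.IsPretransitive G α] : (∀ c ∈ Subgroup.centralizer (G : Set (Equiv.Perm α)), ∀ a : α, c a = a → c = 1) ∧ (MulAction.IsPretransitive (Subgroup.centralizer (G : Set (Equiv.Perm α))) α ↔ ∀ a : α, MulAction.stabilizer G a = ⊥) := by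
  have h1 : ∀ c ∈ Subgroup.centralizer (G : Set (Equiv.Perm α)), ∀ a : α, c a = a → c = 1 := by
    intro c hc a ha
    ext b
    obtain ⟨⟨g, hg⟩, rfl⟩ := MulAction.exists_smul_eq G a b
    have := congrArg (fun σ : Equiv.Perm α => σ a) (Subgroup.mem_centralizer_iff.mp hc g hg)
    simp only [Equiv.Perm.mul_apply, ha] at this
    exact this.symm
  refine ⟨h1, ⟨fun h a => ?_, fun h => ⟨fun a b => ?_⟩⟩⟩
  · rw [eq_bot_iff]
    rintro ⟨g, hg⟩ hga
    refine Subgroup.mem_bot.mpr (Subtype.ext (Equiv.ext fun b => ?_))
    obtain ⟨⟨c, hc⟩, rfl⟩ := h.exists_smul_eq a b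
    have := congrArg (fun σ : Equiv.Perm α => σ a) (Subgroup.mem_centralizer_iff.mp hc g hg)
    simp only [Equiv.Perm.mul_apply] at this
    rw [show g a = a from hga] at this
    exact this
  · classical
    have hu : ∀ x : α, ∀ g g' : G, g • x = g' • x → g = g' := by
      intro x g g' hgg
      have : g'⁻¹ * g ∈ MulAction.stabilizer G x := by
        rw [MulAction.mem_stabilizer_iff, mul_smul, hgg, inv_smul_smul]
      rw [h x, Subgroup.mem_bot, inv_mul_eq_one] at this
      exact this.symm
    have hbij : ∀ x : α, Function.Bijective (fun g : G => g • x) := fun x =>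
      ⟨fun g g' => hu x g g', fun y => MulAction.exists_smul_eq G x y⟩
    let c : Equiv.Perm α := (Equiv.ofBijective _ (hbij a)).symm.trans (Equiv.ofBijective _ (hbij b))
    have hc : ∀ g : G, c (g • a) = g • b := fun g => by
      show Equiv.ofBijective _ (hbij b) ((Equiv.ofBijective _ (hbij a)).symm (g • a)) = g • b
      rw [Equiv.ofBijective_symm_apply_apply]; rfl
    refine ⟨⟨c, Subgroup.mem_centralizer_iff.mpr fun g hg => Equiv.ext fun x => ?_⟩, ?_⟩
    · obtain ⟨g₁, rfl⟩ := MulAction.exists_smul_eq G a x
      have e2 := hc (⟨g, hg⟩ * g₁)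
      rw [mul_smul, mul_smul, ← hc g₁] at e2
      exact e2.symm
    · have := hc 1
      rw [one_smul, one_smul] at this
      exact this

end Cfsg.Agent.S0701
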