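import Mathlib
import Cfsg.Statements.S0702


set_option autoImplicit false
open Cfsg

namespace Cfsg.Agent.S0702

/-- For a transitive permutation group `G` on a finite set, the centraliser of `G` in the symmetric group is isomorphic to `N_G(G_ω)/G_ω`, and its orbit of `ω` is the set of fixed points of `G_ω`. -/
theorem result {α : Type*} [Finite α] (G : Subgroup (Equiv.Perm α)) [MulAction.IsPretransitive G α] (a : α) : Nonempty (Subgroup.centralizer (G : Set (Equiv.Perm α)) ≃* Subgroup.normalizer ((MulAction.stabilizer G a : Subgroup G) : Set G) ⧸ (MulAction.stabilizer G a).subgroupOf (Subgroup.normalizer ((MulAction.stabilizer G a : Subgroup G) : Set G))) ∧ MulAction.orbit (Subgroup.centralizer (G : Set (Equiv.Perm α))) a = MulAction.fixedPoints (MulAction.stabilizer G a) α := by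
  classical
  set H := MulAction.stabilizer G a with hH
  set N := Subgroup.normalizer ((H : Subgroup G) : Set G) with hN
  set C := Subgroup.centralizer (G : Set (Equiv.Perm α)) with hC
  haveI : Finite G := inferInstance
  have hcomm : ∀ (c : C) (g : G) (x : α), (c : Equiv.Perm α) (g • x) = g • (c : Equiv.Perm α) x := fun c g x =>
    (congrArg (fun σ : Equiv.Perm α => σ x) (Subgroup.mem_centralizer_iff.mp c.2 g g.2)).symm
  choose tr htr using fun x : α => MulAction.exists_smul_eq G a x
  have hstab : ∀ (g : G), g ∈ H ↔ g • a = a := fun g => MulAction.mem_stabilizer_iff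
  have hnorm : ∀ g : G, (∀ h ∈ H, h • (g • a) = g • a) → g ∈ N := by
    intro g hg
    have hsub : ∀ h ∈ H, g⁻¹ * h * g ∈ H := fun h hh => by
      rw [hstab, mul_smul, mul_smul, inv_smul_eq_iff]; exact hg h hh
    rw [← inv_mem_iff (H := N)]
    refine Subgroup.mem_normalizer_fintype fun x hx => ?_
    rw [inv_inv]
    exact hsub x hx
  have hnormalizes : ∀ n ∈ N, ∀ h ∈ H, h • (n • a) = n • a := by
    intro n hn h hh
    have h1 : n⁻¹ * h * n ∈ H := by
      have := ((inv_mem hn) h).mp hh
      rwa [inv_inv] at this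
    rw [hstab, mul_smul, mul_smul, inv_smul_eq_iff] at h1
    exact h1
  have hfixc : ∀ (c : C), ∀ h ∈ H, h • (c : Equiv.Perm α) a = (c : Equiv.Perm α) a := fun c h hh => by
    rw [← hcomm, (hstab h).mp hh]
  -- the element of the centralizer belonging to an element of the normalizer
  have hwd : ∀ n ∈ N, ∀ g g' : G, g • a = g' • a → (g * n) • a = (g' * n) • a := by
    intro n hn g g' h
    have h1 : g'⁻¹ * g ∈ H := by rw [hstab, mul_smul, h, inv_smul_smul]
    have h2 := hnormalizes n hn _ h1
    rw [mul_smul, inv_smul_eq_iff] at h2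
    rw [mul_smul, mul_smul]; exact h2
  have hex : ∀ n ∈ N, ∃ c : C, (c : Equiv.Perm α) a = n • a := by
    intro n hn
    let f : Equiv.Perm α :=
      { toFun := fun x => (tr x * n) • a
        invFun := fun x => (tr x * n⁻¹) • a
        left_inv := fun x => by
          show (tr ((tr x * n) • a) * n⁻¹) • a = x
          rw [hwd n⁻¹ (inv_mem hn) _ (tr x * n) (htr _), mul_inv_cancel_right, htr]
        right_inv := fun x => by
          show (tr ((tr x * n⁻¹) • a) * n) • a = x
          rw [hwd n hn _ (tr x * n⁻¹) (htr _), inv_mul_cancel_right, htr] }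
    refine ⟨⟨f, Subgroup.mem_centralizer_iff.mpr fun g hg => Equiv.ext fun x => ?_⟩, ?_⟩
    · show (⟨g, hg⟩ : G) • ((tr x * n) • a) = (tr ((⟨g, hg⟩ : G) • x) * n) • a
      rw [hwd n hn (tr ((⟨g, hg⟩ : G) • x)) (⟨g, hg⟩ * tr x) (by rw [htr, mul_smul, htr]), mul_assoc, mul_smul]
      exact (mul_smul (⟨g, hg⟩ : G) (tr x * n) a).symm
    · show (tr a * n) • a = n • a
      rw [hwd n hn (tr a) 1 (by rw [htr, one_smul]), one_mul]
  refine ⟨?_, ?_⟩
  · have hmem : ∀ c : C, tr ((c : Equiv.Perm α) a) ∈ N := fun c => hnorm _ (by rw [htr]; exact hfixc c)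
    haveI : (H.subgroupOf N).Normal := Subgroup.normal_in_normalizer
    let ψ : C →* N ⧸ H.subgroupOf N :=
      { toFun := fun c => ((⟨_, hmem c⟩ : N) : N ⧸ H.subgroupOf N)⁻¹
        map_one' := by
          rw [inv_eq_one, QuotientGroup.eq_one_iff, Subgroup.mem_subgroupOf, hstab]
          exact htr _
        map_mul' := fun c d => by
          rw [← mul_inv_rev, ← QuotientGroup.mk_mul, inv_inj, QuotientGroup.eq, Subgroup.mem_subgroupOf, hstab]
          show ((tr (((c * d : C) : Equiv.Perm α) a))⁻¹ * (tr ((d : Equiv.Perm α) a) * tr ((c : Equiv.Perm α) a))) • a = a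
          rw [mul_smul, inv_smul_eq_iff, htr, mul_smul, htr, ← hcomm, htr]
          rfl }
    refine ⟨MulEquiv.ofBijective ψ ⟨?_, ?_⟩⟩
    · rw [injective_iff_map_eq_one]
      intro c hc
      change ((⟨_, hmem c⟩ : N) : N ⧸ H.subgroupOf N)⁻¹ = 1 at hc
      rw [inv_eq_one, QuotientGroup.eq_one_iff, Subgroup.mem_subgroupOf, hstab] at hc
      refine Subtype.ext (Equiv.ext fun x => ?_)
      obtain ⟨g, rfl⟩ := MulAction.exists_smul_eq G a x
      rw [hcomm, ← htr ((c : Equiv.Perm α) a), hc]
      rfl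
    · intro q
      obtain ⟨n, rfl⟩ := QuotientGroup.mk_surjective q
      obtain ⟨c, hc⟩ := hex (n⁻¹ : N) (n⁻¹ : N).2
      refine ⟨c, ?_⟩
      show ((⟨_, hmem c⟩ : N) : N ⧸ H.subgroupOf N)⁻¹ = _
      rw [inv_eq_iff_eq_inv, ← QuotientGroup.mk_inv, QuotientGroup.eq, Subgroup.mem_subgroupOf, hstab]
      show ((tr ((c : Equiv.Perm α) a))⁻¹ * ((n⁻¹ : N) : G)) • a = a
      rw [mul_smul, inv_smul_eq_iff, htr, hc]
  · ext x
    rw [MulAction.mem_fixedPoints]
    constructor
    · rintro ⟨c, rfl⟩ h
      exact hfixc c h h.2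
    · intro hx
      have hg : tr x ∈ N := hnorm _ (by rw [htr]; exact fun h hh => hx ⟨h, hh⟩)
      obtain ⟨c, hc⟩ := hex _ hg
      exact ⟨c, by rw [htr] at hc; exact hc⟩

end Cfsg.Agent.S0702
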