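import Mathlib
import Cfsg.Statements.S0704


set_option autoImplicit false
open Cfsg

namespace Cfsg.Agent.S0704

/-- Two distinct transitive minimal normal subgroups `M`, `N` of a permutation group are regular, non-abelian, isomorphic, each other's centraliser in the symmetric group, and the only minimal normal subgroups. -/
theorem result {α : Type*} (G : Subgroup (Equiv.Perm α)) (M N : Subgroup G) [M.Normal] [N.Normal] (hM : M ≠ ⊥) (hN : N ≠ ⊥) (hMmin : ∀ L : Subgroup G, L.Normal → L ≤ M → L = ⊥ ∨ L = M) (hNmin : ∀ L : Subgroup G, L.Normal → L ≤ N → L = ⊥ ∨ L = N) (hMN : M ≠ N) (hMt : MulAction.IsPretransitive M α) (hNt : MulAction.IsPretransitive N α) : (∀ a : α, MulAction.stabilizer M a = ⊥) ∧ (∀ a : α, MulAction.stabilizer N a = ⊥) ∧ ¬ IsMulCommutative M ∧ Nonempty (M ≃* N) ∧ Subgroup.centralizer ((M.map G.subtype : Subgroup (Equiv.Perm α)) : Set (Equiv.Perm α)) = N.map G.subtype ∧ Subgroup.centralizer ((N.map G.subtype : Subgroup (Equiv.Perm α)) : Set (Equiv.Perm α)) = M.map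 G.subtype ∧ ∀ L : Subgroup G, L.Normal → L ≠ ⊥ → (∀ L' : Subgroup G, L'.Normal → L' ≤ L → L' = ⊥ ∨ L' = L) → L = M ∨ L = N := by
  classical
  haveI := hMt
  haveI := hNt
  have hdis : M ⊓ N = ⊥ := by
    rcases hMmin (M ⊓ N) inferInstance inf_le_left with h | h
    · exact h
    rcases hNmin M inferInstance (h ▸ inf_le_right) with h2 | h2
    · exact absurd h2 hM
    · exact absurd h2 hMN
  have hcomm : ∀ (m : M) (n : N) (x : α), m • (n • x) = n • (m • x) := fun m n x => by
    show ((m : G) : Equiv.Perm α) (((n : G) : Equiv.Perm α) x) = ((n : G) : Equiv.Perm α) (((m : G) : Equiv.Perm α) x)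
    rw [← Equiv.Perm.mul_apply, ← Equiv.Perm.mul_apply, ← Subgroup.coe_mul, ← Subgroup.coe_mul,
      (Subgroup.commute_of_normal_of_disjoint M N inferInstance inferInstance (disjoint_iff.mpr hdis) m n m.2 n.2).eq]
  have hMext : ∀ u v : M, (∀ x : α, u • x = v • x) → u = v := fun u v h => Subtype.ext (Subtype.ext (Equiv.ext h))
  have hNext : ∀ u v : N, (∀ x : α, u • x = v • x) → u = v := fun u v h => Subtype.ext (Subtype.ext (Equiv.ext h))
  have hMreg : ∀ (u v : M) (a : α), u • a = v • a → u = v := fun u v a h => hMext u v fun x => by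
    obtain ⟨n, rfl⟩ := MulAction.exists_smul_eq N a x
    rw [hcomm, hcomm, h]
  have hNreg : ∀ (u v : N) (a : α), u • a = v • a → u = v := fun u v a h => hNext u v fun x => by
    obtain ⟨m, rfl⟩ := MulAction.exists_smul_eq M a x
    rw [← hcomm, ← hcomm, h]
  obtain ⟨a⟩ : Nonempty α := by
    by_contra h
    haveI := not_nonempty_iff.mp h
    exact hM (Subsingleton.elim _ _)
  have hCM : Subgroup.centralizer ((M.map G.subtype : Subgroup (Equiv.Perm α)) : Set (Equiv.Perm α)) = N.map G.subtype := by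
    refine le_antisymm (fun c hc => ?_) ?_
    · obtain ⟨n, hn⟩ := MulAction.exists_smul_eq N a (c a)
      refine ⟨(n : G), n.2, Equiv.ext fun x => ?_⟩
      obtain ⟨m, rfl⟩ := MulAction.exists_smul_eq M a x
      have h1 : c (m • a) = m • c a :=
        (congrArg (fun σ : Equiv.Perm α => σ a) (Subgroup.mem_centralizer_iff.mp hc _ ⟨(m : G), m.2, rfl⟩)).symm
      show n • (m • a) = c (m • a)
      rw [h1, ← hcomm, hn]
    · rintro _ ⟨n, hn, rfl⟩
      rw [Subgroup.mem_centralizer_iff]
      rintro _ ⟨m, hm, rfl⟩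
      exact Equiv.ext fun x => hcomm ⟨m, hm⟩ ⟨n, hn⟩ x
  have hCN : Subgroup.centralizer ((N.map G.subtype : Subgroup (Equiv.Perm α)) : Set (Equiv.Perm α)) = M.map G.subtype := by
    refine le_antisymm (fun c hc => ?_) ?_
    · obtain ⟨m, hm⟩ := MulAction.exists_smul_eq M a (c a)
      refine ⟨(m : G), m.2, Equiv.ext fun x => ?_⟩
      obtain ⟨n, rfl⟩ := MulAction.exists_smul_eq N a x
      have h1 : c (n • a) = n • c a :=
        (congrArg (fun σ : Equiv.Perm α => σ a) (Subgroup.mem_centralizer_iff.mp hc _ ⟨(n : G), n.2, rfl⟩)).symm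
      show m • (n • a) = c (n • a)
      rw [h1, hcomm, hm]
    · rintro _ ⟨m, hm, rfl⟩
      rw [Subgroup.mem_centralizer_iff]
      rintro _ ⟨n, hn, rfl⟩
      exact Equiv.ext fun x => (hcomm ⟨m, hm⟩ ⟨n, hn⟩ x).symm
  refine ⟨fun b => ?_, fun b => ?_, ?_, ?_, hCM, hCN, ?_⟩
  · rw [eq_bot_iff]
    intro m hm
    exact Subgroup.mem_bot.mpr (hMreg m 1 b (by rw [one_smul]; exact hm))
  · rw [eq_bot_iff]
    intro n hn
    exact Subgroup.mem_bot.mpr (hNreg n 1 b (by rw [one_smul]; exact hn))
  · intro hab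
    apply hM
    rw [eq_bot_iff, ← hdis]
    intro m hm
    have h1 : (m : Equiv.Perm α) ∈ N.map G.subtype := by
      rw [← hCM, Subgroup.mem_centralizer_iff]
      rintro _ ⟨u, hu, rfl⟩
      exact congrArg (fun v : M => ((v : G) : Equiv.Perm α)) (hab.is_comm.comm ⟨u, hu⟩ ⟨m, hm⟩)
    obtain ⟨n, hn, hnm⟩ := h1
    exact ⟨hm, (Subtype.ext hnm : n = m) ▸ hn⟩
  · choose φ hφ using fun m : M => MulAction.exists_smul_eq N a (m⁻¹ • a)
    refine ⟨MulEquiv.ofBijective (show M →* N from
      { toFun := φ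
        map_one' := hNreg _ _ a (by rw [hφ, inv_one, one_smul, one_smul])
        map_mul' := fun u v => hNreg _ _ a (by
          rw [hφ, mul_inv_rev, mul_smul, ← hφ u, mul_smul, hφ v, hcomm]) }) ⟨fun u v h => ?_, fun n => ?_⟩⟩
    · have h1 := congrArg (fun w : N => w • a) (show φ u = φ v from h)
      simp only [hφ] at h1
      exact inv_injective (hMreg _ _ a h1)
    · obtain ⟨m, hm⟩ := MulAction.exists_smul_eq M a (n • a)
      exact ⟨m⁻¹, hNreg _ _ a (by show φ m⁻¹ • a = n • a; rw [hφ, inv_inv]; exact hm)⟩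
  · intro L hL hLne hLmin
    haveI := hL
    rcases hLmin (L ⊓ M) inferInstance inf_le_left with h | h
    · right
      have hle : L ≤ N := by
        intro l hl
        have h1 : (l : Equiv.Perm α) ∈ N.map G.subtype := by
          rw [← hCM, Subgroup.mem_centralizer_iff]
          rintro _ ⟨m, hm, rfl⟩
          exact congrArg (fun v : G => (v : Equiv.Perm α))
            (Subgroup.commute_of_normal_of_disjoint M L inferInstance hL (disjoint_iff.mpr (inf_comm L M ▸ h)) m l hm hl).eq
        obtain ⟨n, hn, hnl⟩ := h1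
        exact (Subtype.ext hnl : n = l) ▸ hn
      exact (hNmin L hL hle).resolve_left hLne
    · left
      exact (hMmin L hL (h ▸ inf_le_right)).resolve_left hLne

end Cfsg.Agent.S0704
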