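import Mathlib
import Cfsg.Statements.S0705
import Cfsg.Agent.Lib.SmallGroups.Pretransitive

set_option autoImplicit false
open scoped Pointwise
open Cfsg

namespace Cfsg.Agent.S0705

/-- A generously `k`-transitive permutation group (every `(k+1)`-subset has its full symmetric group induced by the setwise stabiliser) of degree greater than `k` is `k`-transitive, and for a `k`-subset the setwise and pointwise stabilisers have the same orbits outside it. -/
theorem result {α : Type*} [Fintype α] [DecidableEq α] (G : Subgroup (Equiv.Perm α)) {k : ℕ} (hk : k < Fintype.card α) (hgen : ∀ s : Finset α, s.card = k + 1 → ∀ σ : Equiv.Perm ↥s, ∃ g ∈ G, ∀ x : ↥s, g (x : α) = σ x) : MulAction.IsMultiplyPretransitive G α k ∧ ∀ s : Finset α, s.card = k → ∀ a b : α, a ∉ s → b ∉ s → (∃ g ∈ G, g • s = s ∧ g a = b) → ∃ g ∈ G, (∀ x ∈ s, g x = x) ∧ g a = b := by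
  classical
  refine ⟨CfsgLib.SmallGroups.isMultiplyPretransitive_of_step hk ?_, ?_⟩
  · intro x i b hb
    set s := insert b (Finset.univ.map x) with hs
    have hbx : b ∉ Finset.univ.map x := fun h => by
      obtain ⟨j, -, hj⟩ := Finset.mem_map.mp h
      exact hb ⟨j, hj⟩
    have hsc : s.card = k + 1 := by
      rw [hs, Finset.card_insert_of_notMem hbx, Finset.card_map, Finset.card_univ, Fintype.card_fin]
    have hmem : ∀ j, x j ∈ s := fun j => Finset.mem_insert_of_mem (Finset.mem_map_of_mem x (Finset.mem_univ j))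
    obtain ⟨g, hg, hgs⟩ := hgen s hsc (Equiv.swap ⟨x i, hmem i⟩ ⟨b, Finset.mem_insert_self _ _⟩)
    refine ⟨⟨g, hg⟩, ?_, fun j hj => ?_⟩
    · have := hgs ⟨x i, hmem i⟩
      rw [Equiv.swap_apply_left] at this
      exact this
    · have := hgs ⟨x j, hmem j⟩
      rw [Equiv.swap_apply_of_ne_of_ne] at this
      · exact this
      · exact fun e => hj (x.injective (congrArg Subtype.val e))
      · exact fun e => hb ⟨j, congrArg Subtype.val e⟩
  · rintro s hs a b ha hb ⟨g, hg, hgs, hgab⟩
    have hsmem : ∀ x, x ∈ s → g x ∈ s := fun x hx => by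
      have h1 : g • x ∈ g • s := Finset.smul_mem_smul_finset hx
      rwa [hgs] at h1
    let τ : Equiv.Perm ↥s := Equiv.ofBijective (fun x => ⟨g x.1, hsmem x.1 x.2⟩)
      (Finite.injective_iff_bijective.mp fun x y h => Subtype.ext (g.injective (congrArg Subtype.val h)))
    have hτ : ∀ x : ↥s, ((τ x : ↥s) : α) = g x.1 := fun x => rfl
    -- undo g on s while fixing b
    set t := insert b s with ht
    let σ : Equiv.Perm ↥t := Equiv.Perm.ofSubtype (p := fun x : ↥t => x.1 ∈ s)
      (((Equiv.subtypeSubtypeEquivSubtype (p := fun x => x ∈ t) (q := fun x => x ∈ s)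
        (fun hx => Finset.mem_insert_of_mem hx)).symm).permCongr τ⁻¹)
    obtain ⟨h, hh, hhs⟩ := hgen t (by rw [ht, Finset.card_insert_of_notMem hb, hs]) σ
    refine ⟨h * g, mul_mem hh hg, fun x hx => ?_, ?_⟩
    · have h1 := hhs ⟨g x, Finset.mem_insert_of_mem (hsmem x hx)⟩
      rw [Equiv.Perm.mul_apply]
      refine h1.trans ?_
      show ((σ _ : ↥t) : α) = x
      simp only [σ]
      rw [Equiv.Perm.ofSubtype_apply_of_mem]
      rotate_left
      · exact hsmem x hx
      show ((τ⁻¹ ⟨g x, hsmem x hx⟩ : ↥s) : α) = x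
      have : (⟨g x, hsmem x hx⟩ : ↥s) = τ ⟨x, hx⟩ := rfl
      rw [this, ← Equiv.Perm.mul_apply, inv_mul_cancel, Equiv.Perm.one_apply]
    · rw [Equiv.Perm.mul_apply, hgab]
      refine (hhs ⟨b, Finset.mem_insert_self _ _⟩).trans ?_
      show ((σ _ : ↥t) : α) = b
      simp only [σ]
      rw [Equiv.Perm.ofSubtype_apply_of_not_mem]
      exact hb

end Cfsg.Agent.S0705
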