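import Cfsg.Statements.S0706
import Mathlib

set_option autoImplicit false
open Cfsg

namespace Cfsg.Agent.S0706

open MulAction in
theorem exists_smul_set {α : Type*} [DecidableEq α] (G : Subgroup (Equiv.Perm α)) {k : ℕ}
    (hgen : ∀ s : Finset α, s.card = k + 1 → ∀ σ : Equiv.Perm ↥s, ∃ g ∈ G, ∀ x : ↥s, g (x : α) = σ x) :
    ∀ (n : ℕ) (Γ Γ' : Finset α), Γ.card = k → Γ'.card = k → (Γ' \ Γ).card = n →
      ∃ g ∈ G, Γ.image g = Γ' := by
  intro n
  induction n with
  | zero =>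
    intro Γ Γ' h h' h0
    refine ⟨1, G.one_mem, ?_⟩
    rw [Finset.card_eq_zero, Finset.sdiff_eq_empty_iff_subset] at h0
    simp [Finset.eq_of_subset_of_card_le h0 (by omega)]
  | succ n ih =>
    intro Γ Γ' h h' hn
    obtain ⟨b, hb⟩ : ∃ b, b ∈ Γ' \ Γ := Finset.card_pos.mp (by omega)
    obtain ⟨a, ha⟩ : ∃ a, a ∈ Γ \ Γ' := Finset.card_pos.mp (by
      have h1 := Finset.card_sdiff_add_card_inter Γ Γ'
      have h2 := Finset.card_sdiff_add_card_inter Γ' Γ
      rw [Finset.inter_comm] at h2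
      omega)
    rw [Finset.mem_sdiff] at ha hb
    set s := insert b Γ with hs
    obtain ⟨g, hg, hgs⟩ := hgen s (by rw [hs, Finset.card_insert_of_notMem hb.2, h])
      (Equiv.swap ⟨a, Finset.mem_insert_of_mem ha.1⟩ ⟨b, Finset.mem_insert_self b Γ⟩)
    have him : Γ.image g = insert b (Γ.erase a) := by
      refine Finset.eq_of_subset_of_card_le (fun y hy => ?_) ?_
      · obtain ⟨x, hx, rfl⟩ := Finset.mem_image.mp hy
        have h1 := hgs ⟨x, Finset.mem_insert_of_mem hx⟩
        by_cases hxa : x = a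
        · subst hxa
          rw [Equiv.swap_apply_left] at h1
          exact h1 ▸ Finset.mem_insert_self _ _
        · have hxb : x ≠ b := fun e => hb.2 (e ▸ hx)
          rw [Equiv.swap_apply_of_ne_of_ne (fun e => hxa (congrArg Subtype.val e))
            (fun e => hxb (congrArg Subtype.val e))] at h1
          rw [h1]
          exact Finset.mem_insert_of_mem (Finset.mem_erase.mpr ⟨hxa, hx⟩)
      · rw [Finset.card_image_of_injective _ g.injective]
        refine (Finset.card_insert_le _ _).trans ?_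
        rw [Finset.card_erase_of_mem ha.1]
        have : 0 < Γ.card := Finset.card_pos.mpr ⟨a, ha.1⟩
        omega
    have hcard : (Γ.image g).card = k := by rw [Finset.card_image_of_injective _ g.injective, h]
    obtain ⟨g', hg', hgg⟩ := ih (Γ.image g) Γ' hcard h' (by
      rw [him, show Γ' \ insert b (Γ.erase a) = (Γ' \ Γ).erase b by
        ext y
        simp only [Finset.mem_sdiff, Finset.mem_insert, Finset.mem_erase]
        constructor
        · rintro ⟨hy, hy'⟩
          push Not at hy'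
          exact ⟨hy'.1, hy, fun hyΓ => ha.2 (by
            by_cases e : y = a
            · exact e ▸ hy
            · exact absurd hyΓ (hy'.2 e))⟩
        · rintro ⟨hyb, hy, hyΓ⟩
          exact ⟨hy, fun h => h.elim hyb fun h => hyΓ h.2⟩,
        Finset.card_erase_of_mem (Finset.mem_sdiff.mpr hb), hn]
      omega)
    exact ⟨g' * g, G.mul_mem hg' hg, by rw [← hgg, Finset.image_image]; rfl⟩

/-- In a generously `k`-transitive permutation group, for a prime `p ≤ k` and a `k`-set `Γ`, there are no `p` points outside `Γ` lying in distinct orbits of the pointwise stabiliser of `Γ` all of length prime to `p` (at most `p - 1` such orbits). -/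
theorem result {α : Type*} [Fintype α] [DecidableEq α] (G : Subgroup (Equiv.Perm α)) {k : ℕ} (hk : k < Fintype.card α) (hgen : ∀ s : Finset α, s.card = k + 1 → ∀ σ : Equiv.Perm ↥s, ∃ g ∈ G, ∀ x : ↥s, g (x : α) = σ x) {p : ℕ} (hp : p.Prime) (hpk : p ≤ k) (Γ : Finset α) (hΓ : Γ.card = k) (f : Fin p → α) (hf : ∀ i, f i ∉ Γ) (hdist : ∀ i j, i ≠ j → f j ∉ MulAction.orbit (fixingSubgroup G (Γ : Set α)) (f i)) : ∃ i, p ∣ Nat.card (MulAction.orbit (fixingSubgroup G (Γ : Set α)) (f i)) := by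
  classical
  by_contra hcon
  push Not at hcon
  haveI := Fact.mk hp
  set K := fixingSubgroup G (Γ : Set α) with hK
  have hKmem : ∀ x : G, x ∈ K ↔ ∀ a ∈ Γ, (x : Equiv.Perm α) a = a := fun x => by
    rw [hK, mem_fixingSubgroup_iff]; rfl
  -- a permutation of order `p` supported on a `p`-subset
  obtain ⟨C, hCΓ, hC⟩ := Finset.exists_subset_card_eq (hΓ ▸ hpk)
  obtain ⟨τ₀, hτ₀⟩ := exists_prime_orderOf_dvd_card' (G := Equiv.Perm C) p (by
    rw [Nat.card_perm, Nat.card_eq_fintype_card, Fintype.card_coe, hC]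
    exact Nat.dvd_factorial hp.pos le_rfl)
  set τ : Equiv.Perm α := Equiv.Perm.ofSubtype τ₀ with hτdef
  have hτ : orderOf τ = p := by
    rw [hτdef, orderOf_injective _ Equiv.Perm.ofSubtype_injective, hτ₀]
  have hτpow : ∀ (n : ℤ) (a : α), a ∉ C → (τ ^ n) a = a := fun n a ha => by
    rw [hτdef, ← map_zpow]
    exact Equiv.Perm.ofSubtype_apply_of_not_mem _ ha
  have hτΓ : ∀ (n : ℤ) (a : α), a ∈ Γ → (τ ^ n) a ∈ Γ := fun n a ha => by
    by_cases hc : a ∈ C
    · rw [hτdef, ← map_zpow, Equiv.Perm.ofSubtype_apply_of_mem _ hc]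
      exact hCΓ (Subtype.coe_prop _)
    · rwa [hτpow n a hc]
  -- the subgroup inducing powers of `τ`
  let L : Subgroup G :=
    { carrier := {x | ∃ n : ℤ, ∀ a ∈ Γ, (x : Equiv.Perm α) a = (τ ^ n) a}
      mul_mem' := by
        rintro x y ⟨n, hn⟩ ⟨m, hm⟩
        refine ⟨n + m, fun a ha => ?_⟩
        rw [Subgroup.coe_mul, Equiv.Perm.mul_apply, hm a ha, hn _ (hτΓ m a ha), zpow_add,
          Equiv.Perm.mul_apply]
      one_mem' := ⟨0, fun a _ => by simp⟩
      inv_mem' := by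
        rintro x ⟨n, hn⟩
        refine ⟨-n, fun a ha => ?_⟩
        rw [Subgroup.coe_inv, Equiv.Perm.inv_eq_iff_eq, hn _ (hτΓ (-n) a ha), ← Equiv.Perm.mul_apply,
          ← zpow_add, add_neg_cancel, zpow_zero, Equiv.Perm.one_apply] }
  obtain ⟨c₀, hc₀⟩ : ∃ c, c ∉ Γ := by
    by_contra h
    push Not at h
    have := Finset.eq_univ_of_forall h
    rw [this, Finset.card_univ] at hΓ
    omega
  have hext : ∀ (n : ℤ) (δ : α), δ ∉ Γ →
      ∃ h : G, (h : Equiv.Perm α) δ = δ ∧ ∀ a ∈ Γ, (h : Equiv.Perm α) a = (τ ^ n) a := by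
    intro n δ hδ
    have hfix : (τ ^ n) δ = δ := hτpow n δ fun h => hδ (hCΓ h)
    obtain ⟨g, hg, hgs⟩ := hgen (insert δ Γ) (by rw [Finset.card_insert_of_notMem hδ, hΓ])
      ((τ ^ n).subtypePerm (p := fun x => x ∈ insert δ Γ) fun x => by
        simp only [Finset.mem_insert]
        constructor
        · rintro (h | h)
          · left
            exact (τ ^ n).injective (h.trans hfix.symm)
          · right
            have h2 := hτΓ (-n) _ h
            rwa [← Equiv.Perm.mul_apply, ← zpow_add, neg_add_cancel, zpow_zero,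
              Equiv.Perm.one_apply] at h2
        · rintro (rfl | h)
          · exact Or.inl hfix
          · exact Or.inr (hτΓ n x h))
    exact ⟨⟨g, hg⟩, (hgs ⟨δ, Finset.mem_insert_self _ _⟩).trans hfix,
      fun a ha => hgs ⟨a, Finset.mem_insert_of_mem ha⟩⟩
  obtain ⟨g, -, hgΓ⟩ := hext 1 c₀ hc₀
  have hgpow : ∀ (m : ℕ) (a : α), a ∈ Γ → ((g : Equiv.Perm α) ^ m) a = (τ ^ m) a := by
    intro m
    induction m with
    | zero => intro a _; simp
    | succ m ih =>
      intro a ha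
      have h1 := hτΓ 1 a ha
      rw [zpow_one] at h1 hgΓ
      rw [pow_succ, Equiv.Perm.mul_apply, hgΓ a ha, ih _ h1, pow_succ, Equiv.Perm.mul_apply]
  have hcardL : Nat.card L = Nat.card K * p := by
    rw [← Nat.card_fin p, ← Nat.card_prod]
    symm
    refine Nat.card_eq_of_bijective (fun kn => ⟨(kn.1 : G) * g ^ (kn.2 : ℕ), ((kn.2 : ℕ) : ℤ),
      fun a ha => ?_⟩) ⟨?_, ?_⟩
    · rw [Subgroup.coe_mul, Subgroup.coe_pow, Equiv.Perm.mul_apply, hgpow _ a ha, zpow_natCast]
      refine (hKmem _).mp kn.1.2 _ ?_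
      simpa using hτΓ ((kn.2 : ℕ) : ℤ) a ha
    · rintro ⟨k₁, n₁⟩ ⟨k₂, n₂⟩ e
      have e' : (k₁ : G) * g ^ (n₁ : ℕ) = (k₂ : G) * g ^ (n₂ : ℕ) := congrArg Subtype.val e
      have hn : n₁ = n₂ := by
        apply Fin.ext
        refine pow_injOn_Iio_orderOf (x := τ) (by rw [Set.mem_Iio, hτ]; exact n₁.2)
          (by rw [Set.mem_Iio, hτ]; exact n₂.2) (Equiv.ext fun a => ?_)
        by_cases ha : a ∈ Γ
        · have h := congrArg (fun z : G => (z : Equiv.Perm α) a) e'
          simp only [Subgroup.coe_mul, Subgroup.coe_pow, Equiv.Perm.mul_apply, hgpow _ a ha] at h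
          have t1 := hτΓ ((n₁ : ℕ) : ℤ) a ha
          have t2 := hτΓ ((n₂ : ℕ) : ℤ) a ha
          rw [zpow_natCast] at t1 t2
          rwa [(hKmem _).mp k₁.2 _ t1, (hKmem _).mp k₂.2 _ t2] at h
        · have h1 := hτpow ((n₁ : ℕ) : ℤ) a fun h => ha (hCΓ h)
          have h2 := hτpow ((n₂ : ℕ) : ℤ) a fun h => ha (hCΓ h)
          rw [zpow_natCast] at h1 h2
          rw [h1, h2]
      subst hn
      exact Prod.ext (Subtype.ext (mul_right_cancel e')) rfl
    · rintro ⟨x, n, hn⟩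
      obtain ⟨m, hm⟩ : ∃ m : Fin p, τ ^ (m : ℕ) = τ ^ n := by
        refine ⟨⟨(n % (p : ℤ)).toNat, ?_⟩, ?_⟩
        · have := Int.emod_lt_of_pos n (show (0 : ℤ) < p by exact_mod_cast hp.pos)
          have := Int.emod_nonneg n (show (p : ℤ) ≠ 0 by exact_mod_cast hp.ne_zero)
          omega
        · rw [← zpow_natCast, Int.toNat_of_nonneg (Int.emod_nonneg _ (by exact_mod_cast hp.ne_zero)),
            ← hτ, zpow_mod_orderOf]
      refine ⟨⟨⟨x * (g ^ (m : ℕ))⁻¹, (hKmem _).mpr fun a ha => ?_⟩, m⟩,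
        Subtype.ext (inv_mul_cancel_right _ _)⟩
      obtain ⟨b, hb, rfl⟩ : ∃ b ∈ Γ, ((g : Equiv.Perm α) ^ (m : ℕ)) b = a := by
        refine ⟨(τ ^ (-n)) a, hτΓ _ a ha, ?_⟩
        rw [hgpow _ _ (hτΓ _ a ha), hm, ← Equiv.Perm.mul_apply, ← zpow_add, add_neg_cancel,
          zpow_zero, Equiv.Perm.one_apply]
      simp only [Subgroup.coe_mul, Subgroup.coe_inv, Subgroup.coe_pow, Equiv.Perm.mul_apply,
        Equiv.Perm.inv_def, Equiv.symm_apply_apply]
      rw [hn b hb, hgpow _ b hb, hm]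
  -- the orbits are invariant under `L`
  have hinv : ∀ x ∈ L, ∀ δ, δ ∉ Γ → (x : Equiv.Perm α) δ ∈ MulAction.orbit K δ := by
    rintro x ⟨n, hn⟩ δ hδ
    obtain ⟨h, hhδ, hhΓ⟩ := hext n δ hδ
    refine ⟨⟨x * h⁻¹, (hKmem _).mpr fun a ha => ?_⟩, ?_⟩
    · obtain ⟨b, hb, rfl⟩ : ∃ b ∈ Γ, (h : Equiv.Perm α) b = a := by
        refine ⟨(τ ^ (-n)) a, hτΓ _ a ha, ?_⟩
        rw [hhΓ _ (hτΓ _ a ha), ← Equiv.Perm.mul_apply, ← zpow_add, add_neg_cancel, zpow_zero,
          Equiv.Perm.one_apply]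
      rw [Subgroup.coe_mul, Subgroup.coe_inv, Equiv.Perm.mul_apply, Equiv.Perm.inv_def, Equiv.symm_apply_apply,
        hn b hb, hhΓ b hb]
    · show ((x * h⁻¹ : G) : Equiv.Perm α) δ = _
      rw [Subgroup.coe_mul, Subgroup.coe_inv, Equiv.Perm.mul_apply]
      congr 1
      rw [Equiv.Perm.inv_eq_iff_eq, hhδ]
  have horbΓ : ∀ i, ∀ δ ∈ MulAction.orbit K (f i), δ ∉ Γ := by
    rintro i δ ⟨x, rfl⟩ hmem
    apply hf i
    have h1 := (hKmem _).mp x.2 _ hmem
    have : x • f i = f i := ((x : G) : Equiv.Perm α).injective h1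
    rwa [← this]
  -- fixed points of a Sylow subgroup of `L`
  obtain ⟨Q⟩ : Nonempty (Sylow p L) := inferInstance
  have hfix : ∀ i, ∃ δ ∈ MulAction.orbit K (f i), ∀ q : (Q : Subgroup L),
      (((q : L) : G) : Equiv.Perm α) δ = δ := by
    intro i
    have hmem : ∀ x : L, ∀ δ ∈ MulAction.orbit K (f i),
        ((x : G) : Equiv.Perm α) δ ∈ MulAction.orbit K (f i) := by
      intro x δ hδ
      rw [← MulAction.orbit_eq_iff.mpr hδ]
      exact hinv x x.2 δ (horbΓ i δ hδ)
    letI : MulAction (Q : Subgroup L) (MulAction.orbit K (f i)) :=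
      { smul := fun q δ => ⟨(((q : L) : G) : Equiv.Perm α) δ, hmem _ δ δ.2⟩
        one_smul := fun δ => Subtype.ext rfl
        mul_smul := fun q r δ => Subtype.ext rfl }
    obtain ⟨δ, hδ⟩ := Q.isPGroup'.nonempty_fixed_point_of_prime_not_dvd_card
      (MulAction.orbit K (f i)) (by convert hcon i using 3)
    exact ⟨δ, δ.2, fun q => congrArg Subtype.val (hδ q)⟩
  choose δ hδ hδQ using hfix
  have hδinj : Function.Injective δ := by
    intro i j e
    by_contra hne
    apply hdist i j hne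
    rw [← MulAction.orbit_eq_iff]
    rw [← MulAction.orbit_eq_iff.mpr (hδ j), ← e, MulAction.orbit_eq_iff.mpr (hδ i)]
  set Γ' := Γ \ C ∪ Finset.univ.image δ with hΓ'
  have hΓ'c : Γ'.card = k := by
    rw [hΓ', Finset.card_union_of_disjoint, Finset.card_sdiff_of_subset hCΓ,
      Finset.card_image_of_injective _ hδinj, hΓ, hC, Finset.card_univ, Fintype.card_fin]
    · omega
    · rw [Finset.disjoint_left]
      intro a ha ha'
      obtain ⟨i, -, rfl⟩ := Finset.mem_image.mp ha'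
      exact horbΓ i _ (hδ i) (Finset.mem_sdiff.mp ha).1
  have hQle : (Q : Subgroup L).map L.subtype ≤ fixingSubgroup G (Γ' : Set α) := by
    rintro _ ⟨q, hq, rfl⟩
    rw [mem_fixingSubgroup_iff]
    intro a ha
    show ((q : G) : Equiv.Perm α) a = a
    rcases Finset.mem_union.mp (Finset.mem_coe.mp ha) with h | h
    · rw [Finset.mem_sdiff] at h
      obtain ⟨n, hn⟩ := q.2
      rw [hn a h.1, hτpow n a h.2]
    · obtain ⟨i, -, rfl⟩ := Finset.mem_image.mp h
      exact hδQ i ⟨q, hq⟩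
  obtain ⟨t, ht, htΓ⟩ := exists_smul_set G hgen _ Γ Γ' hΓ hΓ'c rfl
  have hsame : Nat.card (fixingSubgroup G (Γ' : Set α)) = Nat.card K := by
    open scoped Pointwise in
    have himg : (⟨t, ht⟩ : G) • (Γ : Set α) = (Γ' : Set α) := by
      rw [← htΓ, Finset.coe_image]
      rfl
    rw [hK, ← SubMulAction.fixingSubgroup_map_conj_eq himg,
      Subgroup.card_map_of_injective (MulAut.conj _).injective]
  have hdiv := Subgroup.card_dvd_of_le hQle
  rw [Subgroup.card_map_of_injective L.subtype_injective, Q.card_eq_multiplicity, hsame, hcardL,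
    Nat.factorization_mul Nat.card_pos.ne' hp.ne_zero, Finsupp.add_apply,
    hp.factorization_self] at hdiv
  exact Nat.pow_succ_factorization_not_dvd Nat.card_pos.ne' hp hdiv

end Cfsg.Agent.S0706
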