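import Mathlib
import Cfsg.Statements.S0707


set_option autoImplicit false
open Cfsg

namespace Cfsg.Agent.S0707

/-- In a primitive permutation group, distinct points have distinct stabilisers unless the group is regular of prime degree. -/
theorem result {α : Type*} (G : Subgroup (Equiv.Perm α)) [MulAction.IsPreprimitive G α] (h : ¬ (Nat.card α).Prime ∨ ∃ a : α, MulAction.stabilizer G a ≠ ⊥) {a b : α} (hab : a ≠ b) : MulAction.stabilizer G a ≠ MulAction.stabilizer G b := by
  intro hst
  haveI : Nontrivial α := ⟨⟨a, b, hab⟩⟩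
  set S := MulAction.stabilizer G a with hS
  -- the set of points with stabiliser `S` is a block
  set B : Set α := {x | MulAction.stabilizer G x = S} with hB
  open Pointwise in
  have haB : a ∈ B := rfl
  have hblock : MulAction.IsBlock G B := by
    rw [MulAction.isBlock_iff_smul_eq_or_disjoint]
    intro g
    by_cases hg : Disjoint (g • B) B
    · exact Or.inr hg
    left
    obtain ⟨y, ⟨x, hx, rfl⟩, hy⟩ := Set.not_disjoint_iff.mp hg
    have key : ∀ z ∈ B, MulAction.stabilizer G (g • z) = S := by
      intro z hz
      have h2 : MulAction.stabilizer G (g • x) = S := hy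
      rw [MulAction.stabilizer_smul_eq_stabilizer_map_conj, hz]
      rw [MulAction.stabilizer_smul_eq_stabilizer_map_conj, hx] at h2
      exact h2
    have key' : ∀ z ∈ B, MulAction.stabilizer G (g⁻¹ • z) = S := by
      intro z hz
      rw [MulAction.stabilizer_smul_eq_stabilizer_map_conj, hz, map_inv]
      have h3 := key a haB
      rw [MulAction.stabilizer_smul_eq_stabilizer_map_conj, ← hS] at h3
      conv_lhs => rw [← h3]
      rw [Subgroup.map_map]
      have hid : (((MulAut.conj g)⁻¹).toMonoidHom.comp (MulAut.conj g).toMonoidHom) = MonoidHom.id G := by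
        ext z; simp [mul_assoc]
      rw [hid, Subgroup.map_id]
    ext z
    rw [Set.mem_smul_set_iff_inv_smul_mem]
    exact ⟨fun hz => by have := key _ hz; rwa [smul_inv_smul] at this, fun hz => key' z hz⟩
  rcases MulAction.IsPreprimitive.isTrivialBlock_of_isBlock hblock with hs | hu
  · exact hab (hs haB hst.symm)
  have hall : ∀ x, MulAction.stabilizer G x = S := fun x => (hu ▸ Set.mem_univ x : x ∈ B)
  have hbot : ∀ x : α, MulAction.stabilizer G x = ⊥ := by
    intro x
    rw [eq_bot_iff]
    intro g hg
    refine Subgroup.mem_bot.mpr (Subtype.ext (Equiv.ext fun y => ?_))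
    rw [hall x, ← hall y] at hg
    exact hg
  rcases h with hp | ⟨c, hc⟩
  · have hco := MulAction.isCoatom_stabilizer_iff_preprimitive (G := G) (X := α) a
    have hcoat : IsCoatom (⊥ : Subgroup G) := hbot a ▸ hco.mpr inferInstance
    haveI : Nontrivial G := by
      obtain ⟨g, hg⟩ := MulAction.exists_smul_eq G a b
      exact ⟨⟨g, 1, fun h => hab (by rw [← hg, h, one_smul])⟩⟩
    have htop : ∀ H : Subgroup G, H = ⊥ ∨ H = ⊤ := fun H => by
      by_cases hH : H = ⊥
      · exact Or.inl hH
      · exact Or.inr (hcoat.2 H (bot_lt_iff_ne_bot.mpr hH))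
    obtain ⟨g, hg1⟩ := exists_ne (1 : G)
    have hz : Subgroup.zpowers g = ⊤ :=
      (htop _).resolve_left fun h => hg1 (Subgroup.zpowers_eq_bot.mp h)
    haveI : IsCyclic G := ⟨g, fun x => Subgroup.mem_zpowers_iff.mp (by rw [hz]; exact Subgroup.mem_top x)⟩
    letI : CommGroup G := IsCyclic.commGroup
    haveI : IsSimpleGroup G := { eq_bot_or_eq_top_of_normal := fun H _ => htop H }
    have hcard : Nat.card α = Nat.card G := by
      refine (Nat.card_eq_of_bijective (fun g : G => g • a) ⟨fun x y hxy => ?_, fun y => MulAction.exists_smul_eq G a y⟩).symm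
      have : y⁻¹ * x ∈ MulAction.stabilizer G a := by
        rw [MulAction.mem_stabilizer_iff, mul_smul, show x • a = y • a from hxy, inv_smul_smul]
      rw [hbot a, Subgroup.mem_bot, inv_mul_eq_one] at this
      exact this.symm
    haveI : Finite G := IsSimpleGroup.finite
    exact hp (hcard ▸ IsSimpleGroup.prime_card)
  · exact hc (hbot c)

end Cfsg.Agent.S0707
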