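import Cfsg.Statements.S0709
import Cfsg.Agent.Lib.SmallGroups.WittExtension
import Mathlib

set_option autoImplicit false
open Cfsg

namespace Cfsg.Agent.S0709

/-- Witt's Lemma for constructing transitive extensions. Points `q 1, …, q t` (`t ≥ 2`) of a finite set are given; `G` fixes `q i` for `i ≥ 3` and is doubly transitive on the remaining points; `s 1 ∈ G` swaps `q 1, q 2`; for `2 ≤ i ≤ t-1`, `s i` swaps `q i, q (i+1)` and fixes the other `q j`; with `H` the stabiliser of `q 1, q 2` in `G`: `s i ^ 2 ∈ H`, `(s i * s (i+1)) ^ 3 ∈ H`, `(s i * s j) ^ 2 ∈ H` for `j ≥ i + 2`, and `s i` (`i ≥ 2`) normalises the stabiliser of `q 2` in `G`. Then `G` and the `s i` generate a `t`-transitive group whose pointwise stabiliser of the `q`'s is `H`. -/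
theorem result {α : Type*} [Fintype α] [DecidableEq α] (t : ℕ) (ht : 2 ≤ t) (q : ℕ → α) (hq : ∀ i j : ℕ, 1 ≤ i → i ≤ t → 1 ≤ j → j ≤ t → q i = q j → i = j) (G : Subgroup (Equiv.Perm α)) (hfix : ∀ g ∈ G, ∀ i : ℕ, 3 ≤ i → i ≤ t → g (q i) = q i) (h2 : ∀ a b c d : α, (∀ i, 3 ≤ i → i ≤ t → a ≠ q i ∧ b ≠ q i ∧ c ≠ q i ∧ d ≠ q i) → a ≠ b → c ≠ d → ∃ g ∈ G, g a = c ∧ g b = d) (s : ℕ → Equiv.Perm α) (hs1 : s 1 ∈ G) (hs1q : s 1 (q 1) = q 2 ∧ s 1 (q 2) = q 1) (hsq : ∀ i : ℕ, 2 ≤ i → i + 1 ≤ t → s i (q i) = q (i + 1) ∧ s i (q (i + 1)) = q i ∧ ∀ j : ℕ, 1 ≤ j → j ≤ t → j ≠ i → j ≠ i + 1 → s i (q j) = q j) (H : Subgroup (Equiv.Perm α)) (hH : H = G ⊓ MulAction.stabilizer (Equiv.Perm α) (q 1) ⊓ MulAction.stabilizer (Equiv.Perm α) (q 2)) (hsq2 : ∀ i : ℕ, 1 ≤ i → i + 1 ≤ t → s i ^ 2 ∈ H) (hbraid : ∀ i : ℕ, 1 ≤ i → i + 2 ≤ t → (s i * s (i + 1)) ^ 3 ∈ H) (hcomm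 : ∀ i j : ℕ, 1 ≤ i → i + 2 ≤ j → j + 1 ≤ t → (s i * s j) ^ 2 ∈ H ∧ (s j * s i) ^ 2 ∈ H) (hnorm : ∀ i : ℕ, 2 ≤ i → i + 1 ≤ t → ∀ g ∈ G ⊓ MulAction.stabilizer (Equiv.Perm α) (q 2), s i * g * (s i)⁻¹ ∈ G ⊓ MulAction.stabilizer (Equiv.Perm α) (q 2)) : MulAction.IsMultiplyPretransitive ↥(Subgroup.closure ((G : Set (Equiv.Perm α)) ∪ {x | ∃ i : ℕ, 2 ≤ i ∧ i + 1 ≤ t ∧ x = s i})) α t ∧ Subgroup.closure ((G : Set (Equiv.Perm α)) ∪ {x | ∃ i : ℕ, 2 ≤ i ∧ i + 1 ≤ t ∧ x = s i}) ⊓ fixingSubgroup (Equiv.Perm α) {x | ∃ i : ℕ, 1 ≤ i ∧ i ≤ t ∧ x = q i} = H := by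
  have hHm : ∀ g, g ∈ H ↔ g ∈ G ∧ g (q 1) = q 1 ∧ g (q 2) = q 2 := fun g => by
    rw [hH]; exact and_assoc
  obtain ⟨htr, hint⟩ := CfsgLib.SmallGroups.Witt.witt ht hq hfix h2 hs1 hs1q hsq H hHm hsq2 hbraid hcomm
    (fun i h1 h2 g hg h => hnorm i h1 h2 g ⟨hg, h⟩)
  refine ⟨?_, ?_⟩
  · rw [MulAction.isMultiplyPretransitive_iff]
    intro x y
    have key : ∀ x : Fin t ↪ α, ∃ g ∈ CfsgLib.SmallGroups.Witt.ext G s t,
        ∀ i : Fin t, g (x i) = q (i.val + 1) := by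
      intro x
      obtain ⟨g, hg, hgx⟩ := htr (fun i => if h : i - 1 < t then x ⟨i - 1, h⟩ else q i)
        (fun i j h1 h2 h3 h4 e => by
          simp only [dif_pos (show i - 1 < t by omega), dif_pos (show j - 1 < t by omega)] at e
          have := Fin.val_eq_of_eq (x.injective e)
          simp only at this
          omega)
      refine ⟨g, hg, fun i => ?_⟩
      have := hgx (i.val + 1) (by omega) i.2
      simp only [Nat.add_sub_cancel, dif_pos i.2] at this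
      exact this
    obtain ⟨g, hg, hgx⟩ := key x
    obtain ⟨g', hg', hgy⟩ := key y
    refine ⟨⟨g'⁻¹ * g, Subgroup.mul_mem _ (Subgroup.inv_mem _ hg') hg⟩, ?_⟩
    ext i
    show (g'⁻¹ * g) (x i) = y i
    rw [Equiv.Perm.mul_apply, Equiv.Perm.inv_eq_iff_eq, hgx, hgy]
  · ext g
    rw [Subgroup.mem_inf, mem_fixingSubgroup_iff, ← hint g]
    exact and_congr Iff.rfl ⟨fun h i h1 h2 => h (q i) ⟨i, h1, h2, rfl⟩,
      fun h y ⟨i, h1, h2, e⟩ => by subst e; exact h i h1 h2⟩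

end Cfsg.Agent.S0709
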