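import Cfsg.Statements.S0712
import Cfsg.Agent.Lib.SmallGroups.Perm
import Mathlib

set_option autoImplicit false
open Cfsg

namespace Cfsg.Agent.S0712

/-- Jordan: a primitive group in which the pointwise stabiliser of a set `s` is doubly transitive on the complement of `s` (which has at least 2 points) is `(|s| + 2)`-transitive. -/
theorem result {α : Type*} [Fintype α] [DecidableEq α] (G : Subgroup (Equiv.Perm α)) (hG : MulAction.IsPreprimitive G α) (s : Set α) {m : ℕ} (hsm : s.ncard = m) (hm : m + 2 ≤ Fintype.card α) (h2 : MulAction.IsMultiplyPretransitive (fixingSubgroup G s) (SubMulAction.ofFixingSubgroup G s) 2) : MulAction.IsMultiplyPretransitive G α (m + 2) := by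
  classical
  have hcard : Nat.card α = Fintype.card α := Nat.card_eq_fintype_card
  -- it is enough that G is m-transitive
  suffices hmt : MulAction.IsMultiplyPretransitive G α m by
    rw [MulAction.isMultiplyPretransitive_iff]
    suffices hb : ∀ x : Fin (m + 2) ↪ α, ∀ u v : α, u ∉ s → v ∉ s → u ≠ v →
        ∀ e : Fin m ≃ s, ∃ g : G, (∀ i : Fin m, g • x (Fin.castAdd 2 i) = (e i : α)) ∧
          g • x (Fin.natAdd m 0) = u ∧ g • x (Fin.natAdd m 1) = v by
      intro x y
      obtain ⟨e⟩ : Nonempty (Fin m ≃ s) := Finite.card_eq.mp (by rw [Nat.card_fin, Nat.card_coe_set_eq, hsm])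
      have hcompl : 2 ≤ (sᶜ).ncard := by
        have := Set.ncard_add_ncard_compl s
        omega
      obtain ⟨u, hu, v, hv, huv⟩ := (Set.one_lt_ncard (s.toFinite.subset le_rfl |> fun _ => Set.toFinite _)).mp hcompl
      obtain ⟨g₁, h₁, h₁u, h₁v⟩ := hb x u v hu hv huv e
      obtain ⟨g₂, h₂, h₂u, h₂v⟩ := hb y u v hu hv huv e
      refine ⟨g₂⁻¹ * g₁, Function.Embedding.ext fun i => ?_⟩
      rw [Function.Embedding.smul_apply, mul_smul, inv_smul_eq_iff]
      induction i using Fin.addCases with
      | left i => rw [h₁, h₂]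
      | right i => fin_cases i
                   · exact h₁u.trans h₂u.symm
                   · exact h₁v.trans h₂v.symm
    intro x u v hu hv huv e
    obtain ⟨g, hg⟩ := MulAction.exists_smul_eq G ((Fin.castAddEmb 2).trans x)
      (e.toEmbedding.trans (Function.Embedding.subtype _))
    have hg' : ∀ i : Fin m, g • x (Fin.castAdd 2 i) = (e i : α) := fun i => by
      have := congrArg (fun f : Fin m ↪ α => f i) hg
      exact this
    have hout : ∀ j : Fin 2, g • x (Fin.natAdd m j) ∈ SubMulAction.ofFixingSubgroup G s := by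
      intro j hmem
      obtain ⟨i, hi⟩ := e.surjective ⟨_, hmem⟩
      have h3 := hg' i
      rw [hi] at h3
      have h4 := x.injective (MulAction.injective g h3)
      rw [Fin.ext_iff] at h4
      simp only [Fin.val_castAdd, Fin.val_natAdd] at h4
      omega
    have hne : (⟨_, hout 0⟩ : SubMulAction.ofFixingSubgroup G s) ≠ ⟨_, hout 1⟩ := by
      intro h
      have := x.injective (MulAction.injective g (congrArg Subtype.val h))
      simp [Fin.ext_iff] at this
    obtain ⟨k, hk0, hk1⟩ := MulAction.is_two_pretransitive_iff.mp h2 hne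
      (show (⟨u, hu⟩ : SubMulAction.ofFixingSubgroup G s) ≠ ⟨v, hv⟩ from
        fun h => huv (congrArg Subtype.val h))
    refine ⟨(k : G) * g, fun i => ?_, ?_, ?_⟩
    · rw [mul_smul, hg']
      exact (mem_fixingSubgroup_iff G).mp k.2 _ (e i).2
    · rw [mul_smul]; exact congrArg Subtype.val hk0
    · rw [mul_smul]; exact congrArg Subtype.val hk1
  rcases Nat.eq_zero_or_pos m with rfl | hm0
  · exact MulAction.is_zero_pretransitive
  rcases hm.eq_or_lt with heq | hlt
  · -- the fixing subgroup contains a transposition
    have htop : G = ⊤ := by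
      have hcompl : (sᶜ).ncard = 2 := by have := Set.ncard_add_ncard_compl s; omega
      obtain ⟨u, v, huv, huvs⟩ := Set.ncard_eq_two.mp hcompl
      have hu : u ∉ s := by show u ∈ sᶜ; rw [huvs]; simp
      have hv : v ∉ s := by show v ∈ sᶜ; rw [huvs]; simp
      obtain ⟨k, hku, hkv⟩ := MulAction.is_two_pretransitive_iff.mp h2
        (show (⟨u, hu⟩ : SubMulAction.ofFixingSubgroup G s) ≠ ⟨v, hv⟩ from
          fun h => huv (congrArg Subtype.val h))
        (show (⟨v, hv⟩ : SubMulAction.ofFixingSubgroup G s) ≠ ⟨u, hu⟩ from
          fun h => huv (congrArg Subtype.val h).symm)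
      have hswap : ((k : G) : Equiv.Perm α) = Equiv.swap u v := by
        ext z
        by_cases hzu : z = u
        · subst hzu; rw [Equiv.swap_apply_left]; exact congrArg Subtype.val hku
        by_cases hzv : z = v
        · subst hzv; rw [Equiv.swap_apply_right]; exact congrArg Subtype.val hkv
        rw [Equiv.swap_apply_of_ne_of_ne hzu hzv]
        have hz : z ∈ s := by
          by_contra h
          have : z ∈ sᶜ := h
          rw [huvs] at this
          simp [hzu, hzv] at this
        exact (mem_fixingSubgroup_iff G).mp k.2 z hz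
      exact Equiv.Perm.subgroup_eq_top_of_isPreprimitive_of_isSwap_mem hG _
        ⟨u, v, huv, hswap⟩ k.1.2
    subst htop
    rw [MulAction.isMultiplyPretransitive_iff]
    intro x y
    obtain ⟨σ, hσ⟩ := Equiv.Perm.exists_smul_eq_embedding x y
    exact ⟨⟨σ, trivial⟩, hσ⟩
  · haveI := MulAction.isPreprimitive_of_is_two_pretransitive h2
    haveI := hG.isMultiplyPreprimitive (s := s) (n := m - 1) (by omega) (by rw [hcard]; omega) inferInstance
    haveI : MulAction.IsMultiplyPretransitive G α (m - 1 + 2) :=
      MulAction.IsMultiplyPreprimitive.isMultiplyPretransitive ..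
    exact MulAction.isMultiplyPretransitive_of_le (n := m - 1 + 2) (by omega) (by rw [hcard]; omega)

end Cfsg.Agent.S0712
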