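import Cfsg.Statements.S0714
import Cfsg.Agent.Lib.SmallGroups.Perm
import Mathlib

set_option autoImplicit false
open Cfsg

namespace Cfsg.Agent.S0714

theorem sub_mem' {α : Type*} [Fintype α] [DecidableEq α] {K : Type*} [Field K]
    (W : Subrepresentation (Cfsg.permRep K (alternatingGroup α) α)) {f : α → K}
    (hf : f ∈ W.toSubmodule) {σ : Equiv.Perm α} (hσ : Equiv.Perm.sign σ = 1) :
    (fun x => f (σ x) - f x) ∈ W.toSubmodule := by
  have h := W.apply_mem_toSubmodule ⟨σ⁻¹, by simp [Equiv.Perm.mem_alternatingGroup, hσ]⟩ hf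
  have := W.toSubmodule.sub_mem h hf
  convert this using 1
  funext x
  simp [Cfsg.permRep, Subgroup.smul_def, Equiv.Perm.inv_def]

theorem exists_other {α : Type*} [Fintype α] (hα : 5 ≤ Fintype.card α) (S : Finset α) (hS : S.card < 5) :
    ∃ x, x ∉ S := by
  by_contra h
  push Not at h
  have : S = Finset.univ := Finset.eq_univ_of_forall h
  rw [this, Finset.card_univ] at hS
  omega

/-- Over any field, the permutation module of the alternating group of degree at least 5 has exactly four invariant subspaces: zero, the constant functions, the functions with coordinate sum zero, and everything. -/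
theorem result {α : Type*} [Fintype α] [DecidableEq α] (hα : 5 ≤ Fintype.card α) {K : Type*} [Field K] (W : Subrepresentation (Cfsg.permRep K (alternatingGroup α) α)) : W.toSubmodule = ⊥ ∨ W = Cfsg.permConstants K (alternatingGroup α) α ∨ W = Cfsg.permSumZero K (alternatingGroup α) α ∨ W.toSubmodule = ⊤ := by
  classical
  by_cases hc : ∀ f ∈ W.toSubmodule, ∀ a b : α, f a = f b
  · by_cases hb : W.toSubmodule = ⊥
    · exact Or.inl hb
    refine Or.inr (Or.inl (Subrepresentation.toSubmodule_injective (le_antisymm ?_ ?_)))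
    · intro f hf
      obtain ⟨a⟩ : Nonempty α := Fintype.card_pos_iff.mp (by omega)
      exact Submodule.mem_span_singleton.mpr ⟨f a, funext fun x => by simp [hc f hf x a]⟩
    · show Submodule.span K {fun _ : α => (1 : K)} ≤ W.toSubmodule
      rw [Submodule.span_singleton_le_iff_mem]
      obtain ⟨f, hf, hf0⟩ := Submodule.exists_mem_ne_zero_of_ne_bot hb
      obtain ⟨a, ha⟩ := Function.ne_iff.mp hf0
      convert W.toSubmodule.smul_mem (f a)⁻¹ hf using 1
      funext x
      rw [Pi.smul_apply, smul_eq_mul, hc f hf x a, inv_mul_cancel₀ ha]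
  push Not at hc
  obtain ⟨f, hf, a, b, hfab⟩ := hc
  have hab : a ≠ b := fun h => hfab (congrArg f h)
  obtain ⟨c, hc⟩ := exists_other hα {a, b} (by have := Finset.card_le_two (a := a) (b := b); omega)
  obtain ⟨d, hd⟩ := exists_other hα {a, b, c} (by have := Finset.card_le_three (a := a) (b := b) (c := c); omega)
  obtain ⟨e, he⟩ := exists_other hα {a, b, c, d} (by have := Finset.card_le_four (a := a) (b := b) (c := c) (d := d); omega)
  simp only [Finset.mem_insert, Finset.mem_singleton, not_or] at hc hd he
  obtain ⟨hca, hcb⟩ := hc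
  obtain ⟨hda, hdb, hdc⟩ := hd
  obtain ⟨hea, heb, hec, hed⟩ := he
  -- the difference of two standard basis vectors
  let D : α → α → (α → K) := fun i j x => (if x = i then 1 else 0) - (if x = j then 1 else 0)
  obtain ⟨i, j, hij, hD⟩ : ∃ i j, i ≠ j ∧ D i j ∈ W.toSubmodule := by
    have h1 := sub_mem' W hf (σ := Equiv.swap a b * Equiv.swap c d)
      (by simp [hab, Ne.symm hdc])
    set u := f b - f a with hu
    set w := f d - f c with hw
    have hu0 : u ≠ 0 := sub_ne_zero.mpr (Ne.symm hfab)
    have hv : (fun x => u * D a b x + w * D c d x) ∈ W.toSubmodule := by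
      convert h1 using 1
      funext x
      simp only [D, hu, hw, Equiv.Perm.mul_apply]
      by_cases hxa : x = a
      · subst hxa; simp [hab, Ne.symm hca, Ne.symm hda, Equiv.swap_apply_of_ne_of_ne]
      by_cases hxb : x = b
      · subst hxb; simp [hab.symm, Ne.symm hcb, Ne.symm hdb, Equiv.swap_apply_of_ne_of_ne]
      by_cases hxc : x = c
      · subst hxc; simp [hca, hcb, hda, hdb, Ne.symm hdc, Equiv.swap_apply_of_ne_of_ne]
      by_cases hxd : x = d
      · subst hxd; simp [hca, hcb, hda, hdb, hdc, Equiv.swap_apply_of_ne_of_ne]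
      simp [hxa, hxb, hxc, hxd, Equiv.swap_apply_of_ne_of_ne]
    by_cases hw0 : w = 0
    · refine ⟨a, b, hab, ?_⟩
      convert W.toSubmodule.smul_mem u⁻¹ hv using 1
      funext x
      simp [hw0, inv_mul_cancel_left₀ hu0]
    have h2 := sub_mem' W hv (σ := Equiv.swap e d * Equiv.swap d c)
      (by simp [hed, hdc])
    have hz : (fun x => D d c x + D d e x) ∈ W.toSubmodule := by
      convert W.toSubmodule.smul_mem w⁻¹ h2 using 1
      funext x
      simp only [D, Equiv.Perm.mul_apply, Pi.smul_apply, smul_eq_mul]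
      by_cases hxc : x = c
      · subst hxc
        simp [hca, hcb, hda, hdb, hdc, Ne.symm hdc, hea, heb, hec, Ne.symm hec, hed, Equiv.swap_apply_of_ne_of_ne]
        field_simp
      by_cases hxd : x = d
      · subst hxd
        simp [hca, hcb, hda, hdb, hdc, Ne.symm hdc, hec, Ne.symm hec, hed, Ne.symm hed, Equiv.swap_apply_of_ne_of_ne]
        try field_simp
        try ring
      by_cases hxe : x = e
      · subst hxe
        simp [hda, hdb, hdc, Ne.symm hdc, hea, heb, hec, hed, Equiv.swap_apply_of_ne_of_ne]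
        field_simp
      simp [hxc, hxd, hxe, Equiv.swap_apply_of_ne_of_ne]
    have h3 := sub_mem' W hz (σ := Equiv.swap c b * Equiv.swap b a)
      (by simp [hcb, hab.symm])
    refine ⟨c, a, hca, ?_⟩
    convert h3 using 1
    funext x
    simp only [D, Equiv.Perm.mul_apply]
    by_cases hxa : x = a
    · subst hxa
      simp [hab, hab.symm, hca, Ne.symm hca, hcb, Ne.symm hda, Ne.symm hea, hdc, hec, hdb, heb, Ne.symm hdc, Ne.symm hec, Equiv.swap_apply_of_ne_of_ne]
    by_cases hxb : x = b
    · subst hxb
      simp [hab, hab.symm, Ne.symm hca, Ne.symm hcb, Ne.symm hda, Ne.symm hea, Ne.symm hdb, Ne.symm heb, Equiv.swap_apply_of_ne_of_ne]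
    by_cases hxc : x = c
    · subst hxc
      simp [hca, hcb, Ne.symm hdb, Ne.symm heb, Ne.symm hdc, Ne.symm hec, Ne.symm hcb, Equiv.swap_apply_of_ne_of_ne]
    simp [hxa, hxb, hxc, Equiv.swap_apply_of_ne_of_ne]
  -- all differences lie in W
  have hall : ∀ i' j', i' ≠ j' → D i' j' ∈ W.toSubmodule := by
    intro i' j' h'
    have h2 : MulAction.IsMultiplyPretransitive (alternatingGroup α) α 2 := by
      haveI := alternatingGroup.isMultiplyPretransitive α
      exact MulAction.isMultiplyPretransitive_of_le (n := Nat.card α - 2)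
        (by rw [Nat.card_eq_fintype_card]; omega) (Nat.sub_le _ _)
    obtain ⟨g, hgi, hgj⟩ := MulAction.is_two_pretransitive_iff.mp h2 hij h'
    have h := W.apply_mem_toSubmodule g hD
    convert h using 1
    funext x
    show D i' j' x = D i j (g⁻¹ • x)
    simp only [D, inv_smul_eq_iff, hgi, hgj]
  have hM : (Cfsg.permSumZero K (alternatingGroup α) α).toSubmodule ≤ W.toSubmodule := by
    intro v hv
    have hv0 : ∑ x, v x = 0 := hv
    have hvv : v = ∑ x, v x • D x a := by
      funext y
      simp only [D, Finset.sum_apply, Pi.smul_apply, smul_eq_mul, mul_sub, Finset.sum_sub_distrib,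
        ← Finset.sum_mul, hv0, zero_mul, sub_zero]
      simp
    rw [hvv]
    refine W.toSubmodule.sum_mem fun x _ => ?_
    by_cases hx : x = a
    · have : D x a = 0 := funext fun y => by simp [D, hx]
      rw [this, smul_zero]; exact W.toSubmodule.zero_mem
    · exact W.toSubmodule.smul_mem _ (hall x a hx)
  by_cases hW : W.toSubmodule ≤ (Cfsg.permSumZero K (alternatingGroup α) α).toSubmodule
  · exact Or.inr (Or.inr (Or.inl (Subrepresentation.toSubmodule_injective (le_antisymm hW hM))))
  refine Or.inr (Or.inr (Or.inr (eq_top_iff.mpr fun v _ => ?_)))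
  obtain ⟨w, hw, hwn⟩ := SetLike.not_le_iff_exists.mp hW
  have hs : ∑ x, w x ≠ 0 := hwn
  set t := (∑ x, v x) / ∑ x, w x with ht
  have hz : v - t • w ∈ (Cfsg.permSumZero K (alternatingGroup α) α).toSubmodule := by
    show ∑ x, (v - t • w) x = 0
    simp only [Pi.sub_apply, Pi.smul_apply, smul_eq_mul, Finset.sum_sub_distrib, ← Finset.mul_sum]
    rw [ht, div_mul_cancel₀ _ hs, sub_self]
  have := W.toSubmodule.add_mem (hM hz) (W.toSubmodule.smul_mem t hw)
  rwa [sub_add_cancel] at this

end Cfsg.Agent.S0714
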