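import Cfsg.Statements.S0716
import Mathlib
import Cfsg.Agent.Lib.SmallGroups.PermSubdegree

set_option autoImplicit false
open Cfsg

namespace Cfsg.Agent.S0716

/-- (a) If all non-principal irreducible constituents of the permutation character of a transitive group have the same degree `f`, the character is multiplicity-free and all non-trivial subdegrees equal `f`. (b) A transitive group of rank at most 5 has multiplicity-free permutation character. -/
theorem result {G : Type*} [Group G] [Fintype G] {Ω : Type*} [Fintype Ω] [MulAction G Ω] [MulAction.IsPretransitive G Ω] (a : Ω) : ((f : ℕ) → (∀ χ : G → ℂ, Cfsg.IsIrrCharacter G χ → χ ≠ (fun _ => 1) → Cfsg.classInner (fun g : G => (Nat.card (MulAction.fixedBy Ω g) : ℂ)) χ ≠ 0 → χ 1 = f) → (∀ χ : G → ℂ, Cfsg.IsIrrCharacter G χ → Cfsg.classInner (fun g : G => (Nat.card (MulAction.fixedBy Ω g) : ℂ)) χ = 0 ∨ Cfsg.classInner (fun g : G => (Nat.card (MulAction.fixedBy Ω g) : ℂ)) χ = 1) ∧ ∀ b : Ω, b ≠ a → Nat.card (MulAction.orbit (MulAction.stabilizer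 G a) b) = f) ∧ (Nat.card (MulAction.orbitRel.Quotient (MulAction.stabilizer G a) Ω) ≤ 5 → ∀ χ : G → ℂ, Cfsg.IsIrrCharacter G χ → Cfsg.classInner (fun g : G => (Nat.card (MulAction.fixedBy Ω g) : ℂ)) χ = 0 ∨ Cfsg.classInner (fun g : G => (Nat.card (MulAction.fixedBy Ω g) : ℂ)) χ = 1) := by
  classical
  obtain ⟨m, d, hone, hmi, hd, hdeg, hsq⟩ :=
    CfsgLib.SmallGroups.PermOrbital.exists_multiplicities (G := G) a
  set r := Nat.card (MulAction.orbitRel.Quotient (MulAction.stabilizer G a) Ω) with hr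
  set s := Finset.univ.erase (CfsgLib.Char.irrOne (G := G)) with hs
  rw [← Finset.add_sum_erase _ _ (Finset.mem_univ CfsgLib.Char.irrOne), hone, one_mul] at hdeg
  rw [← Finset.add_sum_erase _ _ (Finset.mem_univ CfsgLib.Char.irrOne), hone, one_pow] at hsq
  have hd1 : d CfsgLib.Char.irrOne = 1 := by
    have h := (hd CfsgLib.Char.irrOne).1
    rw [CfsgLib.Char.irrOne_apply] at h
    exact_mod_cast h.symm
  rw [hd1] at hdeg
  rw [← hs] at hsq
  have key : ∀ f : ℕ, (∀ χ : G → ℂ, Cfsg.IsIrrCharacter G χ → χ ≠ (fun _ => 1) →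
      Cfsg.classInner (fun g : G => (Nat.card (MulAction.fixedBy Ω g) : ℂ)) χ ≠ 0 → χ 1 = f) →
      (∀ χ : Cfsg.IrrCharacter G, m χ ≤ 1) ∧
        ∀ b : Ω, b ≠ a → Nat.card (MulAction.orbit (MulAction.stabilizer G a) b) = f := by
    intro f hf
    have hdiv := fun b (hb : b ≠ a) => CfsgLib.SmallGroups.PermOrbital.dvd_subdegree f
      (fun χ h1 h2 h3 => ⟨1, by rw [hf χ h1 h2 h3, Nat.cast_one, mul_one]⟩) hb
    have hdf : ∀ χ ∈ s, m χ * d χ = m χ * f := by
      intro χ hχ
      rcases Nat.eq_zero_or_pos (m χ) with h0 | h0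
      · rw [h0, zero_mul, zero_mul]
      · have h1 := hf χ χ.2 (fun e => (Finset.ne_of_mem_erase hχ) (Subtype.ext e))
          (by rw [hmi χ]; exact_mod_cast h0.ne')
        rw [(hd χ).1] at h1
        rw [show d χ = f by exact_mod_cast h1]
    rw [Finset.sum_congr rfl hdf, ← Finset.sum_mul] at hdeg
    haveI := Fintype.ofFinite (MulAction.orbitRel.Quotient (MulAction.stabilizer G a) Ω)
    let Q := MulAction.orbitRel.Quotient (MulAction.stabilizer G a) Ω
    set k : Q → ℕ := fun q => Nat.card (MulAction.orbit (MulAction.stabilizer G a) q.out) with hk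
    have hsum := CfsgLib.SmallGroups.PermOrbital.sum_subdegrees (G := G) a
    set q₀ : Q := Quotient.mk'' a with hq₀
    have hstab : ∀ g ∈ MulAction.stabilizer G a, g • a = a := fun g hg => hg
    have horb : ∀ b : Ω, b ∈ MulAction.orbit (MulAction.stabilizer G a) a ↔ b = a := by
      intro b
      constructor
      · rintro ⟨⟨g, hg⟩, rfl⟩; exact hstab g hg
      · rintro rfl; exact MulAction.mem_orbit_self _
    have hk0 : k q₀ = 1 := by
      have hout : q₀.out = a := by
        have h := Quotient.exact' (q₀.out_eq' : Quotient.mk'' q₀.out = q₀)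
        exact (horb _).mp h
      simp only [hk, hout]
      haveI : Subsingleton (MulAction.orbit (MulAction.stabilizer G a) a) :=
        ⟨fun x y => Subtype.ext (((horb _).mp x.2).trans ((horb _).mp y.2).symm)⟩
      haveI : Nonempty (MulAction.orbit (MulAction.stabilizer G a) a) :=
        ⟨⟨a, MulAction.mem_orbit_self _⟩⟩
      exact Nat.card_unique
    have hne : ∀ q ∈ Finset.univ.erase q₀, q.out ≠ a ∧ f ≤ k q := by
      intro q hq
      have hqa : q.out ≠ a := fun e => Finset.ne_of_mem_erase hq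
        ((Quotient.out_eq' q).symm.trans (congrArg Quotient.mk'' e))
      exact ⟨hqa, Nat.le_of_dvd (Nat.card_pos_iff.mpr
        ⟨⟨⟨_, MulAction.mem_orbit_self _⟩⟩, inferInstance⟩) (hdiv _ hqa)⟩
    have hsum' : 1 + ∑ q ∈ Finset.univ.erase q₀, k q = Fintype.card Ω := by
      rw [← hsum, ← Finset.add_sum_erase _ _ (Finset.mem_univ q₀)]
      simp only [hk] at hk0 ⊢
      rw [hk0]
    have hcardQ : (Finset.univ.erase q₀).card = ∑ χ ∈ s, m χ ^ 2 := by
      rw [Finset.card_erase_of_mem (Finset.mem_univ _), Finset.card_univ, ← Nat.card_eq_fintype_card]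
      change r - 1 = _
      omega
    have hge : (Finset.univ.erase q₀).card * f ≤ ∑ q ∈ Finset.univ.erase q₀, k q := by
      rw [← smul_eq_mul]
      exact Finset.card_nsmul_le_sum _ _ _ fun q hq => (hne q hq).2
    have hle : ∀ χ ∈ s, m χ ≤ m χ ^ 2 := fun χ _ => Nat.le_self_pow (by norm_num) _
    have hsle := Finset.sum_le_sum hle
    rcases Nat.eq_zero_or_pos f with hf0 | hf0
    · -- no constituents at all
      have hz : Fintype.card Ω = 1 := by
        rw [← hdeg, hf0, mul_zero, add_zero]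
      refine ⟨fun χ => ?_, fun b hb => absurd (Fintype.card_le_one_iff.mp hz.le b a) hb⟩
      by_cases hχ : χ = CfsgLib.Char.irrOne
      · rw [hχ, hone]
      · by_contra h1
        have h2 := hf χ χ.2 (fun e => hχ (Subtype.ext e))
          (by rw [hmi χ]; exact_mod_cast (show m χ ≠ 0 by omega))
        rw [(hd χ).1, hf0] at h2
        have := (hd χ).2
        have h3 : d χ = 0 := by exact_mod_cast h2
        omega
    have heq : ∑ χ ∈ s, m χ = ∑ χ ∈ s, m χ ^ 2 := by
      refine le_antisymm hsle (Nat.le_of_mul_le_mul_right ?_ hf0)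
      rw [← hcardQ]
      omega
    refine ⟨fun χ => ?_, fun b hb => ?_⟩
    · by_cases hχ : χ = CfsgLib.Char.irrOne
      · rw [hχ, hone]
      · have h1 := (Finset.sum_eq_sum_iff_of_le hle).mp heq χ
          (Finset.mem_erase.mpr ⟨hχ, Finset.mem_univ _⟩)
        by_contra h2
        have : m χ < m χ ^ 2 := lt_self_pow₀ (show 1 < m χ by omega) (by norm_num)
        omega
    · set q : Q := Quotient.mk'' b with hq
      have hqne : q ∈ Finset.univ.erase q₀ := by
        refine Finset.mem_erase.mpr ⟨fun e => hb ?_, Finset.mem_univ _⟩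
        exact (horb b).mp (Quotient.exact' e)
      have hkq : ∑ x ∈ Finset.univ.erase q₀, k x = (Finset.univ.erase q₀).card * f := by
        rw [hcardQ, ← heq]; omega
      have h1 : ∀ x ∈ Finset.univ.erase q₀, f = k x := by
        refine (Finset.sum_eq_sum_iff_of_le fun x hx => (hne x hx).2).mp ?_
        rw [Finset.sum_const, smul_eq_mul, hkq]
      rw [h1 q hqne]
      have hmem : q.out ∈ MulAction.orbit (MulAction.stabilizer G a) b := Quotient.exact' q.out_eq'
      simp only [hk]
      rw [MulAction.orbit_eq_iff.mpr hmem]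
  refine ⟨fun f hf => ⟨fun χ hχ => ?_, (key f hf).2⟩, fun hr5 χ hχ => ?_⟩
  · have h1 := hmi ⟨χ, hχ⟩
    have h2 := (key f hf).1 ⟨χ, hχ⟩
    rcases Nat.le_one_iff_eq_zero_or_eq_one.mp h2 with h | h <;> simp [h] at h1 <;> simp [h1]
  · suffices h2 : m ⟨χ, hχ⟩ ≤ 1 by
      have h1 := hmi ⟨χ, hχ⟩
      rcases Nat.le_one_iff_eq_zero_or_eq_one.mp h2 with h | h <;> simp [h] at h1 <;> simp [h1]
    by_contra hbig
    push Not at hbig
    set c : Cfsg.IrrCharacter G := ⟨χ, hχ⟩ with hc
    have hcs : c ∈ s := Finset.mem_erase.mpr ⟨fun e => by rw [e, hone] at hbig; omega, Finset.mem_univ _⟩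
    have h4 : ∑ x ∈ s, m x ^ 2 ≤ 4 := by omega
    rw [← Finset.add_sum_erase _ _ hcs] at h4
    have h22 : 4 ≤ m c ^ 2 := by
      calc 4 = 2 ^ 2 := by norm_num
        _ ≤ m c ^ 2 := Nat.pow_le_pow_left hbig 2
    have hothers : ∀ x ∈ s.erase c, m x = 0 := by
      have h0 : ∑ x ∈ s.erase c, m x ^ 2 = 0 := by omega
      intro x hx
      exact pow_eq_zero_iff (n := 2) (by norm_num) |>.mp (Finset.sum_eq_zero_iff.mp h0 x hx)
    have := (key (d c) fun ψ hψ hne hm => by
      have hψc : (⟨ψ, hψ⟩ : Cfsg.IrrCharacter G) = c := by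
        by_contra hne'
        have hz := hothers ⟨ψ, hψ⟩ (Finset.mem_erase.mpr ⟨hne', Finset.mem_erase.mpr
          ⟨fun e => hne (congrArg Subtype.val e), Finset.mem_univ _⟩⟩)
        apply hm
        have := hmi ⟨ψ, hψ⟩
        rw [hz, Nat.cast_zero] at this
        exact this
      rw [← (hd c).1]
      exact congrFun (congrArg Subtype.val hψc) 1).1 c
    omega

end Cfsg.Agent.S0716
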