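import Cfsg.Statements.S0717
import Mathlib
import Cfsg.Agent.Lib.SmallGroups.PermOrbital

set_option autoImplicit false
open Cfsg

namespace Cfsg.Agent.S0717

/-- All suborbits of a transitive group are self-paired (every pair of points is interchanged by some group element) if and only if the permutation character is multiplicity-free and each of its irreducible constituents is real-valued. -/
theorem result {G : Type*} [Group G] [Fintype G] {Ω : Type*} [Fintype Ω] [MulAction G Ω] [MulAction.IsPretransitive G Ω] : (∀ a b : Ω, ∃ g : G, g • a = b ∧ g • b = a) ↔ ∀ χ : G → ℂ, Cfsg.IsIrrCharacter G χ → Cfsg.classInner (fun g : G => (Nat.card (MulAction.fixedBy Ω g) : ℂ)) χ ≠ 0 → Cfsg.classInner (fun g : G => (Nat.card (MulAction.fixedBy Ω g) : ℂ)) χ = 1 ∧ ∀ g : G, (starRingEnd ℂ) (χ g) = χ g := by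
  classical
  rw [CfsgLib.SmallGroups.PermOrbital.selfPaired_iff_symmetric]
  constructor
  · intro h χ hχ hm
    refine ⟨?_, CfsgLib.SmallGroups.PermOrbital.real_of_symmetric h hχ hm⟩
    refine ((CfsgLib.SmallGroups.PermOrbital.multiplicityFree_iff.mpr fun n τ hτ => ?_) χ hχ).resolve_left hm
    exact CfsgLib.SmallGroups.PermDecomp.finrank_le_one_of_commute τ _
      fun S T hS hT => CfsgLib.SmallGroups.PermOrbital.commute_of_symmetric h hS hT
  · intro h T hT x y
    refine CfsgLib.SmallGroups.PermOrbital.symmetric_of_real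
      (CfsgLib.SmallGroups.PermOrbital.multiplicityFree_iff.mp fun χ hχ => ?_)
      (fun χ hχ hm => (h χ hχ hm).2) hT x y
    by_cases hm : Cfsg.classInner (fun g : G => (Nat.card (MulAction.fixedBy Ω g) : ℂ)) χ = 0
    · exact Or.inl hm
    · exact Or.inr (h χ hχ hm).1

end Cfsg.Agent.S0717
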