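import Cfsg.Statements.S0719
import Mathlib
import Cfsg.Agent.Lib.SmallGroups.PermSubdegree

set_option autoImplicit false
open Cfsg

namespace Cfsg.Agent.S0719

open Module CfsgLib.SmallGroups

/-- An algebraic integer satisfying the quadratic is rational. -/
theorem exists_int {m k : ℕ} (hk0 : 0 < k) (hkm : k < m) {s : ℂ} (hs : IsIntegral ℤ s)
    (hq : (((m : ℂ) - 1) * (2 * m - 1)) * s ^ 2 + 2 * k * ((m : ℂ) - 1) * s +
      ((k : ℂ) ^ 2 * (1 + m) - 2 * (m : ℂ) ^ 2 * k) = 0) : ∃ z : ℤ, s = z := by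
  have hm1 : (1 : ℚ) < m := by exact_mod_cast (by omega : 1 < m)
  have h2m : (0 : ℚ) < 2 * m - 1 := by linarith
  have hR : ((m : ℚ) - 1) * (2 * m - 1) ≠ 0 := mul_ne_zero (by linarith) h2m.ne'
  set P : ℚ := 2 * k / (2 * m - 1) with hP
  set Q : ℚ := ((k : ℚ) ^ 2 * (1 + m) - 2 * (m : ℚ) ^ 2 * k) / (((m : ℚ) - 1) * (2 * m - 1)) with hQ
  set p : Polynomial ℚ := Polynomial.X ^ 2 + Polynomial.C P * Polynomial.X + Polynomial.C Q with hp
  have hmon : p.Monic := by rw [hp]; monicity!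
  have hdeg : p.natDegree = 2 := by rw [hp]; compute_degree!
  have hroot : Polynomial.aeval s p = 0 := by
    have hR' : ((((m : ℚ) - 1) * (2 * m - 1) : ℚ) : ℂ) ≠ 0 := by exact_mod_cast hR
    have h2' : (((2 : ℚ) * m - 1 : ℚ) : ℂ) ≠ 0 := by exact_mod_cast h2m.ne'
    simp only [hp, map_add, map_mul, map_pow, Polynomial.aeval_X, Polynomial.aeval_C,
      eq_ratCast, hP, hQ]
    push_cast at hR' h2' ⊢
    field_simp [hR', h2', (mul_ne_zero_iff.mp hR').1]
    linear_combination hq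
  have hsQ : IsIntegral ℚ s := hs.tower_top
  have hdvd : minpoly ℚ s ∣ p := minpoly.dvd ℚ s hroot
  have hle : (minpoly ℚ s).natDegree ≤ 2 := hdeg ▸ Polynomial.natDegree_le_of_dvd hdvd hmon.ne_zero
  have hmap : minpoly ℚ s = (minpoly ℤ s).map (algebraMap ℤ ℚ) :=
    minpoly.isIntegrallyClosed_eq_field_fractions ℚ ℂ hs
  have hpos := minpoly.natDegree_pos hsQ
  rcases (by omega : (minpoly ℚ s).natDegree = 1 ∨ (minpoly ℚ s).natDegree = 2) with h | h
  · obtain ⟨q, hq'⟩ := minpoly.natDegree_eq_one_iff.mp h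
    have hqi : IsIntegral ℤ q :=
      (isIntegral_algebraMap_iff (algebraMap ℚ ℂ).injective).mp (hq' ▸ hs)
    obtain ⟨z, hz⟩ := IsIntegrallyClosed.isIntegral_iff.mp hqi
    exact ⟨z, by rw [← hq', ← hz]; simp⟩
  · exfalso
    have he : minpoly ℚ s = p := (Polynomial.eq_of_monic_of_dvd_of_natDegree_le
      (minpoly.monic hsQ) hmon hdvd (by rw [h, hdeg])).symm
    have hc : p.coeff 1 = P := by simp [hp, Polynomial.coeff_X_pow]
    rw [← he, hmap, Polynomial.coeff_map, hP] at hc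
    set z := (minpoly ℤ s).coeff 1
    rw [eq_div_iff h2m.ne'] at hc
    have hc' : z * (2 * (m : ℤ) - 1) = 2 * k := by
      simp only [eq_intCast] at hc
      exact_mod_cast hc
    rcases le_or_gt z 0 with hz | hz
    · nlinarith
    · nlinarith

set_option maxHeartbeats 1600000 in
/-- Groups of Wielandt type: if a primitive group of degree `2m` has rank 3 and permutation character `1 + χ₁ + χ₂` with irreducible `χ₁, χ₂` of degrees `m - 1` and `m`, then `m = 2a² + 2a + 1` for some positive integer `a` and the two non-trivial subdegrees are `a(2a+1)` and `(a+1)(2a+1)`. -/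
theorem result {G : Type*} [Group G] [Fintype G] {Ω : Type*} [Fintype Ω] [MulAction G Ω] (hprim : MulAction.IsPreprimitive G Ω) {m : ℕ} (hm : Fintype.card Ω = 2 * m) (a₀ : Ω) (hrank : Nat.card (MulAction.orbitRel.Quotient (MulAction.stabilizer G a₀) Ω) = 3) (χ₁ χ₂ : G → ℂ) (h₁ : Cfsg.IsIrrCharacter G χ₁) (h₂ : Cfsg.IsIrrCharacter G χ₂) (hπ : (fun g : G => (Nat.card (MulAction.fixedBy Ω g) : ℂ)) = fun g => 1 + χ₁ g + χ₂ g) (hd₁ : χ₁ 1 = (m : ℂ) - 1) (hd₂ : χ₂ 1 = m) : ∃ a : ℕ, 0 < a ∧ m = 2 * a ^ 2 + 2 * a + 1 ∧ ∀ b : Ω, b ≠ a₀ → Nat.card (MulAction.orbit (MulAction.stabilizer G a₀) b) = a * (2 * a + 1) ∨ Nat.card (MulAction.orbit (MulAction.stabilizer G a₀) b) = (a + 1) * (2 * a + 1) := by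
  classical
  haveI := hprim
  haveI : MulAction.IsPretransitive G Ω := hprim.toIsPretransitive
  haveI : Nonempty Ω := ⟨a₀⟩
  set π : G → ℂ := fun g : G => (Nat.card (MulAction.fixedBy Ω g) : ℂ) with hπdef
  obtain ⟨μ, d, hone, hmi, hd, hdeg, -⟩ := PermOrbital.exists_multiplicities (G := G) a₀
  obtain ⟨d₁, hd1pos, hd1⟩ := CfsgLib.Char.exists_degree_pos h₁
  have hm2 : 2 ≤ m := by
    have h : ((d₁ + 1 : ℕ) : ℂ) = (m : ℂ) := by push_cast; rw [← hd1, hd₁]; ring
    have := Nat.cast_injective h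
    omega
  have hne12 : χ₁ ≠ χ₂ := fun e => by
    rw [e, hd₂] at hd₁
    exact one_ne_zero (α := ℂ) (by linear_combination hd₁)
  set one : Cfsg.IrrCharacter G := CfsgLib.Char.irrOne
  set c₁ : Cfsg.IrrCharacter G := ⟨χ₁, h₁⟩
  set c₂ : Cfsg.IrrCharacter G := ⟨χ₂, h₂⟩
  have hπsum : π = (fun _ => (1 : ℂ)) + χ₁ + χ₂ := hπ
  have hmult : ∀ χ : Cfsg.IrrCharacter G, (μ χ : ℂ) = (if one = χ then 1 else 0) +
      (if c₁ = χ then 1 else 0) + (if c₂ = χ then 1 else 0) := by
    intro χ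
    rw [← hmi χ, ← hπdef, hπsum, CfsgLib.Char.classInner_add_left, CfsgLib.Char.classInner_add_left,
      ← CfsgLib.Char.classInner_irrCharacter one χ, ← CfsgLib.Char.classInner_irrCharacter c₁ χ,
      ← CfsgLib.Char.classInner_irrCharacter c₂ χ]
    rfl
  have h10 : c₁ ≠ one := fun e => by
    have h := hmult one
    rw [hone, e] at h
    by_cases hc : c₂ = one <;> simp [hc] at h
  have h20 : c₂ ≠ one := fun e => by
    have h := hmult one
    rw [hone, e] at h
    simp [h10] at h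
  have h12 : c₁ ≠ c₂ := fun e => hne12 (congrArg Subtype.val e)
  have hm1 : μ c₁ = 1 := by
    have h := hmult c₁
    simp [h10.symm, h12.symm] at h
    exact_mod_cast h
  have hm2' : μ c₂ = 1 := by
    have h := hmult c₂
    simp [h20.symm, h12] at h
    exact_mod_cast h
  have hzero : ∀ χ, χ ≠ one → χ ≠ c₁ → χ ≠ c₂ → μ χ = 0 := fun χ e0 e1 e2 => by
    have h := hmult χ
    simp [Ne.symm e0, Ne.symm e1, Ne.symm e2] at h
    exact_mod_cast h
  -- the suborbits
  let Q := MulAction.orbitRel.Quotient (MulAction.stabilizer G a₀) Ω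
  haveI : Fintype Q := Fintype.ofFinite Q
  set sub : Ω → ℕ := fun b => Nat.card (MulAction.orbit (MulAction.stabilizer G a₀) b) with hsub
  have hsum := PermOrbital.sum_subdegrees (G := G) a₀
  have hclass : ∀ b : Ω, sub b = sub (Quotient.mk'' b : Q).out := fun b => by
    have hmem : (Quotient.mk'' b : Q).out ∈ MulAction.orbit (MulAction.stabilizer G a₀) b :=
      Quotient.exact' (Quotient.mk'' b : Q).out_eq'
    simp only [hsub]
    rw [MulAction.orbit_eq_iff.mpr hmem]
  have horb : ∀ x : Ω, x ∈ MulAction.orbit (MulAction.stabilizer G a₀) a₀ ↔ x = a₀ := by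
    intro x
    constructor
    · rintro ⟨⟨g, hg⟩, rfl⟩; exact hg
    · rintro rfl; exact MulAction.mem_orbit_self _
  set q₀ : Q := Quotient.mk'' a₀ with hq₀
  have hq0 : sub q₀.out = 1 := by
    rw [hq₀, ← hclass]
    simp only [hsub]
    haveI : Subsingleton (MulAction.orbit (MulAction.stabilizer G a₀) a₀) :=
      ⟨fun x y => Subtype.ext (((horb _).mp x.2).trans ((horb _).mp y.2).symm)⟩
    haveI : Nonempty (MulAction.orbit (MulAction.stabilizer G a₀) a₀) :=
      ⟨⟨a₀, MulAction.mem_orbit_self _⟩⟩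
    exact Nat.card_unique
  have hQ3 : Fintype.card Q = 3 := by rw [← Nat.card_eq_fintype_card]; exact hrank
  obtain ⟨q₁, q₂, hq12, herase⟩ := Finset.card_eq_two.mp (show (Finset.univ.erase q₀).card = 2 by
    rw [Finset.card_erase_of_mem (Finset.mem_univ _), Finset.card_univ, hQ3])
  have hs12 : sub q₁.out + sub q₂.out + 1 = 2 * m := by
    rw [← hm, ← hsum, ← Finset.add_sum_erase _ _ (Finset.mem_univ q₀), herase, Finset.sum_pair hq12]
    simp only [hsub] at hq0 ⊢
    rw [hq0]; ring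
  have hq1ne : ∀ q ∈ Finset.univ.erase q₀, q.out ≠ a₀ ∧ 0 < sub q.out := fun q hq =>
    ⟨fun e => Finset.ne_of_mem_erase hq ((Quotient.out_eq' q).symm.trans (congrArg Quotient.mk'' e)),
      Nat.card_pos_iff.mpr ⟨⟨⟨_, MulAction.mem_orbit_self _⟩⟩, inferInstance⟩⟩
  -- the smaller suborbit
  obtain ⟨b, hb, hk0, hkm, hother⟩ : ∃ b : Ω, b ≠ a₀ ∧ 0 < sub b ∧ sub b < m ∧
      ∀ x : Ω, x ≠ a₀ → ((Quotient.mk'' x : Q) = Quotient.mk'' b ∨
        (sub x + sub b + 1 = 2 * m ∧ (Quotient.mk'' x : Q) ≠ Quotient.mk'' b)) := by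
    wlog hle : sub q₁.out ≤ sub q₂.out generalizing q₁ q₂ with H
    · exact H q₂ q₁ hq12.symm (by rw [herase, Finset.pair_comm]) (by omega) (by omega)
    have h1 := hq1ne q₁ (by rw [herase]; simp)
    refine ⟨q₁.out, h1.1, h1.2, by omega, fun x hx => ?_⟩
    have hxq : (Quotient.mk'' x : Q) ∈ Finset.univ.erase q₀ := by
      refine Finset.mem_erase.mpr ⟨fun e => hx ((horb x).mp (Quotient.exact' e)), Finset.mem_univ _⟩
    rw [herase, Finset.mem_insert, Finset.mem_singleton] at hxq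
    rw [Quotient.out_eq']
    rcases hxq with e | e
    · exact Or.inl e
    · exact Or.inr ⟨by rw [hclass x, e]; omega, e ▸ hq12.symm⟩
  set k := sub b with hkdef
  set T := PermOrbital.orbitalOp G a₀ b with hTdef
  have hTm := PermOrbital.orbitalOp_mem (G := G) a₀ b
  have hrow := PermOrbital.orbitalOp_row (G := G) a₀ b
  -- the orbital is self-paired
  obtain ⟨u, hu⟩ : ∃ u : G, u • b = a₀ := MulAction.exists_smul_eq G b a₀
  set M : Ω → Ω → ℂ := fun x y => T (Pi.single y 1) x with hM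
  have hpair : ∀ x y, M x y = M y x := by
    set b' := u • a₀ with hb'
    have hb'ne : b' ≠ a₀ := fun e => hb (MulAction.injective u (hu.trans e.symm))
    have htr : ∀ x y : Ω, PermOrbital.orbitalOp G a₀ b' (Pi.single y 1) x = M y x := by
      intro x y
      simp only [hM, hTdef, PermOrbital.orbitalOp_single]
      refine if_congr ⟨?_, ?_⟩ rfl rfl
      · rintro ⟨g, h1, h2⟩
        exact ⟨g * u, by rw [mul_smul, ← hb', h2], by rw [mul_smul, hu, h1]⟩
      · rintro ⟨g, h1, h2⟩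
        exact ⟨g * u⁻¹, by rw [mul_smul, ← hu, inv_smul_smul, h2],
          by rw [mul_smul, hb', inv_smul_smul, h1]⟩
    have hk' : sub b' = k := by
      have h := congrArg (fun F : Ω → ℂ => ∑ x, F x) (funext (PermOrbital.orbitalOp_row (G := G) a₀ b'))
      simp only [htr] at h
      rw [Finset.sum_comm] at h
      simp only [hM, hTdef, hrow, Finset.sum_const, Finset.card_univ, nsmul_eq_mul] at h
      have hn : (Fintype.card Ω : ℂ) ≠ 0 := by exact_mod_cast Fintype.card_ne_zero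
      exact (Nat.cast_injective (mul_left_cancel₀ hn h)).symm
    rcases hother b' hb'ne with e | ⟨e, -⟩
    · obtain ⟨⟨h, hh⟩, he⟩ := Quotient.exact' e
      change h • b = b' at he
      intro x y
      rw [← htr x y]
      simp only [hM, hTdef, PermOrbital.orbitalOp_single]
      refine if_congr ⟨?_, ?_⟩ rfl rfl
      · rintro ⟨g, h1, h2⟩
        exact ⟨g * h⁻¹, by rw [mul_smul, inv_smul_eq_iff.mpr (MulAction.mem_stabilizer_iff.mp hh).symm, h1],
          by rw [← he, mul_smul, inv_smul_smul, h2]⟩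
      · rintro ⟨g, h1, h2⟩
        exact ⟨g * h, by rw [mul_smul, MulAction.mem_stabilizer_iff.mp hh, h1],
          by rw [mul_smul, he, h2]⟩
    · omega
  -- the operator and its square
  have hT2 : T ∘ₗ T ∈ ((Cfsg.permRep ℂ G Ω).linHom (Cfsg.permRep ℂ G Ω)).invariants :=
    PermDecomp.comp_mem _ _ hTm hTm
  have h2e : ∀ x y, (T ∘ₗ T) (Pi.single y 1) x = ∑ z, M x z * M z y := fun x y => by
    rw [LinearMap.comp_apply, PermOrbital.apply_eq_sum]
  have h01 : ∀ x y, M x y = 0 ∨ M x y = 1 := fun x y => by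
    simp only [hM, hTdef, PermOrbital.orbitalOp_single]
    split_ifs <;> simp
  have h2int : ∀ x y, ∃ z : ℤ, (T ∘ₗ T) (Pi.single y 1) x = z := by
    intro x y
    rw [h2e]
    choose w hw using fun z => PermOrbital.orbitalOp_int (G := G) a₀ b x z
    choose w' hw' using fun z => PermOrbital.orbitalOp_int (G := G) a₀ b z y
    exact ⟨∑ z, w z * w' z, by push_cast; exact Finset.sum_congr rfl fun z _ => by rw [← hw z, ← hw' z]⟩
  have h2row : ∀ x, ∑ y, (T ∘ₗ T) (Pi.single y 1) x = (k : ℂ) ^ 2 := by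
    intro x
    simp only [h2e]
    rw [Finset.sum_comm]
    simp only [← Finset.mul_sum]
    simp only [hM, hTdef, hrow, ← Finset.sum_mul, pow_two]
    rfl
  have h2tr : LinearMap.trace ℂ (Ω → ℂ) (T ∘ₗ T) = (2 * m : ℂ) * k := by
    rw [PermOrbital.trace_eq_sum]
    have hr : ∀ x, (T ∘ₗ T) (Pi.single x 1) x = (k : ℂ) := fun x => by
      rw [h2e]
      rw [Finset.sum_congr rfl (g := fun z => M x z) fun z _ => ?_]
      · exact hrow x
      · rw [← hpair x z]; rcases h01 x z with e | e <;> rw [e] <;> norm_num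
    rw [Finset.sum_congr rfl fun x _ => hr x, Finset.sum_const, Finset.card_univ, hm, nsmul_eq_mul]
    push_cast; ring
  obtain ⟨A, hAint, hA1, hA0, hAc, hAtr⟩ :=
    PermOrbital.trace_formula (G := G) hTm (PermOrbital.orbitalOp_int a₀ b) hrow
  obtain ⟨B, -, hB1, hB0, hBc, hBtr⟩ := PermOrbital.trace_formula (G := G) hT2 h2int h2row
  have heig : ∀ c : Cfsg.IrrCharacter G, μ c = 1 → B c = A c ^ 2 := by
    intro c hc
    obtain ⟨n, σ, hσ, hσc⟩ := c.2
    have hfr : finrank ℂ (σ.linHom (Cfsg.permRep ℂ G Ω)).invariants = 1 := by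
      have h := hmi c
      rw [← hσc, PermOrbital.classInner_eq_finrank, hc] at h
      exact_mod_cast h
    haveI : Nontrivial (σ.linHom (Cfsg.permRep ℂ G Ω)).invariants :=
      Module.nontrivial_of_finrank_pos (R := ℂ) (by omega)
    obtain ⟨⟨f, hf⟩, hne⟩ := exists_ne (0 : (σ.linHom (Cfsg.permRep ℂ G Ω)).invariants)
    have hf0 : f ≠ 0 := fun e => hne (Subtype.ext e)
    obtain ⟨e, he⟩ := PermDecomp.exists_eigen σ _ hfr.le hTm hf hf0
    have hall : ∀ f' ∈ (σ.linHom (Cfsg.permRep ℂ G Ω)).invariants, T ∘ₗ f' = e • f' := by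
      intro f' hf'
      obtain ⟨r, rfl⟩ := PermDecomp.exists_smul_eq σ _ hfr.le hf hf' hf0
      rw [LinearMap.comp_smul, he, smul_comm]
    have h2all : ∀ f' ∈ (σ.linHom (Cfsg.permRep ℂ G Ω)).invariants,
        (T ∘ₗ T) ∘ₗ f' = (e ^ 2) • f' := by
      intro f' hf'
      rw [LinearMap.comp_assoc, hall f' hf', LinearMap.comp_smul, hall f' hf', smul_smul, pow_two]
    rw [hAc c n σ hσ hσc e hall, hBc c n σ hσ hσc (e ^ 2) h2all, hfr]
    simp
  have hsplit : ∀ F : Cfsg.IrrCharacter G → ℂ, (∀ χ, μ χ = 0 → F χ = 0) →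
      ∑ χ : Cfsg.IrrCharacter G, (χ : G → ℂ) 1 * F χ =
        F one + ((m : ℂ) - 1) * F c₁ + (m : ℂ) * F c₂ := by
    intro F hF
    rw [← Finset.sum_subset (Finset.subset_univ ({one, c₁, c₂} : Finset (Cfsg.IrrCharacter G)))
      (fun χ _ hχ => by
        simp only [Finset.mem_insert, Finset.mem_singleton, not_or] at hχ
        rw [hF χ (hzero χ hχ.1 hχ.2.1 hχ.2.2), mul_zero])]
    rw [Finset.sum_insert (by simp [h10.symm, h20.symm]), Finset.sum_pair h12]
    show (1 : ℂ) * F one + (χ₁ 1 * F c₁ + χ₂ 1 * F c₂) = _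
    rw [hd₁, hd₂]; ring
  have hμ0 : ∀ χ, μ χ = 0 → Cfsg.classInner π χ = 0 := fun χ h => by rw [hmi χ, h, Nat.cast_zero]
  rw [PermOrbital.trace_orbitalOp hb, hsplit A (fun χ h => hA0 χ (hμ0 χ h)), hA1] at hAtr
  rw [h2tr, hsplit B (fun χ h => hB0 χ (hμ0 χ h)), hB1, heig c₁ hm1, heig c₂ hm2'] at hBtr
  change (0 : ℂ) = (k : ℂ) + _ + _ at hAtr
  change _ = (k : ℂ) ^ 2 + _ + _ at hBtr
  obtain ⟨zs, hzs⟩ := exists_int hk0 hkm (hAint c₁) (by
    linear_combination (-(m : ℂ)) * hBtr +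
      ((m : ℂ) * A c₂ - (k : ℂ) - ((m : ℂ) - 1) * A c₁) * hAtr)
  have hm0 : (m : ℂ) ≠ 0 := by exact_mod_cast (show m ≠ 0 by omega)
  obtain ⟨zt, hzt⟩ : ∃ z : ℤ, A c₂ = z := by
    set q : ℚ := -((k : ℚ) + ((m : ℚ) - 1) * zs) / m with hq
    have hqc : algebraMap ℚ ℂ q = A c₂ := by
      rw [hq, eq_ratCast]; push_cast
      rw [div_eq_iff hm0, ← hzs]
      linear_combination hAtr
    obtain ⟨z, hz⟩ := IsIntegrallyClosed.isIntegral_iff.mp
      ((isIntegral_algebraMap_iff (algebraMap ℚ ℂ).injective).mp (hqc ▸ hAint c₂))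
    exact ⟨z, by rw [← hqc, ← hz]; simp⟩
  rw [hzs, hzt] at hAtr hBtr
  have e1 : (k : ℤ) + ((m : ℤ) - 1) * zs + m * zt = 0 := by exact_mod_cast hAtr.symm
  have e2 : (k : ℤ) ^ 2 + ((m : ℤ) - 1) * zs ^ 2 + m * zt ^ 2 = 2 * m * k := by
    exact_mod_cast hBtr.symm
  obtain ⟨j, hj⟩ : ∃ j : ℤ, zs = k + m * j := ⟨zt + zs, by linarith⟩
  have hk0' : (0 : ℤ) < k := by exact_mod_cast hk0
  have hkm' : (k : ℤ) < m := by exact_mod_cast hkm
  have hsb : -(m : ℤ) < zs ∧ zs < m := by
    have hsq : ((m : ℤ) - 1) * zs ^ 2 < (m : ℤ) ^ 2 := by nlinarith [sq_nonneg zt, sq_nonneg ((k : ℤ) - m)]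
    constructor <;> by_contra h <;> push Not at h <;>
      nlinarith [mul_nonneg (show (0 : ℤ) ≤ (m : ℤ) - 2 by omega) (sq_nonneg zs)]
  have hj' : j = 0 ∨ j = -1 := by
    rcases lt_trichotomy j 0 with hjn | hj0 | hjp
    · right
      by_contra hne
      have : j ≤ -2 := by omega
      nlinarith
    · exact Or.inl hj0
    · exfalso; nlinarith
  rcases hj' with hj0 | hj1
  · -- degenerate case: a suborbit of length one
    exfalso
    rw [hj0, mul_zero, add_zero] at hj
    subst hj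
    have hzt' : zt = -(k : ℤ) := by
      have : (m : ℤ) * (zt + k) = 0 := by linarith
      rcases mul_eq_zero.mp this with h | h <;> omega
    subst hzt'
    have hk1 : k = 1 := by
      have : (2 * (m : ℤ) * k) * ((k : ℤ) - 1) = 0 := by linarith [show
        (k : ℤ) ^ 2 + ((m : ℤ) - 1) * (k : ℤ) ^ 2 + m * (-(k : ℤ)) ^ 2 = 2 * m * ((k : ℤ) * k) by ring]
      rcases mul_eq_zero.mp this with h | h
      · nlinarith
      · omega
    have hfix : MulAction.stabilizer G a₀ ≤ MulAction.stabilizer G b := by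
      intro g hg
      haveI : Subsingleton (MulAction.orbit (MulAction.stabilizer G a₀) b) := by
        rw [← Finite.card_le_one_iff_subsingleton]
        exact (le_of_eq hk1)
      exact congrArg Subtype.val (Subsingleton.elim
        (⟨(⟨g, hg⟩ : MulAction.stabilizer G a₀) • b, MulAction.mem_orbit _ _⟩ :
          MulAction.orbit (MulAction.stabilizer G a₀) b) ⟨b, MulAction.mem_orbit_self _⟩)
    haveI : Nontrivial Ω := ⟨⟨b, a₀, hb⟩⟩
    have hmax := MulAction.IsPreprimitive.isCoatom_stabilizer_of_isPreprimitive (G := G) a₀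
    have hbtop : MulAction.stabilizer G b ≠ ⊤ := fun e => by
      have : u • b = b := MulAction.mem_stabilizer_iff.mp (e ▸ Subgroup.mem_top u)
      exact hb (this.symm.trans hu)
    have heq : MulAction.stabilizer G a₀ = MulAction.stabilizer G b :=
      (hfix.eq_or_lt).resolve_right fun h => hbtop (hmax.2 _ h)
    have hnorm : (MulAction.stabilizer G a₀).Normal := by
      rw [← Subgroup.normalizer_eq_top_iff]
      refine hmax.2 _ (lt_of_le_of_ne Subgroup.le_normalizer fun e => ?_)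
      have hun : u ∈ Subgroup.normalizer ((MulAction.stabilizer G a₀ : Subgroup G) : Set G) := by
        refine Subgroup.mem_normalizer_fintype fun g hg => ?_
        rw [SetLike.mem_coe, MulAction.mem_stabilizer_iff, mul_smul, mul_smul,
          ← hu, inv_smul_smul]
        have hgb : g • b = b := MulAction.mem_stabilizer_iff.mp (heq ▸ hg)
        rw [hgb, hu]
      rw [← e] at hun
      exact hb (MulAction.injective u (hu.trans (MulAction.mem_stabilizer_iff.mp hun).symm))
    have hall : ∀ x : Ω, sub x = 1 := by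
      intro x
      simp only [hsub]
      haveI : Subsingleton (MulAction.orbit (MulAction.stabilizer G a₀) x) := by
        refine ⟨fun y z => Subtype.ext ?_⟩
        obtain ⟨v, hv⟩ := MulAction.exists_smul_eq G a₀ x
        have key : ∀ g ∈ MulAction.stabilizer G a₀, g • x = x := fun g hg => by
          have := hnorm.conj_mem g hg v⁻¹
          rw [MulAction.mem_stabilizer_iff, inv_inv, mul_smul, mul_smul, hv, inv_smul_eq_iff, hv] at this
          exact this
        obtain ⟨⟨g, hg⟩, hgy⟩ := y.2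
        obtain ⟨⟨g', hg'⟩, hgz⟩ := z.2
        exact ((hgy.symm.trans (key g hg)).trans ((key g' hg').symm.trans hgz))
      haveI : Nonempty (MulAction.orbit (MulAction.stabilizer G a₀) x) :=
        ⟨⟨x, MulAction.mem_orbit_self _⟩⟩
      exact Nat.card_unique
    rw [hall, hall] at hs12
    omega
  · -- the main case
    rw [hj1] at hj
    have hzt' : zt = (m : ℤ) - 1 - k := by
      have : (m : ℤ) * (zt - ((m : ℤ) - 1 - k)) = 0 := by rw [hj] at e1; linarith
      rcases mul_eq_zero.mp this with h | h <;> omega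
    obtain ⟨a, ha⟩ : ∃ a : ℕ, m = k + 1 + a := ⟨m - 1 - k, by omega⟩
    have hzs' : zs = -((a : ℤ) + 1) := by rw [hj, ha]; push_cast; ring
    have hzt'' : zt = a := by rw [hzt', ha]; push_cast; ring
    have hmval : (m : ℤ) = 2 * (a : ℤ) ^ 2 + 2 * a + 1 := by
      rw [hzs', hzt''] at e2
      have hk' : (k : ℤ) = m - 1 - a := by rw [ha]; push_cast; ring
      rw [hk'] at e2
      have : (m : ℤ) * ((m : ℤ) - (2 * (a : ℤ) ^ 2 + 2 * a + 1)) = 0 := by linear_combination -e2
      rcases mul_eq_zero.mp this with h | h <;> omega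
    have hmN : m = 2 * a ^ 2 + 2 * a + 1 := by exact_mod_cast hmval
    have hk' : k = a * (2 * a + 1) := by nlinarith
    refine ⟨a, Nat.pos_of_ne_zero fun e => by rw [e] at hk'; omega, hmN, fun x hx => ?_⟩
    rcases hother x hx with e | ⟨e, -⟩
    · left
      have h := hclass x
      rw [e, ← hclass b] at h
      rw [← hk']
      exact h
    · right
      show sub x = _
      nlinarith

end Cfsg.Agent.S0719
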