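import Cfsg.Statements.S0723
import Cfsg.Agent.Lib.SmallGroups.Subdirect
import Cfsg.Agent.Lib.Recognition.PowerAction
import Cfsg.Agent.S0722
import Mathlib

set_option autoImplicit false
open Cfsg

namespace Cfsg.Agent.S0723

/-- The core of the O'Nan–Scott Theorem. Let `H` be a primitive permutation group on a finite set whose unique minimal normal subgroup `N` is non-abelian, and `K` a point stabiliser. Then there are a non-abelian simple group `T` and an isomorphism `N ≃* T^m` (`m ≥ 1`) under which `K ⊓ N` becomes either a product `∏ K_i` of proper subgroups `K_i < T`, or the set of functions constant on each block of a partition of the index set into blocks of one common size `k ≥ 2`. -/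
theorem result {α : Type*} [Finite α] (H : Subgroup (Equiv.Perm α)) [MulAction.IsPreprimitive H α] (N : Subgroup H) [N.Normal] (hN : N ≠ ⊥) (hmin : ∀ M : Subgroup H, M.Normal → M ≤ N → M = ⊥ ∨ M = N) (huniq : ∀ L : Subgroup H, L.Normal → L ≠ ⊥ → (∀ M : Subgroup H, M.Normal → M ≤ L → M = ⊥ ∨ M = L) → L = N) (hnab : ¬ IsMulCommutative N) (a : α) : ∃ (T : Type) (_ : Group T) (m : ℕ) (e : N ≃* (Fin m → T)), IsSimpleGroup T ∧ ¬ IsMulCommutative T ∧ 0 < m ∧ ((∃ K : Fin m → Subgroup T, (∀ i, K i ≠ ⊤) ∧ ∀ n : N, (n : H) ∈ MulAction.stabilizer H a ↔ ∀ i, e n i ∈ K i) ∨ (∃ (k : ℕ) (c : Fin m → Fin m), 2 ≤ k ∧ (∀ j : Fin m, Nat.card {i : Fin m // c i = j} = k ∨ Nat.card {i : Fin m // c i = j} = 0) ∧ ∀ n : N, (n : H) ∈ MulAction.stabilizer H a ↔ ∀ i j : Fin m, c i = c j → e n i = e n j)) := by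
  classical
  obtain ⟨T, _, _, _, m, hT, hm, ⟨e₀⟩⟩ := CfsgLib.Recognition.PowerAction.power_decomp N hN hmin hnab
  haveI : MulAction.IsPretransitive N α := by
    apply MulAction.IsQuasiPreprimitive.isPretransitive_of_normal
    intro hfix
    refine hN ((Subgroup.eq_bot_iff_forall N).mpr fun n hn => Subtype.ext (Equiv.ext fun x => ?_))
    have hx : x ∈ MulAction.fixedPoints N α := hfix ▸ Set.mem_univ x
    exact hx ⟨n, hn⟩
  haveI : Nontrivial N := N.nontrivial_iff_ne_bot.mpr hN
  have hstab : MulAction.stabilizer N a ≠ ⊤ := by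
    intro h
    obtain ⟨n, hn⟩ := exists_ne (1 : N)
    refine hn (Subtype.ext (Subtype.ext (Equiv.ext fun x => ?_)))
    obtain ⟨u, hu⟩ := MulAction.exists_smul_eq N a x
    have hua : u • a = a := MulAction.mem_stabilizer_iff.mp (h ▸ Subgroup.mem_top u)
    have hna : n • a = a := MulAction.mem_stabilizer_iff.mp (h ▸ Subgroup.mem_top n)
    rw [← hu, hua]
    exact hna
  set L : Subgroup (Fin m → T) := (MulAction.stabilizer N a).map e₀.toMonoidHom with hLdef
  have hLmem : ∀ n : N, e₀ n ∈ L ↔ (n : H) ∈ MulAction.stabilizer H a := fun n => by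
    constructor
    · rintro ⟨n', hn', he⟩
      rw [← e₀.injective he]
      exact hn'
    · exact fun h => ⟨n, h, rfl⟩
  have hLtop : L ≠ ⊤ := by
    intro h
    apply hstab
    rw [eq_top_iff]
    exact fun n _ => (hLmem n).mp (h ▸ Subgroup.mem_top _)
  let A : H → (Fin m → T) ≃* (Fin m → T) := CfsgLib.Recognition.PowerAction.act N e₀
  have hAmem : ∀ g ∈ MulAction.stabilizer H a, ∀ x ∈ L, A g x ∈ L := fun g hg x hx =>
    CfsgLib.Recognition.PowerAction.act_mem a N e₀ hg hx
  -- coordinates of an automorphism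
  have hcoord : ∀ g : H, ∀ i, ∃ j, ∃ f : T ≃* T, ∀ x, A g x j = f (x i) := by
    intro g i
    obtain ⟨j, hj⟩ := CfsgLib.Recognition.PowerAction.aut_single hT (A g) i
    choose f hf using hj
    let F : T →* T :=
      ((Pi.evalMonoidHom (fun _ : Fin m => T) j).comp (A g).toMonoidHom).comp
        (MonoidHom.mulSingle (fun _ : Fin m => T) i)
    have hF : ∀ s, F s = f s := fun s => by simp [F, hf]
    have hinj : Function.Injective F := fun s t e => by
      rw [hF, hF] at e
      exact Pi.mulSingle_injective (M := fun _ : Fin m => T) i ((A g).injective (by rw [hf, hf, e]))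
    refine ⟨j, MulEquiv.ofBijective F (Finite.injective_iff_bijective.mp hinj), fun x => ?_⟩
    show _ = F (x i)
    rw [hF]
    exact CfsgLib.Recognition.PowerAction.act_coord N e₀ hT g f hf x
  have hmove : ∀ i j : Fin m, ∃ g ∈ MulAction.stabilizer H a, ∃ f : T ≃* T, ∀ x, A g x j = f (x i) := by
    intro i j
    obtain ⟨g, hg, hgij⟩ := CfsgLib.Recognition.PowerAction.transitive_factors a N e₀ hT hmin i j
    choose f hf using hgij
    obtain ⟨j', f', hf'⟩ := hcoord g i
    refine ⟨g, hg, f', ?_⟩
    have hjj : j = j' := by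
      obtain ⟨s, hs⟩ := exists_ne (1 : T)
      by_contra hne
      have h1 := hf' (Pi.mulSingle i s)
      rw [show A g (Pi.mulSingle i s) = Pi.mulSingle j (f s) from hf s, Pi.mulSingle_eq_of_ne (Ne.symm hne),
        Pi.mulSingle_eq_same] at h1
      exact hs ((MulEquiv.map_eq_one_iff f').mp h1.symm)
    subst hjj
    exact hf'
  by_cases hproj : ∀ (i : Fin m) (t : T), ∃ x ∈ L, x i = t
  · -- products of diagonals
    let R : Setoid (Fin m) := ⟨CfsgLib.SmallGroups.Subdirect.Linked L, fun _ _ _ h => h,
      fun h => CfsgLib.SmallGroups.Subdirect.linked_symm hproj h,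
      fun h h' x hx e => h' x hx (h x hx e)⟩
    let c : Fin m → Fin m := fun i => (Quotient.mk R i).out
    have hc : ∀ i, CfsgLib.SmallGroups.Subdirect.Linked L (c i) i := fun i => Quotient.mk_out (s := R) i
    have hcc : ∀ i, c (c i) = c i := fun i => congrArg Quotient.out (Quotient.sound (hc i))
    have hceq : ∀ i j, c i = c j ↔ CfsgLib.SmallGroups.Subdirect.Linked L i j := fun i j =>
      ⟨fun h x hx e => hc j x hx (h ▸ CfsgLib.SmallGroups.Subdirect.linked_symm hproj (hc i) x hx e),
        fun h => congrArg Quotient.out (Quotient.sound h)⟩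
    choose φ hφ using fun i => CfsgLib.SmallGroups.Subdirect.exists_link hproj (hc i)
    let e : N ≃* (Fin m → T) := e₀.trans (MulEquiv.piCongrRight fun i => (φ i).symm)
    have heval : ∀ n i, e n i = (φ i).symm (e₀ n i) := fun n i => rfl
    have hiff : ∀ n : N, (n : H) ∈ MulAction.stabilizer H a ↔ ∀ i j, c i = c j → e n i = e n j := by
      intro n
      rw [← hLmem]
      constructor
      · intro hx i j hij
        rw [heval, heval, hφ i _ hx, hφ j _ hx, MulEquiv.symm_apply_apply, MulEquiv.symm_apply_apply, hij]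
      · intro h
        obtain ⟨y, hy, hyv⟩ := CfsgLib.SmallGroups.Subdirect.exists_prescribed hT hproj
          (Finset.univ.image c) (fun r hr s hs hl => by
            obtain ⟨i, -, rfl⟩ := Finset.mem_image.mp hr
            obtain ⟨j, -, rfl⟩ := Finset.mem_image.mp hs
            have := (hceq _ _).mpr hl
            rwa [hcc, hcc] at this)
          (fun r => e n r)
        have : e₀ n = y := by
          funext i
          have h1 := h i (c i) (hcc i).symm
          rw [heval n i, ← hyv (c i) (Finset.mem_image_of_mem c (Finset.mem_univ i))] at h1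
          rw [hφ i y hy, ← h1, MulEquiv.apply_symm_apply]
        rw [this]; exact hy
    let i₀ : Fin m := ⟨0, hm⟩
    have hcls : ∀ j i, Nat.card {l // c l = c i} ≤ Nat.card {l // c l = c j} := by
      intro j i
      obtain ⟨g, hg, f, hf⟩ := hmove i j
      choose π fπ hπ using hcoord g
      have hπinj : Function.Injective π := by
        intro l l' e
        by_contra hne
        obtain ⟨s, hs⟩ := exists_ne (1 : T)
        have h1 := hπ l (Pi.mulSingle l s)
        have h2 := hπ l' (Pi.mulSingle l s)
        rw [Pi.mulSingle_eq_same] at h1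
        rw [Pi.mulSingle_eq_of_ne (Ne.symm hne), map_one, ← e, h1] at h2
        exact hs ((MulEquiv.map_eq_one_iff (fπ l)).mp h2)
      have hginv : g⁻¹ • a = a := by
        rw [inv_smul_eq_iff]; exact (MulAction.mem_stabilizer_iff.mp hg).symm
      refine Nat.card_le_card_of_injective (fun l => ⟨π l.1, ?_⟩)
        (fun l l' e => Subtype.ext (hπinj (congrArg Subtype.val e)))
      refine ((hceq _ _).mpr fun x hx hxj => ?_).symm
      have hy : A g⁻¹ x ∈ L := hAmem _ hginv x hx
      have hyx : A g (A g⁻¹ x) = x := by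
        show CfsgLib.Recognition.PowerAction.act N e₀ g (CfsgLib.Recognition.PowerAction.act N e₀ g⁻¹ x) = x
        rw [← CfsgLib.Recognition.PowerAction.act_mul, mul_inv_cancel]
        simp [CfsgLib.Recognition.PowerAction.act]
      have hyi : A g⁻¹ x i = 1 := by
        have h1 := hf (A g⁻¹ x)
        rw [hyx, hxj] at h1
        exact (MulEquiv.map_eq_one_iff f).mp h1.symm
      have hyl : A g⁻¹ x l.1 = 1 := (hceq i l.1).mp l.2.symm _ hy hyi
      have h2 := hπ l.1 (A g⁻¹ x)
      rw [hyx, hyl, map_one] at h2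
      exact h2
    refine ⟨T, inferInstance, m, e, inferInstance, fun h => ?_, hm,
      Or.inr ⟨Nat.card {l // c l = c i₀}, c, ?_, fun j => ?_, hiff⟩⟩
    · obtain ⟨x, y, hxy⟩ := hT
      exact hxy (h.is_comm.comm x y)
    · by_contra hk
      apply hLtop
      have hsing : ∀ i l, c l = c i → l = i := by
        intro i l hl
        have h1 : Nat.card {l // c l = c i} ≤ 1 := (hcls i₀ i).trans (by omega)
        haveI := Finite.card_le_one_iff_subsingleton.mp h1
        exact congrArg Subtype.val (Subsingleton.elim (⟨l, hl⟩ : {l // c l = c i}) ⟨i, rfl⟩)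
      rw [eq_top_iff]
      intro x _
      have := (hiff (e₀.symm x)).mpr (fun i j hij => by rw [hsing j i hij])
      rw [← hLmem, MulEquiv.apply_symm_apply] at this
      exact this
    · by_cases hj : ∃ i, c i = j
      · obtain ⟨i, rfl⟩ := hj
        exact Or.inl (le_antisymm (hcls i₀ i) (hcls i i₀))
      · right
        haveI : IsEmpty {i // c i = j} := ⟨fun i => hj ⟨i.1, i.2⟩⟩
        exact Nat.card_of_isEmpty
  · -- products of proper subgroups
    push Not at hproj
    obtain ⟨i₁, t₁, ht₁⟩ := hproj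
    let P : Fin m → Subgroup T := fun i => L.map (Pi.evalMonoidHom (fun _ : Fin m => T) i)
    have hPtop : ∀ i, P i ≠ ⊤ := by
      intro i htop
      obtain ⟨g, hg, f, hf⟩ := hmove i i₁
      obtain ⟨x, hx, hxt⟩ := (htop ▸ Subgroup.mem_top (f.symm t₁) : f.symm t₁ ∈ P i)
      have hxt' : x i = f.symm t₁ := hxt
      exact ht₁ (A g x) (hAmem g hg x hx) (by rw [hf, hxt', f.apply_symm_apply])
    let X₀ : Subgroup N := (Subgroup.pi Set.univ P).comap e₀.toMonoidHom
    let X : Subgroup H := X₀.map N.subtype
    have hXmem : ∀ n : N, (n : H) ∈ X ↔ ∀ i, e₀ n i ∈ P i := fun n => by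
      constructor
      · rintro ⟨n', hn', he⟩
        rw [show n = n' from Subtype.ext he.symm]
        exact fun i => (Subgroup.mem_pi _).mp hn' i (Set.mem_univ i)
      · exact fun h => ⟨n, (Subgroup.mem_pi _).mpr fun i _ => h i, rfl⟩
    have hKX : MulAction.stabilizer H a ⊓ N ≤ X := by
      rintro n ⟨hn, hnN⟩
      exact (hXmem ⟨n, hnN⟩).mpr fun i => ⟨_, (hLmem ⟨n, hnN⟩).mpr hn, rfl⟩
    have hinv : MulAction.stabilizer H a ≤ Subgroup.normalizer (X : Set H) := by
      intro g hg
      have key : ∀ h ∈ MulAction.stabilizer H a, ∀ x ∈ X, h * x * h⁻¹ ∈ X := by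
        rintro h hh _ ⟨n, hn, rfl⟩
        refine (hXmem (MulAut.conjNormal h n)).mpr fun j => ?_
        have hinvh : h⁻¹ • a = a := by
          rw [inv_smul_eq_iff]; exact (MulAction.mem_stabilizer_iff.mp hh).symm
        choose π fπ hπ using hcoord h
        have hsurj : Function.Surjective π := Finite.surjective_of_injective fun l l' e => by
          by_contra hne
          obtain ⟨s, hs⟩ := exists_ne (1 : T)
          have h1 := hπ l (Pi.mulSingle l s)
          have h2 := hπ l' (Pi.mulSingle l s)
          rw [Pi.mulSingle_eq_same] at h1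
          rw [Pi.mulSingle_eq_of_ne (Ne.symm hne), map_one, ← e, h1] at h2
          exact hs ((MulEquiv.map_eq_one_iff (fπ l)).mp h2)
        obtain ⟨i, rfl⟩ := hsurj j
        have h1 : e₀ (MulAut.conjNormal h n) = A h (e₀ n) := by
          simp [A, CfsgLib.Recognition.PowerAction.act]
        rw [h1, hπ i]
        obtain ⟨y, hy, hyi⟩ := (Subgroup.mem_pi _).mp hn i (Set.mem_univ i)
        refine ⟨A h y, hAmem h hh y hy, ?_⟩
        show A h y (π i) = _
        rw [hπ i]
        exact congrArg (fπ i) hyi
      intro x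
      refine ⟨fun hx => key g hg x hx, fun hx => ?_⟩
      have := key g⁻¹ (Subgroup.inv_mem _ hg) _ hx
      simpa [mul_assoc] using this
    rcases Cfsg.Agent.S0722.result H N hN hmin a X (Subgroup.map_subtype_le X₀) hKX hinv with hX | hX
    · refine ⟨T, inferInstance, m, e₀, inferInstance, fun h => ?_, hm, Or.inl ⟨P, hPtop, fun n => ?_⟩⟩
      · obtain ⟨x, y, hxy⟩ := hT
        exact hxy (h.is_comm.comm x y)
      · rw [← hXmem, hX]
        exact ⟨fun h => ⟨h, n.2⟩, fun h => h.1⟩
    · exfalso
      apply hPtop i₁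
      rw [eq_top_iff]
      intro t _
      have := (hXmem (e₀.symm (Pi.mulSingle i₁ t))).mp (by rw [hX]; exact SetLike.coe_mem _) i₁
      rwa [MulEquiv.apply_symm_apply, Pi.mulSingle_eq_same] at this

end Cfsg.Agent.S0723
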