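import Cfsg.Statements.S0724
import Mathlib

set_option autoImplicit false
open Cfsg

namespace Cfsg.Agent.S0724

/-- Blichfeldt's Theorem: if a finite set `L` of natural numbers contains the number of fixed points of every non-identity element of a permutation group `G` of degree `n`, then the order of `G` divides `∏ (n - l)` over `l ∈ L`. -/
theorem result {α : Type*} [Fintype α] [DecidableEq α] (G : Subgroup (Equiv.Perm α)) (L : Finset ℕ) (hL : ∀ g ∈ G, g ≠ 1 → Nat.card (MulAction.fixedBy α g) ∈ L) : Nat.card G ∣ ∏ l ∈ L, (Fintype.card α - l) := by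
  classical
  set n := Fintype.card α with hn
  by_cases hbig : ∃ l ∈ L, n ≤ l
  · obtain ⟨l, hl, hnl⟩ := hbig
    rw [Finset.prod_eq_zero hl (by omega)]
    exact dvd_zero _
  push Not at hbig
  haveI := Fintype.ofFinite G
  let π : G → ℕ := fun g => Nat.card (MulAction.fixedBy α g)
  have hmom : ∀ j : ℕ, Nat.card G ∣ ∑ g : G, π g ^ j := by
    intro j
    refine ⟨Fintype.card (MulAction.orbitRel.Quotient G (Fin j → α)), ?_⟩
    rw [Nat.card_eq_fintype_card, mul_comm, ← MulAction.sum_card_fixedBy_eq_card_orbits_mul_card_group]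
    refine Finset.sum_congr rfl fun g _ => ?_
    have e : MulAction.fixedBy (Fin j → α) g ≃ (Fin j → MulAction.fixedBy α g) :=
      { toFun := fun f i => ⟨f.1 i, congrFun f.2 i⟩
        invFun := fun f => ⟨fun i => (f i).1, funext fun i => (f i).2⟩
        left_inv := fun f => rfl
        right_inv := fun f => rfl }
    rw [← Nat.card_eq_fintype_card, Nat.card_congr e, Nat.card_fun, Nat.card_fin]
  let P : Polynomial ℤ := ∏ l ∈ L, (Polynomial.X - Polynomial.C (l : ℤ))
  have hdiv : (Nat.card G : ℤ) ∣ ∑ g : G, P.eval (π g : ℤ) := by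
    simp only [Polynomial.eval_eq_sum_range (p := P)]
    rw [Finset.sum_comm]
    refine Finset.dvd_sum fun j _ => ?_
    rw [← Finset.mul_sum]
    refine dvd_mul_of_dvd_right ?_ _
    exact_mod_cast hmom j
  have hP : ∀ x : ℤ, P.eval x = ∏ l ∈ L, (x - (l : ℤ)) := fun x => by simp [P, Polynomial.eval_prod]
  rw [Finset.sum_eq_single (1 : G)] at hdiv
  · rw [hP] at hdiv
    have h1 : π 1 = n := by simp [π, hn]
    rw [h1] at hdiv
    have h2 : ((∏ l ∈ L, (n - l) : ℕ) : ℤ) = ∏ l ∈ L, ((n : ℤ) - l) := by
      rw [Nat.cast_prod]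
      exact Finset.prod_congr rfl fun l hl => Nat.cast_sub (hbig l hl).le
    rw [← h2] at hdiv
    exact_mod_cast hdiv
  · intro g _ hg
    rw [hP]
    refine Finset.prod_eq_zero (hL g g.2 fun e => hg (Subtype.ext e)) ?_
    exact sub_self _
  · intro h; exact absurd (Finset.mem_univ _) h

end Cfsg.Agent.S0724
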