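import Mathlib
import Cfsg.Statements.S0726


set_option autoImplicit false
open Cfsg

namespace Cfsg.Agent.S0726

/-- The left and right regular permutation representations of a group are each other's centralisers in the symmetric group: the centraliser of the left regular image is the right regular image, and a transitive subgroup centralising the left regular image is the whole right regular image. -/
theorem result {G : Type*} [Group G] : Subgroup.centralizer ((MulAction.toPermHom G G).range : Set (Equiv.Perm G)) = (MulAction.toPermHom Gᵐᵒᵖ G).range ∧ ∀ H : Subgroup (Equiv.Perm G), H ≤ Subgroup.centralizer ((MulAction.toPermHom G G).range : Set (Equiv.Perm G)) → MulAction.IsPretransitive H G → H = (MulAction.toPermHom Gᵐᵒᵖ G).range := by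
  have h1 : Subgroup.centralizer ((MulAction.toPermHom G G).range : Set (Equiv.Perm G))
      = (MulAction.toPermHom Gᵐᵒᵖ G).range := by
    ext c
    rw [Subgroup.mem_centralizer_iff]
    constructor
    · intro hc
      refine ⟨MulOpposite.op (c 1), Equiv.ext fun x => ?_⟩
      have := congrArg (fun σ : Equiv.Perm G => σ 1) (hc _ ⟨x, rfl⟩)
      simp only [Equiv.Perm.mul_apply, MulAction.toPermHom_apply, MulAction.toPerm_apply,
        smul_eq_mul, mul_one] at this
      simp only [MulAction.toPermHom_apply, MulAction.toPerm_apply, op_smul_eq_mul]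
      exact this
    · rintro ⟨y, rfl⟩ _ ⟨x, rfl⟩
      ext z
      simp [MulOpposite.smul_eq_mul_unop, mul_assoc]
  refine ⟨h1, fun H hH ht => le_antisymm (h1 ▸ hH) ?_⟩
  rintro _ ⟨y, rfl⟩
  obtain ⟨⟨σ, hσ⟩, hσy⟩ := ht.exists_smul_eq 1 (MulOpposite.unop y)
  obtain ⟨z, hz⟩ : σ ∈ (MulAction.toPermHom Gᵐᵒᵖ G).range := h1 ▸ hH hσ
  have : z = y := by
    have hσy' : σ 1 = MulOpposite.unop y := hσy
    rw [← hz] at hσy'
    clear hσy; rename' hσy' => hσy
    simpa [MulOpposite.smul_eq_mul_unop] using hσy
  exact this ▸ hz.symm ▸ hσ

end Cfsg.Agent.S0726
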