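import Cfsg.Statements.S0733
import Mathlib

set_option autoImplicit false
open Cfsg

namespace Cfsg.Agent.S0733

/-- A permutation group of affine type — generated by the translations of a finite vector space `V` over `ZMod p` together with a group `G₀` of linear automorphisms — is primitive on `V` if and only if `G₀` is irreducible on `V`. -/
theorem result {p : ℕ} [Fact p.Prime] {V : Type*} [AddCommGroup V] [Module (ZMod p) V] [Finite V] [Nontrivial V] (G₀ : Subgroup (V ≃ₗ[ZMod p] V)) (G : Subgroup (Equiv.Perm V)) (hG : ∀ σ : Equiv.Perm V, σ ∈ G ↔ ∃ g ∈ G₀, ∃ b : V, ∀ x : V, σ x = (g : V ≃ₗ[ZMod p] V) x + b) : MulAction.IsPreprimitive G V ↔ ∀ W : Submodule (ZMod p) V, (∀ g ∈ G₀, ∀ v ∈ W, (g : V ≃ₗ[ZMod p] V) v ∈ W) → W = ⊥ ∨ W = ⊤ := by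
  classical
  have htr : ∀ b : V, Equiv.addRight b ∈ G := fun b =>
    (hG _).mpr ⟨1, G₀.one_mem, b, fun x => rfl⟩
  have hlin : ∀ g ∈ G₀, (g : V ≃ₗ[ZMod p] V).toEquiv ∈ G := fun g hg =>
    (hG _).mpr ⟨g, hg, 0, fun x => by simp⟩
  haveI : MulAction.IsPretransitive G V := by
    refine ⟨fun x y => ⟨⟨_, htr (y - x)⟩, ?_⟩⟩
    show x + (y - x) = y
    abel
  constructor
  · intro hP W hW
    have hB : MulAction.IsBlock G (W : Set V) := by
      rw [MulAction.isBlock_iff_smul_eq_of_mem]
      intro σ x hx hσx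
      obtain ⟨g, hg, b, hσ⟩ := (hG σ.1).mp σ.2
      have hσ' : ∀ z, σ • z = g z + b := hσ
      have hb : b ∈ W := by
        rw [SetLike.mem_coe, hσ'] at hσx
        have := W.sub_mem hσx (hW g hg x hx)
        simpa using this
      refine Set.eq_of_subset_of_ncard_le ?_ (le_of_eq ?_) (Set.toFinite _)
      · rintro _ ⟨z, hz, rfl⟩
        show σ • z ∈ (W : Set V)
        rw [hσ']
        exact W.add_mem (hW g hg z hz) hb
      · rw [← Set.image_smul, Set.ncard_image_of_injective _ (MulAction.injective σ)]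
    rcases hP.isTrivialBlock_of_isBlock hB with h | h
    · left
      rw [Submodule.eq_bot_iff]
      exact fun w hw => h hw W.zero_mem
    · right
      exact SetLike.coe_injective (by simpa using h)
  · intro hirr
    refine MulAction.IsPreprimitive.of_isTrivialBlock_base (G := G) (0 : V) (fun {B} h0 hB => ?_)
    have hfix : ∀ σ : G, σ • (0 : V) ∈ B → ∀ z ∈ B, σ • z ∈ B := by
      intro σ hσ z hz
      have := (MulAction.isBlock_iff_smul_eq_of_mem.mp hB) h0 hσ
      rw [← this]
      exact Set.smul_mem_smul_set hz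
    have hadd : ∀ x ∈ B, ∀ y ∈ B, x + y ∈ B := fun x hx y hy =>
      hfix ⟨_, htr y⟩ (by show (0 : V) + y ∈ B; rwa [zero_add]) x hx
    have hsmul : ∀ (n : ℕ), ∀ x ∈ B, n • x ∈ B := by
      intro n
      induction n with
      | zero => intro x _; rwa [zero_smul]
      | succ n ih => intro x hx; rw [succ_nsmul]; exact hadd _ (ih x hx) _ hx
    let W : Submodule (ZMod p) V :=
      { carrier := B
        add_mem' := fun {x y} hx hy => hadd x hx y hy
        zero_mem' := h0
        smul_mem' := fun c x hx => by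
          rw [← ZMod.natCast_zmod_val c, Nat.cast_smul_eq_nsmul]
          exact hsmul _ x hx }
    have hWinv : ∀ g ∈ G₀, ∀ v ∈ W, (g : V ≃ₗ[ZMod p] V) v ∈ W := fun g hg v hv =>
      hfix ⟨_, hlin g hg⟩ (by show g 0 ∈ B; rwa [map_zero]) v hv
    rcases hirr W hWinv with h | h
    · left
      intro x hx y hy
      have hx' : x ∈ W := hx
      have hy' : y ∈ W := hy
      rw [h, Submodule.mem_bot] at hx' hy'
      rw [hx', hy']
    · right
      exact congrArg (fun S : Submodule (ZMod p) V => (S : Set V)) h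

end Cfsg.Agent.S0733
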