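import Cfsg.Statements.S0734
import Mathlib

set_option autoImplicit false
open Cfsg

namespace Cfsg.Agent.S0734

/-- Higman's criterion for primitivity: a transitive action on a finite set is primitive if and only if every non-trivial orbital graph (edges = images of a fixed pair of distinct points) is connected. -/
theorem result {G : Type*} [Group G] {Ω : Type*} [Finite Ω] [MulAction G Ω] [MulAction.IsPretransitive G Ω] [Nontrivial Ω] : MulAction.IsPreprimitive G Ω ↔ ∀ a b : Ω, a ≠ b → (SimpleGraph.fromRel fun x y : Ω => ∃ g : G, g • a = x ∧ g • b = y).Connected := by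
  classical
  constructor
  · intro hP a b hab
    set Γ := SimpleGraph.fromRel fun x y : Ω => ∃ g : G, g • a = x ∧ g • b = y
    have hadj : ∀ (h : G) (x y : Ω), Γ.Adj x y → Γ.Adj (h • x) (h • y) := by
      intro h x y hxy
      obtain ⟨hne, hxy⟩ := hxy
      refine ⟨fun e => hne (MulAction.injective h e), ?_⟩
      rcases hxy with ⟨g, h1, h2⟩ | ⟨g, h1, h2⟩
      · exact Or.inl ⟨h * g, by rw [mul_smul, h1], by rw [mul_smul, h2]⟩
      · exact Or.inr ⟨h * g, by rw [mul_smul, h1], by rw [mul_smul, h2]⟩
    have hreach : ∀ (h : G) (x y : Ω), Γ.Reachable x y → Γ.Reachable (h • x) (h • y) := by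
      intro h x y hxy
      exact hxy.map ⟨fun z => h • z, fun {x y} => hadj h x y⟩
    have hB : MulAction.IsBlock G {x | Γ.Reachable a x} := by
      rw [MulAction.isBlock_iff_smul_eq_of_mem]
      intro h x hx hhx
      have hha : Γ.Reachable a (h • a) := hhx.trans (hreach h _ _ hx).symm
      refine Set.eq_of_subset_of_ncard_le ?_ (le_of_eq ?_) (Set.toFinite _)
      · rintro _ ⟨z, hz, rfl⟩
        exact hha.trans (hreach h _ _ hz)
      · rw [← Set.image_smul, Set.ncard_image_of_injective _ (MulAction.injective h)]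
    have hb : Γ.Reachable a b :=
      SimpleGraph.Adj.reachable ⟨hab, Or.inl ⟨1, one_smul G a, one_smul G b⟩⟩
    rcases hP.isTrivialBlock_of_isBlock hB with h | h
    · exact absurd (h (SimpleGraph.Reachable.refl a) hb) hab
    · have hall : ∀ x, Γ.Reachable a x := Set.eq_univ_iff_forall.mp h
      exact ⟨fun x y => (hall x).symm.trans (hall y)⟩
  · intro hcon
    refine ⟨fun {B} hB => or_iff_not_imp_left.mpr fun hns => ?_⟩
    simp only [Set.Subsingleton, not_forall] at hns
    obtain ⟨a, ha, b, hb, hab⟩ := hns
    rw [Set.eq_univ_iff_forall]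
    intro x
    obtain ⟨w⟩ := (hcon a b hab) a x
    have key : ∀ {u v : Ω} (_ : (SimpleGraph.fromRel fun x y : Ω =>
        ∃ g : G, g • a = x ∧ g • b = y).Walk u v), u ∈ B → v ∈ B := by
      intro u v w
      induction w with
      | nil => exact id
      | @cons u v w hadj _ ih =>
        intro hu
        refine ih ?_
        obtain ⟨-, ⟨g, h1, h2⟩ | ⟨g, h1, h2⟩⟩ := hadj
        · rw [← (MulAction.isBlock_iff_smul_eq_of_mem.mp hB) ha (h1 ▸ hu), ← h2]
          exact Set.smul_mem_smul_set hb
        · rw [← (MulAction.isBlock_iff_smul_eq_of_mem.mp hB) hb (h2 ▸ hu), ← h1]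
          exact Set.smul_mem_smul_set ha
    exact key w ha

end Cfsg.Agent.S0734
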