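import Cfsg.Statements.S0735
import Mathlib
import Cfsg.Agent.Lib.SmallGroups.Homogeneous

set_option autoImplicit false
open Cfsg

namespace Cfsg.Agent.S0735

/-- A 2-homogeneous permutation group (transitive on 2-subsets) of even order is doubly transitive; a non-trivial 2-homogeneous group is primitive. -/
theorem result {α : Type*} [Fintype α] [DecidableEq α] (G : Subgroup (Equiv.Perm α)) (h2 : MulAction.IsPretransitive G (Set.powersetCard α 2)) (hα : 3 ≤ Fintype.card α) : (Even (Nat.card G) → MulAction.IsMultiplyPretransitive G α 2) ∧ (G ≠ ⊥ → MulAction.IsPreprimitive G α) := by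
  classical
  have hh := CfsgLib.SmallGroups.Homogeneous.isHom_of_isPretransitive h2
  have h1 : CfsgLib.SmallGroups.Homogeneous.IsHom G α 1 :=
    CfsgLib.SmallGroups.Homogeneous.isHom_pred le_rfl hh (fun q hq hd => by
      have := Nat.le_of_dvd (by norm_num) hd
      omega)
  have hpair : ∀ a b x y : α, a ≠ b → x ≠ y → ∃ g : G,
      (g • a = x ∧ g • b = y) ∨ (g • a = y ∧ g • b = x) := by
    intro a b x y hab hxy
    obtain ⟨g, hg⟩ := hh {a, b} {x, y} (Finset.card_pair hab) (Finset.card_pair hxy)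
    have ha : g • a ∈ ({x, y} : Finset α) :=
      hg ▸ Finset.smul_mem_smul_finset (Finset.mem_insert_self a _)
    have hb : g • b ∈ ({x, y} : Finset α) :=
      hg ▸ Finset.smul_mem_smul_finset (Finset.mem_insert_of_mem (Finset.mem_singleton_self b))
    have hne : g • a ≠ g • b := fun e => hab (MulAction.injective g e)
    simp only [Finset.mem_insert, Finset.mem_singleton] at ha hb
    refine ⟨g, ?_⟩
    rcases ha with ha | ha <;> rcases hb with hb | hb
    · exact absurd (ha.trans hb.symm) hne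
    · exact Or.inl ⟨ha, hb⟩
    · exact Or.inr ⟨ha, hb⟩
    · exact absurd (ha.trans hb.symm) hne
  refine ⟨fun hev => ?_, fun _ => ?_⟩
  · obtain ⟨g, hg⟩ := exists_prime_orderOf_dvd_card' (G := G) 2 (even_iff_two_dvd.mp hev)
    obtain ⟨a, hga⟩ : ∃ a : α, g • a ≠ a := by
      by_contra hall
      push Not at hall
      have : g = 1 := Subtype.ext (Equiv.ext hall)
      rw [this, orderOf_one] at hg
      omega
    have hgg : g • g • a = a := by
      rw [← mul_smul, ← pow_two, ← hg, pow_orderOf_eq_one, one_smul]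
    rw [MulAction.is_two_pretransitive_iff]
    intro x y x' y' hxy hxy'
    suffices key : ∀ x y : α, x ≠ y → ∃ u : G, u • a = x ∧ u • (g • a) = y by
      obtain ⟨u, hu1, hu2⟩ := key x y hxy
      obtain ⟨v, hv1, hv2⟩ := key x' y' hxy'
      exact ⟨v * u⁻¹, by rw [mul_smul, ← hu1, inv_smul_smul, hv1],
        by rw [mul_smul, ← hu2, inv_smul_smul, hv2]⟩
    intro x y hxy
    obtain ⟨u, ⟨hu1, hu2⟩ | ⟨hu1, hu2⟩⟩ := hpair a (g • a) x y (Ne.symm hga) hxy
    · exact ⟨u, hu1, hu2⟩
    · exact ⟨u * g, by rw [mul_smul, hu2], by rw [mul_smul, hgg, hu1]⟩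
  · haveI : MulAction.IsPretransitive G α := ⟨fun x y => by
      obtain ⟨g, hg⟩ := h1 {x} {y} (Finset.card_singleton x) (Finset.card_singleton y)
      rw [Finset.smul_finset_singleton, Finset.singleton_inj] at hg
      exact ⟨g, hg⟩⟩
    refine ⟨fun {B} hB => or_iff_not_imp_left.mpr fun hns => ?_⟩
    simp only [Set.Subsingleton, not_forall] at hns
    obtain ⟨a, ha, b, hb, hab⟩ := hns
    rw [Set.eq_univ_iff_forall]
    intro z
    by_cases hz : z = a
    · exact hz ▸ ha
    obtain ⟨g, ⟨hga, hgb⟩ | ⟨hga, hgb⟩⟩ := hpair a b a z hab (Ne.symm hz)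
    · rw [← (MulAction.isBlock_iff_smul_eq_of_mem.mp hB) ha (by rw [hga]; exact ha), ← hgb]
      exact Set.smul_mem_smul_set hb
    · rw [← (MulAction.isBlock_iff_smul_eq_of_mem.mp hB) hb (by rw [hgb]; exact ha), ← hga]
      exact Set.smul_mem_smul_set ha

end Cfsg.Agent.S0735
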