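import Cfsg.Statements.S0739
import Cfsg.Agent.Lib.Char.Zassenhaus
import Cfsg.Agent.S0738
import Mathlib

set_option autoImplicit false
open Cfsg

namespace Cfsg.Agent.S0739

open scoped commutatorElement

/-- In a finite Zassenhaus group whose two-point stabiliser `H = G_{a,b}` has odd order `d`, and which has no normal `q`-complement for any prime `q ∣ d`, `H` is cyclic, `C_G(H) = H`, and every element swapping `a` and `b` inverts each element of `H`. -/
theorem result {G Ω : Type*} [Group G] [Finite G] [MulAction G Ω] [Fintype Ω] (hZ : Cfsg.IsZassenhausGroup G Ω) {a b : Ω} (hab : a ≠ b) (hodd : Odd (Nat.card ↥(MulAction.stabilizer G a ⊓ MulAction.stabilizer G b))) (hnil : ∀ q : ℕ, q.Prime → q ∣ Nat.card ↥(MulAction.stabilizer G a ⊓ MulAction.stabilizer G b) → ¬ ∃ N : Subgroup G, N.Normal ∧ N.index = q ^ (Nat.card G).factorization q) : IsCyclic ↥(MulAction.stabilizer G a ⊓ MulAction.stabilizer G b) ∧ Subgroup.centralizer ((MulAction.stabilizer G a ⊓ MulAction.stabilizer G b : Subgroup G)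 : Set G) = MulAction.stabilizer G a ⊓ MulAction.stabilizer G b ∧ ∀ s : G, s • a = b → s • b = a → ∀ h ∈ MulAction.stabilizer G a ⊓ MulAction.stabilizer G b, s * h * s⁻¹ = h⁻¹ := by
  classical
  haveI := hZ.1
  set D : Subgroup G := MulAction.stabilizer G a ⊓ MulAction.stabilizer G b with hD
  set d := Nat.card D with hd
  obtain ⟨K, hKa, hKcard, hKfix⟩ := CfsgLib.Char.Zassenhaus.exists_kernel hZ hab
  have hn := CfsgLib.Char.Zassenhaus.three_le_points hZ hab
  have hK : K ≠ ⊥ := fun h => by rw [h, Subgroup.card_bot] at hKcard; omega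
  have hfpf := CfsgLib.Char.Zassenhaus.fpf hZ hab hKa hKfix
  have hDK : D ≤ Subgroup.normalizer (K : Set G) :=
    inf_le_left.trans (Cfsg.Agent.S0878.result hZ a K hKa hKcard hKfix).2.ge
  have hdvd : d ∣ Nat.card K - 1 := by
    have h : d ∣ Nat.card ((K : Set G) \ {1} : Set G) :=
      Cfsg.Agent.S0738.dvd_card_invariant D _
        (fun x hx u hu => ⟨CfsgLib.Char.Zassenhaus.conj_mem_kernel hZ hab hKa hKcard hKfix hx.1 hu.1,
          fun h1 => hu.2 (conj_eq_one_iff.mp h1)⟩)
        (fun x hx u hu h1 => by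
          by_contra hx1
          exact hu.2 (CfsgLib.Solvable.eq_one_of_fpf hfpf hx hx1 hu.1 h1))
    rwa [Nat.card_coe_set_eq, Set.ncard_sdiff_singleton_of_mem K.one_mem, ← Nat.card_coe_set_eq] at h
  -- only `a` and `b` are fixed
  have hfix : ∀ y ∈ D, y ≠ 1 → ∀ c : Ω, y • c = c → c = a ∨ c = b := by
    intro y hy hy1 c hc
    by_contra hne
    push Not at hne
    exact hy1 (CfsgLib.Char.Zassenhaus.eq_one_of_fix hZ hab (Ne.symm hne.2) (Ne.symm hne.1)
      (MulAction.mem_stabilizer_iff.mp hy.1) (MulAction.mem_stabilizer_iff.mp hy.2) hc)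
  -- the setwise stabiliser of the two points
  let M : Subgroup G :=
    { carrier := {g | (g • a = a ∧ g • b = b) ∨ (g • a = b ∧ g • b = a)}
      one_mem' := Or.inl ⟨one_smul G a, one_smul G b⟩
      mul_mem' := fun {g h} hg hh => by
        rcases hg with ⟨g1, g2⟩ | ⟨g1, g2⟩ <;> rcases hh with ⟨h1, h2⟩ | ⟨h1, h2⟩ <;>
          simp [mul_smul, g1, g2, h1, h2]
      inv_mem' := fun {g} hg => by
        rcases hg with ⟨g1, g2⟩ | ⟨g1, g2⟩
        · exact Or.inl ⟨inv_smul_eq_iff.mpr g1.symm, inv_smul_eq_iff.mpr g2.symm⟩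
        · exact Or.inr ⟨inv_smul_eq_iff.mpr g2.symm, inv_smul_eq_iff.mpr g1.symm⟩ }
  have hDM : D ≤ M := fun g hg => Or.inl ⟨hg.1, hg.2⟩
  have hperm : ∀ y ∈ D, y ≠ 1 → ∀ g : G, g⁻¹ * y * g ∈ D → g ∈ M := by
    intro y hy hy1 g hgy
    have h1 : ∀ c : Ω, (g⁻¹ * y * g) • c = c → g • c = a ∨ g • c = b := fun c hc => by
      refine hfix y hy hy1 _ ?_
      rw [mul_smul, mul_smul, inv_smul_eq_iff] at hc
      exact hc
    have ha := h1 a hgy.1
    have hb := h1 b hgy.2
    have hne : g • a ≠ g • b := fun e => hab (smul_left_cancel g e)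
    rcases ha with ha | ha <;> rcases hb with hb | hb
    · exact absurd (ha.trans hb.symm) hne
    · exact Or.inl ⟨ha, hb⟩
    · exact Or.inr ⟨ha, hb⟩
    · exact absurd (ha.trans hb.symm) hne
  obtain ⟨t, -, hta, htb⟩ := CfsgLib.Char.Zassenhaus.exists_swap hZ hab hodd
  have htM : t ∈ M := Or.inr ⟨hta, htb⟩
  set DM : Subgroup M := D.subgroupOf M with hDMdef
  have hindex : DM.index = 2 := by
    refine Subgroup.index_eq_two_iff.mpr ⟨⟨t, htM⟩, fun ⟨g, hg⟩ => ?_⟩
    have hn1 : g • a = a ∧ g • b = b → ¬ g * t ∈ D := fun h hm => hab.symm (by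
      have := MulAction.mem_stabilizer_iff.mp hm.1
      rwa [mul_smul, hta, h.2] at this)
    rcases hg with h | h
    · refine Or.inr ⟨?_, fun hm => hn1 h hm⟩
      exact ⟨h.1, h.2⟩
    · refine Or.inl ⟨?_, fun hm => ?_⟩
      · exact ⟨show (g * t) • a = a by rw [mul_smul, hta, h.2],
          show (g * t) • b = b by rw [mul_smul, htb, h.1]⟩
      · exact hab.symm (h.1.symm.trans (MulAction.mem_stabilizer_iff.mp
          (Subgroup.mem_subgroupOf.mp hm).1))
  haveI hDMn : DM.Normal := Subgroup.normal_of_index_eq_two hindex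
  have hcardDM : Nat.card DM = d := Nat.card_congr (Subgroup.subgroupOfEquivOfLe hDM).toEquiv
  have hcardM : Nat.card M = d * 2 := by rw [← DM.card_mul_index, hcardDM, hindex]
  -- odd Sylow subgroups of the stabiliser are cyclic
  have hcyc : ∀ (r : ℕ), r.Prime → r ≠ 2 → ∀ R : Subgroup G, IsPGroup r R → R ≤ D → IsCyclic R := by
    intro r hr hr2 R hR hRD
    haveI := Fact.mk hr
    rcases CfsgLib.Solvable.isCyclic_or_quaternion hR (fun x y hx hy =>
      CfsgLib.Solvable.mem_zpowers_of_fpf_pGroup hK (hRD.trans hDK)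
        (CfsgLib.Solvable.fpf_mono hRD hfpf) hR hx hy) with h | ⟨h, -⟩
    · exact h
    · exact absurd h hr2
  haveI hMZ : IsZGroup M := by
    refine ⟨fun r hr P => ?_⟩
    haveI := Fact.mk hr
    by_cases hr2 : r = 2
    · subst hr2
      have hcop : Nat.Coprime 2 d := Nat.coprime_two_left.mpr hodd
      have h : Nat.card (P : Subgroup M) = 2 := by
        rw [P.card_eq_multiplicity, hcardM, Nat.factorization_mul (Nat.card_pos).ne' two_ne_zero,
          Finsupp.add_apply, Nat.factorization_eq_zero_of_not_dvd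
            ((Nat.Prime.coprime_iff_not_dvd Nat.prime_two).mp hcop), zero_add,
          Nat.prime_two.factorization_self, pow_one]
      exact isCyclic_of_prime_card h
    · have hle : (P : Subgroup M).map M.subtype ≤ D := by
        rintro _ ⟨x, hx, rfl⟩
        show (x : G) ∈ D
        by_contra hxD
        obtain ⟨k, hk⟩ := P.2 ⟨x, hx⟩
        have h2 : orderOf (x : M ⧸ DM) ∣ r ^ k := orderOf_dvd_of_pow_eq_one (by
          rw [← QuotientGroup.mk_pow, show x ^ r ^ k = 1 from congrArg Subtype.val hk]; rfl)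
        have h1 : orderOf (x : M ⧸ DM) ∣ 2 := hindex ▸ orderOf_dvd_natCard _
        have h3 : orderOf (x : M ⧸ DM) = 1 := Nat.eq_one_of_dvd_coprimes
          (((Nat.coprime_primes hr Nat.prime_two).mpr hr2).pow_left k) h2 h1
        exact hxD (Subgroup.mem_subgroupOf.mp ((QuotientGroup.eq_one_iff x).mp (orderOf_eq_one_iff.mp h3)))
      haveI := hcyc r hr hr2 _ (P.2.map M.subtype) hle
      exact isCyclic_of_surjective _
        ((P : Subgroup M).equivMapOfInjective _ M.subtype_injective).symm.surjective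
  -- the commutator subgroup is the stabiliser
  have hcomle : commutator M ≤ DM := by
    rw [commutator_def, Subgroup.commutator_le]
    intro x _ y _
    simp only [commutatorElement_def, Subgroup.mul_mem_iff_of_index_two hindex, inv_mem_iff]
    tauto
  have hDcom : DM ≤ commutator M := by
    have hdiv : d ∣ Nat.card (commutator M) := by
      refine Nat.dvd_iff_prime_pow_dvd_dvd _ _ |>.mpr fun q k hq hk => ?_
      rcases Nat.eq_zero_or_pos k with hk0 | hk0
      · simp [hk0]
      have hqd : q ∣ d := (dvd_pow_self q hk0.ne').trans hk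
      haveI := Fact.mk hq
      have hq2 : q ≠ 2 := fun e => Nat.not_even_iff_odd.mpr hodd (even_iff_two_dvd.mpr (e ▸ hqd))
      have hv : (Nat.card G).factorization q = d.factorization q := by
        obtain ⟨w, hw⟩ := hqd.trans hdvd
        have hKpos : 0 < Nat.card K := Nat.card_pos
        have hG := CfsgLib.Char.Zassenhaus.card_group hZ hab
        rw [← hD, ← hd, ← hKcard, Nat.add_sub_cancel] at hG
        have hn1 : ¬ q ∣ Nat.card K := fun h => by
          have : q ∣ 1 := (Nat.dvd_add_right (Dvd.intro _ hw.symm)).mp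
            (show q ∣ (Nat.card K - 1) + 1 by rwa [Nat.sub_add_cancel hKpos])
          exact hq.not_dvd_one this
        have hn2 : ¬ q ∣ Nat.card K + 1 := fun h => by
          have : q ∣ 2 := (Nat.dvd_add_right (Dvd.intro _ hw.symm)).mp
            (show q ∣ (Nat.card K - 1) + 2 by
              rwa [show Nat.card K - 1 + 2 = Nat.card K + 1 by omega])
          exact hq2 ((Nat.prime_dvd_prime_iff_eq hq Nat.prime_two).mp this)
        rw [← hG, Nat.factorization_mul (Nat.mul_ne_zero (by omega) (by omega)) Nat.card_pos.ne',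
          Finsupp.add_apply, Nat.factorization_mul (by omega) (by omega), Finsupp.add_apply,
          Nat.factorization_eq_zero_of_not_dvd hn1, Nat.factorization_eq_zero_of_not_dvd hn2, zero_add,
          zero_add]
      obtain ⟨R₀, hR₀⟩ : ∃ R : Subgroup D, Nat.card R = q ^ d.factorization q :=
        Sylow.exists_subgroup_card_pow_prime q (Nat.ordProj_dvd d q)
      have hRG : Nat.card (R₀.map D.subtype) = q ^ (Nat.card G).factorization q := by
        rw [Subgroup.card_map_of_injective D.subtype_injective, hR₀, hv]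
      let P : Sylow q G := Sylow.ofCard _ hRG
      have hPD : (P : Subgroup G) ≤ D := Subgroup.map_subtype_le R₀
      let PM : Sylow q M := P.subtype (hPD.trans hDM)
      haveI : IsCyclic (P : Subgroup G) := hcyc q hq hq2 _ P.2 hPD
      haveI : IsCyclic (PM : Subgroup M) :=
        isCyclic_of_surjective _ (Subgroup.subgroupOfEquivOfLe (hPD.trans hDM)).symm.surjective
      rcases Sylow.normalizer_le_centralizer_or_le_commutator PM with h | h
      · exfalso
        have hNC : Subgroup.normalizer (P : Set G) ≤ Subgroup.centralizer (P : Set G) := by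
          intro g hg
          have hPne : (P : Subgroup G) ≠ ⊥ := fun e => by
            have h1 : Nat.card (P : Subgroup G) = q ^ (Nat.card G).factorization q := hRG
            rw [e, Subgroup.card_bot, hv] at h1
            exact absurd h1 (ne_of_lt
              (Nat.one_lt_pow (hq.factorization_pos_of_dvd Nat.card_pos.ne' hqd).ne' hq.one_lt))
          obtain ⟨y, hy, hy1⟩ := (Subgroup.bot_or_exists_ne_one _).resolve_left hPne
          have hgM : g ∈ M := by
            refine hperm y (hPD hy) hy1 g (hPD ?_)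
            exact (Subgroup.mem_normalizer_iff''.mp hg y).mp hy
          have hgN : (⟨g, hgM⟩ : M) ∈ Subgroup.normalizer ((PM : Subgroup M) : Set M) := by
            rw [Subgroup.mem_normalizer_iff]
            intro x
            exact Subgroup.mem_normalizer_iff.mp hg (x : G)
          intro z hz
          exact congrArg Subtype.val (h hgN ⟨z, hDM (hPD hz)⟩ hz)
        refine hnil q hq hqd ⟨(MonoidHom.transferSylow P hNC).ker, MonoidHom.normal_ker _, ?_⟩
        rw [(MonoidHom.ker_transferSylow_isComplement' P hNC).symm.index_eq_card, P.card_eq_multiplicity]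
      · refine dvd_trans ?_ (Subgroup.card_dvd_of_le h)
        rw [P.coe_subtype, Nat.card_congr (Subgroup.subgroupOfEquivOfLe (hPD.trans hDM)).toEquiv,
          show Nat.card (P : Subgroup G) = q ^ (Nat.card G).factorization q from hRG, hv]
        exact pow_dvd_pow q ((hq.pow_dvd_iff_le_factorization Nat.card_pos.ne').mp hk)
    exact (Subgroup.eq_of_le_of_card_ge hcomle
      (hcardDM ▸ Nat.le_of_dvd Nat.card_pos hdiv)).ge
  have hDMcom : DM = commutator M := le_antisymm hDcom hcomle
  haveI hDMcyc : IsCyclic DM := hDMcom ▸ IsZGroup.isCyclic_commutator M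
  have hcycD : IsCyclic D :=
    isCyclic_of_surjective _ (Subgroup.subgroupOfEquivOfLe hDM).surjective
  have hcomm : ∀ x ∈ D, ∀ y ∈ D, x * y = y * x := fun x hx y hy => by
    letI := hcycD.commGroup
    exact congrArg Subtype.val (mul_comm (⟨x, hx⟩ : D) ⟨y, hy⟩)
  -- inversion
  have hinv : ∀ s : G, s • a = b → s • b = a → ∀ h ∈ D, s * h * s⁻¹ = h⁻¹ := by
    intro s hsa hsb
    have hsc : ∀ y ∈ D, s * y * s⁻¹ ∈ D := fun y hy => by
      have ha : s⁻¹ • a = b := inv_smul_eq_iff.mpr hsb.symm
      have hb : s⁻¹ • b = a := inv_smul_eq_iff.mpr hsa.symm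
      exact ⟨show (s * y * s⁻¹) • a = a by
          rw [mul_smul, mul_smul, ha, MulAction.mem_stabilizer_iff.mp hy.2, hsb],
        show (s * y * s⁻¹) • b = b by
          rw [mul_smul, mul_smul, hb, MulAction.mem_stabilizer_iff.mp hy.1, hsa]⟩
    -- the commutators with `s` form the commutator subgroup
    letI := hcycD.commGroup
    let f : D →* D := MonoidHom.mk' (fun y => y⁻¹ * ⟨s * y * s⁻¹, hsc y y.2⟩) fun y z => by
      rw [mul_mul_mul_comm, ← mul_inv]
      congr 1
      refine Subtype.ext ?_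
      show s * ((y : G) * z) * s⁻¹ = s * y * s⁻¹ * (s * z * s⁻¹)
      group
    have hssD : ∀ y ∈ D, s * (s * y * s⁻¹) * s⁻¹ = y := fun y hy => by
      have h2 : s * s ∈ D := ⟨show (s * s) • a = a by rw [mul_smul, hsa, hsb],
        show (s * s) • b = b by rw [mul_smul, hsb, hsa]⟩
      calc s * (s * y * s⁻¹) * s⁻¹ = (s * s) * y * (s * s)⁻¹ := by group
        _ = y := by rw [hcomm _ h2 y hy, mul_inv_cancel_right]
    have hflip : ∀ y : D, s * (f y : G) * s⁻¹ = (f y : G)⁻¹ := by
      intro y
      show s * ((y : G)⁻¹ * (s * y * s⁻¹)) * s⁻¹ = ((y : G)⁻¹ * (s * y * s⁻¹))⁻¹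
      calc s * ((y : G)⁻¹ * (s * y * s⁻¹)) * s⁻¹
          = (s * y * s⁻¹)⁻¹ * (s * (s * y * s⁻¹) * s⁻¹) := by group
        _ = (s * y * s⁻¹)⁻¹ * (y : G) := by rw [hssD y y.2]
        _ = ((y : G)⁻¹ * (s * y * s⁻¹))⁻¹ := by group
    have hsurj : ∀ h ∈ D, ∃ y : D, (f y : G) = h := by
      let R : Subgroup M := (f.range.map D.subtype).subgroupOf M
      haveI hRn : R.Normal := by
        refine ⟨fun r hr g => ?_⟩
        obtain ⟨_, ⟨y, rfl⟩, hy⟩ := Subgroup.mem_subgroupOf.mp hr
        show (g : G) * r * (g : G)⁻¹ ∈ f.range.map D.subtype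
        rw [← hy]
        show (g : G) * (f y : G) * (g : G)⁻¹ ∈ f.range.map D.subtype
        rcases g.2 with h | h
        · refine ⟨f y, ⟨y, rfl⟩, ?_⟩
          show (f y : G) = _
          rw [hcomm g ⟨h.1, h.2⟩ _ (f y).2, mul_inv_cancel_right]
        · refine ⟨f y⁻¹, ⟨y⁻¹, rfl⟩, ?_⟩
          show (f y⁻¹ : G) = _
          rw [map_inv, Subgroup.coe_inv, ← hflip y]
          have h2 : s⁻¹ * (g : G) ∈ D :=
            ⟨show (s⁻¹ * (g : G)) • a = a by rw [mul_smul, h.1, inv_smul_eq_iff, hsa],
              show (s⁻¹ * (g : G)) • b = b by rw [mul_smul, h.2, inv_smul_eq_iff, hsb]⟩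
          calc s * (f y : G) * s⁻¹
              = s * ((s⁻¹ * g) * (f y : G) * (s⁻¹ * g)⁻¹) * s⁻¹ := by
                rw [hcomm _ h2 _ (f y).2, mul_inv_cancel_right]
            _ = (g : G) * (f y : G) * (g : G)⁻¹ := by group
      have hab' : ∀ x y : M, ⁅x, y⁆ ∈ R := by
        have hsM : s ∈ M := Or.inr ⟨hsa, hsb⟩
        have hs' : ∀ z : M, (z : G) ∈ D → ((⟨s, hsM⟩ : M) : M ⧸ R) * z = (z : M ⧸ R) * (⟨s, hsM⟩ : M) := by
          intro z hz
          rw [← QuotientGroup.mk_mul, ← QuotientGroup.mk_mul, QuotientGroup.eq, Subgroup.mem_subgroupOf]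
          have he : (((⟨s, hsM⟩ * z)⁻¹ * (z * ⟨s, hsM⟩) : M) : G) = s⁻¹ * ((f ⟨z, hz⟩ : G))⁻¹ * s := by
            show (s * (z : G))⁻¹ * ((z : G) * s) = s⁻¹ * ((z : G)⁻¹ * (s * z * s⁻¹))⁻¹ * s
            have hc := hcomm z hz (s * z * s⁻¹) (hsc z hz)
            calc (s * (z : G))⁻¹ * ((z : G) * s)
                = s⁻¹ * ((s * z * s⁻¹)⁻¹ * z) * s := by group
              _ = s⁻¹ * ((z : G)⁻¹ * (s * z * s⁻¹))⁻¹ * s := by group
          rw [he, ← hflip, show s⁻¹ * (s * (f ⟨z, hz⟩ : G) * s⁻¹) * s = (f ⟨z, hz⟩ : G) by group]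
          exact ⟨f ⟨z, hz⟩, ⟨⟨z, hz⟩, rfl⟩, rfl⟩
        have hQ : ∀ q r : M ⧸ R, q * r = r * q := by
          have hdec : ∀ x : M, (x : G) ∈ D ∨ ∃ z : M, (z : G) ∈ D ∧ x = (⟨s, hsM⟩ : M) * z := by
            intro x
            rcases x.2 with h | h
            · exact Or.inl ⟨h.1, h.2⟩
            · exact Or.inr ⟨(⟨s, hsM⟩ : M)⁻¹ * x,
                ⟨show (s⁻¹ * (x : G)) • a = a by rw [mul_smul, h.1, inv_smul_eq_iff, hsa],
                  show (s⁻¹ * (x : G)) • b = b by rw [mul_smul, h.2, inv_smul_eq_iff, hsb]⟩,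
                (mul_inv_cancel_left _ x).symm⟩
          have hzz : ∀ z w : M, (z : G) ∈ D → (w : G) ∈ D → (z : M ⧸ R) * w = (w : M ⧸ R) * z :=
            fun z w hz hw => by
              rw [← QuotientGroup.mk_mul, ← QuotientGroup.mk_mul]
              exact congrArg _ (Subtype.ext (hcomm z hz w hw))
          intro q r
          induction q using QuotientGroup.induction_on with | H x =>
          induction r using QuotientGroup.induction_on with | H y =>
          rcases hdec x with hx | ⟨z, hz, rfl⟩ <;> rcases hdec y with hy | ⟨w, hw, rfl⟩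
          · exact hzz x y hx hy
          · rw [QuotientGroup.mk_mul, ← mul_assoc, ← hs' x hx, mul_assoc, hzz x w hx hw, ← mul_assoc]
          · rw [QuotientGroup.mk_mul, mul_assoc, hzz z y hz hy, ← mul_assoc, hs' y hy, mul_assoc]
          · rw [QuotientGroup.mk_mul, QuotientGroup.mk_mul]
            generalize hS : ((⟨s, hsM⟩ : M) : M ⧸ R) = S at *
            have e1 := hs' z hz
            have e2 := hs' w hw
            have e3 := hzz z w hz hw
            calc S * z * (S * w) = S * ((z : M ⧸ R) * S) * w := by group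
              _ = S * (S * z) * w := by rw [e1]
              _ = S * S * ((z : M ⧸ R) * w) := by group
              _ = S * S * ((w : M ⧸ R) * z) := by rw [e3]
              _ = S * (S * w) * z := by group
              _ = S * ((w : M ⧸ R) * S) * z := by rw [e2]
              _ = S * w * (S * z) := by group
        intro x y
        rw [← QuotientGroup.eq_one_iff, ← QuotientGroup.mk'_apply, map_commutatorElement,
          commutatorElement_eq_one_iff_mul_comm]
        exact hQ _ _
      intro h hh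
      have h1 : (⟨h, hDM hh⟩ : M) ∈ commutator M := hDMcom ▸ hh
      have h2 : commutator M ≤ R := by
        rw [commutator_def, Subgroup.commutator_le]
        exact fun x _ y _ => hab' x y
      obtain ⟨z, ⟨y, rfl⟩, hy⟩ := Subgroup.mem_subgroupOf.mp (h2 h1)
      exact ⟨y, hy⟩
    intro h hh
    obtain ⟨y, rfl⟩ := hsurj h hh
    exact hflip y
  refine ⟨hcycD, le_antisymm (fun g hg => ?_) (fun x hx y hy => (hcomm x hx y hy).symm), hinv⟩
  obtain ⟨y, hy, hy1⟩ := CfsgLib.Char.Zassenhaus.exists_ne_one_fix hZ hab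
  have hgy : y * g = g * y := hg y hy
  have hgM : g ∈ M := hperm y hy hy1 g (by rwa [mul_assoc, hgy, ← mul_assoc, inv_mul_cancel, one_mul])
  rcases hgM with h | h
  · exact ⟨h.1, h.2⟩
  · exfalso
    have h1 := hinv g h.1 h.2 y hy
    rw [← hgy, mul_inv_cancel_right, ← mul_eq_one_iff_eq_inv] at h1
    have h2 : orderOf y ∣ 2 := orderOf_dvd_of_pow_eq_one (by rw [pow_two, h1])
    rcases (Nat.dvd_prime Nat.prime_two).mp h2 with h3 | h3
    · exact hy1 (orderOf_eq_one_iff.mp h3)
    · exact Nat.not_even_iff_odd.mpr hodd (even_iff_two_dvd.mpr (h3 ▸ Subgroup.orderOf_dvd_natCard _ hy))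

end Cfsg.Agent.S0739
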