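import Cfsg.Statements.S0740
import Mathlib

set_option autoImplicit false
open Cfsg

namespace Cfsg.Agent.S0740

/-- In a finite Zassenhaus group any two points `a ≠ b` are swapped by an involution; every such involution has exactly one fixed point when the degree is odd and 0 or 2 fixed points when the degree is even; and if the two-point stabiliser has even order, some such involution has exactly 2 fixed points. -/
theorem result {G Ω : Type*} [Group G] [Finite G] [MulAction G Ω] [Fintype Ω] (hZ : Cfsg.IsZassenhausGroup G Ω) {a b : Ω} (hab : a ≠ b) : (∃ s : G, orderOf s = 2 ∧ s • a = b ∧ s • b = a) ∧ (∀ s : G, orderOf s = 2 → s • a = b → s • b = a → (Odd (Fintype.card Ω) → Nat.card (MulAction.fixedBy Ω s) = 1) ∧ (Even (Fintype.card Ω) → Nat.card (MulAction.fixedBy Ω s) = 0 ∨ Nat.card (MulAction.fixedBy Ω s) = 2)) ∧ (Even (Fintype.card Ω) → Even (Nat.card ↥(MulAction.stabilizer G a ⊓ MulAction.stabilizer G b)) → ∃ s : G, orderOf s = 2 ∧ s • a = b ∧ s • b = a ∧ Nat.card (MulAction.fixedBy Ω s) = 2) := by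
  classical
  obtain ⟨hfaith, ht, hthree, ⟨w, hw1, -⟩, -⟩ := hZ
  haveI := hfaith
  rw [MulAction.is_two_pretransitive_iff] at ht
  have hfix : ∀ s : G, Nat.card (MulAction.fixedBy Ω s) =
      (Finset.univ.filter fun x : Ω => s • x = x).card := by
    intro s
    rw [Nat.card_eq_fintype_card]
    exact Fintype.card_of_subtype _ fun x => by simp [MulAction.mem_fixedBy]
  have hle : ∀ s : G, s ≠ 1 → (Finset.univ.filter fun x : Ω => s • x = x).card ≤ 2 := by
    intro s hs
    by_contra hlt
    obtain ⟨x, hx, y, hy, z, hz, hxy, hxz, hyz⟩ := Finset.two_lt_card.mp (by omega :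
      2 < (Finset.univ.filter fun x : Ω => s • x = x).card)
    simp only [Finset.mem_filter, Finset.mem_univ, true_and] at hx hy hz
    exact hs (hthree s x y z hxy hyz hxz hx hy hz)
  have hpar : ∀ s : G, s * s = 1 →
      (Finset.univ.filter fun x : Ω => s • x = x).card % 2 = Fintype.card Ω % 2 := by
    intro s hs
    haveI := Fact.mk Nat.prime_two
    have hinv : Function.Involutive fun x : Ω => s • x := fun x => by
      show s • s • x = x
      rw [← mul_smul, hs, one_smul]
    have h := Equiv.Perm.card_compl_support_modEq (p := 2) (n := 1) (σ := hinv.toPerm _)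
      (Equiv.ext fun x => by rw [pow_one, pow_two]; exact hinv x)
    have he : (hinv.toPerm _).supportᶜ = Finset.univ.filter fun x : Ω => s • x = x := by
      ext x; simp
    rwa [he] at h
  have hsq : ∀ s : G, orderOf s = 2 → s * s = 1 := fun s hs => by
    rw [← pow_two, ← hs, pow_orderOf_eq_one]
  have hne1 : ∀ s : G, orderOf s = 2 → s ≠ 1 := fun s hs e => by
    rw [e, orderOf_one] at hs; omega
  -- conjugating a moving involution onto the pair
  have hmove : ∀ s : G, orderOf s = 2 → ∃ u : G,
      (u * s * u⁻¹) • a = b ∧ (u * s * u⁻¹) • b = a ∧ orderOf (u * s * u⁻¹) = 2 := by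
    intro s hs
    obtain ⟨c, hc⟩ : ∃ c : Ω, s • c ≠ c := by
      by_contra hall
      push Not at hall
      exact hne1 s hs (eq_of_smul_eq_smul fun x : Ω => by rw [hall x, one_smul])
    obtain ⟨u, hu1, hu2⟩ := ht (Ne.symm hc) hab
    refine ⟨u, ?_, ?_, ?_⟩
    · rw [mul_smul, mul_smul, ← hu1, inv_smul_smul, hu2]
    · rw [mul_smul, mul_smul, ← hu2, inv_smul_smul, ← mul_smul s, hsq s hs, one_smul, hu1]
    · rw [← hs]
      exact (MulAut.conj u).orderOf_eq s
  have hev : Even (Nat.card G) := by
    obtain ⟨g, hg1, hg2⟩ := ht hab (Ne.symm hab)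
    rw [← Nat.not_odd_iff_even]
    intro hodd
    obtain ⟨l, hl⟩ := hodd.of_dvd_nat (orderOf_dvd_natCard g)
    have hmm : g * g ∈ MulAction.stabilizer G a := by
      rw [MulAction.mem_stabilizer_iff, mul_smul, hg1, hg2]
    have hk : (g * g) ^ l • a = a := MulAction.mem_stabilizer_iff.mp (pow_mem hmm l)
    have hp := pow_orderOf_eq_one g
    rw [hl, pow_succ', pow_mul, pow_two] at hp
    have h' : (g * (g * g) ^ l) • a = a := by rw [hp, one_smul]
    rw [mul_smul, hk, hg1] at h'
    exact hab h'.symm
  haveI := Fact.mk Nat.prime_two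
  refine ⟨?_, ?_, ?_⟩
  · obtain ⟨s, hs⟩ := exists_prime_orderOf_dvd_card' (G := G) 2 (even_iff_two_dvd.mp hev)
    obtain ⟨u, h1, h2, h3⟩ := hmove s hs
    exact ⟨_, h3, h1, h2⟩
  · intro s hs _ _
    have h1 := hle s (hne1 s hs)
    have h2 := hpar s (hsq s hs)
    rw [hfix]
    refine ⟨fun ho => ?_, fun he => ?_⟩
    · rw [Nat.odd_iff] at ho; omega
    · rw [Nat.even_iff] at he; omega
  · intro hΩ hH
    obtain ⟨⟨z, hza, hzb⟩, hz⟩ := exists_prime_orderOf_dvd_card'
      (G := ↥(MulAction.stabilizer G a ⊓ MulAction.stabilizer G b)) 2 (even_iff_two_dvd.mp hH)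
    rw [← Subgroup.orderOf_coe] at hz
    change orderOf z = 2 at hz
    have h2 : (Finset.univ.filter fun x : Ω => z • x = x).card = 2 := by
      refine le_antisymm (hle z (hne1 z hz)) ?_
      rw [← Finset.card_pair hab]
      refine Finset.card_le_card fun x hx => ?_
      simp only [Finset.mem_insert, Finset.mem_singleton] at hx
      simp only [Finset.mem_filter, Finset.mem_univ, true_and]
      rcases hx with rfl | rfl
      · exact hza
      · exact hzb
    obtain ⟨u, h1', h2', h3'⟩ := hmove z hz
    refine ⟨_, h3', h1', h2', ?_⟩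
    rw [hfix, ← h2]
    refine Finset.card_bij' (fun x _ => u⁻¹ • x) (fun x _ => u • x) ?_ ?_ ?_ ?_
    · intro x hx
      simp only [Finset.mem_filter, Finset.mem_univ, true_and] at hx ⊢
      rw [eq_inv_smul_iff, ← mul_smul, ← mul_smul]
      exact hx
    · intro x hx
      simp only [Finset.mem_filter, Finset.mem_univ, true_and] at hx ⊢
      rw [mul_smul, mul_smul, inv_smul_smul, hx]
    · intro x _; exact smul_inv_smul u x
    · intro x _; exact inv_smul_smul u x

end Cfsg.Agent.S0740
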