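import Mathlib
import Cfsg.Statements.S0743
import Cfsg.Agent.Lib.SmallGroups.Pretransitive

set_option autoImplicit false
open Cfsg

namespace Cfsg.Agent.S0743

/-- Gleason's Lemma: let `p` be a prime and `1 ≤ k < n`; if every `k`-subset of the `n` points is exactly the fixed-point set of some `p`-subgroup of `G`, then `G` is `k`-transitive. -/
theorem result {α : Type*} [Fintype α] [DecidableEq α] (G : Subgroup (Equiv.Perm α)) {p k : ℕ} (hp : p.Prime) (hk : 1 ≤ k) (hkn : k < Fintype.card α) (h : ∀ s : Finset α, s.card = k → ∃ P : Subgroup G, IsPGroup p P ∧ MulAction.fixedPoints P α = (s : Set α)) : MulAction.IsMultiplyPretransitive G α k := by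
  classical
  haveI : Fact p.Prime := ⟨hp⟩
  refine CfsgLib.SmallGroups.isMultiplyPretransitive_of_step hkn ?_
  intro x i b hb
  set s : Finset α := (Finset.univ.erase i).map x with hs
  have hsc : s.card + 1 = k := by
    rw [hs, Finset.card_map, Finset.card_erase_of_mem (Finset.mem_univ _), Finset.card_univ, Fintype.card_fin]
    omega
  set H := fixingSubgroup G (s : Set α) with hH
  have hxi : x i ∉ s := fun h => by
    obtain ⟨j, hj, hji⟩ := Finset.mem_map.mp h
    exact Finset.ne_of_mem_erase hj (x.injective hji)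
  have hbs : b ∉ s := fun h => by
    obtain ⟨j, -, hj⟩ := Finset.mem_map.mp h
    exact hb ⟨j, hj⟩
  -- the orbit of a point has size congruent to one, the other orbits congruent to zero
  have key : ∀ c, c ∉ s → ∃ P : Subgroup G, IsPGroup p P ∧ P ≤ H ∧
      MulAction.fixedPoints P α = insert c (s : Set α) := by
    intro c hc
    obtain ⟨P, hP, hfix⟩ := h (insert c s) (by rw [Finset.card_insert_of_notMem hc]; exact hsc)
    rw [Finset.coe_insert] at hfix
    refine ⟨P, hP, fun g hg => ?_, hfix⟩
    rw [hH, mem_fixingSubgroup_iff]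
    intro y hy
    have h2 : y ∈ MulAction.fixedPoints P α := hfix ▸ Set.mem_insert_of_mem c hy
    exact h2 ⟨g, hg⟩
  have hcount : ∀ c, c ∉ s → ∀ d, d ∉ s → Nat.card (MulAction.orbit H d) % p =
      if c ∈ MulAction.orbit H d then 1 else 0 := by
    intro c hc d hd
    obtain ⟨P, hP, hPH, hfix⟩ := key c hc
    letI act : MulAction P (MulAction.orbit H d) :=
      { smul := fun g y => ⟨(g : G) • y.1, by
          obtain ⟨u, hu⟩ := y.2
          refine ⟨⟨g, hPH g.2⟩ * u, ?_⟩
          show ((⟨g, hPH g.2⟩ : H) * u) • d = (g : G) • y.1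
          rw [← hu, mul_smul]; rfl⟩
        one_smul := fun y => Subtype.ext (one_smul G y.1)
        mul_smul := fun g g' y => Subtype.ext (mul_smul (g : G) (g' : G) y.1) }
    have hs' : ∀ y ∈ MulAction.orbit H d, y ∉ s := by
      rintro _ ⟨u, rfl⟩ hy
      apply hd
      have h2 := (mem_fixingSubgroup_iff G).mp (show ((u⁻¹ : H) : G) ∈ fixingSubgroup G (s : Set α) from (u⁻¹).2) _ hy
      have h3 : ((u⁻¹ : H) : G) • ((u : G) • d) = (u : G) • d := h2
      rw [Subgroup.coe_inv, inv_smul_smul] at h3
      rw [h3]; exact hy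
    have hmod := hP.card_modEq_card_fixedPoints (MulAction.orbit H d)
    have hfx : ∀ y : MulAction.orbit H d, y ∈ MulAction.fixedPoints P (MulAction.orbit H d) ↔ y.1 = c := by
      intro y
      constructor
      · intro hy
        have h1 : y.1 ∈ MulAction.fixedPoints P α := fun g => congrArg Subtype.val (hy g)
        rw [hfix] at h1
        exact (Set.mem_insert_iff.mp h1).resolve_right (hs' _ y.2)
      · intro hy g
        have h1 : c ∈ MulAction.fixedPoints P α := hfix ▸ Set.mem_insert c _
        exact Subtype.ext (show (g : G) • y.1 = y.1 by rw [hy]; exact h1 g)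
    have hp1 := hp.one_lt
    split_ifs with hcd
    · have h1 : MulAction.fixedPoints P (MulAction.orbit H d) = {⟨c, hcd⟩} := by
        ext y; rw [hfx, Set.mem_singleton_iff]; exact ⟨fun e => Subtype.ext e, fun e => congrArg Subtype.val e⟩
      rw [h1, show Nat.card ({⟨c, hcd⟩} : Set (MulAction.orbit H d)) = 1 from Nat.card_unique, Nat.ModEq] at hmod
      rw [hmod, Nat.mod_eq_of_lt hp1]
    · have h1 : MulAction.fixedPoints P (MulAction.orbit H d) = ∅ := by
        ext y; rw [hfx]; exact ⟨fun e => absurd (e ▸ y.2) hcd, fun e => absurd e (Set.notMem_empty _)⟩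
      rw [h1, show Nat.card (∅ : Set (MulAction.orbit H d)) = 0 from Nat.card_of_isEmpty, Nat.ModEq] at hmod
      rw [hmod, Nat.zero_mod]
  have h1 := hcount (x i) hxi (x i) hxi
  have h2 := hcount b hbs (x i) hxi
  rw [if_pos (MulAction.mem_orbit_self _)] at h1
  by_cases hbo : b ∈ MulAction.orbit H (x i)
  · obtain ⟨u, hu⟩ := hbo
    refine ⟨(u : G), hu, fun j hj => ?_⟩
    exact (mem_fixingSubgroup_iff G).mp (show (u : G) ∈ fixingSubgroup G (s : Set α) from u.2) _ (Finset.mem_map_of_mem x (Finset.mem_erase.mpr ⟨hj, Finset.mem_univ j⟩))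
  · rw [if_neg hbo, h1] at h2
    exact absurd h2 one_ne_zero

end Cfsg.Agent.S0743
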