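import Mathlib
import Cfsg.Statements.S0744
import Cfsg.Agent.Lib.SmallGroups.Pretransitive

set_option autoImplicit false
open Cfsg

namespace Cfsg.Agent.S0744

/-- If for some `k > 1` the pointwise stabilisers of all `(k-1)`-subsets have the same order `> 1` and those of all `k`-subsets have the same order, then the group is `(k-1)`-transitive. -/
theorem result {α : Type*} [Fintype α] [DecidableEq α] (G : Subgroup (Equiv.Perm α)) {k : ℕ} (hk : 1 < k) (hkn : k ≤ Fintype.card α) (l m : ℕ) (hl : 1 < l) (hkm1 : ∀ s : Finset α, s.card = k - 1 → Nat.card (fixingSubgroup G (s : Set α)) = l) (hkm : ∀ s : Finset α, s.card = k → Nat.card (fixingSubgroup G (s : Set α)) = m) : MulAction.IsMultiplyPretransitive G α (k - 1) := by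
  classical
  refine CfsgLib.SmallGroups.isMultiplyPretransitive_of_step (by omega) ?_
  intro x i b hb
  set s : Finset α := (Finset.univ.erase i).map x with hs
  have hsc : s.card + 2 = k := by
    rw [hs, Finset.card_map, Finset.card_erase_of_mem (Finset.mem_univ _), Finset.card_univ, Fintype.card_fin]
    have := i.pos
    omega
  set H := fixingSubgroup G (s : Set α) with hH
  have hxi : x i ∉ s := fun h => by
    obtain ⟨j, hj, hji⟩ := Finset.mem_map.mp h
    exact Finset.ne_of_mem_erase hj (x.injective hji)
  have hbs : b ∉ s := fun h => by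
    obtain ⟨j, -, hj⟩ := Finset.mem_map.mp h
    exact hb ⟨j, hj⟩
  by_cases hbo : b ∈ MulAction.orbit H (x i)
  · obtain ⟨u, hu⟩ := hbo
    refine ⟨(u : G), hu, fun j hj => ?_⟩
    exact (mem_fixingSubgroup_iff G).mp (show (u : G) ∈ fixingSubgroup G (s : Set α) from u.2) _ (Finset.mem_map_of_mem x (Finset.mem_erase.mpr ⟨hj, Finset.mem_univ j⟩))
  exfalso
  have hmove : ∀ t : Finset α, ∀ c, c ∉ t → t.card = k - 1 →
      Nat.card (MulAction.orbit (fixingSubgroup G (t : Set α)) c) * m = l := by
    intro t c hc ht
    have e1 := (MulAction.stabilizer (fixingSubgroup G (t : Set α)) c).card_mul_index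
    rw [hkm1 t ht] at e1
    have e2 : Nat.card (MulAction.stabilizer (fixingSubgroup G (t : Set α)) c) = m := by
      rw [← hkm (insert c t) (by rw [Finset.card_insert_of_notMem hc, ht]; omega)]
      refine Nat.card_congr
        { toFun := fun g => ⟨g.1.1, by
            rw [mem_fixingSubgroup_iff]
            intro y hy
            rw [Finset.coe_insert, Set.mem_insert_iff] at hy
            rcases hy with rfl | hy
            · exact g.2
            · exact (mem_fixingSubgroup_iff G).mp g.1.2 y hy⟩
          invFun := fun g => ⟨⟨g.1, (mem_fixingSubgroup_iff G).mpr fun y hy => (mem_fixingSubgroup_iff G).mp g.2 y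
            (Finset.mem_coe.mpr (Finset.mem_insert_of_mem hy))⟩,
            (mem_fixingSubgroup_iff G).mp g.2 c (Finset.mem_coe.mpr (Finset.mem_insert_self c t))⟩
          left_inv := fun g => rfl
          right_inv := fun g => rfl }
    rw [e2, MulAction.index_stabilizer] at e1
    rw [Nat.card_coe_set_eq, mul_comm]; exact e1
  have hm0 : 0 < m := by
    obtain ⟨t, -, htc⟩ := Finset.exists_subset_card_eq (s := (Finset.univ : Finset α)) (n := k) (by rw [Finset.card_univ]; exact hkn)
    rw [← hkm t htc]; exact Nat.card_pos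
  -- the common orbit length d
  set d := Nat.card (MulAction.orbit (fixingSubgroup G ((insert (x i) s : Finset α) : Set α)) b) with hd
  have hb' : b ∉ insert (x i) s := by
    rw [Finset.mem_insert, not_or]
    exact ⟨fun e => hb ⟨i, e.symm⟩, hbs⟩
  have hdl : d * m = l := hmove _ b hb' (by rw [Finset.card_insert_of_notMem hxi]; omega)
  have hd1 : d ≠ 1 := by
    intro h1
    have hlm : l = m := by rw [← hdl, h1, one_mul]
    have hfixall : ∀ g ∈ fixingSubgroup G ((insert (x i) s : Finset α) : Set α), g = (1 : G) := by
      intro g hg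
      refine Subtype.ext (Equiv.ext fun c => ?_)
      by_cases hc : c ∈ insert (x i) s
      · exact (mem_fixingSubgroup_iff G).mp hg c hc
      · have h2 := hmove _ c hc (by rw [Finset.card_insert_of_notMem hxi]; omega)
        have h3 : Nat.card (MulAction.orbit (fixingSubgroup G ((insert (x i) s : Finset α) : Set α)) c) = 1 :=
          Nat.eq_of_mul_eq_mul_right hm0 (by rw [h2, hlm, one_mul])
        obtain ⟨hsub, -⟩ := Nat.card_eq_one_iff_unique.mp h3
        exact congrArg Subtype.val (Subsingleton.elim
          (⟨g • c, ⟨⟨g, hg⟩, rfl⟩⟩ : MulAction.orbit (fixingSubgroup G ((insert (x i) s : Finset α) : Set α)) c)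
          ⟨c, MulAction.mem_orbit_self c⟩)
    have h4 := hkm1 (insert (x i) s) (by rw [Finset.card_insert_of_notMem hxi]; omega)
    have : Subsingleton (fixingSubgroup G ((insert (x i) s : Finset α) : Set α)) :=
      ⟨fun u v => Subtype.ext ((hfixall _ u.2).trans (hfixall _ v.2).symm)⟩
    rw [Nat.card_eq_one_iff_unique.mpr ⟨this, inferInstance⟩] at h4
    omega
  -- every orbit of H outside s has the same length
  have hsame : ∀ c, c ∉ s → Nat.card (MulAction.orbit H c) * l = Nat.card H := by
    intro c hc
    have e1 := (MulAction.stabilizer H c).card_mul_index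
    rw [MulAction.index_stabilizer, ← Nat.card_coe_set_eq] at e1
    have e2 : Nat.card (MulAction.stabilizer H c) = l := by
      rw [← hkm1 (insert c s) (by rw [Finset.card_insert_of_notMem hc]; omega)]
      refine Nat.card_congr
        { toFun := fun g => ⟨g.1.1, by
            rw [mem_fixingSubgroup_iff]
            intro y hy
            rw [Finset.coe_insert, Set.mem_insert_iff] at hy
            rcases hy with rfl | hy
            · exact g.2
            · exact (mem_fixingSubgroup_iff G).mp g.1.2 y hy⟩
          invFun := fun g => ⟨⟨g.1, (mem_fixingSubgroup_iff G).mpr fun y hy => (mem_fixingSubgroup_iff G).mp g.2 y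
            (Finset.mem_coe.mpr (Finset.mem_insert_of_mem hy))⟩,
            (mem_fixingSubgroup_iff G).mp g.2 c (Finset.mem_coe.mpr (Finset.mem_insert_self c s))⟩
          left_inv := fun g => rfl
          right_inv := fun g => rfl }
    rw [← e2, mul_comm]; exact e1
  -- d divides the length of an orbit not containing c, and the length less one of the orbit of c
  have hdiv : ∀ c, c ∉ s → ∀ e, e ∉ s → d ∣ Nat.card (MulAction.orbit H e) - if c ∈ MulAction.orbit H e then 1 else 0 := by
    intro c hc e he
    have hcs : (insert c s).card = k - 1 := by rw [Finset.card_insert_of_notMem hc]; omega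
    set K := fixingSubgroup G ((insert c s : Finset α) : Set α) with hK
    haveI := Fintype.ofFinite (MulAction.orbit H e)
    set O : Finset α := (MulAction.orbit H e).toFinset.erase c with hO
    have hKH : ∀ g ∈ K, g ∈ H := fun g hg => (mem_fixingSubgroup_iff G).mpr fun y hy =>
      (mem_fixingSubgroup_iff G).mp hg y (Finset.mem_coe.mpr (Finset.mem_insert_of_mem hy))
    have hns : ∀ y ∈ MulAction.orbit H e, y ∉ s := by
      rintro _ ⟨u, rfl⟩ hy
      apply he
      have h2 := (mem_fixingSubgroup_iff G).mp (show ((u⁻¹ : H) : G) ∈ fixingSubgroup G (s : Set α) from (u⁻¹).2) _ hy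
      have h3 : ((u⁻¹ : H) : G) • ((u : G) • e) = (u : G) • e := h2
      rw [Subgroup.coe_inv, inv_smul_smul] at h3
      rw [h3]; exact hy
    have hinv : ∀ (g : K), ∀ y ∈ O, (g : G) • y ∈ O := by
      intro g y hy
      rw [hO, Finset.mem_erase, Set.mem_toFinset] at hy ⊢
      refine ⟨fun h2 => hy.1 (MulAction.injective (g : G) ?_), ?_⟩
      · show (g : G) • y = (g : G) • c
        rw [h2]
        exact ((mem_fixingSubgroup_iff G).mp g.2 c (Finset.mem_coe.mpr (Finset.mem_insert_self c s))).symm
      · obtain ⟨u, hu⟩ := hy.2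
        refine ⟨⟨g, hKH _ g.2⟩ * u, ?_⟩
        show ((⟨(g : G), hKH _ g.2⟩ : H) * u) • e = (g : G) • y
        rw [← hu, mul_smul]; rfl
    letI act : MulAction K ↥O :=
      { smul := fun g y => ⟨(g : G) • y.1, hinv g y.1 y.2⟩
        one_smul := fun y => Subtype.ext (one_smul G y.1)
        mul_smul := fun g g' y => Subtype.ext (mul_smul (g : G) (g' : G) y.1) }
    haveI := Fintype.ofFinite (MulAction.orbitRel.Quotient K ↥O)
    have horb : ∀ y : ↥O, Nat.card (MulAction.orbit K y) = d := by
      intro y
      have hy1 := Finset.mem_erase.mp y.2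
      have hy2 : y.1 ∉ insert c s := by
        rw [Finset.mem_insert, not_or]
        exact ⟨hy1.1, hns _ (Set.mem_toFinset.mp hy1.2)⟩
      have h5 := hmove _ y.1 hy2 hcs
      have h6 : Nat.card (MulAction.orbit K y) = Nat.card (MulAction.orbit K y.1) := by
        refine Nat.card_congr (Equiv.ofBijective (fun z => ⟨z.1.1, by
          obtain ⟨g, hg⟩ := z.2
          exact ⟨g, congrArg Subtype.val hg⟩⟩) ⟨fun z z' h => Subtype.ext (Subtype.ext (congrArg Subtype.val h :)), fun z => ?_⟩)
        obtain ⟨g, hg⟩ := z.2
        exact ⟨⟨g • y, MulAction.mem_orbit _ _⟩, Subtype.ext hg⟩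
      rw [h6]
      exact Nat.eq_of_mul_eq_mul_right hm0 (h5.trans hdl.symm)
    have hcard := Nat.card_congr (MulAction.selfEquivSigmaOrbits' K ↥O)
    rw [Nat.card_sigma, Finset.sum_congr rfl (g := fun _ => d) (fun q _ => by
      induction q using Quotient.inductionOn' with
      | h y => rw [MulAction.orbitRel.Quotient.orbit_mk]; exact horb y),
      Finset.sum_const, smul_eq_mul, Nat.card_eq_fintype_card, Fintype.card_coe] at hcard
    have hOc : O.card = if c ∈ MulAction.orbit H e then Nat.card (MulAction.orbit H e) - 1 else Nat.card (MulAction.orbit H e) := by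
      rw [hO, Finset.card_erase_eq_ite, Set.toFinset_card, ← Nat.card_eq_fintype_card]
      simp only [Set.mem_toFinset]
    rw [hOc] at hcard
    refine ⟨Finset.card (Finset.univ : Finset (MulAction.orbitRel.Quotient K ↥O)), ?_⟩
    rw [mul_comm]
    split_ifs at hcard ⊢ with h9
    · exact hcard
    · rw [Nat.sub_zero]; exact hcard
  have h1 := hdiv (x i) hxi (x i) hxi
  have h2 := hdiv b hbs (x i) hxi
  rw [if_pos (MulAction.mem_orbit_self _)] at h1
  rw [if_neg hbo, Nat.sub_zero] at h2
  have hpos : 0 < Nat.card (MulAction.orbit H (x i)) := by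
    haveI : Nonempty (MulAction.orbit H (x i)) := ⟨⟨_, MulAction.mem_orbit_self _⟩⟩
    exact Nat.card_pos
  have h3 := Nat.dvd_sub h2 h1
  rw [show Nat.card (MulAction.orbit H (x i)) - (Nat.card (MulAction.orbit H (x i)) - 1) = 1 by omega, Nat.dvd_one] at h3
  exact hd1 h3

end Cfsg.Agent.S0744
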