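import Mathlib
import Cfsg.Statements.S0745
import Cfsg.Agent.Lib.SmallGroups.HomogeneousExceptions.Sharp
import Cfsg.Agent.S0735
import Cfsg.Agent.S0746

set_option autoImplicit false
open Cfsg

namespace Cfsg.Agent.S0745

/-- Let `G` have degree `n` and `3 ≤ k ≤ n`; suppose `G` is `(k-2)`-transitive but not `(k-1)`-transitive, and is `(k-1)`-homogeneous and `k`-homogeneous. Then `k = n` and `G` is the alternating group, or `n = 5, k = 4, |G| = 20`, or `n = 6, k = 5, |G| = 120`, or `n = 9, k = 5, |G| ∈ {504, 1512}`. -/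
theorem result {α : Type*} [Fintype α] [DecidableEq α] (G : Subgroup (Equiv.Perm α)) {k : ℕ} (hk : 3 ≤ k) (hkn : k ≤ Fintype.card α) (ht : MulAction.IsMultiplyPretransitive G α (k - 2)) (hnt : ¬ MulAction.IsMultiplyPretransitive G α (k - 1)) (hh1 : MulAction.IsPretransitive G (Set.powersetCard α (k - 1))) (hh : MulAction.IsPretransitive G (Set.powersetCard α k)) : (k = Fintype.card α ∧ G = alternatingGroup α) ∨ (Fintype.card α = 5 ∧ k = 4 ∧ Nat.card G = 20) ∨ (Fintype.card α = 6 ∧ k = 5 ∧ Nat.card G = 120) ∨ (Fintype.card α = 9 ∧ k = 5 ∧ (Nat.card G = 504 ∨ Nat.card G = 1512)) := by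
  classical
  obtain ⟨t, rfl⟩ : ∃ t, k = t + 2 := ⟨k - 2, by omega⟩
  simp only [Nat.add_sub_cancel, show t + 2 - 1 = t + 1 by omega] at ht hnt hh1
  rcases eq_or_lt_of_le hkn with hk_eq | hlt
  · refine Or.inl ⟨hk_eq, ?_⟩
    have hA : alternatingGroup α ≤ G := IsMultiplyPretransitive.alternatingGroup_le (α := α) G
      (by rwa [Nat.card_eq_fintype_card, show Fintype.card α - 2 = t by omega])
    have hne : G ≠ ⊤ := by
      rintro rfl
      apply hnt
      have := Equiv.Perm.isMultiplyPretransitive α (t + 1)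
      rw [MulAction.isMultiplyPretransitive_iff] at this ⊢
      intro x y
      obtain ⟨g, hg⟩ := this x y
      exact ⟨⟨g, Subgroup.mem_top g⟩, hg⟩
    haveI : Nontrivial α := Fintype.one_lt_card_iff_nontrivial.mp (by omega)
    refine le_antisymm ?_ hA
    have h1 := Subgroup.relIndex_mul_index hA
    rw [alternatingGroup.index_eq_two] at h1
    have h2 : G.index ≠ 1 := fun h => hne (Subgroup.index_eq_one.mp h)
    rcases (Nat.dvd_prime Nat.prime_two).mp (Dvd.intro_left _ h1) with h | h
    · exact absurd h h2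
    · rw [h] at h1
      exact Subgroup.relIndex_eq_one.mp (by omega)
  -- below the degree Livingstone and Wagner give transitivity unless the degree is small
  have hup : Fintype.card α ≤ 2 * t + 3 := by
    by_contra hc
    exact hnt (Cfsg.Agent.S0746.result G (k := t + 2) (by omega) (by omega) hh)
  have hA := CfsgLib.SmallGroups.HomExc.not_alternating_le hnt (by omega)
  obtain ⟨T, hT⟩ := CfsgLib.SmallGroups.HomExc.exists_points (α := α) (t := t) (by omega)
  have hdvd := CfsgLib.SmallGroups.HomExc.sub_dvd_factorial_mul hT (by omega) ht hh1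
  by_cases hbig : 3 ≤ t ∧ Fintype.card α + 2 < 3 * t
  · have hbot : ∀ U : Finset α, U.card = t → CfsgLib.SmallGroups.HomExc.pointFix G U = ⊥ :=
      fun U hU => CfsgLib.SmallGroups.HomExc.pointFix_eq_bot ht hbig.1 (by omega) hA hU hbig.2
    rcases eq_or_lt_of_le hbig.1 with h3 | h4
    · subst h3
      have hn : Fintype.card α = 6 := by omega
      refine Or.inr (Or.inr (Or.inl ⟨hn, rfl, ?_⟩))
      rw [CfsgLib.SmallGroups.HomExc.card_eq hT ht, hn, hbot T hT, Subgroup.card_bot]
      rfl
    · exact (CfsgLib.SmallGroups.HomExc.no_sharp h4 (by omega) ht hnt hh1 hbot).elim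
  have hsmall : t ≤ 5 := by omega
  have hprime : ∀ p : ℕ, p.Prime → Fintype.card α = t + p → t + 1 < p → False := by
    intro p hp hn hlt'
    rw [show Fintype.card α - t = p by omega, hp.dvd_mul, hp.dvd_factorial] at hdvd
    rcases hdvd with h | h
    · omega
    · exact CfsgLib.SmallGroups.HomExc.prime_not_dvd ht hnt hT hp hn h
  interval_cases t
  · omega
  · exfalso
    apply hnt
    refine (Cfsg.Agent.S0735.result G hh1 (by omega)).1 ?_
    have h1 := CfsgLib.SmallGroups.HomExc.card_eq hT ht
    have h2 := CfsgLib.SmallGroups.HomExc.choose_dvd (k := 2) (by omega) hh1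
    rcases (show Fintype.card α = 4 ∨ Fintype.card α = 5 by omega) with h | h
    · rw [even_iff_two_dvd, h1, h, Nat.descFactorial_one]
      exact Dvd.dvd.mul_right (by norm_num) _
    · rw [h, show Nat.choose 5 2 = 10 from rfl] at h2
      rw [even_iff_two_dvd]
      exact dvd_trans (by norm_num) h2
  · rcases (show Fintype.card α = 5 ∨ Fintype.card α = 6 ∨ Fintype.card α = 7 by omega) with h | h | h
    · exact Or.inr (Or.inl ⟨h, rfl, CfsgLib.SmallGroups.HomExc.five_two h ht hnt⟩)
    · exact (CfsgLib.SmallGroups.HomExc.six_two h ht hnt hh1).elim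
    · exact (hprime 5 (by norm_num) h (by omega)).elim
  · rcases (show Fintype.card α = 7 ∨ Fintype.card α = 8 ∨ Fintype.card α = 9 by omega) with h | h | h
    · exact (CfsgLib.SmallGroups.HomExc.seven_three h ht hA).elim
    · exact (hprime 5 (by norm_num) h (by omega)).elim
    · exact Or.inr (Or.inr (Or.inr ⟨h, rfl, CfsgLib.SmallGroups.HomExc.nine_three h ht hnt⟩))
  · rcases (show Fintype.card α = 10 ∨ Fintype.card α = 11 by omega) with h | h
    · exfalso
      refine hA (CfsgLib.SmallGroups.HomExc.alternating_of_prime_dvd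
        (CfsgLib.SmallGroups.isPreprimitive_of_isMultiplyPretransitive ht (by omega) (by omega))
        (show Nat.Prime 7 by norm_num) (by omega) (by omega) (by omega) ?_)
      rw [CfsgLib.SmallGroups.HomExc.card_eq hT ht, h]
      exact Dvd.dvd.mul_right (by decide) _
    · exact (hprime 7 (by norm_num) h (by omega)).elim
  · exact (CfsgLib.SmallGroups.HomExc.thirteen_five (by omega) ht hnt).elim

end Cfsg.Agent.S0745
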