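import Cfsg.Statements.S0753
import Mathlib
-- import your own Cfsg.Agent.* helpers here

set_option autoImplicit false
open Cfsg

namespace Cfsg.Agent.S0753

/-- If σ is a ring endomorphism of the field F other than the identity and B is a σ-sesquilinear conjugate-symmetric form with B v v = 0 for every v, then B = 0. -/
theorem result {F V : Type*} [Field F] [AddCommGroup V] [Module F V] (σ : F →+* F) (hσ : σ ≠ RingHom.id F) (B : V →ₛₗ[σ] V →ₗ[F] F) (hS : B.IsSymm) (h0 : ∀ v : V, B v v = 0) : B = 0 := by
  refine LinearMap.ext₂ fun x y => ?_
  by_contra hne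
  rw [LinearMap.zero_apply, LinearMap.zero_apply] at hne
  have h2 : ∀ u w : V, σ (B u w) = -B u w := by
    intro u w
    have h := h0 (u + w)
    simp only [map_add, LinearMap.add_apply, h0, zero_add, add_zero] at h
    rw [hS.eq]
    linear_combination h
  apply hσ
  refine RingHom.ext fun a => ?_
  rw [RingHom.id_apply]
  have h := h2 x (a • y)
  simp only [map_smul, smul_eq_mul, map_mul, h2] at h
  have : (σ a - a) * B x y = 0 := by linear_combination -h
  exact sub_eq_zero.1 ((mul_eq_zero.1 this).resolve_right hne)

end Cfsg.Agent.S0753
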