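import Cfsg.Statements.S0754
import Mathlib
-- import your own Cfsg.Agent.* helpers here

set_option autoImplicit false
open Cfsg

namespace Cfsg.Agent.S0754

/-- In a field F with q^2 elements, every non-zero μ with μ^q = μ (that is, μ in the subfield of order q) has exactly q + 1 solutions λ of λ^(q+1) = μ. -/
theorem result {F : Type*} [Field F] [Fintype F] {q : ℕ} (hF : Fintype.card F = q ^ 2) (μ : F) (hμ : μ ≠ 0) (hμq : μ ^ q = μ) : Nat.card {x : F // x ^ (q + 1) = μ} = q + 1 := by
  classical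
  have hq1 : 1 < q ^ 2 := hF ▸ Fintype.one_lt_card
  have hq : 2 ≤ q := by
    rcases q with _ | _ | q <;> simp_all
  have hcard : Nat.card Fˣ = (q + 1) * (q - 1) := by
    rw [Nat.card_units, Nat.card_eq_fintype_card, hF, ← Nat.sq_sub_sq, one_pow]
  let u : Fˣ := Units.mk0 μ hμ
  have hu : u ^ (q - 1) = 1 := by
    ext
    have h1 : μ ^ (q - 1) * μ = 1 * μ := by
      rw [← pow_succ, Nat.sub_add_cancel (by omega : 1 ≤ q), hμq, one_mul]
    simpa [u] using mul_right_cancel₀ hμ h1
  let φ : Fˣ →* Fˣ := powMonoidHom (q + 1)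
  have hker : Nat.card φ.ker = q + 1 := by
    rw [IsCyclic.card_powMonoidHom_ker, hcard, Nat.gcd_eq_right (Dvd.intro _ rfl)]
  have hrange : φ.range = (powMonoidHom (q - 1) : Fˣ →* Fˣ).ker := by
    apply Subgroup.eq_of_le_of_card_ge
    · rintro _ ⟨y, rfl⟩
      simp only [MonoidHom.mem_ker, powMonoidHom_apply, φ, ← pow_mul, ← hcard]
      exact pow_card_eq_one'
    · rw [IsCyclic.card_powMonoidHom_ker, hcard, Nat.gcd_eq_right (Dvd.intro_left _ rfl)]
      have h := φ.ker.card_mul_index
      rw [Subgroup.index_ker, hker, hcard] at h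
      exact (Nat.eq_of_mul_eq_mul_left (by omega) h).ge
  obtain ⟨y, hy⟩ : u ∈ φ.range := by
    rw [hrange]
    exact hu
  have hx : ∀ x : F, x ^ (q + 1) = μ → x ≠ 0 := by
    intro x hx h
    rw [h, zero_pow (by omega)] at hx
    exact hμ hx.symm
  have h1 : ∀ x : {x : F // x ^ (q + 1) = μ}, Units.mk0 x.1 (hx x.1 x.2) * y⁻¹ ∈ φ.ker := by
    intro x
    rw [MonoidHom.mem_ker, map_mul, map_inv, hy, mul_inv_eq_one]
    ext
    simpa [φ, u] using x.2
  have h2 : ∀ k : φ.ker, (((k.1 * y : Fˣ) : F)) ^ (q + 1) = μ := by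
    intro k
    have : φ (k.1 * y) = u := by rw [map_mul, MonoidHom.mem_ker.1 k.2, one_mul, hy]
    simpa [φ, u] using congrArg Units.val this
  refine Eq.trans (Nat.card_congr
    { toFun := fun x => ⟨_, h1 x⟩
      invFun := fun k => ⟨_, h2 k⟩
      left_inv := fun x => by simp
      right_inv := fun k => by
        apply Subtype.ext
        simp }) hker

end Cfsg.Agent.S0754
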