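import Cfsg.Statements.S0756
import Mathlib
import Cfsg.Agent.Lib.Classical.SymBilin
-- import your own Cfsg.Agent.* helpers here

set_option autoImplicit false
open Cfsg

namespace Cfsg.Agent.S0756

/-- Classification of symmetric bilinear forms over finite fields of odd characteristic: if B is non-degenerate symmetric on V of dimension n + 1 and α is a fixed non-square of F, there is an orthogonal basis b_0, ..., b_n with B(b_i, b_i) = 1 for i < n and B(b_n, b_n) ∈ {1, α}. -/
theorem result {F V : Type*} [Field F] [Finite F] [AddCommGroup V] [Module F V] [FiniteDimensional F V] (h2 : (2 : F) ≠ 0) (B : LinearMap.BilinForm F V) (hS : B.IsSymm) (hB : B.Nondegenerate) {n : ℕ} (hn : Module.finrank F V = n + 1) (α : F) (hα : ¬ IsSquare α) : ∃ b : Module.Basis (Fin (n + 1)) F V, (∀ i j, i ≠ j → B (b i) (b j) = 0) ∧ (∀ i, i ≠ Fin.last n → B (b i) (b i) = 1) ∧ (B (b (Fin.last n)) (b (Fin.last n)) = 1 ∨ B (b (Fin.last n)) (b (Fin.last n)) = α) := by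
  classical
  obtain ⟨a, c, hc, ha⟩ := CfsgLib.Classical.exists_normal_basis h2 B (fun u v => hS.eq u v) hB.1 hn
  obtain ⟨s, hs0, hs⟩ : ∃ s : F, s ≠ 0 ∧ (s * s * c = 1 ∨ s * s * c = α) := by
    by_cases h : IsSquare c
    · obtain ⟨r, rfl⟩ := h
      have hr : r ≠ 0 := left_ne_zero_of_mul hc
      exact ⟨r⁻¹, inv_ne_zero hr, Or.inl (by field_simp)⟩
    · obtain ⟨r, hr⟩ := CfsgLib.Classical.isSquare_mul_of_not_isSquare h2 h hα
      have hα0 : α ≠ 0 := fun h0 => hα (h0 ▸ IsSquare.zero)
      refine ⟨r / c, div_ne_zero (left_ne_zero_of_mul (hr ▸ mul_ne_zero hc hα0)) hc, Or.inr ?_⟩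
      field_simp
      linear_combination -hr
  let t : Fin (n + 1) → Fˣ := fun i => if i = Fin.last n then Units.mk0 s hs0 else 1
  refine ⟨a.unitsSMul t, fun i j hij => ?_, fun i hi => ?_, ?_⟩
  · simp [Module.Basis.unitsSMul_apply, Units.smul_def, ha, hij]
  · simp [Module.Basis.unitsSMul_apply, Units.smul_def, ha, hi, t]
  · simpa [Module.Basis.unitsSMul_apply, Units.smul_def, ha, t, mul_assoc] using hs

end Cfsg.Agent.S0756
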