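import Cfsg.Statements.S0757
import Mathlib
-- import your own Cfsg.Agent.* helpers here

set_option autoImplicit false
open Cfsg

namespace Cfsg.Agent.S0757

/-- The two diagonal forms Σ x_i^2 and Σ_(i<n) x_i^2 + α x_n^2 on F^(n+1), with α a non-square and 2 ≠ 0 in F, are inequivalent quadratic forms (so over a finite field of odd order there are exactly two classes of non-singular symmetric bilinear forms in each dimension). -/
theorem result {F : Type*} [Field F] (h2 : (2 : F) ≠ 0) (n : ℕ) (α : F) (hα : ¬ IsSquare α) : ¬ (QuadraticMap.weightedSumSquares F (fun _ : Fin (n + 1) => (1 : F))).Equivalent (QuadraticMap.weightedSumSquares F (fun i : Fin (n + 1) => if i = Fin.last n then α else (1 : F))) := by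
  rintro ⟨e⟩
  classical
  apply hα
  set P : Matrix (Fin (n + 1)) (Fin (n + 1)) F := LinearMap.toMatrix' e.toLinearEquiv.toLinearMap
  let w : Fin (n + 1) → F := fun i => if i = Fin.last n then α else 1
  have hw : ∀ i, w i = if i = Fin.last n then α else 1 := fun i => rfl
  have hq : ∀ x : Fin (n + 1) → F,
      ∑ i, w i * (P.mulVec x i * P.mulVec x i) = ∑ i, x i * x i := by
    intro x
    have h := e.map_app x
    simp only [QuadraticMap.weightedSumSquares_apply, smul_eq_mul, one_mul] at h
    rw [← h]
    simp [P, hw]
  have hb : ∀ x y : Fin (n + 1) → F,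
      ∑ i, w i * (P.mulVec x i * P.mulVec y i) = ∑ i, x i * y i := by
    intro x y
    have h := hq (x + y)
    simp only [Matrix.mulVec_add, Pi.add_apply] at h
    apply mul_left_cancel₀ h2
    rw [Finset.mul_sum, Finset.mul_sum]
    rw [Finset.sum_congr rfl (fun i _ => show w i * ((P.mulVec x i + P.mulVec y i) *
          (P.mulVec x i + P.mulVec y i)) = w i * (P.mulVec x i * P.mulVec x i) +
          w i * (P.mulVec y i * P.mulVec y i) + 2 * (w i * (P.mulVec x i * P.mulVec y i)) by ring),
      Finset.sum_congr rfl (fun i _ => show (x i + y i) * (x i + y i) =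
          x i * x i + y i * y i + 2 * (x i * y i) by ring)] at h
    simp only [Finset.sum_add_distrib, hq] at h
    exact add_left_cancel h
  have hM : P.transpose * Matrix.diagonal w * P = 1 := by
    refine Matrix.ext fun i j => ?_
    rw [Matrix.mul_apply]
    simp only [Matrix.mul_diagonal, Matrix.transpose_apply]
    have h := hb (Pi.single i 1) (Pi.single j 1)
    simp only [Matrix.mulVec_single_one, Matrix.col_apply] at h
    rw [Finset.sum_congr rfl (fun k _ => show P k i * w k * P k j = w k * (P k i * P k j) by ring)]
    rw [h]
    simp [Pi.single_apply, Matrix.one_apply, eq_comm]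
  have hdet := congrArg Matrix.det hM
  rw [Matrix.det_mul, Matrix.det_mul, Matrix.det_transpose, Matrix.det_diagonal, Matrix.det_one,
    Fintype.prod_eq_single (Fin.last n) (fun i hi => by simp [hw, hi])] at hdet
  simp [hw] at hdet
  have hP : P.det ≠ 0 := fun h => by simp [h] at hdet
  exact ⟨P.det⁻¹, by field_simp; linear_combination hdet⟩

end Cfsg.Agent.S0757
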