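import Cfsg.Statements.S0758
import Mathlib
-- import your own Cfsg.Agent.* helpers here

set_option autoImplicit false
open Cfsg

namespace Cfsg.Agent.S0758

/-- For a finite field F of odd order q and a non-square α: the form x² + y² is isotropic iff q ≡ 1 mod 4, and the form x² + α y² is isotropic iff q ≡ 3 mod 4. -/
theorem result {F : Type*} [Field F] [Fintype F] (h2 : (2 : F) ≠ 0) (α : F) (hα : ¬ IsSquare α) : ((∃ x y : F, (x ≠ 0 ∨ y ≠ 0) ∧ x ^ 2 + y ^ 2 = 0) ↔ Fintype.card F % 4 = 1) ∧ ((∃ x y : F, (x ≠ 0 ∨ y ≠ 0) ∧ x ^ 2 + α * y ^ 2 = 0) ↔ Fintype.card F % 4 = 3) := by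
  classical
  have hne : ringChar F ≠ 2 := fun h => h2 (by
    have : CharP F 2 := h ▸ ringChar.charP F
    exact CharTwo.two_eq_zero)
  have hodd := FiniteField.odd_card_of_char_ne_two hne
  have hα0 : α ≠ 0 := fun h => hα (h ▸ IsSquare.zero)
  have hsq : IsSquare (-1 : F) ↔ Fintype.card F % 4 = 1 := by
    rw [FiniteField.isSquare_neg_one_iff]
    omega
  have key : ∀ c : F, c ≠ 0 →
      ((∃ x y : F, (x ≠ 0 ∨ y ≠ 0) ∧ x ^ 2 + c * y ^ 2 = 0) ↔ IsSquare (-c)) := by
    intro c hc
    constructor
    · rintro ⟨x, y, hxy, h⟩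
      have hy : y ≠ 0 := by
        rintro rfl
        rcases hxy with hx | hy
        · exact hx (pow_eq_zero_iff (n := 2) (by norm_num) |>.1 (by linear_combination h))
        · exact hy rfl
      exact ⟨x / y, by field_simp; linear_combination -h⟩
    · rintro ⟨s, hs⟩
      exact ⟨s, 1, Or.inr one_ne_zero, by linear_combination -hs⟩
  constructor
  · rw [← hsq, ← key 1 one_ne_zero]
    simp
  · rw [key α hα0]
    have : IsSquare (-α) ↔ ¬ IsSquare (-1 : F) := by
      constructor
      · intro h h1
        exact hα (by simpa using h1.mul h)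
      · intro h1
        have hu : quadraticChar F (-α) = 1 := by
          rw [show -α = (-1) * α by ring, map_mul, quadraticChar_neg_one_iff_not_isSquare.2 h1,
            quadraticChar_neg_one_iff_not_isSquare.2 hα]
          norm_num
        exact (quadraticChar_one_iff_isSquare (neg_ne_zero.2 hα0)).1 hu
    rw [this, hsq]
    omega

end Cfsg.Agent.S0758
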