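import Cfsg.Statements.S0759
import Mathlib
import Cfsg.Agent.Lib.Classical.SymBilin
-- import your own Cfsg.Agent.* helpers here

set_option autoImplicit false
open Cfsg

namespace Cfsg.Agent.S0759

/-- Type of the orthonormal form: over a finite field of odd order q and for m ≥ 1, the quadratic form Σ_(i<2m) x_i² on F^(2m) admits an m-dimensional subspace on which it vanishes identically if and only if it is not the case that q ≡ 3 (mod 4) and m is odd. -/
theorem result {F : Type*} [Field F] [Fintype F] (h2 : (2 : F) ≠ 0) (m : ℕ) (hm : 1 ≤ m) : (∃ W : Submodule F (Fin (2 * m) → F), Module.finrank F W = m ∧ ∀ w ∈ W, ∑ i, w i ^ 2 = 0) ↔ ¬ (Fintype.card F % 4 = 3 ∧ Odd m) := by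
  classical
  set e₀ := Pi.basisFun F (Fin (2 * m))
  set B := Matrix.toBilin e₀ (1 : Matrix (Fin (2 * m)) (Fin (2 * m)) F) with hB
  have hval : ∀ x y, B x y = ∑ i, x i * y i := fun x y => by
    simp [hB, Matrix.toBilin_apply, e₀, Matrix.one_apply]
  have hnd : B.Nondegenerate := (LinearMap.BilinForm.nondegenerate_iff_det_ne_zero e₀).2 (by
    rw [hB, LinearMap.BilinForm.toMatrix_toBilin, Matrix.det_one]; exact one_ne_zero)
  have hgram : (Matrix.of fun i j => B (e₀ i) (e₀ j)) = 1 := by
    ext i j
    simp [hval, e₀, Matrix.one_apply, Pi.single_apply, eq_comm]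
  have h := CfsgLib.Classical.exists_lagrangian_iff h2 B (fun u v => by simp [hval, mul_comm]) hnd
    (Module.finrank_fin_fun F) e₀
  rw [hgram, Matrix.det_one, mul_one] at h
  have hneg : IsSquare ((-1 : F) ^ m) ↔ ¬ (Fintype.card F % 4 = 3 ∧ Odd m) := by
    rcases Nat.even_or_odd m with he | ho
    · simp [he.neg_one_pow, Nat.not_odd_iff_even.2 he]
    · simp [ho.neg_one_pow, ho, FiniteField.isSquare_neg_one_iff]
  rw [← hneg, ← h]
  refine exists_congr fun W => and_congr_right fun _ => ⟨fun hW x hx y hy => ?_, fun hW w hw => ?_⟩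
  · have h1 := hW _ (W.add_mem hx hy)
    have h2' := hW x hx
    have h3 := hW y hy
    simp only [Pi.add_apply, add_sq, Finset.sum_add_distrib] at h1
    rw [h2', h3, add_zero, zero_add] at h1
    rw [hval]
    refine (mul_eq_zero.1 (show (2 : F) * ∑ i, x i * y i = 0 from ?_)).resolve_left h2
    rw [Finset.mul_sum]
    simpa [mul_assoc] using h1
  · simpa [hval, sq] using hW w hw w hw

end Cfsg.Agent.S0759
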