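import Cfsg.Statements.S0760
import Mathlib
import Cfsg.Agent.Lib.Classical.Witt
-- import your own Cfsg.Agent.* helpers here

set_option autoImplicit false
open Cfsg

namespace Cfsg.Agent.S0760

/-- Witt index is well defined: if Q is a quadratic form on a finite-dimensional space V over a finite field with non-degenerate polar form, and W₁, W₂ are subspaces on which Q vanishes that are maximal with this property, then W₁ and W₂ have the same dimension, and twice this dimension is at most dim V. -/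
theorem result {F V : Type*} [Field F] [Finite F] [AddCommGroup V] [Module F V] [FiniteDimensional F V] (Q : QuadraticForm F V) (hQ : (QuadraticMap.polarBilin Q).Nondegenerate) (W₁ W₂ : Submodule F V) (h₁ : ∀ w ∈ W₁, Q w = 0) (h₂ : ∀ w ∈ W₂, Q w = 0) (hmax₁ : ∀ W : Submodule F V, W₁ ≤ W → (∀ w ∈ W, Q w = 0) → W = W₁) (hmax₂ : ∀ W : Submodule F V, W₂ ≤ W → (∀ w ∈ W, Q w = 0) → W = W₂) : Module.finrank F W₁ = Module.finrank F W₂ ∧ 2 * Module.finrank F W₁ ≤ Module.finrank F V := by
  wlog hle : Module.finrank F W₁ ≤ Module.finrank F W₂ generalizing W₁ W₂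
  · have h := this W₂ W₁ h₂ h₁ hmax₂ hmax₁ (le_of_not_ge hle)
    exact ⟨h.1.symm, h.1.symm ▸ h.2⟩
  obtain ⟨φ, hφ⟩ : ∃ φ : W₁ →ₗ[F] V, Function.Injective φ ∧ ∀ a, φ a ∈ W₂ := by
    let b := Module.finBasis F W₂
    let ψ : W₁ →ₗ[F] W₂ :=
      (Module.finBasis F W₁).constr F (fun i => b (Fin.castLE hle i))
    refine ⟨W₂.subtype.comp ψ, ?_, fun a => (ψ a).2⟩
    refine W₂.injective_subtype.comp (LinearMap.ker_eq_bot.1 (LinearMap.ker_eq_bot'.2 ?_))
    intro a ha
    rw [Module.Basis.constr_apply_fintype] at ha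
    have h0 := Fintype.linearIndependent_iff.1
      (b.linearIndependent.comp _ (Fin.castLE_injective hle)) _ ha
    exact (Module.finBasis F W₁).equivFun.injective (by
      rw [map_zero]
      exact funext h0)
  obtain ⟨g, hg, hgφ⟩ := CfsgLib.Classical.witt_quad Q (fun v h => hQ.1 v h) W₁ φ hφ.1
    (fun a => by rw [h₂ _ (hφ.2 a), h₁ _ a.2])
  have hWmem : W₁ ≤ W₂.comap g.toLinearMap := fun a ha => by
    simpa [hgφ ⟨a, ha⟩] using hφ.2 ⟨a, ha⟩
  have hsing : ∀ w ∈ W₂.comap g.toLinearMap, Q w = 0 := fun w hw => by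
    rw [← hg]
    exact h₂ _ hw
  have heq := hmax₁ _ hWmem hsing
  have hfin : Module.finrank F W₁ = Module.finrank F W₂ := by
    rw [← heq, Submodule.comap_equiv_eq_map_symm, LinearEquiv.finrank_map_eq]
  refine ⟨hfin, ?_⟩
  let P : LinearMap.BilinForm F V := QuadraticMap.polarBilin Q
  have hP : P.Nondegenerate := hQ
  have hPr : LinearMap.BilinForm.IsRefl P := fun a b h => (QuadraticMap.polar_comm _ b a).trans h
  have hle' : W₁ ≤ P.orthogonal W₁ := by
    intro a ha
    rw [LinearMap.BilinForm.mem_orthogonal_iff]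
    intro b hb
    change QuadraticMap.polar Q b a = 0
    rw [QuadraticMap.polar, h₁ _ (W₁.add_mem hb ha), h₁ _ hb, h₁ _ ha, sub_zero, sub_zero]
  have h := LinearMap.BilinForm.finrank_orthogonal hP W₁
  have h' := Submodule.finrank_mono hle'
  omega

end Cfsg.Agent.S0760
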