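import Cfsg.Statements.S0761
import Mathlib
-- import your own Cfsg.Agent.* helpers here

set_option autoImplicit false
open Cfsg

namespace Cfsg.Agent.S0761

/-- Hyperbolic partners: let B be a non-degenerate bilinear form on a finite-dimensional space, either alternating, or symmetric with 2 ≠ 0. If Z is a subspace on which B vanishes, x ∉ Z is isotropic and orthogonal to Z, then there is an isotropic y with B x y = 1 which is orthogonal to Z. -/
theorem result {F V : Type*} [Field F] [AddCommGroup V] [Module F V] [FiniteDimensional F V] (B : LinearMap.BilinForm F V) (hB : B.Nondegenerate) (hform : B.IsAlt ∨ (B.IsSymm ∧ (2 : F) ≠ 0)) (x : V) (Z : Submodule F V) (hxZ : x ∉ Z) (hx : B x x = 0) (hxz : ∀ z ∈ Z, B x z = 0) (hZ : ∀ z ∈ Z, ∀ z' ∈ Z, B z z' = 0) : ∃ y : V, B y y = 0 ∧ B x y = 1 ∧ ∀ z ∈ Z, B z y = 0 := by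
  have hsurj : ∀ φ : Module.Dual F V, ∃ y : V, ∀ v, B v y = φ v := by
    intro φ
    exact ⟨(LinearMap.BilinForm.toDual B.flip hB.flip).symm φ,
      fun v => LinearMap.BilinForm.apply_toDual_symm_apply (hB := hB.flip) φ v⟩
  obtain ⟨φ, hφx, hφZ⟩ := Submodule.exists_dual_map_eq_bot_of_notMem hxZ inferInstance
  obtain ⟨y, hy⟩ := hsurj ((φ x)⁻¹ • φ)
  have hxy : B x y = 1 := by simp [hy, hφx]
  have hzy : ∀ z ∈ Z, B z y = 0 := by
    intro z hz
    have : φ z = 0 := (Submodule.mem_bot F).1 (hφZ ▸ Submodule.mem_map_of_mem hz)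
    simp [hy, this]
  rcases hform with hA | ⟨hS, h2⟩
  · exact ⟨y, hA y, hxy, hzy⟩
  · refine ⟨y - (B y y / 2) • x, ?_, ?_, ?_⟩
    · have hyx : B y x = 1 := (hS.eq x y).symm.trans hxy
      simp [hx, hxy, hyx]
      field_simp
      ring
    · simp [hx, hxy]
    · intro z hz
      have hzx : B z x = 0 := (hS.eq x z).symm.trans (hxz z hz)
      simp [hzy z hz, hzx]

end Cfsg.Agent.S0761
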