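import Cfsg.Statements.S0762
import Mathlib
-- import your own Cfsg.Agent.* helpers here

set_option autoImplicit false
open Cfsg

namespace Cfsg.Agent.S0762

/-- In characteristic two over a finite field, a quadratic form on a space of dimension at least 3 vanishes on some non-zero vector. -/
theorem result {F V : Type*} [Field F] [Finite F] [CharP F 2] [AddCommGroup V] [Module F V] [FiniteDimensional F V] (Q : QuadraticForm F V) (h3 : 3 ≤ Module.finrank F V) : ∃ v : V, v ≠ 0 ∧ Q v = 0 := by
  classical
  have := Fintype.ofFinite F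
  set n := Module.finrank F V
  let b := Module.finBasis F V
  let f : MvPolynomial (Fin n) F :=
    ∑ i : Fin n, ∑ j : Fin n, MvPolynomial.C (Q.toBilin b (b i) (b j)) *
      (MvPolynomial.X i * MvPolynomial.X j)
  have hdeg : f.totalDegree < Fintype.card (Fin n) := by
    refine lt_of_le_of_lt (MvPolynomial.totalDegree_finsetSum_le (d := 2) fun i _ =>
      MvPolynomial.totalDegree_finsetSum_le fun j _ => ?_) (by simp; omega)
    refine le_trans (MvPolynomial.totalDegree_mul _ _) ?_
    rw [MvPolynomial.totalDegree_C, zero_add]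
    refine le_trans (MvPolynomial.totalDegree_mul _ _) ?_
    rw [MvPolynomial.totalDegree_X, MvPolynomial.totalDegree_X]
  obtain ⟨p, hp⟩ := CharP.exists F
  have hpprime : Fact p.Prime := ⟨CharP.char_is_prime F p⟩
  have hdvd := char_dvd_card_solutions (p := p) hdeg
  have heval : ∀ x : Fin n → F, MvPolynomial.eval x f = Q (∑ i, x i • b i) := by
    intro x
    rw [← congrArg (fun q : QuadraticForm F V => q (∑ i, x i • b i))
      (QuadraticMap.toQuadraticMap_toBilin Q b)]
    simp [f, map_sum, LinearMap.sum_apply, Finset.mul_sum]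
    rw [Finset.sum_comm]
    exact Finset.sum_congr rfl fun i _ => Finset.sum_congr rfl fun j _ => by ring
  have h0 : MvPolynomial.eval (0 : Fin n → F) f = 0 := by rw [heval]; simp
  by_contra hc
  push Not at hc
  have : Fintype.card {x : Fin n → F // MvPolynomial.eval x f = 0} = 1 := by
    rw [Fintype.card_eq_one_iff]
    refine ⟨⟨0, h0⟩, fun y => Subtype.ext ?_⟩
    by_contra hy
    refine hc (∑ i, y.1 i • b i) (fun hz => hy (funext fun i => ?_)) (heval _ ▸ y.2)
    exact Fintype.linearIndependent_iff.1 b.linearIndependent y.1 hz i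
  rw [this, Nat.dvd_one] at hdvd
  exact hpprime.out.one_lt.ne' hdvd

end Cfsg.Agent.S0762
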