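import Cfsg.Statements.S0763
import Mathlib
import Cfsg.Agent.Lib.Classical.QuadReflect
-- import your own Cfsg.Agent.* helpers here

set_option autoImplicit false
open Cfsg

namespace Cfsg.Agent.S0763

/-- Binary quadratic forms in characteristic two over a finite field: if Q is a quadratic form on a 2-dimensional space whose polar form is non-degenerate, then either there are vectors v, w with Q v = Q w = 0 and polar value 1 (Q is xy in these coordinates), or there are v, w and μ with Q v = 1, Q w = μ, polar value 1 and x² + x + μ without roots in F (Q is x² + xy + μy²). -/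
theorem result {F V : Type*} [Field F] [Finite F] [CharP F 2] [AddCommGroup V] [Module F V] (Q : QuadraticForm F V) (h2 : Module.finrank F V = 2) (hQ : (QuadraticMap.polarBilin Q).Nondegenerate) : (∃ v w : V, LinearIndependent F ![v, w] ∧ Q v = 0 ∧ Q w = 0 ∧ QuadraticMap.polar Q v w = 1) ∨ (∃ (v w : V) (μ : F), LinearIndependent F ![v, w] ∧ (∀ x : F, x ^ 2 + x + μ ≠ 0) ∧ Q v = 1 ∧ Q w = μ ∧ QuadraticMap.polar Q v w = 1) := by
  classical
  haveI : FiniteDimensional F V := Module.finite_of_finrank_pos (by omega)
  have hind : ∀ v w : V, QuadraticMap.polar Q v w = 1 → LinearIndependent F ![v, w] := by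
    intro v w hvw
    rw [LinearIndependent.pair_iff]
    intro s t hst
    have h1 := congrArg (QuadraticMap.polar Q v) hst
    have h3 := congrArg (QuadraticMap.polar Q w) hst
    simp [QuadraticMap.polar_add_right, QuadraticMap.polar_smul_right, QuadraticMap.polar_self, hvw,
      QuadraticMap.polar_comm Q w v, CharTwo.two_eq_zero] at h1 h3
    exact ⟨h3, h1⟩
  have hQ' := CfsgLib.Classical.polarNondeg_of_nondegenerate hQ
  by_cases hs : ∃ v : V, v ≠ 0 ∧ Q v = 0
  · obtain ⟨v, hv0, hv⟩ := hs
    obtain ⟨w, -, hw, hvw⟩ := CfsgLib.Classical.exists_partner Q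
      (P := ⊤) (fun x _ h => hQ' x fun y => h y trivial) (Submodule.mem_top (x := v)) hv0 hv
    exact Or.inl ⟨v, w, hind v w hvw, hv, hw, hvw⟩
  · push Not at hs
    obtain ⟨x, hx⟩ : ∃ x : V, x ≠ 0 := by
      have : Nontrivial V := Module.nontrivial_of_finrank_eq_succ h2
      exact exists_ne 0
    obtain ⟨r, hr⟩ := FiniteField.isSquare_of_char_two (ringChar.eq F 2) (Q x)
    have hr0 : r ≠ 0 := fun h => hs x hx (by rw [hr, h, mul_zero])
    set v := r⁻¹ • x
    have hv : Q v = 1 := by
      rw [CfsgLib.Classical.quad_smul, hr]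
      field_simp
    have hv0 : v ≠ 0 := smul_ne_zero (inv_ne_zero hr0) hx
    obtain ⟨y, hy⟩ : ∃ y, QuadraticMap.polar Q v y ≠ 0 := by
      by_contra hc
      push Not at hc
      exact hv0 (hQ' v hc)
    set w := (QuadraticMap.polar Q v y)⁻¹ • y
    have hvw : QuadraticMap.polar Q v w = 1 := by
      rw [QuadraticMap.polar_smul_right, smul_eq_mul, inv_mul_cancel₀ hy]
    refine Or.inr ⟨v, w, Q w, hind v w hvw, fun t ht => ?_, hv, rfl, hvw⟩
    have h0 : Q (t • v + w) = 0 := by
      rw [CfsgLib.Classical.quad_add, CfsgLib.Classical.quad_smul, hv, QuadraticMap.polar_smul_left, hvw, smul_eq_mul]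
      linear_combination ht
    have hne : t • v + w ≠ 0 := fun h => one_ne_zero (α := F) ((LinearIndependent.pair_iff.1 (hind v w hvw)) t 1
      (by rw [one_smul]; exact h)).2
    exact hs _ hne h0

end Cfsg.Agent.S0763
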