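import Cfsg.Statements.S0769
import Mathlib
-- import your own Cfsg.Agent.* helpers here

set_option autoImplicit false
open Cfsg

namespace Cfsg.Agent.S0769

/-- Order of the Borel subgroup of GL_n(q): the invertible lower-triangular n × n matrices over a field with q elements number q^(n(n-1)/2) (q-1)^n (unitriangular part times the diagonal torus). -/
theorem result {F : Type*} [Field F] [Fintype F] {q : ℕ} (hF : Fintype.card F = q) (n : ℕ) : Nat.card {g : Matrix.GeneralLinearGroup (Fin n) F // ∀ i j : Fin n, i < j → (g : Matrix (Fin n) (Fin n) F) i j = 0} = q ^ (n * (n - 1) / 2) * (q - 1) ^ n := by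
  classical
  have hF' : Nat.card F = q := by rw [Nat.card_eq_fintype_card, hF]
  let P := {p : Fin n × Fin n // p.2 < p.1}
  let e : {g : Matrix.GeneralLinearGroup (Fin n) F // ∀ i j : Fin n, i < j → (g : Matrix (Fin n) (Fin n) F) i j = 0} ≃
      (Fin n → Fˣ) × (P → F) :=
    { toFun := fun g => (fun i => Units.mk0 ((g.1 : Matrix (Fin n) (Fin n) F) i i) (fun h => by
          have hd : (g.1 : Matrix (Fin n) (Fin n) F).det ≠ 0 := by
            simpa using (Matrix.GeneralLinearGroup.det g.1).ne_zero
          rw [Matrix.det_of_lowerTriangular _ (fun a b hab => g.2 a b hab)] at hd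
          exact Finset.prod_ne_zero_iff.1 hd i (Finset.mem_univ i) h),
        fun p => (g.1 : Matrix (Fin n) (Fin n) F) p.1.1 p.1.2)
      invFun := fun d => ⟨Matrix.GeneralLinearGroup.mkOfDetNeZero
          (Matrix.of fun i j => if h : j < i then d.2 ⟨(i, j), h⟩ else if i = j then (d.1 i : F) else 0) (by
            rw [Matrix.det_of_lowerTriangular _ (fun a b (hab : a < b) => by simp [hab.ne, not_lt.2 hab.le])]
            simp [Finset.prod_ne_zero_iff]),
        fun i j hij => by simp [hij.ne, not_lt.2 hij.le]⟩
      left_inv := fun g => Subtype.ext (Units.ext (Matrix.ext fun i j => by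
        rcases lt_trichotomy i j with h | rfl | h
        · simp [h.ne, not_lt.2 h.le, g.2 i j h]
        · simp
        · simp [h]))
      right_inv := fun d => Prod.ext (funext fun i => Units.ext (by simp)) (funext fun p => by simp [p.2]) }
  have hP : Nat.card P = n * (n - 1) / 2 := by
    rw [Nat.card_congr ({ toFun := fun p => ⟨p.1.1, ⟨p.1.2, p.2⟩⟩
                          invFun := fun s => ⟨(s.1, ⟨s.2, s.2.2.trans s.1.2⟩), s.2.2⟩
                          left_inv := fun _ => rfl
                          right_inv := fun _ => rfl } : P ≃ Σ i : Fin n, Fin i), Nat.card_sigma]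
    simp only [Nat.card_eq_fintype_card, Fintype.card_fin]
    rw [Fin.sum_univ_eq_sum_range (fun i => i), Finset.sum_range_id]
  rw [Nat.card_congr e, Nat.card_prod, Nat.card_fun, Nat.card_fun, Nat.card_units, hF', hP,
    Nat.card_eq_fintype_card, Fintype.card_fin, mul_comm]

end Cfsg.Agent.S0769
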