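import Cfsg.Statements.S0770
import Mathlib
-- import your own Cfsg.Agent.* helpers here

set_option autoImplicit false
open Cfsg

namespace Cfsg.Agent.S0770

/-- For a field with at least 3 elements, an invertible matrix normalises the subgroup of invertible diagonal matrices of GL_n if and only if it is monomial (exactly one non-zero entry in each row). -/
theorem result {F : Type*} [Field F] (hF : ∃ a : F, a ≠ 0 ∧ a ≠ 1) (n : ℕ) (g : Matrix.GeneralLinearGroup (Fin n) F) : g ∈ Subgroup.normalizer ((Units.map (Matrix.diagonalRingHom (Fin n) F).toMonoidHom).range : Subgroup (Matrix.GeneralLinearGroup (Fin n) F)) ↔ ∀ i : Fin n, ∃! j : Fin n, (g : Matrix (Fin n) (Fin n) F) i j ≠ 0 := by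
  classical
  obtain ⟨a, ha0, ha1⟩ := hF
  set T := ((Units.map (Matrix.diagonalRingHom (Fin n) F).toMonoidHom).range : Subgroup (Matrix.GeneralLinearGroup (Fin n) F))
  have hT : ∀ x : Matrix.GeneralLinearGroup (Fin n) F, x ∈ T ↔
      ∃ d : Fin n → F, (x : Matrix (Fin n) (Fin n) F) = Matrix.diagonal d := fun x => by
    constructor
    · rintro ⟨u, rfl⟩
      exact ⟨(u : Fin n → F), rfl⟩
    · rintro ⟨d, hd⟩
      have hne : ∀ i, d i ≠ 0 := fun i h => by
        have := (Matrix.GeneralLinearGroup.det x).ne_zero
        rw [Matrix.GeneralLinearGroup.val_det_apply, hd, Matrix.det_diagonal] at this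
        exact this (Finset.prod_eq_zero (Finset.mem_univ i) h)
      exact ⟨MulEquiv.piUnits.symm fun i => Units.mk0 (d i) (hne i), Units.ext hd.symm⟩
  have hdetne : (g : Matrix (Fin n) (Fin n) F).det ≠ 0 := by
    simpa using (Matrix.GeneralLinearGroup.det g).ne_zero
  rw [Subgroup.mem_normalizer_iff]
  constructor
  · intro h i
    obtain ⟨j, hj⟩ : ∃ j, (g : Matrix (Fin n) (Fin n) F) i j ≠ 0 := by
      by_contra hc
      push Not at hc
      exact hdetne (Matrix.det_eq_zero_of_row_eq_zero i hc)
    refine ⟨j, hj, fun l hl => ?_⟩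
    by_contra hne
    let d : Fin n → F := Function.update 1 j a
    have hd : Matrix.diagonal d = Matrix.diagonalRingHom (Fin n) F d := rfl
    set x : Matrix.GeneralLinearGroup (Fin n) F := Matrix.GeneralLinearGroup.mkOfDetNeZero (Matrix.diagonal d) (by
      simp [d, Finset.prod_update_of_mem, ha0])
    obtain ⟨d', hd'⟩ := (hT _).1 ((h x).1 ((hT x).2 ⟨d, rfl⟩))
    have e : (g : Matrix (Fin n) (Fin n) F) * Matrix.diagonal d = Matrix.diagonal d' * (g : Matrix (Fin n) (Fin n) F) := by
      rw [← hd', ← Units.val_mul, inv_mul_cancel_right]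
      rfl
    have e1 := congrFun₂ e i j
    have e2 := congrFun₂ e i l
    rw [Matrix.mul_diagonal, Matrix.diagonal_mul] at e1 e2
    simp [d, hne] at e2
    simp [d] at e1
    have h1 : d' i = a := mul_right_cancel₀ hj (by rw [← e1, mul_comm])
    have h2 : d' i = 1 := mul_right_cancel₀ hl (by rw [← e2, one_mul])
    exact ha1 (h1.symm.trans h2)
  · intro h
    choose π hπ hπu using h
    have hsurj : Function.Surjective π := fun j => by
      by_contra hc
      push Not at hc
      refine hdetne (Matrix.det_eq_zero_of_column_eq_zero j fun i => ?_)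
      by_contra hne
      exact hc i ((hπu i j hne).symm)
    let p := Equiv.ofBijective π ⟨Finite.injective_iff_surjective.2 hsurj, hsurj⟩
    have key : ∀ d : Fin n → F, (g : Matrix (Fin n) (Fin n) F) * Matrix.diagonal d =
        Matrix.diagonal (d ∘ π) * (g : Matrix (Fin n) (Fin n) F) := fun d => Matrix.ext fun i j => by
      rw [Matrix.mul_diagonal, Matrix.diagonal_mul]
      by_cases hj : (g : Matrix (Fin n) (Fin n) F) i j = 0
      · rw [hj, zero_mul, mul_zero]
      · rw [hπu i j hj, mul_comm]
        rfl
    intro x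
    rw [hT, hT]
    constructor
    · rintro ⟨d, hd⟩
      refine ⟨d ∘ π, ?_⟩
      rw [Units.val_mul, Units.val_mul, hd, key, mul_assoc, ← Units.val_mul, mul_inv_cancel, Units.val_one, mul_one]
    · rintro ⟨d, hd⟩
      refine ⟨d ∘ p.symm, ?_⟩
      have h1 : (d ∘ p.symm) ∘ π = d := funext fun i => congrArg d (p.symm_apply_apply i)
      have h2 := key (d ∘ p.symm)
      rw [h1, ← hd, ← Units.val_mul, inv_mul_cancel_right, Units.val_mul] at h2
      exact (Units.mul_right_inj g).1 h2.symm

end Cfsg.Agent.S0770
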