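import Cfsg.Statements.S0771
import Mathlib
import Cfsg.Agent.Lib.Classical.GLParabolic
-- import your own Cfsg.Agent.* helpers here

set_option autoImplicit false
open Cfsg

namespace Cfsg.Agent.S0771

/-- Maximal parabolic of GL_n(q): the stabiliser of the coordinate subspace spanned by the first k basis vectors has order q^(k(n-k)) · |GL_k(q)| · |GL_(n-k)(q)| (unipotent radical of order q^(k(n-k)) and Levi complement GL_k × GL_(n-k)). -/
theorem result {F : Type*} [Field F] [Fintype F] {q : ℕ} (hF : Fintype.card F = q) (n k : ℕ) (hk : k ≤ n) : Nat.card ↥(Cfsg.stabilizing (Cfsg.glToMat (Fin n) F) {v : Fin n → F | ∀ i : Fin n, k ≤ (i : ℕ) → v i = 0}) = q ^ (k * (n - k)) * (∏ i : Fin k, (q ^ k - q ^ (i : ℕ))) * ∏ i : Fin (n - k), (q ^ (n - k) - q ^ (i : ℕ)) := by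
  classical
  obtain ⟨m, rfl⟩ := Nat.exists_eq_add_of_le hk
  rw [Nat.add_sub_cancel_left]
  let R := Matrix.reindexAlgEquiv F F (finSumFinEquiv (m := k) (n := m)).symm
  let W := CfsgLib.Classical.coordFirst (k + m) k F
  have hmem : ∀ g : Matrix.GeneralLinearGroup (Fin (k + m)) F,
      g ∈ Cfsg.stabilizing (Cfsg.glToMat (Fin (k + m)) F) {v : Fin (k + m) → F | ∀ i : Fin (k + m), k ≤ (i : ℕ) → v i = 0} ↔
        ∀ (a : Fin m) (b : Fin k), (g : Matrix (Fin (k + m)) (Fin (k + m)) F) (Fin.natAdd k a) (Fin.castAdd m b) = 0 := by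
    intro g
    refine ⟨fun hg a b => ?_, fun h => CfsgLib.Classical.mem_glStab (W := W) fun v hv i hi => ?_⟩
    · have h1 := (hg (Pi.single (Fin.castAdd m b) 1)).1 (fun i hi => by
        rw [Pi.single_eq_of_ne (fun h => by subst h; simp at hi; omega)]) (Fin.natAdd k a) (by simp)
      simpa using h1
    · change ∑ b, (g : Matrix (Fin (k + m)) (Fin (k + m)) F) i b * v b = 0
      obtain ⟨a, rfl⟩ : ∃ a, Fin.natAdd k a = i := by
        induction i using Fin.addCases with
        | left a => simp at hi; omega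
        | right a => exact ⟨a, rfl⟩
      refine Finset.sum_eq_zero fun b _ => ?_
      induction b using Fin.addCases with
      | left b => rw [h, zero_mul]
      | right b => rw [hv _ (by simp), mul_zero]
  have key : ∀ M : Matrix (Fin (k + m)) (Fin (k + m)) F, (∀ (a : Fin m) (b : Fin k), M (Fin.natAdd k a) (Fin.castAdd m b) = 0) →
      R M = Matrix.fromBlocks (R M).toBlocks₁₁ (R M).toBlocks₁₂ 0 (R M).toBlocks₂₂ := fun M hM => by
    conv_lhs => rw [← Matrix.fromBlocks_toBlocks (R M)]
    congr 1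
    ext a b
    simpa [R, Matrix.toBlocks₂₁] using hM a b
  let S := {g : Matrix.GeneralLinearGroup (Fin (k + m)) F // ∀ (a : Fin m) (b : Fin k),
    (g : Matrix (Fin (k + m)) (Fin (k + m)) F) (Fin.natAdd k a) (Fin.castAdd m b) = 0}
  have hdet : ∀ g : S, (R g.1).toBlocks₁₁.det ≠ 0 ∧ (R g.1).toBlocks₂₂.det ≠ 0 := fun g => by
    have h : (R (g.1 : Matrix (Fin (k + m)) (Fin (k + m)) F)).det ≠ 0 := by
      simpa [R] using (Matrix.GeneralLinearGroup.det g.1).ne_zero
    rw [key _ g.2, Matrix.det_fromBlocks_zero₂₁] at h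
    exact mul_ne_zero_iff.1 h
  let e : S ≃ (Matrix.GeneralLinearGroup (Fin k) F × Matrix.GeneralLinearGroup (Fin m) F) × Matrix (Fin k) (Fin m) F :=
    { toFun := fun g => ((Matrix.GeneralLinearGroup.mkOfDetNeZero _ (hdet g).1,
        Matrix.GeneralLinearGroup.mkOfDetNeZero _ (hdet g).2), (R g.1).toBlocks₁₂)
      invFun := fun d => ⟨Matrix.GeneralLinearGroup.mkOfDetNeZero
          (R.symm (Matrix.fromBlocks (d.1.1 : Matrix (Fin k) (Fin k) F) d.2 0 (d.1.2 : Matrix (Fin m) (Fin m) F))) (by
            rw [show R.symm _ = Matrix.reindex finSumFinEquiv finSumFinEquiv _ from rfl, Matrix.det_reindex_self,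
              Matrix.det_fromBlocks_zero₂₁]
            exact mul_ne_zero (by simpa using (Matrix.GeneralLinearGroup.det d.1.1).ne_zero)
              (by simpa using (Matrix.GeneralLinearGroup.det d.1.2).ne_zero)),
        fun a b => by simp [R]⟩
      left_inv := fun g => Subtype.ext (Units.ext (by
        change R.symm (Matrix.fromBlocks (R g.1).toBlocks₁₁ (R g.1).toBlocks₁₂ 0 (R g.1).toBlocks₂₂) = g.1
        rw [← key _ g.2, R.symm_apply_apply]))
      right_inv := fun d => by
        refine Prod.ext (Prod.ext (Units.ext ?_) (Units.ext ?_)) ?_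
        · change (R (R.symm _)).toBlocks₁₁ = _
          rw [R.apply_symm_apply, Matrix.toBlocks_fromBlocks₁₁]
        · change (R (R.symm _)).toBlocks₂₂ = _
          rw [R.apply_symm_apply, Matrix.toBlocks_fromBlocks₂₂]
        · change (R (R.symm _)).toBlocks₁₂ = _
          rw [R.apply_symm_apply, Matrix.toBlocks_fromBlocks₁₂] }
  rw [Nat.card_congr ((Equiv.subtypeEquivRight hmem).trans e), Nat.card_prod, Nat.card_prod,
    Matrix.card_GL_field, Matrix.card_GL_field, hF]
  simp [Matrix, Nat.card_fun, hF, ← pow_mul]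
  ring

end Cfsg.Agent.S0771
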