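import Cfsg.Statements.S0773
import Mathlib
import Cfsg.Agent.Lib.Classical.GLParabolic
-- import your own Cfsg.Agent.* helpers here

set_option autoImplicit false
open Cfsg

namespace Cfsg.Agent.S0773

/-- The stabilisers in GL_n(F), F finite, of the coordinate subspaces of dimensions k and n − k are isomorphic groups, but when 2k ≠ n (and 0 < k < n) no element of GL_n conjugates one onto the other. -/
theorem result {F : Type*} [Field F] [Finite F] (n k : ℕ) (hk0 : 0 < k) (hkn : k < n) (h2 : 2 * k ≠ n) : Nonempty (↥(Cfsg.stabilizing (Cfsg.glToMat (Fin n) F) {v : Fin n → F | ∀ i : Fin n, k ≤ (i : ℕ) → v i = 0}) ≃* ↥(Cfsg.stabilizing (Cfsg.glToMat (Fin n) F) {v : Fin n → F | ∀ i : Fin n, n - k ≤ (i : ℕ) → v i = 0})) ∧ ∀ g : Matrix.GeneralLinearGroup (Fin n) F, (Cfsg.stabilizing (Cfsg.glToMat (Fin n) F) {v : Fin n → F | ∀ i : Fin n, k ≤ (i : ℕ) → v i = 0}).map (MulAut.conj g).toMonoidHom ≠ Cfsg.stabilizing (Cfsg.glToMat (Fin n) F) {v : Fin n → F | ∀ i :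 Fin n, n - k ≤ (i : ℕ) → v i = 0} := by
  refine ⟨CfsgLib.Classical.glStab_dual_equiv hkn.le, fun g hg => ?_⟩
  let W := CfsgLib.Classical.coordFirst n k F
  let W' := CfsgLib.Classical.coordFirst n (n - k) F
  let U : Submodule F (Fin n → F) := W.map (Matrix.mulVecLin (g : Matrix (Fin n) (Fin n) F))
  have hdim : Module.finrank F U = k := by
    have e : ↥W ≃ₗ[F] U := Submodule.equivMapOfInjective _ (CfsgLib.Transvec.mulVec_injective g) W
    rw [← e.finrank_eq]
    exact CfsgLib.Classical.finrank_coordFirst hkn.le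
  rcases CfsgLib.Classical.glStab_invariant (W := W') (U := U) (fun x hx y hy => by
    change x ∈ Cfsg.stabilizing (Cfsg.glToMat (Fin n) F) {v : Fin n → F | ∀ i : Fin n, n - k ≤ (i : ℕ) → v i = 0} at hx
    rw [← hg] at hx
    obtain ⟨p, hp, rfl⟩ := hx
    obtain ⟨w, hw, rfl⟩ := hy
    refine ⟨(p : Matrix (Fin n) (Fin n) F).mulVec w, (hp w).1 hw, ?_⟩
    change (g : Matrix (Fin n) (Fin n) F).mulVec _ = ((g * p * g⁻¹ : Matrix.GeneralLinearGroup (Fin n) F) : Matrix (Fin n) (Fin n) F).mulVec ((g : Matrix (Fin n) (Fin n) F).mulVec w)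
    rw [CfsgLib.Transvec.mul_mulVec, CfsgLib.Transvec.mul_mulVec, CfsgLib.Transvec.inv_mulVec_cancel]) with h | h | h
  · rw [h, finrank_bot] at hdim
    omega
  · rw [h, CfsgLib.Classical.finrank_coordFirst (Nat.sub_le _ _)] at hdim
    omega
  · rw [h, finrank_top, Module.finrank_fin_fun] at hdim
    omega

end Cfsg.Agent.S0773
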