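import Cfsg.Statements.S0778
import Mathlib
import Cfsg.Agent.Lib.Classical.SpBasic
-- import your own Cfsg.Agent.* helpers here

set_option autoImplicit false
open Cfsg

namespace Cfsg.Agent.S0778

/-- The elements of Sp_2m(F) stabilising both W = ⟨e_1..e_m⟩ and U = ⟨f_1..f_m⟩ form a subgroup isomorphic to GL_m(F) (block-diagonal matrices diag(X, X^(−ᵀ)) up to the sign convention of J), for m ≥ 1 or m = 0 alike. -/
theorem result {F : Type*} [Field F] (m : ℕ) : Nonempty (↥(Cfsg.stabilizing (Cfsg.spToMat m F) {v : Fin m ⊕ Fin m → F | ∀ i : Fin m, v (Sum.inr i) = 0} ⊓ Cfsg.stabilizing (Cfsg.spToMat m F) {v : Fin m ⊕ Fin m → F | ∀ i : Fin m, v (Sum.inl i) = 0}) ≃* Matrix.GeneralLinearGroup (Fin m) F) := by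
  classical
  set S := Cfsg.stabilizing (Cfsg.spToMat m F) {v : Fin m ⊕ Fin m → F | ∀ i : Fin m, v (Sum.inr i) = 0} ⊓
    Cfsg.stabilizing (Cfsg.spToMat m F) {v : Fin m ⊕ Fin m → F | ∀ i : Fin m, v (Sum.inl i) = 0}
  let D : Matrix.GeneralLinearGroup (Fin m) F →* Matrix.symplecticGroup (Fin m) F :=
    { toFun := fun A => ⟨Matrix.fromBlocks (A : Matrix (Fin m) (Fin m) F) 0 0
          ((A⁻¹ : Matrix.GeneralLinearGroup (Fin m) F) : Matrix (Fin m) (Fin m) F).transpose, by
        rw [SymplecticGroup.fromBlocks_mem_iff]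
        simp [← Matrix.transpose_mul]⟩
      map_one' := Subtype.ext (by simp)
      map_mul' := fun A B => Subtype.ext (by
        simp [Matrix.fromBlocks_multiply, ← Matrix.transpose_mul, -Matrix.coe_units_inv]) }
  have hD : ∀ A, D A ∈ S := by
    intro A
    have hblk : ∀ (B : Matrix.GeneralLinearGroup (Fin m) F) (v : Fin m ⊕ Fin m → F),
        ((∀ i, v (Sum.inr i) = 0) → ∀ i, (Matrix.mulVec (D B).1 v) (Sum.inr i) = 0) ∧
        ((∀ i, v (Sum.inl i) = 0) → ∀ i, (Matrix.mulVec (D B).1 v) (Sum.inl i) = 0) := by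
      intro B v
      constructor <;> intro hv i
      · have h : v ∘ Sum.inr = 0 := funext hv
        simp [D, Matrix.fromBlocks_mulVec, h]
      · have h : v ∘ Sum.inl = 0 := funext hv
        simp [D, Matrix.fromBlocks_mulVec, h]
    refine ⟨fun v => ⟨(hblk A v).1, fun h => ?_⟩, fun v => ⟨(hblk A v).2, fun h => ?_⟩⟩
    · have := (hblk A⁻¹ _).1 h
      rw [map_inv] at this
      intro i
      exact (congrFun (CfsgLib.Classical.sp_inv_mulVec (D A) v) _).symm.trans (this i)
    · have := (hblk A⁻¹ _).2 h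
      rw [map_inv] at this
      intro i
      exact (congrFun (CfsgLib.Classical.sp_inv_mulVec (D A) v) _).symm.trans (this i)
  refine ⟨(MulEquiv.ofBijective (D.codRestrict S hD) ⟨fun A B h => ?_, fun g => ?_⟩).symm⟩
  · have := congrArg (fun x : S => Matrix.toBlocks₁₁ x.1.1) h
    exact Units.ext (by simpa [D] using this)
  · obtain ⟨g, hgR, hgL⟩ := g
    set A := Matrix.toBlocks₁₁ g.1
    have hg : g.1 = Matrix.fromBlocks A 0 0 (Matrix.toBlocks₂₂ g.1) := by
      refine Matrix.ext fun i j => ?_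
      rcases i with i | i <;> rcases j with j | j
      · rfl
      · have := (hgL (Pi.single (Sum.inr j) 1)).1 (fun k => by simp) i
        simpa [Matrix.mulVec_single_one] using this
      · have := (hgR (Pi.single (Sum.inl j) 1)).1 (fun k => by simp) i
        simpa [Matrix.mulVec_single_one] using this
      · rfl
    have h := g.2
    rw [hg, SymplecticGroup.fromBlocks_mem_iff] at h
    simp at h
    set D₂ := Matrix.toBlocks₂₂ g.1
    have hinv : D₂.transpose * A = 1 := by
      have : A.transpose * D₂ = 1 := by simpa using h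
      simpa using congrArg Matrix.transpose this
    refine ⟨⟨A, D₂.transpose, mul_eq_one_comm.1 hinv, hinv⟩, Subtype.ext (Subtype.ext ?_)⟩
    change Matrix.fromBlocks A 0 0 D₂.transpose.transpose = g.1
    rw [Matrix.transpose_transpose, hg]

end Cfsg.Agent.S0778
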