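import Cfsg.Statements.S0779
import Mathlib
-- import your own Cfsg.Agent.* helpers here

set_option autoImplicit false
open Cfsg

namespace Cfsg.Agent.S0779

/-- Unitary transvections: let |F| = q², h the standard Hermitian form Σ x_i y_i^q and v ≠ 0 with h(v, v) = 0. The linear map x ↦ x + c h(x, v) v is an isometry of h if and only if c = 0 or c^(q−1) = −1. -/
theorem result {F : Type*} [Field F] [Fintype F] {q : ℕ} (hF : Fintype.card F = q ^ 2) (n : ℕ) (v : Fin n → F) (hv : v ≠ 0) (hv0 : Cfsg.hermForm n F q v v = 0) (c : F) : (∀ x y : Fin n → F, Cfsg.hermForm n F q ((Cfsg.unitaryTransvection n q v c).mulVec x) ((Cfsg.unitaryTransvection n q v c).mulVec y) = Cfsg.hermForm n F q x y) ↔ (c = 0 ∨ c ^ (q - 1) = -1) := by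
  have hq1 : 1 < q ^ 2 := hF ▸ Fintype.one_lt_card
  have hq : 2 ≤ q := by rcases q with _ | _ | q <;> simp_all
  obtain ⟨p, _⟩ := CharP.exists F
  have : Fact p.Prime := ⟨CharP.char_is_prime F p⟩
  obtain ⟨k, -, hk⟩ := FiniteField.card F p
  rw [hF] at hk
  obtain ⟨j, -, hj⟩ := (Nat.dvd_prime_pow (Fact.out : p.Prime)).1 (hk ▸ dvd_pow_self q two_ne_zero : q ∣ p ^ (k : ℕ))
  let σ : F →+* F := iterateFrobenius F p j
  have hσ : ∀ a : F, σ a = a ^ q := fun a => by simp [σ, iterateFrobenius_def, hj]
  have hσσ : ∀ a : F, σ (σ a) = a := fun a => by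
    rw [hσ, hσ, ← pow_mul, ← sq, ← hF, FiniteField.pow_card]
  set h := Cfsg.hermForm n F q with hh
  have hdef : ∀ x y, h x y = ∑ i, x i * σ (y i) := fun x y => by simp [hh, Cfsg.hermForm, hσ]
  have hconj : ∀ x y, σ (h x y) = h y x := fun x y => by
    simp [hdef, map_sum, hσσ, mul_comm]
  have act : ∀ x, (Cfsg.unitaryTransvection n q v c).mulVec x = x + (c * h x v) • v := by
    intro x
    rw [Cfsg.unitaryTransvection, Matrix.add_mulVec, Matrix.one_mulVec, Matrix.smul_mulVec,
      Matrix.vecMulVec_mulVec, op_smul_eq_smul, smul_smul]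
    congr 3
    exact dotProduct_comm _ _
  have expand : ∀ x y, h (x + (c * h x v) • v) (y + (c * h y v) • v) =
      h x y + (c + σ c) * (h x v * h v y) := by
    intro x y
    have e1 : ∀ a b u w z, h (a • u + w) z = a * h u z + h w z ∧ h z (b • u + w) = σ b * h z u + h z w := by
      intro a b u w z
      simp [hdef, Finset.mul_sum, ← Finset.sum_add_distrib, map_add, map_mul]
      constructor <;> exact Finset.sum_congr rfl fun i _ => by ring
    rw [add_comm x, add_comm y, (e1 _ 0 v x _).1, (e1 0 _ v y v).2, (e1 0 _ v y x).2, hv0, map_mul,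
      hconj]
    ring
  have key : (∀ x y, h ((Cfsg.unitaryTransvection n q v c).mulVec x)
      ((Cfsg.unitaryTransvection n q v c).mulVec y) = h x y) ↔ c + σ c = 0 := by
    simp only [act, expand]
    constructor
    · intro H
      obtain ⟨i, hi⟩ := Function.ne_iff.1 hv
      have := H (Pi.single i 1) (Pi.single i 1)
      simp [hdef, Pi.single_apply] at this
      exact (this.resolve_right (by simpa using hi))
    · intro H x y
      simp [H]
  rw [key, hσ]
  constructor
  · intro H
    rcases eq_or_ne c 0 with hc | hc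
    · exact Or.inl hc
    · refine Or.inr (mul_right_cancel₀ hc ?_)
      rw [← pow_succ, Nat.sub_add_cancel (by omega)]
      linear_combination H
  · rintro (rfl | H)
    · simp [zero_pow (show q ≠ 0 by omega)]
    · rw [show q = q - 1 + 1 by omega, pow_succ, H]
      ring

end Cfsg.Agent.S0779
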