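import Cfsg.Statements.S0783
import Mathlib
import Cfsg.Agent.Lib.Classical.HermOrder
-- import your own Cfsg.Agent.* helpers here

set_option autoImplicit false
open Cfsg

namespace Cfsg.Agent.S0783

/-- PGU_n(q)/PSU_n(q) is cyclic of order (n, q+1): for n ≥ 2 and |F| = q² there is a surjective homomorphism from GU_n(q) onto the cyclic group of order gcd(n, q + 1) whose kernel is generated by the determinant-one elements together with the centre. -/
theorem result {F : Type*} [Field F] [Fintype F] {q : ℕ} (hF : Fintype.card F = q ^ 2) (n : ℕ) (hn : 2 ≤ n) : ∃ φ : ↥(Cfsg.GU n F q) →* Multiplicative (ZMod (Nat.gcd n (q + 1))), Function.Surjective φ ∧ φ.ker = (Matrix.GeneralLinearGroup.det : Matrix.GeneralLinearGroup (Fin n) F →* Fˣ).ker.subgroupOf (Cfsg.GU n F q) ⊔ Subgroup.center ↥(Cfsg.GU n F q) := by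
  classical
  have hq := CfsgLib.Classical.two_le_q hF
  set d := Nat.gcd n (q + 1) with hd
  obtain ⟨m, hm⟩ : d ∣ q + 1 := Nat.gcd_dvd_right _ _
  let μ : Subgroup Fˣ := (powMonoidHom (q + 1) : Fˣ →* Fˣ).ker
  have hμ : Nat.card μ = q + 1 := by
    rw [IsCyclic.card_powMonoidHom_ker, Nat.card_units, Nat.card_eq_fintype_card, hF,
      show q ^ 2 - 1 = (q + 1) * (q - 1) by rw [← Nat.sq_sub_sq, one_pow],
      Nat.gcd_eq_right (Dvd.intro _ rfl)]
  let f : Cfsg.GU n F q →* μ := (CfsgLib.Classical.guDet n F q).codRestrict μ fun x => by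
    change _ ∈ (powMonoidHom (q + 1) : Fˣ →* Fˣ).ker
    rw [← CfsgLib.Classical.guDet_range hF (show 1 ≤ n by omega)]
    exact ⟨x, rfl⟩
  have hf : Function.Surjective f := fun u => by
    obtain ⟨x, hx⟩ : (u : Fˣ) ∈ (CfsgLib.Classical.guDet n F q).range := by
      rw [CfsgLib.Classical.guDet_range hF (show 1 ≤ n by omega)]
      exact u.2
    exact ⟨x, Subtype.ext hx⟩
  have hd0 : 0 < d := Nat.gcd_pos_of_pos_right _ (by omega)
  have hm0 : 0 < m := Nat.pos_of_ne_zero (fun h => by simp [h] at hm)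
  let g : μ →* μ := powMonoidHom m
  have hgk : Nat.card g.ker = m := by
    rw [IsCyclic.card_powMonoidHom_ker, hμ, hm, Nat.gcd_eq_right (Dvd.intro_left _ rfl)]
  have hgr : Nat.card g.range = d := by
    have h := Subgroup.index_mul_card g.ker
    rw [Subgroup.index_ker, hgk, hμ, hm] at h
    exact Nat.eq_of_mul_eq_mul_right hm0 h
  have hnth : (powMonoidHom n : μ →* μ).range = g.ker := by
    refine Subgroup.eq_of_le_of_card_ge ?_ ?_
    · rintro _ ⟨c, rfl⟩
      obtain ⟨k, hk⟩ : d ∣ n := Nat.gcd_dvd_left _ _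
      refine MonoidHom.mem_ker.2 ?_
      show (c ^ n) ^ m = 1
      rw [hk, ← pow_mul, mul_right_comm, ← hm, ← hμ, pow_mul, pow_card_eq_one', one_pow]
    · have h := Subgroup.index_mul_card (powMonoidHom n : μ →* μ).ker
      rw [Subgroup.index_ker, IsCyclic.card_powMonoidHom_ker, hμ, Nat.gcd_comm, ← hd] at h
      rw [hgk]
      refine le_of_eq (Nat.eq_of_mul_eq_mul_right hd0 (Eq.trans ?_ h.symm))
      rw [mul_comm, ← hm]
  haveI : Nontrivial F := inferInstance
  let e : g.range ≃* Multiplicative (ZMod d) :=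
    mulEquivOfCyclicCardEq (by rw [hgr, Nat.card_congr Multiplicative.toAdd, Nat.card_zmod])
  let φ := e.toMonoidHom.comp (g.rangeRestrict.comp f)
  have hker : ∀ x, x ∈ φ.ker ↔ f x ∈ g.ker := fun x => by
    rw [MonoidHom.mem_ker, MonoidHom.mem_ker]
    change e (g.rangeRestrict (f x)) = 1 ↔ g (f x) = 1
    rw [EmbeddingLike.map_eq_one_iff, ← Subtype.coe_inj]
    rfl
  refine ⟨φ, e.surjective.comp (g.rangeRestrict_surjective.comp hf), le_antisymm (fun x hx => ?_) ?_⟩
  · have h := (hker x).1 hx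
    rw [← hnth] at h
    obtain ⟨c, hc⟩ := h
    obtain ⟨z, hz⟩ := CfsgLib.Classical.exists_gu_diag (n := n) hF (fun _ => ((c : Fˣ) : F))
      (fun _ => by simpa using congrArg Units.val (MonoidHom.mem_ker.1 c.2))
    have hzc : z ∈ Subgroup.center (Cfsg.GU n F q) := Subgroup.mem_center_iff.2 fun y =>
      Subtype.ext (Units.ext (by
        rw [Subgroup.coe_mul, Subgroup.coe_mul, Units.val_mul, Units.val_mul, hz,
          ← Matrix.scalar_apply]
        exact (Matrix.scalar_commute _ (Commute.all _) _).symm))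
    rw [show x = x * z⁻¹ * z by group]
    refine Subgroup.mul_mem_sup ?_ hzc
    refine MonoidHom.mem_ker.2 ?_
    change CfsgLib.Classical.guDet n F q (x * z⁻¹) = 1
    have hdx : CfsgLib.Classical.guDet n F q x = (c : Fˣ) ^ n := by
      simpa [f] using (congrArg Subtype.val hc).symm
    have hdz : CfsgLib.Classical.guDet n F q z = (c : Fˣ) ^ n := Units.ext (by
      simp [CfsgLib.Classical.guDet, hz])
    rw [map_mul, map_inv, hdx, hdz, mul_inv_cancel]
  · rw [sup_le_iff]
    refine ⟨fun x hx => (hker x).2 ?_, fun z hz => (hker z).2 ?_⟩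
    · have : f x = 1 := Subtype.ext (MonoidHom.mem_ker.1 (Subgroup.mem_subgroupOf.1 hx))
      rw [this]
      exact one_mem _
    · have hM := CfsgLib.Classical.eq_scalar_of_commute hF hn
        ((z : Matrix.GeneralLinearGroup (Fin n) F) : Matrix (Fin n) (Fin n) F) fun s => by
        have hs := Subgroup.mem_center_iff.1 hz ⟨Matrix.SpecialLinearGroup.toGL s.1, s.2⟩
        exact congrArg (fun y : Cfsg.GU n F q =>
          ((y : Matrix.GeneralLinearGroup (Fin n) F) : Matrix (Fin n) (Fin n) F)) hs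
      set c := ((z : Matrix.GeneralLinearGroup (Fin n) F) : Matrix (Fin n) (Fin n) F)
        ⟨0, by omega⟩ ⟨0, by omega⟩
      have hc : c ^ (q + 1) = 1 := by
        have h := z.2 (Pi.single ⟨0, by omega⟩ 1) (Pi.single ⟨0, by omega⟩ 1)
        rw [Units.coeHom_apply, hM, CfsgLib.Classical.hermForm_single_one (by omega)] at h
        simpa [Cfsg.hermForm, Pi.single_apply, ← pow_succ', ite_pow, mul_ite,
          zero_pow (show q ≠ 0 by omega)] using h
      have hdz : ((CfsgLib.Classical.guDet n F q z : Fˣ) : F) = c ^ n := by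
        have h := congrArg Matrix.det hM
        simpa [CfsgLib.Classical.guDet] using h
      refine MonoidHom.mem_ker.2 (Subtype.ext (Units.ext ?_))
      simp [g, f, hdz]
      obtain ⟨k, hk⟩ : d ∣ n := Nat.gcd_dvd_left _ _
      rw [hk, ← pow_mul, mul_right_comm, ← hm, pow_mul, hc, one_pow]

end Cfsg.Agent.S0783
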