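import Cfsg.Statements.S0787
import Mathlib
import Cfsg.Agent.Lib.Classical.QuadSubgroups
-- import your own Cfsg.Agent.* helpers here

set_option autoImplicit false
open Cfsg

namespace Cfsg.Agent.S0787

/-- Existence and uniqueness of Ω: if F is finite, n ≥ 2, Q is a quadratic form on F^n with non-degenerate polar form and (|F|, n) ≠ (2, 4), then the group of isometries of determinant one has a unique subgroup of index 2. -/
theorem result {F : Type*} [Field F] [Fintype F] {n : ℕ} (hn : 2 ≤ n) (Q : QuadraticForm F (Fin n → F)) (hQ : (QuadraticMap.polarBilin Q).Nondegenerate) (h : Fintype.card F ≠ 2 ∨ n ≠ 4) : ∃! H : Subgroup ↥(Cfsg.specialIsometryGroup F ⇑Q), H.index = 2 := by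
  have hQ' := CfsgLib.Classical.polarNondeg_of_nondegenerate hQ
  by_cases h2 : (2 : F) = 0
  · haveI : CharP F 2 := CharTwo.of_one_ne_zero_of_two_eq_zero one_ne_zero h2
    have hΩ : (Cfsg.Omega F ⇑Q).index = 2 :=
      CfsgLib.Classical.index_Omega_two Q hQ' (by simpa using hn) (by simpa using h)
    have htop : Cfsg.specialIsometryGroup F ⇑Q = ⊤ := eq_top_iff.2 fun g _ => by
      rw [Cfsg.specialIsometryGroup, MonoidHom.mem_ker, Units.ext_iff]
      rcases CfsgLib.Classical.det_isometry Q hQ g with hd | hd
      · simpa using hd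
      · rw [CharTwo.neg_eq] at hd
        simpa using hd
    refine ⟨(Cfsg.Omega F ⇑Q).subgroupOf (Cfsg.specialIsometryGroup F ⇑Q), ?_, fun H hH => ?_⟩
    · change (Cfsg.Omega F ⇑Q).relIndex _ = 2
      rw [htop, Subgroup.relIndex_top_right, hΩ]
    · have hK : (H.map (Cfsg.specialIsometryGroup F ⇑Q).subtype).index = 2 := by
        rw [Subgroup.index_map_subtype, hH, htop, Subgroup.index_top]
      have hle : Cfsg.Omega F ⇑Q ≤ _ := CfsgLib.Classical.commutator_le_of_index_two hK
      have hmul := Subgroup.relIndex_mul_index hle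
      rw [hK, hΩ] at hmul
      have heq : H.map (Cfsg.specialIsometryGroup F ⇑Q).subtype = Cfsg.Omega F ⇑Q :=
        le_antisymm (Subgroup.relIndex_eq_one.1 (by omega)) hle
      rw [← heq, ← Subgroup.comap_subtype, Subgroup.comap_map_eq_self_of_injective (Subgroup.subtype_injective _)]
  · refine CfsgLib.Classical.unique_index_two_of_pairs _ _
      (CfsgLib.Classical.isometryGroup_closure_reflect Q hQ' (by simpa using h)) ?_ ?_ ?_
      (CfsgLib.Classical.index_Omega_odd Q h2 hQ' (by simpa using hn))
    · rintro r ⟨v, hv, hr⟩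
      rw [show r = CfsgLib.Classical.reflect Q v hv from
        Subtype.ext (Units.ext (hr.trans (CfsgLib.Classical.reflect_coe Q v hv).symm))]
      exact CfsgLib.Classical.reflect_mul_self Q v hv
    · rintro r ⟨v, hv, hr⟩ r' ⟨w, hw, hr'⟩
      rw [Cfsg.specialIsometryGroup, MonoidHom.mem_ker, Units.ext_iff]
      simp [Matrix.det_mul, hr, hr', CfsgLib.Classical.det_reflectionMatrix Q hv,
        CfsgLib.Classical.det_reflectionMatrix Q hw]
    · obtain ⟨v, hv⟩ := CfsgLib.Classical.exists_value Q hQ' (by simpa using hn) (one_ne_zero (α := F))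
      have hv' : Q v ≠ 0 := hv ▸ one_ne_zero
      rw [Subgroup.index_eq_two_iff]
      refine ⟨CfsgLib.Classical.reflect Q v hv', fun b => ?_⟩
      simp only [Cfsg.specialIsometryGroup, MonoidHom.mem_ker, Units.ext_iff, MonoidHom.coe_comp,
        Function.comp_apply, Subgroup.coe_subtype, Subgroup.coe_mul, map_mul, Units.val_mul, Units.val_one,
        Matrix.GeneralLinearGroup.val_det_apply, CfsgLib.Classical.reflect_coe,
        CfsgLib.Classical.det_reflectionMatrix Q hv']
      rcases CfsgLib.Classical.det_isometry Q hQ b with hd | hd <;> rw [hd] <;>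
        simp [Xor, neg_eq_iff_add_eq_zero, one_add_one_eq_two, h2]

end Cfsg.Agent.S0787
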