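import Cfsg.Statements.S0793
import Mathlib
import Cfsg.Agent.Lib.Classical.OrthBasic
-- import your own Cfsg.Agent.* helpers here

set_option autoImplicit false
open Cfsg

namespace Cfsg.Agent.S0793

/-- Root elements: if Q(u) = Q(v) = 0 and f(u, v) = 0 (f the polar form), then for every c the Siegel matrix T_(u,v)(c) preserves Q, fixes u and v, and T(c) T(d) = T(c + d). -/
theorem result {F : Type*} [Field F] {n : ℕ} (Q : QuadraticForm F (Fin n → F)) (u v : Fin n → F) (hu : Q u = 0) (hv : Q v = 0) (huv : QuadraticMap.polar ⇑Q u v = 0) : (∀ c x, Q ((Cfsg.siegelMatrix ⇑Q u v c).mulVec x) = Q x) ∧ (∀ c, (Cfsg.siegelMatrix ⇑Q u v c).mulVec u = u ∧ (Cfsg.siegelMatrix ⇑Q u v c).mulVec v = v) ∧ ∀ c d, Cfsg.siegelMatrix ⇑Q u v c * Cfsg.siegelMatrix ⇑Q u v d = Cfsg.siegelMatrix ⇑Q u v (c + d) := by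
  have act : ∀ (c : F) (x : Fin n → F), (Cfsg.siegelMatrix ⇑Q u v c).mulVec x =
      x + (c * QuadraticMap.polar Q u x) • v + (-(c * QuadraticMap.polar Q v x)) • u := by
    intro c x
    rw [Cfsg.siegelMatrix, Matrix.add_mulVec, Matrix.one_mulVec, Matrix.smul_mulVec,
      Matrix.sub_mulVec, Matrix.vecMulVec_mulVec, Matrix.vecMulVec_mulVec, op_smul_eq_smul,
      op_smul_eq_smul, CfsgLib.Classical.polarVec_dotProduct, CfsgLib.Classical.polarVec_dotProduct]
    module
  have huu : QuadraticMap.polar Q u u = 0 := by simp [CfsgLib.Classical.qf_polar_self, hu]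
  have hvv : QuadraticMap.polar Q v v = 0 := by simp [CfsgLib.Classical.qf_polar_self, hv]
  have hvu : QuadraticMap.polar Q v u = 0 := by rw [CfsgLib.Classical.qf_polar_comm, huv]
  refine ⟨?_, ?_, ?_⟩
  · intro c x
    rw [act, CfsgLib.Classical.qf_map_add_smul, CfsgLib.Classical.qf_map_add_smul, hu, hv,
      QuadraticMap.polar_add_left, QuadraticMap.polar_smul_left, hvu,
      CfsgLib.Classical.qf_polar_comm Q x v, CfsgLib.Classical.qf_polar_comm Q x u]
    simp only [smul_eq_mul]
    ring
  · intro c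
    constructor
    · rw [act, huu, hvu]; simp
    · rw [act, huv, hvv]; simp
  · intro c d
    refine Matrix.ext_of_mulVec_single fun i => ?_
    rw [← Matrix.mulVec_mulVec]
    simp only [act]
    simp only [QuadraticMap.polar_add_right, QuadraticMap.polar_smul_right, huu, huv, hvv, hvu,
      smul_eq_mul]
    module

end Cfsg.Agent.S0793
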