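import Cfsg.Statements.S0796
import Mathlib
-- import your own Cfsg.Agent.* helpers here

set_option autoImplicit false
open Cfsg

namespace Cfsg.Agent.S0796

/-- If G is finite and acts faithfully and primitively on X, H is the stabiliser of a point, A is a normal subgroup of H whose normal closure in G is G, then for every non-trivial normal subgroup K of G the quotient G ⧸ K is isomorphic to A ⧸ B for some normal subgroup B of A. -/
theorem result {G X : Type*} [Group G] [Finite G] [MulAction G X] [FaithfulSMul G X] (hprim : MulAction.IsPreprimitive G X) (x : X) (A : Subgroup G) (hA : A ≤ MulAction.stabilizer G x) (hAn : (A.subgroupOf (MulAction.stabilizer G x)).Normal) (hgen : Subgroup.normalClosure (A : Set G) = ⊤) (K : Subgroup G) [K.Normal] (hK : K ≠ ⊥) : ∃ (B : Subgroup A) (_ : B.Normal), Nonempty (G ⧸ K ≃* A ⧸ B) := by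
  haveI := hprim
  set S := MulAction.stabilizer G x with hS
  have hbot : ¬ K ≤ S := by
    intro hle
    apply hK
    rw [Subgroup.eq_bot_iff_forall]
    intro k hk
    apply FaithfulSMul.eq_of_smul_eq_smul (α := X)
    intro y
    obtain ⟨g, rfl⟩ := MulAction.exists_smul_eq G x y
    have hmem : g⁻¹ * k * g ∈ K := by
      simpa using Subgroup.Normal.conj_mem inferInstance k hk g⁻¹
    have := hle hmem
    rw [hS, MulAction.mem_stabilizer_iff, mul_smul, mul_smul, inv_smul_eq_iff] at this
    rw [one_smul]
    exact this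
  have hfix : ¬ (MulAction.fixedPoints K X = Set.univ) := by
    intro h
    apply hbot
    intro k hk
    have : x ∈ MulAction.fixedPoints K X := h ▸ Set.mem_univ x
    exact this ⟨k, hk⟩
  have hKt : MulAction.IsPretransitive K X :=
    MulAction.IsQuasiPreprimitive.isPretransitive_of_normal hfix
  have hsub : Subgroup.normalClosure (A : Set G) ≤ A ⊔ K := by
    rw [Subgroup.normalClosure, Subgroup.closure_le]
    intro y hy
    rw [Group.mem_conjugatesOfSet_iff] at hy
    obtain ⟨a, ha, hc⟩ := hy
    obtain ⟨g, hg⟩ := isConj_iff.1 hc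
    obtain ⟨k, hk⟩ := MulAction.exists_smul_eq K x (g • x)
    have hkg : (k : G)⁻¹ * g ∈ S := by
      rw [hS, MulAction.mem_stabilizer_iff, mul_smul, ← hk, Subgroup.smul_def, inv_smul_smul]
    have hb : ((k : G)⁻¹ * g) * a * ((k : G)⁻¹ * g)⁻¹ ∈ A := by
      have := hAn.conj_mem ⟨a, hA ha⟩ (Subgroup.mem_subgroupOf.2 ha) ⟨_, hkg⟩
      simpa [Subgroup.mem_subgroupOf] using this
    have hy' : y = (k : G) * (((k : G)⁻¹ * g) * a * ((k : G)⁻¹ * g)⁻¹) * (k : G)⁻¹ := by
      rw [← hg]
      group
    rw [hy']
    exact mul_mem (mul_mem (Subgroup.mem_sup_right k.2) (Subgroup.mem_sup_left hb))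
      (inv_mem (Subgroup.mem_sup_right k.2))
  rw [hgen] at hsub
  let φ : A →* G ⧸ K := (QuotientGroup.mk' K).comp A.subtype
  have hφ : Function.Surjective φ := by
    rw [← MonoidHom.range_eq_top]
    rw [MonoidHom.range_comp, Subgroup.range_subtype]
    rw [← Subgroup.map_top_of_surjective (QuotientGroup.mk' K) (QuotientGroup.mk'_surjective K),
      ← top_le_iff.1 hsub, Subgroup.map_sup, QuotientGroup.map_mk'_self, sup_bot_eq]
  exact ⟨φ.ker, inferInstance, ⟨(QuotientGroup.quotientKerEquivOfSurjective φ hφ).symm⟩⟩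

end Cfsg.Agent.S0796
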