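import Cfsg.Statements.S0798
import Mathlib
import Cfsg.Agent.Lib.Classical.QuadSubgroups
-- import your own Cfsg.Agent.* helpers here

set_option autoImplicit false
open Cfsg

namespace Cfsg.Agent.S0798

/-- For q odd, n ≥ 2 even, Q with non-degenerate polar form (n, |F|) ≠ (4, 3), and a fixed c ≠ 0: the subgroup of the isometry group generated by the reflections r_v with Q(v) ∈ c·(F^×)² has index 2. -/
theorem result {F : Type*} [Field F] [Fintype F] (h2 : (2 : F) ≠ 0) {n : ℕ} (hn : 2 ≤ n) (heven : Even n) (Q : QuadraticForm F (Fin n → F)) (hQ : (QuadraticMap.polarBilin Q).Nondegenerate) (h43 : ¬ (n = 4 ∧ Fintype.card F = 3)) (c : F) (hc : c ≠ 0) : (Subgroup.closure {g : ↥(Cfsg.isometryGroup F ⇑Q) | ∃ (v : Fin n → F) (t : F), t ≠ 0 ∧ Q v = c * t ^ 2 ∧ ((g : Matrix.GeneralLinearGroup (Fin n) F) : Matrix (Fin n) (Fin n) F) = Cfsg.reflectionMatrix ⇑Q v}).index = 2 := by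
  have hQ' := CfsgLib.Classical.polarNondeg_of_nondegenerate hQ
  have h := CfsgLib.Classical.index_class_refl Q h2 hQ' (by simpa using heven) (by simpa using hn)
    (by simpa using h43) hc
  refine Eq.trans ?_ h
  rw [← Subgroup.index_map_of_bijective (f := (CfsgLib.Classical.isoEquiv Q).toMonoidHom)
    (CfsgLib.Classical.isoEquiv Q).bijective, MonoidHom.map_closure]
  refine congrArg (fun S => (Subgroup.closure S).index) (Set.ext fun g => ?_)
  constructor
  · rintro ⟨x, ⟨v, t, ht, hvt, hx⟩, rfl⟩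
    have hv : Q v ≠ 0 := hvt ▸ mul_ne_zero hc (pow_ne_zero _ ht)
    exact ⟨v, hv, ⟨c * t, by rw [hvt]; ring⟩, CfsgLib.Classical.isoEquiv_reflect Q hv hx⟩
  · rintro ⟨v, hv, ⟨s, hs⟩, rfl⟩
    have hs0 : s ≠ 0 := by
      rintro rfl
      exact mul_ne_zero hv hc (by rw [hs, mul_zero])
    refine ⟨CfsgLib.Classical.reflect Q v hv, ⟨v, s / c, div_ne_zero hs0 hc, ?_, CfsgLib.Classical.reflect_coe Q v hv⟩,
      CfsgLib.Classical.isoEquiv_reflect_self Q hv⟩
    field_simp
    linear_combination hs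

end Cfsg.Agent.S0798
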