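import Cfsg.Statements.S0809
import Mathlib
import Cfsg.Agent.Lib.Classical.SL2Klein
-- import your own Cfsg.Agent.* helpers here

set_option autoImplicit false
open Cfsg

namespace Cfsg.Agent.S0809

/-- In SL_2(q), q odd: any two subgroups of order 4 are conjugate, and the normaliser of a subgroup of order 4 has order 2(q − 1) if q ≡ 1 (mod 4) and 2(q + 1) if q ≡ 3 (mod 4); consequently all involutions of PSL_2(q) are conjugate. -/
theorem result {F : Type*} [Field F] [Fintype F] {q : ℕ} (hF : Fintype.card F = q) (hodd : Odd q) (A : Subgroup (Matrix.SpecialLinearGroup (Fin 2) F)) (hA : Nat.card A = 4) : (∀ B : Subgroup (Matrix.SpecialLinearGroup (Fin 2) F), Nat.card B = 4 → ∃ g : Matrix.SpecialLinearGroup (Fin 2) F, B = A.map (MulAut.conj g).toMonoidHom) ∧ (q % 4 = 1 → Nat.card ↥(Subgroup.normalizer (A : Set (Matrix.SpecialLinearGroup (Fin 2) F))) = 2 * (q - 1)) ∧ (q % 4 = 3 → Nat.card ↥(Subgroup.normalizer (A : Set (Matrix.SpecialLinearGroup (Fin 2) F))) = 2 * (q + 1)) ∧ (∀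 x y : Matrix.ProjectiveSpecialLinearGroup (Fin 2) F, orderOf x = 2 → orderOf y = 2 → IsConj x y) := by
  subst hF
  have h2 := CfsgLib.Classical.two_ne_zero_of_odd_card hodd
  refine ⟨fun B hB => CfsgLib.Classical.SL2Q.order_four_conj h2 hA hB, fun h1 => ?_, fun h3 => ?_,
    fun x y hx hy => CfsgLib.Fusion.PSL2.isConj_of_orderOf_two h2 x y hx hy⟩
  · rw [CfsgLib.Classical.SL2Q.card_normalizer_order_four h2 hA, CfsgLib.Classical.SL2Q.card_torus_eq h2,
      if_neg (by omega)]
  · rw [CfsgLib.Classical.SL2Q.card_normalizer_order_four h2 hA, CfsgLib.Classical.SL2Q.card_torus_eq h2,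
      if_pos h3]

end Cfsg.Agent.S0809
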