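import Cfsg.Statements.S2605
import Cfsg.Agent.Lib.KnownSimple.POAut.OutMinus

set_option autoImplicit false
open Cfsg CfsgLib.Classical CfsgLib.POAut

namespace Cfsg.Agent.S2605

/-- Outer automorphism group of PΩ⁻_2m(q), m ≥ 4, q = 2^f: cyclic of order 2f, generated by a semilinear map inducing the Frobenius automorphism of the field (its f-th power is a graph automorphism, an orthogonal transvection). -/
theorem result {F : Type*} [Field F] [Fintype F] {f m : ℕ} (hf : 1 ≤ f) (hF : Fintype.card F = 2 ^ f) (hm : 4 ≤ m) (a b : F) (hab : ∀ z₁ z₂ : F, z₁ ^ 2 + a * z₁ * z₂ + b * z₂ ^ 2 = 0 → z₁ = 0 ∧ z₂ = 0) : IsCyclic (Cfsg.Out (Cfsg.POmega F (Cfsg.quadFormMinus (m - 1) F a b))) ∧ Nat.card (Cfsg.Out (Cfsg.POmega F (Cfsg.quadFormMinus (m - 1) F a b))) = 2 * f := by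
  have hab' : BinAniso a b := hab
  haveI := qe_fact hab'
  have hQ := good_qMinus (F := F) (show 3 ≤ m - 1 by omega) hab'
  haveI : Fact (Nat.Prime 2) := ⟨Nat.prime_two⟩
  have h2 : ringChar F = 2 := by
    haveI : CharP F 2 := charP_of_card_eq_prime_pow hF
    exact ringChar.eq F 2
  obtain ⟨e₁⟩ := out_equiv (coe_qExt_qBin (m - 1) a b) hQ
  obtain ⟨e₂⟩ := out_minus_two hQ h2
  obtain ⟨e₃⟩ := CfsgLib.PSLAut.exists_ringAut_equiv (F := QE a b) (p := 2) (f := 2 * f) (by
    rw [← Nat.card_eq_fintype_card, qe_natCard, Nat.card_eq_fintype_card, hF, ← pow_mul, mul_comm])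
  let e := (e₁.trans e₂).trans e₃
  haveI : NeZero (2 * f) := ⟨by omega⟩
  exact ⟨isCyclic_of_surjective e.symm e.symm.surjective, by
    rw [Nat.card_congr e.toEquiv, Nat.card_eq_fintype_card, Fintype.card_multiplicative, ZMod.card]⟩

end Cfsg.Agent.S2605
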