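import Cfsg.Statements.S2606
import Cfsg.Agent.Lib.KnownSimple.POAut.OutMinus

set_option autoImplicit false
open Cfsg CfsgLib.Classical CfsgLib.POAut

namespace Cfsg.Agent.S2606

/-- Outer automorphism group of PΩ⁻_2m(q), m ≥ 4, q = p^f odd: it is dihedral of order 8 times cyclic of order f when q ≡ 3 (mod 4) and m is odd, and otherwise the direct product of a group of order 2 with a cyclic group of order 2f. -/
theorem result {F : Type*} [Field F] [Fintype F] {p f m : ℕ} [Fact p.Prime] (hf : 1 ≤ f) (hF : Fintype.card F = p ^ f) (hp : p ≠ 2) (hm : 4 ≤ m) (a b : F) (hab : ∀ z₁ z₂ : F, z₁ ^ 2 + a * z₁ * z₂ + b * z₂ ^ 2 = 0 → z₁ = 0 ∧ z₂ = 0) : if p ^ f % 4 = 3 ∧ Odd m then Nonempty (Cfsg.Out (Cfsg.POmega F (Cfsg.quadFormMinus (m - 1) F a b)) ≃* DihedralGroup 4 × Multiplicative (ZMod f)) else Nonempty (Cfsg.Out (Cfsg.POmega F (Cfsg.quadFormMinus (m - 1) F a b)) ≃* Multiplicative (ZMod 2 × ZMod (2 * f))) := by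
  have hab' : BinAniso a b := hab
  haveI := qe_fact hab'
  have hQ := good_qMinus (F := F) (show 3 ≤ m - 1 by omega) hab'
  obtain ⟨e₁⟩ := out_equiv (coe_qExt_qBin (m - 1) a b) hQ
  have h2 : ringChar F ≠ 2 := fun hc => by
    rw [FiniteField.even_card_iff_char_two, hF] at hc
    have := ((Fact.out : p.Prime).odd_of_ne_two hp).pow (n := f)
    rw [Nat.odd_iff] at this
    omega
  have hcase : (p ^ f % 4 = 3 ∧ Odd m) ↔ (Fintype.card F % 4 = 3 ∧ Even (m - 1)) := by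
    rw [hF, Nat.even_sub (show 1 ≤ m by omega)]
    simp
  split_ifs with h
  · obtain ⟨e₂⟩ := out_minus_dihedral hF hQ (hcase.1 h).1 (hcase.1 h).2
    exact ⟨e₁.trans e₂⟩
  · obtain ⟨e₂⟩ := out_minus_odd hQ h2 (fun h' => h (hcase.2 h'))
    obtain ⟨e₃⟩ := CfsgLib.PSLAut.exists_ringAut_equiv (F := QE a b) (p := p) (f := 2 * f) (by
      rw [← Nat.card_eq_fintype_card, qe_natCard, Nat.card_eq_fintype_card, hF, ← pow_mul, mul_comm])
    exact ⟨((e₁.trans e₂).trans ((MulEquiv.refl _).prodCongr e₃)).trans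
      (MulEquiv.prodMultiplicative (ZMod 2) (ZMod (2 * f))).symm⟩

end Cfsg.Agent.S2606
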