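import Cfsg.Statements.S0818
import Mathlib
import Cfsg.Agent.S2605
import Cfsg.Agent.S2606
import Cfsg.Agent.Lib.Classical.AutOrder.POmega
-- import your own Cfsg.Agent.* helpers here

set_option autoImplicit false
open Cfsg

namespace Cfsg.Agent.S0818

/-- |Aut(PΩ⁻_2m(q))| for q = p^f, m ≥ 4 (form quadFormMinus (m−1) with anisotropic binary part): |PΩ⁻_2m(q)| times f, times 2 if p = 2, and times 4 or 8 if p is odd according as m(q−1)/2 is even or odd. -/
theorem result {F : Type*} [Field F] [Fintype F] (p f : ℕ) [Fact p.Prime] (hf : 1 ≤ f) (hF : Fintype.card F = p ^ f) (m : ℕ) (hm : 4 ≤ m) (a b : F) (hab : ∀ z₁ z₂ : F, z₁ ^ 2 + a * z₁ * z₂ + b * z₂ ^ 2 = 0 → z₁ = 0 ∧ z₂ = 0) : Nat.card (MulAut (Cfsg.POmega F (Cfsg.quadFormMinus (m - 1) F a b))) = (if p = 2 then 2 else (if Even (m * (p ^ f - 1) / 2) then 4 else 8)) * f * Nat.card (Cfsg.POmega F (Cfsg.quadFormMinus (m - 1) F a b)) := by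
  have hab' : CfsgLib.Classical.BinAniso a b := hab
  rw [CfsgLib.Classical.AutOrder.card_mulAut_POmega (CfsgLib.Classical.coe_qExt_qBin (m - 1) a b)
    (CfsgLib.POAut.good_qMinus (F := F) (show 3 ≤ m - 1 by omega) hab')]
  congr 1
  by_cases hp : p = 2
  · subst hp
    rw [if_pos rfl, (Cfsg.Agent.S2605.result hf hF hm a b hab).2]
  rw [if_neg hp]
  haveI : NeZero f := ⟨by omega⟩
  have hq : p ^ f % 2 = 1 := Nat.odd_iff.1 ((Fact.out : p.Prime).odd_of_ne_two hp).pow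
  have hdiv : m * (p ^ f - 1) / 2 = m * ((p ^ f - 1) / 2) := Nat.mul_div_assoc m (by omega)
  have hev : Even (m * (p ^ f - 1) / 2) ↔ ¬ (p ^ f % 4 = 3 ∧ Odd m) := by
    rw [hdiv, Nat.even_mul, Nat.even_iff, Nat.even_iff, Nat.odd_iff]
    omega
  have h := Cfsg.Agent.S2606.result hf hF hp hm a b hab
  by_cases hc : p ^ f % 4 = 3 ∧ Odd m
  · rw [if_neg (fun he => hev.1 he hc)]
    rw [if_pos hc] at h
    obtain ⟨e⟩ := h
    rw [Nat.card_congr e.toEquiv, Nat.card_prod, DihedralGroup.nat_card, Nat.card_congr Multiplicative.toAdd,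
      Nat.card_zmod]
  · rw [if_pos (hev.2 hc)]
    rw [if_neg hc] at h
    obtain ⟨e⟩ := h
    haveI : NeZero (2 * f) := ⟨by omega⟩
    rw [Nat.card_congr e.toEquiv, Nat.card_congr Multiplicative.toAdd, Nat.card_prod, Nat.card_zmod, Nat.card_zmod]
    ring

end Cfsg.Agent.S0818
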