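import Cfsg.Statements.S0821
import Mathlib
import Cfsg.Agent.Lib.Classical.SpInvolutions
import Cfsg.Agent.Lib.Classical.OmegaOdd

set_option autoImplicit false
open Cfsg

namespace Cfsg.Agent.S0821

open CfsgLib.Classical in
theorem noIso {F : Type*} [Field F] [Fintype F] (h2 : (2 : F) ≠ 0) (m : ℕ) (hm : 3 ≤ m)
    (Q : (OddI m → F) → F) (hQ : Q = ⇑(qOdd m F)) :
    IsEmpty (Cfsg.PSp m F ≃* Cfsg.POmega F Q) := by
  subst hQ
  refine ⟨fun e => ?_⟩
  have hinj : Function.Injective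
      (QuotientGroup.mk' (Subgroup.center (Cfsg.Omega F ⇑(qOdd m F)))) := by
    rw [← MonoidHom.ker_eq_bot_iff, QuotientGroup.ker_mk', center_Omega_qOdd hm h2]
  set π := QuotientGroup.mk' (Subgroup.center (Cfsg.Omega F ⇑(qOdd m F)))
  let g : Fin m → Cfsg.Omega F ⇑(qOdd m F) := fun k =>
    ⟨oddInv m F ((k : ℕ) + 1), oddInv_mem_Omega h2 k.2⟩
  have hg2 : ∀ k, g k * g k = 1 := fun k => Subtype.ext (oddInv_mul_self h2 k.2)
  have hg1 : ∀ k, g k ≠ 1 := by
    intro k hk
    have h := isoRank_oddInv (F := F) h2 (show (k : ℕ) + 1 ≤ m from k.2)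
    have he : oddInv m F ((k : ℕ) + 1) = 1 := congrArg Subtype.val hk
    rw [he] at h
    simp [isoRank] at h
  have hx : ∀ k, e.symm (π (g k)) * e.symm (π (g k)) = 1 := fun k => by
    rw [← map_mul, ← map_mul, hg2, map_one, map_one]
  have hx1 : ∀ k, e.symm (π (g k)) ≠ 1 := fun k h => hg1 k (hinj (by
    rw [map_one]
    exact e.symm.map_eq_one_iff.1 h))
  choose c hc using fun k => exists_conj_pspRep h2 (hx k) (hx1 k)
  obtain ⟨k, l, hkl, hne⟩ : ∃ k l, c k = c l ∧ k ≠ l := by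
    by_contra hcon
    push Not at hcon
    have hci : Function.Injective c := fun a b h => hcon a b h
    have := Fintype.card_le_of_injective c hci
    simp at this
    omega
  have hconj : IsConj (e.symm (π (g k))) (e.symm (π (g l))) :=
    (hc k).symm.trans (hkl ▸ hc l)
  have hconj' : IsConj (π (g k)) (π (g l)) := by
    simpa using e.toMonoidHom.map_isConj hconj
  obtain ⟨y, hy⟩ := isConj_iff.1 hconj'
  obtain ⟨d, rfl⟩ := QuotientGroup.mk'_surjective _ y
  rw [← map_inv, ← map_mul, ← map_mul] at hy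
  have hO : IsConj (g k : Cfsg.isometryGroup F ⇑(qOdd m F)) (g l) :=
    isConj_iff.2 ⟨d, by exact_mod_cast congrArg Subtype.val (hinj hy)⟩
  have := isoRank_conj hO
  rw [isoRank_oddInv h2 k.2, isoRank_oddInv h2 l.2] at this
  exact hne (Fin.ext (by omega))

/-- For q odd and m ≥ 3, PSp_2m(q) and PΩ_(2m+1)(q) are not isomorphic. -/
theorem result {F : Type*} [Field F] [Fintype F] (hodd : Odd (Fintype.card F)) (m : ℕ) (hm : 3 ≤ m) : IsEmpty (Cfsg.PSp m F ≃* Cfsg.POmega F (Cfsg.quadFormOdd m F)) := by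
  exact noIso (CfsgLib.Classical.two_ne_zero_of_odd_card hodd) m hm _
    (CfsgLib.Classical.coe_qOdd m F).symm

end Cfsg.Agent.S0821
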