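import Cfsg.Statements.S0822
import Mathlib
import Cfsg.Agent.S0279
import Cfsg.Agent.Lib.Classical.SmallIso.UFour
-- import your own Cfsg.Agent.* helpers here

set_option autoImplicit false
open Cfsg

namespace Cfsg.Agent.S0822

/-- PSU_4(2) ≅ PSp_4(3): with |F| = 4 and |K| = 3, the projective special unitary group of the standard Hermitian form on F^4 is isomorphic to PSp_4(K). -/
theorem result {F K : Type*} [Field F] [Fintype F] [Field K] [Fintype K] (hF : Fintype.card F = 4) (hK : Fintype.card K = 3) : Nonempty (Cfsg.PSU 4 F 2 ≃* Cfsg.PSp 2 K) := by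
  obtain ⟨e⟩ := CfsgLib.Classical.SmallIso.UFour.su_four_two hF hK
  have hc : Subgroup.center (Cfsg.SU 4 F 2) = ⊥ := Subgroup.eq_bot_of_card_eq _ (by
    rw [Cfsg.Agent.S0279.result (q := 2) (hF.trans (by norm_num)) 4 (by norm_num)]
    rfl)
  exact ⟨((QuotientGroup.quotientMulEquivOfEq hc).trans QuotientGroup.quotientBot).trans e⟩

end Cfsg.Agent.S0822
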