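import Cfsg.Statements.S0828
import Mathlib
import Cfsg.Agent.Lib.Classical.LineCount
import Cfsg.Agent.Lib.Classical.SpBasic
-- import your own Cfsg.Agent.* helpers here

set_option autoImplicit false
open Cfsg

namespace Cfsg.Agent.S0828

/-- The symplectic generalised quadrangle over a field with q elements: the number of 2-dimensional subspaces of F^4 on which the symplectic form vanishes is (q + 1)(q² + 1), and every non-zero vector lies in exactly q + 1 of them. -/
theorem result {F : Type*} [Field F] [Fintype F] {q : ℕ} (hF : Fintype.card F = q) : Nat.card {W : Submodule F (Fin 2 ⊕ Fin 2 → F) // Module.finrank F W = 2 ∧ ∀ u ∈ W, ∀ v ∈ W, Cfsg.sympForm 2 F u v = 0} = (q + 1) * (q ^ 2 + 1) ∧ ∀ v : Fin 2 ⊕ Fin 2 → F, v ≠ 0 → Nat.card {W : Submodule F (Fin 2 ⊕ Fin 2 → F) // Module.finrank F W = 2 ∧ v ∈ W ∧ ∀ u ∈ W, ∀ w ∈ W, Cfsg.sympForm 2 F u w = 0} = q + 1 := by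
  classical
  have hq : 2 ≤ q := hF ▸ Fintype.one_lt_card
  have hqF : Nat.card F = q := by rw [Nat.card_eq_fintype_card, hF]
  let Good : Submodule F (Fin 2 ⊕ Fin 2 → F) → Prop := fun W => ∀ u ∈ W, ∀ v ∈ W, Cfsg.sympForm 2 F u v = 0
  have hgood : ∀ v w : Fin 2 ⊕ Fin 2 → F, Good (Submodule.span F {v, w}) ↔ Cfsg.sympForm 2 F v w = 0 := by
    intro v w
    refine ⟨fun h => h v (Submodule.subset_span (by simp)) w (Submodule.subset_span (by simp)), fun h x hx y hy => ?_⟩
    obtain ⟨a, b, rfl⟩ := Submodule.mem_span_pair.1 hx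
    obtain ⟨c, d, rfl⟩ := Submodule.mem_span_pair.1 hy
    simp [CfsgLib.Classical.sympForm_add_left, CfsgLib.Classical.sympForm_add_right,
      CfsgLib.Classical.sympForm_smul_left, CfsgLib.Classical.sympForm_smul_right,
      CfsgLib.Classical.sympForm_self, CfsgLib.Classical.sympForm_swap v w, h]
  have hpt : ∀ v : Fin 2 ⊕ Fin 2 → F, v ≠ 0 →
      Nat.card {W : Submodule F (Fin 2 ⊕ Fin 2 → F) // Module.finrank F W = 2 ∧ v ∈ W ∧ Good W} = q + 1 := by
    intro v hv
    have h := CfsgLib.Classical.card_planes_through (F := F) Good hv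
    simp only [hgood] at h
    set P := LinearMap.ker (CfsgLib.Classical.spBilin 2 F v) with hP
    have hle : Submodule.span F {v} ≤ P := (Submodule.span_singleton_le_iff_mem _ _).2 (by
      simp [hP, CfsgLib.Classical.sympForm_self])
    have hdim : Module.finrank F P = 3 := by
      have h1 := LinearMap.finrank_range_add_finrank_ker (CfsgLib.Classical.spBilin 2 F v)
      obtain ⟨w, hw⟩ := CfsgLib.Classical.exists_sympForm_ne_zero hv
      have h2 : LinearMap.range (CfsgLib.Classical.spBilin 2 F v) = ⊤ := LinearMap.range_eq_top.2 fun a =>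
        ⟨(a / Cfsg.sympForm 2 F v w) • w, by simp [hw]⟩
      rw [h2, finrank_top, Module.finrank_self, Module.finrank_pi, ← hP] at h1
      simp at h1
      omega
    have hc : Nat.card {w : Fin 2 ⊕ Fin 2 → F // w ∉ Submodule.span F {v} ∧ Cfsg.sympForm 2 F v w = 0} =
        q ^ 3 - q := by
      rw [← Set.coe_setOf, Nat.card_coe_set_eq, show {w | w ∉ Submodule.span F {v} ∧ Cfsg.sympForm 2 F v w = 0} =
        (P : Set (Fin 2 ⊕ Fin 2 → F)) \ (Submodule.span F {v} : Set _) from Set.ext fun w => by simp [hP, and_comm],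
        Set.ncard_diff (SetLike.coe_subset_coe.2 hle), ← Nat.card_coe_set_eq, ← Nat.card_coe_set_eq]
      refine congrArg₂ (· - ·) ?_ ?_
      · exact (Module.natCard_eq_pow_finrank (K := F) (V := P)).trans (by rw [hdim, hqF])
      · exact (Module.natCard_eq_pow_finrank (K := F) (V := Submodule.span F {v})).trans
          (by rw [finrank_span_singleton hv, hqF, pow_one])
    rw [hc, hqF] at h
    refine Nat.eq_of_mul_eq_mul_right (show 0 < q ^ 2 - q by
      have : q * 2 ≤ q * q := Nat.mul_le_mul_left q hq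
      rw [pow_two]; omega) (h.trans ?_)
    have e1 : q ^ 2 - q = q * (q - 1) := by rw [Nat.mul_sub, mul_one, pow_two]
    have e2 : q ^ 3 - q = q * (q ^ 2 - 1) := by rw [Nat.mul_sub, mul_one, pow_succ']
    have e3 : q ^ 2 - 1 = (q + 1) * (q - 1) := by rw [← Nat.sq_sub_sq, one_pow]
    rw [e1, e2, e3]
    ring
  refine ⟨?_, hpt⟩
  have h := CfsgLib.Classical.card_planes (F := F) Good
  rw [Finset.sum_congr rfl (fun v _ => hpt _ v.2), Finset.sum_const, Finset.card_univ, smul_eq_mul,
    Fintype.card_subtype_compl, Fintype.card_subtype_eq, Fintype.card_fun, hqF, hF] at h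
  simp only [Fintype.card_sum, Fintype.card_fin] at h
  refine Nat.eq_of_mul_eq_mul_right (show 0 < q ^ 2 - 1 by
    have : 2 * 2 ≤ q * q := Nat.mul_le_mul hq hq
    rw [pow_two]; omega) (h.trans ?_)
  have e4 : q ^ (2 + 2) - 1 = (q ^ 2 + 1) * (q ^ 2 - 1) := by
    rw [← Nat.sq_sub_sq, one_pow, ← pow_mul]
  rw [e4]
  ring

end Cfsg.Agent.S0828
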