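import Cfsg.Statements.S0830
import Mathlib
import Cfsg.Agent.Lib.Classical.HermLines
-- import your own Cfsg.Agent.* helpers here

set_option autoImplicit false
open Cfsg

namespace Cfsg.Agent.S0830

/-- The unitary quadrangle of PSU_5(q): with |F| = q², the number of 2-dimensional subspaces of F^5 on which the Hermitian form vanishes is (q³ + 1)(q⁵ + 1). -/
theorem result {F : Type*} [Field F] [Fintype F] {q : ℕ} (hF : Fintype.card F = q ^ 2) : Nat.card {W : Submodule F (Fin 5 → F) // Module.finrank F W = 2 ∧ ∀ u ∈ W, ∀ v ∈ W, Cfsg.hermForm 5 F q u v = 0} = (q ^ 3 + 1) * (q ^ 5 + 1) := by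
  have hq := CfsgLib.Classical.two_le_q hF
  have h := CfsgLib.Classical.card_iso_planes hF 3
  have h2 := (CfsgLib.Classical.hermCount_formula (F := F) hF 2).2
  have h4 := (CfsgLib.Classical.hermCount_formula (F := F) hF 4).2
  norm_num at h2 h4
  have hz : (2 : ℤ) ≤ q := by exact_mod_cast hq
  have h1 : 1 ≤ CfsgLib.Classical.hermCount 5 F q (0 : F) := by
    zify; rw [h4]
    have : (2 : ℤ) ≤ (q : ℤ) ^ 4 := le_trans hz (le_self_pow₀ (by omega) (by norm_num))
    have : (2 : ℤ) ≤ (q : ℤ) ^ 5 := le_trans hz (le_self_pow₀ (by omega) (by norm_num))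
    nlinarith
  have h1' : q ^ 2 ≤ q ^ 2 * CfsgLib.Classical.hermCount 3 F q (0 : F) := by
    refine Nat.le_mul_of_pos_right _ ?_
    zify; rw [h2]
    have : (2 : ℤ) ≤ (q : ℤ) ^ 2 := le_trans hz (le_self_pow₀ (by omega) (by norm_num))
    have : (2 : ℤ) ≤ (q : ℤ) ^ 3 := le_trans hz (le_self_pow₀ (by omega) (by norm_num))
    nlinarith
  have hA : 1 ≤ (q ^ 2) ^ 2 := Nat.one_le_pow _ _ (by positivity)
  have hB : q ^ 2 ≤ (q ^ 2) ^ 2 := Nat.le_self_pow two_ne_zero _
  zify [h1, h1', hA, hB] at h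
  rw [h4, h2] at h
  zify
  have hne : ((((q : ℤ) ^ 2) ^ 2 - 1) * (((q : ℤ) ^ 2) ^ 2 - (q : ℤ) ^ 2)) ≠ 0 := by
    have : (4 : ℤ) ≤ (q : ℤ) ^ 2 := by nlinarith
    refine mul_ne_zero ?_ ?_ <;> nlinarith
  refine mul_right_cancel₀ hne ?_
  linear_combination h

end Cfsg.Agent.S0830
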