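import Cfsg.Statements.S0833
import Mathlib
import Cfsg.Agent.Lib.Classical.AltBasis
-- import your own Cfsg.Agent.* helpers here

set_option autoImplicit false
open Cfsg

namespace Cfsg.Agent.S0833

/-- If B₁, B₂ are non-degenerate alternating forms on U (dim 2k) and W (dim 2l), then B₁ ⊗ B₂ on U ⊗ W is symmetric, non-degenerate, and vanishes identically on some subspace of dimension 2kl (half of dim U ⊗ W). -/
theorem result {F U W : Type*} [Field F] [Fintype F] [AddCommGroup U] [Module F U] [FiniteDimensional F U] [AddCommGroup W] [Module F W] [FiniteDimensional F W] (B₁ : LinearMap.BilinForm F U) (B₂ : LinearMap.BilinForm F W) (h₁ : B₁.Nondegenerate) (h₂ : B₂.Nondegenerate) (hA₁ : B₁.IsAlt) (hA₂ : B₂.IsAlt) (k l : ℕ) (hU : Module.finrank F U = 2 * k) (hW : Module.finrank F W = 2 * l) : (B₁.tmul B₂).IsSymm ∧ (B₁.tmul B₂).Nondegenerate ∧ (∃ X : Submodule F (TensorProduct F U W), Module.finrank F X = 2 * k * l ∧ ∀ x ∈ X, ∀ y ∈ X, (B₁.tmul B₂) x y = 0) := by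
  classical
  have hs₁ : ∀ u v, B₁ v u = -B₁ u v := fun u v => (LinearMap.IsAlt.neg hA₁ u v).symm
  have hs₂ : ∀ u v, B₂ v u = -B₂ u v := fun u v => (LinearMap.IsAlt.neg hA₂ u v).symm
  set T := B₁.tmul B₂ with hT
  have happ : ∀ u w u' w', T (TensorProduct.tmul F u w) (TensorProduct.tmul F u' w') = B₁ u u' * B₂ w w' :=
    fun u w u' w' => by simp [hT, mul_comm]
  have hsym : ∀ x y, T x y = T y x := by
    intro x y
    induction x using TensorProduct.induction_on with
    | zero => simp
    | tmul u w =>
      induction y using TensorProduct.induction_on with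
      | zero => simp
      | tmul u' w' => rw [happ, happ, hs₁ u' u, hs₂ w' w, neg_mul_neg]
      | add y z hy hz => simp [hy, hz]
    | add x z hx hz => simp [hx, hz]
  have hleft : T.SeparatingLeft := by
    intro x hx
    let b := Module.finBasis F U
    let c := Module.finBasis F W
    let b' := B₁.dualBasis h₁ b
    let c' := B₂.dualBasis h₂ c
    refine (b.tensorProduct c).ext_elem fun p => ?_
    obtain ⟨i, j⟩ := p
    have h := hx (TensorProduct.tmul F (b' i) (c' j))
    rw [hsym, ← (b.tensorProduct c).sum_repr x] at h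
    simpa [map_sum, Module.Basis.tensorProduct_apply', happ, b', c', Fintype.sum_prod_type,
      LinearMap.BilinForm.apply_dualBasis_left, Finset.sum_ite_eq, Finset.sum_ite_eq', ite_mul,
      mul_ite] using h
  refine ⟨⟨hsym⟩, ⟨hleft, fun y hy => hleft y fun x => (hsym y x).trans (hy x)⟩, ?_⟩
  obtain ⟨k', hk', e, he⟩ := CfsgLib.Classical.exists_symp_equiv B₁ hA₁ h₁.1
  have hk'' : k' = k := by omega
  subst hk''
  let ψ : (Fin k' → F) →ₗ[F] U :=
    { toFun := fun x => e (Sum.elim x 0)
      map_add' := fun x y => by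
        rw [← map_add]; congr 1; funext i; cases i <;> simp
      map_smul' := fun a x => by
        rw [RingHom.id_apply, ← map_smul]; congr 1; funext i; cases i <;> simp }
  have hψ : Function.Injective ψ := fun x y h => funext fun i =>
    congrFun (e.injective h) (Sum.inl i)
  have hzero : ∀ x y, B₁ (ψ x) (ψ y) = 0 := fun x y => by
    simp [ψ, he, CfsgLib.Classical.sympForm_eq]
  let Ψ := LinearMap.rTensor W ψ
  refine ⟨LinearMap.range Ψ, ?_, ?_⟩
  · rw [LinearMap.finrank_range_of_inj (Module.Flat.rTensor_preserves_injective_linearMap ψ hψ),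
      Module.finrank_tensorProduct, Module.finrank_fin_fun, hW]
    ring
  · rintro _ ⟨x, rfl⟩ _ ⟨y, rfl⟩
    induction x using TensorProduct.induction_on with
    | zero => simp
    | tmul u w =>
      induction y using TensorProduct.induction_on with
      | zero => simp
      | tmul u' w' =>
        simp only [Ψ, LinearMap.rTensor_tmul]
        rw [happ, hzero, zero_mul]
      | add y z hy hz => simp [hy, hz]
    | add x z hx hz => simp [hx, hz]

end Cfsg.Agent.S0833
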