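import Cfsg.Statements.S0834
import Mathlib
import Cfsg.Agent.Lib.Classical.SymBilin
-- import your own Cfsg.Agent.* helpers here

set_option autoImplicit false
open Cfsg

namespace Cfsg.Agent.S0834

/-- Over a finite field with 2 ≠ 0: if B₁ on U (dim 2k, k ≥ 1) and B₂ on W (dim 2l, l ≥ 1) are non-degenerate symmetric forms admitting no totally isotropic subspaces of dimensions k, resp. l (minus type), then B₁ ⊗ B₂ admits a totally isotropic subspace of dimension 2kl (plus type). -/
theorem result {F U W : Type*} [Field F] [Fintype F] [AddCommGroup U] [Module F U] [FiniteDimensional F U] [AddCommGroup W] [Module F W] [FiniteDimensional F W] (h2 : (2 : F) ≠ 0) (B₁ : LinearMap.BilinForm F U) (B₂ : LinearMap.BilinForm F W) (h₁ : B₁.Nondegenerate) (h₂ : B₂.Nondegenerate) (hS₁ : B₁.IsSymm) (hS₂ : B₂.IsSymm) (k l : ℕ) (hk : 1 ≤ k) (hl : 1 ≤ l) (hU : Module.finrank F U = 2 * k) (hW : Module.finrank F W = 2 * l) (hm₁ : ¬ (∃ X : Submodule F (U), Module.finrank F X = k ∧ ∀ x ∈ X, ∀ y ∈ X, (B₁) x y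 = 0)) (hm₂ : ¬ (∃ X : Submodule F (W), Module.finrank F X = l ∧ ∀ x ∈ X, ∀ y ∈ X, (B₂) x y = 0)) : (∃ X : Submodule F (TensorProduct F U W), Module.finrank F X = 2 * k * l ∧ ∀ x ∈ X, ∀ y ∈ X, (B₁.tmul B₂) x y = 0) := by
  classical
  let b := Module.finBasisOfFinrankEq F U hU
  let c := Module.finBasisOfFinrankEq F W hW
  have hdet := CfsgLib.Classical.gram_tmul B₁ B₂ b c
  have happ : ∀ u w u' w', (B₁.tmul B₂) (TensorProduct.tmul F u w) (TensorProduct.tmul F u' w') = B₁ u u' * B₂ w w' :=
    fun u w u' w' => by simp [mul_comm]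
  have hsym : ∀ x y, (B₁.tmul B₂) x y = (B₁.tmul B₂) y x := by
    intro x y
    induction x using TensorProduct.induction_on with
    | zero => simp
    | tmul u w =>
      induction y using TensorProduct.induction_on with
      | zero => simp
      | tmul u' w' => rw [happ, happ, hS₁.eq, hS₂.eq]
      | add y z hy hz => simp [hy, hz]
    | add x z hx hz => simp [hx, hz]
  have hnd : (B₁.tmul B₂).Nondegenerate := by
    refine (LinearMap.BilinForm.nondegenerate_iff_det_ne_zero (b.tensorProduct c)).2 ?_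
    rw [show LinearMap.BilinForm.toMatrix (b.tensorProduct c) (B₁.tmul B₂) =
      Matrix.of fun p r => (B₁.tmul B₂) (b.tensorProduct c p) (b.tensorProduct c r) from
        Matrix.ext fun i j => by simp [LinearMap.BilinForm.toMatrix_apply], hdet]
    exact mul_ne_zero (pow_ne_zero _ (CfsgLib.Classical.det_gram_ne_zero h₁ b))
      (pow_ne_zero _ (CfsgLib.Classical.det_gram_ne_zero h₂ c))
  refine (CfsgLib.Classical.exists_lagrangian_iff h2 _ hsym hnd (m := 2 * k * l)
    (by rw [Module.finrank_tensorProduct, hU, hW]; ring) (b.tensorProduct c)).2 ?_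
  rw [hdet, Fintype.card_fin, Fintype.card_fin]
  exact ⟨(-1) ^ (k * l) * ((Matrix.of fun i j => B₁ (b i) (b j)).det ^ l *
    (Matrix.of fun i j => B₂ (c i) (c j)).det ^ k), by ring⟩

end Cfsg.Agent.S0834
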