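import Cfsg.Statements.S0835
import Mathlib
import Cfsg.Agent.Lib.Classical.SymBilin
-- import your own Cfsg.Agent.* helpers here

set_option autoImplicit false
open Cfsg

namespace Cfsg.Agent.S0835

/-- Over a finite field with 2 ≠ 0: if B₁ on U (dim 2k, k ≥ 1) is non-degenerate symmetric of minus type (no totally isotropic k-subspace) and B₂ on W (dim 2l + 1) is non-degenerate symmetric, then B₁ ⊗ B₂ (dimension 2k(2l+1)) admits no totally isotropic subspace of dimension k(2l+1) (minus type). -/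
theorem result {F U W : Type*} [Field F] [Fintype F] [AddCommGroup U] [Module F U] [FiniteDimensional F U] [AddCommGroup W] [Module F W] [FiniteDimensional F W] (h2 : (2 : F) ≠ 0) (B₁ : LinearMap.BilinForm F U) (B₂ : LinearMap.BilinForm F W) (h₁ : B₁.Nondegenerate) (h₂ : B₂.Nondegenerate) (hS₁ : B₁.IsSymm) (hS₂ : B₂.IsSymm) (k l : ℕ) (hk : 1 ≤ k) (hU : Module.finrank F U = 2 * k) (hW : Module.finrank F W = 2 * l + 1) (hm₁ : ¬ (∃ X : Submodule F (U), Module.finrank F X = k ∧ ∀ x ∈ X, ∀ y ∈ X, (B₁) x y = 0)) : ¬ (∃ X : Submodule F (TensorProduct F U W), Module.finrank F X = k * (2 * l + 1) ∧ ∀ x ∈ X, ∀ y ∈ X, (B₁.tmul B₂) x y = 0) := by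
  classical
  let b := Module.finBasisOfFinrankEq F U hU
  let c := Module.finBasisOfFinrankEq F W hW
  have hdet := CfsgLib.Classical.gram_tmul B₁ B₂ b c
  have happ : ∀ u w u' w', (B₁.tmul B₂) (TensorProduct.tmul F u w) (TensorProduct.tmul F u' w') = B₁ u u' * B₂ w w' :=
    fun u w u' w' => by simp [mul_comm]
  have hsym : ∀ x y, (B₁.tmul B₂) x y = (B₁.tmul B₂) y x := by
    intro x y
    induction x using TensorProduct.induction_on with
    | zero => simp
    | tmul u w =>
      induction y using TensorProduct.induction_on with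
      | zero => simp
      | tmul u' w' => rw [happ, happ, hS₁.eq, hS₂.eq]
      | add y z hy hz => simp [hy, hz]
    | add x z hx hz => simp [hx, hz]
  have hd₁ := CfsgLib.Classical.det_gram_ne_zero h₁ b
  have hd₂ := CfsgLib.Classical.det_gram_ne_zero h₂ c
  have hnd : (B₁.tmul B₂).Nondegenerate := by
    refine (LinearMap.BilinForm.nondegenerate_iff_det_ne_zero (b.tensorProduct c)).2 ?_
    rw [show LinearMap.BilinForm.toMatrix (b.tensorProduct c) (B₁.tmul B₂) =
      Matrix.of fun p r => (B₁.tmul B₂) (b.tensorProduct c p) (b.tensorProduct c r) from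
        Matrix.ext fun i j => by simp [LinearMap.BilinForm.toMatrix_apply], hdet]
    exact mul_ne_zero (pow_ne_zero _ hd₁) (pow_ne_zero _ hd₂)
  intro hX
  have h := (CfsgLib.Classical.exists_lagrangian_iff h2 _ hsym hnd (m := k * (2 * l + 1))
    (by rw [Module.finrank_tensorProduct, hU, hW]; ring) (b.tensorProduct c)).1 hX
  rw [hdet, Fintype.card_fin, Fintype.card_fin] at h
  refine hm₁ ((CfsgLib.Classical.exists_lagrangian_iff h2 B₁ (fun u v => hS₁.eq u v) h₁ hU b).2 ?_)
  set x := (Matrix.of fun i j => B₁ (b i) (b j)).det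
  set y := (Matrix.of fun i j => B₂ (c i) (c j)).det
  obtain ⟨s, hs⟩ := h
  refine ⟨s / ((-1) ^ (k * l) * x ^ l * y ^ k), ?_⟩
  have hne : ((-1 : F) ^ (k * l) * x ^ l * y ^ k) ≠ 0 :=
    mul_ne_zero (mul_ne_zero (pow_ne_zero _ (neg_ne_zero.2 one_ne_zero)) (pow_ne_zero _ hd₁)) (pow_ne_zero _ hd₂)
  rw [div_mul_div_comm, eq_div_iff (mul_ne_zero hne hne), ← hs]
  ring

end Cfsg.Agent.S0835
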