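import Cfsg.Statements.S0838
import Mathlib
import Cfsg.Agent.Lib.Classical.SymBilin
-- import your own Cfsg.Agent.* helpers here

set_option autoImplicit false
open Cfsg

namespace Cfsg.Agent.S0838

/-- Over a finite field with 2 ≠ 0 and n odd: two quadratic forms Q₁, Q₂ on F^n with non-degenerate polar forms are similar — there are an invertible linear map g and a scalar c ≠ 0 with Q₂ (g v) = c · Q₁ v for all v. -/
theorem result {F : Type*} [Field F] [Fintype F] (h2 : (2 : F) ≠ 0) {n : ℕ} (hn : Odd n) (Q₁ Q₂ : QuadraticForm F (Fin n → F)) (h₁ : (QuadraticMap.polarBilin Q₁).Nondegenerate) (h₂ : (QuadraticMap.polarBilin Q₂).Nondegenerate) : ∃ (g : (Fin n → F) ≃ₗ[F] (Fin n → F)) (c : F), c ≠ 0 ∧ ∀ v, Q₂ (g v) = c * Q₁ v := by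
  classical
  let e₀ := Pi.basisFun F (Fin n)
  set B₁ := QuadraticMap.polarBilin Q₁
  set B₂ := QuadraticMap.polarBilin Q₂
  have hs₁ : ∀ u v, B₁ u v = B₁ v u := fun u v => QuadraticMap.polar_comm _ u v
  have hs₂ : ∀ u v, B₂ u v = B₂ v u := fun u v => QuadraticMap.polar_comm _ u v
  set d₁ := (Matrix.of fun i j => B₁ (e₀ i) (e₀ j)).det
  set d₂ := (Matrix.of fun i j => B₂ (e₀ i) (e₀ j)).det
  have hc : d₁ * d₂ ≠ 0 :=
    mul_ne_zero (CfsgLib.Classical.det_gram_ne_zero h₁ e₀) (CfsgLib.Classical.det_gram_ne_zero h₂ e₀)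
  set c := d₁ * d₂
  have hnd : (c • B₁).Nondegenerate := by
    refine ⟨fun v hv => h₁.1 v fun w => ?_, fun v hv => h₁.2 v fun w => ?_⟩
    · exact (mul_eq_zero.1 (by simpa using hv w)).resolve_left hc
    · exact (mul_eq_zero.1 (by simpa using hv w)).resolve_left hc
  have hdet : (Matrix.of fun i j => (c • B₁) (e₀ i) (e₀ j)).det = c ^ n * d₁ := by
    rw [show (Matrix.of fun i j => (c • B₁) (e₀ i) (e₀ j)) = c • Matrix.of fun i j => B₁ (e₀ i) (e₀ j) from
      Matrix.ext fun i j => by simp, Matrix.det_smul, Fintype.card_fin]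
  obtain ⟨k, hk⟩ := hn
  obtain ⟨g, hg⟩ := CfsgLib.Classical.exists_isometry_of_disc h2 (c • B₁) B₂ (fun u v => by simp [hs₁ u v]) hs₂
    hnd h₂ e₀ e₀ rfl (by
      rw [hdet]
      exact ⟨c ^ (k + 1), by rw [show c ^ n = c ^ (2 * k + 1) from congrArg (c ^ ·) hk, mul_assoc, show d₁ * (Matrix.of fun i j => B₂ (e₀ i) (e₀ j)).det = c from rfl]; ring⟩)
  refine ⟨g, c, hc, fun v => ?_⟩
  have h := hg v v
  simp only [B₁, B₂, LinearMap.smul_apply, smul_eq_mul] at h
  change QuadraticMap.polar Q₂ (g v) (g v) = c * QuadraticMap.polar Q₁ v v at h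
  rw [QuadraticMap.polar_self, QuadraticMap.polar_self, nsmul_eq_mul, nsmul_eq_mul] at h
  push_cast at h
  exact mul_left_cancel₀ h2 (by linear_combination h)

end Cfsg.Agent.S0838
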