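import Cfsg.Statements.S0839
import Mathlib
-- import your own Cfsg.Agent.* helpers here

set_option autoImplicit false
open Cfsg

namespace Cfsg.Agent.S0839

/-- Every transvection t ∈ SL_(n+2)(F) (rank(t − 1) = 1, (t − 1)² = 0) is conjugate in SL_(n+2)(F) to 1 + v·e_0ᵀ for some column vector v with v_0 = 0 (the group A of matrices that are the identity except in the first column below the diagonal); the dimension is written n + 2 ≥ 2. -/
theorem result {F : Type*} [Field F] (n : ℕ) (t : Matrix.SpecialLinearGroup (Fin (n + 2)) F) (ht : Cfsg.IsTransvection (t : Matrix (Fin (n + 2)) (Fin (n + 2)) F)) : ∃ (g : Matrix.SpecialLinearGroup (Fin (n + 2)) F) (v : Fin (n + 2) → F), v 0 = 0 ∧ ((g⁻¹ * t * g : Matrix.SpecialLinearGroup (Fin (n + 2)) F) : Matrix (Fin (n + 2)) (Fin (n + 2)) F) = 1 + Matrix.vecMulVec v (Pi.single 0 1) := by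
  classical
  obtain ⟨hr, hs⟩ := ht
  set M : Matrix (Fin (n + 2)) (Fin (n + 2)) F := (t : Matrix (Fin (n + 2)) (Fin (n + 2)) F) - 1 with hM
  rw [Matrix.rank] at hr
  obtain ⟨⟨v, hv⟩, hv0, hspan⟩ := finrank_eq_one_iff'.1 hr
  have hv0' : v ≠ 0 := fun h => hv0 (Subtype.ext h)
  choose φ hφ using fun j : Fin (n + 2) =>
    hspan ⟨M.mulVecLin (Pi.single j 1), LinearMap.mem_range_self _ _⟩
  have hMvφ : M = Matrix.vecMulVec v φ := by
    refine Matrix.ext fun i j => ?_
    have := congrFun (congrArg Subtype.val (hφ j)) i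
    simp [Matrix.mulVec_single_one] at this
    rw [Matrix.vecMulVec_apply, mul_comm, this]
  have hφ0 : φ ≠ 0 := by
    intro h
    have hM0 : M = 0 := by rw [hMvφ, h]; exact Matrix.vecMulVec_zero _
    obtain ⟨x, hx⟩ := hv
    exact hv0' (by rw [← hx, hM0]; simp)
  have hφv : φ ⬝ᵥ v = 0 := by
    have : (φ ⬝ᵥ v) • Matrix.vecMulVec v φ = 0 := by
      rw [← hs, hMvφ, Matrix.vecMulVec_mul_vecMulVec]
      ext i j
      simp [Matrix.vecMulVec_apply]
      ring
    rcases smul_eq_zero.1 this with h | h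
    · exact h
    · exact absurd h (by simp [hv0', hφ0])
  have he : (Pi.single 0 1 : Fin (n + 2) → F) ≠ 0 := by simp
  have : MulAction.IsPretransitive (Matrix.SpecialLinearGroup (Fin (n + 2)) F)
      (Projectivization F (Fin (n + 2) → F)) :=
    MulAction.isPretransitive_of_is_two_pretransitive
  obtain ⟨g, hg⟩ := MulAction.exists_smul_eq (Matrix.SpecialLinearGroup (Fin (n + 2)) F)
    (Projectivization.mk F _ he) (Projectivization.mk F φ hφ0)
  obtain ⟨a, ha⟩ := (Projectivization.mk_eq_mk_iff' F _ _ _ _).1 hg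
  let h : Matrix.SpecialLinearGroup (Fin (n + 2)) F := g.transpose⁻¹
  let H : Matrix (Fin (n + 2)) (Fin (n + 2)) F := h
  let Hi : Matrix (Fin (n + 2)) (Fin (n + 2)) F := (h⁻¹ : Matrix.SpecialLinearGroup (Fin (n + 2)) F)
  have hHiH : Hi * H = 1 := by
    rw [← Matrix.SpecialLinearGroup.coe_mul, inv_mul_cancel, Matrix.SpecialLinearGroup.coe_one]
  have hHi : Hi = (g : Matrix (Fin (n + 2)) (Fin (n + 2)) F).transpose := by
    change ((g.transpose⁻¹)⁻¹ : Matrix.SpecialLinearGroup (Fin (n + 2)) F).1 = _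
    rw [inv_inv]
    rfl
  have ha0 : a ≠ 0 := by
    intro h0
    rw [h0, zero_smul] at ha
    exact (smul_ne_zero_iff_ne g).2 he ha.symm
  have hrow : Matrix.vecMul φ H = a⁻¹ • Pi.single 0 1 := by
    have e : Matrix.vecMul (Pi.single 0 1) Hi = a • φ := by
      rw [hHi, Matrix.vecMul_transpose, ha]
      rfl
    have e2 := congrArg (fun x => Matrix.vecMul x H) e
    simp only [Matrix.vecMul_vecMul, hHiH, Matrix.vecMul_one, Matrix.smul_vecMul] at e2
    rw [e2, smul_smul, inv_mul_cancel₀ ha0, one_smul]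
  refine ⟨h, a⁻¹ • Hi.mulVec v, ?_, ?_⟩
  · have e : φ ⬝ᵥ v = (Matrix.vecMul φ H) ⬝ᵥ (Hi.mulVec v) := by
      rw [← Matrix.dotProduct_mulVec, Matrix.mulVec_mulVec, mul_eq_one_comm.1 hHiH, Matrix.one_mulVec]
    rw [hφv, hrow] at e
    simpa using e.symm
  · have ht : (t : Matrix (Fin (n + 2)) (Fin (n + 2)) F) = 1 + Matrix.vecMulVec v φ := by
      rw [← hMvφ, hM]; abel
    rw [Matrix.SpecialLinearGroup.coe_mul, Matrix.SpecialLinearGroup.coe_mul, ht, Matrix.mul_add,
      Matrix.add_mul, Matrix.mul_one, Matrix.mul_vecMulVec, Matrix.vecMulVec_mul,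
      Matrix.smul_vecMulVec, ← Matrix.vecMulVec_smul]
    change Hi * H + Matrix.vecMulVec (Hi.mulVec v) (Matrix.vecMul φ H) = _
    rw [hHiH, hrow]

end Cfsg.Agent.S0839
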