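import Cfsg.Statements.S0841
import Mathlib


set_option autoImplicit false
open Cfsg

namespace Cfsg.Agent.S0841

/-- If the commutator subgroup of G lies in the centre, then for all x, y in G and every natural number n one has (x * y) ^ n = x ^ n * y ^ n * c ^ (n * (n - 1) / 2) with c = y⁻¹ * x⁻¹ * y * x. -/
theorem result {G : Type*} [Group G] (hG : commutator G ≤ Subgroup.center G) (x y : G) (n : ℕ) : (x * y) ^ n = x ^ n * y ^ n * (y⁻¹ * x⁻¹ * y * x) ^ (n * (n - 1) / 2) := by
  set c := y⁻¹ * x⁻¹ * y * x with hc
  have hcc : ∀ z : G, c * z = z * c := fun z => by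
    refine (Subgroup.mem_center_iff.mp (hG ?_) z).symm
    open scoped commutatorElement in
    have h : c = ⁅y⁻¹, x⁻¹⁆ := by rw [commutatorElement_def, hc]; group
    rw [h, commutator_def]
    exact Subgroup.commutator_mem_commutator (Subgroup.mem_top _) (Subgroup.mem_top _)
  have hyx : y * x = x * y * c := by rw [hc]; group
  have hk : ∀ k : ℕ, y ^ k * x = x * y ^ k * c ^ k := by
    intro k
    induction k with
    | zero => simp
    | succ k ih =>
      have hp : ∀ z : G, c ^ k * z = z * c ^ k := fun z => (Commute.pow_left (hcc z) k).eq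
      calc y ^ (k + 1) * x = y * (y ^ k * x) := by rw [pow_succ', mul_assoc]
        _ = y * x * (y ^ k * c ^ k) := by rw [ih]; group
        _ = x * (y * y ^ k) * (c * c ^ k) := by
            rw [hyx]
            simp only [mul_assoc]
            rw [← mul_assoc c (y ^ k), hcc (y ^ k), mul_assoc]
        _ = x * y ^ (k + 1) * c ^ (k + 1) := by rw [pow_succ', pow_succ']
  have htri : ∀ m : ℕ, (m + 1) * m / 2 = m + m * (m - 1) / 2 := by
    intro m
    have : (m + 1) * m = m * (m - 1) + 2 * m := by
      cases m with
      | zero => simp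
      | succ j => simp; ring
    rw [this, Nat.add_mul_div_left _ _ (by norm_num), add_comm]
  induction n with
  | zero => simp
  | succ m ih =>
    have hp : ∀ (j : ℕ) (z : G), c ^ j * z = z * c ^ j := fun j z => (Commute.pow_left (hcc z) j).eq
    rw [Nat.add_sub_cancel, htri, pow_succ (x * y), ih, pow_succ x, pow_succ y, pow_add]
    calc x ^ m * y ^ m * c ^ (m * (m - 1) / 2) * (x * y)
        = x ^ m * (y ^ m * x) * y * c ^ (m * (m - 1) / 2) := by
          rw [mul_assoc _ (c ^ _), hp]; group
      _ = x ^ m * x * (y ^ m * y) * (c ^ m * c ^ (m * (m - 1) / 2)) := by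
          rw [hk m]
          simp only [mul_assoc]
          rw [← mul_assoc (c ^ m) y, hp m y, mul_assoc]

end Cfsg.Agent.S0841
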