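import Cfsg.Statements.S0842
import Cfsg.Agent.Lib.Invol.Quaternion
import Mathlib.GroupTheory.SpecificGroups.Quaternion

set_option autoImplicit false
open Cfsg

namespace Cfsg.Agent.S0842

open CfsgLib.Invol

/-- The data attached to the commutator subgroup of a generalized quaternion Sylow 2-subgroup. -/
theorem setup {G : Type*} [Group G] [Finite G] (S : Sylow 2 G) (n : ℕ)
    (e : (S : Subgroup G) ≃* QuaternionGroup (2 ^ (n + 2))) :
    ∃ x y : G, x ∈ (S : Subgroup G) ∧ y ∈ (S : Subgroup G) ∧ orderOf x = 2 ^ (n + 3) ∧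
      ⁅(S : Subgroup G), (S : Subgroup G)⁆ = Subgroup.zpowers (x ^ 2) ∧
      x ∈ Subgroup.centralizer ((⁅(S : Subgroup G), (S : Subgroup G)⁆ : Subgroup G) : Set G) ∧
      (S : Subgroup G) ⊓ Subgroup.centralizer ((⁅(S : Subgroup G), (S : Subgroup G)⁆ : Subgroup G) : Set G) =
        Subgroup.zpowers x ∧
      Nat.card (S : Subgroup G) = 2 ^ (n + 4) := by
  obtain ⟨x, y, hxS, hyS, hox, hoy, hyx, hyy, hS⟩ := quaternion_gens (S : Subgroup G) (n + 1) e
  have hcard : Nat.card (S : Subgroup G) = 2 ^ (n + 4) := by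
    have : NeZero (2 ^ (n + 2)) := ⟨by positivity⟩
    rw [Nat.card_congr e.toEquiv, Nat.card_eq_fintype_card, QuaternionGroup.card]
    ring
  have hflip : ∀ i : ℕ, y * x ^ i = (x ^ i)⁻¹ * y := fun i => by
    rw [← inv_pow, ← hyx, conj_pow, inv_mul_cancel_right]
  set Z := Subgroup.zpowers (x ^ 2) with hZ
  have hsq : ∀ i : ℕ, x ^ i * x ^ i ∈ Z := fun i => by
    rw [← pow_add, ← two_mul, pow_mul]
    exact Subgroup.pow_mem _ (Subgroup.mem_zpowers _) i
  have hD : ⁅(S : Subgroup G), (S : Subgroup G)⁆ = Z := by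
    refine le_antisymm (Subgroup.commutator_le.mpr fun a ha b hb => ?_) ?_
    · have hc : ∀ i j : ℕ, Commute (x ^ i) (x ^ j) := fun i j => Commute.pow_pow_self x i j
      have h1 : ∀ i j : ℕ, y * x ^ i * x ^ j * (y * x ^ i)⁻¹ * (x ^ j)⁻¹ ∈ Z := fun i j => by
        have e : y * x ^ i * x ^ j * (y * x ^ i)⁻¹ * (x ^ j)⁻¹ =
            (x ^ j * x ^ j)⁻¹ := by
          rw [mul_inv_rev (y) (x ^ i), ← mul_assoc, mul_assoc y (x ^ i), (hc i j).eq, ← mul_assoc,
            mul_inv_cancel_right, hflip j, mul_inv_cancel_right, mul_inv_rev]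
        rw [e]
        exact Z.inv_mem (hsq j)
      rw [commutatorElement_def]
      obtain ⟨i, rfl | rfl⟩ := hS a ha <;> obtain ⟨j, rfl | rfl⟩ := hS b hb
      · rw [(hc i j).eq, mul_inv_cancel_right, mul_inv_cancel]
        exact Z.one_mem
      · rw [show x ^ i * (y * x ^ j) * (x ^ i)⁻¹ * (y * x ^ j)⁻¹ =
          ((y * x ^ j) * x ^ i * (y * x ^ j)⁻¹ * (x ^ i)⁻¹)⁻¹ by group]
        exact Z.inv_mem (h1 j i)
      · exact h1 i j
      · -- both outside the cyclic subgroup
        have e : y * x ^ i * (y * x ^ j) * (y * x ^ i)⁻¹ * (y * x ^ j)⁻¹ =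
            (x ^ i * x ^ i)⁻¹ * (x ^ j * x ^ j) := by
          have hyinv : y⁻¹ = y⁻¹ := rfl
          have e1 : y * x ^ i * (y * x ^ j) = (x ^ i)⁻¹ * (y * y) * x ^ j := by
            rw [hflip i]; group
          have e2 : y * x ^ j * (y * x ^ i) = (x ^ j)⁻¹ * (y * y) * x ^ i := by
            rw [hflip j]; group
          rw [show y * x ^ i * (y * x ^ j) * (y * x ^ i)⁻¹ * (y * x ^ j)⁻¹ =
            (y * x ^ i * (y * x ^ j)) * (y * x ^ j * (y * x ^ i))⁻¹ by group, e1, e2, hyy,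
            mul_inv_rev, mul_inv_rev, inv_inv]
          set m := x ^ 2 ^ (n + 1 + 1) with hm
          have hmi : ∀ k : ℕ, Commute m (x ^ k) := fun k => Commute.pow_pow_self x _ k
          calc (x ^ i)⁻¹ * m * x ^ j * ((x ^ i)⁻¹ * (m⁻¹ * x ^ j))
              = (x ^ i)⁻¹ * m * (x ^ j * (x ^ i)⁻¹) * m⁻¹ * x ^ j := by group
            _ = (x ^ i)⁻¹ * m * ((x ^ i)⁻¹ * x ^ j) * m⁻¹ * x ^ j := by
              rw [((hc j i).inv_right).eq]
            _ = (x ^ i)⁻¹ * ((x ^ i)⁻¹ * x ^ j) * (m * m⁻¹) * x ^ j := by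
              rw [mul_assoc _ m, ((hmi i).inv_right.mul_right (hmi j)).eq]; group
            _ = (x ^ i * x ^ i)⁻¹ * (x ^ j * x ^ j) := by group
        rw [e]
        exact Z.mul_mem (Z.inv_mem (hsq i)) (hsq j)
    · rw [hZ, Subgroup.zpowers_le]
      have h := Subgroup.commutator_mem_commutator hyS ((S : Subgroup G).inv_mem hxS)
      rw [commutatorElement_def, inv_inv] at h
      have e : y * x⁻¹ * y⁻¹ * x = x ^ 2 := by
        rw [← conj_inv, hyx, inv_inv, sq]
      rwa [e] at h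
  have hxC : x ∈ Subgroup.centralizer ((⁅(S : Subgroup G), (S : Subgroup G)⁆ : Subgroup G) : Set G) := by
    rw [hD, Subgroup.mem_centralizer_iff]
    intro d hd
    obtain ⟨k, rfl⟩ := Subgroup.mem_zpowers_iff.mp hd
    exact (((Commute.refl x).pow_left 2).zpow_left k).eq
  refine ⟨x, y, hxS, hyS, hox, hD, hxC, le_antisymm (fun s hs => ?_)
    (Subgroup.zpowers_le.mpr (Subgroup.mem_inf.mpr ⟨hxS, hxC⟩)), hcard⟩
  obtain ⟨hsS, hsC⟩ := Subgroup.mem_inf.mp hs
  obtain ⟨i, rfl | rfl⟩ := hS s hsS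
  · exact Subgroup.pow_mem _ (Subgroup.mem_zpowers x) i
  exfalso
  have h := Subgroup.mem_centralizer_iff.mp hsC (x ^ 2) (by rw [hD]; exact Subgroup.mem_zpowers _)
  have h2 : x ^ 2 * y = y * x ^ 2 := by
    refine mul_right_cancel (b := x ^ i) ?_
    rw [mul_assoc, h, mul_assoc, (Commute.pow_pow_self x i 2).eq, mul_assoc]
  have h3 : x ^ 2 = (x ^ 2)⁻¹ := mul_right_cancel (h2.trans (hflip 2))
  have h4 : x ^ 4 = 1 := by
    rw [show (4 : ℕ) = 2 + 2 from rfl, pow_add]
    exact mul_eq_one_iff_eq_inv.mpr h3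
  have h5 := Nat.le_of_dvd (by norm_num) (orderOf_dvd_of_pow_eq_one h4)
  rw [hox] at h5
  have : 2 ^ 3 ≤ 2 ^ (n + 1 + 2) := Nat.pow_le_pow_right (by norm_num) (by omega)
  omega

/-- The centralizer has index two in the normalizer and splits over its cyclic Sylow 2-subgroup. -/
theorem main {G : Type*} [Group G] [Finite G] (S : Sylow 2 G) (n : ℕ)
    (e : (S : Subgroup G) ≃* QuaternionGroup (2 ^ (n + 2))) (D : Subgroup G)
    (hD : D = ⁅(S : Subgroup G), (S : Subgroup G)⁆) :
    ∃ (x : G) (hx : x ∈ Subgroup.centralizer (D : Set G)), orderOf x = 2 ^ (n + 3) ∧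
      D = Subgroup.zpowers (x ^ 2) ∧ Nat.card D = 2 ^ (n + 2) ∧
      (S : Subgroup G) ≤ Subgroup.normalizer (D : Set G) ∧
      Subgroup.centralizer (D : Set G) ⊔ (S : Subgroup G) = Subgroup.normalizer (D : Set G) ∧
      ((Subgroup.centralizer (D : Set G)).subgroupOf (Subgroup.normalizer (D : Set G))).index = 2 ∧
      (S : Subgroup G) ⊓ Subgroup.centralizer (D : Set G) = Subgroup.zpowers x ∧
      ∃ ψ : Subgroup.centralizer (D : Set G) →* Subgroup.centralizer (D : Set G),
        (∀ c, ψ c ∈ Subgroup.zpowers (⟨x, hx⟩ : Subgroup.centralizer (D : Set G))) ∧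
        (∀ c ∈ Subgroup.zpowers (⟨x, hx⟩ : Subgroup.centralizer (D : Set G)), ψ c = c) ∧
        ∀ c, ψ c = 1 ↔ Odd (orderOf c) := by
  obtain ⟨x, y, hxS, hyS, hox, hDx, hxC, hinf, hcard⟩ := setup S n e
  rw [← hD] at hDx hxC hinf
  set C := Subgroup.centralizer (D : Set G) with hCdef
  set N := Subgroup.normalizer (D : Set G) with hNdef
  have hDcard : Nat.card D = 2 ^ (n + 2) := by
    rw [hDx, Nat.card_zpowers, orderOf_pow' x two_ne_zero, hox,
      Nat.gcd_eq_right (dvd_pow_self 2 (by omega : n + 3 ≠ 0)), pow_succ,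
      Nat.mul_div_cancel _ two_pos]
  have hDS : D ≤ (S : Subgroup G) := hD ▸ Subgroup.commutator_le_self _
  have hSN : (S : Subgroup G) ≤ N := by
    have hconj : ∀ g ∈ (S : Subgroup G), ∀ d ∈ D, g * d * g⁻¹ ∈ D := fun g hg d hd => by
      have h := Subgroup.commutator_mem_commutator hg (hDS hd)
      rw [← hD, commutatorElement_def] at h
      have := D.mul_mem h hd
      rwa [inv_mul_cancel_right] at this
    intro g hg
    rw [hNdef, Subgroup.mem_normalizer_iff]
    refine fun d => ⟨hconj g hg d, fun h => ?_⟩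
    have h' := hconj g⁻¹ ((S : Subgroup G).inv_mem hg) _ h
    simpa [mul_assoc] using h'
  have hCN : C ≤ N := fun g hg => by
    rw [hNdef, Subgroup.mem_normalizer_iff]
    intro d
    constructor
    · intro hd
      rwa [← Subgroup.mem_centralizer_iff.mp hg d hd, mul_inv_cancel_right]
    · intro hd
      have h := Subgroup.mem_centralizer_iff.mp hg _ hd
      have : d = g * d * g⁻¹ := by
        calc d = g⁻¹ * ((g * d * g⁻¹) * g) := by group
          _ = g⁻¹ * (g * (g * d * g⁻¹)) := by rw [h]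
          _ = g * d * g⁻¹ := by group
      rwa [this]
  have hnorm : (C.subgroupOf N).Normal := by
    refine ⟨fun c hc g => Subgroup.mem_subgroupOf.mpr ?_⟩
    rw [hCdef, Subgroup.mem_centralizer_iff]
    intro d hd
    have hd' : (g : G)⁻¹ * d * g ∈ D := by
      have := (Subgroup.mem_normalizer_iff.mp (N.inv_mem g.2) d).mp hd
      rwa [inv_inv] at this
    have h := Subgroup.mem_centralizer_iff.mp (Subgroup.mem_subgroupOf.mp hc) _ hd'
    calc d * ((g : G) * c * (g : G)⁻¹) = g * ((g : G)⁻¹ * d * g * c) * (g : G)⁻¹ := by group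
      _ = g * (c * ((g : G)⁻¹ * d * g)) * (g : G)⁻¹ := by rw [h]
      _ = g * c * (g : G)⁻¹ * d := by group
  -- the quotient is a 2-group
  have hdvd2 : (C.subgroupOf N).index ∣ 2 ^ (n + 1) := by
    have : IsCyclic D := by rw [hDx]; infer_instance
    have hker : (Subgroup.normalizerMonoidHom D).ker = C.subgroupOf N :=
      Subgroup.normalizerMonoidHom_ker D
    rw [← hker, Subgroup.index_ker]
    have h := Subgroup.card_subgroup_dvd_card (Subgroup.normalizerMonoidHom D).range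
    rwa [IsCyclic.card_mulAut, hDcard, Nat.totient_prime_pow Nat.prime_two (by omega : 0 < n + 2),
      show (2 - 1 : ℕ) = 1 from rfl, mul_one, show n + 2 - 1 = n + 1 by omega] at h
  let S' := (S : Subgroup G).subgroupOf N
  have hoddS : ¬ 2 ∣ S'.index := by
    intro h
    refine S.not_dvd_index (h.trans ?_)
    exact Dvd.intro _ (Subgroup.relIndex_mul_index hSN)
  have hsupN : C.subgroupOf N ⊔ S' = ⊤ := by
    rw [← Subgroup.index_eq_one]
    have h1 := (Subgroup.index_dvd_of_le (le_sup_left : C.subgroupOf N ≤ C.subgroupOf N ⊔ S')).trans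
      hdvd2
    have h2 : (C.subgroupOf N ⊔ S').index ∣ S'.index := Subgroup.index_dvd_of_le le_sup_right
    obtain ⟨k, -, hk⟩ := (Nat.dvd_prime_pow Nat.prime_two).mp h1
    rcases k with _ | k
    · exact hk
    · exact absurd ((dvd_pow_self 2 (by omega : k + 1 ≠ 0)).trans (hk ▸ h2)) hoddS
  have hsup : C ⊔ (S : Subgroup G) = N := by
    refine le_antisymm (sup_le hCN hSN) fun g hg => ?_
    obtain ⟨c, hc, s, hs, hcs⟩ := Subgroup.mem_sup_of_normal_left.mp
      (hsupN.ge (Subgroup.mem_top (⟨g, hg⟩ : N)))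
    have h := congrArg Subtype.val hcs
    rw [Subgroup.coe_mul] at h
    rw [← show (c : G) * s = g from h]
    exact Subgroup.mul_mem_sup hc hs
  have hidx : (C.subgroupOf N).index = 2 := by
    have h1 : (C.subgroupOf N).relIndex S' = (C.subgroupOf N).index := by
      rw [← Subgroup.relIndex_sup_right, sup_comm, hsupN, Subgroup.relIndex_top_right]
    have h2 : (C.subgroupOf N).relIndex S' = C.relIndex (S : Subgroup G) :=
      Subgroup.relIndex_subgroupOf hSN
    rw [← h1, h2, ← Subgroup.inf_relIndex_right, inf_comm, hinf]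
    have h3 := Subgroup.card_mul_index ((Subgroup.zpowers x).subgroupOf (S : Subgroup G))
    rw [Nat.card_congr (Subgroup.subgroupOfEquivOfLe (Subgroup.zpowers_le.mpr hxS)).toEquiv,
      Nat.card_zpowers, hox, hcard, show n + 4 = n + 3 + 1 by rfl, pow_succ 2 (n + 3)] at h3
    exact Nat.eq_of_mul_eq_mul_left (by positivity) h3
  -- a Sylow subgroup of the centralizer
  let xC : C := ⟨x, hxC⟩
  have hP2 : IsPGroup 2 (Subgroup.zpowers xC) :=
    IsPGroup.of_card (n := n + 3) (by rw [Nat.card_zpowers, Subgroup.orderOf_mk, hox])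
  have hodd : ¬ 2 ∣ (Subgroup.zpowers xC).index := by
    intro h
    have h1 := Subgroup.card_mul_index (Subgroup.zpowers xC)
    rw [Nat.card_zpowers, Subgroup.orderOf_mk, hox] at h1
    have h2 := Subgroup.card_mul_index (C.subgroupOf N)
    rw [hidx, Nat.card_congr (Subgroup.subgroupOfEquivOfLe hCN).toEquiv, ← h1] at h2
    have h3 := Subgroup.card_mul_index S'
    rw [Nat.card_congr (Subgroup.subgroupOfEquivOfLe hSN).toEquiv, hcard, ← h2] at h3
    have h4 : S'.index = (Subgroup.zpowers xC).index := by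
      refine Nat.eq_of_mul_eq_mul_left (show 0 < 2 ^ (n + 4) by positivity) ?_
      rw [h3, pow_succ]
      ring
    exact hoddS (h4 ▸ h)
  have hPc : IsCyclic (Subgroup.zpowers xC) := inferInstance
  have heven : Even (Nat.card C) := even_iff_two_dvd.mpr
    ((dvd_pow_self 2 (by omega : n + 3 ≠ 0)).trans (by
      rw [← hox, show orderOf x = orderOf xC from (Subgroup.orderOf_mk _ _).symm]
      exact orderOf_dvd_natCard xC))
  obtain ⟨ψ, hψP, hψ⟩ := exists_retraction_of_cyclic_sylow_two (hP2.toSylow hodd) hPc heven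
  refine ⟨x, hxC, hox, hDx, hDcard, hSN, hsup, hidx, hinf,
    ((hP2.toSylow hodd : Sylow 2 C) : Subgroup C).subtype.comp ψ, fun c => (ψ c).2, fun c hc => ?_, fun c => ?_⟩
  · exact congrArg Subtype.val (hψP ⟨c, hc⟩)
  · rw [← hψ]
    exact ⟨fun h => Subtype.ext h, fun h => congrArg Subtype.val h⟩


/-- Suppose a Sylow 2-subgroup S of the finite group G is generalized quaternion of order at least 16, and let D be the commutator subgroup of S, C its centralizer and N its normalizer in G. Then there is a subgroup K of odd order, contained in C and normalized by N, with K ⊔ S = N and K ⊔ (S ⊓ C) = C, and C has index 2 in N. -/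
theorem result {G : Type*} [Group G] [Finite G] (S : Sylow 2 G) (n : ℕ) (e : (S : Subgroup G) ≃* QuaternionGroup (2 ^ (n + 2))) (D : Subgroup G) (hD : D = ⁅(S : Subgroup G), (S : Subgroup G)⁆) : ∃ K : Subgroup G, Odd (Nat.card K) ∧ K ≤ Subgroup.centralizer (D : Set G) ∧ Subgroup.normalizer (D : Set G) ≤ Subgroup.normalizer (K : Set G) ∧ K ⊔ (S : Subgroup G) = Subgroup.normalizer (D : Set G) ∧ K ⊔ ((S : Subgroup G) ⊓ Subgroup.centralizer (D : Set G)) = Subgroup.centralizer (D : Set G) ∧ ((Subgroup.centralizer (D : Set G)).subgroupOf (Subgroup.normalizer (D : Set G))).index = 2 := by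
  set C := Subgroup.centralizer (D : Set G) with hCdef
  set N := Subgroup.normalizer (D : Set G) with hNdef
  obtain ⟨x, hx, hox, hDx, hDcard, hSN, hsup, hidx, hinf, ψ, hψx, hψid, hψ⟩ :
      ∃ (x : G) (hx : x ∈ C), orderOf x = 2 ^ (n + 3) ∧
      D = Subgroup.zpowers (x ^ 2) ∧ Nat.card D = 2 ^ (n + 2) ∧
      (S : Subgroup G) ≤ N ∧ C ⊔ (S : Subgroup G) = N ∧ (C.subgroupOf N).index = 2 ∧
      (S : Subgroup G) ⊓ C = Subgroup.zpowers x ∧
      ∃ ψ : C →* C, (∀ c, ψ c ∈ Subgroup.zpowers (⟨x, hx⟩ : C)) ∧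
        (∀ c ∈ Subgroup.zpowers (⟨x, hx⟩ : C), ψ c = c) ∧
        ∀ c, ψ c = 1 ↔ Odd (orderOf c) := main S n e D hD
  set K := ψ.ker.map C.subtype with hKdef
  have hmem : ∀ g : G, g ∈ K ↔ g ∈ C ∧ Odd (orderOf g) := fun g => by
    constructor
    · rintro ⟨c, hc, rfl⟩
      exact ⟨c.2, by rw [Subgroup.coe_subtype, Subgroup.orderOf_coe]; exact (hψ c).mp hc⟩
    · rintro ⟨hg, hodd⟩
      exact ⟨⟨g, hg⟩, (hψ _).mpr (by rwa [Subgroup.orderOf_mk]), rfl⟩
  have hK : Odd (Nat.card K) := by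
    by_contra h
    rw [Nat.not_odd_iff_even, even_iff_two_dvd] at h
    obtain ⟨k, hk⟩ := exists_prime_orderOf_dvd_card' 2 h
    have h1 := ((hmem k).mp k.2).2
    rw [Subgroup.orderOf_coe, hk] at h1
    exact absurd h1 (by decide)
  have hCN : C ≤ N := hsup ▸ le_sup_left
  have hC : K ⊔ ((S : Subgroup G) ⊓ C) = C := by
    refine le_antisymm (sup_le (Subgroup.map_subtype_le _) inf_le_right) fun g hg => ?_
    have h1 : ((⟨g, hg⟩ : C) * (ψ ⟨g, hg⟩)⁻¹) ∈ ψ.ker := by
      rw [MonoidHom.mem_ker, map_mul, map_inv, hψid _ (hψx _), mul_inv_cancel]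
    have h2 : ((ψ ⟨g, hg⟩ : C) : G) ∈ Subgroup.zpowers x := by
      obtain ⟨k, hk⟩ := Subgroup.mem_zpowers_iff.mp (hψx ⟨g, hg⟩)
      exact ⟨k, by rw [← hk, Subgroup.coe_zpow]⟩
    have h3 := Subgroup.mul_mem_sup (show _ ∈ K from ⟨_, h1, rfl⟩) (hinf.ge h2)
    simpa using h3
  refine ⟨K, hK, Subgroup.map_subtype_le _, fun g hg => ?_, ?_, hC, hidx⟩
  · have hCnorm : ∀ a ∈ N, ∀ c ∈ C, a * c * a⁻¹ ∈ C := fun a ha c hc => by
      rw [hCdef, Subgroup.mem_centralizer_iff]
      intro d hd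
      have hd' : a⁻¹ * d * a ∈ D := by
        have := (Subgroup.mem_normalizer_iff.mp (N.inv_mem ha) d).mp hd
        rwa [inv_inv] at this
      have h := Subgroup.mem_centralizer_iff.mp hc _ hd'
      calc d * (a * c * a⁻¹) = a * (a⁻¹ * d * a * c) * a⁻¹ := by group
        _ = a * (c * (a⁻¹ * d * a)) * a⁻¹ := by rw [h]
        _ = a * c * a⁻¹ * d := by group
    rw [Subgroup.mem_normalizer_iff]
    intro k
    rw [hmem, hmem, orderOf_conj_eq]
    refine and_congr_left fun _ => ⟨hCnorm g hg k, fun h => ?_⟩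
    have h' := hCnorm g⁻¹ (N.inv_mem hg) _ h
    simpa [mul_assoc] using h'
  · refine le_antisymm (sup_le ((Subgroup.map_subtype_le _).trans hCN) hSN) ?_
    rw [← hsup]
    refine sup_le (hC.symm.le.trans (sup_le_sup_left inf_le_left K)) le_sup_right

end Cfsg.Agent.S0842
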