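import Cfsg.Statements.S0843
import Cfsg.Agent.S0842

set_option autoImplicit false
open Cfsg

namespace Cfsg.Agent.S0843

open CfsgLib.Invol


/-- Suppose a Sylow 2-subgroup S of the finite group G is generalized quaternion of order at least 16; let D be the commutator subgroup of S and X the set of elements of the centralizer of D whose order is divisible by the order of D. Then D is contained in the cyclic subgroup generated by any element of X; an element of G conjugating some element of X into the centralizer of D normalizes D; and the normalizer of D maps X to itself under conjugation. -/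
theorem result {G : Type*} [Group G] [Finite G] (S : Sylow 2 G) (n : ℕ) (e : (S : Subgroup G) ≃* QuaternionGroup (2 ^ (n + 2))) (D : Subgroup G) (hD : D = ⁅(S : Subgroup G), (S : Subgroup G)⁆) : (∀ y : G, y ∈ Subgroup.centralizer (D : Set G) → Nat.card D ∣ orderOf y → D ≤ Subgroup.zpowers y) ∧ (∀ g y : G, y ∈ Subgroup.centralizer (D : Set G) → Nat.card D ∣ orderOf y → g * y * g⁻¹ ∈ Subgroup.centralizer (D : Set G) → g ∈ Subgroup.normalizer (D : Set G)) ∧ (∀ g y : G, g ∈ Subgroup.normalizer (D : Set G) → y ∈ Subgroup.centralizer (D : Set G) → Nat.card D ∣ orderOf y → g * y * g⁻¹ ∈ Subgroup.centralizer (D : Set G) ∧ Nat.card D ∣ orderOf (g * y * g⁻¹)) := by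
  set C := Subgroup.centralizer (D : Set G) with hCdef
  obtain ⟨x, hx, hox, hDx, hDcard, hSN, hsup, hidx, hinf, ψ, hψx, hψid, hψ⟩ :
      ∃ (x : G) (hx : x ∈ C), orderOf x = 2 ^ (n + 3) ∧
      D = Subgroup.zpowers (x ^ 2) ∧ Nat.card D = 2 ^ (n + 2) ∧
      (S : Subgroup G) ≤ Subgroup.normalizer (D : Set G) ∧
      C ⊔ (S : Subgroup G) = Subgroup.normalizer (D : Set G) ∧
      (C.subgroupOf (Subgroup.normalizer (D : Set G))).index = 2 ∧
      (S : Subgroup G) ⊓ C = Subgroup.zpowers x ∧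
      ∃ ψ : C →* C, (∀ c, ψ c ∈ Subgroup.zpowers (⟨x, hx⟩ : C)) ∧
        (∀ c ∈ Subgroup.zpowers (⟨x, hx⟩ : C), ψ c = c) ∧
        ∀ c, ψ c = 1 ↔ Odd (orderOf c) := Cfsg.Agent.S0842.main S n e D hD
  have key : ∀ y : G, y ∈ C → ∀ m, orderOf y = Nat.card D * m →
      Subgroup.zpowers (y ^ m) = D := by
    intro y hy m hm
    have hm0 : m ≠ 0 := fun h => (orderOf_pos y).ne' (by rw [hm, h, mul_zero])
    set z : C := (⟨y, hy⟩ : C) ^ m with hzdef
    have hzy : (z : G) = y ^ m := SubmonoidClass.coe_pow _ _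
    have hoz : orderOf z = 2 ^ (n + 2) := by
      rw [hzdef, orderOf_pow' _ hm0, Subgroup.orderOf_mk, hm,
        Nat.gcd_eq_right (Dvd.intro_left _ rfl), hDcard,
        Nat.mul_div_cancel _ (Nat.pos_of_ne_zero hm0)]
    obtain ⟨i, hi⟩ := Subgroup.mem_zpowers_iff.mp (hψx z)
    -- `ψ z` is the square of a power of `x`
    have hpow : (ψ z) ^ (2 ^ (n + 2)) = 1 := by
      rw [← map_pow, ← hoz, pow_orderOf_eq_one, map_one]
    have hi2 : (2 : ℤ) ∣ i := by
      rw [← hi, ← zpow_natCast, ← zpow_mul, ← orderOf_dvd_iff_zpow_eq_one, Subgroup.orderOf_mk,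
        hox] at hpow
      push_cast at hpow
      rw [pow_succ, mul_comm i] at hpow
      exact (mul_dvd_mul_iff_left (by positivity)).mp hpow
    have hψD : ((ψ z : C) : G) ∈ D := by
      obtain ⟨j, rfl⟩ := hi2
      rw [hDx, ← hi, Subgroup.coe_zpow, zpow_mul]
      exact ⟨j, by rw [← zpow_natCast]; rfl⟩
    have hcomm : Commute z (ψ z)⁻¹ := (Commute.inv_right (Subtype.ext
      (Subgroup.mem_centralizer_iff.mp z.2 _ hψD).symm))
    have hz : z = ψ z := by
      rw [← mul_inv_eq_one, ← orderOf_eq_one_iff]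
      refine Nat.eq_one_of_dvd_coprimes (a := 2 ^ (n + 2)) ?_
        (orderOf_dvd_of_pow_eq_one ?_) dvd_rfl
      · refine Nat.Coprime.pow_left _ (Nat.prime_two.coprime_iff_not_dvd.mpr ?_)
        refine Nat.two_dvd_ne_zero.mpr (Nat.odd_iff.mp ((hψ _).mp ?_))
        rw [map_mul, map_inv, hψid _ (hψx z), mul_inv_cancel]
      · rw [hcomm.mul_pow, inv_pow, hpow, inv_one, mul_one, ← hoz, pow_orderOf_eq_one]
    have hzD : Subgroup.zpowers (z : G) = D := Subgroup.eq_of_le_of_card_ge
      (Subgroup.zpowers_le.mpr (hz ▸ hψD)) (by rw [Nat.card_zpowers, Subgroup.orderOf_coe, hoz, hDcard])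
    rwa [hzy] at hzD
  refine ⟨fun y hy ⟨m, hm⟩ => (key y hy m hm).symm.trans_le
    (Subgroup.zpowers_le.mpr (Subgroup.pow_mem _ (Subgroup.mem_zpowers y) m)),
    fun g y hy hdvd hgy => ?_, fun g y hg hy hdvd => ⟨?_, by rwa [orderOf_conj_eq]⟩⟩
  · obtain ⟨m, hm⟩ := hdvd
    have h4 : D.map (MulAut.conj g).toMonoidHom = D := by
      conv_lhs => rw [← key y hy m hm, MonoidHom.map_zpowers]
      conv_rhs => rw [← key _ hgy m (by rwa [orderOf_conj_eq]), conj_pow]
      rfl
    rw [Subgroup.mem_normalizer_iff]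
    intro d
    constructor
    · intro hd
      rw [← h4]
      exact ⟨d, hd, rfl⟩
    · intro hd
      rw [← h4] at hd
      obtain ⟨d', hd', he⟩ := hd
      rwa [← mul_left_cancel (mul_right_cancel (show g * d' * g⁻¹ = g * d * g⁻¹ from he))]
  · rw [hCdef, Subgroup.mem_centralizer_iff]
    intro d hd
    have hd' : g⁻¹ * d * g ∈ D := by
      have := (Subgroup.mem_normalizer_iff.mp ((Subgroup.normalizer (D : Set G)).inv_mem hg) d).mp hd
      rwa [inv_inv] at this
    have h := Subgroup.mem_centralizer_iff.mp hy _ hd'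
    calc d * (g * y * g⁻¹) = g * (g⁻¹ * d * g * y) * g⁻¹ := by group
      _ = g * (y * (g⁻¹ * d * g)) * g⁻¹ := by rw [h]
      _ = g * y * g⁻¹ * d := by group

end Cfsg.Agent.S0843
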