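import Cfsg.Statements.S0845
import Cfsg.Agent.Lib.Invol.BrauerSuzuki
import Cfsg.Agent.Lib.Char.Linear

set_option autoImplicit false
open Cfsg

namespace Cfsg.Agent.S0845

/-- Suppose a Sylow 2-subgroup S of the finite group G is generalized quaternion of order at least 16. Then G has a normal subgroup M of even order such that G / M is non-abelian, that is, M does not contain the commutator subgroup of G. -/
theorem result {G : Type*} [Group G] [Finite G] (S : Sylow 2 G) (n : ℕ) (e : (S : Subgroup G) ≃* QuaternionGroup (2 ^ (n + 2))) : ∃ M : Subgroup G, M.Normal ∧ Even (Nat.card M) ∧ ¬ commutator G ≤ M := by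
  have := Fintype.ofFinite G
  obtain ⟨x, y, hxS, -, hox, hoy, hyx, -, hS⟩ := CfsgLib.Invol.quaternion_gens (S : Subgroup G) (n + 1) e
  set z := x ^ (2 ^ (n + 1 + 1)) with hzdef
  have hz : orderOf z = 2 := by
    rw [hzdef, orderOf_pow' x (by positivity), hox, Nat.gcd_eq_right (pow_dvd_pow 2 (by omega)),
      Nat.pow_div (by omega) (by norm_num), show n + 1 + 2 - (n + 1 + 1) = 1 by omega, pow_one]
  obtain ⟨χ, hχ, -, h1, hχz⟩ :=
    CfsgLib.Invol.quat16_kernel S n e hz (pow_mem hxS _)
  have hc := CfsgLib.Char.isCharacter_of_isIrr hχ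
  have hN := CfsgLib.CharNormal.charKer_normal hc
  refine ⟨CfsgLib.CharNormal.charKer hc, hN, ?_, fun hle => h1 ?_⟩
  · rw [even_iff_two_dvd, ← hz, ← Subgroup.orderOf_mk z (show z ∈ CfsgLib.CharNormal.charKer hc from hχz)]
    exact orderOf_dvd_natCard _
  · obtain ⟨ψ, hψ, hψχ⟩ := CfsgLib.CharNormal.exists_eq_comp_mk' (CfsgLib.CharNormal.charKer hc) hc
      fun _ hk => hk
    have hψi := (CfsgLib.CharNormal.isIrr_comp_mk'_iff _ hψ).mp (hψχ.symm ▸ hχ)
    refine (congrFun hψχ 1).symm.trans ?_
    have := Fintype.ofFinite (G ⧸ CfsgLib.CharNormal.charKer hc)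
    rw [Function.comp_apply, QuotientGroup.mk_one]
    refine CfsgLib.Char.irr_one_eq_one_of_comm (fun a b => ?_) hψi
    induction a using QuotientGroup.induction_on with
    | H a =>
      induction b using QuotientGroup.induction_on with
      | H b =>
        rw [← QuotientGroup.mk_mul, ← QuotientGroup.mk_mul, eq_comm, QuotientGroup.eq]
        refine hle ?_
        rw [show (b * a)⁻¹ * (a * b) = a⁻¹ * b⁻¹ * a⁻¹⁻¹ * b⁻¹⁻¹ by group, ← commutatorElement_def]
        exact Subgroup.commutator_mem_commutator (Subgroup.mem_top _) (Subgroup.mem_top _)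

end Cfsg.Agent.S0845
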