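import Cfsg.Statements.S0848
import Mathlib
import Cfsg.Agent.Lib.InvolChar.D8
-- import your own Cfsg.Agent.* helpers here

set_option autoImplicit false
open Cfsg

namespace Cfsg.Agent.S0848

/-- If a finite group equals its own commutator subgroup and contains an involution whose centralizer is isomorphic to the dihedral group of order 8, then the group has order 168 or 360. -/
theorem result {G : Type*} [Group G] [Finite G] (hperf : commutator G = ⊤) (t : G) (ht : orderOf t = 2) (e : Subgroup.centralizer ({t} : Set G) ≃* DihedralGroup 4) : Nat.card G = 168 ∨ Nat.card G = 360 := by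
  have hG : ∀ H : Subgroup G, H.index ≠ 2 := by
    intro H hH
    haveI : H.Normal := Subgroup.normal_of_index_eq_two hH
    haveI : Fact (Nat.Prime 2) := ⟨Nat.prime_two⟩
    have hc : IsCyclic (G ⧸ H) := isCyclic_of_prime_card (p := 2) (by rw [← Subgroup.index_eq_card]; exact hH)
    have : commutator G ≤ H := by
      rw [commutator_def, Subgroup.commutator_le]
      intro x _ y _
      rw [← QuotientGroup.eq_one_iff, ← QuotientGroup.mk'_apply, map_commutatorElement,
        commutatorElement_eq_one_iff_mul_comm]
      exact hc.isMulCommutative.is_comm.comm _ _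
    rw [hperf, top_le_iff] at this
    rw [this, Subgroup.index_top] at hH
    norm_num at hH
  set C := Subgroup.centralizer ({t} : Set G) with hC
  have hC8 : Nat.card ↥C = 8 := by rw [Nat.card_congr e.toEquiv, DihedralGroup.nat_card]
  set a : ↥C := e.symm (DihedralGroup.r 1) with ha
  set b : ↥C := e.symm (DihedralGroup.sr 0) with hb
  have hao : orderOf (a : G) = 4 := by
    rw [Subgroup.orderOf_coe, ha, MulEquiv.orderOf_eq, DihedralGroup.orderOf_r_one]
  have hbo : orderOf (b : G) = 2 := by
    rw [Subgroup.orderOf_coe, hb, MulEquiv.orderOf_eq, DihedralGroup.orderOf_sr]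
  have hrel : b * a * b⁻¹ = a⁻¹ := by
    apply e.injective
    simp [ha, hb]
  exact (CfsgLib.InvolChar.dihedral_eight hG hC8 ht a.2 hao b.2 hbo (by exact_mod_cast congrArg Subtype.val hrel)).2

end Cfsg.Agent.S0848
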