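import Cfsg.Statements.S0849
import Cfsg.Agent.Lib.Char.Induced

set_option autoImplicit false
open Cfsg

namespace Cfsg.Agent.S0849

/-- Let H be a subgroup of a finite group G and S a subset of H that is mapped to itself under conjugation by H, is disjoint from its conjugate by any element outside H, and is closed under inverses. Let φ be a class function of H vanishing on H away from S, and let u, v be involutions of G. Then the sum of the induced function of φ over all products a * b with a conjugate to u and b conjugate to v equals the index of H times the sum of φ (a * b) over such pairs with a and b in H. -/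
theorem result {G : Type*} [Group G] [Fintype G] (H : Subgroup G) (S : Set G) (hSH : S ⊆ H) (hHS : ∀ h ∈ H, ∀ s ∈ S, h * s * h⁻¹ ∈ S) (hTI : ∀ g : G, g ∉ H → ∀ s ∈ S, g * s * g⁻¹ ∉ S) (hinv : ∀ s ∈ S, s⁻¹ ∈ S) (φ : H → ℂ) (hφ : Cfsg.IsClassFunction H φ) (hφS : ∀ x : H, (x : G) ∉ S → φ x = 0) (u v : G) (hu : orderOf u = 2) (hv : orderOf v = 2) : ∑ᶠ p ∈ {p : G × G | IsConj u p.1 ∧ IsConj v p.2}, Cfsg.indFun H φ (p.1 * p.2) = (H.index : ℂ) * ∑ᶠ p ∈ {p : H × H | IsConj u (p.1 : G) ∧ IsConj v (p.2 : G)}, φ (p.1 * p.2) := by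
  classical
  have hmem : ∀ a b : G, orderOf a = 2 → orderOf b = 2 → a * b ∈ S → a ∈ H ∧ b ∈ H := by
    intro a b ha hb hs
    have ha' : a⁻¹ = a := by
      rw [inv_eq_iff_mul_eq_one, ← sq, ← ha, pow_orderOf_eq_one]
    have hb' : b⁻¹ = b := by
      rw [inv_eq_iff_mul_eq_one, ← sq, ← hb, pow_orderOf_eq_one]
    have haH : a ∈ H := by
      by_contra h
      refine hTI a h _ hs ?_
      have he : a * (a * b) * a⁻¹ = (a * b)⁻¹ := by
        rw [mul_inv_rev, hb', ha', ← mul_assoc a a b]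
        have h2 : a * a = 1 := by nth_rewrite 1 [← ha']; exact inv_mul_cancel a
        rw [h2, one_mul]
      rw [he]
      exact hinv _ hs
    refine ⟨haH, ?_⟩
    simpa using H.mul_mem (H.inv_mem haH) (hSH hs)
  let P := Finset.univ.filter fun q : G × G => IsConj u q.1 ∧ IsConj v q.2
  let P' := Finset.univ.filter fun q : H × H => IsConj u (q.1 : G) ∧ IsConj v (q.2 : G)
  have h1 : ∑ᶠ p ∈ {p : G × G | IsConj u p.1 ∧ IsConj v p.2}, Cfsg.indFun H φ (p.1 * p.2) =
      ∑ q ∈ P, Cfsg.indFun H φ (q.1 * q.2) := by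
    rw [finsum_mem_eq_sum_of_inter_support_eq]
    ext q; simp [P]
  have := Fintype.ofFinite H
  have h2 : ∑ᶠ p ∈ {p : H × H | IsConj u (p.1 : G) ∧ IsConj v (p.2 : G)}, φ (p.1 * p.2) =
      ∑ q ∈ P', φ (q.1 * q.2) := by
    rw [finsum_mem_eq_sum_of_inter_support_eq]
    ext q; simp [P']
  rw [h1, h2]
  have hx : ∀ x : G, ∑ q ∈ P, Cfsg.extendByZero H φ (x⁻¹ * (q.1 * q.2) * x) =
      ∑ q ∈ P', φ (q.1 * q.2) := by
    intro x
    have e1 : ∑ q ∈ P, Cfsg.extendByZero H φ (x⁻¹ * (q.1 * q.2) * x) =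
        ∑ q ∈ P, Cfsg.extendByZero H φ (q.1 * q.2) := by
      refine Finset.sum_nbij' (fun q => (x⁻¹ * q.1 * x, x⁻¹ * q.2 * x))
        (fun q => (x * q.1 * x⁻¹, x * q.2 * x⁻¹)) ?_ ?_ ?_ ?_ ?_
      · intro q hq
        simp only [P, Finset.mem_coe, Finset.mem_filter, Finset.mem_univ, true_and] at hq ⊢
        exact ⟨hq.1.trans (isConj_iff.mpr ⟨x⁻¹, by group⟩), hq.2.trans (isConj_iff.mpr ⟨x⁻¹, by group⟩)⟩
      · intro q hq
        simp only [P, Finset.mem_coe, Finset.mem_filter, Finset.mem_univ, true_and] at hq ⊢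
        exact ⟨hq.1.trans (isConj_iff.mpr ⟨x, rfl⟩), hq.2.trans (isConj_iff.mpr ⟨x, rfl⟩)⟩
      · intro q _; ext <;> simp [mul_assoc]
      · intro q _; ext <;> simp [mul_assoc]
      · intro q _; congr 1; group
    rw [e1]
    refine (Finset.sum_of_injOn (fun q : H × H => ((q.1 : G), (q.2 : G))) ?_ ?_ ?_ ?_).symm
    · intro a _ b _ e
      exact Prod.ext (Subtype.ext (congrArg Prod.fst e)) (Subtype.ext (congrArg Prod.snd e))
    · intro a ha; simpa [P, P'] using ha
    · intro q hq hn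
      simp only [P, Finset.mem_filter, Finset.mem_univ, true_and] at hq
      by_cases hH : q.1 * q.2 ∈ H
      · rw [CfsgLib.Char.extendByZero_of_mem _ hH]
        refine hφS _ fun hs => ?_
        have ho : ∀ w z : G, IsConj w z → orderOf z = orderOf w := fun w z h => by
          obtain ⟨c, rfl⟩ := isConj_iff.mp h
          exact (MulAut.conj c).orderOf_eq w
        obtain ⟨k1, k2⟩ := hmem q.1 q.2 ((ho _ _ hq.1).trans hu) ((ho _ _ hq.2).trans hv) hs
        exact hn ⟨(⟨q.1, k1⟩, ⟨q.2, k2⟩), by simpa [P'] using hq, rfl⟩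
      · exact CfsgLib.Char.extendByZero_of_notMem _ hH
    · intro a _
      exact (CfsgLib.Char.extendByZero_coe φ (a.1 * a.2)).symm
  simp only [CfsgLib.Char.indFun_apply, ← Finset.mul_sum]
  rw [Finset.sum_comm]
  simp only [hx, Finset.sum_const, Finset.card_univ, nsmul_eq_mul, ← Nat.card_eq_fintype_card]
  rw [← H.index_mul_card, Nat.cast_mul]
  field_simp [CfsgLib.Char.card_subgroup_ne_zero H]

end Cfsg.Agent.S0849
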