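import Cfsg.Statements.S0850
import Cfsg.Agent.Lib.Char.TI

set_option autoImplicit false
open Cfsg

namespace Cfsg.Agent.S0850

/-- Let K be a subgroup of the finite group G that meets each conjugate by an element outside its normalizer N trivially, is properly contained in N, and contains the centralizer of each of its non-identity elements (a T.I. subgroup with Frobenius normalizer). Then no element of N outside K is conjugate in G to an element of K, and for every class function ϑ of N that vanishes on N away from K and at the identity, the function induced from ϑ to G agrees with ϑ on all of N. -/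
theorem result {G : Type*} [Group G] [Fintype G] (K : Subgroup G) (hTI : ∀ g : G, g ∉ Subgroup.normalizer (K : Set G) → ∀ k ∈ K, g * k * g⁻¹ ∈ K → k = 1) (hlt : K < Subgroup.normalizer (K : Set G)) (hC : ∀ k ∈ K, k ≠ 1 → Subgroup.centralizer ({k} : Set G) ≤ K) : (∀ x ∈ Subgroup.normalizer (K : Set G), x ∉ K → ∀ g : G, g * x * g⁻¹ ∉ K) ∧ ∀ (ϑ : Subgroup.normalizer (K : Set G) → ℂ), Cfsg.IsClassFunction (Subgroup.normalizer (K : Set G)) ϑ → (∀ x : Subgroup.normalizer (K : Set G), (x : G) ∉ K → ϑ x = 0) → ϑ 1 = 0 → ∀ x : Subgroup.normalizer (K : Set G), Cfsg.indFun (Subgroup.normalizer (K : Set G)) ϑ x = ϑ x := by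
  classical
  set N := Subgroup.normalizer (K : Set G) with hN
  have hKN : K ≤ N := Subgroup.le_normalizer
  have hcop : Nat.Coprime (Nat.card (K.subgroupOf N)) (K.subgroupOf N).index := by
    have : (K.subgroupOf N).Normal := Subgroup.normal_in_normalizer
    let _ : Fintype N := Fintype.ofFinite N
    refine CfsgLib.Char.coprime_card_index_of_centralizer_le _ fun k hk hk1 => ?_
    intro x hx
    have h1 := hC k hk (fun e => hk1 (Subtype.ext e))
    refine h1 ?_
    rw [Subgroup.mem_centralizer_singleton_iff] at hx ⊢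
    exact congrArg Subtype.val hx
  have part1 : ∀ x ∈ N, x ∉ K → ∀ g : G, g * x * g⁻¹ ∉ K := by
    intro x hxN hxK g hgK
    have hK' : (K.subgroupOf N).Normal := Subgroup.normal_in_normalizer
    have h1 : orderOf x ∣ Nat.card (K.subgroupOf N) := by
      have e : orderOf x = orderOf (⟨g * x * g⁻¹, hgK⟩ : K) := by
        rw [Subgroup.orderOf_mk, show g * x * g⁻¹ = MulAut.conj g x by simp]
        exact ((MulAut.conj g).orderOf_eq x).symm
      rw [e, Nat.card_congr (Subgroup.subgroupOfEquivOfLe hKN).toEquiv]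
      exact orderOf_dvd_natCard _
    have h2 : orderOf ((⟨x, hxN⟩ : N) : N ⧸ K.subgroupOf N) ∣ orderOf x := by
      rw [← Subgroup.orderOf_mk x hxN]
      exact orderOf_map_dvd (QuotientGroup.mk' _) _
    have h3 : orderOf ((⟨x, hxN⟩ : N) : N ⧸ K.subgroupOf N) ∣ (K.subgroupOf N).index :=
      orderOf_dvd_natCard _
    have h4 : ((⟨x, hxN⟩ : N) : N ⧸ K.subgroupOf N) = 1 :=
      orderOf_eq_one_iff.mp (Nat.eq_one_of_dvd_coprimes hcop (h2.trans h1) h3)
    exact hxK ((QuotientGroup.eq_one_iff (⟨x, hxN⟩ : N)).mp h4)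
  refine ⟨part1, fun ϑ hcl hK h1 x => ?_⟩
  by_cases hx : (x : G) ∈ K
  · rcases eq_or_ne x 1 with rfl | hx1
    · simp [CfsgLib.Char.indFun_one, h1]
    · exact CfsgLib.Char.indFun_eq_of_TI N (K : Set G) hTI hcl hK hx hx1
  · rw [hK x hx]
    refine CfsgLib.Char.indFun_eq_zero_of_forall N fun y hy => hK _ fun hmem => ?_
    refine part1 x x.2 hx y⁻¹ ?_
    simpa using hmem

end Cfsg.Agent.S0850
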