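import Cfsg.Statements.S0851
import Cfsg.Agent.Lib.Char.TICoherence

set_option autoImplicit false
open Cfsg

namespace Cfsg.Agent.S0851

open CfsgLib.Char


/-- Let K be a subgroup of the finite group G that meets each conjugate by an element outside its normalizer N trivially, is properly contained in N, and contains the centralizer of each of its non-identity elements (a T.I. subgroup with Frobenius normalizer). Suppose K is abelian, let e be the index of K in N, and call an irreducible character of N relevant when it takes at some element of K a value different from its degree. Then either there is exactly one relevant character and K is an elementary abelian p-group of order e + 1 for some prime p, or there are a sign ε and an injective map f from the relevant characters to the irreducible characters of G such that inducing χ - ξ to G gives ε (f χ - f ξ) for all relevant χ and ξ. -/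
theorem result {G : Type*} [Group G] [Fintype G] (K : Subgroup G) (hTI : ∀ g : G, g ∉ Subgroup.normalizer (K : Set G) → ∀ k ∈ K, g * k * g⁻¹ ∈ K → k = 1) (hlt : K < Subgroup.normalizer (K : Set G)) (hC : ∀ k ∈ K, k ≠ 1 → Subgroup.centralizer ({k} : Set G) ≤ K) (hab : ∀ a ∈ K, ∀ b ∈ K, a * b = b * a) : (Nat.card {χ : Cfsg.IrrCharacter (Subgroup.normalizer (K : Set G)) // ∃ k : Subgroup.normalizer (K : Set G), (k : G) ∈ K ∧ (χ : ↥(Subgroup.normalizer (K : Set G)) → ℂ) k ≠ (χ : ↥(Subgroup.normalizer (K : Set G)) → ℂ) 1} = 1 ∧ ∃ p : ℕ, p.Prime ∧ Cfsg.IsElementaryAbelian p K ∧ Nat.card K = (K.subgroupOf (Subgroup.normalizer (K : Set G))).index + 1) ∨ ∃ (ε : ℂ) (f : {χ : Cfsg.IrrCharacter (Subgroup.normalizer (K : Set G)) // ∃ k : Subgroup.normalizer (K : Set G), (k : G) ∈ K ∧ (χ : ↥(Subgroup.normalizer (K : Set G)) → ℂ) k ≠ (χ : ↥(Subgroup.normalizer (K : Set G)) → ℂ) 1} → Cfsg.IrrCharacter G), (ε = 1 ∨ ε = -1) ∧ Function.Injective f ∧ ∀ χ ξ, Cfsg.indFun (Subgroup.normalizer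 (K : Set G)) ((χ.1 : ↥(Subgroup.normalizer (K : Set G)) → ℂ) - (ξ.1 : ↥(Subgroup.normalizer (K : Set G)) → ℂ)) = ε • ((f χ : G → ℂ) - (f ξ : G → ℂ)) := by
  classical
  right
  set N := Subgroup.normalizer (K : Set G) with hN
  have := Fintype.ofFinite N
  set K' := K.subgroupOf N with hK'
  have : K'.Normal := Subgroup.normal_in_normalizer
  have := Fintype.ofFinite K'
  have hC' : ∀ k ∈ K', k ≠ 1 → Subgroup.centralizer ({k} : Set N) ≤ K' :=
    centralizer_subgroupOf_le K hC N
  have hdeg : ∀ χ : Cfsg.IrrCharacter N, IsRelevant K' (χ : N → ℂ) →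
      (χ : N → ℂ) 1 = (K'.index : ℂ) := by
    intro χ hχ
    obtain ⟨θ, hθ, he⟩ := exists_eq_indFun_of_relevant K' hC' χ.2 hχ
    rw [he, indFun_one, irr_one_eq_one_of_comm (fun a b : K' => Subtype.ext (Subtype.ext
      (hab _ (Subgroup.mem_subgroupOf.mp a.2) _ (Subgroup.mem_subgroupOf.mp b.2)))) hθ, mul_one]
  let ι := {χ : Cfsg.IrrCharacter N // ∃ k : N, (k : G) ∈ K ∧ (χ : N → ℂ) k ≠ (χ : N → ℂ) 1}
  by_cases hne : Nonempty ι
  swap
  · exact ⟨1, fun χ => absurd ⟨χ⟩ hne, Or.inl rfl, fun χ => absurd ⟨χ⟩ hne,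
      fun χ => absurd ⟨χ⟩ hne⟩
  obtain ⟨i₀⟩ := hne
  have hrel : ∀ i : ι, IsRelevant K' (i.1 : N → ℂ) := fun i =>
    (isRelevant_subgroupOf_iff K N _).mpr i.2
  let ψ : ι → (N → ℂ) := fun i => (i.1 : N → ℂ) - (i₀.1 : N → ℂ)
  let τ : ι → G → ℂ := fun i => Cfsg.indFun N (ψ i)
  have hψcl : ∀ i, Cfsg.IsClassFunction N (ψ i) := fun i =>
    isClassFunction_sub (isClassFunction_of_isIrr i.1.2) (isClassFunction_of_isIrr i₀.1.2)
  have hψ1 : ∀ i, ψ i 1 = 0 := fun i => by
    show (i.1 : N → ℂ) 1 - (i₀.1 : N → ℂ) 1 = 0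
    rw [hdeg _ (hrel i), hdeg _ (hrel i₀), sub_self]
  have hψT : ∀ i, ∀ x : N, (x : G) ∉ (K : Set G) → ψ i x = 0 := fun i x hx => by
    show (i.1 : N → ℂ) x - (i₀.1 : N → ℂ) x = 0
    rw [relevant_apply_eq_zero K' hC' i.1.2 (hrel i) hx,
      relevant_apply_eq_zero K' hC' i₀.1.2 (hrel i₀) hx, sub_self]
  obtain ⟨ε, hε, μ, hμ, hμi, hτ⟩ := coherent_of_gram i₀ τ
    (by simp only [τ, ψ, sub_self, indFun_zero])
    (fun i => isGen_indFun N (isGen_sub (isGen_of_irr i.1.2) (isGen_of_irr i₀.1.2)))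
    (fun i => by simp only [τ, indFun_one, hψ1, mul_zero])
    (fun i j hi hj => by
      simp only [τ]
      rw [classInner_indFun_of_TI N (K : Set G) hTI (hψcl j) (hψT i) (hψT j) (hψ1 i)]
      simp only [ψ]
      rw [irr_sub_inner]
      have e1 : (i.1 : Cfsg.IrrCharacter N) ≠ i₀.1 := fun h => hi (Subtype.ext h)
      have e2 : (j.1 : Cfsg.IrrCharacter N) ≠ i₀.1 := fun h => hj (Subtype.ext h)
      rw [if_neg e1, if_neg e2.symm, if_pos rfl]
      by_cases hij : i = j
      · rw [if_pos hij, if_pos (congrArg Subtype.val hij)]; norm_num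
      · rw [if_neg hij, if_neg fun h => hij (Subtype.ext h)]; norm_num)
  refine ⟨ε, fun i => ⟨μ i, hμ i⟩, hε, fun a b h => hμi (congrArg Subtype.val h), fun i j => ?_⟩
  have e : (i.1 : N → ℂ) - (j.1 : N → ℂ) = ψ i - ψ j := by simp only [ψ]; abel
  rw [e, indFun_sub, show Cfsg.indFun N (ψ i) = τ i from rfl,
    show Cfsg.indFun N (ψ j) = τ j from rfl, hτ i, hτ j, ← smul_sub]
  congr 1
  abel

end Cfsg.Agent.S0851
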