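import Cfsg.Statements.S0852
import Cfsg.Agent.Lib.Char.TICoherence

set_option autoImplicit false
open Cfsg

namespace Cfsg.Agent.S0852

open CfsgLib.Char


/-- Let K be a subgroup of the finite group G that meets each conjugate by an element outside its normalizer N trivially, is properly contained in N, and contains the centralizer of each of its non-identity elements (a T.I. subgroup with Frobenius normalizer). Let S be the set of irreducible characters of N taking at some element of K a value different from their degree, suppose S has at least two members, and let star be a linear isometry on the integer span of S into the generalized characters of G that agrees with induction on the members vanishing at the identity (so S is coherent, with star as the extending isometry). Then an irreducible character ψ of G is of the form star χ or -star χ for some χ in S if and only if ψ is not constant on the non-identity elements of K. -/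
theorem result {G : Type*} [Group G] [Fintype G] (K : Subgroup G) (hTI : ∀ g : G, g ∉ Subgroup.normalizer (K : Set G) → ∀ k ∈ K, g * k * g⁻¹ ∈ K → k = 1) (hlt : K < Subgroup.normalizer (K : Set G)) (hC : ∀ k ∈ K, k ≠ 1 → Subgroup.centralizer ({k} : Set G) ≤ K) [Fintype ↥(Subgroup.normalizer (K : Set G))] (S : Set (↥(Subgroup.normalizer (K : Set G)) → ℂ)) (hS : S = {χ : ↥(Subgroup.normalizer (K : Set G)) → ℂ | Cfsg.IsIrrCharacter ↥(Subgroup.normalizer (K : Set G)) χ ∧ ∃ k : ↥(Subgroup.normalizer (K : Set G)), (k : G) ∈ K ∧ χ k ≠ χ 1}) (htwo : ∃ χ ∈ S, ∃ ξ ∈ S, χ ≠ ξ) (star : (↥(Subgroup.normalizer (K : Set G)) → ℂ) → (G → ℂ)) (hstar : Cfsg.IsLinearIsometryOn (Cfsg.zspan S) star) (hext : ∀ α ∈ Cfsg.zspanOn S ({1}ᶜ : Set ↥(Subgroup.normalizer (K : Set G))), star α = Cfsg.indFun (Subgroup.normalizer (K : Set G)) α) (ψ : G → ℂ) (hψ : Cfsg.IsIrrCharacter G ψ) : (∃ χ ∈ S, ψ = star χ ∨ ψ = -star χ) ↔ ∃ a ∈ K, ∃ b ∈ K, a ≠ 1 ∧ b ≠ 1 ∧ ψ a ≠ ψ b := by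
  classical
  set K' := K.subgroupOf (Subgroup.normalizer (K : Set G)) with hK'
  have : K'.Normal := Subgroup.normal_in_normalizer
  have := Fintype.ofFinite K'
  have hC' : ∀ k ∈ K', k ≠ 1 → Subgroup.centralizer ({k} : Set (Subgroup.normalizer (K : Set G))) ≤ K' :=
    centralizer_subgroupOf_le K hC (Subgroup.normalizer (K : Set G))
  have hmem : ∀ χ : (Subgroup.normalizer (K : Set G)) → ℂ, χ ∈ S ↔ Cfsg.IsIrrCharacter (Subgroup.normalizer (K : Set G)) χ ∧ IsRelevant K' χ := fun χ => by
    rw [hS, isRelevant_subgroupOf_iff]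
    rfl
  have hdiff := fun {χ ξ : (Subgroup.normalizer (K : Set G)) → ℂ} (hχ : χ ∈ S) (hξ : ξ ∈ S) =>
    star_difference K (Subgroup.normalizer (K : Set G)) hTI hC S hS star hstar hext hχ hξ
  have hsc : ∀ χ ∈ S, Cfsg.IsClassFunction G (star χ) := fun χ hχ =>
    isClassFunction_of_isGen (hstar.2.2.2 χ (Submodule.subset_span hχ))
  -- restrictions of images of `S` differ from the original by constants on `K∖1`
  have hconst : ∀ χ ∈ S, ∀ a : (Subgroup.normalizer (K : Set G)), (a : G) ∈ K → a ≠ 1 → ∀ b : (Subgroup.normalizer (K : Set G)), (b : G) ∈ K → b ≠ 1 →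
      star χ a - χ a = star χ b - χ b := by
    intro χ hχ a ha ha1 b hb hb1
    have hres : Cfsg.IsClassFunction (Subgroup.normalizer (K : Set G)) (fun x : (Subgroup.normalizer (K : Set G)) => star χ x) :=
      fun x y => hsc χ hχ (x : G) (y : G)
    refine apply_eq_of_orthogonal K' (F := fun x : (Subgroup.normalizer (K : Set G)) => star χ x - χ x)
      (isClassFunction_sub hres (isClassFunction_of_isIrr ((hmem χ).mp hχ).1))
      (fun u v hu hur hv hvr => ?_) ha ha1 hb hb1
    obtain ⟨h1, h2, -, -⟩ := hdiff ((hmem u).mpr ⟨hu, hur⟩) ((hmem v).mpr ⟨hv, hvr⟩)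
    have h3 := hstar.2.2.1 χ (Submodule.subset_span hχ) _ h1
    rw [h2, frobenius_reciprocity' (Subgroup.normalizer (K : Set G)) _ (hsc χ hχ)] at h3
    show Cfsg.classInner ((fun x : (Subgroup.normalizer (K : Set G)) => star χ x) - χ) _ = 0
    rw [classInner_sub_left, h3, sub_self]
  constructor
  · rintro ⟨χ, hχ, hψχ⟩
    obtain ⟨η, hη, ξ, hξ, hne⟩ := htwo
    obtain ⟨ξ', hξ', hne'⟩ : ∃ ξ' ∈ S, χ ≠ ξ' := by
      by_cases h : χ = η
      · exact ⟨ξ, hξ, h ▸ hne⟩
      · exact ⟨η, hη, h⟩
    obtain ⟨a, ha, b, hb, ha1, hb1, hab⟩ := exists_ne_of_relevant K' hC' ((hmem χ).mp hχ).1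
      ((hmem χ).mp hχ).2 ((hmem ξ').mp hξ').1 ((hmem ξ').mp hξ').2 hne'
    refine ⟨a, ha, b, hb, fun h => ha1 (Subtype.ext h), fun h => hb1 (Subtype.ext h), fun he => hab ?_⟩
    have h := hconst χ hχ a ha ha1 b hb hb1
    have he' : star χ a = star χ b := by
      rcases hψχ with h' | h' <;> rw [h'] at he
      · exact he
      · simpa using he
    linear_combination he' - h
  · rintro ⟨a, ha, b, hb, ha1, hb1, hab⟩
    by_contra hcon
    push Not at hcon
    refine hab ?_
    have haN : a ∈ (Subgroup.normalizer (K : Set G)) := Subgroup.le_normalizer ha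
    have hbN : b ∈ (Subgroup.normalizer (K : Set G)) := Subgroup.le_normalizer hb
    have hψc := isClassFunction_of_isIrr hψ
    have horth : ∀ χ ∈ S, Cfsg.classInner ψ (star χ) = 0 := by
      intro χ hχ
      have hn : Cfsg.classInner (star χ) (star χ) = 1 := by
        rw [hstar.2.2.1 χ (Submodule.subset_span hχ) χ (Submodule.subset_span hχ),
          classInner_irr_self ((hmem χ).mp hχ).1]
      rcases gen_norm_one (hstar.2.2.2 χ (Submodule.subset_span hχ)) hn with h | h
      · exact classInner_irr_ne hψ h (hcon χ hχ).1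
      · have := classInner_irr_ne hψ h (hcon χ hχ).2
        rwa [classInner_neg_right, neg_eq_zero] at this
    refine apply_eq_of_orthogonal K' (F := fun x : (Subgroup.normalizer (K : Set G)) => ψ x) (fun x y => hψc (x : G) (y : G))
      (fun u v hu hur hv hvr => ?_) (a := ⟨a, haN⟩) (b := ⟨b, hbN⟩) ha
      (fun h => ha1 (congrArg Subtype.val h)) hb (fun h => hb1 (congrArg Subtype.val h))
    obtain ⟨-, h2, h3, -⟩ := hdiff ((hmem u).mpr ⟨hu, hur⟩) ((hmem v).mpr ⟨hv, hvr⟩)
    have h4 := frobenius_reciprocity' (Subgroup.normalizer (K : Set G)) (v 1 • u - u 1 • v) hψc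
    rw [← h2, h3, classInner_sub_right, classInner_smul_right, classInner_smul_right,
      horth u ((hmem u).mpr ⟨hu, hur⟩), horth v ((hmem v).mpr ⟨hv, hvr⟩), mul_zero, mul_zero,
      sub_zero] at h4
    exact h4.symm

end Cfsg.Agent.S0852
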