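import Cfsg.Statements.S0853
import Cfsg.Agent.Lib.Char.TICoherence

set_option autoImplicit false
open Cfsg

namespace Cfsg.Agent.S0853

open CfsgLib.Char


/-- Let K be a subgroup of the finite group G that meets each conjugate by an element outside its normalizer N trivially, is properly contained in N, and contains the centralizer of each of its non-identity elements (a T.I. subgroup with Frobenius normalizer). Let S be the set of irreducible characters of N taking at some element of K a value different from their degree, suppose S has at least two members, and let star be a linear isometry on the integer span of S into the generalized characters of G that agrees with induction on the members vanishing at the identity (so S is coherent, with star as the extending isometry). Then there is a single integer m such that star χ k - χ k = m * χ 1 / e for every χ in S and every non-identity element k of K, where e is the index of K in N. -/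
theorem result {G : Type*} [Group G] [Fintype G] (K : Subgroup G) (hTI : ∀ g : G, g ∉ Subgroup.normalizer (K : Set G) → ∀ k ∈ K, g * k * g⁻¹ ∈ K → k = 1) (hlt : K < Subgroup.normalizer (K : Set G)) (hC : ∀ k ∈ K, k ≠ 1 → Subgroup.centralizer ({k} : Set G) ≤ K) [Fintype ↥(Subgroup.normalizer (K : Set G))] (S : Set (↥(Subgroup.normalizer (K : Set G)) → ℂ)) (hS : S = {χ : ↥(Subgroup.normalizer (K : Set G)) → ℂ | Cfsg.IsIrrCharacter ↥(Subgroup.normalizer (K : Set G)) χ ∧ ∃ k : ↥(Subgroup.normalizer (K : Set G)), (k : G) ∈ K ∧ χ k ≠ χ 1}) (htwo : ∃ χ ∈ S, ∃ ξ ∈ S, χ ≠ ξ) (star : (↥(Subgroup.normalizer (K : Set G)) → ℂ) → (G → ℂ)) (hstar : Cfsg.IsLinearIsometryOn (Cfsg.zspan S) star) (hext : ∀ α ∈ Cfsg.zspanOn S ({1}ᶜ : Set ↥(Subgroup.normalizer (K : Set G))), star α = Cfsg.indFun (Subgroup.normalizer (K : Set G)) α) : ∃ m : ℤ, ∀ χ ∈ S, ∀ k : ↥(Subgroup.normalizer (K : Set G)), (k : G) ∈ K → k ≠ 1 → star χ k - χ k = (m : ℂ) * χ 1 / ((K.subgroupOf (Subgroup.normalizer (K : Set G))).index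 : ℂ) := by
  classical
  set K' := K.subgroupOf (Subgroup.normalizer (K : Set G)) with hK'
  have : K'.Normal := Subgroup.normal_in_normalizer
  have := Fintype.ofFinite K'
  have hC' : ∀ k ∈ K', k ≠ 1 → Subgroup.centralizer ({k} : Set (Subgroup.normalizer (K : Set G))) ≤ K' :=
    centralizer_subgroupOf_le K hC (Subgroup.normalizer (K : Set G))
  have hmem : ∀ χ : (Subgroup.normalizer (K : Set G)) → ℂ, χ ∈ S ↔ Cfsg.IsIrrCharacter (Subgroup.normalizer (K : Set G)) χ ∧ IsRelevant K' χ := fun χ => by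
    rw [hS, isRelevant_subgroupOf_iff]
    rfl
  have hdiff := fun {χ ξ : (Subgroup.normalizer (K : Set G)) → ℂ} (hχ : χ ∈ S) (hξ : ξ ∈ S) =>
    star_difference K (Subgroup.normalizer (K : Set G)) hTI hC S hS star hstar hext hχ hξ
  have hsc : ∀ χ ∈ S, Cfsg.IsClassFunction G (star χ) := fun χ hχ =>
    isClassFunction_of_isGen (hstar.2.2.2 χ (Submodule.subset_span hχ))
  -- restrictions of images of `S` differ from the original by constants on `K∖1`
  have hconst : ∀ χ ∈ S, ∀ a : (Subgroup.normalizer (K : Set G)), (a : G) ∈ K → a ≠ 1 → ∀ b : (Subgroup.normalizer (K : Set G)), (b : G) ∈ K → b ≠ 1 →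
      star χ a - χ a = star χ b - χ b := by
    intro χ hχ a ha ha1 b hb hb1
    have hres : Cfsg.IsClassFunction (Subgroup.normalizer (K : Set G)) (fun x : (Subgroup.normalizer (K : Set G)) => star χ x) :=
      fun x y => hsc χ hχ (x : G) (y : G)
    refine apply_eq_of_orthogonal K' (F := fun x : (Subgroup.normalizer (K : Set G)) => star χ x - χ x)
      (isClassFunction_sub hres (isClassFunction_of_isIrr ((hmem χ).mp hχ).1))
      (fun u v hu hur hv hvr => ?_) ha ha1 hb hb1
    obtain ⟨h1, h2, -, -⟩ := hdiff ((hmem u).mpr ⟨hu, hur⟩) ((hmem v).mpr ⟨hv, hvr⟩)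
    have h3 := hstar.2.2.1 χ (Submodule.subset_span hχ) _ h1
    rw [h2, frobenius_reciprocity' (Subgroup.normalizer (K : Set G)) _ (hsc χ hχ)] at h3
    show Cfsg.classInner ((fun x : (Subgroup.normalizer (K : Set G)) => star χ x) - χ) _ = 0
    rw [classInner_sub_left, h3, sub_self]
  obtain ⟨η, hη, -⟩ := htwo
  obtain ⟨k₀, hk₀, hk₀η⟩ := ((hmem η).mp hη).2
  have hk1 : k₀ ≠ 1 := fun h => hk₀η (h ▸ rfl)
  have hint : ∀ χ ∈ S, ∀ k : (Subgroup.normalizer (K : Set G)), IsIntegral ℤ (star χ k - χ k) := fun χ hχ k =>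
    (gen_isIntegral (hstar.2.2.2 χ (Submodule.subset_span hχ)) _).sub
      (char_isIntegral (isCharacter_of_isIrr ((hmem χ).mp hχ).1) k)
  -- the differences are rational integers proportional to the degrees
  let d : Cfsg.IrrCharacter (Subgroup.normalizer (K : Set G)) → ℕ := fun χ =>
    if h : IsRelevant K' (χ : (Subgroup.normalizer (K : Set G)) → ℂ) then (exists_relevant_degree K' hC' χ.2 h).choose else 0
  have hd : ∀ χ : Cfsg.IrrCharacter (Subgroup.normalizer (K : Set G)), IsRelevant K' (χ : (Subgroup.normalizer (K : Set G)) → ℂ) →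
      (χ : (Subgroup.normalizer (K : Set G)) → ℂ) 1 = ((K'.index * d χ : ℕ) : ℂ) := fun χ h => by
    simp only [d, dif_pos h]
    exact (exists_relevant_degree K' hC' χ.2 h).choose_spec.2.2
  let D : Cfsg.IrrCharacter (Subgroup.normalizer (K : Set G)) → ℂ := fun χ => star χ k₀ - (χ : (Subgroup.normalizer (K : Set G)) → ℂ) k₀
  let η' : Cfsg.IrrCharacter (Subgroup.normalizer (K : Set G)) := ⟨η, ((hmem η).mp hη).1⟩
  have hη'r : IsRelevant K' (η' : (Subgroup.normalizer (K : Set G)) → ℂ) := ((hmem η).mp hη).2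
  have hi : (K'.index : ℂ) ≠ 0 := Nat.cast_ne_zero.mpr Subgroup.index_ne_zero_of_finite
  have hprop : ∀ χ : Cfsg.IrrCharacter (Subgroup.normalizer (K : Set G)), IsRelevant K' (χ : (Subgroup.normalizer (K : Set G)) → ℂ) →
      (d η' : ℂ) * D χ = (d χ : ℂ) * D η' := by
    intro χ hχ
    obtain ⟨-, -, -, h⟩ := hdiff ((hmem χ).mpr ⟨χ.2, hχ⟩) hη
    have h1 := h k₀ hk₀ hk1
    rw [show η 1 = ((K'.index * d η' : ℕ) : ℂ) from hd η' hη'r, hd χ hχ, Nat.cast_mul,
      Nat.cast_mul] at h1
    apply mul_left_cancel₀ hi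
    simp only [D, η']
    linear_combination h1
  have hd0 : d η' ≠ 0 := fun h => irr_one_ne_zero η'.2 (by rw [hd η' hη'r, h]; simp)
  have hgcd := gcd_degree_eq_one K' hC' d hd ⟨η', hη'r⟩
  have hrat : ∀ χ : Cfsg.IrrCharacter (Subgroup.normalizer (K : Set G)), IsRelevant K' (χ : (Subgroup.normalizer (K : Set G)) → ℂ) → ∃ z : ℤ, D χ = z := by
    -- the average over `K` is an integer
    intro χ hχ
    have hχS : (χ : (Subgroup.normalizer (K : Set G)) → ℂ) ∈ S := (hmem _).mpr ⟨χ.2, hχ⟩
    let F : (Subgroup.normalizer (K : Set G)) → ℂ := fun x => star χ x - (χ : (Subgroup.normalizer (K : Set G)) → ℂ) x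
    have hF : Cfsg.IsGeneralizedCharacter (Subgroup.normalizer (K : Set G)) F :=
      isGen_sub (isGen_res (Subgroup.normalizer (K : Set G)) (hstar.2.2.2 χ (Submodule.subset_span hχS))) (isGen_of_irr χ.2)
    obtain ⟨t, ht⟩ := classInner_gen_int (isGen_res K' hF) (isGen_one (G := K'))
    obtain ⟨u, hu⟩ := gen_one_int hF
    rw [classInner_one_right, ← Finset.add_sum_erase _ _ (Finset.mem_univ (1 : K')),
      Finset.sum_congr rfl (g := fun _ => D χ) (fun k hkk => by
        exact hconst χ hχS (k : (Subgroup.normalizer (K : Set G))) k.2 (fun h => Finset.ne_of_mem_erase hkk (Subtype.ext h))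
          k₀ hk₀ hk1),
      Finset.sum_const, Finset.card_erase_of_mem (Finset.mem_univ _), Finset.card_univ,
      nsmul_eq_mul, ← Nat.card_eq_fintype_card,
      inv_mul_eq_iff_eq_mul₀ (card_subgroup_ne_zero K'), Subgroup.coe_one, hu] at ht
    have : Nontrivial K' := ⟨⟨⟨k₀, hk₀⟩, 1, fun h => hk1 (congrArg Subtype.val h)⟩⟩
    have hc : 1 < Nat.card K' := Finite.one_lt_card
    have hn : ((Nat.card K' - 1 : ℕ) : ℂ) ≠ 0 := Nat.cast_ne_zero.mpr (by omega)
    have hq : D χ = ((((Nat.card K' : ℤ) * t - u : ℤ) : ℚ) / ((Nat.card K' - 1 : ℕ) : ℚ) : ℚ) := by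
      push_cast
      rw [eq_div_iff hn]
      linear_combination ht
    obtain ⟨z, hz⟩ := exists_int_of_isIntegral_rat (by
      rw [← hq]
      exact hint _ hχS k₀)
    exact ⟨z, by rw [hq, hz, Rat.cast_intCast]⟩
  choose z hz using hrat
  have hdvd : (d η' : ℤ) ∣ z η' hη'r := by
    have h1 : ∀ χ ∈ Finset.univ.filter (fun χ : Cfsg.IrrCharacter (Subgroup.normalizer (K : Set G)) => IsRelevant K' (χ : (Subgroup.normalizer (K : Set G)) → ℂ)),
        d η' ∣ (z η' hη'r).natAbs * d χ := by
      intro χ hχ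
      have hr := (Finset.mem_filter.mp hχ).2
      have h := hprop χ hr
      rw [hz χ hr, hz η' hη'r] at h
      have h' : (d η' : ℤ) * z χ hr = (d χ : ℤ) * z η' hη'r := by exact_mod_cast h
      have h'' := congrArg Int.natAbs h'
      rw [Int.natAbs_mul, Int.natAbs_mul, Int.natAbs_natCast, Int.natAbs_natCast,
        mul_comm (d χ)] at h''
      exact Dvd.intro _ h''
    have h2 := Finset.dvd_gcd h1
    rw [Finset.gcd_mul_left, hgcd, mul_one, normalize_eq] at h2
    exact Int.natCast_dvd.mpr h2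
  obtain ⟨m, hm⟩ := hdvd
  refine ⟨m, fun χ hχ k hk hk1' => ?_⟩
  let χ' : Cfsg.IrrCharacter (Subgroup.normalizer (K : Set G)) := ⟨χ, ((hmem χ).mp hχ).1⟩
  have hχr : IsRelevant K' (χ' : (Subgroup.normalizer (K : Set G)) → ℂ) := ((hmem χ).mp hχ).2
  rw [hconst χ hχ k hk hk1' k₀ hk₀ hk1, show χ 1 = ((K'.index * d χ' : ℕ) : ℂ) from hd χ' hχr,
    eq_div_iff hi]
  have h := hprop χ' hχr
  rw [hz η' hη'r, hm] at h
  push_cast at h ⊢
  have h2 : D χ' = (d χ' : ℂ) * m := mul_left_cancel₀ (Nat.cast_ne_zero.mpr hd0)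
    (h.trans (by ring))
  simp only [D, χ'] at h2
  rw [h2]
  ring

end Cfsg.Agent.S0853
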