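import Cfsg.Statements.S0855
import Cfsg.Agent.Lib.Char.Ito
import Cfsg.Agent.Lib.Char.Linear
import Cfsg.Agent.Lib.CharNormal.Clifford

set_option autoImplicit false
open Cfsg

namespace Cfsg.Agent.S0855

open CfsgLib.Char CfsgLib.CharNormal

universe u

theorem exists_normal_index_eq_prime {G : Type*} [Group G] [Finite G] {p : ℕ} (hp : p.Prime)
    (hpG : p ∣ Nat.card G)
    (hdeg : ∀ χ : Cfsg.IrrCharacter G, ∃ k : ℕ, (χ : G → ℂ) 1 = (p : ℂ) ^ k) :
    ∃ N : Subgroup G, N.Normal ∧ N.index = p := by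
  classical
  have := Fintype.ofFinite G
  choose d hd using hdeg
  have hsq : ∑ χ : Cfsg.IrrCharacter G, (p ^ d χ) ^ 2 = Nat.card G := by
    have h := sum_degree_sq (G := G)
    simp only [hd] at h
    exact_mod_cast h
  rw [← Finset.sum_filter_add_sum_filter_not Finset.univ (fun χ => d χ = 0)] at hsq
  have h2 : p ∣ ∑ χ ∈ Finset.univ.filter (fun χ => ¬ d χ = 0), (p ^ d χ) ^ 2 :=
    Finset.dvd_sum fun χ hχ => dvd_pow (dvd_pow_self p (Finset.mem_filter.mp hχ).2) two_ne_zero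
  have h3 : p ∣ Nat.card {χ : Cfsg.IrrCharacter G // (χ : G → ℂ) 1 = 1} := by
    have h1 : ∑ χ ∈ Finset.univ.filter (fun χ => d χ = 0), (p ^ d χ) ^ 2 =
        Nat.card {χ : Cfsg.IrrCharacter G // (χ : G → ℂ) 1 = 1} := by
      rw [Finset.sum_congr rfl (fun χ hχ => by rw [(Finset.mem_filter.mp hχ).2, pow_zero, one_pow] :
        ∀ χ ∈ Finset.univ.filter (fun χ => d χ = 0), (p ^ d χ) ^ 2 = 1),
        Nat.card_eq_fintype_card, Fintype.card_subtype, Finset.sum_const, smul_eq_mul, mul_one]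
      congr 1
      refine Finset.filter_congr fun χ _ => ?_
      rw [hd χ]
      constructor
      · intro h; simp [h]
      · intro h
        have : p ^ d χ = 1 := by exact_mod_cast h
        exact (Nat.pow_eq_one.mp this).resolve_left hp.one_lt.ne'
    rw [← h1]
    exact (Nat.dvd_add_left h2).mp (hsq ▸ hpG)
  let e : {χ : Cfsg.IrrCharacter G // (χ : G → ℂ) 1 = 1} ≃ (G →* ℂˣ) :=
    { toFun := fun χ => linearHom (isCharacter_of_isIrr χ.1.2) χ.2
      invFun := fun f => ⟨⟨fun g => (f g : ℂ), isIrrCharacter_units_hom f⟩, by simp⟩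
      left_inv := fun χ => rfl
      right_inv := fun f => MonoidHom.ext fun g => Units.ext rfl }
  have := Finite.of_equiv _ e
  rw [Nat.card_congr e] at h3
  have : Fact p.Prime := ⟨hp⟩
  obtain ⟨f, hf⟩ := exists_prime_orderOf_dvd_card' p h3
  refine ⟨f.ker, inferInstance, ?_⟩
  rw [Subgroup.index_ker]
  have : NeZero p := ⟨hp.ne_zero⟩
  have hle : f.range ≤ rootsOfUnity p ℂ := by
    rintro _ ⟨g, rfl⟩
    rw [mem_rootsOfUnity, ← MonoidHom.pow_apply, ← hf, pow_orderOf_eq_one, MonoidHom.one_apply]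
  have hdvd := Subgroup.card_dvd_of_le hle
  rw [Complex.card_rootsOfUnity] at hdvd
  refine ((Nat.dvd_prime hp).mp hdvd).resolve_left fun h => hp.one_lt.ne ?_
  rw [← hf, orderOf_eq_one_iff.mpr]
  ext g
  have : f g ∈ f.range := ⟨g, rfl⟩
  rw [Subgroup.card_eq_one.mp h, Subgroup.mem_bot] at this
  simp [this]

theorem aux {p : ℕ} (hp : p.Prime) : ∀ (n : ℕ) (G : Type u) [Group G] [Finite G], Nat.card G = n →
    (∀ χ : Cfsg.IrrCharacter G, ∃ k : ℕ, (χ : G → ℂ) 1 = (p : ℂ) ^ k) →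
    ∃ A : Subgroup G, A.Normal ∧ (∀ a ∈ A, ∀ b ∈ A, a * b = b * a) ∧
      Nat.Coprime (Nat.card A) p ∧ ∃ k : ℕ, A.index = p ^ k := by
  intro n
  induction n using Nat.strong_induction_on with
  | _ n ih =>
  intro G _ _ hn hdeg
  classical
  have := Fintype.ofFinite G
  by_cases hpG : p ∣ Nat.card G
  · obtain ⟨N, hN, hNi⟩ := exists_normal_index_eq_prime hp hpG hdeg
    have := Fintype.ofFinite N
    have hlt : Nat.card N < n := by
      have h1 := N.card_mul_index
      rw [hNi, hn] at h1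
      rw [← h1]
      exact lt_mul_of_one_lt_right Nat.card_pos hp.one_lt
    have hdegN : ∀ θ : Cfsg.IrrCharacter N, ∃ k : ℕ, (θ : N → ℂ) 1 = (p : ℂ) ^ k := by
      intro θ
      obtain ⟨χ, hχ⟩ := exists_irr_over N θ.2
      have h := degree_eq_mul_card_orbit N χ.2 θ hχ
      obtain ⟨e, he⟩ := classInner_char_nat (isCharacter_res N (isCharacter_of_isIrr χ.2))
        (isCharacter_of_isIrr θ.2)
      obtain ⟨t, ht⟩ := exists_degree (isCharacter_of_isIrr θ.2)
      obtain ⟨k, hk⟩ := hdeg χ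
      rw [hk, he, ht] at h
      have h' : p ^ k = e * (orbit N θ).card * t := by exact_mod_cast h
      obtain ⟨i, -, rfl⟩ := (Nat.dvd_prime_pow hp).mp (Dvd.intro_left _ h'.symm)
      exact ⟨i, by rw [ht, Nat.cast_pow]⟩
    obtain ⟨A, hA, hab, hcop, k, hk⟩ := ih _ hlt N rfl hdegN
    refine ⟨A.map N.subtype, ⟨?_⟩, ?_, ?_, k + 1, ?_⟩
    · rintro _ ⟨x, hx, rfl⟩ g
      set y : N := ⟨g * (x : G) * g⁻¹, hN.conj_mem _ x.2 g⟩ with hy
      have h1 : y ^ Nat.card A = 1 := by
        apply Subtype.ext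
        have hx1 : (x : G) ^ Nat.card A = 1 := by
          have e1 : x ^ Nat.card A = 1 := congrArg (fun z : A => (z : N)) (pow_card_eq_one' (x := (⟨x, hx⟩ : A)))
          simpa using congrArg (fun z : N => (z : G)) e1
        rw [Subgroup.coe_pow, hy, conj_pow, hx1]
        simp
      have h2 : y ^ (p ^ k) ∈ A := hk ▸ Subgroup.pow_index_mem A y
      have h3 : (p ^ k).Coprime (orderOf y) :=
        (hcop.symm.pow_left k).coprime_dvd_right (orderOf_dvd_of_pow_eq_one h1)
      obtain ⟨i, hi⟩ := exists_pow_eq_self_of_coprime h3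
      exact ⟨y, hi ▸ pow_mem h2 i, rfl⟩
    · rintro _ ⟨a, ha, rfl⟩ _ ⟨b, hb, rfl⟩
      rw [← map_mul, ← map_mul, hab a ha b hb]
    · rwa [Subgroup.card_map_of_injective N.subtype_injective]
    · rw [Subgroup.index_map_subtype, hk, hNi, pow_succ]
  · refine ⟨⊤, inferInstance, ?_, ?_, 0, by simp⟩
    · have hc := comm_iff_forall_linear.mpr fun χ : Cfsg.IrrCharacter G => by
        obtain ⟨k, hk⟩ := hdeg χ
        rcases Nat.eq_zero_or_pos k with rfl | hk0
        · simpa using hk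
        · exact absurd ((dvd_pow_self p hk0.ne').trans (degree_dvd_card χ.2 (n := p ^ k)
            (by rw [hk, Nat.cast_pow]))) hpG
      exact fun a _ b _ => hc a b
    · rw [Subgroup.card_top]
      exact ((hp.coprime_iff_not_dvd).mpr hpG).symm


/-- For a finite group G and a prime p: every irreducible character of G has degree a power of p if and only if G has an abelian normal subgroup whose order is prime to p and whose index is a power of p. -/
theorem result {G : Type*} [Group G] [Finite G] (p : ℕ) (hp : p.Prime) : (∀ χ : Cfsg.IrrCharacter G, ∃ k : ℕ, (χ : G → ℂ) 1 = (p : ℂ) ^ k) ↔ ∃ A : Subgroup G, A.Normal ∧ (∀ a ∈ A, ∀ b ∈ A, a * b = b * a) ∧ Nat.Coprime (Nat.card A) p ∧ ∃ k : ℕ, A.index = p ^ k := by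
  refine ⟨fun h => aux hp _ G rfl h, ?_⟩
  rintro ⟨A, hA, hab, -, k, hk⟩ χ
  have := Fintype.ofFinite G
  obtain ⟨c, hc⟩ := CfsgLib.Char.exists_degree (CfsgLib.Char.isCharacter_of_isIrr χ.2)
  have h := CfsgLib.Char.degree_dvd_index_abelian_normal A hab χ.2 hc
  rw [hk] at h
  obtain ⟨i, -, rfl⟩ := (Nat.dvd_prime_pow hp).mp h
  exact ⟨i, by rw [hc, Nat.cast_pow]⟩

end Cfsg.Agent.S0855
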