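import Cfsg.Statements.S0856
import Cfsg.Agent.Lib.Char.Ito

set_option autoImplicit false
open Cfsg

namespace Cfsg.Agent.S0856

open CfsgLib.Char CfsgLib.CharNormal

/-- Let N be a normal subgroup of the finite group G and φ, ϑ irreducible characters of N that are invariant under conjugation by G, such that the pointwise product φ * ϑ is irreducible and ϑ is the restriction of an irreducible character χ of G. Then multiplication by χ is a bijection from the set of irreducible characters of G having nonzero inner product with the function induced from φ onto the set of those having nonzero inner product with the function induced from φ * ϑ. -/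
theorem result {G : Type*} [Group G] [Fintype G] (N : Subgroup G) [hN : N.Normal] (φ ϑ : N → ℂ) (hφ : Cfsg.IsIrrCharacter N φ) (hϑ : Cfsg.IsIrrCharacter N ϑ) (hφinv : ∀ (g : G) (n : N), φ ⟨g * n * g⁻¹, hN.conj_mem (n : G) n.2 g⟩ = φ n) (hϑinv : ∀ (g : G) (n : N), ϑ ⟨g * n * g⁻¹, hN.conj_mem (n : G) n.2 g⟩ = ϑ n) (hprod : Cfsg.IsIrrCharacter N (φ * ϑ)) (χ : G → ℂ) (hχ : Cfsg.IsIrrCharacter G χ) (hext : ∀ n : N, χ n = ϑ n) : Set.BijOn (fun β : G → ℂ => β * χ) {β : G → ℂ | Cfsg.IsIrrCharacter G β ∧ Cfsg.classInner (Cfsg.indFun N φ) β ≠ 0} {ψ : G → ℂ | Cfsg.IsIrrCharacter G ψ ∧ Cfsg.classInner (Cfsg.indFun N (φ * ϑ)) ψ ≠ 0} := by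
  classical
  have := Fintype.ofFinite N
  have hφi : ∀ g, conjFun N g φ = φ := fun g => funext (hφinv g)
  have hpi : ∀ g, conjFun N g (φ * ϑ) = φ * ϑ := fun g => funext fun n => by
    simp [conjFun, Pi.mul_apply, hφinv g n, hϑinv g n]
  have hres : (fun n : N => χ n) = ϑ := funext hext
  have hind : Cfsg.indFun N (φ * ϑ) = Cfsg.indFun N φ * χ := by
    rw [indFun_mul N φ (isClassFunction_of_isIrr hχ), hres]
  obtain ⟨a, ha, hai⟩ := char_decomp (isCharacter_indFun N (isCharacter_of_isIrr hφ))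
  have hnorm : ∀ θ : N → ℂ, Cfsg.IsIrrCharacter N θ → (∀ g, conjFun N g θ = θ) →
      (Nat.card N : ℂ) * Cfsg.classInner (Cfsg.indFun N θ) (Cfsg.indFun N θ) = Nat.card G := by
    intro θ hθ hθi
    rw [card_mul_classInner_indFun_normal N hθ hθ, Nat.card_congr (Equiv.subtypeUnivEquiv hθi)]
  choose b hb using fun β γ : Cfsg.IrrCharacter G =>
    classInner_char_nat (isCharacter_mul (isCharacter_of_isIrr β.2) (isCharacter_of_isIrr hχ))
      (isCharacter_mul (isCharacter_of_isIrr γ.2) (isCharacter_of_isIrr hχ))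
  have hψi : ∀ ψ : G → ℂ, Cfsg.classInner (Cfsg.indFun N (φ * ϑ)) ψ =
      ∑ β : Cfsg.IrrCharacter G, (a β : ℂ) * Cfsg.classInner ((β : G → ℂ) * χ) ψ := by
    intro ψ
    rw [hind, ha, Finset.sum_mul, classInner_sum_left]
    exact Finset.sum_congr rfl fun β _ => by rw [smul_mul_assoc, classInner_smul_left]
  have hsq : ∑ β : Cfsg.IrrCharacter G, ∑ γ, a β * (a γ * b β γ) = ∑ β, a β ^ 2 := by
    have h1 : Cfsg.classInner (Cfsg.indFun N (φ * ϑ)) (Cfsg.indFun N (φ * ϑ)) =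
        Cfsg.classInner (Cfsg.indFun N φ) (Cfsg.indFun N φ) :=
      mul_left_cancel₀ (card_subgroup_ne_zero N) ((hnorm _ hprod hpi).trans (hnorm _ hφ hφi).symm)
    rw [hψi, classInner_eq_sum (isClassFunction_indFun N φ)] at h1
    simp only [hai, map_natCast] at h1
    have h2 : ∀ β : Cfsg.IrrCharacter G,
        Cfsg.classInner ((β : G → ℂ) * χ) (Cfsg.indFun N (φ * ϑ)) = ∑ γ, (a γ : ℂ) * b β γ := by
      intro β
      rw [← classInner_conj_symm, hψi, map_sum]
      exact Finset.sum_congr rfl fun γ _ => by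
        rw [map_mul, map_natCast, classInner_conj_symm, hb]
    simp only [h2, Finset.mul_sum] at h1
    simp only [sq]
    exact_mod_cast h1
  have hdiag : ∀ β, b β β ≠ 0 := by
    intro β h0
    have := eq_zero_of_classInner_self_eq_zero ((hb β β).trans (by rw [h0, Nat.cast_zero]))
    exact mul_ne_zero (irr_one_ne_zero β.2) (irr_one_ne_zero hχ) (congrFun this 1)
  have hge : ∀ β, a β ^ 2 ≤ ∑ γ, a β * (a γ * b β γ) := fun β =>
    le_trans (by nlinarith [Nat.pos_of_ne_zero (hdiag β)])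
      (Finset.single_le_sum (f := fun γ => a β * (a γ * b β γ)) (fun _ _ => Nat.zero_le _)
        (Finset.mem_univ β))
  have heq : ∀ β, ∑ γ, a β * (a γ * b β γ) = a β ^ 2 := fun β =>
    ((Finset.sum_eq_sum_iff_of_le fun β _ => hge β).mp hsq.symm β (Finset.mem_univ β)).symm
  have hone : ∀ β, a β ≠ 0 → b β β = 1 ∧ ∀ γ, γ ≠ β → a γ ≠ 0 → b β γ = 0 := by
    intro β hβ
    have h := heq β
    rw [← Finset.add_sum_erase _ _ (Finset.mem_univ β)] at h
    have hb1 : b β β = 1 := by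
      have := Nat.pos_of_ne_zero (hdiag β)
      have hp : 0 < a β * a β := Nat.mul_pos (Nat.pos_of_ne_zero hβ) (Nat.pos_of_ne_zero hβ)
      have : a β * a β * b β β ≤ a β * a β * 1 := by
        rw [mul_one]; rw [sq, ← mul_assoc] at h; omega
      have := Nat.le_of_mul_le_mul_left this hp
      omega
    refine ⟨hb1, fun γ hγ haγ => ?_⟩
    rw [hb1, mul_one, sq, add_eq_left, Finset.sum_eq_zero_iff] at h
    have := h γ (Finset.mem_erase.mpr ⟨hγ, Finset.mem_univ _⟩)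
    simpa [hβ, haγ] using this
  have hirr : ∀ β, a β ≠ 0 → Cfsg.IsIrrCharacter G ((β : G → ℂ) * χ) := fun β hβ =>
    irr_of_norm_one (isCharacter_mul (isCharacter_of_isIrr β.2) (isCharacter_of_isIrr hχ))
      (by rw [hb, (hone β hβ).1, Nat.cast_one])
  have hmem : ∀ β : Cfsg.IrrCharacter G,
      Cfsg.classInner (Cfsg.indFun N φ) (β : G → ℂ) ≠ 0 ↔ a β ≠ 0 := fun β => by
    rw [hai, Nat.cast_ne_zero]
  refine ⟨?_, ?_, ?_⟩
  · rintro β ⟨hβ, h0⟩
    have hβ0 := (hmem ⟨β, hβ⟩).mp h0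
    refine ⟨hirr _ hβ0, ?_⟩
    rw [hψi]
    have h1 : ∀ γ : Cfsg.IrrCharacter G, (a γ : ℂ) * Cfsg.classInner ((γ : G → ℂ) * χ) (β * χ) =
        ((a γ * b γ ⟨β, hβ⟩ : ℕ) : ℂ) := fun γ => by
      rw [hb γ ⟨β, hβ⟩]; push_cast; rfl
    rw [Finset.sum_congr rfl fun γ _ => h1 γ, ← Nat.cast_sum, Nat.cast_ne_zero]
    intro hz
    exact mul_ne_zero hβ0 (hdiag _) ((Finset.sum_eq_zero_iff.mp hz) ⟨β, hβ⟩ (Finset.mem_univ _))
  · rintro β ⟨hβ, h0⟩ β' ⟨hβ', h0'⟩ (e : β * χ = β' * χ)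
    by_contra hne
    have h1 := (hone _ ((hmem ⟨β, hβ⟩).mp h0)).2 ⟨β', hβ'⟩
      (fun e' => hne (congrArg Subtype.val e').symm) ((hmem ⟨β', hβ'⟩).mp h0')
    have h2 := hb ⟨β, hβ⟩ ⟨β, hβ⟩
    have h3 := hb ⟨β, hβ⟩ ⟨β', hβ'⟩
    simp only [← e, h1] at h3
    rw [h2] at h3
    exact hdiag _ (by exact_mod_cast h3)
  · rintro ψ ⟨hψ, h0⟩
    rw [hψi] at h0
    obtain ⟨β, -, hβ⟩ := Finset.exists_ne_zero_of_sum_ne_zero h0
    have hβ0 : a β ≠ 0 := fun e => hβ (by rw [e, Nat.cast_zero, zero_mul])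
    refine ⟨β, ⟨β.2, (hmem β).mpr hβ0⟩, ?_⟩
    by_contra hne
    exact hβ (by rw [classInner_irr_ne (hirr β hβ0) hψ hne, mul_zero])

end Cfsg.Agent.S0856
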