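import Cfsg.Statements.S0858
import Cfsg.Agent.Lib.Char.ChiefTrichotomy
import Cfsg.Agent.Lib.Char.Monomial
import Cfsg.Agent.Lib.Char.Ito

set_option autoImplicit false
open Cfsg

namespace Cfsg.Agent.S0858

open CfsgLib.Char CfsgLib.CharNormal

universe u

open scoped ComplexConjugate commutatorElement

theorem aux : ∀ (n : ℕ) (G : Type u) [Group G] [Fintype G], Nat.card G = n →
    ∀ (N : Subgroup G) [N.Normal], Group.IsSolvable (G ⧸ N) →
    (∀ (H K L : Subgroup G), N ≤ L → L < K → K ≤ H → (∀ h ∈ H, ∀ k ∈ K, h * k * h⁻¹ ∈ K) →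
      (∀ h ∈ H, ∀ l ∈ L, h * l * h⁻¹ ∈ L) →
      (∀ M : Subgroup G, L ≤ M → M ≤ K → (∀ h ∈ H, ∀ m ∈ M, h * m * h⁻¹ ∈ M) → M = L ∨ M = K) →
      ¬ IsSquare (L.relIndex K)) →
    ∀ χ : G → ℂ, Cfsg.IsIrrCharacter G χ → ∃ (H : Subgroup G) (hNH : N ≤ H) (ψ : H → ℂ),
      Cfsg.IsIrrCharacter H ψ ∧ Cfsg.indFun H ψ = χ ∧
        Cfsg.IsIrrCharacter N (fun n : N => ψ ⟨(n : G), hNH n.2⟩) := by
  intro n
  induction n using Nat.strong_induction_on with
  | _ n ih =>
  intro G _ _ hn N _ hsolv hchief χ hχ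
  classical
  have hχc := isCharacter_of_isIrr hχ
  by_cases hN : Cfsg.IsIrrCharacter N (fun x : N => χ x)
  · exact ⟨⊤, le_top, fun x => χ x, isIrr_res_mid le_top hχc hN,
      indFun_top (isClassFunction_of_isIrr hχ), hN⟩
  obtain ⟨K, hKmem, hKmin⟩ := (Set.toFinite {K : Subgroup G | K.Normal ∧ N ≤ K ∧
      Cfsg.IsIrrCharacter K (fun x : K => χ x)}).exists_minimal ⟨⊤, inferInstance, le_top, by
      have := Fintype.ofFinite (⊤ : Subgroup G)
      exact isIrr_comp_mulEquiv hχ Subgroup.topEquiv⟩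
  obtain ⟨hKn, hNK, hKirr⟩ := hKmem
  have hNK' : N < K := lt_of_le_of_ne hNK fun h => hN (by subst h; exact hKirr)
  obtain ⟨L, hLmem, hLmax⟩ := (Set.toFinite {L : Subgroup G | L.Normal ∧ N ≤ L ∧
      L < K}).exists_maximal ⟨N, inferInstance, le_rfl, hNK'⟩
  obtain ⟨hLn, hNL, hLK⟩ := hLmem
  have hch : ∀ M : Subgroup G, M.Normal → L ≤ M → M ≤ K → M = L ∨ M = K := by
    intro M hM hLM hMK
    rcases eq_or_lt_of_le hMK with h | h
    · exact Or.inr h
    · exact Or.inl (le_antisymm (hLmax ⟨hM, hNL.trans hLM, h⟩ hLM) hLM)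
  have := Fintype.ofFinite K
  have := Fintype.ofFinite L
  rcases chief_trichotomy K L hLK hch (commutator_le_of_solvable_chief N K L hsolv hNL hLK hch)
      (fun x : K => χ x) hKirr
      (fun g x => isClassFunction_of_isIrr hχ (x : G) g) with h | ⟨φ, e, -, -, he⟩ | h
  · exact absurd (hKmin ⟨hLn, hNL, h⟩ hLK.le) hLK.not_ge
  · exact absurd ⟨e, by rw [← he, sq]⟩ (hchief ⊤ K L hNL hLK le_top
      (fun g _ k hk => hKn.conj_mem k hk g) (fun g _ l hl => hLn.conj_mem l hl g)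
      (fun M hLM hMK hM => hch M ⟨fun m hm g => hM g (Subgroup.mem_top g) m hm⟩ hLM hMK))
  obtain ⟨F, hFirr, hFcard, hFsum⟩ := h
  have hFinner : ∀ φ ∈ F, Cfsg.classInner (fun x : L => χ x) φ = 1 := by
    intro φ hφ
    rw [show (fun x : L => χ x) = ∑ ψ ∈ F, ψ from hFsum, classInner_sum_left,
      Finset.sum_eq_single φ (fun ψ hψ hne => classInner_irr_ne (hFirr ψ hψ) (hFirr φ hφ) hne)
        (fun h => absurd hφ h)]
    exact classInner_irr_self (hFirr φ hφ)
  have hF2 : 1 < F.card := by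
    rw [hFcard]
    refine (Nat.two_le_iff _).mpr ⟨Subgroup.index_ne_zero_of_finite, fun h => ?_⟩
    exact hLK.not_ge (Subgroup.relIndex_eq_one.mp h)
  obtain ⟨θ, hθF, φ, hφF, hne⟩ := Finset.one_lt_card.mp hF2
  have hθ0 : Cfsg.classInner (fun x : L => χ x) θ ≠ 0 := by simp [hFinner θ hθF]
  set T := inertia L θ with hT
  have hLT : L ≤ T := le_inertia L (isClassFunction_of_isIrr (hFirr θ hθF))
  have hTtop : T ≠ ⊤ := by
    intro htop
    have hres := res_eq_smul_of_invariant L hχ (hFirr θ hθF)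
      (fun g => (mem_inertia L).mp (show g ∈ T from htop ▸ Subgroup.mem_top g)) hθ0
    have h1 := hFinner φ hφF
    rw [hres, classInner_smul_left, classInner_irr_ne (hFirr θ hθF) (hFirr φ hφF) hne,
      mul_zero] at h1
    exact zero_ne_one h1
  have := Fintype.ofFinite T
  obtain ⟨ψ, hψ, hψind, -⟩ := clifford_correspondence L (hFirr θ hθF) T (fun g => mem_inertia L)
    hLT hχ hθ0
  have hlt : Nat.card T < n := hn ▸ lt_of_le_of_ne (Subgroup.card_le_card_group T)
    fun h => hTtop (Subgroup.card_eq_iff_eq_top T |>.mp h)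
  have hNT : N ≤ T := hNL.trans hLT
  have hsolvT : Group.IsSolvable (T ⧸ N.subgroupOf T) := by
    have := hsolv
    refine Group.isSolvable_of_isSolvable_injective
      (f := QuotientGroup.map (N.subgroupOf T) N T.subtype le_rfl) ?_
    rw [injective_iff_map_eq_one]
    intro q hq
    obtain ⟨x, rfl⟩ := QuotientGroup.mk'_surjective _ q
    have hx : ((x : G) : G ⧸ N) = 1 := hq
    exact (QuotientGroup.eq_one_iff x).mpr ((QuotientGroup.eq_one_iff (x : G)).mp hx)
  have hchT : ∀ (H K' L' : Subgroup T), N.subgroupOf T ≤ L' → L' < K' → K' ≤ H →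
      (∀ h ∈ H, ∀ k ∈ K', h * k * h⁻¹ ∈ K') → (∀ h ∈ H, ∀ l ∈ L', h * l * h⁻¹ ∈ L') →
      (∀ M : Subgroup T, L' ≤ M → M ≤ K' → (∀ h ∈ H, ∀ m ∈ M, h * m * h⁻¹ ∈ M) →
        M = L' ∨ M = K') → ¬ IsSquare (L'.relIndex K') := by
    intro H K' L' h1 h2 h3 h4 h5 h6
    have hinj := T.subtype_injective
    rw [← Subgroup.relIndex_map_map_of_injective (f := T.subtype) L' K' hinj]
    refine hchief (H.map T.subtype) _ _ ?_ ((Subgroup.map_lt_map_iff_of_injective hinj).mpr h2)
      (Subgroup.map_mono h3) ?_ ?_ ?_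
    · intro x hx
      exact ⟨⟨x, hNT hx⟩, h1 (Subgroup.mem_subgroupOf.mpr hx), rfl⟩
    · rintro _ ⟨h, hh, rfl⟩ _ ⟨k, hk, rfl⟩
      exact ⟨_, h4 h hh k hk, by simp⟩
    · rintro _ ⟨h, hh, rfl⟩ _ ⟨k, hk, rfl⟩
      exact ⟨_, h5 h hh k hk, by simp⟩
    · intro M hM1 hM2 hM3
      have hMT : M ≤ T := hM2.trans (Subgroup.map_subtype_le K')
      have hMm : (M.subgroupOf T).map T.subtype = M := Subgroup.map_subgroupOf_eq_of_le hMT
      rcases h6 (M.subgroupOf T) (fun x hx => Subgroup.mem_subgroupOf.mpr (hM1 ⟨x, hx, rfl⟩))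
        (fun x hx => by
          obtain ⟨y, hy, hxy⟩ := hM2 (Subgroup.mem_subgroupOf.mp hx)
          rwa [← hinj hxy])
        (fun h hh m hm => Subgroup.mem_subgroupOf.mpr
          (by simpa using hM3 h ⟨h, hh, rfl⟩ m (Subgroup.mem_subgroupOf.mp hm))) with e | e
      · exact Or.inl (hMm ▸ congrArg (Subgroup.map T.subtype) e)
      · exact Or.inr (hMm ▸ congrArg (Subgroup.map T.subtype) e)
  obtain ⟨H', hNH', α, hα, hαind, hαN⟩ := ih _ hlt T rfl (N.subgroupOf T) hsolvT hchT ψ hψ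
  let eH := Subgroup.equivMapOfInjective H' T.subtype T.subtype_injective
  have hNH : N ≤ H'.map T.subtype := fun x hx =>
    ⟨⟨x, hNT hx⟩, hNH' (Subgroup.mem_subgroupOf.mpr hx), rfl⟩
  have := Fintype.ofFinite H'
  have := Fintype.ofFinite (H'.map T.subtype)
  refine ⟨H'.map T.subtype, hNH, fun x => α (eH.symm x), isIrr_comp_mulEquiv hα eH.symm, ?_, ?_⟩
  · rw [indFun_map T H' α, hαind, hψind]
  · have := Fintype.ofFinite N
    have := Fintype.ofFinite (N.subgroupOf T)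
    have h := isIrr_comp_mulEquiv hαN (Subgroup.subgroupOfEquivOfLe hNT).symm
    convert h using 1
    funext x
    show α _ = α _
    congr 1
    apply eH.injective
    rw [MulEquiv.apply_symm_apply]
    exact Subtype.ext rfl


/-- Let N be a normal subgroup of the finite group G with G / N solvable, and suppose that for every subgroup H containing N and all subgroups L < K between N and H that are normal in H with no subgroup normal in H strictly between them, the index of L in K is not a perfect square. Then every irreducible character χ of G is induced from an irreducible character ψ of some subgroup H containing N such that the restriction of ψ to N is irreducible. -/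
theorem result {G : Type*} [Group G] [Fintype G] (N : Subgroup G) [N.Normal] (hsolv : Group.IsSolvable (G ⧸ N)) (hchief : ∀ (H K L : Subgroup G), N ≤ L → L < K → K ≤ H → (∀ h ∈ H, ∀ k ∈ K, h * k * h⁻¹ ∈ K) → (∀ h ∈ H, ∀ l ∈ L, h * l * h⁻¹ ∈ L) → (∀ M : Subgroup G, L ≤ M → M ≤ K → (∀ h ∈ H, ∀ m ∈ M, h * m * h⁻¹ ∈ M) → M = L ∨ M = K) → ¬ IsSquare (L.relIndex K)) (χ : G → ℂ) (hχ : Cfsg.IsIrrCharacter G χ) : ∃ (H : Subgroup G) (hNH : N ≤ H) (ψ : H → ℂ), Cfsg.IsIrrCharacter H ψ ∧ Cfsg.indFun H ψ = χ ∧ Cfsg.IsIrrCharacter N (fun n : N => ψ ⟨(n : G), hNH n.2⟩) := by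
  exact aux _ G rfl N hsolv hchief χ hχ

end Cfsg.Agent.S0858
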