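import Cfsg.Statements.S0859
import Cfsg.Agent.Lib.Char.Monomial
import Cfsg.Agent.Lib.Char.Ito

set_option autoImplicit false
open Cfsg

namespace Cfsg.Agent.S0859

open CfsgLib.Char CfsgLib.CharNormal

universe u

open scoped ComplexConjugate commutatorElement

/-- All `p`-subgroups inside `N` are abelian. -/
def AbSylow {G : Type u} [Group G] (N : Subgroup G) : Prop :=
  ∀ p : ℕ, p.Prime → ∀ P : Subgroup G, P ≤ N → IsPGroup p P → ∀ a ∈ P, ∀ b ∈ P, a * b = b * a

theorem abSylow_map {G Q : Type u} [Group G] [Finite G] [Group Q] (f : G →* Q) {N : Subgroup G}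
    (h : AbSylow N) : AbSylow (N.map f) := by
  intro p hp P hPN hP a ha b hb
  have : Fact p.Prime := ⟨hp⟩
  let M : Subgroup G := P.comap f ⊓ N
  let fM : M →* P := (f.comp M.subtype).codRestrict P fun x => (Subgroup.mem_inf.mp x.2).1
  have hfM : Function.Surjective fM := fun y => by
    obtain ⟨x, hxN, hxy⟩ := hPN y.2
    exact ⟨⟨x, Subgroup.mem_inf.mpr ⟨by rw [Subgroup.mem_comap, hxy]; exact y.2, hxN⟩⟩,
      Subtype.ext hxy⟩
  have : Finite P := Finite.of_surjective fM hfM
  let S : Sylow p M := default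
  have htop : (S : Subgroup M).map fM = ⊤ := by
    rw [← Subgroup.index_eq_one]
    obtain ⟨k, hk⟩ := IsPGroup.iff_card.1 hP
    obtain ⟨j, -, hj⟩ := (Nat.dvd_prime_pow hp).mp
      (hk ▸ ((S : Subgroup M).map fM).index_dvd_card)
    rcases Nat.eq_zero_or_pos j with rfl | hj0
    · simpa using hj
    · exfalso
      exact S.not_dvd_index ((dvd_pow_self p hj0.ne').trans
        (hj ▸ (S : Subgroup M).index_map_dvd hfM))
  obtain ⟨x, hx, hxa⟩ := (htop.ge (Subgroup.mem_top (⟨a, ha⟩ : P)) :)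
  obtain ⟨y, hy, hyb⟩ := (htop.ge (Subgroup.mem_top (⟨b, hb⟩ : P)) :)
  have e := h p hp ((S : Subgroup M).map M.subtype)
    ((Subgroup.map_subtype_le _).trans inf_le_right) (S.2.map M.subtype) (x : G) ⟨x, hx, rfl⟩
    (y : G) ⟨y, hy, rfl⟩
  have ea : f (x : G) = a := congrArg Subtype.val hxa
  have eb : f (y : G) = b := congrArg Subtype.val hyb
  rw [← ea, ← eb, ← map_mul, ← map_mul, e]

theorem aux : ∀ (n : ℕ) (G : Type u) [Group G] [Fintype G], Nat.card G = n → Group.IsSolvable G →
    ∀ (N : Subgroup G) [N.Normal], AbSylow N → ∀ χ : G → ℂ, Cfsg.IsIrrCharacter G χ →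
      Cfsg.IsIrrCharacter N (fun x : N => χ x) →
      ∃ (U : Subgroup G) (lam : U → ℂ), Cfsg.IsCharacter U lam ∧ lam 1 = 1 ∧
        Cfsg.indFun U lam = χ := by
  intro n
  induction n using Nat.strong_induction_on with
  | _ n ih =>
  intro G _ _ hn hsolv N _ hAS χ hχ hχN
  classical
  have := hsolv
  have := Fintype.ofFinite N
  have hχc := isCharacter_of_isIrr hχ
  have hKn : (charKer hχc).Normal := charKer_normal hχc
  by_cases hK : charKer hχc = ⊥
  swap
  · -- not faithful: pass to the quotient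
    set K := charKer hχc with hKdef
    have := Fintype.ofFinite (G ⧸ K)
    obtain ⟨χb, hχb, hχe⟩ := exists_irr_eq_comp_mk' K hχ fun x hx => mem_charKer.mp hx
    let f : N →* N.map (QuotientGroup.mk' K) := (QuotientGroup.mk' K).subgroupMap N
    have := Fintype.ofFinite (N.map (QuotientGroup.mk' K))
    have hNb : Cfsg.IsIrrCharacter (N.map (QuotientGroup.mk' K))
        (fun x : N.map (QuotientGroup.mk' K) => χb x) := by
      refine isIrr_of_comp_isIrr f (isCharacter_res _ (isCharacter_of_isIrr hχb)) ?_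
      convert hχN using 1
      funext x
      exact congrFun hχe x
    have hlt : Nat.card (G ⧸ K) < n := by
      rw [← hn, ← Subgroup.index_eq_card, ← K.index_mul_card]
      exact lt_mul_of_one_lt_right (Nat.pos_of_ne_zero Subgroup.index_ne_zero_of_finite)
        (K.one_lt_card_iff_ne_bot.mpr hK)
    have : (N.map (QuotientGroup.mk' K)).Normal :=
      Subgroup.Normal.map inferInstance _ (QuotientGroup.mk'_surjective K)
    obtain ⟨U, lam, hlam, h1, hind⟩ := ih _ hlt (G ⧸ K) rfl inferInstance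
      (N.map (QuotientGroup.mk' K)) (abSylow_map _ hAS) χb hχb hNb
    refine ⟨U.comap (QuotientGroup.mk' K), fun x => lam ⟨QuotientGroup.mk' K x, x.2⟩,
      isCharacter_comp hlam ((QuotientGroup.mk' K).subgroupComap U), ?_, ?_⟩
    · exact (congrArg lam (Subtype.ext (map_one (QuotientGroup.mk' K)))).trans h1
    · funext g
      rw [indFun_comap K U lam g, hind, ← hχe]
      rfl
  by_cases hZ : N ≤ Subgroup.center G
  · have h1 : χ 1 = 1 := irr_one_eq_one_of_comm (fun a b : N => Subtype.ext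
      ((Subgroup.mem_center_iff.mp (hZ a.2) b).symm)) hχN
    exact ⟨⊤, fun x => χ x, isCharacter_res ⊤ hχc, h1, indFun_top (isClassFunction_of_isIrr hχ)⟩
  set Z := N ⊓ Subgroup.center G with hZdef
  have hZn : Z.Normal := ⟨fun z hz g => by
    obtain ⟨h1, h2⟩ := Subgroup.mem_inf.mp hz
    rw [show g * z * g⁻¹ = z by rw [Subgroup.mem_center_iff.mp h2 g, mul_inv_cancel_right]]
    exact hz⟩
  obtain ⟨M, hMmem, hMmin⟩ := (Set.toFinite {M : Subgroup G | M.Normal ∧ Z < M ∧
      M ≤ N}).exists_minimal ⟨N, inferInstance, lt_of_le_of_ne inf_le_left fun h =>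
        hZ (h ▸ inf_le_right), le_rfl⟩
  obtain ⟨hMn, hZM, hMN⟩ := hMmem
  have hsZ : Group.IsSolvable (G ⧸ Z) :=
    Group.isSolvable_of_surjective (f := QuotientGroup.mk' Z) (QuotientGroup.mk'_surjective Z)
  have hMM : ⁅M, M⁆ ≤ Z := by
    refine commutator_le_of_solvable_chief Z M Z hsZ le_rfl hZM fun X hX hZX hXM => ?_
    rcases eq_or_lt_of_le hZX with h | h
    · exact Or.inl h.symm
    · exact Or.inr (le_antisymm hXM (hMmin ⟨hX, h, hXM.trans hMN⟩ hXM))
  have hnil : Group.IsNilpotent M := by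
    refine ⟨2, eq_top_iff.mpr fun x _ => ?_⟩
    rw [Subgroup.mem_upperCentralSeries_succ_iff]
    intro y
    rw [Subgroup.upperCentralSeries_one, Subgroup.mem_center_iff]
    intro z
    apply Subtype.ext
    have hc := hMM (Subgroup.commutator_mem_commutator x.2 y.2)
    have := Subgroup.mem_center_iff.mp (Subgroup.mem_inf.mp hc).2 (z : G)
    rw [commutatorElement_def] at this
    simpa [commutatorElement_def, mul_assoc] using this
  have hMcomm : ∀ a b : M, a * b = b * a :=
    commute_of_abelian_sylow_nilpotent fun p hp S a ha b hb => Subtype.ext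
      (hAS p hp.out ((S : Subgroup M).map M.subtype)
        ((Subgroup.map_subtype_le _).trans hMN) (S.2.map M.subtype) a ⟨a, ha, rfl⟩ b ⟨b, hb, rfl⟩)
  have := Fintype.ofFinite M
  obtain ⟨θ, hθ, hθ0⟩ := exists_constituent (isCharacter_res M hχc)
    (fun h => irr_one_ne_zero hχ (by simpa using congrFun h 1))
  have hθ1 : θ 1 = 1 := irr_one_eq_one_of_comm hMcomm hθ
  set T := inertia M θ with hT
  have hMT : M ≤ T := le_inertia M (isClassFunction_of_isIrr hθ)
  have hTtop : T ≠ ⊤ := by
    intro htop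
    refine hZM.not_ge fun m hm => Subgroup.mem_inf.mpr ⟨hMN hm, Subgroup.mem_center_iff.mpr ?_⟩
    intro g
    have hinv : ∀ g : G, conjFun M g θ = θ := fun g =>
      (mem_inertia M).mp (show g ∈ T from htop ▸ Subgroup.mem_top g)
    have hres := res_eq_smul_of_invariant M hχ hθ hinv hθ0
    have hc : g * m * g⁻¹ * m⁻¹ ∈ M := M.mul_mem (hMn.conj_mem m hm g) (M.inv_mem hm)
    have hval : θ ⟨_, hc⟩ = 1 := by
      have e : θ ⟨g * m * g⁻¹, hMn.conj_mem m hm g⟩ = θ ⟨m, hm⟩ := congrFun (hinv g) ⟨m, hm⟩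
      rw [show (⟨g * m * g⁻¹ * m⁻¹, hc⟩ : M) =
        ⟨g * m * g⁻¹, hMn.conj_mem m hm g⟩ * ⟨m, hm⟩⁻¹ from rfl,
        linear_map_mul (isCharacter_of_isIrr hθ) hθ1, e,
        ← linear_map_mul (isCharacter_of_isIrr hθ) hθ1, mul_inv_cancel, hθ1]
    have hk : g * m * g⁻¹ * m⁻¹ ∈ charKer hχc := by
      rw [mem_charKer]
      have h1 := congrFun hres ⟨_, hc⟩
      have h2 := congrFun hres 1
      simp only [Pi.smul_apply, smul_eq_mul, hval, hθ1, OneMemClass.coe_one] at h1 h2
      rw [h1, h2]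
    rw [hK, Subgroup.mem_bot, mul_inv_eq_one, mul_inv_eq_iff_eq_mul] at hk
    exact hk
  have := Fintype.ofFinite T
  obtain ⟨ψ, hψ, hψind, -⟩ := clifford_correspondence M hθ T (fun g => mem_inertia M) hMT hχ hθ0
  -- `G = N T`
  have hsup : N ⊔ T = ⊤ := by
    set U := N ⊔ T with hU
    have hTU : T ≤ U := le_sup_right
    have := Fintype.ofFinite U
    set ξ : U → ℂ := Cfsg.indFun (T.subgroupOf U)
      (fun x => ψ ⟨(x : U), Subgroup.mem_subgroupOf.mp x.2⟩) with hξ
    have hξc : Cfsg.IsCharacter U ξ := by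
      have := Fintype.ofFinite (T.subgroupOf U)
      exact isCharacter_indFun _ (isCharacter_comp (isCharacter_of_isIrr hψ)
        (Subgroup.subgroupOfEquivOfLe hTU).toMonoidHom)
    have hξind : Cfsg.indFun U ξ = χ := by rw [hξ, indFun_trans T hTU ψ, hψind]
    have hUirr : Cfsg.IsIrrCharacter U (fun x : U => χ x) :=
      isIrr_res_mid le_sup_left hχc hχN
    have hin : Cfsg.classInner ξ (fun x : U => χ x) ≠ 0 := by
      rw [← frobenius_reciprocity U ξ (isClassFunction_of_isIrr hχ), hξind,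
        classInner_irr_self hχ]
      exact one_ne_zero
    have hle := constituent_degree_le hξc hUirr hin
    obtain ⟨d, hd⟩ := exists_degree hξc
    have h1 : χ 1 = ((U.index * d : ℕ) : ℂ) := by
      rw [← hξind, indFun_one, hd, Nat.cast_mul]
    rw [show χ ((1 : U) : G) = χ 1 from rfl, h1, hd, Complex.natCast_re, Complex.natCast_re] at hle
    have hle' : U.index * d ≤ d := by exact_mod_cast hle
    have hd0 : 0 < d := Nat.pos_of_ne_zero fun h0 => irr_one_ne_zero hχ (by rw [h1, h0]; simp)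
    have hi : U.index ≤ 1 := Nat.le_of_mul_le_mul_right (by rwa [one_mul]) hd0
    have : 0 < U.index := Nat.pos_of_ne_zero Subgroup.index_ne_zero_of_finite
    exact Subgroup.index_eq_one.mp (by omega)
  have hNT : ∀ g : G, ∃ k ∈ N, ∃ t ∈ T, g = k * t := fun g => by
    obtain ⟨k, hk, t, ht, e⟩ := Subgroup.mem_sup_of_normal_left.mp
      (hsup.ge (Subgroup.mem_top g))
    exact ⟨k, hk, t, ht, e.symm⟩
  have := Fintype.ofFinite (T.subgroupOf N)
  have hψA : Cfsg.IsIrrCharacter (T.subgroupOf N)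
      (fun a => ψ ⟨((a : N) : G), Subgroup.mem_subgroupOf.mp a.2⟩) := by
    refine isIrr_of_indFun_isIrr _ (isCharacter_comp (isCharacter_of_isIrr hψ)
      (((N.subtype).comp (T.subgroupOf N).subtype).codRestrict T
        fun a => Subgroup.mem_subgroupOf.mp a.2)) ?_
    convert hχN using 1
    funext y
    rw [← hψind]
    exact (indFun_res_of_mul_eq_top T N (isClassFunction_of_isIrr hψ) hNT y).symm
  have hlt : Nat.card T < n := hn ▸ lt_of_le_of_ne (Subgroup.card_le_card_group T)
    fun h => hTtop (Subgroup.card_eq_iff_eq_top T |>.mp h)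
  have hAST : AbSylow (N.subgroupOf T) := fun p hp P hPN hP a ha b hb => Subtype.ext
    (hAS p hp (P.map T.subtype) (by rintro _ ⟨x, hx, rfl⟩; exact Subgroup.mem_subgroupOf.mp (hPN hx))
      (hP.map T.subtype) a ⟨a, ha, rfl⟩ b ⟨b, hb, rfl⟩)
  have := Fintype.ofFinite (N.subgroupOf T)
  let sw : N.subgroupOf T ≃* T.subgroupOf N :=
    { toFun := fun x => ⟨⟨(x : T), Subgroup.mem_subgroupOf.mp x.2⟩,
        Subgroup.mem_subgroupOf.mpr (x : T).2⟩
      invFun := fun x => ⟨⟨(x : N), Subgroup.mem_subgroupOf.mp x.2⟩,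
        Subgroup.mem_subgroupOf.mpr (x : N).2⟩
      left_inv := fun _ => rfl
      right_inv := fun _ => rfl
      map_mul' := fun _ _ => rfl }
  obtain ⟨U, lam, hlam, h1, hlind⟩ := ih _ hlt T rfl inferInstance (N.subgroupOf T) hAST ψ hψ
    (isIrr_comp_mulEquiv hψA sw)
  refine ⟨U.map T.subtype,
    fun x => lam ((Subgroup.equivMapOfInjective U T.subtype T.subtype_injective).symm x),
    isCharacter_comp_mulEquiv hlam (Subgroup.equivMapOfInjective U T.subtype T.subtype_injective).symm,
    by simp [h1], ?_⟩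
  rw [indFun_map T U lam, hlind, hψind]


/-- Let G be a finite solvable group and N a normal subgroup such that for every prime p every Sylow p-subgroup of N is abelian. Suppose every irreducible character of G is induced from an irreducible character of some subgroup containing N whose restriction to N is irreducible. Then every irreducible character of G is induced from a character of degree 1 of some subgroup. -/
theorem result {G : Type*} [Group G] [Fintype G] [Group.IsSolvable G] (N : Subgroup G) [N.Normal] (hab : ∀ (p : ℕ) [Fact p.Prime] (P : Sylow p N), ∀ a ∈ P, ∀ b ∈ P, a * b = b * a) (hrel : ∀ χ : G → ℂ, Cfsg.IsIrrCharacter G χ → ∃ (H : Subgroup G) (hNH : N ≤ H) (ψ : H → ℂ), Cfsg.IsIrrCharacter H ψ ∧ Cfsg.indFun H ψ = χ ∧ Cfsg.IsIrrCharacter N (fun n : N => ψ ⟨(n : G), hNH n.2⟩)) (χ : G → ℂ) (hχ : Cfsg.IsIrrCharacter G χ) : ∃ (U : Subgroup G) (lam : U → ℂ), Cfsg.IsCharacter U lam ∧ lam 1 = 1 ∧ Cfsg.indFun U lam = χ := by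
  classical
  obtain ⟨H, hNH, ψ, hψ, hind, hψN⟩ := hrel χ hχ
  have := Fintype.ofFinite H
  have := Fintype.ofFinite N
  have := Fintype.ofFinite (N.subgroupOf H)
  have hAS : AbSylow (N.subgroupOf H) := by
    intro p hp P hPN hP a ha b hb
    have : Fact p.Prime := ⟨hp⟩
    let Q : Subgroup N := (P.map H.subtype).subgroupOf N
    have hQ : IsPGroup p Q := (hP.map H.subtype).comap_of_injective _ N.subtype_injective
    obtain ⟨S, hS⟩ := hQ.exists_le_sylow
    have := hab p S ⟨(a : G), Subgroup.mem_subgroupOf.mp (hPN ha)⟩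
      (hS (Subgroup.mem_subgroupOf.mpr ⟨a, ha, rfl⟩))
      ⟨(b : G), Subgroup.mem_subgroupOf.mp (hPN hb)⟩
      (hS (Subgroup.mem_subgroupOf.mpr ⟨b, hb, rfl⟩))
    exact Subtype.ext (congrArg (fun z : N => (z : G)) this)
  obtain ⟨U, lam, hlam, h1, hlind⟩ := aux _ H rfl inferInstance (N.subgroupOf H) hAS ψ hψ
    (isIrr_comp_mulEquiv hψN (Subgroup.subgroupOfEquivOfLe hNH))
  refine ⟨U.map H.subtype,
    fun x => lam ((Subgroup.equivMapOfInjective U H.subtype H.subtype_injective).symm x),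
    isCharacter_comp_mulEquiv hlam (Subgroup.equivMapOfInjective U H.subtype H.subtype_injective).symm,
    by simp [h1], ?_⟩
  rw [indFun_map H U lam, hlind, hind]

end Cfsg.Agent.S0859
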