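import Cfsg.Statements.S0861
import Cfsg.Agent.Lib.Char.Ito
import Cfsg.Agent.Lib.Char.Linear
import Cfsg.Agent.Lib.CharBlocks.AMGM
import Cfsg.Agent.Lib.CharNormal.Kernel

set_option autoImplicit false
open Cfsg

namespace Cfsg.Agent.S0861

open CfsgLib.Char

open scoped ComplexConjugate commutatorElement

theorem dvd_sum_pow_sub {ι : Type*} {O : Type*} [CommRing O] {p : ℕ} (hp : p.Prime) (k : ℕ)
    (z : ι → O) (s : Finset ι) :
    (p : O) ∣ (∑ i ∈ s, z i) ^ p ^ k - ∑ i ∈ s, z i ^ p ^ k := by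
  classical
  induction s using Finset.induction_on with
  | empty => simp [zero_pow (pow_ne_zero k hp.ne_zero)]
  | insert a s has ih =>
    rw [Finset.sum_insert has, Finset.sum_insert has]
    obtain ⟨r, hr⟩ := exists_add_pow_prime_pow_eq hp (z a) (∑ i ∈ s, z i) k
    obtain ⟨c, hc⟩ := ih
    exact ⟨c + z a * (∑ i ∈ s, z i) * r, by linear_combination hr + hc⟩

theorem char_ne_zero_of_pPow {G : Type*} [Group G] [Finite G] {p : ℕ} (hp : p.Prime)
    {χ : G → ℂ} (hχ : Cfsg.IsCharacter G χ) {d : ℕ} (hd : χ 1 = d) (hdp : ¬ p ∣ d) {g : G}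
    {k : ℕ} (hg : g ^ p ^ k = 1) : χ g ≠ 0 := by
  intro h0
  obtain ⟨n, ρ, rfl⟩ := hχ
  obtain ⟨z, hz, hsum⟩ := exists_roots_char_pow ρ g
  have hi : ∀ i, IsIntegral ℤ (z i) := fun i =>
    IsIntegral.of_pow (orderOf_pos g) (by rw [hz i]; exact isIntegral_one)
  let w : Fin _ → integralClosure ℤ ℂ := fun i => ⟨z i, hi i⟩
  obtain ⟨c, hc⟩ := dvd_sum_pow_sub hp k w Finset.univ
  have hc' := congrArg (fun x : integralClosure ℤ ℂ => (x : ℂ)) hc
  simp only [Subalgebra.coe_sub, Subalgebra.coe_pow, Subalgebra.coe_mul, w,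
    AddSubmonoidClass.coe_finsetSum, SubringClass.coe_natCast] at hc'
  have e1 : ∑ i, z i = 0 := by simpa [h0] using (hsum 1).symm
  have e2 : ∑ i, z i ^ p ^ k = d := by rw [← hsum (p ^ k), hg, hd]
  rw [e1, e2, zero_pow (pow_ne_zero k hp.ne_zero)] at hc'
  refine hdp (dvd_of_isIntegral_div hp.ne_zero ?_)
  have : ((d : ℂ) / p) = -(c : ℂ) := by
    rw [div_eq_iff (by exact_mod_cast hp.ne_zero)]
    linear_combination -hc'
  rw [this]
  exact c.2.neg


/-- Let P be a normal abelian Sylow p-subgroup of the finite group G and suppose some element g of P has centralizer exactly P. Then the number of irreducible characters of G is at most the order of P, and if equality holds then G / P is abelian (the commutator subgroup lies in P). -/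
theorem result {G : Type*} [Group G] [Finite G] (p : ℕ) [Fact p.Prime] (P : Sylow p G) [(P : Subgroup G).Normal] (hab : ∀ a ∈ P, ∀ b ∈ P, a * b = b * a) (g : G) (hg : g ∈ P) (hC : Subgroup.centralizer ({g} : Set G) = P) : Nat.card (Cfsg.IrrCharacter G) ≤ Nat.card P ∧ (Nat.card (Cfsg.IrrCharacter G) = Nat.card P → commutator G ≤ P) := by
  classical
  have := Fintype.ofFinite G
  have hp : p.Prime := Fact.out
  obtain ⟨a, ha⟩ := IsPGroup.iff_card.1 P.2
  have hne : ∀ χ : Cfsg.IrrCharacter G, (χ : G → ℂ) g ≠ 0 := by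
    intro χ
    obtain ⟨d, hd⟩ := exists_degree (isCharacter_of_isIrr χ.2)
    have hdp : ¬ p ∣ d := fun h =>
      P.not_dvd_index (h.trans (degree_dvd_index_abelian_normal (P : Subgroup G) hab χ.2 hd))
    exact char_ne_zero_of_pPow hp (isCharacter_of_isIrr χ.2) hd hdp (k := a)
      (by rw [← ha]; exact congrArg Subtype.val (pow_card_eq_one' (x := (⟨g, hg⟩ : (P : Subgroup G)))))
  set f : Cfsg.IrrCharacter G → ℝ := fun χ => Complex.normSq ((χ : G → ℂ) g) with hf
  have hfc : ∀ χ : Cfsg.IrrCharacter G, (f χ : ℂ) = (χ : G → ℂ) g * (χ : G → ℂ) g⁻¹ := fun χ => by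
    rw [char_inv (isCharacter_of_isIrr χ.2), Complex.mul_conj]
  have hsum : ∑ χ, f χ = (Nat.card P : ℝ) := by
    have h := second_orthogonality g g
    rw [if_pos (IsConj.refl g), hC] at h
    simp only [Complex.mul_conj] at h
    exact_mod_cast h
  have hpos : ∀ χ, 0 < f χ := fun χ => Complex.normSq_pos.mpr (hne χ)
  have hint : IsIntegral ℤ (∏ χ, (f χ : ℂ)) := IsIntegral.prod _ fun χ _ => by
    rw [hfc]
    exact (char_isIntegral (isCharacter_of_isIrr χ.2) g).mul
      (char_isIntegral (isCharacter_of_isIrr χ.2) g⁻¹)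
  obtain ⟨m, hm⟩ := CfsgLib.CharBlocks.exists_int_of_fixed hint fun σ => by
    simp only [hfc, map_prod, map_mul]
    exact Fintype.prod_equiv (CfsgLib.CharNormal.galIrr σ) _ _ fun χ => rfl
  rw [← Complex.ofReal_prod] at hm
  have hm' : ∏ χ, f χ = (m : ℝ) := by exact_mod_cast hm
  have h1 : (1 : ℝ) ≤ ∏ χ, f χ := by
    have h0 : (0 : ℝ) < (m : ℝ) := hm' ▸ Finset.prod_pos fun χ _ => hpos χ
    rw [hm']
    exact_mod_cast (show (1 : ℤ) ≤ m from by exact_mod_cast h0)
  have h2 : 0 ≤ ∑ χ, Real.log (f χ) := by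
    rw [← Real.log_prod fun χ _ => (hpos χ).ne']
    exact Real.log_nonneg h1
  have h3 : ∑ χ, Real.log (f χ) ≤ (Nat.card P : ℝ) - Nat.card (Cfsg.IrrCharacter G) := by
    calc ∑ χ, Real.log (f χ) ≤ ∑ χ, (f χ - 1) :=
          Finset.sum_le_sum fun χ _ => Real.log_le_sub_one_of_pos (hpos χ)
      _ = _ := by simp [Finset.sum_sub_distrib, hsum, Nat.card_eq_fintype_card]
  refine ⟨by exact_mod_cast sub_nonneg.mp (h2.trans h3), fun heq => ?_⟩
  have hone : ∀ χ, f χ = 1 := by
    intro χ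
    by_contra hne1
    have h4 : ∑ χ, Real.log (f χ) < ∑ χ, (f χ - 1) :=
      Finset.sum_lt_sum (fun χ _ => Real.log_le_sub_one_of_pos (hpos χ))
        ⟨χ, Finset.mem_univ _, Real.log_lt_sub_one_of_pos (hpos χ) hne1⟩
    simp only [Finset.sum_sub_distrib, hsum, Finset.sum_const, Finset.card_univ, nsmul_eq_mul,
      mul_one, ← Nat.card_eq_fintype_card, heq, sub_self] at h4
    linarith
  have hlin : ∀ ψ : Cfsg.IrrCharacter (G ⧸ (P : Subgroup G)),
      (ψ : G ⧸ (P : Subgroup G) → ℂ) 1 = 1 := by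
    intro ψ
    have := hone ⟨_, CfsgLib.CharNormal.isIrr_comp_mk' (P : Subgroup G) ψ.2⟩
    simp only [hf, Function.comp_apply, (QuotientGroup.eq_one_iff g).mpr hg] at this
    obtain ⟨d, hd⟩ := exists_degree (isCharacter_of_isIrr ψ.2)
    rw [hd, Complex.normSq_natCast] at this
    have hd1 : d * d = 1 := by exact_mod_cast this
    rw [hd, Nat.eq_one_of_mul_eq_one_right hd1, Nat.cast_one]
  have hc := comm_iff_forall_linear.mpr hlin
  rw [commutator_def, Subgroup.commutator_le]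
  intro x _ y _
  rw [← QuotientGroup.eq_one_iff, ← QuotientGroup.mk'_apply, map_commutatorElement,
    commutatorElement_eq_one_iff_mul_comm]
  exact hc _ _

end Cfsg.Agent.S0861
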