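import Cfsg.Statements.S0868
import Cfsg.Agent.Lib.CharNormal.Gallagher

set_option autoImplicit false
open scoped ComplexConjugate
open Cfsg

namespace Cfsg.Agent.S0868

open CfsgLib.Char CfsgLib.CharNormal
open scoped ComplexConjugate

/-- Let N be a normal subgroup of the finite group G, χ an irreducible character of G whose restriction ϑ to N is irreducible, and ψ an irreducible character of G. Define η on G by η g = (1 / order of N) * Σ over n in N of ψ (n * g) * conj (χ (n * g)). Then: if the restriction of ψ to N has nonzero inner product with ϑ, η is an irreducible character of G; if that inner product is zero, η vanishes identically; and if ψ = χ then η is identically 1. -/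
theorem result {G : Type*} [Group G] [Fintype G] (N : Subgroup G) [N.Normal] [Fintype N] (χ : G → ℂ) (hχ : Cfsg.IsIrrCharacter G χ) (hχN : Cfsg.IsIrrCharacter N (fun n : N => χ n)) (ψ : G → ℂ) (hψ : Cfsg.IsIrrCharacter G ψ) (η : G → ℂ) (hη : η = fun g => (Nat.card N : ℂ)⁻¹ * ∑ n : N, ψ ((n : G) * g) * conj (χ ((n : G) * g))) : (Cfsg.classInner (fun n : N => ψ n) (fun n : N => χ n) ≠ 0 → Cfsg.IsIrrCharacter G η) ∧ (Cfsg.classInner (fun n : N => ψ n) (fun n : N => χ n) = 0 → η = 0) ∧ (ψ = χ → η = fun _ => 1) := by
  classical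
  subst hη
  have hχc := isCharacter_of_isIrr hχ
  have := Fintype.ofFinite (G ⧸ N)
  set f : G → ℂ := fun g => ψ g * conj (χ g) with hf
  have hfc : Cfsg.IsClassFunction G f := isClassFunction_mul (isClassFunction_of_isIrr hψ)
      (isClassFunction_conj (isClassFunction_of_isCharacter hχc))
  have heta : (fun g => (Nat.card N : ℂ)⁻¹ * ∑ n : N, ψ ((n : G) * g) * conj (χ ((n : G) * g))) =
      cosetAvg N f ∘ QuotientGroup.mk := by
    funext g
    rw [Function.comp_apply, cosetAvg_mk]
    congr 1
    refine Finset.sum_congr rfl fun n _ => ?_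
    have : f (g * n) = f ((n : G) * g) := by
      have := hfc ((n : G) * g) g
      rwa [← mul_assoc, mul_inv_cancel_right] at this
    exact this.symm
  have hmul : ∀ β : G ⧸ N → ℂ, ψ = χ * (β ∘ QuotientGroup.mk) → cosetAvg N f = β := by
    intro β hβ
    funext q
    obtain ⟨g, rfl⟩ := QuotientGroup.mk_surjective q
    rw [cosetAvg_mk, hf, hβ]
    simp only [Pi.mul_apply, Function.comp_apply, QuotientGroup.mk_mul_of_mem g (Subtype.prop _)]
    rw [Finset.sum_congr rfl fun n _ => mul_right_comm (χ (g * (n : N))) (β g) _, ← Finset.sum_mul,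
      sum_normSq_coset N hχc hχN g, ← mul_assoc, inv_mul_cancel₀ card_ne_zero', one_mul]
  rw [heta]
  refine ⟨fun h0 => ?_, fun h0 => ?_, fun h => ?_⟩
  · obtain ⟨β, hβ, e⟩ := exists_eq_mul_comp_mk' N hχc hχN hψ h0
    rw [hmul β e]
    exact isIrr_comp_mk' N hβ
  · suffices cosetAvg N f = 0 by rw [this]; rfl
    refine classFun_ext (isClassFunction_cosetAvg N hfc) (isClassFunction_const 0) fun β hβ => ?_
    show _ = Cfsg.classInner (0 : G ⧸ N → ℂ) β
    rw [classInner_zero_left, ← classInner_mul_comp_mk']
    by_contra hne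
    have h1 : Cfsg.classInner ψ (χ * (β ∘ QuotientGroup.mk)) ≠ 0 := by
      refine fun h1 => hne (Eq.trans ?_ h1)
      simp only [classInner_def, hf, Pi.mul_apply, Function.comp_apply, map_mul, mul_assoc]
    have hψe : ψ = χ * (β ∘ QuotientGroup.mk) :=
      Classical.byContradiction fun h2 =>
        h1 (classInner_irr_ne hψ (isIrr_mul_comp_mk' N hχc hχN hβ) h2)
    have hres : (fun n : N => ψ n) = β 1 • fun n : N => χ n := by
      funext n
      rw [hψe]
      simp [comp_mk'_const N n.2, mul_comm, (QuotientGroup.eq_one_iff (n : G)).mpr n.2]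
    rw [hres, classInner_smul_left, classInner_irr_self hχN, mul_one] at h0
    exact irr_one_ne_zero hβ h0
  · rw [hmul (fun _ => 1) (by rw [h]; funext g; simp)]
    rfl

end Cfsg.Agent.S0868
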