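import Cfsg.Statements.S0874
import Cfsg.Agent.Lib.Char.BrauerInduction

set_option autoImplicit false
open Cfsg

namespace Cfsg.Agent.S0874

open CfsgLib.Char

/-- For a finite group G and a prime p there are an integer m not divisible by p and a list of triples (E, φ, c), with E a p-elementary subgroup, φ a character of E and c an integer, such that the constant function m on G equals the sum of the c • (function induced from φ). -/
theorem result {G : Type*} [Group G] [Fintype G] (p : ℕ) (hp : p.Prime) : ∃ (m : ℤ) (l : List ((E : Subgroup G) × ((E → ℂ) × ℤ))), ¬ (p : ℤ) ∣ m ∧ (∀ t ∈ l, Cfsg.IsElementary p t.1 ∧ Cfsg.IsCharacter t.1 t.2.1) ∧ (fun _ : G => (m : ℂ)) = (l.map fun t => (t.2.2 : ℂ) • Cfsg.indFun t.1 t.2.1).sum := by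
  obtain ⟨m, hm, hmem⟩ := exists_const_mem_elemSpan (G := G) hp
  suffices h : ∀ f ∈ elemSpan p G, ∃ l : List ((E : Subgroup G) × ((E → ℂ) × ℤ)),
      (∀ t ∈ l, Cfsg.IsElementary p t.1 ∧ Cfsg.IsCharacter t.1 t.2.1) ∧
      f = (l.map fun t => (t.2.2 : ℂ) • Cfsg.indFun t.1 t.2.1).sum by
    obtain ⟨l, hl, he⟩ := h _ hmem
    exact ⟨m, l, hm, hl, he⟩
  intro f hf
  induction hf using AddSubgroup.closure_induction with
  | mem f hf =>
    obtain ⟨E, ψ, hE, hψ, rfl⟩ := hf
    exact ⟨[⟨E, ψ, 1⟩], by simp [hE, hψ], by simp⟩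
  | zero => exact ⟨[], by simp, by simp⟩
  | add a b _ _ iha ihb =>
    obtain ⟨l, hl, rfl⟩ := iha
    obtain ⟨l', hl', rfl⟩ := ihb
    exact ⟨l ++ l', fun t ht => (List.mem_append.mp ht).elim (hl t) (hl' t), by simp⟩
  | neg a ha iha =>
    obtain ⟨l, hl, rfl⟩ := iha
    refine ⟨l.map fun t => ⟨t.1, t.2.1, -t.2.2⟩, ?_, ?_⟩
    · intro t ht
      obtain ⟨s, hs, rfl⟩ := List.mem_map.mp ht
      exact hl s hs
    · clear ha hl
      induction l with
      | nil => simp
      | cons t l ih =>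
        simp only [List.map_cons, List.sum_cons, Int.cast_neg, neg_smul, neg_add] at ih ⊢
        rw [← ih]

end Cfsg.Agent.S0874
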