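import Cfsg.Statements.S0875
import Cfsg.Agent.Lib.Char.PiSection

set_option autoImplicit false
open Cfsg

namespace Cfsg.Agent.S0875

open CfsgLib.Char

/-- Let G be a finite group of order m * n with m and n coprime, and g an element whose order is coprime to m. Every x in G factors uniquely as x = u * v with u, v commuting, the order of u coprime to n and the order of v coprime to m; let ϑ be the function on G equal to n at those x whose factor v is conjugate to g and equal to 0 elsewhere. Then ϑ is a linear combination of the irreducible characters of G with algebraic-integer coefficients. -/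
theorem result {G : Type*} [Group G] [Fintype G] (m n : ℕ) (hmn : Nat.card G = m * n) (hcop : Nat.Coprime m n) (g : G) (hg : Nat.Coprime (orderOf g) m) (ϑ : G → ℂ) (hϑ1 : ∀ x : G, (∃ v : G, IsConj v g ∧ (∃ u : G, x = u * v ∧ Commute u v ∧ Nat.Coprime (orderOf u) n ∧ Nat.Coprime (orderOf v) m)) → ϑ x = n) (hϑ0 : ∀ x : G, (¬ ∃ v : G, IsConj v g ∧ (∃ u : G, x = u * v ∧ Commute u v ∧ Nat.Coprime (orderOf u) n ∧ Nat.Coprime (orderOf v) m)) → ϑ x = 0) : ∃ c : Cfsg.IrrCharacter G → ℂ, (∀ χ, c χ ∈ Cfsg.AlgInt) ∧ ϑ = ∑ᶠ χ : Cfsg.IrrCharacter G, c χ • (χ : G → ℂ) := by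
  classical
  have hd : Nat.card G ∣ m * n := hmn.dvd
  have hgn : g ^ n = 1 := (orderOf_dvd_iff_coprime hcop hd g).mpr hg
  have hiff : ∀ x : G, (∃ v : G, IsConj v g ∧ (∃ u : G, x = u * v ∧ Commute u v ∧
      Nat.Coprime (orderOf u) n ∧ Nat.Coprime (orderOf v) m)) ↔ IsConj (piPart m n x) g := by
    intro x
    constructor
    · rintro ⟨v, hv, u, rfl, hc, hu, hv'⟩
      rw [piPart_eq_of_mul hcop hc ((orderOf_dvd_iff_coprime hcop.symm (mul_comm m n ▸ hd) u).mpr hu)
        ((orderOf_dvd_iff_coprime hcop hd v).mpr hv')]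
      exact hv
    · intro h
      have hxp : x ^ (m * n) = 1 := pow_eq_one_of_dvd hd x
      exact ⟨_, h, _, (inv_mul_cancel_right x _).symm, commute_piPart x m n,
        (orderOf_dvd_iff_coprime hcop.symm (mul_comm m n ▸ hd) _).mp
          (piPart_compl_pow_eq_one hcop hxp),
        (orderOf_dvd_iff_coprime hcop hd _).mp (piPart_pow_eq_one hxp)⟩
  have hϑ : ϑ = fun x => if IsConj (piPart m n x) g then (n : ℂ) else 0 := funext fun x => by
    by_cases h : IsConj (piPart m n x) g
    · rw [if_pos h]; exact hϑ1 x ((hiff x).mpr h)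
    · rw [if_neg h]; exact hϑ0 x fun h' => h ((hiff x).mp h')
  have hcl : Cfsg.IsClassFunction G ϑ := fun x b => by
    rw [hϑ]
    have hc : IsConj (piPart m n x) (b * piPart m n x * b⁻¹) := isConj_iff.mpr ⟨b, rfl⟩
    have e : IsConj (piPart m n (b * x * b⁻¹)) g ↔ IsConj (piPart m n x) g := by
      rw [piPart_conj]
      exact ⟨fun h => hc.trans h, fun h => hc.symm.trans h⟩
    simp only [e]
  refine ⟨fun χ => Cfsg.classInner ϑ χ, fun χ => ?_, classFun_eq_finsum hcl⟩
  show IsIntegral ℤ _
  rw [hϑ]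
  exact isIntegral_classInner_section hmn hcop g (isCharacter_of_isIrr χ.2)

end Cfsg.Agent.S0875
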