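import Cfsg.Statements.S0876
import Cfsg.Agent.Lib.Char.PiSection
import Cfsg.Agent.Lib.Blocks.AlgInt

set_option autoImplicit false
open Cfsg

namespace Cfsg.Agent.S0876

open CfsgLib.Char CfsgLib.Blocks

/-- Let G be a finite group, p a prime and M a maximal ideal of the ring of algebraic integers containing p. Let x, y be elements with p-parts a and b (so a⁻¹ * x and b⁻¹ * y are their p-regular parts). Then a⁻¹ * x and b⁻¹ * y are conjugate in G if and only if, for every irreducible character χ, the difference χ x - χ y lies in the local ideal at M. -/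
theorem result {G : Type*} [Group G] [Finite G] (p : ℕ) (M : Ideal Cfsg.AlgInt) (hM : Cfsg.IsPModular p M) (x y a b : G) (ha : Cfsg.IsPPart p x a) (hb : Cfsg.IsPPart p y b) : IsConj (a⁻¹ * x) (b⁻¹ * y) ↔ ∀ χ : Cfsg.IrrCharacter G, Cfsg.MemLocalIdeal M ((χ : G → ℂ) x - (χ : G → ℂ) y) := by
  classical
  have := Fintype.ofFinite G
  have hp := hM.1
  have := hM.2.1
  obtain ⟨e, n, hn, hGe⟩ := Nat.exists_eq_pow_mul_and_not_dvd (Nat.card_pos (α := G)).ne' p hp.ne_one
  have hcop : Nat.Coprime (p ^ e) n := Nat.Coprime.pow_left e ((hp.coprime_iff_not_dvd).mpr hn)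
  -- the `p`-regular part
  have hreg : ∀ z c : G, Cfsg.IsPPart p z c → piPart (p ^ e) n z = c⁻¹ * z := by
    rintro z c ⟨w, rfl, hc, ⟨k, hk⟩, hw⟩
    rw [inv_mul_cancel_left]
    refine piPart_eq_of_mul hcop hc ?_ ?_
    · refine orderOf_dvd_iff_pow_eq_one.mp ?_
      rw [hk]
      have h1 : p ^ k ∣ p ^ e * n := hGe ▸ hk ▸ orderOf_dvd_natCard c
      exact (Nat.Coprime.pow_left k ((hp.coprime_iff_not_dvd).mpr hn)).dvd_of_dvd_mul_right h1
    · exact orderOf_dvd_iff_pow_eq_one.mp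
        ((Nat.Coprime.pow_right e ((hp.coprime_iff_not_dvd).mpr hw).symm).dvd_of_dvd_mul_left
          (hGe ▸ orderOf_dvd_natCard w))
  rw [← hreg x a ha, ← hreg y b hb]
  have hroot : ∀ z : ℂ, (∃ d : ℕ, 0 < d ∧ z ^ d = 1) → z ∈ locRing M := fun z ⟨d, hd, hz⟩ =>
    algInt_le_locRing M (IsIntegral.of_pow hd (hz ▸ isIntegral_one))
  have hchar : ∀ (χ : Cfsg.IrrCharacter G) (g : G), (χ : G → ℂ) g ∈ locRing M := fun χ g =>
    algInt_le_locRing M (char_isIntegral (isCharacter_of_isIrr χ.2) g)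
  have hcong : ∀ (χ : Cfsg.IrrCharacter G) (g : G),
      res M ⟨_, hchar χ g⟩ = res M ⟨_, hchar χ (piPart (p ^ e) n g)⟩ := by
    intro χ g
    obtain ⟨d, ρ, -, hρ⟩ := χ.2
    obtain ⟨z, hz, hsum⟩ := exists_roots_char_pow ρ g
    obtain ⟨j, hj⟩ : ∃ j : ℕ, g ^ j = piPart (p ^ e) n g := by
      have h : piPart (p ^ e) n g ∈ Subgroup.zpowers g := Subgroup.zpow_mem_zpowers g _
      exact Submonoid.mem_powers_iff _ _ |>.mp (mem_powers_iff_mem_zpowers.mpr h)
    have hgG : orderOf g ∣ Nat.card G := orderOf_dvd_natCard g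
    have hzc : ∀ i, z i ∈ locRing M := fun i => hroot _ ⟨_, orderOf_pos g, hz i⟩
    have e1 : (⟨_, hchar χ g⟩ : locRing M) = ∑ i, ⟨z i, hzc i⟩ := by
      refine Subtype.ext ?_
      have h1 := hsum 1
      simp only [pow_one] at h1
      push_cast
      rw [← hρ, h1]
    have e2 : (⟨_, hchar χ (piPart (p ^ e) n g)⟩ : locRing M) = ∑ i, (⟨z i, hzc i⟩ : locRing M) ^ j := by
      refine Subtype.ext ?_
      push_cast
      rw [← hρ, ← hj, hsum j]
    rw [e1, e2, map_sum, map_sum]
    refine Finset.sum_congr rfl fun i _ => ?_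
    set w : locRing M := ⟨z i, hzc i⟩
    -- `g ^ j * g⁻¹` is a `p`-element
    have hj1 : (g ^ j) ^ p ^ e = g ^ p ^ e := by
      have h1 := piPart_compl_pow_eq_one hcop (pow_eq_one_of_dvd hGe.dvd g)
      rw [← hj, ((Commute.pow_self g j).symm.inv_right).mul_pow, inv_pow, mul_inv_eq_one] at h1
      exact h1.symm
    have hmod : (w ^ j) ^ p ^ e = w ^ p ^ e := by
      refine Subtype.ext ?_
      push_cast
      rw [← pow_mul] at hj1 ⊢
      have h2 := pow_eq_pow_iff_modEq.mp hj1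
      rw [pow_eq_pow_mod (j * p ^ e) (hz i), pow_eq_pow_mod (p ^ e) (hz i),
        show j * p ^ e % orderOf g = p ^ e % orderOf g from h2]
    rw [map_pow]
    have hfrob := congrArg (res M) hmod
    rw [map_pow, map_pow, map_pow] at hfrob
    have : Fact p.Prime := ⟨hp⟩
    have : CharP (Res M) p := res_charP M hM
    have : ExpChar (Res M) p := .prime hp
    exact (iterateFrobenius_inj (Res M) p e (by rwa [iterateFrobenius_def, iterateFrobenius_def])).symm
  have hiff : ∀ χ : Cfsg.IrrCharacter G,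
      Cfsg.MemLocalIdeal M ((χ : G → ℂ) x - (χ : G → ℂ) y) ↔
        res M ⟨_, hchar χ (piPart (p ^ e) n x)⟩ = res M ⟨_, hchar χ (piPart (p ^ e) n y)⟩ := by
    intro χ
    rw [← hcong, ← hcong]
    exact memLocalIdeal_sub_iff (M := M) (x := ⟨_, hchar χ x⟩) (y := ⟨_, hchar χ y⟩)
  constructor
  · intro h χ
    rw [hiff]
    exact congrArg (res M) (Subtype.ext (isClassFunction_iff.mp (isClassFunction_of_isIrr χ.2) _ _ h))
  · intro hall
    by_contra hne
    set g := piPart (p ^ e) n y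
    set ϑ : G → ℂ := fun z => if IsConj (piPart (p ^ e) n z) g then (n : ℂ) else 0
    have hcl : Cfsg.IsClassFunction G ϑ := fun z c => by
      have hc : IsConj (piPart (p ^ e) n z) (c * piPart (p ^ e) n z * c⁻¹) := isConj_iff.mpr ⟨c, rfl⟩
      have he : IsConj (piPart (p ^ e) n (c * z * c⁻¹)) g ↔ IsConj (piPart (p ^ e) n z) g := by
        rw [piPart_conj]
        exact ⟨fun h => hc.trans h, fun h => hc.symm.trans h⟩
      simp only [ϑ, he]
    have hc : ∀ χ : Cfsg.IrrCharacter G, Cfsg.classInner ϑ χ ∈ locRing M := fun χ =>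
      algInt_le_locRing M (isIntegral_classInner_section hGe hcop g (isCharacter_of_isIrr χ.2))
    have hval : ∀ w : G, ϑ w = ∑ χ : Cfsg.IrrCharacter G,
        Cfsg.classInner ϑ χ * (χ : G → ℂ) w := fun w => by
      conv_lhs => rw [classFun_eq_sum hcl]
      simp [Finset.sum_apply]
    have hmem : ∀ w : G, ϑ w ∈ locRing M := fun w => by
      rw [hval w]
      exact Subring.sum_mem _ fun χ _ => Subring.mul_mem _ (hc χ) (hchar χ w)
    have hres : ∀ w, res M ⟨_, hmem w⟩ =
        ∑ χ : Cfsg.IrrCharacter G, res M ⟨_, hc χ⟩ * res M ⟨_, hchar χ w⟩ := fun w => by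
      have : (⟨_, hmem w⟩ : locRing M) = ∑ χ : Cfsg.IrrCharacter G, ⟨_, hc χ⟩ * ⟨_, hchar χ w⟩ :=
        Subtype.ext (by push_cast; exact hval w)
      rw [this, map_sum]
      exact Finset.sum_congr rfl fun χ _ => map_mul _ _ _
    have heq : res M ⟨_, hmem x⟩ = res M ⟨_, hmem y⟩ := by
      rw [hres, hres]
      refine Finset.sum_congr rfl fun χ _ => ?_
      rw [hcong χ x, hcong χ y, (hiff χ).mp (hall χ)]
    have hy1 : ϑ y = n := if_pos (IsConj.refl _)
    have hx1 : ϑ x = 0 := if_neg hne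
    rw [show (⟨_, hmem x⟩ : locRing M) = 0 from Subtype.ext hx1,
      show (⟨_, hmem y⟩ : locRing M) = (n : locRing M) from Subtype.ext (show ϑ y = _ by push_cast; exact hy1),
      map_zero] at heq
    exact hn ((res_natCast_eq_zero_iff M hM n).mp heq.symm)

end Cfsg.Agent.S0876
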