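import Cfsg.Statements.S0879
import Cfsg.Agent.Lib.Char.Induced

set_option autoImplicit false
open Cfsg

namespace Cfsg.Agent.S0879

/-- Let G be a Zassenhaus group on the finite set Ω and E the stabilizer of two distinct points a, b. Then an element outside the normalizer of E conjugates no non-identity element of E into E, and E has index 2 in its normalizer. -/
theorem result {G Ω : Type*} [Group G] [Finite G] [MulAction G Ω] [Fintype Ω] (hZ : Cfsg.IsZassenhausGroup G Ω) {a b : Ω} (hab : a ≠ b) : (∀ g : G, g ∉ Subgroup.normalizer ((MulAction.stabilizer G a ⊓ MulAction.stabilizer G b : Subgroup G) : Set G) → ∀ x ∈ (MulAction.stabilizer G a ⊓ MulAction.stabilizer G b : Subgroup G), g * x * g⁻¹ ∈ (MulAction.stabilizer G a ⊓ MulAction.stabilizer G b : Subgroup G) → x = 1) ∧ ((MulAction.stabilizer G a ⊓ MulAction.stabilizer G b : Subgroup G).subgroupOf (Subgroup.normalizer ((MulAction.stabilizer G a ⊓ MulAction.stabilizer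 G b : Subgroup G) : Set G))).index = 2 := by
  classical
  obtain ⟨hfaith, h2, h3, ⟨g₀, hg₀, a₀, b₀, hab₀, ha₀, hb₀⟩, -⟩ := hZ
  rw [MulAction.is_two_pretransitive_iff] at h2
  set E : Subgroup G := MulAction.stabilizer G a ⊓ MulAction.stabilizer G b with hEdef
  have hE : ∀ g, g ∈ E ↔ g • a = a ∧ g • b = b := fun g => by
    simp [hEdef, Subgroup.mem_inf, MulAction.mem_stabilizer_iff]
  obtain ⟨x₀, hx₀, hx₁⟩ : ∃ x ∈ E, x ≠ 1 := by
    obtain ⟨t, ht1, ht2⟩ := h2 hab₀ hab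
    refine ⟨t * g₀ * t⁻¹, (hE _).mpr ⟨?_, ?_⟩, fun e => hg₀ (conj_eq_one_iff.mp e)⟩
    · rw [← ht1, mul_smul, inv_smul_smul, mul_smul, ha₀]
    · rw [← ht2, mul_smul, inv_smul_smul, mul_smul, hb₀]
  have htwo : ∀ x ∈ E, x ≠ 1 → ∀ c : Ω, x • c = c → c = a ∨ c = b := by
    intro x hx hx1 c hc
    by_contra hne
    push Not at hne
    exact hx1 (h3 x a b c hab (Ne.symm hne.2) (Ne.symm hne.1) ((hE x).mp hx).1 ((hE x).mp hx).2 hc)
  let good : G → Prop := fun g => (g • a = a ∧ g • b = b) ∨ (g • a = b ∧ g • b = a)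
  have hgood : ∀ g : G, ∀ x ∈ E, x ≠ 1 → g * x * g⁻¹ ∈ E → good g := by
    intro g x hx hx1 hgx
    have hne : g * x * g⁻¹ ≠ 1 := fun e => hx1 (conj_eq_one_iff.mp e)
    have k1 := htwo _ hgx hne (g • a) (by rw [mul_smul, inv_smul_smul, mul_smul, ((hE x).mp hx).1])
    have k2 := htwo _ hgx hne (g • b) (by rw [mul_smul, inv_smul_smul, mul_smul, ((hE x).mp hx).2])
    have k3 : g • a ≠ g • b := fun e => hab (smul_left_cancel g e)
    rcases k1 with k1 | k1 <;> rcases k2 with k2 | k2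
    · exact absurd (k1.trans k2.symm) k3
    · exact Or.inl ⟨k1, k2⟩
    · exact Or.inr ⟨k1, k2⟩
    · exact absurd (k1.trans k2.symm) k3
  have hN : ∀ g, g ∈ Subgroup.normalizer (E : Set G) ↔ good g := by
    intro g
    refine ⟨fun h => hgood g x₀ hx₀ hx₁ ((Subgroup.mem_normalizer_iff.mp h x₀).mp hx₀), fun h => ?_⟩
    rw [Subgroup.mem_normalizer_iff]
    intro y
    rw [hE, hE]
    rcases h with ⟨k1, k2⟩ | ⟨k1, k2⟩
    · have e1 : g⁻¹ • a = a := by rw [inv_smul_eq_iff, k1]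
      have e2 : g⁻¹ • b = b := by rw [inv_smul_eq_iff, k2]
      simp only [mul_smul, e1, e2, smul_eq_iff_eq_inv_smul g]
    · have e1 : g⁻¹ • a = b := by rw [inv_smul_eq_iff, k2]
      have e2 : g⁻¹ • b = a := by rw [inv_smul_eq_iff, k1]
      simp only [mul_smul, e1, e2, smul_eq_iff_eq_inv_smul g]
      exact and_comm
  refine ⟨fun g hg x hx hgx => by_contra fun hx1 => hg ((hN g).mpr (hgood g x hx hx1 hgx)), ?_⟩
  obtain ⟨w, hw1, hw2⟩ := h2 hab (Ne.symm hab)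
  rw [Subgroup.index_eq_two_iff]
  refine ⟨⟨w, (hN w).mpr (Or.inr ⟨hw1, hw2⟩)⟩, fun g => ?_⟩
  rw [Subgroup.mem_subgroupOf, Subgroup.mem_subgroupOf, Subgroup.coe_mul, hE, hE]
  simp only [mul_smul, hw1, hw2]
  rcases (hN g).mp g.2 with ⟨k1, k2⟩ | ⟨k1, k2⟩
  · exact Or.inr ⟨⟨k1, k2⟩, fun h => hab (k1.symm.trans h.2)⟩
  · exact Or.inl ⟨⟨k2, k1⟩, fun h => hab (h.1.symm.trans k1)⟩

end Cfsg.Agent.S0879
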