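import Cfsg.Statements.S0880
import Cfsg.Agent.Lib.Char.Zassenhaus

set_option autoImplicit false
open Cfsg

namespace Cfsg.Agent.S0880

open MulAction CfsgLib.Char CfsgLib.Char.Zassenhaus


/-- Let G be a finite simple Zassenhaus group on Ω with n points whose two-point stabilizer E has odd order less than n - 2. Then there are two elements of G, each fixing no point of Ω, that are not conjugate. -/
theorem result {G Ω : Type*} [Group G] [Finite G] [MulAction G Ω] [Fintype Ω] (hZ : Cfsg.IsZassenhausGroup G Ω) {a b : Ω} (hab : a ≠ b) [IsSimpleGroup G] (hodd : Odd (Nat.card ↥(MulAction.stabilizer G a ⊓ MulAction.stabilizer G b : Subgroup G))) (hlt : Nat.card ↥(MulAction.stabilizer G a ⊓ MulAction.stabilizer G b : Subgroup G) < Fintype.card Ω - 2) : ∃ x y : G, (∀ c : Ω, x • c ≠ c) ∧ (∀ c : Ω, y • c ≠ c) ∧ ¬ IsConj x y := by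
  classical
  have := Fintype.ofFinite G
  have he := three_le_of_odd hZ hab hodd
  have hG := card_group hZ hab
  set e := Nat.card ↥(stabilizer G a ⊓ stabilizer G b : Subgroup G) with hedef
  obtain ⟨h, hh⟩ : ∃ h, Fintype.card Ω = h + 1 :=
    ⟨Fintype.card Ω - 1, by have := three_le_points hZ hab; omega⟩
  have hh2 : 2 ≤ h := by have := three_le_points hZ hab; omega
  have := CfsgLib.Char.Zassenhaus.isPretransitive hZ
  set f : G → ℕ := fun g => Fintype.card (fixedBy Ω g) with hf
  have hone : Fintype.card (Quotient (orbitRel G Ω)) = 1 := by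
    have : Subsingleton (Quotient (orbitRel G Ω)) := ⟨fun q r => by
      induction q using Quotient.inductionOn' with | _ c =>
      induction r using Quotient.inductionOn' with | _ d =>
      exact Quotient.sound' (MulAction.exists_smul_eq G d c)⟩
    have : Nonempty (Quotient (orbitRel G Ω)) := ⟨Quotient.mk'' a⟩
    exact le_antisymm (Fintype.card_le_one_iff_subsingleton.mpr inferInstance) Fintype.card_pos
  have hs1 : ∑ g : G, f g = Nat.card G := by
    rw [hf, sum_card_fixedBy_eq_card_orbits_mul_card_group, hone, one_mul, Nat.card_eq_fintype_card]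
  have htwo : Nat.card (Quotient (orbitRel G (Ω × Ω))) = 2 :=
    (two_orbits_iff (by rw [Nat.card_eq_fintype_card]; omega)).mpr hZ.2.1
  have hs2 : ∑ g : G, f g * f g = 2 * Nat.card G := by
    have h2 := sum_card_fixedBy_eq_card_orbits_mul_card_group G (Ω × Ω)
    rw [← Nat.card_eq_fintype_card (α := Quotient (orbitRel G (Ω × Ω))), htwo,
      ← Nat.card_eq_fintype_card (α := G)] at h2
    rw [← h2]
    refine Finset.sum_congr rfl fun g _ => ?_
    rw [hf, ← Fintype.card_prod]
    exact Fintype.card_congr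
      { toFun := fun p => ⟨(p.1.1, p.2.1), Prod.ext p.1.2 p.2.2⟩
        invFun := fun p => (⟨p.1.1, congrArg Prod.fst p.2⟩, ⟨p.1.2, congrArg Prod.snd p.2⟩)
        left_inv := fun p => rfl
        right_inv := fun p => rfl }
  set F := Finset.univ.filter fun g : G => ∀ c : Ω, g • c ≠ c with hF
  have hle : ∀ g : G, g ≠ 1 → f g ≤ 2 := by
    intro g hg
    by_contra hlt
    obtain ⟨c, d, k, h1, h2, h3⟩ := Fintype.two_lt_card_iff.mp (not_le.mp hlt)
    exact hg (eq_one_of_fix hZ (fun e => h1 (Subtype.ext e)) (fun e => h3 (Subtype.ext e))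
      (fun e => h2 (Subtype.ext e)) c.2 d.2 k.2)
  have hkey : ∑ g ∈ Finset.univ.erase (1 : G), ((f g : ℤ) * f g - 3 * f g + 2) = 2 * F.card := by
    have hFe : F = (Finset.univ.erase (1 : G)).filter fun g => f g = 0 := by
      ext g
      simp only [hF, hf, Finset.mem_filter, Finset.mem_univ, true_and, Finset.mem_erase, and_true,
        Fintype.card_eq_zero_iff, isEmpty_subtype]
      exact ⟨fun hg => ⟨fun e => hg a (by rw [e, one_smul]), fun c hc => hg c hc⟩,
        fun hg c hc => hg.2 c hc⟩
    rw [hFe, Finset.card_filter, Nat.cast_sum, Finset.mul_sum]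
    refine Finset.sum_congr rfl fun g hg => ?_
    have := hle g (Finset.ne_of_mem_erase hg)
    interval_cases hfg : f g <;> simp
  have hf1 : f 1 = h + 1 := by
    rw [← hh]
    exact Fintype.card_congr (Equiv.subtypeUnivEquiv fun c => one_smul G c)
  have hall : ∑ g : G, ((f g : ℤ) * f g - 3 * f g + 2) = Nat.card G := by
    rw [Finset.sum_add_distrib, Finset.sum_sub_distrib, ← Finset.mul_sum, Finset.sum_const,
      Finset.card_univ, nsmul_eq_mul, ← Nat.card_eq_fintype_card]
    have e1 : ∑ g : G, (f g : ℤ) * f g = 2 * Nat.card G := by exact_mod_cast hs2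
    have e2 : ∑ g : G, (f g : ℤ) = Nat.card G := by exact_mod_cast hs1
    rw [e1, e2]
    push_cast
    ring
  rw [← Finset.add_sum_erase _ _ (Finset.mem_univ (1 : G)), hkey, hf1] at hall
  rw [hh, Nat.add_sub_cancel] at hG
  have hGz : ((h : ℤ) + 1) * h * e = Nat.card G := by exact_mod_cast hG
  push_cast at hall
  have hF2 : (2 * F.card : ℤ) = h * ((h + 1) * e - (h - 1)) := by linear_combination hall - hGz
  have he3 : (3 : ℤ) ≤ e := by exact_mod_cast he
  have hh2' : (2 : ℤ) ≤ h := by exact_mod_cast hh2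
  have hP : (0 : ℤ) < (h + 1) * e - (h - 1) := by nlinarith
  obtain ⟨x, hx⟩ : F.Nonempty := Finset.card_pos.mp (by
    have : (0 : ℤ) < 2 * F.card := by rw [hF2]; positivity
    omega)
  simp only [hF, Finset.mem_filter, Finset.mem_univ, true_and] at hx
  by_contra hcon
  push Not at hcon
  have hclass : F = Finset.univ.filter fun y => IsConj x y := by
    ext y
    simp only [hF, Finset.mem_filter, Finset.mem_univ, true_and]
    refine ⟨fun hy => hcon x y hx hy, fun hy c hc => ?_⟩
    obtain ⟨g, rfl⟩ := isConj_iff.mp hy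
    refine hx (g⁻¹ • c) ?_
    rw [mul_smul, mul_smul] at hc
    exact smul_left_cancel g (hc.trans (smul_inv_smul g c).symm)
  have hdvd : F.card ∣ Nat.card G := by
    rw [← card_isConj_mul_card_centralizer x]
    refine Dvd.intro _ (congrArg (· * _) ?_)
    rw [hclass, Nat.card_eq_fintype_card, Fintype.card_subtype]
  have hdvd' : ((h + 1) * e - (h - 1) : ℤ) ∣ 2 * ((h + 1) * e) := by
    have h1 : (2 * F.card : ℤ) ∣ 2 * Nat.card G :=
      mul_dvd_mul_left 2 (Int.natCast_dvd_natCast.mpr hdvd)
    rw [hF2, ← hGz, show (2 : ℤ) * ((h + 1) * h * e) = h * (2 * ((h + 1) * e)) by ring] at h1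
    exact (mul_dvd_mul_iff_left (by positivity)).mp h1
  obtain ⟨m, hm⟩ := hdvd'
  have hm2 : 2 < m := by
    by_contra hle'
    push Not at hle'
    have := mul_le_mul_of_nonneg_left hle' hP.le
    nlinarith
  nlinarith [mul_le_mul_of_nonneg_left (show (3 : ℤ) ≤ m by omega) hP.le]

end Cfsg.Agent.S0880
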