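import Cfsg.Statements.S0884
import Cfsg.Agent.Lib.Char.Zassenhaus

set_option autoImplicit false
open Cfsg

namespace Cfsg.Agent.S0884

open MulAction CfsgLib.Char CfsgLib.Char.Zassenhaus


/-- Let G be a finite simple Zassenhaus group on Ω with h + 1 points whose two-point stabilizer E has odd order e with 2e < h - 1, and let H be the subgroup of the stabilizer of a consisting of the identity and the elements fixing no point other than a (given here as a subgroup of the stabilizer of order one less than the number of points whose non-identity elements fix only a; it is the Frobenius kernel of the stabilizer). Then at least e conjugacy classes of G contain no element of H. -/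
theorem result {G Ω : Type*} [Group G] [Finite G] [MulAction G Ω] [Fintype Ω] (hZ : Cfsg.IsZassenhausGroup G Ω) {a b : Ω} (hab : a ≠ b) [IsSimpleGroup G] (h e : ℕ) (hh : Fintype.card Ω = h + 1) (he : Nat.card ↥(MulAction.stabilizer G a ⊓ MulAction.stabilizer G b : Subgroup G) = e) (hodd : Odd e) (hlt : 2 * e < h - 1) (H : Subgroup G) (hHa : H ≤ MulAction.stabilizer G a) (hHcard : Nat.card H + 1 = Fintype.card Ω) (hHfix : ∀ u ∈ H, u ≠ 1 → ∀ c : Ω, u • c = c → c = a) : e ≤ Nat.card {C : ConjClasses G // ∀ g : G, ConjClasses.mk g = C → g ∉ H} := by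
  classical
  have := Fintype.ofFinite G
  have hodd' : Odd (Nat.card ↥(stabilizer G a ⊓ stabilizer G b : Subgroup G)) := he.symm ▸ hodd
  obtain ⟨hcard, hfix⟩ := card_involution hZ hab hh he hodd
  set I := Finset.univ.filter (fun x : G => orderOf x = 2) with hI
  have hIcard : I.card = if Even h then e * (h + 1) else e * h := by
    rw [← hcard, Nat.card_eq_fintype_card, Fintype.card_subtype]
  have hG : (h + 1) * h * e = Nat.card G := by
    rw [← card_group hZ hab, hh, he, Nat.add_sub_cancel]
  let good : ConjClasses G → Prop := fun C => ∀ g : G, ConjClasses.mk g = C → g ∉ H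
  have := Fintype.ofFinite (ConjClasses G)
  set T := Finset.univ.filter good with hT
  have hTcard : Nat.card {C : ConjClasses G // good C} = T.card := by
    rw [Nat.card_eq_fintype_card, Fintype.card_subtype]
  rw [show Nat.card {C : ConjClasses G // ∀ g : G, ConjClasses.mk g = C → g ∉ H} = T.card from hTcard]
  set P := (I ×ˢ I).filter fun p => good (ConjClasses.mk (p.1 * p.2)) with hP
  have hinv : ∀ x ∈ I, x⁻¹ = x := fun x hx => inv_eq_of_mul_eq_one_left (by
    rw [← pow_two, ← (Finset.mem_filter.mp hx).2, pow_orderOf_eq_one])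
  -- each class receives at most `|G|` pairs
  have hup : P.card ≤ T.card * Nat.card G := by
    rw [Finset.card_eq_sum_card_fiberwise (f := fun p : G × G => ConjClasses.mk (p.1 * p.2))
      (t := T) (fun p hp => Finset.mem_filter.mpr ⟨Finset.mem_univ _, (Finset.mem_filter.mp hp).2⟩)]
    refine (Finset.sum_le_card_nsmul _ _ (Nat.card G) fun C _ => ?_)
    obtain ⟨w, rfl⟩ := ConjClasses.mk_surjective C
    set S := Finset.univ.filter fun v : G => IsConj w v with hS
    rw [Finset.card_eq_sum_card_fiberwise (f := fun p : G × G => p.1 * p.2) (t := S) (fun p hp =>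
      Finset.mem_filter.mpr ⟨Finset.mem_univ _,
        (ConjClasses.mk_eq_mk_iff_isConj.mp (Finset.mem_filter.mp hp).2).symm⟩)]
    refine (Finset.sum_le_card_nsmul _ _ (Nat.card (Subgroup.centralizer ({w} : Set G)))
      fun v hv => ?_).trans (le_of_eq ?_)
    · obtain ⟨g, hg⟩ := isConj_iff.mp (Finset.mem_filter.mp hv).2
      rcases Finset.eq_empty_or_nonempty (Finset.filter (fun p : G × G => p.1 * p.2 = v)
        (Finset.filter (fun p : G × G => ConjClasses.mk (p.1 * p.2) = ConjClasses.mk w) P))
        with he0 | ⟨p₀, hp₀⟩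
      · rw [he0]; simp
      have hprop : ∀ p ∈ Finset.filter (fun p : G × G => p.1 * p.2 = v)
          (Finset.filter (fun p : G × G => ConjClasses.mk (p.1 * p.2) = ConjClasses.mk w) P),
          p.1⁻¹ = p.1 ∧ p.2⁻¹ = p.2 ∧ p.1 * p.2 = v := by
        intro p hp
        simp only [hP, Finset.mem_filter, Finset.mem_product] at hp
        exact ⟨hinv _ hp.1.1.1.1, hinv _ hp.1.1.1.2, hp.2⟩
      obtain ⟨hp1, hp2, hp3⟩ := hprop p₀ hp₀
      have hcen : ∀ p : G × G, p.1⁻¹ = p.1 → p.2⁻¹ = p.2 → p.1 * p.2 = v →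
          p.1 * v * p.1⁻¹ = v⁻¹ := fun p h1 h2 h3 => by
        rw [← h3, mul_inv_rev, h1, h2]
        conv_lhs => arg 1; rw [← mul_assoc]; arg 1; arg 1; rw [← h1]
        rw [inv_mul_cancel, one_mul]
      rw [← Fintype.card_coe, ← Nat.card_eq_fintype_card]
      refine Nat.card_le_card_of_injective (fun p => (⟨g⁻¹ * (p₀.1⁻¹ * p.1.1) * g, ?_⟩ :
        Subgroup.centralizer ({w} : Set G))) ?_
      · obtain ⟨q1, q2, q3⟩ := hprop p.1 p.2
        rw [Subgroup.mem_centralizer_singleton_iff]
        have hz : p₀.1⁻¹ * p.1.1 * v * (p₀.1⁻¹ * p.1.1)⁻¹ = v := by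
          calc p₀.1⁻¹ * p.1.1 * v * (p₀.1⁻¹ * p.1.1)⁻¹
              = p₀.1⁻¹ * (p.1.1 * v * p.1.1⁻¹) * p₀.1 := by group
            _ = p₀.1⁻¹ * (p₀.1 * v * p₀.1⁻¹) * p₀.1 := by
              rw [hcen _ q1 q2 q3, hcen _ hp1 hp2 hp3]
            _ = v := by group
        have hz0 := mul_inv_eq_iff_eq_mul.mp hz
        have hz' : p₀.1⁻¹ * p.1.1 * (g * w * g⁻¹) = g * w * g⁻¹ * (p₀.1⁻¹ * p.1.1) := by
          rw [hg]; exact hz0
        calc g⁻¹ * (p₀.1⁻¹ * p.1.1) * g * w = g⁻¹ * (p₀.1⁻¹ * p.1.1 * (g * w * g⁻¹)) * g := by group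
          _ = g⁻¹ * (g * w * g⁻¹ * (p₀.1⁻¹ * p.1.1)) * g := by rw [hz']
          _ = w * (g⁻¹ * (p₀.1⁻¹ * p.1.1) * g) := by group
      · intro p q hpq
        have h1 : p.1.1 = q.1.1 :=
          mul_left_cancel (mul_left_cancel (mul_right_cancel (congrArg Subtype.val hpq)))
        refine Subtype.ext (Prod.ext h1 ?_)
        obtain ⟨-, -, q3⟩ := hprop p.1 p.2
        obtain ⟨-, -, r3⟩ := hprop q.1 q.2
        rw [h1] at q3
        exact mul_left_cancel (q3.trans r3.symm)
    · rw [smul_eq_mul, ← card_isConj_mul_card_centralizer w, hS, Nat.card_eq_fintype_card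
        (α := {x : G // IsConj w x}), Fintype.card_subtype]
  -- the pairs with product conjugate into `H`
  have hbad : ∀ p ∈ (I ×ˢ I), ¬ good (ConjClasses.mk (p.1 * p.2)) →
      p.1 = p.2 ∨ ∃ c : Ω, p.1 • c = c ∧ p.2 • c = c := by
    intro p hp hng
    obtain ⟨hp1, hp2⟩ := Finset.mem_product.mp hp
    simp only [good, not_forall, not_not] at hng
    obtain ⟨v, hv, hvH⟩ := hng
    obtain ⟨g, hg⟩ := isConj_iff.mp (ConjClasses.mk_eq_mk_iff_isConj.mp hv)
    rcases eq_or_ne v 1 with rfl | hv1
    · left
      rw [mul_one, mul_inv_cancel] at hg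
      have := mul_eq_one_iff_eq_inv.mp hg.symm
      rwa [hinv _ hp2] at this
    right
    set u := p.1 * p.2 with hu
    have hua : u • (g • a) = g • a := by
      rw [← hg, mul_smul, inv_smul_smul, mul_smul, mem_stabilizer_iff.mp (hHa hvH)]
    have huniq : ∀ c, u • c = c → c = g • a := by
      intro c hc
      rw [← hg, mul_smul, mul_smul] at hc
      have := hHfix v hvH hv1 (g⁻¹ • c) (smul_left_cancel g (hc.trans (smul_inv_smul g c).symm))
      rwa [inv_smul_eq_iff] at this
    have h1 : p.1 • (g • a) = g • a := by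
      refine huniq _ ?_
      have e' : u * p.1 = p.1 * u⁻¹ := by
        rw [hu, mul_inv_rev, hinv _ hp1, hinv _ hp2, mul_assoc]
      rw [← mul_smul, e', mul_smul, inv_smul_eq_iff.mpr hua.symm]
    refine ⟨g • a, h1, ?_⟩
    have h2 : p.2 = p.1 * u := by
      conv_rhs => rw [hu, ← mul_assoc]; arg 1; arg 1; rw [← hinv _ hp1]
      rw [inv_mul_cancel, one_mul]
    rw [h2, mul_smul, hua, h1]
  have hdiag : ∀ p ∈ (I ×ˢ I), (∀ c : Ω, p.1 • c ≠ c) → ¬ good (ConjClasses.mk (p.1 * p.2)) →
      p.1 = p.2 := fun p hp hno hng => (hbad p hp hng).resolve_right fun ⟨c, hc, _⟩ => hno c hc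
  have hsplit := Finset.card_filter_add_card_filter_not (s := I ×ˢ I)
    (p := fun p => good (ConjClasses.mk (p.1 * p.2)))
  rw [← hP, Finset.card_product] at hsplit
  set Bd := (I ×ˢ I).filter fun p => ¬ good (ConjClasses.mk (p.1 * p.2)) with hBd
  have he1 : 1 ≤ e := hodd.pos
  by_cases hev : Even h
  · rw [if_pos hev] at hIcard
    have hB : Bd.card ≤ (h + 1) * (e * e) := by
      have hsub : ∀ p ∈ Bd, ∃ c : Ω, p.1 • c = c ∧ p.2 • c = c := by
        intro p hp
        obtain ⟨hp, hng⟩ := Finset.mem_filter.mp hp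
        rcases hbad p hp hng with heq | hh'
        · have hx2 := (Finset.mem_filter.mp (Finset.mem_product.mp hp).1).2
          have h2 := hfix _ hx2
          rw [if_pos hev] at h2
          obtain ⟨⟨c, hc⟩⟩ := (Nat.card_eq_one_iff_unique.mp h2).2
          exact ⟨c, hc, heq ▸ hc⟩
        · exact hh'
      let J : Ω → Finset G := fun c => I.filter fun x => x • c = c
      have hJ : ∀ c, (J c).card = e := by
        have hconst : ∀ c, (J c).card = (J a).card := by
          intro c
          obtain ⟨g, rfl⟩ := (CfsgLib.Char.Zassenhaus.isPretransitive hZ).exists_smul_eq a c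
          refine (Finset.card_equiv (MulAut.conj g).toEquiv fun z => ?_).symm
          simp only [J, hI, Finset.mem_filter, Finset.mem_univ, true_and]
          show _ ↔ orderOf (MulAut.conj g z) = 2 ∧ (g * z * g⁻¹) • g • a = g • a
          rw [MulEquiv.orderOf_eq, mul_smul, mul_smul, inv_smul_smul, smul_left_cancel_iff]
        have hu : I = Finset.univ.biUnion J := by
          ext x
          simp only [J, Finset.mem_biUnion, Finset.mem_univ, true_and, Finset.mem_filter]
          refine ⟨fun hx => ?_, fun ⟨_, hx, _⟩ => hx⟩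
          have h2 := hfix _ (Finset.mem_filter.mp hx).2
          rw [if_pos hev] at h2
          obtain ⟨⟨c, hc⟩⟩ := (Nat.card_eq_one_iff_unique.mp h2).2
          exact ⟨c, hx, hc⟩
        have hd : ((Finset.univ : Finset Ω) : Set Ω).PairwiseDisjoint J := by
          intro c _ d _ hcd
          refine Finset.disjoint_left.mpr fun x hxc hxd => hcd ?_
          exact fix_unique_of_involution hZ hodd' hab
            (Finset.mem_filter.mp (Finset.mem_filter.mp hxc).1).2
            (Finset.mem_filter.mp hxc).2 (Finset.mem_filter.mp hxd).2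
        have hsum := Finset.card_biUnion hd
        rw [← hu, hIcard, Finset.sum_congr rfl (fun c _ => hconst c), Finset.sum_const,
          Finset.card_univ, smul_eq_mul, hh, mul_comm e] at hsum
        intro c
        rw [hconst c]
        exact (Nat.eq_of_mul_eq_mul_left (Nat.succ_pos h) hsum).symm
      calc Bd.card ≤ (Finset.univ.biUnion fun c => J c ×ˢ J c).card := by
            refine Finset.card_le_card fun p hp => ?_
            obtain ⟨c, h1, h2⟩ := hsub p hp
            obtain ⟨hp, -⟩ := Finset.mem_filter.mp hp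
            obtain ⟨hp1, hp2⟩ := Finset.mem_product.mp hp
            exact Finset.mem_biUnion.mpr ⟨c, Finset.mem_univ _, Finset.mem_product.mpr
              ⟨Finset.mem_filter.mpr ⟨hp1, h1⟩, Finset.mem_filter.mpr ⟨hp2, h2⟩⟩⟩
        _ ≤ ∑ c : Ω, (J c ×ˢ J c).card := Finset.card_biUnion_le
        _ = (h + 1) * (e * e) := by simp [hJ, hh]
    rw [hIcard] at hsplit
    rw [← hG] at hup
    by_contra hlt
    push Not at hlt
    have h5 := Nat.mul_le_mul_right ((h + 1) * h * e) (show T.card + 1 ≤ e from hlt)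
    have h6 : 0 < (h + 1) * h * e := hG.symm ▸ Nat.card_pos
    nlinarith
  · rw [if_neg hev] at hIcard
    have hB : Bd.card ≤ I.card := by
      refine Finset.card_le_card_of_injOn Prod.fst
        (fun p hp => Finset.mem_coe.mpr (Finset.mem_product.mp (Finset.mem_filter.mp hp).1).1)
        (fun p hp q hq hpq => ?_)
      have key : ∀ r ∈ Bd, r.1 = r.2 := fun r hr => by
        obtain ⟨hr, hng⟩ := Finset.mem_filter.mp hr
        refine hdiag r hr (fun c hc => ?_) hng
        have h2 := hfix _ (Finset.mem_filter.mp (Finset.mem_product.mp hr).1).2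
        rw [if_neg hev, Nat.card_eq_zero] at h2
        rcases h2 with h2 | h2
        · exact h2.elim ⟨c, hc⟩
        · exact not_finite {c : Ω // r.1 • c = c}
      exact Prod.ext hpq ((key p hp).symm.trans (hpq.trans (key q hq)))
    rw [hIcard] at hsplit hB
    rw [← hG] at hup
    by_contra hlt
    push Not at hlt
    have h5 := Nat.mul_le_mul_right ((h + 1) * h * e) (show T.card + 1 ≤ e from hlt)
    have h6 : e + 2 ≤ h := by omega
    have h7 : 0 < e * h := Nat.mul_pos he1 (by omega)
    nlinarith [Nat.mul_le_mul_left (e * h) h6]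

end Cfsg.Agent.S0884
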