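import Cfsg.Statements.S0890
import Cfsg.Agent.Lib.Char.Monomial
import Cfsg.Agent.Lib.Char.Ito
import Cfsg.Agent.Lib.CharNormal.Gallagher
import Cfsg.Agent.Lib.Solvable.MinimalNormal
import Mathlib.GroupTheory.Complement

set_option autoImplicit false
open Cfsg

namespace Cfsg.Agent.S0890

open CfsgLib.Char CfsgLib.CharNormal

open scoped ComplexConjugate Pointwise

/-- A core-free maximal subgroup of a finite solvable group. -/
theorem structure_lemma (Q : Type*) [Group Q] [Finite Q] [Group.IsSolvable Q] (H : Subgroup Q)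
    (hmax : IsCoatom H) (hcore : ∀ K : Subgroup Q, K.Normal → K ≤ H → K = ⊥) :
    ∃ (V : Subgroup Q) (p n : ℕ), p.Prime ∧ V.Normal ∧ Nat.card V = p ^ n ∧ V ⊓ H = ⊥ ∧
      V ⊔ H = ⊤ ∧
      (H ≠ ⊥ → ∃ (A : Subgroup Q) (q b : ℕ), q.Prime ∧ q ≠ p ∧ A ≤ H ∧ A ≠ ⊥ ∧
        (∀ h ∈ H, ∀ a ∈ A, h * a * h⁻¹ ∈ A) ∧ Nat.card A = q ^ b) ∧
      (∀ x ∈ H, (∀ v ∈ V, x * v = v * x) → x = 1) := by
  have : Nontrivial Q := by
    by_contra h
    rw [not_nontrivial_iff_subsingleton] at h
    exact hmax.1 (Subsingleton.elim _ _)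
  obtain ⟨V, p, n, hVn, hp, hn, hVp, hVc, hV0, hVab, hVmin⟩ :=
    CfsgLib.Solvable.exists_normal_prime_pow_card (G := Q)
  have : Fact p.Prime := ⟨hp⟩
  have hVH : ¬ V ≤ H := fun h => hV0 (hcore V hVn h)
  have hsup : V ⊔ H = ⊤ :=
    hmax.2 _ (lt_of_le_of_ne le_sup_right fun h => hVH (h.symm ▸ le_sup_left))
  have hdec : ∀ g : Q, ∃ w ∈ V, ∃ h ∈ H, g = w * h := fun g => by
    obtain ⟨w, hw, h, hh, e⟩ := Subgroup.mem_sup_of_normal_left.mp
      (hsup.ge (Subgroup.mem_top g))
    exact ⟨w, hw, h, hh, e.symm⟩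
  have hinf : V ⊓ H = ⊥ := by
    refine (hVmin _ ⟨fun y hy g => ?_⟩ inf_le_left).resolve_right fun h => hVH (h ▸ inf_le_right)
    obtain ⟨hyV, hyH⟩ := Subgroup.mem_inf.mp hy
    obtain ⟨w, hw, h, hh, rfl⟩ := hdec g
    have h1 : h * y * h⁻¹ ∈ V := hVn.conj_mem y hyV h
    have e : w * h * y * (w * h)⁻¹ = h * y * h⁻¹ := by
      calc w * h * y * (w * h)⁻¹ = w * (h * y * h⁻¹) * w⁻¹ := by group
        _ = h * y * h⁻¹ * w * w⁻¹ := by rw [hVab w hw _ h1]
        _ = _ := by group
    rw [e]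
    exact Subgroup.mem_inf.mpr ⟨h1, H.mul_mem (H.mul_mem hh hyH) (H.inv_mem hh)⟩
  refine ⟨V, p, n, hp, hVn, hVc, hinf, hsup, fun hH => ?_, fun x hxH hx => ?_⟩
  · have : Nontrivial H := H.nontrivial_iff_ne_bot.mpr hH
    obtain ⟨A0, q, b, hAn, hq, hb, hAq, hAc, hA0, -, -⟩ :=
      CfsgLib.Solvable.exists_normal_prime_pow_card (G := H)
    set A := A0.map H.subtype with hAdef
    have hAnorm : ∀ h ∈ H, ∀ a ∈ A, h * a * h⁻¹ ∈ A := by
      rintro h hh _ ⟨a, ha, rfl⟩
      exact ⟨_, hAn.conj_mem a ha ⟨h, hh⟩, rfl⟩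
    have hA0' : A ≠ ⊥ := fun h =>
      hA0 ((Subgroup.map_eq_bot_iff_of_injective _ H.subtype_injective).mp h)
    have hAH : A ≤ H := Subgroup.map_subtype_le _
    refine ⟨A, q, b, hq, ?_, hAH, hA0', hAnorm, ?_⟩
    · rintro rfl
      -- a normal `p`-subgroup of the point stabilizer would act trivially
      have hAp : IsPGroup q A := hAq.map H.subtype
      letI : MulAction A V := MulAction.compHom V ((MulAut.conjNormal (H := V)).comp A.subtype)
      have hone : (1 : V) ∈ MulAction.fixedPoints A V := fun a => map_one (MulAut.conjNormal (a : Q))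
      obtain ⟨v, hv, hv1⟩ := hAp.exists_fixed_point_of_prime_dvd_card_of_fixed_point V
        (hVc ▸ dvd_pow_self q hn.ne') hone
      set W := V ⊓ Subgroup.centralizer (A : Set Q) with hWdef
      have hvW : (v : Q) ∈ W := by
        refine Subgroup.mem_inf.mpr ⟨v.2, Subgroup.mem_centralizer_iff.mpr fun a ha => ?_⟩
        have h1 : a * (v : Q) * a⁻¹ = v := congrArg Subtype.val (hv ⟨a, ha⟩)
        exact mul_inv_eq_iff_eq_mul.mp h1
      have hW : W = V := by
        refine (hVmin W ⟨fun y hy g => ?_⟩ inf_le_left).resolve_left fun h => hv1 ?_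
        · obtain ⟨hyV, hyC⟩ := Subgroup.mem_inf.mp hy
          obtain ⟨w, hw, h, hh, rfl⟩ := hdec g
          have h1 : h * y * h⁻¹ ∈ V := hVn.conj_mem y hyV h
          have e : w * h * y * (w * h)⁻¹ = h * y * h⁻¹ := by
            calc w * h * y * (w * h)⁻¹ = w * (h * y * h⁻¹) * w⁻¹ := by group
              _ = h * y * h⁻¹ * w * w⁻¹ := by rw [hVab w hw _ h1]
              _ = _ := by group
          rw [e]
          refine Subgroup.mem_inf.mpr ⟨h1, Subgroup.mem_centralizer_iff.mpr fun a ha => ?_⟩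
          have h3 := Subgroup.mem_centralizer_iff.mp hyC (h⁻¹ * a * h)
            (by simpa using hAnorm h⁻¹ (H.inv_mem hh) a ha)
          calc a * (h * y * h⁻¹) = h * (h⁻¹ * a * h * y) * h⁻¹ := by group
            _ = h * (y * (h⁻¹ * a * h)) * h⁻¹ := by rw [h3]
            _ = h * y * h⁻¹ * a := by group
        · exact Subtype.ext ((Subgroup.eq_bot_iff_forall _).mp h _ hvW).symm
      refine hA0' (hcore A ⟨fun a ha g => ?_⟩ hAH)
      obtain ⟨w, hw, h, hh, rfl⟩ := hdec g
      have h1 := hAnorm h hh a ha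
      have h2 := Subgroup.mem_centralizer_iff.mp (Subgroup.mem_inf.mp (hW.ge hw)).2 _ h1
      rw [show w * h * a * (w * h)⁻¹ = w * (h * a * h⁻¹) * w⁻¹ by group, ← h2]
      simpa using h1
    · rw [hAdef, Subgroup.card_map_of_injective H.subtype_injective, hAc]
  · have hX : H ⊓ Subgroup.centralizer (V : Set Q) = ⊥ := by
      refine hcore _ ⟨fun y hy g => ?_⟩ inf_le_left
      obtain ⟨hyH, hyC⟩ := Subgroup.mem_inf.mp hy
      obtain ⟨w, hw, h, hh, rfl⟩ := hdec g
      have h1 : h * y * h⁻¹ ∈ H := H.mul_mem (H.mul_mem hh hyH) (H.inv_mem hh)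
      have h2 : h * y * h⁻¹ ∈ Subgroup.centralizer (V : Set Q) := by
        rw [Subgroup.mem_centralizer_iff]
        intro v hv
        have h3 := Subgroup.mem_centralizer_iff.mp hyC (h⁻¹ * v * h)
          (by simpa using hVn.conj_mem v hv h⁻¹)
        calc v * (h * y * h⁻¹) = h * (h⁻¹ * v * h * y) * h⁻¹ := by group
          _ = h * (y * (h⁻¹ * v * h)) * h⁻¹ := by rw [h3]
          _ = h * y * h⁻¹ * v := by group
      have e : w * h * y * (w * h)⁻¹ = h * y * h⁻¹ := by
        calc w * h * y * (w * h)⁻¹ = w * (h * y * h⁻¹) * w⁻¹ := by group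
          _ = h * y * h⁻¹ * w * w⁻¹ := by
              rw [Subgroup.mem_centralizer_iff.mp h2 w hw]
          _ = _ := by group
      rw [e]
      exact Subgroup.mem_inf.mpr ⟨h1, h2⟩
    exact (Subgroup.eq_bot_iff_forall _).mp hX x (Subgroup.mem_inf.mpr
      ⟨hxH, Subgroup.mem_centralizer_iff.mpr fun v hv => (hx v hv).symm⟩)


/-- Let L ≤ H < G with L normal in G, H a maximal subgroup and G / L solvable. Let ϑ be an irreducible character of H whose restriction to L is irreducible and whose induction χ to G is irreducible. Then there is a normal subgroup M of G containing L such that the restriction of χ to M is not a natural-number multiple of a single irreducible character of M. -/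
theorem result {G : Type*} [Group G] [Fintype G] (L H : Subgroup G) [L.Normal] (hLH : L ≤ H) (hmax : IsCoatom H) (hsolv : Group.IsSolvable (G ⧸ L)) (ϑ : H → ℂ) (hϑ : Cfsg.IsIrrCharacter H ϑ) (hϑL : Cfsg.IsIrrCharacter L (fun x : L => ϑ ⟨(x : G), hLH x.2⟩)) (hind : Cfsg.IsIrrCharacter G (Cfsg.indFun H ϑ)) : ∃ M : Subgroup G, M.Normal ∧ L ≤ M ∧ ¬ ∃ (φ : M → ℂ) (e : ℕ), Cfsg.IsIrrCharacter M φ ∧ (fun m : M => Cfsg.indFun H ϑ m) = (e : ℂ) • φ := by
  classical
  by_contra hcon
  push Not at hcon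
  set C := H.normalCore with hCdef
  have hCH : C ≤ H := H.normalCore_le
  have hLC : L ≤ C := Subgroup.normal_le_normalCore.mpr hLH
  have hCn : C.Normal := H.normalCore_normal
  set mkC := QuotientGroup.mk' C with hmk
  have hsurj : Function.Surjective mkC := QuotientGroup.mk'_surjective C
  have hsolvQ : Group.IsSolvable (G ⧸ C) := by
    have := hsolv
    refine Group.isSolvable_of_surjective (f := QuotientGroup.map L C (MonoidHom.id G) hLC) ?_
    intro q
    obtain ⟨x, rfl⟩ := QuotientGroup.mk'_surjective C q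
    exact ⟨QuotientGroup.mk' L x, rfl⟩
  set Hb := H.map mkC with hHbdef
  have hHb : Hb.comap mkC = H := by
    rw [hHbdef, Subgroup.comap_map_eq, QuotientGroup.ker_mk', sup_eq_left.mpr hCH]
  have hcore : ∀ K : Subgroup (G ⧸ C), K.Normal → K ≤ Hb → K = ⊥ := by
    intro K hK hKH
    have hn : (K.comap mkC).Normal := hK.comap mkC
    have hle : K.comap mkC ≤ C :=
      Subgroup.normal_le_normalCore.mpr (hHb ▸ Subgroup.comap_mono hKH)
    refine le_bot_iff.mp fun q hq => ?_
    obtain ⟨x, rfl⟩ := hsurj q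
    exact (QuotientGroup.eq_one_iff x).mpr (hle hq)
  have hmaxb : IsCoatom Hb := by
    refine ⟨fun h => hmax.1 ?_, fun X hX => ?_⟩
    · rw [← hHb, h, Subgroup.comap_top]
    · have h1 : H < X.comap mkC := hHb ▸ (Subgroup.comap_lt_comap_of_surjective hsurj).mpr hX
      exact Subgroup.comap_injective hsurj ((hmax.2 _ h1).trans (Subgroup.comap_top mkC).symm)
  obtain ⟨V, p, n, hp, hVn, hVcard, hVH, hVsup, hA, hfix⟩ :=
    structure_lemma (G ⧸ C) Hb hmaxb hcore
  set M := V.comap mkC with hMdef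
  have hMn : M.Normal := hVn.comap mkC
  have hCM : C ≤ M := fun x hx => by
    rw [hMdef, Subgroup.mem_comap, show mkC x = 1 from (QuotientGroup.eq_one_iff x).mpr hx]
    exact one_mem V
  have hMH : ∀ x ∈ M, x ∈ H → x ∈ C := by
    intro x hxM hxH
    have h1 : mkC x ∈ V ⊓ Hb := Subgroup.mem_inf.mpr ⟨hxM, x, hxH, rfl⟩
    rw [hVH, Subgroup.mem_bot] at h1
    exact (QuotientGroup.eq_one_iff x).mp h1
  have hMsup : ∀ g : G, ∃ k ∈ M, ∃ h ∈ H, g = k * h := by
    intro g
    obtain ⟨v, hv, y, hy, e⟩ := Subgroup.mem_sup_of_normal_left.mp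
      (hVsup.ge (Subgroup.mem_top (mkC g)))
    obtain ⟨h, hh, rfl⟩ := hy
    refine ⟨g * h⁻¹, ?_, h, hh, by group⟩
    rw [hMdef, Subgroup.mem_comap, map_mul, map_inv, ← e, mul_inv_cancel_right]
    exact hv
  have hidx : H.index = p ^ n := by
    rw [← hHb, Subgroup.index_comap_of_surjective _ hsurj, ← hVcard]
    refine Subgroup.IsComplement'.index_eq_card ?_
    refine Subgroup.isComplement'_of_disjoint_and_mul_eq_univ (disjoint_iff.mpr hVH) ?_
    rw [← Subgroup.normal_mul, hVsup, Subgroup.coe_top]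
  have hMcard : Nat.card M = Nat.card C * p ^ n := by
    rw [hMdef, CfsgLib.Solvable.card_comap_mk', hVcard]
  have := Fintype.ofFinite H
  have := Fintype.ofFinite C
  have := Fintype.ofFinite M
  have := Fintype.ofFinite L
  set χ := Cfsg.indFun H ϑ with hχdef
  have hχc := isCharacter_of_isIrr hind
  have hχcl := isClassFunction_of_isIrr hind
  have hϑc := isCharacter_of_isIrr hϑ
  have hφ : Cfsg.IsIrrCharacter C (fun c : C => ϑ ⟨c, hCH c.2⟩) :=
    isIrr_of_comp_isIrr (Subgroup.inclusion hLC) (isCharacter_comp hϑc (Subgroup.inclusion hCH)) hϑL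
  set φ : C → ℂ := fun c => ϑ ⟨c, hCH c.2⟩ with hφdef
  obtain ⟨d, hd0, hd⟩ := exists_degree_pos hϑ
  have hdφ : φ 1 = d := hd
  have hχ1 : χ 1 = ((p ^ n * d : ℕ) : ℂ) := by
    rw [hχdef, indFun_one, hidx, hd]
    push_cast
    ring
  -- the core: `χ` restricts to a multiple of `φ`
  have hχC : ∀ c : C, χ c = (p ^ n : ℕ) * φ c := by
    obtain ⟨φ₀, e₀, hφ₀, he₀⟩ := hcon C inferInstance hLC
    have h1 : Cfsg.classInner (fun c : C => χ c) φ ≠ 0 := by
      have ha : Cfsg.classInner (fun h : H => χ h) ϑ ≠ 0 := by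
        have h := frobenius_reciprocity' H ϑ hχcl
        rw [← h, ← hχdef, classInner_irr_self hind]
        exact one_ne_zero
      have hb : Cfsg.classInner (fun x : C => ϑ (Subgroup.inclusion hCH x)) φ ≠ 0 := by
        have e : (fun x : C => ϑ (Subgroup.inclusion hCH x)) = φ :=
          funext fun x => congrArg ϑ (Subtype.ext rfl)
        rw [e, classInner_irr_self hφ]
        exact one_ne_zero
      have h := classInner_res_ne_zero (Subgroup.inclusion hCH) (χ := fun h : H => χ h) (ψ := ϑ)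
        (θ := φ) (isCharacter_res H hχc) hϑ (isCharacter_of_isIrr hφ) ha hb
      have e : (fun c : C => χ c) = fun x => (fun h : H => χ h) (Subgroup.inclusion hCH x) :=
        funext fun x => congrArg χ (by rfl)
      rw [e]
      exact h
    rw [he₀, classInner_smul_left] at h1
    have heq : φ₀ = φ := by
      by_contra hne
      exact h1 (by rw [classInner_irr_ne hφ₀ hφ hne, mul_zero])
    subst heq
    have h2 := congrFun he₀ 1
    simp only [OneMemClass.coe_one, Pi.smul_apply, smul_eq_mul, hdφ] at h2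
    rw [hχ1, Nat.cast_mul] at h2
    have he : (e₀ : ℂ) = ((p ^ n : ℕ) : ℂ) :=
      (mul_right_cancel₀ (by exact_mod_cast hd0.ne') h2).symm
    intro c
    have h3 := congrFun he₀ c
    rw [Pi.smul_apply, smul_eq_mul, he] at h3
    exact h3
  -- `M`: fully ramified
  obtain ⟨η, f, hη, hηeq⟩ := hcon M inferInstance (hLC.trans hCM)
  have hf2 : f * f = p ^ n := by
    have := Fintype.ofFinite (H.subgroupOf M)
    let eC : H.subgroupOf M ≃* C :=
      { toFun := fun x => ⟨((x : M) : G), hMH _ (x : M).2 (Subgroup.mem_subgroupOf.mp x.2)⟩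
        invFun := fun c => ⟨⟨(c : G), hCM c.2⟩, Subgroup.mem_subgroupOf.mpr (hCH c.2)⟩
        left_inv := fun _ => rfl
        right_inv := fun _ => rfl
        map_mul' := fun _ _ => rfl }
    have h1 : Cfsg.classInner (fun m : M => χ m) (fun m : M => χ m) = (f : ℂ) * f := by
      rw [hηeq, classInner_smul_left, classInner_smul_right, classInner_irr_self hη,
        map_natCast, mul_one]
    have hres : (fun m : M => χ m) = Cfsg.indFun (H.subgroupOf M)
        (fun a => ϑ ⟨((a : M) : G), Subgroup.mem_subgroupOf.mp a.2⟩) :=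
      funext fun m => indFun_res_of_mul_eq_top H M (isClassFunction_of_isIrr hϑ) hMsup m
    conv_lhs at h1 => arg 1; rw [hres]
    rw [frobenius_reciprocity _ _ (isClassFunction_of_isCharacter (isCharacter_res M hχc)),
      show (fun a : H.subgroupOf M => ϑ ⟨((a : M) : G), Subgroup.mem_subgroupOf.mp a.2⟩) = φ ∘ eC
        from rfl,
      show (fun a : H.subgroupOf M => χ ((a : M) : G)) = (fun c : C => χ c) ∘ eC from rfl,
      classInner_comp_mulEquiv eC,
      show (fun c : C => χ c) = ((p ^ n : ℕ) : ℂ) • φ from funext hχC,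
      classInner_smul_right, classInner_irr_self hφ, map_natCast, mul_one] at h1
    exact_mod_cast h1.symm
  by_cases hHC : Hb = ⊥
  · have hVtop : V = ⊤ := by rw [hHC, sup_bot_eq] at hVsup; exact hVsup
    have hMtop : M = ⊤ := by rw [hMdef, hVtop, Subgroup.comap_top]
    have h1 : Cfsg.classInner (fun m : M => χ m) (fun m : M => χ m) = (f : ℂ) * f := by
      rw [hηeq, classInner_smul_left, classInner_smul_right, classInner_irr_self hη,
        map_natCast, mul_one]
    let eM : M ≃* G := (MulEquiv.subgroupCongr hMtop).trans Subgroup.topEquiv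
    rw [show (fun m : M => χ m) = χ ∘ eM from rfl, classInner_comp_mulEquiv eM,
      classInner_irr_self hind, ← Nat.cast_mul, hf2] at h1
    refine hmax.1 (Subgroup.index_eq_one.mp ?_)
    rw [hidx]
    exact_mod_cast h1.symm
  obtain ⟨A, q, b, hq, hqp, hAH, hA0, hAnorm, hAcard⟩ := hA hHC
  set Bb := V ⊔ A with hBbdef
  have hBbn : Bb.Normal := by
    refine ⟨fun x hx g => ?_⟩
    obtain ⟨v, hv, a, ha, rfl⟩ := Subgroup.mem_sup_of_normal_left.mp hx
    obtain ⟨w, hw, h, hh, rfl⟩ := Subgroup.mem_sup_of_normal_left.mp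
      (hVsup.ge (Subgroup.mem_top g))
    have ha' := hAnorm h hh a ha
    have e : w * h * (v * a) * (w * h)⁻¹ =
        (w * h * v * (w * h)⁻¹) * (w * ((h * a * h⁻¹) * w⁻¹ * (h * a * h⁻¹)⁻¹)) *
          (h * a * h⁻¹) := by group
    rw [e]
    exact Subgroup.mul_mem_sup (V.mul_mem (hVn.conj_mem v hv _)
      (V.mul_mem hw (hVn.conj_mem _ (V.inv_mem hw) _))) ha'
  set B := Bb.comap mkC with hBdef
  have hBn : B.Normal := hBbn.comap mkC
  have hMB : M ≤ B := Subgroup.comap_mono le_sup_left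
  have hBsup : ∀ g : G, ∃ k ∈ B, ∃ h ∈ H, g = k * h := fun g => by
    obtain ⟨k, hk, r⟩ := hMsup g
    exact ⟨k, hMB hk, r⟩
  obtain ⟨ω, e, hω, hωeq⟩ := hcon B inferInstance ((hLC.trans hCM).trans hMB)
  have := Fintype.ofFinite B
  let M' := M.subgroupOf B
  have := Fintype.ofFinite M'
  let eM : M' ≃* M := Subgroup.subgroupOfEquivOfLe hMB
  have hη' : Cfsg.IsIrrCharacter M' (η ∘ eM) := isIrr_comp_mulEquiv hη eM
  have hkey : ∀ m : M', (e : ℂ) * ω m = (f : ℂ) * η (eM m) := by
    intro m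
    have h1 := congrFun hωeq (m : B)
    have h2 := congrFun hηeq (eM m)
    simp only [Pi.smul_apply, smul_eq_mul] at h1 h2
    exact h1.symm.trans h2
  have hf0 : f ≠ 0 := fun h => (pow_pos hp.pos n).ne (by simpa [h] using hf2)
  obtain ⟨w1, hw0, hw1⟩ := exists_degree_pos hω
  obtain ⟨n1, hn0, hn1⟩ := exists_degree_pos hη
  have hdeg : e * w1 = f * n1 := by
    have h := hkey 1
    rw [map_one, hn1, show ω ((1 : M') : B) = (w1 : ℂ) from hw1] at h
    exact_mod_cast h
  have he0 : e ≠ 0 := fun h => by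
    rw [h, zero_mul] at hdeg
    exact mul_ne_zero hf0 hn0.ne' hdeg.symm
  have hin : Cfsg.classInner (fun m : M' => ω m) (η ∘ eM) ≠ 0 := by
    intro h0
    have h2 : Cfsg.classInner ((e : ℂ) • fun m : M' => ω m) (η ∘ eM) =
        Cfsg.classInner ((f : ℂ) • (η ∘ eM)) (η ∘ eM) :=
      congrArg (fun F => Cfsg.classInner F (η ∘ eM)) (funext hkey)
    rw [classInner_smul_left, classInner_smul_left, h0, classInner_irr_self hη', mul_zero,
      mul_one] at h2
    exact hf0 (by exact_mod_cast h2.symm)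
  obtain ⟨hdvd, hk⟩ := degree_quotient_dvd_index M' hω hη' hin hw1
    (show (η ∘ eM) 1 = (n1 : ℂ) by simpa using hn1)
  obtain ⟨k, hk'⟩ := hdvd
  rw [hk', Nat.mul_div_cancel_left _ hn0] at hk
  have hkq : k ∣ q ^ b := by
    refine hk.trans ?_
    have h1 : M'.index = V.relIndex A := by
      show M.relIndex B = _
      rw [hMdef, Subgroup.relIndex_comap, hBdef, Subgroup.map_comap_eq_self_of_surjective hsurj,
        hBbdef, Subgroup.relIndex_sup_left]
    rw [h1, ← hAcard]
    exact Subgroup.index_dvd_card _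
  have hek : e * k = f := Nat.eq_of_mul_eq_mul_right hn0 (by
    rw [← hdeg, hk']
    ring)
  have hk1 : k = 1 := by
    refine Nat.dvd_one.mp ?_
    have hkp : k ∣ p ^ n := hf2 ▸ (Dvd.intro_left e hek).mul_right f
    have hc : (p ^ n).Coprime (q ^ b) := ((Nat.coprime_primes hp hq).mpr hqp.symm).pow _ _
    exact hc.gcd_eq_one ▸ Nat.dvd_gcd hkp hkq
  rw [hk1, mul_one] at hek hk'
  subst hek
  have hωM : Cfsg.IsIrrCharacter M' (fun m : M' => ω m) := by
    convert hη' using 1
    funext m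
    exact mul_left_cancel₀ (by exact_mod_cast he0 : (e : ℂ) ≠ 0) (hkey m)
  -- `ω` on `H ∩ B` is `e ϑ`
  let A' := H.subgroupOf B
  have := Fintype.ofFinite A'
  let α : A' → ℂ := fun a => ϑ ⟨((a : B) : G), Subgroup.mem_subgroupOf.mp a.2⟩
  have hαc : Cfsg.IsCharacter A' α := isCharacter_comp hϑc
    ((B.subtype.comp A'.subtype).codRestrict H fun a => Subgroup.mem_subgroupOf.mp a.2)
  let iC : C →* A' := MonoidHom.codRestrict (Subgroup.inclusion (hCM.trans hMB)) A'
    fun c => Subgroup.mem_subgroupOf.mpr (hCH c.2)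
  have hα : Cfsg.IsIrrCharacter A' α := isIrr_of_comp_isIrr iC hαc hφ
  have hres : (fun y : B => χ y) = Cfsg.indFun A' α :=
    funext fun y => indFun_res_of_mul_eq_top H B (isClassFunction_of_isIrr hϑ) hBsup y
  have hinA : Cfsg.classInner (fun a : A' => ω a) α = (e : ℂ) := by
    rw [← frobenius_reciprocity' A' α (isClassFunction_of_isIrr hω), ← hres, hωeq,
      classInner_smul_right, classInner_irr_self hω, mul_one, map_natCast]
  have hwd : w1 = e * d := by
    have h := congrFun hωeq 1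
    simp only [OneMemClass.coe_one, Pi.smul_apply, smul_eq_mul, hw1] at h
    rw [hχ1] at h
    have h' : p ^ n * d = e * w1 := by exact_mod_cast h
    rw [← hf2, mul_assoc] at h'
    exact (Nat.eq_of_mul_eq_mul_left (Nat.pos_of_ne_zero he0) h').symm
  have hωA : ∀ a : A', ω a = (e : ℂ) * α a := by
    have h := exists_multiple_of_degree (isCharacter_res A' (isCharacter_of_isIrr hω)) hα hinA
      (by
        show ω 1 = (e : ℂ) * ϑ 1
        rw [hw1, hd, hwd, Nat.cast_mul])
    exact fun a => congrFun h a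
  -- a point outside `C` where `ω` does not vanish
  obtain ⟨ab, habA, hab1⟩ : ∃ a ∈ A, a ≠ 1 := (Subgroup.ne_bot_iff_exists_ne_one.mp hA0).elim
    fun a ha => ⟨a.1, a.2, fun h => ha (Subtype.ext h)⟩
  obtain ⟨x₀, hx₀H, hx₀⟩ := hAH habA
  let N₀ := C.subgroupOf H
  have := Fintype.ofFinite N₀
  have hϑN₀ : Cfsg.IsIrrCharacter N₀ (fun c : N₀ => ϑ c) :=
    isIrr_comp_mulEquiv hφ (Subgroup.subgroupOfEquivOfLe hCH)
  obtain ⟨c, hc⟩ : ∃ c : N₀, ϑ (⟨x₀, hx₀H⟩ * c) ≠ 0 := by
    by_contra hall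
    push Not at hall
    have h := sum_normSq_coset N₀ hϑc hϑN₀ ⟨x₀, hx₀H⟩
    simp only [hall, zero_mul, Finset.sum_const_zero] at h
    exact (Nat.card_pos (α := N₀)).ne' (by exact_mod_cast h.symm)
  set x : G := x₀ * ((c : H) : G) with hxdef
  have hxH : x ∈ H := H.mul_mem hx₀H (c : H).2
  have hmkx : mkC x = ab := by
    rw [hxdef, map_mul, hx₀,
      show mkC ((c : H) : G) = 1 from (QuotientGroup.eq_one_iff _).mpr c.2, mul_one]
  have hxB : x ∈ B := by
    rw [hBdef, Subgroup.mem_comap, hmkx]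
    exact Subgroup.mem_sup_right habA
  set xB : B := ⟨x, hxB⟩ with hxBdef
  have hωx : ω xB ≠ 0 := by
    rw [show ω xB = (e : ℂ) * ϑ (⟨x₀, hx₀H⟩ * c) from
      hωA ⟨xB, Subgroup.mem_subgroupOf.mpr hxH⟩]
    exact mul_ne_zero (by exact_mod_cast he0) hc
  obtain ⟨m, hm, hmu⟩ : ∃ m ∈ M, x⁻¹ * m * x * m⁻¹ ∉ C := by
    by_contra hall
    push Not at hall
    refine hab1 (hmkx ▸ hfix (mkC x) (hmkx ▸ hAH habA) fun v hv => ?_)
    obtain ⟨m, rfl⟩ := hsurj v
    have h : mkC (x⁻¹ * m * x * m⁻¹) = 1 := (QuotientGroup.eq_one_iff _).mpr (hall m hv)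
    rw [map_mul, map_mul, map_mul, map_inv, map_inv, mul_inv_eq_one, mul_assoc,
      inv_mul_eq_iff_eq_mul] at h
    exact h.symm
  set u : G := x⁻¹ * m * x * m⁻¹ with hudef
  have huM : u ∈ M := by
    rw [hudef, show x⁻¹ * m * x * m⁻¹ = (x⁻¹ * m * x⁻¹⁻¹) * m⁻¹ by group]
    exact M.mul_mem (hMn.conj_mem m hm x⁻¹) (M.inv_mem hm)
  let mB : B := ⟨m, hMB hm⟩
  let u' : M' := ⟨⟨u, hMB huM⟩, Subgroup.mem_subgroupOf.mpr huM⟩
  have hωu : ω (xB * u') ≠ 0 := by
    have hconj : xB * (u' : B) = mB * xB * mB⁻¹ := Subtype.ext (by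
      show x * u = m * x * m⁻¹
      rw [hudef]
      group)
    rw [hconj, isClassFunction_of_isIrr hω xB mB]
    exact hωx
  -- counting on the coset `x M`
  have hM' : Nat.card M' = e * e * Nat.card C := by
    rw [Nat.card_congr eM.toEquiv, hMcard, hf2, mul_comm]
  have hsum1 : ∑ m : M', Complex.normSq (ω (xB * m)) = (Nat.card M' : ℝ) := by
    have h := sum_normSq_coset M' (isCharacter_of_isIrr hω) hωM xB
    simp only [Complex.mul_conj] at h
    exact_mod_cast h
  let j : N₀ → M' := fun c' => ⟨⟨((c' : H) : G), hMB (hCM c'.2)⟩,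
    Subgroup.mem_subgroupOf.mpr (hCM c'.2)⟩
  have hj : Function.Injective j := fun a b h =>
    Subtype.ext (Subtype.ext (congrArg (fun z : M' => ((z : B) : G)) h))
  have hsum2 : ∑ m ∈ Finset.univ.image j, Complex.normSq (ω (xB * m)) = (Nat.card M' : ℝ) := by
    rw [Finset.sum_image hj.injOn]
    have h := sum_normSq_coset N₀ hϑc hϑN₀ ⟨x, hxH⟩
    simp only [Complex.mul_conj] at h
    have h' : ∑ c' : N₀, Complex.normSq (ϑ (⟨x, hxH⟩ * c')) = (Nat.card N₀ : ℝ) := by
      exact_mod_cast h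
    have hval : ∀ c' : N₀, Complex.normSq (ω (xB * j c')) =
        ((e * e : ℕ) : ℝ) * Complex.normSq (ϑ (⟨x, hxH⟩ * c')) := by
      intro c'
      rw [show ω (xB * (j c' : B)) = (e : ℂ) * ϑ (⟨x, hxH⟩ * c') from
        hωA ⟨xB * (j c' : B), Subgroup.mem_subgroupOf.mpr (H.mul_mem hxH (c' : H).2)⟩,
        Complex.normSq_mul, Complex.normSq_natCast, Nat.cast_mul]
    rw [Finset.sum_congr rfl fun c' _ => hval c', ← Finset.mul_sum, h', hM',
      Nat.card_congr (Subgroup.subgroupOfEquivOfLe hCH).toEquiv]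
    push_cast
    ring
  have hz : ∑ m ∈ Finset.univ \ Finset.univ.image j, Complex.normSq (ω (xB * m)) = 0 := by
    rw [← Finset.sum_sdiff (Finset.subset_univ (Finset.univ.image j)), hsum2] at hsum1
    linarith
  have hmem : u' ∈ Finset.univ \ Finset.univ.image j := by
    simp only [Finset.mem_sdiff, Finset.mem_univ, true_and, Finset.mem_image, not_exists]
    intro c' h
    have e' : ((c' : H) : G) = u := congrArg (fun z : M' => ((z : B) : G)) h
    exact hmu (e' ▸ c'.2)
  exact hωu (Complex.normSq_eq_zero.mp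
    ((Finset.sum_eq_zero_iff_of_nonneg fun _ _ => Complex.normSq_nonneg _).mp hz u' hmem))

end Cfsg.Agent.S0890
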