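import Cfsg.Statements.S0889
import Cfsg.Agent.Lib.Char.Berger.Imprimitive
import Cfsg.Agent.Lib.Char.Monomial
import Cfsg.Agent.Lib.Char.Restrict
import Cfsg.Agent.S0890

set_option autoImplicit false
open Cfsg

namespace Cfsg.Agent.S0889

open CfsgLib.Char CfsgLib.CharNormal CfsgLib.Char.Berger

open scoped ComplexConjugate

/-- Passing to a coatom. -/
theorem exists_coatom_induced {G : Type*} [Group G] [Fintype G] (K : Subgroup G) (hK : K ≠ ⊤)
    (ψ : K → ℂ) (hψ : Cfsg.IsCharacter K ψ) :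
    ∃ H : Subgroup G, IsCoatom H ∧ K ≤ H ∧ ∃ ϑ : H → ℂ, Cfsg.IsCharacter H ϑ ∧
      Cfsg.indFun H ϑ = Cfsg.indFun K ψ := by
  classical
  obtain h | ⟨H, hH, hKH⟩ := IsCoatomic.eq_top_or_exists_le_coatom K
  · exact absurd h hK
  refine ⟨H, hH, hKH, _, isCharacter_indFun (K.subgroupOf H)
    (θ := fun x => ψ ⟨(x : H), Subgroup.mem_subgroupOf.mp x.2⟩) ?_, indFun_trans K hKH ψ⟩
  exact isCharacter_comp hψ (Subgroup.subgroupOfEquivOfLe hKH).toMonoidHom

/-- The main step: an inducing coatom yields one with a larger core. -/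
theorem exists_larger_core {G : Type*} [Group G] [Fintype G] [Group.IsSolvable G] {χ : G → ℂ}
    (hχ : Cfsg.IsIrrCharacter G χ) (hqp : ∀ (N : Subgroup G), N.Normal →
      ∃ (ϑ : N → ℂ) (e : ℕ), Cfsg.IsIrrCharacter N ϑ ∧ (fun n : N => χ n) = (e : ℂ) • ϑ)
    (H : Subgroup G) (hmax : IsCoatom H) (ϑ : H → ℂ) (hϑc : Cfsg.IsCharacter H ϑ)
    (hind : Cfsg.indFun H ϑ = χ) :
    ∃ H' : Subgroup G, IsCoatom H' ∧ (∃ ϑ' : H' → ℂ, Cfsg.IsCharacter H' ϑ' ∧
      Cfsg.indFun H' ϑ' = χ) ∧ Nat.card H.normalCore < Nat.card H'.normalCore := by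
  classical
  set C := H.normalCore with hCdef
  have hCH : C ≤ H := H.normalCore_le
  have hCn : C.Normal := H.normalCore_normal
  set mkC := QuotientGroup.mk' C with hmk
  have hsurj : Function.Surjective mkC := QuotientGroup.mk'_surjective C
  have hsolvQ : Group.IsSolvable (G ⧸ C) := Group.isSolvable_of_surjective hsurj
  set Hb := H.map mkC with hHbdef
  have hHb : Hb.comap mkC = H := by
    rw [hHbdef, Subgroup.comap_map_eq, QuotientGroup.ker_mk', sup_eq_left.mpr hCH]
  have hcore : ∀ K : Subgroup (G ⧸ C), K.Normal → K ≤ Hb → K = ⊥ := by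
    intro K hK hKH
    have hn : (K.comap mkC).Normal := hK.comap mkC
    have hle : K.comap mkC ≤ C :=
      Subgroup.normal_le_normalCore.mpr (hHb ▸ Subgroup.comap_mono hKH)
    refine le_bot_iff.mp fun q hq => ?_
    obtain ⟨x, rfl⟩ := hsurj q
    exact (QuotientGroup.eq_one_iff x).mpr (hle hq)
  have hmaxb : IsCoatom Hb := by
    refine ⟨fun h => hmax.1 ?_, fun X hX => ?_⟩
    · rw [← hHb, h, Subgroup.comap_top]
    · have h1 : H < X.comap mkC := hHb ▸ (Subgroup.comap_lt_comap_of_surjective hsurj).mpr hX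
      exact Subgroup.comap_injective hsurj ((hmax.2 _ h1).trans (Subgroup.comap_top mkC).symm)
  obtain ⟨V, p, n, hp, hVn, hVcard, hVH, hVsup, hA, hfix⟩ :=
    Cfsg.Agent.S0890.structure_lemma (G ⧸ C) Hb hmaxb hcore
  set M := V.comap mkC with hMdef
  have hMn : M.Normal := hVn.comap mkC
  have hCM : C ≤ M := fun x hx => by
    rw [hMdef, Subgroup.mem_comap, show mkC x = 1 from (QuotientGroup.eq_one_iff x).mpr hx]
    exact one_mem V
  have hMH : ∀ x ∈ M, x ∈ H → x ∈ C := by
    intro x hxM hxH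
    have h1 : mkC x ∈ V ⊓ Hb := Subgroup.mem_inf.mpr ⟨hxM, x, hxH, rfl⟩
    rw [hVH, Subgroup.mem_bot] at h1
    exact (QuotientGroup.eq_one_iff x).mp h1
  have hMsup : ∀ g : G, ∃ k ∈ M, ∃ h ∈ H, g = k * h := by
    intro g
    obtain ⟨v, hv, y, hy, e⟩ := Subgroup.mem_sup_of_normal_left.mp
      (hVsup.ge (Subgroup.mem_top (mkC g)))
    obtain ⟨h, hh, rfl⟩ := hy
    refine ⟨g * h⁻¹, ?_, h, hh, by group⟩
    rw [hMdef, Subgroup.mem_comap, map_mul, map_inv, ← e, mul_inv_cancel_right]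
    exact hv
  have hidx : H.index = p ^ n := by
    rw [← hHb, Subgroup.index_comap_of_surjective _ hsurj, ← hVcard]
    refine Subgroup.IsComplement'.index_eq_card ?_
    refine Subgroup.isComplement'_of_disjoint_and_mul_eq_univ (disjoint_iff.mpr hVH) ?_
    rw [← Subgroup.normal_mul, hVsup, Subgroup.coe_top]
  have hpn1 : p ^ n ≠ 1 := fun h => hmax.1 (Subgroup.index_eq_one.mp (hidx.trans h))
  have hMnle : ¬ M ≤ H := fun h => hmax.1 (eq_top_iff.mpr fun g _ => by
    obtain ⟨m, hm, y, hy, rfl⟩ := hMsup g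
    exact H.mul_mem (h hm) hy)
  have hchief : ∀ X : Subgroup G, X.Normal → C ≤ X → X ≤ M → X = C ∨ X = M := by
    intro X hXn hCX hXM
    by_cases hXH : X ≤ H
    · exact Or.inl (le_antisymm (Subgroup.normal_le_normalCore.mpr hXH) hCX)
    right
    have htop : X ⊔ H = ⊤ :=
      hmax.2 _ (lt_of_le_of_ne le_sup_right fun h => hXH (h.symm ▸ le_sup_left))
    refine le_antisymm hXM fun m hm => ?_
    obtain ⟨x, hx, y, hy, rfl⟩ :=
      Subgroup.mem_sup_of_normal_left.mp (htop.ge (Subgroup.mem_top m))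
    exact X.mul_mem hx (hCX (hMH y ((Subgroup.mul_mem_cancel_left _ (hXM hx)).mp hm) hy))
  have := Fintype.ofFinite H
  have := Fintype.ofFinite C
  have := Fintype.ofFinite M
  have hχc := isCharacter_of_isIrr hχ
  have hχcl := isClassFunction_of_isIrr hχ
  have hϑ : Cfsg.IsIrrCharacter H ϑ := isIrr_of_indFun_isIrr H hϑc (hind.symm ▸ hχ)
  obtain ⟨d₀, hd₀, hϑ1⟩ := exists_degree_pos hϑ
  obtain ⟨φ, e₀, hφ, hφeq⟩ := hqp C hCn
  obtain ⟨η, f, hη, hηeq⟩ := hqp M hMn
  obtain ⟨d, hd0, hd⟩ := exists_degree_pos hφ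
  obtain ⟨n1, hn0, hn1⟩ := exists_degree_pos hη
  have hχC : ∀ c : C, χ c = (e₀ : ℂ) * φ c := fun c => congrFun hφeq c
  have hχM : ∀ m : M, χ m = (f : ℂ) * η m := fun m => congrFun hηeq m
  have hχ1 : χ 1 = ((p ^ n * d₀ : ℕ) : ℂ) := by
    rw [← hind, indFun_one, hidx, hϑ1]
    push_cast
    ring
  have he₀ : (e₀ : ℂ) ≠ 0 := fun h => irr_one_ne_zero hχ (by
    have h1 := hχC 1
    rw [h, zero_mul] at h1
    exact h1)
  have hf0 : (f : ℂ) ≠ 0 := fun h => irr_one_ne_zero hχ (by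
    have h1 := hχM 1
    rw [h, zero_mul] at h1
    exact h1)
  have hinvφ : ∀ (g : G) (c : C), φ (conjElt g c) = φ c := fun g c => by
    apply mul_left_cancel₀ he₀
    rw [← hχC, ← hχC, coe_conjElt, hχcl]
  have hinvη : ∀ (g : G) (m : M), η (conjElt g m) = η m := fun g m => by
    apply mul_left_cancel₀ hf0
    rw [← hχM, ← hχM, coe_conjElt, hχcl]
  -- the restriction of `ϑ` to the core
  have hχϑ : Cfsg.classInner (fun h : H => χ h) ϑ = 1 := by
    rw [← frobenius_reciprocity' H ϑ hχcl, hind, classInner_irr_self hχ]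
  obtain ⟨k, hk⟩ : ∃ k : ℕ, ∀ c : C, ϑ ⟨c, hCH c.2⟩ = (k : ℂ) * φ c := by
    obtain ⟨mult, hm, hmi⟩ := char_decomp (isCharacter_comp hϑc (Subgroup.inclusion hCH))
    refine ⟨mult ⟨φ, hφ⟩, fun c => ?_⟩
    have h := congrFun hm c
    rw [Finset.sum_apply, Finset.sum_eq_single ⟨φ, hφ⟩ _
      (fun h => absurd (Finset.mem_univ _) h)] at h
    · exact h
    intro α _ hα
    rw [Pi.smul_apply, smul_eq_mul]
    have hz : mult α = 0 := by
      by_contra hm0
      refine hα (Subtype.ext ?_)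
      have h1 := classInner_res_ne_zero (Subgroup.inclusion hCH) (χ := fun h : H => χ h) (ψ := ϑ)
        (θ := α.1) (isCharacter_res H hχc) hϑ (isCharacter_of_isIrr α.2)
        (by rw [hχϑ]; exact one_ne_zero) (by
          rw [show (fun x : C => ϑ (Subgroup.inclusion hCH x)) = ϑ ∘ Subgroup.inclusion hCH from rfl,
            hmi α]
          exact_mod_cast hm0)
      by_contra hne
      refine h1 ?_
      rw [show (fun x : C => χ (Subgroup.inclusion hCH x : G)) = (e₀ : ℂ) • φ from funext hχC,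
        classInner_smul_left, classInner_irr_ne hφ α.2 (fun e => hne e.symm), mul_zero]
    rw [hz, Nat.cast_zero, zero_mul]
  have hd₀k : d₀ = k * d := by
    have h := hk 1
    rw [hd, show ϑ ⟨((1 : C) : G), hCH (1 : C).2⟩ = (d₀ : ℂ) from hϑ1] at h
    exact_mod_cast h
  have hk0 : 0 < k := by
    rcases Nat.eq_zero_or_pos k with h | h
    · rw [h, zero_mul] at hd₀k; omega
    · exact h
  have he₀' : e₀ = p ^ n * k := by
    have h := hχC 1
    rw [hd, OneMemClass.coe_one, hχ1, hd₀k, ← Nat.cast_mul, Nat.cast_inj, ← mul_assoc] at h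
    exact (Nat.eq_of_mul_eq_mul_right hd0 h).symm
  -- the restriction of `η` to the core
  obtain ⟨s, hs⟩ : ∃ s : ℕ, Cfsg.classInner (fun c : C => η ⟨c, hCM c.2⟩) φ = s :=
    classInner_char_nat (isCharacter_comp (isCharacter_of_isIrr hη) (Subgroup.inclusion hCM))
      (isCharacter_of_isIrr hφ)
  have hfη : (f : ℂ) • (fun c : C => η ⟨c, hCM c.2⟩) = (e₀ : ℂ) • φ := by
    funext c
    rw [Pi.smul_apply, Pi.smul_apply, smul_eq_mul, smul_eq_mul, ← hχC, ← hχM]
  have hfs : f * s = p ^ n * k := by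
    have h := congrArg (fun F => Cfsg.classInner F φ) hfη
    simp only [classInner_smul_left, hs, classInner_irr_self hφ, mul_one] at h
    rw [← he₀']
    exact_mod_cast h
  have hηC : (fun c : C => η ⟨c, hCM c.2⟩) = (s : ℂ) • φ := by
    funext c
    have h := congrFun hfη c
    simp only [Pi.smul_apply, smul_eq_mul] at h ⊢
    apply mul_left_cancel₀ hf0
    rw [h, ← mul_assoc]
    congr 1
    rw [he₀', ← hfs, Nat.cast_mul]
  have hf2 : f * f = p ^ n * (k * k) := by
    have := Fintype.ofFinite (H.subgroupOf M)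
    let eC : H.subgroupOf M ≃* C :=
      { toFun := fun x => ⟨((x : M) : G), hMH _ (x : M).2 (Subgroup.mem_subgroupOf.mp x.2)⟩
        invFun := fun c => ⟨⟨(c : G), hCM c.2⟩, Subgroup.mem_subgroupOf.mpr (hCH c.2)⟩
        left_inv := fun _ => rfl
        right_inv := fun _ => rfl
        map_mul' := fun _ _ => rfl }
    have h1 : Cfsg.classInner (fun m : M => χ m) (fun m : M => χ m) = (f : ℂ) * f := by
      rw [hηeq, classInner_smul_left, classInner_smul_right, classInner_irr_self hη,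
        map_natCast, mul_one]
    have hres : (fun m : M => χ m) = Cfsg.indFun (H.subgroupOf M)
        (fun a => ϑ ⟨((a : M) : G), Subgroup.mem_subgroupOf.mp a.2⟩) := funext fun m => by
      rw [← hind]
      exact indFun_res_of_mul_eq_top H M (isClassFunction_of_isIrr hϑ) hMsup m
    conv_lhs at h1 => arg 1; rw [hres]
    rw [frobenius_reciprocity _ _ (isClassFunction_of_isCharacter (isCharacter_res M hχc)),
      show (fun a : H.subgroupOf M => ϑ ⟨((a : M) : G), Subgroup.mem_subgroupOf.mp a.2⟩) =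
        ((k : ℂ) • φ) ∘ eC from funext fun a => hk (eC a),
      show (fun a : H.subgroupOf M => χ ((a : M) : G)) = (fun c : C => χ c) ∘ eC from rfl,
      classInner_comp_mulEquiv eC,
      show (fun c : C => χ c) = (e₀ : ℂ) • φ from funext hχC,
      classInner_smul_right, classInner_smul_left, classInner_irr_self hφ, map_natCast, mul_one]
      at h1
    have h2 : e₀ * k = f * f := by exact_mod_cast h1
    rw [← h2, he₀', mul_assoc]
  have hs2 : s * s = p ^ n := by
    refine Nat.eq_of_mul_eq_mul_right (Nat.mul_pos (pow_pos hp.pos n) (Nat.mul_pos hk0 hk0)) ?_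
    calc s * s * (p ^ n * (k * k)) = f * s * (f * s) := by rw [← hf2]; ring
      _ = p ^ n * (p ^ n * (k * k)) := by rw [hfs]; ring
  have hs0 : 0 < s := Nat.pos_of_ne_zero fun h => (pow_pos hp.pos n).ne' (by rw [← hs2, h, zero_mul])
  have hfsk : f = s * k := by
    refine Nat.eq_of_mul_eq_mul_right hs0 ?_
    rw [hfs, ← hs2]
    ring
  have hs1 : 1 < s := by
    rcases Nat.lt_or_ge 1 s with h | h
    · exact h
    · exfalso
      obtain rfl : s = 1 := le_antisymm h hs0
      exact hpn1 hs2.symm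
  by_cases hHC : Hb = ⊥
  · exfalso
    have hVtop : V = ⊤ := by rw [hHC, sup_bot_eq] at hVsup; exact hVsup
    have hMtop : M = ⊤ := by rw [hMdef, hVtop, Subgroup.comap_top]
    have h1 : Cfsg.classInner (fun m : M => χ m) (fun m : M => χ m) = (f : ℂ) * f := by
      rw [hηeq, classInner_smul_left, classInner_smul_right, classInner_irr_self hη,
        map_natCast, mul_one]
    let eM : M ≃* G := (MulEquiv.subgroupCongr hMtop).trans Subgroup.topEquiv
    rw [show (fun m : M => χ m) = χ ∘ eM from rfl, classInner_comp_mulEquiv eM,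
      classInner_irr_self hχ, ← Nat.cast_mul, ← Nat.cast_one, Nat.cast_inj, hf2] at h1
    exact hpn1 (Nat.eq_one_of_mul_eq_one_right h1.symm)
  obtain ⟨A, q, b, hq, hqp', hAH, hA0, hAnorm, hAcard⟩ := hA hHC
  -- an abelian normalised subgroup
  have : Fact q.Prime := ⟨hq⟩
  set A' := A ⊓ Subgroup.centralizer (A : Set (G ⧸ C)) with hA'def
  obtain ⟨ab, hab, hab1⟩ : ∃ a ∈ A', a ≠ 1 := by
    have : Nontrivial A := A.nontrivial_iff_ne_bot.mpr hA0
    have hpA : IsPGroup q A := IsPGroup.of_card hAcard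
    have := hpA.center_nontrivial
    obtain ⟨z, hz⟩ := exists_ne (1 : Subgroup.center A)
    refine ⟨z.1.1, Subgroup.mem_inf.mpr ⟨z.1.2, Subgroup.mem_centralizer_iff.mpr fun a ha => ?_⟩,
      fun h => hz (Subtype.ext (Subtype.ext h))⟩
    exact congrArg Subtype.val (Subgroup.mem_center_iff.mp z.2 ⟨a, ha⟩)
  set A₀ := A'.comap mkC with hA₀def
  have hA₀norm : ∀ h ∈ H, ∀ a, a ∈ A₀ → h * a * h⁻¹ ∈ A₀ ∧ h⁻¹ * a * h ∈ A₀ := by
    have key : ∀ y ∈ Hb, ∀ a ∈ A', y * a * y⁻¹ ∈ A' := by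
      intro y hy a ha
      obtain ⟨haA, haC⟩ := Subgroup.mem_inf.mp ha
      refine Subgroup.mem_inf.mpr ⟨hAnorm y hy a haA, Subgroup.mem_centralizer_iff.mpr fun c hc => ?_⟩
      have h3 := Subgroup.mem_centralizer_iff.mp haC (y⁻¹ * c * y)
        (by simpa using hAnorm y⁻¹ (Hb.inv_mem hy) c hc)
      calc c * (y * a * y⁻¹) = y * (y⁻¹ * c * y * a) * y⁻¹ := by group
        _ = y * (a * (y⁻¹ * c * y)) * y⁻¹ := by rw [h3]
        _ = y * a * y⁻¹ * c := by group
    intro h hh a ha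
    refine ⟨?_, ?_⟩
    · rw [hA₀def, Subgroup.mem_comap, map_mul, map_mul, map_inv]
      exact key _ ⟨h, hh, rfl⟩ _ ha
    · rw [hA₀def, Subgroup.mem_comap, map_mul, map_mul, map_inv]
      have h5 := key _ (Hb.inv_mem ⟨h, hh, rfl⟩) _ ha
      rwa [inv_inv] at h5
  have hpow : ∀ a ∈ A₀, a ^ q ^ b ∈ C := fun a ha => by
    refine (QuotientGroup.eq_one_iff _).mp ?_
    show mkC (a ^ q ^ b) = 1
    rw [map_pow, ← hAcard]
    exact congrArg Subtype.val (pow_card_eq_one' (x := (⟨mkC a, (Subgroup.mem_inf.mp ha).1⟩ : A)))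
  have hcomm : ∀ a ∈ A₀, ∀ c ∈ A₀, a * c * a⁻¹ * c⁻¹ ∈ C := fun a ha c hc => by
    refine (QuotientGroup.eq_one_iff _).mp ?_
    show mkC (a * c * a⁻¹ * c⁻¹) = 1
    rw [map_mul, map_mul, map_mul, map_inv, map_inv,
      Subgroup.mem_centralizer_iff.mp (Subgroup.mem_inf.mp hc).2 _ (Subgroup.mem_inf.mp ha).1]
    group
  obtain ⟨a₀, rfl⟩ := hsurj ab
  obtain ⟨m₀, hm₀, ham⟩ : ∃ m ∈ M, a₀ * m * a₀⁻¹ * m⁻¹ ∉ C := by
    by_contra hall
    push Not at hall
    refine hab1 (hfix _ (hAH (Subgroup.mem_inf.mp hab).1) fun v hv => ?_)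
    obtain ⟨m, rfl⟩ := hsurj v
    have h : mkC (a₀ * m * a₀⁻¹ * m⁻¹) = 1 := (QuotientGroup.eq_one_iff _).mpr (hall m hv)
    rw [map_mul, map_mul, map_mul, map_inv, map_inv, mul_inv_eq_one, mul_inv_eq_iff_eq_mul] at h
    exact h
  -- representations
  obtain ⟨nU, ρ, hρ, rfl⟩ := id hχ
  obtain ⟨nϑ, ρϑ, hρϑ, rfl⟩ := id hϑ
  obtain ⟨nφ, ρφ, hρφ, rfl⟩ := id hφ
  obtain ⟨nη, ρη, hρη, rfl⟩ := id hη
  have hiso : (resRep hCM ρη).character = (s : ℂ) • ρφ.character := hηC
  have hW : Module.finrank ℂ (MultSpace hCM ρφ ρη) = s := by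
    have h := classInner_character (resRep hCM ρη) ρφ
    rw [hiso, classInner_smul_left, classInner_irr_self hφ, mul_one] at h
    exact_mod_cast h.symm
  have hR : Module.finrank ℂ
      (Representation.IntertwiningMap ρφ (ρϑ.comp (Subgroup.inclusion hCH))) = k := by
    have h := classInner_character (ρϑ.comp (Subgroup.inclusion hCH)) ρφ
    rw [show Representation.character (ρϑ.comp (Subgroup.inclusion hCH)) =
      (k : ℂ) • ρφ.character from funext hk,
      classInner_smul_left, classInner_irr_self hφ, mul_one] at h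
    exact_mod_cast h.symm
  have hZ : Module.finrank ℂ (Representation.IntertwiningMap ρη (ρ.comp M.subtype)) = s * k := by
    have h := classInner_character (ρ.comp M.subtype) ρη
    rw [show Representation.character (ρ.comp M.subtype) = (f : ℂ) • ρη.character from hηeq,
      classInner_smul_left, classInner_irr_self hη, mul_one] at h
    rw [← hfsk]
    exact_mod_cast h.symm
  have hπ0 : ∃ π : Representation.IntertwiningMap (ρ.comp H.subtype) ρϑ, π ≠ 0 := by
    have h := classInner_character ρϑ (ρ.comp H.subtype)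
    rw [show Representation.character (ρ.comp H.subtype) = fun x : H => ρ.character x from rfl,
      ← classInner_conj_symm, hχϑ, map_one] at h
    have h1 : Module.finrank ℂ (Representation.IntertwiningMap (ρ.comp H.subtype) ρϑ) = 1 := by
      exact_mod_cast h.symm
    have : Nontrivial (Representation.IntertwiningMap (ρ.comp H.subtype) ρϑ) :=
      Module.finrank_pos_iff.mp (h1 ▸ one_pos)
    exact exists_ne 0
  obtain ⟨π, hπ⟩ := hπ0
  have hdim : Module.finrank ℂ (Fin nη → ℂ) =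
      Module.finrank ℂ (MultSpace hCM ρφ ρη) * Module.finrank ℂ (Fin nφ → ℂ) := by
    rw [hW]
    have h := congrFun hiso 1
    rw [Representation.char_one, Pi.smul_apply, Representation.char_one, smul_eq_mul,
      ← Nat.cast_mul, Nat.cast_inj] at h
    exact h
  have hU : Module.finrank ℂ (Fin nU → ℂ) = s * k * Module.finrank ℂ (Fin nη → ℂ) := by
    have h := hχM 1
    rw [OneMemClass.coe_one, Representation.char_one, Representation.char_one, ← Nat.cast_mul,
      Nat.cast_inj, hfsk] at h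
    exact h
  have hcop : (q ^ b).Coprime (Module.finrank ℂ (MultSpace hCM ρφ ρη)) := by
    rw [hW]
    exact Nat.Coprime.coprime_dvd_right (Dvd.intro s hs2)
      (((Nat.coprime_primes hq hp).mpr hqp').pow _ _)
  obtain ⟨Λ, hΛ, hindep, htop, hne, hperm⟩ := exists_decomposition hCM hinvφ hinvη hchief
    (hW ▸ hs1) hdim A₀ (pow_pos hq.pos b).ne' hcop hpow hcomm hab hm₀ ham
  obtain ⟨X, hX, hMX, ξ, hξ, hXind⟩ := exists_induced_above hCM hCH ρ ρϑ ρφ ρη hinvφ hinvη hMsup
    π hπ hR hW hZ hU hiso Λ hΛ hindep htop hne fun h hh => hperm h (hA₀norm h hh)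
  obtain ⟨H', hH', hXH', ϑ', hϑ', hind'⟩ := exists_coatom_induced X hX ξ hξ
  refine ⟨H', hH', ⟨ϑ', hϑ', hind'.trans hXind⟩, ?_⟩
  have hlt : C < M := lt_of_le_of_ne hCM fun h => hMnle (h ▸ hCH)
  have hle : M ≤ H'.normalCore := Subgroup.normal_le_normalCore.mpr (hMX.trans hXH')
  exact Set.Finite.card_lt_card (Set.toFinite _) (hlt.trans_le hle)


/-- Let G be a finite solvable group and χ an irreducible character of G such that for every normal subgroup N the restriction of χ to N is a natural-number multiple of one irreducible character of N. Then χ is not induced from a character of any proper subgroup. -/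
theorem result {G : Type*} [Group G] [Fintype G] [Group.IsSolvable G] (χ : G → ℂ) (hχ : Cfsg.IsIrrCharacter G χ) (hqp : ∀ (N : Subgroup G), N.Normal → ∃ (ϑ : N → ℂ) (e : ℕ), Cfsg.IsIrrCharacter N ϑ ∧ (fun n : N => χ n) = (e : ℂ) • ϑ) (K : Subgroup G) (hK : K ≠ ⊤) (ψ : K → ℂ) (hψ : Cfsg.IsCharacter K ψ) : Cfsg.indFun K ψ ≠ χ := by
  intro hind
  classical
  obtain ⟨H₁, hH₁, -, ϑ₁, hϑ₁, h₁⟩ := exists_coatom_induced K hK ψ hψ
  let S : Set (Subgroup G) :=
    {H | IsCoatom H ∧ ∃ ϑ : H → ℂ, Cfsg.IsCharacter H ϑ ∧ Cfsg.indFun H ϑ = χ}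
  obtain ⟨H, ⟨hmax, ϑ, hϑ, hH⟩, hbest⟩ := Set.exists_max_image S
    (fun H => Nat.card H.normalCore) (Set.toFinite S) ⟨H₁, hH₁, ϑ₁, hϑ₁, h₁.trans hind⟩
  obtain ⟨H', hH', hex, hlt⟩ := exists_larger_core hχ hqp H hmax ϑ hϑ hH
  exact absurd (hbest H' ⟨hH', hex⟩) (not_le.mpr hlt)

end Cfsg.Agent.S0889
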