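import Cfsg.Statements.S0891
import Mathlib

set_option autoImplicit false
open Cfsg

namespace Cfsg.Agent.S0891

open scoped commutatorElement

variable {n : ℕ}

/-- Operators on the spin module. -/
abbrev Op (n : ℕ) := Module.End (ZMod 3) ((Fin n → Bool) → ZMod 3)

theorem mneg (a b : Op n) : a * -b = -(a * b) := _root_.mul_neg a b

theorem nmul (a b : Op n) : -a * b = -(a * b) := _root_.neg_mul a b

theorem nsmul1 (a : Op n) : (-1 : ZMod 3) • a = -a := neg_one_smul _ a

def sgnv (b : Prop) [Decidable b] : ZMod 3 := if b then -1 else 1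

theorem sgnv_sq (b : Prop) [Decidable b] : sgnv b * sgnv b = 1 := by
  unfold sgnv; split_ifs <;> simp

/-- The sign of the set `s` restricted to `P`. -/
def sgnSet (P : Fin n → Bool) (s : Fin n → Bool) : ZMod 3 := ∏ j, sgnv (P j = true ∧ s j = true)

theorem sgnSet_sq (P s : Fin n → Bool) : sgnSet P s * sgnSet P s = 1 := by
  rw [sgnSet, ← Finset.prod_mul_distrib]
  exact Finset.prod_eq_one fun j _ => sgnv_sq _

def flipAt (i : Fin n) (s : Fin n → Bool) : Fin n → Bool := Function.update s i (!(s i))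

theorem flipAt_flipAt (i : Fin n) (s : Fin n → Bool) : flipAt i (flipAt i s) = s := by
  simp [flipAt]

theorem flipAt_comm (i j : Fin n) (s : Fin n → Bool) :
    flipAt i (flipAt j s) = flipAt j (flipAt i s) := by
  rcases eq_or_ne i j with rfl | h
  · rfl
  · funext k
    simp only [flipAt, Function.update_apply]
    split_ifs <;> simp_all

theorem sgnSet_flip (P : Fin n → Bool) (i : Fin n) (s : Fin n → Bool) :
    sgnSet P (flipAt i s) = sgnv (P i = true) * sgnSet P s := by
  classical
  rw [sgnSet, sgnSet, ← Finset.mul_prod_erase _ _ (Finset.mem_univ i),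
    ← Finset.mul_prod_erase _ (fun j => sgnv (P j = true ∧ s j = true)) (Finset.mem_univ i),
    ← mul_assoc, Finset.prod_congr rfl (g := fun j => sgnv (P j = true ∧ s j = true))
      fun j hj => by simp [flipAt, Function.update_of_ne (Finset.ne_of_mem_erase hj)]]
  congr 1
  simp only [flipAt, Function.update_self]
  cases P i <;> cases s i <;> simp [sgnv]

/-- Signed flips. -/
def op (P : Fin n → Bool) (i : Fin n) : Op n where
  toFun f s := sgnSet P s * f (flipAt i s)
  map_add' f g := by funext s; simp [mul_add]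
  map_smul' c f := by funext s; simp; ring

theorem op_mul_op (P R : Fin n → Bool) (i j : Fin n) :
    op P i * op R j = (sgnv (R i = true) * sgnv (P j = true)) • (op R j * op P i) := by
  refine LinearMap.ext fun f => funext fun s => ?_
  simp only [Module.End.mul_apply, LinearMap.smul_apply, Pi.smul_apply, smul_eq_mul, op,
    LinearMap.coe_mk, AddHom.coe_mk, sgnSet_flip, flipAt_comm i j]
  linear_combination -(sgnSet P s * sgnv (R i = true) * sgnSet R s *
    f (flipAt j (flipAt i s))) * sgnv_sq (P j = true)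

theorem op_sq (P : Fin n → Bool) (i : Fin n) (h : P i = false) : op P i * op P i = 1 := by
  refine LinearMap.ext fun f => funext fun s => ?_
  simp only [Module.End.mul_apply, Module.End.one_apply, op, LinearMap.coe_mk, AddHom.coe_mk,
    sgnSet_flip, flipAt_flipAt]
  simp only [h, sgnv, Bool.false_eq_true, if_false, one_mul, ← mul_assoc, sgnSet_sq]

/-- Left generators. -/
def γ (i : Fin n) : Op n := op (fun j => decide (j < i)) i

/-- Right generators. -/
def δ (i : Fin n) : Op n := op (fun j => decide (i < j)) i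

/-- The parity operator. -/
def par : Op n where
  toFun f s := sgnSet (fun _ => true) s * f s
  map_add' f g := by funext s; simp [mul_add]
  map_smul' c f := by funext s; simp; ring

theorem γ_sq (i : Fin n) : γ i * γ i = 1 := op_sq _ _ (by simp)

theorem γ_anti {i j : Fin n} (h : i ≠ j) : γ i * γ j = -(γ j * γ i) := by
  rw [γ, γ, op_mul_op]
  rcases lt_or_gt_of_ne h with h' | h'
  · simp [sgnv, h', h'.not_gt, nsmul1]
  · simp [sgnv, h', h'.not_gt, nsmul1]

theorem γ_δ (i j : Fin n) : γ i * δ j = δ j * γ i := by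
  rw [γ, δ, op_mul_op]
  rcases lt_or_ge j i with h | h
  · simp [sgnv, h]
  · simp [sgnv, h.not_gt]

theorem γ_par (i : Fin n) : γ i * par = -(par * γ i) := by
  refine LinearMap.ext fun f => funext fun s => ?_
  simp only [Module.End.mul_apply, LinearMap.neg_apply, Pi.neg_apply, γ, op, par, LinearMap.coe_mk,
    AddHom.coe_mk, sgnSet_flip]
  simp [sgnv]
  ring

theorem three_eq : (2 : Op n) = -1 := by
  rw [← one_add_one_eq_two, eq_neg_iff_add_eq_zero]
  refine LinearMap.ext fun f => funext fun s => ?_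
  simp only [LinearMap.add_apply, Module.End.one_apply, Pi.add_apply, LinearMap.zero_apply,
    Pi.zero_apply]
  have h3 : (3 : ZMod 3) = 0 := rfl
  linear_combination (f s) * h3

/-- Lift of a transposition. -/
def T (a b : Fin n) : Op n := γ a - γ b

theorem T_sq {a b : Fin n} (h : a ≠ b) : T a b * T a b = -1 := by
  rw [← three_eq, T, mul_sub, sub_mul, sub_mul, γ_sq, γ_sq, γ_anti h, ← one_add_one_eq_two]
  abel

def TU (a b : Fin n) (h : a ≠ b) : (Op n)ˣ :=
  ⟨T a b, -T a b, by rw [mneg, T_sq h, neg_neg], by rw [nmul, T_sq h, neg_neg]⟩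

theorem T_γ {a b : Fin n} (h : a ≠ b) (k : Fin n) :
    T a b * γ k = -(γ (Equiv.swap a b k) * T a b) := by
  rcases eq_or_ne k a with rfl | ha
  · rw [Equiv.swap_apply_left, T, sub_mul, mul_sub, γ_sq, γ_sq]
    abel
  · rcases eq_or_ne k b with rfl | hb
    · rw [Equiv.swap_apply_right, T, sub_mul, mul_sub, γ_sq, γ_sq]
      abel
    · rw [Equiv.swap_apply_of_ne_of_ne ha hb, T, sub_mul, mul_sub, γ_anti ha.symm, γ_anti hb.symm]
      abel

theorem T_δ (a b k : Fin n) : T a b * δ k = δ k * T a b := by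
  rw [T, sub_mul, mul_sub, γ_δ, γ_δ]

theorem T_par (a b : Fin n) : T a b * par = -(par * T a b) := by
  rw [T, sub_mul, mul_sub, γ_par, γ_par]
  abel

/-- Pairs compatible with the actions. -/
def IsGood (x : Equiv.Perm (Fin n) × (Op n)ˣ) : Prop :=
  (∀ k, (x.2 : Op n) * γ k = γ (x.1 k) * (x.2 : Op n)) ∧
    (∀ k, (x.2 : Op n) * δ k = δ k * (x.2 : Op n)) ∧ (x.2 : Op n) * par = par * (x.2 : Op n)

def gen (a b c d : Fin n) (hab : a ≠ b) (hcd : c ≠ d) : Equiv.Perm (Fin n) × (Op n)ˣ :=
  (Equiv.swap a b * Equiv.swap c d, TU a b hab * TU c d hcd)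

theorem gen_good {a b c d : Fin n} (hab : a ≠ b) (hcd : c ≠ d) : IsGood (gen a b c d hab hcd) := by
  refine ⟨fun k => ?_, fun k => ?_, ?_⟩
  · show T a b * T c d * γ k = γ (Equiv.swap a b (Equiv.swap c d k)) * (T a b * T c d)
    rw [mul_assoc, T_γ hcd, mneg, ← mul_assoc, T_γ hab, nmul, neg_neg, mul_assoc]
  · show T a b * T c d * δ k = δ k * (T a b * T c d)
    rw [mul_assoc, T_δ, ← mul_assoc, T_δ, mul_assoc]
  · show T a b * T c d * par = par * (T a b * T c d)
    rw [mul_assoc, T_par, mneg, ← mul_assoc, T_par, nmul, neg_neg, mul_assoc]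

/-- The double cover. -/
def cover (n : ℕ) : Subgroup (Equiv.Perm (Fin n) × (Op n)ˣ) :=
  Subgroup.closure {x | ∃ a b c d, ∃ (hab : a ≠ b) (hcd : c ≠ d), x = gen a b c d hab hcd}

theorem cover_le_good {x : Equiv.Perm (Fin n) × (Op n)ˣ} (hx : x ∈ cover n) : IsGood x := by
  have hflip : ∀ (u : (Op n)ˣ) {p q : Op n}, (u : Op n) * p = q * (u : Op n) →
      ((u⁻¹ : (Op n)ˣ) : Op n) * q = p * ((u⁻¹ : (Op n)ˣ) : Op n) := fun u {p q} h => by
    rw [Units.eq_mul_inv_iff_mul_eq, mul_assoc, ← h, ← mul_assoc, Units.inv_mul, one_mul]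
  induction hx using Subgroup.closure_induction with
  | mem x hx =>
    obtain ⟨a, b, c, d, hab, hcd, rfl⟩ := hx
    exact gen_good hab hcd
  | one => exact ⟨fun k => by simp, fun k => by simp, by simp⟩
  | mul x y _ _ hx hy =>
    refine ⟨fun k => ?_, fun k => ?_, ?_⟩ <;>
      simp only [Prod.fst_mul, Prod.snd_mul, Units.val_mul, Equiv.Perm.mul_apply, mul_assoc]
    · rw [hy.1, ← mul_assoc, hx.1, mul_assoc]
    · rw [hy.2.1, ← mul_assoc, hx.2.1, mul_assoc]
    · rw [hy.2.2, ← mul_assoc, hx.2.2, mul_assoc]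
  | inv x _ hx =>
    refine ⟨fun k => ?_, fun k => hflip _ (hx.2.1 k), hflip _ hx.2.2⟩
    have h := hx.1 (x.1⁻¹ k)
    rw [show x.1 (x.1⁻¹ k) = k from x.1.apply_symm_apply k] at h
    exact hflip _ h

theorem cover_le_alt {x : Equiv.Perm (Fin n) × (Op n)ˣ} (hx : x ∈ cover n) :
    x.1 ∈ alternatingGroup (Fin n) := by
  have hle : cover n ≤ (alternatingGroup (Fin n)).comap (MonoidHom.fst _ _) := by
    rw [cover, Subgroup.closure_le]
    rintro _ ⟨a, b, c, d, hab, hcd, rfl⟩
    rw [SetLike.mem_coe, Subgroup.mem_comap, Equiv.Perm.mem_alternatingGroup]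
    show Equiv.Perm.sign (Equiv.swap a b * Equiv.swap c d) = 1
    rw [map_mul, Equiv.Perm.sign_swap hab, Equiv.Perm.sign_swap hcd]
    rfl
  exact hle hx

theorem alt_le_image (hn : 2 ≤ n) {σ : Equiv.Perm (Fin n)} (hσ : σ ∈ alternatingGroup (Fin n)) :
    ∃ x ∈ cover n, x.1 = σ := by
  classical
  let a₀ : Fin n := ⟨0, by omega⟩
  let b₀ : Fin n := ⟨1, by omega⟩
  have h₀ : a₀ ≠ b₀ := by simp [a₀, b₀]
  let I : Subgroup (Equiv.Perm (Fin n)) := (cover n).map (MonoidHom.fst _ _)
  have hpair : ∀ {a b c d : Fin n}, a ≠ b → c ≠ d → Equiv.swap a b * Equiv.swap c d ∈ I :=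
    fun {a b c d} hab hcd =>
      ⟨gen a b c d hab hcd, Subgroup.subset_closure ⟨a, b, c, d, hab, hcd, rfl⟩, rfl⟩
  have key : ∀ τ : Equiv.Perm (Fin n), (Equiv.Perm.sign τ = 1 → τ ∈ I) ∧
      (Equiv.Perm.sign τ = -1 → Equiv.swap a₀ b₀ * τ ∈ I) := by
    intro τ
    induction τ using Equiv.Perm.swap_induction_on with
    | one => exact ⟨fun _ => one_mem I, fun h => by simp at h⟩
    | swap_mul τ x y hxy ih =>
      rw [map_mul, Equiv.Perm.sign_swap hxy, neg_one_mul]
      refine ⟨fun h => ?_, fun h => ?_⟩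
      · have h1 := I.mul_mem (hpair hxy h₀) (ih.2 (neg_eq_iff_eq_neg.mp h))
        simpa [mul_assoc, Equiv.swap_mul_self] using h1
      · have h1 := I.mul_mem (hpair h₀ hxy) (ih.1 (neg_inj.mp h))
        simpa [mul_assoc] using h1
  obtain ⟨x, hx, e⟩ := (key σ).1 (Equiv.Perm.mem_alternatingGroup.mp hσ)
  exact ⟨x, hx, e⟩

/-- The vacuum vector. -/
def e₀ (n : ℕ) : (Fin n → Bool) → ZMod 3 := Pi.single (fun _ => false) 1

theorem γ_e₀ (i : Fin n) : γ i (e₀ n) = δ i (e₀ n) := by
  funext s
  simp only [γ, δ, op, LinearMap.coe_mk, AddHom.coe_mk, e₀]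
  by_cases h : flipAt i s = fun _ => false
  · have hj : ∀ j, j ≠ i → s j = false := fun j hj => by
      simpa [flipAt, Function.update_of_ne hj] using congrFun h j
    have e : ∀ P : Fin n → Bool, P i = false → sgnSet P s = 1 := fun P hP => by
      refine Finset.prod_eq_one fun j _ => ?_
      rcases eq_or_ne j i with rfl | hji <;> simp_all [sgnv]
    rw [e _ (by simp), e _ (by simp)]
  · simp [h]

theorem par_e₀ : par (e₀ n) = e₀ n := by
  funext s
  simp only [par, LinearMap.coe_mk, AddHom.coe_mk, e₀]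
  by_cases h : s = fun _ => false
  · subst h
    simp [sgnSet, sgnv]
  · simp [h]

/-- An element over the identity is a sign. -/
theorem scalar_of_fixed {x : Equiv.Perm (Fin n) × (Op n)ˣ} (hx : IsGood x) (h1 : x.1 = 1) :
    (x.2 : Op n) = 1 ∨ (x.2 : Op n) = -1 := by
  classical
  obtain ⟨hγ, hδ, hpar⟩ := hx
  set u : Op n := (x.2 : Op n)
  set v := u (e₀ n) with hv
  have hvγ : ∀ i, γ i v = δ i v := fun i => by
    have e1 := LinearMap.congr_fun (hγ i) (e₀ n)
    have e2 := LinearMap.congr_fun (hδ i) (e₀ n)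
    simp only [Module.End.mul_apply, h1, Equiv.Perm.one_apply] at e1 e2
    rw [← e1, ← e2, γ_e₀]
  have hvp : par v = v := by
    have e := LinearMap.congr_fun hpar (e₀ n)
    simp only [Module.End.mul_apply, par_e₀] at e
    exact e.symm
  have hsupp : ∀ t, t ≠ (fun _ => false) → v t = 0 := by
    intro t ht
    by_contra hne
    obtain ⟨i, hi⟩ := Function.ne_iff.mp ht
    have hi' : t i = true := by simpa using hi
    have h := congrFun (hvγ i) (flipAt i t)
    simp only [γ, δ, op, LinearMap.coe_mk, AddHom.coe_mk, flipAt_flipAt, sgnSet_flip] at h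
    have hp := congrFun hvp t
    simp only [par, LinearMap.coe_mk, AddHom.coe_mk] at hp
    simp only [lt_irrefl, decide_false, sgnv, Bool.false_eq_true, if_false, one_mul] at h
    have h' := mul_right_cancel₀ hne h
    have hp' : sgnSet (fun _ => true) t = 1 := mul_right_cancel₀ hne (hp.trans (one_mul _).symm)
    have hprod : sgnSet (fun j => decide (j < i)) t * sgnSet (fun j => decide (i < j)) t =
        -sgnSet (fun _ => true) t := by
      rw [sgnSet, sgnSet, sgnSet, ← Finset.prod_mul_distrib,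
        ← Finset.mul_prod_erase _ _ (Finset.mem_univ i),
        ← Finset.mul_prod_erase _ (fun j => sgnv ((fun _ => true) j = true ∧ t j = true))
          (Finset.mem_univ i)]
      simp only [lt_irrefl, decide_false, sgnv, Bool.false_eq_true, false_and, if_false, hi',
        and_self, if_true, one_mul]
      rw [neg_one_mul, neg_neg]
      refine Finset.prod_congr rfl fun j hj => ?_
      rcases lt_or_gt_of_ne (Finset.ne_of_mem_erase hj) with hl | hl <;>
        by_cases ht : t j = true <;> simp [hl, hl.not_gt, ht]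
    rw [h', sgnSet_sq, hp'] at hprod
    exact absurd hprod (by decide)
  have hvc : v = v (fun _ => false) • e₀ n := by
    funext t
    by_cases ht : t = fun _ => false
    · subst ht; simp [e₀]
    · simp [e₀, ht, hsupp t ht]
  set c := v (fun _ => false) with hc
  have hall : ∀ (k : ℕ) (s : Fin n → Bool), (Finset.univ.filter fun j => s j = true).card = k →
      u (Pi.single s 1) = c • Pi.single s 1 := by
    intro k
    induction k with
    | zero =>
      intro s hs
      have : s = fun _ => false := funext fun j => by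
        simpa using Finset.filter_eq_empty_iff.mp (Finset.card_eq_zero.mp hs) (Finset.mem_univ j)
      subst this
      exact hvc
    | succ k ih =>
      intro s hs
      obtain ⟨i, hi⟩ : (Finset.univ.filter fun j => s j = true).Nonempty :=
        Finset.card_pos.mp (by omega)
      have hi' : s i = true := (Finset.mem_filter.mp hi).2
      have hk : (Finset.univ.filter fun j => flipAt i s j = true).card = k := by
        rw [show (Finset.univ.filter fun j => flipAt i s j = true) =
          (Finset.univ.filter fun j => s j = true).erase i from ?_, Finset.card_erase_of_mem hi]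
        · omega
        · ext j
          rcases eq_or_ne j i with rfl | hj <;> simp [flipAt, *]
      set a := sgnSet (fun j => decide (i < j)) s with ha
      have e : δ i (Pi.single (flipAt i s) 1) = a • Pi.single s 1 := by
        funext t
        simp only [δ, op, LinearMap.coe_mk, AddHom.coe_mk, Pi.smul_apply, smul_eq_mul]
        by_cases ht : t = s
        · subst ht; simp [ha]
        · rw [Pi.single_eq_of_ne ht, Pi.single_eq_of_ne fun h => ht (by
            rw [← flipAt_flipAt i t, h, flipAt_flipAt])]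
          simp
      have h := LinearMap.congr_fun (hδ i) (Pi.single (flipAt i s) 1)
      simp only [Module.End.mul_apply, e, ih _ hk, map_smul] at h
      have h2 := congrArg (fun w : (Fin n → Bool) → ZMod 3 => a • w) h
      simp only [smul_smul, ← mul_assoc] at h2
      rw [sgnSet_sq, one_smul, mul_comm a c, mul_assoc, sgnSet_sq, mul_one] at h2
      exact h2
  have hu : u = c • 1 := by
    refine LinearMap.pi_ext' fun s => LinearMap.ext_ring ?_
    simpa using hall _ s rfl
  have hdec : ∀ a : ZMod 3, a = 0 ∨ a = 1 ∨ a = -1 := by decide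
  have hc3 := hdec c
  rcases hc3 with h0 | h0 | h0
  · exfalso
    have h := x.2.inv_mul
    rw [show (x.2 : Op n) = c • 1 from hu, h0, zero_smul, mul_zero] at h
    have := congrFun (LinearMap.congr_fun h (e₀ n)) (fun _ => false)
    simp [e₀] at this
  · exact Or.inl (by rw [hu, h0, one_smul])
  · exact Or.inr (by rw [hu, h0, nsmul1])

instance instFiniteOp : Finite (Op n) := Finite.of_injective _ DFunLike.coe_injective


/-- For every n ≥ 4 there are a finite group Γ and a central element z of Γ of order 2 lying in the commutator subgroup of Γ such that the quotient of Γ by the (normal) subgroup generated by z is isomorphic to the alternating group on n letters. -/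
theorem result (n : ℕ) (hn : 4 ≤ n) : ∃ (Γ : Type) (_ : Group Γ) (_ : Finite Γ) (z : Γ) (hz : z ∈ Subgroup.center Γ), orderOf z = 2 ∧ z ∈ commutator Γ ∧ ∃ _ : (Subgroup.zpowers z).Normal, Nonempty (Γ ⧸ Subgroup.zpowers z ≃* alternatingGroup (Fin n)) := by
  classical
  have : NeZero n := ⟨by omega⟩
  let g : Fin 4 → Fin n := Fin.castLE hn
  have hg : Function.Injective g := Fin.castLE_injective hn
  have hne : ∀ a b : Fin 4, a ≠ b → g a ≠ g b := fun a b h e => h (hg e)
  let A : cover n := ⟨gen (g 0) (g 1) (g 2) (g 3) (hne _ _ (by decide)) (hne _ _ (by decide)),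
    Subgroup.subset_closure ⟨_, _, _, _, _, _, rfl⟩⟩
  let B : cover n := ⟨gen (g 0) (g 2) (g 1) (g 3) (hne _ _ (by decide)) (hne _ _ (by decide)),
    Subgroup.subset_closure ⟨_, _, _, _, _, _, rfl⟩⟩
  let π : cover n →* alternatingGroup (Fin n) :=
    ((MonoidHom.fst _ _).comp (cover n).subtype).codRestrict _ fun x => cover_le_alt x.2
  have hπ : ∀ x : cover n, ((π x : alternatingGroup (Fin n)) : Equiv.Perm (Fin n)) = x.1.1 :=
    fun _ => rfl
  -- the two lifts anticommute
  have hanti : ((B.1.2 : (Op n)ˣ) : Op n) * (A.1.2 : (Op n)ˣ) =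
      -(((A.1.2 : (Op n)ˣ) : Op n) * (B.1.2 : (Op n)ˣ)) := by
    have hB := (cover_le_good B.2).1
    have e1 : ((A.1.2 : (Op n)ˣ) : Op n) = T (g 0) (g 1) * T (g 2) (g 3) := rfl
    have hσ : B.1.1 = Equiv.swap (g 0) (g 2) * Equiv.swap (g 1) (g 3) := rfl
    have s0 : B.1.1 (g 0) = g 2 := by
      rw [hσ, Equiv.Perm.mul_apply, Equiv.swap_apply_of_ne_of_ne (hne _ _ (by decide))
        (hne _ _ (by decide)), Equiv.swap_apply_left]
    have s1 : B.1.1 (g 1) = g 3 := by
      rw [hσ, Equiv.Perm.mul_apply, Equiv.swap_apply_left, Equiv.swap_apply_of_ne_of_ne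
        (hne _ _ (by decide)) (hne _ _ (by decide))]
    have s2 : B.1.1 (g 2) = g 0 := by
      rw [hσ, Equiv.Perm.mul_apply, Equiv.swap_apply_of_ne_of_ne (hne _ _ (by decide))
        (hne _ _ (by decide)), Equiv.swap_apply_right]
    have s3 : B.1.1 (g 3) = g 1 := by
      rw [hσ, Equiv.Perm.mul_apply, Equiv.swap_apply_right, Equiv.swap_apply_of_ne_of_ne
        (hne _ _ (by decide)) (hne _ _ (by decide))]
    set u : Op n := ((B.1.2 : (Op n)ˣ) : Op n)
    have m1 : u * T (g 0) (g 1) = T (g 2) (g 3) * u := by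
      simp only [T, mul_sub, sub_mul, hB, s0, s1]
    have m2 : u * T (g 2) (g 3) = T (g 0) (g 1) * u := by
      simp only [T, mul_sub, sub_mul, hB, s2, s3]
    have m3 : T (g 2) (g 3) * T (g 0) (g 1) = -(T (g 0) (g 1) * T (g 2) (g 3)) := by
      simp only [T, mul_sub, sub_mul]
      rw [γ_anti (hne 2 0 (by decide)), γ_anti (hne 3 0 (by decide)), γ_anti (hne 2 1 (by decide)),
        γ_anti (hne 3 1 (by decide))]
      abel
    rw [e1, ← mul_assoc, m1, mul_assoc, m2, ← mul_assoc, m3, nmul]
  have hcomm : A.1.1 * B.1.1 = B.1.1 * A.1.1 := by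
    ext1 x
    have hB := cover_le_good B.2
    have hA := cover_le_good A.2
    have e1 : A.1.1 = Equiv.swap (g 0) (g 1) * Equiv.swap (g 2) (g 3) := rfl
    have e2 : B.1.1 = Equiv.swap (g 0) (g 2) * Equiv.swap (g 1) (g 3) := rfl
    rw [e1, e2]
    simp only [Equiv.Perm.mul_apply]
    by_cases hx : ∃ i, g i = x
    · obtain ⟨i, rfl⟩ := hx
      simp only [hg.swap_apply]
      congr 1
      revert i
      decide
    · push Not at hx
      simp only [Equiv.swap_apply_of_ne_of_ne (hx 0).symm (hx 1).symm,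
        Equiv.swap_apply_of_ne_of_ne (hx 2).symm (hx 3).symm,
        Equiv.swap_apply_of_ne_of_ne (hx 0).symm (hx 2).symm,
        Equiv.swap_apply_of_ne_of_ne (hx 1).symm (hx 3).symm]
  set z : cover n := A * B * (B * A)⁻¹ with hzdef
  have hz2 : ((z.1.2 : (Op n)ˣ) : Op n) = -1 := by
    have h : z * (B * A) = A * B := inv_mul_cancel_right _ _
    have h' := congrArg (fun x : cover n => ((x.1.2 : (Op n)ˣ) : Op n)) h
    simp only [Subgroup.coe_mul, Prod.snd_mul, Units.val_mul] at h'
    rw [hanti, mneg, neg_eq_iff_eq_neg, ← Units.val_mul] at h'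
    refine (A.1.2 * B.1.2).isUnit.mul_left_injective ?_
    dsimp only
    rw [h', nmul, one_mul]
  have hz1 : z.1.1 = 1 := by
    show A.1.1 * B.1.1 * (B.1.1 * A.1.1)⁻¹ = 1
    rw [hcomm, mul_inv_cancel]
  clear_value z
  have hker : ∀ x : cover n, π x = 1 → x = 1 ∨ x = z := by
    intro x hx
    have hx1 : x.1.1 = 1 := congrArg Subtype.val hx
    rcases scalar_of_fixed (cover_le_good x.2) hx1 with h | h
    · exact Or.inl (Subtype.ext (Prod.ext hx1 (Units.ext h)))
    · exact Or.inr (Subtype.ext (Prod.ext (hx1.trans hz1.symm) (Units.ext (h.trans hz2.symm))))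
  have hzc : z ∈ Subgroup.center (cover n) := by
    rw [Subgroup.mem_center_iff]
    intro x
    refine Subtype.ext (Prod.ext ?_ (Units.ext ?_))
    · show x.1.1 * z.1.1 = z.1.1 * x.1.1
      rw [hz1, one_mul, mul_one]
    · show ((x.1.2 : (Op n)ˣ) : Op n) * (z.1.2 : (Op n)ˣ) = (z.1.2 : (Op n)ˣ) * (x.1.2 : (Op n)ˣ)
      rw [hz2, mneg, nmul, mul_one, one_mul]
  have hzz : (Subgroup.zpowers z).Normal := ⟨fun x hx g => by
    obtain ⟨i, rfl⟩ := Subgroup.mem_zpowers_iff.mp hx
    rw [Subgroup.mem_center_iff.mp (zpow_mem hzc i) g, mul_inv_cancel_right]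
    exact zpow_mem (Subgroup.mem_zpowers z) i⟩
  have hord : orderOf z = 2 := by
    refine orderOf_eq_prime ?_ fun h => ?_
    · refine Subtype.ext (Prod.ext ?_ (Units.ext ?_))
      · show (z.1.1) ^ 2 = 1
        rw [hz1, one_pow]
      · show (((z.1.2 : (Op n)ˣ) ^ 2 : (Op n)ˣ) : Op n) = 1
        rw [sq, Units.val_mul, hz2, nmul, one_mul, neg_neg]
    · have h' : ((z.1.2 : (Op n)ˣ) : Op n) = 1 := by rw [h]; rfl
      rw [hz2] at h'
      have h'' := congrFun (LinearMap.congr_fun h' (e₀ n)) (fun _ => false)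
      simp [e₀] at h''
      exact absurd h'' (by decide : ¬ ((-1 : ZMod 3) = 1))
  have hsurj : Function.Surjective π := fun σ => by
    obtain ⟨x, hx, hxσ⟩ := alt_le_image (by omega) σ.2
    exact ⟨⟨x, hx⟩, Subtype.ext hxσ⟩
  have hkereq : π.ker = Subgroup.zpowers z := by
    ext x
    refine ⟨fun hx => ?_, fun hx => ?_⟩
    · rcases hker x hx with h | h
      · rw [h]; exact one_mem _
      · rw [h]; exact Subgroup.mem_zpowers z
    · obtain ⟨i, rfl⟩ := Subgroup.mem_zpowers_iff.mp hx
      exact zpow_mem (show z ∈ π.ker from Subtype.ext hz1) i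
  refine ⟨cover n, inferInstance, inferInstance, z, hzc, hord, ?_, hzz,
    ⟨(QuotientGroup.quotientMulEquivOfEq hkereq.symm).trans
      (QuotientGroup.quotientKerEquivOfSurjective π hsurj)⟩⟩
  have e : z = ⁅A, B⁆ := by
    rw [hzdef, commutatorElement_def, mul_inv_rev, ← mul_assoc]
  rw [e, commutator_def]
  exact Subgroup.commutator_mem_commutator (Subgroup.mem_top A) (Subgroup.mem_top B)

end Cfsg.Agent.S0891
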