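import Cfsg.Statements.S0893
import Cfsg.Agent.Lib.Char.Extraspecial

set_option autoImplicit false
open Cfsg

namespace Cfsg.Agent.S0893

open CfsgLib.Char

/-- Let P be an extraspecial p-group of order p ^ (2 * n + 1), A an abelian subgroup of order p ^ (n + 1), and λ a character of A of degree 1 that is not identically 1 on the elements of A lying in the centre of P. Then the function induced from λ to P is an irreducible character of P and vanishes at every element outside the centre. -/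
theorem result {P : Type*} [Group P] [Fintype P] (p n : ℕ) [Fact p.Prime] (hP : Cfsg.IsExtraspecial p P) (hcard : Nat.card P = p ^ (2 * n + 1)) (A : Subgroup P) (hab : ∀ a ∈ A, ∀ b ∈ A, a * b = b * a) (hA : Nat.card A = p ^ (n + 1)) (lam : A → ℂ) (hlam : Cfsg.IsCharacter A lam ∧ lam 1 = 1) (hZ : ∃ a : A, (a : P) ∈ Subgroup.center P ∧ lam a ≠ 1) : Cfsg.IsIrrCharacter P (Cfsg.indFun A lam) ∧ ∀ x : P, x ∉ Subgroup.center P → Cfsg.indFun A lam x = 0 := by
  classical
  have := Fintype.ofFinite A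
  obtain ⟨a₀, haZ, hane⟩ := hZ
  have hind := isCharacter_indFun A hlam.1
  have hidx : (A.index : ℂ) = (p : ℂ) ^ n := by
    have h := A.index_mul_card
    rw [hA, hcard, show 2 * n + 1 = n + (n + 1) by ring, pow_add p n (n + 1)] at h
    exact_mod_cast Nat.eq_of_mul_eq_mul_right (pow_pos (Fact.out : p.Prime).pos _) h
  have hdeg : Cfsg.indFun A lam 1 = (p : ℂ) ^ n := by rw [indFun_one, hlam.2, mul_one, hidx]
  obtain ⟨χ, hχ, hc⟩ := exists_constituent hind fun h =>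
    (pow_ne_zero n (Nat.cast_ne_zero.mpr (Fact.out : p.Prime).ne_zero : (p : ℂ) ≠ 0))
      (hdeg.symm.trans (congrFun h 1))
  have hχdeg : χ 1 = (p : ℂ) ^ n ∧ ∀ x, x ∉ Subgroup.center P → χ x = 0 := by
    rcases extraspecial_irr hP hcard hχ with ⟨h1, hz⟩ | ⟨h1, hv, -⟩
    · exfalso
      apply hc
      rw [frobenius_reciprocity A lam (isClassFunction_of_isIrr hχ)]
      have hl : Cfsg.IsIrrCharacter A (fun a : A => χ a) :=
        isIrr_of_linear (isCharacter_res A (isCharacter_of_isIrr hχ)) (by simpa using h1)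
      refine classInner_irr_ne (isIrr_of_linear hlam.1 hlam.2) hl fun e => hane ?_
      rw [e]; exact hz _ haZ
    · exact ⟨h1, hv⟩
  obtain ⟨m, hm, hmi⟩ := char_decomp hind
  choose d hd0 hd using fun ψ : Cfsg.IrrCharacter P => exists_degree_pos ψ.2
  have hsum : ∑ ψ, m ψ * d ψ = p ^ n := by
    have h1 := congrFun hm 1
    rw [hdeg, Finset.sum_apply] at h1
    simp only [Pi.smul_apply, smul_eq_mul, hd] at h1
    exact_mod_cast h1.symm
  have hmχ : m ⟨χ, hχ⟩ ≠ 0 := fun e => hc (by rw [hmi ⟨χ, hχ⟩, e, Nat.cast_zero])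
  have hdχ : d ⟨χ, hχ⟩ = p ^ n := by exact_mod_cast (hd ⟨χ, hχ⟩).symm.trans hχdeg.1
  rw [← Finset.add_sum_erase _ _ (Finset.mem_univ (⟨χ, hχ⟩ : Cfsg.IrrCharacter P)), hdχ] at hsum
  have hge : p ^ n ≤ m ⟨χ, hχ⟩ * p ^ n := Nat.le_mul_of_pos_left _ (Nat.pos_of_ne_zero hmχ)
  have he : m ⟨χ, hχ⟩ = 1 := Nat.eq_of_mul_eq_mul_right (pow_pos (Fact.out : p.Prime).pos n)
    (show m ⟨χ, hχ⟩ * p ^ n = 1 * p ^ n by omega)
  have hz : ∀ ψ ∈ Finset.univ.erase (⟨χ, hχ⟩ : Cfsg.IrrCharacter P), m ψ * d ψ = 0 :=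
    Finset.sum_eq_zero_iff.mp (by omega)
  have heq : Cfsg.indFun A lam = χ := by
    rw [hm, Finset.sum_eq_single ⟨χ, hχ⟩ (fun ψ _ hψ => by
      rw [(Nat.mul_eq_zero.mp (hz ψ (Finset.mem_erase.mpr ⟨hψ, Finset.mem_univ _⟩))).resolve_right
        (hd0 ψ).ne', Nat.cast_zero, zero_smul]) (by simp), he, Nat.cast_one, one_smul]
  rw [heq]
  exact ⟨hχ, hχdeg.2⟩

end Cfsg.Agent.S0893
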