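import Cfsg.Statements.S0897
import Cfsg.Agent.Lib.Char.InvariantMult
import Cfsg.Agent.Lib.CharNormal.Gallagher
import Mathlib.GroupTheory.FiniteAbelian.Duality

set_option autoImplicit false
open Cfsg

namespace Cfsg.Agent.S0897

open CfsgLib.Char CfsgLib.CharNormal
open scoped ComplexConjugate commutatorElement

/-- A homomorphism on a subgroup of a commutative group extends. -/
theorem exists_extend {A : Type*} [CommGroup A] [Finite A] (D : Subgroup A) (f : D →* ℂˣ) :
    ∃ F : A →* ℂˣ, ∀ d : D, F d = f d := by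
  have : NeZero (Monoid.exponent A : ℂ) := ⟨by exact_mod_cast Monoid.exponent_ne_zero_of_finite⟩
  obtain ⟨F, hF⟩ := MonoidHom.domRestrict_surjective (M := ℂ) D f
  exact ⟨F, fun d => DFunLike.congr_fun hF d⟩


/-- Let N be a normal subgroup of the finite group G with the index of N a power of the prime p, and P a Sylow p-subgroup of G such that P ⊓ N lies in the centre of P and every character of degree 1 of P ⊓ N is the restriction of a character of degree 1 of P. Then every irreducible character of N invariant under conjugation by G is the restriction of an irreducible character of G. -/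
theorem result {G : Type*} [Group G] [Fintype G] (p : ℕ) [Fact p.Prime] (N : Subgroup G) [hN : N.Normal] (hind : ∃ k : ℕ, N.index = p ^ k) (P : Sylow p G) (hcent : ∀ x ∈ (P : Subgroup G) ⊓ N, ∀ y ∈ (P : Subgroup G), x * y = y * x) (hlin : ∀ lam : ↥((P : Subgroup G) ⊓ N) → ℂ, Cfsg.IsCharacter ↥((P : Subgroup G) ⊓ N) lam → lam 1 = 1 → ∃ μ : ↥(P : Subgroup G) → ℂ, Cfsg.IsCharacter ↥(P : Subgroup G) μ ∧ μ 1 = 1 ∧ ∀ x : ↥((P : Subgroup G) ⊓ N), μ ⟨(x : G), x.2.1⟩ = lam x) (ϑ : N → ℂ) (hϑ : Cfsg.IsIrrCharacter N ϑ) (hinv : ∀ (g : G) (n : N), ϑ ⟨g * n * g⁻¹, hN.conj_mem (n : G) n.2 g⟩ = ϑ n) : ∃ χ : G → ℂ, Cfsg.IsIrrCharacter G χ ∧ ∀ n : N, χ n = ϑ n := by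
  classical
  have hp : p.Prime := Fact.out
  obtain ⟨E, φ, hE, hEN, hφ, hφi, m, hm, he⟩ := exists_elementary_invariant_mult hp N hind hϑ hinv
  have := Fintype.ofFinite ↥(E ⊓ N)
  have := Fintype.ofFinite E
  have := Fintype.ofFinite N
  -- separation of `P ⊓ N` from the derived subgroup of `P`
  have hsep : ∀ q : G, q ∈ (P : Subgroup G) ⊓ N → ∀ hqP : q ∈ (P : Subgroup G),
      (⟨q, hqP⟩ : (P : Subgroup G)) ∈ commutator (P : Subgroup G) → q = 1 := by
    intro q hq hqP hqc
    have := Fintype.ofFinite ↥((P : Subgroup G) ⊓ N)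
    by_contra hne
    have hne' : (⟨q, hq⟩ : ↥((P : Subgroup G) ⊓ N)) ≠ 1 := fun e => hne (congrArg Subtype.val e)
    have hab : ∀ a b : ↥((P : Subgroup G) ⊓ N), a * b = b * a := fun a b =>
      Subtype.ext (hcent a a.2 b b.2.1)
    obtain ⟨χ, hχ⟩ : ∃ χ : Cfsg.IrrCharacter ↥((P : Subgroup G) ⊓ N),
        (χ : ↥((P : Subgroup G) ⊓ N) → ℂ) ⟨q, hq⟩ ≠ (χ : ↥((P : Subgroup G) ⊓ N) → ℂ) 1 := by
      by_contra hall
      push Not at hall
      have h := sum_degree_mul_apply (⟨q, hq⟩ : ↥((P : Subgroup G) ⊓ N))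
      have h1 := sum_degree_mul_apply (1 : ↥((P : Subgroup G) ⊓ N))
      rw [if_pos rfl] at h1
      rw [if_neg hne'] at h
      simp only [hall, h1] at h
      exact card_ne_zero' h
    have hχ1 := irr_one_eq_one_of_comm hab χ.2
    obtain ⟨μ, hμ, hμ1, hμe⟩ := hlin _ (isCharacter_of_isIrr χ.2) hχ1
    apply hχ
    rw [← hμe, hχ1]
    have h0 := Abelianization.commutator_subset_ker (linearHom hμ hμ1) hqc
    exact congrArg Units.val (MonoidHom.mem_ker.mp h0)
  obtain ⟨x, hx, hxp, r, hr⟩ := id hE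
  have hxN : (x : G) ∈ N := by
    obtain ⟨k, hk⟩ := hind
    exact mem_of_coprime_index hk (by rwa [Subgroup.orderOf_coe])
  let S : Sylow p E := default
  have hzn : (Subgroup.zpowers x).Normal := ⟨fun w hw g => by
    rw [Subgroup.mem_center_iff.mp (Subgroup.zpowers_le.mpr hx hw) g, mul_inv_cancel_right]
    exact hw⟩
  have hdec : ∀ g : E, ∃ i : ℤ, ∃ u ∈ (S : Subgroup E), x ^ i * u = g := by
    have htop : Subgroup.zpowers x ⊔ (S : Subgroup E) = ⊤ := by
      rw [← Subgroup.index_eq_one]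
      have h1 := hr ▸ Subgroup.index_dvd_of_le
        (le_sup_left : Subgroup.zpowers x ≤ Subgroup.zpowers x ⊔ (S : Subgroup E))
      obtain ⟨j, -, hj⟩ := (Nat.dvd_prime_pow hp).mp h1
      rcases Nat.eq_zero_or_pos j with rfl | hj0
      · simpa using hj
      · exact absurd ((dvd_pow_self p hj0.ne').trans (hj ▸ Subgroup.index_dvd_of_le
          (le_sup_right : (S : Subgroup E) ≤ Subgroup.zpowers x ⊔ (S : Subgroup E)))) S.not_dvd_index
    intro g
    obtain ⟨c, hc, u, hu, e⟩ := Subgroup.mem_sup_of_normal_left.mp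
      (htop ▸ Subgroup.mem_top g : g ∈ Subgroup.zpowers x ⊔ (S : Subgroup E))
    obtain ⟨i, rfl⟩ := Subgroup.mem_zpowers_iff.mp hc
    exact ⟨i, u, hu, e⟩
  -- move the Sylow subgroup of `E` into `P`
  obtain ⟨P', hP'⟩ := (IsPGroup.map S.2 E.subtype).exists_le_sylow
  obtain ⟨t, ht⟩ := MulAction.exists_smul_eq G P' P
  have hSP : ∀ u : E, u ∈ (S : Subgroup E) → t * (u : G) * t⁻¹ ∈ (P : Subgroup G) := fun u hu => by
    rw [← ht]
    exact ⟨(u : G), hP' ⟨u, hu, rfl⟩, rfl⟩
  let cS : (S : Subgroup E) →* (P : Subgroup G) :=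
    MonoidHom.mk' (fun u => ⟨_, hSP u u.2⟩) fun u v => Subtype.ext (by
      show t * (((u * v : (S : Subgroup E)) : E) : G) * t⁻¹ = _
      simp [mul_assoc])
  have hcomm : commutator E ≤ (commutator (S : Subgroup E)).map (S : Subgroup E).subtype := by
    rw [commutator_def, Subgroup.commutator_le]
    intro a _ b _
    obtain ⟨i, u, hu, rfl⟩ := hdec a
    obtain ⟨j, v, hv, rfl⟩ := hdec b
    refine ⟨⁅(⟨u, hu⟩ : (S : Subgroup E)), ⟨v, hv⟩⁆,
      Subgroup.commutator_mem_commutator (Subgroup.mem_top _) (Subgroup.mem_top _), ?_⟩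
    have hxc : ∀ (i : ℤ) (g : E), Commute (x ^ i) g := fun i g =>
      (Commute.zpow_left (Subgroup.mem_center_iff.mp hx g).symm i)
    rw [map_commutatorElement, Subgroup.coe_subtype, commutatorElement_def, commutatorElement_def]
    have h1 : x ^ i * u * (x ^ j * v) = x ^ i * x ^ j * (u * v) := by
      rw [mul_assoc (x ^ i) u, ← mul_assoc u, ← (hxc j u).eq, mul_assoc (x ^ j) u v, mul_assoc]
    have h2 : x ^ j * v * (x ^ i * u) = x ^ i * x ^ j * (v * u) := by
      rw [mul_assoc (x ^ j) v, ← mul_assoc v, ← (hxc i v).eq, mul_assoc (x ^ i) v u,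
        ← mul_assoc (x ^ j), (hxc j (x ^ i)).eq]
    calc u * v * u⁻¹ * v⁻¹ = u * v * (v * u)⁻¹ := by group
      _ = x ^ i * x ^ j * (u * v * (v * u)⁻¹) * (x ^ i * x ^ j)⁻¹ := by
        rw [((hxc i _).mul_left (hxc j _)).eq, mul_inv_cancel_right]
      _ = x ^ i * u * (x ^ j * v) * (x ^ j * v * (x ^ i * u))⁻¹ := by
        rw [h1, h2, mul_inv_rev (x ^ i * x ^ j), ← mul_assoc (x ^ i * x ^ j)]
        simp only [mul_assoc]
      _ = x ^ i * u * (x ^ j * v) * (x ^ i * u)⁻¹ * (x ^ j * v)⁻¹ := by group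
  have hinter : ∀ d : E, (d : G) ∈ N → d ∈ commutator E → d = 1 := by
    intro d hdN hdc
    obtain ⟨w, hw, hwd⟩ := hcomm hdc
    have hwc : cS w ∈ commutator (P : Subgroup G) := by
      have h1 : (commutator (S : Subgroup E)).map cS ≤ commutator (P : Subgroup G) := by
        rw [commutator_def, Subgroup.map_commutator, commutator_def]
        exact Subgroup.commutator_mono le_top le_top
      exact h1 ⟨w, hw, rfl⟩
    have he' : (cS w : G) = t * (d : G) * t⁻¹ := by rw [← hwd]; rfl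
    have h2 := hsep (cS w : G) ⟨(cS w).2, he' ▸ hN.conj_mem _ hdN t⟩ (cS w).2 hwc
    rw [he'] at h2
    exact Subtype.ext (conj_eq_one_iff.mp h2)
  have hDcent : ∀ d : ↥(E ⊓ N), ∀ g : E, g * ⟨(d : G), d.2.1⟩ = ⟨(d : G), d.2.1⟩ * g := by
    intro d g
    have h1 : ⁅g, (⟨(d : G), d.2.1⟩ : E)⁆ = 1 := by
      refine hinter _ ?_ (Subgroup.commutator_mem_commutator (Subgroup.mem_top _) (Subgroup.mem_top _))
      show (g : G) * (d : G) * (g : G)⁻¹ * (d : G)⁻¹ ∈ N
      exact N.mul_mem (hN.conj_mem _ d.2.2 _) (N.inv_mem d.2.2)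
    exact commutatorElement_eq_one_iff_mul_comm.mp h1
  have hφ1 : φ 1 = 1 := irr_one_eq_one_of_comm
    (fun a b : ↥(E ⊓ N) => Subtype.ext (congrArg (fun z : E => (z : G)) (hDcent b ⟨(a : G), a.2.1⟩))) hφ
  -- extend `φ` to `E`
  let D' : Subgroup E := N.subgroupOf E
  let toAb : D' →* Abelianization E := Abelianization.of.comp D'.subtype
  have hinj : Function.Injective toAb := (injective_iff_map_eq_one toAb).mpr fun d hd =>
    Subtype.ext (hinter _ d.2 (by
      rw [← Abelianization.ker_of]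
      exact hd))
  let toD : D' →* ↥(E ⊓ N) :=
    MonoidHom.mk' (fun d => ⟨((d : E) : G), (d : E).2, d.2⟩) fun _ _ => rfl
  let e := MonoidHom.ofInjective hinj
  obtain ⟨F, hF⟩ := exists_extend toAb.range
    (((linearHom (isCharacter_of_isIrr hφ) hφ1).comp toD).comp e.symm.toMonoidHom)
  let η : E → ℂ := fun g => (F (Abelianization.of g) : ℂ)
  have hη : Cfsg.IsIrrCharacter E η := isIrrCharacter_units_hom (F.comp Abelianization.of)
  have hηD : ∀ d : ↥(E ⊓ N), η ⟨(d : G), d.2.1⟩ = φ d := by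
    intro d
    have h1 := hF (e ⟨⟨(d : G), d.2.1⟩, d.2.2⟩)
    simp only [MonoidHom.comp_apply, MulEquiv.coe_toMonoidHom, MulEquiv.symm_apply_apply] at h1
    exact congrArg Units.val h1
  -- a constituent of the induced character with multiplicity prime to `p`
  obtain ⟨a, ha, hai⟩ := char_decomp (isCharacter_indFun E (isCharacter_of_isIrr hη))
  choose b hb using fun χ : Cfsg.IrrCharacter G =>
    classInner_char_nat (isCharacter_res N (isCharacter_of_isIrr χ.2)) (isCharacter_of_isIrr hϑ)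
  have hval : Cfsg.classInner (fun n : N => Cfsg.indFun E η n) ϑ = m := by
    rw [← he]
    have hsum : ∀ g : G, ∑ n : N, Cfsg.extendByZero E η (g⁻¹ * n * g) * conj (ϑ n) =
        ∑ d : ↥(E ⊓ N), φ d * conj (ϑ ⟨d, d.2.2⟩) := by
      intro g
      have h1 : ∑ n : N, Cfsg.extendByZero E η (g⁻¹ * n * g) * conj (ϑ n) =
          ∑ n : N, Cfsg.extendByZero E η (n : G) * conj (ϑ n) := by
        refine Fintype.sum_equiv (MulAut.conjNormal g⁻¹ : MulAut N).toEquiv _ _ fun n => ?_
        have e1 : ((MulAut.conjNormal g⁻¹ : MulAut N) n : G) = g⁻¹ * n * g := by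
          rw [MulAut.conjNormal_apply, inv_inv]
        have e2 : ϑ ((MulAut.conjNormal g⁻¹ : MulAut N) n) = ϑ n := by
          conv_rhs => rw [← hinv g⁻¹ n]
          exact congrArg ϑ (Subtype.ext (MulAut.conjNormal_apply g⁻¹ n))
        show _ = Cfsg.extendByZero E η ((MulAut.conjNormal g⁻¹ : MulAut N) n : G) * _
        rw [MulEquiv.toEquiv_eq_coe, MulEquiv.coe_toEquiv, e1, e2]
      rw [h1]
      refine (Finset.sum_of_injOn (fun d : ↥(E ⊓ N) => (⟨d, d.2.2⟩ : N)) ?_ ?_ ?_ ?_).symm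
      · intro u _ v _ e
        exact Subtype.ext (congrArg (fun z : N => (z : G)) e)
      · intro u _; exact Finset.mem_univ _
      · intro n _ hn
        have : (n : G) ∉ E := fun h => hn ⟨⟨n, h, n.2⟩, Finset.mem_univ _, rfl⟩
        rw [extendByZero_of_notMem _ this, zero_mul]
      · intro d _
        show _ = Cfsg.extendByZero E η (d : G) * _
        rw [extendByZero_of_mem _ d.2.1, hηD]
    have hidx : (Nat.card N : ℂ) * Nat.card E = (Nat.card G : ℂ) * Nat.card ↥(E ⊓ N) := by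
      have h1 := (N.subgroupOf E).card_mul_index
      rw [← Subgroup.inf_subgroupOf_left,
        Nat.card_congr (Subgroup.subgroupOfEquivOfLe (inf_le_left : E ⊓ N ≤ E)).toEquiv,
        Subgroup.inf_subgroupOf_left] at h1
      have h2 : N.relIndex E = N.index := by
        rw [← Subgroup.relIndex_top_right (H := N), ← hEN, Subgroup.relIndex_sup_right]
      rw [← Subgroup.relIndex, h2] at h1
      have h3 : Nat.card N * Nat.card E = Nat.card G * Nat.card ↥(E ⊓ N) := by
        rw [← h1, ← N.index_mul_card]; ring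
      exact_mod_cast h3
    have hN0 : (Nat.card N : ℂ) ≠ 0 := by exact_mod_cast Nat.card_pos.ne'
    have hE0 : (Nat.card E : ℂ) ≠ 0 := by exact_mod_cast Nat.card_pos.ne'
    have hD0 : (Nat.card ↥(E ⊓ N) : ℂ) ≠ 0 := by exact_mod_cast Nat.card_pos.ne'
    have hlhs : Cfsg.classInner (fun n : N => Cfsg.indFun E η n) ϑ =
        (Nat.card N : ℂ)⁻¹ * ((Nat.card E : ℂ)⁻¹ *
          ((Nat.card G : ℂ) * ∑ d : ↥(E ⊓ N), φ d * conj (ϑ ⟨d, d.2.2⟩))) := by
      simp only [classInner_def, indFun_apply, Finset.sum_mul, mul_assoc, ← Finset.mul_sum]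
      rw [Finset.sum_comm]
      simp only [mul_assoc] at hsum
      simp only [hsum, Finset.sum_const, Finset.card_univ, nsmul_eq_mul, ← Nat.card_eq_fintype_card]
    have hswap : Cfsg.classInner φ (fun x : ↥(E ⊓ N) => ϑ ⟨x, x.2.2⟩) =
        Cfsg.classInner (fun x : ↥(E ⊓ N) => ϑ ⟨x, x.2.2⟩) φ := by
      rw [← classInner_conj_symm, he, map_natCast]
    rw [hlhs, ← hswap, classInner_def]
    field_simp
    linear_combination (-(∑ d : ↥(E ⊓ N), φ d * conj (ϑ ⟨d, d.2.2⟩))) * hidx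
  have hsum : ∑ χ, a χ * b χ = m := by
    have h1 : (fun n : N => Cfsg.indFun E η n) =
        ∑ χ : Cfsg.IrrCharacter G, (a χ : ℂ) • fun n : N => (χ : G → ℂ) n :=
      funext fun n => by simpa [Finset.sum_apply] using congrFun ha (n : G)
    rw [h1, classInner_sum_left] at hval
    simp only [classInner_smul_left, hb] at hval
    exact_mod_cast hval
  obtain ⟨χ, hχ⟩ : ∃ χ, ¬ p ∣ b χ := by
    by_contra hall
    push Not at hall
    exact hm (hsum ▸ Finset.dvd_sum fun χ _ => Dvd.dvd.mul_left (hall χ) _)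
  have hb0 : b χ ≠ 0 := fun e => hχ (e ▸ dvd_zero p)
  have hres := res_eq_smul_of_invariant N χ.2 hϑ (fun g => funext (hinv g))
    (by rw [hb]; exact_mod_cast hb0)
  rw [hb] at hres
  obtain ⟨d, ρ, hρ, hρe⟩ := id hϑ
  have hdvd : b χ ∣ N.index := multiplicity_dvd_index N ρ (fun g n => by
      rw [hρe]
      refine Eq.trans (congrArg ϑ (Subtype.ext ?_)) (hinv g n)
      exact MulAut.conjNormal_apply g n) χ.2 (hρe.symm ▸ hres)
  obtain ⟨k, hk⟩ := hind
  obtain ⟨j, -, hj⟩ := (Nat.dvd_prime_pow hp).mp (hk ▸ hdvd)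
  rcases Nat.eq_zero_or_pos j with rfl | hj0
  · refine ⟨χ, χ.2, fun n => ?_⟩
    have := congrFun hres n
    rwa [hj, pow_zero, Nat.cast_one, one_smul] at this
  · exact absurd (hj ▸ dvd_pow_self p hj0.ne') hχ

end Cfsg.Agent.S0897
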