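import Cfsg.Statements.S0899
import Cfsg.Agent.Lib.CharNormal.ItoCoprime
import Cfsg.Agent.Lib.CharNormal.BlichfeldtHall
import Cfsg.Agent.Lib.Transfer.Abelian
import Cfsg.Agent.S0898

set_option autoImplicit false
open Cfsg

namespace Cfsg.Agent.S0899

open CfsgLib.Char CfsgLib.CharNormal
open scoped commutatorElement

universe u

def AllNormal (p : ℕ) (G : Type u) [Group G] : Prop :=
  ∀ K : Subgroup G, ¬ p ^ 2 ∣ Nat.card K → ∀ Q : Sylow p K, (Q : Subgroup K).Normal

theorem allNormal_subgroup {p : ℕ} [Fact p.Prime] {G : Type u} [Group G] [Finite G]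
    (h : AllNormal p G) (L : Subgroup G) : AllNormal p L := by
  intro K hK Q
  have e := K.equivMapOfInjective L.subtype L.subtype_injective
  have hQ := h (K.map L.subtype) (by rwa [← Nat.card_congr e.toEquiv])
    (Q.mapSurjective (f := e.toMonoidHom) e.surjective)
  have h' := hQ.comap e.toMonoidHom
  have he : ((Q.mapSurjective (f := e.toMonoidHom) e.surjective : Sylow p _) :
      Subgroup (K.map L.subtype)).comap e.toMonoidHom = (Q : Subgroup K) := by
    erw [Sylow.coe_mapSurjective]
    exact Subgroup.comap_map_eq_self_of_injective e.injective _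
  exact he ▸ h'

theorem main (p : ℕ) [hp : Fact p.Prime] : ∀ (m : ℕ) (G : Type u) [Group G] [Finite G],
    Nat.card G = m → ∀ (χ : G → ℂ) (n : ℕ), Cfsg.IsCharacter G χ →
    (∀ g, χ g = χ 1 → g = 1) → χ 1 = n →
    ((n + 1) ^ 2 ≤ p ∨ (n + 1 < p ∧ AllNormal p G)) → ∀ P : Sylow p G, (P : Subgroup G).Normal := by
  intro m
  induction m using Nat.strong_induction_on with
  | _ m ih =>
  intro G _ _ hm χ n hχ hfaith hn hyp P
  classical
  have := Fintype.ofFinite G
  by_contra hP
  by_cases hn0 : n = 0
  · refine hP ?_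
    have h1 : ∀ g : G, g = 1 := fun g => hfaith g (by
      have := norm_char_le hχ g
      rw [hn, hn0, Nat.cast_zero, Complex.zero_re, norm_le_zero_iff] at this
      rw [this, hn, hn0, Nat.cast_zero])
    exact ⟨fun a ha g => by rwa [h1 g, one_mul, inv_one, mul_one]⟩
  have hnp : n + 1 < p := by
    rcases hyp with h | h
    · have : 1 ≤ n := by omega
      nlinarith
    · exact h.1
  -- proper subgroups have normal Sylow subgroups
  have hsub : ∀ L : Subgroup G, L ≠ ⊤ → ∀ Q : Sylow p L, (Q : Subgroup L).Normal := fun L hL =>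
    ih (Nat.card L) (hm ▸ lt_of_le_of_ne L.card_le_card_group fun e => hL (L.eq_top_of_card_eq e))
      L rfl (fun g : L => χ g) n (isCharacter_res L hχ) (fun g h => Subtype.ext (hfaith _ h)) hn
      (hyp.imp_right fun h => ⟨h.1, allNormal_subgroup h.2 L⟩)
  have hgen : ∀ M : Subgroup G, M.Normal → (P : Subgroup G) ≤ M → M = ⊤ := by
    intro M hM hPM
    by_contra hne
    have hQ := hsub M hne (P.subtype hPM)
    have hchar := (P.subtype hPM).characteristic_of_normal hQ
    have h2 : ((P.subtype hPM : Subgroup M).map M.subtype).Normal := inferInstance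
    rw [Sylow.coe_subtype, Subgroup.map_subgroupOf_eq_of_le hPM] at h2
    exact hP h2
  have hsylab : ∀ (S : Sylow p G), ∀ a ∈ (S : Subgroup G), ∀ b ∈ (S : Subgroup G),
      a * b = b * a := by
    intro S a ha b hb
    have := comm_of_faithful_small (isCharacter_res (S : Subgroup G) hχ)
      (fun g h => Subtype.ext (hfaith _ h)) hn (fun q hq hqd => by
        obtain ⟨i, hi⟩ := IsPGroup.iff_card.mp S.isPGroup'
        rw [hi] at hqd
        rw [(Nat.prime_dvd_prime_iff_eq hq hp.out).mp (hq.dvd_of_dvd_pow hqd)]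
        omega) ⟨a, ha⟩ ⟨b, hb⟩
    exact congrArg Subtype.val this
  by_cases hZ : (P : Subgroup G) ⊓ Subgroup.center G = ⊥
  swap
  · -- a central element of order `p`
    have hc : IsMulCommutative (P : Subgroup G) :=
      ⟨⟨fun a b => Subtype.ext (hsylab P a a.2 b b.2)⟩⟩
    have hfoc := CfsgLib.Transfer.inf_commutator_inf_center (P : Subgroup G) hc P.card_coprime_index
    have hD : commutator G ≠ ⊤ := by
      intro e
      rw [e, inf_top_eq] at hfoc
      exact hZ hfoc
    have hKP : (commutator G ⊔ (P : Subgroup G)).Normal := by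
      refine ⟨fun x hx g => ?_⟩
      rw [show g * x * g⁻¹ = ⁅g, x⁆ * x by rw [commutatorElement_def]; group]
      exact mul_mem (Subgroup.mem_sup_left
        (Subgroup.commutator_mem_commutator (Subgroup.mem_top g) (Subgroup.mem_top x))) hx
    have htop := hgen _ hKP le_sup_right
    obtain ⟨R⟩ := (inferInstance : Nonempty (Sylow p (commutator G)))
    have hR := hsub _ hD R
    have hRc := R.characteristic_of_normal hR
    set R' := (R : Subgroup (commutator G)).map (commutator G).subtype with hR'
    have hR'n : R'.Normal := inferInstance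
    have hR'P : R' ≤ (P : Subgroup G) := by
      obtain ⟨S, hS⟩ := (R.isPGroup'.map (commutator G).subtype).exists_le_sylow
      obtain ⟨g, hg⟩ := MulAction.exists_smul_eq G S P
      intro x hx
      rw [← hg, Sylow.coe_subgroup_smul]
      have hx' := hR'n.conj_mem x hx g⁻¹
      rw [inv_inv] at hx'
      exact ⟨g⁻¹ * x * g, hS hx', by simp [mul_assoc]⟩
    have hcent : (P : Subgroup G) ≤ Subgroup.centralizer (R' : Set G) := fun x hx =>
      Subgroup.mem_centralizer_iff.mpr fun r hr => hsylab P r (hR'P hr) x hx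
    have hR'z : R' ≤ Subgroup.center G := by
      have h := hgen _ inferInstance hcent
      intro r hr
      rw [Subgroup.mem_center_iff]
      intro g
      exact (Subgroup.mem_centralizer_iff.mp (h.ge (Subgroup.mem_top g)) r hr).symm
    have hbot : R' = ⊥ := by
      rw [eq_bot_iff, ← hfoc]
      exact le_inf (le_inf hR'P (Subgroup.map_subtype_le _)) hR'z
    have hpD : ¬ p ∣ Nat.card (commutator G) := by
      intro h
      have h1 : Nat.card R' = Nat.card R :=
        Subgroup.card_map_of_injective (commutator G).subtype_injective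
      rw [hbot, Subgroup.card_bot, R.card_eq_multiplicity] at h1
      have h' := (hp.out.dvd_iff_one_le_factorization Nat.card_pos.ne').mp h
      rcases Nat.pow_eq_one.mp h1.symm with h'' | h''
      · exact hp.out.one_lt.ne' h''
      · omega
    rcases sylow_normal_or_extreme hχ hfaith hn hnp.le P hpD hKP with h | h
    · exact hP h
    · omega
  -- a nonlinear constituent not trivial on `P`
  obtain ⟨c, hc, hci⟩ := char_decomp hχ
  obtain ⟨ψ, hψ0, hψ1, hψP⟩ : ∃ ψ : Cfsg.IrrCharacter G, c ψ ≠ 0 ∧ (ψ : G → ℂ) 1 ≠ 1 ∧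
      ∃ h ∈ (P : Subgroup G), (ψ : G → ℂ) h ≠ (ψ : G → ℂ) 1 := by
    by_contra hall
    push Not at hall
    refine hP ?_
    have hbot : (P : Subgroup G) = ⊥ := by
      rw [eq_bot_iff, ← hZ]
      refine fun a ha => Subgroup.mem_inf.mpr ⟨ha, Subgroup.mem_center_iff.mpr fun g => ?_⟩
      refine (commutatorElement_eq_one_iff_mul_comm.mp (hfaith ⁅g, a⁆ ?_))
      rw [hc]
      simp only [Finset.sum_apply, Pi.smul_apply, smul_eq_mul]
      refine Finset.sum_congr rfl fun ψ _ => ?_
      by_cases h0 : c ψ = 0
      · simp [h0]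
      congr 1
      by_cases h1 : (ψ : G → ℂ) 1 = 1
      · have hm := linear_map_mul (isCharacter_of_isIrr ψ.2) h1
        rw [commutatorElement_def, hm (g * a * g⁻¹), isClassFunction_of_isIrr ψ.2, ← hm,
          mul_inv_cancel]
      · refine mem_charKer.mp (?_ : ⁅g, a⁆ ∈ charKer (isCharacter_of_isIrr ψ.2))
        have ha' : a ∈ charKer (isCharacter_of_isIrr ψ.2) := mem_charKer.mpr (hall ψ h0 h1 a ha)
        rw [commutatorElement_def]
        exact mul_mem ((charKer_normal (isCharacter_of_isIrr ψ.2)).conj_mem a ha' g) (inv_mem ha')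
    rw [hbot]; infer_instance
  have hone : ∀ g : G, g ∉ Subgroup.center G → ∀ a b : G,
      Subgroup.centralizer ({g} : Set G) ⊓ (P : Subgroup G).map (MulAut.conj a).toMonoidHom ≠ ⊥ →
      Subgroup.centralizer ({g} : Set G) ⊓ (P : Subgroup G).map (MulAut.conj b).toMonoidHom ≠ ⊥ →
      (P : Subgroup G).map (MulAut.conj a).toMonoidHom =
        (P : Subgroup G).map (MulAut.conj b).toMonoidHom := by
    intro g hg a b ha hb
    set C := Subgroup.centralizer ({g} : Set G) with hC
    have hCtop : C ≠ ⊤ := fun e => hg (Subgroup.mem_center_iff.mpr fun x =>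
      Subgroup.mem_centralizer_singleton_iff.mp (e.ge (Subgroup.mem_top x)))
    obtain ⟨R⟩ := (inferInstance : Nonempty (Sylow p C))
    have hR := hsub _ hCtop R
    obtain ⟨S, hS⟩ := (R.isPGroup'.map C.subtype).exists_le_sylow
    have huniq : ∀ a : G, C ⊓ (P : Subgroup G).map (MulAut.conj a).toMonoidHom ≠ ⊥ →
        (P : Subgroup G).map (MulAut.conj a).toMonoidHom = (S : Subgroup G) := by
      intro a ha
      obtain ⟨⟨u, hu⟩, hu1'⟩ := (Subgroup.ne_bot_iff_exists_ne_one).mp ha
      have hu1 : u ≠ 1 := fun h => hu1' (Subtype.ext h)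
      obtain ⟨huC, w, hw, hwu⟩ := Subgroup.mem_inf.mp hu
      have huS : u ∈ (S : Subgroup G) := by
        refine hS ⟨⟨u, huC⟩, ?_, rfl⟩
        have hup : IsPGroup p (Subgroup.zpowers (⟨u, huC⟩ : C)) := by
          obtain ⟨k, hk⟩ := IsPGroup.iff_orderOf.mp P.isPGroup' ⟨w, hw⟩
          refine IsPGroup.of_card (n := k) ?_
          rw [Nat.card_zpowers, Subgroup.orderOf_mk, ← hwu]
          rw [Subgroup.orderOf_mk] at hk
          rw [← hk]
          exact orderOf_injective _ (MulEquiv.injective _) w
        obtain ⟨R₁, hR₁⟩ := hup.exists_le_sylow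
        have := Sylow.unique_of_normal R hR
        rw [Subsingleton.elim R R₁]
        exact hR₁ (Subgroup.mem_zpowers _)
      set U := Subgroup.centralizer ({u} : Set G) with hU
      have hUtop : U ≠ ⊤ := by
        intro e
        refine hu1 ?_
        have huz : u ∈ Subgroup.center G := Subgroup.mem_center_iff.mpr fun x =>
          Subgroup.mem_centralizer_singleton_iff.mp (e.ge (Subgroup.mem_top x))
        have hwz : w ∈ Subgroup.center G := by
          have hw' : w = u := by
            have e1 : a * w * a⁻¹ = u := hwu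
            calc w = a⁻¹ * (a * w * a⁻¹) * a := by group
              _ = a⁻¹ * u * a := by rw [e1]
              _ = u := by rw [mul_assoc, ← Subgroup.mem_center_iff.mp huz a, inv_mul_cancel_left]
          rwa [hw']
        have hw1 : w = 1 :=
          (Subgroup.eq_bot_iff_forall _).mp hZ w (Subgroup.mem_inf.mpr ⟨hw, hwz⟩)
        rw [← hwu, hw1, map_one]
      have hPU : ((MulAction.toPerm (MulAut.conj a) : Equiv.Perm G) '' (P : Set G)) ⊆ U := by
        rintro _ ⟨x, hx, rfl⟩
        refine Subgroup.mem_centralizer_singleton_iff.mpr ?_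
        rw [← hwu]
        show a * x * a⁻¹ * (a * w * a⁻¹) = a * w * a⁻¹ * (a * x * a⁻¹)
        have := hsylab P x hx w hw
        calc a * x * a⁻¹ * (a * w * a⁻¹) = a * (x * w) * a⁻¹ := by group
          _ = a * (w * x) * a⁻¹ := by rw [this]
          _ = a * w * a⁻¹ * (a * x * a⁻¹) := by group
      have hPU' : ((a • P : Sylow p G) : Subgroup G) ≤ U := by
        rw [Sylow.coe_subgroup_smul]
        rintro _ ⟨x, hx, rfl⟩
        exact hPU ⟨x, hx, rfl⟩
      have hSU : (S : Subgroup G) ≤ U := fun x hx =>
        Subgroup.mem_centralizer_singleton_iff.mpr (hsylab S x hx u huS)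
      have := Sylow.unique_of_normal ((a • P).subtype hPU') (hsub _ hUtop _)
      have heq := congrArg (fun T : Sylow p U => (T : Subgroup U).map U.subtype)
        (Subsingleton.elim ((a • P).subtype hPU') (S.subtype hSU))
      simp only [Sylow.coe_subtype] at heq
      rw [Subgroup.map_subgroupOf_eq_of_le hPU', Subgroup.map_subgroupOf_eq_of_le hSU,
        Sylow.coe_subgroup_smul] at heq
      exact heq
    rw [huniq a ha, huniq b hb]
  have := Fintype.ofFinite (P : Subgroup G)
  have hbound := (Cfsg.Agent.S0898.result (P : Subgroup G) (hsylab P) hZ hone ψ.1 ψ.2 hψP).2 hψ1 hgen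
  obtain ⟨d, hd0, hd⟩ := exists_degree_pos ψ.2
  have hdn : d ≤ n := by
    have h := constituent_degree_le hχ ψ.2 (by rw [hci]; exact_mod_cast hψ0)
    rw [hn, hd, Complex.natCast_re, Complex.natCast_re] at h
    exact_mod_cast h
  rw [hd, Complex.natCast_re] at hbound
  have hb : Nat.card (P : Subgroup G) < (1 + d) ^ 2 := by exact_mod_cast hbound
  have hPpos : 1 ≤ (Nat.card G).factorization p := by
    by_contra h0
    refine hP ?_
    have hcard : Nat.card (P : Subgroup G) = 1 := by
      rw [P.card_eq_multiplicity, show (Nat.card G).factorization p = 0 by omega, pow_zero]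
    rw [Subgroup.card_eq_one.mp hcard]; infer_instance
  rw [P.card_eq_multiplicity] at hb
  have hd2 : (1 + d) ^ 2 ≤ (n + 1) ^ 2 := Nat.pow_le_pow_left (by omega) 2
  rcases hyp with h | ⟨-, h⟩
  · have : p ≤ p ^ (Nat.card G).factorization p := Nat.le_self_pow (by omega) p
    omega
  · by_cases hsq : p ^ 2 ∣ Nat.card G
    · have h2 : p ^ 2 ≤ p ^ (Nat.card G).factorization p :=
        Nat.pow_le_pow_right hp.out.pos
          ((hp.out.pow_dvd_iff_le_factorization Nat.card_pos.ne').mp hsq)
      have : (n + 1) ^ 2 < p ^ 2 := Nat.pow_lt_pow_left hnp two_ne_zero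
      omega
    · have hQ := h ⊤ (by rwa [Subgroup.card_top]) (P.subtype le_top)
      rw [Sylow.coe_subtype] at hQ
      have h3 := hQ.map (⊤ : Subgroup G).subtype (fun x => ⟨⟨x, Subgroup.mem_top x⟩, rfl⟩)
      rw [Subgroup.map_subgroupOf_eq_of_le le_top] at h3
      exact hP h3

/-- Let G be a finite group with a faithful complex representation of degree n (on Fin n → ℂ) and p a prime. Suppose either that (n + 1) ^ 2 ≤ p, or that n + 1 < p and every subgroup of G whose order is not divisible by p ^ 2 has a normal Sylow p-subgroup. Then every Sylow p-subgroup of G is normal. -/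
theorem result {G : Type*} [Group G] [Finite G] (n : ℕ) (ρ : Representation ℂ G (Fin n → ℂ)) (hρ : Function.Injective ρ) (p : ℕ) [Fact p.Prime] (h : (n + 1) ^ 2 ≤ p ∨ (n + 1 < p ∧ ∀ K : Subgroup G, ¬ p ^ 2 ∣ Nat.card K → ∀ Q : Sylow p K, (Q : Subgroup K).Normal)) (P : Sylow p G) : (P : Subgroup G).Normal := by
  refine main p (Nat.card G) G rfl ρ.character n (isCharacter_char ρ) (fun g hg => ?_) ?_ h P
  · refine hρ ?_
    rw [map_one, Module.End.one_eq_id]
    refine (character_eq_degree_iff ρ g).mp ?_
    rw [hg, Representation.char_one]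
  · rw [Representation.char_one, Module.finrank_fin_fun]

end Cfsg.Agent.S0899
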