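import Cfsg.Statements.S0900
import Cfsg.Agent.Lib.Char.Ito

set_option autoImplicit false
open Cfsg

namespace Cfsg.Agent.S0900

open CfsgLib.Char CfsgLib.CharNormal
open scoped ComplexConjugate

/-- Let N be a normal subgroup of the finite group G, χ an irreducible character of G and ϑ an irreducible character of N having nonzero inner product with the restriction of χ. Consider: (a) the restriction of χ to N is e • ϑ for a natural number e with e ^ 2 equal to the index of N; (b) χ vanishes outside N and ϑ is invariant under conjugation by G; (c) ϑ is invariant and every irreducible character of G having nonzero inner product with the function induced from ϑ equals χ. Then (a) ↔ (b) and (a) ↔ (c). -/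
theorem result {G : Type*} [Group G] [Fintype G] (N : Subgroup G) [hN : N.Normal] [Fintype N] (χ : G → ℂ) (hχ : Cfsg.IsIrrCharacter G χ) (ϑ : N → ℂ) (hϑ : Cfsg.IsIrrCharacter N ϑ) (hcon : Cfsg.classInner (fun n : N => χ n) ϑ ≠ 0) : ((∃ e : ℕ, (fun n : N => χ n) = (e : ℂ) • ϑ ∧ e ^ 2 = N.index) ↔ ((∀ g : G, g ∉ N → χ g = 0) ∧ ∀ (g : G) (n : N), ϑ ⟨g * n * g⁻¹, hN.conj_mem (n : G) n.2 g⟩ = ϑ n)) ∧ ((∃ e : ℕ, (fun n : N => χ n) = (e : ℂ) • ϑ ∧ e ^ 2 = N.index) ↔ (∀ (g : G) (n : N), ϑ ⟨g * n * g⁻¹, hN.conj_mem (n : G) n.2 g⟩ = ϑ n ∧ ∀ ψ : G → ℂ, Cfsg.IsIrrCharacter G ψ → Cfsg.classInner (Cfsg.indFun N ϑ) ψ ≠ 0 → ψ = χ)) := by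
  classical
  have hconv : ∀ g, (∀ n : N, ϑ ⟨g * n * g⁻¹, hN.conj_mem (n : G) n.2 g⟩ = ϑ n) ↔
      CfsgLib.CharNormal.conjFun N g ϑ = ϑ :=
    fun g => ⟨fun h => funext fun n => h n, fun h n => congrFun h n⟩
  simp only [hconv]
  set r : N → ℂ := fun n => χ n with hr
  obtain ⟨m, hm⟩ := classInner_char_nat (isCharacter_res N (isCharacter_of_isIrr hχ))
    (isCharacter_of_isIrr hϑ)
  change Cfsg.classInner r ϑ = m at hm
  have hm0 : m ≠ 0 := fun h => hcon (by rw [hm, h, Nat.cast_zero])
  have hcard : (Nat.card G : ℂ) = N.index * Nat.card N := by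
    exact_mod_cast N.index_mul_card.symm
  have he : ∀ e : ℕ, r = (e : ℂ) • ϑ → m = e := by
    intro e h
    have : (m : ℂ) = e := by rw [← hm, h, classInner_smul_left, classInner_irr_self hϑ, mul_one]
    exact_mod_cast this
  have hnorm : r = (m : ℂ) • ϑ →
      ((∀ g : G, g ∉ N → χ g = 0) ↔ m ^ 2 = N.index) := by
    intro h
    have h1 : ∑ g : G, χ g * conj (χ g) = Nat.card G := by
      rw [← card_mul_classInner, classInner_irr_self hχ, mul_one]
    have h2 : ∑ n : N, χ n * conj (χ n) = (m : ℂ) ^ 2 * Nat.card N := by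
      rw [← card_mul_classInner r r, h, classInner_smul_left, classInner_smul_right,
        classInner_irr_self hϑ, map_natCast]
      ring
    rw [Finset.sum_congr rfl fun g _ => Complex.mul_conj (χ g)] at h1
    rw [Finset.sum_congr rfl fun (n : N) _ => Complex.mul_conj (χ n)] at h2
    norm_cast at h1 h2
    have h3 := Finset.sum_filter_add_sum_filter_not Finset.univ (· ∈ N) (fun g => Complex.normSq (χ g))
    rw [Finset.sum_subtype (p := (· ∈ N)) (F := inferInstance) _ (fun x => by simp), h2, h1,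
      ← N.index_mul_card] at h3
    have hN0 : (Nat.card N : ℝ) ≠ 0 := by exact_mod_cast Nat.card_pos.ne'
    have key : ∑ g ∈ Finset.univ.filter (· ∉ N), Complex.normSq (χ g) = 0 ↔ m ^ 2 = N.index := by
      push_cast at h3
      constructor
      · intro h0
        rw [h0, add_zero] at h3
        exact_mod_cast mul_right_cancel₀ hN0 h3
      · intro h0
        have : ((m : ℝ)) ^ 2 = N.index := by exact_mod_cast h0
        rw [this] at h3
        linarith
    rw [← key, Finset.sum_eq_zero_iff_of_nonneg fun _ _ => Complex.normSq_nonneg _]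
    simp [Complex.normSq_eq_zero]
  have hinv : r = (m : ℂ) • ϑ → ∀ g, conjFun N g ϑ = ϑ := by
    intro h g
    have h1 := conjFun_res N (isClassFunction_of_isIrr hχ) g
    change conjFun N g r = r at h1
    rw [h, conjFun_smul] at h1
    exact smul_right_injective _ (Nat.cast_ne_zero.mpr hm0 : (m : ℂ) ≠ 0) h1
  have hres : (∀ g, conjFun N g ϑ = ϑ) → r = (m : ℂ) • ϑ := by
    intro h
    rw [← hm]
    exact res_eq_smul_of_invariant N hχ hϑ h hcon
  have hsum : (∀ g, conjFun N g ϑ = ϑ) →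
      ∑ ψ : Cfsg.IrrCharacter G, Complex.normSq (Cfsg.classInner (Cfsg.indFun N ϑ) ψ) =
        N.index := by
    intro h
    have h1 := card_mul_classInner_indFun_normal N hϑ hϑ
    rw [Nat.card_congr (Equiv.subtypeUnivEquiv h), hcard, mul_comm (N.index : ℂ),
      mul_right_inj' (card_subgroup_ne_zero N), classInner_eq_sum (isClassFunction_indFun N ϑ),
      Finset.sum_congr rfl fun ψ _ => Complex.mul_conj _] at h1
    exact_mod_cast h1
  have hχi : Complex.normSq (Cfsg.classInner (Cfsg.indFun N ϑ) χ) = (m : ℝ) ^ 2 := by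
    rw [frobenius_reciprocity N ϑ (isClassFunction_of_isIrr hχ), ← classInner_conj_symm]
    change Complex.normSq (conj (Cfsg.classInner r ϑ)) = _
    rw [hm, map_natCast, Complex.normSq_natCast, sq]
  have hsplit : (∀ g, conjFun N g ϑ = ϑ) →
      ((∀ ψ : G → ℂ, Cfsg.IsIrrCharacter G ψ →
        Cfsg.classInner (Cfsg.indFun N ϑ) ψ ≠ 0 → ψ = χ) ↔ m ^ 2 = N.index) := by
    intro h
    have h1 := hsum h
    rw [← Finset.add_sum_erase _ _ (Finset.mem_univ (⟨χ, hχ⟩ : Cfsg.IrrCharacter G)), hχi] at h1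
    constructor
    · intro hc
      rw [Finset.sum_eq_zero, add_zero] at h1
      · exact_mod_cast h1
      intro ψ hψ
      rw [Complex.normSq_eq_zero]
      by_contra h0
      exact Finset.ne_of_mem_erase hψ (Subtype.ext (hc ψ ψ.2 h0))
    · intro h0 ψ hψ hne
      have hm2 : ((m : ℝ)) ^ 2 = N.index := by exact_mod_cast h0
      rw [hm2, add_eq_left, Finset.sum_eq_zero_iff_of_nonneg fun _ _ => Complex.normSq_nonneg _]
        at h1
      by_contra hne'
      exact hne (Complex.normSq_eq_zero.mp (h1 ⟨ψ, hψ⟩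
        (Finset.mem_erase.mpr ⟨fun e => hne' (congrArg Subtype.val e), Finset.mem_univ _⟩)))
  refine ⟨⟨?_, ?_⟩, ⟨?_, ?_⟩⟩
  · rintro ⟨e, h, h2⟩
    obtain rfl := he e h
    exact ⟨(hnorm h).mpr h2, hinv h⟩
  · rintro ⟨h1, h2⟩
    exact ⟨m, hres h2, (hnorm (hres h2)).mp h1⟩
  · rintro ⟨e, h, h2⟩ g
    obtain rfl := he e h
    exact fun n => ⟨congrFun (hinv h g) n, (hsplit (hinv h)).mpr h2⟩
  · intro h
    have h1 : ∀ g, conjFun N g ϑ = ϑ := fun g => funext fun n => (h g n).1
    exact ⟨m, hres h1, (hsplit h1).mp (h 1 1).2⟩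

end Cfsg.Agent.S0900
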