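import Cfsg.Statements.S0903
-- import your own Cfsg.Agent.* helpers here

set_option autoImplicit false
open Cfsg

namespace Cfsg.Agent.S0903

/-- Let P be a p-subgroup of the finite group G, let c centralize P and let g, h ∈ G. The number of pairs (x, y) with x conjugate to g, y conjugate to h and x * y = c is congruent modulo p to the number of such pairs in which x and y both centralize P. (This is why the Brauer map on class sums is multiplicative.) -/
theorem result {G : Type*} [Group G] [Finite G] (p : ℕ) [Fact p.Prime] (P : Subgroup G) (hP : IsPGroup p P) (c : G) (hc : c ∈ Subgroup.centralizer (P : Set G)) (g h : G) : Nat.card {xy : G × G // IsConj g xy.1 ∧ IsConj h xy.2 ∧ xy.1 * xy.2 = c} ≡ Nat.card {xy : G × G // IsConj g xy.1 ∧ IsConj h xy.2 ∧ xy.1 * xy.2 = c ∧ xy.1 ∈ Subgroup.centralizer (P : Set G) ∧ xy.2 ∈ Subgroup.centralizer (P : Set G)} [MOD p] := by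
  classical
  set C := {xy : G × G // IsConj g xy.1 ∧ IsConj h xy.2 ∧ xy.1 * xy.2 = c}
  let act : MulAction P C :=
    { smul := fun x z => ⟨((x : G) * z.1.1 * (x : G)⁻¹, (x : G) * z.1.2 * (x : G)⁻¹),
        z.2.1.trans (isConj_iff.mpr ⟨x, rfl⟩), z.2.2.1.trans (isConj_iff.mpr ⟨x, rfl⟩), by
          have hx := Subgroup.mem_centralizer_iff.mp hc x x.2
          calc (x : G) * z.1.1 * (x : G)⁻¹ * ((x : G) * z.1.2 * (x : G)⁻¹)
              = (x : G) * (z.1.1 * z.1.2) * (x : G)⁻¹ := by group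
            _ = c := by rw [z.2.2.2, hx, mul_assoc, mul_inv_cancel, mul_one]⟩
      one_smul := fun z => Subtype.ext (Prod.ext (show ((1 : P) : G) * z.1.1 * ((1 : P) : G)⁻¹ = _ by simp)
        (show ((1 : P) : G) * z.1.2 * ((1 : P) : G)⁻¹ = _ by simp))
      mul_smul := fun x y z => Subtype.ext (Prod.ext
        (show ((x * y : P) : G) * z.1.1 * ((x * y : P) : G)⁻¹ =
            (x : G) * ((y : G) * z.1.1 * (y : G)⁻¹) * (x : G)⁻¹ by push_cast; group)
        (show ((x * y : P) : G) * z.1.2 * ((x * y : P) : G)⁻¹ =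
            (x : G) * ((y : G) * z.1.2 * (y : G)⁻¹) * (x : G)⁻¹ by push_cast; group)) }
  have h1 := hP.card_modEq_card_fixedPoints C
  refine h1.trans ?_
  unfold Nat.ModEq
  refine congrArg (· % p) ?_
  refine Nat.card_congr
    { toFun := fun z => ⟨z.1.1, z.1.2.1, z.1.2.2.1, z.1.2.2.2, ?_, ?_⟩
      invFun := fun z => ⟨⟨z.1, z.2.1, z.2.2.1, z.2.2.2.1⟩, ?_⟩
      left_inv := fun z => rfl
      right_inv := fun z => rfl }
  · rw [Subgroup.mem_centralizer_iff]
    intro x hx
    have := congrArg (fun w : C => w.1.1) (z.2 ⟨x, hx⟩)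
    change x * z.1.1.1 * x⁻¹ = z.1.1.1 at this
    exact mul_inv_eq_iff_eq_mul.mp this
  · rw [Subgroup.mem_centralizer_iff]
    intro x hx
    have := congrArg (fun w : C => w.1.2) (z.2 ⟨x, hx⟩)
    change x * z.1.1.2 * x⁻¹ = z.1.1.2 at this
    exact mul_inv_eq_iff_eq_mul.mp this
  · intro x
    refine Subtype.ext (Prod.ext ?_ ?_)
    · change (x : G) * z.1.1 * (x : G)⁻¹ = z.1.1
      rw [Subgroup.mem_centralizer_iff.mp z.2.2.2.2.1 x x.2, mul_assoc, mul_inv_cancel, mul_one]
    · change (x : G) * z.1.2 * (x : G)⁻¹ = z.1.2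
      rw [Subgroup.mem_centralizer_iff.mp z.2.2.2.2.2 x x.2, mul_assoc, mul_inv_cancel, mul_one]

end Cfsg.Agent.S0903
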