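import Cfsg.Statements.S0905
import Cfsg.Agent.Lib.Cores.Basic
import Cfsg.Agent.Lib.Blocks.Nilpotent
-- import your own Cfsg.Agent.* helpers here

set_option autoImplicit false
open Cfsg

namespace Cfsg.Agent.S0905

/-- Let F be a field of characteristic p and let g be an element of the finite group G no conjugate of which centralizes O_p(G). Then the class sum of g is a nilpotent element of the group algebra F[G]. -/
theorem result {G : Type*} [Group G] [Finite G] (p : ℕ) [Fact p.Prime] (F : Type*) [Field F] [CharP F p] (g : G) (hg : ∀ x : G, IsConj g x → x ∉ Subgroup.centralizer (Cfsg.pCore p G : Set G)) : IsNilpotent (∑ᶠ x ∈ ConjClasses.carrier (ConjClasses.mk g), MonoidAlgebra.single x (1 : F) : MonoidAlgebra F G) := by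
  classical
  let _ := Fintype.ofFinite G
  have hQn : (Cfsg.pCore p G).Normal := Subgroup.sSup_normal _ (fun _ h => h.1)
  refine CfsgLib.Blocks.isNilpotent_of_support (p := p) (Q := Cfsg.pCore p G) (CfsgLib.Cores.isPGroup_pCore p) ?_ ?_
  · rw [CfsgLib.Blocks.mem_center_iff]
    intro x h
    rw [finsum_mem_eq_finite_toFinset_sum _ (Set.toFinite _), MonoidAlgebra.coeff_sum]
    simp only [Finsupp.finsetSum_apply, MonoidAlgebra.coeff_single, Finsupp.single_apply,
      Finset.sum_ite_eq', Set.Finite.mem_toFinset, ConjClasses.mem_carrier_iff_mk_eq,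
      ConjClasses.mk_eq_mk_iff_isConj]
    have hx : IsConj x (h * x * h⁻¹) := isConj_iff.mpr ⟨h, rfl⟩
    exact if_congr ⟨fun e => hx.trans e, fun e => hx.symm.trans e⟩ rfl rfl
  · intro x hx
    rw [finsum_mem_eq_finite_toFinset_sum _ (Set.toFinite _), MonoidAlgebra.coeff_sum]
    simp only [Finsupp.finsetSum_apply, MonoidAlgebra.coeff_single, Finsupp.single_apply,
      Finset.sum_ite_eq', Set.Finite.mem_toFinset, ConjClasses.mem_carrier_iff_mk_eq,
      ConjClasses.mk_eq_mk_iff_isConj]
    exact if_neg (fun e => hg x e.symm hx)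

end Cfsg.Agent.S0905
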