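import Cfsg.Statements.S0914
import Cfsg.Agent.Lib.Blocks.Covering

set_option autoImplicit false
open Cfsg

namespace Cfsg.Agent.S0914

/-- Let χ be an irreducible character of the finite group G, p a prime and M a maximal ideal of the algebraic integers containing p. Then p does not divide the integer (Nat.card G) / χ(1) if and only if the block of χ relative to M consists of χ alone. -/
theorem result {G : Type*} [Group G] [Finite G] (p : ℕ) [Fact p.Prime] (M : Ideal Cfsg.AlgInt) (hM : Cfsg.IsPModular p M) (χ : Cfsg.IrrCharacter G) : ¬ p ∣ Nat.card G / Cfsg.charDegree (χ : G → ℂ) ↔ Cfsg.blockOf M (χ : G → ℂ) = {χ} := by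
  classical
  have := hM.2.1
  have := Fintype.ofFinite G
  refine ⟨CfsgLib.Blocks.blockOf_eq_singleton hM χ, fun hblock => ?_⟩
  have hvan : ∀ g : G, p ∣ orderOf g → (χ : G → ℂ) g = 0 := by
    intro g hg
    have h := CfsgLib.Blocks.weak_orthogonality hM (CfsgLib.Blocks.isPBlock_blockOf χ) (x := 1)
      (y := g) (by rw [orderOf_one]; exact hM.1.not_dvd_one) hg
    simp only [hblock, Set.mem_singleton_iff, Finset.sum_ite_eq', Finset.mem_univ, if_true] at h
    have := (mul_eq_zero.mp h).resolve_left (CfsgLib.Char.irr_one_ne_zero χ.2)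
    simpa using this
  let P : Sylow p G := default
  have := Fintype.ofFinite (P : Subgroup G)
  have hc := CfsgLib.Char.isCharacter_of_isIrr χ.2
  obtain ⟨c, hc'⟩ := CfsgLib.Char.classInner_char_nat
    (CfsgLib.Char.isCharacter_res (P : Subgroup G) hc) (CfsgLib.Char.isCharacter_one (G := (P : Subgroup G)))
  rw [CfsgLib.Char.classInner_def, Finset.sum_eq_single 1] at hc'
  · simp only [OneMemClass.coe_one, map_one, mul_one, ← CfsgLib.CharBlocks.coe_charDegree_irr] at hc'
    rw [inv_mul_eq_iff_eq_mul₀ CfsgLib.Char.card_ne_zero', ← Nat.cast_mul, Nat.cast_inj,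
      P.card_eq_multiplicity] at hc'
    intro hd
    have hdeg := CfsgLib.CharBlocks.charDegree_dvd_card χ.2
    have hm := mul_dvd_mul (⟨c, hc'⟩ : p ^ (Nat.card G).factorization p ∣ Cfsg.charDegree (χ : G → ℂ)) hd
    rw [Nat.mul_div_cancel' hdeg, ← pow_succ] at hm
    exact Nat.pow_succ_factorization_not_dvd Nat.card_pos.ne' hM.1 hm
  · intro x _ hx
    have : p ∣ orderOf (x : G) := by
      rw [Subgroup.orderOf_coe]
      obtain ⟨k, hk⟩ := IsPGroup.iff_orderOf.mp P.2 x
      rw [hk]
      refine dvd_pow_self p (fun h0 => hx (orderOf_eq_one_iff.mp ?_))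
      rw [hk, h0, pow_zero]
    simp [hvan _ this]
  · simp

end Cfsg.Agent.S0914
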