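import Cfsg.Statements.S0918
import Cfsg.Agent.Lib.Blocks.Brauer
-- import your own Cfsg.Agent.* helpers here

set_option autoImplicit false
open Cfsg

namespace Cfsg.Agent.S0918

/-- Let P be a p-subgroup of the finite group G and H a subgroup with P·C_G(P) ≤ H ≤ N_G(P); let b be a block of H and B a block of G relative to a maximal ideal M of the algebraic integers containing p. Then b induces B if and only if, for every g ∈ G, every ξ ∈ b and every χ ∈ B, the central character of χ at g is congruent modulo the local ideal at M to the sum of ξ h / ξ 1 over the elements h of H conjugate in G to g and centralizing P. -/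
theorem result {G : Type*} [Group G] [Finite G] (p : ℕ) [Fact p.Prime] (M : Ideal Cfsg.AlgInt) (hM : Cfsg.IsPModular p M) (P H : Subgroup G) (hP : IsPGroup p P) (hPH : P ≤ H) (hCH : Subgroup.centralizer (P : Set G) ≤ H) (hHN : H ≤ Subgroup.normalizer (P : Set G)) (b : Set (Cfsg.IrrCharacter H)) (hb : Cfsg.IsPBlock M b) (B : Set (Cfsg.IrrCharacter G)) (hB : Cfsg.IsPBlock M B) : Cfsg.IsInducedBlock M H b B ↔ ∀ ξ ∈ b, ∀ χ ∈ B, ∀ g : G, Cfsg.MemLocalIdeal M (Cfsg.brauerCentralChar P H (ξ : H → ℂ) g - Cfsg.centralChar (χ : G → ℂ) g) := by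
  classical
  have := hM.2.1
  let _ := Fintype.ofFinite G
  let _ := Fintype.ofFinite H
  have key : ∀ (ξ : Cfsg.IrrCharacter H) (χ : Cfsg.IrrCharacter G) (g : G),
      Cfsg.MemLocalIdeal M (Cfsg.brauerCentralChar P H (ξ : H → ℂ) g - Cfsg.centralChar (χ : G → ℂ) g) ↔
        Cfsg.MemLocalIdeal M (Cfsg.inducedCentralChar H (ξ : H → ℂ) g - Cfsg.centralChar (χ : G → ℂ) g) := by
    intro ξ χ g
    set t := CfsgLib.Blocks.truncC P hHN (CfsgLib.Blocks.resIn H (CfsgLib.Blocks.zclass M g)) with ht
    have h1 : ((CfsgLib.Blocks.zomega ξ t : CfsgLib.Blocks.locRing M) : ℂ) =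
        Cfsg.brauerCentralChar P H (ξ : H → ℂ) g := by
      rw [Cfsg.brauerCentralChar, finsum_mem_eq_finite_toFinset_sum _ (Set.toFinite _),
        CfsgLib.Blocks.coe_zomega, CfsgLib.Blocks.omega, CfsgLib.Blocks.charLin_apply, Finset.sum_div]
      simp only [ht, CfsgLib.Blocks.truncC, CfsgLib.Blocks.resIn, AddMonoidHom.coe_mk, ZeroHom.coe_mk,
        CfsgLib.Blocks.coeff_ofFun, CfsgLib.Blocks.coe_zclass, CfsgLib.Blocks.classSum_coeff]
      symm
      refine Finset.sum_subset_zero_on_sdiff (Finset.subset_univ _) ?_ ?_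
      · intro h hh
        simp only [Finset.mem_sdiff, Finset.mem_univ, Set.Finite.mem_toFinset, Set.mem_ofPred_eq,
          true_and, not_and'] at hh
        split_ifs with h2 h3
        · exact absurd h3 (hh h2)
        · simp
        · simp
      · intro h hh
        simp only [Set.Finite.mem_toFinset, Set.mem_ofPred_eq] at hh
        rw [if_pos hh.2, if_pos hh.1, one_mul]
    rw [← CfsgLib.Blocks.indBomega_zclass_eq_iff, ← h1, ← CfsgLib.Blocks.coe_zomega_zclass (M := M),
      CfsgLib.Blocks.memLocalIdeal_sub_iff, ← CfsgLib.Blocks.bomega_apply, ← CfsgLib.Blocks.bomega_apply, ht,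
      CfsgLib.Blocks.bomega_truncC hM hP hPH hHN]
    rfl
  simp only [key, Cfsg.IsInducedBlock, hb, hB, true_and]

end Cfsg.Agent.S0918
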