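import Cfsg.Statements.S0928
import Cfsg.Agent.Lib.Blocks.Knorr

set_option autoImplicit false
open Cfsg

namespace Cfsg.Agent.S0928

/-- Let χ be an irreducible character of the finite group G and p a prime. If χ g = 0 for every element g of order p, then the exponent of p in the degree χ(1) equals the exponent of p in the order of G (χ has p-defect zero). -/
theorem result {G : Type*} [Group G] [Finite G] (p : ℕ) [Fact p.Prime] (χ : Cfsg.IrrCharacter G) (hvan : ∀ g : G, orderOf g = p → (χ : G → ℂ) g = 0) : (Cfsg.charDegree (χ : G → ℂ)).factorization p = (Nat.card G).factorization p := by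
  classical
  have := Fintype.ofFinite G
  obtain ⟨M, hM⟩ := CfsgLib.Blocks.exists_isPModular (Fact.out : p.Prime)
  have := hM.2.1
  have h := CfsgLib.Blocks.Knorr.not_dvd_div_degree (M := M) χ hM hvan
  have hd := CfsgLib.CharBlocks.charDegree_dvd_card χ.2
  have hd0 : Cfsg.charDegree (χ : G → ℂ) ≠ 0 := (CfsgLib.CharBlocks.charDegree_pos χ.2).ne'
  obtain ⟨e, he⟩ := hd
  rw [he, Nat.mul_div_cancel_left _ (Nat.pos_of_ne_zero hd0)] at h
  have he0 : e ≠ 0 := fun h0 => h (h0 ▸ dvd_zero p)
  rw [he, Nat.factorization_mul hd0 he0, Finsupp.add_apply, Nat.factorization_eq_zero_of_not_dvd h,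
    add_zero]

end Cfsg.Agent.S0928
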