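import Cfsg.Statements.S0933
import Cfsg.Agent.Lib.Blocks.Induced

set_option autoImplicit false
open Cfsg

namespace Cfsg.Agent.S0933

/-- Let H be a subgroup of the finite group G and ξ an irreducible character of H such that the induced function ξ^G is an irreducible character of G. Then, relative to any maximal ideal M of the algebraic integers containing the prime p, the block of ξ induces the block of ξ^G. -/
theorem result {G : Type*} [Group G] [Fintype G] (p : ℕ) [Fact p.Prime] (M : Ideal Cfsg.AlgInt) (hM : Cfsg.IsPModular p M) (H : Subgroup G) (ξ : Cfsg.IrrCharacter H) (hind : Cfsg.IsIrrCharacter G (Cfsg.indFun H (ξ : H → ℂ))) : Cfsg.IsInducedBlock M H (Cfsg.blockOf M (ξ : H → ℂ)) (Cfsg.blockOf M (Cfsg.indFun H (ξ : H → ℂ))) := by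
  have := hM.2.1
  have := Fintype.ofFinite H
  refine ⟨CfsgLib.Blocks.isPBlock_blockOf ξ, ⟨⟨_, hind⟩, rfl⟩, fun ξ' hξ' χ hχ g => ?_⟩
  have h1 := CfsgLib.Blocks.icc_congr_of_sameBlock H
    ((CfsgLib.Blocks.sameBlock_iff ξ' ξ).mpr
      ((CfsgLib.Blocks.sameBlock_iff ξ ξ').mp hξ').symm) g
  have h2 : Cfsg.MemLocalIdeal M (Cfsg.centralChar (Cfsg.indFun H (ξ : H → ℂ)) g -
      Cfsg.centralChar (χ : G → ℂ) g) := hχ g
  rw [← CfsgLib.Blocks.icc_eq_centralChar_indFun] at h2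
  have e : ∀ (ζ : Cfsg.IrrCharacter H), Cfsg.inducedCentralChar H (ζ : H → ℂ) g ∈ CfsgLib.Blocks.locRing M :=
    fun ζ => CfsgLib.Blocks.icc_mem_locRing H M ζ g
  have ec : Cfsg.centralChar (χ : G → ℂ) g ∈ CfsgLib.Blocks.locRing M :=
    CfsgLib.Blocks.algInt_le_locRing M (CfsgLib.Blocks.isIntegral_centralChar χ.2 g)
  rw [CfsgLib.Blocks.memLocalIdeal_sub_iff (x := ⟨_, e ξ'⟩) (y := ⟨_, e ξ⟩)] at h1
  rw [CfsgLib.Blocks.memLocalIdeal_sub_iff (x := ⟨_, e ξ⟩) (y := ⟨_, ec⟩)] at h2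
  exact (CfsgLib.Blocks.memLocalIdeal_sub_iff (x := ⟨_, e ξ'⟩) (y := ⟨_, ec⟩)).mpr (h1.trans h2)

end Cfsg.Agent.S0933
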