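import Cfsg.Statements.S0938
import Cfsg.Agent.Lib.Blocks.Covering

set_option autoImplicit false
open Cfsg

namespace Cfsg.Agent.S0938

/-- Let B be a block of the finite group G relative to a maximal ideal M of the algebraic integers containing the prime p, and let χ ∈ B. Then the kernel of B (the set of g with ψ g = ψ 1 for all ψ ∈ B) is a normal subgroup of order prime to p contained in the kernel of χ, and it contains every normal subgroup of order prime to p on which χ takes the value χ(1); that is, it is O_p' of the kernel of χ. -/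
theorem result {G : Type*} [Group G] [Finite G] (p : ℕ) [Fact p.Prime] (M : Ideal Cfsg.AlgInt) (hM : Cfsg.IsPModular p M) (B : Set (Cfsg.IrrCharacter G)) (hB : Cfsg.IsPBlock M B) (χ : Cfsg.IrrCharacter G) (hχ : χ ∈ B) : ∃ K : Subgroup G, K.Normal ∧ (K : Set G) = Cfsg.blockKer B ∧ ¬ p ∣ Nat.card K ∧ (∀ g ∈ K, (χ : G → ℂ) g = (χ : G → ℂ) 1) ∧ ∀ N : Subgroup G, N.Normal → ¬ p ∣ Nat.card N → (∀ g ∈ N, (χ : G → ℂ) g = (χ : G → ℂ) 1) → N ≤ K := by
  classical
  have := hM.2.1
  have := Fintype.ofFinite G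
  let K : Subgroup G := ⨅ ψ ∈ B,
    CfsgLib.CharNormal.charKer (CfsgLib.Char.isCharacter_of_isIrr (Subtype.prop ψ : IsIrrCharacter G (ψ : G → ℂ)))
  have hmem : ∀ g, g ∈ K ↔ g ∈ Cfsg.blockKer B := fun g => by
    simp [K, Subgroup.mem_iInf, CfsgLib.CharNormal.mem_charKer, Cfsg.blockKer]
  refine ⟨K, ⟨fun g hg c => ?_⟩, Set.ext hmem, fun hdvd => ?_, fun g hg => (hmem g).mp hg χ hχ,
    fun N hN hpN hker => ?_⟩
  · rw [hmem] at hg ⊢
    intro ψ hψ
    rw [CfsgLib.Char.isClassFunction_of_isIrr ψ.2 g c]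
    exact hg ψ hψ
  · obtain ⟨x, hx⟩ := exists_prime_orderOf_dvd_card' p hdvd
    have hx' : p ∣ orderOf (x : G) := by rw [Subgroup.orderOf_coe, hx]
    have horth := CfsgLib.Blocks.weak_orthogonality hM hB (x := 1) (y := (x : G))
      (by rw [orderOf_one]; exact hM.1.not_dvd_one) hx'
    have hK : ∀ η ∈ B, (η : G → ℂ) (x : G) = (η : G → ℂ) 1 := fun η hη => (hmem _).mp x.2 η hη
    have hnat : ∀ η : Cfsg.IrrCharacter G,
        (if η ∈ B then (η : G → ℂ) 1 * (starRingEnd ℂ) ((η : G → ℂ) (x : G)) else 0) =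
          (((if η ∈ B then Cfsg.charDegree (η : G → ℂ) ^ 2 else 0) : ℕ) : ℂ) := by
      intro η
      split_ifs with h
      · rw [hK η h, CfsgLib.Char.char_conj_one (CfsgLib.Char.isCharacter_of_isIrr η.2),
          Nat.cast_pow, CfsgLib.CharBlocks.coe_charDegree_irr, sq]
      · simp
    rw [Finset.sum_congr rfl (fun η _ => hnat η), ← Nat.cast_sum, Nat.cast_eq_zero,
      Finset.sum_eq_zero_iff] at horth
    have := horth χ (Finset.mem_univ χ)
    rw [if_pos hχ] at this
    exact (CfsgLib.CharBlocks.charDegree_pos χ.2).ne' (pow_eq_zero_iff two_ne_zero |>.mp this)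
  · intro n hn
    rw [hmem]
    intro ψ hψ
    have := Fintype.ofFinite N
    exact CfsgLib.Blocks.trivialOn_of_sameBlock hM hpN
      ((CfsgLib.Blocks.sameBlock_iff χ ψ).mpr (CfsgLib.Blocks.bomega_eq_of_mem hB hχ hψ)) hker n hn

end Cfsg.Agent.S0938
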