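import Cfsg.Statements.S0940
import Cfsg.Agent.Lib.Blocks.Kulshammer
-- import your own Cfsg.Agent.* helpers here

set_option autoImplicit false
open Cfsg

namespace Cfsg.Agent.S0940

/-- Let G be a finite group and M a maximal ideal of the algebraic integers containing the prime p. For every p-regular g, the idempotent coefficient of the principal block at g (the inverse of the group order times the sum over χ in the principal block of χ 1 * conj (χ g)) is congruent modulo the local ideal at M to N / R, where N is the number of pairs (x, y) with x of p-power order, y of order prime to p and x * y = g, and R is the number of elements of G of order prime to p. -/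
theorem result {G : Type*} [Group G] [Finite G] (p : ℕ) [Fact p.Prime] (M : Ideal Cfsg.AlgInt) (hM : Cfsg.IsPModular p M) (g : G) (hg : ¬ p ∣ orderOf g) : Cfsg.MemLocalIdeal M (Cfsg.blockCoeff (Cfsg.principalBlock M G) g - (Nat.card {xy : G × G // (∃ k : ℕ, orderOf xy.1 = p ^ k) ∧ ¬ p ∣ orderOf xy.2 ∧ xy.1 * xy.2 = g} : ℂ) / (Nat.card {y : G // ¬ p ∣ orderOf y} : ℂ)) := by
  classical
  have := hM.2.1
  let _ := Fintype.ofFinite G
  have hB : Cfsg.IsPBlock M (Cfsg.principalBlock M G) := ⟨CfsgLib.Char.irrOne, rfl⟩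
  have h := CfsgLib.Blocks.kulshammer hM hB hg
  set R : ℕ := Nat.card {y : G // ¬ p ∣ orderOf y}
  set N : ℕ := Nat.card {xy : G × G // (∃ k : ℕ, orderOf xy.1 = p ^ k) ∧ ¬ p ∣ orderOf xy.2 ∧ xy.1 * xy.2 = g}
  have hR : (R : CfsgLib.Blocks.Res M) ≠ 0 := (CfsgLib.Blocks.principal_regElt_value hM).2
  have hR0 : R ≠ 0 := fun h0 => hR (by rw [h0, Nat.cast_zero])
  have hpR : ¬ p ∣ R := fun hd => hR (by
    rw [← map_natCast (CfsgLib.Blocks.res M)]
    exact (CfsgLib.Blocks.res_natCast_eq_zero_iff M hM _).mpr hd)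
  have hq : (N : ℂ) / (R : ℂ) ∈ CfsgLib.Blocks.locRing M :=
    CfsgLib.Blocks.frac_mem_locRing hM hR0 (.inr (by rw [Nat.factorization_eq_zero_of_not_dvd hpR]; exact Nat.zero_le _))
  set a : CfsgLib.Blocks.locRing M := ⟨_, CfsgLib.Blocks.blockCoeff_mem_locRing hB g⟩
  set b : CfsgLib.Blocks.locRing M := ⟨_, hq⟩
  refine (CfsgLib.Blocks.memLocalIdeal_sub_iff M (x := a) (y := b)).mpr ?_
  have hb : (R : CfsgLib.Blocks.Res M) * CfsgLib.Blocks.res M b = (N : CfsgLib.Blocks.Res M) := by
    rw [← map_natCast (CfsgLib.Blocks.res M), ← map_natCast (CfsgLib.Blocks.res M), ← map_mul]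
    refine congrArg _ (Subtype.ext ?_)
    push_cast
    exact mul_div_cancel₀ _ (Nat.cast_ne_zero.mpr hR0)
  refine mul_left_cancel₀ hR (Eq.trans ?_ hb.symm)
  exact h

end Cfsg.Agent.S0940
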