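import Cfsg.Statements.S0944
import Cfsg.Agent.Lib.CharBlocks.Degree

set_option autoImplicit false
open Cfsg

namespace Cfsg.Agent.S0944

/-- Let χ be an irreducible character of the finite group G and u an involution. Then χ u is a rational integer n with n ≡ χ 1 (mod 2). -/
theorem result {G : Type*} [Group G] [Finite G] (χ : Cfsg.IrrCharacter G) (u : G) (hu : orderOf u = 2) : ∃ n : ℤ, (χ : G → ℂ) u = (n : ℂ) ∧ (2 : ℤ) ∣ (Cfsg.charDegree (χ : G → ℂ) : ℤ) - n := by
  have := Fintype.ofFinite G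
  obtain ⟨d, ρ, hirr, hρ⟩ := χ.2
  obtain ⟨z, hz, hsum⟩ := CfsgLib.Char.exists_roots_char ρ u
  rw [hu] at hz
  have hz' : ∀ i, ∃ s : ℤ, z i = (s : ℂ) ∧ (2 : ℤ) ∣ 1 - s := fun i => by
    rcases sq_eq_one_iff.mp (hz i) with h | h
    · exact ⟨1, by simp [h], by norm_num⟩
    · exact ⟨-1, by simp [h], by norm_num⟩
  choose s hs hs2 using hz'
  refine ⟨∑ i, s i, ?_, ?_⟩
  · rw [← congrFun hρ u, hsum, Int.cast_sum]
    exact Finset.sum_congr rfl fun i _ => hs i
  · rw [CfsgLib.CharBlocks.charDegree_eq (n := Module.finrank ℂ (Fin d → ℂ))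
      (by rw [← congrFun hρ 1, Representation.char_one])]
    have : ((Module.finrank ℂ (Fin d → ℂ) : ℕ) : ℤ) - ∑ i, s i = ∑ i, (1 - s i) := by
      rw [Finset.sum_sub_distrib, Finset.sum_const, Finset.card_univ, Fintype.card_fin, nsmul_one]
    rw [this]
    exact Finset.dvd_sum fun i _ => hs2 i

end Cfsg.Agent.S0944
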