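import Cfsg.Statements.S0947
import Cfsg.Agent.Lib.Blocks.PrincipalSection
-- import your own Cfsg.Agent.* helpers here

set_option autoImplicit false
open Cfsg

namespace Cfsg.Agent.S0947

/-- Let z ≠ 1 be a p-element of the finite group G with centralizer H, and fix a maximal ideal M of the algebraic integers containing p. (i) For every y ∈ H of order prime to p, the sum over ζ in the principal block of G of |ζ (z * y)|² equals the sum over χ in the principal block of H of |χ y|². (ii) If moreover H has a normal p-complement (its largest normal subgroup of order prime to p has p-power index), that common value is the largest power of p dividing the order of H. -/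
theorem result {G : Type*} [Group G] [Finite G] (p : ℕ) [Fact p.Prime] (M : Ideal Cfsg.AlgInt) (hM : Cfsg.IsPModular p M) (z : G) (hz : ∃ k : ℕ, orderOf z = p ^ k) (hz1 : z ≠ 1) (y : Subgroup.centralizer ({z} : Set G)) (hy : ¬ p ∣ orderOf y) : (∑ᶠ ζ ∈ Cfsg.principalBlock M G, ‖(ζ : G → ℂ) (z * (y : G))‖ ^ 2 = ∑ᶠ χ ∈ Cfsg.principalBlock M (Subgroup.centralizer ({z} : Set G)), ‖(χ : Subgroup.centralizer ({z} : Set G) → ℂ) y‖ ^ 2) ∧ ((∃ k : ℕ, (Cfsg.pPrimeCore p (Subgroup.centralizer ({z} : Set G))).index = p ^ k) → ∑ᶠ ζ ∈ Cfsg.principalBlock M G, ‖(ζ : G → ℂ) (z * (y : G))‖ ^ 2 = ((p ^ (Nat.card (Subgroup.centralizer ({z} : Set G))).factorization p : ℕ) : ℝ)) := by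
  classical
  have := hM.2.1
  let _ := Fintype.ofFinite G
  let _ := Fintype.ofFinite (Subgroup.centralizer ({z} : Set G))
  have conv1 : ∀ {K : Type _} [Group K] [Fintype K] (B : Set (Cfsg.IrrCharacter K)) (f : Cfsg.IrrCharacter K → ℂ),
      (((∑ᶠ ζ ∈ B, ‖f ζ‖ ^ 2 : ℝ)) : ℂ) =
        ∑ ζ : Cfsg.IrrCharacter K, if ζ ∈ B then f ζ * (starRingEnd ℂ) (f ζ) else 0 := by
    intro K _ _ B f
    rw [finsum_eq_sum_of_fintype, Complex.ofReal_sum]
    refine Finset.sum_congr rfl fun ζ _ => ?_
    rw [finsum_eq_if]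
    split_ifs
    · rw [Complex.mul_conj']; push_cast; rfl
    · simp
  refine ⟨?_, fun hnc => ?_⟩
  · apply Complex.ofReal_injective
    rw [conv1, conv1]
    exact CfsgLib.Blocks.sum_principal_section hM hz hy
  · apply Complex.ofReal_injective
    rw [conv1, Complex.ofReal_natCast]
    exact CfsgLib.Blocks.sum_principal_section_complement hM hz hnc hy

end Cfsg.Agent.S0947
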