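import Cfsg.Statements.S0955
import Cfsg.Agent.Lib.Cores.Basic
import Cfsg.Agent.Lib.Blocks.FirstMain
-- import your own Cfsg.Agent.* helpers here

set_option autoImplicit false
open Cfsg

namespace Cfsg.Agent.S0955

/-- Let D be a defect group of a block of the finite group G relative to a maximal ideal M of the algebraic integers containing the prime p. Then D is the largest normal p-subgroup of its own normalizer: O_p(N_G(D)) = D. -/
theorem result {G : Type*} [Group G] [Finite G] (p : ℕ) [Fact p.Prime] (M : Ideal Cfsg.AlgInt) (hM : Cfsg.IsPModular p M) (B : Set (Cfsg.IrrCharacter G)) (hB : Cfsg.IsPBlock M B) (D : Subgroup G) (hD : Cfsg.IsDefectGroup p M B D) : (Cfsg.pCore p (Subgroup.normalizer (D : Set G))).map (Subgroup.normalizer (D : Set G)).subtype = D := by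
  classical
  have := hM.2.1
  let _ := Fintype.ofFinite G
  let _ := Fintype.ofFinite ↥(Subgroup.normalizer (D : Set G))
  have hDp : IsPGroup p D := CfsgLib.Blocks.IsDefectGroup.isPGroup hD
  have hDn : (D.subgroupOf (Subgroup.normalizer (D : Set G))).Normal :=
    (Subgroup.normal_subgroupOf_iff_le_normalizer Subgroup.le_normalizer).mpr le_rfl
  have : (Cfsg.pCore p ↥(Subgroup.normalizer (D : Set G))).Normal := Subgroup.sSup_normal _ (fun _ h => h.1)
  obtain ⟨b, ⟨hb, hbD, -⟩, -⟩ := CfsgLib.Blocks.existsUnique_inducing_with_defect hM hDp hB hD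
  have h1 : Cfsg.pCore p ↥(Subgroup.normalizer (D : Set G)) ≤ D.subgroupOf (Subgroup.normalizer (D : Set G)) :=
    CfsgLib.Blocks.normal_le_defect hM hb hbD (CfsgLib.Cores.isPGroup_pCore p)
  have h2 : D.subgroupOf (Subgroup.normalizer (D : Set G)) ≤ Cfsg.pCore p ↥(Subgroup.normalizer (D : Set G)) :=
    CfsgLib.Cores.le_pCore
      (hDp.of_injective (Subgroup.subgroupOfEquivOfLe Subgroup.le_normalizer).toMonoidHom (MulEquiv.injective _))
  rw [le_antisymm h1 h2, Subgroup.map_subgroupOf_eq_of_le Subgroup.le_normalizer]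

end Cfsg.Agent.S0955
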