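import Cfsg.Statements.S0957


set_option autoImplicit false
open Cfsg

namespace Cfsg.Agent.S0957

/-- Let P be a Sylow p-subgroup of the finite group G, let g, h ∈ G and let p ^ d be the order of a Sylow p-subgroup of the centralizer of g. Then the number of pairs (y, z) with y conjugate to g, z conjugate to h and z * y⁻¹ ∈ P is divisible by the order of P divided by p ^ d. -/
theorem result {G : Type*} [Group G] [Finite G] (p : ℕ) [Fact p.Prime] (P : Sylow p G) (g h : G) (S : Sylow p (Subgroup.centralizer ({g} : Set G))) : Nat.card P / Nat.card S ∣ Nat.card {yz : G × G // IsConj g yz.1 ∧ IsConj h yz.2 ∧ yz.2 * yz.1⁻¹ ∈ (P : Subgroup G)} := by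
  classical
  have hp : p.Prime := Fact.out
  let α := {yz : G × G // IsConj g yz.1 ∧ IsConj h yz.2 ∧ yz.2 * yz.1⁻¹ ∈ (P : Subgroup G)}
  let act : MulAction (P : Subgroup G) α :=
    { smul := fun x v => ⟨((x : G) * v.1.1 * (x : G)⁻¹, (x : G) * v.1.2 * (x : G)⁻¹),
        v.2.1.trans (isConj_iff.mpr ⟨x, rfl⟩), v.2.2.1.trans (isConj_iff.mpr ⟨x, rfl⟩), by
          have e : (x : G) * v.1.2 * (x : G)⁻¹ * ((x : G) * v.1.1 * (x : G)⁻¹)⁻¹ =
              (x : G) * (v.1.2 * v.1.1⁻¹) * (x : G)⁻¹ := by group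
          rw [e]
          exact Subgroup.mul_mem _ (Subgroup.mul_mem _ x.2 v.2.2.2) (Subgroup.inv_mem _ x.2)⟩
      one_smul := fun v => Subtype.ext (Prod.ext
        (by
          change ((1 : (P : Subgroup G)) : G) * v.1.1 * ((1 : (P : Subgroup G)) : G)⁻¹ = v.1.1
          simp)
        (by
          change ((1 : (P : Subgroup G)) : G) * v.1.2 * ((1 : (P : Subgroup G)) : G)⁻¹ = v.1.2
          simp))
      mul_smul := fun x y v => Subtype.ext (Prod.ext
        (by
          change ((x * y : (P : Subgroup G)) : G) * v.1.1 * ((x * y : (P : Subgroup G)) : G)⁻¹ =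
            (x : G) * ((y : G) * v.1.1 * (y : G)⁻¹) * (x : G)⁻¹
          simp [mul_assoc])
        (by
          change ((x * y : (P : Subgroup G)) : G) * v.1.2 * ((x * y : (P : Subgroup G)) : G)⁻¹ =
            (x : G) * ((y : G) * v.1.2 * (y : G)⁻¹) * (x : G)⁻¹
          simp [mul_assoc])) }
  have := Fintype.ofFinite α
  have := Fintype.ofFinite (Quotient (MulAction.orbitRel (P : Subgroup G) α))
  have := Fintype.ofFinite (P : Subgroup G)
  show _ ∣ Nat.card α
  rw [Nat.card_congr (MulAction.selfEquivSigmaOrbitsQuotientStabilizer (P : Subgroup G) α),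
    Nat.card_sigma]
  refine Finset.dvd_sum fun ω _ => ?_
  set v : α := ω.out
  set St := MulAction.stabilizer (P : Subgroup G) v
  have hle : St.map (P : Subgroup G).subtype ≤ Subgroup.centralizer ({v.1.1} : Set G) := by
    rintro _ ⟨x, hx, rfl⟩
    rw [Subgroup.mem_centralizer_singleton_iff]
    exact mul_inv_eq_iff_eq_mul.mp (congrArg (fun w : α => w.1.1) hx)
  obtain ⟨i, hi⟩ := IsPGroup.iff_card.mp (P.2.to_subgroup St)
  have hdvd : p ^ i ∣ Nat.card S := by
    refine Sylow.pow_dvd_card_of_pow_dvd_card S ?_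
    obtain ⟨c, hc⟩ := isConj_iff.mp v.2.1
    have hcard : Nat.card (Subgroup.centralizer ({v.1.1} : Set G)) =
        Nat.card (Subgroup.centralizer ({g} : Set G)) := by
      have : Subgroup.centralizer ({v.1.1} : Set G) =
          (Subgroup.centralizer ({g} : Set G)).map (MulAut.conj c).toMonoidHom := by
        ext x
        simp only [Subgroup.mem_map_equiv, MulAut.conj_symm_apply, Subgroup.mem_centralizer_singleton_iff,
          ← hc]
        constructor <;> intro h'
        · calc c⁻¹ * x * c * g = c⁻¹ * (x * (c * g * c⁻¹)) * c := by group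
            _ = c⁻¹ * (c * g * c⁻¹ * x) * c := by rw [h']
            _ = g * (c⁻¹ * x * c) := by group
        · calc x * (c * g * c⁻¹) = c * (c⁻¹ * x * c * g) * c⁻¹ := by group
            _ = c * (g * (c⁻¹ * x * c)) * c⁻¹ := by rw [h']
            _ = c * g * c⁻¹ * x := by group
      rw [this]
      exact (Nat.card_congr (Subgroup.equivMapOfInjective _ _ (MulAut.conj c).injective).toEquiv).symm
    rw [← hcard, ← hi, Nat.card_congr (St.equivMapOfInjective _ (Subgroup.subtype_injective _)).toEquiv]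
    exact Subgroup.card_dvd_of_le hle
  have hSP : Nat.card S ∣ Nat.card P := by
    obtain ⟨j, hj⟩ := IsPGroup.iff_card.mp S.2
    rw [hj]
    exact Sylow.pow_dvd_card_of_pow_dvd_card P (hj ▸ (Subgroup.card_subgroup_dvd_card _).trans
      (Subgroup.card_subgroup_dvd_card _))
  show _ ∣ St.index
  obtain ⟨t, ht⟩ := hdvd
  obtain ⟨u, hu⟩ := hSP
  have hmul := St.index_mul_card
  rw [hi] at hmul
  rw [hu, Nat.mul_div_cancel_left _ Nat.card_pos]
  refine ⟨t, ?_⟩
  refine Nat.eq_of_mul_eq_mul_right (pow_pos hp.pos i) ?_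
  rw [hmul]
  show Nat.card (P : Subgroup G) = _
  rw [hu, ht]
  ring

end Cfsg.Agent.S0957
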