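import Cfsg.Statements.S0961
import Cfsg.Agent.Lib.Char.BrauerInduction
import Cfsg.Agent.Lib.Transfer.Frobenius
import Cfsg.Agent.Lib.OddLocal.Basic

set_option autoImplicit false
open Cfsg

namespace Cfsg.Agent.S0961

/-- Let χ be an irreducible character of the finite group G and let p ^ a be the largest power of the prime p dividing the order of G. Then the function equal to p ^ a * χ x at elements x of order prime to p and to 0 elsewhere is a generalized character (a difference of characters). -/
theorem result {G : Type*} [Group G] [Finite G] (p : ℕ) [Fact p.Prime] (χ : Cfsg.IrrCharacter G) : Cfsg.IsGeneralizedCharacter G (fun x : G => if p ∣ orderOf x then 0 else ((p ^ (Nat.card G).factorization p : ℕ) : ℂ) * (χ : G → ℂ) x) := by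
  classical
  have := Fintype.ofFinite G
  have hp : p.Prime := Fact.out
  set v := (Nat.card G).factorization p with hv
  let f : G → ℂ := fun x => if p ∣ orderOf x then 0 else ((p ^ v : ℕ) : ℂ)
  have hf : Cfsg.IsClassFunction G f := fun x h => by
    have e : orderOf (h * x * h⁻¹) = orderOf x :=
      orderOf_injective (MulAut.conj h).toMonoidHom (MulAut.conj h).injective x
    simp only [f, e]
  suffices hgen : Cfsg.IsGeneralizedCharacter G f by
    have h := CfsgLib.Char.isGen_mul hgen (CfsgLib.Char.isGen_of_irr χ.2)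
    convert h using 1
    funext x
    simp only [f, Pi.mul_apply, ite_mul, zero_mul]
  refine CfsgLib.Char.isGen_of_elementary hf fun E q hq hE => ?_
  have := Fintype.ofFinite E
  have := CfsgLib.Char.isNilpotent_of_isElementary hq hE
  have hpc : Cfsg.HasNormalPComplement p E := by
    refine CfsgLib.Transfer.hasNormalPComplement_of_frobeniusCond ?_
    intro Q hQ g _ hg
    rw [Subgroup.mem_centralizer_iff]
    intro x hx
    obtain ⟨i, hi⟩ := IsPGroup.iff_orderOf.mp hQ ⟨x, hx⟩
    rw [Subgroup.orderOf_mk] at hi
    exact CfsgLib.OddLocal.commute_of_coprime_orderOf x g (hi ▸ hg.symm.pow_left i)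
  obtain ⟨N, hN, hc, k, hk⟩ := CfsgLib.Transfer.hasNormalPComplement_iff.mp hpc
  have := Fintype.ofFinite N
  have hmem : ∀ e : E, e ∈ N ↔ ¬ p ∣ orderOf (e : G) := fun e => by
    rw [CfsgLib.Transfer.mem_iff_coprime_orderOf hc hk, Subgroup.orderOf_coe, Nat.coprime_comm,
      hp.coprime_iff_not_dvd]
  have hkv : k ≤ v := by
    rw [hv, ← hp.pow_dvd_iff_le_factorization Nat.card_pos.ne', ← hk]
    exact (Subgroup.index_dvd_card N).trans (Subgroup.card_subgroup_dvd_card E)
  have hres : (fun e : E => f e) =
      ((p ^ (v - k) : ℤ) : ℂ) • Cfsg.indFun N (fun _ : N => (1 : ℂ)) := by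
    funext e
    rw [Pi.smul_apply, smul_eq_mul, CfsgLib.Char.indFun_apply]
    by_cases he : e ∈ N
    · have hall : ∀ x : E, Cfsg.extendByZero N (fun _ : N => (1 : ℂ)) (x⁻¹ * e * x) = 1 := fun x =>
        CfsgLib.Char.extendByZero_of_mem _ (by simpa using hN.conj_mem e he x⁻¹)
      have hNne : (Nat.card N : ℂ) ≠ 0 := CfsgLib.Char.card_subgroup_ne_zero N
      simp only [f, if_neg ((hmem e).mp he), hall, Finset.sum_const, Finset.card_univ,
        ← Nat.card_eq_fintype_card, nsmul_one]
      rw [← N.index_mul_card, hk]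
      push_cast
      field_simp
      rw [← pow_add, Nat.sub_add_cancel hkv]
    · have hall : ∀ x : E, Cfsg.extendByZero N (fun _ : N => (1 : ℂ)) (x⁻¹ * e * x) = 0 := fun x =>
        CfsgLib.Char.extendByZero_of_notMem _ (fun h' => he (by
          simpa [mul_assoc] using hN.conj_mem _ h' x))
      have hd : p ∣ orderOf (e : G) := not_not.mp (mt (hmem e).mpr he)
      simp [f, if_pos hd, hall]
  rw [hres]
  exact CfsgLib.Char.isGen_intCast_smul (CfsgLib.Char.isGen_indFun N CfsgLib.Char.isGen_one) _

end Cfsg.Agent.S0961
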