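import Cfsg.Statements.S0965
import Cfsg.Agent.Lib.Blocks.Covering

set_option autoImplicit false
open Cfsg

namespace Cfsg.Agent.S0965

/-- Let N be a normal subgroup of the finite group G and let B, b be blocks of G and of N relative to a maximal ideal M of the algebraic integers containing the prime p. Then some χ ∈ B has a constituent in b on restriction to N if and only if, for all χ ∈ B, θ ∈ b and n ∈ N, the central character of χ at n is congruent modulo the local ideal at M to the sum of θ m / θ 1 over the elements m ∈ N conjugate in G to n. -/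
theorem result {G : Type*} [Group G] [Fintype G] (p : ℕ) [Fact p.Prime] (M : Ideal Cfsg.AlgInt) (hM : Cfsg.IsPModular p M) (N : Subgroup G) [N.Normal] [Fintype N] (B : Set (Cfsg.IrrCharacter G)) (hB : Cfsg.IsPBlock M B) (b : Set (Cfsg.IrrCharacter N)) (hb : Cfsg.IsPBlock M b) : (∃ χ ∈ B, ∃ θ ∈ b, Cfsg.classInner (fun n : N => (χ : G → ℂ) n) (θ : N → ℂ) ≠ 0) ↔ ∀ χ ∈ B, ∀ θ ∈ b, ∀ n : N, Cfsg.MemLocalIdeal M (Cfsg.centralChar (χ : G → ℂ) (n : G) - Cfsg.inducedCentralChar N (θ : N → ℂ) (n : G)) := by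
  have := hM.2.1
  constructor
  · rintro ⟨χ₀, hχ₀, θ₀, hθ₀, hcon⟩ χ hχ θ hθ n
    have h1 := (CfsgLib.Blocks.bomega_rclass_eq_iff' N M θ₀ χ₀ (n : G)).mpr (by
      rw [CfsgLib.Blocks.centralChar_eq_icc_of_over χ₀.2 hcon n.2, sub_self]
      exact (CfsgLib.Blocks.res_eq_zero_iff M 0).mp (map_zero _))
    rw [← CfsgLib.Blocks.bomega_rclass_eq_iff', CfsgLib.Blocks.bomega_eq_of_mem hB hχ hχ₀, h1,
      CfsgLib.Blocks.bomega_eq_of_mem hb hθ₀ hθ]
  · intro h
    obtain ⟨χ, hχ⟩ := CfsgLib.Blocks.IsPBlock.nonempty hB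
    obtain ⟨θ', hθ'⟩ := CfsgLib.Blocks.IsPBlock.nonempty hb
    obtain ⟨θ, hθ⟩ := CfsgLib.Blocks.exists_over (N := N) χ.2
    obtain ⟨g, hg⟩ := CfsgLib.Blocks.exists_conj_sameBlock_of_congr (M := M) χ.2 hθ (θ' := θ')
      (fun n => h χ hχ θ' hθ' n)
    refine ⟨χ, hχ, CfsgLib.CharNormal.conjIrr N g θ, CfsgLib.Blocks.mem_of_bomega_eq hb hθ'
      ((CfsgLib.Blocks.sameBlock_iff (CfsgLib.CharNormal.conjIrr N g θ) θ').mp hg).symm, ?_⟩
    rw [CfsgLib.CharNormal.conjIrr_coe, CfsgLib.CharNormal.classInner_res_conjFun N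
      (CfsgLib.Char.isClassFunction_of_isIrr χ.2)]
    exact hθ

end Cfsg.Agent.S0965
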