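import Cfsg.Statements.S0967
import Cfsg.Agent.Lib.Blocks.Covering

set_option autoImplicit false
open Cfsg

namespace Cfsg.Agent.S0967

/-- Let N be a normal subgroup of the finite group G of order prime to p and fix a maximal ideal M of the algebraic integers containing p. If χ is an irreducible character of G ⧸ N and ψ lies in the block of its inflation χ ∘ (quotient map), then ψ is itself inflated from an irreducible character ψ' of G ⧸ N lying in the block of χ. (Over a normal p'-subgroup, blocks of the quotient are whole blocks of G.) -/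
theorem result {G : Type*} [Group G] [Finite G] (p : ℕ) [Fact p.Prime] (M : Ideal Cfsg.AlgInt) (hM : Cfsg.IsPModular p M) (N : Subgroup G) [N.Normal] (hN : ¬ p ∣ Nat.card N) (χ : Cfsg.IrrCharacter (G ⧸ N)) (ψ : Cfsg.IrrCharacter G) (hψ : ψ ∈ Cfsg.blockOf M ((χ : G ⧸ N → ℂ) ∘ QuotientGroup.mk)) : ∃ ψ' : Cfsg.IrrCharacter (G ⧸ N), (ψ : G → ℂ) = (ψ' : G ⧸ N → ℂ) ∘ QuotientGroup.mk ∧ Cfsg.SameBlock M (χ : G ⧸ N → ℂ) (ψ' : G ⧸ N → ℂ) := by
  classical
  have := hM.2.1
  have := Fintype.ofFinite G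
  have := Fintype.ofFinite N
  have := Fintype.ofFinite (G ⧸ N)
  let χG : Cfsg.IrrCharacter G := ⟨_, CfsgLib.CharNormal.isIrr_comp_mk' N χ.2⟩
  have hsb : Cfsg.SameBlock M (χG : G → ℂ) (ψ : G → ℂ) := hψ
  obtain ⟨ψ', hψ', he⟩ := CfsgLib.CharNormal.exists_irr_eq_comp_mk' N ψ.2
    (CfsgLib.Blocks.trivialOn_of_sameBlock hM hN hsb
      (fun n hn => CfsgLib.CharNormal.comp_mk'_const N hn))
  refine ⟨⟨ψ', hψ'⟩, he.symm, fun q => ?_⟩
  let a : CfsgLib.Blocks.CA G := CfsgLib.Blocks.ofFun fun g : G =>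
    if IsConj q (g : G ⧸ N) then (Nat.card N : ℂ)⁻¹ else 0
  have ha : a ∈ CfsgLib.Blocks.Zint M G := CfsgLib.Blocks.mem_Zint_iff.mpr ⟨fun g => by
      simp only [a, CfsgLib.Blocks.coeff_ofFun]
      split_ifs
      · exact CfsgLib.Blocks.natCast_inv_mem_locRing hM hN
      · exact Subring.zero_mem _, fun g h => by
      simp only [a, CfsgLib.Blocks.coeff_ofFun]
      have : IsConj ((g : G) : G ⧸ N) ((h * g * h⁻¹ : G) : G ⧸ N) :=
        isConj_iff.mpr ⟨(h : G ⧸ N), by rw [← QuotientGroup.mk_mul, ← QuotientGroup.mk_inv,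
          ← QuotientGroup.mk_mul]⟩
      by_cases hq : IsConj q (g : G ⧸ N)
      · rw [if_pos hq, if_pos (hq.trans this)]
      · rw [if_neg hq, if_neg (fun hq' => hq (hq'.trans this.symm))]⟩
  have hval : ∀ φ : G ⧸ N → ℂ, Cfsg.IsClassFunction (G ⧸ N) φ →
      CfsgLib.Blocks.omega (φ ∘ QuotientGroup.mk) a = Cfsg.centralChar φ q := by
    intro φ hφ
    rw [← CfsgLib.Blocks.omega_classSum hφ, CfsgLib.Blocks.omega, CfsgLib.Blocks.omega]
    congr 1
    rw [CfsgLib.Blocks.charLin_apply, CfsgLib.Blocks.charLin_apply]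
    simp only [a, CfsgLib.Blocks.coeff_ofFun, CfsgLib.Blocks.classSum_coeff, Function.comp_apply]
    rw [CfsgLib.CharNormal.sum_comp_mk' N
      (fun r => (if IsConj q r then (Nat.card N : ℂ)⁻¹ else 0) * φ r), Finset.mul_sum]
    refine Finset.sum_congr rfl fun r _ => ?_
    split_ifs
    · rw [← mul_assoc, mul_inv_cancel₀ (CfsgLib.Char.card_ne_zero' (G := N)), one_mul]
    · simp
  have hb := RingHom.congr_fun ((CfsgLib.Blocks.sameBlock_iff χG ψ).mp hsb) ⟨a, ha⟩
  rw [CfsgLib.Blocks.bomega_apply, CfsgLib.Blocks.bomega_apply,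
    ← CfsgLib.Blocks.memLocalIdeal_sub_iff, CfsgLib.Blocks.coe_zomega, CfsgLib.Blocks.coe_zomega,
    ← he] at hb
  rw [hval _ (CfsgLib.Char.isClassFunction_of_isIrr χ.2),
    hval _ (CfsgLib.Char.isClassFunction_of_isIrr hψ')] at hb
  exact hb

end Cfsg.Agent.S0967
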