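import Cfsg.Statements.S0971
import Cfsg.Agent.Lib.Blocks.Defect
import Cfsg.Agent.Lib.Blocks.Covering
-- import your own Cfsg.Agent.* helpers here

set_option autoImplicit false
open Cfsg

namespace Cfsg.Agent.S0971

/-- Let Q be a normal p-subgroup of the finite group G, let N = Q ⊔ C_G(Q) (a normal subgroup) and let b be a block of N relative to a maximal ideal M of the algebraic integers containing p. Then b induces some block of G, and every block B of G containing a character whose restriction to N has a constituent in b is induced by b. -/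
theorem result {G : Type*} [Group G] [Fintype G] (p : ℕ) [Fact p.Prime] (M : Ideal Cfsg.AlgInt) (hM : Cfsg.IsPModular p M) (Q : Subgroup G) [Q.Normal] (hQ : IsPGroup p Q) [Fintype ↥(Q ⊔ Subgroup.centralizer (Q : Set G))] (b : Set (Cfsg.IrrCharacter ↥(Q ⊔ Subgroup.centralizer (Q : Set G)))) (hb : Cfsg.IsPBlock M b) : Cfsg.InducedBlockDefined M (Q ⊔ Subgroup.centralizer (Q : Set G)) b ∧ ∀ B : Set (Cfsg.IrrCharacter G), Cfsg.IsPBlock M B → (∃ χ ∈ B, ∃ θ ∈ b, Cfsg.classInner (fun n : ↥(Q ⊔ Subgroup.centralizer (Q : Set G)) => (χ : G → ℂ) n) (θ : ↥(Q ⊔ Subgroup.centralizer (Q : Set G)) → ℂ) ≠ 0) → Cfsg.IsInducedBlock M (Q ⊔ Subgroup.centralizer (Q : Set G)) b B := by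
  classical
  have := hM.2.1
  have hCN : Subgroup.centralizer (Q : Set G) ≤ (Q ⊔ Subgroup.centralizer (Q : Set G)) := le_sup_right
  have hHN : (Q ⊔ Subgroup.centralizer (Q : Set G)) ≤ Subgroup.normalizer (Q : Set G) := by
    rw [Subgroup.normalizer_eq_top]; exact le_top
  refine ⟨CfsgLib.Blocks.exists_inducedBlock hM hQ le_sup_left hCN hHN hb, ?_⟩
  rintro B hB ⟨χ, hχ, θ, hθ, hne⟩
  have : ((Q ⊔ Subgroup.centralizer (Q : Set G))).Normal := inferInstance
  have key : ∀ a, CfsgLib.Blocks.indBomega (M := M) (Q ⊔ Subgroup.centralizer (Q : Set G)) θ a = CfsgLib.Blocks.bomega χ a := by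
    rw [CfsgLib.Blocks.indBomega_eq_iff]
    intro g
    by_cases hg : g ∈ (Q ⊔ Subgroup.centralizer (Q : Set G))
    · rw [CfsgLib.Blocks.centralChar_eq_icc_of_over χ.2 hne hg, sub_self]
      exact (CfsgLib.Blocks.res_eq_zero_iff M 0).mp (map_zero _)
    · refine (CfsgLib.Blocks.indBomega_zclass_eq_iff (Q ⊔ Subgroup.centralizer (Q : Set G)) θ χ g).mp ?_
      have h0 : CfsgLib.Blocks.bomega (M := M) χ (CfsgLib.Blocks.zclass M g) = 0 := by
        by_contra h
        exact hg (hCN (CfsgLib.Blocks.mem_centralizer_of_bomega_ne_zero hM hQ h))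
      rw [h0, CfsgLib.Blocks.indBomega_apply]
      refine CfsgLib.Blocks.bomega_eq_zero_of_rcoeff_eq_zero θ fun n => ?_
      rw [CfsgLib.Blocks.rcoeff_resIn, CfsgLib.Blocks.rcoeff_zclass, if_neg]
      intro hc
      obtain ⟨w, hw⟩ := isConj_iff.mp hc
      refine hg ?_
      have h2 := Subgroup.Normal.conj_mem (inferInstance : (Q ⊔ Subgroup.centralizer (Q : Set G)).Normal) _ n.2 w⁻¹
      rwa [← hw, inv_inv, show w⁻¹ * (w * g * w⁻¹) * w = g by group] at h2
  have h := CfsgLib.Blocks.isInducedBlock_of_mem (M := M) (Q ⊔ Subgroup.centralizer (Q : Set G)) key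
  rw [← CfsgLib.Blocks.isPBlock_eq_blockOf hb hθ, ← CfsgLib.Blocks.isPBlock_eq_blockOf hB hχ] at h
  exact h

end Cfsg.Agent.S0971
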