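import Cfsg.Statements.S0986
import Cfsg.Agent.Lib.SmallGroups.Basic
import Mathlib

set_option autoImplicit false
open Cfsg

namespace Cfsg.Agent.S0986

/-- Let P and Q be distinct Sylow p-subgroups of a finite group G chosen so that the order of P ∩ Q is as large as possible among intersections of two distinct Sylow p-subgroups, and let N be the normalizer of P ∩ Q. Then N has more than one Sylow p-subgroup, any two distinct Sylow p-subgroups of N intersect exactly in P ∩ Q, and each Sylow p-subgroup of N lies in exactly one Sylow p-subgroup of G. -/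
theorem result {G : Type*} [Group G] [Finite G] (p : ℕ) [Fact p.Prime] (P Q : Sylow p G) (hPQ : P ≠ Q) (hmax : ∀ P' Q' : Sylow p G, P' ≠ Q' → Nat.card ↥((P' : Subgroup G) ⊓ (Q' : Subgroup G)) ≤ Nat.card ↥((P : Subgroup G) ⊓ (Q : Subgroup G))) : 1 < Nat.card (Sylow p ↥(Subgroup.normalizer (((P : Subgroup G) ⊓ (Q : Subgroup G) : Subgroup G) : Set G))) ∧ (∀ S T : Sylow p ↥(Subgroup.normalizer (((P : Subgroup G) ⊓ (Q : Subgroup G) : Subgroup G) : Set G)), S ≠ T → (S : Subgroup _) ⊓ (T : Subgroup _) = ((P : Subgroup G) ⊓ (Q : Subgroup G)).subgroupOf (Subgroup.normalizer (((P : Subgroup G) ⊓ (Q : Subgroup G) : Subgroup G) : Set G))) ∧ ∀ S : Sylow p ↥(Subgroup.normalizer (((P : Subgroup G) ⊓ (Q : Subgroup G) : Subgroup G) : Set G)), ∃! T : Sylow p G, (S : Subgroup _).map (Subgroup.normalizer (((P : Subgroup G) ⊓ (Q : Subgroup G) : Subgroup G) : Set G)).subtype ≤ (T : Subgroup G) := by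
  classical
  set D : Subgroup G := (P : Subgroup G) ⊓ (Q : Subgroup G) with hD
  set N : Subgroup G := Subgroup.normalizer (D : Set G) with hN
  have hDN : D ≤ N := Subgroup.le_normalizer
  -- p-subgroups of G lying in two Sylow subgroups have order at most |D|
  have hkey : ∀ (X : Subgroup G) (A B : Sylow p G), X ≤ (A : Subgroup G) → X ≤ (B : Subgroup G) →
      Nat.card D < Nat.card X → A = B := by
    intro X A B hA hB hlt
    by_contra hAB
    have h1 := hmax A B hAB
    have h2 := Subgroup.card_le_of_le (le_inf hA hB)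
    omega
  -- D is properly contained in the normalizer inside any Sylow subgroup containing it properly
  have hgrow : ∀ A : Sylow p G, D ≤ (A : Subgroup G) → D ≠ (A : Subgroup G) →
      Nat.card D < Nat.card ((A : Subgroup G) ⊓ N : Subgroup G) := by
    intro A hle hne
    have h1 : D ≤ (A : Subgroup G) ⊓ N := le_inf hle hDN
    refine lt_of_le_of_ne (Subgroup.card_le_of_le h1) fun e => ?_
    have h2 : D = (A : Subgroup G) ⊓ N := Subgroup.eq_of_le_of_card_ge h1 e.ge
    apply hne
    have hnil : Group.IsNilpotent (A : Subgroup G) := A.2.isNilpotent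
    have h3 : (D.subgroupOf (A : Subgroup G)) = ⊤ := by
      by_contra htop
      have hlt := Group.normalizerCondition_of_isNilpotent (G := (A : Subgroup G)) _ (lt_top_iff_ne_top.mpr htop)
      obtain ⟨-, x, hx, hxD⟩ := SetLike.lt_iff_le_and_exists.mp hlt
      apply hxD
      rw [Subgroup.mem_subgroupOf]
      have hxN : (x : G) ∈ N := by
        intro y
        constructor
        · intro hy
          exact ((hx ⟨y, hle hy⟩).mp hy : _)
        · intro hy
          have hyA : y ∈ (A : Subgroup G) := by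
            have := mul_mem (mul_mem (inv_mem x.2) (hle hy)) x.2
            simpa [mul_assoc] using this
          exact (hx ⟨y, hyA⟩).mpr hy
      rw [h2]
      exact ⟨x.2, hxN⟩
    exact le_antisymm hle (Subgroup.subgroupOf_eq_top.mp h3)
  have hsub : ∀ S : Sylow p N, IsPGroup p ((S : Subgroup N).map N.subtype) := fun S => S.2.map _
  have hDp : IsPGroup p (D.subgroupOf N) :=
    (P.2.to_le inf_le_left).comap_subtype
  have hDS : ∀ S : Sylow p N, D.subgroupOf N ≤ (S : Subgroup N) := fun S => by
    haveI : (D.subgroupOf N).Normal := Subgroup.normal_in_normalizer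
    exact hDp.le_sylow_of_normal S
  have hPne : D ≠ (P : Subgroup G) := fun e => hPQ (Sylow.ext (P.3 Q.2 (inf_eq_left.mp e)).symm)
  have hQne : D ≠ (Q : Subgroup G) := fun e => hPQ (Sylow.ext (Q.3 P.2 (inf_eq_right.mp e)))
  have hcard : ∀ S : Sylow p N, Nat.card D < Nat.card ((S : Subgroup N).map N.subtype) := by
    intro S
    have hp1 : IsPGroup p (((P : Subgroup G) ⊓ N).subgroupOf N) :=
      (P.2.to_le inf_le_left).comap_subtype
    obtain ⟨S', hS'⟩ := hp1.exists_le_sylow
    rw [Subgroup.card_map_of_injective N.subtype_injective, Nat.card_congr (S.equiv S').toEquiv]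
    refine lt_of_lt_of_le (hgrow P inf_le_left hPne) ?_
    rw [← Nat.card_congr (Subgroup.subgroupOfEquivOfLe (inf_le_right : (P : Subgroup G) ⊓ N ≤ N)).toEquiv]
    exact Subgroup.card_le_of_le hS'
  refine ⟨?_, fun S T hST => ?_, fun S => ?_⟩
  · by_contra hle
    haveI : Subsingleton (Sylow p N) :=
      Finite.card_le_one_iff_subsingleton.mp (not_lt.mp hle)
    obtain ⟨S⟩ : Nonempty (Sylow p N) := inferInstance
    obtain ⟨T, hT⟩ := (hsub S).exists_le_sylow
    have hin : ∀ A : Sylow p G, (A : Subgroup G) ⊓ N ≤ (T : Subgroup G) := by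
      intro A x hx
      have hp1 : IsPGroup p (((A : Subgroup G) ⊓ N).subgroupOf N) :=
        (A.2.to_le inf_le_left).comap_subtype
      obtain ⟨S', hS'⟩ := hp1.exists_le_sylow
      exact hT ⟨⟨x, hx.2⟩, Subsingleton.elim S' S ▸ hS' (show (⟨x, hx.2⟩ : N) ∈ _ from hx), rfl⟩
    exact hPQ ((hkey _ P T inf_le_left (hin P) (hgrow P inf_le_left hPne)).trans
      (hkey _ Q T inf_le_left (hin Q) (hgrow Q inf_le_right hQne)).symm)
  · refine le_antisymm ?_ (le_inf (hDS S) (hDS T))
    by_contra hnle
    obtain ⟨A, hA⟩ := (hsub S).exists_le_sylow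
    obtain ⟨B, hB⟩ := (hsub T).exists_le_sylow
    have hAB : A ≠ B := by
      intro e
      subst e
      apply hST
      have hp1 : IsPGroup p (((A : Subgroup G) ⊓ N).subgroupOf N) :=
        (A.2.to_le inf_le_left).comap_subtype
      have eS := S.3 hp1 (fun x hx => ⟨hA ⟨x, hx, rfl⟩, x.2⟩)
      have eT := T.3 hp1 (fun x hx => ⟨hB ⟨x, hx, rfl⟩, x.2⟩)
      exact Sylow.ext (eS.symm.trans eT)
    have h1 : (((S : Subgroup N) ⊓ T).map N.subtype) ≤ (A : Subgroup G) ⊓ (B : Subgroup G) :=
      le_inf ((Subgroup.map_mono inf_le_left).trans hA) ((Subgroup.map_mono inf_le_right).trans hB)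
    have h2 := Subgroup.card_le_of_le h1
    have h3 := hmax A B hAB
    rw [Subgroup.card_map_of_injective N.subtype_injective] at h2
    have h4 : D.subgroupOf N ≤ (S : Subgroup N) ⊓ T := le_inf (hDS S) (hDS T)
    apply hnle
    refine (Subgroup.eq_of_le_of_card_ge h4 ?_).ge
    rw [Nat.card_congr (Subgroup.subgroupOfEquivOfLe hDN).toEquiv]
    omega
  · obtain ⟨T, hT⟩ := (hsub S).exists_le_sylow
    exact ⟨T, hT, fun T' hT' => hkey _ T' T hT' hT (hcard S)⟩

end Cfsg.Agent.S0986
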