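import Cfsg.Statements.S0987
import Cfsg.Agent.Lib.SmallGroups.Basic

set_option autoImplicit false
open Cfsg

namespace Cfsg.Agent.S0987

theorem card_orderOf_eq_prime {G : Type*} [Group G] [Finite G] (p : ℕ) [Fact p.Prime]
    (h : ∀ P : Sylow p G, Nat.card (P : Subgroup G) = p) :
    Nat.card {g : G // orderOf g = p} = Nat.card (Sylow p G) * (p - 1) := by
  classical
  have hp : p.Prime := Fact.out
  let e : (Σ P : Sylow p G, {x : (P : Subgroup G) // x ≠ 1}) → {g : G // orderOf g = p} :=
    fun z => ⟨z.2.1.1, by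
      rw [Subgroup.orderOf_coe]
      have h2 := pow_card_eq_one' (x := z.2.1); rw [h z.1] at h2
      exact orderOf_eq_prime h2 z.2.2⟩
  have he : Function.Bijective e := by
    constructor
    · rintro ⟨P, ⟨⟨x, hx⟩, hx1⟩⟩ ⟨Q, ⟨⟨y, hy⟩, hy1⟩⟩ hxy
      have hxy' : x = y := congrArg Subtype.val hxy
      subst hxy'
      have hx' : orderOf x = p := (e ⟨P, ⟨⟨x, hx⟩, hx1⟩⟩).2
      have hPQ : P = Q := by
        have key : ∀ R : Sylow p G, x ∈ (R : Subgroup G) → (R : Subgroup G) = Subgroup.zpowers x :=
          fun R hR => (Subgroup.eq_of_le_of_card_ge (Subgroup.zpowers_le.mpr hR)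
            (by rw [h R, Nat.card_zpowers, hx'])).symm
        exact Sylow.ext (by rw [key P hx, key Q hy])
      subst hPQ; rfl
    · rintro ⟨g, hg⟩
      have hpg : IsPGroup p (Subgroup.zpowers g) :=
        IsPGroup.of_card (n := 1) (by rw [Nat.card_zpowers, hg, pow_one])
      obtain ⟨P, hP⟩ := hpg.exists_le_sylow
      refine ⟨⟨P, ⟨⟨g, hP (Subgroup.mem_zpowers g)⟩, fun hg1 => ?_⟩⟩, rfl⟩
      have : g = 1 := congrArg Subtype.val hg1
      rw [this, orderOf_one] at hg
      exact hp.ne_one hg.symm
  haveI := Fintype.ofFinite (Sylow p G)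
  rw [← Nat.card_eq_of_bijective e he, Nat.card_sigma, Finset.sum_congr rfl (g := fun _ => p - 1),
    Finset.sum_const, Finset.card_univ, ← Nat.card_eq_fintype_card, smul_eq_mul]
  intro P _
  haveI := Fintype.ofFinite (P : Subgroup G)
  rw [Nat.card_eq_fintype_card, Fintype.card_subtype_compl, Fintype.card_subtype_eq,
    ← Nat.card_eq_fintype_card, h P]

/-- If a finite group has order pqr for primes p < q < r, then its Sylow r-subgroups are normal. -/
theorem result {G : Type*} [Group G] [Finite G] (p q r : ℕ) (hp : p.Prime) (hq : q.Prime) [Fact r.Prime] (hpq : p < q) (hqr : q < r) (hG : Nat.card G = p * q * r) (R : Sylow r G) : (R : Subgroup G).Normal := by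
  classical
  haveI : Fact p.Prime := ⟨hp⟩
  haveI : Fact q.Prime := ⟨hq⟩
  have hr : r.Prime := Fact.out
  have nd : ∀ a b : ℕ, a.Prime → b.Prime → a < b → ¬ b ∣ a ∧ ¬ a ∣ b := fun a b ha hb hab =>
    ⟨fun h => absurd (Nat.le_of_dvd ha.pos h) (by omega),
     fun h => absurd ((Nat.prime_dvd_prime_iff_eq ha hb).mp h) (by omega)⟩
  have hqr' := nd q r hq hr hqr
  have hpr' := nd p r hp hr (hpq.trans hqr)
  have hpq' := nd p q hp hq hpq
  have hnr : ¬ r ∣ p * q := by rw [hr.dvd_mul]; exact fun h => h.elim hpr'.1 hqr'.1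
  have hnq : ¬ q ∣ p * r := by rw [hq.dvd_mul]; exact fun h => h.elim hpq'.1 hqr'.2
  have dr := CfsgLib.SmallGroups.card_sylow_dvd_of_card_eq (p := r) (a := 1) (G := G) (m := p * q)
    (by rw [hG]; ring) hnr
  have dq := CfsgLib.SmallGroups.card_sylow_dvd_of_card_eq (p := q) (a := 1) (G := G) (m := p * r)
    (by rw [hG]; ring) hnq
  have mr := CfsgLib.SmallGroups.mod_eq_one_card_sylow (G := G) (p := r)
  have mq := CfsgLib.SmallGroups.mod_eq_one_card_sylow (G := G) (p := q)
  apply CfsgLib.SmallGroups.sylow_normal_of_card_eq_one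
  by_contra hne
  have hnr' : Nat.card (Sylow r G) = p * q := by
    rcases (Nat.dvd_mul).mp dr with ⟨a, b, ha, hb, hab⟩
    rcases (Nat.dvd_prime hp).mp ha with rfl | rfl <;> rcases (Nat.dvd_prime hq).mp hb with rfl | rfl
    · exact absurd (by omega) hne
    · rw [one_mul] at hab; rw [← hab, Nat.mod_eq_of_lt hqr] at mr; exact absurd mr hq.ne_one
    · rw [mul_one] at hab; rw [← hab, Nat.mod_eq_of_lt (hpq.trans hqr)] at mr; exact absurd mr hp.ne_one
    · exact hab.symm
  have hnq' : Nat.card (Sylow q G) = 1 ∨ r ≤ Nat.card (Sylow q G) := by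
    rcases (Nat.dvd_mul).mp dq with ⟨a, b, ha, hb, hab⟩
    rcases (Nat.dvd_prime hp).mp ha with rfl | rfl <;> rcases (Nat.dvd_prime hr).mp hb with rfl | rfl
    · left; omega
    · right; omega
    · rw [mul_one] at hab; rw [← hab, Nat.mod_eq_of_lt hpq] at mq; exact absurd mq hp.ne_one
    · right; rw [← hab]; exact Nat.le_mul_of_pos_left _ hp.pos
  have cardQ : ∀ Q : Sylow q G, Nat.card (Q : Subgroup G) = q := fun Q => by
    simpa using CfsgLib.SmallGroups.card_sylow_eq (a := 1) (m := p * r) (by rw [hG]; ring) hnq Q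
  have cardR : ∀ Q : Sylow r G, Nat.card (Q : Subgroup G) = r := fun Q => by
    simpa using CfsgLib.SmallGroups.card_sylow_eq (a := 1) (m := p * q) (by rw [hG]; ring) hnr Q
  rcases hnq' with h1 | h1
  · -- the normal subgroup of order q
    obtain ⟨Q⟩ : Nonempty (Sylow q G) := inferInstance
    haveI := CfsgLib.SmallGroups.sylow_normal_of_card_eq_one h1 Q
    have hM : Nat.card ((Q : Subgroup G) ⊔ (R : Subgroup G) : Subgroup G) = q * r := by
      have hi : (Q : Subgroup G) ⊓ (R : Subgroup G) = ⊥ := by
        apply Subgroup.inf_eq_bot_of_coprime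
        rw [cardQ, cardR]
        exact (Nat.coprime_primes hq hr).mpr (by omega)
      rw [← Subgroup.relIndex_bot_left, ← Subgroup.relIndex_mul_relIndex _ _ _ bot_le le_sup_left,
        Subgroup.relIndex_bot_left, cardQ, Subgroup.relIndex_sup_left, ← Subgroup.inf_relIndex_right,
        hi, Subgroup.relIndex_bot_left, cardR]
    set M : Subgroup G := (Q : Subgroup G) ⊔ (R : Subgroup G) with hMdef
    have hind : M.index = p := by
      have := M.card_mul_index
      rw [hM, hG] at this
      exact Nat.eq_of_mul_eq_mul_left (Nat.mul_pos hq.pos hr.pos) (by rw [this]; ring)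
    haveI hMn : M.Normal := Subgroup.normal_of_index_eq_minFac_card (by
      rw [hind, hG]
      refine (le_antisymm (Nat.minFac_le_of_dvd hp.two_le ⟨q * r, by ring⟩) ?_).symm
      have hne1 : p * q * r ≠ 1 := by
        intro h; exact hr.ne_one (Nat.eq_one_of_mul_eq_one_left h)
      have hm := Nat.minFac_prime hne1
      have hd := Nat.minFac_dvd (p * q * r)
      rcases (hm.dvd_mul).mp hd with h | h
      · rcases (hm.dvd_mul).mp h with h | h
        · rw [(Nat.prime_dvd_prime_iff_eq hm hp).mp h]
        · rw [(Nat.prime_dvd_prime_iff_eq hm hq).mp h]; omega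
      · rw [(Nat.prime_dvd_prime_iff_eq hm hr).mp h]; omega)
    obtain ⟨RM⟩ : Nonempty (Sylow r M) := inferInstance
    have hRM : (R : Subgroup G) ≤ M := le_sup_right
    have hfr := Sylow.normalizer_sup_eq_top' R hRM
    -- in `M` the Sylow `r`-subgroup is normal
    have hnM : Nat.card (Sylow r M) = 1 := by
      have d := CfsgLib.SmallGroups.card_sylow_dvd_of_card_eq (p := r) (a := 1) (G := M) (m := q)
        (by rw [hM]; ring) hqr'.1
      have m1 := CfsgLib.SmallGroups.mod_eq_one_card_sylow (G := M) (p := r)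
      rcases (Nat.dvd_prime hq).mp d with h | h
      · exact h
      · rw [h, Nat.mod_eq_of_lt hqr] at m1; exact absurd m1 hq.ne_one
    have hRn := CfsgLib.SmallGroups.sylow_normal_of_card_eq_one hnM (R.subtype hRM)
    rw [Sylow.coe_subtype] at hRn
    have hle : M ≤ Subgroup.normalizer ((R : Subgroup G) : Set G) :=
      Subgroup.le_normalizer_of_normal_subgroupOf (H := (R : Subgroup G)) hRM
    have htop : Subgroup.normalizer ((R : Subgroup G) : Set G) = ⊤ := by
      rw [eq_top_iff, ← hfr]
      exact sup_le le_rfl hle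
    exact hne (by rw [CfsgLib.SmallGroups.card_sylow_eq_index R, htop, Subgroup.index_top])
  · have c1 := card_orderOf_eq_prime r cardR
    have c2 := card_orderOf_eq_prime q cardQ
    haveI := Fintype.ofFinite G
    have hdisj : Disjoint (Finset.univ.filter fun g : G => orderOf g = r)
        (Finset.univ.filter fun g : G => orderOf g = q) := by
      rw [Finset.disjoint_filter]; intro g _ h1 h2; omega
    have hle := Finset.card_le_card (Finset.subset_univ
      ((Finset.univ.filter fun g : G => orderOf g = r) ∪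
        (Finset.univ.filter fun g : G => orderOf g = q)))
    rw [Finset.card_union_of_disjoint hdisj, Finset.card_univ, ← Nat.card_eq_fintype_card, hG] at hle
    rw [← Fintype.card_subtype, ← Fintype.card_subtype, ← Nat.card_eq_fintype_card,
      ← Nat.card_eq_fintype_card, c1, c2, hnr'] at hle
    have e1 : p * q * (r - 1) + p * q = p * q * r := by
      rw [← Nat.mul_succ, Nat.succ_eq_add_one, Nat.sub_add_cancel hr.one_le]
    have hq3 : 3 ≤ q := by have := hp.two_le; omega
    have e2 : r * (q - 1) ≤ Nat.card (Sylow q G) * (q - 1) := Nat.mul_le_mul_right _ h1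
    have e3 : p * q < r * (q - 1) := by
      have h4 : p ≤ q - 1 := by omega
      calc p * q ≤ (q - 1) * q := Nat.mul_le_mul_right q h4
        _ < (q - 1) * r := by
          apply Nat.mul_lt_mul_of_pos_left hqr; omega
        _ = r * (q - 1) := mul_comm _ _
    omega

end Cfsg.Agent.S0987
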