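import Cfsg.Statements.S0988
import Cfsg.Agent.Lib.SmallGroups.Basic
import Cfsg.Agent.Lib.SmallGroups.PrimeDegree

set_option autoImplicit false
open Cfsg

namespace Cfsg.Agent.S0988

open CfsgLib.SmallGroups

theorem le_succ_of_prime_dvd_mulAut {P : Type*} [Group P] [Finite P] {p l : ℕ} (hp : p.Prime) (hl : l.Prime)
    (hP : Nat.card P = p ^ 2) (hd : l ∣ Nat.card (MulAut P)) : l ≤ p + 1 := by
  haveI : Fact l.Prime := ⟨hl⟩
  haveI : Finite (MulAut P) := Finite.of_injective (fun f : MulAut P => f.toEquiv) fun f g h => MulEquiv.ext fun x => Equiv.congr_fun h x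
  obtain ⟨σ, hσ⟩ := exists_prime_orderOf_dvd_card' (G := MulAut P) l hd
  let Fx : Subgroup P :=
    { carrier := {x | σ x = x}
      one_mem' := map_one σ
      mul_mem' := fun {a b} ha hb => by
        have ha' : σ a = a := ha
        have hb' : σ b = b := hb
        show σ (a * b) = a * b
        rw [map_mul, ha', hb']
      inv_mem' := fun {a} ha => by
        have ha' : σ a = a := ha
        show σ a⁻¹ = a⁻¹
        rw [map_inv, ha'] }
  have hpg : IsPGroup l (Subgroup.zpowers σ) := IsPGroup.of_card (n := 1) (by rw [Nat.card_zpowers, hσ, pow_one])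
  have hmod := hpg.card_modEq_card_fixedPoints P
  have hfix : Nat.card (MulAction.fixedPoints (Subgroup.zpowers σ) P) = Nat.card Fx := by
    refine Nat.card_congr (Equiv.subtypeEquivRight fun x => ⟨fun h => h ⟨σ, Subgroup.mem_zpowers σ⟩, ?_⟩)
    rintro h ⟨u, hu⟩
    have : Subgroup.zpowers σ ≤ MulAction.stabilizer (MulAut P) x := Subgroup.zpowers_le.mpr h
    exact this hu
  rw [hfix, hP] at hmod
  obtain ⟨i, hi, hFx⟩ := (Nat.dvd_prime_pow hp).mp (hP ▸ Fx.card_subgroup_dvd_card)
  have hp1 := hp.one_le
  rw [hFx] at hmod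
  interval_cases i
  · have h1 : l ∣ p ^ 2 - 1 := (Nat.modEq_iff_dvd' (Nat.one_le_pow _ _ hp.pos)).mp (by simpa using hmod.symm)
    rw [show p ^ 2 - 1 = (p - 1) * (p + 1) by
      have h2 : p ^ 2 = (p - 1) * (p + 1) + 1 := by
        obtain ⟨k, rfl⟩ : ∃ k, p = k + 1 := ⟨p - 1, by omega⟩
        simp only [Nat.add_sub_cancel]; ring
      omega] at h1
    rcases hl.dvd_mul.mp h1 with h | h
    · have h2 : 0 < p - 1 := by have := hp.two_le; omega
      exact le_trans (Nat.le_of_dvd h2 h) (by omega)
    · exact Nat.le_of_dvd (by omega) h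
  · have h1 : l ∣ p ^ 2 - p ^ 1 := (Nat.modEq_iff_dvd' (Nat.pow_le_pow_right hp.pos (by norm_num))).mp hmod.symm
    rw [show p ^ 2 - p ^ 1 = p * (p - 1) by rw [pow_two, pow_one, Nat.mul_sub_one]] at h1
    rcases hl.dvd_mul.mp h1 with h | h
    · exact le_trans (Nat.le_of_dvd hp.pos h) (by omega)
    · have h2 : 0 < p - 1 := by have := hp.two_le; omega
      exact le_trans (Nat.le_of_dvd h2 h) (by omega)
  · exfalso
    have hσ1 : σ = 1 := by
      apply MulEquiv.ext
      intro x
      have h2 : Fx = ⊤ := Subgroup.eq_top_of_card_eq _ (by rw [hFx, hP])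
      exact (h2 ▸ Subgroup.mem_top x : x ∈ Fx)
    rw [hσ1, orderOf_one] at hσ
    exact hl.ne_one hσ.symm

theorem small_prime {G : Type*} [Group G] [Finite G] [IsSimpleGroup G] (p q r : ℕ) (hp : p.Prime) (hq : q.Prime)
    (hr : r.Prime) (hqp : p < q) (hrp : p < r) (hna : ¬ IsMulCommutative G) (hG : Nat.card G = p ^ 2 * (q * r))
    (hpm : ¬ p ∣ q * r) : p = 2 ∧ (q = 3 ∨ r = 3) := by
  haveI : Fact p.Prime := ⟨hp⟩
  obtain ⟨P⟩ : Nonempty (Sylow p G) := inferInstance
  have hP : Nat.card (P : Subgroup G) = p ^ 2 := card_sylow_eq hG hpm P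
  have hpG : p ∣ Nat.card G := by rw [hG]; exact dvd_mul_of_dvd_left (dvd_pow_self p (by norm_num)) _
  set N := Subgroup.normalizer ((P : Subgroup G) : Set G) with hN
  set f := (P : Subgroup G).normalizerMonoidHom with hf
  have hne : Nat.card f.range ≠ 1 := by
    intro h
    refine not_normalizer_le_centralizer hna hpG P fun g hg => ?_
    have hb : f.range = ⊥ := Subgroup.eq_bot_of_card_eq _ h
    have h1 : f ⟨g, hg⟩ = 1 := by
      have : f ⟨g, hg⟩ ∈ f.range := ⟨_, rfl⟩
      rwa [hb, Subgroup.mem_bot] at this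
    have h2 : (⟨g, hg⟩ : N) ∈ f.ker := h1
    rw [hf, Subgroup.normalizerMonoidHom_ker, Subgroup.mem_subgroupOf] at h2
    exact h2
  have hdvd : Nat.card f.range ∣ q * r := by
    haveI : IsMulCommutative (P : Subgroup G) := IsPGroup.isMulCommutative_of_card_eq_prime_sq hP
    have h1 : (P : Subgroup G).subgroupOf N ≤ f.ker := by
      rw [hf, Subgroup.normalizerMonoidHom_ker]
      exact fun g hg => Subgroup.le_centralizer _ hg
    rw [← Subgroup.index_ker]
    refine (Subgroup.index_dvd_of_le h1).trans ?_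
    have h2 := Subgroup.relIndex_mul_index (Subgroup.le_normalizer : (P : Subgroup G) ≤ N)
    have h3 := (P : Subgroup G).card_mul_index
    rw [hP, hG] at h3
    have h4 : (P : Subgroup G).index = q * r := Nat.eq_of_mul_eq_mul_left (pow_pos hp.pos _) h3
    rw [← h4, ← h2]
    exact dvd_mul_right _ _
  obtain ⟨l, hl, hld⟩ := Nat.exists_prime_and_dvd hne
  have hlqr : l = q ∨ l = r := by
    rcases hl.dvd_mul.mp (hld.trans hdvd) with h | h
    · exact Or.inl ((Nat.prime_dvd_prime_iff_eq hl hq).mp h)
    · exact Or.inr ((Nat.prime_dvd_prime_iff_eq hl hr).mp h)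
  have hlp := le_succ_of_prime_dvd_mulAut hp hl hP (hld.trans (Subgroup.card_subgroup_dvd_card _))
  have hl' : l = p + 1 := by omega
  have hp2 : p = 2 := by
    rcases hp.eq_two_or_odd with h | h
    · exact h
    · rcases hl.eq_two_or_odd with h' | h'
      · have := hp.two_le; omega
      · omega
  exact ⟨hp2, by omega⟩

theorem sq_case {G : Type*} [Group G] [Finite G] [IsSimpleGroup G] (p q : ℕ) (hp : p.Prime) (hq : q.Prime)
    (hpq : p ≠ q) (hna : ¬ IsMulCommutative G) (hG : Nat.card G = p ^ 2 * q ^ 2) : False := by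
  wlog hlt : p < q generalizing p q with H
  · exact H q p hq hp (Ne.symm hpq) (by rw [hG]; ring) (by omega)
  have hpm : ¬ p ∣ q * q := fun h =>
    hpq ((Nat.prime_dvd_prime_iff_eq hp hq).mp ((hp.dvd_mul.mp h).elim id id))
  obtain ⟨rfl, h3⟩ := small_prime p q q hp hq hq hlt hlt hna (by rw [hG]; ring) hpm
  have hq3 : q = 3 := h3.elim id id
  subst hq3
  haveI : Fact (Nat.Prime 3) := ⟨by norm_num⟩
  have h3G : 3 ∣ Nat.card G := by rw [hG]; norm_num
  have h1 := card_sylow_mem_filter (G := G) (p := 3) (a := 2) (m := 4) (by rw [hG]; norm_num) (by norm_num)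
  have h2 := card_sylow_ne_one (G := G) (p := 3) hna h3G
  have h4 := two_mul_card_dvd_factorial_card_sylow (G := G) (p := 3) hna h3G
  rw [show (Finset.range (4 + 1)).filter (fun d => 4 % d = 0 ∧ d % 3 = 1) = {1, 4} by decide +kernel] at h1
  simp only [Finset.mem_insert, Finset.mem_singleton] at h1
  rw [h1.resolve_left h2, hG] at h4
  norm_num [Nat.factorial] at h4

theorem sixty {G : Type*} [Group G] [Finite G] [IsSimpleGroup G] (r : ℕ) (hr : r.Prime) (h2 : 2 < r)
    (h3 : r ≠ 3) (hna : ¬ IsMulCommutative G) (hG : Nat.card G = 12 * r) : Nat.card G = 60 := by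
  haveI : Fact r.Prime := ⟨hr⟩
  have hfac : Nat.card G = r ^ 1 * 12 := by rw [hG]; ring
  have hr12 : ¬ r ∣ 12 := fun h => by
    have h12 := Nat.le_of_dvd (by norm_num) h
    interval_cases r <;> norm_num at *
  have hrG : r ∣ Nat.card G := by rw [hG]; exact dvd_mul_left _ _
  obtain ⟨R⟩ : Nonempty (Sylow r G) := inferInstance
  have hne := card_sylow_ne_one (p := r) hna hrG
  have hd := card_sylow_dvd_of_card_eq hfac hr12
  have hmod := mod_eq_one_card_sylow (G := G) (p := r)
  have hR := card_sylow_eq hfac hr12 R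
  have hN := card_sylow_mul_card_normalizer R
  set n := Nat.card (Sylow r G) with hn
  have hle := Nat.le_of_dvd (by norm_num) hd
  have hrn : r < n := by
    by_contra hge
    rcases Nat.lt_or_ge n r with h | h
    · rw [Nat.mod_eq_of_lt h] at hmod; exact hne hmod
    · rw [le_antisymm (by omega) h, Nat.mod_self] at hmod; omega
  have h5 : 5 ≤ r := by
    rcases Nat.lt_or_ge r 5 with h | h
    · interval_cases r <;> norm_num at *
    · exact h
  have hdiv := Nat.div_add_mod n r
  rw [hmod] at hdiv
  have hr11 : r ≤ 11 := by omega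
  have hn6 : n = 1 ∨ n = 2 ∨ n = 3 ∨ n = 4 ∨ n = 6 ∨ n = 12 := by
    have : n ∈ Nat.divisors 12 := Nat.mem_divisors.mpr ⟨hd, by norm_num⟩
    rw [show Nat.divisors 12 = {1, 2, 3, 4, 6, 12} by decide +kernel] at this
    simpa using this
  interval_cases r
  all_goals first
    | omega
    | (norm_num at hr; done)
    | skip
  -- r = 11 remains
  have h12 : n = 12 := by omega
  refine absurd ?_ (not_normalizer_le_centralizer hna hrG R)
  haveI : IsCyclic (R : Subgroup G) := isCyclic_of_prime_card (p := 11) (by rw [hR]; norm_num)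
  have hle' : Subgroup.normalizer ((R : Subgroup G) : Set G) = (R : Subgroup G) :=
    (Subgroup.eq_of_le_of_card_ge Subgroup.le_normalizer (by
      rw [hR]; rw [h12, hG] at hN; omega)).symm
  rw [hle']
  exact Subgroup.le_centralizer _

/-- If a finite simple group has order p^2 * q * r with p, q and r prime, then its order is 60. -/
theorem result {G : Type*} [Group G] [Finite G] [IsSimpleGroup G] (p q r : ℕ) (hp : p.Prime) (hq : q.Prime) (hr : r.Prime) (hG : Nat.card G = p ^ 2 * q * r) : Nat.card G = 60 := by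
  classical
  haveI : Fact p.Prime := ⟨hp⟩
  have hna : ¬ IsMulCommutative G := not_isMulCommutative_of_not_prime (by
    rw [hG]
    refine Nat.not_prime_of_dvd_of_lt (dvd_mul_of_dvd_left (dvd_mul_of_dvd_left (dvd_pow_self p (by norm_num : 2 ≠ 0)) q) r) hp.two_le ?_
    calc p = p * 1 * 1 := by ring
      _ < p ^ 2 * q * r := by
        rw [pow_two]
        have := hp.two_le; have := hq.two_le; have := hr.two_le
        nlinarith [Nat.mul_le_mul (Nat.mul_le_mul (Nat.mul_le_mul (le_refl p) hp.two_le) hq.two_le) hr.two_le])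
  -- a Sylow subgroup of prime order for the smallest prime is impossible
  have hmin : ∀ l : ℕ, l.Prime → l ∣ Nat.card G → (Nat.card G).minFac = l → ¬ ∀ L : Sylow l G, Nat.card (L : Subgroup G) = l := by
    intro l hl hld hlm hall
    haveI : Fact l.Prime := ⟨hl⟩
    obtain ⟨L⟩ : Nonempty (Sylow l G) := inferInstance
    exact not_normalizer_le_centralizer hna hld L
      (IsCyclic.normalizer_le_centralizer hlm (isCyclic_of_prime_card (p := l) (hall L)))
  have hpG : p ∣ Nat.card G := by rw [hG]; exact dvd_mul_of_dvd_left (dvd_mul_of_dvd_left (dvd_pow_self p (by norm_num)) q) r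
  -- p differs from q and r
  have hdist : ∀ u v : ℕ, u.Prime → v.Prime → Nat.card G = p ^ 2 * u * v → p ≠ u := by
    intro u v hu hv hG' hpu
    subst hpu
    haveI : Fact v.Prime := ⟨hv⟩
    by_cases hpv : p = v
    · subst hpv
      obtain ⟨P⟩ : Nonempty (Sylow p G) := inferInstance
      have hP : IsPGroup p G := IsPGroup.of_card (n := 4) (by rw [hG']; ring)
      haveI := P.2
      have := card_sylow_ne_one hna hpG
      refine this (card_sylow_eq_one_of_normal P ?_)
      have htop : (P : Subgroup G) = ⊤ := (P.3 (hP.to_subgroup ⊤) le_top).symm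
      rw [htop]; infer_instance
    · have hfac : Nat.card G = v ^ 1 * p ^ 3 := by rw [hG']; ring
      have hvp : ¬ v ∣ p ^ 3 := fun h => hpv ((Nat.prime_dvd_prime_iff_eq hv hp).mp (hv.dvd_of_dvd_pow h)).symm
      have hsol : Nat.card (Sylow v G) ∣ p ^ 3 := card_sylow_dvd_of_card_eq hfac hvp
      have hne := card_sylow_ne_one (p := v) hna (by rw [hfac]; exact dvd_mul_of_dvd_left (dvd_pow_self v (by norm_num)) _)
      have hmod := mod_eq_one_card_sylow (G := G) (p := v)
      have hfac' : Nat.card G = p ^ 3 * v := by rw [hG']; ring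
      have hpv' : ¬ p ∣ v := fun h => hpv ((Nat.prime_dvd_prime_iff_eq hp hv).mp h)
      have hnp : Nat.card (Sylow p G) = v := ((Nat.dvd_prime hv).mp (card_sylow_dvd_of_card_eq hfac' hpv')).resolve_left
        (card_sylow_ne_one hna hpG)
      have hpm := mod_eq_one_card_sylow (G := G) (p := p)
      rw [hnp] at hpm
      have hpv2 : p < v := by
        rcases Nat.lt_or_ge p v with h | h
        · exact h
        · have h' : v < p := lt_of_le_of_ne h (Ne.symm hpv)
          rw [Nat.mod_eq_of_lt h'] at hpm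
          exact absurd hpm hv.ne_one
      obtain ⟨i, hi, hn⟩ := (Nat.dvd_prime_pow hp).mp hsol
      rw [hn] at hmod hne
      have hp2 := hp.two_le
      interval_cases i
      · exact hne (pow_zero p)
      · rw [pow_one, Nat.mod_eq_of_lt hpv2] at hmod; omega
      · have h1 : v ∣ p ^ 2 - 1 := ⟨p ^ 2 / v, by have := Nat.div_add_mod (p ^ 2) v; omega⟩
        rw [show p ^ 2 - 1 = (p - 1) * (p + 1) by
          obtain ⟨k, rfl⟩ : ∃ k, p = k + 1 := ⟨p - 1, by omega⟩
          simp only [Nat.add_sub_cancel]
          have : (k + 1) ^ 2 = k * (k + 1 + 1) + 1 := by ring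
          omega] at h1
        rcases hv.dvd_mul.mp h1 with h | h
        · have := Nat.le_of_dvd (by omega) h; omega
        · have h3 := Nat.le_of_dvd (by omega) h
          have hv' : v = p + 1 := by omega
          have hp2' : p = 2 := by
            rcases hp.eq_two_or_odd with h' | h'
            · exact h'
            · rcases hv.eq_two_or_odd with h'' | h'' <;> omega
          subst hp2'
          subst hv'
          have := two_mul_card_dvd_factorial_card_sylow (G := G) (p := 2) hna hpG
          rw [hnp, hfac'] at this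
          norm_num [Nat.factorial] at this
      · -- all elements outside a Sylow p-subgroup have order v: then it is normal
        obtain ⟨V⟩ : Nonempty (Sylow v G) := inferInstance
        have hV : Nat.card (Subgroup.normalizer ((V : Subgroup G) : Set G)) = v := by
          have := card_sylow_mul_card_normalizer V
          rw [hn, hfac'] at this
          exact Nat.eq_of_mul_eq_mul_left (pow_pos hp.pos _) this
        apply not_normalizer_le_centralizer (p := v) hna (by rw [hfac]; exact dvd_mul_of_dvd_left (dvd_pow_self v (by norm_num)) _) V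
        intro g hg
        have hle : (V : Subgroup G) = Subgroup.normalizer ((V : Subgroup G) : Set G) :=
          Subgroup.eq_of_le_of_card_ge Subgroup.le_normalizer (by rw [hV, card_sylow_eq hfac hvp V, pow_one])
        haveI : IsCyclic (V : Subgroup G) := isCyclic_of_prime_card (p := v) (by rw [card_sylow_eq hfac hvp V, pow_one])
        exact Subgroup.le_centralizer _ (hle ▸ hg)
  have hpq : p ≠ q := hdist q r hq hr hG
  have hpr : p ≠ r := hdist r q hr hq (by rw [hG]; ring)
  have hqr : q ≠ r := by
    intro h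
    subst h
    -- two squares: the smaller prime is p or q, and the argument below applies to it
    exact sq_case p q hp hq hpq hna (by rw [hG]; ring)
  -- Sylow subgroups for q and r have prime order
  have hprime : ∀ u v : ℕ, u.Prime → v.Prime → p ≠ u → u ≠ v → Nat.card G = p ^ 2 * u * v →
      ∀ L : Sylow u G, Nat.card (L : Subgroup G) = u := by
    intro u v hu hv hpu huv hG' L
    haveI : Fact u.Prime := ⟨hu⟩
    simpa using card_sylow_eq (a := 1) (m := p ^ 2 * v) (by rw [hG']; ring) (fun h => by
      rcases hu.dvd_mul.mp h with h | h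
      · exact hpu ((Nat.prime_dvd_prime_iff_eq hu hp).mp (hu.dvd_of_dvd_pow h)).symm
      · exact huv ((Nat.prime_dvd_prime_iff_eq hu hv).mp h)) L
  obtain ⟨hqp, hrp⟩ : p < q ∧ p < r := by
    have h0 : Nat.card G ≠ 1 := (Finite.one_lt_card_iff_nontrivial.mpr IsSimpleGroup.toNontrivial).ne'
    have hm := Nat.minFac_prime h0
    have hle : ∀ l, l.Prime → l ∣ Nat.card G → (Nat.card G).minFac ≤ l := fun l hl hd => Nat.minFac_le_of_dvd hl.two_le hd
    have hqG : q ∣ Nat.card G := by rw [hG]; exact dvd_mul_of_dvd_left (dvd_mul_left _ _) _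
    have hrG : r ∣ Nat.card G := by rw [hG]; exact dvd_mul_left _ _
    have hne1 : (Nat.card G).minFac ≠ q := fun h => hmin q hq hqG h (hprime q r hq hr hpq hqr hG)
    have hne2 : (Nat.card G).minFac ≠ r := fun h => hmin r hr hrG h (hprime r q hr hq hpr (Ne.symm hqr) (by rw [hG]; ring))
    have hmp : (Nat.card G).minFac = p := by
      have hd := Nat.minFac_dvd (Nat.card G)
      generalize (Nat.card G).minFac = mm at hm hd hne1 hne2
      rw [hG] at hd
      rcases hm.dvd_mul.mp hd with h | h
      · rcases hm.dvd_mul.mp h with h | h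
        · exact (Nat.prime_dvd_prime_iff_eq hm hp).mp (hm.dvd_of_dvd_pow h)
        · exact absurd ((Nat.prime_dvd_prime_iff_eq hm hq).mp h) hne1
      · exact absurd ((Nat.prime_dvd_prime_iff_eq hm hr).mp h) hne2
    have := hle q hq hqG; have := hle r hr hrG
    omega
  have hpm : ¬ p ∣ q * r := fun h => by
    rcases hp.dvd_mul.mp h with h | h
    · exact hpq ((Nat.prime_dvd_prime_iff_eq hp hq).mp h)
    · exact hpr ((Nat.prime_dvd_prime_iff_eq hp hr).mp h)
  obtain ⟨h2, h3⟩ := small_prime p q r hp hq hr hqp hrp hna (by rw [hG]; ring) hpm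
  subst h2
  rcases h3 with rfl | rfl
  · exact sixty r hr (by omega) (Ne.symm hqr) hna (by rw [hG]; ring)
  · exact sixty q hq (by omega) hqr hna (by rw [hG]; ring)

end Cfsg.Agent.S0988
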