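import Cfsg.Statements.S0989
import Cfsg.Agent.Lib.SmallGroups.PrimeDegree

set_option autoImplicit false
open Cfsg

namespace Cfsg.Agent.S0989

/-- In the symmetric group on p or p + 1 letters, p a prime, the normalizer of a Sylow p-subgroup has order p * (p - 1). -/
theorem result {α : Type*} [Fintype α] [DecidableEq α] (p : ℕ) [Fact p.Prime] (hα : Fintype.card α = p ∨ Fintype.card α = p + 1) (P : Sylow p (Equiv.Perm α)) : Nat.card ↥(Subgroup.normalizer ((P : Subgroup (Equiv.Perm α)) : Set (Equiv.Perm α))) = p * (p - 1) := by
  have hp : p.Prime := Fact.out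
  have h2 := hp.two_le
  have hn : Fintype.card α < 2 * p := by omega
  have hnd : ¬ p ∣ (p - 1).factorial := by rw [hp.dvd_factorial]; omega
  have hP : Nat.card (P : Subgroup (Equiv.Perm α)) = p := by
    rcases hα with h | h
    · have := CfsgLib.SmallGroups.card_sylow_eq (p := p) (a := 1) (m := (p - 1).factorial)
        (by rw [Nat.card_perm, Nat.card_eq_fintype_card, h, pow_one,
              Nat.mul_factorial_pred hp.ne_zero]) hnd P
      simpa using this
    · have := CfsgLib.SmallGroups.card_sylow_eq (p := p) (a := 1) (m := (p + 1) * (p - 1).factorial)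
        (by rw [Nat.card_perm, Nat.card_eq_fintype_card, h, pow_one, Nat.factorial_succ,
              ← Nat.mul_factorial_pred hp.ne_zero]; ring)
        (by rw [hp.dvd_mul, not_or]
            refine ⟨fun hd => ?_, hnd⟩
            exact hp.ne_one (Nat.dvd_one.mp ((Nat.dvd_add_right (dvd_refl p)).mp hd))) P
      simpa using this
  rw [CfsgLib.SmallGroups.card_normalizer_perm hn hP]
  rcases hα with h | h <;> rw [h] <;> simp [Nat.mul_comm]

end Cfsg.Agent.S0989
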