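import Cfsg.Statements.S0990
import Cfsg.Agent.Lib.SmallGroups.Basic
import Mathlib

set_option autoImplicit false
open Cfsg

namespace Cfsg.Agent.S0990

/-- Let p be an odd prime and P a Sylow p-subgroup of the symmetric group on a finite set with at least two elements. Then P is contained in the alternating group, and twice the order of the normalizer of P inside the alternating group equals the order of the normalizer of P in the symmetric group. -/
theorem result {α : Type*} [Fintype α] [DecidableEq α] (hα : 2 ≤ Fintype.card α) (p : ℕ) [Fact p.Prime] (hp : p ≠ 2) (P : Sylow p (Equiv.Perm α)) : (P : Subgroup (Equiv.Perm α)) ≤ alternatingGroup α ∧ 2 * Nat.card ↥(Subgroup.normalizer ((((P : Subgroup (Equiv.Perm α)).subgroupOf (alternatingGroup α) : Subgroup ↥(alternatingGroup α)) : Set ↥(alternatingGroup α)))) = Nat.card ↥(Subgroup.normalizer ((P : Subgroup (Equiv.Perm α)) : Set (Equiv.Perm α))) := by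
  classical
  haveI : Nontrivial α := Fintype.one_lt_card_iff_nontrivial.mp hα
  have hle : (P : Subgroup (Equiv.Perm α)) ≤ alternatingGroup α := by
    intro g hg
    rw [Equiv.Perm.mem_alternatingGroup]
    obtain ⟨k, hk⟩ := P.2 ⟨g, hg⟩
    have hk' : g ^ p ^ k = 1 := congrArg Subtype.val hk
    have h1 := congrArg Equiv.Perm.sign hk'
    rw [map_pow, map_one] at h1
    rcases Int.units_eq_one_or (Equiv.Perm.sign g) with h | h
    · exact h
    · rw [h, Odd.neg_one_pow ((Fact.out : p.Prime).odd_of_ne_two hp).pow] at h1
      exact absurd h1 (by decide)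
  refine ⟨hle, ?_⟩
  set A := alternatingGroup α
  set N := Subgroup.normalizer ((P : Subgroup (Equiv.Perm α)) : Set (Equiv.Perm α)) with hN
  have h1 : Subgroup.normalizer ((((P : Subgroup (Equiv.Perm α)).subgroupOf A : Subgroup A) : Set A)) =
      N.subgroupOf A := by
    ext g
    rw [Subgroup.mem_subgroupOf]
    constructor
    · intro hg x
      constructor
      · intro hx
        exact (hg ⟨x, hle hx⟩).mp hx
      · intro hx
        have hxA : x ∈ A := by
          have := mul_mem (mul_mem (inv_mem g.2) (hle hx)) g.2
          simpa [mul_assoc] using this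
        exact (hg ⟨x, hxA⟩).mpr hx
    · intro hg x
      exact hg (x : Equiv.Perm α)
  rw [h1]
  have hNA : Nat.card (N.subgroupOf A) = Nat.card (A.subgroupOf N) := by
    rw [← Subgroup.inf_subgroupOf_right N A, Nat.card_congr (Subgroup.subgroupOfEquivOfLe (inf_le_right : N ⊓ A ≤ A)).toEquiv,
      ← Subgroup.inf_subgroupOf_right A N, inf_comm A N,
      Nat.card_congr (Subgroup.subgroupOfEquivOfLe (inf_le_left : N ⊓ A ≤ N)).toEquiv]
  rw [hNA]
  have hne : ¬ N ≤ A := by
    intro hNA
    have hfr := Sylow.normalizer_sup_eq_top' P hle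
    have : A = ⊤ := by
      rw [eq_top_iff, ← hfr]
      exact sup_le hNA le_rfl
    have h2 := two_mul_nat_card_alternatingGroup (α := α)
    rw [show Nat.card (alternatingGroup α) = Nat.card A from rfl, this, Subgroup.card_top] at h2
    have := Nat.card_pos (α := Equiv.Perm α)
    omega
  have hidx : (A.subgroupOf N).index = 2 := by
    have hd : (A.subgroupOf N).index ∣ 2 := by
      have h3 : A.index = 2 := alternatingGroup.index_eq_two
      rw [← h3]
      exact Subgroup.relIndex_dvd_index_of_normal A N
    rcases (Nat.dvd_prime Nat.prime_two).mp hd with e | e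
    · exact absurd (Subgroup.relIndex_eq_one.mp e) hne
    · exact e
  have h4 := (A.subgroupOf N).card_mul_index
  rw [hidx] at h4
  rw [← h4, mul_comm]

end Cfsg.Agent.S0990
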