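import Cfsg.Statements.S0994
import Cfsg.Agent.Lib.SmallGroups.PrimeDegree

set_option autoImplicit false
open Cfsg

namespace Cfsg.Agent.S0994

open CfsgLib.SmallGroups

/-- No finite simple group has order 1188 = 2^2 * 3^3 * 11. -/
theorem result {G : Type*} [Group G] [Finite G] [IsSimpleGroup G] : Nat.card G ≠ 1188 := by
  intro hG
  haveI : Fact (Nat.Prime 11) := ⟨by norm_num⟩
  have hna : ¬ IsMulCommutative G := not_isMulCommutative_of_not_prime (by rw [hG]; norm_num)
  have hfac : Nat.card G = 11 ^ 1 * 108 := by rw [hG]; norm_num
  obtain ⟨P⟩ : Nonempty (Sylow 11 G) := inferInstance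
  have hP : Nat.card (P : Subgroup G) = 11 := by
    simpa using card_sylow_eq hfac (by norm_num) P
  have hdvd : 11 ∣ Nat.card G := by rw [hG]; norm_num
  have hn : Nat.card (Sylow 11 G) = 12 := by
    have h1 := card_sylow_mem_filter (G := G) (p := 11) hfac (by norm_num)
    have h2 := card_sylow_ne_one (G := G) (p := 11) hna hdvd
    have h3 : (Finset.range (108 + 1)).filter (fun d => 108 % d = 0 ∧ d % 11 = 1) = {1, 12} := by decide +kernel
    rw [h3] at h1
    simp only [Finset.mem_insert, Finset.mem_singleton] at h1
    omega
  set N := Subgroup.normalizer ((P : Subgroup G) : Set G) with hNdef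
  have hN : Nat.card N = 99 := by
    have := card_sylow_mul_card_normalizer P
    rw [hn, hG] at this
    rw [hNdef]
    omega
  obtain ⟨f, hf⟩ := exists_injective_alternating hna N (normalizer_sylow_ne_top hna hdvd P)
  set g := (alternatingGroup (Fin N.index)).subtype.comp f
  have hg : Function.Injective g := Subtype.val_injective.comp hf
  have hi : N.index = 12 := (card_sylow_eq_index P).symm.trans hn
  have hgr : Function.Injective g.rangeRestrict := MonoidHom.rangeRestrict_injective_iff.mpr hg
  have h2 := card_normalizer_dvd_perm (p := 11) (α := Fin N.index) (G := g.range)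
    (by rw [Fintype.card_fin, hi]; norm_num) (P := (P : Subgroup G).map g.rangeRestrict)
    ((Subgroup.card_map_of_injective hgr).trans hP)
  have h3 : Nat.card N ∣ (11 - 1) * ((Fintype.card (Fin N.index) - 11).factorial * 11) := by
    refine dvd_trans ?_ h2
    rw [← Subgroup.card_map_of_injective (K := N) hgr]
    exact Subgroup.card_dvd_of_le (Subgroup.le_normalizer_map _)
  rw [Fintype.card_fin, hi, hN] at h3
  norm_num [Nat.factorial] at h3

end Cfsg.Agent.S0994
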