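import Cfsg.Statements.S0995
import Mathlib
import Cfsg.Agent.Lib.SmallGroups.Basic

set_option autoImplicit false
open Cfsg

namespace Cfsg.Agent.S0995

/-- Let G be a finite perfect group containing an element z of prime order p whose centralizer is the cyclic group it generates. Let t be the number of conjugacy classes of elements of order p. Then t divides p - 1, the number of Sylow p-subgroups has the form 1 + n * p, and |G| * t = (p - 1) * p * (1 + n * p). -/
theorem result {G : Type*} [Group G] [Finite G] (hperf : commutator G = ⊤) (p : ℕ) [Fact p.Prime] (z : G) (hz : orderOf z = p) (hC : Subgroup.centralizer ({z} : Set G) = Subgroup.zpowers z) : ∃ n t : ℕ, t = Nat.card {c : ConjClasses G // ∃ g : G, ConjClasses.mk g = c ∧ orderOf g = p} ∧ t ∣ p - 1 ∧ Nat.card (Sylow p G) = 1 + n * p ∧ Nat.card G * t = (p - 1) * p * (1 + n * p) := by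
  classical
  have hp : p.Prime := Fact.out
  haveI := Fintype.ofFinite G
  set P := Subgroup.zpowers z with hPdef
  have hPc : Nat.card P = p := by rw [hPdef, Nat.card_zpowers, hz]
  obtain ⟨Q, hQ⟩ := (IsPGroup.of_card (n := 1) (by rw [hPc, pow_one]) : IsPGroup p P).exists_le_sylow
  -- the Sylow subgroups have order `p`
  have hQP : (Q : Subgroup G) = P := by
    refine le_antisymm ?_ hQ
    haveI : Nontrivial (Q : Subgroup G) := by
      refine ⟨⟨⟨z, hQ (Subgroup.mem_zpowers z)⟩, 1, fun e => ?_⟩⟩
      have : z = 1 := congrArg Subtype.val e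
      rw [this, orderOf_one] at hz
      exact hp.ne_one hz.symm
    haveI := Q.2.center_nontrivial
    obtain ⟨⟨⟨w, hwQ⟩, hwc⟩, hw1⟩ := exists_ne (1 : Subgroup.center (Q : Subgroup G))
    have hwz : w ∈ Subgroup.centralizer ({z} : Set G) := by
      rw [Subgroup.mem_centralizer_singleton_iff]
      exact (congrArg Subtype.val (Subgroup.mem_center_iff.mp hwc ⟨z, hQ (Subgroup.mem_zpowers z)⟩)).symm
    rw [hC] at hwz
    have hw0 : w ≠ 1 := fun e => hw1 (Subtype.ext (Subtype.ext e))
    have hwgen : Subgroup.zpowers w = P := by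
      refine Subgroup.eq_of_le_of_card_ge (Subgroup.zpowers_le.mpr hwz) ?_
      rw [hPc, Nat.card_zpowers]
      have hd : orderOf w ∣ p := (Subgroup.orderOf_dvd_natCard _ hwz).trans (dvd_of_eq hPc)
      rw [((Nat.dvd_prime hp).mp hd).resolve_left fun h => hw0 (orderOf_eq_one_iff.mp h)]
    intro q hq
    have hqw : w ∈ Subgroup.centralizer ({q} : Set G) := by
      rw [Subgroup.mem_centralizer_singleton_iff]
      exact (congrArg Subtype.val (Subgroup.mem_center_iff.mp hwc ⟨q, hq⟩)).symm
    have hzq : z ∈ Subgroup.centralizer ({q} : Set G) := by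
      have hle : Subgroup.zpowers w ≤ Subgroup.centralizer ({q} : Set G) :=
        Subgroup.zpowers_le.mpr hqw
      rw [hwgen] at hle
      exact hle (Subgroup.mem_zpowers z)
    show q ∈ P
    rw [← hC, Subgroup.mem_centralizer_singleton_iff]
    exact (Subgroup.mem_centralizer_singleton_iff.mp hzq).symm
  have hS : ∀ R : Sylow p G, Nat.card (R : Subgroup G) = p := fun R => by
    rw [R.card_eq_multiplicity, ← Q.card_eq_multiplicity, hQP, hPc]
  have hgen : ∀ (R : Sylow p G) (x : G), x ∈ (R : Subgroup G) → orderOf x = p →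
      Subgroup.zpowers x = R := fun R x hx hox =>
    Subgroup.eq_of_le_of_card_ge (Subgroup.zpowers_le.mpr hx) (by rw [hS, Nat.card_zpowers, hox])
  have hex : ∀ x : G, orderOf x = p → ∃ R : Sylow p G, x ∈ (R : Subgroup G) := fun x hx => by
    obtain ⟨R, hR⟩ := (IsPGroup.of_card (n := 1) (by rw [Nat.card_zpowers, hx, pow_one]) :
      IsPGroup p (Subgroup.zpowers x)).exists_le_sylow
    exact ⟨R, hR (Subgroup.mem_zpowers x)⟩
  -- centralisers
  have hcent : ∀ x : G, orderOf x = p → Nat.card (Subgroup.centralizer ({x} : Set G)) = p := by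
    intro x hx
    obtain ⟨R, hR⟩ := hex x hx
    obtain ⟨g, hg⟩ := MulAction.exists_smul_eq G Q R
    have hxz : g⁻¹ * x * g ∈ (Q : Subgroup G) := by
      rw [← hg, Sylow.coe_subgroup_smul, Subgroup.mem_pointwise_smul_iff_inv_smul_mem] at hR
      simpa [MulAut.smul_def, MulAut.conj_inv_apply] using hR
    have hord : orderOf (g⁻¹ * x * g) = p := by
      rw [← hx]
      simpa [MulAut.conj_apply] using (MulAut.conj g⁻¹).orderOf_eq x
    have hzp : Subgroup.zpowers (g⁻¹ * x * g) = P := (hgen Q _ hxz hord).trans hQP
    have he : Subgroup.centralizer ({g⁻¹ * x * g} : Set G) = P := by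
      refine le_antisymm (fun q hq => ?_) ?_
      · show q ∈ P
        rw [← hC, Subgroup.mem_centralizer_singleton_iff]
        have hle : Subgroup.zpowers (g⁻¹ * x * g) ≤ Subgroup.centralizer ({q} : Set G) :=
          Subgroup.zpowers_le.mpr (Subgroup.mem_centralizer_singleton_iff.mpr
            (Subgroup.mem_centralizer_singleton_iff.mp hq).symm)
        rw [hzp] at hle
        exact (Subgroup.mem_centralizer_singleton_iff.mp (hle (Subgroup.mem_zpowers z))).symm
      · rw [← hzp, Subgroup.zpowers_le, Subgroup.mem_centralizer_singleton_iff]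
    rw [← hPc, ← he]
    refine Nat.card_congr ((MulAut.conj g⁻¹).toEquiv.subtypeEquiv fun q => ?_)
    simp only [Subgroup.mem_centralizer_singleton_iff, MulEquiv.toEquiv_eq_coe, EquivLike.coe_coe,
      MulAut.conj_apply, inv_inv]
    constructor
    · intro h
      calc g⁻¹ * q * g * (g⁻¹ * x * g) = g⁻¹ * (q * x) * g := by group
        _ = g⁻¹ * (x * q) * g := by rw [h]
        _ = g⁻¹ * x * g * (g⁻¹ * q * g) := by group
    · intro h
      calc q * x = g * (g⁻¹ * q * g * (g⁻¹ * x * g)) * g⁻¹ := by group
        _ = g * (g⁻¹ * x * g * (g⁻¹ * q * g)) * g⁻¹ := by rw [h]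
        _ = x * q := by group
  -- counting the elements by Sylow subgroups
  set E := {x : G // orderOf x = p}
  have hE : Nat.card E = Nat.card (Sylow p G) * (p - 1) := by
    let f : E → Sylow p G := fun x => (hex x.1 x.2).choose
    have hfib : ∀ R, Nat.card {x : E // f x = R} = p - 1 := by
      intro R
      have e : {x : E // f x = R} ≃ {x : (R : Subgroup G) // x ≠ 1} :=
        { toFun := fun x => ⟨⟨x.1.1, by
            have h : x.1.1 ∈ ((f x.1 : Sylow p G) : Subgroup G) := (hex x.1.1 x.1.2).choose_spec
            rwa [x.2] at h⟩, fun e => by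
            have h1 : x.1.1 = 1 := congrArg Subtype.val e
            have h2 := x.1.2
            rw [h1, orderOf_one] at h2
            exact hp.ne_one h2.symm⟩
          invFun := fun x => ⟨⟨x.1.1, by
              have hd : orderOf x.1.1 ∣ p :=
                (Subgroup.orderOf_dvd_natCard _ x.1.2).trans (dvd_of_eq (hS R))
              exact ((Nat.dvd_prime hp).mp hd).resolve_left fun h =>
                x.2 (Subtype.ext (orderOf_eq_one_iff.mp h))⟩, by
              have hx : orderOf x.1.1 = p := by
                have hd : orderOf x.1.1 ∣ p :=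
                  (Subgroup.orderOf_dvd_natCard _ x.1.2).trans (dvd_of_eq (hS R))
                exact ((Nat.dvd_prime hp).mp hd).resolve_left fun h =>
                  x.2 (Subtype.ext (orderOf_eq_one_iff.mp h))
              apply Sylow.ext
              rw [← hgen _ _ (hex x.1.1 hx).choose_spec hx, hgen R _ x.1.2 hx]⟩
          left_inv := fun x => rfl
          right_inv := fun x => rfl }
      rw [Nat.card_congr e, Nat.card_eq_fintype_card, Fintype.card_subtype_compl,
        Fintype.card_subtype_eq, ← Nat.card_eq_fintype_card, hS]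
    rw [Nat.card_congr (Equiv.sigmaFiberEquiv f).symm, Nat.card_sigma,
      Finset.sum_congr rfl fun R _ => hfib R, Finset.sum_const, Finset.card_univ,
      ← Nat.card_eq_fintype_card, smul_eq_mul]
  -- counting them by classes
  set T := {c : ConjClasses G // ∃ g : G, ConjClasses.mk g = c ∧ orderOf g = p}
  have hT : Nat.card E * p = Nat.card T * Nat.card G := by
    let f : E → T := fun x => ⟨ConjClasses.mk x.1, x.1, rfl, x.2⟩
    have hfib : ∀ c : T, Nat.card {x : E // f x = c} * p = Nat.card G := by
      rintro ⟨c, g, rfl, hg⟩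
      have e : {x : E // f x = ⟨ConjClasses.mk g, g, rfl, hg⟩} ≃
          MulAction.orbit (ConjAct G) g :=
        { toFun := fun x => ⟨x.1.1, by
            rw [ConjAct.mem_orbit_conjAct]
            exact ConjClasses.mk_eq_mk_iff_isConj.mp (congrArg Subtype.val x.2)⟩
          invFun := fun x => ⟨⟨x.1, by
              obtain ⟨u, hu⟩ := x.2
              rw [← hu]
              show orderOf (u • g) = p
              rw [ConjAct.smul_def, ← hg]
              exact (MulAut.conj (ConjAct.ofConjAct u)).orderOf_eq g⟩,
            Subtype.ext (ConjClasses.mk_eq_mk_iff_isConj.mpr (ConjAct.mem_orbit_conjAct.mp x.2))⟩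
          left_inv := fun x => rfl
          right_inv := fun x => rfl }
      rw [Nat.card_congr e, Nat.card_coe_set_eq, ← MulAction.index_stabilizer]
      have h1 : Nat.card (MulAction.stabilizer (ConjAct G) g) = p := by
        rw [← hcent g hg]
        exact (Subgroup.nat_card_centralizer_nat_card_stabilizer g).symm
      have h2 := Subgroup.card_mul_index (MulAction.stabilizer (ConjAct G) g)
      rw [h1, Nat.card_congr (ConjAct.ofConjAct (G := G)).toEquiv] at h2
      rw [mul_comm, h2]
    rw [Nat.card_congr (Equiv.sigmaFiberEquiv f).symm, Nat.card_sigma, Finset.sum_mul,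
      Finset.sum_congr rfl fun c _ => hfib c, Finset.sum_const, Finset.card_univ,
      ← Nat.card_eq_fintype_card, smul_eq_mul]
  obtain ⟨n, hn⟩ : ∃ n, Nat.card (Sylow p G) = 1 + n * p := by
    have h := CfsgLib.SmallGroups.mod_eq_one_card_sylow (p := p) (G := G)
    have h' := Nat.div_add_mod (Nat.card (Sylow p G)) p
    exact ⟨Nat.card (Sylow p G) / p, by rw [h] at h'; rw [mul_comm]; omega⟩
  have hmain : Nat.card G * Nat.card T = (p - 1) * p * (1 + n * p) := by
    rw [mul_comm, ← hT, hE, hn]; ring
  refine ⟨n, Nat.card T, rfl, ?_, hn, hmain⟩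
  have hN := CfsgLib.SmallGroups.card_sylow_mul_card_normalizer Q
  have hpN : p ∣ Nat.card (Subgroup.normalizer ((Q : Subgroup G) : Set G)) := by
    exact (dvd_of_eq (hS Q).symm).trans (Subgroup.card_dvd_of_le Subgroup.le_normalizer)
  obtain ⟨e, he⟩ := hpN
  rw [he] at hN
  refine ⟨e, Nat.eq_of_mul_eq_mul_right (show 0 < p * (1 + n * p) by
    have := hp.pos; positivity) ?_⟩
  rw [← hN, hn] at hmain
  linarith

end Cfsg.Agent.S0995
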