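import Cfsg.Statements.S0998
import Mathlib
import Cfsg.Agent.S0494
import Cfsg.Agent.S0253
import Cfsg.Agent.Lib.SmallGroups.BrauerFew.Tuan
import Cfsg.Agent.Lib.Classical.Dickson.MinIndex

set_option autoImplicit false
open Cfsg

namespace Cfsg.Agent.S0998

theorem odd_part {R a b : ℕ} (hR : ¬ 2 ∣ R) : ∀ {c : ℕ}, ¬ 2 ∣ c → R * 2 ^ b = 2 ^ a * c → R = c ∧ b = a := by
  intro c hc h
  rcases lt_trichotomy a b with hab | rfl | hab
  · exfalso
    obtain ⟨k, rfl⟩ : ∃ k, b = a + 1 + k := ⟨b - a - 1, by omega⟩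
    apply hc
    refine ⟨R * 2 ^ k, Nat.eq_of_mul_eq_mul_left (Nat.two_pow_pos a) ?_⟩
    rw [← h, pow_add, pow_succ]; ring
  · exact ⟨Nat.eq_of_mul_eq_mul_left (Nat.two_pow_pos a) (by rw [← h, mul_comm]), rfl⟩
  · exfalso
    obtain ⟨k, rfl⟩ : ∃ k, a = b + 1 + k := ⟨a - b - 1, by omega⟩
    apply hR
    refine ⟨c * 2 ^ k, Nat.eq_of_mul_eq_mul_left (Nat.two_pow_pos b) ?_⟩
    rw [mul_comm _ R, h, pow_add, pow_succ]; ring

theorem three_dvd_pow (k : ℕ) : (3 ∣ 2 ^ k + 1 ∧ k % 2 = 1) ∨ (3 ∣ 2 ^ k - 1 ∧ k % 2 = 0) := by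
  induction k with
  | zero => exact Or.inr ⟨by norm_num, rfl⟩
  | succ k ih =>
    have := Nat.two_pow_pos k
    rw [pow_succ]
    rcases ih with ⟨h, hk⟩ | ⟨h, hk⟩
    · exact Or.inr ⟨by omega, by omega⟩
    · exact Or.inl ⟨by omega, by omega⟩

theorem eq_two {R q b a c : ℕ} (hR : R.Prime) (hq : q.Prime) (hqR : q ≠ R) (ha : 2 ≤ a)
    (hP : R * q ^ b = 2 ^ a * c) : q = 2 := by
  by_contra hq2
  have h4 : 2 * 2 ∣ R * q ^ b := hP ▸ Dvd.dvd.mul_right (pow_dvd_pow 2 ha) c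
  have hodd : ¬ 2 ∣ q ^ b := fun h =>
    hq2 ((Nat.prime_dvd_prime_iff_eq Nat.prime_two hq).mp (Nat.prime_two.dvd_of_dvd_pow h)).symm
  rcases Nat.prime_two.dvd_mul.mp ((dvd_mul_right 2 2).trans h4) with h | h
  · obtain rfl := (Nat.prime_dvd_prime_iff_eq Nat.prime_two hR).mp h
    exact hodd (Nat.dvd_of_mul_dvd_mul_left two_pos h4)
  · exact hodd h

open CfsgLib.Classical in
theorem core {G : Type*} [Group G] [Fintype G] [IsSimpleGroup G] (hna : ¬ IsMulCommutative G) {P R q b : ℕ}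
    (hP : P.Prime) (hR : R.Prime) (hq : q.Prime) (hPq : P ≠ q) (hRq : R ≠ q) (hRP : R < P)
    (hG : Nat.card G = P * R * q ^ b) :
    (∃ (F : Type) (_ : Field F) (_ : Fintype F), Fintype.card F = 5 ∧ Nonempty (G ≃* Matrix.ProjectiveSpecialLinearGroup (Fin 2) F)) ∨ (∃ (F : Type) (_ : Field F) (_ : Fintype F), Fintype.card F = 7 ∧ Nonempty (G ≃* Matrix.ProjectiveSpecialLinearGroup (Fin 2) F)) := by
  haveI : Fact P.Prime := ⟨hP⟩
  by_cases hg : R < P - 1
  swap
  · exfalso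
    have := hR.two_le
    obtain rfl : R = 2 := by
      rcases hR.eq_two_or_odd with h | h
      · exact h
      · rcases hP.eq_two_or_odd with h' | h' <;> omega
    obtain rfl : P = 3 := by omega
    haveI : Fact (Nat.Prime 2) := ⟨Nat.prime_two⟩
    have hq2 : ¬ 2 ∣ 3 * q ^ b := fun h => (Nat.prime_two.dvd_mul.mp h).elim (by norm_num)
      fun h => hRq ((Nat.prime_dvd_prime_iff_eq Nat.prime_two hq).mp (Nat.prime_two.dvd_of_dvd_pow h))
    obtain ⟨T⟩ : Nonempty (Sylow 2 G) := inferInstance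
    have hT : Nat.card (T : Subgroup G) = 2 := by
      rw [T.card_eq_multiplicity, hG, show 3 * 2 * q ^ b = 2 * (3 * q ^ b) by ring,
        Nat.factorization_mul two_ne_zero (fun h => hq2 (by rw [h]; exact dvd_zero 2)), Finsupp.coe_add,
        Pi.add_apply, Nat.prime_two.factorization_self, Nat.factorization_eq_zero_of_not_dvd hq2, add_zero, pow_one]
    exact CfsgLib.SmallGroups.not_normalizer_le_centralizer hna (hT ▸ Subgroup.card_subgroup_dvd_card _) T
      (Subgroup.relIndex_eq_one.mp (Nat.dvd_one.mp (CfsgLib.Blocks.PrimeSylow.relIndex_dvd T hT)))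
  obtain ⟨h3, ⟨m, hm⟩, ⟨F, iF, iF', hF, ⟨e⟩⟩ | ⟨m', F, iF, iF', hF, hm', ⟨e⟩⟩⟩ :=
    CfsgLib.SmallGroups.BrauerFew.tuan hna hq hPq (b := b) (g₀ := R) (by rw [hG]; ring) hg
  · have hord := Dickson.gcd_mul_card_PSL hF
    rw [← Nat.card_congr e.toEquiv, hG, Nat.gcd_eq_left (show 2 ∣ P - 1 by
      rcases hP.eq_two_or_odd with h | h <;> omega)] at hord
    have h0 : 2 * (R * q ^ b) = (P - 1) * (P + 1) := by
      apply Nat.eq_of_mul_eq_mul_left hP.pos
      rw [← hord]; ring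
    have hm2 : 2 ≤ m := by
      by_contra h
      have := Nat.pow_le_pow_right two_pos (show m ≤ 1 by omega)
      omega
    obtain ⟨k, rfl⟩ : ∃ k, m = k + 2 := ⟨m - 2, by omega⟩
    have hk1 : 2 ^ (k + 2) = 4 * 2 ^ k := by rw [pow_add]; ring
    have hk2 : 2 ^ (k + 1) = 2 * 2 ^ k := by rw [pow_add]; ring
    have hkpos := Nat.two_pow_pos k
    rcases hm with hm | hm
    · left
      have h1 : R * q ^ b = 2 ^ (k + 2) * (2 ^ (k + 1) + 1) := by
        apply Nat.eq_of_mul_eq_mul_left two_pos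
        rw [h0, show P - 1 = 2 ^ (k + 2) by omega, show P + 1 = 2 * (2 ^ (k + 1) + 1) by omega]; ring
      obtain rfl : q = 2 := eq_two hR hq hRq.symm (by omega) h1
      have hRodd : ¬ 2 ∣ R := fun h => hRq ((Nat.prime_dvd_prime_iff_eq Nat.prime_two hR).mp h).symm
      obtain ⟨hRc, -⟩ := odd_part hRodd (by omega) h1
      have hP5 : P = 5 := by
        rcases three_dvd_pow (k + 1) with ⟨h, -⟩ | ⟨h, hk⟩
        · have := (Nat.prime_dvd_prime_iff_eq Nat.prime_three hR).mp (hRc ▸ h)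
          omega
        · rcases three_dvd_pow (k + 2) with ⟨h', -⟩ | ⟨-, hk'⟩
          · have := (Nat.prime_dvd_prime_iff_eq Nat.prime_three hP).mp (hm ▸ h')
            omega
          · omega
      exact ⟨F, iF, iF', by omega, ⟨e⟩⟩
    · right
      have h1 : R * q ^ b = 2 ^ (k + 2) * (2 ^ (k + 1) - 1) := by
        apply Nat.eq_of_mul_eq_mul_left two_pos
        rw [h0, show P + 1 = 2 ^ (k + 2) by omega, show P - 1 = 2 * (2 ^ (k + 1) - 1) by omega]; ring
      obtain rfl : q = 2 := eq_two hR hq hRq.symm (by omega) h1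
      have hRodd : ¬ 2 ∣ R := fun h => hRq ((Nat.prime_dvd_prime_iff_eq Nat.prime_two hR).mp h).symm
      obtain ⟨hRc, -⟩ := odd_part hRodd (by omega) h1
      have hP7 : P = 7 := by
        rcases three_dvd_pow (k + 1) with ⟨-, hk⟩ | ⟨h, -⟩
        · rcases three_dvd_pow (k + 2) with ⟨-, hk'⟩ | ⟨h', -⟩
          · omega
          · have := (Nat.prime_dvd_prime_iff_eq Nat.prime_three hP).mp (hm ▸ h')
            omega
        · have := (Nat.prime_dvd_prime_iff_eq Nat.prime_three hR).mp (hRc ▸ h)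
          omega
      exact ⟨F, iF, iF', by omega, ⟨e⟩⟩
  · left
    have hord := Dickson.gcd_mul_card_PSL hF
    have hm2 : 2 ≤ m' := by
      by_contra h
      have := Nat.pow_le_pow_right two_pos (show m' ≤ 1 by omega)
      omega
    have h4 : 4 ∣ 2 ^ m' := (pow_dvd_pow 2 hm2 : 2 ^ 2 ∣ 2 ^ m')
    rw [← Nat.card_congr e.toEquiv, hG, ← hm', (Nat.prime_two.coprime_iff_not_dvd.mpr
      (show ¬ 2 ∣ 2 ^ m' - 1 by have := Nat.two_pow_pos m'; omega)).gcd_eq_one, one_mul] at hord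
    have h1 : R * q ^ b = 2 ^ m' * (2 ^ m' - 1) := by
      apply Nat.eq_of_mul_eq_mul_left hP.pos
      rw [← mul_assoc P R, hord]; ring
    obtain rfl : q = 2 := eq_two hR hq hRq.symm hm2 h1
    have hRodd : ¬ 2 ∣ R := fun h => hRq ((Nat.prime_dvd_prime_iff_eq Nat.prime_two hR).mp h).symm
    obtain ⟨hRc, hb⟩ := odd_part hRodd (by have := Nat.two_pow_pos m'; omega) h1
    have h := three_dvd_pow m'
    have hm3 : 2 ^ m' = 4 := by
      rcases h with ⟨h, -⟩ | ⟨h, -⟩
      · have := (Nat.prime_dvd_prime_iff_eq Nat.prime_three hP).mp (hm' ▸ h)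
        omega
      · have := (Nat.prime_dvd_prime_iff_eq Nat.prime_three hR).mp (hRc ▸ h)
        omega
    have h60 : Nat.card G = 60 := by rw [hG, hb, hm3, show R = 3 by omega, show P = 5 by omega]
    haveI : Fact (Nat.Prime 5) := ⟨by norm_num⟩
    obtain ⟨e1⟩ := Cfsg.Agent.S0494.result (G := G) h60
    obtain ⟨e2⟩ := Cfsg.Agent.S0253.result (F := ZMod 5) (ZMod.card 5)
    exact ⟨ZMod 5, inferInstance, inferInstance, ZMod.card 5, ⟨e1.trans e2.symm⟩⟩

/-- A non-cyclic finite simple group whose order has the form p * r * q^b for distinct primes p, q, r is isomorphic to the projective special linear group of dimension 2 over the field with 5 or with 7 elements. -/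
theorem result {G : Type*} [Group G] [Finite G] [IsSimpleGroup G] (hG : ¬ IsCyclic G) (p q r b : ℕ) (hp : p.Prime) (hq : q.Prime) (hr : r.Prime) (hpq : p ≠ q) (hpr : p ≠ r) (hqr : q ≠ r) (hG' : Nat.card G = p * r * q ^ b) : (∃ (F : Type) (_ : Field F) (_ : Fintype F), Fintype.card F = 5 ∧ Nonempty (G ≃* Matrix.ProjectiveSpecialLinearGroup (Fin 2) F)) ∨ (∃ (F : Type) (_ : Field F) (_ : Fintype F), Fintype.card F = 7 ∧ Nonempty (G ≃* Matrix.ProjectiveSpecialLinearGroup (Fin 2) F)) := by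
  haveI := Fintype.ofFinite G
  have hna : ¬ IsMulCommutative G := fun hc => hG (by
    letI : CommGroup G := { (inferInstance : Group G) with mul_comm := mul_comm' }
    exact isCyclic_of_prime_card (hp := ⟨IsSimpleGroup.prime_card⟩) rfl)
  rcases lt_or_gt_of_ne hpr with h | h
  · exact core hna hr hp hq hqr.symm hpq h (by rw [hG', mul_comm p r])
  · exact core hna hp hr hq hpq hqr.symm h hG'

end Cfsg.Agent.S0998
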