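import Cfsg.Statements.S1002
import Mathlib
import Cfsg.Agent.Lib.SmallGroups.PrimeOrderChar

set_option autoImplicit false
open Cfsg

namespace Cfsg.Agent.S1002

open CfsgLib.SmallGroups

theorem arith : ∀ d ∈ Nat.divisors 1004913, d ≠ 1 →
    (¬ (409 : ℤ) ∣ -(d : ℤ) - 1) ∧ ((409 : ℤ) ∣ (d : ℤ) - 1 → d = 819) := by
  intro d hd
  rw [show (1004913 : ℕ) = 27 * 7 * 13 * 409 by norm_num, Nat.divisors_mul, Nat.divisors_mul,
    Nat.divisors_mul] at hd
  revert d hd
  decide +kernel

/-- No finite simple group has order 1004913 = 3^3 * 7 * 13 * 409. -/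
theorem result {G : Type*} [Group G] [Finite G] [IsSimpleGroup G] : Nat.card G ≠ 1004913 := by
  intro hG
  haveI : Fact (Nat.Prime 409) := ⟨by norm_num⟩
  have hna : ¬ IsMulCommutative G := not_isMulCommutative_of_not_prime (by rw [hG]; norm_num)
  have hfac : Nat.card G = 409 ^ 1 * 2457 := by rw [hG]; norm_num
  obtain ⟨P⟩ : Nonempty (Sylow 409 G) := inferInstance
  have hP : Nat.card (P : Subgroup G) = 409 := by
    simpa using card_sylow_eq hfac (by norm_num) P
  have hdvd : 409 ∣ Nat.card G := by rw [hG]; norm_num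
  have hn : Nat.card (Sylow 409 G) = 819 := by
    have h1 := card_sylow_mem_filter (G := G) (p := 409) hfac (by norm_num)
    have h2 := card_sylow_ne_one (G := G) (p := 409) hna hdvd
    have h3 : (Finset.range (2457 + 1)).filter (fun d => 2457 % d = 0 ∧ d % 409 = 1) = {1, 819} := by
      decide +kernel
    rw [h3] at h1
    simp only [Finset.mem_insert, Finset.mem_singleton] at h1
    omega
  have hN : Nat.card (Subgroup.normalizer ((P : Subgroup G) : Set G)) = 409 * 3 := by
    have := card_sylow_mul_card_normalizer P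
    rw [hn, hG] at this
    omega
  obtain ⟨L, b, hlen, hsum, hL, hb1, hb2, -⟩ :=
    PrimeOrderChar.signed_degrees_of_simple hna 409 3 P hP hdvd hN Nat.prime_three le_rfl (by norm_num)
  obtain ⟨a₁, a₂, rfl⟩ := List.length_eq_two.mp hlen
  have hval : ∀ a : ℤ, a ∈ [a₁, a₂] → a = 819 := by
    intro a ha
    obtain ⟨ha1, ha2, ha3⟩ := hL a ha
    rw [hG] at ha1
    obtain ⟨h1, h2⟩ := arith a.natAbs (Nat.mem_divisors.mpr ⟨ha1, by norm_num⟩) ha2
    rcases Int.natAbs_eq a with e | e
    · have h3 : (409 : ℤ) ∣ (a.natAbs : ℤ) - 1 := by rw [← e]; exact ha3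
      rw [e, h2 h3]
      norm_num
    · exact absurd (by rw [← e]; exact ha3) h1
  simp only [List.sum_cons, List.sum_nil, add_zero] at hsum
  have hb : b = -1639 := by
    rw [hval a₁ (by simp), hval a₂ (by simp)] at hsum
    linarith
  rw [hb, hG] at hb1
  norm_num at hb1

end Cfsg.Agent.S1002
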