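import Cfsg.Statements.S1005
import Mathlib
import Cfsg.Agent.Lib.SmallGroups.Order168Maximal

set_option autoImplicit false
open Cfsg

namespace Cfsg.Agent.S1005

open CfsgLib.SmallGroups.Model168

/-- In a simple group of order 168 every element has order 1, 2, 3, 4 or 7; there are exactly 21 elements of order 2, and any two of them are conjugate. -/
theorem result {G : Type*} [Group G] [Finite G] [IsSimpleGroup G] (h : Nat.card G = 168) : (∀ g : G, orderOf g = 1 ∨ orderOf g = 2 ∨ orderOf g = 3 ∨ orderOf g = 4 ∨ orderOf g = 7) ∧ Nat.card {g : G // orderOf g = 2} = 21 ∧ ∀ s t : G, orderOf s = 2 → orderOf t = 2 → IsConj s t := by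
  obtain ⟨C⟩ := exists_coding h
  obtain ⟨-, -, -, -, -, z, -, -, -, -, -, hzf, hz, -⟩ := exists_named C
  refine ⟨C.order_mem, ?_, fun s t hs ht => ?_⟩
  · exact (C.card_eq (fun c => decide (pw c 2 = one ∧ c ≠ one)) _ fun g => by
      rw [C.orderOf_prime_iff g Nat.prime_two, decide_eq_true_eq]).trans count2
  · exact C.isConj_of_model (P := fun c => pw c 2 = one ∧ c ≠ one)
      (fun c hc hP => conj2 c hc hP.1 hP.2) list_facts.2.1
      ((C.orderOf_prime_iff s Nat.prime_two).mp hs) ((C.orderOf_prime_iff t Nat.prime_two).mp ht)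

end Cfsg.Agent.S1005
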