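import Cfsg.Statements.S1006
import Mathlib
import Cfsg.Agent.Lib.SmallGroups.Order168Maximal

set_option autoImplicit false
open Cfsg

namespace Cfsg.Agent.S1006

open CfsgLib.SmallGroups.Model168

/-- In a simple group of order 168 there are 56 elements of order 3, all conjugate; 42 elements of order 4, all conjugate; and 48 elements of order 7 falling into two conjugacy classes of size 24, an element of order 7 not being conjugate to its inverse. -/
theorem result {G : Type*} [Group G] [Finite G] [IsSimpleGroup G] (h : Nat.card G = 168) : Nat.card {g : G // orderOf g = 3} = 56 ∧ (∀ s t : G, orderOf s = 3 → orderOf t = 3 → IsConj s t) ∧ Nat.card {g : G // orderOf g = 4} = 42 ∧ (∀ s t : G, orderOf s = 4 → orderOf t = 4 → IsConj s t) ∧ Nat.card {g : G // orderOf g = 7} = 48 ∧ ∀ x : G, orderOf x = 7 → Nat.card {g : G // IsConj x g} = 24 ∧ ¬ IsConj x x⁻¹ := by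
  obtain ⟨C⟩ := exists_coding h
  have hp7 : Nat.Prime 7 := by norm_num
  refine ⟨?_, fun s t hs ht => ?_, ?_, fun s t hs ht => ?_, ?_, fun x hx => ⟨?_, ?_⟩⟩
  · exact (C.card_eq (fun c => decide (pw c 3 = one ∧ c ≠ one)) _ fun g => by
      rw [C.orderOf_prime_iff g Nat.prime_three, decide_eq_true_eq]).trans count3
  · exact C.isConj_of_model (P := fun c => pw c 3 = one ∧ c ≠ one)
      (fun c hc hP => conj3 c hc hP.1 hP.2) (list_facts.1.2.2.2.2.1 list_facts.2.2.1)
      ((C.orderOf_prime_iff s Nat.prime_three).mp hs) ((C.orderOf_prime_iff t Nat.prime_three).mp ht)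
  · exact (C.card_eq (fun c => decide (pw c 4 = one ∧ pw c 2 ≠ one)) _ fun g => by
      rw [C.orderOf_four_iff g, decide_eq_true_eq]).trans count4
  · exact C.isConj_of_model (P := fun c => pw c 4 = one ∧ pw c 2 ≠ one)
      (fun c hc hP => conj4 c hc hP.1 hP.2) list_facts.2.2.2.2.1
      ((C.orderOf_four_iff s).mp hs) ((C.orderOf_four_iff t).mp ht)
  · exact (C.card_eq (fun c => decide (pw c 7 = one ∧ c ≠ one)) _ fun g => by
      rw [C.orderOf_prime_iff g hp7, decide_eq_true_eq]).trans count7
  · have hx' := (C.orderOf_prime_iff x hp7).mp hx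
    have h1 : Nat.card (MulAction.stabilizer (ConjAct G) x) = 7 := by
      rw [← Subgroup.nat_card_centralizer_nat_card_stabilizer, C.card_centralizer,
        cent7 _ (C.f_mem x) hx'.1 hx'.2]
    have h2 := Subgroup.card_mul_index (MulAction.stabilizer (ConjAct G) x)
    rw [h1, Nat.card_congr (ConjAct.ofConjAct (G := G)).toEquiv, h, MulAction.index_stabilizer,
      ← Nat.card_coe_set_eq] at h2
    rw [Nat.card_congr (Equiv.subtypeEquivRight (p := fun g : G => IsConj x g)
      (q := fun g => g ∈ MulAction.orbit (ConjAct G) x) fun g => by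
        rw [ConjAct.mem_orbit_conjAct, isConj_comm])]
    change Nat.card ↥(MulAction.orbit (ConjAct G) x) = 24
    omega
  · have hx' := (C.orderOf_prime_iff x hp7).mp hx
    intro hc
    obtain ⟨c, hc, hcx⟩ := (C.isConj_iff _ _).mp hc
    refine not_inverse7 _ (C.f_mem x) hx'.1 hx'.2 c hc ?_
    rw [hcx]
    congr 1
    rw [← C.map_pow]
    congr 1
    refine inv_eq_of_mul_eq_one_right ?_
    rw [← pow_succ', show 6 + 1 = 7 by rfl, ← hx, pow_orderOf_eq_one]

end Cfsg.Agent.S1006
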