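import Cfsg.Statements.S1007
import Mathlib
import Cfsg.Agent.Lib.SmallGroups.Order168Maximal

set_option autoImplicit false
open Cfsg

namespace Cfsg.Agent.S1007

open CfsgLib.SmallGroups.Model168

/-- Let G be a simple group of order 168 and T a Sylow 2-subgroup. Then T contains exactly two subgroups that are Klein four-groups; they are not conjugate in G; and the normalizer of every Klein four-subgroup of G is isomorphic to the symmetric group of degree 4. -/
theorem result {G : Type*} [Group G] [Finite G] [IsSimpleGroup G] (h : Nat.card G = 168) (T : Sylow 2 G) : Nat.card {U : Subgroup G // U ≤ (T : Subgroup G) ∧ IsKleinFour ↥U} = 2 ∧ (∀ U W : Subgroup G, U ≤ (T : Subgroup G) → W ≤ (T : Subgroup G) → IsKleinFour ↥U → IsKleinFour ↥W → U ≠ W → ∀ g : G, U.map (MulAut.conj g).toMonoidHom ≠ W) ∧ ∀ U : Subgroup G, IsKleinFour ↥U → Nonempty (↥(Subgroup.normalizer (U : Set G)) ≃* Equiv.Perm (Fin 4)) := by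
  haveI := Fact.mk Nat.prime_two
  obtain ⟨C⟩ := exists_coding h
  obtain ⟨T₀, U₀, W₀, A, B, z₀, hT, hU, hW, hA, hB, -, hz₂, hC₀, -, hUc, hWc, -, ⟨eA⟩, ⟨eB⟩⟩ :=
    exists_named C
  obtain ⟨⟨hTs, hUT, hWT, -, hAs, -, -⟩, -⟩ := list_facts
  have hUk : IsKleinFour U₀ := isKleinFour_model C hU hUc (by decide +kernel)
  have hWk : IsKleinFour W₀ := isKleinFour_model C hW hWc (by decide +kernel)
  have hUT' : U₀ ≤ T₀ := fun x hx => (hT x).mpr (hUT ((hU x).mp hx))
  have hWT' : W₀ ≤ T₀ := fun x hx => (hT x).mpr (hWT ((hW x).mp hx))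
  have hkmap : ∀ (K : Subgroup G) (g : G), IsKleinFour K →
      IsKleinFour (K.map (MulAut.conj g).toMonoidHom) := by
    intro K g hK
    have e := Subgroup.equivMapOfInjective K (MulAut.conj g).toMonoidHom (MulAut.conj g).injective
    exact ⟨(Nat.card_congr e.toEquiv).symm.trans hK.card_four,
      (Monoid.exponent_eq_of_mulEquiv e).symm.trans hK.exponent_two⟩
  have hkin : ∀ (S : Sylow 2 G) (g : G), (S : Subgroup G) = T₀.map (MulAut.conj g).toMonoidHom →
      ∀ K : Subgroup G, K ≤ (S : Subgroup G) → IsKleinFour K →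
        K = U₀.map (MulAut.conj g).toMonoidHom ∨ K = W₀.map (MulAut.conj g).toMonoidHom := by
    intro S g hg K hKS hK
    have hle : K.map (MulAut.conj g⁻¹).toMonoidHom ≤ T₀ := by
      rw [eq_map_conj_inv hg.symm]
      exact Subgroup.map_mono hKS
    rcases klein_eq C hT hU hW hUc hWc (hkmap K g⁻¹ hK) hle with e | e
    · exact Or.inl (by rw [← e, map_conj_map, mul_inv_cancel, map_conj_one])
    · exact Or.inr (by rw [← e, map_conj_map, mul_inv_cancel, map_conj_one])
  have hnc : ∀ g : G, U₀.map (MulAut.conj g).toMonoidHom ≠ W₀ := by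
    intro g hg
    refine klein_not_conj _ (C.f_mem g) fun a ha => ?_
    obtain ⟨x, rfl⟩ := C.exists_f (hTs (hUT ha))
    refine ⟨C.f (g * x * g⁻¹), (hW _).mp ?_, by rw [← C.map_mul, ← C.map_mul, inv_mul_cancel_right]⟩
    rw [← hg]
    exact ⟨x, (hU x).mpr ha, rfl⟩
  obtain ⟨g, hg⟩ := exists_conj_dih C h hz₂ hC₀ T
  set U₁ := U₀.map (MulAut.conj g).toMonoidHom with hU₁
  set W₁ := W₀.map (MulAut.conj g).toMonoidHom with hW₁
  have hne : U₁ ≠ W₁ := fun e => hnc 1 (by
    rw [map_conj_one]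
    exact Subgroup.map_injective (MulAut.conj g).injective e)
  refine ⟨?_, fun U W hUT2 hWT2 hU2 hW2 hUW k hk => ?_, fun U hU2 => ?_⟩
  · classical
    have he : {U : Subgroup G | U ≤ (T : Subgroup G) ∧ IsKleinFour U} = {U₁, W₁} := by
      ext K
      simp only [Set.mem_setOf_eq, Set.mem_insert_iff, Set.mem_singleton_iff]
      refine ⟨fun hK => hkin T g hg K hK.1 hK.2, ?_⟩
      rintro (rfl | rfl)
      · exact ⟨hg ▸ Subgroup.map_mono hUT', hkmap _ _ hUk⟩
      · exact ⟨hg ▸ Subgroup.map_mono hWT', hkmap _ _ hWk⟩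
    show Nat.card ({U : Subgroup G | U ≤ (T : Subgroup G) ∧ IsKleinFour U} : Set (Subgroup G)) = 2
    rw [he, Nat.card_coe_set_eq, Set.ncard_pair hne]
  · rcases hkin T g hg U hUT2 hU2 with rfl | rfl <;> rcases hkin T g hg W hWT2 hW2 with rfl | rfl
    · exact hUW rfl
    · refine hnc (g⁻¹ * k * g) ?_
      rw [map_conj_map] at hk
      rw [show g⁻¹ * k * g = g⁻¹ * (k * g) by group, ← map_conj_map, hk, map_conj_map, inv_mul_cancel,
        map_conj_one]
    · refine hnc (g⁻¹ * k⁻¹ * g) ?_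
      rw [map_conj_map] at hk
      rw [show g⁻¹ * k⁻¹ * g = (g⁻¹ * k⁻¹) * g by group, ← map_conj_map, ← hk, map_conj_map,
        show g⁻¹ * k⁻¹ * (k * g) = 1 by group, map_conj_one]
    · exact hUW rfl
  · obtain ⟨S, hS⟩ := (IsPGroup.of_card (n := 2) (by rw [hU2.card_four]; norm_num) :
      IsPGroup 2 U).exists_le_sylow
    obtain ⟨u, hu⟩ := exists_conj_dih C h hz₂ hC₀ S
    have hNA : Subgroup.normalizer (U₀ : Set G) = A :=
      normalizer_klein C hU hA (List.Subset.trans hUT hTs) norm_kleinA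
    have hNB : Subgroup.normalizer (W₀ : Set G) = B :=
      normalizer_klein C hW hB (List.Subset.trans hWT hTs) norm_kleinB
    rcases hkin S u hu U hS hU2 with rfl | rfl
    · exact ⟨((MulEquiv.subgroupCongr ((normalizer_map_conj U₀ u).trans (by rw [hNA]))).trans
        (Subgroup.equivMapOfInjective A _ (MulAut.conj u).injective).symm).trans eA⟩
    · exact ⟨((MulEquiv.subgroupCongr ((normalizer_map_conj W₀ u).trans (by rw [hNB]))).trans
        (Subgroup.equivMapOfInjective B _ (MulAut.conj u).injective).symm).trans eB⟩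

end Cfsg.Agent.S1007
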