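import Cfsg.Statements.S1008
import Mathlib
import Cfsg.Agent.Lib.SmallGroups.Order168Maximal

set_option autoImplicit false
open Cfsg

namespace Cfsg.Agent.S1008

open CfsgLib.SmallGroups.Model168

/-- In a simple group of order 168 every maximal subgroup is either isomorphic to the symmetric group of degree 4 or non-abelian of order 21; the maximal subgroups of order 21 form one conjugacy class and those isomorphic to the symmetric group of degree 4 form exactly two conjugacy classes. -/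
theorem result {G : Type*} [Group G] [Finite G] [IsSimpleGroup G] (h : Nat.card G = 168) : (∀ M : Subgroup G, IsCoatom M → Nonempty (↥M ≃* Equiv.Perm (Fin 4)) ∨ (Nat.card ↥M = 21 ∧ ¬ IsMulCommutative ↥M)) ∧ (∀ M M' : Subgroup G, IsCoatom M → IsCoatom M' → Nat.card ↥M = 21 → Nat.card ↥M' = 21 → ∃ g : G, M' = M.map (MulAut.conj g).toMonoidHom) ∧ ∃ M₁ M₂ : Subgroup G, IsCoatom M₁ ∧ IsCoatom M₂ ∧ Nonempty (↥M₁ ≃* Equiv.Perm (Fin 4)) ∧ Nonempty (↥M₂ ≃* Equiv.Perm (Fin 4)) ∧ (∀ g : G, M₂ ≠ M₁.map (MulAut.conj g).toMonoidHom) ∧ ∀ M : Subgroup G, IsCoatom M → Nonempty (↥M ≃* Equiv.Perm (Fin 4)) → ∃ g : G, M = M₁.map (MulAut.conj g).toMonoidHom ∨ M = M₂.map (MulAut.conj g).toMonoidHom := by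
  haveI : Fact (Nat.Prime 7) := ⟨by norm_num⟩
  obtain ⟨C⟩ := exists_coding h
  obtain ⟨-, -, -, A, B, -, -, -, -, hA, hB, -, -, -, -, -, -, -, ⟨eA⟩, ⟨eB⟩⟩ := exists_named C
  have hA24 : Nat.card A = 24 := by
    rw [Nat.card_congr eA.toEquiv, Nat.card_perm, Nat.card_fin]; rfl
  have hB24 : Nat.card B = 24 := by
    rw [Nat.card_congr eB.toEquiv, Nat.card_perm, Nat.card_fin]; rfl
  have hne : ∀ g : G, B ≠ A.map (MulAut.conj g).toMonoidHom := by
    intro g hg
    refine oct_not_conj _ (C.f_mem g) fun a ha => ?_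
    obtain ⟨x, rfl⟩ := C.exists_f (list_facts.1.2.2.2.2.1 ha)
    refine ⟨C.f (g * x * g⁻¹), (hB _).mp ?_, by rw [← C.map_mul, ← C.map_mul, inv_mul_cancel_right]⟩
    rw [hg]
    exact ⟨x, (hA x).mpr ha, rfl⟩
  have hN : ∀ P : Sylow 7 G, Nat.card (Subgroup.normalizer ((P : Subgroup G) : Set G)) = 21 := by
    intro P
    have h1 := CfsgLib.SmallGroups.card_sylow_mem_filter (p := 7) (a := 1) (m := 24) (G := G)
      (by rw [h]; norm_num) (by norm_num)
    have h2 := CfsgLib.SmallGroups.card_sylow_ne_one (G := G) (p := 7)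
      (CfsgLib.SmallGroups.not_isMulCommutative_of_not_prime (by rw [h]; norm_num))
      (by rw [h]; norm_num)
    have hf : (Finset.range (24 + 1)).filter (fun d => 24 % d = 0 ∧ d % 7 = 1) = {1, 8} := by decide
    rw [hf] at h1
    simp only [Finset.mem_insert, Finset.mem_singleton] at h1
    have h3 := CfsgLib.SmallGroups.card_sylow_mul_card_normalizer P
    rw [h1.resolve_left h2, h] at h3
    omega
  have hnt : ∀ V : Subgroup G, Nat.card V ≤ 24 → V ≠ ⊤ := fun V hV e => by
    rw [e, Subgroup.card_top, h] at hV; omega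
  have hcls : ∀ M : Subgroup G, IsCoatom M →
      (∃ g : G, M = A.map (MulAut.conj g).toMonoidHom ∨ M = B.map (MulAut.conj g).toMonoidHom) ∨
      ∃ P : Sylow 7 G, M = Subgroup.normalizer ((P : Subgroup G) : Set G) := by
    intro M hM
    have heq : ∀ V : Subgroup G, Nat.card V ≤ 24 → M ≤ V → M = V := fun V hV hle =>
      (hle.eq_or_lt).resolve_right fun hlt => hnt V hV (hM.2 V hlt)
    rcases le_named C h hA hB M hM.1 with ⟨g, hle | hle⟩ | ⟨P, hle, -⟩
    · exact Or.inl ⟨g, Or.inl (heq _ (by rw [card_map_conj, hA24]) hle)⟩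
    · exact Or.inl ⟨g, Or.inr (heq _ (by rw [card_map_conj, hB24]) hle)⟩
    · exact Or.inr ⟨P, heq _ (by rw [hN P]; norm_num) hle⟩
  have hcoatom : ∀ V : Subgroup G, Nat.card V = 24 → IsCoatom V := by
    intro V hV
    refine ⟨hnt V hV.le, fun K hK => ?_⟩
    by_contra hKtop
    have hlt : Nat.card V < Nat.card K := by
      by_contra hle
      exact hK.ne (Subgroup.eq_of_le_of_card_ge hK.le (by omega))
    rcases le_named C h hA hB K hKtop with ⟨g, hle | hle⟩ | ⟨P, hle, -⟩
    · have := Subgroup.card_le_of_le hle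
      rw [card_map_conj, hA24] at this; omega
    · have := Subgroup.card_le_of_le hle
      rw [card_map_conj, hB24] at this; omega
    · have := Subgroup.card_le_of_le hle
      rw [hN P] at this; omega
  refine ⟨fun M hM => ?_, fun M M' hM hM' h21 h21' => ?_, A, B, hcoatom A hA24, hcoatom B hB24,
    ⟨eA⟩, ⟨eB⟩, hne, fun M hM hMi => ?_⟩
  · rcases hcls M hM with ⟨g, rfl | rfl⟩ | ⟨P, rfl⟩
    · exact Or.inl ⟨(Subgroup.equivMapOfInjective A _ (MulAut.conj g).injective).symm.trans eA⟩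
    · exact Or.inl ⟨(Subgroup.equivMapOfInjective B _ (MulAut.conj g).injective).symm.trans eB⟩
    · refine Or.inr ⟨hN P, fun hc => ?_⟩
      set N := Subgroup.normalizer ((P : Subgroup G) : Set G)
      obtain ⟨⟨x, hxN⟩, hx⟩ := exists_prime_orderOf_dvd_card' (G := N) 7 (by rw [hN P]; norm_num)
      rw [← Subgroup.orderOf_coe] at hx
      change orderOf x = 7 at hx
      have hle : N ≤ Subgroup.centralizer ({x} : Set G) := fun y hy =>
        Subgroup.mem_centralizer_singleton_iff.mpr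
          (congrArg Subtype.val (hc.is_comm.comm ⟨y, hy⟩ ⟨x, hxN⟩))
      have hx' := (C.orderOf_prime_iff x (by norm_num : Nat.Prime 7)).mp hx
      have := Subgroup.card_le_of_le hle
      rw [hN P, C.card_centralizer, cent7 _ (C.f_mem x) hx'.1 hx'.2] at this
      omega
  · rcases hcls M hM with ⟨g, rfl | rfl⟩ | ⟨P, rfl⟩
    · rw [card_map_conj, hA24] at h21; omega
    · rw [card_map_conj, hB24] at h21; omega
    rcases hcls M' hM' with ⟨g, rfl | rfl⟩ | ⟨Q, rfl⟩
    · rw [card_map_conj, hA24] at h21'; omega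
    · rw [card_map_conj, hB24] at h21'; omega
    obtain ⟨g, hg⟩ := MulAction.exists_smul_eq G P Q
    refine ⟨g, ?_⟩
    rw [← normalizer_map_conj, ← hg, Sylow.coe_subgroup_smul]
    rfl
  · obtain ⟨e⟩ := hMi
    rcases hcls M hM with ⟨g, hg⟩ | ⟨P, rfl⟩
    · exact ⟨g, hg⟩
    · have := Nat.card_congr e.toEquiv
      rw [hN P, Nat.card_perm, Nat.card_fin] at this
      exact absurd this (by decide)

end Cfsg.Agent.S1008
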