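import Cfsg.Statements.S1012
import Cfsg.Agent.Lib.SmallGroups.Basic
import Mathlib

set_option autoImplicit false
open Cfsg

namespace Cfsg.Agent.S1012

/-- A group of order 24 containing no element of order 6 is isomorphic to the symmetric group of degree 4. -/
theorem result {G : Type*} [Group G] [Finite G] (h : Nat.card G = 24) (h6 : ∀ g : G, orderOf g ≠ 6) : Nonempty (G ≃* Equiv.Perm (Fin 4)) := by
  classical
  haveI : Fact (Nat.Prime 3) := ⟨Nat.prime_three⟩
  haveI : Fact (Nat.Prime 2) := ⟨Nat.prime_two⟩
  have hG : Nat.card G = 3 ^ 1 * 8 := by rw [h]; rfl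
  have hc3 : ∀ P : Sylow 3 G, Nat.card (P : Subgroup G) = 3 := fun P => by
    simpa using CfsgLib.SmallGroups.card_sylow_eq hG (by norm_num) P
  -- no involution centralises an element of order three
  have hno : ∀ (P : Sylow 3 G) (s : G), orderOf s = 2 → (∀ x ∈ (P : Subgroup G), s * x = x * s) → False := by
    intro P s hs hcomm
    obtain ⟨x, hx⟩ := exists_prime_orderOf_dvd_card' 3 (dvd_of_eq (hc3 P).symm)
    apply h6 (s * (x : G))
    rw [Commute.orderOf_mul_eq_mul_orderOf_of_coprime (hcomm x x.2) (by
      rw [hs, Subgroup.orderOf_coe, hx]; norm_num), hs, Subgroup.orderOf_coe, hx]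
  obtain ⟨P₀⟩ : Nonempty (Sylow 3 G) := inferInstance
  have hn : Nat.card (Sylow 3 G) = 4 := by
    have hd := CfsgLib.SmallGroups.card_sylow_dvd_of_card_eq hG (by norm_num)
    have hm := CfsgLib.SmallGroups.mod_eq_one_card_sylow (G := G) (p := 3)
    have hle := Nat.le_of_dvd (by norm_num) hd
    have h1 : Nat.card (Sylow 3 G) ≠ 1 := by
      intro h1
      have hN := CfsgLib.SmallGroups.sylow_normal_of_card_eq_one h1 P₀
      -- the centralizer of a normal subgroup of order three contains an involution
      have hd2 : (Subgroup.centralizer ((P₀ : Subgroup G) : Set G)).index ∣ 2 := by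
        have h2 : (P₀ : Subgroup G).normalizerMonoidHom.ker.index ∣ 2 := by
          rw [Subgroup.index_ker]
          refine dvd_trans (Subgroup.card_subgroup_dvd_card _) ?_
          haveI : IsCyclic (P₀ : Subgroup G) := isCyclic_of_prime_card (hc3 P₀)
          rw [IsCyclic.card_mulAut, hc3]
          rfl
        rw [Subgroup.normalizerMonoidHom_ker, ← Subgroup.relIndex] at h2
        rwa [Subgroup.normalizer_eq_top_iff.mpr hN, Subgroup.relIndex_top_right] at h2
      have h4 : 2 ∣ Nat.card (Subgroup.centralizer ((P₀ : Subgroup G) : Set G)) := by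
        have := (Subgroup.centralizer ((P₀ : Subgroup G) : Set G)).card_mul_index
        rw [h] at this
        rcases (Nat.dvd_prime Nat.prime_two).mp hd2 with e | e <;> rw [e] at this <;> omega
      obtain ⟨s, hs⟩ := exists_prime_orderOf_dvd_card' 2 h4
      exact hno P₀ s (by rw [Subgroup.orderOf_coe, hs]) fun x hx =>
        ((Subgroup.mem_centralizer_iff.mp s.2) x hx).symm
    interval_cases hh : Nat.card (Sylow 3 G) <;> omega
  let f := MulAction.toPermHom G (Sylow 3 G)
  have hker : f.ker = ⊥ := by
    have hK : ∀ k ∈ f.ker, ∀ Q : Sylow 3 G, k • Q = Q := fun k hk Q =>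
      congrArg (fun σ : Equiv.Perm (Sylow 3 G) => σ Q) hk
    have hle : f.ker ≤ Subgroup.normalizer ((P₀ : Subgroup G) : Set G) := fun k hk =>
      Sylow.smul_eq_iff_mem_normalizer.mp (hK k hk P₀)
    have hN6 : Nat.card (Subgroup.normalizer ((P₀ : Subgroup G) : Set G)) = 6 := by
      have := CfsgLib.SmallGroups.card_sylow_mul_card_normalizer P₀
      rw [hn, h] at this; omega
    have h3 : ¬ 3 ∣ Nat.card f.ker := by
      intro h3
      obtain ⟨k, hk⟩ := exists_prime_orderOf_dvd_card' 3 h3
      have hk3 : orderOf (k : G) = 3 := by rw [Subgroup.orderOf_coe, hk]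
      have hall : ∀ Q : Sylow 3 G, (Q : Subgroup G) = Subgroup.zpowers (k : G) := by
        intro Q
        have hp : IsPGroup 3 (Subgroup.zpowers (k : G)) :=
          IsPGroup.of_card (n := 1) (by rw [Nat.card_zpowers, hk3, pow_one])
        have h1 := hp.inf_normalizer_sylow Q
        have hle2 : Subgroup.zpowers (k : G) ≤ Subgroup.normalizer (Q : Set G) :=
          Subgroup.zpowers_le.mpr (Sylow.smul_eq_iff_mem_normalizer.mp (hK k k.2 Q))
        rw [inf_eq_left.mpr hle2] at h1
        exact (Subgroup.eq_of_le_of_card_ge (h1 ▸ inf_le_right) (by rw [hc3 Q, Nat.card_zpowers, hk3])).symm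
      have : Subsingleton (Sylow 3 G) := ⟨fun A B => Sylow.ext ((hall A).trans (hall B).symm)⟩
      rw [Nat.card_of_subsingleton P₀] at hn
      omega
    have hd : Nat.card f.ker ∣ 6 := hN6 ▸ Subgroup.card_dvd_of_le hle
    apply Subgroup.eq_bot_of_card_eq
    by_contra hne
    have hk2 : Nat.card f.ker = 2 := by
      have := Nat.le_of_dvd (by norm_num) hd
      have hpos := Nat.card_pos (α := f.ker)
      interval_cases hh : Nat.card f.ker <;> omega
    obtain ⟨s, hs⟩ := exists_prime_orderOf_dvd_card' 2 (dvd_of_eq hk2.symm)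
    refine hno P₀ s (by rw [Subgroup.orderOf_coe, hs]) fun x hx => ?_
    haveI := Fintype.ofFinite f.ker
    have hconj : x * (s : G) * x⁻¹ ∈ f.ker := (MonoidHom.normal_ker f).conj_mem _ s.2 x
    have hne1 : (⟨_, hconj⟩ : f.ker) ≠ 1 := by
      intro e
      have h1 : x * (s : G) * x⁻¹ = 1 := congrArg Subtype.val e
      rw [conj_eq_one_iff, OneMemClass.coe_eq_one] at h1
      rw [h1, orderOf_one] at hs
      omega
    have hs1 : s ≠ 1 := fun e => by rw [e, orderOf_one] at hs; omega
    have hu : (⟨_, hconj⟩ : f.ker) = s := by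
      by_contra hne2
      have := Finset.card_le_univ ({1, s, ⟨_, hconj⟩} : Finset f.ker)
      rw [Finset.card_insert_of_notMem (by simp [hs1.symm, hne1.symm]), Finset.card_pair (Ne.symm hne2),
        ← Nat.card_eq_fintype_card, hk2] at this
      omega
    have h1 : x * (s : G) * x⁻¹ = (s : G) := congrArg Subtype.val hu
    exact (mul_inv_eq_iff_eq_mul.mp h1).symm
  have hinj : Function.Injective f := (MonoidHom.ker_eq_bot_iff f).mp hker
  have hbij : Function.Bijective f := (Nat.bijective_iff_injective_and_card _).mpr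
    ⟨hinj, by rw [h, Nat.card_perm, hn]; rfl⟩
  exact ⟨(MulEquiv.ofBijective f hbij).trans (Equiv.permCongrHom (Finite.equivFinOfCardEq hn))⟩

end Cfsg.Agent.S1012
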