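import Cfsg.Statements.S1013
import Cfsg.Agent.Lib.SmallGroups.Basic
import Cfsg.Agent.Lib.SmallGroups.PrimeTransitiveSylow

set_option autoImplicit false
open Cfsg

namespace Cfsg.Agent.S1013

open CfsgLib.SmallGroups

/-- Let G be a transitive permutation group of prime degree p having more than one Sylow p-subgroup, and suppose a Sylow p-subgroup P has prime index in its normalizer. Then G is simple. -/
theorem result {α : Type*} [Fintype α] [DecidableEq α] {p : ℕ} [Fact p.Prime] (hα : Fintype.card α = p) (G : Subgroup (Equiv.Perm α)) [MulAction.IsPretransitive ↥G α] (P : Sylow p ↥G) (hn : 1 < Nat.card (Sylow p ↥G)) (ht : (((P : Subgroup ↥G).subgroupOf (Subgroup.normalizer ((P : Subgroup ↥G) : Set ↥G))).index).Prime) : IsSimpleGroup ↥G := by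
  classical
  have hp : p.Prime := Fact.out
  have hPc : Nat.card (P : Subgroup G) = p := card_sylow_prime_degree hα G P
  haveI : MulAction.IsPreprimitive G α :=
    MulAction.IsPreprimitive.of_prime_card (by rw [Nat.card_eq_fintype_card, hα]; exact hp)
  haveI : Nontrivial G := by
    by_contra h
    rw [not_nontrivial_iff_subsingleton] at h
    haveI : Subsingleton (Sylow p G) := ⟨fun A B => Sylow.ext (Subsingleton.elim _ _)⟩
    rw [Nat.card_of_subsingleton P] at hn
    omega
  refine ⟨fun M hM => ?_⟩
  by_contra hne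
  push Not at hne
  haveI := hM
  -- transitive normal subgroups contain a Sylow subgroup
  have htrans : ∀ L : Subgroup G, L.Normal → L ≠ ⊥ → p ∣ Nat.card L := by
    intro L hL hLne
    haveI := hL
    have hfix : MulAction.fixedPoints L α ≠ Set.univ := by
      intro h
      apply hLne
      rw [eq_bot_iff]
      intro g hg
      refine Subgroup.mem_bot.mpr (Subtype.ext (Equiv.ext fun a => ?_))
      exact (show a ∈ MulAction.fixedPoints L α from h ▸ Set.mem_univ a) ⟨g, hg⟩
    haveI : MulAction.IsPretransitive L α := MulAction.IsQuasiPreprimitive.isPretransitive_of_normal hfix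
    obtain ⟨a⟩ : Nonempty α := Fintype.card_pos_iff.mp (hα ▸ hp.pos)
    rw [← hα, ← Nat.card_eq_fintype_card (α := α), ← MulAction.index_stabilizer_of_transitive (G := L) a]
    exact Subgroup.index_dvd_card _
  have hpM : p ∣ Nat.card M := htrans M hM hne.1
  obtain ⟨Q⟩ : Nonempty (Sylow p M) := inferInstance
  have hQc : Nat.card (Q : Subgroup M) = p := by
    obtain ⟨Q', hQ'⟩ := Q.exists_comap_subtype_eq
    have h1 : Nat.card (Q : Subgroup M) ∣ p := by
      refine dvd_trans ?_ (dvd_of_eq (card_sylow_prime_degree hα G Q'))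
      rw [← hQ']
      exact Subgroup.card_comap_dvd_of_injective _ _ M.subtype_injective
    rcases (Nat.dvd_prime hp).mp h1 with h | h
    · have := Q.dvd_card_of_dvd_card hpM
      rw [h, Nat.dvd_one] at this
      exact absurd this hp.ne_one
    · exact h
  let Q₀ : Sylow p G := Sylow.ofCard ((Q : Subgroup M).map M.subtype) (by
    exact (Subgroup.card_map_of_injective M.subtype_injective).trans (hQc.trans (hPc.symm.trans P.card_eq_multiplicity)))
  set N := Subgroup.normalizer ((Q₀ : Subgroup G) : Set G) with hNdef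
  have hQ₀M : (Q₀ : Subgroup G) ≤ M := Subgroup.map_subtype_le _
  have hQN : (Q₀ : Subgroup G) ≤ N := Subgroup.le_normalizer
  -- the normalizers of the Sylow subgroups have prime index over them
  have ht' : ((Q₀ : Subgroup G).relIndex N).Prime := by
    obtain ⟨g, hg⟩ := MulAction.exists_smul_eq G P Q₀
    have e1 := card_sylow_mul_card_normalizer P
    have e2 := card_sylow_mul_card_normalizer Q₀
    rw [← hNdef] at e2
    have hNN : Nat.card N = Nat.card (Subgroup.normalizer ((P : Subgroup G) : Set G)) :=
      Nat.eq_of_mul_eq_mul_left Nat.card_pos (e2.trans e1.symm)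
    have e3 := ((P : Subgroup G).subgroupOf (Subgroup.normalizer ((P : Subgroup G) : Set G))).card_mul_index
    have e4 := ((Q₀ : Subgroup G).subgroupOf N).card_mul_index
    rw [Nat.card_congr (Subgroup.subgroupOfEquivOfLe hQN).toEquiv, card_sylow_prime_degree hα G Q₀,
      hNN] at e4
    rw [Nat.card_congr (Subgroup.subgroupOfEquivOfLe (Subgroup.le_normalizer)).toEquiv, hPc] at e3
    have : (Q₀ : Subgroup G).relIndex N =
        ((P : Subgroup G).subgroupOf (Subgroup.normalizer ((P : Subgroup G) : Set G))).index :=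
      Nat.eq_of_mul_eq_mul_left hp.pos (e4.trans e3.symm)
    rw [this]; exact ht
  have hfr : N ⊔ M = ⊤ := Sylow.normalizer_sup_eq_top Q
  have hidx : M.index = M.relIndex N := by
    rw [← Subgroup.relIndex_sup_right N M, hfr, Subgroup.relIndex_top_right]
  have hrel : (Q₀ : Subgroup G).relIndex (M ⊓ N) * M.index = (Q₀ : Subgroup G).relIndex N := by
    rw [hidx, ← Subgroup.inf_relIndex_right M N]
    exact Subgroup.relIndex_mul_relIndex _ _ _ (le_inf hQ₀M hQN) inf_le_right
  have hi1 : M.index ≠ 1 := fun h => hne.2 (Subgroup.index_eq_one.mp h)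
  have hone : (Q₀ : Subgroup G).relIndex (M ⊓ N) = 1 := by
    rcases (Nat.dvd_prime ht').mp ⟨_, hrel.symm⟩ with h | h
    · exact h
    · rw [h] at hrel
      exact absurd (Nat.eq_of_mul_eq_mul_left ht'.pos (hrel.trans (mul_one _).symm)) hi1
  have hle : M ⊓ N ≤ (Q₀ : Subgroup G) := Subgroup.relIndex_eq_one.mp hone
  haveI : IsCyclic (Q : Subgroup M) := isCyclic_of_prime_card (p := p) hQc
  have hNM : Subgroup.normalizer ((Q : Subgroup M) : Set M) ≤ Subgroup.centralizer ((Q : Subgroup M) : Set M) := by
    intro g hg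
    have h1 : (g : G) ∈ N := by
      intro x
      constructor
      · rintro ⟨y, hy, rfl⟩
        exact ⟨g * y * g⁻¹, (hg y).mp hy, rfl⟩
      · rintro ⟨y, hy, hy'⟩
        refine ⟨g⁻¹ * y * g, (hg _).mpr ?_, ?_⟩
        · rwa [show g * (g⁻¹ * y * g) * g⁻¹ = y by group]
        · have hy'' : (y : G) = (g : G) * x * (g : G)⁻¹ := hy'
          show (g : G)⁻¹ * y * g = x
          rw [hy'']; group
    obtain ⟨y, hy, hy'⟩ := hle ⟨g.2, h1⟩
    obtain rfl : y = g := Subtype.ext hy'
    exact Subgroup.le_centralizer _ hy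
  -- the normal p-complement of M is trivial
  set K := (MonoidHom.transferSylow Q hNM).ker with hKdef
  have hKp : ¬ p ∣ Nat.card K := MonoidHom.not_dvd_card_ker_transferSylow Q hNM
  have hKc : Nat.card K * Nat.card (Q : Subgroup M) = Nat.card M :=
    (MonoidHom.ker_transferSylow_isComplement' Q hNM).card_mul
  set K' := K.map M.subtype with hK'
  have hK'c : Nat.card K' = Nat.card K := Subgroup.card_map_of_injective M.subtype_injective
  have hK'n : K'.Normal := by
    refine ⟨fun x hx g => ?_⟩
    obtain ⟨k, hk, rfl⟩ := hx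
    have hmem : g * (k : G) * g⁻¹ ∈ M := hM.conj_mem _ k.2 g
    refine ⟨⟨_, hmem⟩, ?_, rfl⟩
    -- K consists of the elements of order prime to p
    set k' : M := ⟨_, hmem⟩
    have hord : orderOf k' = orderOf k := by
      rw [← Subgroup.orderOf_coe, ← Subgroup.orderOf_coe k]
      exact orderOf_injective (MulAut.conj g).toMonoidHom (MulAut.conj g).injective (k : G)
    have hkord : ¬ p ∣ orderOf k := fun h => hKp (h.trans (Subgroup.orderOf_dvd_natCard _ hk))
    have hd : orderOf (MonoidHom.transferSylow Q hNM k') ∣ p :=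
      (orderOf_dvd_natCard _).trans (dvd_of_eq hQc)
    have hd2 : orderOf (MonoidHom.transferSylow Q hNM k') ∣ orderOf k := hord ▸ orderOf_map_dvd _ k'
    exact MonoidHom.mem_ker.mpr (orderOf_eq_one_iff.mp
      (Nat.eq_one_of_dvd_coprimes (hp.coprime_iff_not_dvd.mpr hkord) hd hd2))
  have hKbot : K' = ⊥ := by
    by_contra h
    exact hKp (hK'c ▸ htrans K' hK'n h)
  have hMQ : M = (Q₀ : Subgroup G) := by
    refine (Subgroup.eq_of_le_of_card_ge hQ₀M ?_).symm
    have h1 : Nat.card K = 1 := by rw [← hK'c, hKbot, Subgroup.card_bot]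
    rw [h1, one_mul, hQc] at hKc
    rw [← hKc, card_sylow_prime_degree hα G Q₀]
  have := card_sylow_eq_one_of_normal Q₀ (hMQ ▸ hM)
  omega

end Cfsg.Agent.S1013
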