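import Cfsg.Statements.S1015
import Cfsg.Agent.Lib.SmallGroups.Basic
import Cfsg.Agent.S1009

set_option autoImplicit false
open Cfsg

namespace Cfsg.Agent.S1015

open CfsgLib.SmallGroups

/-- No finite simple group has order 1200 = 2^4 * 3 * 5^2. -/
theorem result {G : Type*} [Group G] [Finite G] [IsSimpleGroup G] : Nat.card G ≠ 1200 := by
  intro hG
  haveI : Fact (Nat.Prime 5) := ⟨by norm_num⟩
  have hna : ¬ IsMulCommutative G := not_isMulCommutative_of_not_prime (by rw [hG]; norm_num)
  have hfac : Nat.card G = 5 ^ 2 * 48 := by rw [hG]; norm_num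
  have hdvd : 5 ∣ Nat.card G := by rw [hG]; norm_num
  have hn : Nat.card (Sylow 5 G) = 16 := by
    have h1 := card_sylow_mem_filter (G := G) (p := 5) hfac (by norm_num)
    have h2 := card_sylow_ne_one (G := G) (p := 5) hna hdvd
    have h4 := two_mul_card_dvd_factorial_card_sylow (G := G) (p := 5) hna hdvd
    have h3 : (Finset.range (48 + 1)).filter (fun d => 48 % d = 0 ∧ d % 5 = 1) = {1, 6, 16} := by decide +kernel
    rw [h3] at h1
    simp only [Finset.mem_insert, Finset.mem_singleton] at h1
    rcases h1 with h1 | h1 | h1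
    · exact absurd h1 h2
    · rw [h1, hG] at h4; norm_num [Nat.factorial] at h4
    · exact h1
  have hc : ∀ P : Sylow 5 G, Nat.card (P : Subgroup G) = 25 := fun P => by
    simpa using card_sylow_eq hfac (by norm_num) P
  obtain ⟨A, B, hAB⟩ := Cfsg.Agent.S1009.result (G := G) 5
    (fun P => IsPGroup.isMulCommutative_of_card_eq_prime_sq (p := 5) (by rw [hc P]; norm_num))
  -- the intersection of all Sylow subgroups is trivial
  have hbot : (A : Subgroup G) ⊓ (B : Subgroup G) = ⊥ := by
    rw [hAB, eq_bot_iff]
    intro x hx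
    by_contra hx1
    have hinj : Function.Injective (MulAction.toPermHom G (Sylow 5 G)) := by
      apply toPermHom_injective_of_not_trivial
      by_contra hall
      push Not at hall
      haveI : Subsingleton (Sylow 5 G) := ⟨fun P Q => by
        obtain ⟨g, hg⟩ := MulAction.exists_smul_eq G P Q
        rw [← hg, hall]⟩
      rw [Nat.card_of_subsingleton A] at hn
      omega
    refine hx1 (Subgroup.mem_bot.mpr (hinj (Equiv.ext fun Q => ?_)))
    simp only [MulAction.toPermHom_apply, MulAction.toPerm_apply, map_one, Equiv.Perm.one_apply]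
    exact Sylow.smul_eq_iff_mem_normalizer.mpr (Subgroup.le_normalizer (Subgroup.mem_iInf.mp hx Q))
  -- but then the orbit of `B` under `A` has 25 members
  have hst : MulAction.stabilizer (A : Subgroup G) B = ⊥ := by
    rw [eq_bot_iff]
    intro u hu
    have h1 : (u : G) ∈ (A : Subgroup G) ⊓ Subgroup.normalizer (B : Set G) :=
      ⟨u.2, Sylow.smul_eq_iff_mem_normalizer.mp (MulAction.mem_stabilizer_iff.mp hu)⟩
    rw [A.2.inf_normalizer_sylow B, hbot, Subgroup.mem_bot] at h1
    exact Subgroup.mem_bot.mpr (Subtype.ext h1)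
  have h1 := MulAction.index_stabilizer (A : Subgroup G) B
  rw [hst, Subgroup.index_bot, hc A] at h1
  have h2 : (MulAction.orbit (A : Subgroup G) B).ncard ≤ Nat.card (Sylow 5 G) := Set.ncard_le_card _
  omega

end Cfsg.Agent.S1015
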