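import Cfsg.Statements.S1017
import Cfsg.Agent.Lib.SmallGroups.SylowFixed

set_option autoImplicit false
open Cfsg

namespace Cfsg.Agent.S1017

open CfsgLib.SmallGroups

theorem arith_k : ∀ k < 6, 4 ∣ 36 - (1 + 7 * k) → k = 1 ∨ k = 5 := by decide

/-- No finite simple group has order 2016 = 2^5 * 3^2 * 7. -/
theorem result {G : Type*} [Group G] [Finite G] [IsSimpleGroup G] : Nat.card G ≠ 2016 := by
  intro hG
  haveI : Fact (Nat.Prime 7) := ⟨by norm_num⟩
  have hna : ¬ IsMulCommutative G := not_isMulCommutative_of_not_prime (by rw [hG]; norm_num)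
  have hfac : Nat.card G = 7 ^ 1 * 288 := by rw [hG]; norm_num
  have hdvd : 7 ∣ Nat.card G := by rw [hG]; norm_num
  obtain ⟨P⟩ : Nonempty (Sylow 7 G) := inferInstance
  have hP : Nat.card (P : Subgroup G) = 7 := SylowFixed.setup hfac (by norm_num) rfl P
  set N := Subgroup.normalizer ((P : Subgroup G) : Set G) with hNdef
  set C := Subgroup.centralizer ((P : Subgroup G) : Set G) with hCdef
  have h1 := card_sylow_mem_filter (G := G) (p := 7) hfac (by norm_num)
  have h2 := card_sylow_ne_one (G := G) (p := 7) hna hdvd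
  have h3 : (Finset.range (288 + 1)).filter (fun d => 288 % d = 0 ∧ d % 7 = 1) = {1, 8, 36, 288} := by
    decide +kernel
  rw [h3] at h1
  simp only [Finset.mem_insert, Finset.mem_singleton] at h1
  have hNG := card_sylow_mul_card_normalizer P
  rw [← hNdef] at hNG
  have hNC : Nat.card N ∣ (7 - 1) * Nat.card C := card_normalizer_dvd_of_card_prime hP
  rcases h1 with e | e | e | e
  · exact h2 e
  · rw [e, hG] at hNG
    have h5 := SylowFixed.card_normalizer_dvd hna hdvd P hP (by rw [e]; norm_num)
    rw [e, ← hNdef, show Nat.card N = 252 by omega] at h5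
    norm_num [Nat.factorial] at h5
  · rw [e, hG] at hNG
    have hN : Nat.card N = 7 * 2 ^ 3 := by norm_num; omega
    have hC7 : 7 < Nat.card C := by
      have hd : 28 ∣ Nat.card C := by rw [hN] at hNC; norm_num at hNC; omega
      have := Nat.le_of_dvd Nat.card_pos hd
      omega
    obtain ⟨y, hyC, hy2, hNy⟩ := SylowFixed.exists_central P hP Nat.prime_two (by norm_num) hN hC7
    have hy1 : y ≠ 1 := fun h => by rw [h, orderOf_one] at hy2; norm_num at hy2
    obtain ⟨k, hk⟩ := SylowFixed.exists_fixCard_eq P hP hyC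
    have hle : SylowFixed.fixCard 7 y ≤ 36 := e ▸ Finite.card_subtype_le _
    have h4d := SylowFixed.four_dvd_moved (p := 7) hna (g := y)
      (by rw [← pow_two, ← hy2, pow_orderOf_eq_one])
    rw [e, hk] at h4d
    have hlt : 5 + 1 < SylowFixed.fixCard 7 y := by
      rcases arith_k k (by omega) h4d with rfl | rfl
      · omega
      · omega
    have hs := SylowFixed.card_sylow_centralizer_ne_one P hP (t := 5) (by rw [e]) hyC hlt
    set H := Subgroup.centralizer ({y} : Set G) with hH
    have hHc := SylowFixed.card_eq_card_sylow_mul P (H := H) hNy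
    rw [← hNdef, hN] at hHc
    have hidx := H.card_mul_index
    have hmod := mod_eq_one_card_sylow (G := H) (p := 7)
    rw [hHc, hG] at hidx
    have hd36 : Nat.card (Sylow 7 H) ∣ 36 := ⟨H.index, by nlinarith⟩
    have hidx1 : H.index ≠ 1 := fun h => SylowFixed.centralizer_ne_top hna hy1 (Subgroup.index_eq_one.mp h)
    have h36 : Nat.card (Sylow 7 H) ∈ (Nat.divisors 36).filter (fun d => d % 7 = 1) :=
      Finset.mem_filter.mpr ⟨Nat.mem_divisors.mpr ⟨hd36, by norm_num⟩, hmod⟩
    rw [show (Nat.divisors 36).filter (fun d => d % 7 = 1) = {1, 36} by decide +kernel] at h36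
    simp only [Finset.mem_insert, Finset.mem_singleton] at h36
    rcases h36 with h' | h'
    · exact hs h'
    · rw [h'] at hidx; omega
  · rw [e, hG] at hNG
    have hd : Nat.card N ∣ Nat.card C := by
      refine Nat.Coprime.dvd_of_dvd_mul_left ?_ hNC
      rw [show Nat.card N = 7 by omega]; norm_num
    exact not_normalizer_le_centralizer hna hdvd P
      (Subgroup.eq_of_le_of_card_ge (Subgroup.centralizer_le_normalizer _) (Nat.le_of_dvd Nat.card_pos hd)).ge

end Cfsg.Agent.S1017
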