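import Cfsg.Statements.S1018
import Cfsg.Agent.Lib.SmallGroups.Basic

set_option autoImplicit false
open Cfsg

namespace Cfsg.Agent.S1018

/-- Let P be a Sylow p-subgroup of order p of a finite group G, and consider the action of G on the left cosets of the normalizer N of P. Then every element of order p fixes exactly one coset, and an element of N that does not centralize P fixes at most as many cosets as there are orbits of P. -/
theorem result {G : Type*} [Group G] [Finite G] (p : ℕ) [Fact p.Prime] (P : Sylow p G) (hP : Nat.card ↥(P : Subgroup G) = p) : (∀ y : G, orderOf y = p → Nat.card (MulAction.fixedBy (G ⧸ Subgroup.normalizer ((P : Subgroup G) : Set G)) y) = 1) ∧ ∀ x : G, x ∈ Subgroup.normalizer ((P : Subgroup G) : Set G) → x ∉ Subgroup.centralizer ((P : Subgroup G) : Set G) → Nat.card (MulAction.fixedBy (G ⧸ Subgroup.normalizer ((P : Subgroup G) : Set G)) x) ≤ Nat.card (MulAction.orbitRel.Quotient ↥(P : Subgroup G) (G ⧸ Subgroup.normalizer ((P : Subgroup G) : Set G))) := by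
  classical
  set N := Subgroup.normalizer ((P : Subgroup G) : Set G) with hN
  have hp : p.Prime := Fact.out
  have hgen : ∀ (A : Sylow p G) (z : G), z ∈ (A : Subgroup G) → z ≠ 1 →
      (A : Subgroup G) = Subgroup.zpowers z := by
    intro A z hz hz1
    have hA : Nat.card (A : Subgroup G) = p := by rw [Nat.card_congr (A.equiv P).toEquiv, hP]
    have hle : Subgroup.zpowers z ≤ (A : Subgroup G) := Subgroup.zpowers_le.mpr hz
    refine (Subgroup.eq_of_le_of_card_ge hle ?_).symm
    have hd := Subgroup.card_dvd_of_le hle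
    rw [hA] at hd ⊢
    rcases (Nat.dvd_prime hp).mp hd with h | h
    · rw [Nat.card_zpowers, orderOf_eq_one_iff] at h; exact absurd h hz1
    · omega
  -- a p-element fixing a coset gN lies in the conjugate of P
  have hfixP : ∀ (z : G) (g : G), orderOf z = p → z • ((g : G ⧸ N)) = (g : G ⧸ N) →
      z ∈ ((g • P : Sylow p G) : Subgroup G) := by
    intro z g hz hfix
    rw [MulAction.Quotient.smul_coe, smul_eq_mul, QuotientGroup.eq] at hfix
    have hm : g⁻¹ * z * g ∈ N := by simpa [mul_assoc] using inv_mem hfix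
    have hord : IsPGroup p (Subgroup.zpowers (g⁻¹ * z * g)) := by
      apply IsPGroup.of_card (n := 1)
      rw [Nat.card_zpowers, pow_one, ← hz]
      have e : g⁻¹ * z * g = MulAut.conj g⁻¹ z := by simp
      rw [e, MulEquiv.orderOf_eq]
    have h1 := hord.inf_normalizer_sylow P
    have h2 : g⁻¹ * z * g ∈ Subgroup.zpowers (g⁻¹ * z * g) ⊓ Subgroup.normalizer (P : Set G) :=
      ⟨Subgroup.mem_zpowers _, hm⟩
    rw [h1] at h2
    exact ⟨g⁻¹ * z * g, h2.2, by show g * (g⁻¹ * z * g) * g⁻¹ = z; group⟩
  have hinj : ∀ g g' : G, g • P = g' • P → (g : G ⧸ N) = (g' : G ⧸ N) := by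
    intro g g' h
    rw [QuotientGroup.eq]
    have : (g⁻¹ * g') • P = P := by rw [mul_smul, ← h, inv_smul_smul]
    exact Sylow.smul_eq_iff_mem_normalizer.mp this
  refine ⟨fun y hy => ?_, fun x hxN hxC => ?_⟩
  · have hyp : IsPGroup p (Subgroup.zpowers y) := IsPGroup.of_card (n := 1) (by rw [Nat.card_zpowers, hy, pow_one])
    obtain ⟨A, hA⟩ := hyp.exists_le_sylow
    obtain ⟨g, rfl⟩ := MulAction.exists_smul_eq G P A
    have hy1 : y ≠ 1 := fun h => hp.ne_one (by rw [← hy, h, orderOf_one])
    rw [Nat.card_eq_one_iff_unique]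
    refine ⟨⟨?_⟩, ⟨⟨(g : G ⧸ N), ?_⟩⟩⟩
    · rintro ⟨a, ha⟩ ⟨b, hb⟩
      induction a using QuotientGroup.induction_on with
      | H a =>
        induction b using QuotientGroup.induction_on with
        | H b =>
          apply Subtype.ext
          apply hinj
          exact Sylow.ext ((hgen _ y (hfixP y a hy ha) hy1).trans (hgen _ y (hfixP y b hy hb) hy1).symm)
    · show y • (g : G ⧸ N) = g
      obtain ⟨z, hz, hzy⟩ := hA (Subgroup.mem_zpowers y)
      have hzy' : g * z * g⁻¹ = y := hzy
      rw [MulAction.Quotient.smul_coe, smul_eq_mul, QuotientGroup.eq, ← hzy']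
      have : (g * z * g⁻¹ * g)⁻¹ * g = z⁻¹ := by group
      rw [this]
      exact inv_mem (Subgroup.le_normalizer hz)
  · refine Nat.card_le_card_of_injective (fun c => Quotient.mk _ c.1) ?_
    rintro ⟨a, ha⟩ ⟨b, hb⟩ hab
    obtain ⟨⟨u, hu⟩, hua⟩ := Quotient.exact hab
    have hua' : u • b = a := hua
    subst hua'
    apply Subtype.ext
    show u • b = b
    by_cases hu1 : u = 1
    · rw [hu1, one_smul]
    set v := u⁻¹ * x * u * x⁻¹ with hv
    have hvb : v • b = b := by
      have hxinv : x⁻¹ • b = b := by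
        rw [inv_smul_eq_iff]; exact (MulAction.mem_fixedBy.mp hb).symm
      rw [hv, mul_smul, hxinv, mul_smul, mul_smul, MulAction.mem_fixedBy.mp ha, inv_smul_smul]
    have hvP : v ∈ (P : Subgroup G) := by
      have : v = u⁻¹ * (x * u * x⁻¹) := by rw [hv]; group
      rw [this]
      exact mul_mem (inv_mem hu) ((hxN u).mp hu)
    by_cases hv1 : v = 1
    · exfalso
      apply hxC
      rw [Subgroup.mem_centralizer_iff]
      intro w hw
      have hw' : w ∈ Subgroup.zpowers u := (hgen P u hu hu1) ▸ hw
      have hcomm : Commute u x := by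
        have h : u⁻¹ * x * u = x := mul_inv_eq_one.mp hv1
        rw [mul_assoc, inv_mul_eq_iff_eq_mul] at h
        exact h.symm
      obtain ⟨n, rfl⟩ := Subgroup.mem_zpowers_iff.mp hw'
      exact (hcomm.zpow_left n).eq
    · have hu' : u ∈ MulAction.stabilizer G b := by
        have h1 : (P : Subgroup G) ≤ MulAction.stabilizer G b := by
          rw [hgen P v hvP hv1, Subgroup.zpowers_le]
          exact hvb
        exact h1 hu
      exact hu'

end Cfsg.Agent.S1018
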