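import Mathlib
import Cfsg.Statements.S1019


set_option autoImplicit false
open Cfsg

namespace Cfsg.Agent.S1019

/-- Let H be a subgroup of a finite group G and x an element of H. In the action of G on the left cosets of H, the number of cosets fixed by x, multiplied by the size of the conjugacy class of x, equals the index of H multiplied by the number of conjugates of x that lie in H. -/
theorem result {G : Type*} [Group G] [Finite G] (H : Subgroup G) (x : G) (hx : x ∈ H) : Nat.card (MulAction.fixedBy (G ⧸ H) x) * Nat.card {g : G // IsConj x g} = H.index * Nat.card {g : G // IsConj x g ∧ g ∈ H} := by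
  classical
  haveI := Fintype.ofFinite G
  -- count the pairs (conjugate y of x, coset fixed by y) in two ways
  let T : Type _ := {z : {g : G // IsConj x g} × (G ⧸ H) // z.1.1 • z.2 = z.2}
  have h1 : Nat.card T =
      Nat.card (MulAction.fixedBy (G ⧸ H) x) * Nat.card {g : G // IsConj x g} := by
    rw [Nat.card_congr (Equiv.subtypeProdEquivSigmaSubtype
      (fun (y : {g : G // IsConj x g}) (c : G ⧸ H) => y.1 • c = c)), Nat.card_sigma]
    rw [Finset.sum_congr rfl (g := fun _ => Nat.card (MulAction.fixedBy (G ⧸ H) x)), Finset.sum_const,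
      Finset.card_univ, smul_eq_mul, Nat.card_eq_fintype_card (α := {g : G // IsConj x g}), mul_comm]
    intro y _
    obtain ⟨c, hc⟩ := isConj_iff.mp y.2
    refine Nat.card_congr (Equiv.subtypeEquiv (MulAction.toPerm c⁻¹) fun q => ?_)
    simp only [MulAction.toPerm_apply, MulAction.mem_fixedBy]
    rw [← hc, mul_smul, mul_smul]
    constructor
    · intro h; rw [← eq_inv_smul_iff] at h; exact h
    · intro h; rw [h, smul_inv_smul]
  have h2 : Nat.card T = H.index * Nat.card {g : G // IsConj x g ∧ g ∈ H} := by
    haveI := Fintype.ofFinite (G ⧸ H)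
    let e : T ≃ Σ c : G ⧸ H, {y : {g : G // IsConj x g} // y.1 • c = c} :=
      { toFun := fun z => ⟨z.1.2, ⟨z.1.1, z.2⟩⟩
        invFun := fun z => ⟨(z.2.1, z.1), z.2.2⟩
        left_inv := fun _ => rfl
        right_inv := fun _ => rfl }
    rw [Nat.card_congr e, Nat.card_sigma]
    rw [Finset.sum_congr rfl (g := fun _ => Nat.card {g : G // IsConj x g ∧ g ∈ H}), Finset.sum_const,
      Finset.card_univ, smul_eq_mul, Subgroup.index, Nat.card_eq_fintype_card (α := G ⧸ H)]
    intro c _
    induction c using QuotientGroup.induction_on with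
    | H a =>
      refine Nat.card_congr ((Equiv.subtypeSubtypeEquivSubtypeInter (fun g : G => IsConj x g)
        (fun g : G => g • (a : G ⧸ H) = (a : G ⧸ H))).trans
        (Equiv.subtypeEquiv (MulAut.conj a⁻¹).toEquiv fun y => ?_))
      simp only [MulEquiv.toEquiv_eq_coe, MulEquiv.coe_toEquiv, MulAut.conj_apply, inv_inv]
      constructor
      · rintro ⟨h3, h4⟩
        refine ⟨h3.trans (isConj_iff.mpr ⟨a⁻¹, by simp⟩), ?_⟩
        rw [MulAction.Quotient.smul_coe, QuotientGroup.eq] at h4
        simpa [mul_assoc] using inv_mem h4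
      · rintro ⟨h3, h4⟩
        refine ⟨h3.trans (isConj_iff.mpr ⟨a, by group⟩), ?_⟩
        rw [MulAction.Quotient.smul_coe, QuotientGroup.eq]
        simpa [mul_assoc] using inv_mem h4
  rw [← h1, h2]

end Cfsg.Agent.S1019
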