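import Cfsg.Statements.S1022
import Cfsg.Agent.Lib.SmallGroups.Order459648.Main

set_option autoImplicit false
open Cfsg

namespace Cfsg.Agent.S1022

/-- No finite simple group has order 459648 = 2^7 * 3^3 * 7 * 19. -/
theorem result {G : Type*} [Group G] [Finite G] [IsSimpleGroup G] : Nat.card G ≠ 459648 := by
  intro h
  haveI := Fintype.ofFinite G
  refine CfsgLib.SmallGroups.Order459648.false_of_simple h fun hc => ?_
  letI : CommGroup G := { (inferInstance : Group G) with mul_comm := mul_comm' }
  have := IsSimpleGroup.prime_card (α := G)
  rw [h] at this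
  norm_num at this

end Cfsg.Agent.S1022
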