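import Cfsg.Statements.S1026
import Cfsg.Agent.Lib.Chev.All

set_option autoImplicit false
open Cfsg

namespace Cfsg.Agent.S1026

/-- Every element of `U` has a unique expression `∏_{r ∈ Φ⁺} x_r(t_r)`, the product over the positive roots in increasing index order (the coefficient family `t`, supported on the positive roots, exists and is unique); and conversely every such ordered product is the matrix of an element of `U`. -/
theorem result {F : Type*} [Field F] (D : Cfsg.Lie.ChevalleyDatum) (hD : D ∈ [Cfsg.Lie.chevG2, Cfsg.Lie.chevB2, Cfsg.Lie.chevD4, Cfsg.Lie.chevF4, Cfsg.Lie.chevE6, Cfsg.Lie.chevE7, Cfsg.Lie.chevE8]) :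
    (∀ g : GL D.Idx F, g ∈ D.posUnipotent F →
      ∃! t : ℕ → F, (∀ r, ¬ D.IsPosRoot r → t r = 0) ∧
        (g : Matrix D.Idx D.Idx F) = D.wordMat F (D.posRoots.map fun r => (r, t r))) ∧
    (∀ t : ℕ → F, ∃ g : GL D.Idx F, g ∈ D.posUnipotent F ∧
      (g : Matrix D.Idx D.Idx F) = D.wordMat F (D.posRoots.map fun r => (r, t r))) := by
  obtain ⟨⟨co, hF⟩, hC⟩ := CfsgLib.Chev.good_of_mem hD
  have hev := hF.nroots_even
  have hmem : ∀ t : ℕ → F, ∀ p ∈ D.posRoots.map fun r => (r, t r), p.1 < D.nroots := by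
    intro t p hp
    obtain ⟨r, hr, rfl⟩ := List.mem_map.1 hp
    rw [hF.posRoots_eq, List.mem_range'_1] at hr
    show r < D.nroots
    omega
  refine ⟨fun g hg => ?_, fun t => ⟨CfsgLib.Chev.wU D (D.posRoots.map fun r => (r, t r)), ?_,
    hF.wU_val (hmem t)⟩⟩
  · rw [hF.posUnipotent_eq] at hg
    obtain ⟨t, rfl⟩ := hF.exists_ordered hC (m := D.nroots / 2) (k := D.nroots / 2) (by omega)
      le_rfl hg
    classical
    refine ⟨fun r => if D.IsPosRoot r then t r else 0, ⟨fun r hr => if_neg hr, ?_⟩, ?_⟩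
    · rw [← hF.wU_val (hmem _), hF.posRoots_eq]
      refine congrArg (fun w => ((CfsgLib.Chev.wU D w : GL D.Idx F) : Matrix D.Idx D.Idx F))
        (List.map_congr_left fun r hr => ?_)
      rw [List.mem_range'_1] at hr
      rw [if_pos ((hF.isPos_iff r (by omega)).2 hr.1)]
    · rintro t' ⟨h0, h1⟩
      rw [← hF.wU_val (hmem _), Units.val_inj, hF.posRoots_eq] at h1
      funext r
      by_cases hr : D.IsPosRoot r
      · rw [if_pos hr]
        exact (hF.ordered_unique (by omega) le_rfl h1 r ((hF.isPos_iff r hr.1).1 hr) hr.1).symm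
      · rw [if_neg hr, h0 r hr]
  · rw [hF.posUnipotent_eq, hF.posRoots_eq]
    exact hF.ordered_mem (by omega) t

end Cfsg.Agent.S1026
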