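import Cfsg.Statements.S1028
import Cfsg.Agent.Lib.Chev.All

set_option autoImplicit false
open Cfsg

namespace Cfsg.Agent.S1028

/-- Elements of `U` (the subgroup generated by the root elements of the positive roots) are unipotent linear maps: `(u - 1)^n = 0` with `n = rank + nroots` the dimension of the module. -/
theorem result {F : Type*} [Field F] (D : Cfsg.Lie.ChevalleyDatum) (hD : D ∈ [Cfsg.Lie.chevG2, Cfsg.Lie.chevB2, Cfsg.Lie.chevD4, Cfsg.Lie.chevF4, Cfsg.Lie.chevE6, Cfsg.Lie.chevE7, Cfsg.Lie.chevE8]) (g : GL D.Idx F) (hg : g ∈ D.posUnipotent F) :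
    ((g : Matrix D.Idx D.Idx F) - 1) ^ (D.rank + D.nroots) = 0 := by
  obtain ⟨⟨co, hF⟩, -⟩ := CfsgLib.Chev.good_of_mem.{0} hD
  classical
  rw [hF.posUnipotent_eq] at hg
  set M : Matrix D.Idx D.Idx F := (g : Matrix D.Idx D.Idx F) - 1 with hM
  have hut := hF.pos_ut hg
  set w := CfsgLib.Chev.wt D (CfsgLib.Chev.omega D co) with hw
  have hpow : ∀ k : ℕ, ∀ a b, (M ^ k) a b ≠ 0 → (k : ℤ) + w b ≤ w a := by
    intro k
    induction k with
    | zero =>
      intro a b h
      rw [pow_zero, Matrix.one_apply] at h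
      split_ifs at h with hab
      · subst hab; simp
      · exact absurd rfl h
    | succ k ih =>
      intro a b h
      rw [pow_succ, Matrix.mul_apply] at h
      obtain ⟨c, -, hc⟩ := Finset.exists_ne_zero_of_sum_ne_zero h
      have h1 := ih a c (left_ne_zero_of_mul hc)
      have h2 := hut c b (right_ne_zero_of_mul hc)
      push_cast
      omega
  have hnil : IsNilpotent M := by
    refine ⟨(∑ a : D.Idx, 2 * (w a).natAbs) + 1, ?_⟩
    ext a b
    by_contra h
    have := hpow _ a b h
    have ha := Finset.single_le_sum (f := fun a : D.Idx => 2 * (w a).natAbs) (fun i _ => Nat.zero_le _)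
      (Finset.mem_univ a)
    have hb := Finset.single_le_sum (f := fun a : D.Idx => 2 * (w a).natAbs) (fun i _ => Nat.zero_le _)
      (Finset.mem_univ b)
    rw [Nat.cast_add, Nat.cast_one] at this
    omega
  have h1 := Matrix.isNilpotent_charpoly_sub_pow_of_isNilpotent hnil
  rw [isNilpotent_iff_eq_zero, sub_eq_zero] at h1
  have h2 := Matrix.aeval_self_charpoly M
  rw [h1, map_pow, Polynomial.aeval_X] at h2
  rwa [show Fintype.card D.Idx = D.rank + D.nroots by simp] at h2

end Cfsg.Agent.S1028
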