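import Cfsg.Statements.S1034
import Cfsg.Agent.Lib.Chev.All

set_option autoImplicit false
open Cfsg

namespace Cfsg.Agent.S1034

/-- Every element of `H` is a product `h_{p_1}(c_1) ⋯ h_{p_l}(c_l)` over the fundamental roots, with non-zero `c_i`. -/
theorem result {F : Type*} [Field F] (D : Cfsg.Lie.ChevalleyDatum) (hD : D ∈ [Cfsg.Lie.chevG2, Cfsg.Lie.chevB2, Cfsg.Lie.chevD4, Cfsg.Lie.chevF4, Cfsg.Lie.chevE6, Cfsg.Lie.chevE7, Cfsg.Lie.chevE8]) (g : GL D.Idx F) (hg : g ∈ D.diagonalSubgroup F) :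
    ∃ c : ℕ → F, (∀ i < D.rank, c i ≠ 0) ∧
      (g : Matrix D.Idx D.Idx F) = D.wordMat F ((List.range D.rank).flatMap fun i => D.hWord (D.simple i) (c i)) := by
  obtain ⟨⟨co, hF⟩, -⟩ := CfsgLib.Chev.good_of_mem.{0} hD
  obtain ⟨c, rfl⟩ := hF.mem_diagonal_iff.1 hg
  refine ⟨fun i => (c i : F), fun i _ => Units.ne_zero _, ?_⟩
  rw [hF.hT_eq_list]
  have key : ∀ L : List ℕ, (∀ i ∈ L, i < D.rank) →
      (((L.map fun i => CfsgLib.Chev.hU D (D.simple i) (c i : F)).prod : GL D.Idx F) :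
          Matrix D.Idx D.Idx F) =
        D.wordMat F (L.flatMap fun i => D.hWord (D.simple i) (c i : F)) := by
    intro L hL
    induction L with
    | nil => simp [Cfsg.Lie.ChevalleyDatum.wordMat]
    | cons a L ih =>
      rw [List.map_cons, List.prod_cons, Units.val_mul, ih fun i hi => hL i (by simp [hi]),
        hF.hU_val (hF.simple_lt' (hL a (by simp)))]
      simp [Cfsg.Lie.ChevalleyDatum.wordMat, Cfsg.Lie.ChevalleyDatum.hMat]
  exact key _ fun i hi => List.mem_range.1 hi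

end Cfsg.Agent.S1034
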