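import Cfsg.Statements.S1037
import Cfsg.Agent.Lib.Chev.All

set_option autoImplicit false
open Cfsg

namespace Cfsg.Agent.S1037

/-- `UH ∩ V = 1` and `UH ∩ VH = H`. -/
theorem result {F : Type*} [Field F] (D : Cfsg.Lie.ChevalleyDatum) (hD : D ∈ [Cfsg.Lie.chevG2, Cfsg.Lie.chevB2, Cfsg.Lie.chevD4, Cfsg.Lie.chevF4, Cfsg.Lie.chevE6, Cfsg.Lie.chevE7, Cfsg.Lie.chevE8]) :
    D.borelSubgroup F ⊓ D.negUnipotent F = ⊥ ∧
      D.borelSubgroup F ⊓ (D.negUnipotent F ⊔ D.diagonalSubgroup F) = D.diagonalSubgroup F := by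
  obtain ⟨⟨co, hF⟩, -⟩ := CfsgLib.Chev.good_of_mem.{0} hD
  refine ⟨hF.borel_inf_neg, le_antisymm ?_ (le_inf hF.diagonal_le_borel le_sup_right)⟩
  rintro g ⟨hb, hv⟩
  rw [hF.negUnipotent_eq] at hv
  obtain ⟨v, hv1, h, hh, rfl⟩ := hF.mem_sup_diagonal hv
  have hv' : v ∈ D.borelSubgroup F ⊓ D.negUnipotent F := by
    refine ⟨?_, by rw [hF.negUnipotent_eq]; exact hv1⟩
    have := Subgroup.mul_mem _ hb (Subgroup.inv_mem _ (hF.diagonal_le_borel hh))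
    rwa [mul_inv_cancel_right] at this
  rw [hF.borel_inf_neg, Subgroup.mem_bot] at hv'
  rw [hv', one_mul]; exact hh

end Cfsg.Agent.S1037
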