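import Cfsg.Statements.S1041
import Cfsg.Agent.Lib.Chev.All

set_option autoImplicit false
open Cfsg

namespace Cfsg.Agent.S1041

/-- `U` and `V` generate the whole Chevalley group. -/
theorem result {F : Type*} [Field F] (D : Cfsg.Lie.ChevalleyDatum) (hD : D ∈ [Cfsg.Lie.chevG2, Cfsg.Lie.chevB2, Cfsg.Lie.chevD4, Cfsg.Lie.chevF4, Cfsg.Lie.chevE6, Cfsg.Lie.chevE7, Cfsg.Lie.chevE8]) : D.posUnipotent F ⊔ D.negUnipotent F = D.group F := by
  obtain ⟨⟨co, hF⟩, -⟩ := CfsgLib.Chev.good_of_mem.{0} hD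
  rw [hF.posUnipotent_eq, hF.negUnipotent_eq, hF.group_eq]
  refine le_antisymm (sup_le (CfsgLib.Chev.rootClosure_mono (Q := fun _ => True) fun _ _ _ => trivial)
    (CfsgLib.Chev.rootClosure_mono (Q := fun _ => True) fun _ _ _ => trivial)) ((Subgroup.closure_le _).2 ?_)
  rintro g ⟨r, t, hr, -, rfl⟩
  by_cases hp : D.nroots / 2 ≤ r
  · exact Subgroup.mem_sup_left (CfsgLib.Chev.xU_mem_rootClosure (P := (D.nroots / 2 ≤ ·)) hr hp t)
  · exact Subgroup.mem_sup_right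
      (CfsgLib.Chev.xU_mem_rootClosure (P := (· < D.nroots / 2)) hr (lt_of_not_ge hp) t)

end Cfsg.Agent.S1041
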