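import Cfsg.Statements.S1044
import Cfsg.Agent.Lib.Chev.All

set_option autoImplicit false
open Cfsg

namespace Cfsg.Agent.S1044

/-- For a fundamental root `p` the set `B ∪ B n_p B` is (the carrier of) a subgroup of the general linear group. -/
theorem result {F : Type*} [Field F] (D : Cfsg.Lie.ChevalleyDatum) (hD : D ∈ [Cfsg.Lie.chevG2, Cfsg.Lie.chevB2, Cfsg.Lie.chevD4, Cfsg.Lie.chevF4, Cfsg.Lie.chevE6, Cfsg.Lie.chevE7, Cfsg.Lie.chevE8]) (i : ℕ) (hi : i < D.rank) (n : GL D.Idx F)
    (hn : (n : Matrix D.Idx D.Idx F) = D.nMat F (D.simple i) 1) :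
    ∃ P : Subgroup (GL D.Idx F), (P : Set (GL D.Idx F)) =
      (D.borelSubgroup F : Set (GL D.Idx F)) ∪ DoubleCoset.doubleCoset n (D.borelSubgroup F : Set (GL D.Idx F)) (D.borelSubgroup F) := by
  obtain ⟨⟨co, hF⟩, hC⟩ := CfsgLib.Chev.good_of_mem hD
  have hp := hF.simple_lt' hi
  rw [← hF.nU_val hp, Units.val_inj] at hn
  subst hn
  set n := CfsgLib.Chev.nU D (D.simple i) (1 : F) with hndef
  set B := D.borelSubgroup F with hB
  have hnn : n * n ∈ B := hF.diagonal_le_borel
    (by simpa [CfsgLib.Chev.nS] using hF.nS_sq (F := F) ⟨i, hi⟩ (e := 1) (Or.inl rfl))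
  have hnN : n ∈ D.monomialSubgroup F := hF.nS_mem ⟨i, hi⟩
  have step : ∀ b ∈ B, n * b * n ∈ (B : Set (GL D.Idx F)) ∪
      DoubleCoset.doubleCoset n (B : Set (GL D.Idx F)) B := by
    intro b hb
    rcases hF.step hC ⟨i, hi⟩ hnN hb with h | h
    · left
      rw [DoubleCoset.mem_doubleCoset] at h
      obtain ⟨x, hx, y, hy, e⟩ := h
      show _ ∈ B
      exact e ▸ B.mul_mem (B.mul_mem hx hnn) hy
    · right; exact h
  refine ⟨{ carrier := (B : Set (GL D.Idx F)) ∪ DoubleCoset.doubleCoset n (B : Set (GL D.Idx F)) B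
            one_mem' := Or.inl B.one_mem
            mul_mem' := ?_
            inv_mem' := ?_ }, rfl⟩
  · intro x y hx hy
    rcases hx with hx | hx
    · rcases hy with hy | hy
      · exact Or.inl (B.mul_mem hx hy)
      · rw [DoubleCoset.mem_doubleCoset] at hy
        obtain ⟨a, ha, c, hc, rfl⟩ := hy
        exact Or.inr (DoubleCoset.mem_doubleCoset.2 ⟨x * a, B.mul_mem hx ha, c, hc, by group⟩)
    · rw [DoubleCoset.mem_doubleCoset] at hx
      obtain ⟨a, ha, c, hc, rfl⟩ := hx
      rcases hy with hy | hy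
      · exact Or.inr (DoubleCoset.mem_doubleCoset.2 ⟨a, ha, c * y, B.mul_mem hc hy, by group⟩)
      · rw [DoubleCoset.mem_doubleCoset] at hy
        obtain ⟨a', ha', c', hc', rfl⟩ := hy
        rcases step _ (B.mul_mem hc ha') with h | h
        · refine Or.inl ?_
          have := B.mul_mem (B.mul_mem ha h) hc'
          show _ ∈ B
          rwa [show a * n * c * (a' * n * c') = a * (n * (c * a') * n) * c' by group]
        · rw [DoubleCoset.mem_doubleCoset] at h
          obtain ⟨p, hp', q, hq, e⟩ := h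
          refine Or.inr (DoubleCoset.mem_doubleCoset.2
            ⟨a * p, B.mul_mem ha hp', q * c', B.mul_mem hq hc', ?_⟩)
          rw [show a * n * c * (a' * n * c') = a * (n * (c * a') * n) * c' by group, e]
          group
  · intro x hx
    rcases hx with hx | hx
    · exact Or.inl (B.inv_mem hx)
    · rw [DoubleCoset.mem_doubleCoset] at hx
      obtain ⟨a, ha, c, hc, rfl⟩ := hx
      refine Or.inr (DoubleCoset.mem_doubleCoset.2
        ⟨c⁻¹, B.inv_mem hc, (n * n)⁻¹ * a⁻¹, B.mul_mem (B.inv_mem hnn) (B.inv_mem ha), by group⟩)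

end Cfsg.Agent.S1044
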