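import Cfsg.Statements.S1045
import Cfsg.Agent.Lib.Chev.All

set_option autoImplicit false
open Cfsg

namespace Cfsg.Agent.S1045

/-- For a fundamental root `p`, the subgroup `U_p` generated by the `X_s`, `s` positive and `s ≠ p`, is normalised by `X_p` and `X_{-p}`, and `U = U_p ⊔ X_p`. -/
theorem result {F : Type*} [Field F] (D : Cfsg.Lie.ChevalleyDatum) (hD : D ∈ [Cfsg.Lie.chevG2, Cfsg.Lie.chevB2, Cfsg.Lie.chevD4, Cfsg.Lie.chevF4, Cfsg.Lie.chevE6, Cfsg.Lie.chevE7, Cfsg.Lie.chevE8]) (i : ℕ) (hi : i < D.rank) :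
    D.rootSubgroup F (D.simple i) ⊔ D.rootSubgroup F (D.neg (D.simple i)) ≤
        Subgroup.normalizer (Subgroup.closure {g : GL D.Idx F | ∃ (s : ℕ) (t : F), D.IsPosRoot s ∧ s ≠ D.simple i ∧
          (g : Matrix D.Idx D.Idx F) = D.x F s t} : Set (GL D.Idx F)) ∧
      Subgroup.closure {g : GL D.Idx F | ∃ (s : ℕ) (t : F), D.IsPosRoot s ∧ s ≠ D.simple i ∧
          (g : Matrix D.Idx D.Idx F) = D.x F s t} ⊔ D.rootSubgroup F (D.simple i) = D.posUnipotent F := by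
  obtain ⟨⟨co, hF⟩, hC⟩ := CfsgLib.Chev.good_of_mem hD
  have hp := hF.simple_lt' hi
  have e : Subgroup.closure {g : GL D.Idx F | ∃ (s : ℕ) (t : F), D.IsPosRoot s ∧ s ≠ D.simple i ∧
      (g : Matrix D.Idx D.Idx F) = D.x F s t} =
      CfsgLib.Chev.rootClosure D F (fun s => D.nroots / 2 ≤ s ∧ s ≠ D.simple i) := by
    refine congrArg Subgroup.closure (Set.ext fun g => ?_)
    constructor
    · rintro ⟨s, t, hs, hne, hx⟩
      exact ⟨s, t, hs.1, ⟨(hF.isPos_iff s hs.1).1 hs, hne⟩, (hF.eq_xU_iff hs.1).1 hx⟩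
    · rintro ⟨s, t, hs, ⟨h1, h2⟩, hx⟩
      exact ⟨s, t, (hF.isPos_iff s hs).2 h1, h2, (hF.eq_xU_iff hs).2 hx⟩
  rw [e, hF.rootSubgroup_eq hp, hF.rootSubgroup_eq (hF.neg_lt hp), hF.posUnipotent_eq]
  refine ⟨sup_le (hF.simple_normalizer hC ⟨i, hi⟩ hp (Or.inl rfl))
    (hF.simple_normalizer hC ⟨i, hi⟩ (hF.neg_lt hp) (Or.inr rfl)), le_antisymm (sup_le ?_ ?_) ?_⟩
  · exact CfsgLib.Chev.rootClosure_mono fun r _ h => h.1
  · exact CfsgLib.Chev.rootClosure_mono fun r _ h => by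
      subst h; exact (hF.simple_lt i hi).1
  · intro u hu
    obtain ⟨u', hu', a, rfl⟩ := hF.pos_decomp hC ⟨i, hi⟩ hu
    exact Subgroup.mul_mem_sup hu'
      (CfsgLib.Chev.xU_mem_rootClosure (P := (· = D.simple i)) hp rfl a)

end Cfsg.Agent.S1045
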