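import Cfsg.Statements.S1046
import Cfsg.Agent.Lib.Chev.Perfect

set_option autoImplicit false
open Cfsg

namespace Cfsg.Agent.S1046

/-- Two elements of `H` conjugate in the Chevalley group are conjugate by an element of `N`. -/
theorem result {F : Type*} [Field F] (D : Cfsg.Lie.ChevalleyDatum) (hD : D ∈ [Cfsg.Lie.chevG2, Cfsg.Lie.chevB2, Cfsg.Lie.chevD4, Cfsg.Lie.chevF4, Cfsg.Lie.chevE6, Cfsg.Lie.chevE7, Cfsg.Lie.chevE8]) (h₁ h₂ g : GL D.Idx F) (h1 : h₁ ∈ D.diagonalSubgroup F) (h2 : h₂ ∈ D.diagonalSubgroup F)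
    (hg : g ∈ D.group F) (hc : g * h₁ * g⁻¹ = h₂) :
    ∃ n ∈ D.monomialSubgroup F, n * h₁ * n⁻¹ = h₂ := by
  obtain ⟨⟨co, hF⟩, hC⟩ := CfsgLib.Chev.good_of_mem hD
  obtain ⟨b, hb, n, hn, σ, hσ, u, hu, rfl⟩ := hF.bruhat_exists hC hg
  refine ⟨n, hn, ?_⟩
  have hnh : n * h₁ * n⁻¹ ∈ D.diagonalSubgroup F := by
    refine hF.mem_diagonal_of_permAct (Subgroup.mul_mem _ (Subgroup.mul_mem _ hn
      (Subgroup.mem_sup_left h1)) (Subgroup.inv_mem _ hn)) ?_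
    simpa using hF.permAct_mul (hF.permAct_mul hσ (hF.permAct_diagonal h1)) (hF.permAct_inv hn hσ)
  have hu1 : h₁⁻¹ * u * h₁ ∈ CfsgLib.Chev.rootClosure D F (CfsgLib.Chev.PosFlip σ) := by
    have := (Subgroup.mem_normalizer_iff.1 (hF.diagonal_le_normalizer (CfsgLib.Chev.PosFlip σ)
      (Subgroup.inv_mem _ h1)) u).1 hu
    rwa [inv_inv] at this
  have e : b * (n * h₁ * n⁻¹) * n * (h₁⁻¹ * u * h₁) = h₂ * b * n * u := by
    rw [← hc]; group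
  obtain ⟨e1, -⟩ := hF.bruhat_unique hσ (Subgroup.mul_mem _ hb (hF.diagonal_le_borel hnh))
    (Subgroup.mul_mem _ (hF.diagonal_le_borel h2) hb) hu1 hu e
  obtain ⟨v, hv, k, hk, rfl⟩ := hF.mem_borel_iff.1 hb
  have hv2 : h₂ * v * h₂⁻¹ ∈ CfsgLib.Chev.rootClosure D F (D.nroots / 2 ≤ ·) :=
    (Subgroup.mem_normalizer_iff.1 (hF.diagonal_le_normalizer _ h2) v).1 hv
  have hcomm : ∀ a ∈ D.diagonalSubgroup F, ∀ c ∈ D.diagonalSubgroup F, a * c = c * a := by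
    intro a ha c hc
    obtain ⟨x, rfl⟩ := hF.mem_diagonal_iff.1 ha
    obtain ⟨y, rfl⟩ := hF.mem_diagonal_iff.1 hc
    exact (CfsgLib.Chev.dU_commute _ _).eq
  set k' := n * h₁ * n⁻¹ with hk'
  have e2 : v⁻¹ * (h₂ * v * h₂⁻¹) = k * k' * (h₂ * k)⁻¹ := by
    rw [show k * k' * (h₂ * k)⁻¹ = v⁻¹ * (v * k * k') * (h₂ * k)⁻¹ by group, e1]; group
  have h3 : v⁻¹ * (h₂ * v * h₂⁻¹) ∈
      CfsgLib.Chev.rootClosure D F (D.nroots / 2 ≤ ·) ⊓ D.diagonalSubgroup F :=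
    ⟨Subgroup.mul_mem _ (Subgroup.inv_mem _ hv) hv2, e2 ▸ Subgroup.mul_mem _
      (Subgroup.mul_mem _ hk hnh) (Subgroup.inv_mem _ (Subgroup.mul_mem _ h2 hk))⟩
  rw [hF.pos_inf_diagonal, Subgroup.mem_bot, e2, mul_inv_eq_one, hcomm h₂ h2 k hk] at h3
  exact mul_left_cancel h3

end Cfsg.Agent.S1046
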