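import Cfsg.Statements.S1081
import Cfsg.Agent.Lib.Chev.Twist.Graph

set_option autoImplicit false
open Cfsg

namespace Cfsg.Agent.S1081

open Cfsg.Lie CfsgLib.Chev

theorem graph_of_table {D : ChevalleyDatum} {K : Type*} [Field K] {P : TwPar}
    {α : ↥(D.group K) ≃* ↥(D.group K)} (hα : IsGraph D P α) (L : List ℕ)
    (h : ∀ i < D.rank, P.pi i = L.getD i 0 ∧ P.lam (D.simple i) = 1)
    (g : ↥(D.group K)) (i : ℕ) (t : K) (hi : i < D.rank) :
      (((g : GL D.Idx K) : Matrix D.Idx D.Idx K) = D.x K (D.simple i) t →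
        ((α g : GL D.Idx K) : Matrix D.Idx D.Idx K) = D.x K (D.simple (L.getD i 0)) t) ∧
      (((g : GL D.Idx K) : Matrix D.Idx D.Idx K) = D.x K (D.neg (D.simple i)) t →
        ((α g : GL D.Idx K) : Matrix D.Idx D.Idx K) = D.x K (D.neg (D.simple (L.getD i 0))) t) := by
  have := hα g i t hi
  rwa [(h i hi).1, (h i hi).2, pow_one] at this

/-- Graph automorphisms: for E₆ with ρ = (p₁ p₆)(p₃ p₅) and for D₄ with ρ the 3-cycle on the outer nodes there is a group automorphism sending `x_p(t) ↦ x_{ρ(p)}(t)` and `x_{-p}(t) ↦ x_{-ρ(p)}(t)` for every fundamental root `p`. -/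
theorem result {F : Type*} [Field F] (p : Cfsg.Lie.ChevalleyDatum × List ℕ)
    (hp : p ∈ [(Cfsg.Lie.chevE6, [5, 1, 4, 3, 2, 0]), (Cfsg.Lie.chevD4, [2, 1, 3, 0]), (Cfsg.Lie.chevD4, [3, 1, 0, 2])]) :
    ∃ α : ↥(p.1.group F) ≃* ↥(p.1.group F), ∀ (g : ↥(p.1.group F)) (i : ℕ) (t : F), i < p.1.rank →
      (((g : GL p.1.Idx F) : Matrix p.1.Idx p.1.Idx F) = p.1.x F (p.1.simple i) t →
        ((α g : GL p.1.Idx F) : Matrix p.1.Idx p.1.Idx F) = p.1.x F (p.1.simple (p.2.getD i 0)) t) ∧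
      (((g : GL p.1.Idx F) : Matrix p.1.Idx p.1.Idx F) = p.1.x F (p.1.neg (p.1.simple i)) t →
        ((α g : GL p.1.Idx F) : Matrix p.1.Idx p.1.Idx F) = p.1.x F (p.1.neg (p.1.simple (p.2.getD i 0))) t) := by
  simp only [List.mem_cons, List.not_mem_nil, or_false] at hp
  have h1 : ∀ (x : F), ∃ y : F, y ^ 1 = x := fun x => ⟨x, pow_one x⟩
  rcases hp with rfl | rfl | rfl
  · obtain ⟨α, hα⟩ := exists_graph (K := F) good_E6 (hasNbr_of_mem (by simp)) parE6_ok parE6_ok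
      (e := 1) (Nat.cast_zero) (Nat.cast_zero) (fun _ _ => h1) (fun _ _ => h1)
      (by decide +kernel) (by decide +kernel) (MulEquiv.refl _) (fun r _ t _ => by simp)
    exact ⟨α, graph_of_table hα [5, 1, 4, 3, 2, 0] (by decide +kernel)⟩
  · obtain ⟨α, hα⟩ := exists_graph (K := F) good_D4 (hasNbr_of_mem (by simp)) parD4_ok parD4r_ok
      (e := 1) (Nat.cast_zero) (Nat.cast_zero) (fun _ _ => h1) (fun _ _ => h1)
      (by decide +kernel) (by decide +kernel) (MulEquiv.refl _) (fun r _ t _ => by simp)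
    exact ⟨α, graph_of_table hα [2, 1, 3, 0] (by decide +kernel)⟩
  · obtain ⟨α, hα⟩ := exists_graph (K := F) good_D4 (hasNbr_of_mem (by simp)) parD4r_ok parD4_ok
      (e := 1) (Nat.cast_zero) (Nat.cast_zero) (fun _ _ => h1) (fun _ _ => h1)
      (by decide +kernel) (by decide +kernel) (MulEquiv.refl _) (fun r _ t _ => by simp)
    exact ⟨α, graph_of_table hα [3, 1, 0, 2] (by decide +kernel)⟩

end Cfsg.Agent.S1081
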