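import Cfsg.Statements.S1096
import Cfsg.Agent.Lib.Chev.All

set_option autoImplicit false
open Cfsg

namespace Cfsg.Agent.S1096

/-- `n_p h_{p_j}(t) n_p⁻¹ = h_{w_p(p_j)}(t)` for fundamental `p`, `p_j` and `t ≠ 0`, stated as `n_p h_{p_j}(t) = h_{w_p(p_j)}(t) n_p`. -/
theorem result {F : Type*} [Field F] (D : Cfsg.Lie.ChevalleyDatum) (hD : D ∈ [Cfsg.Lie.chevG2, Cfsg.Lie.chevB2, Cfsg.Lie.chevD4, Cfsg.Lie.chevF4, Cfsg.Lie.chevE6, Cfsg.Lie.chevE7, Cfsg.Lie.chevE8]) (i j : ℕ) (hi : i < D.rank) (hj : j < D.rank) (t : F) (ht : t ≠ 0) :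
    D.nMat F (D.simple i) 1 * D.hMat F (D.simple j) t = D.hMat F (D.reflectRoot i (D.simple j)) t * D.nMat F (D.simple i) 1 := by
  obtain ⟨⟨co, hF⟩, -⟩ := CfsgLib.Chev.good_of_mem.{0} hD
  have hp := hF.simple_lt' hi
  have hq := hF.simple_lt' hj
  have hw := hF.refl_lt i hi _ hq
  rw [← hF.nU_val hp, ← hF.hU_val hq, ← hF.hU_val hw, ← Units.val_mul, ← Units.val_mul,
    Units.val_inj, ← Units.val_mk0 ht, hF.hU_eq hq, hF.hU_eq hw, hF.nU_simple_mul_dU hi]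
  congr 1
  refine CfsgLib.Chev.dU_congr fun s hs => ?_
  rw [CfsgLib.Chev.prChar, CfsgLib.Chev.prChar, hF.prE_refl hi hq hs]

end Cfsg.Agent.S1096
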