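import Cfsg.Statements.S1098
import Cfsg.Agent.Lib.Chev.Twist.Graph

set_option autoImplicit false
open Cfsg

namespace Cfsg.Agent.S1098

open Cfsg.Lie CfsgLib.Chev

theorem parB2_lam : ∀ r < chevB2.nroots, parB2.lam r = 1 ∨ parB2.lam r = 2 := by decide +kernel

theorem parF4_lam : ∀ r < chevF4.nroots, parF4.lam r = 1 ∨ parF4.lam r = 2 := by decide +kernel

theorem graph_of_table {D : ChevalleyDatum} {K : Type*} [Field K] {P : TwPar}
    {α : ↥(D.group K) ≃* ↥(D.group K)} (hα : IsGraph D P α) (L : List (ℕ × ℕ))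
    (h : ∀ i < D.rank, P.pi i = (L.getD i (0, 1)).1 ∧ P.lam (D.simple i) = (L.getD i (0, 1)).2)
    (g : ↥(D.group K)) (i : ℕ) (t : K) (hi : i < D.rank) :
      (((g : GL D.Idx K) : Matrix D.Idx D.Idx K) = D.x K (D.simple i) t →
        ((α g : GL D.Idx K) : Matrix D.Idx D.Idx K) =
          D.x K (D.simple (L.getD i (0, 1)).1) (t ^ (L.getD i (0, 1)).2)) ∧
      (((g : GL D.Idx K) : Matrix D.Idx D.Idx K) = D.x K (D.neg (D.simple i)) t →
        ((α g : GL D.Idx K) : Matrix D.Idx D.Idx K) =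
          D.x K (D.neg (D.simple (L.getD i (0, 1)).1)) (t ^ (L.getD i (0, 1)).2)) := by
  have := hα g i t hi
  rwa [(h i hi).1, (h i hi).2] at this

/-- Graph automorphisms in characteristic 2 (K perfect): for B₂ (a short, b long) `x_a(t) ↦ x_b(t²)`, `x_b(t) ↦ x_a(t)`, and for F₄ (p₁, p₂ short, p₃, p₄ long) `x_{p₁}(t) ↦ x_{p₄}(t²)`, `x_{p₂}(t) ↦ x_{p₃}(t²)`, `x_{p₃}(t) ↦ x_{p₂}(t)`, `x_{p₄}(t) ↦ x_{p₁}(t)`, likewise on the negatives, extend to an automorphism of the group. -/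
theorem result {K : Type*} [Field K] [CharP K 2] (hperf : ∀ x : K, ∃ y : K, y ^ 2 = x)
    (p : Cfsg.Lie.ChevalleyDatum × List (ℕ × ℕ))
    (hp : p ∈ [(Cfsg.Lie.chevB2, [(1, 2), (0, 1)]), (Cfsg.Lie.chevF4, [(3, 2), (2, 2), (1, 1), (0, 1)])]) :
    ∃ α : ↥(p.1.group K) ≃* ↥(p.1.group K), ∀ (g : ↥(p.1.group K)) (i : ℕ) (t : K), i < p.1.rank →
      (((g : GL p.1.Idx K) : Matrix p.1.Idx p.1.Idx K) = p.1.x K (p.1.simple i) t →
        ((α g : GL p.1.Idx K) : Matrix p.1.Idx p.1.Idx K) = p.1.x K (p.1.simple (p.2.getD i (0, 1)).1) (t ^ (p.2.getD i (0, 1)).2)) ∧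
      (((g : GL p.1.Idx K) : Matrix p.1.Idx p.1.Idx K) = p.1.x K (p.1.neg (p.1.simple i)) t →
        ((α g : GL p.1.Idx K) : Matrix p.1.Idx p.1.Idx K) = p.1.x K (p.1.neg (p.1.simple (p.2.getD i (0, 1)).1)) (t ^ (p.2.getD i (0, 1)).2)) := by
  simp only [List.mem_cons, List.not_mem_nil, or_false] at hp
  haveI := Fact.mk Nat.prime_two
  have h2 : ((2 : ℕ) : K) = 0 := CharP.cast_eq_zero K 2
  have hpow : ∀ n, n = 1 ∨ n = 2 → ∀ x : K, ∃ y : K, y ^ n = x := by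
    rintro n (rfl | rfl) x
    exacts [⟨x, pow_one x⟩, hperf x]
  rcases hp with rfl | rfl
  · obtain ⟨β, hβ⟩ := exists_frobenius (K := K) (D := chevB2) (by simp) 2 hperf
    obtain ⟨α, hα⟩ := exists_graph (K := K) good_B2 (hasNbr_of_mem (by simp)) parB2_ok parB2_ok
      (e := 2) h2 h2 (fun r hr => hpow _ (parB2_lam r hr)) (fun r hr => hpow _ (parB2_lam r hr))
      (by decide +kernel) (by decide +kernel) β hβ
    exact ⟨α, graph_of_table hα [(1, 2), (0, 1)] (by decide +kernel)⟩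
  · obtain ⟨β, hβ⟩ := exists_frobenius (K := K) (D := chevF4) (by simp) 2 hperf
    obtain ⟨α, hα⟩ := exists_graph (K := K) good_F4 (hasNbr_of_mem (by simp)) parF4_ok parF4_ok
      (e := 2) h2 h2 (fun r hr => hpow _ (parF4_lam r hr)) (fun r hr => hpow _ (parF4_lam r hr))
      (by decide +kernel) (by decide +kernel) β hβ
    exact ⟨α, graph_of_table hα [(3, 2), (2, 2), (1, 1), (0, 1)] (by decide +kernel)⟩

end Cfsg.Agent.S1098
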