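import Cfsg.Statements.S1099
import Cfsg.Agent.Lib.Chev.Twist.Graph

set_option autoImplicit false
open Cfsg

namespace Cfsg.Agent.S1099

open Cfsg.Lie CfsgLib.Chev

/-- Graph automorphism of G₂ in characteristic 3 (K perfect): `x_a(t) ↦ x_b(t³)`, `x_b(t) ↦ x_a(t)`, `x_{-a}(t) ↦ x_{-b}(t³)`, `x_{-b}(t) ↦ x_{-a}(t)` extend to an automorphism of the group. -/
theorem result {K : Type*} [Field K] [CharP K 3] (hperf : ∀ x : K, ∃ y : K, y ^ 3 = x) :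
    ∃ α : ↥(Cfsg.Lie.chevG2.group K) ≃* ↥(Cfsg.Lie.chevG2.group K), ∀ (g : ↥(Cfsg.Lie.chevG2.group K)) (t : K),
      (((g : GL Cfsg.Lie.chevG2.Idx K) : Matrix _ _ K) = Cfsg.Lie.chevG2.x K Cfsg.Lie.g2a t →
        ((α g : GL Cfsg.Lie.chevG2.Idx K) : Matrix _ _ K) = Cfsg.Lie.chevG2.x K Cfsg.Lie.g2b (t ^ 3)) ∧
      (((g : GL Cfsg.Lie.chevG2.Idx K) : Matrix _ _ K) = Cfsg.Lie.chevG2.x K Cfsg.Lie.g2b t →
        ((α g : GL Cfsg.Lie.chevG2.Idx K) : Matrix _ _ K) = Cfsg.Lie.chevG2.x K Cfsg.Lie.g2a t) ∧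
      (((g : GL Cfsg.Lie.chevG2.Idx K) : Matrix _ _ K) = Cfsg.Lie.chevG2.x K Cfsg.Lie.g2ma t →
        ((α g : GL Cfsg.Lie.chevG2.Idx K) : Matrix _ _ K) = Cfsg.Lie.chevG2.x K Cfsg.Lie.g2mb (t ^ 3)) ∧
      (((g : GL Cfsg.Lie.chevG2.Idx K) : Matrix _ _ K) = Cfsg.Lie.chevG2.x K Cfsg.Lie.g2mb t →
        ((α g : GL Cfsg.Lie.chevG2.Idx K) : Matrix _ _ K) = Cfsg.Lie.chevG2.x K Cfsg.Lie.g2ma t) := by
  haveI := Fact.mk Nat.prime_three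
  have h3 : ((3 : ℕ) : K) = 0 := CharP.cast_eq_zero K 3
  have hl : ∀ r < chevG2.nroots, parG2.lam r = 1 ∨ parG2.lam r = 3 := by decide +kernel
  have hpow : ∀ n, n = 1 ∨ n = 3 → ∀ x : K, ∃ y : K, y ^ n = x := by
    rintro n (rfl | rfl) x
    exacts [⟨x, pow_one x⟩, hperf x]
  obtain ⟨β, hβ⟩ := exists_frobenius (K := K) (D := chevG2) (by simp) 3 hperf
  obtain ⟨α, hα⟩ := exists_graph (K := K) good_G2 (hasNbr_of_mem (by simp)) parG2_ok parG2_ok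
    (e := 3) h3 h3 (fun r hr => hpow _ (hl r hr)) (fun r hr => hpow _ (hl r hr))
    (by decide +kernel) (by decide +kernel) β hβ
  have e0 : chevG2.simple 0 = g2a ∧ chevG2.simple 1 = g2b ∧ chevG2.neg g2a = g2ma ∧
      chevG2.neg g2b = g2mb ∧ parG2.pi 0 = 1 ∧ parG2.pi 1 = 0 ∧
      parG2.lam g2a = 3 ∧ parG2.lam g2b = 1 := by decide +kernel
  obtain ⟨a0, a1, a2, a3, a4, a5, a6, a7⟩ := e0
  refine ⟨α, fun g t => ⟨fun h => ?_, fun h => ?_, fun h => ?_, fun h => ?_⟩⟩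
  · simpa [a0, a1, a4, a6] using (hα g 0 t (by decide +kernel)).1 (by rw [a0]; exact h)
  · simpa [a0, a1, a5, a7] using (hα g 1 t (by decide +kernel)).1 (by rw [a1]; exact h)
  · simpa [a0, a1, a2, a3, a4, a6] using (hα g 0 t (by decide +kernel)).2 (by rw [a0, a2]; exact h)
  · simpa [a0, a1, a2, a3, a5, a7] using (hα g 1 t (by decide +kernel)).2 (by rw [a1, a3]; exact h)

end Cfsg.Agent.S1099
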