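import Cfsg.Statements.S1101
import Cfsg.Agent.Lib.Chev.Twist.G2Main

set_option autoImplicit false
open Cfsg

namespace Cfsg.Agent.S1101

/-- For ²G₂ over `K` with `|K| = 3^(2m+1)`, `θ = 3^m`: `U¹ = G¹ ∩ U` consists exactly of the elements `x_a(t^θ) x_b(t) x_{a+b}(t^{θ+1}+u^θ) x_{2a+b}(t^{2θ+1}+v^θ) x_{3a+b}(u) x_{3a+2b}(v)`, `t, u, v ∈ K`, and it has `|K|³` elements. -/
theorem result {K : Type*} [Field K] [Fintype K] {m : ℕ} (hK : Fintype.card K = 3 ^ (2 * m + 1)) :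
    (∀ g : GL Cfsg.Lie.chevG2.Idx K, g ∈ Cfsg.Lie.chevG2.posUnipotent K ⊓ Cfsg.Lie.twistedG2 K (3 ^ m) ↔
      ∃ t u v : K, (g : Matrix Cfsg.Lie.chevG2.Idx Cfsg.Lie.chevG2.Idx K) = Cfsg.Lie.chevG2.wordMat K (Cfsg.Lie.reeWordU (3 ^ m) t u v)) ∧
    Nat.card ↥(Cfsg.Lie.chevG2.posUnipotent K ⊓ Cfsg.Lie.twistedG2 K (3 ^ m)) = (3 ^ (2 * m + 1)) ^ 3 := by
  obtain ⟨C⟩ := CfsgLib.Chev.TwG2.nonempty_ctx hK
  refine ⟨fun g => ?_, C.card_posU⟩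
  have hp : Cfsg.Lie.chevG2.posUnipotent K =
      CfsgLib.Chev.rootClosure Cfsg.Lie.chevG2 K (· ∈ CfsgLib.Chev.TwG2.posC.roots) := by
    rw [CfsgLib.Chev.DataG2.facts.posUnipotent_eq]
    exact CfsgLib.Chev.rootClosure_congr
      (show ∀ r < Cfsg.Lie.chevG2.nroots, Cfsg.Lie.chevG2.nroots / 2 ≤ r ↔
          r ∈ CfsgLib.Chev.TwG2.posC.roots by
        simp only [CfsgLib.Chev.TwG2.Cl.roots, CfsgLib.Chev.TwG2.posC]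
        decide +kernel)
  constructor
  · rintro ⟨h1, h2⟩
    obtain ⟨t, u, v, rfl⟩ := C.fix_class (C.sys.le_fix h2) (hp ▸ h1)
    exact ⟨t, u, v, CfsgLib.Chev.DataG2.facts.wU_val (C.word_fixed ⟨t, u, v, Or.inl rfl⟩).2⟩
  · rintro ⟨t, u, v, h⟩
    obtain rfl : g = CfsgLib.Chev.wU Cfsg.Lie.chevG2 (Cfsg.Lie.reeWordU (3 ^ m) t u v) :=
      Units.ext (h.trans
        (CfsgLib.Chev.DataG2.facts.wU_val (C.word_fixed ⟨t, u, v, Or.inl rfl⟩).2).symm)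
    exact ⟨hp.symm ▸ CfsgLib.Chev.TwG2.mem_pos t u v, C.mem_gen ⟨t, u, v, Or.inl rfl⟩⟩

end Cfsg.Agent.S1101
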