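import Cfsg.Statements.S1118
import Cfsg.Agent.Lib.RankOneSetup.Canon

set_option autoImplicit false
open Cfsg

namespace Cfsg.Agent.S1118

/-- In the rank-one set-up (`G` finite and doubly transitive on `Ω`, `t` an involution moving `a`, `Q` normal in `G_a` with `G_a = Q D`, `Q ⊓ D = 1` for the two-point stabiliser `D = G_a ⊓ G_{t • a}`, `|Q|` even, `|D|` odd), the normaliser of a subset of `Q` containing a non-identity element lies in `G_a`; consequently `N_G(Q) = N_G(G_a) = G_a`. -/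
theorem result {G Ω : Type*} [Group G] [Finite G] [MulAction G Ω] {a : Ω} {t : G} {Q : Subgroup G}
    (hS : Cfsg.IsRankOneSetup G Ω a t Q) :
    (∀ X : Set G, X ⊆ (Q : Set G) → (∃ x ∈ X, x ≠ 1) → Subgroup.normalizer X ≤ MulAction.stabilizer G a) ∧
      Subgroup.normalizer (Q : Set G) = MulAction.stabilizer G a ∧
      Subgroup.normalizer (MulAction.stabilizer G a : Set G) = MulAction.stabilizer G a := by
  have key : ∀ X : Set G, X ⊆ (Q : Set G) → (∃ x ∈ X, x ≠ 1) →
      Subgroup.normalizer X ≤ MulAction.stabilizer G a := by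
    rintro X hXQ ⟨x, hx, hx1⟩ n hn
    have hn' : n * x * n⁻¹ ∈ X := (Subgroup.mem_set_normalizer_iff.1 hn x).1 hx
    have hne : n * x * n⁻¹ ≠ 1 := fun e => hx1 (by
      calc x = n⁻¹ * (n * x * n⁻¹) * n := by group
        _ = 1 := by rw [e]; group)
    refine MulAction.mem_stabilizer_iff.2
      (CfsgLib.RankOneSetup.fix_unique_of_mem_Q hS (hXQ hn') hne ?_)
    rw [mul_smul, mul_smul, inv_smul_smul,
      CfsgLib.RankOneSetup.smul_a_of_mem_Q hS (hXQ hx)]
  have hconj : ∀ h ∈ MulAction.stabilizer G a, ∀ x, h * x * h⁻¹ ∈ Q → x ∈ Q := by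
    intro h hh x hx
    have := CfsgLib.RankOneSetup.conj_mem_Q' hS hh hx
    rwa [show h⁻¹ * (h * x * h⁻¹) * h = x by group] at this
  refine ⟨key, le_antisymm (key _ subset_rfl ?_) (fun h hh => ?_), le_antisymm ?_ ?_⟩
  · obtain ⟨s, hs, hs1, hs2⟩ := CfsgLib.RankOneSetup.exists_involution hS
    exact ⟨s, CfsgLib.RankOneSetup.mem_Q_of_sq hS hs hs2, hs1⟩
  · exact Subgroup.mem_normalizer_iff.2 fun x => ⟨hS.conj_mem h hh x, hconj h hh x⟩
  · intro n hn
    rw [MulAction.mem_stabilizer_iff]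
    by_contra hna
    obtain ⟨q, hq, hq1, hq2⟩ : ∃ q ∈ Q, q ≠ 1 ∧ q • (n • a) ≠ n • a := by
      obtain ⟨s, hs, hs1, hs2⟩ := CfsgLib.RankOneSetup.exists_involution hS
      have hsQ := CfsgLib.RankOneSetup.mem_Q_of_sq hS hs hs2
      exact ⟨s, hsQ, hs1, fun h => hna (CfsgLib.RankOneSetup.fix_unique_of_mem_Q hS hsQ hs1 h)⟩
    refine hq2 ?_
    have h1 := (Subgroup.mem_normalizer_iff''.1 hn q).1 (hS.le hq)
    rw [MulAction.mem_stabilizer_iff, mul_smul, mul_smul, inv_smul_eq_iff] at h1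
    exact h1
  · exact Subgroup.le_normalizer

end Cfsg.Agent.S1118
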