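import Cfsg.Statements.S1119
import Cfsg.Agent.Lib.RankOneSetup.Canon

set_option autoImplicit false
open Cfsg

namespace Cfsg.Agent.S1119

/-- In the rank-one set-up (`G` finite and doubly transitive on `Ω`, `t` an involution moving `a`, `Q` normal in `G_a` with `G_a = Q D`, `Q ⊓ D = 1` for the two-point stabiliser `D = G_a ⊓ G_{t • a}`, `|Q|` even, `|D|` odd): `Q` acts regularly on `Ω` minus `a`; hence `|Ω| = |Q| + 1`, `|G| = |Q| |D| (|Q| + 1)`, some Sylow 2-subgroup of `G` lies in `Q`, and each `g ∉ G_a` is uniquely `x t y` with `x ∈ G_a`, `y ∈ Q` (canonical form). -/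
theorem result {G Ω : Type*} [Group G] [Finite G] [MulAction G Ω] {a : Ω} {t : G} {Q : Subgroup G}
    (hS : Cfsg.IsRankOneSetup G Ω a t Q) :
    (∀ b c : Ω, b ≠ a → c ≠ a → ∃! x : Q, (x : G) • b = c) ∧
      Nat.card Ω = Nat.card Q + 1 ∧
      Nat.card G = Nat.card Q * Nat.card ↥(MulAction.stabilizer G a ⊓ MulAction.stabilizer G (t • a)) * (Nat.card Q + 1) ∧
      (∃ P : Sylow 2 G, (P : Subgroup G) ≤ Q) ∧
      ∀ g : G, g ∉ MulAction.stabilizer G a → ∃! p : G × G, p.1 ∈ MulAction.stabilizer G a ∧ p.2 ∈ Q ∧ g = p.1 * t * p.2 := by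
  refine ⟨CfsgLib.RankOneSetup.existsUnique_smul hS, CfsgLib.RankOneSetup.card_omega hS,
    CfsgLib.RankOneSetup.card_G hS, ?_,
    fun g hg => CfsgLib.RankOneSetup.existsUnique_canon hS hg⟩
  haveI := Fact.mk Nat.prime_two
  obtain ⟨S⟩ : Nonempty (Sylow 2 Q) := inferInstance
  obtain ⟨P, hP⟩ := (S.isPGroup'.map Q.subtype).exists_le_sylow
  refine ⟨P, ?_⟩
  have hodd : ¬ 2 ∣ Nat.card Q + 1 := by
    have := hS.even_card.two_dvd
    omega
  have h1 : (Nat.card Q * Nat.card ↥(MulAction.stabilizer G a ⊓ MulAction.stabilizer G (t • a)) *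
      (Nat.card Q + 1)).factorization 2 = (Nat.card Q).factorization 2 := by
    rw [Nat.factorization_mul (mul_ne_zero Nat.card_pos.ne' Nat.card_pos.ne') (Nat.succ_ne_zero _),
      Nat.factorization_mul Nat.card_pos.ne' Nat.card_pos.ne', Finsupp.add_apply, Finsupp.add_apply,
      Nat.factorization_eq_zero_of_not_dvd hodd,
      Nat.factorization_eq_zero_of_not_dvd (Nat.two_dvd_ne_zero.2 (Nat.odd_iff.1 hS.odd_card)),
      add_zero, add_zero]
  have hcard : Nat.card (P : Subgroup G) = Nat.card ((S : Subgroup Q).map Q.subtype) := by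
    rw [Subgroup.card_map_of_injective Q.subtype_injective, P.card_eq_multiplicity,
      S.card_eq_multiplicity, CfsgLib.RankOneSetup.card_G hS, h1]
  rw [← Subgroup.eq_of_le_of_card_ge hP hcard.le]
  exact Subgroup.map_subtype_le _

end Cfsg.Agent.S1119
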