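import Cfsg.Statements.S1124
import Cfsg.Agent.Lib.RankOneSetup.Basic

set_option autoImplicit false
open scoped Pointwise
open Cfsg

namespace Cfsg.Agent.S1124

/-- Let `t` be an element of order 2 of a finite group normalising a subgroup `X` of odd order, `Y = C_X(t)` and `Z` the set of elements of `X` inverted by `t`. Then `(y, z) ↦ y z` is a bijection `Y × Z → X`, so `|X| = |Y| |Z|`, and the subgroup generated by `Z` is normal in `X`. -/
theorem result {M : Type*} [Group M] [Finite M]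
    (t : M) (ht : orderOf t = 2) (X : Subgroup M) (hodd : Odd (Nat.card X))
    (hnorm : ∀ x ∈ X, t * x * t⁻¹ ∈ X) :
    (∀ x ∈ X, ∃! p : M × M, p.1 ∈ X ⊓ Subgroup.centralizer {t} ∧ p.2 ∈ Cfsg.invertedBy X t ∧ x = p.1 * p.2) ∧
      Nat.card X = Nat.card ↥(X ⊓ Subgroup.centralizer {t}) * Nat.card (Cfsg.invertedBy X t) ∧
      ∀ x ∈ X, MulAut.conj x • Subgroup.closure (Cfsg.invertedBy X t) = Subgroup.closure (Cfsg.invertedBy X t) := by
  have htt : t * t = 1 := by rw [← sq, ← ht, pow_orderOf_eq_one]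
  have key := fun (x : M) (hx : x ∈ X) =>
    CfsgLib.RankOneSetup.exists_unique_factor htt hodd hnorm hx
  refine ⟨key, ?_, ?_⟩
  · rw [← Nat.card_prod]
    refine (Nat.card_eq_of_bijective (fun p : ↥(X ⊓ Subgroup.centralizer {t}) ×
        ↥(Cfsg.invertedBy X t) =>
      (⟨p.1.1 * p.2.1, mul_mem (Subgroup.mem_inf.1 p.1.2).1 p.2.2.1⟩ : X))
      ⟨fun p r e => ?_, fun x => ?_⟩).symm
    · obtain ⟨q, -, hq⟩ := key (p.1.1 * p.2.1)
        (mul_mem (Subgroup.mem_inf.1 p.1.2).1 p.2.2.1)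
      have h1 := hq (p.1.1, p.2.1) ⟨p.1.2, p.2.2, rfl⟩
      have h2 := hq (r.1.1, r.2.1) ⟨r.1.2, r.2.2, congrArg Subtype.val e⟩
      obtain ⟨e1, e2⟩ := Prod.ext_iff.1 (h1.trans h2.symm)
      exact Prod.ext (Subtype.ext e1) (Subtype.ext e2)
    · obtain ⟨⟨y, z⟩, ⟨hy, hz, e⟩, -⟩ := key x.1 x.2
      exact ⟨(⟨y, hy⟩, ⟨z, hz⟩), Subtype.ext e.symm⟩
  · intro x hx
    refine Subgroup.eq_of_le_of_card_ge ?_ (le_of_eq ?_)
    · show Subgroup.map (MulAut.conj x).toMonoidHom _ ≤ _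
      rw [Subgroup.map_le_iff_le_comap, Subgroup.closure_le]
      intro z hz
      show x * z * x⁻¹ ∈ Subgroup.closure (Cfsg.invertedBy X t)
      obtain ⟨⟨y, w⟩, ⟨hy, hw, e⟩, -⟩ := key x hx
      simp only at hy hw e
      obtain ⟨hyX, hyt⟩ := Subgroup.mem_inf.1 hy
      have hyt' : t * y * t⁻¹ = y := by
        rw [← Subgroup.mem_centralizer_singleton_iff.1 hyt, mul_inv_cancel_right]
      have hgen : ∀ v ∈ Cfsg.invertedBy X t,
          y * v * y⁻¹ ∈ Subgroup.closure (Cfsg.invertedBy X t) := by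
        rintro v ⟨hvX, hv⟩
        refine Subgroup.subset_closure ⟨mul_mem (mul_mem hyX hvX) (inv_mem hyX), ?_⟩
        calc t * (y * v * y⁻¹) * t⁻¹ =
            (t * y * t⁻¹) * (t * v * t⁻¹) * (t * y * t⁻¹)⁻¹ := by group
          _ = (y * v * y⁻¹)⁻¹ := by rw [hyt', hv]; group
      rw [e, show y * w * z * (y * w)⁻¹ = (y * w * y⁻¹) * (y * z * y⁻¹) * (y * w * y⁻¹)⁻¹ by group]
      exact mul_mem (mul_mem (hgen w hw) (hgen z hz)) (inv_mem (hgen w hw))
    · exact (Subgroup.card_map_of_injective (MulAut.conj x).injective).symm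

end Cfsg.Agent.S1124
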