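import Cfsg.Statements.S1132
import Cfsg.Agent.Lib.SmallGroups.RankOneCyclic.Setting
-- import your own Cfsg.Agent.* helpers here

set_option autoImplicit false
open Cfsg

namespace Cfsg.Agent.S1132

/-- In the rank-one set-up (`G` finite and doubly transitive on `Ω`, `t` an involution moving `a`, `Q` normal in `G_a` with `G_a = Q D`, `Q ⊓ D = 1` for the two-point stabiliser `D = G_a ⊓ G_{t • a}`, `|Q|` even, `|D|` odd), with the action faithful and `G` containing two distinct commuting involutions: a Sylow 2-subgroup of `Q` is abelian or a Suzuki 2-group. -/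
theorem result {G Ω : Type*} [Group G] [Finite G] [MulAction G Ω] [FaithfulSMul G Ω] {a : Ω} {t : G} {Q : Subgroup G}
    (hS : Cfsg.IsRankOneSetup G Ω a t Q)
    (h2 : ∃ x y : G, x ≠ 1 ∧ y ≠ 1 ∧ x ≠ y ∧ x * x = 1 ∧ y * y = 1 ∧ x * y = y * x)
    (S : Sylow 2 ↥Q) : IsMulCommutative (S : Subgroup ↥Q) ∨ Cfsg.IsSuzukiTwoGroup ↥(S : Subgroup ↥Q) := by
  classical
  haveI := Fact.mk Nat.prime_two
  by_cases hab : ∀ x y : (S : Subgroup ↥Q), x * y = y * x
  · exact Or.inl ⟨⟨hab⟩⟩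
  right
  haveI := CfsgLib.RankOneSetup.isNilpotent_Q hS h2
  haveI hSn : (S : Subgroup ↥Q).Normal := inferInstance
  haveI := Sylow.unique_of_normal S hSn
  obtain ⟨⟨k₀, -, hgen, hzp, -⟩, -⟩ := CfsgLib.SmallGroups.RankOneCyclic.exists_generators hS h2
  obtain ⟨⟨s, r⟩, ⟨hs, -, -⟩, -⟩ := CfsgLib.RankOneSetup.existsUnique_structure hS
  simp only at hs
  have hmem : ∀ x : Q, (∃ n : ℕ, x ^ 2 ^ n = 1) → x ∈ (S : Subgroup ↥Q) := by
    rintro x ⟨n, hn⟩
    obtain ⟨m, -, hm⟩ := (Nat.dvd_prime_pow Nat.prime_two).1 (orderOf_dvd_of_pow_eq_one hn)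
    have hp : IsPGroup 2 (Subgroup.zpowers x) := IsPGroup.of_card (by rw [Nat.card_zpowers, hm])
    obtain ⟨S', hS'⟩ := hp.exists_le_sylow
    rw [Subsingleton.elim S S']
    exact hS' (Subgroup.mem_zpowers x)
  let conjS : ∀ m : G, m ∈ MulAction.stabilizer G a → ↥(S : Subgroup ↥Q) → ↥(S : Subgroup ↥Q) :=
    fun m hm x => ⟨⟨m * ((x : Q) : G) * m⁻¹, hS.conj_mem m hm _ (x : Q).2⟩, hmem _ (by
      obtain ⟨n, hn⟩ := S.isPGroup' x
      refine ⟨n, Subtype.ext ?_⟩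
      show (m * ((x : Q) : G) * m⁻¹) ^ 2 ^ n = 1
      rw [conj_pow]
      have : ((x : Q) : G) ^ 2 ^ n = 1 := congrArg (fun z : (S : Subgroup ↥Q) => ((z : Q) : G)) hn
      rw [this, mul_one, mul_inv_cancel])⟩
  have hM : ∀ k ∈ Subgroup.zpowers k₀, k ∈ MulAction.stabilizer G a := fun k hk =>
    CfsgLib.RankOneSetup.D_le (hzp k hk).1
  let f : ↥(Subgroup.zpowers k₀) →* MulAut ↥(S : Subgroup ↥Q) :=
    { toFun := fun k =>
        { toFun := conjS k (hM k k.2)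
          invFun := conjS (k : G)⁻¹ (inv_mem (hM k k.2))
          left_inv := fun x => Subtype.ext (Subtype.ext (by simp [conjS, mul_assoc]))
          right_inv := fun x => Subtype.ext (Subtype.ext (by simp [conjS, mul_assoc]))
          map_mul' := fun x y => Subtype.ext (Subtype.ext (by simp [conjS, mul_assoc])) }
      map_one' := MulEquiv.ext fun x => Subtype.ext (Subtype.ext (by simp [conjS]))
      map_mul' := fun k l => MulEquiv.ext fun x => Subtype.ext (Subtype.ext (by simp [conjS, mul_assoc])) }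
  have hf : ∀ (k : ↥(Subgroup.zpowers k₀)) (x : (S : Subgroup ↥Q)),
      (((f k x : (S : Subgroup ↥Q)) : Q) : G) = k * ((x : Q) : G) * (k : G)⁻¹ := fun _ _ => rfl
  have hI : ∀ x : (S : Subgroup ↥Q), x ≠ 1 → x * x = 1 →
      ((x : Q) : G) ∈ Cfsg.involutionsIn (MulAction.stabilizer G a : Set G) := fun x hx1 hx2 =>
    ⟨hS.le (x : Q).2, fun e => hx1 (Subtype.ext (Subtype.ext e)),
      congrArg (fun z : (S : Subgroup ↥Q) => ((z : Q) : G)) hx2⟩
  refine ⟨inferInstance, S.isPGroup', ?_, ?_, f.range,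
    isCyclic_of_surjective f.rangeRestrict f.rangeRestrict_surjective, fun x y hx hx2 hy hy2 => ?_⟩
  · push Not at hab
    exact hab
  · obtain ⟨k, hk, hk1⟩ := CfsgLib.RankOneSetup.exists_K_ne_one hS h2
    have hsQ := CfsgLib.RankOneSetup.mem_Q_of_sq hS hs.1 hs.2.2
    let x : (S : Subgroup ↥Q) := ⟨⟨s, hsQ⟩, hmem _ ⟨1, Subtype.ext (by
      show s ^ 2 ^ 1 = 1
      rw [pow_one, pow_two]; exact hs.2.2)⟩⟩
    have hx1 : x ≠ 1 := fun e => hs.2.1 (congrArg (fun z : (S : Subgroup ↥Q) => ((z : Q) : G)) e)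
    have hxx : x * x = 1 := Subtype.ext (Subtype.ext hs.2.2)
    refine ⟨x, f ⟨k, hgen k hk⟩ x, fun e => ?_, hx1, hxx,
      (map_ne_one_iff _ (f ⟨k, hgen k hk⟩).injective).2 hx1, by rw [← map_mul, hxx, map_one]⟩
    have e' : s = k * s * k⁻¹ := congrArg (fun z : (S : Subgroup ↥Q) => ((z : Q) : G)) e
    have hc : s ∈ Q ⊓ Subgroup.centralizer {k} := ⟨hsQ, Subgroup.mem_centralizer_singleton_iff.2
      (mul_inv_eq_iff_eq_mul.1 e'.symm).symm⟩
    rw [CfsgLib.RankOneSetup.inverted_fpf hS hk hk1, Subgroup.mem_bot] at hc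
    exact hs.2.1 hc
  · obtain ⟨k, hk, hkxy⟩ := CfsgLib.RankOneSetup.exists_conj_K hS (hI x hx hx2) (hI y hy hy2)
    have key : f ⟨k⁻¹, inv_mem (hgen k hk)⟩ x = y := Subtype.ext (Subtype.ext (by
      rw [hf]
      show k⁻¹ * ((x : Q) : G) * k⁻¹⁻¹ = _
      rw [inv_inv]
      exact hkxy))
    refine ⟨⟨f ⟨k⁻¹, inv_mem (hgen k hk)⟩, ⟨_, rfl⟩⟩, key, ?_⟩
    rintro ⟨_, ⟨l, rfl⟩⟩ hl
    refine Subtype.ext (congrArg f ?_)
    set m := (⟨k⁻¹, inv_mem (hgen k hk)⟩ : ↥(Subgroup.zpowers k₀))⁻¹ * l with hm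
    suffices m = 1 from (inv_mul_eq_one.1 (hm ▸ this)).symm
    have hfix : f m x = x := by
      rw [hm, map_mul, MulAut.mul_apply, map_inv]
      change (f ⟨k⁻¹, inv_mem (hgen k hk)⟩)⁻¹ (f l x) = x
      rw [show f l x = y from hl, ← key, MulAut.inv_apply_self]
    by_contra hm1
    have hc : ((x : Q) : G) ∈ Q ⊓ Subgroup.centralizer {(m : G)} := by
      refine ⟨(x : Q).2, Subgroup.mem_centralizer_singleton_iff.2 ?_⟩
      have e := congrArg (fun z : (S : Subgroup ↥Q) => ((z : Q) : G)) hfix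
      simp only [hf] at e
      exact (mul_inv_eq_iff_eq_mul.1 e).symm
    rw [CfsgLib.RankOneSetup.inverted_fpf hS (hzp _ m.2) (fun e => hm1 (Subtype.ext e)),
      Subgroup.mem_bot] at hc
    exact hx (Subtype.ext (Subtype.ext hc))

end Cfsg.Agent.S1132
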