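import Cfsg.Statements.S1141
import Cfsg.Agent.Lib.InvolChar.SU3Sylow

set_option autoImplicit false
open Cfsg

namespace Cfsg.Agent.S1141

open CfsgLib.SU3Sylow

variable {F : Type*} [Field F] [Fintype F] [CharP F 2] {n : ℕ}

/-- The first coordinate. -/
abbrev cx {hF : Fintype.card F = (2 ^ n) ^ 2} (g : U hF) : F := g.1.1.1 2 0

/-- The second coordinate. -/
abbrev cy {hF : Fintype.card F = (2 ^ n) ^ 2} (g : U hF) : F := g.1.1.1 1 0

theorem ext_U {hF : Fintype.card F = (2 ^ n) ^ 2} {a b : U hF} (h1 : cx a = cx b)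
    (h2 : cy a = cy b) : a = b := by
  apply Subtype.ext
  apply Subtype.ext
  apply Subtype.ext
  rw [(mem_U a).2, (mem_U b).2]
  exact congrArg₂ (uMat (2 ^ n)) h1 h2

theorem mul_U {hF : Fintype.card F = (2 ^ n) ^ 2} (a b : U hF) :
    cx (a * b) = cx a + cx b ∧ cy (a * b) = cy a + cy b + cx a ^ 2 ^ n * cx b := by
  have : (a * b).1.1.1 = a.1.1.1 * b.1.1.1 := rfl
  simp only [cx, cy]
  rw [this, (mem_U a).2, (mem_U b).2, uMat_mul hF]
  simp [uMat]

theorem cond_scale {c x y : F} (hc : c ^ 2 ^ n = c) (h : y + y ^ 2 ^ n = x ^ (2 ^ n + 1)) :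
    c * c * y + (c * c * y) ^ 2 ^ n = (c * x) ^ (2 ^ n + 1) := by
  rw [mul_pow, mul_pow c x, mul_pow c c, pow_succ c, hc, ← h]
  ring

/-- The element with given coordinates. -/
def mk (hF : Fintype.card F = (2 ^ n) ^ 2) (x y : F) (h : y + y ^ 2 ^ n = x ^ (2 ^ n + 1)) : U hF :=
  ⟨el hF x y h, x, y, h, rfl⟩

theorem mk_cx (hF : Fintype.card F = (2 ^ n) ^ 2) (x y : F)
    (h : y + y ^ 2 ^ n = x ^ (2 ^ n + 1)) : cx (mk hF x y h) = x := by
  show uMat (2 ^ n) x y 2 0 = x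
  simp [uMat]

theorem mk_cy (hF : Fintype.card F = (2 ^ n) ^ 2) (x y : F)
    (h : y + y ^ 2 ^ n = x ^ (2 ^ n + 1)) : cy (mk hF x y h) = y := by
  show uMat (2 ^ n) x y 1 0 = y
  simp [uMat]

/-- Scaling by a non-zero element of the subfield. -/
def scaleHom (hF : Fintype.card F = (2 ^ n) ^ 2) (c : F) (hc : c ^ 2 ^ n = c) : U hF →* U hF :=
  MonoidHom.mk' (fun g => mk hF (c * cx g) (c * c * cy g) (cond_scale hc (mem_U g).1)) fun a b => by
    refine ext_U ?_ ?_
    · rw [mk_cx, (mul_U (mk hF _ _ _) _).1, mk_cx, mk_cx, (mul_U a b).1, mul_add]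
    · rw [mk_cy, (mul_U (mk hF _ _ _) _).2, mk_cy, mk_cy, mk_cx, mk_cx, (mul_U a b).2, mul_pow, hc]
      ring

theorem scaleHom_cx (hF : Fintype.card F = (2 ^ n) ^ 2) {c : F} (hc : c ^ 2 ^ n = c) (g : U hF) :
    cx (scaleHom hF c hc g) = c * cx g := mk_cx hF _ _ _

theorem scaleHom_cy (hF : Fintype.card F = (2 ^ n) ^ 2) {c : F} (hc : c ^ 2 ^ n = c) (g : U hF) :
    cy (scaleHom hF c hc g) = c * c * cy g := mk_cy hF _ _ _

/-- The multiplicative group of the subfield. -/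
def sub (F : Type*) [Field F] (n : ℕ) : Subgroup Fˣ where
  carrier := {u | (u : F) ^ 2 ^ n = u}
  one_mem' := by simp
  mul_mem' := fun {a b} ha hb => by
    show ((a * b : Fˣ) : F) ^ 2 ^ n = _
    rw [Units.val_mul, mul_pow, ha, hb]
  inv_mem' := fun {a} ha => by
    show ((a⁻¹ : Fˣ) : F) ^ 2 ^ n = _
    rw [Units.val_inv_eq_inv_val, inv_pow, ha]

theorem sub_fix (u : sub F n) : ((u : Fˣ) : F) ^ 2 ^ n = (u : Fˣ) := u.2

/-- The scaling automorphisms. -/
def scaleAut (hF : Fintype.card F = (2 ^ n) ^ 2) : sub F n →* MulAut (U hF) where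
  toFun u :=
    MonoidHom.toMulEquiv (scaleHom hF u.1 (sub_fix u)) (scaleHom hF (u⁻¹).1 (sub_fix u⁻¹))
      (MonoidHom.ext fun g => ext_U
        (by
          rw [MonoidHom.comp_apply, scaleHom_cx, scaleHom_cx, MonoidHom.id_apply, ← mul_assoc,
            ← Units.val_mul, Subgroup.coe_inv, inv_mul_cancel, Units.val_one, one_mul])
        (by
          rw [MonoidHom.comp_apply, scaleHom_cy, scaleHom_cy, MonoidHom.id_apply, ← mul_assoc,
            Subgroup.coe_inv, mul_mul_mul_comm, ← Units.val_mul, inv_mul_cancel, Units.val_one,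
            one_mul, one_mul]))
      (MonoidHom.ext fun g => ext_U
        (by
          rw [MonoidHom.comp_apply, scaleHom_cx, scaleHom_cx, MonoidHom.id_apply, ← mul_assoc,
            ← Units.val_mul, Subgroup.coe_inv, mul_inv_cancel, Units.val_one, one_mul])
        (by
          rw [MonoidHom.comp_apply, scaleHom_cy, scaleHom_cy, MonoidHom.id_apply, ← mul_assoc,
            Subgroup.coe_inv, mul_mul_mul_comm, ← Units.val_mul, mul_inv_cancel, Units.val_one,
            one_mul, one_mul]))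
  map_one' := MulEquiv.ext fun g => ext_U ((scaleHom_cx hF (sub_fix (1 : sub F n)) g).trans (by simp))
    ((scaleHom_cy hF (sub_fix (1 : sub F n)) g).trans (by simp))
  map_mul' u v := MulEquiv.ext fun g => ext_U
    (by
      show cx (scaleHom hF _ (sub_fix (u * v)) g) =
        cx (scaleHom hF _ (sub_fix u) (scaleHom hF _ (sub_fix v) g))
      rw [scaleHom_cx, scaleHom_cx, scaleHom_cx, Subgroup.coe_mul, Units.val_mul, mul_assoc])
    (by
      show cy (scaleHom hF _ (sub_fix (u * v)) g) =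
        cy (scaleHom hF _ (sub_fix u) (scaleHom hF _ (sub_fix v) g))
      rw [scaleHom_cy, scaleHom_cy, scaleHom_cy, Subgroup.coe_mul, Units.val_mul]
      ring)

theorem cx_one (hF : Fintype.card F = (2 ^ n) ^ 2) : cx (1 : U hF) = 0 := by
  show (1 : Matrix (Fin 3) (Fin 3) F) 2 0 = 0
  simp

theorem cy_one (hF : Fintype.card F = (2 ^ n) ^ 2) : cy (1 : U hF) = 0 := by
  show (1 : Matrix (Fin 3) (Fin 3) F) 1 0 = 0
  simp

theorem sq_iff (hF : Fintype.card F = (2 ^ n) ^ 2) (g : U hF) :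
    (g ≠ 1 ∧ g * g = 1) ↔ (cx g = 0 ∧ cy g ≠ 0 ∧ cy g ^ 2 ^ n = cy g) := by
  constructor
  · rintro ⟨h1, h2⟩
    have e := congrArg cy h2
    rw [(mul_U g g).2, cy_one, CharTwo.add_self_eq_zero, zero_add] at e
    have hx : cx g = 0 := by
      rcases mul_eq_zero.1 e with h | h
      · exact (pow_eq_zero_iff (Nat.two_pow_pos n).ne').1 h
      · exact h
    refine ⟨hx, fun hy => h1 (ext_U (hx.trans (cx_one hF).symm) (hy.trans (cy_one hF).symm)), ?_⟩
    have h := (mem_U g).1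
    change cy g + cy g ^ 2 ^ n = cx g ^ (2 ^ n + 1) at h
    rw [hx, zero_pow (Nat.succ_ne_zero _), CharTwo.add_eq_zero] at h
    exact h.symm
  · rintro ⟨hx, hy, -⟩
    refine ⟨fun h => hy (h ▸ cy_one hF), ext_U ?_ ?_⟩
    · rw [(mul_U g g).1, hx, add_zero, cx_one]
    · rw [(mul_U g g).2, hx, CharTwo.add_self_eq_zero, mul_zero, add_zero, cy_one]

theorem suzuki_U (hn : 2 ≤ n) (hF : Fintype.card F = (2 ^ n) ^ 2) :
    Cfsg.IsSuzukiTwoGroup (U hF) := by
  haveI : Fact (Nat.Prime 2) := ⟨Nat.prime_two⟩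
  obtain ⟨hfix, hsurj⟩ := card_fixed hF
  refine ⟨inferInstance, IsPGroup.of_card (n := n * 3) (by rw [card_U hF, ← pow_mul]), ?_, ?_, ?_⟩
  · obtain ⟨y, hy⟩ := hsurj _ (norm_fixed hF (1 : F))
    by_contra hall
    push Not at hall
    have hc : mk hF 1 y hy ∈ Subgroup.center (U hF) :=
      Subgroup.mem_center_iff.2 fun g => hall g _
    rw [← center_U hF] at hc
    exact one_ne_zero ((mk_cx hF 1 y hy).symm.trans hc)
  · classical
    have hcard : 1 < Nat.card {y : {y : F // y + y ^ 2 ^ n = 0} // y.1 ≠ 0} := by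
      have h4 : 4 ≤ 2 ^ n := Nat.pow_le_pow_right two_pos hn
      rw [Nat.card_eq_fintype_card, Fintype.card_subtype_compl,
        show Fintype.card {y : {y : F // y + y ^ 2 ^ n = 0} // y.1 = 0} = 1 from
          Fintype.card_eq_one_iff.2 ⟨⟨⟨0, by simp⟩, rfl⟩, fun z =>
            Subtype.ext (Subtype.ext z.2)⟩,
        ← Nat.card_eq_fintype_card, hfix]
      omega
    haveI := (Finite.one_lt_card_iff_nontrivial).1 hcard
    obtain ⟨a, b, hab⟩ := exists_pair_ne {y : {y : F // y + y ^ 2 ^ n = 0} // y.1 ≠ 0}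
    have hcond : ∀ z : {y : F // y + y ^ 2 ^ n = 0},
        z.1 + z.1 ^ 2 ^ n = (0 : F) ^ (2 ^ n + 1) := fun z => by
      rw [zero_pow (Nat.succ_ne_zero _)]; exact z.2
    have hinv : ∀ z : {y : {y : F // y + y ^ 2 ^ n = 0} // y.1 ≠ 0},
        mk hF 0 z.1.1 (hcond z.1) ≠ 1 ∧ mk hF 0 z.1.1 (hcond z.1) * mk hF 0 z.1.1 (hcond z.1) = 1 :=
      fun z => (sq_iff hF _).2 ⟨mk_cx hF _ _ _, by rw [mk_cy]; exact z.2,
        by rw [mk_cy]; exact (CharTwo.add_eq_zero.1 z.1.2).symm⟩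
    refine ⟨_, _, fun h => hab ?_, (hinv a).1, (hinv a).2, (hinv b).1, (hinv b).2⟩
    have := congrArg cy h
    rw [mk_cy, mk_cy] at this
    exact Subtype.ext (Subtype.ext this)
  · refine ⟨(scaleAut hF).range, isCyclic_of_surjective (scaleAut hF).rangeRestrict
      (MonoidHom.rangeRestrict_surjective _), fun x y hx1 hx2 hy1 hy2 => ?_⟩
    obtain ⟨hxx, hxy, hxf⟩ := (sq_iff hF x).1 ⟨hx1, hx2⟩
    obtain ⟨hyx, hyy, hyf⟩ := (sq_iff hF y).1 ⟨hy1, hy2⟩
    -- the square root in the subfield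
    set r := cy y / cy x with hr
    have hr0 : r ≠ 0 := div_ne_zero hyy hxy
    have hrf : r ^ 2 ^ n = r := by rw [hr, div_pow, hxf, hyf]
    set s := r ^ 2 ^ (n - 1) with hs
    have hss : s * s = r := by
      rw [hs, ← pow_two, ← pow_mul, ← pow_succ, show n - 1 + 1 = n by omega, hrf]
    have hsf : s ^ 2 ^ n = s := by rw [hs, ← pow_mul, mul_comm, pow_mul, hrf]
    have hs0 : s ≠ 0 := pow_ne_zero _ hr0
    refine ⟨⟨scaleAut hF ⟨Units.mk0 s hs0, hsf⟩, _, rfl⟩, ext_U ?_ ?_, ?_⟩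
    · show cx (scaleHom hF s hsf x) = cx y
      rw [scaleHom_cx, hxx, hyx, mul_zero]
    · show cy (scaleHom hF s hsf x) = cy y
      rw [scaleHom_cy, hss, hr, div_mul_cancel₀ _ hxy]
    · rintro ⟨k, ⟨u, hu⟩, rfl⟩ hk
      refine Subtype.ext (congrArg (scaleAut hF) (Subtype.ext (Units.ext ?_)))
      have e := congrArg cy hk
      change cy (scaleHom hF (u : F) (sub_fix ⟨u, hu⟩) x) = cy y at e
      rw [scaleHom_cy] at e
      have e2 : (u : F) * u = s * s := by
        rw [hss, hr, eq_div_iff hxy]; exact e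
      show (u : F) = s
      rw [← sub_eq_zero]
      refine (mul_self_eq_zero).1 ?_
      linear_combination e2 + (s * s - (u : F) * s) * (CharTwo.two_eq_zero : (2 : F) = 0)

/-- Let `q = 2^n ≥ 4` and `|F| = q²`. A Sylow 2-subgroup `S` of `PSU₃(q)` has order `q³`, its centre has order `q`, and `S` is a Suzuki 2-group. -/
theorem result {F : Type*} [Field F] [Fintype F] {n : ℕ} (hn : 2 ≤ n)
    (hF : Fintype.card F = (2 ^ n) ^ 2) (S : Sylow 2 (Cfsg.PSU 3 F (2 ^ n))) :
    Nat.card S = (2 ^ n) ^ 3 ∧ Nat.card (Subgroup.center ↥(S : Subgroup (Cfsg.PSU 3 F (2 ^ n)))) = 2 ^ n ∧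
      Cfsg.IsSuzukiTwoGroup ↥(S : Subgroup (Cfsg.PSU 3 F (2 ^ n))) := by
  classical
  haveI : Fact (Nat.Prime 2) := ⟨Nat.prime_two⟩
  haveI : CharP F 2 := charP_of_card_eq_prime_pow (f := n * 2) (by rw [hF, ← pow_mul])
  set π := QuotientGroup.mk' (Subgroup.center (Cfsg.SU 3 F (2 ^ n))) with hπ
  have hπs : Function.Surjective π := QuotientGroup.mk'_surjective _
  let P : Sylow 2 (Cfsg.SU 3 F (2 ^ n)) :=
    Sylow.ofCard (U hF) (by rw [card_U hF, factorization_card_SU hF])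
  -- the centre meets the Sylow subgroup trivially
  have hdisj : ∀ a : U hF, π a = 1 → a = 1 := by
    intro a ha
    rw [hπ, QuotientGroup.mk'_apply, QuotientGroup.eq_one_iff] at ha
    obtain ⟨k, hk⟩ := (IsPGroup.of_card (p := 2) (n := n * 3)
      (by rw [card_U hF, ← pow_mul]) : IsPGroup 2 (U hF)) a
    have h1 : orderOf (a : Cfsg.SU 3 F (2 ^ n)) ∣ 2 ^ k :=
      orderOf_dvd_of_pow_eq_one (congrArg Subtype.val hk)
    have h2 := Subgroup.orderOf_dvd_natCard _ ha
    rw [CfsgLib.Classical.card_center_su hF (by norm_num)] at h2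
    have h3 : Nat.Coprime (2 ^ k) (Nat.gcd 3 (2 ^ n + 1)) :=
      Nat.Coprime.coprime_dvd_right (Nat.gcd_dvd_left _ _) (Nat.Coprime.pow_left k (by norm_num))
    refine Subtype.ext ?_
    show (a : Cfsg.SU 3 F (2 ^ n)) = 1
    exact orderOf_eq_one_iff.1 (Nat.eq_one_of_dvd_coprimes h3 h1 h2)
  set f : U hF →* Cfsg.PSU 3 F (2 ^ n) := π.comp (U hF).subtype
  have hf : Function.Injective f := (MonoidHom.ker_eq_bot_iff _).1 (Subgroup.eq_bot_iff_forall _ |>.2
    fun a ha => hdisj a ha)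
  have hrange : f.range = (P.mapSurjective hπs : Subgroup (Cfsg.PSU 3 F (2 ^ n))) := by
    rw [Sylow.coe_mapSurjective, MonoidHom.range_comp, Subgroup.range_subtype, Sylow.coe_ofCard]
  let e : U hF ≃* (S : Subgroup (Cfsg.PSU 3 F (2 ^ n))) :=
    ((MonoidHom.ofInjective hf).trans (MulEquiv.subgroupCongr hrange)).trans
      ((P.mapSurjective hπs).equiv S)
  refine ⟨by rw [← Nat.card_congr e.toEquiv, card_U hF], ?_, ?_⟩
  · refine (Nat.card_congr (Subgroup.centerCongr e).toEquiv).symm.trans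
      (Eq.trans ?_ (card_fixed hF).1)
    have hcz : ∀ a : U hF, a ∈ Subgroup.center (U hF) → cy a + cy a ^ 2 ^ n = 0 := by
      intro a ha
      have h := (mem_U a).1
      rw [(center_U hF a).2 ha, zero_pow (Nat.succ_ne_zero _)] at h
      exact h
    have hy0 : ∀ y : {y : F // y + y ^ 2 ^ n = 0}, y.1 + y.1 ^ 2 ^ n = (0 : F) ^ (2 ^ n + 1) :=
      fun y => by rw [zero_pow (Nat.succ_ne_zero _)]; exact y.2
    exact Nat.card_congr
      { toFun := fun a => ⟨cy a.1, hcz a.1 a.2⟩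
        invFun := fun y => ⟨mk hF 0 y.1 (hy0 y),
          (center_U hF _).1 (mk_cx hF _ _ _)⟩
        left_inv := fun a => Subtype.ext (ext_U ((mk_cx hF _ _ _).trans ((center_U hF a.1).2 a.2).symm)
          (mk_cy hF _ _ _))
        right_inv := fun y => Subtype.ext (mk_cy hF 0 y.1 (hy0 y)) }
  · obtain ⟨-, hp, ⟨a, b, hab⟩, ⟨u, v, huv, hu1, hu2, hv1, hv2⟩, K, hK, hreg⟩ := suzuki_U hn hF
    refine ⟨inferInstance, S.isPGroup', ⟨e a, e b, fun h => hab (e.injective (by simpa using h))⟩,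
      ⟨e u, e v, e.injective.ne huv, fun h => hu1 (e.injective (h.trans (map_one e).symm)),
        by rw [← map_mul, hu2, map_one], fun h => hv1 (e.injective (h.trans (map_one e).symm)),
        by rw [← map_mul, hv2, map_one]⟩,
      K.map (MulAut.congr e).toMonoidHom, ?_, fun x y hx1 hx2 hy1 hy2 => ?_⟩
    · haveI := hK
      exact isCyclic_of_surjective _ ((MulAut.congr e).toMonoidHom.subgroupMap_surjective K)
    · obtain ⟨k, hk, huniq⟩ := hreg (e.symm x) (e.symm y)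
        (fun h => hx1 (by simpa using congrArg e h)) (by rw [← map_mul, hx2, map_one])
        (fun h => hy1 (by simpa using congrArg e h)) (by rw [← map_mul, hy2, map_one])
      refine ⟨⟨_, Subgroup.mem_map_of_mem _ k.2⟩, ?_, ?_⟩
      · show e (k.1 (e.symm x)) = y
        rw [hk, e.apply_symm_apply]
      · rintro ⟨m, j, hj, rfl⟩ hm
        refine Subtype.ext (congrArg (MulAut.congr e) (congrArg Subtype.val (huniq ⟨j, hj⟩ ?_)))
        show j (e.symm x) = e.symm y
        rw [← hm]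
        exact (e.symm_apply_apply _).symm

end Cfsg.Agent.S1141
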