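import Cfsg.Statements.S1151
import Cfsg.Agent.Lib.Chev.Twist.G2Points

set_option autoImplicit false
open Cfsg

namespace Cfsg.Agent.S1151

/-- In the small Ree group ²G₂(q), q = 3^(2m+1), realised as G¹ inside the Chevalley group G₂ over the field with q elements (θ the 3^m-th power map), with H¹ = G¹ ∩ H and U¹ = G¹ ∩ U the intersections with the ambient diagonal and positive unipotent subgroups: `H¹` has exactly `(q - 1)/2` elements of odd order, and each non-identity one centralises no non-identity element of `U¹`. -/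
theorem result {K : Type*} [Field K] [Fintype K] {m : ℕ} (hK : Fintype.card K = 3 ^ (2 * m + 1)) :
    2 * Nat.card {h : ↥(Cfsg.Lie.chevG2.diagonalSubgroup K ⊓ Cfsg.Lie.twistedG2 K (3 ^ m)) // Odd (orderOf h)} = 3 ^ (2 * m + 1) - 1 ∧
      ∀ h ∈ (Cfsg.Lie.chevG2.diagonalSubgroup K ⊓ Cfsg.Lie.twistedG2 K (3 ^ m)), h ≠ 1 → Odd (orderOf h) →
        (Cfsg.Lie.chevG2.posUnipotent K ⊓ Cfsg.Lie.twistedG2 K (3 ^ m)) ⊓ Subgroup.centralizer {h} = ⊥ := by
  classical
  obtain ⟨C⟩ := CfsgLib.Chev.TwG2.nonempty_ctx hK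
  obtain ⟨k, hk, hkodd⟩ : ∃ k, 3 ^ (2 * m + 1) - 1 = 2 * k ∧ Odd k := by
    refine ⟨(3 ^ (2 * m + 1) - 1) / 2, ?_, ?_⟩
    · have : 3 ^ (2 * m + 1) % 2 = 1 := by simp [Nat.pow_mod]
      omega
    · have h4 : 3 ^ (2 * m + 1) % 4 = 3 := by
        rw [pow_succ, pow_mul, Nat.mul_mod, Nat.pow_mod]; norm_num
      rw [Nat.odd_iff]
      omega
  have hcard : Nat.card Kˣ = 2 * k := by
    rw [Nat.card_units, Nat.card_eq_fintype_card, C.card, hk]
  have hodd : ∀ b : Kˣ, Odd (orderOf b) ↔ b ^ k = 1 := by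
    intro b
    constructor
    · intro h
      refine orderOf_dvd_iff_pow_eq_one.1 (Nat.Coprime.dvd_of_dvd_mul_left ?_
        (hcard ▸ orderOf_dvd_natCard b))
      exact (Nat.coprime_two_right.2 h)
    · intro h
      exact hkodd.of_dvd_nat (orderOf_dvd_of_pow_eq_one h)
  refine ⟨?_, ?_⟩
  · rw [hk, C.diag_eq]
    congr 1
    have e1 : Nat.card {h : ↥C.par.range // Odd (orderOf h)} = Nat.card {b : Kˣ // Odd (orderOf b)} :=
      (Nat.card_congr (Equiv.subtypeEquiv (MonoidHom.ofInjective C.par_injective).toEquiv fun b => by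
        show Odd (orderOf b) ↔ Odd (orderOf (MonoidHom.ofInjective C.par_injective b))
        rw [MulEquiv.orderOf_eq])).symm
    rw [e1, Nat.card_congr (Equiv.subtypeEquivRight hodd)]
    show Nat.card ↥(powMonoidHom k : Kˣ →* Kˣ).ker = k
    rw [IsCyclic.card_powMonoidHom_ker, hcard, Nat.gcd_mul_left_left]
  · intro h hh hne ho
    obtain ⟨b, rfl⟩ := C.mem_par_iff.1 hh
    have hb1 : b ≠ 1 := fun e => hne (by rw [e, map_one])
    have hb2 : b ≠ -1 := by
      rintro rfl
      rw [orderOf_injective C.par C.par_injective, hodd, hkodd.neg_one_pow] at ho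
      exact C.neg_one_ne ho
    rw [eq_bot_iff]
    rintro x ⟨hx, hc⟩
    obtain ⟨t, u, v, rfl⟩ := C.mem_posU_iff.1 hx
    exact Subgroup.mem_bot.2 (C.fix_point_free hb1 hb2
      (Subgroup.mem_centralizer_iff.1 hc _ rfl))

end Cfsg.Agent.S1151
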