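import Cfsg.Statements.S1155
import Cfsg.Agent.Lib.Chev.Twist.G2Points

set_option autoImplicit false
open Cfsg

namespace Cfsg.Agent.S1155

open CfsgLib.Chev
open scoped Pointwise

/-- In the small Ree group ²G₂(q), q = 3^(2m+1) with m ≥ 1, realised as G¹ inside the Chevalley group G₂ over the field with q elements (θ the 3^m-th power map): distinct Sylow 3-subgroups of `G¹` meet trivially. -/
theorem result {K : Type*} [Field K] [Fintype K] {m : ℕ} (hm : 1 ≤ m) (hK : Fintype.card K = 3 ^ (2 * m + 1))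
    (P Q : Sylow 3 ↥(Cfsg.Lie.twistedG2 K (3 ^ m))) (hPQ : P ≠ Q) : (P : Subgroup ↥(Cfsg.Lie.twistedG2 K (3 ^ m))) ⊓ (Q : Subgroup ↥(Cfsg.Lie.twistedG2 K (3 ^ m))) = ⊥ := by
  classical
  obtain ⟨C⟩ := CfsgLib.Chev.TwG2.nonempty_ctx hK
  haveI : Fact (Nat.Prime 3) := ⟨Nat.prime_three⟩
  set U : Subgroup ↥(Cfsg.Lie.twistedG2 K (3 ^ m)) := (Cfsg.Lie.chevG2.posUnipotent K ⊓ (Cfsg.Lie.twistedG2 K (3 ^ m))).subgroupOf (Cfsg.Lie.twistedG2 K (3 ^ m)) with hU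
  set q := 3 ^ (2 * m + 1) with hq
  have hUc : Nat.card U = q ^ 3 := by
    rw [Nat.card_congr (Subgroup.subgroupOfEquivOfLe inf_le_right).toEquiv, C.card_posU]
  have hS : Nat.card U = 3 ^ (Nat.card ↥(Cfsg.Lie.twistedG2 K (3 ^ m))).factorization 3 := by
    rw [hUc, C.card_twisted, ← hq]
    have h1 : ¬ 3 ∣ (q - 1) * (q ^ 3 + 1) := by
      have h0 : q % 3 = 0 := by rw [hq, pow_succ]; simp
      have h2 : 0 < q := Nat.pow_pos (by norm_num)
      rw [Nat.prime_three.dvd_mul, Nat.dvd_iff_mod_eq_zero, Nat.dvd_iff_mod_eq_zero]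
      have h3 : q ^ 3 % 3 = 0 := by rw [Nat.pow_mod, h0]
      omega
    rw [mul_assoc, Nat.factorization_mul (by positivity) (fun e => h1 (by rw [e]; exact dvd_zero 3)),
      Finsupp.add_apply, Nat.factorization_eq_zero_of_not_dvd h1, add_zero, hq, ← pow_mul,
      Nat.prime_three.factorization_pow, Finsupp.single_eq_same]
  let S : Sylow 3 ↥(Cfsg.Lie.twistedG2 K (3 ^ m)) := Sylow.ofCard U hS
  obtain ⟨g, hg⟩ := MulAction.exists_smul_eq ↥(Cfsg.Lie.twistedG2 K (3 ^ m)) S P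
  obtain ⟨k, hk⟩ := MulAction.exists_smul_eq ↥(Cfsg.Lie.twistedG2 K (3 ^ m)) S Q
  have hgk : ((g⁻¹ * k : ↥(Cfsg.Lie.twistedG2 K (3 ^ m))) : GL Cfsg.Lie.chevG2.Idx K) ∉ Cfsg.Lie.chevG2.borelSubgroup K := by
    intro h
    refine hPQ ?_
    rw [← hg, ← hk, ← smul_inv_smul g (k • S), smul_smul g⁻¹ k]
    congr 1
    refine (Sylow.smul_eq_iff_mem_normalizer.2 ?_).symm
    refine Subgroup.mem_normalizer_iff.2 fun x => ⟨fun hx => ?_, fun hx => ?_⟩
    · exact C.borel_normalizes ⟨h, (g⁻¹ * k).2⟩ hx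
    · have := C.borel_normalizes ⟨Subgroup.inv_mem _ h, ((g⁻¹ * k)⁻¹).2⟩ hx
      simp only [Subgroup.coe_mul, Subgroup.coe_inv, Subgroup.coe_subtype, inv_inv] at this
      show (x : GL Cfsg.Lie.chevG2.Idx K) ∈
        Cfsg.Lie.chevG2.posUnipotent K ⊓ Cfsg.Lie.twistedG2 K (3 ^ m)
      convert this using 1
      group
  rw [eq_bot_iff]
  rintro x ⟨hxP, hxQ⟩
  rw [← hg] at hxP
  rw [← hk] at hxQ
  replace hxP : g⁻¹ * x * g ∈ U := by
    have h : x ∈ MulAut.conj g • U := hxP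
    rwa [Subgroup.mem_pointwise_smul_iff_inv_smul_mem, MulAut.smul_def, ← map_inv,
      MulAut.conj_apply, inv_inv] at h
  replace hxQ : k⁻¹ * x * k ∈ U := by
    have h : x ∈ MulAut.conj k • U := hxQ
    rwa [Subgroup.mem_pointwise_smul_iff_inv_smul_mem, MulAut.smul_def, ← map_inv,
      MulAut.conj_apply, inv_inv] at h
  have key := C.posU_inf_conj (g⁻¹ * k).2 hgk (x := ((g⁻¹ * x * g : ↥(Cfsg.Lie.twistedG2 K (3 ^ m))) : GL _ K)) hxP (by
    have h : ((k⁻¹ * x * k : ↥(Cfsg.Lie.twistedG2 K (3 ^ m))) : GL _ K) ∈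
        Cfsg.Lie.chevG2.posUnipotent K := hxQ.1
    simp only [Subgroup.coe_mul, Subgroup.coe_inv, Subgroup.coe_subtype] at h ⊢
    convert h using 1
    group)
  have h1 : g⁻¹ * x * g = 1 := Subtype.ext key
  rw [Subgroup.mem_bot]
  rw [mul_assoc, inv_mul_eq_one] at h1
  exact mul_eq_right.1 h1.symm

end Cfsg.Agent.S1155
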