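import Cfsg.Statements.S1157
import Cfsg.Agent.Lib.Chev.Twist.G2Frame

set_option autoImplicit false
open Cfsg

namespace Cfsg.Agent.S1157

/-- In the small Ree group ²G₂(q), q = 3^(2m+1) with m ≥ 1, realised as G¹ inside the Chevalley group G₂ over the field with q elements (θ the 3^m-th power map): a Sylow 2-subgroup `S` of `G¹` satisfies `C(S) = S` and `|N(S)| = 168`. -/
theorem result {K : Type*} [Field K] [Fintype K] {m : ℕ} (hm : 1 ≤ m) (hK : Fintype.card K = 3 ^ (2 * m + 1))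
    (S : Sylow 2 ↥(Cfsg.Lie.twistedG2 K (3 ^ m))) :
    Subgroup.centralizer ((S : Subgroup ↥(Cfsg.Lie.twistedG2 K (3 ^ m))) : Set ↥(Cfsg.Lie.twistedG2 K (3 ^ m))) = S ∧
      Nat.card (Subgroup.normalizer ((S : Subgroup ↥(Cfsg.Lie.twistedG2 K (3 ^ m))) : Set ↥(Cfsg.Lie.twistedG2 K (3 ^ m)))) = 168 := by
  obtain ⟨C⟩ := CfsgLib.Chev.TwG2.nonempty_ctx hK
  obtain ⟨φ, hmem, T, F, -, -, -, -, -, -, -⟩ := C.exists_frame hm
  haveI : Fact (Nat.Prime 2) := ⟨Nat.prime_two⟩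
  obtain ⟨g, rfl⟩ := MulAction.exists_smul_eq ↥(Cfsg.Lie.twistedG2 K (3 ^ m)) T S
  have hT : Subgroup.centralizer ((T : Subgroup ↥(Cfsg.Lie.twistedG2 K (3 ^ m))) : Set ↥(Cfsg.Lie.twistedG2 K (3 ^ m))) =
      (T : Subgroup ↥(Cfsg.Lie.twistedG2 K (3 ^ m))) :=
    le_antisymm (fun x hx => F.cent x fun y hy => (Subgroup.mem_centralizer_iff.1 hx y hy).symm)
      fun x hx => Subgroup.mem_centralizer_iff.2 fun y hy => F.comm hy hx
  have hsm : ((g • T : Sylow 2 _) : Subgroup ↥(Cfsg.Lie.twistedG2 K (3 ^ m))) =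
      (T : Subgroup ↥(Cfsg.Lie.twistedG2 K (3 ^ m))).map (MulAut.conj g).toMonoidHom := rfl
  refine ⟨?_, ?_⟩
  · ext x
    have hmem' : ∀ y, y ∈ ((g • T : Sylow 2 _) : Subgroup ↥(Cfsg.Lie.twistedG2 K (3 ^ m))) ↔
        g⁻¹ * y * g ∈ (T : Subgroup ↥(Cfsg.Lie.twistedG2 K (3 ^ m))) := fun y => by
      rw [hsm, Subgroup.mem_map_equiv, ← MulAut.inv_def, ← map_inv, MulAut.conj_apply, inv_inv]
    rw [hmem', ← hT, Subgroup.mem_centralizer_iff, Subgroup.mem_centralizer_iff]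
    constructor
    · intro h y hy
      have := h (g * y * g⁻¹) ((hmem' _).2 (by
        rw [show g⁻¹ * (g * y * g⁻¹) * g = y by group]; exact hy))
      calc y * (g⁻¹ * x * g) = g⁻¹ * ((g * y * g⁻¹) * x) * g := by group
        _ = _ := by rw [this]; group
    · intro h y hy
      have := h _ ((hmem' y).1 hy)
      calc y * x = g * ((g⁻¹ * y * g) * (g⁻¹ * x * g)) * g⁻¹ := by group
        _ = _ := by rw [this]; group
  · rw [hsm, ← Subgroup.map_equiv_normalizer_eq, Subgroup.card_map_of_injective (MulEquiv.injective _)]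
    exact F.card_normalizer

end Cfsg.Agent.S1157
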