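import Cfsg.Statements.S1158
import Cfsg.Agent.Lib.Chev.Twist.G2Hall
-- import your own Cfsg.Agent.* helpers here

set_option autoImplicit false
open Cfsg

namespace Cfsg.Agent.S1158

/-- In the small Ree group ²G₂(q), q = 3^(2m+1) with m ≥ 1, realised as G¹ inside the Chevalley group G₂ over the field with q elements (θ the 3^m-th power map), with `r = 3^(m+1)` (so `r² = 3q`): for each `k ∈ {(q-1)/2, (q+1)/4, q - r + 1, q + r + 1}` there is a cyclic subgroup `A` of order `k` whose normaliser has order `2(q-1)`, `6(q+1)`, `6(q-r+1)`, `6(q+r+1)` respectively, and `N(A₀) = N(A)` for every non-trivial `A₀ ≤ A`. -/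
theorem result {K : Type*} [Field K] [Fintype K] {m : ℕ} (hm : 1 ≤ m) (hK : Fintype.card K = 3 ^ (2 * m + 1)) :
    ∀ kn ∈ ({((3 ^ (2 * m + 1) - 1) / 2, 2 * (3 ^ (2 * m + 1) - 1)), ((3 ^ (2 * m + 1) + 1) / 4, 6 * (3 ^ (2 * m + 1) + 1)),
        (3 ^ (2 * m + 1) - 3 ^ (m + 1) + 1, 6 * (3 ^ (2 * m + 1) - 3 ^ (m + 1) + 1)),
        (3 ^ (2 * m + 1) + 3 ^ (m + 1) + 1, 6 * (3 ^ (2 * m + 1) + 3 ^ (m + 1) + 1))} : Set (ℕ × ℕ)),
      ∃ A : Subgroup ↥(Cfsg.Lie.twistedG2 K (3 ^ m)), IsCyclic A ∧ Nat.card A = kn.1 ∧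
        Nat.card (Subgroup.normalizer (A : Set ↥(Cfsg.Lie.twistedG2 K (3 ^ m)))) = kn.2 ∧
        ∀ A₀ : Subgroup ↥(Cfsg.Lie.twistedG2 K (3 ^ m)), A₀ ≤ A → A₀ ≠ ⊥ →
          Subgroup.normalizer (A₀ : Set ↥(Cfsg.Lie.twistedG2 K (3 ^ m))) = Subgroup.normalizer (A : Set ↥(Cfsg.Lie.twistedG2 K (3 ^ m))) := by
  obtain ⟨C⟩ := CfsgLib.Chev.TwG2.nonempty_ctx hK
  rintro ⟨k, n⟩ hkn
  simp only [Set.mem_insert_iff, Set.mem_singleton_iff, Prod.mk.injEq] at hkn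
  have hcox : ∀ k ∈ ({C.q - 3 ^ (m + 1) + 1, C.q + 3 ^ (m + 1) + 1} : Set ℕ),
      ∃ A : Subgroup C.Gr, IsCyclic A ∧ Nat.card A = k ∧
        Nat.card ↥(Subgroup.normalizer (A : Set C.Gr)) = 6 * k ∧
        ∀ A₀ : Subgroup C.Gr, A₀ ≤ A → A₀ ≠ ⊥ →
          Subgroup.normalizer (A₀ : Set C.Gr) = Subgroup.normalizer (A : Set C.Gr) := by
    intro k hk
    obtain ⟨A, hA, hc, hcen, hN, -⟩ := C.exists_cox_tori hm k hk
    refine ⟨A, hA, hc, hN, fun A₀ h0 hne => ?_⟩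
    obtain ⟨⟨u, hu⟩, hu1⟩ := Subgroup.ne_bot_iff_exists_ne_one.1 hne
    have hu1' : u ≠ 1 := fun e => hu1 (Subtype.ext e)
    have e : Subgroup.centralizer (A₀ : Set C.Gr) = A := by
      refine le_antisymm ?_ fun g hg => Subgroup.mem_centralizer_iff.2 fun x hx => ?_
      · rw [← hcen u (h0 hu) hu1']
        exact Subgroup.centralizer_le (Set.singleton_subset_iff.2 hu)
      · exact congrArg Subtype.val
          ((IsCyclic.commutative (α := A)).is_comm.comm (⟨x, h0 hx⟩ : A) (⟨g, hg⟩ : A))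
    exact le_antisymm (e ▸ CfsgLib.Chev.HallAux.normalizer_le_normalizer_centralizer A₀)
      (CfsgLib.Chev.HallAux.normalizer_le_of_cyclic h0)
  rcases hkn with ⟨rfl, rfl⟩ | ⟨rfl, rfl⟩ | ⟨rfl, rfl⟩ | ⟨rfl, rfl⟩
  · obtain ⟨A, hA, hc, hN, h0, -, -⟩ := C.exists_torus_zero hm
    exact ⟨A, hA, hc, hN, h0⟩
  · obtain ⟨A, T, τ, hA, hc, -, -, -, -, -, -, -, hN, h0⟩ := C.exists_torus_one hm
    obtain ⟨h27, -, -⟩ := C.q_facts hm
    have hne : A ≠ ⊥ := fun e => by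
      rw [e, Subgroup.card_bot] at hc
      omega
    refine ⟨A, hA, ?_, ?_, fun A₀ h hn => (h0 A₀ h hn).trans (h0 A le_rfl hne).symm⟩
    · show Nat.card A = (C.q + 1) / 4
      omega
    · rw [h0 A le_rfl hne]; exact hN
  · exact hcox _ (Or.inl rfl)
  · exact hcox _ (Or.inr rfl)

end Cfsg.Agent.S1158
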