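import Cfsg.Statements.S1163
import Cfsg.Agent.Lib.Suzuki.Facts

set_option autoImplicit false
open Cfsg

namespace Cfsg.Agent.S1163

/-- For the Suzuki group Sz(q), q = 2^(2m+1) ≥ 8, realised as the elements g of Sp₄(F) with g* = g^θ (θ the 2^(m+1)-th power map, so that θ² is squaring): `|Sz(q)| = q² (q - 1) (q² + 1)`, and there is a Sylow 2-subgroup `S` whose normaliser `H` has order `q²(q-1)` and index `q² + 1`, the action of `Sz(q)` on the cosets of `H` is doubly transitive, and `S` acts regularly on the cosets other than `H` itself. -/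
theorem result {F : Type*} [Field F] [Fintype F] {m : ℕ} (hm : 1 ≤ m) (hF : Fintype.card F = 2 ^ (2 * m + 1)) :
    Nat.card ↥(Cfsg.Lie.Sz F (2 ^ (m + 1))) = (2 ^ (2 * m + 1)) ^ 2 * (2 ^ (2 * m + 1) - 1) * ((2 ^ (2 * m + 1)) ^ 2 + 1) ∧
    ∃ S : Sylow 2 ↥(Cfsg.Lie.Sz F (2 ^ (m + 1))),
      Nat.card (Subgroup.normalizer ((S : Subgroup ↥(Cfsg.Lie.Sz F (2 ^ (m + 1)))) : Set ↥(Cfsg.Lie.Sz F (2 ^ (m + 1))))) = (2 ^ (2 * m + 1)) ^ 2 * (2 ^ (2 * m + 1) - 1) ∧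
      (Subgroup.normalizer ((S : Subgroup ↥(Cfsg.Lie.Sz F (2 ^ (m + 1)))) : Set ↥(Cfsg.Lie.Sz F (2 ^ (m + 1))))).index = (2 ^ (2 * m + 1)) ^ 2 + 1 ∧
      MulAction.IsMultiplyPretransitive ↥(Cfsg.Lie.Sz F (2 ^ (m + 1))) (↥(Cfsg.Lie.Sz F (2 ^ (m + 1))) ⧸ Subgroup.normalizer ((S : Subgroup ↥(Cfsg.Lie.Sz F (2 ^ (m + 1)))) : Set ↥(Cfsg.Lie.Sz F (2 ^ (m + 1))))) 2 ∧
      ∀ x y : ↥(Cfsg.Lie.Sz F (2 ^ (m + 1))) ⧸ Subgroup.normalizer ((S : Subgroup ↥(Cfsg.Lie.Sz F (2 ^ (m + 1)))) : Set ↥(Cfsg.Lie.Sz F (2 ^ (m + 1)))),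
        x ≠ (QuotientGroup.mk 1) → y ≠ (QuotientGroup.mk 1) → ∃! s : ↥(S : Subgroup ↥(Cfsg.Lie.Sz F (2 ^ (m + 1)))), (s : ↥(Cfsg.Lie.Sz F (2 ^ (m + 1)))) • x = y := by
  haveI := CfsgLib.Suzuki.charTwo hF
  refine ⟨CfsgLib.Suzuki.card_group hF hm, CfsgLib.Suzuki.sylow hF hm, ?_⟩
  have hH : ∀ g, g ∈ Subgroup.normalizer
      ((CfsgLib.Suzuki.sylow hF hm : Subgroup (Cfsg.Lie.Sz F (2 ^ (m + 1)))) :
        Set (Cfsg.Lie.Sz F (2 ^ (m + 1)))) ↔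
      CfsgLib.Suzuki.toSL hF g • CfsgLib.Suzuki.inf =
        (CfsgLib.Suzuki.inf : Cfsg.suzukiOvoid F m) := by
    rw [CfsgLib.Suzuki.coe_sylow]
    exact CfsgLib.Suzuki.normalizer_unip hF
  obtain ⟨f, hbij, heq, hone⟩ := CfsgLib.Suzuki.exists_coset_equiv hF hH
  let H := Subgroup.normalizer
    ((CfsgLib.Suzuki.sylow hF hm : Subgroup (Cfsg.Lie.Sz F (2 ^ (m + 1)))) :
      Set (Cfsg.Lie.Sz F (2 ^ (m + 1))))
  have hidx : H.index = (2 ^ (2 * m + 1)) ^ 2 + 1 := by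
    show Nat.card (_ ⧸ H) = _
    rw [Nat.card_eq_of_bijective f hbij, CfsgLib.Suzuki.card_ovoid, hF]
  refine ⟨?_, hidx, ?_, ?_⟩
  · have h := Subgroup.card_mul_index H
    rw [hidx, CfsgLib.Suzuki.card_group hF hm] at h
    exact Nat.eq_of_mul_eq_mul_right (Nat.succ_pos _) h
  · rw [MulAction.is_two_pretransitive_iff]
    intro a b c d hab hcd
    have h2 := CfsgLib.Suzuki.two_pretransitive hF
    obtain ⟨g, hg1, hg2⟩ := (MulAction.is_two_pretransitive_iff.1 h2) (hbij.1.ne hab) (hbij.1.ne hcd)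
    obtain ⟨k, rfl⟩ := CfsgLib.Suzuki.toSL_surjective hF hm g
    exact ⟨k, hbij.1 (by rw [heq, hg1]), hbij.1 (by rw [heq, hg2])⟩
  · intro x y hx hy
    rw [← hbij.1.ne_iff, hone] at hx hy
    obtain ⟨⟨a, b⟩, hab, -⟩ := CfsgLib.Suzuki.existsUnique_U hF hx
    obtain ⟨⟨c, d⟩, hcd, hun⟩ := CfsgLib.Suzuki.existsUnique_U hF hy
    refine ⟨⟨CfsgLib.SuzukiLaws.U hF c d * (CfsgLib.SuzukiLaws.U hF a b)⁻¹,
      by rw [CfsgLib.Suzuki.coe_sylow]; exact Subgroup.mul_mem _ ⟨c, d, rfl⟩ (Subgroup.inv_mem _ ⟨a, b, rfl⟩)⟩, hbij.1 ?_, ?_⟩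
    · rw [heq, map_mul, map_inv, mul_smul, inv_smul_eq_iff.2 hab.symm, hcd]
    · rintro ⟨z, hz⟩ e
      obtain ⟨p, r, hpr⟩ : ∃ p r, z * CfsgLib.SuzukiLaws.U hF a b = CfsgLib.SuzukiLaws.U hF p r := by
        rw [CfsgLib.Suzuki.coe_sylow] at hz
        obtain ⟨p, r, rfl⟩ := hz
        exact ⟨_, _, CfsgLib.SuzukiLaws.U_mul hF p r a b⟩
      have := hun (p, r) (by
        show CfsgLib.Suzuki.toSL hF (CfsgLib.SuzukiLaws.U hF p r) • CfsgLib.Suzuki.zero = f y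
        rw [← hpr, map_mul, mul_smul, hab, ← heq]
        exact congrArg f e)
      simp only [Prod.mk.injEq] at this
      apply Subtype.ext
      show z = _
      rw [eq_mul_inv_iff_mul_eq, hpr, this.1, this.2]

end Cfsg.Agent.S1163
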