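import Cfsg.Statements.S1164
import Cfsg.Agent.Lib.Chev.CT.Iso
import Cfsg.Agent.Lib.Chev.CT.Data.D4
import Cfsg.Agent.Lib.Chev.CT.Data.F4
import Cfsg.Agent.Lib.Chev.CT.Data.E6
import Cfsg.Agent.Lib.Chev.CT.Data.E7
import Cfsg.Agent.Lib.Chev.CT.Data.E8

set_option autoImplicit false
open Cfsg

namespace Cfsg.Agent.S1164

open Cfsg.Lie CfsgLib.Chev


/-- Curtis–Tits: for the Chevalley datum of type D₄, F₄, E₆, E₇ or E₈ and a field `K` with at least four elements, there is an isomorphism from the group presented by the Curtis–Tits relators (additivity, the commutator relators and the `h̄`-relators only for roots inside a common rank-two subsystem spanned by two fundamental roots, all other generators killed) onto the group of Steinberg's presentation, sending each generator `x̄_r(t)` with `r` in such a subsystem to `x̄_r(t)`. -/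
theorem result (D : Cfsg.Lie.ChevalleyDatum)
    (hD : D ∈ [Cfsg.Lie.chevD4, Cfsg.Lie.chevF4, Cfsg.Lie.chevE6, Cfsg.Lie.chevE7, Cfsg.Lie.chevE8])
    (K : Type*) [Field K] [Fintype K] (hK : 4 ≤ Fintype.card K) :
    ∃ e : D.CurtisTitsGroup K ≃* D.SteinbergGroup K,
      ∀ (i j r : ℕ) (t : K), D.InRankTwoSub i j r →
        e (PresentedGroup.mk (D.curtisTitsRels K) (D.stX r t)) = D.stGen K r t := by
  have hC : CT.Cert D := by
    simp only [List.mem_cons, List.not_mem_nil, or_false] at hD
    rcases hD with rfl | rfl | rfl | rfl | rfl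
    exacts [CT.DataD4.cert, CT.DataF4.cert, CT.DataE6.cert, CT.DataE7.cert, CT.DataE8.cert]
  have hD7 : D ∈ [chevG2, chevB2, chevD4, chevF4, chevE6, chevE7, chevE8] :=
    List.mem_cons_of_mem _ (List.mem_cons_of_mem _ hD)
  obtain ⟨co, hF⟩ := (good_of_mem.{0} hD7).facts
  exact CT.exists_iso hF (good_of_mem hD7).comm (hasNbr_of_mem hD7) hC

end Cfsg.Agent.S1164
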