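import Cfsg.Statements.S1167
import Cfsg.Agent.S0731
import Mathlib.GroupTheory.Perm.Cycle.Type

set_option autoImplicit false
open Cfsg

namespace Cfsg.Agent.S1167

/-- Let `G` be a finite simple Zassenhaus group on `Ω`, `U` a normal subgroup of `G_a` regular on `Ω` minus `a` which is an abelian 2-group, and `v` an involution with `v • a ≠ a`. Then there is a unique `u₀ ∈ U`, `u₀ ≠ 1`, with `v u₀ v = u₀ v u₀`. -/
theorem result {G Ω : Type*} [Group G] [Finite G] [MulAction G Ω] [Finite Ω]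
    (hZ : Cfsg.IsZassenhausGroup G Ω) [IsSimpleGroup G] {a : Ω}
    (U : Subgroup G) (hUle : U ≤ MulAction.stabilizer G a)
    (hUn : ∀ h ∈ MulAction.stabilizer G a, ∀ u ∈ U, h * u * h⁻¹ ∈ U)
    (hreg : ∀ c d : Ω, c ≠ a → d ≠ a → ∃! u : U, (u : G) • c = d)
    (hU2 : IsPGroup 2 U) (hUab : ∀ u ∈ U, ∀ u' ∈ U, u * u' = u' * u)
    (v : G) (hv1 : v ≠ 1) (hv2 : v * v = 1) (hva : v • a ≠ a) :
    ∃! u₀ : G, u₀ ∈ U ∧ u₀ ≠ 1 ∧ v * u₀ * v = u₀ * v * u₀ := by
  classical
  haveI := Fintype.ofFinite Ω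
  haveI := hZ.1
  have hthree := hZ.2.2.1
  set b := v • a with hb
  have hvb : v • b = a := by rw [hb, ← mul_smul, hv2, one_smul]
  have hab : a ≠ b := fun e => hva e.symm
  -- fixed points of the regular subgroup
  have hFfix : ∀ u ∈ U, u ≠ 1 → ∀ c : Ω, u • c = c → c = a := by
    intro u hu hu1 c hc
    by_contra hcx
    obtain ⟨w, -, huniq⟩ := hreg c c hcx hcx
    exact hu1 (congrArg Subtype.val ((huniq ⟨u, hu⟩ hc).trans (huniq 1 (one_smul G c)).symm))
  have hua : ∀ u ∈ U, u • a = a := fun u hu => hUle hu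
  have hFcard : Nat.card U + 1 = Fintype.card Ω := by
    have e : U ≃ {c : Ω // c ≠ a} := Equiv.ofBijective
      (fun u => ⟨(u : G) • b, fun e => hab (MulAction.injective (u : G)
        ((hua u.1 u.2).trans e.symm))⟩)
      ⟨fun u w e => (hreg b _ hab.symm (fun e' => hab (MulAction.injective (w : G)
          ((hua w.1 w.2).trans e'.symm)))).unique (congrArg Subtype.val e) rfl,
        fun c => let ⟨u, hu, _⟩ := hreg b c.1 hab.symm c.2; ⟨u, Subtype.ext hu⟩⟩
    have := Fintype.card_pos_iff.mpr ⟨a⟩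
    rw [Nat.card_congr e, Nat.card_eq_fintype_card, Fintype.card_subtype_compl,
      Fintype.card_subtype_eq]
    omega
  have h3 := CfsgLib.Char.Zassenhaus.three_le_points hZ hab
  have h2U : 2 ∣ Nat.card U := by
    obtain ⟨k, hk⟩ := IsPGroup.iff_card.mp hU2
    rw [hk] at hFcard ⊢
    rcases Nat.eq_zero_or_pos k with rfl | hk0
    · simp at hFcard; omega
    · exact dvd_pow_self 2 hk0.ne'
  set D := MulAction.stabilizer G a ⊓ MulAction.stabilizer G b with hD
  set R := {c : Ω // c ≠ a ∧ c ≠ b}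
  have hR : Fintype.card R = Fintype.card Ω - 2 := by
    rw [Fintype.card_subtype, show (Finset.univ.filter fun c : Ω => c ≠ a ∧ c ≠ b) =
      Finset.univ \ {a, b} by ext c; simp, Finset.card_sdiff_of_subset (Finset.subset_univ _),
      Finset.card_pair hab, Finset.card_univ]
  letI : MulAction D R :=
    { smul := fun g c => ⟨(g : G) • c.1,
        fun e => c.2.1 (MulAction.injective (g : G) (e.trans g.2.1.symm)),
        fun e => c.2.2 (MulAction.injective (g : G) (e.trans g.2.2.symm))⟩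
      one_smul := fun c => Subtype.ext (one_smul G c.1)
      mul_smul := fun g k c => Subtype.ext (mul_smul (g : G) (k : G) c.1) }
  have hfree : ∀ c : R, MulAction.stabilizer D c = ⊥ := fun c => by
    rw [Subgroup.eq_bot_iff_forall]
    intro g hg
    exact Subtype.ext (hthree g a b c.1 hab c.2.2.symm c.2.1.symm g.2.1 g.2.2
      (congrArg Subtype.val hg))
  have hdvd : Nat.card D ∣ Fintype.card Ω - 2 := by
    rw [← hR, ← Nat.card_eq_fintype_card,
      Nat.card_congr (MulAction.selfEquivOrbitsQuotientProd hfree), Nat.card_prod]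
    exact dvd_mul_left _ _
  have hRodd : Odd (Fintype.card Ω - 2) := by
    obtain ⟨k, hk⟩ := h2U
    exact ⟨k - 1, by omega⟩
  have hDodd : Odd (Nat.card D) := hRodd.of_dvd_nat hdvd
  have hfull : Nat.card D = Fintype.card Ω - 2 := by
    refine le_antisymm (Nat.le_of_dvd (by omega) hdvd) ?_
    by_contra hlt
    have h := (Cfsg.Agent.S0731.simple_and_half (Nat.card G) le_rfl hZ hab U hUle hFcard hFfix
      hUab hDodd (show Nat.card D < Fintype.card Ω - 2 by omega)).2
    change 2 * Nat.card D = _ at h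
    obtain ⟨k, hk⟩ := hRodd
    omega
  have htrans : ∀ c e : R, ∃ d : D, d • c = e := by
    intro c e
    haveI := Fintype.ofFinite D
    have hinj : Function.Injective fun y : D => y • c := fun y z h => by
      have h1 : z⁻¹ * y ∈ MulAction.stabilizer D c := by
        rw [MulAction.mem_stabilizer_iff, mul_smul, inv_smul_eq_iff]
        exact h
      rw [hfree, Subgroup.mem_bot] at h1
      exact (inv_mul_eq_one.mp h1).symm
    exact ((Fintype.bijective_iff_injective_and_card _).mpr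
      ⟨hinj, by rw [hR, ← hfull, Nat.card_eq_fintype_card]⟩).2 e
  have huniq : ∀ u ∈ U, ∀ w ∈ U, u • b = w • b → u = w := fun u hu w hw e =>
    congrArg Subtype.val ((hreg b (w • b) hab.symm (fun e' => hab (MulAction.injective w
      ((hua w hw).trans e'.symm)))).unique (y₁ := ⟨u, hu⟩) (y₂ := ⟨w, hw⟩) e rfl)
  -- `U` has exponent two
  have hsq : ∀ u ∈ U, u * u = 1 := by
    obtain ⟨t, ht⟩ := exists_prime_orderOf_dvd_card' (G := U) 2 h2U
    have ht1 : (t : G) ≠ 1 := by
      intro h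
      rw [show t = 1 from Subtype.ext h, orderOf_one] at ht
      omega
    intro u hu
    rcases eq_or_ne u 1 with rfl | hu1
    · exact mul_one 1
    have hne : ∀ w ∈ U, w ≠ 1 → w • b ≠ a ∧ w • b ≠ b := fun w hw hw1 =>
      ⟨fun e => hab (MulAction.injective w ((hua w hw).trans e.symm)),
        fun e => hab (hFfix w hw hw1 b e).symm⟩
    obtain ⟨d, hd⟩ := htrans ⟨(t : G) • b, hne t t.2 ht1⟩ ⟨u • b, hne u hu hu1⟩
    have hd' : (d : G) • ((t : G) • b) = u • b := congrArg Subtype.val hd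
    have hdinv : (d : G)⁻¹ • b = b := inv_smul_eq_iff.mpr d.2.2.symm
    have e : (d : G) * t * (d : G)⁻¹ = u := huniq _ (hUn _ d.2.1 _ t.2) _ hu
      (by rw [mul_smul, mul_smul, hdinv, hd'])
    have htt : (t : G) * t = 1 := by
      have := congrArg Subtype.val (pow_orderOf_eq_one t)
      rw [ht] at this
      simpa [pow_two] using this
    rw [← e, show (d : G) * t * (d : G)⁻¹ * ((d : G) * t * (d : G)⁻¹) =
      (d : G) * (t * t) * (d : G)⁻¹ by group, htt, mul_one, mul_inv_cancel]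
  -- involutions fixing `a` lie in `U`
  have hinvU : ∀ w : G, w • a = a → w * w = 1 → w ∈ U := by
    intro w hwa hww
    have hwb : w • b ≠ a := fun e => hab (MulAction.injective w (hwa.trans e.symm))
    obtain ⟨u, hu, -⟩ := hreg b (w • b) hab.symm hwb
    have hd : (u : G)⁻¹ * w ∈ D :=
      ⟨by show ((u : G)⁻¹ * w) • a = a
          rw [mul_smul, hwa, inv_smul_eq_iff, hua _ u.2],
        by show ((u : G)⁻¹ * w) • b = b
           rw [mul_smul, ← hu, inv_smul_smul]⟩
    set d := (u : G)⁻¹ * w with hdd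
    have hw' : w = u * d := by rw [hdd, mul_inv_cancel_left]
    have h1 : d * d = (d * u * d⁻¹)⁻¹ * (u : G)⁻¹ := by
      rw [hw'] at hww
      calc d * d = (d * u * d⁻¹)⁻¹ * (u : G)⁻¹ * (u * d * (u * d)) := by group
        _ = (d * u * d⁻¹)⁻¹ * (u : G)⁻¹ := by rw [hww, mul_one]
    have h2 : d * d ∈ U := by
      rw [h1]
      exact U.mul_mem (U.inv_mem (hUn d hd.1 _ u.2)) (U.inv_mem u.2)
    have h3 : d * d = 1 := huniq _ h2 1 U.one_mem (by rw [mul_smul, hd.2, hd.2, one_smul])
    have h4 : d = 1 := by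
      by_contra hd1
      have h5 := Subgroup.orderOf_dvd_natCard _ hd
      rw [orderOf_eq_prime (p := 2) (by rw [pow_two, h3]) hd1] at h5
      exact (Nat.not_even_iff_odd.mpr hDodd) (even_iff_two_dvd.mpr h5)
    rw [hw', h4, mul_one]
    exact u.2
  -- the fixed point of `v`
  obtain ⟨c, hc⟩ : ∃ c : Ω, v • c = c := by
    have hodd : ¬ 2 ∣ Fintype.card Ω := by
      obtain ⟨k, hk⟩ := h2U
      omega
    obtain ⟨c, hc⟩ := Equiv.Perm.exists_fixed_point_of_prime (p := 2) (n := 1) hodd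
      (σ := MulAction.toPerm v) (by
        rw [show (2 : ℕ) ^ 1 = 2 by norm_num, pow_two]
        ext x
        simp [← mul_smul, hv2])
    exact ⟨c, hc⟩
  have hca : c ≠ a := fun e => hab (by rw [e] at hc; rw [hb, hc])
  have hcb : c ≠ b := fun e => hab (hvb.symm.trans (by rw [e] at hc; exact hc))
  have hvo : orderOf v = 2 := orderOf_eq_prime (by rw [pow_two, hv2]) hv1
  obtain ⟨⟨u₀, hu₀⟩, hu₀b, -⟩ := hreg b c hab.symm hca
  change u₀ • b = c at hu₀b
  have hu₀1 : u₀ ≠ 1 := fun e => hcb (by rw [← hu₀b, e, one_smul])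
  have h00 := hsq u₀ hu₀
  have hu₀c : u₀ • c = b := by rw [← hu₀b, ← mul_smul, h00, one_smul]
  refine ⟨u₀, ⟨hu₀, hu₀1, ?_⟩, ?_⟩
  · have hy : v * (u₀ * v * u₀) * v ∈ U := by
      refine hinvU _ ?_ ?_
      · show (v * (u₀ * v * u₀) * v) • a = a
        rw [mul_smul, mul_smul, ← hb, mul_smul, mul_smul, hu₀b, hc, hu₀c, hvb]
      · calc v * (u₀ * v * u₀) * v * (v * (u₀ * v * u₀) * v)
            = v * (u₀ * v * u₀) * (v * v) * (u₀ * v * u₀) * v := by group
          _ = v * u₀ * v * (u₀ * u₀) * v * u₀ * v := by rw [hv2, mul_one]; group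
          _ = v * u₀ * (v * v) * u₀ * v := by rw [h00, mul_one]; group
          _ = v * (u₀ * u₀) * v := by rw [hv2, mul_one]; group
          _ = 1 := by rw [h00, mul_one, hv2]
    have e : v * (u₀ * v * u₀) * v = u₀ := huniq _ hy _ hu₀ (by
      rw [mul_smul, hvb, mul_smul, mul_smul, mul_smul, hua u₀ hu₀, ← hb, hu₀b, hc])
    calc v * u₀ * v = v * (v * (u₀ * v * u₀) * v) * v := by rw [e]
      _ = (v * v) * (u₀ * v * u₀) * (v * v) := by group
      _ = u₀ * v * u₀ := by rw [hv2, one_mul, mul_one]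
  · rintro u ⟨hu, -, he⟩
    have h1 : v • (u • b) = u • b := by
      have := congrArg (fun g : G => g • a) he
      simpa [mul_smul, hua u hu, ← hb] using this
    exact huniq u hu u₀ hu₀ ((CfsgLib.Char.Zassenhaus.fix_unique_of_involution hZ hDodd hab hvo
      h1 hc).trans hu₀b.symm)

end Cfsg.Agent.S1167
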