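import Cfsg.Statements.S1172
import Cfsg.Agent.Lib.Goldschmidt.Product

set_option autoImplicit false
set_option linter.style.haveILetI false
open Cfsg CfsgLib CfsgLib.Goldschmidt Subgroup

namespace Cfsg.Agent.S1172

/-- Let G be a finite group with no nontrivial normal subgroup of odd order and no proper normal subgroup of odd index, whose Sylow 2-subgroup S is not commutative and is the internal direct product of two subgroups each isomorphic to a dihedral group of order at least 4 and each strongly closed in S with respect to G (product fusion). Then G is the internal direct product of two normal subgroups G₁, G₂, and S is the internal direct product of dihedral subgroups R₁ ≤ G₁ and R₂ ≤ G₂ of odd index in G₁ and G₂ respectively (so R_i is a Sylow 2-subgroup of G_i). -/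
theorem result {G : Type*} [Group G] [Finite G] (hO : Cfsg.oddCore G = ⊥) (hO' : ∀ N : Subgroup G, N.Normal → Odd N.index → N = ⊤) (S : Sylow 2 G) (hS : ¬ IsMulCommutative (S : Subgroup G)) (S₁ S₂ : Subgroup G) (hprod : Cfsg.IsInternalDirectProduct S₁ S₂ (S : Subgroup G)) (m₁ m₂ : ℕ) (hm₁ : 2 ≤ m₁) (hm₂ : 2 ≤ m₂) (e₁ : S₁ ≃* DihedralGroup m₁) (e₂ : S₂ ≃* DihedralGroup m₂) (hcl₁ : Cfsg.IsStronglyClosed S₁ (S : Subgroup G)) (hcl₂ : Cfsg.IsStronglyClosed S₂ (S : Subgroup G)) : ∃ G₁ G₂ : Subgroup G, G₁.Normal ∧ G₂.Normal ∧ Cfsg.IsInternalDirectProduct G₁ G₂ ⊤ ∧ ∃ R₁ R₂ : Subgroup G, Cfsg.IsInternalDirectProduct R₁ R₂ (S : Subgroup G) ∧ (∃ n₁, 2 ≤ n₁ ∧ Nonempty (R₁ ≃* DihedralGroup n₁)) ∧ (∃ n₂, 2 ≤ n₂ ∧ Nonempty (R₂ ≃* DihedralGroup n₂)) ∧ R₁ ≤ G₁ ∧ R₂ ≤ G₂ ∧ Odd (R₁.relIndex G₁) ∧ Odd (R₂.relIndex G₂) := by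
  set N₁ := normalClosure (S₁ : Set G) with hN₁
  set N₂ := normalClosure (S₂ : Set G) with hN₂
  haveI : Fact (Nat.Prime 2) := ⟨Nat.prime_two⟩
  have hpair : SCPair S S₁ S₂ := ⟨hcl₁, hcl₂, hprod.2.2.1, hprod.2.2.2.1⟩
  have hc := normalClosure_le_centralizer hO hpair
  have hcomm : ∀ a ∈ N₁, ∀ b ∈ N₂, a * b = b * a := fun a ha b hb =>
    (mem_centralizer_iff.1 (hc ha) b hb).symm
  have hS1 : S₁ ≤ N₁ := fun s hs => subset_normalClosure hs
  have hS2 : S₂ ≤ N₂ := fun s hs => subset_normalClosure hs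
  have htop : N₁ ⊔ N₂ = ⊤ := by
    refine hO' _ inferInstance ?_
    have h1 : (S : Subgroup G) ≤ N₁ ⊔ N₂ := hprod.2.2.2.2 ▸ sup_le_sup hS1 hS2
    have h2 : ¬ 2 ∣ (N₁ ⊔ N₂).index := fun h => S.not_dvd_index (h.trans (index_dvd_of_le h1))
    rwa [← even_iff_two_dvd, Nat.not_even_iff_odd] at h2
  set Z := N₁ ⊓ N₂ with hZ
  have hZc : Z ≤ center G := by
    intro z hz
    refine mem_center_iff.2 fun g => mem_centralizer_singleton_iff.1
      (?_ : g ∈ centralizer ({z} : Set G))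
    refine (?_ : N₁ ⊔ N₂ ≤ centralizer ({z} : Set G)) (htop ▸ mem_top g)
    exact sup_le (fun a ha => mem_centralizer_singleton_iff.2 (hcomm a ha z hz.2))
      (fun b hb => mem_centralizer_singleton_iff.2 (hcomm z hz.1 b hb).symm)
  have hB2 : N₂ ⊓ S₁ = ⊥ :=
    normalClosure_inf_eq_bot S hprod hcl₂ fun b hb => hZc ⟨hS1 hb.2, hb.1⟩
  have hprod' : IsInternalDirectProduct S₂ S₁ (S : Subgroup G) :=
    ⟨hprod.2.1, hprod.1, fun a ha b hb => (hprod.2.2.1 b hb a ha).symm,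
      inf_comm S₁ S₂ ▸ hprod.2.2.2.1, sup_comm S₁ S₂ ▸ hprod.2.2.2.2⟩
  have hB1 : N₁ ⊓ S₂ = ⊥ :=
    normalClosure_inf_eq_bot S hprod' hcl₁ fun b hb => hZc ⟨hb.1, hS2 hb.2⟩
  have hZbot : Z = ⊥ := by
    haveI : Z.Normal := ⟨fun z hz g => by
      rw [mem_center_iff.1 (hZc hz) g, mul_inv_cancel_right]
      exact hz⟩
    by_contra hne
    have hcard : ¬ Odd (Nat.card Z) := fun h => hne (oddCore_normal_le_bot hO h)
    rw [Nat.not_odd_iff_even, even_iff_two_dvd] at hcard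
    obtain ⟨z, hz⟩ := exists_prime_orderOf_dvd_card' (G := ↥Z) 2 hcard
    rw [← orderOf_coe] at hz
    haveI : (zpowers (z : G)).Normal := ⟨fun n hn g => by
      obtain ⟨i, rfl⟩ := mem_zpowers_iff.1 hn
      rw [mem_center_iff.1 (zpow_mem (hZc z.2) i) g, mul_inv_cancel_right]
      exact zpow_mem (mem_zpowers _) i⟩
    have hzS : (z : G) ∈ (S : Subgroup G) :=
      (Cores.le_pCore (IsPGroup.of_card (n := 1) (by rw [Nat.card_zpowers, hz, pow_one]))).trans
        (Cores.pCore_le_sylow S) (mem_zpowers _)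
    obtain ⟨a, ha, b, hb, e⟩ := mem_sylow_sup hprod hzS
    have ha1 : a ∈ (⊥ : Subgroup G) := by
      rw [← hB2]
      refine ⟨?_, ha⟩
      have := N₂.mul_mem (show (z : G) ∈ N₂ from z.2.2) (N₂.inv_mem (hS2 hb))
      rwa [e, mul_inv_cancel_right] at this
    have hb1 : b ∈ (⊥ : Subgroup G) := by
      rw [← hB1]
      refine ⟨?_, hb⟩
      have := N₁.mul_mem (N₁.inv_mem (hS1 ha)) (show (z : G) ∈ N₁ from z.2.1)
      rwa [e, inv_mul_cancel_left] at this
    rw [e, mem_bot.1 ha1, mem_bot.1 hb1, mul_one, orderOf_one] at hz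
    omega
  have hodd : ∀ {A B N : Subgroup G} [N.Normal], IsInternalDirectProduct A B (S : Subgroup G) →
      A ≤ N → N ⊓ B = ⊥ → Odd (A.relIndex N) := by
    intro A B N _ hp hAN hNB
    have h1 : (S : Subgroup G) ⊓ N = A := by
      refine le_antisymm (fun x hx => ?_) (le_inf hp.1 hAN)
      obtain ⟨a, ha, b, hb, e⟩ := mem_sylow_sup hp hx.1
      have hb1 : b ∈ N ⊓ B := ⟨by
        have := N.mul_mem (N.inv_mem (hAN ha)) hx.2
        rwa [e, inv_mul_cancel_left] at this, hb⟩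
      rw [hNB, mem_bot] at hb1
      rwa [e, hb1, mul_one]
    have h2 := Fusion.CentralLift.not_dvd_relIndex_inf (p := 2) (A := N) S.not_dvd_index
    rwa [h1, ← even_iff_two_dvd, Nat.not_even_iff_odd] at h2
  exact ⟨N₁, N₂, inferInstance, inferInstance, ⟨le_top, le_top, hcomm, hZbot, htop⟩, S₁, S₂, hprod,
    ⟨m₁, hm₁, ⟨e₁⟩⟩, ⟨m₂, hm₂, ⟨e₂⟩⟩, hS1, hS2, hodd hprod hS1 hB1, hodd hprod' hS2 hB2⟩

end Cfsg.Agent.S1172
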