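import Cfsg.Statements.S1176
import Cfsg.Agent.Lib.Invol.Dihedral
import Cfsg.Agent.Lib.Invol.Sylow

set_option autoImplicit false
open Cfsg

namespace Cfsg.Agent.S1176

open scoped commutatorElement

/-- Let x₀ be an involution of the finite group G and D its conjugacy class. Assume (a) for each x ∈ D the subgroup W(x) generated by the members of D commuting with x is a 2-group of nilpotency class at most 2, and (b) the product of two distinct commuting members of D again lies in D. Then for all x, y ∈ D, if xy has even order greater than 2, its order is 4. -/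
theorem result {G : Type*} [Group G] [Finite G] (x₀ : G) (hx₀ : orderOf x₀ = 2) (ha : ∀ x : G, IsConj x₀ x → IsPGroup 2 ↥(Subgroup.closure {y : G | IsConj x₀ y ∧ Commute y x}) ∧ ⁅⁅Subgroup.closure {y : G | IsConj x₀ y ∧ Commute y x}, Subgroup.closure {y : G | IsConj x₀ y ∧ Commute y x}⁆, Subgroup.closure {y : G | IsConj x₀ y ∧ Commute y x}⁆ = ⊥) (hb : ∀ x y : G, IsConj x₀ x → IsConj x₀ y → x ≠ y → Commute x y → IsConj x₀ (x * y)) (x y : G) (hx : IsConj x₀ x) (hy : IsConj x₀ y) (heven : Even (orderOf (x * y))) (hgt : 2 < orderOf (x * y)) : orderOf (x * y) = 4 := by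
  classical
  have hord : ∀ a : G, IsConj x₀ a → orderOf a = 2 := fun a ha =>
    (CfsgLib.Invol.orderOf_eq_of_isConj ha).symm.trans hx₀
  have hx2 := hord x hx
  have hy2 := hord y hy
  have hxy : x ≠ y := CfsgLib.Invol.ne_of_even heven hx2
  obtain ⟨-, hc, hne⟩ := CfsgLib.Invol.mul_half_facts hx2 hy2 hxy heven
  have hxz : IsConj x₀ (x * (x * y) ^ (orderOf (x * y) / 2)) := by
    by_cases h4 : 4 ∣ orderOf (x * y)
    · obtain ⟨d, -, hd⟩ := CfsgLib.Invol.conj_half_of_four_dvd hx2 hy2 h4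
      rw [← hd]; exact hx.trans (isConj_iff.mpr ⟨d, rfl⟩)
    · obtain ⟨d, -, hd⟩ := CfsgLib.Invol.conj_half_of_not_four_dvd hx2 hy2 heven h4
      rw [← hd]; exact hy.trans (isConj_iff.mpr ⟨d, rfl⟩)
  have hzD := hb x _ hx hxz (Ne.symm hne) hc
  rw [CfsgLib.Invol.mul_mul_cancel_of_orderOf_two hx2] at hzD
  have hzx := CfsgLib.Invol.commute_half_left hx2 hy2 heven
  have hzy := CfsgLib.Invol.commute_half_right hx2 hy2 heven
  obtain ⟨hW, hW2⟩ := ha _ hzD
  generalize hWdef : Subgroup.closure {w : G | IsConj x₀ w ∧ Commute w ((x * y) ^ (orderOf (x * y) / 2))} = W at hW hW2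
  have hxW : x ∈ W := hWdef ▸ Subgroup.subset_closure ⟨hx, hzx.symm⟩
  have hyW : y ∈ W := hWdef ▸ Subgroup.subset_closure ⟨hy, hzy.symm⟩
  have hrW : x * y ∈ W := mul_mem hxW hyW
  obtain ⟨k, hk⟩ := CfsgLib.Invol.exists_orderOf_eq_two_pow hW hrW
  have hcomm : ⁅⁅x, y⁆, x⁆ = 1 := by
    rw [← Subgroup.mem_bot, ← hW2]
    exact Subgroup.commutator_mem_commutator (Subgroup.commutator_mem_commutator hxW hyW) hxW
  have h4 : (x * y) ^ (4 : ℤ) = 1 := by
    have e1 : ⁅x, y⁆ = (x * y) ^ (2 : ℤ) := by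
      rw [commutatorElement_def, CfsgLib.Invol.inv_eq_of_orderOf_two hx2,
        CfsgLib.Invol.inv_eq_of_orderOf_two hy2, zpow_two]
      group
    rw [commutatorElement_eq_one_iff_mul_comm, e1, CfsgLib.Invol.mul_zpow_comm hx2 hy2,
      mul_right_inj, zpow_eq_zpow_iff_modEq, Int.modEq_iff_dvd] at hcomm
    rw [← orderOf_dvd_iff_zpow_eq_one]
    norm_num at hcomm
    exact hcomm
  rw [← orderOf_dvd_iff_zpow_eq_one] at h4
  have h4' : orderOf (x * y) ∣ 4 := by exact_mod_cast h4
  have := Nat.le_of_dvd (by norm_num) h4'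
  interval_cases hn : orderOf (x * y) <;> norm_num at h4' <;> omega

end Cfsg.Agent.S1176
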