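import Cfsg.Statements.S1177
import Cfsg.Agent.Lib.Invol.Sylow

set_option autoImplicit false
open Cfsg

namespace Cfsg.Agent.S1177

/-- Let A be a nontrivial elementary abelian 2-subgroup of a finite group G which is a T.I. set (each conjugate of A meets A trivially or equals A) and which does not commute elementwise with any conjugate of A other than A itself. Then for every a ∈ A, a ≠ 1, every conjugate of A contained in C_G(a) is equal to A (A is weakly closed in C_G(a)). -/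
theorem result {G : Type*} [Group G] [Finite G] (A : Subgroup G) (hA : Cfsg.IsElementaryAbelian 2 A) (hA1 : A ≠ ⊥) (hTI : ∀ g : G, A.map (MulAut.conj g).toMonoidHom ⊓ A = ⊥ ∨ A.map (MulAut.conj g).toMonoidHom = A) (hb : ∀ g : G, (∀ a ∈ A, ∀ b ∈ A.map (MulAut.conj g).toMonoidHom, a * b = b * a) → A.map (MulAut.conj g).toMonoidHom = A) (a : G) (ha : a ∈ A) (ha1 : a ≠ 1) (g : G) (hg : A.map (MulAut.conj g).toMonoidHom ≤ Subgroup.centralizer ({a} : Set G)) : A.map (MulAut.conj g).toMonoidHom = A := by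
  haveI hAc := hA.1
  set B := A.map (MulAut.conj g).toMonoidHom with hB
  have memB : ∀ {h x : G}, x ∈ A.map (MulAut.conj h).toMonoidHom ↔ h⁻¹ * x * h ∈ A := fun {h x} =>
    CfsgLib.Invol.mem_map_conj
  have key : ∀ h : G,
      (∀ u ∈ A, ∀ v ∈ A.map (MulAut.conj h).toMonoidHom, v * u * v⁻¹ ∈ A) →
      (∀ u ∈ A, ∀ v ∈ A.map (MulAut.conj h).toMonoidHom, u * v * u⁻¹ ∈ A.map (MulAut.conj h).toMonoidHom) →
      A.map (MulAut.conj h).toMonoidHom = A := by
    intro h h1 h2
    rcases hTI h with hbot | heq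
    · refine hb h fun u hu v hv => ?_
      have : u * v * u⁻¹ * v⁻¹ ∈ A.map (MulAut.conj h).toMonoidHom ⊓ A := by
        refine ⟨Subgroup.mul_mem _ (h2 u hu v hv) (Subgroup.inv_mem _ hv), ?_⟩
        rw [show u * v * u⁻¹ * v⁻¹ = u * (v * u⁻¹ * v⁻¹) by group]
        exact mul_mem hu (h1 _ (inv_mem hu) v hv)
      rw [hbot, Subgroup.mem_bot, mul_inv_eq_one, mul_inv_eq_iff_eq_mul] at this
      exact this
    · exact heq
  have hBA : ∀ u ∈ A, ∀ v ∈ B, v * u * v⁻¹ ∈ A := by
    intro u hu v hv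
    have hva : v * a * v⁻¹ = a := by
      rw [mul_inv_eq_iff_eq_mul]; exact Subgroup.mem_centralizer_singleton_iff.mp (hg hv)
    have hA' : A.map (MulAut.conj v).toMonoidHom = A := by
      rcases hTI v with hbot | heq
      · exact absurd ((Subgroup.eq_bot_iff_forall _).mp hbot a ⟨⟨a, ha, hva⟩, ha⟩) ha1
      · exact heq
    exact hA' ▸ Subgroup.mem_map_of_mem _ hu
  refine key g hBA fun u hu v hv => ?_
  -- `A` normalizes `B`
  by_contra hcon
  have hpA : IsPGroup 2 A := fun x => ⟨1, Subtype.ext (by simpa using hA.2 x x.2)⟩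
  have hNA : B ≤ Subgroup.normalizer (A : Set G) := fun v hv => Subgroup.mem_normalizer_iff.mpr fun x =>
    ⟨fun hx => hBA x hx v hv, fun hx => by simpa [mul_assoc] using hBA _ hx v⁻¹ (inv_mem hv)⟩
  have hT : IsPGroup 2 (A ⊔ B : Subgroup G) := hpA.to_sup_of_normal_left' (hpA.map _) hNA
  set T := A ⊔ B with hTdef
  set N := (Subgroup.normalizer (B : Set G)).subgroupOf T with hN
  haveI := hT.isNilpotent
  have hNlt : N < ⊤ := lt_top_iff_ne_top.mpr fun h => hcon (by
    have : (⟨u, Subgroup.mem_sup_left hu⟩ : T) ∈ N := h ▸ Subgroup.mem_top _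
    exact (Subgroup.mem_normalizer_iff.mp this v).mp hv)
  obtain ⟨w, hwN, hw⟩ := SetLike.exists_of_lt (Group.normalizerCondition_of_isNilpotent N hNlt)
  have hmem : ∀ x : T, (x : G) ∈ B → w * x * w⁻¹ ∈ N ∧ w⁻¹ * x * w ∈ N := by
    intro x hx
    have hxN : x ∈ N := Subgroup.le_normalizer hx
    exact ⟨(Subgroup.mem_normalizer_iff.mp hwN x).mp hxN, by
      simpa using (Subgroup.mem_normalizer_iff.mp (inv_mem hwN) x).mp hxN⟩
  apply hw
  rw [hN, Subgroup.mem_subgroupOf]
  set h := g⁻¹ * (w : G) * g with hh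
  have hgx : ∀ x ∈ A, g * x * g⁻¹ ∈ B := fun x hx => memB.mpr (by simpa [mul_assoc] using hx)
  have e : A.map (MulAut.conj h).toMonoidHom = A := by
    refine key h (fun x hx y hy => ?_) (fun x hx y hy => ?_)
    · rw [memB] at hy
      have hy' := (hmem ⟨g * (h⁻¹ * y * h) * g⁻¹, Subgroup.mem_sup_right (hgx _ hy)⟩ (hgx _ hy)).1
      have h3 := memB.mp ((Subgroup.mem_normalizer_iff.mp hy' _).mp (hgx x hx))
      simp only [hh, Subgroup.coe_subtype, Subgroup.coe_mul, Subgroup.coe_inv] at h3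
      convert h3 using 1
      all_goals (try rw [show h = g⁻¹ * (w : G) * g from rfl])
      all_goals group
    · rw [memB] at hy ⊢
      have hy' := (hmem ⟨g * x * g⁻¹, Subgroup.mem_sup_right (hgx x hx)⟩ (hgx x hx)).2
      have h3 := memB.mp ((Subgroup.mem_normalizer_iff.mp hy' _).mp (hgx _ hy))
      simp only [hh, Subgroup.coe_subtype, Subgroup.coe_mul, Subgroup.coe_inv] at h3
      convert h3 using 1
      all_goals (try rw [show h = g⁻¹ * (w : G) * g from rfl])
      all_goals group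
  refine Subgroup.mem_normalizer_iff.mpr fun x => ?_
  rw [show (x ∈ B ↔ (w : G) * x * (w : G)⁻¹ ∈ B) ↔ (g⁻¹ * x * g ∈ A ↔ h * (g⁻¹ * x * g) * h⁻¹ ∈ A) by
    rw [memB, memB, show h * (g⁻¹ * x * g) * h⁻¹ = g⁻¹ * ((w : G) * x * (w : G)⁻¹) * g by rw [hh]; group]]
  exact Subgroup.mem_normalizer_iff.mp (CfsgLib.Invol.mem_normalizer_iff_map_conj.mpr e) _

end Cfsg.Agent.S1177
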