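import Cfsg.Statements.S1178
import Cfsg.Agent.Lib.Invol.Sylow

set_option autoImplicit false
open Cfsg

namespace Cfsg.Agent.S1178

/-- Let A be a subgroup of a Sylow 2-subgroup S of the finite group G which is weakly closed in S. If a conjugate g A g⁻¹ commutes elementwise with A, then g A g⁻¹ = A. -/
theorem result {G : Type*} [Group G] [Finite G] (S : Sylow 2 G) (A : Subgroup G) (hW : Cfsg.IsWeaklyClosed A (S : Subgroup G)) (g : G) (hc : ∀ a ∈ A, ∀ b ∈ A.map (MulAut.conj g).toMonoidHom, a * b = b * a) : A.map (MulAut.conj g).toMonoidHom = A := by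
  set B := A.map (MulAut.conj g).toMonoidHom with hB
  have hA : IsPGroup 2 A := S.isPGroup'.to_le hW.1
  have hBp : IsPGroup 2 B := hA.map _
  have hn : A ≤ Subgroup.normalizer (B : Set G) := by
    refine le_trans ?_ (Subgroup.centralizer_le_normalizer _)
    intro a ha
    exact Subgroup.mem_centralizer_iff.mpr (fun b hb => (hc a ha b hb).symm)
  have hsup : IsPGroup 2 (A ⊔ B : Subgroup G) := hA.to_sup_of_normal_right' hBp hn
  obtain ⟨Q, hQ⟩ := hsup.exists_le_sylow
  obtain ⟨h, hh⟩ := CfsgLib.Invol.sylow_exists_conj S Q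
  have k : ∀ a : G, A.map (MulAut.conj a).toMonoidHom ≤ (Q : Subgroup G) →
      A.map (MulAut.conj (h⁻¹ * a)).toMonoidHom = A := by
    intro a ha
    apply hW.2
    intro x hx
    rw [CfsgLib.Invol.mem_map_conj] at hx
    have := (hh (h * x * h⁻¹)).mp (ha (CfsgLib.Invol.mem_map_conj.mpr (by
      rw [show a⁻¹ * (h * x * h⁻¹) * a = (h⁻¹ * a)⁻¹ * x * (h⁻¹ * a) by group]; exact hx)))
    rwa [show h⁻¹ * (h * x * h⁻¹) * h = x by group] at this
  have k1 := k 1 (by rw [CfsgLib.Invol.map_conj_one]; exact le_sup_left.trans hQ)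
  have k2 := k g (le_sup_right.trans hQ)
  have k3 := congrArg (fun H : Subgroup G => H.map (MulAut.conj h).toMonoidHom) (k2.trans k1.symm)
  simp only [CfsgLib.Invol.map_conj_map_conj] at k3
  rw [show h * (h⁻¹ * g) = g by group, show h * (h⁻¹ * 1) = 1 by group,
    CfsgLib.Invol.map_conj_one] at k3
  exact k3

end Cfsg.Agent.S1178
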