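import Cfsg.Statements.S1181
import Cfsg.Agent.Lib.Invol.Isolated

set_option autoImplicit false
open Cfsg

namespace Cfsg.Agent.S1181

/-- Let z be an isolated involution of the finite group G and N a normal subgroup with z ∉ N. Then the centralizer of zN in G/N is the image of C_G(z), and zN is an isolated involution of G/N. -/
theorem result {G : Type*} [Group G] [Finite G] (z : G) (hz : Cfsg.IsIsolatedInvolution z) (N : Subgroup G) [N.Normal] (hzN : z ∉ N) : Subgroup.centralizer ({(QuotientGroup.mk z : G ⧸ N)} : Set (G ⧸ N)) = (Subgroup.centralizer ({z} : Set G)).map (QuotientGroup.mk' N) ∧ Cfsg.IsIsolatedInvolution (QuotientGroup.mk z : G ⧸ N) := by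
  set π := QuotientGroup.mk' N with hπ
  have hπz : (QuotientGroup.mk z : G ⧸ N) = π z := rfl
  rw [hπz]
  have hlift : ∀ g : G, Commute (π z) (π g) → ∃ c, Commute c z ∧ π c = π g := by
    intro g hg
    have h1 : z * (g * z * g⁻¹) ∈ N := by
      rw [← QuotientGroup.eq_one_iff, ← QuotientGroup.mk'_apply, map_mul, map_mul, map_mul, map_inv,
        ← hg.eq, mul_inv_cancel_right, ← map_mul, CfsgLib.Invol.mul_self_of_orderOf_two hz.1, map_one]
    obtain ⟨d, hd, hdz⟩ := CfsgLib.Invol.exists_conj_of_odd hz.1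
      ((CfsgLib.Invol.orderOf_conj_eq g z).trans hz.1) (CfsgLib.Invol.isolated_odd_mul_conj hz g)
    have hdN : d ∈ N := Subgroup.zpowers_le.mpr h1 hd
    refine ⟨d⁻¹ * g, ?_, ?_⟩
    · show d⁻¹ * g * z = z * (d⁻¹ * g)
      rw [show d⁻¹ * g * z = d⁻¹ * (g * z * g⁻¹) * g by group, ← hdz]
      group
    · rw [map_mul, map_inv, QuotientGroup.mk'_apply, (QuotientGroup.eq_one_iff d).mpr hdN, inv_one, one_mul]
  refine ⟨?_, ?_, ?_⟩
  · ext q
    induction q using QuotientGroup.induction_on with
    | H g =>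
      constructor
      · intro hq
        obtain ⟨c, hc, hcg⟩ := hlift g (Subgroup.mem_centralizer_singleton_iff.mp hq).symm
        exact ⟨c, Subgroup.mem_centralizer_singleton_iff.mpr hc.eq, hcg⟩
      · rintro ⟨c, hc, hcg⟩
        rw [← hcg, Subgroup.mem_centralizer_singleton_iff, ← map_mul, ← map_mul,
          Subgroup.mem_centralizer_singleton_iff.mp hc]
  · rw [CfsgLib.Invol.orderOf_eq_two_iff']
    exact ⟨fun h => hzN ((QuotientGroup.eq_one_iff z).mp h), by
      rw [← map_mul, CfsgLib.Invol.mul_self_of_orderOf_two hz.1, map_one]⟩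
  · intro q
    induction q using QuotientGroup.induction_on with
    | H g =>
      intro hc
      rw [← QuotientGroup.mk'_apply, ← hπ, ← map_mul, ← map_inv, ← map_mul] at hc ⊢
      have hodd : Odd (orderOf (π (z * (g * z * g⁻¹)))) :=
        (CfsgLib.Invol.isolated_odd_mul_conj hz g).of_dvd_nat (orderOf_map_dvd π _)
      have hsq : π (z * (g * z * g⁻¹)) ^ 2 = 1 := by
        rw [map_mul, hc.mul_pow, ← map_pow, ← map_pow, ← map_mul,
          show z ^ 2 * (g * z * g⁻¹) ^ 2 = (z * z) * (g * (z * z) * g⁻¹) by rw [sq, sq]; group,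
          CfsgLib.Invol.mul_self_of_orderOf_two hz.1]
        simp
      have hd := orderOf_dvd_of_pow_eq_one hsq
      rcases (Nat.dvd_prime Nat.prime_two).mp hd with h1 | h1
      · rw [orderOf_eq_one_iff, map_mul] at h1
        rw [eq_inv_of_mul_eq_one_right h1, ← map_inv, CfsgLib.Invol.inv_eq_of_orderOf_two hz.1]
      · rw [h1] at hodd
        exact absurd hodd (by decide)

end Cfsg.Agent.S1181
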