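import Cfsg.Statements.S1183
import Cfsg.Agent.Lib.Invol.ZStarFinal
import Cfsg.Agent.Lib.Invol.Isolated
import Cfsg.Agent.Lib.Transfer.Basic

set_option autoImplicit false
open Cfsg

namespace Cfsg.Agent.S1183

open CfsgLib.Invol

theorem residual_iff {G : Type*} [Group G] [Finite G] (z : G) (hz : Cfsg.IsIsolatedInvolution z) :
    Cfsg.pResidual 2 G = ⊤ ↔ Cfsg.pResidual 2 ↥(Subgroup.centralizer ({z} : Set G)) = ⊤ := by
  haveI : Fact (Nat.Prime 2) := ⟨Nat.prime_two⟩
  haveI := CfsgLib.Cores.pPrimeCore_characteristic (G := G) 2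
  haveI : (Cfsg.oddCore G).Normal := Subgroup.normal_of_characteristic (Cfsg.pPrimeCore 2 G)
  set C := Subgroup.centralizer ({z} : Set G) with hC
  set π := QuotientGroup.mk' (Cfsg.oddCore G) with hπ
  set φ : C →* G ⧸ Cfsg.oddCore G := π.comp C.subtype with hφdef
  -- `G = O(G) C`
  have hsurj : Function.Surjective φ := by
    intro q
    obtain ⟨g, rfl⟩ := QuotientGroup.mk'_surjective (Cfsg.oddCore G) q
    have hmem : z * (g * z * g⁻¹) ∈ Cfsg.oddCore G := by
      have := zstar hz g
      rwa [show z * g * z⁻¹ * g⁻¹ = z * (g * z⁻¹ * g⁻¹) by group, inv_eq_of_orderOf_two hz.1] at this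
    obtain ⟨d, hd, hdz⟩ := exists_conj_of_odd hz.1 ((orderOf_conj_eq g z).trans hz.1) (isolated_odd_mul_conj hz g)
    refine ⟨⟨d⁻¹ * g, Subgroup.mem_centralizer_singleton_iff.mpr ?_⟩, ?_⟩
    · calc d⁻¹ * g * z = d⁻¹ * (g * z * g⁻¹) * g := by group
        _ = z * (d⁻¹ * g) := by rw [← hdz]; group
    · show π (d⁻¹ * g) = π g
      have hdO : π d = 1 := (QuotientGroup.eq_one_iff d).mpr (Subgroup.zpowers_le.mpr hmem hd)
      rw [map_mul, map_inv, hdO, inv_one, one_mul]
  constructor
  · intro h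
    have hker : φ.ker ≤ Cfsg.pResidual 2 C := fun c hc => by
      refine CfsgLib.Transfer.mem_pResidual_of_coprime (Nat.coprime_two_right.mpr ?_)
      have hcO : (c : G) ∈ Cfsg.oddCore G := (QuotientGroup.eq_one_iff _).mp hc
      rw [← Subgroup.orderOf_coe, ← Subgroup.orderOf_mk (c : G) hcO]
      exact CfsgLib.Cores.odd_card_oddCore.of_dvd_nat (orderOf_dvd_natCard _)
    haveI := CfsgLib.Transfer.pResidual_characteristic (p := 2) (G := C)
    let ψ := φ.liftOfSurjective hsurj ⟨QuotientGroup.mk' (Cfsg.pResidual 2 C), by rwa [QuotientGroup.ker_mk']⟩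
    have hkill := CfsgLib.Transfer.pResidual_le_ker (p := 2)
      (CfsgLib.Transfer.isPGroup_quotient_pResidual (G := C)) (ψ.comp π)
    rw [h] at hkill
    refine eq_top_iff.mpr fun c _ => ?_
    have h1 : ψ (φ c) = 1 := hkill (Subgroup.mem_top (c : G))
    simp only [ψ, MonoidHom.liftOfRightInverse_comp_apply] at h1
    exact (QuotientGroup.eq_one_iff c).mp h1
  · intro h
    have hle : C ≤ Cfsg.pResidual 2 G := by
      have := CfsgLib.Transfer.map_subtype_pResidual_le (p := 2) C
      rwa [h, ← MonoidHom.range_eq_map, Subgroup.range_subtype] at this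
    refine eq_top_iff.mpr fun g _ => ?_
    obtain ⟨c, hc⟩ := hsurj (π g)
    have hgc : (c : G)⁻¹ * g ∈ Cfsg.oddCore G := (QuotientGroup.eq).mp hc
    rw [show g = (c : G) * ((c : G)⁻¹ * g) by group]
    refine Subgroup.mul_mem _ (hle c.2) (CfsgLib.Transfer.mem_pResidual_of_coprime (Nat.coprime_two_right.mpr ?_))
    rw [← Subgroup.orderOf_mk _ hgc]
    exact CfsgLib.Cores.odd_card_oddCore.of_dvd_nat (orderOf_dvd_natCard _)

/-- Let z be an isolated involution of the finite group G and C = C_G(z). Then the subgroup of G generated by its elements of odd order is all of G if and only if the subgroup of C generated by its elements of odd order is all of C. -/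
theorem result {G : Type*} [Group G] [Finite G] (z : G) (hz : Cfsg.IsIsolatedInvolution z) : Cfsg.pResidual 2 G = ⊤ ↔ Cfsg.pResidual 2 ↥(Subgroup.centralizer ({z} : Set G)) = ⊤ := by
  exact residual_iff z hz

end Cfsg.Agent.S1183
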