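import Cfsg.Statements.S1184
import Cfsg.Agent.Lib.Invol.Isolated

set_option autoImplicit false
open Cfsg

namespace Cfsg.Agent.S1184

/-- Let z be an isolated involution of the finite group G. If s and t are distinct conjugates of z, then st does not commute with z. -/
theorem result {G : Type*} [Group G] [Finite G] (z : G) (hz : Cfsg.IsIsolatedInvolution z) (g h : G) (hne : g * z * g⁻¹ ≠ h * z * h⁻¹) : ¬ Commute (g * z * g⁻¹ * (h * z * h⁻¹)) z := by
  intro hc
  have hu : orderOf (g * z * g⁻¹) = 2 := (CfsgLib.Invol.orderOf_conj_eq g z).trans hz.1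
  have hv : orderOf (h * z * h⁻¹) = 2 := (CfsgLib.Invol.orderOf_conj_eq h z).trans hz.1
  have hk : Odd (orderOf (g * z * g⁻¹ * (h * z * h⁻¹))) :=
    CfsgLib.Invol.isolated_odd_conj_mul_conj hz g h
  generalize hkdef : g * z * g⁻¹ * (h * z * h⁻¹) = k at hc hk
  have hinv : (g * z * g⁻¹) * k * (g * z * g⁻¹)⁻¹ = k⁻¹ := by
    rw [← hkdef]; exact CfsgLib.Invol.conj_mul_eq_inv hu hv
  obtain ⟨d, hd, hdz⟩ := CfsgLib.Invol.exists_conj_of_odd hz.1 hu
    (CfsgLib.Invol.isolated_odd_mul_conj hz g)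
  obtain ⟨i, rfl⟩ := Subgroup.mem_zpowers_iff.mp hd
  have hr : Odd (orderOf (z * (g * z * g⁻¹))) := CfsgLib.Invol.isolated_odd_mul_conj hz g
  generalize hudef : g * z * g⁻¹ = u at hu hinv hr hdz hkdef
  have hrk : (z * u) * k * (z * u)⁻¹ = k⁻¹ := by
    rw [show (z * u) * k * (z * u)⁻¹ = z * (u * k * u⁻¹) * z⁻¹ by group, hinv]
    rw [(hc.inv_left).symm.eq, mul_inv_cancel_right]
  have hpow : ∀ n : ℕ, (z * u) ^ n * k * ((z * u) ^ n)⁻¹ = if Even n then k else k⁻¹ := by
    generalize z * u = r at hrk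
    intro n
    induction n with
    | zero => simp
    | succ n ih =>
      rw [pow_succ', show r * r ^ n * k * (r * r ^ n)⁻¹ = r * (r ^ n * k * (r ^ n)⁻¹) * r⁻¹ by group, ih]
      by_cases hn : Even n
      · rw [if_pos hn, if_neg (by simp [parity_simps, hn]), hrk]
      · rw [if_neg hn, if_pos (by simp [parity_simps, hn]), ← conj_inv, hrk, inv_inv]
  have h1 := hpow (orderOf (z * u))
  rw [pow_orderOf_eq_one, if_neg (Nat.not_even_iff_odd.mpr hr)] at h1
  simp only [one_mul, inv_one, mul_one] at h1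
  have h2 : k * k = 1 := by nth_rewrite 2 [h1]; exact mul_inv_cancel k
  have h3 : k = 1 := by
    obtain ⟨m, hm⟩ := hk
    have := pow_orderOf_eq_one k
    rwa [hm, pow_succ, pow_mul, sq, h2, one_pow, one_mul] at this
  apply hne
  rw [hudef]
  rw [← hkdef] at h3
  rw [eq_inv_of_mul_eq_one_left h3, CfsgLib.Invol.inv_eq_of_orderOf_two hv]

end Cfsg.Agent.S1184
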