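import Cfsg.Statements.S1185
import Cfsg.Agent.Lib.Invol.Isolated

set_option autoImplicit false
open Cfsg

namespace Cfsg.Agent.S1185

/-- Let z be an isolated involution of the finite group G with centralizer C. Then for every g ∈ G there is exactly one element k in the coset gC that has odd order and is inverted by z. -/
theorem result {G : Type*} [Group G] [Finite G] (z : G) (hz : Cfsg.IsIsolatedInvolution z) (g : G) : ∃! k : G, (Odd (orderOf k) ∧ z * k * z⁻¹ = k⁻¹) ∧ g⁻¹ * k ∈ Subgroup.centralizer ({z} : Set G) := by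
  have hzz := hz.1
  obtain ⟨d, hd, hdz⟩ := CfsgLib.Invol.exists_conj_of_odd hzz
    ((CfsgLib.Invol.orderOf_conj_eq g z).trans hzz) (CfsgLib.Invol.isolated_odd_mul_conj hz g)
  obtain ⟨i, hi⟩ := Subgroup.mem_zpowers_iff.mp hd
  have hdodd : Odd (orderOf d) :=
    (CfsgLib.Invol.isolated_odd_mul_conj hz g).of_dvd_nat (orderOf_dvd_of_mem_zpowers hd)
  have hdinv : z * d * z⁻¹ = d⁻¹ := by
    rw [← hi, CfsgLib.Invol.conj_mul_zpow hzz ((CfsgLib.Invol.orderOf_conj_eq g z).trans hzz), zpow_neg]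
  have hmem : ∀ k : G, g⁻¹ * k ∈ Subgroup.centralizer ({z} : Set G) ↔ k * z * k⁻¹ = g * z * g⁻¹ := by
    intro k
    rw [Subgroup.mem_centralizer_singleton_iff, ← mul_inv_eq_iff_eq_mul]
    constructor
    · intro h
      calc k * z * k⁻¹ = g * (g⁻¹ * k * z * (g⁻¹ * k)⁻¹) * g⁻¹ := by group
        _ = g * z * g⁻¹ := by rw [h]
    · intro h
      calc g⁻¹ * k * z * (g⁻¹ * k)⁻¹ = g⁻¹ * (k * z * k⁻¹) * g := by group
        _ = z := by rw [h]; group
  refine ⟨d, ⟨⟨hdodd, hdinv⟩, (hmem d).mpr hdz⟩, ?_⟩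
  rintro k ⟨⟨hkodd, hkinv⟩, hk⟩
  rw [hmem, ← hdz] at hk
  have e : ∀ a : G, z * a * z⁻¹ = a⁻¹ → a * z * a⁻¹ = a ^ 2 * z := by
    intro a ha
    have h1 : z * a⁻¹ = a * z := by
      have := congrArg (fun t => t⁻¹) ha
      simp only [mul_inv_rev, inv_inv] at this
      calc z * a⁻¹ = z * (a⁻¹ * z⁻¹) * z := by group
        _ = a * z := by rw [this]
    rw [sq, mul_assoc a z, h1, mul_assoc]
  rw [e k hkinv, e d hdinv, mul_left_inj] at hk
  obtain ⟨a, ha⟩ := hkodd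
  obtain ⟨b, hb⟩ := hdodd
  have h1 : k = (k ^ 2) ^ ((a + 1) + orderOf k * b) := by
    rw [← pow_mul, show 2 * (a + 1 + orderOf k * b) = 1 + orderOf k * (1 + 2 * b) by rw [ha]; ring,
      pow_add, pow_mul, pow_orderOf_eq_one, one_pow, mul_one, pow_one]
  have h2 : d = (d ^ 2) ^ ((a + 1) + orderOf k * b) := by
    rw [← pow_mul, show 2 * (a + 1 + orderOf k * b) = 1 + orderOf d * (2 * a + 1) by rw [ha, hb]; ring,
      pow_add, pow_mul, pow_orderOf_eq_one, one_pow, mul_one, pow_one]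
  rw [h1, hk, ← h2]

end Cfsg.Agent.S1185
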