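import Cfsg.Statements.S1186
import Cfsg.Agent.Lib.Invol.Isolated
import Cfsg.Agent.Lib.Invol.Counting

set_option autoImplicit false
open Cfsg

namespace Cfsg.Agent.S1186

open CfsgLib.Invol

theorem conj_invol {G : Type*} [Group G] {z p : G} (hz : orderOf z = 2) (hp : IsConj z p) : orderOf p = 2 :=
  (CfsgLib.Invol.orderOf_eq_of_isConj hp).symm.trans hz

theorem odd_mul {G : Type*} [Group G] [Finite G] {z p q : G} (hz : Cfsg.IsIsolatedInvolution z)
    (hp : IsConj z p) (hq : IsConj z q) : Odd (orderOf (p * q)) := by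
  obtain ⟨a, rfl⟩ := isConj_iff.mp hp
  obtain ⟨b, rfl⟩ := isConj_iff.mp hq
  exact isolated_odd_conj_mul_conj hz a b

/-- Two conjugates of an isolated involution are exchanged by a third one. -/
theorem exists_mid {G : Type*} [Group G] [Finite G] {z p p' : G} (hz : Cfsg.IsIsolatedInvolution z)
    (hp : IsConj z p) (hp' : IsConj z p') : ∃ q : G, IsConj z q ∧ q * p * q = p' := by
  have hp2 := conj_invol hz.1 hp
  have hp2' := conj_invol hz.1 hp'
  obtain ⟨j, hj⟩ := odd_mul hz hp hp'
  have ho : (p * p') ^ (((2 * j + 1 : ℕ) : ℤ)) = 1 := by rw [zpow_natCast, ← hj, pow_orderOf_eq_one]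
  -- half of the translation, as an even power
  obtain ⟨i, k, hik⟩ : ∃ i k : ℤ, -2 * i = (j : ℤ) + 1 + k * (2 * j + 1) :=
    ⟨-((j : ℤ) + 1) * ((j : ℤ) + 1), (j : ℤ) + (1 : ℤ) + 0, by ring⟩
  refine ⟨p * (p * p') ^ ((j : ℤ) + 1), ?_, ?_⟩
  · refine hp.trans (isConj_iff.mpr ⟨(p * p') ^ i, ?_⟩)
    rw [conj_zpow_self hp2 hp2', hik, zpow_add (p * p') ((j : ℤ) + 1), mul_comm k, zpow_mul]
    push_cast at ho
    rw [ho, one_zpow, mul_one]
  · have e : p * (p * p') ^ ((j : ℤ) + 1) * p * (p * (p * p') ^ ((j : ℤ) + 1)) =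
        p * (p * p') ^ (((j : ℤ) + 1) + ((j : ℤ) + 1)) := by
      rw [mul_assoc (p * (p * p') ^ ((j : ℤ) + 1)) p, mul_mul_cancel_of_orderOf_two hp2, mul_assoc, ← zpow_add]
    rw [e, show ((j : ℤ) + 1) + ((j : ℤ) + 1) = ((2 * j + 1 : ℕ) : ℤ) + 1 by push_cast; ring, zpow_add, ho, one_mul,
      zpow_one, mul_mul_cancel_of_orderOf_two hp2]

theorem card_formula {G : Type*} [Group G] [Finite G] (z : G) (hz : Cfsg.IsIsolatedInvolution z) (s : G)
    (hs : orderOf s = 2) (hsz : Commute s z) :
    Nat.card G = Nat.card (Subgroup.centralizer ({z} : Set G)) *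
      Nat.card {k : G // Odd (orderOf k) ∧ z * k * z⁻¹ = k⁻¹ ∧ Commute k (s * z)} *
      Nat.card {k : G // Odd (orderOf k) ∧ z * k * z⁻¹ = k⁻¹ ∧ Commute k s} := by
  have hs2 : s * s = 1 := mul_self_of_orderOf_two hs
  have hz2 : z * z = 1 := mul_self_of_orderOf_two hz.1
  have hK : ∀ t : G, Commute t z → Nat.card {k : G // Odd (orderOf k) ∧ z * k * z⁻¹ = k⁻¹ ∧ Commute k t} =
      Nat.card {p : G // IsConj z p ∧ Commute p t} := by
    intro t ht
    refine Nat.card_congr
      { toFun := fun k => ⟨z * k.1, ?_, (ht.symm).mul_left k.2.2.2⟩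
        invFun := fun p => ⟨z * p.1, odd_mul hz (IsConj.refl z) p.2.1, ?_, (ht.symm).mul_left p.2.2⟩
        left_inv := fun k => Subtype.ext (mul_mul_cancel_of_orderOf_two hz.1 _)
        right_inv := fun p => Subtype.ext (mul_mul_cancel_of_orderOf_two hz.1 _) }
    · by_cases hk1 : k.1 = 1
      · rw [hk1, mul_one]
      have ho : orderOf (z * k.1) = 2 := by
        refine orderOf_eq_two_iff'.mpr ⟨fun e => ?_, ?_⟩
        · have hkz : k.1 = z := by
            rw [eq_inv_of_mul_eq_one_right e, inv_eq_of_orderOf_two hz.1]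
          have := k.2.1
          rw [hkz, hz.1] at this
          exact absurd this (by decide)
        · calc z * k.1 * (z * k.1) = (z * k.1 * z⁻¹) * (z * z) * k.1 := by group
            _ = 1 := by rw [k.2.2.1, hz2, mul_one, inv_mul_cancel]
      obtain ⟨d, -, hd⟩ := exists_conj_of_odd hz.1 ho (by rw [mul_mul_cancel_of_orderOf_two hz.1]; exact k.2.1)
      exact isConj_iff.mpr ⟨d, hd⟩
    · exact conj_mul_eq_inv hz.1 (conj_invol hz.1 p.2.1)
  -- the map `q ↦ q p q` is bijective
  have huniq : ∀ p : {p : G // IsConj z p}, ∀ q q' : {p : G // IsConj z p},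
      q.1 * p.1 * q.1 = q'.1 * p.1 * q'.1 → q = q' := by
    intro p
    let f : {p : G // IsConj z p} → {p : G // IsConj z p} := fun q => ⟨q.1 * p.1 * q.1, p.2.trans (isConj_iff.mpr
      ⟨q.1, by rw [inv_eq_of_orderOf_two (conj_invol hz.1 q.2)]⟩)⟩
    have hsurj : Function.Surjective f := fun p' => by
      obtain ⟨q, hq, e⟩ := exists_mid hz p.2 p'.2
      exact ⟨⟨q, hq⟩, Subtype.ext e⟩
    exact fun q q' h => (Finite.injective_iff_surjective.mpr hsurj) (Subtype.ext h)
  have hσ : ∀ p : G, IsConj z p → IsConj z (s * p * s) := fun p hp => by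
    obtain ⟨a, rfl⟩ := isConj_iff.mp hp
    refine isConj_iff.mpr ⟨s * a, ?_⟩
    rw [mul_inv_rev, inv_eq_of_orderOf_two hs]; group
  have hmid : ∀ p : {p : G // IsConj z p}, ∃ q : {q : G // IsConj z q ∧ Commute q s}, q.1 * p.1 * q.1 = s * p.1 * s := by
    intro p
    obtain ⟨q, hq, e⟩ := exists_mid hz p.2 (hσ _ p.2)
    refine ⟨⟨q, hq, ?_⟩, e⟩
    have hq2 := mul_self_of_orderOf_two (conj_invol hz.1 hq)
    have h1 : (⟨s * q * s, hσ q hq⟩ : {p : G // IsConj z p}) = ⟨q, hq⟩ := by
      refine huniq p _ _ ?_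
      rw [e]
      calc s * q * s * p.1 * (s * q * s) = s * (q * (s * p.1 * s) * q) * s := by group
        _ = s * (q * (q * p.1 * q) * q) * s := by rw [e]
        _ = s * ((q * q) * p.1 * (q * q)) * s := by group
        _ = s * p.1 * s := by rw [hq2, one_mul, mul_one]
    have h2 : s * q * s = q := congrArg Subtype.val h1
    show q * s = s * q
    nth_rw 1 [← h2]
    rw [mul_assoc, hs2, mul_one]
  choose mid hmid using hmid
  -- every fibre is a translate of the one over `z`
  have hfib : ∀ q : {q : G // IsConj z q ∧ Commute q s},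
      Nat.card {p : {p : G // IsConj z p} // mid p = q} = Nat.card {p : G // IsConj z p ∧ Commute p (s * z)} := by
    intro q
    obtain ⟨a, ha⟩ := isConj_iff.mp q.2.1
    obtain ⟨g, hg, hgz⟩ := isolated_conj_in_subgroup hz (H := Subgroup.centralizer ({s} : Set G))
      (Subgroup.mem_centralizer_singleton_iff.mpr hsz.eq.symm) a
      (by rw [ha]; exact Subgroup.mem_centralizer_singleton_iff.mpr q.2.2.eq)
    rw [ha] at hgz
    have hgs : g * s * g⁻¹ = s := mul_inv_eq_iff_eq_mul.mpr (Subgroup.mem_centralizer_singleton_iff.mp hg)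
    have hz' : ∀ p : G, IsConj z p → IsConj z (g * p * g⁻¹) := fun p hp => hp.trans (isConj_iff.mpr ⟨g, rfl⟩)
    have hz'' : ∀ p : G, IsConj z p → IsConj z (g⁻¹ * p * g) := fun p hp =>
      hp.trans (isConj_iff.mpr ⟨g⁻¹, by rw [inv_inv]⟩)
    have hq2 := mul_self_of_orderOf_two (conj_invol hz.1 q.2.1)
    have hiff : ∀ p : G, (q.1 * p * q.1 = s * p * s ↔ Commute p (s * q.1)) := by
      intro p
      constructor
      · intro h
        show p * (s * q.1) = s * q.1 * p
        calc p * (s * q.1) = (s * s) * p * s * q.1 := by rw [hs2]; group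
          _ = s * (s * p * s) * q.1 := by group
          _ = s * (q.1 * p * q.1) * q.1 := by rw [h]
          _ = s * q.1 * p * (q.1 * q.1) := by group
          _ = _ := by rw [hq2, mul_one]
      · intro h
        calc q.1 * p * q.1 = (s * s) * q.1 * p * q.1 := by rw [hs2, one_mul]
          _ = s * ((s * q.1) * p) * q.1 := by group
          _ = s * (p * (s * q.1)) * q.1 := by rw [h.eq]
          _ = s * p * s * (q.1 * q.1) := by group
          _ = _ := by rw [hq2, mul_one]
    have hconj : g * (s * z) * g⁻¹ = s * q.1 := by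
      rw [show g * (s * z) * g⁻¹ = (g * s * g⁻¹) * (g * z * g⁻¹) by group, hgs, hgz]
    refine Nat.card_congr
      { toFun := fun p => ⟨g⁻¹ * p.1.1 * g, hz'' _ p.1.2, ?_⟩
        invFun := fun p => ⟨⟨g * p.1 * g⁻¹, hz' _ p.2.1⟩, ?_⟩
        left_inv := fun p => Subtype.ext (Subtype.ext (by group))
        right_inv := fun p => Subtype.ext (by group) }
    · have e2 := hmid p.1
      rw [congrArg Subtype.val p.2] at e2
      have h := (hiff p.1.1).mp e2
      rw [← hconj] at h
      have := (Commute.conj_iff g⁻¹).mpr h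
      simpa [mul_assoc] using this
    · have h : Commute (g * p.1 * g⁻¹) (s * q.1) := hconj ▸ (Commute.conj_iff g).mpr p.2.2
      exact Subtype.ext (congrArg Subtype.val (huniq ⟨_, hz' _ p.2.1⟩ ⟨_, (mid _).2.1⟩ ⟨_, q.2.1⟩
        ((hmid _).trans ((hiff _).mpr h).symm)) :)
  have hX : Nat.card {p : G // IsConj z p} =
      Nat.card {p : G // IsConj z p ∧ Commute p s} * Nat.card {p : G // IsConj z p ∧ Commute p (s * z)} := by
    classical
    haveI := Fintype.ofFinite {q : G // IsConj z q ∧ Commute q s}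
    rw [← Nat.card_congr (Equiv.sigmaFiberEquiv mid), Nat.card_sigma, Finset.sum_congr rfl (fun q _ => hfib q),
      Finset.sum_const, smul_eq_mul, Finset.card_univ, ← Nat.card_eq_fintype_card]
  rw [hK s hsz, hK (s * z) (hsz.mul_left (Commute.refl z)), ← card_conjugates_mul z, hX]
  ring

/-- Let z be an isolated involution of the finite group G, C = C_G(z), K the set of elements of odd order inverted by z, and s an involution of C. Then |G| = |C| · |C_K(sz)| · |C_K(s)|. -/
theorem result {G : Type*} [Group G] [Finite G] (z : G) (hz : Cfsg.IsIsolatedInvolution z) (s : G) (hs : orderOf s = 2) (hsz : Commute s z) : Nat.card G = Nat.card (Subgroup.centralizer ({z} : Set G)) * Nat.card {k : G // Odd (orderOf k) ∧ z * k * z⁻¹ = k⁻¹ ∧ Commute k (s * z)} * Nat.card {k : G // Odd (orderOf k) ∧ z * k * z⁻¹ = k⁻¹ ∧ Commute k s} := by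
  exact card_formula z hz s hs hsz

end Cfsg.Agent.S1186
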