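import Cfsg.Statements.S1189
import Cfsg.Agent.Lib.Invol.QDW.Semidihedral
import Cfsg.Agent.Lib.Invol.QDW.SdStructure
import Cfsg.Agent.Lib.Invol.QDW.SdSubgroups
import Cfsg.Agent.Lib.Invol.QDW.ClassCount
import Cfsg.Agent.Lib.Invol.QDW.Transport

set_option autoImplicit false
open Cfsg

namespace Cfsg.Agent.S1189

open CfsgLib.Invol.QDW

/-- A quasi-dihedral 2-group has exactly two conjugacy classes of elements of order 2 and exactly two conjugacy classes of elements of order 4. -/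
theorem result {S : Type*} [Group S] [Finite S] (hS : Cfsg.IsQuasiDihedral S) : Nat.card {C : ConjClasses S // ∃ t : S, orderOf t = 2 ∧ ConjClasses.mk t = C} = 2 ∧ Nat.card {C : ConjClasses S // ∃ t : S, orderOf t = 4 ∧ ConjClasses.mk t = C} = 2 := by
  obtain ⟨k, -, ⟨e⟩⟩ := exists_equiv_sd hS
  constructor
  · refine card_classes_eq_two e 2 (a := (⟨half k, false⟩ : Sd k)) (b := ⟨0, true⟩)
      (Sd.orderOf_two_iff.mpr (Or.inl ⟨rfl, rfl⟩)) (Sd.orderOf_two_iff.mpr (Or.inr ⟨rfl, 0, by simp⟩)) ?_ ?_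
    · intro h
      obtain ⟨n, hn⟩ := isConj_iff.mp h
      rw [Sd.conj_rot] at hn
      simpa using congrArg Sd.e hn
    · rintro ⟨i, f⟩ ht
      rcases Sd.orderOf_two_iff.mp ht with ⟨he, hi⟩ | ⟨he, m, hi⟩ <;> simp only at he hi <;> subst he <;> subst hi
      · exact Or.inl (IsConj.refl _)
      · exact Or.inr (Sd.isConj_refl_iff.mpr ⟨-m, by ring⟩)
  · obtain ⟨u, hu⟩ := Sd.exists_pow_two_eq_half (k := k) (m := 1) (by omega)
    rw [pow_one] at hu
    refine card_classes_eq_two e 4 (a := (⟨u, false⟩ : Sd k)) (b := ⟨1, true⟩)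
      (Sd.orderOf_four_iff.mpr (Or.inl ⟨rfl, hu⟩)) (Sd.orderOf_four_iff.mpr (Or.inr ⟨rfl, 0, by simp⟩)) ?_ ?_
    · intro h
      obtain ⟨n, hn⟩ := isConj_iff.mp h
      rw [Sd.conj_rot] at hn
      simpa using congrArg Sd.e hn
    · rintro ⟨i, f⟩ ht
      rcases Sd.orderOf_four_iff.mp ht with ⟨he, hi⟩ | ⟨he, m, hi⟩ <;> simp only at he hi <;> subst he
      · left
        rcases Sd.two_cancel (x := i - u) (by linear_combination hi - hu) with h | h
        · rw [sub_eq_zero.mp h]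
        · refine isConj_iff.mpr ⟨⟨0, true⟩, ?_⟩
          rw [Sd.conj_rot]
          refine Sd.ext ?_ rfl
          simp only [cond_true, Sd.c]
          linear_combination (half k : ZMod (2 ^ (k + 3))) * h + (Sd.half_sq (k := k)) + (Sd.half_mul_eq_zero_iff.mpr (by
            refine (Sd.even_or_odd u).resolve_right ?_
            rintro ⟨w, rfl⟩
            exact Sd.two_mul_odd_ne_half w hu) : (half k : ZMod (2 ^ (k + 3))) * u = 0) - hi + h
      · subst hi
        exact Or.inr (Sd.isConj_refl_iff.mpr ⟨-m, by ring⟩)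

end Cfsg.Agent.S1189
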