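import Cfsg.Statements.S1190
import Cfsg.Agent.Lib.Invol.QDW.Semidihedral
import Cfsg.Agent.Lib.Invol.QDW.SdStructure
import Cfsg.Agent.Lib.Invol.QDW.SdSubgroups
import Cfsg.Agent.Lib.Invol.QDW.ClassCount
import Cfsg.Agent.Lib.Invol.QDW.Transport

set_option autoImplicit false
open Cfsg

namespace Cfsg.Agent.S1190

open CfsgLib.Invol.QDW

/-- In a quasi-dihedral 2-group S, any two Klein four-subgroups are conjugate, and every Klein four-subgroup T satisfies C_S(T) = T and |N_S(T) : T| = 2. -/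
theorem result {S : Type*} [Group S] [Finite S] (hS : Cfsg.IsQuasiDihedral S) : (∀ T₁ T₂ : Subgroup S, IsKleinFour T₁ → IsKleinFour T₂ → ∃ s : S, T₁.map (MulAut.conj s).toMonoidHom = T₂) ∧ (∀ T : Subgroup S, IsKleinFour T → Subgroup.centralizer (T : Set S) = T ∧ T.relIndex (Subgroup.normalizer (T : Set S)) = 2) := by
  obtain ⟨k, -, ⟨e⟩⟩ := exists_equiv_sd hS
  constructor
  · intro T₁ T₂ h1 h2
    obtain ⟨i, ⟨a, ha⟩, e1⟩ := Sd.eq_D_one_of_klein (isKleinFour_map e h1)
    obtain ⟨j, ⟨b, hb⟩, e2⟩ := Sd.eq_D_one_of_klein (isKleinFour_map e h2)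
    refine exists_map_conj e ?_
    rw [e1, e2]
    exact Sd.map_conj_D (by omega) ⟨b - a, by rw [ha, hb]; ring⟩
  · intro T hT
    obtain ⟨i, hi, e1⟩ := Sd.eq_D_one_of_klein (isKleinFour_map e hT)
    haveI := hT
    refine ⟨le_antisymm ?_ ?_, ?_⟩
    · intro x hx
      have hx' := (mem_centralizer_map e).mp hx
      rw [eq_comap_of_map_eq e e1]
      rw [e1] at hx'
      exact Sd.refl_centralizer (Subgroup.mem_centralizer_iff.mp hx' _ Sd.refl_mem_D).symm
    · intro x hx
      refine Subgroup.mem_centralizer_iff.mpr fun y hy => ?_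
      have h := fun z : T => inv_eq_of_mul_eq_one_left (IsKleinFour.mul_self z)
      have hc : (⟨y, hy⟩ : T) * ⟨x, hx⟩ = ⟨x, hx⟩ * ⟨y, hy⟩ := by rw [← h (_ * _), mul_inv_rev, h, h]
      exact congrArg Subtype.val hc
    · rw [← relIndex_map e, map_normalizer, e1, Sd.normalizer_D (by omega), Sd.relIndex_D (by omega)]

end Cfsg.Agent.S1190
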