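import Cfsg.Statements.S1191
import Cfsg.Agent.Lib.Invol.QDW.Semidihedral
import Cfsg.Agent.Lib.Invol.QDW.SdStructure
import Cfsg.Agent.Lib.Invol.QDW.SdSubgroups
import Cfsg.Agent.Lib.Invol.QDW.ClassCount
import Cfsg.Agent.Lib.Invol.QDW.Transport

set_option autoImplicit false
open Cfsg

namespace Cfsg.Agent.S1191

open CfsgLib.Invol.QDW

/-- In a quasi-dihedral 2-group S, any two subgroups isomorphic to the quaternion group of order 8 are conjugate, and each such subgroup Q satisfies C_S(Q) = Z(Q) and |N_S(Q) : Q| = 2. -/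
theorem result {S : Type*} [Group S] [Finite S] (hS : Cfsg.IsQuasiDihedral S) : (∀ Q₁ Q₂ : Subgroup S, Nonempty (Q₁ ≃* QuaternionGroup 2) → Nonempty (Q₂ ≃* QuaternionGroup 2) → ∃ s : S, Q₁.map (MulAut.conj s).toMonoidHom = Q₂) ∧ (∀ Q : Subgroup S, Nonempty (Q ≃* QuaternionGroup 2) → Subgroup.centralizer (Q : Set S) = (Subgroup.center Q).map Q.subtype ∧ Q.relIndex (Subgroup.normalizer (Q : Set S)) = 2) := by
  obtain ⟨k, -, ⟨e⟩⟩ := exists_equiv_sd hS
  constructor
  · rintro Q₁ Q₂ ⟨q1⟩ ⟨q2⟩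
    obtain ⟨i, ⟨a, ha⟩, e1⟩ := Sd.eq_D_two_of_quaternion ((mapEquiv e Q₁).symm.trans q1)
    obtain ⟨j, ⟨b, hb⟩, e2⟩ := Sd.eq_D_two_of_quaternion ((mapEquiv e Q₂).symm.trans q2)
    refine exists_map_conj e ?_
    rw [e1, e2]
    exact Sd.map_conj_D (by omega) ⟨b - a, by rw [ha, hb]; ring⟩
  · rintro Q ⟨q⟩
    obtain ⟨i, hi, e1⟩ := Sd.eq_D_two_of_quaternion ((mapEquiv e Q).symm.trans q)
    refine ⟨le_antisymm ?_ ?_, ?_⟩
    · intro x hx
      have hx' := (mem_centralizer_map e).mp hx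
      rw [e1] at hx'
      have hc := Sd.le_centralizer_D (le_refl 2) hx' (by omega)
      have hcx : x ∈ Subgroup.center S := Subgroup.mem_center_iff.mpr fun y => e.injective (by
        rw [map_mul, map_mul]; exact Subgroup.mem_center_iff.mp hc (e y))
      have hxQ : x ∈ Q := by
        rw [eq_comap_of_map_eq e e1, Subgroup.mem_comap, MulEquiv.coe_toMonoidHom, Sd.mem_D]
        obtain ⟨he, hxi⟩ := Sd.mem_center_iff.mp hc
        rw [he, cond_false, sub_zero]
        rcases hxi with h | h <;> rw [h]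
        · simp
        · exact Sd.pow_two_mul_half (by omega)
      exact ⟨⟨x, hxQ⟩, Subgroup.mem_center_iff.mpr fun y => Subtype.ext (Subgroup.mem_center_iff.mp hcx y), rfl⟩
    · rintro _ ⟨⟨x, hxQ⟩, hx, rfl⟩
      exact Subgroup.mem_centralizer_iff.mpr fun y hy => congrArg Subtype.val (Subgroup.mem_center_iff.mp hx ⟨y, hy⟩)
    · rw [← relIndex_map e, map_normalizer, e1, Sd.normalizer_D (by omega), Sd.relIndex_D (by omega)]

end Cfsg.Agent.S1191
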