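import Cfsg.Statements.S1192
import Cfsg.Agent.Lib.Invol.QDW.Semidihedral
import Cfsg.Agent.Lib.Invol.QDW.SdStructure
import Cfsg.Agent.Lib.Invol.QDW.SdSubgroups
import Cfsg.Agent.Lib.Invol.QDW.ClassCount
import Cfsg.Agent.Lib.Invol.QDW.Transport

set_option autoImplicit false
open Cfsg

namespace Cfsg.Agent.S1192

open CfsgLib.Invol.QDW

/-- A quasi-dihedral group S of order 2^(n+1) has exactly three maximal subgroups; one is cyclic, one is isomorphic to the generalized quaternion group of order 2^n and one to the dihedral group of order 2^n. -/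
theorem result {S : Type*} [Group S] [Finite S] (hS : Cfsg.IsQuasiDihedral S) (n : ℕ) (hn : Nat.card S = 2 ^ (n + 1)) : ∃ M₁ M₂ M₃ : Subgroup S, IsCoatom M₁ ∧ IsCoatom M₂ ∧ IsCoatom M₃ ∧ M₁ ≠ M₂ ∧ M₁ ≠ M₃ ∧ M₂ ≠ M₃ ∧ (∀ M : Subgroup S, IsCoatom M → M = M₁ ∨ M = M₂ ∨ M = M₃) ∧ IsCyclic M₁ ∧ Nonempty (M₂ ≃* QuaternionGroup (2 ^ (n - 2))) ∧ Nonempty (M₃ ≃* DihedralGroup (2 ^ (n - 1))) := by
  obtain ⟨k, hk, ⟨e⟩⟩ := exists_equiv_sd hS
  have hnk : n = k + 3 := by
    have := Nat.pow_right_injective (le_refl 2) (hn.symm.trans hk); omega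
  subst hnk
  have hme : ∀ T : Subgroup (Sd k), (T.comap e.toMonoidHom).map e.toMonoidHom = T := fun T =>
    Subgroup.map_comap_eq_self_of_surjective e.surjective T
  have hco : ∀ T : Subgroup (Sd k), T.index = 2 → IsCoatom (T.comap e.toMonoidHom) := fun T hT => by
    rw [← isCoatom_map e, hme]; exact Sd.isCoatom_of_index_two hT
  have hne : ∀ T U : Subgroup (Sd k), T ≠ U → T.comap e.toMonoidHom ≠ U.comap e.toMonoidHom :=
    fun T U h h' => h (Subgroup.comap_injective e.surjective h')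
  let te : ∀ T : Subgroup (Sd k), ↥(T.comap e.toMonoidHom) ≃* ↥T := fun T =>
    (mapEquiv e _).trans (MulEquiv.subgroupCongr (hme T))
  refine ⟨(Sd.rot k).comap e.toMonoidHom, (Sd.D (k + 2) (by omega) 1).comap e.toMonoidHom,
    (Sd.D (k + 2) (by omega) 0).comap e.toMonoidHom, hco _ Sd.index_rot, hco _ Sd.index_D_top, hco _ Sd.index_D_top,
    hne _ _ ?_, hne _ _ ?_, hne _ _ ?_, ?_, ?_, ⟨?_⟩, ⟨?_⟩⟩
  · intro h
    exact Bool.noConfusion (Sd.mem_rot.mp (h ▸ Sd.refl_mem_D : (⟨1, true⟩ : Sd k) ∈ Sd.rot k))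
  · intro h
    exact Bool.noConfusion (Sd.mem_rot.mp (h ▸ Sd.refl_mem_D : (⟨0, true⟩ : Sd k) ∈ Sd.rot k))
  · intro h
    obtain ⟨m, hm⟩ := Sd.mem_D_top.mp (h ▸ Sd.refl_mem_D : (⟨1, true⟩ : Sd k) ∈ Sd.D (k + 2) (by omega) 0)
    simp only [cond_true, sub_zero] at hm
    have := Sd.par_two_mul (k := k) m
    rw [← hm, map_one] at this
    exact absurd this (by decide)
  · intro M hM
    rcases Sd.coatom_cases ((isCoatom_map e).mpr hM) with h | h | h
    · exact Or.inl (eq_comap_of_map_eq e h)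
    · exact Or.inr (Or.inr (eq_comap_of_map_eq e h))
    · exact Or.inr (Or.inl (eq_comap_of_map_eq e h))
  · haveI : IsCyclic (Sd.rot k) := by rw [Sd.rot_eq_zpowers]; infer_instance
    exact (te (Sd.rot k)).isCyclic.mpr inferInstance
  · exact (te _).trans Sd.equivQuaternion.symm
  · exact (te _).trans Sd.equivDihedral.symm

end Cfsg.Agent.S1192
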