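import Cfsg.Statements.S1193
import Cfsg.Agent.Lib.Invol.QDW.Semidihedral
import Cfsg.Agent.Lib.Invol.QDW.SdStructure
import Cfsg.Agent.Lib.Invol.QDW.SdSubgroups
import Cfsg.Agent.Lib.Invol.QDW.ClassCount
import Cfsg.Agent.Lib.Invol.QDW.Transport

set_option autoImplicit false
open Cfsg

namespace Cfsg.Agent.S1193

open CfsgLib.Invol.QDW

theorem model (k : ℕ) :
    commutator (Sd k) = Subgroup.zpowers (⟨2, false⟩ : Sd k) ∧ frattini (Sd k) = Subgroup.zpowers (⟨2, false⟩ : Sd k) ∧
      Nat.card (Subgroup.zpowers (⟨2, false⟩ : Sd k)) = 2 ^ (k + 2) ∧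
      Subgroup.closure {x : Sd k | orderOf x = 2} = Sd.D (k + 2) (by omega) 0 := by
  set E := Subgroup.zpowers (⟨2, false⟩ : Sd k) with hE
  have memE : ∀ {a : Sd k}, a ∈ E ↔ a.e = false ∧ ∃ m, a.i = 2 * m := by
    intro a
    constructor
    · intro h
      obtain ⟨m, rfl⟩ := (Submonoid.mem_powers_iff _ _).mp ((isOfFinOrder_of_finite _).mem_powers_iff_mem_zpowers.mpr h)
      rw [Sd.zpow_rot]; exact ⟨rfl, m, by ring⟩
    · rintro ⟨he, m, hm⟩
      refine ⟨(m.val : ℤ), ?_⟩
      show (⟨2, false⟩ : Sd k) ^ (m.val : ℤ) = a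
      rw [zpow_natCast, Sd.zpow_rot, ZMod.natCast_rightInverse m]
      exact Sd.ext (by rw [hm]; ring) he.symm
  have hF : frattini (Sd k) ≤ E := fun a ha => memE.mpr (by
    have h1 := frattini_le_coatom (Sd.isCoatom_of_index_two (Sd.index_rot (k := k))) ha
    have h2 := Sd.mem_D_top.mp (frattini_le_coatom (Sd.isCoatom_of_index_two (Sd.index_D_top (k := k) (i := 0))) ha)
    rw [Sd.mem_rot] at h1
    refine ⟨h1, ?_⟩
    simpa [h1] using h2)
  have hEc : E ≤ commutator (Sd k) := by
    intro a ha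
    obtain ⟨he, m, hm⟩ := memE.mp ha
    obtain ⟨j, hj⟩ := Sd.exists_conj_sub (k := k) m
    have := Subgroup.commutator_mem_commutator (Subgroup.mem_top (⟨0, true⟩ : Sd k)) (Subgroup.mem_top (⟨-j, false⟩ : Sd k))
    rw [← commutator_def] at this
    convert this using 1
    rw [commutatorElement_def, Sd.conj_rot]
    refine Sd.ext ?_ (by rw [he]; simp)
    simp [hm, ← hj]; ring
  have hcF : commutator (Sd k) ≤ frattini (Sd k) := by
    refine le_iInf₂ fun M hM => ?_
    have h2 := Sd.index_two_of_isCoatom Sd.isPGroup_sd hM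
    rw [commutator_def, Subgroup.commutator_le]
    intro a _ b _
    rw [commutatorElement_def, Subgroup.mul_mem_iff_of_index_two h2, Subgroup.mul_mem_iff_of_index_two h2,
      Subgroup.mul_mem_iff_of_index_two h2, inv_mem_iff, inv_mem_iff]
    tauto
  refine ⟨le_antisymm (hcF.trans hF) hEc, le_antisymm hF (hEc.trans hcF), ?_, ?_⟩
  · rw [Nat.card_zpowers, orderOf_eq_iff (by positivity)]
    refine ⟨?_, fun m hm hm0 h => ?_⟩
    · rw [Sd.zpow_rot]
      refine Sd.ext ?_ rfl
      rw [Sd.one_i, mul_comm]; exact Sd.two_half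
    · rw [Sd.zpow_rot] at h
      have := congrArg Sd.i h
      rw [Sd.one_i] at this
      rcases Sd.two_cancel (x := (m : ZMod (2 ^ (k + 3)))) (by linear_combination this) with h1 | h1
      · rw [ZMod.natCast_eq_zero_iff] at h1
        have := Nat.le_of_dvd hm0 h1
        simp [pow_succ] at this hm; omega
      · rw [ZMod.natCast_eq_natCast_iff', Nat.mod_eq_of_lt (by simp [pow_succ] at hm ⊢; omega),
          Nat.mod_eq_of_lt (by simp [half, pow_succ])] at h1
        simp [half] at h1; omega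
  · refine le_antisymm ((Subgroup.closure_le _).mpr fun a ha => Sd.mem_D_top.mpr ?_) ?_
    · rcases Sd.orderOf_two_iff.mp ha with ⟨he, hi⟩ | ⟨he, m, hi⟩
      · rw [he, hi]; simpa using Sd.even_half (k := k)
      · rw [he, hi]; exact ⟨m, by simp⟩
    · rintro ⟨a, f⟩ ha
      obtain ⟨m, hm⟩ := Sd.mem_D_top.mp ha
      have h2 : ∀ m, (⟨2 * m, true⟩ : Sd k) ∈ Subgroup.closure {x : Sd k | orderOf x = 2} := fun m =>
        Subgroup.subset_closure (Sd.orderOf_two_iff.mpr (Or.inr ⟨rfl, m, rfl⟩))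
      cases f <;> simp only [cond_true, cond_false, sub_zero] at hm <;> subst hm
      · convert mul_mem (h2 m) (h2 0) using 1
        ext <;> simp
      · exact h2 m

/-- Let S be quasi-dihedral of order 2^(n+1). Then S' = Φ(S) is cyclic of order 2^(n-1), the centre of S has order 2, and the subgroup generated by the involutions of S is dihedral of order 2^n. -/
theorem result {S : Type*} [Group S] [Finite S] (hS : Cfsg.IsQuasiDihedral S) (n : ℕ) (hn : Nat.card S = 2 ^ (n + 1)) : commutator S = frattini S ∧ IsCyclic (commutator S) ∧ Nat.card (commutator S) = 2 ^ (n - 1) ∧ Nat.card (Subgroup.center S) = 2 ∧ Nonempty (↥(Subgroup.closure {x : S | orderOf x = 2}) ≃* DihedralGroup (2 ^ (n - 1))) := by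
  obtain ⟨k, hk, ⟨e⟩⟩ := exists_equiv_sd hS
  have hnk : n = k + 3 := by
    have := Nat.pow_right_injective (le_refl 2) (hn.symm.trans hk); omega
  subst hnk
  obtain ⟨hc, hf, hcard, hcl⟩ := model k
  have hcl' : (Subgroup.closure {x : S | orderOf x = 2}).map e.toMonoidHom = Sd.D (k + 2) (by omega) 0 := by
    rw [MonoidHom.map_closure, ← hcl]
    congr 1
    ext x
    constructor
    · rintro ⟨y, hy, rfl⟩; show orderOf (e y) = 2; rwa [MulEquiv.orderOf_eq]
    · intro hx; exact ⟨e.symm x, by show orderOf (e.symm x) = 2; rwa [MulEquiv.orderOf_eq], by simp⟩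
  let ec : ↥(commutator S) ≃* ↥(Subgroup.zpowers (⟨2, false⟩ : Sd k)) :=
    (mapEquiv e _).trans (MulEquiv.subgroupCongr (by rw [map_commutator_top, hc]))
  refine ⟨Subgroup.map_injective (f := e.toMonoidHom) e.injective (by rw [map_commutator_top, map_frattini, hc, hf]),
    ec.isCyclic.mpr inferInstance, (Nat.card_congr ec.toEquiv).trans hcard, ?_, ⟨?_⟩⟩
  · rw [Nat.card_congr (Subgroup.centerCongr e).toEquiv, Sd.card_center]
  · exact ((mapEquiv e _).trans (MulEquiv.subgroupCongr hcl')).trans Sd.equivDihedral.symm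

end Cfsg.Agent.S1193
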