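import Cfsg.Statements.S1194
import Cfsg.Agent.Lib.Invol.QDW.Semidihedral
import Cfsg.Agent.Lib.Invol.QDW.SdStructure
import Cfsg.Agent.Lib.Invol.QDW.SdSubgroups
import Cfsg.Agent.Lib.Invol.QDW.ClassCount
import Cfsg.Agent.Lib.Invol.QDW.Transport
import Cfsg.Agent.S1193

set_option autoImplicit false
open Cfsg

namespace Cfsg.Agent.S1194

open CfsgLib.Invol.QDW

/-- In a quasi-dihedral 2-group S, every proper normal subgroup is either a maximal subgroup or a cyclic subgroup contained in the derived subgroup S'. -/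
theorem result {S : Type*} [Group S] [Finite S] (hS : Cfsg.IsQuasiDihedral S) (N : Subgroup S) [N.Normal] (hN : N ≠ ⊤) : IsCoatom N ∨ (IsCyclic N ∧ N ≤ commutator S) := by
  obtain ⟨k, -, ⟨e⟩⟩ := exists_equiv_sd hS
  obtain ⟨hc, -, -, -⟩ := Cfsg.Agent.S1193.model k
  set N' := N.map e.toMonoidHom with hN'
  have hne : N' ≠ ⊤ := fun h => hN (Subgroup.map_injective (f := e.toMonoidHom) e.injective (h.trans (Subgroup.map_top_of_surjective _ e.surjective).symm))
  haveI hNn : N'.Normal := Subgroup.Normal.map inferInstance _ e.surjective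
  rw [← isCoatom_map e, ← hN']
  by_cases hr : ∀ a ∈ N', a.e = false
  · by_cases ho : ∀ a ∈ N', ∃ m, a.i = 2 * m
    · right
      have hle : N ≤ commutator S := by
        intro x hx
        have hx' : e x ∈ N' := Subgroup.mem_map_of_mem _ hx
        have h1 : e x ∈ commutator (Sd k) := by
          rw [hc]
          obtain ⟨m, hm⟩ := ho _ hx'
          refine ⟨(m.val : ℤ), ?_⟩
          show (⟨2, false⟩ : Sd k) ^ (m.val : ℤ) = e x
          rw [zpow_natCast, Sd.zpow_rot, ZMod.natCast_rightInverse m]
          exact Sd.ext (by rw [hm]; ring) (hr _ hx').symm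
        rw [← map_commutator_top e] at h1
        exact (Subgroup.mem_map_iff_mem e.injective).mp h1
      haveI : IsCyclic (commutator S) :=
        ((mapEquiv e _).trans (MulEquiv.subgroupCongr (by rw [map_commutator_top, hc]) :
          _ ≃* Subgroup.zpowers (⟨2, false⟩ : Sd k))).isCyclic.mpr inferInstance
      exact ⟨(Subgroup.subgroupOfEquivOfLe hle).isCyclic.mp inferInstance, hle⟩
    · left
      push Not at ho
      obtain ⟨⟨a, f⟩, ha, hao⟩ := ho
      obtain rfl : f = false := hr _ ha
      obtain ⟨m, rfl⟩ := (Sd.even_or_odd a).resolve_left (fun ⟨m, hm⟩ => hao m hm)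
      have hle : Sd.rot k ≤ N' := by
        rw [Sd.rot_eq_zpowers, Subgroup.zpowers_le]
        have hcop : Nat.Coprime (2 * m + 1 : ZMod (2 ^ (k + 3))).val (2 ^ (k + 3)) := by
          refine Nat.Coprime.pow_right _ (Nat.coprime_two_right.mpr ?_)
          rw [← Nat.not_even_iff_odd]
          rintro ⟨j, hj⟩
          refine absurd (show ∃ l, (2 * m + 1 : ZMod (2 ^ (k + 3))) = 2 * l from ⟨j, ?_⟩) (fun h => ?_)
          · rw [← ZMod.natCast_rightInverse (2 * m + 1 : ZMod (2 ^ (k + 3))), hj]; push_cast; ring
          · have := Sd.even_iff_par.mp h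
            rw [map_add, Sd.par_two_mul, map_one, zero_add] at this
            exact absurd this (by decide)
        have hu : IsUnit (2 * m + 1 : ZMod (2 ^ (k + 3))) := by
          rw [← ZMod.natCast_rightInverse (2 * m + 1 : ZMod (2 ^ (k + 3)))]
          exact (ZMod.isUnit_iff_coprime _ _).mpr hcop
        obtain ⟨v, hv⟩ := hu.exists_left_inv
        have := Subgroup.pow_mem _ ha v.val
        rwa [Sd.zpow_rot, ZMod.natCast_rightInverse v, hv] at this
      rw [((Sd.isCoatom_of_index_two Sd.index_rot).le_iff.mp hle).resolve_left hne]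
      exact Sd.isCoatom_of_index_two Sd.index_rot
  · left
    push Not at hr
    obtain ⟨⟨i, f⟩, hi, hf⟩ := hr
    obtain rfl : f = true := by simpa using hf
    have hev : ∀ m, (⟨2 * m, false⟩ : Sd k) ∈ N' := by
      intro m
      obtain ⟨j, hj⟩ := Sd.exists_conj_sub (k := k) m
      have := mul_mem (hNn.conj_mem _ hi ⟨j, false⟩) (inv_mem hi)
      convert this using 1
      ext <;> simp [← hj]
      simp only [Sd.c]
      linear_combination i * (Sd.half_sq (k := k)) - i * (Sd.two_half (k := k))
    have hle : Sd.D (k + 2) (by omega) i ≤ N' := by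
      rintro ⟨a, f⟩ ha
      obtain ⟨m, hm⟩ := Sd.mem_D_top.mp ha
      cases f <;> simp only [cond_true, cond_false, sub_zero] at hm
      · exact hm ▸ hev m
      · convert mul_mem (hev m) hi using 1
        ext <;> simp [← hm]
    rw [((Sd.isCoatom_of_index_two Sd.index_D_top).le_iff.mp hle).resolve_left hne]
    exact Sd.isCoatom_of_index_two Sd.index_D_top

end Cfsg.Agent.S1194
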