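import Cfsg.Statements.S1195
import Cfsg.Agent.Lib.Invol.QDW.Wreath
import Cfsg.Agent.Lib.Invol.QDW.WrBasics
import Cfsg.Agent.Lib.Invol.QDW.WrSubgroups
import Cfsg.Agent.Lib.Invol.QDW.Transport
import Cfsg.Agent.Lib.Invol.QDW.ClassCount

set_option autoImplicit false
open Cfsg

namespace Cfsg.Agent.S1195

open CfsgLib.Invol.QDW

/-- A wreathed 2-group has exactly three conjugacy classes of elements of order 2. -/
theorem result {S : Type*} [Group S] [Finite S] (hS : Cfsg.IsWreathed S) : Nat.card {C : ConjClasses S // ∃ t : S, orderOf t = 2 ∧ ConjClasses.mk t = C} = 3 := by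
  obtain ⟨n', hn', hcard, ⟨e⟩⟩ := exists_equiv_wr hS
  obtain ⟨r, rfl⟩ : ∃ r, n' = r + 2 := ⟨n' - 2, by omega⟩
  refine card_classes_eq_three e 2 (a := (⟨Wr.hf r, Wr.hf r, false⟩ : Wr (2 ^ (r + 2))))
    (b := ⟨Wr.hf r, 0, false⟩) (c := ⟨0, 0, true⟩) ?_ ?_ ?_ ?_ ?_ ?_ ?_
  · exact Wr.orderOf_two_iff.mpr (Or.inl ⟨rfl, Wr.two_hf, Wr.two_hf, fun h => Wr.hf_ne_zero h.1⟩)
  · exact Wr.orderOf_two_iff.mpr (Or.inl ⟨rfl, Wr.two_hf, by simp, fun h => Wr.hf_ne_zero h.1⟩)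
  · exact Wr.orderOf_two_iff.mpr (Or.inr ⟨rfl, by simp⟩)
  · intro h
    obtain ⟨s, hs⟩ := isConj_iff.mp h
    rw [Wr.conj_base] at hs
    have h2 := congrArg Wr.j hs
    cases s.e <;> simp at h2 <;> exact Wr.hf_ne_zero h2
  · intro h
    obtain ⟨s, hs⟩ := isConj_iff.mp h
    rw [Wr.conj_base] at hs
    simpa using congrArg Wr.e hs
  · intro h
    obtain ⟨s, hs⟩ := isConj_iff.mp h
    rw [Wr.conj_base] at hs
    simpa using congrArg Wr.e hs
  · rintro ⟨i, j, f⟩ ht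
    rcases Wr.orderOf_two_iff.mp ht with ⟨he, h1, h2, hne⟩ | ⟨he, hs⟩ <;> simp only at he <;> subst he
    · simp only at h1 h2 hne
      rcases Wr.two_cancel h1 with rfl | rfl <;> rcases Wr.two_cancel h2 with rfl | rfl
      · exact absurd ⟨rfl, rfl⟩ hne
      · right; left
        exact isConj_iff.mpr ⟨⟨0, 0, true⟩, by rw [Wr.conj_base]; rfl⟩
      · exact Or.inr (Or.inl (IsConj.refl _))
      · exact Or.inl (IsConj.refl _)
    · right; right
      obtain ⟨s, hs'⟩ := Wr.exists_conj_swap (r := r) 0 hs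
      exact isConj_iff.mpr ⟨s, hs'⟩

end Cfsg.Agent.S1195
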