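import Cfsg.Statements.S1197
import Cfsg.Agent.Lib.Invol.QDW.Wreath
import Cfsg.Agent.Lib.Invol.QDW.WrBasics
import Cfsg.Agent.Lib.Invol.QDW.WrSubgroups
import Cfsg.Agent.Lib.Invol.QDW.Transport

set_option autoImplicit false
open Cfsg

namespace Cfsg.Agent.S1197

open CfsgLib.Invol.QDW

/-- Let S be a wreathed 2-group of order 2^(2n+1). Then Z(S) is cyclic of order 2^n, the derived subgroup S' is cyclic of order 2^n, and S/Z(S) is isomorphic to the dihedral group of order 2^(n+1). -/
theorem result {S : Type*} [Group S] [Finite S] (hS : Cfsg.IsWreathed S) (n : ℕ) (hn : Nat.card S = 2 ^ (2 * n + 1)) : IsCyclic (Subgroup.center S) ∧ Nat.card (Subgroup.center S) = 2 ^ n ∧ IsCyclic (commutator S) ∧ Nat.card (commutator S) = 2 ^ n ∧ Nonempty (S ⧸ Subgroup.center S ≃* DihedralGroup (2 ^ n)) := by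
  obtain ⟨n', hn', hcard, ⟨e⟩⟩ := exists_equiv_wr hS
  obtain ⟨r, rfl⟩ : ∃ r, n' = r + 2 := ⟨n' - 2, by omega⟩
  have hnr : n = r + 2 := by
    have := Nat.pow_right_injective (le_refl 2) (hn.symm.trans hcard); omega
  subst hnr
  have hec : ↥(commutator S) ≃* Multiplicative (ZMod (2 ^ (r + 2))) :=
    ((mapEquiv e _).trans (MulEquiv.subgroupCongr (by rw [map_commutator_top, Wr.commutator_eq]))).trans Wr.antiEquiv
  haveI : IsCyclic (Subgroup.center (Wr (2 ^ (r + 2)))) := Wr.isCyclic_center Wr.two_le_N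
  refine ⟨(Subgroup.centerCongr e).isCyclic.mpr inferInstance, ?_, hec.isCyclic.mpr inferInstance, ?_, ⟨?_⟩⟩
  · rw [Nat.card_congr ((Subgroup.centerCongr e).toEquiv.trans Wr.centerEquiv), Nat.card_zmod]
  · rw [Nat.card_congr (hec.toEquiv.trans Multiplicative.toAdd), Nat.card_zmod]
  · refine (QuotientGroup.congr (Subgroup.center S) (Wr.toDihedral r).ker e ?_).trans
      (QuotientGroup.quotientKerEquivOfSurjective _ Wr.toDihedral_surjective)
    rw [Wr.ker_toDihedral]
    ext x
    constructor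
    · rintro ⟨y, hy, rfl⟩
      exact Subgroup.mem_center_iff.mpr fun g => by
        obtain ⟨g, rfl⟩ := e.surjective g
        show e g * e y = e y * e g
        rw [← map_mul, ← map_mul, Subgroup.mem_center_iff.mp hy g]
    · intro hx
      exact ⟨e.symm x, Subgroup.mem_center_iff.mpr fun g => e.injective (by
        rw [map_mul, map_mul, e.apply_symm_apply]; exact Subgroup.mem_center_iff.mp hx (e g)), e.apply_symm_apply x⟩

end Cfsg.Agent.S1197
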