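import Cfsg.Statements.S1198
import Cfsg.Agent.Lib.Invol.QDW.Wreath
import Cfsg.Agent.Lib.Invol.QDW.WrBasics
import Cfsg.Agent.Lib.Invol.QDW.WrSubgroups
import Cfsg.Agent.Lib.Invol.QDW.Transport

set_option autoImplicit false
open Cfsg

namespace Cfsg.Agent.S1198

open CfsgLib.Invol.QDW

/-- A wreathed 2-group S has a normal Klein four-subgroup T such that every Klein four-subgroup of S other than T is conjugate in S to any other such subgroup; in particular S has exactly two conjugacy classes of Klein four-subgroups. -/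
theorem result {S : Type*} [Group S] [Finite S] (hS : Cfsg.IsWreathed S) : ∃ T : Subgroup S, IsKleinFour T ∧ T.Normal ∧ (∃ T₀ : Subgroup S, IsKleinFour T₀ ∧ T₀ ≠ T) ∧ ∀ T₁ T₂ : Subgroup S, IsKleinFour T₁ → IsKleinFour T₂ → T₁ ≠ T → T₂ ≠ T → ∃ s : S, T₁.map (MulAut.conj s).toMonoidHom = T₂ := by
  obtain ⟨n', hn', hcard, ⟨e⟩⟩ := exists_equiv_wr hS
  obtain ⟨r, rfl⟩ : ∃ r, n' = r + 2 := ⟨n' - 2, by omega⟩
  have hme : ∀ T : Subgroup (Wr (2 ^ (r + 2))), (T.comap e.toMonoidHom).map e.toMonoidHom = T := fun T =>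
    Subgroup.map_comap_eq_self_of_surjective e.surjective T
  have hk : ∀ T : Subgroup (Wr (2 ^ (r + 2))), IsKleinFour T → IsKleinFour (T.comap e.toMonoidHom) := fun T hT => by
    have h := isKleinFour_map e.symm hT
    rwa [Subgroup.map_equiv_eq_comap_symm', MulEquiv.symm_symm] at h
  have h1 : IsKleinFour (Wr.omegaBase r) := Wr.isKleinFour_of_sq Wr.card_omegaBase fun a ha => by
    obtain ⟨he, h1, h2⟩ := Wr.mem_omegaBase.mp ha
    ext <;> simp [he] <;> first | linear_combination h1 | linear_combination h2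
  have h2 : IsKleinFour (Wr.swapFour r) := Wr.isKleinFour_of_sq Wr.card_swapFour fun a ha => by
    obtain ⟨h1, h2⟩ := Wr.mem_swapFour.mp ha
    cases he : a.e <;> ext <;> simp [he, ← h1] <;> linear_combination h2
  haveI : (Wr.omegaBase r).Normal := inferInstance
  refine ⟨(Wr.omegaBase r).comap e.toMonoidHom, hk _ h1, inferInstance,
    ⟨(Wr.swapFour r).comap e.toMonoidHom, hk _ h2, fun h => ?_⟩, fun T₁ T₂ k1 k2 n1 n2 => ?_⟩
  · have h3 : (⟨0, 0, true⟩ : Wr (2 ^ (r + 2))) ∈ Wr.omegaBase r :=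
      Subgroup.comap_injective e.surjective h ▸ Wr.mem_swapFour.mpr ⟨rfl, by simp⟩
    exact Bool.noConfusion (Wr.mem_omegaBase.mp h3).1
  · obtain ⟨a, ha⟩ := (Wr.klein_cases (isKleinFour_map e k1)).resolve_left fun h => n1 (eq_comap_of_map_eq e h)
    obtain ⟨b, hb⟩ := (Wr.klein_cases (isKleinFour_map e k2)).resolve_left fun h => n2 (eq_comap_of_map_eq e h)
    refine exists_map_conj e ⟨b⁻¹ * a, ?_⟩
    apply Subgroup.map_injective (f := (MulAut.conj b).toMonoidHom) (MulAut.conj b).injective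
    rw [hb, ← ha, Subgroup.map_map]
    congr 1
    refine MonoidHom.ext fun x => ?_
    show b * (b⁻¹ * a * x * (b⁻¹ * a)⁻¹) * b⁻¹ = a * x * a⁻¹
    group

end Cfsg.Agent.S1198
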