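import Cfsg.Statements.S1199
import Cfsg.Agent.Lib.Invol.QDW.Wreath
import Cfsg.Agent.Lib.Invol.QDW.WrBasics
import Cfsg.Agent.Lib.Invol.QDW.WrSubgroups
import Cfsg.Agent.Lib.Invol.QDW.Transport

set_option autoImplicit false
open Cfsg

namespace Cfsg.Agent.S1199

open CfsgLib.Invol.QDW

/-- A wreathed 2-group S of order 2^(2n+1) has exactly one subgroup of order 2^(n+1) isomorphic to a generalized quaternion group, and that subgroup is normal in S. -/
theorem result {S : Type*} [Group S] [Finite S] (hS : Cfsg.IsWreathed S) (n : ℕ) (hn : Nat.card S = 2 ^ (2 * n + 1)) : (∃! Y : Subgroup S, Nat.card Y = 2 ^ (n + 1) ∧ Nonempty (Y ≃* QuaternionGroup (2 ^ (n - 1)))) ∧ ∀ Y : Subgroup S, Nat.card Y = 2 ^ (n + 1) → Nonempty (Y ≃* QuaternionGroup (2 ^ (n - 1))) → Y.Normal := by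
  obtain ⟨n', hn', hcard, ⟨e⟩⟩ := exists_equiv_wr hS
  obtain ⟨r, rfl⟩ : ∃ r, n' = r + 2 := ⟨n' - 2, by omega⟩
  have hnr : n = r + 2 := by
    have := Nat.pow_right_injective (le_refl 2) (hn.symm.trans hcard); omega
  subst hnr
  let f : QuaternionGroup (2 ^ (r + 1)) →* Wr (2 ^ (r + 2)) :=
    Wr.quatHom (2 ^ (r + 1)) (ZMod.ringEquivCongr (show 2 * 2 ^ (r + 1) = 2 ^ (r + 2) by rw [← pow_succ'])).toRingHom.toAddMonoidHom
      (by rw [Wr.hf]; show (ZMod.ringEquivCongr _) ((2 ^ (r + 1) : ℕ) : ZMod (2 * 2 ^ (r + 1))) = _; rw [map_natCast]; push_cast; rfl)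
  have hinj : Function.Injective f :=
    Wr.quatHom_injective _ _ _ (RingEquiv.injective _)
  haveI : NeZero (2 ^ (r + 1)) := ⟨by positivity⟩
  have hqc : Nat.card (QuaternionGroup (2 ^ (r + 1))) = 2 ^ (r + 3) := by
    rw [Nat.card_eq_fintype_card, QuaternionGroup.card]; ring
  have hrange : f.range = Wr.sumEq r := by
    refine Subgroup.eq_of_le_of_card_ge (Wr.range_le_sumEq f hinj) ?_
    rw [Wr.card_sumEq, Nat.card_congr (MonoidHom.ofInjective hinj).toEquiv.symm, hqc]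
  have key : ∀ Y : Subgroup S, Nat.card Y = 2 ^ (r + 2 + 1) → Nonempty (Y ≃* QuaternionGroup (2 ^ (r + 2 - 1))) →
      Y = (Wr.sumEq r).comap e.toMonoidHom := by
    rintro Y hY ⟨q⟩
    refine eq_comap_of_map_eq e ?_
    let g : QuaternionGroup (2 ^ (r + 1)) →* Wr (2 ^ (r + 2)) :=
      (e.toMonoidHom.comp Y.subtype).comp q.symm.toMonoidHom
    have hg : Function.Injective g := e.injective.comp (Subtype.val_injective.comp q.symm.injective)
    have hr : g.range = Y.map e.toMonoidHom := by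
      ext x
      constructor
      · rintro ⟨u, rfl⟩; exact ⟨_, (q.symm u).2, rfl⟩
      · rintro ⟨y, hy, rfl⟩; exact ⟨q ⟨y, hy⟩, congrArg (fun u : Y => e (u : S)) (q.symm_apply_apply ⟨y, hy⟩)⟩
    rw [← hr]
    refine Subgroup.eq_of_le_of_card_ge (Wr.range_le_sumEq g hg) ?_
    rw [Wr.card_sumEq, Nat.card_congr (MonoidHom.ofInjective hg).toEquiv.symm, hqc]
  let te : ↥((Wr.sumEq r).comap e.toMonoidHom) ≃* ↥(Wr.sumEq r) :=
    (mapEquiv e _).trans (MulEquiv.subgroupCongr (Subgroup.map_comap_eq_self_of_surjective e.surjective _))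
  refine ⟨⟨_, ⟨by rw [Nat.card_congr te.toEquiv, Wr.card_sumEq],
    ⟨te.trans ((MonoidHom.ofInjective hinj).trans (MulEquiv.subgroupCongr hrange)).symm⟩⟩,
    fun Y hY => key Y hY.1 hY.2⟩, fun Y h1 h2 => ?_⟩
  rw [key Y h1 h2]
  infer_instance

end Cfsg.Agent.S1199
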