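import Cfsg.Statements.S1200
import Cfsg.Agent.Lib.Invol.QDW.Wreath
import Cfsg.Agent.Lib.Invol.QDW.WrBasics
import Cfsg.Agent.Lib.Invol.QDW.WrSubgroups
import Cfsg.Agent.Lib.Invol.QDW.Transport

set_option autoImplicit false
open Cfsg

namespace Cfsg.Agent.S1200

open CfsgLib.Invol.QDW

/-- Let S be a wreathed 2-group of order 2^(2n+1) and Ω the subgroup generated by its involutions. Then Ω has order 2^(n+2) and S/Ω is cyclic: some s ∈ S together with Ω generates S. -/
theorem result {S : Type*} [Group S] [Finite S] (hS : Cfsg.IsWreathed S) (n : ℕ) (hn : Nat.card S = 2 ^ (2 * n + 1)) : Nat.card (Subgroup.closure {x : S | orderOf x = 2}) = 2 ^ (n + 2) ∧ ∃ s : S, Subgroup.closure {x : S | orderOf x = 2} ⊔ Subgroup.zpowers s = ⊤ := by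
  obtain ⟨n', hn', hcard, ⟨e⟩⟩ := exists_equiv_wr hS
  obtain ⟨r, rfl⟩ : ∃ r, n' = r + 2 := ⟨n' - 2, by omega⟩
  have hnr : n = r + 2 := by
    have := Nat.pow_right_injective (le_refl 2) (hn.symm.trans hcard); omega
  subst hnr
  have hcl : (Subgroup.closure {x : S | orderOf x = 2}).map e.toMonoidHom = Wr.sumTwo r := by
    rw [MonoidHom.map_closure, ← Wr.closure_involutions]
    congr 1
    ext x
    constructor
    · rintro ⟨y, hy, rfl⟩; show orderOf (e y) = 2; rwa [MulEquiv.orderOf_eq]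
    · intro hx; exact ⟨e.symm x, by show orderOf (e.symm x) = 2; rwa [MulEquiv.orderOf_eq], by simp⟩
  refine ⟨?_, e.symm ⟨1, 0, false⟩, ?_⟩
  · rw [Nat.card_congr ((mapEquiv e _).trans (MulEquiv.subgroupCongr hcl)).toEquiv, Wr.card_sumTwo]
  · apply Subgroup.map_injective (f := e.toMonoidHom) e.injective
    rw [Subgroup.map_sup, hcl, MonoidHom.map_zpowers, MulEquiv.coe_toMonoidHom, MulEquiv.apply_symm_apply,
      Wr.sumTwo_sup_zpowers, Subgroup.map_top_of_surjective _ e.surjective]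

end Cfsg.Agent.S1200
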