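import Cfsg.Statements.S1201
import Cfsg.Agent.Lib.Invol.QDW.Wreath
import Cfsg.Agent.Lib.Invol.QDW.WrBasics
import Cfsg.Agent.Lib.Invol.QDW.WrSubgroups
import Cfsg.Agent.Lib.Invol.QDW.Transport

set_option autoImplicit false
open Cfsg

namespace Cfsg.Agent.S1201

open CfsgLib.Invol.QDW

/-- If X is a non-commutative subgroup of a wreathed 2-group S, then Z(X) ≤ Z(S). -/
theorem result {S : Type*} [Group S] [Finite S] (hS : Cfsg.IsWreathed S) (X : Subgroup S) (hX : ¬ IsMulCommutative X) : (Subgroup.center X).map X.subtype ≤ Subgroup.center S := by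
  obtain ⟨n', hn', hcard, ⟨e⟩⟩ := exists_equiv_wr hS
  obtain ⟨r, rfl⟩ : ∃ r, n' = r + 2 := ⟨n' - 2, by omega⟩
  have hX' : ¬ IsMulCommutative (X.map e.toMonoidHom) := fun h => hX ⟨⟨fun a b =>
    (mapEquiv e X).injective (by rw [map_mul, map_mul]; exact mul_comm' _ _)⟩⟩
  rintro _ ⟨a, ha, rfl⟩
  have h1 : e a ∈ Subgroup.center (Wr (2 ^ (r + 2))) := by
    refine Wr.center_le_of_nonabelian hX' ⟨mapEquiv e X a, Subgroup.mem_center_iff.mpr fun g => ?_, rfl⟩
    obtain ⟨g, rfl⟩ := (mapEquiv e X).surjective g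
    rw [← map_mul, ← map_mul, Subgroup.mem_center_iff.mp ha g]
  exact Subgroup.mem_center_iff.mpr fun g => e.injective (by
    rw [map_mul, map_mul]; exact Subgroup.mem_center_iff.mp h1 (e g))

end Cfsg.Agent.S1201
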