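import Cfsg.Statements.S1202
import Cfsg.Agent.Lib.Invol.QDW.Wreath
import Cfsg.Agent.Lib.Invol.QDW.WrBasics
import Cfsg.Agent.Lib.Invol.QDW.WrSubgroups
import Cfsg.Agent.Lib.Invol.QDW.Transport
import Cfsg.Agent.Lib.Invol.QDW.WrAut

set_option autoImplicit false
open Cfsg

namespace Cfsg.Agent.S1202

open CfsgLib.Invol.QDW

/-- Let S be a wreathed 2-group of order 2^(2n+1) and X a subgroup with C_S(X) ≤ X such that Aut(X) is not a 2-group. Then |N_S(X) : X| = 2, and either X is the commutative subgroup of order 2^(2n), or X = Q·Z(S) for some subgroup Q ≅ Q₈; in the latter case any two such subgroups are conjugate in S. -/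
theorem result {S : Type*} [Group S] [Finite S] (hS : Cfsg.IsWreathed S) (n : ℕ) (hn : Nat.card S = 2 ^ (2 * n + 1)) (X : Subgroup S) (hC : Subgroup.centralizer (X : Set S) ≤ X) (hA : ¬ IsPGroup 2 (MulAut X)) : X.relIndex (Subgroup.normalizer (X : Set S)) = 2 ∧ ((IsMulCommutative X ∧ Nat.card X = 2 ^ (2 * n)) ∨ ∃ Q : Subgroup S, Nonempty (Q ≃* QuaternionGroup 2) ∧ X = Q ⊔ Subgroup.center S) ∧ ∀ X' : Subgroup S, Subgroup.centralizer (X' : Set S) ≤ X' → ¬ IsPGroup 2 (MulAut X') → ¬ IsMulCommutative X → ¬ IsMulCommutative X' → ∃ s : S, X.map (MulAut.conj s).toMonoidHom = X' := by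
  obtain ⟨n', hn', hcard, ⟨e⟩⟩ := exists_equiv_wr hS
  obtain ⟨r, rfl⟩ : ∃ r, n' = r + 2 := ⟨n' - 2, by omega⟩
  have hnr : n = r + 2 := by
    have := Nat.pow_right_injective (le_refl 2) (hn.symm.trans hcard); omega
  subst hnr
  have hN : (2 : ℕ) ^ (2 * (r + 2)) = 2 ^ (r + 2) * 2 ^ (r + 2) := by rw [← pow_add]; congr 1; ring
  have cases : ∀ Y : Subgroup S, Subgroup.centralizer (Y : Set S) ≤ Y → ¬ IsPGroup 2 (MulAut Y) →
      Y.map e.toMonoidHom = Wr.base (2 ^ (r + 2)) ∨
        ∃ s, (Y.map e.toMonoidHom).map (MulAut.conj s).toMonoidHom = Wr.diffTwo r := by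
    intro Y hY hAY
    refine Wr.self_centralizing_cases (fun a ha => ?_) fun h => hAY (h.of_equiv (MulAut.congr (mapEquiv e Y)).symm)
    obtain ⟨a, rfl⟩ := e.surjective a
    exact Subgroup.mem_map_of_mem _ (hY ((mem_centralizer_map e).mpr ha))
  have comm_base : ∀ Y : Subgroup S, Y.map e.toMonoidHom = Wr.base (2 ^ (r + 2)) → IsMulCommutative Y := by
    intro Y hY
    refine ⟨⟨fun a b => Subtype.ext (e.injective ?_)⟩⟩
    show e ((a : S) * b) = e ((b : S) * a)
    rw [map_mul, map_mul]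
    exact Wr.base_comm (hY ▸ Subgroup.mem_map_of_mem _ a.2) (hY ▸ Subgroup.mem_map_of_mem _ b.2)
  refine ⟨?_, ?_, fun X' hC' hA' hXn hX'n => ?_⟩
  · rw [← relIndex_map e, map_normalizer]
    rcases cases X hC hA with h | ⟨s, hs⟩
    · haveI : (Wr.base (2 ^ (r + 2))).Normal := Subgroup.normal_of_index_eq_two Wr.index_base
      rw [h, Subgroup.normalizer_eq_top, Subgroup.relIndex_top_right, Wr.index_base]
    · rw [← relIndex_map (MulAut.conj s), map_normalizer, hs, Wr.normalizer_diffTwo, Wr.relIndex_diffTwo]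
  · rcases cases X hC hA with h | ⟨s, hs⟩
    · exact Or.inl ⟨comm_base X h, by
        rw [Nat.card_congr ((mapEquiv e X).trans (MulEquiv.subgroupCongr h)).toEquiv, Wr.card_base, hN]⟩
    · obtain ⟨Q, ⟨q⟩, hQ⟩ := Wr.exists_quaternion_diffTwo (r := r)
      let θ : S ≃* Wr (2 ^ (r + 2)) := e.trans (MulAut.conj s)
      have hθ : X.map θ.toMonoidHom = Wr.diffTwo r := by rw [← hs, Subgroup.map_map]; rfl
      right
      refine ⟨Q.comap θ.toMonoidHom,
        ⟨((mapEquiv θ _).trans (MulEquiv.subgroupCongr (Subgroup.map_comap_eq_self_of_surjective θ.surjective Q))).trans q⟩, ?_⟩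
      apply Subgroup.map_injective (f := θ.toMonoidHom) θ.injective
      rw [hθ, Subgroup.map_sup, Subgroup.map_comap_eq_self_of_surjective θ.surjective, hQ]
      congr 1
      ext x
      constructor
      · intro hx
        exact ⟨θ.symm x, Subgroup.mem_center_iff.mpr fun g => θ.injective (by
          rw [map_mul, map_mul, θ.apply_symm_apply]; exact Subgroup.mem_center_iff.mp hx (θ g)), θ.apply_symm_apply x⟩
      · rintro ⟨y, hy, rfl⟩
        exact Subgroup.mem_center_iff.mpr fun g => by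
          obtain ⟨g, rfl⟩ := θ.surjective g
          show θ g * θ y = θ y * θ g
          rw [← map_mul, ← map_mul, Subgroup.mem_center_iff.mp hy g]
  · obtain ⟨a, ha⟩ := (cases X hC hA).resolve_left fun h => hXn (comm_base X h)
    obtain ⟨b, hb⟩ := (cases X' hC' hA').resolve_left fun h => hX'n (comm_base X' h)
    refine exists_map_conj e ⟨b⁻¹ * a, ?_⟩
    apply Subgroup.map_injective (f := (MulAut.conj b).toMonoidHom) (MulAut.conj b).injective
    rw [hb, ← ha, Subgroup.map_map]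
    congr 1
    refine MonoidHom.ext fun x => ?_
    show b * (b⁻¹ * a * x * (b⁻¹ * a)⁻¹) * b⁻¹ = a * x * a⁻¹
    group

end Cfsg.Agent.S1202
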