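import Cfsg.Statements.S1215
import Cfsg.Agent.Lib.Invol.QDW.CenterCentral

set_option autoImplicit false
open Cfsg

namespace Cfsg.Agent.S1215

/-- Let H be a finite group with quasi-dihedral or wreathed Sylow 2-subgroup S such that H has a normal subgroup K of index a power of 2 with no subgroup of index 2 and with generalized quaternion Sylow 2-subgroups, and such that every subgroup of Z(S) is weakly closed in S with respect to H. Then H = O(H) C_H(Z(S)): every element of H is the product of an element of the largest normal odd-order subgroup and an element centralizing Z(S). -/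
theorem result {H : Type*} [Group H] [Finite H] (S : Sylow 2 H) (hS : Cfsg.IsQuasiDihedral (S : Subgroup H) ∨ Cfsg.IsWreathed (S : Subgroup H)) (hQ : (∃ K : Subgroup H, K.Normal ∧ (∃ a : ℕ, K.index = 2 ^ a) ∧ (∀ M : Subgroup ↥K, M.index ≠ 2) ∧ (∀ P : Sylow 2 ↥K, ∃ m : ℕ, 1 ≤ m ∧ Nonempty ((P : Subgroup ↥K) ≃* QuaternionGroup (2 ^ m)))) ∧ (∀ Z₀ : Subgroup H, Z₀ ≤ ((Subgroup.center (S : Subgroup H)).map (S : Subgroup H).subtype) → Cfsg.IsWeaklyClosed Z₀ (S : Subgroup H))) (h : H) : ∃ o ∈ Cfsg.oddCore H, ∃ c ∈ Subgroup.centralizer (((Subgroup.center (S : Subgroup H)).map (S : Subgroup H).subtype : Subgroup H) : Set H), h = o * c := by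
  classical
  haveI hOn : (Cfsg.oddCore H).Normal := by
    have := CfsgLib.Cores.pPrimeCore_characteristic (G := H) 2
    exact inferInstanceAs (Cfsg.pPrimeCore 2 H).Normal
  set O := Cfsg.oddCore H with hOdef
  set Z := (Subgroup.center (S : Subgroup H)).map (S : Subgroup H).subtype with hZdef
  have hZS : Z ≤ (S : Subgroup H) := Subgroup.map_subtype_le _
  -- an involution in the centre
  have hSne : Nontrivial (S : Subgroup H) := by
    rcases hS with ⟨n, -, hc, -⟩ | ⟨n, -, hc, -⟩ <;>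
    · rw [← Finite.one_lt_card_iff_nontrivial, hc]
      exact Nat.one_lt_two_pow (by omega)
  have hcnt : Nontrivial (Subgroup.center (S : Subgroup H)) := S.2.center_nontrivial
  obtain ⟨c, hc⟩ : ∃ c : Subgroup.center (S : Subgroup H), orderOf c = 2 := by
    refine exists_prime_orderOf_dvd_card' 2 ?_
    obtain ⟨m, hm⟩ := (S.2.to_subgroup (Subgroup.center (S : Subgroup H))).exists_card_eq
    rcases Nat.eq_zero_or_pos m with h0 | h0
    · have := Finite.one_lt_card (α := Subgroup.center (S : Subgroup H))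
      rw [hm, h0, pow_zero] at this; omega
    · rw [hm]; exact dvd_pow_self 2 h0.ne'
  set z : H := ((c : (S : Subgroup H)) : H)
  have hz2 : orderOf z = 2 := by
    show orderOf ((c : (S : Subgroup H)) : H) = 2
    rw [Subgroup.orderOf_coe, Subgroup.orderOf_coe]; exact hc
  have hzZ : z ∈ Z := Subgroup.mem_map_of_mem _ c.2
  have hzS : z ∈ (S : Subgroup H) := hZS hzZ
  have hiso : Cfsg.IsIsolatedInvolution z := by
    refine CfsgLib.Invol.isolated_of_sylow S hz2 hzS fun g hg => ?_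
    have hle : (Subgroup.zpowers z).map (MulAut.conj g).toMonoidHom ≤ (S : Subgroup H) := by
      rw [MonoidHom.map_zpowers, Subgroup.zpowers_le]; exact hg
    have h1 := (hQ.2 _ (Subgroup.zpowers_le.mpr hzZ)).2 g hle
    have h2 : g * z * g⁻¹ ∈ Subgroup.zpowers z := by
      rw [← h1]; exact ⟨z, Subgroup.mem_zpowers z, rfl⟩
    obtain ⟨i, hi⟩ := Subgroup.mem_zpowers_iff.mp h2
    rcases Int.even_or_odd i with ⟨j, rfl⟩ | ⟨j, rfl⟩
    · exfalso
      rw [← two_mul, zpow_mul, zpow_two, CfsgLib.Invol.mul_self_of_orderOf_two hz2, one_zpow] at hi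
      have := (CfsgLib.Invol.orderOf_conj_eq g z).trans hz2
      rw [← hi, orderOf_one] at this
      omega
    · rw [← hi, zpow_add, zpow_one, zpow_mul, zpow_two, CfsgLib.Invol.mul_self_of_orderOf_two hz2,
        one_zpow, one_mul]
  have hcomm := CfsgLib.Invol.QDW.center_mod_oddCore S hS hzS hiso
  set M := Z ⊔ O with hMdef
  have hdisj : ∀ x, x ∈ Z → x ∈ O → x = 1 := fun x hxZ hxO =>
    CfsgLib.Invol.eq_one_of_odd_of_mem S.2 (hZS hxZ)
      (CfsgLib.Cores.odd_card_oddCore.of_dvd_nat (Subgroup.orderOf_dvd_natCard O hxO))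
  have hZp : IsPGroup 2 (Z.subgroupOf M) :=
    (S.2.to_le hZS).of_equiv (Subgroup.subgroupOfEquivOfLe (le_sup_left : Z ≤ M)).symm
  have hZi : ¬ 2 ∣ (Z.subgroupOf M).index := by
    have hdvd : (Z.subgroupOf M).index ∣ Nat.card O := by
      have h1 := Subgroup.card_mul_index (Z.subgroupOf M)
      rw [Nat.card_congr (Subgroup.subgroupOfEquivOfLe (le_sup_left : Z ≤ M)).toEquiv] at h1
      have h2 : Nat.card M ∣ Nat.card Z * Nat.card O := by
        rw [mul_comm, hMdef, sup_comm]; exact CfsgLib.Cores.card_sup_dvd_mul O Z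
      rw [← h1] at h2
      exact (Nat.mul_dvd_mul_iff_left Nat.card_pos).mp h2
    intro h2
    exact (Nat.not_even_iff_odd.mpr (CfsgLib.Cores.odd_card_oddCore (G := H)))
      (even_iff_two_dvd.mpr (h2.trans hdvd))
  let P : Sylow 2 M := hZp.toSylow hZi
  have hconjM : Z.map (MulAut.conj h).toMonoidHom ≤ M := by
    rintro _ ⟨a, ha, rfl⟩
    show h * a * h⁻¹ ∈ M
    rw [show h * a * h⁻¹ = (h * a * h⁻¹ * a⁻¹) * a by group]
    exact M.mul_mem ((le_sup_right : O ≤ M) (hcomm a ha h)) ((le_sup_left : Z ≤ M) ha)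
  obtain ⟨q, hq⟩ := CfsgLib.Transfer.exists_conj_mem_sylow P
    (S := (Z.map (MulAut.conj h).toMonoidHom).subgroupOf M)
    (((S.2.to_le hZS).map _).of_equiv (Subgroup.subgroupOfEquivOfLe hconjM).symm)
  obtain ⟨a0, ha0, o, ho, hq0⟩ := Subgroup.mem_sup_of_normal_right.mp q.2
  refine ⟨o⁻¹, inv_mem ho, o * h, Subgroup.mem_centralizer_iff.mpr fun a ha => ?_, by group⟩
  -- conjugation by `o * h` sends `a` into `Z`, and agrees with `a` modulo `O`
  have h1 : (q : H) * (h * a * h⁻¹) * (q : H)⁻¹ ∈ Z :=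
    hq ⟨_, hconjM (Subgroup.mem_map_of_mem _ ha)⟩ (Subgroup.mem_map_of_mem _ ha)
  rw [← hq0] at h1
  have h2 : (o * h) * a * (o * h)⁻¹ ∈ Z := by
    have := Z.mul_mem (Z.mul_mem (Z.inv_mem ha0) h1) ha0
    rw [show (o * h) * a * (o * h)⁻¹ = a0⁻¹ * (a0 * o * (h * a * h⁻¹) * (a0 * o)⁻¹) * a0 by group]
    exact this
  have h3 : (o * h) * a * (o * h)⁻¹ * a⁻¹ = 1 :=
    hdisj _ (Z.mul_mem h2 (Z.inv_mem ha)) (hcomm a ha (o * h))
  exact (mul_inv_eq_iff_eq_mul.mp (mul_inv_eq_one.mp h3)).symm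

end Cfsg.Agent.S1215
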