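import Cfsg.Statements.S1227
import Cfsg.Agent.Lib.Invol.Zassenhaus

set_option autoImplicit false
open Cfsg

namespace Cfsg.Agent.S1227

/-- Let G be a finite group with a Sylow 2-subgroup T that is neither cyclic nor normal, such that the centralizer of every involution is an elementary abelian 2-group; put H = N_G(T), let u be an involution outside H and D = H ∩ uHu⁻¹. Then u inverts every element of D, |H| = |T|·(|T| − 1), and D is a complement to T in H. -/
theorem result {G : Type*} [Group G] [Finite G] (T : Sylow 2 G) (hnc : ¬ IsCyclic (T : Subgroup G)) (hnn : ¬ (T : Subgroup G).Normal) (hC : ∀ t : G, orderOf t = 2 → IsMulCommutative (Subgroup.centralizer ({t} : Set G)) ∧ ∀ c ∈ Subgroup.centralizer ({t} : Set G), c ^ 2 = 1) (u : G) (hu : orderOf u = 2) (huH : u ∉ Subgroup.normalizer ((T : Subgroup G) : Set G)) : (∀ d ∈ Subgroup.normalizer ((T : Subgroup G) : Set G) ⊓ (Subgroup.normalizer ((T : Subgroup G) : Set G)).map (MulAut.conj u).toMonoidHom,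 u * d * u⁻¹ = d⁻¹) ∧ Nat.card (Subgroup.normalizer ((T : Subgroup G) : Set G)) = Nat.card T * (Nat.card T - 1) ∧ Subgroup.IsComplement' ((Subgroup.normalizer ((T : Subgroup G) : Set G) ⊓ (Subgroup.normalizer ((T : Subgroup G) : Set G)).map (MulAut.conj u).toMonoidHom).subgroupOf (Subgroup.normalizer ((T : Subgroup G) : Set G))) ((T : Subgroup G).subgroupOf (Subgroup.normalizer ((T : Subgroup G) : Set G))) := by
  have S : CfsgLib.Invol.Zass.Setup T := ⟨hnc, hnn, hC⟩
  have hy : (QuotientGroup.mk u : G ⧸ Subgroup.normalizer ((T : Subgroup G) : Set G)) ≠ QuotientGroup.mk 1 :=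
    fun h => huH (by simpa using QuotientGroup.eq.mp h)
  have hux : u • (QuotientGroup.mk 1 : G ⧸ Subgroup.normalizer ((T : Subgroup G) : Set G)) = QuotientGroup.mk u := by
    rw [MulAction.Quotient.smul_mk, smul_eq_mul, mul_one]
  rw [← CfsgLib.Invol.Zass.D_mk]
  have hcardN : Nat.card (Subgroup.normalizer ((T : Subgroup G) : Set G)) =
      Nat.card (CfsgLib.Invol.Zass.D T (QuotientGroup.mk u)) * Nat.card (T : Subgroup G) := by
    rw [← Nat.card_prod]
    refine (Nat.card_eq_of_bijective (fun p => ⟨(p.1 : G) * p.2,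
      mul_mem (CfsgLib.Invol.Zass.mem_D.mp p.1.2).1 (Subgroup.le_normalizer p.2.2)⟩) ⟨?_, ?_⟩).symm
    · rintro ⟨⟨a, ha⟩, ⟨b, hb⟩⟩ ⟨⟨a', ha'⟩, ⟨b', hb'⟩⟩ h
      simp only [Subtype.mk.injEq] at h
      have h1 : a'⁻¹ * a = b' * b⁻¹ := by
        calc a'⁻¹ * a = a'⁻¹ * (a * b) * b⁻¹ := by group
          _ = b' * b⁻¹ := by rw [h]; group
      have h2 := S.T_inf_D hy (h1 ▸ mul_mem hb' (inv_mem hb) : a'⁻¹ * a ∈ (T : Subgroup G))
        (mul_mem (inv_mem ha') ha)
      have h3 : a = a' := (inv_mul_eq_one.mp h2).symm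
      subst h3
      simp [mul_left_cancel h]
    · rintro ⟨h, hh⟩
      obtain ⟨d, hd, a, ha, rfl⟩ := S.exists_eq_mul hy hh
      exact ⟨⟨⟨d, hd⟩, ⟨a, ha⟩⟩, rfl⟩
  refine ⟨fun d hd => S.invert hy hu hux hd, ?_, ?_⟩
  · rw [hcardN, mul_comm, ← S.card_D_add_one hy, Nat.add_sub_cancel]
  · refine Subgroup.isComplement'_of_card_mul_and_disjoint ?_ ?_
    · rw [Nat.card_congr (Subgroup.subgroupOfEquivOfLe (fun d hd => (CfsgLib.Invol.Zass.mem_D.mp hd).1 : CfsgLib.Invol.Zass.D T (QuotientGroup.mk u) ≤ Subgroup.normalizer ((T : Subgroup G) : Set G))).toEquiv,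
        Nat.card_congr (Subgroup.subgroupOfEquivOfLe Subgroup.le_normalizer).toEquiv, hcardN]
    · rw [disjoint_iff, eq_bot_iff]
      intro a ha
      exact Subtype.ext (S.T_inf_D hy ha.2 ha.1)

end Cfsg.Agent.S1227
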