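import Cfsg.Statements.S1228
import Cfsg.Agent.Lib.Invol.Zassenhaus

set_option autoImplicit false
open Cfsg

namespace Cfsg.Agent.S1228

/-- Let G be a finite group with a Sylow 2-subgroup T that is neither cyclic nor normal, such that the centralizer of every involution is an elementary abelian 2-group; put H = N_G(T), let u be an involution outside H and D = H ∩ uHu⁻¹. Then N_G(D) = D ⊔ ⟨u⟩, and a coset gH is fixed by every element of D exactly when gH = H or gH = uH. -/
theorem result {G : Type*} [Group G] [Finite G] (T : Sylow 2 G) (hnc : ¬ IsCyclic (T : Subgroup G)) (hnn : ¬ (T : Subgroup G).Normal) (hC : ∀ t : G, orderOf t = 2 → IsMulCommutative (Subgroup.centralizer ({t} : Set G)) ∧ ∀ c ∈ Subgroup.centralizer ({t} : Set G), c ^ 2 = 1) (u : G) (hu : orderOf u = 2) (huH : u ∉ Subgroup.normalizer ((T : Subgroup G) : Set G)) : Subgroup.normalizer ((Subgroup.normalizer ((T : Subgroup G) : Set G) ⊓ (Subgroup.normalizer ((T : Subgroup G) : Set G)).map (MulAut.conj u).toMonoidHom : Subgroup G) : Set G)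 = (Subgroup.normalizer ((T : Subgroup G) : Set G) ⊓ (Subgroup.normalizer ((T : Subgroup G) : Set G)).map (MulAut.conj u).toMonoidHom) ⊔ Subgroup.zpowers u ∧ ∀ g : G, ((∀ d ∈ Subgroup.normalizer ((T : Subgroup G) : Set G) ⊓ (Subgroup.normalizer ((T : Subgroup G) : Set G)).map (MulAut.conj u).toMonoidHom, d • (QuotientGroup.mk g : G ⧸ Subgroup.normalizer ((T : Subgroup G) : Set G)) = QuotientGroup.mk g) ↔ (QuotientGroup.mk g : G ⧸ Subgroup.normalizer ((T : Subgroup G) : Set G)) = QuotientGroup.mk 1 ∨ (QuotientGroup.mk g : G ⧸ Subgroup.normalizer ((T : Subgroup G) : Set G)) = QuotientGroup.mk u) := by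
  have S : CfsgLib.Invol.Zass.Setup T := ⟨hnc, hnn, hC⟩
  have hy : (QuotientGroup.mk u : G ⧸ Subgroup.normalizer ((T : Subgroup G) : Set G)) ≠ QuotientGroup.mk 1 :=
    fun h => huH (by simpa using QuotientGroup.eq.mp h)
  have hux : u • (QuotientGroup.mk 1 : G ⧸ Subgroup.normalizer ((T : Subgroup G) : Set G)) = QuotientGroup.mk u := by
    rw [MulAction.Quotient.smul_mk, smul_eq_mul, mul_one]
  rw [← CfsgLib.Invol.Zass.D_mk]
  have hd_inv : ∀ e ∈ CfsgLib.Invol.Zass.D T (QuotientGroup.mk u), u * e * u⁻¹ = e⁻¹ :=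
    fun e he => S.invert hy hu hux he
  constructor
  · apply le_antisymm
    · intro g hg
      have key : ∀ a : G, a ∈ Subgroup.normalizer ((CfsgLib.Invol.Zass.D T (QuotientGroup.mk u) : Subgroup G) : Set G) →
          a • (QuotientGroup.mk 1 : G ⧸ Subgroup.normalizer ((T : Subgroup G) : Set G)) = QuotientGroup.mk 1 →
          a ∈ CfsgLib.Invol.Zass.D T (QuotientGroup.mk u) := by
        intro a ha hax
        refine CfsgLib.Invol.Zass.mem_D.mpr ⟨CfsgLib.Invol.Zass.mem_N_iff_fix.mpr hax, ?_⟩
        refine S.fixed_eq hy (fun h => hy ?_) fun e he => ?_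
        · exact (eq_inv_smul_iff.mpr h).trans (inv_smul_eq_iff.mpr hax.symm)
        · have he' := (Subgroup.mem_normalizer_iff''.mp ha e).mp he
          rw [show e • a • (QuotientGroup.mk u : G ⧸ Subgroup.normalizer ((T : Subgroup G) : Set G)) =
            a • (a⁻¹ * e * a) • (QuotientGroup.mk u : G ⧸ Subgroup.normalizer ((T : Subgroup G) : Set G)) by
            rw [← mul_smul, ← mul_smul]; congr 1; group, (CfsgLib.Invol.Zass.mem_D.mp he').2]
      by_cases h1 : g • (QuotientGroup.mk 1 : G ⧸ Subgroup.normalizer ((T : Subgroup G) : Set G)) = QuotientGroup.mk 1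
      · exact Subgroup.mem_sup_left (key g hg h1)
      · have h2 : g • (QuotientGroup.mk 1 : G ⧸ Subgroup.normalizer ((T : Subgroup G) : Set G)) = QuotientGroup.mk u := by
          refine S.fixed_eq hy h1 fun e he => ?_
          have he' := (Subgroup.mem_normalizer_iff''.mp hg e).mp he
          rw [show e • g • (QuotientGroup.mk 1 : G ⧸ Subgroup.normalizer ((T : Subgroup G) : Set G)) =
            g • (g⁻¹ * e * g) • (QuotientGroup.mk 1 : G ⧸ Subgroup.normalizer ((T : Subgroup G) : Set G)) by
            rw [← mul_smul, ← mul_smul]; congr 1; group,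
            CfsgLib.Invol.Zass.mem_N_iff_fix.mp (CfsgLib.Invol.Zass.mem_D.mp he').1]
        have hun : u ∈ Subgroup.normalizer ((CfsgLib.Invol.Zass.D T (QuotientGroup.mk u) : Subgroup G) : Set G) :=
          CfsgLib.Invol.mem_normalizer_of_map_conj_le (CfsgLib.Invol.map_conj_le_iff.mpr fun e he => by
            rw [hd_inv e he]; exact inv_mem he)
        have h3 := key (u⁻¹ * g) (mul_mem (inv_mem hun) hg) (by rw [mul_smul, h2, ← hux, inv_smul_smul])
        have : g = (u * (u⁻¹ * g) * u⁻¹) * u := by group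
        rw [this]
        refine mul_mem (Subgroup.mem_sup_left ?_) (Subgroup.mem_sup_right (Subgroup.mem_zpowers u))
        rw [hd_inv _ h3]
        exact inv_mem h3
    · refine sup_le Subgroup.le_normalizer (Subgroup.zpowers_le.mpr ?_)
      exact CfsgLib.Invol.mem_normalizer_of_map_conj_le (CfsgLib.Invol.map_conj_le_iff.mpr fun e he => by
        rw [hd_inv e he]; exact inv_mem he)
  · intro g
    constructor
    · intro h
      by_cases hg : (QuotientGroup.mk g : G ⧸ Subgroup.normalizer ((T : Subgroup G) : Set G)) = QuotientGroup.mk 1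
      · exact Or.inl hg
      · exact Or.inr (S.fixed_eq hy hg h)
    · rintro (h | h) e he
      · rw [h]; exact CfsgLib.Invol.Zass.mem_N_iff_fix.mp (CfsgLib.Invol.Zass.mem_D.mp he).1
      · rw [h]; exact (CfsgLib.Invol.Zass.mem_D.mp he).2

end Cfsg.Agent.S1228
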