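import Cfsg.Statements.S1231
import Cfsg.Agent.Lib.Invol.Embedded

set_option autoImplicit false
open Cfsg

namespace Cfsg.Agent.S1231

/-- Let H be a subgroup of the finite group G, p a prime, k ≥ 1, and P a Sylow p-subgroup of H whose p-rank is at least k. Then N_G(X) ≤ H for every subgroup X of P of p-rank at least k if and only if H ∩ gHg⁻¹ has p-rank less than k for every g ∉ H. -/
theorem result {G : Type*} [Group G] [Finite G] {p : ℕ} [Fact p.Prime] (k : ℕ) (hk : 1 ≤ k) (H : Subgroup G) (P : Sylow p ↥H) (hP : ¬ Cfsg.PRankLE p (k - 1) ↥(P : Subgroup ↥H)) : (∀ X : Subgroup G, X ≤ (P : Subgroup ↥H).map H.subtype → ¬ Cfsg.PRankLE p (k - 1) ↥X → Subgroup.normalizer (X : Set G) ≤ H) ↔ (∀ g : G, g ∉ H → Cfsg.PRankLE p (k - 1) ↥(H ⊓ H.map (MulAut.conj g).toMonoidHom)) := by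
  have hconj : ∀ (X : Subgroup G) (g : G), ¬ Cfsg.PRankLE p (k - 1) ↥X →
      ¬ Cfsg.PRankLE p (k - 1) ↥(X.map (MulAut.conj g).toMonoidHom) := by
    intro X g hX hX'
    refine hX fun A hA hAp => ?_
    let e := X.equivMapOfInjective (MulAut.conj g).toMonoidHom (MulAut.conj g).injective
    haveI := hA
    have := hX' (A.map e.toMonoidHom) inferInstance (by
      rintro _ ⟨a, ha, rfl⟩
      rw [← map_pow, hAp a ha, map_one])
    rwa [Subgroup.card_map_of_injective e.injective] at this
  have hmono : ∀ X Y : Subgroup G, X ≤ Y → ¬ Cfsg.PRankLE p (k - 1) ↥X →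
      ¬ Cfsg.PRankLE p (k - 1) ↥Y := by
    intro X Y hXY hX hY
    refine hX fun A hA hAp => ?_
    haveI := hA
    have := hY (A.map (Subgroup.inclusion hXY)) inferInstance (by
      rintro _ ⟨a, ha, rfl⟩
      rw [← map_pow, hAp a ha, map_one])
    rwa [Subgroup.card_map_of_injective (Subgroup.inclusion_injective hXY)] at this
  constructor
  · intro h g hg
    by_contra hrank
    simp only [Cfsg.PRankLE, not_forall] at hrank
    obtain ⟨A, hA, hAp, hcard⟩ := hrank
    set f := (H ⊓ H.map (MulAut.conj g).toMonoidHom).subtype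
    have hD : IsPGroup p ↥(A.map f) := by
      refine IsPGroup.map (fun a => ⟨1, Subtype.ext ?_⟩) f
      rw [pow_one, SubgroupClass.coe_pow, hAp a.1 a.2]
      rfl
    refine CfsgLib.Invol.not_prop_of_normalizer_le P _ hconj hmono h hg hD
      (Subgroup.map_subtype_le _) fun hle => hcard ?_
    haveI := hA
    have := hle ((A.map f).subgroupOf (A.map f)) inferInstance (by
      rintro ⟨a, ha⟩ -
      obtain ⟨b, hb, rfl⟩ := ha
      exact Subtype.ext (by rw [SubgroupClass.coe_pow, ← map_pow, hAp b hb, map_one]; rfl))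
    rw [Subgroup.subgroupOf_self, Subgroup.card_top,
      Subgroup.card_map_of_injective (Subgroup.subtype_injective _)] at this
    exact this
  · intro h X hXP hX g hg
    by_contra hgH
    refine hmono X _ (fun x hx => Subgroup.mem_inf.mpr ⟨?_, ?_⟩) hX (h g hgH)
    · exact Subgroup.map_subtype_le _ (hXP hx)
    · rw [CfsgLib.Invol.mem_map_conj]
      exact Subgroup.map_subtype_le _ (hXP ((Subgroup.mem_normalizer_iff''.mp hg x).mp hx))

end Cfsg.Agent.S1231
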