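import Cfsg.Statements.S1234
import Cfsg.Agent.Lib.PGroup.SelfCentralEight.Sectional

set_option autoImplicit false
open Cfsg Subgroup CfsgLib.PGroup.SelfEight

namespace Cfsg.Agent.S1234

/-- Let S be a finite 2-group and Q ≤ S a subgroup of order 32 having an elementary abelian subgroup E of order 16 and an involution s ∉ E whose centralizer in E has order 4 (so Q ≅ (Z₂ × Z₂) ≀ Z₂). If C_S(Z(Q)) = Q, then every section of S has 2-rank at most 4. -/
theorem result {S : Type*} [Group S] [Finite S] (hS : IsPGroup 2 S) (Q E : Subgroup S) (hEQ : E ≤ Q) (hE : Cfsg.IsElementaryAbelian 2 E) (hE16 : Nat.card E = 16) (hQ32 : Nat.card Q = 32) (s : S) (hsQ : s ∈ Q) (hsE : s ∉ E) (hs : orderOf s = 2) (hfix : Nat.card ↥(E ⊓ Subgroup.centralizer ({s} : Set S)) = 4) (hC : Subgroup.centralizer (((Subgroup.center Q).map Q.subtype : Subgroup S) : Set S) = Q) : Cfsg.SectionalPRankLE 2 4 S := by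
  set E₀ := E ⊓ centralizer ({s} : Set S) with hE₀
  have hs2 : s * s = 1 := by rw [← pow_two, ← hs, pow_orderOf_eq_one]
  have hEsq : ∀ e ∈ E, e * e = 1 := fun e he => by rw [← pow_two]; exact hE.2 e he
  have hEc : ∀ a ∈ E, ∀ b ∈ E, a * b = b * a := fun a ha b hb =>
    congrArg Subtype.val (hE.1.is_comm.comm (⟨a, ha⟩ : E) ⟨b, hb⟩)
  have hsE₀ : ∀ e ∈ E₀, s * e = e * s := fun e he => mem_cent.1 he.2
  have hn : ∀ k ∈ E₀, s * k * s⁻¹ ∈ E₀ := fun k hk => by rwa [hsE₀ k hk, mul_inv_cancel_right]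
  have hdec : ∀ g ∈ E₀ ⊔ zpowers s, g ∈ E₀ ∨ s⁻¹ * g ∈ E₀ := fun g hg =>
    mem_sup_two hn (by rw [hs2]; exact E₀.one_mem) hg
  have h4 : Nat.card E₀ = 4 := hfix
  have hEs : ∀ e ∈ E₀, E₀ ⊔ zpowers s ≤ centralizer ({e} : Set S) := fun e he => sup_le
    (fun d hd => mem_cent.2 (hEc e he.1 d hd.1)) (zpowers_le.2 (mem_cent.2 (hsE₀ e he).symm))
  have hcomm : ∀ a ∈ E₀ ⊔ zpowers s, ∀ b ∈ E₀ ⊔ zpowers s, a * b = b * a := by
    intro a ha b hb
    have hsA : E₀ ⊔ zpowers s ≤ centralizer ({s} : Set S) :=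
      sup_le inf_le_right (zpowers_le.2 (mem_cent.2 rfl))
    have haA : E₀ ⊔ zpowers s ≤ centralizer ({a} : Set S) := sup_le
      (fun e he => mem_cent.2 (mem_cent.1 (hEs e he ha)).symm) (zpowers_le.2 (mem_cent.2 (mem_cent.1 (hsA ha)).symm))
    exact mem_cent.1 (haA hb)
  have hsq : ∀ g ∈ E₀ ⊔ zpowers s, g * g = 1 := by
    intro g hg
    rcases hdec g hg with h | h
    · exact hEsq g h.1
    · rw [show g * g = s * (s⁻¹ * g * s) * (s⁻¹ * g) by group, ← hsE₀ _ h, ← mul_assoc s, hs2, one_mul, hEsq _ h.1]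
  refine sectional_of_self_central hS (E₀ ⊔ zpowers s) hcomm hsq ?_ (le_antisymm (fun g hg => ?_) ?_)
  · have h1 := card_sup_two hn (by rw [hs2]; exact E₀.one_mem)
    have h2 : 2 * Nat.card E₀ ≤ Nat.card ↥(E₀ ⊔ zpowers s) :=
      two_mul_card_le le_sup_left (mem_sup_right (mem_zpowers s)) (fun h => hsE h.1)
    omega
  · have hgQ : g ∈ Q := hC.le (mem_centralizer_iff.2 fun z hz => by
      obtain ⟨z', hz', rfl⟩ := hz
      have hzc : ∀ q ∈ Q, (z' : S) * q = q * (z' : S) := fun q hq =>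
        (congrArg Subtype.val (mem_center_iff.1 hz' ⟨q, hq⟩)).symm
      refine mem_centralizer_iff.1 hg _ (mem_sup_left ⟨?_, mem_cent.2 (hzc s hsQ).symm⟩)
      by_contra hzE
      have hsz : (z' : S)⁻¹ * s ∈ E := mul_mem_of_two hEQ (by rw [hQ32, hE16]) (Q.inv_mem z'.2)
        (fun h => hzE (by simpa using E.inv_mem h)) hsQ hsE
      have hall : E ≤ E₀ := fun e he => ⟨he, mem_cent.2 (by
        calc s * e = (z' : S) * ((z' : S)⁻¹ * s * e) := by group
          _ = (z' : S) * (e * ((z' : S)⁻¹ * s)) := by rw [hEc _ hsz e he]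
          _ = (z' : S) * e * ((z' : S)⁻¹ * s) := by group
          _ = e * (z' : S) * ((z' : S)⁻¹ * s) := by rw [hzc e (hEQ he)]
          _ = e * s := by group)⟩
      have := Subgroup.card_le_of_le hall
      omega)
    have hgs : g * s = s * g := (mem_centralizer_iff.1 hg s (mem_sup_right (mem_zpowers s))).symm
    by_cases hgE : g ∈ E
    · exact mem_sup_left ⟨hgE, mem_cent.2 hgs.symm⟩
    · have hsg : s⁻¹ * g ∈ E₀ := ⟨mul_mem_of_two hEQ (by rw [hQ32, hE16]) (Q.inv_mem hsQ)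
        (fun h => hsE (by simpa using E.inv_mem h)) hgQ hgE,
        mem_cent.2 (by rw [← mul_assoc, mul_inv_cancel, one_mul, mul_assoc, hgs, ← mul_assoc, inv_mul_cancel,
          one_mul])⟩
      have := Subgroup.mul_mem _ (mem_sup_right (mem_zpowers s)) (mem_sup_left hsg : s⁻¹ * g ∈ E₀ ⊔ zpowers s)
      rwa [mul_inv_cancel_left] at this
  · intro g hg
    exact mem_centralizer_iff.2 fun a ha => hcomm a ha g hg

end Cfsg.Agent.S1234
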