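import Cfsg.Statements.S1235
import Cfsg.Agent.Lib.PGroup.DihedralTimesFour

set_option autoImplicit false
open Cfsg

namespace Cfsg.Agent.S1235

open Subgroup
open CfsgLib.DihedralTimesFour

section
variable {G : Type*} [Group G]

/-- Reduction of the sectional rank to a Sylow `2`-subgroup. -/
theorem sectional_of_rankFour [Finite G] (S : Sylow 2 G) (h : RankFour (S : Subgroup G)) :
    Cfsg.SectionalPRankLE 2 4 G := by
  classical
  haveI : Fact (Nat.Prime 2) := ⟨Nat.prime_two⟩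
  intro H N _ A hAc hAe
  let H' : Subgroup H := A.comap (QuotientGroup.mk' N)
  let φ : H' →* A := (QuotientGroup.mk' N).subgroupComap A
  have hφ : Function.Surjective φ :=
    MonoidHom.subgroupComap_surjective_of_surjective _ A (QuotientGroup.mk'_surjective N)
  obtain ⟨Q⟩ : Nonempty (Sylow 2 H') := inferInstance
  have hA : IsPGroup 2 A := fun a => ⟨1, Subtype.ext (by
    rw [pow_one, SubmonoidClass.coe_pow]; exact hAe a a.2)⟩
  -- the Sylow subgroup maps onto the elementary abelian group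
  have htop : ((Q.mapSurjective hφ : Sylow 2 A) : Subgroup A) = ⊤ :=
    ((Q.mapSurjective hφ).is_maximal' (hA.of_injective (⊤ : Subgroup A).subtype Subtype.val_injective) le_top).symm
  have hQA : Function.Surjective (φ.comp (Q : Subgroup H').subtype) := by
    intro a
    have : a ∈ ((Q.mapSurjective hφ : Sylow 2 A) : Subgroup A) := htop ▸ mem_top a
    obtain ⟨q, hq, rfl⟩ := this
    exact ⟨⟨q, hq⟩, rfl⟩
  let ι : (Q : Subgroup H') →* G := H.subtype.comp (H'.subtype.comp (Q : Subgroup H').subtype)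
  have hι : Function.Injective ι := fun a b e => Subtype.ext (Subtype.ext (Subtype.ext e))
  have hU0 : IsPGroup 2 ι.range := by
    intro u
    obtain ⟨q, hq⟩ := u.2
    obtain ⟨k, hk⟩ := Q.isPGroup' q
    refine ⟨k, Subtype.ext ?_⟩
    rw [SubmonoidClass.coe_pow, ← hq, ← map_pow, hk, map_one]; rfl
  obtain ⟨R, hR⟩ := hU0.exists_le_sylow
  obtain ⟨g, hg⟩ := MulAction.exists_smul_eq G R S
  let κ : (Q : Subgroup H') →* G := (MulAut.conj g).toMonoidHom.comp ι
  have hκ : Function.Injective κ := (MulAut.conj g).injective.comp hι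
  set ψ : (Q : Subgroup H') →* A := φ.comp (Q : Subgroup H').subtype with hψ
  have hle : κ.range ≤ (S : Subgroup G) := by
    rintro _ ⟨q, rfl⟩
    rw [← hg]
    exact ⟨ι q, hR ⟨q, rfl⟩, rfl⟩
  have hkey := h κ.range (ψ.ker.map κ) hle (map_le_range _ _) (by
      rintro _ ⟨u, rfl⟩ _ ⟨v, rfl⟩
      rw [← map_inv, ← map_inv, ← map_mul, ← map_mul, ← map_mul]
      refine mem_map_of_mem κ ?_
      rw [MonoidHom.mem_ker, map_mul, map_mul, map_mul, map_inv, map_inv,
        hAc.is_comm.comm (ψ u) (ψ v), mul_inv_cancel_right, mul_inv_cancel])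
    (by
      rintro _ ⟨u, rfl⟩
      rw [← map_mul]
      refine mem_map_of_mem κ ?_
      rw [MonoidHom.mem_ker, map_mul]
      apply Subtype.ext
      have := hAe _ (ψ u).2
      rwa [pow_two] at this)
  rw [card_map_of_injective hκ, ← Nat.card_congr (MonoidHom.ofInjective hκ).toEquiv,
    Subgroup.card_eq_card_quotient_mul_card_subgroup ψ.ker,
    Nat.card_congr (QuotientGroup.quotientKerEquivOfSurjective ψ hQA).toEquiv] at hkey
  exact Nat.le_of_mul_le_mul_right hkey Nat.card_pos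

/-- Data of a dihedral or semidihedral group. -/
theorem dihedral_data [Finite G] (D : Subgroup G) (hDp : IsPGroup 2 D)
    (hD : (∃ m : ℕ, 2 ≤ m ∧ Nonempty (D ≃* DihedralGroup m)) ∨ Cfsg.IsQuasiDihedral D) :
    ∃ (n : ℕ) (w : ℤ) (x y : G), x ∈ D ∧ y ∈ D ∧ 1 ≤ n ∧ Odd w ∧ orderOf x = 2 ^ n ∧ y * y = 1 ∧
      y * x * y⁻¹ = x ^ (2 * w + 1) ∧ Nat.card D = 2 ^ (n + 1) ∧
      ∀ d ∈ D, ∃ i : ℤ, d = x ^ i ∨ d = x ^ i * y := by
  classical
  haveI : Fact (Nat.Prime 2) := ⟨Nat.prime_two⟩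
  have hspan : ∀ {n : ℕ} (x y : D), orderOf x = 2 ^ n → Nat.card D = 2 ^ (n + 1) →
      y ∉ zpowers x → ∀ d ∈ D, ∃ i : ℤ, d = (x : G) ^ i ∨ d = (x : G) ^ i * y := by
    intro n x y hx hc hy d hd
    have hidx : (zpowers x).index = 2 := by
      have h3 := Subgroup.card_mul_index (zpowers x)
      rw [Nat.card_zpowers, hx, hc, pow_succ] at h3
      exact Nat.eq_of_mul_eq_mul_left (pow_pos two_pos n) h3
    by_cases hdx : (⟨d, hd⟩ : D) ∈ zpowers x
    · obtain ⟨i, hi⟩ := mem_zpowers_iff.1 hdx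
      exact ⟨i, Or.inl (by rw [← SubgroupClass.coe_zpow, hi])⟩
    · have h1 : (⟨d, hd⟩ : D) * y⁻¹ ∈ zpowers x :=
        (Subgroup.mul_mem_iff_of_index_two hidx).2 (iff_of_false hdx fun h => hy (by simpa using inv_mem h))
      obtain ⟨i, hi⟩ := mem_zpowers_iff.1 h1
      refine ⟨i, Or.inr ?_⟩
      rw [← SubgroupClass.coe_zpow, hi, ← Subgroup.coe_mul, inv_mul_cancel_right]
  rcases hD with ⟨m, hm, ⟨e⟩⟩ | ⟨n, hn, hc, x, y, hx, hy, hyx⟩
  · have hc : Nat.card D = 2 * m := by rw [Nat.card_congr e.toEquiv, DihedralGroup.nat_card]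
    obtain ⟨k, hk⟩ := IsPGroup.iff_card.1 hDp
    obtain ⟨n, rfl⟩ : ∃ n, m = 2 ^ n := by
      rcases k with _ | k
      · rw [hc] at hk; omega
      · exact ⟨k, by rw [hc, pow_succ] at hk; omega⟩
    have hn : 1 ≤ n := by
      rcases n with _ | n
      · simp at hm
      · omega
    set x : D := e.symm (DihedralGroup.r 1) with hxdef
    set y : D := e.symm (DihedralGroup.sr 0) with hydef
    have hx : orderOf x = 2 ^ n := by rw [hxdef, MulEquiv.orderOf_eq, DihedralGroup.orderOf_r_one]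
    have hyn : y ∉ zpowers x := by
      intro h
      obtain ⟨i, hi⟩ := mem_zpowers_iff.1 h
      have := congrArg e hi
      rw [map_zpow, hxdef, hydef, e.apply_symm_apply, e.apply_symm_apply, DihedralGroup.r_zpow] at this
      cases this
    have hyy : y * y = 1 := e.injective (by simp [hydef])
    have hyx : y * x * y⁻¹ = x ^ (-1 : ℤ) := e.injective (by simp [hydef, hxdef])
    refine ⟨n, -1, x, y, x.2, y.2, hn, ⟨-1, by norm_num⟩, ?_, congrArg Subtype.val hyy, ?_,
      by rw [hc, pow_succ'], hspan x y hx (by rw [hc, pow_succ']) hyn⟩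
    · rw [Subgroup.orderOf_coe]; exact hx
    · have := congrArg Subtype.val hyx
      norm_num at this ⊢
      exact this
  · have h2 : 2 ≤ 2 ^ (n - 1) := by
      calc 2 = 2 ^ 1 := rfl
        _ ≤ _ := Nat.pow_le_pow_right (by norm_num) (by omega)
    have hw : ((2 ^ (n - 1) - 1 : ℕ) : ℤ) = 2 * ((2 : ℤ) ^ (n - 2) - 1) + 1 := by
      rw [Nat.cast_sub (by omega), show n - 1 = (n - 2) + 1 by omega, pow_succ]
      push_cast; ring
    have hyy : y * y = 1 := by rw [← pow_two, ← hy]; exact pow_orderOf_eq_one y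
    have hyn : y ∉ zpowers x := by
      intro h
      obtain ⟨i, hi⟩ := mem_zpowers_iff.1 h
      rw [← hi] at hyx
      have hc' : x ^ i * x * (x ^ i)⁻¹ = x := by group
      rw [hc'] at hyx
      have h4 : x ^ (2 ^ (n - 1) - 2) = 1 := by
        apply mul_left_cancel (a := x)
        rw [← pow_succ', show 2 ^ (n - 1) - 2 + 1 = 2 ^ (n - 1) - 1 by omega, ← hyx, mul_one]
      have h5 := orderOf_dvd_of_pow_eq_one h4
      rw [hx] at h5
      have h6 : 4 ≤ 2 ^ (n - 1) := by
        calc 4 = 2 ^ 2 := rfl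
          _ ≤ _ := Nat.pow_le_pow_right (by norm_num) (by omega)
      have := Nat.le_of_dvd (by omega) h5
      have : 2 ^ n = 2 * 2 ^ (n - 1) := by rw [← pow_succ', show n - 1 + 1 = n by omega]
      omega
    refine ⟨n, (2 : ℤ) ^ (n - 2) - 1, x, y, x.2, y.2, by omega, ?_, ?_, congrArg Subtype.val hyy, ?_,
      hc, hspan x y hx hc hyn⟩
    · refine ⟨(2 : ℤ) ^ (n - 3) - 1, ?_⟩
      rw [show n - 2 = (n - 3) + 1 by omega, pow_succ]; ring
    · rw [Subgroup.orderOf_coe]; exact hx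
    · have := congrArg Subtype.val hyx
      rw [← hw, zpow_natCast]
      simpa using this

end

/-- Let G be a finite group, x an involution and T ≤ G a Sylow 2-subgroup of C_G(x) (T ≤ C_G(x) with |C_G(x) : T| odd) which is the internal direct product of a subgroup D that is dihedral (of order ≥ 4) or quasi-dihedral and a Klein four-subgroup B. Suppose that for every involution b ∈ B, T ≤ C_G(b) with |C_G(b) : T| odd. Then every section of G has 2-rank at most 4. -/
theorem result {G : Type*} [Group G] [Finite G] (x : G) (hx : orderOf x = 2) (T D B : Subgroup G) (hT : IsPGroup 2 T) (hTx : T ≤ Subgroup.centralizer ({x} : Set G)) (hTxi : Odd (T.relIndex (Subgroup.centralizer ({x} : Set G)))) (hprod : Cfsg.IsInternalDirectProduct D B T) (hD : (∃ m : ℕ, 2 ≤ m ∧ Nonempty (D ≃* DihedralGroup m)) ∨ Cfsg.IsQuasiDihedral D) (hB : IsKleinFour B) (hTb : ∀ b ∈ B, orderOf b = 2 → T ≤ Subgroup.centralizer ({b} : Set G) ∧ Odd (T.relIndex (Subgroup.centralizer ({b} :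 Set G)))) : Cfsg.SectionalPRankLE 2 4 G := by
  classical
  haveI : Fact (Nat.Prime 2) := ⟨Nat.prime_two⟩
  obtain ⟨hDT, hBT, hcomm, hdisj, hsup⟩ := hprod
  obtain ⟨S, hTS⟩ := hT.exists_le_sylow
  refine sectional_of_rankFour S ?_
  have hB4 : Nat.card B = 4 := hB.card_four
  have hBsq : ∀ b ∈ B, b * b = 1 := fun b hb => congrArg Subtype.val (IsKleinFour.mul_self (⟨b, hb⟩ : B))
  have hBab : ∀ a ∈ B, ∀ b ∈ B, a * b = b * a := fun a ha b hb =>
    congrArg Subtype.val (mul_comm_of_exponent_two hB.exponent_two (⟨a, ha⟩ : B) ⟨b, hb⟩)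
  -- `T` is the centralizer in `S` of each involution of `B`
  have hC : ∀ b ∈ B, b ≠ 1 → (S : Subgroup G) ⊓ centralizer {b} = T := by
    intro b hb hb1
    have hbo : orderOf b = 2 := orderOf_eq_prime (by rw [pow_two]; exact hBsq b hb) hb1
    obtain ⟨hTb', hodd⟩ := hTb b hb hbo
    set K := (S : Subgroup G) ⊓ centralizer {b}
    have hTK : T ≤ K := le_inf hTS hTb'
    have h1 : T.relIndex K ∣ T.relIndex (centralizer {b}) :=
      ⟨K.relIndex (centralizer {b}), (relIndex_mul_relIndex T K _ hTK inf_le_right).symm⟩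
    obtain ⟨k, hk⟩ := IsPGroup.iff_card.1 (S.isPGroup'.to_le (inf_le_left : K ≤ (S : Subgroup G)))
    have h2 : T.relIndex K ∣ 2 ^ k := by rw [← hk]; exact Subgroup.relIndex_dvd_card T K
    obtain ⟨j, hj, hj'⟩ := (Nat.dvd_prime_pow Nat.prime_two).1 h2
    have hj0 : j = 0 := by
      by_contra h0
      exact (Nat.not_even_iff_odd.2 (hodd.of_dvd_nat h1)) (hj' ▸ Nat.even_pow.2 ⟨even_two, h0⟩)
    rw [hj0, pow_zero, Subgroup.relIndex_eq_one] at hj'
    exact le_antisymm hj' hTK
  obtain ⟨n, w, x, y, hxD, hyD, hn, hw, hxo, hyy, hyx, hDc, hDel⟩ :=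
    dihedral_data D (hT.to_le hDT) hD
  have hxb : ∀ (i : ℤ), ∀ b ∈ B, x ^ i * b = b * x ^ i := fun i b hb =>
    hcomm _ (zpow_mem hxD i) b hb
  have hyb : ∀ b ∈ B, y * b = b * y := fun b hb => hcomm y hyD b hb
  have hTel : ∀ t ∈ T, ∃ d ∈ D, ∃ b ∈ B, t = d * b := by
    intro t ht
    let X : Subgroup G :=
      { carrier := {t | ∃ d ∈ D, ∃ b ∈ B, t = d * b}
        one_mem' := ⟨1, one_mem _, 1, one_mem _, (mul_one 1).symm⟩
        mul_mem' := by
          rintro _ _ ⟨d, hd, b, hb, rfl⟩ ⟨d', hd', b', hb', rfl⟩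
          refine ⟨d * d', mul_mem hd hd', b * b', mul_mem hb hb', ?_⟩
          rw [mul_assoc, ← mul_assoc b, ← hcomm d' hd' b hb]
          group
        inv_mem' := by
          rintro _ ⟨d, hd, b, hb, rfl⟩
          exact ⟨d⁻¹, inv_mem hd, b⁻¹, inv_mem hb, by
            rw [mul_inv_rev, hcomm _ (inv_mem hd) _ (inv_mem hb)]⟩ }
    exact (show T ≤ X from hsup ▸ sup_le (fun d hd => ⟨d, hd, 1, one_mem _, (mul_one d).symm⟩)
      (fun b hb => ⟨1, one_mem _, b, hb, (one_mul b).symm⟩)) ht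
  have hcard : Nat.card T = 2 ^ (n + 1) * 4 := by
    rw [← hDc, ← hB4, ← Nat.card_prod]
    refine (Nat.card_congr (Equiv.ofBijective
      (fun p : D × B => (⟨(p.1 : G) * p.2, mul_mem (hDT p.1.2) (hBT p.2.2)⟩ : T)) ⟨?_, ?_⟩)).symm
    · intro p q e
      have e' : (p.1 : G) * p.2 = q.1 * q.2 := congrArg Subtype.val e
      have h1 : (q.1 : G)⁻¹ * p.1 = q.2 * (p.2 : G)⁻¹ := by
        rw [eq_mul_inv_iff_mul_eq, mul_assoc, e', inv_mul_cancel_left]
      have h0 : (q.1 : G)⁻¹ * p.1 ∈ D ⊓ B :=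
        mem_inf.2 ⟨mul_mem (inv_mem q.1.2) p.1.2, h1 ▸ mul_mem q.2.2 (inv_mem p.2.2)⟩
      rw [hdisj, mem_bot] at h0
      have hp1 : (p.1 : G) = q.1 := (inv_mul_eq_one.1 h0).symm
      have hp2 : (p.2 : G) = q.2 := by rw [hp1] at e'; exact mul_left_cancel e'
      exact Prod.ext (Subtype.ext hp1) (Subtype.ext hp2)
    · rintro ⟨t, ht⟩
      obtain ⟨d, hd, b, hb, rfl⟩ := hTel t ht
      exact ⟨(⟨d, hd⟩, ⟨b, hb⟩), rfl⟩
  have hconj : ∀ i : ℤ, y * x ^ i * y⁻¹ = x ^ ((2 * w + 1) * i) := by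
    intro i
    rw [← conj_zpow, hyx, ← zpow_mul]
  have hone : ∀ i : ℤ, x ^ i = 1 ↔ ((2 ^ n : ℕ) : ℤ) ∣ i := fun i => by
    rw [← hxo]; exact orderOf_dvd_iff_zpow_eq_one.symm
  have hp1 : ((2 ^ n : ℕ) : ℤ) = 2 * ((2 ^ (n - 1) : ℕ) : ℤ) := by
    have h := pow_succ' (2 : ℕ) (n - 1)
    rw [show n - 1 + 1 = n by omega] at h
    rw [h, Nat.cast_mul]; rfl
  have hhalf : ∀ i : ℤ, x ^ (2 * i) = 1 → ∃ e : Bool, x ^ i = cond e (x ^ (2 ^ (n - 1))) 1 := by
    intro i hi
    rw [hone, hp1] at hi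
    obtain ⟨q, rfl⟩ := (mul_dvd_mul_iff_left (by norm_num : (2 : ℤ) ≠ 0)).1 hi
    rcases Int.even_or_odd q with ⟨q, rfl⟩ | ⟨q, rfl⟩
    · refine ⟨false, (hone _).2 ⟨q, ?_⟩⟩
      rw [hp1]; ring
    · refine ⟨true, ?_⟩
      have h0 : x ^ (((2 ^ (n - 1) : ℕ) : ℤ) * (2 * q)) = 1 := (hone _).2 ⟨q, by
        rw [hp1]; ring⟩
      rw [mul_add, mul_one, zpow_add, h0, one_mul, zpow_natCast]
      rfl
  rcases Nat.lt_or_ge n 2 with hn2 | hn2
  · obtain rfl : n = 1 := by omega
    have hx2 : x * x = 1 := by rw [← pow_two, ← (show 2 ^ 1 = 2 from rfl), ← hxo]; exact pow_orderOf_eq_one x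
    have hxy : y * x = x * y := by
      have : x ^ (2 * w + 1) = x := by
        rw [zpow_add_one, zpow_mul, zpow_two, hx2, one_zpow, one_mul]
      rw [this, mul_inv_eq_iff_eq_mul] at hyx
      exact hyx
    have hDab : ∀ a ∈ D, ∀ c ∈ D, a * c = c * a := by
      have hc0 : ∀ i : ℤ, Commute (x ^ i) y := fun i => Commute.zpow_left hxy.symm i
      intro a ha c hc
      obtain ⟨i, rfl | rfl⟩ := hDel a ha <;> obtain ⟨j, rfl | rfl⟩ := hDel c hc
      · exact (Commute.refl x).zpow_zpow i j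
      · exact ((Commute.refl x).zpow_zpow i j).mul_right (hc0 i)
      · exact ((Commute.refl x).zpow_zpow i j).mul_left (hc0 j).symm
      · exact (((Commute.refl x).zpow_zpow i j).mul_right (hc0 i)).mul_left
          ((hc0 j).symm.mul_right (Commute.refl y))
    have hTab : ∀ a ∈ T, ∀ c ∈ T, a * c = c * a := by
      intro a ha c hc
      obtain ⟨d, hd, b, hb, rfl⟩ := hTel a ha
      obtain ⟨d', hd', b', hb', rfl⟩ := hTel c hc
      exact ((show Commute d d' from hDab d hd d' hd').mul_right (hcomm d hd b' hb')).mul_left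
        ((show Commute b d' from (hcomm d' hd' b hb).symm).mul_right (hBab b hb b' hb'))
    have hTexp : ∀ a ∈ T, a * a = 1 := by
      intro a ha
      obtain ⟨d, hd, b, hb, rfl⟩ := hTel a ha
      have hd2 : d * d = 1 := by
        obtain ⟨i, rfl | rfl⟩ := hDel d hd
        · rw [← (Commute.refl x).mul_zpow, hx2, one_zpow]
        · have hc := (Commute.zpow_left hxy.symm i : Commute (x ^ i) y)
          rw [hc.symm.mul_mul_mul_comm, ← (Commute.refl x).mul_zpow, hx2, one_zpow, hyy, one_mul]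
      rw [(show Commute d b from hcomm d hd b hb).symm.mul_mul_mul_comm, hd2, hBsq b hb, one_mul]
    exact rankFour_elementary S.isPGroup' hTS (by rw [hcard]; norm_num) hTab hTexp hBT hB4 hC
  · -- the nonabelian case
    have hne : ¬ x ^ (2 * w + 1) = x ^ (1 : ℤ) := by
      intro h
      rw [zpow_add, mul_eq_right, hone] at h
      obtain ⟨q, hq⟩ := h
      obtain ⟨v, rfl⟩ := hw
      have h4 : ((2 ^ n : ℕ) : ℤ) = 4 * ((2 ^ (n - 2) : ℕ) : ℤ) := by
        have h := pow_add (2 : ℕ) (n - 2) 2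
        rw [show n - 2 + 2 = n by omega] at h
        rw [h, Nat.cast_mul]; push_cast; ring
      rw [h4, mul_assoc] at hq
      omega
    let z : G := x ^ (2 ^ (n - 1))
    have hzD : z ∈ D := pow_mem hxD _
    have hzT : ∀ t ∈ T, t * z = z * t := by
      intro t ht
      obtain ⟨d, hd, b, hb, rfl⟩ := hTel t ht
      refine (Commute.mul_left ?_ (hcomm z hzD b hb).symm : Commute (d * b) z)
      have hzy : Commute y z := by
        have h := hconj ((2 ^ (n - 1) : ℕ) : ℤ)
        rw [zpow_natCast, add_mul, one_mul, zpow_add, zpow_natCast] at h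
        have h0 : x ^ (2 * w * ((2 ^ (n - 1) : ℕ) : ℤ)) = 1 := by
          rw [hone]
          refine ⟨w, ?_⟩
          rw [hp1]; ring
        rw [h0, one_mul, mul_inv_eq_iff_eq_mul] at h
        exact h
      obtain ⟨i, rfl | rfl⟩ := hDel d hd
      · exact (Commute.refl x).zpow_left i |>.pow_right _
      · exact Commute.mul_left ((Commute.refl x).zpow_left i |>.pow_right _) hzy
    have hz2 : z * z = 1 := by
      rw [← pow_add, ← two_mul, ← pow_succ', show n - 1 + 1 = n by omega, ← hxo, pow_orderOf_eq_one]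
    have hz1 : z ≠ 1 := by
      intro h
      have h' := orderOf_dvd_of_pow_eq_one h
      rw [hxo, Nat.pow_dvd_pow_iff_le_right (by norm_num)] at h'
      omega
    -- the abelian subgroup of index two
    let M : Subgroup G :=
      { carrier := {u | ∃ i : ℤ, ∃ b ∈ B, u = x ^ i * b}
        one_mem' := ⟨0, 1, one_mem _, by simp⟩
        mul_mem' := by
          rintro _ _ ⟨i, b, hb, rfl⟩ ⟨j, b', hb', rfl⟩
          refine ⟨i + j, b * b', mul_mem hb hb', ?_⟩
          rw [zpow_add, mul_assoc, ← mul_assoc b, ← hxb j b hb]; group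
        inv_mem' := by
          rintro _ ⟨i, b, hb, rfl⟩
          refine ⟨-i, b⁻¹, inv_mem hb, ?_⟩
          rw [mul_inv_rev, hxb (-i) _ (inv_mem hb), zpow_neg] }
    have hMab : ∀ a ∈ M, ∀ c ∈ M, a * c = c * a := by
      rintro _ ⟨i, b, hb, rfl⟩ _ ⟨j, b', hb', rfl⟩
      exact (((Commute.refl x).zpow_zpow i j).mul_right (hxb i b' hb')).mul_left
        ((show Commute b (x ^ j) from (hxb j b hb).symm).mul_right (hBab b hb b' hb'))
    have hTM : ∀ t ∈ T, t ∉ M → ∃ i : ℤ, ∃ b ∈ B, t = x ^ i * y * b := by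
      intro t ht htM
      obtain ⟨d, hd, b, hb, rfl⟩ := hTel t ht
      obtain ⟨i, rfl | rfl⟩ := hDel d hd
      · exact absurd ⟨i, b, hb, rfl⟩ htM
      · exact ⟨i, b, hb, rfl⟩
    let f : Bool × B → G := fun p => cond p.1 z 1 * p.2
    have hf : ∀ i : ℤ, ∀ b ∈ B, x ^ (2 * i) = 1 → ∃ p, f p = x ^ i * b := by
      intro i b hb hi
      obtain ⟨e, he⟩ := hhalf i hi
      exact ⟨(e, ⟨b, hb⟩), by rw [he]⟩
    let Z : Subgroup G := T ⊓ centralizer (T : Set G)
    have hfZ : ∀ p, f p ∈ Z := by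
      rintro ⟨e, b, hb⟩
      have hmem : ∀ u, u ∈ Z ↔ u ∈ T ∧ ∀ t ∈ T, t * u = u * t := fun u => by
        rw [mem_inf, mem_centralizer_iff]; rfl
      have hbZ : b ∈ Z := (hmem b).2 ⟨hBT hb, fun t ht => by
        obtain ⟨d, hd, b', hb', rfl⟩ := hTel t ht
        exact ((show Commute d b from hcomm d hd b hb).mul_left (hBab b' hb' b hb))⟩
      refine mul_mem ?_ hbZ
      cases e
      · exact one_mem _
      · exact (hmem z).2 ⟨hDT hzD, hzT⟩
    have hZf : ∀ u ∈ Z, ∃ p, f p = u := by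
      intro u hu
      obtain ⟨huT, huc⟩ := mem_inf.1 hu
      rw [mem_centralizer_iff] at huc
      obtain ⟨d, hd, b, hb, rfl⟩ := hTel u huT
      have hdc : ∀ c ∈ D, c * d = d * c := by
        intro c hc
        have h := huc c (hDT hc)
        rw [← mul_assoc, mul_assoc d b c, ← hcomm c hc b hb, ← mul_assoc] at h
        exact mul_right_cancel h
      obtain ⟨i, rfl | rfl⟩ := hDel d hd
      · have h := hdc y hyD
        rw [← mul_inv_eq_iff_eq_mul, hconj, add_mul, one_mul, zpow_add, mul_eq_right, hone] at h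
        refine hf i b hb ((hone _).2 ?_)
        obtain ⟨v, rfl⟩ := hw
        have hco : IsCoprime ((2 ^ n : ℕ) : ℤ) (2 * v + 1) := by
          push_cast
          exact IsCoprime.pow_left ⟨-v, 1, by ring⟩
        refine hco.dvd_of_dvd_mul_left ?_
        rwa [show (2 * v + 1) * (2 * i) = 2 * (2 * v + 1) * i by ring]
      · exfalso
        have h := hdc x hxD
        have h0 : x ^ (1 : ℤ) * x ^ i = x ^ i * x ^ (1 : ℤ) := ((Commute.refl x).zpow_zpow 1 i).eq
        rw [zpow_one] at h0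
        rw [← mul_assoc, h0, mul_assoc, mul_assoc] at h
        have h1 := mul_left_cancel h
        apply hne
        rw [← hyx, zpow_one, ← h1, mul_inv_cancel_right]
    have hZexp : ∀ a ∈ Z, a * a = 1 := by
      intro a ha
      obtain ⟨⟨e, b, hb⟩, rfl⟩ := hZf a ha
      have hc : Commute (cond e z 1) b := by
        cases e
        · exact Commute.one_left b
        · exact hcomm z hzD b hb
      show cond e z 1 * b * (cond e z 1 * b) = 1
      rw [hc.symm.mul_mul_mul_comm, hBsq b hb, mul_one]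
      cases e
      · exact one_mul 1
      · exact hz2
    have hZ8 : Nat.card Z = 8 := by
      have h8 : Nat.card (Bool × B) = 8 := by
        rw [Nat.card_prod, hB4, Nat.card_eq_fintype_card (α := Bool), Fintype.card_bool]
      rw [← h8]
      refine (Nat.card_congr (Equiv.ofBijective (fun p => (⟨f p, hfZ p⟩ : Z)) ⟨?_, ?_⟩)).symm
      · rintro ⟨e, b, hb⟩ ⟨e', b', hb'⟩ h
        have h' : cond e z 1 * b = cond e' z 1 * b' := congrArg Subtype.val h
        have hsame : e = e' := by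
          have hz : ∀ c ∈ B, z ≠ c := fun c hc e0 => hz1 (by
            have : z ∈ D ⊓ B := mem_inf.2 ⟨hzD, e0 ▸ hc⟩
            rwa [hdisj, mem_bot] at this)
          cases e <;> cases e' <;> try rfl
          · simp only [cond_false, cond_true, one_mul] at h'
            exact absurd (eq_mul_inv_of_mul_eq h'.symm) (hz _ (mul_mem hb (inv_mem hb')))
          · simp only [cond_false, cond_true, one_mul] at h'
            exact absurd (eq_mul_inv_of_mul_eq h') (hz _ (mul_mem hb' (inv_mem hb)))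
        subst hsame
        exact Prod.ext rfl (Subtype.ext (mul_left_cancel h'))
      · rintro ⟨u, hu⟩
        obtain ⟨p, hp⟩ := hZf u hu
        exact ⟨p, Subtype.ext hp⟩
    have hTeq : T = (S : Subgroup G) := eq_of_center S.isPGroup' hTS (Z := Z) rfl hZ8 hZexp
      (fun b hb => by simpa [f] using hfZ (false, ⟨b, hb⟩)) hB4 hC
    rw [← hTeq]
    refine rankFour_of_abelian_index_two hMab ?_ Z ?_ (le_of_eq hZ8)
    · intro u hu v hv huM hvM
      obtain ⟨i, b, hb, rfl⟩ := hTM u hu huM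
      obtain ⟨j, b', hb', rfl⟩ := hTM v hv hvM
      refine ⟨i + (2 * w + 1) * j, b * b', mul_mem hb hb', ?_⟩
      have hcb : Commute b (x ^ j * y) := (hcomm _ (mul_mem (zpow_mem hxD j) hyD) b hb).symm
      calc x ^ i * y * b * (x ^ j * y * b') = x ^ i * y * (b * (x ^ j * y)) * b' := by group
        _ = x ^ i * y * ((x ^ j * y) * b) * b' := by rw [hcb.eq]
        _ = x ^ i * (y * x ^ j * y⁻¹) * (y * y) * (b * b') := by group
        _ = _ := by rw [hconj, hyy, mul_one, ← zpow_add]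
    · rintro _ ⟨i, b, hb, rfl⟩ hsq
      obtain ⟨p, hp⟩ := hf i b hb (by
        have hc : Commute (x ^ i) b := hxb i b hb
        rw [hc.symm.mul_mul_mul_comm, hBsq b hb, mul_one, ← zpow_add, ← two_mul] at hsq
        exact hsq)
      rw [← hp]
      exact hfZ p

end Cfsg.Agent.S1235
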