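import Cfsg.Statements.S1236
import Cfsg.Agent.Lib.Invol.DihedralSylow
import Cfsg.Agent.Lib.Invol.QDW.SdApply

set_option autoImplicit false
open Cfsg

namespace Cfsg.Agent.S1236

/-- Let R be a finite group, t a central involution of R such that R ⧸ ⟨t⟩ is dihedral (of order ≥ 4) or quasi-dihedral, and A ≤ R an elementary abelian subgroup of order 8 containing t. Then C_R(A) = A. -/
theorem result {R : Type*} [Group R] [Finite R] (t : R) (ht : orderOf t = 2) (htz : t ∈ Subgroup.center R) [(Subgroup.zpowers t).Normal] (hq : (∃ m : ℕ, 2 ≤ m ∧ Nonempty (R ⧸ Subgroup.zpowers t ≃* DihedralGroup m)) ∨ Cfsg.IsQuasiDihedral (R ⧸ Subgroup.zpowers t)) (A : Subgroup R) (hA : Cfsg.IsElementaryAbelian 2 A) (hA8 : Nat.card A = 8) (htA : t ∈ A) : Subgroup.centralizer (A : Set R) = A := by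
  classical
  set π := QuotientGroup.mk' (Subgroup.zpowers t) with hπ
  have hker : π.ker = Subgroup.zpowers t := QuotientGroup.ker_mk' _
  have hta : Subgroup.zpowers t ≤ A := Subgroup.zpowers_le.mpr htA
  have hA2 : ∀ a ∈ A, a * a = 1 := fun a ha => by
    have := hA.2 a ha
    rwa [pow_two] at this
  have hB4 : Nat.card (A.map π) = 4 := by
    have h1 := (π.domRestrict A).ker.card_mul_index
    rw [Subgroup.index_ker, MonoidHom.domRestrict_range, MonoidHom.ker_domRestrict, hker,
      Nat.card_congr (Subgroup.subgroupOfEquivOfLe hta).toEquiv, Nat.card_zpowers, ht, hA8] at h1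
    omega
  have hB2 : ∀ b ∈ A.map π, b * b = 1 := by
    rintro _ ⟨a, ha, rfl⟩
    rw [← map_mul, hA2 a ha, map_one]
  -- a four-subgroup of the quotient is self-centralising
  have key : Subgroup.centralizer (A.map π : Set (R ⧸ Subgroup.zpowers t)) ≤ A.map π := by
    set B := A.map π
    rcases hq with ⟨m, hm, ⟨e⟩⟩ | hqd
    · obtain ⟨h, rfl⟩ : 2 ∣ m := by
        have h1 : Nat.card B ∣ Nat.card (R ⧸ Subgroup.zpowers t) := B.card_subgroup_dvd_card
        rw [hB4, Nat.card_congr e.toEquiv, DihedralGroup.nat_card] at h1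
        omega
      obtain ⟨i, hi⟩ := CfsgLib.Invol.DihedralSylow.eq_fourD rfl (by omega) (B.map e.toMonoidHom)
        (by rw [Subgroup.card_map_of_injective e.injective, hB4])
        (by rintro _ ⟨b, hb, rfl⟩; rw [← map_mul, hB2 b hb, map_one])
      intro x hx
      have hsi : DihedralGroup.sr i ∈ B.map e.toMonoidHom := hi ▸ CfsgLib.Invol.DihedralSylow.sr_self_mem i
      obtain ⟨b, hb, hbe⟩ := hsi
      have hc : DihedralGroup.sr i * e x = e x * DihedralGroup.sr i := by
        rw [← hbe]
        show e b * e x = e x * e b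
        rw [← map_mul, ← map_mul, Subgroup.mem_centralizer_iff.mp hx b hb]
      have hmem : e x ∈ B.map e.toMonoidHom := by
        rw [hi]
        rcases hex : e x with j | j <;> rw [hex] at hc
        · rw [DihedralGroup.sr_mul_r, DihedralGroup.r_mul_sr, DihedralGroup.sr.injEq] at hc
          rw [CfsgLib.Invol.DihedralSylow.r_mem_fourD]
          linear_combination hc
        · rw [DihedralGroup.sr_mul_sr, DihedralGroup.sr_mul_sr, DihedralGroup.r.injEq] at hc
          rw [CfsgLib.Invol.DihedralSylow.sr_mem_fourD]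
          linear_combination hc
      exact (Subgroup.mem_map_iff_mem e.injective).mp hmem
    · obtain ⟨k, -, ⟨e⟩⟩ := CfsgLib.Invol.QDW.exists_equiv_sd hqd
      have hK : IsKleinFour (B.map e.toMonoidHom) := by
        have h4 : Nat.card (B.map e.toMonoidHom) = 4 := by
          rw [Subgroup.card_map_of_injective e.injective, hB4]
        haveI : Nontrivial (B.map e.toMonoidHom) := Finite.one_lt_card_iff_nontrivial.mp (by rw [h4]; norm_num)
        refine ⟨h4, (Monoid.exponent_eq_prime_iff Nat.prime_two).mpr fun x hx => orderOf_eq_prime ?_ hx⟩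
        obtain ⟨b, hb, hbe⟩ := x.2
        rw [pow_two]
        apply Subtype.ext
        show (x : CfsgLib.Invol.QDW.Sd k) * x = 1
        rw [← hbe, ← map_mul, hB2 b hb, map_one]
      obtain ⟨i, hev, hi⟩ := CfsgLib.Invol.QDW.Sd.eq_D_one_of_klein hK
      intro x hx
      have hsi : (⟨i, true⟩ : CfsgLib.Invol.QDW.Sd k) ∈ B.map e.toMonoidHom :=
        hi ▸ CfsgLib.Invol.QDW.Sd.refl_mem_D
      obtain ⟨b, hb, hbe⟩ := hsi
      have hc : e x * ⟨i, true⟩ = ⟨i, true⟩ * e x := by
        rw [← hbe]
        show e x * e b = e b * e x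
        rw [← map_mul, ← map_mul, Subgroup.mem_centralizer_iff.mp hx b hb]
      exact (Subgroup.mem_map_iff_mem e.injective).mp (hi ▸ CfsgLib.Invol.QDW.Sd.refl_centralizer hc)
  refine le_antisymm (fun x hx => ?_) (fun a ha => Subgroup.mem_centralizer_iff.mpr fun b hb => ?_)
  · have h1 : π x ∈ A.map π := key (Subgroup.mem_centralizer_iff.mpr (by
      rintro _ ⟨a, ha, rfl⟩
      rw [← map_mul, ← map_mul, Subgroup.mem_centralizer_iff.mp hx a ha]))
    obtain ⟨a, ha, hax⟩ := h1
    have h2 : a⁻¹ * x ∈ Subgroup.zpowers t := by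
      rw [← hker, MonoidHom.mem_ker, map_mul, map_inv, hax, inv_mul_cancel]
    have := mul_mem ha (hta h2)
    rwa [mul_inv_cancel_left] at this
  · calc b * a = (b * a)⁻¹ := (inv_eq_of_mul_eq_one_right (hA2 _ (mul_mem hb ha))).symm
      _ = a * b := by
        rw [mul_inv_rev, inv_eq_of_mul_eq_one_right (hA2 a ha), inv_eq_of_mul_eq_one_right (hA2 b hb)]

end Cfsg.Agent.S1236
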