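import Cfsg.Statements.S1239
import Cfsg.Agent.Lib.Invol.QDW.CenterCentral

set_option autoImplicit false
open Cfsg

namespace Cfsg.Agent.S1239

/-- Let X be a finite group whose Sylow 2-subgroup S is quasi-dihedral or wreathed, and suppose some involution of S is isolated in X. Then the product of the largest normal odd-order subgroup O(X) with the centre of S is normal in X. -/
theorem result {X : Type*} [Group X] [Finite X] (S : Sylow 2 X) (hS : Cfsg.IsQuasiDihedral (S : Subgroup X) ∨ Cfsg.IsWreathed (S : Subgroup X)) (z : X) (hzS : z ∈ S) (hz : Cfsg.IsIsolatedInvolution z) : (Cfsg.oddCore X ⊔ (Subgroup.center (S : Subgroup X)).map (S : Subgroup X).subtype).Normal := by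
  classical
  haveI hOn : (Cfsg.oddCore X).Normal := by
    have := CfsgLib.Cores.pPrimeCore_characteristic (G := X) 2
    exact inferInstanceAs (Cfsg.pPrimeCore 2 X).Normal
  set Z := (Subgroup.center (S : Subgroup X)).map (S : Subgroup X).subtype
  refine ⟨fun x hx g => ?_⟩
  obtain ⟨o, ho, a, ha, rfl⟩ := Subgroup.mem_sup_of_normal_left.mp hx
  rw [show g * (o * a) * g⁻¹ = (g * o * g⁻¹) * (g * a * g⁻¹ * a⁻¹) * a by group]
  exact Subgroup.mul_mem _ ((le_sup_left : Cfsg.oddCore X ≤ Cfsg.oddCore X ⊔ Z)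
    (Subgroup.mul_mem _ (hOn.conj_mem o ho g)
      (CfsgLib.Invol.QDW.center_mod_oddCore S hS hzS hz a ha g)))
    ((le_sup_right : Z ≤ Cfsg.oddCore X ⊔ Z) ha)

end Cfsg.Agent.S1239
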