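import Cfsg.Statements.S1241
import Cfsg.Agent.Lib.Invol.TransferPow

set_option autoImplicit false
open Cfsg

namespace Cfsg.Agent.S1241

/-- Let G be a finite group, p a prime, H a subgroup of index prime to p, K a subgroup of H normal in H with H/K commutative, and g ∈ H ∖ K an element of p-power order such that for all integers m and all a ∈ G with a g^m a⁻¹ ∈ H one has a g^m a⁻¹ ∈ g^m K. Then g ∉ G'. -/
theorem result {G : Type*} [Group G] [Finite G] {p : ℕ} [Fact p.Prime] (H K : Subgroup G) (hHK : K ≤ H) (hKn : (K.subgroupOf H).Normal) (hab : ∀ x ∈ H, ∀ y ∈ H, x * y * x⁻¹ * y⁻¹ ∈ K) (hidx : Nat.Coprime p H.index) (g : G) (hgH : g ∈ H) (hgK : g ∉ K) (hgp : ∃ k : ℕ, orderOf g = p ^ k) (hctrl : ∀ (m : ℤ) (a : G), a * g ^ m * a⁻¹ ∈ H → (a * g ^ m * a⁻¹) * (g ^ m)⁻¹ ∈ K) : g ∉ commutator G := by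
  intro hg
  haveI := hKn
  let A := ↥H ⧸ K.subgroupOf H
  letI : CommGroup A := { (inferInstance : Group A) with
    mul_comm := by
      rintro ⟨a⟩ ⟨b⟩
      show ((a * b : ↥H) : A) = ((b * a : ↥H) : A)
      rw [QuotientGroup.eq, Subgroup.mem_subgroupOf]
      have := hab _ (H.inv_mem b.2) _ (H.inv_mem a.2)
      simpa [mul_inv_rev, mul_assoc] using this }
  let φ : ↥H →* A := QuotientGroup.mk' (K.subgroupOf H)
  have key : ∀ (k : ℕ) (g₀ : G) (hk : g₀⁻¹ * g ^ k * g₀ ∈ H),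
      φ ⟨g₀⁻¹ * g ^ k * g₀, hk⟩ = φ ⟨g, hgH⟩ ^ k := by
    intro k g₀ hk
    have h := hctrl (k : ℤ) g₀⁻¹ (by simpa using hk)
    simp only [zpow_natCast, inv_inv] at h
    rw [← map_pow, ← mul_inv_eq_one, ← map_inv, ← map_mul, QuotientGroup.mk'_apply, QuotientGroup.eq_one_iff,
      Subgroup.mem_subgroupOf]
    simpa using h
  have h1 := CfsgLib.Invol.transfer_eq_map_pow_index φ g hgH key
  rw [(CfsgLib.Invol.commutator_le_ker (MonoidHom.transfer φ) hg : MonoidHom.transfer φ g = 1)] at h1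
  obtain ⟨k, hk⟩ := hgp
  apply hgK
  have h2 := CfsgLib.Invol.map_eq_one_of_coprime (a := p ^ k) φ (x := ⟨g, hgH⟩)
    (Subtype.ext (by simp [← hk, pow_orderOf_eq_one])) h1.symm (Nat.Coprime.pow_left k hidx)
  rwa [QuotientGroup.mk'_apply, QuotientGroup.eq_one_iff, Subgroup.mem_subgroupOf] at h2

end Cfsg.Agent.S1241
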