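import Cfsg.Statements.S1242
import Cfsg.Agent.Lib.Invol.TransferPow

set_option autoImplicit false
open Cfsg

namespace Cfsg.Agent.S1242

/-- Let G be a finite group, p a prime and H a subgroup of index prime to p such that any two elements of H of p-power order that are conjugate in G are conjugate in H. Then (O^p(G)·G') ∩ H = O^p(H)·H', where O^p denotes the subgroup generated by the elements of order prime to p. -/
theorem result {G : Type*} [Group G] [Finite G] {p : ℕ} [Fact p.Prime] (H : Subgroup G) (hidx : Nat.Coprime p H.index) (hfus : ∀ g ∈ H, (∃ k : ℕ, orderOf g = p ^ k) → ∀ a : G, a * g * a⁻¹ ∈ H → ∃ h ∈ H, h * g * h⁻¹ = a * g * a⁻¹) : (Cfsg.pResidual p G ⊔ commutator G) ⊓ H = (Cfsg.pResidual p ↥H ⊔ commutator ↥H).map H.subtype := by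
  classical
  have hp : p.Prime := Fact.out
  apply le_antisymm
  · rintro x ⟨hxK, hxH⟩
    set K := Cfsg.pResidual p ↥H ⊔ commutator ↥H with hKdef
    suffices hk : (⟨x, hxH⟩ : ↥H) ∈ K from ⟨_, hk, rfl⟩
    haveI hKn : K.Normal := by
      haveI : (Cfsg.pResidual p ↥H).Normal := by
        constructor
        intro a ha u
        have h1 : (Cfsg.pResidual p ↥H).map (MulAut.conj u).toMonoidHom ≤ Cfsg.pResidual p ↥H := by
          rw [Cfsg.pResidual, MonoidHom.map_closure]
          refine Subgroup.closure_mono ?_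
          rintro _ ⟨b, hb, rfl⟩
          show Nat.Coprime (orderOf (MulAut.conj u b)) p
          rwa [MulEquiv.orderOf_eq]
        exact h1 ⟨a, ha, rfl⟩
      exact Subgroup.sup_normal _ _
    let A := ↥H ⧸ K
    letI : CommGroup A := { (inferInstance : Group A) with
      mul_comm := by
        rintro ⟨a⟩ ⟨b⟩
        show ((a * b : ↥H) : A) = ((b * a : ↥H) : A)
        rw [QuotientGroup.eq]
        refine Subgroup.mem_sup_right ?_
        have := Subgroup.commutator_mem_commutator (Subgroup.mem_top b⁻¹) (Subgroup.mem_top a⁻¹)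
        simpa [commutator_def, commutatorElement_def, mul_inv_rev, mul_assoc] using this }
    let φ : ↥H →* A := QuotientGroup.mk' K
    -- elements of order prime to `p` die
    have hcop : ∀ u : ↥H, Nat.Coprime (orderOf u) p → φ u = 1 := fun u hu =>
      (QuotientGroup.eq_one_iff u).mpr (Subgroup.mem_sup_left (Subgroup.subset_closure hu))
    have hpow : ∀ a : A, ∃ k : ℕ, a ^ p ^ k = 1 := by
      intro a
      obtain ⟨u, rfl⟩ := QuotientGroup.mk'_surjective K a
      obtain ⟨l, m, hm, hlm⟩ := Nat.exists_eq_pow_mul_and_not_dvd (orderOf_pos u).ne' p hp.ne_one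
      refine ⟨l, ?_⟩
      rw [← map_pow]
      apply hcop
      rw [orderOf_pow' _ (pow_ne_zero _ hp.ne_zero), hlm, Nat.gcd_eq_right (dvd_mul_right _ _),
        Nat.mul_div_cancel_left _ (pow_pos hp.pos _)]
      exact ((hp.coprime_iff_not_dvd).mpr hm).symm
    have hker : Cfsg.pResidual p G ⊔ commutator G ≤ (MonoidHom.transfer φ).ker := by
      refine sup_le ((Subgroup.closure_le _).mpr fun u hu => ?_) (CfsgLib.Invol.commutator_le_ker _)
      obtain ⟨k, hk⟩ := hpow (MonoidHom.transfer φ u)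
      exact CfsgLib.Invol.map_eq_one_of_coprime (MonoidHom.transfer φ) (pow_orderOf_eq_one u) hk (Nat.Coprime.pow_right k hu)
    obtain ⟨l, m, hm, hlm⟩ := Nat.exists_eq_pow_mul_and_not_dvd (orderOf_pos x).ne' p hp.ne_one
    have hmc : Nat.Coprime m (p ^ l) := Nat.Coprime.pow_right l ((hp.coprime_iff_not_dvd).mpr hm).symm
    set g := x ^ m with hg
    have hgl : g ^ p ^ l = 1 := by rw [hg, ← pow_mul, mul_comm, ← hlm, pow_orderOf_eq_one]
    have hgH : g ∈ H := H.pow_mem hxH m
    have hgK : g ∈ Cfsg.pResidual p G ⊔ commutator G := Subgroup.pow_mem _ hxK m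
    have key : ∀ (k : ℕ) (g₀ : G) (hk : g₀⁻¹ * g ^ k * g₀ ∈ H),
        φ ⟨g₀⁻¹ * g ^ k * g₀, hk⟩ = φ ⟨g, hgH⟩ ^ k := by
      intro k g₀ hk
      obtain ⟨j, -, hj⟩ := (Nat.dvd_prime_pow hp).mp (orderOf_dvd_of_pow_eq_one
        (show (g ^ k) ^ p ^ l = 1 by rw [← pow_mul, mul_comm, pow_mul, hgl, one_pow]))
      obtain ⟨h, hh, he⟩ := hfus (g ^ k) (H.pow_mem hgH k) ⟨j, hj⟩ g₀⁻¹ (by rwa [inv_inv])
      rw [inv_inv] at he
      have e : (⟨g₀⁻¹ * g ^ k * g₀, hk⟩ : ↥H) = ⟨h, hh⟩ * ⟨g, hgH⟩ ^ k * ⟨h, hh⟩⁻¹ :=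
        Subtype.ext (by simp [he])
      rw [e, map_mul, map_mul, map_inv, mul_inv_cancel_comm, map_pow]
    have h1 := CfsgLib.Invol.transfer_eq_map_pow_index φ g hgH key
    rw [(hker hgK : MonoidHom.transfer φ g = 1)] at h1
    have h2 : φ ⟨g, hgH⟩ = 1 := CfsgLib.Invol.map_eq_one_of_coprime φ (x := ⟨g, hgH⟩) (Subtype.ext (by simpa using hgl))
      h1.symm (Nat.Coprime.pow_left l hidx)
    have h3 : φ ⟨x, hxH⟩ ^ m = 1 := by rw [← map_pow]; exact h2
    obtain ⟨k, hk⟩ := hpow (φ ⟨x, hxH⟩)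
    have h4 : φ ⟨x, hxH⟩ = 1 := CfsgLib.Invol.map_eq_one_of_coprime (MonoidHom.id A) hk h3
      (Nat.Coprime.pow_left k ((hp.coprime_iff_not_dvd).mpr hm))
    exact (QuotientGroup.eq_one_iff _).mp h4
  · rw [Subgroup.map_le_iff_le_comap]
    refine sup_le ((Subgroup.closure_le _).mpr fun u hu => ⟨?_, u.2⟩) ?_
    · refine Subgroup.mem_sup_left (Subgroup.subset_closure ?_)
      show Nat.Coprime (orderOf (u : G)) p
      rw [Subgroup.orderOf_coe]; exact hu
    · rw [commutator_def, Subgroup.commutator_le]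
      intro a _ b _
      refine ⟨Subgroup.mem_sup_right ?_, by simpa [commutatorElement_def] using H.mul_mem (H.mul_mem (H.mul_mem a.2 b.2) (H.inv_mem a.2)) (H.inv_mem b.2)⟩
      exact map_commutatorElement H.subtype a b ▸ Subgroup.commutator_mem_commutator (Subgroup.mem_top _) (Subgroup.mem_top _)

end Cfsg.Agent.S1242
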