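import Cfsg.Statements.S1243
import Cfsg.Agent.Lib.Invol.Sylow

set_option autoImplicit false
open Cfsg

namespace Cfsg.Agent.S1243

/-- Let T be a Sylow p-subgroup of the finite group G and W ≤ T a subgroup weakly closed in T. If d and g d g⁻¹ both centralize W, then g d g⁻¹ = h d h⁻¹ for some h ∈ N_G(W). -/
theorem result {G : Type*} [Group G] [Finite G] {p : ℕ} [Fact p.Prime] (T : Sylow p G) (W : Subgroup G) (hW : Cfsg.IsWeaklyClosed W (T : Subgroup G)) (d g : G) (hd : d ∈ Subgroup.centralizer (W : Set G)) (hgd : g * d * g⁻¹ ∈ Subgroup.centralizer (W : Set G)) : ∃ h ∈ Subgroup.normalizer (W : Set G), h * d * h⁻¹ = g * d * g⁻¹ := by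
  set B := W.map (MulAut.conj g⁻¹).toMonoidHom with hB
  set C := Subgroup.centralizer ({d} : Set G) with hC
  have hWC : W ≤ C := fun w hw =>
    Subgroup.mem_centralizer_singleton_iff.mpr (Subgroup.mem_centralizer_iff.mp hd w hw)
  have hBC : B ≤ C := by
    intro x hx
    rw [hB, CfsgLib.Invol.mem_map_conj, inv_inv] at hx
    rw [Subgroup.mem_centralizer_singleton_iff]
    have h := Subgroup.mem_centralizer_iff.mp hgd _ hx
    calc x * d = g⁻¹ * ((g * x * g⁻¹) * (g * d * g⁻¹)) * g := by group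
      _ = g⁻¹ * ((g * d * g⁻¹) * (g * x * g⁻¹)) * g := by rw [h]
      _ = d * x := by group
  have hWp : IsPGroup p W := T.isPGroup'.to_le hW.1
  have hp1 : IsPGroup p (W.subgroupOf C) :=
    hWp.of_equiv (Subgroup.subgroupOfEquivOfLe hWC).symm
  have hp2 : IsPGroup p (B.subgroupOf C) :=
    (hWp.map _).of_equiv (Subgroup.subgroupOfEquivOfLe hBC).symm
  obtain ⟨P1, hP1⟩ := hp1.exists_le_sylow
  obtain ⟨P2, hP2⟩ := hp2.exists_le_sylow
  obtain ⟨c, hc⟩ := CfsgLib.Invol.sylow_exists_conj P1 P2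
  obtain ⟨Q, hQ⟩ := (P1.isPGroup'.map C.subtype).exists_le_sylow
  obtain ⟨h, hh⟩ := CfsgLib.Invol.sylow_exists_conj T Q
  have key : ∀ a : G, W.map (MulAut.conj a).toMonoidHom ≤ (Q : Subgroup G) →
      W.map (MulAut.conj (h⁻¹ * a)).toMonoidHom = W := by
    intro a ha
    apply hW.2
    intro x hx
    rw [CfsgLib.Invol.mem_map_conj] at hx
    have := (hh (h * x * h⁻¹)).mp (ha (CfsgLib.Invol.mem_map_conj.mpr (by
      rw [show a⁻¹ * (h * x * h⁻¹) * a = (h⁻¹ * a)⁻¹ * x * (h⁻¹ * a) by group]; exact hx)))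
    rwa [show h⁻¹ * (h * x * h⁻¹) * h = x by group] at this
  have k1 := key 1 (by
    rw [CfsgLib.Invol.map_conj_one]
    intro w hw
    exact hQ ⟨⟨w, hWC hw⟩, hP1 hw, rfl⟩)
  have k2 := key ((c : G)⁻¹ * g⁻¹) (by
    intro x hx
    rw [CfsgLib.Invol.mem_map_conj] at hx
    have hxB : (c : G) * x * (c : G)⁻¹ ∈ B := by
      rw [hB, CfsgLib.Invol.mem_map_conj]
      rwa [show (g⁻¹)⁻¹ * ((c : G) * x * (c : G)⁻¹) * g⁻¹ =
        ((c : G)⁻¹ * g⁻¹)⁻¹ * x * ((c : G)⁻¹ * g⁻¹) by group]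
    have := (hc ⟨_, hBC hxB⟩).mp (hP2 hxB)
    refine hQ ⟨_, this, ?_⟩
    simp [mul_assoc])
  have k3 := congrArg (fun H : Subgroup G => H.map (MulAut.conj (g * (c : G) * h)).toMonoidHom)
    (k2.trans k1.symm)
  simp only [CfsgLib.Invol.map_conj_map_conj] at k3
  rw [show g * (c : G) * h * (h⁻¹ * ((c : G)⁻¹ * g⁻¹)) = 1 by group, CfsgLib.Invol.map_conj_one,
    show g * (c : G) * h * (h⁻¹ * 1) = g * (c : G) by group] at k3
  refine ⟨g * c, CfsgLib.Invol.mem_normalizer_iff_map_conj.mpr k3.symm, ?_⟩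
  have hcd : (c : G) * d = d * c := Subgroup.mem_centralizer_singleton_iff.mp c.2
  rw [show g * (c : G) * d * (g * c)⁻¹ = g * ((c : G) * d) * (c : G)⁻¹ * g⁻¹ by group, hcd]
  group

end Cfsg.Agent.S1243
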