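import Cfsg.Statements.S1244
import Cfsg.Agent.Lib.Invol.TransferPow
import Cfsg.Agent.Lib.Invol.Counting
import Cfsg.Agent.Lib.Transfer.Fusion

set_option autoImplicit false
open Cfsg

namespace Cfsg.Agent.S1244

theorem card_eq_of_rank {G : Type*} [Group G] [Finite G] {H : Subgroup G} (hp : IsPGroup 2 H)
    (hc : IsMulCommutative H) (V : Subgroup G) (hV : ∀ x, x ∈ V ↔ x ∈ H ∧ x * x = 1) {r : ℕ}
    (h1 : Cfsg.PRankLE 2 r H) (h2 : r = 0 ∨ ¬ Cfsg.PRankLE 2 (r - 1) H) : Nat.card V = 2 ^ r := by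
  haveI : Fact (Nat.Prime 2) := ⟨Nat.prime_two⟩
  have hle : V ≤ H := fun x hx => ((hV x).mp hx).1
  have hu : Nat.card V ≤ 2 ^ r := by
    rw [← Nat.card_congr (Subgroup.subgroupOfEquivOfLe hle).toEquiv]
    refine h1 _ ⟨⟨fun a b => Subtype.ext ?_⟩⟩ fun a ha => ?_
    · exact mul_comm' (a : H) b
    · rw [pow_two]; exact Subtype.ext ((hV (a : G)).mp ha).2
  rcases h2 with rfl | h2
  · rw [pow_zero] at hu ⊢
    exact le_antisymm hu Nat.card_pos
  rw [Cfsg.PRankLE] at h2
  push Not at h2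
  obtain ⟨A, hA, hA2, hcard⟩ := h2
  have hl : 2 ^ (r - 1) < Nat.card V := by
    refine lt_of_lt_of_le hcard ?_
    rw [← Subgroup.card_map_of_injective H.subtype_injective]
    refine Subgroup.card_le_of_le ?_
    rintro _ ⟨a, ha, rfl⟩
    exact (hV _).mpr ⟨a.2, by rw [← pow_two]; exact congrArg Subtype.val (hA2 a ha)⟩
  obtain ⟨m, hm⟩ := IsPGroup.iff_card.mp (hp.to_le hle)
  rw [hm] at hl hu ⊢
  have a1 := (Nat.pow_lt_pow_iff_right (by norm_num : 1 < 2)).mp hl
  have a2 := (Nat.pow_le_pow_iff_right (by norm_num : 1 < 2)).mp hu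
  congr 1
  omega

/-- The subgroup of elements of square one in a commutative subgroup. -/
def sqOne {G : Type*} [Group G] (H : Subgroup G) (hc : IsMulCommutative H) : Subgroup G where
  carrier := {x | x ∈ H ∧ x * x = 1}
  one_mem' := ⟨one_mem _, one_mul 1⟩
  mul_mem' := by
    rintro a b ⟨ha, ha2⟩ ⟨hb, hb2⟩
    have hab : a * b = b * a := congrArg Subtype.val (mul_comm' (⟨a, ha⟩ : H) ⟨b, hb⟩)
    refine ⟨mul_mem ha hb, ?_⟩
    rw [show a * b * (a * b) = a * (b * a) * b by group, ← hab, show a * (a * b) * b = (a * a) * (b * b) by group,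
      ha2, hb2, one_mul]
  inv_mem' := by
    rintro a ⟨ha, ha2⟩
    exact ⟨inv_mem ha, by rw [← mul_inv_rev, ha2, inv_one]⟩

theorem orbit_meets {G : Type*} [Group G] [Finite G] (hG : ∀ H : Subgroup G, H.index ≠ 2) (S : Sylow 2 G)
    (hS : IsMulCommutative (S : Subgroup G)) (r : ℕ) (hr1 : 1 ≤ r)
    (hSr : Cfsg.PRankLE 2 r (S : Subgroup G) ∧ ¬ Cfsg.PRankLE 2 (r - 1) (S : Subgroup G))
    (R : Subgroup G) (hRS : R ≤ S)
    (hRr : Cfsg.PRankLE 2 (r - 1) R ∧ (r = 1 ∨ ¬ Cfsg.PRankLE 2 (r - 2) R))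
    (t : G) (ht : orderOf t = 2) (htS : t ∈ S) :
    ∃ n ∈ Subgroup.normalizer ((S : Subgroup G) : Set G), n * t * n⁻¹ ∈ R := by
  classical
  haveI : Fact (Nat.Prime 2) := ⟨Nat.prime_two⟩
  by_contra hcon
  push Not at hcon
  have hRc : IsMulCommutative R :=
    ⟨⟨fun a b => Subtype.ext (congrArg Subtype.val (mul_comm' (⟨a, hRS a.2⟩ : (S : Subgroup G)) ⟨b, hRS b.2⟩) :)⟩⟩
  set N := Subgroup.normalizer ((S : Subgroup G) : Set G) with hN
  set V := sqOne (S : Subgroup G) hS with hV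
  set W := sqOne R hRc with hW
  have cV : Nat.card V = 2 ^ r := card_eq_of_rank S.2 hS V (fun x => Iff.rfl) hSr.1 (Or.inr hSr.2)
  have cW : Nat.card W = 2 ^ (r - 1) := card_eq_of_rank (S.2.to_le hRS) hRc W (fun x => Iff.rfl) hRr.1 (by
    rcases hRr.2 with h | h
    · exact Or.inl (by omega)
    · exact Or.inr (by rwa [show r - 1 - 1 = r - 2 by omega]))
  have hWV : W ≤ V := fun x hx => ⟨hRS hx.1, hx.2⟩
  have hidx : (W.subgroupOf V).index = 2 := by
    have h1 := (W.subgroupOf V).card_mul_index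
    rw [Nat.card_congr (Subgroup.subgroupOfEquivOfLe hWV).toEquiv, cV, cW] at h1
    obtain ⟨j, rfl⟩ : ∃ j, r = j + 1 := ⟨r - 1, by omega⟩
    rw [Nat.add_sub_cancel, pow_succ] at h1
    exact Nat.eq_of_mul_eq_mul_left (pow_pos (by norm_num) j) h1
  have ht2 : t * t = 1 := by rw [← pow_two, ← ht, pow_orderOf_eq_one]
  -- the orbit
  have hconjV : ∀ n ∈ N, ∀ x ∈ V, n * x * n⁻¹ ∈ V := by
    rintro n hn x ⟨hx, hx2⟩
    refine ⟨(Subgroup.mem_normalizer_iff.mp hn x).mp hx, ?_⟩
    rw [show n * x * n⁻¹ * (n * x * n⁻¹) = n * (x * x) * n⁻¹ by group, hx2, mul_one, mul_inv_cancel]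
  haveI := Fintype.ofFinite V
  let O : Finset V := Finset.univ.filter (fun v : V => ∃ n ∈ N, (v : G) = n * t * n⁻¹)
  have hOodd : Odd O.card := by
    let tN : N := ⟨t, Subgroup.le_normalizer htS⟩
    have h1 := CfsgLib.Invol.card_conjugates_mul tN
    have e : Nat.card {y : N // IsConj tN y} = O.card := by
      rw [← Nat.card_eq_finsetCard]
      refine Nat.card_congr
        { toFun := fun y => ⟨⟨(y.1 : G), ?_⟩, ?_⟩
          invFun := fun v => ⟨⟨(v.1 : G), ?_⟩, ?_⟩
          left_inv := fun y => rfl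
          right_inv := fun v => rfl }
      · obtain ⟨n, hn⟩ := isConj_iff.mp y.2
        rw [← hn]
        exact hconjV _ n.2 t (show t ∈ V from ⟨htS, ht2⟩)
      · obtain ⟨n, hn⟩ := isConj_iff.mp y.2
        exact Finset.mem_filter.mpr ⟨Finset.mem_univ _, n, n.2, (congrArg Subtype.val hn).symm⟩
      · exact Subgroup.le_normalizer v.1.2.1
      · obtain ⟨n, hn, e⟩ := (Finset.mem_filter.mp v.2).2
        exact isConj_iff.mpr ⟨⟨n, hn⟩, Subtype.ext e.symm⟩
    set C := Subgroup.centralizer ({tN} : Set N) with hC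
    have hSC : (S : Subgroup G).subgroupOf N ≤ C := fun s hs => by
      rw [hC, Subgroup.mem_centralizer_singleton_iff]
      exact Subtype.ext (congrArg Subtype.val (mul_comm' (⟨s, hs⟩ : (S : Subgroup G)) ⟨t, htS⟩) :)
    have h2 : C.index = O.card := by
      have h3 := C.card_mul_index
      rw [← h1, e, mul_comm O.card] at h3
      exact Nat.eq_of_mul_eq_mul_left Nat.card_pos h3
    refine Nat.not_even_iff_odd.mp fun hev => ?_
    have h4 := Subgroup.index_dvd_of_le hSC
    rw [h2] at h4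
    exact S.not_dvd_index ((hev.two_dvd.trans h4).trans (Dvd.intro _ (Subgroup.relIndex_mul_index (Subgroup.le_normalizer (H := (S : Subgroup G))))))
  haveI : IsMulCommutative V := ⟨⟨fun a b =>
    Subtype.ext (congrArg Subtype.val (mul_comm' (⟨a, a.2.1⟩ : (S : Subgroup G)) ⟨b, b.2.1⟩) :)⟩⟩
  letI : CommGroup V := { (inferInstance : Group V) with mul_comm := mul_comm' }
  set σ : V := ∏ v ∈ O, v with hσ
  have hσW : σ ∉ W.subgroupOf V := by
    intro hmem
    have key : ∀ (U : Finset V), (∀ v ∈ U, v ∉ W.subgroupOf V) →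
        ((∏ v ∈ U, v) ∈ W.subgroupOf V ↔ Even U.card) := by
      intro U
      induction U using Finset.induction_on with
      | empty => intro _; simp
      | @insert a U ha ih =>
        intro hall
        rw [Finset.prod_insert ha, Subgroup.mul_mem_iff_of_index_two hidx,
          ih fun v hv => hall v (Finset.mem_insert_of_mem hv), Finset.card_insert_of_notMem ha]
        simp [hall a (Finset.mem_insert_self a U), Nat.even_add_one]
    refine Nat.not_even_iff_odd.mpr hOodd ((key O fun v hv hvW => ?_).mp hmem)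
    obtain ⟨n, hn, e⟩ := (Finset.mem_filter.mp hv).2
    exact hcon n hn (e ▸ (Subgroup.mem_subgroupOf.mp hvW).1)
  -- fixed by the normaliser
  have hfix : ∀ n ∈ N, n * (σ : G) * n⁻¹ = σ := by
    intro n hn
    let φ : V ≃ V :=
      { toFun := fun v => ⟨n * v * n⁻¹, hconjV n hn v v.2⟩
        invFun := fun v => ⟨n⁻¹ * v * n, by simpa using hconjV n⁻¹ (inv_mem hn) v v.2⟩
        left_inv := fun v => Subtype.ext (by group)
        right_inv := fun v => Subtype.ext (by group) }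
    let ψ : V →* V := { toFun := φ, map_one' := Subtype.ext (by simp [φ]), map_mul' := fun a b => Subtype.ext (by simp [φ, mul_assoc]) }
    suffices ψ σ = σ from congrArg Subtype.val this
    rw [hσ, map_prod]
    refine Finset.prod_equiv φ (fun v => ?_) fun v _ => rfl
    simp only [O, Finset.mem_filter, Finset.mem_univ, true_and]
    constructor
    · rintro ⟨m, hm, e⟩
      exact ⟨n * m, mul_mem hn hm, by show n * (v : G) * n⁻¹ = _; rw [e]; group⟩
    · rintro ⟨m, hm, e⟩
      refine ⟨n⁻¹ * m, mul_mem (inv_mem hn) hm, ?_⟩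
      rw [show (v : G) = n⁻¹ * (n * v * n⁻¹) * n by group, show n * (v : G) * n⁻¹ = m * t * m⁻¹ from e]; group
  -- transfer
  have hσS : (σ : G) ∈ (S : Subgroup G) := σ.2.1
  haveI := hS
  letI : CommGroup (S : Subgroup G) := { (inferInstance : Group (S : Subgroup G)) with mul_comm := mul_comm' }
  have htr := CfsgLib.Invol.transfer_eq_map_pow_index (MonoidHom.id (S : Subgroup G)) (σ : G) hσS
    (fun k g₀ hk => by
      obtain ⟨n, hn, e⟩ := CfsgLib.Transfer.controlsFusion_normalizer S hS ((σ : G) ^ k) (pow_mem hσS k) g₀⁻¹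
        (by rwa [inv_inv])
      refine Subtype.ext ?_
      rw [inv_inv] at e
      show g₀⁻¹ * (σ : G) ^ k * g₀ = (σ : G) ^ k
      rw [← e, ← conj_pow, hfix n hn])
  set τ := MonoidHom.transfer (MonoidHom.id (S : Subgroup G)) with hτ
  have hne : τ (σ : G) ≠ 1 := by
    rw [htr, MonoidHom.id_apply]
    obtain ⟨j, hj⟩ := Nat.not_even_iff_odd.mp fun he => S.not_dvd_index (Even.two_dvd he)
    intro h
    have h2 : (⟨(σ : G), hσS⟩ : (S : Subgroup G)) ^ 2 = 1 := Subtype.ext (by rw [SubmonoidClass.coe_pow, pow_two]; exact σ.2.2)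
    rw [hj, pow_succ, pow_mul, h2, one_pow, one_mul] at h
    exact hσW (by rw [show σ = 1 from Subtype.ext (congrArg Subtype.val h :)]; exact one_mem _)
  obtain ⟨k, hk⟩ := IsPGroup.iff_card.mp (S.2.to_subgroup τ.range)
  have hk0 : k ≠ 0 := fun h0 => by
    rw [h0, pow_zero] at hk
    have := Subgroup.eq_bot_of_card_eq τ.range hk
    exact hne (Subgroup.mem_bot.mp (this ▸ ⟨(σ : G), rfl⟩))
  obtain ⟨M, hM⟩ := Sylow.exists_subgroup_card_pow_prime 2 (n := k - 1) (G := τ.range) (hk ▸ pow_dvd_pow 2 (by omega))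
  refine hG (M.comap τ.rangeRestrict) ?_
  rw [Subgroup.index_comap_of_surjective M τ.rangeRestrict_surjective]
  have h1 := M.card_mul_index
  rw [hk, hM] at h1
  obtain ⟨j, rfl⟩ : ∃ j, k = j + 1 := ⟨k - 1, by omega⟩
  rw [Nat.add_sub_cancel, pow_succ] at h1
  exact Nat.eq_of_mul_eq_mul_left (pow_pos (by norm_num) j) h1

/-- Let G be a finite group with no subgroup of index 2 whose Sylow 2-subgroup S is commutative, and let R ≤ S be a subgroup whose 2-rank is exactly one less than the 2-rank r of S. Then every involution of S is conjugate, by an element of N_G(S), to an element of R. -/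
theorem result {G : Type*} [Group G] [Finite G] (hG : ∀ H : Subgroup G, H.index ≠ 2) (S : Sylow 2 G) (hS : IsMulCommutative (S : Subgroup G)) (r : ℕ) (hr1 : 1 ≤ r) (hSr : Cfsg.PRankLE 2 r (S : Subgroup G) ∧ ¬ Cfsg.PRankLE 2 (r - 1) (S : Subgroup G)) (R : Subgroup G) (hRS : R ≤ S) (hRr : Cfsg.PRankLE 2 (r - 1) R ∧ (r = 1 ∨ ¬ Cfsg.PRankLE 2 (r - 2) R)) (t : G) (ht : orderOf t = 2) (htS : t ∈ S) : ∃ n ∈ Subgroup.normalizer ((S : Subgroup G) : Set G), n * t * n⁻¹ ∈ R := by
  exact orbit_meets hG S hS r hr1 hSr R hRS hRr t ht htS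

end Cfsg.Agent.S1244
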