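import Cfsg.Statements.S1246
import Cfsg.Agent.Lib.LocalEven.CharP
import Cfsg.Agent.Lib.LocalEven.Basic
import Cfsg.Agent.Lib.Cores.Fitting
import Cfsg.Agent.Lib.Cores.Components

set_option autoImplicit false
open Cfsg

namespace Cfsg.Agent.S1246

open CfsgLib.LocalEven CfsgLib.Cores

theorem step {G : Type*} [Group G] [Finite G] {p : ℕ} [Fact p.Prime] {V W : Subgroup G}
    (hW : IsPGroup p W) (hVW : V ≤ W) (hWN : W ≤ Subgroup.normalizer (V : Set G))
    (h : HasCharP p ↥(Subgroup.centralizer (V : Set G))) : HasCharP p ↥(Subgroup.centralizer (W : Set G)) := by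
  set C := Subgroup.centralizer (V : Set G) with hC
  set D := Subgroup.centralizer (W : Set G) with hD
  have hDC : D ≤ C := Subgroup.centralizer_le hVW
  set P := (Cfsg.pCore p C).map C.subtype with hP
  have hnorm : ∀ a, a ∈ Subgroup.normalizer (V : Set G) → a ∈ Subgroup.normalizer (P : Set G) := by
    intro a ha
    haveI := pCore_characteristic (G := C) p
    have hCn : (C.subgroupOf (Subgroup.normalizer (V : Set G))).Normal :=
      (Subgroup.normal_subgroupOf_iff (Subgroup.centralizer_le_normalizer _)).mpr fun c n hc hn => by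
        refine Subgroup.mem_centralizer_iff.mpr fun v hv => ?_
        have hv' : n⁻¹ * v * n ∈ V := by
          simpa using (Subgroup.mem_normalizer_iff.mp (inv_mem hn) v).mp hv
        calc v * (n * c * n⁻¹) = n * ((n⁻¹ * v * n) * c) * n⁻¹ := by group
          _ = n * (c * (n⁻¹ * v * n)) * n⁻¹ := by rw [Subgroup.mem_centralizer_iff.mp hc _ hv']
          _ = n * c * n⁻¹ * v := by group
    have haC : a ∈ Subgroup.normalizer (C : Set G) :=
      (Subgroup.normal_subgroupOf_iff_le_normalizer (Subgroup.centralizer_le_normalizer _)).mp hCn ha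
    have key : ∀ b ∈ Subgroup.normalizer (C : Set G), ∀ y ∈ P, b * y * b⁻¹ ∈ P := by
      rintro b hb _ ⟨y, hy, rfl⟩
      let φ : MulAut C :=
        { toFun := fun c => ⟨b * c * b⁻¹, (Subgroup.mem_normalizer_iff.mp hb _).mp c.2⟩
          invFun := fun c => ⟨b⁻¹ * c * b, by simpa using (Subgroup.mem_normalizer_iff.mp (inv_mem hb) (c : G)).mp c.2⟩
          left_inv := fun c => Subtype.ext (by group)
          right_inv := fun c => Subtype.ext (by group)
          map_mul' := fun c d => Subtype.ext (by simp [mul_assoc]) }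
      refine ⟨φ y, ?_, rfl⟩
      have h1 := Subgroup.characteristic_iff_map_eq.mp (pCore_characteristic (G := C) p) φ
      exact h1 ▸ Subgroup.mem_map_of_mem φ.toMonoidHom hy
    refine Subgroup.mem_normalizer_iff.mpr fun y => ⟨key a haC y, fun hy => ?_⟩
    have h2 := key a⁻¹ (inv_mem haC) _ hy
    rwa [show a⁻¹ * (a * y * a⁻¹) * a⁻¹⁻¹ = y by group] at h2
  refine hasCharP_of_pPrime fun x hx hxc => Subtype.ext ?_
  have hxC : (x : G) ∈ C := hDC x.2
  have key : ∀ v ∈ P, (x : G) * v = v * x := by
    refine commute_of_commute_fixed hW ((isPGroup_pCore p).map _) (fun w hw => hnorm w (hWN hw))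
      (by rwa [Subgroup.orderOf_coe]) (hnorm _ (Subgroup.centralizer_le_normalizer _ hxC))
      (fun w hw => (Subgroup.mem_centralizer_iff.mp x.2 w hw).symm) ?_
    rintro _ ⟨v, hv, rfl⟩ hvW
    have hvD : (v : G) ∈ D := Subgroup.mem_centralizer_iff.mpr hvW
    have hv2 : (⟨v, hvD⟩ : D) ∈ Cfsg.pCore p D := by
      have h1 : v ∈ D.subgroupOf C := hvD
      have h2 := mem_pCore_of_mem_pCore_inf (K := D.subgroupOf C) hv h1
      have h3 : Subgroup.subgroupOfEquivOfLe hDC ⟨v, h1⟩ ∈ Cfsg.pCore p D := by
        rw [← map_pCore_equiv (Subgroup.subgroupOfEquivOfLe hDC)]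
        exact Subgroup.mem_map_of_mem _ h2
      exact h3
    exact congrArg Subtype.val (hxc _ hv2)
  have h1 := h.eq_one (x := ⟨(x : G), hxC⟩) (by rwa [Subgroup.orderOf_mk, Subgroup.orderOf_coe])
    (fun v hv => Subtype.ext (key _ ⟨v, hv, rfl⟩))
  simpa using congrArg Subtype.val h1

theorem chain {G : Type*} [Group G] [Finite G] {p : ℕ} [Fact p.Prime] {U : Subgroup G} (hU : IsPGroup p U) :
    ∀ (n : ℕ) (V : Subgroup G), Nat.card U - Nat.card V = n → V ≤ U →
      HasCharP p ↥(Subgroup.centralizer (V : Set G)) → HasCharP p ↥(Subgroup.centralizer (U : Set G)) := by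
  intro n
  induction n using Nat.strong_induction_on with
  | _ n ih =>
    intro V hn hVU h
    by_cases hle : U ⊓ Subgroup.normalizer (V : Set G) ≤ V
    · have := eq_of_inf_normalizer_le hU hVU hle
      subst this
      exact h
    · set W := U ⊓ Subgroup.normalizer (V : Set G) with hW
      have hVW : V ≤ W := le_inf hVU Subgroup.le_normalizer
      have hlt : Nat.card V < Nat.card W := by
        by_contra hc
        exact hle (Subgroup.eq_of_le_of_card_ge hVW (not_lt.mp hc)).ge
      have h2 : Nat.card W ≤ Nat.card U := Subgroup.card_le_of_le inf_le_left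
      exact ih (Nat.card U - Nat.card W) (by omega) W rfl inf_le_left
        (step (hU.to_le inf_le_left) hVW inf_le_right h)

theorem monotone {G : Type*} [Group G] [Finite G] {p : ℕ} [Fact p.Prime] (U V : Subgroup G) (hVU : V ≤ U)
    (hU : IsPGroup p U) (hV : IsPGroup p ↥(Cfsg.generalizedFittingSubgroup ↥(Subgroup.centralizer (V : Set G)))) :
    IsPGroup p ↥(Cfsg.generalizedFittingSubgroup ↥(Subgroup.centralizer (U : Set G))) := by
  haveI := generalizedFittingSubgroup_normal (G := Subgroup.centralizer (V : Set G))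
  have h : HasCharP p ↥(Subgroup.centralizer (V : Set G)) := hasCharP_iff.mpr (le_antisymm (le_pCore hV)
    ((pCore_le_fittingSubgroup p).trans fittingSubgroup_le_generalizedFittingSubgroup))
  have h2 := chain hU _ V rfl hVU h
  rw [hasCharP_iff.mp h2]
  exact isPGroup_pCore p

/-- Let V ≤ U be p-subgroups of the finite group G. If the generalized Fitting subgroup of C_G(V) is a p-group, then so is that of C_G(U). -/
theorem result {G : Type*} [Group G] [Finite G] {p : ℕ} [Fact p.Prime] (U V : Subgroup G) (hVU : V ≤ U) (hU : IsPGroup p U) (hV : IsPGroup p ↥(Cfsg.generalizedFittingSubgroup ↥(Subgroup.centralizer (V : Set G)))) : IsPGroup p ↥(Cfsg.generalizedFittingSubgroup ↥(Subgroup.centralizer (U : Set G))) := by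
  exact monotone U V hVU hU hV

end Cfsg.Agent.S1246
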