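import Cfsg.Statements.S1249
import Cfsg.Agent.Lib.Invol.Sylow

set_option autoImplicit false
open Cfsg

namespace Cfsg.Agent.S1249

/-- Let P and Q be Sylow p-subgroups of the finite group G both containing the subgroup A. If A is strongly closed in P, then A is strongly closed in Q. -/
theorem result {G : Type*} [Group G] [Finite G] {p : ℕ} [Fact p.Prime] (P Q : Sylow p G) (A : Subgroup G) (hAQ : A ≤ Q) (hA : Cfsg.IsStronglyClosed A (P : Subgroup G)) : Cfsg.IsStronglyClosed A (Q : Subgroup G) := by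
  refine ⟨hAQ, fun x hx g hg => ?_⟩
  obtain ⟨h, hh⟩ := CfsgLib.Invol.sylow_exists_conj P Q
  have hconj : ∀ a ∈ A, h⁻¹ * a * h ∈ A := by
    intro a ha
    have := hA.2 a ha h⁻¹ (by rw [inv_inv]; exact (hh a).mp (hAQ ha))
    rwa [inv_inv] at this
  have hback : ∀ a ∈ A, h * a * h⁻¹ ∈ A := by
    intro a ha
    have hmap : A.map (MulAut.conj h⁻¹).toMonoidHom = A := by
      apply SetLike.ext'
      refine Set.eq_of_subset_of_ncard_le ?_ ?_ (Set.toFinite _)
      · intro y hy
        rw [SetLike.mem_coe, CfsgLib.Invol.mem_map_conj, inv_inv] at hy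
        have := hconj _ hy
        rwa [show h⁻¹ * (h * y * h⁻¹) * h = y by group] at this
      · rw [← Nat.card_coe_set_eq, ← Nat.card_coe_set_eq]
        exact (CfsgLib.Invol.card_map_conj A h⁻¹).ge
    rw [← hmap, CfsgLib.Invol.mem_map_conj, inv_inv] at ha
    exact ha
  have h1 := hA.2 _ (hconj x hx) (h⁻¹ * g * h) (by
    rw [show h⁻¹ * g * h * (h⁻¹ * x * h) * (h⁻¹ * g * h)⁻¹ = h⁻¹ * (g * x * g⁻¹) * h by group]
    exact (hh _).mp hg)
  have h2 := hback _ h1
  rwa [show h * (h⁻¹ * g * h * (h⁻¹ * x * h) * (h⁻¹ * g * h)⁻¹) * h⁻¹ = g * x * g⁻¹ by group] at h2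

end Cfsg.Agent.S1249
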