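import Cfsg.Statements.S1250
import Cfsg.Agent.Lib.Transfer.Fusion

set_option autoImplicit false
open Cfsg

namespace Cfsg.Agent.S1250

/-- Let S be a Sylow p-subgroup of the finite group G, A ≤ S strongly closed in S, and N a normal subgroup. Then the image of A in G ⧸ N is strongly closed in the image of S (which is a Sylow p-subgroup of G ⧸ N). -/
theorem result {G : Type*} [Group G] [Finite G] {p : ℕ} [Fact p.Prime] (S : Sylow p G) (A : Subgroup G) (hA : Cfsg.IsStronglyClosed A (S : Subgroup G)) (N : Subgroup G) [N.Normal] : Cfsg.IsStronglyClosed (A.map (QuotientGroup.mk' N)) ((S : Subgroup G).map (QuotientGroup.mk' N)) := by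
  refine ⟨Subgroup.map_mono hA.1, ?_⟩
  rintro _ ⟨a, ha, rfl⟩ g hg
  obtain ⟨g, rfl⟩ := QuotientGroup.mk'_surjective N g
  rw [← map_inv, ← map_mul, ← map_mul] at hg ⊢
  set w := g * a * g⁻¹
  have hwM : w ∈ (S : Subgroup G) ⊔ N := by
    have h1 : w ∈ ((S : Subgroup G).map (QuotientGroup.mk' N)).comap (QuotientGroup.mk' N) := hg
    rwa [Subgroup.comap_map_eq, QuotientGroup.ker_mk'] at h1
  obtain ⟨k, hk⟩ := S.2 ⟨a, hA.1 ha⟩
  have hwk : w ^ p ^ k = 1 := by
    have h2 : a ^ p ^ k = 1 := by simpa using congrArg Subtype.val hk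
    simp only [w, conj_pow, h2, mul_one, mul_inv_cancel]
  obtain ⟨q, hq, hqS⟩ := CfsgLib.Transfer.exists_conj_mem_of_mem S le_sup_left hwM hwk
  obtain ⟨s, hs, n, hn, rfl⟩ := Subgroup.mem_sup_of_normal_right.mp hq
  have h3 : (n * g) * a * (n * g)⁻¹ ∈ (S : Subgroup G) := by
    have h4 := (S : Subgroup G).mul_mem ((S : Subgroup G).mul_mem ((S : Subgroup G).inv_mem hs) hqS) hs
    rw [show (n * g) * a * (n * g)⁻¹ = s⁻¹ * (s * n * w * (s * n)⁻¹) * s by simp only [w]; group]
    exact h4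
  refine ⟨_, hA.2 a ha (n * g) h3, ?_⟩
  have hn1 : QuotientGroup.mk' N n = 1 := (QuotientGroup.eq_one_iff n).mpr hn
  simp only [w, map_mul, map_inv, hn1, one_mul]

end Cfsg.Agent.S1250
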