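import Cfsg.Statements.S1251
import Cfsg.Agent.Lib.Invol.StronglyClosedCentral

set_option autoImplicit false
open Cfsg

namespace Cfsg.Agent.S1251

/-- Let S be a Sylow 2-subgroup of the finite group G and A ≤ S strongly closed in S. If H is a subgroup normalized by A with no nontrivial normal subgroup of odd order and A ∩ H = 1, then A ≤ C_G(H). -/
theorem result {G : Type*} [Group G] [Finite G] (S : Sylow 2 G) (A : Subgroup G) (hA : Cfsg.IsStronglyClosed A (S : Subgroup G)) (H : Subgroup G) (hAH : A ≤ Subgroup.normalizer (H : Set G)) (hO : Cfsg.oddCore ↥H = ⊥) (hdisj : A ⊓ H = ⊥) : A ≤ Subgroup.centralizer (H : Set G) := by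
  classical
  set K := H ⊔ A with hK
  have hHK : H ≤ K := le_sup_left
  have hAK : A ≤ K := le_sup_right
  have hKN : K ≤ Subgroup.normalizer (H : Set G) := sup_le Subgroup.le_normalizer hAH
  haveI : (H.subgroupOf K).Normal := (Subgroup.normal_subgroupOf_iff_le_normalizer hHK).mpr hKN
  have hA2 : IsPGroup 2 (A.subgroupOf K) :=
    (S.2.to_le hA.1).of_equiv (Subgroup.subgroupOfEquivOfLe hAK).symm
  obtain ⟨T, hT⟩ := hA2.exists_le_sylow
  have hT2 : IsPGroup 2 ((T : Subgroup K).map K.subtype) := T.2.map _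
  obtain ⟨Q, hQ⟩ := hT2.exists_le_sylow
  obtain ⟨c, hc⟩ := MulAction.exists_smul_eq G S Q
  have hmemQ : ∀ x ∈ (Q : Subgroup G), c⁻¹ * x * c ∈ (S : Subgroup G) := by
    intro x hx
    have hx' : x ∈ ((c • S : Sylow 2 G) : Subgroup G) := hc.symm ▸ hx
    rw [Sylow.coe_subgroup_smul, Subgroup.mem_pointwise_smul_iff_inv_smul_mem] at hx'
    simpa using hx'
  have hcA : ∀ x ∈ A, c⁻¹ * x * c ∈ A := fun x hx => by
    have h1 := hA.2 x hx c⁻¹ (by
      simpa using hmemQ x (hQ ⟨⟨x, hAK hx⟩, hT hx, rfl⟩))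
    simpa using h1
  have hcA' : ∀ y ∈ A, c * y * c⁻¹ ∈ A := by
    intro y hy
    let φ : A → A := fun a => ⟨c⁻¹ * a * c, hcA a a.2⟩
    have hinj : Function.Injective φ := fun a b h => by
      have := congrArg Subtype.val h
      exact Subtype.ext (mul_left_cancel (mul_right_cancel this))
    obtain ⟨a, ha⟩ := (Finite.injective_iff_surjective.mp hinj) ⟨y, hy⟩
    have : c⁻¹ * (a : G) * c = y := congrArg Subtype.val ha
    rw [← this]
    simp [mul_assoc]
  have key := CfsgLib.Invol.centralizes_of_stronglyClosed_top (H.subgroupOf K) (A.subgroupOf K)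
    (by rw [← Subgroup.subgroupOf_sup hHK hAK, Subgroup.subgroupOf_self])
    (by rw [eq_bot_iff]; rintro x ⟨h1, h2⟩
        have h3 : (x : G) ∈ A ⊓ H := ⟨h1, h2⟩
        rw [hdisj, Subgroup.mem_bot] at h3
        exact Subgroup.mem_bot.mpr (Subtype.ext h3))
    T hT
    (by intro x hx g hg
        have h1 : (g : G) * x * (g : G)⁻¹ ∈ (Q : Subgroup G) := hQ ⟨_, hg, rfl⟩
        have h2 := hA.2 x hx (c⁻¹ * g) (by simpa [mul_assoc] using hmemQ _ h1)
        have h3 := hcA' _ h2
        show (g : G) * x * (g : G)⁻¹ ∈ A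
        simpa [mul_assoc] using h3)
    (by intro N hN hodd hle
        haveI : ((N.map K.subtype).subgroupOf H).Normal := by
          refine (Subgroup.normal_subgroupOf_iff ?_).mpr ?_
          · rintro _ ⟨n, hn, rfl⟩; exact hle hn
          · rintro h k hh hk
            obtain ⟨n, hn, rfl⟩ := hh
            exact ⟨⟨k, hHK hk⟩ * n * ⟨k, hHK hk⟩⁻¹, hN.conj_mem n hn _, rfl⟩
        have hsub : N.map K.subtype ≤ H := by rintro _ ⟨n, hn, rfl⟩; exact hle hn
        have hcard : Nat.card ((N.map K.subtype).subgroupOf H) = Nat.card N :=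
          (Nat.card_congr (Subgroup.subgroupOfEquivOfLe hsub).toEquiv).trans
            (Subgroup.card_map_of_injective K.subtype_injective)
        have h1 := CfsgLib.Cores.le_pPrimeCore (p := 2) (N := (N.map K.subtype).subgroupOf H)
          (Nat.coprime_two_right.mpr (hcard ▸ hodd))
        rw [show pPrimeCore 2 H = ⊥ from hO, le_bot_iff, Subgroup.subgroupOf_eq_bot,
          disjoint_iff, inf_eq_left.mpr hsub, Subgroup.map_eq_bot_iff, Subgroup.ker_subtype, le_bot_iff] at h1
        exact h1)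
  intro a ha
  rw [Subgroup.mem_centralizer_iff]
  intro h hh
  have := Subgroup.mem_centralizer_iff.mp (key (show (⟨a, hAK ha⟩ : K) ∈ A.subgroupOf K from ha))
    ⟨h, hHK hh⟩ hh
  exact congrArg Subtype.val this

end Cfsg.Agent.S1251
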