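import Cfsg.Statements.S1253
import Cfsg.Agent.Lib.Invol.IsolatedSylow

set_option autoImplicit false
open Cfsg

namespace Cfsg.Agent.S1253

/-- Let z be an isolated involution of the finite group G with centralizer C, p an odd prime and P a Sylow p-subgroup of G normalized by z. Then P ∩ C has p-power-free index in C (it is a Sylow p-subgroup of C), and |P : C_P(z)| equals the number of elements x ∈ P with z x z⁻¹ = x⁻¹. -/
theorem result {G : Type*} [Group G] [Finite G] (z : G) (hz : Cfsg.IsIsolatedInvolution z) {p : ℕ} [Fact p.Prime] (hp : p ≠ 2) (P : Sylow p G) (hzP : z ∈ Subgroup.normalizer ((P : Subgroup G) : Set G)) : ¬ p ∣ ((P : Subgroup G) ⊓ Subgroup.centralizer ({z} : Set G)).relIndex (Subgroup.centralizer ({z} : Set G)) ∧ ((P : Subgroup G) ⊓ Subgroup.centralizer ({z} : Set G)).relIndex (P : Subgroup G) = Nat.card {x : G // x ∈ P ∧ z * x * z⁻¹ = x⁻¹} := by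
  classical
  set C := Subgroup.centralizer ({z} : Set G) with hC
  have hzz : z * z = 1 := CfsgLib.Invol.mul_self_of_orderOf_two hz.1
  have hzinv : z⁻¹ = z := CfsgLib.Invol.inv_eq_of_orderOf_two hz.1
  have hcz : ∀ {c : G}, c ∈ C → z * c * z⁻¹ = c := fun {c} hc => by
    rw [← Subgroup.mem_centralizer_singleton_iff.mp hc, mul_inv_cancel_right]
  refine ⟨?_, ?_⟩
  · obtain ⟨R⟩ := (inferInstance : Nonempty (Sylow p C))
    set R0 := (R : Subgroup C).map C.subtype with hR0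
    have hR0p : IsPGroup p R0 := R.2.map _
    have hzR0 : z ∈ Subgroup.normalizer (R0 : Set G) := by
      refine CfsgLib.Invol.mem_normalizer_of_conj_mem ?_
      rintro _ ⟨x, hx, rfl⟩
      exact ⟨x, hx, (hcz x.2).symm⟩
    obtain ⟨Qm, hQm, hQmmax⟩ := Set.Finite.exists_maximal
      (Set.toFinite {Q : Subgroup G | IsPGroup p Q ∧ z ∈ Subgroup.normalizer (Q : Set G) ∧ R0 ≤ Q})
      ⟨R0, hR0p, hzR0, le_rfl⟩
    obtain ⟨P', hP'⟩ := CfsgLib.Invol.maximal_invariant_is_sylow hz Qm hQm.1 hQm.2.1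
      (fun S hS hzS hle => le_antisymm (hQmmax ⟨hS, hzS, hQm.2.2.trans hle⟩ hle) hle)
    obtain ⟨g, hg⟩ := CfsgLib.Invol.sylow_exists_conj P P'
    have hgz : g⁻¹ * z * g ∈ Subgroup.normalizer ((P : Subgroup G) : Set G) := by
      refine CfsgLib.Invol.mem_normalizer_of_conj_mem fun x hx => ?_
      have h1 : g * x * g⁻¹ ∈ (P' : Subgroup G) := (hg _).mpr (by simpa [mul_assoc] using hx)
      have h2 : z * (g * x * g⁻¹) * z⁻¹ ∈ (P' : Subgroup G) := by
        rw [hP'] at h1 ⊢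
        exact (Subgroup.mem_normalizer_iff.mp hQm.2.1 _).mp h1
      have h3 := (hg _).mp h2
      rw [show g⁻¹ * z * g * x * (g⁻¹ * z * g)⁻¹ = g⁻¹ * (z * (g * x * g⁻¹) * z⁻¹) * g by group]
      exact h3
    obtain ⟨n, hn, hnz⟩ := CfsgLib.Invol.isolated_conj_in_subgroup hz hzP g⁻¹ (by simpa using hgz)
    have hc : g * n ∈ C := by
      rw [Subgroup.mem_centralizer_singleton_iff, ← mul_inv_eq_iff_eq_mul]
      rw [show g * n * z * (g * n)⁻¹ = g * (n * z * n⁻¹) * g⁻¹ by group, hnz]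
      group
    have hle : ∀ x ∈ R0, (g * n)⁻¹ * x * (g * n) ∈ (P : Subgroup G) ⊓ C := by
      intro x hx
      have hxC : x ∈ C := Subgroup.map_subtype_le _ hx
      refine ⟨?_, C.mul_mem (C.mul_mem (C.inv_mem hc) hxC) hc⟩
      have h1 : g⁻¹ * x * g ∈ (P : Subgroup G) := (hg x).mp (hP' ▸ hQm.2.2 hx)
      have h2 := (Subgroup.mem_normalizer_iff.mp (inv_mem hn) _).mp h1
      rw [show (g * n)⁻¹ * x * (g * n) = n⁻¹ * (g⁻¹ * x * g) * (n⁻¹)⁻¹ by group]
      exact h2
    have hcard : Nat.card R ≤ Nat.card (((P : Subgroup G) ⊓ C).subgroupOf C) := by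
      refine Nat.card_le_card_of_injective (fun x : R => (⟨⟨(g * n)⁻¹ * x.1.1 * (g * n),
        (hle _ ⟨x.1, x.2, rfl⟩).2⟩, hle _ ⟨x.1, x.2, rfl⟩⟩ :
          ((P : Subgroup G) ⊓ C).subgroupOf C)) ?_
      intro a b h
      have := congrArg (fun y : ((P : Subgroup G) ⊓ C).subgroupOf C => ((y : C) : G)) h
      exact Subtype.ext (Subtype.ext (mul_left_cancel (mul_right_cancel this)))
    obtain ⟨R', hR'⟩ := ((P.2.to_le inf_le_left).of_equiv (Subgroup.subgroupOfEquivOfLe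
      (inf_le_right : (P : Subgroup G) ⊓ C ≤ C)).symm).exists_le_sylow
    have heq : ((P : Subgroup G) ⊓ C).subgroupOf C = (R' : Subgroup C) :=
      Subgroup.eq_of_le_of_card_ge hR' (by rw [R'.card_eq_multiplicity, ← R.card_eq_multiplicity]; exact hcard)
    rw [Subgroup.relIndex, heq]
    exact R'.not_dvd_index
  · have hodd : ∀ y ∈ (P : Subgroup G), Odd (orderOf y) := by
      intro y hy
      obtain ⟨k, hk⟩ := P.2 ⟨y, hy⟩
      exact ((Fact.out : p.Prime).odd_of_ne_two hp |>.pow).of_dvd_nat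
        (orderOf_dvd_of_pow_eq_one (by simpa using congrArg Subtype.val hk))
    rw [Subgroup.relIndex, Subgroup.index, Subgroup.inf_subgroupOf_left]
    let F : ↥(P : Subgroup G) → {x : G // x ∈ P ∧ z * x * z⁻¹ = x⁻¹} := fun x =>
      ⟨x * z * (x : G)⁻¹ * z⁻¹, by
        refine ⟨?_, ?_⟩
        · rw [show (x : G) * z * (x : G)⁻¹ * z⁻¹ = x * (z * (x : G)⁻¹ * z⁻¹) by group]
          exact (P : Subgroup G).mul_mem x.2
            ((Subgroup.mem_normalizer_iff.mp hzP _).mp ((P : Subgroup G).inv_mem x.2))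
        · simp only [hzinv, mul_inv_rev, inv_inv, mul_assoc, hzz, mul_one]⟩
    have hF : ∀ x y, F x = F y ↔ QuotientGroup.leftRel (C.subgroupOf P) x y := by
      intro x y
      rw [QuotientGroup.leftRel_apply, Subgroup.mem_subgroupOf, Subgroup.mem_centralizer_singleton_iff]
      simp only [F, Subtype.mk.injEq, mul_left_inj, Subgroup.coe_mul, Subgroup.coe_inv]
      constructor
      · intro h
        calc (x : G)⁻¹ * y * z = (x : G)⁻¹ * (y * z * (y : G)⁻¹) * y := by group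
          _ = (x : G)⁻¹ * (x * z * (x : G)⁻¹) * y := by rw [h]
          _ = z * ((x : G)⁻¹ * y) := by group
      · intro h
        calc (x : G) * z * (x : G)⁻¹ = x * (z * ((x : G)⁻¹ * y)) * (y : G)⁻¹ := by group
          _ = x * ((x : G)⁻¹ * y * z) * (y : G)⁻¹ := by rw [h]
          _ = y * z * (y : G)⁻¹ := by group
    refine Nat.card_congr (Equiv.ofBijective
      (Quotient.lift F (fun a b hab => (hF a b).mpr hab)) ⟨?_, ?_⟩)
    · rintro ⟨a⟩ ⟨b⟩ h
      exact Quotient.sound ((hF a b).mp h)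
    · rintro ⟨y, hyP, hy⟩
      obtain ⟨j, hj⟩ := hodd y hyP
      refine ⟨Quotient.mk'' ⟨y ^ (j + 1), (P : Subgroup G).pow_mem hyP _⟩, Subtype.ext ?_⟩
      show y ^ (j + 1) * z * (y ^ (j + 1))⁻¹ * z⁻¹ = y
      rw [show y ^ (j + 1) * z * (y ^ (j + 1))⁻¹ * z⁻¹ = y ^ (j + 1) * (z * (y ^ (j + 1))⁻¹ * z⁻¹) by group,
        ← inv_pow, ← conj_pow, show z * y⁻¹ * z⁻¹ = (z * y * z⁻¹)⁻¹ by group, hy, inv_inv, ← pow_add,
        show j + 1 + (j + 1) = 2 * j + 1 + 1 by omega, pow_succ, ← hj, pow_orderOf_eq_one, one_mul]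

end Cfsg.Agent.S1253
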