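import Cfsg.Statements.S1254
import Cfsg.Agent.Lib.Invol.DihedralSylowTransfer

set_option autoImplicit false
open Cfsg

namespace Cfsg.Agent.S1254

/-- Let X be a finite group whose Sylow 2-subgroup S is dihedral (of order at least 4). Then X has a normal 2-complement if and only if, for every Klein four-subgroup U ≤ S, the normalizer N_X(U) is generated by C_X(U) and N_S(U). -/
theorem result {X : Type*} [Group X] [Finite X] (S : Sylow 2 X) (m : ℕ) (hm : 2 ≤ m) (eS : (S : Subgroup X) ≃* DihedralGroup m) : Cfsg.HasNormalPComplement 2 X ↔ ∀ U : Subgroup X, U ≤ S → IsKleinFour U → Subgroup.normalizer (U : Set X) = Subgroup.centralizer (U : Set X) ⊔ ((S : Subgroup X) ⊓ Subgroup.normalizer (U : Set X)) := by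
  classical
  haveI : Fact (Nat.Prime 2) := ⟨Nat.prime_two⟩
  obtain ⟨h, ⟨E⟩⟩ := CfsgLib.Invol.DihedralSylow.exists_emb S hm eS
  constructor
  · intro hX U hUS hU
    obtain ⟨N, hN, hco, k, hk⟩ := CfsgLib.Transfer.hasNormalPComplement_iff.mp hX
    haveI := hN
    refine le_antisymm (fun g hg => ?_) (sup_le (Subgroup.centralizer_le_normalizer _) inf_le_right)
    obtain ⟨n, hn, s, hs, rfl, hfus⟩ := CfsgLib.Invol.DihedralSylow.fusion_complement
      (Nat.coprime_two_right.mp hco) hk S g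
    have h1 : ∀ u ∈ U, n * s * u * (n * s)⁻¹ = s * u * s⁻¹ ∧ Commute n (s * u * s⁻¹) := fun u hu =>
      hfus u (hUS hu) (hUS ((Subgroup.mem_normalizer_iff.mp hg u).mp hu))
    have hsN : s ∈ Subgroup.normalizer (U : Set X) :=
      CfsgLib.LocalEven.mem_normalizer_of_conj_le (by
        rintro _ ⟨u, hu, rfl⟩
        show s * u * s⁻¹ ∈ U
        rw [← (h1 u hu).1]
        exact (Subgroup.mem_normalizer_iff.mp hg u).mp hu)
    refine mul_mem (Subgroup.mem_sup_left (Subgroup.mem_centralizer_iff.mpr fun v hv => ?_))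
      (Subgroup.mem_sup_right ⟨hs, hsN⟩)
    have hv' : s⁻¹ * v * s ∈ U := (Subgroup.mem_normalizer_iff.mp hsN _).mpr (by simpa [mul_assoc] using hv)
    have hc := (h1 _ hv').2
    rw [show s * (s⁻¹ * v * s) * s⁻¹ = v by group] at hc
    exact hc.eq.symm
  intro hyp
  refine CfsgLib.Transfer.hasNormalPComplement_of_frobeniusCond
    (CfsgLib.Local.frobeniusCond_of_prime_pow fun q hq hq2 _ Q hQ g hg k hk => ?_)
  haveI := Fact.mk hq
  by_cases hfour : Nat.card Q = 4 ∧ ∀ x ∈ Q, x * x = 1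
  swap
  · exact E.centralizes_of_not_four hQ hg hq2 hk hfour
  obtain ⟨a, i, ha⟩ := E.exists_conj_four Q hfour.1 hfour.2
  set U := E.four i with hU
  set y := a * g * a⁻¹ with hy
  have hyN : y ∈ Subgroup.normalizer (U : Set X) := by
    refine CfsgLib.LocalEven.mem_normalizer_of_conj_le ?_
    rw [← ha, Subgroup.map_map]
    rintro _ ⟨x, hx, rfl⟩
    refine ⟨g * x * g⁻¹, (Subgroup.mem_normalizer_iff.mp hg x).mp hx, ?_⟩
    simp [MulAut.conj_apply, hy, mul_assoc]
  set Nm := Subgroup.normalizer (U : Set X) with hNm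
  set C := (Subgroup.centralizer (U : Set X)).subgroupOf Nm with hC
  set P := ((S : Subgroup X) ⊓ Nm).subgroupOf Nm with hP
  haveI : C.Normal := by
    refine ⟨fun x hx n => Subgroup.mem_centralizer_iff.mpr fun u hu => ?_⟩
    have hu' := (Subgroup.mem_normalizer_iff.mp (inv_mem n.2) u).mp hu
    have hc := Subgroup.mem_centralizer_iff.mp hx _ hu'
    simp only [Subgroup.coe_subtype, inv_inv] at hc
    push_cast
    calc u * ((n : X) * (x : X) * (n : X)⁻¹) = (n : X) * (((n : X)⁻¹ * u * n) * x) * (n : X)⁻¹ := by group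
      _ = (n : X) * (x : X) * (n : X)⁻¹ * u := by rw [hc]; group
  have htop : C ⊔ P = ⊤ := by
    rw [hC, hP, ← Subgroup.subgroupOf_sup (Subgroup.centralizer_le_normalizer _) inf_le_right,
      ← hyp U (E.four_le i) (E.isKleinFour_four i), Subgroup.subgroupOf_self]
  have hPp : IsPGroup 2 P := by
    refine IsPGroup.of_injective (S.isPGroup')
      ((Subgroup.inclusion (inf_le_left : (S : Subgroup X) ⊓ Nm ≤ _)).comp
        (Subgroup.subgroupOfEquivOfLe (inf_le_right : (S : Subgroup X) ⊓ Nm ≤ Nm)).toMonoidHom) ?_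
    exact (Subgroup.inclusion_injective (inf_le_left : (S : Subgroup X) ⊓ Nm ≤ _)).comp (Subgroup.subgroupOfEquivOfLe (inf_le_right : (S : Subgroup X) ⊓ Nm ≤ Nm)).injective
  have hq' : IsPGroup 2 (↥Nm ⧸ C) := by
    refine hPp.of_surjective ((QuotientGroup.mk' C).comp P.subtype) fun x => ?_
    obtain ⟨x, rfl⟩ := QuotientGroup.mk_surjective x
    obtain ⟨c, hc, p, hp, rfl⟩ := Subgroup.mem_sup_of_normal_left.mp (htop ▸ Subgroup.mem_top x : x ∈ C ⊔ P)
    exact ⟨⟨p, hp⟩, by simp [(QuotientGroup.eq_one_iff c).mpr hc]⟩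
  have hyo : orderOf (⟨y, hyN⟩ : Nm) = q ^ k := by
    rw [Subgroup.orderOf_mk, ← hk]; exact (MulAut.conj a).orderOf_eq g
  have hyC : (⟨y, hyN⟩ : Nm) ∈ C := by
    rw [← QuotientGroup.eq_one_iff]
    obtain ⟨j, hj⟩ := IsPGroup.iff_orderOf.mp hq' ((⟨y, hyN⟩ : Nm) : ↥Nm ⧸ C)
    have hd : orderOf ((⟨y, hyN⟩ : Nm) : ↥Nm ⧸ C) ∣ q ^ k := hyo ▸ orderOf_map_dvd (QuotientGroup.mk' C) _
    refine orderOf_eq_one_iff.mp (Nat.eq_one_of_dvd_coprimes (Nat.Coprime.pow j k ?_) (dvd_of_eq hj) hd)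
    exact (Nat.coprime_primes Nat.prime_two hq).mpr (Ne.symm hq2)
  rw [Subgroup.mem_centralizer_iff]
  intro x hx
  have hax : a * x * a⁻¹ ∈ U := ha ▸ Subgroup.mem_map_of_mem _ hx
  have h2 : a * x * a⁻¹ * y = y * (a * x * a⁻¹) := Subgroup.mem_centralizer_iff.mp hyC _ hax
  calc x * g = a⁻¹ * (a * x * a⁻¹ * y) * a := by rw [hy]; group
    _ = g * x := by rw [h2, hy]; group

end Cfsg.Agent.S1254
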