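import Cfsg.Statements.S1255
import Cfsg.Agent.Lib.Invol.DihedralSylowTransfer

set_option autoImplicit false
open Cfsg

namespace Cfsg.Agent.S1255

/-- Let X be a finite group whose Sylow 2-subgroup S is dihedral of order 2m ≥ 4. Then X has no subgroup of index 2 and no isolated involution if and only if either all involutions of X are conjugate, or for every Klein four-subgroup U ≤ S the index |N_X(U) : C_X(U)| equals 3 when |S| = 4 and equals 6 when |S| > 4. -/
theorem result {X : Type*} [Group X] [Finite X] (S : Sylow 2 X) (m : ℕ) (hm : 2 ≤ m) (eS : (S : Subgroup X) ≃* DihedralGroup m) : ((∀ H : Subgroup X, H.index ≠ 2) ∧ (∀ z : X, ¬ Cfsg.IsIsolatedInvolution z)) ↔ ((∀ a b : X, orderOf a = 2 → orderOf b = 2 → IsConj a b) ∨ (∀ U : Subgroup X, U ≤ S → IsKleinFour U → (Subgroup.centralizer (U : Set X)).relIndex (Subgroup.normalizer (U : Set X)) = (if Nat.card S = 4 then 3 else 6))) := by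
  classical
  haveI : Fact (Nat.Prime 2) := ⟨Nat.prime_two⟩
  haveI : Fact (Nat.Prime 3) := ⟨Nat.prime_three⟩
  obtain ⟨h, ⟨E⟩⟩ := CfsgLib.Invol.DihedralSylow.exists_emb S hm eS
  constructor
  · exact fun hl => Or.inl fun a b ha hb => E.one_class hl.1 ha hb
  intro hr
  have hone : ∀ a b : X, orderOf a = 2 → orderOf b = 2 → IsConj a b := by
    rcases hr with hone | hidx
    · exact hone
    have key : ∀ i, IsConj (E.ι (DihedralGroup.sr i)) E.z := by
      intro i
      set U := E.four i with hU
      have h3 : 3 ∣ (Subgroup.centralizer (U : Set X)).relIndex (Subgroup.normalizer (U : Set X)) := by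
        rw [hidx U (E.four_le i) (E.isKleinFour_four i)]
        split <;> norm_num
      set C := (Subgroup.centralizer (U : Set X)).subgroupOf (Subgroup.normalizer (U : Set X)) with hC
      haveI : C.Normal := by
        refine ⟨fun x hx n => Subgroup.mem_centralizer_iff.mpr fun u hu => ?_⟩
        have hu' := (Subgroup.mem_normalizer_iff.mp (inv_mem n.2) u).mp hu
        have hc := Subgroup.mem_centralizer_iff.mp hx _ hu'
        simp only [Subgroup.coe_subtype, inv_inv] at hc
        push_cast
        calc u * ((n : X) * (x : X) * (n : X)⁻¹) = (n : X) * (((n : X)⁻¹ * u * n) * x) * (n : X)⁻¹ := by group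
          _ = (n : X) * (x : X) * (n : X)⁻¹ * u := by rw [hc]; group
      obtain ⟨q, hq⟩ := exists_prime_orderOf_dvd_card' (G := _ ⧸ C) 3 (by rw [← Subgroup.index_eq_card]; exact h3)
      obtain ⟨n, rfl⟩ := QuotientGroup.mk_surjective q
      have hn3 : n ^ 3 ∈ C := (QuotientGroup.eq_one_iff _).mp (by
        rw [QuotientGroup.mk_pow]; exact hq ▸ pow_orderOf_eq_one _)
      have hnC : n ∉ C := fun hc => by
        rw [(QuotientGroup.eq_one_iff _).mpr hc, orderOf_one] at hq
        omega
      set g : X := (n : X) with hg
      have hfix3 : ∀ u ∈ U, g * (g * (g * u * g⁻¹) * g⁻¹) * g⁻¹ = u := fun u hu => by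
        have := Subgroup.mem_centralizer_iff.mp hn3 u hu
        push_cast at this
        rw [show g * (g * (g * u * g⁻¹) * g⁻¹) * g⁻¹ = g ^ 3 * u * (g ^ 3)⁻¹ by
          rw [pow_succ, pow_succ, pow_one]; group, hg]
        exact mul_inv_eq_iff_eq_mul.mpr this.symm
      have hmemU : ∀ u ∈ U, g * u * g⁻¹ ∈ U := fun u hu => (Subgroup.mem_normalizer_iff.mp n.2 u).mp hu
      have hzU : E.z ∈ U := Subgroup.mem_map_of_mem _ (CfsgLib.Invol.DihedralSylow.half_mem_fourD E.hm i)
      have haU : E.ι (DihedralGroup.sr i) ∈ U := Subgroup.mem_map_of_mem _ (CfsgLib.Invol.DihedralSylow.sr_self_mem i)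
      set a := E.ι (DihedralGroup.sr i) with ha
      have hset : (U : Set X) = {1, E.z, a, E.z * a} := by
        refine (Set.eq_of_subset_of_ncard_le ?_ ?_ (Set.toFinite _)).symm
        · rintro x (rfl | rfl | rfl | rfl)
          · exact one_mem U
          · exact hzU
          · exact haU
          · exact mul_mem hzU haU
        · have hz1 : E.z ≠ 1 := fun h1 => by have := E.orderOf_z; simp [h1] at this
          have ha1 : a ≠ 1 := fun h1 => by have := E.orderOf_refl i; simp [← ha, h1] at this
          have hza : E.z ≠ a := E.z_ne_refl i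
          have hzz : E.z * E.z = 1 := E.sq_four hzU
          have hza1 : E.z * a ≠ 1 := fun h1 => hza (by
            calc E.z = E.z * (E.z * a) := by rw [h1, mul_one]
              _ = a := by rw [← mul_assoc, hzz, one_mul])
          rw [show (U : Set X).ncard = Nat.card U from rfl, hU, E.card_four,
            Set.ncard_insert_of_notMem (by simp [Ne.symm hz1, Ne.symm ha1, Ne.symm hza1]),
            Set.ncard_insert_of_notMem (by simp [hza, ha1]), Set.ncard_pair (by simpa using hz1)]
      have hzmove : g * E.z * g⁻¹ ≠ E.z := by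
        intro hz
        apply hnC
        have hafix : g * a * g⁻¹ = a := by
          have hm1 : g * a * g⁻¹ ∈ (U : Set X) := hmemU a haU
          rw [hset] at hm1
          rcases hm1 with h1 | h1 | h1 | h1
          · have := E.orderOf_refl i
            rw [← ha, conj_eq_one_iff.mp h1] at this
            simp at this
          · exact absurd ((MulAut.conj g).injective (h1.trans hz.symm)) (Ne.symm (E.z_ne_refl i))
          · exact h1
          · exfalso
            have h3' := hfix3 a haU
            have hzz : E.z * E.z = 1 := E.sq_four hzU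
            have h5 : g * (E.z * a) * g⁻¹ = a := by
              rw [show g * (E.z * a) * g⁻¹ = (g * E.z * g⁻¹) * (g * a * g⁻¹) by group, hz, h1,
                ← mul_assoc, hzz, one_mul]
            rw [h1, h5, h1] at h3'
            have hz1 : E.z = 1 := mul_eq_right.mp h3'
            have := E.orderOf_z
            rw [hz1] at this
            simp at this
        refine Subgroup.mem_centralizer_iff.mpr fun u hu => ?_
        show u * g = g * u
        rw [hset] at hu
        rcases hu with rfl | rfl | rfl | rfl
        · simp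
        · exact (mul_inv_eq_iff_eq_mul.mp hz).symm
        · exact (mul_inv_eq_iff_eq_mul.mp hafix).symm
        · rw [mul_assoc, ← mul_inv_eq_iff_eq_mul.mp hafix, ← mul_assoc, ← mul_inv_eq_iff_eq_mul.mp hz, mul_assoc]
      have hm1 : g * E.z * g⁻¹ ∈ (U : Set X) := hmemU _ hzU
      rw [hset] at hm1
      rcases hm1 with h1 | h1 | h1 | h1
      · have := E.orderOf_z
        rw [conj_eq_one_iff.mp h1] at this
        simp at this
      · exact absurd h1 hzmove
      · exact (isConj_iff.mpr ⟨g, h1⟩).symm
      · have hm2 : g * (E.z * a) * g⁻¹ ∈ (U : Set X) := hmemU _ (mul_mem hzU haU)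
        rw [hset] at hm2
        rcases hm2 with h2 | h2 | h2 | h2
        · exfalso
          have h4 := conj_eq_one_iff.mp h2
          rw [h4] at h1
          have := E.orderOf_z
          rw [conj_eq_one_iff.mp h1] at this
          simp at this
        · exfalso
          have := hfix3 _ hzU
          rw [h1, h2] at this
          exact hzmove this
        · exact ((isConj_iff.mpr ⟨g, h1⟩).trans (isConj_iff.mpr ⟨g, h2⟩)).symm
        · exact absurd ((MulAut.conj g).injective (h1.trans h2.symm)) (fun h4 => by
            have := E.orderOf_refl i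
            rw [← ha, mul_eq_left.mp h4.symm] at this
            simp at this)
    have keyz : ∀ u : X, orderOf u = 2 → IsConj u E.z := fun u hu => by
      obtain ⟨g, hg | ⟨i, hi⟩⟩ := E.exists_conj_involution u hu
      · exact isConj_iff.mpr ⟨g, hg⟩
      · exact (isConj_iff.mpr ⟨g, hi⟩).trans (key i)
    exact fun a b ha hb => (keyz a ha).trans (keyz b hb).symm
  refine ⟨E.index_ne_two hone, fun z hz => ?_⟩
  obtain ⟨g, hg⟩ := isConj_iff.mp (hone E.z z E.orderOf_z hz.1)
  set b := g * E.ι (DihedralGroup.sr 0) * g⁻¹ with hb
  obtain ⟨k, hk⟩ := isConj_iff.mp (hone z b hz.1 (by rw [← E.orderOf_refl 0]; exact (MulAut.conj g).orderOf_eq _))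
  have hcomm : Commute z b := by
    have h1 := Subgroup.mem_centralizer_singleton_iff.mp (E.S_le_centralizer (E.mem_S (DihedralGroup.sr 0)))
    rw [← hg, hb]
    exact (show Commute E.z (E.ι (DihedralGroup.sr 0)) from h1.symm).map (MulAut.conj g).toMonoidHom
  have := hz.2 k (hk ▸ hcomm)
  rw [hk, ← hg, hb] at this
  exact E.z_ne_refl 0 ((MulAut.conj g).injective this).symm

end Cfsg.Agent.S1255
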