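import Cfsg.Statements.S1256
import Cfsg.Agent.Lib.Invol.DihedralSylowTransfer

set_option autoImplicit false
open Cfsg

namespace Cfsg.Agent.S1256

/-- Let X be a finite group whose Sylow 2-subgroup S is dihedral of order 2m ≥ 4. If |S| = 4, any two Klein four-subgroups of X are conjugate; if |S| > 4, there are Klein four-subgroups U₁, U₂ of X that are not conjugate, and every Klein four-subgroup of X is conjugate to U₁ or to U₂. -/
theorem result {X : Type*} [Group X] [Finite X] (S : Sylow 2 X) (m : ℕ) (hm : 2 ≤ m) (eS : (S : Subgroup X) ≃* DihedralGroup m) : (Nat.card S = 4 → ∀ U V : Subgroup X, IsKleinFour U → IsKleinFour V → (∃ x : X, U.map (MulAut.conj x).toMonoidHom = V)) ∧ (4 < Nat.card S → ∃ U₁ U₂ : Subgroup X, IsKleinFour U₁ ∧ IsKleinFour U₂ ∧ ¬ (∃ x : X, U₁.map (MulAut.conj x).toMonoidHom = U₂) ∧ ∀ V : Subgroup X, IsKleinFour V → (∃ x : X, V.map (MulAut.conj x).toMonoidHom = U₁) ∨ (∃ x : X, V.map (MulAut.conj x).toMonoidHom = U₂)) := by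
  classical
  haveI : Fact (Nat.Prime 2) := ⟨Nat.prime_two⟩
  obtain ⟨h, ⟨E⟩⟩ := CfsgLib.Invol.DihedralSylow.exists_emb S hm eS
  have hcardS : Nat.card (S : Subgroup X) = 2 * m := by
    rw [Nat.card_congr eS.toEquiv, DihedralGroup.nat_card]
  have hsq : ∀ U : Subgroup X, IsKleinFour U → ∀ x ∈ U, x * x = 1 := fun U hU x hx => by
    haveI := hU
    exact congrArg Subtype.val (IsKleinFour.mul_self (⟨x, hx⟩ : U))
  refine ⟨fun hS U V hU hV => ?_, fun hS => ?_⟩
  · obtain ⟨g, i, hg⟩ := E.exists_conj_four U hU.card_four (hsq U hU)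
    obtain ⟨g', j, hg'⟩ := E.exists_conj_four V hV.card_four (hsq V hV)
    have hij : E.four i = E.four j := by
      refine (Subgroup.eq_of_le_of_card_ge (E.four_le i) ?_).trans (Subgroup.eq_of_le_of_card_ge (E.four_le j) ?_).symm
      · rw [E.card_four]; exact hS.le
      · rw [E.card_four]; exact hS.le
    refine ⟨g'⁻¹ * g, ?_⟩
    rw [map_mul, MulAut.mul_def]
    show U.map ((MulAut.conj g'⁻¹).toMonoidHom.comp (MulAut.conj g).toMonoidHom) = V
    rw [← Subgroup.map_map, hg, hij, ← hg', Subgroup.map_map]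
    convert Subgroup.map_id V using 2
    ext x
    simp [MulAut.conj_apply, mul_assoc]
  · obtain ⟨q, hq⟩ : ∃ q, h = 2 * q := E.even.resolve_left fun h1 => by
      have := E.hm
      have : Nat.card S = Nat.card (S : Subgroup X) := rfl
      omega
    refine ⟨E.four 0, E.four 1, E.isKleinFour_four 0, E.isKleinFour_four 1, fun ⟨x, hx⟩ => ?_, fun V hV => ?_⟩
    · have := E.par_eq_of_conj hq hx
      simp at this
    · obtain ⟨g, i, hg⟩ := E.exists_conj_four V hV.card_four (hsq V hV)
      have h2 := (by decide +revert : ∀ a : ZMod 2, a = 0 ∨ a = 1)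
      rcases h2 (CfsgLib.Invol.DihedralSylow.par E.hm i) with hp | hp
      · left
        obtain ⟨k, hk⟩ := E.conj_of_par (i := i) (j := 0) (by rw [hp, map_zero])
        exact ⟨k * g, by rw [map_mul, MulAut.mul_def]; exact (Subgroup.map_map V _ _).symm.trans (hg.symm ▸ hk)⟩
      · right
        obtain ⟨k, hk⟩ := E.conj_of_par (i := i) (j := 1) (by rw [hp, map_one])
        exact ⟨k * g, by rw [map_mul, MulAut.mul_def]; exact (Subgroup.map_map V _ _).symm.trans (hg.symm ▸ hk)⟩

end Cfsg.Agent.S1256
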