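import Cfsg.Statements.S1258
import Cfsg.Agent.Lib.Cores.Layer
-- import your own Cfsg.Agent.* helpers here

set_option autoImplicit false
open Cfsg
open scoped commutatorElement

namespace Cfsg.Agent.S1258

/-- If the central quotient of a finite group X is non-abelian simple, then X = X' Z(X) and the commutator subgroup X' is quasisimple. -/
theorem result {X : Type*} [Group X] [Finite X] (hs : IsSimpleGroup (X ⧸ Subgroup.center X)) (hna : ¬ IsMulCommutative (X ⧸ Subgroup.center X)) : commutator X ⊔ Subgroup.center X = ⊤ ∧ Cfsg.IsQuasisimple ↥(commutator X) := by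
  have hcn : (commutator X).Normal := inferInstance
  have hsimp := hs
  set π := QuotientGroup.mk' (Subgroup.center X)
  have hsurj : Function.Surjective π := QuotientGroup.mk'_surjective _
  have hsup : commutator X ⊔ Subgroup.center X = ⊤ := by
    have hn := hcn.map π hsurj
    rcases hn.eq_bot_or_eq_top with h | h
    · exfalso
      apply hna
      refine ⟨⟨fun a b => ?_⟩⟩
      obtain ⟨x, rfl⟩ := hsurj a
      obtain ⟨y, rfl⟩ := hsurj b
      have hm : ⁅x, y⁆ ∈ commutator X := Subgroup.commutator_mem_commutator trivial trivial
      have : π ⁅x, y⁆ = 1 := by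
        have := Subgroup.mem_map_of_mem π hm
        rwa [h, Subgroup.mem_bot] at this
      rw [map_commutatorElement, commutatorElement_eq_one_iff_mul_comm] at this
      exact this
    · have h2 := congrArg (Subgroup.comap π) h
      rwa [Subgroup.comap_map_eq, QuotientGroup.ker_mk', Subgroup.comap_top] at h2
  refine ⟨hsup, ?_, ?_⟩
  · rw [Subgroup.isPerfect_iff]
    refine le_antisymm (CfsgLib.Cores.commutator_self_le' _) ?_
    have h1 : ⁅commutator X, commutator X⁆.Normal := inferInstance
    set D : Subgroup X := ⁅commutator X, commutator X⁆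
    have hD : commutator X ⊔ Subgroup.center X = ⊤ := hsup
    -- modulo `D` the whole group is commutative
    rw [← QuotientGroup.ker_mk' D, commutator_def, Subgroup.commutator_le]
    intro a _ b _
    rw [MonoidHom.mem_ker, map_commutatorElement, commutatorElement_eq_one_iff_mul_comm]
    have key : ∀ x : X, QuotientGroup.mk' D x ∈ Subgroup.centralizer ((commutator X).map (QuotientGroup.mk' D) : Set (X ⧸ D)) := by
      intro x
      have hx : x ∈ commutator X ⊔ Subgroup.center X := by rw [hsup]; trivial
      have hle : commutator X ⊔ Subgroup.center X ≤ (Subgroup.centralizer ((commutator X).map (QuotientGroup.mk' D) : Set (X ⧸ D))).comap (QuotientGroup.mk' D) := by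
        refine sup_le ?_ ?_ <;> intro c hc <;> rw [Subgroup.mem_comap, Subgroup.mem_centralizer_iff] <;>
          rintro _ ⟨d, hd, rfl⟩
        · rw [← commutatorElement_eq_one_iff_mul_comm, ← map_commutatorElement]
          exact (QuotientGroup.eq_one_iff _).2 (Subgroup.commutator_mem_commutator hd hc)
        · rw [← map_mul, ← map_mul, Subgroup.mem_center_iff.1 hc d]
      exact hle hx
    have hb : b ∈ commutator X ⊔ Subgroup.center X := by rw [hsup]; trivial
    have hle : commutator X ⊔ Subgroup.center X ≤ (Subgroup.centralizer {QuotientGroup.mk' D a}).comap (QuotientGroup.mk' D) := by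
      refine sup_le ?_ ?_ <;> intro c hc <;> rw [Subgroup.mem_comap, Subgroup.mem_centralizer_singleton_iff]
      · exact Subgroup.mem_centralizer_iff.1 (key a) _ ⟨c, hc, rfl⟩
      · rw [← map_mul, ← map_mul, Subgroup.mem_center_iff.1 hc a]
    exact (Subgroup.mem_centralizer_singleton_iff.1 (hle hb)).symm
  · set φ : ↥(commutator X) →* X ⧸ Subgroup.center X := π.comp (commutator X).subtype with hφ
    have hφs : Function.Surjective φ := by
      intro q
      obtain ⟨x, rfl⟩ := hsurj q
      have hx : x ∈ commutator X ⊔ Subgroup.center X := by rw [hsup]; trivial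
      obtain ⟨c, hc, z, hz, rfl⟩ := Subgroup.mem_sup_of_normal_left.1 hx
      refine ⟨⟨c, hc⟩, ?_⟩
      have hz1 : π z = 1 := (QuotientGroup.eq_one_iff z).2 hz
      simp [hφ, hz1]
    have hker : φ.ker = Subgroup.center ↥(commutator X) := by
      ext c
      rw [MonoidHom.mem_ker, hφ, MonoidHom.comp_apply, QuotientGroup.mk'_apply,
        QuotientGroup.eq_one_iff, Subgroup.mem_center_iff, Subgroup.mem_center_iff]
      constructor
      · exact fun h d => Subtype.ext (h d)
      · intro h x
        have hx : x ∈ commutator X ⊔ Subgroup.center X := by rw [hsup]; trivial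
        obtain ⟨d, hd, z, hz, rfl⟩ := Subgroup.mem_sup_of_normal_left.1 hx
        have h1 : (d : X) * c = c * d := congrArg Subtype.val (h ⟨d, hd⟩)
        have h2 := Subgroup.mem_center_iff.1 hz (c : X)
        show d * z * (c : X) = c * (d * z)
        rw [mul_assoc, ← h2, ← mul_assoc, h1, mul_assoc]
    let e : ↥(commutator X) ⧸ Subgroup.center ↥(commutator X) ≃* X ⧸ Subgroup.center X :=
      (QuotientGroup.quotientMulEquivOfEq hker.symm).trans (QuotientGroup.quotientKerEquivOfSurjective φ hφs)
    have : Nontrivial (↥(commutator X) ⧸ Subgroup.center ↥(commutator X)) := e.toEquiv.nontrivial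
    exact IsSimpleGroup.isSimpleGroup_of_surjective e.symm.toMonoidHom e.symm.surjective

end Cfsg.Agent.S1258
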