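import Cfsg.Statements.S1263
import Cfsg.Agent.Lib.Cores.Layer
-- import your own Cfsg.Agent.* helpers here

set_option autoImplicit false
open Cfsg

namespace Cfsg.Agent.S1263

/-- For a finite group G, Z(E(G)) is the subgroup generated by the centres Z(L) of the components L of G (all viewed as subgroups of G). -/
theorem result {G : Type*} [Group G] [Finite G] : (Subgroup.center ↥(Cfsg.layer G)).map (Cfsg.layer G).subtype = ⨆ L : {K : Subgroup G // Cfsg.IsComponent K}, (Subgroup.center ↥(L : Subgroup G)).map (L : Subgroup G).subtype := by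
  simp only [CfsgLib.Cores.map_center_eq_inf_centralizer]
  refine le_antisymm ?_ (iSup_le fun L => CfsgLib.Cores.componentCenters_le_center_layer L.2)
  set W := ⨆ L : {K : Subgroup G // Cfsg.IsComponent K}, (L : Subgroup G) ⊓ Subgroup.centralizer ((L : Subgroup G) : Set G)
  have key : ∀ S : Set (Subgroup G), (∀ L ∈ S, Cfsg.IsComponent L) →
      sSup S ⊓ Subgroup.centralizer (Cfsg.layer G : Set G) ≤ W := by
    intro S
    induction S, S.toFinite using Set.Finite.induction_on with
    | empty =>
      intro _
      rw [sSup_empty]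
      exact inf_le_left.trans bot_le
    | @insert L T hLT _ ih =>
      intro hS
      have hL := hS L (Set.mem_insert _ _)
      have hT : ∀ K ∈ T, Cfsg.IsComponent K := fun K hK => hS K (Set.mem_insert_of_mem _ hK)
      have hTE : sSup T ≤ Cfsg.layer G := sSup_le fun K hK => CfsgLib.Cores.component_le_layer (hT K hK)
      have hTL : sSup T ≤ Subgroup.centralizer (L : Set G) := sSup_le fun K hK =>
        Subgroup.commutator_eq_bot_iff_le_centralizer.1
          (CfsgLib.Cores.commutator_components_eq_bot (hT K hK) hL fun h => hLT (h ▸ hK))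
      rw [sSup_insert]
      rintro z ⟨hz, hzC⟩
      replace hz : z ∈ ((L ⊔ sSup T : Subgroup G) : Set G) := hz
      rw [Subgroup.coe_mul_of_right_le_normalizer_left L (sSup T) (hTL.trans (Subgroup.centralizer_le_normalizer _))] at hz
      obtain ⟨l, hl, t, ht, rfl⟩ := Set.mem_mul.1 hz
      have hlC : l ∈ Subgroup.centralizer (L : Set G) := by
        rw [Subgroup.mem_centralizer_iff]
        intro x hx
        have h1 := Subgroup.mem_centralizer_iff.1 hzC x (CfsgLib.Cores.component_le_layer hL hx)
        have h2 := Subgroup.mem_centralizer_iff.1 (hTL ht) x hx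
        rw [mul_assoc l t x, ← h2, ← mul_assoc, ← mul_assoc] at h1
        exact mul_right_cancel h1
      have hlW : l ∈ W := Subgroup.mem_iSup_of_mem (⟨L, hL⟩ : {K : Subgroup G // Cfsg.IsComponent K}) ⟨hl, hlC⟩
      have hlE : l ∈ Subgroup.centralizer (Cfsg.layer G : Set G) :=
        (CfsgLib.Cores.componentCenters_le_center_layer hL ⟨hl, hlC⟩).2
      refine mul_mem hlW (ih hT ⟨ht, ?_⟩)
      have : t = l⁻¹ * (l * t) := by group
      rw [this]
      show _ ∈ Subgroup.centralizer (Cfsg.layer G : Set G)
      exact mul_mem (inv_mem hlE) hzC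
  exact key _ fun L hL => hL

end Cfsg.Agent.S1263
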