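import Cfsg.Statements.S1270
import Cfsg.Agent.Lib.Cores.BalanceAut
import Cfsg.Agent.Lib.Solvable.CoprimeAction
-- import your own Cfsg.Agent.* helpers here

set_option autoImplicit false
open Cfsg

namespace Cfsg.Agent.S1270

/-- Let G be finite with O_{p'}(G) = 1, x of order p, and L a component with ⁅L, ⟨x⟩⁆ ≠ L. Then ⁅L, O_{p'}(C_G(x))⁆ = 1. -/
theorem result {G : Type*} [Group G] [Finite G] (p : ℕ) [Fact p.Prime] (hO : Cfsg.pPrimeCore p G = ⊥) (x : G) (hx : orderOf x = p) (L : Subgroup G) (hL : Cfsg.IsComponent L) (hne : ⁅L, Subgroup.zpowers x⁆ ≠ L) : ⁅L, Cfsg.centralizerPPrimeCore p x⁆ = ⊥ := by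
  rw [Subgroup.commutator_eq_bot_iff_le_centralizer]
  intro l hl
  rw [Subgroup.mem_centralizer_iff]
  intro d hd
  refine (Subgroup.mem_centralizer_iff.1 (CfsgLib.Cores.centralizerPPrimeCore_le_centralizer_component hO hx hL ?_ hd) l hl).symm
  by_contra hcon
  push Not at hcon
  obtain ⟨hxc, hxn⟩ := hcon
  apply hne
  have hzn : Subgroup.zpowers x ≤ Subgroup.normalizer (L : Set G) := Subgroup.zpowers_le.2 hxn
  have hle : ⁅L, Subgroup.zpowers x⁆ ≤ L := CfsgLib.Solvable.commutator_le_of_le_normalizer hzn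
  haveI : (⁅L, Subgroup.zpowers x⁆.subgroupOf L).Normal :=
    Subgroup.normal_subgroupOf_of_le_normalizer (CfsgLib.Solvable.le_normalizer_commutator_left L _)
  rcases CfsgLib.Cores.normal_eq_top_or_le_center_of_isQuasisimple hL.2 (⁅L, Subgroup.zpowers x⁆.subgroupOf L) with h | h
  · exact le_antisymm hle (Subgroup.subgroupOf_eq_top.1 h)
  · exfalso
    apply hxc
    have hm : ∀ m ∈ L, x * m * x⁻¹ * m⁻¹ ∈ ⁅L, Subgroup.zpowers x⁆ := fun m hm => by
      rw [Subgroup.commutator_comm]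
      exact Subgroup.commutator_mem_commutator (Subgroup.mem_zpowers x) hm
    refine CfsgLib.Cores.mem_centralizer_of_commutator_central (CfsgLib.Cores.component_commutator_self hL)
      (fun m hm' v hv => ?_) fun m hm' => hle (hm m hm')
    exact (congrArg Subtype.val (Subgroup.mem_center_iff.1
      (h (show (⟨_, hle (hm m hm')⟩ : L) ∈ _ from hm m hm')) ⟨v, hv⟩)).symm

end Cfsg.Agent.S1270
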