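import Cfsg.Statements.S1271
import Cfsg.Agent.Lib.Cores.BalanceAut
import Cfsg.Agent.Lib.Solvable.CoprimeAction
-- import your own Cfsg.Agent.* helpers here

set_option autoImplicit false
open Cfsg

namespace Cfsg.Agent.S1271

/-- Let G be finite with O_{p'}(G) = 1. Suppose that for every component L of G and every subgroup H ≥ L in which L is normal, the quotient H / C_H(L) is balanced for the prime p. Then G is balanced for p. -/
theorem result {G : Type*} [Group G] [Finite G] (p : ℕ) [Fact p.Prime] (hO : Cfsg.pPrimeCore p G = ⊥) (h : ∀ L : Subgroup G, Cfsg.IsComponent L → ∀ H : Subgroup G, L ≤ H → (L.subgroupOf H).Normal → ∀ [((Subgroup.centralizer (L : Set G)).subgroupOf H).Normal], Cfsg.IsBalancedFor p (↥H ⧸ (Subgroup.centralizer (L : Set G)).subgroupOf H)) : Cfsg.IsBalancedFor p G := by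
  intro x hx
  have hx1 : x ≠ 1 := fun e => by
    rw [e, orderOf_one] at hx
    exact (Fact.out : p.Prime).one_lt.ne hx
  have hA1 : Subgroup.zpowers x ≠ ⊥ := by simpa using hx1
  rw [← CfsgLib.Cores.signalizerDelta_zpowers hx,
    CfsgLib.Cores.signalizerDelta_eq_bot hO (CfsgLib.Cores.elemAb_zpowers hx) hA1 fun L hL H hLH hHN => ?_]
  · exact bot_le
  intro _ B hB hBcard
  rw [Nat.card_zpowers, hx] at hBcard
  haveI : Fact (Nat.card B).Prime := ⟨hBcard ▸ (Fact.out : p.Prime)⟩
  obtain ⟨b, hb, hb1⟩ := B.bot_or_exists_ne_one.resolve_left fun h => by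
    rw [h, Subgroup.card_bot] at hBcard
    exact (Fact.out : p.Prime).one_lt.ne hBcard
  have h1 := (CfsgLib.Cores.signalizerDelta_le (p := p) hb hb1).trans
    (h L hL H hLH ((Subgroup.normal_subgroupOf_iff_le_normalizer hLH).2 hHN) b (orderOf_eq_prime (hB.2 b hb) hb1))
  rwa [CfsgLib.Cores.pPrimeCore_automizer_eq_bot hO hL hLH hHN, le_bot_iff] at h1

end Cfsg.Agent.S1271
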