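import Cfsg.Statements.S1272
import Cfsg.Agent.Lib.Cores.PComponents
-- import your own Cfsg.Agent.* helpers here

set_option autoImplicit false
open Cfsg

namespace Cfsg.Agent.S1272

/-- Let X be finite and Q = X / O_{p'}(X). For every component Kbar of Q there is a unique p-component K of X whose image in Q is Kbar; and the image of the p-layer L_{p'}(X) in Q is E(Q). -/
theorem result {X : Type*} [Group X] [Finite X] (p : ℕ) [Fact p.Prime] : (∀ Kbar : Subgroup (X ⧸ Cfsg.pPrimeCore p X), Cfsg.IsComponent Kbar → ∃! K : Subgroup X, Cfsg.IsPComponent p K ∧ K.map (QuotientGroup.mk' (Cfsg.pPrimeCore p X)) = Kbar) ∧ (Cfsg.pLayer p X).map (QuotientGroup.mk' (Cfsg.pPrimeCore p X)) = Cfsg.layer (X ⧸ Cfsg.pPrimeCore p X) :=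
  ⟨fun _ hK => ⟨CfsgLib.Cores.pComponentOf p _, ⟨CfsgLib.Cores.isPComponent_pComponentOf hK, CfsgLib.Cores.map_pComponentOf hK⟩,
    fun K hK' => by rw [← CfsgLib.Cores.pComponent_eq_pComponentOf hK'.1, hK'.2]⟩, CfsgLib.Cores.map_mk'_pLayer⟩

end Cfsg.Agent.S1272
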