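import Cfsg.Statements.S1276
import Cfsg.Agent.Lib.Cores.PComponents
-- import your own Cfsg.Agent.* helpers here

set_option autoImplicit false
open Cfsg

namespace Cfsg.Agent.S1276

/-- Let K be a 2-component of the finite group X. Then K is quasisimple if and only if ⁅K, O(K)⁆ = 1. -/
theorem result {X : Type*} [Group X] [Finite X] (K : Subgroup X) (hK : Cfsg.IsPComponent 2 K) : Cfsg.IsQuasisimple ↥K ↔ ⁅K, ((Cfsg.oddCore ↥K).map K.subtype)⁆ = ⊥ := by
  have h2 : ((Cfsg.oddCore ↥K).map K.subtype) ≤ Subgroup.centralizer (K : Set X) ↔ Cfsg.oddCore ↥K ≤ Subgroup.center ↥K := by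
    constructor
    · intro h z hz
      rw [Subgroup.mem_center_iff]
      intro g
      exact Subtype.ext (Subgroup.mem_centralizer_iff.1 (h ⟨z, hz, rfl⟩) g g.2)
    · rintro h _ ⟨z, hz, rfl⟩
      rw [Subgroup.mem_centralizer_iff]
      intro g hg
      exact congrArg Subtype.val (Subgroup.mem_center_iff.1 (h hz) ⟨g, hg⟩)
  rw [Subgroup.commutator_comm, Subgroup.commutator_eq_bot_iff_le_centralizer, h2]
  constructor
  · intro h
    refine (CfsgLib.Cores.normal_eq_top_or_le_center_of_isQuasisimple h _).resolve_left fun ht => ?_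
    exact CfsgLib.Cores.not_dvd_card_pPrimeCore (G := ↥K) 2 (by rw [show Cfsg.pPrimeCore 2 ↥K = ⊤ from ht, Subgroup.card_top]; exact CfsgLib.Cores.dvd_card_pComponent hK)
  · intro h
    have hq := CfsgLib.Cores.isQuasisimple_quotient_pPrimeCore hK
    have hperf : Group.IsPerfect ↥K := Subgroup.isPerfect_iff.2 (CfsgLib.Cores.pComponent_commutator_self hK)
    refine ⟨hperf, ?_⟩
    set π := QuotientGroup.mk' (Cfsg.oddCore ↥K)
    set f := (QuotientGroup.mk' (Subgroup.center (↥K ⧸ Cfsg.oddCore ↥K))).comp π with hf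
    have hsurj : Function.Surjective f :=
      (QuotientGroup.mk'_surjective _).comp (QuotientGroup.mk'_surjective _)
    have hker : f.ker = Subgroup.center ↥K := by
      apply le_antisymm
      · rw [← Subgroup.commutator_top_right_eq_bot_iff_le_center, Subgroup.commutator_comm]
        refine CfsgLib.Cores.commutator_eq_bot_of_perfect (by rw [← commutator_def]; exact hperf.commutator_eq_top) ?_
        rw [eq_bot_iff]
        refine le_trans (Subgroup.commutator_mono (H₁ := ⁅(⊤ : Subgroup ↥K), f.ker⁆) (K₁ := Cfsg.oddCore ↥K) ?_ le_rfl) ?_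
        · refine le_of_le_of_eq (b := π.ker) ?_ (QuotientGroup.ker_mk' _)
          rw [← Subgroup.map_eq_bot_iff, Subgroup.map_commutator, eq_bot_iff]
          refine le_trans (Subgroup.commutator_mono le_top (K₂ := Subgroup.center (↥K ⧸ Cfsg.oddCore ↥K)) ?_) ?_
          · rintro _ ⟨w, hw, rfl⟩
            rw [SetLike.mem_coe, MonoidHom.mem_ker, hf, MonoidHom.comp_apply, QuotientGroup.mk'_apply, QuotientGroup.eq_one_iff] at hw
            exact hw
          · rw [Subgroup.commutator_comm, Subgroup.commutator_top_right_eq_bot_iff_le_center.2 le_rfl]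
        · rw [(Subgroup.commutator_top_right_eq_bot_iff_le_center).2 h]
      · intro z hz
        rw [MonoidHom.mem_ker, hf, MonoidHom.comp_apply, QuotientGroup.mk'_apply, QuotientGroup.eq_one_iff, Subgroup.mem_center_iff]
        intro q
        obtain ⟨w, rfl⟩ := QuotientGroup.mk'_surjective _ q
        rw [← map_mul, ← map_mul, Subgroup.mem_center_iff.1 hz w]
    let e := (QuotientGroup.quotientMulEquivOfEq hker.symm).trans (QuotientGroup.quotientKerEquivOfSurjective f hsurj)
    have hs := hq.2
    have := hs.toNontrivial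
    have : Nontrivial (↥K ⧸ Subgroup.center ↥K) := e.toEquiv.nontrivial
    exact IsSimpleGroup.isSimpleGroup_of_surjective e.symm.toMonoidHom e.symm.surjective

end Cfsg.Agent.S1276
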