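import Cfsg.Statements.S1277
import Cfsg.Agent.Lib.Cores.PComponents
-- import your own Cfsg.Agent.* helpers here

set_option autoImplicit false
open Cfsg

namespace Cfsg.Agent.S1277

/-- For a finite group X with core O(X): the image of E(X) in X / O(X) is all of E(X / O(X)) if and only if every 2-component of X is a component, i.e. L_{2'}(X) ≤ E(X). -/
theorem result {X : Type*} [Group X] [Finite X] : (Cfsg.layer X).map (QuotientGroup.mk' (Cfsg.oddCore X)) = Cfsg.layer (X ⧸ Cfsg.oddCore X) ↔ Cfsg.pLayer 2 X ≤ Cfsg.layer X := by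
  set π := QuotientGroup.mk' (Cfsg.oddCore X)
  constructor
  · intro h
    rw [CfsgLib.Cores.pLayer_le_iff]
    intro K hK
    by_contra hKE
    have hsolv : Group.IsSolvable ↥(K.map π) → False := CfsgLib.Cores.not_isSolvable_of_isQuasisimple hK.2.1.2
    have hcomm : ∀ L : Subgroup X, Cfsg.IsComponent L → L.map π ≤ Subgroup.centralizer ((K.map π : Subgroup _) : Set _) := by
      intro L hL
      rw [← Subgroup.commutator_eq_bot_iff_le_centralizer]
      rcases eq_or_ne (L.map π) ⊥ with hb | hb
      · rw [hb, Subgroup.commutator_bot_left]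
      · refine CfsgLib.Cores.commutator_components_eq_bot
          (CfsgLib.Cores.isComponent_map_of_surjective hL π (QuotientGroup.mk'_surjective _) hb) hK.2.1 fun he => hKE ?_
        have hLp := CfsgLib.Cores.isPComponent_of_isComponent (p := 2) hL (by
          rwa [← QuotientGroup.ker_mk' (Cfsg.pPrimeCore 2 X), ← Subgroup.map_eq_bot_iff])
        rw [CfsgLib.Cores.pComponent_eq_of_map_eq hK hLp he.symm]
        exact CfsgLib.Cores.component_le_layer hL
    have h2 : K.map π ≤ Subgroup.centralizer ((K.map π : Subgroup _) : Set _) := by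
      refine (CfsgLib.Cores.component_le_layer hK.2.1).trans (h.ge.trans ?_)
      rw [Subgroup.map_le_iff_le_comap, CfsgLib.Cores.layer_le_iff]
      exact fun L hL => Subgroup.map_le_iff_le_comap.1 (hcomm L hL)
    rw [← Subgroup.commutator_eq_bot_iff_le_centralizer, CfsgLib.Cores.component_commutator_self hK.2.1] at h2
    exact CfsgLib.Cores.component_ne_bot hK.2.1 h2
  · intro h
    refine le_antisymm ?_ (CfsgLib.Cores.map_mk'_pLayer.ge.trans (Subgroup.map_mono h))
    rw [Subgroup.map_le_iff_le_comap, CfsgLib.Cores.layer_le_iff]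
    intro L hL
    rw [← Subgroup.map_le_iff_le_comap]
    rcases eq_or_ne (L.map π) ⊥ with hb | hb
    · rw [hb]; exact bot_le
    · exact CfsgLib.Cores.component_le_layer
        (CfsgLib.Cores.isComponent_map_of_surjective hL π (QuotientGroup.mk'_surjective _) hb)

end Cfsg.Agent.S1277
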