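import Cfsg.Statements.S1278
import Cfsg.Agent.Lib.Cores.PComponents
-- import your own Cfsg.Agent.* helpers here

set_option autoImplicit false
open Cfsg

namespace Cfsg.Agent.S1278

/-- Let K ≠ L be 2-components of the finite group X. Then ⁅K, L⁆ ≤ O(K) ⊓ O(L), and if K is quasisimple then ⁅K, L⁆ = 1. -/
theorem result {X : Type*} [Group X] [Finite X] (K L : Subgroup X) (hK : Cfsg.IsPComponent 2 K) (hL : Cfsg.IsPComponent 2 L) (hne : K ≠ L) : ⁅K, L⁆ ≤ ((Cfsg.oddCore ↥K).map K.subtype) ⊓ ((Cfsg.oddCore ↥L).map L.subtype) ∧ (Cfsg.IsQuasisimple ↥K → ⁅K, L⁆ = ⊥) := by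
  refine ⟨CfsgLib.Cores.commutator_pComponents_le hK hL hne, fun hq => ?_⟩
  apply CfsgLib.Cores.commutator_eq_bot_of_perfect (CfsgLib.Cores.pComponent_commutator_self hK)
  rw [eq_bot_iff]
  refine le_trans (Subgroup.commutator_mono ((CfsgLib.Cores.commutator_pComponents_le hK hL hne).trans inf_le_left) le_rfl) ?_
  have hz : Cfsg.oddCore ↥K ≤ Subgroup.center ↥K := by
    refine (CfsgLib.Cores.normal_eq_top_or_le_center_of_isQuasisimple hq _).resolve_left fun ht => ?_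
    exact CfsgLib.Cores.not_dvd_card_pPrimeCore (G := ↥K) 2 (by rw [show Cfsg.pPrimeCore 2 ↥K = ⊤ from ht, Subgroup.card_top]; exact CfsgLib.Cores.dvd_card_pComponent hK)
  refine le_trans (le_of_eq ?_) bot_le
  rw [Subgroup.commutator_eq_bot_iff_le_centralizer]
  rintro _ ⟨z, hzK, rfl⟩
  rw [Subgroup.mem_centralizer_iff]
  intro g hg
  exact congrArg Subtype.val (Subgroup.mem_center_iff.1 (hz hzK) ⟨g, hg⟩)

end Cfsg.Agent.S1278
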