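import Cfsg.Statements.S1286
import Cfsg.Agent.Lib.Cores.Basic
-- import your own Cfsg.Agent.* helpers here

set_option autoImplicit false
open Cfsg

namespace Cfsg.Agent.S1286

/-- There exist a finite group X, an elementary abelian subgroup A of order 4 and a solvable A-signalizer functor θ on X for the prime 2 which is not complete. -/
theorem result : ∃ (X : Type) (_ : Group X) (_ : Finite X) (A : Subgroup X) (θ : X → Subgroup X), Cfsg.IsElementaryAbelian 2 A ∧ Nat.card ↥A = 4 ∧ Cfsg.IsSolvableSignalizerFunctor 2 A θ ∧ ¬ Cfsg.IsCompleteSignalizerFunctor 2 A θ := by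
  let a : Equiv.Perm (Fin 5) := Equiv.swap 0 1
  let b : Equiv.Perm (Fin 5) := Equiv.swap 2 3
  let u : Equiv.Perm (Fin 5) := Equiv.swap 2 3 * Equiv.swap 3 4
  let v : Equiv.Perm (Fin 5) := Equiv.swap 0 1 * Equiv.swap 1 4
  let A : Subgroup (Equiv.Perm (Fin 5)) :=
    { carrier := {1, a, b, a * b}
      mul_mem' := by
        intro x y hx hy
        simp only [Set.mem_insert_iff, Set.mem_singleton_iff] at hx hy ⊢
        rcases hx with rfl | rfl | rfl | rfl <;> rcases hy with rfl | rfl | rfl | rfl <;> decide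
      one_mem' := Set.mem_insert _ _
      inv_mem' := by
        intro x hx
        simp only [Set.mem_insert_iff, Set.mem_singleton_iff] at hx ⊢
        rcases hx with rfl | rfl | rfl | rfl <;> decide }
  let U : Subgroup (Equiv.Perm (Fin 5)) :=
    { carrier := {1, u, u * u}
      mul_mem' := by
        intro x y hx hy
        simp only [Set.mem_insert_iff, Set.mem_singleton_iff] at hx hy ⊢
        rcases hx with rfl | rfl | rfl <;> rcases hy with rfl | rfl | rfl <;> decide
      one_mem' := Set.mem_insert _ _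
      inv_mem' := by
        intro x hx
        simp only [Set.mem_insert_iff, Set.mem_singleton_iff] at hx ⊢
        rcases hx with rfl | rfl | rfl <;> decide }
  let V : Subgroup (Equiv.Perm (Fin 5)) :=
    { carrier := {1, v, v * v}
      mul_mem' := by
        intro x y hx hy
        simp only [Set.mem_insert_iff, Set.mem_singleton_iff] at hx hy ⊢
        rcases hx with rfl | rfl | rfl <;> rcases hy with rfl | rfl | rfl <;> decide
      one_mem' := Set.mem_insert _ _
      inv_mem' := by
        intro x hx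
        simp only [Set.mem_insert_iff, Set.mem_singleton_iff] at hx ⊢
        rcases hx with rfl | rfl | rfl <;> decide }
  have hA : ∀ x ∈ A, x = 1 ∨ x = a ∨ x = b ∨ x = a * b := fun x hx => by
    simpa [A] using hx
  have hU : ∀ x ∈ U, x = 1 ∨ x = u ∨ x = u * u := fun x hx => by
    simpa [U] using hx
  have hV : ∀ x ∈ V, x = 1 ∨ x = v ∨ x = v * v := fun x hx => by
    simpa [V] using hx
  let θ : Equiv.Perm (Fin 5) → Subgroup (Equiv.Perm (Fin 5)) := fun x => if x = a then U else if x = b then V else ⊥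
  have hθab : θ (a * b) = ⊥ := by
    show (if a * b = a then U else if a * b = b then V else ⊥) = ⊥
    rw [if_neg (by decide), if_neg (by decide)]
  have hθa : θ a = U := by
    show (if a = a then U else if a = b then V else ⊥) = U
    rw [if_pos rfl]
  have hθb : θ b = V := by
    show (if b = a then U else if b = b then V else ⊥) = V
    rw [if_neg (by decide), if_pos rfl]
  have hUV : ∀ x ∈ A, x ≠ 1 → θ x = ⊥ ∧ x = a * b ∨ θ x = U ∧ x = a ∨ θ x = V ∧ x = b := by
    intro x hx hx1
    rcases hA x hx with h | h | h | h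
    · exact absurd h hx1
    · exact Or.inr (Or.inl ⟨h ▸ hθa, h⟩)
    · exact Or.inr (Or.inr ⟨h ▸ hθb, h⟩)
    · exact Or.inl ⟨h ▸ hθab, h⟩
  have hUcard : Nat.card ↥U = 3 := by
    have h : Nat.card ↥U = Set.ncard ({1, u, u * u} : Set (Equiv.Perm (Fin 5))) := rfl
    rw [h, Set.ncard_insert_of_notMem (by simp only [Set.mem_insert_iff, Set.mem_singleton_iff]; decide), Set.ncard_pair (by decide)]
  have hVcard : Nat.card ↥V = 3 := by
    have h : Nat.card ↥V = Set.ncard ({1, v, v * v} : Set (Equiv.Perm (Fin 5))) := rfl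
    rw [h, Set.ncard_insert_of_notMem (by simp only [Set.mem_insert_iff, Set.mem_singleton_iff]; decide), Set.ncard_pair (by decide)]
  have hAcard : Nat.card ↥A = 4 := by
    have h : Nat.card ↥A = Set.ncard ({1, a, b, a * b} : Set (Equiv.Perm (Fin 5))) := rfl
    rw [h, Set.ncard_insert_of_notMem (by simp only [Set.mem_insert_iff, Set.mem_singleton_iff]; decide),
      Set.ncard_insert_of_notMem (by simp only [Set.mem_insert_iff, Set.mem_singleton_iff]; decide), Set.ncard_pair (by decide)]
  refine ⟨Equiv.Perm (Fin 5), inferInstance, inferInstance, A, θ, ⟨⟨⟨?_⟩⟩, ?_⟩, hAcard, ⟨⟨?_, ?_, ?_, ?_⟩, ?_⟩, ?_⟩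
  · rintro ⟨x, hx⟩ ⟨y, hy⟩
    refine Subtype.ext ?_
    show x * y = y * x
    rcases hA x hx with rfl | rfl | rfl | rfl <;> rcases hA y hy with rfl | rfl | rfl | rfl <;> decide
  · intro x hx
    rcases hA x hx with rfl | rfl | rfl | rfl <;> decide
  · intro x hx hx1
    rcases hUV x hx hx1 with ⟨h, e⟩ | ⟨h, e⟩ | ⟨h, e⟩ <;> rw [h] <;> subst e
    · exact bot_le
    · intro y hy
      rw [Subgroup.mem_centralizer_singleton_iff]
      rcases hU y hy with rfl | rfl | rfl <;> decide
    · intro y hy
      rw [Subgroup.mem_centralizer_singleton_iff]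
      rcases hV y hy with rfl | rfl | rfl <;> decide
  · intro x hx hx1
    rcases hUV x hx hx1 with ⟨h, e⟩ | ⟨h, e⟩ | ⟨h, e⟩ <;> rw [h]
    · rw [Subgroup.card_bot]; decide
    · rw [hUcard]; decide
    · rw [hVcard]; decide
  · intro x hx hx1 c hc y hy
    rcases hUV x hx hx1 with ⟨h, e⟩ | ⟨h, e⟩ | ⟨h, e⟩ <;> rw [h] at hy ⊢
    · rw [Subgroup.mem_bot] at hy ⊢
      rw [hy, mul_one, mul_inv_cancel]
    · show c * y * c⁻¹ ∈ ({1, u, u * u} : Set (Equiv.Perm (Fin 5)))
      simp only [Set.mem_insert_iff, Set.mem_singleton_iff]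
      rcases hA c hc with rfl | rfl | rfl | rfl <;> rcases hU y hy with rfl | rfl | rfl <;> decide
    · show c * y * c⁻¹ ∈ ({1, v, v * v} : Set (Equiv.Perm (Fin 5)))
      simp only [Set.mem_insert_iff, Set.mem_singleton_iff]
      rcases hA c hc with rfl | rfl | rfl | rfl <;> rcases hV y hy with rfl | rfl | rfl <;> decide
  · intro x hx hx1 c hc hc1 y hy
    obtain ⟨hy, hyc⟩ := hy
    replace hyc : y ∈ Subgroup.centralizer ({c} : Set (Equiv.Perm (Fin 5))) := hyc
    rw [Subgroup.mem_centralizer_singleton_iff] at hyc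
    rcases eq_or_ne x c with rfl | hne
    · exact hy
    · have : y = 1 := by
        rcases hUV x hx hx1 with ⟨h, e⟩ | ⟨h, e⟩ | ⟨h, e⟩ <;> rw [h] at hy <;> subst e
        · exact Subgroup.mem_bot.1 hy
        · rcases hU y hy with rfl | rfl | rfl
          · rfl
          all_goals (rcases hA c hc with rfl | rfl | rfl | rfl <;> revert hc1 hne hyc <;> decide)
        · rcases hV y hy with rfl | rfl | rfl
          · rfl
          all_goals (rcases hA c hc with rfl | rfl | rfl | rfl <;> revert hc1 hne hyc <;> decide)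
      rw [this]
      exact one_mem _
  · intro x hx hx1
    have : Fact (Nat.Prime 3) := ⟨Nat.prime_three⟩
    rcases hUV x hx hx1 with ⟨h, e⟩ | ⟨h, e⟩ | ⟨h, e⟩ <;> rw [h]
    · infer_instance
    · have : IsCyclic ↥U := isCyclic_of_prime_card hUcard
      exact Group.isSolvable_of_comm fun p q => IsCyclic.isMulCommutative.is_comm.comm p q
    · have : IsCyclic ↥V := isCyclic_of_prime_card hVcard
      exact Group.isSolvable_of_comm fun p q => IsCyclic.isMulCommutative.is_comm.comm p q
  · rintro ⟨-, X, -, hX, hXθ⟩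
    have hu : u ∈ X := by
      have h := (hXθ a (Set.mem_insert_of_mem _ (Set.mem_insert _ _)) (by decide)).ge
      rw [hθa] at h
      exact (h (Set.mem_insert_of_mem _ (Set.mem_insert _ _))).1
    have hv : v ∈ X := by
      have h := (hXθ b (Set.mem_insert_of_mem _ (Set.mem_insert_of_mem _ (Set.mem_insert _ _))) (by decide)).ge
      rw [hθb] at h
      exact (h (Set.mem_insert_of_mem _ (Set.mem_insert _ _))).1
    apply hX
    have hw : (u * u * v * u * v) ^ 2 = 1 ∧ u * u * v * u * v ≠ 1 := by decide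
    exact (orderOf_eq_prime hw.1 hw.2).symm.dvd.trans
      (Subgroup.orderOf_dvd_natCard X (mul_mem (mul_mem (mul_mem (mul_mem hu hu) hv) hu) hv))

end Cfsg.Agent.S1286
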