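import Cfsg.Statements.S1287
import Cfsg.Agent.Lib.Cores.BrauerWielandt
import Cfsg.Agent.Lib.Cores.BalanceAut
import Cfsg.Agent.Lib.Solvable.Product
-- import your own Cfsg.Agent.* helpers here

set_option autoImplicit false
open scoped Pointwise
open Cfsg
open scoped Pointwise commutatorElement

namespace Cfsg.Agent.S1287

/-- Let A be a noncyclic elementary abelian p-subgroup of a finite group H normalizing a subgroup K of order prime to p, and X, Y ≤ K subgroups normalized by A with C_K(a) = C_X(a) C_Y(a) (as sets) for every non-identity a ∈ A, where X is also normalized by C_K(A). Then K = XY as sets. -/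
theorem result {H : Type*} [Group H] [Finite H] (p : ℕ) [Fact p.Prime] (A K X Y : Subgroup H) (hA : Cfsg.IsElementaryAbelian p A) (hA2 : p ^ 2 ≤ Nat.card ↥A) (hK : ¬ p ∣ Nat.card ↥K) (hAK : A ≤ Subgroup.normalizer (K : Set H)) (hX : X ≤ K) (hY : Y ≤ K) (hAX : A ≤ Subgroup.normalizer (X : Set H)) (hAY : A ≤ Subgroup.normalizer (Y : Set H)) (hCX : K ⊓ Subgroup.centralizer (A : Set H) ≤ Subgroup.normalizer (X : Set H)) (hfac : ∀ a ∈ A, a ≠ 1 → ((K ⊓ Subgroup.centralizer {a} : Subgroup H) : Set H) = ((X ⊓ Subgroup.centralizer {a} : Subgroup H) : Set H) * ((Y ⊓ Subgroup.centralizer {a} : Subgroup H) : Set H)) : (K : Set H) = (X : Set H) * (Y : Set H) := by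
  have hp : p.Prime := Fact.out
  -- counting a product of two subgroups
  have hprod : ∀ S T : Subgroup H, Nat.card ((S : Set H) * (T : Set H) : Set H) * Nat.card ↥(S ⊓ T) =
      Nat.card S * Nat.card T := by
    intro S T
    have himg : Nat.card ((S : Set H).image (QuotientGroup.mk : H → H ⧸ T) : Set (H ⧸ T)) = T.relIndex S := by
      refine (Nat.card_congr (Equiv.ofBijective (fun q => (⟨CfsgLib.Solvable.cosetMap S T q, ?_⟩ : ((S : Set H).image (QuotientGroup.mk : H → H ⧸ T) : Set (H ⧸ T)))) ⟨?_, ?_⟩)).symm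
      · exact QuotientGroup.induction_on q fun s => ⟨s, s.2, rfl⟩
      · exact fun a b h => CfsgLib.Solvable.cosetMap_injective S T (congrArg Subtype.val h)
      · rintro ⟨_, s, hs, rfl⟩
        exact ⟨QuotientGroup.mk ⟨s, hs⟩, rfl⟩
    rw [Subgroup.card_mul_eq_card_subgroup_mul_card_quotient, himg, ← Subgroup.inf_relIndex_right,
      mul_assoc, mul_comm _ (Nat.card ↥(S ⊓ T)), mul_comm (Nat.card S)]
    congr 1
    rw [Subgroup.relIndex, ← Nat.card_congr (Subgroup.subgroupOfEquivOfLe (inf_le_left : S ⊓ T ≤ S)).toEquiv,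
      inf_comm T S, Subgroup.card_mul_index]
  obtain ⟨a, ha, ha1⟩ := A.bot_or_exists_ne_one.resolve_left fun h => by
    rw [h, Subgroup.card_bot] at hA2
    nlinarith [hp.two_le]
  obtain ⟨b, hb, hba⟩ : ∃ b ∈ A, b ∉ Subgroup.zpowers a := by
    by_contra hcon
    push Not at hcon
    have h1 := Subgroup.card_le_of_le (show A ≤ Subgroup.zpowers a from hcon)
    rw [Nat.card_zpowers, orderOf_eq_prime (hA.2 a ha) ha1] at h1
    nlinarith [hp.two_le]
  have hab : Commute a b := CfsgLib.PGroup.elemAb_comm hA ha hb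
  have hKc : (Nat.card K).Coprime p := (hp.coprime_iff_not_dvd.2 hK).symm
  have hsub : ∀ {S : Subgroup H}, S ≤ K → A ≤ Subgroup.normalizer (S : Set H) →
      Nat.card S * Nat.card ↥(S ⊓ Subgroup.centralizer ((Subgroup.zpowers a ⊔ Subgroup.zpowers b : Subgroup H) : Set H)) ^ p =
        ∏ i : Option (Fin p), Nat.card ↥(S ⊓ Subgroup.centralizer ({CfsgLib.Cores.lineGen a b i} : Set H)) :=
    fun hS hAS => CfsgLib.Cores.brauerWielandt (hA.2 a ha) (hA.2 b hb) hab
      (hKc.coprime_dvd_left (Subgroup.card_dvd_of_le hS)) (hAS ha) (hAS hb)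
  have hzA : ∀ i : Option (Fin p), CfsgLib.Cores.lineGen a b i ∈ A ∧ CfsgLib.Cores.lineGen a b i ≠ 1 := by
    intro i
    refine ⟨CfsgLib.Cores.lineGen_mem ha hb i, ?_⟩
    match i with
    | none => exact ha1
    | some j =>
      intro h
      apply hba
      rw [show b = (a ^ (j : ℕ))⁻¹ from eq_inv_of_mul_eq_one_left h]
      exact inv_mem (pow_mem (Subgroup.mem_zpowers a) _)
  have hinf : ∀ C : Subgroup H, X ⊓ C ⊓ (Y ⊓ C) = X ⊓ Y ⊓ C := fun C => by
    rw [inf_inf_inf_comm, inf_idem]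
  have hline : ∀ i : Option (Fin p),
      Nat.card ↥(K ⊓ Subgroup.centralizer ({CfsgLib.Cores.lineGen a b i} : Set H)) *
        Nat.card ↥(X ⊓ Y ⊓ Subgroup.centralizer ({CfsgLib.Cores.lineGen a b i} : Set H)) =
      Nat.card ↥(X ⊓ Subgroup.centralizer ({CfsgLib.Cores.lineGen a b i} : Set H)) *
        Nat.card ↥(Y ⊓ Subgroup.centralizer ({CfsgLib.Cores.lineGen a b i} : Set H)) := by
    intro i
    rw [← hprod (X ⊓ _) (Y ⊓ _), hinf, ← hfac _ (hzA i).1 (hzA i).2]
    rfl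
  set A' := Subgroup.zpowers a ⊔ Subgroup.zpowers b
  have hA' : A' ≤ A := sup_le (Subgroup.zpowers_le.2 ha) (Subgroup.zpowers_le.2 hb)
  have hA'c : Nat.card ↥(K ⊓ Subgroup.centralizer (A' : Set H)) *
      Nat.card ↥(X ⊓ Y ⊓ Subgroup.centralizer (A' : Set H)) =
      Nat.card ↥(X ⊓ Subgroup.centralizer (A' : Set H)) * Nat.card ↥(Y ⊓ Subgroup.centralizer (A' : Set H)) := by
    rw [← hprod (X ⊓ _) (Y ⊓ _), hinf]
    congr 1
    refine Nat.card_congr (Equiv.setCongr ?_)
    apply Set.Subset.antisymm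
    · intro u hu
      obtain ⟨huK, huC⟩ := hu
      have hua : u ∈ Subgroup.centralizer ({a} : Set H) := Subgroup.centralizer_le (by simp [A', Subgroup.mem_sup_left]) huC
      have hu' : u ∈ ((K ⊓ Subgroup.centralizer ({a} : Set H) : Subgroup H) : Set H) := ⟨huK, hua⟩
      rw [hfac a ha ha1] at hu'
      obtain ⟨x, hx, y, hy, rfl⟩ := hu'
      set D := X ⊓ Y
      have hcop : (Nat.card A').Coprime (Nat.card D) := by
        obtain ⟨k, hk⟩ := CfsgLib.PGroup.elemAb_card (CfsgLib.PGroup.elemAb_mono hA hA')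
        rw [hk]
        exact ((hKc.coprime_dvd_left (Subgroup.card_dvd_of_le (inf_le_left.trans hX))).symm).pow_left k
      haveI : Group.IsNilpotent A' := (CfsgLib.PGroup.elemAb_isPGroup (CfsgLib.PGroup.elemAb_mono hA hA')).isNilpotent
      obtain ⟨n, hn, hnc⟩ := CfsgLib.Solvable.exists_mul_mem_centralizer A' D
        (CfsgLib.Solvable.le_normalizer_inf (hA'.trans hAX) (hA'.trans hAY)) hcop (Or.inl inferInstance) x⁻¹ fun c hc => by
          have hcu : c * (x * y) = x * y * c := Subgroup.mem_centralizer_iff.1 huC c hc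
          have h1 : x⁻¹ * (c * x * c⁻¹) = y * (c * y * c⁻¹)⁻¹ := by
            calc x⁻¹ * (c * x * c⁻¹) = x⁻¹ * (c * (x * y)) * (y⁻¹ * c⁻¹) := by group
              _ = _ := by rw [hcu]; group
          have h2 : x⁻¹ * (c * x * c⁻¹) ∈ X :=
            mul_mem (inv_mem hx.1) ((Subgroup.mem_normalizer_iff.1 (hAX (hA' hc)) x).1 hx.1)
          have h3 : x⁻¹ * (c * x * c⁻¹) ∈ Y := h1 ▸
            mul_mem hy.1 (inv_mem ((Subgroup.mem_normalizer_iff.1 (hAY (hA' hc)) y).1 hy.1))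
          have h4 := inv_mem (Subgroup.mem_inf.2 ⟨h2, h3⟩ : x⁻¹ * (c * x * c⁻¹) ∈ D)
          rw [show (x⁻¹ * (c * x * c⁻¹))⁻¹ = ⁅c, x⁻¹⁆ by rw [commutatorElement_def]; group] at h4
          exact h4
      refine ⟨(n * x⁻¹)⁻¹, ⟨X.inv_mem (X.mul_mem hn.1 (X.inv_mem hx.1)), Subgroup.inv_mem _ hnc⟩, n * y, ⟨Y.mul_mem hn.2 hy.1, ?_⟩, by group⟩
      show n * y ∈ Subgroup.centralizer (A' : Set H)
      rw [show n * y = n * x⁻¹ * (x * y) by group]
      exact mul_mem hnc huC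
    · rintro _ ⟨x, hx, y, hy, rfl⟩
      exact ⟨mul_mem (hX hx.1) (hY hy.1), mul_mem hx.2 hy.2⟩
  have hXY : (X : Set H) * (Y : Set H) ⊆ (K : Set H) := by
    rintro _ ⟨x, hx, y, hy, rfl⟩
    exact mul_mem (hX hx) (hY hy)
  refine (Set.eq_of_subset_of_ncard_le hXY ?_ (Set.toFinite _)).symm
  rw [← Nat.card_coe_set_eq, ← Nat.card_coe_set_eq]
  refine le_of_eq ?_
  have hAD : A ≤ Subgroup.normalizer ((X ⊓ Y : Subgroup H) : Set H) := CfsgLib.Solvable.le_normalizer_inf hAX hAY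
  have h : (Nat.card K * Nat.card ↥(X ⊓ Y)) *
      (Nat.card ↥(X ⊓ Subgroup.centralizer (A' : Set H)) * Nat.card ↥(Y ⊓ Subgroup.centralizer (A' : Set H))) ^ p =
      (Nat.card X * Nat.card Y) *
      (Nat.card ↥(X ⊓ Subgroup.centralizer (A' : Set H)) * Nat.card ↥(Y ⊓ Subgroup.centralizer (A' : Set H))) ^ p := by
    nth_rw 1 [← hA'c]
    rw [mul_pow, mul_mul_mul_comm, hsub le_rfl hAK, hsub (inf_le_left.trans hX) hAD, ← Finset.prod_mul_distrib,
      Finset.prod_congr rfl (fun i _ => hline i), Finset.prod_mul_distrib, ← hsub hX hAX, ← hsub hY hAY]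
    ring
  have h' := Nat.eq_of_mul_eq_mul_right (pow_pos (Nat.mul_pos Nat.card_pos Nat.card_pos) p) h
  rw [← hprod X Y] at h'
  exact Nat.eq_of_mul_eq_mul_right Nat.card_pos h'

end Cfsg.Agent.S1287
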