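import Cfsg.Statements.S1288
import Cfsg.Agent.Lib.Cores.CoprimeGen
import Cfsg.Agent.Lib.Cores.PConstrained
import Cfsg.Agent.Lib.Solvable.Fitting
-- import your own Cfsg.Agent.* helpers here

set_option autoImplicit false
open Cfsg
open scoped commutatorElement

namespace Cfsg.Agent.S1288

/-- Let A be a noncyclic elementary abelian p-subgroup of a finite group H normalizing a solvable subgroup K of order prime to p, q a prime dividing |K|, and U ≤ K a subgroup of order prime to q such that ⁅U, C_K(B)⁆ has order prime to q for every subgroup B of index p in A. Then U ≤ O_{q'}(K). -/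
theorem result {H : Type*} [Group H] [Finite H] (p : ℕ) [Fact p.Prime] (A K : Subgroup H) (hA : Cfsg.IsElementaryAbelian p A) (hA2 : p ^ 2 ≤ Nat.card ↥A) (hK : ¬ p ∣ Nat.card ↥K) (hKs : Group.IsSolvable ↥K) (hAK : A ≤ Subgroup.normalizer (K : Set H)) (q : ℕ) [Fact q.Prime] (hqK : q ∣ Nat.card ↥K) (U : Subgroup H) (hU : U ≤ K) (hUq : ¬ q ∣ Nat.card ↥U) (hcomm : ∀ B : Subgroup H, B ≤ A → B.relIndex A = p → ¬ q ∣ Nat.card ↥⁅U, K ⊓ Subgroup.centralizer (B : Set H)⁆) : U ≤ (Cfsg.pPrimeCore q ↥K).map K.subtype := by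
  have hp : p.Prime := Fact.out
  set π := QuotientGroup.mk' (Cfsg.pPrimeCore q K)
  set F := Cfsg.pPrimePCore q K
  set U' := U.subgroupOf K
  set Cu := (Subgroup.centralizer ((U'.map π : Subgroup (↥K ⧸ Cfsg.pPrimeCore q K)) : Set (↥K ⧸ Cfsg.pPrimeCore q K))).comap π
  -- `A` normalizes the preimage of `O_q`
  have hAF : A ≤ Subgroup.normalizer ((F.map K.subtype : Subgroup H) : Set H) := by
    intro a ha
    refine CfsgLib.Solvable.mem_normalizer_of_conj_mem ?_
    rintro _ ⟨k, hk, rfl⟩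
    have hmap : K.map (MulAut.conj a).toMonoidHom = K := by
      refine Subgroup.eq_of_le_of_card_ge ?_ (le_of_eq (Subgroup.card_map_of_injective (MulAut.conj a).injective).symm)
      rintro _ ⟨w, hw, rfl⟩
      exact (Subgroup.mem_normalizer_iff.1 (hAK ha) w).1 hw
    let e : K ≃* K := ((MulAut.conj a).subgroupMap K).trans (MulEquiv.subgroupCongr hmap)
    let ψ := QuotientGroup.congr (Cfsg.pPrimeCore q K) (Cfsg.pPrimeCore q K) e (CfsgLib.Cores.map_pPrimeCore_equiv e)
    refine ⟨e k, ?_, rfl⟩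
    show π (e k) ∈ Cfsg.pCore q (↥K ⧸ Cfsg.pPrimeCore q K)
    exact (CfsgLib.Cores.map_pCore_equiv ψ).le ⟨π k, hk, rfl⟩
  obtain ⟨n, hn⟩ := CfsgLib.Cores.card_pCore_eq_pow (G := ↥K ⧸ Cfsg.pPrimeCore q K) q
  have hle : F.map K.subtype ≤ Cu.map K.subtype := by
    refine CfsgLib.Cores.le_of_hyperplanes hA ((hp.coprime_iff_not_dvd.2 hK).symm.coprime_dvd_left
      (Subgroup.card_dvd_of_le (Subgroup.map_subtype_le _))) hAF fun B hB hidx => ?_
    rintro _ ⟨⟨r, hr, rfl⟩, hrB⟩
    refine ⟨r, ?_, rfl⟩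
    have hBne : B.relIndex A = p ∨ B = A := by
      obtain ⟨m, hm⟩ := CfsgLib.PGroup.elemAb_card hA
      have hd : B.relIndex A ∣ p ^ m := hm ▸ Subgroup.relIndex_dvd_card B A
      obtain ⟨i, -, hi⟩ := (Nat.dvd_prime_pow hp).1 hd
      rw [hi] at hidx ⊢
      rcases Nat.lt_or_ge i 2 with h | h
      · interval_cases i
        · right
          rw [pow_zero, Subgroup.relIndex_eq_one] at hi
          exact le_antisymm hB hi
        · left; rw [pow_one]
      · have := Nat.pow_lt_pow_right hp.one_lt h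
        have h2 : p ^ 1 < p ^ i := Nat.pow_lt_pow_right hp.one_lt (by omega)
        rw [pow_one] at h2
        omega
    -- replace `B` by a subgroup of index `p`
    obtain ⟨B', hB'B, hB'A, hB'⟩ : ∃ B' : Subgroup H, B' ≤ B ∧ B' ≤ A ∧ B'.relIndex A = p := by
      rcases hBne with h | h
      · exact ⟨B, le_rfl, hB, h⟩
      · subst h
        obtain ⟨m, hm⟩ := CfsgLib.PGroup.elemAb_card hA
        have hm0 : m ≠ 0 := by
          rintro rfl
          rw [hm, pow_zero] at hA2
          nlinarith [hp.two_le]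
        obtain ⟨S, hS⟩ := Sylow.exists_subgroup_card_pow_prime p (G := ↥B) (n := m - 1)
          (hm ▸ pow_dvd_pow p (Nat.sub_le m 1))
        refine ⟨S.map B.subtype, Subgroup.map_subtype_le _, Subgroup.map_subtype_le _, ?_⟩
        have h1 := Subgroup.card_mul_index ((S.map B.subtype).subgroupOf B)
        rw [Nat.card_congr (Subgroup.subgroupOfEquivOfLe (Subgroup.map_subtype_le S)).toEquiv,
          Subgroup.card_map_of_injective B.subtype_injective, hS, hm] at h1
        refine Nat.eq_of_mul_eq_mul_left (pow_pos hp.pos (m - 1)) (h1.trans ?_)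
        rw [← pow_succ, show m - 1 + 1 = m by omega]
    show π r ∈ Subgroup.centralizer _
    rw [Subgroup.mem_centralizer_iff]
    rintro _ ⟨u, hu, rfl⟩
    rw [← commutatorElement_eq_one_iff_mul_comm, ← map_commutatorElement, ← orderOf_eq_one_iff]
    have hmem : ((⁅u, r⁆ : K) : H) ∈ ⁅U, K ⊓ Subgroup.centralizer (B' : Set H)⁆ := by
      have : ((⁅u, r⁆ : K) : H) = ⁅(u : H), (r : H)⁆ := by simp [commutatorElement_def]
      rw [this]
      exact Subgroup.commutator_mem_commutator hu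
        ⟨r.2, Subgroup.centralizer_le (SetLike.coe_subset_coe.2 hB'B) hrB⟩
    refine Nat.eq_one_of_dvd_coprimes (Nat.Coprime.pow_left n ((Fact.out : q.Prime).coprime_iff_not_dvd.2 (hcomm B' hB'A hB'))) ?_ ?_
    · rw [← hn]
      refine Subgroup.orderOf_dvd_natCard _ ?_
      have hrF : π r ∈ Cfsg.pCore q (↥K ⧸ Cfsg.pPrimeCore q K) := hr
      rw [map_commutatorElement, commutatorElement_def]
      exact mul_mem (Subgroup.Normal.conj_mem inferInstance _ hrF (π u)) (inv_mem hrF)
    · refine (orderOf_map_dvd π _).trans ?_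
      rw [← Subgroup.orderOf_coe]
      exact Subgroup.orderOf_dvd_natCard _ hmem
  have hUC : U'.map π ≤ Subgroup.centralizer (Cfsg.pCore q (↥K ⧸ Cfsg.pPrimeCore q K) : Set (↥K ⧸ Cfsg.pPrimeCore q K)) := by
    intro w hw
    rw [Subgroup.mem_centralizer_iff]
    intro f hf
    obtain ⟨r, hr, rfl⟩ := (CfsgLib.Cores.map_mk'_pPrimePCore (p := q) (G := ↥K)).ge hf
    obtain ⟨r', hr', hrr⟩ := hle ⟨r, hr, rfl⟩
    rw [← Subgroup.subtype_injective K hrr]
    exact (Subgroup.mem_centralizer_iff.1 hr' w hw).symm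
  haveI := hKs
  have hbot : U'.map π = ⊥ := by
    refine eq_bot_iff.2 ((le_inf le_rfl (hUC.trans (CfsgLib.Solvable.centralizer_pCore_le q
      (CfsgLib.Cores.pPrimeCore_quotient_self q)))).trans ?_)
    refine (Subgroup.disjoint_of_coprime_natCard (H := U'.map π) (K := Cfsg.pCore q (↥K ⧸ Cfsg.pPrimeCore q K)) ?_).le_bot
    rw [hn]
    refine Nat.Coprime.pow_right n (Nat.Coprime.coprime_dvd_left ?_ ((Fact.out : q.Prime).coprime_iff_not_dvd.2 hUq).symm)
    exact (Subgroup.card_map_dvd _ _).trans (by rw [Nat.card_congr (Subgroup.subgroupOfEquivOfLe hU).toEquiv])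
  rw [← Subgroup.map_subgroupOf_eq_of_le hU]
  rw [Subgroup.map_eq_bot_iff, QuotientGroup.ker_mk'] at hbot
  exact Subgroup.map_mono hbot

end Cfsg.Agent.S1288
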