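import Cfsg.Statements.S1289
import Cfsg.Agent.Lib.Cores.PComponents
-- import your own Cfsg.Agent.* helpers here

set_option autoImplicit false
open Cfsg

namespace Cfsg.Agent.S1289

/-- A p-component K of the finite group X is subnormal, perfect, of order divisible by p, and minimal among the subnormal perfect subgroups of X of order divisible by p. -/
theorem result {X : Type*} [Group X] [Finite X] (p : ℕ) [Fact p.Prime] (K : Subgroup X) (hK : Cfsg.IsPComponent p K) : K.IsSubnormal ∧ ⁅K, K⁆ = K ∧ p ∣ Nat.card ↥K ∧ ∀ H : Subgroup X, H ≤ K → H.IsSubnormal → ⁅H, H⁆ = H → p ∣ Nat.card ↥H → H = K := by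
  refine ⟨hK.1, CfsgLib.Cores.pComponent_commutator_self hK, CfsgLib.Cores.dvd_card_pComponent hK, fun H hle hH hperf hdvd => ?_⟩
  set π := QuotientGroup.mk' (Cfsg.pPrimeCore p X)
  refine hK.2.2 H hH hle ?_
  have hsn : ((H.map π).subgroupOf (K.map π)).IsSubnormal :=
    (hH.map (QuotientGroup.mk'_surjective _)).subgroupOf
  rcases CfsgLib.Cores.isSubnormal_eq_top_or_le_center_of_isQuasisimple hK.2.1.2 hsn with h | h
  · exact le_antisymm (Subgroup.map_mono hle) (Subgroup.subgroupOf_eq_top.1 h)
  · exfalso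
    have h1 : ⁅H.map π, H.map π⁆ = ⊥ := by
      rw [← Subgroup.map_subgroupOf_eq_of_le (Subgroup.map_mono hle : H.map π ≤ K.map π), ← Subgroup.map_commutator, Subgroup.map_eq_bot_iff]
      refine le_trans ?_ bot_le
      rw [← (Subgroup.commutator_top_right_eq_bot_iff_le_center).2 h]
      exact Subgroup.commutator_mono le_rfl le_top
    rw [← Subgroup.map_commutator, hperf, Subgroup.map_eq_bot_iff, QuotientGroup.ker_mk'] at h1
    exact CfsgLib.Cores.not_dvd_card_pPrimeCore (G := X) p (hdvd.trans (Subgroup.card_dvd_of_le h1))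

end Cfsg.Agent.S1289
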