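import Cfsg.Statements.S1293
import Cfsg.Agent.Lib.Cores.Local
-- import your own Cfsg.Agent.* helpers here

set_option autoImplicit false
open Cfsg

namespace Cfsg.Agent.S1293

/-- Let G be finite with L_{p'}(G) = 1, and H = N_G(P) for a nontrivial p-subgroup P. Then L_{p'}(H) = 1 and O_{p'}(H) ≤ O_{p'}(G). -/
theorem result {G : Type*} [Group G] [Finite G] (p : ℕ) [Fact p.Prime] (hL : Cfsg.pLayer p G = ⊥) (P : Subgroup G) (hP : IsPGroup p ↥P) (hP1 : P ≠ ⊥) : Cfsg.pLayer p ↥(Subgroup.normalizer (P : Set G)) = ⊥ ∧ (Cfsg.pPrimeCore p ↥(Subgroup.normalizer (P : Set G))).map (Subgroup.normalizer (P : Set G)).subtype ≤ Cfsg.pPrimeCore p G := by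
  have hQ : Subgroup.centralizer (Cfsg.pCore p (G ⧸ Cfsg.pPrimeCore p G) : Set (G ⧸ Cfsg.pPrimeCore p G)) ≤
      Cfsg.pCore p (G ⧸ Cfsg.pPrimeCore p G) :=
    CfsgLib.Cores.isPConstrained_iff.1 (CfsgLib.Cores.isPConstrained_iff_pLayer_eq_bot.2 hL)
  set π := QuotientGroup.mk' (Cfsg.pPrimeCore p G)
  set N := Subgroup.normalizer (P : Set G)
  obtain ⟨hO', hE'⟩ := CfsgLib.Cores.pPrimeCore_eq_bot_and_layer_eq_bot_normalizer (hP.map π) hQ
  have hmap : N.map π = Subgroup.normalizer ((P.map π : Subgroup (G ⧸ Cfsg.pPrimeCore p G)) : Set (G ⧸ Cfsg.pPrimeCore p G)) :=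
    CfsgLib.Cores.map_mk'_normalizer_of_coprime hP (CfsgLib.Cores.coprime_card_pPrimeCore p)
  let f : ↥N →* ↥(Subgroup.normalizer ((P.map π : Subgroup (G ⧸ Cfsg.pPrimeCore p G)) : Set (G ⧸ Cfsg.pPrimeCore p G))) :=
    (MulEquiv.subgroupCongr hmap).toMonoidHom.comp (π.subgroupMap N)
  have hf : Function.Surjective f :=
    (MulEquiv.subgroupCongr hmap).surjective.comp (π.subgroupMap_surjective N)
  have hker : f.ker = (Cfsg.pPrimeCore p G).subgroupOf N := by
    ext x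
    rw [MonoidHom.mem_ker, Subgroup.mem_subgroupOf, ← QuotientGroup.eq_one_iff]
    exact ⟨fun h => congrArg Subtype.val h, fun h => Subtype.ext h⟩
  have hle : Cfsg.pPrimeCore p ↥N ≤ f.ker := by
    rw [← Subgroup.map_eq_bot_iff, eq_bot_iff]
    exact (CfsgLib.Cores.map_pPrimeCore_le f hf).trans hO'.le
  have heq : f.ker = Cfsg.pPrimeCore p ↥N :=
    le_antisymm (hker.le.trans (CfsgLib.Cores.pPrimeCore_subgroupOf_le p N)) hle
  refine ⟨?_, ?_⟩
  · rw [CfsgLib.Cores.pLayer_eq_bot_iff]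
    let e := (QuotientGroup.quotientMulEquivOfEq heq.symm).trans (QuotientGroup.quotientKerEquivOfSurjective f hf)
    apply Subgroup.map_injective (f := e.toMonoidHom) e.injective
    rw [CfsgLib.Cores.map_layer_equiv, Subgroup.map_bot, hE']
  · rintro _ ⟨x, hx, rfl⟩
    exact hker.le (hle hx)

end Cfsg.Agent.S1293
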