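import Cfsg.Statements.S1299
import Cfsg.Agent.Lib.Cores.BalanceAut
import Cfsg.Agent.Lib.Cores.CoprimeGen
import Cfsg.Agent.Lib.Solvable.AbelianAction
-- import your own Cfsg.Agent.* helpers here

set_option autoImplicit false
open Cfsg
open scoped commutatorElement

namespace Cfsg.Agent.S1299

/-- Let G be finite and k-balanced for the prime p (k ≥ 1), A an elementary abelian p-subgroup of order at least p^(k+2) such that O_{p'}(C_G(a)) is solvable for every non-identity a ∈ A. For a ∈ A put θ a = the subgroup generated by the Δ_G(D) ∩ C_G(a) over the subgroups D ≤ A of order p^k. Then θ is an A-signalizer functor. -/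
theorem result {G : Type*} [Group G] [Finite G] (p k : ℕ) [Fact p.Prime] (hk : 1 ≤ k) (hbal : Cfsg.IsKBalanced p k G) (A : Subgroup G) (hA : Cfsg.IsElementaryAbelian p A) (hAk : p ^ (k + 2) ≤ Nat.card ↥A) (hsolv : ∀ a ∈ A, a ≠ 1 → Group.IsSolvable ↥(Cfsg.centralizerPPrimeCore p a)) : Cfsg.IsSignalizerFunctor p A (fun a => ⨆ D : {D : Subgroup G // D ≤ A ∧ Nat.card ↥D = p ^ k}, Cfsg.signalizerDelta p (D : Subgroup G) ⊓ Subgroup.centralizer {a}) := by
  have hp : p.Prime := Fact.out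
  have hAc : ∀ x ∈ A, ∀ y ∈ A, x * y = y * x := fun x hx y hy => CfsgLib.PGroup.elemAb_comm hA hx hy
  have hord : ∀ a ∈ A, a ≠ 1 → orderOf a = p := fun a ha ha1 => orderOf_eq_prime (hA.2 a ha) ha1
  -- `A` normalizes each `Δ(D)`
  have hΔn : ∀ D : Subgroup G, D ≤ A → ∀ c ∈ Subgroup.centralizer (D : Set G), ∀ x ∈ Cfsg.signalizerDelta p D,
      c * x * c⁻¹ ∈ Cfsg.signalizerDelta p D := by
    intro D _ c hc x hx
    simp only [Cfsg.signalizerDelta, Subgroup.mem_iInf] at hx ⊢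
    exact fun d => CfsgLib.Cores.conj_mem_centralizerPPrimeCore (Subgroup.mem_centralizer_iff.1 hc d d.2.1).symm (hx d)
  have hAD : ∀ D : Subgroup G, D ≤ A → A ≤ Subgroup.normalizer (Cfsg.signalizerDelta p D : Set G) := fun D hD =>
    CfsgLib.Solvable.le_normalizer_of_conj_mem fun c hc => hΔn D hD c
      (Subgroup.mem_centralizer_iff.2 fun d hd => hAc d (hD hd) c hc)
  have hCn : ∀ c ∈ A, A ≤ Subgroup.normalizer ((Subgroup.centralizer ({c} : Set G) : Subgroup G) : Set G) :=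
    fun c hc b hb => CfsgLib.Cores.centralizer_zpowers' c ▸ CfsgLib.Solvable.normalizer_le_normalizer_centralizer _
      (Subgroup.centralizer_le_normalizer _ (Subgroup.mem_centralizer_iff.2 fun y hy => by
        obtain ⟨i, rfl⟩ := hy
        exact (Commute.zpow_left (show Commute c b from hAc c hc b hb) i).eq))
  set θ : G → Subgroup G := fun a => ⨆ D : {D : Subgroup G // D ≤ A ∧ Nat.card ↥D = p ^ k},
    Cfsg.signalizerDelta p (D : Subgroup G) ⊓ Subgroup.centralizer {a} with hθ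
  have hterm : ∀ a ∈ A, a ≠ 1 → ∀ D : Subgroup G, D ≤ A → Nat.card ↥D = p ^ k →
      Cfsg.signalizerDelta p D ⊓ Subgroup.centralizer {a} ≤ Cfsg.centralizerPPrimeCore p a :=
    fun a ha ha1 D hD hDc => hbal D (CfsgLib.PGroup.elemAb_mono hA hD) hDc a (hord a ha ha1)
      fun d hd => hAc d (hD hd) a ha
  have hθle : ∀ a ∈ A, a ≠ 1 → θ a ≤ Cfsg.centralizerPPrimeCore p a := fun a ha ha1 =>
    iSup_le fun D => hterm a ha ha1 D D.2.1 D.2.2
  have hθn : ∀ a ∈ A, A ≤ Subgroup.normalizer (θ a : Set G) := by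
    intro a ha c hc
    refine CfsgLib.Solvable.mem_normalizer_of_conj_mem fun x hx => ?_
    have hmap : (θ a).map (MulAut.conj c).toMonoidHom ≤ θ a := by
      simp only [hθ, Subgroup.map_iSup]
      refine iSup_mono fun D => ?_
      rintro _ ⟨y, hy, rfl⟩
      exact (Subgroup.mem_normalizer_iff.1 (CfsgLib.Solvable.le_normalizer_inf (hAD D D.2.1) (hCn a ha) hc) y).1 hy
    exact hmap ⟨x, hx, rfl⟩
  refine ⟨fun a ha ha1 => iSup_le fun D => inf_le_right, fun a ha ha1 => ?_, fun a ha _ c hc x hx =>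
    (Subgroup.mem_normalizer_iff.1 (hθn a ha hc) x).1 hx, fun a ha ha1 b hb hb1 => ?_⟩
  · exact (CfsgLib.Cores.coprime_iff_not_dvd hp _).1
      ((CfsgLib.Cores.card_centralizerPPrimeCore_coprime a).coprime_dvd_left (Subgroup.card_dvd_of_le (hθle a ha ha1)))
  -- balance
  show θ a ⊓ _ ≤ θ b
  set W := θ a
  have hWc : (Nat.card W).Coprime p :=
    (CfsgLib.Cores.card_centralizerPPrimeCore_coprime a).coprime_dvd_left (Subgroup.card_dvd_of_le (hθle a ha ha1))
  have hWs : Group.IsSolvable W := CfsgLib.Solvable.isSolvable_of_le (hsolv a ha ha1) (hθle a ha ha1)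
  let S : Subgroup G → Subgroup G := fun B => W ⊓ Subgroup.centralizer (B : Set G) ⊓
    ⨅ E : {E : Subgroup G // E ≤ B ∧ Nat.card ↥E = p ^ k}, Cfsg.signalizerDelta p (E : Subgroup G)
  -- fixed points of a hyperplane in some `Δ(E)` are good
  have h1 : ∀ E : Subgroup G, E ≤ A → Nat.card ↥E = p ^ k → ∀ B ≤ A,
      W ⊓ Cfsg.signalizerDelta p E ⊓ Subgroup.centralizer (B : Set G) ≤ S B := by
    rintro E hE hEc B hB x ⟨⟨hxW, hxE⟩, hxB⟩
    refine ⟨⟨hxW, hxB⟩, ?_⟩
    refine Subgroup.mem_iInf.2 fun E'' => ?_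
    obtain ⟨E', hE'B, hE'c⟩ := E''
    show x ∈ ⨅ d : {d : G // d ∈ E' ∧ d ≠ 1}, Cfsg.centralizerPPrimeCore p (d : G)
    simp only [Subgroup.mem_iInf]
    rintro ⟨d, hd, hd1⟩
    exact hterm d (hB (hE'B hd)) hd1 E hE hEc ⟨hxE, Subgroup.centralizer_le
      (Set.singleton_subset_iff.2 (hE'B hd)) hxB⟩
  have hex : ∀ B : Subgroup G, B ≤ A → p ^ k ∣ Nat.card B → ∃ E ≤ B, Nat.card ↥E = p ^ k := by
    intro B _ hdvd
    obtain ⟨T, hT⟩ := Sylow.exists_subgroup_card_pow_prime p (G := ↥B) hdvd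
    exact ⟨T.map B.subtype, Subgroup.map_subtype_le _, by rw [Subgroup.card_map_of_injective B.subtype_injective, hT]⟩
  obtain ⟨n, hn⟩ := CfsgLib.PGroup.elemAb_card hA
  have hn2 : k + 2 ≤ n := by rwa [hn, Nat.pow_le_pow_iff_right hp.one_lt] at hAk
  have hbig : ∀ B : Subgroup G, B ≤ A → B.relIndex A ≤ p ^ 2 → p ^ k ∣ Nat.card B := by
    intro B hB hidx
    obtain ⟨m, hm⟩ := CfsgLib.PGroup.elemAb_card (CfsgLib.PGroup.elemAb_mono hA hB)
    rw [hm]
    refine pow_dvd_pow p ?_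
    have h := Subgroup.relIndex_mul_relIndex ⊥ B A bot_le hB
    rw [Subgroup.relIndex_bot_left, Subgroup.relIndex_bot_left, hm, hn] at h
    have h2 : p ^ n ≤ p ^ (m + 2) := by
      rw [← h, pow_add]
      exact Nat.mul_le_mul_left _ hidx
    rw [Nat.pow_le_pow_iff_right hp.one_lt] at h2
    omega
  let good : Subgroup G → Subgroup G := fun N =>
    ⨆ B : {B : Subgroup G // B ≤ A ∧ B.relIndex A ≤ p}, N ⊓ S B
  have h2 : ∀ M N : Subgroup G, M ≤ N → N ≤ W → A ≤ Subgroup.normalizer (M : Set G) →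
      (∃ E ≤ A, Nat.card ↥E = p ^ k ∧ M ≤ Cfsg.signalizerDelta p E) → M ≤ good N := by
    rintro M N hMN hNW hAM ⟨E, hE, hEc, hME⟩
    refine CfsgLib.Cores.le_of_hyperplanes hA
      (hWc.coprime_dvd_left (Subgroup.card_dvd_of_le (hMN.trans hNW))) hAM fun B hB hidx => ?_
    refine le_trans ?_ (le_iSup (fun B : {B : Subgroup G // B ≤ A ∧ B.relIndex A ≤ p} => N ⊓ S B) ⟨B, hB, hidx⟩)
    exact le_inf (inf_le_left.trans hMN) (le_trans (inf_le_inf_right _ (le_inf (hMN.trans hNW) hME)) (h1 E hE hEc B hB))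
  -- the main induction
  have key : ∀ m : ℕ, ∀ N : Subgroup G, Nat.card N = m → N ≤ W → A ≤ Subgroup.normalizer (N : Set G) →
      N ≤ good N → ∀ B : Subgroup G, B ≤ A → B.relIndex A ≤ p → N ⊓ Subgroup.centralizer (B : Set G) ≤ S B := by
    intro m
    induction m using Nat.strong_induction_on with
    | _ m ih =>
    intro N hm hNW hAN hgood B hB hidx
    rcases eq_or_ne N ⊥ with rfl | hN1
    · rw [bot_inf_eq]; exact bot_le
    set D := ⁅N, N⁆ with hD
    have hDlt : D < N := CfsgLib.Solvable.commutator_self_lt (CfsgLib.Solvable.isSolvable_of_le hWs hNW) hN1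
    have hAD' : A ≤ Subgroup.normalizer (D : Set G) :=
      (le_inf hAN hAN).trans (CfsgLib.Solvable.normalizer_le_normalizer_commutator N N)
    have hcgood : ∀ B₁ : Subgroup G, B₁ ≤ A → B₁.relIndex A ≤ p → ∀ x ∈ N ⊓ Subgroup.centralizer (B₁ : Set G),
        ∀ B₂ : Subgroup G, B₂ ≤ A → B₂.relIndex A ≤ p → ∀ y ∈ N ⊓ S B₂, y * x * y⁻¹ * x⁻¹ ∈ good D := by
      rintro B₁ hB₁ hi₁ x ⟨hxN, hxB⟩ B₂ hB₂ hi₂ y ⟨hyN, hyS⟩
      have hinf : (B₁ ⊓ B₂).relIndex A ≤ p ^ 2 := by
        rw [pow_two]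
        exact (Subgroup.relIndex_inf_le).trans (Nat.mul_le_mul hi₁ hi₂)
      obtain ⟨E, hEB, hEc⟩ := hex (B₁ ⊓ B₂) (inf_le_left.trans hB₁) (hbig _ (inf_le_left.trans hB₁) hinf)
      have hEA : E ≤ A := hEB.trans (inf_le_left.trans hB₁)
      refine h2 (D ⊓ Cfsg.signalizerDelta p E) D inf_le_left (hDlt.le.trans hNW)
        (CfsgLib.Solvable.le_normalizer_inf hAD' (hAD E hEA)) ⟨E, hEA, hEc, inf_le_right⟩
        ⟨Subgroup.commutator_mem_commutator hyN hxN, ?_⟩
      have hyE : y ∈ Cfsg.signalizerDelta p E :=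
        (Subgroup.mem_iInf.1 hyS.2 ⟨E, hEB.trans inf_le_right, hEc⟩)
      have hxE := hΔn E hEA x (Subgroup.centralizer_le (SetLike.coe_subset_coe.2 (hEB.trans inf_le_left)) hxB)
        y⁻¹ (inv_mem hyE)
      simpa [mul_assoc] using mul_mem hyE hxE
    set U := good D with hU
    have hUD : U ≤ D := iSup_le fun _ => inf_le_left
    have hgen : ∀ B₁ : {B : Subgroup G // B ≤ A ∧ B.relIndex A ≤ p}, N ⊓ S B₁ ≤ Subgroup.normalizer (U : Set G) := by
      intro B₁ y hy
      refine CfsgLib.Solvable.mem_normalizer_of_conj_mem fun x hx => ?_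
      have hle : U ≤ U.comap (MulAut.conj y).toMonoidHom := by
        refine iSup_le fun B₂ z hz => ?_
        show y * z * y⁻¹ ∈ U
        have := mul_mem (hcgood B₂ B₂.2.1 B₂.2.2 z ⟨hDlt.le hz.1, hz.2.1.2⟩ B₁ B₁.2.1 B₁.2.2 y hy)
          (le_iSup (fun B : {B : Subgroup G // B ≤ A ∧ B.relIndex A ≤ p} => D ⊓ S B) B₂ hz)
        simpa using this
      exact hle hx
    have hNU : N ≤ Subgroup.normalizer (U : Set G) := hgood.trans (iSup_le hgen)
    haveI : (U.subgroupOf N).Normal := Subgroup.normal_subgroupOf_of_le_normalizer hNU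
    set f := QuotientGroup.mk' (U.subgroupOf N)
    have hDU : D ≤ U := by
      have hcen : ∀ B₁ : {B : Subgroup G // B ≤ A ∧ B.relIndex A ≤ p},
          (N ⊓ S B₁).subgroupOf N ≤ (Subgroup.center (↥N ⧸ U.subgroupOf N)).comap f := by
        intro B₁ y hy
        have hle : N ≤ ((Subgroup.centralizer ({f y} : Set _)).comap f).map N.subtype := by
          refine hgood.trans (iSup_le fun B₂ x hx => ⟨⟨x, hx.1⟩, ?_, rfl⟩)
          show f ⟨x, hx.1⟩ ∈ Subgroup.centralizer {f y}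
          rw [Subgroup.mem_centralizer_singleton_iff, eq_comm, ← commutatorElement_eq_one_iff_mul_comm,
            ← map_commutatorElement]
          exact (QuotientGroup.eq_one_iff _).2 (hcgood B₂ B₂.2.1 B₂.2.2 x ⟨hx.1, hx.2.1.2⟩ B₁ B₁.2.1 B₁.2.2 y hy)
        refine Subgroup.mem_center_iff.2 fun q => ?_
        obtain ⟨w, rfl⟩ := QuotientGroup.mk'_surjective _ q
        obtain ⟨w', hw', hww⟩ := hle w.2
        rw [← Subgroup.subtype_injective N hww]
        exact Subgroup.mem_centralizer_singleton_iff.1 hw'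
      have htop : N ≤ ((Subgroup.center (↥N ⧸ U.subgroupOf N)).comap f).map N.subtype := by
        refine hgood.trans (iSup_le fun B₁ => ?_)
        rw [← Subgroup.map_subgroupOf_eq_of_le (inf_le_left : N ⊓ S B₁ ≤ N)]
        exact Subgroup.map_mono (hcen B₁)
      rw [hD, Subgroup.commutator_le]
      intro x hx y hy
      have hxy : f ⁅(⟨x, hx⟩ : N), ⟨y, hy⟩⁆ = 1 := by
        obtain ⟨w', hw', hww⟩ := htop hy
        rw [map_commutatorElement, commutatorElement_eq_one_iff_mul_comm]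
        rw [show w' = (⟨y, hy⟩ : N) from Subtype.ext hww] at hw'
        exact Subgroup.mem_center_iff.1 hw' _
      exact (QuotientGroup.eq_one_iff (N := U.subgroupOf N) _).1 hxy
    have hD' := ih _ (hm ▸ lt_of_le_of_ne (Subgroup.card_le_of_le hDlt.le)
      fun he => hDlt.ne (Subgroup.eq_of_le_of_card_ge hDlt.le he.ge)) D rfl (hDlt.le.trans hNW) hAD' hDU B hB hidx
    -- the abelian factor
    set M := Subgroup.normalizer (D : Set G)
    haveI : (D.subgroupOf M).Normal := Subgroup.normal_in_normalizer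
    set π := QuotientGroup.mk' (D.subgroupOf M)
    have hNM : N ≤ M := Subgroup.le_normalizer.trans (CfsgLib.Solvable.normalizer_le_normalizer_commutator N N |>.trans' (le_inf le_rfl le_rfl))
    have hBM : B ≤ M := hB.trans hAD'
    set V := (N.subgroupOf M).map π
    set Bb := (B.subgroupOf M).map π
    haveI : IsMulCommutative V := by
      refine ⟨⟨?_⟩⟩
      rintro ⟨_, x, hx, rfl⟩ ⟨_, y, hy, rfl⟩
      refine Subtype.ext ?_
      show π x * π y = π y * π x
      rw [← commutatorElement_eq_one_iff_mul_comm, ← map_commutatorElement]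
      exact (QuotientGroup.eq_one_iff (N := D.subgroupOf M) _).2
        (show ((⁅x, y⁆ : M) : G) ∈ D from Subgroup.commutator_mem_commutator hx hy)
    have hBp : IsPGroup p B := CfsgLib.PGroup.elemAb_isPGroup (CfsgLib.PGroup.elemAb_mono hA hB)
    have hcop : (Nat.card Bb).Coprime (Nat.card V) := by
      obtain ⟨j, hj⟩ := IsPGroup.iff_card.1 hBp
      refine Nat.Coprime.coprime_dvd_left ((Subgroup.card_map_dvd _ _).trans (by
        rw [Nat.card_congr (Subgroup.subgroupOfEquivOfLe hBM).toEquiv])) ?_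
      refine Nat.Coprime.coprime_dvd_right ((Subgroup.card_map_dvd _ _).trans (by
        rw [Nat.card_congr (Subgroup.subgroupOfEquivOfLe hNM).toEquiv])) ?_
      rw [hj]
      exact ((hWc.coprime_dvd_left (Subgroup.card_dvd_of_le hNW)).symm).pow_left j
    have hBV : Bb ≤ Subgroup.normalizer (V : Set _) := by
      refine le_trans (Subgroup.map_mono ?_) (Subgroup.le_normalizer_map π)
      intro b hb
      exact CfsgLib.Solvable.mem_normalizer_of_conj_mem fun w hw =>
        (Subgroup.mem_normalizer_iff.1 (hAN (hB hb)) (w : G)).1 hw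
    set R := ((N ⊓ S B).subgroupOf M).map π
    have hVle : V ≤ R ⊔ ⁅V, Bb⁆ := by
      have hle : N ≤ ((R ⊔ ⁅V, Bb⁆).comap π).map M.subtype := by
        refine hgood.trans (iSup_le fun B₂ => ?_)
        set T := N ⊓ S B₂
        have hTn : A ≤ Subgroup.normalizer (T : Set G) := by
          refine CfsgLib.Solvable.le_normalizer_inf hAN ?_
          refine CfsgLib.Solvable.le_normalizer_inf (CfsgLib.Solvable.le_normalizer_inf (hθn a ha) ?_) ?_
          · intro c hc
            exact CfsgLib.Solvable.normalizer_le_normalizer_centralizer _ (Subgroup.centralizer_le_normalizer _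
              (Subgroup.mem_centralizer_iff.2 fun y hy => hAc y (B₂.2.1 hy) c hc))
          · refine CfsgLib.Solvable.le_normalizer_of_conj_mem fun c hc x hx => ?_
            simp only [Subgroup.mem_iInf] at hx ⊢
            exact fun E => (Subgroup.mem_normalizer_iff.1 (hAD E (E.2.1.trans B₂.2.1) hc) x).1 (hx E)
        have hTc : (Nat.card B).Coprime (Nat.card T) := by
          obtain ⟨j, hj⟩ := IsPGroup.iff_card.1 hBp
          rw [hj]
          exact ((hWc.coprime_dvd_left (Subgroup.card_dvd_of_le (inf_le_left.trans hNW))).symm).pow_left j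
        haveI : Group.IsNilpotent B := hBp.isNilpotent
        rw [← CfsgLib.Solvable.commutator_sup_centralizer (hB.trans hTn) hTc (Or.inl inferInstance)]
        refine sup_le ?_ ?_
        · rw [Subgroup.commutator_le]
          intro t ht b hb'
          refine ⟨⁅(⟨t, hNM ht.1⟩ : M), ⟨b, hBM hb'⟩⁆, ?_, rfl⟩
          show π ⁅_, _⁆ ∈ R ⊔ ⁅V, Bb⁆
          rw [map_commutatorElement]
          exact Subgroup.mem_sup_right (Subgroup.commutator_mem_commutator ⟨_, ht.1, rfl⟩ ⟨_, hb', rfl⟩)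
        · rintro t ⟨ht, htB⟩
          refine ⟨⟨t, hNM ht.1⟩, Subgroup.mem_sup_left ⟨_, ?_, rfl⟩, rfl⟩
          refine ⟨ht.1, ?_⟩
          obtain ⟨E, hEB, hEc⟩ := hex B₂ B₂.2.1 (hbig B₂ B₂.2.1 (B₂.2.2.trans (Nat.le_self_pow (by omega) p)))
          exact h1 E (hEB.trans B₂.2.1) hEc B hB ⟨⟨hNW ht.1, Subgroup.mem_iInf.1 ht.2.2 ⟨E, hEB, hEc⟩⟩, htB⟩
      rintro _ ⟨⟨w, hwM⟩, hw, rfl⟩
      obtain ⟨w', hw', hww⟩ := hle hw
      rw [← show w' = (⟨w, hwM⟩ : M) from Subtype.ext hww]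
      exact hw'
    rintro x ⟨hxN, hxB⟩
    have hxV : π ⟨x, hNM hxN⟩ ∈ V := ⟨_, hxN, rfl⟩
    have hRV : R ≤ V := Subgroup.map_mono (Subgroup.comap_mono inf_le_left)
    have hRfix : R ≤ Subgroup.centralizer (Bb : Set _) := by
      rintro _ ⟨r, hr, rfl⟩
      rw [Subgroup.mem_centralizer_iff]
      rintro _ ⟨b, hb', rfl⟩
      rw [← map_mul, ← map_mul]
      exact congrArg π (Subtype.ext (Subgroup.mem_centralizer_iff.1 hr.2.1.2 b hb'))
    obtain ⟨c, hc, r, hr, hcr⟩ := CfsgLib.Solvable.exists_mul_of_mem_sup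
      (show R ≤ Subgroup.normalizer ((⁅V, Bb⁆ : Subgroup _) : Set _) from
        hRV.trans (CfsgLib.Solvable.le_normalizer_commutator_left V Bb))
      (show π ⟨x, hNM hxN⟩ ∈ ⁅V, Bb⁆ ⊔ R from sup_comm R ⁅V, Bb⁆ ▸ hVle hxV)
    have hc1 : c = 1 := by
      have hmem : c ∈ (V ⊓ Subgroup.centralizer (Bb : Set _)) ⊓ ⁅V, Bb⁆ := by
        have hce : c = π ⟨x, hNM hxN⟩ * r⁻¹ := by rw [hcr, mul_inv_cancel_right]
        refine ⟨⟨(CfsgLib.Solvable.commutator_le_of_le_normalizer hBV) hc, ?_⟩, hc⟩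
        rw [hce]
        refine Subgroup.mul_mem _ (Subgroup.mem_centralizer_iff.2 ?_) (Subgroup.inv_mem _ (hRfix hr))
        rintro _ ⟨b, hb', rfl⟩
        rw [← map_mul, ← map_mul]
        exact congrArg π (Subtype.ext (Subgroup.mem_centralizer_iff.1 hxB b hb'))
      rw [CfsgLib.Solvable.inf_centralizer_inf_commutator Bb V hBV hcop, Subgroup.mem_bot] at hmem
      exact hmem
    rw [hc1, one_mul] at hcr
    obtain ⟨s, hs, hsr⟩ := hr
    have hsx : (s : G)⁻¹ * x ∈ D := by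
      have : π (s⁻¹ * ⟨x, hNM hxN⟩) = 1 := by rw [map_mul, map_inv, hsr, hcr, inv_mul_cancel]
      exact (QuotientGroup.eq_one_iff (N := D.subgroupOf M) _).1 this
    have h3 := hD' ⟨hsx, Subgroup.mul_mem _ (Subgroup.inv_mem _ hs.2.1.2) hxB⟩
    show x ∈ S B
    have h4 : (s : G) * ((s : G)⁻¹ * x) ∈ S B := (S B).mul_mem hs.2 h3
    rwa [mul_inv_cancel_left] at h4
  have hWgood : W ≤ good W := iSup_le fun D => h2 _ W
    (le_iSup (fun D : {D : Subgroup G // D ≤ A ∧ Nat.card ↥D = p ^ k} =>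
      Cfsg.signalizerDelta p (D : Subgroup G) ⊓ Subgroup.centralizer {a}) D) le_rfl
    (CfsgLib.Solvable.le_normalizer_inf (hAD D D.2.1) (hCn a ha)) ⟨D, D.2.1, D.2.2, inf_le_left⟩
  refine CfsgLib.Cores.le_of_hyperplanes hA (hWc.coprime_dvd_left (Subgroup.card_dvd_of_le inf_le_left))
    (CfsgLib.Solvable.le_normalizer_inf (hθn a ha) (hCn b hb)) fun B hB hidx => ?_
  rintro x ⟨⟨hxW, hxb⟩, hxB⟩
  obtain ⟨E, hEB, hEc⟩ := hex B hB (hbig B hB (hidx.trans (Nat.le_self_pow (by omega) p)))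
  have hxS := key _ W rfl le_rfl (hθn a ha) hWgood B hB hidx ⟨hxW, hxB⟩
  exact Subgroup.mem_iSup_of_mem (⟨E, hEB.trans hB, hEc⟩ : {D : Subgroup G // D ≤ A ∧ Nat.card ↥D = p ^ k})
    ⟨Subgroup.mem_iInf.1 hxS.2 ⟨E, hEB, hEc⟩, hxb⟩

end Cfsg.Agent.S1299
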