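import Cfsg.Statements.S1300
import Cfsg.Agent.Lib.Cores.Basic
-- import your own Cfsg.Agent.* helpers here

set_option autoImplicit false
open Cfsg

namespace Cfsg.Agent.S1300

/-- For a finite group G, balance in the sense of commuting involutions is the same as 1-balance for the prime 2. -/
theorem result {G : Type*} [Group G] [Finite G] : Cfsg.IsBalanced G ↔ Cfsg.IsKBalanced 2 1 G := by
  have hcore : ∀ x : G, Cfsg.centralizerPPrimeCore 2 x ≤ Subgroup.centralizer {x} :=
    fun x => Subgroup.map_subtype_le _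
  constructor
  · intro h A hA hcard b hb hab
    rw [pow_one, Nat.card_eq_two_iff' (1 : ↥A)] at hcard
    obtain ⟨⟨a, haA⟩, ha1, -⟩ := hcard
    have ha : a ≠ 1 := fun he => ha1 (Subtype.ext he)
    have hao : orderOf a = 2 := orderOf_eq_prime (hA.2 a haA) ha
    refine le_trans (inf_le_inf_right _ (iInf_le _ (⟨a, haA, ha⟩ : {a : G // a ∈ A ∧ a ≠ 1}))) ?_
    exact (h a b hao hb (hab a haA)).le.trans inf_le_left
  · intro h x y hx hy hxy
    have key : ∀ x y : G, orderOf x = 2 → orderOf y = 2 → x * y = y * x →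
        Cfsg.centralizerPPrimeCore 2 x ⊓ Subgroup.centralizer {y} ≤ Cfsg.centralizerPPrimeCore 2 y := by
      intro x y hx hy hxy
      have hA : Cfsg.IsElementaryAbelian 2 (Subgroup.zpowers x) := by
        refine ⟨⟨⟨fun a b => ?_⟩⟩, ?_⟩
        · obtain ⟨a, ha⟩ := a
          obtain ⟨b, hb⟩ := b
          obtain ⟨i, rfl⟩ := ha
          obtain ⟨j, rfl⟩ := hb
          exact Subtype.ext (zpow_mul_comm x i j)
        · rintro _ ⟨i, rfl⟩
          show (x ^ i) ^ 2 = 1
          rw [← zpow_natCast, ← zpow_mul, mul_comm, zpow_mul, zpow_natCast, ← hx, pow_orderOf_eq_one, one_zpow]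
      refine le_trans (inf_le_inf_right _ ?_) (h (Subgroup.zpowers x) hA (by rw [Nat.card_zpowers, hx, pow_one]) y hy ?_)
      · refine le_iInf fun a => ?_
        have ha : (a : G) = x := by
          obtain ⟨i, hi⟩ := a.2.1
          have hi' : x ^ i = (a : G) := hi
          rcases Int.even_or_odd i with ⟨j, hj⟩ | ⟨j, hj⟩
          · refine absurd ?_ a.2.2
            rw [← hi', hj, ← two_mul, zpow_mul, zpow_ofNat, ← hx, pow_orderOf_eq_one, one_zpow]
          · rw [← hi', hj, zpow_add, zpow_mul, zpow_ofNat, ← hx, pow_orderOf_eq_one, one_zpow, one_mul, zpow_one]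
        rw [ha]
      · intro a ha
        obtain ⟨i, rfl⟩ := ha
        exact ((Commute.zpow_left hxy i)).eq
    exact le_antisymm (le_inf (key x y hx hy hxy) (inf_le_left.trans (hcore x)))
      (le_inf (key y x hy hx hxy.symm) (inf_le_left.trans (hcore y)))

end Cfsg.Agent.S1300
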