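import Cfsg.Statements.S1302
import Cfsg.Agent.Lib.Components.OmegaFixed
import Cfsg.Agent.Lib.Cores.PConstrained
-- import your own Cfsg.Agent.* helpers here

set_option autoImplicit false
open Cfsg

namespace Cfsg.Agent.S1302

/-- Let X be a finite p-constrained group, p an odd prime, and A an abelian p-subgroup of X containing every element of order p of C_X(A). Then every subgroup of X of order prime to p that is normalized by A lies in O_{p'}(X). -/
theorem result {X : Type*} [Group X] [Finite X] (p : ℕ) [Fact p.Prime] (hp : p ≠ 2) (hX : Cfsg.IsPConstrained p X) (A : Subgroup X) (hA : IsMulCommutative ↥A) (hAp : IsPGroup p ↥A) (hΩ : ∀ x ∈ Subgroup.centralizer (A : Set X), orderOf x = p → x ∈ A) (Q : Subgroup X) (hQ : ¬ p ∣ Nat.card ↥Q) (hAQ : A ≤ Subgroup.normalizer (Q : Set X)) : Q ≤ Cfsg.pPrimeCore p X := by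
  set N := Cfsg.pPrimeCore p X with hN
  haveI : N.Normal := inferInstance
  let π := QuotientGroup.mk' N
  set P := Cfsg.pCore p (X ⧸ N) with hPdef
  haveI : P.Normal := inferInstance
  have hQc : (Nat.card Q).Coprime p := (CfsgLib.Cores.coprime_iff_not_dvd Fact.out _).2 hQ
  have hQ' : (Nat.card (Q.map π)).Coprime p := hQc.coprime_dvd_left (Subgroup.card_map_dvd _ _)
  have hP : IsPGroup p P := CfsgLib.Cores.isPGroup_pCore p
  have hAQ' : A.map π ≤ Subgroup.normalizer ((Q.map π : Subgroup (X ⧸ N)) : Set (X ⧸ N)) :=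
    (Subgroup.map_mono hAQ).trans (Subgroup.le_normalizer_map _)
  have htop : ∀ K : Subgroup (X ⧸ N), K ≤ Subgroup.normalizer (P : Set (X ⧸ N)) := fun K =>
    le_top.trans (Subgroup.normalizer_eq_top_iff.2 inferInstance).ge
  have key : Q.map π ≤ Subgroup.centralizer (P : Set (X ⧸ N)) := by
    refine CfsgLib.Components.commute_of_fixed_omega hp hP hQ' (hAp.map π) (htop _) (htop _) hAQ'
      fun v hv hvp hvA => ?_
    rw [← CfsgLib.Cores.map_mk'_centralizer_of_coprime hAp (CfsgLib.Cores.coprime_card_pPrimeCore p)] at hvA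
    obtain ⟨c, hc, rfl⟩ := hvA
    rcases eq_or_ne (π c) 1 with h1 | h1
    · exact h1 ▸ one_mem _
    set m := orderOf c / p ^ (orderOf c).factorization p
    have hm : ¬ p ∣ m := Nat.not_dvd_ordCompl Fact.out (orderOf_pos c).ne'
    have hpe : (c ^ m) ^ p ^ (orderOf c).factorization p = 1 := by
      rw [← pow_mul, Nat.div_mul_cancel (Nat.ordProj_dvd _ _), pow_orderOf_eq_one]
    have hc1 : (c ^ m) ^ p = 1 := by
      have hmemN : (c ^ m) ^ p ∈ N := (QuotientGroup.eq_one_iff _).1
        (show π ((c ^ m) ^ p) = 1 by rw [map_pow, map_pow, ← pow_mul, mul_comm, pow_mul, hvp, one_pow])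
      refine orderOf_eq_one_iff.1 (Nat.eq_one_of_dvd_coprimes
        (Nat.Coprime.pow_right ((orderOf c).factorization p) (CfsgLib.Cores.coprime_card_pPrimeCore p))
        (Subgroup.orderOf_dvd_natCard N hmemN) (orderOf_dvd_of_pow_eq_one ?_))
      rw [← pow_mul, mul_comm, pow_mul, hpe, one_pow]
    have hne : c ^ m ≠ 1 := fun h => hm (by
      have h2 : orderOf (π c) = p := orderOf_eq_prime hvp h1
      exact h2 ▸ orderOf_dvd_of_pow_eq_one (by rw [← map_pow, h, map_one]))
    have hcA : c ^ m ∈ A := hΩ _ (Subgroup.pow_mem _ hc m) (orderOf_eq_prime hc1 hne)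
    have hcen : π (c ^ m) ∈ Subgroup.centralizer ((Q.map π : Subgroup (X ⧸ N)) : Set (X ⧸ N)) := by
      rw [Subgroup.mem_centralizer_iff]
      intro y hy
      set a := π (c ^ m) with ha
      have haP : a ∈ P := by rw [ha, map_pow]; exact pow_mem hv m
      have ha' : a * y * a⁻¹ ∈ Q.map π :=
        (Subgroup.mem_normalizer_iff.1 (hAQ' ⟨_, hcA, rfl⟩) y).1 hy
      have h3 : a * y * a⁻¹ * y⁻¹ ∈ Q.map π ⊓ P := by
        refine ⟨Subgroup.mul_mem _ ha' (Subgroup.inv_mem _ hy), ?_⟩
        rw [show a * y * a⁻¹ * y⁻¹ = a * (y * a⁻¹ * y⁻¹) by group]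
        exact mul_mem haP ((inferInstance : P.Normal).conj_mem _ (inv_mem haP) y)
      have h4 : Q.map π ⊓ P = ⊥ := by
        obtain ⟨k, hk⟩ := IsPGroup.iff_card.1 hP
        exact Subgroup.inf_eq_bot_of_coprime (hk ▸ Nat.Coprime.pow_right k hQ')
      rw [h4, Subgroup.mem_bot, mul_inv_eq_one, mul_inv_eq_iff_eq_mul] at h3
      exact h3.symm
    have h2 : orderOf (π c) = p := orderOf_eq_prime hvp h1
    have hz : π c ∈ Subgroup.zpowers (π (c ^ m)) := by
      rw [map_pow, mem_zpowers_pow_iff ]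
      exact h2.symm ▸ ((Fact.out : p.Prime).coprime_iff_not_dvd.2 hm).symm
    exact Subgroup.zpowers_le.2 hcen hz
  have hX' := (CfsgLib.Cores.isPConstrained_iff.1 hX)
  have hbot : Q.map π = ⊥ := by
    obtain ⟨k, hk⟩ := IsPGroup.iff_card.1 hP
    have h4 : Q.map π ⊓ P = ⊥ := Subgroup.inf_eq_bot_of_coprime (hk ▸ Nat.Coprime.pow_right k hQ')
    rw [← h4, left_eq_inf]
    exact key.trans hX'
  intro x hx
  exact (QuotientGroup.eq_one_iff x).1 (Subgroup.mem_bot.1 (hbot ▸ Subgroup.mem_map_of_mem π hx))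

end Cfsg.Agent.S1302
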