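import Cfsg.Statements.S1303
import Cfsg.Agent.Lib.Cores.PConstrained
-- import your own Cfsg.Agent.* helpers here

set_option autoImplicit false
open Cfsg

namespace Cfsg.Agent.S1303

/-- The group X = SL(2, 3): it is 2-constrained, O_{2'}(X) = 1, its centre A = Z(X) contains every involution of X = C_X(A), and X has a subgroup of order 3 (normalized by A) not contained in O_{2'}(X). -/
theorem result : Cfsg.IsPConstrained 2 (Matrix.SpecialLinearGroup (Fin 2) (ZMod 3)) ∧ Cfsg.pPrimeCore 2 (Matrix.SpecialLinearGroup (Fin 2) (ZMod 3)) = ⊥ ∧ (∀ t : Matrix.SpecialLinearGroup (Fin 2) (ZMod 3), orderOf t = 2 → t ∈ Subgroup.center (Matrix.SpecialLinearGroup (Fin 2) (ZMod 3))) ∧ ∃ Q : Subgroup (Matrix.SpecialLinearGroup (Fin 2) (ZMod 3)), Nat.card ↥Q = 3 ∧ ¬ (Q ≤ Cfsg.pPrimeCore 2 (Matrix.SpecialLinearGroup (Fin 2) (ZMod 3))) := by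
  have hK : ∀ x y : Matrix.SpecialLinearGroup (Fin 2) (ZMod 3), x ^ 4 = 1 → y ^ 4 = 1 → (x * y) ^ 4 = 1 := by
    decide +kernel
  have hodd : ∀ x : Matrix.SpecialLinearGroup (Fin 2) (ZMod 3), x ^ 3 = 1 → x ≠ 1 → ∃ g, (g * x * g⁻¹ * x⁻¹) ^ 3 ≠ 1 := by
    decide +kernel
  have hcent : ∀ x : Matrix.SpecialLinearGroup (Fin 2) (ZMod 3), x ^ 2 = 1 → ∀ g, g * x = x * g := by
    decide +kernel
  have hC : ∀ x : Matrix.SpecialLinearGroup (Fin 2) (ZMod 3), x ^ 4 ≠ 1 → ∃ y, y ^ 4 = 1 ∧ y * x ≠ x * y := by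
    decide +kernel
  have hex : ∃ x : Matrix.SpecialLinearGroup (Fin 2) (ZMod 3), x ^ 3 = 1 ∧ x ≠ 1 := by
    decide +kernel
  have hcard : Nat.card (Matrix.SpecialLinearGroup (Fin 2) (ZMod 3)) = 24 := by
    rw [Nat.card_eq_fintype_card]
    decide +kernel
  have hO : Cfsg.pPrimeCore 2 (Matrix.SpecialLinearGroup (Fin 2) (ZMod 3)) = ⊥ := by
    rw [CfsgLib.Cores.pPrimeCore_eq_bot_iff]
    intro N hN hc
    have hd : Nat.card ↥N ∣ 3 := by
      have h24 : Nat.card ↥N ∣ 8 * 3 := by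
        have := N.card_subgroup_dvd_card
        rwa [hcard] at this
      exact (Nat.Coprime.dvd_mul_left (Nat.Coprime.pow_right 3 hc)).1 h24
    rw [Subgroup.eq_bot_iff_forall]
    intro x hx
    have h3 : ∀ y ∈ N, y ^ 3 = 1 := fun y hy =>
      orderOf_dvd_iff_pow_eq_one.1 ((Subgroup.orderOf_dvd_natCard N hy).trans hd)
    by_contra hne
    obtain ⟨g, hg⟩ := hodd x (h3 x hx) hne
    exact hg (h3 _ (mul_mem (hN.conj_mem x hx g) (inv_mem hx)))
  refine ⟨?_, hO, ?_, ?_⟩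
  · let K : Subgroup (Matrix.SpecialLinearGroup (Fin 2) (ZMod 3)) :=
      { carrier := {x | x ^ 4 = 1}
        mul_mem' := fun {a b} ha hb => hK a b ha hb
        one_mem' := one_pow 4
        inv_mem' := fun {a} (ha : a ^ 4 = 1) => by show a⁻¹ ^ 4 = 1; rw [inv_pow, ha, inv_one] }
    have hKn : K.Normal := ⟨fun x (hx : x ^ 4 = 1) g => by show (g * x * g⁻¹) ^ 4 = 1; rw [conj_pow, hx, mul_one, mul_inv_cancel]⟩
    have hKp : IsPGroup 2 ↥K := fun x => ⟨2, Subtype.ext x.2⟩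
    intro P x hx
    have hP : (Cfsg.pPrimePCore 2 (Matrix.SpecialLinearGroup (Fin 2) (ZMod 3))) ≤
        ((P : Subgroup _).map (Cfsg.pPrimePCore 2 (Matrix.SpecialLinearGroup (Fin 2) (ZMod 3))).subtype) := by
      have htop : IsPGroup 2 ↥(Cfsg.pPrimePCore 2 (Matrix.SpecialLinearGroup (Fin 2) (ZMod 3))) := by
        refine (CfsgLib.Cores.isPGroup_pCore 2).comap_of_ker_isPGroup _ ?_
        rw [QuotientGroup.ker_mk', hO]
        exact IsPGroup.of_bot
      have := P.3 (htop.to_subgroup ⊤) le_top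
      rw [← this, ← MonoidHom.range_eq_map, Subgroup.range_subtype]
    have hKle : K ≤ Cfsg.pPrimePCore 2 (Matrix.SpecialLinearGroup (Fin 2) (ZMod 3)) := by
      refine Subgroup.map_le_iff_le_comap.1 ?_
      exact (Subgroup.map_mono (CfsgLib.Cores.le_pCore hKp)).trans
        (CfsgLib.Cores.map_pCore_le _ (QuotientGroup.mk'_surjective _))
    refine hKle ?_
    show x ^ 4 = 1
    by_contra hne
    obtain ⟨y, hy, hyx⟩ := hC x hne
    exact hyx (Subgroup.mem_centralizer_iff.1 hx y (hP (hKle hy)))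
  · intro t ht
    rw [Subgroup.mem_center_iff]
    exact hcent t (orderOf_dvd_iff_pow_eq_one.1 (dvd_of_eq ht))
  · obtain ⟨x, hx, hx1⟩ := hex
    refine ⟨Subgroup.zpowers x, ?_, fun h => ?_⟩
    · have : Fact (Nat.Prime 3) := ⟨Nat.prime_three⟩
      rw [Nat.card_zpowers, orderOf_eq_prime hx hx1]
    · rw [hO] at h
      exact hx1 (Subgroup.mem_bot.1 (h (Subgroup.mem_zpowers x)))

end Cfsg.Agent.S1303
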