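import Cfsg.Statements.S1304
import Cfsg.Agent.Lib.Cores.Layer
-- import your own Cfsg.Agent.* helpers here

set_option autoImplicit false
open Cfsg
open scoped commutatorElement

namespace Cfsg.Agent.S1304

/-- Let X be a perfect group and α an automorphism of X with α(x) x⁻¹ central for every x. Then α is the identity. -/
theorem result {X : Type*} [Group X] (hperf : commutator X = ⊤) (α : X ≃* X) (h : ∀ x : X, α x * x⁻¹ ∈ Subgroup.center X) : ∀ x : X, α x = x := by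
  intro x
  let S : Subgroup X := MonoidHom.eqLocus α.toMonoidHom (MonoidHom.id X)
  have hS : commutator X ≤ S := by
    rw [commutator_def, Subgroup.commutator_le]
    intro a _ b _
    show α ⁅a, b⁆ = ⁅a, b⁆
    obtain ⟨z, hz, hza⟩ : ∃ z ∈ Subgroup.center X, α a = z * a := ⟨_, h a, by group⟩
    obtain ⟨w, hw, hwb⟩ : ∃ w ∈ Subgroup.center X, α b = w * b := ⟨_, h b, by group⟩
    rw [map_commutatorElement, hza, hwb]
    rw [Subgroup.mem_center_iff] at hz hw
    simp only [commutatorElement_def, mul_inv_rev]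
    calc z * a * (w * b) * (a⁻¹ * z⁻¹) * (b⁻¹ * w⁻¹)
        = (z * a * w * b * a⁻¹) * z⁻¹ * b⁻¹ * w⁻¹ := by group
      _ = z * (a * w * b * a⁻¹ * b⁻¹) * z⁻¹ * w⁻¹ := by
          rw [show (z * a * w * b * a⁻¹) * z⁻¹ * b⁻¹ = (z * a * w * b * a⁻¹) * (z⁻¹ * b⁻¹) by group,
            show z⁻¹ * b⁻¹ = b⁻¹ * z⁻¹ by rw [← mul_inv_rev, ← mul_inv_rev, hz b]]
          group
      _ = (a * w * b * a⁻¹ * b⁻¹) * z * z⁻¹ * w⁻¹ := by rw [hz]
      _ = (a * w) * (b * a⁻¹ * b⁻¹) * w⁻¹ := by group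
      _ = (w * a) * (b * a⁻¹ * b⁻¹) * w⁻¹ := by rw [hw a]
      _ = w * (a * b * a⁻¹ * b⁻¹) * w⁻¹ := by group
      _ = a * b * a⁻¹ * b⁻¹ := by rw [← hw]; group
  rw [hperf] at hS
  exact hS (Subgroup.mem_top x)

end Cfsg.Agent.S1304
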