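import Cfsg.Statements.S1305
import Cfsg.Agent.Lib.Cores.ComponentCentralizer

set_option autoImplicit false
open Cfsg

namespace Cfsg.Agent.S1305

open Subgroup CfsgLib.Cores CfsgLib.CompCent

/-- Let G be a finite group of component type with the B-property and no nontrivial normal subgroup of odd order. Let a be an involution and K a component of C_G(a) such that (a) |K| is maximal among the orders of components of centralizers of involutions of G, (b) subject to (a) the 2-rank of the centralizer of K in C_G(a) is as large as possible, and (c) K has 2-rank at least 2. If B is an elementary abelian 2-subgroup of that centralizer of the largest possible order, then K is a component of C_G(b) for every non-identity b ∈ B. -/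
theorem result {G : Type*} [Group G] [Finite G] (hO : Cfsg.oddCore G = ⊥) (hB : Cfsg.HasBProperty G) (hct : Cfsg.IsComponentType G) (a : G) (ha : orderOf a = 2) (K : Subgroup G) (hKa : K ≤ Subgroup.centralizer ({a} : Set G)) (hK : Cfsg.IsComponent (K.subgroupOf (Subgroup.centralizer ({a} : Set G)))) (hmax : ∀ y : G, orderOf y = 2 → ∀ K' : Subgroup G, K' ≤ Subgroup.centralizer ({y} : Set G) → Cfsg.IsComponent (K'.subgroupOf (Subgroup.centralizer ({y} : Set G))) → Nat.card ↥K' ≤ Nat.card ↥K ∧ (Nat.card ↥K' = Nat.card ↥K → ∀ k : ℕ, Cfsg.PRankLE 2 k ↥(Subgroup.centralizer ({a} : Set G) ⊓ Subgroup.centralizer (K : Set G)) → Cfsg.PRankLE 2 k ↥(Subgroup.centralizer ({y} : Set G) ⊓ Subgroup.centralizer (K' : Set G)))) (hrk : ¬ Cfsg.PRankLE 2 1 ↥K) (B : Subgroup G) (hBle : B ≤ Subgroup.centralizer ({a} : Set G) ⊓ Subgroup.centralizer (K : Set G)) (hBel : Cfsg.IsElementaryAbelian 2 B) (hBmax : ∀ B' : Subgroup G, B' ≤ Subgroup.centralizer ({a} : Set G) ⊓ Subgroup.centralizer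 (K : Set G) → Cfsg.IsElementaryAbelian 2 B' → Nat.card ↥B' ≤ Nat.card ↥B) (b : G) (hb : b ∈ B) (hb1 : b ≠ 1) : K ≤ Subgroup.centralizer ({b} : Set G) ∧ Cfsg.IsComponent (K.subgroupOf (Subgroup.centralizer ({b} : Set G))) := by
  classical
  have hBC : ∀ x ∈ B, x ∈ Subgroup.centralizer (K : Set G) := fun x hx => (hBle hx).2
  have ha2 : a ^ 2 = 1 := by rw [← ha]; exact pow_orderOf_eq_one a
  have hab : ∀ x ∈ B, x * a = a * x := fun x hx =>
    Subgroup.mem_centralizer_singleton_iff.1 (hBle hx).1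
  have hBcomm : ∀ x ∈ B, ∀ y ∈ B, x * y = y * x := fun x hx y hy =>
    congrArg Subtype.val (hBel.1.is_comm.comm ⟨x, hx⟩ ⟨y, hy⟩)
  have hB2 : ∀ x ∈ B, x * x = 1 := fun x hx => by rw [← pow_two]; exact hBel.2 x hx
  have haB : a ∈ B := by
    by_contra hna
    let ψ : ↥B × ↥(Subgroup.zpowers a) →* G := (B.subtype).noncommCoprod (Subgroup.zpowers a).subtype
      (fun x y => by
        obtain ⟨k, hk⟩ := Subgroup.mem_zpowers_iff.1 y.2
        show Commute (x : G) (y : G)
        rw [← hk]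
        exact (Commute.zpow_right (show Commute (x : G) a from hab x x.2) k))
    have hle : ψ.range ≤ Subgroup.centralizer ({a} : Set G) ⊓ Subgroup.centralizer (K : Set G) := by
      rw [MonoidHom.noncommCoprod_range, Subgroup.range_subtype, Subgroup.range_subtype]
      refine sup_le hBle (Subgroup.zpowers_le.2 ⟨Subgroup.mem_centralizer_singleton_iff.2 rfl, fun k hk => ?_⟩)
      exact Subgroup.mem_centralizer_singleton_iff.1 (hKa hk)
    have hel : Cfsg.IsElementaryAbelian 2 ψ.range := by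
      refine ⟨⟨⟨?_⟩⟩, ?_⟩
      · rintro ⟨_, ⟨⟨x, y⟩, rfl⟩⟩ ⟨_, ⟨⟨x', y'⟩, rfl⟩⟩
        refine Subtype.ext ?_
        show ψ _ * ψ _ = ψ _ * ψ _
        rw [← map_mul, ← map_mul]
        congr 1
        refine Prod.ext (Subtype.ext (hBcomm _ x.2 _ x'.2)) ?_
        obtain ⟨k, hk⟩ := Subgroup.mem_zpowers_iff.1 y.2
        obtain ⟨l, hl⟩ := Subgroup.mem_zpowers_iff.1 y'.2
        refine Subtype.ext ?_
        show (y : G) * y' = y' * y
        rw [← hk, ← hl, ← zpow_add, ← zpow_add, add_comm]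
      · rintro _ ⟨⟨x, y⟩, rfl⟩
        rw [← map_pow, Prod.pow_mk]
        obtain ⟨k, hk⟩ := Subgroup.mem_zpowers_iff.1 y.2
        have e1 : x ^ 2 = 1 := Subtype.ext (hBel.2 x x.2)
        have e2 : y ^ 2 = 1 := Subtype.ext (by
          show (y : G) ^ 2 = 1
          rw [← hk, ← zpow_natCast, ← zpow_mul, mul_comm, zpow_mul, zpow_natCast, ha2, one_zpow])
        rw [e1, e2]; exact map_one ψ
    have hlt : B < ψ.range := by
      refine lt_of_le_not_ge ?_ fun h => hna (h ⟨(1, ⟨a, Subgroup.mem_zpowers a⟩), by simp [ψ]⟩)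
      rw [MonoidHom.noncommCoprod_range, Subgroup.range_subtype]
      exact le_sup_left
    exact absurd (hBmax _ hle hel) (not_le.2 (Set.Finite.card_lt_card (Set.toFinite _) (SetLike.coe_ssubset_coe.2 hlt)))
  have hbo : orderOf b = 2 := orderOf_eq_prime (hBel.2 b hb) hb1
  have hKb : K ≤ Subgroup.centralizer ({b} : Set G) := fun k hk =>
    Subgroup.mem_centralizer_singleton_iff.2 (hBC b hb k hk)
  refine ⟨hKb, ?_⟩
  set H := Subgroup.centralizer ({b} : Set G) with hH
  have hBH : ∀ x ∈ B, x ∈ H := fun x hx => Subgroup.mem_centralizer_singleton_iff.2 (hBcomm x hx b hb)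
  set t : ↥H := ⟨a, hBH a haB⟩ with htdef
  have hto : orderOf t = 2 := by rw [← Subgroup.orderOf_coe]; exact ha
  have ht1 : t * t = 1 := Subtype.ext (hB2 a haB)
  set L : Subgroup ↥H := K.subgroupOf H with hLdef
  have hLt : L ≤ Subgroup.centralizer ({t} : Set ↥H) := fun x hx =>
    Subgroup.mem_centralizer_singleton_iff.2 (Subtype.ext (Subgroup.mem_centralizer_singleton_iff.1 (hKa hx)))
  have hKq := (isQuasisimple_subgroupOf_iff hKa).1 hK.2
  have hL : Cfsg.IsComponent (L.subgroupOf (Subgroup.centralizer ({t} : Set ↥H))) := by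
    refine ⟨?_, (isQuasisimple_subgroupOf_iff hLt).2 ((isQuasisimple_subgroupOf_iff hKb).2 hKq)⟩
    let f : ↥(Subgroup.centralizer ({t} : Set ↥H)) →* ↥(Subgroup.centralizer ({a} : Set G)) :=
      (H.subtype.comp (Subgroup.centralizer ({t} : Set ↥H)).subtype).codRestrict _ fun x =>
        Subgroup.mem_centralizer_singleton_iff.2 (congrArg Subtype.val (Subgroup.mem_centralizer_singleton_iff.1 x.2))
    exact hK.1.comap f
  have hcomm : ⁅Cfsg.pLayer 2 ↥H, Cfsg.oddCore ↥H⁆ = ⊥ := by
    have := hB b hbo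
    rw [hO, le_bot_iff, Subgroup.map_eq_bot_iff_of_injective _ H.subtype_injective] at this
    exact this
  have hLl : L ≤ Cfsg.layer ↥H := by
    refine le_trans ?_ (pLayer_le_layer_of_commutator_eq_bot hcomm)
    have h1 := CfsgLib.LBalance.layerBalanced ↥H (Subgroup.zpowers t) (isPGroup_zpowers_of_orderOf_eq hto)
    rw [centralizer_zpowers'] at h1
    refine le_trans ?_ h1
    rw [← Subgroup.map_subgroupOf_eq_of_le hLt]
    exact Subgroup.map_mono (component_le_pLayer hL)
  obtain ⟨D, hD, hLD⟩ := exists_component_orbit ht1 hLt hL hLl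
  set DG := D.map H.subtype with hDG
  have hDGH : DG ≤ H := Subgroup.map_subtype_le D
  have hDGs : DG.subgroupOf H = D := Subgroup.comap_map_eq_self_of_injective H.subtype_injective D
  have hDmax := hmax b hbo DG hDGH (hDGs.symm ▸ hD)
  have hcardD : Nat.card D = Nat.card DG := (Subgroup.card_map_of_injective H.subtype_injective).symm
  have hcardL : Nat.card L = Nat.card K := Nat.card_congr (Subgroup.subgroupOfEquivOfLe hKb).toEquiv
  by_cases hDt : D.map (MulAut.conj t).toMonoidHom = D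
  · rw [hDt, sup_idem] at hLD
    have : L = D := Subgroup.eq_of_le_of_card_ge hLD (by rw [hcardL, hcardD]; exact hDmax.1)
    exact this ▸ hD
  exfalso
  obtain ⟨φ, hφ, hφL, -⟩ := pair_component ht1 hD hDt hLt hL hLD
  have hcle : Nat.card L ≤ Nat.card D := by
    rw [← hφL]; exact Nat.card_le_card_of_surjective _ φ.rangeRestrict_surjective
  have hcge : Nat.card DG ≤ Nat.card K := hDmax.1
  have hφi : Function.Injective φ := by
    have hb := (Nat.bijective_iff_surjective_and_card φ.rangeRestrict).2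
      ⟨φ.rangeRestrict_surjective, by rw [hφL]; omega⟩
    exact fun x y h => hb.1 (Subtype.ext h)
  -- rank bound
  obtain ⟨r, hr⟩ : ∃ r, Nat.card B = 2 ^ r :=
    IsPGroup.iff_card.1 (fun g => ⟨1, Subtype.ext (by simpa using hBel.2 g g.2)⟩)
  have hrank := hDmax.2 (by omega) r (fun A hA hA2 => by
    have h1 := hBmax (A.map (Subgroup.centralizer ({a} : Set G) ⊓ Subgroup.centralizer (K : Set G)).subtype)
      (Subgroup.map_subtype_le A) ⟨Subgroup.map_isMulCommutative A _, by
        rintro _ ⟨x, hx, rfl⟩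
        rw [← map_pow, hA2 x hx, map_one]⟩
    rw [Subgroup.card_map_of_injective (Subgroup.subtype_injective _), hr] at h1
    exact h1)
  -- the pair of components is permuted by `B`
  set cD := D.map (MulAut.conj t).toMonoidHom with hcD
  have hperm : ∀ x : ↥H, (x : G) ∈ B → D.map (MulAut.conj x).toMonoidHom = D ∨ D.map (MulAut.conj x).toMonoidHom = cD := by
    intro x hx
    set X := D.map (MulAut.conj x).toMonoidHom with hX
    by_contra hne
    push Not at hne
    have hXc : Cfsg.IsComponent X := isComponent_conj' hD x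
    have hxt : t * x = x * t := Subtype.ext (hab x hx).symm
    have hLX : L ≤ X ⊔ X.map (MulAut.conj t).toMonoidHom := by
      intro l hl
      have e : x * l * x⁻¹ = l := by
        refine Subtype.ext ?_
        show (x : G) * l * (x : G)⁻¹ = l
        rw [← hBC _ hx (l : G) hl, mul_inv_cancel_right]
      rw [← e, hX, Subgroup.map_map, show (MulAut.conj t).toMonoidHom.comp (MulAut.conj x).toMonoidHom =
        (MulAut.conj x).toMonoidHom.comp (MulAut.conj t).toMonoidHom from MonoidHom.ext fun y => by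
          show t * (x * y * x⁻¹) * t⁻¹ = x * (t * y * t⁻¹) * x⁻¹
          rw [show t * (x * y * x⁻¹) * t⁻¹ = (t * x) * y * (t * x)⁻¹ by group, hxt]; group,
        ← Subgroup.map_map, ← Subgroup.map_sup]
      exact ⟨l, hLD hl, rfl⟩
    have hcent : X ⊔ X.map (MulAut.conj t).toMonoidHom ≤ Subgroup.centralizer (L : Set ↥H) := by
      have h1 : ∀ Y : Subgroup ↥H, Cfsg.IsComponent Y → Y ≠ D → Y ≠ cD → Y ≤ Subgroup.centralizer (L : Set ↥H) := by
        intro Y hY hY1 hY2
        refine Subgroup.le_centralizer_iff.1 (hLD.trans (sup_le ?_ ?_))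
        · exact Subgroup.le_centralizer_iff.1
            (Subgroup.commutator_eq_bot_iff_le_centralizer.1 (commutator_components_eq_bot hY hD hY1))
        · exact Subgroup.le_centralizer_iff.1
            (Subgroup.commutator_eq_bot_iff_le_centralizer.1 (commutator_components_eq_bot hY (isComponent_conj' hD t) hY2))
      refine sup_le (h1 X hXc hne.1 hne.2) (h1 _ (isComponent_conj' hXc t) (fun e => hne.2 ?_) (fun e => hne.1 ?_))
      · rw [← map_conj_map_conj ht1 X, e]
      · rw [← map_conj_map_conj ht1 X, e, hcD, map_conj_map_conj ht1]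
    have hbot := Subgroup.commutator_eq_bot_iff_le_centralizer.2 (hLX.trans hcent)
    rw [commutator_self_of_isQuasisimple ((isQuasisimple_subgroupOf_iff hKb).2 hKq)] at hbot
    exact component_ne_bot hL (by rw [hLdef, hbot, Subgroup.bot_subgroupOf])
  set B0 := B ⊓ Subgroup.normalizer (DG : Set G) with hB0
  have hnorm : ∀ x : ↥H, D.map (MulAut.conj x).toMonoidHom = D → (x : G) ∈ Subgroup.normalizer (DG : Set G) := by
    intro x hx
    rw [mem_normalizer_iff_map_conj_eq, hDG, Subgroup.map_map]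
    conv_rhs => rw [← hx, Subgroup.map_map]
    rfl
  have hidx : Nat.card B ≤ 2 * Nat.card B0 := by
    by_cases hall : ∀ x ∈ B, x ∈ B0
    · rw [show B0 = B from le_antisymm inf_le_left hall]; omega
    push Not at hall
    obtain ⟨y, hy, hy0⟩ := hall
    have hyD : D.map (MulAut.conj (⟨y, hBH y hy⟩ : ↥H)).toMonoidHom = cD :=
      (hperm _ hy).resolve_left fun e => hy0 ⟨hy, hnorm _ e⟩
    have hcov : ∀ x ∈ B, x ∈ B0 ∨ y * x ∈ B0 := by
      intro x hx
      refine or_iff_not_imp_left.2 fun hx0 => ⟨mul_mem hy hx, ?_⟩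
      have hxD : D.map (MulAut.conj (⟨x, hBH x hx⟩ : ↥H)).toMonoidHom = cD :=
        (hperm _ hx).resolve_left fun e => hx0 ⟨hx, hnorm _ e⟩
      refine hnorm (⟨y, hBH y hy⟩ * ⟨x, hBH x hx⟩) ?_
      rw [map_conj_mul, hxD, hcD, ← map_conj_mul,
        show (⟨y, hBH y hy⟩ : ↥H) * t = t * ⟨y, hBH y hy⟩ from Subtype.ext (hab y hy), map_conj_mul, hyD, hcD,
        map_conj_map_conj ht1]
    let g : ↥B0 ⊕ ↥B0 → ↥B := Sum.elim (fun z => ⟨z, z.2.1⟩) (fun z => ⟨y * z, mul_mem hy z.2.1⟩)
    have hg : Function.Surjective g := fun x => by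
      rcases hcov x x.2 with h | h
      · exact ⟨Sum.inl ⟨x, h⟩, rfl⟩
      · exact ⟨Sum.inr ⟨y * x, h⟩, Subtype.ext (by
          show y * (y * x) = x
          rw [← mul_assoc, hB2 y hy, one_mul])⟩
    have := Nat.card_le_card_of_surjective g hg
    rw [Nat.card_sum] at this; omega
  have hmemD : ∀ d ∈ DG, ∃ e : ↥D, ((e : ↥H) : G) = d := by
    rintro _ ⟨d, hd, rfl⟩; exact ⟨⟨d, hd⟩, rfl⟩
  have hB0D : ∀ x ∈ B0, ∀ d ∈ DG, x * d = d * x := by
    rintro x ⟨hx, hxn⟩ d hd
    have hd' : x * d * x⁻¹ ∈ DG := (Subgroup.mem_normalizer_iff.1 hxn d).1 hd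
    obtain ⟨e, he⟩ := hmemD d hd
    obtain ⟨f, hf⟩ := hmemD _ hd'
    have hk : ((φ e : ↥H) : G) ∈ K := by
      have : φ e ∈ L := hφL.le ⟨e, rfl⟩
      exact this
    have : φ f = φ e := by
      refine Subtype.ext ?_
      have hfix : x * ((φ e : ↥H) : G) * x⁻¹ = ((φ e : ↥H) : G) := by rw [← hBC x hx _ hk, mul_inv_cancel_right]
      rw [← hfix, hφ, hφ]
      show (f : G) * (a * (f : G) * a⁻¹) = x * ((e : G) * (a * (e : G) * a⁻¹)) * x⁻¹
      rw [hf, he]
      calc x * d * x⁻¹ * (a * (x * d * x⁻¹) * a⁻¹) = x * d * x⁻¹ * ((a * x) * d * (a * x)⁻¹) := by group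
        _ = x * d * x⁻¹ * ((x * a) * d * (x * a)⁻¹) := by rw [hab x hx]
        _ = _ := by group
    have hfe := hφi this
    rw [hfe, he] at hf
    conv_rhs => rw [hf]
    group
  -- a four group in the partner component
  unfold Cfsg.PRankLE at hrk
  push Not at hrk
  obtain ⟨A0, hA0c, hA02, hA0card⟩ := hrk
  let σ : ↥A0 → ↥D := fun k => Classical.choose (show ∃ d : ↥D, ((φ d : ↥H) : G) = ((k : ↥K) : G) by
    have : (⟨((k : ↥K) : G), hKb (k : ↥K).2⟩ : ↥H) ∈ φ.range := hφL.ge (show ((k : ↥K) : G) ∈ K from (k : ↥K).2)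
    obtain ⟨d, hd⟩ := this
    exact ⟨d, congrArg Subtype.val hd⟩)
  have hσ : ∀ k : ↥A0, ((φ (σ k) : ↥H) : G) = ((k : ↥K) : G) := fun k => Classical.choose_spec (p := fun d : ↥D => ((φ d : ↥H) : G) = ((k : ↥K) : G)) _
  have hσm : ∀ k l, σ (k * l) = σ k * σ l := fun k l => hφi (Subtype.ext (by
    rw [map_mul, Subgroup.coe_mul, hσ, hσ, hσ]
    rfl))
  let σ' : ↥A0 →* G := ((MulAut.conj a).toMonoidHom.comp H.subtype).comp (D.subtype.comp (MonoidHom.mk' σ hσm))
  have hσ'i : Function.Injective σ' := fun k l h => by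
    have h' : ((σ k : ↥H) : G) = ((σ l : ↥H) : G) := (MulAut.conj a).injective h
    have := congrArg φ (Subtype.ext (Subtype.ext h') : σ k = σ l)
    exact Subtype.ext (Subtype.ext (by rw [← hσ k, ← hσ l, this]))
  have hEcomm : ∀ k : ↥A0, ∀ d ∈ DG, σ' k * d = d * σ' k := by
    intro k d hd
    obtain ⟨e, rfl⟩ := hmemD d hd
    have h := Subgroup.commutator_eq_bot_iff_le_centralizer.1
      (commutator_components_eq_bot hD (isComponent_conj' hD t) (Ne.symm hDt)) e.2 _ (mem_conj (σ k).2)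
    exact congrArg Subtype.val h
  let ψ : ↥B0 × ↥A0 →* G := (B0.subtype).noncommCoprod σ' (fun x k => by
    show (x : G) * (a * ((σ k : ↥H) : G) * a⁻¹) = (a * ((σ k : ↥H) : G) * a⁻¹) * x
    have e1 := hab x x.2.1
    have e2 := hB0D x x.2 ((σ k : ↥H) : G) ⟨_, (σ k).2, rfl⟩
    calc (x : G) * (a * ((σ k : ↥H) : G) * a⁻¹) = (x * a) * ((σ k : ↥H) : G) * a⁻¹ := by group
      _ = a * ((x : G) * ((σ k : ↥H) : G)) * a⁻¹ := by rw [e1]; group
      _ = a * ((σ k : ↥H) : G) * (x * a⁻¹) := by rw [e2]; group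
      _ = _ := by rw [show (x : G) * a⁻¹ = a⁻¹ * x from (Commute.inv_right (show Commute (x : G) a from e1)).eq]; group)
  have hψi : Function.Injective ψ := by
    rw [injective_iff_map_eq_one]
    rintro ⟨x, k⟩ h
    have h' : (x : G) * σ' k = 1 := h
    have hxk : σ' k = (x : G) := by
      rw [eq_inv_of_mul_eq_one_right h', inv_eq_of_mul_eq_one_right (hB2 x x.2.1)]
    have hfix : ((σ k : ↥H) : G) = σ' k := by
      have e1 := hab x x.2.1
      rw [← hxk] at e1
      have e3 : a * (a * ((σ k : ↥H) : G) * a⁻¹) * a⁻¹ = a * ((σ k : ↥H) : G) * a⁻¹ := by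
        rw [show a * ((σ k : ↥H) : G) * a⁻¹ = σ' k from rfl, ← e1, mul_inv_cancel_right]
      have e4 : a * a = 1 := hB2 a haB
      rw [show a * (a * ((σ k : ↥H) : G) * a⁻¹) * a⁻¹ = (a * a) * ((σ k : ↥H) : G) * (a * a)⁻¹ by group, e4,
        one_mul, inv_one, mul_one] at e3
      exact e3
    have hk1 : ((k : ↥K) : G) = 1 := by
      rw [← hσ k, hφ]
      show ((σ k : ↥H) : G) * σ' k = 1
      rw [hfix, hxk]; exact hB2 x x.2.1
    have hk : k = 1 := Subtype.ext (Subtype.ext hk1)
    subst hk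
    rw [map_one, mul_one] at h'
    exact Prod.ext (Subtype.ext h') rfl
  have hle : ψ.range ≤ Subgroup.centralizer ({b} : Set G) ⊓ Subgroup.centralizer (DG : Set G) := by
    rw [MonoidHom.noncommCoprod_range, Subgroup.range_subtype]
    refine sup_le (fun x hx => ⟨hBH x hx.1, fun d hd => (hB0D x hx d hd).symm⟩) ?_
    rintro _ ⟨k, rfl⟩
    exact ⟨(t * (σ k : ↥H) * t⁻¹).2, fun d hd => (hEcomm k d hd).symm⟩
  have hψcomm : ∀ p q : ↥B0 × ↥A0, p * q = q * p := fun p q =>
    Prod.ext (Subtype.ext (hBcomm _ p.1.2.1 _ q.1.2.1)) (hA0c.is_comm.comm _ _)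
  have hcard := hrank (ψ.range.subgroupOf _) ⟨⟨by
      rintro x y
      obtain ⟨p, hp⟩ := Subgroup.mem_subgroupOf.1 x.2
      obtain ⟨q, hq⟩ := Subgroup.mem_subgroupOf.1 y.2
      refine Subtype.ext (Subtype.ext ?_)
      simp only [Subgroup.coe_mul]
      rw [← hp, ← hq, ← map_mul, ← map_mul, hψcomm]⟩⟩ (by
      intro z hz
      obtain ⟨⟨x, k⟩, hxk⟩ := Subgroup.mem_subgroupOf.1 hz
      refine Subtype.ext ?_
      rw [Subgroup.coe_pow, ← hxk, ← map_pow, Prod.pow_mk, show x ^ 2 = 1 from Subtype.ext (hBel.2 x x.2.1),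
        show k ^ 2 = 1 from Subtype.ext (hA02 k k.2)]
      exact map_one ψ)
  rw [Nat.card_congr (Subgroup.subgroupOfEquivOfLe hle).toEquiv,
    ← Nat.card_congr (MonoidHom.ofInjective hψi).toEquiv, Nat.card_prod] at hcard
  have hpos : 0 < 2 ^ r := by positivity
  rw [hr] at hidx
  rw [pow_one] at hA0card
  nlinarith

end Cfsg.Agent.S1305
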