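import Cfsg.Statements.S1306
import Cfsg.Agent.Lib.Cores.Layer
import Cfsg.Agent.Lib.Solvable.Basic
-- import your own Cfsg.Agent.* helpers here

set_option autoImplicit false
open Cfsg

namespace Cfsg.Agent.S1306

/-- Let G be finite, x an involution and L ≤ C_G(x) a component of C_G(x). Suppose L is a component of C_G(y) for every involution y ∈ C_G(L), and ⁅L, g L g⁻¹⁆ ≠ 1 whenever g L g⁻¹ ≠ L. Then L is a standard subgroup of G. -/
theorem result {G : Type*} [Group G] [Finite G] (x : G) (hx : orderOf x = 2) (L : Subgroup G) (hLx : L ≤ Subgroup.centralizer ({x} : Set G)) (hL : Cfsg.IsComponent (L.subgroupOf (Subgroup.centralizer ({x} : Set G)))) (hne : ∀ y : G, orderOf y = 2 → y ∈ Subgroup.centralizer (L : Set G) → L ≤ Subgroup.centralizer ({y} : Set G) ∧ Cfsg.IsComponent (L.subgroupOf (Subgroup.centralizer ({y} : Set G)))) (hnc : ∀ g : G, L.map (MulAut.conj g).toMonoidHom ≠ L → ⁅L, L.map (MulAut.conj g).toMonoidHom⁆ ≠ ⊥) : Cfsg.IsStandardSubgroup L := by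
  set C := Subgroup.centralizer (L : Set G)
  have htr : ∀ (g y : G), orderOf y = 2 → y ∈ C →
      L.map (MulAut.conj g).toMonoidHom ≤ Subgroup.centralizer ({g * y * g⁻¹} : Set G) ∧
      Cfsg.IsComponent ((L.map (MulAut.conj g).toMonoidHom).subgroupOf (Subgroup.centralizer ({g * y * g⁻¹} : Set G))) := by
    intro g y hy hyC
    obtain ⟨h1, h2⟩ := hne y hy hyC
    have hmap : (Subgroup.centralizer ({y} : Set G)).map (MulAut.conj g).toMonoidHom =
        Subgroup.centralizer ({g * y * g⁻¹} : Set G) := by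
      ext z
      rw [Subgroup.mem_map_equiv, Subgroup.mem_centralizer_singleton_iff, Subgroup.mem_centralizer_singleton_iff]
      show g⁻¹ * z * g * y = y * (g⁻¹ * z * g) ↔ _
      constructor <;> intro h
      · calc z * (g * y * g⁻¹) = g * (g⁻¹ * z * g * y) * g⁻¹ := by group
          _ = g * y * g⁻¹ * z := by rw [h]; group
      · calc g⁻¹ * z * g * y = g⁻¹ * (z * (g * y * g⁻¹)) * g := by group
          _ = y * (g⁻¹ * z * g) := by rw [h]; group
    refine ⟨hmap ▸ Subgroup.map_mono h1, ?_⟩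
    let e : ↥(Subgroup.centralizer ({y} : Set G)) ≃* ↥(Subgroup.centralizer ({g * y * g⁻¹} : Set G)) :=
      ((MulAut.conj g).subgroupMap _).trans (MulEquiv.subgroupCongr hmap)
    have h3 := CfsgLib.Cores.isComponent_map_equiv e h2
    convert h3 using 1
    ext ⟨z, hz⟩
    constructor
    · rintro ⟨w, hw, hwz⟩
      exact ⟨⟨w, h1 hw⟩, hw, Subtype.ext hwz⟩
    · rintro ⟨⟨w, hw'⟩, hw, hwz⟩
      exact ⟨w, hw, congrArg Subtype.val hwz⟩
  have hkey : ∀ (g y : G), orderOf y = 2 → y ∈ C → g * y * g⁻¹ ∈ C → g ∈ Subgroup.normalizer (L : Set G) := by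
    intro g y hy hyC hgy
    have hgo : orderOf (g * y * g⁻¹) = 2 := by
      rw [← hy]
      simpa using orderOf_injective (MulAut.conj g).toMonoidHom (MulAut.conj g).injective y
    obtain ⟨h1, h2⟩ := hne _ hgo hgy
    obtain ⟨h3, h4⟩ := htr g y hy hyC
    by_contra hg
    have hne' : L.map (MulAut.conj g).toMonoidHom ≠ L := fun he => hg
      (CfsgLib.Solvable.mem_normalizer_of_conj_mem fun w hw => he.le ⟨w, hw, rfl⟩)
    have h5 := CfsgLib.Cores.commutator_components_eq_bot h2 h4 fun he => hne' (by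
      rw [← Subgroup.map_subgroupOf_eq_of_le h3, ← he, Subgroup.map_subgroupOf_eq_of_le h1])
    apply hnc g hne'
    rw [← Subgroup.map_subgroupOf_eq_of_le h3]
    nth_rw 1 [← Subgroup.map_subgroupOf_eq_of_le h1]
    rw [← Subgroup.map_commutator, h5, Subgroup.map_bot]
  have hxC : x ∈ C := Subgroup.mem_centralizer_iff.2 fun l hl =>
    Subgroup.mem_centralizer_singleton_iff.1 (hLx hl)
  refine ⟨(CfsgLib.Cores.isQuasisimple_subgroupOf_iff hLx).1 hL.2, ⟨?_, ?_⟩, hnc, le_antisymm
    (CfsgLib.Solvable.normalizer_le_normalizer_centralizer L) fun g hg => hkey g x hx hxC ?_⟩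
  · rw [even_iff_two_dvd, ← hx]
    exact Subgroup.orderOf_dvd_natCard C hxC
  · intro g hg
    rw [← Nat.not_even_iff_odd, even_iff_two_dvd]
    intro hdvd
    obtain ⟨⟨z, hzC, w, hwC, hwz⟩, hzo⟩ := exists_prime_orderOf_dvd_card' 2 hdvd
    rw [← Subgroup.orderOf_coe] at hzo
    replace hzo : orderOf z = 2 := hzo
    replace hwz : g * w * g⁻¹ = z := hwz
    refine hg (CfsgLib.Solvable.normalizer_le_normalizer_centralizer L (hkey g w ?_ hwC (hwz ▸ hzC)))
    rw [← hzo, ← hwz]
    simpa using (orderOf_injective (MulAut.conj g).toMonoidHom (MulAut.conj g).injective w).symm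
  · exact (Subgroup.mem_normalizer_iff.1 hg x).1 hxC

end Cfsg.Agent.S1306
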