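import Cfsg.Statements.S1307
import Cfsg.Agent.S0016
import Cfsg.Agent.Lib.Invol.ZStarFinal
import Cfsg.Agent.Lib.Invol.Isolated
import Cfsg.Agent.Lib.Cores.BalanceComp
import Cfsg.Agent.Lib.PGroup.ElemAbelian
-- import your own Cfsg.Agent.* helpers here

set_option autoImplicit false
open Cfsg

namespace Cfsg.Agent.S1307

/-- Let G be finite, x an involution and L ≤ C_G(x) a component of C_G(x) of even order and 2-rank 1, such that L is a component of C_G(y) for every involution y ∈ C_G(L). Then some involution of L is a classical involution of G. -/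
theorem result {G : Type*} [Group G] [Finite G] (x : G) (hx : orderOf x = 2) (L : Subgroup G) (hLx : L ≤ Subgroup.centralizer ({x} : Set G)) (hL : Cfsg.IsComponent (L.subgroupOf (Subgroup.centralizer ({x} : Set G)))) (heven : Even (Nat.card ↥L)) (hrk : Cfsg.PRankLE 2 1 ↥L) (hne : ∀ y : G, orderOf y = 2 → y ∈ Subgroup.centralizer (L : Set G) → L ≤ Subgroup.centralizer ({y} : Set G) ∧ Cfsg.IsComponent (L.subgroupOf (Subgroup.centralizer ({y} : Set G)))) : ∃ t ∈ L, Cfsg.IsClassicalInvolution t := by
  set C := Subgroup.centralizer ({x} : Set G)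
  have hq : Cfsg.IsQuasisimple L :=
    CfsgLib.Cores.isQuasisimple_of_equiv (Subgroup.subgroupOfEquivOfLe hLx) hL.2
  have h2 : 2 ∣ Nat.card L := even_iff_two_dvd.1 heven
  obtain ⟨S⟩ : Nonempty (Sylow 2 L) := inferInstance
  have hSne : (S : Subgroup L) ≠ ⊥ := S.ne_bot_of_dvd_card h2
  -- a unique involution in the Sylow subgroup
  obtain ⟨⟨z, hzS⟩, hz⟩ := exists_prime_orderOf_dvd_card' (G := (S : Subgroup L)) 2
    (Nat.dvd_trans (dvd_refl 2) (S.dvd_card_of_dvd_card h2))
  rw [Subgroup.orderOf_mk] at hz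
  have hu : ∀ (P : Sylow 2 L) (u v : L), u ∈ (P : Subgroup L) → v ∈ (P : Subgroup L) →
      orderOf u = 2 → orderOf v = 2 → u * v = v * u → u = v := by
    intro P u v hu hv hou hov hc
    by_contra hne
    have hU := CfsgLib.PGroup.elemAb_sup (CfsgLib.PGroup.elemAb_zpowers (hou ▸ pow_orderOf_eq_one u))
      (CfsgLib.PGroup.elemAb_zpowers (hov ▸ pow_orderOf_eq_one v)) (by
        rintro _ ⟨i, rfl⟩ _ ⟨j, rfl⟩
        exact ((show Commute u v from hc).zpow_zpow i j).eq)
    have hle := CfsgLib.PGroup.pRankLE_iff.1 hrk _ hU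
    have heq : Subgroup.zpowers u ⊔ Subgroup.zpowers v = Subgroup.zpowers u :=
      (Subgroup.eq_of_le_of_card_ge le_sup_left (by rw [Nat.card_zpowers, hou]; simpa using hle)).symm
    have hvu : v ∈ Subgroup.zpowers u := heq.le (Subgroup.mem_sup_right (Subgroup.mem_zpowers v))
    obtain ⟨i, hi⟩ := hvu
    simp only at hi
    rcases Int.even_or_odd i with ⟨l, rfl⟩ | ⟨l, rfl⟩
    · rw [← two_mul, zpow_mul, show u ^ (2 : ℤ) = 1 from (zpow_natCast u 2).trans (hou ▸ pow_orderOf_eq_one u),
        one_zpow] at hi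
      rw [← hi, orderOf_one] at hov
      norm_num at hov
    · rw [zpow_add, zpow_mul, show u ^ (2 : ℤ) = 1 from (zpow_natCast u 2).trans (hou ▸ pow_orderOf_eq_one u),
        one_zpow, one_mul, zpow_one] at hi
      exact hne hi
  -- `z` is central in the Sylow subgroup
  haveI := (S.2 : IsPGroup 2 (S : Subgroup L)).isNilpotent
  haveI : Nontrivial (S : Subgroup L) := (Subgroup.nontrivial_iff_ne_bot _).2 hSne
  have hcS : ∀ s ∈ (S : Subgroup L), orderOf s = 2 → s = z := by
    intro s hs hso
    obtain ⟨⟨c, hc⟩, hco⟩ := exists_prime_orderOf_dvd_card' (G := Subgroup.center (S : Subgroup L)) 2 (by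
      haveI := (S.2 : IsPGroup 2 (S : Subgroup L)).center_nontrivial
      obtain ⟨k, hk⟩ := IsPGroup.iff_card.1 ((S.2 : IsPGroup 2 (S : Subgroup L)).to_subgroup (Subgroup.center (S : Subgroup L)))
      rw [hk]
      refine dvd_pow_self 2 fun h0 => ?_
      rw [h0, pow_zero] at hk
      exact (Finite.one_lt_card (α := Subgroup.center (S : Subgroup L))).ne' hk)
    rw [Subgroup.orderOf_mk] at hco
    have h1 := hu S s (c : L) hs c.2 hso (by rw [Subgroup.orderOf_coe, hco])
      (congrArg Subtype.val (Subgroup.mem_center_iff.1 hc ⟨s, hs⟩))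
    have h2' := hu S z (c : L) hzS c.2 hz (by rw [Subgroup.orderOf_coe, hco])
      (congrArg Subtype.val (Subgroup.mem_center_iff.1 hc ⟨z, hzS⟩))
    exact h1.trans h2'.symm
  have hiso := CfsgLib.Invol.isolated_of_sylow S hz hzS fun g hg => hcS _ hg (by
    rw [← hz]; exact (orderOf_injective (MulAut.conj g).toMonoidHom (MulAut.conj g).injective z))
  have hOc : Cfsg.oddCore L ≤ Subgroup.center L := by
    refine (CfsgLib.Cores.normal_eq_top_or_le_center_of_isQuasisimple hq _).resolve_left fun h => ?_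
    have := CfsgLib.Cores.odd_card_oddCore (G := L)
    rw [h, Subgroup.card_top] at this
    exact (Nat.not_even_iff_odd.2 this) heven
  have hzc : z ∈ Subgroup.center L := by
    have hperf : ⁅(⊤ : Subgroup L), ⊤⁆ = ⊤ := hq.1.commutator_eq_top
    have := CfsgLib.Cores.mem_centralizer_of_commutator_central (L := (⊤ : Subgroup L)) hperf (h := z)
      (fun l _ v _ => (Subgroup.mem_center_iff.1 (hOc (CfsgLib.Invol.zstar hiso l)) v).symm)
      (fun l _ => Subgroup.mem_top _)
    exact Subgroup.mem_center_iff.2 fun g => Subgroup.mem_centralizer_iff.1 this g (Subgroup.mem_top g)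
  -- the Sylow subgroup is not cyclic
  have hnc : ¬ IsCyclic (S : Subgroup L) := by
    intro hcyc
    have hmin : (Nat.card L).minFac = 2 := (Nat.minFac_eq_two_iff _).2 h2
    have hcomp := IsCyclic.isComplement' hmin hcyc
    set f := MonoidHom.transferSylow S (hcyc.normalizer_le_centralizer hmin)
    have hker : f.ker = ⊤ := by
      rw [eq_top_iff, ← hq.1.commutator_eq_top, commutator_def, Subgroup.commutator_le]
      intro a _ b _
      rw [MonoidHom.mem_ker, map_commutatorElement, commutatorElement_eq_one_iff_mul_comm]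
      letI : CommGroup (S : Subgroup L) := IsCyclic.commGroup
      exact mul_comm _ _
    have hd := hcomp.disjoint
    rw [hker] at hd
    exact hSne (disjoint_top.1 hd.symm)
  obtain ⟨n, hn⟩ : ∃ n : ℕ, Nonempty (↥(S : Subgroup L) ≃* QuaternionGroup (2 ^ (n + 1))) := by
    have huq : ∀ H K : Subgroup (S : Subgroup L), Nat.card H = 2 → Nat.card K = 2 → H = K := by
      intro H K hH hK
      have key : ∀ H : Subgroup (S : Subgroup L), Nat.card H = 2 → H = Subgroup.zpowers (⟨z, hzS⟩ : (S : Subgroup L)) := by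
        intro H hH
        obtain ⟨⟨h, hhH⟩, hho⟩ := exists_prime_orderOf_dvd_card' (G := H) 2 (by rw [hH])
        rw [Subgroup.orderOf_mk] at hho
        have heq : h = ⟨z, hzS⟩ := Subtype.ext (hcS _ h.2 (by rw [Subgroup.orderOf_coe, hho]))
        refine (Subgroup.eq_of_le_of_card_ge (Subgroup.zpowers_le.2 (heq ▸ hhH)) ?_).symm
        rw [hH, Nat.card_zpowers, Subgroup.orderOf_mk, hz]
      rw [key H hH, key K hK]
    rcases Cfsg.Agent.S0016.result 2 S.2 huq with h | ⟨-, n, ⟨e⟩⟩
    · exact absurd h hnc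
    · cases n with
      | zero =>
        haveI : IsCyclic (QuaternionGroup 1) := QuaternionGroup.quaternionGroup_one_isCyclic
        exact absurd (isCyclic_of_surjective (e.trans (MulEquiv.refl (QuaternionGroup 1))).symm.toMonoidHom
          (e.trans (MulEquiv.refl (QuaternionGroup 1))).symm.surjective) hnc
      | succ n => exact ⟨n, ⟨e⟩⟩
  have hzC : (z : G) ∈ Subgroup.centralizer (L : Set G) := Subgroup.mem_centralizer_iff.2 fun l hl =>
    congrArg Subtype.val (Subgroup.mem_center_iff.1 hzc ⟨l, hl⟩)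
  have hzo : orderOf (z : G) = 2 := by rw [Subgroup.orderOf_coe, hz]
  obtain ⟨hLz, hLc⟩ := hne (z : G) hzo hzC
  exact ⟨z, z.2, hzo, L, hLz, z.2, hLc.1, S, n, hn⟩

end Cfsg.Agent.S1307
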