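import Cfsg.Statements.S1313
import Cfsg.Agent.Lib.Cores.Layer
-- import your own Cfsg.Agent.* helpers here

set_option autoImplicit false
open Cfsg

namespace Cfsg.Agent.S1313

/-- For a finite group H, |H| ≤ |F*(H)|!. -/
theorem result {H : Type*} [Group H] [Finite H] : Nat.card H ≤ Nat.factorial (Nat.card ↥(Cfsg.generalizedFittingSubgroup H)) := by
  set F := Cfsg.generalizedFittingSubgroup H
  have hFn : F.Normal := CfsgLib.Cores.generalizedFittingSubgroup_normal
  let φ : H →* MulAut ↥F := MulAut.conjNormal
  have hker : φ.ker ≤ F := by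
    refine le_trans ?_ CfsgLib.Cores.centralizer_generalizedFittingSubgroup_le
    intro h hh
    rw [Subgroup.mem_centralizer_iff]
    intro x hx
    have := congrArg (fun e : MulAut ↥F => ((e ⟨x, hx⟩ : ↥F) : H)) (MonoidHom.mem_ker.1 hh)
    simp only [φ, MulAut.conjNormal_apply, MulAut.one_apply] at this
    exact (mul_inv_eq_iff_eq_mul.1 this).symm
  have hinj : Function.Injective (fun e : MulAut ↥F => (e.toEquiv.subtypeEquiv (fun x => (map_ne_one_iff e e.injective).symm) : Equiv.Perm {x : ↥F // x ≠ 1})) := by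
    intro e e' h
    ext x
    by_cases hx : x = 1
    · subst hx; simp
    · have := congrArg (fun q : Equiv.Perm {x : ↥F // x ≠ 1} => ((q ⟨x, hx⟩ : {x : ↥F // x ≠ 1}) : ↥F)) h
      exact congrArg Subtype.val this
  have haut : Nat.card (MulAut ↥F) ≤ (Nat.card ↥F - 1).factorial := by
    refine (Nat.card_le_card_of_injective _ hinj).trans (le_of_eq ?_)
    have h1 : Nat.card {x : ↥F // x ≠ 1} = Nat.card ↥F - 1 := by
      classical
      have := Fintype.ofFinite ↥F
      rw [Nat.card_eq_fintype_card, Nat.card_eq_fintype_card]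
      simp [Fintype.card_subtype_compl]
    rw [Nat.card_perm, h1]
  have hpos : 0 < Nat.card ↥F := Nat.card_pos
  calc Nat.card H = Nat.card ↥φ.ker * Nat.card (H ⧸ φ.ker) := by rw [← φ.ker.card_mul_index, Subgroup.index_eq_card]
    _ ≤ Nat.card ↥F * (Nat.card ↥F - 1).factorial := by
        refine Nat.mul_le_mul (Subgroup.card_le_of_le hker) (le_trans ?_ haut)
        exact Nat.card_le_card_of_injective _ (QuotientGroup.kerLift_injective φ)
    _ = (Nat.card ↥F).factorial := Nat.mul_factorial_pred hpos.ne'

end Cfsg.Agent.S1313
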