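import Cfsg.Statements.S1314
import Cfsg.Agent.Lib.Cores.Components
-- import your own Cfsg.Agent.* helpers here

set_option autoImplicit false
open Cfsg
open scoped commutatorElement

namespace Cfsg.Agent.S1314

/-- Let x be an involution of a group G and L a perfect subgroup with ⁅L, x L x⁻¹⁆ = 1. Then l ↦ l (x l x⁻¹) is a group homomorphism π from L to G whose kernel is central in L and whose image lies in C_G(x); and the commutator subgroup of C_{L ⊔ xLx⁻¹}(x) equals the image of π. -/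
theorem result {G : Type*} [Group G] [Finite G] (x : G) (hx : orderOf x = 2) (L : Subgroup G) (hperf : ⁅L, L⁆ = L) (hcomm : ⁅L, L.map (MulAut.conj x).toMonoidHom⁆ = ⊥) : ∃ π : ↥L →* G, (∀ l : ↥L, π l = (l : G) * (x * (l : G) * x⁻¹)) ∧ π.ker ≤ Subgroup.center ↥L ∧ π.range ≤ Subgroup.centralizer ({x} : Set G) ∧ ⁅(L ⊔ L.map (MulAut.conj x).toMonoidHom) ⊓ Subgroup.centralizer ({x} : Set G), (L ⊔ L.map (MulAut.conj x).toMonoidHom) ⊓ Subgroup.centralizer ({x} : Set G)⁆ = π.range := by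
  have hx2 : x * x = 1 := by rw [← pow_two, ← hx, pow_orderOf_eq_one]
  have hxi : x⁻¹ = x := inv_eq_of_mul_eq_one_right hx2
  set L' := L.map (MulAut.conj x).toMonoidHom with hL'
  have hc : ∀ a ∈ L, ∀ b ∈ L', a * b = b * a := fun a ha b hb =>
    (Subgroup.mem_centralizer_iff.1 (Subgroup.commutator_eq_bot_iff_le_centralizer.1 hcomm ha) b hb).symm
  have hmem : ∀ a ∈ L, x * a * x⁻¹ ∈ L' := fun a ha => ⟨a, ha, rfl⟩
  have hmem' : ∀ b ∈ L', x * b * x⁻¹ ∈ L := by
    rintro _ ⟨a, ha, rfl⟩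
    show x * (x * a * x⁻¹) * x⁻¹ ∈ L
    rw [hxi, show x * (x * a * x) * x = x * x * a * (x * x) by group, hx2, one_mul, mul_one]
    exact ha
  let π : ↥L →* G := MonoidHom.mk' (fun l => (l : G) * (x * (l : G) * x⁻¹)) (fun a b => by
    show (a : G) * b * (x * (a * b) * x⁻¹) = a * (x * a * x⁻¹) * (b * (x * b * x⁻¹))
    rw [show (a : G) * b * (x * (a * b) * x⁻¹) = a * (b * (x * a * x⁻¹)) * (x * b * x⁻¹) by group,
      hc b b.2 _ (hmem a a.2)]
    group)
  refine ⟨π, fun l => rfl, ?_, ?_, ?_⟩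
  · intro l hl
    have h1 : (l : G) * (x * l * x⁻¹) = 1 := hl
    rw [Subgroup.mem_center_iff]
    intro g
    have h2 : (l : G) = (x * l * x⁻¹)⁻¹ := eq_inv_of_mul_eq_one_left h1
    refine Subtype.ext ?_
    show (g : G) * l = l * g
    rw [h2]
    exact hc g g.2 _ (inv_mem (hmem l l.2))
  · rintro _ ⟨l, rfl⟩
    rw [Subgroup.mem_centralizer_singleton_iff]
    have h1 : π l = (x * (l : G) * x⁻¹) * l := hc l l.2 _ (hmem l l.2)
    have h2 : x * (x * (l : G) * x⁻¹) * x⁻¹ = l := by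
      rw [hxi, show x * (x * (l : G) * x) * x = x * x * l * (x * x) by group, hx2, one_mul, mul_one]
    have h4 : x * π l * x⁻¹ = π l := by
      calc x * π l * x⁻¹ = x * ((l : G) * (x * l * x⁻¹)) * x⁻¹ := rfl
        _ = (x * l * x⁻¹) * (x * (x * l * x⁻¹) * x⁻¹) := by group
        _ = π l := by rw [h2, h1]
    exact (mul_inv_eq_iff_eq_mul.1 h4).symm
  · set C := (L ⊔ L') ⊓ Subgroup.centralizer ({x} : Set G)
    have hperfπ : ⁅π.range, π.range⁆ = π.range := by
      have hp : Group.IsPerfect ↥L := Subgroup.isPerfect_iff.2 hperf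
      rw [MonoidHom.range_eq_map, ← Subgroup.map_commutator, ← commutator_def, hp.commutator_eq_top]
    have hL'n : L' ≤ Subgroup.centralizer (L : Set G) := fun b hb =>
      Subgroup.mem_centralizer_iff.2 fun a ha => hc a ha b hb
    have hrC : π.range ≤ C := by
      rintro _ ⟨l, rfl⟩
      refine ⟨mul_mem (Subgroup.mem_sup_left l.2) (Subgroup.mem_sup_right (hmem l l.2)), ?_⟩
      show π l ∈ Subgroup.centralizer ({x} : Set G)
      rw [Subgroup.mem_centralizer_singleton_iff]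
      have h1 : π l = (x * (l : G) * x⁻¹) * l := hc l l.2 _ (hmem l l.2)
      have h2 : x * (x * (l : G) * x⁻¹) * x⁻¹ = l := by
        rw [hxi, show x * (x * (l : G) * x) * x = x * x * l * (x * x) by group, hx2, one_mul, mul_one]
      have h4 : x * π l * x⁻¹ = π l := by
        calc x * π l * x⁻¹ = x * ((l : G) * (x * l * x⁻¹)) * x⁻¹ := rfl
          _ = (x * l * x⁻¹) * (x * (x * l * x⁻¹) * x⁻¹) := by group
          _ = π l := by rw [h2, h1]
      exact (mul_inv_eq_iff_eq_mul.1 h4).symm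
    refine le_antisymm ?_ (hperfπ.ge.trans (Subgroup.commutator_mono hrC hrC))
    have hdec : ∀ u ∈ C, ∃ z d : G, d ∈ π.range ∧ u = z * d ∧ ∀ w ∈ L ⊔ L', w * z = z * w := by
      rintro u ⟨hu, hux⟩
      replace hu : u ∈ ((L ⊔ L' : Subgroup G) : Set G) := hu
      rw [Subgroup.coe_mul_of_right_le_normalizer_left L L' (hL'n.trans (Subgroup.centralizer_le_normalizer _))] at hu
      obtain ⟨a, ha, b, hb, rfl⟩ := Set.mem_mul.1 hu
      replace hux : a * b ∈ Subgroup.centralizer ({x} : Set G) := hux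
      rw [Subgroup.mem_centralizer_singleton_iff] at hux
      have hfix : x * (a * b) * x⁻¹ = a * b := mul_inv_eq_iff_eq_mul.2 hux.symm
      have hsplit : (x * a * x⁻¹) * (x * b * x⁻¹) = a * b := by rw [← hfix]; group
      rw [← hc _ (hmem' b hb) _ (hmem a ha)] at hsplit
      refine ⟨b * (x * a * x⁻¹)⁻¹, π ⟨a, ha⟩, ⟨_, rfl⟩, ?_, ?_⟩
      · show a * b = b * (x * a * x⁻¹)⁻¹ * (a * (x * a * x⁻¹))
        rw [hc a ha _ (hmem a ha), show b * (x * a * x⁻¹)⁻¹ * ((x * a * x⁻¹) * a) = b * a by group]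
        exact hc a ha b hb
      · have hz : b * (x * a * x⁻¹)⁻¹ = a⁻¹ * (x * b * x⁻¹) := by
          rw [mul_inv_eq_iff_eq_mul, mul_assoc, hsplit, inv_mul_cancel_left]
        have hzL' : b * (x * a * x⁻¹)⁻¹ ∈ L' := mul_mem hb (inv_mem (hmem a ha))
        have hzL : b * (x * a * x⁻¹)⁻¹ ∈ L := hz ▸ mul_mem (inv_mem ha) (hmem' b hb)
        have hle : L ⊔ L' ≤ Subgroup.centralizer {b * (x * a * x⁻¹)⁻¹} := by
          refine sup_le ?_ ?_ <;> intro w hw <;> rw [Subgroup.mem_centralizer_singleton_iff]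
          · exact hc w hw _ hzL'
          · exact (hc _ hzL w hw).symm
        exact fun w hw => Subgroup.mem_centralizer_singleton_iff.1 (hle hw)
    have hsplit2 : ∀ z w : G, (∀ y ∈ L ⊔ L', y * z = z * y) → (∀ y ∈ L ⊔ L', y * w = w * y) → z ∈ L ⊔ L' →
        ∀ d e : G, d ∈ L ⊔ L' → e ∈ L ⊔ L' → ⁅z * d, w * e⁆ = ⁅d, e⁆ := by
      intro z w hz hw hzM d e hd he
      rw [commutatorElement_def, commutatorElement_def, mul_inv_rev, mul_inv_rev]
      calc z * d * (w * e) * (d⁻¹ * z⁻¹) * (e⁻¹ * w⁻¹)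
          = z * (d * w) * (e * d⁻¹ * z⁻¹) * (e⁻¹ * w⁻¹) := by group
        _ = z * (w * d) * (e * d⁻¹ * z⁻¹) * (e⁻¹ * w⁻¹) := by rw [hw d hd]
        _ = (z * w) * (d * e * d⁻¹) * z⁻¹ * (e⁻¹ * w⁻¹) := by group
        _ = (w * z) * (d * e * d⁻¹) * z⁻¹ * (e⁻¹ * w⁻¹) := by rw [hw z hzM]
        _ = w * (z * (d * e * d⁻¹)) * z⁻¹ * (e⁻¹ * w⁻¹) := by group
        _ = w * ((d * e * d⁻¹) * z) * z⁻¹ * (e⁻¹ * w⁻¹) := by rw [hz _ (mul_mem (mul_mem hd he) (inv_mem hd))]
        _ = w * (d * e * d⁻¹ * e⁻¹) * w⁻¹ := by group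
        _ = d * e * d⁻¹ * e⁻¹ := by
            rw [← hw _ (mul_mem (mul_mem (mul_mem hd he) (inv_mem hd)) (inv_mem he)), mul_inv_cancel_right]
    rw [Subgroup.commutator_le]
    intro u hu v hv
    obtain ⟨z, d, hd, rfl, hz⟩ := hdec u hu
    obtain ⟨w, e, he, rfl, hw⟩ := hdec v hv
    have hdM := (hrC hd).1
    have heM := (hrC he).1
    have hzM : z ∈ L ⊔ L' := (Subgroup.mul_mem_cancel_right _ hdM).1 hu.1
    rw [hsplit2 z w hz hw hzM d e hdM heM]
    exact hperfπ.le (Subgroup.commutator_mem_commutator hd he)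

end Cfsg.Agent.S1314
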