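import Cfsg.Statements.S1316
import Cfsg.Agent.Lib.Cores.Layer
-- import your own Cfsg.Agent.* helpers here

set_option autoImplicit false
open Cfsg

namespace Cfsg.Agent.S1316

/-- For a finite group X, E(X) equals the intersection of the derived series of F*(X) (its last term). -/
theorem result {X : Type*} [Group X] [Finite X] : (⨅ n : ℕ, (derivedSeries ↥(Cfsg.generalizedFittingSubgroup X) n).map (Cfsg.generalizedFittingSubgroup X).subtype) = Cfsg.layer X := by
  have hE : ∀ n, Cfsg.layer X ≤ (derivedSeries ↥(Cfsg.generalizedFittingSubgroup X) n).map (Cfsg.generalizedFittingSubgroup X).subtype := by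
    intro n
    induction n with
    | zero =>
      rw [derivedSeries_zero, ← MonoidHom.range_eq_map, Subgroup.range_subtype]
      exact le_sup_left
    | succ n ih =>
      rw [derivedSeries_succ, Subgroup.map_commutator]
      exact CfsgLib.Cores.commutator_layer_self.ge.trans (Subgroup.commutator_mono ih ih)
  refine le_antisymm ?_ (le_iInf hE)
  have hEn := CfsgLib.Cores.layer_normal (G := X)
  set π := QuotientGroup.mk' (Cfsg.layer X)
  have hsol : Group.IsSolvable ↥((Cfsg.fittingSubgroup X).map π) :=
    have := CfsgLib.Cores.isSolvable_fittingSubgroup (G := X)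
    Group.isSolvable_of_surjective (π.subgroupMap_surjective _)
  obtain ⟨n, hn⟩ := (Group.isSolvable_def _).1 hsol
  refine (iInf_le _ n).trans ?_
  have h1 : (Cfsg.generalizedFittingSubgroup X).map π = (Cfsg.fittingSubgroup X).map π := by
    rw [Cfsg.generalizedFittingSubgroup, Subgroup.map_sup, QuotientGroup.map_mk'_self, bot_sup_eq]
  let f : ↥(Cfsg.generalizedFittingSubgroup X) →* ↥((Cfsg.fittingSubgroup X).map π) :=
    (π.comp (Cfsg.generalizedFittingSubgroup X).subtype).codRestrict _
      (fun x => h1 ▸ Subgroup.mem_map_of_mem π x.2)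
  rintro _ ⟨y, hy, rfl⟩
  have h2 := map_derivedSeries_le_derivedSeries f n (Subgroup.mem_map_of_mem f hy)
  rw [hn, Subgroup.mem_bot] at h2
  exact (QuotientGroup.eq_one_iff _).1 (congrArg Subtype.val h2)

end Cfsg.Agent.S1316
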