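import Cfsg.Statements.S1319
import Cfsg.Agent.Lib.Cores.Layer
-- import your own Cfsg.Agent.* helpers here

set_option autoImplicit false
open Cfsg

namespace Cfsg.Agent.S1319

/-- Let A be a subnormal subgroup of the finite group X with E(A) = A. Then A ≤ E(X) and A is normal in E(X). -/
theorem result {X : Type*} [Group X] [Finite X] (A : Subgroup X) (hsn : A.IsSubnormal) (hA : Cfsg.layer ↥A = ⊤) : A ≤ Cfsg.layer X ∧ (A.subgroupOf (Cfsg.layer X)).Normal := by
  have h1 : A ≤ Cfsg.layer X := by
    have h := CfsgLib.Cores.map_subtype_layer_le hsn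
    rwa [hA, ← MonoidHom.range_eq_map, Subgroup.range_subtype] at h
  refine ⟨h1, (Subgroup.normal_subgroupOf_iff_le_normalizer h1).2 ?_⟩
  have hAsup : A = sSup {L : Subgroup X | Cfsg.IsComponent L ∧ L ≤ A} := by
    rw [← CfsgLib.Cores.map_subtype_layer_eq_sSup hsn, hA, ← MonoidHom.range_eq_map, Subgroup.range_subtype]
  rw [CfsgLib.Cores.layer_le_iff]
  intro K hK
  rcases CfsgLib.Cores.component_le_or_commutator_eq_bot hK hsn with h | h
  · exact h.trans Subgroup.le_normalizer
  · exact (Subgroup.commutator_eq_bot_iff_le_centralizer.1 h).trans (Subgroup.centralizer_le_normalizer _)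

end Cfsg.Agent.S1319
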