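import Cfsg.Statements.S1321
import Cfsg.Agent.Lib.Cores.Layer
import Cfsg.Agent.Lib.Solvable.CoprimeAction
-- import your own Cfsg.Agent.* helpers here

set_option autoImplicit false
open Cfsg
open scoped commutatorElement

namespace Cfsg.Agent.S1321

/-- Let X be finite and U ≤ X. Then E(X) is generated by C_{E(X)}(U) together with ⁅E(X), U⁆ (indeed it is their product, ⁅E(X), U⁆ being normal in E(X)). -/
theorem result {X : Type*} [Group X] [Finite X] (U : Subgroup X) : Cfsg.layer X = (Cfsg.layer X ⊓ Subgroup.centralizer (U : Set X)) ⊔ ⁅Cfsg.layer X, U⁆ ∧ ⁅Cfsg.layer X, U⁆ ≤ Cfsg.layer X := by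
  set E := Cfsg.layer X
  have hEn : E.Normal := CfsgLib.Cores.layer_normal
  have hle : ⁅E, U⁆ ≤ E := Subgroup.commutator_le_left E U
  refine ⟨le_antisymm (CfsgLib.Cores.layer_le_iff.2 fun L hL => ?_) (sup_le inf_le_left hle), hle⟩
  have hLE : L ≤ E := CfsgLib.Cores.component_le_layer hL
  by_cases hLU : L ≤ Subgroup.centralizer (U : Set X)
  · exact (le_inf hLE hLU).trans le_sup_left
  refine le_trans ?_ le_sup_right
  have hLn : L ≤ Subgroup.normalizer ((⁅E, U⁆ : Subgroup X) : Set X) :=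
    hLE.trans (CfsgLib.Solvable.le_normalizer_commutator_left E U)
  haveI : ((⁅E, U⁆).subgroupOf L).Normal :=
    Subgroup.normal_subgroupOf_of_le_normalizer hLn
  rcases CfsgLib.Cores.normal_eq_top_or_le_center_of_isQuasisimple hL.2 ((⁅E, U⁆).subgroupOf L) with h | h
  · exact Subgroup.subgroupOf_eq_top.1 h
  exfalso
  have hz : ∀ x ∈ L, x ∈ ⁅E, U⁆ → ∀ y ∈ L, x * y = y * x := fun x hx hxm y hy =>
    (congrArg Subtype.val (Subgroup.mem_center_iff.1 (h (show (⟨x, hx⟩ : L) ∈ _ from hxm)) ⟨y, hy⟩)).symm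
  by_cases hfix : ∀ u ∈ U, L.map (MulAut.conj u).toMonoidHom = L
  · apply hLU
    rw [← CfsgLib.Cores.component_commutator_self hL, Subgroup.commutator_le]
    intro x hx y hy
    rw [Subgroup.mem_centralizer_iff]
    intro u hu
    have hc : ∀ w ∈ L, ∃ z ∈ L, (∀ v ∈ L, z * v = v * z) ∧ u * w * u⁻¹ = z * w := by
      intro w hw
      have hw' : u * w * u⁻¹ ∈ L := (hfix u hu).le ⟨w, hw, rfl⟩
      have hm : u * w * u⁻¹ * w⁻¹ ∈ ⁅E, U⁆ := by
        rw [Subgroup.commutator_comm]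
        exact Subgroup.commutator_mem_commutator hu (hLE hw)
      exact ⟨u * w * u⁻¹ * w⁻¹, mul_mem hw' (inv_mem hw), hz _ (mul_mem hw' (inv_mem hw)) hm, by group⟩
    obtain ⟨a, ha, haz, hax⟩ := hc x hx
    obtain ⟨b, hb, hbz, hby⟩ := hc y hy
    have key : u * ⁅x, y⁆ * u⁻¹ = ⁅x, y⁆ := by
      have h1 : u * ⁅x, y⁆ * u⁻¹ = ⁅a * x, b * y⁆ := by
        rw [← hax, ← hby, commutatorElement_def, commutatorElement_def]; group
      rw [h1, commutatorElement_def, commutatorElement_def]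
      calc a * x * (b * y) * (a * x)⁻¹ * (b * y)⁻¹
          = a * (x * b) * (y * x⁻¹) * a⁻¹ * y⁻¹ * b⁻¹ := by group
        _ = a * (b * x) * (y * x⁻¹) * a⁻¹ * y⁻¹ * b⁻¹ := by rw [← hbz x hx]
        _ = a * (b * (x * y * x⁻¹)) * a⁻¹ * y⁻¹ * b⁻¹ := by group
        _ = b * (x * y * x⁻¹) * a * a⁻¹ * y⁻¹ * b⁻¹ := by
            rw [haz _ (mul_mem hb (mul_mem (mul_mem hx hy) (inv_mem hx)))]
        _ = b * (x * y * x⁻¹ * y⁻¹) * b⁻¹ := by group
        _ = x * y * x⁻¹ * y⁻¹ := by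
            rw [hbz _ (mul_mem (mul_mem (mul_mem hx hy) (inv_mem hx)) (inv_mem hy)), mul_inv_cancel_right]
    exact mul_inv_eq_iff_eq_mul.1 key
  · push Not at hfix
    obtain ⟨u, hu, hne⟩ := hfix
    have hL' : Cfsg.IsComponent (L.map (MulAut.conj u).toMonoidHom) :=
      CfsgLib.Cores.isComponent_map_equiv (MulAut.conj u) hL
    have hcom := CfsgLib.Cores.commutator_components_eq_bot hL hL' (Ne.symm hne)
    apply CfsgLib.Cores.not_isSolvable_of_isQuasisimple hL.2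
    have hsub : ⁅L, L⁆ ≤ ⁅E, U⁆ := by
      rw [Subgroup.commutator_le]
      intro k hk l hl
      have hd : l * u * l⁻¹ * u⁻¹ ∈ ⁅E, U⁆ := Subgroup.commutator_mem_commutator (hLE hl) hu
      have hm : u * l⁻¹ * u⁻¹ ∈ L.map (MulAut.conj u).toMonoidHom := ⟨l⁻¹, inv_mem hl, rfl⟩
      have hmk : k * (u * l⁻¹ * u⁻¹) = u * l⁻¹ * u⁻¹ * k :=
        (Subgroup.mem_centralizer_iff.1 (Subgroup.commutator_eq_bot_iff_le_centralizer.1 hcom hk) _ hm).symm
      have := mul_mem ((Subgroup.mem_normalizer_iff.1 (hLn hk) _).1 hd) (inv_mem hd)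
      generalize hm' : u * l⁻¹ * u⁻¹ = m at hmk
      rw [show k * (l * u * l⁻¹ * u⁻¹) * k⁻¹ * (l * u * l⁻¹ * u⁻¹)⁻¹
          = k * l * m * k⁻¹ * m⁻¹ * l⁻¹ by rw [← hm']; group] at this
      have e : k * l * m * k⁻¹ * m⁻¹ * l⁻¹ = ⁅k, l⁆ := by
        rw [commutatorElement_def, mul_assoc (k * l) m, ← (show Commute k m from hmk).inv_left.eq]
        group
      rwa [e] at this
    rw [CfsgLib.Cores.component_commutator_self hL] at hsub
    haveI : IsMulCommutative L := ⟨⟨fun x y => Subtype.ext (hz x x.2 (hsub x.2) y y.2)⟩⟩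
    exact Group.isSolvable_of_comm fun x y => IsMulCommutative.is_comm.comm x y

end Cfsg.Agent.S1321
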