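import Cfsg.Statements.S1322
import Cfsg.Agent.Lib.Cores.ComponentCentralizer

set_option autoImplicit false
open Cfsg

namespace Cfsg.Agent.S1322

/-- Let G be finite with L_{2'}(G) = E(G), t an involution and L ≤ C_G(t) a component of C_G(t). Then there is a component D of G with: L = D; or L < D and D = ⁅D, ⟨t⟩⁆; or tDt⁻¹ ≠ D and L is the layer of C_{D ⊔ tDt⁻¹}(t). -/
theorem result {G : Type*} [Group G] [Finite G] (hL2 : Cfsg.pLayer 2 G = Cfsg.layer G) (t : G) (ht : orderOf t = 2) (L : Subgroup G) (hLt : L ≤ Subgroup.centralizer ({t} : Set G)) (hL : Cfsg.IsComponent (L.subgroupOf (Subgroup.centralizer ({t} : Set G)))) : ∃ D : Subgroup G, Cfsg.IsComponent D ∧ (L = D ∨ (L < D ∧ D = ⁅D, Subgroup.zpowers t⁆) ∨ (D.map (MulAut.conj t).toMonoidHom ≠ D ∧ L = (Cfsg.layer ↥((D ⊔ D.map (MulAut.conj t).toMonoidHom) ⊓ Subgroup.centralizer ({t} : Set G))).map ((D ⊔ D.map (MulAut.conj t).toMonoidHom) ⊓ Subgroup.centralizer ({t} : Set G)).subtype)) := by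
  have ht1 : t * t = 1 := by rw [← pow_two, ← ht]; exact pow_orderOf_eq_one t
  have hLl : L ≤ Cfsg.layer G := by
    have h1 := CfsgLib.LBalance.layerBalanced G (Subgroup.zpowers t)
      (CfsgLib.Cores.isPGroup_zpowers_of_orderOf_eq ht)
    rw [CfsgLib.Cores.centralizer_zpowers'] at h1
    rw [← hL2]
    refine le_trans ?_ h1
    rw [← Subgroup.map_subgroupOf_eq_of_le hLt]
    exact Subgroup.map_mono (CfsgLib.CompCent.component_le_pLayer hL)
  obtain ⟨D, hD, hLD⟩ := CfsgLib.CompCent.exists_component_orbit ht1 hLt hL hLl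
  refine ⟨D, hD, ?_⟩
  by_cases hDt : D.map (MulAut.conj t).toMonoidHom = D
  · rw [hDt, sup_idem] at hLD
    rcases CfsgLib.CompCent.eq_commutator_or_centralizes hD hDt with h | h
    · rcases eq_or_lt_of_le hLD with e | e
      · exact Or.inl e
      · exact Or.inr (Or.inl ⟨e, h⟩)
    · refine Or.inl ?_
      have := CfsgLib.Cores.component_eq_of_le hL (CfsgLib.Cores.isComponent_subgroupOf hD h)
        (Subgroup.comap_mono hLD)
      rw [Subgroup.subgroupOf_inj, inf_eq_left.2 hLt, inf_eq_left.2 h] at this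
      exact this
  · obtain ⟨φ, -, -, he⟩ := CfsgLib.CompCent.pair_component ht1 hD hDt hLt hL hLD
    exact Or.inr (Or.inr ⟨hDt, he⟩)

end Cfsg.Agent.S1322
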