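import Cfsg.Statements.S1323
import Cfsg.Agent.Lib.Components.AltStandard
-- import your own Cfsg.Agent.* helpers here

set_option autoImplicit false
open Cfsg

namespace Cfsg.Agent.S1323

/-- For n ≥ 9, the subgroup of the alternating group on Fin n fixing each of the points 0, 1, 2, 3 is a standard subgroup. -/
theorem result (n : ℕ) (h4 : 4 ≤ n) (hn : 9 ≤ n) : Cfsg.IsStandardSubgroup (⨅ i : Fin 4, MulAction.stabilizer ↥(alternatingGroup (Fin n)) (Fin.castLE h4 i : Fin n)) := by
  set S : Finset (Fin n) := Finset.univ.image (fun i : Fin 4 => Fin.castLE h4 i) with hS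
  have h : (⨅ i : Fin 4, MulAction.stabilizer ↥(alternatingGroup (Fin n)) (Fin.castLE h4 i : Fin n)) =
      CfsgLib.Components.Alt.fixer S := by
    ext g
    simp only [Subgroup.mem_iInf, MulAction.mem_stabilizer_iff, CfsgLib.Components.Alt.mem_fixer, hS,
      Finset.forall_mem_image, Finset.mem_univ, true_implies]
    exact Iff.rfl
  rw [h]
  refine CfsgLib.Components.Alt.isStandardSubgroup_fixer ?_ (by simpa using hn)
  rw [hS, Finset.card_image_of_injective _ (Fin.castLE_injective h4)]
  rfl

end Cfsg.Agent.S1323
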