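import Cfsg.Statements.S1328
import Cfsg.Agent.Lib.Cores.BalanceAut
-- import your own Cfsg.Agent.* helpers here

set_option autoImplicit false
open Cfsg
open scoped commutatorElement

namespace Cfsg.Agent.S1328

/-- Let G be finite, H ≤ G with O(H) = 1, t an involution of G normalizing H, and Y a nontrivial subgroup of O(C_H(t)). Then some component E of H is normalized by t and by Y and centralized by neither t nor Y. -/
theorem result {G : Type*} [Group G] [Finite G] (H : Subgroup G) (hO : Cfsg.oddCore ↥H = ⊥) (t : G) (ht : orderOf t = 2) (htH : t ∈ Subgroup.normalizer (H : Set G)) (Y : Subgroup G) (hY1 : Y ≠ ⊥) (hY : Y ≤ (Cfsg.oddCore ↥(H ⊓ Subgroup.centralizer ({t} : Set G))).map (H ⊓ Subgroup.centralizer ({t} : Set G)).subtype) : ∃ E : Subgroup ↥H, Cfsg.IsComponent E ∧ (E.map H.subtype).map (MulAut.conj t).toMonoidHom = E.map H.subtype ∧ Y ≤ Subgroup.normalizer ((E.map H.subtype : Subgroup G) : Set G) ∧ ¬ (t ∈ Subgroup.centralizer ((E.map H.subtype : Subgroup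 G) : Set G)) ∧ ¬ (Y ≤ Subgroup.centralizer ((E.map H.subtype : Subgroup G) : Set G)) := by
  set X := H ⊔ Subgroup.zpowers t
  have hHX : H ≤ X := le_sup_left
  have htX : t ∈ X := Subgroup.mem_sup_right (Subgroup.mem_zpowers t)
  have htn : Subgroup.zpowers t ≤ Subgroup.normalizer (H : Set G) := Subgroup.zpowers_le.2 htH
  haveI hHn : (H.subgroupOf X).Normal :=
    (Subgroup.normal_subgroupOf_iff_le_normalizer hHX).2 (sup_le Subgroup.le_normalizer htn)
  set f := QuotientGroup.mk' (H.subgroupOf X)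
  have hgen : ∀ z : X, ∃ i : ℤ, f z = f ⟨t, htX⟩ ^ i := by
    rintro ⟨z, hz⟩
    obtain ⟨h, hh, u, ⟨i, rfl⟩, rfl⟩ := CfsgLib.Solvable.exists_mul_of_mem_sup htn hz
    refine ⟨i, ?_⟩
    rw [← map_zpow, show (⟨h * t ^ i, hz⟩ : X) = ⟨h, hHX hh⟩ * ⟨t, htX⟩ ^ i from Subtype.ext (by simp),
      map_mul, show f ⟨h, hHX hh⟩ = 1 from (QuotientGroup.eq_one_iff _).2 hh, one_mul]
  have hcomm : ∀ a b : X, f a * f b = f b * f a := fun a b => by
    obtain ⟨i, hi⟩ := hgen a
    obtain ⟨j, hj⟩ := hgen b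
    rw [hi, hj, ← zpow_add, ← zpow_add, add_comm]
  have ht2 : f ⟨t, htX⟩ ^ 2 = 1 := by
    rw [← map_pow, show (⟨t, htX⟩ : X) ^ 2 = 1 from Subtype.ext (by rw [SubmonoidClass.coe_pow, ← ht, pow_orderOf_eq_one]; rfl),
      map_one]
  have hOX : Cfsg.pPrimeCore 2 X = ⊥ := by
    have hle : Cfsg.pPrimeCore 2 X ≤ H.subgroupOf X := by
      intro z hz
      refine (QuotientGroup.eq_one_iff z).1 ?_
      show f z = 1
      obtain ⟨i, hi⟩ := hgen z
      rw [← orderOf_eq_one_iff]
      refine Nat.eq_one_of_dvd_coprimes (CfsgLib.Cores.coprime_card_pPrimeCore (G := X) 2).symm ?_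
        ((orderOf_map_dvd f z).trans (Subgroup.orderOf_dvd_natCard _ hz))
      refine orderOf_dvd_of_pow_eq_one ?_
      rw [hi, ← zpow_natCast, zpow_comm, zpow_natCast, ht2, one_zpow]
    have h1 : Cfsg.pPrimeCore 2 (H.subgroupOf X) = ⊥ := by
      apply Subgroup.map_injective (f := (Subgroup.subgroupOfEquivOfLe hHX).toMonoidHom) (Subgroup.subgroupOfEquivOfLe hHX).injective
      rw [CfsgLib.Cores.map_pPrimeCore_equiv, Subgroup.map_bot]
      exact hO
    have h2 := CfsgLib.Cores.pPrimeCore_of_normal 2 (H.subgroupOf X)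
    rw [h1] at h2
    rw [eq_bot_iff]
    intro z hz
    have h3 : z ∈ Cfsg.pPrimeCore 2 X ⊓ H.subgroupOf X := ⟨hz, hle hz⟩
    rw [← h2, Subgroup.map_bot] at h3
    exact h3
  set x : X := ⟨t, htX⟩
  have hxo : orderOf x = 2 := by rw [← Subgroup.orderOf_coe]; exact ht
  set CH := H ⊓ Subgroup.centralizer ({t} : Set G)
  set O := (Cfsg.oddCore ↥CH).map CH.subtype
  have hOCH : O ≤ CH := Subgroup.map_subtype_le _
  have hOD : O.subgroupOf X ≤ Cfsg.centralizerPPrimeCore 2 x := by
    refine CfsgLib.Cores.le_centralizerPPrimeCore (fun z hz => ?_) ?_ ?_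
    · rw [Subgroup.mem_centralizer_singleton_iff]
      exact Subtype.ext (Subgroup.mem_centralizer_singleton_iff.1 (hOCH hz).2)
    · rw [← Subgroup.inf_subgroupOf_right, Nat.card_congr (Subgroup.subgroupOfEquivOfLe inf_le_right).toEquiv]
      exact (CfsgLib.Cores.card_map_pPrimeCore_coprime (p := 2) CH).coprime_dvd_left (Subgroup.card_dvd_of_le inf_le_left)
    · intro c hc
      have hcC : (c : G) ∈ Subgroup.normalizer (CH : Set G) := by
        refine CfsgLib.Solvable.mem_normalizer_of_conj_mem fun z hz => ⟨?_, ?_⟩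
        · exact hHn.conj_mem ⟨z, hHX hz.1⟩ hz.1 c
        · have hct : (c : G) * t = t * c := congrArg Subtype.val (Subgroup.mem_centralizer_singleton_iff.1 hc)
          show (c : G) * z * (c : G)⁻¹ ∈ Subgroup.centralizer ({t} : Set G)
          rw [Subgroup.mem_centralizer_singleton_iff]
          have hzt : z * t = t * z := Subgroup.mem_centralizer_singleton_iff.1 hz.2
          exact (((show Commute (c : G) t from hct).mul_left hzt).mul_left
            (show Commute (c : G) t from hct).inv_left).eq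
      exact CfsgLib.Solvable.mem_normalizer_of_conj_mem fun z hz =>
        (Subgroup.mem_normalizer_iff.1 (CfsgLib.Cores.mem_normalizer_pPrimeCore_map (p := 2) hcC) (z : G)).1 hz
  have hYX : Y ≤ X := hY.trans (hOCH.trans (inf_le_left.trans hHX))
  have hY' : Y.subgroupOf X ≤ Cfsg.centralizerPPrimeCore 2 x := (Subgroup.comap_mono hY).trans hOD
  have hcop := CfsgLib.Cores.card_centralizerPPrimeCore_coprime (p := 2) x
  have hP := CfsgLib.Cores.isPGroup_zpowers_of_orderOf_eq (p := 2) hxo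
  have hDP : Cfsg.centralizerPPrimeCore 2 x ≤ Subgroup.centralizer (Subgroup.zpowers x : Set X) := by
    rw [CfsgLib.Cores.centralizer_zpowers']; exact CfsgLib.Cores.centralizerPPrimeCore_le x
  have hDn : Subgroup.centralizer (Subgroup.zpowers x : Set X) ≤
      Subgroup.normalizer (Cfsg.centralizerPPrimeCore 2 x : Set X) := by
    rw [CfsgLib.Cores.centralizer_zpowers']
    exact CfsgLib.Solvable.le_normalizer_of_conj_mem fun c hc d hd =>
      CfsgLib.Cores.conj_mem_centralizerPPrimeCore (Subgroup.mem_centralizer_singleton_iff.1 hc) hd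
  obtain ⟨L, hL, hLY⟩ : ∃ L : Subgroup X, Cfsg.IsComponent L ∧ ¬ Y.subgroupOf X ≤ Subgroup.centralizer (L : Set X) := by
    by_contra hcon
    push Not at hcon
    apply hY1
    rw [← Subgroup.map_subgroupOf_eq_of_le hYX,
      CfsgLib.Cores.eq_bot_of_le_centralizer_pCore_of_forall hOX (hcop.coprime_dvd_left (Subgroup.card_dvd_of_le hY'))
        (hY'.trans (CfsgLib.Cores.le_centralizer_pCore_of_le_centralizer hP hcop hDP hDn)) hcon, Subgroup.map_bot]
  have htL : x ∉ Subgroup.centralizer (L : Set X) ∧ x ∈ Subgroup.normalizer (L : Set X) := by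
    by_contra hcon
    exact hLY (hY'.trans (CfsgLib.Cores.centralizerPPrimeCore_le_centralizer_component hOX hxo hL (by tauto)))
  have hYL := hY'.trans (CfsgLib.Cores.le_normalizer_component hOX hP hcop hDP hDn hL)
  have hLH : L ≤ H.subgroupOf X := by
    rw [← CfsgLib.Cores.component_commutator_self hL, Subgroup.commutator_le]
    intro a _ b _
    refine (QuotientGroup.eq_one_iff _).1 ?_
    show f ⁅a, b⁆ = 1
    rw [map_commutatorElement, commutatorElement_eq_one_iff_mul_comm]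
    exact hcomm a b
  have h4 : Cfsg.IsComponent ((L.subgroupOf (H.subgroupOf X)).map (Subgroup.subgroupOfEquivOfLe hHX).toMonoidHom) :=
    CfsgLib.Cores.isComponent_map_equiv _ (CfsgLib.Cores.isComponent_subgroupOf hL hLH)
  refine ⟨_, h4, ?_⟩
  have heq : ((L.subgroupOf (H.subgroupOf X)).map (Subgroup.subgroupOfEquivOfLe hHX).toMonoidHom).map H.subtype =
      L.map X.subtype := by
    ext z
    constructor
    · rintro ⟨_, ⟨w, hw, rfl⟩, rfl⟩
      exact ⟨w, hw, rfl⟩
    · rintro ⟨w, hw, rfl⟩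
      exact ⟨_, ⟨⟨w, hLH hw⟩, hw, rfl⟩, rfl⟩
  rw [heq]
  refine ⟨?_, ?_, ?_, ?_⟩
  · have h5 := congrArg (Subgroup.map X.subtype) (CfsgLib.Cores.map_conj_eq_self_iff.2 htL.2)
    rw [Subgroup.map_map] at h5
    rw [Subgroup.map_map]
    exact h5
  · intro w hw
    refine CfsgLib.Solvable.mem_normalizer_of_conj_mem ?_
    rintro _ ⟨l, hl, rfl⟩
    exact ⟨⟨w, hYX hw⟩ * l * ⟨w, hYX hw⟩⁻¹,
      (Subgroup.mem_normalizer_iff.1 (hYL (show (⟨w, hYX hw⟩ : X) ∈ Y.subgroupOf X from hw)) l).1 hl, rfl⟩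
  · intro hc
    refine htL.1 (Subgroup.mem_centralizer_iff.2 fun l hl => Subtype.ext ?_)
    exact Subgroup.mem_centralizer_iff.1 hc (l : G) ⟨l, hl, rfl⟩
  · intro hc
    refine hLY fun w hw => Subgroup.mem_centralizer_iff.2 fun l hl => Subtype.ext ?_
    exact Subgroup.mem_centralizer_iff.1 (hc hw) (l : G) ⟨l, hl, rfl⟩

end Cfsg.Agent.S1328
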