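import Cfsg.Statements.S1330
import Cfsg.Agent.Lib.Cores.ComponentCentralizer
import Cfsg.Agent.S1329

set_option autoImplicit false
open Cfsg

namespace Cfsg.Agent.S1330

open Subgroup CfsgLib.Cores
open scoped commutatorElement Pointwise

variable {G : Type*} [Group G] [Finite G]

theorem coprime_two_of_le {D O : Subgroup G} (h : D ≤ O) (hO : (Nat.card O).Coprime 2) : (Nat.card D).Coprime 2 :=
  hO.coprime_dvd_left (card_dvd_of_le h)

theorem isSolvable_of_coprime_two {D : Subgroup G} (h : (Nat.card D).Coprime 2) : Group.IsSolvable D :=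
  Cfsg.Agent.S0205.result (Nat.coprime_two_right.1 h)

theorem commutator_le_centralizer_of_normalizes {D S E : Subgroup G} (hD : D ≤ normalizer (E : Set G))
    (hS : S ≤ centralizer (E : Set G)) : ⁅D, S⁆ ≤ centralizer (E : Set G) := by
  refine commutator_le.2 fun d hd s hs => ?_
  exact mul_mem ((mem_normalizer_iff.1 (CfsgLib.Solvable.normalizer_le_normalizer_centralizer E (hD hd)) s).1 (hS hs))
    (inv_mem (hS hs))

/-- An element of a core normalized by `C(T)` is in `O(X)` when it centralizes every component moved by `T`. -/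
theorem mem_oddCore_of_centralizes {X : Type*} [Group X] [Finite X] {T D : Subgroup X} (hT : IsPGroup 2 T)
    (hD : (Nat.card D).Coprime 2) (hDT : D ≤ centralizer (T : Set X))
    (hDn : centralizer (T : Set X) ≤ normalizer (D : Set X)) {x : X} (hx : x ∈ D)
    (h : ∀ E : Subgroup (X ⧸ Cfsg.oddCore X), Cfsg.IsComponent E →
      D.map (QuotientGroup.mk' (Cfsg.oddCore X)) ≤ normalizer (E : Set (X ⧸ Cfsg.oddCore X)) →
      E ≤ centralizer ((T.map (QuotientGroup.mk' (Cfsg.oddCore X)) : Subgroup (X ⧸ Cfsg.oddCore X)) : Set _) ∨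
        QuotientGroup.mk' (Cfsg.oddCore X) x ∈ centralizer (E : Set (X ⧸ Cfsg.oddCore X))) :
    x ∈ Cfsg.oddCore X := by
  set π := QuotientGroup.mk' (Cfsg.oddCore X) with hπ
  have hO : (Nat.card (Cfsg.oddCore X)).Coprime 2 := coprime_card_pPrimeCore 2
  have hC := map_mk'_centralizer_of_coprime hT hO
  rw [← hπ] at hC
  have hOb : Cfsg.pPrimeCore 2 (X ⧸ Cfsg.oddCore X) = ⊥ := pPrimeCore_quotient_self 2
  have hTb : IsPGroup 2 (T.map π) := hT.map π
  have hDb : (Nat.card (D.map π)).Coprime 2 := hD.coprime_dvd_left (card_map_dvd D π)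
  have hDTb : D.map π ≤ centralizer ((T.map π : Subgroup _) : Set _) := (map_mono hDT).trans hC.le
  have hDnb : centralizer ((T.map π : Subgroup _) : Set (X ⧸ Cfsg.oddCore X)) ≤
      normalizer ((D.map π : Subgroup _) : Set (X ⧸ Cfsg.oddCore X)) := by
    refine hC.ge.trans ((map_mono hDn).trans ?_)
    exact le_normalizer_map π
  have hxD : π x ∈ D.map π := ⟨x, hx, rfl⟩
  have hxl : π x ∈ centralizer (Cfsg.layer (X ⧸ Cfsg.oddCore X) : Set _) := by
    have : Cfsg.layer (X ⧸ Cfsg.oddCore X) ≤ centralizer ({π x} : Set _) := by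
      refine layer_le_iff.2 fun E hE e he => mem_centralizer_singleton_iff.2 ?_
      rcases h E hE (le_normalizer_component hOb hTb hDb hDTb hDnb hE) with h1 | h1
      · have := component_commutator_solvable hE (isSolvable_of_coprime_two hDb) (h1.trans hDnb)
        exact (commutator_eq_bot_iff_le_centralizer.1 this he _ hxD).symm
      · exact mem_centralizer_iff.1 h1 e he
    exact fun y hy => mem_centralizer_singleton_iff.1 (this hy)
  have hxf : π x ∈ centralizer (Cfsg.fittingSubgroup (X ⧸ Cfsg.oddCore X) : Set _) := by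
    rw [fittingSubgroup_eq_pCore hOb]
    exact le_centralizer_pCore_of_le_centralizer hTb hDb hDTb hDnb hxD
  set F := Cfsg.generalizedFittingSubgroup (X ⧸ Cfsg.oddCore X) with hF
  have hxF : π x ∈ centralizer (F : Set _) := by
    have : F ≤ centralizer ({π x} : Set _) := sup_le
      (fun y hy => mem_centralizer_singleton_iff.2 (mem_centralizer_iff.1 hxl y hy))
      (fun y hy => mem_centralizer_singleton_iff.2 (mem_centralizer_iff.1 hxf y hy))
    exact fun y hy => mem_centralizer_singleton_iff.1 (this hy)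
  haveI : F.Normal := generalizedFittingSubgroup_normal
  have hmem : π x ∈ Cfsg.pCore 2 (X ⧸ Cfsg.oddCore X) := by
    rw [← fittingSubgroup_eq_pCore hOb]
    haveI : IsMulCommutative ↥(centralizer (F : Set (X ⧸ Cfsg.oddCore X))) := by
      refine ⟨⟨fun u v => Subtype.ext ?_⟩⟩
      exact (mem_centralizer_iff.1 u.2 v (centralizer_generalizedFittingSubgroup_le v.2)).symm
    letI : CommGroup ↥(centralizer (F : Set (X ⧸ Cfsg.oddCore X))) :=
      { (inferInstance : Group ↥(centralizer (F : Set (X ⧸ Cfsg.oddCore X)))) with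
        mul_comm := fun u v => IsMulCommutative.is_comm.comm u v }
    exact le_fittingSubgroup CommGroup.isNilpotent hxF
  have hone : π x = 1 := by
    rw [← orderOf_eq_one_iff]
    obtain ⟨n, hn⟩ := card_pCore_eq_pow (G := X ⧸ Cfsg.oddCore X) 2
    exact Nat.eq_one_of_dvd_coprimes (hDb.pow_right n) (orderOf_dvd_natCard _ hxD)
      (hn ▸ orderOf_dvd_natCard _ hmem)
  rwa [hπ, QuotientGroup.mk'_apply, QuotientGroup.eq_one_iff] at hone

/-- The data of a core-separated pair. -/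
structure Pair (A₁ A₂ : Subgroup G) : Prop where
  e1 : Cfsg.IsElementaryAbelian 2 A₁
  e2 : Cfsg.IsElementaryAbelian 2 A₂
  c1 : Nat.card A₁ = 4
  c2 : Nat.card A₂ = 4
  comm : ∀ x ∈ A₁, ∀ y ∈ A₂, x * y = y * x
  sep : ∀ a ∈ A₁ ⊔ A₂, a ≠ 1 → ∀ E : Subgroup ↥(centralizer ({a} : Set G)), Cfsg.IsPComponent 2 E →
    ⁅E.map (centralizer ({a} : Set G)).subtype, A₁⁆ ≤ Cfsg.centralizerPPrimeCore 2 a ∨
    ⁅E.map (centralizer ({a} : Set G)).subtype, A₂⁆ ≤ Cfsg.centralizerPPrimeCore 2 a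

variable {A₁ A₂ : Subgroup G}

theorem Pair.symm (h : Pair A₁ A₂) : Pair A₂ A₁ :=
  ⟨h.e2, h.e1, h.c2, h.c1, fun x hx y hy => (h.comm y hy x hx).symm,
    fun a ha ha1 E hE => (h.sep a (sup_comm A₂ A₁ ▸ ha) ha1 E hE).symm⟩

theorem Pair.le_centralizer (h : Pair A₁ A₂) : A₁ ⊔ A₂ ≤ centralizer ((A₁ ⊔ A₂ : Subgroup G) : Set G) := by
  have c11 : ∀ x ∈ A₁, ∀ y ∈ A₁, x * y = y * x := fun x hx y hy =>
    congrArg Subtype.val (h.e1.1.is_comm.comm ⟨x, hx⟩ ⟨y, hy⟩)
  have c22 : ∀ x ∈ A₂, ∀ y ∈ A₂, x * y = y * x := fun x hx y hy =>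
    congrArg Subtype.val (h.e2.1.is_comm.comm ⟨x, hx⟩ ⟨y, hy⟩)
  refine sup_le ?_ ?_ <;> refine le_centralizer_iff.1 (sup_le ?_ ?_) <;> intro x hx y hy
  · exact c11 y hy x hx
  · exact h.comm y hy x hx
  · exact (h.comm x hx y hy).symm
  · exact c22 y hy x hx

theorem Pair.le_centralizer_singleton (h : Pair A₁ A₂) {b : G} (hb : b ∈ A₁ ⊔ A₂) :
    A₁ ⊔ A₂ ≤ centralizer ({b} : Set G) :=
  h.le_centralizer.trans (centralizer_le (Set.singleton_subset_iff.2 hb))

theorem Pair.mul_eq (h : Pair A₁ A₂) {a : G} (ha : a ∈ A₁ ⊔ A₂) : ∃ x ∈ A₁, ∃ y ∈ A₂, a = x * y := by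
  obtain ⟨x, hx, y, hy, e⟩ := ((coe_mul_of_left_le_normalizer_right A₁ A₂
    ((show A₁ ≤ centralizer (A₂ : Set G) from fun x hx y hy => (h.comm x hx y hy).symm).trans
      (centralizer_le_normalizer _))).le (SetLike.mem_coe.2 ha) : a ∈ (A₁ : Set G) * (A₂ : Set G))
  exact ⟨x, hx, y, hy, e.symm⟩

theorem Pair.sq_eq_one (h : Pair A₁ A₂) {a : G} (ha : a ∈ A₁ ⊔ A₂) : a ^ 2 = 1 := by
  obtain ⟨x, hx, y, hy, rfl⟩ := h.mul_eq ha
  rw [Commute.mul_pow (h.comm x hx y hy), h.e1.2 x hx, h.e2.2 y hy, one_mul]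

theorem Pair.isPGroup_zpowers (h : Pair A₁ A₂) {a : G} (ha : a ∈ A₁ ⊔ A₂) : IsPGroup 2 (zpowers a) := by
  rintro ⟨_, i, rfl⟩
  refine ⟨1, Subtype.ext ?_⟩
  show (a ^ i) ^ (2 ^ 1) = 1
  rw [pow_one, ← zpow_natCast, ← zpow_mul, mul_comm, zpow_mul, zpow_natCast, h.sq_eq_one ha, one_zpow]

theorem normalizer_inf_le {A B : Subgroup G} :
    normalizer (A : Set G) ⊓ normalizer (B : Set G) ≤ normalizer ((A ⊓ B : Subgroup G) : Set G) := by
  intro g hg
  rw [mem_normalizer_iff]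
  intro x
  simp only [mem_inf, mem_normalizer_iff.1 hg.1 x, mem_normalizer_iff.1 hg.2 x]

theorem centralizer_le_normalizer_core (a : G) :
    centralizer ({a} : Set G) ≤ normalizer (Cfsg.centralizerPPrimeCore 2 a : Set G) :=
  fun _ hg => mem_normalizer_pPrimeCore_map (le_normalizer hg)

/-- The core of `C(A₁)` as a subgroup. -/
abbrev coreOf (A₁ : Subgroup G) : Subgroup G :=
  (Cfsg.oddCore ↥(centralizer (A₁ : Set G))).map (centralizer (A₁ : Set G)).subtype

theorem Pair.le_normalizer_coreOf (h : Pair A₁ A₂) : A₁ ⊔ A₂ ≤ normalizer (coreOf A₁ : Set G) := fun _ hg =>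
  mem_normalizer_pPrimeCore_map (le_normalizer ((h.le_centralizer.trans (centralizer_le
    (SetLike.coe_subset_coe.2 le_sup_left))) hg))

/-- `C(A₁) ∩ [O(C(a)), A₁] ≤ O(C(A₁))`. -/
theorem Pair.commutator_inf_le (h : Pair A₁ A₂) {a : G} (ha : a ∈ A₁ ⊔ A₂) :
    ⁅Cfsg.centralizerPPrimeCore 2 a, A₁⁆ ⊓ centralizer (A₁ : Set G) ≤ coreOf A₁ := by
  classical
  set O := Cfsg.centralizerPPrimeCore 2 a with hO
  have hOc : (Nat.card O).Coprime 2 := card_centralizerPPrimeCore_coprime a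
  have hAO : A₁ ⊔ A₂ ≤ normalizer (O : Set G) :=
    (h.le_centralizer_singleton ha).trans (centralizer_le_normalizer_core a)
  have hA1O : A₁ ≤ normalizer (O : Set G) := le_sup_left.trans hAO
  have hA1 : IsPGroup 2 A₁ := IsPGroup.of_card (n := 2) (by rw [h.c1]; norm_num)
  have hcop : (Nat.card A₁).Coprime (Nat.card O) := by
    rw [h.c1, show 4 = 2 ^ 2 by norm_num]
    exact hOc.symm.pow_left 2
  have hsolO := isSolvable_of_coprime_two hOc
  set W := ⁅O, A₁⁆ with hW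
  have hWO : W ≤ O := CfsgLib.Solvable.commutator_le_of_le_normalizer hA1O
  have hgen := Cfsg.Agent.S1329.result A₁ A₁ W hA1 h.e1.1 le_rfl
    (Nat.coprime_two_right.1 (coprime_two_of_le hWO hOc))
    (CfsgLib.Solvable.le_normalizer_commutator_right hA1O)
    (CfsgLib.Solvable.commutator_commutator_self hA1O hcop (Or.inr hsolO))
  rw [hgen]
  refine iSup_le fun B₀ => ?_
  obtain ⟨α, hαB, hα1⟩ : ∃ α ∈ (B₀ : Subgroup G), α ≠ 1 := by
    refine (bot_or_exists_ne_one _).resolve_left fun hb => ?_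
    haveI hn : ((B₀ : Subgroup G).subgroupOf A₁).Normal := by rw [hb, bot_subgroupOf]; infer_instance
    haveI := B₀.2.2
    have hcyc : IsCyclic ↥A₁ := by
      have : ((B₀ : Subgroup G).subgroupOf A₁) = ⊥ := by rw [hb, bot_subgroupOf]
      exact isCyclic_of_surjective _
        ((QuotientGroup.quotientMulEquivOfEq this).trans QuotientGroup.quotientBot).surjective
    obtain ⟨g, hg⟩ := hcyc.exists_ofOrder_eq_natCard
    have h2 : orderOf g ∣ 2 := orderOf_dvd_of_pow_eq_one (Subtype.ext (h.e1.2 g g.2))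
    rw [hg, h.c1] at h2
    norm_num at h2
  have hα : α ∈ A₁ := B₀.2.1 hαB
  intro z hz
  obtain ⟨⟨hzW, hzc⟩, hzα⟩ := hz
  set Cα := centralizer ({α} : Set G) with hCα
  set C1 := centralizer (A₁ : Set G) with hC1
  have hC1α : C1 ≤ Cα := centralizer_le (Set.singleton_subset_iff.2 hα)
  have hA12 : A₁ ⊔ A₂ ≤ C1 := h.le_centralizer.trans (centralizer_le (SetLike.coe_subset_coe.2 le_sup_left))
  have hzα' : z ∈ ⁅O ⊓ Cα, A₁⁆ := commutator_mono (le_inf (inf_le_left.trans hWO)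
    (inf_le_right.trans (centralizer_le (Set.singleton_subset_iff.2 hαB)))) le_rfl hzα
  have hzO : z ∈ O := hWO hzW
  -- inside `C(α)`
  set D0 := (O ⊓ Cα).subgroupOf Cα with hD0
  set π := QuotientGroup.mk' (Cfsg.oddCore ↥Cα) with hπ
  set aα : ↥Cα := ⟨a, h.le_centralizer_singleton (mem_sup_left hα) ha⟩ with haα
  have hT : IsPGroup 2 (zpowers aα) := by
    have h2 : aα ^ 2 = 1 := Subtype.ext (h.sq_eq_one ha)
    rintro ⟨_, i, rfl⟩
    refine ⟨1, Subtype.ext ?_⟩
    show (aα ^ i) ^ (2 ^ 1) = 1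
    rw [pow_one, ← zpow_natCast, ← zpow_mul, mul_comm, zpow_mul, zpow_natCast, h2, one_zpow]
  have hD0c : (Nat.card D0).Coprime 2 := by
    rw [hD0, Nat.card_congr (subgroupOfEquivOfLe inf_le_right).toEquiv]
    exact coprime_two_of_le inf_le_left hOc
  have hcent : ∀ c : ↥Cα, c ∈ centralizer (zpowers aα : Set ↥Cα) → (c : G) ∈ centralizer ({a} : Set G) := fun c hc =>
    mem_centralizer_singleton_iff.2 (congrArg Subtype.val (mem_centralizer_iff.1 hc aα (mem_zpowers aα))).symm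
  have hD0T : D0 ≤ centralizer (zpowers aα : Set ↥Cα) := by
    intro c hc
    rw [centralizer_zpowers', mem_centralizer_singleton_iff]
    exact Subtype.ext (mem_centralizer_singleton_iff.1 (centralizerPPrimeCore_le a (mem_inf.1 hc).1))
  have hD0n : centralizer (zpowers aα : Set ↥Cα) ≤ normalizer (D0 : Set ↥Cα) := by
    intro c hc
    rw [mem_normalizer_iff]
    intro x
    show (x : G) ∈ O ⊓ Cα ↔ (c : G) * x * (c : G)⁻¹ ∈ O ⊓ Cα
    exact mem_normalizer_iff.1 (normalizer_inf_le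
      (mem_inf.2 ⟨centralizer_le_normalizer_core a (hcent c hc), le_normalizer c.2⟩)) x
  have hO' : Cfsg.pPrimeCore 2 (↥Cα ⧸ Cfsg.oddCore ↥Cα) = ⊥ := pPrimeCore_quotient_self 2
  have hCmap := map_mk'_centralizer_of_coprime hT (coprime_card_pPrimeCore (G := ↥Cα) 2)
  set A1α := (A₁.subgroupOf Cα).map π with hA1α
  set A2α := (A₂.subgroupOf Cα).map π with hA2α
  set M1 := sSup {F : Subgroup (↥Cα ⧸ Cfsg.oddCore ↥Cα) | Cfsg.IsComponent F ∧ F ≤ centralizer (A1α : Set _)} with hM1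
  set M2 := sSup {F : Subgroup (↥Cα ⧸ Cfsg.oddCore ↥Cα) | Cfsg.IsComponent F ∧ F ≤ centralizer (A2α : Set _)} with hM2
  have hAαle : A₁ ⊔ A₂ ≤ Cα := hA12.trans hC1α
  have hzM : π ⟨z, hC1α hzc⟩ ∈ centralizer (M1 : Set _) := by
    have hle : M1 ≤ centralizer ((⁅D0, A₁.subgroupOf Cα⁆.map π : Subgroup _) : Set _) := by
      refine sSup_le fun F hF => le_centralizer_iff.1 ?_
      rw [map_commutator]
      refine commutator_le_centralizer_of_normalizes ?_ (le_centralizer_iff.1 hF.2)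
      refine le_normalizer_component hO' (hT.map π) (hD0c.coprime_dvd_left (card_map_dvd D0 π))
        ((map_mono hD0T).trans hCmap.le) (hCmap.ge.trans ((map_mono hD0n).trans (le_normalizer_map π))) hF.1
    refine le_centralizer_iff.1 hle ⟨⟨z, hC1α hzc⟩, ?_, rfl⟩
    refine (map_injective Cα.subtype_injective (a₁ := ⁅D0, A₁.subgroupOf Cα⁆ ⊔ zpowers ⟨z, hC1α hzc⟩)
      (a₂ := ⁅D0, A₁.subgroupOf Cα⁆) ?_).le (mem_sup_right (mem_zpowers _))
    rw [Subgroup.map_sup, map_commutator, map_subgroupOf_eq_of_le inf_le_right,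
      map_subgroupOf_eq_of_le (le_sup_left.trans hAαle), sup_eq_left, MonoidHom.map_zpowers, zpowers_le]
    exact hzα'
  -- the 2-layer of `C(A₁)` inside that of `C(α)`
  set L := Cfsg.pLayerOf 2 C1 with hL
  have hLC1 : L ≤ C1 := pLayerOf_le C1
  have hLα : L ≤ (Cfsg.pLayer 2 ↥Cα).map Cα.subtype := by
    have h1 := CfsgLib.LBalance.layerBalanced ↥Cα (A₁.subgroupOf Cα)
      (hA1.of_equiv (subgroupOfEquivOfLe (le_sup_left.trans hAαle)).symm)
    have h2 : (centralizer ((A₁.subgroupOf Cα : Subgroup ↥Cα) : Set ↥Cα)).map Cα.subtype = C1 := by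
      refine le_antisymm ?_ fun g hg => ⟨⟨g, hC1α hg⟩, fun x hx => Subtype.ext (hg x hx), rfl⟩
      rintro _ ⟨c, hc, rfl⟩ x hx
      exact congrArg Subtype.val (hc ⟨x, hAαle (mem_sup_left hx)⟩ hx)
    rw [hL, ← h2, pLayerOf_map_of_injective _ Cα.subtype_injective]
    exact map_mono h1
  have hsepF : ∀ F : Subgroup (↥Cα ⧸ Cfsg.oddCore ↥Cα), Cfsg.IsComponent F → F ≤ M1 ⊔ M2 := by
    intro F hF
    have hK := isPComponent_pComponentOf (p := 2) hF
    have hKF := map_pComponentOf (p := 2) hF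
    have key : ∀ Ai : Subgroup G, Ai ≤ Cα → ∀ K : Subgroup ↥Cα, K.map π = F →
        ⁅K.map Cα.subtype, Ai⁆ ≤ Cfsg.centralizerPPrimeCore 2 α →
        F ≤ centralizer (((Ai.subgroupOf Cα).map π : Subgroup _) : Set _) := by
      intro Ai hAi K hKF hc
      have h1 : ⁅K, Ai.subgroupOf Cα⁆ ≤ Cfsg.oddCore ↥Cα := by
        rw [← map_le_map_iff_of_injective Cα.subtype_injective, map_commutator, map_subgroupOf_eq_of_le hAi]
        exact hc
      rw [← commutator_eq_bot_iff_le_centralizer, ← hKF, ← map_commutator, eq_bot_iff]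
      rintro _ ⟨y, hy, rfl⟩
      exact mem_bot.2 ((QuotientGroup.eq_one_iff y).2 (h1 hy))
    rcases h.sep α (mem_sup_left hα) hα1 _ hK with hc | hc
    · exact le_sup_of_le_left (le_sSup ⟨hF, key A₁ (le_sup_left.trans hAαle) _ hKF hc⟩)
    · exact le_sup_of_le_right (le_sSup ⟨hF, key A₂ (le_sup_right.trans hAαle) _ hKF hc⟩)
  have hlayerM : Cfsg.layer (↥Cα ⧸ Cfsg.oddCore ↥Cα) = M1 ⊔ M2 := le_antisymm (layer_le_iff.2 hsepF)
    (sup_le (sSup_le fun F hF => component_le_layer hF.1) (sSup_le fun F hF => component_le_layer hF.1))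
  have hlayerN : Cfsg.layer (↥Cα ⧸ Cfsg.oddCore ↥Cα) ≤ normalizer (M1 : Set _) := fun g hg => by
    rw [← map_conj_eq_self_iff, hM1, sSup_eq_iSup, Subgroup.map_iSup]
    refine iSup_congr fun F => ?_
    rw [Subgroup.map_iSup]
    exact iSup_congr fun hF => map_conj_eq_self_iff.2 (layer_le_normalizer_component hF.1 hg)
  set N1 := L ⊓ (M1.comap π).map Cα.subtype with hN1
  have hcomm2 : ∀ e ∈ L, ∀ δ ∈ A₂, e * δ * e⁻¹ * δ⁻¹ ∈ N1 := by
    intro e he δ hδ
    refine mem_inf.2 ⟨?_, ?_⟩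
    · have hn : δ ∈ normalizer (L : Set G) := by
        have := pLayer_characteristic (G := ↥C1) (p := 2)
        rw [← map_conj_eq_self_iff, hL, Cfsg.pLayerOf]
        have hδC : δ ∈ normalizer (C1 : Set G) := le_normalizer (hA12 (mem_sup_right hδ))
        let f : ↥C1 ≃* ↥C1 := ((MulAut.conj δ).subgroupMap C1).trans
          (MulEquiv.subgroupCongr (map_conj_eq_self_iff.2 hδC))
        conv_rhs => rw [← characteristic_iff_map_eq.1 this f]
        rw [Subgroup.map_map, Subgroup.map_map]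
        rfl
      rw [show e * δ * e⁻¹ * δ⁻¹ = e * (δ * e⁻¹ * δ⁻¹) by group]
      exact L.mul_mem he ((mem_normalizer_iff.1 hn _).1 (L.inv_mem he))
    obtain ⟨e', he', rfl⟩ := hLα he
    set δ' : ↥Cα := ⟨δ, hAαle (mem_sup_right hδ)⟩ with hδ'
    refine ⟨e' * δ' * e'⁻¹ * δ'⁻¹, ?_, rfl⟩
    rw [SetLike.mem_coe, mem_comap]
    have hel : π e' ∈ M1 ⊔ M2 := by
      rw [← hlayerM, ← map_mk'_pLayer]; exact ⟨e', he', rfl⟩
    have hM21 : M2 ≤ normalizer (M1 : Set _) := (le_sup_right.trans hlayerM.ge).trans hlayerN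
    obtain ⟨m, hm, n, hn, he''⟩ := ((coe_mul_of_right_le_normalizer_left M1 M2 hM21).le
      (SetLike.mem_coe.2 hel) : π e' ∈ (M1 : Set (↥Cα ⧸ Cfsg.oddCore ↥Cα)) * (M2 : Set (↥Cα ⧸ Cfsg.oddCore ↥Cα)))
    simp only [SetLike.mem_coe] at hm hn
    have hδn : π δ' * n = n * π δ' := by
      have : M2 ≤ centralizer (A2α : Set _) := sSup_le fun F hF => hF.2
      exact mem_centralizer_iff.1 (this hn) _ ⟨δ', hδ, rfl⟩
    have hδM : π δ' ∈ normalizer (M1 : Set _) := by
      rw [← map_conj_eq_self_iff]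
      have hA1fix : A1α.map (MulAut.conj (π δ')).toMonoidHom = A1α := by
        rw [map_conj_eq_self_iff]
        refine centralizer_le_normalizer _ ?_
        rintro _ ⟨x, hx, rfl⟩
        rw [← map_mul, ← map_mul]
        exact congrArg π (Subtype.ext (h.comm _ hx _ hδ))
      have hmap : ∀ (g : ↥Cα ⧸ Cfsg.oddCore ↥Cα), A1α.map (MulAut.conj g).toMonoidHom = A1α →
          M1.map (MulAut.conj g).toMonoidHom ≤ M1 := fun g hg => by
        rw [map_le_iff_le_comap]
        refine sSup_le fun F hF => map_le_iff_le_comap.1 (le_sSup ⟨isComponent_conj hF.1 g, ?_⟩)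
        refine (map_mono hF.2).trans ?_
        rintro _ ⟨w, hw, rfl⟩ _ hy
        obtain ⟨y, hy', rfl⟩ := hg.ge hy
        rw [← map_mul, ← map_mul, mem_centralizer_iff.1 hw y hy']
      refine le_antisymm (hmap _ hA1fix) ?_
      have h2 := map_mono (f := (MulAut.conj (π δ')).toMonoidHom) (hmap (π δ')⁻¹ ?_)
      · rwa [← map_conj_mul, mul_inv_cancel, map_conj_eq_self_iff.2 (one_mem _)] at h2
      · conv_lhs => rw [← hA1fix]
        rw [← map_conj_mul, inv_mul_cancel, map_conj_eq_self_iff.2 (one_mem _)]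
    have : π (e' * δ' * e'⁻¹ * δ'⁻¹) = m * (π δ' * m⁻¹ * (π δ')⁻¹) := by
      simp only [map_mul, map_inv]
      rw [← he'']
      calc m * n * π δ' * (m * n)⁻¹ * (π δ')⁻¹ = m * (n * π δ') * n⁻¹ * m⁻¹ * (π δ')⁻¹ := by group
        _ = m * (π δ' * n) * n⁻¹ * m⁻¹ * (π δ')⁻¹ := by rw [hδn]
        _ = _ := by group
    rw [this]
    exact mul_mem hm ((mem_normalizer_iff.1 hδM _).1 (inv_mem hm))
  have hNN : ∀ e ∈ L, ∀ n ∈ N1, e * n * e⁻¹ ∈ N1 := by
    intro e he n hn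
    obtain ⟨hnL, n', hn', rfl⟩ := mem_inf.1 hn
    refine mem_inf.2 ⟨L.mul_mem (L.mul_mem he hnL) (L.inv_mem he), ?_⟩
    obtain ⟨e', he', rfl⟩ := hLα he
    refine ⟨e' * n' * e'⁻¹, ?_, rfl⟩
    rw [SetLike.mem_coe, mem_comap] at hn' ⊢
    simp only [map_mul, map_inv]
    refine (mem_normalizer_iff.1 (hlayerN ?_) _).1 hn'
    rw [← map_mk'_pLayer]; exact ⟨e', he', rfl⟩
  have hzN : ∀ n ∈ N1, z * n * z⁻¹ * n⁻¹ ∈ coreOf A₁ := by
    intro n hn
    obtain ⟨hnL, n', hn', rfl⟩ := mem_inf.1 hn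
    have hR : Cfsg.centralizerPPrimeCore 2 α ⊓ C1 ≤ coreOf A₁ := by
      haveI : ((Cfsg.centralizerPPrimeCore 2 α ⊓ C1).subgroupOf C1).Normal := by
        refine (normal_subgroupOf_iff_le_normalizer inf_le_right).2 fun g hg => normalizer_inf_le (mem_inf.2
          ⟨centralizer_le_normalizer_core α (hC1α hg), le_normalizer hg⟩)
      conv_lhs => rw [← map_subgroupOf_eq_of_le (inf_le_right : Cfsg.centralizerPPrimeCore 2 α ⊓ C1 ≤ C1)]
      refine map_mono (le_pPrimeCore ?_)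
      rw [Nat.card_congr (subgroupOfEquivOfLe inf_le_right).toEquiv]
      exact coprime_two_of_le inf_le_left (card_centralizerPPrimeCore_coprime α)
    refine hR (mem_inf.2 ⟨⟨⟨z, hC1α hzc⟩ * n' * ⟨z, hC1α hzc⟩⁻¹ * n'⁻¹, ?_, rfl⟩, ?_⟩)
    · rw [SetLike.mem_coe, ← QuotientGroup.eq_one_iff, ← QuotientGroup.mk'_apply, ← hπ]
      simp only [map_mul, map_inv]
      rw [← mem_centralizer_iff.1 hzM _ hn']
      group
    · exact C1.mul_mem (C1.mul_mem (C1.mul_mem hzc (hLC1 hnL)) (C1.inv_mem hzc)) (C1.inv_mem (hLC1 hnL))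
  -- inside `C(A₁)`
  set π1 := QuotientGroup.mk' (Cfsg.oddCore ↥C1) with hπ1
  set a1 : ↥C1 := ⟨a, hA12 ha⟩ with ha1
  have hT1 : IsPGroup 2 (zpowers a1) := by
    have h2 : a1 ^ 2 = 1 := Subtype.ext (h.sq_eq_one ha)
    rintro ⟨_, i, rfl⟩
    refine ⟨1, Subtype.ext ?_⟩
    show (a1 ^ i) ^ (2 ^ 1) = 1
    rw [pow_one, ← zpow_natCast, ← zpow_mul, mul_comm, zpow_mul, zpow_natCast, h2, one_zpow]
  refine ⟨⟨z, hzc⟩, mem_oddCore_of_centralizes hT1 (D := O.subgroupOf C1) ?_ ?_ ?_ hzO ?_, rfl⟩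
  · rw [← card_map_of_injective C1.subtype_injective, subgroupOf_map_subtype]
    exact coprime_two_of_le inf_le_left hOc
  · intro c hc
    rw [centralizer_zpowers', mem_centralizer_singleton_iff]
    exact Subtype.ext (mem_centralizer_singleton_iff.1 (centralizerPPrimeCore_le a hc))
  · intro c hc
    rw [mem_normalizer_iff]
    intro x
    show (x : G) ∈ O ↔ (c : G) * x * (c : G)⁻¹ ∈ O
    exact mem_normalizer_iff.1 (centralizer_le_normalizer_core a (mem_centralizer_singleton_iff.2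
      (congrArg Subtype.val (mem_centralizer_iff.1 hc a1 (mem_zpowers a1))).symm)) x
  intro E hE _
  set N1' := (N1.subgroupOf C1).map π1 with hN1'
  have hlay : Cfsg.layer (↥C1 ⧸ Cfsg.oddCore ↥C1) = (Cfsg.pLayer 2 ↥C1).map π1 := (map_mk'_pLayer).symm
  have hLsub : L.subgroupOf C1 = Cfsg.pLayer 2 ↥C1 := comap_map_eq_self_of_injective C1.subtype_injective _
  have hN1s : N1'.IsSubnormal := by
    have hle : N1' ≤ Cfsg.layer (↥C1 ⧸ Cfsg.oddCore ↥C1) := by
      rw [hlay, hN1', ← hLsub]; exact map_mono (comap_mono inf_le_left)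
    have hn : (N1'.subgroupOf (Cfsg.layer (↥C1 ⧸ Cfsg.oddCore ↥C1))).Normal := by
      refine (normal_subgroupOf_iff_le_normalizer hle).2 ?_
      rw [hlay, hN1', ← hLsub]
      refine (map_mono ?_).trans (le_normalizer_map π1)
      refine CfsgLib.Solvable.le_normalizer_of_conj_mem fun c hc x hx => ?_
      exact hNN _ hc _ hx
    have := hn.isSubnormal.trans' (layer_normal (G := ↥C1 ⧸ Cfsg.oddCore ↥C1)).isSubnormal
    rwa [map_subgroupOf_eq_of_le hle] at this
  rcases component_le_or_commutator_eq_bot hE hN1s with hEN | hEN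
  · right
    intro e he
    obtain ⟨n, hn, rfl⟩ := hEN he
    have hc : (⟨z, hzc⟩ : ↥C1) * n * ⟨z, hzc⟩⁻¹ * n⁻¹ ∈ Cfsg.oddCore ↥C1 := by
      obtain ⟨w, hw, hwe⟩ := hzN _ hn
      rwa [show (⟨z, hzc⟩ : ↥C1) * n * ⟨z, hzc⟩⁻¹ * n⁻¹ = w from C1.subtype_injective (by rw [hwe]; rfl)]
    rw [← QuotientGroup.eq_one_iff, ← QuotientGroup.mk'_apply, ← hπ1] at hc
    simp only [map_mul, map_inv] at hc
    exact (mul_inv_eq_iff_eq_mul.1 (mul_inv_eq_one.1 hc)).symm
  · left
    set A2' := (A₂.subgroupOf C1).map π1 with hA2'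
    have hEA : ⁅E, A2'⁆ = ⊥ := by
      refine commutator_eq_bot_of_perfect (component_commutator_self hE) ?_
      rw [commutator_eq_bot_iff_le_centralizer] at hEN ⊢
      refine commutator_le.2 fun e he δ hδ => ?_
      obtain ⟨e', he', rfl⟩ : e ∈ (L.subgroupOf C1).map π1 := by
        rw [hLsub, ← hlay]; exact component_le_layer hE he
      obtain ⟨δ', hδ', rfl⟩ := hδ
      rw [← map_commutatorElement]
      have hmem : π1 ⁅e', δ'⁆ ∈ N1' := ⟨_, hcomm2 _ he' _ hδ', rfl⟩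
      exact (le_centralizer_iff.1 hEN) hmem
    rw [commutator_eq_bot_iff_le_centralizer] at hEA
    obtain ⟨x, hx, y, hy, hxy⟩ := h.mul_eq ha
    rw [MonoidHom.map_zpowers, centralizer_zpowers']
    intro e he
    rw [mem_centralizer_singleton_iff]
    have e1 : π1 a1 = π1 ⟨x, hA12 (mem_sup_left hx)⟩ * π1 ⟨y, hA12 (mem_sup_right hy)⟩ := by
      rw [← map_mul]; exact congrArg π1 (Subtype.ext hxy)
    have e2 : e * π1 ⟨x, hA12 (mem_sup_left hx)⟩ = π1 ⟨x, hA12 (mem_sup_left hx)⟩ * e := by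
      obtain ⟨e', rfl⟩ := QuotientGroup.mk'_surjective (Cfsg.oddCore ↥C1) e
      rw [← map_mul, ← map_mul]
      exact congrArg π1 (Subtype.ext (mem_centralizer_iff.1 e'.2 x hx).symm)
    have e3 : e * π1 ⟨y, hA12 (mem_sup_right hy)⟩ = π1 ⟨y, hA12 (mem_sup_right hy)⟩ * e :=
      (mem_centralizer_iff.1 (hEA he) _ ⟨⟨y, hA12 (mem_sup_right hy)⟩, hy, rfl⟩).symm
    rw [e1, ← mul_assoc, e2, mul_assoc, e3, ← mul_assoc]

/-- One factor of the functor. -/
abbrev side (A₁ : Subgroup G) (a : G) : Subgroup G :=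
  ⁅Cfsg.centralizerPPrimeCore 2 a, A₁⁆ ⊔ (Cfsg.centralizerPPrimeCore 2 a ⊓ coreOf A₁)

theorem Pair.side_props (h : Pair A₁ A₂) {a : G} (ha : a ∈ A₁ ⊔ A₂) :
    side A₁ a ≤ Cfsg.centralizerPPrimeCore 2 a ∧ A₁ ⊔ A₂ ≤ normalizer (side A₁ a : Set G) ∧
    side A₁ a ⊓ centralizer (A₁ : Set G) ≤ coreOf A₁ := by
  have hAO : A₁ ⊔ A₂ ≤ normalizer (Cfsg.centralizerPPrimeCore 2 a : Set G) :=
    (h.le_centralizer_singleton ha).trans (centralizer_le_normalizer_core a)
  have hA1O : A₁ ≤ normalizer (Cfsg.centralizerPPrimeCore 2 a : Set G) := le_sup_left.trans hAO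
  have hA1n : A₁ ⊔ A₂ ≤ normalizer (A₁ : Set G) :=
    (h.le_centralizer.trans (centralizer_le (SetLike.coe_subset_coe.2 le_sup_left))).trans (centralizer_le_normalizer _)
  refine ⟨sup_le (CfsgLib.Solvable.commutator_le_of_le_normalizer hA1O) inf_le_left,
    CfsgLib.Techniques.CoprimeGenCB.le_normalizer_sup
      ((le_inf hAO hA1n).trans (CfsgLib.Solvable.normalizer_le_normalizer_commutator _ _))
      ((le_inf hAO h.le_normalizer_coreOf).trans normalizer_inf_le), ?_⟩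
  intro x hx
  obtain ⟨hx, hxc⟩ := mem_inf.1 hx
  have hn : Cfsg.centralizerPPrimeCore 2 a ⊓ coreOf A₁ ≤
      normalizer ((⁅Cfsg.centralizerPPrimeCore 2 a, A₁⁆ : Subgroup G) : Set G) :=
    inf_le_left.trans (CfsgLib.Solvable.le_normalizer_commutator_left _ _)
  obtain ⟨w, hw, y, hy, rfl⟩ := ((coe_mul_of_right_le_normalizer_left _ _ hn).le
    (SetLike.mem_coe.2 hx) : x ∈ ((⁅Cfsg.centralizerPPrimeCore 2 a, A₁⁆ : Subgroup G) : Set G) *
      ((Cfsg.centralizerPPrimeCore 2 a ⊓ coreOf A₁ : Subgroup G) : Set G))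
  simp only [SetLike.mem_coe] at hw hy
  have hyc : y ∈ centralizer (A₁ : Set G) := map_subtype_le _ (mem_inf.1 hy).2
  have hwc : w ∈ centralizer (A₁ : Set G) := by
    have := (centralizer (A₁ : Set G)).mul_mem hxc ((centralizer (A₁ : Set G)).inv_mem hyc)
    rwa [mul_inv_cancel_right] at this
  exact (coreOf A₁).mul_mem (h.commutator_inf_le ha (mem_inf.2 ⟨hw, hwc⟩)) (mem_inf.1 hy).2

/-- Balance for the functor. -/
theorem Pair.balance (h : Pair A₁ A₂) {a b : G} (ha : a ∈ A₁ ⊔ A₂) (hb : b ∈ A₁ ⊔ A₂) (hb1 : b ≠ 1) :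
    (side A₁ a ⊓ side A₂ a) ⊓ centralizer ({b} : Set G) ≤ side A₁ b ⊓ side A₂ b := by
  classical
  set θ := side A₁ a ⊓ side A₂ a with hθ
  set Cb := centralizer ({b} : Set G) with hCb
  set D := θ ⊓ Cb with hD
  set O := Cfsg.centralizerPPrimeCore 2 a with hO
  have ha' : a ∈ A₂ ⊔ A₁ := sup_comm A₁ A₂ ▸ ha
  obtain ⟨s1, n1, c1⟩ := h.side_props ha
  obtain ⟨s2, n2, c2⟩ := h.symm.side_props ha'
  rw [sup_comm A₂ A₁] at n2
  have hAb : A₁ ⊔ A₂ ≤ Cb := h.le_centralizer_singleton hb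
  have hAD : A₁ ⊔ A₂ ≤ normalizer (D : Set G) :=
    (le_inf ((le_inf n1 n2).trans normalizer_inf_le) (hAb.trans le_normalizer)).trans normalizer_inf_le
  have hDc : (Nat.card D).Coprime 2 :=
    coprime_two_of_le ((inf_le_left.trans inf_le_left).trans s1) (card_centralizerPPrimeCore_coprime a)
  have hdec : ∀ Ai : Subgroup G, Ai ≤ A₁ ⊔ A₂ → Nat.card Ai = 4 →
      side Ai a ⊓ centralizer (Ai : Set G) ≤ coreOf Ai → D ≤ side Ai a →
      D ≤ ⁅D, Ai⁆ ⊔ (D ⊓ coreOf Ai) := by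
    intro Ai hAi hcard hc hDs
    have hcop : (Nat.card Ai).Coprime (Nat.card D) := by
      rw [hcard, show 4 = 2 ^ 2 by norm_num]; exact hDc.symm.pow_left 2
    conv_lhs => rw [← CfsgLib.Solvable.commutator_sup_centralizer (hAi.trans hAD) hcop
      (Or.inr (isSolvable_of_coprime_two hDc))]
    exact sup_le_sup le_rfl (le_inf inf_le_left ((inf_le_inf_right _ hDs).trans hc))
  have d1 := hdec A₁ le_sup_left h.c1 c1 (inf_le_left.trans inf_le_left)
  have d2 := hdec A₂ le_sup_right h.c2 c2 (inf_le_left.trans inf_le_right)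
  -- `D` lies in the core of `C(b)`
  have hDb : D ≤ Cfsg.centralizerPPrimeCore 2 b := by
    intro x hx
    set π := QuotientGroup.mk' (Cfsg.oddCore ↥Cb) with hπ
    set ab : ↥Cb := ⟨a, hAb ha⟩ with hab
    have hT : IsPGroup 2 (zpowers ab) := by
      have h2 : ab ^ 2 = 1 := Subtype.ext (h.sq_eq_one ha)
      rintro ⟨_, i, rfl⟩
      refine ⟨1, Subtype.ext ?_⟩
      show (ab ^ i) ^ (2 ^ 1) = 1
      rw [pow_one, ← zpow_natCast, ← zpow_mul, mul_comm, zpow_mul, zpow_natCast, h2, one_zpow]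
    refine ⟨⟨x, (mem_inf.1 hx).2⟩, mem_oddCore_of_centralizes hT (D := O.subgroupOf Cb) ?_ ?_ ?_
      (s1 (mem_inf.1 (mem_inf.1 hx).1).1) ?_, rfl⟩
    · rw [← card_map_of_injective Cb.subtype_injective, subgroupOf_map_subtype]
      exact coprime_two_of_le inf_le_left (card_centralizerPPrimeCore_coprime a)
    · intro c hc
      rw [centralizer_zpowers', mem_centralizer_singleton_iff]
      exact Subtype.ext (mem_centralizer_singleton_iff.1 (centralizerPPrimeCore_le a hc))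
    · intro c hc
      rw [mem_normalizer_iff]
      intro y
      show (y : G) ∈ O ↔ (c : G) * y * (c : G)⁻¹ ∈ O
      exact mem_normalizer_iff.1 (centralizer_le_normalizer_core a (mem_centralizer_singleton_iff.2
        (congrArg Subtype.val (mem_centralizer_iff.1 hc ab (mem_zpowers ab))).symm)) y
    intro E hE hnE
    right
    -- the side centralizing `E`
    obtain ⟨Ai, hAi, hAiE, hdi⟩ : ∃ Ai : Subgroup G, Ai ≤ A₁ ⊔ A₂ ∧
        E ≤ centralizer (((Ai.subgroupOf Cb).map π : Subgroup _) : Set _) ∧ D ≤ ⁅D, Ai⁆ ⊔ (D ⊓ coreOf Ai) ∧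
        IsPGroup 2 Ai := by
      have key : ∀ Ai : Subgroup G, Ai ≤ Cb → ∀ K : Subgroup ↥Cb, K.map π = E →
          ⁅K.map Cb.subtype, Ai⁆ ≤ Cfsg.centralizerPPrimeCore 2 b →
          E ≤ centralizer (((Ai.subgroupOf Cb).map π : Subgroup _) : Set _) := by
        intro Ai hAi K hKF hc
        have h1 : ⁅K, Ai.subgroupOf Cb⁆ ≤ Cfsg.oddCore ↥Cb := by
          rw [← map_le_map_iff_of_injective Cb.subtype_injective, map_commutator, map_subgroupOf_eq_of_le hAi]
          exact hc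
        rw [← commutator_eq_bot_iff_le_centralizer, ← hKF, ← map_commutator, eq_bot_iff]
        rintro _ ⟨y, hy, rfl⟩
        exact mem_bot.2 ((QuotientGroup.eq_one_iff y).2 (h1 hy))
      rcases h.sep b hb hb1 _ (isPComponent_pComponentOf (p := 2) hE) with hc | hc
      · exact ⟨A₁, le_sup_left, key A₁ (le_sup_left.trans hAb) _ (map_pComponentOf (p := 2) hE) hc, d1,
          IsPGroup.of_card (n := 2) (by rw [h.c1]; norm_num)⟩
      · exact ⟨A₂, le_sup_right, key A₂ (le_sup_right.trans hAb) _ (map_pComponentOf (p := 2) hE) hc, d2,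
          IsPGroup.of_card (n := 2) (by rw [h.c2]; norm_num)⟩
    obtain ⟨hdi, hAip⟩ := hdi
    suffices hle : D.subgroupOf Cb ≤ (centralizer (E : Set _)).comap π from
      hle (show (⟨x, (mem_inf.1 hx).2⟩ : ↥Cb) ∈ D.subgroupOf Cb from hx)
    rw [← map_le_map_iff_of_injective Cb.subtype_injective, map_subgroupOf_eq_of_le inf_le_right]
    refine hdi.trans (sup_le ?_ ?_)
    · rw [show ⁅D, Ai⁆ = (⁅D.subgroupOf Cb, Ai.subgroupOf Cb⁆).map Cb.subtype by
        rw [map_commutator, map_subgroupOf_eq_of_le inf_le_right, map_subgroupOf_eq_of_le (hAi.trans hAb)]]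
      refine map_mono (map_le_iff_le_comap.1 ?_)
      rw [map_commutator]
      refine commutator_le_centralizer_of_normalizes ?_ (le_centralizer_iff.1 hAiE)
      exact (map_mono (comap_mono ((inf_le_left.trans inf_le_left).trans s1))).trans hnE
    · set R := coreOf Ai ⊓ Cb with hR
      refine le_trans (le_inf inf_le_right (inf_le_left.trans inf_le_right) : D ⊓ coreOf Ai ≤ R) ?_
      rw [← map_subgroupOf_eq_of_le (inf_le_right : R ≤ Cb)]
      refine map_mono (map_le_iff_le_comap.1 ?_)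
      have hRc : (Nat.card ((R.subgroupOf Cb).map π)).Coprime 2 := by
        refine Nat.Coprime.coprime_dvd_left (card_map_dvd _ π) ?_
        rw [Nat.card_congr (subgroupOfEquivOfLe inf_le_right).toEquiv]
        exact coprime_two_of_le inf_le_left (card_map_pPrimeCore_coprime _)
      have hmapC := map_mk'_centralizer_of_coprime (hAip.of_equiv (subgroupOfEquivOfLe (hAi.trans hAb)).symm)
        (coprime_card_pPrimeCore (G := ↥Cb) 2)
      have hn : E ≤ normalizer ((R.subgroupOf Cb).map π : Set _) := by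
        refine hAiE.trans (hmapC.ge.trans ((map_mono ?_).trans (le_normalizer_map π)))
        intro c hc
        rw [mem_normalizer_iff]
        intro y
        show (y : G) ∈ R ↔ (c : G) * y * (c : G)⁻¹ ∈ R
        refine mem_normalizer_iff.1 (normalizer_inf_le (mem_inf.2 ⟨mem_normalizer_pPrimeCore_map (le_normalizer ?_),
          le_normalizer c.2⟩)) y
        exact fun u hu => congrArg Subtype.val (mem_centralizer_iff.1 hc ⟨u, hAb (hAi hu)⟩ hu)
      exact le_centralizer_iff.1 (commutator_eq_bot_iff_le_centralizer.1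
        (component_commutator_solvable hE (isSolvable_of_coprime_two hRc) hn))
  exact le_inf (d1.trans (sup_le_sup (commutator_mono hDb le_rfl) (inf_le_inf_right _ hDb)))
    (d2.trans (sup_le_sup (commutator_mono hDb le_rfl) (inf_le_inf_right _ hDb)))

/-- Let A₁, A₂ be core-separated four-subgroups of the finite group G and A = A₁A₂. For a ∈ G put O_a = O(C_G(a)) and θ a = ⋂_{i=1,2} ( ⁅O_a, A_i⁆ · (O_a ∩ O(C_G(A_i))) ). Then θ is an A-signalizer functor for the prime 2. -/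
theorem result {G : Type*} [Group G] [Finite G] (A₁ A₂ : Subgroup G) (hcs : Cfsg.IsCoreSeparated A₁ A₂) : Cfsg.IsSignalizerFunctor 2 (A₁ ⊔ A₂) (fun a => (⁅Cfsg.centralizerPPrimeCore 2 a, A₁⁆ ⊔ (Cfsg.centralizerPPrimeCore 2 a ⊓ ((Cfsg.oddCore ↥(Subgroup.centralizer ((A₁ : Subgroup G) : Set G))).map (Subgroup.centralizer ((A₁ : Subgroup G) : Set G)).subtype))) ⊓ (⁅Cfsg.centralizerPPrimeCore 2 a, A₂⁆ ⊔ (Cfsg.centralizerPPrimeCore 2 a ⊓ ((Cfsg.oddCore ↥(Subgroup.centralizer ((A₂ : Subgroup G) : Set G))).map (Subgroup.centralizer ((A₂ : Subgroup G) : Set G)).subtype)))) := by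
  obtain ⟨e1, e2, c1, c2, -, -, hcomm, hsep⟩ := hcs
  have h : Pair A₁ A₂ := ⟨e1, e2, c1, c2, hcomm, hsep⟩
  refine ⟨fun a ha _ => ?_, fun a ha _ => ?_, fun a ha _ b hb x hx => ?_, fun a ha _ b hb hb1 => h.balance ha hb hb1⟩
  · exact (inf_le_left.trans (h.side_props ha).1).trans (CfsgLib.Cores.centralizerPPrimeCore_le a)
  · intro hdvd
    have hc : (Nat.card ↥(side A₁ a ⊓ side A₂ a)).Coprime 2 := coprime_two_of_le
      (inf_le_left.trans (h.side_props ha).1) (CfsgLib.Cores.card_centralizerPPrimeCore_coprime a)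
    exact (CfsgLib.Cores.coprime_iff_not_dvd Nat.prime_two _).1 hc hdvd
  · have ha' : a ∈ A₂ ⊔ A₁ := sup_comm A₁ A₂ ▸ ha
    have hb' : b ∈ A₂ ⊔ A₁ := sup_comm A₁ A₂ ▸ hb
    obtain ⟨hx1, hx2⟩ := Subgroup.mem_inf.1 hx
    exact Subgroup.mem_inf.2 ⟨(Subgroup.mem_normalizer_iff.1 ((h.side_props ha).2.1 hb) x).1 hx1,
      (Subgroup.mem_normalizer_iff.1 ((h.symm.side_props ha').2.1 hb') x).1 hx2⟩

end Cfsg.Agent.S1330
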