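import Cfsg.Statements.S1331
import Cfsg.Agent.Lib.Signalizer.Basic
-- import your own Cfsg.Agent.* helpers here

set_option autoImplicit false
open Cfsg

namespace Cfsg.Agent.S1331

/-- Let θ be a solvable A-signalizer functor on the finite group G for the prime p, A elementary abelian of rank at least 3, X a member of the family of θ, and B ≤ A with |B| ≥ p². Then X is generated by the subgroups X ∩ ⋂_{d ∈ D, d ≠ 1} θ d, D ranging over the subgroups of index p in B. -/
theorem result {G : Type*} [Group G] [Finite G] (p : ℕ) [Fact p.Prime] (A : Subgroup G) (hA : Cfsg.IsElementaryAbelian p A) (hA3 : p ^ 3 ≤ Nat.card ↥A) (θ : G → Subgroup G) (hθ : Cfsg.IsSolvableSignalizerFunctor p A θ) (X : Subgroup G) (hX : X ∈ Cfsg.signalizerFamily p A θ) (B : Subgroup G) (hB : B ≤ A) (hB2 : p ^ 2 ≤ Nat.card ↥B) : X = ⨆ D : {D : Subgroup G // D ≤ B ∧ D.relIndex B = p}, X ⊓ Cfsg.signalizerInf (D : Subgroup G) θ := by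
  have hp : p.Prime := Fact.out
  refine le_antisymm ?_ (iSup_le fun D => inf_le_left)
  have hAB := CfsgLib.PGroup.elemAb_mono hA hB
  refine CfsgLib.Cores.le_of_hyperplanes hAB ((CfsgLib.Cores.coprime_iff_not_dvd hp _).2 hX.2.1)
    (hB.trans (CfsgLib.Signalizer.le_normalizer_of_mem hX)) fun D hDB hD => ?_
  obtain ⟨n, hn⟩ := CfsgLib.PGroup.elemAb_card hAB
  have key : ∀ D' : Subgroup G, D' ≤ D → D'.relIndex B = p → X ⊓ Subgroup.centralizer (D : Set G) ≤
      ⨆ E : {E : Subgroup G // E ≤ B ∧ E.relIndex B = p}, X ⊓ Cfsg.signalizerInf (E : Subgroup G) θ := by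
    intro D' h' hD'
    refine le_trans (le_trans (inf_le_inf_left X (Subgroup.centralizer_le h')) ?_)
      (le_iSup (fun E : {E : Subgroup G // E ≤ B ∧ E.relIndex B = p} => X ⊓ Cfsg.signalizerInf (E : Subgroup G) θ)
        ⟨D', h'.trans hDB, hD'⟩)
    exact le_inf inf_le_left (CfsgLib.Signalizer.inf_centralizer_le_signalizerInf ((h'.trans hDB).trans hB) hX)
  obtain ⟨k, -, hk⟩ := (Nat.dvd_prime_pow hp).1 (hn ▸ Subgroup.relIndex_dvd_card D B)
  rcases k with _ | _ | k
  · rw [pow_zero, Subgroup.relIndex_eq_one] at hk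
    obtain rfl : D = B := le_antisymm hDB hk
    obtain ⟨E, hE⟩ := Sylow.exists_subgroup_card_pow_prime p (G := D) (n := n - 1)
      (by rw [hn]; exact pow_dvd_pow _ (Nat.sub_le _ _))
    refine key (E.map D.subtype) (Subgroup.map_subtype_le _) ?_
    have hidx : E.index = p := by
      have h1 := E.card_mul_index
      rw [hE, hn] at h1
      have hn1 : 1 ≤ n := by
        by_contra h0
        rw [show n = 0 by omega, pow_zero] at hn
        rw [hn] at hB2
        nlinarith [hp.two_le]
      have h2 : p ^ (n - 1) * p = p ^ n := by rw [← pow_succ, Nat.sub_add_cancel hn1]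
      exact Nat.eq_of_mul_eq_mul_left (pow_pos hp.pos _) (h1.trans h2.symm)
    rw [Subgroup.relIndex, Subgroup.subgroupOf, Subgroup.comap_map_eq_self_of_injective D.subtype_injective, hidx]
  · exact key D le_rfl (hk.trans (pow_one p))
  · exfalso
    rw [hk] at hD
    have : p ^ 2 ≤ p ^ (k + 2) := Nat.pow_le_pow_right hp.pos (by omega)
    nlinarith [hp.two_le]

end Cfsg.Agent.S1331
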