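import Cfsg.Statements.S1335
import Cfsg.Agent.Lib.Cores.Basic
-- import your own Cfsg.Agent.* helpers here

set_option autoImplicit false
open Cfsg

namespace Cfsg.Agent.S1335

/-- Let H be a subgroup of the finite group G, p a prime, k ≥ 1, P a Sylow p-subgroup of H of p-rank at least k, and suppose N_G(X) ≤ H for every subgroup X ≤ P of p-rank at least k. Then P is a Sylow p-subgroup of G. -/
theorem result {G : Type*} [Group G] [Finite G] {p : ℕ} [Fact p.Prime] (k : ℕ) (hk : 1 ≤ k) (H : Subgroup G) (P : Sylow p ↥H) (hP : ¬ Cfsg.PRankLE p (k - 1) ↥(P : Subgroup ↥H)) (hΓ : (∀ X : Subgroup G, X ≤ (P : Subgroup ↥H).map H.subtype → ¬ Cfsg.PRankLE p (k - 1) ↥X → Subgroup.normalizer (X : Set G) ≤ H)) : ∃ Q : Sylow p G, (Q : Subgroup G) = (P : Subgroup ↥H).map H.subtype := by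
  set P' := (P : Subgroup ↥H).map H.subtype
  have hp' : IsPGroup p ↥P' := P.2.map _
  obtain ⟨Q, hQ⟩ := hp'.exists_le_sylow
  refine ⟨Q, le_antisymm ?_ hQ⟩
  have hrk : ¬ Cfsg.PRankLE p (k - 1) ↥P' := by
    intro h
    apply hP
    intro A hA hAp
    let e := Subgroup.equivMapOfInjective (P : Subgroup ↥H) H.subtype H.subtype_injective
    have hc : IsMulCommutative ↥(A.map e.toMonoidHom) := by
      refine ⟨⟨?_⟩⟩
      rintro ⟨_, a, ha, rfl⟩ ⟨_, b, hb, rfl⟩
      refine Subtype.ext ?_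
      show e a * e b = e b * e a
      rw [← map_mul, ← map_mul]
      exact congrArg e (congrArg Subtype.val (hA.is_comm.comm ⟨a, ha⟩ ⟨b, hb⟩))
    have h' := h _ hc (by
      rintro _ ⟨a, ha, rfl⟩
      show e a ^ p = 1
      rw [← map_pow, hAp a ha, map_one])
    rwa [Subgroup.card_map_of_injective (f := e.toMonoidHom) e.injective] at h'
  have hN : Subgroup.normalizer (P' : Set G) ≤ H := hΓ P' le_rfl hrk
  by_contra hne
  have hlt : P'.subgroupOf (Q : Subgroup G) < ⊤ := by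
    refine lt_top_iff_ne_top.2 fun h => hne ?_
    exact Subgroup.subgroupOf_eq_top.1 h
  have hnil : Group.IsNilpotent ↥(Q : Subgroup G) := Q.2.isNilpotent
  obtain ⟨x, hxN, hxP⟩ := SetLike.exists_of_lt (normalizerCondition_of_isNilpotent (P'.subgroupOf (Q : Subgroup G)) hlt)
  have hxG : (x : G) ∈ Subgroup.normalizer (P' : Set G) := by
    rw [Subgroup.mem_normalizer_iff]
    intro g
    have hx := Subgroup.mem_normalizer_iff.1 hxN
    constructor
    · intro hg
      exact (hx ⟨g, hQ hg⟩).1 hg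
    · intro hg
      have hgQ : g ∈ (Q : Subgroup G) := by
        have h' := mul_mem (mul_mem (inv_mem x.2) (hQ hg)) x.2
        simpa [mul_assoc] using h'
      exact (hx ⟨g, hgQ⟩).2 hg
  have hsup : IsPGroup p ↥(((Q : Subgroup G) ⊓ Subgroup.normalizer (P' : Set G)).subgroupOf H) :=
    (Q.2.to_le (inf_le_left : (Q : Subgroup G) ⊓ Subgroup.normalizer (P' : Set G) ≤ _)).of_equiv
      (Subgroup.subgroupOfEquivOfLe (inf_le_right.trans hN)).symm
  have hle : (P : Subgroup ↥H) ≤ ((Q : Subgroup G) ⊓ Subgroup.normalizer (P' : Set G)).subgroupOf H := fun y hy =>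
    ⟨hQ ⟨y, hy, rfl⟩, Subgroup.le_normalizer ⟨y, hy, rfl⟩⟩
  have heq := P.3 hsup hle
  apply hxP
  show (x : G) ∈ P'
  exact ⟨⟨x, hN hxG⟩, heq.le ⟨x.2, hxG⟩, rfl⟩

end Cfsg.Agent.S1335
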