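import Cfsg.Statements.S1336
import Cfsg.Agent.Lib.PGroup.ElemAbelian
-- import your own Cfsg.Agent.* helpers here

set_option autoImplicit false
open Cfsg

namespace Cfsg.Agent.S1336

/-- Let G be finite and p prime. Then G has a proper subgroup H with p ∣ |H| and p ∤ |H ∩ gHg⁻¹| for every g ∉ H (a strongly p-embedded subgroup) if and only if G is not 1-connected for p. -/
theorem result {G : Type*} [Group G] [Finite G] (p : ℕ) [Fact p.Prime] : (∃ H : Subgroup G, H ≠ ⊤ ∧ p ∣ Nat.card ↥H ∧ ∀ g : G, g ∉ H → ¬ p ∣ Nat.card ↥(H ⊓ H.map (MulAut.conj g).toMonoidHom)) ↔ ¬ Cfsg.IsKConnected p 1 G := by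
  classical
  have hp : p.Prime := Fact.out
  let r : Subgroup G → Subgroup G → Prop := fun A B => Cfsg.IsElementaryAbelian p A ∧ p ^ 1 ≤ Nat.card ↥A ∧
    Cfsg.IsElementaryAbelian p B ∧ p ^ 1 ≤ Nat.card ↥B ∧ ∀ a ∈ A, ∀ b ∈ B, a * b = b * a
  have hsymm : ∀ {A B}, Relation.ReflTransGen r A B → Relation.ReflTransGen r B A := by
    intro A B h
    induction h with
    | refl => exact .refl
    | tail _ h' ih =>
      exact .head ⟨h'.2.2.1, h'.2.2.2.1, h'.1, h'.2.1, fun a ha b hb => (h'.2.2.2.2 b hb a ha).symm⟩ ih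
  have hvert : ∀ x : G, orderOf x = p →
      Cfsg.IsElementaryAbelian p (Subgroup.zpowers x) ∧ p ^ 1 ≤ Nat.card ↥(Subgroup.zpowers x) := by
    intro x hx
    refine ⟨CfsgLib.PGroup.isElementaryAbelian_mk ?_ ?_, by rw [Nat.card_zpowers, hx, pow_one]⟩
    · rintro _ ⟨i, rfl⟩ _ ⟨j, rfl⟩
      exact (Commute.zpow_zpow_self x i j).eq
    · rintro _ ⟨i, rfl⟩
      show (x ^ i) ^ p = 1
      rw [← zpow_natCast, zpow_comm, zpow_natCast, ← hx, pow_orderOf_eq_one, one_zpow]
  have hadj : ∀ x y : G, orderOf x = p → orderOf y = p → x * y = y * x →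
      r (Subgroup.zpowers x) (Subgroup.zpowers y) := by
    refine fun x y hx hy h => ⟨(hvert x hx).1, (hvert x hx).2, (hvert y hy).1, (hvert y hy).2, ?_⟩
    rintro _ ⟨i, rfl⟩ _ ⟨j, rfl⟩
    exact (Commute.zpow_zpow h i j).eq
  have helem : ∀ E : Subgroup G, Cfsg.IsElementaryAbelian p E → p ^ 1 ≤ Nat.card ↥E →
      ∃ e ∈ E, orderOf e = p ∧ r E (Subgroup.zpowers e) := by
    intro E hE hcard
    rw [pow_one] at hcard
    obtain ⟨e, he, he1⟩ := E.bot_or_exists_ne_one.resolve_left fun h => by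
      rw [h, Subgroup.card_bot] at hcard
      exact absurd hp.two_le (by omega)
    refine ⟨e, he, orderOf_eq_prime (hE.2 e he) he1, hE, by rwa [pow_one],
      (hvert e (orderOf_eq_prime (hE.2 e he) he1)).1, (hvert e (orderOf_eq_prime (hE.2 e he) he1)).2, ?_⟩
    intro a ha b hb
    exact CfsgLib.PGroup.elemAb_comm hE ha (Subgroup.zpowers_le.2 he hb)
  constructor
  · rintro ⟨H, hH, hpH, hTI⟩ hconn
    obtain ⟨x₀, hx₀⟩ := exists_prime_orderOf_dvd_card' p hpH
    have hxo : orderOf (x₀ : G) = p := by rw [Subgroup.orderOf_coe]; exact hx₀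
    have hcen : ∀ f ∈ H, orderOf f = p → ∀ g : G, f * g = g * f → g ∈ H := by
      intro f hf hfo g hg
      by_contra hgH
      apply hTI g hgH
      have hmem : f ∈ H ⊓ H.map (MulAut.conj g).toMonoidHom := by
        refine ⟨hf, f, hf, ?_⟩
        show g * f * g⁻¹ = f
        rw [← hg, mul_inv_cancel_right]
      exact hfo ▸ Subgroup.orderOf_dvd_natCard _ hmem
    have hreach : ∀ E, Relation.ReflTransGen r (Subgroup.zpowers (x₀ : G)) E → E ≤ H := by
      intro E hE
      induction hE with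
      | refl => exact Subgroup.zpowers_le.2 x₀.2
      | tail _ h' ih =>
        obtain ⟨f, hf, hfo, -⟩ := helem _ h'.1 h'.2.1
        exact fun b hb => hcen f (ih hf) hfo b (h'.2.2.2.2 f hf b hb)
    obtain ⟨g, -, hg⟩ := SetLike.exists_of_lt hH.lt_top
    have hgx : orderOf (g⁻¹ * x₀ * g) = p := by
      rw [← hxo]
      simpa using orderOf_injective (MulAut.conj g⁻¹).toMonoidHom (MulAut.conj g⁻¹).injective (x₀ : G)
    have h1 := hreach _ (hconn _ _ (hvert _ hxo).1 (hvert _ hxo).2 (hvert _ hgx).1 (hvert _ hgx).2)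
    apply hTI g hg
    have hmem : (x₀ : G) ∈ H ⊓ H.map (MulAut.conj g).toMonoidHom := by
      refine ⟨x₀.2, _, h1 (Subgroup.mem_zpowers _), ?_⟩
      show g * (g⁻¹ * x₀ * g) * g⁻¹ = (x₀ : G)
      group
    exact hxo ▸ Subgroup.orderOf_dvd_natCard _ hmem
  intro hnot
  obtain ⟨E, E', hE, hEc, hE', hE'c, hne⟩ : ∃ E E' : Subgroup G, Cfsg.IsElementaryAbelian p E ∧
      p ^ 1 ≤ Nat.card ↥E ∧ Cfsg.IsElementaryAbelian p E' ∧ p ^ 1 ≤ Nat.card ↥E' ∧ ¬ Relation.ReflTransGen r E E' := by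
    simp only [Cfsg.IsKConnected, not_forall] at hnot
    obtain ⟨E, E', h1, h2, h3, h4, h5⟩ := hnot
    exact ⟨E, E', h1, h2, h3, h4, h5⟩
  obtain ⟨P⟩ : Nonempty (Sylow p G) := inferInstance
  obtain ⟨e, he, heo, -⟩ := helem E hE hEc
  have hPb : (P : Subgroup G) ≠ ⊥ := P.ne_bot_of_dvd_card (heo ▸ orderOf_dvd_natCard e)
  have hPn : Nontrivial ↥(P : Subgroup G) := (Subgroup.nontrivial_iff_ne_bot _).2 hPb
  have hZn : Nontrivial ↥(Subgroup.center ↥(P : Subgroup G)) := P.2.center_nontrivial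
  obtain ⟨⟨⟨z, hzP⟩, hzc⟩, hzo⟩ := exists_prime_orderOf_dvd_card' (G := ↥(Subgroup.center ↥(P : Subgroup G))) p
    ((P.2.to_subgroup _).card_eq_or_dvd.resolve_left fun h1 => by
      have := Finite.one_lt_card (α := ↥(Subgroup.center ↥(P : Subgroup G)))
      omega)
  rw [← Subgroup.orderOf_coe, ← Subgroup.orderOf_coe] at hzo
  replace hzo : orderOf z = p := hzo
  have hord : ∀ g x : G, orderOf (g * x * g⁻¹) = orderOf x := fun g x => by
    simpa using orderOf_injective (MulAut.conj g).toMonoidHom (MulAut.conj g).injective x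
  have hconj : ∀ (g x y : G), Relation.ReflTransGen r (Subgroup.zpowers x) (Subgroup.zpowers y) →
      Relation.ReflTransGen r (Subgroup.zpowers (g * x * g⁻¹)) (Subgroup.zpowers (g * y * g⁻¹)) := by
    intro g x y h
    have h2 := Relation.ReflTransGen.mono (p := r) (fun _ _ h => h) _ _ (h.lift (fun A => A.map (MulAut.conj g).toMonoidHom)
      (p := r) fun A B h' => ⟨CfsgLib.PGroup.elemAb_map h'.1 _,
        by rw [Subgroup.card_map_of_injective (MulAut.conj g).injective]; exact h'.2.1,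
        CfsgLib.PGroup.elemAb_map h'.2.2.1 _,
        by rw [Subgroup.card_map_of_injective (MulAut.conj g).injective]; exact h'.2.2.2.1,
        by rintro _ ⟨a, ha, rfl⟩ _ ⟨b, hb, rfl⟩; rw [← map_mul, h'.2.2.2.2 a ha b hb, map_mul]⟩)
    simp only [MonoidHom.map_zpowers] at h2
    exact h2
  let H : Subgroup G :=
    { carrier := {g | Relation.ReflTransGen r (Subgroup.zpowers z) (Subgroup.zpowers (g * z * g⁻¹))}
      one_mem' := by simp only [Set.mem_setOf_eq, one_mul, inv_one, mul_one]; exact .refl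
      mul_mem' := fun {a b} ha hb => by
        have := hconj a _ _ hb
        simp only [Set.mem_setOf_eq] at ha ⊢
        rw [show a * b * z * (a * b)⁻¹ = a * (b * z * b⁻¹) * a⁻¹ by group]
        exact ha.trans this
      inv_mem' := fun {a} ha => by
        have := hconj a⁻¹ _ _ ha
        rw [show a⁻¹ * (a * z * a⁻¹) * a⁻¹⁻¹ = z by group] at this
        exact hsymm this }
  have hPH : (P : Subgroup G) ≤ H := by
    intro g hg
    have : g * z = z * g := congrArg Subtype.val (Subgroup.mem_center_iff.1 hzc ⟨g, hg⟩)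
    show Relation.ReflTransGen r (Subgroup.zpowers z) (Subgroup.zpowers (g * z * g⁻¹))
    rw [this, mul_inv_cancel_right]
  have hcomp : ∀ h ∈ H, ∀ x : G, orderOf x = p → h⁻¹ * x * h ∈ (P : Subgroup G) →
      Relation.ReflTransGen r (Subgroup.zpowers z) (Subgroup.zpowers x) := by
    intro h hh x hx hxP
    refine Relation.ReflTransGen.tail hh (hadj _ _ ((hord h z).trans hzo) hx ?_)
    have h1 : h⁻¹ * x * h * z = z * (h⁻¹ * x * h) :=
      congrArg Subtype.val (Subgroup.mem_center_iff.1 hzc ⟨_, hxP⟩)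
    calc h * z * h⁻¹ * x = h * (z * (h⁻¹ * x * h)) * h⁻¹ := by group
      _ = h * (h⁻¹ * x * h * z) * h⁻¹ := by rw [h1]
      _ = x * (h * z * h⁻¹) := by group
  refine ⟨H, fun htop => hne ?_, ?_, fun g hg hdvd => hg ?_⟩
  · have hall : ∀ F, Cfsg.IsElementaryAbelian p F → p ^ 1 ≤ Nat.card ↥F → Relation.ReflTransGen r (Subgroup.zpowers z) F := by
      intro F hF hFc
      obtain ⟨f, hf, hfo, hadjF⟩ := helem F hF hFc
      obtain ⟨Q, hQ⟩ := (IsPGroup.of_card (n := 1) (show Nat.card ↥(Subgroup.zpowers f) = p ^ 1 by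
        rw [Nat.card_zpowers, hfo, pow_one])).exists_le_sylow
      obtain ⟨g, hg⟩ := MulAction.exists_smul_eq G Q P
      refine (hcomp g⁻¹ (htop ▸ Subgroup.mem_top _) f hfo ?_).trans (hsymm (.single hadjF))
      rw [inv_inv, ← hg, Sylow.coe_subgroup_smul]
      exact Subgroup.smul_mem_pointwise_smul _ (MulAut.conj g) _ (hQ (Subgroup.mem_zpowers f))
    exact (hsymm (hall E hE hEc)).trans (hall E' hE' hE'c)
  · exact hzo ▸ Subgroup.orderOf_dvd_natCard H (hPH hzP)
  · obtain ⟨⟨x, hxH, y, hyH, hyx⟩, hxo⟩ := exists_prime_orderOf_dvd_card' p hdvd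
    rw [← Subgroup.orderOf_coe] at hxo
    replace hxo : orderOf x = p := hxo
    replace hyx : g * y * g⁻¹ = x := hyx
    have hyo : orderOf y = p := by rw [← hord g y, hyx, hxo]
    have key : ∀ u ∈ H, orderOf u = p → Relation.ReflTransGen r (Subgroup.zpowers z) (Subgroup.zpowers u) := by
      intro u hu huo
      obtain ⟨Q, hQ⟩ := (IsPGroup.of_card (n := 1) (show Nat.card ↥((Subgroup.zpowers u).subgroupOf H) = p ^ 1 by
        rw [Nat.card_congr (Subgroup.subgroupOfEquivOfLe (Subgroup.zpowers_le.2 hu)).toEquiv, Nat.card_zpowers,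
          huo, pow_one])).exists_le_sylow
      obtain ⟨k, hk⟩ := MulAction.exists_smul_eq ↥H Q (P.subtype hPH)
      refine hcomp (k⁻¹ : G) (inv_mem k.2) u huo ?_
      rw [inv_inv]
      have h1 : k * ⟨u, hu⟩ * k⁻¹ ∈ ((P.subtype hPH : Sylow p ↥H) : Subgroup ↥H) := by
        rw [← hk, Sylow.coe_subgroup_smul]
        exact Subgroup.smul_mem_pointwise_smul _ (MulAut.conj k) _ (hQ (Subgroup.mem_zpowers u))
      exact h1
    have h2 := hconj g _ _ (hsymm (key y hyH hyo))
    rw [hyx] at h2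
    exact (key x hxH hxo).trans h2

end Cfsg.Agent.S1336
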