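import Cfsg.Statements.S1338
import Cfsg.Agent.Lib.Cores.RankThree
-- import your own Cfsg.Agent.* helpers here

set_option autoImplicit false
open Cfsg

namespace Cfsg.Agent.S1338

/-- A finite 3-group of 3-rank at least 4 is 2-connected for the prime 3: its commuting graph on elementary abelian subgroups of order ≥ 9 is connected. -/
theorem result {P : Type*} [Group P] [Finite P] (hP : IsPGroup 3 P) (hrk : ¬ Cfsg.PRankLE 3 3 P) : Cfsg.IsKConnected 3 2 P := by
  have hrk2 : ¬ Cfsg.PRankLE 3 2 P := fun h => hrk (CfsgLib.PGroup.pRankLE_mono (by norm_num) (by norm_num) h)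
  haveI : Fact (Nat.Prime 3) := ⟨Nat.prime_three⟩
  obtain ⟨U, hUn, hU, hUc⟩ := CfsgLib.RankGraph.exists_normal_sq hP hrk2
  intro E E' hE hE2 hE' hE2'
  have h1 := (CfsgLib.RankGraph.reach_iff hP hrk2 hUn hU hUc hE hE2).2
    (CfsgLib.RankGraph.centralizer_rank hP hrk hE hE2)
  have h2 := (CfsgLib.RankGraph.reach_iff hP hrk2 hUn hU hUc hE' hE2').2
    (CfsgLib.RankGraph.centralizer_rank hP hrk hE' hE2')
  have hsym : ∀ A B : Subgroup P, Relation.ReflTransGen (CfsgLib.RankGraph.Adj 3) A B →
      Relation.ReflTransGen (CfsgLib.RankGraph.Adj 3) B A := by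
    intro A B h
    induction h with
    | refl => exact Relation.ReflTransGen.refl
    | tail _ hadj ih => exact Relation.ReflTransGen.head hadj.symm ih
  exact h1.trans (hsym _ _ h2)

end Cfsg.Agent.S1338
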