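import Cfsg.Statements.S1339
import Cfsg.Agent.Lib.LocalEven.CharP
import Cfsg.Agent.Lib.Cores.Basic
-- import your own Cfsg.Agent.* helpers here

set_option autoImplicit false
open Cfsg

namespace Cfsg.Agent.S1339

/-- Let F be a field with 2 elements, n ≥ 3, and t ∈ SL(n, F) a transvection (t = 1 + E_{ij}, i ≠ j). Then the generalized Fitting subgroup of C(t) is O_2(C(t)). -/
theorem result {F : Type*} [Field F] [Fintype F] [DecidableEq F] (hF : Fintype.card F = 2) (n : ℕ) (hn : 3 ≤ n) (i j : Fin n) (hij : i ≠ j) (t : Matrix.SpecialLinearGroup (Fin n) F) (ht : (t : Matrix (Fin n) (Fin n) F) = Matrix.transvection i j 1) : Cfsg.generalizedFittingSubgroup ↥(Subgroup.centralizer ({t} : Set (Matrix.SpecialLinearGroup (Fin n) F))) = Cfsg.pCore 2 ↥(Subgroup.centralizer ({t} : Set (Matrix.SpecialLinearGroup (Fin n) F))) := by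
  haveI : Fact (Nat.Prime 2) := ⟨Nat.prime_two⟩
  set C := Subgroup.centralizer ({t} : Set (Matrix.SpecialLinearGroup (Fin n) F)) with hCdef
  have hF2 : ∀ x : F, x = 0 ∨ x = 1 := by
    intro x
    by_contra h
    push Not at h
    have h3 : ({0, 1, x} : Finset F).card = 3 := by
      rw [Finset.card_insert_of_notMem (by simp [h.1.symm]), Finset.card_insert_of_notMem (by simp [h.2.symm]),
        Finset.card_singleton]
    have := Finset.card_le_univ ({0, 1, x} : Finset F)
    omega
  have h11 : (1 : F) + 1 = 0 := (hF2 (1 + 1)).resolve_right fun h => one_ne_zero (α := F) (by linear_combination h)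
  have hC : ∀ g : C, (∀ x, x ≠ i → g.1.1 x i = 0) ∧ (∀ y, y ≠ j → g.1.1 j y = 0) ∧
      g.1.1 i i = g.1.1 j j := by
    intro g
    have h := congrArg (fun z : Matrix.SpecialLinearGroup (Fin n) F => z.1)
      (Subgroup.mem_centralizer_singleton_iff.1 g.2 : g.1 * t = t * g.1)
    change g.1.1 * t.1 = t.1 * g.1.1 at h
    rw [ht, Matrix.transvection, mul_add, add_mul, mul_one, one_mul, add_right_inj] at h
    refine ⟨fun x hx => ?_, fun y hy => ?_, ?_⟩
    · have := congrFun (congrFun h x) j
      simpa [Matrix.mul_single_apply_same, Matrix.single_mul_apply_of_ne, hx] using this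
    · have := congrFun (congrFun h i) y
      simpa [Matrix.mul_single_apply_of_ne, Matrix.single_mul_apply_same, hy, eq_comm] using this
    · have := congrFun (congrFun h i) j
      simpa [Matrix.mul_single_apply_same, Matrix.single_mul_apply_same] using this
  let mid : C → Matrix {k // k ≠ i ∧ k ≠ j} {k // k ≠ i ∧ k ≠ j} F := fun g => g.1.1.submatrix Subtype.val Subtype.val
  have hmul : ∀ g h : C, mid (g * h) = mid g * mid h := by
    intro g h
    ext x y
    show (g.1.1 * h.1.1) x.1 y.1 = ∑ k, mid g x k * mid h k y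
    rw [Matrix.mul_apply]
    refine Eq.trans ?_ (Finset.sum_subtype (F := inferInstance) (Finset.univ.filter fun k => k ≠ i ∧ k ≠ j)
      (by simp) (fun k => g.1.1 x.1 k * h.1.1 k y.1))
    symm
    refine Finset.sum_subset (Finset.filter_subset _ _) fun k _ hk => ?_
    simp only [Finset.mem_filter, Finset.mem_univ, true_and, not_and_or, not_not] at hk
    rcases hk with rfl | rfl
    · rw [(hC g).1 _ x.2.1, zero_mul]
    · rw [(hC h).2.1 _ y.2.2, mul_zero]
  let φ : C →* Matrix {k // k ≠ i ∧ k ≠ j} {k // k ≠ i ∧ k ≠ j} F :=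
    { toFun := mid
      map_one' := by
        ext x y
        simp [mid, Matrix.one_apply, Subtype.ext_iff]
      map_mul' := hmul }
  have hone : ∀ g : C, g.1.1 i i = 1 := by
    intro g
    refine (hF2 _).resolve_left fun h0 => ?_
    have hcol : ∀ x, g.1.1 x i = 0 := fun x => by
      rcases eq_or_ne x i with rfl | hx
      · exact h0
      · exact (hC g).1 x hx
    have := g.1.2
    rw [Matrix.det_eq_zero_of_column_eq_zero i hcol] at this
    exact zero_ne_one this
  have hQ2 : IsPGroup 2 φ.ker := by
    rintro ⟨g, hg⟩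
    refine ⟨2, Subtype.ext (Subtype.ext (Subtype.ext ?_))⟩
    show ((g.1 ^ (2 ^ 2) : Matrix.SpecialLinearGroup (Fin n) F) : Matrix (Fin n) (Fin n) F) = 1
    rw [Matrix.SpecialLinearGroup.coe_pow]
    set N := g.1.1 - 1 with hN
    have hNz : ∀ x y, x ≠ i → y ≠ j → N x y = 0 := by
      intro x y hx hy
      rw [hN, Matrix.sub_apply]
      rcases eq_or_ne x j with rfl | hxj
      · rw [(hC g).2.1 y hy, Matrix.one_apply_ne hy.symm, sub_zero]
      rcases eq_or_ne y i with rfl | hyi
      · rw [(hC g).1 x hx, Matrix.one_apply_ne hx, sub_zero]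
      have := congrFun (congrFun (show mid g = 1 from hg) ⟨x, hx, hxj⟩) ⟨y, hyi, hy⟩
      change g.1.1 x y = _ at this
      rw [this]
      rcases eq_or_ne x y with rfl | hxy
      · simp
      · simp [Matrix.one_apply, hxy]
    have hNii : ∀ x, N x i = 0 := fun x => by
      rcases eq_or_ne x i with rfl | hx
      · rw [hN, Matrix.sub_apply, hone, Matrix.one_apply_eq, sub_self]
      · exact hNz x i hx hij
    have hNjj : ∀ y, N j y = 0 := fun y => by
      rcases eq_or_ne y j with rfl | hy
      · rw [hN, Matrix.sub_apply, ← (hC g).2.2, hone, Matrix.one_apply_eq, sub_self]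
      · exact hNz j y hij.symm hy
    have hN2 : ∀ x y, x ≠ i ∨ y ≠ j → (N * N) x y = 0 := fun x y hxy => by
      rw [Matrix.mul_apply]
      refine Finset.sum_eq_zero fun k _ => ?_
      rcases eq_or_ne k i with rfl | hki
      · rw [hNii, zero_mul]
      rcases eq_or_ne k j with rfl | hkj
      · rw [hNjj, mul_zero]
      rcases hxy with hx | hy
      · rw [hNz x k hx hkj, zero_mul]
      · rw [hNz k y hki hy, mul_zero]
    have hN4 : (N * N) * (N * N) = 0 := by
      ext x y
      rw [Matrix.mul_apply, Matrix.zero_apply]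
      refine Finset.sum_eq_zero fun k _ => ?_
      rcases eq_or_ne k j with rfl | hk
      · rw [hN2 k y (Or.inl hij.symm), mul_zero]
      · rw [hN2 x k (Or.inr hk), zero_mul]
    have hdd : ∀ M : Matrix (Fin n) (Fin n) F, M + M = 0 := fun M => by
      ext x y
      rw [Matrix.add_apply, Matrix.zero_apply, ← two_mul, show (2 : F) = 0 by rw [← h11]; norm_num, zero_mul]
    have hg' : g.1.1 = 1 + N := by rw [hN]; abel
    calc g.1.1 ^ (2 ^ 2) = (1 + N) * (1 + N) * ((1 + N) * (1 + N)) := by rw [hg']; simp [pow_succ, mul_assoc]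
      _ = (1 + N * N) * (1 + N * N) := by
          rw [show (1 + N) * (1 + N) = 1 + N * N + (N + N) by noncomm_ring, hdd, add_zero]
      _ = 1 + N * N * (N * N) + (N * N + N * N) := by noncomm_ring
      _ = 1 := by rw [hdd, hN4, add_zero, add_zero]
  have hcen : Subgroup.centralizer (φ.ker : Set C) ≤ φ.ker := by
    intro g hg
    show mid g = 1
    ext x y
    let T : Matrix.SpecialLinearGroup (Fin n) F := Matrix.SpecialLinearGroup.transvection x.2.2 (1 : F)
    have hT : T ∈ C := by
      rw [hCdef, Subgroup.mem_centralizer_singleton_iff]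
      refine Subtype.ext ?_
      show Matrix.transvection x.1 j (1 : F) * t.1 = t.1 * Matrix.transvection x.1 j (1 : F)
      rw [ht]
      have h0 : Matrix.single i j (1 : F) * Matrix.single x.1 j 1 = 0 := by
        ext a b; rw [Matrix.mul_apply, Matrix.zero_apply]; refine Finset.sum_eq_zero fun k _ => ?_; simp only [Matrix.single_apply]; split_ifs with p1 p2 <;> first | simp only [mul_zero, zero_mul] | exact absurd (p2.1.trans p1.2.symm) hij | exact absurd (p2.1.trans p1.2.symm) x.2.2 | exact absurd (p2.1.trans p1.2.symm) y.2.2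
      have h1 : Matrix.single x.1 j (1 : F) * Matrix.single i j 1 = 0 := by
        ext a b; rw [Matrix.mul_apply, Matrix.zero_apply]; refine Finset.sum_eq_zero fun k _ => ?_; simp only [Matrix.single_apply]; split_ifs with p1 p2 <;> first | simp only [mul_zero, zero_mul] | exact absurd (p2.1.trans p1.2.symm) hij | exact absurd (p2.1.trans p1.2.symm) x.2.2 | exact absurd (p2.1.trans p1.2.symm) y.2.2
      simp only [Matrix.transvection, mul_add, add_mul, mul_one, one_mul, h0, h1]
      abel
    have hTk : (⟨T, hT⟩ : C) ∈ φ.ker := by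
      show mid ⟨T, hT⟩ = 1
      ext a b
      show Matrix.transvection x.1 j (1 : F) a.1 b.1 = _
      simp [Matrix.transvection, Matrix.one_apply, Matrix.single_apply, Subtype.ext_iff, Ne.symm b.2.2]
    have h := congrArg (fun z : C => z.1.1) (Subgroup.mem_centralizer_iff.1 hg _ hTk)
    change Matrix.transvection x.1 j (1 : F) * g.1.1 = g.1.1 * Matrix.transvection x.1 j (1 : F) at h
    rw [Matrix.transvection, add_mul, mul_add, one_mul, mul_one, add_right_inj] at h
    show g.1.1 x.1 y.1 = _
    rcases eq_or_ne x y with rfl | hxy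
    · have := congrFun (congrFun h x.1) j
      simp [Matrix.mul_single_apply_same, Matrix.single_mul_apply_same] at this
      rw [Matrix.one_apply_eq, ← this, ← (hC g).2.2, hone]
    · rw [Matrix.one_apply_ne hxy]
      let Ty : Matrix.SpecialLinearGroup (Fin n) F := Matrix.SpecialLinearGroup.transvection y.2.2 (1 : F)
      have hTy : Ty ∈ C := by
        rw [hCdef, Subgroup.mem_centralizer_singleton_iff]
        refine Subtype.ext ?_
        show Matrix.transvection y.1 j (1 : F) * t.1 = t.1 * Matrix.transvection y.1 j (1 : F)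
        rw [ht]
        have h0 : Matrix.single i j (1 : F) * Matrix.single y.1 j 1 = 0 := by
          ext a b; rw [Matrix.mul_apply, Matrix.zero_apply]; refine Finset.sum_eq_zero fun k _ => ?_; simp only [Matrix.single_apply]; split_ifs with p1 p2 <;> first | simp only [mul_zero, zero_mul] | exact absurd (p2.1.trans p1.2.symm) hij | exact absurd (p2.1.trans p1.2.symm) x.2.2 | exact absurd (p2.1.trans p1.2.symm) y.2.2
        have h1 : Matrix.single y.1 j (1 : F) * Matrix.single i j 1 = 0 := by
          ext a b; rw [Matrix.mul_apply, Matrix.zero_apply]; refine Finset.sum_eq_zero fun k _ => ?_; simp only [Matrix.single_apply]; split_ifs with p1 p2 <;> first | simp only [mul_zero, zero_mul] | exact absurd (p2.1.trans p1.2.symm) hij | exact absurd (p2.1.trans p1.2.symm) x.2.2 | exact absurd (p2.1.trans p1.2.symm) y.2.2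
        simp only [Matrix.transvection, mul_add, add_mul, mul_one, one_mul, h0, h1]
        abel
      have hTyk : (⟨Ty, hTy⟩ : C) ∈ φ.ker := by
        show mid ⟨Ty, hTy⟩ = 1
        ext a b
        show Matrix.transvection y.1 j (1 : F) a.1 b.1 = _
        simp [Matrix.transvection, Matrix.one_apply, Matrix.single_apply, Subtype.ext_iff, Ne.symm b.2.2]
      have h' := congrArg (fun z : C => z.1.1) (Subgroup.mem_centralizer_iff.1 hg _ hTyk)
      change Matrix.transvection y.1 j (1 : F) * g.1.1 = g.1.1 * Matrix.transvection y.1 j (1 : F) at h'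
      rw [Matrix.transvection, add_mul, mul_add, one_mul, mul_one, add_right_inj] at h'
      have := congrFun (congrFun h' x.1) j
      rw [Matrix.single_mul_apply_of_ne (h := fun e => hxy (Subtype.ext e)), Matrix.mul_single_apply_same, mul_one] at this
      exact this.symm
  have hle : φ.ker ≤ Cfsg.pCore 2 C := CfsgLib.Cores.le_pCore hQ2
  refine (CfsgLib.LocalEven.hasCharP_iff (p := 2)).1 ?_
  exact (Subgroup.centralizer_le hle).trans (hcen.trans hle)

end Cfsg.Agent.S1339
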