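import Cfsg.Statements.S1340
import Cfsg.Agent.Lib.Components.SLBlock
import Cfsg.Agent.Lib.Cores.Components
import Cfsg.Agent.Lib.Cores.Basic
-- import your own Cfsg.Agent.* helpers here

set_option autoImplicit false
open Cfsg

namespace Cfsg.Agent.S1340

/-- Let F be a finite field of odd order and n ≥ 3 with (n, |F|) ≠ (3, 3). Then GL(n, F) has a non-central involution t such that C(t) / O(C(t)) has a component. -/
theorem result {F : Type*} [Field F] [Fintype F] [DecidableEq F] (hF : Odd (Fintype.card F)) (n : ℕ) (hn : 3 ≤ n) (h33 : ¬ (n = 3 ∧ Fintype.card F = 3)) : ∃ t : Matrix.GeneralLinearGroup (Fin n) F, orderOf t = 2 ∧ t ∉ Subgroup.center (Matrix.GeneralLinearGroup (Fin n) F) ∧ Cfsg.HasComponent (↥(Subgroup.centralizer ({t} : Set (Matrix.GeneralLinearGroup (Fin n) F))) ⧸ Cfsg.oddCore ↥(Subgroup.centralizer ({t} : Set (Matrix.GeneralLinearGroup (Fin n) F)))) := by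
  classical
  open CfsgLib.Components in
  have h2 : (2 : F) ≠ 0 := by
    apply Ring.two_ne_zero
    intro h
    have := FiniteField.even_card_iff_char_two.1 h
    rw [Nat.odd_iff] at hF
    omega
  let i₀ : Fin n := ⟨0, by omega⟩
  let D : Fin n → F := fun j => if j = i₀ then -1 else 1
  have hne : (-1 : F) ≠ 1 := fun h => h2 (by linear_combination -h)
  have hDD : ∀ j, D j * D j = 1 := fun j => by by_cases h : j = i₀ <;> simp [D, h]
  have hd : Matrix.diagonal D * Matrix.diagonal D = (1 : Matrix (Fin n) (Fin n) F) := by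
    rw [Matrix.diagonal_mul_diagonal, funext hDD, Matrix.diagonal_one]
  let t : Matrix.GeneralLinearGroup (Fin n) F := ⟨Matrix.diagonal D, Matrix.diagonal D, hd, hd⟩
  have hoff : ∀ g : Matrix.GeneralLinearGroup (Fin n) F, g ∈ Subgroup.centralizer ({t} : Set _) ↔
      CfsgLib.Components.SLBlock.Off i₀ (g : Matrix (Fin n) (Fin n) F) := by
    intro g
    rw [Subgroup.mem_centralizer_singleton_iff, CfsgLib.Components.SLBlock.off_iff_commute (D := D)
      (fun j hj => by simpa [D, hj] using hne.symm) (fun j k hj hk => by simp [D, hj, hk]), eq_comm (a := g * t)]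
    exact Units.ext_iff
  let j₁ : Fin n := ⟨1, by omega⟩
  have hj : j₁ ≠ i₀ := by simp [i₀, j₁]
  refine ⟨t, ?_, ?_, ?_⟩
  · refine orderOf_eq_prime (by rw [pow_two]; exact Units.ext hd) fun h => hne ?_
    simpa [t, D] using congrArg (fun g : Matrix.GeneralLinearGroup (Fin n) F => (g : Matrix _ _ F) i₀ i₀) h
  · intro hc
    have h1 := (hoff (Matrix.SpecialLinearGroup.toGL (Matrix.SpecialLinearGroup.transvection hj (1 : F)))).1
      (Subgroup.mem_centralizer_singleton_iff.2 (Subgroup.mem_center_iff.1 hc _))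
    have h3 : Matrix.transvection j₁ i₀ (1 : F) j₁ i₀ = 0 := (h1 j₁ hj).2
    simp [Matrix.transvection, Matrix.one_apply, hj] at h3
  set C := Subgroup.centralizer ({t} : Set (Matrix.GeneralLinearGroup (Fin n) F))
  let f : Matrix.SpecialLinearGroup {i // i ≠ i₀} F →* Matrix.GeneralLinearGroup (Fin n) F :=
    Matrix.SpecialLinearGroup.toGL.comp (CfsgLib.Components.SLBlock.bd i₀)
  have hfinj : Function.Injective f :=
    Matrix.SpecialLinearGroup.toGL_injective.comp CfsgLib.Components.SLBlock.bd_injective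
  have hcard : Fintype.card {i // i ≠ i₀} = n - 1 := by
    rw [Fintype.card_subtype_compl, Fintype.card_subtype_eq, Fintype.card_fin]
  have hqs : Cfsg.IsQuasisimple f.range := CfsgLib.Cores.isQuasisimple_of_equiv (MonoidHom.ofInjective hfinj)
    (CfsgLib.Components.SLBlock.isQuasisimple_SL (by
      rcases Nat.lt_or_ge n 4 with h | h
      · right
        have h3 : n = 3 := by omega
        have := Fintype.one_lt_card (α := F)
        rw [Nat.odd_iff] at hF
        refine ⟨by omega, ?_⟩
        by_contra h'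
        exact h33 ⟨h3, by omega⟩
      · left; omega))
  have hfC : f.range ≤ C := by
    rintro _ ⟨M, rfl⟩
    exact (hoff _).2 (CfsgLib.Components.SLBlock.off_bdMat M.1)
  have hnorm : (f.range.subgroupOf C).Normal := by
    refine ⟨fun x hx c => ?_⟩
    obtain ⟨M, hM⟩ := hx
    rw [Subgroup.mem_subgroupOf]
    have hsl : (↑(c * x * c⁻¹) : Matrix.GeneralLinearGroup (Fin n) F).det = 1 := by
      rw [Subgroup.coe_mul, Subgroup.coe_mul, map_mul, map_mul, mul_right_comm, ← map_mul,
        InvMemClass.coe_inv, mul_inv_cancel, map_one, one_mul]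
      show (C.subtype x).det = 1
      rw [← hM]
      exact Units.ext ((CfsgLib.Components.SLBlock.bd i₀ M).2)
    let g : Matrix.SpecialLinearGroup (Fin n) F :=
      ⟨((c * x * c⁻¹ : C) : Matrix.GeneralLinearGroup (Fin n) F), congrArg Units.val hsl⟩
    have hg : g ∈ (CfsgLib.Components.SLBlock.bd i₀).range := by
      rw [CfsgLib.Components.SLBlock.mem_range_bd]
      have hc := (hoff _).1 c.2
      have hci := (hoff _).1 (inv_mem c.2)
      have hx' := CfsgLib.Components.SLBlock.off_bdMat (i₀ := i₀) M.1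
      refine ⟨(hoff _).1 (c * x * c⁻¹).2, ?_⟩
      show (((c : Matrix.GeneralLinearGroup (Fin n) F) : Matrix (Fin n) (Fin n) F) *
        ((x : Matrix.GeneralLinearGroup (Fin n) F) : Matrix (Fin n) (Fin n) F) *
        (((c : Matrix.GeneralLinearGroup (Fin n) F)⁻¹ : Matrix.GeneralLinearGroup (Fin n) F) : Matrix (Fin n) (Fin n) F)) i₀ i₀ = 1
      rw [show (x : Matrix.GeneralLinearGroup (Fin n) F) = f M from hM.symm]
      rw [show ((f M : Matrix.GeneralLinearGroup (Fin n) F) : Matrix (Fin n) (Fin n) F) =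
        CfsgLib.Components.SLBlock.bdMat i₀ M.1 from rfl, (hc.mul hx').mul_corner, hc.mul_corner,
        CfsgLib.Components.SLBlock.bdMat_apply_corner]
      rw [mul_one, ← hc.mul_corner, ← Units.val_mul, mul_inv_cancel, Units.val_one, Matrix.one_apply_eq]
    obtain ⟨M', hM'⟩ := hg
    exact ⟨M', Units.ext (congrArg Subtype.val hM')⟩
  have hcomp : Cfsg.IsComponent (f.range.subgroupOf C) :=
    ⟨Subgroup.Normal.isSubnormal hnorm, CfsgLib.Cores.isQuasisimple_of_equiv (Subgroup.subgroupOfEquivOfLe hfC).symm hqs⟩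
  refine ⟨(f.range.subgroupOf C).map (QuotientGroup.mk' (Cfsg.oddCore C)),
    CfsgLib.Cores.isComponent_map_of_surjective hcomp _ (QuotientGroup.mk'_surjective _) ?_⟩
  rw [Ne, Subgroup.map_eq_bot_iff, QuotientGroup.ker_mk']
  intro hle
  have h2c : (2 : ℕ) ∣ Nat.card (f.range.subgroupOf C) := by
    rw [Nat.card_congr (Subgroup.subgroupOfEquivOfLe hfC).toEquiv, Nat.card_congr (MonoidHom.ofInjective hfinj).toEquiv.symm]
    let a : {i // i ≠ i₀} := ⟨j₁, hj⟩
    let b : {i // i ≠ i₀} := ⟨⟨2, by omega⟩, by simp [i₀]⟩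
    have hab : a ≠ b := by simp [a, b, j₁]
    let s := Matrix.SpecialLinearGroup.diag2n hab (-1 : F) (neg_ne_zero.2 one_ne_zero)
    have hs : orderOf s = 2 := by
      refine orderOf_eq_prime ?_ fun h => hne ?_
      · rw [pow_two]
        refine Subtype.ext ?_
        rw [Matrix.SpecialLinearGroup.coe_mul, Matrix.SpecialLinearGroup.diag2n_coe]
        rw [Matrix.diagonal_mul_diagonal]
        refine Eq.trans ?_ Matrix.diagonal_one
        congr 1
        funext i
        split_ifs <;> simp_all
      · have := congrArg (fun g : Matrix.SpecialLinearGroup {i // i ≠ i₀} F => g.1 a a) h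
        simpa [s, Matrix.SpecialLinearGroup.diag2n_coe, hab] using this
    exact hs ▸ orderOf_dvd_natCard s
  have hodd := CfsgLib.Cores.coprime_card_pPrimeCore (G := C) 2
  have := Nat.Coprime.coprime_dvd_left (h2c.trans (Subgroup.card_dvd_of_le hle)) hodd
  norm_num at this

end Cfsg.Agent.S1340
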