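import Cfsg.Statements.S1343
import Cfsg.Agent.Lib.Cores.ExtLayer
import Cfsg.Agent.Lib.Cores.BalanceComp
-- import your own Cfsg.Agent.* helpers here

set_option autoImplicit false
open Cfsg

namespace Cfsg.Agent.S1343

/-- Let X be finite. Then L*_{2'}(X) = L_{2'}(X) ⊔ F for some subgroup F of odd order normalized by a Sylow 2-subgroup of X. -/
theorem result {X : Type*} [Group X] [Finite X] : ∃ F : Subgroup X, Odd (Nat.card ↥F) ∧ (∃ S : Sylow 2 X, (S : Subgroup X) ≤ Subgroup.normalizer (F : Set X)) ∧ Cfsg.extendedTwoLayer X = Cfsg.pLayer 2 X ⊔ F := by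
  classical
  obtain ⟨T⟩ : Nonempty (Sylow 2 ↥(CfsgLib.Cores.extTop X)) := inferInstance
  set T₀ := (T : Subgroup ↥(CfsgLib.Cores.extTop X)).map (CfsgLib.Cores.extTop X).subtype with hT₀
  obtain ⟨S, hS⟩ := (T.2.map (CfsgLib.Cores.extTop X).subtype : IsPGroup 2 T₀).exists_le_sylow
  refine ⟨Cfsg.oddCore X ⊔ CfsgLib.Cores.coreCentralizer 2 T₀, ?_, ⟨S, ?_⟩, ?_⟩
  · rw [← Nat.coprime_two_right]
    exact Nat.Coprime.coprime_dvd_left (CfsgLib.Cores.card_sup_dvd_mul _ _)
      (Nat.Coprime.mul_left (CfsgLib.Cores.coprime_card_pPrimeCore 2) (CfsgLib.Cores.card_map_pPrimeCore_coprime _))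
  · have hn := CfsgLib.Cores.extTop_normal (G := X)
    have hST : (S : Subgroup X) ⊓ CfsgLib.Cores.extTop X = T₀ := by
      have h1 := T.3 ((S.2.to_le inf_le_left).of_equiv
        (Subgroup.subgroupOfEquivOfLe (inf_le_right : (S : Subgroup X) ⊓ CfsgLib.Cores.extTop X ≤ _)).symm)
        (fun x hx => ⟨hS ⟨x, hx, rfl⟩, x.2⟩)
      rw [hT₀, ← h1, Subgroup.map_subgroupOf_eq_of_le inf_le_right]
    intro s hs
    have hsT : s ∈ Subgroup.normalizer (T₀ : Set X) := by
      rw [← hST]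
      exact CfsgLib.Solvable.le_normalizer_inf Subgroup.le_normalizer
        (le_top.trans (Subgroup.normalizer_eq_top_iff.2 hn).ge) hs
    rw [← CfsgLib.Cores.map_conj_eq_self_iff, Subgroup.map_sup]
    congr 1
    · rw [CfsgLib.Cores.map_conj_eq_self_iff, Subgroup.normalizer_eq_top_iff.2 inferInstance]
      exact Subgroup.mem_top s
    · rw [CfsgLib.Cores.map_conj_eq_self_iff]
      exact CfsgLib.Cores.mem_normalizer_pPrimeCore_map (CfsgLib.Solvable.normalizer_le_normalizer_centralizer T₀ hsT)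
  · rw [CfsgLib.Cores.extendedTwoLayer_eq T, sup_assoc]

end Cfsg.Agent.S1343
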