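import Cfsg.Statements.S1344
import Cfsg.Agent.Lib.Cores.ExtLayer
-- import your own Cfsg.Agent.* helpers here

set_option autoImplicit false
open Cfsg

namespace Cfsg.Agent.S1344

/-- Let K be a 2-component of the finite group X. Then K ≤ L*_{2'}(X) and K is normal in L*_{2'}(X). -/
theorem result {X : Type*} [Group X] [Finite X] (K : Subgroup X) (hK : Cfsg.IsPComponent 2 K) : K ≤ Cfsg.extendedTwoLayer X ∧ (K.subgroupOf (Cfsg.extendedTwoLayer X)).Normal := by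
  have hle : K ≤ Cfsg.extendedTwoLayer X :=
    (CfsgLib.Cores.pComponent_le_pLayer hK).trans (le_sup_of_le_left le_sup_left)
  refine ⟨hle, (Subgroup.normal_subgroupOf_iff_le_normalizer hle).2 ?_⟩
  obtain ⟨T⟩ : Nonempty (Sylow 2 ↥(CfsgLib.Cores.extTop X)) := inferInstance
  rw [CfsgLib.Cores.extendedTwoLayer_eq T]
  refine sup_le (sup_le (CfsgLib.Cores.pLayer_le_iff.2 fun L hL => CfsgLib.Cores.pComponent_le_normalizer_pComponent hK hL) ?_) ?_
  · conv_rhs => rw [← CfsgLib.Cores.pComponent_eq_pComponentOf hK]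
    refine le_trans ?_ (CfsgLib.Cores.normalizer_le_normalizer_pElemClosure 2 _)
    rw [CfsgLib.Cores.sup_pPrimeCore_eq_comap_map]
    exact le_sup_right.trans Subgroup.le_normalizer
  intro d hd
  set T₀ := (T : Subgroup ↥(CfsgLib.Cores.extTop X)).map (CfsgLib.Cores.extTop X).subtype
  have hdT : ∀ t ∈ T₀, d * t * d⁻¹ = t := fun t ht => by
    rw [(Subgroup.mem_centralizer_iff.1 (Subgroup.map_subtype_le _ hd) t ht).symm, mul_inv_cancel_right]
  set K' := K.map (MulAut.conj d).toMonoidHom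
  have hK' : Cfsg.IsPComponent 2 K' := CfsgLib.Cores.isPComponent_map_equiv (MulAut.conj d) hK
  suffices heq : K' = K by
    rw [Subgroup.mem_normalizer_iff]
    intro g
    constructor
    · intro hg
      exact heq.le ⟨g, hg, rfl⟩
    · intro hg
      obtain ⟨w, hw, hwg⟩ := heq.ge hg
      rwa [(MulAut.conj d).injective (show MulAut.conj d w = MulAut.conj d g from hwg)] at hw
  by_contra hne
  have hKM : K ≤ CfsgLib.Cores.extTop X := (CfsgLib.Cores.pComponent_le_pLayer hK).trans le_sup_left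
  obtain ⟨x, ⟨k, hk⟩, hxc⟩ := CfsgLib.Cores.not_all_pElem_central (p := 2)
    (X := ↥(K.map (QuotientGroup.mk' (Cfsg.pPrimeCore 2 X)))) hK.2.1.2.1
    (CfsgLib.Cores.dvd_card_component (CfsgLib.Cores.pPrimeCore_quotient_self 2) hK.2.1)
  -- the Sylow `T` meets `K` in a Sylow subgroup of `K`
  have hTK : ∀ y : X, y ∈ K → ∀ j : ℕ, orderOf y = 2 ^ j → ∃ g ∈ CfsgLib.Cores.extTop X, g * y * g⁻¹ ∈ T₀ := by
    intro y hy j hj
    have hyp : IsPGroup 2 ↥(Subgroup.zpowers (⟨y, hKM hy⟩ : ↥(CfsgLib.Cores.extTop X))) :=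
      IsPGroup.of_card (n := j) (by rw [Nat.card_zpowers, Subgroup.orderOf_mk, hj])
    obtain ⟨S, hS⟩ := hyp.exists_le_sylow
    obtain ⟨m, hm⟩ := MulAction.exists_smul_eq ↥(CfsgLib.Cores.extTop X) S T
    refine ⟨m, m.2, ⟨m * ⟨y, hKM hy⟩ * m⁻¹, ?_, rfl⟩⟩
    rw [← hm]
    exact Subgroup.smul_mem_pointwise_smul _ (MulAut.conj m) _ (hS (Subgroup.mem_zpowers _))
  obtain ⟨y, hy, hyx⟩ := x.2
  obtain ⟨a, b, hab, ha, hb, ⟨i, hi⟩, hbc⟩ := CfsgLib.Cores.exists_pow_mul_pow 2 y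
  obtain ⟨g, hg, hgT⟩ := hTK a (Subgroup.zpowers_le.2 hy ha) i hi
  -- pass to the conjugate, which is still non-central
  have hgn : g ∈ Subgroup.normalizer ((K.map (QuotientGroup.mk' (Cfsg.pPrimeCore 2 X)) : Subgroup _).comap (QuotientGroup.mk' (Cfsg.pPrimeCore 2 X)) : Set X) := by
    have hgK : CfsgLib.Cores.extTop X ≤ Subgroup.normalizer (((K.map (QuotientGroup.mk' (Cfsg.pPrimeCore 2 X))).comap (QuotientGroup.mk' (Cfsg.pPrimeCore 2 X)) : Subgroup X) : Set X) := by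
      refine le_trans ?_ (Subgroup.le_normalizer_comap (QuotientGroup.mk' (Cfsg.pPrimeCore 2 X)))
      rw [← Subgroup.map_le_iff_le_comap, Subgroup.map_sup, CfsgLib.Cores.map_mk'_pLayer, CfsgLib.Cores.map_mk'_pPrimePCore]
      refine sup_le (CfsgLib.Cores.layer_le_normalizer_component hK.2.1) ?_
      refine le_trans ?_ (Subgroup.centralizer_le_normalizer _)
      rw [← Subgroup.commutator_eq_bot_iff_le_centralizer, Subgroup.commutator_comm, eq_bot_iff]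
      refine (Subgroup.commutator_mono le_rfl (CfsgLib.Cores.pCore_le_fittingSubgroup 2)).trans ?_
      exact (CfsgLib.Cores.component_commutator_fittingSubgroup hK.2.1).le
    exact hgK hg
  have hfb : (QuotientGroup.mk' (Cfsg.pPrimeCore 2 X)) b = 1 := by
    have h1 : orderOf ((QuotientGroup.mk' (Cfsg.pPrimeCore 2 X)) b) ∣ orderOf b := orderOf_map_dvd (QuotientGroup.mk' (Cfsg.pPrimeCore 2 X)) b
    have h2 : orderOf ((QuotientGroup.mk' (Cfsg.pPrimeCore 2 X)) b) ∣ orderOf ((QuotientGroup.mk' (Cfsg.pPrimeCore 2 X)) y) := by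
      obtain ⟨n, rfl⟩ := hb
      refine orderOf_dvd_of_pow_eq_one ?_
      show (QuotientGroup.mk' (Cfsg.pPrimeCore 2 X)) (y ^ n) ^ orderOf ((QuotientGroup.mk' (Cfsg.pPrimeCore 2 X)) y) = 1
      rw [map_zpow, ← zpow_natCast, ← zpow_mul, mul_comm, zpow_mul, zpow_natCast, pow_orderOf_eq_one, one_zpow]
    rw [hyx, Subgroup.orderOf_coe, hk] at h2
    have : orderOf ((QuotientGroup.mk' (Cfsg.pPrimeCore 2 X)) b) = 1 := Nat.eq_one_of_dvd_coprimes (Nat.Coprime.pow_right k hbc) h1 h2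
    rwa [orderOf_eq_one_iff] at this
  have hπa : (QuotientGroup.mk' (Cfsg.pPrimeCore 2 X)) a = x := by rw [← hyx, hab, map_mul, hfb, mul_one]
  have haK : a ∈ K := Subgroup.zpowers_le.2 hy ha
  have hmem : g * a * g⁻¹ ∈ K := by
    refine CfsgLib.Cores.pElem_mem_of_isSubnormal (CfsgLib.Cores.coprime_card_pPrimeCore 2) hK.1 (k := i) ?_ ?_
    · rw [← MulAut.conj_apply g a]; exact (orderOf_injective (MulAut.conj g).toMonoidHom (MulAut.conj g).injective a).trans hi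
    · rw [← CfsgLib.Cores.sup_pPrimeCore_eq_comap_map]
      exact (Subgroup.mem_normalizer_iff.1 hgn a).1 (Subgroup.le_comap_map (QuotientGroup.mk' (Cfsg.pPrimeCore 2 X)) K haK)
  have hmem' : g * a * g⁻¹ ∈ K' := ⟨g * a * g⁻¹, hmem, hdT _ hgT⟩
  have hc : K.map (QuotientGroup.mk' (Cfsg.pPrimeCore 2 X)) ≤ Subgroup.centralizer ((K'.map (QuotientGroup.mk' (Cfsg.pPrimeCore 2 X)) : Subgroup _) : Set _) :=
    Subgroup.commutator_eq_bot_iff_le_centralizer.1 (CfsgLib.Cores.commutator_components_eq_bot hK.2.1 hK'.2.1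
      fun h => hne (CfsgLib.Cores.pComponent_eq_of_map_eq hK' hK h.symm))
  refine hxc (Subgroup.mem_center_iff.2 fun q => Subtype.ext ?_)
  have hgq : (QuotientGroup.mk' (Cfsg.pPrimeCore 2 X)) g⁻¹ ∈ Subgroup.normalizer ((K.map (QuotientGroup.mk' (Cfsg.pPrimeCore 2 X)) : Subgroup _) : Set (X ⧸ Cfsg.pPrimeCore 2 X)) := by
    have h1 := (Subgroup.le_normalizer_map (QuotientGroup.mk' (Cfsg.pPrimeCore 2 X))) ⟨g⁻¹, inv_mem hgn, rfl⟩
    rwa [Subgroup.map_comap_eq_self_of_surjective (QuotientGroup.mk'_surjective _)] at h1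
  have hq' : (QuotientGroup.mk' (Cfsg.pPrimeCore 2 X)) g * (q : X ⧸ Cfsg.pPrimeCore 2 X) * ((QuotientGroup.mk' (Cfsg.pPrimeCore 2 X)) g)⁻¹ ∈ K.map (QuotientGroup.mk' (Cfsg.pPrimeCore 2 X)) := by
    have := (Subgroup.mem_normalizer_iff.1 (inv_mem hgq) (q : X ⧸ Cfsg.pPrimeCore 2 X)).1 q.2
    simpa using this
  have h3 := Subgroup.mem_centralizer_iff.1 (hc hq') _ ⟨_, hmem', rfl⟩
  rw [map_mul, map_mul, map_inv, hπa] at h3
  show (q : X ⧸ Cfsg.pPrimeCore 2 X) * (x : X ⧸ Cfsg.pPrimeCore 2 X) = x * q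
  calc (q : X ⧸ Cfsg.pPrimeCore 2 X) * x = ((QuotientGroup.mk' (Cfsg.pPrimeCore 2 X)) g)⁻¹ * (((QuotientGroup.mk' (Cfsg.pPrimeCore 2 X)) g * q * ((QuotientGroup.mk' (Cfsg.pPrimeCore 2 X)) g)⁻¹) * ((QuotientGroup.mk' (Cfsg.pPrimeCore 2 X)) g * x * ((QuotientGroup.mk' (Cfsg.pPrimeCore 2 X)) g)⁻¹)) * (QuotientGroup.mk' (Cfsg.pPrimeCore 2 X)) g := by group
    _ = ((QuotientGroup.mk' (Cfsg.pPrimeCore 2 X)) g)⁻¹ * (((QuotientGroup.mk' (Cfsg.pPrimeCore 2 X)) g * x * ((QuotientGroup.mk' (Cfsg.pPrimeCore 2 X)) g)⁻¹) * ((QuotientGroup.mk' (Cfsg.pPrimeCore 2 X)) g * q * ((QuotientGroup.mk' (Cfsg.pPrimeCore 2 X)) g)⁻¹)) * (QuotientGroup.mk' (Cfsg.pPrimeCore 2 X)) g := by rw [h3]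
    _ = x * q := by group

end Cfsg.Agent.S1344
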