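import Cfsg.Statements.S1347
import Cfsg.Agent.Lib.Cores.ComponentCentralizer

set_option autoImplicit false
open Cfsg

namespace Cfsg.Agent.S1347

open Subgroup CfsgLib.Cores CfsgLib.CompCent

variable {G : Type*} [Group G] [Finite G] {A : Subgroup G}

theorem mem_normalizer_of_even (hA : Cfsg.IsStandardSubgroup A) {K : Subgroup G} (hK : Even (Nat.card K))
    (hKA : K ≤ centralizer (A : Set G)) {g : G} (hg : g ∈ normalizer (K : Set G)) :
    g ∈ normalizer (A : Set G) := by
  rw [hA.2.2.2]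
  by_contra hg'
  have hodd := hA.2.1.2 g hg'
  have hle : K ≤ centralizer (A : Set G) ⊓ (centralizer (A : Set G)).map (MulAut.conj g).toMonoidHom := by
    refine le_inf hKA fun k hk => ⟨g⁻¹ * k * g, hKA ?_, ?_⟩
    · have := (mem_normalizer_iff.1 (inv_mem hg) k).1 hk
      simpa using this
    · show g * (g⁻¹ * k * g) * g⁻¹ = k
      group
  exact (Nat.not_even_iff_odd.2 hodd) (hK.trans_dvd (card_dvd_of_le hle))

theorem even_card_component {L : Subgroup G} (hL : Cfsg.IsComponent L) : Even (Nat.card L) := by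
  rw [← Nat.not_odd_iff_even]
  exact fun h => component_not_le_of_isSolvable hL (Cfsg.Agent.S0205.result h) le_rfl

theorem normal_of_component (hA : Cfsg.IsStandardSubgroup A) (hAc : Cfsg.IsComponent A) : A.Normal := by
  refine ⟨fun x hx g => ?_⟩
  by_cases h : A.map (MulAut.conj g).toMonoidHom = A
  · exact h.le ⟨x, hx, rfl⟩
  · exact absurd (commutator_components_eq_bot hAc (CfsgLib.CompCent.isComponent_conj' hAc g) (Ne.symm h))
      (hA.2.2.1 g h)

theorem isComponent_of_layer_le (hA : Cfsg.IsStandardSubgroup A) (hAE : A ≤ Cfsg.layer G)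
    (h : Cfsg.layer G ≤ normalizer (A : Set G)) : Cfsg.IsComponent A := by
  refine ⟨?_, hA.1⟩
  have hn := ((normal_subgroupOf_iff_le_normalizer hAE).2 h).isSubnormal.trans' (layer_normal (G := G)).isSubnormal
  rwa [map_subgroupOf_eq_of_le hAE] at hn

/-- Let A be a standard subgroup of the finite group G with O(G) = 1, and t an involution of C_G(A). Then (i) A is normal in G; or (ii) there is a non-abelian simple subgroup X ≅ A with X and tXt⁻¹ commuting, meeting trivially and generating E(G), and C_G(A) = ⟨t⟩; or (iii) A ≤ E(G) and E(G) is non-abelian simple. -/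
theorem result {G : Type*} [Group G] [Finite G] (A : Subgroup G) (hA : Cfsg.IsStandardSubgroup A) (hO : Cfsg.oddCore G = ⊥) (t : G) (ht : orderOf t = 2) (htA : t ∈ Subgroup.centralizer (A : Set G)) : A.Normal ∨ (∃ X : Subgroup G, IsSimpleGroup ↥X ∧ ¬ IsMulCommutative ↥X ∧ Nonempty (↥X ≃* ↥A) ∧ (∀ a ∈ X, ∀ b ∈ X.map (MulAut.conj t).toMonoidHom, a * b = b * a) ∧ X ⊓ X.map (MulAut.conj t).toMonoidHom = ⊥ ∧ X ⊔ X.map (MulAut.conj t).toMonoidHom = Cfsg.layer G ∧ Subgroup.centralizer (A : Set G) = Subgroup.zpowers t) ∨ (A ≤ Cfsg.layer G ∧ IsSimpleGroup ↥(Cfsg.layer G) ∧ ¬ IsMulCommutative ↥(Cfsg.layer G)) := by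
  classical
  have ht1 : t * t = 1 := by rw [← pow_two, ← ht]; exact pow_orderOf_eq_one t
  have hzt : Subgroup.zpowers t ≤ Subgroup.centralizer (A : Set G) := Subgroup.zpowers_le.2 htA
  have hAt : A ≤ Subgroup.centralizer ({t} : Set G) := fun x hx =>
    Subgroup.mem_centralizer_singleton_iff.2 (Subgroup.mem_centralizer_iff.1 htA x hx)
  have hCN : Subgroup.centralizer ({t} : Set G) ≤ Subgroup.normalizer (A : Set G) := fun g hg => by
    refine mem_normalizer_of_even hA ?_ hzt ?_
    · rw [Nat.card_zpowers, ht]; exact even_two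
    · rw [← centralizer_zpowers'] at hg
      exact Subgroup.centralizer_le_normalizer _ hg
  have hAc : Cfsg.IsComponent (A.subgroupOf (Subgroup.centralizer ({t} : Set G))) :=
    ⟨((Subgroup.normal_subgroupOf_iff_le_normalizer hAt).2 hCN).isSubnormal,
      (isQuasisimple_subgroupOf_iff hAt).2 hA.1⟩
  have hcomm : ⁅Cfsg.pLayer 2 G, Cfsg.oddCore G⁆ = ⊥ := by rw [hO, Subgroup.commutator_bot_right]
  have hAE : A ≤ Cfsg.layer G := by
    refine le_trans ?_ (pLayer_le_layer_of_commutator_eq_bot hcomm)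
    have h1 := CfsgLib.LBalance.layerBalanced G (Subgroup.zpowers t) (isPGroup_zpowers_of_orderOf_eq ht)
    rw [centralizer_zpowers'] at h1
    refine le_trans ?_ h1
    rw [← Subgroup.map_subgroupOf_eq_of_le hAt]
    exact Subgroup.map_mono (component_le_pLayer hAc)
  obtain ⟨D, hD, hAD⟩ := exists_component_orbit ht1 hAt hAc hAE
  set D' := D.map (MulAut.conj t).toMonoidHom with hD'
  have hD'c : Cfsg.IsComponent D' := CfsgLib.CompCent.isComponent_conj' hD t
  by_cases hall : ∀ K : Subgroup G, Cfsg.IsComponent K → K = D ∨ K = D'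
  swap
  · push Not at hall
    obtain ⟨K, hK, hK1, hK2⟩ := hall
    refine Or.inl (normal_of_component hA (isComponent_of_layer_le hA hAE ?_))
    have hKA : K ≤ Subgroup.centralizer (A : Set G) := Subgroup.le_centralizer_iff.1 (hAD.trans (sup_le
      (Subgroup.le_centralizer_iff.1
        (Subgroup.commutator_eq_bot_iff_le_centralizer.1 (commutator_components_eq_bot hK hD hK1)))
      (Subgroup.le_centralizer_iff.1
        (Subgroup.commutator_eq_bot_iff_le_centralizer.1 (commutator_components_eq_bot hK hD'c hK2)))))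
    exact (layer_le_normalizer_component hK).trans fun g hg => mem_normalizer_of_even hA (even_card_component hK) hKA hg
  have hlayer : Cfsg.layer G = D ⊔ D' := le_antisymm
    (layer_le_iff.2 fun K hK => (hall K hK).elim (fun e => e ▸ le_sup_left) (fun e => e ▸ le_sup_right))
    (sup_le (component_le_layer hD) (component_le_layer hD'c))
  by_cases hQ : Cfsg.pCore 2 G = ⊥
  swap
  · refine Or.inl ⟨fun x hx g => ?_⟩
    have hQA : Cfsg.pCore 2 G ≤ Subgroup.centralizer (A : Set G) := by
      refine Subgroup.le_centralizer_iff.1 ((hAE.trans layer_le_centralizer_fittingSubgroup).trans ?_)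
      exact Subgroup.centralizer_le (SetLike.coe_subset_coe.2 (pCore_le_fittingSubgroup 2))
    have heven : Even (Nat.card (Cfsg.pCore 2 G)) := by
      obtain ⟨n, hn⟩ := IsPGroup.iff_card.1 (isPGroup_pCore (G := G) 2)
      rw [hn]
      refine Nat.even_pow.2 ⟨even_two, fun h0 => hQ ?_⟩
      rw [h0, pow_zero] at hn
      exact Subgroup.card_eq_one.1 hn
    have hn : (Cfsg.pCore 2 G).Normal := by have := pCore_characteristic (G := G) 2; infer_instance
    exact (Subgroup.mem_normalizer_iff.1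
      (mem_normalizer_of_even hA heven hQA (g := g) (by rw [Subgroup.normalizer_eq_top]; trivial)) x).1 hx
  have hZ : CfsgLib.Cores.layerCenter G = ⊥ := le_bot_iff.1 (hQ ▸ layerCenter_le_pCore (p := 2) hO)
  have hcenter : ∀ z ∈ D, (∀ l ∈ D, z * l = l * z) → z = 1 := fun z hz hc =>
    Subgroup.mem_bot.1 (hZ ▸ mem_layerCenter_of_commute hD hz hc)
  have hDbot : Subgroup.center ↥D = ⊥ := by
    rw [eq_bot_iff]
    intro z hz
    exact Subgroup.mem_bot.2 (Subtype.ext (hcenter z z.2 fun l hl =>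
      (congrArg Subtype.val (Subgroup.mem_center_iff.1 hz ⟨l, hl⟩)).symm))
  have hDs : IsSimpleGroup ↥D := by
    have h := hD.2.2
    haveI := isQuasisimple_nontrivial hD.2
    exact IsSimpleGroup.isSimpleGroup_of_surjective
      ((QuotientGroup.quotientMulEquivOfEq hDbot).trans QuotientGroup.quotientBot).toMonoidHom
      ((QuotientGroup.quotientMulEquivOfEq hDbot).trans QuotientGroup.quotientBot).surjective
  have hDna : ¬ IsMulCommutative ↥D := fun h =>
    center_ne_top_of_isQuasisimple hD.2 (Subgroup.center_eq_top_iff.2 h)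
  by_cases hDt : D' = D
  · refine Or.inr (Or.inr ⟨hAE, ?_⟩)
    rw [hlayer, hDt, sup_idem]
    exact ⟨hDs, hDna⟩
  refine Or.inr (Or.inl ⟨D, hDs, hDna, ?_⟩)
  obtain ⟨φ, hφ, hφA, -⟩ := pair_component ht1 hD hDt hAt hAc hAD
  have hDD : ∀ d ∈ D, ∀ e ∈ D', d * e = e * d := fun d hd e he =>
    (Subgroup.commutator_eq_bot_iff_le_centralizer.1
      (commutator_components_eq_bot hD hD'c (Ne.symm hDt)) hd e he).symm
  have hinf : D ⊓ D' = ⊥ := by
    rw [eq_bot_iff]
    exact fun z hz => Subgroup.mem_bot.2 (hcenter z hz.1 fun l hl => (hDD l hl z hz.2).symm)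
  have hφi : Function.Injective φ := by
    refine (MonoidHom.ker_eq_bot_iff φ).1 ((IsSimpleGroup.eq_bot_or_eq_top_of_normal φ.ker inferInstance).resolve_right fun h => ?_)
    rw [MonoidHom.ker_eq_top_iff] at h
    apply component_ne_bot hAc
    rw [← hφA, h, MonoidHom.range_one, Subgroup.bot_subgroupOf]
  refine ⟨⟨(MonoidHom.ofInjective hφi).trans (MulEquiv.subgroupCongr hφA)⟩, hDD, hinf, hlayer.symm, ?_⟩
  refine le_antisymm (fun c hc => ?_) hzt
  have hcentE : Subgroup.centralizer (Cfsg.layer G : Set G) = ⊥ := by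
    have hF : Cfsg.fittingSubgroup G = ⊥ := by rw [fittingSubgroup_eq_pCore (p := 2) hO, hQ]
    have h1 : Subgroup.centralizer (Cfsg.generalizedFittingSubgroup G : Set G) ≤ Cfsg.generalizedFittingSubgroup G :=
      centralizer_generalizedFittingSubgroup_le
    rw [Cfsg.generalizedFittingSubgroup, hF, sup_bot_eq] at h1
    rw [eq_bot_iff]
    refine le_trans ?_ hZ.le
    rw [layerCenter, map_center_eq_inf_centralizer]
    exact le_inf h1 le_rfl
  have key : ∀ c ∈ Subgroup.centralizer (A : Set G), D.map (MulAut.conj c).toMonoidHom = D →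
      D'.map (MulAut.conj c).toMonoidHom = D' → c = 1 := by
    intro c hc h1 h2
    have hfix : ∀ d ∈ D, c * d * c⁻¹ = d ∧ c * (t * d * t⁻¹) * c⁻¹ = t * d * t⁻¹ := by
      intro d hd
      have hk : φ ⟨d, hd⟩ ∈ A := hφA.le ⟨_, rfl⟩
      rw [hφ] at hk
      have he : c * (d * (t * d * t⁻¹)) * c⁻¹ = d * (t * d * t⁻¹) := by
        rw [← Subgroup.mem_centralizer_iff.1 hc _ hk, mul_inv_cancel_right]
      have e1 : d⁻¹ * (c * d * c⁻¹) = (t * d * t⁻¹) * (c * (t * d * t⁻¹) * c⁻¹)⁻¹ := by
        rw [eq_mul_inv_iff_mul_eq, mul_assoc, show c * d * c⁻¹ * (c * (t * d * t⁻¹) * c⁻¹) =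
          c * (d * (t * d * t⁻¹)) * c⁻¹ by group, he, inv_mul_cancel_left]
      have hmem : d⁻¹ * (c * d * c⁻¹) ∈ D ⊓ D' := Subgroup.mem_inf.2 ⟨D.mul_mem (D.inv_mem hd) (h1.le ⟨d, hd, rfl⟩),
        e1 ▸ D'.mul_mem (mem_conj hd) (D'.inv_mem (h2.le ⟨_, mem_conj hd, rfl⟩))⟩
      rw [hinf, Subgroup.mem_bot] at hmem
      exact ⟨(inv_mul_eq_one.1 hmem).symm, (mul_inv_eq_one.1 (e1.symm.trans hmem)).symm⟩
    have hle : Cfsg.layer G ≤ Subgroup.centralizer ({c} : Set G) := by
      rw [hlayer]
      refine sup_le (fun d hd => Subgroup.mem_centralizer_singleton_iff.2 ?_) ?_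
      · exact (mul_inv_eq_iff_eq_mul.1 (hfix d hd).1).symm
      · rintro _ ⟨d, hd, rfl⟩
        exact Subgroup.mem_centralizer_singleton_iff.2 (mul_inv_eq_iff_eq_mul.1 (hfix d hd).2).symm
    have hmem : c ∈ Subgroup.centralizer (Cfsg.layer G : Set G) := fun x hx =>
      Subgroup.mem_centralizer_singleton_iff.1 (hle hx)
    rw [hcentE, Subgroup.mem_bot] at hmem
    exact hmem
  have hperm : ∀ X : Subgroup G, X = D ∨ X = D' → ∀ c : G, X.map (MulAut.conj c).toMonoidHom = D ∨
      X.map (MulAut.conj c).toMonoidHom = D' := fun X hX c =>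
    hall _ (CfsgLib.CompCent.isComponent_conj' (hX.elim (fun e => e ▸ hD) (fun e => e ▸ hD'c)) c)
  have hinj : Function.Injective (fun X : Subgroup G => X.map (MulAut.conj c).toMonoidHom) :=
    Subgroup.map_injective (MulAut.conj c).injective
  rcases hperm D (Or.inl rfl) c with h1 | h1
  · have h2 : D'.map (MulAut.conj c).toMonoidHom = D' :=
      (hperm D' (Or.inr rfl) c).resolve_left fun e => hDt (hinj (e.trans h1.symm))
    rw [key c hc h1 h2]; exact one_mem _
  · have h2 : D'.map (MulAut.conj c).toMonoidHom = D :=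
      (hperm D' (Or.inr rfl) c).resolve_right fun e => hDt (hinj (e.trans h1.symm))
    have h3 := key (t * c) (mul_mem htA hc) (by rw [map_conj_mul, h1, hD', map_conj_map_conj ht1])
      (by rw [map_conj_mul, h2])
    rw [eq_inv_of_mul_eq_one_right h3]
    exact inv_mem (Subgroup.mem_zpowers t)

end Cfsg.Agent.S1347
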