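import Cfsg.Statements.S1349
import Cfsg.Agent.Lib.Components.DihedralLemma
import Cfsg.Agent.Lib.LocalEven.DihedralCriterion
-- import your own Cfsg.Agent.* helpers here

set_option autoImplicit false
open Cfsg

namespace Cfsg.Agent.S1349

/-- Let G be finite, L ≤ G solvable of odd order, and A an elementary abelian 2-subgroup of order 2^d (d ≥ 1) normalizing L with C_A(L) = 1. Then there are subgroups A_1, …, A_d of A of order 2 generating A and subgroups L_1, …, L_d of L such that each A_i ⊔ L_i is dihedral of order 2 n_i with n_i odd and at least 3, and A_i ⊔ L_i commutes elementwise with A_j ⊔ L_j for i ≠ j. -/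
theorem result {G : Type*} [Group G] [Finite G] (L A : Subgroup G) (hLs : Group.IsSolvable ↥L) (hLodd : Odd (Nat.card ↥L)) (hA : Cfsg.IsElementaryAbelian 2 A) (d : ℕ) (hd : 1 ≤ d) (hAd : Nat.card ↥A = 2 ^ d) (hAL : A ≤ Subgroup.normalizer (L : Set G)) (hfaith : A ⊓ Subgroup.centralizer (L : Set G) = ⊥) : ∃ (Ai : Fin d → Subgroup G) (Li : Fin d → Subgroup G) (n : Fin d → ℕ), (∀ i, Ai i ≤ A ∧ Nat.card ↥(Ai i) = 2 ∧ Li i ≤ L ∧ Odd (n i) ∧ 3 ≤ n i ∧ Nonempty (↥(Ai i ⊔ Li i) ≃* DihedralGroup (n i))) ∧ (⨆ i, Ai i) = A ∧ ∀ i j, i ≠ j → ∀ x ∈ Ai i ⊔ Li i, ∀ y ∈ Ai j ⊔ Li j, x * y = y * x := by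
  have hA1 : ∀ a ∈ A, a * a = 1 := fun a ha => by rw [← pow_two]; exact hA.2 a ha
  obtain ⟨a, x, hax, hle, hcomm⟩ := CfsgLib.Components.dihedral_lemma hLs hLodd hA hAL hfaith d hAd
  have hord : ∀ i, orderOf (a i) = 2 := fun i =>
    orderOf_eq_prime (by rw [pow_two]; exact hA1 _ (hax i).1) (hax i).2.1
  have hodd : ∀ i, Odd (orderOf (x i)) := fun i =>
    hLodd.of_dvd_nat (Subgroup.orderOf_dvd_natCard L (hax i).2.2.1)
  refine ⟨fun i => Subgroup.zpowers (a i), fun i => Subgroup.zpowers (x i), fun i => orderOf (x i),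
    fun i => ⟨Subgroup.zpowers_le.2 (hax i).1, by rw [Nat.card_zpowers, hord], Subgroup.zpowers_le.2 (hax i).2.2.1,
      hodd i, ?_, ?_⟩, le_antisymm (iSup_le fun i => Subgroup.zpowers_le.2 (hax i).1) hle, fun i j hij => ?_⟩
  · have h1 : orderOf (x i) ≠ 1 := fun h => (hax i).2.2.2.1 (orderOf_eq_one_iff.1 h)
    obtain ⟨m, hm⟩ := hodd i
    show 3 ≤ orderOf (x i)
    omega
  · haveI : NeZero (orderOf (x i)) := ⟨(orderOf_pos (x i)).ne'⟩
    have ht := hA1 _ (hax i).1
    have hc := pow_orderOf_eq_one (x i)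
    have hinv := (hax i).2.2.2.2
    let f := CfsgLib.LocalEven.DihedralCrit.toGroup (p := orderOf (x i)) (a i) (x i) ht hc hinv
    have hinj : Function.Injective f := CfsgLib.LocalEven.DihedralCrit.toGroup_injective ht hc hinv rfl fun h => by
      have h2 : (2 : ℕ) ∣ orderOf (x i) := by
        rw [← hord i, ← Nat.card_zpowers (x i)]
        exact Subgroup.orderOf_dvd_natCard _ h
      exact Nat.not_even_iff_odd.2 (hodd i) (even_iff_two_dvd.2 h2)
    have hr : f.range = Subgroup.zpowers (a i) ⊔ Subgroup.zpowers (x i) := by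
      refine le_antisymm ?_ (sup_le (Subgroup.zpowers_le.2 ⟨DihedralGroup.sr 0, ?_⟩)
        (Subgroup.zpowers_le.2 ⟨DihedralGroup.r 1, ?_⟩))
      · rintro _ ⟨(k | k), rfl⟩
        · exact Subgroup.mem_sup_right (pow_mem (Subgroup.mem_zpowers _) _)
        · exact mul_mem (Subgroup.mem_sup_left (Subgroup.mem_zpowers _))
            (Subgroup.mem_sup_right (pow_mem (Subgroup.mem_zpowers _) _))
      · show a i * x i ^ (0 : ZMod (orderOf (x i))).val = a i
        rw [ZMod.val_zero, pow_zero, mul_one]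
      · show x i ^ (1 : ZMod (orderOf (x i))).val = x i
        rw [ZMod.val_one_eq_one_mod, ← pow_eq_pow_mod 1 hc, pow_one]
    exact ⟨((f.ofInjective hinj).trans (MulEquiv.subgroupCongr hr)).symm⟩
  · have hAc := hA.1.is_comm.comm
    have haa : Commute (a i) (a j) := congrArg Subtype.val (hAc ⟨a i, (hax i).1⟩ ⟨a j, (hax j).1⟩)
    have key : ∀ (g : G), Commute g (a j) → Commute g (x j) →
        Subgroup.zpowers (a j) ⊔ Subgroup.zpowers (x j) ≤ Subgroup.centralizer {g} := fun g h1 h2 =>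
      sup_le (Subgroup.zpowers_le.2 (Subgroup.mem_centralizer_singleton_iff.2 h1.eq.symm))
        (Subgroup.zpowers_le.2 (Subgroup.mem_centralizer_singleton_iff.2 h2.eq.symm))
    intro u hu v hv
    have hle' : Subgroup.zpowers (a i) ⊔ Subgroup.zpowers (x i) ≤ Subgroup.centralizer {v} := by
      refine sup_le (Subgroup.zpowers_le.2 ?_) (Subgroup.zpowers_le.2 ?_) <;>
        rw [Subgroup.mem_centralizer_singleton_iff]
      · exact (Subgroup.mem_centralizer_singleton_iff.1 (key (a i) haa (hcomm i j hij).2 hv)).symm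
      · exact (Subgroup.mem_centralizer_singleton_iff.1
          (key (x i) ((hcomm j i hij.symm).2.symm) (hcomm i j hij).1 hv)).symm
    exact Subgroup.mem_centralizer_singleton_iff.1 (hle' hu)

end Cfsg.Agent.S1349
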