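import Cfsg.Statements.S1351
import Cfsg.Agent.Lib.OddLocal.Sec14Duality
import Cfsg.Agent.Lib.OddLocal.BG12All
-- import your own Cfsg.Agent.* helpers here

set_option autoImplicit false
open Cfsg

namespace Cfsg.Agent.S1351

open CfsgLib.OddLocal CfsgLib.OddLocal.Sec13

/-- Let G be a minimal simple group of odd order and M a maximal subgroup. Then M possesses a Hall κ(M)-subgroup, and every Hall κ(M)-subgroup of M is cyclic. -/
theorem result {G : Type*} [Group G] [Finite G] (hG : Cfsg.IsMinSimpleOddOrder G)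
    (M : Subgroup G) (hM : IsCoatom M) :
    (∃ K : Subgroup G, Cfsg.IsPiHallOf (Cfsg.kappa M) K M) ∧
      ∀ K : Subgroup G, Cfsg.IsPiHallOf (Cfsg.kappa M) K M → IsCyclic K := by
  have h := BG.pre'_of_minimal hG
  exact ⟨CfsgLib.PGroup.exists_isPiHallOf (Cfsg.kappa M) M (h.toPre.isSolvable hM.1),
    fun K hK => h.kappaHall_cyclic hM hK⟩

end Cfsg.Agent.S1351
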