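import Cfsg.Statements.S1386
-- import your own Cfsg.Agent.* helpers here

set_option autoImplicit false
open Cfsg

namespace Cfsg.Agent.S1386


variable {G : Type*} [Group G]

theorem card_sup_of_commute [Finite G] (A B : Subgroup G) (hc : ∀ a ∈ A, ∀ b ∈ B, a * b = b * a)
    (hd : A ⊓ B = ⊥) : Nat.card ↥(A ⊔ B) = Nat.card A * Nat.card B := by
  have comm : ∀ (m : A) (n : B), Commute (A.subtype m) (B.subtype n) :=
    fun m n => hc m m.2 n n.2
  let f := A.subtype.noncommCoprod B.subtype comm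
  have hinj : Function.Injective f := by
    rw [MonoidHom.noncommCoprod_injective]
    refine ⟨A.subtype_injective, B.subtype_injective, ?_⟩
    rw [Subgroup.range_subtype, Subgroup.range_subtype, disjoint_iff, hd]
  have hr : f.range = A ⊔ B := by
    rw [MonoidHom.noncommCoprod_range, Subgroup.range_subtype, Subgroup.range_subtype]
  rw [← hr, ← Nat.card_prod]
  exact (Nat.card_congr (MonoidHom.ofInjective hinj).toEquiv).symm

theorem eq_of_card_eq_of_le_cyclic [Finite G] (W A B : Subgroup G) (hW : IsCyclic W) (hA : A ≤ W)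
    (hB : B ≤ W) (h : Nat.card A = Nat.card B) : A = B := by
  classical
  have key : ∀ C : Subgroup G, C ≤ W → Nat.card C = Nat.card A →
      ((C.subgroupOf W : Subgroup W) : Set W) = {x : W | x ^ Nat.card A = 1} := by
    intro C hC hc
    have hcard : Nat.card (C.subgroupOf W) = Nat.card A := by
      rw [Nat.card_congr (Subgroup.subgroupOfEquivOfLe hC).toEquiv, hc]
    apply Set.eq_of_subset_of_ncard_le (ht := Set.toFinite _)
    · intro x hx
      have := pow_card_eq_one' (G := C.subgroupOf W) (x := ⟨x, hx⟩)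
      rw [hcard] at this
      exact congrArg Subtype.val this
    · rw [show (((C.subgroupOf W : Subgroup W) : Set W)).ncard = Nat.card A from
        (Nat.card_coe_set_eq _).symm.trans hcard]
      have : Fintype W := Fintype.ofFinite W
      calc Set.ncard {x : W | x ^ Nat.card A = 1}
          = (Finset.univ.filter (fun x : W => x ^ Nat.card A = 1)).card := by
            rw [← Set.ncard_coe_finset]; simp
        _ ≤ Nat.card A := IsCyclic.card_pow_eq_one_le Nat.card_pos
  have h1 := key A hA rfl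
  have h2 := key B hB h.symm
  have h3 : A.subgroupOf W = B.subgroupOf W := SetLike.coe_injective (h1.trans h2.symm)
  rw [Subgroup.subgroupOf_inj] at h3
  simpa [inf_eq_left.2 hA, inf_eq_left.2 hB] using h3

/-- Let G be a finite group, W₁, W₂ subgroups forming a self-normalizing cyclic pair, S a subgroup with W₂ ≤ S and W₁ a complement to S' in S, and (W₁, U, W₂') type-P data for S. Then W₂' = W₂ (that is, C_{S'}(W₁) = W₂). -/
theorem result {G : Type*} [Group G] [Finite G] (W₁ W₂ S U W₂' : Subgroup G) (hW : Cfsg.IsSelfNormalizingCyclic W₁ W₂)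
    (hSW : Cfsg.IsComplIn ⁅S, S⁆ W₁ S) (hW₂S : W₂ ≤ S) (hP : Cfsg.IsTypePWith S W₁ U W₂') :
    W₂' = W₂ := by
  obtain ⟨h1ne, h2ne, hd, hc, hcyc, hN⟩ := hW
  obtain ⟨-, h2ne', hd', hc', hcyc', hN'⟩ := hP.selfNormalizing
  obtain ⟨x, hx, hx1⟩ := (W₁.bot_or_exists_ne_one).resolve_left h1ne
  obtain ⟨y, hy, hy1⟩ := (W₂.bot_or_exists_ne_one).resolve_left h2ne
  have hle : W₂ ≤ W₁ ⊔ W₂' := by
    intro w hw
    obtain ⟨a, ha, b, hb, rfl⟩ := hP.W₁_compl.2.2.2 w (hW₂S hw)
    have hcb : b * x = x * b := by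
      have := hP.W₁_cyclic
      letI := IsCyclic.commGroup (α := W₁)
      exact congrArg Subtype.val (mul_comm (⟨b, hb⟩ : W₁) ⟨x, hx⟩)
    have h : x * (a * b) = a * b * x := hc x hx _ hw
    have ha' : a ∈ Subgroup.centralizer ({x} : Set G) := by
      rw [Subgroup.mem_centralizer_singleton_iff]
      have h' : (a * x) * b = (x * a) * b := by
        rw [mul_assoc a x b, ← hcb, mul_assoc x a b, h, mul_assoc]
      exact mul_right_cancel h'
    have haW : a ∈ W₂' := by
      rw [← hP.W₂_centralizer x hx hx1]; exact ⟨ha, ha'⟩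
    exact mul_mem (Subgroup.mem_sup_right haW) (Subgroup.mem_sup_left hb)
  have hWW : W₁ ⊔ W₂ ≤ W₁ ⊔ W₂' := sup_le le_sup_left hle
  have hxy : x * y ∈ (↑(W₁ ⊔ W₂) : Set G) \ (↑W₁ ∪ ↑W₂) := by
    refine ⟨mul_mem (Subgroup.mem_sup_left hx) (Subgroup.mem_sup_right hy), ?_⟩
    rintro (h | h)
    · have h2 : y ∈ W₁ ⊓ W₂ := ⟨by simpa using mul_mem (inv_mem hx) h, hy⟩
      rw [hd] at h2; exact hy1 (Subgroup.mem_bot.1 h2)
    · have h2 : x ∈ W₁ ⊓ W₂ := ⟨hx, by simpa [mul_assoc] using mul_mem h (inv_mem hy)⟩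
      rw [hd] at h2; exact hx1 (Subgroup.mem_bot.1 h2)
  have hNxy : Subgroup.normalizer ({x * y} : Set G) = W₁ ⊔ W₂ :=
    hN {x * y} (Set.singleton_subset_iff.2 hxy) (Set.singleton_nonempty _)
  have hWW' : W₁ ⊔ W₂' ≤ W₁ ⊔ W₂ := by
    intro w hw
    rw [← hNxy, Subgroup.normalizer_singleton, Subgroup.mem_centralizer_singleton_iff]
    letI := IsCyclic.commGroup (α := ↥(W₁ ⊔ W₂'))
    exact congrArg Subtype.val
      (mul_comm (⟨w, hw⟩ : ↥(W₁ ⊔ W₂')) ⟨x * y, hWW hxy.1⟩)
  have e : W₁ ⊔ W₂' = W₁ ⊔ W₂ := le_antisymm hWW' hWW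
  have e1 := card_sup_of_commute W₁ W₂ hc hd
  have e2 := card_sup_of_commute W₁ W₂' hc' hd'
  rw [e, e1] at e2
  exact (eq_of_card_eq_of_le_cyclic _ _ _ hcyc le_sup_right (e ▸ le_sup_right)
    (Nat.eq_of_mul_eq_mul_left Nat.card_pos e2)).symm

end Cfsg.Agent.S1386
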