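import Cfsg.Statements.S1400
import Cfsg.Statements.S1400
import Cfsg.Agent.Lib.OddLocal.UniquenessChain

set_option autoImplicit false
open Cfsg

namespace Cfsg.Agent.S1400

/-- Let G be a minimal simple group of odd order, p a prime, A an abelian p-subgroup containing an elementary abelian subgroup of order p ^ 3 and lying in exactly one maximal subgroup, and B a noncyclic p-subgroup whose centralizer contains an elementary abelian subgroup of order p ^ 3. Then B lies in exactly one maximal subgroup of G. -/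
theorem result {G : Type*} [Group G] [Finite G] (hG : Cfsg.IsMinSimpleOddOrder G)
    (p : ℕ) [Fact p.Prime] (A B : Subgroup G) (hAp : IsPGroup p A) (hAc : IsMulCommutative A) (hA3 : ¬ Cfsg.PRankLE p 2 ↥A)
    (hAU : Cfsg.InUniqueMaximal A) (hBp : IsPGroup p B) (hBnc : ¬ IsCyclic B) (hB3 : ¬ Cfsg.PRankLE p 2 ↥(Subgroup.centralizer (B : Set G))) :
    Cfsg.InUniqueMaximal B := by
  obtain ⟨E₀, hE₀A, hE₀, hE₀c⟩ := CfsgLib.OddLocal.exists_elementary_of_not_pRankLE hA3
  have h1 := CfsgLib.OddLocal.inUnique_of_inUnique_abelian hG hAU (fun x hx => Subgroup.mem_centralizer_iff.2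
    fun a ha => congrArg Subtype.val (hAc.is_comm.comm (⟨a, ha⟩ : A) ⟨x, hE₀A hx⟩)) hE₀ hE₀c
  obtain ⟨E, hEB, hE, hEc⟩ := CfsgLib.OddLocal.exists_elementary_of_not_pRankLE hB3
  have h2 := CfsgLib.OddLocal.inUnique_elementary_three hG hE₀ hE₀c h1 hE hEc
  have hp2 : p ≠ 2 := by
    obtain ⟨n, hn⟩ := IsPGroup.iff_card.1 hBp
    refine CfsgLib.OddLocal.ne_two_of_dvd hG ((dvd_pow_self p (fun h0 : n = 0 => hBnc ?_)).trans
      (hn ▸ Subgroup.card_subgroup_dvd_card B))
    have : Subsingleton B := (Nat.card_eq_one_iff_unique.1 (by rw [hn, h0, pow_zero])).1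
    infer_instance
  obtain ⟨W, -, hW, hWc⟩ := Cfsg.Agent.S0126.result hp2 hBp hBnc
  refine CfsgLib.OddLocal.inUnique_of_centralizes hG h2 (Subgroup.le_centralizer_iff.1 hEB)
    (Subgroup.map_subtype_le W) (CfsgLib.PGroup.elemAb_map hW _) (p := p) ?_
  rw [Subgroup.card_map_of_injective B.subtype_injective, hWc]

end Cfsg.Agent.S1400
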