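import Cfsg.Statements.S1401
import Cfsg.Statements.S1401
import Cfsg.Agent.Lib.OddLocal.UniquenessChain

set_option autoImplicit false
open Cfsg

namespace Cfsg.Agent.S1401

/-- Let G be a minimal simple group of odd order, p a prime, and M a maximal subgroup whose Fitting subgroup contains an elementary abelian subgroup of order p ^ 3. Then every abelian p-subgroup of G containing an elementary abelian subgroup of order p ^ 3 lies in exactly one maximal subgroup of G. -/
theorem result {G : Type*} [Group G] [Finite G] (hG : Cfsg.IsMinSimpleOddOrder G)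
    (M : Subgroup G) (hM : IsCoatom M) (p : ℕ) [Fact p.Prime] (hF : ¬ Cfsg.PRankLE p 2 ↥(Cfsg.fittingOf M))
    (A : Subgroup G) (hAp : IsPGroup p A) (hAc : IsMulCommutative A) (hA3 : ¬ Cfsg.PRankLE p 2 ↥A) :
    Cfsg.InUniqueMaximal A := by
  obtain ⟨E₀, hE₀, hE₀c, h1⟩ := CfsgLib.OddLocal.exists_elementary_three_inUnique hG hM hF
  obtain ⟨E, hEA, hE, hEc⟩ := CfsgLib.OddLocal.exists_elementary_of_not_pRankLE hA3
  refine CfsgLib.OddLocal.inUnique_mono hG (CfsgLib.OddLocal.inUnique_elementary_three hG hE₀ hE₀c h1 hE hEc)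
    hEA fun h => hG.2.2.1 ⟨⟨fun a b => ?_⟩⟩
  exact congrArg Subtype.val (hAc.is_comm.comm (⟨a, h.ge (Subgroup.mem_top a)⟩ : A) ⟨b, h.ge (Subgroup.mem_top b)⟩)

end Cfsg.Agent.S1401
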