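import Cfsg.Statements.S1441
-- import your own Cfsg.Agent.* helpers here

set_option autoImplicit false
open Cfsg
open scoped commutatorElement

namespace Cfsg.Agent.S1441

/-- Let G be a finite group, H a solvable subgroup and A a subgroup normalizing H. Suppose there is a chain H = H₀ ≥ H₁ ≥ ⋯ ≥ H_n = 1 of subgroups normal in H and normalized by A such that A acts trivially on each factor H_{i-1}/H_i (that is, [H_{i-1}, A] ≤ H_i). Then every prime dividing the index of C_A(H) in A divides the order of H. -/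
theorem result {G : Type*} [Group G] [Finite G] (H A : Subgroup G) (hH : Group.IsSolvable H) (hA : (A ≤ Subgroup.normalizer (H : Set G)))
    (n : ℕ) (c : Fin (n + 1) → Subgroup G) (hc0 : c 0 = H) (hcn : c (Fin.last n) = ⊥) (hanti : Antitone c)
    (hcN : ∀ i, H ≤ Subgroup.normalizer ((c i : Subgroup G) : Set G)) (hcA : ∀ i, A ≤ Subgroup.normalizer ((c i : Subgroup G) : Set G))
    (htriv : ∀ i : Fin n, ⁅c i.castSucc, A⁆ ≤ c i.succ) :
    ∀ p : ℕ, p.Prime → p ∣ (A ⊓ Subgroup.centralizer (H : Set G)).relIndex A → p ∣ Nat.card H := by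
  intro p hp hdvd
  by_contra hpH
  set C := A ⊓ Subgroup.centralizer (H : Set G) with hC
  have key : ∀ a ∈ A, (orderOf a).Coprime (Nat.card H) → a ∈ C := by
    intro a ha hcop
    suffices h : ∀ i : Fin (n + 1), ∀ x ∈ c i, a * x * a⁻¹ = x by
      refine ⟨ha, Subgroup.mem_centralizer_iff.2 fun x hx => ?_⟩
      have h' := h 0 x (hc0.symm ▸ hx)
      calc x * a = (a * x * a⁻¹) * a := by rw [h']
        _ = a * x := by group
    intro i
    induction i using Fin.reverseInduction with
    | last =>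
      intro x hx
      rw [hcn, Subgroup.mem_bot] at hx
      simp [hx]
    | cast i ih =>
      intro x hx
      set z := ⁅x, a⁆ with hz
      have hzc : z ∈ c i.succ := htriv i (Subgroup.commutator_mem_commutator hx ha)
      have h1 : a * z⁻¹ * a⁻¹ = z⁻¹ := ih _ (inv_mem hzc)
      have h2 : a * x * a⁻¹ = z⁻¹ * x := by rw [hz, commutatorElement_def]; group
      have h3 : ∀ m : ℕ, a ^ m * x * (a ^ m)⁻¹ = z⁻¹ ^ m * x := by
        intro m
        induction m with
        | zero => simp
        | succ m ihm =>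
          calc a ^ (m + 1) * x * (a ^ (m + 1))⁻¹ = a * (a ^ m * x * (a ^ m)⁻¹) * a⁻¹ := by
                rw [pow_succ']; group
            _ = (a * z⁻¹ * a⁻¹) ^ m * (a * x * a⁻¹) := by rw [ihm, conj_pow]; group
            _ = z⁻¹ ^ (m + 1) * x := by rw [h1, h2, pow_succ]; group
      have h4 : z⁻¹ ^ orderOf a = 1 := by
        have := h3 (orderOf a)
        rw [pow_orderOf_eq_one] at this
        simpa using this.symm
      have hzH : z⁻¹ ∈ H := hc0 ▸ hanti (Fin.zero_le _) (inv_mem hzc)
      have h5 : orderOf z⁻¹ = 1 := Nat.eq_one_of_dvd_coprimes hcop (orderOf_dvd_of_pow_eq_one h4)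
        (Subgroup.orderOf_dvd_natCard H hzH)
      rw [orderOf_eq_one_iff] at h5
      rw [h2, h5, one_mul]
  haveI : Fact p.Prime := ⟨hp⟩
  obtain ⟨P⟩ : Nonempty (Sylow p A) := inferInstance
  have hle : (P : Subgroup A) ≤ C.subgroupOf A := by
    intro a haP
    refine Subgroup.mem_subgroupOf.2 (key a a.2 ?_)
    obtain ⟨j, hj⟩ := IsPGroup.iff_orderOf.1 P.isPGroup' ⟨a, haP⟩
    rw [Subgroup.orderOf_coe]
    rw [Subgroup.orderOf_mk] at hj
    rw [hj]
    exact Nat.Coprime.pow_left _ ((Nat.Prime.coprime_iff_not_dvd hp).2 hpH)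
  exact P.not_dvd_index (hdvd.trans (Subgroup.index_dvd_of_le hle))

end Cfsg.Agent.S1441
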