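import Cfsg.Statements.S1449
import Cfsg.Agent.Lib.OddLocal.RankTwo.Structure

set_option autoImplicit false
open Cfsg
open scoped commutatorElement

namespace Cfsg.Agent.S1449

/-- Let G be a finite group, p an odd prime, R a p-subgroup with no elementary abelian subgroup of order p ^ 3, and A a solvable subgroup of odd order normalizing R with A ∩ C_G(R) = 1. Then the derived subgroup [A, A] is a p-group. -/
theorem result {G : Type*} [Group G] [Finite G] (p : ℕ) [Fact p.Prime] (hp : p ≠ 2) (R A : Subgroup G) (hR : IsPGroup p R) (hr : Cfsg.PRankLE p 2 R)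
    (hA : (A ≤ Subgroup.normalizer (R : Set G))) (hAs : Group.IsSolvable A) (hAodd : Odd (Nat.card A)) (hfaith : A ⊓ Subgroup.centralizer (R : Set G) = ⊥) :
    IsPGroup p ↥⁅A, A⁆ := by
  have : Group.IsSolvable A := hAs
  have h := (CfsgLib.OddLocal.RankTwo.operator_rank_two hR hp hr hAodd
    ((Subgroup.normalizerMonoidHom R).comp (Subgroup.inclusion hA)) (fun a _ h => by
      have hC : (a : G) ∈ A ⊓ Subgroup.centralizer (R : Set G) := by
        refine ⟨a.2, Subgroup.mem_centralizer_iff.2 fun r hr => ?_⟩
        have h2 : (a : G) * r * (a : G)⁻¹ = r := congrArg Subtype.val (DFunLike.congr_fun h (⟨r, hr⟩ : R))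
        exact (mul_inv_eq_iff_eq_mul.1 h2).symm
      rw [hfaith, Subgroup.mem_bot] at hC
      exact Subtype.ext hC)).1
  exact Subgroup.map_subtype_commutator A ▸ h.map A.subtype

end Cfsg.Agent.S1449
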