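import Cfsg.Statements.S1452
import Cfsg.Agent.Lib.OddLocal.RankThree

set_option autoImplicit false
open Cfsg
open scoped commutatorElement

namespace Cfsg.Agent.S1452

open Subgroup CfsgLib.PGroup

/-- Let p be an odd prime and R a finite p-group containing an elementary abelian subgroup of order p ^ 3. If E is a normal elementary abelian subgroup of R of order p ^ 2, then E ≤ A for some normal subgroup A of R with C_R(A) = A that contains an elementary abelian subgroup of order p ^ 3. -/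
theorem result {R : Type*} [Group R] [Finite R] (p : ℕ) [Fact p.Prime] (hp : p ≠ 2) (hR : IsPGroup p R) (hr : ¬ Cfsg.PRankLE p 2 R)
    (E : Subgroup R) [E.Normal] (hE : Cfsg.IsElementaryAbelian p E) (hE2 : Nat.card E = p ^ 2) :
    ∃ A : Subgroup R, E ≤ A ∧ A.Normal ∧ Subgroup.centralizer (A : Set R) = A ∧ ¬ Cfsg.PRankLE p 2 A := by
  obtain ⟨W, hEW, ⟨hWn, hWe⟩, hmax⟩ := Finite.exists_le_maximal
    (p := fun W : Subgroup R => W.Normal ∧ IsElementaryAbelian p W) (a := E) ⟨inferInstance, hE⟩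
  obtain ⟨A, hWA, hAn, -, hA⟩ := exists_normal_abelian_centralizer_eq hR W hWn
    fun a ha b hb => elemAb_comm hWe ha hb
  refine ⟨A, hEW.trans hWA, hAn, hA, fun h => hr ?_⟩
  have hW2 : Nat.card W ≤ p ^ 2 := (pRankLE_subgroup_iff A).1 h W hWA hWe
  have hWE : E = W := eq_of_le_of_card_ge hEW (hE2 ▸ hW2)
  subst hWE
  have hom := CfsgLib.OddLocal.mem_of_centralizes_omega hp hR hWe
    fun W' h1 h2 h3 => le_antisymm (hmax ⟨h1, h2⟩ h3) h3
  refine pRankLE_iff.2 fun B hB => ?_
  by_contra hBc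
  obtain ⟨K, hKB, hcard, hKc⟩ := CfsgLib.RankGraph.exists_le_centralizing hR hE2 B
  have hKE : K ≤ E := fun k hk =>
    hom k (mem_centralizer_iff.2 fun u hu => (hKc k hk u hu).symm) (hB.2 k (hKB hk))
  obtain ⟨n, hn⟩ := (elemAb_isPGroup hB).exists_card_eq
  have h3 : p ^ 3 ≤ Nat.card B := by
    rw [hn] at hBc ⊢
    refine Nat.pow_le_pow_right (Fact.out : p.Prime).pos ?_
    by_contra h'
    exact hBc (Nat.pow_le_pow_right (Fact.out : p.Prime).pos (by omega))
  have hKeq : K = E := eq_of_le_of_card_ge hKE (by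
    rw [hE2]
    exact Nat.le_of_mul_le_mul_left (by rw [← pow_succ']; exact h3.trans hcard) (Fact.out : p.Prime).pos)
  have hBE : B ≤ E := fun b hb => hom b
    (mem_centralizer_iff.2 fun u hu => elemAb_comm hB (hKB (hKeq.ge hu)) hb) (hB.2 b hb)
  exact hBc ((card_le_of_le hBE).trans_eq hE2)

end Cfsg.Agent.S1452
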