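import Cfsg.Statements.S1456
import Cfsg.Agent.Lib.OddLocal.RankTwo.Tower
import Cfsg.Agent.Lib.OddLocal.Ten.Narrow

set_option autoImplicit false
open Cfsg
open scoped commutatorElement

namespace Cfsg.Agent.S1456

open Subgroup CfsgLib.PGroup

/-- Let G be a solvable group of odd order, p a prime, and E an elementary abelian p-subgroup of the Fitting subgroup F(G) such that F(G) ∩ C_G(E) has no elementary abelian subgroup of order q ^ 3 for any prime q. Then the derived subgroup of G is contained in F(G). -/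
theorem result {G : Type*} [Group G] [Finite G] [Group.IsSolvable G] (hodd : Odd (Nat.card G)) (p : ℕ) [Fact p.Prime] (E : Subgroup G) (hE : E ≤ Cfsg.fittingSubgroup G) (hEe : Cfsg.IsElementaryAbelian p E)
    (hr : Cfsg.RankLE 2 ↥(Cfsg.fittingSubgroup G ⊓ Subgroup.centralizer (E : Set G))) :
    commutator G ≤ Cfsg.fittingSubgroup G := by
  refine CfsgLib.OddLocal.RankTwo.commutator_le_fitting_of_narrow hodd fun r _ => ?_
  set F := fittingSubgroup G
  have hEp : E ≤ pCore p G := by
    have hn : (fittingSubgroup G).Normal := CfsgLib.Cores.fittingSubgroup_normal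
    exact CfsgLib.OddLocal.Ten.le_pCore_of_le_nilpotent (CfsgLib.Cores.isNilpotent_fittingSubgroup (G := G))
      (elemAb_isPGroup hEe) hE
  have hle : pCore r G ≤ F := CfsgLib.Cores.pCore_le_fittingSubgroup r
  by_cases hrp : r = p
  swap
  · refine Or.inl ((pRankLE_subgroup_iff _).2 fun A hA hAe =>
      (pRankLE_subgroup_iff _).1 (hr r Fact.out) A (le_inf (hA.trans hle) ?_) hAe)
    refine hA.trans ?_
    have hnr : (pCore r G).Normal := Subgroup.sSup_normal _ fun _ h => h.1
    have hnp : (pCore p G).Normal := Subgroup.sSup_normal _ fun _ h => h.1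
    have hd : pCore r G ⊓ pCore p G = ⊥ := by
      refine disjoint_iff.1 (IsPGroup.disjoint_of_ne r p hrp _ _
        (CfsgLib.Cores.isPGroup_pCore r) (CfsgLib.Cores.isPGroup_pCore p))
    intro x hx
    refine mem_centralizer_iff.2 fun e he => ?_
    exact (commutatorElement_eq_one_iff_mul_comm.1 (mem_bot.1 (hd.le ⟨
      commutator_le_left _ _ (commutator_mem_commutator hx (hEp he)),
      commutator_le_right _ _ (commutator_mem_commutator hx (hEp he))⟩))).symm
  subst hrp
  set P := pCore r G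
  by_cases hrk : PRankLE r 2 P
  · exact Or.inl hrk
  have hPp : IsPGroup r P := CfsgLib.Cores.isPGroup_pCore r
  have hp2 : r ≠ 2 := by
    rintro rfl
    refine hrk ((pRankLE_subgroup_iff _).2 fun A hA hAe => ?_)
    obtain ⟨n, hn⟩ := (hPp.to_le hA).exists_card_eq
    rcases n with _ | n
    · simp [hn]
    · exact absurd (even_iff_two_dvd.2 ((dvd_pow_self 2 n.succ_ne_zero).trans (hn ▸ card_subgroup_dvd_card A)))
        (Nat.not_even_iff_odd.2 hodd)
  obtain ⟨B, hB⟩ := Finite.exists_le_maximal (p := fun B : Subgroup G => IsElementaryAbelian r B ∧ B ≤ P)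
    ⟨hEe, hEp⟩
  obtain ⟨hEB, ⟨hBe, hBP⟩, hmax⟩ := hB.1, hB.2.1, hB.2.2
  have hBC : B ≤ F ⊓ centralizer (E : Set G) := le_inf (hBP.trans hle) fun b hb =>
    mem_centralizer_iff.2 fun e he => hBe.1.is_comm.comm ⟨e, hEB he⟩ ⟨b, hb⟩ |> congrArg Subtype.val
  have hB2 : Nat.card B ≤ r ^ 2 := (pRankLE_subgroup_iff _).1 (hr r Fact.out) B hBC hBe
  have : Nontrivial P := by
    rcases subsingleton_or_nontrivial P with h | h
    · exact absurd ((pRankLE_subgroup_iff _).2 fun A hA _ =>
        (card_le_of_le hA).trans (Nat.card_of_subsingleton (1 : P) ▸ Nat.one_le_pow _ _ (Fact.out : r.Prime).pos)) hrk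
    · exact h
  have : Nontrivial (center P) := hPp.center_nontrivial
  obtain ⟨z, hzd⟩ := exists_prime_orderOf_dvd_card' (G := center P) r (by
    obtain ⟨n, hn0, hn⟩ := (IsPGroup.nontrivial_iff_card (hPp.to_subgroup (center P))).1 inferInstance
    exact hn ▸ dvd_pow_self r hn0.ne')
  set w : G := ((z : P) : G)
  have hwo : orderOf w = r := by rw [Subgroup.orderOf_coe, Subgroup.orderOf_coe, hzd]
  have hwc : ∀ x ∈ P, x * w = w * x := fun x hx =>
    congrArg Subtype.val (mem_center_iff.1 z.2 ⟨x, hx⟩)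
  have hwB : zpowers w ≤ B := by
    refine le_sup_right.trans (hmax ⟨elemAb_sup hBe
      (elemAb_zpowers (hwo ▸ pow_orderOf_eq_one w)) fun a ha b hb => ?_,
      sup_le hBP (zpowers_le.2 (z : P).2)⟩ le_sup_left)
    obtain ⟨i, rfl⟩ := mem_zpowers_iff.1 hb
    exact (show Commute a w from hwc a (hBP ha)).zpow_right i
  have hBc : Nat.card B = r ^ 2 := by
    obtain ⟨n, hn⟩ := (elemAb_isPGroup hBe).exists_card_eq
    rw [hn] at hB2 ⊢
    have h2 := (Nat.pow_le_pow_iff_right (Fact.out : r.Prime).one_lt).1 hB2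
    by_contra hne
    have hn1 : n ≤ 1 := by
      rcases Nat.lt_or_ge n 2 with h | h
      · omega
      · exact absurd (by rw [le_antisymm h2 h]) hne
    have heq : zpowers w = B := eq_of_le_of_card_ge hwB (by
      rw [hn, Nat.card_zpowers, hwo]
      exact (Nat.pow_le_pow_right (Fact.out : r.Prime).pos hn1).trans (pow_one r).le)
    refine hrk ((pRankLE_subgroup_iff _).2 fun A hA hAe => ?_)
    have hAB : A ≤ B := fun a ha => le_sup_right.trans (hmax ⟨elemAb_sup hBe
        (elemAb_zpowers (hAe.2 a ha)) fun x hx b hb => by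
          obtain ⟨i, rfl⟩ := mem_zpowers_iff.1 hb
          obtain ⟨j, rfl⟩ := mem_zpowers_iff.1 (heq ▸ hx : x ∈ zpowers w)
          exact (show Commute a w from hwc a (hA ha)).symm.zpow_zpow j i,
        sup_le hBP (zpowers_le.2 (hA ha))⟩ le_sup_left) (mem_zpowers a)
    exact (card_le_of_le hAB).trans (hn.le.trans hB2)
  refine CfsgLib.OddLocal.Ten.isNarrow_of_maximal_sq hPp hp2 hrk
    (A := B.subgroupOf P) ?_ ((Nat.card_congr (subgroupOfEquivOfLe hBP).toEquiv).trans hBc) fun C hC hBC' => ?_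
  · exact isElementaryAbelian_mk (fun a ha b hb => Subtype.ext (elemAb_comm hBe ha hb))
      fun a ha => Subtype.ext (hBe.2 (a : G) ha)
  · have hle' : B ≤ C.map P.subtype := by
      rw [← map_subgroupOf_eq_of_le hBP]; exact map_mono hBC'
    have hCB := hmax ⟨?_, map_subtype_le C⟩ hle'
    · exact le_antisymm (fun x hx => mem_subgroupOf.2 (hCB (mem_map_of_mem P.subtype hx))) hBC'
    · refine isElementaryAbelian_mk ?_ ?_
      · rintro _ ⟨a, ha, rfl⟩ _ ⟨b, hb, rfl⟩
        exact congrArg Subtype.val (elemAb_comm hC ha hb)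
      · rintro _ ⟨a, ha, rfl⟩
        exact congrArg Subtype.val (hC.2 a ha)

end Cfsg.Agent.S1456
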