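import Cfsg.Statements.S1458
import Cfsg.Agent.Lib.PStab.ZJ
import Cfsg.Agent.Lib.Solvable.Fitting

set_option autoImplicit false
open Cfsg

namespace Cfsg.Agent.S1458

/-- Let G be a solvable group of odd order, p a prime and S a Sylow p-subgroup of G. Then the subgroup generated by the centre of the Thompson subgroup of S and O_{p'}(G) is normal in G. -/
theorem result {G : Type*} [Group G] [Finite G] [Group.IsSolvable G] (hodd : Odd (Nat.card G)) (p : ℕ) [Fact p.Prime] (S : Sylow p G) :
    (Cfsg.centerThompsonOf p (S : Subgroup G) ⊔ Cfsg.pPrimeCore p G).Normal := by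
  rw [CfsgLib.PStab.centerThompsonOf_eq_zjGen]
  set N := Cfsg.pPrimeCore p G with hN
  set f := QuotientGroup.mk' N with hf
  have hsurj : Function.Surjective f := QuotientGroup.mk'_surjective N
  set S' : Sylow p (G ⧸ N) := S.mapSurjective hsurj
  have hinj : Function.Injective (f.comp (S : Subgroup G).subtype) := by
    rw [injective_iff_map_eq_one]
    intro x hx
    have hxN : (x : G) ∈ N := (QuotientGroup.eq_one_iff _).1 hx
    obtain ⟨k, hk⟩ := IsPGroup.iff_orderOf.1 S.2 x
    have h1 : orderOf (x : G) = p ^ k := by rw [Subgroup.orderOf_coe, hk]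
    have h2 : (orderOf (x : G)).Coprime p :=
      Nat.Coprime.coprime_dvd_left (Subgroup.orderOf_dvd_natCard N hxN)
        (CfsgLib.Cores.coprime_card_pPrimeCore p)
    apply Subtype.ext
    show (x : G) = 1
    exact orderOf_eq_one_iff.1 (CfsgLib.Transfer.eq_one_of_coprime_of_pow h2 (dvd_of_eq h1))
  have hmap : CfsgLib.PStab.zjGen p (S' : Subgroup (G ⧸ N)) =
      (CfsgLib.PStab.zjGen p (S : Subgroup G)).map f :=
    CfsgLib.PStab.zjGen_map_of_injective_restrict hinj
  have hn : (CfsgLib.PStab.zjGen p (S' : Subgroup (G ⧸ N))).Normal := by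
    by_cases hp2 : p = 2
    · have hbot : (S' : Subgroup (G ⧸ N)) = ⊥ := by
        obtain ⟨k, hk⟩ := IsPGroup.iff_card.1 S'.2
        have h1 : Odd (Nat.card (S' : Subgroup (G ⧸ N))) :=
          (hodd.of_dvd_nat (Subgroup.card_quotient_dvd_card N)).of_dvd_nat (Subgroup.card_subgroup_dvd_card _)
        rw [hk, hp2] at h1
        have hk0 : k = 0 := by
          by_contra hk0
          exact (Nat.not_even_iff_odd.2 h1) ((Nat.even_pow.2 ⟨even_two, hk0⟩))
        rw [hk0, pow_zero] at hk
        exact Subgroup.eq_bot_of_card_eq _ hk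
      have : CfsgLib.PStab.zjGen p (S' : Subgroup (G ⧸ N)) = ⊥ :=
        le_bot_iff.1 ((CfsgLib.PStab.zjGen_le _ _).trans hbot.le)
      rw [this]; infer_instance
    exact CfsgLib.PStab.zjGen_normal hp2
      (fun P _ hP => (CfsgLib.PStab.stableAll_of_odd
        (hodd.of_dvd_nat (Subgroup.card_quotient_dvd_card N))).isPStableOn P hP)
      (Or.inr rfl) S' ⟨le_rfl, fun _ _ _ h => h⟩
      (CfsgLib.Solvable.centralizer_pCore_le p (CfsgLib.Cores.pPrimeCore_quotient_self p))
  have hc := hn.comap f
  rwa [hmap, Subgroup.comap_map_eq, QuotientGroup.ker_mk'] at hc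

end Cfsg.Agent.S1458
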