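import Cfsg.Statements.S1462
import Cfsg.Agent.Lib.PStab.Transitivity
import Cfsg.Agent.Lib.Cores.Balance

set_option autoImplicit false
open Cfsg

namespace Cfsg.Agent.S1462

/-- Let G be a finite solvable group, p an odd prime with G = O_{p',p,p'}(G), E an elementary abelian p-subgroup contained in no larger elementary abelian p-subgroup of G, and L a subgroup of order coprime to p normalized by E. Then L ≤ O_{p'}(G). -/
theorem result {G : Type*} [Group G] [Finite G] [Group.IsSolvable G] (p : ℕ) [Fact p.Prime] (hp : p ≠ 2) (hpl : Cfsg.PLengthLE p 1 G) (E L : Subgroup G) (hE : Cfsg.IsElementaryAbelian p E)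
    (hEmax : ∀ B : Subgroup G, Cfsg.IsElementaryAbelian p B → E ≤ B → B = E) (hL : (Nat.card L).Coprime p) (hEL : E ≤ Subgroup.normalizer (L : Set G)) :
    L ≤ Cfsg.pPrimeCore p G := by
  refine CfsgLib.PStab.le_pPrimeCore_of_omega hp CfsgLib.Cores.isPConstrained_of_isSolvable
    (fun x => ⟨1, Subtype.ext (by simpa using hE.2 x x.2)⟩) (fun x hx hxp => ?_) hL hEL
  set B := Subgroup.closure (insert x (E : Set G)) with hB
  have hcm : ∀ u ∈ insert x (E : Set G), ∀ v ∈ insert x (E : Set G), u * v = v * u := by
    rintro u (rfl | hu) v (rfl | hv)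
    · rfl
    · exact (Subgroup.mem_centralizer_iff.1 hx v hv).symm
    · exact Subgroup.mem_centralizer_iff.1 hx u hu
    · exact congrArg Subtype.val (hE.1.is_comm.comm (⟨u, hu⟩ : E) ⟨v, hv⟩)
  have hc : IsMulCommutative B := Subgroup.isMulCommutative_closure hcm
  have hBe : Cfsg.IsElementaryAbelian p B := by
    refine ⟨hc, fun b hb => ?_⟩
    induction hb using Subgroup.closure_induction with
    | mem u hu =>
      rcases hu with rfl | hu
      · exact hxp
      · exact hE.2 u hu
    | one => exact one_pow _
    | mul u v hu hv iu iv =>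
      have : Commute u v := congrArg Subtype.val (hc.is_comm.comm ⟨u, hu⟩ ⟨v, hv⟩)
      rw [this.mul_pow, iu, iv, one_mul]
    | inv u hu iu => rw [inv_pow, iu, inv_one]
  have := hEmax B hBe fun e he => Subgroup.subset_closure (Set.mem_insert_of_mem _ he)
  exact this.le (Subgroup.subset_closure (Set.mem_insert _ _))

end Cfsg.Agent.S1462
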