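import Cfsg.Statements.S1463
import Cfsg.Agent.Lib.PStab.GL2

set_option autoImplicit false
open scoped MatrixGroups
open Cfsg
open Matrix

namespace Cfsg.Agent.S1463

/-- Let F be a field of odd characteristic p and H a finite subgroup of odd order of GL(2, F) that leaves no 1-dimensional subspace of F² invariant. Then p does not divide the order of H. -/
theorem result {F : Type*} [Field F] (p : ℕ) [Fact p.Prime] [CharP F p] (hp : p ≠ 2)
    (H : Subgroup (GL (Fin 2) F)) [Finite H] (hodd : Odd (Nat.card H))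
    (hirr : ∀ v : Fin 2 → F, v ≠ 0 → ∃ g ∈ H, (g : Matrix (Fin 2) (Fin 2) F).mulVec v ∉ Submodule.span F {v}) :
    ¬ p ∣ Nat.card H := by
  intro hdvd
  let K := AlgebraicClosure F
  let f : F →+* K := algebraMap F K
  haveI : CharP K p := charP_of_injective_algebraMap f.injective p
  let ρ : H →* Matrix (Fin 2) (Fin 2) K :=
    f.mapMatrix.toMonoidHom.comp ((Units.coeHom _).comp H.subtype)
  have hρ : Function.Injective ρ := fun a b h => Subtype.ext (Units.ext (Matrix.map_injective f.injective h))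
  obtain ⟨v, hv, hfix⟩ := CfsgLib.PStab.exists_common_eigenvector p hodd ρ hρ hdvd
  obtain ⟨t, ht⟩ := exists_prime_orderOf_dvd_card' p hdvd
  set A : Matrix (Fin 2) (Fin 2) F := ((t : GL (Fin 2) F) : Matrix (Fin 2) (Fin 2) F) with hA
  have hAp : A ^ p = 1 := by
    rw [hA, ← Units.val_pow_eq_pow_val, ← Subgroup.coe_pow, ← ht, pow_orderOf_eq_one]; rfl
  have hdet : (A - 1).det = 0 := by
    have h1 : (A - 1) ^ p = 0 := by
      rw [sub_pow_char_of_commute p (Commute.one_right A), one_pow, hAp, sub_self]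
    have h2 := congrArg Matrix.det h1
    rw [Matrix.det_pow, Matrix.det_zero] at h2
    exact eq_zero_of_pow_eq_zero h2
  obtain ⟨w, hw, hw'⟩ := Matrix.exists_mulVec_eq_zero_iff.2 hdet
  rw [Matrix.sub_mulVec, Matrix.one_mulVec, sub_eq_zero] at hw'
  set wK : Fin 2 → K := fun i => f (w i) with hwK
  have hmap : ∀ (g : H) (u : Fin 2 → F) (i : Fin 2),
      (ρ g *ᵥ fun j => f (u j)) i = f ((((g : GL (Fin 2) F) : Matrix (Fin 2) (Fin 2) F) *ᵥ u) i) := by
    intro g u i
    exact (RingHom.map_mulVec f _ u i).symm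
  have htw : ρ t *ᵥ wK = (1 : K) • wK := by
    funext i; rw [hwK, hmap, ← hA, hw', one_smul]
  obtain ⟨c, hc⟩ := hfix t
  have hc1 : c = 1 := by
    have h : ∀ n : ℕ, ρ (t ^ n) *ᵥ v = c ^ n • v := by
      intro n
      induction n with
      | zero => simp
      | succ n ih => rw [pow_succ', map_mul, ← Matrix.mulVec_mulVec, ih, Matrix.mulVec_smul, hc,
          smul_smul, pow_succ]
    have h2 := h p
    rw [← ht, pow_orderOf_eq_one, map_one, Matrix.one_mulVec, ht] at h2
    have h3 : (c ^ p - 1) • v = 0 := by rw [sub_smul, one_smul, ← h2, sub_self]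
    rw [smul_eq_zero, sub_eq_zero] at h3
    have h4 := h3.resolve_right hv
    exact frobenius_inj K p (by rw [frobenius_def, frobenius_def, h4, one_pow])
  have hdep : v 0 * wK 1 - v 1 * wK 0 = 0 := by
    by_contra hne
    have e := CfsgLib.PStab.eq_smul_one_of_two_eigen hc (hc1 ▸ htw) hne
    rw [hc1, one_smul, ← map_one ρ] at e
    rw [hρ e, orderOf_one] at ht
    exact (Fact.out : p.Prime).one_lt.ne ht
  obtain ⟨d, hd⟩ := CfsgLib.PStab.exists_eq_smul_of_det_eq_zero hv hdep
  obtain ⟨g, hg, hgw⟩ := hirr w hw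
  apply hgw
  obtain ⟨a, ha⟩ := hfix ⟨g, hg⟩
  have hgwK : ρ ⟨g, hg⟩ *ᵥ wK = a • wK := by
    rw [hd, Matrix.mulVec_smul, ha, smul_comm]
  rw [Submodule.mem_span_singleton]
  obtain ⟨i, hi⟩ : ∃ i, w i ≠ 0 := Function.ne_iff.1 hw
  refine ⟨((g : Matrix (Fin 2) (Fin 2) F) *ᵥ w) i / w i, funext fun j => f.injective ?_⟩
  have e : ∀ k, f (((g : Matrix (Fin 2) (Fin 2) F) *ᵥ w) k) = a * f (w k) := fun k => by
    have := congrFun hgwK k
    rw [hwK, hmap] at this
    exact this
  rw [Pi.smul_apply, smul_eq_mul, map_mul, map_div₀, e, e]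
  have : f (w i) ≠ 0 := (map_ne_zero f).2 hi
  rw [mul_div_cancel_right₀ _ this]

end Cfsg.Agent.S1463
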