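import Cfsg.Statements.S1465
import Cfsg.Agent.Lib.PStab.Stable
import Cfsg.Agent.Lib.Solvable.Fitting

set_option autoImplicit false
open Cfsg
open scoped commutatorElement

namespace Cfsg.Agent.S1465


/-- If `O_{p'}(G) = 1` and `C_{O_p(G)}(P) ≤ P` then `C_G(P)` is a p-group. -/
theorem isPGroup_centralizer {G : Type*} [Group G] [Finite G] [Group.IsSolvable G] (p : ℕ) [Fact p.Prime]
    (P : Subgroup G) [P.Normal] (hO : Cfsg.pPrimeCore p G = ⊥)
    (hC : Cfsg.pCore p G ⊓ Subgroup.centralizer (P : Set G) ≤ P) :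
    IsPGroup p (Subgroup.centralizer (P : Set G) : Subgroup G) := by
  set C := Subgroup.centralizer (P : Set G)
  have hO' : Cfsg.pPrimeCore p C = ⊥ := by
    have h1 := CfsgLib.Cores.map_subtype_pPrimeCore_le_of_normal p C
    rw [hO, le_bot_iff, Subgroup.map_eq_bot_iff_of_injective _ C.subtype_injective] at h1
    exact h1
  have h2 := CfsgLib.Solvable.centralizer_pCore_le p hO'
  have h3 : Cfsg.pCore p C = ⊤ := by
    refine top_le_iff.1 (le_trans (fun c _ => ?_) h2)
    rw [Subgroup.mem_centralizer_iff]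
    intro x hx
    have hxP : (x : G) ∈ P :=
      hC ⟨CfsgLib.Cores.map_subtype_pCore_le_of_normal p C ⟨x, hx, rfl⟩, x.2⟩
    exact Subtype.ext (Subgroup.mem_centralizer_iff.1 c.2 (x : G) hxP)
  exact (CfsgLib.Cores.pCore_eq_top_iff.1 h3)

/-- Let p be an odd prime, G a solvable group of odd order, P a normal p-subgroup of G, and X the subgroup generated by a family of abelian p-subgroups of G each normalized by P. Then the image of X in G/C_G(P) lies in O_p(G/C_G(P)); and if O_{p'}(G) = 1 and O_p(G) ∩ C_G(P) ≤ P then X ≤ O_p(G). -/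
theorem result {G : Type*} [Group G] [Finite G] [Group.IsSolvable G] (hodd : Odd (Nat.card G)) (p : ℕ) [Fact p.Prime] (hp : p ≠ 2) (P : Subgroup G) [P.Normal] (hP : IsPGroup p P)
    (S : Set (Subgroup G)) (hS : ∀ B ∈ S, IsMulCommutative B ∧ IsPGroup p B ∧ P ≤ Subgroup.normalizer (B : Set G)) :
    (sSup S).map (QuotientGroup.mk' (Subgroup.centralizer (P : Set G))) ≤ Cfsg.pCore p (G ⧸ Subgroup.centralizer (P : Set G)) ∧
      (Cfsg.pPrimeCore p G = ⊥ → Cfsg.pCore p G ⊓ Subgroup.centralizer (P : Set G) ≤ P → sSup S ≤ Cfsg.pCore p G) := by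
  set f := QuotientGroup.mk' (Subgroup.centralizer (P : Set G))
  have h1 : (sSup S).map f ≤ Cfsg.pCore p (G ⧸ Subgroup.centralizer (P : Set G)) := by
    rw [Subgroup.map_le_iff_le_comap, sSup_le_iff]
    intro B hB b hb
    obtain ⟨hBc, -, hPB⟩ := hS B hB
    refine (CfsgLib.PStab.stableAll_of_odd hodd).isPStableOn P hP b ?_
    rw [← CfsgLib.PStab.isQuad_iff (by rw [Subgroup.normalizer_eq_top]; trivial)]
    intro x hx
    have hxb : ⁅x, b⁆ ∈ B := by
      rw [commutatorElement_def]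
      exact mul_mem ((Subgroup.mem_normalizer_iff.1 (hPB hx) b).1 hb) (inv_mem hb)
    rw [commutatorElement_eq_one_iff_mul_comm]
    exact congrArg Subtype.val (hBc.is_comm.comm ⟨_, hxb⟩ ⟨b, hb⟩)
  refine ⟨h1, fun hO hC => ?_⟩
  refine le_trans (Subgroup.map_le_iff_le_comap.1 h1) (CfsgLib.Cores.le_pCore ?_)
  exact CfsgLib.Cores.isPGroup_pCore p |>.comap_of_ker_isPGroup f
    (by rw [QuotientGroup.ker_mk']; exact isPGroup_centralizer p P hO hC)

end Cfsg.Agent.S1465
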