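import Cfsg.Statements.S1470
-- import your own Cfsg.Agent.* helpers here

set_option autoImplicit false
open Cfsg
open Polynomial

namespace Cfsg.Agent.S1470

/-- Let p and q be odd primes with (p^q − 1)/(p − 1) coprime to p − 1, and let E be the set of elements a of the field with p ^ q elements whose norm to the prime field is 1 and for which 2 − a also has norm 1. If a⁻¹ ∈ E for every a ∈ E and E has at least two elements, then p ≤ q. -/
theorem result (p q : ℕ) [Fact p.Prime] [Fact q.Prime] (hp : p ≠ 2) (hq : q ≠ 2) (hA : Nat.Coprime ((p ^ q - 1) / (p - 1)) (p - 1))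
    (hinv : ∀ a ∈ {a : GaloisField p q | Algebra.norm (ZMod p) a = 1 ∧ Algebra.norm (ZMod p) (2 - a) = 1}, a⁻¹ ∈ {a : GaloisField p q | Algebra.norm (ZMod p) a = 1 ∧ Algebra.norm (ZMod p) (2 - a) = 1})
    (h2 : 2 ≤ Set.ncard {a : GaloisField p q | Algebra.norm (ZMod p) a = 1 ∧ Algebra.norm (ZMod p) (2 - a) = 1}) :
    p ≤ q := by
  classical
  set L := GaloisField p q
  have hq0 : q ≠ 0 := (Fact.out : q.Prime).ne_zero
  set E : Set L := {a : L | Algebra.norm (ZMod p) a = 1 ∧ Algebra.norm (ZMod p) (2 - a) = 1} with hE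
  have h1E : (1 : L) ∈ E := ⟨map_one _, by norm_num⟩
  obtain ⟨a, haE, ha1⟩ : ∃ a ∈ E, a ≠ (1 : L) := Set.exists_ne_of_one_lt_ncard h2 1
  set b : L := 1 - a with hb
  have hb0 : b ≠ 0 := sub_ne_zero.2 (Ne.symm ha1)
  have hne : ∀ x : L, Algebra.norm (ZMod p) x = 1 → x ≠ 0 := by
    rintro x hx rfl
    rw [Algebra.norm_zero] at hx
    exact zero_ne_one hx
  -- the norm is 1 along a whole coset of the prime field
  have key : ∀ k : ℕ, Algebra.norm (ZMod p) (1 + (k : L) * b) = 1 ∧
      (1 + ((k : L) - 1) * b) / (1 + (k : L) * b) ∈ E := by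
    intro k
    induction k with
    | zero =>
      have e : 1 + ((0 : L) - 1) * b = a := by rw [hb]; ring
      refine ⟨by simp, ?_⟩
      rw [Nat.cast_zero, e, zero_mul, add_zero, div_one]
      exact haE
    | succ k ih =>
      obtain ⟨hk, hkE⟩ := ih
      have hk0 : 1 + (k : L) * b ≠ 0 := hne _ hk
      have h2' : 2 - (1 + ((k : L) - 1) * b) / (1 + (k : L) * b) =
          (1 + ((k : L) + 1) * b) / (1 + (k : L) * b) := by
        rw [eq_div_iff hk0, sub_mul, div_mul_cancel₀ _ hk0]
        ring
      have hN : Algebra.norm (ZMod p) ((1 + ((k : L) + 1) * b) / (1 + (k : L) * b)) = 1 := h2' ▸ hkE.2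
      have hN' : Algebra.norm (ZMod p) (1 + ((k : L) + 1) * b) = 1 := by
        calc Algebra.norm (ZMod p) (1 + ((k : L) + 1) * b)
            = Algebra.norm (ZMod p) ((1 + ((k : L) + 1) * b) / (1 + (k : L) * b) * (1 + (k : L) * b)) := by
              rw [div_mul_cancel₀ _ hk0]
          _ = 1 := by rw [map_mul, hN, hk, one_mul]
      refine ⟨by exact_mod_cast hN', ?_⟩
      have hmem : (1 + ((k : L) + 1) * b) / (1 + (k : L) * b) ∈ E := by
        refine ⟨hN, ?_⟩
        rw [← h2', sub_sub_cancel]
        exact hkE.1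
      have := hinv _ hmem
      rw [inv_div] at this
      simpa using this
  -- the norm as a polynomial
  set P : L[X] := ∏ i ∈ Finset.range q, (C (b ^ p ^ i) * X + C 1) with hP
  have hdeg : P.natDegree = q := by
    rw [hP, natDegree_prod]
    · rw [Finset.sum_congr rfl fun i _ => natDegree_linear (pow_ne_zero (p ^ i) hb0)]
      simp
    · intro i _ h
      have := congrArg (fun f => coeff f 0) h
      simp at this
  have heval : ∀ k : ℕ, P.eval (k : L) = 1 := by
    intro k
    have hN := FiniteField.algebraMap_norm_eq_prod_pow (ZMod p) L (1 + (k : L) * b)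
    rw [(key k).1, map_one, GaloisField.finrank p hq0, Nat.card_zmod] at hN
    rw [hP, eval_prod]
    refine Eq.trans (Finset.prod_congr rfl fun i _ => ?_) hN.symm
    rw [add_pow_char_pow, one_pow, mul_pow, eval_add, eval_mul, eval_C, eval_X, eval_C]
    have hk' : (k : L) ^ p ^ i = k := by
      rw [← map_natCast (algebraMap (ZMod p) L), ← map_pow, ZMod.pow_card_pow]
    rw [hk', mul_comm, add_comm]
  by_contra hlt
  have hroots : (P - C 1) = 0 := by
    refine eq_zero_of_natDegree_lt_card_of_eval_eq_zero (P - C 1)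
      (f := fun k : Fin p => ((k : ℕ) : L)) ?_ (fun k => by simp [heval]) ?_
    · intro i j hij
      exact Fin.ext (CharP.natCast_injOn_Iio L p (Set.mem_Iio.2 i.2) (Set.mem_Iio.2 j.2) hij)
    · rw [natDegree_sub_C, hdeg, Fintype.card_fin]
      omega
  rw [sub_eq_zero] at hroots
  rw [hroots, natDegree_C] at hdeg
  exact hq0 hdeg.symm

end Cfsg.Agent.S1470
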