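import Cfsg.Statements.S1471
import Cfsg.Agent.Lib.AppendixC.Count

set_option autoImplicit false
open Cfsg
open Polynomial

namespace Cfsg.Agent.S1471


variable (p : ℕ) [Fact p.Prime]

/-- The norm of `c - root f` is `f(c)`. -/
theorem norm_sub_root (f : (ZMod p)[X]) (hf : f.Monic) (c : ZMod p) :
    Algebra.norm (ZMod p) (algebraMap (ZMod p) (AdjoinRoot f) c - AdjoinRoot.root f) = f.eval c := by
  set pb := AdjoinRoot.powerBasis hf.ne_zero with hpb
  have hmin : minpoly (ZMod p) pb.gen = f := by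
    rw [hpb, AdjoinRoot.powerBasis_gen, AdjoinRoot.minpoly_root hf.ne_zero, hf.leadingCoeff]; simp
  conv_rhs => rw [← hmin, ← charpoly_leftMulMatrix, Matrix.eval_charpoly]
  rw [Algebra.norm_eq_matrix_det pb.basis, map_sub, AlgHom.commutes, hpb, AdjoinRoot.powerBasis_gen]
  rfl

/-- The case `q = 3`: a suitable irreducible cubic exists. -/
theorem exists_irreducible_cubic (hp : p ≠ 2) : ∃ f : (ZMod p)[X], f.Monic ∧ f.natDegree = 3 ∧
    Irreducible f ∧ f.eval 0 = -1 ∧ f.eval 2 = 1 ∧ f.eval 1 ≠ 0 := by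
  classical
  have h2 : (2 : ZMod p) ≠ 0 := by
    intro h
    have : ((2 : ℕ) : ZMod p) = 0 := by exact_mod_cast h
    rw [ZMod.natCast_eq_zero_iff] at this
    exact hp ((Nat.prime_dvd_prime_iff_eq (Fact.out) Nat.prime_two).1 this)
  let g : ZMod p → ZMod p → ZMod p := fun b t => t ^ 3 + b * t ^ 2 - (3 + 2 * b) * t - 1
  obtain ⟨b, hb⟩ : ∃ b, ∀ t, g b t ≠ 0 := by
    by_contra hne
    push Not at hne
    choose r hr using hne
    have hinj : Function.Injective r := by
      intro b b' hbb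
      have h1 := hr b
      have h2' := hr b'
      rw [← hbb] at h2'
      simp only [g] at h1 h2'
      have h3 : (b - b') * (r b * (r b - 2)) = 0 := by linear_combination h1 - h2'
      rcases mul_eq_zero.1 h3 with h | h
      · exact sub_eq_zero.1 h
      · exfalso
        rcases mul_eq_zero.1 h with h | h
        · rw [h] at h1; simp at h1
        · rw [sub_eq_zero.1 h] at h1
          exact one_ne_zero (by linear_combination h1 : (1 : ZMod p) = 0)
    obtain ⟨b, hb⟩ := (Finite.injective_iff_surjective.1 hinj) 0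
    have := hr b
    rw [hb] at this
    simp [g] at this
  refine ⟨X ^ 3 + C b * X ^ 2 - C (3 + 2 * b) * X - 1, ?_, ?_, ?_, ?_, ?_, ?_⟩
  · monicity!
  · compute_degree!
  · refine Polynomial.irreducible_of_degree_le_three_of_not_isRoot ?_ fun t => ?_
    · rw [Finset.mem_Icc]
      have : (X ^ 3 + C b * X ^ 2 - C (3 + 2 * b) * X - 1 : (ZMod p)[X]).natDegree = 3 := by compute_degree!
      omega
    · simpa [g, IsRoot] using hb t
  · simp
  · simp; ring
  · simpa [g] using hb 1

theorem cubic_case (hp : p ≠ 2) :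
    ∃ a : GaloisField p 3, a ≠ 1 ∧ Algebra.norm (ZMod p) a = 1 ∧ Algebra.norm (ZMod p) (2 - a) = 1 := by
  obtain ⟨f, hm, hd, hirr, h0, h2, h1⟩ := exists_irreducible_cubic p hp
  have : Fact (Irreducible f) := ⟨hirr⟩
  have : Module.Finite (ZMod p) (AdjoinRoot f) := hm.finite_adjoinRoot
  have : Finite (AdjoinRoot f) := Module.finite_of_finite (ZMod p)
  have hfin : Module.finrank (ZMod p) (AdjoinRoot f) = 3 := by
    rw [(AdjoinRoot.powerBasis hm.ne_zero).finrank, AdjoinRoot.powerBasis_dim, hd]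
  have hcard : Nat.card (AdjoinRoot f) = p ^ 3 := by
    rw [Module.natCard_eq_pow_finrank (K := ZMod p), hfin, Nat.card_zmod]
  let e := GaloisField.algEquivGaloisField (K := AdjoinRoot f) p 3 hcard
  have hN : ∀ x, Algebra.norm (ZMod p) (e x) = Algebra.norm (ZMod p) x := fun x =>
    Algebra.norm_eq_of_algEquiv e x
  refine ⟨e (AdjoinRoot.root f), ?_, ?_, ?_⟩
  · intro h
    rw [← map_one e] at h
    have h' := e.injective h
    have := norm_sub_root p f hm 1
    rw [h', map_one, sub_self, Algebra.norm_zero] at this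
    exact h1 this.symm
  · rw [hN]
    have h := norm_sub_root p f hm 0
    rw [h0, map_zero, zero_sub] at h
    have hm1 : Algebra.norm (ZMod p) (algebraMap (ZMod p) (AdjoinRoot f) (-1)) = -1 := by
      rw [Algebra.norm_algebraMap, hfin]; ring
    rw [show AdjoinRoot.root f = algebraMap (ZMod p) (AdjoinRoot f) (-1) * -AdjoinRoot.root f by simp,
      map_mul, h, hm1]
    ring
  · rw [show (2 : GaloisField p 3) - e (AdjoinRoot.root f) =
      e (algebraMap (ZMod p) (AdjoinRoot f) 2 - AdjoinRoot.root f) by simp [map_ofNat],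
      hN, norm_sub_root p f hm 2, h2]

/-- Let p and q be odd primes with (p^q − 1)/(p − 1) coprime to p − 1. Then there are at least two elements a of the field with p ^ q elements such that both a and 2 − a have norm 1 to the prime field. -/
theorem result (p q : ℕ) [Fact p.Prime] [Fact q.Prime] (hp : p ≠ 2) (hq : q ≠ 2) (hA : Nat.Coprime ((p ^ q - 1) / (p - 1)) (p - 1)) :
    2 ≤ Set.ncard {a : GaloisField p q | Algebra.norm (ZMod p) a = 1 ∧ Algebra.norm (ZMod p) (2 - a) = 1} := by
  classical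
  have hpp : p.Prime := Fact.out
  have hqp : q.Prime := Fact.out
  have hq0 : q ≠ 0 := hqp.ne_zero
  rw [Nat.succ_le_iff, Set.one_lt_ncard]
  suffices h : ∃ a : GaloisField p q, a ≠ 1 ∧ Algebra.norm (ZMod p) a = 1 ∧
      Algebra.norm (ZMod p) (2 - a) = 1 by
    obtain ⟨a, ha, h1, h2⟩ := h
    exact ⟨a, ⟨h1, h2⟩, 1, ⟨map_one _, by norm_num⟩, ha⟩
  by_cases hq3 : q = 3
  · subst hq3; exact cubic_case p hp
  have hq5 : 5 ≤ q := by
    rcases Nat.lt_or_ge q 5 with h | h
    · have h2q := hqp.two_le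
      interval_cases q
      · exact absurd rfl hq
      · exact absurd rfl hq3
      · exact absurd hqp (by norm_num)
    · exact h
  set L := GaloisField p q
  have : Fintype L := Fintype.ofFinite L
  have hQ : Fintype.card L = p ^ q := by rw [← Nat.card_eq_fintype_card, GaloisField.card p q hq0]
  let φ : Lˣ →* (ZMod p)ˣ := Units.map (Algebra.norm (ZMod p) (S := L))
  let U : Finset L := Finset.univ.filter fun a => Algebra.norm (ZMod p) a = 1
  have hU1 : (1 : L) ∈ U := by simp [U]
  have hU0 : (0 : L) ∉ U := by simp [U]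
  have hUmul : ∀ x ∈ U, ∀ y ∈ U, x * y ∈ U := fun x hx y hy => by
    simp [U] at hx hy ⊢; simp [hx, hy]
  have hUcard : p ^ q - 1 = U.card * (p - 1) := by
    have h := φ.ker.card_mul_index
    rw [Subgroup.index_ker, MonoidHom.range_eq_top.2 (FiniteField.unitsMap_norm_surjective _ _),
      Subgroup.card_top, Nat.card_units, Nat.card_units, GaloisField.card p q hq0, Nat.card_zmod] at h
    rw [← h, ← Nat.card_eq_finsetCard U]
    congr 1
    refine Nat.card_congr ⟨fun x => ⟨((x : Lˣ) : L), ?_⟩, fun a => ⟨Units.mk0 (a : L) ?_, ?_⟩, ?_, ?_⟩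
    · have hx : φ (x : Lˣ) = 1 := x.2
      simpa [φ, U, Units.ext_iff] using hx
    · exact fun h => hU0 (h ▸ a.2)
    · have ha : Algebra.norm (ZMod p) (a : L) = 1 := (Finset.mem_filter.1 a.2).2
      rw [MonoidHom.mem_ker]
      simpa [φ, Units.ext_iff] using ha
    · intro x; exact Subtype.ext (Units.ext rfl)
    · intro a; exact Subtype.ext rfl
  have hUge : p ^ (q - 1) ≤ U.card := by
    have hpos : 0 < U.card := Finset.card_pos.2 ⟨1, hU1⟩
    have h1 : p ^ q ≤ U.card * p := by
      have hm : U.card * p = U.card * (p - 1) + U.card := by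
        rw [← Nat.mul_succ, Nat.succ_eq_add_one, Nat.sub_add_cancel hpp.one_le]
      omega
    rw [show q = q - 1 + 1 by omega, pow_succ] at h1
    exact Nat.le_of_mul_le_mul_right h1 hpp.pos
  have hmain := CfsgLib.AppendixC.card_sq_le_mul_card_add U hU0 hU1 hUmul (c := (2 : L)) (by
    intro h
    have h2 : ((2 : ℕ) : L) = 0 := by exact_mod_cast h
    rw [CharP.cast_eq_zero_iff L p] at h2
    exact hp ((Nat.prime_dvd_prime_iff_eq hpp Nat.prime_two).1 h2))
  have hn : 1 < (U.filter fun u => (2 : L) - u ∈ U).card := by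
    by_contra hle
    have hle' : ((U.filter fun u => (2 : L) - u ∈ U).card : ℝ) ≤ 1 := by exact_mod_cast not_lt.1 hle
    rw [hQ] at hmain
    set s := Real.sqrt ((p ^ q : ℕ) : ℝ)
    have hs : s * s = ((p ^ q : ℕ) : ℝ) := Real.mul_self_sqrt (Nat.cast_nonneg _)
    have hs0 : 0 ≤ s := Real.sqrt_nonneg _
    have hU' : ((p : ℝ) ^ (q - 1)) ≤ (U.card : ℝ) := by exact_mod_cast hUge
    push_cast at hmain hs
    have hp3 : (3 : ℝ) ≤ p := by
      exact_mod_cast (show 3 ≤ p by have := hpp.two_le; omega)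
    have hq' : (p : ℝ) ^ (2 * q - 2) ≤ (p : ℝ) ^ q * (1 + s) := by
      calc (p : ℝ) ^ (2 * q - 2) = ((p : ℝ) ^ (q - 1)) ^ 2 := by rw [← pow_mul]; congr 1; omega
        _ ≤ (U.card : ℝ) ^ 2 := by gcongr
        _ ≤ _ := by nlinarith [pow_nonneg (show (0 : ℝ) ≤ p by positivity) q]
    have hq'' : (p : ℝ) ^ (q - 2) ≤ 1 + s := by
      refine le_of_mul_le_mul_left ?_ (show (0 : ℝ) < (p : ℝ) ^ q by positivity)
      rw [← pow_add, show q + (q - 2) = 2 * q - 2 by omega]
      exact hq'
    have hbig : 3 * (p : ℝ) ^ q ≤ ((p : ℝ) ^ (q - 2)) ^ 2 := by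
      calc 3 * (p : ℝ) ^ q ≤ (p : ℝ) ^ (q + 1) := by rw [pow_succ']; gcongr
        _ ≤ (p : ℝ) ^ ((q - 2) * 2) := by gcongr; linarith; omega
        _ = _ := pow_mul _ _ _
    have h3le : (3 : ℝ) ≤ (p : ℝ) ^ q := hp3.trans (le_self_pow₀ (by linarith) hq0)
    nlinarith [pow_le_pow_left₀ (by positivity) hq'' 2, sq_nonneg (s - 1)]
  obtain ⟨a, ha, hne⟩ := Finset.exists_mem_ne hn (1 : L)
  simp [U] at ha
  exact ⟨a, hne, ha.1, ha.2⟩

end Cfsg.Agent.S1471
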