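import Cfsg.Statements.S1480
import Cfsg.Agent.Lib.PStab.Transitivity

set_option autoImplicit false
open Cfsg
open scoped commutatorElement

namespace Cfsg.Agent.S1480

/-- Let G be a finite group and p a prime such that the normalizer of every nontrivial p-subgroup of G is p-constrained; if p = 2 assume also that the Sylow 2-subgroups of G have nilpotency class at most 2. Let E be an abelian p-subgroup containing an elementary abelian subgroup of order p ^ 3 and containing every element of p-power order of C_G(E). Then for every prime q ≠ p, any two maximal E-invariant q-subgroups of G are conjugate by an element of O_{p'}(C_G(E)). -/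
theorem result {G : Type*} [Group G] [Finite G] (p : ℕ) [Fact p.Prime]
    (hloc : ∀ T : Subgroup G, IsPGroup p T → T ≠ ⊥ → Cfsg.IsPConstrained p ↥(Subgroup.normalizer (T : Set G)))
    (h2 : p = 2 → ∀ S : Sylow p G, Group.IsNilpotent (S : Subgroup G) ∧ Group.nilpotencyClass (S : Subgroup G) ≤ 2)
    (E : Subgroup G) (hEp : IsPGroup p E) (hEc : IsMulCommutative E) (hE3 : ¬ Cfsg.PRankLE p 2 E)
    (hEfull : ∀ x ∈ Subgroup.centralizer (E : Set G), IsPGroup p (Subgroup.zpowers x) → x ∈ E)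
    (q : ℕ) [Fact q.Prime] (hqp : q ≠ p) :
    ∀ Q₁ ∈ Cfsg.maxInvSubgroups ⊤ E {q}, ∀ Q₂ ∈ Cfsg.maxInvSubgroups ⊤ E {q},
        ∃ k ∈ Cfsg.piCoreOf (Cfsg.primesNotDvd p) (Subgroup.centralizer (E : Set G)), Q₂ = Q₁.map (MulAut.conj k).toMonoidHom := by
  have hcl : p = 2 → ∀ T : Subgroup G, IsPGroup p T → ∀ a ∈ T, ∀ b ∈ T, ∀ c ∈ T,
      ⁅⁅a, b⁆, c⁆ = 1 := by
    intro hp2 T hT a ha b hb c hc
    obtain ⟨S, hS⟩ := hT.exists_le_sylow
    obtain ⟨hnil, hcls⟩ := h2 hp2 S
    have h := Subgroup.lowerCentralSeries_eq_bot_iff_nilpotencyClass_le.2 hcls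
    simp only [Subgroup.lowerCentralSeries_succ, Subgroup.lowerCentralSeries_zero] at h
    have := h.le (Subgroup.commutator_mem_commutator
      (Subgroup.commutator_mem_commutator (Subgroup.mem_top (⟨a, hS ha⟩ : (S : Subgroup G)))
        (Subgroup.mem_top (⟨b, hS hb⟩ : (S : Subgroup G))))
      (Subgroup.mem_top (⟨c, hS hc⟩ : (S : Subgroup G))))
    exact congrArg Subtype.val (Subgroup.mem_bot.1 this)
  intro Q₁ h₁ Q₂ h₂
  simp only [Cfsg.PRankLE, not_forall] at hE3
  obtain ⟨A, hAc, hAp, hA⟩ := hE3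
  have hcE : ∀ a b : E, a * b = b * a := hEc.is_comm.comm
  refine CfsgLib.PStab.transitivity_of_pConstrained hloc hcl hEp hEc hEfull (A := A.map E.subtype) ⟨?_, ?_⟩
    (Subgroup.map_subtype_le A) ?_ hqp h₁ h₂
  · refine ⟨⟨?_⟩⟩
    rintro ⟨_, a, ha, rfl⟩ ⟨_, b, hb, rfl⟩
    exact Subtype.ext (congrArg Subtype.val (hcE a b) : (a : G) * (b : G) = (b : G) * (a : G))
  · rintro _ ⟨a, ha, rfl⟩
    exact congrArg Subtype.val (hAp a ha)
  · rw [Subgroup.card_map_of_injective E.subtype_injective]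
    obtain ⟨n, hn⟩ := IsPGroup.iff_card.1 (hEp.to_subgroup A)
    rw [hn] at hA ⊢
    exact Nat.pow_le_pow_right (Fact.out : p.Prime).pos
      (Nat.succ_le_of_lt ((Nat.pow_lt_pow_iff_right (Fact.out : p.Prime).one_lt).1 (not_le.1 hA)))

end Cfsg.Agent.S1480
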