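import Cfsg.Statements.S1481
import Cfsg.Statements.S1481
import Cfsg.Agent.Lib.OddLocal.InvariantPrime

set_option autoImplicit false
open Cfsg

namespace Cfsg.Agent.S1481

/-- Let G be a finite group and H a local subgroup (the normalizer of a nontrivial subgroup of prime-power order) not properly contained in any local subgroup; let F = F(H), suppose at least two primes divide #F, put X = H ∩ C_G(F), let M ≤ F with F ∩ C_G(M) ≤ M, and let R be a solvable subgroup normalized by M and by X. Then for every prime q not dividing #F there is exactly one maximal M-invariant q-subgroup of R, and it is a Sylow q-subgroup of the largest normal subgroup of R of order coprime to #F. -/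
theorem result {G : Type*} [Group G] [Finite G] (H : Subgroup G) (hH : Cfsg.IsLocalSubgroup H) (hHmax : ∀ L : Subgroup G, Cfsg.IsLocalSubgroup L → H ≤ L → L = H)
    (hF2 : 2 ≤ (Nat.card (Cfsg.fittingOf H)).primeFactors.card)
    (M : Subgroup G) (hM : M ≤ Cfsg.fittingOf H) (hCM : Cfsg.fittingOf H ⊓ Subgroup.centralizer (M : Set G) ≤ M)
    (R : Subgroup G) (hR : Group.IsSolvable R) (hMR : M ≤ Subgroup.normalizer (R : Set G))
    (hXR : H ⊓ Subgroup.centralizer (Cfsg.fittingOf H : Set G) ≤ Subgroup.normalizer (R : Set G))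
    (q : ℕ) [Fact q.Prime] (hq : ¬ q ∣ Nat.card (Cfsg.fittingOf H)) :
    ∃! Q : Subgroup G, Q ∈ Cfsg.maxInvSubgroups R M {q} ∧
      (∀ Q' : Subgroup G, Q' ∈ Cfsg.maxInvSubgroups R M {q} →
        Q' ≤ Cfsg.piCoreOf (Cfsg.primesNotDvd (Nat.card (Cfsg.fittingOf H))) R ∧
        ¬ q ∣ Q'.relIndex (Cfsg.piCoreOf (Cfsg.primesNotDvd (Nat.card (Cfsg.fittingOf H))) R)) := by
  set F := Cfsg.fittingOf H
  set T := Cfsg.piCoreOf (Cfsg.primesNotDvd (Nat.card F)) R with hT
  have hTR : T ≤ R := Subgroup.map_subtype_le _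
  have hMT : M ≤ Subgroup.normalizer (T : Set G) :=
    hMR.trans (CfsgLib.PStab.normalizer_le_normalizer_piCoreOf _ R)
  have hcop : (Nat.card M).Coprime (Nat.card T) := Nat.coprime_of_dvd fun r hr h1 h2 =>
    (CfsgLib.PStab.prime_mem_of_dvd_piCoreOf r hr h2).2 (h1.trans (Subgroup.card_dvd_of_le hM))
  have hs : Group.IsSolvable M ∨ Group.IsSolvable T := Or.inr (CfsgLib.Solvable.isSolvable_of_le hR hTR)
  obtain ⟨S, hS⟩ := CfsgLib.Solvable.exists_invariant_sylow (A := M) (K := T) hMT hcop hs q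
  set P := (S : Subgroup T).map T.subtype with hP
  have hPmem : P ∈ Cfsg.invSubgroups R M {q} :=
    ⟨(Subgroup.map_subtype_le _).trans hTR, CfsgLib.PStab.isPGroup_iff_primes.1 (S.2.map _), hS⟩
  have hle : ∀ Q' ∈ Cfsg.invSubgroups R M {q}, Q' ≤ P := by
    intro Q' hQ'
    have hQp : IsPGroup q Q' := CfsgLib.PStab.isPGroup_iff_primes.2 hQ'.2.1
    obtain ⟨S', hle', hS'⟩ := CfsgLib.Solvable.exists_invariant_sylow_ge (A := M) (K := T) hMT hcop hs q
      (CfsgLib.OddLocal.le_piCoreOf_of_invariant hH hHmax hM hCM hR hMR hXR hF2 hq hQ'.1 hQp hQ'.2.2)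
      hQp hQ'.2.2
    obtain ⟨c, hc, hcS⟩ := CfsgLib.Solvable.exists_centralizer_conj_sylow M T hMT hcop hs S' S hS' hS
    rw [CfsgLib.OddLocal.piCoreOf_inf_centralizer_eq_bot hH hHmax hM hCM hR hMR hXR hF2,
      Subgroup.mem_bot] at hc
    subst hc
    rw [map_one, one_smul] at hcS
    rw [hP, ← hcS]
    exact hle'
  have hmax : ∀ Q', Q' ∈ Cfsg.maxInvSubgroups R M {q} → Q' = P :=
    fun Q' hQ' => (hQ'.2 P hPmem (hle Q' hQ'.1)).symm
  refine ⟨P, ⟨⟨hPmem, fun Q' hQ' h => le_antisymm (hle Q' hQ') h⟩, fun Q' hQ' => ?_⟩,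
    fun Q' hQ' => hmax Q' hQ'.1⟩
  rw [hmax Q' hQ']
  refine ⟨Subgroup.map_subtype_le _, ?_⟩
  rw [hP, Subgroup.relIndex, ← Subgroup.comap_subtype,
    Subgroup.comap_map_eq_self_of_injective T.subtype_injective]
  exact S.not_dvd_index

end Cfsg.Agent.S1481
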