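import Cfsg.Statements.S1482
import Cfsg.Statements.S1482
import Cfsg.Agent.Lib.OddLocal.Bender

set_option autoImplicit false
open Cfsg

namespace Cfsg.Agent.S1482

/-- Let G be a minimal simple group of odd order, H a maximal subgroup whose Fitting subgroup F has at least two prime divisors, and M a subgroup of F containing the centre of F such that the only M-invariant subgroup of G of order coprime to #F is the trivial one. Then H is the only maximal subgroup of G containing M. -/
theorem result {G : Type*} [Group G] [Finite G] (hG : Cfsg.IsMinSimpleOddOrder G) (H : Subgroup G) (hH : IsCoatom H) (hF2 : 2 ≤ (Nat.card (Cfsg.fittingOf H)).primeFactors.card)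
    (M : Subgroup G) (hM : M ≤ Cfsg.fittingOf H) (hZM : Cfsg.fittingOf H ⊓ Subgroup.centralizer (Cfsg.fittingOf H : Set G) ≤ M)
    (hinv : ∀ Y ∈ Cfsg.invSubgroups ⊤ M (Cfsg.primesNotDvd (Nat.card (Cfsg.fittingOf H))), Y = ⊥) :
    ∀ L : Subgroup G, IsCoatom L → M ≤ L → L = H := by
  intro L hL hML
  refine CfsgLib.OddLocal.eq_of_center_le hG hH hL (hZM.trans hML) hF2 fun r hr hd => ?_
  by_contra hrF
  have : Fact r.Prime := ⟨hr⟩
  refine CfsgLib.Solvable.nilPart_ne_bot (CfsgLib.OddLocal.isNilpotent_fittingOf L) hd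
    (hinv _ ⟨le_top, fun s hs hsd => ?_, hML.trans (CfsgLib.OddLocal.le_normalizer_nilPart_fittingOf r L)⟩)
  obtain ⟨i, hi⟩ := IsPGroup.iff_card.1
    (CfsgLib.Solvable.isPGroup_nilPart (p := r) (A := Cfsg.fittingOf L))
  rw [hi] at hsd
  obtain rfl := (Nat.prime_dvd_prime_iff_eq hs hr).1 (hs.dvd_of_dvd_pow hsd)
  exact ⟨hs, hrF⟩

end Cfsg.Agent.S1482
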