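import Cfsg.Statements.S1487
import Cfsg.Agent.Lib.OddChar.NormalInd

set_option autoImplicit false
open Cfsg

namespace Cfsg.Agent.S1487

/-- Let A ≤ H be normal subgroups of the finite group G and θ an irreducible character of H. Then θ takes the value θ 1 on all of A if and only if the function induced from θ to G takes its value at 1 on all of A. -/
theorem result {G : Type*} [Group G] [Fintype G] (A H : Subgroup G) [A.Normal] [H.Normal] (hAH : A ≤ H) (θ : H → ℂ) (hθ : Cfsg.IsIrrCharacter H θ) : (∀ a : H, (a : G) ∈ A → θ a = θ 1) ↔ (∀ a : G, a ∈ A → Cfsg.indFun H θ a = Cfsg.indFun H θ 1) := by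
  open CfsgLib.CharNormal CfsgLib.Char in
  constructor
  · intro h a ha
    rw [indFun_apply, indFun_apply]
    congr 1
    refine Finset.sum_congr rfl fun x _ => ?_
    have hm : x⁻¹ * a * x ∈ A := by simpa using ‹A.Normal›.conj_mem a ha x⁻¹
    rw [extendByZero_of_mem θ (hAH hm), h ⟨_, hAH hm⟩ hm, mul_one, inv_mul_cancel,
      extendByZero_of_mem θ H.one_mem]
    rfl
  · intro h a ha
    have hmem : ∀ x : G, x⁻¹ * (a : G) * x ∈ H := fun x =>
      hAH (by simpa using ‹A.Normal›.conj_mem (a : G) ha x⁻¹)
    have hsum : ∑ x : G, (θ 1 - θ ⟨_, hmem x⟩) = 0 := by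
      have e := h a ha
      rw [indFun_one, indFun_apply] at e
      simp only [fun x : G => extendByZero_of_mem θ (hmem x)] at e
      rw [Finset.sum_sub_distrib, Finset.sum_const, Finset.card_univ, nsmul_eq_mul,
        ← Nat.card_eq_fintype_card, ← H.index_mul_card, Nat.cast_mul, sub_eq_zero]
      have hc := card_subgroup_ne_zero H
      field_simp at e
      rw [e]; ring
    have hθc := isCharacter_of_isIrr hθ
    have hre := congrArg Complex.re hsum
    rw [Complex.re_sum, Complex.zero_re] at hre
    have hnn : ∀ x ∈ (Finset.univ : Finset G), 0 ≤ (θ 1 - θ ⟨_, hmem x⟩).re := fun x _ => by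
      rw [Complex.sub_re, sub_nonneg]
      exact (Complex.re_le_norm _).trans (norm_char_le hθc _)
    have h1 := (Finset.sum_eq_zero_iff_of_nonneg hnn).mp hre 1 (Finset.mem_univ _)
    have he : (⟨_, hmem 1⟩ : H) = a := Subtype.ext (by simp)
    rw [he, Complex.sub_re, sub_eq_zero] at h1
    have hd : θ 1 = ((θ 1).re : ℂ) := (Complex.conj_eq_iff_re.mp (char_conj_one hθc)).symm
    rw [hd, h1]
    refine Complex.ext rfl ?_
    rw [Complex.ofReal_im]
    have h2 := norm_char_le hθc a
    rw [h1] at h2
    refine Complex.abs_re_eq_norm.mp (le_antisymm (Complex.abs_re_le_norm _) ?_)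
    exact h2.trans (le_abs_self _)

end Cfsg.Agent.S1487
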