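import Cfsg.Statements.S1488
import Cfsg.Agent.Lib.OddChar.NormalInd

set_option autoImplicit false
open Cfsg

namespace Cfsg.Agent.S1488

/-- Let A be a normal subgroup of the finite group G contained in the subgroup H, let θ be a function on H and θ₁ a function on the image of H in G ⧸ A whose composite with the projection is θ. Then the function induced from θ₁ to G ⧸ A, composed with the projection G → G ⧸ A, equals the function induced from θ to G. -/
theorem result {G : Type*} [Group G] [Fintype G] (A H : Subgroup G) [A.Normal] (hAH : A ≤ H) [Fintype (G ⧸ A)] [Fintype ↥(H.map (QuotientGroup.mk' A))] (θ : H → ℂ) (θ₁ : ↥(H.map (QuotientGroup.mk' A)) → ℂ) (hθ : ∀ x : H, θ₁ ⟨QuotientGroup.mk' A x, Subgroup.mem_map_of_mem _ x.2⟩ = θ x) (g : G) : Cfsg.indFun (H.map (QuotientGroup.mk' A)) θ₁ (QuotientGroup.mk' A g) = Cfsg.indFun H θ g := by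
  open CfsgLib.CharNormal CfsgLib.Char in
  classical
  have hy : ∀ y : G, Cfsg.extendByZero (H.map (QuotientGroup.mk' A)) θ₁ ((QuotientGroup.mk' A) y) = Cfsg.extendByZero H θ y := by
    intro y
    by_cases hy : y ∈ H
    · rw [extendByZero_of_mem θ hy, extendByZero_of_mem θ₁ (Subgroup.mem_map_of_mem (QuotientGroup.mk' A) hy)]
      exact hθ ⟨y, hy⟩
    · rw [extendByZero_of_notMem θ hy, extendByZero_of_notMem θ₁]
      intro h
      have h' : y ∈ (H.map (QuotientGroup.mk' A)).comap (QuotientGroup.mk' A) := h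
      rw [Subgroup.comap_map_eq, QuotientGroup.ker_mk', sup_eq_left.mpr hAH] at h'
      exact hy h'
  have hcard : Nat.card ↥(H.map (QuotientGroup.mk' A)) * Nat.card A = Nat.card H := by
    have h := Subgroup.relIndex_ker (f := QuotientGroup.mk' A) H
    rw [QuotientGroup.ker_mk'] at h
    have h' : Nat.card ↥(H.map (QuotientGroup.mk' A)) = A.relIndex H := h.symm
    rw [h', Subgroup.relIndex, ← Nat.card_congr (Subgroup.subgroupOfEquivOfLe hAH).toEquiv,
      Subgroup.index_mul_card]
  have hA : (Nat.card A : ℂ) ≠ 0 := card_subgroup_ne_zero A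
  have hM : (Nat.card ↥(H.map (QuotientGroup.mk' A)) : ℂ) ≠ 0 := card_subgroup_ne_zero _
  rw [indFun_apply, indFun_apply, ← hcard, Nat.cast_mul]
  have hs := sum_comp_mk' A fun q => Cfsg.extendByZero (H.map (QuotientGroup.mk' A)) θ₁ (q⁻¹ * (QuotientGroup.mk' A) g * q)
  rw [show ∑ x : G, Cfsg.extendByZero H θ (x⁻¹ * g * x) =
      ∑ x : G, Cfsg.extendByZero (H.map (QuotientGroup.mk' A)) θ₁ ((x : G ⧸ A)⁻¹ * (QuotientGroup.mk' A) g * (x : G ⧸ A)) from
    Finset.sum_congr rfl fun x _ => by rw [← hy]; rfl, hs]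
  field_simp

end Cfsg.Agent.S1488
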