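import Cfsg.Statements.S1492
import Cfsg.Agent.Lib.Char.Linear
import Cfsg.Agent.Lib.Char.Integral

set_option autoImplicit false
open Cfsg

namespace Cfsg.Agent.S1492

/-- Let ψ be an irreducible character of the finite group G and B ≤ D ≤ C subgroups with B normal in C, every commutator of an element of D with an element of C lying in B (so D/B is central in C/B), and ψ constant equal to ψ 1 on B. Then ψ(1) ^ 2 * |C| * |D| ≤ |G| ^ 2. -/
theorem result {G : Type*} [Group G] [Finite G] (ψ : G → ℂ) (hψ : Cfsg.IsIrrCharacter G ψ) (B C D : Subgroup G) (hBD : B ≤ D) (hDC : D ≤ C) (hBn : ∀ c ∈ C, ∀ b ∈ B, c * b * c⁻¹ ∈ B) (hcent : ∀ d ∈ D, ∀ c ∈ C, d * c * d⁻¹ * c⁻¹ ∈ B) (hker : ∀ b ∈ B, ψ b = ψ 1) : ‖ψ 1‖ ^ 2 * (Nat.card C : ℝ) * (Nat.card D : ℝ) ≤ (Nat.card G : ℝ) ^ 2 := by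
  open CfsgLib.Char in
  classical
  have := Fintype.ofFinite G
  have := Fintype.ofFinite C
  have hψc := isCharacter_of_isIrr hψ
  obtain ⟨a, hdec, ha⟩ := char_decomp (isCharacter_res C hψc)
  obtain ⟨lam, hlam⟩ : ∃ lam, a lam ≠ 0 := by
    by_contra hall
    push Not at hall
    have h := congrFun hdec 1
    simp [hall] at h
    exact irr_one_ne_zero hψ h
  -- B lies in the kernel of the constituent
  have hkl : ∀ b : C, (b : G) ∈ B → (lam : C → ℂ) b = (lam : C → ℂ) 1 := by
    intro b hb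
    have hd := congrArg Complex.re (congrFun hdec b)
    have hd1 := congrArg Complex.re (congrFun hdec 1)
    rw [show ψ (b : G) = ψ 1 from hker _ hb] at hd
    simp only [OneMemClass.coe_one, Finset.sum_apply, Pi.smul_apply, smul_eq_mul, Complex.re_sum,
      Complex.mul_re, Complex.natCast_re, Complex.natCast_im, zero_mul, sub_zero] at hd hd1
    have hz : ∑ μ : Cfsg.IrrCharacter C, (a μ : ℝ) * (((μ : C → ℂ) 1).re - ((μ : C → ℂ) b).re) = 0 := by
      simp only [mul_sub, Finset.sum_sub_distrib, ← hd, ← hd1, sub_self]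
    have hnn : ∀ μ ∈ (Finset.univ : Finset (Cfsg.IrrCharacter C)),
        0 ≤ (a μ : ℝ) * (((μ : C → ℂ) 1).re - ((μ : C → ℂ) b).re) := fun μ _ =>
      mul_nonneg (Nat.cast_nonneg _) (sub_nonneg.mpr
        ((Complex.re_le_norm _).trans (norm_char_le (isCharacter_of_isIrr μ.2) b)))
    have h1 := (Finset.sum_eq_zero_iff_of_nonneg hnn).mp hz lam (Finset.mem_univ _)
    have h2 : ((lam : C → ℂ) b).re = ((lam : C → ℂ) 1).re :=
      (sub_eq_zero.mp ((mul_eq_zero.mp h1).resolve_left (by exact_mod_cast hlam))).symm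
    have h3 : ((lam : C → ℂ) b).im = 0 := by
      refine Complex.abs_re_eq_norm.mp (le_antisymm (Complex.abs_re_le_norm _) ?_)
      exact (norm_char_le (isCharacter_of_isIrr lam.2) b).trans (h2 ▸ le_abs_self _)
    refine Complex.ext h2 (h3.trans ?_)
    obtain ⟨k, hk⟩ := exists_degree (isCharacter_of_isIrr lam.2)
    rw [hk, Complex.natCast_im]
  obtain ⟨l, hl0, hl⟩ := exists_degree_pos lam.2
  obtain ⟨d, hd0, hd⟩ := exists_degree_pos hψ
  -- elements of D act as scalars
  have hscal : ∀ x : C, (x : G) ∈ D → (lam : C → ℂ) x * starRingEnd ℂ ((lam : C → ℂ) x) = (l : ℂ) ^ 2 := by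
    intro x hx
    obtain ⟨m, ρ, hirr, hρ⟩ := lam.2
    have hl' : (lam : C → ℂ) 1 = (Module.finrank ℂ (Fin m → ℂ) : ℂ) := by
      rw [← hρ, Representation.char_one]
    have hcomm : ∀ c : C, ρ x ∘ₗ ρ c = ρ c ∘ₗ ρ x := by
      intro c
      have hk : ρ (x * c * x⁻¹ * c⁻¹) = LinearMap.id := by
        rw [← character_eq_degree_iff, hρ, hkl _ (hcent _ hx _ c.2), hl']
      have : ρ ((x * c * x⁻¹ * c⁻¹) * (c * x)) = ρ (c * x) := by
        rw [map_mul ρ (x * c * x⁻¹ * c⁻¹), hk]
        rfl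
      rw [show x * c * x⁻¹ * c⁻¹ * (c * x) = x * c by group, map_mul, map_mul] at this
      exact this
    obtain ⟨s, hs⟩ := exists_eq_smul_id ρ (ρ x) hcomm
    have hn := (norm_character_eq_iff ρ x).mpr ⟨s, hs⟩
    rw [hρ] at hn
    rw [Complex.mul_conj', hn, hl.symm.trans hl']
    push_cast
    ring
  have hDC : (Nat.card D : ℝ) * (l : ℝ) ^ 2 ≤ Nat.card C := by
    have hnorm := classInner_irr_self lam.2
    rw [classInner_def, inv_mul_eq_one₀ (card_ne_zero' (G := C))] at hnorm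
    have hre := congrArg Complex.re hnorm
    rw [Complex.natCast_re, Complex.re_sum] at hre
    rw [hre]
    have hsub : ∑ x ∈ Finset.univ.filter (fun x : C => (x : G) ∈ D),
        ((lam : C → ℂ) x * starRingEnd ℂ ((lam : C → ℂ) x)).re = (Nat.card D : ℝ) * (l : ℝ) ^ 2 := by
      rw [Finset.sum_congr rfl fun x hx => by rw [hscal x (Finset.mem_filter.mp hx).2],
        Finset.sum_const, nsmul_eq_mul]
      congr 1
      · rw [← Nat.card_congr (Subgroup.subgroupOfEquivOfLe hDC).toEquiv, Nat.card_eq_fintype_card,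
          ← Fintype.card_subtype]
        norm_cast
      · norm_cast
    rw [← hsub]
    refine Finset.sum_le_sum_of_subset_of_nonneg (Finset.subset_univ _) fun x _ _ => ?_
    rw [Complex.mul_conj']
    norm_cast
    positivity
  have hdeg : (d : ℝ) * Nat.card C ≤ (Nat.card G : ℝ) * l := by
    have hne' : Cfsg.classInner (Cfsg.indFun C (lam : C → ℂ)) ψ ≠ 0 := by
      rw [frobenius_reciprocity C _ (isClassFunction_of_isIrr hψ), ← classInner_conj_symm, ha lam,
        map_natCast]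
      exact_mod_cast hlam
    have h := constituent_degree_le (isCharacter_indFun C (isCharacter_of_isIrr lam.2)) hψ hne'
    rw [indFun_one, hl, hd, Complex.natCast_re, Complex.mul_re] at h
    simp only [Complex.natCast_re, Complex.natCast_im, mul_zero, sub_zero] at h
    calc (d : ℝ) * Nat.card C ≤ (C.index : ℝ) * l * Nat.card C :=
          mul_le_mul_of_nonneg_right h (Nat.cast_nonneg _)
      _ = _ := by rw [← C.index_mul_card, Nat.cast_mul]; ring
  have hsq : ((d : ℝ) * Nat.card C) ^ 2 ≤ ((Nat.card G : ℝ) * l) ^ 2 :=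
    pow_le_pow_left₀ (by positivity) hdeg 2
  have hC0 : (0 : ℝ) < Nat.card C := by exact_mod_cast Nat.card_pos
  rw [hd, Complex.norm_natCast]
  refine le_of_mul_le_mul_right ?_ hC0
  calc (d : ℝ) ^ 2 * Nat.card C * Nat.card D * Nat.card C
      = ((d : ℝ) * Nat.card C) ^ 2 * Nat.card D := by ring
    _ ≤ ((Nat.card G : ℝ) * l) ^ 2 * Nat.card D := mul_le_mul_of_nonneg_right hsq (Nat.cast_nonneg _)
    _ = (Nat.card G : ℝ) ^ 2 * (Nat.card D * (l : ℝ) ^ 2) := by ring
    _ ≤ (Nat.card G : ℝ) ^ 2 * Nat.card C := mul_le_mul_of_nonneg_left hDC (sq_nonneg _)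

end Cfsg.Agent.S1492
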