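import Cfsg.Statements.S1494
import Cfsg.Agent.Lib.Char.Linear

set_option autoImplicit false
open Cfsg

namespace Cfsg.Agent.S1494

/-- Let χ be a generalized character of the finite group G, p a prime, x an element of order p and y an element commuting with x. Then χ(x * y) − χ(y) = (1 − ε) * ω for some algebraic integer ω, where ε = exp(2πi/p). -/
theorem result {G : Type*} [Group G] [Finite G] (χ : G → ℂ) (hχ : Cfsg.IsGeneralizedCharacter G χ) (p : ℕ) (hp : p.Prime) (x y : G) (hx : orderOf x = p) (hxy : x * y = y * x) : ∃ ω : ℂ, IsIntegral ℤ ω ∧ χ (x * y) - χ y = (1 - Complex.exp (2 * Real.pi * Complex.I / p)) * ω := by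
  open CfsgLib.Char in
  classical
  have := Fintype.ofFinite G
  set ε : ℂ := Complex.exp (2 * Real.pi * Complex.I / p) with hε
  have hprim : IsPrimitiveRoot ε p := Complex.isPrimitiveRoot_exp p hp.ne_zero
  have hεint : IsIntegral ℤ ε := hprim.isIntegral hp.pos
  -- the abelian subgroup generated by x and y
  let A : Subgroup G := Subgroup.closure {x, y}
  have hA : IsMulCommutative A := Subgroup.isMulCommutative_closure (by
    rintro a (rfl | rfl) b (rfl | rfl) <;> first | rfl | exact hxy | exact hxy.symm)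
  have := Fintype.ofFinite A
  have hcomm : ∀ a b : A, a * b = b * a := fun a b => hA.is_comm.comm a b
  let xA : A := ⟨x, Subgroup.subset_closure (by simp)⟩
  let yA : A := ⟨y, Subgroup.subset_closure (by simp)⟩
  have hlin : ∀ lam : Cfsg.IrrCharacter A, ∃ ω : ℂ, IsIntegral ℤ ω ∧
      (lam : A → ℂ) (xA * yA) - (lam : A → ℂ) yA = (1 - ε) * ω := by
    intro lam
    have h1 := irr_one_eq_one_of_comm hcomm lam.2
    have hmul := linear_map_mul (isCharacter_of_isIrr lam.2) h1
    have hxp : ((lam : A → ℂ) xA) ^ p = 1 := by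
      have hx' : xA ^ p = 1 := Subtype.ext (by simp [xA, ← hx, pow_orderOf_eq_one])
      have hu := linearHom_apply (isCharacter_of_isIrr lam.2) h1
      rw [← hu, ← Units.val_pow_eq_pow_val, ← map_pow, hx', map_one, Units.val_one]
    have := NeZero.mk hp.ne_zero
    obtain ⟨j, -, hj⟩ := hprim.eq_pow_of_pow_eq_one hxp
    refine ⟨-((lam : A → ℂ) yA * ∑ i ∈ Finset.range j, ε ^ i),
      ((char_isIntegral (isCharacter_of_isIrr lam.2) yA).mul
        (IsIntegral.sum _ fun i _ => hεint.pow i)).neg, ?_⟩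
    rw [hmul, ← hj]
    linear_combination -((lam : A → ℂ) yA) * geom_sum_mul ε j
  choose w hwint hw using hlin
  have hchar : ∀ φ : G → ℂ, Cfsg.IsCharacter G φ →
      ∃ ω : ℂ, IsIntegral ℤ ω ∧ φ (x * y) - φ y = (1 - ε) * ω := by
    intro φ hφ
    obtain ⟨a, ha, -⟩ := char_decomp (isCharacter_res A hφ)
    refine ⟨∑ lam, (a lam : ℂ) * w lam,
      IsIntegral.sum _ fun l _ => (isIntegral_algebraMap (R := ℤ) (x := (a l : ℤ))).mul (hwint l), ?_⟩
    have e1 := congrFun ha (xA * yA)
    have e2 := congrFun ha yA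
    simp only [Finset.sum_apply, Pi.smul_apply, smul_eq_mul] at e1 e2
    rw [show φ (x * y) = _ from e1, show φ y = _ from e2, ← Finset.sum_sub_distrib, Finset.mul_sum]
    exact Finset.sum_congr rfl fun l _ => by rw [← mul_sub, hw]; ring
  obtain ⟨φ₁, φ₂, h₁, h₂, rfl⟩ := hχ
  obtain ⟨w₁, hw₁, e₁⟩ := hchar φ₁ h₁
  obtain ⟨w₂, hw₂, e₂⟩ := hchar φ₂ h₂
  refine ⟨w₁ - w₂, hw₁.sub hw₂, ?_⟩
  simp only [Pi.sub_apply]
  linear_combination e₁ - e₂

end Cfsg.Agent.S1494
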