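import Cfsg.Statements.S1495
import Cfsg.Agent.Lib.Blocks.AlgInt
-- import your own Cfsg.Agent.* helpers here

set_option autoImplicit false
open Cfsg

namespace Cfsg.Agent.S1495

/-- Let p be a prime, ε = exp(2πi/p), and n an integer such that n = (1 − ε) * ω for some algebraic integer ω. Then p divides n. -/
theorem result (p : ℕ) (hp : p.Prime) (n : ℤ) (ω : ℂ) (hω : IsIntegral ℤ ω) (h : (n : ℂ) = (1 - Complex.exp (2 * Real.pi * Complex.I / p)) * ω) : (p : ℤ) ∣ n := by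
  obtain ⟨M, hMmax, hpM⟩ : ∃ M : Ideal Cfsg.AlgInt, M.IsMaximal ∧ (p : Cfsg.AlgInt) ∈ M := by
    have hne : Ideal.span {(p : Cfsg.AlgInt)} ≠ ⊤ := by
      intro ht
      rw [Ideal.span_singleton_eq_top, isUnit_iff_exists_inv] at ht
      obtain ⟨x, hx⟩ := ht
      have hxC : (p : ℂ) * (x : ℂ) = 1 := by exact_mod_cast congrArg Subtype.val hx
      have hx' : (x : ℂ) = (((p : ℚ)⁻¹ : ℚ) : ℂ) := by
        push_cast
        rw [eq_inv_of_mul_eq_one_right hxC]
      obtain ⟨m, hm⟩ := (CfsgLib.Blocks.isIntegral_rat_iff _).mp (hx' ▸ x.2)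
      have : (p : ℤ) * m = 1 := by
        have hp0 : (p : ℚ) ≠ 0 := by exact_mod_cast hp.ne_zero
        have : (p : ℚ) * m = 1 := by rw [hm, mul_inv_cancel₀ hp0]
        exact_mod_cast this
      exact hp.ne_one (by exact_mod_cast Int.eq_one_of_mul_eq_one_right (Int.natCast_nonneg p) this)
    obtain ⟨M, hM, hle⟩ := Ideal.exists_le_maximal _ hne
    exact ⟨M, hM, hle (Ideal.mem_span_singleton_self _)⟩
  have hM : Cfsg.IsPModular p M := ⟨hp, hMmax, hpM⟩
  rw [← CfsgLib.Blocks.intCast_mem_iff hM]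
  have hζ := Complex.isPrimitiveRoot_exp p hp.ne_zero
  let z : Cfsg.AlgInt := ⟨_, hζ.isIntegral hp.pos⟩
  have hz1 : (z : ℂ) ^ p = 1 := hζ.pow_eq_one
  have hz : Ideal.Quotient.mk M z = 1 := by
    have := CfsgLib.Blocks.res_pPow_rootOfUnity M hM (z := CfsgLib.Blocks.ofInt M z) (k := 1)
      (Subtype.ext (by rw [pow_one]; push_cast; exact hz1))
    rwa [CfsgLib.Blocks.res_ofInt] at this
  rw [← Ideal.Quotient.eq_zero_iff_mem]
  have hn : (n : Cfsg.AlgInt) = (1 - z) * ⟨ω, hω⟩ := Subtype.ext (by push_cast; exact h)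
  rw [hn, map_mul, map_sub, map_one, hz, sub_self, zero_mul]

end Cfsg.Agent.S1495
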