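import Cfsg.Statements.S1497
-- import your own Cfsg.Agent.* helpers here

set_option autoImplicit false
open Cfsg

namespace Cfsg.Agent.S1497

/-- Let A be a nonempty subset of the finite group G not containing 1 and L a subgroup. Then A is a TI-subset whose normaliser is L if and only if the Dade hypothesis holds for A, L and the constant choice H(a) = ⊥. -/
theorem result {G : Type*} [Group G] [Finite G] (A : Set G) (hA : A.Nonempty) (h1 : (1 : G) ∉ A) (L : Subgroup G) : (Cfsg.IsTISubset A ∧ Subgroup.normalizer A = L) ↔ Cfsg.DadeHypothesis A L (fun _ => ⊥) := by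
  constructor
  · rintro ⟨hTI, rfl⟩
    have hsub : A ⊆ (Subgroup.normalizer A : Set G) := fun a ha => by
      by_contra hn
      refine h1 ?_
      rwa [hTI a hn a ha (by rwa [mul_inv_cancel_right])] at ha
    have hconj : ∀ a ∈ A, ∀ g : G, g * a * g⁻¹ ∈ A → g ∈ Subgroup.normalizer A := fun a ha g hg => by
      by_contra hn
      refine h1 ?_
      rwa [hTI g hn a ha hg] at ha
    refine ⟨h1, hsub, fun x hx a ha => (Subgroup.mem_set_normalizer_iff.mp hx a).mp ha,
      fun a ha g hg => ⟨g, hconj a ha g hg, rfl⟩, fun a _ => bot_le, ?_, fun a _ => bot_inf_eq _, ?_, ?_⟩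
    · intro a _ c _ u hu
      rw [Subgroup.mem_bot] at hu ⊢
      simp [hu]
    · intro a ha
      rw [bot_sup_eq, inf_eq_right]
      intro c hc
      refine hconj a ha c ?_
      rwa [← Subgroup.mem_centralizer_iff.mp hc a rfl, mul_inv_cancel_right]
    · intro a _ b _
      simp
  · intro hD
    have key : ∀ a ∈ A, ∀ g : G, g * a * g⁻¹ ∈ A → g ∈ L := fun a ha g hg => by
      obtain ⟨x, hx, hxe⟩ := hD.fusion a ha g hg
      have hc : x⁻¹ * g ∈ Subgroup.centralizer ({a} : Set G) := by
        rw [Subgroup.mem_centralizer_iff]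
        intro y hy
        rw [Set.mem_singleton_iff] at hy
        subst hy
        calc y * (x⁻¹ * g) = x⁻¹ * (x * y * x⁻¹) * g := by group
          _ = x⁻¹ * (g * y * g⁻¹) * g := by rw [hxe]
          _ = x⁻¹ * g * y := by group
      rw [← hD.sup_eq a ha, bot_sup_eq] at hc
      simpa using L.mul_mem hx hc.1
    have hL : Subgroup.normalizer A = L := by
      refine le_antisymm ?_ ?_
      · intro g hg
        obtain ⟨a, ha⟩ := hA
        exact key a ha g ((Subgroup.mem_set_normalizer_iff.mp hg a).mp ha)
      · intro x hx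
        rw [Subgroup.mem_set_normalizer_iff]
        intro a
        refine ⟨fun ha => hD.conj_mem x hx a ha, fun h => ?_⟩
        have := hD.conj_mem x⁻¹ (L.inv_mem hx) _ h
        simpa [mul_assoc] using this
    refine ⟨?_, hL⟩
    intro g hg a ha hga
    exact absurd (hL ▸ key a ha g hga) hg

end Cfsg.Agent.S1497
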