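import Cfsg.Statements.S1499
import Cfsg.Agent.Lib.OddChar.Dade

set_option autoImplicit false
open Cfsg

namespace Cfsg.Agent.S1499

/-- Under the Dade hypothesis for (A, L, H), let a, b ∈ A. If an element of the coset a·H(a) is conjugate in G to an element of b·H(b), then a and b are conjugate by an element of L. Moreover the set normaliser of the coset a·H(a) is the centraliser of a. -/
theorem result {G : Type*} [Group G] [Finite G] (A : Set G) (L : Subgroup G) (H : G → Subgroup G) (hD : Cfsg.DadeHypothesis A L H) (a b : G) (ha : a ∈ A) (hb : b ∈ A) : ((∃ u ∈ H a, ∃ v ∈ H b, ∃ g : G, g * (a * u) * g⁻¹ = b * v) → ∃ x ∈ L, x * a * x⁻¹ = b) ∧ Subgroup.normalizer ((fun u : G => a * u) '' (H a : Set G)) = Subgroup.centralizer ({a} : Set G) := by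
  open CfsgLib.OddChar.Dade in
  refine ⟨fun ⟨u, hu, v, hv, g, h⟩ => exists_conj_L hD ha hb hu hv h, ?_⟩
  ext g
  rw [Subgroup.mem_set_normalizer_iff, mem_centralizer_iff']
  constructor
  · intro hg
    obtain ⟨v, hv, he⟩ := (hg a).mp ⟨1, (H a).one_mem, mul_one a⟩
    have := conj_of_coset hD ha ha (H a).one_mem hv (g := g) (by rw [mul_one]; exact he.symm)
    calc g * a = g * a * g⁻¹ * g := by group
      _ = a * g := by rw [this]
  · intro hg y
    constructor
    · rintro ⟨u, hu, rfl⟩
      refine ⟨g * u * g⁻¹, hD.conj_mem_H a ha g (mem_centralizer_iff'.mpr hg) u hu, ?_⟩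
      show a * (g * u * g⁻¹) = g * (a * u) * g⁻¹
      rw [show g * (a * u) * g⁻¹ = g * a * u * g⁻¹ by group, hg]
      group
    · rintro ⟨v, hv, he⟩
      refine ⟨g⁻¹ * v * g, ?_, ?_⟩
      · have := hD.conj_mem_H a ha g⁻¹ (inv_mem (mem_centralizer_iff'.mpr hg)) v hv
        rwa [inv_inv] at this
      · show a * (g⁻¹ * v * g) = y
        have he' : a * v = g * y * g⁻¹ := he
        have hgi : a * g⁻¹ = g⁻¹ * a := (Commute.inv_left (show Commute g a from hg)).symm
        calc a * (g⁻¹ * v * g) = g⁻¹ * (a * v) * g := by rw [show a * (g⁻¹ * v * g) = a * g⁻¹ * v * g by group, hgi]; group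
          _ = y := by rw [he']; group

end Cfsg.Agent.S1499
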