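import Cfsg.Statements.S1504
import Cfsg.Agent.Lib.OddChar.CyclicTI

set_option autoImplicit false
open Cfsg

namespace Cfsg.Agent.S1504

/-- Let W₁, W₂ be subgroups of a finite group with W₁ ⊓ W₂ = ⊥ whose elements commute, and W = W₁ ⊔ W₂. For linear characters φ, ψ of W with φ trivial on W₂ and ψ trivial on W₁, the function (1 − φ)(1 − ψ) vanishes on W₁ ∪ W₂; and the family of these functions, indexed by pairs (φ, ψ) with φ ≠ 1 ≠ ψ, is linearly independent over ℂ. -/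
theorem result {G : Type*} [Group G] [Finite G] (W₁ W₂ : Subgroup G) (hdisj : W₁ ⊓ W₂ = ⊥) (hcomm : ∀ a ∈ W₁, ∀ b ∈ W₂, a * b = b * a) : (∀ φ ψ : ↥(W₁ ⊔ W₂) →* ℂˣ, (∀ w : ↥(W₁ ⊔ W₂), (w : G) ∈ W₂ → φ w = 1) → (∀ w : ↥(W₁ ⊔ W₂), (w : G) ∈ W₁ → ψ w = 1) → ∀ w : ↥(W₁ ⊔ W₂), ((w : G) ∈ W₁ ∨ (w : G) ∈ W₂) → (1 - (φ w : ℂ) - (ψ w : ℂ) + (φ w : ℂ) * (ψ w : ℂ)) = 0) ∧ LinearIndependent ℂ (fun p : {p : (↥(W₁ ⊔ W₂) →* ℂˣ) × (↥(W₁ ⊔ W₂) →* ℂˣ) // p.1 ≠ 1 ∧ p.2 ≠ 1 ∧ (∀ w : ↥(W₁ ⊔ W₂), (w : G) ∈ W₂ → p.1 w = 1) ∧ (∀ w : ↥(W₁ ⊔ W₂), (w : G) ∈ W₁ → p.2 w = 1)} => fun w : ↥(W₁ ⊔ W₂) => 1 - (p.1.1 w : ℂ) - (p.1.2 w : ℂ) + (p.1.1 w : ℂ) * (p.1.2 w : ℂ)) := by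
  open CfsgLib.Char CfsgLib.OddChar.CTI in
  classical
  refine ⟨fun φ ψ hφ hψ w hw => prod_eq_zero hφ hψ hw, ?_⟩
  open CfsgLib.Char CfsgLib.OddChar.CTI in
  classical
  have := Fintype.ofFinite ↥(W₁ ⊔ W₂)
  rw [linearIndependent_iff']
  intro s c hc p hp
  open CfsgLib.Char CfsgLib.OddChar.CTI in
  have key := congrArg (fun f => Cfsg.classInner f (lin (p.1.1 * p.1.2))) hc
  open CfsgLib.Char CfsgLib.OddChar.CTI in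
  simp only [classInner_sum_left, classInner_smul_left, classInner_zero_left] at key
  open CfsgLib.Char CfsgLib.OddChar.CTI in
  have hval : ∀ q ∈ s, Cfsg.classInner (fun w : ↥(W₁ ⊔ W₂) =>
      1 - (q.1.1 w : ℂ) - (q.1.2 w : ℂ) + (q.1.1 w : ℂ) * (q.1.2 w : ℂ)) (lin (p.1.1 * p.1.2)) =
      if q = p then 1 else 0 := by
    intro q _
    show Cfsg.classInner (prod q.1.1 q.1.2) _ = _
    rw [classInner_prod_lin q.2.2.2.1 q.2.2.2.2 p.2.2.2.1 p.2.2.2.2, if_neg (fun h => p.2.1 h.1),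
      if_neg (fun h => p.2.2.1 h.2), if_neg (fun h => p.2.1 h.1), sub_zero, sub_zero, zero_add]
    exact if_congr ⟨fun h => Subtype.ext (Prod.ext h.1.symm h.2.symm), fun h => by simp [h]⟩ rfl rfl
  rw [Finset.sum_congr rfl fun q hq => by rw [hval q hq]] at key
  simpa [hp] using key

end Cfsg.Agent.S1504
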