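import Cfsg.Statements.S1505
import Cfsg.Agent.Lib.OddChar.CyclicTI

set_option autoImplicit false
open Cfsg

namespace Cfsg.Agent.S1505

open Classical in
/-- Let W₁, W₂ ≤ G form a self-normalising cyclic subgroup W = W₁ ⊔ W₂. For nontrivial linear characters φ, φ' of W trivial on W₂ and ψ, ψ' trivial on W₁, put α = (1 − φ)(1 − ψ) and α' = (1 − φ')(1 − ψ'). Then the function induced from α to G has inner product 1 with the principal character, and the inner product of the functions induced from α and α' is 1 + a + b + ab where a = 1 if φ = φ' (else 0) and b = 1 if ψ = ψ' (else 0). -/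
theorem result {G : Type*} [Group G] [Fintype G] (W₁ W₂ : Subgroup G) (hW : Cfsg.IsSelfNormalizingCyclic W₁ W₂) (φ φ' ψ ψ' : ↥(W₁ ⊔ W₂) →* ℂˣ) (hφ : φ ≠ 1) (hφ' : φ' ≠ 1) (hψ : ψ ≠ 1) (hψ' : ψ' ≠ 1) (hφ₂ : ∀ w : ↥(W₁ ⊔ W₂), (w : G) ∈ W₂ → φ w = 1 ∧ φ' w = 1) (hψ₁ : ∀ w : ↥(W₁ ⊔ W₂), (w : G) ∈ W₁ → ψ w = 1 ∧ ψ' w = 1) : Cfsg.classInner (Cfsg.indFun (W₁ ⊔ W₂) (fun w => 1 - (φ w : ℂ) - (ψ w : ℂ) + (φ w : ℂ) * (ψ w : ℂ))) (fun _ => 1) = 1 ∧ Cfsg.classInner (Cfsg.indFun (W₁ ⊔ W₂) (fun w => 1 - (φ w : ℂ) - (ψ w : ℂ) + (φ w : ℂ) * (ψ w : ℂ))) (Cfsg.indFun (W₁ ⊔ W₂) (fun w => 1 - (φ' w : ℂ) - (ψ' w : ℂ) + (φ' w : ℂ) * (ψ' w : ℂ))) = 1 + (if φ = φ' then 1 else 0) + (if ψ = ψ' then 1 else 0) + (if φ = φ' then 1 else 0) * (if ψ = ψ' then 1 else 0) := by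
  open CfsgLib.Char CfsgLib.OddChar.CTI in
  classical
  have := Fintype.ofFinite ↥(W₁ ⊔ W₂)
  have h2 : ∀ w : ↥(W₁ ⊔ W₂), (w : G) ∈ W₂ → φ w = 1 := fun w hw => (hφ₂ w hw).1
  have h2' : ∀ w : ↥(W₁ ⊔ W₂), (w : G) ∈ W₂ → φ' w = 1 := fun w hw => (hφ₂ w hw).2
  have h1 : ∀ w : ↥(W₁ ⊔ W₂), (w : G) ∈ W₁ → ψ w = 1 := fun w hw => (hψ₁ w hw).1
  have h1' : ∀ w : ↥(W₁ ⊔ W₂), (w : G) ∈ W₁ → ψ' w = 1 := fun w hw => (hψ₁ w hw).2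
  refine ⟨?_, ?_⟩
  · show Cfsg.classInner (Cfsg.indFun (W₁ ⊔ W₂) (prod φ ψ)) _ = 1
    rw [frobenius_reciprocity _ _ (isClassFunction_const 1)]
    have hl : (fun _ : ↥(W₁ ⊔ W₂) => (1 : ℂ)) = lin (1 * 1) := funext fun w => by simp [lin]
    rw [hl, classInner_prod_lin h2 h1 (φ' := 1) (ψ' := 1) (fun _ _ => rfl) (fun _ _ => rfl)]
    simp [Ne.symm hφ, Ne.symm hψ]
  · show Cfsg.classInner (Cfsg.indFun (W₁ ⊔ W₂) (prod φ ψ))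
      (Cfsg.indFun (W₁ ⊔ W₂) (prod φ' ψ')) = _
    have hcl : Cfsg.IsClassFunction ↥(W₁ ⊔ W₂) (prod φ' ψ') := fun g c => by
      rw [commute_of_mem hW c g, mul_inv_cancel_right]
    rw [classInner_indFun_of_TI (W₁ ⊔ W₂) {t | t ∈ W₁ ⊔ W₂ ∧ t ∉ W₁ ∧ t ∉ W₂}
      (fun g hg t ht hgt => absurd hgt.1 (ti_of_selfNormalizing hW g hg t ht)) hcl
      (fun x hx => prod_eq_zero h2 h1 (by
        by_contra h; push Not at h; exact hx ⟨x.2, h⟩))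
      (fun x hx => prod_eq_zero h2' h1' (by
        by_contra h; push Not at h; exact hx ⟨x.2, h⟩))
      (prod_eq_zero h2 h1 (Or.inl W₁.one_mem))]
    refine (classInner_prod_prod h2 h1 h2' h1' hφ hψ hφ' hψ').trans ?_
    split_ifs <;> norm_num

end Cfsg.Agent.S1505
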