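import Cfsg.Statements.S1507
import Cfsg.Agent.Lib.OddChar.CyclicTI
import Cfsg.Agent.Lib.OddChar.Grid
import Cfsg.Agent.S1506

set_option autoImplicit false
open Cfsg

namespace Cfsg.Agent.S1507

open Classical in
/-- Let W₁, W₂ ≤ G form a self-normalising cyclic subgroup W = W₁ ⊔ W₂ of odd order with Nat.card W₁ < Nat.card W₂, and χ an orthonormal family of irreducible characters of G up to sign, indexed by the linear characters ω of W, with χ_1 = 1, χ_ω = ω on W outside W₁ ∪ W₂, and the induction identity for (1 − φ)(1 − ψ). Let θ be a class function of G vanishing on W outside W₁ ∪ W₂, and suppose fewer than 2 · Nat.card W₁ linear characters ω of W have ⟨θ, χ ω⟩ ≠ 0. Then one of: all ⟨θ, χ ω⟩ vanish; or there are ψ₀ and a with ⟨θ, χ ω⟩ = a when ω ψ₀⁻¹ is trivial on W₂ and 0 otherwise; or there are φ₀ and a with ⟨θ, χ ω⟩ = a when ω φ₀⁻¹ is trivial on W₁ and 0 otherwise.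 -/
theorem result {G : Type*} [Group G] [Fintype G] (W₁ W₂ : Subgroup G) (hW : Cfsg.IsSelfNormalizingCyclic W₁ W₂) (hodd : Odd (Nat.card ↥(W₁ ⊔ W₂))) (χ : (↥(W₁ ⊔ W₂) →* ℂˣ) → (G → ℂ)) (hχ : Cfsg.IsCyclicTIFamily W₁ W₂ χ) (hlt : Nat.card W₁ < Nat.card W₂) (θ : G → ℂ) (hθ : Cfsg.IsClassFunction G θ) (hθV : ∀ w : ↥(W₁ ⊔ W₂), (w : G) ∉ W₁ → (w : G) ∉ W₂ → θ w = 0) (hfew : Nat.card {ω : ↥(W₁ ⊔ W₂) →* ℂˣ // Cfsg.classInner θ (χ ω) ≠ 0} < 2 * Nat.card W₁) : (∀ ω, Cfsg.classInner θ (χ ω) = 0) ∨ (∃ (ψ₀ : ↥(W₁ ⊔ W₂) →* ℂˣ) (a : ℂ), ∀ ω, Cfsg.classInner θ (χ ω) = if (∀ w : ↥(W₁ ⊔ W₂), (w : G) ∈ W₂ → (ω * ψ₀⁻¹) w = 1) then a else 0) ∨ (∃ (φ₀ : ↥(W₁ ⊔ W₂) →* ℂˣ) (a : ℂ), ∀ ω, Cfsg.classInner θ (χ ω) = if (∀ w : ↥(W₁ ⊔ W₂), (w : G) ∈ W₁ → (ω * φ₀⁻¹) w = 1) then a else 0) := by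
  open CfsgLib.Char CfsgLib.OddChar.CTI in
  classical
  have := Fintype.ofFinite ↥(W₁ ⊔ W₂)
  have hcomm := commute_of_mem hW
  have := finite_hom hcomm
  obtain ⟨π₁, π₂, hπ, hπ₁, hπ₂, h₁, h₂⟩ := exists_proj hW
  let P := {φ : ↥(W₁ ⊔ W₂) →* ℂˣ // ∀ w : ↥(W₁ ⊔ W₂), (w : G) ∈ W₂ → φ w = 1}
  let Q := {ψ : ↥(W₁ ⊔ W₂) →* ℂˣ // ∀ w : ↥(W₁ ⊔ W₂), (w : G) ∈ W₁ → ψ w = 1}
  have := Fintype.ofFinite P
  have := Fintype.ofFinite Q
  have hcard : Fintype.card P = Nat.card W₁ ∧ Fintype.card Q = Nat.card W₂ := by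
    have hgen : ∀ (V V' : Subgroup G) (π π' : ↥(W₁ ⊔ W₂) →* ↥(W₁ ⊔ W₂)) (hV : V ≤ W₁ ⊔ W₂),
        (∀ w, (π w : G) ∈ V) → (∀ w, (π' w : G) ∈ V') → (∀ w, π w * π' w = w) →
        (∀ w : ↥(W₁ ⊔ W₂), (w : G) ∈ V → π w = w) → (∀ w : ↥(W₁ ⊔ W₂), (w : G) ∈ V' → π w = 1) →
        Nat.card {φ : ↥(W₁ ⊔ W₂) →* ℂˣ // ∀ w : ↥(W₁ ⊔ W₂), (w : G) ∈ V' → φ w = 1} = Nat.card V := by
      intro V V' π π' hV hπV hπV' hmul hfix htriv
      rw [← Nat.card_congr (Subgroup.subgroupOfEquivOfLe hV).toEquiv,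
        ← card_hom (A := V.subgroupOf (W₁ ⊔ W₂)) fun x y => Subtype.ext (hcomm x y)]
      refine Nat.card_congr
        { toFun := fun φ => φ.1.comp (V.subgroupOf (W₁ ⊔ W₂)).subtype
          invFun := fun f => ⟨f.comp (π.codRestrict (V.subgroupOf (W₁ ⊔ W₂)) hπV), fun w hw => ?_⟩
          left_inv := fun φ => Subtype.ext (MonoidHom.ext fun w => ?_)
          right_inv := fun f => MonoidHom.ext fun w => ?_ }
      · show f ⟨π w, _⟩ = 1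
        rw [← map_one f]
        exact congrArg f (Subtype.ext (htriv w hw))
      · show φ.1 (π w) = φ.1 w
        conv_rhs => rw [← hmul w, map_mul, φ.2 _ (hπV' w), mul_one]
      · show f ⟨π w, _⟩ = f w
        exact congrArg f (Subtype.ext (hfix w w.2))
    refine ⟨?_, ?_⟩
    · rw [← Nat.card_eq_fintype_card]
      exact hgen W₁ W₂ π₁ π₂ le_sup_left hπ₁ hπ₂ hπ (fun w hw => (h₁ w hw).1) fun w hw => (h₂ w hw).1
    · rw [← Nat.card_eq_fintype_card]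
      exact hgen W₂ W₁ π₂ π₁ le_sup_right hπ₂ hπ₁ (fun w => (hcomm _ _).trans (hπ w))
        (fun w hw => (h₂ w hw).2) fun w hw => (h₁ w hw).2
  let a : (↥(W₁ ⊔ W₂) →* ℂˣ) → ℂ := fun ω => Cfsg.classInner θ (χ ω)
  let r : P → ℂ := fun φ => a φ.1 - a 1
  let c : Q → ℂ := fun ψ => a ψ.1
  have hgrid : ∀ (φ : P) (ψ : Q), a (φ.1 * ψ.1) = r φ + c ψ := by
    intro φ ψ
    have h := Cfsg.Agent.S1506.result W₁ W₂ hW χ hχ θ hθ hθV φ.1 1 ψ.1 1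
      (fun w hw => ⟨φ.2 w hw, rfl⟩) (fun w hw => ⟨ψ.2 w hw, rfl⟩)
    simp only [hom_one_mul, hom_mul_one] at h
    simp only [r, c, a]
    linear_combination h
  let dec : (↥(W₁ ⊔ W₂) →* ℂˣ) → P × Q := fun ω =>
    (⟨ω.comp π₁, fun w hw => by simp [(h₂ w hw).1]⟩, ⟨ω.comp π₂, fun w hw => by simp [(h₁ w hw).2]⟩)
  have hdec : ∀ ω, (dec ω).1.1 * (dec ω).2.1 = ω := fun ω => MonoidHom.ext fun w => by
    show ω (π₁ w) * ω (π₂ w) = ω w
    rw [← map_mul, hπ]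
  have hdec' : ∀ (φ : P) (ψ : Q) ω, φ.1 * ψ.1 = ω → dec ω = (φ, ψ) := by
    intro φ ψ ω h
    obtain ⟨e1, e2⟩ := hom_ext_of_sup (dec ω).1.2 φ.2 (dec ω).2.2 ψ.2 ((hdec ω).trans h.symm)
    exact Prod.ext (Subtype.ext e1) (Subtype.ext e2)
  have hfew' : (Finset.univ.filter fun p : P × Q => r p.1 + c p.2 ≠ 0).card < 2 * Fintype.card P := by
    rw [hcard.1]
    refine lt_of_eq_of_lt ?_ hfew
    rw [← Nat.card_eq_finsetCard]
    refine Nat.card_congr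
      { toFun := fun p => ⟨p.1.1.1 * p.1.2.1, by
          show a _ ≠ 0
          rw [hgrid]; exact (Finset.mem_filter.mp p.2).2⟩
        invFun := fun ω => ⟨dec ω.1, Finset.mem_filter.mpr ⟨Finset.mem_univ _, by
          rw [← hgrid, hdec]; exact ω.2⟩⟩
        left_inv := fun p => Subtype.ext (hdec' _ _ _ rfl)
        right_inv := fun ω => Subtype.ext (hdec ω.1) }
  have hodd₁ : Odd (Nat.card W₁) := hodd.of_dvd_nat (Subgroup.card_dvd_of_le le_sup_left)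
  have hodd₂ : Odd (Nat.card W₂) := hodd.of_dvd_nat (Subgroup.card_dvd_of_le le_sup_right)
  have hm : 3 ≤ Nat.card W₁ := by
    have h1 : Nat.card W₁ ≠ 1 := fun h => hW.1 (Subgroup.eq_bot_of_card_eq _ h)
    obtain ⟨d, hd⟩ := hodd₁
    omega
  rcases CfsgLib.OddChar.grid_cases r c (hcard.1.symm ▸ hm)
      (by rw [hcard.1, hcard.2]; obtain ⟨d, hd⟩ := hodd₁; obtain ⟨d', hd'⟩ := hodd₂; omega) hfew'
    with h | ⟨j₀, x, h⟩ | ⟨i₀, x, h⟩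
  · refine Or.inl fun ω => ?_
    show a ω = 0
    rw [← hdec ω, hgrid, h]
  · refine Or.inr (Or.inl ⟨j₀.1, x, fun ω => ?_⟩)
    show a ω = _
    rw [show a ω = a ((dec ω).1.1 * (dec ω).2.1) by rw [hdec], hgrid, h]
    have hiff : (dec ω).2 = j₀ ↔ ∀ w : ↥(W₁ ⊔ W₂), (w : G) ∈ W₂ → (ω * j₀.1⁻¹) w = 1 := by
      constructor
      · intro he w hw
        rw [MonoidHom.mul_apply, MonoidHom.inv_apply, mul_inv_eq_one, ← he]
        show ω w = ω (π₂ w)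
        rw [(h₂ w hw).2]
      · intro he
        refine Subtype.ext (MonoidHom.ext fun w => ?_)
        show ω (π₂ w) = j₀.1 w
        have e := he _ (hπ₂ w)
        rw [MonoidHom.mul_apply, MonoidHom.inv_apply, mul_inv_eq_one] at e
        rw [e]
        conv_rhs => rw [← hπ w, map_mul, j₀.2 _ (hπ₁ w), one_mul]
    by_cases hh : (dec ω).2 = j₀
    · rw [if_pos hh, if_pos (hiff.mp hh)]
    · rw [if_neg hh, if_neg fun hh' => hh (hiff.mpr hh')]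
  · refine Or.inr (Or.inr ⟨i₀.1, x, fun ω => ?_⟩)
    show a ω = _
    rw [show a ω = a ((dec ω).1.1 * (dec ω).2.1) by rw [hdec], hgrid, h]
    have hiff : (dec ω).1 = i₀ ↔ ∀ w : ↥(W₁ ⊔ W₂), (w : G) ∈ W₁ → (ω * i₀.1⁻¹) w = 1 := by
      constructor
      · intro he w hw
        rw [MonoidHom.mul_apply, MonoidHom.inv_apply, mul_inv_eq_one, ← he]
        show ω w = ω (π₁ w)
        rw [(h₁ w hw).1]
      · intro he
        refine Subtype.ext (MonoidHom.ext fun w => ?_)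
        show ω (π₁ w) = i₀.1 w
        have e := he _ (hπ₁ w)
        rw [MonoidHom.mul_apply, MonoidHom.inv_apply, mul_inv_eq_one] at e
        rw [e]
        conv_rhs => rw [← hπ w, map_mul, i₀.2 _ (hπ₂ w), mul_one]
    by_cases hh : (dec ω).1 = i₀
    · rw [if_pos hh, if_pos (hiff.mp hh)]
    · rw [if_neg hh, if_neg fun hh' => hh (hiff.mpr hh')]

end Cfsg.Agent.S1507
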