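import Cfsg.Statements.S1512
import Cfsg.Agent.Lib.OddChar.Coset

set_option autoImplicit false
open Cfsg

namespace Cfsg.Agent.S1512

/-- Let K be a normal subgroup of the finite group L and x a non-identity element whose order is coprime to the order of K, such that K ⊓ C_L(y) = W₂ for every non-identity element y of the cyclic group generated by x. Then the number of conjugacy classes of K mapped to themselves by conjugation by x is at most Nat.card W₂. -/
theorem result {L : Type*} [Group L] [Finite L] (K W₂ : Subgroup L) [hK : K.Normal] (x : L) (hx1 : x ≠ 1) (hx : Nat.Coprime (orderOf x) (Nat.card K)) (hC : ∀ y ∈ Subgroup.zpowers x, y ≠ 1 → K ⊓ Subgroup.centralizer ({y} : Set L) = W₂) : Nat.card {C : ConjClasses K // ConjClasses.map (MulEquiv.toMonoidHom ((MulAut.conjNormal x : MulAut K))) C = C} ≤ Nat.card W₂ := by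
  classical
  have := Fintype.ofFinite L
  set e : MulAut K := MulAut.conjNormal x
  have hcx : K ⊓ Subgroup.centralizer ({x} : Set L) = W₂ := hC x (Subgroup.mem_zpowers x) hx1
  have hW₂K : W₂ ≤ K := hcx ▸ inf_le_left
  let F : W₂ → {C : ConjClasses K // ConjClasses.map e.toMonoidHom C = C} := fun w =>
    ⟨ConjClasses.mk ⟨w, hW₂K w.2⟩, congrArg ConjClasses.mk (Subtype.ext (by
      show x * (w : L) * x⁻¹ = w
      have hw : (w : L) ∈ K ⊓ Subgroup.centralizer ({x} : Set L) := hcx.symm ▸ w.2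
      rw [← Subgroup.mem_centralizer_singleton_iff.mp hw.2, mul_inv_cancel_right]))⟩
  refine Nat.card_le_card_of_surjective F ?_
  rintro ⟨C, hC'⟩
  obtain ⟨g, rfl⟩ := ConjClasses.mk_surjective C
  obtain ⟨y, hy⟩ := isConj_iff.mp (ConjClasses.mk_eq_mk_iff_isConj.mp hC')
  have hy' : (y : L) * (x * (g : L) * x⁻¹) * (y : L)⁻¹ = g := congrArg (Subtype.val : K → L) hy
  have hc0 : Commute ((y : L) * x) (g : L) := by
    show (y : L) * x * g = g * ((y : L) * x)
    calc (y : L) * x * g = (y : L) * (x * (g : L) * x⁻¹) * (y : L)⁻¹ * ((y : L) * x) := by group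
      _ = _ := by rw [hy']
  obtain ⟨z, hz, c, hc, hcc, hzc⟩ := CfsgLib.OddChar.exists_conj_coset K x
    (by rw [Subgroup.normalizer_eq_top]; exact Subgroup.mem_top _) hx y.2
  obtain ⟨j, hj⟩ := CfsgLib.OddChar.exists_pow_of_coprime (G := L) hx
  have hpow : (c * x) ^ j = x := by
    rw [hcc]
    exact hj x c hcc.symm (pow_orderOf_eq_one _)
      (orderOf_dvd_iff_pow_eq_one.mp (Subgroup.orderOf_dvd_natCard _ hc))
  have hcg : Commute (c * x) (z * (g : L) * z⁻¹) := by
    rw [← hzc]
    exact hc0.map (MulAut.conj z).toMonoidHom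
  have hxg : Commute x (z * (g : L) * z⁻¹) := hpow ▸ hcg.pow_left j
  have hmem : z * (g : L) * z⁻¹ ∈ W₂ := by
    rw [← hcx]
    exact ⟨hK.conj_mem _ g.2 z, Subgroup.mem_centralizer_singleton_iff.mpr hxg.eq.symm⟩
  refine ⟨⟨_, hmem⟩, Subtype.ext ?_⟩
  show ConjClasses.mk (⟨z * (g : L) * z⁻¹, _⟩ : K) = ConjClasses.mk g
  rw [ConjClasses.mk_eq_mk_iff_isConj, isConj_comm, isConj_iff]
  exact ⟨⟨z, hz⟩, Subtype.ext rfl⟩

end Cfsg.Agent.S1512
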