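import Cfsg.Statements.S1528
import Cfsg.Agent.S1536
import Cfsg.Agent.Lib.Char.TI
import Cfsg.Agent.Lib.Char.Ito
import Cfsg.Agent.Lib.CharNormal.Kernel

set_option autoImplicit false
open Cfsg

namespace Cfsg.Agent.S1528

/-- Let N be a normal subgroup of the finite group G such that every element of G commuting with a non-identity element of N lies in N. If χ is an irreducible character of G with χ n ≠ χ 1 for some n ∈ N, then χ is the function induced from some irreducible character of N. -/
theorem result {G : Type*} [Group G] [Fintype G] (N : Subgroup G) [N.Normal] (hC : ∀ n ∈ N, n ≠ 1 → Subgroup.centralizer ({n} : Set G) ≤ N) (χ : G → ℂ) (hχ : Cfsg.IsIrrCharacter G χ) (hker : ∃ n ∈ N, χ n ≠ χ 1) : ∃ φ : N → ℂ, Cfsg.IsIrrCharacter N φ ∧ χ = Cfsg.indFun N φ := by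
  open CfsgLib.Char CfsgLib.CharNormal in
  classical
  have := Fintype.ofFinite N
  obtain ⟨θ, hθ, h0⟩ := exists_constituent (isCharacter_res N (isCharacter_of_isIrr hχ))
    fun h => irr_one_ne_zero hχ (by simpa using congrFun h 1)
  have hne : θ ≠ fun _ => 1 := by
    rintro rfl
    obtain ⟨n, hn, hne⟩ := hker
    exact hne (res_eq_degree_of_constituent_one N hχ h0 n hn)
  have hT : ∀ g : G, g ∈ N ↔ CfsgLib.CharNormal.conjFun N g θ = θ := by
    intro g
    refine ⟨conjFun_of_mem N (isClassFunction_of_isIrr hθ), fun hg => ?_⟩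
    obtain ⟨h, hh, h1, hc⟩ := (Cfsg.Agent.S1536.result N
      (coprime_card_index_of_centralizer_le N hC) g).mp ⟨θ, hθ, hne, hg⟩
    exact hC h hh h1 (Subgroup.mem_centralizer_singleton_iff.mpr hc)
  obtain ⟨ψ, hψ, he, -⟩ := clifford_correspondence N hθ N hT le_rfl hχ h0
  exact ⟨ψ, hψ, he.symm⟩

end Cfsg.Agent.S1528
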