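import Cfsg.Statements.S1529
import Cfsg.Agent.Lib.Char.Generalized

set_option autoImplicit false
open Cfsg

namespace Cfsg.Agent.S1529

/-- Let N be a subgroup of the finite group G, S a set of irreducible characters of N with at least two members, and τ₁ a linear isometry on the integer combinations of S with virtual-character values such that τ₁ α vanishes at 1 whenever α ∈ ℤ[S] does. Then there is ε ∈ {1, −1} such that ε • τ₁ χ is an irreducible character of G for every χ ∈ S, and distinct members of S give distinct characters. -/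
theorem result {G : Type*} [Group G] [Fintype G] (N : Subgroup G) [Fintype N] (S : Set (N → ℂ)) (hirr : ∀ χ ∈ S, Cfsg.IsIrrCharacter N χ) (htwo : ∃ χ ∈ S, ∃ ψ ∈ S, χ ≠ ψ) (τ₁ : (N → ℂ) → (G → ℂ)) (hτ₁ : Cfsg.IsLinearIsometryOn (Cfsg.zspan S) τ₁) (h0 : ∀ α ∈ Cfsg.zspan S, α 1 = 0 → τ₁ α 1 = 0) : ∃ ε : ℂ, (ε = 1 ∨ ε = -1) ∧ (∀ χ ∈ S, Cfsg.IsIrrCharacter G (ε • τ₁ χ)) ∧ (∀ χ ∈ S, ∀ ψ ∈ S, τ₁ χ = τ₁ ψ → χ = ψ) := by
  open CfsgLib.Char in
  classical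
  obtain ⟨hadd, hsmul, hinner, hgen⟩ := hτ₁
  have hmem : ∀ χ ∈ S, χ ∈ Cfsg.zspan S := fun χ hχ => Submodule.subset_span hχ
  have hnorm : ∀ χ ∈ S, Cfsg.classInner (τ₁ χ) (τ₁ χ) = 1 := fun χ hχ => by
    rw [hinner χ (hmem χ hχ) χ (hmem χ hχ), classInner_irr_self (hirr χ hχ)]
  -- the values at one are proportional to the degrees
  have hdeg : ∀ χ ∈ S, ∀ ψ ∈ S, ψ 1 * τ₁ χ 1 = χ 1 * τ₁ ψ 1 := by
    intro χ hχ ψ hψ
    obtain ⟨a, -, ha⟩ := exists_degree_pos (hirr χ hχ)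
    obtain ⟨b, -, hb⟩ := exists_degree_pos (hirr ψ hψ)
    have h1 : (b : ℤ) • χ ∈ Cfsg.zspan S := Submodule.smul_mem _ _ (hmem χ hχ)
    have h2 : (-(a : ℤ)) • ψ ∈ Cfsg.zspan S := Submodule.smul_mem _ _ (hmem ψ hψ)
    have := h0 ((b : ℤ) • χ + (-(a : ℤ)) • ψ) (Submodule.add_mem _ h1 h2) (by simp [ha, hb]; ring)
    rw [hadd _ h1 _ h2, hsmul _ (hmem χ hχ), hsmul _ (hmem ψ hψ)] at this
    simp only [Pi.add_apply, zsmul_eq_mul, Int.cast_neg, Int.cast_natCast, Pi.mul_apply,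
      Pi.neg_apply, Pi.natCast_apply] at this
    rw [ha, hb]
    linear_combination this
  obtain ⟨χ₀, hχ₀, -⟩ := htwo
  have hsign : ∀ χ ∈ S, ∀ e : ℂ, (e = 1 ∨ e = -1) → Cfsg.IsIrrCharacter G (e • τ₁ χ) →
      0 < (e * τ₁ χ 1).re := by
    intro χ _ e _ h
    obtain ⟨n, hn, hn1⟩ := exists_degree_pos h
    simp only [Pi.smul_apply, smul_eq_mul] at hn1
    rw [hn1, Complex.natCast_re]
    exact_mod_cast hn
  have hex : ∀ χ ∈ S, ∃ e : ℂ, (e = 1 ∨ e = -1) ∧ Cfsg.IsIrrCharacter G (e • τ₁ χ) := by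
    intro χ hχ
    rcases gen_norm_one (hgen χ (hmem χ hχ)) (hnorm χ hχ) with h | h
    · exact ⟨1, Or.inl rfl, by rwa [one_smul]⟩
    · exact ⟨-1, Or.inr rfl, by rwa [neg_one_smul]⟩
  obtain ⟨ε, hε, hε0⟩ := hex χ₀ hχ₀
  refine ⟨ε, hε, fun χ hχ => ?_, fun χ hχ ψ hψ he => ?_⟩
  · obtain ⟨e, he, he'⟩ := hex χ hχ
    have h1 := hsign χ₀ hχ₀ ε hε hε0
    have h2 := hsign χ hχ e he he'
    obtain ⟨a, ha0, ha⟩ := exists_degree_pos (hirr χ hχ)
    obtain ⟨b, hb0, hb⟩ := exists_degree_pos (hirr χ₀ hχ₀)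
    have h3 := congrArg Complex.re (hdeg χ hχ χ₀ hχ₀)
    rw [ha, hb] at h3
    simp only [Complex.mul_re, Complex.natCast_re, Complex.natCast_im, zero_mul, sub_zero] at h3
    have ha' : (0 : ℝ) < a := by exact_mod_cast ha0
    have hb' : (0 : ℝ) < b := by exact_mod_cast hb0
    rcases hε with rfl | rfl <;> rcases he with rfl | rfl <;>
      first
      | exact he'
      | (exfalso; simp only [one_mul, neg_mul, Complex.neg_re] at h1 h2; nlinarith)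
  · by_contra hne
    have := hinner χ (hmem χ hχ) ψ (hmem ψ hψ)
    rw [he, hnorm ψ hψ, classInner_irr_ne (hirr χ hχ) (hirr ψ hψ) hne] at this
    exact one_ne_zero this

end Cfsg.Agent.S1529
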