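import Cfsg.Statements.S1530
import Cfsg.Agent.Lib.OddChar.Coherence

set_option autoImplicit false
open Cfsg

namespace Cfsg.Agent.S1530

/-- Let N be a subgroup of the finite group G and S₀ a finite set of irreducible characters of N, χ an irreducible character of N not in S₀, with degrees ξ 1 = d ξ. Let τ be a linear isometry on the integer combinations of S₀ ∪ {χ} vanishing at 1, with values virtual characters of G vanishing at 1, such that (S₀, N minus 1, τ) is coherent. If some ψ ∈ S₀ has d ψ dividing d χ and 2 · d ψ · d χ < Σ_{ξ ∈ S₀} (d ξ)², then (S₀ ∪ {χ}, N minus 1, τ) is coherent. -/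
theorem result {G : Type*} [Group G] [Fintype G] (N : Subgroup G) [Fintype N] (S₀ : Finset (N → ℂ)) (χ : N → ℂ) (hirr : ∀ ξ ∈ S₀, Cfsg.IsIrrCharacter N ξ) (hχ : Cfsg.IsIrrCharacter N χ) (hχS : χ ∉ S₀) (d : (N → ℂ) → ℕ) (hd : ∀ ξ ∈ insert χ S₀, ξ 1 = (d ξ : ℂ)) (τ : (N → ℂ) → (G → ℂ)) (hτ : Cfsg.IsLinearIsometryOn (Cfsg.zspanOn (↑(insert χ S₀) : Set (N → ℂ)) {1}ᶜ) τ) (hτ1 : ∀ α ∈ Cfsg.zspanOn (↑(insert χ S₀) : Set (N → ℂ)) {1}ᶜ, τ α 1 = 0) (hcoh : Cfsg.IsCoherent (↑S₀ : Set (N → ℂ)) {1}ᶜ τ) (ψ : N → ℂ) (hψ : ψ ∈ S₀) (hdvd : d ψ ∣ d χ) (hlt : 2 * d ψ * d χ < ∑ ξ ∈ S₀, d ξ ^ 2) : Cfsg.IsCoherent (↑(insert χ S₀) : Set (N → ℂ)) {1}ᶜ τ := by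
  open CfsgLib.Char CfsgLib.OddChar.Coh in
  classical
  obtain ⟨⟨α₀, hα₀, hα₀ne⟩, σ, hσ, hag⟩ := hcoh
  have hirr' : ∀ ξ ∈ insert χ S₀, Cfsg.IsIrrCharacter N ξ := fun ξ hξ => by
    rcases Finset.mem_insert.mp hξ with rfl | h
    exacts [hχ, hirr ξ h]
  have hsub : (↑S₀ : Set (N → ℂ)) ⊆ ↑(insert χ S₀) := fun x hx => Finset.mem_insert_of_mem hx
  have hσm : ∀ φ ∈ S₀, φ ∈ Cfsg.zspan (↑S₀ : Set (N → ℂ)) := fun φ hφ => mem_zspan hφ
  have hδ : ∀ φ ∈ S₀, ∀ φ' ∈ S₀, Cfsg.classInner φ φ' = if φ = φ' then 1 else 0 := fun φ hφ φ' hφ' => by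
    split_ifs with h
    · subst h; exact classInner_irr_self (hirr φ hφ)
    · exact classInner_irr_ne (hirr φ hφ) (hirr φ' hφ') h
  have hσσ : ∀ φ ∈ S₀, ∀ φ' ∈ S₀, Cfsg.classInner (σ φ) (σ φ') = if φ = φ' then 1 else 0 :=
    fun φ hφ φ' hφ' => by rw [hσ.2.2.1 φ (hσm φ hφ) φ' (hσm φ' hφ'), hδ φ hφ φ' hφ']
  have hdψ : (d ψ : ℂ) ≠ 0 := by
    rw [← hd ψ (Finset.mem_insert_of_mem hψ)]; exact irr_one_ne_zero (hirr ψ hψ)
  have hσ1 : σ ψ 1 ≠ 0 := by
    rcases gen_norm_one (hσ.2.2.2 ψ (hσm ψ hψ)) (by rw [hσσ ψ hψ ψ hψ, if_pos rfl]) with h | h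
    · exact irr_one_ne_zero h
    · exact fun h0 => irr_one_ne_zero h (by simp [h0])
  obtain ⟨a, ha⟩ := hdvd
  set ρ : N → ℂ := (a : ℤ) • ψ with hρdef
  have hρ' : ρ = (a : ℂ) • ψ := by rw [hρdef, ← Int.cast_smul_eq_zsmul ℂ, Int.cast_natCast]
  have hρ1 : χ 1 = ρ 1 := by
    rw [hρ', Pi.smul_apply, smul_eq_mul, hd χ (Finset.mem_insert_self _ _),
      hd ψ (Finset.mem_insert_of_mem hψ), ha, Nat.cast_mul]
    ring
  have hχmem : χ ∈ Cfsg.zspan (↑(insert χ S₀) : Set (N → ℂ)) := mem_zspan (Finset.mem_insert_self _ _)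
  have hρmem : ρ ∈ Cfsg.zspan (↑(insert χ S₀) : Set (N → ℂ)) :=
    Submodule.smul_mem _ _ (mem_zspan (Finset.mem_insert_of_mem hψ))
  have hmemD : χ - ρ ∈ Cfsg.zspanOn (↑(insert χ S₀) : Set (N → ℂ)) {1}ᶜ :=
    mem_zspanOn_one (Submodule.sub_mem _ hχmem hρmem) (by simp [hρ1])
  set D := τ (χ - ρ) with hDdef
  have hDgen : Cfsg.IsGeneralizedCharacter G D := hτ.2.2.2 _ hmemD
  have hne : ∀ φ ∈ S₀, φ ≠ χ := fun φ hφ e => hχS (e ▸ hφ)
  have ho : ∀ φ ∈ S₀, Cfsg.classInner χ φ = 0 := fun φ hφ =>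
    classInner_irr_ne hχ (hirr φ hφ) (hne φ hφ).symm
  -- values of the extension at one
  have hprop : ∀ φ ∈ S₀, σ φ 1 * d ψ = σ ψ 1 * d φ := by
    intro φ hφ
    have hm : (d ψ : ℤ) • φ - (d φ : ℤ) • ψ ∈ Cfsg.zspanOn (↑S₀ : Set (N → ℂ)) {1}ᶜ :=
      mem_zspanOn_one (Submodule.sub_mem _ (Submodule.smul_mem _ _ (hσm φ hφ))
        (Submodule.smul_mem _ _ (hσm ψ hψ)))
        (by simp [hd φ (Finset.mem_insert_of_mem hφ), hd ψ (Finset.mem_insert_of_mem hψ)]; ring)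
    have h := hτ1 _ (zspanOn_mono hsub _ hm)
    rw [← hag _ hm, sub_eq_add_neg, ← neg_smul, hσ.1 _ (Submodule.smul_mem _ _ (hσm φ hφ)) _
      (Submodule.smul_mem _ _ (hσm ψ hψ)), hσ.2.1 _ (hσm φ hφ), hσ.2.1 _ (hσm ψ hψ)] at h
    simp only [Pi.add_apply, zsmul_eq_mul, Int.cast_neg, Int.cast_natCast, Pi.mul_apply, Pi.neg_apply,
      Pi.natCast_apply] at h
    linear_combination h
  obtain ⟨z, hz⟩ := classInner_gen_int hDgen (hσ.2.2.2 ψ (hσm ψ hψ))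
  set e : ℤ := z + (a : ℤ) with he
  have hcoef : ∀ φ ∈ S₀, Cfsg.classInner D (σ φ) =
      ((e : ℂ) * d φ - (if φ = ψ then (a : ℂ) * d ψ else 0)) / d ψ := by
    intro φ hφ
    have hm : (d ψ : ℤ) • φ - (d φ : ℤ) • ψ ∈ Cfsg.zspanOn (↑S₀ : Set (N → ℂ)) {1}ᶜ :=
      mem_zspanOn_one (Submodule.sub_mem _ (Submodule.smul_mem _ _ (hσm φ hφ))
        (Submodule.smul_mem _ _ (hσm ψ hψ)))
        (by simp [hd φ (Finset.mem_insert_of_mem hφ), hd ψ (Finset.mem_insert_of_mem hψ)]; ring)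
    have h := hτ.2.2.1 _ hmemD _ (zspanOn_mono hsub _ hm)
    have hσlin : σ ((d ψ : ℤ) • φ - (d φ : ℤ) • ψ) =
        (d ψ : ℂ) • σ φ - (d φ : ℂ) • σ ψ := by
      rw [sub_eq_add_neg, ← neg_smul, hσ.1 _ (Submodule.smul_mem _ _ (hσm φ hφ)) _
        (Submodule.smul_mem _ _ (hσm ψ hψ)), hσ.2.1 _ (hσm φ hφ), hσ.2.1 _ (hσm ψ hψ),
        ← Int.cast_smul_eq_zsmul ℂ, ← Int.cast_smul_eq_zsmul ℂ, Int.cast_neg, Int.cast_natCast,
        Int.cast_natCast, neg_smul, ← sub_eq_add_neg]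
    rw [← hag _ hm, hσlin, ← Int.cast_smul_eq_zsmul ℂ, ← Int.cast_smul_eq_zsmul ℂ, Int.cast_natCast,
      Int.cast_natCast, classInner_sub_right, classInner_sub_right, classInner_smul_right,
      classInner_smul_right, classInner_smul_right, classInner_smul_right, map_natCast, map_natCast,
      ← hDdef, hz, classInner_sub_left, classInner_sub_left, ho φ hφ, ho ψ hψ, hρ',
      classInner_smul_left, classInner_smul_left, hδ ψ hψ ψ hψ, hδ ψ hψ φ hφ, if_pos rfl] at h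
    rw [eq_div_iff hdψ, he]
    push_cast
    by_cases hh : φ = ψ
    · subst hh
      rw [if_pos rfl] at h ⊢
      rw [hz]
      ring
    · rw [if_neg (Ne.symm hh)] at h
      rw [if_neg hh]
      linear_combination h
  set P : G → ℂ := ∑ φ ∈ S₀, Cfsg.classInner D (σ φ) • σ φ with hP
  set X := D - P with hX
  have hPσ : ∀ φ ∈ S₀, Cfsg.classInner P (σ φ) = Cfsg.classInner D (σ φ) := by
    intro φ hφ
    rw [hP, classInner_sum_left, Finset.sum_eq_single φ]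
    · rw [classInner_smul_left, hσσ φ hφ φ hφ, if_pos rfl, mul_one]
    · intro φ' hφ' h
      rw [classInner_smul_left, hσσ φ' hφ' φ hφ, if_neg h, mul_zero]
    · exact fun h => absurd hφ h
  have hXσ : ∀ φ ∈ S₀, Cfsg.classInner X (σ φ) = 0 := fun φ hφ => by
    rw [hX, classInner_sub_left, hPσ φ hφ, sub_self]
  have hXgen : Cfsg.IsGeneralizedCharacter G X := isGen_sub hDgen (isGen_sum _ fun φ hφ => by
    obtain ⟨k, hk⟩ := classInner_gen_int hDgen (hσ.2.2.2 φ (hσm φ hφ))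
    rw [hk]; exact isGen_intCast_smul (hσ.2.2.2 φ (hσm φ hφ)) k)
  have hXP : Cfsg.classInner X P = 0 := by
    rw [hP, classInner_sum_right]
    exact Finset.sum_eq_zero fun φ hφ => by rw [classInner_smul_right, hXσ φ hφ, mul_zero]
  have hPX : Cfsg.classInner P X = 0 := by rw [← classInner_conj_symm, hXP, map_zero]
  set s : ℂ := ∑ φ ∈ S₀, (d φ : ℂ) ^ 2 with hs
  have hPP : Cfsg.classInner P P = (e : ℂ) ^ 2 / (d ψ : ℂ) ^ 2 * s - 2 * a * e + (a : ℂ) ^ 2 := by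
    conv_lhs => arg 2; rw [hP]
    rw [classInner_sum_right, Finset.sum_congr rfl (g := fun φ => (e : ℂ) ^ 2 / (d ψ : ℂ) ^ 2 *
      (d φ : ℂ) ^ 2 + (if φ = ψ then -2 * a * e + (a : ℂ) ^ 2 else 0)) fun φ hφ => by
      rw [classInner_smul_right, hPσ φ hφ, hcoef φ hφ]
      split_ifs with hh
      · subst hh; simp [map_ofNat]; field_simp; ring
      · simp; field_simp, Finset.sum_add_distrib, ← Finset.mul_sum, Finset.sum_ite_eq', if_pos hψ, hs]
    ring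
  have hDD : Cfsg.classInner D D = 1 + (a : ℂ) ^ 2 := by
    have hψχ : Cfsg.classInner ψ χ = 0 := by rw [← classInner_conj_symm, ho ψ hψ, map_zero]
    rw [hDdef, hτ.2.2.1 _ hmemD _ hmemD, hρ']
    simp only [classInner_sub_left, classInner_sub_right, classInner_smul_left, classInner_smul_right,
      map_natCast, classInner_irr_self hχ, ho ψ hψ, hψχ, hδ ψ hψ ψ hψ, if_true]
    ring
  have hXX : Cfsg.classInner X X = 1 + 2 * a * e - (e : ℂ) ^ 2 / (d ψ : ℂ) ^ 2 * s := by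
    have : Cfsg.classInner D D = Cfsg.classInner X X + Cfsg.classInner P P := by
      conv_lhs => rw [show D = X + P by rw [hX, sub_add_cancel]]
      rw [classInner_add_left, classInner_add_right, classInner_add_right, hXP, hPX]
      ring
    rw [hDD, hPP] at this
    linear_combination -this
  obtain ⟨x, hx⟩ := classInner_gen_int hXgen hXgen
  have hsum : (2 * (a : ℝ) * (d ψ : ℝ) ^ 2) < ∑ φ ∈ S₀, (d φ : ℝ) ^ 2 := by
    have : (2 * d ψ * d χ : ℝ) < ((∑ ξ ∈ S₀, d ξ ^ 2 : ℕ) : ℝ) := by exact_mod_cast hlt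
    rw [ha] at this
    push_cast at this
    linarith
  set Sr : ℝ := ∑ φ ∈ S₀, (d φ : ℝ) ^ 2 with hSr
  have hsreal : s = ((Sr : ℝ) : ℂ) := by rw [hs, hSr]; push_cast; rfl
  have hd1pos : (0 : ℝ) < d ψ := by
    have : d ψ ≠ 0 := fun h => hdψ (by rw [h, Nat.cast_zero])
    exact_mod_cast Nat.pos_of_ne_zero this
  have he0 : e = 0 := by
    by_contra hne0
    have hxr : (x : ℝ) = 1 + 2 * a * e - (e : ℝ) ^ 2 / (d ψ : ℝ) ^ 2 * Sr := by
      rw [hx, hsreal] at hXX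
      exact_mod_cast hXX
    have hx0 : (0 : ℝ) ≤ x := by
      have := nsq_nonneg X
      rw [nsq, hx, Complex.intCast_re] at this
      exact this
    have hx1 : (x : ℝ) < 1 := by
      have hkey : 2 * (a : ℝ) * e * (d ψ : ℝ) ^ 2 < (e : ℝ) ^ 2 * Sr := by
        have ha0 : (0 : ℝ) ≤ a := Nat.cast_nonneg a
        have hd2 : (0 : ℝ) ≤ 2 * a * (d ψ : ℝ) ^ 2 := by positivity
        rcases lt_or_gt_of_ne hne0 with hneg | hpos
        · have hneg' : (e : ℝ) < 0 := by exact_mod_cast hneg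
          nlinarith [mul_pos (mul_pos_of_neg_of_neg hneg' hneg') (lt_of_le_of_lt hd2 hsum)]
        · have hpos' : (1 : ℝ) ≤ e := by exact_mod_cast hpos
          nlinarith [mul_lt_mul_of_pos_left hsum (show (0 : ℝ) < e by linarith),
            mul_le_mul_of_nonneg_left hpos' (show (0 : ℝ) ≤ e * Sr by
              exact mul_nonneg (by linarith) (le_of_lt (lt_of_le_of_lt hd2 hsum)))]
      rw [hxr, div_mul_eq_mul_div]
      have : 2 * (a : ℝ) * e < (e : ℝ) ^ 2 * Sr / (d ψ : ℝ) ^ 2 := by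
        rw [lt_div_iff₀ (by positivity)]; exact hkey
      linarith
    have hx00 : x = 0 := by
      have : (0 : ℤ) ≤ x := by exact_mod_cast hx0
      have : x < (1 : ℤ) := by exact_mod_cast hx1
      omega
    have hX0 : X = 0 := eq_zero_of_classInner_self_eq_zero (by rw [hx, hx00, Int.cast_zero])
    have h1 : D 1 = P 1 := by rw [show D = P from sub_eq_zero.mp hX0]
    rw [hDdef, hτ1 _ hmemD, hP, Finset.sum_apply, Finset.sum_congr rfl (g := fun φ =>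
      σ ψ 1 / (d ψ : ℂ) ^ 2 * ((e : ℂ) * (d φ : ℂ) ^ 2 - (if φ = ψ then (a : ℂ) * d ψ ^ 2 else 0)))
      fun φ hφ => by
        rw [Pi.smul_apply, smul_eq_mul, hcoef φ hφ,
          show σ φ 1 = σ ψ 1 * d φ / d ψ from (eq_div_iff hdψ).mpr (hprop φ hφ)]
        split_ifs with hh
        · subst hh; field_simp
        · field_simp; ring,
      ← Finset.mul_sum, Finset.sum_sub_distrib, ← Finset.mul_sum, Finset.sum_ite_eq', if_pos hψ,
      ← hs, hsreal] at h1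
    have h2 := (mul_eq_zero.mp h1.symm).resolve_left (div_ne_zero hσ1 (pow_ne_zero 2 hdψ))
    have h3 : (e : ℝ) * Sr = (a : ℝ) * (d ψ : ℝ) ^ 2 := by
      rw [sub_eq_zero] at h2
      exact_mod_cast h2
    have ha0 : (0 : ℝ) ≤ (a : ℝ) * (d ψ : ℝ) ^ 2 := by positivity
    have hS0 : 0 < Sr := by linarith
    have e1 : (0 : ℝ) ≤ e := by nlinarith
    have e2 : (e : ℝ) < 1 := by nlinarith
    have e1' : (0 : ℤ) ≤ e := by exact_mod_cast e1
    have e2' : e < 1 := by exact_mod_cast e2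
    omega
  rw [he0] at hXX
  have hX1 : Cfsg.classInner X X = 1 := by rw [hXX]; simp
  have hPψ : P = -((a : ℂ) • σ ψ) := by
    rw [hP, Finset.sum_eq_single ψ]
    · rw [hcoef ψ hψ, if_pos rfl, he0, Int.cast_zero, zero_mul, zero_sub, neg_div,
        mul_div_cancel_right₀ _ hdψ, neg_smul]
    · intro φ hφ hh
      rw [hcoef φ hφ, if_neg hh, he0, Int.cast_zero, zero_mul, sub_zero, zero_div, zero_smul]
    · exact fun h => absurd hψ h
  set T : (N → ℂ) → (G → ℂ) := fun φ => if φ = χ then X else σ φ with hT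
  have hTσ : ∀ φ ∈ S₀, T φ = σ φ := fun φ hφ => if_neg (hne φ hφ)
  have hTχ : T χ = X := if_pos rfl
  obtain ⟨f, hf, hiso⟩ := exists_isometry (S := (↑(insert χ S₀) : Set (N → ℂ))) (Finset.finite_toSet _)
    (fun φ hφ φ' hφ' h => classInner_irr_ne (hirr' φ hφ) (hirr' φ' hφ') h)
    (fun φ hφ => irr_ne_zero (hirr' φ hφ)) T
    (fun φ hφ => by
      rcases Finset.mem_insert.mp hφ with rfl | h
      · rw [hTχ]; exact hXgen
      · rw [hTσ φ h]; exact hσ.2.2.2 φ (hσm φ h))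
    (fun φ hφ φ' hφ' => by
      rcases Finset.mem_insert.mp hφ with rfl | h <;> rcases Finset.mem_insert.mp hφ' with rfl | h'
      · rw [hTχ, hX1, classInner_irr_self hχ]
      · rw [hTχ, hTσ φ' h', hXσ φ' h', ho φ' h']
      · rw [hTχ, hTσ φ h, ← classInner_conj_symm, hXσ φ h, map_zero, ← classInner_conj_symm, ho φ h,
          map_zero]
      · rw [hTσ φ h, hTσ φ' h', hσ.2.2.1 φ (hσm φ h) φ' (hσm φ' h')])
  refine ⟨⟨α₀, zspanOn_mono hsub _ hα₀, hα₀ne⟩, f, hiso, fun y hy => ?_⟩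
  have hfσ : ∀ b ∈ Cfsg.zspan (↑S₀ : Set (N → ℂ)), f b = σ b :=
    eqOn_span f hσ.1 hσ.2.1 fun φ hφ => (hf φ (hsub hφ)).trans (hTσ φ hφ)
  have key : ∀ y ∈ Cfsg.zspan (↑(insert χ S₀) : Set (N → ℂ)),
      ∃ b ∈ Cfsg.zspan (↑S₀ : Set (N → ℂ)), ∃ u : ℤ, y = b + u • (χ - ρ) := by
    intro y hy
    induction hy using Submodule.span_induction with
    | mem φ hφ =>
      rcases Finset.mem_insert.mp hφ with rfl | h
      · exact ⟨ρ, Submodule.smul_mem _ _ (hσm ψ hψ), 1, by simp⟩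
      · exact ⟨φ, hσm φ h, 0, by simp⟩
    | zero => exact ⟨0, Submodule.zero_mem _, 0, by simp⟩
    | add x y _ _ hx hy =>
      obtain ⟨b, hb, u, rfl⟩ := hx
      obtain ⟨b', hb', u', rfl⟩ := hy
      exact ⟨b + b', Submodule.add_mem _ hb hb', u + u', by rw [add_smul]; abel⟩
    | smul k x _ hx =>
      obtain ⟨b, hb, u, rfl⟩ := hx
      exact ⟨k • b, Submodule.smul_mem _ k hb, k * u, by rw [smul_add, mul_smul]⟩
  obtain ⟨b, hb, u, rfl⟩ := key y hy.1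
  have hb1 : b 1 = 0 := by
    have := apply_one_of_mem hy
    simpa [hρ1] using this
  have hbS := zspanOn_mono hsub _ (mem_zspanOn_one hb hb1)
  have hu : u • (χ - ρ) ∈ Cfsg.zspanOn (↑(insert χ S₀) : Set (N → ℂ)) {1}ᶜ :=
    mem_zspanOn_one (Submodule.smul_mem _ u hmemD.1) (by simp [hρ1])
  have e1 : f (χ - ρ) = D := by
    rw [map_sub, hf χ (Finset.mem_insert_self _ _), hTχ, hρdef, map_zsmul, hf ψ (hsub hψ), hTσ ψ hψ,
      ← Int.cast_smul_eq_zsmul ℂ, Int.cast_natCast, hX, hPψ]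
    abel
  rw [map_add, map_zsmul, hfσ b hb, hag b (mem_zspanOn_one hb hb1), e1, hτ.1 _ hbS _ hu,
    hτ.2.1 _ hmemD]

end Cfsg.Agent.S1530
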