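import Cfsg.Statements.S1531
import Cfsg.Agent.Lib.OddChar.Coherence
import Cfsg.Agent.S1529

set_option autoImplicit false
open Cfsg

namespace Cfsg.Agent.S1531

/-- Let N be a subgroup of the finite group G, S a set of irreducible characters of N, and α a linear isometry on the integer combinations of S vanishing at 1 with values virtual characters of G vanishing at 1. Let X, Y ⊆ S be disjoint, each with at least two members, and σ, τ linear isometries on ℤ[X], ℤ[Y] into virtual characters agreeing with α on the members vanishing at 1. Then ⟨σ χ, τ η⟩ = 0 for χ ∈ X, η ∈ Y; and if for some χ₀ ∈ X, η₀ ∈ Y with degrees c = χ₀ 1, e = η₀ 1 one has α (c • η₀ − e • χ₀) = c • τ η₀ − e • σ χ₀, then (X ∪ Y, N minus 1, α) is coherent. -/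
theorem result {G : Type*} [Group G] [Fintype G] (N : Subgroup G) [Fintype N] (S X Y : Set (N → ℂ)) (hirr : ∀ ξ ∈ S, Cfsg.IsIrrCharacter N ξ) (hXS : X ⊆ S) (hYS : Y ⊆ S) (hXY : Disjoint X Y) (hX2 : ∃ a ∈ X, ∃ b ∈ X, a ≠ b) (hY2 : ∃ a ∈ Y, ∃ b ∈ Y, a ≠ b) (α : (N → ℂ) → (G → ℂ)) (hα : Cfsg.IsLinearIsometryOn (Cfsg.zspanOn S {1}ᶜ) α) (hα1 : ∀ θ ∈ Cfsg.zspanOn S {1}ᶜ, α θ 1 = 0) (σ τ : (N → ℂ) → (G → ℂ)) (hσ : Cfsg.IsLinearIsometryOn (Cfsg.zspan X) σ) (hσα : ∀ θ ∈ Cfsg.zspanOn X {1}ᶜ, σ θ = α θ) (hτ : Cfsg.IsLinearIsometryOn (Cfsg.zspan Y) τ) (hτα : ∀ θ ∈ Cfsg.zspanOn Y {1}ᶜ, τ θ = α θ) : (∀ χ ∈ X, ∀ η ∈ Y, Cfsg.classInner (σ χ) (τ η) = 0) ∧ ((∃ χ₀ ∈ X, ∃ η₀ ∈ Y, α (χ₀ 1 • η₀ - η₀ 1 • χ₀) = χ₀ 1 • τ η₀ - η₀ 1 • σ χ₀) → Cfsg.IsCoherent (X ∪ Y) {1}ᶜ α) := by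
  open CfsgLib.Char CfsgLib.OddChar.Coh in
  classical
  have hXz : Cfsg.zspanOn X {1}ᶜ ⊆ Cfsg.zspanOn S {1}ᶜ := zspanOn_mono hXS _
  have hYz : Cfsg.zspanOn Y {1}ᶜ ⊆ Cfsg.zspanOn S {1}ᶜ := zspanOn_mono hYS _
  have hσ0 : ∀ θ ∈ Cfsg.zspan X, θ 1 = 0 → σ θ 1 = 0 := fun θ hθ h1 => by
    rw [hσα θ (mem_zspanOn_one hθ h1)]; exact hα1 θ (hXz (mem_zspanOn_one hθ h1))
  have hτ0 : ∀ θ ∈ Cfsg.zspan Y, θ 1 = 0 → τ θ 1 = 0 := fun θ hθ h1 => by
    rw [hτα θ (mem_zspanOn_one hθ h1)]; exact hα1 θ (hYz (mem_zspanOn_one hθ h1))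
  obtain ⟨ε, hε, hεirr, hεinj⟩ :=
    Cfsg.Agent.S1529.result N X (fun ξ h => hirr ξ (hXS h)) hX2 σ hσ hσ0
  obtain ⟨ζ, hζ, hζirr, hζinj⟩ :=
    Cfsg.Agent.S1529.result N Y (fun ξ h => hirr ξ (hYS h)) hY2 τ hτ hτ0
  have hee : starRingEnd ℂ ζ = ζ := by rcases hζ with rfl | rfl <;> simp
  have hne : ε * ζ ≠ 0 := by rcases hε with rfl | rfl <;> rcases hζ with rfl | rfl <;> norm_num
  have horth : ∀ χ ∈ X, ∀ η ∈ Y, Cfsg.classInner (σ χ) (τ η) = 0 := by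
    intro χ hχ η hη
    obtain ⟨χ', hχ', hne1⟩ : ∃ χ' ∈ X, χ' ≠ χ := by
      obtain ⟨a, ha, b, hb, hab⟩ := hX2
      by_cases h : a = χ
      exacts [⟨b, hb, h ▸ Ne.symm hab⟩, ⟨a, ha, h⟩]
    obtain ⟨η', hη', hne2⟩ : ∃ η' ∈ Y, η' ≠ η := by
      obtain ⟨a, ha, b, hb, hab⟩ := hY2
      by_cases h : a = η
      exacts [⟨b, hb, h ▸ Ne.symm hab⟩, ⟨a, ha, h⟩]
    obtain ⟨d, hd0, hd⟩ := exists_degree_pos (hirr χ (hXS hχ))
    obtain ⟨d', hd0', hd'⟩ := exists_degree_pos (hirr χ' (hXS hχ'))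
    obtain ⟨e, he0, he⟩ := exists_degree_pos (hirr η (hYS hη))
    obtain ⟨e', he0', he'⟩ := exists_degree_pos (hirr η' (hYS hη'))
    set u := (d' : ℤ) • χ + (-(d : ℤ)) • χ' with hu
    set v := (e' : ℤ) • η + (-(e : ℤ)) • η' with hv
    have h1 : (d' : ℤ) • χ ∈ Cfsg.zspan X := Submodule.smul_mem _ _ (mem_zspan hχ)
    have h2 : (-(d : ℤ)) • χ' ∈ Cfsg.zspan X := Submodule.smul_mem _ _ (mem_zspan hχ')
    have h3 : (e' : ℤ) • η ∈ Cfsg.zspan Y := Submodule.smul_mem _ _ (mem_zspan hη)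
    have h4 : (-(e : ℤ)) • η' ∈ Cfsg.zspan Y := Submodule.smul_mem _ _ (mem_zspan hη')
    have hum : u ∈ Cfsg.zspanOn X {1}ᶜ :=
      mem_zspanOn_one (Submodule.add_mem _ h1 h2) (by simp [hu, hd, hd']; ring)
    have hvm : v ∈ Cfsg.zspanOn Y {1}ᶜ :=
      mem_zspanOn_one (Submodule.add_mem _ h3 h4) (by simp [hv, he, he']; ring)
    have h := hα.2.2.1 u (hXz hum) v (hYz hvm)
    rw [← hσα u hum, ← hτα v hvm, hu, hv, hσ.1 _ h1 _ h2, hτ.1 _ h3 _ h4,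
      hσ.2.1 _ (mem_zspan hχ), hσ.2.1 _ (mem_zspan hχ'), hτ.2.1 _ (mem_zspan hη),
      hτ.2.1 _ (mem_zspan hη')] at h
    simp only [← Int.cast_smul_eq_zsmul ℂ, classInner_add_left, classInner_add_right,
      classInner_smul_left, classInner_smul_right, map_intCast, Int.cast_natCast, Int.cast_neg,
      map_natCast, map_neg] at h
    have hz : ∀ a ∈ X, ∀ b ∈ Y, Cfsg.classInner a b = 0 := fun a ha b hb =>
      classInner_irr_ne (hirr a (hXS ha)) (hirr b (hYS hb)) fun e => Set.disjoint_left.mp hXY ha (e ▸ hb)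
    rw [hz χ hχ η hη, hz χ hχ η' hη', hz χ' hχ' η hη, hz χ' hχ' η' hη'] at h
    by_contra hc
    -- the signed values are irreducible
    have key : ∀ a ∈ X, ∀ b ∈ Y, Cfsg.classInner (σ a) (τ b) * (ε * ζ) =
        if ε • σ a = ζ • τ b then 1 else 0 := by
      intro a ha b hb
      have : Cfsg.classInner (ε • σ a) (ζ • τ b) = if ε • σ a = ζ • τ b then 1 else 0 := by
        split_ifs with hh
        · rw [← hh, classInner_irr_self (hεirr a ha)]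
        · exact classInner_irr_ne (hεirr a ha) (hζirr b hb) hh
      rw [← this, classInner_smul_left, classInner_smul_right, hee]
      ring
    have hxy : ε • σ χ = ζ • τ η := by
      by_contra hh
      have := key χ hχ η hη
      rw [if_neg hh] at this
      exact hc ((mul_eq_zero.mp this).resolve_right hne)
    have hzero : Cfsg.classInner (σ χ) (τ η') = 0 ∧ Cfsg.classInner (σ χ') (τ η) = 0 := by
      refine ⟨(mul_eq_zero.mp ((key χ hχ η' hη').trans (if_neg fun hh => hne2 ?_))).resolve_right hne,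
        (mul_eq_zero.mp ((key χ' hχ' η hη).trans (if_neg fun hh => hne1 ?_))).resolve_right hne⟩
      · exact hζinj η' hη' η hη (smul_right_injective _ (right_ne_zero_of_mul hne) (hh.symm.trans hxy))
      · exact hεinj χ' hχ' χ hχ (smul_right_injective _ (left_ne_zero_of_mul hne) (hh.trans hxy.symm))
    have e1 := key χ hχ η hη
    have e2 := key χ' hχ' η' hη'
    rw [if_pos hxy] at e1
    rw [hzero.1, hzero.2] at h
    have hfin : (d' : ℂ) * e' + d * e * (if ε • σ χ' = ζ • τ η' then 1 else 0) = 0 := by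
      linear_combination (ε * ζ) * h - ((d' : ℂ) * e') * e1 - ((d : ℂ) * e) * e2
    split_ifs at hfin
    · have : d' * e' + d * e = 0 := by exact_mod_cast (by linear_combination hfin :
        ((d' : ℂ) * e' + d * e = 0))
      have := Nat.mul_pos hd0' he0'
      omega
    · have : d' * e' = 0 := by exact_mod_cast (by linear_combination hfin : ((d' : ℂ) * e' = 0))
      have := Nat.mul_pos hd0' he0'
      omega
  refine ⟨horth, ?_⟩
  rintro ⟨χ₀, hχ₀, η₀, hη₀, hglue⟩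
  obtain ⟨a₁, ha₁, a₂, ha₂, ha₁₂⟩ := hX2
  set U := X ∪ Y
  have hUS : U ⊆ S := Set.union_subset hXS hYS
  set T : (N → ℂ) → (G → ℂ) := fun φ => if φ ∈ X then σ φ else τ φ with hT
  have hTX : ∀ φ ∈ X, T φ = σ φ := fun φ h => if_pos h
  have hTY : ∀ φ ∈ Y, T φ = τ φ := fun φ h => if_neg (Set.disjoint_right.mp hXY h)
  have hdisj : ∀ a ∈ X, ∀ b ∈ Y, Cfsg.classInner a b = 0 := fun a ha b hb =>
    classInner_irr_ne (hirr a (hXS ha)) (hirr b (hYS hb)) fun e => Set.disjoint_left.mp hXY ha (e ▸ hb)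
  obtain ⟨f, hf, hiso⟩ := exists_isometry (S := U)
    (finite_of_orthogonal (fun φ hφ φ' hφ' h => classInner_irr_ne (hirr φ (hUS hφ)) (hirr φ' (hUS hφ')) h)
      fun φ hφ => irr_ne_zero (hirr φ (hUS hφ)))
    (fun φ hφ φ' hφ' h => classInner_irr_ne (hirr φ (hUS hφ)) (hirr φ' (hUS hφ')) h)
    (fun φ hφ => irr_ne_zero (hirr φ (hUS hφ))) T
    (fun φ hφ => by
      rcases hφ with h | h
      · rw [hTX φ h]; exact hσ.2.2.2 φ (mem_zspan h)
      · rw [hTY φ h]; exact hτ.2.2.2 φ (mem_zspan h))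
    (fun φ hφ φ' hφ' => by
      rcases hφ with h | h <;> rcases hφ' with h' | h'
      · rw [hTX φ h, hTX φ' h', hσ.2.2.1 φ (mem_zspan h) φ' (mem_zspan h')]
      · rw [hTX φ h, hTY φ' h', horth φ h φ' h', hdisj φ h φ' h']
      · rw [hTY φ h, hTX φ' h', ← classInner_conj_symm, horth φ' h' φ h, map_zero,
          ← classInner_conj_symm, hdisj φ' h' φ h, map_zero]
      · rw [hTY φ h, hTY φ' h', hτ.2.2.1 φ (mem_zspan h) φ' (mem_zspan h')])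
  obtain ⟨D₀, hD₀0, hD₀⟩ := exists_degree_pos (hirr χ₀ (hXS hχ₀))
  obtain ⟨E₀, hE₀0, hE₀⟩ := exists_degree_pos (hirr η₀ (hYS hη₀))
  refine ⟨?_, f, hiso, fun x hx => ?_⟩
  · obtain ⟨m₁, hm₁0, hm₁⟩ := exists_degree_pos (hirr a₁ (hXS ha₁))
    obtain ⟨m₂, hm₂0, hm₂⟩ := exists_degree_pos (hirr a₂ (hXS ha₂))
    refine ⟨(m₂ : ℤ) • a₁ + (-(m₁ : ℤ)) • a₂, mem_zspanOn_one (Submodule.add_mem _
      (Submodule.smul_mem _ _ (mem_zspan (Or.inl ha₁))) (Submodule.smul_mem _ _ (mem_zspan (Or.inl ha₂))))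
      (by simp [hm₁, hm₂]; ring), fun h => ?_⟩
    have h2 := congrArg (fun f => Cfsg.classInner f a₁) h
    simp only [classInner_add_left, ← Int.cast_smul_eq_zsmul ℂ, classInner_smul_left,
      classInner_zero_left, classInner_irr_self (hirr a₁ (hXS ha₁)),
      classInner_irr_ne (hirr a₂ (hXS ha₂)) (hirr a₁ (hXS ha₁)) (Ne.symm ha₁₂)] at h2
    simp at h2
    omega
  have hsplit : ∀ y ∈ Cfsg.zspan U, ∃ b ∈ Cfsg.zspan X, ∃ c ∈ Cfsg.zspan Y, y = b + c := by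
    intro y hy
    induction hy using Submodule.span_induction with
    | mem φ hφ =>
      rcases hφ with h | h
      · exact ⟨φ, mem_zspan h, 0, Submodule.zero_mem _, (add_zero φ).symm⟩
      · exact ⟨0, Submodule.zero_mem _, φ, mem_zspan h, (zero_add φ).symm⟩
    | zero => exact ⟨0, Submodule.zero_mem _, 0, Submodule.zero_mem _, (add_zero _).symm⟩
    | add p q _ _ hp hq =>
      obtain ⟨b, hb, c, hc, rfl⟩ := hp
      obtain ⟨b', hb', c', hc', rfl⟩ := hq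
      exact ⟨b + b', Submodule.add_mem _ hb hb', c + c', Submodule.add_mem _ hc hc', by abel⟩
    | smul k p _ hp =>
      obtain ⟨b, hb, c, hc, rfl⟩ := hp
      exact ⟨k • b, Submodule.smul_mem _ k hb, k • c, Submodule.smul_mem _ k hc, smul_add k b c⟩
  obtain ⟨b, hb, c, hc, rfl⟩ := hsplit x hx.1
  obtain ⟨m, hm⟩ : ∃ m : ℤ, b 1 = m := by
    clear hx
    induction hb using Submodule.span_induction with
    | mem φ hφ =>
      obtain ⟨k, -, hk⟩ := exists_degree_pos (hirr φ (hXS hφ))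
      exact ⟨k, by rw [hk]; simp⟩
    | zero => exact ⟨0, by simp⟩
    | add p q _ _ hp hq =>
      obtain ⟨i, hi⟩ := hp
      obtain ⟨j, hj⟩ := hq
      exact ⟨i + j, by simp [hi, hj]⟩
    | smul k p _ hp =>
      obtain ⟨i, hi⟩ := hp
      exact ⟨k * i, by simp [hi]⟩
  have hc1 : c 1 = -(m : ℂ) := by
    have := apply_one_of_mem hx
    rw [Pi.add_apply, hm] at this
    linear_combination this
  set p := (D₀ : ℤ) • b + (-m) • χ₀ with hp
  set q := (E₀ : ℤ) • c + m • η₀ with hq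
  set g := (D₀ : ℤ) • η₀ + (-(E₀ : ℤ)) • χ₀ with hg
  have hbD : (D₀ : ℤ) • b ∈ Cfsg.zspan X := Submodule.smul_mem _ _ hb
  have hcE : (E₀ : ℤ) • c ∈ Cfsg.zspan Y := Submodule.smul_mem _ _ hc
  have hmχ : (-m) • χ₀ ∈ Cfsg.zspan X := Submodule.smul_mem _ _ (mem_zspan hχ₀)
  have hmη : m • η₀ ∈ Cfsg.zspan Y := Submodule.smul_mem _ _ (mem_zspan hη₀)
  have hpX : p ∈ Cfsg.zspanOn X {1}ᶜ :=
    mem_zspanOn_one (Submodule.add_mem _ hbD hmχ) (by simp [hp, hm, hD₀]; ring)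
  have hqY : q ∈ Cfsg.zspanOn Y {1}ᶜ :=
    mem_zspanOn_one (Submodule.add_mem _ hcE hmη) (by simp [hq, hc1, hE₀]; ring)
  have hgS : g ∈ Cfsg.zspanOn S {1}ᶜ :=
    mem_zspanOn_one (Submodule.add_mem _ (Submodule.smul_mem _ _ (mem_zspan (hYS hη₀)))
      (Submodule.smul_mem _ _ (mem_zspan (hXS hχ₀)))) (by simp [hg, hD₀, hE₀]; ring)
  have hαg : α g = (D₀ : ℤ) • τ η₀ + (-(E₀ : ℤ)) • σ χ₀ := by
    have e1 : g = χ₀ 1 • η₀ - η₀ 1 • χ₀ := by
      simp only [hg, hD₀, hE₀, ← Int.cast_smul_eq_zsmul ℂ, Int.cast_neg, Int.cast_natCast,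
        neg_smul, sub_eq_add_neg]
    rw [e1, hglue, hD₀, hE₀]
    simp only [← Int.cast_smul_eq_zsmul ℂ, Int.cast_neg, Int.cast_natCast, neg_smul, sub_eq_add_neg]
  have hsum : ((D₀ : ℤ) * E₀) • (b + c) = (E₀ : ℤ) • p + ((D₀ : ℤ) • q + (-m) • g) := by
    simp only [hp, hq, hg]; module
  have hxS : b + c ∈ Cfsg.zspanOn S {1}ᶜ := zspanOn_mono hUS _ hx
  have h1 : (E₀ : ℤ) • p ∈ Cfsg.zspanOn S {1}ᶜ :=
    mem_zspanOn_one (Submodule.smul_mem _ _ (hXz hpX).1) (by simp [apply_one_of_mem hpX])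
  have h2 : (D₀ : ℤ) • q ∈ Cfsg.zspanOn S {1}ᶜ :=
    mem_zspanOn_one (Submodule.smul_mem _ _ (hYz hqY).1) (by simp [apply_one_of_mem hqY])
  have h3 : (-m) • g ∈ Cfsg.zspanOn S {1}ᶜ :=
    mem_zspanOn_one (Submodule.smul_mem _ _ hgS.1) (by simp [apply_one_of_mem hgS])
  have h23 : (D₀ : ℤ) • q + (-m) • g ∈ Cfsg.zspanOn S {1}ᶜ :=
    mem_zspanOn_one (Submodule.add_mem _ h2.1 h3.1)
      (by rw [Pi.add_apply, apply_one_of_mem h2, apply_one_of_mem h3, add_zero])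
  have hfX : ∀ y ∈ Cfsg.zspan X, f y = σ y :=
    eqOn_span f hσ.1 hσ.2.1 fun φ h => (hf φ (Or.inl h)).trans (hTX φ h)
  have hfY : ∀ y ∈ Cfsg.zspan Y, f y = τ y :=
    eqOn_span f hτ.1 hτ.2.1 fun φ h => (hf φ (Or.inr h)).trans (hTY φ h)
  have key : α (((D₀ : ℤ) * E₀) • (b + c)) = ((D₀ : ℤ) * E₀) • (σ b + τ c) := by
    rw [hsum, hα.1 _ h1 _ h23, hα.1 _ h2 _ h3, hα.2.1 _ (hXz hpX), hα.2.1 _ (hYz hqY),
      hα.2.1 _ hgS, ← hσα p hpX, ← hτα q hqY, hp, hq, hσ.1 _ hbD _ hmχ, hτ.1 _ hcE _ hmη,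
      hσ.2.1 _ hb, hσ.2.1 _ (mem_zspan hχ₀), hτ.2.1 _ hc, hτ.2.1 _ (mem_zspan hη₀), hαg]
    module
  rw [hα.2.1 _ hxS] at key
  rw [map_add, hfX b hb, hfY c hc]
  funext y
  have := congrFun key y
  simp only [Pi.smul_apply, zsmul_eq_mul] at this ⊢
  refine (mul_left_cancel₀ ?_ this).symm
  have : (D₀ : ℤ) * E₀ ≠ 0 := by positivity
  exact_mod_cast this

end Cfsg.Agent.S1531
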