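import Cfsg.Statements.S1532
import Cfsg.Agent.Lib.OddChar.SelfCentral

set_option autoImplicit false
open Cfsg

namespace Cfsg.Agent.S1532

/-- Let G be a finite group, p an odd prime and P a Sylow p-subgroup that is non-abelian, whose underlying set is a TI-subset of G, with P properly contained in its set normaliser N and C_G(x) ≤ P for every non-identity x ∈ P. Let Z be a nontrivial subgroup of the centre of P normalised by N. Then the set of irreducible characters χ of N with χ z ≠ χ 1 for some z ∈ Z is coherent for the map induced by induction from N to G. -/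
theorem result {G : Type*} [Group G] [Fintype G] (p : ℕ) [Fact p.Prime] (hp : p ≠ 2) (P : Sylow p G) (hna : ¬ IsMulCommutative (P : Subgroup G)) (hTI : Cfsg.IsTISubset ((P : Subgroup G) : Set G)) (hlt : (P : Subgroup G) < Subgroup.normalizer ((P : Subgroup G) : Set G)) (hC : ∀ k ∈ (P : Subgroup G), k ≠ 1 → Subgroup.centralizer ({k} : Set G) ≤ (P : Subgroup G)) [Fintype ↥(Subgroup.normalizer ((P : Subgroup G) : Set G))] (Z : Subgroup G) (hZ1 : Z ≠ ⊥) (hZP : ∀ z ∈ Z, z ∈ (P : Subgroup G) ∧ ∀ y ∈ (P : Subgroup G), z * y = y * z) (hZn : ∀ x ∈ Subgroup.normalizer ((P : Subgroup G) : Set G), ∀ z ∈ Z, x * z * x⁻¹ ∈ Z) : Cfsg.IsCoherent {χ : ↥(Subgroup.normalizer ((P : Subgroup G) : Set G)) → ℂ | Cfsg.IsIrrCharacter ↥(Subgroup.normalizer ((P : Subgroup G) : Set G)) χ ∧ ∃ z : ↥(Subgroup.normalizer ((P : Subgroup G) : Set G)), (z : G) ∈ Z ∧ χ z ≠ χ 1} {1}ᶜ (fun α => Cfsg.indFun (Subgroup.normalizer ((P : Subgroup G) : Set G)) α) := by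
  open CfsgLib.OddChar.Above in
  obtain ⟨hn, hnt, hKlt, hCL⟩ := kernel_setting (P : Subgroup G) (fun h => hna (by
    rw [h]; infer_instance)) hlt hC
  set N := Subgroup.normalizer ((P : Subgroup G) : Set G) with hN
  have e := Subgroup.subgroupOfEquivOfLe hlt.le
  have hnaK : ¬ IsMulCommutative ((P : Subgroup G).subgroupOf N) := fun h => hna ⟨⟨fun a b => by
    have := h.is_comm.comm (e.symm a) (e.symm b)
    rw [← map_mul, ← map_mul] at this
    exact e.symm.injective this⟩⟩
  have hoddP : Odd (Nat.card (P : Subgroup G)) := by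
    obtain ⟨n, hn⟩ := IsPGroup.iff_card.mp P.isPGroup'
    rw [hn]; exact (Nat.Prime.odd_of_ne_two Fact.out hp).pow
  have hodd : Odd (Nat.card N) := by
    rw [← ((P : Subgroup G).subgroupOf N).index_mul_card, Nat.card_congr e.toEquiv]
    exact (CfsgLib.OddChar.Above.index_odd_of_not_comm _ hCL hnaK).mul hoddP
  have hnil : Group.IsNilpotent ((P : Subgroup G).subgroupOf N) :=
    (P.isPGroup'.of_equiv e.symm).isNilpotent
  have hsolv : Group.IsSolvable ((P : Subgroup G).subgroupOf N) := inferInstance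
  obtain ⟨-, R, hS⟩ := CfsgLib.OddChar.Above.system_TI (P : Subgroup G) N hodd hCL hnt hsolv rfl hTI
  set K := (P : Subgroup G).subgroupOf N
  have := Subgroup.commutator_normal K K
  have : Nontrivial K := K.nontrivial_iff_ne_bot.mpr hnt
  have hH₁K : ⁅K, K⁆ < K := by
    refine lt_of_le_of_ne (Subgroup.commutator_le_left K K) fun e => ?_
    refine (Group.IsSolvable.commutator_lt_top_of_nontrivial K).ne
      (Subgroup.map_injective K.subtype_injective ?_)
    rw [commutator_def, Subgroup.map_commutator, ← MonoidHom.range_eq_map, K.range_subtype, e]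
  have hZn' : (Z.subgroupOf N).Normal := ⟨fun a ha g => hZn g g.2 a ha⟩
  have hZK : Z.subgroupOf N ≤ K := fun z hz => (hZP z hz).1
  have hZc : ∀ z ∈ Z.subgroupOf N, ∀ k ∈ K, z * k = k * z := fun z hz k hk =>
    Subtype.ext ((hZP z hz).2 k hk)
  have hZ1' : Z.subgroupOf N ≠ ⊥ := fun h => hZ1 (by
    rwa [Subgroup.subgroupOf_eq_bot, disjoint_iff,
      inf_eq_left.mpr (fun z hz => hlt.le (hZP z hz).1)] at h)
  have := Fintype.ofFinite K
  have hirr : ∀ χ ∈ Cfsg.inducedIrrAbove K ⊥ \ Cfsg.inducedIrrAbove K (Z.subgroupOf N),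
      Cfsg.IsIrrCharacter N χ := fun χ h => CfsgLib.OddChar.Above.irr_of_above K hCL h.1
  have hcoh := CfsgLib.OddChar.Above.coherent_nontriv_center K hsolv hS hodd hnil hH₁K hKlt
    (CfsgLib.OddChar.Above.mem_of_comm_mem K hCL ⁅K, K⁆ hH₁K.le) (Z.subgroupOf N) hZ1' hZK hZc hirr
  rw [CfsgLib.OddChar.Above.diff_eq K (Z.subgroupOf N) hZK hirr] at hcoh
  simp only [Subgroup.mem_subgroupOf] at hcoh
  convert hcoh

end Cfsg.Agent.S1532
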