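import Cfsg.Statements.S1541
import Cfsg.Agent.Lib.OddChar.PairFinal
import Cfsg.Agent.Lib.OddLocal.S16Discharge
import Cfsg.Agent.Lib.OddChar.Prime.NoFive

set_option autoImplicit false
open Cfsg

namespace Cfsg.Agent.S1541

/-- Let G be a minimal simple group of odd order. Then some maximal subgroup of G is not of Type I. -/
theorem result {G : Type*} [Group G] [Finite G] (hG : Cfsg.IsMinSimpleOddOrder G) : ∃ M : Subgroup G, IsCoatom M ∧ ¬ Cfsg.IsOfTypeI M := by
  have hV : CfsgLib.OddChar.PairFinal.NoTypeV G := by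
    haveI := Fintype.ofFinite G
    exact fun L hL => CfsgLib.OddChar.Prime.not_V hG hL
  obtain ⟨M, hM, hnI⟩ := CfsgLib.OddChar.PairFinal.not_all_typeI hG hV
  exact ⟨M, hM, fun h => hnI (CfsgLib.OddLocal.S15.isTypeICore_of_isOfTypeI h)⟩

end Cfsg.Agent.S1541
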