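import Cfsg.Statements.S1546
import Mathlib

set_option autoImplicit false
open Cfsg

namespace Cfsg.Agent.S1546

/-- Let p and q be odd primes and N = (p ^ q − 1) / (p − 1) = 1 + p + ⋯ + p^(q−1). Then N is odd; if p ≡ 1 (mod q) then q ∣ N; and if p is not ≡ 1 (mod q) then N is coprime to p − 1 and every divisor of N is ≡ 1 (mod q). -/
theorem result (p q : ℕ) (hp : p.Prime) (hq : q.Prime) (hp2 : p ≠ 2) (hq2 : q ≠ 2) : Odd ((p ^ q - 1) / (p - 1)) ∧ (p % q = 1 → q ∣ (p ^ q - 1) / (p - 1)) ∧ (p % q ≠ 1 → Nat.Coprime ((p ^ q - 1) / (p - 1)) (p - 1) ∧ ∀ x : ℕ, x ∣ (p ^ q - 1) / (p - 1) → x % q = 1) := by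
  have hgeom : (p ^ q - 1) / (p - 1) = ∑ i ∈ Finset.range q, p ^ i :=
    (Nat.geomSum_eq hp.two_le q).symm
  rw [hgeom]
  have hqodd : Odd q := hq.odd_of_ne_two hq2
  have hpodd : Odd p := hp.odd_of_ne_two hp2
  have hcast : ∀ (r : ℕ), ((∑ i ∈ Finset.range q, p ^ i : ℕ) : ZMod r) =
      ∑ i ∈ Finset.range q, (p : ZMod r) ^ i := fun r => by push_cast; rfl
  refine ⟨?_, ?_, ?_⟩
  · rw [Finset.odd_sum_iff_odd_card_odd, Finset.filter_true_of_mem fun i _ => hpodd.pow,
      Finset.card_range]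
    exact hqodd
  · intro h
    rw [← ZMod.natCast_eq_zero_iff, hcast]
    have h1 : (p : ZMod q) = 1 := by
      rw [← Nat.cast_one, ZMod.natCast_eq_natCast_iff', h, Nat.mod_eq_of_lt hq.one_lt]
    simp [h1]
  · intro h
    have hkey : ∀ r : ℕ, r.Prime → r ∣ (∑ i ∈ Finset.range q, p ^ i) →
        r % q = 1 ∧ ¬ r ∣ p - 1 := by
      intro r hr hrd
      have := Fact.mk hr
      have h0 : ∑ i ∈ Finset.range q, (p : ZMod r) ^ i = 0 := by
        rw [← hcast, ZMod.natCast_eq_zero_iff]
        exact hrd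
      have hpq : (p : ZMod r) ^ q = 1 := by
        have := geom_sum_mul (p : ZMod r) q
        rw [h0, zero_mul] at this
        exact sub_eq_zero.mp this.symm
      have hne : (p : ZMod r) ≠ 1 := by
        intro h1
        rw [h1] at h0
        simp only [one_pow, Finset.sum_const, Finset.card_range, nsmul_eq_mul, mul_one] at h0
        rw [ZMod.natCast_eq_zero_iff] at h0
        have hrq : r = q := (Nat.prime_dvd_prime_iff_eq hr hq).mp h0
        subst hrq
        refine h ?_
        have := (ZMod.natCast_eq_natCast_iff' p 1 r).mp (by simpa using h1)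
        rwa [Nat.mod_eq_of_lt hr.one_lt] at this
      have hord : orderOf (p : ZMod r) = q := by
        rcases hq.eq_one_or_self_of_dvd _ (orderOf_dvd_of_pow_eq_one hpq) with h1 | h1
        · exact absurd (orderOf_eq_one_iff.mp h1) hne
        · exact h1
      have hp0 : (p : ZMod r) ≠ 0 := by
        intro h1
        rw [h1, zero_pow hq.ne_zero] at hpq
        exact zero_ne_one hpq
      have hdvd := ZMod.orderOf_dvd_card_sub_one hp0
      rw [hord] at hdvd
      refine ⟨?_, fun hd => hne ?_⟩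
      · have h1 : (1 : ℕ) ≡ r [MOD q] := (Nat.modEq_iff_dvd' hr.one_le).mpr hdvd
        rw [← h1, Nat.mod_eq_of_lt hq.one_lt]
      · have := (ZMod.natCast_eq_zero_iff _ r).mpr hd
        rwa [Nat.cast_sub hp.one_le, Nat.cast_one, sub_eq_zero] at this
    refine ⟨Nat.coprime_of_dvd fun r hr h1 h2 => (hkey r hr h1).2 h2, fun x hx => ?_⟩
    have hx0 : x ≠ 0 := fun h0 => by
      rw [h0, zero_dvd_iff, Finset.sum_eq_zero_iff] at hx
      exact one_ne_zero ((pow_zero p).symm.trans (hx 0 (Finset.mem_range.mpr hq.pos)))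
    suffices x ≡ 1 [MOD q] by rwa [Nat.ModEq, Nat.mod_eq_of_lt hq.one_lt] at this
    induction x using Nat.recOnMul with
    | zero => exact absurd rfl hx0
    | one => rfl
    | prime r hr => exact (Nat.ModEq.symm ((Nat.mod_eq_of_lt hq.one_lt).trans (hkey r hr hx).1.symm))
    | mul a b iha ihb =>
      exact (iha ((dvd_mul_right a b).trans hx) (left_ne_zero_of_mul hx0)).mul
        (ihb ((dvd_mul_left b a).trans hx) (right_ne_zero_of_mul hx0))

end Cfsg.Agent.S1546
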