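import Cfsg.Statements.S1550
import Cfsg.Agent.Lib.M24Cert.Objects
import Cfsg.Agent.Lib.Golay.Sextet

set_option autoImplicit false
open scoped Pointwise
open Cfsg CfsgLib.Golay CfsgLib.M24Cert

namespace Cfsg.Agent.S1550

/-- Every 4-element set of the 24 points is a tetrad of exactly one sextet, and the sextets number 1771. -/
theorem result : (∀ t : Finset Cfsg.GolayPt, t.card = 4 → ∃! S : Finset (Finset Cfsg.GolayPt), S ∈ Cfsg.sextets ∧ t ∈ S) ∧ Cfsg.sextets.ncard = 1771 := by
  refine ⟨fun t ht => ?_, ?_⟩
  · obtain ⟨Q, hQ⟩ := exists_sextet (by rw [Fintype.card_congr ptEquiv, Fintype.card_fin]) octads_steiner ht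
    have hinj : Function.Injective Q.cell := by
      intro i j e
      by_contra hne
      have hd := Q.disj i j hne
      rw [← e, Finset.disjoint_self_iff_empty] at hd
      have hc := Q.card_cell i
      rw [hd, Finset.card_empty] at hc
      omega
    have hmem : Finset.univ.image Q.cell ∈ sextets := by
      refine ⟨by rw [Finset.card_image_of_injective _ hinj, Finset.card_univ, Fintype.card_fin], ?_, ?_⟩
      · intro u hu
        obtain ⟨i, -, rfl⟩ := Finset.mem_image.1 hu
        exact Q.card_cell i
      · intro u hu v hv hne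
        obtain ⟨i, -, rfl⟩ := Finset.mem_image.1 hu
        obtain ⟨j, -, rfl⟩ := Finset.mem_image.1 hv
        exact Q.union_mem i j fun e => hne (by rw [e])
    set O := (blockFinset octads).filter (t ⊆ ·) with hO
    have h5 : O.card = 5 := by
      have := blocks_through octads_steiner t (by omega)
      rw [Fintype.card_congr ptEquiv, Fintype.card_fin, ht] at this
      norm_num [Nat.choose] at this
      rw [hO]; omega
    have huniq : ∀ S ∈ sextets, t ∈ S → S = insert t (O.image (· \ t)) := by
      intro S hS htS
      refine Finset.eq_of_subset_of_card_le (fun u hu => ?_) ?_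
      · by_cases he : u = t
        · exact Finset.mem_insert.2 (Or.inl he)
        refine Finset.mem_insert_of_mem (Finset.mem_image.2 ⟨t ∪ u, ?_, ?_⟩)
        · rw [hO, Finset.mem_filter, mem_blockFinset]
          exact ⟨hS.2.2 t htS u hu (Ne.symm he), Finset.subset_union_left⟩
        · rw [Finset.union_sdiff_left]
          exact Finset.sdiff_eq_self_of_disjoint (sextet_disjoint hS htS hu (Ne.symm he)).symm
      · rw [hS.1]
        exact (Finset.card_insert_le _ _).trans (by have := O.card_image_le (f := (· \ t)); omega)
    refine ⟨_, ⟨hmem, Finset.mem_image.2 ⟨0, Finset.mem_univ _, hQ⟩⟩, fun S hS => ?_⟩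
    rw [huniq S hS.1 hS.2, ← huniq _ hmem (Finset.mem_image.2 ⟨0, Finset.mem_univ _, hQ⟩)]
  · rw [sextets_eq, Tbl.ncard_range sexTbl_sorted]
    rfl

end Cfsg.Agent.S1550
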