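import Cfsg.Statements.S1551
import Cfsg.Agent.Lib.M24Cert.SextetStab

set_option autoImplicit false
open scoped Pointwise
open Cfsg CfsgLib.Golay CfsgLib.M24Cert

namespace Cfsg.Agent.S1551

/-- Structure of a sextet stabiliser: it induces every permutation of the six tetrads, the subgroup fixing each tetrad setwise has order 192, and there is a normal subgroup of order 64 consisting of elements squaring to the identity. -/
theorem result (S : Finset (Finset Cfsg.GolayPt)) (hS : S ∈ Cfsg.sextets) : (∀ e : Equiv.Perm ↥S, ∃ g ∈ MulAction.stabilizer Cfsg.M24 S, ∀ t : ↥S, (g : Equiv.Perm Cfsg.GolayPt) • (t : Finset Cfsg.GolayPt) = ((e t : ↥S) : Finset Cfsg.GolayPt)) ∧ Nat.card {g : ↥(MulAction.stabilizer Cfsg.M24 S) // ∀ t ∈ S, ((g : Cfsg.M24) : Equiv.Perm Cfsg.GolayPt) • t = t} = 192 ∧ ∃ N : Subgroup ↥(MulAction.stabilizer Cfsg.M24 S), N.Normal ∧ Nat.card N = 64 ∧ ∀ x ∈ N, x * x = 1 := by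
  refine ⟨fun e => ?_, ?_, ?_⟩
  · obtain ⟨g, rfl⟩ := famHom_surjective hS e
    exact ⟨(g : M24), g.2, fun t => rfl⟩
  · rw [← card_famKer hS]
    exact Nat.card_congr (Equiv.subtypeEquivRight fun g => famHom_eq_one.symm)
  obtain ⟨hmem, hcard, hsq⟩ := sqGroup_spec tet_checks.2.1
  obtain ⟨a, ha, rfl⟩ := sextets_transitive hS
  set f : ↥(MulAction.stabilizer M24 (a • sexTbl.el 776)) →* Equiv.Perm GolayPt :=
    M24.subtype.comp (MulAction.stabilizer M24 (a • sexTbl.el 776)).subtype with hf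
  set N := ((sqGroup sexSquares).map (MulAut.conj a).toMonoidHom).comap f with hN
  have hchar : ∀ x, x ∈ N ↔ (∀ t ∈ a • sexTbl.el 776, f x • t = t) ∧ f x * f x = 1 := by
    intro x
    constructor
    · rintro ⟨y, hy, e⟩
      have e' : a * y * a⁻¹ = f x := e
      rw [← e']
      refine ⟨fun t ht => ?_, ?_⟩
      · obtain ⟨u, hu, rfl⟩ := Finset.mem_smul_finset.1 ht
        rw [mul_smul, inv_smul_smul, mul_smul, (mem_fixMasks_tet.1 (sqGroup_le_tet hy)).2 u hu]
      · rw [show a * y * a⁻¹ * (a * y * a⁻¹) = a * (y * y) * a⁻¹ by group, hsq y hy]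
        group
    · rintro ⟨h1, h2⟩
      refine ⟨a⁻¹ * f x * a, tet_square (mem_fixMasks_tet.2 ⟨?_, fun t ht => ?_⟩) ?_, ?_⟩
      · exact mul_mem (mul_mem (inv_mem ha) (x : M24).2) ha
      · rw [mul_smul, mul_smul, h1 _ (Finset.smul_mem_smul_finset ht), inv_smul_smul]
      · rw [show a⁻¹ * f x * a * (a⁻¹ * f x * a) = a⁻¹ * (f x * f x) * a by group, h2]
        group
      · show a * (a⁻¹ * f x * a) * a⁻¹ = f x
        group
  refine ⟨N, ⟨fun n hn g => ?_⟩, ?_, fun x hx => ?_⟩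
  · rw [hchar] at hn ⊢
    simp only [map_mul, map_inv]
    refine ⟨fun t ht => ?_, ?_⟩
    · have hg : (f g)⁻¹ • t ∈ a • sexTbl.el 776 := by
        have h : (f g)⁻¹ • (a • sexTbl.el 776) = a • sexTbl.el 776 := by
          have h' : f g • (a • sexTbl.el 776) = a • sexTbl.el 776 := g.2
          exact inv_smul_eq_iff.2 h'.symm
        have h2 : (f g)⁻¹ • t ∈ (f g)⁻¹ • (a • sexTbl.el 776) := Finset.smul_mem_smul_finset ht
        rwa [h] at h2
      rw [mul_smul, mul_smul, hn.1 _ hg, smul_inv_smul]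
    · rw [show f g * f n * (f g)⁻¹ * (f g * f n * (f g)⁻¹) = f g * (f n * f n) * (f g)⁻¹ by group, hn.2]
      group
  · rw [← hcard, ← Subgroup.card_map_of_injective (K := sqGroup sexSquares) (show Function.Injective (MulAut.conj a).toMonoidHom from (MulAut.conj a).injective)]
    have hinj : Function.Injective f := fun x y h => Subtype.ext (Subtype.ext h)
    rw [← Subgroup.card_map_of_injective (K := N) hinj, hN, Subgroup.map_comap_eq_self]

    rintro _ ⟨y, hy, rfl⟩
    refine ⟨⟨⟨a * y * a⁻¹, mul_mem (mul_mem ha (mem_fixMasks_tet.1 (sqGroup_le_tet hy)).1) (inv_mem ha)⟩, ?_⟩, rfl⟩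
    show (a * y * a⁻¹) • a • sexTbl.el 776 = a • sexTbl.el 776
    rw [mul_smul, inv_smul_smul, mul_smul]
    congr 1
    refine Finset.eq_of_subset_of_card_le (fun t ht => ?_) (by rw [Finset.card_smul_finset])
    obtain ⟨u, hu, rfl⟩ := Finset.mem_smul_finset.1 ht
    rw [(mem_fixMasks_tet.1 (sqGroup_le_tet hy)).2 u hu]
    exact hu
  · have hinj : Function.Injective f := fun x y h => Subtype.ext (Subtype.ext h)
    exact hinj (by rw [map_mul, map_one]; exact ((hchar x).1 hx).2)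

end Cfsg.Agent.S1551
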