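import Cfsg.Statements.S1552
import Cfsg.Agent.Lib.M24Cert.Coatom

set_option autoImplicit false
open scoped Pointwise
open Cfsg CfsgLib.Golay CfsgLib.M24Cert

namespace Cfsg.Agent.S1552

open Cfsg CfsgLib.Golay CfsgLib.M24Cert in
theorem sexOnSex_gens : gensOk baseSextet sexOnSexGens = true := by decide +kernel

open Cfsg CfsgLib.Golay CfsgLib.M24Cert in
theorem sexOnSex_forest : sexTbl.forestOk sexOnSexGens sexOnSexAux (fun _ => true) [776, 10, 0, 4] = true ∧
    rootsOk sexTbl baseSextet [776, 10, 0, 4] = true ∧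
    ([10, 0, 4].map fun r =>
      countLt (fun i => Nat.beq (posCodeL baseSextet (sexTbl.obj i)) (posCodeL baseSextet (sexTbl.obj r))) sexTbl.N) =
      [90, 240, 1440] := by
  refine ⟨?_, ?_, ?_⟩ <;> decide +kernel


/-- A sextet stabiliser has four orbits on the 1771 sextets, of sizes 1, 90, 240, 1440; and the stabiliser is a maximal proper subgroup. -/
theorem result (S : Finset (Finset Cfsg.GolayPt)) (hS : S ∈ Cfsg.sextets) : ∃ X₁ ∈ Cfsg.sextets, ∃ X₂ ∈ Cfsg.sextets, ∃ X₃ ∈ Cfsg.sextets, (MulAction.orbit ↥(MulAction.stabilizer Cfsg.M24 S) X₁).ncard = 90 ∧ (MulAction.orbit ↥(MulAction.stabilizer Cfsg.M24 S) X₂).ncard = 240 ∧ (MulAction.orbit ↥(MulAction.stabilizer Cfsg.M24 S) X₃).ncard = 1440 ∧ Cfsg.sextets = {S} ∪ MulAction.orbit ↥(MulAction.stabilizer Cfsg.M24 S) X₁ ∪ MulAction.orbit ↥(MulAction.stabilizer Cfsg.M24 S) X₂ ∪ MulAction.orbit ↥(MulAction.stabilizer Cfsg.M24 S) X₃ ∧ IsCoatom (MulAction.stabilizer Cfsg.M24 S)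 := by
  obtain ⟨g, hg, -, h1, h2, h3⟩ := tbl_rank (r₀ := 776) (rest := [10, 0, 4]) sexTbl_sorted sexTbl_closed
    (sexTbl.small 776) (Tbl.strict sexTbl_sorted (by decide : 776 < 1771)) sexOnSex_gens sexOnSex_forest.1
    sexOnSex_forest.2.1 rfl sexOnSex_forest.2.2 (by decide) (by decide) (by decide) (by decide +kernel)
    (fun Y hY => sextets_transitive (sextets_eq ▸ hY)) (sextets_eq ▸ hS)
  have hcs := sexOnSex_forest.2.2
  simp only [List.map_cons, List.map_nil, List.cons.injEq] at hcs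
  rw [← sextets_eq] at h1 h2
  refine ⟨_, (h1 10 (by simp)).1, _, (h1 0 (by simp)).1, _, (h1 4 (by simp)).1, (h1 10 (by simp)).2.trans hcs.1,
    (h1 0 (by simp)).2.trans hcs.2.1, (h1 4 (by simp)).2.trans hcs.2.2.1, ?_, h3⟩
  ext X
  simp [h2 X, or_assoc]

end Cfsg.Agent.S1552
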