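import Cfsg.Statements.S1554
import Cfsg.Agent.Lib.M24Cert.OctadAction

set_option autoImplicit false
open scoped Pointwise
open Cfsg CfsgLib.Golay CfsgLib.M24Cert

namespace Cfsg.Agent.S1554

/-- An octad stabiliser is a split extension: the joint stabiliser of the octad and a point outside it is a complement to the pointwise stabiliser of the octad, and is isomorphic to the alternating group of degree 8. -/
theorem result (o : Finset Cfsg.GolayPt) (ho : o ∈ Cfsg.octads) (p : Cfsg.GolayPt) (hp : p ∉ o) : (Cfsg.M24 ⊓ fixingSubgroup (Equiv.Perm Cfsg.GolayPt) (o : Set Cfsg.GolayPt)) ⊓ (Cfsg.M24 ⊓ MulAction.stabilizer (Equiv.Perm Cfsg.GolayPt) o ⊓ MulAction.stabilizer (Equiv.Perm Cfsg.GolayPt) p) = ⊥ ∧ (Cfsg.M24 ⊓ fixingSubgroup (Equiv.Perm Cfsg.GolayPt) (o : Set Cfsg.GolayPt)) ⊔ (Cfsg.M24 ⊓ MulAction.stabilizer (Equiv.Perm Cfsg.GolayPt) o ⊓ MulAction.stabilizer (Equiv.Perm Cfsg.GolayPt) p) = (Cfsg.M24 ⊓ MulAction.stabilizer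 (Equiv.Perm Cfsg.GolayPt) o) ∧ Nonempty (↥(Cfsg.M24 ⊓ MulAction.stabilizer (Equiv.Perm Cfsg.GolayPt) o ⊓ MulAction.stabilizer (Equiv.Perm Cfsg.GolayPt) p) ≃* alternatingGroup (Fin 8)) := by
  obtain ⟨hinj, hrange⟩ := octPointStab_restrict ho hp
  refine ⟨?_, le_antisymm (sup_le ?_ inf_le_left) ?_, ?_⟩
  · rw [eq_bot_iff]
    rintro g ⟨⟨hg, hfix⟩, -, hgp⟩
    exact octPointStab_fix ho hp hg (fun x hx => (mem_fixingSubgroup_iff _).1 hfix x hx) hgp
  · rintro g ⟨hg, hfix⟩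
    refine ⟨hg, Finset.eq_of_subset_of_card_le (fun y hy => ?_) (by rw [Finset.card_smul_finset])⟩
    obtain ⟨x, hx, rfl⟩ := Finset.mem_smul_finset.1 hy
    rwa [(mem_fixingSubgroup_iff _).1 hfix x hx]
  · intro g hg
    have hmem : resHom o ⟨g, hg⟩ ∈ alternatingGroup ↥o := by rw [← range_resHom ho]; exact ⟨_, rfl⟩
    rw [← hrange] at hmem
    obtain ⟨k, hk⟩ := hmem
    have e : g = (g * (k : Equiv.Perm GolayPt)⁻¹) * k := by group
    rw [e]
    refine mul_mem (Subgroup.mem_sup_left ?_) (Subgroup.mem_sup_right k.2)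
    refine ⟨M24.mul_mem (show g ∈ M24 from hg.1) (M24.inv_mem (show (k : Equiv.Perm GolayPt) ∈ M24 from k.2.1.1)), (mem_fixingSubgroup_iff _).2 fun x hx => ?_⟩
    have hy : (k : Equiv.Perm GolayPt)⁻¹ x ∈ o :=
      (octStab_apply (inv_mem (k.2.1 : (k : Equiv.Perm GolayPt) ∈ octStab o)) x).2 hx
    have := congrArg Subtype.val (Equiv.ext_iff.1 hk ⟨_, hy⟩)
    show g ((k : Equiv.Perm GolayPt)⁻¹ x) = x
    exact this.symm.trans ((k : Equiv.Perm GolayPt).apply_symm_apply x)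
  · exact ⟨((MonoidHom.ofInjective hinj).trans (MulEquiv.subgroupCongr hrange)).trans
      (Equiv.altCongrHom ((Finset.equivFinOfCardEq ho.2) : ↥o ≃ Fin 8))⟩

end Cfsg.Agent.S1554
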