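import Cfsg.Statements.S1555
import Cfsg.Agent.Lib.M24Cert.Single
import Cfsg.Agent.Lib.Golay.CodeDual

set_option autoImplicit false
open scoped Pointwise
open Cfsg CfsgLib.Golay CfsgLib.M24Cert

namespace Cfsg.Agent.S1555

open Cfsg CfsgLib.Golay CfsgLib.M24Cert in
theorem octad_traces : allLt (fun m => !Nat.beq (Nat.land m baseOctad) m ||
    ((!Nat.beq (bc m) 2 || Nat.beq (countLt (fun i => Nat.beq (Nat.land baseOctad (one octTbl i)) m) octTbl.N) 16) &&
     (!Nat.beq (bc m) 4 || Nat.beq (countLt (fun i => Nat.beq (Nat.land baseOctad (one octTbl i)) m) octTbl.N) 4))) 5280 = true := by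
  decide +kernel


/-- Bottom row of the Leech triangle: an octad is met in a prescribed pair of its points by exactly 16 octads and in a prescribed 4-subset by exactly 4 octads. -/
theorem result (o : Finset Cfsg.GolayPt) (ho : o ∈ Cfsg.octads) (s : Finset Cfsg.GolayPt) (hs : s ⊆ o) : (s.card = 2 → {o' : Finset Cfsg.GolayPt | o' ∈ Cfsg.octads ∧ o ∩ o' = s}.ncard = 16) ∧ (s.card = 4 → {o' : Finset Cfsg.GolayPt | o' ∈ Cfsg.octads ∧ o ∩ o' = s}.ncard = 4) := by
  obtain ⟨g, hg, rfl⟩ := octads_transitive ho
  obtain ⟨u, hu, rfl⟩ : ∃ u, u ⊆ toSet baseOctad ∧ s = g • u :=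
    ⟨g⁻¹ • s, by rw [← inv_smul_smul g (toSet baseOctad)]; exact Finset.smul_finset_subset_smul_finset hs,
      (smul_inv_smul g s).symm⟩
  obtain ⟨m, hm, rfl⟩ := exists_mask u
  rw [Finset.card_smul_finset]
  have hland : m &&& baseOctad = m := by
    refine toSet_inj (lt_of_le_of_lt Nat.and_le_left hm) hm ?_
    rw [toSet_and]
    exact Finset.inter_eq_left.2 hu
  have hcount : {o' : Finset GolayPt | o' ∈ octads ∧ g • toSet baseOctad ∩ o' = g • toSet m}.ncard =
      countLt (fun i => Nat.beq (Nat.land baseOctad (one octTbl i)) m) octTbl.N := by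
    rw [← octads_complete.count (fun x => toSet baseOctad ∩ x = toSet m)
      (fun n => Nat.beq (Nat.land baseOctad n) m) (fun i _ => ?_)]
    · rw [← Set.ncard_smul_set g {x | x ∈ octads ∧ toSet baseOctad ∩ x = toSet m}]
      congr 1
      ext x
      rw [Set.mem_smul_set_iff_inv_smul_mem]
      show (x ∈ octads ∧ _) ↔ (g⁻¹ • x ∈ octads ∧ _)
      refine and_congr ⟨octads_smul (inv_mem hg), fun h => smul_inv_smul g x ▸ octads_smul hg h⟩ ?_
      constructor
      · intro h
        rw [← inv_smul_smul g (toSet baseOctad), ← Finset.smul_finset_inter, h, inv_smul_smul]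
      · intro h
        rw [← h, Finset.smul_finset_inter, smul_inv_smul]
    · rw [← toSet_and, Nat.beq_eq]
      exact ⟨fun h => toSet_inj (lt_of_le_of_lt Nat.and_le_left (by decide)) hm h, fun h => by
        rw [show baseOctad &&& one octTbl i = m from h]⟩
  rw [hcount, card_toSet_bc]
  have hle : m < 5280 := by
    have : m &&& baseOctad ≤ baseOctad := Nat.and_le_right
    rw [hland] at this
    exact Nat.lt_succ_of_le this
  have := allLt_spec octad_traces m hle
  simp only [Bool.or_eq_true, Bool.not_eq_true', Bool.and_eq_true, Nat.beq_eq] at this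
  rcases this with h | ⟨h2, h4⟩
  · rw [show Nat.land m baseOctad = m from hland, Nat.beq_refl] at h
    exact Bool.noConfusion h
  · exact ⟨fun e => h2.resolve_left fun h => by simp [e] at h, fun e => h4.resolve_left fun h => by simp [e] at h⟩

end Cfsg.Agent.S1555
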