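import Cfsg.Statements.S1556
import Cfsg.Agent.Lib.M24Cert.Pairs

set_option autoImplicit false
open scoped Pointwise
open Cfsg CfsgLib.Golay CfsgLib.M24Cert

namespace Cfsg.Agent.S1556

/-- Two octads meeting a fixed octad in equally many points are in the same orbit of its stabiliser. -/
theorem result (o o' o'' : Finset Cfsg.GolayPt) (ho : o ∈ Cfsg.octads) (ho' : o' ∈ Cfsg.octads) (ho'' : o'' ∈ Cfsg.octads) (h : (o ∩ o').card = (o ∩ o'').card) : ∃ g : Equiv.Perm Cfsg.GolayPt, g ∈ Cfsg.M24 ∧ g • o = o ∧ g • o' = o'' := by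
  obtain ⟨-, ⟨g, hg, hgo, hgo'⟩, -⟩ := octad_pair ho ho'
  obtain ⟨-, ⟨k, hk, hko, hko'⟩, -⟩ := octad_pair ho ho''
  rw [← h] at hko'
  refine ⟨k * g⁻¹, mul_mem hk (inv_mem hg), ?_, ?_⟩
  · conv_lhs => rw [← hgo, mul_smul, inv_smul_smul]
    exact hko
  · conv_lhs => rw [← hgo', mul_smul, inv_smul_smul]
    exact hko'

end Cfsg.Agent.S1556
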