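import Cfsg.Statements.S1557
import Cfsg.Agent.Lib.M24Cert.Pairs

set_option autoImplicit false
open scoped Pointwise
open Cfsg CfsgLib.Golay CfsgLib.M24Cert

namespace Cfsg.Agent.S1557

/-- The complement of the union of two disjoint octads is an octad, and the code has exactly 3795 trios of pairwise disjoint octads. -/
theorem result : (∀ o o' : Finset Cfsg.GolayPt, o ∈ Cfsg.octads → o' ∈ Cfsg.octads → Disjoint o o' → (o ∪ o')ᶜ ∈ Cfsg.octads) ∧ Cfsg.trios.ncard = 3795 := by
  refine ⟨fun o o' ho ho' hd => ?_, by rw [trios_eq, Tbl.ncard_range triTbl_sorted]; rfl⟩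
  obtain ⟨-, ⟨g, hg, hgo, hgo'⟩, -⟩ := octad_pair ho ho'
  rw [Finset.disjoint_iff_inter_eq_empty.1 hd, Finset.card_empty] at hgo'
  have hrest : toSet 15762208 ∈ octads := isOctB_spec (by decide +kernel)
  have e : (toSet baseOctad ∪ toSet (secondOctad 0))ᶜ = toSet 15762208 := by decide +kernel
  rw [← hgo, ← hgo', ← Finset.smul_finset_union, show (g • (toSet baseOctad ∪ toSet (secondOctad 0)))ᶜ = g • (toSet baseOctad ∪ toSet (secondOctad 0))ᶜ by
      rw [Finset.compl_eq_univ_sdiff, Finset.compl_eq_univ_sdiff, Finset.smul_finset_sdiff, Finset.smul_finset_univ], e]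
  exact octads_smul hg hrest

end Cfsg.Agent.S1557
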