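import Cfsg.Statements.S1558
import Cfsg.Agent.Lib.M24Cert.TrioStab

set_option autoImplicit false
open scoped Pointwise
open Cfsg CfsgLib.Golay CfsgLib.M24Cert

namespace Cfsg.Agent.S1558

/-- Structure of a trio stabiliser: every permutation of the three octads is induced, and there is a normal subgroup of order 64 of elements squaring to the identity whose quotient is isomorphic to the product of GL(3, 2) with the symmetric group of degree 3. -/
theorem result (T : Finset (Finset Cfsg.GolayPt)) (hT : T ∈ Cfsg.trios) : (∀ e : Equiv.Perm ↥T, ∃ g ∈ MulAction.stabilizer Cfsg.M24 T, ∀ o : ↥T, (g : Equiv.Perm Cfsg.GolayPt) • (o : Finset Cfsg.GolayPt) = ((e o : ↥T) : Finset Cfsg.GolayPt)) ∧ ∃ (N : Subgroup ↥(MulAction.stabilizer Cfsg.M24 T)) (_ : N.Normal), Nat.card N = 64 ∧ (∀ x ∈ N, x * x = 1) ∧ Nonempty (↥(MulAction.stabilizer Cfsg.M24 T) ⧸ N ≃* GL (Fin 3) (ZMod 2) × Equiv.Perm (Fin 3)) := by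
  obtain ⟨heq, hker, hsq⟩ := trioGroup_facts
  obtain ⟨a, ha, rfl⟩ := trios_transitive hT
  have hto : ∀ x : ↥(MulAction.stabilizer M24 (a • triTbl.el 614)),
      a⁻¹ * ((x : M24) : Equiv.Perm GolayPt) * a ∈ trioGroup := by
    intro x
    rw [heq, mem_stabF]
    refine ⟨mul_mem (mul_mem (inv_mem ha) (x : M24).2) ha, ?_⟩
    have h : ((x : M24) : Equiv.Perm GolayPt) • (a • triTbl.el 614) = a • triTbl.el 614 := x.2
    rw [mul_smul, mul_smul, h, inv_smul_smul]
  have hfrom : ∀ y : ↥trioGroup, ∃ h : a * (y : Equiv.Perm GolayPt) * a⁻¹ ∈ M24,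
      (⟨_, h⟩ : M24) ∈ MulAction.stabilizer M24 (a • triTbl.el 614) := by
    intro y
    have hy0 : (y : Equiv.Perm GolayPt) ∈ stabF (triTbl.el 614) := by rw [← heq]; exact y.2
    obtain ⟨hy, hy'⟩ := mem_stabF.1 hy0
    refine ⟨mul_mem (mul_mem ha hy) (inv_mem ha), ?_⟩
    rw [MulAction.mem_stabilizer_iff]
    show (a * (y : Equiv.Perm GolayPt) * a⁻¹) • a • triTbl.el 614 = a • triTbl.el 614
    rw [mul_smul, inv_smul_smul, mul_smul, hy']
  let e : ↥(MulAction.stabilizer M24 (a • triTbl.el 614)) →* ↥trioGroup :=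
    { toFun := fun x => ⟨_, hto x⟩
      map_one' := Subtype.ext (by simp)
      map_mul' := fun x y => Subtype.ext (by simp [mul_assoc]) }
  have hesurj : Function.Surjective e := fun y =>
    ⟨⟨⟨_, (hfrom y).1⟩, (hfrom y).2⟩, Subtype.ext (show a⁻¹ * (a * (y : Equiv.Perm GolayPt) * a⁻¹) * a = y by group)⟩
  have heinj : Function.Injective e := fun x y h => by
    have h' : a⁻¹ * ((x : M24) : Equiv.Perm GolayPt) * a = a⁻¹ * ((y : M24) : Equiv.Perm GolayPt) * a :=
      congrArg Subtype.val h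
    exact Subtype.ext (Subtype.ext (mul_left_cancel (mul_right_cancel h')))
  refine ⟨fun p => ?_, (trioHom.comp e).ker, MonoidHom.normal_ker _, ?_, fun x hx => ?_,
    ⟨QuotientGroup.quotientKerEquivOfSurjective _ (trioHom_surjective.comp hesurj)⟩⟩
  · let lab : Fin 3 ≃ ↥(a • triTbl.el 614) :=
      Equiv.ofBijective (fun i => ⟨a • triOct i, Finset.smul_mem_smul_finset (mem_oset.2
          ⟨trioMasks.getD i.val 0, by
            rw [trio_basic.1, List.getD_eq_getElem _ _ (by rw [trio_basic.2.2.2.2.2.1]; exact i.2)]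
            exact List.getElem_mem _, rfl⟩)⟩)
        ⟨fun i j h => triOct_injective (MulAction.injective a (congrArg Subtype.val h)), fun t => by
          obtain ⟨u, hu, e'⟩ := Finset.mem_smul_finset.1 t.2
          rw [Tbl.el, trio_basic.1] at hu
          obtain ⟨n, hn, rfl⟩ := mem_oset.1 hu
          obtain ⟨k, hk, rfl⟩ := List.mem_iff_getElem.1 hn
          exact ⟨⟨k, trio_basic.2.2.2.2.2.1 ▸ hk⟩, Subtype.ext (by
            show a • triOct _ = _
            rw [triOct, List.getD_eq_getElem _ _ hk]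
            exact e')⟩⟩
    obtain ⟨y, hy⟩ := trioHom_surjective (1, (lab.trans p).trans lab.symm)
    have hoct : OctOn y.1 ((lab.trans p).trans lab.symm) := by
      have h := (Classical.choose_spec (exists_on y.2)).2
      have e2 : trioImg y = (1, (lab.trans p).trans lab.symm) := hy
      rw [trioImg] at e2
      rw [e2] at h
      exact h
    refine ⟨_, (hfrom y).2, fun o => ?_⟩
    obtain ⟨i, rfl⟩ := lab.surjective o
    show (a * y.1 * a⁻¹) • a • triOct i = (p (lab i)).val
    rw [mul_smul, inv_smul_smul, mul_smul, hoct]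
    show (lab (lab.symm (p (lab i)))).val = _
    rw [Equiv.apply_symm_apply]
  · rw [← hker, ← MonoidHom.comap_ker]
    exact Nat.card_congr ((Equiv.ofBijective e ⟨heinj, hesurj⟩).subtypeEquiv fun x => Iff.rfl)
  · apply heinj
    rw [map_mul, map_one]
    exact hsq _ hx

end Cfsg.Agent.S1558
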