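import Cfsg.Statements.S1559
import Cfsg.Agent.Lib.M24Cert.Coatom

set_option autoImplicit false
open scoped Pointwise
open Cfsg CfsgLib.Golay CfsgLib.M24Cert

namespace Cfsg.Agent.S1559

open Cfsg CfsgLib.Golay CfsgLib.M24Cert in
theorem triOnTri_gens : gensOk baseTrio triOnTriGens = true := by decide +kernel

open Cfsg CfsgLib.Golay CfsgLib.M24Cert in
theorem triOnTri_forest : triTbl.forestOk triOnTriGens triOnTriAux (fun _ => true) [614, 14, 0, 2, 61] = true ∧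
    rootsOk triTbl baseTrio [614, 14, 0, 2, 61] = true ∧
    ([14, 0, 2, 61].map fun r =>
      countLt (fun i => Nat.beq (posCodeL baseTrio (triTbl.obj i)) (posCodeL baseTrio (triTbl.obj r))) triTbl.N) =
      [42, 56, 1008, 2688] := by
  refine ⟨?_, ?_, ?_⟩ <;> decide +kernel


/-- A trio stabiliser has five orbits on the 3795 trios, of sizes 1, 42, 56, 1008, 2688; and the stabiliser is a maximal proper subgroup. -/
theorem result (T : Finset (Finset Cfsg.GolayPt)) (hT : T ∈ Cfsg.trios) : ∃ X₁ ∈ Cfsg.trios, ∃ X₂ ∈ Cfsg.trios, ∃ X₃ ∈ Cfsg.trios, ∃ X₄ ∈ Cfsg.trios, (MulAction.orbit ↥(MulAction.stabilizer Cfsg.M24 T) X₁).ncard = 42 ∧ (MulAction.orbit ↥(MulAction.stabilizer Cfsg.M24 T) X₂).ncard = 56 ∧ (MulAction.orbit ↥(MulAction.stabilizer Cfsg.M24 T) X₃).ncard = 1008 ∧ (MulAction.orbit ↥(MulAction.stabilizer Cfsg.M24 T) X₄).ncard = 2688 ∧ Cfsg.trios = {T} ∪ MulAction.orbit ↥(MulAction.stabilizer Cfsg.M24 T) X₁ ∪ MulAction.orbit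 ↥(MulAction.stabilizer Cfsg.M24 T) X₂ ∪ MulAction.orbit ↥(MulAction.stabilizer Cfsg.M24 T) X₃ ∪ MulAction.orbit ↥(MulAction.stabilizer Cfsg.M24 T) X₄ ∧ IsCoatom (MulAction.stabilizer Cfsg.M24 T) := by
  obtain ⟨g, hg, -, h1, h2, h3⟩ := tbl_rank (r₀ := 614) (rest := [14, 0, 2, 61]) triTbl_sorted triTbl_closed
    (triTbl.small 614) (Tbl.strict triTbl_sorted (by decide : 614 < 3795)) triOnTri_gens triOnTri_forest.1
    triOnTri_forest.2.1 rfl triOnTri_forest.2.2 (by decide) (by decide) (by decide) (by decide +kernel)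
    (fun Y hY => trios_transitive (trios_eq ▸ hY)) (trios_eq ▸ hT)
  have hcs := triOnTri_forest.2.2
  simp only [List.map_cons, List.map_nil, List.cons.injEq] at hcs
  rw [← trios_eq] at h1 h2
  refine ⟨_, (h1 14 (by simp)).1, _, (h1 0 (by simp)).1, _, (h1 2 (by simp)).1, _, (h1 61 (by simp)).1,
    (h1 14 (by simp)).2.trans hcs.1, (h1 0 (by simp)).2.trans hcs.2.1, (h1 2 (by simp)).2.trans hcs.2.2.1,
    (h1 61 (by simp)).2.trans hcs.2.2.2.1, ?_, h3⟩
  ext X
  simp [h2 X, or_assoc]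

end Cfsg.Agent.S1559
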