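import Cfsg.Statements.S1560
import Cfsg.Agent.Lib.M24Cert.SmallSets

set_option autoImplicit false
open scoped Pointwise
open Cfsg CfsgLib.Golay CfsgLib.M24Cert

namespace Cfsg.Agent.S1560

open Cfsg CfsgLib.Golay CfsgLib.M24Cert in
theorem dod_counts :
    allLt (fun i => Nat.beq (one dodTbl i) baseDodecad || memB (bc (Nat.land baseDodecad (one dodTbl i))) [0, 4, 6, 8]) dodTbl.N = true ∧
    countLt (fun i => Nat.beq (bc (Nat.land baseDodecad (one dodTbl i))) 4) dodTbl.N = 495 ∧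
    countLt (fun i => Nat.beq (bc (Nat.land baseDodecad (one dodTbl i))) 6) dodTbl.N = 1584 ∧
    countLt (fun i => Nat.beq (bc (Nat.land baseDodecad (one dodTbl i))) 8) dodTbl.N = 495 := by
  refine ⟨?_, ?_, ?_, ?_⟩ <;> decide +kernel


/-- Intersection numbers of dodecads: a dodecad meets every other dodecad in 0, 4, 6 or 8 points, meeting 495 of them in 4 points, 1584 in 6 points and 495 in 8 points. -/
theorem result (d : Finset Cfsg.GolayPt) (hd : d ∈ Cfsg.dodecads) : (∀ d' ∈ Cfsg.dodecads, d' ≠ d → (d ∩ d').card = 0 ∨ (d ∩ d').card = 4 ∨ (d ∩ d').card = 6 ∨ (d ∩ d').card = 8) ∧ {d' : Finset Cfsg.GolayPt | d' ∈ Cfsg.dodecads ∧ (d ∩ d').card = 4}.ncard = 495 ∧ {d' : Finset Cfsg.GolayPt | d' ∈ Cfsg.dodecads ∧ (d ∩ d').card = 6}.ncard = 1584 ∧ {d' : Finset Cfsg.GolayPt | d' ∈ Cfsg.dodecads ∧ (d ∩ d').card = 8}.ncard = 495 := by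
  obtain ⟨g, hg, rfl⟩ := dodecads_transitive hd
  obtain ⟨hall, c4, c6, c8⟩ := dod_counts
  have hc : ∀ k, {d' : Finset GolayPt | d' ∈ dodecads ∧ (g • toSet baseDodecad ∩ d').card = k}.ncard =
      countLt (fun i => Nat.beq (bc (Nat.land baseDodecad (one dodTbl i))) k) dodTbl.N := by
    intro k
    rw [ncard_smul_iff g _ (fun U => U ∈ dodecads ∧ (toSet baseDodecad ∩ U).card = k)
      (fun U => by rw [dodecads_smul_iff hg, inter_card_smul])]
    exact dodecads_complete.count (fun U => (toSet baseDodecad ∩ U).card = k)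
      (fun n => Nat.beq (bc (Nat.land baseDodecad n)) k) (fun i _ => by rw [card_inter_mask, Nat.beq_eq])
  refine ⟨fun d' hd' hne => ?_, (hc 4).trans c4, (hc 6).trans c6, (hc 8).trans c8⟩
  obtain ⟨U, rfl⟩ : ∃ U, d' = g • U := ⟨g⁻¹ • d', (smul_inv_smul g d').symm⟩
  rw [dodecads_smul_iff hg] at hd'
  obtain ⟨i, hi, rfl⟩ := dodecads_complete.index hd'
  rw [inter_card_smul, card_inter_mask]
  have := allLt_spec hall i hi
  simp only [Bool.or_eq_true, Nat.beq_eq] at this
  rcases this with e | e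
  · exact absurd (by rw [show one dodTbl i = baseDodecad from e]) hne
  · simpa [memB_iff] using e

end Cfsg.Agent.S1560
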