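import Cfsg.Statements.S1561
import Cfsg.Agent.Lib.M24Cert.SmallSets

set_option autoImplicit false
open scoped Pointwise
open Cfsg CfsgLib.Golay CfsgLib.M24Cert

namespace Cfsg.Agent.S1561

open Cfsg CfsgLib.Golay CfsgLib.M24Cert in
theorem dod_classes : fixOk [baseDodecad] dodOnDodGens = true ∧
    classesOk dodTbl dodOnDodGens dodOnDodAux (fun _ => true) (fun n => bc (Nat.land baseDodecad n))
      [(12, 23), (8, 0), (6, 1), (4, 116), (0, 2552)] = true := by
  refine ⟨?_, ?_⟩ <;> decide +kernel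


/-- Two dodecads meeting a fixed dodecad in equally many points lie in one orbit of its stabiliser. -/
theorem result (d d' d'' : Finset Cfsg.GolayPt) (hd : d ∈ Cfsg.dodecads) (hd' : d' ∈ Cfsg.dodecads) (hd'' : d'' ∈ Cfsg.dodecads) (h : (d ∩ d').card = (d ∩ d'').card) : ∃ g : Equiv.Perm Cfsg.GolayPt, g ∈ Cfsg.M24 ∧ g • d = d ∧ g • d' = d'' := by
  obtain ⟨g, hg, rfl⟩ := dodecads_transitive hd
  obtain ⟨U', rfl⟩ : ∃ U, d' = g • U := ⟨g⁻¹ • d', (smul_inv_smul g d').symm⟩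
  obtain ⟨U'', rfl⟩ : ∃ U, d'' = g • U := ⟨g⁻¹ • d'', (smul_inv_smul g d'').symm⟩
  rw [dodecads_smul_iff hg] at hd' hd''
  rw [inter_card_smul, inter_card_smul] at h
  obtain ⟨u, hu, e⟩ := dodecads_complete.conj_key dod_classes.2 (fixOk_spec dod_classes.1) hd' hd''
    (fun i _ j _ ei ej => by
      subst ei ej
      rw [card_inter_mask, card_inter_mask] at h
      exact ⟨rfl, rfl, h⟩)
  exact ⟨g * u * g⁻¹, mem_M24_conj hg (mem_fixMasks.1 hu).1,
    by rw [conj_smul_smul, (mem_fixMasks.1 hu).2 baseDodecad (by simp)],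
    by rw [conj_smul_smul, e]⟩

end Cfsg.Agent.S1561
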