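import Cfsg.Statements.S1562
import Cfsg.Agent.Lib.M24Cert.SmallSets

set_option autoImplicit false
open scoped Pointwise
open Cfsg CfsgLib.Golay CfsgLib.M24Cert

namespace Cfsg.Agent.S1562

/-- Orbits of a triad stabiliser on the triads disjoint from it: the 210 triads inside a common octad with it form one orbit and the remaining 1120 another. -/
theorem result (T : Finset Cfsg.GolayPt) (hT : T.card = 3) : {U : Finset Cfsg.GolayPt | U.card = 3 ∧ Disjoint T U ∧ (∃ o ∈ Cfsg.octads, T ∪ U ⊆ o)}.ncard = 210 ∧ {U : Finset Cfsg.GolayPt | U.card = 3 ∧ Disjoint T U ∧ ¬ (∃ o ∈ Cfsg.octads, T ∪ U ⊆ o)}.ncard = 1120 ∧ ∀ U U' : Finset Cfsg.GolayPt, U.card = 3 → U'.card = 3 → Disjoint T U → Disjoint T U' → ((∃ o ∈ Cfsg.octads, T ∪ U ⊆ o) ↔ (∃ o ∈ Cfsg.octads, T ∪ U' ⊆ o)) → ∃ g : Equiv.Perm Cfsg.GolayPt, g ∈ Cfsg.M24 ∧ g • T = T ∧ g • U = U' := by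
  obtain ⟨g, hg, rfl⟩ := triple_map hT
  obtain ⟨hfix, hcl, c1, c0, -, -, hin, -⟩ := triple_forests
  have hQ : ∀ i < tripTbl.N, (∃ o ∈ octads, toSet 7 ∪ toSet (one tripTbl i) ⊆ o) ↔
      inSome octsThree (7 ||| one tripTbl i) = true := fun i _ =>
    inSome_iff octsThree_ok (by norm_num) (one_lt _ _ rfl)
  refine ⟨?_, ?_, ?_⟩
  · rw [ncard_smul_iff g _ (fun U => U.card = 3 ∧ Disjoint (toSet 7) U ∧ ∃ o ∈ octads, toSet 7 ∪ U ⊆ o)
      (fun U => by rw [card_smul_iff, disjoint_smul, ← Finset.smul_finset_union, in_octad_smul hg])]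
    refine (triples_complete.count (fun U => Disjoint (toSet 7) U ∧ ∃ o ∈ octads, toSet 7 ∪ U ⊆ o)
      (fun n => Nat.beq (bc (Nat.land 7 n)) 0 && inSome octsThree (7 ||| n)) fun i hi => ?_).trans c1
    rw [disjoint_mask (by norm_num), hQ i hi, Bool.and_eq_true, Nat.beq_eq]
  · rw [ncard_smul_iff g _ (fun U => U.card = 3 ∧ Disjoint (toSet 7) U ∧ ¬ ∃ o ∈ octads, toSet 7 ∪ U ⊆ o)
      (fun U => by rw [card_smul_iff, disjoint_smul, ← Finset.smul_finset_union, in_octad_smul hg])]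
    refine (triples_complete.count (fun U => Disjoint (toSet 7) U ∧ ¬ ∃ o ∈ octads, toSet 7 ∪ U ⊆ o)
      (fun n => Nat.beq (bc (Nat.land 7 n)) 0 && !inSome octsThree (7 ||| n)) fun i hi => ?_).trans c0
    rw [disjoint_mask (by norm_num), hQ i hi, Bool.and_eq_true, Nat.beq_eq, Bool.not_eq_true', Bool.not_eq_true]
  intro U U' hU hU' hd hd' h
  obtain ⟨V, rfl⟩ : ∃ V, U = g • V := ⟨g⁻¹ • U, (smul_inv_smul g U).symm⟩
  obtain ⟨V', rfl⟩ : ∃ V, U' = g • V := ⟨g⁻¹ • U', (smul_inv_smul g U').symm⟩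
  rw [card_smul_iff] at hU hU'
  rw [disjoint_smul] at hd hd'
  rw [← Finset.smul_finset_union, ← Finset.smul_finset_union, in_octad_smul hg, in_octad_smul hg] at h
  obtain ⟨u, hu, e⟩ := triples_complete.conj_key hcl (fixOk_spec hfix) (s := V) (s' := V') hU hU'
    (fun i hi j hj ei ej => by
      subst ei ej
      rw [hQ i hi, hQ j hj, ← Bool.eq_iff_iff] at h
      rw [disjoint_mask (by norm_num)] at hd hd'
      exact ⟨rfl, rfl, by rw [hd, hd', h]⟩)
  exact ⟨g * u * g⁻¹, mem_M24_conj hg (mem_fixMasks.1 hu).1,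
    by rw [conj_smul_smul, (mem_fixMasks.1 hu).2 7 (by simp)],
    by rw [conj_smul_smul, e]⟩

end Cfsg.Agent.S1562
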