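import Cfsg.Statements.S1563
import Cfsg.Agent.Lib.M24Cert.SmallSets

set_option autoImplicit false
open scoped Pointwise
open Cfsg CfsgLib.Golay CfsgLib.M24Cert

namespace Cfsg.Agent.S1563

/-- The stabiliser of a pair of points (setwise) is a maximal proper subgroup of the group of the length-24 code. -/
theorem result (s : Finset Cfsg.GolayPt) (hs : s.card = 2) : IsCoatom (MulAction.stabilizer Cfsg.M24 s) := by
  obtain ⟨g, hg, rfl⟩ := pair_map hs
  refine isCoatom_stabilizer_smul (⟨g, hg⟩ : M24) ?_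
  obtain ⟨hfix, hf1, hf0, c1, c0, hobj⟩ := pair_forests
  simp only [List.map_cons, List.map_nil, List.cons.injEq] at hobj
  have hQ : ∀ k, ∀ h ∈ M24, h • toSet 3 = toSet 3 → ∀ U ∈ {s : Finset GolayPt | s.card = 2},
      (toSet 3 ∩ U).card = k → h • U ∈ {s : Finset GolayPt | s.card = 2} ∧ (toSet 3 ∩ h • U).card = k := by
    intro k h hh hfix U hU hk
    refine ⟨(card_smul_iff h U 2).2 hU, ?_⟩
    conv_lhs => rw [← hfix, inter_card_smul]
    exact hk
  have hP : ∀ k, ∀ i < pairTbl.N, (toSet 3 ∩ toSet (one pairTbl i)).card = k ↔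
      Nat.beq (bc (Nat.land 3 (one pairTbl i))) k = true := fun k i _ => by rw [card_inter_mask, Nat.beq_eq]
  obtain ⟨o1, n1⟩ := pairs_complete.orbit_class (Pb := fun n => Nat.beq (bc (Nat.land 3 n)) 1) hfix hf1
    (by decide) (by rw [hobj.2.1]; decide +kernel) _ (hP 1) (hQ 1)
  obtain ⟨o0, n0⟩ := pairs_complete.orbit_class (Pb := fun n => Nat.beq (bc (Nat.land 3 n)) 0) hfix hf0
    (by decide) (by rw [hobj.2.2.1]; decide +kernel) _ (hP 0) (hQ 0)
  have horb : MulAction.orbit M24 (toSet 3) = {s : Finset GolayPt | s.card = 2} := by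
    apply Set.Subset.antisymm
    · rintro _ ⟨⟨a, ha⟩, rfl⟩
      exact (card_smul_iff a _ 2).2 (by rw [card_toSet_bc]; decide +kernel)
    · intro U hU
      obtain ⟨a, ha, rfl⟩ := pair_map hU
      exact ⟨⟨a, ha⟩, rfl⟩
  refine isCoatom_of_suborbits (toSet 3) [toSet (one pairTbl 1), toSet (one pairTbl 5)] [44, 231]
    (by simp only [List.map_cons, List.map_nil, n1, n0, c1, c0]) (by decide) (by decide) ?_
    (by rw [horb, ncard_card_eq]; decide) (by rw [horb, ncard_card_eq]; decide +kernel)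
  rw [horb]
  intro U (hU : U.card = 2)
  have hle : (toSet 3 ∩ U).card ≤ 2 := hU ▸ Finset.card_le_card Finset.inter_subset_right
  obtain h | h | h : (toSet 3 ∩ U).card = 2 ∨ (toSet 3 ∩ U).card = 1 ∨ (toSet 3 ∩ U).card = 0 := by omega
  · have h3 : (toSet 3).card = 2 := by rw [card_toSet_bc]; decide +kernel
    refine Or.inl ?_
    rw [← Finset.eq_of_subset_of_card_le (Finset.inter_subset_left (s₁ := toSet 3) (s₂ := U)) (by omega),
      Finset.eq_of_subset_of_card_le (Finset.inter_subset_right (s₁ := toSet 3) (s₂ := U)) (by omega)]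
  · exact Or.inr ⟨_, List.mem_cons_self, by rw [o1]; exact ⟨hU, h⟩⟩
  · exact Or.inr ⟨_, List.mem_cons_of_mem _ List.mem_cons_self, by rw [o0]; exact ⟨hU, h⟩⟩

end Cfsg.Agent.S1563
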