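import Cfsg.Statements.S1564
import Cfsg.Agent.Lib.M24Cert.SmallSets

set_option autoImplicit false
open scoped Pointwise
open Cfsg CfsgLib.Golay CfsgLib.M24Cert

namespace Cfsg.Agent.S1564

open Cfsg CfsgLib.Golay CfsgLib.M24Cert in
theorem key_counts :
    countLt (fun i => Nat.beq (2 * bc (Nat.land 7 (one tripTbl i)) + cond (inSome octsThree (7 ||| one tripTbl i)) 1 0) 5) tripTbl.N = 63 ∧
    countLt (fun i => Nat.beq (2 * bc (Nat.land 7 (one tripTbl i)) + cond (inSome octsThree (7 ||| one tripTbl i)) 1 0) 3) tripTbl.N = 630 ∧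
    countLt (fun i => Nat.beq (2 * bc (Nat.land 7 (one tripTbl i)) + cond (inSome octsThree (7 ||| one tripTbl i)) 1 0) 1) tripTbl.N = 210 ∧
    countLt (fun i => Nat.beq (2 * bc (Nat.land 7 (one tripTbl i)) + cond (inSome octsThree (7 ||| one tripTbl i)) 1 0) 0) tripTbl.N = 1120 ∧
    allLt (fun i => Nat.beq (one tripTbl i) 7 ||
      memB (2 * bc (Nat.land 7 (one tripTbl i)) + cond (inSome octsThree (7 ||| one tripTbl i)) 1 0) [5, 3, 1, 0]) tripTbl.N = true := by
  refine ⟨?_, ?_, ?_, ?_, ?_⟩ <;> decide +kernel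


/-- The stabiliser of a set of three points (setwise) is a maximal proper subgroup of the group of the length-24 code. -/
theorem result (s : Finset Cfsg.GolayPt) (hs : s.card = 3) : IsCoatom (MulAction.stabilizer Cfsg.M24 s) := by
  classical
  obtain ⟨g, hg, rfl⟩ := triple_map hs
  refine isCoatom_stabilizer_smul (⟨g, hg⟩ : M24) ?_
  obtain ⟨hfix, hcl, c01, c00, c1, c2, hin, hobj⟩ := triple_forests
  simp only [List.map_cons, List.map_nil, List.cons.injEq] at hobj
  simp only [classesOk, Bool.and_eq_true, allB_iff] at hcl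
  obtain ⟨hf, -⟩ := hcl
  let key : Finset GolayPt → ℕ → Prop := fun U k =>
    2 * (toSet 7 ∩ U).card + (if ∃ o ∈ octads, toSet 7 ∪ U ⊆ o then 1 else 0) = k
  have hQ : ∀ k, ∀ h ∈ M24, h • toSet 7 = toSet 7 → ∀ U ∈ {s : Finset GolayPt | s.card = 3},
      key U k → h • U ∈ {s : Finset GolayPt | s.card = 3} ∧ key (h • U) k := by
    intro k h hh hfix U hU hk
    refine ⟨(card_smul_iff h U 3).2 hU, ?_⟩
    show _ = k
    have e1 : (toSet 7 ∩ h • U).card = (toSet 7 ∩ U).card := by
      conv_lhs => rw [← hfix, inter_card_smul]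
    have e2 : (∃ o ∈ octads, toSet 7 ∪ h • U ⊆ o) ↔ ∃ o ∈ octads, toSet 7 ∪ U ⊆ o := by
      rw [← in_octad_smul hh (toSet 7 ∪ U), Finset.smul_finset_union, hfix]
    rw [e1, if_congr e2 rfl rfl]
    exact hk
  have hP : ∀ k, ∀ i < tripTbl.N, key (toSet (one tripTbl i)) k ↔
      Nat.beq (2 * bc (Nat.land 7 (one tripTbl i)) + cond (inSome octsThree (7 ||| one tripTbl i)) 1 0) k = true := by
    intro k i _
    show _ = k ↔ _
    rw [card_inter_mask, if_congr (inSome_iff octsThree_ok (by norm_num) (one_lt _ _ rfl)) rfl rfl, Nat.beq_eq,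
      ← Bool.cond_eq_ite]
  have horbit : ∀ c ∈ [(5, 1), (3, 7), (1, 44), (0, 19)], (hc : c.2 < tripTbl.N) →
      Nat.beq (2 * bc (Nat.land 7 (one tripTbl c.2)) + cond (inSome octsThree (7 ||| one tripTbl c.2)) 1 0) c.1 = true →
      MulAction.orbit ↥(MulAction.stabilizer M24 (toSet 7)) (toSet (one tripTbl c.2)) =
          {U | U.card = 3 ∧ key U c.1} ∧
        (MulAction.orbit ↥(MulAction.stabilizer M24 (toSet 7)) (toSet (one tripTbl c.2))).ncard =
          countLt (fun i => Nat.beq (2 * bc (Nat.land 7 (one tripTbl i)) +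
            cond (inSome octsThree (7 ||| one tripTbl i)) 1 0) c.1) tripTbl.N := by
    intro c hc hlt hb
    have := hf c (List.mem_cons_of_mem _ hc)
    exact triples_complete.orbit_class
      (Pb := fun n => Nat.beq (2 * bc (Nat.land 7 n) + cond (inSome octsThree (7 ||| n)) 1 0) c.1)
      hfix (by simpa using this) hlt hb _ (hP c.1) (hQ c.1)
  obtain ⟨o5, n5⟩ := horbit (5, 1) (by simp) (by decide) (by decide +kernel)
  obtain ⟨o3, n3⟩ := horbit (3, 7) (by simp) (by decide) (by decide +kernel)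
  obtain ⟨o1, n1⟩ := horbit (1, 44) (by simp) (by decide) (by decide +kernel)
  obtain ⟨o0, n0⟩ := horbit (0, 19) (by simp) (by decide) (by decide +kernel)
  have horb : MulAction.orbit M24 (toSet 7) = {s : Finset GolayPt | s.card = 3} := by
    apply Set.Subset.antisymm
    · rintro _ ⟨⟨a, ha⟩, rfl⟩
      exact (card_smul_iff a _ 3).2 (by rw [card_toSet_bc]; decide +kernel)
    · intro U hU
      obtain ⟨a, ha, rfl⟩ := triple_map hU
      exact ⟨⟨a, ha⟩, rfl⟩
  refine isCoatom_of_suborbits (toSet 7)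
    [toSet (one tripTbl 1), toSet (one tripTbl 7), toSet (one tripTbl 44), toSet (one tripTbl 19)] [63, 630, 210, 1120]
    (by rw [List.map_cons, List.map_cons, List.map_cons, List.map_cons, List.map_nil, n5, n3, n1, n0,
      key_counts.1, key_counts.2.1, key_counts.2.2.1, key_counts.2.2.2.1])
    (by decide) (by decide) ?_
    (by rw [horb, ncard_card_eq]; decide) (by rw [horb, ncard_card_eq]; decide +kernel)
  rw [horb]
  intro U hU
  obtain ⟨i, hi, rfl⟩ := triples_complete.index hU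
  have hk := allLt_spec key_counts.2.2.2.2 i hi
  simp only [Bool.or_eq_true, memB_iff] at hk
  rcases hk with hk | hk
  · exact Or.inl (by rw [Nat.eq_of_beq_eq_true hk])
  · have hkey := fun k (e : _ = k) => (hP k i hi).2 (Nat.beq_eq.mpr e)
    simp only [List.mem_cons, List.not_mem_nil, or_false] at hk
    rcases hk with e | e | e | e
    · exact Or.inr ⟨_, List.mem_cons_self, by rw [o5]; exact ⟨hU, hkey 5 e⟩⟩
    · exact Or.inr ⟨_, List.mem_cons_of_mem _ List.mem_cons_self, by rw [o3]; exact ⟨hU, hkey 3 e⟩⟩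
    · exact Or.inr ⟨toSet (one tripTbl 44), by simp, by rw [o1]; exact ⟨hU, hkey 1 e⟩⟩
    · exact Or.inr ⟨toSet (one tripTbl 19), by simp, by rw [o0]; exact ⟨hU, hkey 0 e⟩⟩

end Cfsg.Agent.S1564
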