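import Cfsg.Statements.S1565
import Cfsg.Agent.Lib.M24Cert.Suborbits

set_option autoImplicit false
open scoped Pointwise
open Cfsg CfsgLib.Golay CfsgLib.M24Cert

namespace Cfsg.Agent.S1565

/-- The stabiliser of an octad is a maximal proper subgroup of the group of the length-24 code. -/
theorem result (o : Finset Cfsg.GolayPt) (ho : o ∈ Cfsg.octads) : IsCoatom (MulAction.stabilizer Cfsg.M24 o) := by
  set rep : ℕ → Finset GolayPt := fun n => Classical.choose (octads_transitive ho) • toSet n with hrep
  obtain ⟨hg, hgo⟩ := Classical.choose_spec (octads_transitive ho)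
  set g := Classical.choose (octads_transitive ho)
  have hoct : ∀ n, isOctB n = true → g • toSet n ∈ octads := fun n h => octads_smul hg (isOctB_spec h)
  have hint : ∀ n, (o ∩ g • toSet n).card = bc (baseOctad &&& n) := fun n => by
    rw [← hgo, ← Finset.smul_finset_inter, Finset.card_smul_finset, ← card_toSet_bc, toSet_and]
  have h0 := (octad_pair ho (hoct 1009728 (by decide +kernel))).2.2.1 (by rw [hint]; decide +kernel)
  have h4 := (octad_pair ho (hoct 10558 (by decide +kernel))).2.2.2.1 (by rw [hint]; decide +kernel)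
  have h2 := (octad_pair ho (hoct 31554 (by decide +kernel))).2.2.2.2 (by rw [hint]; decide +kernel)
  have horb : MulAction.orbit M24 o = octads := by
    apply Set.Subset.antisymm
    · rintro _ ⟨⟨a, ha⟩, rfl⟩
      exact octads_smul ha ho
    · intro y hy
      obtain ⟨k, hk, rfl⟩ := octads_transitive hy
      exact ⟨⟨k * g⁻¹, mul_mem hk (inv_mem hg)⟩, show (k * g⁻¹) • o = _ by
        rw [← hgo, mul_smul, inv_smul_smul]⟩
  refine isCoatom_of_suborbits o [rep 1009728, rep 10558, rep 31554] [30, 280, 448]
    (by simp only [List.map_cons, List.map_nil, hrep, h0, h4, h2]) (by decide) (by decide) ?_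
    (by rw [horb, octads_ncard]; omega) ?_
  · rw [horb]
    intro y hy
    obtain ⟨hcard, ⟨k, hk, hko, hky⟩, -⟩ := octad_pair ho hy
    have hk' : k * g⁻¹ ∈ M24 := mul_mem hk (inv_mem hg)
    have hfix : (k * g⁻¹) • o = o := by
      conv_lhs => rw [← hgo, mul_smul, inv_smul_smul]
      exact hko
    have hmove : ∀ n, k • toSet n = y → y ∈ MulAction.orbit ↥(MulAction.stabilizer M24 o) (rep n) := fun n e =>
      ⟨⟨⟨k * g⁻¹, hk'⟩, hfix⟩, show (k * g⁻¹) • rep n = y by rw [hrep, mul_smul, inv_smul_smul, e]⟩
    rcases hcard with e | e | e | e <;> rw [e] at hky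
    · exact Or.inr ⟨_, by simp [secondOctad], hmove _ hky⟩
    · exact Or.inr ⟨_, by simp [secondOctad], hmove _ hky⟩
    · exact Or.inr ⟨_, by simp [secondOctad], hmove _ hky⟩
    · refine Or.inl (Eq.symm ?_)
      rw [← hko]; exact hky
  · intro s hs hd
    rw [horb, octads_ncard] at hd ⊢
    simp [subSums] at hs
    rcases hs with rfl | rfl | rfl | rfl | rfl | rfl | rfl | rfl <;> omega

end Cfsg.Agent.S1565
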