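import Cfsg.Statements.S1566
import Cfsg.Agent.Lib.M24Cert.Coatom

set_option autoImplicit false
open scoped Pointwise
open Cfsg CfsgLib.Golay CfsgLib.M24Cert

namespace Cfsg.Agent.S1566

open Cfsg CfsgLib.Golay CfsgLib.M24Cert in
theorem dpTbl_valid : allLt (fun i =>
    let a := one dpTbl i
    inCodeT a && Nat.beq (bc a) 12 && eqB (dpTbl.obj i) [a, a ^^^ 16777215]) dpTbl.N = true := by decide +kernel

open Cfsg CfsgLib.Golay CfsgLib.M24Cert in
theorem dpOnDp_gens : gensOk [340831, 16436384] dpOnDpGens = true := by decide +kernel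

open Cfsg CfsgLib.Golay CfsgLib.M24Cert in
theorem dpOnDp_forest : dpTbl.forestOk dpOnDpGens dpOnDpAux (fun _ => true) [1264, 0, 2] = true ∧
    rootsOk dpTbl [340831, 16436384] [1264, 0, 2] = true ∧
    ([0, 2].map fun r =>
      countLt (fun i => Nat.beq (posCodeL [340831, 16436384] (dpTbl.obj i)) (posCodeL [340831, 16436384] (dpTbl.obj r))) dpTbl.N) =
      [495, 792] := by
  refine ⟨?_, ?_, ?_⟩ <;> decide +kernel


/-- The setwise stabiliser of a dodecad together with its complement is a maximal proper subgroup of the group of the length-24 code. -/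
theorem result (d : Finset Cfsg.GolayPt) (hd : d ∈ Cfsg.dodecads) : IsCoatom (MulAction.stabilizer Cfsg.M24 ({d, dᶜ} : Finset (Finset Cfsg.GolayPt))) := by
  have hbase : oset [340831, 16436384] = ({toSet baseDodecad, (toSet baseDodecad)ᶜ} : Finset (Finset GolayPt)) := by
    decide +kernel
  have hrange : ∀ {e : Finset GolayPt}, e ∈ dodecads → ∃ g ∈ M24, g • oset [340831, 16436384] = {e, eᶜ} := by
    intro e he
    obtain ⟨g, hg, rfl⟩ := dodecads_transitive he
    refine ⟨g, hg, ?_⟩
    rw [hbase, Finset.smul_finset_insert, Finset.smul_finset_singleton, Finset.compl_eq_univ_sdiff,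
      Finset.compl_eq_univ_sdiff, Finset.smul_finset_sdiff, Finset.smul_finset_univ]
  have htr : ∀ Y ∈ dpTbl.range, ∃ g ∈ M24, g • oset [340831, 16436384] = Y := by
    rintro _ ⟨i, hi, rfl⟩
    have h := allLt_spec dpTbl_valid i hi
    simp only [Bool.and_eq_true, Nat.beq_eq] at h
    obtain ⟨⟨ha, hw⟩, hobj⟩ := h
    obtain ⟨g, hg, e⟩ := hrange (mem_wordsOfWeight.2 ⟨_, mem_golayList_of_inCodeT ha,
      by rw [bitCount_eq_bc]; exact hw, rfl⟩)
    refine ⟨g, hg, e.trans ?_⟩
    rw [Tbl.el, eqB_eq hobj]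
    simp only [oset, List.map_cons, List.map_nil, List.toFinset_cons, List.toFinset_nil, insert_empty_eq]
    congr 2
    ext p
    have hall : toSet 16777215 = Finset.univ := by decide +kernel
    have := congrArg (fun s => p ∈ s) hall
    simp only [Finset.mem_univ, eq_iff_iff, iff_true] at this
    rw [Finset.mem_compl, toSet_xor, Finset.mem_symmDiff]
    tauto
  obtain ⟨g, hg, hA⟩ := hrange hd
  have hobj : dpTbl.obj 1264 = [340831, 16436384] := by decide +kernel
  have hmem : ({d, dᶜ} : Finset (Finset GolayPt)) ∈ dpTbl.range := by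
    rw [← hA, ← hobj]
    exact Tbl.smul_mem dpTbl_closed hg ⟨1264, (by decide : 1264 < 1288), rfl⟩
  obtain ⟨-, -, -, -, -, h⟩ := tbl_rank (r₀ := 1264) (rest := [0, 2]) dpTbl_sorted dpTbl_closed
    (hobj ▸ dpTbl.small 1264) (by decide +kernel) dpOnDp_gens dpOnDp_forest.1
    dpOnDp_forest.2.1 hobj dpOnDp_forest.2.2 (by decide) (by decide) (by decide) (by decide +kernel) htr hmem
  exact h

end Cfsg.Agent.S1566
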