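import Cfsg.Statements.S1569
import Cfsg.Agent.Lib.Leech.Cross

set_option autoImplicit false
open scoped Pointwise
open Cfsg

namespace Cfsg.Agent.S1569

/-- The cross through a lattice vector of customary norm 8 has exactly 48 members. -/
theorem result (x : Cfsg.GolayPt → ℤ) (hx : x ∈ Cfsg.leechLattice) (hxn : Cfsg.sqNorm x = 64) : (Cfsg.cross x).ncard = 48 := by
  let v : Cfsg.leechLattice := ⟨x, hx⟩
  have hv : CfsgLib.Leech.leechEven.b v v = 8 :=
    CfsgLib.Leech.inner_self_of_norm (by rw [hxn]; norm_num)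
  rw [← CfsgLib.Leech.leechEven.ncard_cls8 hv,
    ← Set.ncard_image_of_injective _ (Subtype.val_injective (p := (· ∈ Cfsg.leechLattice)))]
  congr 1
  ext y
  constructor
  · rintro ⟨hy, hn, hz⟩
    refine ⟨⟨y, hy⟩, ⟨CfsgLib.Leech.inner_self_of_norm (by rw [hn, hxn]; norm_num), ?_⟩, rfl⟩
    exact CfsgLib.Leech.mem_twoMul_leech.2 hz
  · rintro ⟨w, ⟨hw, hz⟩, rfl⟩
    refine ⟨w.2, ?_, CfsgLib.Leech.mem_twoMul_leech.1 hz⟩
    have := CfsgLib.Leech.eight_mul_inner_self w
    simp only [CfsgLib.Leech.leechEven] at hw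
    omega

end Cfsg.Agent.S1569
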