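import Cfsg.Statements.S1579
import Cfsg.Agent.Lib.Leech.Pairs

set_option autoImplicit false
open Cfsg

namespace Cfsg.Agent.S1579

/-- The stabiliser of a vector of customary norm 6 is transitive on the 552 minimal vectors that complete it to a sum of two minimal vectors. -/
theorem result (u v v' : ↥Cfsg.leechLattice) (hu : Cfsg.sqNorm (u : Cfsg.GolayPt → ℤ) = 48) (hv : Cfsg.sqNorm (v : Cfsg.GolayPt → ℤ) = 32 ∧ Cfsg.sqNorm ((u - v) : Cfsg.GolayPt → ℤ) = 32) (hv' : Cfsg.sqNorm (v' : Cfsg.GolayPt → ℤ) = 32 ∧ Cfsg.sqNorm ((u - v') : Cfsg.GolayPt → ℤ) = 32) : ∃ g : ↥Cfsg.Co0, g • u = u ∧ g • v = v' := by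
  have key : ∀ z : Cfsg.leechLattice, Cfsg.sqNorm (z : Cfsg.GolayPt → ℤ) = 32 →
      Cfsg.sqNorm ((u - z) : Cfsg.GolayPt → ℤ) = 32 →
      ∃ g : Cfsg.Co0, ((g • z : Cfsg.leechLattice) : Cfsg.GolayPt → ℤ) = CfsgLib.Leech.pair8v ∧
        ((g • (u - z) : Cfsg.leechLattice) : Cfsg.GolayPt → ℤ) = CfsgLib.Leech.pair8w := by
    intro z hz hz'
    refine CfsgLib.Leech.exists_pair8 hz (by rw [AddSubgroup.coe_sub]; exact hz') ?_
    have h := CfsgLib.Leech.sqNorm_sub (u : Cfsg.GolayPt → ℤ) (z : Cfsg.GolayPt → ℤ)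
    rw [hz', hu, hz] at h
    rw [AddSubgroup.coe_sub, CfsgLib.Leech.dotInt_sub_right, CfsgLib.Leech.dotInt_comm (z : Cfsg.GolayPt → ℤ)]
    have e : Cfsg.dotInt (z : Cfsg.GolayPt → ℤ) (z : Cfsg.GolayPt → ℤ) = 32 := by
      rw [← hz]; simp [Cfsg.dotInt, Cfsg.sqNorm, pow_two]
    omega
  obtain ⟨g, h1, h2⟩ := CfsgLib.Leech.exists_map_pair (key v hv.1 hv.2) (key v' hv'.1 hv'.2)
  refine ⟨g, ?_, h1⟩
  calc g • u = g • (v + (u - v)) := by rw [add_sub_cancel]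
    _ = v' + (u - v') := by rw [CfsgLib.Leech.smul_add', h1, h2]
    _ = u := add_sub_cancel _ _

end Cfsg.Agent.S1579
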