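import Cfsg.Statements.S1580
import Cfsg.Agent.Lib.Leech.Configs

set_option autoImplicit false
open Cfsg

namespace Cfsg.Agent.S1580

open CfsgLib.Leech in
private theorem conv {u : Cfsg.leechLattice} (hu : Cfsg.sqNorm (u : Cfsg.GolayPt → ℤ) = 48)
    {z : Cfsg.leechLattice} (hz : Cfsg.sqNorm (z : Cfsg.GolayPt → ℤ) = 32) :
    Cfsg.sqNorm ((u - z) : Cfsg.GolayPt → ℤ) = 32 ↔
      Cfsg.dotInt (u : Cfsg.GolayPt → ℤ) (z : Cfsg.GolayPt → ℤ) = 24 := by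
  have h := sqNorm_sub (u : Cfsg.GolayPt → ℤ) (z : Cfsg.GolayPt → ℤ)
  omega


/-- The McLaughlin configuration: for u of customary norm 6 and v minimal with u − v minimal, there are 275 further such summands x of customary inner product 2 with v, permuted transitively by the stabiliser of u and v. -/
theorem result (u v : ↥Cfsg.leechLattice) (hu : Cfsg.sqNorm (u : Cfsg.GolayPt → ℤ) = 48) (hv : Cfsg.sqNorm (v : Cfsg.GolayPt → ℤ) = 32 ∧ Cfsg.sqNorm ((u - v) : Cfsg.GolayPt → ℤ) = 32) : {x : ↥Cfsg.leechLattice | Cfsg.sqNorm (x : Cfsg.GolayPt → ℤ) = 32 ∧ Cfsg.sqNorm ((u - x) : Cfsg.GolayPt → ℤ) = 32 ∧ Cfsg.dotInt (v : Cfsg.GolayPt → ℤ) (x : Cfsg.GolayPt → ℤ) = 16}.ncard = 275 ∧ ∀ x ∈ {x : ↥Cfsg.leechLattice | Cfsg.sqNorm (x : Cfsg.GolayPt → ℤ) = 32 ∧ Cfsg.sqNorm ((u - x) : Cfsg.GolayPt → ℤ) = 32 ∧ Cfsg.dotInt (v : Cfsg.GolayPt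 → ℤ) (x : Cfsg.GolayPt → ℤ) = 16}, ∀ x' ∈ {x : ↥Cfsg.leechLattice | Cfsg.sqNorm (x : Cfsg.GolayPt → ℤ) = 32 ∧ Cfsg.sqNorm ((u - x) : Cfsg.GolayPt → ℤ) = 32 ∧ Cfsg.dotInt (v : Cfsg.GolayPt → ℤ) (x : Cfsg.GolayPt → ℤ) = 16}, ∃ g : ↥Cfsg.Co0, g • u = u ∧ g • v = v ∧ g • x = x' := by
  have huv := (conv hu hv.1).1 hv.2
  refine ⟨Eq.trans (congrArg Set.ncard (Set.ext fun x => ?_)) (CfsgLib.Leech.ncard_mclPair hu hv.1 huv), ?_⟩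
  · constructor
    · rintro ⟨h1, h2, h3⟩; exact ⟨h1, (conv hu h1).1 h2, h3⟩
    · rintro ⟨h1, h2, h3⟩; exact ⟨h1, (conv hu h1).2 h2, h3⟩
  rintro x ⟨hx, hux, hvx⟩ x' ⟨hx', hux', hvx'⟩
  obtain ⟨g, h1, h2, h3⟩ := CfsgLib.Leech.exists_map_triple
    (CfsgLib.Leech.exists_triple_mcl hu hv.1 hx huv ((conv hu hx).1 hux) hvx)
    (CfsgLib.Leech.exists_triple_mcl hu hv.1 hx' huv ((conv hu hx').1 hux') hvx')
  exact ⟨g, h3, h1, h2⟩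

end Cfsg.Agent.S1580
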