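import Cfsg.Statements.S1581
import Cfsg.Agent.Lib.Leech.Configs

set_option autoImplicit false
open Cfsg

namespace Cfsg.Agent.S1581

open CfsgLib.Leech in
private theorem conv {u : Cfsg.leechLattice} (hu : Cfsg.sqNorm (u : Cfsg.GolayPt → ℤ) = 48)
    {z : Cfsg.leechLattice} (hz : Cfsg.sqNorm (z : Cfsg.GolayPt → ℤ) = 32) :
    Cfsg.sqNorm ((u - z) : Cfsg.GolayPt → ℤ) = 32 ↔
      Cfsg.dotInt (u : Cfsg.GolayPt → ℤ) (z : Cfsg.GolayPt → ℤ) = 24 := by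
  have h := sqNorm_sub (u : Cfsg.GolayPt → ℤ) (z : Cfsg.GolayPt → ℤ)
  omega


/-- The McLaughlin group acts with rank 3 and subdegrees 1, 112, 162 on its 275 points: the point stabiliser has two orbits on the remaining points, distinguished by customary inner product 1 or 2 with the fixed point. -/
theorem result (u v x : ↥Cfsg.leechLattice) (hu : Cfsg.sqNorm (u : Cfsg.GolayPt → ℤ) = 48) (hv : Cfsg.sqNorm (v : Cfsg.GolayPt → ℤ) = 32 ∧ Cfsg.sqNorm ((u - v) : Cfsg.GolayPt → ℤ) = 32) (hx : x ∈ {x : ↥Cfsg.leechLattice | Cfsg.sqNorm (x : Cfsg.GolayPt → ℤ) = 32 ∧ Cfsg.sqNorm ((u - x) : Cfsg.GolayPt → ℤ) = 32 ∧ Cfsg.dotInt (v : Cfsg.GolayPt → ℤ) (x : Cfsg.GolayPt → ℤ) = 16}) : {y : ↥Cfsg.leechLattice | y ∈ {x : ↥Cfsg.leechLattice | Cfsg.sqNorm (x : Cfsg.GolayPt → ℤ) = 32 ∧ Cfsg.sqNorm ((u - x) : Cfsg.GolayPt → ℤ) = 32 ∧ Cfsg.dotInt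 (v : Cfsg.GolayPt → ℤ) (x : Cfsg.GolayPt → ℤ) = 16} ∧ Cfsg.dotInt (x : Cfsg.GolayPt → ℤ) (y : Cfsg.GolayPt → ℤ) = 8}.ncard = 112 ∧ {y : ↥Cfsg.leechLattice | y ∈ {x : ↥Cfsg.leechLattice | Cfsg.sqNorm (x : Cfsg.GolayPt → ℤ) = 32 ∧ Cfsg.sqNorm ((u - x) : Cfsg.GolayPt → ℤ) = 32 ∧ Cfsg.dotInt (v : Cfsg.GolayPt → ℤ) (x : Cfsg.GolayPt → ℤ) = 16} ∧ y ≠ x ∧ Cfsg.dotInt (x : Cfsg.GolayPt → ℤ) (y : Cfsg.GolayPt → ℤ) = 16}.ncard = 162 ∧ ∀ y ∈ {x : ↥Cfsg.leechLattice | Cfsg.sqNorm (x : Cfsg.GolayPt → ℤ) = 32 ∧ Cfsg.sqNorm ((u - x) : Cfsg.GolayPt → ℤ) = 32 ∧ Cfsg.dotInt (v : Cfsg.GolayPt → ℤ) (x : Cfsg.GolayPt → ℤ) = 16}, ∀ y' ∈ {x : ↥Cfsg.leechLattice | Cfsg.sqNorm (x : Cfsg.GolayPt → ℤ) = 32 ∧ Cfsg.sqNorm ((u - x) : Cfsg.GolayPt → ℤ) = 32 ∧ Cfsg.dotInt (v : Cfsg.GolayPt → ℤ) (x : Cfsg.GolayPt → ℤ) = 16}, y ≠ x → y' ≠ x → Cfsg.dotInt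 (x : Cfsg.GolayPt → ℤ) (y : Cfsg.GolayPt → ℤ) = Cfsg.dotInt (x : Cfsg.GolayPt → ℤ) (y' : Cfsg.GolayPt → ℤ) → ∃ g : ↥Cfsg.Co0, g • u = u ∧ g • v = v ∧ g • x = x ∧ g • y = y' := by
  classical
  obtain ⟨hx, hux', hvx⟩ := hx
  have huv := (conv hu hv.1).1 hv.2
  have hux := (conv hu hx).1 hux'
  set X := {x : ↥Cfsg.leechLattice | Cfsg.sqNorm (x : Cfsg.GolayPt → ℤ) = 32 ∧
    Cfsg.sqNorm ((u - x) : Cfsg.GolayPt → ℤ) = 32 ∧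
    Cfsg.dotInt (v : Cfsg.GolayPt → ℤ) (x : Cfsg.GolayPt → ℤ) = 16} with hX
  have h275 : X.ncard = 275 := by
    refine Eq.trans (congrArg Set.ncard (Set.ext fun y => ?_)) (CfsgLib.Leech.ncard_mclPair hu hv.1 huv)
    constructor
    · rintro ⟨h1, h2, h3⟩; exact ⟨h1, (conv hu h1).1 h2, h3⟩
    · rintro ⟨h1, h2, h3⟩; exact ⟨h1, (conv hu h1).2 h2, h3⟩
  have h112 : {y : ↥Cfsg.leechLattice | y ∈ X ∧
      Cfsg.dotInt (x : Cfsg.GolayPt → ℤ) (y : Cfsg.GolayPt → ℤ) = 8}.ncard = 112 := by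
    refine Eq.trans (congrArg Set.ncard (Set.ext fun y => ?_))
      (CfsgLib.Leech.ncard_mclTriple hu hv.1 hx huv hux hvx)
    constructor
    · rintro ⟨⟨h1, h2, h3⟩, h4⟩; exact ⟨h1, (conv hu h1).1 h2, h3, h4⟩
    · rintro ⟨h1, h2, h3, h4⟩; exact ⟨⟨h1, (conv hu h1).2 h2, h3⟩, h4⟩
  have hdot : ∀ y ∈ X, y ≠ x → Cfsg.dotInt (x : Cfsg.GolayPt → ℤ) (y : Cfsg.GolayPt → ℤ) = 8 ∨
      Cfsg.dotInt (x : Cfsg.GolayPt → ℤ) (y : Cfsg.GolayPt → ℤ) = 16 := fun y hy hne =>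
    CfsgLib.Leech.dot_mcl hu hx hy.1 huv hux ((conv hu hy.1).1 hy.2.1) hvx hy.2.2 hne
  refine ⟨h112, ?_, ?_⟩
  · have hfin : X.Finite := Set.finite_of_ncard_ne_zero (by omega)
    have hxX : x ∈ X := ⟨hx, hux', hvx⟩
    have hx8 : x ∉ {y : ↥Cfsg.leechLattice | y ∈ X ∧
        Cfsg.dotInt (x : Cfsg.GolayPt → ℤ) (y : Cfsg.GolayPt → ℤ) = 8} := fun h => by
      have := h.2
      rw [CfsgLib.Leech.dotInt_self, hx] at this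
      omega
    have e : {y : ↥Cfsg.leechLattice | y ∈ X ∧ y ≠ x ∧
        Cfsg.dotInt (x : Cfsg.GolayPt → ℤ) (y : Cfsg.GolayPt → ℤ) = 16} =
        X \ insert x {y : ↥Cfsg.leechLattice | y ∈ X ∧
          Cfsg.dotInt (x : Cfsg.GolayPt → ℤ) (y : Cfsg.GolayPt → ℤ) = 8} := by
      ext y
      constructor
      · rintro ⟨h1, h2, h3⟩
        refine ⟨h1, ?_⟩
        rintro (h | ⟨-, h⟩)
        · exact h2 h
        · omega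
      · rintro ⟨h1, h2⟩
        have hne : y ≠ x := fun h => h2 (Or.inl h)
        exact ⟨h1, hne, (hdot y h1 hne).resolve_left fun h => h2 (Or.inr ⟨h1, h⟩)⟩
    rw [e, Set.ncard_sdiff (Set.insert_subset hxX fun y hy => hy.1)
      ((hfin.subset fun y hy => hy.1).insert x),
      Set.ncard_insert_of_notMem hx8 (hfin.subset fun y hy => hy.1), h275, h112]
  intro y hy y' hy' hne hne' heq
  have hd : ∀ z ∈ X, Cfsg.dotInt (u : Cfsg.GolayPt → ℤ) (z : Cfsg.GolayPt → ℤ) = 24 :=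
    fun z hz => (conv hu hz.1).1 hz.2.1
  rcases hdot y hy hne with h | h
  · obtain ⟨g, h1, h2, h3, h4⟩ := CfsgLib.Leech.exists_map_quad
      (CfsgLib.Leech.exists_quad_mcl8 hu hv.1 hx hy.1 huv hux (hd y hy) hvx hy.2.2 h)
      (CfsgLib.Leech.exists_quad_mcl8 hu hv.1 hx hy'.1 huv hux (hd y' hy') hvx hy'.2.2 (heq ▸ h))
    exact ⟨g, h1, h2, h3, h4⟩
  · obtain ⟨g, h1, h2, h3, h4⟩ := CfsgLib.Leech.exists_map_quad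
      (CfsgLib.Leech.exists_quad_mcl16 hu hv.1 hx hy.1 huv hux (hd y hy) hvx hy.2.2 h)
      (CfsgLib.Leech.exists_quad_mcl16 hu hv.1 hx hy'.1 huv hux (hd y' hy') hvx hy'.2.2 (heq ▸ h))
    exact ⟨g, h1, h2, h3, h4⟩

end Cfsg.Agent.S1581
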