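import Cfsg.Statements.S1583
import Cfsg.Agent.Lib.Leech.Configs

set_option autoImplicit false
open Cfsg

namespace Cfsg.Agent.S1583

open CfsgLib.Leech in
private theorem sum_facts {v w : Cfsg.leechLattice} (hv : Cfsg.sqNorm (v : Cfsg.GolayPt → ℤ) = 48)
    (hw : Cfsg.sqNorm (w : Cfsg.GolayPt → ℤ) = 48)
    (hvw : Cfsg.dotInt (v : Cfsg.GolayPt → ℤ) (w : Cfsg.GolayPt → ℤ) = -32) :
    Cfsg.sqNorm ((v + w : Cfsg.leechLattice) : Cfsg.GolayPt → ℤ) = 32 ∧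
    Cfsg.dotInt (v : Cfsg.GolayPt → ℤ) ((v + w : Cfsg.leechLattice) : Cfsg.GolayPt → ℤ) = 16 ∧
    ∀ x : Cfsg.leechLattice, Cfsg.dotInt (v : Cfsg.GolayPt → ℤ) (x : Cfsg.GolayPt → ℤ) = 24 →
      (Cfsg.dotInt (w : Cfsg.GolayPt → ℤ) (x : Cfsg.GolayPt → ℤ) = -24 ↔
        Cfsg.dotInt ((v + w : Cfsg.leechLattice) : Cfsg.GolayPt → ℤ) (x : Cfsg.GolayPt → ℤ) = 0) := by
  refine ⟨?_, ?_, fun x hx => ?_⟩
  · rw [AddSubgroup.coe_add, sqNorm_add, hv, hw, hvw]; norm_num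
  · rw [AddSubgroup.coe_add, dotInt_add_right, dotInt_self, hv, hvw]; norm_num
  · rw [AddSubgroup.coe_add, dotInt_comm ((v : Cfsg.GolayPt → ℤ) + (w : Cfsg.GolayPt → ℤ)), dotInt_add_right,
      dotInt_comm (x : Cfsg.GolayPt → ℤ), hx, dotInt_comm (x : Cfsg.GolayPt → ℤ)]
    omega


/-- The Higman–Sims configuration: for two vectors of customary norm 6 with inner product −4, exactly 100 minimal vectors have customary inner products 3 and −3 with them, and the joint stabiliser permutes these transitively. -/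
theorem result (v w : ↥Cfsg.leechLattice) (hv : Cfsg.sqNorm (v : Cfsg.GolayPt → ℤ) = 48) (hw : Cfsg.sqNorm (w : Cfsg.GolayPt → ℤ) = 48) (hvw : Cfsg.dotInt (v : Cfsg.GolayPt → ℤ) (w : Cfsg.GolayPt → ℤ) = -32) : {x : ↥Cfsg.leechLattice | Cfsg.sqNorm (x : Cfsg.GolayPt → ℤ) = 32 ∧ Cfsg.dotInt (v : Cfsg.GolayPt → ℤ) (x : Cfsg.GolayPt → ℤ) = 24 ∧ Cfsg.dotInt (w : Cfsg.GolayPt → ℤ) (x : Cfsg.GolayPt → ℤ) = -24}.ncard = 100 ∧ ∀ x ∈ {x : ↥Cfsg.leechLattice | Cfsg.sqNorm (x : Cfsg.GolayPt → ℤ) = 32 ∧ Cfsg.dotInt (v : Cfsg.GolayPt → ℤ) (x : Cfsg.GolayPt → ℤ) = 24 ∧ Cfsg.dotInt (w : Cfsg.GolayPt → ℤ) (x : Cfsg.GolayPt → ℤ) = -24}, ∀ x' ∈ {x : ↥Cfsg.leechLattice | Cfsg.sqNorm (x : Cfsg.GolayPt → ℤ) = 32 ∧ Cfsg.dotInt (v : Cfsg.GolayPt → ℤ) (x : Cfsg.GolayPt → ℤ) = 24 ∧ Cfsg.dotInt (w : Cfsg.GolayPt → ℤ) (x : Cfsg.GolayPt → ℤ) = -24},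 ∃ g : ↥Cfsg.Co0, g • v = v ∧ g • w = w ∧ g • x = x' := by
  obtain ⟨hs, hvs, hiff⟩ := sum_facts hv hw hvw
  refine ⟨Eq.trans (congrArg Set.ncard (Set.ext fun x => ?_)) (CfsgLib.Leech.ncard_hsPair hv hs hvs), ?_⟩
  · constructor
    · rintro ⟨h1, h2, h3⟩; exact ⟨h1, h2, (hiff x h2).1 h3⟩
    · rintro ⟨h1, h2, h3⟩; exact ⟨h1, h2, (hiff x h2).2 h3⟩
  rintro x ⟨hx, hvx, hwx⟩ x' ⟨hx', hvx', hwx'⟩
  obtain ⟨g, h1, h2, h3⟩ := CfsgLib.Leech.exists_map_triple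
    (CfsgLib.Leech.exists_triple_hs hv hw hvw hx hvx hwx)
    (CfsgLib.Leech.exists_triple_hs hv hw hvw hx' hvx' hwx')
  refine ⟨g, h3, ?_, h1⟩
  rw [CfsgLib.Leech.smul_add', h3] at h2
  exact add_left_cancel h2

end Cfsg.Agent.S1583
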