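import Cfsg.Statements.S1584
import Cfsg.Agent.Lib.Leech.Configs

set_option autoImplicit false
open Cfsg

namespace Cfsg.Agent.S1584

open CfsgLib.Leech in
private theorem sum_facts {v w : Cfsg.leechLattice} (hv : Cfsg.sqNorm (v : Cfsg.GolayPt → ℤ) = 48)
    (hw : Cfsg.sqNorm (w : Cfsg.GolayPt → ℤ) = 48)
    (hvw : Cfsg.dotInt (v : Cfsg.GolayPt → ℤ) (w : Cfsg.GolayPt → ℤ) = -32) :
    Cfsg.sqNorm ((v + w : Cfsg.leechLattice) : Cfsg.GolayPt → ℤ) = 32 ∧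
    Cfsg.dotInt (v : Cfsg.GolayPt → ℤ) ((v + w : Cfsg.leechLattice) : Cfsg.GolayPt → ℤ) = 16 ∧
    ∀ x : Cfsg.leechLattice, Cfsg.dotInt (v : Cfsg.GolayPt → ℤ) (x : Cfsg.GolayPt → ℤ) = 24 →
      (Cfsg.dotInt (w : Cfsg.GolayPt → ℤ) (x : Cfsg.GolayPt → ℤ) = -24 ↔
        Cfsg.dotInt ((v + w : Cfsg.leechLattice) : Cfsg.GolayPt → ℤ) (x : Cfsg.GolayPt → ℤ) = 0) := by
  refine ⟨?_, ?_, fun x hx => ?_⟩
  · rw [AddSubgroup.coe_add, sqNorm_add, hv, hw, hvw]; norm_num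
  · rw [AddSubgroup.coe_add, dotInt_add_right, dotInt_self, hv, hvw]; norm_num
  · rw [AddSubgroup.coe_add, dotInt_comm ((v : Cfsg.GolayPt → ℤ) + (w : Cfsg.GolayPt → ℤ)), dotInt_add_right,
      dotInt_comm (x : Cfsg.GolayPt → ℤ), hx, dotInt_comm (x : Cfsg.GolayPt → ℤ)]
    omega


/-- The Higman–Sims group acts with rank 3 and subdegrees 1, 22, 77 on its 100 points, the orbits of a point stabiliser being distinguished by customary inner product 1 with the fixed point. -/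
theorem result (v w x : ↥Cfsg.leechLattice) (hv : Cfsg.sqNorm (v : Cfsg.GolayPt → ℤ) = 48) (hw : Cfsg.sqNorm (w : Cfsg.GolayPt → ℤ) = 48) (hvw : Cfsg.dotInt (v : Cfsg.GolayPt → ℤ) (w : Cfsg.GolayPt → ℤ) = -32) (hx : x ∈ {x : ↥Cfsg.leechLattice | Cfsg.sqNorm (x : Cfsg.GolayPt → ℤ) = 32 ∧ Cfsg.dotInt (v : Cfsg.GolayPt → ℤ) (x : Cfsg.GolayPt → ℤ) = 24 ∧ Cfsg.dotInt (w : Cfsg.GolayPt → ℤ) (x : Cfsg.GolayPt → ℤ) = -24}) : {y : ↥Cfsg.leechLattice | y ∈ {x : ↥Cfsg.leechLattice | Cfsg.sqNorm (x : Cfsg.GolayPt → ℤ) = 32 ∧ Cfsg.dotInt (v : Cfsg.GolayPt → ℤ) (x : Cfsg.GolayPt → ℤ) = 24 ∧ Cfsg.dotInt (w : Cfsg.GolayPt → ℤ) (x : Cfsg.GolayPt → ℤ) = -24} ∧ Cfsg.dotInt (x : Cfsg.GolayPt → ℤ) (y : Cfsg.GolayPt → ℤ) = 8}.ncard = 22 ∧ {y : ↥Cfsg.leechLattice | y ∈ {x : ↥Cfsg.leechLattice | Cfsg.sqNorm (x : Cfsg.GolayPt → ℤ)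 = 32 ∧ Cfsg.dotInt (v : Cfsg.GolayPt → ℤ) (x : Cfsg.GolayPt → ℤ) = 24 ∧ Cfsg.dotInt (w : Cfsg.GolayPt → ℤ) (x : Cfsg.GolayPt → ℤ) = -24} ∧ y ≠ x ∧ Cfsg.dotInt (x : Cfsg.GolayPt → ℤ) (y : Cfsg.GolayPt → ℤ) ≠ 8}.ncard = 77 ∧ ∀ y ∈ {x : ↥Cfsg.leechLattice | Cfsg.sqNorm (x : Cfsg.GolayPt → ℤ) = 32 ∧ Cfsg.dotInt (v : Cfsg.GolayPt → ℤ) (x : Cfsg.GolayPt → ℤ) = 24 ∧ Cfsg.dotInt (w : Cfsg.GolayPt → ℤ) (x : Cfsg.GolayPt → ℤ) = -24}, ∀ y' ∈ {x : ↥Cfsg.leechLattice | Cfsg.sqNorm (x : Cfsg.GolayPt → ℤ) = 32 ∧ Cfsg.dotInt (v : Cfsg.GolayPt → ℤ) (x : Cfsg.GolayPt → ℤ) = 24 ∧ Cfsg.dotInt (w : Cfsg.GolayPt → ℤ) (x : Cfsg.GolayPt → ℤ) = -24}, y ≠ x → y' ≠ x → (Cfsg.dotInt (x : Cfsg.GolayPt → ℤ) (y : Cfsg.GolayPt → ℤ) = 8 ↔ Cfsg.dotInt (x : Cfsg.GolayPt → ℤ) (y' : Cfsg.GolayPt → ℤ) = 8) → ∃ g : ↥Cfsg.Co0, g • v = v ∧ g • w =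 w ∧ g • x = x ∧ g • y = y' := by
  classical
  obtain ⟨hx, hvx, hwx⟩ := hx
  obtain ⟨hs, hvs, hiff⟩ := sum_facts hv hw hvw
  set X := {x : ↥Cfsg.leechLattice | Cfsg.sqNorm (x : Cfsg.GolayPt → ℤ) = 32 ∧
    Cfsg.dotInt (v : Cfsg.GolayPt → ℤ) (x : Cfsg.GolayPt → ℤ) = 24 ∧
    Cfsg.dotInt (w : Cfsg.GolayPt → ℤ) (x : Cfsg.GolayPt → ℤ) = -24} with hX
  have h100 : X.ncard = 100 := by
    refine Eq.trans (congrArg Set.ncard (Set.ext fun y => ?_)) (CfsgLib.Leech.ncard_hsPair hv hs hvs)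
    constructor
    · rintro ⟨h1, h2, h3⟩; exact ⟨h1, h2, (hiff y h2).1 h3⟩
    · rintro ⟨h1, h2, h3⟩; exact ⟨h1, h2, (hiff y h2).2 h3⟩
  have h22 : {y : ↥Cfsg.leechLattice | y ∈ X ∧
      Cfsg.dotInt (x : Cfsg.GolayPt → ℤ) (y : Cfsg.GolayPt → ℤ) = 8}.ncard = 22 := by
    refine Eq.trans (congrArg Set.ncard (Set.ext fun y => ?_))
      (CfsgLib.Leech.ncard_hsTriple hv hw hvw hx hvx hwx)
    constructor
    · rintro ⟨⟨h1, h2, h3⟩, h4⟩; exact ⟨h1, h2, (hiff y h2).1 h3, h4⟩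
    · rintro ⟨h1, h2, h3, h4⟩; exact ⟨⟨h1, h2, (hiff y h2).2 h3⟩, h4⟩
  have hdot : ∀ y ∈ X, y ≠ x → Cfsg.dotInt (x : Cfsg.GolayPt → ℤ) (y : Cfsg.GolayPt → ℤ) = 8 ∨
      Cfsg.dotInt (x : Cfsg.GolayPt → ℤ) (y : Cfsg.GolayPt → ℤ) = 16 := fun y hy hne =>
    CfsgLib.Leech.dot_hs hv hvw hx hy.1 hvx hwx hy.2.1 hy.2.2 hne
  refine ⟨h22, ?_, ?_⟩
  · have hfin : X.Finite := Set.finite_of_ncard_ne_zero (by omega)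
    have hxX : x ∈ X := ⟨hx, hvx, hwx⟩
    have hx8 : x ∉ {y : ↥Cfsg.leechLattice | y ∈ X ∧
        Cfsg.dotInt (x : Cfsg.GolayPt → ℤ) (y : Cfsg.GolayPt → ℤ) = 8} := fun h => by
      have := h.2
      rw [CfsgLib.Leech.dotInt_self, hx] at this
      omega
    have e : {y : ↥Cfsg.leechLattice | y ∈ X ∧ y ≠ x ∧
        Cfsg.dotInt (x : Cfsg.GolayPt → ℤ) (y : Cfsg.GolayPt → ℤ) ≠ 8} =
        X \ insert x {y : ↥Cfsg.leechLattice | y ∈ X ∧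
          Cfsg.dotInt (x : Cfsg.GolayPt → ℤ) (y : Cfsg.GolayPt → ℤ) = 8} := by
      ext y
      constructor
      · rintro ⟨h1, h2, h3⟩
        refine ⟨h1, ?_⟩
        rintro (h | ⟨-, h⟩)
        · exact h2 h
        · exact h3 h
      · rintro ⟨h1, h2⟩
        exact ⟨h1, fun h => h2 (Or.inl h), fun h => h2 (Or.inr ⟨h1, h⟩)⟩
    rw [e, Set.ncard_sdiff (Set.insert_subset hxX fun y hy => hy.1)
      ((hfin.subset fun y hy => hy.1).insert x),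
      Set.ncard_insert_of_notMem hx8 (hfin.subset fun y hy => hy.1), h100, h22]
  intro y hy y' hy' hne hne' heq
  have d := hdot y hy hne
  have d' := hdot y' hy' hne'
  have hdd : Cfsg.dotInt (x : Cfsg.GolayPt → ℤ) (y : Cfsg.GolayPt → ℤ) =
      Cfsg.dotInt (x : Cfsg.GolayPt → ℤ) (y' : Cfsg.GolayPt → ℤ) := by
    rcases d with h | h <;> rcases d' with h' | h' <;> omega
  have q := CfsgLib.Leech.exists_quad_hs hv hw hvw hx hy'.1 hvx hwx hy'.2.1 hy'.2.2 d'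
  rw [← hdd] at q
  obtain ⟨g, h1, h2, h3, h4⟩ := CfsgLib.Leech.exists_map_quad
    (CfsgLib.Leech.exists_quad_hs hv hw hvw hx hy.1 hvx hwx hy.2.1 hy.2.2 d) q
  refine ⟨g, h1, ?_, h3, h4⟩
  rw [CfsgLib.Leech.smul_add', h1] at h2
  exact add_left_cancel h2

end Cfsg.Agent.S1584
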