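import Cfsg.Statements.S1585
import Cfsg.Agent.Lib.Leech.Pairs

set_option autoImplicit false
open Cfsg

namespace Cfsg.Agent.S1585

/-- Two vectors of customary norm 6 with inner product −4 are exchanged by some automorphism of the lattice. -/
theorem result (v w : ↥Cfsg.leechLattice) (hv : Cfsg.sqNorm (v : Cfsg.GolayPt → ℤ) = 48) (hw : Cfsg.sqNorm (w : Cfsg.GolayPt → ℤ) = 48) (hvw : Cfsg.dotInt (v : Cfsg.GolayPt → ℤ) (w : Cfsg.GolayPt → ℤ) = -32) : ∃ g : ↥Cfsg.Co0, g • v = w ∧ g • w = v := by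
  have hx : Cfsg.sqNorm ((v + w : Cfsg.leechLattice) : Cfsg.GolayPt → ℤ) = 32 := by
    rw [AddSubgroup.coe_add, CfsgLib.Leech.sqNorm_add, hv, hw, hvw]; norm_num
  have hself : ∀ z : Cfsg.GolayPt → ℤ, Cfsg.dotInt z z = Cfsg.sqNorm z := fun z => by
    simp [Cfsg.dotInt, Cfsg.sqNorm, pow_two]
  obtain ⟨g, h1, h2⟩ := CfsgLib.Leech.exists_map_pair
    (CfsgLib.Leech.exists_pair48 hv hx (by
      rw [AddSubgroup.coe_add, CfsgLib.Leech.dotInt_add_right, hself, hv, hvw]; norm_num))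
    (CfsgLib.Leech.exists_pair48 hw hx (by
      rw [AddSubgroup.coe_add, CfsgLib.Leech.dotInt_add_right, hself, CfsgLib.Leech.dotInt_comm, hw, hvw]
      norm_num))
  refine ⟨g, h1, ?_⟩
  calc g • w = g • ((v + w) - v) := by rw [add_sub_cancel_left]
    _ = (v + w) - w := by rw [CfsgLib.Leech.smul_sub', h2, h1]
    _ = v := add_sub_cancel_right _ _

end Cfsg.Agent.S1585
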