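import Cfsg.Statements.S1586
import Cfsg.Agent.Lib.Golay.HSSimple

set_option autoImplicit false
open Cfsg CfsgLib.Golay CfsgLib.Golay.HS

namespace Cfsg.Agent.S1586

/-- The Higman–Sims graph built from an S(3, 6, 22) has exactly 88704000 automorphisms. -/
theorem result {α : Type*} [Fintype α] [DecidableEq α] (hα : Fintype.card α = 22) {B : Set (Finset α)} (hB : Cfsg.IsSteinerSystem 3 6 B) : Nat.card (Cfsg.pointBlockGraph B ≃g Cfsg.pointBlockGraph B) = 88704000 := by
  classical
  obtain ⟨e, he⟩ := iso_model22 hα hB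
  obtain ⟨f⟩ := pbg_iso_of_systemIso (⟨e, he⟩ : SetSystemIso B model22Set)
  have h1 : Nat.card (pointBlockGraph model22Set ≃g pointBlockGraph model22Set) = 88704000 := by
    rw [← card_graphAut]
    refine (Nat.card_congr (Equiv.ofBijective toIso ⟨toIso_injective, fun w => ?_⟩)).symm
    refine ⟨⟨e100.permCongr w.toEquiv, fun i j => ?_⟩, RelIso.ext fun u => ?_⟩
    · rw [Bool.eq_iff_iff, ← vtx_adj, ← vtx_adj]
      show (pointBlockGraph model22Set).Adj (vtx (e100 (w (vtx i)))) (vtx (e100 (w (vtx j)))) ↔ _
      rw [vtx_e100, vtx_e100]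
      exact w.map_rel_iff
    · show vtx (e100 (w (vtx (e100 u)))) = w u
      rw [vtx_e100, vtx_e100]
  rw [← h1]
  exact Nat.card_congr
    { toFun := fun a => (f.symm.trans a).trans f
      invFun := fun a => (f.trans a).trans f.symm
      left_inv := fun a => RelIso.ext fun u => by simp
      right_inv := fun a => RelIso.ext fun u => by simp }

end Cfsg.Agent.S1586
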