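import Cfsg.Statements.S1587

set_option autoImplicit false
open Matrix
open Cfsg Matrix

namespace Cfsg.Agent.S1587

/-- First step of the characterisation of the rank-24 lattice: in an even lattice without roots, norm-8 vectors congruent modulo 2 are equal, opposite or orthogonal. -/
theorem result (B : Matrix (Fin 24) (Fin 24) ℤ) (hsymm : B.IsSymm) (hpos : ∀ x : Fin 24 → ℤ, x ≠ 0 → 0 < x ⬝ᵥ (B *ᵥ x)) (heven : ∀ x : Fin 24 → ℤ, (2 : ℤ) ∣ x ⬝ᵥ (B *ᵥ x)) (h2 : ∀ x : Fin 24 → ℤ, x ⬝ᵥ (B *ᵥ x) ≠ 2) (x y : Fin 24 → ℤ) (hx : x ⬝ᵥ (B *ᵥ x) = 8) (hy : y ⬝ᵥ (B *ᵥ y) = 8) (hc : ∀ i, (2 : ℤ) ∣ (x - y) i) : y = x ∨ y = -x ∨ x ⬝ᵥ (B *ᵥ y) = 0 := by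
  have half : ∀ u v : Fin 24 → ℤ, u ⬝ᵥ (B *ᵥ v) = v ⬝ᵥ (B *ᵥ u) := by
    intro u v
    rw [dotProduct_mulVec, ← mulVec_transpose, hsymm.eq, dotProduct_comm]
  choose z hz using hc
  have hxy : x = y + 2 • z := by
    funext i; have := hz i; simp only [Pi.sub_apply] at this; simp; omega
  have key : ∀ w : Fin 24 → ℤ, w ≠ 0 → 4 ≤ w ⬝ᵥ (B *ᵥ w) := by
    intro w hw
    have h1 := hpos w hw
    obtain ⟨k, hk⟩ := heven w
    have h3 := h2 w
    omega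
  by_cases hz0 : z = 0
  · left; rw [hxy, hz0]; simp
  by_cases hw0 : y + z = 0
  · right; left
    rw [hxy, eq_neg_of_add_eq_zero_right hw0]; funext i; simp; omega
  right; right
  have k1 := key z hz0
  have k2 := key (y + z) hw0
  have s1 := half y z
  rw [hxy] at hx ⊢
  simp only [two_smul, mulVec_add, dotProduct_add, add_dotProduct] at hx k2 ⊢
  omega

end Cfsg.Agent.S1587
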