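import Cfsg.Statements.S1589
import Cfsg.Agent.Lib.M24Idx.Pairs

set_option autoImplicit false
open scoped Pointwise
open Cfsg

namespace Cfsg.Agent.S1589

/-- Subgroups of the group of the length-24 code of index 759, 276 and 1771 are exactly the octad, duad and sextet stabilisers, and no subgroup has index 253. -/
theorem result : (∀ H : Subgroup ↥Cfsg.M24, H.index = 759 → ∃ o ∈ Cfsg.octads, H = MulAction.stabilizer Cfsg.M24 o) ∧ (∀ H : Subgroup ↥Cfsg.M24, H.index = 276 → ∃ s : Finset Cfsg.GolayPt, s.card = 2 ∧ H = MulAction.stabilizer Cfsg.M24 s) ∧ (∀ H : Subgroup ↥Cfsg.M24, H.index = 1771 → ∃ S ∈ Cfsg.sextets, H = MulAction.stabilizer Cfsg.M24 S) ∧ ∀ H : Subgroup ↥Cfsg.M24, H.index ≠ 253 := by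
  have key : ∀ (H : Subgroup ↥Cfsg.M24) (n : ℕ), H.index = n → n ≠ 0 →
      Nat.card ↥(H.map Cfsg.M24.subtype) * n = 244823040 := fun H n hn _ => by
    rw [Subgroup.card_map_of_injective Cfsg.M24.subtype_injective, ← hn, H.card_mul_index,
      CfsgLib.Golay.card_M24]
  have hcard : ∀ H : Subgroup ↥Cfsg.M24, Nat.card ↥(H.map Cfsg.M24.subtype) = Nat.card ↥H := fun H =>
    Subgroup.card_map_of_injective Cfsg.M24.subtype_injective
  refine ⟨fun H h => ?_, fun H h => ?_, fun H h => ?_, fun H h => ?_⟩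
  · have hc := key H _ h (by norm_num)
    obtain ⟨o, ho, hfix⟩ := CfsgLib.M24Idx.exists_octad (Subgroup.map_subtype_le H) (by omega)
    refine ⟨o, ho, Subgroup.eq_of_le_of_card_ge
      (fun g hg => hfix g.1 (Subgroup.mem_map_of_mem _ hg)) ?_⟩
    rw [CfsgLib.M24Cert.card_stab_octad ho]
    have := hcard H
    omega
  · have hc := key H _ h (by norm_num)
    obtain ⟨s, hs, hfix⟩ := CfsgLib.M24Idx.exists_pair (Subgroup.map_subtype_le H) (by omega)
    refine ⟨s, hs, Subgroup.eq_of_le_of_card_ge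
      (fun g hg => hfix g.1 (Subgroup.mem_map_of_mem _ hg)) ?_⟩
    rw [CfsgLib.M24Idx.card_stab_two hs]
    have := hcard H
    omega
  · have hc := key H _ h (by norm_num)
    obtain ⟨S, hS, hfix⟩ := CfsgLib.M24Idx.exists_sextet (Subgroup.map_subtype_le H) (by omega)
    refine ⟨S, hS, Subgroup.eq_of_le_of_card_ge
      (fun g hg => hfix g.1 (Subgroup.mem_map_of_mem _ hg)) ?_⟩
    rw [CfsgLib.M24Cert.card_stab_sextet hS]
    have := hcard H
    omega
  · have hc := key H _ h (by norm_num)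
    exact CfsgLib.M24Idx.not_two_five_three (Subgroup.map_subtype_le H) (by omega)

end Cfsg.Agent.S1589
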