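import Cfsg.Statements.S1590
import Cfsg.Agent.Lib.Golay.Ternary

set_option autoImplicit false
open Cfsg CfsgLib.Golay.Ternary

namespace Cfsg.Agent.S1590

open Cfsg CfsgLib.Golay.Ternary in
theorem weights : ∀ a : Fin 6 → ZMod 3, a ≠ 0 → (ternarySupport (word a)).card = 6 ∨
    (ternarySupport (word a)).card = 9 ∨ (ternarySupport (word a)).card = 12 := by decide +kernel

open Cfsg CfsgLib.Golay.Ternary in
theorem counts : (Finset.univ.filter fun a => (ternarySupport (word a)).card = 6).card = 264 ∧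
    (Finset.univ.filter fun a => (ternarySupport (word a)).card = 9).card = 440 ∧
    (Finset.univ.filter fun a => (ternarySupport (word a)).card = 12).card = 24 := by
  refine ⟨?_, ?_, ?_⟩ <;> decide +kernel


/-- The length-12 ternary code has 729 words with weight distribution 0^1 6^264 9^440 12^24. -/
theorem result : Nat.card ↥Cfsg.ternaryGolayCode = 729 ∧ (∀ x ∈ Cfsg.ternaryGolayCode, x ≠ 0 → (Cfsg.ternarySupport x).card = 6 ∨ (Cfsg.ternarySupport x).card = 9 ∨ (Cfsg.ternarySupport x).card = 12) ∧ {x : Cfsg.ArrayPt → ZMod 3 | x ∈ Cfsg.ternaryGolayCode ∧ (Cfsg.ternarySupport x).card = 6}.ncard = 264 ∧ {x : Cfsg.ArrayPt → ZMod 3 | x ∈ Cfsg.ternaryGolayCode ∧ (Cfsg.ternarySupport x).card = 9}.ncard = 440 ∧ {x : Cfsg.ArrayPt → ZMod 3 | x ∈ Cfsg.ternaryGolayCode ∧ (Cfsg.ternarySupport x).card = 12}.ncard = 24 := by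
  refine ⟨card_code, fun x hx hne => ?_, ?_, ?_, ?_⟩
  · obtain ⟨a, rfl⟩ := mem_iff.1 hx
    refine weights a fun h => hne ?_
    subst h
    funext p; simp [word]
  all_goals rw [ncard_filter]
  · exact counts.1
  · exact counts.2.1
  · exact counts.2.2

end Cfsg.Agent.S1590
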