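import Cfsg.Statements.S1591
import Cfsg.Agent.Lib.Golay.Ternary

set_option autoImplicit false
open Cfsg CfsgLib.Golay.Ternary

namespace Cfsg.Agent.S1591

/-- Any two words of the length-12 ternary code have dot product zero. -/
theorem result (x y : Cfsg.ArrayPt → ZMod 3) (hx : x ∈ Cfsg.ternaryGolayCode) (hy : y ∈ Cfsg.ternaryGolayCode) : ∑ p, x p * y p = 0 := by
  obtain ⟨a, rfl⟩ := mem_iff.1 hx
  obtain ⟨b, rfl⟩ := mem_iff.1 hy
  have h : ∀ k l, ∑ p : ArrayPt, rows k (ix p) * rows l (ix p) = 0 := by decide +kernel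
  simp only [word, Finset.sum_mul_sum]
  rw [Finset.sum_comm]
  refine Finset.sum_eq_zero fun k _ => ?_
  rw [Finset.sum_comm]
  refine Finset.sum_eq_zero fun l _ => ?_
  simp only [mul_mul_mul_comm (a k) (rows k _) (b l)]
  rw [← Finset.mul_sum, h, mul_zero]

end Cfsg.Agent.S1591
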