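import Cfsg.Statements.S1592
import Cfsg.Agent.Lib.Golay.Ternary

set_option autoImplicit false
open Cfsg CfsgLib.Golay.Ternary

namespace Cfsg.Agent.S1592

/-- The masks of the supports of weight six. -/
def blocks : List ℕ := [63, 222, 237, 243, 347, 366, 373, 413, 427, 438, 455, 504, 591, 630, 633, 667, 679, 700, 725, 746, 791, 813, 826, 860, 867, 910, 945, 969, 978, 996, 1117, 1127, 1146, 1175, 1198, 1209, 1227, 1268, 1295, 1331, 1340, 1366, 1385, 1434, 1445, 1484, 1489, 1506, 1566, 1579, 1589, 1619, 1644, 1677, 1714, 1734, 1752, 1761, 1817, 1830, 1861, 1866, 1904, 1923, 1940, 1960, 2135, 2155, 2172, 2191, 2229, 2234, 2265, 2278, 2334, 2343, 2361, 2381, 2418, 2451, 2476, 2506, 2516, 2529, 2589, 2606, 2611, 2650, 2661, 2710, 2729, 2755, 2764, 2800, 2827, 2868, 2886, 2897, 2920, 2949, 2968, 2978, 3099, 3117, 3126, 3150, 3185, 3228, 3235, 3269, 3282, 3304, 3349, 3370, 3395, 3416, 3428, 3462, 3465, 3504, 3591, 3640, 3657, 3668, 3682, 3722, 3729, 3748, 3852, 3858, 3873, 4032]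

open Cfsg CfsgLib.Golay.Ternary in
theorem blocks_eq : ((Finset.univ.filter fun a => (ternarySupport (word a)).card = 6).image fun a => supMask (word a)) =
    blocks.toFinset := by decide +kernel

open Cfsg CfsgLib.Golay.Ternary in
theorem five_check : ∀ h l : Fin 64, (tSet (64 * h.val + l.val)).card = 5 →
    (blocks.filter fun b => (64 * h.val + l.val) &&& b == 64 * h.val + l.val).length = 1 := by decide +kernel


/-- The supports of the weight-6 words of the length-12 ternary code form a Steiner system S(5, 6, 12) with 132 blocks. -/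
theorem result : Cfsg.IsSteinerSystem 5 6 {h : Finset Cfsg.ArrayPt | ∃ x ∈ Cfsg.ternaryGolayCode, Cfsg.ternarySupport x = h ∧ h.card = 6} ∧ {h : Finset Cfsg.ArrayPt | ∃ x ∈ Cfsg.ternaryGolayCode, Cfsg.ternarySupport x = h ∧ h.card = 6}.ncard = 132 := by
  have hset : {h : Finset ArrayPt | ∃ x ∈ ternaryGolayCode, ternarySupport x = h ∧ h.card = 6} =
      ↑(blocks.toFinset.image tSet) := by
    ext h
    simp only [Set.mem_ofPred_eq, Finset.coe_image, Set.mem_image, Finset.mem_coe, ← blocks_eq,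
      Finset.mem_filter, Finset.mem_univ, true_and]
    constructor
    · rintro ⟨x, hx, rfl, hc⟩
      obtain ⟨a, rfl⟩ := mem_iff.1 hx
      exact ⟨_, ⟨a, hc, rfl⟩, tSet_supMask _⟩
    · rintro ⟨_, ⟨a, hc, rfl⟩, rfl⟩
      exact ⟨word a, word_mem a, (tSet_supMask _).symm, by rw [tSet_supMask]; exact hc⟩
  have hlt : ∀ b ∈ blocks, b < 4096 := by decide +kernel
  have hinj : Set.InjOn tSet (blocks.toFinset : Set ℕ) := by
    intro a ha b hb e
    have ha' := hlt a (List.mem_toFinset.1 (Finset.mem_coe.1 ha))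
    have hb' := hlt b (List.mem_toFinset.1 (Finset.mem_coe.1 hb))
    rw [← (tSet_subset ha').1 e.subset, Nat.and_comm, (tSet_subset hb').1 e.symm.subset]
  rw [hset]
  refine ⟨⟨fun b hb => ?_, fun s hs => ?_⟩, ?_⟩
  · rw [← hset] at hb
    exact hb.choose_spec.2.2
  · obtain ⟨m, hm, rfl⟩ := exists_mask s
    have h5 := five_check ⟨m / 64, by omega⟩ ⟨m % 64, Nat.mod_lt _ (by omega)⟩
    simp only [show 64 * (m / 64) + m % 64 = m from Nat.div_add_mod m 64] at h5
    obtain ⟨b, hb⟩ := List.length_eq_one_iff.1 (h5 hs)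
    have hbm : b ∈ blocks ∧ m &&& b = m := by
      have : b ∈ blocks.filter fun b => m &&& b == m := by rw [hb]; exact List.mem_singleton_self b
      simpa using this
    refine ⟨tSet b, ⟨Finset.mem_coe.2 (Finset.mem_image_of_mem _ (List.mem_toFinset.2 hbm.1)), (tSet_subset hm).2 hbm.2⟩, ?_⟩
    rintro _ ⟨hy', hys⟩
    obtain ⟨y, hy, rfl⟩ := Finset.mem_image.1 (Finset.mem_coe.1 hy')
    have : y ∈ blocks.filter fun b => m &&& b == m := by
      rw [List.mem_filter, beq_iff_eq]
      exact ⟨List.mem_toFinset.1 hy, (tSet_subset hm).1 hys⟩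
    rw [hb, List.mem_singleton] at this
    rw [this]
  · rw [Set.ncard_coe_finset, Finset.card_image_of_injOn hinj]
    decide +kernel

end Cfsg.Agent.S1592
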