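import Cfsg.Statements.S1593
import Cfsg.Agent.Lib.Golay.Ternary

set_option autoImplicit false
open Cfsg CfsgLib.Golay.Ternary

namespace Cfsg.Agent.S1593

/-- The only sign changes preserving the length-12 ternary code are the identity and negation of all coordinates. -/
theorem result (c : Cfsg.ArrayPt → (ZMod 3)ˣ) (h : (∀ x ∈ Cfsg.ternaryGolayCode, Cfsg.monomialMap 1 c x ∈ Cfsg.ternaryGolayCode)) : (∀ p, c p = 1) ∨ (∀ p, c p = -1) := by
  have hc : ∀ k, ∀ p, rows k (ix p) ≠ 0 → c p = c (ix.symm (pivot k)) := by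
    intro k p hp
    set e : Fin 6 → ZMod 3 := fun l => if l = k then 1 else 0 with he
    have hw : word e = fun q => rows k (ix q) := by funext q; simp [word, he]
    obtain ⟨a, ha⟩ := mem_iff.1 (h _ (word_mem e))
    have hpiv : ∀ k' l, rows l (pivot k') = if l = k' then 1 else 0 := by decide +kernel
    have hae : a = fun l => (c (ix.symm (pivot k)) : ZMod 3) * e l := by
      rw [← word_pivot a, ha, hw]
      funext l
      simp only [monomialMap, Equiv.Perm.one_symm, Equiv.Perm.one_apply, Equiv.apply_symm_apply, hpiv, he]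
      by_cases hl : l = k
      · subst hl; simp
      · simp [hl, Ne.symm hl]
    have := congrFun ha p
    simp only [monomialMap, Equiv.Perm.one_symm, Equiv.Perm.one_apply, hw] at this
    rw [hae] at this
    simp only [word, he, mul_ite, mul_one, mul_zero, ite_mul, zero_mul, Finset.sum_ite_eq', Finset.mem_univ, if_true] at this
    exact Units.ext (mul_right_cancel₀ hp this.symm)
  have hconn : ∀ j : Fin 12, ∃ k, rows k j ≠ 0 := by decide +kernel
  have h5 : ∀ k : Fin 6, k ≠ 5 → rows k 5 ≠ 0 := by decide +kernel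
  have h9 : rows 0 9 ≠ 0 ∧ rows 5 9 ≠ 0 := by decide +kernel
  have hk : ∀ k, c (ix.symm (pivot k)) = c (ix.symm (pivot 0)) := by
    intro k
    by_cases hk : k = 5
    · subst hk
      rw [← hc 5 (ix.symm 9) (by rw [Equiv.apply_symm_apply]; exact h9.2),
        ← hc 0 (ix.symm 9) (by rw [Equiv.apply_symm_apply]; exact h9.1)]
    · rw [← hc k (ix.symm 5) (by rw [Equiv.apply_symm_apply]; exact h5 k hk),
        ← hc 0 (ix.symm 5) (by rw [Equiv.apply_symm_apply]; exact h5 0 (by decide))]
  have hall : ∀ p, c p = c (ix.symm (pivot 0)) := fun p => by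
    obtain ⟨k, hk'⟩ := hconn (ix p)
    rw [hc k p hk', hk]
  have hu : ∀ u : (ZMod 3)ˣ, u = 1 ∨ u = -1 := by decide
  rcases hu (c (ix.symm (pivot 0))) with e | e
  · exact Or.inl fun p => (hall p).trans e
  · exact Or.inr fun p => (hall p).trans e

end Cfsg.Agent.S1593
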