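import Cfsg.Statements.S1594
import Cfsg.Agent.Lib.Golay.Ternary
import Cfsg.Agent.Lib.Golay.SysMathieu
import Cfsg.Agent.S1592
import Cfsg.Agent.S1593

set_option autoImplicit false
open Cfsg

namespace Cfsg.Agent.S1594

open CfsgLib.Golay CfsgLib.Golay.Ternary

/-- Monomial symmetries of the code by positions: image list, inverse list, signs. -/
def gens : List (List (Fin 12) × List (Fin 12) × List (ZMod 3)) := [
  ([0,1,2,3,4,5,6,7,8,9,10,11], [0,1,2,3,4,5,6,7,8,9,10,11], [1,1,1,1,1,1,1,1,1,1,1,1]),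
  ([1,0,2,3,4,5,11,9,10,7,8,6], [1,0,2,3,4,5,11,9,10,7,8,6], [1,1,1,1,1,1,1,1,1,1,1,1]),
  ([2,0,1,3,4,5,8,6,7,10,11,9], [1,2,0,3,4,5,7,8,6,11,9,10], [1,1,1,1,1,1,1,1,1,1,1,1]),
  ([3,0,1,2,4,5,10,7,6,8,9,11], [1,2,3,0,4,5,8,7,9,10,6,11], [1,1,2,2,1,1,2,2,1,2,1,2]),
  ([4,0,1,2,3,5,6,9,10,11,7,8], [1,2,3,4,0,5,6,10,11,7,8,9], [1,1,2,1,2,1,1,2,2,2,2,1]),
  ([5,0,1,2,3,4,9,6,8,7,11,10], [1,2,3,4,5,0,7,9,8,6,11,10], [1,1,2,1,1,2,2,1,2,1,2,2]),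
  ([6,0,1,2,3,9,5,4,7,10,8,11], [1,2,3,4,7,6,0,8,10,5,9,11], [1,2,1,1,2,1,2,2,2,1,1,2]),
  ([7,0,1,2,3,11,10,8,9,4,5,6], [1,2,3,4,9,10,11,0,7,8,6,5], [1,2,2,2,2,1,1,1,1,1,2,2]),
  ([8,0,1,2,3,10,7,11,4,6,9,5], [1,2,3,4,8,11,9,6,0,10,5,7], [1,1,1,2,1,1,2,2,1,1,2,1]),
  ([9,0,1,2,3,6,4,5,11,8,10,7], [1,2,3,4,6,7,5,11,9,0,10,8], [1,2,1,1,1,2,1,2,1,2,2,2]),
  ([10,0,1,2,3,8,11,7,5,9,6,4], [1,2,3,4,11,8,10,7,5,9,0,6], [1,1,1,2,1,1,1,1,2,2,1,2]),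
  ([11,0,1,2,3,7,8,10,6,5,4,9], [1,2,3,4,10,9,8,5,6,11,7,0], [1,2,2,2,1,2,1,2,2,1,1,1]),
  ([0,1,2,3,4,5,6,7,8,9,10,11], [0,1,2,3,4,5,6,7,8,9,10,11], [1,1,1,1,1,1,1,1,1,1,1,1]),
  ([0,2,1,3,4,5,9,10,11,6,7,8], [0,2,1,3,4,5,9,10,11,6,7,8], [1,1,1,1,1,1,1,1,1,1,1,1]),
  ([0,3,1,2,4,5,11,8,9,7,6,10], [0,2,3,1,4,5,10,9,7,8,11,6], [1,1,2,2,1,1,2,2,1,2,1,2]),
  ([0,4,1,2,3,5,8,11,7,9,10,6], [0,2,3,4,1,5,11,8,6,9,10,7], [1,1,2,1,2,1,1,2,2,2,2,1]),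
  ([0,5,1,2,3,4,10,7,11,6,8,9], [0,2,3,4,5,1,9,7,10,11,6,8], [1,1,2,1,1,2,2,1,2,1,2,2]),
  ([0,6,1,2,3,9,11,10,8,4,7,5], [0,2,3,4,9,11,1,10,8,5,7,6], [1,2,1,1,2,1,2,2,2,1,1,2]),
  ([0,7,1,2,3,11,6,4,5,8,9,10], [0,2,3,4,7,8,6,1,9,10,11,5], [1,2,2,2,2,1,1,1,1,1,2,2]),
  ([0,8,1,2,3,10,5,6,9,11,4,7], [0,2,3,4,10,6,7,11,1,8,5,9], [1,1,1,2,1,1,2,2,1,1,2,1]),
  ([0,9,1,2,3,6,7,8,10,5,11,4], [0,2,3,4,11,9,5,6,7,1,8,10], [1,2,1,1,1,2,1,2,1,2,2,2]),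
  ([0,10,1,2,3,8,4,9,6,7,5,11], [0,2,3,4,6,10,8,9,5,7,1,11], [1,1,1,2,1,1,1,1,2,2,1,2]),
  ([0,11,1,2,3,7,9,5,4,10,6,8], [0,2,3,4,8,7,10,5,11,6,9,1], [1,2,2,2,1,2,1,2,2,1,1,1]),
  ([0,1,2,3,4,5,6,7,8,9,10,11], [0,1,2,3,4,5,6,7,8,9,10,11], [1,1,1,1,1,1,1,1,1,1,1,1]),
  ([0,1,3,2,4,5,7,6,10,11,8,9], [0,1,3,2,4,5,7,6,10,11,8,9], [1,1,2,2,1,1,2,2,1,2,1,2]),
  ([0,1,4,2,3,5,9,10,6,8,11,7], [0,1,3,4,2,5,8,11,9,6,7,10], [1,1,2,1,2,1,1,2,2,2,2,1]),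
  ([0,1,5,2,3,4,6,8,9,10,7,11], [0,1,3,4,5,2,6,10,7,8,9,11], [1,1,2,1,1,2,2,1,2,1,2,2]),
  ([0,1,6,2,3,9,4,7,5,11,10,8], [0,1,3,4,6,8,2,7,11,5,10,9], [1,2,1,1,2,1,2,2,2,1,1,2]),
  ([0,1,7,2,3,11,8,9,10,6,4,5], [0,1,3,4,10,11,9,2,6,7,8,5], [1,2,2,2,2,1,1,1,1,1,2,2]),
  ([0,1,8,2,3,10,11,4,7,5,6,9], [0,1,3,4,7,9,10,8,2,11,5,6], [1,1,1,2,1,1,2,2,1,1,2,1]),
  ([0,1,9,2,3,6,5,11,4,7,8,10], [0,1,3,4,8,6,5,9,10,2,11,7], [1,2,1,1,1,2,1,2,1,2,2,2]),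
  ([0,1,10,2,3,8,7,5,11,4,9,6], [0,1,3,4,9,7,11,6,5,10,2,8], [1,1,1,2,1,1,1,1,2,2,1,2]),
  ([0,1,11,2,3,7,10,6,8,9,5,4], [0,1,3,4,11,10,7,5,8,9,6,2], [1,2,2,2,1,2,1,2,2,1,1,1]),
  ([0,1,2,3,4,5,6,7,8,9,10,11], [0,1,2,3,4,5,6,7,8,9,10,11], [1,1,1,1,1,1,1,1,1,1,1,1]),
  ([0,1,2,4,3,5,10,9,11,7,6,8], [0,1,2,4,3,5,10,9,11,7,6,8], [1,1,1,1,1,1,1,1,1,1,1,1]),
  ([0,1,2,5,3,4,8,6,7,11,9,10], [0,1,2,4,5,3,7,8,6,10,11,9], [1,1,1,1,1,1,1,1,1,1,1,1]),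
  ([0,1,2,6,3,9,7,4,10,8,5,11], [0,1,2,4,7,10,3,6,9,5,8,11], [1,2,2,1,1,1,1,1,1,1,1,1]),
  ([0,1,2,7,3,11,9,8,4,5,10,6], [0,1,2,4,8,9,11,3,7,6,10,5], [1,2,1,2,2,2,2,2,2,2,2,2]),
  ([0,1,2,8,3,10,4,11,6,9,7,5], [0,1,2,4,6,11,8,10,3,9,5,7], [1,1,2,2,2,2,2,2,2,2,2,2]),
  ([0,1,2,9,3,6,11,5,8,10,4,7], [0,1,2,4,10,7,5,11,8,3,9,6], [1,2,2,1,1,1,1,1,1,1,1,1]),
  ([0,1,2,10,3,8,5,7,9,6,11,4], [0,1,2,4,11,6,9,7,5,8,3,10], [1,1,2,2,2,2,2,2,2,2,2,2]),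
  ([0,1,2,11,3,7,6,10,5,4,8,9], [0,1,2,4,9,8,6,5,10,11,7,3], [1,2,1,2,2,2,2,2,2,2,2,2]),
  ([0,1,2,3,4,5,6,7,8,9,10,11], [0,1,2,3,4,5,6,7,8,9,10,11], [1,1,1,1,1,1,1,1,1,1,1,1]),
  ([0,1,2,3,5,4,9,11,10,6,8,7], [0,1,2,3,5,4,9,11,10,6,8,7], [1,1,1,1,1,1,1,1,1,1,1,1]),
  ([0,1,2,3,6,9,5,8,11,4,7,10], [0,1,2,3,9,6,4,10,7,5,11,8], [1,2,2,1,1,1,1,1,1,1,1,1]),
  ([0,1,2,3,7,11,10,5,6,8,9,4], [0,1,2,3,11,7,8,4,9,10,6,5], [1,2,1,2,2,2,2,2,2,2,2,2]),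
  ([0,1,2,3,8,10,7,9,5,11,4,6], [0,1,2,3,10,8,11,6,4,7,5,9], [1,1,2,2,2,2,2,2,2,2,2,2]),
  ([0,1,2,3,9,6,4,10,7,5,11,8], [0,1,2,3,6,9,5,8,11,4,7,10], [1,2,2,1,1,1,1,1,1,1,1,1]),
  ([0,1,2,3,10,8,11,6,4,7,5,9], [0,1,2,3,8,10,7,9,5,11,4,6], [1,1,2,2,2,2,2,2,2,2,2,2]),
  ([0,1,2,3,11,7,8,4,9,10,6,5], [0,1,2,3,7,11,10,5,6,8,9,4], [1,2,1,2,2,2,2,2,2,2,2,2])]

/-- The listed image. -/
def gImg (t : List (Fin 12) × List (Fin 12) × List (ZMod 3)) (i : Fin 12) : Fin 12 := t.1.getD i.val 0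

/-- The listed preimage. -/
def gPre (t : List (Fin 12) × List (Fin 12) × List (ZMod 3)) (i : Fin 12) : Fin 12 := t.2.1.getD i.val 0

/-- The listed sign. -/
def gSgn (t : List (Fin 12) × List (Fin 12) × List (ZMod 3)) (i : Fin 12) : ZMod 3 := t.2.2.getD i.val 0

theorem gens_inv : ∀ t ∈ gens, ∀ i, gImg t (gPre t i) = i ∧ gPre t (gImg t i) = i ∧ gSgn t i ≠ 0 := by
  decide +kernel

theorem gens_code : ∀ t ∈ gens, ∀ k,
    testWord (fun p => gSgn t (ix p) * rows k (gPre t (ix p))) = true := by decide +kernel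

theorem gens_cover : ∀ k : Fin 5, ∀ j : Fin 12, k.val ≤ j.val →
    ∃ t ∈ gens, gImg t (Fin.castLE (by omega) k) = j ∧
      ∀ i : Fin 5, i < k → gImg t (Fin.castLE (by omega) i) = Fin.castLE (by omega) i := by
  decide +kernel

/-- Permutations admitting signs that preserve the code. -/
def Lifts (σ : Equiv.Perm ArrayPt) : Prop :=
  ∃ c : ArrayPt → (ZMod 3)ˣ, ∀ x ∈ ternaryGolayCode, monomialMap σ c x ∈ ternaryGolayCode

theorem lifts_one : Lifts 1 := ⟨fun _ => 1, fun x hx => by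
  have : monomialMap 1 (fun _ => 1) x = x := by
    funext i; show ((1 : (ZMod 3)ˣ) : ZMod 3) * x i = x i; simp
  rw [this]; exact hx⟩

theorem lifts_mul {σ τ : Equiv.Perm ArrayPt} (hσ : Lifts σ) (hτ : Lifts τ) : Lifts (σ * τ) := by
  obtain ⟨c, hc⟩ := hσ
  obtain ⟨d, hd⟩ := hτ
  refine ⟨fun i => c i * d (σ.symm i), fun x hx => ?_⟩
  have h := hc _ (hd x hx)
  have e : monomialMap (σ * τ) (fun i => c i * d (σ.symm i)) x = monomialMap σ c (monomialMap τ d x) := by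
    funext i
    simp only [monomialMap, Units.val_mul, Equiv.Perm.mul_def, Equiv.symm_trans_apply, mul_assoc]
  rw [e]; exact h

theorem gens_lift : ∀ t ∈ gens, ∃ σ, Lifts σ ∧ ∀ p, ix (σ p) = gImg t (ix p) := by
  intro t ht
  let π : Equiv.Perm (Fin 12) := ⟨gImg t, gPre t, fun i => (gens_inv t ht i).2.1, fun i => (gens_inv t ht i).1⟩
  refine ⟨ix.symm.permCongr π, ⟨fun p => Units.mk0 (gSgn t (ix p)) (gens_inv t ht _).2.2, fun x hx => ?_⟩,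
    fun p => by simp [π]⟩
  obtain ⟨a, rfl⟩ := mem_iff.1 hx
  have e : monomialMap (ix.symm.permCongr π) (fun p => Units.mk0 (gSgn t (ix p)) (gens_inv t ht _).2.2) (word a) =
      ∑ k, a k • fun p => gSgn t (ix p) * rows k (gPre t (ix p)) := by
    funext p
    show gSgn t (ix p) * word a (ix.symm (gPre t (ix p))) = _
    simp only [word, Equiv.apply_symm_apply, Finset.sum_apply, Pi.smul_apply, smul_eq_mul, Finset.mul_sum]
    exact Finset.sum_congr rfl fun k _ => mul_left_comm _ _ _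
  rw [e]
  exact Submodule.sum_mem _ fun k _ => Submodule.smul_mem _ _ ((mem_iff_test _).2 (gens_code t ht k))

/-- The weight-six supports. -/
def hexSys : Set (Finset ArrayPt) :=
  {h : Finset ArrayPt | ∃ x ∈ ternaryGolayCode, ternarySupport x = h ∧ h.card = 6}

theorem lifts_mem {σ : Equiv.Perm ArrayPt} (h : Lifts σ) : σ ∈ setSystemAut hexSys := by
  obtain ⟨c, hc⟩ := h
  rw [mem_setSystemAut_iff]
  rintro b ⟨x, hx, rfl, h6⟩
  refine ⟨monomialMap σ c x, hc x hx, ?_, by rw [Finset.card_image_of_injective _ σ.injective, h6]⟩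
  ext p
  rw [Finset.mem_image, ternarySupport, ternarySupport, Finset.mem_filter]
  constructor
  · rintro ⟨-, hp⟩
    exact ⟨σ.symm p, Finset.mem_filter.2 ⟨Finset.mem_univ _, right_ne_zero_of_mul hp⟩, σ.apply_symm_apply p⟩
  · rintro ⟨q, hq, rfl⟩
    refine ⟨Finset.mem_univ _, ?_⟩
    show (c (σ q) : ZMod 3) * x (σ.symm (σ q)) ≠ 0
    rw [σ.symm_apply_apply]
    exact mul_ne_zero (c _).ne_zero (Finset.mem_filter.1 hq).2

theorem card_arrayPt : Fintype.card ArrayPt = 12 := by rw [Fintype.card_congr ix, Fintype.card_fin]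

theorem aut_lifts {g : Equiv.Perm ArrayPt} (hg : g ∈ setSystemAut hexSys) : Lifts g := by
  have key : ∀ k : ℕ, k ≤ 5 → ∃ h, Lifts h ∧
      ∀ i : Fin 5, i.val < k → h (ix.symm (Fin.castLE (by omega) i)) = g (ix.symm (Fin.castLE (by omega) i)) := by
    intro k
    induction k with
    | zero => exact fun _ => ⟨1, lifts_one, fun i hi => absurd hi (Nat.not_lt_zero _)⟩
    | succ k ih =>
      intro hk
      obtain ⟨h, hh, hfix⟩ := ih (by omega)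
      set kk : Fin 5 := ⟨k, by omega⟩ with hkk
      set y := h.symm (g (ix.symm (Fin.castLE (by omega) kk))) with hy
      have hle : kk.val ≤ (ix y).val := by
        by_contra hlt
        have hlt' : (ix y).val < k := by simp only [hkk] at hlt; omega
        have h1 := hfix ⟨(ix y).val, by omega⟩ hlt'
        have h2 : h (ix.symm (Fin.castLE (by omega) (⟨(ix y).val, by omega⟩ : Fin 5))) =
            g (ix.symm (Fin.castLE (by omega) kk)) := by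
          rw [(Equiv.symm_apply_eq ix).2 (Fin.ext rfl : Fin.castLE _ (⟨(ix y).val, _⟩ : Fin 5) = ix y)]
          exact h.apply_symm_apply _
        have h3 := congrArg Fin.val (ix.symm.injective (g.injective (h1.symm.trans h2)))
        simp only [hkk, Fin.val_castLE] at h3
        omega
      obtain ⟨t, ht, hto, htfix⟩ := gens_cover kk (ix y) hle
      obtain ⟨σ, hσ, hσp⟩ := gens_lift t ht
      refine ⟨h * σ, lifts_mul hh hσ, fun i hi => ?_⟩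
      rw [Equiv.Perm.mul_apply]
      by_cases he : i.val < k
      · have : σ (ix.symm (Fin.castLE (by omega) i)) = ix.symm (Fin.castLE (by omega) i) :=
          ix.injective (by rw [hσp, ix.apply_symm_apply]; exact htfix i he)
        rw [this, hfix i he]
      · have hik : i = kk := Fin.ext (show i.val = k by omega)
        rw [hik]
        have : σ (ix.symm (Fin.castLE (by omega) kk)) = y :=
          ix.injective (by rw [hσp, ix.apply_symm_apply]; exact hto)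
        rw [this, hy, h.apply_symm_apply]
  obtain ⟨h, hh, hfix⟩ := key 5 le_rfl
  have hu : h⁻¹ * g ∈ setSystemAut hexSys := mul_mem (inv_mem (lifts_mem hh)) hg
  obtain ⟨e, he⟩ := iso_5612 card_arrayPt card_DPt Cfsg.Agent.S1592.result.1 hexads12_steiner
  let φ := autEquiv e he ⟨_, hu⟩
  let z : Fin 5 ↪ DPt := ((Fin.castLEEmb (by omega : 5 ≤ 12)).trans ix.symm.toEmbedding).trans e.toEmbedding
  have hz : φ ∈ MulAction.stabilizer (setSystemAut hexads12) z := by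
    refine DFunLike.ext _ _ fun i => ?_
    show φ.val (e _) = e _
    rw [autEquiv_apply]
    refine congrArg e ?_
    show h⁻¹ (g _) = _
    exact h.symm_apply_eq.2 (hfix i i.isLt).symm
  rw [hexads12_sharp, Subgroup.mem_bot] at hz
  have h1 : (⟨h⁻¹ * g, hu⟩ : setSystemAut hexSys) = 1 :=
    (autEquiv e he).injective (hz.trans (map_one _).symm)
  have : g = h := (inv_mul_eq_one.1 (congrArg Subtype.val h1)).symm
  rw [this]; exact hh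

theorem sign_unique {σ : Equiv.Perm ArrayPt} {c d : ArrayPt → (ZMod 3)ˣ}
    (hc : ∀ x ∈ ternaryGolayCode, monomialMap σ c x ∈ ternaryGolayCode)
    (hd : ∀ x ∈ ternaryGolayCode, monomialMap σ d x ∈ ternaryGolayCode) : d = c ∨ d = -c := by
  have hinj : Function.Injective fun x : ↥ternaryGolayCode => (⟨_, hc x.1 x.2⟩ : ↥ternaryGolayCode) := by
    intro x y hxy
    refine Subtype.ext (funext fun i => ?_)
    have := congrFun (congrArg Subtype.val hxy) (σ i)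
    simpa [monomialMap] using this
  have key := Cfsg.Agent.S1593.result (fun i => d i * (c i)⁻¹) fun x hx => by
    obtain ⟨⟨y, hy⟩, hyx⟩ := (Finite.injective_iff_surjective.1 hinj) ⟨x, hx⟩
    have hyx : monomialMap σ c y = x := congrArg Subtype.val hyx
    have e : monomialMap 1 (fun i => d i * (c i)⁻¹) x = monomialMap σ d y := by
      funext i
      rw [← hyx]
      show ((d i * (c i)⁻¹ : (ZMod 3)ˣ) : ZMod 3) * ((c i : ZMod 3) * y (σ.symm i)) = (d i : ZMod 3) * y (σ.symm i)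
      rw [Units.val_mul, mul_assoc, Units.inv_mul_cancel_left]
    rw [e]; exact hd y hy
  rcases key with k | k
  · exact Or.inl (funext fun i => mul_inv_eq_one.1 (k i))
  · exact Or.inr (funext fun i => by rw [Pi.neg_apply]; exact (mul_inv_eq_iff_eq_mul.1 (k i)).trans (neg_one_mul _))


/-- The monomial automorphism group of the length-12 ternary code has order 190080 and its permutation parts are exactly the automorphisms of its hexad system. -/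
theorem result : Nat.card {f : Equiv.Perm Cfsg.ArrayPt × (Cfsg.ArrayPt → (ZMod 3)ˣ) // (∀ x ∈ Cfsg.ternaryGolayCode, Cfsg.monomialMap f.1 f.2 x ∈ Cfsg.ternaryGolayCode)} = 190080 ∧ {σ : Equiv.Perm Cfsg.ArrayPt | ∃ c : Cfsg.ArrayPt → (ZMod 3)ˣ, (∀ x ∈ Cfsg.ternaryGolayCode, Cfsg.monomialMap σ c x ∈ Cfsg.ternaryGolayCode)} = (Cfsg.setSystemAut {h : Finset Cfsg.ArrayPt | ∃ x ∈ Cfsg.ternaryGolayCode, Cfsg.ternarySupport x = h ∧ h.card = 6} : Set (Equiv.Perm Cfsg.ArrayPt)) := by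
  refine ⟨?_, Set.ext fun σ => ⟨lifts_mem, aut_lifts⟩⟩
  obtain ⟨e, he⟩ := iso_5612 card_arrayPt card_DPt Cfsg.Agent.S1592.result.1 hexads12_steiner
  have hA : Nat.card (setSystemAut hexSys) = 95040 :=
    (Nat.card_congr (autEquiv e he).toEquiv).trans hexads12_isM12.2
  let F : setSystemAut hexSys × Bool → {f : Equiv.Perm ArrayPt × (ArrayPt → (ZMod 3)ˣ) //
      ∀ x ∈ ternaryGolayCode, monomialMap f.1 f.2 x ∈ ternaryGolayCode} := fun a =>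
    match a.2 with
    | true => ⟨(a.1.1, (aut_lifts a.1.2).choose), (aut_lifts a.1.2).choose_spec⟩
    | false => ⟨(a.1.1, -(aut_lifts a.1.2).choose), fun x hx => by
        have e : monomialMap a.1.1 (-(aut_lifts a.1.2).choose) x =
            -monomialMap a.1.1 (aut_lifts a.1.2).choose x := by funext i; simp [monomialMap]
        rw [e]; exact neg_mem ((aut_lifts a.1.2).choose_spec x hx)⟩
  have hF : Function.Bijective F := by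
    have hne : ∀ u : (ZMod 3)ˣ, u ≠ -u := by decide
    constructor
    · rintro ⟨a, b⟩ ⟨a', b'⟩ h
      have h' := congrArg Subtype.val h
      cases b <;> cases b' <;> have h1 := congrArg Prod.fst h' <;>
        obtain rfl : a = a' := Subtype.ext h1 <;> have h2 := congrArg Prod.snd h'
      · rfl
      · exact absurd (congrFun h2 (0, 0)).symm (hne _)
      · exact absurd (congrFun h2 (0, 0)) (hne _)
      · rfl
    · rintro ⟨⟨σ, c⟩, hc⟩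
      have hσ : σ ∈ setSystemAut hexSys := lifts_mem ⟨c, hc⟩
      rcases sign_unique (aut_lifts hσ).choose_spec hc with k | k
      · exact ⟨(⟨σ, hσ⟩, true), Subtype.ext (Prod.ext rfl k.symm)⟩
      · exact ⟨(⟨σ, hσ⟩, false), Subtype.ext (Prod.ext rfl k.symm)⟩
  rw [← Nat.card_congr (Equiv.ofBijective F hF), Nat.card_prod, hA, Nat.card_eq_fintype_card, Fintype.card_bool]

end Cfsg.Agent.S1594
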