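import Cfsg.Statements.S1595
import Cfsg.Agent.Lib.Golay.Design

set_option autoImplicit false
open Cfsg CfsgLib.Golay

namespace Cfsg.Agent.S1595

/-- Leech triangle of S(5, 6, 12): blocks meet in 0, 2, 3 or 4 points, and a block is met exactly in a given 2-, 3- or 4-subset by 3, 2, 3 blocks respectively. -/
theorem result {α : Type*} [Fintype α] [DecidableEq α] (hα : Fintype.card α = 12) {B : Set (Finset α)} (hB : Cfsg.IsSteinerSystem 5 6 B) (b : Finset α) (hb : b ∈ B) : (∀ c ∈ B, c ≠ b → (b ∩ c).card = 0 ∨ (b ∩ c).card = 2 ∨ (b ∩ c).card = 3 ∨ (b ∩ c).card = 4) ∧ ∀ s ⊆ b, (s.card = 2 → {c : Finset α | c ∈ B ∧ b ∩ c = s}.ncard = 3) ∧ (s.card = 3 → {c : Finset α | c ∈ B ∧ b ∩ c = s}.ncard = 2) ∧ (s.card = 4 → {c : Finset α | c ∈ B ∧ b ∩ c = s}.ncard = 3) := by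
  set D : Finset α → Finset (Finset α) := fun s => (blockFinset B).filter (s ⊆ ·) with hD
  set N : Finset α → ℕ := fun u => ((blockFinset B).filter fun c => b ∩ c = u).card with hN
  have hNset : ∀ u, {c : Finset α | c ∈ B ∧ b ∩ c = u}.ncard = N u := by
    intro u
    show _ = (((blockFinset B).filter fun c => b ∩ c = u)).card
    rw [← Set.ncard_coe_finset]
    congr 1
    ext c; simp [mem_blockFinset]
  have hb6 : b.card = 6 := hB.1 b hb
  have key : ∀ s ⊆ b, ∀ f : ℕ → ℕ, (∀ u ⊆ b, s ⊆ u → s.card < u.card → N u = f u.card) →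
      (D s).card = N s + ∑ j ∈ Finset.Ico (s.card + 1) 7, (6 - s.card).choose (j - s.card) * f j := by
    intro s hs f hf
    set P := b.powerset.filter (s ⊆ ·) with hP
    have hsP : s ∈ P := Finset.mem_filter.2 ⟨Finset.mem_powerset.2 hs, subset_rfl⟩
    have hsum : (D s).card = ∑ u ∈ P, N u := by
      rw [Finset.card_eq_sum_card_fiberwise (f := fun c => b ∩ c) (t := P) (fun c hc => by
        simp only [hD, Finset.coe_filter, Set.mem_ofPred_eq] at hc
        exact Finset.mem_coe.2 (Finset.mem_filter.2 ⟨Finset.mem_powerset.2 Finset.inter_subset_left,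
          Finset.subset_inter hs hc.2⟩))]
      refine Finset.sum_congr rfl fun u hu => congrArg Finset.card ?_
      rw [hD, Finset.filter_filter]
      refine Finset.filter_congr fun c _ => and_iff_right_of_imp fun e => ?_
      exact (Finset.mem_filter.1 hu).2.trans (e ▸ Finset.inter_subset_right)
    have hlt : ∀ u ∈ P.erase s, s.card < u.card := by
      intro u hu
      obtain ⟨hne, hu⟩ := Finset.mem_erase.1 hu
      exact Finset.card_lt_card (lt_of_le_of_ne (Finset.mem_filter.1 hu).2 (Ne.symm hne))
    rw [hsum, ← Finset.add_sum_erase P N hsP]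
    congr 1
    rw [← Finset.sum_fiberwise_of_maps_to (t := Finset.Ico (s.card + 1) 7) (g := Finset.card) (fun u hu => by
      have h1 := hlt u hu
      have h2 := Finset.card_le_card (Finset.mem_powerset.1 (Finset.mem_filter.1 (Finset.mem_of_mem_erase hu)).1)
      rw [Finset.mem_Ico]; omega)]
    refine Finset.sum_congr rfl fun j hj => ?_
    rw [Finset.mem_Ico] at hj
    have hfib : (P.erase s).filter (fun u => u.card = j) = (b.powersetCard j).filter (s ⊆ ·) := by
      ext u
      simp only [hP, Finset.mem_filter, Finset.mem_erase, Finset.mem_powerset, Finset.mem_powersetCard]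
      refine ⟨fun h => ⟨⟨h.1.2.1, h.2⟩, h.1.2.2⟩, fun h => ⟨⟨?_, h.1.1, h.2⟩, h.1.2⟩⟩
      rintro rfl
      omega
    rw [hfib, Finset.sum_congr rfl (g := fun _ => f j) (fun u hu => by
        simp only [Finset.mem_filter, Finset.mem_powersetCard] at hu
        rw [hf u hu.1.1 hu.2 (by omega), hu.1.2]),
      Finset.sum_const, card_powersetCard_superset hs (by omega), hb6, smul_eq_mul]
  have hlam : ∀ s : Finset α, ∀ l : ℕ, s.card ≤ 5 →
      l * (6 - s.card).choose (5 - s.card) = (12 - s.card).choose (5 - s.card) → (D s).card = l := by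
    intro s l hs hl
    have := blocks_through hB s hs
    rw [hα, ← hl] at this
    exact Nat.eq_of_mul_eq_mul_right (Nat.choose_pos (by omega)) this
  have h6 : ∀ u ⊆ b, u.card = 6 → N u = 1 := by
    intro u hu hc
    obtain rfl : u = b := Finset.eq_of_subset_of_card_le hu (by omega)
    rw [hN, Finset.card_eq_one]
    refine ⟨u, ?_⟩
    ext c
    simp only [Finset.mem_filter, mem_blockFinset, Finset.mem_singleton]
    refine ⟨fun h => (steiner_two_blocks hB hb h.1 (by rw [h.2]; omega)).symm, ?_⟩
    rintro rfl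
    exact ⟨hb, Finset.inter_self _⟩
  have h5 : ∀ u ⊆ b, u.card = 5 → N u = 0 := by
    intro u hu hc
    rw [hN, Finset.card_eq_zero, Finset.filter_eq_empty_iff]
    intro c hc' e
    have := steiner_two_blocks hB hb (mem_blockFinset.1 hc') (by rw [e]; omega)
    rw [← this, Finset.inter_self] at e
    rw [← e] at hc
    omega
  have hn4 : ∀ s ⊆ b, s.card = 4 → N s = 3 := by
    intro s hs hc
    have := key s hs (fun j => if j = 6 then 1 else 0) fun u hu _ hlt => by
      have := Finset.card_le_card hu
      obtain h | h : u.card = 5 ∨ u.card = 6 := by omega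
      · simp [h5 u hu h, h]
      · simp [h6 u hu h, h]
    rw [hlam s 4 (by omega) (by rw [hc]; decide), hc] at this
    simp [Finset.sum_Ico_succ_top] at this
    omega
  have hn3 : ∀ s ⊆ b, s.card = 3 → N s = 2 := by
    intro s hs hc
    have := key s hs (fun j => if j = 6 then 1 else if j = 4 then 3 else 0) fun u hu _ hlt => by
      have := Finset.card_le_card hu
      obtain h | h | h : u.card = 4 ∨ u.card = 5 ∨ u.card = 6 := by omega
      · simp [hn4 u hu h, h]
      · simp [h5 u hu h, h]
      · simp [h6 u hu h, h]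
    rw [hlam s 12 (by omega) (by rw [hc]; decide), hc] at this
    simp [Finset.sum_Ico_succ_top, Nat.choose] at this
    omega
  have hn2 : ∀ s ⊆ b, s.card = 2 → N s = 3 := by
    intro s hs hc
    have := key s hs (fun j => if j = 6 then 1 else if j = 4 then 3 else if j = 3 then 2 else 0) fun u hu _ hlt => by
      have := Finset.card_le_card hu
      obtain h | h | h | h : u.card = 3 ∨ u.card = 4 ∨ u.card = 5 ∨ u.card = 6 := by omega
      · simp [hn3 u hu h, h]
      · simp [hn4 u hu h, h]
      · simp [h5 u hu h, h]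
      · simp [h6 u hu h, h]
    rw [hlam s 30 (by omega) (by rw [hc]; decide), hc] at this
    simp [Finset.sum_Ico_succ_top, Nat.choose] at this
    omega
  have hn1 : ∀ s ⊆ b, s.card = 1 → N s = 0 := by
    intro s hs hc
    have := key s hs (fun j => if j = 6 then 1 else if j = 4 then 3 else if j = 3 then 2 else if j = 2 then 3 else 0)
      fun u hu _ hlt => by
      have := Finset.card_le_card hu
      obtain h | h | h | h | h : u.card = 2 ∨ u.card = 3 ∨ u.card = 4 ∨ u.card = 5 ∨ u.card = 6 := by omega
      · simp [hn2 u hu h, h]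
      · simp [hn3 u hu h, h]
      · simp [hn4 u hu h, h]
      · simp [h5 u hu h, h]
      · simp [h6 u hu h, h]
    rw [hlam s 66 (by omega) (by rw [hc]; decide), hc] at this
    simp [Finset.sum_Ico_succ_top, Nat.choose] at this
    omega
  refine ⟨fun c hc hne => ?_, fun s hs => ⟨fun h => (hNset s).trans (hn2 s hs h),
    fun h => (hNset s).trans (hn3 s hs h), fun h => (hNset s).trans (hn4 s hs h)⟩⟩
  have hle : (b ∩ c).card < 5 := by
    by_contra h
    exact hne (steiner_two_blocks hB hb hc (by omega)).symm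
  have h1 : (b ∩ c).card ≠ 1 := by
    intro h
    have h0 := hn1 (b ∩ c) Finset.inter_subset_left h
    rw [hN, Finset.card_eq_zero, Finset.filter_eq_empty_iff] at h0
    exact h0 (mem_blockFinset.2 hc) rfl
  omega

end Cfsg.Agent.S1595
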