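import Cfsg.Statements.S1596
import Cfsg.Agent.Lib.M24Cert.Quartets

set_option autoImplicit false
open scoped Pointwise
open Cfsg CfsgLib.Golay CfsgLib.M24Cert

namespace Cfsg.Agent.S1596

/-- A quartet of a dodecad is determined by any two of its triples: two disjoint triples uniting to a hexad extend to exactly one quartet. -/
theorem result (d : Finset Cfsg.GolayPt) (hd : d ∈ Cfsg.dodecads) (t u : Finset Cfsg.GolayPt) (ht : t.card = 3) (hu : u.card = 3) (htu : Disjoint t u) (hh : t ∪ u ∈ Cfsg.hexadsOn d) : ∃! Q : Finset (Finset Cfsg.GolayPt), Q ∈ Cfsg.quartets d ∧ t ∈ Q ∧ u ∈ Q := by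
  obtain ⟨a, ha, rfl⟩ := dodecads_transitive hd
  obtain ⟨hc, o, ho, he⟩ := hh
  have hsub : t ∪ u ⊆ a • toSet baseDodecad := he ▸ Finset.inter_subset_right
  obtain ⟨t', rfl⟩ : ∃ t', t = a • t' := ⟨a⁻¹ • t, (smul_inv_smul a t).symm⟩
  have htd : t' ⊆ toSet baseDodecad :=
    Finset.smul_finset_subset_smul_finset_iff.1 (Finset.subset_union_left.trans hsub)
  rw [Finset.card_smul_finset] at ht
  obtain ⟨h, hh1, hh2, rfl⟩ := dodecad_triple_map htd ht
  set g := a * h with hg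
  have hgd : g • toSet baseDodecad = a • toSet baseDodecad := by rw [hg, mul_smul, hh2]
  have hgM : g ∈ M24 := mul_mem ha hh1
  obtain ⟨u', rfl⟩ : ∃ u', u = g • u' := ⟨g⁻¹ • u, (smul_inv_smul g u).symm⟩
  rw [← mul_smul, ← hg] at hc he hsub htu ⊢
  rw [← hgd, ← Finset.smul_finset_union] at hsub he
  rw [← Finset.smul_finset_union, Finset.card_smul_finset] at hc
  rw [Finset.card_smul_finset] at hu
  have hud : u' ⊆ toSet baseDodecad :=
    Finset.subset_union_right.trans (Finset.smul_finset_subset_smul_finset_iff.1 hsub)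
  have hhex : toSet 7 ∪ u' ∈ hexadsOn (toSet baseDodecad) := by
    refine ⟨hc, g⁻¹ • o, octads_smul (inv_mem hgM) ho, ?_⟩
    rw [← inv_smul_smul g (toSet baseDodecad), ← Finset.smul_finset_inter, he, inv_smul_smul]
  obtain ⟨j, hj, -, h7, hu', huniq⟩ := quart_through_spec hu hud hhex
  rw [← hgd]
  refine ⟨g • quartTbl.el j, ⟨quartets_smul hgM (quartTbl_mem j hj), Finset.smul_mem_smul_finset h7,
    Finset.smul_mem_smul_finset hu'⟩, ?_⟩
  rintro Q ⟨hQ, hQt, hQu⟩
  obtain ⟨Q', rfl⟩ : ∃ Q', Q = g • Q' := ⟨g⁻¹ • Q, (smul_inv_smul g Q).symm⟩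
  rw [Finset.smul_mem_smul_finset_iff] at hQt hQu
  rw [huniq Q' ((quartets_smul_iff hgM Q').1 hQ) hQt hQu]

end Cfsg.Agent.S1596
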