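import Cfsg.Statements.S1597
import Cfsg.Agent.Lib.M24Cert.Quartets

set_option autoImplicit false
open scoped Pointwise
open Cfsg CfsgLib.Golay CfsgLib.M24Cert

namespace Cfsg.Agent.S1597

/-- A dodecad has 220 quartets and its stabiliser is transitive on them. -/
theorem result (d : Finset Cfsg.GolayPt) (hd : d ∈ Cfsg.dodecads) : (Cfsg.quartets d).ncard = 220 ∧ ∀ Q ∈ Cfsg.quartets d, ∀ Q' ∈ Cfsg.quartets d, ∃ g : Equiv.Perm Cfsg.GolayPt, g ∈ Cfsg.M24 ∧ g • d = d ∧ g • Q = Q' := by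
  refine ⟨?_, fun Q hQ Q' hQ' => ?_⟩
  · obtain ⟨a, ha, rfl⟩ := dodecads_transitive hd
    have e : quartets (a • toSet baseDodecad) = (a • ·) '' quartets (toSet baseDodecad) := by
      ext Q
      constructor
      · intro hQ
        exact ⟨a⁻¹ • Q, (quartets_smul_iff ha _).1 (by rw [smul_inv_smul]; exact hQ), smul_inv_smul a Q⟩
      · rintro ⟨Q, hQ, rfl⟩
        exact quartets_smul ha hQ
    rw [e, Set.ncard_image_of_injective _ (MulAction.injective a), quartets_base, Tbl.ncard_range quartTbl_sorted]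
    rfl
  · obtain ⟨g, hg, hgd, hgQ⟩ := quartets_transitive hd hQ
    obtain ⟨k, hk, hkd, hkQ⟩ := quartets_transitive hd hQ'
    refine ⟨k * g⁻¹, mul_mem hk (inv_mem hg), ?_, ?_⟩
    · conv_lhs => rw [← hgd, mul_smul, inv_smul_smul]
      exact hkd
    · conv_lhs => rw [← hgQ, mul_smul, inv_smul_smul]
      exact hkQ

end Cfsg.Agent.S1597
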