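import Cfsg.Statements.S1598
import Cfsg.Agent.Lib.M24Cert.QuartetStab

set_option autoImplicit false
open scoped Pointwise
open Cfsg CfsgLib.Golay CfsgLib.M24Cert

namespace Cfsg.Agent.S1598

/-- A quartet stabiliser inside the dodecad stabiliser has order 432, a normal subgroup of order 9 with quotient GL(2, 3), and is transitive on the dodecad. -/
theorem result (d : Finset Cfsg.GolayPt) (hd : d ∈ Cfsg.dodecads) (Q : Finset (Finset Cfsg.GolayPt)) (hQ : Q ∈ Cfsg.quartets d) : Nat.card ↥(MulAction.stabilizer Cfsg.M24 d ⊓ MulAction.stabilizer Cfsg.M24 Q) = 432 ∧ (∃ (N : Subgroup ↥(MulAction.stabilizer Cfsg.M24 d ⊓ MulAction.stabilizer Cfsg.M24 Q)) (_ : N.Normal), Nat.card N = 9 ∧ Nonempty (↥(MulAction.stabilizer Cfsg.M24 d ⊓ MulAction.stabilizer Cfsg.M24 Q) ⧸ N ≃* GL (Fin 2) (ZMod 3))) ∧ ∀ p ∈ d, ∀ q ∈ d, ∃ g ∈ (MulAction.stabilizer Cfsg.M24 d ⊓ MulAction.stabilizer Cfsg.M24 Q), ((g : ↥Cfsg.M24) : Equiv.Perm Cfsg.GolayPt)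 p = q := by
  have hcard : Nat.card ↥(MulAction.stabilizer M24 d ⊓ MulAction.stabilizer M24 Q) = 432 := by
    rw [stab_quartet_eq hd hQ]; exact card_stab_quartet hd hQ
  obtain ⟨a, ha, rfl, rfl⟩ := quartets_transitive hd hQ
  obtain ⟨heq, hker⟩ := quartGroup_facts
  have hmemK : ∀ x : ↥M24, x ∈ MulAction.stabilizer M24 (a • toSet baseDodecad) ⊓ MulAction.stabilizer M24 (a • quartTbl.el 101) ↔
      a⁻¹ * (x : Equiv.Perm GolayPt) * a ∈ quartGroup := by
    intro x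
    rw [stab_quartet_eq hd hQ, heq, mem_stabF]
    have hx : a⁻¹ * (x : Equiv.Perm GolayPt) * a ∈ M24 := mul_mem (mul_mem (inv_mem ha) x.2) ha
    rw [and_iff_right hx, mul_smul, mul_smul, inv_smul_eq_iff]
    exact Iff.rfl
  let e : ↥(MulAction.stabilizer M24 (a • toSet baseDodecad) ⊓ MulAction.stabilizer M24 (a • quartTbl.el 101)) →*
      ↥quartGroup :=
    { toFun := fun x => ⟨_, (hmemK x.1).1 x.2⟩
      map_one' := Subtype.ext (by simp)
      map_mul' := fun x y => Subtype.ext (by simp [mul_assoc]) }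
  have hfrom : ∀ y ∈ quartGroup, ∃ h : a * y * a⁻¹ ∈ M24,
      (⟨_, h⟩ : M24) ∈ MulAction.stabilizer M24 (a • toSet baseDodecad) ⊓ MulAction.stabilizer M24 (a • quartTbl.el 101) := by
    intro y hy
    have hy' : y ∈ stabF (quartTbl.el 101) := by rw [← heq]; exact hy
    refine ⟨mul_mem (mul_mem ha (mem_stabF.1 hy').1) (inv_mem ha), (hmemK _).2 ?_⟩
    rw [show a⁻¹ * (a * y * a⁻¹) * a = y by group]
    exact hy
  have hesurj : Function.Surjective e := fun y =>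
    ⟨⟨⟨_, (hfrom y.1 y.2).1⟩, (hfrom y.1 y.2).2⟩,
      Subtype.ext (show a⁻¹ * (a * (y : Equiv.Perm GolayPt) * a⁻¹) * a = y by group)⟩
  have heinj : Function.Injective e := fun x y h => by
    have h' : a⁻¹ * ((x : M24) : Equiv.Perm GolayPt) * a = a⁻¹ * ((y : M24) : Equiv.Perm GolayPt) * a :=
      congrArg Subtype.val h
    exact Subtype.ext (Subtype.ext (mul_left_cancel (mul_right_cancel h')))
  refine ⟨hcard, ⟨(quartHom.comp e).ker, MonoidHom.normal_ker _, ?_,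
    ⟨QuotientGroup.quotientKerEquivOfSurjective _ (quartHom_surjective.comp hesurj)⟩⟩, fun p hp q hq => ?_⟩
  · rw [← hker, ← MonoidHom.comap_ker]
    exact Nat.card_congr ((Equiv.ofBijective e ⟨heinj, hesurj⟩).subtypeEquiv fun x => Iff.rfl)
  have hreach : ∀ p ∈ a • toSet baseDodecad, ∃ y ∈ quartGroup, a (y (pt 0)) = p := by
    intro p hp
    obtain ⟨r, hr, rfl⟩ := Finset.mem_smul_finset.1 hp
    rw [mem_toSet] at hr
    obtain ⟨y, hy, e'⟩ := quart_move (ptEquiv r).isLt hr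
    refine ⟨y, by rw [heq]; exact hy, ?_⟩
    rw [e', pt_ptEquiv]
    rfl
  obtain ⟨y, hy, rfl⟩ := hreach p hp
  obtain ⟨z, hz, rfl⟩ := hreach q hq
  have hzy := mul_mem hz (inv_mem hy)
  refine ⟨_, (hfrom _ hzy).2, ?_⟩
  show (a * (z * y⁻¹) * a⁻¹) (a (y (pt 0))) = a (z (pt 0))
  simp

end Cfsg.Agent.S1598
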