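import Cfsg.Statements.S1599
import Cfsg.Agent.Lib.M24Cert.Quartets

set_option autoImplicit false
open scoped Pointwise
open Cfsg CfsgLib.Golay CfsgLib.M24Cert

namespace Cfsg.Agent.S1599

open Cfsg CfsgLib.Golay CfsgLib.M24Cert in
theorem quartStab_forest : gensOk (quartTbl.obj 101) quartStabGens = true ∧
    quartTbl.forestOk quartStabGens quartStabAux (fun _ => true) [101, 20, 3, 0, 2] = true ∧
    rootsOk quartTbl (quartTbl.obj 101) [101, 20, 3, 0, 2] = true ∧
    ([20, 3, 0, 2].map fun r => countLt (fun i => Nat.beq (posCodeL (quartTbl.obj 101) (quartTbl.obj i))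
      (posCodeL (quartTbl.obj 101) (quartTbl.obj r))) quartTbl.N) = [12, 27, 72, 108] := by
  refine ⟨?_, ?_, ?_, ?_⟩ <;> decide +kernel


/-- A quartet stabiliser has five orbits on the quartets of its dodecad, of sizes 1, 12, 27, 72, 108. -/
theorem result (d : Finset Cfsg.GolayPt) (hd : d ∈ Cfsg.dodecads) (Q : Finset (Finset Cfsg.GolayPt)) (hQ : Q ∈ Cfsg.quartets d) : ∃ X₁ ∈ Cfsg.quartets d, ∃ X₂ ∈ Cfsg.quartets d, ∃ X₃ ∈ Cfsg.quartets d, ∃ X₄ ∈ Cfsg.quartets d, (MulAction.orbit ↥(MulAction.stabilizer Cfsg.M24 d ⊓ MulAction.stabilizer Cfsg.M24 Q) X₁).ncard = 12 ∧ (MulAction.orbit ↥(MulAction.stabilizer Cfsg.M24 d ⊓ MulAction.stabilizer Cfsg.M24 Q) X₂).ncard = 27 ∧ (MulAction.orbit ↥(MulAction.stabilizer Cfsg.M24 d ⊓ MulAction.stabilizer Cfsg.M24 Q) X₃).ncard = 72 ∧ (MulAction.orbit ↥(MulAction.stabilizer Cfsg.M24 d ⊓ MulAction.stabilizer Cfsg.M24 Q) X₄).ncard = 108 ∧ Cfsg.quartets d = {Q} ∪ MulAction.orbit ↥(MulAction.stabilizer Cfsg.M24 d ⊓ MulAction.stabilizer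 Cfsg.M24 Q) X₁ ∪ MulAction.orbit ↥(MulAction.stabilizer Cfsg.M24 d ⊓ MulAction.stabilizer Cfsg.M24 Q) X₂ ∪ MulAction.orbit ↥(MulAction.stabilizer Cfsg.M24 d ⊓ MulAction.stabilizer Cfsg.M24 Q) X₃ ∪ MulAction.orbit ↥(MulAction.stabilizer Cfsg.M24 d ⊓ MulAction.stabilizer Cfsg.M24 Q) X₄ := by
  rw [stab_quartet_eq hd hQ]
  obtain ⟨g, hg, rfl, rfl⟩ := quartets_transitive hd hQ
  obtain ⟨hgens, hf, hr, hcnt⟩ := quartStab_forest
  have hreach := Tbl.forest_spec hf (stabF (quartTbl.el 101)) (gensOk_spec (quartTbl.small 101) hgens)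
  simp only [rootsOk, Bool.and_eq_true, List.all_eq_true, decide_eq_true_eq] at hr
  have hBs : strictB (quartTbl.obj 101) = true := Tbl.strict quartTbl_sorted (by decide : 101 < 220)
  have hcode : ∀ i < quartTbl.N, posCode (quartTbl.el 101) (quartTbl.el i) = posCodeL (quartTbl.obj 101) (quartTbl.obj i) :=
    fun i hi => posCode_oset (quartTbl.small 101) (quartTbl.small i) hBs (Tbl.strict quartTbl_sorted hi)
  have hinv : ∀ x ∈ stabF (quartTbl.el 101), ∀ X ∈ quartTbl.range, x • X ∈ quartTbl.range := by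
    intro x hx X hX
    obtain ⟨hx1, hx2⟩ := mem_stabF.1 hx
    have hd0 : x • toSet baseDodecad = toSet baseDodecad := by
      have h := stab_quartet_eq baseDodecad_mem (quartTbl_mem 101 (by decide))
      have hm : (⟨x, hx1⟩ : M24) ∈ MulAction.stabilizer M24 (quartTbl.el 101) := hx2
      rw [← h] at hm
      exact hm.1
    rw [← quartets_base] at hX ⊢
    exact hd0 ▸ quartets_smul hx1 hX
  have hclass : ∀ r ∈ [101, 20, 3, 0, 2],
      (MulAction.orbit ↥(MulAction.stabilizer M24 (g • quartTbl.el 101)) (g • quartTbl.el r)) =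
        (g • ·) '' {X | X ∈ quartTbl.range ∧ posCode (quartTbl.el 101) X = posCodeL (quartTbl.obj 101) (quartTbl.obj r)} ∧
      (MulAction.orbit ↥(MulAction.stabilizer M24 (g • quartTbl.el 101)) (g • quartTbl.el r)).ncard =
        countLt (fun i => Nat.beq (posCodeL (quartTbl.obj 101) (quartTbl.obj i)) (posCodeL (quartTbl.obj 101) (quartTbl.obj r))) quartTbl.N := by
    intro r hr'
    have hrN := hr.1 r hr'
    have heq : orbF (quartTbl.el 101) (quartTbl.el r) =
        {X | X ∈ quartTbl.range ∧ posCode (quartTbl.el 101) X = posCodeL (quartTbl.obj 101) (quartTbl.obj r)} := by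
      apply Set.Subset.antisymm
      · rintro _ ⟨x, hx, rfl⟩
        exact ⟨hinv x hx _ ⟨r, hrN, rfl⟩, by rw [posCode_smul (mem_stabF.1 hx).2, hcode r hrN]⟩
      · rintro _ ⟨⟨i, hi, rfl⟩, hpc⟩
        obtain ⟨r', hr'', x, hx, he⟩ := hreach i hi rfl
        have : posCodeL (quartTbl.obj 101) (quartTbl.obj r') = posCodeL (quartTbl.obj 101) (quartTbl.obj r) := by
          rw [← hcode r' (hr.1 r' hr''), ← posCode_smul (mem_stabF.1 hx).2, he, hpc]
        rw [List.inj_on_of_nodup_map hr.2 hr'' hr' this] at he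
        exact ⟨x, hx, he⟩
    have hor : MulAction.orbit ↥(MulAction.stabilizer M24 (g • quartTbl.el 101)) (g • quartTbl.el r) =
        (g • ·) '' orbF (quartTbl.el 101) (quartTbl.el r) := by
      rw [orbit_eq, smul_orbF hg]
    refine ⟨by rw [hor, heq], ?_⟩
    rw [hor, heq, Set.ncard_image_of_injective _ (MulAction.injective g)]
    exact Tbl.ncard_filter quartTbl_sorted _ _ fun i hi => by rw [hcode i hi, Nat.beq_eq]
  have hmem : ∀ r ∈ [101, 20, 3, 0, 2], g • quartTbl.el r ∈ quartets (g • toSet baseDodecad) := fun r hr' =>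
    quartets_smul hg (quartTbl_mem r (hr.1 r hr'))
  simp only [List.map_cons, List.map_nil, List.cons.injEq] at hcnt
  refine ⟨_, hmem 20 (by simp), _, hmem 3 (by simp), _, hmem 0 (by simp), _, hmem 2 (by simp),
    (hclass 20 (by simp)).2.trans hcnt.1, (hclass 3 (by simp)).2.trans hcnt.2.1, (hclass 0 (by simp)).2.trans hcnt.2.2.1,
    (hclass 2 (by simp)).2.trans hcnt.2.2.2.1, ?_⟩
  have hself : MulAction.orbit ↥(MulAction.stabilizer M24 (g • quartTbl.el 101)) (g • quartTbl.el 101) =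
      {g • quartTbl.el 101} := by
    ext Y
    refine ⟨?_, fun h => by rw [Set.mem_singleton_iff.1 h]; exact MulAction.mem_orbit_self _⟩
    rintro ⟨x, rfl⟩
    exact x.2
  ext X
  constructor
  · intro hX
    obtain ⟨Y, rfl⟩ : ∃ Y, X = g • Y := ⟨g⁻¹ • X, (smul_inv_smul g X).symm⟩
    rw [quartets_smul_iff hg, quartets_base] at hX
    obtain ⟨i, hi, rfl⟩ := hX
    obtain ⟨r, hr', x, hx, he⟩ := hreach i hi rfl
    have hm : g • quartTbl.el i ∈ MulAction.orbit ↥(MulAction.stabilizer M24 (g • quartTbl.el 101)) (g • quartTbl.el r) := by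
      rw [(hclass r hr').1]
      exact ⟨_, ⟨⟨i, hi, rfl⟩, by rw [← he, posCode_smul (mem_stabF.1 hx).2, hcode r (hr.1 r hr')]⟩, rfl⟩
    simp only [List.mem_cons, List.not_mem_nil, or_false] at hr'
    rcases hr' with rfl | rfl | rfl | rfl | rfl
    · rw [hself] at hm
      exact Or.inl (Or.inl (Or.inl (Or.inl hm)))
    · exact Or.inl (Or.inl (Or.inl (Or.inr hm)))
    · exact Or.inl (Or.inl (Or.inr hm))
    · exact Or.inl (Or.inr hm)
    · exact Or.inr hm
  · intro h
    have hmove : ∀ r ∈ [101, 20, 3, 0, 2],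
        X ∈ MulAction.orbit ↥(MulAction.stabilizer M24 (g • quartTbl.el 101)) (g • quartTbl.el r) →
          X ∈ quartets (g • toSet baseDodecad) := by
      intro r hr' hX
      obtain ⟨⟨⟨x, hx1⟩, hx2⟩, rfl⟩ := hX
      have hm : (⟨x, hx1⟩ : M24) ∈ MulAction.stabilizer M24 (g • quartTbl.el 101) := hx2
      rw [← stab_quartet_eq hd hQ] at hm
      have hd0 : x • g • toSet baseDodecad = g • toSet baseDodecad := hm.1
      have h := quartets_smul hx1 (hmem r hr')
      rw [hd0] at h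
      exact h
    simp only [Set.mem_union, Set.mem_singleton_iff] at h
    rcases h with (((h | h) | h) | h) | h
    · rw [h]; exact hmem 101 (by simp)
    · exact hmove 20 (by simp) h
    · exact hmove 3 (by simp) h
    · exact hmove 0 (by simp) h
    · exact hmove 2 (by simp) h

end Cfsg.Agent.S1599
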