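import Cfsg.Statements.S1600
import Cfsg.Agent.Lib.M24Cert.Nine
import Cfsg.Agent.Lib.M24Cert.ElevenCore

set_option autoImplicit false
open scoped Pointwise
open Cfsg

namespace Cfsg.Agent.S1600

open CfsgLib.Golay CfsgLib.M24Cert CfsgLib.M24Cert.Eleven
open scoped Pointwise

/-- The dodecad-fixing elements used for transitivity. -/
def moves : List (List ℕ) := nineList.flatMap fun a => quatList.map fun q => compL q a

theorem moves_ok : (moves.all fun L => validL 24 L && imgMask L baseDodecad == baseDodecad) = true ∧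
    ((List.range 24).all fun i => (List.range 24).all fun j => baseDodecad.testBit i || baseDodecad.testBit j ||
      moves.any fun L => L.getD i 0 == j) = true := by
  constructor <;> decide +kernel

theorem moves_mem {L : List ℕ} (h : L ∈ moves) : validL 24 L = true ∧ pL L ∈ nineGroup := by
  obtain ⟨a, ha, h⟩ := List.mem_flatMap.1 h
  obtain ⟨q, hq, rfl⟩ := List.mem_map.1 h
  have h1 := nine_gens a (List.mem_append_left _ ha)
  have h2 : validL 24 q = true ∧ pL q ∈ nineGroup := by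
    simp only [quatList, List.mem_append, List.mem_map] at hq
    have hA := nine_gens quatA (by simp)
    have hX := nine_gens quatX (by simp)
    rcases hq with ⟨i, -, rfl⟩ | ⟨i, -, rfl⟩
    · exact powL_mem hA.1 hA.2 i
    · obtain ⟨p1, p2⟩ := powL_mem hA.1 hA.2 i
      exact ⟨validL_compL hX.1 p1, by rw [pL_compL hX.1 p1]; exact mul_mem hX.2 p2⟩
  exact ⟨validL_compL h2.1 h1.1, by rw [pL_compL h2.1 h1.1]; exact mul_mem h2.2 h1.2⟩

theorem exists_config {d : Finset GolayPt} (hd : d ∈ dodecads) {p q r : GolayPt} (hp : p ∈ d) (hq : q ∈ d)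
    (hr : r ∈ d) (hpq : p ≠ q) (hpr : p ≠ r) (hqr : q ≠ r) :
    ∃ u ∈ M24, u • toSet baseDodecad = d ∧ u (pt 0) = p ∧ u (pt 1) = q ∧ u (pt 2) = r := by
  obtain ⟨g, hg, hgd, hgp⟩ := dodecad_point_transitive hd hp
  have hin : ∀ a ∈ d, g.symm a ∈ toSet baseDodecad := fun a ha => by
    rw [← hgd] at ha
    obtain ⟨b, hb, rfl⟩ := Finset.mem_smul_finset.1 ha
    simpa using hb
  have hp0 : g.symm p = pt 0 := g.symm_apply_eq.2 hgp.symm
  obtain ⟨k, hk, h1, h2⟩ := M11_map_two (a := pt 1) (b := pt 2) (c := g.symm q) (d := g.symm r)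
    (by decide +kernel) (by decide +kernel) (hin q hq) (hin r hr) (by decide +kernel) (by decide +kernel)
    (fun e => hpq (g.symm.injective (hp0.trans e.symm))) (fun e => hpr (g.symm.injective (hp0.trans e.symm)))
    (by decide +kernel) (fun e => hqr (g.symm.injective e))
  refine ⟨g * k, mul_mem hg (eleven_le_M24 hk), ?_, ?_, ?_, ?_⟩
  · rw [mul_smul, (mem_M12.1 (M11_le_M12 hk)).2, hgd]
  · rw [Equiv.Perm.mul_apply, (mem_M11.1 hk).2, hgp]
  · rw [Equiv.Perm.mul_apply, h1, g.apply_symm_apply]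
  · rw [Equiv.Perm.mul_apply, h2, g.apply_symm_apply]


/-- The pointwise stabiliser of three points of a dodecad inside the dodecad stabiliser (order 72) is transitive on the complementary dodecad. -/
theorem result (d : Finset Cfsg.GolayPt) (hd : d ∈ Cfsg.dodecads) (p q r : Cfsg.GolayPt) (hp : p ∈ d) (hq : q ∈ d) (hr : r ∈ d) (hpq : p ≠ q) (hpr : p ≠ r) (hqr : q ≠ r) : Nat.card ↥(MulAction.stabilizer Cfsg.M24 d ⊓ MulAction.stabilizer Cfsg.M24 p ⊓ MulAction.stabilizer Cfsg.M24 q ⊓ MulAction.stabilizer Cfsg.M24 r) = 72 ∧ ∀ x ∉ d, ∀ y ∉ d, ∃ g ∈ (MulAction.stabilizer Cfsg.M24 d ⊓ MulAction.stabilizer Cfsg.M24 p ⊓ MulAction.stabilizer Cfsg.M24 q ⊓ MulAction.stabilizer Cfsg.M24 r), ((g : ↥Cfsg.M24) : Equiv.Perm Cfsg.GolayPt) x = y := by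
  obtain ⟨u, hu, hud, hup, huq, hur⟩ := exists_config hd hp hq hr hpq hpr hqr
  set S : Subgroup ↥M24 := MulAction.stabilizer M24 d ⊓ MulAction.stabilizer M24 p ⊓ MulAction.stabilizer M24 q ⊓
    MulAction.stabilizer M24 r with hS
  have hiff : ∀ x : ↥M24, x ∈ S ↔ u⁻¹ * x.val * u ∈ nineGroup := by
    intro x
    show _ ↔ _ ∧ _ ∧ _ ∧ _ ∧ _
    rw [conj_fix_set, conj_fix_pt, conj_fix_pt, conj_fix_pt, hud, hup, huq, hur]
    exact ⟨fun h => ⟨mul_mem (mul_mem (inv_mem hu) x.2) hu, h.1.1.1, h.1.1.2, h.1.2, h.2⟩,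
      fun h => ⟨⟨⟨h.2.1, h.2.2.1⟩, h.2.2.2.1⟩, h.2.2.2.2⟩⟩
  have hle : nineGroup ≤ M24 := fun g hg => hg.1
  refine ⟨?_, fun x hx y hy => ?_⟩
  · obtain ⟨e⟩ := equiv_of_conj hle hu hiff
    exact (Nat.card_congr e.toEquiv).trans card_nineGroup
  · have hout : ∀ a : GolayPt, a ∉ d → baseDodecad.testBit (ptEquiv (u.symm a)).val = false := by
      intro a ha
      rw [Bool.eq_false_iff]
      intro h
      apply ha
      rw [← hud, ← u.apply_symm_apply a]
      exact Finset.smul_mem_smul_finset (a := u) (mem_toSet.2 h)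
    have h := moves_ok.2
    simp only [List.all_eq_true, List.mem_range, Bool.or_eq_true, List.any_eq_true, beq_iff_eq] at h
    rcases h _ (ptEquiv (u.symm x)).isLt _ (ptEquiv (u.symm y)).isLt with (h0 | h0) | ⟨L, hL, hLe⟩
    · rw [hout x hx] at h0; exact absurd h0 (by decide)
    · rw [hout y hy] at h0; exact absurd h0 (by decide)
    · obtain ⟨hv, hm⟩ := moves_mem hL
      have hxy : pL L (u.symm x) = u.symm y := ptEquiv.injective (Fin.ext ((permOf_apply ptEquiv hv _).trans hLe))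
      refine ⟨⟨u * pL L * u⁻¹, mul_mem (mul_mem hu (hle hm)) (inv_mem hu)⟩, (hiff _).2 ?_, ?_⟩
      · simpa [mul_assoc] using hm
      · show u (pL L (u.symm x)) = y
        rw [hxy, u.apply_symm_apply]

end Cfsg.Agent.S1600
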