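import Cfsg.Statements.S1601
import Cfsg.Agent.Lib.M24Cert.ElevenCore

set_option autoImplicit false
open scoped Pointwise
open Cfsg

namespace Cfsg.Agent.S1601

open CfsgLib.Golay CfsgLib.M24Cert CfsgLib.M24Cert.Eleven
open scoped Pointwise

/-- The images of the translations. -/
def powsU : List (List ℕ) := [
  [0,1,2,3,4,5,6,7,8,9,10,11,12,13,14,15,16,17,18,19,20,21,22,23],
  [0,8,3,13,6,5,9,10,16,18,23,19,1,12,17,20,4,21,2,7,14,22,11,15],
  [0,16,13,12,9,5,18,23,4,2,15,7,8,1,21,14,6,22,3,10,17,11,19,20],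
  [0,4,12,1,18,5,2,15,6,3,20,10,16,8,22,17,9,11,13,23,21,19,7,14],
  [0,6,1,8,2,5,3,20,9,13,14,23,4,16,11,21,18,19,12,15,22,7,10,17],
  [0,9,8,16,3,5,13,14,18,12,17,15,6,4,19,22,2,7,1,20,11,10,23,21],
  [0,18,16,4,13,5,12,17,2,1,21,20,9,6,7,11,3,10,8,14,19,23,15,22],
  [0,2,4,6,12,5,1,21,3,8,22,14,18,9,10,19,13,23,16,17,7,15,20,11],
  [0,3,6,9,1,5,8,22,13,16,11,17,2,18,23,7,12,15,4,21,10,20,14,19],
  [0,13,9,18,8,5,16,11,12,4,19,21,3,2,15,10,1,20,6,22,23,14,17,7],
  [0,12,18,2,16,5,4,19,1,6,7,22,13,3,20,23,8,14,9,11,15,17,21,10]]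

/-- The images of the diagonal matrices. -/
def powsD : List (List ℕ) := [
  [0,1,2,3,4,5,6,7,8,9,10,11,12,13,14,15,16,17,18,19,20,21,22,23],
  [0,6,12,4,9,5,13,23,3,16,17,14,1,2,7,15,8,20,18,11,21,22,10,19],
  [0,13,1,9,16,5,2,19,4,8,20,7,6,12,23,15,3,21,18,14,22,10,17,11],
  [0,2,6,16,8,5,12,11,9,3,21,23,13,1,19,15,4,22,18,7,10,17,20,14],
  [0,12,13,8,3,5,1,14,16,4,22,19,2,6,11,15,9,10,18,23,17,20,21,7]]

/-- The image of the inversion. -/
def listW : List ℕ := [0,12,6,8,16,5,2,7,3,9,22,19,1,13,23,15,4,21,18,11,20,17,10,14]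

/-- Logarithms to the base two modulo eleven. -/
def log2 (a : ZMod 11) : ℕ := [0, 0, 1, 8, 2, 4, 9, 7, 3, 6, 5].getD a.val 0

/-- Inverses modulo eleven. -/
def inv11 (a : ZMod 11) : ZMod 11 := ([0, 1, 6, 4, 3, 9, 2, 8, 7, 5, 10].getD a.val 0 : ℕ)

/-- Composition of lists by the fast recursors. -/
noncomputable def compR (A B : List ℕ) : List ℕ :=
  List.rec (motive := fun _ => List ℕ) [] (fun b _ ih => getR A b :: ih) B

theorem compR_eq (A : List ℕ) : ∀ B : List ℕ, compR A B = compL A B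
  | [] => rfl
  | b :: B => by
    show getR A b :: compR A B = compL A (b :: B)
    rw [compR_eq A B, getR_eq]
    rfl

/-- The image of a matrix given by its entries. -/
noncomputable def img : ZMod 11 × ZMod 11 × ZMod 11 × ZMod 11 → List ℕ := fun q =>
  if q.2.2.1 = 0 then compR (powsD.getD (log2 q.1 % 5) []) (powsU.getD (q.2.1 * inv11 q.1).val [])
  else compR (compR (powsU.getD (q.1 * inv11 q.2.2.1).val []) listW)
    (compR (powsD.getD (log2 q.2.2.1 % 5) []) (powsU.getD (q.2.2.2 * inv11 q.2.2.1).val []))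

/-- The product of matrices given by entries. -/
def mulQ (p q : ZMod 11 × ZMod 11 × ZMod 11 × ZMod 11) : ZMod 11 × ZMod 11 × ZMod 11 × ZMod 11 :=
  (p.1 * q.1 + p.2.1 * q.2.2.1, p.1 * q.2.1 + p.2.1 * q.2.2.2,
    p.2.2.1 * q.1 + p.2.2.2 * q.2.2.1, p.2.2.1 * q.2.1 + p.2.2.2 * q.2.2.2)

set_option maxHeartbeats 4000000 in
theorem img_checks : ∀ a b c d : ZMod 11, a * d - b * c = 1 →
    (eqB (img (mulQ (a, b, c, d) (1, 1, 0, 1))) (compR (img (a, b, c, d)) (img (1, 1, 0, 1))) = true) ∧
    (eqB (img (mulQ (a, b, c, d) (0, -1, 1, 0))) (compR (img (a, b, c, d)) (img (0, -1, 1, 0))) = true) ∧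
    (eqB (img (a, b, c, d)) (List.range 24) = true → b = 0 ∧ c = 0 ∧ (a = 1 ∧ d = 1 ∨ a = -1 ∧ d = -1)) := by
  decide +kernel

set_option maxHeartbeats 4000000 in
theorem quad_count :
    (Finset.univ.filter fun q : ZMod 11 × ZMod 11 × ZMod 11 × ZMod 11 => q.1 * q.2.2.2 - q.2.1 * q.2.2.1 = 1).card = 1320 := by
  decide +kernel

theorem eqB_refl : ∀ l : List ℕ, eqB l l = true
  | [] => rfl
  | a :: l => by
    show (Nat.beq a a && eqB l l) = true
    rw [eqB_refl l, Bool.and_true]
    exact Nat.beq_refl a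

theorem pows_valid : (powsU.all (validL 24) && powsD.all (validL 24) && validL 24 listW) = true := by decide +kernel

theorem log_lt : ∀ a : ZMod 11, log2 a % 5 < powsD.length ∧ a.val < powsU.length := by decide +kernel

theorem img_valid' (q : ZMod 11 × ZMod 11 × ZMod 11 × ZMod 11) : validL 24 (img q) = true := by
  have h := pows_valid
  simp only [Bool.and_eq_true, List.all_eq_true] at h
  have hu : ∀ x : ZMod 11, validL 24 (powsU.getD x.val []) = true := fun x => by
    rw [List.getD_eq_getElem _ _ (log_lt x).2]; exact h.1.1 _ (List.getElem_mem _)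
  have hd : ∀ x : ZMod 11, validL 24 (powsD.getD (log2 x % 5) []) = true := fun x => by
    rw [List.getD_eq_getElem _ _ (log_lt x).1]; exact h.1.2 _ (List.getElem_mem _)
  unfold img
  simp only [compR_eq]
  split_ifs
  · exact validL_compL (hd _) (hu _)
  · exact validL_compL (validL_compL (hu _) h.2) (validL_compL (hd _) (hu _))

theorem gens_in_eleven : inEleven (img (1, 1, 0, 1)) = true ∧ inEleven (img (0, -1, 1, 0)) = true ∧
    (img (1, 1, 0, 1)).getD 5 0 = 5 ∧ (img (0, -1, 1, 0)).getD 5 0 = 5 ∧ img (1, 0, 0, 1) = List.range 24 ∧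
    img (-1, 0, 0, -1) = List.range 24 := by
  refine ⟨?_, ?_, ?_, ?_, ?_, ?_⟩ <;> decide +kernel

set_option maxHeartbeats 4000000 in
theorem center_check : ∀ a b c d : ZMod 11,
    (a * d - b * c = 1 ∧ b = 0 - c ∧ a = d ∧ c = 0) → (a = 1 ∧ d = 1 ∨ a = -1 ∧ d = -1) := by decide +kernel

set_option maxHeartbeats 4000000 in
theorem decomp_check : ∀ a b c d : ZMod 11, (a * d - b * c = 1 ∧ c ≠ 0) →
    (a, b, c, d) = mulQ (mulQ (1, (a - 1) * inv11 c, 0, 1)
      (mulQ (mulQ (mulQ (0, -1, 1, 0) (mulQ (0, -1, 1, 0) (0, -1, 1, 0))) (1, -c, 0, 1)) (0, -1, 1, 0)))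
      (1, (d - 1) * inv11 c, 0, 1) := by decide +kernel

/-- The entries of a matrix. -/
def ent (A : Matrix.SpecialLinearGroup (Fin 2) (ZMod 11)) : ZMod 11 × ZMod 11 × ZMod 11 × ZMod 11 :=
  (A 0 0, A 0 1, A 1 0, A 1 1)

theorem ent_det (A : Matrix.SpecialLinearGroup (Fin 2) (ZMod 11)) : A 0 0 * A 1 1 - A 0 1 * A 1 0 = 1 := by
  rw [← Matrix.det_fin_two]; exact A.2

theorem ent_mul (A B : Matrix.SpecialLinearGroup (Fin 2) (ZMod 11)) : ent (A * B) = mulQ (ent A) (ent B) := by
  simp [ent, mulQ, Matrix.SpecialLinearGroup.coe_mul, Matrix.mul_apply, Fin.sum_univ_two]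

theorem ent_injective : Function.Injective ent := by
  intro A B e
  simp only [ent, Prod.mk.injEq] at e
  refine Subtype.ext (Matrix.ext fun i j => ?_)
  fin_cases i <;> fin_cases j
  exacts [e.1, e.2.1, e.2.2.1, e.2.2.2]

/-- The matrix with given entries. -/
def ofEnt (a b c d : ZMod 11) (h : a * d - b * c = 1) : Matrix.SpecialLinearGroup (Fin 2) (ZMod 11) :=
  ⟨!![a, b; c, d], by rw [Matrix.det_fin_two_of]; exact h⟩

/-- The translation. -/
def matU : Matrix.SpecialLinearGroup (Fin 2) (ZMod 11) := ofEnt 1 1 0 1 (by decide)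

/-- The inversion. -/
def matW : Matrix.SpecialLinearGroup (Fin 2) (ZMod 11) := ofEnt 0 (-1) 1 0 (by decide)

theorem ent_pow_U : ∀ n : ℕ, ent (matU ^ n) = (1, (n : ZMod 11), 0, 1)
  | 0 => by simp [ent]
  | n + 1 => by rw [pow_succ, ent_mul, ent_pow_U n]; simp [ent, matU, ofEnt, mulQ, add_comm]

theorem all_mem (H : Submonoid (Matrix.SpecialLinearGroup (Fin 2) (ZMod 11))) (hU : matU ∈ H) (hW : matW ∈ H)
    (B : Matrix.SpecialLinearGroup (Fin 2) (ZMod 11)) : B ∈ H := by
  have hUe : ∀ x : ZMod 11, ent (matU ^ x.val) = (1, x, 0, 1) := fun x => by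
    rw [ent_pow_U, ZMod.natCast_val, ZMod.cast_id]
  have hWe : ent matW = (0, -1, 1, 0) := rfl
  have key : ∀ C, C 1 0 ≠ 0 → C ∈ H := by
    intro C hC
    have h := decomp_check _ _ _ _ ⟨ent_det C, hC⟩
    have e : C = matU ^ ((C 0 0 - 1) * inv11 (C 1 0)).val *
        (matW * (matW * matW) * matU ^ (-C 1 0).val * matW) * matU ^ ((C 1 1 - 1) * inv11 (C 1 0)).val := by
      apply ent_injective
      simp only [ent_mul, hUe, hWe]
      exact h
    rw [e]
    exact mul_mem (mul_mem (pow_mem hU _) (mul_mem (mul_mem (mul_mem hW (mul_mem hW hW)) (pow_mem hU _)) hW))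
      (pow_mem hU _)
  by_cases hc : B 1 0 = 0
  · have hd : (B * matW) 1 0 ≠ 0 := by
      have h := congrArg (fun q => q.2.2.1) (ent_mul B matW)
      simp only [ent, mulQ] at h
      rw [h]
      intro h0
      have := ent_det B
      simp only [hc, mul_zero, sub_zero] at this
      simp [matW, ofEnt, hc] at h0
      simp [h0] at this
      exact absurd this (by decide)
    have e : B = B * matW * (matW * (matW * matW)) := by
      have h4 : matW * (matW * (matW * matW)) = 1 := ent_injective (by simp only [ent_mul, hWe]; decide)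
      rw [mul_assoc, h4, mul_one]
    rw [e]
    exact mul_mem (key _ hd) (mul_mem hW (mul_mem hW hW))
  · exact key B hc

/-- The map into the permutations of the points. -/
noncomputable def permFun (A : Matrix.SpecialLinearGroup (Fin 2) (ZMod 11)) : Equiv.Perm GolayPt :=
  pL (img (ent A))

attribute [local irreducible] img

theorem permFun_one : permFun 1 = 1 := by
  rw [permFun, show ent 1 = (1, 0, 0, 1) by simp [ent], gens_in_eleven.2.2.2.2.1, pL_range]

theorem img_valid (A : Matrix.SpecialLinearGroup (Fin 2) (ZMod 11)) : validL 24 (img (ent A)) = true :=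
  img_valid' _

theorem permFun_gen (A : Matrix.SpecialLinearGroup (Fin 2) (ZMod 11)) :
    permFun (A * matU) = permFun A * permFun matU ∧ permFun (A * matW) = permFun A * permFun matW := by
  have hU : ent matU = (1, 1, 0, 1) := rfl
  have hW : ent matW = (0, -1, 1, 0) := rfl
  have hA := img_checks _ _ _ _ (ent_det A)
  constructor
  · rw [permFun, permFun, permFun, ← pL_compL (img_valid A) (img_valid matU), ent_mul, hU]
    exact congrArg pL ((eqB_eq hA.1).trans (compR_eq _ _))
  · rw [permFun, permFun, permFun, ← pL_compL (img_valid A) (img_valid matW), ent_mul, hW]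
    exact congrArg pL ((eqB_eq hA.2.1).trans (compR_eq _ _))

theorem permFun_mul (A B : Matrix.SpecialLinearGroup (Fin 2) (ZMod 11)) :
    permFun (A * B) = permFun A * permFun B := by
  let H : Submonoid (Matrix.SpecialLinearGroup (Fin 2) (ZMod 11)) :=
    { carrier := {B | ∀ A, permFun (A * B) = permFun A * permFun B}
      one_mem' := fun A => by rw [permFun_one, mul_one, mul_one]
      mul_mem' := fun {B C} hB hC A => by rw [← mul_assoc, hC, hB, hC B, mul_assoc] }
  exact all_mem H (fun A => (permFun_gen A).1) (fun A => (permFun_gen A).2) B A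

/-- The homomorphism into the permutations of the points. -/
noncomputable def permHom : Matrix.SpecialLinearGroup (Fin 2) (ZMod 11) →* Equiv.Perm GolayPt :=
  MonoidHom.mk' permFun permFun_mul

theorem permHom_apply (A : Matrix.SpecialLinearGroup (Fin 2) (ZMod 11)) : permHom A = pL (img (ent A)) := rfl

theorem permHom_ker : permHom.ker = Subgroup.center (Matrix.SpecialLinearGroup (Fin 2) (ZMod 11)) := by
  ext A
  have hA := img_checks _ _ _ _ (ent_det A)
  rw [MonoidHom.mem_ker, Subgroup.mem_center_iff, permHom_apply]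
  constructor
  · intro h
    have e0 := pL_inj (img_valid A) (by decide) (h.trans pL_range.symm)
    obtain ⟨h1, h2, h3⟩ := hA.2.2 (e0 ▸ eqB_refl _)
    intro B
    apply ent_injective
    rw [ent_mul, ent_mul]
    rcases h3 with ⟨h3, h4⟩ | ⟨h3, h4⟩ <;> simp [ent, mulQ, h1, h2, h3, h4]
  · intro h
    have hz : ∀ X, mulQ (ent X) (ent A) = mulQ (ent A) (ent X) := fun X => by rw [← ent_mul, ← ent_mul, h X]
    have hu := hz matU
    have hw := hz matW
    simp [ent, mulQ, matU, matW, ofEnt] at hu hw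
    have hc : A 1 0 = 0 := hu.1
    have hb : A 0 1 = 0 := by linear_combination -hw.1 - hu.1
    have had : A 0 0 = A 1 1 := by linear_combination -hw.2.1
    rcases center_check _ _ _ _ ⟨ent_det A, by rw [hb, hc, sub_zero], had, hc⟩ with ⟨e1, e2⟩ | ⟨e1, e2⟩
    · rw [show ent A = (1, 0, 0, 1) by simp [ent, hb, hc, e1, e2], gens_in_eleven.2.2.2.2.1, pL_range]
    · rw [show ent A = (-1, 0, 0, -1) by simp [ent, hb, hc, e1, e2], gens_in_eleven.2.2.2.2.2, pL_range]

theorem card_range : Nat.card permHom.range = 660 := by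
  have hsl : Nat.card (Matrix.SpecialLinearGroup (Fin 2) (ZMod 11)) = 1320 := by
    let F : Matrix.SpecialLinearGroup (Fin 2) (ZMod 11) →
        {q // q ∈ Finset.univ.filter fun q : ZMod 11 × ZMod 11 × ZMod 11 × ZMod 11 => q.1 * q.2.2.2 - q.2.1 * q.2.2.1 = 1} :=
      fun A => ⟨ent A, Finset.mem_filter.2 ⟨Finset.mem_univ _, ent_det A⟩⟩
    have hF : Function.Bijective F := ⟨fun A B e => ent_injective (congrArg Subtype.val e), fun q =>
      ⟨ofEnt q.1.1 q.1.2.1 q.1.2.2.1 q.1.2.2.2 (Finset.mem_filter.1 q.2).2, Subtype.ext rfl⟩⟩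
    rw [Nat.card_eq_of_bijective F hF, Nat.card_eq_fintype_card, Fintype.card_coe, quad_count]
  have hker : Nat.card permHom.ker ≤ 2 := by
    let F : permHom.ker → Bool := fun A => decide (A.val 0 0 = 1)
    refine (Nat.card_le_card_of_injective F ?_).trans (by simp)
    intro A B e
    have eA : img (ent A.val) = List.range 24 :=
      pL_inj (img_valid A.val) (by decide) ((MonoidHom.mem_ker.1 A.2).trans pL_range.symm)
    have hA := (img_checks _ _ _ _ (ent_det A.val)).2.2 (eA ▸ eqB_refl _)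
    have eB : img (ent B.val) = List.range 24 :=
      pL_inj (img_valid B.val) (by decide) ((MonoidHom.mem_ker.1 B.2).trans pL_range.symm)
    have hB := (img_checks _ _ _ _ (ent_det B.val)).2.2 (eB ▸ eqB_refl _)
    refine Subtype.ext (ent_injective ?_)
    have hne : (1 : ZMod 11) ≠ -1 := by decide
    simp only [F, decide_eq_decide] at e
    rcases hA.2.2 with ⟨a1, a2⟩ | ⟨a1, a2⟩ <;> rcases hB.2.2 with ⟨b1, b2⟩ | ⟨b1, b2⟩ <;>
      simp [ent, hA.1, hA.2.1, hB.1, hB.2.1, a1, a2, b1, b2, hne, hne.symm] at e ⊢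
  have h2 : 2 ≤ Nat.card permHom.ker := by
    have hne : ofEnt (-1) 0 0 (-1) (by decide) ≠ 1 := fun e => by
      have := congrArg (fun A => (ent A).1) e
      simp [ent, ofEnt] at this
      exact absurd this (by decide)
    have hm : ofEnt (-1) 0 0 (-1) (by decide) ∈ permHom.ker := by
      show pL (img (-1, 0, 0, -1)) = 1
      rw [gens_in_eleven.2.2.2.2.2, pL_range]
    have : Nontrivial permHom.ker := ⟨⟨_, hm⟩, 1, fun e => hne (congrArg Subtype.val e)⟩
    exact Finite.one_lt_card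
  have h := Subgroup.card_eq_card_quotient_mul_card_subgroup permHom.ker
  rw [Nat.card_congr (QuotientGroup.quotientKerEquivRange permHom).toEquiv, hsl] at h
  have : Nat.card permHom.ker = 2 := le_antisymm hker h2
  rw [this] at h
  omega

theorem card_fix_five :
    Nat.card ↥(Cfsg.Spor.M11 ⊓ MulAction.stabilizer (Equiv.Perm GolayPt) (pt 5)) = 660 := by
  have horb : MulAction.orbit ↥Cfsg.Spor.M11 (pt 5) = ↑(Finset.univ \ toSet baseDodecad) := by
    have hd0 : pt 5 ∉ toSet baseDodecad := by decide +kernel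
    ext a
    simp only [Finset.coe_sdiff, Finset.coe_univ, Set.mem_sdiff, Set.mem_univ, true_and, Finset.mem_coe]
    constructor
    · rintro ⟨g, rfl⟩ h
      exact hd0 ((Finset.smul_mem_smul_finset_iff g.val).1
        (by rw [(mem_M12.1 (M11_le_M12 g.2)).2]; exact h))
    · intro ha
      let x : Fin 3 ↪ GolayPt := ⟨![pt 5, pt 7, pt 10], by decide +kernel⟩
      have hx : ∀ i, x i ∉ toSet baseDodecad := by
        show ∀ i, ![pt 5, pt 7, pt 10] i ∉ toSet baseDodecad
        decide +kernel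
      obtain ⟨b, hb, c, hc, hab, hac, hbc⟩ : ∃ b, b ∉ toSet baseDodecad ∧
          ∃ c, c ∉ toSet baseDodecad ∧ a ≠ b ∧ a ≠ c ∧ b ≠ c := by
        revert ha; revert a; decide +kernel
      let y : Fin 3 ↪ GolayPt := ⟨![a, b, c], by
        intro i j e
        fin_cases i <;> fin_cases j <;> simp_all [eq_comm]⟩
      obtain ⟨g, hg, hgx⟩ := M11_map_three_outside x y hx fun i => by
        fin_cases i
        exacts [ha, hb, hc]
      exact ⟨⟨g, hg⟩, hgx 0⟩
  have hset : (MulAction.orbit ↥Cfsg.Spor.M11 (pt 5)).ncard = 12 := by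
    rw [horb, Set.ncard_coe_finset]; decide +kernel
  have hst := (MulAction.stabilizer ↥Cfsg.Spor.M11 (pt 5)).index_mul_card
  rw [MulAction.index_stabilizer, hset, card_M11] at hst
  have e : Nat.card ↥(MulAction.stabilizer ↥Cfsg.Spor.M11 (pt 5)) =
      Nat.card ↥(Cfsg.Spor.M11 ⊓ MulAction.stabilizer (Equiv.Perm GolayPt) (pt 5)) :=
    Nat.card_congr
      { toFun := fun g => ⟨g.val.val, g.val.2, g.2⟩
        invFun := fun g => ⟨⟨g.val, g.2.1⟩, g.2.2⟩
        left_inv := fun _ => rfl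
        right_inv := fun _ => rfl }
  omega


/-- In the 3-transitive action of the smallest Mathieu group on the complementary dodecad, a point stabiliser is isomorphic to PSL(2, 11). -/
theorem result (d : Finset Cfsg.GolayPt) (hd : d ∈ Cfsg.dodecads) (p q : Cfsg.GolayPt) (hp : p ∈ d) (hq : q ∉ d) : Nonempty (↥(MulAction.stabilizer Cfsg.M24 d ⊓ MulAction.stabilizer Cfsg.M24 p ⊓ MulAction.stabilizer Cfsg.M24 q) ≃* Matrix.ProjectiveSpecialLinearGroup (Fin 2) (ZMod 11)) := by
  obtain ⟨q', hq', hne⟩ : ∃ q', q' ∉ d ∧ q ≠ q' := by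
    by_contra hcon
    push Not at hcon
    have hsub : (Finset.univ : Finset GolayPt) ⊆ insert q d := fun a _ => by
      by_cases ha : a ∈ d
      · exact Finset.mem_insert_of_mem ha
      · rw [hcon a ha]; exact Finset.mem_insert_self _ _
    obtain ⟨g, -, hgd⟩ := dodecads_transitive hd
    have h12 : d.card = 12 := by rw [← hgd, Finset.card_smul_finset, card_toSet]; decide +kernel
    have := (Finset.card_le_card hsub).trans (Finset.card_insert_le _ _)
    rw [Finset.card_univ, Fintype.card_congr ptEquiv, Fintype.card_fin, h12] at this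
    omega
  obtain ⟨u, hu, hud, hup, huq, -⟩ := exists_outside_config hd hp hq hq' hne
  let B : Subgroup (Equiv.Perm GolayPt) := Cfsg.Spor.M11 ⊓ MulAction.stabilizer (Equiv.Perm GolayPt) (pt 5)
  have hiff : ∀ x : ↥M24, x ∈ MulAction.stabilizer M24 d ⊓ MulAction.stabilizer M24 p ⊓ MulAction.stabilizer M24 q ↔
      u⁻¹ * x.val * u ∈ B := fun x => by
    show _ ↔ _ ∧ (u⁻¹ * x.val * u) (pt 5) = pt 5
    rw [Subgroup.mem_inf, stab_point_iff hud hup x hu, conj_fix_pt, huq]
    exact Iff.rfl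
  obtain ⟨e⟩ := equiv_of_conj (inf_le_left.trans eleven_le_M24) hu hiff
  refine ⟨e.trans ?_⟩
  have hle : permHom.range ≤ B := by
    rintro _ ⟨A, rfl⟩
    have h5 : ∀ X, inEleven (img (ent X)) = true → (img (ent X)).getD 5 0 = 5 → X ∈ B.comap permHom := fun X hL h => by
      obtain ⟨hv, hm⟩ := mem_of_inEleven hL
      rw [Subgroup.mem_comap, permHom_apply]
      refine ⟨hm, ?_⟩
      show pL (img (ent X)) (pt 5) = pt 5
      rw [pL_pt hv (by omega), h]
    exact all_mem (B.comap permHom).toSubmonoid (h5 matU gens_in_eleven.1 gens_in_eleven.2.2.1)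
      (h5 matW gens_in_eleven.2.1 gens_in_eleven.2.2.2.1) A
  have hrange : permHom.range = B := Subgroup.eq_of_le_of_card_ge hle (by rw [card_range, card_fix_five])
  exact ((QuotientGroup.quotientMulEquivOfEq permHom_ker.symm).trans
    ((QuotientGroup.quotientKerEquivRange permHom).trans (MulEquiv.subgroupCongr hrange))).symm

end Cfsg.Agent.S1601
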