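import Cfsg.Statements.S1602
import Cfsg.Agent.Lib.M24Cert.ElevenCore

set_option autoImplicit false
open scoped Pointwise
open Cfsg

namespace Cfsg.Agent.S1602

open CfsgLib.Golay CfsgLib.M24Cert CfsgLib.M24Cert.Eleven
open scoped Pointwise

/-- The elements preserving the pair. -/
def pairElts : List (List ℕ) := [
  [0,1,2,3,4,5,6,7,8,9,10,11,12,13,14,15,16,17,18,19,20,21,22,23],
  [0,1,3,2,12,5,6,7,18,9,10,22,4,16,14,21,13,23,8,20,19,15,11,17],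
  [0,4,3,8,13,5,6,7,2,12,20,11,16,1,19,21,9,10,18,23,17,22,15,14],
  [0,13,3,6,12,5,2,7,8,4,21,19,9,16,14,10,1,20,18,23,22,15,17,11],
  [0,4,2,18,1,7,6,5,8,12,19,21,9,16,20,15,13,17,3,10,14,11,22,23],
  [0,16,3,2,13,7,18,5,6,4,10,14,9,1,22,23,12,21,8,20,15,19,11,17],
  [0,4,6,3,1,7,2,5,8,13,21,19,16,9,14,15,12,22,18,11,20,10,17,23],
  [0,13,2,3,16,7,8,5,6,12,10,14,9,1,11,17,4,15,18,19,21,20,22,23],
  [0,4,6,2,16,5,8,7,18,1,15,20,9,13,23,22,12,11,3,21,19,17,14,10],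
  [0,13,18,2,16,5,3,7,6,1,19,20,12,4,22,23,9,11,8,14,15,10,21,17],
  [0,9,6,3,12,5,8,7,2,16,21,14,13,4,19,22,1,15,18,11,10,20,17,23],
  [0,16,8,3,13,5,2,7,6,1,20,19,4,12,11,17,9,22,18,14,21,10,15,23],
  [0,13,6,2,12,7,18,5,8,9,15,23,1,4,20,11,16,22,3,21,17,19,14,10],
  [0,16,8,2,4,7,6,5,18,13,17,21,12,1,23,22,9,14,3,20,19,15,11,10],
  [0,13,3,2,9,7,8,5,18,12,10,22,16,4,11,20,1,23,6,21,19,17,14,15],
  [0,12,2,18,16,5,6,7,3,4,19,22,13,1,20,15,9,10,8,17,23,11,21,14],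
  [0,9,2,6,16,5,18,7,8,13,15,23,4,1,20,19,12,17,3,10,22,11,14,21],
  [0,12,18,3,4,7,2,5,6,9,23,17,13,16,22,19,1,11,8,14,21,10,15,20],
  [0,9,3,6,13,5,8,7,18,16,21,17,12,1,19,20,4,23,2,10,11,22,14,15],
  [0,4,8,3,16,5,6,7,18,12,20,15,13,9,19,22,1,14,2,17,23,21,11,10],
  [0,13,8,2,1,5,6,7,3,16,17,11,9,4,23,22,12,20,18,14,10,15,21,19],
  [0,9,2,8,1,5,3,7,6,4,17,23,13,16,11,10,12,15,18,19,22,20,21,14],
  [0,12,3,8,1,7,6,5,18,4,20,15,9,13,19,21,16,23,2,10,14,22,11,17],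
  [0,13,6,3,9,5,2,7,18,4,21,17,12,1,14,15,16,11,8,22,23,10,19,20],
  [0,12,6,8,16,5,2,7,3,9,22,19,1,13,23,15,4,21,18,11,20,17,10,14],
  [0,1,8,6,16,5,3,7,2,13,22,23,12,9,19,20,4,17,18,14,15,21,10,11],
  [0,13,2,6,1,7,18,5,3,9,15,14,12,16,20,19,4,10,8,17,21,11,23,22],
  [0,1,2,8,13,5,18,7,3,12,17,11,9,4,21,19,16,10,6,15,20,14,23,22],
  [0,4,18,2,9,7,6,5,3,12,19,22,1,13,20,11,16,23,8,14,10,15,21,17],
  [0,1,18,8,16,7,6,5,2,9,14,21,13,4,10,11,12,19,3,23,17,22,15,20],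
  [0,13,8,18,16,7,2,5,6,4,14,10,1,9,21,17,12,22,3,20,11,19,15,23],
  [0,9,6,2,4,5,18,7,3,13,15,14,16,12,20,11,1,21,8,22,10,19,23,17],
  [0,16,3,6,1,7,8,5,2,9,21,14,4,13,19,20,12,10,18,23,15,22,17,11],
  [0,16,2,3,9,7,18,5,8,4,10,11,13,12,22,19,1,17,6,15,20,23,14,21],
  [0,13,6,8,4,7,3,5,2,1,22,23,9,12,19,21,16,15,18,11,17,20,10,14],
  [0,1,3,18,16,5,8,7,2,4,23,22,9,12,15,20,13,10,6,21,19,14,17,11],
  [0,9,3,2,16,7,6,5,8,1,10,11,13,12,14,21,4,20,18,23,17,15,22,19],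
  [0,16,2,6,4,5,3,7,18,12,15,20,9,13,14,10,1,19,8,17,11,21,23,22],
  [0,12,6,2,1,7,3,5,18,16,15,20,13,9,14,21,4,11,8,22,19,10,23,17],
  [0,4,18,8,12,5,2,7,6,13,14,10,9,1,21,19,16,11,3,23,22,17,15,20],
  [0,16,3,8,4,5,2,7,18,1,20,15,13,9,11,10,12,23,6,21,14,17,19,22],
  [0,12,8,18,4,5,3,7,6,16,14,10,9,1,15,20,13,22,2,17,11,23,21,19],
  [0,12,6,3,13,5,18,7,8,1,21,19,9,16,17,11,4,22,2,15,20,23,14,10],
  [0,4,3,6,16,7,2,5,18,13,21,17,1,12,14,10,9,23,8,20,11,15,19,22],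
  [0,1,3,8,9,7,2,5,6,16,20,19,12,4,11,10,13,21,18,23,22,17,15,14],
  [0,16,6,18,12,7,2,5,3,1,11,17,9,4,20,15,13,21,8,22,23,19,10,14],
  [0,13,2,18,12,5,3,7,8,1,19,21,16,9,22,10,4,17,6,15,14,23,20,11],
  [0,13,3,18,4,7,6,5,2,16,23,22,12,9,17,21,1,10,8,20,19,11,15,14],
  [0,9,8,3,1,7,18,5,6,13,20,19,12,4,15,14,16,22,2,17,21,23,11,10],
  [0,16,3,18,9,5,6,7,8,13,23,15,1,4,17,21,12,20,2,10,14,11,22,19],
  [0,12,3,2,4,5,8,7,6,13,10,14,1,9,11,20,16,21,18,23,15,17,22,19],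
  [0,9,2,18,4,7,8,5,3,16,19,22,1,13,21,17,12,10,6,15,23,14,20,11],
  [0,4,2,3,12,5,18,7,6,16,10,14,1,9,22,19,13,15,8,17,21,23,11,20],
  [0,16,6,2,9,5,3,7,8,12,15,23,4,1,14,21,13,22,18,11,17,10,20,19],
  [0,4,8,18,9,5,2,7,3,13,14,15,12,16,21,17,1,20,6,22,23,19,10,11],
  [0,12,2,8,4,7,18,5,6,1,17,23,16,13,21,19,9,15,3,10,22,14,11,20],
  [0,12,3,18,13,7,2,5,8,9,23,15,4,1,22,10,16,20,6,21,14,19,17,11],
  [0,1,6,3,16,7,18,5,2,12,21,14,4,13,17,11,9,15,8,22,10,23,19,20],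
  [0,12,2,6,13,7,3,5,8,16,15,23,1,4,14,10,9,17,18,19,22,21,20,11],
  [0,9,3,18,1,5,2,7,6,12,23,17,16,13,22,10,4,21,8,20,11,19,15,14],
  [0,1,8,18,13,7,6,5,3,9,14,15,16,12,10,22,4,20,2,17,23,11,21,19],
  [0,4,2,6,9,5,8,7,3,1,15,14,16,12,23,17,13,10,18,19,21,22,20,11],
  [0,16,2,18,13,5,8,7,6,9,19,20,12,4,21,17,1,15,3,10,11,14,22,23],
  [0,16,18,6,9,7,2,5,8,1,11,10,12,13,20,19,4,14,3,23,22,15,17,21],
  [0,1,8,3,12,7,2,5,18,16,20,15,9,13,11,17,4,14,6,22,23,10,19,21],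
  [0,12,8,3,9,7,6,5,2,4,20,11,1,16,19,22,13,17,18,14,10,21,15,23],
  [0,1,6,8,12,5,3,7,18,13,22,10,16,4,19,21,9,11,2,15,14,20,23,17],
  [0,1,6,18,4,5,2,7,8,16,11,10,13,12,20,15,9,22,3,21,14,19,17,23],
  [0,9,2,3,13,7,6,5,18,1,10,22,16,4,14,15,12,19,8,17,23,21,11,20],
  [0,13,8,3,4,5,18,7,2,9,20,11,16,1,15,14,12,17,6,22,10,23,19,21],
  [0,4,2,8,16,7,3,5,18,9,17,21,12,1,11,10,13,19,6,15,14,20,23,22],
  [0,13,2,8,9,5,6,7,18,16,17,21,1,12,23,15,4,19,3,10,14,22,11,20],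
  [0,1,3,6,4,7,18,5,8,12,21,19,16,9,17,23,13,20,2,10,22,11,14,15],
  [0,16,6,3,4,7,8,5,18,9,21,17,1,12,19,22,13,11,2,15,23,20,14,10],
  [0,9,6,18,16,7,3,5,8,4,11,10,12,13,17,21,1,22,2,15,14,23,20,19],
  [0,1,2,18,9,7,3,5,6,13,19,20,4,12,22,10,16,15,8,17,11,23,21,14],
  [0,13,3,8,16,5,18,7,6,9,20,19,4,12,15,23,1,21,2,10,22,14,11,17],
  [0,12,2,3,1,5,8,7,18,13,10,22,4,16,11,17,9,19,6,15,23,20,14,21],
  [0,4,6,8,9,7,18,5,3,16,22,19,13,1,10,11,12,21,2,15,20,14,23,17],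
  [0,13,18,3,12,7,6,5,8,16,23,15,4,1,17,11,9,14,2,19,20,21,22,10],
  [0,12,6,18,9,7,8,5,2,13,11,20,16,1,10,22,4,15,3,21,19,14,17,23],
  [0,9,18,2,1,7,8,5,6,16,19,20,4,12,21,14,13,11,3,23,15,17,22,10],
  [0,16,18,3,1,5,6,7,2,13,23,22,9,12,17,11,4,19,8,14,10,21,15,20],
  [0,12,3,6,9,5,18,7,2,1,21,14,13,4,17,23,16,10,8,20,15,11,19,22],
  [0,16,8,18,1,7,3,5,2,12,14,21,13,4,15,20,9,17,6,22,19,23,10,11],
  [0,4,18,3,13,7,8,5,2,1,23,22,12,9,15,14,16,19,6,11,10,20,17,21],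
  [0,4,3,18,12,7,8,5,6,1,23,17,13,16,15,20,9,21,2,10,11,14,22,19],
  [0,1,18,3,9,5,8,7,6,4,23,17,16,13,15,14,12,11,2,19,21,20,22,10],
  [0,9,8,2,13,5,3,7,18,4,17,21,1,12,11,20,16,14,6,22,19,10,23,15],
  [0,12,8,6,1,5,2,7,18,9,22,10,16,4,23,17,13,14,3,20,11,15,19,21],
  [0,4,3,2,1,5,18,7,8,16,10,11,12,13,22,23,9,20,6,21,17,19,14,15],
  [0,12,8,2,16,7,18,5,3,1,17,11,4,9,21,14,13,20,6,22,10,19,23,15],
  [0,13,8,6,9,7,3,5,18,1,22,10,4,16,19,20,12,14,2,17,11,21,23,15],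
  [0,4,6,18,13,5,3,7,2,9,11,20,1,16,17,21,12,15,8,22,19,23,10,14],
  [0,1,6,2,13,7,8,5,3,4,15,14,12,16,23,22,9,21,18,11,10,17,20,19],
  [0,9,18,3,16,5,2,7,8,12,23,15,1,4,22,19,13,14,6,11,20,10,17,21],
  [0,13,18,8,1,7,2,5,3,4,14,15,16,12,21,19,9,23,6,11,20,17,10,22],
  [0,12,18,6,16,7,8,5,3,13,11,17,9,4,10,14,1,23,2,19,21,22,20,15],
  [0,9,8,6,4,7,2,5,3,12,22,19,13,1,23,17,16,20,18,14,21,15,10,11],
  [0,16,2,8,12,7,6,5,3,13,17,11,4,9,23,15,1,10,18,19,20,22,21,14],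
  [0,12,18,8,9,5,3,7,2,16,14,21,4,13,15,23,1,19,6,11,17,20,10,22],
  [0,1,18,6,13,5,2,7,3,16,11,17,4,9,20,19,12,23,8,14,21,15,10,22],
  [0,16,18,8,13,7,3,5,6,12,14,10,1,9,15,23,4,11,2,19,22,20,21,17],
  [0,9,18,8,4,5,6,7,3,1,14,15,12,16,10,11,13,23,2,19,20,22,21,17],
  [0,12,18,2,13,5,6,7,8,4,19,21,16,9,20,11,1,14,3,23,17,15,22,10],
  [0,16,18,2,12,5,8,7,3,9,19,22,13,1,21,14,4,23,6,11,10,17,20,15],
  [0,1,8,2,9,5,18,7,6,12,17,23,13,16,21,14,4,22,3,20,15,19,11,10],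
  [0,9,8,18,12,5,6,7,2,1,14,21,4,13,10,22,16,17,3,20,19,11,15,23],
  [0,4,8,2,12,7,3,5,6,9,17,23,16,13,11,20,1,22,18,14,15,10,21,19],
  [0,9,18,6,12,7,3,5,2,4,11,20,16,1,17,23,13,19,8,14,15,21,10,22],
  [0,13,6,18,1,5,8,7,3,12,11,17,4,9,10,22,16,21,2,15,23,14,20,19],
  [0,16,6,8,1,5,18,7,2,4,22,23,12,9,10,11,13,15,3,21,17,14,19,20],
  [0,1,2,6,12,7,8,5,18,4,15,20,13,9,23,17,16,19,3,10,11,22,14,21],
  [0,4,18,6,1,5,3,7,8,9,11,10,13,12,17,23,16,14,2,19,22,21,20,15],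
  [0,4,8,6,13,7,18,5,2,16,22,23,9,12,10,14,1,17,3,20,15,11,19,21],
  [0,1,18,2,4,7,3,5,8,13,19,21,9,16,22,23,12,14,6,11,17,10,20,15],
  [0,16,8,6,12,5,18,7,3,4,22,19,1,13,10,14,9,20,2,17,21,11,23,15],
  [0,9,3,8,12,7,18,5,2,13,20,11,1,16,15,23,4,10,6,21,17,14,19,22],
  [0,9,6,8,13,7,2,5,18,12,22,10,4,16,23,15,1,11,3,21,14,17,19,20],
  [0,13,18,6,4,5,8,7,2,12,11,20,1,16,10,14,9,19,3,23,15,22,17,21]]

/-- Five points permuted by them. -/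
def fiveMask : ℕ := 262476

set_option maxHeartbeats 4000000 in
theorem pair_checks : (pairElts.all fun L => inEleven L && imgMask L 160 == 160 && imgMask L fiveMask == fiveMask &&
      ((List.range 24).any (fun i => fiveMask.testBit i && L.getD i 0 != i) || L == List.range 24)) = true ∧
    (elts.all fun L => !(imgMask L 160 == 160) || pairElts.contains L) = true ∧
    pairElts.Nodup ∧ pairElts.length = 120 := by
  refine ⟨?_, ?_, ?_, ?_⟩ <;> decide +kernel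


/-- In the 12-point action of the smallest Mathieu group the setwise stabiliser of a pair is isomorphic to the symmetric group of degree 5. -/
theorem result (d : Finset Cfsg.GolayPt) (hd : d ∈ Cfsg.dodecads) (p q q' : Cfsg.GolayPt) (hp : p ∈ d) (hq : q ∉ d) (hq' : q' ∉ d) (hqq' : q ≠ q') : Nonempty (↥(MulAction.stabilizer Cfsg.M24 d ⊓ MulAction.stabilizer Cfsg.M24 p ⊓ MulAction.stabilizer Cfsg.M24 ({q, q'} : Finset Cfsg.GolayPt)) ≃* Equiv.Perm (Fin 5)) := by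
  obtain ⟨u, hu, hud, hup, huq, huq'⟩ := exists_outside_config hd hp hq hq' hqq'
  let B : Subgroup (Equiv.Perm GolayPt) := Cfsg.Spor.M11 ⊓ MulAction.stabilizer (Equiv.Perm GolayPt) (toSet 160)
  have hpair : u • toSet 160 = ({q, q'} : Finset GolayPt) := by
    rw [show toSet 160 = {pt 5, pt 7} by decide +kernel, Finset.smul_finset_insert, Finset.smul_finset_singleton,
      Equiv.Perm.smul_def, Equiv.Perm.smul_def, huq, huq']
  have hiff : ∀ x : ↥M24, x ∈ MulAction.stabilizer M24 d ⊓ MulAction.stabilizer M24 p ⊓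
      MulAction.stabilizer M24 ({q, q'} : Finset GolayPt) ↔ u⁻¹ * x.val * u ∈ B := fun x => by
    show _ ↔ _ ∧ (u⁻¹ * x.val * u) • toSet 160 = toSet 160
    rw [Subgroup.mem_inf, stab_point_iff hud hup x hu, conj_fix_set, hpair]
    exact Iff.rfl
  obtain ⟨e⟩ := equiv_of_conj (inf_le_left.trans eleven_le_M24) hu hiff
  refine ⟨e.trans ?_⟩
  have hchk := List.all_eq_true.1 pair_checks.1
  simp only [Bool.and_eq_true, beq_iff_eq] at hchk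
  have hB : ∀ g : Equiv.Perm GolayPt, g ∈ B ↔ ∃ L ∈ pairElts, g = pL L := by
    intro g
    constructor
    · rintro ⟨hg, h160⟩
      obtain ⟨L, hL, hv, rfl⟩ := mem_elts hg
      have him : imgMask L 160 = 160 := by
        have h : pL L • toSet 160 = toSet 160 := h160
        rw [smul_toSet hv] at h
        exact toSet_inj (imgF_eq hv 160 ▸ imgF_lt hv 160) (by norm_num) h
      have h := List.all_eq_true.1 pair_checks.2.1 L hL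
      simp only [him, beq_self_eq_true, Bool.not_true, Bool.false_or, List.contains_iff_mem] at h
      exact ⟨L, h, rfl⟩
    · rintro ⟨L, hL, rfl⟩
      obtain ⟨hv, hm⟩ := mem_of_inEleven (hchk L hL).1.1.1
      refine ⟨hm, ?_⟩
      show pL L • toSet 160 = toSet 160
      rw [smul_toSet hv, (hchk L hL).1.1.2]
  have hcard : Nat.card B = 120 := by
    let F : {L // L ∈ pairElts} → B := fun L => ⟨pL L.1, (hB _).2 ⟨L.1, L.2, rfl⟩⟩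
    have hF : Function.Bijective F := by
      refine ⟨fun L L' h => Subtype.ext (pL_inj (mem_of_inEleven (hchk _ L.2).1.1.1).1
        (mem_of_inEleven (hchk _ L'.2).1.1.1).1 (congrArg Subtype.val h)), fun g => ?_⟩
      obtain ⟨L, hL, hg⟩ := (hB _).1 g.2
      exact ⟨⟨L, hL⟩, Subtype.ext hg.symm⟩
    rw [← Nat.card_congr (Equiv.ofBijective F hF), Nat.card_eq_fintype_card, Fintype.card_of_subtype
      pairElts.toFinset (fun L => List.mem_toFinset), List.toFinset_card_of_nodup pair_checks.2.2.1]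
    exact pair_checks.2.2.2
  let O := {a : GolayPt // a ∈ toSet fiveMask}
  have hO : ∀ (g : B) (a : GolayPt), g.val a ∈ toSet fiveMask ↔ a ∈ toSet fiveMask := by
    intro g a
    obtain ⟨L, hL, hg⟩ := (hB _).1 g.2
    have h : g.val • toSet fiveMask = toSet fiveMask := by
      rw [hg, smul_toSet (mem_of_inEleven (hchk L hL).1.1.1).1, (hchk L hL).1.2]
    conv_lhs => rw [← h]
    exact Finset.smul_mem_smul_finset_iff g.val
  let φ : B →* Equiv.Perm O :=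
    { toFun := fun g => g.val.subtypePerm (hO g)
      map_one' := by ext; rfl
      map_mul' := fun _ _ => by ext; rfl }
  have hinj : Function.Injective φ := by
    rw [← MonoidHom.ker_eq_bot_iff, eq_bot_iff]
    intro g hg
    rw [Subgroup.mem_bot]
    obtain ⟨L, hL, hgL⟩ := (hB _).1 g.2
    have hv := (mem_of_inEleven (hchk L hL).1.1.1).1
    have h := (hchk L hL).2
    simp only [Bool.or_eq_true, List.any_eq_true, Bool.and_eq_true, bne_iff_ne, beq_iff_eq, List.mem_range] at h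
    rcases h with ⟨i, hi, hb, hne⟩ | h
    · exfalso
      refine hne ?_
      have hmem : pt i ∈ toSet fiveMask := mem_toSet.2 (by rw [ptEquiv_pt hi]; exact hb)
      have h1 : g.val (pt i) = pt i :=
        congrArg Subtype.val (Equiv.congr_fun (MonoidHom.mem_ker.1 hg) ⟨pt i, hmem⟩)
      rw [hgL, pL_pt hv hi] at h1
      exact pt_inj (validL_getD_lt hv hi) hi h1
    · exact Subtype.ext (by rw [hgL, h, pL_range]; rfl)
  have hOc : Fintype.card O = 5 := by rw [Fintype.card_coe, card_toSet]; decide +kernel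
  have hbij : Function.Bijective φ := (Nat.bijective_iff_injective_and_card φ).2
    ⟨hinj, by rw [hcard, Nat.card_eq_fintype_card, Fintype.card_perm, hOc]; rfl⟩
  exact (MulEquiv.ofBijective φ hbij).trans (Fintype.equivFinOfCardEq hOc).permCongrHom

end Cfsg.Agent.S1602
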