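import Cfsg.Statements.S1603
import Cfsg.Agent.Lib.M24Cert.ElevenCore

set_option autoImplicit false
open scoped Pointwise
open Cfsg

namespace Cfsg.Agent.S1603

open CfsgLib.Golay CfsgLib.M24Cert CfsgLib.M24Cert.Eleven
open scoped Pointwise

/-- A fixed involution. -/
def invX : List ℕ := [0,8,2,3,18,10,12,7,1,13,5,14,6,9,11,19,16,17,4,15,23,21,22,20]

/-- The images of the matrices, numbered by their entries. -/
def glTable : List (List ℕ) := [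
  [0,1,2,3,4,5,6,7,8,9,10,11,12,13,14,15,16,17,18,19,20,21,22,23],
  [0,1,2,3,4,5,6,7,8,9,10,11,12,13,14,15,16,17,18,19,20,21,22,23],
  [0,1,2,3,4,5,6,7,8,9,10,11,12,13,14,15,16,17,18,19,20,21,22,23],
  [0,1,2,3,4,5,6,7,8,9,10,11,12,13,14,15,16,17,18,19,20,21,22,23],
  [0,1,2,3,4,5,6,7,8,9,10,11,12,13,14,15,16,17,18,19,20,21,22,23],
  [0,1,2,3,4,5,6,7,8,9,10,11,12,13,14,15,16,17,18,19,20,21,22,23],
  [0,1,2,3,4,5,6,7,8,9,10,11,12,13,14,15,16,17,18,19,20,21,22,23],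
  [0,1,2,3,4,5,6,7,8,9,10,11,12,13,14,15,16,17,18,19,20,21,22,23],
  [0,1,2,3,4,5,6,7,8,9,10,11,12,13,14,15,16,17,18,19,20,21,22,23],
  [0,1,2,3,4,5,6,7,8,9,10,11,12,13,14,15,16,17,18,19,20,21,22,23],
  [0,1,2,3,4,5,6,7,8,9,10,11,12,13,14,15,16,17,18,19,20,21,22,23],
  [0,1,2,3,4,5,6,7,8,9,10,11,12,13,14,15,16,17,18,19,20,21,22,23],
  [0,1,16,3,18,20,13,7,8,12,23,11,9,6,14,19,2,22,4,15,5,21,17,10],
  [0,18,3,2,12,19,13,17,4,1,15,20,9,8,23,11,16,22,6,14,5,7,21,10],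
  [0,12,2,16,1,11,13,21,6,18,14,19,9,4,15,20,3,22,8,23,5,17,7,10],
  [0,18,2,3,1,23,9,21,4,12,20,15,13,6,19,14,16,22,8,11,5,7,17,10],
  [0,12,16,2,18,15,9,7,6,1,19,14,13,8,11,23,3,22,4,20,5,17,21,10],
  [0,1,3,16,12,14,9,17,8,18,11,23,13,4,20,15,2,22,6,19,5,21,7,10],
  [0,1,2,3,4,5,6,7,8,9,10,11,12,13,14,15,16,17,18,19,20,21,22,23],
  [0,1,2,3,4,5,6,7,8,9,10,11,12,13,14,15,16,17,18,19,20,21,22,23],
  [0,1,2,3,4,5,6,7,8,9,10,11,12,13,14,15,16,17,18,19,20,21,22,23],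
  [0,4,2,3,8,20,13,21,18,6,23,19,9,12,15,11,16,22,1,14,10,7,17,5],
  [0,8,3,16,6,11,13,17,1,4,14,20,9,18,23,19,2,22,12,15,10,21,7,5],
  [0,6,16,2,4,19,13,7,12,8,15,11,9,1,14,20,3,22,18,23,10,17,21,5],
  [0,8,16,3,4,23,9,7,1,6,20,14,13,12,11,15,2,22,18,19,10,21,17,5],
  [0,6,2,16,8,14,9,21,12,4,11,15,13,18,19,23,3,22,1,20,10,17,7,5],
  [0,4,3,2,6,15,9,17,18,8,19,23,13,1,20,14,16,22,12,11,10,7,21,5],
  [0,1,2,3,4,5,6,7,8,9,10,11,12,13,14,15,16,17,18,19,20,21,22,23],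
  [0,1,2,3,4,5,6,7,8,9,10,11,12,13,14,15,16,17,18,19,20,21,22,23],
  [0,18,16,3,8,5,6,21,4,13,10,15,12,9,19,11,2,17,1,14,23,7,22,20],
  [0,1,2,3,4,5,6,7,8,9,10,11,12,13,14,15,16,17,18,19,20,21,22,23],
  [0,18,16,2,6,5,8,17,4,9,10,20,1,13,23,14,3,21,12,11,19,7,22,15],
  [0,12,3,2,4,5,8,7,6,13,10,14,1,9,11,20,16,21,18,23,15,17,22,19],
  [0,1,2,3,4,5,6,7,8,9,10,11,12,13,14,15,16,17,18,19,20,21,22,23],
  [0,12,3,16,8,5,4,21,6,9,10,19,18,13,15,23,2,7,1,20,11,17,22,14],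
  [0,1,2,16,6,5,4,17,8,13,10,23,18,9,20,19,3,7,12,15,14,21,22,11],
  [0,1,2,3,4,5,6,7,8,9,10,11,12,13,14,15,16,17,18,19,20,21,22,23],
  [0,4,3,16,9,15,6,22,18,1,19,5,12,8,10,11,2,17,13,14,20,7,21,23],
  [0,8,3,2,13,11,6,22,1,18,14,5,12,4,10,15,16,17,9,19,23,21,7,20],
  [0,4,2,16,13,20,8,22,18,12,23,5,1,6,10,14,3,21,9,11,15,7,17,19],
  [0,1,2,3,4,5,6,7,8,9,10,11,12,13,14,15,16,17,18,19,20,21,22,23],
  [0,6,2,3,9,14,8,22,12,18,11,5,1,4,10,20,16,21,13,23,19,17,7,15],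
  [0,8,16,2,9,23,4,22,1,12,20,5,18,6,10,19,3,7,13,15,11,21,17,14],
  [0,6,16,3,13,19,4,22,12,1,15,5,18,8,10,23,2,7,9,20,14,17,21,11],
  [0,1,2,3,4,5,6,7,8,9,10,11,12,13,14,15,16,17,18,19,20,21,22,23],
  [0,1,2,3,4,5,6,7,8,9,10,11,12,13,14,15,16,17,18,19,20,21,22,23],
  [0,9,16,2,1,11,6,21,13,4,14,15,12,18,19,5,3,17,8,10,20,22,7,23],
  [0,13,2,16,18,15,6,7,9,8,19,11,12,1,14,5,3,17,4,10,23,22,21,20],
  [0,9,3,16,18,20,8,7,13,6,23,14,1,12,11,5,2,21,4,10,19,22,17,15],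
  [0,13,16,3,12,14,8,17,9,4,11,20,1,18,23,5,2,21,6,10,15,22,7,19],
  [0,1,2,3,4,5,6,7,8,9,10,11,12,13,14,15,16,17,18,19,20,21,22,23],
  [0,13,3,2,1,23,4,21,9,6,20,19,18,12,15,5,16,7,8,10,14,22,17,11],
  [0,1,2,3,4,5,6,7,8,9,10,11,12,13,14,15,16,17,18,19,20,21,22,23],
  [0,9,2,3,12,19,4,17,13,8,15,23,18,1,20,5,16,7,6,10,11,22,21,14],
  [0,1,2,3,4,5,6,7,8,9,10,11,12,13,14,15,16,17,18,19,20,21,22,23],
  [0,4,16,3,1,10,12,21,18,9,5,19,6,13,15,14,2,17,8,11,20,7,22,23],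
  [0,8,2,3,18,10,12,7,1,13,5,14,6,9,11,19,16,17,4,15,23,21,22,20],
  [0,1,2,3,4,5,6,7,8,9,10,11,12,13,14,15,16,17,18,19,20,21,22,23],
  [0,8,2,16,12,10,18,17,1,9,5,20,4,13,23,15,3,7,6,19,11,21,22,14],
  [0,6,3,16,1,10,18,21,12,13,5,15,4,9,19,20,2,7,8,23,14,17,22,11],
  [0,1,2,3,4,5,6,7,8,9,10,11,12,13,14,15,16,17,18,19,20,21,22,23],
  [0,6,3,2,18,10,1,7,12,9,5,11,8,13,14,23,16,21,4,20,19,17,22,15],
  [0,4,16,2,12,10,1,17,18,13,5,23,8,9,20,11,3,21,6,14,15,7,22,19],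
  [0,1,2,3,4,5,6,7,8,9,10,11,12,13,14,15,16,17,18,19,20,21,22,23],
  [0,9,2,16,4,19,12,7,13,1,15,14,6,8,11,10,3,17,18,5,20,22,21,23],
  [0,13,16,2,8,14,12,21,9,18,11,19,6,4,15,10,3,17,1,5,23,22,7,20],
  [0,9,3,2,8,20,18,21,13,12,23,15,4,6,19,10,16,7,1,5,11,22,17,14],
  [0,13,2,3,6,15,18,17,9,1,19,20,4,8,23,10,16,7,12,5,14,22,21,11],
  [0,1,2,3,4,5,6,7,8,9,10,11,12,13,14,15,16,17,18,19,20,21,22,23],
  [0,13,3,16,4,23,1,7,9,12,20,11,8,6,14,10,2,21,18,5,15,22,17,19],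
  [0,1,2,3,4,5,6,7,8,9,10,11,12,13,14,15,16,17,18,19,20,21,22,23],
  [0,9,16,3,6,11,1,17,13,18,14,23,8,4,20,10,2,21,12,5,19,22,7,15],
  [0,1,2,3,4,5,6,7,8,9,10,11,12,13,14,15,16,17,18,19,20,21,22,23],
  [0,1,3,2,9,14,12,22,8,4,11,10,6,18,5,19,16,17,13,15,20,21,7,23],
  [0,18,3,16,13,19,12,22,4,8,15,10,6,1,5,14,2,17,9,11,23,7,21,20],
  [0,1,16,2,13,20,18,22,8,6,23,10,4,12,5,15,3,7,9,19,14,21,17,11],
  [0,1,2,3,4,5,6,7,8,9,10,11,12,13,14,15,16,17,18,19,20,21,22,23],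
  [0,12,16,3,9,15,18,22,6,8,19,10,4,1,5,20,2,7,13,23,11,17,21,14],
  [0,18,2,16,9,23,1,22,4,6,20,10,8,12,5,11,3,21,13,14,19,7,17,15],
  [0,12,2,3,13,11,1,22,6,4,14,10,8,18,5,23,16,21,9,20,15,17,7,19],
  [0,1,2,3,4,5,6,7,8,9,10,11,12,13,14,15,16,17,18,19,20,21,22,23]]

/-- Elements carrying each involution to the fixed one. -/
def carriers : List (List ℕ) := [
  [0,1,2,3,4,5,6,7,8,9,10,11,12,13,14,15,16,17,18,19,20,21,22,23],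
  [0,1,2,6,9,21,18,22,4,16,11,10,3,13,19,20,8,23,12,14,5,15,17,7],
  [0,1,2,8,3,10,6,19,9,4,15,14,16,18,22,17,13,5,12,7,11,23,20,21],
  [0,1,3,2,12,5,6,7,18,9,10,22,4,16,14,21,13,23,8,20,19,15,11,17],
  [0,1,3,12,13,15,2,17,18,4,11,7,16,8,21,19,6,22,9,14,20,5,10,23],
  [0,1,4,3,6,23,13,5,18,9,21,15,16,2,11,22,8,19,12,17,7,10,14,20],
  [0,1,6,12,2,11,18,5,16,3,15,19,13,4,10,7,8,21,9,22,17,23,14,20],
  [0,1,6,12,9,20,8,17,18,16,23,7,4,2,21,14,3,10,13,19,15,5,22,11],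
  [0,1,6,18,16,20,4,10,3,13,17,11,2,8,5,14,12,23,9,19,21,15,7,22],
  [0,1,8,6,2,17,18,20,12,9,14,21,4,3,11,22,16,5,13,7,23,10,15,19],
  [0,1,9,3,2,19,16,22,12,18,11,23,6,13,21,20,8,10,4,5,14,15,7,17],
  [0,1,9,4,6,21,16,17,13,8,23,10,12,2,20,14,3,7,18,15,19,5,11,22],
  [0,1,12,3,6,22,9,19,4,8,14,20,18,13,23,10,2,21,16,7,17,11,5,15],
  [0,1,18,9,6,17,4,21,13,2,15,5,8,3,11,22,12,20,16,10,7,23,19,14],
  [0,1,18,12,16,17,3,15,9,6,20,19,4,8,7,22,13,21,2,10,23,11,14,5],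
  [0,2,1,3,4,23,8,10,6,16,7,15,12,18,14,11,9,17,13,22,20,21,19,5],
  [0,2,1,9,4,20,13,19,16,8,5,17,18,3,23,21,12,15,6,14,22,11,7,10],
  [0,2,4,6,12,5,1,21,3,8,22,14,18,9,10,19,13,23,16,17,7,15,20,11],
  [0,2,4,8,18,11,12,15,6,16,10,17,13,9,22,20,1,7,3,14,21,23,5,19],
  [0,2,4,18,13,20,1,15,16,9,10,5,8,6,23,14,3,7,12,11,22,21,19,17],
  [0,2,6,3,18,21,13,7,9,4,5,19,8,16,14,11,1,15,12,22,23,20,17,10],
  [0,2,8,4,18,11,16,10,9,12,15,17,13,6,22,21,3,19,1,23,20,14,5,7],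
  [0,2,8,6,1,17,16,14,3,13,20,21,4,12,15,5,18,22,9,7,19,10,11,23],
  [0,2,9,6,16,21,8,15,18,12,7,19,4,3,20,23,13,17,1,14,22,11,10,5],
  [0,2,12,13,8,10,4,14,16,9,22,20,3,1,17,7,18,21,6,19,5,15,11,23],
  [0,2,16,6,8,5,3,21,1,12,11,23,13,9,19,10,18,14,4,17,15,7,20,22],
  [0,2,18,1,12,7,3,23,9,13,11,20,8,6,15,5,4,14,16,19,17,10,21,22],
  [0,2,18,16,13,23,1,7,3,6,19,17,12,8,21,11,4,5,9,14,20,22,10,15],
  [0,3,1,4,16,19,12,21,13,2,5,10,6,18,11,14,9,20,8,15,17,22,7,23],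
  [0,3,1,18,8,10,12,22,9,6,17,14,4,2,5,7,16,11,13,23,20,21,19,15],
  [0,3,6,1,8,17,4,23,12,16,10,21,13,2,15,19,18,20,9,14,11,22,5,7],
  [0,3,8,1,4,7,2,17,9,16,22,19,18,6,21,5,12,14,13,20,23,10,15,11],
  [0,3,9,2,13,19,4,5,1,8,10,23,16,12,14,22,6,20,18,11,15,17,21,7],
  [0,3,12,1,16,23,18,11,8,6,17,14,13,4,21,5,9,15,2,20,10,7,19,22],
  [0,3,12,9,16,10,2,19,6,18,22,15,4,1,23,7,13,14,8,21,20,5,17,11],
  [0,3,13,2,18,11,16,21,6,9,20,10,1,12,15,17,4,7,8,19,22,14,5,23],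
  [0,3,13,12,8,10,16,14,4,1,22,17,2,9,20,5,18,15,6,23,7,21,11,19],
  [0,3,18,4,16,7,8,14,12,1,11,17,2,6,21,5,13,19,9,23,10,20,22,15],
  [0,4,1,2,13,11,9,22,3,18,23,5,16,8,15,10,12,17,6,7,14,20,19,21],
  [0,4,1,12,16,5,2,15,13,3,20,7,18,9,22,19,8,14,6,21,23,17,10,11],
  [0,4,1,13,12,20,2,21,3,16,19,22,8,6,10,14,9,5,18,15,7,11,23,17],
  [0,4,2,1,13,11,18,23,8,9,22,5,16,3,15,14,6,21,12,20,10,7,19,17],
  [0,4,2,9,1,10,8,19,6,3,5,21,18,13,14,15,16,17,12,7,20,11,23,22],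
  [0,4,2,9,18,10,3,5,16,8,19,23,1,12,14,7,6,17,13,15,11,20,21,22],
  [0,4,3,2,12,5,16,10,9,18,7,14,1,6,22,21,8,20,13,23,19,17,11,15],
  [0,4,3,8,13,5,6,7,2,12,20,11,16,1,19,21,9,10,18,23,17,22,15,14],
  [0,4,3,13,9,22,8,14,2,16,15,7,1,18,21,17,6,11,12,19,23,5,20,10],
  [0,4,6,3,1,7,2,5,8,13,21,19,16,9,14,15,12,22,18,11,20,10,17,23],
  [0,4,6,9,2,21,3,7,13,18,15,10,16,1,19,5,8,11,12,22,17,23,20,14],
  [0,4,6,18,9,17,13,20,8,1,10,11,3,2,5,19,16,14,12,23,22,21,7,15],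
  [0,4,9,12,2,5,8,20,3,18,11,14,13,6,21,22,16,10,1,19,23,17,7,15],
  [0,4,12,1,3,22,18,10,13,16,7,20,2,6,5,21,8,14,9,19,23,17,15,11],
  [0,4,12,3,16,14,18,19,1,13,22,23,9,8,20,7,2,21,6,10,15,11,5,17],
  [0,4,13,9,16,7,6,21,12,8,17,5,18,1,10,11,2,19,3,20,14,15,22,23],
  [0,4,13,12,16,22,9,10,18,2,14,11,6,8,17,5,3,15,1,23,21,19,20,7],
  [0,4,18,2,3,23,8,11,1,13,14,15,16,6,17,19,9,7,12,5,22,21,10,20],
  [0,4,18,8,1,20,6,17,13,16,22,23,3,9,11,10,2,21,12,15,7,14,19,5],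
  [0,6,1,3,4,20,9,5,12,2,21,22,16,13,17,19,18,15,8,14,23,10,11,7],
  [0,6,1,13,18,17,12,11,3,2,7,5,4,9,14,23,8,22,16,10,19,20,15,21],
  [0,6,2,1,4,21,16,14,9,18,20,10,8,13,7,11,3,23,12,22,15,5,17,19],
  [0,6,2,3,18,10,9,5,13,1,7,11,8,12,14,19,4,15,16,17,23,20,22,21],
  [0,6,2,12,8,7,16,19,13,3,10,23,9,4,11,15,1,17,18,5,21,22,20,14],
  [0,6,3,2,8,10,9,5,16,1,7,22,18,4,14,20,12,21,13,23,17,19,11,15],
  [0,6,3,9,1,19,13,11,8,12,22,7,2,4,23,17,16,15,18,14,10,20,21,5],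
  [0,6,3,9,4,5,8,20,12,16,10,14,18,2,15,7,13,23,1,21,11,22,17,19],
  [0,6,8,18,13,22,16,20,2,4,17,19,12,1,11,7,3,14,9,5,21,15,23,10],
  [0,6,9,4,16,14,13,15,1,8,7,22,2,18,19,23,12,21,3,17,20,10,5,11],
  [0,6,12,8,9,21,18,10,16,13,19,20,2,4,5,22,1,14,3,7,11,15,17,23],
  [0,6,12,18,9,23,2,11,8,4,5,22,16,3,10,20,13,15,1,17,19,14,21,7],
  [0,6,13,3,12,20,16,7,4,18,21,22,9,1,14,19,2,11,8,17,10,23,15,5],
  [0,6,13,18,12,21,2,20,1,9,17,23,8,16,5,11,4,19,3,7,15,22,14,10],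
  [0,6,18,16,9,14,3,11,4,13,5,22,12,1,20,19,8,7,2,23,10,17,15,21],
  [0,8,1,3,18,11,9,22,6,12,17,20,4,16,21,10,13,7,2,23,15,19,5,14],
  [0,8,2,12,1,20,9,11,13,6,23,10,18,16,7,22,3,21,4,14,17,5,19,15],
  [0,8,3,1,4,11,9,22,2,12,17,5,18,13,21,19,16,14,6,15,23,10,20,7],
  [0,8,3,2,1,17,9,15,12,4,19,21,16,6,20,14,13,11,18,22,5,7,23,10],
  [0,8,3,18,13,14,16,11,4,12,19,21,9,6,20,17,1,15,2,22,7,5,10,23],
  [0,8,4,9,18,15,6,7,16,13,14,5,12,3,19,11,1,20,2,10,23,21,22,17],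
  [0,8,6,1,4,19,12,14,3,16,20,7,2,9,11,10,13,17,18,23,15,21,22,5],
  [0,8,6,3,4,22,1,11,2,13,15,10,12,16,20,7,18,21,9,5,14,17,23,19],
  [0,8,6,18,1,22,4,21,2,16,15,19,9,13,14,5,3,11,12,7,20,17,23,10],
  [0,8,9,2,6,5,3,10,16,4,19,23,12,1,14,20,18,11,13,22,17,7,21,15],
  [0,8,9,13,1,21,4,17,16,6,7,22,2,3,10,23,12,14,18,15,11,19,5,20],
  [0,8,12,6,18,23,16,20,3,1,17,22,13,9,21,15,4,5,2,11,10,19,7,14],
  [0,8,13,18,9,7,4,11,6,2,19,10,3,16,22,20,12,21,1,17,5,14,15,23],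
  [0,8,18,2,12,14,13,23,6,4,11,15,1,16,17,5,3,19,9,7,20,22,10,21],
  [0,9,1,8,12,14,4,20,6,16,5,11,3,13,23,15,18,19,2,21,17,7,10,22],
  [0,9,1,12,8,15,13,5,2,18,20,22,3,4,7,14,16,19,6,21,17,23,10,11],
  [0,9,1,16,3,22,12,7,8,2,23,21,18,13,5,10,4,17,6,11,20,19,14,15],
  [0,9,2,3,16,7,1,10,12,6,5,11,13,8,14,17,18,19,4,15,21,23,22,20],
  [0,9,3,1,6,17,12,11,13,8,22,5,2,18,21,15,4,19,16,14,7,23,20,10],
  [0,9,3,4,2,5,1,21,6,13,23,14,8,12,11,20,18,7,16,10,22,19,15,17],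
  [0,9,3,6,2,15,4,11,8,18,22,20,1,13,23,14,16,19,12,17,21,7,10,5],
  [0,9,3,18,16,5,12,23,4,2,7,15,1,8,22,20,6,21,13,10,19,11,17,14],
  [0,9,12,2,13,23,6,20,3,8,11,19,4,1,7,17,18,5,16,15,21,14,10,22],
  [0,9,12,6,8,14,16,10,13,18,19,11,2,1,15,21,3,22,4,7,23,17,5,20],
  [0,9,18,13,1,15,3,22,16,8,10,11,12,2,7,17,4,20,6,21,23,14,19,5],
  [0,9,18,13,4,20,2,21,1,6,17,23,16,8,5,22,12,15,3,10,19,11,14,7],
  [0,12,1,3,13,22,8,17,4,9,11,20,16,6,21,7,2,23,18,10,19,14,5,15],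
  [0,12,1,6,3,20,16,19,13,8,14,22,18,4,11,15,2,21,9,5,17,23,7,10],
  [0,12,3,1,16,22,8,17,18,9,11,5,13,2,21,14,6,15,4,19,10,7,20,23],
  [0,12,3,8,2,17,16,14,6,18,22,21,13,1,23,11,4,19,9,15,20,5,10,7],
  [0,12,4,1,13,5,2,19,9,3,21,7,8,16,11,17,6,22,18,23,20,15,10,14],
  [0,12,4,6,9,19,8,23,18,3,17,15,1,13,7,21,2,5,16,22,14,10,11,20],
  [0,12,4,13,16,15,8,10,2,1,14,21,6,3,17,11,9,7,18,20,5,23,19,22],
  [0,12,6,9,1,14,16,17,8,18,23,11,4,13,22,10,2,20,3,19,7,21,5,15],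
  [0,12,6,13,3,11,16,21,2,4,7,10,9,18,23,5,1,22,8,15,20,17,14,19],
  [0,12,6,13,8,19,1,20,16,2,17,5,18,3,22,14,4,23,9,10,7,21,15,11],
  [0,12,8,2,18,21,4,23,9,16,11,5,1,13,7,19,6,15,3,10,14,22,17,20],
  [0,12,9,1,3,19,6,20,13,4,5,23,8,2,7,10,18,11,16,22,21,14,17,15],
  [0,12,9,3,4,11,6,22,1,13,19,21,16,18,23,5,8,10,2,20,17,15,7,14],
  [0,12,9,8,1,22,16,20,2,13,5,15,3,4,21,19,6,11,18,10,14,7,23,17],
  [0,12,13,8,1,11,2,21,6,3,19,14,4,9,5,20,18,7,16,17,15,23,22,10],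
  [0,12,18,3,6,11,8,19,13,16,14,10,1,2,20,23,4,7,9,5,17,15,21,22],
  [0,13,1,12,6,20,18,15,4,9,5,22,2,3,7,21,8,14,16,19,11,17,10,23],
  [0,13,2,18,6,11,4,14,3,8,23,10,9,12,17,20,1,22,16,21,19,7,15,5],
  [0,13,3,4,18,21,9,23,8,1,5,14,12,6,11,7,16,10,2,20,19,17,15,22],
  [0,13,3,6,9,5,4,21,1,2,7,17,12,18,14,23,8,20,16,10,15,22,19,11],
  [0,13,3,9,18,22,12,19,4,6,11,7,8,2,23,14,1,17,16,15,5,10,21,20],
  [0,13,4,1,8,5,18,19,2,6,21,11,12,3,10,23,16,17,9,22,15,14,7,20],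
  [0,13,6,16,3,7,4,15,2,12,22,14,18,1,17,11,8,5,9,21,19,20,10,23],
  [0,13,8,12,4,10,6,19,9,18,21,17,1,3,5,23,16,11,2,15,22,14,20,7],
  [0,13,9,1,16,5,8,20,12,2,19,7,6,4,23,22,18,11,3,10,15,14,17,21],
  [0,13,9,2,12,22,8,20,16,1,11,17,4,6,15,5,3,19,18,10,23,14,7,21],
  [0,13,12,3,2,19,4,22,9,18,14,23,8,1,20,21,6,10,16,7,11,17,5,15],
  [0,13,18,6,8,10,1,17,16,4,20,7,12,9,5,22,3,21,2,15,14,23,11,19],
  [0,13,18,16,2,23,4,19,8,9,7,17,12,3,10,5,1,11,6,14,15,22,21,20],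
  [0,16,1,4,6,19,8,21,12,9,5,11,3,2,7,15,18,14,13,20,22,23,10,17],
  [0,16,1,6,9,14,8,20,4,12,19,22,13,18,11,5,3,15,2,21,10,17,7,23],
  [0,16,1,18,2,22,8,17,3,13,10,5,6,12,19,7,9,11,4,23,15,20,14,21],
  [0,16,2,4,9,10,1,7,12,13,15,23,6,18,21,17,8,19,3,5,14,11,22,20],
  [0,16,2,8,13,23,12,11,18,4,21,17,6,3,7,20,9,14,1,22,19,15,5,10],
  [0,16,2,13,6,20,9,11,4,3,21,5,8,18,15,22,1,14,12,23,7,19,10,17],
  [0,16,3,1,8,14,18,19,12,9,15,23,2,4,10,11,13,22,6,17,21,5,7,20],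
  [0,16,3,2,13,7,18,5,6,4,10,14,9,1,22,23,12,21,8,20,15,19,11,17],
  [0,16,3,12,2,5,4,23,18,9,20,22,6,1,14,21,8,7,13,10,11,17,19,15],
  [0,16,3,12,8,7,1,10,2,13,21,11,18,9,15,23,6,5,4,20,19,22,17,14],
  [0,16,3,18,6,17,1,22,4,9,15,7,13,12,5,11,2,19,8,14,21,10,23,20],
  [0,16,4,8,9,15,12,11,3,2,10,5,1,18,22,20,13,14,6,7,19,23,17,21],
  [0,16,4,13,1,5,8,22,9,3,23,7,2,12,11,17,18,19,6,21,10,14,20,15],
  [0,16,6,2,13,22,1,11,9,18,21,17,8,12,19,7,4,5,3,15,20,23,10,14],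
  [0,16,8,1,13,20,9,5,12,4,14,10,18,2,23,22,6,17,3,7,15,19,11,21],
  [0,16,8,4,9,15,2,10,18,12,11,5,1,3,22,19,6,21,13,23,20,7,17,14],
  [0,16,8,9,2,5,13,22,6,12,20,23,18,1,21,14,3,7,4,17,11,10,15,19],
  [0,16,8,18,9,17,4,22,1,6,20,19,2,12,11,5,13,7,3,14,10,21,23,15],
  [0,16,9,3,2,20,6,10,4,8,5,17,13,1,15,19,12,11,18,22,7,23,14,21],
  [0,16,13,1,6,21,4,19,12,2,20,23,9,18,10,17,3,7,8,11,14,5,22,15],
  [0,16,13,3,18,14,4,15,9,8,22,20,6,12,21,10,2,23,1,5,17,11,7,19],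
  [0,16,18,6,13,21,8,15,1,4,22,23,3,12,14,10,2,20,9,17,5,11,19,7],
  [0,18,1,3,12,15,9,14,13,16,19,7,6,8,10,21,2,5,4,20,22,17,23,11],
  [0,18,2,3,6,10,4,7,12,16,5,11,8,13,22,15,9,19,1,17,21,20,14,23],
  [0,18,2,6,12,11,16,21,13,1,22,10,4,3,19,14,9,20,8,23,7,5,17,15],
  [0,18,3,1,2,5,4,21,16,8,20,22,13,12,11,23,9,10,6,7,14,19,17,15],
  [0,18,3,12,1,22,13,14,2,4,19,5,6,16,20,15,9,11,8,17,21,10,23,7],
  [0,18,4,3,13,21,2,23,8,16,5,14,12,6,15,22,1,19,9,17,10,20,11,7],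
  [0,18,8,3,1,14,12,22,2,16,17,10,4,9,23,7,6,20,13,5,11,19,21,15],
  [0,18,8,9,1,23,16,15,13,2,21,20,6,4,5,19,3,10,12,11,14,7,22,17],
  [0,18,8,12,16,19,13,21,1,6,10,17,3,9,5,11,2,15,4,23,14,7,20,22],
  [0,18,9,4,2,22,12,19,3,8,5,7,1,13,15,10,6,11,16,20,17,21,14,23],
  [0,18,9,4,16,23,6,17,12,3,21,10,13,2,11,14,8,15,1,7,5,19,20,22],
  [0,18,12,1,4,5,9,20,8,13,15,10,16,6,7,11,2,17,3,23,14,19,22,21],
  [0,18,12,6,16,15,3,11,8,1,5,14,9,2,10,17,13,23,4,20,21,22,19,7],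
  [0,18,12,8,3,19,13,21,4,6,10,20,16,2,5,7,9,22,1,14,23,11,17,15],
  [0,18,13,2,9,22,16,23,4,12,14,7,6,3,17,15,8,5,1,10,21,20,19,11],
  [0,18,13,12,4,15,16,23,9,2,5,19,3,6,21,22,1,14,8,10,17,20,7,11]]

/-- The image of a matrix given by its entries. -/
def glImg (a b c d : ZMod 3) : List ℕ := glTable.getD (27 * a.val + 9 * b.val + 3 * c.val + d.val) []

set_option maxHeartbeats 4000000 in
theorem gl_checks : (∀ a b c d : ZMod 3, a * d - b * c ≠ 0 →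
      inEleven (glImg a b c d) = true ∧ compL (glImg a b c d) invX = compL invX (glImg a b c d) ∧
      (glImg a b c d = List.range 24 → a = 1 ∧ b = 0 ∧ c = 0 ∧ d = 1)) ∧
    (∀ a b c d : ZMod 3, a * d - b * c ≠ 0 → ∀ A B C D : ZMod 3, A * D - B * C ≠ 0 →
      glImg (a * A + b * C) (a * B + b * D) (c * A + d * C) (c * B + d * D) =
        compL (glImg a b c d) (glImg A B C D)) := by
  constructor <;> decide +kernel

set_option maxHeartbeats 4000000 in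
theorem inv_checks : inEleven invX = true ∧ carriers.all inEleven = true ∧
    (elts.all fun L => !(compL L L == List.range 24) || L == List.range 24 ||
      carriers.any fun c => compL c L == compL invX c) = true := by
  refine ⟨?_, ?_, ?_⟩ <;> decide +kernel

set_option maxHeartbeats 4000000 in
theorem cent_check : (elts.all fun L => !(compL L invX == compL invX L) ||
    decide (∃ a b c d : ZMod 3, a * d - b * c ≠ 0 ∧ glImg a b c d = L)) = true := by decide +kernel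


/-- Involution centralisers in the smallest Mathieu group are isomorphic to GL(2, 3). -/
theorem result (d : Finset Cfsg.GolayPt) (hd : d ∈ Cfsg.dodecads) (p : Cfsg.GolayPt) (hp : p ∈ d) (x : ↥(MulAction.stabilizer Cfsg.M24 d ⊓ MulAction.stabilizer Cfsg.M24 p)) (hx : orderOf x = 2) : Nonempty (↥(Subgroup.centralizer ({x} : Set ↥(MulAction.stabilizer Cfsg.M24 d ⊓ MulAction.stabilizer Cfsg.M24 p))) ≃* GL (Fin 2) (ZMod 3)) := by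
  obtain ⟨u, hu, hud, hup⟩ := dodecad_point_transitive hd hp
  have hy : u⁻¹ * x.val.val * u ∈ Cfsg.Spor.M11 := (stab_point_iff hud hup x.val hu).1 x.2
  obtain ⟨L, hL, hv, hyL⟩ := mem_elts hy
  obtain ⟨hXv, hXm⟩ := mem_of_inEleven inv_checks.1
  obtain ⟨c, hc, hcy⟩ : ∃ c ∈ Cfsg.Spor.M11, c * (u⁻¹ * x.val.val * u) = pL invX * c := by
    have hx2 : (x.val.val : Equiv.Perm GolayPt) * x.val.val = 1 := by
      have h := pow_orderOf_eq_one x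
      rw [hx, pow_two] at h
      exact congrArg (fun z => z.val.val) h
    have h := List.all_eq_true.1 inv_checks.2.2 L hL
    simp only [Bool.or_eq_true, Bool.not_eq_true', beq_eq_false_iff_ne, beq_iff_eq, List.any_eq_true] at h
    rcases h with (h | h) | ⟨C, hC, h⟩
    · exfalso
      refine h (pL_inj (validL_compL hv hv) (by decide) ?_)
      rw [pL_compL hv hv, pL_range, ← hyL]
      calc u⁻¹ * x.val.val * u * (u⁻¹ * x.val.val * u) = u⁻¹ * (x.val.val * x.val.val) * u := by group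
        _ = 1 := by rw [hx2]; group
    · exfalso
      have h1 : x.val.val = 1 := by
        rw [h, pL_range] at hyL
        calc x.val.val = u * (u⁻¹ * x.val.val * u) * u⁻¹ := by group
          _ = 1 := by rw [hyL]; group
      have : x = 1 := Subtype.ext (Subtype.ext h1)
      rw [this, orderOf_one] at hx
      exact absurd hx (by decide)
    · obtain ⟨hCv, hCm⟩ := mem_of_inEleven (List.all_eq_true.1 inv_checks.2.1 C hC)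
      exact ⟨pL C, hCm, by rw [hyL, ← pL_compL hCv hv, h, pL_compL hXv hCv]⟩
  set v : Equiv.Perm GolayPt := c * u⁻¹ with hvdef
  let φ : ↥(MulAction.stabilizer M24 d ⊓ MulAction.stabilizer M24 p) →* Equiv.Perm GolayPt :=
    (MulAut.conj v).toMonoidHom.comp (M24.subtype.comp (Subgroup.subtype _))
  have hφ : ∀ z, φ z = v * z.val.val * v⁻¹ := fun z => rfl
  have hφx : φ x = pL invX := by
    rw [hφ, hvdef]
    calc c * u⁻¹ * x.val.val * (c * u⁻¹)⁻¹ = c * (u⁻¹ * x.val.val * u) * c⁻¹ := by group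
      _ = pL invX := by rw [hcy, mul_inv_cancel_right]
  have hinj : Function.Injective φ := fun a b e => by
    rw [hφ, hφ] at e
    exact Subtype.ext (Subtype.ext (mul_left_cancel (mul_right_cancel e)))
  have hmem : ∀ z, φ z ∈ Cfsg.Spor.M11 := fun z => by
    rw [hφ, hvdef, show c * u⁻¹ * z.val.val * (c * u⁻¹)⁻¹ = c * (u⁻¹ * z.val.val * u) * c⁻¹ by group]
    exact mul_mem (mul_mem hc ((stab_point_iff hud hup z.val hu).1 z.2)) (inv_mem hc)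
  let B : Subgroup (Equiv.Perm GolayPt) := Cfsg.Spor.M11 ⊓ Subgroup.centralizer {pL invX}
  have hiff : ∀ z, z ∈ Subgroup.centralizer ({x} : Set ↥(MulAction.stabilizer M24 d ⊓ MulAction.stabilizer M24 p)) ↔
      φ z ∈ B := fun z => by
    rw [Subgroup.mem_centralizer_singleton_iff, Subgroup.mem_inf, Subgroup.mem_centralizer_singleton_iff, ← hφx,
      ← map_mul, ← map_mul, hinj.eq_iff]
    exact (and_iff_right (hmem z)).symm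
  obtain ⟨e⟩ := equiv_of_inj φ hinj hiff fun b hb => by
    have hb' : c⁻¹ * b * c ∈ Cfsg.Spor.M11 := mul_mem (mul_mem (inv_mem hc) hb.1) hc
    have hm : u * (c⁻¹ * b * c) * u⁻¹ ∈ M24 := mul_mem (mul_mem hu (eleven_le_M24 hb')) (inv_mem hu)
    refine ⟨⟨⟨_, hm⟩, (stab_point_iff hud hup _ hu).2 (by simpa [mul_assoc] using hb')⟩, ?_⟩
    rw [hφ, hvdef]
    group
  refine ⟨e.trans ?_⟩
  have hdet : ∀ A : GL (Fin 2) (ZMod 3), A.val 0 0 * A.val 1 1 - A.val 0 1 * A.val 1 0 ≠ 0 := fun A => by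
    rw [← Matrix.det_fin_two]; exact Matrix.GeneralLinearGroup.det_ne_zero A
  let ψ : GL (Fin 2) (ZMod 3) →* Equiv.Perm GolayPt :=
    MonoidHom.mk' (fun A => pL (glImg (A.val 0 0) (A.val 0 1) (A.val 1 0) (A.val 1 1))) fun A A' => by
      have h := gl_checks.2 _ _ _ _ (hdet A) _ _ _ _ (hdet A')
      rw [← pL_compL (mem_of_inEleven (gl_checks.1 _ _ _ _ (hdet A)).1).1
        (mem_of_inEleven (gl_checks.1 _ _ _ _ (hdet A')).1).1, ← h]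
      simp [Units.val_mul, Matrix.mul_apply, Fin.sum_univ_two]
  have hψinj : Function.Injective ψ := by
    rw [← MonoidHom.ker_eq_bot_iff, eq_bot_iff]
    intro A hA
    rw [Subgroup.mem_bot]
    have h1 : pL (glImg (A.val 0 0) (A.val 0 1) (A.val 1 0) (A.val 1 1)) = 1 := hA
    obtain ⟨a, b, c', d'⟩ := (gl_checks.1 _ _ _ _ (hdet A)).2.2
      (pL_inj (mem_of_inEleven (gl_checks.1 _ _ _ _ (hdet A)).1).1 (by decide) (h1.trans pL_range.symm))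
    refine Units.ext (Matrix.ext fun i j => ?_)
    fin_cases i <;> fin_cases j <;> simp [a, b, c', d']
  have hrange : ψ.range = B := by
    refine le_antisymm ?_ ?_
    · rintro _ ⟨A, rfl⟩
      obtain ⟨h1, h2, -⟩ := gl_checks.1 _ _ _ _ (hdet A)
      obtain ⟨hv', hm'⟩ := mem_of_inEleven h1
      refine ⟨hm', Subgroup.mem_centralizer_singleton_iff.2 ?_⟩
      show pL _ * pL invX = pL invX * pL _
      rw [← pL_compL hv' hXv, h2, pL_compL hXv hv']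
    · rintro g ⟨hg, hgc⟩
      obtain ⟨M, hM, hMv, rfl⟩ := mem_elts hg
      have he : compL M invX = compL invX M := pL_inj (validL_compL hMv hXv) (validL_compL hXv hMv)
        (by rw [pL_compL hMv hXv, pL_compL hXv hMv]; exact Subgroup.mem_centralizer_singleton_iff.1 hgc)
      have h := List.all_eq_true.1 cent_check M hM
      simp only [he, beq_self_eq_true, Bool.not_true, Bool.false_or, decide_eq_true_eq] at h
      obtain ⟨a, b, c', d', hne, h⟩ := h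
      refine ⟨Matrix.GeneralLinearGroup.mkOfDetNeZero !![a, b; c', d'] (by rw [Matrix.det_fin_two_of]; exact hne), ?_⟩
      show pL _ = pL M
      rw [← h]
      rfl
  exact ((MonoidHom.ofInjective hψinj).trans (MulEquiv.subgroupCongr hrange)).symm

end Cfsg.Agent.S1603
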