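import Cfsg.Statements.S1605
import Cfsg.Agent.Lib.M24Cert.Transport

set_option autoImplicit false
open scoped Pointwise
open Cfsg CfsgLib.Golay CfsgLib.M24Cert

namespace Cfsg.Agent.S1605

open Cfsg CfsgLib.Golay CfsgLib.M24Cert in
theorem forest_ok : fixOk [1, 32, baseOctad] heptOutOnOctGens = true ∧
    classesOk octTbl heptOutOnOctGens heptOutOnOctAux (fun n => n.testBit 0 && !n.testBit 5) (fun n => bc (Nat.land baseOctad n)) [(8, 0), (4, 7), (2, 33)] = true ∧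
    countLt (fun i => (fun n => n.testBit 0 && !n.testBit 5) (one octTbl i) && Nat.beq (bc (Nat.land baseOctad (one octTbl i))) 2) octTbl.N = 70 ∧
    countLt (fun i => (fun n => n.testBit 0 && !n.testBit 5) (one octTbl i) && Nat.beq (bc (Nat.land baseOctad (one octTbl i))) 4) octTbl.N = 105 := by
  refine ⟨?_, ?_, ?_, ?_⟩ <;> decide +kernel

open Cfsg CfsgLib.Golay CfsgLib.M24Cert in
open scoped Pointwise in
theorem count_base {g : Equiv.Perm GolayPt} (hg : g ∈ M24) (k : ℕ) :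
    {U : Finset GolayPt | U ∈ octads ∧ (g (pt 0) ∈ U ∧ g (pt 5) ∉ U) ∧ (g • toSet baseOctad ∩ U).card = k}.ncard =
      countLt (fun i => (fun n => n.testBit 0 && !n.testBit 5) (one octTbl i) && Nat.beq (bc (Nat.land baseOctad (one octTbl i))) k) octTbl.N := by
  rw [ncard_smul_iff g _ (fun U => U ∈ octads ∧ ((pt 0 ∈ U ∧ pt 5 ∉ U) ∧ (toSet baseOctad ∩ U).card = k))
    (fun U => by simp only [octads_smul_iff hg, apply_mem_smul, inter_card_smul])]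
  exact octads_complete.count (fun U => (pt 0 ∈ U ∧ pt 5 ∉ U) ∧ (toSet baseOctad ∩ U).card = k)
    (fun n => (fun n => n.testBit 0 && !n.testBit 5) n && Nat.beq (bc (Nat.land baseOctad n)) k)
    (fun i _ => by
      rw [card_inter_mask]
      simp [pt_mem_toSet, and_assoc])

open Cfsg CfsgLib.Golay CfsgLib.M24Cert in
theorem count_all : countLt (fun i => (one octTbl i).testBit 0 && !(one octTbl i).testBit 5) octTbl.N = 176 := by
  decide +kernel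


/-- The two-point stabiliser acts on the 176 octads through the first point avoiding the second with rank 3 and subdegrees 1, 70, 105 (intersections 8, 2, 4). -/
theorem result (p q : Cfsg.GolayPt) (hpq : p ≠ q) : {x : Finset Cfsg.GolayPt | (x ∈ Cfsg.octads ∧ p ∈ x ∧ q ∉ x)}.ncard = 176 ∧ (∀ o o' : Finset Cfsg.GolayPt, (o ∈ Cfsg.octads ∧ p ∈ o ∧ q ∉ o) → (o' ∈ Cfsg.octads ∧ p ∈ o' ∧ q ∉ o') → ∃ g : Equiv.Perm Cfsg.GolayPt, g ∈ Cfsg.M24 ∧ g p = p ∧ g q = q ∧ g • o = o') ∧ ∀ o : Finset Cfsg.GolayPt, (o ∈ Cfsg.octads ∧ p ∈ o ∧ q ∉ o) → {x : Finset Cfsg.GolayPt | (x ∈ Cfsg.octads ∧ p ∈ x ∧ q ∉ x) ∧ (o ∩ x).card = 2}.ncard = 70 ∧ {x : Finset Cfsg.GolayPt | (x ∈ Cfsg.octads ∧ p ∈ x ∧ q ∉ x) ∧ (o ∩ x).card = 4}.ncard = 105 ∧ ∀ o' o'' : Finset Cfsg.GolayPt, (o' ∈ Cfsg.octads ∧ p ∈ o' ∧ q ∉ o') → (o'' ∈ Cfsg.octads ∧ p ∈ o'' ∧ q ∉ o'') → (o ∩ o').card = (o ∩ o'').card → ∃ g : Equiv.Perm Cfsg.GolayPt,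 g ∈ Cfsg.M24 ∧ g p = p ∧ g q = q ∧ g • o = o ∧ g • o' = o'' := by
  have key : ∀ o : Finset GolayPt, (o ∈ octads ∧ p ∈ o ∧ q ∉ o) →
      ∃ g ∈ M24, g • toSet baseOctad = o ∧ g (pt 0) = p ∧ g (pt 5) = q := fun o ho =>
    pqOut_map hpq ho.1 ho.2.1 ho.2.2
  refine ⟨?_, fun o o' ho ho' => ?_, fun o ho => ?_⟩
  · obtain ⟨g, hg, rfl, rfl⟩ := M24_map_two (a := pt 0) (b := pt 5) (by decide +kernel) hpq
    rw [ncard_smul_iff g _ (fun U => U ∈ octads ∧ pt 0 ∈ U ∧ pt 5 ∉ U)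
      (fun U => by simp only [octads_smul_iff hg, apply_mem_smul]),
      octads_complete.count (fun U => pt 0 ∈ U ∧ pt 5 ∉ U) (fun n => n.testBit 0 && !n.testBit 5)
        (fun i _ => by simp [pt_mem_toSet])]
    exact count_all
  · obtain ⟨g, hg, hgo, hgp, hgq⟩ := key o ho
    obtain ⟨k, hk, hko, hkp, hkq⟩ := key o' ho'
    refine ⟨k * g⁻¹, mul_mem hk (inv_mem hg), ?_, ?_, ?_⟩
    · rw [Equiv.Perm.mul_apply, Equiv.Perm.inv_eq_iff_eq.2 hgp.symm]; exact hkp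
    · rw [Equiv.Perm.mul_apply, Equiv.Perm.inv_eq_iff_eq.2 hgq.symm]; exact hkq
    · rw [mul_smul, inv_smul_eq_iff.2 hgo.symm]; exact hko
  obtain ⟨g, hg, rfl, rfl, rfl⟩ := key o ho
  obtain ⟨hfix, hcl, hc2, hc4⟩ := forest_ok
  refine ⟨?_, ?_, ?_⟩
  · rw [← hc2, ← count_base hg 2]
    simp only [and_assoc]
  · rw [← hc4, ← count_base hg 4]
    simp only [and_assoc]
  intro o' o'' ho' ho'' h
  obtain ⟨U', rfl⟩ : ∃ U, o' = g • U := ⟨g⁻¹ • o', (smul_inv_smul g o').symm⟩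
  obtain ⟨U'', rfl⟩ : ∃ U, o'' = g • U := ⟨g⁻¹ • o'', (smul_inv_smul g o'').symm⟩
  rw [octads_smul_iff hg, apply_mem_smul, apply_mem_smul] at ho' ho''
  rw [inter_card_smul, inter_card_smul] at h
  obtain ⟨u, hu, e⟩ := octads_complete.conj_key hcl (fixOk_spec hfix) ho'.1 ho''.1 (fun i _ j _ ei ej => by
    subst ei ej
    rw [card_inter_mask, card_inter_mask] at h
    simp only [pt_mem_toSet (show (0 : ℕ) < 24 by omega), pt_mem_toSet (show (5 : ℕ) < 24 by omega),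
      Bool.not_eq_true] at ho' ho''
    exact ⟨by simp [ho'.2.1, ho'.2.2], by simp [ho''.2.1, ho''.2.2], h⟩)
  exact ⟨g * u * g⁻¹, mem_M24_conj hg (mem_fixMasks.1 hu).1,
    by rw [conj_apply, fixMasks_point hu (by omega) (by simp)],
    by rw [conj_apply, fixMasks_point hu (by omega) (by simp)],
    by rw [conj_smul_smul, (mem_fixMasks.1 hu).2 baseOctad (by simp)],
    by rw [conj_smul_smul, e]⟩

end Cfsg.Agent.S1605
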