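import Cfsg.Statements.S1607
import Cfsg.Agent.Lib.M24Cert.Transport

set_option autoImplicit false
open scoped Pointwise
open Cfsg CfsgLib.Golay CfsgLib.M24Cert

namespace Cfsg.Agent.S1607

open Cfsg CfsgLib.Golay CfsgLib.M24Cert in
theorem forest_ok : fixOk [1, baseOctad] ptOctOnOctGens = true ∧
    classesOk octTbl ptOctOnOctGens ptOctOnOctAux (fun n => n.testBit 0) (fun n => bc (Nat.land baseOctad n)) [(8, 0), (4, 2), (2, 10)] = true ∧
    countLt (fun i => (fun n => n.testBit 0) (one octTbl i) && Nat.beq (bc (Nat.land baseOctad (one octTbl i))) 2) octTbl.N = 112 ∧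
    countLt (fun i => (fun n => n.testBit 0) (one octTbl i) && Nat.beq (bc (Nat.land baseOctad (one octTbl i))) 4) octTbl.N = 140 := by
  refine ⟨?_, ?_, ?_, ?_⟩ <;> decide +kernel

open Cfsg CfsgLib.Golay CfsgLib.M24Cert in
open scoped Pointwise in
theorem count_base {g : Equiv.Perm GolayPt} (hg : g ∈ M24) (k : ℕ) :
    {U : Finset GolayPt | U ∈ octads ∧ (g (pt 0) ∈ U) ∧ (g • toSet baseOctad ∩ U).card = k}.ncard =
      countLt (fun i => (fun n => n.testBit 0) (one octTbl i) && Nat.beq (bc (Nat.land baseOctad (one octTbl i))) k) octTbl.N := by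
  rw [ncard_smul_iff g _ (fun U => U ∈ octads ∧ ((pt 0 ∈ U) ∧ (toSet baseOctad ∩ U).card = k))
    (fun U => by simp only [octads_smul_iff hg, apply_mem_smul, inter_card_smul])]
  exact octads_complete.count (fun U => (pt 0 ∈ U) ∧ (toSet baseOctad ∩ U).card = k)
    (fun n => (fun n => n.testBit 0) n && Nat.beq (bc (Nat.land baseOctad n)) k)
    (fun i _ => by
      rw [card_inter_mask]
      simp [pt_mem_toSet, and_assoc])


/-- The point stabiliser acts on the 253 heptads of its S(4, 7, 23) with rank 3 and subdegrees 1, 112, 140 (intersections 8, 2, 4). -/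
theorem result (x : Cfsg.GolayPt) (o : Finset Cfsg.GolayPt) (ho : o ∈ Cfsg.octads) (hx : x ∈ o) : {o' : Finset Cfsg.GolayPt | o' ∈ Cfsg.octads ∧ x ∈ o' ∧ (o ∩ o').card = 2}.ncard = 112 ∧ {o' : Finset Cfsg.GolayPt | o' ∈ Cfsg.octads ∧ x ∈ o' ∧ (o ∩ o').card = 4}.ncard = 140 ∧ ∀ o' o'' : Finset Cfsg.GolayPt, o' ∈ Cfsg.octads → o'' ∈ Cfsg.octads → x ∈ o' → x ∈ o'' → (o ∩ o').card = (o ∩ o'').card → ∃ g : Equiv.Perm Cfsg.GolayPt, g ∈ Cfsg.M24 ∧ g x = x ∧ g • o = o ∧ g • o' = o'' := by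
  obtain ⟨g, hg, rfl, rfl⟩ := ptIn_map ho hx
  obtain ⟨hfix, hcl, hc2, hc4⟩ := forest_ok
  refine ⟨(count_base hg 2).trans hc2, (count_base hg 4).trans hc4, ?_⟩
  intro o' o'' ho' ho'' hx' hx'' h
  obtain ⟨U', rfl⟩ : ∃ U, o' = g • U := ⟨g⁻¹ • o', (smul_inv_smul g o').symm⟩
  obtain ⟨U'', rfl⟩ : ∃ U, o'' = g • U := ⟨g⁻¹ • o'', (smul_inv_smul g o'').symm⟩
  rw [octads_smul_iff hg] at ho' ho''
  rw [apply_mem_smul] at hx' hx''
  rw [inter_card_smul, inter_card_smul] at h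
  obtain ⟨u, hu, e⟩ := octads_complete.conj_key hcl (fixOk_spec hfix) ho' ho'' (fun i _ j _ ei ej => by
    subst ei ej
    rw [card_inter_mask, card_inter_mask] at h
    rw [pt_mem_toSet (by omega)] at hx' hx''
    exact ⟨hx', hx'', h⟩)
  exact ⟨g * u * g⁻¹, mem_M24_conj hg (mem_fixMasks.1 hu).1,
    by rw [conj_apply, fixMasks_point hu (by omega) (by simp)],
    by rw [conj_smul_smul, (mem_fixMasks.1 hu).2 baseOctad (by simp)],
    by rw [conj_smul_smul, e]⟩

end Cfsg.Agent.S1607
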