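import Cfsg.Statements.S1610
import Cfsg.Agent.Lib.Golay.Hexacode

set_option autoImplicit false
open Cfsg CfsgLib.Golay.Hexacode

namespace Cfsg.Agent.S1610

open CfsgLib.Golay.Hexacode in
theorem counts : (∀ a : Fin 4 × Fin 4 × Fin 4, a ≠ (0, 0, 0) →
      (Finset.univ.filter fun i => codeWord a i ≠ 0).card = 4 ∨ (Finset.univ.filter fun i => codeWord a i ≠ 0).card = 6) ∧
    (Finset.univ.filter fun a => (Finset.univ.filter fun i => codeWord a i ≠ 0).card = 4).card = 45 ∧
    (Finset.univ.filter fun a => (Finset.univ.filter fun i => codeWord a i ≠ 0).card = 6).card = 18 := by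
  refine ⟨?_, ?_, ?_⟩ <;> decide +kernel


/-- The hexacode has 64 words, minimum weight 4, and weight distribution 0^1 4^45 6^18. -/
theorem result (F : Type*) [Field F] [Fintype F] [DecidableEq F] (hF : Fintype.card F = 4) (ω : F) (hω : ω ^ 2 + ω + 1 = 0) : Nat.card ↥(Cfsg.hexacode F ω) = 64 ∧ (∀ x ∈ Cfsg.hexacode F ω, x ≠ 0 → (Finset.univ.filter fun i => x i ≠ 0).card = 4 ∨ (Finset.univ.filter fun i => x i ≠ 0).card = 6) ∧ {x : Fin 6 → F | x ∈ Cfsg.hexacode F ω ∧ (Finset.univ.filter fun i => x i ≠ 0).card = 4}.ncard = 45 ∧ {x : Fin 6 → F | x ∈ Cfsg.hexacode F ω ∧ (Finset.univ.filter fun i => x i ≠ 0).card = 6}.ncard = 18 := by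
  have hset : ∀ (P : (Fin 6 → F) → Prop) [DecidablePred P],
      {x : Fin 6 → F | x ∈ hexacode F ω ∧ P x}.ncard = (Finset.univ.filter fun a => P (el ω ∘ codeWord a)).card := by
    intro P _
    rw [← Set.ncard_coe_finset, ← Set.ncard_image_of_injective _ (elWord_injective ω hF hω)]
    congr 1
    ext x
    simp only [Set.mem_ofPred_eq, Finset.coe_filter, Finset.mem_univ, true_and, Set.mem_image, mem_iff ω hF hω]
    constructor
    · rintro ⟨⟨a, rfl⟩, hP⟩; exact ⟨a, hP, rfl⟩
    · rintro ⟨a, hP, rfl⟩; exact ⟨⟨a, rfl⟩, hP⟩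
  have hw : ∀ a, (Finset.univ.filter fun i => (el ω ∘ codeWord a) i ≠ 0).card =
      (Finset.univ.filter fun i => codeWord a i ≠ 0).card := fun a =>
    congrArg Finset.card (Finset.filter_congr fun i _ => el_ne_zero ω hF hω)
  refine ⟨?_, fun x hx hne => ?_, ?_, ?_⟩
  · rw [show Nat.card ↥(hexacode F ω) = Nat.card ↑(Set.range fun a => el ω ∘ codeWord a) from
      Nat.card_congr (Equiv.setCongr (Set.ext fun x => mem_iff ω hF hω)),
      Nat.card_range_of_injective (elWord_injective ω hF hω)]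
    simp
  · obtain ⟨a, rfl⟩ := (mem_iff ω hF hω).1 hx
    rw [hw]
    refine counts.1 a fun h => hne ?_
    subst h
    funext i
    have h0 : ∀ j, codeWord (0, 0, 0) j = 0 := by decide
    simp [h0, el]
  all_goals rw [hset]; simp only [hw]
  · exact counts.2.1
  · exact counts.2.2

end Cfsg.Agent.S1610
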