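import Cfsg.Statements.S1611
import Cfsg.Agent.Lib.Golay.Hexacode

set_option autoImplicit false
open Cfsg

namespace Cfsg.Agent.S1611

open CfsgLib.Golay.Hexacode

/-- The parity checks of the coded hexacode. -/
def isWord (w : Fin 6 → Fin 4) : Bool :=
  w 3 == addT (addT (w 0) (w 1)) (w 2) && w 4 == addT (addT (mulT 3 (w 0)) (mulT 2 (w 1))) (w 2) &&
    w 5 == addT (addT (mulT 2 (w 0)) (mulT 3 (w 1))) (w 2)

theorem isWord_spec : (∀ a, isWord (codeWord a) = true) ∧
    ∀ x y z, ∃ a, codeWord a 0 = x ∧ codeWord a 1 = y ∧ codeWord a 2 = z := by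
  constructor <;> decide +kernel

theorem isWord_iff {w : Fin 6 → Fin 4} : isWord w = true ↔ ∃ a, codeWord a = w := by
  refine ⟨fun h => ?_, fun ⟨a, e⟩ => e ▸ isWord_spec.1 a⟩
  obtain ⟨a, h0, h1, h2⟩ := isWord_spec.2 (w 0) (w 1) (w 2)
  have ha := isWord_spec.1 a
  simp only [isWord, Bool.and_eq_true, beq_iff_eq, h0, h1, h2] at h ha
  refine ⟨a, funext fun i => ?_⟩
  fin_cases i
  exacts [h0, h1, h2, ha.1.1.trans h.1.1.symm, ha.1.2.trans h.1.2.symm, ha.2.trans h.2.symm]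

/-- Whether a coded monomial map preserves the code. -/
def monoOK (τ : Fin 6 → Fin 6) (s : Fin 6 → Fin 3) : Bool :=
  decide (∀ a, isWord (fun i => mulT (s i).succ (codeWord a (τ i))) = true)

/-- Six codes of scalars. -/
def tup (s : Fin 3 × Fin 3 × Fin 3 × Fin 3 × Fin 3 × Fin 3) : Fin 6 → Fin 3 :=
  ![s.1, s.2.1, s.2.2.1, s.2.2.2.1, s.2.2.2.2.1, s.2.2.2.2.2]

theorem diag_check : ∀ s, monoOK id (tup s) = true → ∀ i j, tup s i = tup s j := by decide +kernel

theorem odd_check : ∀ s, monoOK (Equiv.swap 0 1 : Equiv.Perm (Fin 6)) (tup s) = false := by decide +kernel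

theorem even_check : ∀ x y : Fin 6, x ≠ y →
    (∃ s, monoOK (fun i => Equiv.swap (0 : Fin 6) 1 (Equiv.swap x y i)) (tup s) = true) ∧
    (∃ s, monoOK (fun i => Equiv.swap x y (Equiv.swap (0 : Fin 6) 1 i)) (tup s) = true) := by decide +kernel

theorem tup_surj (s : Fin 6 → Fin 3) : ∃ u, tup u = s :=
  ⟨(s 0, s 1, s 2, s 3, s 4, s 5), funext fun i => by fin_cases i <;> rfl⟩

section

variable {F : Type*} [Field F] (ω : F)

/-- Coordinate permutations admitting scalars that preserve the hexacode. -/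
def Lifts (σ : Equiv.Perm (Fin 6)) : Prop :=
  ∃ c : Fin 6 → Fˣ, ∀ x ∈ hexacode F ω, monomialMap σ c x ∈ hexacode F ω

theorem lifts_mul {σ τ : Equiv.Perm (Fin 6)} (hσ : Lifts ω σ) (hτ : Lifts ω τ) : Lifts ω (σ * τ) := by
  obtain ⟨c, hc⟩ := hσ
  obtain ⟨d, hd⟩ := hτ
  refine ⟨fun i => c i * d (σ.symm i), fun x hx => ?_⟩
  have h := hc _ (hd x hx)
  have e : monomialMap (σ * τ) (fun i => c i * d (σ.symm i)) x = monomialMap σ c (monomialMap τ d x) := by
    funext i
    simp only [monomialMap, Units.val_mul, Equiv.Perm.mul_def, Equiv.symm_trans_apply, mul_assoc]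
  rw [e]; exact h

variable [Fintype F] (hF : Fintype.card F = 4) (hω : ω ^ 2 + ω + 1 = 0)
include hF hω

theorem code_iff {σ : Equiv.Perm (Fin 6)} {c : Fin 6 → Fˣ} {s : Fin 6 → Fin 3}
    (hs : ∀ i, el ω (s i).succ = c i) :
    (∀ x ∈ hexacode F ω, monomialMap σ c x ∈ hexacode F ω) ↔ monoOK σ.symm s = true := by
  rw [monoOK, decide_eq_true_eq]
  have e : ∀ a, monomialMap σ c (el ω ∘ codeWord a) =
      el ω ∘ fun i => mulT (s i).succ (codeWord a (σ.symm i)) := by
    intro a; funext i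
    simp only [monomialMap, Function.comp_apply, el_mul ω hF hω, hs]
  constructor
  · intro h a
    obtain ⟨b, hb⟩ := (mem_iff ω hF hω).1 (h _ ((mem_iff ω hF hω).2 ⟨a, rfl⟩))
    rw [e] at hb
    exact isWord_iff.2 ⟨b, funext fun i => el_injective ω hF hω (congrFun hb i)⟩
  · intro h x hx
    obtain ⟨a, rfl⟩ := (mem_iff ω hF hω).1 hx
    obtain ⟨b, hb⟩ := isWord_iff.1 (h a)
    rw [e]
    exact (mem_iff ω hF hω).2 ⟨b, by rw [hb]⟩

theorem exists_code (c : Fin 6 → Fˣ) : ∃ s : Fin 6 → Fin 3, ∀ i, el ω (s i).succ = c i := by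
  have : ∀ i, ∃ k : Fin 3, el ω k.succ = c i := fun i => by
    obtain ⟨a, ha⟩ := (el_bijective ω hF hω).2 (c i)
    have hne : a ≠ 0 := (el_ne_zero ω hF hω).1 (ha ▸ (c i).ne_zero)
    exact ⟨a.pred hne, by rw [Fin.succ_pred]; exact ha⟩
  exact ⟨fun i => (this i).choose, fun i => (this i).choose_spec⟩

theorem lifts_of_ok (σ : Equiv.Perm (Fin 6)) (s : Fin 6 → Fin 3) (h : monoOK σ.symm s = true) : Lifts ω σ :=
  ⟨fun i => Units.mk0 (el ω (s i).succ) ((el_ne_zero ω hF hω).2 (Fin.succ_ne_zero _)),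
    (code_iff ω hF hω fun _ => rfl).2 h⟩

theorem not_lifts_swap : ¬ Lifts ω (Equiv.swap 0 1) := by
  rintro ⟨c, hc⟩
  obtain ⟨s, hs⟩ := exists_code ω hF hω c
  obtain ⟨u, rfl⟩ := tup_surj s
  have := (code_iff ω hF hω hs).1 hc
  rw [Equiv.symm_swap, odd_check] at this
  exact Bool.noConfusion this

theorem lifts_iff (σ : Equiv.Perm (Fin 6)) : Lifts ω σ ↔ Equiv.Perm.sign σ = 1 := by
  set t : Equiv.Perm (Fin 6) := Equiv.swap 0 1 with ht
  have ht2 : t * t = 1 := Equiv.swap_mul_self _ _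
  have hpair : ∀ x y : Fin 6, x ≠ y → Lifts ω (Equiv.swap x y * t) ∧ Lifts ω (t * Equiv.swap x y) := by
    intro x y hxy
    obtain ⟨⟨s, hs⟩, ⟨s', hs'⟩⟩ := even_check x y hxy
    exact ⟨lifts_of_ok ω hF hω _ (tup s) (by rw [← hs]; rfl), lifts_of_ok ω hF hω _ (tup s') (by rw [← hs']; rfl)⟩
  have key : ∀ f : Equiv.Perm (Fin 6),
      (Equiv.Perm.sign f = 1 → Lifts ω f) ∧ (Equiv.Perm.sign f = -1 → Lifts ω (f * t)) := by
    intro f
    induction f using Equiv.Perm.swap_induction_on' with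
    | one =>
      refine ⟨fun _ => ⟨fun _ => 1, fun x hx => ?_⟩, fun h => absurd (h.symm.trans (map_one _)) (by decide)⟩
      have e : monomialMap 1 (fun _ => (1 : Fˣ)) x = x := by
        funext i; show ((1 : Fˣ) : F) * x i = x i; simp
      rw [e]; exact hx
    | mul_swap f x y hxy ih =>
      rw [Equiv.Perm.sign_mul, Equiv.Perm.sign_swap hxy, mul_neg, mul_one]
      constructor
      · intro h
        have h' : Equiv.Perm.sign f = -1 := by rw [← h, neg_neg]
        have e : f * Equiv.swap x y = f * t * (t * Equiv.swap x y) := by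
          rw [mul_assoc, ← mul_assoc t, ht2, one_mul]
        rw [e]; exact lifts_mul ω (ih.2 h') (hpair x y hxy).2
      · intro h
        rw [mul_assoc]
        exact lifts_mul ω (ih.1 (neg_inj.1 h)) (hpair x y hxy).1
  constructor
  · intro h
    rcases Int.units_eq_one_or (Equiv.Perm.sign σ) with e | e
    · exact e
    · exfalso
      have h2 : Lifts ω (σ⁻¹ * t) :=
        (key _).1 (by rw [Equiv.Perm.sign_mul, map_inv, e, ht, Equiv.Perm.sign_swap (by decide)]; rfl)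
      have h3 := lifts_mul ω h h2
      rw [mul_inv_cancel_left] at h3
      exact not_lifts_swap ω hF hω h3
  · exact (key σ).1

theorem diag_const {c : Fin 6 → Fˣ} (h : ∀ x ∈ hexacode F ω, monomialMap 1 c x ∈ hexacode F ω) :
    ∀ i j, c i = c j := by
  obtain ⟨s, hs⟩ := exists_code ω hF hω c
  obtain ⟨u, rfl⟩ := tup_surj s
  intro i j
  have e1 : (⇑((1 : Equiv.Perm (Fin 6)).symm) : Fin 6 → Fin 6) = id := rfl
  have hc := (code_iff ω hF hω hs).1 h
  rw [e1] at hc
  exact Units.ext (by rw [← hs, ← hs, diag_check u hc i j])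

theorem scalar_unique {σ : Equiv.Perm (Fin 6)} {c d : Fin 6 → Fˣ}
    (hc : ∀ x ∈ hexacode F ω, monomialMap σ c x ∈ hexacode F ω)
    (hd : ∀ x ∈ hexacode F ω, monomialMap σ d x ∈ hexacode F ω) : ∃ u : Fˣ, ∀ i, d i = u * c i := by
  have hinj : Function.Injective fun x : ↥(hexacode F ω) => (⟨_, hc x.1 x.2⟩ : ↥(hexacode F ω)) := by
    intro x y hxy
    refine Subtype.ext (funext fun i => ?_)
    have := congrFun (congrArg Subtype.val hxy) (σ i)
    simpa [monomialMap] using this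
  have key := diag_const ω hF hω (c := fun i => d i * (c i)⁻¹) fun x hx => by
    obtain ⟨⟨y, hy⟩, hyx⟩ := (Finite.injective_iff_surjective.1 hinj) ⟨x, hx⟩
    have hyx : monomialMap σ c y = x := congrArg Subtype.val hyx
    have e : monomialMap 1 (fun i => d i * (c i)⁻¹) x = monomialMap σ d y := by
      funext i
      rw [← hyx]
      show ((d i * (c i)⁻¹ : Fˣ) : F) * ((c i : F) * y (σ.symm i)) = (d i : F) * y (σ.symm i)
      rw [Units.val_mul, mul_assoc, Units.inv_mul_cancel_left]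
    rw [e]; exact hd y hy
  exact ⟨d 0 * (c 0)⁻¹, fun i => by rw [← key i 0, inv_mul_cancel_right]⟩

end


/-- The monomial automorphism group of the hexacode has order 1080: its diagonal part is the scalars and its permutation parts form the alternating group of degree 6. -/
theorem result (F : Type*) [Field F] [Fintype F] [DecidableEq F] (hF : Fintype.card F = 4) (ω : F) (hω : ω ^ 2 + ω + 1 = 0) : Nat.card {f : Equiv.Perm (Fin 6) × (Fin 6 → Fˣ) // (∀ x ∈ Cfsg.hexacode F ω, Cfsg.monomialMap f.1 f.2 x ∈ Cfsg.hexacode F ω)} = 1080 ∧ (∀ c : Fin 6 → Fˣ, (∀ x ∈ Cfsg.hexacode F ω, Cfsg.monomialMap 1 c x ∈ Cfsg.hexacode F ω) → ∀ i j, c i = c j) ∧ {σ : Equiv.Perm (Fin 6) | ∃ c : Fin 6 → Fˣ, (∀ x ∈ Cfsg.hexacode F ω, Cfsg.monomialMap σ c x ∈ Cfsg.hexacode F ω)} = (alternatingGroup (Fin 6) : Set (Equiv.Perm (Fin 6))) := by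
  refine ⟨?_, fun c hc => diag_const ω hF hω hc, Set.ext fun σ =>
    ((lifts_iff ω hF hω σ).trans Equiv.Perm.mem_alternatingGroup.symm : _)⟩
  let pick : alternatingGroup (Fin 6) → (Fin 6 → Fˣ) := fun a =>
    ((lifts_iff ω hF hω a.1).2 (Equiv.Perm.mem_alternatingGroup.1 a.2)).choose
  have pick_spec : ∀ a : alternatingGroup (Fin 6), ∀ x ∈ hexacode F ω,
      monomialMap a.1 (pick a) x ∈ hexacode F ω := fun a =>
    ((lifts_iff ω hF hω a.1).2 (Equiv.Perm.mem_alternatingGroup.1 a.2)).choose_spec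
  let G : alternatingGroup (Fin 6) × Fˣ → {f : Equiv.Perm (Fin 6) × (Fin 6 → Fˣ) //
      ∀ x ∈ hexacode F ω, monomialMap f.1 f.2 x ∈ hexacode F ω} := fun a =>
    ⟨(a.1.1, fun i => a.2 * pick a.1 i), fun x hx => by
      have e : monomialMap a.1.1 (fun i => a.2 * pick a.1 i) x = (a.2 : F) • monomialMap a.1.1 (pick a.1) x := by
        funext i; simp [monomialMap, mul_assoc]
      rw [e]; exact Submodule.smul_mem _ _ (pick_spec a.1 x hx)⟩
  have hG : Function.Bijective G := by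
    constructor
    · rintro ⟨a, u⟩ ⟨b, v⟩ h
      have h' := congrArg Subtype.val h
      obtain rfl : a = b := Subtype.ext (congrArg Prod.fst h')
      have h2 : u * pick a 0 = v * pick a 0 := congrFun (congrArg Prod.snd h') 0
      rw [mul_right_cancel h2]
    · rintro ⟨⟨σ, c⟩, hc⟩
      have hσ : σ ∈ alternatingGroup (Fin 6) :=
        Equiv.Perm.mem_alternatingGroup.2 ((lifts_iff ω hF hω σ).1 ⟨c, hc⟩)
      obtain ⟨u, hu⟩ := scalar_unique ω hF hω (pick_spec ⟨σ, hσ⟩) hc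
      exact ⟨(⟨σ, hσ⟩, u), Subtype.ext (Prod.ext rfl (funext fun i => (hu i).symm))⟩
  have hA : Nat.card (alternatingGroup (Fin 6)) = 360 := by
    rw [nat_card_alternatingGroup, Nat.card_eq_fintype_card, Fintype.card_fin]; rfl
  rw [← Nat.card_congr (Equiv.ofBijective G hG), Nat.card_prod, hA, Nat.card_eq_fintype_card, Fintype.card_units, hF]

end Cfsg.Agent.S1611
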