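import Cfsg.Statements.S1614
import Cfsg.Agent.Lib.ThreeTransp.OddCoreLink
import Cfsg.Agent.Lib.ThreeTransp.SolLink.Main
import Cfsg.Agent.Lib.ThreeTransp.SolLink.Ident.Model

set_option autoImplicit false
open Cfsg

namespace Cfsg.Agent.S1614

/-- If the commuting transpositions of one transposition generate a solvable group, a Fischer 3-transposition group is S5, S6, PSU(4, 2) or PSU(5, 2). -/
theorem result {G : Type*} [Group G] [Finite G] (hsol : ∀ N : Subgroup G, N.Normal → Group.IsSolvable ↥N → N = ⊥) (hperf : ⁅commutator G, commutator G⁆ = commutator G) {D : Set G} (hD : Cfsg.IsThreeTranspositionClass D) (x : G) (hx : x ∈ D) (hs : Group.IsSolvable ↥(Subgroup.closure {y : G | y ∈ D ∧ y ≠ x ∧ Commute x y})) : Nonempty (G ≃* Equiv.Perm (Fin 5)) ∨ Nonempty (G ≃* Equiv.Perm (Fin 6)) ∨ ∃ (F : Type) (_ : Field F) (_ : Fintype F), Fintype.card F = 4 ∧ (Nonempty (G ≃* Cfsg.PSU 4 F 2) ∨ Nonempty (G ≃* Cfsg.PSU 5 F 2)) := by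
  classical
  have h := CfsgLib.ThreeTransp.FischerHyp.of_class hsol hperf hD
  by_cases hodd : ∀ y ∈ D, Cfsg.oddCore ↥(Subgroup.closure (CfsgLib.ThreeTransp.link D y)) ≤
      Subgroup.center ↥(Subgroup.closure (CfsgLib.ThreeTransp.link D y))
  · haveI : Nontrivial G := by
      refine ⟨x, 1, fun e => ?_⟩
      have ho := hD.1.1 x hx
      rw [e, orderOf_one] at ho
      exact absurd ho (by norm_num)
    obtain ⟨F, hFld, hFin, hF⟩ : ∃ (F : Type) (_ : Field F) (_ : Fintype F), Fintype.card F = 4 :=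
      ⟨GaloisField 2 2, inferInstance, Fintype.ofFinite _, by
        rw [Fintype.card_eq_nat_card, GaloisField.card 2 2 (by norm_num)]; rfl⟩
    rcases (CfsgLib.ThreeTransp.SolLink.SolLinks.of_hyp h hx hs hodd).exists_rel hx with
      ⟨e, he, ht⟩ | ⟨e, he, ht⟩ | ⟨e, he, ht⟩
    · exact Or.inr (Or.inr ⟨F, hFld, hFin, hF, Or.inr (CfsgLib.ThreeTransp.SolLink.five_iso he ht F hF)⟩)
    · exact Or.inr (Or.inr ⟨F, hFld, hFin, hF, Or.inl (CfsgLib.ThreeTransp.SolLink.four_iso he ht F hF)⟩)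
    · exact Or.inr (Or.inl (CfsgLib.ThreeTransp.SolLink.six_iso hsol he ht))
  · push Not at hodd
    obtain ⟨y, hy, hy'⟩ := hodd
    exact Or.inl (CfsgLib.ThreeTransp.OddCoreLink.iso_perm_five h hD.1 hy hy')

end Cfsg.Agent.S1614
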