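import Cfsg.Statements.S1617
import Cfsg.Agent.Lib.PTransp.Main
import Cfsg.Agent.Lib.Invol.BaerSuzuki

set_option autoImplicit false
open Cfsg

namespace Cfsg.Agent.S1617

/-- A generating conjugacy class of involutions on which the group (with trivial solvable radical) acts with rank 3 is a class of 3-transpositions. -/
theorem result {G : Type*} [Group G] [Finite G] (hsol : ∀ N : Subgroup G, N.Normal → Group.IsSolvable ↥N → N = ⊥) {D : Set G} (hinv : ∀ d ∈ D, orderOf d = 2) (hconj : ∃ d ∈ D, D = conjugatesOf d) (hgen : Subgroup.closure D = ⊤) (hrank : ∀ x ∈ D, ∃ y ∈ D, ∃ z ∈ D, {w : G | ∃ g : G, Commute g x ∧ g * y * g⁻¹ = w} ≠ {w : G | ∃ g : G, Commute g x ∧ g * x * g⁻¹ = w} ∧ {w : G | ∃ g : G, Commute g x ∧ g * z * g⁻¹ = w} ≠ {w : G | ∃ g : G, Commute g x ∧ g * x * g⁻¹ = w} ∧ {w : G | ∃ g : G, Commute g x ∧ g * y * g⁻¹ = w} ≠ {w : G | ∃ g : G, Commute g x ∧ g * z * g⁻¹ = w} ∧ D = {w : G | ∃ g : G, Commute g x ∧ g * x * g⁻¹ = w} ∪ {w : G | ∃ g : G, Commute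 g x ∧ g * y * g⁻¹ = w} ∪ {w : G | ∃ g : G, Commute g x ∧ g * z * g⁻¹ = w}) : Cfsg.IsThreeTranspositionClass D := by
  classical
  obtain ⟨d0, hd0, hD⟩ := hconj
  have hcl : ∀ g : G, ∀ d ∈ D, g * d * g⁻¹ ∈ D := fun g d hd => by
    rw [hD] at hd ⊢
    exact IsConj.trans hd (isConj_iff.2 ⟨g, rfl⟩)
  have htrans : ∀ a ∈ D, ∀ b ∈ D, ∃ g : G, g * a * g⁻¹ = b := fun a ha b hb => by
    rw [hD] at ha hb
    exact isConj_iff.1 ((IsConj.symm ha).trans hb)
  have hsq : ∀ d ∈ D, d * d = 1 := fun d hd => by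
    have := pow_orderOf_eq_one d
    rwa [hinv d hd, pow_two] at this
  have hne1 : ∀ d ∈ D, d ≠ 1 := fun d hd h => by
    have := hinv d hd
    rw [h, orderOf_one] at this
    omega
  have hZ : Subgroup.center G = ⊥ := hsol _ inferInstance (Group.isSolvable_of_comm fun a b =>
    Subtype.ext (Subgroup.mem_center_iff.1 b.2 a))
  set x := d0 with hx0
  have hcomm : ∀ a b : G, a ∈ D → b ∈ D → (Commute a b ↔ (a * b) ^ 2 = 1) := fun a b ha hb => by
    constructor
    · intro h; rw [h.mul_pow, pow_two, pow_two, hsq a ha, hsq b hb, one_mul]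
    · intro h
      rw [pow_two] at h
      have q := eq_inv_of_mul_eq_one_left h
      rw [mul_inv_rev, inv_eq_of_mul_eq_one_right (hsq a ha), inv_eq_of_mul_eq_one_right (hsq b hb)] at q
      exact q
  -- noncommuting members form one orbit of the centralizer
  obtain ⟨y, hy, z, hz, hyx, hzx, -, hun⟩ := hrank x hd0
  have hself : {w : G | ∃ g : G, Commute g x ∧ g * x * g⁻¹ = w} = {x} := by
    ext w
    constructor
    · rintro ⟨g, hg, rfl⟩; rw [Set.mem_singleton_iff, hg.eq, mul_inv_cancel_right]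
    · intro hw
      exact ⟨1, Commute.one_left x, by simpa using hw.symm⟩
  have hnex : ∀ {v : G}, {w : G | ∃ g : G, Commute g x ∧ g * v * g⁻¹ = w} ≠
      {w : G | ∃ g : G, Commute g x ∧ g * x * g⁻¹ = w} → v ≠ x := fun h e => h (by rw [e])
  have hconjx : ∀ {g : G} (v : G), Commute g x → (Commute x (g * v * g⁻¹) ↔ Commute x v) := by
    intro g v hg
    have e : g * x * g⁻¹ = x := by rw [hg.eq, mul_inv_cancel_right]
    constructor
    · intro h
      have h' : Commute (g * x * g⁻¹) (g * v * g⁻¹) := by rwa [e]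
      show x * v = v * x
      have q := congrArg (fun t => g⁻¹ * t * g) h'.eq
      simpa [mul_assoc] using q
    · intro h
      have h' : Commute (g * x * g⁻¹) (g * v * g⁻¹) := by
        show _ = _
        calc g * x * g⁻¹ * (g * v * g⁻¹) = g * (x * v) * g⁻¹ := by group
          _ = g * (v * x) * g⁻¹ := by rw [h.eq]
          _ = _ := by group
      rwa [e] at h'
  have hcases : ∀ w ∈ D, w = x ∨ (∃ g : G, Commute g x ∧ g * y * g⁻¹ = w) ∨
      ∃ g : G, Commute g x ∧ g * z * g⁻¹ = w := by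
    intro w hw
    rw [hun, hself] at hw
    rcases hw with (h | h) | h
    exacts [Or.inl h, Or.inr (Or.inl h), Or.inr (Or.inr h)]
  have hsome : ∃ w ∈ D, w ≠ x ∧ Commute x w := by
    by_contra hno
    push Not at hno
    refine CfsgLib.PTransp.not_isolated hsol (x := x) ⟨hinv x hd0, fun g hc => ?_⟩
    by_contra hne
    exact hno _ (hcl g x hd0) hne hc
  have hnotall : ∃ w ∈ D, ¬Commute x w := by
    by_contra hall
    push Not at hall
    refine hne1 x hd0 ?_
    have : x ∈ Subgroup.center G := by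
      rw [Subgroup.mem_center_iff]
      intro g
      have hle : Subgroup.closure D ≤ Subgroup.centralizer {x} :=
        (Subgroup.closure_le _).2 fun w hw => Subgroup.mem_centralizer_singleton_iff.2 (hall w hw).eq.symm
      rw [hgen] at hle
      exact Subgroup.mem_centralizer_singleton_iff.1 (hle (Subgroup.mem_top g))
    rwa [hZ, Subgroup.mem_bot] at this
  obtain ⟨u, hu⟩ : ∃ u : G, ∀ w ∈ D, ¬Commute x w → ∃ g : G, Commute g x ∧ g * u * g⁻¹ = w := by
    obtain ⟨w, hw, hwx, hwc⟩ := hsome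
    rcases hcases w hw with h | ⟨g, hg, e⟩ | ⟨g, hg, e⟩
    · exact absurd h hwx
    · refine ⟨z, fun v hv hvc => ?_⟩
      rcases hcases v hv with h | ⟨k, hk, f⟩ | h
      · exact absurd (h ▸ Commute.refl x) hvc
      · exact absurd (f ▸ (hconjx y hk).2 ((hconjx y hg).1 (e ▸ hwc))) hvc
      · exact h
    · refine ⟨y, fun v hv hvc => ?_⟩
      rcases hcases v hv with h | h | ⟨k, hk, f⟩
      · exact absurd (h ▸ Commute.refl x) hvc
      · exact h
      · exact absurd (f ▸ (hconjx z hk).2 ((hconjx z hg).1 (e ▸ hwc))) hvc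
  set m := orderOf (x * u) with hm
  have horder : ∀ w ∈ D, ¬Commute x w → orderOf (x * w) = m := by
    intro w hw hwc
    obtain ⟨g, hg, rfl⟩ := hu w hw hwc
    have q : x * (g * u * g⁻¹) = g * (x * u) * g⁻¹ := by
      rw [← mul_assoc g x u, hg.eq]; simp [mul_assoc]
    rw [q, hm]
    exact orderOf_eq_orderOf_iff.2 fun n => by rw [conj_pow, conj_eq_one_iff]
  -- the common order is an odd prime
  obtain ⟨h, h1, hodd, hih⟩ := CfsgLib.Invol.exists_inverted_odd x (hinv x hd0) fun N hN hNp hmem => by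
    haveI := Fact.mk Nat.prime_two
    haveI := hNp.isNilpotent
    have := hsol N hN inferInstance
    rw [this, Subgroup.mem_bot] at hmem
    exact hne1 x hd0 hmem
  set d := h * x * h⁻¹ with hd
  have hdD : d ∈ D := hcl h x hd0
  have hxd : x * d = (h ^ 2)⁻¹ := by
    rw [inv_eq_of_mul_eq_one_right (hsq x hd0)] at hih
    calc x * d = (x * h * x) * h⁻¹ := by rw [hd]; simp [mul_assoc]
      _ = (h ^ 2)⁻¹ := by rw [hih, pow_two, mul_inv_rev]
  have hord : orderOf (x * d) = orderOf h := by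
    rw [hxd, orderOf_inv, orderOf_pow' _ two_ne_zero, Nat.Coprime.gcd_eq_one, Nat.div_one]
    exact Nat.coprime_two_right.2 hodd
  have hoh : orderOf h ≠ 1 := fun e => h1 (orderOf_eq_one_iff.1 e)
  have hnc : ¬Commute x d := fun hc => by
    have h2 := Nat.le_of_dvd two_pos (orderOf_dvd_of_pow_eq_one ((hcomm x d hd0 hdD).1 hc))
    rw [hord] at h2
    have := orderOf_pos h
    interval_cases hh : orderOf h
    · exact hoh rfl
    · exact (by decide : ¬Odd 2) hodd
  have hmd : orderOf (x * d) = m := horder d hdD hnc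
  have hmodd : Odd m := by rw [← hmd, hord]; exact hodd
  have hm1 : m ≠ 1 := by rw [← hmd, hord]; exact hoh
  have hprime : m.Prime := by
    have hq : (m.minFac).Prime := Nat.minFac_prime hm1
    obtain ⟨a, ha⟩ := Nat.minFac_dvd m
    obtain ⟨j, hj⟩ := id hmodd
    set w := x * (x * d) ^ (2 * ((a * (j + 1) : ℕ) : ℤ)) with hw
    have hwD : w ∈ D := by
      have q := hcl ((x * d) ^ (-((a * (j + 1) : ℕ) : ℤ))) x hd0
      rwa [CfsgLib.Invol.conj_zpow_self (hinv x hd0) (hinv d hdD),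
        show -2 * -((a * (j + 1) : ℕ) : ℤ) = 2 * ((a * (j + 1) : ℕ) : ℤ) by ring] at q
    have hxw : x * w = (x * d) ^ a := by
      rw [hw, ← mul_assoc, hsq x hd0, one_mul,
        show (2 : ℤ) * ((a * (j + 1) : ℕ) : ℤ) = ((a + (2 * j + 1) * a : ℕ) : ℤ) by push_cast; ring,
        zpow_natCast, pow_add, pow_mul, ← hj, ← hmd, pow_orderOf_eq_one, one_pow, mul_one]
    have hm0 : m ≠ 0 := by rw [← hmd]; exact (orderOf_pos _).ne'
    have ha0 : a ≠ 0 := fun e => hm0 (by rw [ha, e, mul_zero])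
    have hwq : orderOf (x * w) = m.minFac := by
      rw [hxw, orderOf_pow_of_dvd ha0 (hmd.symm ▸ Dvd.intro_left _ ha.symm), hmd]
      nth_rw 1 [ha]
      exact Nat.mul_div_cancel _ (Nat.pos_of_ne_zero ha0)
    have hwc : ¬Commute x w := fun hc => by
      have h2 := Nat.le_of_dvd two_pos (orderOf_dvd_of_pow_eq_one ((hcomm x w hd0 hwD).1 hc))
      rw [hwq] at h2
      have h2' : m.minFac = 2 := le_antisymm h2 hq.two_le
      have : 2 ∣ m := h2' ▸ Nat.minFac_dvd m
      rw [hj] at this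
      omega
    rw [← horder w hwD hwc, hwq]
    exact hq
  have hall : ∀ a ∈ D, ∀ b ∈ D, (a * b) ^ 2 = 1 ∨ (a * b) ^ m = 1 := by
    intro a ha b hb
    obtain ⟨g, rfl⟩ := htrans x hd0 a ha
    by_cases hc : Commute x (g⁻¹ * b * g)
    · left
      have hb' : g⁻¹ * b * g ∈ D := by simpa using hcl g⁻¹ b hb
      have q : g * x * g⁻¹ * b = g * (x * (g⁻¹ * b * g)) * g⁻¹ := by group
      rw [q, conj_pow, (hcomm x _ hd0 hb').1 hc]
      simp
    · right
      have hb' : g⁻¹ * b * g ∈ D := by simpa using hcl g⁻¹ b hb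
      have q : g * x * g⁻¹ * b = g * (x * (g⁻¹ * b * g)) * g⁻¹ := by group
      rw [q, conj_pow, ← horder _ hb' hc, pow_orderOf_eq_one]
      simp
  refine ⟨⟨hinv, ?_⟩, ⟨d0, hd0, hD⟩, hgen⟩
  by_contra hno
  have h5 : 5 ≤ m := by
    by_contra h5
    have h3 : m = 3 := by
      have := hprime.two_le
      obtain ⟨j, hj⟩ := hmodd
      omega
    exact hno (h3 ▸ hall)
  have hpt : CfsgLib.PTransp.IsPT m D := ⟨hinv, hcl, hall⟩
  haveI := CfsgLib.PTransp.isSolvable_of_pt hprime h5 _ G rfl D hpt hgen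
  have htop := hsol ⊤ inferInstance inferInstance
  have := Subgroup.mem_bot.1 (htop ▸ Subgroup.mem_top x)
  exact hne1 x hd0 this

end Cfsg.Agent.S1617
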