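import Cfsg.Statements.S1628
import Cfsg.Agent.Lib.RuEvenData

set_option autoImplicit false
open Cfsg Cfsg.Spor

namespace Cfsg.Agent.S1628

open CfsgLib.RuEven

/-! ## The lattice as integer vectors of length 56 -/

/-- Real and imaginary parts in the order (component, coefficient, part). -/
def cvec (v : RuVec) : Fin 56 → ℤ := fun i =>
  let z := v (⟨i.1 / 8, by omega⟩, ⟨i.1 / 2 % 4, by omega⟩)
  if i.1 % 2 = 0 then z.re else z.im

/-- Inverse of `cvec`. -/
def dvec (g : Fin 56 → ℤ) : RuVec := fun p =>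
  ⟨g ⟨8 * p.1.1 + 2 * p.2.1, by omega⟩, g ⟨8 * p.1.1 + 2 * p.2.1 + 1, by omega⟩⟩

theorem cvec_dvec (g : Fin 56 → ℤ) : cvec (dvec g) = g := by
  funext i
  rcases Nat.mod_two_eq_zero_or_one i.1 with h | h
  · simp only [cvec, dvec, h, if_true]
    exact congrArg g (Fin.ext (by simp; omega))
  · simp only [cvec, dvec, h, one_ne_zero, if_false]
    exact congrArg g (Fin.ext (by simp; omega))

theorem dvec_cvec (v : RuVec) : dvec (cvec v) = v := by
  funext p
  have h1 : ∀ h : (8 * p.1.1 + 2 * p.2.1) / 8 < 7, (⟨_, h⟩ : Fin 7) = p.1 := fun h => Fin.ext (by simp; omega)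
  have h2 : ∀ h : (8 * p.1.1 + 2 * p.2.1) / 2 % 4 < 4, (⟨_, h⟩ : Fin 4) = p.2 := fun h => Fin.ext (by simp; omega)
  have h3 : ∀ h : (8 * p.1.1 + 2 * p.2.1 + 1) / 8 < 7, (⟨_, h⟩ : Fin 7) = p.1 := fun h => Fin.ext (by simp; omega)
  have h4 : ∀ h : (8 * p.1.1 + 2 * p.2.1 + 1) / 2 % 4 < 4, (⟨_, h⟩ : Fin 4) = p.2 := fun h => Fin.ext (by simp; omega)
  have e1 : (8 * p.1.1 + 2 * p.2.1) % 2 = 0 := by omega
  have e2 : (8 * p.1.1 + 2 * p.2.1 + 1) % 2 = 1 := by omega
  simp only [dvec, cvec, e1, e2, h1, h2, h3, h4, if_true, one_ne_zero, if_false, Prod.mk.eta]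

theorem cvec_add (u v : RuVec) : cvec (u + v) = cvec u + cvec v := by
  funext i; simp only [cvec, Pi.add_apply]; split_ifs <;> simp

theorem cvec_zero : cvec 0 = 0 := by
  funext i; simp [cvec]

theorem cvec_neg (u : RuVec) : cvec (-u) = -cvec u := by
  funext i; simp only [cvec, Pi.neg_apply]; split_ifs <;> simp

/-- List form of a vector. -/
def lv (g : Fin 56 → ℤ) : List ℤ := List.ofFn g

theorem lv_inj {g h : Fin 56 → ℤ} (e : lv g = lv h) : g = h := List.ofFn_injective e

/-- A list as a vector. -/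
def bvec (b : List ℤ) : Fin 56 → ℤ := fun i => b.getD i.1 0

/-- Inner product. -/
def dot (g h : Fin 56 → ℤ) : ℤ := ∑ i, g i * h i

/-- Inner product of lists. -/
def dotL (u v : List ℤ) : ℤ := (List.zipWith (· * ·) u v).sum

theorem zipWith_lv {β : Type} (f : ℤ → ℤ → β) (g h : Fin 56 → ℤ) :
    List.zipWith f (lv g) (lv h) = List.ofFn fun i => f (g i) (h i) :=
  List.ext_getElem (by simp [lv]) fun i h1 h2 => by simp [lv]

theorem dotL_lv (g h : Fin 56 → ℤ) : dotL (lv g) (lv h) = dot g h := by
  rw [dotL, zipWith_lv]; exact List.sum_ofFn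

theorem dot_add_left (a b c : Fin 56 → ℤ) : dot (a + b) c = dot a c + dot b c := by
  simp [dot, add_mul, Finset.sum_add_distrib]

theorem dot_neg_left (a c : Fin 56 → ℤ) : dot (-a) c = -dot a c := by
  simp [dot]

theorem dot_zero_left (c : Fin 56 → ℤ) : dot 0 c = 0 := by simp [dot]

theorem dot_comm (a b : Fin 56 → ℤ) : dot a b = dot b a := Finset.sum_congr rfl fun i _ => mul_comm _ _

theorem ruNorm_eq (v : RuVec) : ruNorm v = dot (cvec v) (cvec v) := by
  let e : Fin 56 ≃ RuIdx × Fin 2 :=
    { toFun := fun i => ((⟨i.1 / 8, by omega⟩, ⟨i.1 / 2 % 4, by omega⟩), ⟨i.1 % 2, by omega⟩)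
      invFun := fun p => ⟨8 * p.1.1.1 + 2 * p.1.2.1 + p.2.1, by omega⟩
      left_inv := fun i => Fin.ext (by simp; omega)
      right_inv := fun p => by
        refine Prod.ext (Prod.ext ?_ ?_) ?_ <;> apply Fin.ext <;> simp <;> omega }
  rw [ruNorm, dot, ← e.symm.sum_comp (fun i => cvec v i * cvec v i)]
  rw [Fintype.sum_prod_type (f := fun i => cvec v (e.symm i) * cvec v (e.symm i))]
  refine Finset.sum_congr rfl fun p _ => ?_
  rw [Fin.sum_univ_two, Zsqrtd.norm_def]
  have h0 : cvec v (e.symm (p, 0)) = (v p).re := by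
    conv_rhs => rw [← dvec_cvec v]
    rfl
  have h1 : cvec v (e.symm (p, 1)) = (v p).im := by
    conv_rhs => rw [← dvec_cvec v]
    rfl
  rw [h0, h1]
  ring

/-! ## The span of the stored basis -/

/-- The rows. -/
def rowB (k : ℕ) : List ℤ := basis.getD k (List.replicate 56 0)

theorem rowB_ok : ∀ k < 56, lv (bvec (rowB k)) = rowB k := by decide +kernel

theorem rowB_big : lv (bvec (List.replicate 56 0)) = List.replicate 56 0 := by decide +kernel

theorem basis_len : basis.length = 56 := by decide +kernel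

theorem rowB_lv (k : ℕ) : lv (bvec (rowB k)) = rowB k := by
  rcases Nat.lt_or_ge k 56 with h | h
  · exact rowB_ok k h
  · rw [rowB, List.getD_eq_default _ _ (by rw [basis_len]; exact h)]; exact rowB_big

/-- The span of the basis. -/
def span : AddSubgroup RuVec := AddSubgroup.closure (Set.range fun k : ℕ => dvec (bvec (rowB k)))

/-- An integer combination of rows. -/
def comb : List (ℕ × ℤ) → List ℤ
  | [] => List.replicate 56 0
  | (k, q) :: t => List.zipWith (fun a b => a + q * b) (comb t) (rowB k)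

theorem comb_mem : ∀ c : List (ℕ × ℤ), ∃ x ∈ span, lv (cvec x) = comb c
  | [] => ⟨0, span.zero_mem, by rw [cvec_zero]; rfl⟩
  | (k, q) :: t => by
    obtain ⟨x, hx, he⟩ := comb_mem t
    refine ⟨x + q • dvec (bvec (rowB k)), span.add_mem hx (span.zsmul_mem (AddSubgroup.subset_closure ⟨k, rfl⟩) q), ?_⟩
    rw [comb, ← he, ← rowB_lv k, zipWith_lv, lv, rowB_lv k]
    congr 1
    funext i
    have hq : cvec (q • dvec (bvec (rowB k))) = q • bvec (rowB k) := by
      have h := map_zsmul (AddMonoidHom.mk' cvec cvec_add) q (dvec (bvec (rowB k)))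
      simp only [AddMonoidHom.mk'_apply, cvec_dvec] at h
      exact h
    rw [cvec_add, hq]; simp

theorem mem_span_of_comb {x : RuVec} {c : List (ℕ × ℤ)} (h : lv (cvec x) = comb c) : x ∈ span := by
  obtain ⟨y, hy, he⟩ := comb_mem c
  rw [← dvec_cvec x, lv_inj (h.trans he.symm), dvec_cvec]
  exact hy

theorem table_ok : (ruTable.map fun v => lv (cvec v)) = certTable.map comb := by decide +kernel

theorem opI_ok : (List.range 56).map (fun k => lv (cvec (gI • dvec (bvec (rowB k))))) = certI.map comb := by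
  decide +kernel
theorem opJ_ok : (List.range 56).map (fun k => lv (cvec (ruRj (dvec (bvec (rowB k)))))) = certJ.map comb := by
  decide +kernel
theorem opK_ok : (List.range 56).map (fun k => lv (cvec (ruRk (dvec (bvec (rowB k)))))) = certK.map comb := by
  decide +kernel
theorem opS_ok : (List.range 56).map (fun k => lv (cvec (ruSign (dvec (bvec (rowB k)))))) = certS.map comb := by
  decide +kernel
theorem opT_ok : (List.range 56).map (fun k => lv (cvec (ruShift (dvec (bvec (rowB k)))))) = certT.map comb := by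
  decide +kernel

theorem mem_of_map_eq {α : Type} (f : α → RuVec) (l : List α) (c : List (List (ℕ × ℤ)))
    (h : l.map (fun a => lv (cvec (f a))) = c.map comb) {a : α} (ha : a ∈ l) : f a ∈ span := by
  have h1 : lv (cvec (f a)) ∈ c.map comb := h ▸ List.mem_map_of_mem ha
  obtain ⟨t, -, ht⟩ := List.mem_map.1 h1
  exact mem_span_of_comb ht.symm

theorem span_op (φ : RuVec → RuVec) (hadd : ∀ u v, φ (u + v) = φ u + φ v) (c : List (List (ℕ × ℤ)))
    (h : (List.range 56).map (fun k => lv (cvec (φ (dvec (bvec (rowB k)))))) = c.map comb) :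
    ∀ v ∈ span, φ v ∈ span := by
  intro v hv
  refine (AddSubgroup.closure_le (span.comap (AddMonoidHom.mk' φ hadd))).2 ?_ hv
  rintro _ ⟨k, rfl⟩
  rcases Nat.lt_or_ge k 56 with hk | hk
  · exact mem_of_map_eq _ _ c h (List.mem_range.2 hk)
  · show φ (dvec (bvec (rowB k))) ∈ span
    have h0 : dvec (bvec (rowB k)) = 0 := by
      rw [rowB, List.getD_eq_default _ _ (by rw [basis_len]; exact hk)]
      funext p
      have hz : bvec (List.replicate 56 0) = 0 := lv_inj (by decide +kernel)
      rw [hz]; rfl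
    rw [h0, show φ 0 = 0 from (AddMonoidHom.mk' φ hadd).map_zero]
    exact span.zero_mem

theorem lattice_le : ruLattice ≤ span := by
  refine sInf_le ⟨fun v hv => mem_of_map_eq id ruTable certTable table_ok hv, fun v hv => ⟨?_, ?_, ?_, ?_, ?_⟩⟩
  · exact span_op (fun w => gI • w) (fun u w => smul_add gI u w) _ opI_ok v hv
  · refine span_op ruRj (fun u w => ?_) _ opJ_ok v hv
    funext p; obtain ⟨n, t⟩ := p
    fin_cases t <;> simp [ruRj, mul_add, add_comm]
  · refine span_op ruRk (fun u w => ?_) _ opK_ok v hv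
    funext p; obtain ⟨n, t⟩ := p
    fin_cases t <;> simp [ruRk, mul_add, add_comm]
  · refine span_op ruSign (fun u w => ?_) _ opS_ok v hv
    funext p; simp only [ruSign, Pi.add_apply]; split_ifs <;> simp [add_comm]
  · exact span_op ruShift (fun u w => rfl) _ opT_ok v hv

/-! ## Integrality -/

theorem gram_ok : ∀ a ∈ basis, dotL a a % 8 = 0 ∧ ∀ b ∈ basis, dotL a b % 4 = 0 := by decide +kernel

theorem gram (j k : ℕ) : dot (bvec (rowB j)) (bvec (rowB k)) % 4 = 0 ∧ dot (bvec (rowB j)) (bvec (rowB j)) % 8 = 0 := by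
  rw [← dotL_lv, ← dotL_lv, rowB_lv, rowB_lv]
  have h0 : ∀ l : List ℤ, dotL (List.replicate 56 0) l = 0 ∧ dotL l (List.replicate 56 0) = 0 := by
    have : ∀ (m : ℕ) (l : List ℤ), dotL (List.replicate m 0) l = 0 ∧ dotL l (List.replicate m 0) = 0 := by
      intro m
      induction m with
      | zero => intro l; cases l <;> simp [dotL]
      | succ m ih =>
        intro l
        cases l with
        | nil => simp [dotL]
        | cons a l => simpa [dotL, List.replicate_succ] using ih l
    exact this 56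
  have hmem : ∀ i, rowB i ∈ basis ∨ rowB i = List.replicate 56 0 := fun i => by
    rcases Nat.lt_or_ge i 56 with h | h
    · left; rw [rowB, List.getD_eq_getElem _ _ (by rw [basis_len]; exact h)]; exact List.getElem_mem _
    · right; rw [rowB, List.getD_eq_default _ _ (by rw [basis_len]; exact h)]
  rcases hmem j with hj | hj
  · rcases hmem k with hk | hk
    · exact ⟨(gram_ok _ hj).2 _ hk, (gram_ok _ hj).1⟩
    · exact ⟨by rw [hk, (h0 _).2]; rfl, (gram_ok _ hj).1⟩
  · rw [hj, (h0 _).1, (h0 _).1]; exact ⟨rfl, rfl⟩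

theorem dot_span {x y : RuVec} (hx : x ∈ span) (hy : y ∈ span) : (4 : ℤ) ∣ dot (cvec x) (cvec y) := by
  induction hx using AddSubgroup.closure_induction with
  | mem a ha =>
    obtain ⟨j, rfl⟩ := ha
    induction hy using AddSubgroup.closure_induction with
    | mem b hb =>
      obtain ⟨k, rfl⟩ := hb
      rw [cvec_dvec, cvec_dvec]
      exact Int.dvd_of_emod_eq_zero (gram j k).1
    | zero => rw [cvec_zero, dot_comm, dot_zero_left]; exact dvd_zero _
    | add b c _ _ hb hc => rw [cvec_add, dot_comm, dot_add_left, dot_comm, dot_comm (cvec c)]; exact dvd_add hb hc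
    | neg b _ hb => rw [cvec_neg, dot_comm, dot_neg_left, dot_comm]; exact hb.neg_right
  | zero => rw [cvec_zero, dot_zero_left]; exact dvd_zero _
  | add a b _ _ ha hb => rw [cvec_add, dot_add_left]; exact dvd_add ha hb
  | neg a _ ha => rw [cvec_neg, dot_neg_left]; exact ha.neg_right

theorem norm_span {x : RuVec} (hx : x ∈ span) : (8 : ℤ) ∣ dot (cvec x) (cvec x) := by
  induction hx using AddSubgroup.closure_induction with
  | mem a ha =>
    obtain ⟨j, rfl⟩ := ha
    rw [cvec_dvec]
    exact Int.dvd_of_emod_eq_zero (gram j j).2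
  | zero => rw [cvec_zero, dot_zero_left]; exact dvd_zero _
  | add a b ha hb h1 h2 =>
    obtain ⟨m, hm⟩ := dot_span ha hb
    rw [cvec_add, dot_add_left, dot_comm _ (cvec a + cvec b), dot_comm _ (cvec a + cvec b), dot_add_left,
      dot_add_left, dot_comm (cvec b) (cvec a)]
    rw [show dot (cvec a) (cvec a) + dot (cvec a) (cvec b) + (dot (cvec a) (cvec b) + dot (cvec b) (cvec b)) =
      dot (cvec a) (cvec a) + dot (cvec b) (cvec b) + 8 * m by rw [hm]; ring]
    exact dvd_add (dvd_add h1 h2) (dvd_mul_right _ _)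
  | neg a _ ha => rw [cvec_neg, dot_neg_left, dot_comm, dot_neg_left, neg_neg]; exact ha

/-! ## The binary code of the lattice -/

/-- Parity of an integer. -/
def par (a : ℤ) : Bool := decide (a % 2 ≠ 0)

theorem par_add (a b : ℤ) : par (a + b) = (par a ^^ par b) := by
  unfold par
  rcases Int.emod_two_eq a with ha | ha <;> rcases Int.emod_two_eq b with hb | hb <;>
    simp [Int.add_emod, ha, hb]

/-- The code word read off from information functionals. -/
def word (g : Fin 56 → ℤ) : List (ℕ × List ℤ) → ℕ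
  | [] => 0
  | r :: t => (if par (dot g (bvec r.2)) then r.1 else 0) ^^^ word g t

/-- The span of code rows. -/
def spanL : List (ℕ × List ℤ) → List ℕ
  | [] => [0]
  | r :: t => spanL t ++ (spanL t).map (r.1 ^^^ ·)

theorem word_mem (g : Fin 56 → ℤ) : ∀ R, word g R ∈ spanL R
  | [] => by simp [word, spanL]
  | r :: t => by
    have h := word_mem g t
    simp only [word, spanL, List.mem_append, List.mem_map]
    by_cases hp : par (dot g (bvec r.2))
    · right; exact ⟨_, h, by simp [hp]⟩
    · left; simpa [hp] using h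

/-- The test vector of a coordinate. -/
def testVec (k : Fin 56) : List (ℕ × List ℤ) → List ℤ
  | [] => lv fun i => if i = k then 1 else 0
  | r :: t => if r.1.testBit k.1 then List.zipWith (· + ·) r.2 (testVec k t) else testVec k t

theorem testVec_spec (g : Fin 56 → ℤ) (k : Fin 56) : ∀ R : List (ℕ × List ℤ),
    (∀ r ∈ R, lv (bvec r.2) = r.2) →
    ∃ y, lv y = testVec k R ∧ par (dot g y) = (par (g k) ^^ (word g R).testBit k.1)
  | [], _ => ⟨_, rfl, by simp [dot, word]⟩
  | r :: t, hR => by
    obtain ⟨y, hy, hp⟩ := testVec_spec g k t fun s hs => hR s (List.mem_cons_of_mem _ hs)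
    simp only [testVec, word, Nat.testBit_xor]
    by_cases hb : r.1.testBit k.1
    · refine ⟨bvec r.2 + y, ?_, ?_⟩
      · rw [if_pos hb, ← hy, ← hR r List.mem_cons_self, zipWith_lv, lv, hR r List.mem_cons_self]
        rfl
      · rw [dot_comm, dot_add_left, par_add, dot_comm y, hp, dot_comm (bvec r.2)]
        by_cases hd : par (dot g (bvec r.2)) <;> simp [hd, hb]
    · refine ⟨y, by rw [if_neg hb, hy], ?_⟩
      rw [hp]
      by_cases hd : par (dot g (bvec r.2)) <;> simp [hd, hb]

/-- All rows. -/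
def allRows : List (ℕ × List ℤ) := parityRows ++ pairRows

theorem allRows_len : ∀ r ∈ allRows, lv (bvec r.2) = r.2 := by decide +kernel

theorem test_ok : ((List.finRange 56).map fun k => (testVec k allRows).map (2 * ·)) = certTest.map comb := by
  decide +kernel

theorem code {x : RuVec} (hx : x ∈ span) (k : Fin 56) : (word (cvec x) allRows).testBit k.1 = par (cvec x k) := by
  obtain ⟨y, hy, hp⟩ := testVec_spec (cvec x) k allRows allRows_len
  have h1 : (testVec k allRows).map (2 * ·) ∈ certTest.map comb :=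
    test_ok ▸ List.mem_map_of_mem (f := fun k => (testVec k allRows).map (2 * ·)) (List.mem_finRange k)
  obtain ⟨c, -, hc⟩ := List.mem_map.1 h1
  obtain ⟨z, hz, hze⟩ := comb_mem c
  have hzy : cvec z = fun i => 2 * y i := by
    apply lv_inj
    rw [hze, hc, ← hy, lv, List.map_ofFn]
    rfl
  have h2 := dot_span hx hz
  rw [hzy, show dot (cvec x) (fun i => 2 * y i) = 2 * dot (cvec x) y by
    simp only [dot, Finset.mul_sum]; exact Finset.sum_congr rfl fun i _ => by ring] at h2
  have h3 : par (dot (cvec x) y) = false := by simp only [par, decide_eq_false_iff_not, not_not]; omega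
  rw [h3] at hp
  revert hp
  cases par (cvec x k) <;> cases (word (cvec x) allRows).testBit k.1 <;> simp

theorem word_append (g : Fin 56 → ℤ) : ∀ R S, word g (R ++ S) = word g R ^^^ word g S
  | [], S => by simp [word]
  | r :: t, S => by rw [List.cons_append, word, word, word_append g t S, Nat.xor_assoc]

/-- The pairs on which a word has odd parity. -/
def oddPairs (w : ℕ) : Finset (Fin 28) := Finset.univ.filter fun i => w.testBit (2 * i.1) != w.testBit (2 * i.1 + 1)

/-- The pairs on which a word of the paired part is nonzero. -/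
def fullPairs (w : ℕ) : Finset (Fin 28) := Finset.univ.filter fun i => w.testBit (2 * i.1)

/-- The coordinates in pairs outside the odd ones. -/
def maskOf (w : ℕ) : ℕ :=
  (List.finRange 28).foldr (fun i m => if w.testBit (2 * i.1) != w.testBit (2 * i.1 + 1) then m else (3 * 2 ^ (2 * i.1)) ||| m) 0

theorem maskOf_spec (w : ℕ) {k : ℕ} (h : (maskOf w).testBit k = true) :
    ∃ i : Fin 28, i ∉ oddPairs w ∧ (k = 2 * i.1 ∨ k = 2 * i.1 + 1) := by
  have key : ∀ l : List (Fin 28), (l.foldr (fun (i : Fin 28) m => if w.testBit (2 * i.1) != w.testBit (2 * i.1 + 1) then m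
      else (3 * 2 ^ (2 * i.1)) ||| m) 0).testBit k = true → ∃ i : Fin 28, i ∉ oddPairs w ∧ (k = 2 * i.1 ∨ k = 2 * i.1 + 1) := by
    intro l
    induction l with
    | nil => simp
    | cons i t iht =>
      rw [List.foldr_cons]
      split_ifs with hi
      · exact iht
      · intro hk
        rw [Nat.testBit_or, Bool.or_eq_true] at hk
        rcases hk with hk | hk
        · refine ⟨i, fun hm => hi (Finset.mem_filter.1 hm).2, ?_⟩
          rw [Nat.testBit_mul_two_pow, Bool.and_eq_true, decide_eq_true_eq] at hk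
          by_contra hne
          have h2 : 3 < 2 ^ (k - 2 * i.1) :=
            lt_of_lt_of_le (show 3 < 2 ^ 2 by norm_num) (Nat.pow_le_pow_right two_pos (by omega))
          rw [Nat.testBit_lt_two_pow h2] at hk
          exact absurd hk.2 (by simp)
        · exact iht hk
  exact key _ h

theorem pair_ok : ∀ b ∈ spanL pairRows, ∀ i : Fin 28, b.testBit (2 * i.1) = b.testBit (2 * i.1 + 1) := by
  decide +kernel

theorem parity_ok : ∀ a ∈ spanL parityRows, a = 0 ∨ (8 ≤ (oddPairs a).card ∧
    (8 < (oddPairs a).card ∨ ∀ b ∈ spanL pairRows, (a ^^^ b) &&& maskOf a ≠ 0)) := by decide +kernel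

/-- The words of the components. -/
def compWord (n : Fin 7) : ℕ := 255 * 2 ^ (8 * n.1)

theorem full_ok : ∀ b ∈ spanL pairRows, b = 0 ∨ (∃ n : Fin 7, b = compWord n) ∨ 4 < (fullPairs b).card := by
  decide +kernel

theorem cols_ok : ∀ i j : Fin 56, i < j → ∃ b ∈ basis, (b.getD i.1 0 + b.getD j.1 0) % 2 ≠ 0 := by decide +kernel

/-- All sign patterns of length 8. -/
def signs : ℕ → List (List ℤ)
  | 0 => [[]]
  | m + 1 => (signs m).map (1 :: ·) ++ (signs m).map (-1 :: ·)

theorem signs_mem : ∀ (m : ℕ) (l : List ℤ), l.length = m → (∀ a ∈ l, a = 1 ∨ a = -1) → l ∈ signs m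
  | 0, l, h, _ => by simp [signs, List.length_eq_zero_iff.1 h]
  | m + 1, [], h, _ => by simp at h
  | m + 1, a :: t, h, ha => by
    have ht := signs_mem m t (by simpa using h) fun b hb => ha b (List.mem_cons_of_mem _ hb)
    simp only [signs, List.mem_append, List.mem_map]
    rcases ha a List.mem_cons_self with rfl | rfl
    · exact Or.inl ⟨t, ht, rfl⟩
    · exact Or.inr ⟨t, ht, rfl⟩

theorem comp_ok : ∀ n : Fin 7, ∀ e ∈ signs 8, ∃ b ∈ basis, dotL e ((b.drop (8 * n.1)).take 8) % 4 ≠ 0 := by
  decide +kernel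

theorem basis_span : ∀ b ∈ basis, ∃ z ∈ span, lv (cvec z) = b := by
  intro b hb
  obtain ⟨k, hk, rfl⟩ := List.getElem_of_mem hb
  refine ⟨dvec (bvec (rowB k)), AddSubgroup.subset_closure ⟨k, rfl⟩, ?_⟩
  rw [cvec_dvec, rowB_lv, rowB, List.getD_eq_getElem _ _ hk]

theorem sq_of_par {a : ℤ} (h : par a = true) : 1 ≤ a * a := by
  have : a ≠ 0 := fun h0 => by simp [par, h0] at h
  have h1 := mul_self_pos.2 this
  omega

theorem not_eight {x : RuVec} (hx : x ∈ span) : dot (cvec x) (cvec x) ≠ 8 := by
  intro h8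
  set g := cvec x with hg
  have hsq : ∀ k, 0 ≤ g k * g k := fun k => mul_self_nonneg _
  set wa := word g parityRows with hwa
  set wb := word g pairRows with hwb
  have hbit : ∀ k : Fin 56, par (g k) = (wa.testBit k.1 ^^ wb.testBit k.1) := fun k => by
    rw [← code hx k, allRows, word_append, Nat.testBit_xor]
  have hamem := word_mem g parityRows
  have hbmem := word_mem g pairRows
  let e0 : Fin 28 → Fin 56 := fun i => ⟨2 * i.1, by omega⟩
  let e1 : Fin 28 → Fin 56 := fun i => ⟨2 * i.1 + 1, by omega⟩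
  have hpairs : dot g g = ∑ i : Fin 28, (g (e0 i) * g (e0 i) + g (e1 i) * g (e1 i)) := by
    let e : Fin 28 × Fin 2 ≃ Fin 56 :=
      { toFun := fun p => ⟨2 * p.1.1 + p.2.1, by omega⟩
        invFun := fun k => (⟨k.1 / 2, by omega⟩, ⟨k.1 % 2, by omega⟩)
        left_inv := fun p => by
          refine Prod.ext ?_ ?_ <;> apply Fin.ext <;> simp <;> omega
        right_inv := fun k => Fin.ext (by simp; omega) }
    rw [dot, ← e.sum_comp, Fintype.sum_prod_type]
    exact Finset.sum_congr rfl fun i _ => Fin.sum_univ_two _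
  rcases parity_ok wa hamem with ha | ⟨ha8, ha⟩
  swap
  · -- some pair has odd parity
    have hodd : ∀ i ∈ oddPairs wa, 1 ≤ g (e0 i) * g (e0 i) + g (e1 i) * g (e1 i) := by
      intro i hi
      have h0 := hbit (e0 i)
      have h1 := hbit (e1 i)
      have hb := pair_ok wb hbmem i
      have hi' := (Finset.mem_filter.1 hi).2
      by_cases hp : par (g (e0 i)) = true
      · linarith [sq_of_par hp, hsq (e1 i)]
      · have hp1 : par (g (e1 i)) = true := by
          revert hp hi'
          rw [h0, h1, show wb.testBit (e1 i).1 = wb.testBit (e0 i).1 from hb.symm,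
            show wa.testBit (e0 i).1 = wa.testBit (2 * i.1) from rfl, show wa.testBit (e1 i).1 = wa.testBit (2 * i.1 + 1) from rfl]
          cases wa.testBit (2 * i.1) <;> cases wa.testBit (2 * i.1 + 1) <;> cases wb.testBit (e0 i).1 <;> simp
        linarith [sq_of_par hp1, hsq (e0 i)]
    have hcard : ((oddPairs wa).card : ℤ) ≤ ∑ i ∈ oddPairs wa, (g (e0 i) * g (e0 i) + g (e1 i) * g (e1 i)) :=
      le_of_eq_of_le (by simp) (Finset.sum_le_sum hodd)
    rcases ha with ha | ha
    · have h1 : ∑ i ∈ oddPairs wa, (g (e0 i) * g (e0 i) + g (e1 i) * g (e1 i)) ≤ dot g g :=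
        hpairs ▸ Finset.sum_le_univ_sum_of_nonneg fun i => add_nonneg (hsq _) (hsq _)
      omega
    · obtain ⟨k, hk⟩ := Nat.exists_testBit_of_ne_zero (ha wb hbmem)
      rw [Nat.testBit_and, Bool.and_eq_true, Nat.testBit_xor] at hk
      obtain ⟨i, hi, hki⟩ := maskOf_spec wa hk.2
      have hpos : 1 ≤ g (e0 i) * g (e0 i) + g (e1 i) * g (e1 i) := by
        rcases hki with rfl | rfl
        · have := sq_of_par ((hbit (e0 i)).trans hk.1); linarith [hsq (e1 i)]
        · have := sq_of_par ((hbit (e1 i)).trans hk.1); linarith [hsq (e0 i)]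
      have h1 : ∑ j ∈ insert i (oddPairs wa), (g (e0 j) * g (e0 j) + g (e1 j) * g (e1 j)) ≤ dot g g :=
        hpairs ▸ Finset.sum_le_univ_sum_of_nonneg fun i => add_nonneg (hsq _) (hsq _)
      rw [Finset.sum_insert hi] at h1
      omega
  have hbit' : ∀ k : Fin 56, par (g k) = wb.testBit k.1 := fun k => by simp [hbit k, ha]
  rcases full_ok wb hbmem with hb | ⟨n, hb⟩ | hb
  · -- all coordinates even
    have heven : ∀ k, ∃ t, g k = 2 * t := fun k => by
      have h := hbit' k
      simp only [hb, Nat.zero_testBit, par, decide_eq_false_iff_not, not_not] at h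
      exact ⟨g k / 2, by omega⟩
    choose y hy using heven
    have h2 : ∑ k, y k * y k = 2 := by
      have h : dot g g = 4 * ∑ k, y k * y k := by
        rw [dot, Finset.mul_sum]; exact Finset.sum_congr rfl fun k _ => by rw [hy k]; ring
      omega
    set s := Finset.univ.filter fun k => y k ≠ 0 with hs
    have hle : ∀ k, y k * y k ≤ 2 := fun k =>
      h2 ▸ Finset.single_le_sum (fun j _ => mul_self_nonneg (y j)) (Finset.mem_univ k)
    have hone : ∀ k ∈ s, y k * y k = 1 := by
      intro k hk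
      have h0 := (Finset.mem_filter.1 hk).2
      have h1 := hle k
      have : y k ≤ 1 ∧ -1 ≤ y k := ⟨by nlinarith, by nlinarith⟩
      rcases (show y k = 1 ∨ y k = -1 by omega) with h | h <;> simp [h]
    have hcard : s.card = 2 := by
      have h : ∑ k, y k * y k = ∑ k ∈ s, y k * y k := by
        refine (Finset.sum_subset (Finset.subset_univ s) fun k _ hk => ?_).symm
        simp only [s, Finset.mem_filter, Finset.mem_univ, true_and, not_not] at hk
        simp [hk]
      rw [h, Finset.sum_congr rfl hone] at h2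
      rw [Finset.sum_const, nsmul_eq_mul, mul_one] at h2
      exact_mod_cast h2
    obtain ⟨i, j, hij, hsij⟩ := Finset.card_eq_two.1 hcard
    wlog hlt : i < j generalizing i j
    · exact this j i hij.symm (by rw [hsij, Finset.pair_comm]) (lt_of_le_of_ne (not_lt.1 hlt) hij.symm)
    obtain ⟨b, hb, hodd⟩ := cols_ok i j hlt
    obtain ⟨z, hz, hze⟩ := basis_span b hb
    have h4 := dot_span hx hz
    have hzk : ∀ k : Fin 56, b.getD k.1 0 = cvec z k := fun k => by
      rw [← hze, List.getD_eq_getElem _ _ (by simp [lv])]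
      simp only [lv, List.getElem_ofFn]
    rw [hzk, hzk] at hodd
    have hsum : dot (cvec x) (cvec z) = 2 * (y i * cvec z i + y j * cvec z j) := by
      rw [dot, ← Finset.sum_subset (Finset.subset_univ s) fun k _ hk => ?_]
      · rw [hsij, Finset.sum_pair hij, ← hg, hy i, hy j]; ring
      · simp only [s, Finset.mem_filter, Finset.mem_univ, true_and, not_not] at hk
        rw [← hg, hy k, hk]; ring
    rw [hsum] at h4
    have hi := hone i (by rw [hsij]; simp)
    have hj := hone j (by rw [hsij]; simp)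
    rcases Int.eq_one_or_neg_one_of_mul_eq_one hi with h | h <;>
      rcases Int.eq_one_or_neg_one_of_mul_eq_one hj with h' | h' <;> rw [h, h'] at h4 <;> omega
  · -- one full component
    let f : Fin 8 → Fin 56 := fun t => ⟨8 * n.1 + t.1, by omega⟩
    have hf : Function.Injective f := fun a b h => Fin.ext (by have := congrArg Fin.val h; simp [f] at this; omega)
    have hone : ∀ t, 1 ≤ g (f t) * g (f t) := by
      intro t
      refine sq_of_par ((hbit' (f t)).trans ?_)
      rw [hb, compWord, Nat.testBit_mul_two_pow]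
      simp only [f, Nat.add_sub_cancel_left, le_add_iff_nonneg_right, Nat.zero_le, decide_true, Bool.true_and]
      fin_cases t <;> rfl
    have hsplit : ∑ t, g (f t) * g (f t) + ∑ k ∈ (Finset.univ.map ⟨f, hf⟩)ᶜ, g k * g k = 8 := by
      rw [← h8, dot, ← Finset.sum_add_sum_compl (Finset.univ.map ⟨f, hf⟩), Finset.sum_map]
      rfl
    have hlow : (8 : ℤ) ≤ ∑ t, g (f t) * g (f t) := le_of_eq_of_le (by simp) (Finset.sum_le_sum fun t _ => hone t)
    have hrest0 : ∑ k ∈ (Finset.univ.map ⟨f, hf⟩)ᶜ, g k * g k = 0 := by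
      have := Finset.sum_nonneg (s := (Finset.univ.map ⟨f, hf⟩)ᶜ) fun k _ => hsq k
      omega
    have hzero : ∀ k ∈ (Finset.univ.map ⟨f, hf⟩)ᶜ, g k = 0 := fun k hk =>
      mul_self_eq_zero.1 ((Finset.sum_eq_zero_iff_of_nonneg fun j _ => hsq j).1 hrest0 k hk)
    have hpm : ∀ t, g (f t) = 1 ∨ g (f t) = -1 := by
      intro t
      have h1 : ∀ u ∈ Finset.univ, (0 : ℤ) ≤ g (f u) * g (f u) - 1 := fun u _ => by have := hone u; omega
      have h0 : ∑ u : Fin 8, (g (f u) * g (f u) - 1) = 0 := by
        rw [Finset.sum_sub_distrib]; simp; omega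
      have h2 := (Finset.sum_eq_zero_iff_of_nonneg h1).1 h0 t (Finset.mem_univ t)
      exact Int.eq_one_or_neg_one_of_mul_eq_one (show g (f t) * g (f t) = 1 by omega)
    obtain ⟨b, hb', hne⟩ := comp_ok n (List.ofFn fun t => g (f t)) (signs_mem 8 _ (by simp) (by
      intro a ha; obtain ⟨t, rfl⟩ := List.mem_ofFn.1 ha; exact hpm t))
    obtain ⟨z, hz, rfl⟩ := basis_span b hb'
    apply hne
    have h4 := dot_span hx hz
    have hdot : dotL (List.ofFn fun t => g (f t)) (((lv (cvec z)).drop (8 * n.1)).take 8) = dot (cvec x) (cvec z) := by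
      have hlist : List.zipWith (· * ·) (List.ofFn fun t => g (f t)) (((lv (cvec z)).drop (8 * n.1)).take 8) =
          List.ofFn fun t => g (f t) * cvec z (f t) :=
        List.ext_getElem (by simp [lv]; omega) fun i h1 h2 => by
          simp only [List.getElem_zipWith, lv, List.getElem_take, List.getElem_drop, List.getElem_ofFn]
          rfl
      rw [dotL, hlist, List.sum_ofFn, dot, ← Finset.sum_add_sum_compl (Finset.univ.map ⟨f, hf⟩), Finset.sum_map,
        Finset.sum_eq_zero (s := (Finset.univ.map ⟨f, hf⟩)ᶜ) fun k hk => by rw [← hg, hzero k hk, zero_mul], add_zero]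
      rfl
    rw [hdot]
    exact Int.emod_eq_zero_of_dvd h4
  · -- five pairs with both entries odd
    have hfull : ∀ i ∈ fullPairs wb, 2 ≤ g (e0 i) * g (e0 i) + g (e1 i) * g (e1 i) := by
      intro i hi
      have h0 := (Finset.mem_filter.1 hi).2
      have h1 : wb.testBit (2 * i.1 + 1) = true := (pair_ok wb hbmem i).symm.trans h0
      linarith [sq_of_par ((hbit' (e0 i)).trans h0), sq_of_par ((hbit' (e1 i)).trans h1)]
    have hcard : (2 : ℤ) * (fullPairs wb).card ≤ ∑ i ∈ fullPairs wb, (g (e0 i) * g (e0 i) + g (e1 i) * g (e1 i)) :=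
      le_of_eq_of_le (by simp [mul_comm]) (Finset.sum_le_sum hfull)
    have h1 : ∑ i ∈ fullPairs wb, (g (e0 i) * g (e0 i) + g (e1 i) * g (e1 i)) ≤ dot g g :=
      hpairs ▸ Finset.sum_le_univ_sum_of_nonneg fun i => add_nonneg (hsq _) (hsq _)
    omega

/-- The Conway–Wales lattice as stored is even with no vectors of true norm 2: stored norms are multiples of 8, never equal to 8, and the minimum over nonzero vectors is 16. -/
theorem result : (∀ x ∈ Cfsg.Spor.ruLattice, (8 : ℤ) ∣ Cfsg.Spor.ruNorm x) ∧ (∀ x ∈ Cfsg.Spor.ruLattice, Cfsg.Spor.ruNorm x ≠ 8) ∧ (∀ x ∈ Cfsg.Spor.ruLattice, x ≠ 0 → 16 ≤ Cfsg.Spor.ruNorm x) ∧ ∃ x ∈ Cfsg.Spor.ruLattice, Cfsg.Spor.ruNorm x = 16 := by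
  have h1 : ∀ x ∈ Cfsg.Spor.ruLattice, (8 : ℤ) ∣ Cfsg.Spor.ruNorm x := fun x hx => by
    rw [ruNorm_eq]; exact norm_span (lattice_le hx)
  have h2 : ∀ x ∈ Cfsg.Spor.ruLattice, Cfsg.Spor.ruNorm x ≠ 8 := fun x hx => by
    rw [ruNorm_eq]; exact not_eight (lattice_le hx)
  refine ⟨h1, h2, fun x hx hx0 => ?_, ?_⟩
  · obtain ⟨m, hm⟩ := h1 x hx
    have h3 := h2 x hx
    have hpos : 0 < ruNorm x := by
      rw [ruNorm_eq]
      obtain ⟨k, hk⟩ : ∃ k, cvec x k ≠ 0 := by
        by_contra hall
        push Not at hall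
        exact hx0 (by rw [← dvec_cvec x, show cvec x = 0 from funext hall]; rfl)
      exact Finset.sum_pos' (fun j _ => mul_self_nonneg _) ⟨k, Finset.mem_univ k, mul_self_pos.2 hk⟩
    omega
  · refine ⟨ruTable.headI, AddSubgroup.mem_sInf.2 fun L hL => hL.1 _ ?_, ?_⟩
    · exact List.mem_cons_self
    · decide +kernel

end Cfsg.Agent.S1628
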