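import Cfsg.Statements.S1631
import Cfsg.Agent.Lib.RootSubgroups.SURootGroups
import Cfsg.Agent.Lib.Classical.UnitaryPSU

set_option autoImplicit false
open scoped MatrixGroups
open Cfsg

namespace Cfsg.Agent.S1631

open Matrix CfsgLib.RootSubgroups CfsgLib.RootSubgroups.SURoot CfsgLib.Classical

set_option linter.unusedSectionVars false

section
variable {F : Type} [Field F] [Fintype F] [DecidableEq F] {n : ℕ}

/-- The transvection with centre `p`. -/
def Tv (p : Fin n → F) (g : ↥(Cfsg.SU n F 2)) : Prop := HasParam p g 1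

theorem two_zero (hF : Fintype.card F = 4) : (2 : F) = 0 := by
  have h := FiniteField.cast_card_eq_zero F
  rw [hF] at h
  have h2 : (2 : F) * 2 = 0 := by
    rw [show (2 : F) * 2 = ((4 : ℕ) : F) by norm_num]; exact h
  exact (mul_eq_zero.1 h2).elim id id

theorem card_sq (hF : Fintype.card F = 4) : Fintype.card F = 2 ^ 2 := by rw [hF]; rfl

theorem neg_one_eq (hF : Fintype.card F = 4) : (-1 : F) = 1 := by linear_combination -(two_zero hF)

theorem cube_one (hF : Fintype.card F = 4) {a : F} (ha : a ≠ 0) : a ^ 3 = 1 := by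
  have := FiniteField.pow_card_sub_one_eq_one a ha
  rwa [hF] at this

theorem tv_unique {p : Fin n → F} {g g' : ↥(Cfsg.SU n F 2)} (h : Tv p g) (h' : Tv p g') : g = g' :=
  su_ext fun v => by rw [h v, h' v]

theorem tv_conj {p : Fin n → F} {g t : ↥(Cfsg.SU n F 2)} (ht : Tv p t) : Tv (act g p) (g * t * g⁻¹) := by
  intro v
  rw [act_mul, act_mul, ht (act g⁻¹ v), act, Matrix.mulVec_add, Matrix.mulVec_smul, act, ← act, act_act_inv]
  congr 2
  have := act_form g (act g⁻¹ v) p
  rw [act_act_inv] at this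
  rw [this]

theorem tv_smul (hF : Fintype.card F = 4) {p : Fin n → F} {g : ↥(Cfsg.SU n F 2)} {a : F} (ha : a ≠ 0)
    (h : Tv p g) : Tv (a • p) g := by
  obtain ⟨σ, hσ, -, -⟩ := exists_qPow (card_sq hF)
  intro v
  rw [h v, herm_smul_right hσ, smul_smul, hσ,
    show 1 * (a ^ 2 * hermForm n F 2 v p) * a = a ^ 3 * (1 * hermForm n F 2 v p) by ring, cube_one hF ha, one_mul, one_mul]

/-- The matrix set is the set of transvections. -/
theorem rank_one_iff (hF : Fintype.card F = 4) (g : ↥(Cfsg.SU n F 2)) :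
    (((g : Matrix.SpecialLinearGroup (Fin n) F) : Matrix (Fin n) (Fin n) F) - 1).rank = 1 ↔
      ∃ p : Fin n → F, p ≠ 0 ∧ Cfsg.hermForm n F 2 p p = 0 ∧ Tv p g := by
  obtain ⟨σ, hσ, hinv, -⟩ := exists_qPow (card_sq hF)
  obtain ⟨L, hL⟩ : ∃ L : (Fin n → F) →ₗ[F] (Fin n → F),
      L = (((g : Matrix.SpecialLinearGroup (Fin n) F) : Matrix (Fin n) (Fin n) F) - 1).mulVecLin := ⟨_, rfl⟩
  have hL' : ∀ v, act g v = v + L v := fun v => by
    rw [hL, Matrix.mulVecLin_apply, Matrix.sub_mulVec, Matrix.one_mulVec]; abel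
  rw [Matrix.rank, ← hL]
  constructor
  · intro h
    obtain ⟨⟨p, hp⟩, hp0, hspan⟩ := finrank_eq_one_iff'.1 h
    have hp0' : p ≠ 0 := fun e => hp0 (Subtype.ext e)
    obtain ⟨i, hi⟩ : ∃ i, p i ≠ 0 := by
      by_contra! h0; exact hp0' (funext h0)
    obtain ⟨f, hf⟩ : ∃ f : Module.Dual F (Fin n → F), ∀ v, f v = (p i)⁻¹ * L v i :=
      ⟨(p i)⁻¹ • (LinearMap.proj i).comp L, fun v => rfl⟩
    have hLf : ∀ v, L v = f v • p := by
      intro v
      obtain ⟨c, hc⟩ := hspan ⟨L v, LinearMap.mem_range_self L v⟩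
      have hc' : c • p = L v := congrArg Subtype.val hc
      rw [hf, ← hc', Pi.smul_apply, smul_eq_mul, show (p i)⁻¹ * (c * p i) = c by field_simp]
    have hact : ∀ v, act g v = v + f v • p := fun v => by rw [hL', hLf]
    have hfp : f p = 0 := by
      have hg : LinearMap.transvection f p =
          Matrix.toLin' ((g : Matrix.SpecialLinearGroup (Fin n) F) : Matrix (Fin n) (Fin n) F) := by
        refine LinearMap.ext fun v => ?_
        rw [Matrix.toLin'_apply]
        exact (hact v).symm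
      have hd := LinearMap.transvection.det (f := f) (v := p)
      rw [hg, LinearMap.det_toLin', (g : Matrix.SpecialLinearGroup (Fin n) F).2] at hd
      linear_combination -hd
    have hrel : ∀ u v, f u * hermForm n F 2 p v + σ (f v) * hermForm n F 2 u p
        + f u * σ (f v) * hermForm n F 2 p p = 0 := by
      intro u v
      have e := act_form g u v
      rw [hact, hact, hermForm_add_left, herm_add_right hσ, herm_add_right hσ, hermForm_smul_left,
        hermForm_smul_left, herm_smul_right hσ, herm_smul_right hσ] at e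
      linear_combination e
    have hne : ∃ v, f v ≠ 0 := by
      by_contra! h0
      have : L = 0 := LinearMap.ext fun v => by rw [hLf, h0, zero_smul, LinearMap.zero_apply]
      rw [this, LinearMap.range_zero, finrank_bot] at h
      omega
    have hpp : hermForm n F 2 p p = 0 := by
      obtain ⟨v, hv⟩ := hne
      have := hrel p v
      rw [hfp, zero_mul, zero_add, zero_mul, zero_mul, add_zero] at this
      exact (mul_eq_zero.1 this).resolve_left fun e => hv (σ.injective (e.trans (map_zero σ).symm))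
    have hT : IsT p g := ⟨fun v => ⟨f v, hact v⟩, fun u hu => by
      obtain ⟨a, ha⟩ := exists_herm_ne (card_sq hF) hp0'
      have := hrel u a
      rw [hu, hpp, mul_zero, mul_zero, add_zero, add_zero] at this
      have ha' : hermForm n F 2 p a ≠ 0 := by
        rw [← hermForm_conj (card_sq hF)]; exact pow_ne_zero _ ha
      rw [hact, (mul_eq_zero.1 this).resolve_right ha', zero_smul, add_zero]⟩
    obtain ⟨c, hc, hcp⟩ := hasParam_of_isT (card_sq hF) hp0' hpp hT
    refine ⟨p, hp0', hpp, ?_⟩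
    have hc0 : c ≠ 0 := by
      rintro rfl
      obtain ⟨v, hv⟩ := hne
      have := hcp v
      rw [hact, zero_mul, zero_smul, add_zero, add_eq_left, smul_eq_zero] at this
      exact this.elim hv hp0'
    have hc1 : c = 1 := by
      refine mul_left_cancel₀ hc0 ?_
      rw [mul_one, ← pow_two, hc]
      linear_combination -c * two_zero hF
    rw [hc1] at hcp
    exact hcp
  · rintro ⟨p, hp0, hpp, hT⟩
    have hLp : ∀ v, L v = hermForm n F 2 v p • p := fun v => by
      have := hT v
      rw [hL', one_mul] at this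
      exact add_left_cancel this
    obtain ⟨a, ha⟩ := exists_herm_ne (card_sq hF) hp0
    have : LinearMap.range L = F ∙ p := by
      refine le_antisymm ?_ ?_
      · rintro _ ⟨v, rfl⟩
        rw [hLp]; exact Submodule.smul_mem _ _ (Submodule.mem_span_singleton_self p)
      · rw [Submodule.span_singleton_le_iff_mem]
        exact ⟨(hermForm n F 2 a p)⁻¹ • a, by rw [map_smul, hLp, smul_smul, inv_mul_cancel₀ ha, one_smul]⟩
    rw [this]
    exact finrank_span_singleton hp0

theorem tv_sq (hF : Fintype.card F = 4) {p : Fin n → F} (hpp : Cfsg.hermForm n F 2 p p = 0)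
    {t : ↥(Cfsg.SU n F 2)} (ht : Tv p t) : t * t = 1 := by
  refine su_ext fun v => ?_
  rw [act_mul, act_one, ht (act t v), ht v, hermForm_add_left, hermForm_smul_left, hpp]
  match_scalars
  · ring
  · linear_combination hermForm n F 2 v p * two_zero hF

theorem tv_fix {p r : Fin n → F} {t : ↥(Cfsg.SU n F 2)} (ht : Tv p t)
    (h : Cfsg.hermForm n F 2 r p = 0) : act t r = r := by
  rw [ht r, h, mul_zero, zero_smul, add_zero]

theorem tv_pair (hF : Fintype.card F = 4) {p r : Fin n → F} (hpp : Cfsg.hermForm n F 2 p p = 0)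
    (hrr : Cfsg.hermForm n F 2 r r = 0) {t s : ↥(Cfsg.SU n F 2)} (ht : Tv p t) (hs : Tv r s)
    (h : Cfsg.hermForm n F 2 r p ≠ 0) : t * s * t = s * t * s := by
  have hti := inv_eq_of_mul_eq_one_right (tv_sq hF hpp ht)
  have hsi := inv_eq_of_mul_eq_one_right (tv_sq hF hrr hs)
  have h1 := tv_conj (g := t) hs
  have h2 := tv_conj (g := s) ht
  rw [hti] at h1
  rw [hsi] at h2
  have hσr : hermForm n F 2 p r = hermForm n F 2 r p ^ 2 := (hermForm_conj (card_sq hF) r p).symm
  have e : hermForm n F 2 r p • act s p = act t r := by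
    rw [ht r, hs p, smul_add, smul_smul, one_mul, one_mul, hσr, ← pow_succ', cube_one hF h, one_smul, add_comm]
  have h3 := tv_smul hF h h2
  rw [e] at h3
  exact tv_unique h1 h3

end

/-- The unitary transvections of SU(n, 2), n ≥ 4, form a generating conjugacy class of 3-transpositions. -/
theorem result (F : Type) [Field F] [Fintype F] [DecidableEq F] (hF : Fintype.card F = 4) (n : ℕ) (hn : 4 ≤ n) : Cfsg.IsThreeTranspositionClass {g : ↥(Cfsg.SU n F 2) | (((g : Matrix.SpecialLinearGroup (Fin n) F) : Matrix (Fin n) (Fin n) F) - 1).rank = 1} := by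
  have hF2 : Fintype.card F = 2 ^ 2 := card_sq hF
  obtain ⟨D, hD⟩ : ∃ D : Set ↥(Cfsg.SU n F 2),
      ∀ g, g ∈ D ↔ ∃ p : Fin n → F, p ≠ 0 ∧ Cfsg.hermForm n F 2 p p = 0 ∧ Tv p g :=
    ⟨{g | ∃ p : Fin n → F, p ≠ 0 ∧ Cfsg.hermForm n F 2 p p = 0 ∧ Tv p g}, fun g => Iff.rfl⟩
  rw [show {g : ↥(Cfsg.SU n F 2) |
      (((g : Matrix.SpecialLinearGroup (Fin n) F) : Matrix (Fin n) (Fin n) F) - 1).rank = 1} = D from
    Set.ext fun g => (rank_one_iff hF g).trans (hD g).symm]
  have hne1 : ∀ g ∈ D, g ≠ 1 := by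
    intro g hg e
    have := (rank_one_iff hF g).2 ((hD g).1 hg)
    rw [e, OneMemClass.coe_one, Matrix.SpecialLinearGroup.coe_one, sub_self, Matrix.rank_zero] at this
    omega
  have hconjmem : ∀ g : ↥(Cfsg.SU n F 2), ∀ t ∈ D, g * t * g⁻¹ ∈ D := by
    intro g t ht
    obtain ⟨p, hp, hpp, hT⟩ := (hD t).1 ht
    refine (hD _).2 ⟨act g p, fun e => hp ?_, by rw [act_form, hpp], tv_conj hT⟩
    rw [← act_inv_act g p, e, act, Matrix.mulVec_zero]
  have hpair : ∀ p r : Fin n → F, Cfsg.hermForm n F 2 p p = 0 → Cfsg.hermForm n F 2 r r = 0 →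
      Cfsg.hermForm n F 2 r p ≠ 0 → ∀ t s : ↥(Cfsg.SU n F 2), Tv p t → Tv r s → IsConj t s := by
    intro p r hpp hrr h t s ht hs
    refine isConj_iff.2 ⟨t * s, ?_⟩
    rw [tv_pair hF hpp hrr ht hs h, _root_.mul_inv_rev]
    group
  have hall : ∀ t ∈ D, ∀ s ∈ D, IsConj t s := by
    intro t ht s hs
    obtain ⟨p, hp, hpp, hT⟩ := (hD t).1 ht
    obtain ⟨r, hr, hrr, hS⟩ := (hD s).1 hs
    by_cases h : Cfsg.hermForm n F 2 r p = 0
    · by_cases hli : LinearIndependent F ![p, r]
      · have hpr : Cfsg.hermForm n F 2 p r = 0 := by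
          rw [← hermForm_conj hF2, h, zero_pow two_ne_zero]
        obtain ⟨w, hw, hww, hpw, hrw⟩ := exists_common hF2 hpp hli hpr
        obtain ⟨u, hu⟩ := exists_hasParam hF2 hww (c := (1 : F)) (by rw [one_pow, neg_one_eq hF])
        have hwp : Cfsg.hermForm n F 2 w p ≠ 0 := by
          rw [← hermForm_conj hF2]; exact pow_ne_zero _ hpw
        exact (hpair p w hpp hww hwp t u hT hu).trans (hpair w r hww hrr hrw u s hu hS)
      · rw [LinearIndependent.pair_iff' hp] at hli
        push Not at hli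
        obtain ⟨a, ha⟩ := hli
        have ha0 : a ≠ 0 := fun e => hr (by rw [← ha, e, zero_smul])
        have := tv_smul hF ha0 hT
        rw [ha] at this
        rw [tv_unique this hS]
    · exact hpair p r hpp hrr h t s hT hS
  have hgen : Subgroup.closure D = ⊤ := by
    rw [eq_top_iff, ← CfsgLib.Classical.Unitary.su_closure_transvections hF2 (by omega) (by omega),
      Subgroup.closure_le]
    rintro A ⟨v, c, hv, hA⟩
    by_cases hv0 : v = 0
    · have hA1 : A = 1 := Subtype.ext (Subtype.ext (by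
        rw [hA, hv0]; ext i j; simp [Cfsg.unitaryTransvection, Matrix.vecMulVec]))
      rw [hA1]; exact one_mem _
    have hP : HasParam v A c := by
      intro y
      show ((A : Matrix.SpecialLinearGroup (Fin n) F) : Matrix (Fin n) (Fin n) F) *ᵥ y = _
      rw [hA, Cfsg.unitaryTransvection, Matrix.add_mulVec, Matrix.one_mulVec, Matrix.smul_mulVec,
        Matrix.vecMulVec_mulVec]
      ext i
      simp only [Pi.add_apply, Pi.smul_apply, smul_eq_mul, MulOpposite.smul_eq_mul_unop, MulOpposite.unop_op, dotProduct, Cfsg.hermForm]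
      rw [Finset.sum_congr rfl fun x _ => mul_comm (v x ^ 2) (y x)]
      ring
    obtain ⟨c', hc', hP'⟩ := hasParam_of_isT hF2 hv0 hv hP.isT
    rcases eq_or_ne c' 0 with rfl | hc0
    · have hA1 : A = 1 := su_ext fun y => by rw [hP' y, act_one, zero_mul, zero_smul, add_zero]
      rw [hA1]; exact one_mem _
    · have hc1 : c' = 1 := by
        refine mul_left_cancel₀ hc0 ?_
        rw [mul_one, ← pow_two, hc']
        linear_combination -c' * two_zero hF
      rw [hc1] at hP'
      exact Subgroup.subset_closure ((hD A).2 ⟨v, hv0, hv, hP'⟩)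
  obtain ⟨t₀, ht₀⟩ : D.Nonempty := by
    rw [Set.nonempty_iff_ne_empty]
    intro e
    obtain ⟨p, hp, hpp⟩ : ∃ p : Fin n → F, p ≠ 0 ∧ Cfsg.hermForm n F 2 p p = 0 := by
      refine ⟨Pi.single ⟨0, by omega⟩ 1 + Pi.single ⟨1, by omega⟩ 1, fun e => ?_, ?_⟩
      · have := congrFun e ⟨0, by omega⟩; simp [Fin.ext_iff] at this
      · rw [Cfsg.hermForm, Fintype.sum_eq_add (⟨0, by omega⟩ : Fin n) ⟨1, by omega⟩ (by simp [Fin.ext_iff])
          (fun i hi => by simp [hi.1, hi.2])]
        simp [Fin.ext_iff]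
        linear_combination two_zero hF
    obtain ⟨g, hg⟩ := exists_hasParam hF2 hpp (c := (1 : F)) (by rw [one_pow, neg_one_eq hF])
    exact (Set.eq_empty_iff_forall_notMem.1 e) g ((hD g).2 ⟨p, hp, hpp, hg⟩)
  refine ⟨⟨fun d hd => ?_, fun d hd e he => ?_⟩, ⟨t₀, ht₀, Set.ext fun g => ?_⟩, hgen⟩
  · obtain ⟨p, hp, hpp, hT⟩ := (hD d).1 hd
    exact orderOf_eq_prime (by rw [pow_two, tv_sq hF hpp hT]) (hne1 d hd)
  · obtain ⟨p, hp, hpp, hT⟩ := (hD d).1 hd
    obtain ⟨r, hr, hrr, hS⟩ := (hD e).1 he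
    by_cases h : Cfsg.hermForm n F 2 r p = 0
    · left
      have h1 := tv_conj (g := d) hS
      rw [inv_eq_of_mul_eq_one_right (tv_sq hF hpp hT), tv_fix hT h] at h1
      rw [pow_two, show d * e * (d * e) = (d * e * d) * e by group, tv_unique h1 hS, tv_sq hF hrr hS]
    · right
      rw [pow_succ, pow_two, show d * e * (d * e) * (d * e) = (d * e * d) * (e * d * e) by group,
        tv_pair hF hpp hrr hT hS h, show e * d * e * (e * d * e) = e * d * (e * e) * d * e by group,
        tv_sq hF hrr hS, mul_one, show e * d * d * e = e * (d * d) * e by group, tv_sq hF hpp hT, mul_one,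
        tv_sq hF hrr hS]
  · refine ⟨fun hg => hall t₀ ht₀ g hg, fun hg => ?_⟩
    obtain ⟨x, hx⟩ := isConj_iff.1 (show IsConj t₀ g from hg)
    exact hx ▸ hconjmem x t₀ ht₀

end Cfsg.Agent.S1631
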