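import Cfsg.Statements.S1634
import Cfsg.Agent.Lib.Leech.PairRank4

set_option autoImplicit false
open Cfsg

namespace Cfsg.Agent.S1634

open CfsgLib.Leech CfsgLib.Leech.PairFour


/-- The McLaughlin group acts on 2025 points (minimal vectors orthogonal to v with customary inner product 2 with w) transitively with rank 4 and subdegrees 1, 330, 462, 1232. -/
theorem result (v w : ↥Cfsg.leechLattice) (hv : Cfsg.sqNorm (v : Cfsg.GolayPt → ℤ) = 32) (hw : Cfsg.sqNorm (w : Cfsg.GolayPt → ℤ) = 32) (hvw : Cfsg.dotInt (v : Cfsg.GolayPt → ℤ) (w : Cfsg.GolayPt → ℤ) = -8) : {x : ↥Cfsg.leechLattice | Cfsg.sqNorm (x : Cfsg.GolayPt → ℤ) = 32 ∧ Cfsg.dotInt (v : Cfsg.GolayPt → ℤ) (x : Cfsg.GolayPt → ℤ) = 0 ∧ Cfsg.dotInt (w : Cfsg.GolayPt → ℤ) (x : Cfsg.GolayPt → ℤ) = 16}.ncard = 2025 ∧ (∀ x ∈ {x : ↥Cfsg.leechLattice | Cfsg.sqNorm (x : Cfsg.GolayPt → ℤ) = 32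 ∧ Cfsg.dotInt (v : Cfsg.GolayPt → ℤ) (x : Cfsg.GolayPt → ℤ) = 0 ∧ Cfsg.dotInt (w : Cfsg.GolayPt → ℤ) (x : Cfsg.GolayPt → ℤ) = 16}, ∀ x' ∈ {x : ↥Cfsg.leechLattice | Cfsg.sqNorm (x : Cfsg.GolayPt → ℤ) = 32 ∧ Cfsg.dotInt (v : Cfsg.GolayPt → ℤ) (x : Cfsg.GolayPt → ℤ) = 0 ∧ Cfsg.dotInt (w : Cfsg.GolayPt → ℤ) (x : Cfsg.GolayPt → ℤ) = 16}, ∃ g : ↥Cfsg.Co0, g • v = v ∧ g • w = w ∧ g • x = x') ∧ ∀ x ∈ {x : ↥Cfsg.leechLattice | Cfsg.sqNorm (x : Cfsg.GolayPt → ℤ) = 32 ∧ Cfsg.dotInt (v : Cfsg.GolayPt → ℤ) (x : Cfsg.GolayPt → ℤ) = 0 ∧ Cfsg.dotInt (w : Cfsg.GolayPt → ℤ) (x : Cfsg.GolayPt → ℤ) = 16}, ∃ y₁ ∈ {x : ↥Cfsg.leechLattice | Cfsg.sqNorm (x : Cfsg.GolayPt → ℤ) = 32 ∧ Cfsg.dotInt (v : Cfsg.GolayPt → ℤ) (x : Cfsg.GolayPt → ℤ) = 0 ∧ Cfsg.dotInt (w : Cfsg.GolayPt → ℤ) (x : Cfsg.GolayPt → ℤ) = 16}, ∃ y₂ ∈ {x : ↥Cfsg.leechLattice | Cfsg.sqNorm (x : Cfsg.GolayPt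 → ℤ) = 32 ∧ Cfsg.dotInt (v : Cfsg.GolayPt → ℤ) (x : Cfsg.GolayPt → ℤ) = 0 ∧ Cfsg.dotInt (w : Cfsg.GolayPt → ℤ) (x : Cfsg.GolayPt → ℤ) = 16}, ∃ y₃ ∈ {x : ↥Cfsg.leechLattice | Cfsg.sqNorm (x : Cfsg.GolayPt → ℤ) = 32 ∧ Cfsg.dotInt (v : Cfsg.GolayPt → ℤ) (x : Cfsg.GolayPt → ℤ) = 0 ∧ Cfsg.dotInt (w : Cfsg.GolayPt → ℤ) (x : Cfsg.GolayPt → ℤ) = 16}, (MulAction.orbit ↥(MulAction.stabilizer ↥Cfsg.Co0 v ⊓ MulAction.stabilizer ↥Cfsg.Co0 w ⊓ MulAction.stabilizer ↥Cfsg.Co0 x) y₁).ncard = 330 ∧ (MulAction.orbit ↥(MulAction.stabilizer ↥Cfsg.Co0 v ⊓ MulAction.stabilizer ↥Cfsg.Co0 w ⊓ MulAction.stabilizer ↥Cfsg.Co0 x) y₂).ncard = 462 ∧ (MulAction.orbit ↥(MulAction.stabilizer ↥Cfsg.Co0 v ⊓ MulAction.stabilizer ↥Cfsg.Co0 w ⊓ MulAction.stabilizer ↥Cfsg.Co0 x) y₃).ncard = 1232 := by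
  set S := {x : ↥leechLattice | sqNorm (x : GolayPt → ℤ) = 32 ∧ dotInt (v : GolayPt → ℤ) x = 0 ∧
    dotInt (w : GolayPt → ℤ) x = 16} with hS
  have std : ∀ x ∈ S, ∃ g : Co0, ((g • v : ↥leechLattice) : GolayPt → ℤ) = base32 ∧
      ((g • w : ↥leechLattice) : GolayPt → ℤ) = oddW ∧ ((g • x : ↥leechLattice) : GolayPt → ℤ) = base32neg :=
    fun x hx => exists_std hv hw hx.1 hvw hx.2.1 hx.2.2
  refine ⟨?_, fun x hx x' hx' => exists_map_triple (std x hx) (std x' hx'), fun x hx => ?_⟩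
  · obtain ⟨g, g1, g2⟩ := exists_map_pair (exists_pair8 (v := v) (w := w) hv hw hvw)
      (exists_pair8 (v := stdV) (w := stdO) base32_mem.2 stdO_facts.1 stdO_facts.2)
    exact ncard_attached g (congrArg Subtype.val g1) (congrArg Subtype.val g2)
  obtain ⟨h, hv', hw', hx'⟩ := std x hx
  have ev : h • v = stdV := Subtype.ext hv'
  have ew : h • w = stdO := Subtype.ext hw'
  have ex : h • x = stdW := Subtype.ext hx'
  set K := MulAction.stabilizer Co0 v ⊓ MulAction.stabilizer Co0 w ⊓ MulAction.stabilizer Co0 x with hK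
  set C : ℤ → Set ↥leechLattice := fun d => {y | sqNorm (y : GolayPt → ℤ) = 32 ∧
    dotInt (v : GolayPt → ℤ) y = 0 ∧ dotInt (w : GolayPt → ℤ) y = 16 ∧
    dotInt (x : GolayPt → ℤ) y = d} with hC
  have horb : ∀ {d : ℤ}, (d = 0 ∨ d = 16 ∨ d = 8) → ∀ {y : ↥leechLattice}, y ∈ C d →
      MulAction.orbit K y = C d := by
    intro d hd y hy
    ext z
    constructor
    · rintro ⟨⟨k, hk⟩, rfl⟩
      obtain ⟨a, b, c, e⟩ := hy
      have k1 : k • v = v := hk.1.1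
      have k2 : k • w = w := hk.1.2
      have k3 : k • x = x := hk.2
      refine ⟨(sqNorm_smul_co _ _).trans a, ?_, ?_, ?_⟩
      · have q := dot_smul_co k v y
        rw [k1] at q
        exact q.trans b
      · have q := dot_smul_co k w y
        rw [k2] at q
        exact q.trans c
      · have q := dot_smul_co k x y
        rw [k3] at q
        exact q.trans e
    · intro hz
      have m : ∀ {y : ↥leechLattice}, y ∈ C d → sqNorm ((h • y : ↥leechLattice) : GolayPt → ℤ) = 32 ∧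
          dotInt (stdV : GolayPt → ℤ) (h • y : ↥leechLattice) = 0 ∧
          dotInt (stdO : GolayPt → ℤ) (h • y : ↥leechLattice) = 16 ∧
          dotInt (stdW : GolayPt → ℤ) (h • y : ↥leechLattice) = d := by
        rintro y ⟨a, b, c, e⟩
        exact ⟨(sqNorm_smul_co _ _).trans a, by rw [← ev, dot_smul_co, b], by rw [← ew, dot_smul_co, c],
          by rw [← ex, dot_smul_co, e]⟩
      obtain ⟨a, b, c, e⟩ := m hy
      obtain ⟨a', b', c', e'⟩ := m hz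
      obtain ⟨g, ⟨g1, g2, g3⟩, hgy⟩ := std_transitive hd a a' b b' c c' e e'
      refine ⟨⟨h⁻¹ * (g * h), ⟨?_, ?_⟩, ?_⟩, ?_⟩
      · show (h⁻¹ * (g * h)) • v = v
        rw [mul_smul, mul_smul, ev, g1, ← ev, inv_smul_smul]
      · show (h⁻¹ * (g * h)) • w = w
        rw [mul_smul, mul_smul, ew, g2, ← ew, inv_smul_smul]
      · show (h⁻¹ * (g * h)) • x = x
        rw [mul_smul, mul_smul, ex, g3, ← ex, inv_smul_smul]
      · show (h⁻¹ * (g * h)) • y = z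
        rw [mul_smul, mul_smul, hgy, inv_smul_smul]
  have hn : ∀ dn ∈ [((0 : ℤ), 330), (16, 462), (8, 1232)], (C dn.1).ncard = dn.2 := ncard_classes h hv' hw' hx'
  have n1 := hn (0, 330) (by simp)
  have n2 := hn (16, 462) (by simp)
  have n3 := hn (8, 1232) (by simp)
  dsimp only at n1 n2 n3
  obtain ⟨y₁, h1⟩ := Set.nonempty_of_ncard_ne_zero (s := C 0) (by omega)
  obtain ⟨y₂, h2⟩ := Set.nonempty_of_ncard_ne_zero (s := C 16) (by omega)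
  obtain ⟨y₃, h3⟩ := Set.nonempty_of_ncard_ne_zero (s := C 8) (by omega)
  refine ⟨y₁, ⟨h1.1, h1.2.1, h1.2.2.1⟩, y₂, ⟨h2.1, h2.2.1, h2.2.2.1⟩, y₃, ⟨h3.1, h3.2.1, h3.2.2.1⟩, ?_⟩
  rw [horb (by omega) h1, horb (by omega) h2, horb (by omega) h3]
  exact ⟨n1, n2, n3⟩

end Cfsg.Agent.S1634
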