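import Cfsg.Statements.S1635
import Cfsg.Agent.Lib.Golay.Cosets

set_option autoImplicit false
open Cfsg CfsgLib.Golay

namespace Cfsg.Agent.S1635

/-- Coset leaders of the length-24 code: a coset contains a unique word of weight ≤ 3, or else exactly six words of weight 4 and none lighter. -/
theorem result (w : Cfsg.GolayPt → ZMod 2) : ({v : Cfsg.GolayPt → ZMod 2 | hammingNorm v ≤ 4 ∧ w - v ∈ Cfsg.golayCode}.ncard = 1 ∧ ∃ v : Cfsg.GolayPt → ZMod 2, hammingNorm v ≤ 3 ∧ w - v ∈ Cfsg.golayCode) ∨ ({v : Cfsg.GolayPt → ZMod 2 | hammingNorm v ≤ 4 ∧ w - v ∈ Cfsg.golayCode}.ncard = 6 ∧ ∀ v : Cfsg.GolayPt → ZMod 2, w - v ∈ Cfsg.golayCode → hammingNorm v ≤ 4 → hammingNorm v = 4) := by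
  have hiff : ∀ s : Finset GolayPt, (hammingNorm (cosetWord s) ≤ 4 ∧ w - cosetWord s ∈ golayCode) ↔ s ∈ shortIn (support₂ w) := by
    intro s
    rw [mem_golayCode_iff, support_sub, support_cosetWord]
    exact and_congr_left' (by rw [show hammingNorm (cosetWord s) = (support₂ (cosetWord s)).card from rfl, support_cosetWord])
  have hset : {v : GolayPt → ZMod 2 | hammingNorm v ≤ 4 ∧ w - v ∈ golayCode} = cosetWord '' shortIn (support₂ w) := by
    ext v
    refine ⟨fun hv => ⟨support₂ v, ?_, cosetWord_support v⟩, ?_⟩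
    · rw [← hiff, cosetWord_support]; exact hv
    · rintro ⟨s, hs, rfl⟩
      exact (hiff s).2 hs
  have hinj : Function.Injective (cosetWord : Finset GolayPt → GolayPt → ZMod 2) := fun s t e => by
    rw [← support_cosetWord s, e, support_cosetWord]
  rw [hset, Set.ncard_image_of_injective _ hinj]
  rcases shortIn_cases (support₂ w) with ⟨s, hs, hs3⟩ | ⟨h6, h4, -⟩
  · refine Or.inl ⟨by rw [hs, Set.ncard_singleton], cosetWord s, ?_, ((hiff s).2 (hs ▸ rfl)).2⟩
    rw [show hammingNorm (cosetWord s) = (support₂ (cosetWord s)).card from rfl, support_cosetWord]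
    exact hs3
  · refine Or.inr ⟨h6, fun v hv hn => ?_⟩
    have := h4 (support₂ v) ((hiff _).1 (by rw [cosetWord_support]; exact ⟨hn, hv⟩))
    exact this

end Cfsg.Agent.S1635
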