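import Cfsg.Statements.S1636
import Cfsg.Agent.Lib.Golay.Cosets
import Cfsg.Agent.Lib.M24Cert.Fast

set_option autoImplicit false
open Cfsg CfsgLib.Golay

namespace Cfsg.Agent.S1636

set_option maxHeartbeats 1000000 in
open CfsgLib.Golay in
theorem punct_min : allSpan (fun n => decide (n = 0 ∨ 7 ≤ if n.testBit 23 then CfsgLib.M24Cert.bc n - 1 else CfsgLib.M24Cert.bc n)) golayBasis 0 = true := by
  decide +kernel

set_option maxHeartbeats 1000000 in
open CfsgLib.Golay in
theorem punct_counts :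
    countSpan (fun n => (if n.testBit 23 then CfsgLib.M24Cert.bc n - 1 else CfsgLib.M24Cert.bc n) == 7) golayBasis 0 = 253 ∧
    countSpan (fun n => (if n.testBit 23 then CfsgLib.M24Cert.bc n - 1 else CfsgLib.M24Cert.bc n) == 8) golayBasis 0 = 506 ∧
    countSpan (fun n => (if n.testBit 23 then CfsgLib.M24Cert.bc n - 1 else CfsgLib.M24Cert.bc n) == 11) golayBasis 0 = 1288 ∧
    countSpan (fun n => (if n.testBit 23 then CfsgLib.M24Cert.bc n - 1 else CfsgLib.M24Cert.bc n) == 12) golayBasis 0 = 1288 ∧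
    countSpan (fun n => (if n.testBit 23 then CfsgLib.M24Cert.bc n - 1 else CfsgLib.M24Cert.bc n) == 15) golayBasis 0 = 506 ∧
    countSpan (fun n => (if n.testBit 23 then CfsgLib.M24Cert.bc n - 1 else CfsgLib.M24Cert.bc n) == 16) golayBasis 0 = 253 := by
  refine ⟨?_, ?_, ?_, ?_, ?_, ?_⟩ <;> decide +kernel


/-- The punctured length-23 code has weight distribution 0^1 7^253 8^506 11^1288 12^1288 15^506 16^253 23^1. -/
theorem result : {u : ZMod 23 → ZMod 2 | ∃ w ∈ Cfsg.golayCode, ∀ x : ZMod 23, u x = w (some x)}.ncard = 4096 ∧ {u : ZMod 23 → ZMod 2 | u ∈ {u : ZMod 23 → ZMod 2 | ∃ w ∈ Cfsg.golayCode, ∀ x : ZMod 23, u x = w (some x)} ∧ hammingNorm u = 7}.ncard = 253 ∧ {u : ZMod 23 → ZMod 2 | u ∈ {u : ZMod 23 → ZMod 2 | ∃ w ∈ Cfsg.golayCode, ∀ x : ZMod 23, u x = w (some x)} ∧ hammingNorm u = 8}.ncard = 506 ∧ {u : ZMod 23 → ZMod 2 | u ∈ {u : ZMod 23 → ZMod 2 | ∃ w ∈ Cfsg.golayCode, ∀ x : ZMod 23, u x = w (some x)} ∧ hammingNorm u = 11}.ncard = 1288 ∧ {u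 : ZMod 23 → ZMod 2 | u ∈ {u : ZMod 23 → ZMod 2 | ∃ w ∈ Cfsg.golayCode, ∀ x : ZMod 23, u x = w (some x)} ∧ hammingNorm u = 12}.ncard = 1288 ∧ {u : ZMod 23 → ZMod 2 | u ∈ {u : ZMod 23 → ZMod 2 | ∃ w ∈ Cfsg.golayCode, ∀ x : ZMod 23, u x = w (some x)} ∧ hammingNorm u = 15}.ncard = 506 ∧ {u : ZMod 23 → ZMod 2 | u ∈ {u : ZMod 23 → ZMod 2 | ∃ w ∈ Cfsg.golayCode, ∀ x : ZMod 23, u x = w (some x)} ∧ hammingNorm u = 16}.ncard = 253 ∧ ∀ u ∈ {u : ZMod 23 → ZMod 2 | ∃ w ∈ Cfsg.golayCode, ∀ x : ZMod 23, u x = w (some x)}, u ≠ 0 → 7 ≤ hammingNorm u := by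
  have hpt : ∀ p : GolayPt, p = none ↔ (ptEquiv p).val = 23 := by decide +kernel
  set C : Set (ZMod 23 → ZMod 2) := {u | ∃ w ∈ golayCode, ∀ x : ZMod 23, u x = w (some x)} with hC
  let res : ℕ → (ZMod 23 → ZMod 2) := fun n x => toWord n (some x)
  let pw : ℕ → ℕ := fun n => if n.testBit 23 then CfsgLib.M24Cert.bc n - 1 else CfsgLib.M24Cert.bc n
  have hnorm : ∀ n, hammingNorm (res n) = pw n := by
    intro n
    rw [show hammingNorm (res n) = ((toSet n).erase none).card by
      show (Finset.univ.filter fun x => res n x ≠ 0).card = _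
      rw [← Finset.card_map ⟨some, Option.some_injective (ZMod 23)⟩]
      congr 1
      ext p
      rcases p with _ | x <;> simp [res, toWord, mem_toSet]]
    show _ = if n.testBit 23 then CfsgLib.M24Cert.bc n - 1 else CfsgLib.M24Cert.bc n
    rw [← CfsgLib.M24Cert.bitCount_eq_bc]
    rw [← card_toSet, Finset.card_erase_eq_ite]
    exact if_congr (by rw [mem_toSet, (hpt none).1 rfl]) rfl rfl
  have hweights : ∀ n ∈ golayList, n = 0 ∨ 7 ≤ pw n := fun n hn =>
    of_decide_eq_true (forall_golayList (P := fun n => decide (n = 0 ∨ 7 ≤ pw n)) punct_min n hn)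
  have hinj : ∀ a ∈ golayList, ∀ b ∈ golayList, res a = res b → a = b := by
    intro a ha b hb e
    have hab := xor_mem_spanList ha hb
    have h0 : res (a ^^^ b) = 0 := by
      funext x
      show toWord (a ^^^ b) (some x) = 0
      rw [toWord_xor, Pi.add_apply, show toWord a (some x) = toWord b (some x) from congrFun e x]
      exact CharTwo.add_self_eq_zero _
    rcases hweights _ hab with h | h
    · exact Nat.xor_eq_zero_iff.1 h
    · rw [← hnorm, h0, hammingNorm_zero] at h; omega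
  have himg : C = res '' (↑golayList.toFinset : Set ℕ) := by
    ext u
    simp only [hC, Set.mem_ofPred_eq, Set.mem_image, List.coe_toFinset]
    constructor
    · rintro ⟨w, hw, hu⟩
      obtain ⟨n, hn, rfl⟩ := mem_golayCode.1 hw
      exact ⟨n, hn, funext fun x => (hu x).symm⟩
    · rintro ⟨n, hn, rfl⟩
      exact ⟨toWord n, mem_golayCode.2 ⟨n, hn, rfl⟩, fun x => rfl⟩
  have hcount : ∀ k, {u : ZMod 23 → ZMod 2 | u ∈ C ∧ hammingNorm u = k}.ncard =
      countSpan (fun n => pw n == k) golayBasis 0 := by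
    intro k
    have e : {u : ZMod 23 → ZMod 2 | u ∈ C ∧ hammingNorm u = k} =
        res '' (↑(golayList.filter fun n => pw n == k).toFinset : Set ℕ) := by
      ext u
      simp only [himg, Set.mem_ofPred_eq, Set.mem_image, List.coe_toFinset, List.mem_filter, beq_iff_eq]
      constructor
      · rintro ⟨⟨n, hn, rfl⟩, hk⟩; exact ⟨n, ⟨hn, (hnorm n).symm.trans hk⟩, rfl⟩
      · rintro ⟨n, ⟨hn, hk⟩, rfl⟩; exact ⟨⟨n, hn, rfl⟩, (hnorm n).trans hk⟩
    rw [e, Set.InjOn.ncard_image, Set.ncard_coe_finset, List.toFinset_card_of_nodup (golayList_nodup.filter _),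
      ← List.countP_eq_length_filter, countP_golayList]
    intro a ha b hb
    simp only [List.coe_toFinset, List.mem_filter, Set.mem_ofPred_eq] at ha hb
    exact hinj a ha.1 b hb.1
  obtain ⟨c7, c8, c11, c12, c15, c16⟩ := punct_counts
  refine ⟨?_, (hcount 7).trans c7, (hcount 8).trans c8, (hcount 11).trans c11, (hcount 12).trans c12,
    (hcount 15).trans c15, (hcount 16).trans c16, ?_⟩
  · rw [himg, Set.InjOn.ncard_image, Set.ncard_coe_finset, List.toFinset_card_of_nodup golayList_nodup,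
      golayList_length]
    intro a ha b hb
    simp only [List.coe_toFinset, Set.mem_ofPred_eq] at ha hb
    exact hinj a ha b hb
  · intro u hu hne
    rw [himg, Set.mem_image] at hu
    obtain ⟨n, hn, rfl⟩ := hu
    simp only [List.coe_toFinset, Set.mem_ofPred_eq] at hn
    rw [hnorm]
    refine (hweights n hn).resolve_left fun h => hne ?_
    subst h
    funext x
    exact congrFun toWord_zero (some x)

end Cfsg.Agent.S1636
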