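import Cfsg.Statements.S1637
import Cfsg.Agent.Lib.Golay.Cosets

set_option autoImplicit false
open Cfsg CfsgLib.Golay
open scoped symmDiff

namespace Cfsg.Agent.S1637

/-- The punctured length-23 code is a perfect 3-error-correcting code: each word of length 23 is within distance 3 of exactly one codeword. -/
theorem result (u : ZMod 23 → ZMod 2) : ∃! c : ZMod 23 → ZMod 2, c ∈ {u : ZMod 23 → ZMod 2 | ∃ w ∈ Cfsg.golayCode, ∀ x : ZMod 23, u x = w (some x)} ∧ hammingDist u c ≤ 3 := by
  let W : GolayPt → ZMod 2 := fun p => p.elim 0 u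
  have hres : ∀ v : GolayPt → ZMod 2, hammingNorm (fun x : ZMod 23 => v (some x)) = ((support₂ v).erase none).card := by
    intro v
    show (Finset.univ.filter fun x : ZMod 23 => v (some x) ≠ 0).card = _
    rw [← Finset.card_map ⟨some, Option.some_injective (ZMod 23)⟩]
    congr 1
    ext p
    rcases p with _ | x <;> simp [support₂]
  have hdist : ∀ w : GolayPt → ZMod 2,
      hammingDist u (fun x => w (some x)) = ((support₂ (W - w)).erase none).card := by
    intro w
    rw [← hres (W - w)]
    exact congrArg Finset.card (Finset.filter_congr fun x _ => sub_ne_zero.symm)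
  obtain ⟨s, hs, hp⟩ : ∃ s ∈ shortIn (support₂ W), (s.erase none).card ≤ 3 := by
    rcases shortIn_cases (support₂ W) with ⟨s, hs, hs3⟩ | ⟨-, h4, hcov⟩
    · exact ⟨s, hs ▸ rfl, (Finset.card_le_card (Finset.erase_subset _ _)).trans hs3⟩
    · obtain ⟨s, hs, hp⟩ := hcov none
      exact ⟨s, hs, by rw [Finset.card_erase_of_mem hp, h4 s hs]⟩
  have hs' : W - cosetWord s ∈ golayCode := by
    rw [mem_golayCode_iff, support_sub, support_cosetWord]; exact hs.2
  have hd0 : ((support₂ (W - (W - cosetWord s))).erase none).card ≤ 3 := by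
    rw [sub_sub_cancel, support_cosetWord]; exact hp
  refine ⟨fun x => (W - cosetWord s) (some x), ⟨⟨_, hs', fun x => rfl⟩, (hdist _).trans_le hd0⟩, ?_⟩
  rintro c ⟨⟨w, hw, hc⟩, hcd⟩
  have hce : c = fun x => w (some x) := funext hc
  subst hce
  rw [hdist] at hcd
  have hmem := mem_golayCode_iff.1 (golayCode.sub_mem hs' hw)
  suffices W - cosetWord s - w = 0 by rw [sub_eq_zero.1 this]
  rw [← cosetWord_support (W - cosetWord s - w)]
  have hle : ((support₂ (W - cosetWord s - w)).erase none).card ≤ 6 := by
    have e : support₂ (W - cosetWord s - w) = support₂ (W - w) ∆ s := by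
      rw [sub_right_comm, support_sub, support_cosetWord]
    refine (Finset.card_le_card (t := (support₂ (W - w)).erase none ∪ s.erase none) ?_).trans
      ((Finset.card_union_le _ _).trans (by omega))
    rw [e]
    intro p hp
    obtain ⟨h1, h2⟩ := Finset.mem_erase.1 hp
    rcases Finset.mem_symmDiff.1 h2 with h | h
    · exact Finset.mem_union_left _ (Finset.mem_erase.2 ⟨h1, h.1⟩)
    · exact Finset.mem_union_right _ (Finset.mem_erase.2 ⟨h1, h.1⟩)
  have h7 : (support₂ (W - cosetWord s - w)).card ≤ 7 := by
    have := Finset.pred_card_le_card_erase (s := support₂ (W - cosetWord s - w)) (a := none)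
    omega
  have h0 : support₂ (W - cosetWord s - w) = ∅ := by
    rcases supports_weight hmem with h | h | h | h | h
    · exact Finset.card_eq_zero.1 h
    all_goals omega
  rw [h0]
  ext p; simp [cosetWord]

end Cfsg.Agent.S1637
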