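import Cfsg.Statements.S1638
import Cfsg.Agent.Lib.M24Cert.SmallSets

set_option autoImplicit false
open scoped Pointwise
open Cfsg CfsgLib.Golay CfsgLib.M24Cert

namespace Cfsg.Agent.S1638

open Cfsg CfsgLib.Golay CfsgLib.M24Cert in
theorem sel_ok : allLt (fun i => (!(one pairTbl i).testBit 0 && !(one pairTbl i).testBit 1) ==
    Nat.beq (Nat.land (one pairTbl i) 3) 0) pairTbl.N = true := by
  decide +kernel


/-- Fix two points p ≠ q and a pair s of two further points. Among the pairs avoiding p, q and disjoint from s, exactly 30 lie in an octad together with p, q and s and exactly 160 do not; and any two pairs other than s that meet s in equally many points and agree on that octad property are carried to one another by an element of the group of the length-24 code fixing p, q and s. -/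
theorem result (p q : Cfsg.GolayPt) (hpq : p ≠ q) (s : Finset Cfsg.GolayPt) (hs : (s.card = 2 ∧ p ∉ s ∧ q ∉ s)) : {t : Finset Cfsg.GolayPt | (t.card = 2 ∧ p ∉ t ∧ q ∉ t) ∧ Disjoint s t ∧ (∃ o ∈ Cfsg.octads, p ∈ o ∧ q ∈ o ∧ s ∪ t ⊆ o)}.ncard = 30 ∧ {t : Finset Cfsg.GolayPt | (t.card = 2 ∧ p ∉ t ∧ q ∉ t) ∧ Disjoint s t ∧ ¬ (∃ o ∈ Cfsg.octads, p ∈ o ∧ q ∈ o ∧ s ∪ t ⊆ o)}.ncard = 160 ∧ ∀ t t' : Finset Cfsg.GolayPt, (t.card = 2 ∧ p ∉ t ∧ q ∉ t) → (t'.card = 2 ∧ p ∉ t' ∧ q ∉ t') → t ≠ s → t' ≠ s → (s ∩ t).card = (s ∩ t').card → ((∃ o ∈ Cfsg.octads, p ∈ o ∧ q ∈ o ∧ s ∪ t ⊆ o) ↔ (∃ o ∈ Cfsg.octads, p ∈ o ∧ q ∈ o ∧ s ∪ t' ⊆ o)) → ∃ g : Equiv.Perm Cfsg.GolayPt, g ∈ Cfsg.M24 ∧ g p = p ∧ g q = q ∧ g • s = s ∧ g • t = t' := by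
  obtain ⟨hs2, hps, hqs⟩ := hs
  obtain ⟨a, b, hab, rfl⟩ := Finset.card_eq_two.1 hs2
  simp only [Finset.mem_insert, Finset.mem_singleton, not_or] at hps hqs
  obtain ⟨-, e12, -, e15, h01, h02, h12, h03, h13, h23⟩ := pair_base_eq
  obtain ⟨g, hg, rfl, rfl, rfl, rfl⟩ :=
    M24_map_four h01 h02 h03 h12 h13 h23 hpq hps.1 hps.2 hqs.1 hqs.2 hab
  have hgs : ({g (pt 2), g (pt 3)} : Finset GolayPt) = g • toSet 12 := by
    rw [e12]; simp [Finset.smul_finset_insert, Finset.smul_finset_singleton, Equiv.Perm.smul_def]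
  simp only [hgs]
  obtain ⟨hfix, hcl, c30, c160⟩ := quad_forest
  have hoct : ∀ t : Finset GolayPt,
      (∃ o ∈ octads, g (pt 0) ∈ o ∧ g (pt 1) ∈ o ∧ g • toSet 12 ∪ g • t ⊆ o) ↔
        ∃ o ∈ octads, toSet 15 ∪ t ⊆ o := by
    intro t
    rw [← in_octad_smul hg (toSet 15 ∪ t), e15]
    refine exists_congr fun o => and_congr_right fun _ => ?_
    simp [Finset.smul_finset_union, Finset.smul_finset_insert, Finset.smul_finset_singleton,
      Equiv.Perm.smul_def, Finset.union_subset_iff, Finset.insert_subset_iff, and_assoc]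
  have hbase : ∀ t : Finset GolayPt, (g • t).card = 2 ∧ g (pt 0) ∉ g • t ∧ g (pt 1) ∉ g • t ↔
      (t.card = 2 ∧ pt 0 ∉ t ∧ pt 1 ∉ t) := fun t => by
    rw [card_smul_iff, apply_mem_smul, apply_mem_smul]
  have hsel : ∀ i < pairTbl.N, (pt 0 ∉ toSet (one pairTbl i) ∧ pt 1 ∉ toSet (one pairTbl i)) ↔
      Nat.beq (Nat.land (one pairTbl i) 3) 0 = true := fun i hi => by
    rw [Nat.beq_eq, pt_mem_toSet (by omega), pt_mem_toSet (by omega)]
    have h := allLt_spec sel_ok i hi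
    simp only [Bool.beq_eq_decide_eq, decide_eq_true_eq] at h
    constructor
    · intro hh
      rw [Bool.not_eq_true, Bool.not_eq_true] at hh
      rw [hh.1, hh.2] at h
      exact Nat.eq_of_beq_eq_true h.symm
    · intro hh
      rw [hh, Nat.beq_refl] at h
      simpa using h
  refine ⟨?_, ?_, ?_⟩
  · rw [ncard_smul_iff g _ (fun t => t.card = 2 ∧ (pt 0 ∉ t ∧ pt 1 ∉ t) ∧ Disjoint (toSet 12) t ∧
        ∃ o ∈ octads, toSet 15 ∪ t ⊆ o)
      (fun t => by rw [hbase, disjoint_smul, hoct]; simp only [and_assoc])]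
    refine (pairs_complete.count (fun t => (pt 0 ∉ t ∧ pt 1 ∉ t) ∧ Disjoint (toSet 12) t ∧
        ∃ o ∈ octads, toSet 15 ∪ t ⊆ o)
      (fun n => Nat.beq (Nat.land n 3) 0 && Nat.beq (bc (Nat.land 12 n)) 0 && inSome octsFour (15 ||| n))
      fun i hi => ?_).trans c30
    rw [hsel i hi, disjoint_mask (by norm_num), inSome_iff octsFour_ok (by norm_num) (one_lt _ _ rfl)]
    simp only [Bool.and_eq_true, Nat.beq_eq, and_assoc]
  · rw [ncard_smul_iff g _ (fun t => t.card = 2 ∧ (pt 0 ∉ t ∧ pt 1 ∉ t) ∧ Disjoint (toSet 12) t ∧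
        ¬ ∃ o ∈ octads, toSet 15 ∪ t ⊆ o)
      (fun t => by rw [hbase, disjoint_smul, hoct]; simp only [and_assoc])]
    refine (pairs_complete.count (fun t => (pt 0 ∉ t ∧ pt 1 ∉ t) ∧ Disjoint (toSet 12) t ∧
        ¬ ∃ o ∈ octads, toSet 15 ∪ t ⊆ o)
      (fun n => Nat.beq (Nat.land n 3) 0 && Nat.beq (bc (Nat.land 12 n)) 0 && !inSome octsFour (15 ||| n))
      fun i hi => ?_).trans c160
    rw [hsel i hi, disjoint_mask (by norm_num), inSome_iff octsFour_ok (by norm_num) (one_lt _ _ rfl)]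
    simp only [Bool.and_eq_true, Nat.beq_eq, and_assoc, Bool.not_eq_true', Bool.not_eq_true]
  intro t t' ht ht' _ _ hcard hiff
  obtain ⟨V, rfl⟩ : ∃ V, t = g • V := ⟨g⁻¹ • t, (smul_inv_smul g t).symm⟩
  obtain ⟨V', rfl⟩ : ∃ V, t' = g • V := ⟨g⁻¹ • t', (smul_inv_smul g t').symm⟩
  rw [hbase] at ht ht'
  rw [inter_card_smul, inter_card_smul] at hcard
  rw [hoct, hoct] at hiff
  obtain ⟨u, hu, e⟩ := pairs_complete.conj_key hcl (fixOk_spec hfix) (s := V) (s' := V') ht.1 ht'.1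
    (fun i hi j hj ei ej => by
      subst ei ej
      rw [card_inter_mask, card_inter_mask] at hcard
      rw [inSome_iff octsFour_ok (by norm_num) (one_lt _ _ rfl), inSome_iff octsFour_ok (by norm_num) (one_lt _ _ rfl),
        ← Bool.eq_iff_iff] at hiff
      exact ⟨(hsel i hi).1 ht.2, (hsel j hj).1 ht'.2, by rw [hcard, hiff]⟩)
  exact ⟨g * u * g⁻¹, mem_M24_conj hg (mem_fixMasks.1 hu).1,
    by rw [conj_apply, fixMasks_point hu (by omega) (by simp)],
    by rw [conj_apply, fixMasks_point hu (by omega) (by simp)],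
    by rw [conj_smul_smul, (mem_fixMasks.1 hu).2 12 (by simp)],
    by rw [conj_smul_smul, e]⟩

end Cfsg.Agent.S1638
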