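import Cfsg.Statements.S1639
import Cfsg.Agent.Lib.M24Cert.SmallSets

set_option autoImplicit false
open scoped Pointwise
open Cfsg CfsgLib.Golay CfsgLib.M24Cert

namespace Cfsg.Agent.S1639

open Cfsg CfsgLib.Golay CfsgLib.M24Cert in
theorem dodPt_classes : fixOk [1, baseDodecad] dodPtOnDodGens = true ∧
    classesOk dodTbl dodPtOnDodGens dodPtOnDodAux (fun n => n.testBit 0) (fun n => bc (Nat.land baseDodecad n))
      [(12, 23), (8, 0), (6, 9), (4, 213)] = true ∧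
    countLt (fun i => (one dodTbl i).testBit 0 && Nat.beq (bc (Nat.land baseDodecad (one dodTbl i))) 4) dodTbl.N = 165 ∧
    countLt (fun i => (one dodTbl i).testBit 0 && Nat.beq (bc (Nat.land baseDodecad (one dodTbl i))) 8) dodTbl.N = 330 ∧
    countLt (fun i => (one dodTbl i).testBit 0 && Nat.beq (bc (Nat.land baseDodecad (one dodTbl i))) 6) dodTbl.N = 792 := by
  refine ⟨?_, ?_, ?_, ?_, ?_⟩ <;> decide +kernel


/-- The point stabiliser acts on the 1288 dodecads through the point with rank 4 and subdegrees 1, 165, 330, 792, distinguished by intersection 4, 8, 6 with the fixed dodecad. -/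
theorem result (x : Cfsg.GolayPt) (d : Finset Cfsg.GolayPt) (hd : d ∈ Cfsg.dodecads) (hx : x ∈ d) : {d' : Finset Cfsg.GolayPt | d' ∈ Cfsg.dodecads ∧ x ∈ d' ∧ (d ∩ d').card = 4}.ncard = 165 ∧ {d' : Finset Cfsg.GolayPt | d' ∈ Cfsg.dodecads ∧ x ∈ d' ∧ (d ∩ d').card = 8}.ncard = 330 ∧ {d' : Finset Cfsg.GolayPt | d' ∈ Cfsg.dodecads ∧ x ∈ d' ∧ (d ∩ d').card = 6}.ncard = 792 ∧ ∀ d' d'' : Finset Cfsg.GolayPt, d' ∈ Cfsg.dodecads → d'' ∈ Cfsg.dodecads → x ∈ d' → x ∈ d'' → (d ∩ d').card = (d ∩ d'').card → ∃ g : Equiv.Perm Cfsg.GolayPt, g ∈ Cfsg.M24 ∧ g x = x ∧ g • d = d ∧ g • d' = d'' := by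
  obtain ⟨g, hg, rfl, rfl⟩ := dodecad_point_transitive hd hx
  obtain ⟨hfix, hcl, c4, c8, c6⟩ := dodPt_classes
  have hc : ∀ k, {d' : Finset GolayPt | d' ∈ dodecads ∧ g (pt 0) ∈ d' ∧ (g • toSet baseDodecad ∩ d').card = k}.ncard =
      countLt (fun i => (one dodTbl i).testBit 0 && Nat.beq (bc (Nat.land baseDodecad (one dodTbl i))) k) dodTbl.N := by
    intro k
    rw [ncard_smul_iff g _ (fun U => U ∈ dodecads ∧ pt 0 ∈ U ∧ (toSet baseDodecad ∩ U).card = k)
      (fun U => by rw [dodecads_smul_iff hg, apply_mem_smul, inter_card_smul])]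
    exact dodecads_complete.count (fun U => pt 0 ∈ U ∧ (toSet baseDodecad ∩ U).card = k)
      (fun n => n.testBit 0 && Nat.beq (bc (Nat.land baseDodecad n)) k)
      (fun i _ => by rw [card_inter_mask, Bool.and_eq_true, Nat.beq_eq, pt_mem_toSet (by omega)])
  refine ⟨(hc 4).trans c4, (hc 8).trans c8, (hc 6).trans c6, ?_⟩
  intro d' d'' hd' hd'' hx' hx'' h
  obtain ⟨U', rfl⟩ : ∃ U, d' = g • U := ⟨g⁻¹ • d', (smul_inv_smul g d').symm⟩
  obtain ⟨U'', rfl⟩ : ∃ U, d'' = g • U := ⟨g⁻¹ • d'', (smul_inv_smul g d'').symm⟩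
  rw [dodecads_smul_iff hg] at hd' hd''
  rw [apply_mem_smul] at hx' hx''
  rw [inter_card_smul, inter_card_smul] at h
  obtain ⟨u, hu, e⟩ := dodecads_complete.conj_key hcl (fixOk_spec hfix) hd' hd'' (fun i _ j _ ei ej => by
    subst ei ej
    rw [card_inter_mask, card_inter_mask] at h
    rw [pt_mem_toSet (by omega)] at hx' hx''
    exact ⟨hx', hx'', h⟩)
  exact ⟨g * u * g⁻¹, mem_M24_conj hg (mem_fixMasks.1 hu).1,
    by rw [conj_apply, fixMasks_point hu (by omega) (by simp)],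
    by rw [conj_smul_smul, (mem_fixMasks.1 hu).2 baseDodecad (by simp)],
    by rw [conj_smul_smul, e]⟩

end Cfsg.Agent.S1639
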