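import Cfsg.Statements.S1640
import Cfsg.Agent.Lib.Leech.Sections

set_option autoImplicit false
open Cfsg

namespace Cfsg.Agent.S1640

/-- The stabiliser of a vector of customary norm 6 is transitive on the 11178 minimal vectors of customary inner product −2 with it. -/
theorem result (u : ↥Cfsg.leechLattice) (hu : Cfsg.sqNorm (u : Cfsg.GolayPt → ℤ) = 48) : {x : ↥Cfsg.leechLattice | Cfsg.sqNorm (x : Cfsg.GolayPt → ℤ) = 32 ∧ Cfsg.dotInt (u : Cfsg.GolayPt → ℤ) (x : Cfsg.GolayPt → ℤ) = -16}.ncard = 11178 ∧ ∀ x ∈ {x : ↥Cfsg.leechLattice | Cfsg.sqNorm (x : Cfsg.GolayPt → ℤ) = 32 ∧ Cfsg.dotInt (u : Cfsg.GolayPt → ℤ) (x : Cfsg.GolayPt → ℤ) = -16}, ∀ x' ∈ {x : ↥Cfsg.leechLattice | Cfsg.sqNorm (x : Cfsg.GolayPt → ℤ) = 32 ∧ Cfsg.dotInt (u : Cfsg.GolayPt → ℤ) (x : Cfsg.GolayPt → ℤ) = -16}, ∃ g : ↥Cfsg.Co0, g • u = u ∧ g • x = x' := by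
  obtain ⟨g, hg⟩ := CfsgLib.Leech.exists_smul_eq_base48 hu
  refine ⟨(CfsgLib.Leech.ncard_dot_one g hg (-16)).trans CfsgLib.Leech.ncard_base48.2, ?_⟩
  have key : ∀ z : Cfsg.leechLattice, Cfsg.sqNorm (z : Cfsg.GolayPt → ℤ) = 32 →
      Cfsg.dotInt (u : Cfsg.GolayPt → ℤ) (z : Cfsg.GolayPt → ℤ) = -16 →
      ∃ g : Cfsg.Co0, ((g • u : Cfsg.leechLattice) : Cfsg.GolayPt → ℤ) = CfsgLib.Leech.base48 ∧
        ((g • (-z) : Cfsg.leechLattice) : Cfsg.GolayPt → ℤ) = CfsgLib.Leech.pair48x := fun z hz hd =>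
    CfsgLib.Leech.exists_pair48 hu (by rw [AddSubgroup.coe_neg, CfsgLib.Leech.sqNorm_neg, hz])
      (by rw [AddSubgroup.coe_neg, CfsgLib.Leech.dotInt_neg_right, hd]; norm_num)
  rintro x ⟨hx, hxd⟩ x' ⟨hx', hxd'⟩
  obtain ⟨a, h1, h2⟩ := CfsgLib.Leech.exists_map_pair (key x hx hxd) (key x' hx' hxd')
  rw [CfsgLib.Leech.smul_neg', neg_inj] at h2
  exact ⟨a, h1, h2⟩

end Cfsg.Agent.S1640
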