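import Cfsg.Statements.S1641
import Cfsg.Agent.Lib.Leech.HSRank5Orb

set_option autoImplicit false
open Cfsg

namespace Cfsg.Agent.S1641

open CfsgLib.Leech CfsgLib.Leech.HSVec CfsgLib.Leech.HSFive

theorem dot_cases {u x y : ↥leechLattice} (hu : sqNorm (u : GolayPt → ℤ) = 48)
    (hx : sqNorm (x : GolayPt → ℤ) = 32) (hux : dotInt (u : GolayPt → ℤ) x = -16)
    (hy : sqNorm (y : GolayPt → ℤ) = 32) (huy : dotInt (u : GolayPt → ℤ) y = -16) (hne : y ≠ x) :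
    dotInt (x : GolayPt → ℤ) y = -8 ∨ dotInt (x : GolayPt → ℤ) y = 0 ∨ dotInt (x : GolayPt → ℤ) y = 8 ∨
      dotInt (x : GolayPt → ℤ) y = 16 := by
  obtain ⟨k, hk⟩ := eight_dvd_dotInt x.2 y.2
  have n1 : (x : GolayPt → ℤ) - (y : GolayPt → ℤ) ≠ 0 := fun e => hne (Subtype.ext (sub_eq_zero.1 e).symm)
  have n2 : (u : GolayPt → ℤ) + ((x : GolayPt → ℤ) + (y : GolayPt → ℤ)) ≠ 0 := fun e => by
    have h : dotInt (u : GolayPt → ℤ) ((u : GolayPt → ℤ) + ((x : GolayPt → ℤ) + (y : GolayPt → ℤ))) = 0 := by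
      rw [e]; simp [dotInt]
    rw [CfsgLib.Leech.dotInt_add_right, CfsgLib.Leech.dotInt_add_right, dotInt_self, hu, hux, huy] at h
    norm_num at h
  have l1 := min_norm (sub_mem x.2 y.2) n1
  have l2 := min_norm (add_mem u.2 (add_mem x.2 y.2)) n2
  rw [CfsgLib.Leech.sqNorm_sub, hx, hy, hk] at l1
  rw [CfsgLib.Leech.sqNorm_add, CfsgLib.Leech.sqNorm_add, CfsgLib.Leech.dotInt_add_right, hu, hux, huy, hx, hy, hk] at l2
  omega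


/-- The third Conway group acts on the 11178 cosets of the Higman–Sims group with rank 5 and subdegrees 1, 352, 1100, 4125, 5600. -/
theorem result (u x : ↥Cfsg.leechLattice) (hu : Cfsg.sqNorm (u : Cfsg.GolayPt → ℤ) = 48) (hx : x ∈ {x : ↥Cfsg.leechLattice | Cfsg.sqNorm (x : Cfsg.GolayPt → ℤ) = 32 ∧ Cfsg.dotInt (u : Cfsg.GolayPt → ℤ) (x : Cfsg.GolayPt → ℤ) = -16}) : ∃ y₁ ∈ {x : ↥Cfsg.leechLattice | Cfsg.sqNorm (x : Cfsg.GolayPt → ℤ) = 32 ∧ Cfsg.dotInt (u : Cfsg.GolayPt → ℤ) (x : Cfsg.GolayPt → ℤ) = -16}, ∃ y₂ ∈ {x : ↥Cfsg.leechLattice | Cfsg.sqNorm (x : Cfsg.GolayPt → ℤ) = 32 ∧ Cfsg.dotInt (u : Cfsg.GolayPt → ℤ) (x : Cfsg.GolayPt → ℤ) = -16}, ∃ y₃ ∈ {x : ↥Cfsg.leechLattice | Cfsg.sqNorm (x : Cfsg.GolayPt → ℤ) = 32 ∧ Cfsg.dotInt (u : Cfsg.GolayPt → ℤ) (x : Cfsg.GolayPt → ℤ) = -16}, ∃ y₄ ∈ {x : ↥Cfsg.leechLattice | Cfsg.sqNorm (x : Cfsg.GolayPt → ℤ)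 = 32 ∧ Cfsg.dotInt (u : Cfsg.GolayPt → ℤ) (x : Cfsg.GolayPt → ℤ) = -16}, (MulAction.orbit ↥(MulAction.stabilizer ↥Cfsg.Co0 u ⊓ MulAction.stabilizer ↥Cfsg.Co0 x) y₁).ncard = 352 ∧ (MulAction.orbit ↥(MulAction.stabilizer ↥Cfsg.Co0 u ⊓ MulAction.stabilizer ↥Cfsg.Co0 x) y₂).ncard = 1100 ∧ (MulAction.orbit ↥(MulAction.stabilizer ↥Cfsg.Co0 u ⊓ MulAction.stabilizer ↥Cfsg.Co0 x) y₃).ncard = 4125 ∧ (MulAction.orbit ↥(MulAction.stabilizer ↥Cfsg.Co0 u ⊓ MulAction.stabilizer ↥Cfsg.Co0 x) y₄).ncard = 5600 ∧ {x : ↥Cfsg.leechLattice | Cfsg.sqNorm (x : Cfsg.GolayPt → ℤ) = 32 ∧ Cfsg.dotInt (u : Cfsg.GolayPt → ℤ) (x : Cfsg.GolayPt → ℤ) = -16} = {x} ∪ MulAction.orbit ↥(MulAction.stabilizer ↥Cfsg.Co0 u ⊓ MulAction.stabilizer ↥Cfsg.Co0 x) y₁ ∪ MulAction.orbit ↥(MulAction.stabilizer ↥Cfsg.Co0 u ⊓ MulAction.stabilizer ↥Cfsg.Co0 x) y₂ ∪ MulAction.orbit ↥(MulAction.stabilizer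 ↥Cfsg.Co0 u ⊓ MulAction.stabilizer ↥Cfsg.Co0 x) y₃ ∪ MulAction.orbit ↥(MulAction.stabilizer ↥Cfsg.Co0 u ⊓ MulAction.stabilizer ↥Cfsg.Co0 x) y₄ := by
  obtain ⟨hxn, hxd⟩ := hx
  obtain ⟨h, hu', hx'⟩ := exists_map_pair
    (exists_pair48 (u := u) (x := -x) hu (by rw [AddSubgroup.coe_neg, CfsgLib.Leech.sqNorm_neg, hxn])
      (by rw [AddSubgroup.coe_neg, CfsgLib.Leech.dotInt_neg_right, hxd]; norm_num))
    (exists_pair48 (u := stdU) (x := stdW) std_facts.1 std_facts.2.1 std_facts.2.2)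
  have hx2 : h • x = -stdW := by rw [← hx', CfsgLib.Leech.smul_neg', neg_neg]
  set S := {y : ↥leechLattice | sqNorm (y : GolayPt → ℤ) = 32 ∧ dotInt (u : GolayPt → ℤ) y = -16} with hS
  set K := MulAction.stabilizer Co0 u ⊓ MulAction.stabilizer Co0 x with hK
  set C : ℤ → Set ↥leechLattice := fun d => {y | sqNorm (y : GolayPt → ℤ) = 32 ∧
    dotInt (u : GolayPt → ℤ) y = -16 ∧ dotInt (x : GolayPt → ℤ) y = d} with hC
  have hmove : ∀ {d : ℤ} {y : ↥leechLattice}, y ∈ C d → h • y ∈ cls d := by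
    rintro d y ⟨a, b, c⟩
    refine ⟨(sqNorm_smul_co _ _).trans a, ?_, ?_⟩
    · rw [← hu', dot_smul_co, b]
    · rw [← hx', dot_smul_co, AddSubgroup.coe_neg, CfsgLib.Leech.dotInt_comm,
        CfsgLib.Leech.dotInt_neg_right, CfsgLib.Leech.dotInt_comm, c]
  have horb : ∀ {d : ℤ}, (d = -8 ∨ d = 0 ∨ d = 8 ∨ d = 16) → ∀ {y : ↥leechLattice}, y ∈ C d →
      MulAction.orbit K y = C d := by
    intro d hd y hy
    ext z
    constructor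
    · rintro ⟨⟨k, hk⟩, rfl⟩
      obtain ⟨a, b, c⟩ := hy
      have k1 : k • u = u := hk.1
      have k2 : k • x = x := hk.2
      refine ⟨(sqNorm_smul_co _ _).trans a, ?_, ?_⟩
      · have e := dot_smul_co k u y
        rw [k1] at e
        exact e.trans b
      · have e := dot_smul_co k x y
        rw [k2] at e
        exact e.trans c
    · intro hz
      obtain ⟨g, hg, hgy⟩ := cls_transitive hd (hmove hy) (hmove hz)
      obtain ⟨g1, g2⟩ := mem_pairStab.1 hg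
      refine ⟨⟨h⁻¹ * (g * h), ?_, ?_⟩, ?_⟩
      · show (h⁻¹ * (g * h)) • u = u
        rw [mul_smul, mul_smul, hu', g1, ← hu', inv_smul_smul]
      · show (h⁻¹ * (g * h)) • x = x
        rw [mul_smul, mul_smul, hx2, CfsgLib.Leech.smul_neg', g2, ← hx2, inv_smul_smul]
      · show (h⁻¹ * (g * h)) • y = z
        rw [mul_smul, mul_smul, hgy, inv_smul_smul]
  have hn : ∀ dn ∈ [((-8 : ℤ), 352), (16, 1100), (0, 4125), (8, 5600)], (C dn.1).ncard = dn.2 :=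
    ncard_classes u x h (congrArg Subtype.val hu') (by rw [hx2]; rfl)
  have n1 := hn (-8, 352) (by simp)
  have n2 := hn (16, 1100) (by simp)
  have n3 := hn (0, 4125) (by simp)
  have n4 := hn (8, 5600) (by simp)
  dsimp only at n1 n2 n3 n4
  obtain ⟨y₁, h1⟩ := Set.nonempty_of_ncard_ne_zero (s := C (-8)) (by omega)
  obtain ⟨y₂, h2⟩ := Set.nonempty_of_ncard_ne_zero (s := C 16) (by omega)
  obtain ⟨y₃, h3⟩ := Set.nonempty_of_ncard_ne_zero (s := C 0) (by omega)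
  obtain ⟨y₄, h4⟩ := Set.nonempty_of_ncard_ne_zero (s := C 8) (by omega)
  have o1 := horb (by omega) h1
  have o2 := horb (by omega) h2
  have o3 := horb (by omega) h3
  have o4 := horb (by omega) h4
  refine ⟨y₁, ⟨h1.1, h1.2.1⟩, y₂, ⟨h2.1, h2.2.1⟩, y₃, ⟨h3.1, h3.2.1⟩, y₄, ⟨h4.1, h4.2.1⟩, ?_⟩
  rw [o1, o2, o3, o4]
  refine ⟨n1, n2, n3, n4, ?_⟩
  ext y
  simp only [hS, hC, Set.mem_union, Set.mem_singleton_iff, Set.mem_setOf_eq]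
  constructor
  · rintro ⟨a, b⟩
    by_cases e : y = x
    · simp [e]
    rcases dot_cases hu hxn hxd a b e with c | c | c | c <;> simp [a, b, c]
  · rintro ((((e | ⟨a, b, -⟩) | ⟨a, b, -⟩) | ⟨a, b, -⟩) | ⟨a, b, -⟩)
    · rw [e]; exact ⟨hxn, hxd⟩
    all_goals exact ⟨a, b⟩

end Cfsg.Agent.S1641
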