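import Cfsg.Statements.S1642
import Cfsg.Agent.Lib.Leech.HSInvol

set_option autoImplicit false
open Cfsg

namespace Cfsg.Agent.S1642

open CfsgLib.Leech in
private theorem sum_facts {v w : Cfsg.leechLattice} (hv : Cfsg.sqNorm (v : Cfsg.GolayPt → ℤ) = 48)
    (hw : Cfsg.sqNorm (w : Cfsg.GolayPt → ℤ) = 48)
    (hvw : Cfsg.dotInt (v : Cfsg.GolayPt → ℤ) (w : Cfsg.GolayPt → ℤ) = -32) :
    Cfsg.sqNorm ((v + w : Cfsg.leechLattice) : Cfsg.GolayPt → ℤ) = 32 ∧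
    Cfsg.dotInt (v : Cfsg.GolayPt → ℤ) ((v + w : Cfsg.leechLattice) : Cfsg.GolayPt → ℤ) = 16 ∧
    ∀ x : Cfsg.leechLattice, Cfsg.dotInt (v : Cfsg.GolayPt → ℤ) (x : Cfsg.GolayPt → ℤ) = 24 →
      (Cfsg.dotInt (w : Cfsg.GolayPt → ℤ) (x : Cfsg.GolayPt → ℤ) = -24 ↔
        Cfsg.dotInt ((v + w : Cfsg.leechLattice) : Cfsg.GolayPt → ℤ) (x : Cfsg.GolayPt → ℤ) = 0) := by
  refine ⟨?_, ?_, fun x hx => ?_⟩
  · rw [AddSubgroup.coe_add, sqNorm_add, hv, hw, hvw]; norm_num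
  · rw [AddSubgroup.coe_add, dotInt_add_right, dotInt_self, hv, hvw]; norm_num
  · rw [AddSubgroup.coe_add, dotInt_comm ((v : Cfsg.GolayPt → ℤ) + (w : Cfsg.GolayPt → ℤ)), dotInt_add_right,
      dotInt_comm (x : Cfsg.GolayPt → ℤ), hx, dotInt_comm (x : Cfsg.GolayPt → ℤ)]
    omega


/-- Some involution of the Higman–Sims group acts without fixed points on its 100 points. -/
theorem result (v w : ↥Cfsg.leechLattice) (hv : Cfsg.sqNorm (v : Cfsg.GolayPt → ℤ) = 48) (hw : Cfsg.sqNorm (w : Cfsg.GolayPt → ℤ) = 48) (hvw : Cfsg.dotInt (v : Cfsg.GolayPt → ℤ) (w : Cfsg.GolayPt → ℤ) = -32) : ∃ g : ↥Cfsg.Co0, g • v = v ∧ g • w = w ∧ orderOf g = 2 ∧ ∀ x ∈ {x : ↥Cfsg.leechLattice | Cfsg.sqNorm (x : Cfsg.GolayPt → ℤ) = 32 ∧ Cfsg.dotInt (v : Cfsg.GolayPt → ℤ) (x : Cfsg.GolayPt → ℤ) = 24 ∧ Cfsg.dotInt (w : Cfsg.GolayPt → ℤ) (x : Cfsg.GolayPt → ℤ) = -24}, g • x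 ≠ x := by
  obtain ⟨hs, hvs, hiff⟩ := sum_facts hv hw hvw
  obtain ⟨a, ha, ha'⟩ := CfsgLib.Leech.exists_pair48 hv hs hvs
  obtain ⟨h, hord, hfix, hmove⟩ := CfsgLib.Leech.exists_hs_invol
  have e1 : (a⁻¹ * h * a) • v = v := by
    rw [mul_smul, mul_smul, hfix _ (Or.inl ha), inv_smul_smul]
  have e2 : (a⁻¹ * h * a) • (v + w) = v + w := by
    rw [mul_smul, mul_smul, hfix _ (Or.inr ha'), inv_smul_smul]
  refine ⟨a⁻¹ * h * a, e1, ?_, ?_, ?_⟩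
  · rw [CfsgLib.Leech.smul_add', e1] at e2
    exact add_left_cancel e2
  · have : a⁻¹ * h * a = MulAut.conj a⁻¹ h := by simp [MulAut.conj_apply]
    rw [this, MulEquiv.orderOf_eq, hord]
  rintro x ⟨hx, hvx, hwx⟩ hfx
  refine hmove (a • x) (by rw [CfsgLib.Leech.sqNorm_smul_co, hx])
    (by rw [← ha, CfsgLib.Leech.dot_smul_co, hvx])
    (by rw [← ha', CfsgLib.Leech.dot_smul_co]; exact (hiff x hvx).1 hwx) ?_
  have := congrArg (fun z => a • z) hfx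
  simpa [mul_smul] using this

end Cfsg.Agent.S1642
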