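import Cfsg.Statements.S1643
import Cfsg.Agent.Lib.M24Cert.Frob253

set_option autoImplicit false
open scoped Pointwise
open Cfsg

namespace Cfsg.Agent.S1643

open CfsgLib.Golay CfsgLib.M24Cert CfsgLib.M24Cert.Frob253

theorem units_squares : ∀ u : (ZMod 23)ˣ, (∃ r, u = r * r) →
    (u : ZMod 23).val ∈ squares ∧ ∀ p, (ptEquiv (Equiv.optionCongr (Units.mulLeft u) p)).val =
      (affL (u : ZMod 23).val 0).getD (ptEquiv p).val 0 := by decide +kernel

theorem square_mem {g : Equiv.Perm GolayPt} (h : g ∈ {g : Equiv.Perm GolayPt | ∃ u : (ZMod 23)ˣ, IsSquare u ∧ g = Equiv.optionCongr (Units.mulLeft u)}) :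
    g ∈ frob := by
  obtain ⟨u, ⟨r, hr⟩, rfl⟩ := h
  obtain ⟨hu, hp⟩ := units_squares u ⟨r, hr⟩
  have hA : affL (u : ZMod 23).val 0 ∈ affList :=
    List.mem_flatMap.2 ⟨_, hu, List.mem_map.2 ⟨0, List.mem_range.2 (by omega), rfl⟩⟩
  rw [perm_eq_permOf (aff_spec hA).1 hp]
  exact (aff_spec hA).2.2.1

theorem two_mem : pL (mulList 2) ∈ {g : Equiv.Perm GolayPt | ∃ u : (ZMod 23)ˣ, IsSquare u ∧ g = Equiv.optionCongr (Units.mulLeft u)} := by
  refine ⟨⟨2, 12, by decide, by decide⟩, ⟨⟨5, 14, by decide, by decide⟩, by decide⟩, (perm_eq_permOf (by decide +kernel) ?_).symm⟩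
  decide +kernel

theorem frob_eq : Subgroup.closure ({Equiv.optionCongr (Equiv.addRight (1 : ZMod 23))} ∪
    {g : Equiv.Perm GolayPt | ∃ u : (ZMod 23)ˣ, IsSquare u ∧ g = Equiv.optionCongr (Units.mulLeft u)}) = frob := by
  refine le_antisymm ((Subgroup.closure_le _).2 ?_) (Subgroup.closure_mono ?_)
  · rintro g (rfl | hg)
    · rw [translation_eq]; exact Subgroup.subset_closure (Or.inl rfl)
    · exact square_mem hg
  · rintro g (rfl | rfl)
    · exact Or.inl translation_eq.symm
    · exact Or.inr two_mem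

theorem psl_eq : Subgroup.closure ({Equiv.optionCongr (Equiv.addRight (1 : ZMod 23)), Cfsg.projInv} ∪
    {g : Equiv.Perm GolayPt | ∃ u : (ZMod 23)ˣ, IsSquare u ∧ g = Equiv.optionCongr (Units.mulLeft u)}) = psl := by
  refine le_antisymm ((Subgroup.closure_le _).2 ?_) (Subgroup.closure_mono ?_)
  · rintro g ((rfl | rfl) | hg)
    · rw [translation_eq]; exact Subgroup.subset_closure (Or.inl rfl)
    · rw [projInv_eq]; exact Subgroup.subset_closure (Or.inr (Or.inr rfl))
    · exact frob_le_psl (square_mem hg)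
  · rintro g (rfl | rfl | rfl)
    · exact Or.inl (Or.inl translation_eq.symm)
    · exact Or.inr two_mem
    · exact Or.inl (Or.inr projInv_eq.symm)

theorem pt_inf : pt 23 = (none : GolayPt) := by decide +kernel


/-- PSL(2, 23) = ⟨t ↦ t+1, t ↦ u t (u square), t ↦ −1/t⟩ is maximal of order 6072 in the group of the length-24 code, and its point stabiliser 23:11 (order 253) is maximal in the Mathieu group of degree 23. -/
theorem result : (Subgroup.closure ({Equiv.optionCongr (Equiv.addRight (1 : ZMod 23)), Cfsg.projInv} ∪ {g : Equiv.Perm Cfsg.GolayPt | ∃ u : (ZMod 23)ˣ, IsSquare u ∧ g = Equiv.optionCongr (Units.mulLeft u)}) ≤ Cfsg.M24 ∧ Nat.card ↥(Subgroup.closure ({Equiv.optionCongr (Equiv.addRight (1 : ZMod 23)), Cfsg.projInv} ∪ {g : Equiv.Perm Cfsg.GolayPt | ∃ u : (ZMod 23)ˣ, IsSquare u ∧ g = Equiv.optionCongr (Units.mulLeft u)})) = 6072 ∧ IsCoatom ((Subgroup.closure ({Equiv.optionCongr (Equiv.addRight (1 : ZMod 23)), Cfsg.projInv} ∪ {g : Equiv.Perm Cfsg.GolayPt | ∃ u :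 (ZMod 23)ˣ, IsSquare u ∧ g = Equiv.optionCongr (Units.mulLeft u)})).subgroupOf Cfsg.M24)) ∧ (Subgroup.closure ({Equiv.optionCongr (Equiv.addRight (1 : ZMod 23))} ∪ {g : Equiv.Perm Cfsg.GolayPt | ∃ u : (ZMod 23)ˣ, IsSquare u ∧ g = Equiv.optionCongr (Units.mulLeft u)}) ≤ Cfsg.M24 ⊓ MulAction.stabilizer (Equiv.Perm Cfsg.GolayPt) (none : Cfsg.GolayPt) ∧ Nat.card ↥(Subgroup.closure ({Equiv.optionCongr (Equiv.addRight (1 : ZMod 23))} ∪ {g : Equiv.Perm Cfsg.GolayPt | ∃ u : (ZMod 23)ˣ, IsSquare u ∧ g = Equiv.optionCongr (Units.mulLeft u)})) = 253 ∧ IsCoatom (((Subgroup.closure ({Equiv.optionCongr (Equiv.addRight (1 : ZMod 23))} ∪ {g : Equiv.Perm Cfsg.GolayPt | ∃ u : (ZMod 23)ˣ, IsSquare u ∧ g = Equiv.optionCongr (Units.mulLeft u)})).subgroupOf Cfsg.M24).subgroupOf (MulAction.stabilizer Cfsg.M24 (none : Cfsg.GolayPt)))) := by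
  have hstab : MulAction.stabilizer (Equiv.Perm GolayPt) (none : GolayPt) = MulAction.stabilizer (Equiv.Perm GolayPt) (pt 23) := by
    rw [pt_inf]
  rw [psl_eq, frob_eq]
  refine ⟨⟨psl_le_M24, card_psl, ?_⟩, by rw [hstab]; exact frob_le, card_frob, ?_⟩
  · refine ⟨fun h => ?_, fun K hK => ?_⟩
    · have h' : M24 ≤ psl := fun g hg => by
        have : (⟨g, hg⟩ : M24) ∈ psl.subgroupOf M24 := by rw [h]; exact Subgroup.mem_top _
        exact this
      have h2 := Subgroup.card_le_of_le h'
      rw [card_psl, card_M24] at h2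
      omega
    · have hle : psl ≤ K.map M24.subtype := by
        intro g hg
        exact ⟨⟨g, psl_le_M24 hg⟩, hK.le hg, rfl⟩
      have htop : K.map M24.subtype ≤ M24 := Subgroup.map_subtype_le K
      rcases psl_maximal hle htop with h | h
      · exfalso
        refine hK.not_ge fun x hx => ?_
        show x.val ∈ psl
        rw [← h]
        exact ⟨x, hx, rfl⟩
      · rw [eq_top_iff]
        intro x _
        have : x.val ∈ K.map M24.subtype := by rw [h]; exact x.2
        obtain ⟨y, hy, e⟩ := this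
        rwa [← Subtype.ext (show y.val = x.val from e)]
  · have hinf : ∀ x : MulAction.stabilizer M24 (none : GolayPt), x.val.val ∈ stabInf := fun x => by
      refine mem_stabInf.2 ⟨x.val.2, ?_⟩
      rw [pt_inf]; exact x.2
    refine ⟨fun h => ?_, fun K hK => ?_⟩
    · have h' : stabInf ≤ frob := fun g hg => by
        have hg' := mem_stabInf.1 hg
        rw [pt_inf] at hg'
        have : (⟨⟨g, hg'.1⟩, hg'.2⟩ : MulAction.stabilizer M24 (none : GolayPt)) ∈
            (frob.subgroupOf M24).subgroupOf (MulAction.stabilizer M24 (none : GolayPt)) := by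
          rw [h]; exact Subgroup.mem_top _
        exact this
      have h2 := Subgroup.card_le_of_le h'
      rw [card_frob, card_stabInf] at h2
      omega
    · let f : MulAction.stabilizer M24 (none : GolayPt) →* Equiv.Perm GolayPt :=
        M24.subtype.comp (Subgroup.subtype _)
      have hle : frob ≤ K.map f := by
        intro g hg
        have hg' := frob_le hg
        rw [← hstab] at hg'
        exact ⟨⟨⟨g, hg'.1⟩, hg'.2⟩, hK.le (show g ∈ frob from hg), rfl⟩
      have htop : K.map f ≤ stabInf := by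
        rintro _ ⟨x, -, rfl⟩
        exact hinf x
      have hfinj : Function.Injective f := fun a b e => Subtype.ext (Subtype.ext e)
      rcases frob_maximal hle htop with h | h
      · exfalso
        refine hK.not_ge fun x hx => ?_
        show x.val.val ∈ frob
        rw [← h]
        exact ⟨x, hx, rfl⟩
      · rw [eq_top_iff]
        intro x _
        have : f x ∈ K.map f := by rw [h]; exact hinf x
        obtain ⟨y, hy, e⟩ := this
        rwa [← hfinj e]

end Cfsg.Agent.S1643
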