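import Cfsg.Statements.S1644
import Cfsg.Agent.Lib.J1Unique.Main
import Cfsg.Agent.Lib.Golay.J1
import Cfsg.Agent.S0448

set_option autoImplicit false
open Cfsg

namespace Cfsg.Agent.S1644

/-- The first Janko group recognised by an involution centraliser, at the level of isomorphism: a finite simple group with abelian Sylow 2-subgroups of order 8 and an involution whose centraliser is isomorphic to Z/2 × A₅ is isomorphic to the subgroup of GL(7, 11) generated by the two explicit Janko matrices. -/
theorem result {G : Type*} [Group G] [Finite G] [IsSimpleGroup G] (S : Sylow 2 G) (hS : IsMulCommutative (S : Subgroup G)) (h8 : Nat.card S = 8) (t : G) (ht : orderOf t = 2) (e : (Subgroup.centralizer ({t} : Set G)) ≃* Multiplicative (ZMod 2) × alternatingGroup (Fin 5)) : Cfsg.Spor.IsoJ1 G := by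
  have h2 : Fact (Nat.Prime 2) := ⟨Nat.prime_two⟩
  have htc : Cfsg.IsTwoCentralInvolution t := by
    obtain ⟨T, hT⟩ := (IsPGroup.of_card (p := 2) (n := 1)
      (by rw [Nat.card_zpowers, ht, pow_one]) : IsPGroup 2 (Subgroup.zpowers t)).exists_le_sylow
    refine ⟨ht, T, hT (Subgroup.mem_zpowers t), fun x hx => ?_⟩
    have hc : IsMulCommutative (T : Subgroup G) := ⟨⟨fun a b => (S.equiv T).symm.injective (by
      rw [map_mul, map_mul, hS.is_comm.comm])⟩⟩
    exact congrArg Subtype.val (hc.is_comm.comm (⟨x, hx⟩ : (T : Subgroup G))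
      ⟨t, hT (Subgroup.mem_zpowers t)⟩)
  obtain ⟨x, y, hx, hy, hsimp, hcard⟩ := CfsgLib.Golay.J1.exists_J1
  obtain rfl : x = Cfsg.Spor.jankoX := Units.ext hx
  obtain rfl : y = Cfsg.Spor.jankoY := Units.ext hy
  have : IsSimpleGroup Cfsg.Spor.J1 := hsimp
  exact CfsgLib.J1Unique.iso (H := Cfsg.Spor.J1) (Cfsg.Agent.S0448.result t htc e).2 hcard

end Cfsg.Agent.S1644
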