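import Cfsg.Statements.S1645
import Cfsg.Agent.Lib.CoverType.Nine
import Cfsg.Agent.Lib.CoverType.Small
import Cfsg.Agent.Lib.CoverType.Large
import Cfsg.Agent.Lib.CoverType.Sub

set_option autoImplicit false
open Cfsg

namespace Cfsg.Agent.S1645

/-- If some involution of a finite simple group has centraliser a non-split double cover of the alternating group of degree n ≥ 5, then n is 8 or 11 (the McLaughlin and Lyons cases). -/
theorem result {G : Type*} [Group G] [Finite G] [IsSimpleGroup G] (n : ℕ) (hn : 5 ≤ n) (z : G) (hz : orderOf z = 2) (hcov : Cfsg.IsNonsplitDoubleCover (Subgroup.centralizer ({z} : Set G)) (alternatingGroup (Fin n))) : n = 8 ∨ n = 11 := by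
  by_cases h7 : n ≤ 7
  · exact (CfsgLib.CoverType.not_small hn hz hcov h7).elim
  by_cases h12 : 12 ≤ n
  · exact (CfsgLib.CoverType.not_large hn hz hcov h12).elim
  by_contra hne
  have hn' : n = 9 ∨ n = 10 := by omega
  obtain ⟨π, hπ⟩ := CfsgLib.CoverType.exists_cover hn hz hcov
  have hcl := CfsgLib.CoverType.one_class hπ hn (by omega) hz (CfsgLib.CoverType.not_central hπ hn hz)
  obtain ⟨B⟩ := CfsgLib.CoverType.exists_below (by omega) hπ
  obtain ⟨M, hle, hM⟩ := CfsgLib.CoverType.exists_mcl_below hn' hz hπ hcl B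
  exact CfsgLib.CoverType.false_of_mcl hn' hz hπ hcl B M hle hM

end Cfsg.Agent.S1645
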