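import Cfsg.Statements.S1666
import Cfsg.Agent.Lib.Golay.HSRank3
import Cfsg.Agent.Lib.Leech.HSSpor

set_option autoImplicit false
open Cfsg

namespace Cfsg.Agent.S1666

/-- Recognition of the Higman–Sims group as a rank 3 permutation group: a transitive permutation group on 100 points in which the stabiliser of a point is isomorphic to the Mathieu group M₂₂ and has two further orbits, of sizes 22 and 77, is isomorphic to the Higman–Sims group. -/
theorem result {Ω : Type*} [Fintype Ω] [DecidableEq Ω] (hΩ : Fintype.card Ω = 100) (G : Subgroup (Equiv.Perm Ω)) [MulAction.IsPretransitive G Ω] (a : Ω)  (e : MulAction.stabilizer G a ≃* Cfsg.Spor.M22) (b c : Ω) (hb : (MulAction.orbit (MulAction.stabilizer G a) b).ncard = 22) (hc : (MulAction.orbit (MulAction.stabilizer G a) c).ncard = 77) : Cfsg.Spor.IsoHS G := by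
  obtain ⟨e2⟩ := CfsgLib.Golay.sporM22_equiv
  let f : MulAction.stabilizer G a →* Equiv.Perm (Fin 22) :=
    CfsgLib.Golay.M22Idx.twoHom.comp (e.trans e2).toMonoidHom
  have hf : Function.Injective f := CfsgLib.Golay.M22Idx.twoHom_injective.comp (e.trans e2).injective
  have hfr : f.range = CfsgLib.Golay.M22Idx.grp := by
    show (CfsgLib.Golay.M22Idx.twoHom.comp (e.trans e2).toMonoidHom).range = _
    rw [MonoidHom.range_comp, MonoidHom.range_eq_top.2 (e.trans e2).surjective, ← MonoidHom.range_eq_map]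
    rfl
  have hG : Nat.card G = 44352000 := by
    have h := (MulAction.stabilizer G a).index_mul_card
    rw [MulAction.index_stabilizer_of_transitive, Nat.card_eq_fintype_card (α := Ω), hΩ, Nat.card_congr e.toEquiv,
      CfsgLib.Golay.card_sporM22] at h
    omega
  obtain ⟨B, hB, φ, hφ⟩ := CfsgLib.Golay.Rank3.exists_graph hΩ G a f hf hfr b c hb hc
  obtain ⟨F, hF, hFmem⟩ := CfsgLib.Golay.Rank3.to_hsGroup hG hB _
    (fun g hg x y => CfsgLib.Golay.Rank3.rel_smul_iff hg) φ hφ
  have hFr : F.range = CfsgLib.Golay.HS.hsGroup := by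
    refine CfsgLib.Leech.HSVec.index_two_eq ?_ ?_
    · rintro _ ⟨g, rfl⟩
      exact hFmem g
    · rw [← Nat.card_congr (MonoidHom.ofInjective hF).toEquiv, hG]
  obtain ⟨eS⟩ := CfsgLib.Leech.HSVec.sporHS_equiv
  exact ⟨((MonoidHom.ofInjective hF).trans (MulEquiv.subgroupCongr hFr)).trans eS.symm⟩

end Cfsg.Agent.S1666
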