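import Cfsg.Statements.S1668
import Cfsg.Agent.Lib.SuzRank3.Main

set_option autoImplicit false
open Cfsg

namespace Cfsg.Agent.S1668

/-- Recognition of the sporadic Suzuki group as a rank 3 permutation group: a transitive permutation group on 1782 points in which the stabiliser of a point is isomorphic to the Chevalley group G₂(4) and has two further orbits, of sizes 416 and 1365, is isomorphic to the sporadic Suzuki group. -/
theorem result {Ω : Type*} [Fintype Ω] [DecidableEq Ω] (hΩ : Fintype.card Ω = 1782) (G : Subgroup (Equiv.Perm Ω)) [MulAction.IsPretransitive G Ω] (a : Ω) (K : Type) [Field K] [Fintype K] (hK : Fintype.card K = 4) (e : MulAction.stabilizer G a ≃* Cfsg.Lie.chevG2.group K) (b c : Ω) (hb : (MulAction.orbit (MulAction.stabilizer G a) b).ncard = 416) (hc : (MulAction.orbit (MulAction.stabilizer G a) c).ncard = 1365) : Cfsg.Spor.IsoSuz G := by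
  classical
  obtain ⟨e'⟩ := CfsgLib.SuzR3.subH_iso K hK
  let ι : CfsgLib.Suz.subH →* G :=
    (MulAction.stabilizer G a).subtype.comp (e'.trans e.symm).toMonoidHom
  have hrange : ι.range = MulAction.stabilizer G a := by
    ext g
    constructor
    · rintro ⟨k, rfl⟩; exact ((e'.trans e.symm) k).2
    · intro hg; exact ⟨(e'.trans e.symm).symm ⟨g, hg⟩, by simp [ι]⟩
  have horb : {x : Ω | ∃ k, ι k • c = x} = MulAction.orbit (MulAction.stabilizer G a) c := by
    ext x
    constructor
    · rintro ⟨k, rfl⟩; exact ⟨(e'.trans e.symm) k, rfl⟩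
    · rintro ⟨g, rfl⟩
      exact ⟨(e'.trans e.symm).symm g, by simp [ι, Subgroup.smul_def]⟩
  exact CfsgLib.SuzR3.main (by rw [Nat.card_eq_fintype_card, hΩ])
    (fun g hg => Subtype.ext (Equiv.ext fun x => hg x)) (fun x y => MulAction.exists_smul_eq G x y)
    a c ι (Subtype.val_injective.comp (e'.trans e.symm).injective)
    (fun g => by rw [hrange]; rfl) (by rw [horb]; exact hc)

end Cfsg.Agent.S1668
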