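import Cfsg.Statements.S1669
import Cfsg.Agent.Lib.RuUniq.Main

set_option autoImplicit false
open Cfsg

namespace Cfsg.Agent.S1669

/-- Recognition of the Rudvalis group as a rank 3 permutation group: a transitive permutation group on 4060 points in which the stabiliser of a point is isomorphic to the Ree group ²F₄(2) and has two further orbits, of sizes 1755 and 2304, is isomorphic to the Rudvalis group. -/
theorem result {Ω : Type*} [Fintype Ω] [DecidableEq Ω] (hΩ : Fintype.card Ω = 4060) (G : Subgroup (Equiv.Perm Ω)) [MulAction.IsPretransitive G Ω] (a : Ω)  (e : MulAction.stabilizer G a ≃* Cfsg.Lie.twistedF4 (ZMod 2) 1) (b c : Ω) (hb : (MulAction.orbit (MulAction.stabilizer G a) b).ncard = 1755) (hc : (MulAction.orbit (MulAction.stabilizer G a) c).ncard = 2304) : Cfsg.Spor.IsoRu G := by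
  obtain ⟨f⟩ := CfsgLib.RuUniq.hp_twisted
  obtain ⟨E⟩ := CfsgLib.RuUniq.exists_edge
    ((MulAction.stabilizer G a).subtype.comp (f.trans e.symm).toMonoidHom)
    ((MulAction.stabilizer G a).subtype_injective.comp (f.trans e.symm).injective) a b c
    (Nat.card_eq_fintype_card.trans hΩ)
    (fun g hg => Subtype.ext (Equiv.ext fun x => hg x))
    (fun p q => MulAction.exists_smul_eq G p q)
    (fun g => ⟨fun h => ⟨(f.trans e.symm).symm ⟨g, h⟩, by
      simp only [MonoidHom.coe_comp, Subgroup.coe_subtype, Function.comp_apply,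
        MulEquiv.coe_toMonoidHom, MulEquiv.apply_symm_apply]⟩,
      fun ⟨m, hm⟩ => hm ▸ ((f.trans e.symm) m).2⟩)
    hb hc
  exact CfsgLib.RuUniq.iso_ru E

end Cfsg.Agent.S1669
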