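import Cfsg.Statements.S1678
import Cfsg.Agent.Lib.CoThreeRec.CoordsModel
import Cfsg.Agent.Lib.CoThreeRec.FusionMain
import Cfsg.Agent.Lib.CoThreeRec.Model
import Cfsg.Agent.Lib.CoThreeRec.Relators
import Cfsg.Agent.Lib.CoThreeEndgame.Main

set_option autoImplicit false
open Cfsg

namespace Cfsg.Agent.S1678

/-- The third Conway group from an involution centraliser: let G be a finite group with no non-trivial normal subgroup of odd order and trivial centre, having an involution t whose centraliser is a non-split double cover of the symplectic group Sp(6, 2). Then G is isomorphic to the third Conway group (the stabiliser in the Leech lattice automorphism group of a vector of the second shortest length). -/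
theorem result {G : Type*} [Group G] [Finite G] (hO : Cfsg.oddCore G = ⊥) (hZ : Subgroup.center G = ⊥) (t : G) (ht : orderOf t = 2) (hC : Cfsg.IsNonsplitDoubleCover (Subgroup.centralizer ({t} : Set G)) (Matrix.symplecticGroup (Fin 3) (ZMod 2))) : Cfsg.Spor.IsoCo3 G := by
  obtain ⟨co⟩ := CfsgLib.CoThreeRec.exists_coord ht hC
  have F := CfsgLib.CoThreeRec.classFacts
  obtain ⟨g, h1, h2⟩ := CfsgLib.CoThreeRec.exists_swap co F ht hO hZ
  obtain ⟨n, hn⟩ := CfsgLib.CoThreeRec.Rel.exists_amal ht co F h1 h2
  obtain ⟨φ, hφ, hle⟩ := CfsgLib.CoThreeRec.exists_hom_grp co hn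
  refine CfsgLib.CoThreeEndgame.isoCo3_of_hom ht ?_ φ hφ hle
  rw [← co.range_eq]
  exact (Nat.card_congr (MonoidHom.ofInjective co.inj).toEquiv).symm.trans CfsgLib.CoThreeRec.card_Cm

end Cfsg.Agent.S1678
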