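import Cfsg.Statements.S1680
import Cfsg.Agent.Lib.Suz.Sub

set_option autoImplicit false
open Cfsg

namespace Cfsg.Agent.S1680

/-- In the presented sporadic Suzuki group, let H be the subgroup generated by the images of a, …, f. Then H has index 1782, H has orbits of sizes 416 and 1365 on the cosets of H other than H itself (with the index 1782 this makes the action rank 3). -/
theorem result : (((Subgroup.closure ({Cfsg.Spor.Suz.a, Cfsg.Spor.Suz.b, Cfsg.Spor.Suz.c, Cfsg.Spor.Suz.d, Cfsg.Spor.Suz.e, Cfsg.Spor.Suz.f} : Set (FreeGroup Cfsg.Spor.Suz.Gen))).map (PresentedGroup.mk (Cfsg.Spor.coxRelators Cfsg.Spor.Suz.edges ∪ {r | r ∈ Cfsg.Spor.Suz.extra})))).index = 1782 ∧ ∃ q₁ q₂ : Cfsg.Spor.Suz ⧸ (((Subgroup.closure ({Cfsg.Spor.Suz.a, Cfsg.Spor.Suz.b, Cfsg.Spor.Suz.c, Cfsg.Spor.Suz.d, Cfsg.Spor.Suz.e, Cfsg.Spor.Suz.f} : Set (FreeGroup Cfsg.Spor.Suz.Gen))).map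 (PresentedGroup.mk (Cfsg.Spor.coxRelators Cfsg.Spor.Suz.edges ∪ {r | r ∈ Cfsg.Spor.Suz.extra})))), (MulAction.orbit (((Subgroup.closure ({Cfsg.Spor.Suz.a, Cfsg.Spor.Suz.b, Cfsg.Spor.Suz.c, Cfsg.Spor.Suz.d, Cfsg.Spor.Suz.e, Cfsg.Spor.Suz.f} : Set (FreeGroup Cfsg.Spor.Suz.Gen))).map (PresentedGroup.mk (Cfsg.Spor.coxRelators Cfsg.Spor.Suz.edges ∪ {r | r ∈ Cfsg.Spor.Suz.extra})))) q₁).ncard = 416 ∧ (MulAction.orbit (((Subgroup.closure ({Cfsg.Spor.Suz.a, Cfsg.Spor.Suz.b, Cfsg.Spor.Suz.c, Cfsg.Spor.Suz.d, Cfsg.Spor.Suz.e, Cfsg.Spor.Suz.f} : Set (FreeGroup Cfsg.Spor.Suz.Gen))).map (PresentedGroup.mk (Cfsg.Spor.coxRelators Cfsg.Spor.Suz.edges ∪ {r | r ∈ Cfsg.Spor.Suz.extra})))) q₂).ncard = 1365 := by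
  rw [CfsgLib.Suz.printed_eq]
  refine ⟨CfsgLib.Suz.index_subH, ?_⟩
  have h : ∀ k, 0 < k → k < 3 → ∃ q : Cfsg.Spor.Suz ⧸ CfsgLib.Suz.subH,
      (MulAction.orbit CfsgLib.Suz.subH q).ncard = [1, 416, 1365].getD k 0 := by
    intro k _ hk
    have hk' : k < CfsgLib.Suz.forest.roots.length := CfsgLib.Suz.forest_counts.2.1.symm ▸ hk
    obtain ⟨h1, h2⟩ := CfsgLib.Suz.forest_ok.root hk'
    obtain ⟨q, hq, -⟩ := CfsgLib.Suz.forest_ok.coset_orbit CfsgLib.Suz.realised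
      CfsgLib.Suz.zero_lt CfsgLib.Suz.subH_eq CfsgLib.Suz.stab_le.1 ⟨_, h1⟩
    refine ⟨q, hq.trans ?_⟩
    simp only [h2]
    exact CfsgLib.Suz.forest_count hk
  obtain ⟨q1, h1⟩ := h 1 (by norm_num) (by norm_num)
  obtain ⟨q2, h2⟩ := h 2 (by norm_num) (by norm_num)
  exact ⟨q1, q2, h1, h2⟩

end Cfsg.Agent.S1680
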