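import Cfsg.Statements.S1691

set_option autoImplicit false
open Cfsg

namespace Cfsg.Agent.S1691

open Spor in
theorem gen_rel (x y : Spor.Fi24.Gen) :
    ((PresentedGroup.of x : Spor.Fi24) * PresentedGroup.of y) ^ Spor.coxLabel Spor.Fi24.edges x y = 1 := by
  have hx : ∀ z : Fi24.Gen, z ∈ coxNodes Fi24.edges := by intro z; cases z <;> decide
  have := PresentedGroup.one_of_mem (rels := coxRelators Fi24.edges ∪ {r | r ∈ Fi24.extra})
    (x := (FreeGroup.of x * FreeGroup.of y) ^ coxLabel Fi24.edges x y)
    (Or.inl ⟨x, hx x, y, hx y, rfl⟩)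
  simpa [map_pow, map_mul, PresentedGroup.of] using this


/-- The commutator subgroup of the presented group Fi₂₄ has index 2 (the presented group is Fi₂₄′:2 with Fi₂₄′ its derived subgroup). -/
theorem result : (commutator Cfsg.Spor.Fi24).index = 2 := by
  set G := Cfsg.Spor.Fi24
  let q : Spor.Fi24.Gen → Abelianization G := fun x => Abelianization.of (PresentedGroup.of x)
  have hsq : ∀ x, q x * q x = 1 := fun x => by
    have := congrArg Abelianization.of (gen_rel x x)
    simpa [Spor.coxLabel, q] using this
  have hedge : ∀ x y, Spor.coxLabel Spor.Fi24.edges x y = 3 → q x = q y := fun x y h => by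
    have h3 : (q x * q y) ^ 3 = 1 := by
      have := congrArg Abelianization.of (gen_rel x y)
      rw [h] at this
      simpa [q, map_pow, map_mul] using this
    have h2 : (q x * q y) ^ 2 = 1 := by
      rw [mul_pow, pow_two, pow_two, hsq, hsq, one_mul]
    have h1 : q x * q y = 1 := by
      rw [pow_succ, h2, one_mul] at h3; exact h3
    calc q x = q x * (q y * q y) := by rw [hsq, mul_one]
      _ = q y := by rw [← mul_assoc, h1, one_mul]
  have hall : ∀ x, q x = q .d := by
    have a1 := hedge .l .k (by decide)
    have a2 := hedge .k .a (by decide)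
    have a3 := hedge .a .b (by decide)
    have a4 := hedge .b .c (by decide)
    have a5 := hedge .c .d (by decide)
    have b1 := hedge .d .e (by decide)
    have b2 := hedge .e .f (by decide)
    have b3 := hedge .f .g (by decide)
    have b4 := hedge .g .j (by decide)
    have c1 := hedge .d .h (by decide)
    have c2 := hedge .h .i (by decide)
    intro x
    cases x
    · exact a1.trans (a2.trans (a3.trans (a4.trans a5)))
    · exact a2.trans (a3.trans (a4.trans a5))
    · exact a3.trans (a4.trans a5)
    · exact a4.trans a5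
    · exact a5
    · rfl
    · exact b1.symm
    · exact (b1.trans b2).symm
    · exact (b1.trans (b2.trans b3)).symm
    · exact (b1.trans (b2.trans (b3.trans b4))).symm
    · exact c1.symm
    · exact (c1.trans c2).symm
  have htop : ∀ a : Abelianization G, a = 1 ∨ a = q .d := by
    intro a
    obtain ⟨g, rfl⟩ := QuotientGroup.mk_surjective a
    change Abelianization.of g = 1 ∨ Abelianization.of g = q .d
    have hg : g ∈ Subgroup.closure (Set.range (PresentedGroup.of : Spor.Fi24.Gen → G)) := by
      rw [PresentedGroup.closure_range_of]; trivial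
    induction hg using Subgroup.closure_induction with
    | mem z hz => obtain ⟨x, rfl⟩ := hz; exact Or.inr (hall x)
    | one => exact Or.inl (map_one _)
    | mul u v _ _ hu hv =>
      rw [map_mul]
      rcases hu with hu | hu <;> rcases hv with hv | hv <;> simp [hu, hv, hsq]
    | inv u _ hu =>
      rw [map_inv]
      rcases hu with hu | hu
      · simp [hu]
      · exact Or.inr (by rw [hu, inv_eq_of_mul_eq_one_left (hsq .d)])
  let f : Spor.Fi24.Gen → Multiplicative (ZMod 2) := fun _ => Multiplicative.ofAdd 1
  have hrels : ∀ r ∈ Spor.coxRelators Spor.Fi24.edges ∪ {r | r ∈ Spor.Fi24.extra},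
      FreeGroup.lift f r = 1 := by
    rintro r (⟨x, -, y, -, rfl⟩ | hr)
    · have : (Multiplicative.ofAdd (1 : ZMod 2)) * Multiplicative.ofAdd 1 = 1 := by decide
      simp [f, this]
    · simp only [Set.mem_ofPred_eq, Spor.Fi24.extra, List.mem_cons, List.not_mem_nil, or_false] at hr
      rcases hr with rfl | rfl <;>
        simp [f, Spor.Fi24.l, Spor.Fi24.k, Spor.Fi24.a, Spor.Fi24.b, Spor.Fi24.c, Spor.Fi24.d,
          Spor.Fi24.e, Spor.Fi24.f, Spor.Fi24.g, Spor.Fi24.j, Spor.Fi24.h, Spor.Fi24.i] <;> decide
  have hne : q .d ≠ 1 := by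
    intro h
    have := congrArg (Abelianization.lift (PresentedGroup.toGroup hrels)) h
    simp [q, f] at this
  show Nat.card (Abelianization G) = 2
  rw [Nat.card_eq_two_iff]
  refine ⟨1, q .d, fun h => hne h.symm, ?_⟩
  rw [Set.eq_univ_iff_forall]
  intro a
  rcases htop a with h | h <;> simp [h]

end Cfsg.Agent.S1691
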