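import Cfsg.Statements.S1708
import Cfsg.Agent.Lib.HNxyz.Rep
import Cfsg.Agent.Lib.HNxyz.Main

set_option autoImplicit false
open Cfsg

namespace Cfsg.Agent.S1708

open CfsgLib.HNxyz

/-- The image of x. -/
abbrev gx : Cfsg.Spor.HN := PresentedGroup.of Cfsg.Spor.HN.Gen.x
/-- The image of y. -/
abbrev gy : Cfsg.Spor.HN := PresentedGroup.of Cfsg.Spor.HN.Gen.y
/-- The image of z. -/
abbrev gz : Cfsg.Spor.HN := PresentedGroup.of Cfsg.Spor.HN.Gen.z

/-- The three pairs. -/
def trio : Set (Cfsg.Spor.HN × Equiv.Perm (Fin 100)) := {(gx, px), (gy, py), (gz, pz)}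

theorem rels_pair : XYZRels (M := Cfsg.Spor.HN × Equiv.Perm (Fin 100)) (gx, px) (gy, py) (gz, pz) :=
  fun w hw => Prod.ext
    ((map_evalW (MonoidHom.fst Cfsg.Spor.HN (Equiv.Perm (Fin 100))) (gx, px) (gy, py) (gz, pz) w).trans
      (hn_xyz w hw))
    ((map_evalW (MonoidHom.snd Cfsg.Spor.HN (Equiv.Perm (Fin 100))) (gx, px) (gy, py) (gz, pz) w).trans
      (perm_rels w hw))

/-- The data of the subgroup of pairs. -/
noncomputable def pairData : Data ↥(Subgroup.closure trio) where
  a := ⟨(gx, px), Subgroup.subset_closure (by simp [trio])⟩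
  b := ⟨(gy, py), Subgroup.subset_closure (by simp [trio])⟩
  c := ⟨(gz, pz), Subgroup.subset_closure (by simp [trio])⟩
  rels := fun w hw => (Subgroup.closure trio).subtype_injective
    (((map_evalW (Subgroup.closure trio).subtype _ _ _ w).trans (rels_pair w hw)).trans (map_one _).symm)
  top := by
    refine Subgroup.map_injective (Subgroup.closure trio).subtype_injective ?_
    rw [MonoidHom.map_closure, ← MonoidHom.range_eq_map, Subgroup.range_subtype,
      Set.image_insert_eq, Set.image_insert_eq, Set.image_singleton]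
    rfl
  φ := (MonoidHom.snd Cfsg.Spor.HN (Equiv.Perm (Fin 100))).comp (Subgroup.closure trio).subtype
  map_a := rfl
  map_b := rfl
  map_c := rfl
  sq_ne := fun h => x_sq_ne (congrArg (fun g : ↥(Subgroup.closure trio) => g.1.1) h)

/-- The projection to the presented group. -/
noncomputable def first : ↥(Subgroup.closure trio) →* Cfsg.Spor.HN :=
  (MonoidHom.fst Cfsg.Spor.HN (Equiv.Perm (Fin 100))).comp (Subgroup.closure trio).subtype

theorem first_injective : Function.Injective first := by
  refine pairData.injective first x_sq_ne ?_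
  rw [eq_bot_iff]
  rintro g ⟨h1, h2⟩
  exact Subtype.ext (Prod.ext h2 h1)

theorem first_range : first.range = (Subgroup.closure ({Cfsg.Spor.HN.x, Cfsg.Spor.HN.y, Cfsg.Spor.HN.z} : Set (FreeGroup Cfsg.Spor.HN.Gen))).map (PresentedGroup.mk (Cfsg.Spor.coxRelators Cfsg.Spor.HN.edges ∪ {r | r ∈ Cfsg.Spor.HN.extra})) := by
  rw [MonoidHom.range_eq_map, ← pairData.top, MonoidHom.map_closure, MonoidHom.map_closure,
    Set.image_insert_eq, Set.image_insert_eq, Set.image_singleton, Set.image_insert_eq,
    Set.image_insert_eq, Set.image_singleton]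
  rfl


/-- In the presented Harada–Norton group, the subgroup N generated by the images of x, y, z has a normal subgroup of index 2 which is a non-split double cover of the Higman–Sims group. -/
theorem result : ∃ K : Subgroup (((Subgroup.closure ({Cfsg.Spor.HN.x, Cfsg.Spor.HN.y, Cfsg.Spor.HN.z} : Set (FreeGroup Cfsg.Spor.HN.Gen))).map (PresentedGroup.mk (Cfsg.Spor.coxRelators Cfsg.Spor.HN.edges ∪ {r | r ∈ Cfsg.Spor.HN.extra})))), K.Normal ∧ K.index = 2 ∧ Cfsg.IsNonsplitDoubleCover K Cfsg.Spor.HS := by
  let e := (MonoidHom.ofInjective first_injective).trans (MulEquiv.subgroupCongr first_range)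
  let D : Data _ :=
    { a := e pairData.a
      b := e pairData.b
      c := e pairData.c
      rels := pairData.rels.map e.toMonoidHom
      top := by
        rw [← Subgroup.map_top_of_surjective e.toMonoidHom e.surjective, ← pairData.top]
        refine Eq.trans ?_ (MonoidHom.map_closure e.toMonoidHom _).symm
        refine congrArg Subgroup.closure ?_
        rw [Set.image_insert_eq, Set.image_insert_eq, Set.image_singleton]
        rfl
      φ := pairData.φ.comp e.symm.toMonoidHom
      map_a := (congrArg pairData.φ (e.symm_apply_apply pairData.a)).trans pairData.map_a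
      map_b := (congrArg pairData.φ (e.symm_apply_apply pairData.b)).trans pairData.map_b
      map_c := (congrArg pairData.φ (e.symm_apply_apply pairData.c)).trans pairData.map_c
      sq_ne := fun h => pairData.sq_ne (e.injective ((map_mul e _ _).trans (h.trans (map_one e).symm))) }
  exact ⟨D.N, D.double_cover⟩

end Cfsg.Agent.S1708
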