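import Cfsg.Statements.S1711
import Cfsg.Agent.Lib.J4P.Rep
import Cfsg.Agent.Lib.J4P.Main
import Cfsg.Agent.Lib.Golay.M24Sub

set_option autoImplicit false
open Cfsg

namespace Cfsg.Agent.S1711

open CfsgLib.J4P CfsgLib.HNxyz

/-- The image of x. -/
abbrev gx : Cfsg.Spor.J4 := PresentedGroup.of Cfsg.Spor.J4.Gen.x
/-- The image of y. -/
abbrev gy : Cfsg.Spor.J4 := PresentedGroup.of Cfsg.Spor.J4.Gen.y

/-- The two pairs. -/
def duo : Set (Cfsg.Spor.J4 × Equiv.Perm Cfsg.GolayPt) := {(gx, px), (gy, py)}

/-- The first pair. -/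
noncomputable def pa : ↥(Subgroup.closure duo) := ⟨(gx, px), Subgroup.subset_closure (by simp [duo])⟩
/-- The second pair. -/
noncomputable def pb : ↥(Subgroup.closure duo) := ⟨(gy, py), Subgroup.subset_closure (by simp [duo])⟩

/-- The projection to the presented group. -/
noncomputable def first : ↥(Subgroup.closure duo) →* Cfsg.Spor.J4 :=
  (MonoidHom.fst Cfsg.Spor.J4 (Equiv.Perm Cfsg.GolayPt)).comp (Subgroup.closure duo).subtype

/-- The projection to the permutations. -/
noncomputable def second : ↥(Subgroup.closure duo) →* Equiv.Perm Cfsg.GolayPt :=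
  (MonoidHom.snd Cfsg.Spor.J4 (Equiv.Perm Cfsg.GolayPt)).comp (Subgroup.closure duo).subtype

theorem rels_pair : BaseRels pa pb := fun w hw => by
  refine Subtype.ext (Prod.ext ?_ ?_)
  · exact (CfsgLib.J4P.map_evalW first [pa, pb] w).trans (xy_rels w hw)
  · exact (CfsgLib.J4P.map_evalW second [pa, pb] w).trans (perm_rels w hw)

theorem top_pair : Subgroup.closure {pa, pb} = ⊤ := by
  refine Subgroup.map_injective (Subgroup.closure duo).subtype_injective ?_
  rw [MonoidHom.map_closure, ← MonoidHom.range_eq_map, Subgroup.range_subtype,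
    Set.image_insert_eq, Set.image_singleton]
  rfl

theorem first_range : first.range = (Subgroup.closure ({Cfsg.Spor.J4.x, Cfsg.Spor.J4.y} : Set (FreeGroup Cfsg.Spor.J4.Gen))).map (PresentedGroup.mk (Cfsg.Spor.coxRelators Cfsg.Spor.J4.edges ∪ {r | r ∈ Cfsg.Spor.J4.extra})) := by
  rw [MonoidHom.range_eq_map, ← top_pair, MonoidHom.map_closure, MonoidHom.map_closure,
    Set.image_insert_eq, Set.image_singleton, Set.image_insert_eq, Set.image_singleton]
  rfl


/-- In the presented fourth Janko group (generators x, y, t), the subgroup generated by the images of x and y is isomorphic to the Mathieu group M₂₄. -/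
theorem result : Nonempty ((((Subgroup.closure ({Cfsg.Spor.J4.x, Cfsg.Spor.J4.y} : Set (FreeGroup Cfsg.Spor.J4.Gen))).map (PresentedGroup.mk (Cfsg.Spor.coxRelators Cfsg.Spor.J4.edges ∪ {r | r ∈ Cfsg.Spor.J4.extra})))) ≃* Cfsg.M24) := by
  obtain ⟨hr, hinj⟩ := structure_thm rels_pair top_pair second rfl rfl
  let e : ↥(Subgroup.closure duo) ≃* ↥Cfsg.M24 :=
    (MonoidHom.ofInjective hinj).trans (MulEquiv.subgroupCongr hr)
  haveI : IsSimpleGroup ↥Cfsg.M24 := CfsgLib.Golay.M24_simple
  have hf : Function.Injective first := by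
    have hn : (first.ker.map e.toMonoidHom).Normal := Subgroup.Normal.map inferInstance _ e.surjective
    rcases IsSimpleGroup.eq_bot_or_eq_top_of_normal _ hn with h | h
    · exact (MonoidHom.ker_eq_bot_iff first).1 (Subgroup.map_injective e.injective (h.trans (Subgroup.map_bot _).symm))
    · exfalso
      have hk : first.ker = ⊤ := Subgroup.map_injective e.injective
        (h.trans (Subgroup.map_top_of_surjective _ e.surjective).symm)
      exact x_ne (MonoidHom.mem_ker.1 (hk.symm ▸ Subgroup.mem_top pa : pa ∈ first.ker))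
  exact ⟨((MonoidHom.ofInjective hf).trans (MulEquiv.subgroupCongr first_range)).symm.trans e⟩

end Cfsg.Agent.S1711
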