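import Cfsg.Statements.S1717

set_option autoImplicit false
open Cfsg

namespace Cfsg.Agent.S1717

abbrev SL52 := Matrix.SpecialLinearGroup (Fin 5) (ZMod 2)

/-- The position of a coordinate in the order 0, 2, 3, 4, 1. -/
def pos : Fin 5 → ℕ := ![0, 4, 1, 2, 3]

theorem pos_inj : Function.Injective pos := by unfold pos; decide

/-- The strictly triangular power bound. -/
theorem pow_nilp (N : Matrix (Fin 5) (Fin 5) (ZMod 2))
    (h : ∀ i j, pos j < pos i + 1 → N i j = 0) :
    ∀ k i j, pos j < pos i + k → (N ^ k) i j = 0 := by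
  intro k
  induction k with
  | zero => intro i j hij; rw [pow_zero, Matrix.one_apply_ne]; rintro rfl; omega
  | succ k ih =>
    intro i j hij
    rw [pow_succ, Matrix.mul_apply]
    refine Finset.sum_eq_zero fun l _ => ?_
    by_cases hl : pos l < pos i + k
    · rw [ih i l hl, zero_mul]
    · rw [h l j (by omega), mul_zero]

theorem pos_zero : ∀ i : Fin 5, i ≠ 0 → pos 0 < pos i := by decide

theorem pos_one : ∀ j : Fin 5, j ≠ 1 → pos j < pos 1 := by decide

theorem pos_zero_one : pos 0 < pos 1 := by decide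

theorem zmod2_one {a : ZMod 2} (h : a ≠ 0) : a = 1 := by revert a; decide

theorem diag_one {x : SL52} (h : (x : Matrix (Fin 5) (Fin 5) (ZMod 2)).BlockTriangular pos)
    (i : Fin 5) : x i i = 1 := by
  refine zmod2_one fun h0 => ?_
  let σ : Fin 5 ≃ Fin 5 :=
    { toFun := ![0, 2, 3, 4, 1]
      invFun := ![0, 4, 1, 2, 3]
      left_inv := by decide
      right_inv := by decide }
  have hσ : ∀ a b : Fin 5, b < a → pos (σ b) < pos (σ a) := by decide
  have h' := Matrix.det_of_isUpperTriangular
    (M := (x : Matrix (Fin 5) (Fin 5) (ZMod 2)).submatrix σ σ) (fun a b hab => h (hσ a b hab))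
  rw [Matrix.det_submatrix_equiv_self, x.property,
    Finset.prod_eq_zero (Finset.mem_univ (σ.symm i)) (by simpa using h0)] at h'
  exact one_ne_zero h'

theorem pow_eight {x : SL52} (h : (x : Matrix (Fin 5) (Fin 5) (ZMod 2)).BlockTriangular pos) :
    x ^ 8 = 1 := by
  set M := (x : Matrix (Fin 5) (Fin 5) (ZMod 2)) with hM
  have hN : (M - 1) ^ 8 = 0 := by
    ext i j
    refine pow_nilp (M - 1) (fun a b hab => ?_) 8 i j ?_
    · rcases eq_or_ne a b with rfl | hne
      · simp [hM, diag_one h a]
      · have : pos b ≠ pos a := fun he => hne (pos_inj he).symm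
        simp [Matrix.one_apply_ne hne, h (show pos b < pos a by omega)]
    · have : ∀ a, pos a < 8 := by unfold pos; decide
      have := this j; omega
  rw [show (8 : ℕ) = 2 ^ 3 from rfl, sub_pow_char_pow_of_commute (p := 2) _ (Commute.one_right _), one_pow,
    sub_eq_zero] at hN
  exact Subtype.ext (by simpa [hM] using hN)

/-- A Sylow 2-subgroup of `SL₅(2)`. -/
def uni : Subgroup SL52 where
  carrier := {x | (x : Matrix (Fin 5) (Fin 5) (ZMod 2)).BlockTriangular pos}
  one_mem' := by simpa using Matrix.blockTriangular_one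
  mul_mem' := fun {a b} ha hb => by simpa using Matrix.BlockTriangular.mul ha hb
  inv_mem' := fun {a} ha => by
    have h8 : a⁻¹ = a ^ 7 := inv_eq_of_mul_eq_one_right (by rw [← pow_succ']; exact pow_eight ha)
    show (↑(a⁻¹) : Matrix (Fin 5) (Fin 5) (ZMod 2)).BlockTriangular pos
    rw [h8, Matrix.SpecialLinearGroup.coe_pow]
    exact Matrix.BlockTriangular.pow ha 7

theorem mem_uni {x : SL52} :
    x ∈ uni ↔ (x : Matrix (Fin 5) (Fin 5) (ZMod 2)).BlockTriangular pos := Iff.rfl

theorem isPGroup_uni : IsPGroup 2 uni := fun x => ⟨3, Subtype.ext (pow_eight x.property)⟩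

theorem uni_le (s : SL52) (hs : (s : Matrix (Fin 5) (Fin 5) (ZMod 2)) = Matrix.transvection 0 1 1) :
    uni ≤ Subgroup.centralizer ({s} : Set SL52) := by
  intro x hx
  rw [Subgroup.mem_centralizer_singleton_iff]
  refine Subtype.ext ?_
  rw [Matrix.SpecialLinearGroup.coe_mul, Matrix.SpecialLinearGroup.coe_mul, hs,
    Matrix.transvection, mul_add, add_mul, mul_one, one_mul]
  congr 1
  have col0 : ∀ i : Fin 5, i ≠ 0 → x i 0 = 0 := fun i hi => hx (pos_zero i hi)
  have row1 : ∀ j : Fin 5, j ≠ 1 → x 1 j = 0 := fun j hj => hx (pos_one j hj)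
  ext i j
  rcases eq_or_ne i 0 with rfl | hi <;> rcases eq_or_ne j 1 with rfl | hj
  · rw [Matrix.mul_single_apply_same, Matrix.single_mul_apply_same, diag_one hx, diag_one hx]
  · rw [Matrix.mul_single_apply_of_ne _ _ _ _ _ hj, Matrix.single_mul_apply_same, row1 j hj, mul_zero]
  · rw [Matrix.mul_single_apply_same, Matrix.single_mul_apply_of_ne _ _ _ _ _ hi, col0 i hi, zero_mul]
  · rw [Matrix.mul_single_apply_of_ne _ _ _ _ _ hj, Matrix.single_mul_apply_of_ne _ _ _ _ _ hi]

theorem eq_one_or (s : SL52) (hs : (s : Matrix (Fin 5) (Fin 5) (ZMod 2)) = Matrix.transvection 0 1 1)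
    (x : SL52) (hx : ∀ u ∈ uni, Commute x u) : x = 1 ∨ x = s := by
  set M := (x : Matrix (Fin 5) (Fin 5) (ZMod 2)) with hM
  have key : ∀ a b : Fin 5, pos a < pos b → ∀ i j,
      (M * Matrix.single a b (1 : ZMod 2) : Matrix (Fin 5) (Fin 5) (ZMod 2)) i j = (Matrix.single a b (1 : ZMod 2) * M) i j := by
    intro a b hab i j
    have hne : a ≠ b := fun h => by rw [h] at hab; omega
    let u : SL52 := ⟨Matrix.transvection a b 1, by simp [hne]⟩
    have hu : u ∈ uni := by
      rw [mem_uni]
      intro c d hdc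
      show Matrix.transvection a b (1 : ZMod 2) c d = 0
      have : c ≠ d := fun h => by rw [h] at hdc; omega
      simp only [Matrix.transvection, Matrix.add_apply, Matrix.one_apply_ne this, zero_add]
      exact Matrix.single_apply_of_ne _ _ _ _ _ (by rintro ⟨rfl, rfl⟩; omega)
    have h2 := congrArg (fun y : SL52 => (y : Matrix (Fin 5) (Fin 5) (ZMod 2))) (hx u hu).eq
    simp only [Matrix.SpecialLinearGroup.coe_mul] at h2
    have h3 : M * Matrix.transvection a b 1 = Matrix.transvection a b 1 * M := h2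
    rw [Matrix.transvection, mul_add, add_mul, mul_one, one_mul] at h3
    exact congrFun (congrFun (add_left_cancel (a := M) (h3.trans (add_comm _ _) |>.trans (add_comm _ _))) i) j
  have col : ∀ a b i : Fin 5, pos a < pos b → i ≠ a → M i a = 0 := fun a b i hab hi => by
    have := key a b hab i b
    rwa [Matrix.mul_single_apply_same, Matrix.single_mul_apply_of_ne _ _ _ _ _ hi, mul_one] at this
  have row : ∀ a b j : Fin 5, pos a < pos b → j ≠ b → M b j = 0 := fun a b j hab hj => by
    have := key a b hab a j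
    rw [Matrix.mul_single_apply_of_ne _ _ _ _ _ hj, Matrix.single_mul_apply_same, one_mul] at this
    exact this.symm
  have off : ∀ i j : Fin 5, i ≠ j → ¬(i = 0 ∧ j = 1) → M i j = 0 := by
    intro i j hij hne
    by_cases hj : j = 1
    · subst hj
      exact row 0 i 1 (pos_zero i fun h => hne ⟨h, rfl⟩) (Ne.symm hij)
    · exact col j 1 i (pos_one j hj) hij
  have hd : ∀ i, M i i = 1 := by
    intro i
    refine diag_one (x := x) (fun a b hab => off a b ?_ ?_) i
    · rintro rfl; omega
    · rintro ⟨rfl, rfl⟩; exact absurd hab (not_lt.2 pos_zero_one.le)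
  rcases (show M 0 1 = 0 ∨ M 0 1 = 1 from by generalize M 0 1 = c; revert c; decide) with h | h
  · left
    refine Subtype.ext ?_
    show M = 1
    ext i j
    rcases eq_or_ne i j with rfl | hij
    · simp [hd i]
    · rw [Matrix.one_apply_ne hij]
      by_cases h01 : i = 0 ∧ j = 1
      · obtain ⟨rfl, rfl⟩ := h01; exact h
      · exact off i j hij h01
  · right
    refine Subtype.ext ?_
    show M = (s : Matrix (Fin 5) (Fin 5) (ZMod 2))
    rw [hs]
    ext i j
    rcases eq_or_ne i j with rfl | hij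
    · fin_cases i <;> simp [Matrix.transvection, Matrix.single, hd]
    · simp only [Matrix.transvection, Matrix.add_apply, Matrix.one_apply_ne hij, zero_add]
      by_cases h01 : i = 0 ∧ j = 1
      · obtain ⟨rfl, rfl⟩ := h01; simp [h]
      · rw [off i j hij h01, Matrix.single_apply_of_ne]
        rintro ⟨rfl, rfl⟩; exact h01 ⟨rfl, rfl⟩

theorem key {G : Type*} [Group G] [Finite G] (s : SL52)
    (hs : (s : Matrix (Fin 5) (Fin 5) (ZMod 2)) = Matrix.transvection 0 1 1) (z : G) (hz : orderOf z = 2)
    (C : Subgroup G) (hC : C = Subgroup.centralizer ({z} : Set G))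
    (e : C ≃* Subgroup.centralizer ({s} : Set SL52)) (T : Sylow 2 C) :
    ¬ 2 ∣ ((T : Subgroup C).map C.subtype).index := by
  classical
  haveI : Fact (Nat.Prime 2) := ⟨Nat.prime_two⟩
  let C' := Subgroup.centralizer ({s} : Set SL52)
  have hmem : ∀ g : G, g ∈ C ↔ g * z = z * g := fun g => by
    rw [hC]; exact Subgroup.mem_centralizer_singleton_iff
  let zC : C := ⟨z, (hmem z).2 rfl⟩
  have hzc : ∀ c : C, c * zC = zC * c := fun c =>
    Subtype.ext ((hmem c).1 c.property)
  have hzne : zC ≠ 1 := fun h => by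
    have h' : z = 1 := congrArg Subtype.val h
    rw [h', orderOf_one] at hz; omega
  let U : Subgroup C := (uni.subgroupOf C').comap e.toMonoidHom
  have hU : IsPGroup 2 U := (IsPGroup.of_equiv isPGroup_uni
      (Subgroup.subgroupOfEquivOfLe (uni_le s hs)).symm).comap_of_injective _ e.injective
  obtain ⟨T₀, hT₀⟩ := hU.exists_le_sylow
  -- the centre of `T₀`
  have h0 : ∀ y : C, (∀ t ∈ T₀, Commute y t) → y = 1 ∨ (e y : SL52) = s := by
    intro y hy
    rcases eq_one_or s hs (e y : SL52) (fun u hu => by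
      have := (hy (e.symm ⟨u, uni_le s hs hu⟩) (hT₀ (by
        show e (e.symm _) ∈ uni.subgroupOf C'
        rw [e.apply_symm_apply]; exact hu))).map (C'.subtype.comp e.toMonoidHom)
      simpa using this) with h | h
    · exact Or.inl (e.injective (by rw [map_one]; exact Subtype.ext h))
    · exact Or.inr h
  have hzs : (e zC : SL52) = s := (h0 zC (fun t _ => (hzc t).symm)).resolve_left hzne
  have h1 : ∀ y : C, (∀ t ∈ T₀, Commute y t) → y = 1 ∨ y = zC := fun y hy =>
    (h0 y hy).imp_right fun h => e.injective (Subtype.ext (h.trans hzs.symm))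
  -- transfer to `T`
  obtain ⟨g, hg⟩ := MulAction.exists_smul_eq C T₀ T
  have hT : ∀ y : C, (∀ t ∈ T, Commute y t) → y = 1 ∨ y = zC := by
    intro y hy
    have := h1 (g⁻¹ * y * g) (fun t ht => by
      have ht' : g * t * g⁻¹ ∈ T := by
        rw [← hg]
        show _ ∈ ((g • T₀ : Sylow 2 C) : Subgroup C)
        exact Subgroup.smul_mem_pointwise_smul t (MulAut.conj g) (T₀ : Subgroup C) ht
      have hc := (hy _ ht').map (MulAut.conj g⁻¹).toMonoidHom
      simpa [mul_assoc] using hc)
    rcases this with h | h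
    · left
      calc y = g * (g⁻¹ * y * g) * g⁻¹ := by group
        _ = 1 := by rw [h]; group
    · right
      calc y = g * (g⁻¹ * y * g) * g⁻¹ := by group
        _ = zC := by rw [h, hzc g]; group
  intro hdvd
  set K := (T : Subgroup C).map C.subtype with hK
  replace hdvd : 2 ∣ K.index := hdvd
  obtain ⟨n, hn⟩ := (T.isPGroup'.map C.subtype).exists_card_eq
  have hsucc : 2 ^ (n + 1) ∣ Nat.card G := by
    rw [← K.card_mul_index, pow_succ, hn]
    exact Nat.mul_dvd_mul_left _ hdvd
  obtain ⟨L, hLcard, hKL⟩ := Sylow.exists_subgroup_card_pow_succ hsucc hn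
  have hrel : K.relIndex L = 2 := by
    have h' : Nat.card (K.subgroupOf L) * K.relIndex L = Nat.card L := (K.subgroupOf L).card_mul_index
    rw [Nat.card_congr (Subgroup.subgroupOfEquivOfLe hKL).toEquiv, hn, hLcard, pow_succ] at h'
    exact Nat.eq_of_mul_eq_mul_left (pow_pos two_pos n) h'
  haveI hnorm : (K.subgroupOf L).Normal := Subgroup.normal_of_index_eq_two hrel
  have hLC : L ≤ C := by
    intro l hl
    have hzK : z ∈ K := by
      refine ⟨zC, ?_, rfl⟩
      obtain ⟨T', hT'⟩ := (IsPGroup.of_card (p := 2) (n := 1) (G := Subgroup.zpowers zC) (by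
        rw [Nat.card_zpowers, pow_one, ← Subgroup.orderOf_coe]; exact hz)).exists_le_sylow
      obtain ⟨g', hg'⟩ := MulAction.exists_smul_eq C T' T
      have h2 : g' * zC * g'⁻¹ ∈ T := by
        rw [← hg']
        exact Subgroup.smul_mem_pointwise_smul zC (MulAut.conj g') (T' : Subgroup C)
          (hT' (Subgroup.mem_zpowers zC))
      rwa [hzc g', mul_inv_cancel_right] at h2
    have hconj : ∀ k ∈ K, ∀ m ∈ L, m * k * m⁻¹ ∈ K := fun k hk m hm =>
      hnorm.conj_mem ⟨k, hKL hk⟩ hk ⟨m, hm⟩
    obtain ⟨y, -, hyz⟩ := hconj z hzK l hl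
    have hy : y = 1 ∨ y = zC := hT y (fun t ht => by
      obtain ⟨t', -, ht'⟩ := hconj (t : G) ⟨t, ht, rfl⟩ l⁻¹ (inv_mem hl)
      have hc : Commute z (t' : G) := ((hmem t').1 t'.property).symm
      have hc' : Commute (l * z * l⁻¹) (l * (t' : G) * l⁻¹) := hc.map (MulAut.conj l).toMonoidHom
      have ht2 : l * (t' : G) * l⁻¹ = t := by
        rw [show (t' : G) = l⁻¹ * (t : G) * l⁻¹⁻¹ from ht']; group
      rw [ht2, ← hyz] at hc'
      exact Subtype.ext hc'.eq)
    rcases hy with rfl | rfl
    · simp only [map_one] at hyz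
      have : z = 1 := by
        have h' := congrArg (fun w => l⁻¹ * w * l) hyz.symm
        simpa [mul_assoc] using h'
      rw [this, orderOf_one] at hz; omega
    · refine (hmem l).2 ?_
      exact mul_inv_eq_iff_eq_mul.1 hyz.symm
  have hp : IsPGroup 2 (L.subgroupOf C) :=
    (IsPGroup.of_card hLcard).of_equiv (Subgroup.subgroupOfEquivOfLe hLC).symm
  have hle : (T : Subgroup C) ≤ L.subgroupOf C := fun t ht => hKL ⟨t, ht, rfl⟩
  have heq := T.is_maximal' hp hle
  have h3 : Nat.card L = Nat.card K := by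
    rw [← Nat.card_congr (Subgroup.subgroupOfEquivOfLe hLC).toEquiv, heq, hK,
      Subgroup.card_subtype]
  rw [hLcard, hn, pow_succ] at h3
  have := pow_pos two_pos n (M₀ := ℕ)
  omega


/-- Let G be a finite group with an involution z whose centraliser C is isomorphic to the centraliser of a transvection of SL(5, 2). Then a Sylow 2-subgroup of C, viewed in G, is a Sylow 2-subgroup of G (its index in G is odd). -/
theorem result {G : Type*} [Group G] [Finite G] (s : Matrix.SpecialLinearGroup (Fin 5) (ZMod 2)) (hs : (s : Matrix (Fin 5) (Fin 5) (ZMod 2)) = Matrix.transvection 0 1 1) (z : G) (hz : orderOf z = 2) (e : (Subgroup.centralizer ({z} : Set G)) ≃* Subgroup.centralizer ({s} : Set (Matrix.SpecialLinearGroup (Fin 5) (ZMod 2)))) (T : Sylow 2 (Subgroup.centralizer ({z} : Set G))) : ¬ 2 ∣ ((T : Subgroup (Subgroup.centralizer ({z} : Set G))).map (Subgroup.subtype (Subgroup.centralizer ({z} : Set G)))).index := by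
  exact key s hs z hz _ rfl e T

end Cfsg.Agent.S1717
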