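import Cfsg.Statements.S1745
-- import your own Cfsg.Agent.* helpers here
import Cfsg.Agent.Lib.StdCover.Eight
import Cfsg.Agent.Lib.StdCover.McLEndgame
import Cfsg.Agent.S3334

set_option autoImplicit false
open Cfsg

namespace Cfsg.Agent.S1745

/-- Let G be a non-abelian finite simple group with the strong B-property (every section of G has the B-property) possessing a standard subgroup L which is a non-split double cover of the alternating group of degree 8. Then G is a group of Lie type in characteristic 3, or an alternating group of degree at least 9, or G is isomorphic to the McLaughlin group. -/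
theorem result {G : Type*} [Group G] [Finite G] [IsSimpleGroup G] (hG : ¬ IsMulCommutative G)
    (hB : Cfsg.HasStrongBProperty G) (L : Subgroup G) (hL : Cfsg.IsStandardSubgroup L)
    (hLX : Cfsg.IsNonsplitDoubleCover ↥L ↥(alternatingGroup (Fin 8))) :
    Cfsg.IsLieTypeChar 3 G ∨ (∃ n : ℕ, 9 ≤ n ∧ Nonempty (G ≃* ↥(alternatingGroup (Fin n)))) ∨ Cfsg.Spor.IsoMcL G := by
  classical
  refine Or.inr (Or.inr ?_)
  obtain ⟨π, z, hcov⟩ := CfsgLib.StdCover.exists_cover (by norm_num) hLX
  obtain ⟨-, ⟨-, hodd⟩, -, hnorm⟩ := hL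
  have hzK : (z : G) ∈ Subgroup.centralizer (L : Set G) :=
    Subgroup.mem_centralizer_iff.2 fun l hl => congrArg Subtype.val (hcov.central ⟨l, hl⟩)
  have hzz : (z : G) * z = 1 := congrArg Subtype.val hcov.sq_z
  have hz1 : (z : G) ≠ 1 := fun e => hcov.zne (Subtype.ext e)
  have hmeet : ∀ g k : G, k ∈ Subgroup.centralizer (L : Set G) → g * k * g⁻¹ ∈ Subgroup.centralizer (L : Set G) →
      k * k = 1 → k ≠ 1 → g ∈ Subgroup.normalizer (L : Set G) := by
    intro g k hk hgk h2 h1
    rw [hnorm]
    by_contra hgn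
    have hmem : g * k * g⁻¹ ∈ Subgroup.centralizer (L : Set G) ⊓
        (Subgroup.centralizer (L : Set G)).map (MulAut.conj g).toMonoidHom := ⟨hgk, k, hk, rfl⟩
    have ho : orderOf (g * k * g⁻¹) = 2 := (CfsgLib.Invol.orderOf_conj_eq g k).trans
      (orderOf_eq_prime (hp := ⟨Nat.prime_two⟩) (by rw [pow_two]; exact h2) h1)
    exact Nat.not_even_iff_odd.2 (hodd g hgn) (even_iff_two_dvd.2 (ho ▸ Subgroup.orderOf_dvd_natCard _ hmem))
  have hNz : ∀ g ∈ Subgroup.normalizer (L : Set G), Commute g (z : G) := by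
    intro g hg
    have hgz : g * z * g⁻¹ ∈ L := (Subgroup.mem_normalizer_iff.1 hg z).1 z.2
    have hcen : (⟨_, hgz⟩ : L) ∈ Subgroup.center L := by
      refine Subgroup.mem_center_iff.2 fun a => Subtype.ext ?_
      have ha : g⁻¹ * a * g⁻¹⁻¹ ∈ L :=
        (Subgroup.mem_normalizer_iff.1 ((Subgroup.normalizer (L : Set G)).inv_mem hg) a).1 a.2
      have e := (show Commute (g⁻¹ * a * g⁻¹⁻¹) (z : G) from congrArg Subtype.val (hcov.central ⟨_, ha⟩)).map
        (MulAut.conj g).toMonoidHom
      simpa [mul_assoc] using e.eq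
    have hz : π ⟨_, hgz⟩ = 1 := by
      rw [← Subgroup.mem_bot, ← alternatingGroup.center_eq_bot (α := Fin 8) (by simp), Subgroup.mem_center_iff]
      intro a
      obtain ⟨a, rfl⟩ := hcov.surj a
      rw [← map_mul, ← map_mul, Subgroup.mem_center_iff.1 hcen a]
    rcases (hcov.ker _).1 hz with e | e
    · exact absurd (conj_eq_one_iff.1 (congrArg Subtype.val e)) hz1
    · exact mul_inv_eq_iff_eq_mul.1 (congrArg Subtype.val e)
  have S : CfsgLib.StdCover.Setting π z :=
    { hn := le_rfl
      hn' := by norm_num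
      cov := hcov
      cent := fun x hx => hmeet x z hzK (by rw [hx.eq, mul_inv_cancel_right]; exact hzK) hzz hz1
      tight := fun g k h1 h2 h3 h4 => hNz g (hmeet g k h1 h2 h3 h4)
      wit := CfsgLib.StdCover.witP_eight
      ncomm := hG
      noOdd := CfsgLib.StdCover.noOdd_eight hcov }
  have ho : orderOf (z : G) = 2 := orderOf_eq_prime (hp := ⟨Nat.prime_two⟩) (by rw [pow_two]; exact hzz) hz1
  by_cases hD : S.oddPart = ⊥
  · have hC := S.cent_eq hD
    have hcovC : Cfsg.IsNonsplitDoubleCover (Subgroup.centralizer ({(z : G)} : Set G)) (alternatingGroup (Fin 8)) := by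
      rw [hC]; exact hLX
    refine (Cfsg.Agent.S3334.result (z : G) ho hcovC).resolve_left fun htop => ?_
    have hbot : Cfsg.oddCore G = ⊥ := by
      rcases (inferInstance : (Cfsg.oddCore G).Normal).eq_bot_or_eq_top with e | e
      · exact e
      · exfalso
        have h1 : Odd (Nat.card (Cfsg.oddCore G)) := CfsgLib.Cores.odd_card_oddCore
        rw [e, Subgroup.card_top] at h1
        exact (Nat.not_even_iff_odd.2 h1) (even_iff_two_dvd.2 (ho ▸ orderOf_dvd_natCard _))
    rw [hbot, sup_bot_eq] at htop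
    obtain ⟨g, hg, hgne⟩ := S.exists_pair
    exact hgne (Subgroup.mem_centralizer_singleton_iff.1 (htop ▸ Subgroup.mem_top g))
  · exfalso
    have hqo : orderOf (S.toQuot z) = 2 := by
      rw [orderOf_injective S.toQuot S.toQuot_injective, ← Subgroup.orderOf_coe, ho]
    obtain ⟨e⟩ := (Cfsg.Agent.S3334.result (S.toQuot z) hqo (S.cover_quot hLX)).resolve_left S.quot_not_central
    obtain ⟨e'⟩ := CfsgLib.McLRec.isoMcL_Mgrp
    refine CfsgLib.StdCover.mcl_false (S.strongly_embedded (S.normalizer_ne_top hD))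
      (t := ⟨(z : G), S.z_mem⟩) (by rw [Subgroup.orderOf_mk]; exact ho) _ (e.trans e'.symm) ?_
    have hcard : Nat.card L = 40320 := by
      obtain ⟨h2, ⟨q⟩, -⟩ := hLX
      rw [Subgroup.card_eq_card_quotient_mul_card_subgroup (Subgroup.center L), h2, Nat.card_congr q.toEquiv]
      have h8 := two_mul_nat_card_alternatingGroup (α := Fin 8)
      rw [Nat.card_perm, Nat.card_fin] at h8
      have h8' : (Nat.factorial 8) = 40320 := rfl
      omega
    rw [← S.toQuot_z, ← hcard, ← S.card_cent_quot]
    refine Nat.card_congr (Equiv.subtypeEquiv (e.trans e'.symm).toEquiv fun x => ?_).symm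
    rw [Subgroup.mem_centralizer_singleton_iff, Subgroup.mem_centralizer_singleton_iff]
    show x * S.toQuot z = S.toQuot z * x ↔
      (e.trans e'.symm) x * (e.trans e'.symm) (S.toQuot z) = (e.trans e'.symm) (S.toQuot z) * (e.trans e'.symm) x
    rw [← map_mul, ← map_mul, (e.trans e'.symm).injective.eq_iff]

end Cfsg.Agent.S1745
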