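import Cfsg.Statements.S1746
-- import your own Cfsg.Agent.* helpers here
import Cfsg.Agent.Lib.StdCover.Recog
import Cfsg.Agent.Lib.LyStd.Facts
import Cfsg.Agent.Lib.LyStd.Endgame
import Cfsg.Agent.Lib.LyRec.Main

set_option autoImplicit false
open Cfsg

namespace Cfsg.Agent.S1746

/-- Let G be a non-abelian finite simple group with the strong B-property (every section of G has the B-property) possessing a standard subgroup L which is a non-split double cover of the alternating group of degree 11. Then G is a group of Lie type in characteristic 3, or an alternating group of degree at least 9, or G is isomorphic to the Lyons group. -/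
theorem result {G : Type*} [Group G] [Finite G] [IsSimpleGroup G] (hG : ¬ IsMulCommutative G)
    (hB : Cfsg.HasStrongBProperty G) (L : Subgroup G) (hL : Cfsg.IsStandardSubgroup L)
    (hLX : Cfsg.IsNonsplitDoubleCover ↥L ↥(alternatingGroup (Fin 11))) :
    Cfsg.IsLieTypeChar 3 G ∨ (∃ n : ℕ, 9 ≤ n ∧ Nonempty (G ≃* ↥(alternatingGroup (Fin n)))) ∨ Cfsg.Spor.IsoLy G := by
  classical
  refine Or.inr (Or.inr ?_)
  obtain ⟨π, z, hcov⟩ := CfsgLib.StdCover.exists_cover (by norm_num) hLX
  obtain ⟨-, ⟨-, hodd⟩, -, hnorm⟩ := hL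
  have hzK : (z : G) ∈ Subgroup.centralizer (L : Set G) :=
    Subgroup.mem_centralizer_iff.2 fun l hl => congrArg Subtype.val (hcov.central ⟨l, hl⟩)
  have hzz : (z : G) * z = 1 := congrArg Subtype.val hcov.sq_z
  have hz1 : (z : G) ≠ 1 := fun e => hcov.zne (Subtype.ext e)
  have hmeet : ∀ g k : G, k ∈ Subgroup.centralizer (L : Set G) → g * k * g⁻¹ ∈ Subgroup.centralizer (L : Set G) →
      k * k = 1 → k ≠ 1 → g ∈ Subgroup.normalizer (L : Set G) := by
    intro g k hk hgk h2 h1
    rw [hnorm]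
    by_contra hgn
    have hmem : g * k * g⁻¹ ∈ Subgroup.centralizer (L : Set G) ⊓
        (Subgroup.centralizer (L : Set G)).map (MulAut.conj g).toMonoidHom := ⟨hgk, k, hk, rfl⟩
    have ho : orderOf (g * k * g⁻¹) = 2 := (CfsgLib.Invol.orderOf_conj_eq g k).trans
      (orderOf_eq_prime (hp := ⟨Nat.prime_two⟩) (by rw [pow_two]; exact h2) h1)
    exact Nat.not_even_iff_odd.2 (hodd g hgn) (even_iff_two_dvd.2 (ho ▸ Subgroup.orderOf_dvd_natCard _ hmem))
  have hNz : ∀ g ∈ Subgroup.normalizer (L : Set G), Commute g (z : G) := by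
    intro g hg
    have hgz : g * z * g⁻¹ ∈ L := (Subgroup.mem_normalizer_iff.1 hg z).1 z.2
    have hcen : (⟨_, hgz⟩ : L) ∈ Subgroup.center L := by
      refine Subgroup.mem_center_iff.2 fun a => Subtype.ext ?_
      have ha : g⁻¹ * a * g⁻¹⁻¹ ∈ L :=
        (Subgroup.mem_normalizer_iff.1 ((Subgroup.normalizer (L : Set G)).inv_mem hg) a).1 a.2
      have e := (show Commute (g⁻¹ * a * g⁻¹⁻¹) (z : G) from congrArg Subtype.val (hcov.central ⟨_, ha⟩)).map
        (MulAut.conj g).toMonoidHom
      simpa [mul_assoc] using e.eq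
    have hz : π ⟨_, hgz⟩ = 1 := by
      rw [← Subgroup.mem_bot, ← alternatingGroup.center_eq_bot (α := Fin 11) (by simp), Subgroup.mem_center_iff]
      intro a
      obtain ⟨a, rfl⟩ := hcov.surj a
      rw [← map_mul, ← map_mul, Subgroup.mem_center_iff.1 hcen a]
    rcases (hcov.ker _).1 hz with e | e
    · exact absurd (conj_eq_one_iff.1 (congrArg Subtype.val e)) hz1
    · exact mul_inv_eq_iff_eq_mul.1 (congrArg Subtype.val e)
  have S : CfsgLib.StdCover.Setting π z :=
    { hn := by norm_num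
      hn' := le_rfl
      cov := hcov
      cent := fun x hx => hmeet x z hzK (by rw [hx.eq, mul_inv_cancel_right]; exact hzK) hzz hz1
      tight := fun g k h1 h2 h3 h4 => hNz g (hmeet g k h1 h2 h3 h4)
      wit := fun _ h => CfsgLib.LyStd.wit h
      ncomm := hG
      noOdd := CfsgLib.LyStd.noOdd hcov }
  have ho : orderOf (z : G) = 2 := orderOf_eq_prime (hp := ⟨Nat.prime_two⟩) (by rw [pow_two]; exact hzz) hz1
  by_cases hD : S.oddPart = ⊥
  · refine CfsgLib.LyRec.isoLy_of_type (z : G) ho ?_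
    rw [S.cent_eq hD]; exact hLX
  · exfalso
    have hqo : orderOf (S.toQuot z) = 2 := by
      rw [orderOf_injective S.toQuot S.toQuot_injective, ← Subgroup.orderOf_coe, ho]
    obtain ⟨g, hg⟩ := S.exists_pair
    obtain ⟨l, hl, -, -, hlz⟩ := S.pair_mem hg
    have hgM : g ∈ Subgroup.normalizer (S.oddPart : Set G) := S.mem_normalizer hg.1
    have hgq : QuotientGroup.mk ⟨g, hgM⟩ * S.toQuot z * (QuotientGroup.mk ⟨g, hgM⟩)⁻¹ = S.toQuot l := by
      show _ = QuotientGroup.mk _
      rw [S.toQuot_z, ← QuotientGroup.mk_inv, ← QuotientGroup.mk_mul, ← QuotientGroup.mk_mul]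
      exact congrArg _ (Subtype.ext hl.symm)
    haveI := CfsgLib.LyStd.isSimpleGroup hqo (S.cover_quot hLX) (g := QuotientGroup.mk ⟨g, hgM⟩)
      (by rw [hgq, ← map_mul, ← map_mul, hcov.central l])
      (by rw [hgq]; exact fun e => hlz (S.toQuot_injective e))
    obtain ⟨e⟩ := CfsgLib.LyRec.isoLy_of_type (S.toQuot z) hqo (S.cover_quot hLX)
    refine CfsgLib.LyStd.ly_false (S.strongly_embedded (S.normalizer_ne_top hD))
      (t := ⟨(z : G), S.z_mem⟩) (by rw [Subgroup.orderOf_mk]; exact ho) _ e ?_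
    rw [← S.toQuot_z, ← CfsgLib.LyType.card_cent hqo (S.cover_quot hLX)]
    refine Nat.card_congr (Equiv.subtypeEquiv e.toEquiv fun x => ?_).symm
    rw [Subgroup.mem_centralizer_singleton_iff, Subgroup.mem_centralizer_singleton_iff]
    show x * S.toQuot z = S.toQuot z * x ↔ e x * e (S.toQuot z) = e (S.toQuot z) * e x
    rw [← map_mul, ← map_mul, e.injective.eq_iff]

end Cfsg.Agent.S1746
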