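import Cfsg.Statements.S1755
import Cfsg.Agent.Lib.Cores.Components

set_option autoImplicit false
open Cfsg

namespace Cfsg.Agent.S1755

/-- A cyclic group has at most one involution. -/
theorem isCyclic_two_unique {H : Type*} [Group H] [Finite H] (h : IsCyclic H) (x y : H) (hx : x ^ 2 = 1)
    (hx1 : x ≠ 1) (hy : y ^ 2 = 1) (hy1 : y ≠ 1) : x = y := by
  classical
  have := Fintype.ofFinite H
  have hle := h.card_pow_eq_one_le (α := H) (n := 2) two_pos
  by_contra hne
  have : ({1, x, y} : Finset H) ⊆ Finset.univ.filter fun a : H => a ^ 2 = 1 := by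
    intro a ha
    simp only [Finset.mem_insert, Finset.mem_singleton] at ha
    rcases ha with rfl | rfl | rfl <;> simp [*]
  have := Finset.card_le_card this
  rw [Finset.card_insert_of_notMem (by simp [Ne.symm hx1, Ne.symm hy1]),
    Finset.card_insert_of_notMem (by simp [hne]), Finset.card_singleton] at this
  omega

theorem main {G : Type*} [Group G] [Finite G] (z : G) (hz : orderOf z = 2) (C : Subgroup G)
    (hC : C = Subgroup.centralizer ({z} : Set G)) (Q : Subgroup ↥C) [Q.Normal]
    (hQC : Subgroup.centralizer (Q : Set ↥C) ≤ Q) (hQ : Cfsg.IsOfSymplecticType ↥Q)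
    (B : Subgroup ↥Q) [hBc : B.Characteristic] (hBa : IsMulCommutative ↥B) (g : G) :
    ((B.map Q.subtype).map C.subtype).map (MulAut.conj g).toMonoidHom = (B.map Q.subtype).map C.subtype ∨
      ((B.map Q.subtype).map C.subtype).map (MulAut.conj g).toMonoidHom ⊓ (B.map Q.subtype).map C.subtype = ⊥ := by
  set B' := (B.map Q.subtype).map C.subtype with hB'
  have h2 : Fact (Nat.Prime 2) := ⟨Nat.prime_two⟩
  have hzC : z ∈ C := hC ▸ Subgroup.mem_centralizer_singleton_iff.2 rfl
  have hzc : ∀ c : C, c * ⟨z, hzC⟩ = ⟨z, hzC⟩ * c := fun c =>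
    Subtype.ext (Subgroup.mem_centralizer_singleton_iff.1 (hC ▸ c.2 : (c : G) ∈ Subgroup.centralizer ({z} : Set G)))
  have hzQ : (⟨z, hzC⟩ : C) ∈ Q := hQC
    (Subgroup.mem_centralizer_iff.2 fun c _ => hzc c)
  have hB'n : ∀ c : G, c ∈ C → B'.map (MulAut.conj c).toMonoidHom = B' := by
    intro c hc
    have hn : (B.map Q.subtype).Normal := inferInstance
    have h1 : (B.map Q.subtype).map (MulAut.conj (⟨c, hc⟩ : C)).toMonoidHom = B.map Q.subtype :=
      (Subgroup.normal_iff_map_conj_eq.1 hn) _
    conv_rhs => rw [hB', ← h1]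
    conv_lhs => rw [hB']
    rw [Subgroup.map_map (B.map Q.subtype), Subgroup.map_map (B.map Q.subtype)]
    rfl
  have uniq : ∀ x : Q, x ∈ Subgroup.center Q → x ^ 2 = 1 → x ≠ 1 → x = ⟨_, hzQ⟩ := by
    intro x hx hx2 hx1
    have hcyc := hQ.2 (Subgroup.center Q) inferInstance inferInstance
    have hzc' : (⟨_, hzQ⟩ : Q) ∈ Subgroup.center Q :=
      Subgroup.mem_center_iff.2 fun y => Subtype.ext (hzc y)
    have := (isCyclic_two_unique hcyc (⟨x, hx⟩ : Subgroup.center Q) ⟨⟨_, hzQ⟩, hzc'⟩ (Subtype.ext hx2)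
      (fun h => hx1 (congrArg Subtype.val h)) ?_ ?_)
    · exact congrArg Subtype.val this
    · refine Subtype.ext (Subtype.ext (Subtype.ext ?_))
      show z ^ 2 = 1
      rw [← hz]; exact pow_orderOf_eq_one z
    · intro h
      have h' : z = 1 := congrArg (fun w : Subgroup.center Q => (((w : Q) : C) : G)) h
      rw [h', orderOf_one] at hz; omega
  have inv : ∀ y ∈ B', y ^ 2 = 1 → y ≠ 1 → y = z := by
    rintro _ ⟨_, ⟨x, hx, rfl⟩, rfl⟩ hy2 hy1
    have hx2 : x ^ 2 = 1 := Subtype.ext (Subtype.ext hy2)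
    have hx1 : x ≠ 1 := fun h => hy1 (by rw [h]; rfl)
    have hcyc := hQ.2 B hBc hBa
    have hcen : x ∈ Subgroup.center Q := by
      refine Subgroup.mem_center_iff.2 fun q => ?_
      have hn : B.Normal := inferInstance
      have hmem : q * x * q⁻¹ ∈ B := hn.conj_mem x hx q
      have := isCyclic_two_unique hcyc (⟨q * x * q⁻¹, hmem⟩ : B) ⟨x, hx⟩
        (Subtype.ext (show (q * x * q⁻¹) ^ 2 = 1 by rw [conj_pow, hx2]; simp))
        (fun h => hx1 (conj_eq_one_iff.1 (congrArg Subtype.val h))) (Subtype.ext hx2)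
        (fun h => hx1 (congrArg Subtype.val h))
      exact mul_inv_eq_iff_eq_mul.1 (congrArg Subtype.val this)
    rw [uniq x hcen hx2 hx1]; rfl
  by_cases hne : B'.map (MulAut.conj g).toMonoidHom ⊓ B' = ⊥
  · exact Or.inr hne
  refine Or.inl (hB'n g ?_)
  have hp : IsPGroup 2 ↥B' := ((hQ.1.to_subgroup B).map _).map _
  obtain ⟨y, hy⟩ := exists_prime_orderOf_dvd_card' (G := ↥(B'.map (MulAut.conj g).toMonoidHom ⊓ B')) 2
    (((hp.to_le inf_le_right).card_eq_or_dvd).resolve_left fun h => hne (Subgroup.eq_bot_of_card_eq _ h))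
  obtain ⟨x, hx, hxy⟩ := y.2.1
  have hy2 : ((y : G)) ^ 2 = 1 := by rw [← hy, ← Subgroup.orderOf_coe]; exact pow_orderOf_eq_one _
  have hy1 : (y : G) ≠ 1 := fun h => by rw [← Subgroup.orderOf_coe, h, orderOf_one] at hy; omega
  have hyz := inv _ y.2.2 hy2 hy1
  simp only [MulEquiv.coe_toMonoidHom, MulAut.conj_apply] at hxy
  have hxz : x = z := inv x hx
    (by rw [← hxy, conj_pow] at hy2; exact conj_eq_one_iff.1 hy2)
    (fun h => hy1 (by rw [← hxy, h]; simp))
  rw [hC, Subgroup.mem_centralizer_singleton_iff]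
  rw [hxz, hyz] at hxy
  exact mul_inv_eq_iff_eq_mul.1 hxy


/-- Let G be a finite group and let z be an involution of G such that Q, the generalized Fitting subgroup of the centralizer C of z, is a 2-group of symplectic type (every characteristic abelian subgroup of Q is cyclic). Let B be a characteristic abelian subgroup of Q, viewed as a subgroup of G. Then for every g in G, the conjugate of B by g either equals B or meets B trivially. -/
theorem result {G : Type*} [Group G] [Finite G] (z : G) (hz : orderOf z = 2) (hQ : Cfsg.IsOfSymplecticType ↥(Cfsg.generalizedFittingSubgroup ↥(Subgroup.centralizer ({z} : Set G))))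
    (B : Subgroup ↥(Cfsg.generalizedFittingSubgroup ↥(Subgroup.centralizer ({z} : Set G)))) (hBc : B.Characteristic) (hBa : IsMulCommutative ↥B) (g : G) :
    ((B.map (Cfsg.generalizedFittingSubgroup ↥(Subgroup.centralizer ({z} : Set G))).subtype).map (Subgroup.centralizer ({z} : Set G)).subtype).map (MulAut.conj g).toMonoidHom =
        (B.map (Cfsg.generalizedFittingSubgroup ↥(Subgroup.centralizer ({z} : Set G))).subtype).map (Subgroup.centralizer ({z} : Set G)).subtype ∨
      ((B.map (Cfsg.generalizedFittingSubgroup ↥(Subgroup.centralizer ({z} : Set G))).subtype).map (Subgroup.centralizer ({z} : Set G)).subtype).map (MulAut.conj g).toMonoidHom ⊓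
        (B.map (Cfsg.generalizedFittingSubgroup ↥(Subgroup.centralizer ({z} : Set G))).subtype).map (Subgroup.centralizer ({z} : Set G)).subtype = ⊥ := by
  haveI : (Cfsg.generalizedFittingSubgroup ↥(Subgroup.centralizer ({z} : Set G))).Normal :=
    CfsgLib.Cores.generalizedFittingSubgroup_normal
  haveI := hBc
  exact main z hz _ rfl _ CfsgLib.Cores.centralizer_generalizedFittingSubgroup_le hQ B hBa g

end Cfsg.Agent.S1755
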