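import Cfsg.Statements.S1756
import Cfsg.Agent.Lib.LargeExtra.Extraspecial

set_option autoImplicit false
open Cfsg

namespace Cfsg.Agent.S1756

open CfsgLib.LargeExtra

theorem hz2 {G : Type*} [Group G] {t : G} (ht : orderOf t = 2) : t ^ 2 = 1 := by
  rw [← ht]; exact pow_orderOf_eq_one t

/-- Let Q be an extraspecial 2-subgroup of the finite group G (special with centre of order 2) and t an involution of G normalizing Q such that the centralizer of t in Q has index at most 2 in Q. Then t lies in the product of Q with the centralizer of Q. -/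
theorem result {G : Type*} [Group G] [Finite G] (Q : Subgroup G)
    (hQ : Cfsg.IsExtraspecial 2 ↥Q) (t : G) (ht : orderOf t = 2) (htN : t ∈ Subgroup.normalizer (Q : Set G))
    (hi : (Subgroup.centralizer ({t} : Set G) ⊓ Q).relIndex Q ≤ 2) :
    t ∈ Q ⊔ Subgroup.centralizer (Q : Set G) := by
  have h2 : Fact (Nat.Prime 2) := ⟨Nat.prime_two⟩
  let φ : Q ≃* Q := Q.normalizerMonoidHom ⟨t, htN⟩
  have hφ : ∀ x : Q, (φ x : G) = t * x * t⁻¹ := fun x => rfl
  have htt : t * t = 1 := by rw [← pow_two, hz2 ht]
  have hφφ : ∀ x : Q, φ (φ x) = x := fun x => Subtype.ext (by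
    rw [hφ, hφ]
    calc t * (t * x * t⁻¹) * t⁻¹ = (t * t) * x * (t * t)⁻¹ := by group
      _ = _ := by rw [htt]; simp)
  set R : Subgroup Q := (Subgroup.centralizer ({t} : Set G) ⊓ Q).subgroupOf Q with hR
  have hRf : ∀ x ∈ R, φ x = x := fun x hx => Subtype.ext (by
    rw [hφ, mul_inv_eq_iff_eq_mul]; exact (Subgroup.mem_centralizer_singleton_iff.1 hx.1).symm)
  have hfix : ∀ x : Q, φ x = x → x ∈ R := fun x hx => ⟨Subgroup.mem_centralizer_singleton_iff.2 (by
    have := congrArg Subtype.val hx
    rw [hφ, mul_inv_eq_iff_eq_mul] at this; exact this.symm), x.2⟩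
  have hidx : R.index ≤ 2 := hi
  have main : ∀ x : Q, φ x * x⁻¹ ∈ Subgroup.center Q := by
    rcases Nat.lt_or_ge R.index 2 with h1 | h1
    · have : R = ⊤ := Subgroup.index_eq_one.1 (by have := R.index_ne_zero_of_finite; omega)
      intro x
      rw [hRf x (this ▸ Subgroup.mem_top x), mul_inv_cancel]
      exact Subgroup.one_mem _
    have hR2 : R.index = 2 := le_antisymm hidx h1
    haveI hRn : R.Normal := Subgroup.normal_of_index_eq_two hR2
    have hZR : Subgroup.center Q ≤ R := by
      intro z hz
      apply hfix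
      obtain ⟨z0, hz0, hord, huniq⟩ := exists_centre_gen hQ
      have hmap : φ z ∈ Subgroup.center Q := by
        refine Subgroup.mem_center_iff.2 fun y => ?_
        obtain ⟨y', rfl⟩ := φ.surjective y
        rw [← map_mul, ← map_mul, Subgroup.mem_center_iff.1 hz y']
      rcases huniq z hz with rfl | rfl
      · exact map_one φ
      · rcases huniq _ hmap with h | h
        · rw [φ.map_eq_one_iff] at h; rw [h, map_one]
        · exact h
    have hcard : Nat.card (Subgroup.centralizer (R : Set Q)) = 2 ^ 2 := by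
      have h := card_centralizer_mul_card hQ R hZR
      rw [← Subgroup.card_mul_index R, hR2, hQ.2] at h
      exact Nat.eq_of_mul_eq_mul_right Nat.card_pos (h.trans (by ring))
    have hCR : Subgroup.centralizer (R : Set Q) ≤ R := by
      have := IsPGroup.isMulCommutative_of_card_eq_prime_sq hcard
      refine le_trans (fun x hx => Subgroup.mem_centralizer_iff.2 fun y hy => ?_) (centralizer_centralizer hQ R hZR).le
      exact congrArg Subtype.val (this.is_comm.comm (⟨y, hy⟩ : Subgroup.centralizer (R : Set Q)) ⟨x, hx⟩)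
    intro x
    set d := x⁻¹ * φ x with hd
    have hdC : d ∈ Subgroup.centralizer (R : Set Q) := by
      refine Subgroup.mem_centralizer_iff.2 fun r hr => ?_
      have h' : φ (x * r * x⁻¹) = x * r * x⁻¹ := hRf _ (hRn.conj_mem r hr x)
      rw [map_mul, map_mul, hRf r hr, map_inv] at h'
      rw [hd]
      calc r * (x⁻¹ * φ x) = x⁻¹ * (x * r * x⁻¹) * φ x := by group
        _ = x⁻¹ * (φ x * r * (φ x)⁻¹) * φ x := by rw [h']
        _ = x⁻¹ * φ x * r := by group
    have hφd : φ d = d := hRf d (hCR hdC)
    have hxd : φ x = x * d := by rw [hd]; group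
    have hd2 : d * d = 1 := by
      have := hφφ x
      rw [hxd, map_mul, hxd, hφd, mul_assoc] at this
      exact mul_eq_left.1 this
    have hsq : φ (x * x) = x * x := hRf _ (hZR (sq_mem_center hQ x))
    rw [map_mul, hxd] at hsq
    have hdx : d * x = x * d := by
      calc d * x = x⁻¹ * (x * d * (x * d)) * d⁻¹ := by group
        _ = x⁻¹ * (x * x) * d⁻¹ := by rw [hsq]
        _ = x * d := by rw [inv_eq_of_mul_eq_one_right hd2]; group
    rw [hxd, mul_assoc]
    by_cases hx : x ∈ R
    · have : d = 1 := by rw [hd, hRf x hx, inv_mul_cancel]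
      simp [this]
    have hcen : d ∈ Subgroup.center Q := by
      refine Subgroup.mem_center_iff.2 fun y => ?_
      by_cases hy : y ∈ R
      · exact Subgroup.mem_centralizer_iff.1 hdC y hy
      have hyx : y * x⁻¹ ∈ R := (Subgroup.mul_mem_iff_of_index_two hR2).2
        ⟨fun h => absurd h hy, fun h => absurd (inv_mem_iff.1 h) hx⟩
      calc y * d = y * x⁻¹ * (x * d) := by group
        _ = (y * x⁻¹ * d) * x := by rw [← hdx]; group
        _ = (d * (y * x⁻¹)) * x := by rw [Subgroup.mem_centralizer_iff.1 hdC _ hyx]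
        _ = d * y := by group
    rw [← mul_assoc, Subgroup.mem_center_iff.1 hcen x, mul_inv_cancel_right]
    exact hcen
  obtain ⟨g, hg⟩ := exists_inner_of_trivial_mod_center hQ φ main
  have hmem : (g : G)⁻¹ * t ∈ Subgroup.centralizer (Q : Set G) := by
    refine Subgroup.mem_centralizer_iff.2 fun y hy => ?_
    have h := congrArg Subtype.val (hg ⟨y, hy⟩)
    rw [hφ] at h
    calc y * ((g : G)⁻¹ * t) = (g : G)⁻¹ * ((g : G) * y * (g : G)⁻¹) * t := by group
      _ = (g : G)⁻¹ * (t * y * t⁻¹) * t := by
        rw [show (t * y * t⁻¹ : G) = g * y * (g : G)⁻¹ from h]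
      _ = (g : G)⁻¹ * t * y := by group
  have := Subgroup.mul_mem_sup g.2 hmem
  simpa using this

end Cfsg.Agent.S1756
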