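import Cfsg.Statements.S1757
-- import your own Cfsg.Agent.* helpers here

set_option autoImplicit false
open Cfsg

namespace Cfsg.Agent.S1757

/-- Let p be a prime and A, B p-subgroups of the finite group G, each of which meets every conjugate of itself other than itself trivially. Suppose the order of A is at most that of B, A and B intersect trivially, and B normalizes A. Then A and B commute elementwise. -/
theorem result {G : Type*} [Group G] [Finite G] (p : ℕ) [Fact p.Prime] (A B : Subgroup G)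
    (hA : IsPGroup p ↥A) (hB : IsPGroup p ↥B)
    (hAti : ∀ g : G, A.map (MulAut.conj g).toMonoidHom = A ∨ A.map (MulAut.conj g).toMonoidHom ⊓ A = ⊥)
    (hBti : ∀ g : G, B.map (MulAut.conj g).toMonoidHom = B ∨ B.map (MulAut.conj g).toMonoidHom ⊓ B = ⊥)
    (hle : Nat.card ↥A ≤ Nat.card ↥B) (hAB : A ⊓ B = ⊥) (hN : B ≤ Subgroup.normalizer (A : Set G)) : ⁅A, B⁆ = ⊥ := by
  classical
  rw [Subgroup.commutator_eq_bot_iff_le_centralizer]
  -- it suffices that A normalizes B
  suffices hA' : ∀ a ∈ A, B.map (MulAut.conj a).toMonoidHom = B by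
    intro a ha b hb
    have h1 : b * a * b⁻¹ * a⁻¹ ∈ A :=
      A.mul_mem ((Subgroup.mem_normalizer_iff.1 (hN hb) a).1 ha) (A.inv_mem ha)
    have h2 : b * a * b⁻¹ * a⁻¹ ∈ B := by
      have : a * b⁻¹ * a⁻¹ ∈ B := by
        have h' : a * b⁻¹ * a⁻¹ ∈ B.map (MulAut.conj a).toMonoidHom := ⟨b⁻¹, B.inv_mem hb, rfl⟩
        rwa [hA' a ha] at h'
      simpa [mul_assoc] using B.mul_mem hb this
    have h3 : b * a * b⁻¹ * a⁻¹ ∈ A ⊓ B := ⟨h1, h2⟩
    rw [hAB, Subgroup.mem_bot, mul_inv_eq_one, mul_inv_eq_iff_eq_mul] at h3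
    exact h3
  intro a ha
  by_contra hne
  set B' := B.map (MulAut.conj a).toMonoidHom
  have hd : B' ⊓ B = ⊥ := (hBti a).resolve_left hne
  have hB'U : B' ≤ A ⊔ B := by
    rintro _ ⟨b, hb, rfl⟩
    exact Subgroup.mul_mem _ (Subgroup.mul_mem _ (Subgroup.mem_sup_left ha) (Subgroup.mem_sup_right hb))
      (Subgroup.inv_mem _ (Subgroup.mem_sup_left ha))
  have hcardB : Nat.card B' = Nat.card B := Subgroup.card_map_of_injective (MulAut.conj a).injective
  -- the product map
  let f : B' × B → ↥(A ⊔ B) := fun p =>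
    ⟨(p.1 : G) * p.2, Subgroup.mul_mem _ (hB'U p.1.2) (Subgroup.mem_sup_right p.2.2)⟩
  have hf : Function.Injective f := fun p q h =>
    Subgroup.mul_injective_of_disjoint (disjoint_iff.2 hd) (congrArg Subtype.val h)
  have hcard : Nat.card ↥(A ⊔ B) ≤ Nat.card A * Nat.card B := by
    rw [← Nat.card_prod]
    refine Nat.card_le_card_of_surjective
      (fun p : A × B => (⟨(p.1 : G) * p.2, Subgroup.mul_mem_sup p.1.2 p.2.2⟩ : ↥(A ⊔ B))) ?_
    rintro ⟨g, hg⟩
    have hg' : g ∈ ((A ⊔ B : Subgroup G) : Set G) := hg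
    rw [Subgroup.coe_mul_of_right_le_normalizer_left A B hN] at hg'
    obtain ⟨x, hx, y, hy, rfl⟩ := hg'
    exact ⟨(⟨x, hx⟩, ⟨y, hy⟩), rfl⟩
  have hbij : Function.Bijective f := by
    refine (Function.Injective.bijective_of_nat_card_le hf ?_)
    rw [Nat.card_prod, hcardB]
    exact hcard.trans (Nat.mul_le_mul_right _ hle)
  obtain ⟨⟨⟨x, hx⟩, ⟨y, hy⟩⟩, hxy⟩ := hbij.2 ⟨a, Subgroup.mem_sup_left ha⟩
  have hxy' : x * y = a := congrArg Subtype.val hxy
  obtain ⟨b, hb, rfl⟩ := hx
  change a * b * a⁻¹ * y = a at hxy'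
  have haB : a ∈ B := by
    have h' : b * a⁻¹ * y = 1 := by
      have h'' : a * (b * a⁻¹ * y) = a * 1 := by rw [mul_one]; simpa [mul_assoc] using hxy'
      exact mul_left_cancel h''
    have : a = y * b := by
      have : a⁻¹ = b⁻¹ * y⁻¹ := by
        have : b * a⁻¹ = y⁻¹ := eq_inv_of_mul_eq_one_left h'
        rw [← this, inv_mul_cancel_left]
      simpa using congrArg Inv.inv this
    rw [this]; exact B.mul_mem hy hb
  have : a = 1 := by
    have : a ∈ A ⊓ B := ⟨ha, haB⟩
    rwa [hAB, Subgroup.mem_bot] at this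
  subst this
  exact hne (by simp only [B', map_one]; exact Subgroup.map_id B)

end Cfsg.Agent.S1757
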