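import Cfsg.Statements.S1774
import Cfsg.Agent.Lib.Local.SymplecticFour
import Cfsg.Agent.Lib.Local.OddAction
import Cfsg.Agent.Lib.Cores.Components
import Cfsg.Agent.Lib.LocalEven.Basic

set_option autoImplicit false
open Cfsg
open scoped commutatorElement

namespace Cfsg.Agent.S1774

variable {G : Type*} [Group G]

/-- The facts used about the pair `(z, Q)`. -/
structure Data (z : G) (Q : Subgroup G) : Prop where
  le : ∀ q ∈ Q, q * z = z * q
  normal : ∀ c : G, c * z = z * c → ∀ q ∈ Q, c * q * c⁻¹ ∈ Q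
  self : ∀ c : G, c * z = z * c → (∀ q ∈ Q, q * c = c * q) → c ∈ Q
  comm : ∀ a ∈ Q, ∀ b ∈ Q, a * b * a⁻¹ * b⁻¹ ∈ Subgroup.zpowers z
  sq : ∀ a ∈ Q, a * a ∈ Subgroup.zpowers z
  central : ∀ x ∈ Q, (∀ q ∈ Q, q * x = x * q) → x ≠ 1 → z ∈ Subgroup.zpowers x
  two : IsPGroup 2 Q
  full : IsPGroup 2 (Subgroup.centralizer ({z} : Set G)) → Subgroup.centralizer ({z} : Set G) ≤ Q

theorem two_values {z x : G} (hz : z * z = 1) (hx : x ∈ Subgroup.zpowers z) : x = 1 ∨ x = z := by
  obtain ⟨i, rfl⟩ := Subgroup.mem_zpowers_iff.1 hx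
  have h2 : ∀ j : ℤ, z ^ j * z ^ j = 1 := fun j => by rw [← (Commute.refl z).mul_zpow, hz, one_zpow]
  rcases Int.even_or_odd i with ⟨j, rfl⟩ | ⟨j, rfl⟩
  · exact Or.inl (by rw [zpow_add, h2])
  · exact Or.inr (by rw [zpow_add, zpow_one, two_mul, zpow_add, h2, one_mul])

theorem data_of [Finite G] (z : G) (hz : orderOf z = 2)
    [hn : (Cfsg.generalizedFittingSubgroup ↥(Subgroup.centralizer ({z} : Set G))).Normal]
    (hQ : Cfsg.IsOfSymplecticType ↥(Cfsg.generalizedFittingSubgroup ↥(Subgroup.centralizer ({z} : Set G))))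
    (h4 : ∀ q ∈ (Cfsg.generalizedFittingSubgroup ↥(Subgroup.centralizer ({z} : Set G))).map
      (Subgroup.centralizer ({z} : Set G)).subtype, q ^ 4 = 1) :
    Data z ((Cfsg.generalizedFittingSubgroup ↥(Subgroup.centralizer ({z} : Set G))).map
      (Subgroup.centralizer ({z} : Set G)).subtype) := by
  set C := Subgroup.centralizer ({z} : Set G) with hC
  set Q := Cfsg.generalizedFittingSubgroup ↥C
  have hzC : z ∈ C := Subgroup.mem_centralizer_singleton_iff.2 rfl
  have hzc : ∀ c : C, (c : G) * z = z * c := fun c => Subgroup.mem_centralizer_singleton_iff.1 c.2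
  have hzQ : (⟨z, hzC⟩ : C) ∈ Q := CfsgLib.Cores.centralizer_generalizedFittingSubgroup_le
    (Subgroup.mem_centralizer_iff.2 fun c _ => Subtype.ext (hzc c))
  obtain ⟨hc, hs, hcen⟩ := CfsgLib.Local.symplectic_four hQ
    (fun q => Subtype.ext (Subtype.ext (h4 _ ⟨q, q.2, rfl⟩))) (z := ⟨_, hzQ⟩)
    (Subgroup.mem_center_iff.2 fun q => Subtype.ext (Subtype.ext (hzc q)))
    (Subtype.ext (Subtype.ext (show z ^ 2 = 1 from hz ▸ pow_orderOf_eq_one z)))
    (fun h => by
      have h' : z = 1 := congrArg (fun w : Q => ((w : C) : G)) h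
      rw [h', orderOf_one] at hz; omega)
  refine ⟨?_, ?_, ?_, ?_, ?_, ?_, (hQ.1.map _), ?_⟩
  · rintro _ ⟨q, -, rfl⟩; exact hzc q
  · rintro c hc' _ ⟨q, hq, rfl⟩
    exact ⟨⟨c, Subgroup.mem_centralizer_singleton_iff.2 hc'⟩ * q * ⟨c, Subgroup.mem_centralizer_singleton_iff.2 hc'⟩⁻¹,
      hn.conj_mem q hq _, rfl⟩
  · intro c hc' h
    exact ⟨⟨c, Subgroup.mem_centralizer_singleton_iff.2 hc'⟩, CfsgLib.Cores.centralizer_generalizedFittingSubgroup_le
      (Subgroup.mem_centralizer_iff.2 fun q hq => Subtype.ext (h q ⟨q, hq, rfl⟩)), rfl⟩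
  · rintro _ ⟨a, ha, rfl⟩ _ ⟨b, hb, rfl⟩
    rcases hc ⟨a, ha⟩ ⟨b, hb⟩ with h | h
    · rw [show C.subtype a * C.subtype b * (C.subtype a)⁻¹ * (C.subtype b)⁻¹ = 1 from
        congrArg (fun w : Q => ((w : C) : G)) h]
      exact Subgroup.one_mem _
    · rw [show C.subtype a * C.subtype b * (C.subtype a)⁻¹ * (C.subtype b)⁻¹ = z from
        congrArg (fun w : Q => ((w : C) : G)) h]
      exact Subgroup.mem_zpowers z
  · rintro _ ⟨a, ha, rfl⟩
    rw [← pow_two]
    rcases hs ⟨a, ha⟩ with h | h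
    · rw [show (C.subtype a) ^ 2 = 1 from congrArg (fun w : Q => ((w : C) : G)) h]
      exact Subgroup.one_mem _
    · rw [show (C.subtype a) ^ 2 = z from congrArg (fun w : Q => ((w : C) : G)) h]
      exact Subgroup.mem_zpowers z
  · rintro _ ⟨x, hx, rfl⟩ h h1
    obtain ⟨i, hi⟩ := Subgroup.mem_zpowers_iff.1 (hcen ⟨x, hx⟩
      (Subgroup.mem_center_iff.2 fun q => Subtype.ext (Subtype.ext (h _ ⟨q, q.2, rfl⟩)))
      fun hx1 => h1 (congrArg (fun w : Q => ((w : C) : G)) hx1))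
    exact Subgroup.mem_zpowers_iff.2 ⟨i, congrArg (fun w : Q => ((w : C) : G)) hi⟩
  · intro hp c hc'
    have : Fact (Nat.Prime 2) := ⟨Nat.prime_two⟩
    refine ⟨⟨c, hc'⟩, (CfsgLib.Cores.pCore_le_fittingSubgroup 2).trans
      CfsgLib.Cores.fittingSubgroup_le_generalizedFittingSubgroup ?_, rfl⟩
    rw [CfsgLib.Cores.pCore_eq_top_iff.2 hp]
    exact Subgroup.mem_top _

theorem data_conj {z : G} {Q : Subgroup G} (h : Data z Q) (g : G) :
    Data (g * z * g⁻¹) (Q.map (MulAut.conj g).toMonoidHom) := by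
  let φ := (MulAut.conj g).toMonoidHom
  have hφ : Function.Injective φ := (MulAut.conj g).injective
  have hz : g * z * g⁻¹ = φ z := rfl
  have hsurj : ∀ c : G, ∃ d, φ d = c := (MulAut.conj g).surjective
  have hzp : ∀ x ∈ Subgroup.zpowers z, φ x ∈ Subgroup.zpowers (φ z) := fun x hx => by
    rw [← MonoidHom.map_zpowers]; exact Subgroup.mem_map_of_mem φ hx
  have hC : Subgroup.centralizer ({φ z} : Set G) = (Subgroup.centralizer ({z} : Set G)).map φ := by
    ext c
    obtain ⟨d, rfl⟩ := hsurj c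
    rw [Subgroup.mem_map_iff_mem hφ, Subgroup.mem_centralizer_singleton_iff, Subgroup.mem_centralizer_singleton_iff,
      ← map_mul, ← map_mul, hφ.eq_iff]
  rw [hz]
  refine ⟨?_, ?_, ?_, ?_, ?_, ?_, h.two.map _, ?_⟩
  · rintro _ ⟨q, hq, rfl⟩
    rw [← map_mul, ← map_mul, h.le q hq]
  · intro c hc q' hq'
    obtain ⟨q, hq, rfl⟩ := hq'
    obtain ⟨d, rfl⟩ := hsurj c
    rw [← map_mul, ← map_mul] at hc
    exact ⟨d * q * d⁻¹, h.normal d (hφ hc) q hq, by rw [map_mul, map_mul, map_inv]⟩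
  · intro c hc hq
    obtain ⟨d, rfl⟩ := hsurj c
    rw [← map_mul, ← map_mul] at hc
    exact ⟨d, h.self d (hφ hc) fun q hq' => hφ (by rw [map_mul, map_mul]; exact hq _ ⟨q, hq', rfl⟩), rfl⟩
  · rintro _ ⟨a, ha, rfl⟩ _ ⟨b, hb, rfl⟩
    rw [← map_mul, ← map_inv, ← map_mul, ← map_inv, ← map_mul]
    exact hzp _ (h.comm a ha b hb)
  · rintro _ ⟨a, ha, rfl⟩
    rw [← map_mul]
    exact hzp _ (h.sq a ha)
  · rintro _ ⟨x, hx, rfl⟩ hq h1
    rw [← MonoidHom.map_zpowers]
    exact Subgroup.mem_map_of_mem φ (h.central x hx (fun q hq' => hφ (by rw [map_mul, map_mul]; exact hq _ ⟨q, hq', rfl⟩))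
      fun he => h1 (by rw [he, map_one]))
  · intro hp
    rw [hC] at hp ⊢
    exact Subgroup.map_mono (h.full (hp.of_equiv (Subgroup.equivMapOfInjective _ φ hφ).symm))

section

variable {z z' : G} {Q Q' : Subgroup G}

theorem comm_eq {a b c : G} (hc : a * b * a⁻¹ * b⁻¹ = c) : a * b = c * b * a := by rw [← hc]; group

/-- The element `z` lies in the conjugate subgroup. -/
theorem mem_other [Finite G] (hz2 : z * z = 1) (hz1 : z ≠ 1) (hz'2 : z' * z' = 1) (hne : z' ≠ z) (hz'1 : z' ≠ 1)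
    (h : Data z Q) (h' : Data z' Q') (hin : z' ∈ Q) (hzQ : z ∈ Q) (hz'Q' : z' ∈ Q')
    (htrick : ∀ u ∈ Q', u * z * u⁻¹ = z' * z → z ∈ Q')
    (hfull' : IsPGroup 2 (Subgroup.centralizer ({z} : Set G)) → z ∈ Q') : z ∈ Q' := by
  by_contra hnot
  have hzz' : z * z' = z' * z := (h.le z' hin).symm
  set N := Subgroup.zpowers z' with hN
  have hNc : ∀ n ∈ N, ∀ c : G, c * z' = z' * c → c * n = n * c := fun n hn c hc => by
    rcases two_values hz'2 hn with rfl | rfl
    · simp
    · exact hc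
  have hNQ' : N ≤ Q' := Subgroup.zpowers_le.2 hz'Q'
  have hz'z : ∀ n ∈ N, z * n = n * z := fun n hn => hNc n hn z hzz'
  have hU : ∀ w ∈ Q', z * w * z⁻¹ * w⁻¹ ∈ N → z * w = w * z := by
    intro w hw hmem
    rcases two_values hz'2 hmem with he | he
    · rw [mul_inv_eq_one, mul_inv_eq_iff_eq_mul] at he; exact he
    · refine absurd (htrick w hw ?_) hnot
      have h1 := comm_eq he
      calc w * z * w⁻¹ = z' * z' * (w * z * w⁻¹) := by rw [hz'2, one_mul]
        _ = z' * (z' * w * z) * w⁻¹ := by group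
        _ = z' * (z * w) * w⁻¹ := by rw [h1]
        _ = z' * z := by group
  -- common elements
  have hcen : ∀ d ∈ Q, (∀ r ∈ Q, r * z' = z' * r → d * r = r * d) → ∀ q ∈ Q, q * z' ≠ z' * q →
      ∃ e ∈ Q, (e = d ∨ e = d * z') ∧ ∀ p ∈ Q, p * e = e * p := by
    intro d hd hdr q hq hqz
    have fill : ∀ e, (∀ r ∈ Q, r * z' = z' * r → e * r = r * e) → q * e = e * q → ∀ p ∈ Q, p * e = e * p := by
      intro e her heq p hp
      by_cases hpz : p * z' = z' * p
      · exact (her p hp hpz).symm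
      have hqp : (q * p) * z' = z' * (q * p) := by
        have hv : ∀ b ∈ Q, b * z' ≠ z' * b → b * z' = z * z' * b := fun b hb hbz => by
          rcases two_values hz2 (h.comm b hb z' hin) with he | he
          · rw [mul_inv_eq_one, mul_inv_eq_iff_eq_mul] at he; exact absurd he hbz
          · exact comm_eq he
        calc q * p * z' = q * (p * z') := mul_assoc _ _ _
          _ = q * (z * z' * p) := by rw [hv p hp hpz]
          _ = (q * z) * z' * p := by group
          _ = z * (q * z') * p := by rw [h.le q hq]; group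
          _ = z * (z * z' * q) * p := by rw [hv q hq hqz]
          _ = (z * z) * z' * (q * p) := by group
          _ = _ := by rw [hz2, one_mul]
      have h1 := her _ (Q.mul_mem hq hp) hqp
      calc p * e = q⁻¹ * (q * p * e) := by group
        _ = q⁻¹ * (e * q) * p := by rw [← h1]; group
        _ = e * p := by rw [← heq]; group
    rcases two_values hz2 (h.comm q hq d hd) with he | he
    · rw [mul_inv_eq_one, mul_inv_eq_iff_eq_mul] at he
      exact ⟨d, hd, Or.inl rfl, fill d hdr he⟩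
    · refine ⟨d * z', Q.mul_mem hd hin, Or.inr rfl, fill _ (fun r hr hrz => ?_) ?_⟩
      · rw [mul_assoc, ← hrz, ← mul_assoc, hdr r hr hrz, mul_assoc]
      · have h1 := comm_eq he
        rcases two_values hz2 (h.comm q hq z' hin) with he' | he'
        · rw [mul_inv_eq_one, mul_inv_eq_iff_eq_mul] at he'; exact absurd he' hqz
        have h2 := comm_eq he'
        calc q * (d * z') = z * d * q * z' := by rw [← mul_assoc, h1]
          _ = z * d * (z * z' * q) := by rw [mul_assoc (z * d), h2]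
          _ = z * (d * z) * z' * q := by group
          _ = (z * z) * (d * z') * q := by rw [h.le d hd]; group
          _ = d * z' * q := by rw [hz2, one_mul]
  obtain ⟨x, hx, hxz⟩ : ∃ x ∈ Q, x * z' ≠ z' * x := by
    by_contra hall
    push Not at hall
    rcases two_values hz'2 (h.central z' hin hall hz'1) with h1 | h1
    · exact hz1 h1
    · exact hne h1.symm
  have hD : ∀ d ∈ Q, d ∈ Q' → d ∈ N := by
    intro d hd hd'
    have hdr : ∀ r ∈ Q, r * z' = z' * r → d * r = r * d := by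
      intro r hr hrz
      rcases two_values hz2 (h.comm d hd r hr) with he | he
      · rw [mul_inv_eq_one, mul_inv_eq_iff_eq_mul] at he; exact he
      · exfalso
        refine hnot (he ▸ ?_)
        rw [show d * r * d⁻¹ * r⁻¹ = d * (r * d⁻¹ * r⁻¹) by group]
        exact Q'.mul_mem hd' (h'.normal r hrz _ (Q'.inv_mem hd'))
    obtain ⟨e, -, he, hec⟩ := hcen d hd hdr x hx hxz
    have he' : e ∈ Q' := by rcases he with rfl | rfl; exacts [hd', Q'.mul_mem hd' hz'Q']
    have he1 : e = 1 := by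
      by_contra he1
      have hmem := h.central e (by rcases he with rfl | rfl; exacts [hd, Q.mul_mem hd hin]) hec he1
      exact hnot (Subgroup.zpowers_le.2 he' hmem)
    rcases he with rfl | rfl
    · rw [he1]; exact N.one_mem
    · rw [eq_inv_of_mul_eq_one_left he1]; exact N.inv_mem (Subgroup.mem_zpowers z')
  have hRU : ∀ r ∈ Q, r * z' = z' * r → ∀ u ∈ Q', z * u = u * z → r * u * r⁻¹ * u⁻¹ ∈ N := by
    intro r hr hrz u hu huz
    refine hD _ ?_ (Q'.mul_mem (h'.normal r hrz u hu) (Q'.inv_mem hu))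
    rw [show r * u * r⁻¹ * u⁻¹ = r * (u * r⁻¹ * u⁻¹) by group]
    exact Q.mul_mem hr (h.normal u huz.symm _ (Q.inv_mem hr))
  have hcU : ∀ r ∈ Q, r * z' = z' * r → ∀ q ∈ Q',
      r * q * r⁻¹ * q⁻¹ ∈ Q' ∧ z * (r * q * r⁻¹ * q⁻¹) = r * q * r⁻¹ * q⁻¹ * z := by
    intro r hr hrz q hq
    have hc : r * q * r⁻¹ * q⁻¹ ∈ Q' := Q'.mul_mem (h'.normal r hrz q hq) (Q'.inv_mem hq)
    refine ⟨hc, hU _ hc ?_⟩
    set c := r * q * r⁻¹ * q⁻¹ with hc0
    set w := z * q * z⁻¹ * q⁻¹ with hw0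
    have hw : w ∈ Q' := Q'.mul_mem (h'.normal z hzz' q hq) (Q'.inv_mem hq)
    have hzi : z⁻¹ = z := inv_eq_of_mul_eq_one_right hz2
    have hzw : z * w * z⁻¹ = w⁻¹ := by
      rw [hw0, hzi]
      calc z * (z * q * z * q⁻¹) * z = (z * z) * (q * z * q⁻¹ * z) := by group
        _ = q * z * q⁻¹ * z := by rw [hz2, one_mul]
        _ = (z⁻¹ * q * z⁻¹ * q⁻¹)⁻¹ := by group
        _ = _ := by rw [hzi]
    have hwz : z * w = w * z := hU w hw (by
      rw [hzw, ← mul_inv_rev]; exact N.inv_mem (h'.sq w hw))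
    have hzr : z * r = r * z := (h.le r hr).symm
    have e1 : z * c * z⁻¹ = r * (z * q * z⁻¹) * r⁻¹ * (z * q * z⁻¹)⁻¹ := by
      rw [hc0]
      calc z * (r * q * r⁻¹ * q⁻¹) * z⁻¹ = (z * r) * q * (z * r)⁻¹ * (z * q * z⁻¹)⁻¹ := by group
        _ = (r * z) * q * (r * z)⁻¹ * (z * q * z⁻¹)⁻¹ := by rw [hzr]
        _ = _ := by group
    have e2 : z * q * z⁻¹ = w * q := by rw [hw0]; group
    rw [e1, e2, show r * (w * q) * r⁻¹ * (w * q)⁻¹ * c⁻¹ = (r * w * r⁻¹ * w⁻¹) * (w * c * w⁻¹ * c⁻¹) by rw [hc0]; group]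
    exact N.mul_mem (hRU r hr hrz w hw hwz) (h'.comm w hw c hc)
  have hmul : ∀ r ∈ Q, r * z' = z' * r → ∀ s ∈ Q, s * z' = z' * s → ∀ q ∈ Q', ∃ n ∈ N,
      (r * s) * q * (r * s)⁻¹ * q⁻¹ = n * ((s * q * s⁻¹ * q⁻¹) * (r * q * r⁻¹ * q⁻¹)) := by
    intro r hr hrz s hs hsz q hq
    obtain ⟨hc, hcz⟩ := hcU s hs hsz q hq
    exact ⟨_, hRU r hr hrz _ hc hcz, by group⟩
  have htriv : (∃ r ∈ Q, r * z' = z' * r ∧ r * r = z) ∨
      (∃ r ∈ Q, ∃ s ∈ Q, r * z' = z' * r ∧ s * z' = z' * s ∧ r * s = z * (s * r)) → False := by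
    intro hzex
    have key : ∀ q ∈ Q', z * q = q * z := by
      intro q hq
      refine hU q hq ?_
      rcases hzex with ⟨r, hr, hrz, hrr⟩ | ⟨r, hr, s, hs, hrz, hsz, hrs⟩
      · obtain ⟨n, hn, he⟩ := hmul r hr hrz r hr hrz q hq
        rw [hrr] at he
        rw [he]
        exact N.mul_mem hn (h'.sq _ (hcU r hr hrz q hq).1)
      · obtain ⟨n, hn, he⟩ := hmul r hr hrz s hs hsz q hq
        obtain ⟨n', hn', he'⟩ := hmul s hs hsz r hr hrz q hq
        set a := r * q * r⁻¹ * q⁻¹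
        set b := s * q * s⁻¹ * q⁻¹
        obtain ⟨ha, haz⟩ := hcU r hr hrz q hq
        obtain ⟨hb, hbz⟩ := hcU s hs hsz q hq
        set S := s * r * q * (s * r)⁻¹ * q⁻¹ with hS
        have hSz : z * S = S * z := by
          rw [he']
          exact ((Commute.mul_right (hz'z n' hn') ((Commute.mul_right haz hbz))) : Commute z _).eq
        have hrw : r * s * q * (r * s)⁻¹ * q⁻¹ = S * (z * q * z⁻¹ * q⁻¹) := by
          rw [hrs]
          calc z * (s * r) * q * (z * (s * r))⁻¹ * q⁻¹ = z * S * (q * z⁻¹ * q⁻¹) := by rw [hS]; group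
            _ = _ := by rw [hSz]; group
        have hS' : z * q * z⁻¹ * q⁻¹ = S⁻¹ * (r * s * q * (r * s)⁻¹ * q⁻¹) := by rw [hrw]; group
        have haz' : (a * b) * z' = z' * (a * b) := h'.le _ (Q'.mul_mem ha hb)
        rw [hS', he, he']
        have hba : (a * b)⁻¹ * (b * a) ∈ N := by
          rw [show (a * b)⁻¹ * (b * a) = b⁻¹ * a⁻¹ * (b⁻¹)⁻¹ * (a⁻¹)⁻¹ by group]
          exact h'.comm _ (Q'.inv_mem hb) _ (Q'.inv_mem ha)
        have hnn : n'⁻¹ * n ∈ N := N.mul_mem (N.inv_mem hn') hn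
        rw [show (n' * (a * b))⁻¹ * (n * (b * a)) = (a * b)⁻¹ * (n'⁻¹ * n * ((a * b) * ((a * b)⁻¹ * (b * a)))) by group,
          ← mul_assoc (n'⁻¹ * n), ← hNc _ hnn (a * b) haz', mul_assoc (a * b), inv_mul_cancel_left]
        exact N.mul_mem hnn hba
    exact hnot (h'.self z hzz' fun q hq => (key q hq).symm)
  -- otherwise `C(z)` is a 2-group
  have hsq1 : ∀ r ∈ Q, r * z' = z' * r → r * r = 1 := fun r hr hrz =>
    (two_values hz2 (h.sq r hr)).resolve_right fun he => htriv (Or.inl ⟨r, hr, hrz, he⟩)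
  have hab : ∀ r ∈ Q, r * z' = z' * r → ∀ s ∈ Q, s * z' = z' * s → r * s = s * r := fun r hr hrz s hs hsz => by
    rcases two_values hz2 (h.comm r hr s hs) with he | he
    · rw [mul_inv_eq_one, mul_inv_eq_iff_eq_mul] at he; exact he
    · exact (htriv (Or.inr ⟨r, hr, s, hs, hrz, hsz, by rw [← mul_assoc]; exact comm_eq he⟩)).elim
  have hRfour : ∀ r ∈ Q, r * z' = z' * r → r = 1 ∨ r = z ∨ r = z' ∨ r = z * z' := by
    intro r hr hrz
    obtain ⟨e, heQ, he, hec⟩ := hcen r hr (fun s hs hsz => hab r hr hrz s hs hsz) x hx hxz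
    have he1 : e = 1 ∨ e = z := by
      by_cases he1 : e = 1
      · exact Or.inl he1
      right
      have hee : e * e = 1 := hsq1 e heQ (hec z' hin).symm
      rcases two_values hee (h.central e heQ hec he1) with h1 | h1
      · exact absurd h1 hz1
      · exact h1.symm
    rcases he with rfl | rfl
    · rcases he1 with h1 | h1
      · exact Or.inl h1
      · exact Or.inr (Or.inl h1)
    · have hr' : r = r * z' * z' := by rw [mul_assoc, hz'2, mul_one]
      rcases he1 with h1 | h1 <;> rw [h1] at hr'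
      · exact Or.inr (Or.inr (Or.inl (by rw [hr', one_mul])))
      · exact Or.inr (Or.inr (Or.inr hr'))
  obtain ⟨x0, hx0, hx0sq⟩ : ∃ x0 ∈ Q, x0 * x0 ≠ 1 := by
    by_contra hall
    push Not at hall
    refine hxz ?_
    have hi : ∀ a ∈ Q, a⁻¹ = a := fun a ha => inv_eq_of_mul_eq_one_right (hall a ha)
    rw [← hi _ (Q.mul_mem hx hin), mul_inv_rev, hi x hx, hi z' hin]
  have hx0z : x0 * z' ≠ z' * x0 := fun he => hx0sq (hsq1 x0 hx0 he)
  have hx02 : x0 * x0 = z := (two_values hz2 (h.sq x0 hx0)).resolve_left hx0sq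
  have hx0c : x0 * z' = z * z' * x0 := by
    rcases two_values hz2 (h.comm x0 hx0 z' hin) with he | he
    · rw [mul_inv_eq_one, mul_inv_eq_iff_eq_mul] at he; exact absurd he hx0z
    · exact comm_eq he
  have hcoset : ∀ q ∈ Q, q * z' ≠ z' * q → ∃ r ∈ Q, r * z' = z' * r ∧ q = x0 * r := by
    intro q hq hqz
    refine ⟨x0⁻¹ * q, Q.mul_mem (Q.inv_mem hx0) hq, ?_, by group⟩
    rcases two_values hz2 (h.comm q hq z' hin) with he | he
    · rw [mul_inv_eq_one, mul_inv_eq_iff_eq_mul] at he; exact absurd he hqz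
    calc x0⁻¹ * q * z' = x0⁻¹ * (z * z' * q) := by rw [mul_assoc, comm_eq he]
      _ = x0⁻¹ * (z * z' * x0) * (x0⁻¹ * q) := by group
      _ = x0⁻¹ * (x0 * z') * (x0⁻¹ * q) := by rw [← hx0c]
      _ = _ := by group
  have hx0cyc : ∀ q ∈ Q, q * q ≠ 1 → q ∈ Subgroup.zpowers x0 := by
    intro q hq hqq
    obtain ⟨r, hr, hrz, rfl⟩ := hcoset q hq fun he => hqq (hsq1 q hq he)
    have hzmem : z ∈ Subgroup.zpowers x0 := hx02 ▸ Subgroup.mul_mem _ (Subgroup.mem_zpowers x0) (Subgroup.mem_zpowers x0)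
    have hsq' : ∀ e, e = z' → (x0 * e) * (x0 * e) = 1 := by
      intro e he
      rw [he]
      calc x0 * z' * (x0 * z') = z * z' * (x0 * x0) * z' := by nth_rewrite 1 [hx0c]; group
        _ = z * z' * z * z' := by rw [hx02]
        _ = (z * z) * (z' * z') := by rw [mul_assoc z z' z, ← hzz']; group
        _ = 1 := by rw [hz2, hz'2, one_mul]
    rcases hRfour r hr hrz with h1 | h1 | h1 | h1 <;> rw [h1] at hqq ⊢
    · rw [mul_one]; exact Subgroup.mem_zpowers x0
    · exact Subgroup.mul_mem _ (Subgroup.mem_zpowers x0) hzmem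
    · exact absurd (hsq' z' rfl) hqq
    · refine absurd ?_ hqq
      calc x0 * (z * z') * (x0 * (z * z')) = (z * (x0 * z')) * (z * (x0 * z')) := by
            rw [← mul_assoc x0 z z', h.le x0 hx0, mul_assoc z x0 z']
        _ = z * ((x0 * z') * z) * (x0 * z') := by group
        _ = (z * z) * ((x0 * z') * (x0 * z')) := by rw [h.le _ (Q.mul_mem hx0 hin)]; group
        _ = 1 := by rw [hz2, hsq' z' rfl, one_mul]
  refine hnot (hfull' ?_)
  classical
  have h2f : Fact (Nat.Prime 2) := ⟨Nat.prime_two⟩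
  refine IsPGroup.iff_orderOf.2 fun y => ⟨_, Nat.eq_prime_pow_of_unique_prime_dvd (orderOf_pos y).ne' fun {p} hp hdvd => ?_⟩
  by_contra hp2
  have := Fact.mk hp
  set v := (y : G) ^ (orderOf y / p) with hv
  have hvp : orderOf v = p ^ 1 := by
    rw [pow_one, hv, ← SubmonoidClass.coe_pow, Subgroup.orderOf_coe,
      orderOf_pow_of_dvd (Nat.div_pos (Nat.le_of_dvd (orderOf_pos y) hdvd) hp.pos).ne' (Nat.div_dvd_of_dvd hdvd),
      Nat.div_div_self hdvd (orderOf_pos y).ne']
  have hvz : v * z = z * v :=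
    (Commute.pow_left (Subgroup.mem_centralizer_singleton_iff.1 y.2) _ : Commute v z).eq
  have hvN : v ∈ Subgroup.normalizer (Q : Set G) := by
    refine CfsgLib.LocalEven.mem_normalizer_of_conj_le ?_
    rintro _ ⟨q, hq, rfl⟩; exact h.normal v hvz q hq
  obtain ⟨m, hm⟩ := IsPGroup.iff_orderOf.1 h.two ⟨x0, hx0⟩
  rw [Subgroup.orderOf_mk] at hm
  have hvx : v ∈ Subgroup.normalizer (Subgroup.zpowers x0 : Set G) := by
    refine CfsgLib.LocalEven.mem_normalizer_of_conj_le ?_
    rw [MonoidHom.map_zpowers, Subgroup.zpowers_le]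
    refine hx0cyc _ (h.normal v hvz x0 hx0) fun he => hx0sq ?_
    simp only [MulEquiv.coe_toMonoidHom, MulAut.conj_apply] at he
    rw [← pow_two, conj_pow, conj_eq_one_iff, pow_two] at he
    exact he
  have hvc := CfsgLib.Local.centralizes_cyclic_two hvp hp2 m x0 hm hvx
  have hsmall : Nat.card Q ≤ 2 * Nat.card ↥(Q ⊓ Subgroup.centralizer ({v} : Set G)) := by
    have h8 : Nat.card Q ≤ 8 := by
      have hsub : ∀ q : Q, (q : G) ∈ ([1, z, z', z * z', x0, x0 * z, x0 * z', x0 * (z * z')].toFinset) := by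
        intro q
        simp only [List.mem_toFinset, List.mem_cons, List.not_mem_nil, or_false]
        by_cases hqz : (q : G) * z' = z' * q
        · rcases hRfour q q.2 hqz with h1 | h1 | h1 | h1 <;> simp [h1]
        · obtain ⟨r, hr, hrz, he⟩ := hcoset q q.2 hqz
          rcases hRfour r hr hrz with h1 | h1 | h1 | h1 <;> simp [he, h1]
      refine (Nat.card_le_card_of_injective (fun q : Q => (⟨(q : G), hsub q⟩ : {a // a ∈ _}))
        fun a b hab => Subtype.ext (congrArg Subtype.val hab :)).trans ?_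
      rw [Nat.card_eq_fintype_card, Fintype.card_coe]
      exact (List.toFinset_card_le _).trans (by simp)
    have h4' : 4 ≤ Nat.card ↥(Q ⊓ Subgroup.centralizer ({v} : Set G)) := by
      refine le_trans ?_ (Subgroup.card_le_of_le (le_inf (Subgroup.zpowers_le.2 hx0)
        (Subgroup.zpowers_le.2 (Subgroup.mem_centralizer_singleton_iff.2 hvc.symm))))
      rw [Nat.card_zpowers]
      have h04 : x0 ^ 4 = 1 := by rw [show (4 : ℕ) = 2 * 2 from rfl, pow_mul, pow_two x0, hx02, pow_two, hz2]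
      obtain ⟨i, hi, hi'⟩ := (Nat.dvd_prime_pow Nat.prime_two).1 (orderOf_dvd_of_pow_eq_one (show x0 ^ (2 ^ 2 : ℕ) = 1 by norm_num; exact h04))
      rcases (show i = 0 ∨ i = 1 ∨ i = 2 by omega) with rfl | rfl | rfl
      · rw [pow_zero, orderOf_eq_one_iff] at hi'
        exact absurd (by rw [hi', one_mul]) hx0sq
      · rw [pow_one] at hi'
        exact absurd (by rw [← pow_two, ← hi']; exact pow_orderOf_eq_one x0) hx0sq
      · rw [hi']; norm_num
    omega
  have hvQc := CfsgLib.Local.centralizes_of_fixed_le h.two hvN hvp (by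
    simpa using fun hd => hp2 ((Nat.prime_dvd_prime_iff_eq hp Nat.prime_two).1 hd)) hsmall
  obtain ⟨n, hn⟩ := IsPGroup.iff_orderOf.1 h.two
    ⟨v, h.self v hvz fun q hq => Subgroup.mem_centralizer_iff.1 hvQc q hq⟩
  rw [Subgroup.orderOf_mk, hvp, pow_one] at hn
  exact hp2 ((Nat.prime_dvd_prime_iff_eq hp Nat.prime_two).1 (hp.dvd_of_dvd_pow (dvd_of_eq hn)))

end

theorem conj_move (g z : G) (h : G) : h * (g * z * g⁻¹) * h⁻¹ = (h * g) * z * (h * g)⁻¹ := by group

theorem main [Finite G] (z : G) (hz2 : z * z = 1) (hz1 : z ≠ 1) (Q : Subgroup G) (hd : Data z Q)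
    (g : G) (hne : g * z * g⁻¹ ≠ z) (hin : g * z * g⁻¹ ∈ Q) :
    z ∈ Q.map (MulAut.conj g).toMonoidHom ∧
      ∀ u ∈ Subgroup.closure ({z, g * z * g⁻¹} : Set G), ∀ v ∈ Subgroup.closure ({z, g * z * g⁻¹} : Set G),
        u ≠ 1 → v ≠ 1 → u ≠ v →
          ∃ x ∈ Q ⊔ Q.map (MulAut.conj g).toMonoidHom, x * z * x⁻¹ = u ∧ x * (g * z * g⁻¹) * x⁻¹ = v := by
  set Q' := Q.map (MulAut.conj g).toMonoidHom
  set z' := g * z * g⁻¹ with hz'
  have hd' : Data z' Q' := data_conj hd g
  have hz'2 : z' * z' = 1 := by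
    rw [hz', show g * z * g⁻¹ * (g * z * g⁻¹) = g * (z * z) * g⁻¹ by group, hz2, mul_one, mul_inv_cancel]
  have hz'1 : z' ≠ 1 := fun h => hz1 (conj_eq_one_iff.1 h)
  have hzQ : z ∈ Q := hd.self z rfl hd.le
  have hz'Q' : z' ∈ Q' := hd'.self z' rfl hd'.le
  have hzz' : z * z' = z' * z := (hd.le z' hin).symm
  obtain ⟨x, hx, hxz⟩ : ∃ x ∈ Q, x * z' * x⁻¹ = z * z' := by
    by_contra hall
    push Not at hall
    have hcall : ∀ q ∈ Q, q * z' = z' * q := fun q hq => by
      rcases two_values hz2 (hd.comm q hq z' hin) with he | he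
      · rw [mul_inv_eq_one, mul_inv_eq_iff_eq_mul] at he; exact he
      · refine absurd ?_ (hall q hq)
        rw [comm_eq he]; group
    rcases two_values hz'2 (hd.central z' hin hcall hz'1) with h1 | h1
    · exact hz1 h1
    · exact hne h1.symm
  have hxzz : x * z * x⁻¹ = z := by rw [hd.le x hx, mul_inv_cancel_right]
  have hmem : z ∈ Q' := by
    refine mem_other hz2 hz1 hz'2 hne hz'1 hd hd' hin hzQ hz'Q' (fun u hu huz => ?_) fun hp => ?_
    · have huz' : u * z' = z' * u := hd'.le u hu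
      have h1 : (x * g) * z * (x * g)⁻¹ = u * z * u⁻¹ := by
        rw [← conj_move, ← hz', hxz, huz, hzz']
      have hc : ((x * g)⁻¹ * u) * z = z * ((x * g)⁻¹ * u) := by
        calc (x * g)⁻¹ * u * z = (x * g)⁻¹ * (u * z * u⁻¹) * u := by group
          _ = (x * g)⁻¹ * ((x * g) * z * (x * g)⁻¹) * u := by rw [h1]
          _ = _ := by group
      have h2 : u * (z * z') * u⁻¹ = z := by
        calc u * (z * z') * u⁻¹ = (u * z * u⁻¹) * (u * z' * u⁻¹) := by group
          _ = z' * z * z' := by rw [huz, huz', mul_inv_cancel_right]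
          _ = z * (z' * z') := by rw [← hzz']; group
          _ = z := by rw [hz'2, mul_one]
      have h3 := hd.normal _ hc (z * z') (Q.mul_mem hzQ hin)
      have h4 : z = (x * g) * (((x * g)⁻¹ * u) * (z * z') * ((x * g)⁻¹ * u)⁻¹) * (x * g)⁻¹ := by
        conv_lhs => rw [← h2]
        group
      refine ⟨((x * g)⁻¹ * u) * (z * z') * ((x * g)⁻¹ * u)⁻¹, h3, ?_⟩
      simp only [MulEquiv.coe_toMonoidHom, MulAut.conj_apply]
      calc g * ((x * g)⁻¹ * u * (z * z') * ((x * g)⁻¹ * u)⁻¹) * g⁻¹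
          = x⁻¹ * ((x * g) * ((x * g)⁻¹ * u * (z * z') * ((x * g)⁻¹ * u)⁻¹) * (x * g)⁻¹) * x := by group
        _ = x⁻¹ * z * x := by rw [← h4]
        _ = x⁻¹ * (x * z * x⁻¹) * x := by rw [hxzz]
        _ = z := by group
    · refine ⟨g⁻¹ * z * g, hd.full hp (Subgroup.mem_centralizer_singleton_iff.2 ?_), by simp [mul_assoc]⟩
      calc g⁻¹ * z * g * z = g⁻¹ * (z * (g * z * g⁻¹)) * g := by group
        _ = g⁻¹ * ((g * z * g⁻¹) * z) * g := by rw [← hz', hzz']
        _ = _ := by group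
  obtain ⟨y, hy, hyz⟩ : ∃ y ∈ Q', y * z * y⁻¹ = z * z' := by
    by_contra hall
    push Not at hall
    have hcall : ∀ q ∈ Q', q * z = z * q := fun q hq => by
      rcases two_values hz'2 (hd'.comm q hq z hmem) with he | he
      · rw [mul_inv_eq_one, mul_inv_eq_iff_eq_mul] at he; exact he
      · refine absurd ?_ (hall q hq)
        rw [comm_eq he, mul_inv_cancel_right, hzz']
    rcases two_values hz2 (hd'.central z hmem hcall hz1) with h1 | h1
    · exact hz'1 h1
    · exact hne h1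
  have hyz' : y * z' * y⁻¹ = z' := by rw [hd'.le y hy, mul_inv_cancel_right]
  refine ⟨hmem, fun u hu v hv hu1 hv1 huv => ?_⟩
  have hE : ∀ w ∈ Subgroup.closure ({z, z'} : Set G), w = 1 ∨ w = z ∨ w = z' ∨ w = z * z' := by
    intro w hw
    have hzz'2 : (z * z') * (z * z') = 1 := by
      rw [hzz'] ; nth_rewrite 2 [← hzz']; rw [mul_assoc, ← mul_assoc z z, hz2, one_mul, hz'2]
    induction hw using Subgroup.closure_induction with
    | mem a ha =>
      rcases ha with ha | ha <;> rw [ha]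
      · exact Or.inr (Or.inl rfl)
      · exact Or.inr (Or.inr (Or.inl rfl))
    | one => exact Or.inl rfl
    | mul a b _ _ ha hb =>
      have e1 : ∀ c, z * (z * c) = c := fun c => by rw [← mul_assoc, hz2, one_mul]
      have e2 : ∀ c, z' * (z' * c) = c := fun c => by rw [← mul_assoc, hz'2, one_mul]
      have e3 : ∀ c, z' * (z * c) = z * (z' * c) := fun c => by rw [← mul_assoc, ← hzz', mul_assoc]
      rcases ha with ha | ha | ha | ha <;> rcases hb with hb | hb | hb | hb <;> rw [ha, hb] <;>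
        simp [mul_assoc, hz2, hz'2, hzz'.symm, e1, e2, e3]
    | inv a _ ha =>
      rcases ha with ha | ha | ha | ha <;> rw [ha]
      · exact Or.inl inv_one
      · exact Or.inr (Or.inl (inv_eq_of_mul_eq_one_right hz2))
      · exact Or.inr (Or.inr (Or.inl (inv_eq_of_mul_eq_one_right hz'2)))
      · exact Or.inr (Or.inr (Or.inr (inv_eq_of_mul_eq_one_right hzz'2)))
  have hx' : x ∈ Q ⊔ Q' := Subgroup.mem_sup_left hx
  have hy' : y ∈ Q ⊔ Q' := Subgroup.mem_sup_right hy
  have xzz : x * (z * z') * x⁻¹ = z' := by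
    rw [show x * (z * z') * x⁻¹ = (x * z * x⁻¹) * (x * z' * x⁻¹) by group, hxzz, hxz, ← mul_assoc, hz2, one_mul]
  have yzz : y * (z * z') * y⁻¹ = z := by
    rw [show y * (z * z') * y⁻¹ = (y * z * y⁻¹) * (y * z' * y⁻¹) by group, hyz, hyz', mul_assoc, hz'2, mul_one]
  rcases hE u hu with h1 | h1 | h1 | h1 <;> rcases hE v hv with h2 | h2 | h2 | h2 <;> subst u <;> subst v <;>
    first
      | exact absurd rfl hu1
      | exact absurd rfl hv1
      | exact absurd rfl huv
      | skip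
  · exact ⟨1, Subgroup.one_mem _, by simp, by simp⟩
  · exact ⟨x, hx', hxzz, hxz⟩
  · refine ⟨y * (x * y), Subgroup.mul_mem _ hy' (Subgroup.mul_mem _ hx' hy'), ?_, ?_⟩
    · calc _ = y * (x * (y * z * y⁻¹) * x⁻¹) * y⁻¹ := by group
        _ = z' := by rw [hyz, xzz, hyz']
    · calc _ = y * (x * (y * z' * y⁻¹) * x⁻¹) * y⁻¹ := by group
        _ = z := by rw [hyz', hxz, yzz]
  · refine ⟨x * y, Subgroup.mul_mem _ hx' hy', ?_, ?_⟩
    · calc _ = x * (y * z * y⁻¹) * x⁻¹ := by group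
        _ = z' := by rw [hyz, xzz]
    · calc _ = x * (y * z' * y⁻¹) * x⁻¹ := by group
        _ = z * z' := by rw [hyz', hxz]
  · refine ⟨y * x, Subgroup.mul_mem _ hy' hx', ?_, ?_⟩
    · calc _ = y * (x * z * x⁻¹) * y⁻¹ := by group
        _ = z * z' := by rw [hxzz, hyz]
    · calc _ = y * (x * z' * x⁻¹) * y⁻¹ := by group
        _ = z := by rw [hxz, yzz]
  · exact ⟨y, hy', hyz, hyz'⟩

/-- Let G be a finite group and let z be an involution of G such that Q, the generalized Fitting subgroup of the centralizer C of z, is a 2-group of symplectic type (every characteristic abelian subgroup of Q is cyclic); suppose every element of Q has order dividing 4. Let g ∈ G with z' = g z g⁻¹ ≠ z and z' ∈ Q. Then z lies in the conjugate g Q g⁻¹, and the subgroup X generated by Q and g Q g⁻¹ induces every automorphism of the four-group generated by z and z': for any two distinct non-identity elements u, v of that four-group there is x ∈ X with x z x⁻¹ = u and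 x z' x⁻¹ = v. -/
theorem result {G : Type*} [Group G] [Finite G] (z : G) (hz : orderOf z = 2) (hQ : Cfsg.IsOfSymplecticType ↥(Cfsg.generalizedFittingSubgroup ↥(Subgroup.centralizer ({z} : Set G))))
    (h4 : ∀ q ∈ (Cfsg.generalizedFittingSubgroup ↥(Subgroup.centralizer ({z} : Set G))).map (Subgroup.centralizer ({z} : Set G)).subtype, q ^ 4 = 1) (g : G) (hne : g * z * g⁻¹ ≠ z) (hin : g * z * g⁻¹ ∈ (Cfsg.generalizedFittingSubgroup ↥(Subgroup.centralizer ({z} : Set G))).map (Subgroup.centralizer ({z} : Set G)).subtype) :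
    z ∈ ((Cfsg.generalizedFittingSubgroup ↥(Subgroup.centralizer ({z} : Set G))).map (Subgroup.centralizer ({z} : Set G)).subtype).map (MulAut.conj g).toMonoidHom ∧
      ∀ u ∈ Subgroup.closure ({z, g * z * g⁻¹} : Set G), ∀ v ∈ Subgroup.closure ({z, g * z * g⁻¹} : Set G),
        u ≠ 1 → v ≠ 1 → u ≠ v →
          ∃ x ∈ (Cfsg.generalizedFittingSubgroup ↥(Subgroup.centralizer ({z} : Set G))).map (Subgroup.centralizer ({z} : Set G)).subtype ⊔ ((Cfsg.generalizedFittingSubgroup ↥(Subgroup.centralizer ({z} : Set G))).map (Subgroup.centralizer ({z} : Set G)).subtype).map (MulAut.conj g).toMonoidHom, x * z * x⁻¹ = u ∧ x * (g * z * g⁻¹) * x⁻¹ = v := by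
  haveI hn : (Cfsg.generalizedFittingSubgroup ↥(Subgroup.centralizer ({z} : Set G))).Normal :=
    CfsgLib.Cores.generalizedFittingSubgroup_normal
  have hd := data_of z hz hQ h4
  exact main z (pow_two z ▸ hz ▸ pow_orderOf_eq_one z) (fun h => by rw [h, orderOf_one] at hz; omega) _ hd g hne hin

end Cfsg.Agent.S1774
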