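import Cfsg.Statements.S1775
import Cfsg.Agent.Lib.Cores.LayerOf
import Cfsg.Agent.Lib.Local.PComp
import Cfsg.Agent.S0205
-- import your own Cfsg.Agent.* helpers here

set_option autoImplicit false
open Cfsg

namespace Cfsg.Agent.S1775

open scoped commutatorElement

theorem general {G : Type*} [Group G] [Finite G]
    (hF : IsSimpleGroup ↥(Cfsg.generalizedFittingSubgroup G)) (hF' : ¬ IsMulCommutative ↥(Cfsg.generalizedFittingSubgroup G))
    (hsec : ∀ (H : Subgroup G) (N : Subgroup ↥H) [N.Normal], (H ≠ ⊤ ∨ N ≠ ⊥) → Cfsg.HasBProperty (↥H ⧸ N))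
    (x y : G) (hx : orderOf x = 2) (hy : orderOf y = 2) (hxy : x * y = y * x) (N : Subgroup G)
    (hNx : ∀ n ∈ N, n * x = x * n) (hNy : N ≤ Subgroup.centralizer ({y} : Set G))
    (hNn : ∀ d ∈ Subgroup.centralizer ({x} : Set G), d ∈ Subgroup.centralizer ({y} : Set G) →
      ∀ n ∈ N, d * n * d⁻¹ ∈ N)
    (J : Subgroup ↥N) (hJ : Cfsg.IsPComponent 2 J) :
    Cfsg.IsComponent
        ((((J.map N.subtype).subgroupOf (Subgroup.centralizer ({y} : Set G))).map (QuotientGroup.mk' (Cfsg.oddCore ↥(Subgroup.centralizer ({y} : Set G))))).subgroupOf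
          (Subgroup.centralizer ({(QuotientGroup.mk' (Cfsg.oddCore ↥(Subgroup.centralizer ({y} : Set G))) ⟨x, Subgroup.mem_centralizer_singleton_iff.mpr hxy⟩ : ↥(Subgroup.centralizer ({y} : Set G)) ⧸ Cfsg.oddCore ↥(Subgroup.centralizer ({y} : Set G)))} : Set _))) ∧
      ∀ E : Subgroup G, E ≤ Subgroup.centralizer ({x} : Set G) ⊓ Subgroup.centralizer ({y} : Set G) → Odd (Nat.card ↥E) →
        (∀ j ∈ J.map N.subtype, ∀ e ∈ E, j * e * j⁻¹ ∈ E) →
          ⁅J.map N.subtype, E⁆ ≤ (Cfsg.oddCore ↥(Subgroup.centralizer ({y} : Set G))).map (Subgroup.centralizer ({y} : Set G)).subtype := by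
  classical
  haveI : Fact (Nat.Prime 2) := ⟨Nat.prime_two⟩
  set X : Subgroup G := Subgroup.centralizer ({y} : Set G) with hX
  set Xb := ↥X ⧸ Cfsg.oddCore ↥X
  set π := QuotientGroup.mk' (Cfsg.oddCore ↥X) with hπ
  set x₀ : ↥X := ⟨x, Subgroup.mem_centralizer_singleton_iff.mpr hxy⟩ with hx₀
  set D : Subgroup ↥X := Subgroup.centralizer ({x₀} : Set ↥X) with hD
  set Cb : Subgroup Xb := Subgroup.centralizer ({π x₀} : Set Xb) with hCb
  have hx₀o : orderOf x₀ = 2 := by rw [← Subgroup.orderOf_coe]; exact hx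
  have hOc : (Nat.card (Cfsg.oddCore ↥X)).Coprime 2 := CfsgLib.Cores.coprime_card_pPrimeCore 2
  have hDmap : D.map π = Cb := by
    rw [hD, hCb, ← CfsgLib.Cores.centralizer_zpowers', CfsgLib.Cores.map_mk'_centralizer_of_coprime
      (IsPGroup.of_card (n := 1) (by rw [Nat.card_zpowers, hx₀o, pow_one])) hOc, MonoidHom.map_zpowers,
      CfsgLib.Cores.centralizer_zpowers']
  have hgmem : ∀ d : ↥D, π.comp D.subtype d ∈ Cb := fun d => hDmap.le ⟨d, d.2, rfl⟩
  let g : ↥D →* ↥Cb := (π.comp D.subtype).codRestrict Cb hgmem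
  have hgsurj : Function.Surjective g := fun c => by
    obtain ⟨d, hd, hdc⟩ := hDmap.ge c.2
    exact ⟨⟨d, hd⟩, Subtype.ext hdc⟩
  have hgker : (Nat.card g.ker).Coprime 2 := by
    refine hOc.coprime_dvd_left ?_
    rw [← Subgroup.card_map_of_injective D.subtype_injective]
    refine Subgroup.card_dvd_of_le ?_
    rintro _ ⟨d, hd, rfl⟩
    exact (QuotientGroup.eq_one_iff _).1 (congrArg Subtype.val hd)
  -- `J` is a 2-component of `D`
  have hND : ∀ n : ↥N, (⟨(n : G), (hNy n.2)⟩ : ↥X) ∈ D := fun n => by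
    rw [hD, Subgroup.mem_centralizer_singleton_iff]
    exact Subtype.ext (hNx n n.2)
  let ι : ↥N →* ↥D :=
    { toFun := fun n => ⟨⟨(n : G), (hNy n.2)⟩, hND n⟩, map_one' := rfl, map_mul' := fun a b => rfl }
  have hιi : Function.Injective ι := fun a b h => Subtype.ext (congrArg (fun d : ↥D => ((d : ↥X) : G)) h)
  have hιn : ι.range.Normal := by
    constructor
    rintro _ ⟨n, rfl⟩ d
    have hdx : ((d : ↥X) : G) ∈ Subgroup.centralizer ({x} : Set G) := by
      rw [Subgroup.mem_centralizer_singleton_iff]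
      exact congrArg Subtype.val (Subgroup.mem_centralizer_singleton_iff.mp d.2)
    refine ⟨⟨((d : ↥X) : G) * n * ((d : ↥X) : G)⁻¹, hNn _ hdx (d : ↥X).2 n n.2⟩, ?_⟩
    rfl
  set JD : Subgroup ↥D := J.map ι with hJD
  have hJDc : Cfsg.IsPComponent 2 JD := by
    have h1 := CfsgLib.Cores.isPComponent_map_equiv (MonoidHom.ofInjective hιi) hJ
    have h2 := (CfsgLib.Cores.isPComponent_map_subtype_iff hιn.isSubnormal).2 h1
    rwa [Subgroup.map_map] at h2
  set Jb : Subgroup ↥Cb := JD.map g with hJb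
  have hJbeq : Jb = (((J.map N.subtype).subgroupOf X).map π).subgroupOf Cb := by
    ext c
    constructor
    · rintro ⟨_, ⟨n, hn, rfl⟩, rfl⟩
      exact ⟨⟨(n : G), (hNy n.2)⟩, ⟨n, hn, rfl⟩, rfl⟩
    · rintro ⟨a, ⟨n, hn, hna⟩, hac⟩
      refine ⟨ι n, ⟨n, hn, rfl⟩, Subtype.ext ?_⟩
      show π (⟨(n : G), (hNy n.2)⟩ : ↥X) = c
      rw [show (⟨(n : G), (hNy n.2)⟩ : ↥X) = a from Subtype.ext hna]
      exact hac
  -- proper sections have the B-property
  have hX_ne : X ≠ ⊤ := fun h => by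
    have hyc : y ∈ Subgroup.center G := Subgroup.mem_center_iff.2 fun w =>
      Subgroup.mem_centralizer_singleton_iff.mp (h ▸ Subgroup.mem_top w : w ∈ X)
    have hyF : y ∈ Cfsg.generalizedFittingSubgroup G :=
      CfsgLib.Cores.centralizer_generalizedFittingSubgroup_le (Subgroup.center_le_centralizer _ hyc)
    have hyZ : (⟨y, hyF⟩ : ↥(Cfsg.generalizedFittingSubgroup G)) ∈
        Subgroup.center ↥(Cfsg.generalizedFittingSubgroup G) :=
      Subgroup.mem_center_iff.2 fun w => Subtype.ext (Subgroup.mem_center_iff.1 hyc w)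
    haveI := hF
    rcases (inferInstance : (Subgroup.center ↥(Cfsg.generalizedFittingSubgroup G)).Normal).eq_bot_or_eq_top with h | h
    · rw [h, Subgroup.mem_bot] at hyZ
      rw [show y = 1 from congrArg Subtype.val hyZ, orderOf_one] at hy
      norm_num at hy
    · exact hF' (Subgroup.center_eq_top_iff.1 h)
  have hB := hsec X (Cfsg.oddCore ↥X) (Or.inl hX_ne)
  have hπx : orderOf (π x₀) = 2 := by
    refine orderOf_eq_prime (by rw [← map_pow, orderOf_dvd_iff_pow_eq_one.1 (dvd_of_eq hx₀o), map_one]) fun h => ?_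
    have := (Subgroup.orderOf_dvd_natCard _ ((QuotientGroup.eq_one_iff x₀).1 h))
    rw [hx₀o] at this
    exact absurd (Nat.eq_one_of_dvd_coprimes hOc this dvd_rfl) (by norm_num)
  have hbot := hB (π x₀) hπx
  rw [show Cfsg.oddCore Xb = ⊥ from CfsgLib.Cores.pPrimeCore_quotient_self 2, le_bot_iff,
    Subgroup.map_eq_bot_iff_of_injective _ (Subgroup.subtype_injective _)] at hbot
  -- the image of `J` is a 2-component of the centralizer
  have hcomap : (Cfsg.oddCore ↥Cb).comap g ≤ Cfsg.oddCore ↥D :=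
    CfsgLib.Cores.comap_pPrimeCore_le g hgsurj hgker
  have hPC : Cfsg.IsPComponent 2 Jb := by
    refine ⟨hJDc.1.map hgsurj, ?_, fun H hH hle he => ?_⟩
    · let gb : ↥D ⧸ Cfsg.oddCore ↥D →* ↥Cb ⧸ Cfsg.oddCore ↥Cb :=
        QuotientGroup.map _ _ g (Subgroup.map_le_iff_le_comap.1 (CfsgLib.Cores.map_pPrimeCore_le g hgsurj))
      have hgb : Function.Surjective gb := by
        intro q
        obtain ⟨c, rfl⟩ := QuotientGroup.mk'_surjective _ q
        obtain ⟨d, rfl⟩ := hgsurj c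
        exact ⟨QuotientGroup.mk' _ d, rfl⟩
      have heq : Jb.map (QuotientGroup.mk' (Cfsg.oddCore ↥Cb)) =
          (JD.map (QuotientGroup.mk' (Cfsg.oddCore ↥D))).map gb := by
        simp only [hJb, hJD, Subgroup.map_map]
        rfl
      show Cfsg.IsComponent (Jb.map (QuotientGroup.mk' (Cfsg.oddCore ↥Cb)))
      rw [heq]
      refine CfsgLib.Cores.isComponent_map_of_surjective hJDc.2.1 gb hgb fun h => ?_
      rw [← heq, Subgroup.map_eq_bot_iff, QuotientGroup.ker_mk', hJb, Subgroup.map_le_iff_le_comap] at h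
      exact CfsgLib.Cores.component_ne_bot hJDc.2.1
        ((Subgroup.map_eq_bot_iff _).2 ((h.trans hcomap).trans (QuotientGroup.ker_mk' _).ge))
    · have h1 : JD ⊓ H.comap g = JD := by
        refine hJDc.2.2 _ (hJDc.1.inf (hH.comap g)) inf_le_left
          (le_antisymm (Subgroup.map_mono inf_le_left) ?_)
        rintro _ ⟨j, hj, rfl⟩
        obtain ⟨h, hh, hhj⟩ := he.ge ⟨g j, ⟨j, hj, rfl⟩, rfl⟩
        obtain ⟨j', hj', rfl⟩ := hle hh
        refine ⟨j', ⟨hj', hh⟩, ?_⟩
        rw [QuotientGroup.mk'_eq_mk']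
        refine ⟨j'⁻¹ * j, hcomap ?_, by rw [mul_inv_cancel_left]⟩
        show g (j'⁻¹ * j) ∈ Cfsg.oddCore ↥Cb
        rw [map_mul, map_inv]
        exact QuotientGroup.eq.1 hhj
      refine le_antisymm hle ?_
      rintro _ ⟨j, hj, rfl⟩
      exact (h1.ge hj).2
  have hcomp : Cfsg.IsComponent Jb := by
    refine CfsgLib.Local.isComponent_of_commutator_eq_bot hPC (eq_bot_iff.2 (le_trans ?_ hbot.le))
    exact Subgroup.commutator_mono (CfsgLib.Cores.pComponent_le_pLayer hPC) le_rfl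
  refine ⟨?_, fun E hE hEodd hJE => ?_⟩
  · rw [← hJbeq]
    exact hcomp
  · have hEX : E ≤ X := hE.trans inf_le_right
    have hED : ∀ e : ↥E, (⟨(e : G), hEX e.2⟩ : ↥X) ∈ D := fun e => by
      rw [hD, Subgroup.mem_centralizer_singleton_iff]
      exact Subtype.ext (Subgroup.mem_centralizer_singleton_iff.mp (hE e.2).1)
    let ιE : ↥E →* ↥D :=
      { toFun := fun e => ⟨⟨(e : G), hEX e.2⟩, hED e⟩, map_one' := rfl, map_mul' := fun a b => rfl }
    haveI : Group.IsSolvable ↥E := Cfsg.Agent.S0205.result hEodd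
    have hsol : Group.IsSolvable ↥((ιE.range).map g) := by
      rw [← MonoidHom.range_comp]
      exact Group.isSolvable_of_surjective (g.comp ιE).rangeRestrict_surjective
    have hnorm : Jb ≤ Subgroup.normalizer ((ιE.range).map g : Set ↥Cb) := by
      refine le_trans (Subgroup.map_mono ?_) (Subgroup.le_normalizer_map g)
      refine CfsgLib.Solvable.le_normalizer_of_conj_mem ?_
      rintro _ ⟨n, hn, rfl⟩ _ ⟨e, rfl⟩
      exact ⟨⟨(n : G) * e * (n : G)⁻¹, hJE n ⟨n, hn, rfl⟩ e e.2⟩, rfl⟩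
    have hcb := CfsgLib.Cores.component_commutator_solvable hcomp hsol hnorm
    rw [Subgroup.commutator_le]
    rintro _ ⟨n, hn, rfl⟩ e he
    refine ⟨⟨_, X.mul_mem (X.mul_mem (X.mul_mem (hNy n.2) (hEX he)) (X.inv_mem (hNy n.2))) (X.inv_mem (hEX he))⟩, ?_, rfl⟩
    have h1 : ⁅g (ι n), g (ιE ⟨e, he⟩)⁆ ∈ (⊥ : Subgroup ↥Cb) :=
      hcb ▸ Subgroup.commutator_mem_commutator (H₁ := Jb) (H₂ := (ιE.range).map g)
        (show g (ι n) ∈ Jb from ⟨ι n, ⟨n, hn, rfl⟩, rfl⟩)
        (show g (ιE ⟨e, he⟩) ∈ (ιE.range).map g from ⟨ιE ⟨e, he⟩, ⟨_, rfl⟩, rfl⟩)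
    rw [Subgroup.mem_bot, ← map_commutatorElement] at h1
    exact (QuotientGroup.eq_one_iff _).1 (congrArg Subtype.val h1)

/-- Let G be a finite group whose generalized Fitting subgroup is a non-abelian simple group and in which every proper section (every quotient H/N of a proper subgroup H, or of G by a nontrivial normal subgroup) has the B-property. Let x, y be commuting involutions, let D be the intersection of the 2-layer of C_G(x) with C_G(y), and let J be a 2-component of D. Write Q for the quotient of C_G(y) by its largest normal odd-order subgroup. Then (i) the image of J in Q is a component of the centralizer in Q of the image of x; and (ii) for every J-invariant subgroup E of odd order of C_G(x) ∩ C_G(y), the commutator subgroup [J, E] lies in the largest normal odd-order subgroup of C_G(y). -/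
theorem result {G : Type*} [Group G] [Finite G]
    (hF : IsSimpleGroup ↥(Cfsg.generalizedFittingSubgroup G)) (hF' : ¬ IsMulCommutative ↥(Cfsg.generalizedFittingSubgroup G))
    (hsec : ∀ (H : Subgroup G) (N : Subgroup ↥H) [N.Normal], (H ≠ ⊤ ∨ N ≠ ⊥) → Cfsg.HasBProperty (↥H ⧸ N))
    (x y : G) (hx : orderOf x = 2) (hy : orderOf y = 2) (hxy : x * y = y * x)
    (J : Subgroup ↥((Cfsg.pLayer 2 ↥(Subgroup.centralizer ({x} : Set G))).map (Subgroup.centralizer ({x} : Set G)).subtype ⊓ Subgroup.centralizer ({y} : Set G)))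
    (hJ : Cfsg.IsPComponent 2 J) :
    Cfsg.IsComponent
        ((((J.map (Subgroup.subtype _)).subgroupOf (Subgroup.centralizer ({y} : Set G))).map (QuotientGroup.mk' (Cfsg.oddCore ↥(Subgroup.centralizer ({y} : Set G))))).subgroupOf
          (Subgroup.centralizer ({(QuotientGroup.mk' (Cfsg.oddCore ↥(Subgroup.centralizer ({y} : Set G))) ⟨x, Subgroup.mem_centralizer_singleton_iff.mpr hxy⟩ : ↥(Subgroup.centralizer ({y} : Set G)) ⧸ Cfsg.oddCore ↥(Subgroup.centralizer ({y} : Set G)))} : Set _))) ∧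
      ∀ E : Subgroup G, E ≤ Subgroup.centralizer ({x} : Set G) ⊓ Subgroup.centralizer ({y} : Set G) → Odd (Nat.card ↥E) →
        (∀ j ∈ J.map (Subgroup.subtype _), ∀ e ∈ E, j * e * j⁻¹ ∈ E) →
          ⁅J.map (Subgroup.subtype _), E⁆ ≤ (Cfsg.oddCore ↥(Subgroup.centralizer ({y} : Set G))).map (Subgroup.centralizer ({y} : Set G)).subtype := by
  refine general hF hF' hsec x y hx hy hxy _ (fun n hn => ?_) inf_le_right (fun d hd hdy n hn => ?_) J hJ
  · obtain ⟨m, -, rfl⟩ := hn.1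
    exact Subgroup.mem_centralizer_singleton_iff.mp m.2
  · haveI := CfsgLib.Cores.pLayer_normal (G := ↥(Subgroup.centralizer ({x} : Set G))) (p := 2)
    obtain ⟨m, hm, rfl⟩ := hn.1
    exact ⟨⟨⟨d, hd⟩ * m * ⟨d, hd⟩⁻¹, Subgroup.Normal.conj_mem inferInstance m hm _, rfl⟩,
      Subgroup.mul_mem _ (Subgroup.mul_mem _ hdy hn.2) (Subgroup.inv_mem _ hdy)⟩

end Cfsg.Agent.S1775
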