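import Cfsg.Statements.S1780
-- import your own Cfsg.Agent.* helpers here

set_option autoImplicit false
open Cfsg

namespace Cfsg.Agent.S1780

/-- Let A be a finite abelian 2-group and t an automorphism of A whose order is a power of 2. If every element of A fixed by t² is fixed by t, then t fixes every element of A. -/
theorem result {A : Type*} [CommGroup A] [Finite A]
    (hA : IsPGroup 2 A) (t : MulAut A) (ht : ∃ k : ℕ, orderOf t = 2 ^ k) (hC : ∀ a : A, t (t a) = a → t a = a) :
    ∀ a : A, t a = a := by
  classical
  let C : Subgroup A := MonoidHom.eqLocus (t : A ≃* A).toMonoidHom (MonoidHom.id A)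
  have hmem : ∀ a, a ∈ C ↔ t a = a := fun a => Iff.rfl
  by_contra hne
  push Not at hne
  obtain ⟨k, hk⟩ := ht
  -- the automorphism induced on the quotient has a nontrivial fixed point
  let act : MulAction (Subgroup.zpowers t) (A ⧸ C) := by
    refine MulAction.compHom _ (?_ : Subgroup.zpowers t →* Equiv.Perm (A ⧸ C))
    have hC' : ∀ s : Subgroup.zpowers t, C.map ((s : MulAut A) : A ≃* A).toMonoidHom = C := by
      rintro ⟨s, hs⟩
      obtain ⟨i, rfl⟩ := hs
      have hfix : ∀ a ∈ C, (t ^ i) a = a := fun a ha => by
        have : t ∈ MulAction.stabilizer (MulAut A) a := (hmem a).1 ha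
        exact Subgroup.zpow_mem _ this i
      ext a
      constructor
      · rintro ⟨b, hb, rfl⟩
        show (t ^ i) b ∈ C
        rwa [hfix b hb]
      · intro ha
        exact ⟨a, ha, hfix a ha⟩
    exact
      { toFun := fun s => (QuotientGroup.congr C C ((s : MulAut A) : A ≃* A) (hC' s)).toEquiv
        map_one' := by
          refine Equiv.ext fun q => ?_
          induction q using QuotientGroup.induction_on with
          | _ a => rfl
        map_mul' := fun r s => by
          refine Equiv.ext fun q => ?_
          induction q using QuotientGroup.induction_on with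
          | _ a => rfl }
  have hP : IsPGroup 2 (Subgroup.zpowers t) := IsPGroup.of_card (n := k) (by rw [Nat.card_zpowers, hk])
  have hdvd : 2 ∣ Nat.card (A ⧸ C) := by
    obtain ⟨a, ha⟩ := hne
    rcases (hA.to_quotient C).card_eq_or_dvd with h | h
    · exact absurd ((hmem a).1 (by
        rw [Subgroup.index_eq_one.1 h]; exact Subgroup.mem_top a)) ha
    · exact h
  have h1 : ((1 : A) : A ⧸ C) ∈ MulAction.fixedPoints (Subgroup.zpowers t) (A ⧸ C) := by
    intro s
    show (((s : MulAut A) 1 : A) : A ⧸ C) = _
    rw [map_one]
  obtain ⟨q, hq, hq1⟩ := hP.exists_fixed_point_of_prime_dvd_card_of_fixed_point (A ⧸ C) hdvd h1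
  induction q using QuotientGroup.induction_on with
  | _ a =>
    have hta : a⁻¹ * t a ∈ C := QuotientGroup.eq.1 (hq ⟨t, Subgroup.mem_zpowers t⟩).symm
    set c := a⁻¹ * t a with hcdef
    have hta' : t a = a * c := by rw [hcdef, mul_inv_cancel_left]
    have hne1 : c ≠ 1 := fun h => hq1 ((QuotientGroup.eq).2 (by
      rw [inv_one, one_mul]; exact (hmem a).2 (by rw [hta', h, mul_one])))
    obtain ⟨j, hj⟩ := IsPGroup.iff_orderOf.1 hA c
    cases j with
    | zero => exact hne1 (orderOf_eq_one_iff.1 (by simpa using hj))
    | succ j =>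
      set b := a ^ (2 ^ j)
      have htb : t b = b * c ^ (2 ^ j) := by rw [map_pow, hta', mul_pow]
      have hc2 : c ^ (2 ^ j) * c ^ (2 ^ j) = 1 := by
        rw [← pow_add, ← two_mul, ← pow_succ', ← hj, pow_orderOf_eq_one]
      have : t (t b) = b := by
        rw [htb, map_mul, htb, map_pow, (hmem c).1 hta, mul_assoc, hc2, mul_one]
      have h := hC b this
      rw [htb, mul_eq_left] at h
      have := orderOf_le_of_pow_eq_one (by positivity) h
      rw [hj, pow_succ] at this
      have : 0 < 2 ^ j := by positivity
      omega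

end Cfsg.Agent.S1780
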