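import Cfsg.Statements.S1781
import Cfsg.Agent.S1780

set_option autoImplicit false
open Cfsg

namespace Cfsg.Agent.S1781

variable {G : Type*} [Group G]

theorem mem_normalizer_of_map_eq {A : Subgroup G} {x : G} (h : A.map (MulAut.conj x).toMonoidHom = A) :
    x ∈ Subgroup.normalizer (A : Set G) := by
  rw [Subgroup.mem_normalizer_iff]
  intro y
  have h' := SetLike.ext_iff.1 h (x * y * x⁻¹)
  simp only [Subgroup.mem_map_equiv, MulAut.conj_symm_apply] at h'
  rw [← h']; congr! 1; group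

theorem commutator_le_left {A B : Subgroup G} (h : B ≤ Subgroup.normalizer (A : Set G)) : ⁅A, B⁆ ≤ A :=
  Subgroup.commutator_le.2 fun a ha b hb => by
    have := ((Subgroup.mem_normalizer_iff.1 (h hb)) a⁻¹).1 (A.inv_mem ha)
    rw [commutatorElement_def, mul_assoc, mul_assoc, ← mul_assoc b]
    exact A.mul_mem ha this

theorem commutator_le_right {A B : Subgroup G} (h : A ≤ Subgroup.normalizer (B : Set G)) : ⁅A, B⁆ ≤ B := by
  rw [Subgroup.commutator_comm]; exact commutator_le_left h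

/-- An element of `A` normalizing `B` whose square is not `1` centralizes `B`. -/
theorem key [Finite G] (A B : Subgroup G) (hA2 : IsPGroup 2 ↥A) (hBa : IsMulCommutative ↥B) (hB2 : IsPGroup 2 ↥B)
    (hdisj : A ⊓ B = ⊥)
    (tiA : ∀ a ∈ A, a ≠ 1 → ∀ x : G, x * a = a * x → x ∈ Subgroup.normalizer (A : Set G))
    (a : G) (ha : a ∈ A) (haN : a ∈ Subgroup.normalizer (B : Set G)) (ha2 : a ^ 2 ≠ 1) :
    ∀ x ∈ B, a * x = x * a := by
  let t : MulAut ↥B := (B.normalizerMonoidHom) ⟨a, haN⟩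
  have ht : ∀ x : B, (t x : G) = a * x * a⁻¹ := fun x => rfl
  intro x hx
  open scoped IsMulCommutative in
  have := S1780.result hB2 t ?_ ?_ ⟨x, hx⟩
  · have h := congrArg Subtype.val this
    rw [ht] at h
    exact eq_mul_of_mul_inv_eq h
  · obtain ⟨k, hk⟩ := IsPGroup.iff_orderOf.1 hA2 ⟨a, ha⟩
    have hd : orderOf t ∣ 2 ^ k := by
      rw [← hk, Subgroup.orderOf_mk, ← Subgroup.orderOf_mk a haN]
      exact orderOf_map_dvd _ _
    obtain ⟨i, -, hi⟩ := (Nat.dvd_prime_pow Nat.prime_two).1 hd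
    exact ⟨i, hi⟩
  · intro y hy
    have hy' : a ^ 2 * y = y * a ^ 2 := by
      have h := congrArg Subtype.val hy
      rw [ht, ht] at h
      rw [pow_two]
      calc a * a * (y : G) = a * (a * y * a⁻¹) * a⁻¹ * (a * a) := by group
        _ = y * (a * a) := by rw [h]
    have hyN := tiA (a ^ 2) (A.pow_mem ha 2) ha2 y hy'.symm
    have h1 : a * y * a⁻¹ * (y : G)⁻¹ ∈ A ⊓ B := by
      refine ⟨?_, B.mul_mem ((Subgroup.mem_normalizer_iff.1 haN y).1 y.2) (B.inv_mem y.2)⟩
      rw [mul_assoc, mul_assoc, ← mul_assoc (y : G)]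
      exact A.mul_mem ha ((Subgroup.mem_normalizer_iff.1 hyN a⁻¹).1 (A.inv_mem ha))
    rw [hdisj, Subgroup.mem_bot, mul_inv_eq_one] at h1
    exact Subtype.ext (by rw [ht]; exact h1)

/-- Let A be an abelian 2-subgroup of the finite group G such that every conjugate of A equals A or meets A trivially, and let g ∈ G with g A g⁻¹ ≠ A. Then either the subgroup of those elements of A that normalize g A g⁻¹ is an elementary abelian 2-group, or A and g A g⁻¹ commute elementwise. -/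
theorem result {G : Type*} [Group G] [Finite G] (A : Subgroup G)
    (hA2 : IsPGroup 2 ↥A) (hAa : IsMulCommutative ↥A)
    (hti : ∀ h : G, A.map (MulAut.conj h).toMonoidHom = A ∨ A.map (MulAut.conj h).toMonoidHom ⊓ A = ⊥)
    (g : G) (hg : A.map (MulAut.conj g).toMonoidHom ≠ A) :
    Cfsg.IsElementaryAbelian 2 (A ⊓ Subgroup.normalizer ((A.map (MulAut.conj g).toMonoidHom : Subgroup G) : Set G)) ∨
      ⁅A, A.map (MulAut.conj g).toMonoidHom⁆ = ⊥ := by
  set B := A.map (MulAut.conj g).toMonoidHom with hB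
  have hdisj : A ⊓ B = ⊥ := by
    rw [inf_comm]; exact (hti g).resolve_left hg
  have hB2 : IsPGroup 2 ↥B := hA2.map _
  have hBa : IsMulCommutative ↥B := Subgroup.map_isMulCommutative A _
  -- centralizing a nontrivial element of a TI subgroup means normalizing it
  have tiA : ∀ a ∈ A, a ≠ 1 → ∀ x : G, x * a = a * x → x ∈ Subgroup.normalizer (A : Set G) := by
    intro a ha ha1 x hx
    refine mem_normalizer_of_map_eq ((hti x).resolve_right fun h => ha1 ?_)
    rw [← Subgroup.mem_bot, ← h]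
    exact ⟨⟨a, ha, by simp [hx]⟩, ha⟩
  have tiB : ∀ b ∈ B, b ≠ 1 → ∀ x : G, x * b = b * x → x ∈ Subgroup.normalizer (B : Set G) := by
    rintro _ ⟨a, ha, rfl⟩ hb1 x hx
    have h := tiA a ha (fun h => hb1 (by simp [h])) (g⁻¹ * x * g) (by
      simp only [MulEquiv.coe_toMonoidHom, MulAut.conj_apply] at hx
      calc g⁻¹ * x * g * a = g⁻¹ * (x * (g * a * g⁻¹)) * g := by group
        _ = g⁻¹ * (g * a * g⁻¹ * x) * g := by rw [hx]
        _ = a * (g⁻¹ * x * g) := by group)
    rw [Subgroup.mem_normalizer_iff] at h ⊢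
    intro y
    have := h (g⁻¹ * y * g)
    simp only [hB, Subgroup.mem_map_equiv, MulAut.conj_symm_apply]
    convert this using 2 <;> group
  by_contra hcon
  push Not at hcon
  obtain ⟨a, haN, ha2⟩ : ∃ a ∈ A ⊓ Subgroup.normalizer (B : Set G), a ^ 2 ≠ 1 := by
    by_contra h
    push Not at h
    refine hcon.1 ⟨?_, h⟩
    exact ⟨⟨fun x y => Subtype.ext (show (x : G) * y = y * x from congrArg Subtype.val (hAa.is_comm.comm (⟨x.1, x.2.1⟩ : A) ⟨y.1, y.2.1⟩))⟩⟩
  have hb : ∀ x ∈ B, a * x = x * a := key A B hA2 hBa hB2 hdisj tiA a haN.1 haN.2 ha2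
  have hBN : B ≤ Subgroup.normalizer (A : Set G) := fun x hx =>
    tiA a haN.1 (fun h => ha2 (by simp [h])) x (hb x hx).symm
  have hbB : g * a * g⁻¹ ∈ B := ⟨a, haN.1, rfl⟩
  have hb2 : (g * a * g⁻¹) ^ 2 ≠ 1 := fun h => ha2 (by
    rw [conj_pow] at h
    exact conj_eq_one_iff.1 h)
  have ha' : ∀ x ∈ A, g * a * g⁻¹ * x = x * (g * a * g⁻¹) :=
    key B A hB2 hAa hA2 (inf_comm A B ▸ hdisj) tiB _ hbB (hBN hbB) hb2
  have hAN : A ≤ Subgroup.normalizer (B : Set G) := fun x hx =>
    tiB _ hbB (fun h => hb2 (by simp [h])) x (ha' x hx).symm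
  exact hcon.2 (le_bot_iff.1 (hdisj ▸ le_inf (commutator_le_left hBN) (commutator_le_right hAN)))

end Cfsg.Agent.S1781
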