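import Cfsg.Statements.S1782
import Cfsg.Agent.Lib.LocalEven.Basic
import Cfsg.Agent.Lib.PGroup.Basic

set_option autoImplicit false
open Cfsg
open scoped commutatorElement

namespace Cfsg.Agent.S1782

open CfsgLib.LocalEven

/-- A finite group of exponent two has trivial Frattini subgroup. -/
theorem frattini_eq_bot_of_sq {A : Type*} [Group A] [Finite A] (h : ∀ a : A, a ^ 2 = 1) : frattini A = ⊥ := by
  have hinv : ∀ a : A, a⁻¹ = a := fun a => inv_eq_of_mul_eq_one_right (by rw [← pow_two]; exact h a)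
  have hc : ∀ a b : A, a * b = b * a := fun a b => by
    rw [← hinv (a * b), mul_inv_rev, hinv, hinv]
  refine (Subgroup.eq_bot_iff_forall _).2 fun u hu => by_contra fun hu1 => ?_
  obtain ⟨M, -, huM, hmax⟩ := Finite.exists_le_maximal (p := fun M : Subgroup A => u ∉ M) (a := ⊥)
    (by simpa using hu1)
  have hcoat : IsCoatom M := by
    refine ⟨fun ht => huM (ht ▸ Subgroup.mem_top u), fun K hK => ?_⟩
    have huK : u ∈ K := by_contra fun h => not_lt_of_ge (hmax h hK.le) hK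
    refine (Subgroup.eq_top_iff' K).2 fun y => ?_
    by_cases hy : y ∈ M
    · exact hK.le hy
    have hmem : u ∈ M ⊔ Subgroup.zpowers y := by_contra fun h => hy (hmax h le_sup_left
      (Subgroup.mem_sup_right (Subgroup.mem_zpowers y)))
    haveI : M.Normal := ⟨fun n hn g => by rwa [hc g n, mul_inv_cancel_right]⟩
    obtain ⟨m, hm, w, hw, hmw⟩ := Subgroup.mem_sup_of_normal_left.1 hmem
    obtain ⟨i, rfl⟩ := Subgroup.mem_zpowers_iff.1 hw
    rcases Int.even_or_odd i with ⟨j, rfl⟩ | ⟨j, rfl⟩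
    · exfalso
      rw [zpow_add, ← (Commute.refl y).mul_zpow, ← pow_two, h, one_zpow, mul_one] at hmw
      exact huM (hmw ▸ hm)
    · rw [zpow_add, zpow_one, two_mul, zpow_add, ← (Commute.refl y).mul_zpow, ← pow_two, h, one_zpow, one_mul] at hmw
      rw [show y = m⁻¹ * u by rw [← hmw]; group]
      exact K.mul_mem (K.inv_mem (hK.le hm)) huK
  exact huM (frattini_le_coatom hcoat hu)

/-- In a finite p-group a proper subgroup lies in a proper normal subgroup. -/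
theorem exists_normal_proper {S : Type*} [Group S] [Finite S] {p : ℕ} [Fact p.Prime] (hS : IsPGroup p S)
    (M : Subgroup S) {R : Subgroup S} (hle : R ≤ M) (hne : R ≠ M) :
    ∃ N : Subgroup S, R ≤ N ∧ Nat.card N < Nat.card M ∧ ∀ u ∈ M, ∀ x ∈ N, u * x * u⁻¹ ∈ N := by
  have hnt : R.subgroupOf M ≠ ⊤ := fun h => hne (le_antisymm hle (Subgroup.subgroupOf_eq_top.1 h))
  obtain h | ⟨N, hN, hRN⟩ := eq_top_or_exists_le_coatom (R.subgroupOf M)
  · exact absurd h hnt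
  have hn := CfsgLib.PGroup.normal_of_isCoatom (hS.to_subgroup M) hN
  refine ⟨N.map M.subtype, fun x hx => ⟨⟨x, hle hx⟩, hRN hx, rfl⟩, ?_, ?_⟩
  · rw [Subgroup.card_map_of_injective M.subtype_injective]
    exact lt_of_le_of_ne (Subgroup.card_le_card_group N) fun h => hN.1 (Subgroup.eq_top_of_card_eq N h)
  · rintro u hu _ ⟨x, hx, rfl⟩
    exact ⟨⟨u, hu⟩ * x * ⟨u, hu⟩⁻¹, hn.conj_mem x hx ⟨u, hu⟩, rfl⟩

/-- Let S be a finite 2-group and Δ a set of subgroups of S closed under conjugation by S, all of the same order, each with nontrivial Frattini subgroup, and such that two distinct members of Δ meet trivially. Then any two distinct members of Δ commute elementwise. -/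
theorem result {S : Type*} [Group S] [Finite S] (hS : IsPGroup 2 S)
    (Δ : Set (Subgroup S)) (hinv : ∀ s : S, ∀ R ∈ Δ, R.map (MulAut.conj s).toMonoidHom ∈ Δ)
    (hΦ : ∀ R ∈ Δ, frattini ↥R ≠ ⊥) (hord : ∀ R ∈ Δ, ∀ T ∈ Δ, Nat.card ↥R = Nat.card ↥T)
    (hti : ∀ R ∈ Δ, ∀ T ∈ Δ, R = T ∨ R ⊓ T = ⊥) :
    ∀ R ∈ Δ, ∀ T ∈ Δ, R ≠ T → ⁅R, T⁆ = ⊥ := by
  have h2 : Fact (Nat.Prime 2) := ⟨Nat.prime_two⟩
  suffices H : ∀ n : ℕ, ∀ R ∈ Δ, ∀ T ∈ Δ, Nat.card ↥(R ⊔ T) ≤ n → R ≠ T → ⁅R, T⁆ = ⊥ from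
    fun R hR T hT hne => H _ R hR T hT le_rfl hne
  intro n
  induction n using Nat.strong_induction_on with
  | _ n ih =>
  intro R hR T hT hn hne
  have conj_comm : ∀ R ∈ Δ, ∀ T ∈ Δ, Nat.card ↥(R ⊔ T) ≤ n → R ≠ T → ∀ u ∈ R ⊔ T,
      R.map (MulAut.conj u).toMonoidHom ≠ R →
      ∀ a ∈ R.map (MulAut.conj u).toMonoidHom, ∀ b ∈ R, a * b = b * a := by
    intro R hR T hT hn hne u hu hu'
    obtain ⟨N, hRN, hlt, hNn⟩ := exists_normal_proper hS (R ⊔ T) (le_sup_left : R ≤ R ⊔ T) fun h => by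
      have hTR : T ≤ R := h ▸ le_sup_right
      exact hne (Subgroup.eq_of_le_of_card_ge hTR (hord R hR T hT).le).symm
    have hle : R.map (MulAut.conj u).toMonoidHom ⊔ R ≤ N := by
      refine sup_le ?_ hRN
      rintro _ ⟨x, hx, rfl⟩
      exact hNn u hu x (hRN hx)
    have hcard : Nat.card ↥(R.map (MulAut.conj u).toMonoidHom ⊔ R) < n :=
      lt_of_le_of_lt (Subgroup.card_le_of_le hle) (lt_of_lt_of_le hlt hn)
    intro a ha b hb
    exact (Subgroup.mem_centralizer_iff.1 (Subgroup.commutator_eq_bot_iff_le_centralizer.1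
      (ih _ hcard _ (hinv u R hR) R hR le_rfl hu') ha) b hb).symm
  have disj : ∀ R ∈ Δ, ∀ u : S, R.map (MulAut.conj u).toMonoidHom ≠ R →
      ∀ a ∈ R.map (MulAut.conj u).toMonoidHom, a ∈ R → a = 1 := by
    intro R hR u hu a ha hb
    exact Subgroup.mem_bot.1 (((hti _ (hinv u R hR) R hR).resolve_left hu) ▸ Subgroup.mem_inf.2 ⟨ha, hb⟩)
  -- an element of order four
  have four : ∀ T ∈ Δ, ∃ u ∈ T, u ^ 4 = 1 ∧ u ^ 2 ≠ 1 := by
    intro T hT
    obtain ⟨u, hu⟩ : ∃ u : T, u ^ 2 ≠ 1 := by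
      by_contra h
      push Not at h
      exact hΦ T hT (frattini_eq_bot_of_sq h)
    obtain ⟨k, hk⟩ := IsPGroup.iff_orderOf.1 (hS.to_subgroup T) u
    have hk2 : 2 ≤ k := by
      by_contra hk2
      refine hu (orderOf_dvd_iff_pow_eq_one.1 ?_)
      rw [hk]
      calc 2 ^ k ∣ 2 ^ 1 := pow_dvd_pow 2 (by omega)
        _ = 2 := pow_one 2
    refine ⟨((u ^ 2 ^ (k - 2) : T) : S), (u ^ 2 ^ (k - 2)).2, ?_, ?_⟩
    · rw [← SubmonoidClass.coe_pow, ← pow_mul, show 2 ^ (k - 2) * 4 = 2 ^ k by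
        rw [show (4 : ℕ) = 2 ^ 2 from rfl, ← pow_add]; congr 1; omega, ← hk, pow_orderOf_eq_one, Subgroup.coe_one]
    · rw [← SubmonoidClass.coe_pow, ← pow_mul, Ne, OneMemClass.coe_eq_one, ← orderOf_dvd_iff_pow_eq_one, hk,
        ← pow_succ, Nat.pow_dvd_pow_iff_le_right one_lt_two]
      omega
  -- a member normalized by the other centralizes it
  have onesided : ∀ R ∈ Δ, ∀ T ∈ Δ, R ≠ T → (∀ u ∈ R ⊔ T, T.map (MulAut.conj u).toMonoidHom ≠ T →
      ∀ a ∈ T.map (MulAut.conj u).toMonoidHom, ∀ b ∈ T, a * b = b * a) →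
      T ≤ Subgroup.normalizer (R : Set S) → ⁅R, T⁆ = ⊥ := by
    intro R hR T hT hne hcomm hTR
    have hRT : ∀ a ∈ R, a ∈ T → a = 1 := fun a ha hb =>
      Subgroup.mem_bot.1 (((hti R hR T hT).resolve_left hne) ▸ Subgroup.mem_inf.2 ⟨ha, hb⟩)
    have hN : ∀ w ∈ T, ∀ r ∈ R, w * r * w⁻¹ ∈ R := fun w hw r hr =>
      (Subgroup.mem_normalizer_iff.1 (hTR hw) r).1 hr
    have hy : ∀ r ∈ R, ∀ u ∈ T, r * u * r⁻¹ * u⁻¹ ∈ R := fun r hr u hu => by
      rw [show r * u * r⁻¹ * u⁻¹ = r * (u * r⁻¹ * u⁻¹) by group]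
      exact R.mul_mem hr (hN u hu _ (R.inv_mem hr))
    by_cases hRT' : R ≤ Subgroup.normalizer (T : Set S)
    · refine le_bot_iff.1 (Subgroup.commutator_le.2 fun r hr u hu => Subgroup.mem_bot.2 ?_)
      rw [commutatorElement_def]
      exact hRT _ (hy r hr u hu) (T.mul_mem ((Subgroup.mem_normalizer_iff.1 (hRT' hr) u).1 hu) (T.inv_mem hu))
    obtain ⟨r, hr, hrT⟩ := SetLike.not_le_iff_exists.1 hRT'
    have hne' : T.map (MulAut.conj r).toMonoidHom ≠ T := fun h => hrT (mem_normalizer_of_conj_le h.le)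
    have hcT := hcomm r (Subgroup.mem_sup_left hr) hne'
    have hy' : ∀ u : T, r * u * r⁻¹ * (u : S)⁻¹ ∈ R ⊓ Subgroup.centralizer (T : Set S) := fun u => by
      refine ⟨hy r hr u u.2, Subgroup.mem_centralizer_iff.2 fun w hw => ?_⟩
      have h1 := hcT (r * u * r⁻¹) ⟨u, u.2, rfl⟩ w hw
      set y := r * u * r⁻¹ * (u : S)⁻¹ with hy0
      rw [show r * u * r⁻¹ = y * u by rw [hy0]; group] at h1
      have h2 : w * y * w⁻¹ * (y⁻¹) = (u : S) * w * (u : S)⁻¹ * w⁻¹ := by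
        calc w * y * w⁻¹ * y⁻¹ = (w * (y * u)) * ((u : S)⁻¹ * w⁻¹ * y⁻¹) := by group
          _ = ((y * u) * w) * ((u : S)⁻¹ * w⁻¹ * y⁻¹) := by rw [h1]
          _ = y * ((u : S) * w * (u : S)⁻¹ * w⁻¹) * y⁻¹ := by group
          _ = (u : S) * w * (u : S)⁻¹ * w⁻¹ := by
            have hyR : y ∈ R := hy r hr u u.2
            have hm : w * y * w⁻¹ * y⁻¹ = 1 := by
              have h3 : y * ((u : S) * w * (u : S)⁻¹ * w⁻¹) * y⁻¹ = w * y * w⁻¹ * y⁻¹ := by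
                calc y * ((u : S) * w * (u : S)⁻¹ * w⁻¹) * y⁻¹
                    = ((y * u) * w) * ((u : S)⁻¹ * w⁻¹ * y⁻¹) := by group
                  _ = (w * (y * u)) * ((u : S)⁻¹ * w⁻¹ * y⁻¹) := by rw [h1]
                  _ = w * y * w⁻¹ * y⁻¹ := by group
              have h4 : (u : S) * w * (u : S)⁻¹ * w⁻¹ ∈ R := by
                rw [show (u : S) * w * (u : S)⁻¹ * w⁻¹ = y⁻¹ * (y * ((u : S) * w * (u : S)⁻¹ * w⁻¹) * y⁻¹) * y by group, h3]
                exact R.mul_mem (R.mul_mem (R.inv_mem hyR) (R.mul_mem (hN w hw y hyR) (R.inv_mem hyR))) hyR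
              have h5 := hRT _ h4 (T.mul_mem (T.mul_mem (T.mul_mem u.2 hw) (T.inv_mem u.2)) (T.inv_mem hw))
              rw [h5] at h3
              rw [← h3]; group
            rw [show y * ((u : S) * w * (u : S)⁻¹ * w⁻¹) * y⁻¹ = ((y * u) * w) * ((u : S)⁻¹ * w⁻¹ * y⁻¹) by group,
              h1, show (w * (y * u)) * ((u : S)⁻¹ * w⁻¹ * y⁻¹) = w * y * w⁻¹ * y⁻¹ by group, hm]
            have h6 : (u : S) * w * (u : S)⁻¹ * w⁻¹ ∈ R := by
              rw [show (u : S) * w * (u : S)⁻¹ * w⁻¹ = y⁻¹ * ((y * u) * w) * ((u : S)⁻¹ * w⁻¹) by group, h1,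
                show y⁻¹ * (w * (y * u)) * ((u : S)⁻¹ * w⁻¹) = y⁻¹ * (w * y * w⁻¹) by group]
              exact R.mul_mem (R.inv_mem hyR) (hN w hw y hyR)
            exact (hRT _ h6 (T.mul_mem (T.mul_mem (T.mul_mem u.2 hw) (T.inv_mem u.2)) (T.inv_mem hw))).symm
      have h7 : (u : S) * w * (u : S)⁻¹ * w⁻¹ ∈ R := h2 ▸ R.mul_mem (hN w hw y (hy r hr u u.2)) (R.inv_mem (hy r hr u u.2))
      rw [hRT _ h7 (T.mul_mem (T.mul_mem (T.mul_mem u.2 hw) (T.inv_mem u.2)) (T.inv_mem hw)), mul_inv_eq_one,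
        mul_inv_eq_iff_eq_mul] at h2
      exact h2
    have hinj : Function.Injective fun u : T => (⟨_, hy' u⟩ : ↥(R ⊓ Subgroup.centralizer (T : Set S))) := by
      intro u v h
      have h' : r * u * r⁻¹ * (u : S)⁻¹ = r * v * r⁻¹ * (v : S)⁻¹ := congrArg Subtype.val h
      have h8 : r * ((v : S)⁻¹ * u) * r⁻¹ = (v : S)⁻¹ * u := by
        calc r * ((v : S)⁻¹ * u) * r⁻¹ = (r * v * r⁻¹)⁻¹ * (r * u * r⁻¹ * (u : S)⁻¹) * u := by group
          _ = (r * v * r⁻¹)⁻¹ * (r * v * r⁻¹ * (v : S)⁻¹) * u := by rw [h']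
          _ = _ := by group
      have hm := T.mul_mem (T.inv_mem v.2) u.2
      exact Subtype.ext (inv_mul_eq_one.1 (disj T hT r hne' _ ⟨_, hm, h8⟩ hm)).symm
    have hle : R ≤ Subgroup.centralizer (T : Set S) := inf_eq_left.1
      (Subgroup.eq_of_le_of_card_ge inf_le_left ((hord R hR T hT).le.trans (Nat.card_le_card_of_injective _ hinj)))
    exact Subgroup.commutator_eq_bot_iff_le_centralizer.2 hle
  have hc1 := conj_comm R hR T hT hn hne
  have hc2 := conj_comm T hT R hR (sup_comm R T ▸ hn) (Ne.symm hne)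
  have hc2' : ∀ u ∈ R ⊔ T, T.map (MulAut.conj u).toMonoidHom ≠ T →
      ∀ a ∈ T.map (MulAut.conj u).toMonoidHom, ∀ b ∈ T, a * b = b * a := fun u hu => hc2 u (sup_comm R T ▸ hu)
  by_cases hTR : T ≤ Subgroup.normalizer (R : Set S)
  · exact onesided R hR T hT hne hc2' hTR
  by_cases hRT : R ≤ Subgroup.normalizer (T : Set S)
  · rw [Subgroup.commutator_comm]
    exact onesided T hT R hR (Ne.symm hne) (fun u hu => hc1 u (sup_comm T R ▸ hu)) hRT
  exfalso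
  obtain ⟨r, hr, hrT, hr2⟩ : ∃ r ∈ R, r ∉ Subgroup.normalizer (T : Set S) ∧ r * r ∈ Subgroup.normalizer (T : Set S) := by
    obtain ⟨r0, hr0, hr0T⟩ := SetLike.not_le_iff_exists.1 hRT
    obtain ⟨r, ⟨hr, hrT⟩, hmin⟩ := Set.exists_min_image {r : S | r ∈ R ∧ r ∉ Subgroup.normalizer (T : Set S)} orderOf
      (Set.toFinite _) ⟨r0, hr0, hr0T⟩
    refine ⟨r, hr, hrT, by_contra fun h => ?_⟩
    have hlt : orderOf (r * r) < orderOf r := by
      obtain ⟨k, hk⟩ := IsPGroup.iff_orderOf.1 hS r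
      have hk0 : k ≠ 0 := fun h0 => hrT (by
        rw [h0, pow_zero, orderOf_eq_one_iff] at hk; rw [hk]; exact Subgroup.one_mem _)
      rw [← pow_two, orderOf_pow' r two_ne_zero, hk, Nat.gcd_eq_right (dvd_pow_self 2 hk0)]
      exact Nat.div_lt_self (Nat.pow_pos two_pos) one_lt_two
    exact absurd (hmin _ ⟨R.mul_mem hr hr, h⟩) (not_le.2 hlt)
  have hrne : T.map (MulAut.conj r).toMonoidHom ≠ T := fun h => hrT (mem_normalizer_of_conj_le h.le)
  have hcT := hc2' r (Subgroup.mem_sup_left hr) hrne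
  have hinv2 : ∀ u ∈ T, u ∉ Subgroup.normalizer (R : Set S) → u * u = 1 := by
    intro u hu hun
    have hune : R.map (MulAut.conj u).toMonoidHom ≠ R := fun h => hun (mem_normalizer_of_conj_le h.le)
    have h1 := hc1 u (Subgroup.mem_sup_right hu) hune (u * r * u⁻¹) ⟨r, hr, rfl⟩ r⁻¹ (R.inv_mem hr)
    have h2 := hcT (r * u⁻¹ * r⁻¹) ⟨u⁻¹, T.inv_mem hu, rfl⟩ u hu
    have key : u * u * (r * (u * u)⁻¹ * r⁻¹) = u * (r * r * u⁻¹ * (r * r)⁻¹) := by
      calc u * u * (r * (u * u)⁻¹ * r⁻¹) = u * (u * (r * u⁻¹ * r⁻¹)) * (r * u⁻¹ * r⁻¹) := by group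
        _ = u * ((r * u⁻¹ * r⁻¹) * u) * (r * u⁻¹ * r⁻¹) := by rw [h2]
        _ = (u * r * u⁻¹) * (r⁻¹ * (u * r * u⁻¹)) * r⁻¹ := by group
        _ = (u * r * u⁻¹) * ((u * r * u⁻¹) * r⁻¹) * r⁻¹ := by rw [h1]
        _ = _ := by group
    have hmem : r * (u * u)⁻¹ * r⁻¹ ∈ T := by
      rw [show r * (u * u)⁻¹ * r⁻¹ = (u * u)⁻¹ * (u * u * (r * (u * u)⁻¹ * r⁻¹)) by group, key]
      exact T.mul_mem (T.inv_mem (T.mul_mem hu hu))
        (T.mul_mem hu ((Subgroup.mem_normalizer_iff.1 hr2 _).1 (T.inv_mem hu)))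
    have := disj T hT r hrne _ ⟨_, T.inv_mem (T.mul_mem hu hu), rfl⟩ hmem
    exact inv_eq_one.1 (conj_eq_one_iff.1 this)
  obtain ⟨t, ht, htR⟩ := SetLike.not_le_iff_exists.1 hTR
  have hune : R.map (MulAut.conj t).toMonoidHom ≠ R := fun h => htR (mem_normalizer_of_conj_le h.le)
  obtain ⟨u, hu, hu4, hu2⟩ := four T hT
  have huN : u ∈ Subgroup.normalizer (R : Set S) := by_contra fun h => hu2 (by rw [pow_two]; exact hinv2 u hu h)
  have htt := hinv2 t ht htR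
  have hut := hinv2 (u * t) (T.mul_mem hu ht) fun h => htR (by simpa using Subgroup.mul_mem _ (Subgroup.inv_mem _ huN) h)
  have htinv : t * u * t⁻¹ = u⁻¹ := by
    rw [show t⁻¹ = t from inv_eq_of_mul_eq_one_right htt]
    exact (inv_eq_of_mul_eq_one_right (by simpa [mul_assoc] using hut)).symm
  set u' := r * u⁻¹ * r⁻¹ with hu'
  have hu'T : u' ∈ T.map (MulAut.conj r).toMonoidHom := ⟨u⁻¹, T.inv_mem hu, rfl⟩
  have hcu : Commute u u' := (hcT u' hu'T u hu).symm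
  have hct : Commute t u' := (hcT u' hu'T t ht).symm
  have hxR : u * u' ∈ R := by
    rw [show u * u' = (u * r * u⁻¹) * r⁻¹ by rw [hu']; group]
    exact R.mul_mem ((Subgroup.mem_normalizer_iff.1 huN r).1 hr) (R.inv_mem hr)
  have hx' : t * (u * u') * t⁻¹ = u⁻¹ * u' := by
    calc t * (u * u') * t⁻¹ = (t * u * t⁻¹) * (t * u' * t⁻¹) := by group
      _ = u⁻¹ * u' := by rw [htinv, hct.eq, mul_inv_cancel_right]
  have hsq : (t * (u * u') * t⁻¹) ^ 2 = (u * u') ^ 2 := by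
    rw [hx', hcu.inv_left.mul_pow, hcu.mul_pow, inv_pow]
    congr 1
    refine inv_eq_of_mul_eq_one_right ?_
    rw [← pow_add]; exact hu4
  have hx1 : (u * u') ^ 2 = 1 := disj R hR t hune _ ⟨(u * u') ^ 2, R.pow_mem hxR 2, by
    simp only [MulEquiv.coe_toMonoidHom, MulAut.conj_apply]
    rw [← conj_pow, hsq]⟩ (R.pow_mem hxR 2)
  rw [hcu.mul_pow] at hx1
  refine hu2 (disj T hT r hrne _ ⟨u ^ 2, T.pow_mem hu 2, ?_⟩ (T.pow_mem hu 2))
  conv_rhs => rw [eq_inv_of_mul_eq_one_left hx1, hu', conj_pow, inv_pow]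
  simp [mul_assoc]

end Cfsg.Agent.S1782
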