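import Cfsg.Statements.S1783
import Cfsg.Agent.S1782
import Cfsg.Agent.Lib.Cores.Components
import Cfsg.Agent.Lib.PStab.QuadPair

set_option autoImplicit false
open Cfsg
open scoped commutatorElement

namespace Cfsg.Agent.S1783

/-- Conjugates of an abelian TI 2-subgroup which is not elementary abelian commute inside a 2-subgroup. -/
theorem conjugates_commute {X : Type*} [Group X] [Finite X] (A : Subgroup X) (hA : IsPGroup 2 A)
    (hti : ∀ h : X, A.map (MulAut.conj h).toMonoidHom = A ∨ A.map (MulAut.conj h).toMonoidHom ⊓ A = ⊥)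
    (hsq : ∃ b ∈ A, b ^ 2 ≠ 1) (hcomm : ∀ a b : X, a ∈ A → b ∈ A → a * b = b * a)
    (T : Subgroup X) (hT : IsPGroup 2 T) (g h : X)
    (hg : A.map (MulAut.conj g).toMonoidHom ≤ T) (hh : A.map (MulAut.conj h).toMonoidHom ≤ T) :
    ∀ x ∈ A.map (MulAut.conj g).toMonoidHom, ∀ y ∈ A.map (MulAut.conj h).toMonoidHom, x * y = y * x := by
  have h2 : Fact (Nat.Prime 2) := ⟨Nat.prime_two⟩
  have conj_mul : ∀ (g h : X) (H : Subgroup X),
      (H.map (MulAut.conj h).toMonoidHom).map (MulAut.conj g).toMonoidHom = H.map (MulAut.conj (g * h)).toMonoidHom := by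
    intro g h H
    rw [Subgroup.map_map]
    congr 1
    ext x; simp [mul_assoc]
  let Δ : Set (Subgroup T) := {R | ∃ g : X, R.map T.subtype = A.map (MulAut.conj g).toMonoidHom}
  have hcard : ∀ R ∈ Δ, Nat.card R = Nat.card A := by
    rintro R ⟨g, hg⟩
    rw [← Subgroup.card_map_of_injective (K := R) T.subtype_injective, hg,
      Subgroup.card_map_of_injective (MulAut.conj g).injective]
  have main := Cfsg.Agent.S1782.result hT Δ
    (fun s R hR => by
      obtain ⟨g, hg⟩ := hR
      refine ⟨(s : X) * g, ?_⟩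
      rw [← conj_mul, ← hg, Subgroup.map_map, Subgroup.map_map]
      congr 1)
    (fun R hR hbot => by
      obtain ⟨g, hg⟩ := hR
      obtain ⟨b, hb, hb2⟩ := hsq
      obtain ⟨r, hr, hrb⟩ := hg.ge ⟨b, hb, rfl⟩
      have hmem := CfsgLib.PGroup.pow_mem_frattini (hT.to_subgroup R) (⟨r, hr⟩ : R)
      rw [hbot, Subgroup.mem_bot] at hmem
      have h1 : (r : X) ^ 2 = 1 := congrArg (fun z : R => ((z : T) : X)) hmem
      rw [show (r : X) = g * b * g⁻¹ from hrb, conj_pow] at h1
      exact hb2 (conj_eq_one_iff.1 h1))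
    (fun R hR S hS => (hcard R hR).trans (hcard S hS).symm)
    (fun R hR S hS => by
      obtain ⟨g, hg⟩ := hR
      obtain ⟨k, hk⟩ := hS
      rcases hti (k⁻¹ * g) with he | he
      · left
        have := congrArg (Subgroup.map (MulAut.conj k).toMonoidHom) he
        rw [conj_mul, mul_inv_cancel_left, ← hg, ← hk] at this
        exact Subgroup.map_injective T.subtype_injective this
      · right
        have := congrArg (Subgroup.map (MulAut.conj k).toMonoidHom) he
        rw [Subgroup.map_bot, Subgroup.map_inf _ _ _ (MulAut.conj k).injective, conj_mul, mul_inv_cancel_left,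
          ← hg, ← hk, ← Subgroup.map_inf _ _ _ T.subtype_injective,
          Subgroup.map_eq_bot_iff_of_injective _ T.subtype_injective] at this
        exact this)
  intro x hx y hy
  set R := (A.map (MulAut.conj g).toMonoidHom).subgroupOf T
  set S := (A.map (MulAut.conj h).toMonoidHom).subgroupOf T
  by_cases hRS : A.map (MulAut.conj g).toMonoidHom = A.map (MulAut.conj h).toMonoidHom
  · rw [← hRS] at hy
    obtain ⟨a, ha, rfl⟩ := hx
    obtain ⟨b, hb, rfl⟩ := hy
    rw [← map_mul, ← map_mul, hcomm a b ha hb]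
  have hne : R ≠ S := fun he => hRS (by
    rw [← Subgroup.map_subgroupOf_eq_of_le hg, ← Subgroup.map_subgroupOf_eq_of_le hh]
    exact congrArg _ he)
  have := main R ⟨g, Subgroup.map_subgroupOf_eq_of_le hg⟩ S ⟨h, Subgroup.map_subgroupOf_eq_of_le hh⟩ hne
  exact congrArg Subtype.val (Subgroup.mem_centralizer_iff.1
    (Subgroup.commutator_eq_bot_iff_le_centralizer.1 this (show (⟨x, hg hx⟩ : T) ∈ R from hx))
    ⟨y, hh hy⟩ hy).symm

/-- Let X be a finite group whose generalized Fitting subgroup equals its largest normal 2-subgroup Q, and let A be an abelian 2-subgroup of X such that every conjugate of A equals A or meets A trivially. Let B be the subgroup generated by the squares of the elements of A. Then B lies in Q, and if B is not an elementary abelian 2-group then the normal closure of B in X is commutative. -/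
theorem result {X : Type*} [Group X] [Finite X]
    (hX : Cfsg.generalizedFittingSubgroup X = Cfsg.pCore 2 X) (A : Subgroup X) (hA2 : IsPGroup 2 ↥A) (hAa : IsMulCommutative ↥A)
    (hti : ∀ h : X, A.map (MulAut.conj h).toMonoidHom = A ∨ A.map (MulAut.conj h).toMonoidHom ⊓ A = ⊥) :
    Subgroup.closure ((fun a : X => a ^ 2) '' (A : Set X)) ≤ Cfsg.pCore 2 X ∧
      (¬ Cfsg.IsElementaryAbelian 2 (Subgroup.closure ((fun a : X => a ^ 2) '' (A : Set X))) →
        IsMulCommutative ↥(Subgroup.normalClosure ((fun a : X => a ^ 2) '' (A : Set X)))) := by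
  have h2 : Fact (Nat.Prime 2) := ⟨Nat.prime_two⟩
  set Q := Cfsg.pCore 2 X with hQ
  have hQp : IsPGroup 2 Q := CfsgLib.Cores.isPGroup_pCore 2
  have hcomm : ∀ a b : X, a ∈ A → b ∈ A → a * b = b * a := fun a b ha hb =>
    congrArg Subtype.val (hAa.is_comm.comm (⟨a, ha⟩ : A) ⟨b, hb⟩)
  set s := (fun a : X => a ^ 2) '' (A : Set X) with hs
  set B := Subgroup.closure s with hB
  have hBA : B ≤ A := by
    rw [hB, Subgroup.closure_le]
    rintro _ ⟨a, ha, rfl⟩
    exact A.pow_mem ha 2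
  have hBQ : B ≤ Q := by
    rw [hB, Subgroup.closure_le]
    rintro _ ⟨a, ha, rfl⟩
    show a ^ 2 ∈ Q
    by_cases hel : ∀ b ∈ A, b ^ 2 = 1
    · rw [hel a ha]; exact Q.one_mem
    push Not at hel
    obtain ⟨b, hb, hb2⟩ := hel
    set N := (frattini Q).map Q.subtype with hN
    haveI : N.Normal := inferInstance
    set π := QuotientGroup.mk' N
    set K := (Subgroup.centralizer (Q.map π : Set (X ⧸ N))).comap π with hK
    haveI hKn : K.Normal := by
      haveI : (Q.map π).Normal := Subgroup.Normal.map inferInstance _ (QuotientGroup.mk'_surjective N)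
      exact Subgroup.Normal.comap inferInstance _
    have hmemK : ∀ x : X, x ∈ K → ∀ q ∈ Q, ⁅x, q⁆ ∈ N := fun x hx q hq => by
      rw [← QuotientGroup.ker_mk' N, MonoidHom.mem_ker, map_commutatorElement, commutatorElement_eq_one_iff_mul_comm]
      exact (Subgroup.mem_centralizer_iff.1 hx _ ⟨q, hq, rfl⟩).symm
    have hKQ : K ≤ Q := by
      refine CfsgLib.Cores.le_pCore (IsPGroup.iff_orderOf.2 fun x => ?_)
      refine ⟨_, Nat.eq_prime_pow_of_unique_prime_dvd (orderOf_pos x).ne' fun {r} hr hdvd => ?_⟩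
      by_contra hne
      set y := (x : X) ^ (orderOf x / r) with hy0
      have hy : orderOf y = r := by
        rw [hy0, ← Subgroup.orderOf_coe x] at *
        rw [orderOf_pow_of_dvd ?_ (Nat.div_dvd_of_dvd hdvd), Nat.div_div_self hdvd (orderOf_pos _).ne']
        exact (Nat.div_pos (Nat.le_of_dvd (orderOf_pos _) hdvd) hr.pos).ne'
      have hyK : y ∈ K := K.pow_mem x.2 _
      have hyc : y ∈ Subgroup.centralizer (Q : Set X) :=
        CfsgLib.PStab.mem_centralizer_of_frattini hQp (Subgroup.le_normalizer_of_normal (Subgroup.mem_top y))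
          (hy ▸ (Nat.coprime_primes hr Nat.prime_two).2 hne) fun q hq => hmemK y hyK q hq
      have hyQ : y ∈ Q := by
        rw [← hX] at hyc ⊢
        exact CfsgLib.Cores.centralizer_generalizedFittingSubgroup_le hyc
      obtain ⟨k, hk⟩ := IsPGroup.iff_orderOf.1 hQp ⟨y, hyQ⟩
      rw [Subgroup.orderOf_mk, hy] at hk
      exact hne ((Nat.prime_dvd_prime_iff_eq hr Nat.prime_two).1 (hr.dvd_of_dvd_pow (dvd_of_eq hk)))
    refine hKQ ?_
    show π (a ^ 2) ∈ Subgroup.centralizer _
    refine Subgroup.mem_centralizer_iff.2 ?_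
    rintro _ ⟨q, hq, rfl⟩
    -- the conjugates of `A` in the 2-group `A ⊔ Q` commute
    have hT : IsPGroup 2 ↥(A ⊔ Q) := hA2.to_sup_of_normal_right hQp
    have hAq : A.map (MulAut.conj q).toMonoidHom ≤ A ⊔ Q := by
      rintro _ ⟨w, hw, rfl⟩
      exact Subgroup.mul_mem _ (Subgroup.mul_mem _ (Subgroup.mem_sup_right hq) (Subgroup.mem_sup_left hw))
        (Subgroup.inv_mem _ (Subgroup.mem_sup_right hq))
    have hA1 : A.map (MulAut.conj (1 : X)).toMonoidHom = A := by ext; simp
    have hca : q * a * q⁻¹ * a = a * (q * a * q⁻¹) := by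
      refine conjugates_commute A hA2 hti ⟨b, hb, hb2⟩ hcomm (A ⊔ Q) hT q 1 hAq (hA1.le.trans le_sup_left)
        (q * a * q⁻¹) ⟨a, ha, rfl⟩ a ?_
      rw [hA1]; exact ha
    have hc : q * a * q⁻¹ * a⁻¹ ∈ Q := by
      rw [show q * a * q⁻¹ * a⁻¹ = q * (a * q⁻¹ * a⁻¹) by group]
      exact Q.mul_mem hq ((inferInstance : Q.Normal).conj_mem _ (Q.inv_mem hq) a)
    have hN2 : (q * a * q⁻¹ * a⁻¹) ^ 2 ∈ N :=
      ⟨(⟨_, hc⟩ : Q) ^ 2, CfsgLib.PGroup.pow_mem_frattini hQp _, rfl⟩
    rw [((show Commute (q * a * q⁻¹) a from hca).inv_right).mul_pow, conj_pow, inv_pow] at hN2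
    have hπ : π (q * a ^ 2 * q⁻¹ * (a ^ 2)⁻¹) = 1 := (QuotientGroup.eq_one_iff _).2 hN2
    rw [map_mul, map_mul, map_mul, map_inv, map_inv, mul_inv_eq_one, mul_inv_eq_iff_eq_mul] at hπ
    exact hπ
  refine ⟨hBQ, fun hne => ?_⟩
  obtain ⟨b, hb, hb2⟩ : ∃ b ∈ B, b ^ 2 ≠ 1 := by
    by_contra h
    push Not at h
    exact hne ⟨⟨⟨fun x y => Subtype.ext (hcomm x y (hBA x.2) (hBA y.2))⟩⟩, h⟩
  have hBti : ∀ h : X, B.map (MulAut.conj h).toMonoidHom = B ∨ B.map (MulAut.conj h).toMonoidHom ⊓ B = ⊥ := by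
    intro h
    rcases hti h with he | he
    · left
      have hsq : ∀ a : X, (MulAut.conj h).toMonoidHom (a ^ 2) = ((MulAut.conj h).toMonoidHom a) ^ 2 := fun a => map_pow _ a 2
      rw [hB, MonoidHom.map_closure]
      congr 1
      ext x
      constructor
      · rintro ⟨_, ⟨a, ha, rfl⟩, rfl⟩
        exact ⟨_, he.le ⟨a, ha, rfl⟩, (hsq a).symm⟩
      · rintro ⟨a, ha, rfl⟩
        obtain ⟨a', ha', rfl⟩ := he.ge ha
        exact ⟨a' ^ 2, ⟨a', ha', rfl⟩, hsq a'⟩
    · exact Or.inr (le_bot_iff.1 (he ▸ inf_le_inf (Subgroup.map_mono hBA) hBA))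
  have hQn : Q.Normal := inferInstance
  have key : ∀ g h : X, ∀ x ∈ B.map (MulAut.conj g).toMonoidHom, ∀ y ∈ B.map (MulAut.conj h).toMonoidHom, x * y = y * x := by
    intro g h
    have hle : ∀ g : X, B.map (MulAut.conj g).toMonoidHom ≤ Q := by
      rintro g _ ⟨x, hx, rfl⟩
      exact hQn.conj_mem x (hBQ hx) g
    exact conjugates_commute B (hA2.to_le hBA) hBti ⟨b, hb, hb2⟩ (fun x y hx hy => hcomm x y (hBA hx) (hBA hy))
      Q hQp g h (hle g) (hle h)
  have hgen : ∀ x ∈ Group.conjugatesOfSet s, ∃ g : X, x ∈ B.map (MulAut.conj g).toMonoidHom := by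
    intro x hx
    obtain ⟨y, hy, hc⟩ := Group.mem_conjugatesOfSet_iff.1 hx
    obtain ⟨g, hg⟩ := isConj_iff.1 hc
    exact ⟨g, y, Subgroup.subset_closure hy, hg⟩
  refine Subgroup.isMulCommutative_closure fun x hx y hy => ?_
  obtain ⟨g, hg⟩ := hgen x hx
  obtain ⟨h, hh⟩ := hgen y hy
  exact key g h x hg y hh

end Cfsg.Agent.S1783
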