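import Cfsg.Statements.S1784
import Cfsg.Agent.Lib.Cores.Components
import Cfsg.Agent.Lib.LargeExtra.Extraspecial
import Cfsg.Agent.Lib.Local.TwoGroupGraph

set_option autoImplicit false
open Cfsg

namespace Cfsg.Agent.S1784

open CfsgLib.LargeExtra

theorem zpow_mul_zpow_self {G : Type*} [Group G] (z : G) (hz : z * z = 1) (j : ℤ) : z ^ j * z ^ j = 1 := by
  rw [← (Commute.refl z).mul_zpow, hz, one_zpow]

/-- The commutators of an involutory automorphism of an extraspecial 2-group generate the centralizer of its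
fixed points modulo the centre. -/
theorem key {E : Type*} [Group E] [Finite E] (hE : IsExtraspecial 2 E) (φ : E ≃* E) (hφ : ∀ x, φ (φ x) = x)
    (hne : ∃ x, φ x ≠ x) (hcen : ∀ x ∈ Subgroup.center E, φ x = x) :
    Subgroup.center E ≤ Subgroup.closure (Set.range fun q : E => φ q * q⁻¹) ∧
      (∀ r : E, φ r * r⁻¹ ∈ Subgroup.center E ↔
        r ∈ Subgroup.centralizer (Subgroup.closure (Set.range fun q : E => φ q * q⁻¹) : Set E)) ∧
      Subgroup.closure (Set.range fun q : E => φ q * q⁻¹) ≤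
        Subgroup.centralizer (Subgroup.closure (Set.range fun q : E => φ q * q⁻¹) : Set E) := by
  set P := Subgroup.closure (Set.range fun q : E => φ q * q⁻¹) with hP
  have hmem : ∀ q : E, φ q * q⁻¹ ∈ P := fun q => Subgroup.subset_closure ⟨q, rfl⟩
  have hn : P.Normal := by
    refine ⟨fun x hx g => ?_⟩
    induction hx using Subgroup.closure_induction with
    | mem x hx =>
      obtain ⟨q, rfl⟩ := hx
      show g * (φ q * q⁻¹) * g⁻¹ ∈ P
      have : g * (φ q * q⁻¹) * g⁻¹ = (φ g * g⁻¹)⁻¹ * (φ (g * q) * (g * q)⁻¹) := by rw [map_mul]; group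
      rw [this]
      exact P.mul_mem (P.inv_mem (hmem g)) (hmem _)
    | one => simpa using P.one_mem
    | mul a b _ _ ha hb => simpa [mul_assoc] using P.mul_mem ha hb
    | inv a _ ha => simpa [mul_assoc] using P.inv_mem ha
  obtain ⟨z, hz, hz2, huniq⟩ := exists_centre_gen hE
  have hZP : Subgroup.center E ≤ P := by
    have hne' : P ≠ ⊥ := fun h => by
      obtain ⟨x, hx⟩ := hne
      exact hx (mul_inv_eq_one.1 (Subgroup.mem_bot.1 (h ▸ hmem x)))
    have h2 : Fact (Nat.Prime 2) := ⟨Nat.prime_two⟩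
    obtain ⟨e, heP, he1, hec⟩ := CfsgLib.Local.exists_central_mem hE.1.1 hne'
    intro c hc
    rcases huniq c hc with rfl | rfl
    · exact P.one_mem
    · rcases huniq e (Subgroup.mem_center_iff.2 hec) with h | h
      · exact absurd h he1
      · exact h ▸ heP
  -- basic identities
  have hc : ∀ a b : E, φ a * φ b * (φ a)⁻¹ * (φ b)⁻¹ = a * b * a⁻¹ * b⁻¹ := fun a b => by
    rw [← map_inv, ← map_inv, ← map_mul, ← map_mul, ← map_mul]; exact hcen _ (comm_mem_center hE a b)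
  have hsplit : ∀ d q r : E, (d * q) * r * (d * q)⁻¹ * r⁻¹ = (q * r * q⁻¹ * r⁻¹) * (d * r * d⁻¹ * r⁻¹) := by
    intro d q r
    have h1 := Subgroup.mem_center_iff.1 (comm_mem_center hE q r) d
    calc (d * q) * r * (d * q)⁻¹ * r⁻¹ = (d * (q * r * q⁻¹ * r⁻¹)) * r * d⁻¹ * r⁻¹ := by group
      _ = _ := by rw [h1]; group
  have hfwd : ∀ r : E, φ r * r⁻¹ ∈ Subgroup.center E → r ∈ Subgroup.centralizer (P : Set E) := by
    intro r hr
    rw [hP, Subgroup.centralizer_closure, Subgroup.mem_centralizer_iff]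
    rintro _ ⟨q, rfl⟩
    set w := φ r * r⁻¹ with hw
    set d := φ q * q⁻¹ with hd
    have h1 := hc q r
    rw [show φ q = d * q by rw [hd]; group, show φ r = w * r by rw [hw]; group] at h1
    have h2 : (d * q) * (w * r) * (d * q)⁻¹ * (w * r)⁻¹ = (d * q) * r * (d * q)⁻¹ * r⁻¹ := by
      calc (d * q) * (w * r) * (d * q)⁻¹ * (w * r)⁻¹
          = ((d * q) * w) * r * (d * q)⁻¹ * r⁻¹ * w⁻¹ := by group
        _ = w * ((d * q) * r * (d * q)⁻¹ * r⁻¹) * w⁻¹ := by rw [Subgroup.mem_center_iff.1 hr (d * q)]; group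
        _ = _ := by rw [← Subgroup.mem_center_iff.1 hr, mul_inv_cancel_right]
    rw [h2, hsplit, mul_eq_left, mul_inv_eq_one, mul_inv_eq_iff_eq_mul] at h1
    exact h1
  have hback : ∀ r : E, r ∈ Subgroup.centralizer (P : Set E) → φ r * r⁻¹ ∈ Subgroup.center E := by
    intro r hr
    set s := r⁻¹ * φ r with hs
    have hscen : s ∈ Subgroup.center E := by
      refine Subgroup.mem_center_iff.2 fun a => ?_
      obtain ⟨q, rfl⟩ := φ.surjective a
      set d := φ q * q⁻¹ with hd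
      have hq : φ q = d * q := by rw [hd]; group
      have h2 : φ q * r * (φ q)⁻¹ * r⁻¹ = φ q * φ r * (φ q)⁻¹ * (φ r)⁻¹ := by
        rw [hc, hq, hsplit, Subgroup.mem_centralizer_iff.1 hr d (hmem q)]
        group
      calc φ q * (r⁻¹ * φ r) = r⁻¹ * (φ q * r * (φ q)⁻¹ * r⁻¹)⁻¹ * φ q * φ r := by group
        _ = r⁻¹ * (φ q * φ r * (φ q)⁻¹ * (φ r)⁻¹)⁻¹ * φ q * φ r := by rw [h2]
        _ = r⁻¹ * φ r * φ q := by group
    have : φ r * r⁻¹ = s := by
      rw [show φ r * r⁻¹ = r * s * r⁻¹ by rw [hs]; group, Subgroup.mem_center_iff.1 hscen r, mul_inv_cancel_right]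
    rwa [this]
  refine ⟨hZP, fun r => ⟨hfwd r, hback r⟩, ?_⟩
  conv_lhs => rw [hP]
  rw [Subgroup.closure_le]
  rintro _ ⟨q, rfl⟩
  refine hfwd _ ?_
  rw [map_mul, hφ, map_inv, show q * (φ q)⁻¹ * (φ q * q⁻¹)⁻¹ = ((φ q * q⁻¹) * (φ q * q⁻¹))⁻¹ by group]
  exact Subgroup.inv_mem _ (sq_mem_center hE _)

theorem center_map_subtype {G : Type*} [Group G] (H : Subgroup G) :
    (Subgroup.center H).map H.subtype = H ⊓ Subgroup.centralizer (H : Set G) := by
  ext x
  constructor
  · rintro ⟨y, hy, rfl⟩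
    exact ⟨y.2, Subgroup.mem_centralizer_iff.2 fun a ha => congrArg Subtype.val (Subgroup.mem_center_iff.1 hy ⟨a, ha⟩)⟩
  · rintro ⟨h1, h2⟩
    exact ⟨⟨x, h1⟩, Subgroup.mem_center_iff.2 fun a => Subtype.ext (Subgroup.mem_centralizer_iff.1 h2 a a.2), rfl⟩

theorem main {G : Type*} [Group G] [Finite G] (z : G) (hz : orderOf z = 2) (C : Subgroup G)
    (hC : C = Subgroup.centralizer ({z} : Set G)) (Q : Subgroup C) (hQn : Q.Normal)
    (hQC : Subgroup.centralizer (Q : Set C) ≤ Q) (hE : IsExtraspecial 2 ↥Q)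
    (α : G) (hα : orderOf α = 2) (hαC : α ∈ C) (hαQ : α ∉ Q.map C.subtype)
    (Q₀ : Subgroup G) (hQ₀ : ∀ q : G, q ∈ Q₀ ↔ (q ∈ Q.map C.subtype ∧ α * q * α⁻¹ * q⁻¹ ∈ Subgroup.zpowers z)) :
    Subgroup.closure ((fun q : G => α * q * α⁻¹ * q⁻¹) '' (Q.map C.subtype : Set G)) = (Subgroup.center ↥Q₀).map Q₀.subtype ∧
      (¬ Q₀ ≤ (Q.map C.subtype ⊓ Subgroup.centralizer ({α} : Set G)) ⊔ Subgroup.zpowers z →
        ∃ q ∈ Q.map C.subtype, q * α * q⁻¹ = α * z) := by
  let φ : Q ≃* Q := (MulAut.conjNormal (⟨α, hαC⟩ : C) : MulAut Q)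
  let ι : Q →* G := C.subtype.comp Q.subtype
  have hιinj : Function.Injective ι := C.subtype_injective.comp Q.subtype_injective
  have hιrange : Q.map C.subtype = (⊤ : Subgroup Q).map ι := by
    rw [← Subgroup.map_map, ← MonoidHom.range_eq_map, Subgroup.range_subtype]
  have hφ : ∀ q : Q, ι (φ q) = α * ι q * α⁻¹ := fun q => rfl
  have hzC : z ∈ C := hC ▸ Subgroup.mem_centralizer_singleton_iff.2 rfl
  have hzc : ∀ c : C, (c : G) * z = z * c := fun c =>
    Subgroup.mem_centralizer_singleton_iff.1 (hC ▸ c.2 : (c : G) ∈ Subgroup.centralizer ({z} : Set G))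
  have hzQ : (⟨z, hzC⟩ : C) ∈ Q := hQC (Subgroup.mem_centralizer_iff.2 fun c _ => Subtype.ext (hzc c))
  have hzcen : (⟨_, hzQ⟩ : Q) ∈ Subgroup.center Q :=
    Subgroup.mem_center_iff.2 fun q => Subtype.ext (Subtype.ext (hzc q))
  have hZ : (Subgroup.center Q).map ι = Subgroup.zpowers z := by
    refine (Subgroup.eq_of_le_of_card_ge (Subgroup.zpowers_le.2 (Subgroup.mem_map.2 ⟨_, hzcen, (rfl : ι ⟨_, hzQ⟩ = z)⟩) : Subgroup.zpowers z ≤ _) ?_).symm
    rw [Subgroup.card_map_of_injective hιinj, hE.2, Nat.card_zpowers, hz]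
  have hz2 : z * z = 1 := by rw [← pow_two, ← hz]; exact pow_orderOf_eq_one z
  have hα2 : α * α = 1 := by rw [← pow_two, ← hα]; exact pow_orderOf_eq_one α
  have hφφ : ∀ q, φ (φ q) = q := fun q => hιinj (by
    rw [hφ, hφ]
    calc α * (α * ι q * α⁻¹) * α⁻¹ = (α * α) * ι q * (α * α)⁻¹ := by group
      _ = _ := by rw [hα2]; simp)
  have hne : ∃ q, φ q ≠ q := by
    by_contra h
    push Not at h
    refine hαQ ⟨⟨α, hαC⟩, hQC (Subgroup.mem_centralizer_iff.2 fun c hc => Subtype.ext ?_), rfl⟩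
    have h1 := congrArg ι (h ⟨c, hc⟩)
    rw [hφ, mul_inv_eq_iff_eq_mul] at h1
    exact h1.symm
  have hcen : ∀ x ∈ Subgroup.center Q, φ x = x := by
    intro x hx
    refine hιinj ?_
    have h1 : ι x ∈ Subgroup.zpowers z := hZ ▸ Subgroup.mem_map_of_mem ι hx
    obtain ⟨i, hi⟩ := Subgroup.mem_zpowers_iff.1 h1
    rw [hφ, ← hi, mul_inv_eq_iff_eq_mul]
    exact (Commute.zpow_right (hzc ⟨α, hαC⟩ : Commute α z) i).eq
  obtain ⟨hZP, hiff, hPR⟩ := key hE φ hφφ hne hcen
  set P := Subgroup.closure (Set.range fun q : Q => φ q * q⁻¹) with hP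
  have hQ₀' : Q₀ = (Subgroup.centralizer (P : Set Q)).map ι := by
    ext q
    rw [hQ₀, hιrange]
    constructor
    · rintro ⟨⟨r, -, rfl⟩, hr⟩
      refine ⟨r, (hiff r).1 ?_, rfl⟩
      rw [← hφ, ← map_inv, ← map_mul, ← hZ] at hr
      exact (Subgroup.mem_map_iff_mem hιinj).1 hr
    · rintro ⟨r, hr, rfl⟩
      refine ⟨⟨r, Subgroup.mem_top r, rfl⟩, ?_⟩
      rw [← hφ, ← map_inv, ← map_mul, ← hZ]
      exact Subgroup.mem_map_of_mem ι ((hiff r).2 hr)
  constructor
  · have hcl : Subgroup.closure ((fun q : G => α * q * α⁻¹ * q⁻¹) '' (Q.map C.subtype : Set G)) = P.map ι := by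
      rw [hP, MonoidHom.map_closure, ← Set.range_comp, hιrange, Subgroup.coe_map, Set.image_image,
        Subgroup.coe_top, Set.image_univ]
      congr 1
    rw [hcl, center_map_subtype, hQ₀']
    have hcc := centralizer_centralizer hE P hZP
    ext x
    constructor
    · rintro ⟨u, hu, rfl⟩
      refine ⟨⟨u, hPR hu, rfl⟩, Subgroup.mem_centralizer_iff.2 ?_⟩
      rintro _ ⟨r, hr, rfl⟩
      rw [← map_mul, ← map_mul, (Subgroup.mem_centralizer_iff.1 hr u hu).symm]
    · rintro ⟨⟨u, hu, rfl⟩, hu2⟩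
      refine ⟨u, ?_, rfl⟩
      rw [← hcc]
      refine Subgroup.mem_centralizer_iff.2 fun r hr => hιinj ?_
      rw [map_mul, map_mul]
      exact Subgroup.mem_centralizer_iff.1 hu2 _ ⟨r, hr, rfl⟩
  · intro hnot
    obtain ⟨r, hr, hrn⟩ := SetLike.not_le_iff_exists.1 hnot
    obtain ⟨hrQ, hrz⟩ := (hQ₀ r).1 hr
    obtain ⟨i, hi⟩ := Subgroup.mem_zpowers_iff.1 hrz
    refine ⟨r⁻¹, Subgroup.inv_mem _ hrQ, ?_⟩
    rcases Int.even_or_odd i with ⟨j, rfl⟩ | ⟨j, rfl⟩
    · refine absurd (Subgroup.mem_sup_left (Subgroup.mem_inf.2 ⟨hrQ, Subgroup.mem_centralizer_singleton_iff.2 ?_⟩)) hrn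
      rw [zpow_add, zpow_mul_zpow_self z hz2 j] at hi
      have h1 : α * r * α⁻¹ = r := mul_inv_eq_one.1 hi.symm
      exact (mul_inv_eq_iff_eq_mul.1 h1).symm
    · rw [zpow_add, zpow_one, two_mul, zpow_add, zpow_mul_zpow_self z hz2 j, one_mul] at hi
      have hzα : α * z = z * α := hzc ⟨α, hαC⟩
      rw [inv_inv, hzα]
      have h1 : α * r = z * r * α := by rw [hi]; group
      calc r⁻¹ * α * r = r⁻¹ * (α * r) := by group
        _ = r⁻¹ * (z * r) * α := by rw [h1]; group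
        _ = r⁻¹ * (r * z) * α := by
          obtain ⟨r', hr', rfl⟩ := hrQ
          rw [show z * (C.subtype r') = C.subtype r' * z from (hzc r').symm]
        _ = z * α := by group

/-- Let G be a finite group and let z be an involution of G such that Q, the generalized Fitting subgroup of the centralizer C of z, is a 2-group of symplectic type (every characteristic abelian subgroup of Q is cyclic); suppose Q is extraspecial, and view Q inside G. Let α be an involution of C that is not in Q, and let Q₀ be the subgroup of those q ∈ Q whose commutator with α lies in the subgroup generated by z. Then (a) the subgroup generated by the commutators α q α⁻¹ q⁻¹, q ∈ Q, equals the centre of Q₀; and (b) if Q₀ is not contained in the product of the centralizer of α in Q with the subgroup generated by z, then some element of Q conjugates α to α z. -/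
theorem result {G : Type*} [Group G] [Finite G] (z : G) (hz : orderOf z = 2) (hQ : Cfsg.IsOfSymplecticType ↥(Cfsg.generalizedFittingSubgroup ↥(Subgroup.centralizer ({z} : Set G)))) (hE : Cfsg.IsExtraspecial 2 ↥(Cfsg.generalizedFittingSubgroup ↥(Subgroup.centralizer ({z} : Set G))))
    (α : G) (hα : orderOf α = 2) (hαC : α ∈ Subgroup.centralizer ({z} : Set G)) (hαQ : α ∉ (Cfsg.generalizedFittingSubgroup ↥(Subgroup.centralizer ({z} : Set G))).map (Subgroup.centralizer ({z} : Set G)).subtype)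
    (Q₀ : Subgroup G) (hQ₀ : ∀ q : G, q ∈ Q₀ ↔ (q ∈ (Cfsg.generalizedFittingSubgroup ↥(Subgroup.centralizer ({z} : Set G))).map (Subgroup.centralizer ({z} : Set G)).subtype ∧ α * q * α⁻¹ * q⁻¹ ∈ Subgroup.zpowers z)) :
    Subgroup.closure ((fun q : G => α * q * α⁻¹ * q⁻¹) '' ((Cfsg.generalizedFittingSubgroup ↥(Subgroup.centralizer ({z} : Set G))).map (Subgroup.centralizer ({z} : Set G)).subtype : Set G)) = (Subgroup.center ↥Q₀).map Q₀.subtype ∧
      (¬ Q₀ ≤ ((Cfsg.generalizedFittingSubgroup ↥(Subgroup.centralizer ({z} : Set G))).map (Subgroup.centralizer ({z} : Set G)).subtype ⊓ Subgroup.centralizer ({α} : Set G)) ⊔ Subgroup.zpowers z →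
        ∃ q ∈ (Cfsg.generalizedFittingSubgroup ↥(Subgroup.centralizer ({z} : Set G))).map (Subgroup.centralizer ({z} : Set G)).subtype, q * α * q⁻¹ = α * z) := by
  set C := Subgroup.centralizer ({z} : Set G) with hC
  set Q := Cfsg.generalizedFittingSubgroup ↥C with hQdef
  have hQn : Q.Normal := CfsgLib.Cores.generalizedFittingSubgroup_normal
  exact main z hz C (hC : C = _) Q hQn CfsgLib.Cores.centralizer_generalizedFittingSubgroup_le hE α hα hαC hαQ Q₀ hQ₀

end Cfsg.Agent.S1784
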