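import Cfsg.Statements.S1785
import Cfsg.Agent.Lib.Local.TwoGroupGraph

set_option autoImplicit false
open Cfsg

namespace Cfsg.Agent.S1785

open CfsgLib.Local CfsgLib.PGroup

variable {X : Type*} [Group X] [Finite X]

theorem card_single (E : Subgroup X) [E.Normal] (hE : Cfsg.IsElementaryAbelian 2 E) (hE32 : 32 ≤ Nat.card ↥E)
    {a : X} (ha : a ^ 2 = 1) : 8 ≤ Nat.card ↥(E ⊓ Subgroup.centralizer ({a} : Set X)) := by
  have h := card_le_sq_inf_centralizer hE (a := a) (by rw [← pow_two, ha]; exact Subgroup.one_mem _)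
    fun e he => (inferInstance : E.Normal).conj_mem e he a
  have h2 : IsPGroup 2 ↥(E ⊓ Subgroup.centralizer ({a} : Set X)) := (elemAb_isPGroup hE).to_le inf_le_left
  obtain ⟨n, hn⟩ := IsPGroup.iff_card.1 h2
  rw [hn] at h ⊢
  have : 5 ≤ n * 2 := (Nat.pow_le_pow_iff_right one_lt_two).1 (by rw [pow_mul]; omega)
  calc 8 = 2 ^ 3 := by norm_num
    _ ≤ 2 ^ n := Nat.pow_le_pow_right two_pos (by omega)

theorem card_pair (E : Subgroup X) [E.Normal] (hE : Cfsg.IsElementaryAbelian 2 E) (hE32 : 32 ≤ Nat.card ↥E)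
    {a b : X} (ha : a ^ 2 = 1) (hb : b ^ 2 = 1) (hab : Commute a b) :
    4 ≤ Nat.card ↥(E ⊓ Subgroup.centralizer ({a, b} : Set X)) := by
  have hE' : Cfsg.IsElementaryAbelian 2 (E ⊓ Subgroup.centralizer ({a} : Set X)) := elemAb_mono hE inf_le_left
  have h := card_le_sq_inf_centralizer hE' (a := b) (by rw [← pow_two, hb]; exact Subgroup.one_mem _) ?_
  swap
  · intro e he
    refine ⟨(inferInstance : E.Normal).conj_mem e he.1 b, ?_⟩
    have hbm : b ∈ Subgroup.centralizer ({a} : Set X) := Subgroup.mem_centralizer_singleton_iff.2 hab.eq.symm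
    exact Subgroup.mul_mem _ (Subgroup.mul_mem _ hbm he.2) (Subgroup.inv_mem _ hbm)
  have heq : E ⊓ Subgroup.centralizer ({a} : Set X) ⊓ Subgroup.centralizer ({b} : Set X) =
      E ⊓ Subgroup.centralizer ({a, b} : Set X) := by
    ext x
    simp [Subgroup.mem_inf, Subgroup.mem_centralizer_iff, and_assoc]
  rw [heq] at h
  have h8 := card_single E hE hE32 ha
  obtain ⟨n, hn⟩ := IsPGroup.iff_card.1 ((elemAb_isPGroup hE).to_le
    (inf_le_left : E ⊓ Subgroup.centralizer ({a, b} : Set X) ≤ E))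
  rw [hn] at h ⊢
  have : 3 ≤ n * 2 := (Nat.pow_le_pow_iff_right one_lt_two).1 (by rw [pow_mul]; omega)
  calc 4 = 2 ^ 2 := by norm_num
    _ ≤ 2 ^ n := Nat.pow_le_pow_right two_pos (by omega)

/-- The relation of the commuting graph. -/
def Adj (C D : Subgroup X) : Prop :=
  Cfsg.IsElementaryAbelian 2 C ∧ Nat.card ↥C = 8 ∧ Cfsg.IsElementaryAbelian 2 D ∧ Nat.card ↥D = 8 ∧ ⁅C, D⁆ = ⊥

theorem adj_symm {C D : Subgroup X} (h : Adj C D) : Adj D C :=
  ⟨h.2.2.1, h.2.2.2.1, h.1, h.2.1, by rw [Subgroup.commutator_comm]; exact h.2.2.2.2⟩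

theorem adj_reverse {C D : Subgroup X} (h : Relation.ReflTransGen Adj C D) : Relation.ReflTransGen Adj D C := by
  induction h with
  | refl => exact Relation.ReflTransGen.refl
  | tail _ h ih => exact Relation.ReflTransGen.head (adj_symm h) ih

theorem commutator_of_le {D A B : Subgroup X} (hD : Cfsg.IsElementaryAbelian 2 D) (hA : A ≤ D) (hB : B ≤ D) :
    ⁅A, B⁆ = ⊥ :=
  Subgroup.commutator_eq_bot_iff_le_centralizer.2 fun _ ha =>
    Subgroup.mem_centralizer_iff.2 fun _ hb => elemAb_comm hD (hB hb) (hA ha)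

theorem step (E : Subgroup X) (hE : Cfsg.IsElementaryAbelian 2 E) {A C : Subgroup X}
    (hA : Cfsg.IsElementaryAbelian 2 A) (hA8 : Nat.card A = 8) (hCE : C ≤ E) {m : ℕ} (hm : m ≤ 8)
    (hC : m ≤ Nat.card C) (hAC : ∀ a ∈ A, ∀ c ∈ C, a * c = c * a) :
    ∃ F, Adj A F ∧ m ≤ Nat.card ↥(F ⊓ E) := by
  have hD := elemAb_sup hA (elemAb_mono hE hCE) hAC
  rcases le_or_gt (Nat.card C) 8 with h8 | h8
  · obtain ⟨F, hCF, hFD, hF, hFe⟩ := exists_between_card hD (le_sup_right : C ≤ A ⊔ C) (m := 3) (by simpa using h8)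
      (le_of_eq_of_le (by rw [hA8]; norm_num) (Subgroup.card_le_of_le (le_sup_left : A ≤ A ⊔ C)))
    exact ⟨F, ⟨hA, hA8, hFe, by rw [hF]; norm_num, commutator_of_le hD le_sup_left hFD⟩,
      hC.trans (Subgroup.card_le_of_le (le_inf hCF hCE))⟩
  · obtain ⟨F, -, hFC, hF, hFe⟩ := exists_between_card (elemAb_mono hE hCE) (bot_le : (⊥ : Subgroup X) ≤ C) (m := 3)
      (by simp) (by norm_num; omega)
    refine ⟨F, ⟨hA, hA8, hFe, by rw [hF]; norm_num, commutator_of_le hD le_sup_left (hFC.trans le_sup_right)⟩, ?_⟩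
    rw [inf_eq_left.2 (hFC.trans hCE), hF]
    norm_num; omega

theorem cover (hX : IsPGroup 2 X) (E : Subgroup X) [E.Normal] (hE : Cfsg.IsElementaryAbelian 2 E)
    (hE32 : 32 ≤ Nat.card ↥E) (V : Subgroup X) (hV : Cfsg.IsElementaryAbelian 2 V) (hV4 : Nat.card ↥V = 4) :
    ∃ A : Subgroup X, V ≤ A ∧ Cfsg.IsElementaryAbelian 2 A ∧ Nat.card ↥A = 8 := by
  set C := E ⊓ Subgroup.centralizer (V : Set X)
  have hD := elemAb_sup hV (elemAb_mono hE (inf_le_left : C ≤ E))
    fun v hv c hc => Subgroup.mem_centralizer_iff.1 hc.2 v hv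
  suffices h : 8 ≤ Nat.card ↥(V ⊔ C) by
    obtain ⟨A, hVA, -, hA, hAe⟩ := exists_between_card hD (le_sup_left : V ≤ V ⊔ C) (m := 3)
      (by rw [hV4]; norm_num) (by norm_num; omega)
    exact ⟨A, hVA, hAe, by rw [hA]; norm_num⟩
  by_contra hlt
  obtain ⟨n, hn⟩ := IsPGroup.iff_card.1 (hX.to_subgroup (V ⊔ C))
  have h4 : 4 ≤ Nat.card ↥(V ⊔ C) := hV4 ▸ Subgroup.card_le_of_le le_sup_left
  have hcard : Nat.card ↥(V ⊔ C) = 4 := by
    rw [hn] at h4 hlt ⊢
    have h2 : n < 3 := by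
      by_contra h; exact hlt (le_trans (by norm_num) (Nat.pow_le_pow_right two_pos (not_lt.1 h)))
    interval_cases n <;> simp_all
  have hCV : C ≤ V := by
    rw [Subgroup.eq_of_le_of_card_ge (le_sup_left : V ≤ V ⊔ C) (by rw [hcard, hV4])]
    exact le_sup_right
  obtain ⟨a, b, hab⟩ : ∃ a b : V, ∀ v : V, v = 1 ∨ v = a ∨ v = b ∨ v = a * b := by
    have : Nontrivial V := Finite.one_lt_card_iff_nontrivial.1 (by omega)
    obtain ⟨a, ha⟩ := exists_ne (1 : V)
    obtain ⟨b, hb⟩ : ∃ b : V, b ∉ Subgroup.zpowers a := by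
      by_contra h
      push Not at h
      have h1 : Nat.card V ≤ 2 := by
        rw [← Subgroup.card_top (G := V), ← (Subgroup.eq_top_iff' _).2 h, Nat.card_zpowers]
        exact orderOf_le_of_pow_eq_one two_pos (Subtype.ext (hV.2 a a.2))
      omega
    refine ⟨a, b, ?_⟩
    have hfin := Fintype.ofFinite V
    classical
    have hs : ({1, a, b, a * b} : Finset V) = Finset.univ := by
      refine Finset.eq_univ_of_card _ ?_
      have hb1 : b ≠ 1 := fun h => hb (h ▸ Subgroup.one_mem _)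
      have hba : b ≠ a := fun h => hb (h ▸ Subgroup.mem_zpowers a)
      have hab1 : a * b ≠ 1 := fun h => hb (by
        rw [show b = a⁻¹ from eq_inv_of_mul_eq_one_right h]; exact Subgroup.inv_mem _ (Subgroup.mem_zpowers a))
      rw [Finset.card_insert_of_notMem (by simp [Ne.symm ha, Ne.symm hb1, Ne.symm hab1]),
        Finset.card_insert_of_notMem (by simp [Ne.symm hba, hb1]),
        Finset.card_insert_of_notMem (by simp [ha]), Finset.card_singleton,
        ← Nat.card_eq_fintype_card, hV4]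
    intro v
    have := hs.symm ▸ Finset.mem_univ v
    simpa using this
  have hgen : Subgroup.centralizer ({(a : X), (b : X)} : Set X) ≤ Subgroup.centralizer (V : Set X) := by
    intro x hx
    have h1 : Commute (a : X) x := Subgroup.mem_centralizer_iff.1 hx a (Set.mem_insert _ _)
    have h2 : Commute (b : X) x := Subgroup.mem_centralizer_iff.1 hx b (Set.mem_insert_of_mem _ rfl)
    refine Subgroup.mem_centralizer_iff.2 fun v hv => ?_
    rcases hab ⟨v, hv⟩ with h | h | h | h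
    · simp [show v = 1 from congrArg Subtype.val h]
    · rw [show v = a from congrArg Subtype.val h]; exact h1.eq
    · rw [show v = b from congrArg Subtype.val h]; exact h2.eq
    · rw [show v = (a : X) * b from congrArg Subtype.val h]; exact (h1.mul_left h2).eq
  have hC4 : 4 ≤ Nat.card C := (card_pair E hE hE32 (hV.2 a a.2) (hV.2 b b.2)
    (elemAb_comm hV a.2 b.2)).trans (Subgroup.card_le_of_le (inf_le_inf_left E hgen))
  have hCeq : C = V := Subgroup.eq_of_le_of_card_ge hCV (by omega)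
  have hVE : V ≤ E := hCeq ▸ inf_le_left
  have : E ≤ C := le_inf le_rfl fun e he => Subgroup.mem_centralizer_iff.2 fun v hv => elemAb_comm hE (hVE hv) he
  have := Subgroup.card_le_of_le this
  rw [hCeq, hV4] at this
  omega

theorem chain (hX : IsPGroup 2 X) (E : Subgroup X) [E.Normal] (hE : Cfsg.IsElementaryAbelian 2 E)
    (hE32 : 32 ≤ Nat.card ↥E) (A B : Subgroup X) (hA : Cfsg.IsElementaryAbelian 2 A) (hA8 : Nat.card ↥A = 8)
    (hB : Cfsg.IsElementaryAbelian 2 B) (hB8 : Nat.card ↥B = 8) : Relation.ReflTransGen Adj A B := by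
  have reach : ∀ A : Subgroup X, Cfsg.IsElementaryAbelian 2 A → Nat.card A = 8 →
      ∃ F ≤ E, Cfsg.IsElementaryAbelian 2 F ∧ Nat.card F = 8 ∧ Relation.ReflTransGen Adj A F := by
    -- from two to four to eight elements in `E`
    have s4 : ∀ A : Subgroup X, Cfsg.IsElementaryAbelian 2 A → Nat.card A = 8 → 4 ≤ Nat.card ↥(A ⊓ E) →
        ∃ F, Adj A F ∧ 8 ≤ Nat.card ↥(F ⊓ E) := by
      intro A hA hA8 h4
      have hle : ∃ a ∈ A, A ≤ (A ⊓ E) ⊔ Subgroup.zpowers a := by
        by_cases h : A ≤ E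
        · exact ⟨1, A.one_mem, (le_inf le_rfl h).trans le_sup_left⟩
        obtain ⟨a, ha, haE⟩ := SetLike.not_le_iff_exists.1 h
        refine ⟨a, ha, (Subgroup.eq_of_le_of_card_ge (sup_le inf_le_left (Subgroup.zpowers_le.2 ha)) ?_).ge⟩
        obtain ⟨n, hn⟩ := IsPGroup.iff_card.1 ((elemAb_isPGroup hA).to_le
          (sup_le inf_le_left (Subgroup.zpowers_le.2 ha) : (A ⊓ E) ⊔ Subgroup.zpowers a ≤ A))
        have hlt : A ⊓ E < (A ⊓ E) ⊔ Subgroup.zpowers a := lt_of_le_of_ne le_sup_left fun h => haE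
          (h.symm ▸ (Subgroup.mem_sup_right (Subgroup.mem_zpowers a) : a ∈ (A ⊓ E) ⊔ _) : a ∈ A ⊓ E).2
        have h2 : Nat.card ↥(A ⊓ E) < 2 ^ n := hn ▸ lt_of_le_of_ne (Subgroup.card_le_of_le hlt.le)
          fun h => hlt.ne (Subgroup.eq_of_le_of_card_ge hlt.le h.ge)
        rw [hn, hA8]
        calc 8 = 2 ^ 3 := by norm_num
          _ ≤ 2 ^ n := Nat.pow_le_pow_right two_pos (by
            by_contra h3
            have := Nat.pow_le_pow_right two_pos (show n ≤ 2 by omega)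
            omega)
      obtain ⟨a, ha, hle⟩ := hle
      refine step E hE hA hA8 (C := E ⊓ Subgroup.centralizer ({a} : Set X)) inf_le_left le_rfl
        (card_single E hE hE32 (hA.2 a ha)) fun y hy c hc => ?_
      have : y ∈ Subgroup.centralizer ({c} : Set X) := (hle.trans (sup_le
        (fun e he => Subgroup.mem_centralizer_singleton_iff.2 (elemAb_comm hE he.2 hc.1))
        (Subgroup.zpowers_le.2 (Subgroup.mem_centralizer_singleton_iff.2
          (Subgroup.mem_centralizer_iff.1 hc.2 a rfl))))) hy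
      exact Subgroup.mem_centralizer_singleton_iff.1 this
    have s2 : ∀ A : Subgroup X, Cfsg.IsElementaryAbelian 2 A → Nat.card A = 8 → 2 ≤ Nat.card ↥(A ⊓ E) →
        ∃ F, Adj A F ∧ 4 ≤ Nat.card ↥(F ⊓ E) := by
      intro A hA hA8 h2
      by_cases h4 : 4 ≤ Nat.card ↥(A ⊓ E)
      · exact ⟨A, ⟨hA, hA8, hA, hA8, commutator_of_le hA le_rfl le_rfl⟩, h4⟩
      obtain ⟨B1, hB1, hB1A, hB1c, -⟩ := exists_between_card hA (inf_le_left : A ⊓ E ≤ A) (m := 2)
        (by rw [show (2:ℕ) ^ 2 = 4 from rfl]; omega) (by rw [show (2:ℕ) ^ 2 = 4 from rfl]; omega)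
      obtain ⟨v, hv, hvn⟩ : ∃ v ∈ B1, v ∉ A ⊓ E := SetLike.not_le_iff_exists.1 fun h => h4
        (le_trans (by rw [hB1c]; norm_num) (Subgroup.card_le_of_le h))
      obtain ⟨w, hw, hwn⟩ : ∃ w ∈ A, w ∉ B1 := SetLike.not_le_iff_exists.1 fun h => by
        have := Subgroup.card_le_of_le h; norm_num [hB1c, hA8] at this
      have grow : ∀ (S : Subgroup X) (k : ℕ) (x : X), S ≤ A → x ∈ A → x ∉ S → 2 ^ k ≤ Nat.card S →
          2 ^ (k + 1) ≤ Nat.card ↥(S ⊔ Subgroup.zpowers x) := by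
        intro S k x hS hx hxS hk
        have hle' : S ⊔ Subgroup.zpowers x ≤ A := sup_le hS (Subgroup.zpowers_le.2 hx)
        obtain ⟨n, hn⟩ := IsPGroup.iff_card.1 ((elemAb_isPGroup hA).to_le hle')
        have hlt : S < S ⊔ Subgroup.zpowers x := lt_of_le_of_ne le_sup_left fun h => hxS
          (h ▸ Subgroup.mem_sup_right (Subgroup.mem_zpowers x))
        have h2 : Nat.card S < 2 ^ n := hn ▸ lt_of_le_of_ne (Subgroup.card_le_of_le hlt.le)
          fun h => hlt.ne (Subgroup.eq_of_le_of_card_ge hlt.le h.ge)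
        rw [hn]
        exact Nat.pow_le_pow_right two_pos ((Nat.pow_lt_pow_iff_right one_lt_two).1 (lt_of_le_of_lt hk h2))
      have hB1eq : (A ⊓ E) ⊔ Subgroup.zpowers v = B1 := by
        refine Subgroup.eq_of_le_of_card_ge (sup_le hB1 (Subgroup.zpowers_le.2 hv)) ?_
        rw [hB1c]; exact grow _ 1 v inf_le_left (hB1A hv) hvn (by simpa using h2)
      have hAeq : B1 ⊔ Subgroup.zpowers w = A := by
        refine Subgroup.eq_of_le_of_card_ge (sup_le hB1A (Subgroup.zpowers_le.2 hw)) ?_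
        rw [hA8]; exact le_of_eq_of_le (by norm_num) (grow _ 2 w hB1A hw hwn hB1c.ge)
      refine step E hE hA hA8 (C := E ⊓ Subgroup.centralizer ({v, w} : Set X)) inf_le_left (by norm_num)
        (card_pair E hE hE32 (hA.2 v (hB1A hv)) (hA.2 w hw) (elemAb_comm hA (hB1A hv) hw)) fun y hy c hc => ?_
      have hle : A ≤ Subgroup.centralizer ({c} : Set X) := by
        rw [← hAeq, ← hB1eq]
        refine sup_le (sup_le (fun e he => Subgroup.mem_centralizer_singleton_iff.2 (elemAb_comm hE he.2 hc.1)) ?_) ?_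
        · exact Subgroup.zpowers_le.2 (Subgroup.mem_centralizer_singleton_iff.2
            (Subgroup.mem_centralizer_iff.1 hc.2 v (Set.mem_insert _ _)))
        · exact Subgroup.zpowers_le.2 (Subgroup.mem_centralizer_singleton_iff.2
            (Subgroup.mem_centralizer_iff.1 hc.2 w (Set.mem_insert_of_mem _ rfl)))
      exact Subgroup.mem_centralizer_singleton_iff.1 (hle hy)
    intro A hA hA8
    have hne : E ≠ ⊥ := fun h => by rw [h, Subgroup.card_bot] at hE32; omega
    obtain ⟨e, heE, he1, hec⟩ := exists_central_mem hX hne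
    obtain ⟨F1, hF1, h1⟩ := step E hE hA hA8 (C := Subgroup.zpowers e) (Subgroup.zpowers_le.2 heE) (m := 2)
      (by norm_num) (by
        rw [Nat.card_zpowers]
        rcases Nat.lt_or_ge (orderOf e) 2 with h | h
        · exact absurd (orderOf_eq_one_iff.1 (by have := orderOf_pos e; omega)) he1
        · exact h)
      fun a _ c hc => by
        obtain ⟨i, rfl⟩ := Subgroup.mem_zpowers_iff.1 hc
        exact (Commute.zpow_right (hec a) i).eq
    obtain ⟨F2, hF2, h2⟩ := s2 F1 hF1.2.2.1 hF1.2.2.2.1 h1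
    obtain ⟨F3, hF3, h3⟩ := s4 F2 hF2.2.2.1 hF2.2.2.2.1 h2
    refine ⟨F3, ?_, hF3.2.2.1, hF3.2.2.2.1,
      ((Relation.ReflTransGen.single hF1).tail hF2).tail hF3⟩
    exact inf_eq_left.1 (Subgroup.eq_of_le_of_card_ge inf_le_left (by rw [hF3.2.2.2.1]; exact h3))
  obtain ⟨F, hF, hFe, hF8, hAF⟩ := reach A hA hA8
  obtain ⟨F', hF', hFe', hF8', hBF⟩ := reach B hB hB8
  exact (hAF.tail ⟨hFe, hF8, hFe', hF8', commutator_of_le hE hF hF'⟩).trans (adj_reverse hBF)


/-- Let X be a finite 2-group having a normal elementary abelian subgroup of order at least 32. Then (a) for any two elementary abelian subgroups A, B of X of order 8 there is a chain A = A₁, A₂, …, Aₙ = B of elementary abelian subgroups of order 8 in which consecutive members commute elementwise; and (b) every elementary abelian subgroup of X of order 4 is contained in an elementary abelian subgroup of order 8. -/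
theorem result {X : Type*} [Group X] [Finite X]
    (hX : IsPGroup 2 X) (E : Subgroup X) [E.Normal] (hE : Cfsg.IsElementaryAbelian 2 E) (hE32 : 32 ≤ Nat.card ↥E) :
    (∀ A B : Subgroup X, Cfsg.IsElementaryAbelian 2 A → Nat.card ↥A = 8 → Cfsg.IsElementaryAbelian 2 B → Nat.card ↥B = 8 →
        Relation.ReflTransGen
          (fun C D : Subgroup X => Cfsg.IsElementaryAbelian 2 C ∧ Nat.card ↥C = 8 ∧ Cfsg.IsElementaryAbelian 2 D ∧ Nat.card ↥D = 8 ∧ ⁅C, D⁆ = ⊥)
          A B) ∧
      (∀ V : Subgroup X, Cfsg.IsElementaryAbelian 2 V → Nat.card ↥V = 4 →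
        ∃ A : Subgroup X, V ≤ A ∧ Cfsg.IsElementaryAbelian 2 A ∧ Nat.card ↥A = 8) := by
  exact ⟨chain hX E hE hE32, cover hX E hE hE32⟩

end Cfsg.Agent.S1785
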