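import Cfsg.Statements.S1786
import Cfsg.Agent.Lib.TISub.Line
import Cfsg.Agent.Lib.Transfer.Critical
import Cfsg.Agent.Lib.Cores.Components

set_option autoImplicit false
set_option maxHeartbeats 800000
open Cfsg
open scoped commutatorElement

namespace Cfsg.Agent.S1786

/-- Let G be a finite group, V an elementary abelian 2-subgroup of G and M the normalizer of V; write Q for the largest normal 2-subgroup of M. Suppose (1) the generalized Fitting subgroup of M equals Q; (2) V is a maximal abelian normal subgroup of M; (3) every conjugate of V equals V or meets V trivially, and for some g ∈ G the conjugate V' = g V g⁻¹ is different from V and contained in Q. Let P be the centralizer of V in Q, W the subgroup generated by V and V', and H the subgroup generated by P and g P g⁻¹. Then: (a) V is contained in g Q g⁻¹; (b) every non-identity element of W lies in exactly one conjugate of V contained in W, H normalizes W, and H modulo the centralizer of W in H is isomorphic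 to the special linear group of dimension 2 over the field with |V| elements; (c) P = Q, and V equals the Frattini subgroup, the centre and the commutator subgroup of Q. -/
theorem result {G : Type*} [Group G] [Finite G] (V : Subgroup G)
    (hV : Cfsg.IsElementaryAbelian 2 V)
    (h1 : (Cfsg.generalizedFittingSubgroup ↥(Subgroup.normalizer (V : Set G))).map (Subgroup.normalizer (V : Set G)).subtype =
      (Cfsg.pCore 2 ↥(Subgroup.normalizer (V : Set G))).map (Subgroup.normalizer (V : Set G)).subtype)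
    (h2 : ∀ A : Subgroup G, V ≤ A → A ≤ Subgroup.normalizer (V : Set G) → IsMulCommutative ↥A →
      (∀ m ∈ Subgroup.normalizer (V : Set G), ∀ a ∈ A, m * a * m⁻¹ ∈ A) → A = V)
    (hti : ∀ x : G, V.map (MulAut.conj x).toMonoidHom = V ∨ V.map (MulAut.conj x).toMonoidHom ⊓ V = ⊥)
    (g : G) (hg : V.map (MulAut.conj g).toMonoidHom ≠ V)
    (hgQ : V.map (MulAut.conj g).toMonoidHom ≤ (Cfsg.pCore 2 ↥(Subgroup.normalizer (V : Set G))).map (Subgroup.normalizer (V : Set G)).subtype) :
    let Q : Subgroup G := (Cfsg.pCore 2 ↥(Subgroup.normalizer (V : Set G))).map (Subgroup.normalizer (V : Set G)).subtype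
    let P : Subgroup G := Q ⊓ Subgroup.centralizer (V : Set G)
    let W : Subgroup G := V ⊔ V.map (MulAut.conj g).toMonoidHom
    let H : Subgroup G := P ⊔ P.map (MulAut.conj g).toMonoidHom
    V ≤ Q.map (MulAut.conj g).toMonoidHom ∧
      (∀ w ∈ W, w ≠ 1 → ∃! U : Subgroup G, (∃ x : G, U = V.map (MulAut.conj x).toMonoidHom) ∧ U ≤ W ∧ w ∈ U) ∧
      H ≤ Subgroup.normalizer (W : Set G) ∧
      (∀ hN : ((Subgroup.centralizer (W : Set G)).subgroupOf H).Normal, ∃ (F : Type) (_ : Field F) (_ : Fintype F), Fintype.card F = Nat.card ↥V ∧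
        Nonempty (↥H ⧸ (Subgroup.centralizer (W : Set G)).subgroupOf H ≃* Matrix.SpecialLinearGroup (Fin 2) F)) ∧
      P = Q ∧ (frattini ↥Q).map Q.subtype = V ∧ (Subgroup.center ↥Q).map Q.subtype = V ∧ (commutator ↥Q).map Q.subtype = V := by
  set M := Subgroup.normalizer (V : Set G) with hMdef
  set Qs := (Cfsg.pCore 2 ↥M).map M.subtype with hQdef
  have hQM : Qs ≤ M := Subgroup.map_subtype_le _
  have hVM : V ≤ M := Subgroup.le_normalizer
  have hp2 : IsPGroup 2 V := fun v => ⟨1, Subtype.ext (by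
    rw [pow_one, Subgroup.coe_pow]; exact hV.2 v v.2)⟩
  have hmax : ∀ N : Subgroup G, N ≤ M → (∀ m ∈ M, ∀ n ∈ N, m * n * m⁻¹ ∈ N) → IsPGroup 2 N → N ≤ Qs := by
    intro N hNM hNn hN2
    have : (N.subgroupOf M).Normal := ⟨fun n hn m => hNn m m.2 n hn⟩
    have hle := CfsgLib.Cores.le_pCore (N := N.subgroupOf M)
      (hN2.of_equiv (Subgroup.subgroupOfEquivOfLe hNM).symm)
    intro x hx
    exact ⟨⟨x, hNM hx⟩, hle hx, rfl⟩
  have hQn : ∀ m ∈ M, ∀ q ∈ Qs, m * q * m⁻¹ ∈ Qs := by
    rintro m hm _ ⟨q, hq, rfl⟩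
    have := CfsgLib.Cores.pCore_characteristic (G := ↥M) 2
    exact ⟨⟨m, hm⟩ * q * ⟨m, hm⟩⁻¹, Subgroup.Normal.conj_mem inferInstance q hq ⟨m, hm⟩, rfl⟩
  have hFQ : Cfsg.generalizedFittingSubgroup ↥M = Cfsg.pCore 2 ↥M :=
    Subgroup.map_injective (Subgroup.subtype_injective M) h1
  let D : CfsgLib.TISub.Data G :=
    { V := V
      M := M
      Q := Qs
      hV := hV
      hM := rfl
      hQM := hQM
      hVQ := hmax V hVM (fun m hm v hv => (Subgroup.mem_normalizer_iff.1 hm v).1 hv) hp2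
      hQn := hQn
      hQp := (CfsgLib.Cores.isPGroup_pCore 2).map _
      hQmax := hmax
      hQc := fun x hx h => by
        have hc : (⟨x, hx⟩ : ↥M) ∈ Subgroup.centralizer (Cfsg.generalizedFittingSubgroup ↥M : Set ↥M) := by
          rw [hFQ]
          intro q hq
          exact Subtype.ext (h q ⟨q, hq, rfl⟩).symm
        have h3 := CfsgLib.Cores.centralizer_generalizedFittingSubgroup_le hc
        rw [hFQ] at h3
        exact ⟨⟨x, hx⟩, h3, rfl⟩
      hmax := h2
      hti := hti }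
  have hg' : D.Good g := CfsgLib.TISub.Data.good_of_le_Q hg hgQ
  have hV1 : ∃ v ∈ D.V, v ≠ 1 := by
    by_contra hc
    push Not at hc
    have h0 : V = ⊥ := (Subgroup.eq_bot_iff_forall _).2 hc
    exact hg (by rw [h0, Subgroup.map_bot])
  intro Q P W H
  have hPQ : P = Q := hg'.P_eq_Q hV1
  have hQp : IsPGroup 2 Q := D.hQp
  have hcomm : ∀ a b : ↥Q, ⁅(a : G), (b : G)⁆ ∈ V := fun a b =>
    D.comm_mem (a := (a : G)) (b := (b : G)) (hPQ.symm.le a.2) (hPQ.symm.le b.2)
  have hVQ : V ≤ Q := D.hVQ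
  have hVcomm : ∀ v ∈ V, ∃ x : ↥Q, x ∈ _root_.commutator ↥Q ∧ (x : G) = v := by
    intro v hv
    obtain ⟨w, hw, hw1⟩ : ∃ w ∈ CfsgLib.TISub.cj g D.V, w ≠ 1 := by
      obtain ⟨v₁, hv₁, hv₁1⟩ := hV1
      exact ⟨g * v₁ * g⁻¹, CfsgLib.TISub.conj_mem_cj hv₁, fun he => hv₁1 (conj_eq_one_iff.1 he)⟩
    obtain ⟨p, hp, hpw⟩ := hg'.surj hw hw1 hv
    exact ⟨⁅(⟨p, hp.1⟩ : ↥Q), ⟨w, hgQ hw⟩⁆,
      Subgroup.commutator_mem_commutator (Subgroup.mem_top _) (Subgroup.mem_top _), hpw⟩
  have hN : H ≤ Subgroup.normalizer (W : Set G) := sup_le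
    (fun p hp => CfsgLib.TISub.cj_eq_self_iff.1 (hg'.cj_P_W hp))
    (fun r hr => CfsgLib.TISub.cj_eq_self_iff.1 (hg'.cj_R_W hV1 hr))
  refine ⟨(hg'.V_le hV1).trans (Subgroup.map_mono D.P_le_Q), fun w hw hw1 => hg'.unique_line hw hw1,
    hN, fun hn => hg'.exists_SL2 hV1 hn, hPQ, ?_, ?_, ?_⟩
  · apply le_antisymm
    · rintro _ ⟨x, hx, rfl⟩
      have hle := CfsgLib.Transfer.frattini_le_of_commutator_pow (p := 2) (V.subgroupOf Q) hcomm
        (fun a => by
          show ((a ^ 2 : ↥Q) : G) ∈ V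
          rw [pow_two]; exact D.sq_mem (p := (a : G)) (hPQ.symm.le a.2))
      exact hle hx
    · intro v hv
      obtain ⟨x, hx, rfl⟩ := hVcomm v hv
      exact ⟨x, CfsgLib.PGroup.commutator_le_frattini hQp hx, rfl⟩
  · apply le_antisymm
    · rintro _ ⟨x, hx, rfl⟩
      exact D.center_Q x.2 fun q hq =>
        (congrArg Subtype.val (Subgroup.mem_center_iff.1 hx ⟨q, hq⟩)).symm
    · intro v hv
      refine ⟨⟨v, hVQ hv⟩, Subgroup.mem_center_iff.2 fun q => Subtype.ext ?_, rfl⟩
      exact D.commute_P_V (hPQ.symm.le q.2) hv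
  · apply le_antisymm
    · rintro _ ⟨x, hx, rfl⟩
      have hle : _root_.commutator ↥Q ≤ V.subgroupOf Q := by
        rw [commutator_def, Subgroup.commutator_le]
        exact fun a _ b _ => hcomm a b
      exact hle hx
    · intro v hv
      obtain ⟨x, hx, rfl⟩ := hVcomm v hv
      exact ⟨x, hx, rfl⟩

end Cfsg.Agent.S1786
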