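import Cfsg.Statements.S1850
import Cfsg.Agent.Lib.Local.CharTwoType

set_option autoImplicit false
open Cfsg

namespace Cfsg.Agent.S1850

/-- Let G be a non-abelian finite simple QTKE-group and T a Sylow 2-subgroup of G. If U is a nontrivial 2-subgroup of G with U ∩ Z(T) ≠ 1, then F*(N_G(U)) = O₂(N_G(U)). -/
theorem result {G : Type*} [Group G] [Finite G] [IsSimpleGroup G]
    (hG : ¬ IsMulCommutative G) (hQ : Cfsg.IsQTKE G) (T : Sylow 2 G) (U : Subgroup G)
    (hU : IsPGroup 2 ↥U) (hZ : U ⊓ ((T : Subgroup G) ⊓ Subgroup.centralizer ((T : Subgroup G) : Set G)) ≠ ⊥) :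
    Subgroup.normalizer (U : Set G) ∈ Cfsg.calHe G := by
  obtain ⟨⟨z, hzU, hzT⟩, hz2⟩ : ∃ z : ↥(U ⊓ ((T : Subgroup G) ⊓ Subgroup.centralizer ((T : Subgroup G) : Set G))),
      orderOf z = 2 :=
    exists_prime_orderOf_dvd_card' 2 (((hU.to_le inf_le_left).card_eq_or_dvd).resolve_left
      fun h => hZ (Subgroup.eq_bot_of_card_eq _ h))
  rw [← Subgroup.orderOf_coe] at hz2
  simp only at hz2
  have heq : Subgroup.normalizer ((Subgroup.zpowers z : Subgroup G) : Set G) =
      Subgroup.centralizer ({z} : Set G) := by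
    refine le_antisymm (fun g hg => Subgroup.mem_centralizer_singleton_iff.2 ?_)
      fun g hg => ?_
    swap
    · rw [Subgroup.mem_normalizer_iff_map_conj_eq, MonoidHom.map_zpowers]
      congr 1
      show g * z * g⁻¹ = z
      rw [Subgroup.mem_centralizer_singleton_iff.1 hg, mul_inv_cancel_right]
    have h1 := (Subgroup.mem_normalizer_iff.1 hg z).1 (Subgroup.mem_zpowers z)
    obtain ⟨i, hi⟩ := Subgroup.mem_zpowers_iff.1 h1
    rcases Int.emod_two_eq_zero_or_one i with h | h
    · exfalso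
      rw [← zpow_mod_orderOf, hz2, Nat.cast_ofNat, h, zpow_zero] at hi
      have : z = 1 := by simpa using mul_inv_eq_one.1 hi.symm
      simp [this] at hz2
    · rw [← zpow_mod_orderOf, hz2, Nat.cast_ofNat, h, zpow_one] at hi
      exact (eq_mul_inv_iff_mul_eq.1 hi).symm
  have htl : Cfsg.IsTwoLocal (Subgroup.centralizer ({z} : Set G)) := by
    refine ⟨Subgroup.zpowers z, IsPGroup.of_card (n := 1) (by rw [Nat.card_zpowers, hz2, pow_one]),
      fun h => ?_, heq.symm⟩
    rw [Subgroup.zpowers_eq_bot] at h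
    simp [h] at hz2
  have hC := hQ.2.2 _ htl ⟨T, fun t ht => Subgroup.mem_centralizer_singleton_iff.2
    (Subgroup.mem_centralizer_iff.1 hzT.2 t ht)⟩
  exact CfsgLib.Local.HasCharP.generalizedFittingSubgroup_eq
    (CfsgLib.Local.hasCharP_normalizer_of_mem hC U hU hzU)

end Cfsg.Agent.S1850
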