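import Cfsg.Statements.S1851
import Cfsg.Agent.Lib.Local.CharTwoType
import Cfsg.Agent.Lib.Local.Residual

set_option autoImplicit false
open Cfsg

namespace Cfsg.Agent.S1851

open CfsgLib.Local CfsgLib.Cores

variable {G : Type*} [Group G] [Finite G]

theorem perfect_of_calL {L T : Subgroup G} (hL : L ∈ Cfsg.calL T) : ⁅L, L⁆ = L := by
  have h := congrArg (Subgroup.map (L ⊔ T).subtype) hL.1.2.1
  rwa [Subgroup.map_commutator, Subgroup.map_subgroupOf_eq_of_le le_sup_left] at h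

theorem hasCharP_of_calL (hE : Cfsg.IsOfEvenCharacteristic G) (T : Sylow 2 G) {L : Subgroup G}
    (hL : L ∈ Cfsg.calL (T : Subgroup G)) : HasCharP 2 ↥(L ⊔ (T : Subgroup G)) := by
  set X := L ⊔ (T : Subgroup G) with hX
  set P := (Cfsg.pCore 2 X).map X.subtype
  set M := Subgroup.normalizer (P : Set G)
  have hXM : X ≤ M := by
    have := Subgroup.le_normalizer_map (H := Cfsg.pCore 2 X) X.subtype
    rwa [Subgroup.normalizer_eq_top, ← MonoidHom.range_eq_map, Subgroup.range_subtype] at this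
  have hne : P ≠ ⊥ := by
    rw [ne_eq, Subgroup.map_eq_bot_iff_of_injective _ X.subtype_injective]
    exact hL.2.2
  have hTM : (T : Subgroup G) ≤ M := le_sup_right.trans hXM
  have hM : HasCharP 2 M := hE M ⟨P, (isPGroup_pCore 2).map _, hne, rfl⟩ ⟨T, hTM⟩
  have hle : Cfsg.pCore 2 M ≤ X.subgroupOf M := by
    refine (pCore_le_sylow (T.subtype hTM)).trans ?_
    rw [Sylow.coe_subtype]
    intro m hm
    exact Subgroup.mem_subgroupOf.2 (Subgroup.mem_sup_right (Subgroup.mem_subgroupOf.1 hm))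
  exact hasCharP_equiv (Subgroup.subgroupOfEquivOfLe hXM) (hM.of_pCore_le hle)

theorem mem_calX (hE : Cfsg.IsOfEvenCharacteristic G) (T : Sylow 2 G) {L : Subgroup G}
    (hL : L ∈ Cfsg.calL (T : Subgroup G)) : L ∈ Cfsg.calX G := by
  refine ⟨fun h => ?_, ?_, ?_⟩
  · apply hL.1.1
    subst h
    rw [Subgroup.bot_subgroupOf]
  · have h := closure_coprime_of_isPerfect 2 (perfect_of_calL hL)
    conv_rhs => rw [← h]
    simp only [Cfsg.oddGenerated, Nat.coprime_two_right]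
  · exact HasCharP.generalizedFittingSubgroup_eq (hasCharP_equiv (Subgroup.subgroupOfEquivOfLe le_sup_left)
      ((hasCharP_of_calL hE T hL).of_isSubnormal hL.1.2.2.1))

theorem mem_calLf_of_le (hE : Cfsg.IsOfEvenCharacteristic G) (T : Sylow 2 G) {L K : Subgroup G}
    (hL : L ∈ Cfsg.calLf (T : Subgroup G)) (hK : K ∈ Cfsg.calL (T : Subgroup G)) (hLK : L ≤ K) :
    K ∈ Cfsg.calLf (T : Subgroup G) := by
  refine ⟨hK, mem_calX hE T hK, fun hbot => hL.2.2 ?_⟩
  set Y := K ⊔ (T : Subgroup G) with hY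
  set X := L ⊔ (T : Subgroup G) with hX
  have hXY : X ≤ Y := sup_le (hLK.trans le_sup_left) le_sup_right
  have hchX := hasCharP_of_calL hE T hL.1
  have hchY := hasCharP_of_calL hE T hK
  set S := (Cfsg.pCore 2 Y).map Y.subtype
  set R := (Cfsg.pCore 2 X).map X.subtype
  have hTY : (T : Subgroup G) ≤ Y := le_sup_right
  have hTX : (T : Subgroup G) ≤ X := le_sup_right
  have hST : S ≤ (T : Subgroup G) := by
    refine (Subgroup.map_mono (pCore_le_sylow (T.subtype hTY))).trans ?_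
    rw [Sylow.coe_subtype, Subgroup.map_subgroupOf_eq_of_le hTY]
  have hconjY : ∀ g ∈ Y, ∀ s ∈ S, g * s * g⁻¹ ∈ S := by
    rintro g hg _ ⟨s, hs, rfl⟩
    exact ⟨⟨g, hg⟩ * s * ⟨g, hg⟩⁻¹, (inferInstance : (Cfsg.pCore 2 Y).Normal).conj_mem s hs _, rfl⟩
  have hconjX : ∀ g ∈ X, ∀ s ∈ R, g * s * g⁻¹ ∈ R := by
    rintro g hg _ ⟨s, hs, rfl⟩
    exact ⟨⟨g, hg⟩ * s * ⟨g, hg⟩⁻¹, (inferInstance : (Cfsg.pCore 2 X).Normal).conj_mem s hs _, rfl⟩
  have hSR : S ≤ R := by
    intro s hs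
    have hsX : s ∈ X := hTX (hST hs)
    have hn : (S.subgroupOf X).Normal := ⟨fun a ha g => hconjY _ (hXY g.2) _ ha⟩
    exact ⟨⟨s, hsX⟩, le_pCore (hn := hn) (((isPGroup_pCore 2).map _).comap_subtype) (show (⟨s, hsX⟩ : X) ∈ S.subgroupOf X from hs), rfl⟩
  have hnormK : ∀ s ∈ S, s ∈ Subgroup.normalizer (K : Set G) := by
    rintro _ ⟨s, hs, rfl⟩
    have h := le_normalizer_of_isSubnormal_of_isPerfect (isPGroup_pCore 2) hK.1.2.2.1 hK.1.2.1 hs
    have := Subgroup.le_normalizer_map Y.subtype ⟨s, h, rfl⟩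
    rwa [Subgroup.map_subgroupOf_eq_of_le le_sup_left] at this
  have hnormL : ∀ s ∈ R, s ∈ Subgroup.normalizer (L : Set G) := by
    rintro _ ⟨s, hs, rfl⟩
    have h := le_normalizer_of_isSubnormal_of_isPerfect (isPGroup_pCore 2) hL.1.1.2.2.1 hL.1.1.2.1 hs
    have := Subgroup.le_normalizer_map X.subtype ⟨s, h, rfl⟩
    rwa [Subgroup.map_subgroupOf_eq_of_le le_sup_left] at this
  have hQK : Cfsg.pCoreTwoOf K ≤ S := by
    intro q hq
    obtain ⟨q, hq, rfl⟩ := hq
    have hsub : (((Cfsg.pCore 2 ↥(K.subgroupOf Y)).map (K.subgroupOf Y).subtype)).IsSubnormal :=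
      (Subgroup.Normal.isSubnormal inferInstance).trans' hK.1.2.2.1
    have hp : IsPGroup 2 ↥((Cfsg.pCore 2 ↥(K.subgroupOf Y)).map (K.subgroupOf Y).subtype) :=
      (isPGroup_pCore 2).map _
    have h := le_fittingSubgroup_of_isSubnormal hsub hp.isNilpotent
    have hF : Cfsg.fittingSubgroup Y ≤ Cfsg.pCore 2 Y :=
      fittingSubgroup_le_generalizedFittingSubgroup.trans hchY.generalizedFittingSubgroup_eq.le
    set e := Subgroup.subgroupOfEquivOfLe (H := K) (K := Y) le_sup_left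
    have hq' : e.symm q ∈ Cfsg.pCore 2 ↥(K.subgroupOf Y) :=
      (map_pCore_equiv (p := 2) e.symm).le ⟨q, hq, rfl⟩
    exact ⟨_, hF (h ⟨_, hq', rfl⟩), rfl⟩
  -- the two modules
  set E := Cfsg.omegaOne 2 (Cfsg.pCoreTwoOf L ⊓ Subgroup.centralizer (Cfsg.pCoreTwoOf L : Set G)) with hEdef
  have hEQ : E ≤ Cfsg.pCoreTwoOf L ⊓ Subgroup.centralizer (Cfsg.pCoreTwoOf L : Set G) :=
    (Subgroup.closure_le _).2 fun x hx => hx.1
  have hE2 : ∀ x ∈ E, x ^ 2 = 1 := by
    intro x hx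
    induction hx using Subgroup.closure_induction with
    | mem x hx => exact hx.2
    | one => exact one_pow 2
    | mul x y hx hy ihx ihy =>
      have hc : Commute x y := Subgroup.mem_centralizer_iff.1 (hEQ hy).2 x (hEQ hx).1
      rw [hc.mul_pow, ihx, ihy, one_mul]
    | inv x hx ih => rw [inv_pow, ih, inv_one]
  have hEn : ∀ g ∈ Subgroup.normalizer (L : Set G), g ∈ Subgroup.normalizer (E : Set G) := by
    intro g hg
    have hQ : ∀ g ∈ Subgroup.normalizer (L : Set G), ∀ q ∈ Cfsg.pCoreTwoOf L, g * q * g⁻¹ ∈ Cfsg.pCoreTwoOf L := by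
      rintro g hg _ ⟨q, hq, rfl⟩
      let φ : ↥L ≃* ↥L :=
        ((MulAut.conj g).subgroupMap L).trans (MulEquiv.subgroupCongr (Subgroup.mem_normalizer_iff_map_conj_eq.1 hg))
      exact ⟨φ q, (map_pCore_equiv (p := 2) φ).le ⟨q, hq, rfl⟩, rfl⟩
    rw [Subgroup.mem_normalizer_iff_map_conj_eq]
    refine Subgroup.eq_of_le_of_card_ge ?_ (Subgroup.card_map_of_injective (MulAut.conj g).injective).ge
    rw [hEdef, Cfsg.omegaOne, MonoidHom.map_closure, Subgroup.closure_le]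
    rintro _ ⟨x, ⟨hx, hx2⟩, rfl⟩
    refine Subgroup.subset_closure ⟨⟨hQ g hg x hx.1, Subgroup.mem_centralizer_iff.2 fun y hy => ?_⟩, ?_⟩
    · have hy' := hQ _ (Subgroup.inv_mem _ hg) y hy
      have h := congrArg (fun w => g * w * g⁻¹) (Subgroup.mem_centralizer_iff.1 hx.2 _ hy')
      simpa [mul_assoc] using h
    · show ((MulAut.conj g) x) ^ 2 = 1
      rw [← map_pow, hx2, map_one]
  show ⁅E, L⁆ = ⊥
  rw [Subgroup.commutator_comm, Subgroup.commutator_eq_bot_iff_le_centralizer]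
  refine le_centralizer_of_isPerfect (p := 2) (perfect_of_calL hL.1) (fun l hl => hEn l (Subgroup.le_normalizer hl))
    fun x hxL hx => Subgroup.mem_centralizer_iff.2 fun e he => (?_ : x * e = e * x).symm
  have hEp : IsPGroup 2 E := fun a => ⟨1, Subtype.ext (by simpa using hE2 a a.2)⟩
  refine commute_of_commutator_fixedPoints ((isPGroup_pCore 2).map X.subtype) hx E hEp
    (fun r hr => hEn r (hnormL r hr)) (hEn x (Subgroup.le_normalizer hxL)) ?_ ?_ e he
  · intro u hu q hq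
    have h1 : x * u * x⁻¹ * u⁻¹ ∈ R := R.mul_mem (hconjX x (Subgroup.mem_sup_left hxL) u hu) (R.inv_mem hu)
    have h2 : x * u * x⁻¹ * u⁻¹ ∈ L := by
      have := L.mul_mem hxL ((Subgroup.mem_normalizer_iff.1 (hnormL u hu) x⁻¹).1 (L.inv_mem hxL))
      simpa [mul_assoc] using this
    refine Subgroup.mem_centralizer_iff.1 (hEQ hq).2 _ ?_
    have hn : (R.subgroupOf L).Normal := ⟨fun a ha g => hconjX _ (Subgroup.mem_sup_left g.2) _ ha⟩
    exact ⟨⟨_, h2⟩, le_pCore (hn := hn) (((isPGroup_pCore 2).map _).comap_subtype) (show (⟨_, h2⟩ : L) ∈ R.subgroupOf L from h1), rfl⟩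
  intro w hw hfix
  -- `w` centralizes `O₂(X)`, so lies in it, centralizes `O₂(Y)` and lies in its centre
  have hwL : w ∈ L := Subgroup.map_subtype_le _ (hEQ hw).1
  have hwR : w ∈ R := ⟨⟨w, Subgroup.mem_sup_left hwL⟩, hchX (Subgroup.mem_centralizer_iff.2 fun r hr =>
    Subtype.ext (hfix r ⟨r, hr, rfl⟩)), rfl⟩
  have hwC : ∀ s ∈ S, s * w = w * s := fun s hs => hfix s (hSR hs)
  have hwS : w ∈ S := ⟨⟨w, hXY (Subgroup.mem_sup_left hwL)⟩, hchY (Subgroup.mem_centralizer_iff.2 fun r hr =>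
    Subtype.ext (hwC r ⟨r, hr, rfl⟩)), rfl⟩
  have hxK : x ∈ K := hLK hxL
  set c := x * w * x⁻¹ * w⁻¹ with hc
  have hxwS : x * w * x⁻¹ ∈ S := hconjY x (Subgroup.mem_sup_left hxK) w hwS
  have hcS : c ∈ S := S.mul_mem hxwS (S.inv_mem hwS)
  have hcC : ∀ s ∈ S, s * c = c * s := by
    intro s hs
    have h1 : Commute s w := hwC s hs
    have h2 : Commute s (x * w * x⁻¹) := by
      have hsx := hconjY x⁻¹ (Y.inv_mem (Subgroup.mem_sup_left hxK)) s hs
      have h := congrArg (fun g => x * g * x⁻¹) (hwC _ hsx)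
      show s * (x * w * x⁻¹) = x * w * x⁻¹ * s
      simpa [mul_assoc] using h
    exact h2.mul_right h1.inv_right
  have hcK : c ∈ K := by
    have := K.mul_mem hxK ((Subgroup.mem_normalizer_iff.1 (hnormK w hwS) x⁻¹).1 (K.inv_mem hxK))
    rw [hc]
    simpa [mul_assoc] using this
  have hcQ : c ∈ Cfsg.pCoreTwoOf K := by
    have hn : (S.subgroupOf K).Normal := ⟨fun a ha g => hconjY _ (Subgroup.mem_sup_left g.2) _ ha⟩
    exact ⟨⟨c, hcK⟩, le_pCore (hn := hn) (((isPGroup_pCore 2).map _).comap_subtype) (show (⟨c, hcK⟩ : K) ∈ S.subgroupOf K from hcS), rfl⟩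
  have hc2 : c ^ 2 = 1 := by
    have h1 : w ^ 2 = 1 := hE2 w hw
    have h2 : (x * w * x⁻¹) ^ 2 = 1 := by rw [conj_pow, h1, mul_one, mul_inv_cancel]
    have h3 : Commute (x * w * x⁻¹) w := hwC _ hxwS
    rw [hc, (h3.inv_right).mul_pow, h2, inv_pow, h1, inv_one, one_mul]
  have hcmem : c ∈ Cfsg.omegaOne 2 (Cfsg.pCoreTwoOf K ⊓ Subgroup.centralizer (Cfsg.pCoreTwoOf K : Set G)) :=
    Subgroup.subset_closure ⟨⟨hcQ, Subgroup.mem_centralizer_iff.2 fun q hq => hcC q (hQK hq)⟩, hc2⟩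
  have hxc : x * c = c * x :=
    Subgroup.mem_centralizer_iff.1
      ((Subgroup.commutator_eq_bot_iff_le_centralizer.1 hbot) hcmem) x hxK
  have hxw : x * w * x⁻¹ = c * w := by rw [hc]; group
  have hpow : ∀ i : ℕ, x ^ i * w * (x ^ i)⁻¹ = c ^ i * w := by
    intro i
    induction i with
    | zero => simp
    | succ i ihi =>
      calc x ^ (i + 1) * w * (x ^ (i + 1))⁻¹ = x * (x ^ i * w * (x ^ i)⁻¹) * x⁻¹ := by
            rw [pow_succ']; group
        _ = x * c ^ i * w * x⁻¹ := by rw [ihi]; group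
        _ = c ^ i * (x * w * x⁻¹) := by rw [(Commute.pow_right hxc i).eq]; group
        _ = c ^ (i + 1) * w := by rw [hxw, pow_succ]; group
  have hcone : c ^ orderOf x = 1 := by
    have := hpow (orderOf x)
    rw [pow_orderOf_eq_one, one_mul, inv_one, mul_one] at this
    exact right_eq_mul.1 this
  have hc1 : c = 1 := by
    have h := pow_gcd_eq_one.2 ⟨hcone, hc2⟩
    rwa [hx.gcd_eq_one, pow_one] at h
  rw [hc, mul_inv_eq_one, mul_inv_eq_iff_eq_mul] at hc1
  exact hc1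


/-- Let G be a non-abelian finite simple QTKE-group and T a Sylow 2-subgroup of G, and let L be a member of ℒ_f(G, T) (a member of ℒ(G, T) that lies in 𝒳 — L ≠ 1, L = O²(L), F*(L) = O₂(L) — and acts nontrivially on Ω₁(Z(O₂(L)))). Then (1) every member K of ℒ(G, T) containing L is again in ℒ_f(G, T) (a sharper form of (1) also compares the modules [Ω₁(Z(R)), L] and [Ω₁(Z(R')), K] for suitable 2-subgroups R, R'; that comparison is not included); and (2) if L is maximal under inclusion among the members of ℒ_f(G, T), then L is a maximal member of ℒ(G, T), hence a member of ℒ_f*(G, T). -/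
theorem result {G : Type*} [Group G] [Finite G] [IsSimpleGroup G]
    (hG : ¬ IsMulCommutative G) (hQ : Cfsg.IsQTKE G) (T : Sylow 2 G) (L : Subgroup G)
    (hL : L ∈ Cfsg.calLf (T : Subgroup G)) :
    (∀ K ∈ Cfsg.calL (T : Subgroup G), L ≤ K → K ∈ Cfsg.calLf (T : Subgroup G)) ∧
    ((∀ K ∈ Cfsg.calLf (T : Subgroup G), L ≤ K → K = L) → L ∈ Cfsg.calLfMax (T : Subgroup G)) := by
  have part1 : ∀ K ∈ Cfsg.calL (T : Subgroup G), L ≤ K → K ∈ Cfsg.calLf (T : Subgroup G) :=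
    fun K hK hLK => mem_calLf_of_le hQ.2.2 T hL hK hLK
  exact ⟨part1, fun hmax => ⟨⟨hL.1, fun K hK hLK => hmax K (part1 K hK hLK) hLK⟩, hL.2⟩⟩

end Cfsg.Agent.S1851
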