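import Cfsg.Statements.S1892
import Cfsg.Agent.Lib.Transfer.PSolvable
import Cfsg.Agent.Lib.Solvable.CoprimeAction

set_option autoImplicit false
open Cfsg

namespace Cfsg.Agent.S1892

open scoped commutatorElement

/-- Let S be a finite p-solvable group with no nontrivial normal subgroup of order prime to p, A a p-subgroup of S, and Q a nontrivial A-invariant subgroup of order prime to p with [A, Q] = Q. Then the commutator [O_p(S), A, Q] is nontrivial. -/
theorem result {S : Type*} [Group S] [Finite S] {p : ℕ} [Fact p.Prime]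
    (hS : Cfsg.IsPSolvable p S) (hred : Cfsg.pPrimeCore p S = ⊥)
    (A Q : Subgroup S) (hA : IsPGroup p A) (hQ : ¬ p ∣ Nat.card Q) (hQ1 : Q ≠ ⊥)
    (hinv : ∀ a ∈ A, ∀ x ∈ Q, a * x * a⁻¹ ∈ Q) (hAQ : ⁅A, Q⁆ = Q) :
    ⁅⁅Cfsg.pCore p S, A⁆, Q⁆ ≠ ⊥ := by
  intro hbot
  set P := Cfsg.pCore p S with hP
  have hPp : IsPGroup p P := CfsgLib.Cores.isPGroup_pCore p
  haveI hPn : P.Normal := by
    have := CfsgLib.Cores.pCore_characteristic (G := S) p
    infer_instance
  set N := ⁅P, A⁆ with hN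
  have hNP : N ≤ P := Subgroup.commutator_le_left P A
  set H := P ⊔ A ⊔ Q with hH
  -- `P`, `A`, `Q` normalize `[P, A]`
  have hQN : Q ≤ Subgroup.centralizer (N : Set S) :=
    Subgroup.le_centralizer_iff.1 (Subgroup.commutator_eq_bot_iff_le_centralizer.1 hbot)
  have hPnorm : P ≤ Subgroup.normalizer (N : Set S) := CfsgLib.Solvable.le_normalizer_commutator_left P A
  have hAnorm : A ≤ Subgroup.normalizer (N : Set S) := CfsgLib.Solvable.le_normalizer_commutator_right (A := A) (K := P) (by rw [Subgroup.normalizer_eq_top]; exact le_top)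
  have hHN : H ≤ Subgroup.normalizer (N : Set S) :=
    sup_le (sup_le hPnorm hAnorm) (hQN.trans (Subgroup.centralizer_le_normalizer _))
  have hNH : N ≤ H := hNP.trans (le_sup_left.trans le_sup_left)
  haveI : (N.subgroupOf H).Normal := (Subgroup.normal_subgroupOf_iff_le_normalizer hNH).2 hHN
  set π := QuotientGroup.mk' (N.subgroupOf H)
  let ι : Subgroup S → Subgroup (↥H ⧸ N.subgroupOf H) := fun X => (X.subgroupOf H).map π
  have hPQ : ∀ x ∈ P, ∀ q ∈ Q, ⁅x, q⁆ ∈ N := by
    have hPH : P ≤ H := le_sup_left.trans le_sup_left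
    have hAH : A ≤ H := le_sup_right.trans le_sup_left
    have hQH : Q ≤ H := le_sup_right
    have hAc : ι A ≤ Subgroup.centralizer (ι P : Set _) := by
      rintro _ ⟨a, ha, rfl⟩
      refine Subgroup.mem_centralizer_iff.2 ?_
      rintro _ ⟨x, hx, rfl⟩
      rw [← commutatorElement_eq_one_iff_mul_comm, ← map_commutatorElement]
      refine (QuotientGroup.eq_one_iff _).2 ?_
      exact Subgroup.commutator_mem_commutator hx ha
    have hPn' : ∀ g : ↥H, ∀ y ∈ ι P, π g * y * (π g)⁻¹ ∈ ι P := by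
      rintro g _ ⟨y, hy, rfl⟩
      exact ⟨g * y * g⁻¹, hPn.conj_mem _ hy g, by simp⟩
    have hQc : ι Q ≤ Subgroup.centralizer (ι P : Set _) := by
      rintro _ ⟨q, hq, rfl⟩
      have hgen : (q : S) ∈ ⁅A, Q⁆ := hAQ.symm ▸ hq
      have hle : ⁅A, Q⁆ ≤ ((Subgroup.centralizer (ι P : Set _)).comap π).map H.subtype := by
        refine Subgroup.commutator_le.2 fun a ha x hx => ?_
        refine ⟨⁅(⟨a, hAH ha⟩ : ↥H), (⟨x, hQH hx⟩ : ↥H)⁆, ?_, rfl⟩
        rw [SetLike.mem_coe, Subgroup.mem_comap, Subgroup.mem_centralizer_iff]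
        intro y hy
        have hc := Subgroup.mem_centralizer_iff.1 (hAc (Subgroup.mem_map_of_mem (K := A.subgroupOf H) π (x := (⟨a, hAH ha⟩ : ↥H)) (show (⟨a, hAH ha⟩ : ↥H) ∈ A.subgroupOf H from ha)))
        set α := π ⟨a, hAH ha⟩
        set β := π ⟨x, hQH hx⟩
        rw [map_commutatorElement, commutatorElement_def]
        have h1 : β⁻¹ * y * β ∈ ι P := by
          have := hPn' ⟨x, hQH hx⟩⁻¹ y hy
          simpa using this
        have e1 := hc _ h1
        have e2 := hc y hy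
        calc y * (α * β * α⁻¹ * β⁻¹) = α * β * ((β⁻¹ * y * β) * α⁻¹) * β⁻¹ := by
              rw [← mul_assoc y, ← mul_assoc y, ← mul_assoc y, e2]; group
          _ = α * β * (α⁻¹ * (β⁻¹ * y * β)) * β⁻¹ := by
              rw [eq_inv_mul_iff_mul_eq.2 (show α * ((β⁻¹ * y * β) * α⁻¹) = β⁻¹ * y * β by
                rw [← mul_assoc, ← e1, mul_inv_cancel_right])]
          _ = α * β * α⁻¹ * β⁻¹ * y := by group
      obtain ⟨z, hz, hzq⟩ := hle hgen
      rw [← Subtype.ext hzq]
      exact hz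
    intro x hx q hq
    refine (QuotientGroup.eq_one_iff (N := N.subgroupOf H) ⁅(⟨x, hPH hx⟩ : ↥H), (⟨q, hQH hq⟩ : ↥H)⁆).1 ?_
    show π _ = 1
    rw [map_commutatorElement, commutatorElement_eq_one_iff_mul_comm]
    exact Subgroup.mem_centralizer_iff.1 (hQc (Subgroup.mem_map_of_mem (K := Q.subgroupOf H) π (x := (⟨q, hQH hq⟩ : ↥H)) (show (⟨q, hQH hq⟩ : ↥H) ∈ Q.subgroupOf H from hq))) _
      (Subgroup.mem_map_of_mem (K := P.subgroupOf H) π (x := (⟨x, hPH hx⟩ : ↥H)) (show (⟨x, hPH hx⟩ : ↥H) ∈ P.subgroupOf H from hx))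
  -- coprime action: `Q` centralizes `P`
  have hQP : Q ≤ Subgroup.normalizer (P : Set S) := by rw [Subgroup.normalizer_eq_top]; exact le_top
  have hcop : (Nat.card Q).Coprime (Nat.card P) := by
    obtain ⟨k, hk⟩ := IsPGroup.iff_card.1 hPp
    rw [hk]
    exact Nat.Coprime.pow_right k (((Fact.out : p.Prime).coprime_iff_not_dvd.2 hQ).symm)
  have hsolP : Group.IsSolvable P := by
    haveI := hPp.isNilpotent
    infer_instance
  have h1 : ⁅⁅P, Q⁆, Q⁆ = ⊥ := Subgroup.commutator_eq_bot_iff_le_centralizer.2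
    ((Subgroup.commutator_le.2 hPQ).trans (Subgroup.le_centralizer_iff.1 hQN))
  rw [CfsgLib.Solvable.commutator_commutator_self hQP hcop (Or.inr hsolP)] at h1
  refine hQ1 (le_bot_iff.1 ?_)
  have hQC : Q ≤ P :=
    (Subgroup.le_centralizer_iff.1 (Subgroup.commutator_eq_bot_iff_le_centralizer.1 h1)).trans
      (CfsgLib.Transfer.centralizer_pCore_le_of_isPSolvable hS hred)
  exact (le_inf le_rfl hQC).trans (Subgroup.inf_eq_bot_of_coprime hcop).le

end Cfsg.Agent.S1892
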