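import Cfsg.Statements.S1895
import Cfsg.Agent.Lib.Techniques.RankTwoChief
import Cfsg.Agent.Lib.Transfer.PSolvable
import Cfsg.Agent.Lib.OddLocal.Ten.Quotient

set_option autoImplicit false
open Cfsg

namespace Cfsg.Agent.S1895

section
open Subgroup
open scoped commutatorElement
open CfsgLib.Techniques.RankTwoChief

variable {G : Type*} [Group G] [Finite G] {p : ℕ} [hp : Fact p.Prime]

theorem relIndex_dvd_card_div {A B : Subgroup G} (h : A ≤ B) : Nat.card A * A.relIndex B = Nat.card B := by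
  rw [← Nat.card_congr (subgroupOfEquivOfLe h).toEquiv]
  exact card_mul_index _

/-- A chief factor below a normal `p`-subgroup of rank at most two. -/
theorem chief_dvd (hp2 : p ≠ 2) {H K : Subgroup G} [hHn : H.Normal] [hKn : K.Normal] (hKH : K < H)
    (hH : IsPGroup p H) (hr : Cfsg.PRankLE p 2 H)
    (hmax : ∀ N : Subgroup G, N.Normal → N ≤ H → N ≠ H → N ≤ K) : K.relIndex H ∣ p ^ 2 := by
  classical
  have hNH : normalizer (H : Set G) = ⊤ := Subgroup.normalizer_eq_top_iff.2 hHn
  have normal_of : ∀ A : Subgroup G, normalizer (H : Set G) ≤ normalizer (A : Set G) → A.Normal :=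
    fun A h => Subgroup.normalizer_eq_top_iff.1 (top_le_iff.1 (hNH ▸ h))
  obtain ⟨nH, hnH⟩ := hH.exists_card_eq
  obtain ⟨e, -, he⟩ := (Nat.dvd_prime_pow hp.out).1 (hnH ▸ relIndex_dvd_card K H)
  have hle : ∀ {m : ℕ}, K.relIndex H ≤ p ^ m → m ≤ 2 → K.relIndex H ∣ p ^ 2 := fun h hm => by
    rw [he] at h ⊢
    exact pow_dvd_pow p (((Nat.pow_le_pow_iff_right hp.out.one_lt).1 h).trans hm)
  haveI : Nontrivial H := (nontrivial_iff_ne_bot H).2 fun h => (h ▸ hKH).not_ge bot_le
  -- the Frattini subgroup of `H` lies in `K`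
  set Φ := (frattini ↥H).map H.subtype with hΦ
  have hΦK : Φ ≤ K := by
    refine hmax Φ ?_ (map_subtype_le _) fun h => ?_
    · haveI : (frattini ↥H).Characteristic := inferInstance
      exact inferInstanceAs ((frattini ↥H).map H.subtype).Normal
    · refine CfsgLib.PGroup.frattini_ne_top hH (map_injective H.subtype_injective ?_)
      rw [← hΦ, h, ← MonoidHom.range_eq_map, range_subtype]
  have hpowK : ∀ x ∈ H, x ^ p ∈ K := fun x hx =>
    hΦK ⟨_, CfsgLib.PGroup.pow_mem_frattini hH ⟨x, hx⟩, rfl⟩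
  have hcommK : ∀ x ∈ H, ∀ y ∈ H, ⁅x, y⁆ ∈ K := fun x hx y hy =>
    hΦK ⟨_, CfsgLib.PGroup.commutator_le_frattini hH
      (commutator_mem_commutator (mem_top (⟨x, hx⟩ : H)) (mem_top ⟨y, hy⟩)), rfl⟩
  -- `H` centralizes small sections
  have hact : ∀ D Z : Subgroup G, D.Normal → Z.Normal → D ≤ H → Z ≤ D → (∀ x ∈ D, ∀ y ∈ D, ⁅x, y⁆ ∈ Z) →
      Z.relIndex D ∣ p ^ 2 → K.relIndex H ∣ p ^ 2 ∨ ∀ h ∈ H, ∀ d ∈ D, ⁅h, d⁆ ∈ Z := by
    intro D Z hDn hZn hDH hZD hcomm hidx
    have hD' : ∀ A : Subgroup G, A ≤ normalizer (D : Set G) := fun A => by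
      rw [Subgroup.normalizer_eq_top_iff.2 hDn]; exact le_top
    have hZ' : ∀ A : Subgroup G, A ≤ normalizer (Z : Set G) := fun A => by
      rw [Subgroup.normalizer_eq_top_iff.2 hZn]; exact le_top
    set A := actKer H D Z (hD' H) (hZ' H) with hA
    have hd := relIndex_actKer hH (hH.to_le hDH) hZD (hD' H) (hZ' H) (hZ' D) hcomm hidx
    have hAn : A.Normal := ⟨fun a ha g => by
      refine ⟨hHn.conj_mem a ha.1 g, fun d hd => ?_⟩
      have h1 := ha.2 (g⁻¹ * d * g) (by simpa using hDn.conj_mem d hd g⁻¹)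
      have h2 := hZn.conj_mem _ h1 g
      simpa [commutatorElement_def, mul_assoc] using h2⟩
    by_cases hAH : A = H
    · exact Or.inr fun h hh => (hAH.ge hh).2
    · exact Or.inl ((relIndex_dvd_of_le_left H (hmax A hAn (fun a ha => ha.1) hAH)).trans
        (hd.trans (dvd_pow_self p two_ne_zero)))
  obtain ⟨D, H₀, hDH₀, hH₀H, hNH₀, hND, hDmem, hcen, hCH₀, -⟩ := exists_omega_critical hp2 hH
  haveI hDn := normal_of D hND
  have hH₀n := normal_of H₀ hNH₀
  have hDH := hDH₀.trans hH₀H
  have hDexp : ∀ x ∈ D, x ^ p = 1 := fun x hx => ((hDmem x).1 hx).2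
  have hrD : Cfsg.PRankLE p 2 D :=
    CfsgLib.PGroup.pRankLE_of_injective hr (Subgroup.inclusion hDH) (Subgroup.inclusion_injective hDH)
  obtain ⟨kD, hkD⟩ := (hH.to_le hDH).exists_card_eq
  by_cases hab : ∀ x ∈ D, ∀ y ∈ D, x * y = y * x
  · -- `D` elementary abelian
    have hD2 : Nat.card D ≤ p ^ 2 := card_le_sq hr hDH hab hDexp
    have hkD2 : kD ≤ 2 := (Nat.pow_le_pow_iff_right hp.out.one_lt).1 (hkD ▸ hD2)
    rcases hact D ⊥ hDn inferInstance hDH bot_le
      (fun x hx y hy => by rw [commutatorElement_eq_one_iff_mul_comm.2 (hab x hx y hy)]; exact one_mem _)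
      (by rw [relIndex_bot_left, hkD]; exact pow_dvd_pow p hkD2) with h | hc
    · exact h
    have hDc : ∀ d ∈ D, ∀ h ∈ H, h * d = d * h := fun d hd h hh =>
      commutatorElement_eq_one_iff_mul_comm.1 (mem_bot.1 (hc h hh d hd))
    -- the bound for a `p`-central subgroup
    have hbound : ∀ A : Subgroup G, A ≤ H → (∀ x ∈ A, x ^ p = 1 → x ∈ D) → ∀ M : Subgroup A,
        (∀ x : A, x ^ p ∈ M) → Nat.card A ≤ Nat.card M * p ^ kD := by
      intro A hA hAD M hM
      refine (card_le_mul_omega hp2 (hH.to_le hA) (fun x hx y => Subtype.ext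
        (hDc _ (hAD x x.2 (by simpa using congrArg Subtype.val hx)) y (hA y.2)).symm) M hM).trans ?_
      refine Nat.mul_le_mul_left _ (hkD ▸ Nat.card_le_card_of_injective
        (fun x => (⟨(x.1 : G), hAD x.1 x.1.2 (by simpa using congrArg Subtype.val x.2)⟩ : D)) ?_)
      intro x y h
      exact Subtype.ext (Subtype.ext (congrArg Subtype.val h :))
    have hmain : (∀ x ∈ H, x ^ p = 1 → x ∈ D) → K.relIndex H ∣ p ^ 2 := by
      intro hall
      have h := hbound H le_rfl hall (K.subgroupOf H) (fun x => hpowK x x.2)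
      rw [Nat.card_congr (subgroupOfEquivOfLe hKH.le).toEquiv, ← relIndex_dvd_card_div hKH.le] at h
      exact hle (Nat.le_of_mul_le_mul_left h Nat.card_pos) hkD2
    by_cases hk2 : kD = 2
    · refine hmain fun x hx hxp => ?_
      set A := zpowers x ⊔ D with hA
      have hAH : A ≤ H := sup_le (zpowers_le.2 hx) hDH
      have hnd : zpowers x ≤ normalizer (D : Set G) := by
        rw [Subgroup.normalizer_eq_top_iff.2 hDn]; exact le_top
      have hAset : ∀ a ∈ A, ∃ i : ℤ, ∃ d ∈ D, a = x ^ i * d := by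
        intro a ha
        have ha' : a ∈ ((zpowers x ⊔ D : Subgroup G) : Set G) := ha
        rw [coe_mul_of_left_le_normalizer_right _ _ hnd] at ha'
        obtain ⟨_, ⟨i, rfl⟩, d, hd, h⟩ := ha'
        exact ⟨i, d, hd, h.symm⟩
      have hAc : Nat.card A ≤ p ^ 2 := by
        refine card_le_sq hr hAH (fun a ha b hb => ?_) fun a ha => ?_
        · obtain ⟨i, d, hd, rfl⟩ := hAset a ha
          obtain ⟨j, e', he', rfl⟩ := hAset b hb
          have h1 : Commute d (x ^ j) := (hDc d hd _ (H.zpow_mem hx j)).symm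
          have h2 : Commute (x ^ i) e' := hDc e' he' _ (H.zpow_mem hx i)
          exact ((((Commute.refl x).zpow_zpow i j).mul_right h2).mul_left
            (h1.mul_right (hab d hd e' he'))).eq
        · obtain ⟨i, d, hd, rfl⟩ := hAset a ha
          rw [Commute.mul_pow (hDc d hd _ (H.zpow_mem hx i)), hDexp d hd, mul_one, ← zpow_natCast, ← zpow_mul,
            mul_comm, zpow_mul, zpow_natCast, hxp, one_zpow]
      exact (eq_of_le_of_card_ge (le_sup_right : D ≤ A) (by rw [hkD, hk2]; exact hAc)).ge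
        (mem_sup_left (mem_zpowers x))
    have hk1 : kD ≤ 1 := by omega
    -- the critical subgroup is cyclic
    have hH₀D : ∀ x ∈ H₀, x ^ p = 1 → x ∈ D := fun x hx hxp => (hDmem x).2 ⟨hx, hxp⟩
    haveI hH₀cyc : IsCyclic H₀ := by
      have hH₀p := hH.to_le hH₀H
      by_cases h0 : frattini ↥H₀ = ⊤
      · refine CfsgLib.PGroup.isCyclic_of_frattini_quotient ?_
        haveI : Subsingleton (↥H₀ ⧸ frattini ↥H₀) := by rw [h0]; exact QuotientGroup.subsingleton_quotient_top
        infer_instance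
      · refine CfsgLib.PGroup.isCyclic_of_frattini_quotient (isCyclic_of_prime_card (p := p) ?_)
        have h := hbound H₀ hH₀H hH₀D (frattini ↥H₀) (CfsgLib.PGroup.pow_mem_frattini hH₀p)
        rw [← (frattini ↥H₀).card_mul_index] at h
        have h' : (frattini ↥H₀).index ≤ p ^ 1 :=
          (Nat.le_of_mul_le_mul_left h Nat.card_pos).trans (Nat.pow_le_pow_right hp.out.pos hk1)
        obtain ⟨j, hj⟩ := IsPGroup.iff_card.1 (hH₀p.to_quotient (frattini ↥H₀))
        show (frattini ↥H₀).index = p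
        have hj' : (frattini ↥H₀).index = p ^ j := hj
        rw [hj'] at h' ⊢
        have hj0 : j ≠ 0 := fun hj0 => h0 (index_eq_one.1 (by rw [hj', hj0, pow_zero]))
        have := (Nat.pow_le_pow_iff_right hp.out.one_lt).1 h'
        rw [show j = 1 by omega, pow_one]
    by_cases hH₀K : H₀ = H
    · subst hH₀K
      exact hmain hH₀D
    have hH₀K' : H₀ ≤ K := hmax H₀ hH₀n hH₀H hH₀K
    -- `H / H₀` embeds in the cyclic group of automorphisms of `H₀`
    haveI hcyc : IsCyclic (MulAut H₀) := by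
      obtain ⟨j, hj⟩ := (hH.to_le hH₀H).exists_card_eq
      have h1 : IsCyclic (ZMod (Nat.card H₀))ˣ := by
        rw [hj]; exact ZMod.isCyclic_units_of_prime_pow p hp.out hp2 j
      exact (IsCyclic.mulAutMulEquiv (G := H₀)).isCyclic.2 h1
    let f : H →* MulAut H₀ := (MulAut.conjNormal (H := H₀)).comp H.subtype
    haveI : IsCyclic f.range := inferInstance
    obtain ⟨⟨_, h₁, rfl⟩, hgen⟩ := IsCyclic.exists_generator (α := f.range)
    have hker : ∀ h : H, f h = 1 → (h : G) ∈ K := fun h hh => hH₀K' (hCH₀ ⟨h.2, mem_centralizer_iff.2 fun y hy => by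
      have := congrArg Subtype.val (DFunLike.congr_fun hh ⟨y, hy⟩)
      simp only [f, MonoidHom.comp_apply, MulAut.conjNormal_apply, MulAut.one_apply] at this
      exact (mul_inv_eq_iff_eq_mul.1 this).symm⟩)
    have hgenK : ∀ h : H, ∃ i : ℤ, ∃ k ∈ K, (h : G) = (h₁ : G) ^ i * k := by
      intro h
      obtain ⟨i, hi⟩ := mem_zpowers_iff.1 (hgen ⟨f h, h, rfl⟩)
      have hi' : f h₁ ^ i = f h := congrArg Subtype.val hi
      refine ⟨i, ((h₁ : G) ^ i)⁻¹ * h, ?_, by group⟩
      simpa using hker ((h₁ ^ i)⁻¹ * h) (by rw [map_mul, map_inv, map_zpow, hi', inv_mul_cancel])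
    refine dvd_trans ?_ (dvd_pow_self p two_ne_zero)
    haveI : (K.subgroupOf H).Normal := inferInstance
    show Nat.card (H ⧸ K.subgroupOf H) ∣ p
    have htop : zpowers (QuotientGroup.mk h₁ : H ⧸ K.subgroupOf H) = ⊤ := by
      rw [eq_top_iff]
      intro q _
      induction q using QuotientGroup.induction_on with
      | _ h =>
        obtain ⟨i, k, hk, hik⟩ := hgenK h
        refine mem_zpowers_iff.2 ⟨i, ?_⟩
        rw [← QuotientGroup.mk_zpow]
        refine QuotientGroup.eq.2 ?_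
        show ((h₁ ^ i : H) : G)⁻¹ * (h : G) ∈ K
        rw [hik, SubgroupClass.coe_zpow, inv_mul_cancel_left]; exact hk
    rw [← card_top (G := H ⧸ K.subgroupOf H), ← htop, Nat.card_zpowers]
    refine orderOf_dvd_of_pow_eq_one ?_
    rw [← QuotientGroup.mk_pow]
    exact (QuotientGroup.eq_one_iff _).2 (hpowK h₁ h₁.2)
  -- `D` not abelian
  have hD3 : Nat.card D ≤ p ^ 3 := Cfsg.Agent.S3771.result (hH.to_le hDH) hrD fun x => Subtype.ext (hDexp x x.2)
  set Z := D ⊓ centralizer (D : Set G) with hZ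
  have hZn : Z.Normal := normal_of Z fun g hg => CfsgLib.Solvable.le_normalizer_inf (A := normalizer (H : Set G))
    hND (hND.trans (CfsgLib.Solvable.normalizer_le_normalizer_centralizer D)) hg
  have hcD : ∀ x ∈ D, ∀ y ∈ D, ⁅x, y⁆ ∈ Z := fun x hx y hy => by
    refine ⟨?_, mem_centralizer_iff.2 fun w hw => (hcen x (hDH₀ hx) y (hDH hy) w (hDH₀ hw)).symm.eq⟩
    show ⁅x, y⁆ ∈ D
    rw [commutatorElement_def]
    exact mul_mem (mul_mem (mul_mem hx hy) (inv_mem hx)) (inv_mem hy)
  obtain ⟨j, hj⟩ := (hH.to_le ((inf_le_left : Z ≤ D).trans hDH)).exists_card_eq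
  have hkD3 : kD ≤ 3 := (Nat.pow_le_pow_iff_right hp.out.one_lt).1 (hkD ▸ hD3)
  have hj0 : j ≠ 0 := fun h0 => hab fun x hx y hy => commutatorElement_eq_one_iff_mul_comm.1
    (mem_bot.1 ((eq_bot_of_card_eq Z (by rw [hj, h0, pow_zero])) ▸ hcD x hx y hy))
  obtain ⟨i, -, hi⟩ := (Nat.dvd_prime_pow hp.out).1 (hkD ▸ relIndex_dvd_card Z D)
  have hij : j + i = kD := by
    apply Nat.pow_right_injective hp.out.two_le
    show p ^ (j + i) = p ^ kD
    rw [pow_add, ← hj, ← hi, ← hkD, relIndex_dvd_card_div inf_le_left]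
  have hi2 : i ≤ 2 := by omega
  -- a pair generating `D` over `Z`
  obtain ⟨d₁, hd₁, d₂, hd₂, hd₁₂⟩ : ∃ d₁ ∈ D, ∃ d₂ ∈ D, d₁ * d₂ ≠ d₂ * d₁ := by
    by_contra hc; push_neg at hc
    exact hab hc
  have hgenD : D ≤ closure ({d₁, d₂} : Set G) ⊔ Z := by
    set L := zpowers d₁ ⊔ Z with hL
    set M := closure ({d₁, d₂} : Set G) ⊔ Z with hM
    have hLM : L ≤ M := sup_le_sup_right (zpowers_le.2 (subset_closure (by simp))) _
    have hMD : M ≤ D := sup_le ((closure_le _).2 (by
      intro z hz; rcases hz with rfl | hz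
      · exact hd₁
      · rw [Set.mem_singleton_iff] at hz; subst hz; exact hd₂)) inf_le_left
    have h1 : Z < L := lt_of_le_of_ne le_sup_right fun e' =>
      hd₁₂ ((mem_centralizer_iff.1 (e' ▸ mem_sup_left (mem_zpowers d₁) : d₁ ∈ Z).2 d₂ hd₂).symm)
    have h2 : L < M := lt_of_le_of_ne hLM fun e' => hd₁₂ (by
      have hd₂L : d₂ ∈ L := e' ▸ mem_sup_left (subset_closure (by simp))
      have hLc : L ≤ centralizer ({d₁} : Set G) := sup_le (zpowers_le.2 (mem_centralizer_singleton_iff.2 rfl))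
        fun z hz => mem_centralizer_singleton_iff.2 (mem_centralizer_iff.1 hz.2 d₁ hd₁).symm
      exact (mem_centralizer_singleton_iff.1 (hLc hd₂L)).symm)
    obtain ⟨lL, hlL⟩ := (hH.to_le (hLM.trans (hMD.trans hDH))).exists_card_eq
    obtain ⟨lM, hlM⟩ := (hH.to_le (hMD.trans hDH)).exists_card_eq
    have e1 : j < lL := (Nat.pow_lt_pow_iff_right hp.out.one_lt).1 (by
      rw [← hj, ← hlL]
      exact lt_of_le_of_ne (card_le_of_le h1.le) fun e' => h1.ne (eq_of_le_of_card_ge h1.le e'.ge))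
    have e2 : lL < lM := (Nat.pow_lt_pow_iff_right hp.out.one_lt).1 (by
      rw [← hlL, ← hlM]
      exact lt_of_le_of_ne (card_le_of_le h2.le) fun e' => h2.ne (eq_of_le_of_card_ge h2.le e'.ge))
    exact (eq_of_le_of_card_ge hMD (by rw [hkD, hlM]; exact Nat.pow_le_pow_right hp.out.pos (by omega))).ge
  have hi2' : i = 2 := by
    by_contra hne
    have hDZ : kD ≤ j + 1 := by omega
    set L := zpowers d₁ ⊔ Z with hL
    have hLD : L ≤ D := sup_le (zpowers_le.2 hd₁) inf_le_left
    have h1 : Z < L := lt_of_le_of_ne le_sup_right fun e' =>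
      hd₁₂ ((mem_centralizer_iff.1 (e' ▸ mem_sup_left (mem_zpowers d₁) : d₁ ∈ Z).2 d₂ hd₂).symm)
    obtain ⟨lL, hlL⟩ := (hH.to_le (hLD.trans hDH)).exists_card_eq
    have e1 : j < lL := (Nat.pow_lt_pow_iff_right hp.out.one_lt).1 (by
      rw [← hj, ← hlL]
      exact lt_of_le_of_ne (card_le_of_le h1.le) fun e' => h1.ne (eq_of_le_of_card_ge h1.le e'.ge))
    have hLeq := eq_of_le_of_card_ge hLD (by rw [hkD, hlL]; exact Nat.pow_le_pow_right hp.out.pos (by omega))
    have hLc : L ≤ centralizer ({d₁} : Set G) := sup_le (zpowers_le.2 (mem_centralizer_singleton_iff.2 rfl))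
      fun z hz => mem_centralizer_singleton_iff.2 (mem_centralizer_iff.1 hz.2 d₁ hd₁).symm
    exact hd₁₂ (mem_centralizer_singleton_iff.1 (hLc (hLeq.ge hd₂))).symm
  have hidx : Z.relIndex D = p ^ 2 := by rw [hi, hi2']
  have hZcard : Nat.card Z = p := by rw [hj, show j = 1 by omega, pow_one]
  by_cases hDeq : D = H
  · -- then `|H| ≤ p ^ 3` and `K` is not trivial
    subst hDeq
    have hKbot : Z ≤ K := hmax Z hZn inf_le_left fun e' => by
      have : Nat.card Z = Nat.card D := by rw [e']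
      rw [hZcard, hkD] at this
      have h' : (1 : ℕ) = kD := Nat.pow_right_injective hp.out.two_le ((pow_one p).trans this)
      omega
    exact (relIndex_dvd_of_le_left _ hKbot).trans hidx.dvd
  have hDK : D ≤ K := hmax D hDn hDH hDeq
  rcases hact D Z hDn hZn hDH inf_le_left hcD (hidx ▸ dvd_rfl) with h | hc
  · exact h
  rcases hact Z ⊥ hZn inferInstance ((inf_le_left : Z ≤ D).trans hDH) bot_le
    (fun x hx y hy => by
      rw [commutatorElement_eq_one_iff_mul_comm.2 (mem_centralizer_iff.1 hy.2 x hx.1)]; exact one_mem _)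
    (by rw [relIndex_bot_left, hZcard]; exact dvd_pow_self p two_ne_zero) with h | hcZ
  · exact h
  set C := H ⊓ centralizer (D : Set G) with hC
  haveI hCn : C.Normal := normal_of C fun g hg => CfsgLib.Solvable.le_normalizer_inf
    (A := normalizer (H : Set G)) le_rfl (hND.trans (CfsgLib.Solvable.normalizer_le_normalizer_centralizer D)) hg
  have hCK : C ≤ K := hmax C hCn inf_le_left fun e' => hab fun x hx y hy =>
    mem_centralizer_iff.1 (e'.ge (hDH hy)).2 x hx
  -- `H` induces inner automorphisms on `D`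
  have hCH : C.relIndex H ≤ p ^ 2 := by
    let g : H ⧸ C.subgroupOf H → Z × Z := fun q =>
      (⟨⁅((Quotient.out q : H) : G), d₁⁆, hc _ (Subtype.mem _) _ hd₁⟩,
       ⟨⁅((Quotient.out q : H) : G), d₂⁆, hc _ (Subtype.mem _) _ hd₂⟩)
    have hg : Function.Injective g := by
      intro q r hqr
      set a := ((Quotient.out q : H) : G) with ha
      set b := ((Quotient.out r : H) : G) with hb
      have h1 : ⁅a, d₁⁆ = ⁅b, d₁⁆ := congrArg Subtype.val (congrArg Prod.fst hqr)
      have h2 : ⁅a, d₂⁆ = ⁅b, d₂⁆ := congrArg Subtype.val (congrArg Prod.snd hqr)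
      have key : ∀ d : G, ⁅a, d⁆ = ⁅b, d⁆ → d * (a⁻¹ * b) = (a⁻¹ * b) * d := by
        intro d h
        rw [commutatorElement_def, commutatorElement_def, mul_left_inj] at h
        calc d * (a⁻¹ * b) = a⁻¹ * (a * d * a⁻¹) * b := by group
          _ = a⁻¹ * (b * d * b⁻¹) * b := by rw [h]
          _ = a⁻¹ * b * d := by group
      have hab' : a⁻¹ * b ∈ H := H.mul_mem (H.inv_mem (Subtype.mem _)) (Subtype.mem _)
      have hle' : closure ({d₁, d₂} : Set G) ⊔ Z ≤ centralizer ({a⁻¹ * b} : Set G) := by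
        refine sup_le ((closure_le _).2 ?_) fun z hz => ?_
        · intro z hz
          rw [SetLike.mem_coe, mem_centralizer_singleton_iff]
          rcases hz with rfl | hz
          · exact key _ h1
          · rw [Set.mem_singleton_iff] at hz; subst hz; exact key _ h2
        · rw [mem_centralizer_singleton_iff]
          exact (commutatorElement_eq_one_iff_mul_comm.1 (mem_bot.1 (hcZ _ hab' z hz))).symm
      have hmem : a⁻¹ * b ∈ C := ⟨hab', mem_centralizer_iff.2 fun d hd =>
        mem_centralizer_singleton_iff.1 (hle' (hgenD hd))⟩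
      rw [← Quotient.out_eq q, ← Quotient.out_eq r]
      exact QuotientGroup.eq.2 hmem
    refine (Nat.card_le_card_of_injective g hg).trans ?_
    rw [Nat.card_prod, hZcard, pow_two]
  have hDC : C.relIndex (D ⊔ C) = p ^ 2 := by
    rw [relIndex_sup_right, ← inf_relIndex_right, show C ⊓ D = Z from le_antisymm
      (fun x hx => ⟨hx.2, hx.1.2⟩) (fun x hx => ⟨⟨hDH hx.1, hx.2⟩, hx.1⟩), hidx]
  have htop : D ⊔ C = H := by
    refine le_antisymm (sup_le hDH inf_le_left) (relIndex_eq_one.1 ?_)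
    have hm := relIndex_mul_relIndex C (D ⊔ C) H le_sup_right (sup_le hDH inf_le_left)
    rw [hDC] at hm
    have : (D ⊔ C).relIndex H ≤ 1 := Nat.le_of_mul_le_mul_left (by rw [hm, mul_one]; exact hCH) (pow_pos hp.out.pos 2)
    have : (D ⊔ C).relIndex H ≠ 0 := index_ne_zero_of_finite
    omega
  exact absurd (htop ▸ sup_le hDK hCK) hKH.not_ge

/-- The case of trivial `p'`-core. -/
theorem chief_dvd_of_core_trivial (hp2 : p ≠ 2) (hG : Cfsg.IsPSolvable p G) (hr : Cfsg.PRankLE p 2 G)
    (hO : Cfsg.pPrimeCore p G = ⊥) {H K : Subgroup G} [H.Normal] [K.Normal] (hKH : K < H) {n : ℕ}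
    (hpow : K.relIndex H = p ^ n) (hchief : ∀ L : Subgroup G, L.Normal → K ≤ L → L ≤ H → L = K ∨ L = H) :
    K.relIndex H ∣ p ^ 2 := by
  classical
  set R := Cfsg.pCore p G with hR
  haveI : R.Normal := by
    haveI := CfsgLib.Cores.pCore_characteristic (G := G) p
    infer_instance
  have hRp : IsPGroup p R := CfsgLib.Cores.isPGroup_pCore p
  rcases hchief ((H ⊓ R) ⊔ K) inferInstance le_sup_right (sup_le inf_le_left hKH.le) with h | h
  · -- above `R`
    obtain ⟨D, Z, hDR, hZD, hND, hNZ, hcomm, hidx, hdet⟩ :=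
      exists_section hp2 hRp (CfsgLib.PGroup.pRankLE_subgroup hr R)
    have hNR : normalizer (R : Set G) = ⊤ := Subgroup.normalizer_eq_top_iff.2 inferInstance
    have hD' : ∀ A : Subgroup G, A ≤ normalizer (D : Set G) := fun A => (le_top.trans hNR.ge).trans hND
    have hZ' : ∀ A : Subgroup G, A ≤ normalizer (Z : Set G) := fun A => (le_top.trans hNR.ge).trans hNZ
    set A := actKer ⊤ D Z (hD' ⊤) (hZ' ⊤) with hA
    have hAR : A ≤ R := by
      haveI : A.Normal := ⟨fun a ha g => by
        refine ⟨mem_top _, fun d hd => ?_⟩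
        have hd' : g⁻¹ * d * g ∈ D := by
          have := (mem_normalizer_iff.1 (hD' ⊤ (mem_top g⁻¹)) d).1 hd
          simpa using this
        have h2 := (mem_normalizer_iff.1 (hZ' ⊤ (mem_top g)) _).1 (ha.2 _ hd')
        simpa [commutatorElement_def, mul_assoc] using h2⟩
      refine CfsgLib.Cores.le_pCore ?_
      rintro ⟨a, ha⟩
      refine ⟨(orderOf a).factorization p, Subtype.ext ?_⟩
      show a ^ p ^ (orderOf a).factorization p = 1
      set u := a ^ p ^ (orderOf a).factorization p with hu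
      have hucop : (orderOf u).Coprime p := by
        rw [hu, orderOf_pow_of_dvd (pow_ne_zero _ hp.out.ne_zero) (Nat.ordProj_dvd _ _)]
        exact (Nat.coprime_ordCompl hp.out (orderOf_pos a).ne').symm
      have huR : u ∈ R := CfsgLib.Transfer.centralizer_pCore_le_of_isPSolvable hG hO
        (mem_centralizer_iff.2 fun t ht => (hdet u (hNR.ge (mem_top u)) hucop
          (fun d hd => (A.pow_mem ha _).2 d hd) t ht).symm)
      obtain ⟨i, hi⟩ := IsPGroup.iff_orderOf.1 hRp ⟨u, huR⟩
      rw [Subgroup.orderOf_mk] at hi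
      rw [← orderOf_eq_one_iff]
      exact Nat.eq_one_of_dvd_coprimes (hucop.pow_right i) dvd_rfl (dvd_of_eq hi)
    obtain ⟨P⟩ : Nonempty (Sylow p G) := inferInstance
    have hd := relIndex_actKer P.2 (hRp.to_le hDR) hZD (hD' _) (hZ' _) (hZ' D) hcomm hidx
    have hRP : R.relIndex (P : Subgroup G) ∣ p := by
      refine (relIndex_dvd_of_le_left _ ?_).trans hd
      exact fun a ha => hAR ⟨mem_top _, ha.2⟩
    have hRi : R.index ∣ p * (P : Subgroup G).index := by
      have h1 : R.index ∣ R.relIndex (P : Subgroup G) * (P : Subgroup G).index := by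
        rw [← inf_relIndex_right R, relIndex_mul_index inf_le_right]
        exact index_dvd_of_le inf_le_left
      exact h1.trans (mul_dvd_mul_right hRP _)
    have h1 : K.relIndex H ∣ p * (P : Subgroup G).index := by
      have hle : H ⊓ R ≤ K := le_sup_left.trans h.le
      refine dvd_trans ?_ ((relIndex_dvd_index_of_normal R H).trans hRi)
      rw [← inf_relIndex_right R H, inf_comm]
      exact relIndex_dvd_of_le_left _ hle
    rw [hpow] at h1 ⊢
    exact (Nat.Coprime.dvd_of_dvd_mul_right (Nat.Coprime.pow_left n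
      ((hp.out.coprime_iff_not_dvd).2 P.not_dvd_index)) h1).trans (dvd_pow_self p two_ne_zero)
  · -- inside `R`
    have hne : ¬ H ⊓ R ≤ K := fun hle => hKH.ne (by rw [← h, sup_eq_right.2 hle])
    obtain ⟨N, -, hN⟩ := Finite.exists_le_minimal (p := fun N : Subgroup G => N.Normal ∧ N ≤ H ⊓ R ∧ ¬ N ≤ K)
      ⟨inferInstance, le_rfl, hne⟩
    haveI := hN.1.1
    have hsup : N ⊔ K = H := by
      rcases hchief (N ⊔ K) inferInstance le_sup_right (sup_le (hN.1.2.1.trans inf_le_left) hKH.le) with h' | h'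
      · exact absurd (le_sup_left.trans h'.le) hN.1.2.2
      · exact h'
    have hlt : K ⊓ N < N := lt_of_le_of_ne inf_le_right fun e' => hN.1.2.2 (e' ▸ inf_le_left)
    have hdvd := chief_dvd (K := K ⊓ N) (H := N) hp2 hlt (hRp.to_le (hN.1.2.1.trans inf_le_right))
      (CfsgLib.PGroup.pRankLE_subgroup hr N) fun M hMn hM hMne => le_inf (by
        by_contra hMK
        exact hMne (le_antisymm hM (hN.2 ⟨hMn, hM.trans hN.1.2.1, hMK⟩ hM))) hM
    rwa [inf_relIndex_right, ← relIndex_sup_right, hsup] at hdvd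

end

/-- Let p be an odd prime and G a finite p-solvable group with no elementary abelian subgroup of order p³. Then every chief factor H/K of G (H, K normal in G with no normal subgroup of G strictly between them) whose order is a power of p has order p or p². -/
theorem result {G : Type*} [Group G] [Finite G] {p : ℕ} [Fact p.Prime] (hp : p ≠ 2)
    (hG : Cfsg.IsPSolvable p G) (hr : Cfsg.PRankLE p 2 G)
    (H K : Subgroup G) [H.Normal] [K.Normal] (hKH : K < H) (hpow : ∃ n : ℕ, K.relIndex H = p ^ n)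
    (hchief : ∀ L : Subgroup G, L.Normal → K ≤ L → L ≤ H → L = K ∨ L = H) :
    K.relIndex H = p ∨ K.relIndex H = p ^ 2 := by
  classical
  obtain ⟨n, hn⟩ := hpow
  have hpF : Fact p.Prime := inferInstance
  set O := Cfsg.pPrimeCore p G with hO
  set π := QuotientGroup.mk' O with hπ
  have hπs : Function.Surjective π := QuotientGroup.mk'_surjective O
  have hker : π.ker = O := QuotientGroup.ker_mk' O
  haveI hH' : (H.map π).Normal := Subgroup.Normal.map inferInstance π hπs
  haveI hK' : (K.map π).Normal := Subgroup.Normal.map inferInstance π hπs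
  -- the factor survives
  have hinf : H ⊓ (K ⊔ O) = K := by
    refine le_antisymm ?_ (le_inf hKH.le le_sup_left)
    have h1 : K.relIndex (H ⊓ (K ⊔ O)) ∣ p ^ n := hn ▸ Dvd.intro _
      (Subgroup.relIndex_mul_relIndex K _ H (le_inf hKH.le le_sup_left) inf_le_left)
    have h2 : K.relIndex (H ⊓ (K ⊔ O)) ∣ Nat.card O := by
      refine (Dvd.intro _ (Subgroup.relIndex_mul_relIndex K _ (K ⊔ O) (le_inf hKH.le le_sup_left) inf_le_right)).trans ?_
      rw [sup_comm, Subgroup.relIndex_sup_right]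
      exact Subgroup.relIndex_dvd_card _ _
    exact Subgroup.relIndex_eq_one.1 (Nat.eq_one_of_dvd_coprimes
      ((CfsgLib.Cores.coprime_card_pPrimeCore p).pow_right n).symm h1 h2)
  have hrel : (K.map π).relIndex (H.map π) = K.relIndex H := by
    rw [Subgroup.relIndex_map_map, hker]
    have h1 : (K ⊔ O).relIndex (H ⊔ O) = (K ⊔ O).relIndex H := by
      rw [show H ⊔ O = H ⊔ (K ⊔ O) by rw [← sup_assoc, sup_eq_left.2 hKH.le], Subgroup.relIndex_sup_right]
    rw [h1, ← Subgroup.inf_relIndex_right, inf_comm, hinf]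
  have hlt : K.map π < H.map π := lt_of_le_of_ne (Subgroup.map_mono hKH.le) fun h => by
    rw [h, Subgroup.relIndex_self] at hrel
    exact hKH.not_ge (Subgroup.relIndex_eq_one.1 hrel.symm)
  have hd := chief_dvd_of_core_trivial hp (CfsgLib.Transfer.isPSolvable_quotient hG O)
    (CfsgLib.OddLocal.Ten.pRankLE_quotient O (CfsgLib.Cores.not_dvd_card_pPrimeCore p) hr)
    (CfsgLib.Cores.pPrimeCore_quotient_self p) hlt (hrel.trans hn) fun L hL hKL hLH => by
      haveI := hL
      rcases hchief (L.comap π ⊓ H) inferInstance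
        (le_inf (Subgroup.map_le_iff_le_comap.1 hKL) hKH.le) inf_le_right with h | h
      · left
        refine le_antisymm ?_ hKL
        intro y hy
        obtain ⟨x, hx, rfl⟩ := hLH hy
        exact ⟨x, h.le ⟨hy, hx⟩, rfl⟩
      · right
        exact le_antisymm hLH (Subgroup.map_le_iff_le_comap.2 (h.ge.trans inf_le_left))
  rw [hrel] at hd
  obtain ⟨m, hm, hme⟩ := (Nat.dvd_prime_pow hpF.out).1 hd
  rcases Nat.eq_zero_or_pos m with h0 | h0
  · exact absurd (Subgroup.relIndex_eq_one.1 (by rw [hme, h0, pow_zero])) hKH.not_ge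
  · rcases (show m = 1 ∨ m = 2 by omega) with h | h
    · exact Or.inl (by rw [hme, h, pow_one])
    · exact Or.inr (by rw [hme, h])

end Cfsg.Agent.S1895
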