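import Cfsg.Statements.S1896
import Cfsg.Agent.Lib.PGroup.Basic
import Cfsg.Agent.Lib.Solvable.UniqueSubgroup
import Cfsg.Agent.Lib.Transfer.Critical
import Mathlib.GroupTheory.SpecificGroups.Quaternion

set_option autoImplicit false
open Cfsg

namespace Cfsg.Agent.S1896

section
open Subgroup
open scoped commutatorElement

universe u

theorem closure_pair_comm {G : Type*} [Group G] {a b : G} (h : a * b = b * a)
    (htop : closure ({a, b} : Set G) = ⊤) : ∀ x y : G, x * y = y * x := by
  intro x y
  have hle : closure ({a, b} : Set G) ≤ centralizer ({a, b} : Set G) := by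
    rw [closure_le]
    intro s hs
    rw [SetLike.mem_coe, mem_centralizer_iff]
    intro t ht
    simp only [Set.mem_insert_iff, Set.mem_singleton_iff] at hs ht
    rcases hs with rfl | rfl <;> rcases ht with rfl | rfl
    · rfl
    · exact h.symm
    · exact h
    · rfl
  have hy : y ∈ centralizer ({x} : Set G) := by
    have h2 : closure ({a, b} : Set G) ≤ centralizer ({x} : Set G) := by
      rw [closure_le]
      intro s hs
      rw [SetLike.mem_coe, mem_centralizer_singleton_iff]
      exact mem_centralizer_iff.1 (hle (htop ▸ mem_top x)) s hs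
    exact h2 (htop ▸ mem_top y)
  exact (mem_centralizer_singleton_iff.1 hy).symm

/-- A metacyclic group of exponent `m` has order at most `m ^ 2`. -/
theorem card_le_of_exponent {G : Type*} [Group G] [Finite G] (hm : Cfsg.IsMetacyclic G) {m : ℕ} (hm0 : 0 < m)
    (h : ∀ x : G, x ^ m = 1) : Nat.card G ≤ m * m := by
  obtain ⟨N, hNn, hN, hQ⟩ := hm
  obtain ⟨g, hg⟩ := hN.exists_generator
  obtain ⟨q, hq⟩ := hQ.exists_generator
  rw [card_eq_card_quotient_mul_card_subgroup N, ← orderOf_eq_card_of_forall_mem_zpowers hg,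
    ← orderOf_eq_card_of_forall_mem_zpowers hq]
  refine Nat.mul_le_mul (Nat.le_of_dvd hm0 (orderOf_dvd_of_pow_eq_one ?_))
    (Nat.le_of_dvd hm0 (orderOf_dvd_of_pow_eq_one (Subtype.ext ?_)))
  · obtain ⟨x, rfl⟩ := QuotientGroup.mk_surjective q
    rw [← QuotientGroup.mk_pow, h, QuotientGroup.mk_one]
  · exact h _

theorem four_mul {V : Type*} [Group V] (hV : ∀ v : V, v * v = 1) (hc : ∀ v w : V, v * w = w * v) {a b v w : V}
    (hv : v = 1 ∨ v = a ∨ v = b ∨ v = a * b) (hw : w = 1 ∨ w = a ∨ w = b ∨ w = a * b) :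
    v * w = 1 ∨ v * w = a ∨ v * w = b ∨ v * w = a * b := by
  have e4 : a * (a * b) = b := by rw [← mul_assoc, hV, one_mul]
  have e5 : b * a = a * b := hc b a
  have e3 : b * (a * b) = a := by rw [← e5, ← mul_assoc, hV, one_mul]
  have e1 : a * b * a = b := by rw [hc (a * b) a, e4]
  have e2 : a * b * b = a := by rw [mul_assoc, hV, mul_one]
  rcases hv with hv | hv | hv | hv <;> rcases hw with hw | hw | hw | hw <;> rw [hv, hw] <;>
    simp only [one_mul, mul_one, hV, e1, e2, e3, e4, e5, true_or, or_true]

theorem four_basis {V : Type*} [Group V] [Finite V] (hV : ∀ v : V, v * v = 1) {a b : V}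
    (h : ∀ v : V, v = 1 ∨ v = a ∨ v = b ∨ v = a * b) {x y : V} (hx : x ≠ 1) (hy : y ≠ 1) (hxy : y ≠ x) :
    ∀ v : V, v = 1 ∨ v = x ∨ v = y ∨ v = x * y := by
  classical
  haveI := Fintype.ofFinite V
  have h4 : Fintype.card V ≤ 4 := by
    refine (Finset.card_le_card (s := Finset.univ) (t := {1, a, b, a * b}) fun v _ => ?_).trans Finset.card_le_four
    simpa using h v
  have hxy1 : x * y ≠ 1 := fun e => hxy (mul_left_cancel (e.trans (hV x).symm))
  have hcard : ({1, x, y, x * y} : Finset V).card = 4 := by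
    rw [Finset.card_insert_of_notMem, Finset.card_insert_of_notMem, Finset.card_pair]
    · exact fun e => hx (mul_eq_right.1 e.symm)
    · simp only [Finset.mem_insert, Finset.mem_singleton, not_or]
      exact ⟨hxy.symm, fun e => hy (mul_eq_left.1 e.symm)⟩
    · simp only [Finset.mem_insert, Finset.mem_singleton, not_or]
      exact ⟨hx.symm, hy.symm, hxy1.symm⟩
  have hu : ({1, x, y, x * y} : Finset V) = Finset.univ := by
    apply Finset.eq_univ_of_card
    have := Finset.card_le_univ ({1, x, y, x * y} : Finset V)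
    omega
  intro v
  have := Finset.mem_univ v
  rw [← hu] at this
  simpa using this

theorem key : ∀ (m : ℕ) (X : Type u) [Group X] [Finite X], Nat.card X = m → IsPGroup 2 X →
    Cfsg.IsMetacyclic X → ∀ φ : MulAut X, (orderOf φ).Prime → orderOf φ ≠ 2 →
    Nonempty (X ≃* QuaternionGroup 2) ∨
      ∃ n : ℕ, Nonempty (X ≃* Multiplicative (ZMod (2 ^ n)) × Multiplicative (ZMod (2 ^ n))) := by
  intro m
  induction m using Nat.strong_induction_on with
  | _ m ih =>
  intro X _ _ hcard hX hm φ hφp hφ2
  classical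
  haveI : Fact (Nat.Prime 2) := ⟨Nat.prime_two⟩
  haveI hqF : Fact (orderOf φ).Prime := ⟨hφp⟩
  set q := orderOf φ with hq
  have hqodd : Odd q := hφp.odd_of_ne_two hφ2
  set Φ := frattini X with hΦ
  have hΦc : ∀ x ∈ Φ, ∀ ψ : MulAut X, ψ x ∈ Φ := fun x hx ψ =>
    characteristic_iff_map_le.1 inferInstance ψ ⟨x, hx, rfl⟩
  let π := QuotientGroup.mk' Φ
  have hπ : ∀ x y : X, π x = π y ↔ x⁻¹ * y ∈ Φ := fun x y => QuotientGroup.eq
  -- two generators
  obtain ⟨g₁, g₂, hgen⟩ : ∃ g₁ g₂ : X, closure ({g₁, g₂} : Set X) = ⊤ := by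
    obtain ⟨N, hNn, hN, hQ⟩ := hm
    obtain ⟨⟨g, hgN⟩, hg⟩ := hN.exists_generator
    obtain ⟨qq, hqq⟩ := hQ.exists_generator
    obtain ⟨b, rfl⟩ := QuotientGroup.mk_surjective qq
    refine ⟨g, b, eq_top_iff.2 fun x _ => ?_⟩
    obtain ⟨i, hi⟩ := mem_zpowers_iff.1 (hqq (x : X ⧸ N))
    rw [← QuotientGroup.mk_zpow, QuotientGroup.eq] at hi
    obtain ⟨j, hj⟩ := mem_zpowers_iff.1 (hg ⟨_, hi⟩)
    have hj' : g ^ j = (b ^ i)⁻¹ * x := congrArg Subtype.val hj
    rw [show x = b ^ i * g ^ j by rw [hj', mul_inv_cancel_left]]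
    exact mul_mem (zpow_mem (subset_closure (by simp)) i) (zpow_mem (subset_closure (by simp)) j)
  -- the Frattini quotient has at most four elements
  have hQe : ∀ v : X ⧸ Φ, v * v = 1 := fun v => by rw [← pow_two]; exact CfsgLib.PGroup.quotient_frattini_pow hX v
  have hQc : ∀ v w : X ⧸ Φ, v * w = w * v := CfsgLib.PGroup.quotient_frattini_comm hX
  have hfour : ∀ v : X ⧸ Φ, v = 1 ∨ v = π g₁ ∨ v = π g₂ ∨ v = π g₁ * π g₂ := by
    intro v
    obtain ⟨x, rfl⟩ := QuotientGroup.mk'_surjective Φ v
    have hx : x ∈ closure ({g₁, g₂} : Set X) := hgen ▸ mem_top x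
    induction hx using closure_induction with
    | mem y hy =>
      rcases hy with rfl | hy
      · exact Or.inr (Or.inl rfl)
      · rw [Set.mem_singleton_iff.1 hy]; exact Or.inr (Or.inr (Or.inl rfl))
    | one => exact Or.inl (map_one _)
    | mul y w _ _ hy hw =>
      rw [map_mul]
      exact four_mul hQe hQc hy hw
    | inv y _ hy =>
      have : π y⁻¹ = π y := by rw [map_inv]; exact inv_eq_of_mul_eq_one_left (hQe _)
      simpa [π, this] using hy
  -- a nonidentity element of the quotient is moved
  have hφmk : ∀ x y : X, π x = π y → π (φ x) = π (φ y) := fun x y h => by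
    rw [hπ] at h ⊢
    simpa using hΦc _ h φ
  have hnotall : ¬ ∀ x : X, π (φ x) = π x := by
    intro hall
    refine hφp.ne_one (orderOf_eq_one_iff.2 ?_)
    let Z := Subgroup.zpowers φ
    have hZp : IsPGroup q Z := IsPGroup.of_card (n := 1) (by rw [Nat.card_zpowers, pow_one])
    -- fixed points in each coset
    let Fix : Subgroup X :=
      { carrier := {x | φ x = x}
        one_mem' := map_one φ
        mul_mem' := fun {a b} ha hb => by
          show φ (a * b) = a * b
          rw [map_mul, show φ a = a from ha, show φ b = b from hb]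
        inv_mem' := fun {a} ha => by
          show φ a⁻¹ = a⁻¹
          rw [map_inv, show φ a = a from ha] }
    have hfix : Fix ⊔ Φ = ⊤ := by
      rw [eq_top_iff]
      intro x _
      let S := {y : X // π y = π x}
      let σ : Equiv.Perm S := Equiv.Perm.subtypePerm (φ.toEquiv : Equiv.Perm X) fun y => by
        show π (φ y) = π x ↔ π y = π x
        rw [hall y]
      have hσ : σ ^ q ^ 1 = 1 := by
        rw [pow_one]
        ext y
        rw [Equiv.Perm.subtypePerm_pow]
        show ((φ.toEquiv : Equiv.Perm X) ^ q) (y : X) = (y : X)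
        have : (φ.toEquiv : Equiv.Perm X) ^ q = (φ ^ q).toEquiv := (map_pow (MulAut.toPerm X) φ q).symm
        rw [this, hq, pow_orderOf_eq_one]; rfl
      haveI := Fintype.ofFinite S
      have hmod := Equiv.Perm.card_compl_support_modEq (p := q) (n := 1) hσ
      have hS : Fintype.card S = Nat.card Φ := by
        rw [← Nat.card_eq_fintype_card]
        exact Nat.card_congr
          { toFun := fun y => ⟨x⁻¹ * y.1, (hπ x y.1).1 y.2.symm⟩
            invFun := fun f => ⟨x * f.1, ((hπ x (x * f.1)).2 (by simp)).symm⟩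
            left_inv := fun y => by simp
            right_inv := fun f => by simp }
      obtain ⟨kk, hkk⟩ := (hX.to_subgroup Φ).exists_card_eq
      have hne : (σ.supportᶜ).card ≠ 0 := by
        intro h0
        rw [h0, hS, hkk] at hmod
        have : q ∣ 2 ^ kk := Nat.modEq_zero_iff_dvd.1 hmod.symm
        exact hφ2 ((Nat.prime_dvd_prime_iff_eq hφp Nat.prime_two).1 (hφp.dvd_of_dvd_pow this))
      obtain ⟨⟨y, hy⟩, hymem⟩ := Finset.card_ne_zero.1 hne
      rw [Finset.mem_compl, Equiv.Perm.mem_support, not_not] at hymem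
      have hyF : y ∈ Fix := congrArg Subtype.val hymem
      rw [show x = y * (y⁻¹ * x) by group]
      exact mul_mem_sup hyF ((hπ y x).1 hy)
    have hFix := CfsgLib.PGroup.eq_top_of_sup_frattini hfix
    exact MulEquiv.ext fun x => (hFix.ge (mem_top x) : φ x = x)
  have hmove : ∀ x : X, x ∉ Φ → π (φ x) ≠ π x := by
    intro x hx hfx
    apply hnotall
    by_contra hex
    push_neg at hex
    obtain ⟨w, hw⟩ := hex
    have hx1 : π x ≠ 1 := fun h => hx ((QuotientGroup.eq_one_iff x).1 h)
    have hw1 : π w ≠ 1 := fun h => hw (by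
      rw [h]; exact (QuotientGroup.eq_one_iff _).2 (hΦc w ((QuotientGroup.eq_one_iff w).1 h) φ))
    have hxw : π w ≠ π x := fun h => hw (by rw [h, ← hfx]; exact hφmk w x h)
    have hall : ∀ v : X ⧸ Φ, v = 1 ∨ v = π x ∨ v = π w ∨ v = π x * π w :=
      four_basis hQe hfour hx1 hw1 hxw
    -- `φ` fixes `x` modulo `Φ`, so swaps the other two cosets
    have hwv : π (φ w) = π x * π w := by
      rcases hall (π (φ w)) with h | h | h | h
      · exfalso
        apply hw1
        have h' : φ w ∈ Φ := (QuotientGroup.eq_one_iff _).1 h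
        have := hΦc _ h' φ⁻¹
        exact (QuotientGroup.eq_one_iff w).2 (by simpa using this)
      · exfalso
        apply hxw
        have h' := (hπ _ _).1 (h.trans hfx.symm)
        have h'' := hΦc _ h' φ⁻¹
        exact (hπ w x).2 (by simpa using h'')
      · exact absurd h hw
      · exact h
    have hparity : ∀ k : ℕ, π ((φ ^ k) w) = π x ^ k * π w := by
      intro k
      induction k with
      | zero => simp
      | succ k ihk =>
        have hxk : ∀ j : ℕ, π (φ (x ^ j)) = π x ^ j := fun j => by rw [map_pow φ, map_pow π, hfx]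
        have e : π ((φ ^ k) w) = π (x ^ k * w) := by rw [ihk, map_mul, map_pow]
        rw [pow_succ', MulAut.mul_apply, hφmk _ _ e, map_mul φ, map_mul π, hxk, hwv, pow_succ, mul_assoc]
    have h := hparity q
    rw [hq, pow_orderOf_eq_one, MulAut.one_apply, ← hq] at h
    obtain ⟨k, hk⟩ := hqodd
    rw [hk, pow_succ, pow_mul, pow_two, hQe, one_pow, one_mul] at h
    exact hx1 (right_eq_mul.1 h)
  -- invariant subgroups
  have hinv : ∀ M : Subgroup X, (∀ x ∈ M, φ x ∈ M) → M ≤ Φ ∨ M = ⊤ := by
    intro M hM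
    refine or_iff_not_imp_left.2 fun hne => ?_
    obtain ⟨x, hxM, hx⟩ := SetLike.not_le_iff_exists.1 hne
    refine CfsgLib.PGroup.eq_top_of_sup_frattini (eq_top_iff.2 fun w _ => ?_)
    have hx1 : π x ≠ 1 := fun h => hx ((QuotientGroup.eq_one_iff x).1 h)
    have hy1 : π (φ x) ≠ 1 := fun h => by
      have h' := hΦc _ ((QuotientGroup.eq_one_iff _).1 h) φ⁻¹
      exact hx (by simpa using h')
    have hyx := hmove x hx
    have hmem : ∀ u ∈ M, ∀ v, π u = v → π w = v → w ∈ M ⊔ frattini X := fun u hu v h1 h2 => by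
      rw [show w = u * (u⁻¹ * w) by group]
      exact mul_mem_sup hu ((hπ u w).1 (h1.trans h2.symm))
    have hall : π w = 1 ∨ π w = π x ∨ π w = π (φ x) ∨ π w = π (x * φ x) := by
      rw [map_mul]
      exact four_basis hQe hfour hx1 hy1 hyx _
    rcases hall with h | h | h | h
    · exact hmem 1 M.one_mem 1 (map_one _) h
    · exact hmem x hxM _ rfl h
    · exact hmem _ (hM x hxM) _ rfl h
    · exact hmem _ (M.mul_mem hxM (hM x hxM)) _ rfl h
  obtain ⟨a, ha⟩ : ∃ a : X, a ∉ Φ := by
    by_contra hc; push_neg at hc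
    exact hnotall fun x => (hπ _ _).2 (hc _)
  set b := φ a with hb
  have hab_gen : closure ({a, b} : Set X) = ⊤ := by
    refine CfsgLib.PGroup.eq_top_of_sup_frattini (eq_top_iff.2 fun w _ => ?_)
    have ha1 : π a ≠ 1 := fun h => ha ((QuotientGroup.eq_one_iff a).1 h)
    have hb1 : π b ≠ 1 := fun h => by
      have h' := hΦc _ ((QuotientGroup.eq_one_iff _).1 h) φ⁻¹
      exact ha (by simpa [b] using h')
    have hba := hmove a ha
    have hmem : ∀ u ∈ closure ({a, b} : Set X), π u = π w → w ∈ closure ({a, b} : Set X) ⊔ frattini X := fun u hu h => by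
      rw [show w = u * (u⁻¹ * w) by group]
      exact mul_mem_sup hu ((hπ u w).1 h)
    have hall : π w = 1 ∨ π w = π a ∨ π w = π b ∨ π w = π (a * b) := by
      rw [map_mul]
      exact four_basis hQe hfour ha1 hb1 hba _
    rcases hall with h | h | h | h
    · exact hmem 1 (one_mem _) ((map_one π).trans h.symm)
    · exact hmem a (subset_closure (by simp)) h.symm
    · exact hmem b (subset_closure (by simp)) h.symm
    · exact hmem _ (mul_mem (subset_closure (by simp)) (subset_closure (by simp))) h.symm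
  have hab_ne : π b ≠ π a := hmove a ha
  by_cases hcomm : ∀ x y : X, x * y = y * x
  · -- abelian
    right
    obtain ⟨n, hn⟩ := IsPGroup.iff_orderOf.1 hX a
    let S : ℕ → Subgroup X := fun k =>
      { carrier := {x | x ^ 2 ^ k = 1}
        one_mem' := one_pow _
        mul_mem' := fun {x y} hx hy => by
          show (x * y) ^ 2 ^ k = 1
          rw [Commute.mul_pow (hcomm x y), show x ^ 2 ^ k = 1 from hx, show y ^ 2 ^ k = 1 from hy, mul_one]
        inv_mem' := fun {x} hx => by
          show x⁻¹ ^ 2 ^ k = 1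
          rw [inv_pow, show x ^ 2 ^ k = 1 from hx, inv_one] }
    have hSinv : ∀ k, ∀ x ∈ S k, φ x ∈ S k := fun k x hx => by
      show φ x ^ 2 ^ k = 1
      rw [← map_pow, show x ^ 2 ^ k = 1 from hx, map_one]
    have hexp : ∀ x : X, x ^ 2 ^ n = 1 := by
      rcases hinv (S n) (hSinv n) with h | h
      · exact absurd (h (show a ^ 2 ^ n = 1 by rw [← hn, pow_orderOf_eq_one])) ha
      · exact fun x => (h.ge (mem_top x) : x ∈ S n)
    have hn0 : n ≠ 0 := fun h0 => ha (by
      rw [h0, pow_zero, orderOf_eq_one_iff] at hn; rw [hn]; exact Φ.one_mem)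
    have hbo : orderOf b = 2 ^ n := by rw [hb, MulEquiv.orderOf_eq, hn]
    have hdisj : ∀ i j : ℤ, a ^ i = b ^ j → a ^ i = 1 := by
      intro i j hij
      by_contra hne
      have hlow : ∀ (g : X), orderOf g = 2 ^ n → ∀ w ∈ zpowers g, w ^ 2 = 1 → w ≠ 1 → w = g ^ 2 ^ (n - 1) := by
        intro g hg w hw hw2 hw1
        have he : (g ^ 2 ^ (n - 1)) ^ 2 = 1 := by
          rw [← pow_mul, ← pow_succ, Nat.sub_add_cancel (Nat.pos_of_ne_zero hn0), ← hg, pow_orderOf_eq_one]
        have he1 : g ^ 2 ^ (n - 1) ≠ 1 := pow_ne_one_of_lt_orderOf (by positivity)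
          (by rw [hg]; exact Nat.pow_lt_pow_right one_lt_two (by omega))
        by_contra hwe
        haveI := Fintype.ofFinite (zpowers g)
        have h3 := IsCyclic.card_pow_eq_one_le (α := zpowers g) two_pos
        have hsub : ({⟨1, one_mem _⟩, ⟨w, hw⟩, ⟨g ^ 2 ^ (n - 1), pow_mem (mem_zpowers g) _⟩} : Finset (zpowers g)).card = 3 := by
          rw [Finset.card_insert_of_notMem, Finset.card_pair]
          · simpa [Subtype.ext_iff] using hwe
          · simp [Subtype.ext_iff, Ne.symm hw1, Ne.symm he1]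
        have := le_trans (Finset.card_le_card (s := ({⟨1, one_mem _⟩, ⟨w, hw⟩, ⟨g ^ 2 ^ (n - 1), pow_mem (mem_zpowers g) _⟩} : Finset (zpowers g))) (t := Finset.univ.filter fun v : zpowers g => v ^ 2 = 1) (by
          intro v hv
          simp only [Finset.mem_insert, Finset.mem_singleton] at hv
          simp only [Finset.mem_filter, Finset.mem_univ, true_and]
          rcases hv with rfl | rfl | rfl <;> apply Subtype.ext <;> simp [hw2, he])) h3
        omega
      obtain ⟨k, hk⟩ := IsPGroup.iff_orderOf.1 hX (a ^ i)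
      obtain ⟨k', rfl⟩ : ∃ k', k = k' + 1 := ⟨k - 1, by
        rcases Nat.eq_zero_or_pos k with h0 | h0
        · rw [h0, pow_zero, orderOf_eq_one_iff] at hk; exact absurd hk hne
        · omega⟩
      set w := (a ^ i) ^ 2 ^ k' with hw
      have hw2 : w ^ 2 = 1 := by rw [hw, ← pow_mul, ← pow_succ, ← hk, pow_orderOf_eq_one]
      have hw1 : w ≠ 1 := pow_ne_one_of_lt_orderOf (by positivity) (by rw [hk]; exact Nat.pow_lt_pow_right one_lt_two (by omega))
      have hwa := hlow a hn w (pow_mem (zpow_mem (mem_zpowers a) i) _) hw2 hw1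
      have hwb := hlow b hbo w (by rw [hw, hij]; exact pow_mem (zpow_mem (mem_zpowers b) j) _) hw2 hw1
      have hmem : a⁻¹ * b ∈ S (n - 1) := by
        show (a⁻¹ * b) ^ 2 ^ (n - 1) = 1
        rw [Commute.mul_pow (hcomm _ _), inv_pow, ← hwa, ← hwb, inv_mul_cancel]
      rcases hinv _ (hSinv (n - 1)) with h | h
      · exact hab_ne ((hπ a b).2 (h hmem)).symm
      · have : a ^ 2 ^ (n - 1) = 1 := (h.ge (mem_top a) : a ∈ S (n - 1))
        exact hw1 (hwa.trans this)
    let f : zpowers a × zpowers b →* X :=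
      MonoidHom.mk' (fun v => (v.1 : X) * v.2) fun v w => by
        show ((v.1 : X) * w.1) * ((v.2 : X) * w.2) = (v.1 : X) * v.2 * ((w.1 : X) * w.2)
        simp only [mul_assoc]
        rw [← mul_assoc (w.1 : X), hcomm (w.1 : X) v.2, mul_assoc]
    have hf : Function.Bijective f := by
      refine ⟨(injective_iff_map_eq_one f).2 fun v hv => ?_, fun x => ?_⟩
      · obtain ⟨⟨v1, i, rfl⟩, ⟨v2, j, rfl⟩⟩ := v
        have hv' : a ^ i * b ^ j = 1 := hv
        have h1 := hdisj i (-j) (by rw [zpow_neg]; exact eq_inv_of_mul_eq_one_left hv')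
        rw [h1, one_mul] at hv'
        exact Prod.ext (Subtype.ext h1) (Subtype.ext hv')
      · have hle : closure ({a, b} : Set X) ≤ f.range := by
          rw [closure_le]
          intro y hy0
          rcases hy0 with hy | hy
          · rw [hy]; exact ⟨(⟨a, mem_zpowers a⟩, 1), by simp [f]⟩
          · rw [Set.mem_singleton_iff.1 hy]; exact ⟨(1, ⟨b, mem_zpowers b⟩), by simp [f]⟩
        exact hle (hab_gen ▸ mem_top x)
    have ea : Multiplicative (ZMod (2 ^ n)) ≃* zpowers a := by
      have := zmodCyclicMulEquiv (G := zpowers a) inferInstance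
      rwa [Nat.card_zpowers, hn] at this
    have eb : Multiplicative (ZMod (2 ^ n)) ≃* zpowers b := by
      have := zmodCyclicMulEquiv (G := zpowers b) inferInstance
      rwa [Nat.card_zpowers, hbo] at this
    exact ⟨n, ⟨((MulEquiv.prodCongr ea eb).trans (MulEquiv.ofBijective f hf)).symm⟩⟩
  -- not abelian
  left
  obtain ⟨N, hNn, hN, hQ⟩ := id hm
  have hder : ∀ x y : X, ⁅x, y⁆ ∈ N := fun x y => by
    rw [← QuotientGroup.eq_one_iff (N := N), ← QuotientGroup.mk'_apply, map_commutatorElement,
      commutatorElement_eq_one_iff_mul_comm]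
    haveI := hQ
    exact Std.Commutative.comm (op := (· * ·)) _ _
  set D := _root_.commutator X with hD
  have hDN : D ≤ N := commutator_le.2 fun x _ y _ => hder x y
  haveI : IsCyclic D := isCyclic_of_injective (Subgroup.inclusion hDN) (Subgroup.inclusion_injective hDN)
  have hD1 : D ≠ ⊥ := fun h => hcomm fun x y =>
    commutatorElement_eq_one_iff_mul_comm.1 (mem_bot.1 (h ▸ commutator_mem_commutator (mem_top x) (mem_top y)))
  obtain ⟨d, hd⟩ := exists_prime_orderOf_dvd_card' (G := D) 2 (by
    obtain ⟨k, hk⟩ := (hX.to_subgroup D).exists_card_eq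
    rw [hk]
    exact dvd_pow_self 2 fun h0 => hD1 (eq_bot_of_card_eq _ (by rw [hk, h0, pow_zero])))
  set z : X := (d : X) with hz
  have hz2 : z * z = 1 := by
    have : d ^ 2 = 1 := by rw [← hd, pow_orderOf_eq_one]
    rw [← pow_two]; exact congrArg Subtype.val this
  have hz1 : z ≠ 1 := fun h => by
    have : d = 1 := Subtype.ext h
    rw [this, orderOf_one] at hd; omega
  have huz : ∀ w ∈ D, w * w = 1 → w ≠ 1 → w = z := by
    intro w hw hw2 hw1
    by_contra hne
    haveI := Fintype.ofFinite D
    have h3 := IsCyclic.card_pow_eq_one_le (α := D) two_pos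
    have hsub : ({1, ⟨w, hw⟩, d} : Finset D).card = 3 := by
      rw [Finset.card_insert_of_notMem, Finset.card_pair]
      · exact fun e => hne (congrArg Subtype.val e)
      · simp only [Finset.mem_insert, Finset.mem_singleton]
        rintro (e | e)
        · exact hw1 (congrArg Subtype.val e).symm
        · exact hz1 (congrArg Subtype.val e).symm
    have := le_trans (Finset.card_le_card (s := ({1, ⟨w, hw⟩, d} : Finset D)) (t := Finset.univ.filter fun v : D => v ^ 2 = 1) (by
      intro v hv
      simp only [Finset.mem_insert, Finset.mem_singleton] at hv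
      simp only [Finset.mem_filter, Finset.mem_univ, true_and]
      rcases hv with rfl | rfl | rfl
      · exact one_pow 2
      · exact Subtype.ext (by simpa [pow_two] using hw2)
      · exact Subtype.ext (by simpa [pow_two] using hz2))) h3
    omega
  have hfixz : ∀ ψ : MulAut X, ψ z = z := fun ψ => huz _
    (characteristic_iff_map_le.1 inferInstance ψ ⟨z, d.2, rfl⟩)
    (by rw [← map_mul, hz2, map_one]) (fun h => hz1 (by
      have := congrArg ψ⁻¹ h
      simpa using this))
  have hzc : z ∈ center X := mem_center_iff.2 fun g => by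
    have := hfixz (MulAut.conj g)
    exact mul_inv_eq_iff_eq_mul.1 this
  have hzD : z ∈ D := d.2
  have hzΦ : z ∈ Φ := CfsgLib.PGroup.commutator_le_frattini hX hzD
  set Zz := zpowers z with hZz
  haveI hZn : Zz.Normal := ⟨fun w hw g => by
    have hwc : w ∈ center X := (zpowers_le.2 hzc) hw
    rwa [mem_center_iff.1 hwc g, mul_inv_cancel_right]⟩
  have hZset : ∀ w ∈ Zz, w = 1 ∨ w = z := by
    intro w hw
    by_cases h1 : w = 1
    · exact Or.inl h1
    · refine Or.inr (huz w ((zpowers_le.2 hzD) hw) ?_ h1)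
      obtain ⟨i, rfl⟩ := mem_zpowers_iff.1 hw
      rw [← zpow_add, ← two_mul, zpow_mul, zpow_two, hz2, one_zpow]
  have hZcard : Nat.card Zz = 2 := by
    rw [hZz, Nat.card_zpowers]
    exact orderOf_eq_prime (by rw [pow_two, hz2]) hz1
  let Y := X ⧸ Zz
  have hYcard : Nat.card X = 2 * Nat.card Y := by
    rw [card_eq_card_quotient_mul_card_subgroup Zz, hZcard, mul_comm]
  let ψ : MulAut Y := QuotientGroup.congr Zz Zz φ (by
    rw [hZz, MonoidHom.map_zpowers]; exact congrArg zpowers (hfixz φ))
  have hψmk : ∀ x : X, ψ (x : Y) = ((φ x : X) : Y) := fun x => rfl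
  have hψpow : ∀ k : ℕ, ∀ x : X, (ψ ^ k) (x : Y) = (((φ ^ k) x : X) : Y) := by
    intro k
    induction k with
    | zero => exact fun x => rfl
    | succ k ihk => exact fun x => by rw [pow_succ', MulAut.mul_apply, ihk, hψmk, pow_succ', MulAut.mul_apply]
  have hψo : orderOf ψ = q := by
    refine orderOf_eq_prime ?_ fun h => hab_ne ?_
    · ext y
      induction y using QuotientGroup.induction_on with
      | _ x => rw [hψpow, hq, pow_orderOf_eq_one]; rfl
    · have h1 : ((φ a : X) : Y) = (a : Y) := by rw [← hψmk, h]; rfl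
      rw [QuotientGroup.eq] at h1
      exact (hπ _ _).2 ((zpowers_le.2 hzΦ) h1)
  have hYmeta : Cfsg.IsMetacyclic Y := by
    haveI := hN; haveI := hQ
    refine ⟨N.map (QuotientGroup.mk' Zz), Normal.map hNn _ (QuotientGroup.mk'_surjective _), ?_, ?_⟩
    · exact isCyclic_of_surjective ((QuotientGroup.mk' Zz).subgroupMap N) ((QuotientGroup.mk' Zz).subgroupMap_surjective N)
    · haveI : (N.map (QuotientGroup.mk' Zz)).Normal := Normal.map hNn _ (QuotientGroup.mk'_surjective _)
      refine isCyclic_of_surjective (QuotientGroup.map N (N.map (QuotientGroup.mk' Zz)) (QuotientGroup.mk' Zz)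
        (le_comap_map _ _)) fun y => ?_
      induction y using QuotientGroup.induction_on with
      | _ y =>
        induction y using QuotientGroup.induction_on with
        | _ x => exact ⟨(x : X ⧸ N), rfl⟩
  have hlt : Nat.card Y < m := by
    have := Nat.card_pos (α := Y)
    omega
  rcases ih _ hlt Y rfl (hX.to_quotient Zz) hYmeta ψ (hψo ▸ hφp) (hψo ▸ hφ2) with ⟨⟨e⟩⟩ | ⟨n, ⟨e⟩⟩
  · -- the quotient is not quaternion
    exfalso
    have hq1 : (QuaternionGroup.a 1 : QuaternionGroup 2) * QuaternionGroup.a 1 = QuaternionGroup.a 2 := by decide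
    have hq2 : (QuaternionGroup.xa 0 : QuaternionGroup 2) * QuaternionGroup.xa 0 = QuaternionGroup.a 2 := by decide
    have hq3 : (QuaternionGroup.a 1 : QuaternionGroup 2) * QuaternionGroup.xa 0 * (QuaternionGroup.a 1)⁻¹ *
        (QuaternionGroup.xa 0)⁻¹ = QuaternionGroup.a 2 := by decide
    have hq4 : (QuaternionGroup.a 2 : QuaternionGroup 2) ≠ 1 := by decide
    obtain ⟨i, hi⟩ := QuotientGroup.mk_surjective (e.symm (QuaternionGroup.a 1))
    obtain ⟨j, hj⟩ := QuotientGroup.mk_surjective (e.symm (QuaternionGroup.xa 0))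
    have hei : e (i : Y) = QuaternionGroup.a 1 := by rw [hi, e.apply_symm_apply]
    have hej : e (j : Y) = QuaternionGroup.xa 0 := by rw [hj, e.apply_symm_apply]
    set c := ⁅i, j⁆ with hc
    have hce : e (c : Y) = QuaternionGroup.a 2 := by
      rw [hc, commutatorElement_def, QuotientGroup.mk_mul, QuotientGroup.mk_mul, QuotientGroup.mk_mul,
        QuotientGroup.mk_inv, QuotientGroup.mk_inv, map_mul, map_mul, map_mul, map_inv, map_inv, hei, hej, hq3]
    have hsq : ∀ u : X, e (u : Y) * e (u : Y) = QuaternionGroup.a 2 → ∃ w ∈ Zz, u * u = c * w := by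
      intro u hu
      refine ⟨c⁻¹ * (u * u), ?_, by group⟩
      rw [← QuotientGroup.eq_one_iff (N := Zz)]
      apply e.injective
      rw [QuotientGroup.mk_mul, QuotientGroup.mk_inv, QuotientGroup.mk_mul, map_mul, map_inv, map_mul,
        hu, hce, inv_mul_cancel, map_one]
    have hcommw : ∀ u : X, (∃ w ∈ Zz, u * u = c * w) → u * c = c * u := by
      rintro u ⟨w, hw, huu⟩
      have hwc : ∀ g : X, g * w = w * g := mem_center_iff.1 ((zpowers_le.2 hzc) hw)
      have hc' : c = u * u * w⁻¹ := by rw [huu, mul_inv_cancel_right]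
      have hwinv : ∀ g : X, g * w⁻¹ = w⁻¹ * g := mem_center_iff.1 (inv_mem ((zpowers_le.2 hzc) hw))
      rw [hc']
      calc u * (u * u * w⁻¹) = u * u * (u * w⁻¹) := by group
        _ = u * u * w⁻¹ * u := by rw [hwinv u, ← mul_assoc]
    obtain ⟨wi, hwi, hii⟩ := hsq i (by rw [hei, hq1])
    have hci := hcommw i ⟨wi, hwi, hii⟩
    have hcj := hcommw j (hsq j (by rw [hej, hq2]))
    have hzΦ' : closure ({i, j} : Set X) = ⊤ := by
      refine CfsgLib.PGroup.eq_top_of_sup_frattini (eq_top_iff.2 fun x _ => ?_)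
      have hgenQ : ∀ v : QuaternionGroup 2, v ∈ closure ({QuaternionGroup.a 1, QuaternionGroup.xa 0} : Set (QuaternionGroup 2)) := by
        intro v
        rcases v with k | k
        · rw [← ZMod.natCast_zmod_val k, ← QuaternionGroup.a_one_pow]
          exact pow_mem (subset_closure (by simp)) _
        · have e' : (QuaternionGroup.xa k : QuaternionGroup 2) = QuaternionGroup.xa 0 * QuaternionGroup.a k := by
            rw [QuaternionGroup.xa_mul_a, zero_add]
          rw [e', ← ZMod.natCast_zmod_val k, ← QuaternionGroup.a_one_pow]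
          exact mul_mem (subset_closure (by simp)) (pow_mem (subset_closure (by simp)) _)
      let g : X →* QuaternionGroup 2 := e.toMonoidHom.comp (QuotientGroup.mk' Zz)
      have hmap : (closure ({i, j} : Set X)).map g = ⊤ := by
        rw [MonoidHom.map_closure, eq_top_iff]
        intro v _
        have hv := hgenQ v
        have : g '' {i, j} = {QuaternionGroup.a 1, QuaternionGroup.xa 0} := by
          rw [Set.image_pair]; show ({e (i : Y), e (j : Y)} : Set _) = _; rw [hei, hej]
        rwa [this]
      obtain ⟨y, hy, hyx⟩ := hmap.ge (mem_top (g x))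
      have : y⁻¹ * x ∈ Zz := by
        rw [← QuotientGroup.eq_one_iff (N := Zz)]
        apply e.injective
        show g (y⁻¹ * x) = e 1
        rw [map_mul, map_inv, hyx, inv_mul_cancel, map_one]
      rw [show x = y * (y⁻¹ * x) by group]
      exact mul_mem_sup hy ((zpowers_le.2 hzΦ) this)
    have hcc : c ∈ center X := by
      have hle : closure ({i, j} : Set X) ≤ centralizer ({c} : Set X) := by
        rw [closure_le]
        rintro y (rfl | hy)
        · exact mem_centralizer_singleton_iff.2 hci
        · rw [Set.mem_singleton_iff.1 hy]; exact mem_centralizer_singleton_iff.2 hcj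
      rw [hzΦ'] at hle
      exact mem_center_iff.2 fun g => mem_centralizer_singleton_iff.1 (hle (mem_top g))
    have hc2 : c * c = 1 := by
      have h1 : i * i ∈ center X := by rw [hii]; exact mul_mem hcc ((zpowers_le.2 hzc) hwi)
      have h2 : ⁅i * i, j⁆ = 1 := commutatorElement_eq_one_iff_mul_comm.2 (mem_center_iff.1 h1 j).symm
      rw [show ⁅i * i, j⁆ = i * ⁅i, j⁆ * i⁻¹ * ⁅i, j⁆ by simp [commutatorElement_def, mul_assoc], ← hc, hci,
        mul_inv_cancel_right] at h2
      exact h2
    haveI hCn : (zpowers c).Normal := ⟨fun w hw g => by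
      rwa [mem_center_iff.1 ((zpowers_le.2 hcc) hw) g, mul_inv_cancel_right]⟩
    have hDc : D ≤ zpowers c := by
      refine commutator_le.2 fun x _ y _ => ?_
      rw [← QuotientGroup.eq_one_iff (N := zpowers c), ← QuotientGroup.mk'_apply, map_commutatorElement,
        commutatorElement_eq_one_iff_mul_comm]
      refine closure_pair_comm (a := QuotientGroup.mk' (zpowers c) i) (b := QuotientGroup.mk' (zpowers c) j) ?_ ?_ _ _
      · rw [← commutatorElement_eq_one_iff_mul_comm, ← map_commutatorElement, QuotientGroup.mk'_apply,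
          QuotientGroup.eq_one_iff, ← hc]
        exact mem_zpowers c
      · rw [← Set.image_pair, ← MonoidHom.map_closure, hzΦ',
          map_top_of_surjective _ (QuotientGroup.mk'_surjective _)]
    have hcz : c = z := by
      have h' : c ≠ 1 := fun h => hq4 (by rw [← hce, h, QuotientGroup.mk_one, map_one])
      exact huz c (commutator_mem_commutator (mem_top i) (mem_top j)) hc2 h'
    have h'' : (c : Y) = 1 := by rw [QuotientGroup.eq_one_iff, hcz]; exact mem_zpowers z
    exact hq4 (by rw [← hce, h'', map_one])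
  -- the quotient is homocyclic
  have hYc : ∀ u v : Y, u * v = v * u := fun u v => e.injective (by rw [map_mul, map_mul, mul_comm])
  have hDz : ∀ x y : X, ⁅x, y⁆ ∈ Zz := fun x y => by
    rw [← QuotientGroup.eq_one_iff (N := Zz), ← QuotientGroup.mk'_apply, map_commutatorElement,
      commutatorElement_eq_one_iff_mul_comm]
    exact hYc _ _
  have hYn : Nat.card Y = 2 ^ n * 2 ^ n := by
    rw [Nat.card_congr e.toEquiv, Nat.card_prod, Nat.card_congr Multiplicative.toAdd, Nat.card_zmod]
  have hYe : ∀ u : Y, u ^ 2 ^ n = 1 := fun u => e.injective (by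
    rw [map_pow, map_one]
    refine Prod.ext ?_ ?_ <;>
    · simp only [Prod.pow_fst, Prod.pow_snd, Prod.fst_one, Prod.snd_one]
      rw [← pow_card_eq_one' (G := Multiplicative (ZMod (2 ^ n))), Nat.card_congr Multiplicative.toAdd, Nat.card_zmod])
  have hn0 : n ≠ 0 := by
    intro h0
    rw [h0, pow_zero, one_mul] at hYn
    haveI : IsCyclic X := isCyclic_of_prime_card (p := 2) (by rw [hYcard, hYn, mul_one])
    exact hcomm fun x y => Std.Commutative.comm (op := (· * ·)) x y
  rcases Nat.lt_or_ge n 2 with hn2 | hn2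
  · -- order eight
    have hn1 : n = 1 := by omega
    subst hn1
    have h8 : Nat.card X = 8 := by rw [hYcard, hYn]; norm_num
    have hsqZ : ∀ u : X, u * u ∈ Zz := fun u => by
      rw [← QuotientGroup.eq_one_iff (N := Zz), QuotientGroup.mk_mul, ← pow_two]
      simpa using hYe (u : Y)
    have hΦle : Φ ≤ Zz := by
      refine CfsgLib.Transfer.frattini_le_of_commutator_pow (p := 2) Zz ?_ fun u => ?_
      · exact hDz
      · rw [pow_two]; exact hsqZ u
    have huni : ∀ u : X, u * u = 1 → u ≠ 1 → u = z := by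
      intro u hu hu1
      by_contra hne
      have huΦ : u ∉ Φ := fun h => (hZset u (hΦle h)).elim hu1 hne
      set v := φ u with hv
      have hv2 : v * v = 1 := by rw [hv, ← map_mul, hu, map_one]
      have hv' : v ∉ Φ := fun h => huΦ (by
        have := hΦc _ h φ⁻¹
        simpa [v] using this)
      set w := φ v with hw
      have hw2 : w * w = 1 := by rw [hw, ← map_mul, hv2, map_one]
      have huv : π v ≠ π u := hmove u huΦ
      have hvw : π w ≠ π v := hmove v hv'
      have hwu : π w ≠ π u := by
        intro h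
        -- then `φ ^ 2` fixes a coset, so does `φ`
        obtain ⟨k, hk⟩ := hqodd
        have hstep : ∀ r : ℕ, π ((φ ^ (2 * r)) u) = π u := by
          intro r
          induction r with
          | zero => simp
          | succ r ihr =>
            rw [show 2 * (r + 1) = 2 * r + 1 + 1 by ring, pow_succ', MulAut.mul_apply, pow_succ', MulAut.mul_apply,
              hφmk _ _ (hφmk _ _ ihr)]
            exact h
        have h1 := hstep k
        have h2 : (φ ^ q) u = φ ((φ ^ (2 * k)) u) := by rw [hk, pow_succ', MulAut.mul_apply]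
        rw [hq, pow_orderOf_eq_one, MulAut.one_apply] at h2
        exact huv ((congrArg π h2).trans (hφmk _ _ h1)).symm
      have hu1' : π u ≠ 1 := fun h => huΦ ((QuotientGroup.eq_one_iff u).1 h)
      have hv1' : π v ≠ 1 := fun h => hv' ((QuotientGroup.eq_one_iff v).1 h)
      have hw1' : π w ≠ 1 := fun h => hv' (by
        have := hΦc _ ((QuotientGroup.eq_one_iff w).1 h) φ⁻¹
        simpa [w] using this)
      have hwuv : π w = π (u * v) := by
        rw [map_mul]
        rcases four_basis hQe hfour hu1' hv1' huv (π w) with h | h | h | h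
        · exact absurd h hw1'
        · exact absurd h hwu
        · exact absurd h hvw
        · exact h
      have huv2 : (u * v) * (u * v) = 1 := by
        have hd' : w⁻¹ * (u * v) ∈ Zz := hΦle ((hπ _ _).1 hwuv)
        set t := w⁻¹ * (u * v) with ht
        have htc := mem_center_iff.1 ((zpowers_le.2 hzc) hd')
        rw [show u * v = w * t by rw [ht, mul_inv_cancel_left],
          show w * t * (w * t) = w * (t * w) * t by group, ← htc w, ← mul_assoc w, hw2, one_mul]
        rcases hZset t hd' with h | h <;> rw [h]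
        · exact one_mul 1
        · exact hz2
      have hcuv : u * v = v * u := by
        have h1 : (u * v)⁻¹ = u * v := inv_eq_of_mul_eq_one_left huv2
        rw [_root_.mul_inv_rev, inv_eq_of_mul_eq_one_left hu, inv_eq_of_mul_eq_one_left hv2] at h1
        exact h1.symm
      refine hcomm (closure_pair_comm hcuv (CfsgLib.PGroup.eq_top_of_sup_frattini (eq_top_iff.2 fun x _ => ?_)))
      have hmem : ∀ s ∈ closure ({u, v} : Set X), π s = π x → x ∈ closure ({u, v} : Set X) ⊔ frattini X := fun s hs h => by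
        rw [show x = s * (s⁻¹ * x) by group]
        exact mul_mem_sup hs ((hπ s x).1 h)
      have hall : π x = 1 ∨ π x = π u ∨ π x = π v ∨ π x = π (u * v) := by
        rw [map_mul]
        exact four_basis hQe hfour hu1' hv1' huv _
      rcases hall with h | h | h | h
      · exact hmem 1 (one_mem _) ((map_one π).trans h.symm)
      · exact hmem u (subset_closure (by simp)) h.symm
      · exact hmem v (subset_closure (by simp)) h.symm
      · exact hmem _ (mul_mem (subset_closure (by simp)) (subset_closure (by simp))) h.symm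
    rcases CfsgLib.Solvable.isCyclic_or_quaternion (p := 2) hX (fun s t hs ht => by
        have e' : ∀ w : X, orderOf w = 2 → w = z := fun w hw => huni w
          (by rw [← pow_two, ← hw, pow_orderOf_eq_one]) (fun e' => by rw [e', orderOf_one] at hw; omega)
        rw [e' s hs, e' t ht]; exact mem_zpowers z) with hc | ⟨-, k, ⟨e'⟩⟩
    · haveI := hc
      obtain ⟨g, hg⟩ := hc.exists_generator
      exact absurd (fun x y => by
        obtain ⟨i, rfl⟩ := mem_zpowers_iff.1 (hg x)
        obtain ⟨j, rfl⟩ := mem_zpowers_iff.1 (hg y)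
        exact zpow_mul_comm g i j) hcomm
    · have h := Nat.card_congr e'.toEquiv
      rw [h8, Nat.card_eq_fintype_card, QuaternionGroup.card] at h
      have : 2 ^ k = 2 := by omega
      exact ⟨e'.trans (by rw [this])⟩
  -- exponent `2 ^ n` is impossible
  exfalso
  have hCz : ∀ x y : X, ⁅x, y⁆ ∈ center X := fun x y => (zpowers_le.2 hzc) (hDz x y)
  have hchoose : Even ((2 ^ n).choose 2) := by
    obtain ⟨k, rfl⟩ : ∃ k, n = k + 2 := ⟨n - 2, by omega⟩
    rw [Nat.choose_two_right, show 2 ^ (k + 2) * (2 ^ (k + 2) - 1) / 2 = 2 ^ (k + 1) * (2 ^ (k + 2) - 1) by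
      rw [pow_succ 2 (k + 1), mul_comm (2 ^ (k + 1)) 2, mul_assoc, Nat.mul_div_cancel_left _ two_pos]]
    exact (Nat.even_pow.2 ⟨even_two, by omega⟩).mul_right _
  let h : X →* Zz := MonoidHom.mk' (fun x => ⟨x ^ 2 ^ n, by
      rw [← QuotientGroup.eq_one_iff (N := Zz), QuotientGroup.mk_pow]; exact hYe _⟩) fun x y => Subtype.ext (by
    show (x * y) ^ 2 ^ n = x ^ 2 ^ n * y ^ 2 ^ n
    rw [CfsgLib.PGroup.mul_pow_of_comm_mem_center (hCz y x) (2 ^ n)]
    obtain ⟨c, hc⟩ := hchoose
    rcases hZset _ (hDz y x) with h1 | h1 <;> rw [h1]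
    · rw [one_pow, mul_one]
    · rw [hc, pow_add, ← (Commute.refl z).mul_pow, hz2, one_pow, mul_one])
  have hall : ∀ x : X, x ^ 2 ^ n = 1 := by
    rcases hinv h.ker (fun x hx => by
      rw [MonoidHom.mem_ker] at hx ⊢
      refine Subtype.ext ?_
      show φ x ^ 2 ^ n = 1
      rw [← map_pow, show x ^ 2 ^ n = 1 from congrArg Subtype.val hx, map_one]) with hle | htop
    · exfalso
      have h1 : Φ.index ∣ h.ker.index := index_dvd_of_le hle
      have h2 : h.ker.index ≤ 2 := by
        rw [index_ker]
        exact (Nat.card_le_card_of_injective _ Subtype.val_injective).trans hZcard.le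
      have h3 : 3 ≤ Φ.index := by
        show 3 ≤ Nat.card (X ⧸ Φ)
        haveI := Fintype.ofFinite (X ⧸ Φ)
        rw [Nat.card_eq_fintype_card]
        have hs : ({1, π a, π b} : Finset (X ⧸ Φ)).card = 3 := by
          have ha1 : π a ≠ 1 := fun h => ha ((QuotientGroup.eq_one_iff a).1 h)
          have hb1 : π b ≠ 1 := fun h => by
            have h' := hΦc _ ((QuotientGroup.eq_one_iff _).1 h) φ⁻¹
            exact ha (by simpa [b] using h')
          rw [Finset.card_insert_of_notMem, Finset.card_pair hab_ne.symm]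
          simp [Ne.symm ha1, Ne.symm hb1]
        rw [← hs]; exact Finset.card_le_univ _
      have := Nat.le_of_dvd (Nat.pos_of_ne_zero index_ne_zero_of_finite) h1
      omega
    · exact fun x => congrArg Subtype.val (MonoidHom.mem_ker.1 (htop.ge (mem_top x)))
  have := card_le_of_exponent hm (Nat.two_pow_pos n) hall
  rw [hYcard, hYn] at this
  have : 0 < 2 ^ n * 2 ^ n := Nat.mul_pos (Nat.two_pow_pos n) (Nat.two_pow_pos n)
  omega

end

/-- A finite metacyclic 2-group whose automorphism group is not a 2-group is isomorphic to the quaternion group of order 8 or to a homocyclic abelian group Z_{2^n} × Z_{2^n}. -/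
theorem result {X : Type*} [Group X] [Finite X] (hX : IsPGroup 2 X)
    (hm : Cfsg.IsMetacyclic X) (hA : ¬ IsPGroup 2 (MulAut X)) :
    Nonempty (X ≃* QuaternionGroup 2) ∨
      ∃ n : ℕ, Nonempty (X ≃* Multiplicative (ZMod (2 ^ n)) × Multiplicative (ZMod (2 ^ n))) := by
  classical
  haveI : Fact (Nat.Prime 2) := ⟨Nat.prime_two⟩
  obtain ⟨q, hq, hq2, hdvd⟩ : ∃ q : ℕ, q.Prime ∧ q ≠ 2 ∧ q ∣ Nat.card (MulAut X) := by
    by_contra hc
    push_neg at hc
    refine hA (IsPGroup.of_card (n := (Nat.card (MulAut X)).factorization 2) ?_)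
    refine Nat.eq_pow_of_factorization_eq_single Nat.card_pos.ne' ?_
    ext r
    by_cases hr : r = 2
    · subst hr; simp
    · rw [Finsupp.single_eq_of_ne hr]
      by_cases hrp : r.Prime
      · exact Nat.factorization_eq_zero_of_not_dvd (hc r hrp hr)
      · exact Nat.factorization_eq_zero_of_not_prime _ hrp
  haveI : Fact q.Prime := ⟨hq⟩
  obtain ⟨φ, hφ⟩ := exists_prime_orderOf_dvd_card' q hdvd
  exact key (Nat.card X) X rfl hX hm φ (hφ ▸ hq) (hφ ▸ hq2)

end Cfsg.Agent.S1896
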