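import Cfsg.Statements.S1898


set_option autoImplicit false
open Cfsg

namespace Cfsg.Agent.S1898

/-- Let X be a finite 2-group whose derived subgroup is elementary abelian and central. Then the subgroup generated by the elements of order dividing 4 has exponent dividing 4, and every automorphism of X fixing each element of order dividing 4 has 2-power order. -/
theorem result {X : Type*} [Group X] [Finite X] (hX : IsPGroup 2 X)
    (hel : Cfsg.IsElementaryAbelian 2 (commutator X)) (hcen : commutator X ≤ Subgroup.center X) :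
    (∀ x ∈ Subgroup.closure {g : X | g ^ 4 = 1}, x ^ 4 = 1) ∧
      ∀ φ : MulAut X, (∀ g : X, g ^ 4 = 1 → φ g = g) → ∃ k : ℕ, φ ^ (2 ^ k) = 1 := by
  have hc : ∀ a b : X, a * b * a⁻¹ * b⁻¹ ∈ Subgroup.center X ∧ (a * b * a⁻¹ * b⁻¹) ^ 2 = 1 := by
    intro a b
    have h : a * b * a⁻¹ * b⁻¹ ∈ commutator X := by
      rw [commutator_eq_closure]
      exact Subgroup.subset_closure ⟨a, b, rfl⟩
    exact ⟨hcen h, hel.2 _ h⟩
  have hsq : ∀ a : X, a ^ 2 ∈ Subgroup.center X := by
    intro a
    rw [Subgroup.mem_center_iff]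
    intro b
    obtain ⟨h1, h2⟩ := hc a b
    generalize hz : a * b * a⁻¹ * b⁻¹ = z at h1 h2
    have e1 : a * b = z * b * a := by rw [← hz]; group
    have hzc := Subgroup.mem_center_iff.mp h1
    symm
    calc a ^ 2 * b = a * (a * b) := by rw [pow_two, mul_assoc]
      _ = a * (z * b * a) := by rw [e1]
      _ = (a * z) * b * a := by group
      _ = (z * a) * b * a := by rw [hzc a]
      _ = z * (a * b) * a := by group
      _ = z * (z * b * a) * a := by rw [e1]
      _ = z ^ 2 * b * a ^ 2 := by simp only [pow_two, mul_assoc]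
      _ = b * a ^ 2 := by rw [h2, one_mul]
  have hmul : ∀ x y : X, ∃ z : X, z ∈ Subgroup.center X ∧ z ^ 2 = 1 ∧
      (x * y) ^ 2 = x ^ 2 * y ^ 2 * z := by
    intro x y
    obtain ⟨h1, h2⟩ := hc y x
    generalize hz : y * x * y⁻¹ * x⁻¹ = z at h1 h2
    have e1 : y * x = z * x * y := by rw [← hz]; group
    refine ⟨z, h1, h2, ?_⟩
    have hzc := Subgroup.mem_center_iff.mp h1
    calc (x * y) ^ 2 = x * (y * x) * y := by simp only [pow_two, mul_assoc]
      _ = x * (z * x * y) * y := by rw [e1]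
      _ = (x * z) * x * y * y := by group
      _ = (z * x) * x * y * y := by rw [hzc x]
      _ = z * (x ^ 2 * y ^ 2) := by simp only [pow_two, mul_assoc]
      _ = x ^ 2 * y ^ 2 * z := (hzc _).symm
  have hfour : ∀ x y : X, (x * y) ^ 4 = x ^ 4 * y ^ 4 := by
    intro x y
    obtain ⟨z, h1, h2, e⟩ := hmul x y
    have hzc := Subgroup.mem_center_iff.mp h1
    calc (x * y) ^ 4 = ((x * y) ^ 2) ^ 2 := by rw [← pow_mul]
      _ = (x ^ 2 * y ^ 2 * z) ^ 2 := by rw [e]
      _ = (x ^ 2 * y ^ 2) ^ 2 * z ^ 2 := Commute.mul_pow (hzc _) 2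
      _ = (x ^ 2) ^ 2 * (y ^ 2) ^ 2 := by
        rw [h2, mul_one, Commute.mul_pow ((Subgroup.mem_center_iff.mp (hsq y)) (x ^ 2)) 2]
      _ = x ^ 4 * y ^ 4 := by rw [← pow_mul, ← pow_mul]
  refine ⟨?_, ?_⟩
  · intro x hx
    induction hx using Subgroup.closure_induction with
    | mem a ha => exact ha
    | one => exact one_pow _
    | mul a b _ _ ha hb => rw [hfour, ha, hb, one_mul]
    | inv a _ ha => rw [inv_pow, ha, inv_one]
  · intro φ hφ
    have hstep : ∀ n : ℕ, ∀ g : X, g ^ (2 ^ n) = 1 → ∃ k : ℕ, (φ ^ (2 ^ k)) g = g := by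
      intro n
      induction n with
      | zero =>
        intro g hg
        rw [pow_zero, pow_one] at hg
        exact ⟨0, by rw [hg, map_one]⟩
      | succ n ih =>
        intro g hg
        rw [pow_succ', pow_mul] at hg
        obtain ⟨k, hk⟩ := ih (g ^ 2) hg
        have hfix : ∀ j : ℕ, ∀ e : X, e ^ 4 = 1 → (φ ^ j) e = e := by
          intro j e he
          induction j with
          | zero => simp
          | succ j ihj => rw [pow_succ, MulAut.mul_apply, hφ e he, ihj]
        set ψ := φ ^ (2 ^ k) with hψ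
        obtain ⟨z, h1, h2, e⟩ := hmul g (g⁻¹ * ψ g)
        rw [mul_inv_cancel_left, ← map_pow, hk, mul_assoc] at e
        have e3 : (g⁻¹ * ψ g) ^ 2 * z = 1 := mul_eq_left.mp e.symm
        have hd4 : (g⁻¹ * ψ g) ^ 4 = 1 := by
          have e4 : (g⁻¹ * ψ g) ^ 2 = z⁻¹ := eq_inv_of_mul_eq_one_left e3
          rw [show (4 : ℕ) = 2 * 2 from rfl, pow_mul, e4, inv_pow, h2, inv_one]
        have hd : ψ (g⁻¹ * ψ g) = g⁻¹ * ψ g := by rw [hψ]; exact hfix _ _ hd4
        have hgd : ψ g = g * (g⁻¹ * ψ g) := (mul_inv_cancel_left _ _).symm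
        have hiter : ∀ i : ℕ, (ψ ^ i) g = g * (g⁻¹ * ψ g) ^ i := by
          intro i
          induction i with
          | zero => simp
          | succ i ihi =>
            calc (ψ ^ (i + 1)) g = ψ ((ψ ^ i) g) := by rw [pow_succ', MulAut.mul_apply]
              _ = ψ g * (ψ (g⁻¹ * ψ g)) ^ i := by rw [ihi, map_mul, map_pow]
              _ = g * (g⁻¹ * ψ g) * (g⁻¹ * ψ g) ^ i := by rw [hd, ← hgd]
              _ = g * (g⁻¹ * ψ g) ^ (i + 1) := by rw [mul_assoc, ← pow_succ']
        refine ⟨k + 2, ?_⟩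
        rw [show (2 : ℕ) ^ (k + 2) = 2 ^ k * 4 by ring, pow_mul, ← hψ, hiter 4, hd4, mul_one]
    classical
    haveI := Fintype.ofFinite X
    have hall : ∀ g : X, ∃ k : ℕ, (φ ^ (2 ^ k)) g = g := fun g => by
      obtain ⟨n, hn⟩ := hX g
      exact hstep n g hn
    choose k hk using hall
    have hiterfix : ∀ (ψ : MulAut X) (g : X), ψ g = g → ∀ m : ℕ, (ψ ^ m) g = g := by
      intro ψ g hg m
      induction m with
      | zero => simp
      | succ m ihm => rw [pow_succ, MulAut.mul_apply, hg, ihm]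
    refine ⟨Finset.univ.sup k, MulEquiv.ext fun g => ?_⟩
    have hle : k g ≤ Finset.univ.sup k := Finset.le_sup (Finset.mem_univ g)
    obtain ⟨m, hm⟩ := Nat.exists_eq_add_of_le hle
    rw [hm, pow_add, pow_mul, hiterfix _ _ (hk g)]
    rfl

end Cfsg.Agent.S1898
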