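import Cfsg.Statements.S1899
import Mathlib

set_option autoImplicit false
open Cfsg

namespace Cfsg.Agent.S1899

/-- Let a dihedral group of order 2n, n odd and n > 1, act on a finite abelian 2-group A through automorphisms d and t with d^n = 1, t² = 1 and t d t⁻¹ = d⁻¹, and suppose that d fixes only the identity. Then A is the internal direct product of C_A(t) and its image under d. -/
theorem result {A : Type*} [CommGroup A] [Finite A] (hA : IsPGroup 2 A)
    {n : ℕ} (hn : Odd n) (hn1 : 1 < n) (d t : MulAut A) (hd : d ^ n = 1) (ht : t ^ 2 = 1) (hdt : t * d * t⁻¹ = d⁻¹)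
    (hfix : ∀ a : A, d a = a → a = 1) :
    (MulEquiv.toMonoidHom t).eqLocus (MonoidHom.id A) ⊓ ((MulEquiv.toMonoidHom t).eqLocus (MonoidHom.id A)).map d.toMonoidHom = ⊥ ∧
      (MulEquiv.toMonoidHom t).eqLocus (MonoidHom.id A) ⊔ ((MulEquiv.toMonoidHom t).eqLocus (MonoidHom.id A)).map d.toMonoidHom = ⊤ := by
  have htd : ∀ a, t (d a) = d⁻¹ (t a) := fun a => by
    rw [← hdt]; simp
  have htd' : ∀ a, t (d⁻¹ a) = d (t a) := fun a => by
    have h := congrArg d (htd (d⁻¹ a))
    simpa using h.symm
  have hd2 : ∀ y : A, d (d y) = y → y = 1 := by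
    intro y hy
    refine hfix y ?_
    obtain ⟨k, rfl⟩ := hn
    have h1 : ∀ j : ℕ, (d ^ (2 * j)) y = y := fun j => by
      induction j with
      | zero => simp
      | succ j ih => rw [Nat.mul_succ, pow_add]; simp [pow_two, hy, ih]
    have h2 : (d ^ (2 * k + 1)) y = y := by rw [hd]; simp
    rw [pow_succ'] at h2
    simpa [h1 k] using h2
  set C := (MulEquiv.toMonoidHom t).eqLocus (MonoidHom.id A) with hC
  have memC : ∀ x, x ∈ C ↔ t x = x := fun x => Iff.rfl
  constructor
  · rw [Subgroup.eq_bot_iff_forall]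
    rintro x ⟨hx, y, hy, rfl⟩
    have h : t (d y) = d y := hx
    rw [htd, (memC y).1 hy] at h
    have : d (d y) = y := by
      have := congrArg d h; simpa using this.symm
    simp [hd2 y this]
  · refine eq_top_iff.2 fun a _ => ?_
    let f : A →* A := d.toMonoidHom / (d⁻¹).toMonoidHom
    have hf : ∀ y, f y = d y / d⁻¹ y := fun y => rfl
    have hinj : Function.Injective f := by
      refine (injective_iff_map_eq_one f).2 fun y hy => hd2 y ?_
      rw [hf, div_eq_one] at hy
      have := congrArg d hy; simpa using this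
    obtain ⟨c', hc'⟩ := (Finite.injective_iff_surjective.1 hinj) (a / t a)
    have ht2 : t (t a) = a := by
      have := congrArg (fun φ : MulAut A => φ a) ht; simpa [pow_two] using this
    have hc'C : t c' = c' := hinj <| by
      rw [hc', hf, ← htd', ← htd, ← map_div, ← inv_inj, ← map_inv, inv_div, ← hf, hc', map_div, ht2, inv_div]
    have hdc : t (d c') = d⁻¹ c' := by rw [htd, hc'C]
    have hcC : t (a / d c') = a / d c' := by
      rw [map_div, hdc]
      rw [hf] at hc'
      rw [div_eq_div_iff_mul_eq_mul] at hc' ⊢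
      calc t a * d c' = d c' * t a := mul_comm _ _
        _ = a * d⁻¹ c' := hc'
    rw [show a = (a / d c') * d c' from (div_mul_cancel a _).symm]
    exact Subgroup.mul_mem_sup hcC ⟨c', hc'C, rfl⟩

end Cfsg.Agent.S1899
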