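import Cfsg.Statements.S1900
import Cfsg.Agent.Lib.Techniques.Functor.SylowNorm
import Cfsg.Agent.Lib.Solvable.Generation

set_option autoImplicit false
open Cfsg

namespace Cfsg.Agent.S1900

open Subgroup
open scoped commutatorElement

/-- Let S = PQ be a finite group with P a normal Sylow p-subgroup and Q elementary abelian of order q², q a prime different from p. If exactly two subgroups X₁, X₂ of order q in Q have a nontrivial centralizer in P, then P is the internal direct product of C_P(X₁) and C_P(X₂): they commute elementwise, meet trivially and generate P. -/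
theorem result {S : Type*} [Group S] [Finite S] {p q : ℕ} [Fact p.Prime] [Fact q.Prime] (hpq : p ≠ q)
    (P : Sylow p S) [(P : Subgroup S).Normal] (Q : Subgroup S) (hQ : Cfsg.IsElementaryAbelian q Q) (hQc : Nat.card Q = q ^ 2)
    (hS : (P : Subgroup S) ⊔ Q = ⊤)
    (X₁ X₂ : Subgroup S) (h₁ : X₁ ≤ Q) (h₂ : X₂ ≤ Q) (h₁₂ : X₁ ≠ X₂) (hc₁ : Nat.card X₁ = q) (hc₂ : Nat.card X₂ = q)
    (hf₁ : (P : Subgroup S) ⊓ Subgroup.centralizer (X₁ : Set S) ≠ ⊥)
    (hf₂ : (P : Subgroup S) ⊓ Subgroup.centralizer (X₂ : Set S) ≠ ⊥)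
    (honly : ∀ X : Subgroup S, X ≤ Q → Nat.card X = q →
      (P : Subgroup S) ⊓ Subgroup.centralizer (X : Set S) ≠ ⊥ → X = X₁ ∨ X = X₂) :
    ⁅(P : Subgroup S) ⊓ Subgroup.centralizer (X₁ : Set S), (P : Subgroup S) ⊓ Subgroup.centralizer (X₂ : Set S)⁆ = ⊥ ∧
      ((P : Subgroup S) ⊓ Subgroup.centralizer (X₁ : Set S)) ⊓ ((P : Subgroup S) ⊓ Subgroup.centralizer (X₂ : Set S)) = ⊥ ∧
      ((P : Subgroup S) ⊓ Subgroup.centralizer (X₁ : Set S)) ⊔ ((P : Subgroup S) ⊓ Subgroup.centralizer (X₂ : Set S)) = P := by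
  have hp : p.Prime := Fact.out
  have hq : q.Prime := Fact.out
  have hQab : ∀ x ∈ Q, ∀ y ∈ Q, x * y = y * x := fun x hx y hy =>
    congrArg Subtype.val (hQ.1.is_comm.comm ⟨x, hx⟩ ⟨y, hy⟩)
  have hQn : Q ≤ normalizer ((P : Subgroup S) : Set S) := by rw [normalizer_eq_top]; exact le_top
  obtain ⟨n, hn⟩ := IsPGroup.iff_card.1 P.2
  have hcop : (Nat.card Q).Coprime (Nat.card (P : Subgroup S)) := by
    rw [hQc, hn]; exact Nat.coprime_pow_primes 2 n hq hp (Ne.symm hpq)
  have hnc : ¬ IsCyclic Q := by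
    intro h
    obtain ⟨g, hg⟩ := h.exists_generator
    have h1 : orderOf g = q ^ 2 := by rw [orderOf_eq_card_of_forall_mem_zpowers hg, hQc]
    have h2 : orderOf g ∣ q := orderOf_dvd_of_pow_eq_one (Subtype.ext (hQ.2 g g.2))
    rw [h1] at h2
    have h3 := Nat.le_of_dvd hq.pos h2
    nlinarith [hq.two_le]
  set C1 := (P : Subgroup S) ⊓ centralizer (X₁ : Set S) with hC1
  set C2 := (P : Subgroup S) ⊓ centralizer (X₂ : Set S) with hC2
  have hgenX : ∀ (X : Subgroup S), Nat.card X = q → ∀ a ∈ X, a ≠ 1 → zpowers a = X := by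
    intro X hX a ha ha1
    refine eq_of_le_of_card_ge (zpowers_le.2 ha) ?_
    rw [hX, Nat.card_zpowers]
    rcases (Nat.dvd_prime hq).1 (hX ▸ Subgroup.orderOf_dvd_natCard X ha) with h | h
    · exact absurd (orderOf_eq_one_iff.1 h) ha1
    · exact h.ge
  have hord : ∀ a ∈ Q, a ≠ 1 → Nat.card (zpowers a) = q := fun a ha ha1 => by
    rw [Nat.card_zpowers]; exact orderOf_eq_prime (hQ.2 a ha) ha1
  have hX12 : X₁ ⊔ X₂ = Q := by
    refine eq_of_le_of_card_ge (sup_le h₁ h₂) ?_
    obtain ⟨a, ha, ha'⟩ : ∃ a ∈ X₂, a ∉ X₁ := by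
      by_contra hall
      push Not at hall
      exact h₁₂ (eq_of_le_of_card_ge hall (hc₁.trans hc₂.symm).le).symm
    obtain ⟨k, -, hk⟩ := (Nat.dvd_prime_pow hq).1 (hQc ▸ card_dvd_of_le (sup_le h₁ h₂))
    have hlt : X₁ < X₁ ⊔ X₂ := lt_of_le_of_ne le_sup_left fun h => ha' (h.ge (mem_sup_right ha))
    have h5 := CfsgLib.Techniques.Functor.card_lt_of_lt hlt
    rw [hc₁, hk] at h5
    rw [hQc, hk]
    exact Nat.pow_le_pow_right hq.pos ((Nat.pow_lt_pow_iff_right hq.one_lt).1 (by rwa [pow_one]))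
  have hcentQ : (P : Subgroup S) ⊓ centralizer (Q : Set S) = ⊥ := by
    by_contra hne
    -- a third subgroup of order `q`
    obtain ⟨a, ha, ha1⟩ : ∃ a ∈ X₁, a ≠ 1 := X₁.bot_or_exists_ne_one.resolve_left
      (fun h => by rw [h, card_bot] at hc₁; exact hq.one_lt.ne hc₁)
    obtain ⟨b, hb, hb1⟩ : ∃ b ∈ X₂, b ≠ 1 := X₂.bot_or_exists_ne_one.resolve_left
      (fun h => by rw [h, card_bot] at hc₂; exact hq.one_lt.ne hc₂)
    have hab1 : a * b ∉ X₁ := fun h => by
      have hb' : b ∈ X₁ := by simpa using mul_mem (inv_mem ha) h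
      exact h₁₂ ((hgenX X₁ hc₁ b hb' hb1).symm.trans (hgenX X₂ hc₂ b hb hb1))
    have hab2 : a * b ∉ X₂ := fun h => by
      have ha' : a ∈ X₂ := by simpa using mul_mem h (inv_mem hb)
      exact h₁₂ ((hgenX X₁ hc₁ a ha ha1).symm.trans (hgenX X₂ hc₂ a ha' ha1))
    have habQ : a * b ∈ Q := mul_mem (h₁ ha) (h₂ hb)
    rcases honly (zpowers (a * b)) (zpowers_le.2 habQ) (hord _ habQ fun h => hab1 (h ▸ one_mem _)) (fun h => hne (le_bot_iff.1
      (h ▸ inf_le_inf_left _ (centralizer_le (zpowers_le.2 habQ))))) with h | h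
    · exact hab1 (h ▸ mem_zpowers _)
    · exact hab2 (h ▸ mem_zpowers _)
  have hdisj : C1 ⊓ C2 = ⊥ := by
    rw [eq_bot_iff, ← hcentQ]
    intro x hx
    obtain ⟨hx1, hx2⟩ := mem_inf.1 hx
    refine mem_inf.2 ⟨(mem_inf.1 hx1).1, ?_⟩
    have : Q ≤ centralizer ({x} : Set S) := by
      rw [← hX12]
      refine sup_le (fun y hy => ?_) (fun y hy => ?_)
      · exact mem_centralizer_singleton_iff.2 (mem_centralizer_iff.1 (mem_inf.1 hx1).2 y hy)
      · exact mem_centralizer_singleton_iff.2 (mem_centralizer_iff.1 (mem_inf.1 hx2).2 y hy)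
    exact mem_centralizer_iff.2 fun y hy => mem_centralizer_singleton_iff.1 (this hy)
  have hgen : ∀ K : Subgroup S, K ≤ (P : Subgroup S) → Q ≤ normalizer (K : Set S) →
      K ≤ (K ⊓ C1) ⊔ (K ⊓ C2) := by
    intro K hK hQK
    conv_lhs => rw [← CfsgLib.Solvable.iSup_centralizer_eq hQab hnc hQK
      (hcop.coprime_dvd_right (card_dvd_of_le hK))]
    refine iSup₂_le fun a ha x hx => ?_
    rcases eq_or_ne x 1 with rfl | hx1
    · exact one_mem _
    obtain ⟨hxK, hxa⟩ := mem_inf.1 hx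
    have hxc : x ∈ centralizer ((zpowers a : Subgroup S) : Set S) := by
      rw [zpowers_eq_closure, centralizer_closure]; exact hxa
    rcases honly (zpowers a) (zpowers_le.2 ha.1) (hord a ha.1 ha.2) (fun h => hx1 (mem_bot.1
      (h ▸ mem_inf.2 ⟨hK hxK, hxc⟩))) with h | h
    · exact mem_sup_left (mem_inf.2 ⟨hxK, mem_inf.2 ⟨hK hxK, h ▸ hxc⟩⟩)
    · exact mem_sup_right (mem_inf.2 ⟨hxK, mem_inf.2 ⟨hK hxK, h ▸ hxc⟩⟩)
  have hC12 : C1 ⊔ C2 = (P : Subgroup S) :=
    le_antisymm (sup_le inf_le_left inf_le_left)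
      ((hgen _ le_rfl hQn).trans (sup_le_sup inf_le_right inf_le_right))
  refine ⟨?_, hdisj, hC12⟩
  -- the descending induction
  have key : ∀ k, ∀ c ∈ C1, ∀ d ∈ C2, ⁅c, d⁆ ∈ Subgroup.lowerCentralSeries (P : Subgroup S) k := by
    intro k
    induction k with
    | zero =>
      intro c hc d hd
      exact Subgroup.commutator_le_self _ (commutator_mem_commutator (mem_inf.1 hc).1 (mem_inf.1 hd).1)
    | succ k ih =>
      set Γ := Subgroup.lowerCentralSeries (P : Subgroup S) k with hΓ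
      set N := Subgroup.lowerCentralSeries (P : Subgroup S) (k + 1) with hN
      have hnorm : ∀ i, (Subgroup.lowerCentralSeries (P : Subgroup S) i).Normal := by
        intro i
        rw [← normalizer_eq_top_iff, eq_top_iff]
        intro g _
        refine mem_normalizer_fintype (S := ((Subgroup.lowerCentralSeries (P : Subgroup S) i : Subgroup S) : Set S)) fun y hy => ?_
        have h1 : (P : Subgroup S).map (MulAut.conj g).toMonoidHom = (P : Subgroup S) :=
          CfsgLib.Techniques.Functor.conjSub_normal _ g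
        have h2 := map_lowerCentralSeries (S := (P : Subgroup S)) (MulAut.conj g).toMonoidHom i
        rw [h1] at h2
        exact h2.le ⟨y, hy, rfl⟩
      haveI := hnorm (k + 1)
      haveI := hnorm k
      have hΓP : Γ ≤ (P : Subgroup S) := Subgroup.lowerCentralSeries_antitone _ (Nat.zero_le k)
      have hNΓ : N ≤ Γ := Subgroup.lowerCentralSeries_antitone _ (Nat.le_succ k)
      set π := QuotientGroup.mk' N with hπ
      have hπ1 : ∀ x, π x = 1 ↔ x ∈ N := fun x => QuotientGroup.eq_one_iff x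
      have hcen : ∀ v ∈ Γ, ∀ x ∈ (P : Subgroup S), π v * π x = π x * π v := fun v hv x hx => by
        rw [← commutatorElement_eq_one_iff_mul_comm, ← map_commutatorElement, hπ1]
        exact commutator_mem_commutator hv hx
      intro c hc d hd
      obtain ⟨hcP, hcX⟩ := mem_inf.1 hc
      obtain ⟨hdP, hdX⟩ := mem_inf.1 hd
      -- the commutator is fixed modulo `N` by `X₁` and by `X₂`
      have hside : ∀ (X X' : Subgroup S) (A B : Subgroup S), X ≤ Q → X' ≤ Q →
          A = (P : Subgroup S) ⊓ centralizer (X : Set S) → B = (P : Subgroup S) ⊓ centralizer (X' : Set S) →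
          A ⊓ B = ⊥ → Γ ≤ (Γ ⊓ A) ⊔ (Γ ⊓ B) → (∀ a ∈ A, ∀ b ∈ B, ⁅a, b⁆ ∈ Γ) → Nat.card X = q →
          ∀ a ∈ A, ∀ b ∈ B, ∀ y ∈ X', π (y * ⁅a, b⁆ * y⁻¹) = π ⁅a, b⁆ := by
        intro X X' A B hX hX' hA hB hAB hΓAB hcomm hXc a ha b hb y hy
        subst hA hB
        obtain ⟨x, hx, hx1⟩ : ∃ x ∈ X, x ≠ 1 := X.bot_or_exists_ne_one.resolve_left
          (fun h => by rw [h, card_bot] at hXc; exact hq.one_lt.ne hXc)
        have hxa : x * a * x⁻¹ = a := by
          rw [mem_centralizer_iff.1 (mem_inf.1 ha).2 x hx, mul_inv_cancel_right]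
        -- `b` is `b'⁻¹ (x b' x⁻¹)`
        set B := (P : Subgroup S) ⊓ centralizer (X' : Set S) with hB
        have hxB : ∀ e ∈ B, x * e * x⁻¹ ∈ B := fun e he => by
          refine mem_inf.2 ⟨(inferInstance : (P : Subgroup S).Normal).conj_mem e (mem_inf.1 he).1 x,
            mem_centralizer_iff.2 fun z hz => ?_⟩
          have h1 := hQab z (hX' hz) x (hX hx)
          have h2 := mem_centralizer_iff.1 (mem_inf.1 he).2 z hz
          calc z * (x * e * x⁻¹) = (z * x) * e * x⁻¹ := by group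
            _ = x * (z * e) * x⁻¹ := by rw [h1]; group
            _ = x * e * (z * x⁻¹) := by rw [h2]; group
            _ = x * e * (x⁻¹ * z) := by
                rw [hQab z (hX' hz) x⁻¹ (inv_mem (hX hx))]
            _ = x * e * x⁻¹ * z := by group
        let F : B → B := fun e => ⟨(e : S)⁻¹ * (x * e * x⁻¹), mul_mem (inv_mem e.2) (hxB e e.2)⟩
        have hFinj : Function.Injective F := by
          intro e e' he
          have h1 : (e : S)⁻¹ * (x * e * x⁻¹) = (e' : S)⁻¹ * (x * e' * x⁻¹) := congrArg Subtype.val he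
          have h2 : (e' : S) * (e : S)⁻¹ ∈ B := mul_mem e'.2 (inv_mem e.2)
          have h3 : x * ((e' : S) * (e : S)⁻¹) = (e' : S) * (e : S)⁻¹ * x := by
            calc x * ((e' : S) * (e : S)⁻¹) = e' * ((e' : S)⁻¹ * (x * e' * x⁻¹)) * x * (e : S)⁻¹ := by group
              _ = e' * ((e : S)⁻¹ * (x * e * x⁻¹)) * x * (e : S)⁻¹ := by rw [h1]
              _ = (e' : S) * (e : S)⁻¹ * x := by group
          have h4 : (e' : S) * (e : S)⁻¹ ∈ (P : Subgroup S) ⊓ centralizer (X : Set S) := by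
            refine mem_inf.2 ⟨(mem_inf.1 h2).1, ?_⟩
            rw [← hgenX X hXc x hx hx1, zpowers_eq_closure, centralizer_closure, mem_centralizer_singleton_iff]
            exact h3.symm
          exact Subtype.ext (mul_inv_eq_one.1 (mem_bot.1 (hAB.le ⟨h4, h2⟩))).symm
        obtain ⟨⟨e, he⟩, hef⟩ := (Finite.injective_iff_surjective.1 hFinj) ⟨b, hb⟩
        have hbe : b = e⁻¹ * (x * e * x⁻¹) := (congrArg Subtype.val hef).symm
        have hxe : x * ⁅a, e⁆ * x⁻¹ = ⁅a, x * e * x⁻¹⁆ := by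
          conv_rhs => rw [← hxa]
          simp only [commutatorElement_def]; group
        have hsplit : π ⁅a, e * b⁆ = π ⁅a, e⁆ * π ⁅a, b⁆ := by
          rw [show ⁅a, e * b⁆ = ⁅a, e⁆ * (e * ⁅a, b⁆ * e⁻¹) by simp only [commutatorElement_def]; group,
            map_mul, map_mul, map_mul, map_inv, ← hcen _ (hcomm a ha b hb) e (mem_inf.1 he).1, mul_inv_cancel_right]
        rw [show e * b = x * e * x⁻¹ by rw [hbe]; group, ← hxe] at hsplit
        have h1 : π ⁅a, b⁆ = (π ⁅a, e⁆)⁻¹ * π (x * ⁅a, e⁆ * x⁻¹) := by rw [hsplit, inv_mul_cancel_left]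
        set A' := (Γ ⊓ ((P : Subgroup S) ⊓ centralizer (X : Set S))) ⊔ N with hA'
        have hA'Γ : A' ≤ Γ := sup_le inf_le_left hNΓ
        have hnorm' : Γ ⊓ B ≤ normalizer (A' : Set S) := by
          intro z hz
          refine mem_normalizer_fintype (S := ((A' : Subgroup S) : Set S)) fun w hw => ?_
          rw [show z * w * z⁻¹ = ⁅z, w⁆ * w by rw [commutatorElement_def, inv_mul_cancel_right]]
          exact mul_mem (mem_sup_right (commutator_mem_commutator (mem_inf.1 hz).1 (hΓP (hA'Γ hw)))) hw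
        have hmem : ⁅a, e⁆ ∈ ((A' ⊔ Γ ⊓ B : Subgroup S) : Set S) :=
          sup_le_sup_right (le_sup_left : _ ≤ A') _ (hΓAB (hcomm a ha e he))
        rw [coe_mul_of_right_le_normalizer_left _ _ hnorm'] at hmem
        obtain ⟨v1, hv1, v2, hv2, hv⟩ := Set.mem_mul.1 hmem
        have hxv1 : π (x * v1 * x⁻¹) = π v1 := by
          obtain ⟨a1, ha1, n1, hn1, rfl⟩ := mem_sup_of_normal_right.1 hv1
          rw [map_mul π a1, (hπ1 n1).2 hn1, mul_one, show x * (a1 * n1) * x⁻¹ = x * a1 * x⁻¹ * (x * n1 * x⁻¹) by group,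
            map_mul, (hπ1 _).2 ((inferInstance : N.Normal).conj_mem n1 hn1 x), mul_one,
            mem_centralizer_iff.1 (mem_inf.1 (mem_inf.1 ha1).2).2 x hx, mul_inv_cancel_right]
        have h2 : π ⁅a, b⁆ = π (v2⁻¹ * (x * v2 * x⁻¹)) := by
          rw [h1, ← hv, show x * (v1 * v2) * x⁻¹ = (x * v1 * x⁻¹) * (x * v2 * x⁻¹) by group, map_mul π (x * v1 * x⁻¹),
            hxv1, ← map_inv, ← map_mul, ← map_mul]
          congr 1
          group
        set r := v2⁻¹ * (x * v2 * x⁻¹) with hr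
        have hyr : y * r * y⁻¹ = r := by
          have : r ∈ B := mul_mem (inv_mem (mem_inf.1 hv2).2) (hxB _ (mem_inf.1 hv2).2)
          rw [mem_centralizer_iff.1 (mem_inf.1 this).2 y hy, mul_inv_cancel_right]
        rw [map_mul, map_mul, h2, ← map_mul, ← map_mul, hyr]
      have hΓgen := hgen Γ hΓP (by rw [normalizer_eq_top]; exact le_top)
      have f2 := hside X₁ X₂ C1 C2 h₁ h₂ rfl rfl hdisj hΓgen (fun a ha b hb => ih a ha b hb) hc₁ c hc d hd
      have f1 := hside X₂ X₁ C2 C1 h₂ h₁ rfl rfl (inf_comm C2 C1 ▸ hdisj) (sup_comm (Γ ⊓ C1) (Γ ⊓ C2) ▸ hΓgen)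
        (fun a ha b hb => by rw [← commutatorElement_inv]; exact inv_mem (ih b hb a ha)) hc₂ d hd c hc
      have hfix : ∀ y ∈ Q, ⁅y, ⁅c, d⁆⁆ ∈ N := by
        let K : Subgroup S :=
          { carrier := {y | π y * π ⁅c, d⁆ = π ⁅c, d⁆ * π y}
            one_mem' := by simp
            mul_mem' := fun {u v} hu hv => by
              show π (u * v) * _ = _ * π (u * v)
              rw [map_mul]; exact (Commute.mul_left hu hv)
            inv_mem' := fun {u} hu => by
              show π u⁻¹ * _ = _ * π u⁻¹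
              rw [map_inv]; exact Commute.inv_left hu }
        have hXK : Q ≤ K := by
          rw [← hX12]
          refine sup_le (fun y hy => ?_) (fun y hy => ?_)
          · have h1 := f1 y hy
            rw [← commutatorElement_inv c d, map_mul, map_mul, map_inv, map_inv] at h1
            have h2 : Commute (π y) (π ⁅c, d⁆)⁻¹ := mul_inv_eq_iff_eq_mul.1 h1
            exact (inv_inv (π ⁅c, d⁆) ▸ h2.inv_right : Commute (π y) (π ⁅c, d⁆))
          · have h1 := f2 y hy
            rw [map_mul, map_mul, map_inv] at h1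
            exact mul_inv_eq_iff_eq_mul.1 h1
        intro y hy
        rw [← hπ1, map_commutatorElement, commutatorElement_eq_one_iff_mul_comm]
        exact hXK hy
      have hNP : N ≤ (P : Subgroup S) := hNΓ.trans hΓP
      obtain ⟨m, hm, hmc⟩ := CfsgLib.Solvable.exists_mul_mem_centralizer Q N
        (by rw [normalizer_eq_top]; exact le_top) (hcop.coprime_dvd_right (card_dvd_of_le hNP))
        (Or.inl (Group.isSolvable_of_comm fun x y => Subtype.ext (hQab _ x.2 _ y.2))) ⁅c, d⁆ hfix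
      have h9 : m * ⁅c, d⁆ = 1 := mem_bot.1 (hcentQ.le ⟨mul_mem (hNP hm) (hΓP (ih c hc d hd)), hmc⟩)
      rw [(inv_eq_of_mul_eq_one_right h9).symm]
      exact inv_mem hm
  haveI := P.2.isNilpotent
  obtain ⟨n, hn⟩ := (isNilpotent_iff_lowerCentralSeries _).1 (inferInstance : Group.IsNilpotent (P : Subgroup S))
  rw [eq_bot_iff, Subgroup.commutator_le]
  intro c hc d hd
  exact hn ▸ key n c hc d hd

end Cfsg.Agent.S1900
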