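import Cfsg.Statements.S1901
import Cfsg.Agent.Lib.Transfer.PSolvable
import Cfsg.Agent.Lib.Solvable.CoprimeAction
import Cfsg.Agent.Lib.Fusion.SylowTools
import Cfsg.Agent.Lib.Fusion.Basic
import Cfsg.Agent.Lib.Solvable.MinimalNormal

set_option autoImplicit false
open Cfsg

namespace Cfsg.Agent.S1901

open scoped commutatorElement
open Subgroup

universe w

theorem card_eq_mul_map {G H : Type*} [Group G] [Group H] [Finite G] (X : Subgroup G) (f : G →* H) :
    Nat.card X = Nat.card ↥(X ⊓ f.ker) * Nat.card (X.map f) := by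
  rw [card_eq_card_quotient_mul_card_subgroup (f.comp X.subtype).ker, mul_comm]
  congr 1
  · refine (card_map_of_injective (K := (f.comp X.subtype).ker) X.subtype_injective).symm.trans ?_
    rw [← MonoidHom.comap_ker, ← subgroupOf, subgroupOf_map_subtype, inf_comm]
  · rw [Nat.card_congr (QuotientGroup.quotientKerEquivRange _).toEquiv, MonoidHom.range_comp,
      range_subtype]

theorem key {p : ℕ} [hp : Fact p.Prime] : ∀ n, ∀ (G : Type w) [Group G] [Finite G], Nat.card G = n →
    Cfsg.IsPSolvable p G → ∀ Q : Subgroup G, ¬ p ∣ Nat.card Q → ∀ P : Sylow p G,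
      Q ≤ normalizer ((P : Subgroup G) : Set G) → ∀ R : Subgroup G, IsPGroup p R →
        R ≤ normalizer (Q : Set G) →
          Nat.card R ≤ Nat.card ↥((P : Subgroup G) ⊓ centralizer (Q : Set G)) := by
  intro n
  induction n using Nat.strong_induction_on with
  | _ n ih =>
  intro G _ _ hn hG Q hQ P hQP R hR hRQ
  rcases subsingleton_or_nontrivial G with hs | hnt
  · exact (Finite.card_le_one_iff_subsingleton.2 inferInstance).trans Nat.card_pos
  obtain ⟨M, hMn, hMne, hM⟩ : ∃ M : Subgroup G, M.Normal ∧ M ≠ ⊥ ∧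
      (IsPGroup p M ∨ (Nat.card M).Coprime p) := by
    by_cases h : Cfsg.pPrimeCore p G = ⊥
    · refine ⟨Cfsg.pCore p G, by haveI := CfsgLib.Cores.pCore_characteristic (G := G) p; infer_instance,
        fun h' => ?_, Or.inl (CfsgLib.Cores.isPGroup_pCore p)⟩
      have h1 := CfsgLib.Transfer.centralizer_pCore_le_of_isPSolvable hG h
      rw [h', le_bot_iff] at h1
      obtain ⟨x, hx⟩ := exists_ne (1 : G)
      refine hx (mem_bot.1 (h1.le (mem_centralizer_iff.2 fun y hy => ?_)))
      rw [mem_bot.1 hy, one_mul, mul_one]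
    · exact ⟨_, inferInstance, h, Or.inr (CfsgLib.Cores.coprime_card_pPrimeCore p)⟩
  haveI := hMn
  set π := QuotientGroup.mk' M with hπ
  have hπs : Function.Surjective π := QuotientGroup.mk'_surjective M
  have hker : π.ker = M := QuotientGroup.ker_mk' M
  obtain ⟨k, hk⟩ := IsPGroup.iff_card.1 P.2
  have hcop : (Nat.card Q).Coprime (Nat.card ↥(M ⊓ (P : Subgroup G))) :=
    Nat.Coprime.coprime_dvd_right (card_dvd_of_le inf_le_right)
      (hk ▸ Nat.Coprime.pow_right k ((hp.out.coprime_iff_not_dvd.2 hQ).symm))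
  have hlift : ((P : Subgroup G).map π) ⊓ centralizer ((Q.map π : Subgroup (G ⧸ M)) : Set (G ⧸ M)) ≤
      ((P : Subgroup G) ⊓ centralizer (Q : Set G)).map π := by
    rintro _ ⟨⟨u, hu, rfl⟩, hc⟩
    obtain ⟨m, hm, hmc⟩ := CfsgLib.Solvable.exists_mul_mem_centralizer Q (M ⊓ (P : Subgroup G))
      (fun q hq => by
        rw [← CfsgLib.Fusion.conjSub_eq_iff_mem_normalizer, CfsgLib.Fusion.conjSub,
          map_inf _ _ _ (MulAut.conj q).injective]
        have h1 : M.map (MulAut.conj q).toMonoidHom = M :=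
          CfsgLib.Fusion.conjSub_eq_iff_mem_normalizer.2 (by rw [normalizer_eq_top]; exact mem_top q)
        have h2 : (P : Subgroup G).map (MulAut.conj q).toMonoidHom = P :=
          CfsgLib.Fusion.conjSub_eq_iff_mem_normalizer.2 (hQP hq)
        rw [h1, h2])
      hcop (Or.inr (by
        haveI := (P.2.to_le (inf_le_right : M ⊓ (P : Subgroup G) ≤ _)).isNilpotent
        infer_instance)) u fun q hq => ⟨by
          refine (QuotientGroup.eq_one_iff _).1 ?_
          show π ⁅q, u⁆ = 1
          rw [map_commutatorElement, commutatorElement_eq_one_iff_mul_comm]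
          exact mem_centralizer_iff.1 hc (π q) (mem_map_of_mem π hq), by
          rw [commutatorElement_def]
          exact (P : Subgroup G).mul_mem ((mem_normalizer_iff.1 (hQP hq) u).1 hu)
            ((P : Subgroup G).inv_mem hu)⟩
    refine ⟨m * u, ⟨(P : Subgroup G).mul_mem hm.2 hu, hmc⟩, ?_⟩
    rw [map_mul, show π m = 1 from (QuotientGroup.eq_one_iff m).2 hm.1, one_mul]
  have hlt : Nat.card (G ⧸ M) < n := hn ▸ CfsgLib.Solvable.card_quotient_lt _ hMne
  have h1 := ih _ hlt (G ⧸ M) rfl (CfsgLib.Transfer.isPSolvable_quotient hG M) (Q.map π)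
    (fun hd => hQ (hd.trans (card_map_dvd Q π))) (P.mapSurjective hπs)
    (by rw [Sylow.coe_mapSurjective]; exact (map_mono hQP).trans (le_normalizer_map π))
    (R.map π) (hR.map π) ((map_mono hRQ).trans (le_normalizer_map π))
  rw [Sylow.coe_mapSurjective] at h1
  have h2 : Nat.card ↥(R ⊓ M) ≤ Nat.card ↥((P : Subgroup G) ⊓ centralizer (Q : Set G) ⊓ M) := by
    rcases hM with hMp | hMc
    · refine card_le_of_le (le_inf (le_inf ?_ ?_) inf_le_right)
      · exact inf_le_right.trans ((CfsgLib.Cores.le_pCore hMp).trans (CfsgLib.Cores.pCore_le_sylow P))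
      · rintro x ⟨hxR, hxM⟩
        refine mem_centralizer_iff.2 fun q hq => ?_
        rw [← commutatorElement_eq_one_iff_mul_comm]
        have hdis : Q ⊓ M = ⊥ := by
          obtain ⟨j, hj⟩ := IsPGroup.iff_card.1 hMp
          exact (disjoint_of_coprime_natCard
            (hj ▸ Nat.Coprime.pow_right j ((hp.out.coprime_iff_not_dvd.2 hQ).symm))).eq_bot
        refine mem_bot.1 (hdis ▸ ⟨?_, ?_⟩)
        · rw [commutatorElement_def, mul_assoc, mul_assoc]
          refine Q.mul_mem hq ?_
          have := (mem_normalizer_iff.1 (hRQ hxR) q⁻¹).1 (Q.inv_mem hq)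
          simpa [mul_assoc] using this
        · rw [commutatorElement_def]
          exact M.mul_mem (hMn.conj_mem x hxM q) (M.inv_mem hxM)
    · have : R ⊓ M = ⊥ := by
        obtain ⟨j, hj⟩ := IsPGroup.iff_card.1 hR
        exact (disjoint_of_coprime_natCard (hj ▸ hMc.symm.pow_left j)).eq_bot
      rw [this, card_bot]
      exact Nat.card_pos
  rw [card_eq_mul_map R π, card_eq_mul_map ((P : Subgroup G) ⊓ centralizer (Q : Set G)) π, hker]
  exact Nat.mul_le_mul h2 (h1.trans (card_le_of_le hlift))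

/-- Let G be a finite p-solvable group and Q a subgroup of order prime to p such that p divides the index of C_G(Q) in N_G(Q). Then Q normalizes no Sylow p-subgroup of G. -/
theorem result {G : Type*} [Group G] [Finite G] {p : ℕ} [Fact p.Prime]
    (hG : Cfsg.IsPSolvable p G) (Q : Subgroup G) (hQ : ¬ p ∣ Nat.card Q)
    (hA : p ∣ (Subgroup.centralizer (Q : Set G)).relIndex (Subgroup.normalizer (Q : Set G)))
    (P : Sylow p G) : ¬ Q ≤ Subgroup.normalizer ((P : Subgroup G) : Set G) := by
  intro hQP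
  set N := Subgroup.normalizer (Q : Set G) with hN
  set C := Subgroup.centralizer (Q : Set G) with hC
  have hCN : C ≤ N := Subgroup.centralizer_le_normalizer _
  obtain ⟨R⟩ : Nonempty (Sylow p N) := inferInstance
  set R' := (R : Subgroup N).map N.subtype with hR'
  have hRi : ¬ p ∣ R'.relIndex N := by
    rw [Subgroup.relIndex, Subgroup.subgroupOf, hR',
      Subgroup.comap_map_eq_self_of_injective N.subtype_injective]
    exact R.not_dvd_index
  have h := key _ G rfl hG Q hQ P hQP R' (R.2.map _) (Subgroup.map_subtype_le _)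
  have h0 : (P : Subgroup G) ⊓ C ≤ N := inf_le_right.trans hCN
  obtain ⟨n, hn, hm⟩ := CfsgLib.Fusion.exists_conj_mem_of_le (P.2.to_le inf_le_left) (R.2.map _) h0
    (Subgroup.map_subtype_le _) hRi
  have hle : ((P : Subgroup G) ⊓ C).map (MulAut.conj n).toMonoidHom ≤ R' := by
    rintro _ ⟨y, hy, rfl⟩
    exact hm y hy
  have heq : ((P : Subgroup G) ⊓ C).map (MulAut.conj n).toMonoidHom = R' :=
    Subgroup.eq_of_le_of_card_ge hle (h.trans
      (Subgroup.card_map_of_injective (MulAut.conj n).injective).ge)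
  have hRC : R' ≤ C := by
    rw [← heq]
    rintro _ ⟨y, hy, rfl⟩
    refine Subgroup.mem_centralizer_iff.2 fun q hq => ?_
    have hq' : n⁻¹ * q * n ∈ Q := by simpa using (Subgroup.mem_normalizer_iff.1 (N.inv_mem hn) q).1 hq
    have h2 := Subgroup.mem_centralizer_iff.1 hy.2 _ hq'
    show q * (n * y * n⁻¹) = n * y * n⁻¹ * q
    calc q * (n * y * n⁻¹) = n * ((n⁻¹ * q * n) * y) * n⁻¹ := by group
      _ = n * (y * (n⁻¹ * q * n)) * n⁻¹ := by rw [h2]
      _ = n * y * n⁻¹ * q := by group
  exact hRi (hA.trans (Subgroup.relIndex_dvd_of_le_left N hRC))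

end Cfsg.Agent.S1901
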