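import Cfsg.Statements.S1902
import Cfsg.Agent.Lib.Techniques.SmallFixedAction
import Cfsg.Agent.Lib.Transfer.PSolvable
import Cfsg.Agent.Lib.Cores.PConstrained
import Cfsg.Agent.Lib.Fusion.SylowTools
import Cfsg.Agent.Lib.Fusion.Basic
import Cfsg.Agent.Lib.Solvable.CoprimeAction

set_option autoImplicit false
open Cfsg

namespace Cfsg.Agent.S1902

section
open Subgroup
open scoped commutatorElement

variable {G : Type*} [Group G] [Finite G] {p : ℕ} [hp : Fact p.Prime]

/-- The case of trivial `p'`-core. -/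
theorem eq_bot_of_core_trivial (hp2 : p ≠ 2) {R : Subgroup G} [R.Normal] (hR : IsPGroup p R)
    (hCR : centralizer (R : Set G) ≤ R) {B Q : Subgroup G} (hBab : ∀ x ∈ B, ∀ y ∈ B, x * y = y * x)
    (hBc : Nat.card B ∣ p ^ 2) {b₀ : G} (hb₀ : b₀ ∈ B) (ho : orderOf b₀ = p)
    (hQ : (Nat.card Q).Coprime p) (hBQ : B ≤ normalizer (Q : Set G))
    (hfix : ∀ x ∈ R, x ^ p = 1 → b₀ * x = x * b₀ → x ∈ B) : Q = ⊥ := by
  have hRn : ∀ H : Subgroup G, H ≤ normalizer (R : Set G) := fun H => by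
    rw [Subgroup.normalizer_eq_top_iff.2 ‹_›]; exact le_top
  obtain ⟨k, hk⟩ := hR.exists_card_eq
  have hQR : Q ⊓ R = ⊥ := inf_eq_bot_of_coprime (by rw [hk]; exact hQ.pow_right k)
  set L := B ⊓ R with hL
  have hQL : Q ≤ centralizer (L : Set G) := fun u hu => mem_centralizer_iff.2 fun r hr => by
    have h1 : r * u * r⁻¹ * u⁻¹ ∈ Q ⊓ R :=
      ⟨Q.mul_mem ((mem_normalizer_iff.1 (hBQ hr.1) u).1 hu) (Q.inv_mem hu),
        by
          rw [show r * u * r⁻¹ * u⁻¹ = r * (u * r⁻¹ * u⁻¹) by group]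
          exact R.mul_mem hr.2 (Normal.conj_mem inferInstance _ (R.inv_mem hr.2) u)⟩
    rw [hQR, mem_bot, mul_inv_eq_one, mul_inv_eq_iff_eq_mul] at h1
    exact h1
  -- the fixed points of `b₀` on `Q` centralize `R`
  have hfree : ∀ u ∈ Q, u * b₀ = b₀ * u → u = 1 := by
    intro u hu hub
    have hucop : (orderOf u).Coprime p := hQ.coprime_dvd_left (Q.orderOf_dvd_natCard hu)
    set T := R ⊓ centralizer ((zpowers b₀ : Subgroup G) : Set G) with hT
    have hTfix : ∀ t ∈ T, u * t = t * u := by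
      have hun : u ∈ normalizer (T : Set G) :=
        CfsgLib.Solvable.mem_normalizer_of_conj_mem fun t ht => ⟨Normal.conj_mem inferInstance t ht.1 u,
          mem_centralizer_iff.2 fun b hb => by
            obtain ⟨i, rfl⟩ := mem_zpowers_iff.1 hb
            have h1 : Commute (b₀ ^ i) u := (Commute.symm hub).zpow_left i
            have h2 : Commute (b₀ ^ i) t := mem_centralizer_iff.1 ht.2 _ hb
            exact ((h1.mul_right h2).mul_right h1.inv_right).eq⟩
      have hα : CfsgLib.OddLocal.conjOn T ⟨u, hun⟩ = 1 := by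
        refine CfsgLib.Transfer.aut_eq_one_of_fix_omega hp2 (hR.to_le inf_le_left) _ ?_ fun w hw => ?_
        · refine hucop.coprime_dvd_left ((orderOf_map_dvd (CfsgLib.OddLocal.conjOn T) _).trans ?_)
          rw [← Subgroup.orderOf_coe]
        · refine Subtype.ext ?_
          rw [CfsgLib.OddLocal.conjOn_apply]
          refine mul_inv_eq_iff_eq_mul.2 ?_
          exact (mem_centralizer_iff.1 (hQL hu) w ⟨hfix _ w.2.1 (congrArg Subtype.val hw)
            (mem_centralizer_iff.1 w.2.2 b₀ (mem_zpowers b₀)), w.2.1⟩).symm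
      intro t ht
      have h2 := congrArg Subtype.val (DFunLike.congr_fun hα (⟨t, ht⟩ : T))
      rw [CfsgLib.OddLocal.conjOn_apply] at h2
      exact mul_inv_eq_iff_eq_mul.1 h2
    have hall := CfsgLib.Local.commute_of_commute_fixedPoints (U := zpowers b₀)
      (IsPGroup.of_card (n := 1) (by rw [Nat.card_zpowers, ho, pow_one]))
      (fun b hb => by
        obtain ⟨i, rfl⟩ := mem_zpowers_iff.1 hb
        exact ((show Commute u b₀ from hub).zpow_right i).eq)
      hucop R hR (hRn _) (hRn _ (mem_zpowers u)) (fun q hq hqU => hTfix q ⟨hq, mem_centralizer_iff.2 hqU⟩)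
    exact mem_bot.1 (hQR ▸ (⟨hu, hCR (mem_centralizer_iff.2 fun r hr => (hall r hr).symm)⟩ : u ∈ Q ⊓ R))
  by_cases hbR : b₀ ∈ R
  · rw [eq_bot_iff]
    intro u hu
    exact mem_bot.2 (hfree u hu (mem_centralizer_iff.1 (hQL hu) b₀ ⟨hb₀, hbR⟩).symm)
  have hLc : Nat.card L ≤ p := by
    obtain ⟨j, hj, hje⟩ := (Nat.dvd_prime_pow hp.out).1 ((card_dvd_of_le (inf_le_left : L ≤ B)).trans hBc)
    rw [hje]
    refine (Nat.pow_le_pow_right hp.out.pos ?_).trans (pow_one p).le
    by_contra hj1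
    refine hbR ((eq_of_le_of_card_ge (inf_le_left : L ≤ B) ?_).ge hb₀).2
    rw [hje, show j = 2 by omega]
    exact Nat.le_of_dvd (pow_pos hp.out.pos _) hBc
  have hQC := CfsgLib.Techniques.SmallFixedAction.commute_of_small_fixed hp2 hR ho (hRn _)
    (hRn _ (mem_zpowers b₀)) (hBQ hb₀) hfree hQ hLc hQL
    (fun x hx hxp hxb => ⟨hfix x hx hxp hxb, hx⟩)
  exact le_bot_iff.1 ((le_inf le_rfl (hQC.trans hCR)).trans hQR.le)

end

/-- Let p be an odd prime, G a finite p-solvable group, and B an elementary abelian subgroup of order p² such that B is the subgroup generated by the elements of order p of some Sylow p-subgroup of C_G(b₀), for some nontrivial b₀ ∈ B. Then every B-invariant subgroup of G of order prime to p lies in O_{p'}(G). -/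
theorem result {G : Type*} [Group G] [Finite G] {p : ℕ} [Fact p.Prime] (hp : p ≠ 2)
    (hG : Cfsg.IsPSolvable p G) (B : Subgroup G) (hB : Cfsg.IsElementaryAbelian p B) (hBc : Nat.card B = p ^ 2)
    (b₀ : G) (hb₀ : b₀ ∈ B) (hb₁ : b₀ ≠ 1) (P : Sylow p ↥(Subgroup.centralizer ({b₀} : Set G)))
    (hBP : B = Subgroup.closure {x : G | x ∈ ((P : Subgroup ↥(Subgroup.centralizer ({b₀} : Set G))).map
      (Subgroup.centralizer ({b₀} : Set G)).subtype : Subgroup G) ∧ orderOf x = p})
    (Q : Subgroup G) (hQ : ¬ p ∣ Nat.card Q) (hinv : ∀ b ∈ B, ∀ x ∈ Q, b * x * b⁻¹ ∈ Q) :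
    Q ≤ Cfsg.pPrimeCore p G := by
  classical
  have hpF : Fact p.Prime := inferInstance
  set O := Cfsg.pPrimeCore p G with hO
  let π := QuotientGroup.mk' O
  set M := Cfsg.pPrimePCore p G with hM
  have hMn : M.Normal := CfsgLib.Cores.pPrimePCore_normal
  set R := Cfsg.pCore p (G ⧸ O) with hR
  have hsol : Cfsg.IsPSolvable p (G ⧸ O) := CfsgLib.Transfer.isPSolvable_quotient hG O
  have hO0 : Cfsg.pPrimeCore p (G ⧸ O) = ⊥ := CfsgLib.Cores.pPrimeCore_quotient_self p
  have hπO : ∀ x : G, π x = 1 ↔ x ∈ O := fun x => QuotientGroup.eq_one_iff x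
  haveI : R.Normal := by
    haveI := CfsgLib.Cores.pCore_characteristic (G := G ⧸ O) p
    infer_instance
  have hp1 : ∀ x : G, x ∈ O → x ^ p = 1 → x = 1 := fun x hx hxp => by
    have hd1 : orderOf x ∣ p := orderOf_dvd_of_pow_eq_one hxp
    exact orderOf_eq_one_iff.1 (Nat.eq_one_of_dvd_coprimes (CfsgLib.Cores.coprime_card_pPrimeCore p)
      (O.orderOf_dvd_natCard hx) hd1)
  have hbp : b₀ ^ p = 1 := hB.2 b₀ hb₀
  have ho : orderOf b₀ = p := orderOf_eq_prime hbp hb₁
  have hob : orderOf (π b₀) = p := orderOf_eq_prime (by rw [← map_pow, hbp, map_one])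
    fun h => hb₁ (hp1 b₀ ((hπO b₀).1 h) hbp)
  let C : Subgroup G := Subgroup.centralizer ({b₀} : Set G)
  have hBab : ∀ x ∈ B, ∀ y ∈ B, x * y = y * x := fun x hx y hy =>
    congrArg Subtype.val (hB.1.is_comm.comm ⟨x, hx⟩ ⟨y, hy⟩)
  have hBC : B ≤ C := fun x hx => Subgroup.mem_centralizer_singleton_iff.2 (hBab x hx b₀ hb₀)
  have hBp : IsPGroup p B := IsPGroup.of_card hBc
  set P' := (P : Subgroup C).map C.subtype with hP'
  have hord : ∀ x ∈ P', x ^ p = 1 → x ∈ B := by
    intro x hx hxp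
    by_cases hx1 : x = 1
    · rw [hx1]; exact B.one_mem
    · rw [hBP]; exact Subgroup.subset_closure ⟨hx, orderOf_eq_prime hxp hx1⟩
  -- elements of order `p` of a `p`-subgroup of `C` containing `B` lie in `B`
  have hmax : ∀ S : Subgroup G, S ≤ C → IsPGroup p S → B ≤ S → ∀ s ∈ S, s ^ p = 1 → s ∈ B := by
    intro S hSC hS hBS s hs hsp
    obtain ⟨c, -, hc⟩ := CfsgLib.Fusion.exists_conj_mem_of_le hS (P.2.map _ : IsPGroup p P') hSC
      (Subgroup.map_subtype_le _) (by
        rw [Subgroup.relIndex, Subgroup.subgroupOf]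
        show ¬ p ∣ (((P : Subgroup C).map C.subtype).comap C.subtype).index
        rw [Subgroup.comap_map_eq_self_of_injective C.subtype_injective]
        exact P.not_dvd_index)
    have hcB : c ∈ Subgroup.normalizer (B : Set G) := CfsgLib.Fusion.mem_normalizer_of_forall fun b hb =>
      hord _ (hc b (hBS hb)) (by rw [conj_pow, hB.2 b hb, mul_one, mul_inv_cancel])
    exact (Subgroup.mem_normalizer_iff.1 hcB s).2 (hord _ (hc s hs) (by rw [conj_pow, hsp, mul_one, mul_inv_cancel]))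
  have hfix : ∀ x ∈ R, x ^ p = 1 → π b₀ * x = x * π b₀ → x ∈ B.map π := by
    intro y hy hyp hyb
    obtain ⟨x, rfl⟩ := QuotientGroup.mk'_surjective O y
    have hxM : x ∈ M := hy
    -- lift to the centralizer of `b₀`
    have hcop : (Nat.card (Subgroup.zpowers b₀)).Coprime (Nat.card O) := by
      rw [Nat.card_zpowers, ho]; exact (CfsgLib.Cores.coprime_card_pPrimeCore p).symm
    obtain ⟨n, hn, hnc⟩ := CfsgLib.Solvable.exists_mul_mem_centralizer (Subgroup.zpowers b₀) O
      (by rw [Subgroup.normalizer_eq_top_iff.2 inferInstance]; exact le_top) hcop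
      (Or.inl (Group.isSolvable_of_comm fun a b => Std.Commutative.comm (op := (· * ·)) a b)) x (fun b hb => by
        rw [← hπO, map_commutatorElement, commutatorElement_eq_one_iff_commute]
        obtain ⟨i, rfl⟩ := Subgroup.mem_zpowers_iff.1 hb
        rw [map_zpow]
        exact Commute.zpow_left (show Commute (π b₀) (π x) from hyb) i)
    set H := (M ⊓ C) ⊔ B with hH
    have hHC : H ≤ C := sup_le inf_le_right hBC
    have hOM : O ≤ M := CfsgLib.Cores.pPrimeCore_le_pPrimePCore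
    have hnx : n * x ∈ H := Subgroup.mem_sup_left ⟨M.mul_mem (hOM hn) hxM,
      Subgroup.mem_centralizer_singleton_iff.2
        (Subgroup.mem_centralizer_iff.1 hnc b₀ (Subgroup.mem_zpowers b₀)).symm⟩
    have hHp : IsPGroup p ↥(H.map π) := by
      have h1 : H.map π ≤ R ⊔ B.map π := by
        rw [hH, Subgroup.map_sup]
        refine sup_le_sup ?_ le_rfl
        rintro _ ⟨z, hz, rfl⟩
        exact hz.1
      exact ((CfsgLib.Cores.isPGroup_pCore p).to_sup_of_normal_left (hBp.map π)).to_le h1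
    -- a Sylow subgroup of `H` containing `B` covers the image
    obtain ⟨S, hS⟩ := (hBp.comap_subtype (K := H)).exists_le_sylow
    let f : H →* ↥(H.map π) := π.subgroupMap H
    have hf : Function.Surjective f := π.subgroupMap_surjective H
    have htop : (S : Subgroup H).map f = ⊤ := by
      have h1 := ((S.mapSurjective hf).3 (hHp.to_subgroup ⊤) le_top).symm
      rw [Sylow.coe_mapSurjective] at h1
      exact h1
    obtain ⟨⟨m, hmH⟩, hm, hmf⟩ := htop.ge (Subgroup.mem_top (f ⟨n * x, hnx⟩))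
    have hmx : π m = π x := by
      have h1 : π m = π (n * x) := congrArg Subtype.val hmf
      rw [h1, map_mul, (hπO n).2 hn, one_mul]
    have hmp : m ^ p = 1 := by
      have h1 : m ^ p ∈ O := by rw [← hπO, map_pow, hmx, hyp]
      obtain ⟨k, hk⟩ := IsPGroup.iff_orderOf.1 S.2 ⟨_, (S : Subgroup H).pow_mem hm p⟩
      rw [Subgroup.orderOf_mk, ← Subgroup.orderOf_coe, SubmonoidClass.coe_pow] at hk
      exact orderOf_eq_one_iff.1 (Nat.eq_one_of_dvd_coprimes
        ((CfsgLib.Cores.coprime_card_pPrimeCore p).pow_right k) (O.orderOf_dvd_natCard h1) (dvd_of_eq hk))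
    refine ⟨m, hmax ((S : Subgroup H).map H.subtype) ((Subgroup.map_subtype_le _).trans hHC) (S.2.map _)
      (fun b hb => ⟨⟨b, Subgroup.mem_sup_right hb⟩, hS hb, rfl⟩) m ⟨_, hm, rfl⟩ hmp, hmx⟩
  have hBn : B.map π ≤ Subgroup.normalizer ((Q.map π : Subgroup (G ⧸ O)) : Set (G ⧸ O)) := by
    rintro _ ⟨b, hb, rfl⟩
    refine CfsgLib.Fusion.mem_normalizer_of_forall ?_
    rintro _ ⟨q, hq, rfl⟩
    exact ⟨b * q * b⁻¹, hinv b hb q hq, by simp⟩
  have key := eq_bot_of_core_trivial hp (R := R) (CfsgLib.Cores.isPGroup_pCore p)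
    (CfsgLib.Transfer.centralizer_pCore_le_of_isPSolvable hsol hO0) (B := B.map π) (Q := Q.map π)
    (by
      rintro _ ⟨x, hx, rfl⟩ _ ⟨y, hy, rfl⟩
      rw [← map_mul, ← map_mul, hBab x hx y hy])
    ((Subgroup.card_map_dvd _ _).trans hBc.dvd) (Subgroup.mem_map_of_mem _ hb₀) hob
    (Nat.Coprime.coprime_dvd_left (Subgroup.card_map_dvd _ _)
      ((CfsgLib.Cores.coprime_iff_not_dvd hpF.out _).2 hQ)) hBn hfix
  intro q hq
  exact (hπO q).1 (Subgroup.mem_bot.1 (key.le ⟨q, hq, rfl⟩))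

end Cfsg.Agent.S1902
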