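import Cfsg.Statements.S1905
import Mathlib

set_option autoImplicit false
open Cfsg

namespace Cfsg.Agent.S1905

open Subgroup

/-- Two involutions are conjugate by a power of their product or centralise a common involution. -/
theorem dihedral_dichotomy {S : Type*} [Group S] [Finite S] {i u : S} (hi : orderOf i = 2) (hu : orderOf u = 2) :
    (∃ v ∈ zpowers (i * u), v * u * v⁻¹ = i) ∨ ∃ k : S, orderOf k = 2 ∧ i * k = k * i ∧ u * k = k * u := by
  have hii : i * i = 1 := by rw [← pow_two, ← hi]; exact pow_orderOf_eq_one i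
  have huu : u * u = 1 := by rw [← pow_two, ← hu]; exact pow_orderOf_eq_one u
  set w := i * u with hw
  have hwu : u * w * u⁻¹ = w⁻¹ := by
    rw [hw, mul_inv_rev, inv_eq_of_mul_eq_one_right hii, inv_eq_of_mul_eq_one_right huu]
    calc u * (i * u) * u = u * i * (u * u) := by group
      _ = u * i := by rw [huu, mul_one]
  have hpw : ∀ s : ℕ, u * w ^ s * u⁻¹ = (w ^ s)⁻¹ := fun s => by rw [← conj_pow, hwu, inv_pow]
  rcases Nat.even_or_odd (orderOf w) with ⟨l, hl⟩ | ⟨l, hl⟩
  · right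
    have hl0 : 0 < l := by have := orderOf_pos w; omega
    have hk2 : orderOf (w ^ l) = 2 := by
      refine orderOf_eq_prime ?_ ?_
      · rw [← pow_mul, show l * 2 = orderOf w by omega]; exact pow_orderOf_eq_one w
      · exact pow_ne_one_of_lt_orderOf hl0.ne' (by omega)
    have hkk : (w ^ l)⁻¹ = w ^ l := inv_eq_of_mul_eq_one_right (by
      rw [← pow_two, ← hk2]; exact pow_orderOf_eq_one _)
    have huk : u * w ^ l = w ^ l * u := by
      have := hpw l
      rw [hkk] at this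
      exact mul_inv_eq_iff_eq_mul.1 this
    refine ⟨w ^ l, hk2, ?_, huk⟩
    have hi' : i = w * u := by rw [hw, mul_assoc, huu, mul_one]
    rw [hi', mul_assoc, huk, ← mul_assoc, ← pow_succ', pow_succ, mul_assoc]
  · left
    refine ⟨w ^ (l + 1), pow_mem (mem_zpowers w) _, ?_⟩
    have h1 : u * (w ^ (l + 1))⁻¹ = w ^ (l + 1) * u := by
      have := hpw (l + 1)
      calc u * (w ^ (l + 1))⁻¹ = u * (u * w ^ (l + 1) * u⁻¹) := by rw [this]
        _ = w ^ (l + 1) * u⁻¹ := by rw [← mul_assoc, ← mul_assoc, huu, one_mul]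
        _ = w ^ (l + 1) * u := by rw [inv_eq_of_mul_eq_one_right huu]
    rw [mul_assoc, h1, ← mul_assoc, ← pow_add, show l + 1 + (l + 1) = orderOf w + 1 by omega, pow_succ,
      pow_orderOf_eq_one, one_mul, hw, mul_assoc, huu, mul_one]

/-- Let M be a subgroup of even order of a finite group S such that M contains the centralizer in S of each of its involutions and the normal core of M in S has odd order. Then all involutions of S are conjugate. If moreover N_S(X) ≤ M for a Sylow 2-subgroup X of M and I is an involution in the centre of X, then all involutions of M are conjugate in M and M = M₀ C_M(I) for some subgroup M₀ of M of odd order. -/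
theorem result {S : Type*} [Group S] [Finite S] (M : Subgroup S) (hM : Even (Nat.card M))
    (hC : ∀ i ∈ M, orderOf i = 2 → Subgroup.centralizer ({i} : Set S) ≤ M) (hcore : Odd (Nat.card M.normalCore)) :
    (∀ x y : S, orderOf x = 2 → orderOf y = 2 → IsConj x y) ∧
      ∀ (X : Sylow 2 M) (I : M), I ∈ (Subgroup.center ↥(X : Subgroup ↥M)).map (X : Subgroup ↥M).subtype → orderOf I = 2 →
        Subgroup.normalizer (((X : Subgroup M).map M.subtype : Subgroup S) : Set S) ≤ M →
        (∀ x y : M, orderOf x = 2 → orderOf y = 2 → IsConj x y) ∧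
          ∃ M₀ : Subgroup M, Odd (Nat.card M₀) ∧
            ∀ m : M, ∃ a ∈ M₀, ∃ c ∈ Subgroup.centralizer ({I} : Set M), m = a * c := by
  classical
  haveI : Fact (Nat.Prime 2) := ⟨Nat.prime_two⟩
  have hord : ∀ g x : S, orderOf x = 2 → orderOf (g * x * g⁻¹) = 2 := fun g x hx => by
    refine orderOf_eq_prime ?_ fun h => ?_
    · rw [conj_pow, ← hx, pow_orderOf_eq_one, mul_one, mul_inv_cancel]
    · rw [conj_eq_one_iff.1 h, orderOf_one] at hx
      exact absurd hx (by norm_num)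
  have hord' : ∀ g x : S, orderOf x = 2 → orderOf (g⁻¹ * x * g) = 2 := fun g x hx => by
    have := hord g⁻¹ x hx
    rwa [inv_inv] at this
  -- an involution outside `M`
  obtain ⟨j, hj, hjM⟩ : ∃ j : S, orderOf j = 2 ∧ j ∉ M := by
    by_contra hall
    push Not at hall
    obtain ⟨⟨i, hiM⟩, hi⟩ := exists_prime_orderOf_dvd_card' 2 (even_iff_two_dvd.1 hM)
    rw [orderOf_mk] at hi
    have hmem : i ∈ M.normalCore := fun g => hall _ (hord g i hi)
    have hd : 2 ∣ Nat.card M.normalCore := hi ▸ Subgroup.orderOf_dvd_natCard _ hmem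
    exact (Nat.not_even_iff_odd.2 hcore) (even_iff_two_dvd.2 hd)
  have hout : ∀ i u : S, i ∈ M → orderOf i = 2 → u ∉ M → orderOf u = 2 →
      ∃ v ∈ zpowers (i * u), v * u * v⁻¹ = i := by
    intro i u hiM hi huM hu
    refine (dihedral_dichotomy hi hu).resolve_right ?_
    rintro ⟨k, hk, hik, huk⟩
    have hkM : k ∈ M := hC i hiM hi (mem_centralizer_singleton_iff.2 hik.symm)
    exact huM (hC k hkM hk (mem_centralizer_singleton_iff.2 huk))
  have hall : ∀ x y : S, orderOf x = 2 → orderOf y = 2 → IsConj x y := by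
    have hin : ∀ x, orderOf x = 2 → x ∈ M → IsConj x j := fun x hx hxM => by
      obtain ⟨v, -, hv⟩ := hout x j hxM hx hjM hj
      exact (isConj_iff.2 ⟨v, hv⟩).symm
    obtain ⟨⟨i, hiM⟩, hi⟩ := exists_prime_orderOf_dvd_card' 2 (even_iff_two_dvd.1 hM)
    rw [orderOf_mk] at hi
    have key : ∀ x, orderOf x = 2 → IsConj x j := fun x hx => by
      by_cases hxM : x ∈ M
      · exact hin x hx hxM
      · obtain ⟨v, -, hv⟩ := hout i x hiM hi hxM hx
        exact (isConj_iff.2 ⟨v, hv⟩).trans (hin i hi hiM)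
    exact fun x y hx hy => (key x hx).trans (key y hy).symm
  refine ⟨hall, fun X I hIZ hI hNX => ?_⟩
  set XS := (X : Subgroup M).map M.subtype with hXS
  -- a conjugate of `M` meeting it in even order is `M`
  have hemb : ∀ g : S, ∀ i ∈ M, orderOf i = 2 → g⁻¹ * i * g ∈ M → g ∈ M := by
    intro g i hiM hi hgi
    obtain ⟨U, hU⟩ : ∃ U : Sylow 2 M, zpowers (⟨i, hiM⟩ : M) ≤ (U : Subgroup M) :=
      IsPGroup.exists_le_sylow (IsPGroup.of_card (n := 1) (by rw [Nat.card_zpowers, orderOf_mk, hi, pow_one]))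
    haveI : Nontrivial ↥(U : Subgroup M) := by
      refine ⟨⟨⟨⟨i, hiM⟩, hU (mem_zpowers _)⟩, 1, fun h => ?_⟩⟩
      have h2 : i = 1 := congrArg Subtype.val (congrArg Subtype.val h)
      rw [h2, orderOf_one] at hi
      exact absurd hi (by norm_num)
    haveI := U.2.center_nontrivial
    obtain ⟨w, hw⟩ := exists_prime_orderOf_dvd_card' 2 (by
      obtain ⟨e, he⟩ := IsPGroup.iff_card.1 (U.2.to_subgroup (center ↥(U : Subgroup M)))
      rcases Nat.eq_zero_or_pos e with rfl | he0
      · exact absurd he (Finite.one_lt_card).ne'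
      · exact he ▸ dvd_pow_self 2 he0.ne')
    set w' : S := (((w : ↥(U : Subgroup M)) : M) : S) with hw'
    have hwo : orderOf w' = 2 := by rw [hw', orderOf_coe, orderOf_coe, orderOf_coe, hw]
    have hwM : w' ∈ M := ((w : ↥(U : Subgroup M)) : M).2
    have hwc : ∀ u : M, u ∈ (U : Subgroup M) → (u : S) * w' = w' * u := fun u hu =>
      congrArg (fun z : ↥(U : Subgroup M) => ((z : M) : S)) (mem_center_iff.1 w.2 ⟨u, hu⟩)
    have hgw : g⁻¹ * w' * g ∈ M := by
      refine hC _ hgi (hord' g i hi) ?_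
      rw [mem_centralizer_singleton_iff]
      calc g⁻¹ * w' * g * (g⁻¹ * i * g) = g⁻¹ * (w' * i) * g := by group
        _ = g⁻¹ * (i * w') * g := by rw [← hwc ⟨i, hiM⟩ (hU (mem_zpowers _))]
        _ = _ := by group
    have hUle : ∀ u : M, u ∈ (U : Subgroup M) → g⁻¹ * (u : S) * g ∈ M := by
      intro u hu
      refine hC _ hgw (hord' g w' hwo) ?_
      rw [mem_centralizer_singleton_iff]
      calc g⁻¹ * (u : S) * g * (g⁻¹ * w' * g) = g⁻¹ * ((u : S) * w') * g := by group
        _ = g⁻¹ * (w' * (u : S)) * g := by rw [hwc u hu]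
        _ = _ := by group
    set V := (((U : Subgroup M).map M.subtype).map (MulAut.conj g⁻¹).toMonoidHom).subgroupOf M with hV
    have hVle : ((U : Subgroup M).map M.subtype).map (MulAut.conj g⁻¹).toMonoidHom ≤ M := by
      rintro _ ⟨_, ⟨u, hu, rfl⟩, rfl⟩
      simpa using hUle u hu
    have hVp : IsPGroup 2 V := ((U.2.map _).map _).comap_subtype
    obtain ⟨U', hU'⟩ := hVp.exists_le_sylow
    have hVU : V = (U' : Subgroup M) := by
      refine eq_of_le_of_card_ge hU' ?_
      rw [hV, Nat.card_congr (subgroupOfEquivOfLe hVle).toEquiv, card_map_of_injective (MulAut.conj g⁻¹).injective,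
        card_map_of_injective M.subtype_injective, U.card_eq_multiplicity, U'.card_eq_multiplicity]
    obtain ⟨a, ha⟩ := MulAction.exists_smul_eq M X U
    obtain ⟨b, hb⟩ := MulAction.exists_smul_eq M X U'
    have hsm : ∀ (c : M) (P : Sylow 2 M), X = X → c • X = P → (P : Subgroup M).map M.subtype = XS.map (MulAut.conj (c : S)).toMonoidHom := by
      intro c P _ hc
      rw [← hc, Sylow.coe_subgroup_smul, hXS, map_map]
      show ((X : Subgroup M).map (MulAut.conj c).toMonoidHom).map M.subtype = _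
      rw [map_map]
      rfl
    have e1 := hsm a U rfl ha
    have e2 := hsm b U' rfl hb
    rw [← hVU, hV, map_subgroupOf_eq_of_le hVle, e1, map_map] at e2
    have hn : (b : S)⁻¹ * g⁻¹ * a ∈ normalizer (XS : Set S) := by
      refine mem_normalizer_fintype (S := ((XS : Subgroup S) : Set S)) fun x hx => ?_
      obtain ⟨x', hx', hxe⟩ := e2.le ⟨x, hx, rfl⟩
      have hxe' : (b : S) * x' * (b : S)⁻¹ = g⁻¹ * ((a : S) * x * (a : S)⁻¹) * g⁻¹⁻¹ := hxe
      rw [show (b : S)⁻¹ * g⁻¹ * a * x * ((b : S)⁻¹ * g⁻¹ * a)⁻¹ =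
        (b : S)⁻¹ * (g⁻¹ * ((a : S) * x * (a : S)⁻¹) * g⁻¹⁻¹) * b by group, ← hxe',
        show (b : S)⁻¹ * ((b : S) * x' * (b : S)⁻¹) * b = x' by group]
      exact hx'
    have h9 := mul_mem (mul_mem b.2 (hNX hn)) (inv_mem a.2)
    rw [show (b : S) * ((b : S)⁻¹ * g⁻¹ * a) * (a : S)⁻¹ = g⁻¹ by group] at h9
    simpa using inv_mem h9
  have hMconj : ∀ x y : M, orderOf x = 2 → orderOf y = 2 → IsConj x y := by
    intro x y hx hy
    rw [← orderOf_coe] at hx hy
    obtain ⟨g, hg⟩ := isConj_iff.1 (hall x y hx hy)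
    have hgM : g ∈ M := hemb g y y.2 hy (by rw [← hg]; simpa [mul_assoc] using x.2)
    exact isConj_iff.2 ⟨⟨g, hgM⟩, Subtype.ext hg⟩
  refine ⟨hMconj, ?_⟩
  set i : S := (I : S) with hi'
  have hi : orderOf i = 2 := by rw [hi', orderOf_coe, hI]
  -- involutions of `M` and cosets
  set InvM := {x : S // orderOf x = 2 ∧ x ∈ M}
  set Out := {x : S // orderOf x = 2 ∧ x ∉ M}
  have hcount : Nat.card {x : S // orderOf x = 2} = M.index * Nat.card InvM := by
    have h1 : Nat.card {x : S // orderOf x = 2} = (centralizer ({i} : Set S)).index := by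
      rw [← Nat.card_congr (Equiv.ofBijective (fun q : S ⧸ centralizer ({i} : Set S) =>
        Quotient.liftOn' q (fun g => (⟨g * i * g⁻¹, hord g i hi⟩ : {x : S // orderOf x = 2}))
          (fun a b hab => Subtype.ext (by
            have h := mem_centralizer_singleton_iff.1 (QuotientGroup.leftRel_apply.1 hab)
            calc a * i * a⁻¹ = a * (i * (a⁻¹ * b)) * b⁻¹ := by group
              _ = a * (a⁻¹ * b * i) * b⁻¹ := by rw [h]
              _ = b * i * b⁻¹ := by group))) ⟨?_, ?_⟩), index_eq_card]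
      · rintro ⟨a⟩ ⟨b⟩ hab
        refine Quotient.sound' (QuotientGroup.leftRel_apply.2 (mem_centralizer_singleton_iff.2 ?_))
        have h : a * i * a⁻¹ = b * i * b⁻¹ := congrArg Subtype.val hab
        calc a⁻¹ * b * i = a⁻¹ * (b * i * b⁻¹) * b := by group
          _ = a⁻¹ * (a * i * a⁻¹) * b := by rw [h]
          _ = i * (a⁻¹ * b) := by group
      · rintro ⟨x, hx⟩
        obtain ⟨g, hg⟩ := isConj_iff.1 (hall i x hi hx)
        exact ⟨QuotientGroup.mk g, Subtype.ext hg⟩
    have h2 : Nat.card InvM = (centralizer ({i} : Set S)).relIndex M := by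
      rw [relIndex, index_eq_card]
      refine (Nat.card_congr (Equiv.ofBijective (fun q : M ⧸ (centralizer ({i} : Set S)).subgroupOf M =>
        Quotient.liftOn' q (fun g => (⟨(g : S) * i * (g : S)⁻¹, hord g i hi,
            mul_mem (mul_mem g.2 I.2) (inv_mem g.2)⟩ : InvM))
          (fun a b hab => Subtype.ext (by
            have h : (a : S)⁻¹ * b * i = i * ((a : S)⁻¹ * b) :=
              mem_centralizer_singleton_iff.1 (mem_subgroupOf.1 (QuotientGroup.leftRel_apply.1 hab))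
            calc (a : S) * i * (a : S)⁻¹ = (a : S) * (i * ((a : S)⁻¹ * b)) * (b : S)⁻¹ := by group
              _ = (a : S) * ((a : S)⁻¹ * b * i) * (b : S)⁻¹ := by rw [h]
              _ = (b : S) * i * (b : S)⁻¹ := by group))) ⟨?_, ?_⟩)).symm
      · rintro ⟨a⟩ ⟨b⟩ hab
        refine Quotient.sound' (QuotientGroup.leftRel_apply.2 (mem_subgroupOf.2 (mem_centralizer_singleton_iff.2 ?_)))
        have h : (a : S) * i * (a : S)⁻¹ = (b : S) * i * (b : S)⁻¹ := congrArg Subtype.val hab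
        show (a : S)⁻¹ * b * i = i * ((a : S)⁻¹ * b)
        calc (a : S)⁻¹ * b * i = (a : S)⁻¹ * ((b : S) * i * (b : S)⁻¹) * b := by group
          _ = (a : S)⁻¹ * ((a : S) * i * (a : S)⁻¹) * b := by rw [h]
          _ = i * ((a : S)⁻¹ * b) := by group
      · rintro ⟨x, hx, hxM⟩
        obtain ⟨g, hg⟩ := isConj_iff.1 (hMconj I ⟨x, hxM⟩ hI (by rwa [orderOf_mk]))
        exact ⟨QuotientGroup.mk g, Subtype.ext (show (g : S) * i * (g : S)⁻¹ = x from congrArg Subtype.val hg)⟩
    rw [h1, h2, ← relIndex_mul_index (hC i I.2 hi), mul_comm]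
  letI : Fintype S := Fintype.ofFinite S
  letI : Fintype (S ⧸ M) := Fintype.ofFinite _
  set Outs : Finset S := Finset.univ.filter fun x => orderOf x = 2 ∧ x ∉ M with hOuts
  set Ins : Finset S := Finset.univ.filter fun x => orderOf x = 2 ∧ x ∈ M with hIns
  have hInsc : Nat.card InvM = Ins.card := by rw [Nat.card_eq_fintype_card, Fintype.card_subtype]
  have htot : Outs.card + Ins.card = M.index * Ins.card := by
    have h := hcount
    rw [Nat.card_eq_fintype_card, Fintype.card_subtype, hInsc] at h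
    rw [← h, ← Finset.card_union_of_disjoint]
    · congr 1
      ext x
      simp only [hOuts, hIns, Finset.mem_union, Finset.mem_filter, Finset.mem_univ, true_and]
      tauto
    · rw [Finset.disjoint_filter]
      intro x _ h1 h2
      exact h1.2 h2.2
  set Cos : Finset (S ⧸ M) := Finset.univ.erase ((1 : S) : S ⧸ M) with hCos
  have hmaps : ∀ u ∈ Outs, (u : S ⧸ M) ∈ Cos := fun u hu => Finset.mem_erase.2
    ⟨fun h => (Finset.mem_filter.1 hu).2.2 (by simpa using QuotientGroup.eq.1 h.symm), Finset.mem_univ _⟩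
  have hCne : Cos.Nonempty := ⟨_, hmaps j (Finset.mem_filter.2 ⟨Finset.mem_univ _, hj, hjM⟩)⟩
  have hCcard : Cos.card + 1 = M.index := by
    rw [hCos, Finset.card_erase_add_one (Finset.mem_univ _), Finset.card_univ, index_eq_card,
      Nat.card_eq_fintype_card]
  obtain ⟨q, -, hq⟩ := Finset.exists_le_card_fiber_of_mul_le_card_of_maps_to (n := Ins.card) hmaps hCne (by
    rw [← hCcard, add_mul, one_mul] at htot
    omega)
  have hIne : 0 < Ins.card := Finset.card_pos.2 ⟨i, Finset.mem_filter.2 ⟨Finset.mem_univ _, hi, I.2⟩⟩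
  obtain ⟨u₁, hu₁⟩ := Finset.card_pos.1 (lt_of_lt_of_le hIne hq)
  rw [Finset.mem_filter] at hu₁
  obtain ⟨hu₁O, hu₁q⟩ := hu₁
  obtain ⟨-, hu₁o, hu₁M⟩ := Finset.mem_filter.1 hu₁O
  have hinvo : ∀ u : S, orderOf u = 2 → u⁻¹ = u := fun u hu =>
    inv_eq_of_mul_eq_one_right (by rw [← pow_two, ← hu]; exact pow_orderOf_eq_one u)
  set D := (M ⊓ M.map (MulAut.conj u₁).toMonoidHom) with hD
  have hDodd : Odd (Nat.card D) := by
    rw [← Nat.not_even_iff_odd, even_iff_two_dvd]
    intro hd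
    obtain ⟨⟨d, hd'⟩, hdo⟩ := exists_prime_orderOf_dvd_card' 2 hd
    rw [orderOf_mk] at hdo
    obtain ⟨hdM, m, hm, hmd⟩ := mem_inf.1 hd'
    refine hu₁M (hemb u₁ d hdM hdo ?_)
    rw [← hmd]
    show u₁⁻¹ * (u₁ * m * u₁⁻¹) * u₁ ∈ M
    rw [show u₁⁻¹ * (u₁ * m * u₁⁻¹) * u₁ = m by group]
    exact hm
  refine ⟨D.subgroupOf M, by
    rw [Nat.card_congr (subgroupOfEquivOfLe inf_le_left).toEquiv]; exact hDodd, fun m => ?_⟩
  set Fib : Finset S := Outs.filter fun u : S => ((u : S) : S ⧸ M) = q with hFib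
  have hkey : ∀ u ∈ Fib, u₁ * u ∈ D ∧ orderOf u = 2 := by
    intro u hu
    obtain ⟨huO, huq⟩ := Finset.mem_filter.1 hu
    obtain ⟨-, huo, huM⟩ := Finset.mem_filter.1 huO
    have h1 : u₁ * u ∈ M := by
      have := QuotientGroup.eq.1 (hu₁q.trans huq.symm)
      rwa [hinvo u₁ hu₁o] at this
    refine ⟨mem_inf.2 ⟨h1, (u₁ * u)⁻¹, inv_mem h1, ?_⟩, huo⟩
    show u₁ * (u₁ * u)⁻¹ * u₁⁻¹ = u₁ * u
    rw [mul_inv_rev, hinvo u huo, mul_assoc, mul_assoc, hinvo u₁ hu₁o, show u₁ * u₁ = 1 by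
      nth_rewrite 1 [← hinvo u₁ hu₁o]; exact inv_mul_cancel u₁, mul_one]
  -- conjugation of `i` by the `u₁ u` gives all involutions of `M`
  have hinj : Set.InjOn (fun u => u₁ * u * i * (u₁ * u)⁻¹) (Fib : Set S) := by
    intro u hu v hv huv
    obtain ⟨huD, huo⟩ := hkey u hu
    obtain ⟨hvD, hvo⟩ := hkey v hv
    have huv' : u₁ * u * i * (u₁ * u)⁻¹ = u₁ * v * i * (u₁ * v)⁻¹ := huv
    set c := (u₁ * v)⁻¹ * (u₁ * u) with hc
    have hcD : c ∈ D := mul_mem (inv_mem hvD) huD
    have hcv : c = v * u := by rw [hc, mul_inv_rev, hinvo v hvo]; group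
    have hci : c * i = i * c := by
      calc c * i = (u₁ * v)⁻¹ * (u₁ * u * i * (u₁ * u)⁻¹) * (u₁ * u) := by rw [hc]; group
        _ = (u₁ * v)⁻¹ * (u₁ * v * i * (u₁ * v)⁻¹) * (u₁ * u) := by rw [huv']
        _ = i * c := by rw [hc]; group
    have hinvc : v * c * v⁻¹ = c⁻¹ := by
      rw [hcv, mul_inv_rev, hinvo u huo, hinvo v hvo]
      calc v * (v * u) * v = v * v * (u * v) := by group
        _ = u * v := by
          rw [show v * v = 1 by nth_rewrite 1 [← hinvo v hvo]; exact inv_mul_cancel v, one_mul]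
    have hvM : v ∉ M := (Finset.mem_filter.1 (Finset.mem_filter.1 hv).1).2.2
    obtain ⟨w, hw, hwv⟩ := hout i v I.2 hi hvM hvo
    set N := normalizer (zpowers c : Set S) with hN
    have hiN : i ∈ N := centralizer_le_normalizer _ (by
      rw [zpowers_eq_closure, centralizer_closure, mem_centralizer_singleton_iff]
      exact hci.symm)
    have hvN : v ∈ N := by
      refine mem_normalizer_fintype (S := ((zpowers c : Subgroup S) : Set S)) fun x hx => ?_
      obtain ⟨t, rfl⟩ := mem_zpowers_iff.1 hx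
      rw [← conj_zpow, hinvc]
      exact zpow_mem (inv_mem (mem_zpowers c)) t
    have hwN : w ∈ N := zpowers_le.2 (mul_mem hiN hvN) hw
    obtain ⟨t, ht⟩ := mem_zpowers_iff.1 ((mem_normalizer_iff.1 (inv_mem hwN) c).1 (mem_zpowers c))
    have h1 : v * c ^ t * v⁻¹ = (c ^ t)⁻¹ := by rw [← conj_zpow, hinvc, inv_zpow]
    have h2 : c = c⁻¹ := by
      have h3 : i * c * i⁻¹ = c := by rw [← hci, mul_inv_cancel_right]
      calc c = i * c * i⁻¹ := h3.symm
        _ = w * (v * (w⁻¹ * c * w⁻¹⁻¹) * v⁻¹) * w⁻¹ := by rw [← hwv]; group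
        _ = w * (c ^ t)⁻¹ * w⁻¹ := by rw [← ht, h1]
        _ = c⁻¹ := by rw [ht]; group
    have h4 : c ^ 2 = 1 := by rw [pow_two]; nth_rewrite 1 [h2]; exact inv_mul_cancel c
    have h5 : orderOf c ∣ Nat.gcd 2 (Nat.card D) := Nat.dvd_gcd (orderOf_dvd_of_pow_eq_one h4) (Subgroup.orderOf_dvd_natCard _ hcD)
    rw [(Nat.coprime_two_left.2 hDodd).gcd_eq_one] at h5
    have h6 : c = 1 := orderOf_eq_one_iff.1 (Nat.dvd_one.1 h5)
    rw [hcv] at h6
    rw [eq_inv_of_mul_eq_one_right h6, hinvo v hvo]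
  have himg : Fib.image (fun u => u₁ * u * i * (u₁ * u)⁻¹) = Ins := by
    refine Finset.eq_of_subset_of_card_le (fun x hx => ?_) (by rw [Finset.card_image_of_injOn hinj]; exact hq)
    obtain ⟨u, hu, rfl⟩ := Finset.mem_image.1 hx
    have hk := (mem_inf.1 (hkey u hu).1).1
    exact Finset.mem_filter.2 ⟨Finset.mem_univ _, hord _ i hi, mul_mem (mul_mem hk I.2) (inv_mem hk)⟩
  have hmi : (m : S) * i * (m : S)⁻¹ ∈ Ins := Finset.mem_filter.2 ⟨Finset.mem_univ _, hord _ i hi,
    mul_mem (mul_mem m.2 I.2) (inv_mem m.2)⟩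
  rw [← himg] at hmi
  obtain ⟨u, hu, hum⟩ := Finset.mem_image.1 hmi
  set a : M := ⟨u₁ * u, (mem_inf.1 (hkey u hu).1).1⟩ with ha
  refine ⟨a, mem_subgroupOf.2 (hkey u hu).1, a⁻¹ * m, mem_centralizer_singleton_iff.2 (Subtype.ext ?_), by group⟩
  show (u₁ * u)⁻¹ * (m : S) * i = i * ((u₁ * u)⁻¹ * (m : S))
  calc (u₁ * u)⁻¹ * (m : S) * i = (u₁ * u)⁻¹ * ((m : S) * i * (m : S)⁻¹) * m := by group
    _ = (u₁ * u)⁻¹ * (u₁ * u * i * (u₁ * u)⁻¹) * m := by rw [hum]
    _ = i * ((u₁ * u)⁻¹ * (m : S)) := by group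

end Cfsg.Agent.S1905
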