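import Cfsg.Statements.S1907
import Cfsg.Agent.Lib.Techniques.Functor.SectionTransfer
import Cfsg.Agent.Lib.Cores.PConstrained
import Cfsg.Agent.Lib.Solvable.NilpotentParts

set_option autoImplicit false
open Cfsg

namespace Cfsg.Agent.S1907

open Subgroup CfsgLib.Techniques.Functor
open CfsgLib.Fusion (conjSub conjSub_conjSub conjSub_one card_conjSub conjSub_eq_iff_mem_normalizer)

/-- Let P be a Sylow p-subgroup of a finite group G, H = P ∩ O_{p',p}(G), N = N_G(H) and D = O_{p'}(G). (a) If y is an element of p-power order of N and d ∈ D with d⁻¹ y d ∈ N, then d = d₁ d₂ with d₁ ∈ C_D(y) and d₂ ∈ C_D(H). (b) Two elements of P that are conjugate in G are conjugate in N. -/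
theorem result {G : Type*} [Group G] [Finite G] {p : ℕ} [Fact p.Prime] (P : Sylow p G) :
    (∀ y ∈ Subgroup.normalizer (((P : Subgroup G) ⊓ Cfsg.pPrimePCore p G : Subgroup G) : Set G), (∃ k : ℕ, orderOf y = p ^ k) →
      ∀ d ∈ Cfsg.pPrimeCore p G, d⁻¹ * y * d ∈ Subgroup.normalizer (((P : Subgroup G) ⊓ Cfsg.pPrimePCore p G : Subgroup G) : Set G) →
        ∃ d₁ ∈ Cfsg.pPrimeCore p G ⊓ Subgroup.centralizer ({y} : Set G),
          ∃ d₂ ∈ Cfsg.pPrimeCore p G ⊓ Subgroup.centralizer (((P : Subgroup G) ⊓ Cfsg.pPrimePCore p G : Subgroup G) : Set G), d = d₁ * d₂) ∧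
    ∀ x y : G, x ∈ (P : Subgroup G) → y ∈ (P : Subgroup G) → IsConj x y →
      ∃ n ∈ Subgroup.normalizer (((P : Subgroup G) ⊓ Cfsg.pPrimePCore p G : Subgroup G) : Set G), n * x * n⁻¹ = y := by
  have hp : p.Prime := Fact.out
  set D := pPrimeCore p G with hD
  set L := pPrimePCore p G with hL
  set H := (P : Subgroup G) ⊓ L with hH
  set N := normalizer (H : Set G) with hN
  haveI hLn : L.Normal := CfsgLib.Cores.pPrimePCore_normal
  have hDc : (Nat.card D).Coprime p := CfsgLib.Cores.coprime_card_pPrimeCore p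
  have hDz : ∀ x : G, x ∈ D → (∃ k, x ^ p ^ k = 1) → x = 1 := by
    intro x hx ⟨k, hk⟩
    exact orderOf_eq_one_iff.1 (Nat.eq_one_of_dvd_coprimes (hDc.pow_right k)
      (Subgroup.orderOf_dvd_natCard D hx) (orderOf_dvd_of_pow_eq_one hk))
  have hDH : ∀ c ∈ D, c ∈ N → c ∈ centralizer (H : Set G) := by
    intro c hc hcN
    refine mem_centralizer_iff.2 fun h hh => ?_
    have h1 : c * h * c⁻¹ * h⁻¹ ∈ H := mul_mem ((mem_normalizer_iff.1 hcN h).1 hh) (inv_mem hh)
    obtain ⟨k, hk⟩ := P.2 ⟨_, (mem_inf.1 h1).1⟩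
    have h2 : c * h * c⁻¹ * h⁻¹ = 1 := hDz _ (by
      rw [show c * h * c⁻¹ * h⁻¹ = c * (h * c⁻¹ * h⁻¹) by group]
      exact mul_mem hc ((inferInstance : D.Normal).conj_mem _ (inv_mem hc) h)) ⟨k, congrArg Subtype.val hk⟩
    calc h * c = c * h * c⁻¹ * h⁻¹ * (h * c) := by rw [h2, one_mul]
      _ = c * h := by group
  have hA : ∀ y ∈ N, (∃ k : ℕ, orderOf y = p ^ k) → ∀ d ∈ D, d⁻¹ * y * d ∈ N →
      ∃ d₁ ∈ D ⊓ centralizer ({y} : Set G), ∃ d₂ ∈ D ⊓ centralizer (H : Set G), d = d₁ * d₂ := by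
    intro y hy hyo d hd hy'
    obtain ⟨k, hk⟩ := hyo
    set C := D ⊓ N with hC
    set Y := zpowers y with hY
    set M := C ⊔ Y with hM
    have hYp : IsPGroup p Y := IsPGroup.of_card (n := k) (by rw [Nat.card_zpowers, hk])
    have hYM : Y ≤ M := le_sup_right
    have hyy : y⁻¹ * (d⁻¹ * y * d) ∈ C := by
      refine mem_inf.2 ⟨?_, mul_mem (inv_mem hy) hy'⟩
      rw [show y⁻¹ * (d⁻¹ * y * d) = y⁻¹ * d⁻¹ * y * d by group]
      exact mul_mem (by simpa using (inferInstance : D.Normal).conj_mem _ (inv_mem hd) y⁻¹) hd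
    have hR : conjSub d⁻¹ Y ≤ M := by
      show Y.map (MulAut.conj d⁻¹).toMonoidHom ≤ M
      rw [hY, MonoidHom.map_zpowers, zpowers_le]
      have := mul_mem (mem_sup_right (S := C) (mem_zpowers y)) (mem_sup_left (T := Y) hyy)
      rw [show y * (y⁻¹ * (d⁻¹ * y * d)) = d⁻¹ * y * d by group] at this
      simpa using this
    have hidx : ∀ X : Subgroup G, X ≤ M → Nat.card X = Nat.card Y → ¬ p ∣ X.relIndex M := by
      intro X hX hXc hd'
      have hCY : Y ≤ normalizer (C : Set G) := by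
        rw [hY, zpowers_le]
        refine mem_normalizer_fintype (S := ((C : Subgroup G) : Set G)) fun c hc => ?_
        exact mem_inf.2 ⟨(inferInstance : D.Normal).conj_mem c (mem_inf.1 hc).1 y,
          mul_mem (mul_mem hy (mem_inf.1 hc).2) (inv_mem hy)⟩
      have h1 : Nat.card X * X.relIndex M = Nat.card M := by
        rw [← relIndex_bot_left X, ← relIndex_bot_left M]
        exact relIndex_mul_relIndex _ _ _ bot_le hX
      have h2 : Nat.card M ∣ Nat.card C * Nat.card Y := by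
        exact CfsgLib.Solvable.card_sup_dvd_of_le_normalizer hCY
      rw [← h1, hXc, mul_comm (Nat.card C)] at h2
      exact (CfsgLib.Cores.coprime_iff_not_dvd hp _).1
        (hDc.coprime_dvd_left (card_dvd_of_le (inf_le_left : C ≤ D)))
        (hd'.trans (Nat.dvd_of_mul_dvd_mul_left Nat.card_pos h2))
    obtain ⟨m, hm, hmY⟩ := exists_conjSub_eq hYp hYM (hidx Y hYM rfl)
      (show IsPGroup p (conjSub d⁻¹ Y) from hYp.map _) hR (hidx _ hR (card_conjSub _ _))
    obtain ⟨c, hc, w, hw, rfl⟩ := (by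
      have hCY : Y ≤ normalizer (C : Set G) := by
        rw [hY, zpowers_le]
        refine mem_normalizer_fintype (S := ((C : Subgroup G) : Set G)) fun c hc => ?_
        exact mem_inf.2 ⟨(inferInstance : D.Normal).conj_mem c (mem_inf.1 hc).1 y,
          mul_mem (mul_mem hy (mem_inf.1 hc).2) (inv_mem hy)⟩
      have h1 : m ∈ ((C ⊔ Y : Subgroup G) : Set G) := hm
      rw [coe_mul_of_right_le_normalizer_left _ _ hCY] at h1
      exact Set.mem_mul.1 h1 : ∃ c ∈ (C : Set G), ∃ w ∈ (Y : Set G), c * w = m)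
    have hwY : conjSub w Y = Y := conjSub_self_of_mem hw
    rw [← conjSub_conjSub, hwY] at hmY
    have hdc : d * c ∈ normalizer (Y : Set G) := by
      rw [← conjSub_eq_iff_mem_normalizer, ← conjSub_conjSub, hmY, conjSub_conjSub, mul_inv_cancel, conjSub_one]
    have hdcD : d * c ∈ D := mul_mem hd (mem_inf.1 hc).1
    have hcent : d * c ∈ centralizer ({y} : Set G) := by
      rw [mem_centralizer_singleton_iff]
      have h1 : d * c * y * (d * c)⁻¹ * y⁻¹ ∈ Y :=
        mul_mem ((mem_normalizer_iff.1 hdc y).1 (mem_zpowers y)) (inv_mem (mem_zpowers y))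
      obtain ⟨e, he⟩ := hYp ⟨_, h1⟩
      have h2 := hDz (d * c * y * (d * c)⁻¹ * y⁻¹) (by
        rw [show d * c * y * (d * c)⁻¹ * y⁻¹ = d * c * (y * (d * c)⁻¹ * y⁻¹) by group]
        exact mul_mem hdcD ((inferInstance : D.Normal).conj_mem _ (inv_mem hdcD) y)) ⟨e, congrArg Subtype.val he⟩
      calc d * c * y = d * c * y * (d * c)⁻¹ * y⁻¹ * (y * (d * c)) := by group
        _ = y * (d * c) := by rw [h2, one_mul]
    exact ⟨d * c, mem_inf.2 ⟨hdcD, hcent⟩, c⁻¹,
      inv_mem (mem_inf.2 ⟨(mem_inf.1 hc).1, hDH c (mem_inf.1 hc).1 (mem_inf.1 hc).2⟩), by group⟩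
  refine ⟨hA, ?_⟩
  -- Frattini
  obtain ⟨U, hU⟩ := CfsgLib.Transfer.exists_sylow_map_eq_inf L P
  have hfr : normalizer (H : Set G) ⊔ L = ⊤ := by
    have := Sylow.normalizer_sup_eq_top U
    rw [hU, inf_comm] at this
    first
      | exact this
      | (rw [inf_comm] at this; exact this)
  have hLle : L ≤ D ⊔ N := by
    intro z hz
    have h1 : QuotientGroup.mk' D z ∈ pCore p (G ⧸ D) := hz
    rw [← CfsgLib.Cores.map_mk'_sylow_pPrimePCore U, hU] at h1
    obtain ⟨h, hh, hhz⟩ := h1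
    have h2 : h⁻¹ * z ∈ D := (QuotientGroup.eq_one_iff _).1 (by
      show QuotientGroup.mk' D (h⁻¹ * z) = 1
      rw [map_mul, map_inv, hhz, inv_mul_cancel])
    have hhN : h ∈ N := le_normalizer (by
      rw [hH]
      first
        | exact hh
        | exact mem_inf.2 ⟨hh.2, hh.1⟩)
    have := mul_mem (mem_sup_right (S := D) hhN) (mem_sup_left (T := N) h2)
    rwa [mul_inv_cancel_left] at this
  have hdec : D ⊔ N = ⊤ := top_le_iff.1 (hfr.ge.trans (sup_le le_sup_right hLle))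
  have hPN : (P : Subgroup G) ≤ N := by
    intro x hx
    refine mem_normalizer_fintype (S := ((H : Subgroup G) : Set G)) fun h hh => ?_
    exact mem_inf.2 ⟨mul_mem (mul_mem hx (mem_inf.1 hh).1) (inv_mem hx), hLn.conj_mem h (mem_inf.1 hh).2 x⟩
  intro x y hx hy hxy
  obtain ⟨g, hg⟩ := isConj_iff.1 hxy
  obtain ⟨d, hd, n, hn, rfl⟩ := mem_sup_of_normal_left.1 (hdec.ge (mem_top g))
  have hy' : d⁻¹ * y * d = n * x * n⁻¹ := by rw [← hg]; group
  obtain ⟨k, hk⟩ := IsPGroup.iff_orderOf.1 P.2 ⟨y, hy⟩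
  obtain ⟨d₁, hd₁, d₂, hd₂, rfl⟩ := hA y (hPN hy) ⟨k, by rwa [Subgroup.orderOf_mk] at hk⟩ d hd
    (hy' ▸ mul_mem (mul_mem hn (hPN hx)) (inv_mem hn))
  refine ⟨d₂ * n, mul_mem (centralizer_le_normalizer _ (mem_inf.1 hd₂).2) hn, ?_⟩
  have h1 : d₁ * y = y * d₁ := mem_centralizer_singleton_iff.1 (mem_inf.1 hd₁).2
  have h2 : d₂ * n * x * (d₂ * n)⁻¹ = d₁⁻¹ * y * d₁ := by
    rw [← hg]; group
  rw [h2, mul_assoc, ← h1, inv_mul_cancel_left]

end Cfsg.Agent.S1907
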