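import Cfsg.Statements.S1910
import Cfsg.Agent.Lib.Fusion.GroupSystem
import Mathlib.GroupTheory.Nilpotent

set_option autoImplicit false
open Cfsg

namespace Cfsg.Agent.S1910

section
open Subgroup
open CfsgLib.Fusion (conjSub conjSub_conjSub conjSub_eq_iff_mem_normalizer mem_normalizer_of_forall)

variable {G : Type*} [Group G] [Finite G]

theorem bot_of_odd_of_two {A : Subgroup G} (h2 : IsPGroup 2 A) (hodd : Odd (Nat.card A)) : A = ⊥ := by
  haveI : Fact (Nat.Prime 2) := ⟨Nat.prime_two⟩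
  obtain ⟨k, hk⟩ := h2.exists_card_eq
  refine eq_bot_of_card_eq _ ?_
  rcases Nat.eq_zero_or_pos k with h | h
  · rw [hk, h, pow_zero]
  · rw [hk] at hodd
    exact absurd hodd (Nat.not_odd_iff_even.2 (even_iff_two_dvd.2 (dvd_pow_self 2 h.ne')))

/-- Two conjugates of a tightly embedded subgroup sharing a nontrivial two-subgroup are equal. -/
theorem conj_eq_of_two {Q : Subgroup G} (hQ : Cfsg.IsTightlyEmbedded Q) (a b : G) {A : Subgroup G}
    (hA : IsPGroup 2 A) (hA1 : A ≠ ⊥) (ha : A ≤ conjSub a Q) (hb : A ≤ conjSub b Q) :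
    conjSub a Q = conjSub b Q := by
  by_contra hne
  have hn : a⁻¹ * b ∉ normalizer (Q : Set G) := fun h => hne (by
    conv_lhs => rw [← conjSub_eq_iff_mem_normalizer.2 h]
    rw [conjSub_conjSub, mul_inv_cancel_left])
  have hodd := hQ.2 _ hn
  have hle : conjSub a⁻¹ A ≤ Q ⊓ conjSub (a⁻¹ * b) Q := by
    rintro _ ⟨x, hx, rfl⟩
    obtain ⟨y, hy, hyx⟩ := ha hx
    obtain ⟨z, hz, hzx⟩ := hb hx
    refine ⟨?_, ⟨z, hz, ?_⟩⟩
    · rw [← hyx]; simpa [mul_assoc] using hy
    · rw [← hzx]; simp [mul_assoc]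
  have h1 : conjSub a⁻¹ A = ⊥ := bot_of_odd_of_two (hA.map _) (hodd.of_dvd_nat (card_dvd_of_le hle))
  exact hA1 ((map_eq_bot_iff_of_injective _ (MulAut.conj a⁻¹).injective).1 h1)

/-- The embedding argument. -/
theorem embed {Q : Subgroup G} (hQ : Cfsg.IsTightlyEmbedded Q) (a b : G) (hab : conjSub a Q ≠ conjSub b Q)
    {X R : Subgroup G} (hX2 : IsPGroup 2 X) (hX1 : X ≠ ⊥) (hXa : X ≤ conjSub a Q)
    (hXn : X ≤ normalizer ((conjSub b Q : Subgroup G) : Set G)) (hR2 : IsPGroup 2 R)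
    (hRb : R ≤ conjSub b Q) (hXR : X ≤ normalizer (R : Set G)) :
    R ≤ centralizer (X : Set G) ∨
      ∃ f : X →* ↥(R ⊓ centralizer (X : Set G)), Function.Injective f := by
  haveI : Fact (Nat.Prime 2) := ⟨Nat.prime_two⟩
  refine or_iff_not_imp_left.2 fun hnle => ?_
  set U := R ⊓ centralizer (X : Set G) with hU
  set M := R ⊔ X with hM
  set W := U ⊔ X with hW
  have hXb : ∀ A : Subgroup G, A ≤ X → A ≤ conjSub b Q → A = ⊥ := fun A hA hAb => by
    by_contra hA1
    exact hab (conj_eq_of_two hQ a b (hX2.to_le hA) hA1 (hA.trans hXa) hAb)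
  have hUXc : ∀ u ∈ U, ∀ x ∈ X, x * u = u * x := fun u hu x hx => mem_centralizer_iff.1 hu.2 x hx
  have hUnX : U ≤ normalizer (X : Set G) := inf_le_right.trans (CfsgLib.Fusion.centralizer_le_normalizer' X)
  have hWset : ∀ w ∈ W, ∃ u ∈ U, ∃ x ∈ X, w = u * x := by
    intro w hw
    have hw' : w ∈ ((U ⊔ X : Subgroup G) : Set G) := hw
    rw [coe_mul_of_left_le_normalizer_right U X hUnX] at hw'
    obtain ⟨u, hu, x, hx, h⟩ := hw'
    exact ⟨u, hu, x, hx, h.symm⟩
  have hMset : ∀ w ∈ M, ∃ r ∈ R, ∃ x ∈ X, w = r * x := by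
    intro w hw
    have hw' : w ∈ ((R ⊔ X : Subgroup G) : Set G) := hw
    rw [coe_mul_of_right_le_normalizer_left R X hXR] at hw'
    obtain ⟨u, hu, x, hx, h⟩ := hw'
    exact ⟨u, hu, x, hx, h.symm⟩
  have hMb : M ≤ normalizer ((conjSub b Q : Subgroup G) : Set G) := sup_le (hRb.trans le_normalizer) hXn
  -- elements of `M` normalizing `X` lie in `W`
  have hNW : ∀ m ∈ M, m ∈ normalizer (X : Set G) → m ∈ W := by
    intro m hm hmn
    obtain ⟨r, hr, x, hx, rfl⟩ := hMset m hm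
    refine W.mul_mem (mem_sup_left ⟨hr, mem_centralizer_iff.2 fun y hy => ?_⟩) (mem_sup_right hx)
    have hrn : r ∈ normalizer (X : Set G) := by
      simpa using (normalizer (X : Set G)).mul_mem hmn (le_normalizer (X.inv_mem hx))
    have h1 : r * y * r⁻¹ * y⁻¹ ∈ X := X.mul_mem ((mem_normalizer_iff.1 hrn y).1 hy) (X.inv_mem hy)
    have h2 : r * y * r⁻¹ * y⁻¹ ∈ conjSub b Q := by
      rw [show r * y * r⁻¹ * y⁻¹ = r * (y * r⁻¹ * y⁻¹) by group]
      exact (conjSub b Q).mul_mem (hRb hr) (hRb ((mem_normalizer_iff.1 (hXR hy) r⁻¹).1 (R.inv_mem hr)))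
    have h3 := hXb _ (zpowers_le.2 h1) (zpowers_le.2 h2)
    rw [zpowers_eq_bot, mul_inv_eq_one, mul_inv_eq_iff_eq_mul] at h3
    exact h3.symm
  -- an element of `M` normalizing `W` and moving `X`
  obtain ⟨m, hmM, hmW, hmn⟩ : ∃ m ∈ M, m ∈ normalizer (W : Set G) ∧ m ∉ normalizer (X : Set G) := by
    by_contra hc
    push_neg at hc
    have hWM : W ≤ M := sup_le (inf_le_left.trans le_sup_left) le_sup_right
    have hM2 : IsPGroup 2 M := hR2.to_sup_of_normal_left' hX2 hXR
    have hcond : M = W := by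
      haveI := hM2.isNilpotent
      by_contra hne
      have hne' : W.subgroupOf M < ⊤ := lt_top_iff_ne_top.2 fun h => hne (le_antisymm (subgroupOf_eq_top.1 h) hWM)
      obtain ⟨⟨m, hm⟩, hmN, hmW⟩ := SetLike.exists_of_lt (normalizerCondition_of_isNilpotent (W.subgroupOf M) hne')
      refine hmW (hNW m hm (hc m hm ?_))
      refine mem_normalizer_of_forall fun w hw => ?_
      exact (mem_normalizer_iff.1 hmN ⟨w, hWM hw⟩).1 hw
    refine hnle fun r hr => ?_
    obtain ⟨u, hu, x, hx, rfl⟩ := hWset r (hcond ▸ mem_sup_left hr)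
    have hxR : x ∈ R := by
      have := R.mul_mem (R.inv_mem hu.1) hr
      simpa using this
    have hx1 := hXb _ (zpowers_le.2 hx) (zpowers_le.2 (hRb hxR))
    rw [zpowers_eq_bot] at hx1
    rw [hx1, mul_one]; exact hu.2
  have hmb : conjSub m (conjSub b Q) = conjSub b Q := conjSub_eq_iff_mem_normalizer.2 (hMb hmM)
  have hX'2 : IsPGroup 2 ↥(conjSub m X) := hX2.map _
  have hX'a : conjSub m X ≤ conjSub (m * a) Q := by
    rw [← conjSub_conjSub]; exact map_mono hXa
  have hX'W : conjSub m X ≤ W := by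
    rintro _ ⟨x, hx, rfl⟩
    exact (mem_normalizer_iff.1 hmW x).1 (mem_sup_right hx)
  have hX'X : conjSub m X ⊓ X = ⊥ := by
    by_contra h1
    have heq := conj_eq_of_two hQ (m * a) a (hX2.to_le inf_le_right) h1 (inf_le_left.trans hX'a)
      (inf_le_right.trans hXa)
    refine hmn (mem_normalizer_of_forall fun x hx => ?_)
    have hmem : m * x * m⁻¹ ∈ conjSub a Q := heq ▸ hX'a ⟨x, hx, rfl⟩
    obtain ⟨u, hu, y, hy, huy⟩ := hWset _ (hX'W ⟨x, hx, rfl⟩)
    change m * x * m⁻¹ = u * y at huy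
    have hua : u ∈ conjSub a Q := by
      rw [huy] at hmem
      simpa using (conjSub a Q).mul_mem hmem ((conjSub a Q).inv_mem (hXa hy))
    have hu1 : zpowers u = ⊥ := by
      by_contra h2
      exact hab (conj_eq_of_two hQ a b ((hR2.to_le inf_le_left).to_le (zpowers_le.2 hu)) h2
        (zpowers_le.2 hua) (zpowers_le.2 (hRb hu.1)))
    rw [zpowers_eq_bot] at hu1
    rw [huy, hu1, one_mul]; exact hy
  -- project to `U`
  have hex : ∀ x : X, ∃ u : U, (u : G)⁻¹ * (m * x * m⁻¹) ∈ X := fun x => by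
    obtain ⟨u, hu, y, hy, huy⟩ := hWset _ (hX'W ⟨x, x.2, rfl⟩)
    change m * x * m⁻¹ = u * y at huy
    exact ⟨⟨u, hu⟩, by rw [huy, inv_mul_cancel_left]; exact hy⟩
  choose f hf using hex
  have hUX : ∀ u v : U, (u : G)⁻¹ * v ∈ X → u = v := fun u v h => by
    have h1 := hXb _ (zpowers_le.2 h) (zpowers_le.2 (hRb (R.mul_mem (R.inv_mem u.2.1) v.2.1)))
    rw [zpowers_eq_bot, inv_mul_eq_one] at h1
    exact Subtype.ext h1
  refine ⟨MonoidHom.mk' f fun x y => hUX _ _ ?_, ?_⟩
  · have h1 := X.mul_mem (hf x) (hf y)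
    have h2 : ((f x : G))⁻¹ * (m * x * m⁻¹) * (f y : G)⁻¹ = (f y : G)⁻¹ * ((f x : G)⁻¹ * (m * x * m⁻¹)) :=
      hUXc _ (U.inv_mem (f y).2) _ (hf x)
    have h3 := X.mul_mem (hf (x * y)) (X.inv_mem h1)
    rw [← mul_assoc ((f x : G)⁻¹ * (m * x * m⁻¹)), h2] at h3
    simpa [mul_assoc] using h3
  · rw [injective_iff_map_eq_one]
    intro x hx
    change f x = 1 at hx
    have h1 := hf x
    rw [hx] at h1
    simp only [OneMemClass.coe_one, inv_one, one_mul] at h1
    have h2 : m * x * m⁻¹ ∈ conjSub m X ⊓ X := ⟨⟨x, x.2, rfl⟩, h1⟩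
    rw [hX'X, mem_bot, mul_inv_eq_one] at h2
    exact Subtype.ext (mul_eq_left.1 h2)

end

/-- Let Q be a tightly embedded subgroup of a finite group G, g an element outside N_G(Q), T a nontrivial Sylow 2-subgroup of Q^g ∩ N_G(Q), and S a Sylow 2-subgroup of QT containing T. Then T ∩ Q = 1, and N_S(T) is the direct product of T and N_S(T) ∩ Q, with N_S(T) ∩ Q isomorphic to T. -/
theorem result {G : Type*} [Group G] [Finite G] (Q : Subgroup G) (hQ : Cfsg.IsTightlyEmbedded Q)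
    (g : G) (hg : g ∉ Subgroup.normalizer (Q : Set G))
    (T : Subgroup G) (hT1 : T ≠ ⊥) (hT : T ≤ Q.map (MulAut.conj g).toMonoidHom ⊓ Subgroup.normalizer (Q : Set G))
    (hTsyl : IsPGroup 2 T ∧ ¬ 2 ∣ T.relIndex (Q.map (MulAut.conj g).toMonoidHom ⊓ Subgroup.normalizer (Q : Set G)))
    (S : Subgroup G) (hTS : T ≤ S) (hS : S ≤ Q ⊔ T) (hSsyl : IsPGroup 2 S ∧ ¬ 2 ∣ S.relIndex (Q ⊔ T)) :
    T ⊓ Q = ⊥ ∧
      T ⊓ (S ⊓ Subgroup.normalizer (T : Set G) ⊓ Q) = ⊥ ∧
      ⁅T, S ⊓ Subgroup.normalizer (T : Set G) ⊓ Q⁆ = ⊥ ∧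
      T ⊔ (S ⊓ Subgroup.normalizer (T : Set G) ⊓ Q) = S ⊓ Subgroup.normalizer (T : Set G) ∧
      Nonempty (↥(S ⊓ Subgroup.normalizer (T : Set G) ⊓ Q) ≃* T) := by
  classical
  haveI : Fact (Nat.Prime 2) := ⟨Nat.prime_two⟩
  obtain ⟨hT2, hTi⟩ := hTsyl
  obtain ⟨hS2, hSi⟩ := hSsyl
  set Q' := Q.map (MulAut.conj g).toMonoidHom with hQ'
  set B := Q' ⊓ Subgroup.normalizer (Q : Set G) with hB
  have hTn : T ≤ Subgroup.normalizer (Q : Set G) := hT.trans inf_le_right
  have hTQ' : T ≤ Q' := hT.trans inf_le_left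
  have hne : CfsgLib.Fusion.conjSub g Q ≠ CfsgLib.Fusion.conjSub 1 Q := fun h => hg
    (CfsgLib.Fusion.conjSub_eq_iff_mem_normalizer.1 (by rwa [CfsgLib.Fusion.conjSub_one] at h))
  have hTQ : ∀ A : Subgroup G, A ≤ T → A ≤ Q → A = ⊥ := fun A hAT hAQ => by
    by_contra hA1
    exact hne (conj_eq_of_two hQ g 1 (hT2.to_le hAT) hA1 (hAT.trans hTQ')
      (by rw [CfsgLib.Fusion.conjSub_one]; exact hAQ))
  set R := S ⊓ Q with hR
  set U := S ⊓ Subgroup.normalizer (T : Set G) ⊓ Q with hU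
  have hQT : ∀ s ∈ Q ⊔ T, ∃ q ∈ Q, ∃ t ∈ T, s = q * t := by
    intro s hs
    have hs' : s ∈ ((Q ⊔ T : Subgroup G) : Set G) := hs
    rw [Subgroup.coe_mul_of_right_le_normalizer_left Q T hTn] at hs'
    obtain ⟨q, hq, t, ht, h⟩ := hs'
    exact ⟨q, hq, t, ht, h.symm⟩
  have hTR : T ≤ Subgroup.normalizer (R : Set G) := fun t ht =>
    CfsgLib.Fusion.mem_normalizer_of_forall fun r hr =>
      ⟨S.mul_mem (S.mul_mem (hTS ht) hr.1) (S.inv_mem (hTS ht)), (Subgroup.mem_normalizer_iff.1 (hTn ht) r).1 hr.2⟩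
  have hUc : U ≤ Subgroup.centralizer (T : Set G) := by
    rintro u ⟨⟨huS, hun⟩, huQ⟩
    refine Subgroup.mem_centralizer_iff.2 fun t ht => ?_
    have h1 : u * t * u⁻¹ * t⁻¹ ∈ T := T.mul_mem ((Subgroup.mem_normalizer_iff.1 hun t).1 ht) (T.inv_mem ht)
    have h2 : u * t * u⁻¹ * t⁻¹ ∈ Q := by
      rw [show u * t * u⁻¹ * t⁻¹ = u * (t * u⁻¹ * t⁻¹) by group]
      exact Q.mul_mem huQ ((Subgroup.mem_normalizer_iff.1 (hTn ht) u⁻¹).1 (Q.inv_mem huQ))
    have h3 := hTQ _ (Subgroup.zpowers_le.2 h1) (Subgroup.zpowers_le.2 h2)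
    rw [Subgroup.zpowers_eq_bot, mul_inv_eq_one, mul_inv_eq_iff_eq_mul] at h3
    exact h3.symm
  have hUR : U = R ⊓ Subgroup.centralizer (T : Set G) := le_antisymm
    (le_inf (le_inf (inf_le_left.trans inf_le_left) inf_le_right) hUc)
    (fun x hx => ⟨⟨hx.1.1, CfsgLib.Fusion.centralizer_le_normalizer' T hx.2⟩, hx.1.2⟩)
  refine ⟨hTQ _ inf_le_left inf_le_right, hTQ _ inf_le_left (inf_le_right.trans inf_le_right), ?_, ?_, ?_⟩
  · rw [Subgroup.commutator_eq_bot_iff_le_centralizer]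
    exact Subgroup.le_centralizer_iff.1 hUc
  · refine le_antisymm (sup_le (le_inf hTS Subgroup.le_normalizer) inf_le_left) ?_
    rintro x ⟨hxS, hxn⟩
    obtain ⟨q, hq, t, ht, rfl⟩ := hQT x (hS hxS)
    have hqS : q ∈ S := by simpa using S.mul_mem hxS (S.inv_mem (hTS ht))
    have hqn : q ∈ Subgroup.normalizer (T : Set G) := by
      simpa using (Subgroup.normalizer (T : Set G)).mul_mem hxn (Subgroup.le_normalizer (T.inv_mem ht))
    exact Subgroup.mul_mem _ (Subgroup.mem_sup_right ⟨⟨hqS, hqn⟩, hq⟩) (Subgroup.mem_sup_left ht)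
  · -- `U ≅ T`
    have hR2 : IsPGroup 2 R := hS2.to_le inf_le_left
    have hRi : ¬ 2 ∣ R.relIndex Q := CfsgLib.Fusion.not_dvd_relIndex_inf hS2 hS hSi le_sup_left
      (sup_le Subgroup.le_normalizer hTn)
    have hQne : ∀ k : ℕ, Nat.card R = 2 ^ k → 0 < k := by
      intro k hk
      by_contra h0
      have hk0 : k = 0 := by omega
      rw [hk0, pow_zero] at hk
      have : R.relIndex Q = Nat.card Q := by
        have h1 := (R.subgroupOf Q).card_mul_index
        rw [Nat.card_congr (Subgroup.subgroupOfEquivOfLe (inf_le_right : R ≤ Q)).toEquiv, hk, one_mul] at h1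
        exact h1
      exact hRi (this ▸ even_iff_two_dvd.1 hQ.1)
    have hcardQ : Nat.card Q' = Nat.card Q := CfsgLib.Fusion.card_conjSub g Q
    have hTU : (R ≤ Subgroup.centralizer (T : Set G)) ∨ ∃ f : T →* ↥U, Function.Injective f := by
      have h := embed hQ g 1 hne hT2 hT1 hTQ' (R := R) (by rw [CfsgLib.Fusion.conjSub_one]; exact hTn) hR2
        (by rw [CfsgLib.Fusion.conjSub_one]; exact inf_le_right) hTR
      rw [hUR]; exact h
    -- Sylow subgroups of `Q` and `Q'` have the same order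
    have hsyl : ∀ A : Subgroup G, A ≤ Q' → IsPGroup 2 A → Nat.card A ∣ Nat.card R := by
      intro A hA hA2
      obtain ⟨i, hi⟩ := hA2.exists_card_eq
      have h1 : Nat.card A ∣ Nat.card R * R.relIndex Q := by
        rw [← Nat.card_congr (Subgroup.subgroupOfEquivOfLe (inf_le_right : R ≤ Q)).toEquiv]
        show Nat.card A ∣ Nat.card ↥(R.subgroupOf Q) * (R.subgroupOf Q).index
        rw [Subgroup.card_mul_index, ← hcardQ]
        exact Subgroup.card_dvd_of_le hA
      rw [hi] at h1 ⊢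
      exact (Nat.Coprime.pow_left i ((Nat.Prime.coprime_iff_not_dvd Nat.prime_two).2 hRi)).dvd_of_dvd_mul_right h1
    have hU1 : U ≠ ⊥ := by
      rcases hTU with h | ⟨f, hf⟩
      · intro hU0
        rw [hUR, inf_eq_left.2 h] at hU0
        obtain ⟨k, hk⟩ := hR2.exists_card_eq
        have := hQne k hk
        rw [hU0, Subgroup.card_bot] at hk
        exact absurd hk (Nat.one_lt_two_pow this.ne').ne
      · intro hU0
        refine hT1 ((Subgroup.eq_bot_iff_forall _).2 fun t ht => ?_)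
        have h1 : f ⟨t, ht⟩ = 1 := Subtype.ext (Subgroup.mem_bot.1 (hU0.le (f ⟨t, ht⟩).2))
        exact congrArg Subtype.val (hf (h1.trans (map_one f).symm))
    have hU2 : IsPGroup 2 U := hS2.to_le (inf_le_left.trans inf_le_left)
    -- `U` normalizes `Q'`
    have hUn : U ≤ Subgroup.normalizer (Q' : Set G) := by
      intro u hu
      refine CfsgLib.Fusion.conjSub_eq_iff_mem_normalizer.1 ?_
      show CfsgLib.Fusion.conjSub u (CfsgLib.Fusion.conjSub g Q) = CfsgLib.Fusion.conjSub g Q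
      rw [CfsgLib.Fusion.conjSub_conjSub]
      refine conj_eq_of_two hQ _ g hT2 hT1 ?_ hTQ'
      intro t ht
      obtain ⟨q, hq, hqt⟩ := hTQ' ht
      refine ⟨q, hq, ?_⟩
      have hqt' : g * q * g⁻¹ = t := hqt
      have hc : t * u = u * t := Subgroup.mem_centralizer_iff.1 (hUc hu) t ht
      show u * g * q * (u * g)⁻¹ = t
      calc u * g * q * (u * g)⁻¹ = u * (g * q * g⁻¹) * u⁻¹ := by group
        _ = t * u * u⁻¹ := by rw [hqt', hc]
        _ = t := by group
    have hTU2 : IsPGroup 2 ↥(T ⊔ U) := hT2.to_sup_of_normal_left' hU2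
      (hUc.trans (CfsgLib.Fusion.centralizer_le_normalizer' T))
    -- a two-subgroup of `Q'` normalized by `U` and containing a Sylow subgroup of it
    obtain ⟨P, hP⟩ := (hTU2.comap_subtype (K := Q' ⊔ U)).exists_le_sylow
    set S' := (P : Subgroup ↥(Q' ⊔ U)).map (Q' ⊔ U).subtype with hS'
    have hle' : T ⊔ U ≤ S' := fun x hx =>
      ⟨⟨x, (sup_le (hTQ'.trans le_sup_left) le_sup_right : T ⊔ U ≤ Q' ⊔ U) hx⟩, hP hx, rfl⟩
    set R' := S' ⊓ Q' with hR'
    have hS'2 : IsPGroup 2 S' := P.2.map _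
    have hR'i : ¬ 2 ∣ R'.relIndex Q' := by
      refine CfsgLib.Fusion.not_dvd_relIndex_inf hS'2 (Subgroup.map_subtype_le _) ?_ le_sup_left
        (sup_le Subgroup.le_normalizer hUn)
      rw [Subgroup.relIndex, hS', Subgroup.subgroupOf, Subgroup.comap_map_eq_self_of_injective (Subgroup.subtype_injective _)]
      exact P.not_dvd_index
    have hC' : R' ⊓ Subgroup.centralizer (U : Set G) = T := by
      have hle : T ≤ R' ⊓ Subgroup.centralizer (U : Set G) :=
        le_inf (le_inf (le_sup_left.trans hle') hTQ') (Subgroup.le_centralizer_iff.1 hUc)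
      have hsub : R' ⊓ Subgroup.centralizer (U : Set G) ≤ B := by
        refine le_inf (inf_le_left.trans inf_le_right) fun x hx => ?_
        refine CfsgLib.Fusion.conjSub_eq_iff_mem_normalizer.1 ?_
        conv_rhs => rw [← CfsgLib.Fusion.conjSub_one (P := Q)]
        refine conj_eq_of_two hQ x 1 hU2 hU1 ?_ (by rw [CfsgLib.Fusion.conjSub_one]; exact inf_le_right)
        intro u hu
        have hc : u * x = x * u := Subgroup.mem_centralizer_iff.1 hx.2 u hu
        exact ⟨u, hu.2, by show x * u * x⁻¹ = u; rw [← hc, mul_inv_cancel_right]⟩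
      refine (le_antisymm hle ?_).symm
      obtain ⟨i, hi⟩ := (hS'2.to_le (inf_le_left.trans inf_le_left : R' ⊓ Subgroup.centralizer (U : Set G) ≤ S')).exists_card_eq
      refine Subgroup.relIndex_eq_one.1 ?_
      have h1 : T.relIndex (R' ⊓ Subgroup.centralizer (U : Set G)) ∣ T.relIndex B :=
        Dvd.intro _ (Subgroup.relIndex_mul_relIndex T _ B hle hsub)
      have h2 : T.relIndex (R' ⊓ Subgroup.centralizer (U : Set G)) ∣ 2 ^ i := by
        rw [← hi]; exact Subgroup.index_dvd_card _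
      obtain ⟨j, -, hj⟩ := (Nat.dvd_prime_pow Nat.prime_two).1 h2
      rcases Nat.eq_zero_or_pos j with h0 | h0
      · rw [hj, h0, pow_zero]
      · exact absurd (((dvd_pow_self 2 h0.ne').trans (hj ▸ dvd_rfl)).trans h1) hTi
    have hle_T : Nat.card U ≤ Nat.card T := by
      have hUnR : U ≤ Subgroup.normalizer (R' : Set G) := fun u hu =>
        CfsgLib.Fusion.mem_normalizer_of_forall fun r hr =>
          ⟨S'.mul_mem (S'.mul_mem (hle' (Subgroup.mem_sup_right hu)) hr.1) (S'.inv_mem (hle' (Subgroup.mem_sup_right hu))),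
            (Subgroup.mem_normalizer_iff.1 (hUn hu) r).1 hr.2⟩
      rcases embed hQ 1 g hne.symm hU2 hU1 (by rw [CfsgLib.Fusion.conjSub_one]; exact inf_le_right) hUn
        (hS'2.to_le inf_le_left) (inf_le_right : R' ≤ Q') hUnR with h | ⟨f, hf⟩
      · -- `T` is then a Sylow subgroup of `Q'`
        rw [inf_eq_left.2 h] at hC'
        have hUle : Nat.card U ≤ Nat.card R := Subgroup.card_le_of_le
          (le_inf (inf_le_left.trans inf_le_left) inf_le_right)
        refine hUle.trans (Nat.le_of_dvd Nat.card_pos ?_)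
        obtain ⟨i, hi⟩ := hR2.exists_card_eq
        have h1 : Nat.card R ∣ Nat.card T * R'.relIndex Q' := by
          rw [← hC', ← Nat.card_congr (Subgroup.subgroupOfEquivOfLe (inf_le_right : R' ≤ Q')).toEquiv]
          show Nat.card R ∣ Nat.card ↥(R'.subgroupOf Q') * (R'.subgroupOf Q').index
          rw [Subgroup.card_mul_index, hcardQ]
          exact Subgroup.card_dvd_of_le inf_le_right
        rw [hi] at h1 ⊢
        exact (Nat.Coprime.pow_left i ((Nat.Prime.coprime_iff_not_dvd Nat.prime_two).2 hR'i)).dvd_of_dvd_mul_right h1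
      · have := Nat.card_le_card_of_injective f hf
        rwa [hC'] at this
    rcases hTU with h | ⟨f, hf⟩
    · -- both are Sylow subgroups
      have hUeq : U = R := by rw [hUR, inf_eq_left.2 h]
      have hcard : Nat.card R = Nat.card T := by
        refine le_antisymm ?_ (Nat.le_of_dvd Nat.card_pos (hsyl T hTQ' hT2))
        rw [← hUeq]; exact hle_T
      have hTfull : ¬ 2 ∣ T.relIndex Q' := by
        intro hd
        apply hRi
        have e1 := (R.subgroupOf Q).card_mul_index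
        have e2 := (T.subgroupOf Q').card_mul_index
        rw [Nat.card_congr (Subgroup.subgroupOfEquivOfLe (inf_le_right : R ≤ Q)).toEquiv, hcard, ← hcardQ, ← e2,
          Nat.card_congr (Subgroup.subgroupOfEquivOfLe hTQ').toEquiv] at e1
        have := Nat.eq_of_mul_eq_mul_left Nat.card_pos e1
        show 2 ∣ (R.subgroupOf Q).index
        rw [this]; exact hd
      set R1 := CfsgLib.Fusion.conjSub g R with hR1
      have hR1Q : R1 ≤ Q' := Subgroup.map_mono inf_le_right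
      obtain ⟨n, -, hn⟩ := CfsgLib.Fusion.exists_conj_mem_of_le (hR2.map _ : IsPGroup 2 R1) hT2 hR1Q hTQ' hTfull
      have hle1 : CfsgLib.Fusion.conjSub n R1 ≤ T := by
        rintro _ ⟨x, hx, rfl⟩
        exact hn x hx
      have heq : CfsgLib.Fusion.conjSub n R1 = T := Subgroup.eq_of_le_of_card_ge hle1 (by
        rw [CfsgLib.Fusion.card_conjSub, hR1, CfsgLib.Fusion.card_conjSub, hcard])
      exact ⟨(MulEquiv.subgroupCongr hUeq).trans ((Subgroup.equivMapOfInjective R _ (MulAut.conj g).injective).trans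
        ((Subgroup.equivMapOfInjective R1 _ (MulAut.conj n).injective).trans (MulEquiv.subgroupCongr heq)))⟩
    · exact ⟨(MulEquiv.ofBijective f ((Nat.bijective_iff_injective_and_card f).2
        ⟨hf, le_antisymm (Nat.card_le_card_of_injective f hf) hle_T⟩)).symm⟩

end Cfsg.Agent.S1910
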