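import Cfsg.Statements.S1921
import Cfsg.Agent.Lib.Cores.Components

set_option autoImplicit false
open Cfsg

namespace Cfsg.Agent.S1921

open scoped commutatorElement

/-- Let a be an involution of a finite group H and L a component of H with a L a⁻¹ ≠ L; put M = ⟨L, aLa⁻¹⟩ and let J be the subgroup generated by the elements x · a x a⁻¹ with x ∈ L (the diagonal). Then every element of M outside J·Z(M) generates M together with J. -/
theorem result {H : Type*} [Group H] [Finite H] (a : H) (ha : orderOf a = 2) (L : Subgroup H) (hL : Cfsg.IsComponent L)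
    (hLa : L.map (MulAut.conj a).toMonoidHom ≠ L) (x : H) (hxM : x ∈ L ⊔ L.map (MulAut.conj a).toMonoidHom)
    (hxJ : x ∉ Subgroup.closure {y : H | ∃ l ∈ L, y = l * (a * l * a⁻¹)} ⊔
      ((L ⊔ L.map (MulAut.conj a).toMonoidHom) ⊓ Subgroup.centralizer ((L ⊔ L.map (MulAut.conj a).toMonoidHom : Subgroup H) : Set H))) :
    Subgroup.closure {y : H | ∃ l ∈ L, y = l * (a * l * a⁻¹)} ⊔ Subgroup.zpowers x = L ⊔ L.map (MulAut.conj a).toMonoidHom := by
  classical
  set L' := L.map (MulAut.conj a).toMonoidHom with hL'def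
  have hL' : Cfsg.IsComponent L' := CfsgLib.Cores.isComponent_map_equiv (MulAut.conj a) hL
  set M := L ⊔ L' with hMdef
  set J := Subgroup.closure {y : H | ∃ l ∈ L, y = l * (a * l * a⁻¹)} with hJdef
  have hcomm : ∀ l ∈ L, ∀ m ∈ L', l * m = m * l := fun l hl m hm => by
    have : ⁅l, m⁆ ∈ ⁅L, L'⁆ := Subgroup.commutator_mem_commutator hl hm
    rw [CfsgLib.Cores.commutator_components_eq_bot hL hL' (Ne.symm hLa), Subgroup.mem_bot] at this
    exact commutatorElement_eq_one_iff_mul_comm.1 this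
  have hmap : ∀ l ∈ L, a * l * a⁻¹ ∈ L' := fun l hl => ⟨l, hl, rfl⟩
  have hdiag : ∀ l ∈ L, l * (a * l * a⁻¹) ∈ J := fun l hl => Subgroup.subset_closure ⟨l, hl, rfl⟩
  have hJM : J ≤ M := (Subgroup.closure_le _).2 (by
    rintro y ⟨l, hl, rfl⟩
    exact M.mul_mem (Subgroup.mem_sup_left hl) (Subgroup.mem_sup_right (hmap l hl)))
  set T := J ⊔ Subgroup.zpowers x with hTdef
  refine le_antisymm (sup_le hJM (Subgroup.zpowers_le.2 hxM)) ?_
  have hLn : L' ≤ Subgroup.normalizer (L : Set H) :=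
    CfsgLib.Cores.component_le_normalizer_component hL' hL
  obtain ⟨u, hu, m, hm, hum⟩ : ∃ u ∈ L, ∃ m ∈ L', u * m = x := by
    have h : x ∈ ((L ⊔ L' : Subgroup H) : Set H) := hxM
    rw [Subgroup.coe_mul_of_right_le_normalizer_left L L' hLn] at h
    exact h
  obtain ⟨v, hv, rfl⟩ := hm
  set w := u * v⁻¹ with hwdef
  have hw : w ∈ L := mul_mem hu (inv_mem hv)
  have hxw : x = w * (v * (a * v * a⁻¹)) := by
    rw [hwdef, ← hum]
    show u * (a * v * a⁻¹) = _
    group
  have hwT : w ∈ T := by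
    rw [show w = x * (v * (a * v * a⁻¹))⁻¹ by rw [hxw, mul_inv_cancel_right]]
    exact T.mul_mem (Subgroup.mem_sup_right (Subgroup.mem_zpowers x))
      (T.inv_mem (Subgroup.mem_sup_left (hdiag v hv)))
  set N : Subgroup ↥L := Subgroup.normalClosure {⟨w, hw⟩} with hN
  have hNtop : N = ⊤ := by
    refine (CfsgLib.Cores.normal_eq_top_or_le_center_of_isQuasisimple hL.2 N).resolve_right fun h => ?_
    have hwc : (⟨w, hw⟩ : L) ∈ Subgroup.center ↥L := h (Subgroup.subset_normalClosure rfl)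
    refine hxJ ?_
    rw [hxw]
    refine Subgroup.mul_mem _ (Subgroup.mem_sup_right ⟨Subgroup.mem_sup_left hw, ?_⟩)
      (Subgroup.mem_sup_left (hdiag v hv))
    refine Subgroup.mem_centralizer_iff.2 ?_
    intro y hy
    have hy' : y ∈ ((L ⊔ L' : Subgroup H) : Set H) := hy
    rw [Subgroup.coe_mul_of_right_le_normalizer_left L L' hLn] at hy'
    obtain ⟨y1, hy1, y2, hy2, rfl⟩ := hy'
    have e1 : y1 * w = w * y1 := congrArg Subtype.val (Subgroup.mem_center_iff.1 hwc ⟨y1, hy1⟩)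
    show y1 * y2 * w = w * (y1 * y2)
    rw [mul_assoc y1 y2 w, ← hcomm w hw y2 hy2, ← mul_assoc, e1, mul_assoc]
  have hLT : L ≤ T := by
    have hcl : N ≤ T.subgroupOf L := by
      refine (Subgroup.closure_le _).2 fun y hy => ?_
      obtain ⟨z, hz, hzy⟩ := Group.mem_conjugatesOfSet_iff.1 hy
      rw [Set.mem_singleton_iff] at hz
      subst hz
      obtain ⟨g, rfl⟩ := isConj_iff.1 hzy
      show (g : H) * w * (g : H)⁻¹ ∈ T
      have e : (g : H) * (a * g * a⁻¹) * w * ((g : H) * (a * g * a⁻¹))⁻¹ = (g : H) * w * (g : H)⁻¹ := by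
        rw [mul_assoc (g : H) (a * g * a⁻¹) w, ← hcomm w hw _ (hmap g g.2)]
        group
      rw [← e]
      have hd : (g : H) * (a * g * a⁻¹) ∈ T := Subgroup.mem_sup_left (hdiag g g.2)
      exact T.mul_mem (T.mul_mem hd hwT) (T.inv_mem hd)
    intro l hl
    exact hcl (hNtop ▸ Subgroup.mem_top (⟨l, hl⟩ : L))
  refine sup_le hLT ?_
  rintro _ ⟨l, hl, rfl⟩
  show a * l * a⁻¹ ∈ T
  rw [show a * l * a⁻¹ = l⁻¹ * (l * (a * l * a⁻¹)) by group]
  exact T.mul_mem (T.inv_mem (hLT hl)) (Subgroup.mem_sup_left (hdiag l hl))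

end Cfsg.Agent.S1921
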