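import Cfsg.Statements.S1922


set_option autoImplicit false
open Cfsg

namespace Cfsg.Agent.S1922

section
variable {G : Type*} [Group G] [Finite G]

theorem mem_conjMap {H : Subgroup G} {g x : G} :
    x ∈ H.map (MulAut.conj g).toMonoidHom ↔ g⁻¹ * x * g ∈ H := by
  constructor
  · rintro ⟨y, hy, rfl⟩
    simpa [mul_assoc] using hy
  · intro h
    exact ⟨g⁻¹ * x * g, h, by simp [mul_assoc]⟩

/-- With z an involution having a unique fixed point and z * t fixing only that point for all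
commuting conjugates t, the products of z with conjugates outside H have odd order. -/
theorem odd_orderOf_mul {z : G} (hz : z * z = 1) (hz1 : z ≠ 1) {H : Subgroup G}
    (h0 : ∀ g : G, g⁻¹ * z * g ∈ H ↔ g ∈ H)
    (hu : ∀ t : G, IsConj z t → t ≠ z → t * z = z * t → ∀ g : G, g⁻¹ * (z * t) * g ∈ H → g ∈ H)
    {g : G} (hg : g ∉ H) : Odd (orderOf (g * z * g⁻¹ * z)) := by
  by_contra hev
  rw [Nat.not_odd_iff_even] at hev
  obtain ⟨l, hl⟩ := hev
  set s := g * z * g⁻¹ with hs
  have hss : s * s = 1 := by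
    rw [hs, show g * z * g⁻¹ * (g * z * g⁻¹) = g * (z * z) * g⁻¹ by group, hz]; group
  set x := s * z with hx
  have hzinv : z⁻¹ = z := inv_eq_of_mul_eq_one_left hz
  have hsinv : s⁻¹ = s := inv_eq_of_mul_eq_one_left hss
  have hxz : z * x * z = x⁻¹ := by
    rw [hx, mul_inv_rev, hzinv, hsinv, show z * (s * z) * z = z * s * (z * z) by group, hz, mul_one]
  have hxs : s * x * s = x⁻¹ := by
    rw [hx, mul_inv_rev, hzinv, hsinv, show s * (s * z) * s = (s * s) * z * s by group, hss, one_mul]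
  have hpos : 0 < orderOf x := orderOf_pos x
  set i := x ^ l with hi
  have hi1 : i ≠ 1 := pow_ne_one_of_lt_orderOf (by omega) (by omega)
  have hii : i * i = 1 := by rw [hi, ← pow_add, ← hl, pow_orderOf_eq_one]
  have hiinv : i⁻¹ = i := inv_eq_of_mul_eq_one_left hii
  have comm : ∀ a : G, a * a = 1 → a * x * a = x⁻¹ → a * i = i * a := by
    intro a ha hax
    have hainv : a⁻¹ = a := inv_eq_of_mul_eq_one_left ha
    have h : a * i * a⁻¹ = i := by
      rw [hi, ← conj_pow, hainv, hax, inv_pow]; exact hiinv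
    calc a * i = a * i * a⁻¹ * a := by group
      _ = i * a := by rw [h]
  have hiz := comm z hz hxz
  have his := comm s hss hxs
  have hiH : i ∈ H := (h0 i).mp (by
    rw [hiinv, show i * z * i = i * (z * i) by group, hiz, show i * (i * z) = (i * i) * z by group,
      hii, one_mul]
    simpa using (h0 1).mpr H.one_mem)
  -- i centralises s, hence lies in the point of s
  have hcg : g⁻¹ * i * g * z = z * (g⁻¹ * i * g) := by
    have := congrArg (fun w => g⁻¹ * w * g) his
    simp only [hs] at this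
    calc g⁻¹ * i * g * z = g⁻¹ * (i * (g * z * g⁻¹)) * g := by group
      _ = g⁻¹ * (g * z * g⁻¹ * i) * g := this.symm
      _ = z * (g⁻¹ * i * g) := by group
  have hiK : g⁻¹ * i * g ∈ H := (h0 _).mp (by
    rw [show (g⁻¹ * i * g)⁻¹ * z * (g⁻¹ * i * g) = (g⁻¹ * i * g)⁻¹ * (z * (g⁻¹ * i * g)) by group,
      ← hcg, ← mul_assoc, inv_mul_cancel, one_mul]
    simpa using (h0 1).mpr H.one_mem)
  have hine : i ≠ z := fun e => hg ((h0 g).mp (e ▸ hiK))
  set t := z * i with ht
  have htz : t ≠ z := fun e => hi1 (mul_eq_left.mp e)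
  have htc : t * z = z * t := by
    rw [ht, mul_assoc, ← hiz]
  have hzt : z * t = i := by rw [ht, ← mul_assoc, hz, one_mul]
  have htconj : IsConj z t := by
    have hstep : ∀ c a : ℕ, x ^ c * (x ^ a * z) * (x ^ c)⁻¹ = x ^ (c + a + c) * z := by
      intro c a
      have h1 : z * (x ^ c)⁻¹ = x ^ c * z := by
        have h2 : z * (x ^ c)⁻¹ * z⁻¹ = x ^ c := by
          rw [← inv_pow, ← conj_pow, hzinv, ← hxz,
            show z * (z * x * z) * z = (z * z) * x * (z * z) by group, hz, one_mul, mul_one]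
        calc z * (x ^ c)⁻¹ = z * (x ^ c)⁻¹ * z⁻¹ * z := by group
          _ = x ^ c * z := by rw [h2]
      rw [show x ^ c * (x ^ a * z) * (x ^ c)⁻¹ = x ^ c * x ^ a * (z * (x ^ c)⁻¹) by group, h1]
      rw [pow_add, pow_add]; group
    have hti : t = x ^ l * z := hiz
    rcases Nat.even_or_odd l with ⟨c, hc⟩ | ⟨c, hc⟩
    · have h := hstep c 0
      rw [pow_zero, one_mul, show c + 0 + c = l by omega, ← hti] at h
      exact isConj_iff.mpr ⟨x ^ c, h⟩
    · have h := hstep c 1
      rw [pow_one, show c + 1 + c = l by omega, ← hti] at h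
      have hxzs : x * z = s := by rw [hx, mul_assoc, hz, mul_one]
      rw [hxzs] at h
      exact (isConj_iff.mpr ⟨g, rfl⟩ : IsConj z s).trans (isConj_iff.mpr ⟨x ^ c, h⟩)
  exact hg (hu t htconj htz htc g (by rw [hzt]; exact hiK))

theorem eq_of_sq_eq {x y : G} (hx : Odd (orderOf x)) (hy : Odd (orderOf y)) (h : x ^ 2 = y ^ 2) :
    x = y := by
  obtain ⟨a, ha⟩ := hx
  obtain ⟨b, hb⟩ := hy
  have h1 : orderOf (x ^ 2) = orderOf x := by
    rw [orderOf_pow' x two_ne_zero, Nat.Coprime.gcd_eq_one, Nat.div_one]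
    rw [ha]; simp
  have h2 : orderOf (y ^ 2) = orderOf y := by
    rw [orderOf_pow' y two_ne_zero, Nat.Coprime.gcd_eq_one, Nat.div_one]
    rw [hb]; simp
  have hab : a = b := by
    have : orderOf x = orderOf y := by rw [← h1, ← h2, h]
    omega
  subst hab
  have hx' : x = (x ^ 2) ^ (a + 1) := by
    rw [← pow_mul, show 2 * (a + 1) = (2 * a + 1) + 1 by ring, pow_succ, ← ha, pow_orderOf_eq_one, one_mul]
  have hy' : y = (y ^ 2) ^ (a + 1) := by
    rw [← pow_mul, show 2 * (a + 1) = (2 * a + 1) + 1 by ring, pow_succ, ← hb, pow_orderOf_eq_one, one_mul]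
  rw [hx', h, ← hy']

/-- The number of conjugates of z in H is odd. -/
theorem odd_card_conj_inter {z : G} (hz : z * z = 1) (hz1 : z ≠ 1) {H : Subgroup G} (hH : H ≠ ⊤)
    (h0 : ∀ g : G, g⁻¹ * z * g ∈ H ↔ g ∈ H)
    (hu : ∀ t : G, IsConj z t → t ≠ z → t * z = z * t → ∀ g : G, g⁻¹ * (z * t) * g ∈ H → g ∈ H) :
    Odd (Nat.card {w : G // IsConj z w ∧ w ∈ H}) := by
  classical
  obtain ⟨g, hg⟩ : ∃ g : G, g ∉ H := by
    by_contra h; push_neg at h
    exact hH (eq_top_iff.mpr fun x _ => h x)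
  have hzinv : z⁻¹ = z := inv_eq_of_mul_eq_one_left hz
  let K : Subgroup G := H.map (MulAut.conj g).toMonoidHom
  -- M : conjugates of z swapping the points H and K
  let M := {m : G // IsConj z m ∧ ∀ y : G, y ∈ H ↔ m * y * m ∈ K}
  have hinvol : ∀ m : G, IsConj z m → m * m = 1 := by
    intro m hm; obtain ⟨c, rfl⟩ := isConj_iff.mp hm
    rw [show c * z * c⁻¹ * (c * z * c⁻¹) = c * (z * z) * c⁻¹ by group, hz]; group
  have hzH : z ∈ H := by simpa using (h0 1).mpr H.one_mem
  have hK : ∀ y, y ∈ K ↔ g⁻¹ * y * g ∈ H := fun y => mem_conjMap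
  -- a point determines the conjugate of H
  have hpt : ∀ a : G, g⁻¹ * (a * z * a⁻¹) * g ∈ H → ∀ y : G, y ∈ H ↔ a * y * a⁻¹ ∈ K := by
    intro a ha y
    have hga : a⁻¹ * g ∈ H := (h0 _).mp (by
      convert ha using 1; group)
    rw [hK, show g⁻¹ * (a * y * a⁻¹) * g = (a⁻¹ * g)⁻¹ * y * (a⁻¹ * g) by group,
      H.mul_mem_cancel_right hga, H.mul_mem_cancel_left (H.inv_mem hga)]
  have hout : ∀ m : G, IsConj z m → (∀ y : G, y ∈ H ↔ m * y * m ∈ K) →
      Odd (orderOf (m * z)) := by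
    intro m hm hsw
    obtain ⟨c, rfl⟩ := isConj_iff.mp hm
    refine odd_orderOf_mul hz hz1 h0 hu (fun hc => hg ?_)
    have hmH : c * z * c⁻¹ ∈ H := H.mul_mem (H.mul_mem hc hzH) (H.inv_mem hc)
    have := (hK _).mp ((hsw z).mp hzH)
    have h2 : c * z * c⁻¹ * z * (c * z * c⁻¹) = c * z * c⁻¹ * z * (c * z * c⁻¹)⁻¹ := by
      rw [show (c * z * c⁻¹)⁻¹ = c * z * c⁻¹ by simp [mul_assoc, hzinv]]
    rw [h2] at this
    have h3 : (c * z * c⁻¹)⁻¹ * g ∈ H := (h0 _).mp (by convert this using 1; group)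
    have := H.mul_mem hmH h3
    simpa [mul_assoc] using this
  have hswap' : ∀ m : M, ∀ y : G, y ∈ K ↔ m.1 * y * m.1 ∈ H := by
    intro m y
    have hm := hinvol m.1 m.2.1
    rw [m.2.2 (m.1 * y * m.1), show m.1 * (m.1 * y * m.1) * m.1 = (m.1 * m.1) * y * (m.1 * m.1) by group,
      hm, one_mul, mul_one]
  let f : M → {w : G // IsConj z w ∧ w ∈ K} := fun m =>
    ⟨m.1 * z * m.1, isConj_iff.mpr ⟨m.1, by rw [inv_eq_of_mul_eq_one_left (hinvol m.1 m.2.1)]⟩,
      (m.2.2 z).mp hzH⟩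
  have hf : Function.Bijective f := by
    constructor
    · intro m m' h
      have h' : m.1 * z * m.1 = m'.1 * z * m'.1 := congrArg Subtype.val h
      have h2 : (m.1 * z) ^ 2 = (m'.1 * z) ^ 2 := by
        rw [pow_two, pow_two, show m.1 * z * (m.1 * z) = m.1 * z * m.1 * z by group,
          show m'.1 * z * (m'.1 * z) = m'.1 * z * m'.1 * z by group, h']
      exact Subtype.ext (mul_right_cancel
        (eq_of_sq_eq (hout _ m.2.1 m.2.2) (hout _ m'.2.1 m'.2.2) h2))
    · rintro ⟨w, hw, hwK⟩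
      obtain ⟨c, rfl⟩ := isConj_iff.mp hw
      have hc : c ∉ H := fun hc => hg (by
        have h3 : c⁻¹ * g ∈ H := (h0 _).mp (by convert (hK _).mp hwK using 1; group)
        simpa using H.mul_mem hc h3)
      obtain ⟨j, hj⟩ := odd_orderOf_mul hz hz1 h0 hu hc
      set x := c * z * c⁻¹ * z with hx
      have hxz : z * x⁻¹ * z⁻¹ = x := by
        rw [hx, mul_inv_rev, hzinv, inv_eq_of_mul_eq_one_left (hinvol (c * z * c⁻¹) hw),
          show z * (z * (c * z * c⁻¹)) * z = (z * z) * (c * z * c⁻¹) * z by group, hz, one_mul]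
      have hpow : x ^ (2 * j + 2) = x := by
        rw [show 2 * j + 2 = (2 * j + 1) + 1 by ring, pow_succ, ← hj, pow_orderOf_eq_one, one_mul]
      have hflip : ∀ n : ℕ, z * (x ^ n)⁻¹ = x ^ n * z := by
        intro n
        have : z * (x ^ n)⁻¹ * z⁻¹ = x ^ n := by rw [← inv_pow, ← conj_pow, hxz]
        calc z * (x ^ n)⁻¹ = z * (x ^ n)⁻¹ * z⁻¹ * z := by group
          _ = x ^ n * z := by rw [this]
      set m := x ^ (j + 1) * z with hm
      have hmm : m * z * m = c * z * c⁻¹ := by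
        rw [hm, show x ^ (j+1) * z * z * (x ^ (j+1) * z) = x ^ (j+1) * (z * z) * x ^ (j+1) * z by group,
          hz, mul_one, ← pow_add, show j + 1 + (j + 1) = 2 * j + 2 by ring, hpow, hx,
          mul_assoc (c * z * c⁻¹), hz, mul_one]
      have hmconj : IsConj z m := by
        -- (j+1) is congruent to twice some exponent modulo the odd order
        obtain ⟨i, hi⟩ : ∃ i, x ^ (2 * i) = x ^ (j + 1) :=
          ⟨(j + 1) * (j + 1), by
            rw [show 2 * ((j+1) * (j+1)) = (2 * j + 2) * (j + 1) by ring, pow_mul, hpow]⟩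
        refine isConj_iff.mpr ⟨x ^ i, ?_⟩
        rw [mul_assoc, hflip, ← mul_assoc, ← pow_add, ← two_mul, hi]
      have hminv : m⁻¹ = m := inv_eq_of_mul_eq_one_left (hinvol m hmconj)
      refine ⟨⟨m, hmconj, fun y => ?_⟩, Subtype.ext hmm⟩
      have hwK' : m * z * m ∈ K := by rw [hmm]; exact hwK
      have := hpt m (by rw [hminv]; exact (hK _).mp hwK') y
      rwa [hminv] at this
  have hcard : Nat.card M = Nat.card {w : G // IsConj z w ∧ w ∈ H} := by
    rw [Nat.card_congr (Equiv.ofBijective f hf)]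
    refine Nat.card_congr (Equiv.subtypeEquiv (MulAut.conj g⁻¹).toEquiv fun w => ?_)
    show (IsConj z w ∧ w ∈ K) ↔ (IsConj z (g⁻¹ * w * g⁻¹⁻¹) ∧ g⁻¹ * w * g⁻¹⁻¹ ∈ H)
    rw [inv_inv]
    rw [hK]
    exact and_congr_left fun _ =>
      ⟨fun h => h.trans (isConj_iff.mpr ⟨g⁻¹, by group⟩),
        fun h => h.trans (isConj_iff.mpr ⟨g, by group⟩)⟩
  rw [← hcard]
  -- a member of M
  haveI : Nonempty M := by
    have hg' : IsConj z (g * z * g⁻¹) ∧ g * z * g⁻¹ ∈ K :=
      ⟨isConj_iff.mpr ⟨g, rfl⟩, (hK _).mpr (by simpa [mul_assoc] using hzH)⟩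
    exact ⟨(Equiv.ofBijective f hf).symm ⟨_, hg'⟩⟩
  obtain ⟨m₀⟩ := (inferInstance : Nonempty M)
  have hm0 := hinvol m₀.1 m₀.2.1
  have hm0inv : m₀.1⁻¹ = m₀.1 := inv_eq_of_mul_eq_one_left hm0
  have hinv2 : ∀ y : G, m₀.1 * (m₀.1 * y * m₀.1) * m₀.1 = y := by
    intro y
    rw [show m₀.1 * (m₀.1 * y * m₀.1) * m₀.1 = (m₀.1 * m₀.1) * y * (m₀.1 * m₀.1) by group, hm0,
      one_mul, mul_one]
  let σf : M → M := fun m => ⟨m₀.1 * m.1 * m₀.1,
    m.2.1.trans (isConj_iff.mpr ⟨m₀.1, by rw [hm0inv]⟩), fun y => by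
      rw [m₀.2.2 y, hswap' m, m₀.2.2]
      rw [show m₀.1 * (m.1 * (m₀.1 * y * m₀.1) * m.1) * m₀.1
        = m₀.1 * m.1 * m₀.1 * y * (m₀.1 * m.1 * m₀.1) by group]⟩
  have hσinv : Function.Involutive σf := fun m => Subtype.ext (hinv2 m.1)
  let σ : Equiv.Perm M := hσinv.toPerm σf
  have hσ2 : σ ^ 2 ^ 1 = 1 := by
    rw [pow_one, pow_two]
    exact Equiv.ext fun m => hσinv m
  haveI : Fintype M := Fintype.ofFinite M
  have hmod := Equiv.Perm.card_compl_support_modEq (p := 2) (n := 1) hσ2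
  have hfix : (σ.support)ᶜ = {m₀} := by
    ext m
    rw [Finset.mem_compl, Equiv.Perm.mem_support, not_not, Finset.mem_singleton]
    constructor
    · intro h
      by_contra hne
      have h' : m₀.1 * m.1 * m₀.1 = m.1 := congrArg Subtype.val h
      obtain ⟨y, hy⟩ := isConj_iff.mp m₀.2.1
      set t := y⁻¹ * m.1 * y with ht
      have htconj : IsConj z t := m.2.1.trans (isConj_iff.mpr ⟨y⁻¹, by rw [ht]; group⟩)
      have hcomm : m.1 * m₀.1 = m₀.1 * m.1 := by
        calc m.1 * m₀.1 = m₀.1 * m.1 * m₀.1 * m₀.1 := by rw [h']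
          _ = m₀.1 * m.1 * (m₀.1 * m₀.1) := by group
          _ = m₀.1 * m.1 := by rw [hm0, mul_one]
      have htz : t ≠ z := fun e => hne (Subtype.ext (by
        rw [← hy]
        calc m.1 = y * t * y⁻¹ := by rw [ht]; group
          _ = y * z * y⁻¹ := by rw [e]))
      have htc : t * z = z * t := by
        have e1 : t * z = y⁻¹ * (m.1 * m₀.1) * y := by rw [ht, ← hy]; group
        have e2 : z * t = y⁻¹ * (m₀.1 * m.1) * y := by rw [ht, ← hy]; group
        rw [e1, hcomm, ← e2]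
      have hzt : z * t = y⁻¹ * (m₀.1 * m.1) * y := by
        rw [ht, ← hy]; group
      -- m₀ * m stabilises both H and K
      have hstab : ∀ w : G, w ∈ H ↔ (m₀.1 * m.1) * w * (m₀.1 * m.1)⁻¹ ∈ H := by
        intro w
        rw [mul_inv_rev, inv_eq_of_mul_eq_one_left (hinvol m.1 m.2.1), hm0inv]
        rw [show m₀.1 * m.1 * w * (m.1 * m₀.1) = m₀.1 * (m.1 * w * m.1) * m₀.1 by group,
          ← hswap' m₀, ← m.2.2]
      have hu1 : m₀.1 * m.1 ∈ H := by
        have := (hstab z).mp hzH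
        have h2 := (h0 (m₀.1 * m.1)⁻¹).mp (by rw [inv_inv]; exact this)
        exact inv_mem_iff.mp h2
      have hu2 : m₀.1 * m.1 ∈ K := by
        have := (m₀.2.2 (m₀.1 * m.1)).mp hu1
        rwa [show m₀.1 * (m₀.1 * m.1) * m₀.1 = (m₀.1 * m₀.1) * (m.1 * m₀.1) by group, hm0,
          one_mul, hcomm] at this
      have hy1 : y⁻¹ ∈ H := hu t htconj htz htc y⁻¹ (by
        rw [hzt]; simpa [mul_assoc] using hu1)
      have hy2 : y⁻¹ * g ∈ H := hu t htconj htz htc _ (by
        rw [hzt, show (y⁻¹ * g)⁻¹ * (y⁻¹ * (m₀.1 * m.1) * y) * (y⁻¹ * g)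
          = g⁻¹ * (m₀.1 * m.1) * g by group]
        exact (hK _).mp hu2)
      exact hg ((H.mul_mem_cancel_left hy1).mp hy2)
    · rintro rfl
      exact Subtype.ext (show m.1 * m.1 * m.1 = m.1 by rw [hm0, one_mul])
  rw [hfix, Finset.card_singleton] at hmod
  rw [Nat.card_eq_fintype_card, Nat.odd_iff]
  exact hmod.symm

/-- The index of H is odd. -/
theorem odd_index {z : G} (hz : z * z = 1) {H : Subgroup G}
    (h0 : ∀ g : G, g⁻¹ * z * g ∈ H ↔ g ∈ H) : ¬ 2 ∣ H.index := by
  classical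
  haveI : Fact (Nat.Prime 2) := ⟨Nat.prime_two⟩
  have hP : IsPGroup 2 ↥(Subgroup.zpowers z) := by
    rintro ⟨w, hw⟩
    obtain ⟨k, rfl⟩ := Subgroup.mem_zpowers_iff.mp hw
    refine ⟨1, Subtype.ext ?_⟩
    show (z ^ k) ^ (2 ^ 1) = 1
    have hz2 : z ^ (2 : ℤ) = 1 := by rw [zpow_two]; exact hz
    rw [pow_one, ← zpow_natCast, ← zpow_mul, mul_comm, zpow_mul, show ((2 : ℕ) : ℤ) = 2 from rfl, hz2,
      one_zpow]
  have hmod := hP.card_modEq_card_fixedPoints (G ⧸ H)
  have hfix : MulAction.fixedPoints ↥(Subgroup.zpowers z) (G ⧸ H) = {((1 : G) : G ⧸ H)} := by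
    ext q
    induction q using QuotientGroup.induction_on with
    | _ a =>
      rw [Set.mem_singleton_iff, QuotientGroup.eq, mul_one, inv_mem_iff]
      constructor
      · intro h
        have h1 : ((z * a : G) : G ⧸ H) = ((a : G) : G ⧸ H) := h ⟨z, Subgroup.mem_zpowers z⟩
        rw [QuotientGroup.eq] at h1
        refine (h0 a).mp ?_
        convert h1 using 1
        rw [mul_inv_rev, inv_eq_of_mul_eq_one_left hz]
      · rintro ha ⟨w, hw⟩
        show ((w * a : G) : G ⧸ H) = ((a : G) : G ⧸ H)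
        rw [QuotientGroup.eq]
        have hzH : z ∈ H := by simpa using (h0 1).mpr H.one_mem
        have hwH : w ∈ H := (Subgroup.zpowers_le.mpr hzH) hw
        exact H.mul_mem (H.inv_mem (H.mul_mem hwH ha)) ha
  rw [hfix, Nat.card_eq_fintype_card (α := ({((1 : G) : G ⧸ H)} : Set (G ⧸ H))), Set.card_singleton,
    ← Subgroup.index] at hmod
  rw [Nat.dvd_iff_mod_eq_zero]
  have := hmod
  unfold Nat.ModEq at this
  omega

end

/-- Let z be an involution of a finite group G and H a proper subgroup such that z lies in gHg⁻¹ exactly when g ∈ H. Then the following are equivalent: (1) for every conjugate t ≠ z of z commuting with z, the product zt lies in gHg⁻¹ exactly when g ∈ H; (2) z lies in the centre of some Sylow 2-subgroup of G, and for every conjugate t ≠ z of z commuting with z, the centralizer of zt is contained in H. -/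
theorem result {G : Type*} [Group G] [Finite G] (z : G) (hz : orderOf z = 2) (H : Subgroup G) (hH : H ≠ ⊤)
    (h0 : ∀ g : G, z ∈ H.map (MulAut.conj g).toMonoidHom ↔ g ∈ H) :
    (∀ t : G, IsConj z t → t ≠ z → t * z = z * t → ∀ g : G, z * t ∈ H.map (MulAut.conj g).toMonoidHom ↔ g ∈ H) ↔
      ((∃ P : Sylow 2 G, z ∈ (Subgroup.center ↥(P : Subgroup G)).map (P : Subgroup G).subtype) ∧
        ∀ t : G, IsConj z t → t ≠ z → t * z = z * t → Subgroup.centralizer ({z * t} : Set G) ≤ H) := by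
  classical
  haveI : Fact (Nat.Prime 2) := ⟨Nat.prime_two⟩
  have hzz : z * z = 1 := by rw [← pow_two, ← hz, pow_orderOf_eq_one]
  have hz1 : z ≠ 1 := fun h => by simp [h] at hz
  have h0' : ∀ g : G, g⁻¹ * z * g ∈ H ↔ g ∈ H := fun g => mem_conjMap.symm.trans (h0 g)
  have hzH : z ∈ H := by simpa using (h0' 1).mpr H.one_mem
  have hcentz : ∀ c : G, c * z = z * c → c ∈ H := fun c hc => (h0' c).mp (by
    rw [mul_assoc, ← hc, ← mul_assoc, inv_mul_cancel, one_mul]; exact hzH)
  constructor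
  · intro h
    have hu : ∀ t : G, IsConj z t → t ≠ z → t * z = z * t → ∀ g : G, g⁻¹ * (z * t) * g ∈ H → g ∈ H :=
      fun t a b c g hg => (h t a b c g).mp (mem_conjMap.mpr hg)
    refine ⟨?_, fun t a b c => ?_⟩
    · -- a Sylow subgroup inside H fixes one of the conjugates of z in H
      have hidx := odd_index hzz h0'
      obtain ⟨P⟩ : Nonempty (Sylow 2 H) := inferInstance
      have hcard : Nat.card ((P : Subgroup H).map H.subtype) = 2 ^ (Nat.card G).factorization 2 := by
        rw [Subgroup.card_map_of_injective H.subtype_injective, P.card_eq_multiplicity,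
          ← H.card_mul_index, Nat.factorization_mul Nat.card_pos.ne' H.index_ne_zero_of_finite,
          Finsupp.add_apply, Nat.factorization_eq_zero_of_not_dvd hidx, add_zero]
      let Q : Sylow 2 G := Sylow.ofCard ((P : Subgroup H).map H.subtype) hcard
      have hQH : ∀ q ∈ (Q : Subgroup G), q ∈ H := fun q hq =>
        Subgroup.map_subtype_le _ (show q ∈ (P : Subgroup H).map H.subtype from hq)
      let S := {w : G // IsConj z w ∧ w ∈ H}
      letI : MulAction ↥(Q : Subgroup G) S :=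
        { smul := fun q w => ⟨q.1 * w.1 * q.1⁻¹, w.2.1.trans (isConj_iff.mpr ⟨q.1, rfl⟩),
            H.mul_mem (H.mul_mem (hQH _ q.2) w.2.2) (H.inv_mem (hQH _ q.2))⟩
          one_smul := fun w => Subtype.ext (show (1 : G) * w.1 * (1 : G)⁻¹ = w.1 by simp)
          mul_smul := fun a b w => Subtype.ext (show a.1 * b.1 * w.1 * (a.1 * b.1)⁻¹
            = a.1 * (b.1 * w.1 * b.1⁻¹) * a.1⁻¹ by group) }
      have hodd := odd_card_conj_inter hzz hz1 hH h0' hu
      obtain ⟨w, hw⟩ := Q.2.nonempty_fixed_point_of_prime_not_dvd_card S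
        (by rw [Nat.two_dvd_ne_zero]; exact Nat.odd_iff.mp hodd)
      obtain ⟨c, hc⟩ := isConj_iff.mp w.2.1
      have hwc : ∀ q ∈ (Q : Subgroup G), q * w.1 * q⁻¹ = w.1 := fun q hq =>
        congrArg Subtype.val (hw ⟨q, hq⟩)
      have hwQ : w.1 ∈ (Q : Subgroup G) := by
        have hw2 : orderOf w.1 = 2 ^ 1 := by
          rw [pow_one, ← hc, show c * z * c⁻¹ = MulAut.conj c z from rfl,
            MulEquiv.orderOf_eq, hz]
        have hsup : IsPGroup 2 ↥((Q : Subgroup G) ⊔ Subgroup.zpowers w.1) := by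
          refine Q.2.to_sup_of_normal_right' ?_ ?_
          · exact IsPGroup.of_card (by rw [Nat.card_zpowers, hw2])
          · intro q hq
            rw [Subgroup.mem_normalizer_iff]
            have : ∀ k : ℤ, q * w.1 ^ k * q⁻¹ = w.1 ^ k := fun k => by rw [← conj_zpow, hwc q hq]
            intro y
            constructor
            · intro hy; obtain ⟨k, rfl⟩ := Subgroup.mem_zpowers_iff.mp hy
              rw [this]; exact ⟨k, rfl⟩
            · intro hy; obtain ⟨k, hk⟩ := Subgroup.mem_zpowers_iff.mp hy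
              have : y = w.1 ^ k := by
                rw [← this k] at hk
                exact (mul_left_cancel (mul_right_cancel hk)).symm
              exact this ▸ ⟨k, rfl⟩
        exact Q.3 hsup le_sup_left ▸ (le_sup_right : Subgroup.zpowers w.1 ≤ _) (Subgroup.mem_zpowers _)
      refine ⟨c⁻¹ • Q, ?_⟩
      have hmem : ∀ x, x ∈ ((c⁻¹ • Q : Sylow 2 G) : Subgroup G) ↔ c * x * c⁻¹ ∈ (Q : Subgroup G) := by
        intro x
        rw [Sylow.coe_subgroup_smul, Subgroup.mem_pointwise_smul_iff_inv_smul_mem]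
        simp [MulAut.conj_apply]
      refine ⟨⟨z, (hmem z).mpr (hc ▸ hwQ)⟩, ?_, rfl⟩
      rw [SetLike.mem_coe, Subgroup.mem_center_iff]
      rintro ⟨x, hx⟩
      refine Subtype.ext (show x * z = z * x from ?_)
      have h1 := hwc _ ((hmem x).mp hx)
      rw [← hc] at h1
      have h2 : x * z * x⁻¹ = z := by
        have := congrArg (fun v => c⁻¹ * v * c) h1
        simpa [mul_assoc] using this
      calc x * z = x * z * x⁻¹ * x := by group
        _ = z * x := by rw [h2]
    · intro d hd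
      have hd' : z * t * d = d * (z * t) := Subgroup.mem_centralizer_iff.mp hd _ rfl
      refine hu t a b c d ?_
      rw [mul_assoc, hd', ← mul_assoc, inv_mul_cancel, one_mul]
      refine H.mul_mem hzH (hcentz t c)
  · rintro ⟨⟨P, hP⟩, hC⟩ t a b c g
    constructor
    swap
    · intro hg
      exact mem_conjMap.mpr (H.mul_mem (H.mul_mem (H.inv_mem hg) (H.mul_mem hzH (hcentz t c))) hg)
    intro hg
    rw [mem_conjMap] at hg
    set u := g⁻¹ * (z * t) * g with hu
    have htt : t * t = 1 := by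
      obtain ⟨y, rfl⟩ := isConj_iff.mp a
      rw [show y * z * y⁻¹ * (y * z * y⁻¹) = y * (z * z) * y⁻¹ by group, hzz]; group
    have huu : u * u = 1 := by
      rw [hu, show g⁻¹ * (z * t) * g * (g⁻¹ * (z * t) * g) = g⁻¹ * (z * (t * z) * t) * g by group, c,
        show g⁻¹ * (z * (z * t) * t) * g = g⁻¹ * ((z * z) * (t * t)) * g by group, hzz, htt]; group
    obtain ⟨⟨z', hz'⟩, hz'c, hz'eq⟩ := hP
    simp only [Subgroup.coe_subtype] at hz'eq
    subst hz'eq
    -- P lies in H
    have hPH : (P : Subgroup G) ≤ H := fun x hx => hcentz x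
      (congrArg Subtype.val (Subgroup.mem_center_iff.mp hz'c ⟨x, hx⟩))
    have huP : IsPGroup 2 ↥((Subgroup.zpowers u).subgroupOf H) := by
      rintro ⟨⟨w, hwH⟩, hw⟩
      obtain ⟨k, rfl⟩ := Subgroup.mem_zpowers_iff.mp hw
      refine ⟨1, Subtype.ext (Subtype.ext ?_)⟩
      show (u ^ k) ^ (2 ^ 1) = 1
      have hu2 : u ^ (2 : ℤ) = 1 := by rw [zpow_two]; exact huu
      rw [pow_one, ← zpow_natCast, ← zpow_mul, mul_comm, zpow_mul, show ((2 : ℕ) : ℤ) = 2 from rfl, hu2,
        one_zpow]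
    obtain ⟨R, hR⟩ := huP.exists_le_sylow
    let P' : Sylow 2 H := P.subtype hPH
    obtain ⟨h, hh⟩ := MulAction.exists_smul_eq H P' R
    have huR : (⟨u, hg⟩ : H) ∈ (R : Subgroup H) := hR (Subgroup.mem_zpowers u)
    rw [← hh] at huR
    rw [Sylow.coe_subgroup_smul, Subgroup.mem_pointwise_smul_iff_inv_smul_mem] at huR
    have hu' : h.1⁻¹ * u * h.1 ∈ (P : Subgroup G) := by
      simpa [Subgroup.mem_subgroupOf, P', MulAut.conj_apply] using huR
    have hcom := congrArg Subtype.val (Subgroup.mem_center_iff.mp hz'c ⟨_, hu'⟩)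
    simp only [Subgroup.coe_mul] at hcom
    -- the conjugate of z by g * h centralises z * t
    set w := g * h.1 with hw
    have hwC : w * z' * w⁻¹ ∈ H := by
      refine hC t a b c (Subgroup.mem_centralizer_iff.mpr ?_)
      intro v hv
      rw [Set.mem_singleton_iff] at hv
      subst hv
      have hu2 : h.1⁻¹ * u * h.1 = w⁻¹ * (z' * t) * w := by rw [hu, hw]; group
      rw [hu2] at hcom
      calc z' * t * (w * z' * w⁻¹) = w * (w⁻¹ * (z' * t) * w * z') * w⁻¹ := by group
        _ = w * (z' * (w⁻¹ * (z' * t) * w)) * w⁻¹ := by rw [hcom]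
        _ = w * z' * w⁻¹ * (z' * t) := by group
    have hw1 : w⁻¹ ∈ H := (h0' w⁻¹).mp (by rw [inv_inv]; exact hwC)
    exact (H.mul_mem_cancel_right h.2).mp (inv_mem_iff.mp hw1)

end Cfsg.Agent.S1922
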