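import Cfsg.Statements.S1924
import Cfsg.Agent.Lib.Transfer.Basic
import Cfsg.Agent.Lib.LocalEven.SubnormalSylow
import Mathlib.GroupTheory.Perm.Cycle.Type
import Mathlib.GroupTheory.SpecificGroups.Dihedral

set_option autoImplicit false
open Cfsg

namespace Cfsg.Agent.S1924

section
open Subgroup

variable {G : Type*} [Group G] [Finite G]

/-- Transfer into `ℤˣ` of an element whose conjugated powers have values `(-1) ^ m`. -/
theorem not_mem_pResidual_of_transfer {P : Subgroup G} (hP : ¬ 2 ∣ P.index) (φ : ↥P →* ℤˣ) (g : G)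
    (hg : ∀ (h : G) (m : ℕ) (hm : h⁻¹ * g ^ m * h ∈ P), φ ⟨h⁻¹ * g ^ m * h, hm⟩ = (-1) ^ m) :
    g ∉ Cfsg.pResidual 2 G := by
  classical
  haveI : Fact (Nat.Prime 2) := ⟨Nat.prime_two⟩
  intro hmem
  haveI := Fintype.ofFinite (Quotient (MulAction.orbitRel (zpowers g) (G ⧸ P)))
  have hA : IsPGroup 2 ℤˣ := fun u => ⟨1, by rw [pow_one, pow_two, Int.units_mul_self]⟩
  have h1 := MonoidHom.mem_ker.1 (CfsgLib.Transfer.pResidual_le_ker hA (MonoidHom.transfer φ) hmem)
  rw [MonoidHom.transfer_eq_prod_quotient_orbitRel_zpowers_quot] at h1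
  simp only [hg] at h1
  rw [Finset.prod_pow_eq_pow_sum] at h1
  have h2 : Nat.card (G ⧸ P) = ∑ q : Quotient (MulAction.orbitRel (zpowers g) (G ⧸ P)),
      Function.minimalPeriod (g • ·) q.out := by
    rw [Nat.card_congr (Subgroup.quotientEquivSigmaZMod P g), Nat.card_sigma]
    simp only [Nat.card_zmod]
  rw [← h2] at h1
  have h3 : Odd (Nat.card (G ⧸ P)) := by
    rw [← Subgroup.index]
    exact Nat.odd_iff.2 (Nat.two_dvd_ne_zero.1 hP)
  rw [h3.neg_one_pow] at h1
  exact absurd h1 (by decide)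

/-- A permutation of `2 ^ (k+1)` points generating a semiregular group of `2`-power order. -/
theorem sign_semiregular {α : Type*} [Fintype α] [DecidableEq α] (σ : Equiv.Perm α) {i : ℕ}
    (hσ : orderOf σ = 2 ^ (i + 1)) (hfree : ∀ a, (σ ^ 2 ^ i) a ≠ a) (hα : Even (Fintype.card α)) :
    Equiv.Perm.sign σ = (-1) ^ (Fintype.card α / orderOf σ) := by
  have hall : ∀ n ∈ σ.cycleType, n = orderOf σ := by
    intro n hn
    rw [Equiv.Perm.cycleType_def, Multiset.mem_map] at hn
    obtain ⟨c, hc, rfl⟩ := hn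
    rw [← Finset.mem_def, Equiv.Perm.mem_cycleFactorsFinset_iff] at hc
    obtain ⟨hcyc, hcs⟩ := hc
    show c.support.card = orderOf σ
    have hmem : c.support.card ∈ σ.cycleType := by
      rw [Equiv.Perm.cycleType_def, Multiset.mem_map]
      exact ⟨c, Finset.mem_def.1 (Equiv.Perm.mem_cycleFactorsFinset_iff.2 ⟨hcyc, hcs⟩), rfl⟩
    have hdvd := Equiv.Perm.dvd_of_mem_cycleType hmem
    rw [hσ] at hdvd ⊢
    obtain ⟨j, hj, hje⟩ := (Nat.dvd_prime_pow Nat.prime_two).1 hdvd
    rcases Nat.lt_or_ge j (i + 1) with hlt | hge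
    · exfalso
      obtain ⟨a, ha⟩ := hcyc.nonempty_support
      have hpow : ∀ (n : ℕ), (σ ^ n) a = (c ^ n) a ∧ (c ^ n) a ∈ c.support := by
        intro n
        induction n with
        | zero => exact ⟨rfl, ha⟩
        | succ n ih =>
          rw [pow_succ', pow_succ', Equiv.Perm.mul_apply, Equiv.Perm.mul_apply, ih.1]
          exact ⟨(hcs _ ih.2).symm, Equiv.Perm.apply_mem_support.2 ih.2⟩
      refine hfree a ?_
      rw [(hpow _).1]
      have : c ^ 2 ^ i = 1 := by
        refine orderOf_dvd_iff_pow_eq_one.1 ?_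
        rw [hcyc.orderOf, hje]
        exact pow_dvd_pow 2 (by omega)
      rw [this]; rfl
    · rw [hje, le_antisymm hj hge]
  have hsupp : σ.support = Finset.univ := by
    ext a
    simp only [Finset.mem_univ, iff_true, Equiv.Perm.mem_support]
    intro h
    exact hfree a (Function.IsFixedPt.perm_pow h _)
  have hrep : σ.cycleType = Multiset.replicate σ.cycleType.card (orderOf σ) :=
    Multiset.eq_replicate_card.2 hall
  have hsum : σ.cycleType.sum = Fintype.card α := by
    rw [Equiv.Perm.sum_cycleType, hsupp, Finset.card_univ]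
  have hcard : Fintype.card α = σ.cycleType.card * orderOf σ := by
    rw [← hsum]
    conv_lhs => rw [hrep, Multiset.sum_replicate, smul_eq_mul]
  rw [Equiv.Perm.sign_of_cycleType, hsum, pow_add, hα.neg_one_pow, one_mul]
  congr 1
  rw [hcard, Nat.mul_div_cancel _ (orderOf_pos σ)]

/-- Powers of a semiregular generator of a cyclic group of order `2 ^ (k+1)`. -/
theorem sign_pow {α : Type*} [Fintype α] [DecidableEq α] (σ : Equiv.Perm α) {k m : ℕ}
    (hα : Fintype.card α = 2 ^ (k + 1)) {d : ℕ} (hd : orderOf σ = d) (hdm : d = 2 ^ (k + 1) / Nat.gcd (2 ^ (k + 1)) m)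
    (hfree : 1 < d → ∀ a, (σ ^ (d / 2)) a ≠ a) : Equiv.Perm.sign σ = (-1) ^ m := by
  obtain ⟨j, hj, hje⟩ := (Nat.dvd_prime_pow Nat.prime_two).1 (Nat.gcd_dvd_left (2 ^ (k + 1)) m)
  rw [hje, Nat.pow_div hj (by norm_num)] at hdm
  have hjdvd : 2 ^ j ∣ m := hje ▸ Nat.gcd_dvd_right _ _
  have hpar : (-1 : ℤˣ) ^ m = (-1) ^ (2 ^ j) := by
    rcases Nat.eq_zero_or_pos j with h0 | h0
    · subst h0
      have : Odd m := by
        rw [← Nat.not_even_iff_odd, even_iff_two_dvd]
        intro h2
        have := Nat.dvd_gcd (dvd_pow_self 2 (Nat.succ_ne_zero k)) h2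
        rw [hje] at this
        norm_num at this
      rw [this.neg_one_pow, pow_zero, pow_one]
    · have he : Even m := even_iff_two_dvd.2 ((dvd_pow_self 2 h0.ne').trans hjdvd)
      rw [he.neg_one_pow, (even_iff_two_dvd.2 (dvd_pow_self 2 h0.ne')).neg_one_pow]
  rw [hpar]
  rcases Nat.eq_or_lt_of_le hj with h0 | h0
  · rw [h0, Nat.sub_self, pow_zero] at hdm
    rw [hdm, orderOf_eq_one_iff] at hd
    rw [hd, map_one, h0, (even_iff_two_dvd.2 (dvd_pow_self 2 (Nat.succ_ne_zero k))).neg_one_pow]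
  · obtain ⟨i, hi⟩ : ∃ i, k + 1 - j = i + 1 := ⟨k - j, by omega⟩
    rw [hi] at hdm
    have hd2 : d / 2 = 2 ^ i := by rw [hdm, pow_succ, Nat.mul_div_cancel _ (by norm_num)]
    rw [sign_semiregular σ (by rw [hd, hdm]) (fun a => hd2 ▸ hfree (by rw [hdm]; exact Nat.one_lt_two_pow (Nat.succ_ne_zero i)) a)
      (by rw [hα]; exact even_iff_two_dvd.2 (dvd_pow_self 2 (Nat.succ_ne_zero k))),
      hd, hdm, hα, Nat.pow_div (by omega) (by norm_num), show k + 1 - (i + 1) = j by omega]

/-- A hom to `ℤˣ` with a prescribed index two kernel. -/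
theorem exists_sign {P : Type*} [Group P] {U : Subgroup P} (hU : U.index = 2) :
    ∃ φ : P →* ℤˣ, (∀ x ∈ U, φ x = 1) ∧ ∀ x, x ∉ U → φ x = -1 := by
  classical
  refine ⟨MonoidHom.mk' (fun x => if x ∈ U then 1 else -1) fun a b => ?_, fun x hx => if_pos hx,
    fun x hx => if_neg hx⟩
  have := Subgroup.mul_mem_iff_of_index_two hU (a := a) (b := b)
  by_cases ha : a ∈ U <;> by_cases hb : b ∈ U <;> simp [ha, hb, this]

end

/-- A consequence of Thompson's transfer lemma. Let G be a finite group, L a subgroup with O²(L) = L, T a Sylow 2-subgroup of L and S a Sylow 2-subgroup of G containing T. Suppose D ≤ S is a dihedral subgroup of order at least 4 (the four-group counts) with D ∩ T = 1 and S = TD as a set of products (so |S| = |T|·|D|), and C ≤ D is cyclic of index 2 in D. If no involution of D outside C is G-conjugate to an involution of the subgroup generated by T and C, and the involution of C is not G-conjugate to any involution of T, then G has a normal subgroup K,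 containing every Sylow 2-subgroup of L as a Sylow 2-subgroup, with G = KD. -/
theorem result {G : Type*} [Group G] [Finite G] (L T S D C : Subgroup G) (hL : Cfsg.pResidual 2 ↥L = ⊤)
    (hTL : T ≤ L) (hT2 : IsPGroup 2 T) (hTsyl : ¬ 2 ∣ T.relIndex L)
    (hS2 : IsPGroup 2 S) (hSsyl : ¬ 2 ∣ S.index) (hTS : T ≤ S)
    (hDS : D ≤ S) (hDih : ∃ n : ℕ, 2 ≤ n ∧ Nonempty (↥D ≃* DihedralGroup n)) (hDT : D ⊓ T = ⊥) (hTD : T ⊔ D = S) (hTDc : Nat.card T * Nat.card D = Nat.card S)
    (hCD : C ≤ D) (hC : IsCyclic ↥C) (hCi : C.relIndex D = 2)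
    (h1 : ∀ x ∈ D, x ∉ C → orderOf x = 2 → ∀ g : G, g * x * g⁻¹ ∈ T ⊔ C → False)
    (h2 : ∀ c ∈ C, orderOf c = 2 → ∀ g : G, g * c * g⁻¹ ∈ T → False) :
    ∃ K : Subgroup G, K.Normal ∧ K ⊔ D = ⊤ ∧
      ∀ T' : Subgroup G, T' ≤ L → IsPGroup 2 T' → ¬ 2 ∣ T'.relIndex L → T' ≤ K ∧ ¬ 2 ∣ T'.relIndex K := by
  classical
  haveI : Fact (Nat.Prime 2) := ⟨Nat.prime_two⟩
  set K := Cfsg.pResidual 2 G with hKdef
  have hLK : L ≤ K := by
    intro l hl
    have : (⟨l, hl⟩ : L) ∈ Cfsg.pResidual 2 ↥L := by rw [hL]; trivial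
    exact CfsgLib.Transfer.map_subtype_pResidual_le L ⟨_, this, rfl⟩
  let Sy : Sylow 2 G := hS2.toSylow hSsyl
  have hSy : (Sy : Subgroup G) = S := IsPGroup.toSylow_coe _ _
  -- `S = D T` as a set
  have hprod : ∀ s ∈ S, ∃ d ∈ D, ∃ t ∈ T, s = d * t := by
    let f : ↥D × ↥T → ↥S := fun a => ⟨(a.1 : G) * a.2, S.mul_mem (hDS a.1.2) (hTS a.2.2)⟩
    have hf : Function.Injective f := by
      rintro ⟨a, b⟩ ⟨a', b'⟩ h
      have h' : (a : G) * b = a' * b' := congrArg Subtype.val h
      have h2 : (a' : G)⁻¹ * a = b' * (b : G)⁻¹ := by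
        rw [eq_mul_inv_iff_mul_eq, mul_assoc, h', inv_mul_cancel_left]
      have h3 : (a' : G)⁻¹ * a ∈ D ⊓ T :=
        ⟨D.mul_mem (D.inv_mem a'.2) a.2, by rw [h2]; exact T.mul_mem b'.2 (T.inv_mem b.2)⟩
      rw [hDT, Subgroup.mem_bot] at h3
      have ha : (a' : G) = a := inv_mul_eq_one.1 h3
      have hb : (b : G) = b' := by rw [ha] at h'; exact mul_left_cancel h'
      exact Prod.ext (Subtype.ext ha.symm) (Subtype.ext hb)
    have hbij : Function.Bijective f := (Nat.bijective_iff_injective_and_card f).2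
      ⟨hf, by rw [Nat.card_prod, mul_comm]; exact hTDc⟩
    intro s hs
    obtain ⟨⟨a, b⟩, hab⟩ := hbij.2 ⟨s, hs⟩
    exact ⟨a, a.2, b, b.2, (congrArg Subtype.val hab).symm⟩
  -- elements of `D` outside `C` are involutions
  have hinv : ∀ y ∈ D, y ∉ C → orderOf y = 2 := by
    obtain ⟨n, hn, ⟨e⟩⟩ := hDih
    haveI : NeZero n := ⟨by omega⟩
    have hDcard : Nat.card D = 2 * n := by rw [Nat.card_congr e.toEquiv, DihedralGroup.nat_card]
    have hCcard : Nat.card C = n := by
      have := (C.subgroupOf D).card_mul_index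
      rw [Nat.card_congr (Subgroup.subgroupOfEquivOfLe hCD).toEquiv, hDcard] at this
      rw [show (C.subgroupOf D).index = 2 from hCi] at this
      omega
    intro y hy hyC
    have key : orderOf (e ⟨y, hy⟩) = 2 := by
      cases hey : e ⟨y, hy⟩ with
      | sr i => exact DihedralGroup.orderOf_sr i
      | r i =>
        obtain ⟨⟨g, hg⟩, hgen⟩ := hC
        have hog : orderOf g = n := by
          rw [← hCcard, ← Subgroup.orderOf_mk g hg]
          exact orderOf_eq_card_of_forall_mem_zpowers hgen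
        cases heg : e ⟨g, hCD hg⟩ with
        | sr j =>
          have h2 : orderOf (e ⟨g, hCD hg⟩) = 2 := by rw [heg]; exact DihedralGroup.orderOf_sr j
          rw [MulEquiv.orderOf_eq, Subgroup.orderOf_mk, hog] at h2
          subst h2
          rw [orderOf_eq_prime_iff]
          refine ⟨?_, fun h => hyC ?_⟩
          · rw [pow_two, DihedralGroup.r_mul_r, DihedralGroup.one_def]
            exact congrArg _ (CharTwo.add_self_eq_zero i)
          · have h1 : e ⟨y, hy⟩ = e 1 := by rw [hey, h, map_one]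
            have : y = 1 := congrArg Subtype.val (e.injective h1)
            rw [this]; exact C.one_mem
        | r j =>
          exfalso
          apply hyC
          have h1 : orderOf (DihedralGroup.r j) = orderOf (DihedralGroup.r (1 : ZMod n)) := by
            rw [← heg, MulEquiv.orderOf_eq, Subgroup.orderOf_mk, hog, DihedralGroup.orderOf_r_one]
          have hsub : Subgroup.zpowers (DihedralGroup.r j) ≤ Subgroup.zpowers (DihedralGroup.r (1 : ZMod n)) := by
            rw [Subgroup.zpowers_le]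
            exact ⟨(j.val : ℤ), by simp [DihedralGroup.r_one_pow]⟩
          have heq : Subgroup.zpowers (DihedralGroup.r j) = Subgroup.zpowers (DihedralGroup.r (1 : ZMod n)) :=
            Subgroup.eq_of_le_of_card_ge hsub (by rw [Nat.card_zpowers, Nat.card_zpowers, h1])
          have hi : DihedralGroup.r i ∈ Subgroup.zpowers (DihedralGroup.r j) := by
            rw [heq]; exact ⟨(i.val : ℤ), by simp [DihedralGroup.r_one_pow]⟩
          obtain ⟨z, hz⟩ := Subgroup.mem_zpowers_iff.1 hi
          rw [← heg, ← map_zpow, ← hey] at hz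
          have : g ^ z = y := congrArg Subtype.val (e.injective hz)
          rw [← this]; exact C.zpow_mem hg z
    rwa [MulEquiv.orderOf_eq, Subgroup.orderOf_mk] at key
  -- `K ∩ D ≤ C`
  have hKC : K ⊓ D ≤ C := by
    rintro y ⟨hyK, hyD⟩
    by_contra hyC
    have ho := hinv y hyD hyC
    set U := T ⊔ C with hU
    have hUS : U ≤ S := sup_le hTS (hCD.trans hDS)
    have hyU : y ∉ U := fun h => h1 y hyD hyC ho 1 (by simpa using h)
    have hUi : (U.subgroupOf S).index = 2 := by
      show U.relIndex S = 2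
      have hUcard : Nat.card T * Nat.card C ≤ Nat.card U := by
        let f : ↥T × ↥C → ↥U := fun a =>
          ⟨(a.1 : G) * a.2, U.mul_mem (Subgroup.mem_sup_left a.1.2) (Subgroup.mem_sup_right a.2.2)⟩
        have hf : Function.Injective f := by
          rintro ⟨a, b⟩ ⟨a', b'⟩ h
          have h' : (a : G) * b = a' * b' := congrArg Subtype.val h
          have h2 : (a' : G)⁻¹ * a = b' * (b : G)⁻¹ := by
            rw [eq_mul_inv_iff_mul_eq, mul_assoc, h', inv_mul_cancel_left]
          have h3 : (a' : G)⁻¹ * a ∈ D ⊓ T :=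
            ⟨by rw [h2]; exact D.mul_mem (hCD b'.2) (D.inv_mem (hCD b.2)), T.mul_mem (T.inv_mem a'.2) a.2⟩
          rw [hDT, Subgroup.mem_bot] at h3
          have ha : (a' : G) = a := inv_mul_eq_one.1 h3
          have hb : (b : G) = b' := by rw [ha] at h'; exact mul_left_cancel h'
          exact Prod.ext (Subtype.ext ha.symm) (Subtype.ext hb)
        have := Nat.card_le_card_of_injective f hf
        rwa [Nat.card_prod] at this
      have hmul : Nat.card U * U.relIndex S = Nat.card S := by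
        rw [← Nat.card_congr (Subgroup.subgroupOfEquivOfLe hUS).toEquiv]
        exact Subgroup.card_mul_index _
      have hD2 : Nat.card D = Nat.card C * 2 := by
        have := (C.subgroupOf D).card_mul_index
        rw [Nat.card_congr (Subgroup.subgroupOfEquivOfLe hCD).toEquiv] at this
        rw [← this, show (C.subgroupOf D).index = 2 from hCi]
      have hne : U.relIndex S ≠ 1 := fun h => hyU (Subgroup.relIndex_eq_one.1 h (hDS hyD))
      have hle : U.relIndex S ≤ 2 := by
        by_contra h3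
        have : Nat.card U * 3 ≤ Nat.card S := hmul ▸ Nat.mul_le_mul_left _ (by omega)
        rw [← hTDc, hD2] at this
        have hpos : 0 < Nat.card U := Nat.card_pos
        nlinarith
      have hpos : U.relIndex S ≠ 0 := Subgroup.index_ne_zero_of_finite
      omega
    obtain ⟨φ, hφ1, hφ2⟩ := exists_sign hUi
    have hidx : ¬ 2 ∣ S.index := hSsyl
    refine not_mem_pResidual_of_transfer hidx φ y (fun h m hm => ?_) hyK
    rcases Nat.even_or_odd m with he | hodd
    · obtain ⟨a, ha⟩ := he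
      have : y ^ m = 1 := by
        rw [ha, ← two_mul, pow_mul, ← ho, pow_orderOf_eq_one, one_pow]
      rw [Even.neg_one_pow ⟨a, ha⟩]
      refine hφ1 _ ?_
      show h⁻¹ * y ^ m * h ∈ U
      rw [this]; simp [U.one_mem]
    · rw [hodd.neg_one_pow]
      refine hφ2 _ fun hmem => ?_
      obtain ⟨a, ha⟩ := hodd
      have : y ^ m = y := by
        rw [ha, pow_succ, pow_mul, ← ho, pow_orderOf_eq_one, one_pow, one_mul]
      have hm' : h⁻¹ * y ^ m * h ∈ U := hmem
      rw [this] at hm'
      exact h1 y hyD hyC ho h⁻¹ (by simpa using hm')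
  -- the Sylow subgroup of `K`
  obtain ⟨Q, hQ⟩ := CfsgLib.LocalEven.exists_sylow_eq_inf_of_isSubnormal Sy
    (Subgroup.Normal.isSubnormal (inferInstance : K.Normal))
  rw [hSy] at hQ
  have hQmem : ∀ x : K, x ∈ (Q : Subgroup K) ↔ (x : G) ∈ S := fun x => by rw [hQ, Subgroup.mem_subgroupOf]
  -- `K ∩ D = 1`
  have hKD : K ⊓ D = ⊥ := by
    by_contra hne
    haveI : IsCyclic ↥(K ⊓ D : Subgroup G) :=
      isCyclic_of_injective (Subgroup.inclusion hKC) (Subgroup.inclusion_injective hKC)
    obtain ⟨⟨c, hc⟩, hgen⟩ := IsCyclic.exists_generator (α := ↥(K ⊓ D : Subgroup G))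
    have hord : orderOf c = Nat.card ↥(K ⊓ D : Subgroup G) := by
      rw [← Subgroup.orderOf_mk c hc]; exact orderOf_eq_card_of_forall_mem_zpowers hgen
    obtain ⟨k₀, hk₀⟩ := (hS2.to_le ((inf_le_right : K ⊓ D ≤ D).trans hDS)).exists_card_eq
    obtain ⟨k, rfl⟩ : ∃ k, k₀ = k + 1 := by
      rcases Nat.eq_zero_or_pos k₀ with h0 | h0
      · subst h0
        exact absurd (Subgroup.eq_bot_of_card_eq _ (by rw [hk₀, pow_zero])) hne
      · exact ⟨k₀ - 1, by omega⟩
    rw [hk₀] at hord
    set P := (Q : Subgroup K) with hPdef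
    let TP : Subgroup ↥P := (T.subgroupOf K).subgroupOf P
    haveI := Fintype.ofFinite (↥P ⧸ TP)
    have hcardq : Fintype.card (↥P ⧸ TP) = 2 ^ (k + 1) := by
      rw [← Nat.card_eq_fintype_card, ← hk₀]
      let f : ↥(K ⊓ D : Subgroup G) → ↥P ⧸ TP := fun a =>
        ((⟨⟨(a : G), a.2.1⟩, (hQmem _).2 (hDS a.2.2)⟩ : ↥P) : ↥P ⧸ TP)
      refine (Nat.card_eq_of_bijective f ⟨fun a b hab => ?_, fun q => ?_⟩).symm
      · have h3 : (a : G)⁻¹ * b ∈ T := (QuotientGroup.eq (s := TP)).1 hab
        have h4 : (a : G)⁻¹ * b ∈ D ⊓ T := ⟨D.mul_mem (D.inv_mem a.2.2) b.2.2, h3⟩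
        rw [hDT, Subgroup.mem_bot] at h4
        exact Subtype.ext (inv_mul_eq_one.1 h4)
      · induction q using QuotientGroup.induction_on with
        | _ s =>
          obtain ⟨d, hd, t, ht, hs⟩ := hprod _ ((hQmem _).1 s.2)
          have hdK : d ∈ K := by
            rw [eq_mul_inv_of_mul_eq hs.symm]
            exact K.mul_mem s.1.2 (K.inv_mem (hLK (hTL ht)))
          refine ⟨⟨d, hdK, hd⟩, QuotientGroup.eq.2 ?_⟩
          show d⁻¹ * ((s : ↥K) : G) ∈ T
          rw [hs, inv_mul_cancel_left]; exact ht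
    let ψ : ↥P →* ℤˣ := Equiv.Perm.sign.comp (MulAction.toPermHom ↥P (↥P ⧸ TP))
    have hcK : (⟨c, hc.1⟩ : K) ∈ Cfsg.pResidual 2 ↥K := by
      have : Cfsg.pResidual 2 ↥K = ⊤ := by
        rw [eq_top_iff]
        rintro ⟨x, hx⟩ -
        have hx' : x ∈ (Cfsg.pResidual 2 ↥K).map K.subtype := by
          have hle : K ≤ (Cfsg.pResidual 2 ↥K).map K.subtype := by
            rw [hKdef, Cfsg.pResidual, Subgroup.closure_le]
            intro a ha
            refine ⟨⟨a, Subgroup.subset_closure ha⟩, CfsgLib.Transfer.mem_pResidual_of_coprime ?_, rfl⟩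
            rwa [Subgroup.orderOf_mk]
          exact hle hx
        obtain ⟨z, hz, hzx⟩ := hx'
        rwa [show z = ⟨x, hx⟩ from Subtype.ext hzx] at hz
      rw [this]; trivial
    refine not_mem_pResidual_of_transfer Q.not_dvd_index ψ ⟨c, hc.1⟩ (fun h m hm => ?_) hcK
    set y : ↥P := ⟨_, hm⟩ with hy
    have hoy : orderOf y = 2 ^ (k + 1) / Nat.gcd (2 ^ (k + 1)) m := by
      rw [← orderOf_injective P.subtype P.subtype_injective]
      show orderOf (h⁻¹ * (⟨c, hc.1⟩ : K) ^ m * h) = _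
      rw [show h⁻¹ * (⟨c, hc.1⟩ : K) ^ m * h = MulAut.conj h⁻¹ ((⟨c, hc.1⟩ : K) ^ m) by simp,
        MulEquiv.orderOf_eq, orderOf_pow, Subgroup.orderOf_mk, hord]
    have hfree : ∀ j : ℕ, j ≠ 0 → 2 * j = orderOf y → ∀ a : ↥P ⧸ TP, y ^ j • a ≠ a := by
      intro j hj hjd a hfix
      induction a using QuotientGroup.induction_on with
      | _ s =>
        have h3 : (s⁻¹ * y ^ j * s : ↥P) ∈ TP := by
          have h4 : ((y ^ j * s : ↥P) : ↥P ⧸ TP) = (s : ↥P ⧸ TP) := hfix
          have h5 := TP.inv_mem (QuotientGroup.eq.1 h4)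
          simpa [mul_assoc] using h5
        -- the involution generated lies in `C`
        have h6 : (h : G)⁻¹ * c ^ (m * j) * h = ((y : ↥K) : G) ^ j := by
          have hval : ((y : ↥K) : G) = (h : G)⁻¹ * c ^ m * h := by rw [hy]; simp
          rw [hval, pow_mul, show (h : G)⁻¹ * c ^ m * h = MulAut.conj (h : G)⁻¹ (c ^ m) by simp,
            ← map_pow]
          simp
        have hoc : orderOf (c ^ (m * j)) = 2 := by
          have e1 : orderOf (y ^ j) = 2 := by
            rw [orderOf_pow, ← hjd, Nat.gcd_mul_left_left, Nat.mul_div_cancel _ (Nat.pos_of_ne_zero hj)]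
          rw [← orderOf_injective P.subtype P.subtype_injective,
            ← orderOf_injective K.subtype K.subtype_injective] at e1
          rw [← e1]
          show _ = orderOf (((y : ↥K) : G) ^ j)
          rw [← h6, show (h : G)⁻¹ * c ^ (m * j) * h = MulAut.conj (h : G)⁻¹ (c ^ (m * j)) by simp,
            MulEquiv.orderOf_eq]
        refine h2 _ (C.pow_mem (hKC hc) _) hoc (((s : ↥K) : G)⁻¹ * (h : G)⁻¹) ?_
        have h7 : ((s : ↥K) : G)⁻¹ * ((y : ↥K) : G) ^ j * ((s : ↥K) : G) ∈ T := h3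
        rw [← h6] at h7
        simpa [mul_assoc] using h7
    set σ : Equiv.Perm (↥P ⧸ TP) := MulAction.toPermHom ↥P (↥P ⧸ TP) y with hσ
    show Equiv.Perm.sign σ = (-1) ^ m
    have hσpow : ∀ (j : ℕ) (a : ↥P ⧸ TP), (σ ^ j) a = y ^ j • a := fun j a => by
      rw [hσ, ← map_pow]; rfl
    obtain ⟨i, -, hi⟩ : ∃ i ≤ k + 1, orderOf y = 2 ^ i := (Nat.dvd_prime_pow Nat.prime_two).1
      (hoy ▸ Nat.div_dvd_of_dvd (Nat.gcd_dvd_left _ _))
    have hσo : orderOf σ = orderOf y := by
      rcases Nat.eq_zero_or_pos i with h0 | h0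
      · rw [h0, pow_zero, orderOf_eq_one_iff] at hi
        rw [hσ, hi, map_one, orderOf_one, orderOf_one]
      · obtain ⟨i', rfl⟩ : ∃ i', i = i' + 1 := ⟨i - 1, by omega⟩
        rw [hi]
        refine orderOf_eq_prime_pow ?_ ?_
        · intro hp
          obtain ⟨q⟩ : Nonempty (↥P ⧸ TP) := inferInstance
          refine hfree (2 ^ i') (by positivity) (by rw [hi, pow_succ']) q ?_
          rw [← hσpow, hp]; rfl
        · rw [hσ, ← map_pow, ← hi, pow_orderOf_eq_one, map_one]
    refine sign_pow σ hcardq hσo hoy fun hd a hfix => ?_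
    have heven : 2 ∣ orderOf y := by
      rw [hi]
      exact dvd_pow_self 2 (fun h0 => by rw [hi, h0, pow_zero] at hd; omega)
    exact hfree (orderOf y / 2) (by omega) (Nat.mul_div_cancel' heven) a ((hσpow _ a).symm.trans hfix)
  -- conclusion
  refine ⟨K, inferInstance, ?_, fun T' hT'L hT'2 hT'i => ⟨hT'L.trans hLK, ?_⟩⟩
  · have hsup := CfsgLib.Transfer.pResidual_sup_sylow Sy
    rw [hSy] at hsup
    rw [eq_top_iff, ← hsup, ← hTD]
    exact sup_le le_sup_left (sup_le ((hTL.trans hLK).trans le_sup_left) le_sup_right)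
  · have hSK : S ⊓ K = T := by
      refine le_antisymm ?_ (le_inf hTS (hTL.trans hLK))
      rintro s ⟨hs, hsK⟩
      obtain ⟨d, hd, t, ht, rfl⟩ := hprod s hs
      have hdK : d ∈ K := by
        simpa using K.mul_mem hsK (K.inv_mem (hLK (hTL ht)))
      have : d ∈ K ⊓ D := ⟨hdK, hd⟩
      rw [hKD, Subgroup.mem_bot] at this
      rw [this, one_mul]; exact ht
    have hTK : ¬ 2 ∣ T.relIndex K := by
      rw [← hSK, Subgroup.inf_relIndex_right]
      have := Q.not_dvd_index
      rw [hQ] at this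
      exact this
    have hLrel : ∀ A : Subgroup G, A ≤ L → A.relIndex K = A.relIndex L * L.relIndex K := fun A hA =>
      (Subgroup.relIndex_mul_relIndex A L K hA hLK).symm
    rw [hLrel T hTL] at hTK
    rw [hLrel T' hT'L]
    intro hdvd
    rcases (Nat.Prime.dvd_mul Nat.prime_two).1 hdvd with h | h
    · exact hT'i h
    · exact hTK (Dvd.dvd.mul_left h _)

end Cfsg.Agent.S1924
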