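import Cfsg.Statements.S1932
import Cfsg.Agent.Lib.Techniques.OffenderTwo
import Cfsg.Agent.Lib.LocalEven.ActKernel
import Cfsg.Agent.Lib.LocalEven.DihedralCriterion
import Cfsg.Agent.Lib.PStab.Complement
import Cfsg.Agent.Lib.Transfer.Factorizable
import Cfsg.Agent.Lib.Cores.PConstrained
import Cfsg.Agent.Lib.LocalEven.SolvableOffender

set_option autoImplicit false
open Cfsg

open scoped commutatorElement

namespace Cfsg.Agent.S1932

open Subgroup CfsgLib.PStab in
/-- `J(S)` is normal in a group of characteristic two free of `S₄` with `S` of class at most two. -/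
theorem classTwo_key {G : Type*} [Group G] [Finite G]
    (hS4 : ¬ Cfsg.Involves (Equiv.Perm (Fin 4)) G)
    (hCH : Subgroup.centralizer (Cfsg.pCore 2 G : Set G) ≤ Cfsg.pCore 2 G) (S : Sylow 2 G)
    (hcl : Subgroup.lowerCentralSeries (S : Subgroup G) 2 = ⊥) :
    normalizer ((Cfsg.thompsonSubgroupOf 2 (S : Subgroup G)) : Set G) = ⊤ := by
  haveI : Fact (Nat.Prime 2) := ⟨Nat.prime_two⟩
  set H := pCore 2 G with hH
  have hHp : IsPGroup 2 H := CfsgLib.Cores.isPGroup_pCore 2
  have hHS : H ≤ (S : Subgroup G) := CfsgLib.Cores.pCore_le_sylow S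
  set Z := H ⊓ centralizer (H : Set G) with hZ
  have hZc : ∀ a ∈ Z, ∀ b ∈ Z, a * b = b * a := fun a ha b hb =>
    mem_centralizer_iff.1 hb.2 a ha.1
  set C₁ := CfsgLib.LocalEven.ActKer.commKer (⊤ : Subgroup G) H Z
    (by rw [Subgroup.normalizer_eq_top Z]) with hC₁
  haveI hC₁n : C₁.Normal := ⟨fun k hk l => CfsgLib.LocalEven.ActKer.conj_mem_commKer
    (by rw [Subgroup.normalizer_eq_top H]) (Subgroup.mem_top l) hk⟩
  have hSC₁ : (S : Subgroup G) ≤ C₁ := by
    intro s hs
    refine ⟨Subgroup.mem_top s, fun h hh => ?_⟩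
    have h1 : ⁅s, h⁆ ∈ ⁅(S : Subgroup G), (S : Subgroup G)⁆ := commutator_mem_commutator hs (hHS hh)
    refine Subgroup.mem_inf.2 ⟨?_, mem_centralizer_iff.2 fun v hv => ?_⟩
    · rw [commutatorElement_def]
      exact mul_mem ((inferInstance : H.Normal).conj_mem h hh s) (inv_mem hh)
    · have h2 : ⁅⁅s, h⁆, v⁆ ∈ ⁅⁅(S : Subgroup G), (S : Subgroup G)⁆, (S : Subgroup G)⁆ :=
        commutator_mem_commutator h1 (hHS hv)
      rw [show ⁅⁅(S : Subgroup G), (S : Subgroup G)⁆, (S : Subgroup G)⁆ = Subgroup.lowerCentralSeries (S : Subgroup G) 2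
        from rfl, hcl, Subgroup.mem_bot, commutatorElement_eq_one_iff_mul_comm] at h2
      exact h2.symm
  have hHC₁ : H ≤ C₁ := hHS.trans hSC₁
  set V := omegaOne 2 Z with hV
  have hVn : V.Normal := CfsgLib.PGroup.omegaOne_normal 2 Z
  have hVe : IsElementaryAbelian 2 V := CfsgLib.PGroup.elemAb_omegaOne_of_comm hZc
  have hVZ : V ≤ Z := CfsgLib.PGroup.omegaOne_le 2 Z
  have hCV : C₁ ⊓ centralizer (V : Set G) = H := by
    refine le_antisymm ?_ (le_inf hHC₁ (Subgroup.le_centralizer_iff.1 (hVZ.trans inf_le_right)))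
    refine CfsgLib.Cores.le_pCore (CfsgLib.LocalEven.isPGroup_of_forall_coprime fun x hx hxo => ?_)
    obtain ⟨hx1, hxV⟩ := Subgroup.mem_inf.1 hx
    have hxZ : ∀ (i : ℕ) (v : G), v ∈ Z → v ^ 2 ^ i = 1 → x * v = v * x := by
      intro i
      induction i with
      | zero => intro v _ h; rw [pow_zero, pow_one] at h; simp [h]
      | succ i ih =>
        intro v hv h
        have hcv : x * v * x⁻¹ ∈ Z := (inferInstance : Z.Normal).conj_mem v hv x
        have hd : v⁻¹ * (x * v * x⁻¹) ∈ Z := mul_mem (inv_mem hv) hcv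
        have hv2 : x * v ^ 2 = v ^ 2 * x := ih _ (pow_mem hv 2) (by rwa [← pow_mul, ← pow_succ'])
        have hd2 : (v⁻¹ * (x * v * x⁻¹)) ^ 2 = 1 := by
          rw [(show Commute v⁻¹ (x * v * x⁻¹) from hZc _ (inv_mem hv) _ hcv).mul_pow, conj_pow,
            mul_inv_eq_iff_eq_mul.2 hv2, inv_pow, inv_mul_cancel]
        refine CfsgLib.LocalEven.commute_of_conj_eq_mul (hHp.to_le (inf_le_left : Z ≤ H)) hd hxo (by group) ?_
        exact (mem_centralizer_iff.1 hxV _ (CfsgLib.PGroup.mem_omegaOne hd hd2)).symm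
    have hxZ' : ∀ v ∈ Z, x * v = v * x := fun v hv => by
      obtain ⟨i, hi⟩ := (hHp.to_le (inf_le_left : Z ≤ H)) ⟨v, hv⟩
      exact hxZ i v hv (congrArg Subtype.val hi)
    have hxH : x ∈ centralizer (H : Set G) := mem_centralizer_iff.2 fun v hv => by
      have hd : v⁻¹ * (x * v * x⁻¹) ∈ Z := by
        have h1 : v⁻¹ * ⁅x, v⁆ * v⁻¹⁻¹ ∈ Z := (inferInstance : Z.Normal).conj_mem _ (hx1.2 v hv) v⁻¹
        rwa [commutatorElement_def, inv_inv, show v⁻¹ * (x * v * x⁻¹ * v⁻¹) * v = v⁻¹ * (x * v * x⁻¹) by group] at h1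
      exact (CfsgLib.LocalEven.commute_of_conj_eq_mul (hHp.to_le (inf_le_left : Z ≤ H)) hd hxo (by group)
        (hxZ' _ hd)).symm
    exact CfsgLib.LocalEven.eq_one_of_pow_eq_one_of_pGroup hHp (hCH hxH) hxo (pow_orderOf_eq_one x)
  have hJH : jGen 2 (S : Subgroup G) ≤ H := by
    refine sSup_le fun A hA => ?_
    by_contra hAH
    apply hS4
    have hAC : A ≤ C₁ := hA.1.trans hSC₁
    have hVC : V ≤ C₁ := (hVZ.trans inf_le_left).trans hHC₁
    haveI : V.Normal := hVn
    haveI : IsMulCommutative V := hVe.1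
    letI : CommGroup V := { (inferInstance : Group V) with mul_comm := fun a b => mul_comm' a b }
    set K := H.subgroupOf C₁ with hK
    haveI : K.Normal := (inferInstance : H.Normal).comap _
    set q := QuotientGroup.mk' K with hq
    let conjV : C₁ →* MulAut V := (MulAut.conjNormal (H := V)).comp C₁.subtype
    have hker : conjV.ker = K := by
      ext y
      rw [MonoidHom.mem_ker, hK, Subgroup.mem_subgroupOf, ← hCV, Subgroup.mem_inf,
        Subgroup.mem_centralizer_iff]
      constructor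
      · intro h
        refine ⟨y.2, fun v hv => ?_⟩
        have h1 := congrArg Subtype.val (DFunLike.congr_fun h ⟨v, hv⟩)
        exact (mul_inv_eq_iff_eq_mul.1 (h1 : (y : G) * v * (y : G)⁻¹ = v)).symm
      · rintro ⟨-, h⟩
        refine MulEquiv.ext fun v => Subtype.ext ?_
        show (y : G) * v * (y : G)⁻¹ = v
        rw [← h v v.2, mul_inv_cancel_right]
    let ψ : C₁ ⧸ K →* MulAut V := QuotientGroup.lift K conjV hker.ge
    have hψ : Function.Injective ψ := by
      rw [← MonoidHom.ker_eq_bot_iff, QuotientGroup.ker_lift, hker, QuotientGroup.map_mk'_self]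
    have hψq : ∀ (y : C₁) (v : V), ((ψ (q y) v : V) : G) = (y : G) * v * (y : G)⁻¹ := fun _ _ => rfl
    have hSS : ∀ s ∈ (S : Subgroup G), ∀ t ∈ (S : Subgroup G), ∀ u ∈ (S : Subgroup G),
        u * ⁅s, t⁆ = ⁅s, t⁆ * u := by
      intro s hs t ht u hu
      have h2 : ⁅⁅s, t⁆, u⁆ ∈ Subgroup.lowerCentralSeries (S : Subgroup G) 2 :=
        commutator_mem_commutator (commutator_mem_commutator hs ht) hu
      rw [hcl, Subgroup.mem_bot, commutatorElement_eq_one_iff_mul_comm] at h2
      exact h2.symm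
    set S₁ : Sylow 2 (C₁ ⧸ K) := (S.subtype hSC₁).mapSurjective (QuotientGroup.mk'_surjective K) with hS₁
    have hS₁c : ∀ x ∈ (S₁ : Subgroup (C₁ ⧸ K)), ∀ y ∈ (S₁ : Subgroup (C₁ ⧸ K)), x * y = y * x := by
      rintro _ ⟨x, hx, rfl⟩ _ ⟨y, hy, rfl⟩
      rw [← commutatorElement_eq_one_iff_mul_comm, ← map_commutatorElement]
      refine (QuotientGroup.eq_one_iff _).2 (Subgroup.mem_subgroupOf.2 (hCH ?_))
      exact mem_centralizer_iff.2 fun v hv => hSS _ hx _ hy v (hHS hv)
    have hab : ∀ P : Subgroup (C₁ ⧸ K), IsPGroup 2 P → ∀ x ∈ P, ∀ y ∈ P, x * y = y * x := by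
      intro P hP x hx y hy
      obtain ⟨T, hT⟩ := hP.exists_le_sylow
      obtain ⟨g, hg⟩ := MulAction.exists_smul_eq (C₁ ⧸ K) S₁ T
      have hmem : ∀ z ∈ P, g⁻¹ * z * g ∈ (S₁ : Subgroup (C₁ ⧸ K)) := by
        intro z hz
        have h1 : z ∈ (T : Subgroup (C₁ ⧸ K)) := hT hz
        rw [← hg, Sylow.coe_subgroup_smul, Subgroup.mem_pointwise_smul_iff_inv_smul_mem] at h1
        simpa [MulAut.smul_def, MulAut.conj_apply, mul_assoc] using h1
      have h2 := hS₁c _ (hmem x hx) _ (hmem y hy)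
      have h3 : x * (y * g) = y * (x * g) := by simpa [mul_assoc] using h2
      exact mul_right_cancel ((mul_assoc x y g).trans (h3.trans (mul_assoc y x g).symm))
    have hO' : ∀ N : Subgroup (C₁ ⧸ K), N.Normal → IsPGroup 2 N → N = ⊥ := by
      intro N hN hNp
      have h1 : IsPGroup 2 ↥(N.comap q) := by
        refine IsPGroup.comap_of_ker_isPGroup hNp _ ?_
        rw [hq, QuotientGroup.ker_mk']
        exact hHp.comap_subtype
      have hHeq : pCore 2 ↥C₁ = K := by
        rw [← Subgroup.comap_map_eq_self_of_injective C₁.subtype_injective (pCore 2 ↥C₁),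
          CfsgLib.Cores.pCore_of_normal 2 C₁]
        rw [← hH, inf_eq_left.2 hHC₁]; rfl
      haveI : (N.comap q).Normal := hN.comap q
      have h2 : N.comap q ≤ K := (CfsgLib.Cores.le_pCore h1).trans hHeq.le
      rw [eq_bot_iff]
      intro n hn
      obtain ⟨y, rfl⟩ := QuotientGroup.mk'_surjective K n
      exact Subgroup.mem_bot.2 ((QuotientGroup.eq_one_iff y).2 (h2 hn))
    set A₀ := (A.subgroupOf C₁).map q with hA₀
    have hA₀1 : A₀ ≠ ⊥ := by
      intro h
      apply hAH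
      intro a ha
      have h1 : q ⟨a, hAC ha⟩ ∈ A₀ := ⟨_, ha, rfl⟩
      rw [h, Subgroup.mem_bot] at h1
      exact Subgroup.mem_subgroupOf.1 ((QuotientGroup.eq_one_iff (⟨a, hAC ha⟩ : C₁)).1 h1)
    have hA₀2 : ∀ a ∈ A₀, a * a = 1 := by
      rintro _ ⟨a, ha, rfl⟩
      rw [← map_mul, ← pow_two, show a ^ 2 = 1 from Subtype.ext (hA.2.1.2 (a : G) ha), map_one]
    have hV2 : ∀ v : V, v * v = 1 := fun v => Subtype.ext (by
      show (v : G) * v = 1
      rw [← pow_two]; exact hVe.2 v v.2)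
    have hquad : ∀ a ∈ A₀, ∀ v, CfsgLib.Techniques.OffenderTwo.disp ψ a v ∈
        CfsgLib.Techniques.OffenderTwo.fix ψ A₀ := by
      rintro _ ⟨a, ha, rfl⟩ v _ ⟨b, hb, rfl⟩
      apply Subtype.ext
      rw [hψq]
      show (b : G) * ((v : G) * ((ψ (q a) v : V) : G)) * (b : G)⁻¹ = (v : G) * ((ψ (q a) v : V) : G)
      rw [hψq]
      have hvS : (v : G) ∈ (S : Subgroup G) := hHS (hVZ.trans inf_le_left v.2)
      have hvv : (v : G)⁻¹ = v := inv_eq_of_mul_eq_one_right (congrArg Subtype.val (hV2 v))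
      have hcom : (v : G) * ((a : G) * v * (a : G)⁻¹) = ⁅(a : G), (v : G)⁆ := by
        rw [commutatorElement_def, hvv]
        exact congrArg Subtype.val (mul_comm v (⟨(a : G) * v * (a : G)⁻¹, hVn.conj_mem _ v.2 _⟩ : V))
      rw [hcom, hSS (a : G) (hA.1 ha) _ hvS (b : G) (hA.1 hb), mul_inv_cancel_right]
    have hfixeq : (CfsgLib.Techniques.OffenderTwo.fix ψ A₀).map V.subtype =
        V ⊓ centralizer (A : Set G) := by
      ext v
      constructor
      · rintro ⟨w, hw, rfl⟩
        refine Subgroup.mem_inf.2 ⟨w.2, mem_centralizer_iff.2 fun a ha => ?_⟩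
        have h1 := congrArg Subtype.val (hw (q ⟨a, hAC ha⟩) ⟨⟨a, hAC ha⟩, ha, rfl⟩)
        exact mul_inv_eq_iff_eq_mul.1 ((hψq ⟨a, hAC ha⟩ w).symm.trans h1)
      · intro hv
        refine ⟨⟨v, (Subgroup.mem_inf.1 hv).1⟩, ?_, rfl⟩
        rintro _ ⟨a, ha, rfl⟩
        apply Subtype.ext
        rw [hψq]
        show (a : G) * v * (a : G)⁻¹ = v
        rw [mem_centralizer_iff.1 (Subgroup.mem_inf.1 hv).2 a ha, mul_inv_cancel_right]
    set D := A ⊓ H with hD
    have hDV : ∀ a ∈ D, ∀ b ∈ V, a * b = b * a := fun a ha b hb =>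
      mem_centralizer_iff.1 (hVZ hb).2 a (Subgroup.mem_inf.1 ha).2
    have hAe : IsElementaryAbelian 2 A := hA.2.1
    have hB : Nat.card ↥(D ⊔ V) ≤ Nat.card A := hA.2.2 _
      (sup_le ((inf_le_left).trans hA.1) (hVZ.trans (inf_le_left.trans hHS)))
      (CfsgLib.PGroup.elemAb_sup (CfsgLib.PGroup.elemAb_mono hAe inf_le_left) hVe hDV)
    have e1 := Subgroup.relIndex_mul_relIndex ⊥ (D ⊓ V) V bot_le inf_le_right
    have e2 := Subgroup.relIndex_mul_relIndex ⊥ D (D ⊔ V) bot_le le_sup_left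
    rw [Subgroup.relIndex_bot_left, Subgroup.relIndex_bot_left, Subgroup.inf_relIndex_right] at e1
    rw [Subgroup.relIndex_bot_left, Subgroup.relIndex_bot_left] at e2
    have h1 : D.relIndex V ≤ D.relIndex (D ⊔ V) :=
      Subgroup.relIndex_le_of_le_right le_sup_right Subgroup.FiniteIndex.index_ne_zero
    have h2 : Nat.card ↥(D ⊓ V) ≤ Nat.card ↥(V ⊓ centralizer (A : Set G)) :=
      Subgroup.card_le_of_le fun v hv => Subgroup.mem_inf.2 ⟨(Subgroup.mem_inf.1 hv).2,
        mem_centralizer_iff.2 fun a ha => adm_comm hA.2.1 ha (Subgroup.mem_inf.1 (Subgroup.mem_inf.1 hv).1).1⟩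
    have hcount : Nat.card V * Nat.card D ≤ Nat.card A * Nat.card ↥(V ⊓ centralizer (A : Set G)) :=
      calc Nat.card V * Nat.card D = Nat.card ↥(D ⊓ V) * (Nat.card D * D.relIndex V) := by rw [← e1]; ring
        _ ≤ Nat.card ↥(V ⊓ centralizer (A : Set G)) * Nat.card ↥(D ⊔ V) := by
            rw [← e2]; exact Nat.mul_le_mul h2 (Nat.mul_le_mul_left _ h1)
        _ ≤ Nat.card ↥(V ⊓ centralizer (A : Set G)) * Nat.card A := Nat.mul_le_mul_left _ hB
        _ = Nat.card A * Nat.card ↥(V ⊓ centralizer (A : Set G)) := mul_comm _ _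
    have hcardA : Nat.card A = Nat.card D * Nat.card A₀ := by
      have h3 : K.relIndex (A.subgroupOf C₁) = Nat.card A₀ := by
        rw [hA₀, ← Subgroup.relIndex_ker, hq, QuotientGroup.ker_mk']
      have h4 : K.relIndex (A.subgroupOf C₁) = H.relIndex A := by
        rw [hK, Subgroup.relIndex_subgroupOf hAC]
      have h5 := Subgroup.relIndex_mul_relIndex ⊥ D A bot_le inf_le_left
      rw [Subgroup.relIndex_bot_left, Subgroup.relIndex_bot_left, hD, Subgroup.inf_relIndex_left,
        ← h4, h3] at h5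
      exact h5.symm
    have hoff : Nat.card V ≤ Nat.card A₀ * Nat.card (CfsgLib.Techniques.OffenderTwo.fix ψ A₀) := by
      have h6 : Nat.card (CfsgLib.Techniques.OffenderTwo.fix ψ A₀) = Nat.card ↥(V ⊓ centralizer (A : Set G)) := by
        rw [← hfixeq, Subgroup.card_map_of_injective V.subtype_injective]
      rw [h6]
      rw [hcardA] at hcount
      exact Nat.le_of_mul_le_mul_left (by linarith [hcount]) (Nat.card_pos (α := D))
    obtain ⟨t, c, ht, hc, htc⟩ := CfsgLib.Techniques.OffenderTwo.exists_inverted_three ψ hψ hV2 hab hO' A₀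
      hA₀1 hA₀2 hquad hoff
    have hc3 : c ^ 3 = 1 := by rw [← hc]; exact pow_orderOf_eq_one c
    have htc' : t ∉ zpowers c := by
      intro h
      obtain ⟨i, hi⟩ := Subgroup.mem_zpowers_iff.1 h
      have e : t * c = c * t := by rw [← hi]; exact ((Commute.refl c).zpow_left i).eq
      rw [e, mul_inv_cancel_right] at htc
      have : c ^ 2 = 1 := by rw [pow_two]; nth_rewrite 1 [htc]; exact inv_mul_cancel c
      have h7 := Nat.le_of_dvd (by norm_num) (orderOf_dvd_of_pow_eq_one this)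
      omega
    set f := CfsgLib.LocalEven.DihedralCrit.toGroup (p := 3) t c ht hc3 htc with hf
    have hfi : Function.Injective f :=
      CfsgLib.LocalEven.DihedralCrit.toGroup_injective ht hc3 htc hc htc'
    haveI : Fact (Nat.Prime 3) := ⟨Nat.prime_three⟩
    set L := f.range.comap q with hL
    set g : L →* DihedralGroup 3 :=
      (MonoidHom.ofInjective hfi).symm.toMonoidHom.comp (q.subgroupComap f.range) with hg
    have hgs : Function.Surjective g :=
      (MonoidHom.ofInjective hfi).symm.surjective.comp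
        (MonoidHom.subgroupComap_surjective_of_surjective q _ (QuotientGroup.mk'_surjective K))
    obtain ⟨x, y, hxo, hyo, hy, hxy⟩ :=
      CfsgLib.LocalEven.DihedralCrit.exists_inverted_of_surjective (p := 3) (by norm_num) g hgs g.ker le_rfl
    have hVnorm : ∀ z : G, z ∈ normalizer (V : Set G) := fun z => by
      rw [Subgroup.normalizer_eq_top]; trivial
    refine CfsgLib.LocalEven.S4Crit.involves_of_elementary hVe (x := ((x : C₁) : G)) (y := ((y : C₁) : G))
      (hVnorm _) (hVnorm _) ?_ ?_ ?_ ?_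
    · obtain ⟨k, hk⟩ := hxo; exact ⟨k, by rw [Subgroup.orderOf_coe, Subgroup.orderOf_coe, hk]⟩
    · obtain ⟨k, hk⟩ := hyo; exact ⟨k, by rw [Subgroup.orderOf_coe, Subgroup.orderOf_coe, hk]⟩
    · exact congrArg (fun z : L => ((z : C₁) : G)) hxy
    · by_contra hall
      push Not at hall
      apply hy
      have h8 : q (y : C₁) = 1 := hψ (by
        rw [map_one]
        exact MulEquiv.ext fun v => Subtype.ext ((hψq _ v).trans (hall v v.2)))
      rw [MonoidHom.mem_ker, hg]
      show (MonoidHom.ofInjective hfi).symm (q.subgroupComap f.range y) = 1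
      rw [MulEquiv.map_eq_one_iff]
      exact Subtype.ext h8
  rw [thompsonSubgroupOf_eq_jGen]
  have hJeq : jGen 2 (S : Subgroup G) = jGen 2 H := by
    obtain ⟨A₀, h0⟩ := maxAdm_nonempty 2 (S : Subgroup G)
    refine le_antisymm (sSup_le fun A hA => ?_) (sSup_le fun A hA => ?_)
    · exact le_jGen ⟨(le_jGen hA).trans hJH, hA.2.1, fun C hC hCa => hA.2.2 C (hC.trans hHS) hCa⟩
    · exact le_jGen (maxAdm_of_le hHS h0 ((le_jGen h0).trans hJH) hA)
  rw [hJeq, eq_top_iff]
  exact (Subgroup.normalizer_eq_top (H := H)).ge.trans (normalizer_le_normalizer_jGen 2 H)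

/-- Let G be a finite group that is 2-constrained and has no section isomorphic to the symmetric group of degree 4, and let S be a Sylow 2-subgroup of G of nilpotency class at most 2. Then G = N_G(J(S))·O_{2'}(G), where J(S) is the Thompson subgroup generated by the elementary abelian subgroups of S of largest order. -/
theorem result {G : Type*} [Group G] [Finite G] (hcon : Cfsg.IsPConstrained 2 G) (hS4 : ¬ Cfsg.Involves (Equiv.Perm (Fin 4)) G) (S : Sylow 2 G) (hcl : Subgroup.lowerCentralSeries (S : Subgroup G) 2 = ⊥) : Subgroup.normalizer ((Cfsg.thompsonSubgroupOf 2 (S : Subgroup G)) : Set G) ⊔ Cfsg.pPrimeCore 2 G = ⊤ := by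
  have h0 := classTwo_key (G := G ⧸ Cfsg.pPrimeCore 2 G) (fun h5 => hS4 (CfsgLib.LocalEven.Offender.involves_of_surjective _
    (QuotientGroup.mk'_surjective _) h5)) (CfsgLib.Cores.isPConstrained_iff.1 hcon)
    (S.mapSurjective (QuotientGroup.mk'_surjective _)) (by
      have hle : ∀ n, Subgroup.lowerCentralSeries ((S : Subgroup G).map (QuotientGroup.mk' (Cfsg.pPrimeCore 2 G))) n =
          (Subgroup.lowerCentralSeries (S : Subgroup G) n).map (QuotientGroup.mk' (Cfsg.pPrimeCore 2 G)) := by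
        intro n
        induction n with
        | zero => rfl
        | succ n ih => rw [Subgroup.lowerCentralSeries_succ, Subgroup.lowerCentralSeries_succ, ih, Subgroup.map_commutator]
      rw [Sylow.coe_mapSurjective, hle, hcl, Subgroup.map_bot])
  rw [eq_top_iff]
  intro g _
  have hinj : Set.InjOn (QuotientGroup.mk' (Cfsg.pPrimeCore 2 G)) ((S : Subgroup G) : Set G) := by
    intro x hx y hy hxy
    have h1 : x⁻¹ * y ∈ Cfsg.pPrimeCore 2 G := QuotientGroup.eq.1 hxy
    have h2 := CfsgLib.LocalEven.eq_one_of_pow_eq_one_of_pGroup S.2 (mul_mem (inv_mem hx) hy)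
      ((CfsgLib.Cores.coprime_card_pPrimeCore 2).coprime_dvd_left (Subgroup.orderOf_dvd_natCard _ h1)) (pow_orderOf_eq_one _)
    exact inv_mul_eq_one.1 h2
  rw [Sylow.coe_mapSurjective, ← CfsgLib.Transfer.thompsonSubgroupOf_map _ hinj] at h0
  have h1 := CfsgLib.PStab.normalizer_map_le (p := 2) (N := Cfsg.pPrimeCore 2 G) (CfsgLib.Cores.coprime_card_pPrimeCore 2)
    (W := Cfsg.thompsonSubgroupOf 2 (S : Subgroup G)) (S.2.to_le (Subgroup.map_subtype_le _))
    (show QuotientGroup.mk' (Cfsg.pPrimeCore 2 G) g ∈ _ by rw [h0]; trivial)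
  obtain ⟨n, hn, hng⟩ := h1
  have h2 : n⁻¹ * g ∈ Cfsg.pPrimeCore 2 G := QuotientGroup.eq.1 hng
  simpa using mul_mem (Subgroup.mem_sup_left (T := Cfsg.pPrimeCore 2 G) hn) (Subgroup.mem_sup_right h2)

end Cfsg.Agent.S1932
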