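import Cfsg.Statements.S1935
import Cfsg.Agent.Lib.FModule.NormalOffender

set_option autoImplicit false
set_option linter.style.haveILetI false
open Cfsg CfsgLib.FModule
open CfsgLib.LocalEven.MinOffender (fx)
open scoped IsMulCommutative commutatorElement

namespace Cfsg.Agent.S1935

/-- Let p ≥ 5 be a prime and, inside an ambient finite group, let G be a p-subgroup acting faithfully by conjugation on an elementary abelian p-subgroup V that it normalizes (only the identity of G centralizes V). Suppose V is an F-module for G: some nontrivial elementary abelian subgroup E of G satisfies #E · #C_V(E) ≥ #V. Then G contains such an offender A that moreover acts quadratically on V ([V, A, A] = 1) and is normal in its normal closure in G. -/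
theorem result {Ω : Type*} [Group Ω] [Finite Ω] (p : ℕ) [Fact p.Prime] (hp : 5 ≤ p) (V G : Subgroup Ω) (hV : Cfsg.IsElementaryAbelian p V) (hG : IsPGroup p ↥G) (hGV : G ≤ Subgroup.normalizer (V : Set Ω)) (hfaith : G ⊓ Subgroup.centralizer (V : Set Ω) = ⊥) (hF : ∃ E : Subgroup Ω, E ≤ G ∧ E ≠ ⊥ ∧ Cfsg.IsElementaryAbelian p E ∧ Nat.card ↥V ≤ Nat.card ↥E * Nat.card ↥(V ⊓ Subgroup.centralizer (E : Set Ω))) : ∃ A : Subgroup Ω, A ≤ G ∧ A ≠ ⊥ ∧ Cfsg.IsElementaryAbelian p A ∧ Nat.card ↥V ≤ Nat.card ↥A * Nat.card ↥(V ⊓ Subgroup.centralizer (A : Set Ω)) ∧ ⁅⁅V, A⁆, A⁆ = ⊥ ∧ ∀ g ∈ Subgroup.closure {x : Ω | ∃ h ∈ G, ∃ a ∈ A, x = h * a * h⁻¹}, ∀ a ∈ A, g * a * g⁻¹ ∈ A := by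
  classical
  haveI : IsMulCommutative V := hV.1
  have hn : ∀ (g : ↥G) (v : ↥V), (g : Ω) * v * (g : Ω)⁻¹ ∈ V := fun g v =>
    (Subgroup.mem_normalizer_iff.1 (hGV g.2) _).1 v.2
  letI : DistribMulAction ↥G (Additive ↥V) :=
    { smul := fun g v => Additive.ofMul ⟨(g : Ω) * v.toMul * (g : Ω)⁻¹, hn g v.toMul⟩
      one_smul := fun v => Additive.toMul.injective (Subtype.ext (by
        show ((1 : ↥G) : Ω) * v.toMul * ((1 : ↥G) : Ω)⁻¹ = v.toMul
        simp))
      mul_smul := fun g h v => Additive.toMul.injective (Subtype.ext (by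
        show ((g * h : ↥G) : Ω) * v.toMul * ((g * h : ↥G) : Ω)⁻¹ = g * (h * v.toMul * (h : Ω)⁻¹) * (g : Ω)⁻¹
        simp [mul_assoc]))
      smul_zero := fun g => Additive.toMul.injective (Subtype.ext (by
        show (g : Ω) * ((1 : ↥V) : Ω) * (g : Ω)⁻¹ = ((1 : ↥V) : Ω)
        simp))
      smul_add := fun g v w => Additive.toMul.injective (Subtype.ext (by
        show (g : Ω) * ((v.toMul : Ω) * w.toMul) * (g : Ω)⁻¹ =
          (g * v.toMul * (g : Ω)⁻¹) * (g * w.toMul * (g : Ω)⁻¹)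
        group)) }
  have hval : ∀ (g : ↥G) (v : Additive ↥V), ((g • v).toMul : Ω) = g * v.toMul * (g : Ω)⁻¹ := fun g v => rfl
  have hfix : ∀ (g : ↥G) (v : Additive ↥V), g • v = v ↔ (g : Ω) * v.toMul = v.toMul * (g : Ω) := fun g v => by
    constructor
    · intro h
      exact mul_inv_eq_iff_eq_mul.1 (congrArg (fun x : Additive ↥V => (x.toMul : Ω)) h)
    · intro h
      exact Additive.toMul.injective (Subtype.ext (mul_inv_eq_iff_eq_mul.2 h))
  have hf : ∀ g : ↥G, (∀ m : Additive ↥V, g • m = m) → g = 1 := fun g hg => by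
    have h1 : (g : Ω) ∈ G ⊓ Subgroup.centralizer (V : Set Ω) :=
      ⟨g.2, Subgroup.mem_centralizer_iff.2 fun v hv => ((hfix g _).1 (hg (Additive.ofMul ⟨v, hv⟩))).symm⟩
    rw [hfaith] at h1
    exact Subtype.ext h1
  have hexp : ∀ m : Additive ↥V, p • m = 0 := fun m => Additive.toMul.injective (Subtype.ext (by
    rw [toMul_nsmul, SubgroupClass.coe_pow]
    exact (hV.2 _ m.toMul.2).trans rfl))
  have hcardfx : ∀ B : Subgroup ↥G,
      Nat.card ↥(fx (Additive ↥V) B) = Nat.card ↥(V ⊓ Subgroup.centralizer ((B.map G.subtype : Subgroup Ω) : Set Ω)) :=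
    fun B => Nat.card_congr
      { toFun := fun v => ⟨((v : Additive ↥V).toMul : Ω), (v : Additive ↥V).toMul.2,
          Subgroup.mem_centralizer_iff.2 (by rintro _ ⟨a, ha, rfl⟩; exact (hfix a _).1 (v.2 _ ha))⟩
        invFun := fun v => ⟨Additive.ofMul ⟨(v : Ω), v.2.1⟩, fun a ha =>
          (hfix a _).2 (Subgroup.mem_centralizer_iff.1 v.2.2 a ⟨a, ha, rfl⟩)⟩
        left_inv := fun _ => rfl
        right_inv := fun _ => rfl }
  obtain ⟨E, hEG, hEne, hEe, hEoff⟩ := hF
  have hEmap : (E.subgroupOf G).map G.subtype = E := by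
    rw [Subgroup.subgroupOf_map_subtype, inf_of_le_left hEG]
  have hE'ne : E.subgroupOf G ≠ ⊥ := fun h => hEne (by rw [← hEmap, h, Subgroup.map_bot])
  have hcardV : Nat.card (Additive ↥V) = Nat.card ↥V := Nat.card_congr Additive.toMul
  have hcard : ∀ B : Subgroup ↥G, Nat.card ↥(B.map G.subtype) = Nat.card ↥B := fun B =>
    Subgroup.card_map_of_injective G.subtype_injective
  obtain ⟨A, ⟨hAne, hq, hAoff⟩, hnorm⟩ := exists_normal_offender (M := Additive ↥V) hG hf hexp (by omega) hE'ne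
    (fun a ha b hb => Subtype.ext (congrArg (fun x : ↥E => (x : Ω)) (hEe.1.is_comm.comm ⟨(a : Ω), ha⟩ ⟨(b : Ω), hb⟩)))
    (by rwa [hcardV, hcardfx, ← hcard, hEmap])
  refine ⟨A.map G.subtype, Subgroup.map_subtype_le A, fun h => hAne ?_, ?_, ?_, ?_, ?_⟩
  · exact (Subgroup.map_eq_bot_iff_of_injective A G.subtype_injective).1 h
  · refine ⟨⟨⟨?_⟩⟩, ?_⟩
    · rintro ⟨_, a, ha, rfl⟩ ⟨_, b, hb, rfl⟩
      refine Subtype.ext (congrArg (fun x : ↥G => (x : Ω)) (nilp_injective hf ?_ : a * b = b * a))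
      rw [hq.nilp_mul ha hb, hq.nilp_mul hb ha, add_comm]
    · rintro _ ⟨a, ha, rfl⟩
      have h1 : ∀ n : ℕ, nilp (Additive ↥V) (a ^ n) = n • nilp (Additive ↥V) a := by
        intro n
        induction n with
        | zero => rw [pow_zero, zero_nsmul, nilp, map_one, sub_self]
        | succ n ih => rw [pow_succ, hq.nilp_mul (pow_mem ha n) ha, ih, succ_nsmul]
      have h2 : a ^ p = 1 := nilp_injective hf (by
        rw [h1, nsmul_end hexp, nilp, map_one, sub_self])
      rw [← map_pow, h2, map_one]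
  · rwa [← hcard, hcardV, hcardfx] at hAoff
  · rw [Subgroup.commutator_eq_bot_iff_le_centralizer, Subgroup.commutator_le]
    rintro v hv _ ⟨a, ha, rfl⟩
    rw [Subgroup.mem_centralizer_iff]
    rintro _ ⟨b, hb, rfl⟩
    let m : Additive ↥V := Additive.ofMul ⟨v, hv⟩
    have h1 : b • (m - a • m) = m - a • m := by
      have h2 : b • (a • m - m) - (a • m - m) = 0 := DFunLike.congr_fun (hq b hb a ha) m
      rw [sub_eq_zero] at h2
      rw [← neg_sub, smul_neg, h2]
    have h3 := (hfix b _).1 h1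
    have h4 : ((m - a • m).toMul : Ω) = ⁅v, (a : Ω)⁆ := by
      show ((Additive.toMul m / (a • m).toMul : ↥V) : Ω) = _
      rw [div_eq_mul_inv, Subgroup.coe_mul, Subgroup.coe_inv, hval, commutatorElement_def]
      show v * ((a : Ω) * v * (a : Ω)⁻¹)⁻¹ = _
      group
    rw [h4] at h3
    exact h3
  · intro g hg a ha
    have hle : Subgroup.closure {x : Ω | ∃ h ∈ G, ∃ a ∈ A.map G.subtype, x = h * a * h⁻¹} ≤
        Subgroup.normalizer ((A.map G.subtype : Subgroup Ω) : Set Ω) := by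
      refine (Subgroup.closure_le _).2 ?_
      rintro _ ⟨h, hh, _, ⟨c, hc, rfl⟩, rfl⟩
      exact Subgroup.le_normalizer_map G.subtype
        ⟨_, hnorm ⟨h, hh⟩ (CfsgLib.Fusion.conj_mem_conjSub hc), rfl⟩
    exact (Subgroup.mem_normalizer_iff.1 (hle hg) a).1 ha

end Cfsg.Agent.S1935
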