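import Cfsg.Statements.S1939
import Cfsg.Agent.Lib.Transfer.Fusion

set_option autoImplicit false
open Cfsg

namespace Cfsg.Agent.S1939

/-- Let S be a Sylow p-subgroup of the finite group G and a an element of S that is the only G-conjugate of a lying in S. Then every power of a has the same property: for every n, the only G-conjugate of a^n lying in S is a^n. -/
theorem result {G : Type*} [Group G] [Finite G] {p : ℕ} [Fact p.Prime] (S : Sylow p G) (a : G)
    (haS : a ∈ (S : Subgroup G)) (hwc : ∀ g : G, g * a * g⁻¹ ∈ (S : Subgroup G) → g * a * g⁻¹ = a) (n : ℕ) :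
    ∀ g : G, g * a ^ n * g⁻¹ ∈ (S : Subgroup G) → g * a ^ n * g⁻¹ = a ^ n := by
  intro g hg
  have hcen : ∀ x ∈ (S : Subgroup G), x * a = a * x := fun x hx => by
    have := hwc x ((S : Subgroup G).mul_mem ((S : Subgroup G).mul_mem hx haS) ((S : Subgroup G).inv_mem hx))
    calc x * a = (x * a * x⁻¹) * x := by group
      _ = a * x := by rw [this]
  set C := Subgroup.centralizer ({g * a ^ n * g⁻¹} : Set G) with hC
  have ha1 : a ∈ C := Subgroup.mem_centralizer_singleton_iff.2 (hcen _ hg).symm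
  have ha2 : g * a * g⁻¹ ∈ C := Subgroup.mem_centralizer_singleton_iff.2 (by
    calc g * a * g⁻¹ * (g * a ^ n * g⁻¹) = g * (a * a ^ n) * g⁻¹ := by group
      _ = _ := by rw [(Commute.self_pow a n).eq]; group)
  have hle : IsPGroup p (Subgroup.zpowers a) := S.2.to_le (Subgroup.zpowers_le.2 haS)
  obtain ⟨R, hR⟩ := (hle.comap_subtype (K := C)).exists_le_sylow
  obtain ⟨c, hc⟩ := CfsgLib.Transfer.exists_conj_mem_sylow R
    (S := ((Subgroup.zpowers a).map (MulAut.conj g).toMonoidHom).subgroupOf C) (hle.map _).comap_subtype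
  obtain ⟨k, hk⟩ := CfsgLib.Transfer.exists_conj_mem_sylow S (R.2.map C.subtype)
  have e1 := hwc k (hk a ⟨⟨a, ha1⟩, hR (Subgroup.mem_zpowers a), rfl⟩)
  have e2 := hwc (k * c * g) (by
    have := hk _ ⟨_, hc ⟨g * a * g⁻¹, ha2⟩ ⟨a, Subgroup.mem_zpowers a, rfl⟩, rfl⟩
    simp only [Subgroup.coe_subtype, Subgroup.coe_mul, Subgroup.coe_inv] at this
    convert this using 1; group)
  have hcg : (c : G) * g * a * ((c : G) * g)⁻¹ = a := by
    calc (c : G) * g * a * ((c : G) * g)⁻¹ = k⁻¹ * (k * c * g * a * (k * c * g)⁻¹) * k := by group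
      _ = k⁻¹ * (k * a * k⁻¹) * k := by rw [e2, e1]
      _ = a := by group
  calc g * a ^ n * g⁻¹ = (g * a ^ n * g⁻¹) * c * (c : G)⁻¹ := by group
    _ = c * g * a ^ n * (c * g)⁻¹ := by rw [← Subgroup.mem_centralizer_singleton_iff.1 c.2]; group
    _ = ((c : G) * g * a * ((c : G) * g)⁻¹) ^ n := conj_pow.symm
    _ = a ^ n := by rw [hcg]

end Cfsg.Agent.S1939
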