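import Cfsg.Statements.S1940


set_option autoImplicit false
open Cfsg

namespace Cfsg.Agent.S1940

/-- Let the finite group L act by automorphisms on the finite abelian group M, and let N be an L-invariant subgroup of M such that M/N is a p-group on which L acts trivially (every l • m lies in the coset mN). If every element of M is a product of an element of N and an element fixed by a Sylow p-subgroup T of L, then every element of M is a product of an element of N and an element fixed by all of L. -/
theorem result {L : Type*} [Group L] [Finite L] {M : Type*} [CommGroup M] [Finite M] [MulDistribMulAction L M]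
    {p : ℕ} [Fact p.Prime] (N : Subgroup M) (hN : ∀ (l : L) (m : M), m ∈ N → l • m ∈ N)
    (hquot : IsPGroup p (M ⧸ N)) (htriv : ∀ (l : L) (m : M), (l • m) * m⁻¹ ∈ N) (T : Sylow p L)
    (hT : ∀ m : M, ∃ n ∈ N, ∃ c : M, (∀ t ∈ (T : Subgroup L), t • c = c) ∧ m = n * c) :
    ∀ m : M, ∃ n ∈ N, ∃ c : M, (∀ l : L, l • c = c) ∧ m = n * c := by
  intro m
  obtain ⟨n, hn, c, hc, rfl⟩ := hT m
  classical
  set S := (T : Subgroup L)
  letI := Fintype.ofFinite (L ⧸ S)
  let f : L ⧸ S → M := fun q => Quotient.liftOn' q (fun l => l • c) fun a b hab => by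
    have h : a⁻¹ * b ∈ S := QuotientGroup.leftRel_apply.1 hab
    show a • c = b • c
    rw [show b = a * (a⁻¹ * b) by group, mul_smul, hc _ h]
  have hf : ∀ l : L, f (l : L ⧸ S) = l • c := fun l => rfl
  set C := ∏ q : L ⧸ S, f q with hC
  have hfix : ∀ l : L, l • C = C := fun l => by
    rw [hC, Finset.smul_prod']
    refine Fintype.prod_equiv (MulAction.toPerm l) _ _ fun q => ?_
    induction q using QuotientGroup.induction_on with
    | _ a => exact (mul_smul l a c).symm
  set π := QuotientGroup.mk' N
  have hπC : π C = π c ^ Nat.card (L ⧸ S) := by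
    rw [hC, map_prod, Finset.prod_congr rfl fun q _ => ?_, Finset.prod_const, Finset.card_univ,
      ← Nat.card_eq_fintype_card]
    induction q using QuotientGroup.induction_on with
    | _ a =>
      rw [hf, ← mul_inv_eq_one, ← map_inv, ← map_mul]
      exact (QuotientGroup.eq_one_iff _).2 (htriv a c)
  obtain ⟨k, hk⟩ := IsPGroup.iff_orderOf.1 hquot (π c)
  obtain ⟨j, hj⟩ := exists_pow_eq_self_of_coprime (x := π c) (n := Nat.card (L ⧸ S)) (by
    rw [hk]
    exact Nat.Coprime.pow_right k
      (((Fact.out : p.Prime).coprime_iff_not_dvd.2 T.not_dvd_index).symm))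
  refine ⟨n * c * (C ^ j)⁻¹, ?_, C ^ j, fun l => by rw [smul_pow', hfix], by group⟩
  rw [mul_assoc]
  refine N.mul_mem hn ((QuotientGroup.eq_one_iff _).1 ?_)
  show π (c * (C ^ j)⁻¹) = 1
  rw [map_mul, map_inv, map_pow, hπC, hj, mul_inv_cancel]

end Cfsg.Agent.S1940
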