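import Cfsg.Statements.S1941
import Cfsg.Agent.Lib.Cores.PConstrained

set_option autoImplicit false
open Cfsg

namespace Cfsg.Agent.S1941

/-- Let G be a finite group with no nontrivial normal subgroup of order prime to p, T a Sylow p-subgroup of G and E(G) the layer of G (the subgroup generated by its components). An automorphism of G of p-power order that fixes T and E(G) elementwise is inner. -/
theorem result {G : Type*} [Group G] [Finite G] {p : ℕ} [Fact p.Prime] (hcore : Cfsg.pPrimeCore p G = ⊥)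
    (T : Sylow p G) (α : MulAut G) (hα : ∃ j : ℕ, orderOf α = p ^ j) (hfixT : ∀ x ∈ (T : Subgroup G), α x = x)
    (hfixE : ∀ x ∈ Cfsg.layer G, α x = x) : ∃ g : G, ∀ x : G, α x = g * x * g⁻¹ := by
  classical
  set F := Cfsg.generalizedFittingSubgroup G with hFdef
  have hFn : F.Normal := CfsgLib.Cores.generalizedFittingSubgroup_normal
  have hFit : Cfsg.fittingSubgroup G = Cfsg.pCore p G := CfsgLib.Cores.fittingSubgroup_eq_pCore hcore
  have hfixF : ∀ x ∈ F, α x = x := by
    intro x hx
    have hle : F ≤ α.toMonoidHom.eqLocus (MonoidHom.id G) :=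
      sup_le (fun y hy => hfixE y hy)
        (fun y hy => hfixT y (CfsgLib.Cores.pCore_le_sylow T (hFit ▸ hy)))
    exact hle hx
  set C := Subgroup.centralizer (F : Set G) with hCdef
  have hCF : C ≤ F := CfsgLib.Cores.centralizer_generalizedFittingSubgroup_le
  have hCc : ∀ a b : C, a * b = b * a := fun a b =>
    Subtype.ext (Subgroup.mem_centralizer_iff.1 b.2 (a : G) (hCF a.2))
  letI : CommGroup ↥C := { (inferInstance : Group ↥C) with mul_comm := hCc }
  have hCp : IsPGroup p ↥C := by
    have : C ≤ Cfsg.fittingSubgroup G := by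
      haveI : C.Normal := inferInstance
      exact CfsgLib.Cores.le_fittingSubgroup CommGroup.isNilpotent
    exact (CfsgLib.Cores.isPGroup_pCore p).to_le (this.trans hFit.le)
  have he : ∀ g : G, α g * g⁻¹ ∈ C := by
    intro g
    refine Subgroup.mem_centralizer_iff.2 fun f hf => ?_
    have hf' : g⁻¹ * f * g ∈ F := by
      have := hFn.conj_mem f hf g⁻¹
      rwa [inv_inv] at this
    have h1 := hfixF _ hf'
    rw [map_mul, map_mul, map_inv, hfixF f hf] at h1
    calc f * (α g * g⁻¹) = α g * ((α g)⁻¹ * f * α g) * g⁻¹ := by group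
      _ = α g * (g⁻¹ * f * g) * g⁻¹ := by rw [h1]
      _ = α g * g⁻¹ * f := by group
  let e : G → C := fun g => ⟨α g * g⁻¹, he g⟩
  have hCn : C.Normal := inferInstance
  let c : G → C →* C := fun g =>
    { toFun := fun z => ⟨g * z * g⁻¹, hCn.conj_mem _ z.2 g⟩
      map_one' := Subtype.ext (by simp)
      map_mul' := fun a b => Subtype.ext (by simp [mul_assoc]) }
  have hcoc : ∀ h g : G, e (h * g) = e h * c h (e g) := fun h g => Subtype.ext (by
    show α (h * g) * (h * g)⁻¹ = α h * h⁻¹ * (h * (α g * g⁻¹) * h⁻¹)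
    rw [map_mul]; group)
  have hT : ∀ g : G, ∀ t ∈ (T : Subgroup G), e (g * t) = e g := fun g t ht => Subtype.ext (by
    show α (g * t) * (g * t)⁻¹ = α g * g⁻¹
    rw [map_mul, hfixT t ht]; group)
  letI := Fintype.ofFinite (G ⧸ (T : Subgroup G))
  set n := Fintype.card (G ⧸ (T : Subgroup G)) with hn
  have hcop : p.Coprime n := by
    rw [hn, ← Nat.card_eq_fintype_card, ← Subgroup.index_eq_card]
    exact (Fact.out : p.Prime).coprime_iff_not_dvd.2 T.not_dvd_index
  set z : C := ∏ q : G ⧸ (T : Subgroup G), e q.out with hz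
  have hsum : ∀ h : G, e h ^ n * c h z = z := by
    intro h
    have h2 : ∀ q : G ⧸ (T : Subgroup G), e (h • q).out = e h * c h (e q.out) := by
      intro q
      rw [← hcoc]
      obtain ⟨t, ht⟩ := QuotientGroup.mk_out_eq_mul (T : Subgroup G) (h * q.out)
      have hq : ((h * q.out : G) : G ⧸ (T : Subgroup G)) = h • q := by
        conv_rhs => rw [← QuotientGroup.out_eq' q]
        rfl
      rw [← hq, ht, hT _ _ t.2]
    have h1 : z = ∏ q : G ⧸ (T : Subgroup G), e h * c h (e q.out) := by
      simp only [← h2]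
      rw [hz]
      exact (Equiv.prod_comp (MulAction.toPerm h) fun q : G ⧸ (T : Subgroup G) => e q.out).symm
    conv_rhs => rw [h1]
    rw [Finset.prod_mul_distrib, Finset.prod_const, ← map_prod, Finset.card_univ, ← hz, ← hn]
  obtain ⟨w, hw⟩ := (hCp.powEquiv hcop).surjective z
  refine ⟨(w : G), fun x => ?_⟩
  have h3 : (e x * c x w) ^ n = w ^ n := by
    rw [mul_pow, ← map_pow, show w ^ n = z from hw, hsum]
  have h4 : α x * x⁻¹ * (x * (w : G) * x⁻¹) = (w : G) :=
    congrArg Subtype.val ((hCp.powEquiv hcop).injective h3)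
  calc α x = (α x * x⁻¹ * (x * (w : G) * x⁻¹)) * x * (w : G)⁻¹ := by group
    _ = (w : G) * x * (w : G)⁻¹ := by rw [h4]

end Cfsg.Agent.S1941
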