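import Cfsg.Statements.S1944
import Cfsg.Agent.Lib.Cores.Basic
import Cfsg.Agent.Lib.LocalEven.SubnormalSylow

set_option autoImplicit false
open Cfsg

namespace Cfsg.Agent.S1944

/-- Let S be a Sylow p-subgroup of the finite group G and suppose that the centre Z(S) lies in O_{p',p}(G). The elements of S each of which is its only G-conjugate in S form a subgroup W of Z(S); W is then a direct factor of Z(S): there is a subgroup K of Z(S) with W ∩ K = 1 and WK = Z(S). -/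
theorem result {G : Type*} [Group G] [Finite G] {p : ℕ} [Fact p.Prime] (S : Sylow p G)
    (hZ : ((S : Subgroup G) ⊓ Subgroup.centralizer ((S : Subgroup G) : Set G)) ≤ Cfsg.pPrimePCore p G) :
    ∃ W K : Subgroup G, (∀ x : G, x ∈ W ↔ (x ∈ (S : Subgroup G) ∧ ∀ g : G, g * x * g⁻¹ ∈ (S : Subgroup G) → g * x * g⁻¹ = x)) ∧
      K ≤ ((S : Subgroup G) ⊓ Subgroup.centralizer ((S : Subgroup G) : Set G)) ∧ W ⊓ K = ⊥ ∧ W ⊔ K = ((S : Subgroup G) ⊓ Subgroup.centralizer ((S : Subgroup G) : Set G)) := by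
  classical
  set O := Cfsg.pPrimeCore p G with hOdef
  set π := QuotientGroup.mk' O with hπ
  set Sb : Subgroup (G ⧸ O) := (S : Subgroup G).map π with hSb
  set N := Cfsg.pPrimePCore p G with hNdef
  set Qb := Cfsg.pCore p (G ⧸ O) with hQb
  have hSurj : Function.Surjective π := QuotientGroup.mk'_surjective O
  let SbS : Sylow p (G ⧸ O) := S.mapSurjective hSurj
  have hQS : Qb ≤ Sb := CfsgLib.Cores.pCore_le_sylow SbS
  have hinj : ∀ s ∈ (S : Subgroup G), π s = 1 → s = 1 := by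
    intro s hs h
    obtain ⟨k, hk⟩ := IsPGroup.iff_orderOf.1 S.2 ⟨s, hs⟩
    rw [Subgroup.orderOf_mk] at hk
    have hd : orderOf s ∣ Nat.card O := by
      rw [← Subgroup.orderOf_mk s ((QuotientGroup.eq_one_iff s).1 h)]
      exact orderOf_dvd_natCard _
    refine orderOf_eq_one_iff.1 (Nat.eq_one_of_dvd_coprimes ?_ dvd_rfl hd)
    rw [hk]
    exact Nat.Coprime.pow_left k (CfsgLib.Cores.coprime_card_pPrimeCore p).symm
  have hinj2 : ∀ s ∈ (S : Subgroup G), ∀ t ∈ (S : Subgroup G), π s = π t → s = t := fun s hs t ht h =>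
    inv_mul_eq_one.1 (hinj _ (mul_mem (inv_mem hs) ht) (by rw [map_mul, map_inv, h, inv_mul_cancel]))
  set Z := (S : Subgroup G) ⊓ Subgroup.centralizer ((S : Subgroup G) : Set G) with hZdef
  have hZQ : ∀ z ∈ Z, π z ∈ Qb := fun z hz => hZ hz
  -- key property
  set P : G → Prop := fun x => x ∈ (S : Subgroup G) ∧
    ∀ g : G, g * x * g⁻¹ ∈ (S : Subgroup G) → g * x * g⁻¹ = x with hP
  haveI : N.Normal := by rw [hNdef, Cfsg.pPrimePCore]; infer_instance
  obtain ⟨Q, hQ⟩ := CfsgLib.LocalEven.exists_sylow_eq_inf_of_isSubnormal S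
    (Subgroup.Normal.isSubnormal ‹N.Normal›)
  have hfrat := Sylow.normalizer_sup_eq_top (P := Q)
  have hQ' : (Q : Subgroup ↥N).map N.subtype = (S : Subgroup G) ⊓ N := by
    rw [hQ, Subgroup.subgroupOf_map_subtype]
  rw [hQ'] at hfrat
  have hPiff : ∀ x : G, P x ↔ x ∈ Z ∧ π x ∈ Subgroup.center (G ⧸ O) := by
    intro x
    constructor
    · rintro ⟨hxS, hxf⟩
      have hxZ : x ∈ Z := ⟨hxS, Subgroup.mem_centralizer_iff.2 fun s hs =>
        mul_inv_eq_iff_eq_mul.1 (hxf s (mul_mem (mul_mem hs hxS) (inv_mem hs)))⟩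
      refine ⟨hxZ, Subgroup.mem_center_iff.2 fun y => ?_⟩
      obtain ⟨g, rfl⟩ := hSurj y
      have hg : g ∈ ((Subgroup.normalizer (((S : Subgroup G) ⊓ N : Subgroup G) : Set G) ⊔ N : Subgroup G) : Set G) := by
        rw [hfrat]; trivial
      rw [Subgroup.mul_normal] at hg
      obtain ⟨n, hn, q, hq, rfl⟩ := hg
      have hxN : x ∈ (S : Subgroup G) ⊓ N := ⟨hxS, hZQ x hxZ⟩
      have hnx : n * x * n⁻¹ = x := hxf n ((Subgroup.mem_normalizer_iff.1 hn x).1 hxN).1
      have hc1 : π n * π x = π x * π n := by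
        rw [← map_mul, ← map_mul, mul_inv_eq_iff_eq_mul.1 hnx]
      obtain ⟨s, hs, hsq⟩ := hQS (show π q ∈ Qb from hq)
      have hc2 : π q * π x = π x * π q := by
        rw [← hsq, ← map_mul, ← map_mul, Subgroup.mem_centralizer_iff.1 hxZ.2 s hs]
      rw [map_mul, mul_assoc, hc2, ← mul_assoc, hc1, mul_assoc]
    · rintro ⟨hxZ, hxc⟩
      refine ⟨hxZ.1, fun g hg => hinj2 _ hg _ hxZ.1 ?_⟩
      rw [map_mul, map_mul, map_inv, Subgroup.mem_center_iff.1 hxc (π g), mul_inv_cancel_right]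
  let W : Subgroup G := Z ⊓ (Subgroup.center (G ⧸ O)).comap π
  have hWiff : ∀ x, x ∈ W ↔ P x := fun x => (hPiff x).symm
  -- the abelian normal subgroup receiving the transfer
  set A := Qb ⊓ Subgroup.centralizer (Qb : Set (G ⧸ O)) with hA
  have hAn : A.Normal := by
    haveI : Qb.Normal := by
      haveI := CfsgLib.Cores.pCore_characteristic (G := G ⧸ O) p
      rw [hQb]; infer_instance
    rw [hA]; infer_instance
  have hAc : ∀ a b : A, a * b = b * a := fun a b =>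
    Subtype.ext (Subgroup.mem_centralizer_iff.1 b.2.2 (a : G ⧸ O) a.2.1)
  letI : CommGroup ↥A := { (inferInstance : Group ↥A) with mul_comm := hAc }
  have hZA : ∀ z ∈ Z, π z ∈ A := fun z hz => ⟨hZQ z hz, Subgroup.mem_centralizer_iff.2 fun y hy => by
    obtain ⟨s, hs, rfl⟩ := hQS hy
    rw [← map_mul, ← map_mul, Subgroup.mem_centralizer_iff.1 hz.2 s hs]⟩
  let ι : Z →* A := (π.comp Z.subtype).codRestrict A fun z => hZA z z.2
  let c : (G ⧸ O) → A →* A := fun g =>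
    { toFun := fun z => ⟨g * z * g⁻¹, hAn.conj_mem _ z.2 g⟩
      map_one' := Subtype.ext (by simp)
      map_mul' := fun a b => Subtype.ext (by simp [mul_assoc]) }
  letI := Fintype.ofFinite ((G ⧸ O) ⧸ Sb)
  set n := Fintype.card ((G ⧸ O) ⧸ Sb) with hn
  have hcop : p.Coprime n := by
    rw [hn, ← Nat.card_eq_fintype_card, ← Subgroup.index_eq_card]
    exact (Fact.out : p.Prime).coprime_iff_not_dvd.2 SbS.not_dvd_index
  let τ : Z →* A :=
    { toFun := fun z => ∏ q : (G ⧸ O) ⧸ Sb, c q.out (ι z)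
      map_one' := by simp
      map_mul' := fun a b => by simp [Finset.prod_mul_distrib] }
  have hτc : ∀ z : Z, (τ z : G ⧸ O) ∈ Subgroup.center (G ⧸ O) := by
    intro z
    refine Subgroup.mem_center_iff.2 fun h => ?_
    have h1 : ∀ q : (G ⧸ O) ⧸ Sb, c h (c q.out (ι z)) = c (h • q).out (ι z) := by
      intro q
      obtain ⟨t, ht⟩ := QuotientGroup.mk_out_eq_mul Sb (h * q.out)
      have hq : ((h * q.out : G ⧸ O) : (G ⧸ O) ⧸ Sb) = h • q := by
        conv_rhs => rw [← QuotientGroup.out_eq' q]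
        rfl
      obtain ⟨s, hs, hst⟩ := t.2
      have htc : (t : G ⧸ O) * π (z : G) = π (z : G) * (t : G ⧸ O) := by
        rw [← hst, ← map_mul, ← map_mul, Subgroup.mem_centralizer_iff.1 z.2.2 s hs]
      apply Subtype.ext
      show h * (q.out * π (z : G) * q.out⁻¹) * h⁻¹ = (h • q).out * π (z : G) * (h • q).out⁻¹
      rw [← hq, ht]
      calc h * (q.out * π (z : G) * q.out⁻¹) * h⁻¹
          = h * q.out * (π (z : G) * (t : G ⧸ O) * (t : G ⧸ O)⁻¹) * (h * q.out)⁻¹ := by group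
        _ = h * q.out * ((t : G ⧸ O) * π (z : G) * (t : G ⧸ O)⁻¹) * (h * q.out)⁻¹ := by rw [htc]
        _ = h * q.out * (t : G ⧸ O) * π (z : G) * (h * q.out * (t : G ⧸ O))⁻¹ := by group
    have h2 : c h (τ z) = τ z := by
      show c h (∏ q : (G ⧸ O) ⧸ Sb, c q.out (ι z)) = ∏ q : (G ⧸ O) ⧸ Sb, c q.out (ι z)
      rw [map_prod]
      simp only [h1]
      exact Equiv.prod_comp (MulAction.toPerm h) fun q : (G ⧸ O) ⧸ Sb => c q.out (ι z)
    exact mul_inv_eq_iff_eq_mul.1 (congrArg Subtype.val h2)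
  have hτW : ∀ w : Z, (w : G) ∈ W → τ w = ι w ^ n := by
    intro w hw
    have h1 : ∀ q : (G ⧸ O) ⧸ Sb, c q.out (ι w) = ι w := fun q => Subtype.ext (by
      show q.out * π (w : G) * q.out⁻¹ = π (w : G)
      rw [Subgroup.mem_center_iff.1 hw.2 q.out, mul_inv_cancel_right])
    show ∏ q : (G ⧸ O) ⧸ Sb, c q.out (ι w) = ι w ^ n
    simp only [h1]
    rw [Finset.prod_const, Finset.card_univ]
  have hWp : IsPGroup p ↥W := S.2.to_le (inf_le_left.trans inf_le_left)
  refine ⟨W, τ.ker.map Z.subtype, hWiff, Subgroup.map_subtype_le _, ?_, ?_⟩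
  · rw [eq_bot_iff]
    rintro w ⟨hw, ⟨k, hk, rfl⟩⟩
    have h1 : ι k ^ n = 1 := by rw [← hτW k hw]; exact hk
    have h2 : (⟨(k : G), hw⟩ : W) ^ n = 1 := by
      refine Subtype.ext ?_
      show (k : G) ^ n = 1
      refine hinj _ (pow_mem k.2.1 n) ?_
      rw [map_pow]
      exact congrArg Subtype.val h1
    have h3 := (hWp.powEquiv hcop).injective (show (⟨(k : G), hw⟩ : W) ^ n = (1 : W) ^ n by
      rw [h2, one_pow])
    exact Subgroup.mem_bot.2 (congrArg Subtype.val h3)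
  · refine le_antisymm (sup_le inf_le_left (Subgroup.map_subtype_le _)) fun z hz => ?_
    obtain ⟨s, hs, hsz⟩ := hQS (show (τ ⟨z, hz⟩ : G ⧸ O) ∈ Qb from (τ ⟨z, hz⟩).2.1)
    have hsW : s ∈ W := by
      refine ⟨⟨hs, Subgroup.mem_centralizer_iff.2 fun t ht =>
        hinj2 _ (mul_mem ht hs) _ (mul_mem hs ht) ?_⟩, ?_⟩
      · rw [map_mul, map_mul, hsz, Subgroup.mem_center_iff.1 (hτc ⟨z, hz⟩) (π t)]
      · show π s ∈ Subgroup.center (G ⧸ O)
        rw [hsz]; exact hτc _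
    obtain ⟨w, hw⟩ := (hWp.powEquiv hcop).surjective ⟨s, hsW⟩
    have hwZ : (w : G) ∈ Z := w.2.1
    set k : Z := (⟨(w : G), hwZ⟩ : Z)⁻¹ * ⟨z, hz⟩ with hk
    have hkK : k ∈ τ.ker := by
      have h1 : τ ⟨z, hz⟩ = ι ⟨(w : G), hwZ⟩ ^ n := by
        refine Subtype.ext ?_
        show (τ ⟨z, hz⟩ : G ⧸ O) = π (w : G) ^ n
        rw [← hsz, ← map_pow]
        exact congrArg π (congrArg Subtype.val hw).symm
      rw [MonoidHom.mem_ker, hk, map_mul, map_inv, hτW _ w.2, h1, inv_mul_cancel]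
    have : z = (w : G) * (k : G) := by rw [hk]; simp
    rw [this]
    exact Subgroup.mul_mem_sup w.2 ⟨k, hkK, rfl⟩

end Cfsg.Agent.S1944
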