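import Cfsg.Statements.S5295
import Cfsg.Agent.Lib.Transfer.FusionGlauberman

set_option autoImplicit false
universe u
open Cfsg
open scoped commutatorElement

namespace Cfsg.Agent.S5295

/-- Let F be a saturated fusion system over a finite p-group S with p odd. Then the centre Z(F) of F is a direct factor of Z(S): there is a subgroup K of Z(S) with Z(F) ∩ K = 1 and Z(F)K = Z(S). (At the prime 2 this can fail.) -/
theorem result {Ω : Type u} [Group Ω] {S : Subgroup Ω} [Finite S] (p : ℕ) [Fact p.Prime] (hp : p ≠ 2) (hS : IsPGroup p S)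
    (F : Cfsg.FusionSystem S) (hF : F.IsSaturated p) :
    ∃ K : Subgroup Ω, K ≤ (S ⊓ Subgroup.centralizer (S : Set Ω)) ∧ F.center ⊓ K = ⊥ ∧ F.center ⊔ K = (S ⊓ Subgroup.centralizer (S : Set Ω)) := by
  classical
  obtain ⟨J, hJdef⟩ : ∃ J, J = Cfsg.thompsonSubgroupAOf S := ⟨_, rfl⟩
  have hJj : J = CfsgLib.PStab.jGen 0 S := hJdef.trans (CfsgLib.PStab.thompsonSubgroupAOf_eq_jGen S)
  have hJS : J ≤ S := hJj ▸ CfsgLib.PStab.jGen_le 0 S
  have := CfsgLib.Fusion.finite_of_le hJS
  have hW2 : ∀ (Q R : Type u) [Group Q] [Group R] [Finite Q], IsPGroup p Q → ∀ φ : Q ≃* R,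
      (thompsonSubgroupA Q).map φ.toMonoidHom = thompsonSubgroupA R :=
    fun Q R _ _ _ _ φ => CfsgLib.Transfer.thompsonSubgroupA_map Q R φ
  have hWn : S ≤ Subgroup.normalizer (J : Set Ω) := hJdef ▸ fun s hs =>
    (CfsgLib.Fusion.le_normalizerIn_wImg (fun Q _ => thompsonSubgroupA Q) hW2 hS hs).2
  set ZS := S ⊓ Subgroup.centralizer (S : Set Ω) with hZS
  -- central elements of `S` lie in the centre of `J`
  have hmemJ : ∀ x ∈ ZS, x ∈ J := by
    rintro x ⟨hxS, hxc⟩
    let T : Subgroup S := ⊤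
    obtain ⟨A, hA⟩ := CfsgLib.PStab.maxAdm_nonempty 0 T
    set B := Subgroup.closure (insert (⟨x, hxS⟩ : S) (A : Set S)) with hB
    have hcm : IsMulCommutative B := Subgroup.isMulCommutative_closure (by
      rintro u (rfl | hu) v (rfl | hv)
      · rfl
      · exact (Subtype.ext (hxc v v.2)).symm
      · exact Subtype.ext (hxc u u.2)
      · exact CfsgLib.PStab.adm_comm hA.2.1 hu hv)
    have hAB : A ≤ B := fun a ha => Subgroup.subset_closure (Set.mem_insert_of_mem _ ha)
    have h1 : (⟨x, hxS⟩ : S) ∈ A := by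
      rw [Subgroup.eq_of_le_of_card_ge hAB (hA.2.2 B le_top ⟨hcm, fun b _ => pow_zero b⟩)]
      exact Subgroup.subset_closure (Set.mem_insert _ _)
    rw [hJdef]
    refine ⟨⟨x, hxS⟩, ?_, rfl⟩
    rw [CfsgLib.Transfer.thompsonSubgroupA_eq]
    exact CfsgLib.PStab.le_jGen hA h1
  -- the automizer of `J` and its Sylow subgroup
  have hJn : F.IsFullyNormalized J := CfsgLib.Fusion.isFullyNormalized_of_normal hJS hWn
  set X := F.autGroup J with hX
  obtain ⟨⟨-, R, hR⟩, -⟩ := CfsgLib.Fusion.fullyAutomized_receptive_of_fullyNormalized hS hF hJn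
  let ρ : X → Subgroup.center J → Subgroup.center J := fun α z =>
    ⟨(α : MulAut J) z, by
      refine Subgroup.mem_center_iff.2 fun g => (α : MulAut J).symm.injective ?_
      rw [map_mul, map_mul, MulEquiv.symm_apply_apply]
      exact Subgroup.mem_center_iff.1 z.2 _⟩
  let _ : CommGroup (Subgroup.center J) :=
    { (inferInstance : Group (Subgroup.center J)) with
      mul_comm := fun a b => Subtype.ext (Subgroup.mem_center_iff.1 b.2 a) }
  have hρmul : ∀ (α : X) (a b : Subgroup.center J), ρ α (a * b) = ρ α a * ρ α b := fun α a b =>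
    Subtype.ext (map_mul (α : MulAut J) (a : J) (b : J))
  have hρcomp : ∀ (α β : X) (a : Subgroup.center J), ρ (α * β) a = ρ α (ρ β a) := fun α β a => rfl
  have hemb : ∀ a : ZS, (⟨(a : Ω), hmemJ a a.2⟩ : J) ∈ Subgroup.center J := fun a =>
    Subgroup.mem_center_iff.2 fun g => Subtype.ext (a.2.2 g (hJS g.2))
  let em : ZS →* Subgroup.center J :=
    { toFun := fun a => ⟨⟨(a : Ω), hmemJ a a.2⟩, hemb a⟩
      map_one' := rfl
      map_mul' := fun a b => rfl }
  have hRfix : ∀ r : X, r ∈ (R : Subgroup X) → ∀ a : ZS, ρ r (em a) = em a := by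
    intro r hr a
    rw [hR, Subgroup.mem_subgroupOf, CfsgLib.Fusion.mem_autInducedBy_iff] at hr
    obtain ⟨g, hg, hge⟩ := hr
    refine Subtype.ext (Subtype.ext ?_)
    show (((r : MulAut J) (em a : J) : J) : Ω) = a
    rw [hge]
    exact mul_inv_eq_iff_eq_mul.2 (a.2.2 g hg)
  have : Fintype (X ⧸ (R : Subgroup X)) := Fintype.ofFinite _
  let T₀ : ZS →* Subgroup.center J :=
    { toFun := fun a => ∏ q : X ⧸ (R : Subgroup X), ρ q.out (em a)
      map_one' := Finset.prod_eq_one fun q _ =>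
        Subtype.ext (map_one ((q.out : X) : MulAut J))
      map_mul' := fun a b => by
        rw [← Finset.prod_mul_distrib]
        exact Finset.prod_congr rfl fun q _ => by rw [map_mul, hρmul] }
  have hT0fix : ∀ (α : X) (a : ZS), ρ α (T₀ a) = T₀ a := by
    intro α a
    let h : Subgroup.center J →* Subgroup.center J := MonoidHom.mk' (ρ α) (hρmul α)
    show h (∏ q : X ⧸ (R : Subgroup X), ρ q.out (em a)) = ∏ q : X ⧸ (R : Subgroup X), ρ q.out (em a)
    rw [map_prod]
    refine Fintype.prod_equiv (MulAction.toPerm α) _ _ fun q => ?_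
    show ρ α (ρ q.out (em a)) = ρ (α • q).out (em a)
    induction q using QuotientGroup.induction_on with
    | _ g =>
      obtain ⟨r₁, h₁⟩ := QuotientGroup.mk_out_eq_mul (R : Subgroup X) g
      obtain ⟨r₂, h₂⟩ := QuotientGroup.mk_out_eq_mul (R : Subgroup X) (α * g)
      rw [MulAction.Quotient.smul_coe, smul_eq_mul, h₁, h₂, hρcomp g, hρcomp (α * g), hρcomp α,
        hRfix r₁ r₁.2, hRfix r₂ r₂.2]
  -- fixed elements are central in the system
  have hcenter : ∀ y : Subgroup.center J, (∀ α : X, ρ α y = y) → ((y : J) : Ω) ∈ F.center := by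
    intro y hy
    have hyS : ((y : J) : Ω) ∈ Cfsg.FusionSystem.centralizerIn S S := by
      refine ⟨hJS (y : J).2, fun s hs => ?_⟩
      let e : J ≃* J :=
        { toFun := fun x => ⟨s * x * s⁻¹, (Subgroup.mem_normalizer_iff.1 (hWn hs) x).1 x.2⟩
          invFun := fun x => ⟨s⁻¹ * x * s, by
            simpa using (Subgroup.mem_normalizer_iff.1 (inv_mem (hWn hs)) x).1 x.2⟩
          left_inv := fun x => Subtype.ext (by simp [mul_assoc])
          right_inv := fun x => Subtype.ext (by simp [mul_assoc])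
          map_mul' := fun a b => Subtype.ext (by simp [mul_assoc]) }
      have he : e ∈ X := CfsgLib.Fusion.autInducedBy_le_autGroup hJS
        (CfsgLib.Fusion.mem_autInducedBy_iff.2 ⟨s, hs, fun x => rfl⟩)
      have h1 : s * ((y : J) : Ω) * s⁻¹ = ((y : J) : Ω) :=
        congrArg (fun z : Subgroup.center J => ((z : J) : Ω)) (hy ⟨e, he⟩)
      exact mul_inv_eq_iff_eq_mul.1 h1
    refine CfsgLib.Fusion.mem_center_of_fixes hS hF hyS ?_
    have := CfsgLib.Transfer.fixes_pow F hS hF 1 (Or.inr ⟨rfl, Or.inl hp⟩) hyS ?_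
    · rwa [pow_one] at this
    intro P φ hφ x hx
    rw [pow_one] at hx ⊢
    rw [← hJdef] at hφ
    obtain ⟨-, -, -, ψ, hψ, hψe, hψJ⟩ := hφ
    set ψJ := ψ.comp (Subgroup.inclusion (le_sup_right : J ≤ P ⊔ J)) with hψJdef
    have hψJm : ψJ ∈ F.Hom J := CfsgLib.Fusion.res_mem F hψ le_sup_right
    have hr : ψJ.range = J := by
      conv_rhs => rw [← hψJ]
      ext w
      constructor
      · rintro ⟨v, rfl⟩
        exact ⟨Subgroup.inclusion le_sup_right v, v.2, rfl⟩
      · rintro ⟨v, hv, rfl⟩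
        exact ⟨⟨v, hv⟩, rfl⟩
    let α : MulAut J := (MonoidHom.ofInjective (F.injective_of_mem hψJm)).trans (MulEquiv.subgroupCongr hr)
    have hα : α ∈ X := CfsgLib.Fusion.mem_autGroup_of_mem F hψJm fun _ => rfl
    have h1 : ψJ (y : J) = ((y : J) : Ω) :=
      congrArg (fun z : Subgroup.center J => ((z : J) : Ω)) (hy ⟨α, hα⟩)
    rw [← hψe]
    refine Eq.trans ?_ h1
    exact congrArg ψ (Subtype.ext hx)
  have hTc : ∀ a : ZS, ((T₀ a : J) : Ω) ∈ F.center := fun a => hcenter _ fun α => hT0fix α a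
  have hCZ : ∀ c ∈ F.center, c ∈ ZS := fun c hc => (CfsgLib.Fusion.fixes_of_mem_center hc).1
  set n := Nat.card (X ⧸ (R : Subgroup X)) with hn
  have hTC : ∀ c : ZS, (c : Ω) ∈ F.center → T₀ c = em c ^ n := by
    intro c hc
    show ∏ q : X ⧸ (R : Subgroup X), ρ q.out (em c) = _
    rw [hn, Nat.card_eq_fintype_card, ← Finset.card_univ, ← Finset.prod_const]
    refine Finset.prod_congr rfl fun q _ => Subtype.ext (Subtype.ext ?_)
    exact (CfsgLib.Fusion.fixes_of_mem_center hc).2 J _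
      ((CfsgLib.Fusion.mem_autGroup_iff F hJS).1 q.out.2) (em c : J) rfl
  have hncop : n.Coprime p := by
    rw [hn, ← Subgroup.index_eq_card]
    exact ((Fact.out : p.Prime).coprime_iff_not_dvd.2 R.not_dvd_index).symm
  refine ⟨T₀.ker.map ZS.subtype, Subgroup.map_subtype_le _, ?_, ?_⟩
  · rw [eq_bot_iff]
    rintro _ ⟨hc, c, hcK, rfl⟩
    have h1 : em c ^ n = 1 := (hTC c hc).symm.trans hcK
    have h2 : (c : Ω) ^ n = 1 := congrArg (fun z : Subgroup.center J => ((z : J) : Ω)) h1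
    obtain ⟨e, he⟩ := hS ⟨c, c.2.1⟩
    have h3 : (c : Ω) ^ p ^ e = 1 := congrArg Subtype.val he
    have h4 := pow_gcd_eq_one.2 ⟨h2, h3⟩
    rw [(hncop.pow_right e).gcd_eq_one, pow_one] at h4
    exact Subgroup.mem_bot.2 h4
  · refine le_antisymm (sup_le hCZ (Subgroup.map_subtype_le _)) fun a ha => ?_
    let t : ZS := ⟨((T₀ ⟨a, ha⟩ : J) : Ω), hCZ _ (hTc ⟨a, ha⟩)⟩
    obtain ⟨e, he⟩ := hS ⟨t, t.2.1⟩
    have h3 : t ^ p ^ e = 1 := Subtype.ext (by simpa using congrArg Subtype.val he)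
    obtain ⟨i, hi⟩ := exists_pow_eq_self_of_coprime (x := t) (n := n)
      ((hncop.pow_right e).of_dvd_right (orderOf_dvd_of_pow_eq_one h3))
    -- `c` is the component in the centre
    set c : ZS := t ^ i with hc
    have hcn : c ^ n = t := by rw [hc, ← pow_mul, mul_comm, pow_mul]; exact hi
    have hcC : (c : Ω) ∈ F.center := pow_mem (hTc ⟨a, ha⟩) i
    have hker : c⁻¹ * ⟨a, ha⟩ ∈ T₀.ker := by
      rw [MonoidHom.mem_ker, map_mul, map_inv, hTC c hcC, inv_mul_eq_one, ← map_pow, hcn]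
      exact Subtype.ext (Subtype.ext rfl)
    have h5 : (c : Ω) * ((c : Ω)⁻¹ * a) ∈ F.center ⊔ T₀.ker.map ZS.subtype :=
      mul_mem (Subgroup.mem_sup_left hcC) (Subgroup.mem_sup_right ⟨_, hker, rfl⟩)
    simpa using h5

end Cfsg.Agent.S5295
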