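import Cfsg.Statements.S1945
import Cfsg.Agent.S5295
import Cfsg.Agent.S1944
import Cfsg.Agent.Lib.Solvable.Fitting
import Cfsg.Agent.Lib.Fusion.GroupSystem

set_option autoImplicit false
open Cfsg

namespace Cfsg.Agent.S1945

/-- Let S be a Sylow p-subgroup of the finite group G, and assume that p is odd or that G is solvable. The elements of S each of which is its only G-conjugate in S form a subgroup W of Z(S); W is then a direct factor of Z(S): there is a subgroup K of Z(S) with W ∩ K = 1 and WK = Z(S). (For p = 2 and G not solvable this can fail.) -/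
theorem result {G : Type*} [Group G] [Finite G] {p : ℕ} [Fact p.Prime] (S : Sylow p G) (h : p ≠ 2 ∨ Group.IsSolvable G) :
    ∃ W K : Subgroup G, (∀ x : G, x ∈ W ↔ (x ∈ (S : Subgroup G) ∧ ∀ g : G, g * x * g⁻¹ ∈ (S : Subgroup G) → g * x * g⁻¹ = x)) ∧
      K ≤ ((S : Subgroup G) ⊓ Subgroup.centralizer ((S : Subgroup G) : Set G)) ∧ W ⊓ K = ⊥ ∧ W ⊔ K = ((S : Subgroup G) ⊓ Subgroup.centralizer ((S : Subgroup G) : Set G)) := by
  rcases h with hp | hsol
  · obtain ⟨K, hK, hinf, hsup⟩ := Cfsg.Agent.S5295.result p hp S.2 (Cfsg.groupFusionSystem (S : Subgroup G))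
      (CfsgLib.Fusion.isSaturated_groupFusion S)
    refine ⟨(Cfsg.groupFusionSystem (S : Subgroup G)).center, K, fun x => ⟨fun hx => ?_, fun hx => ?_⟩,
      hK, hinf, hsup⟩
    · obtain ⟨hxC, hfix⟩ := CfsgLib.Fusion.fixes_of_mem_center hx
      refine ⟨hxC.1, fun g hg => ?_⟩
      let φ : ↥(Subgroup.zpowers x) →* G :=
        Cfsg.conjHom (Subgroup.zpowers x) g
      refine hfix (Subgroup.zpowers x) φ ⟨Subgroup.zpowers_le.2 hxC.1, fun y => ?_, g, fun y => rfl⟩
        ⟨x, Subgroup.mem_zpowers x⟩ rfl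
      obtain ⟨k, hk⟩ := Subgroup.mem_zpowers_iff.1 y.2
      show g * (y : G) * g⁻¹ ∈ (S : Subgroup G)
      rw [← hk, ← conj_zpow]
      exact zpow_mem hg k
    · refine CfsgLib.Fusion.mem_center_of_fixes S.2 (CfsgLib.Fusion.isSaturated_groupFusion S)
        ⟨hx.1, Subgroup.mem_centralizer_iff.2 fun s hs =>
          mul_inv_eq_iff_eq_mul.1 (hx.2 s (mul_mem (mul_mem hs hx.1) (inv_mem hs)))⟩ ?_
      rintro P φ ⟨-, hφS, g, hg⟩ y hy
      have h1 := hg y
      rw [hy] at h1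
      rw [h1]
      exact hx.2 g (h1 ▸ hφS y)
  · refine Cfsg.Agent.S1944.result S fun z hz => ?_
    show QuotientGroup.mk' (Cfsg.pPrimeCore p G) z ∈ Cfsg.pCore p (G ⧸ Cfsg.pPrimeCore p G)
    refine CfsgLib.Solvable.centralizer_pCore_le p (CfsgLib.Cores.pPrimeCore_quotient_self p) ?_
    refine Subgroup.mem_centralizer_iff.2 fun y hy => ?_
    obtain ⟨s, hs, hsy⟩ := CfsgLib.Cores.pCore_le_sylow
      (S.mapSurjective (QuotientGroup.mk'_surjective (Cfsg.pPrimeCore p G))) hy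
    rw [← hsy, ← map_mul, ← map_mul, Subgroup.mem_centralizer_iff.1 hz.2 s hs]

end Cfsg.Agent.S1945
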