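import Cfsg.Statements.S1946
import Cfsg.Agent.Lib.Techniques.SmallCritical

set_option autoImplicit false
open Cfsg

namespace Cfsg.Agent.S1946

open Subgroup CfsgLib.Techniques.SmallCritical
open scoped commutatorElement

/-- Let P be a Sylow p-subgroup of the finite group G. Then G has a normal p-complement if and only if P controls the fusion of its elements of order dividing p (dividing 4 when p = 2): whenever such an element a of P has a G-conjugate g a g⁻¹ in P, that conjugate is already x a x⁻¹ for some x in P. -/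
theorem result {G : Type*} [Group G] [Finite G] {p : ℕ} [Fact p.Prime] (P : Sylow p G) :
    Cfsg.HasNormalPComplement p G ↔
      ∀ a ∈ (P : Subgroup G), (a ^ p = 1 ∨ (p = 2 ∧ a ^ 4 = 1)) → ∀ g : G, g * a * g⁻¹ ∈ (P : Subgroup G) →
        ∃ x ∈ (P : Subgroup G), g * a * g⁻¹ = x * a * x⁻¹ := by
  constructor
  · intro h a ha _ g hg
    obtain ⟨P', N, hN, hcomp⟩ := h
    haveI := hN
    obtain ⟨c, hc⟩ := MulAction.exists_smul_eq G P' P
    have hNP : ∀ z ∈ N, z ∈ (P : Subgroup G) → z = 1 := by
      intro z hzN hzP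
      rw [← hc, Sylow.coe_subgroup_smul] at hzP
      obtain ⟨w, hw, hwz⟩ := hzP
      have hwN : w ∈ N := by
        have h2 := hN.conj_mem z hzN c⁻¹
        rw [← hwz] at h2
        simpa [mul_assoc] using h2
      rw [← hwz, show w = 1 from mem_bot.1 (hcomp.disjoint.le_bot ⟨hwN, hw⟩)]
      simp
    have hsup : N ⊔ (P : Subgroup G) = ⊤ := by
      rw [eq_top_iff, ← hcomp.sup_eq_top]
      refine sup_le le_sup_left fun w hw => ?_
      obtain ⟨n, hn, x, hx, hnx⟩ := mem_sup_of_normal_left.1 (show c ∈ N ⊔ (P' : Subgroup G) from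
        hcomp.sup_eq_top.ge (mem_top c))
      have key : ∀ v ∈ (P' : Subgroup G), v ∈ N ⊔ (P : Subgroup G) := by
        intro v hv
        have h5 : c * (x⁻¹ * v * x) * c⁻¹ ∈ (P : Subgroup G) := by
          rw [← hc, Sylow.coe_subgroup_smul]
          exact ⟨_, mul_mem (mul_mem (inv_mem hx) hv) hx, rfl⟩
        have h6 : v = n⁻¹ * (c * (x⁻¹ * v * x) * c⁻¹) * n := by rw [← hnx]; group
        rw [h6]
        exact mul_mem (mul_mem (mem_sup_left (inv_mem hn)) (mem_sup_right h5)) (mem_sup_left hn)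
      exact key w hw
    obtain ⟨x, hx, k, hk, rfl⟩ := mem_sup_of_normal_right.1 (sup_comm N (P : Subgroup G) ▸ hsup.ge (mem_top g))
    refine ⟨x, hx, ?_⟩
    have h1 : k * a * k⁻¹ ∈ (P : Subgroup G) := by
      have h2 := mul_mem (mul_mem (inv_mem hx) hg) hx
      rwa [show x⁻¹ * (x * k * a * (x * k)⁻¹) * x = k * a * k⁻¹ by group] at h2
    have h3 : k * a * k⁻¹ * a⁻¹ = 1 := hNP _ (by
      rw [show k * a * k⁻¹ * a⁻¹ = k * (a * k⁻¹ * a⁻¹) by group]
      exact mul_mem hk (hN.conj_mem _ (inv_mem hk) a)) (mul_mem h1 (inv_mem ha))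
    calc x * k * a * (x * k)⁻¹ = x * (k * a * k⁻¹ * a⁻¹) * a * x⁻¹ := by group
      _ = x * a * x⁻¹ := by rw [h3, mul_one]
  · intro h
    refine CfsgLib.Transfer.hasNormalPComplement_of_frobeniusCond fun Q hQ g hg hgo => ?_
    obtain ⟨T, hT⟩ := hQ.exists_le_sylow
    obtain ⟨u, hu⟩ := MulAction.exists_smul_eq G T P
    set R := Q.map (MulAut.conj u).toMonoidHom with hR
    have hRP : R ≤ (P : Subgroup G) := by
      rw [← hu, Sylow.coe_subgroup_smul]; exact map_mono hT
    have hgR : u * g * u⁻¹ ∈ normalizer (R : Set G) := le_normalizer_map _ (mem_map_of_mem _ hg)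
    haveI := P.2.isNilpotent
    obtain ⟨n, hn⟩ := (isNilpotent_iff_lowerCentralSeries _).1 (inferInstance : Group.IsNilpotent (P : Subgroup G))
    have hC := centralizes_of_series (hQ.map _) hgR (by
      rw [show u * g * u⁻¹ = (MulAut.conj u).toMonoidHom g from rfl,
        orderOf_injective _ (MulAut.conj u).injective]; exact hgo)
      (fun i => Subgroup.lowerCentralSeries (P : Subgroup G) (n - i)) n
      (by simp only [Nat.sub_zero, hn, inf_bot_eq, le_refl])
      (fun d hd _ => by simp only [Nat.sub_self]; exact hRP hd)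
      (fun i hi d hd hdp hdC => by
        have hconj : u * g * u⁻¹ * d * (u * g * u⁻¹)⁻¹ ∈ (P : Subgroup G) :=
          hRP ((mem_normalizer_iff.1 hgR d).1 hd)
        obtain ⟨x, hx, hxd⟩ := h d (hRP hd) (small_of_pow hdp) _ hconj
        rw [hxd, show d⁻¹ * (x * d * x⁻¹) = ⁅d⁻¹, x⁆ by rw [commutatorElement_def, inv_inv]; group]
        have e : n - i = (n - (i + 1)) + 1 := by omega
        show _ ∈ Subgroup.lowerCentralSeries (P : Subgroup G) (n - i)
        rw [e]
        exact commutator_mem_commutator (inv_mem hdC) hx)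
    refine mem_centralizer_iff.2 fun q hq => ?_
    have h1 := mem_centralizer_iff.1 hC _ (mem_map_of_mem (MulAut.conj u).toMonoidHom hq)
    exact (MulAut.conj u).injective (by rw [map_mul, map_mul]; exact h1)

end Cfsg.Agent.S1946
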