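import Cfsg.Statements.S1947
import Cfsg.Agent.Lib.Techniques.SmallCritical

set_option autoImplicit false
open Cfsg

namespace Cfsg.Agent.S1947

open Subgroup CfsgLib.Techniques.SmallCritical
open scoped commutatorElement

/-- Let G be a finite group and p a prime. If every element of G of order dividing p (dividing 4 when p = 2) lies in some fixed term Z_n(G) of the upper central series, then G has a normal p-complement. -/
theorem result {G : Type*} [Group G] [Finite G] {p : ℕ} [Fact p.Prime] (n : ℕ)
    (h : ∀ a : G, (a ^ p = 1 ∨ (p = 2 ∧ a ^ 4 = 1)) → a ∈ Subgroup.upperCentralSeries G n) : Cfsg.HasNormalPComplement p G := by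
  refine CfsgLib.Transfer.hasNormalPComplement_of_frobeniusCond fun Q hQ g hg hgo => ?_
  exact centralizes_of_series hQ hg hgo (Subgroup.upperCentralSeries G) n
    (by rw [Subgroup.upperCentralSeries_zero, inf_bot_eq])
    (fun d _ hdp => h d (small_of_pow hdp))
    (fun i _ d _ _ hdC => by
      have h1 := Subgroup.mem_upperCentralSeries_succ_iff.1 (inv_mem hdC) g
      rwa [commutatorElement_def, inv_inv, show d⁻¹ * g * d * g⁻¹ = d⁻¹ * (g * d * g⁻¹) by group] at h1)

end Cfsg.Agent.S1947
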