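import Cfsg.Statements.S1948
import Cfsg.Agent.Lib.Techniques.Functor.SectionTransfer
import Cfsg.Agent.Lib.Cores.PConstrained

set_option autoImplicit false
open Cfsg

namespace Cfsg.Agent.S1948

open Subgroup CfsgLib.Techniques.Functor

/-- Let S be a Sylow p-subgroup of the finite group G. Then G = N_G(S)·O_{p'}(G) if and only if G is p-constrained and N_G(S) controls fusion in S, in the sense that whenever a subgroup Q of S has a conjugate g Q g⁻¹ inside S, the element g is a product n c with n normalizing S and c centralizing Q. -/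
theorem result {G : Type*} [Group G] [Finite G] {p : ℕ} [Fact p.Prime] (S : Sylow p G) :
    Subgroup.normalizer ((S : Subgroup G) : Set G) ⊔ Cfsg.pPrimeCore p G = ⊤ ↔
      (Cfsg.IsPConstrained p G ∧
        ∀ Q : Subgroup G, Q ≤ (S : Subgroup G) → ∀ g : G, Q.map (MulAut.conj g).toMonoidHom ≤ (S : Subgroup G) →
          ∃ n ∈ Subgroup.normalizer ((S : Subgroup G) : Set G), ∃ c ∈ Subgroup.centralizer (Q : Set G), g = n * c) := by
  have hp : p.Prime := Fact.out
  set K := pPrimeCore p G with hK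
  set π := QuotientGroup.mk' K with hπ
  have hKc : (Nat.card K).Coprime p := CfsgLib.Cores.coprime_card_pPrimeCore p
  have hπK : ∀ x, π x = 1 ↔ x ∈ K := fun x => QuotientGroup.eq_one_iff x
  have hπS : ∀ x ∈ (S : Subgroup G), x ∈ K → x = 1 := fun x hx hxK => by
    obtain ⟨e, he⟩ := S.2 ⟨x, hx⟩
    exact orderOf_eq_one_iff.1 (Nat.eq_one_of_dvd_coprimes (hKc.pow_right e)
      (Subgroup.orderOf_dvd_natCard K hxK) (orderOf_dvd_of_pow_eq_one (congrArg Subtype.val he)))
  let Sb : Sylow p (G ⧸ K) := S.mapSurjective (QuotientGroup.mk'_surjective K)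
  have hSb : (Sb : Subgroup (G ⧸ K)) = (S : Subgroup G).map π := Sylow.coe_mapSurjective _ _
  constructor
  · intro htop
    have hdec : ∀ g : G, ∃ n ∈ normalizer ((S : Subgroup G) : Set G), ∃ k ∈ K, n * k = g := fun g =>
      mem_sup_of_normal_right.1 (htop.ge (mem_top g))
    refine ⟨?_, ?_⟩
    · rw [CfsgLib.Cores.isPConstrained_iff]
      haveI hn : (Sb : Subgroup (G ⧸ K)).Normal := by
        refine ⟨fun y hy z => ?_⟩
        obtain ⟨g, rfl⟩ := QuotientGroup.mk'_surjective K z
        obtain ⟨n, hn, k, hk, rfl⟩ := hdec g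
        rw [hSb] at hy ⊢
        obtain ⟨s, hs, rfl⟩ := hy
        refine ⟨n * s * n⁻¹, (mem_normalizer_iff.1 hn s).1 hs, ?_⟩
        rw [map_mul π n k, (hπK k).2 hk, mul_one, map_mul, map_mul, map_inv]
      have hP : (Sb : Subgroup (G ⧸ K)) ≤ pCore p (G ⧸ K) := CfsgLib.Cores.le_pCore Sb.2
      obtain ⟨M, hMn, hMc, hle⟩ := exists_coprime_core Sb (inf_le_left.trans hP)
      refine hle.trans (sup_le ?_ le_rfl)
      exact (CfsgLib.Cores.le_pPrimeCore hMc).trans ((CfsgLib.Cores.pPrimeCore_quotient_self p).le.trans bot_le)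
    · intro Q hQ g hg
      obtain ⟨n, hn, k, hk, rfl⟩ := hdec g
      refine ⟨n, hn, k, mem_centralizer_iff.2 fun q hq => ?_, rfl⟩
      have h1 : n * k * q * (n * k)⁻¹ ∈ (S : Subgroup G) := hg ⟨q, hq, rfl⟩
      have h2 : k * q * k⁻¹ ∈ (S : Subgroup G) := by
        have := (mem_normalizer_iff.1 hn (k * q * k⁻¹)).2 (by
          rwa [show n * (k * q * k⁻¹) * n⁻¹ = n * k * q * (n * k)⁻¹ by group])
        exact this
      have h3 : k * q * k⁻¹ * q⁻¹ = 1 := hπS _ (mul_mem h2 (inv_mem (hQ hq))) (by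
        rw [show k * q * k⁻¹ * q⁻¹ = k * (q * k⁻¹ * q⁻¹) by group]
        exact mul_mem hk ((inferInstance : K.Normal).conj_mem _ (inv_mem hk) q))
      calc q * k = k * q * k⁻¹ * q⁻¹ * (q * k) := by rw [h3, one_mul]
        _ = k * q := by group
  · rintro ⟨hc, hfus⟩
    set L := pPrimePCore p G with hL
    haveI hLn : L.Normal := CfsgLib.Cores.pPrimePCore_normal
    obtain ⟨U, hU⟩ := CfsgLib.Transfer.exists_sylow_map_eq_inf L S
    set H0 := (U : Subgroup L).map L.subtype with hH0
    have hfr : normalizer (H0 : Set G) ⊔ L = ⊤ := Sylow.normalizer_sup_eq_top U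
    have hH0S : H0 ≤ (S : Subgroup G) := by
      intro x hx
      rw [hU] at hx
      first
        | exact (mem_inf.1 hx).1
        | exact (mem_inf.1 hx).2
    set T := normalizer ((S : Subgroup G) : Set G) ⊔ K with hT
    have hLT : L ≤ T := by
      intro y hy
      have h1 : π y ∈ pCore p (G ⧸ K) := hy
      rw [← CfsgLib.Cores.map_mk'_sylow_pPrimePCore U] at h1
      obtain ⟨h, hh, hhy⟩ := h1
      have h2 : h⁻¹ * y ∈ K := (hπK _).1 (by rw [map_mul, map_inv, hhy, inv_mul_cancel])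
      have h3 := mul_mem (mem_sup_left (T := K) (le_normalizer (hH0S hh))) (mem_sup_right h2)
      rwa [mul_inv_cancel_left] at h3
    rw [eq_top_iff, ← hfr]
    refine sup_le (fun g hg => ?_) hLT
    obtain ⟨n, hn, c, hc', rfl⟩ := hfus H0 hH0S g (by
      rintro _ ⟨x, hx, rfl⟩
      exact hH0S ((mem_normalizer_iff.1 hg x).1 hx))
    exact mul_mem (mem_sup_left hn) (hLT (hc U hc'))

end Cfsg.Agent.S1948
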