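import Cfsg.Statements.S1949
import Cfsg.Agent.Lib.Techniques.SmallCritical

set_option autoImplicit false
open Cfsg

namespace Cfsg.Agent.S1949

open CfsgLib.Techniques.SmallCritical
open scoped commutatorElement

/-- Let P be a finite p-group and G a group of automorphisms of P containing the inner automorphisms. Then there is a G-invariant subgroup D of P, contained in the subgroup generated by the elements x⁻¹α(x) with x in P and α in O^p(G), of exponent dividing p when p is odd and dividing 4 when p = 2, with [D, P] ≤ Z(D), such that every automorphism in G of order prime to p that fixes D elementwise is the identity; moreover every maximal abelian subgroup A of D is normal in P and every automorphism in G fixing A elementwise has p-power order. -/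
theorem result {P : Type*} [Group P] [Finite P] {p : ℕ} [Fact p.Prime] (hP : IsPGroup p P)
    (G : Subgroup (MulAut P)) (hG : Cfsg.Inn P ≤ G) :
    ∃ D : Subgroup P,
      (∀ α ∈ G, D.map α.toMonoidHom = D) ∧
      D ≤ Subgroup.closure {y : P | ∃ α ∈ Cfsg.pResidual p ↥G, ∃ x : P, y = x⁻¹ * (α : MulAut P) x} ∧
      (∀ d ∈ D, d ^ p = 1 ∨ (p = 2 ∧ d ^ 4 = 1)) ∧
      ⁅D, (⊤ : Subgroup P)⁆ ≤ D ⊓ Subgroup.centralizer (D : Set P) ∧
      (∀ α ∈ G, (orderOf α).Coprime p → (∀ d ∈ D, α d = d) → α = 1) ∧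
      ∀ A : Subgroup P, A ≤ D → IsMulCommutative ↥A →
        (∀ B : Subgroup P, A ≤ B → B ≤ D → IsMulCommutative ↥B → B = A) →
        A.Normal ∧ ∀ α ∈ G, (∀ a ∈ A, α a = a) → ∃ k : ℕ, orderOf α = p ^ k := by
  classical
  obtain ⟨H, hHc, hpow, hcomm, hC⟩ := CfsgLib.Transfer.exists_critical (p := p) hP
  have hHn : H.Normal := inferInstance
  set W : Subgroup P :=
    Subgroup.closure {y : P | ∃ α ∈ Cfsg.pResidual p ↥G, ∃ x : P, y = x⁻¹ * (α : MulAut P) x} with hW
  have hz : ∀ s t : H, ⁅s, t⁆ ∈ Subgroup.center H := fun s t => Subgroup.mem_center_iff.2 fun w =>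
    Subtype.ext (by
    push_cast [commutatorElement_def]
    have := (Subgroup.mem_centralizer_iff.1 (hcomm (Subgroup.commutator_mem_commutator s.2
      (Subgroup.mem_top (t : P)))).2 (w : P) w.2)
    rw [commutatorElement_def] at this
    exact this)
  obtain ⟨j, hj⟩ := dvd_smallExp_choose (p := p)
  have hmul : ∀ u ∈ H, ∀ v ∈ H, (u * v) ^ smallExp p = u ^ smallExp p * v ^ smallExp p := by
    intro u hu v hv
    have key : ((⟨u, hu⟩ * ⟨v, hv⟩ : H)) ^ smallExp p
        = ⟨u, hu⟩ ^ smallExp p * ⟨v, hv⟩ ^ smallExp p := by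
      rw [CfsgLib.PGroup.mul_pow_of_comm_mem_center (hz _ _)]
      have hpc : (⟨v, hv⟩ : H) ^ p ∈ Subgroup.center H := Subgroup.mem_center_iff.2 fun w =>
        Subtype.ext (Subgroup.mem_centralizer_iff.1 (hpow v hv).2 w w.2)
      rw [hj, pow_mul, ← CfsgLib.PGroup.comm_pow_left (hz _ _),
        commutatorElement_eq_one_iff_mul_comm.2 (Subgroup.mem_center_iff.1 hpc ⟨u, hu⟩).symm,
        one_pow, mul_one]
    exact congrArg Subtype.val key
  let D : Subgroup P :=
    { carrier := {x | x ∈ H ∧ x ∈ W ∧ x ^ smallExp p = 1}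
      one_mem' := ⟨one_mem H, one_mem W, one_pow _⟩
      mul_mem' := fun {a b} ha hb => ⟨mul_mem ha.1 hb.1, mul_mem ha.2.1 hb.2.1,
        by rw [hmul a ha.1 b hb.1, ha.2.2, hb.2.2, one_mul]⟩
      inv_mem' := fun {a} ha => ⟨inv_mem ha.1, inv_mem ha.2.1, by rw [inv_pow, ha.2.2, inv_one]⟩ }
  -- invariance
  have hHinv : ∀ (γ : MulAut P), ∀ x ∈ H, γ x ∈ H := fun γ x hx =>
    Subgroup.characteristic_iff_map_le.1 hHc γ ⟨x, hx, rfl⟩
  have hWinv : ∀ γ ∈ G, ∀ x ∈ W, γ x ∈ W := by
    intro γ hγ x hx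
    have : W ≤ W.comap (γ.toMonoidHom) := by
      conv_lhs => rw [hW]
      rw [Subgroup.closure_le]
      rintro y ⟨α, hα, z, rfl⟩
      refine Subgroup.subset_closure ⟨⟨γ, hγ⟩ * α * (⟨γ, hγ⟩ : G)⁻¹, ?_, γ z, ?_⟩
      · have hn : Cfsg.pResidual p ↥G ≤
            (Cfsg.pResidual p ↥G).comap (MulAut.conj (⟨γ, hγ⟩ : G)).toMonoidHom := by
          conv_lhs => rw [Cfsg.pResidual]
          rw [Subgroup.closure_le]
          intro g hg
          refine Subgroup.subset_closure ?_
          show Nat.Coprime (orderOf ((MulAut.conj (⟨γ, hγ⟩ : G)) g)) p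
          rw [MulEquiv.orderOf_eq]
          exact hg
        exact hn hα
      · show γ (z⁻¹ * (α : MulAut P) z) = _
        simp
    exact this hx
  have hDinv : ∀ γ ∈ G, ∀ x ∈ D, γ x ∈ D := fun γ hγ x hx =>
    ⟨hHinv γ x hx.1, hWinv γ hγ x hx.2.1, by rw [← map_pow, hx.2.2, map_one]⟩
  have hDn : D.Normal := ⟨fun x hx g => hDinv (MulAut.conj g) (hG ⟨g, rfl⟩) x hx⟩
  have hDH : D ≤ H := fun x hx => hx.1
  have hDcomm : ⁅D, (⊤ : Subgroup P)⁆ ≤ D ⊓ Subgroup.centralizer (D : Set P) :=
    le_inf (Subgroup.commutator_le_left D ⊤)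
      (((Subgroup.commutator_mono hDH le_rfl).trans (hcomm.trans inf_le_right)).trans
        (Subgroup.centralizer_le hDH))
  -- an element fixing `D` and `H ⊓ W` at the level of coprime action
  have hcop : ∀ a : MulAut P, (orderOf a).Coprime p → ∀ y c : P, a y = y * c → a c = c → c = 1 := by
    intro a ha y c hay hc
    have hn : ∀ n : ℕ, (a ^ n) y = y * c ^ n := by
      intro n
      induction n with
      | zero => simp
      | succ n ihn =>
        rw [pow_succ', MulAut.mul_apply, ihn, map_mul, map_pow, hc, pow_succ', hay, mul_assoc]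
    have h2 : c ^ orderOf a = 1 := by
      have := hn (orderOf a)
      rw [pow_orderOf_eq_one, MulAut.one_apply] at this
      exact left_eq_mul.1 this
    exact (hP.powEquiv ha.symm).injective (show c ^ orderOf a = 1 ^ orderOf a by
      rw [one_pow, h2])
  have hdet : ∀ α ∈ G, (orderOf α).Coprime p → (∀ d ∈ D, α d = d) → α = 1 := by
    intro a haG ha h
    have haR : ∀ y : P, y⁻¹ * a y ∈ W := fun y =>
      Subgroup.subset_closure ⟨⟨a, haG⟩, Subgroup.subset_closure (by
        show Nat.Coprime (orderOf (⟨a, haG⟩ : G)) p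
        rwa [Subgroup.orderOf_mk]), y, rfl⟩
    have hHW : ∀ k, ∀ y ∈ H, y ∈ W → y ^ p ^ k = 1 → a y = y := by
      intro k
      induction k with
      | zero => exact fun y _ _ hy => by rw [pow_zero, pow_one] at hy; subst hy; exact map_one a
      | succ k ih =>
        intro y hy hyW hyk
        have hfix : a (y ^ p) = y ^ p :=
          ih _ (H.pow_mem hy p) (W.pow_mem hyW p) (by rw [← pow_mul, ← pow_succ', hyk])
        obtain ⟨n, hn⟩ := exists_smallExp_eq p
        have hcD : y⁻¹ * a y ∈ D := ⟨mul_mem (inv_mem hy) (hHinv a y hy), haR y, by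
          rw [hmul _ (inv_mem hy) _ (hHinv a y hy), hn, pow_mul, pow_mul, ← map_pow, hfix, inv_pow,
            inv_pow, inv_mul_cancel]⟩
        have := hcop a ha y _ (mul_inv_cancel_left y (a y)).symm (h _ hcD)
        exact (inv_mul_eq_one.1 this).symm
    refine CfsgLib.Transfer.aut_eq_one_of_fix_normal hP H hC a ha fun x hx => ?_
    have hc : x⁻¹ * a x ∈ H := mul_mem (inv_mem hx) (hHinv a x hx)
    obtain ⟨k, hk⟩ := hP (x⁻¹ * a x)
    have := hcop a ha x _ (mul_inv_cancel_left x (a x)).symm (hHW k _ hc (haR x) hk)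
    exact (inv_mul_eq_one.1 this).symm
  refine ⟨D, fun α hα => ?_, fun x hx => hx.2.1, fun d hd => small_of_pow hd.2.2, hDcomm, hdet,
    fun A hAD hAc hmax => ?_⟩
  · refine le_antisymm ?_ fun x hx => ?_
    · rintro _ ⟨x, hx, rfl⟩
      exact hDinv α hα x hx
    · exact ⟨α⁻¹ x, hDinv α⁻¹ (inv_mem hα) x hx, MulAut.apply_inv_self _ α x⟩
  -- `A` is its own centralizer in `D`
  have hself : ∀ z ∈ D, (∀ a ∈ A, Commute a z) → z ∈ A := by
    intro z hz hza
    have hB : IsMulCommutative ↥(Subgroup.closure ((A : Set P) ∪ {z})) := by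
      refine Subgroup.isMulCommutative_closure fun u hu v hv => ?_
      rcases hu with hu | hu <;> rcases hv with hv | hv
      · exact congrArg Subtype.val (hAc.is_comm.comm (⟨u, hu⟩ : A) ⟨v, hv⟩)
      · rw [Set.mem_singleton_iff] at hv; subst hv; exact hza u hu
      · rw [Set.mem_singleton_iff] at hu; subst hu; exact (hza v hv).symm
      · rw [Set.mem_singleton_iff] at hu hv; subst hu hv; rfl
    have := hmax _ (fun a ha => Subgroup.subset_closure (Or.inl ha))
      ((Subgroup.closure_le _).2 (Set.union_subset hAD (Set.singleton_subset_iff.2 hz))) hB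
    exact this ▸ Subgroup.subset_closure (Or.inr rfl)
  have hDA : ⁅D, (⊤ : Subgroup P)⁆ ≤ A := fun z hz =>
    hself z (hDcomm hz).1 fun a ha => Subgroup.mem_centralizer_iff.1 (hDcomm hz).2 a (hAD ha)
  refine ⟨⟨fun a ha g => ?_⟩, fun α hα hfix => ?_⟩
  · rw [show g * a * g⁻¹ = a * ⁅a⁻¹, g⁆ by rw [commutatorElement_def]; group]
    exact A.mul_mem ha (hDA (Subgroup.commutator_mem_commutator (D.inv_mem (hAD ha)) (Subgroup.mem_top g)))
  obtain ⟨k, m, hm, hkm⟩ := Nat.exists_eq_pow_mul_and_not_dvd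
    (orderOf_pos α).ne' p (Fact.out : p.Prime).ne_one
  refine ⟨k, ?_⟩
  have hdvd : p ^ k ∣ orderOf α := ⟨m, hkm⟩
  have hbo : orderOf (α ^ p ^ k) = m := by
    rw [orderOf_pow' _ (pow_ne_zero _ (Fact.out : p.Prime).ne_zero), Nat.gcd_eq_right hdvd, hkm,
      Nat.mul_div_cancel_left _ (pow_pos (Fact.out : p.Prime).pos k)]
  have hbc : (orderOf (α ^ p ^ k)).Coprime p := by
    rw [hbo]; exact ((Fact.out : p.Prime).coprime_iff_not_dvd.2 hm).symm
  have hb1 : α ^ p ^ k = 1 := by
    refine hdet _ (pow_mem hα _) hbc fun d hd => ?_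
    set b := α ^ p ^ k with hb
    have hbA : ∀ a ∈ A, b a = a := by
      intro a ha
      rw [hb]
      generalize p ^ k = n
      induction n with
      | zero => simp
      | succ n ih => rw [pow_succ', MulAut.mul_apply, ih, hfix a ha]
    have hcD : d⁻¹ * b d ∈ D := mul_mem (inv_mem hd) (hDinv b (pow_mem hα _) d hd)
    have hcA : d⁻¹ * b d ∈ A := hself _ hcD fun a ha => by
      have hz : ⁅d, a⁆ ∈ ⁅D, (⊤ : Subgroup P)⁆ :=
        Subgroup.commutator_mem_commutator hd (Subgroup.mem_top a)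
      have h1 : b ⁅d, a⁆ = ⁅d, a⁆ := hbA _ (hDA hz)
      rw [map_commutatorElement, hbA a ha] at h1
      set c := d⁻¹ * b d with hc
      have hbd : b d = d * c := by rw [hc, mul_inv_cancel_left]
      rw [hbd, commutatorElement_def, commutatorElement_def] at h1
      show a * c = c * a
      calc a * c = (d⁻¹ * (d * a * d⁻¹ * a⁻¹) * a * d) * c := by group
        _ = (d⁻¹ * (d * c * a * (d * c)⁻¹ * a⁻¹) * a * d) * c := by rw [h1]
        _ = c * a := by group
    have := hcop b hbc d _ (mul_inv_cancel_left d (b d)).symm (hbA _ hcA)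
    exact (inv_mul_eq_one.1 this).symm
  rw [hb1, orderOf_one] at hbo
  rw [hkm, ← hbo, mul_one]

end Cfsg.Agent.S1949
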