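import Cfsg.Statements.S1954
import Cfsg.Agent.Lib.Techniques.AlperinGoldschmidtCore
import Cfsg.Agent.Lib.Fusion.Normal

set_option autoImplicit false
open Cfsg

namespace Cfsg.Agent.S1954

section
open Subgroup
open CfsgLib.Fusion (conjSub conjSub_eq_iff_mem_normalizer mem_normalizer_of_forall)
open CfsgLib.Techniques
open CfsgLib.Techniques.Functor

variable {G : Type*} [Group G] [Finite G] {p : ℕ} [Fact p.Prime]

/-- If fusion inside `R ∩ N` is controlled by `N(W)` for a good subgroup `R`, then `R` contains `W`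
and `N(R)` normalizes it. -/
theorem step (P : Sylow p G) {N : Subgroup G} [N.Normal] {W : Subgroup G} (hWP : W ≤ (P : Subgroup G))
    (hWN : W ≤ N) (hPW : (P : Subgroup G) ≤ normalizer (W : Set G)) {R : Subgroup G}
    (hR : R ∈ AlperinGoldschmidtCore.good P)
    (hyp : ∀ x ∈ normalizer (R : Set G), ∃ w ∈ normalizer (W : Set G), w⁻¹ * x ∈ centralizer ((R ⊓ N : Subgroup G) : Set G)) :
    W ≤ R ∧ normalizer (R : Set G) ≤ normalizer (W : Set G) := by
  obtain ⟨hRP, -, hC1, hdp⟩ := hR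
  set NR := normalizer (R : Set G) with hNR
  set R0 := R ⊓ N with hR0
  have hR0n : NR ≤ normalizer (R0 : Set G) := fun x hx => mem_normalizer_of_forall fun r hr =>
    ⟨(mem_normalizer_iff.1 hx r).1 hr.1, Normal.conj_mem inferInstance r hr.2 x⟩
  set C0 := centralizer (R0 : Set G) with hC0
  have hC0n : normalizer (R0 : Set G) ≤ normalizer (C0 : Set G) :=
    CfsgLib.Fusion.normalizer_le_normalizer_centralizer R0
  set U := W ⊓ normalizer (R0 : Set G) with hU
  have hUn : U ≤ normalizer (C0 : Set G) := inf_le_right.trans hC0n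
  have hE : ∀ x ∈ NR, ∀ u ∈ U ⊔ C0, x * u * x⁻¹ ∈ U ⊔ C0 := by
    intro x hx
    obtain ⟨w, hw, hc⟩ := hyp x hx
    have hw0 : w ∈ normalizer (R0 : Set G) := by
      have := mul_mem (hR0n hx) (inv_mem (CfsgLib.Fusion.centralizer_le_normalizer' R0 hc))
      simpa using this
    have key : U ⊔ C0 ≤ (U ⊔ C0).comap (MulAut.conj w).toMonoidHom := sup_le
      (fun u hu => mem_sup_left ⟨(mem_normalizer_iff.1 hw u).1 hu.1,
        (normalizer (R0 : Set G)).mul_mem ((normalizer (R0 : Set G)).mul_mem hw0 hu.2) ((normalizer (R0 : Set G)).inv_mem hw0)⟩)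
      (fun u hu => mem_sup_right ((mem_normalizer_iff.1 (hC0n hw0) u).1 hu))
    intro u hu
    have h1 : (w⁻¹ * x) * u * (w⁻¹ * x)⁻¹ ∈ U ⊔ C0 :=
      mul_mem (mul_mem (mem_sup_right hc) hu) (inv_mem (mem_sup_right hc))
    have h2 : w * ((w⁻¹ * x) * u * (w⁻¹ * x)⁻¹) * w⁻¹ ∈ U ⊔ C0 := key h1
    simpa [mul_assoc] using h2
  set O := pPrimeCore p ↥NR with hO
  -- elements of `N(R)` inducing an element of `U` on `R ∩ N` and nothing on `R / (R ∩ N)`
  let L : Subgroup ↥NR :=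
    { carrier := {y | (y : G) ∈ U ⊔ C0 ∧ ∀ r ∈ R, (y : G) * r * (y : G)⁻¹ * r⁻¹ ∈ N}
      one_mem' := ⟨one_mem _, fun r _ => by simp [one_mem]⟩
      mul_mem' := fun {a b} ha hb => ⟨mul_mem ha.1 hb.1, fun r hr => by
        have h1 := ha.2 _ ((mem_normalizer_iff.1 b.2 r).1 hr)
        have h2 := hb.2 r hr
        have h3 := mul_mem h1 h2
        simpa [mul_assoc] using h3⟩
      inv_mem' := fun {a} ha => ⟨inv_mem ha.1, fun r hr => by
        have h1 := ha.2 _ ((mem_normalizer_iff.1 (inv_mem a.2) r).1 hr)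
        have h2 := inv_mem h1
        simpa [mul_assoc] using h2⟩ }
  haveI hLn : L.Normal := ⟨fun y hy x => ⟨hE x x.2 y hy.1, fun r hr => by
    have hr' : (x : G)⁻¹ * r * (x : G) ∈ R := by
      have := (mem_normalizer_iff.1 (inv_mem x.2) r).1 hr
      simpa using this
    have h1 := Normal.conj_mem (inferInstance : N.Normal) _ (hy.2 _ hr') (x : G)
    simpa [mul_assoc] using h1⟩⟩
  -- a power of each of them centralises `R`
  have hpow : ∀ y ∈ L, ∃ k : ℕ, ((y : G)) ^ p ^ k ∈ centralizer (R : Set G) := by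
    intro y hy
    have hy' : (y : G) ∈ ((U ⊔ C0 : Subgroup G) : Set G) := hy.1
    rw [coe_mul_of_left_le_normalizer_right U C0 hUn] at hy'
    obtain ⟨u, hu, c, hc, huc⟩ := hy'
    change u * c = (y : G) at huc
    obtain ⟨a, ha⟩ := P.2 ⟨u, hWP hu.1⟩
    have ha' : u ^ p ^ a = 1 := congrArg Subtype.val ha
    have hz0 : ((y ^ p ^ a : ↥NR) : G) ∈ C0 := by
      haveI : (C0.subgroupOf (normalizer (R0 : Set G))).Normal :=
        (normal_subgroupOf_iff_le_normalizer (CfsgLib.Fusion.centralizer_le_normalizer' R0)).2 hC0n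
      let q := QuotientGroup.mk' (C0.subgroupOf (normalizer (R0 : Set G)))
      have hyR0 : (y : G) ∈ normalizer (R0 : Set G) := hR0n y.2
      have e1 : q ⟨(y : G), hyR0⟩ = q ⟨u, hu.2⟩ := by
        refine (QuotientGroup.eq).2 ?_
        show (y : G)⁻¹ * u ∈ C0
        rw [← huc, mul_inv_rev, inv_mul_cancel_right]
        exact inv_mem hc
      have e2 : q (⟨(y : G), hyR0⟩ ^ p ^ a) = 1 := by
        rw [map_pow, e1, ← map_pow]
        rw [show (⟨u, hu.2⟩ : ↥(normalizer (R0 : Set G))) ^ p ^ a = 1 from Subtype.ext ha', map_one]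
      have e3 := (QuotientGroup.eq_one_iff _).1 e2
      exact e3
    obtain ⟨b, hb⟩ := (P.2.to_le ((inf_le_left : R0 ≤ R).trans hRP)).exists_card_eq
    refine ⟨a + b, mem_centralizer_iff.2 fun r hr => ?_⟩
    set z := ((y ^ p ^ a : ↥NR) : G) with hz
    have hzN : z * r * z⁻¹ * r⁻¹ ∈ R0 :=
      ⟨R.mul_mem ((mem_normalizer_iff.1 (y ^ p ^ a).2 r).1 hr) (R.inv_mem hr), (L.pow_mem hy _).2 r hr⟩
    set r0 := z * r * z⁻¹ * r⁻¹ with hr0
    have hzr0 : r0 * z = z * r0 := mem_centralizer_iff.1 hz0 r0 hzN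
    have hiter : ∀ n : ℕ, z ^ n * r = r0 ^ n * r * z ^ n := by
      intro n
      induction n with
      | zero => simp
      | succ n ih =>
        calc z ^ (n + 1) * r = z ^ n * (z * r) := by rw [pow_succ, mul_assoc]
          _ = z ^ n * (r0 * r * z) := by rw [hr0]; congr 1; group
          _ = r0 * (z ^ n * r) * z := by
              rw [← mul_assoc, ← mul_assoc, ← (Commute.pow_right hzr0 n).eq, mul_assoc r0]
          _ = r0 ^ (n + 1) * r * z ^ (n + 1) := by rw [ih, pow_succ' r0, pow_succ]; group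
    have h1 : r0 ^ p ^ b = 1 := by
      have : (⟨r0, hzN⟩ : ↥R0) ^ p ^ b = 1 := by rw [← hb]; exact pow_card_eq_one'
      exact congrArg Subtype.val this
    have h2 := hiter (p ^ b)
    rw [h1, one_mul, hz, SubmonoidClass.coe_pow, ← pow_mul, ← pow_add] at h2
    exact h2.symm
  have hLM : L ≤ pPrimePCore p ↥NR := by
    intro y hy
    show QuotientGroup.mk' O y ∈ pCore p (↥NR ⧸ O)
    refine CfsgLib.Cores.le_pCore (N := L.map (QuotientGroup.mk' O))
      (hn := hLn.map _ (QuotientGroup.mk'_surjective O)) ?_ ⟨y, hy, rfl⟩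
    rintro ⟨_, x, hx, rfl⟩
    obtain ⟨k, hk⟩ := hpow x hx
    obtain ⟨m, hm, hmx⟩ := hC1 hk
    have hm' : m = x ^ p ^ k := Subtype.ext (by rw [SubmonoidClass.coe_pow]; exact hmx)
    subst hm'
    obtain ⟨j, hj⟩ := CfsgLib.Cores.isPGroup_pCore p (⟨QuotientGroup.mk' O (x ^ p ^ k), hm⟩ : pCore p (↥NR ⧸ O))
    refine ⟨k + j, Subtype.ext ?_⟩
    have := congrArg Subtype.val hj
    simp only [SubmonoidClass.coe_pow, OneMemClass.coe_one] at this ⊢
    rw [pow_add, pow_mul, ← map_pow]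
    exact this
  have hWR : W ≤ R := by
    refine CfsgLib.Fusion.le_of_normalizer_inter_le P.2 hRP hWP hPW fun x hx hxn => ?_
    have hxL : (⟨x, hxn⟩ : ↥NR) ∈ L := ⟨mem_sup_left ⟨hx, hR0n hxn⟩, fun r hr => by
      show x * r * x⁻¹ * r⁻¹ ∈ N
      rw [show x * r * x⁻¹ * r⁻¹ = x * (r * x⁻¹ * r⁻¹) by group]
      exact N.mul_mem (hWN hx) (Normal.conj_mem inferInstance _ (N.inv_mem (hWN hx)) r)⟩
    obtain ⟨-, -, hcomm, -, hsup⟩ := hdp
    set O₁ := O.map NR.subtype with hO₁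
    have hx' : x ∈ ((O₁ ⊔ R : Subgroup G) : Set G) := hsup.ge ⟨_, hLM hxL, rfl⟩
    rw [coe_mul_of_left_le_normalizer_right O₁ R (map_subtype_le _)] at hx'
    obtain ⟨o, ho, d, hd, hod⟩ := hx'
    change o * d = x at hod
    have hoP : o ∈ (P : Subgroup G) := by
      rw [eq_mul_inv_of_mul_eq hod]
      exact (P : Subgroup G).mul_mem (hWP hx) ((P : Subgroup G).inv_mem (hRP hd))
    obtain ⟨i, hi⟩ := IsPGroup.iff_orderOf.1 P.2 ⟨o, hoP⟩
    rw [orderOf_mk] at hi
    have h1 : orderOf o ∣ Nat.card O₁ := by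
      rw [← orderOf_mk o ho]; exact orderOf_dvd_natCard _
    rw [card_map_of_injective NR.subtype_injective] at h1
    have ho1 : o = 1 := orderOf_eq_one_iff.1 (Nat.eq_one_of_dvd_coprimes
      (Nat.Coprime.pow_left i (CfsgLib.Cores.coprime_card_pPrimeCore p).symm) (dvd_of_eq hi) h1)
    rw [← hod, ho1, one_mul]; exact hd
  refine ⟨hWR, fun x hx => ?_⟩
  obtain ⟨w, hw, hc⟩ := hyp x hx
  rw [show x = w * (w⁻¹ * x) by group]
  exact mul_mem hw (CfsgLib.Fusion.centralizer_le_normalizer' W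
    (centralizer_le (show W ≤ R ⊓ N from le_inf hWR hWN) hc))

/-- When every good subgroup's normalizer normalizes `W`, so is fusion controlled. -/
theorem control (P : Sylow p G) {W : Subgroup G}
    (h : ∀ R ∈ AlperinGoldschmidtCore.good P, normalizer (R : Set G) ≤ normalizer (W : Set G))
    {A : Subgroup G} (hA : A ≤ (P : Subgroup G)) {g : G}
    (hg : A.map (MulAut.conj g).toMonoidHom ≤ (P : Subgroup G)) :
    ∃ w ∈ normalizer (W : Set G), ∃ c ∈ centralizer (A : Set G), g = w * c := by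
  obtain ⟨c, hc, hf⟩ := AlperinGoldschmidtCore.real P A hA g⁻¹ (by rw [inv_inv]; exact hg)
  obtain ⟨n, T, x, e1, e2, e3, -⟩ := hf.spec
  refine ⟨(c⁻¹ * g⁻¹)⁻¹, inv_mem ?_, c⁻¹, inv_mem hc, by group⟩
  rw [← e1]
  refine list_prod_mem fun y hy => ?_
  obtain ⟨i, rfl⟩ := List.mem_ofFn.1 hy
  exact h _ (e2 i) (e3 i)

end

/-- Let N be a normal subgroup of the finite group G, P a Sylow p-subgroup of G, and V a subgroup of P ∩ N normal in P ∩ N such that N_N(V) controls strong fusion in P ∩ N with respect to N (whenever a subgroup A of P ∩ N has n A n⁻¹ ≤ P ∩ N for some n in N, then n = h c with h in N_N(V) and c in C_N(A)). Let W be the subgroup generated by the conjugates of V under N_G(P ∩ N). Then N_G(W) controls strong fusion in P with respect to G. -/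
theorem result {G : Type*} [Group G] [Finite G] {p : ℕ} [Fact p.Prime] (N : Subgroup G) [N.Normal] (P : Sylow p G) (V : Subgroup G)
    (hV : V ≤ (P : Subgroup G) ⊓ N) (hVn : ∀ x ∈ (P : Subgroup G) ⊓ N, V.map (MulAut.conj x).toMonoidHom = V)
    (hctrl : ∀ A : Subgroup G, A ≤ (P : Subgroup G) ⊓ N → ∀ n ∈ N, A.map (MulAut.conj n).toMonoidHom ≤ (P : Subgroup G) ⊓ N →
      ∃ h ∈ N ⊓ Subgroup.normalizer (V : Set G), ∃ c ∈ N ⊓ Subgroup.centralizer (A : Set G), n = h * c)
    (W : Subgroup G) (hW : W = Subgroup.closure (⋃ x ∈ Subgroup.normalizer (((P : Subgroup G) ⊓ N : Subgroup G) : Set G),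
      ((V.map (MulAut.conj x).toMonoidHom : Subgroup G) : Set G))) :
    ∀ A : Subgroup G, A ≤ (P : Subgroup G) → ∀ g : G, A.map (MulAut.conj g).toMonoidHom ≤ (P : Subgroup G) →
        ∃ h ∈ Subgroup.normalizer (W : Set G), ∃ c ∈ Subgroup.centralizer (A : Set G), g = h * c := by
  classical
  intro A hA g hg
  obtain ⟨Q', hQ'⟩ := CfsgLib.LocalEven.exists_sylow_eq_inf_of_isSubnormal P
    (Subgroup.Normal.isSubnormal (inferInstance : N.Normal))
  set Q := (P : Subgroup G) ⊓ N with hQ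
  set NQ := Subgroup.normalizer (Q : Set G) with hNQ
  have hPQ : (P : Subgroup G) ≤ NQ := fun x hx => CfsgLib.Fusion.mem_normalizer_of_forall fun q hq =>
    ⟨(P : Subgroup G).mul_mem ((P : Subgroup G).mul_mem hx hq.1) ((P : Subgroup G).inv_mem hx),
      Subgroup.Normal.conj_mem inferInstance q hq.2 x⟩
  have hVx : ∀ x ∈ NQ, V.map (MulAut.conj x).toMonoidHom ≤ Q := by
    rintro x hx _ ⟨v, hv, rfl⟩
    exact (Subgroup.mem_normalizer_iff.1 hx v).1 (hV hv)
  have hWQ : W ≤ Q := by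
    rw [hW, Subgroup.closure_le]
    exact Set.iUnion₂_subset fun x hx => hVx x hx
  have hVW : ∀ x ∈ NQ, V.map (MulAut.conj x).toMonoidHom ≤ W := fun x hx a ha =>
    hW ▸ Subgroup.subset_closure (Set.mem_iUnion₂.2 ⟨x, hx, ha⟩)
  have hNQW : NQ ≤ Subgroup.normalizer (W : Set G) := by
    intro y hy
    refine CfsgLib.Fusion.mem_normalizer_of_forall fun w hw => ?_
    have : W ≤ W.comap (MulAut.conj y).toMonoidHom := by
      conv_lhs => rw [hW]
      rw [Subgroup.closure_le]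
      refine Set.iUnion₂_subset fun x hx => ?_
      rintro _ ⟨v, hv, rfl⟩
      exact hVW (y * x) (mul_mem hy hx) ⟨v, hv, by simp [mul_assoc]⟩
    exact this hw
  -- inside N
  have hQ'mem : ∀ n : N, n ∈ (Q' : Subgroup N) ↔ (n : G) ∈ Q := fun n => by
    rw [hQ', Subgroup.mem_subgroupOf]; exact ⟨fun h => ⟨h, n.2⟩, fun h => h.1⟩
  have hmapQ : ∀ R : Subgroup N, R ≤ (Q' : Subgroup N) → R.map N.subtype ≤ Q := by
    rintro R hR _ ⟨r, hr, rfl⟩; exact (hQ'mem r).1 (hR hr)
  have hNctrl : ∀ B : Subgroup G, B ≤ Q → ∀ n ∈ N, B.map (MulAut.conj n).toMonoidHom ≤ Q →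
      ∃ w ∈ Subgroup.normalizer (W : Set G), ∃ c ∈ Subgroup.centralizer (B : Set G), n = w * c := by
    intro B hB n hn hBn
    have hgood : ∀ R ∈ CfsgLib.Techniques.AlperinGoldschmidtCore.good Q',
        Subgroup.normalizer (R : Set N) ≤ Subgroup.normalizer ((W.subgroupOf N : Subgroup N) : Set N) := by
      intro R hR m hm
      -- `m` normalizes each conjugate of `V`
      have hfix : ∀ x ∈ NQ, ∀ v ∈ V, (m : G) * (x * v * x⁻¹) * (m : G)⁻¹ ∈ V.map (MulAut.conj x).toMonoidHom := by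
        intro x hx
        set V' : Subgroup N := (V.map (MulAut.conj x).toMonoidHom).subgroupOf N with hV'
        have hV'Q : V' ≤ (Q' : Subgroup N) := fun a ha => (hQ'mem a).2 (hVx x hx ha)
        have hQV' : (Q' : Subgroup N) ≤ Subgroup.normalizer (V' : Set N) := fun q hq =>
          CfsgLib.Fusion.mem_normalizer_of_forall fun a ha => by
            obtain ⟨v, hv, hva⟩ := ha
            have hq' : x⁻¹ * (q : G) * x ∈ Q := by
              have := (Subgroup.mem_normalizer_iff.1 (inv_mem hx) (q : G)).1 ((hQ'mem q).1 hq)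
              simpa using this
            refine ⟨(x⁻¹ * q * x) * v * (x⁻¹ * q * x)⁻¹, (hVn _ hq').le ⟨v, hv, rfl⟩, ?_⟩
            have hva' : x * v * x⁻¹ = (a : G) := hva
            show x * _ * x⁻¹ = (q : G) * (a : G) * (q : G)⁻¹
            rw [← hva']; group
        have hstep := step Q' (N := ⊤) hV'Q le_top hQV' hR (fun y hy => by
          have hA1 : (R.map N.subtype).map (MulAut.conj x⁻¹).toMonoidHom ≤ Q := by
            rintro _ ⟨r, hr, rfl⟩
            exact (Subgroup.mem_normalizer_iff.1 (inv_mem hx) r).1 (hmapQ R hR.1 hr)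
          obtain ⟨h, hh, c, hc, hhc⟩ := hctrl _ hA1 (x⁻¹ * y * x)
            (by simpa using Subgroup.Normal.conj_mem (inferInstance : N.Normal) _ y.2 x⁻¹) (by
              rintro _ ⟨_, ⟨_, ⟨r, hr, rfl⟩, rfl⟩, rfl⟩
              have h1 := (Subgroup.mem_normalizer_iff.1 (inv_mem hx) _).1
                (hmapQ R hR.1 ⟨_, (Subgroup.mem_normalizer_iff.1 hy r).1 hr, rfl⟩)
              simpa [mul_assoc] using h1)
          refine ⟨⟨x * h * x⁻¹, Subgroup.Normal.conj_mem inferInstance h hh.1 x⟩,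
            CfsgLib.Fusion.mem_normalizer_of_forall fun a ha => ?_,
            Subgroup.mem_centralizer_iff.2 fun r hr => ?_⟩
          · obtain ⟨v, hv, hva⟩ := ha
            refine ⟨h * v * h⁻¹, (Subgroup.mem_normalizer_iff.1 hh.2 v).1 hv, ?_⟩
            have hva' : x * v * x⁻¹ = (a : G) := hva
            show x * (h * v * h⁻¹) * x⁻¹ = x * h * x⁻¹ * (a : G) * (x * h * x⁻¹)⁻¹
            rw [← hva']; group
          · have h1 := Subgroup.mem_centralizer_iff.1 hc.2 (x⁻¹ * (r : G) * x)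
              ⟨(r : G), ⟨r, hr.1, rfl⟩, by simp⟩
            refine Subtype.ext ?_
            show (r : G) * ((x * h * x⁻¹)⁻¹ * (y : G)) = (x * h * x⁻¹)⁻¹ * (y : G) * (r : G)
            have hy' : (x * h * x⁻¹)⁻¹ * (y : G) = x * c * x⁻¹ := by
              rw [show (y : G) = x * (x⁻¹ * (y : G) * x) * x⁻¹ by group, hhc]; group
            rw [hy']
            calc (r : G) * (x * c * x⁻¹) = x * ((x⁻¹ * (r : G) * x) * c) * x⁻¹ := by group
              _ = x * (c * (x⁻¹ * (r : G) * x)) * x⁻¹ := by rw [h1]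
              _ = x * c * x⁻¹ * (r : G) := by group)
        intro v hv
        have hxv : x * v * x⁻¹ ∈ Q := hVx x hx ⟨v, hv, rfl⟩
        exact (Subgroup.mem_normalizer_iff.1 (hstep.2 hm) ⟨x * v * x⁻¹, hxv.2⟩).1 ⟨v, hv, rfl⟩
      refine CfsgLib.Fusion.mem_normalizer_of_forall fun w hw => ?_
      have : W ≤ W.comap (MulAut.conj (m : G)).toMonoidHom := by
        conv_lhs => rw [hW]
        rw [Subgroup.closure_le]
        refine Set.iUnion₂_subset fun x hx => ?_
        rintro _ ⟨v, hv, rfl⟩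
        exact hVW x hx (hfix x hx v hv)
      exact this hw
    obtain ⟨w, hw, c, hc, hwc⟩ := control Q' hgood (A := B.subgroupOf N)
      (fun b hb => (hQ'mem b).2 (hB hb)) (g := ⟨n, hn⟩) (by
        rintro _ ⟨b, hb, rfl⟩
        exact (hQ'mem _).2 (hBn ⟨(b : G), hb, rfl⟩))
    refine ⟨w, CfsgLib.Fusion.mem_normalizer_of_forall fun a ha => ?_, c,
      Subgroup.mem_centralizer_iff.2 fun b hb => ?_, congrArg Subtype.val hwc⟩
    · exact (Subgroup.mem_normalizer_iff.1 hw ⟨a, (hWQ ha).2⟩).1 ha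
    · exact congrArg Subtype.val (Subgroup.mem_centralizer_iff.1 hc ⟨b, (hB hb).2⟩ hb)
  -- in G
  refine control P (fun R hR => (step P (hWQ.trans inf_le_left) (hWQ.trans inf_le_right)
    (hPQ.trans hNQW) hR fun x hx => ?_).2) hA hg
  have hfr : Subgroup.normalizer (((Q' : Subgroup N).map N.subtype : Subgroup G) : Set G) ⊔ N = ⊤ :=
    Sylow.normalizer_sup_eq_top Q'
  have hmap : (Q' : Subgroup N).map N.subtype = Q := by rw [hQ', Subgroup.subgroupOf_map_subtype]
  rw [hmap, sup_comm] at hfr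
  obtain ⟨n, hn, y, hy, rfl⟩ := Subgroup.mem_sup_of_normal_left.1 (show x ∈ N ⊔ NQ by rw [hfr]; trivial)
  have hR0 : R ⊓ N ≤ Q := inf_le_inf_right N hR.1
  have hB : (R ⊓ N).map (MulAut.conj y).toMonoidHom ≤ Q := by
    rintro _ ⟨r, hr, rfl⟩
    exact (Subgroup.mem_normalizer_iff.1 hy r).1 (hR0 hr)
  obtain ⟨w, hw, c, hc, rfl⟩ := hNctrl _ hB n hn (by
    rintro _ ⟨_, ⟨r, hr, rfl⟩, rfl⟩
    refine hR0 ⟨?_, ?_⟩
    · have := (Subgroup.mem_normalizer_iff.1 hx r).1 hr.1
      simpa [mul_assoc] using this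
    · have := Subgroup.Normal.conj_mem (inferInstance : N.Normal) r hr.2 (n * y)
      simpa [mul_assoc] using this)
  refine ⟨w * y, mul_mem hw (hNQW hy), Subgroup.mem_centralizer_iff.2 fun r hr => ?_⟩
  have h1 : y * r * y⁻¹ * c = c * (y * r * y⁻¹) :=
    Subgroup.mem_centralizer_iff.1 hc _ ⟨r, hr, rfl⟩
  rw [show (w * y)⁻¹ * (w * c * y) = y⁻¹ * c * y by group]
  calc r * (y⁻¹ * c * y) = y⁻¹ * (y * r * y⁻¹ * c) * y := by group
    _ = y⁻¹ * (c * (y * r * y⁻¹)) * y := by rw [h1]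
    _ = y⁻¹ * c * y * r := by group

end Cfsg.Agent.S1954
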