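import Cfsg.Statements.S1956
import Cfsg.Agent.Lib.Transfer.Fusion

set_option autoImplicit false
open Cfsg

namespace Cfsg.Agent.S1956

/-- Let P be a Sylow p-subgroup of the finite group G such that every element of P of order dividing p (dividing 4 when p = 2) is central in P. Then the fusion of these elements is controlled by N_G(P): if such an element a of P has g a g⁻¹ in P, then g = n c with n normalizing P and c commuting with a. -/
theorem result {G : Type*} [Group G] [Finite G] {p : ℕ} [Fact p.Prime] (P : Sylow p G)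
    (hcen : ∀ a ∈ (P : Subgroup G), (a ^ p = 1 ∨ (p = 2 ∧ a ^ 4 = 1)) → ∀ y ∈ (P : Subgroup G), a * y = y * a) :
    ∀ a ∈ (P : Subgroup G), (a ^ p = 1 ∨ (p = 2 ∧ a ^ 4 = 1)) → ∀ g : G, g * a * g⁻¹ ∈ (P : Subgroup G) →
      ∃ n ∈ Subgroup.normalizer ((P : Subgroup G) : Set G), ∃ c : G, c * a = a * c ∧ g = n * c := by
  intro a ha hO g hg
  set b := g * a * g⁻¹ with hb
  have hbO : b ^ p = 1 ∨ (p = 2 ∧ b ^ 4 = 1) := by
    rcases hO with h | ⟨h2, h⟩
    · left; rw [hb, conj_pow, h]; group
    · right; refine ⟨h2, ?_⟩; rw [hb, conj_pow, h]; group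
  set C := Subgroup.centralizer ({b} : Set G) with hC
  have hPC : (P : Subgroup G) ≤ C := fun x hx =>
    Subgroup.mem_centralizer_singleton_iff.2 (hcen b hg hbO x hx).symm
  have hgC : (P : Subgroup G).map (MulAut.conj g).toMonoidHom ≤ C := by
    rintro _ ⟨x, hx, rfl⟩
    refine Subgroup.mem_centralizer_singleton_iff.2 ?_
    change g * x * g⁻¹ * b = b * (g * x * g⁻¹)
    calc g * x * g⁻¹ * b = g * (x * a) * g⁻¹ := by rw [hb]; group
      _ = _ := by rw [← hcen a ha hO x hx, hb]; group
  obtain ⟨k, hk, hconj⟩ := CfsgLib.Transfer.exists_conj_mem_sylow_of_le P hPC hgC (P.2.map _)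
  have hn : k * g ∈ Subgroup.normalizer ((P : Subgroup G) : Set G) := by
    refine Subgroup.mem_normalizer_iff.2 fun x => ?_
    have hmap : (P : Subgroup G).map (MulAut.conj (k * g)).toMonoidHom = P := by
      refine Subgroup.eq_of_le_of_card_ge ?_ ?_
      · rintro _ ⟨x, hx, rfl⟩
        have := hconj _ ⟨x, hx, rfl⟩
        simpa [mul_assoc] using this
      · rw [Subgroup.card_map_of_injective (MulAut.conj (k * g)).injective]
    constructor
    · intro hx; rw [← hmap]; exact ⟨x, hx, rfl⟩
    · intro hx; rw [← hmap] at hx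
      obtain ⟨y, hy, e⟩ := hx
      obtain rfl : y = x := (MulAut.conj (k * g)).injective e
      exact hy
  refine ⟨k * g, hn, g⁻¹ * k⁻¹ * g, ?_, by group⟩
  have := Subgroup.mem_centralizer_singleton_iff.1 (C.inv_mem hk)
  calc g⁻¹ * k⁻¹ * g * a = g⁻¹ * (k⁻¹ * b) * g := by rw [hb]; group
    _ = _ := by rw [this, hb]; group

end Cfsg.Agent.S1956
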