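import Cfsg.Statements.S1962
import Cfsg.Agent.Lib.Techniques.Functor.Control

set_option autoImplicit false
open Cfsg

namespace Cfsg.Agent.S1962

/-- Local-to-global control of transfer through well-placed subgroups. Let p be a prime, G a finite group with Sylow p-subgroup S, and W a conjugacy functor for p on G. If W controls transfer in N_G(T) for every nonidentity subgroup T of S that is well placed in S with respect to W, then W controls transfer in G: S ∩ G' = S ∩ (N_G(W(S)))'. -/
theorem result {G : Type*} [Group G] [Finite G] {p : ℕ} [Fact p.Prime] (S : Sylow p G) (W : Subgroup G → Subgroup G) (hW : Cfsg.IsConjugacyFunctor p W) (hloc : ∀ T : Subgroup G, T ≠ ⊥ → Cfsg.IsWellPlaced p W (S : Subgroup G) T → Cfsg.ControlsTransferIn p W (Subgroup.normalizer ((T : Subgroup G) : Set G))) : Cfsg.ControlsTransferIn p W ⊤ := by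
  rw [CfsgLib.Techniques.Functor.transfer_single_iff]
  refine ⟨(S : Subgroup G), le_top, S.2, CfsgLib.Techniques.Functor.relIndex_sylow_not_dvd S le_top,
    CfsgLib.Techniques.Functor.transfer_local_global (by rintro _ rfl; exact hW) S
      (fun X => Cfsg.IsWellPlaced p W (S : Subgroup G) X) ?_ (fun X h => h.2 0)
      (fun X hX h => CfsgLib.Techniques.Functor.wellPlaced_of_le S hW hX h) ?_⟩
  · intro X hX
    obtain ⟨u, h1, h2⟩ := CfsgLib.Techniques.Functor.exists_wellPlaced S hW hX
    exact ⟨u, h1, h1.1, h2⟩
  · exact fun X _ h0 hg => (CfsgLib.Techniques.Functor.transfer_single_iff W _).1 (hloc X h0 hg)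

end Cfsg.Agent.S1962
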