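import Cfsg.Statements.S1966
import Cfsg.Agent.Lib.Techniques.Functor.ConjFamily

set_option autoImplicit false
open Cfsg

namespace Cfsg.Agent.S1966

/-- Let p be a prime, G a finite group with Sylow p-subgroup S and 𝓕 a conjugation family for S in G. Then the members of 𝓕 containing O_p(G) still form a conjugation family for S in G. -/
theorem result {G : Type*} [Group G] [Finite G] {p : ℕ} [Fact p.Prime] (S : Sylow p G) (𝓕 : Set (Subgroup G)) (h : Cfsg.IsConjugationFamily 𝓕 (S : Subgroup G)) : Cfsg.IsConjugationFamily {T : Subgroup G | T ∈ 𝓕 ∧ Cfsg.pCore p G ≤ T} (S : Subgroup G) := by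
  refine ⟨fun T hT => h.1 T hT.1, fun A g hne hA hgA => ?_⟩
  have hn : (Cfsg.pCore p G).Normal := by
    have := CfsgLib.Cores.pCore_characteristic (G := G) p
    infer_instance
  have hOS : Cfsg.pCore p G ≤ (S : Subgroup G) := CfsgLib.Cores.pCore_le_sylow S
  have hconj : ∀ c : G, ∀ z ∈ Cfsg.pCore p G, c⁻¹ * z * c ∈ Cfsg.pCore p G := fun c z hz => by
    simpa using hn.conj_mem z hz c⁻¹
  obtain ⟨n, T, x, h1, h2, h3, h4, h5⟩ := h.2 (A ∪ (Cfsg.pCore p G : Set G)) g
    (hne.mono Set.subset_union_left) (Set.union_subset hA hOS) (by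
      rw [Set.image_union]
      exact Set.union_subset hgA (by rintro _ ⟨z, hz, rfl⟩; exact hOS (hconj g z hz)))
  refine ⟨n, T, x, h1, fun i => ⟨h2 i, ?_⟩, h3, fun h => Set.subset_union_left.trans (h4 h),
    fun i hi => (Set.image_mono Set.subset_union_left).trans (h5 i hi)⟩
  intro z hz
  obtain ⟨iv, hiv⟩ := i
  cases iv with
  | zero => exact h4 hiv (Or.inr hz)
  | succ k =>
    set c := ((List.ofFn x).take (k + 1)).prod
    have := h5 ⟨k, by omega⟩ hiv ⟨c * z * c⁻¹, Or.inr (hn.conj_mem z hz c), rfl⟩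
    simpa [mul_assoc, c] using this

end Cfsg.Agent.S1966
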