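import Cfsg.Statements.S1967
import Cfsg.Agent.Lib.Techniques.Functor.Control

set_option autoImplicit false
open Cfsg

namespace Cfsg.Agent.S1967

/-- Let p be a prime, G a finite group with Sylow p-subgroup S and W a conjugacy functor for p on G. Then W controls strong fusion in G if and only if, whenever T ≤ S and g ∈ G satisfy gTg⁻¹ ≤ S, one can write g = n c with n ∈ N_G(W(S)) and c ∈ C_G(T). -/
theorem result {G : Type*} [Group G] [Finite G] {p : ℕ} [Fact p.Prime] (S : Sylow p G) (W : Subgroup G → Subgroup G) (hW : Cfsg.IsConjugacyFunctor p W) : Cfsg.ControlsStrongFusionIn p W ⊤ ↔ ∀ (T : Subgroup G) (g : G), T ≤ (S : Subgroup G) → T.map (MulAut.conj g).toMonoidHom ≤ (S : Subgroup G) → ∃ n ∈ Subgroup.normalizer ((W (S : Subgroup G) : Subgroup G) : Set G), ∃ c ∈ Subgroup.centralizer (T : Set G), g = n * c := by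
  rw [CfsgLib.Techniques.Functor.fusion_single_iff]
  constructor
  · intro h T g hT hgT
    obtain ⟨x, hx, hxa⟩ := CfsgLib.Techniques.Functor.Fus.exists_mem
      (H := ⊤ ⊓ Subgroup.normalizer ((W (S : Subgroup G) : Subgroup G) : Set G))
      (by
        have := CfsgLib.Techniques.Functor.family_ctrl_at (by rintro _ rfl; exact hW) h S.2 le_top
          (CfsgLib.Techniques.Functor.relIndex_sylow_not_dvd S le_top) T g (Subgroup.mem_top g) hT hgT
        simpa [CfsgLib.Techniques.Functor.NSet] using this)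
    refine ⟨x, hx.2, x⁻¹ * g, Subgroup.mem_centralizer_iff.2 fun a ha => ?_, by group⟩
    calc a * (x⁻¹ * g) = x⁻¹ * (x * a * x⁻¹) * g := by group
      _ = x⁻¹ * (g * a * g⁻¹) * g := by rw [hxa a ha]
      _ = x⁻¹ * g * a := by group
  · intro h
    refine CfsgLib.Techniques.Functor.family_top_of_ctrl S fun A g _ hA hgA => ?_
    obtain ⟨n, hn, c, hc, rfl⟩ := h A g hA hgA
    have hag : CfsgLib.Techniques.Functor.Agree A n (n * c) := fun a ha => by
      have e : c * a * c⁻¹ = a := by
        rw [← Subgroup.mem_centralizer_iff.1 hc a ha, mul_inv_cancel_right]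
      calc n * a * n⁻¹ = n * (c * a * c⁻¹) * n⁻¹ := by rw [e]
        _ = n * c * a * (n * c)⁻¹ := by group
    refine CfsgLib.Techniques.Functor.Fus.of_agree hag ?_
    refine CfsgLib.Techniques.Functor.Fus.of_mem ⟨W, rfl, rfl⟩ ⟨Subgroup.mem_top n, hn⟩ ?_
    rw [hag.conjSub_eq]; exact hgA

end Cfsg.Agent.S1967
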