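import Cfsg.Statements.S1985
import Cfsg.Agent.Lib.Techniques.WeakClosureKInf

set_option autoImplicit false
universe u
open Cfsg

namespace Cfsg.Agent.S1985

/-- Let p be an odd prime and G a finite group. Then the lower K-infinity subgroup controls weak closure of elements in G: the lower K-infinity subgroup of every p-subgroup P of G contains Z(P), and for some (equivalently, every) Sylow p-subgroup S of G, with K the lower K-infinity subgroup of S, every element of S commuting with all of N_G(K) is weakly closed in S with respect to G (every G-conjugate of it lying in S equals it). -/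
theorem result {G : Type u} [Group G] [Finite G] {p : ℕ} [Fact p.Prime] (hp : p ≠ 2) : Cfsg.ControlsWeakClosureOfElementsIn p (Cfsg.inducedFunctor (G := G) Cfsg.kInfLower) ⊤ := by
  have hW := CfsgLib.Techniques.Functor.isConjugacyFunctor_induced (G := G)
    (CfsgLib.Techniques.KSeq.isCharPFunctor_kInfLower p)
  have hWZ : ∀ P : Subgroup G, IsPGroup p ↥P →
      P ⊓ Subgroup.centralizer (P : Set G) ≤ Cfsg.inducedFunctor Cfsg.kInfLower P := fun P hP =>
    CfsgLib.Techniques.WeakClosure.center_le_induced_kInfLower hP
  obtain ⟨S⟩ := (inferInstance : Nonempty (Sylow p G))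
  exact ⟨hWZ, S, le_top, S.2, CfsgLib.Techniques.Functor.relIndex_sylow_not_dvd S le_top,
    fun x hx h hh hhx => CfsgLib.Techniques.WeakClosure.controls_of_engel hW hWZ
      (CfsgLib.Techniques.WeakClosure.kInf_engel hp) S.2 le_top
      (CfsgLib.Techniques.Functor.relIndex_sylow_not_dvd S le_top) hx hh hhx⟩

end Cfsg.Agent.S1985
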