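import Cfsg.Statements.S1989
import Cfsg.Agent.Lib.Techniques.Qd.Converse
import Cfsg.Agent.Lib.Techniques.KInfControl

set_option autoImplicit false
universe u
open Cfsg

namespace Cfsg.Agent.S1989

/-- Let p be an odd prime and G a finite group. Then Qd(p) (the natural semidirect product of an elementary abelian group of order p² by SL₂(p)) is not involved in G if and only if, in every section K/R of G and for every Sylow p-subgroup T of K/R, the lower K-infinity subgroup of T controls strong fusion in K/R. -/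
theorem result {G : Type u} [Group G] [Finite G] {p : ℕ} [Fact p.Prime] (hp : p ≠ 2) : ¬ Cfsg.Involves ↥(Cfsg.qd p) G ↔ ∀ (K R : Subgroup G) [hR : (R.subgroupOf K).Normal], ∀ T : Sylow p (↥K ⧸ R.subgroupOf K), Cfsg.ControlsStrongFusion p (Cfsg.inducedFunctor (G := (↥K ⧸ R.subgroupOf K)) Cfsg.kInfLower (T : Subgroup (↥K ⧸ R.subgroupOf K))) := by
  constructor
  · intro hqd K R hR T
    have hst : ∀ (K' R' : Subgroup (↥K ⧸ R.subgroupOf K)) [hR' : (R'.subgroupOf K').Normal],
        Cfsg.IsNormalizerPStable p (↥K' ⧸ R'.subgroupOf K') :=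
      (CfsgLib.Techniques.Qd.not_involves_iff_sections_stable hp).1 fun hc => hqd
        (CfsgLib.LocalEven.Offender.involves_of_injective K.subtype K.subtype_injective
          (CfsgLib.LocalEven.Offender.involves_of_surjective _ (QuotientGroup.mk'_surjective _) hc))
    exact CfsgLib.Techniques.Functor.controlsStrongFusion_of_ctrlAll
      (CfsgLib.Techniques.KInfControl.ctrlAll CfsgLib.Techniques.KInfControl.isKInf_lower hst) T
  · intro hall hqd
    obtain ⟨K, R, hR, ⟨e⟩⟩ := hqd
    have T : Sylow p (↥K ⧸ R.subgroupOf K) := default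
    have hTi : ¬ p ∣ (T : Subgroup (↥K ⧸ R.subgroupOf K)).relIndex ⊤ := by
      rw [Subgroup.relIndex_top_right]; exact T.not_dvd_index
    obtain ⟨a, h, hmem, hno⟩ := CfsgLib.Techniques.Qd.uncontrolled_of_equiv e T.2 hTi
    obtain ⟨hle, hno⟩ := hno Cfsg.kInfLower CfsgLib.Techniques.KInfControl.isKInf_lower.functor
    obtain ⟨T', -, hctl⟩ := hall K R T
    obtain ⟨ha, hha⟩ := hmem (T' : Subgroup (↥K ⧸ R.subgroupOf K)) T'.2 T'.not_dvd_index
    obtain ⟨x, hx, hxa⟩ := (hctl {a} (Set.singleton_subset_iff.2 ha)).2 h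
      (by rw [Set.image_singleton]; exact Set.singleton_subset_iff.2 hha)
    exact hno x (hle hx) (hxa a rfl).symm

end Cfsg.Agent.S1989
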