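import Cfsg.Statements.S1992
import Cfsg.Agent.S1991
import Cfsg.Agent.Lib.Char.Burnside
import Cfsg.Agent.Lib.Fusion.SylowTools

set_option autoImplicit false
open Cfsg

namespace Cfsg.Agent.S1992

open Subgroup

theorem two_primes_of_lt_five {n : ℕ} (hn : n ≠ 0) (h : ∀ p, p.Prime → p ∣ n → p < 5) :
    n ∣ 2 ^ n * 3 ^ n := by
  refine (Nat.dvd_iff_prime_pow_dvd_dvd _ _).2 fun p k hp hpk => ?_
  rcases Nat.eq_zero_or_pos k with rfl | hk
  · simp
  have hlt : k ≤ n :=
    (Nat.lt_pow_self hp.one_lt).le.trans (Nat.le_of_dvd (Nat.pos_of_ne_zero hn) hpk)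
  have h5 := h p hp ((dvd_pow_self p hk.ne').trans hpk)
  have := hp.two_le
  interval_cases p
  · exact (pow_dvd_pow 2 hlt).trans (dvd_mul_right _ _)
  · exact (pow_dvd_pow 3 hlt).trans (dvd_mul_left _ _)
  · exact absurd hp (by decide)

universe w

theorem key : ∀ n, ∀ (G : Type w) [Group G] [Finite G], Nat.card G = n →
    (∀ q : ℕ, q.Prime → q ∣ Nat.card G → ∀ Q : Sylow q G,
      normalizer ((Q : Subgroup G) : Set G) = Q) →
    ∃ q : ℕ, q.Prime ∧ IsPGroup q G := by
  intro n
  induction n using Nat.strong_induction_on with
  | _ n ih =>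
    intro G _ _ hn h
    rcases subsingleton_or_nontrivial G with hG | hG
    · exact ⟨2, Nat.prime_two, fun x => ⟨0, Subsingleton.elim _ _⟩⟩
    by_cases hs : IsSimpleGroup G
    · by_cases hsol : Group.IsSolvable G
      · haveI := hs
        have hp : (Nat.card G).Prime := by
          have hc : ∀ a b : G, a * b = b * a := IsSimpleGroup.comm_iff_isSolvable.2 hsol
          letI : CommGroup G := { (inferInstance : Group G) with mul_comm := hc }
          exact IsSimpleGroup.prime_card
        exact ⟨Nat.card G, hp, IsPGroup.of_card (n := 1) (pow_one _).symm⟩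
      · obtain ⟨p, hp, hpd, hp5⟩ : ∃ p, p.Prime ∧ p ∣ Nat.card G ∧ 5 ≤ p := by
          by_contra hcon
          push Not at hcon
          exact hsol (CfsgLib.Char.isSolvable_of_card_eq_pow_mul_pow Nat.prime_two Nat.prime_three
            (two_primes_of_lt_five Nat.card_pos.ne' fun p hp hd => hcon p hp hd))
        haveI := Fact.mk hp
        obtain ⟨P⟩ := (inferInstance : Nonempty (Sylow p G))
        obtain ⟨M, hM, hMi⟩ := Cfsg.Agent.S1991.result hp5 P (P.ne_bot_of_dvd_card hpd)
          fun g hg hc => by
            rw [h p hp hpd P] at hg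
            obtain ⟨k, hk⟩ := IsPGroup.iff_orderOf.1 P.2 ⟨g, hg⟩
            rw [orderOf_mk] at hk
            have : orderOf g = 1 := by
              rcases Nat.eq_zero_or_pos k with rfl | hk'
              · simpa using hk
              · rw [hk, Nat.coprime_pow_left_iff hk', Nat.coprime_self] at hc
                exact absurd hc hp.one_lt.ne'
            rw [orderOf_eq_one_iff.1 this]
            exact one_mem _
        rcases hs.eq_bot_or_eq_top_of_normal M hM with rfl | rfl
        · rw [index_bot] at hMi
          exact ⟨p, hp, IsPGroup.of_card (n := 1) (by rw [hMi, pow_one])⟩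
        · rw [index_top] at hMi
          exact absurd hMi.symm hp.one_lt.ne'
    · obtain ⟨A, hA, hAb, hAt⟩ : ∃ A : Subgroup G, A.Normal ∧ A ≠ ⊥ ∧ A ≠ ⊤ := by
        by_contra hcon
        push Not at hcon
        exact hs ⟨fun H hH => or_iff_not_imp_left.2 (hcon H hH)⟩
      haveI := hA
      obtain ⟨q, hq, hqA⟩ := ih _ (by
        rw [← hn, ← index_eq_card, ← card_mul_index A]
        refine lt_mul_of_one_lt_left (Nat.pos_of_ne_zero FiniteIndex.index_ne_zero) ?_
        exact one_lt_card_iff_ne_bot A |>.2 hAb) (G ⧸ A) rfl fun r hr hrd Q' => by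
          haveI := Fact.mk hr
          obtain ⟨Q, hQ⟩ := Sylow.mapSurjective_surjective (QuotientGroup.mk'_surjective A) r Q'
          subst hQ
          rw [Sylow.coe_mapSurjective]
          refine le_antisymm (fun x hx => ?_) le_normalizer
          obtain ⟨g, rfl⟩ := QuotientGroup.mk'_surjective A x
          set M := ((Q : Subgroup G).map (QuotientGroup.mk' A)).comap (QuotientGroup.mk' A)
          have hQM : (Q : Subgroup G) ≤ M := le_comap_map _ _
          have hgM : g ∈ normalizer (M : Set G) := by
            rw [mem_normalizer_iff]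
            intro y
            rw [mem_comap, mem_comap, map_mul, map_mul, map_inv]
            exact mem_normalizer_iff.1 hx _
          obtain ⟨m, hm, hmQ⟩ := CfsgLib.Fusion.exists_conj_mem_of_le (N := M)
            (Q.2.map (MulAut.conj g).toMonoidHom) Q.2
            (by rintro _ ⟨y, hy, rfl⟩; exact (mem_normalizer_iff.1 hgM y).1 (hQM hy)) hQM
            (fun hd => Q.not_dvd_index (hd.trans (Dvd.intro _ (relIndex_mul_index hQM))))
          have hN : m * g ∈ normalizer ((Q : Subgroup G) : Set G) := by
            refine mem_normalizer_fintype (S := ((Q : Subgroup G) : Set G)) fun y hy => ?_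
            have := hmQ _ (mem_map_of_mem _ hy)
            show m * g * y * (m * g)⁻¹ ∈ (Q : Subgroup G)
            rw [show m * g * y * (m * g)⁻¹ = m * (g * y * g⁻¹) * m⁻¹ by group]
            exact this
          rw [h r hr (hrd.trans (card_quotient_dvd_card A)) Q] at hN
          have hgm : g ∈ M := by
            have := mul_mem (inv_mem hm) (hQM hN)
            rwa [inv_mul_cancel_left] at this
          exact hgm
      refine ⟨q, hq, ?_⟩
      haveI := Fact.mk hq
      have hall : ∀ r, r.Prime → r ∣ Nat.card G → r = q := by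
        intro r hr hrd
        by_contra hne
        haveI := Fact.mk hr
        obtain ⟨R⟩ := (inferInstance : Nonempty (Sylow r G))
        have hRA : (R : Subgroup G) ≤ A := by
          rw [← QuotientGroup.ker_mk' A]
          intro x hx
          obtain ⟨k, hk⟩ := IsPGroup.iff_orderOf.1 R.2 ⟨x, hx⟩
          obtain ⟨j, hj⟩ := IsPGroup.iff_orderOf.1 hqA (QuotientGroup.mk' A x)
          rw [orderOf_mk] at hk
          have hd := orderOf_map_dvd (QuotientGroup.mk' A) x
          have hc := (Nat.coprime_pow_primes j k hq hr (Ne.symm hne))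
          rw [← hj, ← hk] at hc
          exact orderOf_eq_one_iff.1 (Nat.eq_one_of_dvd_coprimes hc dvd_rfl hd)
        refine hAt ?_
        rw [eq_top_iff, ← Sylow.normalizer_sup_eq_top' R hRA]
        exact sup_le ((h r hr hrd R).le.trans hRA) le_rfl
      refine IsPGroup.of_card (n := (Nat.card G).primeFactorsList.length)
        (Nat.eq_prime_pow_of_unique_prime_dvd Nat.card_pos.ne' fun hr hrd => hall _ hr hrd)

/-- Let G be a finite group in which, for every prime q dividing the order of G, every Sylow q-subgroup is its own normalizer. Then the order of G is a power of a single prime (G is a q-group for some prime q; for G trivial any prime works). -/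
theorem result {G : Type*} [Group G] [Finite G] (h : ∀ q : ℕ, q.Prime → q ∣ Nat.card G → ∀ Q : Sylow q G, Subgroup.normalizer ((Q : Subgroup G) : Set G) = Q) : ∃ q : ℕ, q.Prime ∧ IsPGroup q G := by
  exact key _ G rfl h

end Cfsg.Agent.S1992
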