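import Cfsg.Statements.S1997
import Cfsg.Agent.S1996
import Cfsg.Agent.Lib.PGroup.ElemAbelian
import Cfsg.Agent.Lib.Techniques.Functor.SectionTransfer

set_option autoImplicit false
open Cfsg

open scoped commutatorElement

namespace Cfsg.Agent.S1997

universe u

open Subgroup CfsgLib.Techniques.Functor

/-- The factorization of every subgroup over `S` which has a normal `p`-subgroup containing `Z`, from the
factorization of the constrained sections. -/
theorem factor {G : Type u} [Group G] [Finite G] {p : ℕ} [Fact p.Prime] (S : Sylow p G)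
    {W : ∀ (Q : Type u) [Group Q], Subgroup Q} (hW : Cfsg.IsCharPFunctor.{u} p W) (Z : Subgroup G)
    (hZ : Z = Cfsg.omegaOne p ((S : Subgroup G) ⊓ centralizer ((S : Subgroup G) : Set G)))
    (hfac : ∀ (K R : Subgroup G) [hR : (R.subgroupOf K).Normal],
      centralizer ((pCore p (↥K ⧸ R.subgroupOf K) : Subgroup (↥K ⧸ R.subgroupOf K)) : Set (↥K ⧸ R.subgroupOf K)) ≤
        pCore p (↥K ⧸ R.subgroupOf K) →
      ∀ T : Sylow p (↥K ⧸ R.subgroupOf K), ∀ x : ↥K ⧸ R.subgroupOf K,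
        ∃ a ∈ centralizer ((omegaOne p ((T : Subgroup (↥K ⧸ R.subgroupOf K)) ⊓
          centralizer ((T : Subgroup (↥K ⧸ R.subgroupOf K)) : Set (↥K ⧸ R.subgroupOf K))) :
            Subgroup (↥K ⧸ R.subgroupOf K)) : Set (↥K ⧸ R.subgroupOf K)),
        ∃ b ∈ normalizer ((inducedFunctor (G := (↥K ⧸ R.subgroupOf K)) W (T : Subgroup (↥K ⧸ R.subgroupOf K)) :
          Subgroup (↥K ⧸ R.subgroupOf K)) : Set (↥K ⧸ R.subgroupOf K)), x = a * b)
    (H : Subgroup G) (hSH : (S : Subgroup G) ≤ H) (Q : Subgroup G) (hQS : Q ≤ (S : Subgroup G))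
    (hQH : H ≤ normalizer (Q : Set G)) (hZQ : Z ≤ Q) :
    ∀ h ∈ H, ∃ a ∈ H ⊓ centralizer (Z : Set G),
      ∃ b ∈ H ⊓ normalizer ((inducedFunctor W (S : Subgroup G) : Subgroup G) : Set G), h = a * b := by
  have hp : p.Prime := Fact.out
  have hZS : Z ≤ (S : Subgroup G) := hZ.le.trans ((CfsgLib.PGroup.omegaOne_le p _).trans inf_le_left)
  set R := (S : Subgroup G) ⊓ centralizer (Q : Set G) with hR
  set P := Q ⊔ R with hP
  have hPS : P ≤ (S : Subgroup G) := sup_le hQS inf_le_left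
  set C := H ⊓ centralizer (Q : Set G) with hC
  have hCn : ∀ h ∈ H, ∀ c ∈ C, h * c * h⁻¹ ∈ C := by
    intro h hh c hc
    obtain ⟨hcH, hcQ⟩ := mem_inf.1 hc
    refine mem_inf.2 ⟨mul_mem (mul_mem hh hcH) (inv_mem hh), mem_centralizer_iff.2 fun q hq => ?_⟩
    have h1 : h⁻¹ * q * h ∈ Q := by simpa using (mem_normalizer_iff.1 (inv_mem (hQH hh)) q).1 hq
    have h2 := mem_centralizer_iff.1 hcQ _ h1
    calc q * (h * c * h⁻¹) = h * (h⁻¹ * q * h * c) * h⁻¹ := by group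
      _ = h * (c * (h⁻¹ * q * h)) * h⁻¹ := by rw [h2]
      _ = h * c * h⁻¹ * q := by group
  -- Frattini
  set C' := C.subgroupOf H with hC'
  haveI : C'.Normal := ⟨fun c hc h => hCn h h.2 c hc⟩
  let SH : Sylow p H := S.subtype hSH
  obtain ⟨U, hU⟩ := CfsgLib.Transfer.exists_sylow_map_eq_inf C' SH
  have hUR : ((U : Subgroup C').map C'.subtype).map H.subtype = R := by
    rw [hU, show (SH : Subgroup H) = (S : Subgroup G).subgroupOf H from Sylow.coe_subtype _ _, hC', Subgroup.subgroupOf, Subgroup.subgroupOf,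
      ← Subgroup.comap_inf, map_comap_eq, range_subtype, hR, hC]
    apply le_antisymm
    · rintro x ⟨-, hx⟩
      obtain ⟨h1, h2⟩ := mem_inf.1 hx
      first
        | exact mem_inf.2 ⟨h1, (mem_inf.1 h2).2⟩
        | exact mem_inf.2 ⟨h2, (mem_inf.1 h1).2⟩
    · rintro x ⟨h1, h2⟩
      first
        | exact mem_inf.2 ⟨hSH h1, mem_inf.2 ⟨h1, mem_inf.2 ⟨hSH h1, h2⟩⟩⟩
        | exact mem_inf.2 ⟨hSH h1, mem_inf.2 ⟨mem_inf.2 ⟨hSH h1, h2⟩, h1⟩⟩
  have hfr := Sylow.normalizer_sup_eq_top U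
  set M := H ⊓ normalizer (P : Set G) with hM
  have hred : ∀ h ∈ H, ∃ c ∈ C, ∃ m ∈ M, h = c * m := by
    intro h hh
    obtain ⟨c, hc, m, hm, hcm⟩ := mem_sup_of_normal_left.1
      (show (⟨h, hh⟩ : H) ∈ C' ⊔ normalizer (((U : Subgroup C').map C'.subtype : Subgroup H) : Set H) by
        rw [sup_comm, hfr]; exact mem_top _)
    refine ⟨(c : G), hc, (m : G), mem_inf.2 ⟨m.2, ?_⟩, congrArg Subtype.val hcm.symm⟩
    have h1 : (m : G) ∈ normalizer (R : Set G) := by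
      rw [← hUR]
      exact le_normalizer_map H.subtype (mem_map_of_mem _ hm)
    have h2 : (m : G) ∈ normalizer (Q : Set G) := hQH m.2
    refine mem_normalizer_fintype (S := ((P : Subgroup G) : Set G)) fun y hy => ?_
    have h3 : P.map (MulAut.conj (m : G)).toMonoidHom ≤ P := by
      rw [hP, Subgroup.map_sup]
      refine sup_le_sup ?_ ?_
      · rintro _ ⟨z, hz, rfl⟩; exact (mem_normalizer_iff.1 h2 z).1 hz
      · rintro _ ⟨z, hz, rfl⟩; exact (mem_normalizer_iff.1 h1 z).1 hz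
    exact h3 ⟨y, hy, rfl⟩
  -- the constrained section
  have hSP : (S : Subgroup G) ≤ normalizer (P : Set G) := by
    intro s hs
    refine mem_normalizer_fintype (S := ((P : Subgroup G) : Set G)) fun y hy => ?_
    have h2 : s ∈ normalizer (Q : Set G) := hQH (hSH hs)
    have h3 : P.map (MulAut.conj s).toMonoidHom ≤ P := by
      rw [hP, Subgroup.map_sup]
      refine sup_le_sup ?_ ?_
      · rintro _ ⟨z, hz, rfl⟩; exact (mem_normalizer_iff.1 h2 z).1 hz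
      · rintro _ ⟨z, hz, rfl⟩
        have hz' := mem_inf.1 hz
        exact mem_inf.2 ⟨mul_mem (mul_mem hs hz'.1) (inv_mem hs),
          (mem_inf.1 (hCn s (hSH hs) z (mem_inf.2 ⟨hSH hz'.1, hz'.2⟩))).2⟩
    exact h3 ⟨y, hy, rfl⟩
  have hSM : (S : Subgroup G) ≤ M := le_inf hSH hSP
  have hQM : Q ≤ M := hQS.trans hSM
  set P' := P.subgroupOf M with hP'
  haveI hP'n : P'.Normal := ⟨fun y hy m => (mem_normalizer_iff.1 (mem_inf.1 m.2).2 y).1 hy⟩
  have hP'p : IsPGroup p P' := (S.2.to_le hPS).comap_subtype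
  let SM : Sylow p M := S.subtype hSM
  have hSM0 : (SM : Subgroup M) = (S : Subgroup G).subgroupOf M := Sylow.coe_subtype _ _
  have hle : (SM : Subgroup M) ⊓ centralizer ((pCore p M : Subgroup M) : Set M) ≤ pCore p M := by
    refine le_trans ?_ (CfsgLib.Cores.le_pCore hP'p)
    rintro y ⟨hy, hyC⟩
    rw [hSM0] at hy
    refine mem_sup_right (mem_inf.2 ⟨hy, mem_centralizer_iff.2 fun q hq => ?_⟩)
    exact congrArg Subtype.val (mem_centralizer_iff.1 hyC (⟨q, hQM hq⟩ : M)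
      (CfsgLib.Cores.le_pCore hP'p (mem_sup_left hq)))
  obtain ⟨K, hKn, hKc, hKle⟩ := exists_coprime_core SM hle
  set K₀ := K.map M.subtype with hK₀
  have hK : K₀.subgroupOf M = K := comap_map_eq_self_of_injective M.subtype_injective K
  haveI : (K₀.subgroupOf M).Normal := hK.symm ▸ hKn
  set q := QuotientGroup.mk' (K₀.subgroupOf M) with hq
  have hKp : ∀ x : M, x ∈ K → (∃ k, x ^ p ^ k = 1) → x = 1 := by
    intro x hx ⟨k, hk⟩
    exact orderOf_eq_one_iff.1 (Nat.eq_one_of_dvd_coprimes (hKc.pow_right k)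
      (Subgroup.orderOf_dvd_natCard K hx) (orderOf_dvd_of_pow_eq_one hk))
  have hpc : IsPGroup p ↥(pCore p M) := CfsgLib.Cores.isPGroup_pCore p
  haveI hpn : (pCore p M).Normal := by
    have := CfsgLib.Cores.pCore_characteristic (G := M) p
    infer_instance
  have hqker : ∀ x : M, q x = 1 ↔ x ∈ K := fun x => by
    rw [hq, QuotientGroup.mk'_apply, QuotientGroup.eq_one_iff, hK]
  have hcon : centralizer ((pCore p (↥M ⧸ K₀.subgroupOf M) : Subgroup (↥M ⧸ K₀.subgroupOf M)) :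
      Set (↥M ⧸ K₀.subgroupOf M)) ≤ pCore p (↥M ⧸ K₀.subgroupOf M) := by
    haveI : ((pCore p M).map q).Normal := hpn.map q (QuotientGroup.mk'_surjective _)
    have himg : (pCore p M).map q ≤ pCore p (↥M ⧸ K₀.subgroupOf M) :=
      CfsgLib.Cores.le_pCore (hpc.map q)
    intro x hx
    obtain ⟨y, rfl⟩ := QuotientGroup.mk'_surjective _ x
    have hy : y ∈ centralizer ((pCore p M : Subgroup M) : Set M) := by
      refine mem_centralizer_iff.2 fun z hz => ?_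
      have h1 : q (z * y * z⁻¹ * y⁻¹) = 1 := by
        rw [map_mul, map_mul, map_mul, map_inv, map_inv,
          show q z * q y = q y * q z from mem_centralizer_iff.1 hx (q z) (himg ⟨z, hz, rfl⟩)]
        group
      have h2 : z * y * z⁻¹ * y⁻¹ ∈ pCore p M := by
        rw [show z * y * z⁻¹ * y⁻¹ = z * (y * z⁻¹ * y⁻¹) by group]
        exact mul_mem hz (hpn.conj_mem _ (inv_mem hz) y)
      obtain ⟨k, hk⟩ := hpc ⟨_, h2⟩
      have h3 := hKp _ ((hqker _).1 h1) ⟨k, congrArg Subtype.val hk⟩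
      calc z * y = z * y * z⁻¹ * y⁻¹ * (y * z) := by group
        _ = y * z := by rw [h3, one_mul]
    obtain ⟨k, hk, r, hr, rfl⟩ := mem_sup_of_normal_left.1 (hKle hy)
    show q (k * r) ∈ _
    rw [map_mul, (hqker k).2 hk, one_mul]
    exact himg ⟨r, hr, rfl⟩
  let T : Sylow p (↥M ⧸ K₀.subgroupOf M) := SM.mapSurjective (QuotientGroup.mk'_surjective _)
  have hT : (T : Subgroup (↥M ⧸ K₀.subgroupOf M)) = (SM : Subgroup M).map q := Sylow.coe_mapSurjective _ _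
  -- lifting
  have hcomm : ∀ (x : M) (z : G) (hz : z ∈ Z), Commute (q x) (q ⟨z, hSM (hZS hz)⟩) → (x : G) * z = z * x := by
    intro x z hz hx
    set z' : M := ⟨z, hSM (hZS hz)⟩ with hz'
    have h1 : q (x * z' * x⁻¹ * z'⁻¹) = 1 := by
      rw [map_mul, map_mul, map_mul, map_inv, map_inv, hx.eq]; group
    have h2 : (x : G) * z * (x : G)⁻¹ * z⁻¹ ∈ Q :=
      mul_mem ((mem_normalizer_iff.1 (hQH (mem_inf.1 x.2).1) z).1 (hZQ hz)) (inv_mem (hZQ hz))
    obtain ⟨k, hk⟩ := S.2 ⟨_, hQS h2⟩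
    have h3 := hKp _ ((hqker _).1 h1) ⟨k, Subtype.ext (by simpa using congrArg Subtype.val hk)⟩
    have h4 : (x : G) * z * (x : G)⁻¹ * z⁻¹ = 1 := congrArg Subtype.val h3
    calc (x : G) * z = (x : G) * z * (x : G)⁻¹ * z⁻¹ * (z * x) := by group
      _ = z * x := by rw [h4, one_mul]
  intro h hh
  obtain ⟨c, hc, m, hm, rfl⟩ := hred h hh
  obtain ⟨qa, hqa, qb, hqb, hab⟩ := hfac M K₀ hcon T (q ⟨m, hm⟩)
  obtain ⟨b₀, rfl⟩ := QuotientGroup.mk'_surjective _ qb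
  have hWmap : inducedFunctor W (T : Subgroup (↥M ⧸ K₀.subgroupOf M)) = (inducedFunctor W (SM : Subgroup M)).map q := by
    rw [hT]
    exact (map_induced hW q SM.2 fun x hx hx1 => by
      obtain ⟨k, hk⟩ := SM.2 ⟨x, hx⟩
      exact hKp x ((hqker x).1 hx1) ⟨k, congrArg Subtype.val hk⟩).symm
  rw [hWmap] at hqb
  obtain ⟨k, hk, hkb⟩ := exists_mul_mem_normalizer (p := p) (K := K₀.subgroupOf M) (hK.symm ▸ hKc)
    (SM.2.to_le (induced_le _)) hqb
  have hWS : (inducedFunctor W (SM : Subgroup M)).map M.subtype = inducedFunctor W (S : Subgroup G) := by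
    rw [map_induced hW M.subtype SM.2 (fun x _ hx => Subtype.ext hx), hSM0, map_subgroupOf_eq_of_le hSM]
  set b := k * b₀ with hb
  set a := (⟨m, hm⟩ : M) * b⁻¹ with ha
  have hqae : q a = qa := by
    rw [ha, map_mul, map_inv, hb, map_mul, (QuotientGroup.eq_one_iff k).2 hk |> fun e => (show q k = 1 from e),
      one_mul, hab, mul_inv_cancel_right]
  refine ⟨c * (a : G), mem_inf.2 ⟨mul_mem (mem_inf.1 hc).1 (mem_inf.1 a.2).1, ?_⟩, (b : G),
    mem_inf.2 ⟨(mem_inf.1 b.2).1, ?_⟩, ?_⟩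
  · refine mul_mem (centralizer_le hZQ (mem_inf.1 hc).2) (mem_centralizer_iff.2 fun z hz => (hcomm a z hz ?_).symm)
    rw [hqae]
    refine (mem_centralizer_iff.1 hqa _ (CfsgLib.PGroup.mem_omegaOne ?_ ?_)).symm
    · have hz' : z ∈ (S : Subgroup G) ⊓ centralizer ((S : Subgroup G) : Set G) :=
        CfsgLib.PGroup.omegaOne_le p _ (hZ ▸ hz)
      rw [hT]
      refine mem_inf.2 ⟨mem_map_of_mem q (by rw [hSM0]; exact (mem_inf.1 hz').1), mem_centralizer_iff.2 ?_⟩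
      rintro _ ⟨y, hy, rfl⟩
      rw [← map_mul, ← map_mul]
      rw [SetLike.mem_coe, hSM0] at hy
      exact congrArg q (Subtype.ext (mem_centralizer_iff.1 (mem_inf.1 hz').2 (y : G) hy))
    · rw [← map_pow]
      refine (hqker _).2 ?_
      have he : z ^ p = 1 := by
        have h9 := hZ ▸ hz
        exact ((CfsgLib.PGroup.mem_omegaOne_iff_of_comm (fun u hu v hv =>
          mem_centralizer_iff.1 (mem_inf.1 hv).2 u (mem_inf.1 hu).1)).1 h9).2
      rw [show (⟨z, hSM (hZS hz)⟩ : M) ^ p = 1 from Subtype.ext he]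
      exact one_mem _
  · rw [← hWS]
    exact le_normalizer_map M.subtype (mem_map_of_mem _ hkb)
  · rw [ha]
    push_cast
    group

/-- Let p be a prime, G a finite group with Sylow p-subgroup S, and W₁, W₂ two isomorphism-invariant p-group functors (W assigns to every group Q a subgroup W(Q), nontrivial whenever Q is a nontrivial finite p-group, and every isomorphism from a finite p-group Q onto a group R carries W(Q) onto W(R)). Suppose that G* = C_{G*}(Ω₁Z(S*)) N_{G*}(W₁(S*)) = C_{G*}(Ω₁Z(S*)) N_{G*}(W₂(S*)) = N_{G*}(W₁(S*)) N_{G*}(W₂(S*)) whenever G* = K/R is a section of G with C_{G*}(O_p(G*)) ≤ O_p(G*) and S* is a Sylow p-subgroup of G*, where Ω₁Z denotes the subgroup generated by the elements of order dividing p in the centre. Suppose also Ω₁Z(S) ≤ W₁(S) ∩ W₂(S), and let A be the normal closure of Ω₁Z(S) in N_G(W₁(S)). Then A is an elementary abelian subgroup of S, strongly closed in S with respect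 to G, and A controls strong fusion in G. -/
theorem result {G : Type u} [Group G] [Finite G] {p : ℕ} [Fact p.Prime] (S : Sylow p G) (W₁ W₂ : ∀ (Q : Type u) [Group Q], Subgroup Q) (hW₁ : Cfsg.IsCharPFunctor.{u} p W₁) (hW₂ : Cfsg.IsCharPFunctor.{u} p W₂) (hfac : ∀ (K R : Subgroup G) [hR : (R.subgroupOf K).Normal], Subgroup.centralizer ((Cfsg.pCore p (↥K ⧸ R.subgroupOf K) : Subgroup (↥K ⧸ R.subgroupOf K)) : Set (↥K ⧸ R.subgroupOf K)) ≤ Cfsg.pCore p (↥K ⧸ R.subgroupOf K) → ∀ T : Sylow p (↥K ⧸ R.subgroupOf K), (∀ x : (↥K ⧸ R.subgroupOf K), ∃ a ∈ Subgroup.centralizer ((Cfsg.omegaOne p ((T : Subgroup (↥K ⧸ R.subgroupOf K)) ⊓ Subgroup.centralizer (((T : Subgroup (↥K ⧸ R.subgroupOf K)) : Subgroup (↥K ⧸ R.subgroupOf K)) : Set (↥K ⧸ R.subgroupOf K))) : Subgroup (↥K ⧸ R.subgroupOf K)) : Set (↥K ⧸ R.subgroupOf K)), ∃ b ∈ Subgroup.normalizer ((Cfsg.inducedFunctor (G := (↥K ⧸ R.subgroupOf K)) W₁ (T : Subgroup (↥K ⧸ R.subgroupOf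 K)) : Subgroup (↥K ⧸ R.subgroupOf K)) : Set (↥K ⧸ R.subgroupOf K)), x = a * b) ∧ (∀ x : (↥K ⧸ R.subgroupOf K), ∃ a ∈ Subgroup.centralizer ((Cfsg.omegaOne p ((T : Subgroup (↥K ⧸ R.subgroupOf K)) ⊓ Subgroup.centralizer (((T : Subgroup (↥K ⧸ R.subgroupOf K)) : Subgroup (↥K ⧸ R.subgroupOf K)) : Set (↥K ⧸ R.subgroupOf K))) : Subgroup (↥K ⧸ R.subgroupOf K)) : Set (↥K ⧸ R.subgroupOf K)), ∃ b ∈ Subgroup.normalizer ((Cfsg.inducedFunctor (G := (↥K ⧸ R.subgroupOf K)) W₂ (T : Subgroup (↥K ⧸ R.subgroupOf K)) : Subgroup (↥K ⧸ R.subgroupOf K)) : Set (↥K ⧸ R.subgroupOf K)), x = a * b) ∧ (∀ x : (↥K ⧸ R.subgroupOf K), ∃ a ∈ Subgroup.normalizer ((Cfsg.inducedFunctor (G := (↥K ⧸ R.subgroupOf K)) W₁ (T : Subgroup (↥K ⧸ R.subgroupOf K)) : Subgroup (↥K ⧸ R.subgroupOf K)) : Set (↥K ⧸ R.subgroupOf K)), ∃ b ∈ Subgroup.normalizer ((Cfsg.inducedFunctor (G := (↥K ⧸ R.subgroupOf K)) W₂ (T : Subgroup (↥K ⧸ R.subgroupOf K)) : Subgroup (↥K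 ⧸ R.subgroupOf K)) : Set (↥K ⧸ R.subgroupOf K)), x = a * b)) (hZ : Cfsg.omegaOne p ((S : Subgroup G) ⊓ Subgroup.centralizer (((S : Subgroup G) : Subgroup G) : Set G)) ≤ Cfsg.inducedFunctor (G := G) W₁ (S : Subgroup G) ⊓ Cfsg.inducedFunctor (G := G) W₂ (S : Subgroup G)) (N₁ : Subgroup G) (hN₁ : N₁ = Subgroup.normalizer ((Cfsg.inducedFunctor (G := G) W₁ (S : Subgroup G) : Subgroup G) : Set G)) (A : Subgroup G) (hA : A = (Subgroup.normalClosure (((Cfsg.omegaOne p ((S : Subgroup G) ⊓ Subgroup.centralizer (((S : Subgroup G) : Subgroup G) : Set G))).subgroupOf N₁ : Subgroup ↥N₁) : Set ↥N₁)).map N₁.subtype) : A ≤ (S : Subgroup G) ∧ Cfsg.IsElementaryAbelian p A ∧ Cfsg.IsStronglyClosed A (S : Subgroup G) ∧ Cfsg.ControlsStrongFusion p A := by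
  set Z := Cfsg.omegaOne p ((S : Subgroup G) ⊓ Subgroup.centralizer ((S : Subgroup G) : Set G)) with hZdef
  set V₁ := Cfsg.inducedFunctor (G := G) W₁ (S : Subgroup G) with hV₁
  set V₂ := Cfsg.inducedFunctor (G := G) W₂ (S : Subgroup G) with hV₂
  set N₂ := Subgroup.normalizer (V₂ : Set G) with hN₂
  have hSN₁ : (S : Subgroup G) ≤ N₁ := hN₁ ▸ le_normalizer.trans (normalizer_induced_ge hW₁ S.2)
  have hSN₂ : (S : Subgroup G) ≤ N₂ := le_normalizer.trans (normalizer_induced_ge hW₂ S.2)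
  have f₁ := factor S hW₂ Z rfl (fun K R _ hc T x => (hfac K R hc T).2.1 x) N₁ hSN₁ V₁ (induced_le _)
    hN₁.le (hZ.trans inf_le_left)
  have f₂ := factor S hW₁ Z rfl (fun K R _ hc T x => (hfac K R hc T).1 x) N₂ hSN₂ V₂ (induced_le _)
    le_rfl (hZ.trans inf_le_right)
  rw [← hV₂] at f₁
  rw [← hV₁, ← hN₁] at f₂
  have hmemA : ∀ n ∈ N₁, ∀ z ∈ Z, n * z * n⁻¹ ∈ A := by
    intro n hn z hz
    rw [hA]
    have hzN : z ∈ N₁ := hSN₁ ((CfsgLib.PGroup.omegaOne_le p _).trans inf_le_left hz)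
    refine ⟨⟨n, hn⟩ * ⟨z, hzN⟩ * ⟨n, hn⟩⁻¹, ?_, rfl⟩
    exact Subgroup.normalClosure_normal.conj_mem _ (Subgroup.subset_normalClosure (show (⟨z, hzN⟩ : N₁) ∈ _ from hz)) _
  have hAle : ∀ X : Subgroup G, (∀ n ∈ N₁, ∀ z ∈ Z, n * z * n⁻¹ ∈ X) → A ≤ X := by
    intro X hX
    rw [hA, Subgroup.map_le_iff_le_comap]
    refine (Subgroup.closure_le _).2 fun y hy => ?_
    obtain ⟨z, hz, hzy⟩ := Group.mem_conjugatesOfSet_iff.1 hy
    obtain ⟨n, rfl⟩ := isConj_iff.1 hzy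
    exact hX n n.2 z hz
  have hAn₁ : N₁ ≤ Subgroup.normalizer (A : Set G) := fun h hh =>
    Subgroup.mem_normalizer_fintype (S := ((A : Subgroup G) : Set G)) fun y hy =>
      hAle (A.comap (MulAut.conj h).toMonoidHom) (fun n hn z hz => by
        show h * (n * z * n⁻¹) * h⁻¹ ∈ A
        rw [show h * (n * z * n⁻¹) * h⁻¹ = h * n * z * (h * n)⁻¹ by group]
        exact hmemA _ (mul_mem hh hn) z hz) hy
  have hAn₂ : N₂ ≤ Subgroup.normalizer (A : Set G) := fun h hh =>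
    Subgroup.mem_normalizer_fintype (S := ((A : Subgroup G) : Set G)) fun y hy =>
      hAle (A.comap (MulAut.conj h).toMonoidHom) (fun n hn z hz => by
        show h * (n * z * n⁻¹) * h⁻¹ ∈ A
        obtain ⟨a, ha, b, hb, hab⟩ := f₁ n⁻¹ (inv_mem hn)
        have hn' : n = b⁻¹ * a⁻¹ := by rw [← mul_inv_rev, ← hab, inv_inv]
        have ha' : a⁻¹ * z * a = z := by
          rw [mul_assoc, Subgroup.mem_centralizer_iff.1 (Subgroup.mem_inf.1 ha).2 z hz, inv_mul_cancel_left]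
        obtain ⟨a', ha2, b', hb2, hab'⟩ := f₂ (h * b⁻¹)⁻¹
          (inv_mem (mul_mem hh (inv_mem (Subgroup.mem_inf.1 hb).2)))
        have hb' : h * b⁻¹ = b'⁻¹ * a'⁻¹ := by rw [← mul_inv_rev, ← hab', inv_inv]
        have ha3 : a'⁻¹ * z * a' = z := by
          rw [mul_assoc, Subgroup.mem_centralizer_iff.1 (Subgroup.mem_inf.1 ha2).2 z hz, inv_mul_cancel_left]
        have e : h * (n * z * n⁻¹) * h⁻¹ = b'⁻¹ * z * b'⁻¹⁻¹ := by
          calc h * (n * z * n⁻¹) * h⁻¹ = (h * b⁻¹) * (a⁻¹ * z * a) * (h * b⁻¹)⁻¹ := by rw [hn']; group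
            _ = (b'⁻¹ * a'⁻¹) * z * (b'⁻¹ * a'⁻¹)⁻¹ := by rw [ha', hb']
            _ = b'⁻¹ * (a'⁻¹ * z * a') * b'⁻¹⁻¹ := by group
            _ = b'⁻¹ * z * b'⁻¹⁻¹ := by rw [ha3]
        rw [e]
        exact hmemA _ (inv_mem (Subgroup.mem_inf.1 hb2).2) z hz) hy
  have hAV : A ≤ V₁ := hAle _ fun n hn z hz =>
    (Subgroup.mem_normalizer_iff.1 (hN₁.le hn) z).1 (hZ.trans inf_le_left hz)
  have hAS : A ≤ (S : Subgroup G) := hAV.trans (induced_le _)
  have hcV : A ≤ Subgroup.centralizer (V₁ : Set G) := hAle _ fun n hn z hz => by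
    refine Subgroup.mem_centralizer_iff.2 fun v hv => ?_
    have hv' : n⁻¹ * v * n ∈ V₁ := by
      simpa using (Subgroup.mem_normalizer_iff.1 (inv_mem (hN₁.le hn)) v).1 hv
    have h1 := Subgroup.mem_centralizer_iff.1 (Subgroup.mem_inf.1 (CfsgLib.PGroup.omegaOne_le p _ hz)).2 _
      (induced_le _ hv')
    calc v * (n * z * n⁻¹) = n * (n⁻¹ * v * n * z) * n⁻¹ := by group
      _ = n * (z * (n⁻¹ * v * n)) * n⁻¹ := by rw [h1]
      _ = n * z * n⁻¹ * v := by group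
  have hel : Cfsg.IsElementaryAbelian p A := by
    refine CfsgLib.PGroup.elemAb_mono (CfsgLib.PGroup.elemAb_omegaOne_of_comm
      (K := V₁ ⊓ Subgroup.centralizer (V₁ : Set G)) fun a ha b hb =>
        Subgroup.mem_centralizer_iff.1 (Subgroup.mem_inf.1 hb).2 a (Subgroup.mem_inf.1 ha).1) ?_
    refine hAle _ fun n hn z hz => CfsgLib.PGroup.mem_omegaOne
      (Subgroup.mem_inf.2 ⟨hAV (hmemA n hn z hz), hcV (hmemA n hn z hz)⟩) ?_
    rw [conj_pow, ((CfsgLib.PGroup.mem_omegaOne_iff_of_comm (fun u hu v hv =>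
      Subgroup.mem_centralizer_iff.1 (Subgroup.mem_inf.1 hv).2 u (Subgroup.mem_inf.1 hu).1)).1 hz).2,
      mul_one, mul_inv_cancel]
  -- fusion
  have h𝓦 : ∀ W' ∈ ({W₁, W₂} : Set (∀ (Q : Type u) [Group Q], Subgroup Q)), Cfsg.IsCharPFunctor.{u} p W' := by
    rintro _ (rfl | rfl)
    · exact hW₁
    · exact hW₂
  have hctrl := (ctrlAll_iff h𝓦).2 (by
    simpa only [Set.image_insert_eq, Set.image_singleton] using
      Cfsg.Agent.S1996.result W₁ W₂ hW₁ hW₂ fun K R _ hc T x => (hfac K R hc T).2.2 x)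
  have hfus : ∀ (B : Set G) (g : G), B ⊆ (S : Subgroup G) → (fun b => g * b * g⁻¹) '' B ⊆ (S : Subgroup G) →
      ∃ x ∈ Subgroup.normalizer (A : Set G), ∀ b ∈ B, g * b * g⁻¹ = x * b * x⁻¹ := by
    intro B g hB hg
    have h1 := (hctrl S (Subgroup.closure B) g (Subgroup.mem_top g) ((Subgroup.closure_le _).2 hB)
      (image_subset_iff.1 hg)).mono (𝒩' := {Subgroup.normalizer (A : Set G)}) le_rfl (by
        rintro _ ⟨W, hW', rfl⟩
        refine ⟨_, rfl, ?_⟩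
        rcases hW' with rfl | rfl
        · exact hN₁.ge.trans hAn₁
        · exact hAn₂) le_rfl
    obtain ⟨x, hx, hxb⟩ := h1.exists_mem
    exact ⟨x, hx, fun b hb => (hxb b (Subgroup.subset_closure hb)).symm⟩
  refine ⟨hAS, hel, ⟨hAS, fun x hx g hg => ?_⟩, ⟨S, hAS, fun B hB => ⟨hB, fun g hg => hfus B g hB hg⟩⟩⟩
  obtain ⟨y, hy, hyx⟩ := hfus {x} g (Set.singleton_subset_iff.2 (hAS hx)) (by
    rintro _ ⟨_, rfl, rfl⟩; exact hg)
  rw [hyx x rfl]
  exact (Subgroup.mem_normalizer_iff.1 hy x).1 hx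

end Cfsg.Agent.S1997
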