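import Cfsg.Statements.S1998
import Cfsg.Agent.Lib.Techniques.Functor.IndexP

set_option autoImplicit false
open Cfsg

open scoped commutatorElement

namespace Cfsg.Agent.S1998

universe u

open Subgroup CfsgLib.Techniques.Functor

/-- The transfer relation at an element of a normal subgroup lying in `H` and in `G'`. -/
theorem prod_transfer_eq_one {G : Type*} [Group G] [Finite G] {H N : Subgroup G} (hN : N.Normal) (hNH : N ≤ H)
    {A : Type*} [CommGroup A] (φ : ↥H →* A) {x : G} (hx : x ∈ N)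
    (hxG : x ∈ ⁅(⊤ : Subgroup G), (⊤ : Subgroup G)⁆) {a : A}
    (ha : ∀ t : G, φ ⟨t⁻¹ * x * t, hNH (by simpa using hN.conj_mem x hx t⁻¹)⟩ = a) :
    a ^ H.index = 1 := by
  classical
  letI := Fintype.ofFinite (G ⧸ H)
  have hxH : ∀ t : G, t⁻¹ * x * t ∈ H := fun t => hNH (by simpa using hN.conj_mem x hx t⁻¹)
  have hxq : ∀ q : G ⧸ H, x⁻¹ • q = q := by
    intro q
    induction q using QuotientGroup.induction_on with
    | _ t =>
      show ((x⁻¹ * t : G) : G ⧸ H) = t
      rw [QuotientGroup.eq]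
      simpa [mul_assoc] using hxH t
  have h0 : MonoidHom.transfer φ x = 1 := Abelianization.commutator_subset_ker _ hxG
  let T : H.LeftTransversal := ⟨Set.range Quotient.out,
    isComplement_range_left (fun q : G ⧸ H => QuotientGroup.out_eq' q)⟩
  have hT : ∀ q : G ⧸ H, ((T.2.leftQuotientEquiv q : T.1) : G) = q.out :=
    fun q => IsComplement.leftQuotientEquiv_apply (fun q : G ⧸ H => QuotientGroup.out_eq' q) q
  rw [MonoidHom.transfer_def φ T, leftTransversals.diff] at h0
  rw [← h0, Finset.prod_eq_pow_card (b := a), Finset.card_univ]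
  · simp [index_eq_card]
  intro q _
  rw [← ha q.out]
  refine congrArg φ (Subtype.ext ?_)
  show ((T.2.leftQuotientEquiv q : T.1) : G)⁻¹ *
    (((x • T).2.leftQuotientEquiv q : (x • T).1) : G) = q.out⁻¹ * x * q.out
  rw [smul_apply_eq_smul_apply_inv_smul, smul_eq_mul, hxq q, hT, mul_assoc]

variable {G : Type u} [Group G] [Finite G] {p : ℕ} [Fact p.Prime]
  {𝓦 : Set (∀ (Q : Type u) [Group Q], Subgroup Q)}

/-- The derived subgroup of the Sylow subgroup lies in the transfer target. -/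
theorem derived_le_tgt (h𝓦 : ∀ W ∈ 𝓦, IsCharPFunctor.{u} p W) (hne : 𝓦.Nonempty) (S : Sylow p G) :
    (S : Subgroup G) ⊓ ⁅normalizer ((S : Subgroup G) : Set G), normalizer ((S : Subgroup G) : Set G)⁆ ≤
      tgt 𝓦 (S : Subgroup G) := by
  obtain ⟨W, hW⟩ := hne
  exact (inf_le_inf_left _ (commutator_mono (normalizer_induced_ge (h𝓦 W hW) S.2)
    (normalizer_induced_ge (h𝓦 W hW) S.2))).trans (le_tgt hW _)

/-- Let p be a prime, G a finite group with Sylow p-subgroup S, and 𝓦 a nonempty set of isomorphism-invariant p-group functors (W assigns to every group Q a subgroup W(Q), nontrivial whenever Q is a nontrivial finite p-group, and every isomorphism from a finite p-group Q onto a group R carries W(Q) onto W(R)). Suppose the induced conjugacy functors control transfer in every section of G other than G itself, but not in G. Let T be the subgroup generated by the S ∩ (N_G(W(S)))', W ∈ 𝓦, and M = N_G(T ∩ O_p(G)). Then: C_G(O_p(G)) ≤ O_p(G); M is a proper subgroup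 of G containing every proper subgroup of G that contains S (the unique maximal subgroup over S); [O_p(G), M] ≤ O_p(G) ∩ M' ≤ O_p(G) ∩ T; and every element u of S outside O_p(G) satisfies [X, u, …, u] ≰ Y with p − 1 entries u, for some chief factor X/Y of G with X ≤ O_p(G). -/
theorem result {G : Type u} [Group G] [Finite G] {p : ℕ} [Fact p.Prime] (S : Sylow p G) (𝓦 : Set (∀ (Q : Type u) [Group Q], Subgroup Q)) (h𝓦 : ∀ W ∈ 𝓦, Cfsg.IsCharPFunctor.{u} p W) (hne : 𝓦.Nonempty) (hsec : ∀ (K R : Subgroup G) [hR : (R.subgroupOf K).Normal], (K = ⊤ → R ≠ ⊥) → Cfsg.FamilyControlsTransferIn p ((fun W => Cfsg.inducedFunctor (G := (↥K ⧸ R.subgroupOf K)) W) '' 𝓦) ⊤) (hG : ¬ Cfsg.FamilyControlsTransferIn p ((fun W => Cfsg.inducedFunctor (G := G) W) '' 𝓦) ⊤) (T M : Subgroup G) (hT : T = (⨆ W ∈ 𝓦, (S : Subgroup G) ⊓ ⁅Subgroup.normalizer ((Cfsg.inducedFunctor (G := G) W (S : Subgroup G) : Subgroup G) : Set G), Subgroup.normalizer ((Cfsg.inducedFunctor (G := G) W (S : Subgroup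 G) : Subgroup G) : Set G)⁆)) (hM : M = Subgroup.normalizer ((T ⊓ Cfsg.pCore p G : Subgroup G) : Set G)) : Subgroup.centralizer ((Cfsg.pCore p G : Subgroup G) : Set G) ≤ Cfsg.pCore p G ∧ (M ≠ ⊤ ∧ ∀ H : Subgroup G, (S : Subgroup G) ≤ H → H ≠ ⊤ → H ≤ M) ∧ (⁅Cfsg.pCore p G, M⁆ ≤ Cfsg.pCore p G ⊓ ⁅M, M⁆ ∧ Cfsg.pCore p G ⊓ ⁅M, M⁆ ≤ Cfsg.pCore p G ⊓ T) ∧ ∀ u : G, u ∈ (S : Subgroup G) → u ∉ Cfsg.pCore p G → ∃ U V : Subgroup G, Cfsg.IsChiefFactor U V ∧ U ≤ Cfsg.pCore p G ∧ ¬ Cfsg.iterCommutator U (Subgroup.zpowers u) (p - 1) ≤ V := by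
  have hp : p.Prime := Fact.out
  have hTt : T = tgt 𝓦 (S : Subgroup G) := hT
  subst hTt hM
  set P := pCore p G with hP
  haveI hPn : P.Normal := by
    have := CfsgLib.Cores.pCore_characteristic (G := G) p
    infer_instance
  have hPS : P ≤ (S : Subgroup G) := CfsgLib.Cores.pCore_le_sylow S
  set R := tgt 𝓦 (S : Subgroup G) with hR
  -- the proper sections
  have hprop : ∀ (K L : Subgroup G) [(L.subgroupOf K).Normal], (K = ⊤ → L ≠ ⊥) →
      TgtOK p 𝓦 (↥K ⧸ L.subgroupOf K) := fun K L _ h => (tgtOK_iff h𝓦).2 (hsec K L h)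
  have hnot : ¬ TgtOK p 𝓦 G := fun h => hG ((tgtOK_iff h𝓦).1 h)
  have hproper : ∀ H : Subgroup G, H ≠ ⊤ → TgtOK p 𝓦 ↥H := by
    intro H hH
    exact tgtOK_congr ((QuotientGroup.quotientMulEquivOfEq (bot_subgroupOf H)).trans
      (QuotientGroup.quotientBot)) h𝓦 (hprop H ⊥ fun h => absurd h hH)
  have hsubS : ∀ H : Subgroup G, H ≠ ⊤ → (S : Subgroup G) ≤ H → (S : Subgroup G) ⊓ ⁅H, H⁆ ≤ R :=
    fun H hH hSH => sub_transfer_sylow h𝓦 S hSH (hproper H hH)
  -- the reduction to `O_p`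
  have hred : (Subgroup.centralizer (P : Set G) ≤ P →
      P ⊓ ⁅(⊤ : Subgroup G), (⊤ : Subgroup G)⁆ ≤ R) → False := by
    intro hyp
    refine hnot (tgtOK_of_constrained h𝓦 G fun Δ _ _ hΔ hc S' _ => ?_)
    obtain ⟨K, L, hL, ⟨e⟩⟩ := hΔ.exists_quotient
    by_cases h : K = ⊤ → L ≠ ⊥
    · exact (le_inf (inf_le_left.trans (CfsgLib.Cores.pCore_le_sylow S')) inf_le_right).trans
        (tgtOK_congr e h𝓦 (hprop K L h) S')
    · simp only [not_forall, not_not] at h
      obtain ⟨hK, hL0⟩ := h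
      subst hK hL0
      let e' : G ≃* Δ := Subgroup.topEquiv.symm.trans
        (((QuotientGroup.quotientMulEquivOfEq (bot_subgroupOf (⊤ : Subgroup G))).trans
          QuotientGroup.quotientBot).symm.trans e)
      refine step_congr e' h𝓦 (fun hcG T' _ => ?_) hc S' (fun H hH hSH => ?_)
      · obtain ⟨c, hc'⟩ := MulAction.exists_smul_eq G S T'
        have hmap : (S : Subgroup G).map (MulAut.conj c).toMonoidHom = (T' : Subgroup G) := by
          rw [← hc', Sylow.coe_subgroup_smul]; rfl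
        refine le_trans ?_ ((map_mono (f := (MulAut.conj c).toMonoidHom) (hyp hcG)).trans
          ((map_tgt_le h𝓦 _ S.2 fun x _ hx => (MulAut.conj c).injective (hx.trans (map_one _).symm)).trans
            (le_of_eq (congrArg _ hmap))))
        rw [map_inf _ _ _ (MulAut.conj c).injective, map_top_commutator _ (MulAut.conj c).surjective]
        refine inf_le_inf_right _ (le_of_eq ?_)
        exact (CfsgLib.Cores.map_pCore_equiv (p := p) (MulAut.conj c)).symm
      · refine sub_transfer_sylow h𝓦 S' hSH (tgtOK_congr (e'.subgroupMap (H.map e'.symm.toMonoidHom)|>.trans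
          (MulEquiv.subgroupCongr ?_)) h𝓦 (hproper _ ?_))
        · rw [map_map]
          convert map_id H using 2
          exact MonoidHom.ext e'.apply_symm_apply
        · intro htop
          apply hH
          have h2 := congrArg (Subgroup.map e'.toMonoidHom) htop
          rwa [map_map, show e'.toMonoidHom.comp e'.symm.toMonoidHom = MonoidHom.id Δ from
            MonoidHom.ext e'.apply_symm_apply, map_id, map_top_of_surjective _ e'.surjective] at h2
  have hcon : Subgroup.centralizer (P : Set G) ≤ P := by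
    by_contra hc
    exact hred fun h => absurd h hc
  have hPR : ¬ P ⊓ ⁅(⊤ : Subgroup G), (⊤ : Subgroup G)⁆ ≤ R := fun h => hred fun _ => h
  have hS' : (S : Subgroup G) ⊓ ⁅normalizer ((S : Subgroup G) : Set G), normalizer ((S : Subgroup G) : Set G)⁆ ≤ R :=
    derived_le_tgt h𝓦 hne S
  have hRS : R ≤ (S : Subgroup G) := (tgt_le _).trans inf_le_left
  set Y := R ⊓ P with hY
  have hover : ∀ H : Subgroup G, (S : Subgroup G) ≤ H → H ≠ ⊤ → H ≤ normalizer (Y : Set G) := by
    intro H hSH hH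
    intro h hh
    refine Subgroup.mem_normalizer_fintype (S := ((Y : Subgroup G) : Set G)) fun y hy => ?_
    have hy' : y ∈ R ∧ y ∈ P := hy
    have hyH : y ∈ H := hSH (hRS hy'.1)
    have h1 : ⁅h, y⁆ ∈ P := by
      rw [commutatorElement_def]; exact mul_mem (hPn.conj_mem y hy'.2 h) (inv_mem hy'.2)
    have h2 : ⁅h, y⁆ ∈ R := hsubS H hH hSH ⟨hPS h1, commutator_mem_commutator hh hyH⟩
    rw [show h * y * h⁻¹ = ⁅h, y⁆ * y by rw [commutatorElement_def, inv_mul_cancel_right]]
    exact mul_mem (mem_inf.2 ⟨h2, h1⟩) hy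
  have hMne : normalizer (Y : Set G) ≠ ⊤ := by
    intro htop
    haveI hYn : Y.Normal := normalizer_eq_top_iff.1 htop
    apply hPR
    intro x hx
    have hSS : ⁅(S : Subgroup G), (S : Subgroup G)⁆ ≤ R :=
      (le_inf (commutator_le_self _) (commutator_mono le_normalizer le_normalizer)).trans hS'
    set D := R.subgroupOf (S : Subgroup G) with hD
    haveI hDn : D.Normal := by
      refine ⟨fun r hr s => ?_⟩
      show (s : G) * r * (s : G)⁻¹ ∈ R
      rw [show (s : G) * r * (s : G)⁻¹ = ⁅(s : G), (r : G)⁆ * r by rw [commutatorElement_def, inv_mul_cancel_right]]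
      exact mul_mem (hSS (commutator_mem_commutator s.2 r.2)) hr
    letI : CommGroup (↥(S : Subgroup G) ⧸ D) :=
      { (inferInstance : Group (↥(S : Subgroup G) ⧸ D)) with
        mul_comm := fun u v => by
          obtain ⟨u, rfl⟩ := QuotientGroup.mk'_surjective _ u
          obtain ⟨v, rfl⟩ := QuotientGroup.mk'_surjective _ v
          rw [← commutatorElement_eq_one_iff_mul_comm, ← map_commutatorElement]
          exact (QuotientGroup.eq_one_iff _).2 (hSS (commutator_mem_commutator u.2 v.2)) }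
    -- elements centralising `P` modulo `Y`
    let L : Subgroup G :=
      { carrier := {l | ∀ z ∈ P, z⁻¹ * (l * z * l⁻¹) ∈ Y}
        one_mem' := fun z _ => by simp
        mul_mem' := fun {a b} ha hb z hz => by
          have h1 := hYn.conj_mem _ (hb z hz) a
          have h2 := mul_mem (ha z hz) h1
          rwa [show z⁻¹ * (a * z * a⁻¹) * (a * (z⁻¹ * (b * z * b⁻¹)) * a⁻¹) =
            z⁻¹ * (a * b * z * (a * b)⁻¹) by group] at h2
        inv_mem' := fun {a} ha z hz => by
          have h1 := inv_mem (ha _ (hPn.conj_mem z hz a⁻¹))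
          rwa [show ((a⁻¹ * z * a⁻¹⁻¹)⁻¹ * (a * (a⁻¹ * z * a⁻¹⁻¹) * a⁻¹))⁻¹ =
            z⁻¹ * (a⁻¹ * z * a⁻¹⁻¹) by group] at h1 }
    haveI hLn : L.Normal := ⟨fun l hl g z hz => by
      have h1 := hYn.conj_mem _ (hl _ (hPn.conj_mem z hz g⁻¹)) g
      rwa [show g * ((g⁻¹ * z * g⁻¹⁻¹)⁻¹ * (l * (g⁻¹ * z * g⁻¹⁻¹) * l⁻¹)) * g⁻¹ =
        z⁻¹ * (g * l * g⁻¹ * z * (g * l * g⁻¹)⁻¹) by group] at h1⟩
    have hSL : (S : Subgroup G) ≤ L := fun s hs z hz => by
      refine mem_inf.2 ⟨hSS ?_, mul_mem (inv_mem hz) (hPn.conj_mem z hz s)⟩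
      rw [show z⁻¹ * (s * z * s⁻¹) = ⁅z⁻¹, s⁆ by rw [commutatorElement_def]; group]
      exact commutator_mem_commutator (inv_mem (hPS hz)) hs
    have hfr := Sylow.normalizer_sup_eq_top' S hSL
    set φ : ↥(S : Subgroup G) →* ↥(S : Subgroup G) ⧸ D := QuotientGroup.mk' D with hφ
    have hxS : x ∈ (S : Subgroup G) := hPS hx.1
    have key := prod_transfer_eq_one hPn hPS φ hx.1 hx.2 (a := φ ⟨x, hxS⟩) fun t => by
      obtain ⟨n, hn, l, hl, rfl⟩ := mem_sup_of_normal_right.1 (hfr.ge (mem_top t))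
      refine (QuotientGroup.eq_iff_div_mem).2 ?_
      show ((n * l)⁻¹ * x * (n * l)) / x ∈ R
      set w := n⁻¹ * x * n with hw
      have hwP : w ∈ P := by simpa using hPn.conj_mem x hx.1 n⁻¹
      have hwS : w ∈ (S : Subgroup G) := hPS hwP
      have h1 : w * x⁻¹ ∈ R := hS' ⟨(S : Subgroup G).mul_mem hwS ((S : Subgroup G).inv_mem hxS), by
        rw [show w * x⁻¹ = ⁅n⁻¹, x⁆ by rw [commutatorElement_def, hw, inv_inv]]
        exact commutator_mem_commutator (inv_mem hn) (le_normalizer hxS)⟩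
      have h2 : l⁻¹ * w * l * w⁻¹ ∈ R := by
        have h4 : l⁻¹ ∈ L := inv_mem hl
        have h5 : w⁻¹ * (l⁻¹ * w * l⁻¹⁻¹) ∈ Y := h4 w hwP
        have h6 := hYn.conj_mem _ h5 w
        rw [inv_inv, show w * (w⁻¹ * (l⁻¹ * w * l)) * w⁻¹ = l⁻¹ * w * l * w⁻¹ by group] at h6
        exact (mem_inf.1 h6).1
      have h3 := mul_mem h2 h1
      rwa [div_eq_mul_inv, show (n * l)⁻¹ * x * (n * l) * x⁻¹ = l⁻¹ * w * l * w⁻¹ * (w * x⁻¹) by
        rw [hw]; group]
    have hcop : (orderOf (φ ⟨x, hxS⟩)).Coprime (S : Subgroup G).index := by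
      obtain ⟨k, hk⟩ := IsPGroup.iff_orderOf.1 (S.2.to_quotient D) (φ ⟨x, hxS⟩)
      rw [hk]
      exact Nat.Coprime.pow_left k ((CfsgLib.Cores.coprime_iff_not_dvd hp _).2 S.not_dvd_index).symm
    exact (QuotientGroup.eq_one_iff (⟨x, hxS⟩ : ↥(S : Subgroup G))).1 (orderOf_eq_one_iff.1
      (Nat.eq_one_of_dvd_coprimes hcop dvd_rfl (orderOf_dvd_of_pow_eq_one key)))
  refine ⟨hcon, ⟨hMne, hover⟩, ⟨?_, ?_⟩, ?_⟩
  · have hSM : (S : Subgroup G) ≤ normalizer (Y : Set G) := hover _ le_rfl fun h => by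
      exact hPR ((inf_le_inf_right _ hPS).trans ((inf_le_inf_left _ (commutator_mono (h.ge.trans le_normalizer)
        (h.ge.trans le_normalizer))).trans hS'))
    exact le_inf (commutator_le_left _ _) (commutator_mono (hPS.trans hSM) le_rfl)
  · refine le_inf inf_le_left ?_
    have hSM : (S : Subgroup G) ≤ normalizer (Y : Set G) := hover _ le_rfl fun h => by
      exact hPR ((inf_le_inf_right _ hPS).trans ((inf_le_inf_left _ (commutator_mono (h.ge.trans le_normalizer)
        (h.ge.trans le_normalizer))).trans hS'))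
    exact (inf_le_inf_right _ hPS).trans (hsubS _ hMne hSM)
  · intro u hu huP
    by_contra hall
    push Not at hall
    obtain ⟨H, hH, hSH, hle⟩ := exists_proper_of_good S hu huP hall
    exact hPR ((le_inf (inf_le_left.trans hPS) hle).trans (hsubS H hH hSH))

end Cfsg.Agent.S1998
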