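import Cfsg.Statements.S1999
import Cfsg.Agent.Lib.NoFF.Functors

set_option autoImplicit false
open Cfsg

namespace Cfsg.Agent.S1999

/-- Let G be a finite group. The symmetric group of degree 4 is not involved in G if and only if, in every section K/R of G, the pair of conjugacy functors {Z, J_e} controls strong fusion (for the prime 2): here Z(P) is the centre and J_e(P) the subgroup generated by the elementary abelian subgroups of P of largest order, and control by the pair means that 2-fusion of tuples inside a Sylow 2-subgroup T of the section is generated, staying inside T, by conjugation inside N(Z(T)) and N(J_e(T)). -/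
theorem result {G : Type*} [Group G] [Finite G] : ¬ Cfsg.Involves (Equiv.Perm (Fin 4)) G ↔ ∀ (K R : Subgroup G) [hR : (R.subgroupOf K).Normal], Cfsg.FamilyControlsStrongFusionIn 2 ({fun P : Subgroup (↥K ⧸ R.subgroupOf K) => P ⊓ Subgroup.centralizer ((P : Subgroup (↥K ⧸ R.subgroupOf K)) : Set (↥K ⧸ R.subgroupOf K)), fun P : Subgroup (↥K ⧸ R.subgroupOf K) => Cfsg.thompsonSubgroupOf 2 P} : Set (Subgroup (↥K ⧸ R.subgroupOf K) → Subgroup (↥K ⧸ R.subgroupOf K))) ⊤ := by
  have hpair : ∀ (K R : Subgroup G) [(R.subgroupOf K).Normal],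
      (fun W => Cfsg.inducedFunctor (G := ↥K ⧸ R.subgroupOf K) W) '' CfsgLib.NoFF.pairZJ =
        ({fun P : Subgroup (↥K ⧸ R.subgroupOf K) => P ⊓ Subgroup.centralizer ((P : Subgroup (↥K ⧸ R.subgroupOf K)) :
            Set (↥K ⧸ R.subgroupOf K)),
          fun P : Subgroup (↥K ⧸ R.subgroupOf K) => Cfsg.thompsonSubgroupOf 2 P} :
          Set (Subgroup (↥K ⧸ R.subgroupOf K) → Subgroup (↥K ⧸ R.subgroupOf K))) := fun K R _ => by
    rw [CfsgLib.NoFF.pairZJ, Set.image_insert_eq, Set.image_singleton, funext CfsgLib.NoFF.induced_centerFun,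
      funext CfsgLib.NoFF.induced_jFun]
  haveI : Fact (Nat.Prime 2) := ⟨Nat.prime_two⟩
  constructor
  · intro hfree K R hR
    rw [← hpair]
    exact CfsgLib.NoFF.controls_pairZJ hfree K R
  · intro hall h4
    obtain ⟨e⟩ := Cfsg.Agent.S2761.result
    obtain ⟨K, R, hR, ⟨e'⟩⟩ := h4
    obtain ⟨K', R', hR', hno⟩ := CfsgLib.NoFF.not_controls_of_involves (G := G) (p := 2)
      ⟨K, R, hR, ⟨e'.trans e.symm⟩⟩ CfsgLib.NoFF.pairZJ CfsgLib.NoFF.isCharPFunctor_pairZJ
    refine hno ?_
    rw [hpair]
    exact hall K' R'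

end Cfsg.Agent.S1999
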