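import Cfsg.Statements.S2794
import Cfsg.Agent.Lib.Techniques.Qd.Converse
import Cfsg.Agent.Lib.Techniques.KInfControl
import Cfsg.Agent.Lib.PStab.ZJ
import Cfsg.Agent.Lib.PStab.Complement

set_option autoImplicit false
open Cfsg

namespace Cfsg.Agent.S2794

universe w

/-- `Z(J(Q))` as a functor on groups. -/
def zjFun : ∀ (Q : Type w) [Group Q], Subgroup Q := fun Q _ => CfsgLib.PStab.zjGen 0 (⊤ : Subgroup Q)

theorem isCharPFunctor_zjFun {p : ℕ} [Fact p.Prime] : Cfsg.IsCharPFunctor.{w} p zjFun := by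
  refine ⟨fun Q _ _ hQ hne => ?_, fun Q R _ _ _ _ φ => ?_⟩
  · exact CfsgLib.PStab.zjGen_ne_bot (p := p) (Or.inl rfl) (hQ.to_subgroup ⊤) top_ne_bot
  · rw [zjFun, zjFun, ← CfsgLib.PStab.zjGen_map φ.injective, Subgroup.map_top_of_surjective _ φ.surjective]

theorem induced_zjFun {Γ : Type w} [Group Γ] (T : Subgroup Γ) :
    Cfsg.inducedFunctor zjFun T = Cfsg.centerThompsonAOf T := by
  rw [CfsgLib.PStab.centerThompsonAOf_eq_zjGen, Cfsg.inducedFunctor, zjFun,
    ← CfsgLib.PStab.zjGen_map T.subtype_injective, ← MonoidHom.range_eq_map, Subgroup.range_subtype]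

/-- For an odd prime p and a finite group G, the group Qd(p) is not involved in G if and only if in every section K/R of G, for every Sylow p-subgroup S* of K/R, the centre of J(S*) (J generated by the abelian subgroups of largest order) controls strong fusion in K/R. -/
theorem result {G : Type*} [Group G] [Finite G] {p : ℕ} [Fact p.Prime] (hp : p ≠ 2) : ¬ Cfsg.Involves ↥(Cfsg.qd p) G ↔ ∀ (K R : Subgroup G) [hR : (R.subgroupOf K).Normal], ∀ T : Sylow p (K ⧸ R.subgroupOf K), Cfsg.ControlsStrongFusion p (Cfsg.centerThompsonAOf (T : Subgroup (K ⧸ R.subgroupOf K))) := by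
  constructor
  · intro hqd K R hR T
    have hqd' : ¬ Cfsg.Involves ↥(Cfsg.qd p) (↥K ⧸ R.subgroupOf K) := fun hc => hqd
      (CfsgLib.LocalEven.Offender.involves_of_injective K.subtype K.subtype_injective
        (CfsgLib.LocalEven.Offender.involves_of_surjective _ (QuotientGroup.mk'_surjective _) hc))
    have h𝓦 : ∀ W ∈ ({zjFun} : Set (∀ (Q : Type _) [Group Q], Subgroup Q)),
        Cfsg.IsCharPFunctor p W := by
      rintro _ rfl; exact isCharPFunctor_zjFun
    rw [← induced_zjFun]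
    refine CfsgLib.Techniques.Functor.controlsStrongFusion_of_ctrlAll
      (CfsgLib.Techniques.Functor.ctrlAll_of_constrained h𝓦 _ fun Δ _ _ hΔ hc =>
        CfsgLib.Techniques.Functor.constrained_hyp h𝓦 (fun K' R' hR' hc' S A g _ _ hgA => ?_) Δ hΔ hc) T
    have hfree : ¬ Cfsg.Involves ↥(Cfsg.qd p) (↥K' ⧸ R'.subgroupOf K') := fun h => hqd'
      (CfsgLib.LocalEven.Offender.involves_of_injective K'.subtype K'.subtype_injective
        (CfsgLib.LocalEven.Offender.involves_of_surjective _ (QuotientGroup.mk'_surjective _) h))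
    haveI hn : (Cfsg.inducedFunctor zjFun (S : Subgroup (↥K' ⧸ R'.subgroupOf K'))).Normal := by
      rw [induced_zjFun, CfsgLib.PStab.centerThompsonAOf_eq_zjGen]
      exact CfsgLib.PStab.zjGen_normal hp
        (fun B _ hB => (CfsgLib.PStab.stableAll_of_qdFree hp hfree).isPStableOn B hB) (Or.inl rfl) S
        ⟨le_rfl, fun _ _ _ h => h⟩ hc'
    exact CfsgLib.Techniques.Functor.Fus.of_mem ⟨_, rfl, rfl⟩
      (CfsgLib.Techniques.Chief.mem_normalizer_of_normal _ g) hgA
  · intro hall hqd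
    obtain ⟨K, R, hR, ⟨e⟩⟩ := hqd
    have T : Sylow p (↥K ⧸ R.subgroupOf K) := default
    have hTi : ¬ p ∣ (T : Subgroup (↥K ⧸ R.subgroupOf K)).relIndex ⊤ := by
      rw [Subgroup.relIndex_top_right]; exact T.not_dvd_index
    obtain ⟨a, h, hmem, hno⟩ := CfsgLib.Techniques.Qd.uncontrolled_of_equiv e T.2 hTi
    obtain ⟨hle, hno⟩ := hno zjFun isCharPFunctor_zjFun
    obtain ⟨T', -, hctl⟩ := hall K R T
    rw [← induced_zjFun] at hctl
    obtain ⟨ha, hha⟩ := hmem (T' : Subgroup (↥K ⧸ R.subgroupOf K)) T'.2 T'.not_dvd_index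
    obtain ⟨x, hx, hxa⟩ := (hctl {a} (Set.singleton_subset_iff.2 ha)).2 h
      (by rw [Set.image_singleton]; exact Set.singleton_subset_iff.2 hha)
    exact hno x (hle hx) (hxa a rfl).symm

end Cfsg.Agent.S2794
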