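import Cfsg.Statements.S2000
import Cfsg.Agent.Lib.NoFF.Functors
import Cfsg.Agent.S2794

set_option autoImplicit false
universe u
open Cfsg

namespace Cfsg.Agent.S2000

/-- Let p be a prime and G a finite group. Then Qd(p) (the natural semidirect product of an elementary abelian group of order p² by SL₂(p)) is not involved in G if and only if there is a set 𝓦 of isomorphism-invariant p-group functors (each nontrivial on nontrivial finite p-groups and carried onto W(R) by every isomorphism from a finite p-group Q onto R, hence with characteristic values on finite p-groups) whose induced conjugacy functors control strong fusion in every section of G. -/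
theorem result {G : Type u} [Group G] [Finite G] {p : ℕ} [Fact p.Prime] : ¬ Cfsg.Involves ↥(Cfsg.qd p) G ↔ ∃ 𝓦 : Set (∀ (Q : Type u) [Group Q], Subgroup Q), (∀ W ∈ 𝓦, Cfsg.IsCharPFunctor.{u} p W) ∧ ∀ (K R : Subgroup G) [hR : (R.subgroupOf K).Normal], Cfsg.FamilyControlsStrongFusionIn p ((fun W => Cfsg.inducedFunctor (G := (↥K ⧸ R.subgroupOf K)) W) '' 𝓦) ⊤ := by
  constructor
  · intro hqd
    by_cases hp : p = 2
    · subst hp
      refine ⟨CfsgLib.NoFF.pairZJ, CfsgLib.NoFF.isCharPFunctor_pairZJ, fun K R hR => ?_⟩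
      obtain ⟨e⟩ := Cfsg.Agent.S2761.result
      exact CfsgLib.NoFF.controls_pairZJ (fun ⟨K, R, hR, ⟨e'⟩⟩ => hqd ⟨K, R, hR, ⟨e'.trans e.symm⟩⟩) K R
    · have h𝓦 : ∀ W ∈ ({Cfsg.Agent.S2794.zjFun} : Set (∀ (Q : Type u) [Group Q], Subgroup Q)),
          Cfsg.IsCharPFunctor.{u} p W := by
        rintro _ rfl; exact Cfsg.Agent.S2794.isCharPFunctor_zjFun
      refine ⟨{Cfsg.Agent.S2794.zjFun}, h𝓦, fun K R hR => ?_⟩
      refine (CfsgLib.Techniques.Functor.ctrlAll_iff h𝓦).1
        (CfsgLib.Techniques.Functor.ctrlAll_of_constrained h𝓦 _ fun Δ _ _ hΔ hc =>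
          CfsgLib.Techniques.Functor.constrained_hyp h𝓦 (fun K' R' hR' hc' S A g _ _ hgA => ?_) Δ hΔ hc)
      have hfree : ¬ Cfsg.Involves ↥(Cfsg.qd p) (↥K' ⧸ R'.subgroupOf K') := fun h => hqd
        (CfsgLib.LocalEven.Offender.involves_of_injective K.subtype K.subtype_injective
          (CfsgLib.LocalEven.Offender.involves_of_surjective _ (QuotientGroup.mk'_surjective _)
            (CfsgLib.LocalEven.Offender.involves_of_injective K'.subtype K'.subtype_injective
              (CfsgLib.LocalEven.Offender.involves_of_surjective _ (QuotientGroup.mk'_surjective _) h))))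
      haveI hn : (Cfsg.inducedFunctor Cfsg.Agent.S2794.zjFun
          (S : Subgroup (↥K' ⧸ R'.subgroupOf K'))).Normal := by
        rw [Cfsg.Agent.S2794.induced_zjFun, CfsgLib.PStab.centerThompsonAOf_eq_zjGen]
        exact CfsgLib.PStab.zjGen_normal hp
          (fun B _ hB => (CfsgLib.PStab.stableAll_of_qdFree hp hfree).isPStableOn B hB) (Or.inl rfl) S
          ⟨le_rfl, fun _ _ _ h => h⟩ hc'
      exact CfsgLib.Techniques.Functor.Fus.of_mem ⟨_, rfl, rfl⟩
        (CfsgLib.Techniques.Chief.mem_normalizer_of_normal _ g) hgA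
  · rintro ⟨𝓦, h𝓦, hall⟩ hqd
    obtain ⟨K, R, hR, hno⟩ := CfsgLib.NoFF.not_controls_of_involves hqd 𝓦 h𝓦
    exact hno (hall K R)

end Cfsg.Agent.S2000
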