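import Cfsg.Statements.S2001
import Cfsg.Agent.Lib.Techniques.Functor.CentralGlobal

set_option autoImplicit false
open Cfsg

namespace Cfsg.Agent.S2001

open scoped commutatorElement
open CfsgLib.Techniques.Functor

/-- Let p be a prime dividing the order of the finite group G, P a Sylow p-subgroup, W a conjugacy functor for p on G with Z(H) ≤ W(H) for every nontrivial p-subgroup H, and V a central functor: a conjugacy functor with V(H) ≤ Z(H), and V(H) ≤ V(K) whenever Z(H) ≤ Z(K), for nontrivial p-subgroups H, K. Say that W with V controls transfer in a subgroup L when some Sylow p-subgroup Q of L satisfies Q ∩ L' = (Q ∩ (N_L(W(Q)))')·(Q ∩ (C_L(V(Q)))') as a product of two subgroups. If W with V controls transfer in N_G(H) for every subgroup H with Z(P) ≤ H ≤ P, then W with V controls transfer in G. -/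
theorem result {G : Type*} [Group G] [Finite G] {p : ℕ} [Fact p.Prime] (hdiv : p ∣ Nat.card G) (P : Sylow p G) (W V : Subgroup G → Subgroup G) (hW : Cfsg.IsConjugacyFunctor p W) (hV : Cfsg.IsConjugacyFunctor p V) (hWZ : ∀ H : Subgroup G, IsPGroup p ↥H → H ⊓ Subgroup.centralizer ((H : Subgroup G) : Set G) ≤ W H) (hVZ : ∀ H : Subgroup G, IsPGroup p ↥H → V H ≤ H ⊓ Subgroup.centralizer ((H : Subgroup G) : Set G)) (hVmono : ∀ H K : Subgroup G, IsPGroup p ↥H → IsPGroup p ↥K → H ≠ ⊥ → K ≠ ⊥ → H ⊓ Subgroup.centralizer ((H : Subgroup G) : Set G) ≤ K ⊓ Subgroup.centralizer ((K : Subgroup G) : Set G) → V H ≤ V K) (hloc : ∀ H : Subgroup G, (P : Subgroup G) ⊓ Subgroup.centralizer (((P : Subgroup G) : Subgroup G) : Set G) ≤ H → H ≤ (P : Subgroup G) → ∃ Q : Subgroup G, Q ≤ Subgroup.normalizer ((H : Subgroup G) : Set G) ∧ IsPGroup p ↥Q ∧ ¬ p ∣ (Q).relIndex (Subgroup.normalizer ((H : Subgroup G) : Set G)) ∧ ∀ x : G, x ∈ Q ⊓ ⁅Subgroup.normalizer ((H : Subgroup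 G) : Set G), Subgroup.normalizer ((H : Subgroup G) : Set G)⁆ ↔ ∃ a ∈ Q ⊓ ⁅Subgroup.normalizer ((H : Subgroup G) : Set G) ⊓ Subgroup.normalizer ((W Q : Subgroup G) : Set G), Subgroup.normalizer ((H : Subgroup G) : Set G) ⊓ Subgroup.normalizer ((W Q : Subgroup G) : Set G)⁆, ∃ b ∈ Q ⊓ ⁅Subgroup.normalizer ((H : Subgroup G) : Set G) ⊓ Subgroup.centralizer ((V Q : Subgroup G) : Set G), Subgroup.normalizer ((H : Subgroup G) : Set G) ⊓ Subgroup.centralizer ((V Q : Subgroup G) : Set G)⁆, x = a * b) : ∃ Q : Subgroup G, IsPGroup p ↥Q ∧ ¬ p ∣ Q.index ∧ ∀ x : G, x ∈ Q ⊓ commutator G ↔ ∃ a ∈ Q ⊓ ⁅Subgroup.normalizer ((W Q : Subgroup G) : Set G), Subgroup.normalizer ((W Q : Subgroup G) : Set G)⁆, ∃ b ∈ Q ⊓ ⁅Subgroup.centralizer ((V Q : Subgroup G) : Set G), Subgroup.centralizer ((V Q : Subgroup G) : Set G)⁆, x = a * b := by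
  have hS : (P : Subgroup G) ≤ Subgroup.normalizer ((W (P : Subgroup G) : Subgroup G) : Set G) :=
    Subgroup.le_normalizer.trans (normalizer_le_normalizer_functor hW P.2)
  have h := central_transfer_global P hW hV hWZ hVmono fun X hX hzX _ => by
    obtain ⟨T, hTN, hT, hTi, hiff⟩ := hloc X hzX hX
    refine ⟨T, hTN, hT, hTi, fun x hx => ?_⟩
    obtain ⟨a, ha, b, hb, rfl⟩ := (hiff x).1 hx
    exact mul_mem (Subgroup.mem_sup_left ha) (Subgroup.mem_sup_right hb)
  refine ⟨P, P.2, P.not_dvd_index, fun x => ⟨fun hx => ?_, ?_⟩⟩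
  · set N := Subgroup.normalizer ((W (P : Subgroup G) : Subgroup G) : Set G)
    set B := (P : Subgroup G) ⊓ ⁅Subgroup.centralizer ((V (P : Subgroup G) : Subgroup G) : Set G),
      Subgroup.centralizer ((V (P : Subgroup G) : Subgroup G) : Set G)⁆
    set A := (P : Subgroup G) ⊓ ⁅N, N⁆
    have hBA : B ≤ Subgroup.normalizer (A : Set G) := by
      intro b hb
      have hbN : b ∈ N := hS (Subgroup.mem_inf.1 hb).1
      refine Subgroup.mem_normalizer_fintype (S := ((A : Subgroup G) : Set G)) fun y hy => ?_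
      obtain ⟨hyP, hyN⟩ := Subgroup.mem_inf.1 hy
      refine Subgroup.mem_inf.2 ⟨mul_mem (mul_mem (Subgroup.mem_inf.1 hb).1 hyP) (inv_mem (Subgroup.mem_inf.1 hb).1), ?_⟩
      rw [show b * y * b⁻¹ = ⁅b, y⁆ * y by rw [commutatorElement_def, inv_mul_cancel_right]]
      exact mul_mem (Subgroup.commutator_mem_commutator hbN (Subgroup.commutator_le_self N hyN)) hyN
    have h1 := h hx
    rw [← SetLike.mem_coe, Subgroup.coe_mul_of_right_le_normalizer_left _ _ hBA] at h1
    obtain ⟨a, ha, b, hb, rfl⟩ := Set.mem_mul.1 h1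
    exact ⟨a, ha, b, hb, rfl⟩
  · rintro ⟨a, ha, b, hb, rfl⟩
    refine Subgroup.mem_inf.2 ⟨mul_mem (Subgroup.mem_inf.1 ha).1 (Subgroup.mem_inf.1 hb).1, ?_⟩
    rw [commutator_def]
    exact mul_mem (Subgroup.commutator_mono le_top le_top (Subgroup.mem_inf.1 ha).2)
      (Subgroup.commutator_mono le_top le_top (Subgroup.mem_inf.1 hb).2)
end Cfsg.Agent.S2001
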