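import Cfsg.Statements.S2002
import Cfsg.Agent.Lib.Techniques.Functor.CentralGlobal

set_option autoImplicit false
open Cfsg

namespace Cfsg.Agent.S2002

open scoped commutatorElement
open CfsgLib.Techniques.Functor

open Subgroup in
/-- A chain read as a product, on the right. -/
theorem reach_list {G : Type*} [Group G] {T A : Subgroup G} {𝒩 : Set (Subgroup G)} {e : G}
    (hA : A ≤ T) (h : Reach T 𝒩 A e) :
    ∃ l : List G, (∀ b ∈ l, ∃ H ∈ 𝒩, b ∈ H) ∧ l.prod = e⁻¹ ∧
      ∀ k, k ≤ l.length → ∀ x ∈ A, ((l.take k).prod)⁻¹ * x * (l.take k).prod ∈ T := by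
  induction h with
  | refl => exact ⟨[], by simp, by simp, fun k _ x hx => by simpa using hA hx⟩
  | @step c m H _ hH hm hle ih =>
    obtain ⟨l, h1, h2, h3⟩ := ih
    refine ⟨l ++ [m⁻¹], ?_, by simp [h2], fun k hk x hx => ?_⟩
    · intro b hb
      rcases List.mem_append.1 hb with hb | hb
      · exact h1 b hb
      · exact ⟨H, hH, by rw [List.mem_singleton.1 hb]; exact inv_mem hm⟩
    · rcases Nat.lt_or_ge l.length k with hk' | hk'
      · rw [List.take_of_length_le (by simp; omega), List.prod_append, h2, List.prod_singleton]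
        have := hle (CfsgLib.Fusion.conj_mem_conjSub hx)
        simpa [mul_assoc] using this
      · rw [List.take_append_of_le_length hk']
        exact h3 k hk' x hx

/-- Let p be a prime dividing the order of the finite group G, P a Sylow p-subgroup, W a conjugacy functor for p on G with Z(H) ≤ W(H) for every nontrivial p-subgroup H, and V a central functor (a conjugacy functor with V(H) ≤ Z(H), and V(H) ≤ V(K) whenever Z(H) ≤ Z(K)). Say that W with V controls strong fusion in a subgroup L when some Sylow p-subgroup Q of L has the property: whenever X ⊆ Q and a ∈ L with a⁻¹Xa ⊆ Q, then a = c b with c ∈ C_L(X) and b = b₁ ⋯ bₙ a product of elements each in N_L(W(Q)) or in C_L(V(Q)) such that every partial conjugate (b₁ ⋯ bₖ)⁻¹ X (b₁ ⋯ bₖ) lies in Q. If W with V controls strong fusion in N_G(H) for every subgroup H with Z(P) ≤ H ≤ P, then W with V controls strong fusion in G. -/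
theorem result {G : Type*} [Group G] [Finite G] {p : ℕ} [Fact p.Prime] (hdiv : p ∣ Nat.card G) (P : Sylow p G) (W V : Subgroup G → Subgroup G) (hW : Cfsg.IsConjugacyFunctor p W) (hV : Cfsg.IsConjugacyFunctor p V) (hWZ : ∀ H : Subgroup G, IsPGroup p ↥H → H ⊓ Subgroup.centralizer ((H : Subgroup G) : Set G) ≤ W H) (hVZ : ∀ H : Subgroup G, IsPGroup p ↥H → V H ≤ H ⊓ Subgroup.centralizer ((H : Subgroup G) : Set G)) (hVmono : ∀ H K : Subgroup G, IsPGroup p ↥H → IsPGroup p ↥K → H ≠ ⊥ → K ≠ ⊥ → H ⊓ Subgroup.centralizer ((H : Subgroup G) : Set G) ≤ K ⊓ Subgroup.centralizer ((K : Subgroup G) : Set G) → V H ≤ V K) (hloc : ∀ H : Subgroup G, (P : Subgroup G) ⊓ Subgroup.centralizer (((P : Subgroup G) : Subgroup G) : Set G) ≤ H → H ≤ (P : Subgroup G) → ∃ Q : Subgroup G, Q ≤ Subgroup.normalizer ((H : Subgroup G) : Set G) ∧ IsPGroup p ↥Q ∧ ¬ p ∣ (Q).relIndex (Subgroup.normalizer ((H : Subgroup G) : Set G)) ∧ ∀ (X : Set G) (a : G), X ⊆ Q → a ∈ Subgroup.normalizer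 ((H : Subgroup G) : Set G) → (fun x => a⁻¹ * x * a) '' X ⊆ Q → ∃ c ∈ Subgroup.normalizer ((H : Subgroup G) : Set G) ⊓ Subgroup.centralizer X, ∃ (n : ℕ) (b : Fin n → G), (∀ i, b i ∈ Subgroup.normalizer ((H : Subgroup G) : Set G) ⊓ Subgroup.normalizer ((W Q : Subgroup G) : Set G) ∨ b i ∈ Subgroup.normalizer ((H : Subgroup G) : Set G) ⊓ Subgroup.centralizer ((V Q : Subgroup G) : Set G)) ∧ a = c * (List.ofFn b).prod ∧ ∀ k : ℕ, k ≤ n → (fun x => (((List.ofFn b).take k).prod)⁻¹ * x * ((List.ofFn b).take k).prod) '' ((fun x => c⁻¹ * x * c) '' X) ⊆ Q) : ∃ Q : Subgroup G, IsPGroup p ↥Q ∧ ¬ p ∣ Q.index ∧ ∀ (X : Set G) (a : G), X ⊆ Q → (fun x => a⁻¹ * x * a) '' X ⊆ Q → ∃ c ∈ Subgroup.centralizer X, ∃ (n : ℕ) (b : Fin n → G), (∀ i, b i ∈ ⊤ ⊓ Subgroup.normalizer ((W Q : Subgroup G) : Set G) ∨ b i ∈ ⊤ ⊓ Subgroup.centralizer ((V Q : Subgroup G) : Set G)) ∧ a = c * (List.ofFn b).prod ∧ ∀ k : ℕ, k ≤ n → (fun x => (((List.ofFn b).take k).prod)⁻¹ * x * ((List.ofFn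 b).take k).prod) '' ((fun x => c⁻¹ * x * c) '' X) ⊆ Q := by
  have h := central_fusion_global P hW hV hWZ hVmono fun X hX hzX _ => by
    obtain ⟨T, hTN, hT, hTi, hc⟩ := hloc X hzX hX
    refine ⟨T, hTN, hT, hTi, fun A g hg hA hgA => ?_⟩
    obtain ⟨c, hc', n, b, hb, heq, him⟩ := hc (A : Set G) g⁻¹ hA (inv_mem hg) (by
      rintro _ ⟨a, ha, rfl⟩
      simpa using hgA (CfsgLib.Fusion.conj_mem_conjSub ha))
    have hcA : ∀ a ∈ A, c⁻¹ * a * c = a := fun a ha => by
      rw [mul_assoc, Subgroup.mem_centralizer_iff.1 (Subgroup.mem_inf.1 hc').2 a ha, inv_mul_cancel_left]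
    set N := Subgroup.normalizer ((X : Subgroup G) : Set G)
    have hsub : ∀ k, k ≤ n → CfsgLib.Fusion.conjSub (((List.ofFn b).take k).prod)⁻¹ A ≤ T := by
      rintro k hk _ ⟨a, ha, rfl⟩
      simpa using him k hk ⟨a, ⟨a, ha, hcA a ha⟩, rfl⟩
    have hreach : ∀ k, k ≤ n → Reach T (pairSet W V N T) A (((List.ofFn b).take k).prod)⁻¹ := by
      intro k
      induction k with
      | zero => intro _; simpa using Reach.refl
      | succ k ih =>
        intro hk
        have hk' : k < (List.ofFn b).length := by simp; omega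
        have hs := hsub (k + 1) hk
        rw [List.prod_take_succ _ _ hk', List.getElem_ofFn, mul_inv_rev] at hs ⊢
        rcases hb ⟨k, by omega⟩ with hbk | hbk
        · exact (ih (by omega)).step (Or.inl rfl) (inv_mem hbk) hs
        · exact (ih (by omega)).step (Or.inr rfl) (inv_mem hbk) hs
    refine ⟨_, hreach n le_rfl, fun a ha => ?_⟩
    have hp : (List.ofFn b).prod = c⁻¹ * g⁻¹ := by rw [heq, inv_mul_cancel_left]
    rw [List.take_of_length_le (by simp), hp, mul_inv_rev, inv_inv, inv_inv]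
    calc g * c * a * (g * c)⁻¹ = g * (c * (c⁻¹ * a * c) * c⁻¹) * g⁻¹ := by rw [hcA a ha]; group
      _ = g * a * g⁻¹ := by group
  refine ⟨P, P.2, P.not_dvd_index, fun X a hX hXa => ?_⟩
  have hA : Subgroup.closure X ≤ (P : Subgroup G) := (Subgroup.closure_le _).2 hX
  obtain ⟨e, he, hag⟩ := h (Subgroup.closure X) a⁻¹ (Subgroup.mem_top _) hA
    (image_subset_iff.1 (by simpa using hXa))
  obtain ⟨l, h1, h2, h3⟩ := reach_list hA he
  have hc : ∀ x ∈ X, (a * e)⁻¹ * x * (a * e) = x := fun x hx => by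
    have h4 := hag x (Subgroup.subset_closure hx)
    rw [inv_inv] at h4
    calc (a * e)⁻¹ * x * (a * e) = e⁻¹ * (a⁻¹ * x * a) * e := by group
      _ = e⁻¹ * (e * x * e⁻¹) * e := by rw [h4]
      _ = x := by group
  refine ⟨a * e, Subgroup.mem_centralizer_iff.2 fun x hx => ?_, l.length, l.get, fun i => ?_, ?_, ?_⟩
  · calc x * (a * e) = a * e * ((a * e)⁻¹ * x * (a * e)) := by group
      _ = a * e * x := by rw [hc x hx]
  · obtain ⟨H, hH, hmem⟩ := h1 _ (List.get_mem l i)
    rcases hH with rfl | rfl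
    · exact Or.inl hmem
    · exact Or.inr hmem
  · rw [List.ofFn_get, h2, mul_inv_cancel_right]
  · intro k hk
    rw [List.ofFn_get]
    rintro _ ⟨y, ⟨x, hx, rfl⟩, rfl⟩
    simp only [hc x hx]
    exact h3 k hk x (Subgroup.subset_closure hx)
end Cfsg.Agent.S2002
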