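import Cfsg.Statements.S2008


set_option autoImplicit false
open Cfsg

namespace Cfsg.Agent.S2008

theorem abelian_normal_eq_bot {H : Type*} [Group H] [Finite H] (z : H) (hz : orderOf z = 2)
    (hN : ∀ N : Subgroup H, N.Normal → N ≠ ⊤ → N ⊓ Subgroup.centralizer ({z} : Set H) = ⊥)
    (E : Subgroup H) (hE : IsKleinFour ↥E) (hzE : z ∈ E) (hc : ∀ e ∈ E, e ≠ 1 → IsConj z e)
    (N : Subgroup H) [N.Normal] (hab : IsMulCommutative ↥N) : N = ⊥ := by
  obtain ⟨e, he, he1, hez⟩ : ∃ e ∈ E, e ≠ 1 ∧ e ≠ z := by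
    by_contra! h
    have hle : (E : Set H) ⊆ {1, z} := fun x hx => by
      by_cases hx1 : x = 1
      · exact Or.inl hx1
      · exact Or.inr (h x hx hx1)
    have h4 : Nat.card ↥E = 4 := IsKleinFour.card_four
    have := (Set.ncard_le_ncard hle (Set.toFinite _)).trans (Set.ncard_insert_le 1 {z})
    rw [← Nat.card_coe_set_eq, Set.ncard_singleton] at this
    change Nat.card ↥E ≤ _ at this
    omega
  have hz1 : z ≠ 1 := by rintro rfl; simp at hz
  have hNtop : N ≠ ⊤ := by
    rintro rfl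
    obtain ⟨k, hk⟩ := isConj_iff.1 (hc e he he1)
    have := congrArg Subtype.val (mul_comm' (⟨k, trivial⟩ : (⊤ : Subgroup H)) ⟨z, trivial⟩)
    simp only [Subgroup.coe_mul] at this
    rw [this] at hk
    exact hez (by rw [← hk]; group)
  have key : ∀ u ∈ E, u ≠ 1 → ∀ x ∈ N, u * x * u⁻¹ = x⁻¹ := by
    intro u hu hu1 x hx
    have hzi : ∀ y ∈ N, z * y * z⁻¹ = y⁻¹ := by
      intro y hy
      have hzy : z * y * z⁻¹ ∈ N := ‹N.Normal›.conj_mem y hy z
      have hz2 : z * z = 1 := by rw [← pow_two, ← hz]; exact pow_orderOf_eq_one z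
      have hcom : ∀ a ∈ N, ∀ b ∈ N, a * b = b * a := fun a ha b hb =>
        congrArg Subtype.val (mul_comm' (⟨a, ha⟩ : N) ⟨b, hb⟩)
      have hzinv : z⁻¹ = z := inv_eq_of_mul_eq_one_right hz2
      have : y * (z * y * z⁻¹) ∈ N ⊓ Subgroup.centralizer ({z} : Set H) := by
        refine ⟨N.mul_mem hy hzy, Subgroup.mem_centralizer_singleton_iff.2 ?_⟩
        have e1 : y * (z * y * z⁻¹) * z = y * z * y := by group
        have e2 : z * (y * (z * y * z⁻¹)) = z * ((z * y * z⁻¹) * y) := by rw [hcom _ hy _ hzy]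
        have e3 : z * ((z * y * z⁻¹) * y) = y * z * y := by
          calc z * ((z * y * z⁻¹) * y) = (z * z) * y * z⁻¹ * y := by group
            _ = y * z * y := by rw [hz2, hzinv, one_mul]
        rw [e1, e2, e3]
      rw [hN N ‹_› hNtop, Subgroup.mem_bot] at this
      exact eq_inv_of_mul_eq_one_right this
    obtain ⟨k, hk⟩ := isConj_iff.1 (hc u hu hu1)
    have := hzi (k⁻¹ * x * k) (by simpa using ‹N.Normal›.conj_mem x hx k⁻¹)
    rw [← hk]
    calc k * z * k⁻¹ * x * (k * z * k⁻¹)⁻¹ = k * (z * (k⁻¹ * x * k) * z⁻¹) * k⁻¹ := by group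
      _ = x⁻¹ := by rw [this]; group
  rw [eq_bot_iff]
  intro x hx
  have h1 := key z hzE hz1 x hx
  have h2 := key e he he1 x hx
  have h3 := key (e * z) (E.mul_mem he hzE) (fun h => hez (by
    have hz2 : z * z = 1 := by rw [← pow_two, ← hz]; exact pow_orderOf_eq_one z
    calc e = e * (z * z) := by rw [hz2, mul_one]
      _ = (e * z) * z := by group
      _ = z := by rw [h, one_mul])) x hx
  have h4 : x = x⁻¹ := by
    calc x = (x⁻¹)⁻¹ := (inv_inv x).symm
      _ = (e * x * e⁻¹)⁻¹ := by rw [h2]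
      _ = e * x⁻¹ * e⁻¹ := by group
      _ = e * (z * x * z⁻¹) * e⁻¹ := by rw [h1]
      _ = (e * z) * x * (e * z)⁻¹ := by group
      _ = x⁻¹ := h3
  have : x ∈ N ⊓ Subgroup.centralizer ({z} : Set H) := by
    refine ⟨hx, Subgroup.mem_centralizer_singleton_iff.2 ?_⟩
    calc x * z = (z * x * z⁻¹) * z := by rw [h1, ← h4]
      _ = z * x := by group
  rwa [hN N ‹_› hNtop] at this

/-- Let H be a finite group and z an involution such that every proper normal subgroup of H meets the centralizer of z trivially, and suppose z lies in a Klein four-subgroup E of H all three of whose involutions are conjugate to z in H. Then H has no non-trivial abelian normal subgroup. -/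
theorem result {H : Type*} [Group H] [Finite H] (z : H) (hz : orderOf z = 2) (hN : ∀ N : Subgroup H, N.Normal → N ≠ ⊤ → N ⊓ Subgroup.centralizer ({z} : Set H) = ⊥) (E : Subgroup H) (hE : IsKleinFour ↥E) (hzE : z ∈ E) (hc : ∀ e ∈ E, e ≠ 1 → IsConj z e) (N : Subgroup H) [N.Normal] (hab : IsMulCommutative ↥N) : N = ⊥ := by
  exact abelian_normal_eq_bot z hz hN E hE hzE hc N hab

end Cfsg.Agent.S2008
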