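import Cfsg.Statements.S2009
import Cfsg.Agent.S2008
import Mathlib.GroupTheory.FixedPointFree

set_option autoImplicit false
open Cfsg

namespace Cfsg.Agent.S2009

/-- Let H be a finite group and z an involution such that every proper normal subgroup of H meets the centralizer of z trivially, and suppose z lies in a Klein four-subgroup E of H all three of whose involutions are conjugate to z in H. Then H is simple. -/
theorem result {H : Type*} [Group H] [Finite H] (z : H) (hz : orderOf z = 2) (hN : ∀ N : Subgroup H, N.Normal → N ≠ ⊤ → N ⊓ Subgroup.centralizer ({z} : Set H) = ⊥) (E : Subgroup H) (hE : IsKleinFour ↥E) (hzE : z ∈ E) (hc : ∀ e ∈ E, e ≠ 1 → IsConj z e) : IsSimpleGroup H := by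
  have : Nontrivial H := ⟨⟨z, 1, by rintro rfl; simp at hz⟩⟩
  refine ⟨fun N hn => ?_⟩
  by_cases hNtop : N = ⊤
  · exact Or.inr hNtop
  refine Or.inl ?_
  have h0 := hN N hn hNtop
  let φ : ↥N →* ↥N := ((MulAut.conjNormal z : MulAut ↥N)).toMonoidHom
  have hfp : MonoidHom.FixedPointFree φ := fun x hx => Subtype.ext <| by
    have hx' : z * (x : H) * z⁻¹ = x := congrArg Subtype.val hx
    have : (x : H) ∈ N ⊓ Subgroup.centralizer ({z} : Set H) := by
      refine ⟨x.2, Subgroup.mem_centralizer_singleton_iff.2 ?_⟩
      calc (x : H) * z = (z * x * z⁻¹) * z := by rw [hx']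
        _ = z * x := by group
    rw [h0] at this; simpa using this
  have hinv : Function.Involutive φ := fun x => Subtype.ext <| by
    have hz2 : z * z = 1 := by rw [← pow_two, ← hz]; exact pow_orderOf_eq_one z
    change z * (z * (x : H) * z⁻¹) * z⁻¹ = x
    calc z * (z * (x : H) * z⁻¹) * z⁻¹ = (z * z) * x * (z * z)⁻¹ := by group
      _ = x := by rw [hz2]; group
  exact S2008.abelian_normal_eq_bot z hz hN E hE hzE hc N
    ⟨⟨fun a b => (hfp.commute_all_of_involutive hinv a b)⟩⟩

end Cfsg.Agent.S2009
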