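import Cfsg.Statements.S2010
import Cfsg.Agent.Lib.LocalEven.SolvableOffender
import Cfsg.Agent.Lib.LocalEven.ActKernel
import Cfsg.Agent.Lib.PStab.Complement
import Cfsg.Agent.Lib.Transfer.Factorizable

set_option autoImplicit false
open Cfsg

open scoped commutatorElement

namespace Cfsg.Agent.S2010


open Subgroup CfsgLib.PStab in
/-- `J(S)` is normal in a solvable group of characteristic two free of `S₄` with `S` of class at most two. -/
theorem classTwo_key {G : Type*} [Group G] [Finite G] [Group.IsSolvable G]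
    (hS4 : ¬ Cfsg.Involves (Equiv.Perm (Fin 4)) G) (hO : Cfsg.pPrimeCore 2 G = ⊥) (S : Sylow 2 G)
    (hcl : Subgroup.lowerCentralSeries (S : Subgroup G) 2 = ⊥) :
    normalizer ((Cfsg.thompsonSubgroupOf 2 (S : Subgroup G)) : Set G) = ⊤ := by
  haveI : Fact (Nat.Prime 2) := ⟨Nat.prime_two⟩
  set H := pCore 2 G with hH
  have hHp : IsPGroup 2 H := CfsgLib.Cores.isPGroup_pCore 2
  have hHS : H ≤ (S : Subgroup G) := CfsgLib.Cores.pCore_le_sylow S
  have hCH : centralizer (H : Set G) ≤ H := by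
    have hF : fittingSubgroup G ≤ H := by
      rw [CfsgLib.Cores.fittingSubgroup_eq_iSup_pCore]
      refine iSup_le fun q => ?_
      haveI : Fact (q : ℕ).Prime := ⟨Nat.prime_of_mem_primeFactors q.2⟩
      by_cases hqp : (q : ℕ) = 2
      · rw [hqp]
      · refine le_trans ?_ (hO.le.trans bot_le)
        refine CfsgLib.Cores.le_pPrimeCore ?_
        obtain ⟨k, hk⟩ := CfsgLib.Cores.card_pCore_eq_pow (G := G) (q : ℕ)
        rw [hk]
        exact ((Nat.coprime_primes Fact.out Nat.prime_two).2 hqp).pow_left k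
    exact (Subgroup.centralizer_le hF).trans (CfsgLib.Solvable.centralizer_fittingSubgroup_le.trans hF)
  set Z := H ⊓ centralizer (H : Set G) with hZ
  have hZc : ∀ a ∈ Z, ∀ b ∈ Z, a * b = b * a := fun a ha b hb =>
    mem_centralizer_iff.1 hb.2 a ha.1
  set C₁ := CfsgLib.LocalEven.ActKer.commKer (⊤ : Subgroup G) H Z
    (by rw [Subgroup.normalizer_eq_top Z]) with hC₁
  haveI hC₁n : C₁.Normal := ⟨fun k hk l => CfsgLib.LocalEven.ActKer.conj_mem_commKer
    (by rw [Subgroup.normalizer_eq_top H]) (Subgroup.mem_top l) hk⟩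
  have hSC₁ : (S : Subgroup G) ≤ C₁ := by
    intro s hs
    refine ⟨Subgroup.mem_top s, fun h hh => ?_⟩
    have h1 : ⁅s, h⁆ ∈ ⁅(S : Subgroup G), (S : Subgroup G)⁆ := commutator_mem_commutator hs (hHS hh)
    refine Subgroup.mem_inf.2 ⟨?_, mem_centralizer_iff.2 fun v hv => ?_⟩
    · rw [commutatorElement_def]
      exact mul_mem ((inferInstance : H.Normal).conj_mem h hh s) (inv_mem hh)
    · have h2 : ⁅⁅s, h⁆, v⁆ ∈ ⁅⁅(S : Subgroup G), (S : Subgroup G)⁆, (S : Subgroup G)⁆ :=
        commutator_mem_commutator h1 (hHS hv)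
      rw [show ⁅⁅(S : Subgroup G), (S : Subgroup G)⁆, (S : Subgroup G)⁆ = Subgroup.lowerCentralSeries (S : Subgroup G) 2
        from rfl, hcl, Subgroup.mem_bot, commutatorElement_eq_one_iff_mul_comm] at h2
      exact h2.symm
  have hHC₁ : H ≤ C₁ := hHS.trans hSC₁
  set V := omegaOne 2 Z with hV
  have hVn : V.Normal := CfsgLib.PGroup.omegaOne_normal 2 Z
  have hVe : IsElementaryAbelian 2 V := CfsgLib.PGroup.elemAb_omegaOne_of_comm hZc
  have hVZ : V ≤ Z := CfsgLib.PGroup.omegaOne_le 2 Z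
  have hCV : C₁ ⊓ centralizer (V : Set G) = H := by
    refine le_antisymm ?_ (le_inf hHC₁ (Subgroup.le_centralizer_iff.1 (hVZ.trans inf_le_right)))
    refine CfsgLib.Cores.le_pCore (CfsgLib.LocalEven.isPGroup_of_forall_coprime fun x hx hxo => ?_)
    obtain ⟨hx1, hxV⟩ := Subgroup.mem_inf.1 hx
    have hxZ : ∀ (i : ℕ) (v : G), v ∈ Z → v ^ 2 ^ i = 1 → x * v = v * x := by
      intro i
      induction i with
      | zero => intro v _ h; rw [pow_zero, pow_one] at h; simp [h]
      | succ i ih =>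
        intro v hv h
        have hcv : x * v * x⁻¹ ∈ Z := (inferInstance : Z.Normal).conj_mem v hv x
        have hd : v⁻¹ * (x * v * x⁻¹) ∈ Z := mul_mem (inv_mem hv) hcv
        have hv2 : x * v ^ 2 = v ^ 2 * x := ih _ (pow_mem hv 2) (by rwa [← pow_mul, ← pow_succ'])
        have hd2 : (v⁻¹ * (x * v * x⁻¹)) ^ 2 = 1 := by
          rw [(show Commute v⁻¹ (x * v * x⁻¹) from hZc _ (inv_mem hv) _ hcv).mul_pow, conj_pow,
            mul_inv_eq_iff_eq_mul.2 hv2, inv_pow, inv_mul_cancel]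
        refine CfsgLib.LocalEven.commute_of_conj_eq_mul (hHp.to_le (inf_le_left : Z ≤ H)) hd hxo (by group) ?_
        exact (mem_centralizer_iff.1 hxV _ (CfsgLib.PGroup.mem_omegaOne hd hd2)).symm
    have hxZ' : ∀ v ∈ Z, x * v = v * x := fun v hv => by
      obtain ⟨i, hi⟩ := (hHp.to_le (inf_le_left : Z ≤ H)) ⟨v, hv⟩
      exact hxZ i v hv (congrArg Subtype.val hi)
    have hxH : x ∈ centralizer (H : Set G) := mem_centralizer_iff.2 fun v hv => by
      have hd : v⁻¹ * (x * v * x⁻¹) ∈ Z := by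
        have h1 : v⁻¹ * ⁅x, v⁆ * v⁻¹⁻¹ ∈ Z := (inferInstance : Z.Normal).conj_mem _ (hx1.2 v hv) v⁻¹
        rwa [commutatorElement_def, inv_inv, show v⁻¹ * (x * v * x⁻¹ * v⁻¹) * v = v⁻¹ * (x * v * x⁻¹) by group] at h1
      exact (CfsgLib.LocalEven.commute_of_conj_eq_mul (hHp.to_le (inf_le_left : Z ≤ H)) hd hxo (by group)
        (hxZ' _ hd)).symm
    exact CfsgLib.LocalEven.eq_one_of_pow_eq_one_of_pGroup hHp (hCH hxH) hxo (pow_orderOf_eq_one x)
  have hJH : jGen 2 (S : Subgroup G) ≤ H := by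
    refine sSup_le fun A hA => ?_
    by_contra hAH
    apply hS4
    refine CfsgLib.LocalEven.Offender.involves_of_injective C₁.subtype C₁.subtype_injective ?_
    have hAC : A ≤ C₁ := hA.1.trans hSC₁
    have hVC : V ≤ C₁ := (hVZ.trans inf_le_left).trans hHC₁
    have hHeq : pCore 2 ↥C₁ = H.subgroupOf C₁ := by
      rw [← Subgroup.comap_map_eq_self_of_injective C₁.subtype_injective (pCore 2 ↥C₁),
        CfsgLib.Cores.pCore_of_normal 2 C₁]
      rw [← hH, inf_eq_left.2 hHC₁]; rfl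
    haveI : (V.subgroupOf C₁).Normal := hVn.comap _
    have hcent : ∀ X : Subgroup G, X ≤ C₁ →
        centralizer ((X.subgroupOf C₁ : Subgroup C₁) : Set C₁) = (centralizer (X : Set G)).subgroupOf C₁ := by
      intro X hX
      ext y
      simp only [Subgroup.mem_centralizer_iff, Subgroup.mem_subgroupOf, SetLike.mem_coe]
      exact ⟨fun h x hx => congrArg Subtype.val (h ⟨x, hX hx⟩ hx), fun h x hx => Subtype.ext (h x hx)⟩
    have hAp : IsPGroup 2 A := S.2.to_le hA.1
    refine CfsgLib.LocalEven.Offender.involves_of_solvable_offender (V := V.subgroupOf C₁) (A := A.subgroupOf C₁)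
      ?_ ?_ hAp.comap_subtype ?_ ?_ ?_
    · exact CfsgLib.PGroup.elemAb_subgroupOf hVe
    · rw [hHeq, hcent V hVC, ← hCV, Subgroup.inf_subgroupOf_left]
    · exact fun a ha b hb => Subtype.ext (adm_comm hA.2.1 ha hb)
    · rw [hHeq]
      exact fun h => hAH fun a ha => Subgroup.mem_subgroupOf.1 (h (show (⟨a, hAC ha⟩ : C₁) ∈ A.subgroupOf C₁ from ha))
    · rw [hHeq, hcent A hAC, Subgroup.subgroupOf, Subgroup.subgroupOf, Subgroup.subgroupOf, Subgroup.subgroupOf,
        ← Subgroup.comap_inf, ← Subgroup.comap_inf]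
      simp only [← Subgroup.subgroupOf.eq_def]
      rw [Nat.card_congr (Subgroup.subgroupOfEquivOfLe hVC).toEquiv,
        Nat.card_congr (Subgroup.subgroupOfEquivOfLe hAC).toEquiv,
        Nat.card_congr (Subgroup.subgroupOfEquivOfLe ((inf_le_left : A ⊓ H ≤ A).trans hAC)).toEquiv,
        Nat.card_congr (Subgroup.subgroupOfEquivOfLe ((inf_le_left : V ⊓ centralizer (A : Set G) ≤ V).trans hVC)).toEquiv]
      set D := A ⊓ H with hD
      have hDV : ∀ a ∈ D, ∀ b ∈ V, a * b = b * a := fun a ha b hb =>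
        mem_centralizer_iff.1 (hVZ hb).2 a (Subgroup.mem_inf.1 ha).2
      have hAe : IsElementaryAbelian 2 A := hA.2.1
      have hB : Nat.card ↥(D ⊔ V) ≤ Nat.card A := hA.2.2 _
        (sup_le ((inf_le_left).trans hA.1) (hVZ.trans (inf_le_left.trans hHS)))
        (CfsgLib.PGroup.elemAb_sup (CfsgLib.PGroup.elemAb_mono hAe inf_le_left) hVe hDV)
      have e1 := Subgroup.relIndex_mul_relIndex ⊥ (D ⊓ V) V bot_le inf_le_right
      have e2 := Subgroup.relIndex_mul_relIndex ⊥ D (D ⊔ V) bot_le le_sup_left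
      rw [Subgroup.relIndex_bot_left, Subgroup.relIndex_bot_left, Subgroup.inf_relIndex_right] at e1
      rw [Subgroup.relIndex_bot_left, Subgroup.relIndex_bot_left] at e2
      have h1 : D.relIndex V ≤ D.relIndex (D ⊔ V) :=
        Subgroup.relIndex_le_of_le_right le_sup_right Subgroup.FiniteIndex.index_ne_zero
      have h2 : Nat.card ↥(D ⊓ V) ≤ Nat.card ↥(V ⊓ centralizer (A : Set G)) :=
        Subgroup.card_le_of_le fun v hv => Subgroup.mem_inf.2 ⟨(Subgroup.mem_inf.1 hv).2,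
          mem_centralizer_iff.2 fun a ha => adm_comm hA.2.1 ha (Subgroup.mem_inf.1 (Subgroup.mem_inf.1 hv).1).1⟩
      calc Nat.card V * Nat.card D = Nat.card ↥(D ⊓ V) * (Nat.card D * D.relIndex V) := by rw [← e1]; ring
        _ ≤ Nat.card ↥(V ⊓ centralizer (A : Set G)) * Nat.card ↥(D ⊔ V) := by
            rw [← e2]; exact Nat.mul_le_mul h2 (Nat.mul_le_mul_left _ h1)
        _ ≤ Nat.card ↥(V ⊓ centralizer (A : Set G)) * Nat.card A := Nat.mul_le_mul_left _ hB
        _ = Nat.card A * Nat.card ↥(V ⊓ centralizer (A : Set G)) := mul_comm _ _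
  rw [thompsonSubgroupOf_eq_jGen]
  have hJeq : jGen 2 (S : Subgroup G) = jGen 2 H := by
    obtain ⟨A₀, h0⟩ := maxAdm_nonempty 2 (S : Subgroup G)
    refine le_antisymm (sSup_le fun A hA => ?_) (sSup_le fun A hA => ?_)
    · exact le_jGen ⟨(le_jGen hA).trans hJH, hA.2.1, fun C hC hCa => hA.2.2 C (hC.trans hHS) hCa⟩
    · exact le_jGen (maxAdm_of_le hHS h0 ((le_jGen h0).trans hJH) hA)
  rw [hJeq, eq_top_iff]
  exact (Subgroup.normalizer_eq_top (H := H)).ge.trans (normalizer_le_normalizer_jGen 2 H)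

/-- Let G be a finite solvable group with no section isomorphic to the symmetric group of degree 4, whose Sylow 2-subgroup S has nilpotency class at most 2. Then G = N_G(J_e(S)) · O_{2'}(G), where J_e(S) is the subgroup generated by the elementary abelian subgroups of S of largest order. -/
theorem result {G : Type*} [Group G] [Finite G]
    [Group.IsSolvable G] (hS4 : ¬ Cfsg.Involves (Equiv.Perm (Fin 4)) G) (S : Sylow 2 G)
    (hcl : Subgroup.lowerCentralSeries (S : Subgroup G) 2 = ⊥) :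
    Subgroup.normalizer ((Cfsg.thompsonSubgroupOf 2 (S : Subgroup G)) : Set G) ⊔ Cfsg.pPrimeCore 2 G = ⊤ := by
  have h0 := classTwo_key (G := G ⧸ Cfsg.pPrimeCore 2 G) (fun h5 => hS4 (CfsgLib.LocalEven.Offender.involves_of_surjective _
    (QuotientGroup.mk'_surjective _) h5)) (CfsgLib.Cores.pPrimeCore_quotient_self 2)
    (S.mapSurjective (QuotientGroup.mk'_surjective _)) (by
      have hle : ∀ n, Subgroup.lowerCentralSeries ((S : Subgroup G).map (QuotientGroup.mk' (Cfsg.pPrimeCore 2 G))) n =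
          (Subgroup.lowerCentralSeries (S : Subgroup G) n).map (QuotientGroup.mk' (Cfsg.pPrimeCore 2 G)) := by
        intro n
        induction n with
        | zero => rfl
        | succ n ih => rw [Subgroup.lowerCentralSeries_succ, Subgroup.lowerCentralSeries_succ, ih, Subgroup.map_commutator]
      rw [Sylow.coe_mapSurjective, hle, hcl, Subgroup.map_bot])
  rw [eq_top_iff]
  intro g _
  have hinj : Set.InjOn (QuotientGroup.mk' (Cfsg.pPrimeCore 2 G)) ((S : Subgroup G) : Set G) := by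
    intro x hx y hy hxy
    have h1 : x⁻¹ * y ∈ Cfsg.pPrimeCore 2 G := QuotientGroup.eq.1 hxy
    have h2 := CfsgLib.LocalEven.eq_one_of_pow_eq_one_of_pGroup S.2 (mul_mem (inv_mem hx) hy)
      ((CfsgLib.Cores.coprime_card_pPrimeCore 2).coprime_dvd_left (Subgroup.orderOf_dvd_natCard _ h1)) (pow_orderOf_eq_one _)
    exact inv_mul_eq_one.1 h2
  rw [Sylow.coe_mapSurjective, ← CfsgLib.Transfer.thompsonSubgroupOf_map _ hinj] at h0
  have h1 := CfsgLib.PStab.normalizer_map_le (p := 2) (N := Cfsg.pPrimeCore 2 G) (CfsgLib.Cores.coprime_card_pPrimeCore 2)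
    (W := Cfsg.thompsonSubgroupOf 2 (S : Subgroup G)) (S.2.to_le (Subgroup.map_subtype_le _))
    (show QuotientGroup.mk' (Cfsg.pPrimeCore 2 G) g ∈ _ by rw [h0]; trivial)
  obtain ⟨n, hn, hng⟩ := h1
  have h2 : n⁻¹ * g ∈ Cfsg.pPrimeCore 2 G := QuotientGroup.eq.1 hng
  simpa using mul_mem (Subgroup.mem_sup_left (T := Cfsg.pPrimeCore 2 G) hn) (Subgroup.mem_sup_right h2)

end Cfsg.Agent.S2010
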