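import Cfsg.Statements.S2011
import Cfsg.Agent.Lib.Fusion.GroupSystem
import Cfsg.Agent.Lib.Transfer.Frobenius
import Cfsg.Agent.Lib.Cores.Basic

set_option autoImplicit false
open Cfsg

namespace Cfsg.Agent.S2011

open scoped Pointwise

/-- Let G be a finite group with Sylow p-subgroup P and Q ≤ P. Then Q is centric in the fusion system of G on P (C_P(R) ≤ R for every G-conjugate R of Q lying in P) if and only if C_G(Q) is the internal direct product of Z(Q) = Q ∩ C_G(Q) and the largest normal subgroup of C_G(Q) of order prime to p. -/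
theorem result {G : Type*} [Group G] [Finite G] (p : ℕ) [Fact p.Prime] (P : Sylow p G) (Q : Subgroup G) (hQ : Q ≤ P) : (Cfsg.groupFusionSystem (P : Subgroup G)).IsCentric Q ↔ Cfsg.IsInternalDirectProduct (Q ⊓ Subgroup.centralizer (Q : Set G)) ((Cfsg.pPrimeCore p ↥(Subgroup.centralizer (Q : Set G))).map (Subgroup.centralizer (Q : Set G)).subtype) (Subgroup.centralizer (Q : Set G)) := by
  classical
  set C := Subgroup.centralizer (Q : Set G) with hC
  set Z := Q ⊓ C with hZ
  constructor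
  · intro hQc
    obtain ⟨g, hgS, -, hgC⟩ := CfsgLib.Fusion.exists_conjSub_good P hQ
    set R := CfsgLib.Fusion.conjSub g Q with hR
    have hRc : Cfsg.FusionSystem.centralizerIn (P : Subgroup G) R ≤ R :=
      hQc.2 R (CfsgLib.Fusion.isConj_groupFusion_iff.2 ⟨hQ, hgS, g, rfl⟩)
    have hi : ¬ p ∣ Z.relIndex C := by
      intro h
      refine hgC ?_
      rw [← CfsgLib.Fusion.relIndex_conjSub g] at h
      refine h.trans (dvd_of_eq ?_)
      rw [hC, CfsgLib.Fusion.map_conj_centralizer]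
      congr 1
      rw [hZ, hC, CfsgLib.Fusion.conjSub, Subgroup.map_inf _ _ _ (MulAut.conj g).injective]
      rw [← CfsgLib.Fusion.conjSub, ← CfsgLib.Fusion.conjSub, CfsgLib.Fusion.map_conj_centralizer]
      exact le_antisymm (inf_le_inf_right _ hgS) (le_inf hRc inf_le_right)
    have hZp : IsPGroup p ↥(Z.subgroupOf C) := (P.2.to_le (inf_le_left.trans hQ)).comap_subtype
    let S : Sylow p ↥C := hZp.toSylow hi
    have hSZ : (S : Subgroup ↥C) = Z.subgroupOf C := IsPGroup.toSylow_coe _ _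
    have hcen : ∀ z ∈ (S : Subgroup ↥C), ∀ y : ↥C, z * y = y * z := fun z hz y => by
      rw [hSZ] at hz
      exact Subtype.ext (Subgroup.mem_centralizer_iff.1 y.2 (z : G) hz.1)
    obtain ⟨S', N, hN, hcompl⟩ := CfsgLib.Transfer.hasNormalPComplement_of_normalizer_le_centralizer S
      (fun y _ => Subgroup.mem_centralizer_iff.2 fun z hz => hcen z hz y)
    have hNO : N ≤ Cfsg.pPrimeCore p ↥C := by
      refine le_sSup ⟨hN, ?_⟩
      have := hcompl.card_mul
      obtain ⟨k, hk⟩ := S'.2.exists_card_eq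
      refine ((Fact.out : p.Prime).coprime_iff_not_dvd.2 fun h => S'.not_dvd_index ?_).symm
      rw [hcompl.index_eq_card]
      exact h
    have hS' : (S' : Subgroup ↥C) = (S : Subgroup ↥C) := by
      obtain ⟨y, hy⟩ := MulAction.exists_smul_eq ↥C S S'
      rw [← hy, Sylow.coe_subgroup_smul]
      ext z
      rw [Subgroup.mem_pointwise_smul_iff_inv_smul_mem]
      constructor
      · intro hz
        have := hcen _ hz y
        simp only [MulAut.smul_def, ← map_inv, MulAut.conj_apply, inv_inv] at this hz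
        have e : y⁻¹ * z * y = z := by
          have h2 : y⁻¹ * z * y = y * (y⁻¹ * z * y) * y⁻¹ := by rw [← this, mul_inv_cancel_right]
          rw [h2]; group
        rwa [e] at hz
      · intro hz
        simp only [MulAut.smul_def, ← map_inv, MulAut.conj_apply, inv_inv]
        rw [mul_assoc, hcen z hz y, inv_mul_cancel_left]
        exact hz
    refine ⟨inf_le_right, Subgroup.map_subtype_le _, fun a ha b hb => ?_, ?_, ?_⟩
    · exact Subgroup.mem_centralizer_iff.1 (Subgroup.map_subtype_le _ hb) a ha.1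
    · refine le_bot_iff.1 ?_
      rintro a ⟨ha, b, hb, rfl⟩
      have h1 : orderOf b ∣ Nat.card ↥(Cfsg.pPrimeCore p ↥C) := by
        rw [← Subgroup.orderOf_mk b hb]
        exact orderOf_dvd_natCard _
      have hbQ : (b : G) ∈ Q := ha.1
      obtain ⟨k, hk⟩ := IsPGroup.iff_orderOf.1 (P.2.to_le hQ) ⟨(b : G), hbQ⟩
      rw [Subgroup.orderOf_mk, Subgroup.orderOf_coe] at hk
      have : b = 1 := orderOf_eq_one_iff.1 (Nat.eq_one_of_dvd_coprimes
        (Nat.Coprime.pow_left k (CfsgLib.Cores.coprime_card_pPrimeCore p).symm) (dvd_of_eq hk) h1)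
      rw [this]
      exact Subgroup.mem_bot.2 rfl
    · refine le_antisymm (sup_le inf_le_right (Subgroup.map_subtype_le _)) fun y hy => ?_
      have : (⟨y, hy⟩ : ↥C) ∈ N ⊔ (S' : Subgroup ↥C) := by rw [hcompl.sup_eq_top]; trivial
      have h2 : (⟨y, hy⟩ : ↥C) ∈ Cfsg.pPrimeCore p ↥C ⊔ Z.subgroupOf C :=
        sup_le_sup hNO (hS'.trans hSZ).le this
      have h3 : y ∈ (Cfsg.pPrimeCore p ↥C ⊔ Z.subgroupOf C).map C.subtype := ⟨_, h2, rfl⟩
      rw [Subgroup.map_sup, Subgroup.subgroupOf_map_subtype, sup_comm, inf_of_le_left inf_le_right] at h3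
      exact h3
  · rintro ⟨-, -, hcomm, -, hsup⟩
    refine ⟨hQ, fun R hR => ?_⟩
    obtain ⟨-, hRP, g, rfl⟩ := CfsgLib.Fusion.isConj_groupFusion_iff.1 hR
    intro x hx
    set y := g⁻¹ * x * g with hy
    have hyC : y ∈ C := by
      have := hx.2
      rw [SetLike.mem_coe, Subgroup.mem_toSubmonoid, ← CfsgLib.Fusion.map_conj_centralizer, CfsgLib.Fusion.mem_conjSub] at this
      exact this
    have hy2 : (⟨y, hyC⟩ : ↥C) ∈ Z.subgroupOf C ⊔ Cfsg.pPrimeCore p ↥C := by
      have h3 : y ∈ (Z.subgroupOf C ⊔ Cfsg.pPrimeCore p ↥C).map C.subtype := by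
        rw [Subgroup.map_sup, Subgroup.subgroupOf_map_subtype, inf_of_le_left inf_le_right]
        exact hsup.ge hyC
      obtain ⟨w, hw, hwy⟩ := h3
      exact (show w = ⟨y, hyC⟩ from Subtype.ext hwy) ▸ hw
    obtain ⟨z, hz, o, ho, hzo⟩ := Subgroup.mem_sup_of_normal_right.1 hy2
    obtain ⟨k, hk⟩ := IsPGroup.iff_orderOf.1 P.2 ⟨x, hx.1⟩
    rw [Subgroup.orderOf_mk] at hk
    have hzQ : (z : G) ∈ Q := hz.1
    obtain ⟨l, hl⟩ := IsPGroup.iff_orderOf.1 (P.2.to_le hQ) ⟨(z : G), hzQ⟩
    rw [Subgroup.orderOf_mk, Subgroup.orderOf_coe] at hl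
    have hyo : orderOf (⟨y, hyC⟩ : ↥C) = p ^ k := by
      rw [Subgroup.orderOf_mk, hy, ← hk, show g⁻¹ * x * g = (MulAut.conj g⁻¹) x by simp]
      exact MulEquiv.orderOf_eq _ _
    have hco : Commute z o := Subtype.ext (Subgroup.mem_centralizer_iff.1 o.2 (z : G) hz.1)
    have ho1 : o = 1 := by
      have h1 : orderOf o ∣ Nat.card ↥(Cfsg.pPrimeCore p ↥C) := by
        rw [← Subgroup.orderOf_mk o ho]
        exact orderOf_dvd_natCard _
      have h2 : orderOf o ∣ p ^ (k + l) := by
        have : o = z⁻¹ * ⟨y, hyC⟩ := by rw [← hzo, inv_mul_cancel_left]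
        refine orderOf_dvd_of_pow_eq_one ?_
        rw [this]
        have hc2 : Commute z⁻¹ (⟨y, hyC⟩ : ↥C) := by
          rw [← hzo]
          exact ((Commute.refl z).mul_right hco).inv_left
        have hz1 : z ^ p ^ (k + l) = 1 :=
          orderOf_dvd_iff_pow_eq_one.1 (hl ▸ pow_dvd_pow p (Nat.le_add_left l k))
        have hy1 : (⟨y, hyC⟩ : ↥C) ^ p ^ (k + l) = 1 :=
          orderOf_dvd_iff_pow_eq_one.1 (hyo ▸ pow_dvd_pow p (Nat.le_add_right k l))
        rw [hc2.mul_pow, inv_pow, hz1, hy1, inv_one, one_mul]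
      exact orderOf_eq_one_iff.1 (Nat.eq_one_of_dvd_coprimes
        (Nat.Coprime.pow_left (k + l) (CfsgLib.Cores.coprime_card_pPrimeCore p).symm) h2 h1)
    rw [ho1, mul_one] at hzo
    rw [CfsgLib.Fusion.mem_conjSub]
    have := hz.1
    rw [hzo] at this
    exact this

end Cfsg.Agent.S2011
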