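import Cfsg.Statements.S2014
import Cfsg.Agent.Lib.Transfer.Basic
import Cfsg.Agent.Lib.Transfer.Fusion

set_option autoImplicit false
open Cfsg

namespace Cfsg.Agent.S2014

/-- Let P be a Sylow p-subgroup of a finite group G and A, C ≤ P subgroups conjugate in G, with C extremal: N_P(C) is a Sylow p-subgroup of N_G(C). Then there is g with gAg⁻¹ = C and g N_P(A) g⁻¹ ≤ N_P(C); moreover, given any h with hAh⁻¹ = C, g can be chosen so that h g⁻¹ lies in O^p(N_G(C)), the subgroup of N_G(C) generated by its elements of order prime to p. -/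
theorem result {G : Type*} [Group G] [Finite G] (p : ℕ) [Fact p.Prime] (P : Sylow p G) (A C : Subgroup G) (hA : A ≤ P) (hC : C ≤ P) (hext : ¬ p ∣ ((P : Subgroup G) ⊓ Subgroup.normalizer ((C : Subgroup G) : Set G)).relIndex (Subgroup.normalizer ((C : Subgroup G) : Set G))) (h : G) (hh : A.map (MulAut.conj h).toMonoidHom = C) : ∃ g : G, A.map (MulAut.conj g).toMonoidHom = C ∧ ((P : Subgroup G) ⊓ Subgroup.normalizer ((A : Subgroup G) : Set G)).map (MulAut.conj g).toMonoidHom ≤ (P : Subgroup G) ⊓ Subgroup.normalizer ((C : Subgroup G) : Set G) ∧ h * g⁻¹ ∈ (Cfsg.pResidual p ↥(Subgroup.normalizer ((C : Subgroup G) : Set G))).map (Subgroup.normalizer ((C : Subgroup G) : Set G)).subtype := by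
  set N := Subgroup.normalizer ((C : Subgroup G) : Set G) with hN
  have hPN : ¬ p ∣ (((P : Subgroup G) ⊓ N).subgroupOf N).index := hext
  let R : Sylow p ↥N := IsPGroup.toSylow ((P.2.to_le inf_le_left).comap_subtype (K := N)) hPN
  have hAN : ((P : Subgroup G) ⊓ Subgroup.normalizer ((A : Subgroup G) : Set G)).map (MulAut.conj h).toMonoidHom ≤ N := by
    rintro _ ⟨x, ⟨-, hx⟩, rfl⟩
    rw [hN, ← hh]
    refine Subgroup.mem_normalizer_iff.2 fun y => ?_
    have e : MulAut.conj h x * y * (MulAut.conj h x)⁻¹ =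
        (MulAut.conj h) (x * ((MulAut.conj h).symm y) * x⁻¹) := by simp [mul_assoc]
    change y ∈ A.map (MulAut.conj h).toMonoidHom ↔
      MulAut.conj h x * y * (MulAut.conj h x)⁻¹ ∈ A.map (MulAut.conj h).toMonoidHom
    rw [Subgroup.mem_map_equiv, Subgroup.mem_map_equiv, e, MulEquiv.symm_apply_apply]
    exact Subgroup.mem_normalizer_iff.1 hx _
  obtain ⟨k, hk⟩ := CfsgLib.Transfer.exists_conj_mem_sylow R
    (((P.2.to_le inf_le_left).map _).comap_subtype (K := N)
      (H := ((P : Subgroup G) ⊓ Subgroup.normalizer ((A : Subgroup G) : Set G)).map (MulAut.conj h).toMonoidHom))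
  have hk0 : k ∈ (pResidual p ↥N) ⊔ (R : Subgroup ↥N) := by
    rw [CfsgLib.Transfer.pResidual_sup_sylow]; trivial
  have hnorm : (pResidual p ↥N).Normal := by infer_instance
  obtain ⟨s, hs, o, ho, hso⟩ := Subgroup.mem_sup_of_normal_right.1 (show k ∈ (R : Subgroup ↥N) ⊔ pResidual p ↥N from sup_comm (pResidual p ↥N) _ ▸ hk0)
  refine ⟨(o : G) * h, ?_, ?_, ?_⟩
  · rw [show (MulAut.conj ((o : G) * h)).toMonoidHom =
        (MulAut.conj (o : G)).toMonoidHom.comp (MulAut.conj h).toMonoidHom by ext; simp [mul_assoc],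
      ← Subgroup.map_map, hh]
    refine Subgroup.eq_of_le_of_card_ge ?_ ?_
    · rintro _ ⟨x, hx, rfl⟩
      exact (Subgroup.mem_normalizer_iff.1 o.2 x).1 hx
    · rw [Subgroup.card_map_of_injective (MulAut.conj (o : G)).injective]
  · rintro _ ⟨x, hx, rfl⟩
    have hk' := hk ⟨_, hAN ⟨x, hx, rfl⟩⟩ ⟨x, hx, rfl⟩
    have : (o * ⟨_, hAN ⟨x, hx, rfl⟩⟩ * o⁻¹ : ↥N) ∈ (R : Subgroup ↥N) := by
      have := Subgroup.mul_mem _ (Subgroup.mul_mem _ (Subgroup.inv_mem _ hs) hk') hs
      convert this using 1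
      rw [← hso]; group
    have h2 : ((o * ⟨_, hAN ⟨x, hx, rfl⟩⟩ * o⁻¹ : ↥N) : G) ∈ (P : Subgroup G) ⊓ N := this
    simpa [mul_assoc] using h2
  · refine ⟨o⁻¹, Subgroup.inv_mem _ ho, ?_⟩
    simp

end Cfsg.Agent.S2014
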