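import Cfsg.Statements.S2015
import Cfsg.Agent.Lib.Techniques.KInfControl

set_option autoImplicit false
universe u
open Cfsg

namespace Cfsg.Agent.S2015

open CfsgLib.Techniques CfsgLib.Techniques.Functor CfsgLib.Techniques.KInfControl

/-- For p ≥ 5, every finite p-group P has a characteristic subgroup K containing Z(P), depending only on P, whose normalizer controls transfer wherever P is a Sylow subgroup: for every finite group G and every embedding ι of P onto a Sylow p-subgroup of G, the intersection of ι(P) with the derived subgroup of G equals its intersection with the derived subgroup of N_G(ι(K)). -/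
theorem result (p : ℕ) [Fact p.Prime] (hp : 5 ≤ p) (P : Type u) [Group P] [Finite P] (hP : IsPGroup p P) : ∃ K : Subgroup P, K.Characteristic ∧ Subgroup.center P ≤ K ∧ ∀ (G : Type u) [Group G] [Finite G] (ι : P →* G), Function.Injective ι → (∃ T : Sylow p G, (T : Subgroup G) = ι.range) → ι.range ⊓ commutator G = ι.range ⊓ (commutator ↥(Subgroup.normalizer ((K.map ι : Subgroup G) : Set G))).map (Subgroup.normalizer ((K.map ι : Subgroup G) : Set G)).subtype := by
  refine ⟨Cfsg.kInfLower P, ?_, KSeq.center_le_kInfLower hP, fun G _ _ ι hι hT => ?_⟩
  · exact Subgroup.characteristic_iff_map_eq.2 fun e => (KSeq.map_kInf_equiv e).1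
  · obtain ⟨T, hT⟩ := hT
    have hK : (Cfsg.kInfLower P).map ι = Cfsg.inducedFunctor Cfsg.kInfLower (T : Subgroup G) := by
      have e := (KSeq.map_kInf_equiv ((MonoidHom.ofInjective hι).trans
        (MulEquiv.subgroupCongr hT.symm))).1
      unfold Cfsg.inducedFunctor
      rw [← e, Subgroup.map_map]
      rfl
    have h := tgtOK isKInf_lower hp G G (IsSect.refl G) T
    rw [tgt_singleton, hT] at h
    rw [Subgroup.map_subtype_commutator, commutator_def, hK]
    rw [← hT] at h ⊢
    exact le_antisymm h (inf_le_inf_left _ (Subgroup.commutator_mono le_top le_top))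

end Cfsg.Agent.S2015
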