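import Cfsg.Statements.S2062
import Cfsg.Agent.Lib.MathieuOut.Outer

set_option autoImplicit false
open Cfsg

namespace Cfsg.Agent.S2062

/-- The outer automorphism group of the Mathieu group M₂₂ (the permutations in the automorphism group of the length-24 binary code that fix each of two given points) has order 2. -/
theorem result : Nat.card (Cfsg.Out ↥Cfsg.Spor.M22) = 2 := by
  exact CfsgLib.MathieuOut.out_M22

end Cfsg.Agent.S2062
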