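import Cfsg.Statements.S2066
import Cfsg.Agent.Lib.Ico.Out

set_option autoImplicit false
open Cfsg

namespace Cfsg.Agent.S2066

/-- The outer automorphism group of the Hall–Janko group J₂ (the icosian reflection group modulo its centre) has order 2. -/
theorem result : Nat.card (Cfsg.Out Cfsg.Spor.J2) = 2 := by
  obtain ⟨e⟩ := CfsgLib.Ico.j2_equiv
  refine (Nat.card_congr (QuotientGroup.congr (Cfsg.Inn Cfsg.Spor.J2) (Cfsg.Inn ↥CfsgLib.Golay.J2.grpJ2)
    (MulAut.congr e) ?_).toEquiv).trans CfsgLib.Ico.card_out_grpJ2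
  ext ψ
  constructor
  · rintro ⟨_, ⟨x, rfl⟩, rfl⟩
    exact ⟨e x, MulEquiv.ext fun y => by simp [MulAut.congr, MulAut.conj_apply]⟩
  · rintro ⟨x, rfl⟩
    exact ⟨_, ⟨e.symm x, rfl⟩, MulEquiv.ext fun y => by simp [MulAut.congr, MulAut.conj_apply]⟩

end Cfsg.Agent.S2066
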