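import Cfsg.Statements.S2080
import Cfsg.Agent.Lib.Fi23P.OutClass
import Cfsg.Prelude.Def_KGroupFacts

set_option autoImplicit false
open Cfsg

namespace Cfsg.Agent.S2080

/-- The outer automorphism group of the Fischer group Fi₂₃ (the finitely presented group of the definitions) is trivial: every automorphism is inner. -/
theorem result : Nat.card (Cfsg.Out Cfsg.Spor.Fi23) = 1 := by
  rw [Nat.card_eq_one_iff_unique]
  refine ⟨⟨fun a b => ?_⟩, ⟨1⟩⟩
  obtain ⟨a, rfl⟩ := QuotientGroup.mk_surjective a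
  obtain ⟨b, rfl⟩ := QuotientGroup.mk_surjective b
  rw [QuotientGroup.eq]
  obtain ⟨h, e⟩ := CfsgLib.Fi23P.aut_inner (a⁻¹ * b)
  exact ⟨h, e.symm⟩

end Cfsg.Agent.S2080
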