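import Cfsg.Statements.S2087
import Cfsg.Agent.Lib.Known.SLLift.Multiplier
import Cfsg.Agent.Lib.Known.SLLift.Congr
import Cfsg.Agent.S0495

set_option autoImplicit false
open Cfsg

namespace Cfsg.Agent.S2087

/-- Exceptional Schur multiplier: over the field with 2 elements, PSL₃ has Schur multiplier cyclic of order 2 (here the Schur multiplier is described through stem extensions, as in the definitions). -/
theorem result {F : Type*} [Field F] [Fintype F] (hF : Fintype.card F = 2) : Cfsg.HasCyclicSchurMultiplier (Matrix.ProjectiveSpecialLinearGroup (Fin 3) F) 2 := by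
  haveI : Fact (Nat.Prime 7) := ⟨by norm_num⟩
  haveI : IsSimpleGroup (Matrix.ProjectiveSpecialLinearGroup (Fin 3) F) :=
    CfsgLib.Classical.isSimpleGroup_PSL (by simp)
  have hcard : Nat.card (Matrix.ProjectiveSpecialLinearGroup (Fin 3) F) = 168 := by
    have h := CfsgLib.Classical.card_PSL_mul hF 3 (by norm_num)
    simp [Fin.prod_univ_three] at h
    exact h
  have h7 : Fintype.card (ULift.{u_1} (ZMod 7)) = 7 := by simp
  haveI : Finite (Matrix.ProjectiveSpecialLinearGroup (Fin 3) F) := Nat.finite_of_card_ne_zero (by omega)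
  obtain ⟨e⟩ := Cfsg.Agent.S0495.result hcard h7
  have h := CfsgLib.Known.SLLift.psl_multiplier (F := ULift.{u_1} (ZMod 7)) (n := 2) le_rfl
    (fun _ => by rw [h7]; norm_num) (fun h => absurd h (by norm_num)) (fun h => absurd h (by norm_num))
  rw [h7] at h
  exact CfsgLib.Known.SLLift.hasSchurMultiplier_congr e.symm h

end Cfsg.Agent.S2087
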