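import Cfsg.Statements.S2108
import Cfsg.Agent.Lib.Known.RootLift.E6Cover

set_option autoImplicit false
open Cfsg

namespace Cfsg.Agent.S2108

/-- Schur multipliers of the twisted groups of type ²E₆: for a prime power q ≠ 2, with the group realised over the field with q² elements, the Schur multiplier of ²E₆(q) is cyclic of order gcd(3, q + 1) (here the Schur multiplier is described through stem extensions, as in the definitions); q = 2 is exceptional. -/
theorem result {K : Type*} [Field K] [Fintype K] {q : ℕ} (hq : IsPrimePow q) (hK : Fintype.card K = q ^ 2) (h2 : q ≠ 2) : Cfsg.HasCyclicSchurMultiplier ↥(Cfsg.Lie.twistedE6 K q) (Nat.gcd 3 (q + 1)) := by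
  obtain ⟨C⟩ := CfsgLib.Chev.TwE6.nonempty_ctx hq hK
  have hle := CfsgLib.Known.RootLift.E6.stem_card_le_gcd C hq h2
  rcases (Nat.dvd_prime Nat.prime_three).1 (Nat.gcd_dvd_left 3 (q + 1)) with h | h
  · rw [h] at hle ⊢
    refine CfsgLib.Schur.hasCyclicSchurMultiplier_one fun Γ _ _ σ hσ => ?_
    rw [← MonoidHom.ker_eq_bot_iff]
    exact Subgroup.eq_bot_of_card_le _ (hle Γ σ hσ)
  · rw [h] at hle ⊢
    obtain ⟨p, n, hp, -, hpn⟩ := (isPrimePow_nat_iff q).1 hq
    haveI : Fact p.Prime := ⟨hp⟩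
    obtain ⟨Γ, _, _, π, hπ, hcard⟩ := CfsgLib.Known.RootLift.E6.exists_cover C h hpn.symm
    haveI : IsCyclic π.ker := isCyclic_of_prime_card (hp := ⟨Nat.prime_three⟩) hcard
    exact CfsgLib.Known.SplitLift.hasSchurMultiplier_of_max C.perfect_twisted π hπ
      ⟨mulEquivOfCyclicCardEq (by rw [hcard]; simp)⟩
      (fun E _ _ σ hσ => (hle E σ hσ).trans hcard.ge)

end Cfsg.Agent.S2108
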