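import Cfsg.Statements.S2112
import Cfsg.Agent.Lib.Schur.Sz8Bound
import Cfsg.Agent.Lib.Schur.Sz8Exists

set_option autoImplicit false
open Cfsg

namespace Cfsg.Agent.S2112

/-- Exceptional Schur multiplier: the Suzuki group Sz(8), built over the field with 8 elements using the map x ↦ x⁴, has Schur multiplier a four-group, the product of two cyclic groups of order 2 (here the Schur multiplier is described through stem extensions, as in the definitions). -/
theorem result {F : Type*} [Field F] [Fintype F] (hF : Fintype.card F = 8) : Cfsg.HasSchurMultiplier ↥(Cfsg.Lie.Sz F 4) (Multiplicative (ZMod 2 × ZMod 2)) := by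
  have h8 : Fintype.card F = 2 ^ (2 * 1 + 1) := hF.trans (by norm_num)
  haveI : CharP F 2 := by
    have h := (Nat.cast_card_eq_zero F : ((Fintype.card F : ℕ) : F) = 0)
    rw [hF, show (8 : ℕ) = 2 ^ 3 from rfl, Nat.cast_pow] at h
    exact CharTwo.of_one_ne_zero_of_two_eq_zero one_ne_zero
      (by exact_mod_cast (pow_eq_zero_iff (by norm_num)).1 h)
  obtain ⟨ω, hω, hb⟩ := CfsgLib.Schur.Sz8.exists_root hF
  have key : Cfsg.HasSchurMultiplier ↥(Cfsg.Lie.Sz F (2 ^ (1 + 1)))
      (Multiplicative (ZMod 2 × ZMod 2)) := ⟨CfsgLib.Schur.Sz8.exists_cover h8 hω hb,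
    fun Γ _ _ σ hσ => CfsgLib.Schur.Sz8.exists_surjection h8 hσ⟩
  have h4 : (2 : ℕ) ^ (1 + 1) = 4 := by norm_num
  rw [h4] at key
  exact key

end Cfsg.Agent.S2112
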