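import Cfsg.Statements.S2121
import Cfsg.Agent.Lib.Known.ChevAutGraph
import Cfsg.Agent.Lib.Chev.Orders

set_option autoImplicit false
open Cfsg

namespace Cfsg.Agent.S2121

/-- Outer automorphisms of the Chevalley groups of type G₂: over a field with q = p^f (p prime) ≥ 3 elements, the outer automorphism group of G₂(q) has order f when p ≠ 3 and 2f when p = 3 (field automorphisms, and in characteristic 3 also the exceptional graph automorphism). -/
theorem result {F : Type*} [Field F] [Fintype F] (p f : ℕ) [Fact p.Prime] [CharP F p] (hF : Fintype.card F = p ^ f) (hq : 3 ≤ p ^ f) : Nat.card (Cfsg.Out ↥(Cfsg.Lie.chevG2.group F)) = (if p = 3 then 2 * f else f) := by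
  open CfsgLib.Chev CfsgLib.Chev.AutThm in
  (obtain ⟨⟨co, hD⟩, hC⟩ := good_G2
   rw [card_out hD hC (form_G2 (F := F)) card_diag_G2, card_aut_field hF, one_mul]
   have hp : ringChar F = p := ringChar.eq F p
   by_cases h3 : p = 3
   · subst h3
     obtain ⟨α, hα⟩ := exists_graph_G2 (F := F)
     have hn := piHom_of_norm hD hC (norm_of_graph hD hα Fin.revPerm (by decide +kernel))
     rw [card_range_two Fin.revPerm (fun π hπ => symTwo_cases (range_le hD hC form_G2 hπ)) ⟨α, hn⟩
       (by decide +kernel), if_pos rfl, mul_comm]
   · have h1 : (piHom hD hC (F := F)).range = ⊥ := by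
       refine (Subgroup.eq_bot_iff_forall _).2 fun π hπ => ?_
       rcases range_le hD hC form_G2 hπ with e | ⟨-, e | e⟩
       · exact e
       · exact absurd (hp.symm.trans e) h3
       · rw [Nat.card_eq_fintype_card, hF] at e
         omega
     rw [h1, Subgroup.card_bot, mul_one, if_neg h3])

end Cfsg.Agent.S2121
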