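import Cfsg.Statements.S2122
import Cfsg.Agent.Lib.Known.ChevAutGraph
import Cfsg.Agent.Lib.Chev.Orders

set_option autoImplicit false
open Cfsg

namespace Cfsg.Agent.S2122

/-- Outer automorphisms of the Chevalley groups of type F₄: over a field with q = p^f (p prime) elements, the outer automorphism group of F₄(q) has order gcd(2, p) · f (field automorphisms, and in characteristic 2 also the exceptional graph automorphism). -/
theorem result {F : Type*} [Field F] [Fintype F] (p f : ℕ) [Fact p.Prime] [CharP F p] (hF : Fintype.card F = p ^ f) : Nat.card (Cfsg.Out ↥(Cfsg.Lie.chevF4.group F)) = Nat.gcd 2 p * f := by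
  open CfsgLib.Chev CfsgLib.Chev.AutThm in
  (obtain ⟨⟨co, hD⟩, hC⟩ := good_F4
   rw [card_out hD hC (form_F4 (F := F)) card_diag_F4, card_aut_field hF, one_mul]
   have hp : ringChar F = p := ringChar.eq F p
   by_cases h2 : p = 2
   · subst h2
     obtain ⟨α, hα⟩ := exists_graph_F4 (F := F)
     have hn := piHom_of_norm hD hC (norm_of_graph hD hα Fin.revPerm (by decide +kernel))
     rw [card_range_two Fin.revPerm (fun π hπ => symTwo_cases (range_le hD hC form_F4 hπ)) ⟨α, hn⟩
       (by decide +kernel)]
     rw [Nat.gcd_self, mul_comm]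
   · have h1 : (piHom hD hC (F := F)).range = ⊥ := by
       refine (Subgroup.eq_bot_iff_forall _).2 fun π hπ => ?_
       rcases range_le hD hC form_F4 hπ with e | ⟨-, e⟩
       · exact e
       · exact absurd (hp.symm.trans e) h2
     rw [h1, Subgroup.card_bot, mul_one,
       (Nat.coprime_primes Nat.prime_two (Fact.out : p.Prime)).2 (Ne.symm h2), one_mul])

end Cfsg.Agent.S2122
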