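import Cfsg.Statements.S2123
import Cfsg.Agent.Lib.Known.ChevAutGraph
import Cfsg.Agent.Lib.Chev.Orders

set_option autoImplicit false
open Cfsg

namespace Cfsg.Agent.S2123

/-- Outer automorphisms of the (adjoint, simple) Chevalley groups of type E₆: over a field with q = p^f (p prime) elements, the outer automorphism group of E₆(q) has order 2 · gcd(3, q − 1) · f (diagonal, field and graph automorphisms). -/
theorem result {F : Type*} [Field F] [Fintype F] (p f : ℕ) [Fact p.Prime] [CharP F p] (hF : Fintype.card F = p ^ f) : Nat.card (Cfsg.Out ↥(Cfsg.Lie.chevE6.group F)) = 2 * Nat.gcd 3 (p ^ f - 1) * f := by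
  open CfsgLib.Chev CfsgLib.Chev.AutThm in
  (obtain ⟨⟨co, hD⟩, hC⟩ := good_E6
   rw [card_out hD hC (form_E6 (F := F)) card_diag_E6, card_aut_field hF,
     Nat.card_eq_fintype_card (α := F), hF]
   obtain ⟨α, hα⟩ := exists_graph_E6 (F := F)
   have hn := piHom_of_norm hD hC (norm_of_graph hD hα e6Sym (by decide +kernel))
   rw [card_range_two e6Sym (fun π hπ => adj_E6 (range_le hD hC form_E6 hπ)) ⟨α, hn⟩
     (by decide +kernel)]
   ring)

end Cfsg.Agent.S2123
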