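import Cfsg.Statements.S2124
import Cfsg.Agent.Lib.Known.ChevAutGraph
import Cfsg.Agent.Lib.Chev.Orders

set_option autoImplicit false
open Cfsg

namespace Cfsg.Agent.S2124

/-- Outer automorphisms of the (adjoint, simple) Chevalley groups of type E₇: over a field with q = p^f (p prime) elements, the outer automorphism group of E₇(q) has order gcd(2, q − 1) · f (diagonal and field automorphisms). -/
theorem result {F : Type*} [Field F] [Fintype F] (p f : ℕ) [Fact p.Prime] [CharP F p] (hF : Fintype.card F = p ^ f) : Nat.card (Cfsg.Out ↥(Cfsg.Lie.chevE7.group F)) = Nat.gcd 2 (p ^ f - 1) * f := by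
  open CfsgLib.Chev CfsgLib.Chev.AutThm in
  (obtain ⟨⟨co, hD⟩, hC⟩ := good_E7
   rw [card_out hD hC (form_E7 (F := F)) card_diag_E7, card_aut_field hF,
     Nat.card_eq_fintype_card (α := F), hF]
   have h1 : (piHom hD hC (F := F)).range = ⊥ :=
     (Subgroup.eq_bot_iff_forall _).2 fun π hπ => adj_E7 (range_le hD hC form_E7 hπ)
   rw [h1, Subgroup.card_bot, mul_one])

end Cfsg.Agent.S2124
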