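import Cfsg.Statements.S2125
import Cfsg.Agent.Lib.Known.ChevAutGraph
import Cfsg.Agent.Lib.Chev.Orders

set_option autoImplicit false
open Cfsg

namespace Cfsg.Agent.S2125

/-- Outer automorphisms of the Chevalley groups of type E₈: over a field with p^f elements, p prime, the outer automorphism group of E₈(p^f) has order f (field automorphisms only). -/
theorem result {F : Type*} [Field F] [Fintype F] (p f : ℕ) [Fact p.Prime] [CharP F p] (hF : Fintype.card F = p ^ f) : Nat.card (Cfsg.Out ↥(Cfsg.Lie.chevE8.group F)) = f := by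
  open CfsgLib.Chev CfsgLib.Chev.AutThm in
  (obtain ⟨⟨co, hD⟩, hC⟩ := good_E8
   rw [card_out hD hC (form_E8 (F := F)) card_diag_E8, card_aut_field hF, one_mul]
   have h1 : (piHom hD hC (F := F)).range = ⊥ :=
     (Subgroup.eq_bot_iff_forall _).2 fun π hπ => adj_E8 (range_le hD hC form_E8 hπ)
   rw [h1, Subgroup.card_bot, mul_one])

end Cfsg.Agent.S2125
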