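import Cfsg.Statements.S2140
import Cfsg.Agent.Lib.Known.PSLMinIndexMain
import Cfsg.Agent.Lib.KnownSimple.PSLAut.Stabilizers

set_option autoImplicit false
open Cfsg

namespace Cfsg.Agent.S2140

/-- Minimal index of a proper subgroup of the linear groups: for n ≥ 3 and a field F with q elements, (n, q) ≠ (4, 2), every proper subgroup of PSL_n(F) has index at least (q^n − 1)/(q − 1), and some subgroup has exactly that index (the stabiliser of a point of the projective space). -/
theorem result {F : Type*} [Field F] [Fintype F] {q : ℕ} (hF : Fintype.card F = q) (n : ℕ) (hn : 3 ≤ n) (hexc : ¬ (n = 4 ∧ q = 2)) : (∀ H : Subgroup (Matrix.ProjectiveSpecialLinearGroup (Fin n) F), H ≠ ⊤ → (q ^ n - 1) / (q - 1) ≤ H.index) ∧ (∃ H : Subgroup (Matrix.ProjectiveSpecialLinearGroup (Fin n) F), H.index = (q ^ n - 1) / (q - 1)) := by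
  classical
  subst hF
  constructor
  · intro H hH
    have hs : Function.Surjective (QuotientGroup.mk' (Subgroup.center (Matrix.SpecialLinearGroup (Fin n) F))) :=
      QuotientGroup.mk'_surjective _
    have hi := H.index_comap_of_surjective hs
    refine (CfsgLib.Known.PSLMinIndex.index_ge _ hn hexc ?_).trans hi.le
    intro he
    exact hH (Subgroup.index_eq_one.mp (by rw [← hi, he, Subgroup.index_top]))
  · obtain ⟨p⟩ : Nonempty (Projectivization F (Fin n → F)) :=
      ⟨Projectivization.mk F (Pi.single ⟨0, by omega⟩ 1) (by simp)⟩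
    refine ⟨MulAction.stabilizer (Matrix.ProjectiveSpecialLinearGroup (Fin n) F) p, ?_⟩
    rw [CfsgLib.PSLAut.index_stabilizer_point, Projectivization.card_of_finrank F (Fin n → F) (Module.finrank_fin_fun F),
      Nat.geomSum_eq (by rw [Nat.card_eq_fintype_card]; exact Fintype.one_lt_card), Nat.card_eq_fintype_card]

end Cfsg.Agent.S2140
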