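import Cfsg.Statements.S2141
import Mathlib
import Cfsg.Agent.Lib.SpMinIndex.MainThree
import Cfsg.Agent.Lib.SpMinIndex.Dim2Main
-- import your own Cfsg.Agent.* helpers here

set_option autoImplicit false
open Cfsg

namespace Cfsg.Agent.S2141

/-- Minimal index of a proper subgroup of the symplectic groups over fields with at least 3 elements: for m ≥ 2 and a field F with q ≥ 3 elements, (m, q) ≠ (2, 3), every proper subgroup of PSp_2m(F) has index at least (q^(2m) − 1)/(q − 1), and that index is attained. -/
theorem result {F : Type*} [Field F] [Fintype F] {q : ℕ} (hF : Fintype.card F = q) (m : ℕ) (hm : 2 ≤ m) (hq : 3 ≤ q) (hexc : ¬ (m = 2 ∧ q = 3)) : (∀ H : Subgroup (Cfsg.PSp m F), H ≠ ⊤ → (q ^ (2 * m) - 1) / (q - 1) ≤ H.index) ∧ (∃ H : Subgroup (Cfsg.PSp m F), H.index = (q ^ (2 * m) - 1) / (q - 1)) := by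
  classical
  subst hF
  set q := Fintype.card F with hqdef
  have hqN : Nat.card F = q := Nat.card_eq_fintype_card
  set V := Fin m ⊕ Fin m → F
  set P := Nat.card (Projectivization F V)
  have hP : P = (q ^ (2 * m) - 1) / (q - 1) := by
    have h := CfsgLib.SpMinIndex.card_proj_mul F m
    rw [hqN] at h
    rw [← h, Nat.mul_div_cancel _ (by omega)]
  rw [← hP]
  have hs : Function.Surjective (QuotientGroup.mk' (Subgroup.center (Matrix.symplecticGroup (Fin m) F))) :=
    QuotientGroup.mk'_surjective _
  have hge : ∀ K : Subgroup (Matrix.symplecticGroup (Fin m) F), K ≠ ⊤ → P ≤ K.index := by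
    intro K hK
    have : Nontrivial (Matrix.symplecticGroup (Fin m) F ⧸ K) := by
      rw [← Finite.one_lt_card_iff_nontrivial]
      exact Subgroup.one_lt_index_of_ne_top hK
    rcases hm.lt_or_eq with h3 | h2
    · exact CfsgLib.SpMinIndex.card_ge_three h3 (by omega)
    · subst h2
      exact CfsgLib.SpMinIndex.card_ge_dim2 (by
        rw [hqN]
        rcases Nat.lt_or_ge q 4 with h4 | h4
        · exact absurd ⟨rfl, by omega⟩ hexc
        · exact h4)
  refine ⟨fun H hH => ?_, ?_⟩
  · have hi := H.index_comap_of_surjective hs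
    refine (hge _ fun he => hH ?_).trans hi.le
    exact Subgroup.index_eq_one.mp (by rw [← hi, he, Subgroup.index_top])
  · have htr := CfsgLib.Classical.sp_isPretransitive (F := F) (m := m)
    set i : Fin m := ⟨0, by omega⟩
    have hx : (Pi.single (Sum.inl i) 1 : V) ≠ 0 := by simp
    set x : Projectivization F V := Projectivization.mk F (Pi.single (Sum.inl i) 1) hx
    set K := MulAction.stabilizer (Matrix.symplecticGroup (Fin m) F) x
    have hK : K.index = P := by
      rw [MulAction.index_stabilizer, MulAction.orbit_eq_univ, Set.ncard_univ]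
    have hle : Subgroup.center (Matrix.symplecticGroup (Fin m) F) ≤ K := by
      intro g hg
      rw [MulAction.mem_stabilizer_iff]
      rcases (CfsgLib.Classical.mem_center_sp_iff g).1 hg with rfl | rfl
      · exact one_smul _ _
      · show Projectivization.mk F _ _ = _
        refine (Projectivization.mk_eq_mk_iff' F _ _ _ _).2 ⟨-1, ?_⟩
        show _ = (CfsgLib.Classical.spNegOne).1.mulVec _
        rw [CfsgLib.Classical.spNegOne_apply, neg_one_smul]
    refine ⟨K.map (QuotientGroup.mk' _), ?_⟩
    rw [Subgroup.index_map_eq K hs (by rw [QuotientGroup.ker_mk']; exact hle), hK]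

end Cfsg.Agent.S2141
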