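import Cfsg.Statements.S2142
import Mathlib
import Cfsg.Agent.Lib.SpMinIndex.Two
-- import your own Cfsg.Agent.* helpers here

set_option autoImplicit false
open Cfsg

namespace Cfsg.Agent.S2142

/-- Minimal index of a proper subgroup of the symplectic groups over the field with 2 elements: for m ≥ 3, every proper subgroup of Sp_2m(2) has index at least 2^(m−1)(2^m − 1), and that index is attained. -/
theorem result {F : Type*} [Field F] [Fintype F] (hF : Fintype.card F = 2) (m : ℕ) (hm : 3 ≤ m) : (∀ H : Subgroup (Cfsg.PSp m F), H ≠ ⊤ → 2 ^ (m - 1) * (2 ^ m - 1) ≤ H.index) ∧ (∃ H : Subgroup (Cfsg.PSp m F), H.index = 2 ^ (m - 1) * (2 ^ m - 1)) := by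
  classical
  have hs : Function.Surjective (QuotientGroup.mk' (Subgroup.center (Matrix.symplecticGroup (Fin m) F))) :=
    QuotientGroup.mk'_surjective _
  have hge : ∀ K : Subgroup (Matrix.symplecticGroup (Fin m) F), K ≠ ⊤ → 2 ^ (m - 1) * (2 ^ m - 1) ≤ K.index := by
    intro K hK
    have : Nontrivial (Matrix.symplecticGroup (Fin m) F ⧸ K) := by
      rw [← Finite.one_lt_card_iff_nontrivial]
      exact Subgroup.one_lt_index_of_ne_top hK
    exact CfsgLib.SpMinIndex.card_ge_two hF hm
  refine ⟨fun H hH => ?_, ?_⟩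
  · have hi := H.index_comap_of_surjective hs
    refine (hge _ fun he => hH ?_).trans hi.le
    exact Subgroup.index_eq_one.mp (by rw [← hi, he, Subgroup.index_top])
  · obtain ⟨K, hK, hZ, hle⟩ := CfsgLib.SpMinIndex.exists_index_two (m := m) hF (by omega)
    refine ⟨K.map (QuotientGroup.mk' _), ?_⟩
    rw [Subgroup.index_map_eq K hs (by rw [QuotientGroup.ker_mk']; exact hZ)]
    exact le_antisymm hle (hge K hK)

end Cfsg.Agent.S2142
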