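import Cfsg.Statements.S2143
import Mathlib
import Cfsg.Agent.Lib.OrthMinIndex.Bridge
-- import your own Cfsg.Agent.* helpers here

set_option autoImplicit false
open Cfsg

namespace Cfsg.Agent.S2143

/-- Minimal index of a proper subgroup of the odd-dimensional orthogonal groups: for m ≥ 3 and a field F with q elements, q odd and q ≥ 5, every proper subgroup of PΩ_(2m+1)(F) (for the form x₀² + Σ xᵢyᵢ) has index at least (q^(2m) − 1)/(q − 1), and that index is attained. -/
theorem result {F : Type*} [Field F] [Fintype F] {q : ℕ} (hF : Fintype.card F = q) (hodd : Odd q) (h5 : 5 ≤ q) (m : ℕ) (hm : 3 ≤ m) : (∀ H : Subgroup (Cfsg.POmega F (Cfsg.quadFormOdd m F)), H ≠ ⊤ → (q ^ (2 * m) - 1) / (q - 1) ≤ H.index) ∧ (∃ H : Subgroup (Cfsg.POmega F (Cfsg.quadFormOdd m F)), H.index = (q ^ (2 * m) - 1) / (q - 1)) := by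
  subst hF
  have h2 : (2 : F) ≠ 0 := Ring.two_ne_zero fun h => by
    have := FiniteField.even_card_of_char_two h
    have := Nat.odd_iff.1 hodd
    omega
  have hz : CfsgLib.Classical.zeros (CfsgLib.Classical.qOdd m F) = Fintype.card F ^ (2 * m) := by
    rw [CfsgLib.Classical.zeros_congr (CfsgLib.Classical.oddLin m F) (CfsgLib.Classical.qOdd_oddLin m),
      CfsgLib.Classical.zeros_line]
  have h := CfsgLib.OrthMinIndex.min_index_pomega (CfsgLib.Classical.qOdd m F)
    (CfsgLib.Classical.polarNondeg_qOdd h2 m) (by simp [Fintype.card_sum]; omega) (by omega)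
  rw [hz] at h
  rw [← CfsgLib.Classical.coe_qOdd]
  exact h

end Cfsg.Agent.S2143
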