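import Cfsg.Statements.S2144
import Mathlib
import Cfsg.Agent.Lib.OrthMinIndex.PrimeBridge
-- import your own Cfsg.Agent.* helpers here

set_option autoImplicit false
open Cfsg

namespace Cfsg.Agent.S2144

/-- Minimal index of a proper subgroup of the odd-dimensional orthogonal groups over the field with 3 elements: for m ≥ 3, every proper subgroup of PΩ_(2m+1)(3) (for the form x₀² + Σ xᵢyᵢ) has index at least 3^m(3^m − 1)/2, and that index is attained. -/
theorem result {F : Type*} [Field F] [Fintype F] (hF : Fintype.card F = 3) (m : ℕ) (hm : 3 ≤ m) : (∀ H : Subgroup (Cfsg.POmega F (Cfsg.quadFormOdd m F)), H ≠ ⊤ → 3 ^ m * (3 ^ m - 1) / 2 ≤ H.index) ∧ (∃ H : Subgroup (Cfsg.POmega F (Cfsg.quadFormOdd m F)), H.index = 3 ^ m * (3 ^ m - 1) / 2) := by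
  classical
  have h2 : (2 : F) ≠ 0 := Ring.two_ne_zero fun h => by
    have := FiniteField.even_card_of_char_two h
    omega
  set Q := CfsgLib.Classical.qOdd m F with hQdef
  have hQ : CfsgLib.Classical.PolarNondeg Q := CfsgLib.Classical.polarNondeg_qOdd h2 m
  have hn : Fintype.card (CfsgLib.Classical.OddI m) = 2 * m + 1 := by
    simp [Fintype.card_sum]; omega
  have hfr : Module.finrank F (CfsgLib.Classical.OddI m → F) = 2 * m + 1 := by rw [Module.finrank_pi, hn]
  have hz : CfsgLib.Classical.zeros Q = 3 ^ (2 * m) := by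
    rw [CfsgLib.Classical.zeros_congr (CfsgLib.Classical.oddLin m F) (CfsgLib.Classical.qOdd_oddLin m),
      CfsgLib.Classical.zeros_line, hF]
  have hS : CfsgLib.OrthMinIndex.singCount Q + 1 = 3 ^ (2 * m) := by
    rw [CfsgLib.OrthMinIndex.singCount_add_one, hz]
  have hval : CfsgLib.OrthMinIndex.valCard Q (2 : F) + 3 ^ m = 3 ^ (2 * m) := by
    rw [CfsgLib.OrthMinIndex.valCard_congr (CfsgLib.Classical.oddLin m F) (CfsgLib.Classical.qOdd_oddLin m)]
    exact CfsgLib.OrthMinIndex.valCard_line_two hF m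
  obtain ⟨v, hv⟩ := CfsgLib.Classical.exists_value Q hQ (by rw [hfr]; omega) h2
  obtain ⟨H, hH⟩ := CfsgLib.OrthMinIndex.exists_index_level Q hQ (by omega) (v := v) (by rw [hv]; exact h2)
  have hv0 : v ≠ -v := fun e => h2 (by
    have e' : (2 : F) • v = 0 := by rw [two_smul]; exact eq_neg_iff_add_eq_zero.1 e
    rw [← hv, (smul_eq_zero.1 e').resolve_left h2, map_zero])
  rw [hv, Set.ncard_pair hv0] at hH
  set M := 3 ^ m
  have hMM : 3 ^ (2 * m) = M * M := by rw [two_mul, pow_add]
  have hM : 27 ≤ M := le_trans (show 27 ≤ 3 ^ 3 by norm_num) (Nat.pow_le_pow_right (by norm_num) hm)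
  have hMle : M ≤ M * M := Nat.le_mul_self M
  have hsub : M * (M - 1) = M * M - M := Nat.mul_sub_one M M
  rw [hMM] at hval hS
  rw [← CfsgLib.Classical.coe_qOdd]
  refine ⟨fun K hK => ?_, H, by omega⟩
  refine CfsgLib.OrthMinIndex.index_lower_small Q hQ (by omega) (Or.inr hF) (by omega) _ ?_ ?_ (by omega)
    (by omega) ?_ ?_ K hK
  · rw [hF, hn, Nat.add_sub_cancel, hMM]; omega
  · intro e
    obtain rfl : m = 3 := by omega
    rw [hF, hsub]
    norm_num [M]
  · rw [hF]; omega
  · intro c hc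
    have := CfsgLib.OrthMinIndex.valCard_lower (Q := Q) (by omega) hQ (by omega) hc
    rw [hfr, hF, Nat.add_sub_cancel, hMM, show 2 * m / 2 = m by omega] at this
    rw [hF]; omega

end Cfsg.Agent.S2144
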