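import Cfsg.Statements.S2145
import Mathlib
import Cfsg.Agent.Lib.OrthMinIndex.Bridge
-- import your own Cfsg.Agent.* helpers here

set_option autoImplicit false
open Cfsg

namespace Cfsg.Agent.S2145

/-- Minimal index of a proper subgroup of the even-dimensional orthogonal groups of plus type: for m ≥ 4 and a field F with q ≥ 4 elements, every proper subgroup of PΩ⁺_2m(F) (for the form Σ xᵢyᵢ) has index at least (q^m − 1)(q^(m−1) + 1)/(q − 1), and that index is attained (the singular points). -/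
theorem result {F : Type*} [Field F] [Fintype F] {q : ℕ} (hF : Fintype.card F = q) (hq : 4 ≤ q) (m : ℕ) (hm : 4 ≤ m) : (∀ H : Subgroup (Cfsg.POmega F (Cfsg.quadFormPlus m F)), H ≠ ⊤ → (q ^ m - 1) * (q ^ (m - 1) + 1) / (q - 1) ≤ H.index) ∧ (∃ H : Subgroup (Cfsg.POmega F (Cfsg.quadFormPlus m F)), H.index = (q ^ m - 1) * (q ^ (m - 1) + 1) / (q - 1)) := by
  subst hF
  obtain ⟨k, rfl⟩ : ∃ k, m = k + 1 := ⟨m - 1, by omega⟩
  have hz : CfsgLib.Classical.zeros (CfsgLib.Classical.qPlus (k + 1) F) - 1 =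
      (Fintype.card F ^ (k + 1) - 1) * (Fintype.card F ^ k + 1) := by
    rw [CfsgLib.Classical.zeros_congr (CfsgLib.Classical.plusLin (k + 1) F) (CfsgLib.Classical.qPlus_plusLin (k + 1))]
    have h := CfsgLib.Classical.zeros_plus (F := F) k
    have h1 : 1 ≤ Fintype.card F ^ (k + 1) := Nat.one_le_pow _ _ (by omega)
    have h2 := CfsgLib.Classical.zeros_pos (CfsgLib.Classical.qExt (k + 1) (0 : QuadraticForm F (Fin 0 → F)))
    zify [h1, show 1 ≤ CfsgLib.Classical.zeros (CfsgLib.Classical.qExt (k + 1) (0 : QuadraticForm F (Fin 0 → F))) from h2]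
    rw [h]
    ring
  have h := CfsgLib.OrthMinIndex.min_index_pomega (CfsgLib.Classical.qPlus (k + 1) F)
    (CfsgLib.Classical.polarNondeg_qPlus _) (by simp [Fintype.card_sum]; omega) (by omega)
  rw [hz] at h
  rw [← CfsgLib.Classical.coe_qPlus, Nat.add_sub_cancel]
  exact h

end Cfsg.Agent.S2145
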