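import Cfsg.Statements.S2146
import Mathlib
import Cfsg.Agent.Lib.OrthMinIndex.PrimeBridge
-- import your own Cfsg.Agent.* helpers here

set_option autoImplicit false
open Cfsg

namespace Cfsg.Agent.S2146

/-- Minimal index of a proper subgroup of the even-dimensional orthogonal groups of plus type over the field with 2 elements: for m ≥ 4, every proper subgroup of Ω⁺_2m(2) (for the form Σ xᵢyᵢ) has index at least 2^(m−1)(2^m − 1), and that index is attained. -/
theorem result {F : Type*} [Field F] [Fintype F] (hF : Fintype.card F = 2) (m : ℕ) (hm : 4 ≤ m) : (∀ H : Subgroup (Cfsg.POmega F (Cfsg.quadFormPlus m F)), H ≠ ⊤ → 2 ^ (m - 1) * (2 ^ m - 1) ≤ H.index) ∧ (∃ H : Subgroup (Cfsg.POmega F (Cfsg.quadFormPlus m F)), H.index = 2 ^ (m - 1) * (2 ^ m - 1)) := by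
  classical
  obtain ⟨k, rfl⟩ : ∃ k, m = k + 1 := ⟨m - 1, by omega⟩
  set Q := CfsgLib.Classical.qPlus (k + 1) F with hQdef
  have hQ : CfsgLib.Classical.PolarNondeg Q := CfsgLib.Classical.polarNondeg_qPlus _
  have hn : Fintype.card (Fin (k + 1) ⊕ Fin (k + 1)) = 2 * k + 2 := by
    simp [Fintype.card_sum]; omega
  have hfr : Module.finrank F (Fin (k + 1) ⊕ Fin (k + 1) → F) = 2 * k + 2 := by rw [Module.finrank_pi, hn]
  have hz : CfsgLib.Classical.zeros Q + 2 ^ k = 2 ^ (2 * k + 1) + 2 ^ (k + 1) := by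
    have h : CfsgLib.Classical.zeros Q =
        CfsgLib.Classical.zeros (CfsgLib.Classical.qExt (k + 1) (0 : QuadraticForm F (Fin 0 → F))) :=
      CfsgLib.Classical.zeros_congr (CfsgLib.Classical.plusLin (k + 1) F)
        (CfsgLib.Classical.qPlus_plusLin (k + 1))
    have h1 := CfsgLib.Classical.zeros_plus (F := F) k
    rw [← h, hF] at h1
    push_cast at h1
    zify
    rw [h1]; ring
  have hS := CfsgLib.OrthMinIndex.singCount_add_one (Q := Q)
  have hone : ∀ c : F, c ≠ 0 → c = 1 := fun c hc => by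
    by_contra hne
    have := Finset.card_le_univ ({0, 1, c} : Finset F)
    rw [Finset.card_eq_three.2 ⟨0, 1, c, zero_ne_one, fun e => hc e.symm, fun e => hne e.symm, rfl⟩, hF] at this
    omega
  have hval : CfsgLib.OrthMinIndex.valCard Q (1 : F) + CfsgLib.Classical.zeros Q = 2 ^ (2 * k + 2) := by
    have hcard : Nat.card (Fin (k + 1) ⊕ Fin (k + 1) → F) = 2 ^ (2 * k + 2) := by
      rw [Nat.card_eq_fintype_card, Fintype.card_fun, hn, hF]
    rw [← hcard, ← Nat.card_congr (Equiv.sumCompl fun x => Q x = (1 : F)), Nat.card_sum]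
    congr 1
    refine Nat.card_congr (Equiv.subtypeEquivRight fun x => ⟨fun e => by rw [e]; exact zero_ne_one,
      fun h => by_contra fun h0 => h (hone _ h0)⟩)
  obtain ⟨v, hv⟩ := CfsgLib.Classical.exists_value Q hQ (by rw [hfr]; omega) (one_ne_zero (α := F))
  obtain ⟨H, hH⟩ := CfsgLib.OrthMinIndex.exists_index_level Q hQ (by omega) (v := v)
    (by rw [hv]; exact one_ne_zero)
  have hneg : -v = v := by
    have h2 : (2 : F) = 0 := by
      have := FiniteField.cast_card_eq_zero F
      rw [hF] at this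
      exact_mod_cast this
    rw [neg_eq_iff_add_eq_zero, ← two_smul F, h2, zero_smul]
  rw [hneg, Set.pair_eq_singleton, Set.ncard_singleton, mul_one, hv] at hH
  set M := 2 ^ k
  have hMM : 2 ^ (2 * k + 1) = 2 * (M * M) := by rw [pow_succ, two_mul k, pow_add]; ring
  have hM1 : 2 ^ (k + 1) = 2 * M := by rw [pow_succ, mul_comm]
  have hM2 : 2 ^ (2 * k + 2) = 4 * (M * M) := by rw [pow_succ, hMM]; ring
  rw [hMM, hM1] at hz
  rw [hM2] at hval
  have hM : 8 ≤ M := le_trans (show 8 ≤ 2 ^ 3 by norm_num) (Nat.pow_le_pow_right (by norm_num) (by omega))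
  have hMle : M ≤ M * M := Nat.le_mul_self M
  have hgoal : M * (2 * M - 1) = 2 * (M * M) - M := by rw [Nat.mul_sub_one]; ring_nf
  rw [← CfsgLib.Classical.coe_qPlus, Nat.add_sub_cancel, hM1, hgoal]
  refine ⟨fun K hK => ?_, H, by omega⟩
  refine CfsgLib.OrthMinIndex.index_lower_small Q hQ (by omega) (Or.inl hF) (by omega) _ ?_ (by omega) ?_
    (by omega) ?_ ?_ K hK
  · rw [hF, hn, show 2 * k + 2 - 1 = 2 * k + 1 by omega, hMM]; omega
  · intro e _
    obtain rfl : k = 3 := by omega
    norm_num [M]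
  · rw [hF]; omega
  · intro c hc
    rw [hone c hc, hF]; omega

end Cfsg.Agent.S2146
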