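import Cfsg.Statements.S2147
import Mathlib
import Cfsg.Agent.Lib.OrthMinIndex.PrimeBridge
-- import your own Cfsg.Agent.* helpers here

set_option autoImplicit false
open Cfsg

namespace Cfsg.Agent.S2147

/-- Minimal index of a proper subgroup of the even-dimensional orthogonal groups of minus type: for m ≥ 4 and a field F with q elements, every proper subgroup of PΩ⁻_2m(F) (for the form Σ_{i<m−1} xᵢyᵢ + z₁² + a z₁z₂ + b z₂² with anisotropic binary part) has index at least (q^m + 1)(q^(m−1) − 1)/(q − 1), and that index is attained. -/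
theorem result {F : Type*} [Field F] [Fintype F] {q : ℕ} (hF : Fintype.card F = q) (m : ℕ) (hm : 4 ≤ m) (a b : F) (hab : ∀ z₁ z₂ : F, z₁ ^ 2 + a * z₁ * z₂ + b * z₂ ^ 2 = 0 → z₁ = 0 ∧ z₂ = 0) : (∀ H : Subgroup (Cfsg.POmega F (Cfsg.quadFormMinus (m - 1) F a b)), H ≠ ⊤ → (q ^ m + 1) * (q ^ (m - 1) - 1) / (q - 1) ≤ H.index) ∧ (∃ H : Subgroup (Cfsg.POmega F (Cfsg.quadFormMinus (m - 1) F a b)), H.index = (q ^ m + 1) * (q ^ (m - 1) - 1) / (q - 1)) := by
  classical
  subst hF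
  obtain ⟨k, rfl⟩ : ∃ k, m = k + 1 := ⟨m - 1, by omega⟩
  rw [Nat.add_sub_cancel]
  set Q := CfsgLib.Classical.qExt k (CfsgLib.Classical.qBin a b) with hQdef
  have hQ : CfsgLib.Classical.PolarNondeg Q :=
    CfsgLib.Classical.polarNondeg_qExt (CfsgLib.Classical.polarNondeg_qBin hab) k
  have hn : Fintype.card ((Fin k ⊕ Fin k) ⊕ Fin 2) = 2 * k + 2 := by
    simp [Fintype.card_sum]; omega
  have hfr : Module.finrank F ((Fin k ⊕ Fin k) ⊕ Fin 2 → F) = 2 * k + 2 := by rw [Module.finrank_pi, hn]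
  set q := Fintype.card F with hq
  have hq2 : 2 ≤ q := Fintype.one_lt_card
  have hz : CfsgLib.Classical.zeros Q - 1 = (q ^ (k + 1) + 1) * (q ^ k - 1) := by
    have h1 : 1 ≤ CfsgLib.Classical.zeros Q := CfsgLib.Classical.zeros_pos Q
    have h2 : 1 ≤ q ^ k := Nat.one_le_pow _ _ (by omega)
    have h := CfsgLib.Classical.zeros_minus (a := a) (b := b) hab k
    zify [h1, h2]
    rw [hQdef, h, ← hq]
    ring
  have hS : CfsgLib.OrthMinIndex.singCount Q = (q ^ (k + 1) + 1) * (q ^ k - 1) := by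
    have := CfsgLib.OrthMinIndex.singCount_add_one (Q := Q); omega
  rw [← CfsgLib.Classical.coe_qExt_qBin]
  rcases Nat.lt_or_ge q 4 with h4 | h4
  swap
  · have h := CfsgLib.OrthMinIndex.min_index_pomega Q hQ (by omega) h4
    rw [hz] at h
    exact h
  obtain ⟨H, hH⟩ := CfsgLib.OrthMinIndex.exists_index_sing Q hQ (by omega)
  rw [hS] at hH
  refine ⟨fun K hK => ?_, H, hH⟩
  set B := (q ^ (k + 1) + 1) * (q ^ k - 1) / (q - 1)
  have hB : B * (q - 1) ≤ (q ^ (k + 1) + 1) * (q ^ k - 1) := Nat.div_mul_le_self _ _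
  have hk : 1 ≤ q ^ k := Nat.one_le_pow _ _ (by omega)
  have hkk : q ^ k ≤ q ^ (k + 1) := Nat.pow_le_pow_right (by omega) (by omega)
  have hup : (q ^ (k + 1) + 1) * (q ^ k - 1) + q ^ k ≤ q ^ (2 * k + 1) := by
    obtain ⟨A, hA⟩ : ∃ A, q ^ k = A + 1 := ⟨q ^ k - 1, by omega⟩
    rw [show 2 * k + 1 = k + 1 + k by omega, pow_add q (k + 1) k, hA, Nat.add_sub_cancel]
    have h2 : 2 * (A + 1) ≤ q ^ (k + 1) := by
      rw [pow_succ', hA]; exact Nat.mul_le_mul_right _ hq2
    nlinarith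
  refine CfsgLib.OrthMinIndex.index_lower_small Q hQ (by omega) (by omega) (by omega) B ?_ (by omega) ?_ ?_
    (by rw [← hq, hS]; exact hB) ?_ K hK
  · rw [hn, ← hq, show 2 * k + 2 - 1 = 2 * k + 1 by omega]; omega
  · intro e e'
    rw [← hq] at e'
    obtain rfl : k = 3 := by omega
    rw [e'] at hB
    norm_num at hB
    omega
  · intro e e'
    rw [← hq] at e'
    obtain rfl : k = 3 := by omega
    rw [e'] at hB
    norm_num at hB
    omega
  · intro c hc
    have := CfsgLib.OrthMinIndex.valCard_lower (Q := Q) (by omega) hQ (by omega) hc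
    rw [hfr, ← hq, show 2 * k + 2 - 1 = 2 * k + 1 by omega, show (2 * k + 1) / 2 = k by omega] at this
    rw [← hq]; omega

end Cfsg.Agent.S2147
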