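import Cfsg.Statements.S2154
import Cfsg.Agent.Lib.Known.ChevBorelTits

set_option autoImplicit false
open Cfsg

namespace Cfsg.Agent.S2154

/-- The Borel–Tits property of the finite Chevalley groups of types G₂, B₂, D₄, F₄, E₆, E₇, E₈ over a finite field of characteristic p: for every non-trivial p-subgroup U of the group G there are an element g of G and a proper set J of fundamental roots such that the normaliser of U in G lies in the conjugate by g of the standard parabolic subgroup P_J and U lies in the conjugate by g of its unipotent radical U_J. -/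
theorem result {F : Type*} [Field F] [Fintype F] (p : ℕ) [Fact p.Prime] [CharP F p] (D : Cfsg.Lie.ChevalleyDatum) (hD : D ∈ [Cfsg.Lie.chevG2, Cfsg.Lie.chevB2, Cfsg.Lie.chevD4, Cfsg.Lie.chevF4, Cfsg.Lie.chevE6, Cfsg.Lie.chevE7, Cfsg.Lie.chevE8]) (U : Subgroup (GL D.Idx F)) (hUG : U ≤ D.group F) (hU : IsPGroup p ↥U) (hne : U ≠ ⊥) : ∃ g ∈ D.group F, ∃ J : Set ℕ, (∃ i, i < D.rank ∧ i ∉ J) ∧ Subgroup.normalizer (U : Set (GL D.Idx F)) ⊓ D.group F ≤ (D.parabolicSubgroup F J).map (MulAut.conj g).toMonoidHom ∧ U ≤ (D.unipotentRadical F J).map (MulAut.conj g).toMonoidHom := by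
  open CfsgLib.Chev in
  (obtain ⟨co, hF, hP⟩ := Radical.facts_pairCert hD
   have hC := (good_of_mem hD).comm
   have hpos : D.posUnipotent F = rootClosure D F (D.nroots / 2 ≤ ·) := hF.posUnipotent_eq
   obtain ⟨Q, hQ⟩ := (CfsgLib.BNSteinberg.split hF hC p (K := F)).exists_sylow
   have hU' : IsPGroup p ↥(U.subgroupOf (D.group F)) :=
     hU.of_injective (Subgroup.subgroupOfEquivOfLe hUG).toMonoidHom
       (Subgroup.subgroupOfEquivOfLe hUG).injective
   obtain ⟨S, hS⟩ := hU'.exists_le_sylow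
   obtain ⟨a, ha⟩ := MulAction.exists_smul_eq (D.group F) Q S
   have hR : ∀ y ∈ U, (a : GL D.Idx F)⁻¹ * y * a ∈ rootClosure D F (D.nroots / 2 ≤ ·) := by
     intro y hy
     have h1 : (⟨y, hUG hy⟩ : ↥(D.group F)) ∈ (S : Subgroup ↥(D.group F)) := hS hy
     rw [← ha, Sylow.coe_subgroup_smul, Subgroup.mem_pointwise_smul_iff_inv_smul_mem, hQ,
       Subgroup.mem_subgroupOf, hpos] at h1
     simpa [MulAut.smul_def] using h1
   obtain ⟨g, hg, J, hJ, hn, hr⟩ := BorelTits.exists_parabolic hF hC U hne a.2 hR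
   refine ⟨g, hg, J, hJ, fun m hm => ⟨g⁻¹ * m * g, ?_, ?_⟩, fun y hy => ⟨g⁻¹ * y * g, hr y hy, ?_⟩⟩
   · exact hn m hm.2 fun y hy => (Subgroup.mem_normalizer_iff''.1 hm.1 y).1 hy
   · simp [MulAut.conj_apply, mul_assoc]
   · simp [MulAut.conj_apply, mul_assoc])

end Cfsg.Agent.S2154
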