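import Cfsg.Statements.S2155
import Cfsg.Agent.Lib.Known.ChevRadicalCentralizer
import Cfsg.Agent.Lib.Known.ChevTopRoot
import Cfsg.Agent.Lib.Local.CharP

set_option autoImplicit false
open Cfsg

namespace Cfsg.Agent.S2155

/-- In a Chevalley group of type G₂, B₂, D₄, F₄, E₆, E₇ or E₈ over a finite field of characteristic p (for types G₂ and B₂ the field is assumed to have at least 3 elements, so that the group is simple), the generalized Fitting subgroup of every proper standard parabolic subgroup P_J is a p-group (P_J is p-constrained with trivial largest normal subgroup of order prime to p). -/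
theorem result {F : Type*} [Field F] [Fintype F] (p : ℕ) [Fact p.Prime] [CharP F p] (D : Cfsg.Lie.ChevalleyDatum) (hD : D ∈ [Cfsg.Lie.chevG2, Cfsg.Lie.chevB2, Cfsg.Lie.chevD4, Cfsg.Lie.chevF4, Cfsg.Lie.chevE6, Cfsg.Lie.chevE7, Cfsg.Lie.chevE8]) (hq : (D = Cfsg.Lie.chevG2 ∨ D = Cfsg.Lie.chevB2) → 3 ≤ Fintype.card F) (J : Set ℕ) (hJ : ∃ i, i < D.rank ∧ i ∉ J) : IsPGroup p ↥(Cfsg.generalizedFittingSubgroup ↥(D.parabolicSubgroup F J)) := by
  open CfsgLib.Chev in
  (obtain ⟨co, hF, hP⟩ := Radical.facts_pairCert hD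
   have hC := (good_of_mem hD).comm
   have _ := hq
   set P := D.parabolicSubgroup F J with hPdef
   set U := D.unipotentRadical F J with hUdef
   have hUP : U ≤ P := by
     rw [hUdef, hPdef, hF.radical_eq, hF.parabolic_eq]
     exact le_sup_of_le_right (rootClosure_mono fun _ _ h => Or.inl h.1)
   have hUp : IsPGroup p ↥(U.subgroupOf P) := by
     have h1 : IsPGroup p ↥(rootClosure D F (fun r => 0 < degJ D co J r)) :=
       TopRoot.isPGroup_halfspace hF p (hF.isWeight_degJ J)
     refine (h1.to_le (H := U) ?_).of_equiv (Subgroup.subgroupOfEquivOfLe hUP).symm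
     rw [hUdef, Radical.radical_eq_above hF]
     exact rootClosure_mono fun _ _ h => h.2.1
   have : (U.subgroupOf P).Normal :=
     Subgroup.normal_subgroupOf_of_le_normalizer (hF.parabolic_le_normalizer hC J)
   have hle : U.subgroupOf P ≤ Cfsg.pCore p ↥P := le_sSup (s := {N : Subgroup ↥P | N.Normal ∧ IsPGroup p N}) ⟨this, hUp⟩
   have hchar : CfsgLib.Local.HasCharP p ↥P := by
     intro g hg
     refine hle ?_
     rw [Subgroup.mem_subgroupOf]
     refine Radical.centralizer_radical_le hF hC hP hJ (hF.parabolic_le_group J g.2) fun x hx => ?_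
     exact (congrArg Subtype.val (Subgroup.mem_centralizer_iff.1 hg ⟨x, hUP hx⟩ (hle hx))).symm
   rw [hchar.generalizedFittingSubgroup_eq]
   exact CfsgLib.Cores.isPGroup_pCore p)

end Cfsg.Agent.S2155
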