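import Cfsg.Statements.S2158
import Cfsg.Agent.Lib.Chev.All
import Cfsg.Agent.Lib.Chev.Parabolic

set_option autoImplicit false
open Cfsg

namespace Cfsg.Agent.S2158

/-- In a Chevalley group of type G₂, B₂, D₄, F₄, E₆, E₇ or E₈ over any field, an element of the group whose matrix is the diagonal matrix `ĥ(χ)` of a character `χ` of the root lattice already lies in the diagonal subgroup H (the non-trivial inclusion of the statement that the group meets the group of all such diagonal matrices in H). -/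
theorem result {F : Type*} [Field F] (D : Cfsg.Lie.ChevalleyDatum) (hD : D ∈ [Cfsg.Lie.chevG2, Cfsg.Lie.chevB2, Cfsg.Lie.chevD4, Cfsg.Lie.chevF4, Cfsg.Lie.chevE6, Cfsg.Lie.chevE7, Cfsg.Lie.chevE8]) (χ : ℕ → Fˣ) (hχ : D.IsRootCharacter χ) (g : GL D.Idx F) (hg : g ∈ D.group F)
    (hgχ : (g : Matrix D.Idx D.Idx F) = D.charDiag F χ) : g ∈ D.diagonalSubgroup F := by
  open CfsgLib.Chev in
  (obtain ⟨⟨co, hF⟩, hC⟩ := good_of_mem hD
   have hw : ∀ ψ : ℕ → Fˣ, D.IsRootCharacter ψ → IsWeight D (fun s => Additive.ofMul (ψ s)) :=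
     fun ψ hψ => ⟨fun s hs => by simp [hψ.1 s hs], fun a ha b hb k h => by
       rw [hψ.2 a b k ha hb h, ofMul_mul]⟩
   have hχ' : D.IsRootCharacter (fun s => (χ s)⁻¹) :=
     ⟨fun s hs => by simp [hχ.1 s hs], fun a b k ha hb h => by simp [hχ.2 a b k ha hb h, mul_comm]⟩
   obtain rfl : g = dU D χ := Units.ext hgχ
   have hN : dU D χ ∈ Subgroup.normalizer (D.unipotentRadical F ∅ : Set (GL D.Idx F)) := by
     rw [hF.radical_eq]
     have key : ∀ ψ : ℕ → Fˣ, D.IsRootCharacter ψ → ∀ P : ℕ → Prop, ∀ x ∈ rootClosure D F P,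
         dU D ψ * x * (dU D ψ)⁻¹ ∈ rootClosure D F P := fun ψ hψ P x hx => conj_closure (by
       rintro y ⟨r, t, hr, hP, rfl⟩
       rw [hF.dU_conj (hw ψ hψ) hr, mul_inv_cancel_right]
       exact xU_mem_rootClosure hr hP _) hx
     refine normalizer_of_conj (key χ hχ _) fun x hx => ?_
     have := key _ hχ' _ x hx
     rwa [← dU_inv, inv_inv] at this
   have hB : dU D χ ∈ D.borelSubgroup F := by
     have := (hF.normalizer_radical hC ∅).le ⟨hN, hg⟩
     rw [Cfsg.Lie.ChevalleyDatum.parabolicSubgroup] at this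
     simpa using this
   obtain ⟨u, hu, h, hh, e⟩ := hF.mem_borel_iff.1 hB
   obtain ⟨c, hc⟩ := hF.mem_diagonal_iff.1 hh
   have hud : u = dU D (fun r => χ r * (∏ i ∈ Finset.range D.rank, c i ^ D.cartan i r)⁻¹) := by
     rw [← dU_mul, ← dU_inv, e, hc, hT, mul_inv_cancel_right]
   have hu1 : u = 1 := by
     rw [← Units.val_inj, Units.val_one]
     refine UT.eq_one (w := fun a => -wt D (omega D co) a) one_pos le_rfl
       (fun a b hab => by simpa using hF.pos_ut hu a b hab) ?_
     intro a b hab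
     by_cases h' : a = b
     · subst h'; simp
     · rw [hud, dU_val] at hab
       simp [diagC, h'] at hab
   rwa [e, hu1, one_mul])

end Cfsg.Agent.S2158
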