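import Cfsg.Statements.S2159
import Cfsg.Agent.Lib.Known.ChevAutGraph

set_option autoImplicit false
open Cfsg

namespace Cfsg.Agent.S2159

/-- Structure of the outer automorphism group of the Chevalley group `G` of type G₂, B₂, D₄, F₄, E₆, E₇ or E₈ over a finite field. Let `D̄` be the image in `Out(G)` of the subgroup generated by the diagonal automorphisms and `F̄` the image of the subgroup generated by the field automorphisms. Then `D̄` is a normal abelian subgroup of `Out(G)`, `F̄` is cyclic, `D̄F̄` is a normal subgroup, and the quotient of `Out(G)` by `D̄F̄` is trivial, of order 2, or non-abelian of order 6 (so isomorphic to the symmetric group on three letters): its index is 1 or 2, or it is 6 with the commutator subgroup of `Out(G)` not inside `D̄F̄`. -/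
theorem result {F : Type*} [Field F] [Finite F] (D : Cfsg.Lie.ChevalleyDatum) (hD : D ∈ [Cfsg.Lie.chevG2, Cfsg.Lie.chevB2, Cfsg.Lie.chevD4, Cfsg.Lie.chevF4, Cfsg.Lie.chevE6, Cfsg.Lie.chevE7, Cfsg.Lie.chevE8])
    (Dbar Fbar : Subgroup (Cfsg.Out ↥(D.group F)))
    (hDbar : Dbar = (Subgroup.closure {φ : MulAut ↥(D.group F) | D.IsDiagonalAut φ}).map (QuotientGroup.mk' (Cfsg.Inn ↥(D.group F))))
    (hFbar : Fbar = (Subgroup.closure {φ : MulAut ↥(D.group F) | D.IsFieldAut φ}).map (QuotientGroup.mk' (Cfsg.Inn ↥(D.group F)))) :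
    Dbar.Normal ∧ IsMulCommutative ↥Dbar ∧ IsCyclic ↥Fbar ∧ (Dbar ⊔ Fbar).Normal ∧
      ((Dbar ⊔ Fbar).index = 1 ∨ (Dbar ⊔ Fbar).index = 2 ∨
        ((Dbar ⊔ Fbar).index = 6 ∧ ¬ commutator (Cfsg.Out ↥(D.group F)) ≤ Dbar ⊔ Fbar)) := by
  open CfsgLib.Chev CfsgLib.Chev.AutThm in
  (obtain ⟨⟨co, hF⟩, hC⟩ := good_of_mem hD
   have hform := form_all (F := F) hD
   haveI := isCyclic_aut_field (K := F)
   rw [closure_diag hF] at hDbar
   rw [closure_field hF] at hFbar
   obtain rfl : Dbar = dBar hF := hDbar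
   obtain rfl : Fbar = fBar hF := hFbar
   refine ⟨dBar_normal hF hC hform, dBar_comm hF, fBar_cyclic hF, dfBar_normal hF hC hform, ?_⟩
   rw [index_dfBar hF hC hform]
   have two : ∀ {D : Cfsg.Lie.ChevalleyDatum} {co : ℕ → ℕ → ℤ} (hF : Facts D co) (hC : CommF D)
       (s : Equiv.Perm (Fin D.rank)) {P : Equiv.Perm (Fin D.rank) → Prop},
       FormThm D F P → (∀ π, P π → π = 1 ∨ π = s) →
       Nat.card ↥(piHom hF hC (F := F)).range = 1 ∨ Nat.card ↥(piHom hF hC (F := F)).range = 2 :=
     fun hF hC s P hf hP => card_range_le_two s fun π hπ => hP π (range_le hF hC hf hπ)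
   simp only [List.mem_cons, List.not_mem_nil, or_false] at hD
   rcases hD with rfl | rfl | rfl | rfl | rfl | rfl | rfl
   · exact (two hF hC _ form_G2 fun π h => symTwo_cases h).imp id Or.inl
   · exact (two hF hC _ form_B2 fun π h => symTwo_cases h).imp id Or.inl
   · set R := (piHom hF hC (F := F)).range with hR
     set S := MulAction.stabilizer (Equiv.Perm (Fin Cfsg.Lie.chevD4.rank))
       (⟨1, by decide +kernel⟩ : Fin Cfsg.Lie.chevD4.rank) with hS
     have hle : R ≤ S := fun π hπ => adj_D4 (range_le hF hC form_D4 hπ)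
     have hdvd : Nat.card ↥R ∣ 6 := card_stab_D4 ▸ Subgroup.card_dvd_of_le hle
     obtain ⟨α, hα⟩ := exists_graph_D4t (F := F)
     let a : Fin Cfsg.Lie.chevD4.rank := ⟨0, by decide +kernel⟩
     let b : Fin Cfsg.Lie.chevD4.rank := ⟨2, by decide +kernel⟩
     let c : Fin Cfsg.Lie.chevD4.rank := ⟨3, by decide +kernel⟩
     have ht : Equiv.swap a b ∈ R :=
       ⟨α, piHom_of_norm hF hC (norm_of_graph hF hα (Equiv.swap a b) (by decide +kernel))⟩
     have ht2 : orderOf (Equiv.swap a b) = 2 :=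
       orderOf_eq_prime (by decide +kernel) (by decide +kernel)
     have h2 : 2 ∣ Nat.card ↥R := ht2 ▸ R.orderOf_dvd_natCard ht
     have hcases : Nat.card ↥R = 2 ∨ Nat.card ↥R = 6 := by
       have := Nat.le_of_dvd (by norm_num) hdvd
       generalize Nat.card ↥R = n at hdvd h2 this
       interval_cases n <;> omega
     rcases hcases with e | e
     · exact Or.inr (Or.inl e)
     refine Or.inr (Or.inr ⟨e, fun hcomm => ?_⟩)
     have hRS : R = S := Subgroup.eq_of_le_of_card_ge hle (by rw [e, hS, card_stab_D4])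
     obtain ⟨θ, hθ⟩ : Equiv.swap a b ∈ R := ht
     obtain ⟨ψ, hψ⟩ : Equiv.swap a c ∈ R := hRS ▸ MulAction.mem_stabilizer_iff.2 (by decide +kernel)
     have hmem := hcomm (Subgroup.commutator_mem_commutator
       (Subgroup.mem_top (QuotientGroup.mk' (Cfsg.Inn _) θ))
       (Subgroup.mem_top (QuotientGroup.mk' (Cfsg.Inn _) ψ)))
     rw [← map_commutatorElement, dfBar_eq hF, Subgroup.mem_map] at hmem
     obtain ⟨k, hk, e'⟩ := hmem
     obtain ⟨z, hz, ez⟩ := (QuotientGroup.mk'_eq_mk' _).1 e'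
     have hk1 : piHom hF hC k = 1 := MonoidHom.mem_ker.1 (ker_eq hF hC hform ▸ hk)
     obtain ⟨x, rfl⟩ := hz
     have := congrArg (piHom hF hC) ez
     rw [map_mul, hk1, piHom_conj hF hC x, one_mul, map_commutatorElement, hθ, hψ] at this
     revert this
     decide +kernel
   · exact (two hF hC _ form_F4 fun π h => symTwo_cases h).imp id Or.inl
   · exact (two hF hC _ form_E6 fun π h => adj_E6 h).imp id Or.inl
   · exact (two hF hC 1 form_E7 fun π h => Or.inl (adj_E7 h)).imp id Or.inl
   · exact (two hF hC 1 form_E8 fun π h => Or.inl (adj_E8 h)).imp id Or.inl)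

end Cfsg.Agent.S2159
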