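import Cfsg.Statements.S2160
import Cfsg.Agent.Lib.Chev.All

set_option autoImplicit false
open Cfsg

namespace Cfsg.Agent.S2160

/-- In a Chevalley group of type G₂, B₂, D₄, F₄, E₆, E₇ or E₈ over a finite field, every field automorphism commutes with every graph automorphism. -/
theorem result {F : Type*} [Field F] [Finite F] (D : Cfsg.Lie.ChevalleyDatum) (hD : D ∈ [Cfsg.Lie.chevG2, Cfsg.Lie.chevB2, Cfsg.Lie.chevD4, Cfsg.Lie.chevF4, Cfsg.Lie.chevE6, Cfsg.Lie.chevE7, Cfsg.Lie.chevE8]) (f g : ↥(D.group F) ≃* ↥(D.group F))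
    (hf : D.IsFieldAut f) (hg : D.IsGraphAut g) (y : ↥(D.group F)) : f (g y) = g (f y) := by
  classical
  obtain ⟨co, hF⟩ := (CfsgLib.Chev.good_of_mem.{0} hD).facts
  obtain ⟨σ, hσ⟩ := hf
  obtain ⟨π, -, hπ⟩ := hg
  let K : Subgroup ↥(D.group F) :=
    { carrier := {z | f (g z) = g (f z)}
      one_mem' := by simp
      mul_mem' := fun {a b} ha hb => by
        show f (g (a * b)) = g (f (a * b))
        simp only [map_mul]
        rw [show f (g a) = g (f a) from ha, show f (g b) = g (f b) from hb]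
      inv_mem' := fun {a} ha => by
        show f (g a⁻¹) = g (f a⁻¹)
        simp only [map_inv]
        rw [show f (g a) = g (f a) from ha] }
  have hmem : ∀ r, r < D.nroots → ∀ t : F, CfsgLib.Chev.xU D r t ∈ D.group F := fun r hr t =>
    Subgroup.subset_closure ⟨⟨r, hr⟩, t, by
      rw [hF.xU_val hr, Cfsg.Lie.ChevalleyDatum.x, dif_pos hr]⟩
  let L : Subgroup (GL D.Idx F) := K.map (D.group F).subtype
  have hbase : ∀ i : Fin D.rank, ∀ t : F, CfsgLib.Chev.xU D (D.simple i) t ∈ L ∧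
      CfsgLib.Chev.xU D (D.neg (D.simple i)) t ∈ L := by
    intro i t
    have hi := hF.simple_lt' i.isLt
    have hn := hF.neg_lt hi
    have hj := hF.simple_lt' (π i).isLt
    have hjn := hF.neg_lt hj
    constructor
    · refine ⟨⟨_, hmem _ hi t⟩, ?_, rfl⟩
      apply Subtype.ext
      apply Units.ext
      have h1 := (hπ ⟨_, hmem _ hi t⟩ i t).1 (hF.xU_val hi t)
      have h2 := hσ ⟨_, hmem _ hi t⟩ _ t hi (hF.xU_val hi t)
      rw [hσ (g ⟨_, hmem _ hi t⟩) _ _ hj h1, (hπ (f ⟨_, hmem _ hi t⟩) i (σ t)).1 h2, map_pow]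
    · refine ⟨⟨_, hmem _ hn t⟩, ?_, rfl⟩
      apply Subtype.ext
      apply Units.ext
      have h1 := (hπ ⟨_, hmem _ hn t⟩ i t).2 (hF.xU_val hn t)
      have h2 := hσ ⟨_, hmem _ hn t⟩ _ t hn (hF.xU_val hn t)
      rw [hσ (g ⟨_, hmem _ hn t⟩) _ _ hjn h1, (hπ (f ⟨_, hmem _ hn t⟩) i (σ t)).2 h2, map_pow]
  have hall : ∀ r, r < D.nroots → ∀ t : F, CfsgLib.Chev.xU D r t ∈ L := fun r hr =>
    hF.root_induction (P := fun r => ∀ t : F, CfsgLib.Chev.xU D r t ∈ L)
      (fun i hi t => (hbase ⟨i, hi⟩ t).1)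
      (fun i hi s hs ih t => by
        obtain ⟨η, h1, -, h3⟩ := hF.exists_eta (F := F) hi
        have hn : CfsgLib.Chev.nU D (D.simple i) (1 : F) ∈ L :=
          L.mul_mem (L.mul_mem (hbase ⟨i, hi⟩ 1).1 (hbase ⟨i, hi⟩ (-1⁻¹)).2) (hbase ⟨i, hi⟩ 1).1
        have he : (η s : F) * ((η s : F) * t) = t := by
          rcases h1 s hs with h | h <;> simp [h]
        have h4 := h3 s hs ((η s : F) * t)
        rw [he] at h4
        rw [eq_mul_inv_of_mul_eq h4.symm]
        exact L.mul_mem (L.mul_mem hn (ih _)) (L.inv_mem hn)) hr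
  have hle : D.group F ≤ L := by
    refine (Subgroup.closure_le _).2 ?_
    rintro z ⟨r, t, hz⟩
    have he : z = CfsgLib.Chev.xU D r.val t := Units.ext (by
      rw [hz, hF.xU_val r.isLt, Cfsg.Lie.ChevalleyDatum.x, dif_pos r.isLt])
    rw [he]
    exact hall _ r.isLt t
  obtain ⟨z, hz, hzy⟩ := hle y.2
  rw [← Subtype.ext hzy]
  exact hz

end Cfsg.Agent.S2160
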