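import Cfsg.Statements.S2163


set_option autoImplicit false
open Cfsg
open scoped Matrix

namespace Cfsg.Agent.S2163

/-- Over a finite field of characteristic two and for n ≥ 3: for every ℓ with 1 ≤ ℓ and 2ℓ ≤ n, the matrix j_ℓ that is the identity plus the entries 1 in positions (n − ℓ + i, i) for i < ℓ (an identity block of size ℓ in the lower left corner) lies in SL_n(F), has order 2, and j_ℓ − 1 has rank ℓ. Together with the conjugacy criterion by rank, these matrices represent the conjugacy classes of involutions of SL_n(F). -/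
theorem result {F : Type*} [Field F] [Fintype F] [CharP F 2] {n : ℕ} (hn : 3 ≤ n) (ℓ : ℕ) (h1 : 1 ≤ ℓ) (h2 : 2 * ℓ ≤ n) :
    ∃ a : Matrix.SpecialLinearGroup (Fin n) F, (a : Matrix (Fin n) (Fin n) F) = 1 + Matrix.of (fun i j : Fin n => if j.val < ℓ ∧ i.val = j.val + (n - ℓ) then (1 : F) else 0) ∧ orderOf a = 2 ∧ ((a : Matrix (Fin n) (Fin n) F) - 1).rank = ℓ := by
  set D : Matrix (Fin n) (Fin n) F :=
    Matrix.of (fun i j : Fin n => if j.val < ℓ ∧ i.val = j.val + (n - ℓ) then (1 : F) else 0) with hD
  let A : Matrix (Fin n) (Fin ℓ) F :=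
    Matrix.of (fun i k => if i.val = k.val + (n - ℓ) then (1 : F) else 0)
  let B : Matrix (Fin ℓ) (Fin n) F := Matrix.of (fun k j => if j.val = k.val then (1 : F) else 0)
  have hAB : D = A * B := by
    ext i j
    rw [Matrix.mul_apply]
    by_cases hj : j.val < ℓ
    · rw [Finset.sum_eq_single (⟨j.val, hj⟩ : Fin ℓ)]
      · simp [hD, A, B, hj]
      · intro k _ hk
        have : j.val ≠ k.val := fun h => hk (Fin.ext h.symm)
        simp [B, this]
      · simp
    · rw [Finset.sum_eq_zero]
      · simp [hD, hj]
      · intro k _
        have : j.val ≠ k.val := by have := k.isLt; omega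
        simp [B, this]
  have hDD : D * D = 0 := by
    ext i j
    rw [Matrix.mul_apply, Finset.sum_eq_zero]
    · simp
    · intro k _
      simp only [hD, Matrix.of_apply]
      split_ifs <;> simp <;> omega
  have hdet : (1 + D).det = 1 := by
    rw [Matrix.det_of_isLowerTriangular]
    · refine Finset.prod_eq_one (fun i _ => ?_)
      have : ¬ (i.val < ℓ ∧ i.val = i.val + (n - ℓ)) := by omega
      rw [Matrix.add_apply, Matrix.one_apply_eq, hD, Matrix.of_apply, if_neg this, add_zero]
    · intro i j hij
      have hlt : i.val < j.val := hij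
      have : ¬ (j.val < ℓ ∧ i.val = j.val + (n - ℓ)) := by omega
      have hne : i ≠ j := Fin.ne_of_lt hij
      simp [hD, this, hne]
  have hrank : D.rank = ℓ := by
    apply le_antisymm
    · rw [hAB]
      exact (Matrix.rank_mul_le_left A B).trans (Matrix.rank_le_width A)
    · have h : A.transpose * D * B.transpose = (1 : Matrix (Fin ℓ) (Fin ℓ) F) := by
        have hA : A.transpose * A = (1 : Matrix (Fin ℓ) (Fin ℓ) F) := by
          ext k k'
          rw [Matrix.mul_apply, Finset.sum_eq_single (⟨k.val + (n - ℓ), by omega⟩ : Fin n)]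
          · by_cases hkk : k = k'
            · subst hkk; simp [A]
            · have : k.val ≠ k'.val := fun h => hkk (Fin.ext h)
              simp [A, hkk, this]
          · intro i _ hi
            have : i.val ≠ k.val + (n - ℓ) := fun h => hi (Fin.ext h)
            simp [A, this]
          · simp
        have hB : B * B.transpose = (1 : Matrix (Fin ℓ) (Fin ℓ) F) := by
          ext k k'
          rw [Matrix.mul_apply, Finset.sum_eq_single (⟨k.val, by omega⟩ : Fin n)]
          · by_cases hkk : k = k'
            · subst hkk; simp [B]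
            · have : k.val ≠ k'.val := fun h => hkk (Fin.ext h)
              simp [B, hkk, this]
          · intro i _ hi
            have : i.val ≠ k.val := fun h => hi (Fin.ext h)
            simp [B, this]
          · simp
        rw [hAB, ← Matrix.mul_assoc, hA, Matrix.one_mul, hB]
      calc ℓ = (1 : Matrix (Fin ℓ) (Fin ℓ) F).rank := by rw [Matrix.rank_one, Fintype.card_fin]
        _ ≤ (A.transpose * D).rank := h ▸ Matrix.rank_mul_le_left _ _
        _ ≤ D.rank := Matrix.rank_mul_le_right _ _
  refine ⟨⟨1 + D, hdet⟩, rfl, ?_, by simpa using hrank⟩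
  apply orderOf_eq_prime
  · apply Subtype.ext
    simp only [Matrix.SpecialLinearGroup.coe_pow, Matrix.SpecialLinearGroup.coe_one]
    have h2 : D + D = 0 := by rw [← two_smul F D, CharTwo.two_eq_zero, zero_smul]
    calc (1 + D) ^ 2 = 1 + (D + D) + D * D := by noncomm_ring
      _ = 1 := by rw [h2, hDD, add_zero, add_zero]
  · intro h
    have : (1 + D) = 1 := congrArg Subtype.val h
    have hz : D = 0 := by simpa using this
    rw [hz, Matrix.rank_zero] at hrank
    omega

end Cfsg.Agent.S2163
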