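import Cfsg.Statements.S2164
import Cfsg.Agent.Lib.Known.UnitaryInvolution

set_option autoImplicit false
open Cfsg

namespace Cfsg.Agent.S2164

/-- Conjugacy of involutions in the special unitary group SU_n(q), q even, n ≥ 3, realised over the field F with q² elements as the matrices of determinant 1 preserving the form Σ u_i v_i^q: for two elements of order 2 of SU_n(q) the following are equivalent — they are conjugate in SU_n(q); they are conjugate in SL_n(F); the matrices a − 1 and b − 1 have the same rank. -/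
theorem result {F : Type*} [Field F] [Fintype F] [CharP F 2] {n q : ℕ} (hF : Fintype.card F = q ^ 2) (hn : 3 ≤ n) (a b : ↥(Cfsg.SU n F q)) (ha : orderOf a = 2) (hb : orderOf b = 2) :
    (IsConj a b ↔ IsConj (a : Matrix.SpecialLinearGroup (Fin n) F) (b : Matrix.SpecialLinearGroup (Fin n) F)) ∧
    (IsConj a b ↔ (((a : Matrix.SpecialLinearGroup (Fin n) F) : Matrix (Fin n) (Fin n) F) - 1).rank = (((b : Matrix.SpecialLinearGroup (Fin n) F) : Matrix (Fin n) (Fin n) F) - 1).rank) := by
  have hsq : ∀ x : ↥(Cfsg.SU n F q), orderOf x = 2 → x * x = 1 := fun x hx => by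
    rw [← pow_two, ← hx, pow_orderOf_eq_one]
  have ha1 : a ≠ 1 := fun h => by simp [h] at ha
  have hsl : IsConj a b → IsConj (a : Matrix.SpecialLinearGroup (Fin n) F) (b : Matrix.SpecialLinearGroup (Fin n) F) :=
    fun h => MonoidHom.map_isConj (Cfsg.SU n F q).subtype h
  have hrk := CfsgLib.Known.InvolutionRank.isConj_iff_rank (a : Matrix.SpecialLinearGroup (Fin n) F)
    (b : Matrix.SpecialLinearGroup (Fin n) F) ((Subgroup.orderOf_coe a).trans ha) ((Subgroup.orderOf_coe b).trans hb)
  have hsu := CfsgLib.Known.UnitaryInvolution.isConj_of_rank hF a b (hsq a ha) (hsq b hb) ha1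
  exact ⟨⟨hsl, fun h => hsu (hrk.1 h)⟩, fun h => hrk.1 (hsl h), hsu⟩

end Cfsg.Agent.S2164
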