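import Cfsg.Statements.S2165


set_option autoImplicit false
open Cfsg
open scoped Matrix

namespace Cfsg.Agent.S2165

/-- In SU_n(q), q even, n ≥ 3 (matrices of determinant 1 over the field with q² elements preserving Σ u_i v_i^q): for every ℓ with 1 ≤ ℓ and 2ℓ ≤ n, the permutation matrix of the involution of {0, …, n−1} exchanging i and n − ℓ + i for each i < ℓ lies in SU_n(q), has order 2, and differs from the identity by a matrix of rank ℓ. So every rank between 1 and n/2 occurs for involutions of SU_n(q). -/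
theorem result {F : Type*} [Field F] [Fintype F] [CharP F 2] {n q : ℕ} (hF : Fintype.card F = q ^ 2) (hn : 3 ≤ n) (ℓ : ℕ) (h1 : 1 ≤ ℓ) (h2 : 2 * ℓ ≤ n) :
    ∃ a : ↥(Cfsg.SU n F q), (((a : Matrix.SpecialLinearGroup (Fin n) F) : Matrix (Fin n) (Fin n) F) = Matrix.of (fun i j : Fin n => if (j.val < ℓ ∧ i.val = j.val + (n - ℓ)) ∨ (i.val < ℓ ∧ j.val = i.val + (n - ℓ)) ∨ (i = j ∧ ℓ ≤ i.val ∧ i.val < n - ℓ) then (1 : F) else 0)) ∧ orderOf a = 2 ∧ ((((a : Matrix.SpecialLinearGroup (Fin n) F) : Matrix (Fin n) (Fin n) F)) - 1).rank = ℓ := by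
  let σf : Fin n → Fin n := fun i =>
    if hi : i.val < ℓ then ⟨i.val + (n - ℓ), by omega⟩
    else if hi' : n - ℓ ≤ i.val then ⟨i.val - (n - ℓ), by omega⟩ else i
  have hσσ : Function.Involutive σf := by
    intro i
    have hval : ∀ j : Fin n, ((σf j).val = j.val + (n - ℓ) ∧ j.val < ℓ) ∨
        ((σf j).val + (n - ℓ) = j.val ∧ ¬ j.val < ℓ ∧ n - ℓ ≤ j.val) ∨
        ((σf j).val = j.val ∧ ¬ j.val < ℓ ∧ ¬ n - ℓ ≤ j.val) := by
      intro j
      simp only [σf]
      split_ifs with g1 g2
      · exact Or.inl ⟨rfl, g1⟩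
      · exact Or.inr (Or.inl ⟨Nat.sub_add_cancel g2, g1, g2⟩)
      · exact Or.inr (Or.inr ⟨rfl, g1, g2⟩)
    apply Fin.ext
    have e1 := hval i
    have e2 := hval (σf i)
    omega
  let σ : Equiv.Perm (Fin n) := hσσ.toPerm
  let P : Matrix (Fin n) (Fin n) F := Matrix.of (fun i j : Fin n => if (j.val < ℓ ∧ i.val = j.val + (n - ℓ)) ∨ (i.val < ℓ ∧ j.val = i.val + (n - ℓ)) ∨ (i = j ∧ ℓ ≤ i.val ∧ i.val < n - ℓ) then (1 : F) else 0)
  have hP : ∀ i j, P i j = if j = σ i then 1 else 0 := by
    intro i j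
    simp only [P, Matrix.of_apply]
    refine if_congr ?_ rfl rfl
    simp only [σ, Function.Involutive.coe_toPerm, σf]
    split_ifs <;> simp [Fin.ext_iff] <;> omega
  have hmv : ∀ (u : Fin n → F) i, (P *ᵥ u) i = u (σ i) := by
    intro u i
    simp [Matrix.mulVec, dotProduct, hP]
  have hPP : P * P = 1 := by
    ext i j
    rw [Matrix.mul_apply, Finset.sum_eq_single (σ i)]
    · rw [hP, hP, if_pos rfl, one_mul]
      have : σ (σ i) = i := hσσ i
      rw [this, Matrix.one_apply]
      exact if_congr eq_comm rfl rfl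
    · intro k _ hk; simp [hP, hk]
    · simp
  have hdet : P.det = 1 := by
    have h : P.det * P.det = 1 := by rw [← Matrix.det_mul, hPP, Matrix.det_one]
    have h2 : (P.det - 1) * (P.det + 1) = 0 := by linear_combination h
    rcases mul_eq_zero.mp h2 with h3 | h3
    · exact sub_eq_zero.mp h3
    · rwa [add_eq_zero_iff_eq_neg, CharTwo.neg_eq] at h3
  have hmem : (⟨P, hdet⟩ : Matrix.SpecialLinearGroup (Fin n) F) ∈ Cfsg.SU n F q := by
    intro u v
    show Cfsg.hermForm n F q (P *ᵥ u) (P *ᵥ v) = _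
    simp only [Cfsg.hermForm, hmv]
    exact Equiv.sum_comp σ (fun i => u i * v i ^ q)
  let C : Matrix (Fin n) (Fin ℓ) F :=
    Matrix.of (fun i k => if i.val = k.val ∨ i.val = k.val + (n - ℓ) then (1 : F) else 0)
  let B : Matrix (Fin ℓ) (Fin n) F := Matrix.of (fun k j => if j.val = k.val then (1 : F) else 0)
  have hCC : P - 1 = C * C.transpose := by
    ext i j
    rw [Matrix.mul_apply, Matrix.sub_apply, CharTwo.sub_eq_add, Matrix.one_apply]
    by_cases h : i.val < ℓ ∨ n - ℓ ≤ i.val
    · set k0 : ℕ := if i.val < ℓ then i.val else i.val - (n - ℓ) with hk0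
      have hk0l : k0 < ℓ := by rw [hk0]; split_ifs <;> omega
      rw [Finset.sum_eq_single (⟨k0, hk0l⟩ : Fin ℓ)]
      · simp only [C, P, Matrix.of_apply, Matrix.transpose_apply, hk0, Fin.ext_iff]
        split_ifs <;> simp <;> first | omega | skip
      · intro k _ hk
        have hk' : k.val ≠ k0 := fun e => hk (Fin.ext e)
        have : ¬ (i.val = k.val ∨ i.val = k.val + (n - ℓ)) := by
          rw [hk0] at hk'; split_ifs at hk' <;> omega
        simp [C, this]
      · simp
    · rw [Finset.sum_eq_zero]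
      · simp only [P, Matrix.of_apply, Fin.ext_iff]
        split_ifs <;> simp [CharTwo.add_self_eq_zero] <;> omega
      · intro k _
        have : ¬ (i.val = k.val ∨ i.val = k.val + (n - ℓ)) := by
          have := k.isLt; omega
        simp [C, this]
  have hrank : (P - 1).rank = ℓ := by
    apply le_antisymm
    · rw [hCC]
      exact (Matrix.rank_mul_le_left _ _).trans (Matrix.rank_le_width C)
    · have hBC : B * C = (1 : Matrix (Fin ℓ) (Fin ℓ) F) := by
        ext k k'
        rw [Matrix.mul_apply, Finset.sum_eq_single (⟨k.val, by omega⟩ : Fin n)]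
        · simp only [B, C, Matrix.of_apply, Matrix.one_apply, Fin.ext_iff]
          split_ifs <;> simp <;> omega
        · intro i _ hi
          have : i.val ≠ k.val := fun h => hi (Fin.ext h)
          simp [B, this]
        · simp
      have h : B * (P - 1) * B.transpose = (1 : Matrix (Fin ℓ) (Fin ℓ) F) := by
        rw [hCC, ← Matrix.mul_assoc B, hBC, Matrix.one_mul, ← Matrix.transpose_mul, hBC,
          Matrix.transpose_one]
      calc ℓ = (1 : Matrix (Fin ℓ) (Fin ℓ) F).rank := by rw [Matrix.rank_one, Fintype.card_fin]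
        _ ≤ (B * (P - 1)).rank := h ▸ Matrix.rank_mul_le_left _ _
        _ ≤ (P - 1).rank := Matrix.rank_mul_le_right _ _
  refine ⟨⟨⟨P, hdet⟩, hmem⟩, rfl, ?_, hrank⟩
  apply orderOf_eq_prime
  · apply Subtype.ext
    apply Subtype.ext
    simp only [SubgroupClass.coe_pow, Matrix.SpecialLinearGroup.coe_pow, OneMemClass.coe_one, Matrix.SpecialLinearGroup.coe_one, pow_two]
    exact hPP
  · intro h
    have : P = 1 := congrArg (fun x : ↥(Cfsg.SU n F q) => ((x : Matrix.SpecialLinearGroup (Fin n) F) : Matrix (Fin n) (Fin n) F)) h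
    rw [this, sub_self, Matrix.rank_zero] at hrank
    omega

end Cfsg.Agent.S2165
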