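import Cfsg.Statements.S2166
import Cfsg.Agent.Lib.KnownSimple.CharTwoInv.InvolSp

set_option autoImplicit false
open Cfsg Matrix CfsgLib.Classical CfsgLib.KnownSimple.CharTwoInv

namespace Cfsg.Agent.S2166

/-- Conjugacy of involutions in the symplectic group Sp_{2m}(F), F a finite field of characteristic two, m ≥ 2 (Sp taken as the matrices A with A J Aᵀ = J, acting on column vectors, with the alternating form f(u, v) = u ⬝ (J v)). For an involution t write V(t) for the set of vectors v with f(v, t v) = 0 (a subspace). Two involutions a, b are conjugate in Sp_{2m}(F) exactly when a − 1 and b − 1 have the same rank and, in case that rank is even, V(a) and V(b) have the same number of elements. -/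
theorem result {F : Type*} [Field F] [Fintype F] [CharP F 2] {m : ℕ} (hm : 2 ≤ m) (a b : ↥(Matrix.symplecticGroup (Fin m) F)) (ha : orderOf a = 2) (hb : orderOf b = 2) :
    IsConj a b ↔ ((((a : ↥(Matrix.symplecticGroup (Fin m) F)) : Matrix (Fin m ⊕ Fin m) (Fin m ⊕ Fin m) F) - 1).rank = (((b : ↥(Matrix.symplecticGroup (Fin m) F)) : Matrix (Fin m ⊕ Fin m) (Fin m ⊕ Fin m) F) - 1).rank ∧
      (Even (((a : ↥(Matrix.symplecticGroup (Fin m) F)) : Matrix (Fin m ⊕ Fin m) (Fin m ⊕ Fin m) F) - 1).rank → Nat.card {v : Fin m ⊕ Fin m → F // Cfsg.sympForm m F v (Matrix.mulVec ((a : ↥(Matrix.symplecticGroup (Fin m) F)) : Matrix (Fin m ⊕ Fin m) (Fin m ⊕ Fin m) F) v) = 0} = Nat.card {v : Fin m ⊕ Fin m → F // Cfsg.sympForm m F v (Matrix.mulVec ((b : ↥(Matrix.symplecticGroup (Fin m) F)) : Matrix (Fin m ⊕ Fin m) (Fin m ⊕ Fin m) F) v) = 0})) := by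
  classical
  have hsq : ∀ {g : Matrix.symplecticGroup (Fin m) F}, orderOf g = 2 → g * g = 1 := fun hg => by
    rw [← sq, ← hg, pow_orderOf_eq_one]
  have hrank : ∀ g : Matrix.symplecticGroup (Fin m) F,
      (g.1 - 1).rank = Module.finrank F (LinearMap.range (spLin g + LinearMap.id)) := fun g => by
    rw [Matrix.rank, show (g.1 - 1).mulVecLin = spLin g + LinearMap.id from LinearMap.ext fun x => by
      show (g.1 - 1) *ᵥ x = g.1 *ᵥ x + x
      rw [Matrix.sub_mulVec, Matrix.one_mulVec]
      funext i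
      exact CharTwo.sub_eq_add _ _]
  set V := Fin m ⊕ Fin m → F
  let Vt : Matrix.symplecticGroup (Fin m) F → ℕ := fun g => Nat.card {v : V // Cfsg.sympForm m F v (g.1 *ᵥ v) = 0}
  have hcard : ∀ g : Matrix.symplecticGroup (Fin m) F, g * g = 1 →
      ((∀ v, spBilin m F v (spLin g v) = 0) ∧ Vt g = Nat.card V) ∨
      (¬ (∀ v, spBilin m F v (spLin g v) = 0) ∧ Vt g * Fintype.card F = Nat.card V) := by
    intro g hg
    by_cases ha : ∀ v, spBilin m F v (spLin g v) = 0
    · exact Or.inl ⟨ha, Nat.card_congr (Equiv.subtypeUnivEquiv ha)⟩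
    refine Or.inr ⟨ha, ?_⟩
    have hinv : ∀ x, spLin g (spLin g x) = x := fun x => by rw [← spLin_mul, hg]; simp [spLin]
    let φ : V →+ F :=
      { toFun := fun v => spBilin m F v (spLin g v)
        map_zero' := by simp
        map_add' := fun v w => by
          have h1 : spBilin m F w (spLin g v) = spBilin m F v (spLin g w) := by
            conv_lhs => rw [← hinv w, spLin_form]
            exact symm_of_alt spBilin_isAlt _ _
          simp only [map_add, LinearMap.add_apply]
          linear_combination h1 + (CharTwo.add_self_eq_zero (spBilin m F v (spLin g w))) }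
    have hsurj : Function.Surjective φ := fun y => by
      push Not at ha
      obtain ⟨v₀, hv₀⟩ := ha
      obtain ⟨a, ha'⟩ := (isSquare_iff_exists_sq _).1 (FiniteField.isSquare_of_char_two
        (ringChar.eq F 2) (y / spBilin m F v₀ (spLin g v₀)))
      refine ⟨a • v₀, ?_⟩
      show spBilin m F (a • v₀) (spLin g (a • v₀)) = y
      rw [map_smul, map_smul, map_smul, LinearMap.smul_apply, smul_eq_mul, smul_eq_mul, ← mul_assoc, ← sq, ← ha',
        div_mul_cancel₀ _ hv₀]
    have h1 := AddSubgroup.card_eq_card_quotient_mul_card_addSubgroup φ.ker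
    rw [Nat.card_congr (QuotientAddGroup.quotientKerEquivOfSurjective φ hsurj).toEquiv,
      Nat.card_eq_fintype_card (α := F)] at h1
    rw [h1, mul_comm (Fintype.card F)]
    rfl
  have hV : 0 < Nat.card V := Nat.card_pos
  have hkey : ∀ g h : Matrix.symplecticGroup (Fin m) F, g * g = 1 → h * h = 1 →
      (((∀ v, spBilin m F v (spLin g v) = 0) ↔ ∀ v, spBilin m F v (spLin h v) = 0) ↔ Vt g = Vt h) := by
    intro g h hg hh
    have hF : 1 < Fintype.card F := Fintype.one_lt_card
    rcases hcard g hg with ⟨a1, e1⟩ | ⟨a1, e1⟩ <;> rcases hcard h hh with ⟨a2, e2⟩ | ⟨a2, e2⟩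
    · simp only [a1, a2, e1, e2]
    · refine iff_of_false (fun e => a2 (e.1 a1)) fun e => ?_
      rw [← e, e1] at e2
      nlinarith
    · refine iff_of_false (fun e => a1 (e.2 a2)) fun e => ?_
      rw [e, e2] at e1
      nlinarith
    · refine iff_of_true (iff_of_false a1 a2) (Nat.eq_of_mul_eq_mul_right (by omega : 0 < Fintype.card F) (e1.trans e2.symm))
  have heven : ∀ g : Matrix.symplecticGroup (Fin m) F, g * g = 1 → (∀ v, spBilin m F v (spLin g v) = 0) →
      Even (g.1 - 1).rank := by
    intro g hg ha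
    obtain ⟨u, c, hd⟩ := sp_exists_data hg rfl
    rw [hrank]
    exact even_of_alt hd.nd ((hd.alt_iff spBilin_isAlt spBilin_nondegenerate).1 ha)
  constructor
  · intro hab
    obtain ⟨k, hk⟩ := isConj_iff.1 hab
    have ht := spType_conj k a
    rw [hk] at ht
    have h1 : (a.1 - 1).rank = (b.1 - 1).rank := by
      rw [hrank, hrank]; exact (congrArg Prod.fst ht).symm
    exact ⟨h1, fun _ => (hkey a b (hsq ha) (hsq hb)).1 (Iff.of_eq (congrArg Prod.snd ht).symm)⟩
  · rintro ⟨h1, h2⟩
    obtain ⟨k, hk⟩ := sp_isConj_of_type (hsq ha) (hsq hb) (Prod.ext (by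
        show Module.finrank F _ = Module.finrank F _
        rw [← hrank, ← hrank, h1]) (propext (by
      by_cases he : Even (a.1 - 1).rank
      · exact (hkey a b (hsq ha) (hsq hb)).2 (h2 he)
      · exact iff_of_false (fun h => he (heven a (hsq ha) h)) (fun h => he (h1 ▸ heven b (hsq hb) h)))))
    exact isConj_iff.2 ⟨k, by rw [hk, mul_inv_cancel_right]⟩

end Cfsg.Agent.S2166
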