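import Cfsg.Statements.S2167
import Cfsg.Agent.Lib.Known.AltEven


set_option autoImplicit false
open Cfsg
open scoped Matrix

namespace Cfsg.Agent.S2167

/-- For an involution t of the symplectic group Sp_{2m}(F), m ≥ 2, F a finite field of characteristic two (matrices A with A J Aᵀ = J acting on column vectors, alternating form f(u, v) = u ⬝ (J v)): the set V(t) of vectors v with f(v, t v) = 0 has either q^{2m} or q^{2m−1} elements, q the order of F (it is a subspace of codimension at most 1), and if it is the whole space then t − 1 has even rank. -/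
theorem result {F : Type*} [Field F] [Fintype F] [CharP F 2] {m : ℕ} (hm : 2 ≤ m) (a : ↥(Matrix.symplecticGroup (Fin m) F)) (ha : orderOf a = 2) :
    (Nat.card {v : Fin m ⊕ Fin m → F // Cfsg.sympForm m F v (Matrix.mulVec ((a : ↥(Matrix.symplecticGroup (Fin m) F)) : Matrix (Fin m ⊕ Fin m) (Fin m ⊕ Fin m) F) v) = 0} = Fintype.card F ^ (2 * m) ∨ Nat.card {v : Fin m ⊕ Fin m → F // Cfsg.sympForm m F v (Matrix.mulVec ((a : ↥(Matrix.symplecticGroup (Fin m) F)) : Matrix (Fin m ⊕ Fin m) (Fin m ⊕ Fin m) F) v) = 0} * Fintype.card F = Fintype.card F ^ (2 * m)) ∧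
    ((∀ v : Fin m ⊕ Fin m → F, Cfsg.sympForm m F v (Matrix.mulVec ((a : ↥(Matrix.symplecticGroup (Fin m) F)) : Matrix (Fin m ⊕ Fin m) (Fin m ⊕ Fin m) F) v) = 0) → Even (((a : ↥(Matrix.symplecticGroup (Fin m) F)) : Matrix (Fin m ⊕ Fin m) (Fin m ⊕ Fin m) F) - 1).rank) := by
  classical
  set V := Fin m ⊕ Fin m → F
  set t : Matrix (Fin m ⊕ Fin m) (Fin m ⊕ Fin m) F := (a : Matrix (Fin m ⊕ Fin m) (Fin m ⊕ Fin m) F) with ht
  set J := Matrix.J (Fin m) F with hJ
  have htt : t * t = 1 := by
    have h : a ^ 2 = 1 := by rw [← ha]; exact pow_orderOf_eq_one a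
    have := congrArg Subtype.val h
    simpa [pow_two] using this
  have htJ : t.transpose * J * t = J :=
    SymplecticGroup.mem_iff'.mp a.2
  have hadd : ∀ x y z : V, Cfsg.sympForm m F (x + y) z = Cfsg.sympForm m F x z + Cfsg.sympForm m F y z := by
    intro x y z; exact add_dotProduct _ _ _
  have hadd2 : ∀ x y z : V, Cfsg.sympForm m F x (y + z) = Cfsg.sympForm m F x y + Cfsg.sympForm m F x z := by
    intro x y z; show x ⬝ᵥ (J *ᵥ (y + z)) = _; rw [Matrix.mulVec_add, dotProduct_add]; rfl
  have hsmul : ∀ (c : F) (x y : V), Cfsg.sympForm m F (c • x) y = c * Cfsg.sympForm m F x y := by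
    intro c x y; exact smul_dotProduct c x _
  have hsmul2 : ∀ (c : F) (x y : V), Cfsg.sympForm m F x (c • y) = c * Cfsg.sympForm m F x y := by
    intro c x y; show x ⬝ᵥ (J *ᵥ (c • y)) = _; rw [Matrix.mulVec_smul, dotProduct_smul, smul_eq_mul]; rfl
  have halt : ∀ x : V, Cfsg.sympForm m F x x = 0 := by
    intro x
    simp [Cfsg.sympForm, dotProduct, Matrix.J, Matrix.mulVec, Fintype.sum_sum_type, Matrix.one_apply,
      Matrix.fromBlocks]
    rw [← Finset.sum_neg_distrib, ← Finset.sum_add_distrib]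
    exact Finset.sum_eq_zero (fun i _ => by ring)
  have hskew : ∀ x y : V, Cfsg.sympForm m F x y = Cfsg.sympForm m F y x := by
    intro x y
    have h := halt (x + y)
    rw [hadd, hadd2, hadd2, halt, halt, zero_add, add_zero] at h
    rwa [add_eq_zero_iff_eq_neg, CharTwo.neg_eq] at h
  have hinv : ∀ x y : V, Cfsg.sympForm m F (t *ᵥ x) (t *ᵥ y) = Cfsg.sympForm m F x y := by
    intro x y
    show (t *ᵥ x) ⬝ᵥ (J *ᵥ (t *ᵥ y)) = x ⬝ᵥ (J *ᵥ y)
    rw [Matrix.mulVec_mulVec, Matrix.dotProduct_mulVec, ← Matrix.vecMul_transpose,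
      Matrix.vecMul_vecMul, ← Matrix.mul_assoc, htJ, ← Matrix.dotProduct_mulVec]
  have hsym : ∀ x y : V, Cfsg.sympForm m F x (t *ᵥ y) = Cfsg.sympForm m F y (t *ᵥ x) := by
    intro x y
    rw [← hinv x (t *ᵥ y), Matrix.mulVec_mulVec, htt, Matrix.one_mulVec, hskew]
  let g : V →+ F :=
    { toFun := fun v => Cfsg.sympForm m F v (t *ᵥ v)
      map_zero' := by simp [Cfsg.sympForm]
      map_add' := by
        intro x y
        rw [Matrix.mulVec_add, hadd, hadd2, hadd2, hsym y x]
        linear_combination CharTwo.add_self_eq_zero (Cfsg.sympForm m F x (t *ᵥ y)) }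
  have hcardV : Nat.card V = Fintype.card F ^ (2 * m) := by
    simp [V, Nat.card_eq_fintype_card, two_mul]
  have hker : Nat.card {v : V // Cfsg.sympForm m F v (t *ᵥ v) = 0} = Nat.card g.ker :=
    Nat.card_congr (Equiv.refl _)
  have hmul : Nat.card g.ker * Nat.card g.range = Fintype.card F ^ (2 * m) := by
    rw [← hcardV, AddSubgroup.card_eq_card_quotient_mul_card_addSubgroup g.ker,
      ← Nat.card_congr (QuotientAddGroup.quotientKerEquivRange g).toEquiv, mul_comm]
  refine ⟨?_, fun hall => ?_⟩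
  · rw [hker]
    by_cases h0 : ∀ v, g v = 0
    · left
      have : g.range = ⊥ := by
        ext y
        simp only [AddMonoidHom.mem_range, AddSubgroup.mem_bot]
        exact ⟨fun ⟨v, hv⟩ => hv ▸ h0 v, fun h => ⟨0, by simp [h]⟩⟩
      rw [this, AddSubgroup.card_bot, mul_one] at hmul
      exact hmul
    · right
      push Not at h0
      obtain ⟨v, hv⟩ := h0
      have : g.range = ⊤ := by
        rw [eq_top_iff]
        intro y _
        obtain ⟨c, hc⟩ := FiniteField.isSquare_of_char_two (CharP.eq (R := F) (ringChar.charP F) inferInstance) (y / g v)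
        refine ⟨c • v, ?_⟩
        show Cfsg.sympForm m F (c • v) (t *ᵥ (c • v)) = y
        rw [Matrix.mulVec_smul, hsmul, hsmul2, ← mul_assoc, ← hc]
        exact div_mul_cancel₀ y hv
      rw [this, AddSubgroup.card_top, Nat.card_eq_fintype_card (α := F)] at hmul
      exact hmul
  · let B : V →ₗ[F] V →ₗ[F] F := LinearMap.mk₂ F (Cfsg.sympForm m F) hadd hsmul hadd2 hsmul2
    have h := CfsgLib.Known.even_finrank_range_of_alt B halt ?_ (Matrix.toLin' (t - 1)) ?_
    · rw [Matrix.rank, ← Matrix.toLin'_apply']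
      exact h
    · intro x hx
      have h : x ᵥ* J = 0 := by
        ext i
        have := hx (Pi.single i 1)
        simp only [B, LinearMap.mk₂_apply, Cfsg.sympForm] at this
        rw [Matrix.dotProduct_mulVec, dotProduct_single, mul_one] at this
        exact this
      have hu : IsUnit J := by
        rw [hJ, Matrix.isUnit_iff_isUnit_det]
        exact Matrix.isUnit_det_J (Fin m) F
      exact Matrix.vecMul_injective_iff_isUnit.mpr hu (by simpa using h)
    · intro x
      show Cfsg.sympForm m F x (Matrix.toLin' (t - 1) x) = 0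
      rw [Matrix.toLin'_apply, Matrix.sub_mulVec, Matrix.one_mulVec]
      have : (t *ᵥ x - x) = t *ᵥ x + x := by ext i; exact CharTwo.sub_eq_add _ _
      rw [this, hadd2, hall x, halt x, add_zero]

end Cfsg.Agent.S2167
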