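import Cfsg.Statements.S2172
import Cfsg.Agent.Lib.KnownSimple.CharTwoInv.InvolConj
import Cfsg.Agent.Lib.KnownSimple.CharTwoInv.InvolFrames

set_option autoImplicit false
open Cfsg Matrix CfsgLib.Classical CfsgLib.KnownSimple.CharTwoInv

namespace Cfsg.Agent.S2172

/-- Splitting of involution classes from O to Ω for the hyperbolic quadratic form Q = Σ x_i y_i in dimension 2m over a finite field F of characteristic two, m ≥ 4. Let t, s be involutions of the commutator subgroup Ω that are conjugate in the full isometry group O. If it is not the case that t − 1 has rank m and Q(v + t v) = 0 for every vector v, then t and s are conjugate by an element of Ω. If t − 1 has rank m and Q(v + t v) = 0 for all v, then t and s are conjugate by an element of Ω exactly when the intersection of the images of t − 1 and s − 1 has even dimension (so the class of t in O meets at most two classes of Ω). -/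
theorem result {F : Type*} [Field F] [Fintype F] [CharP F 2] {m : ℕ} (hm : 4 ≤ m) (t s : ↥(Cfsg.isometryGroup F (Cfsg.quadFormPlus m F))) (ht : orderOf t = 2) (hs : orderOf s = 2) (htO : t ∈ Cfsg.Omega F (Cfsg.quadFormPlus m F)) (hsO : s ∈ Cfsg.Omega F (Cfsg.quadFormPlus m F)) (hconj : IsConj t s) :
    (¬ (((((t : ↥(Cfsg.isometryGroup F (Cfsg.quadFormPlus m F))) : GL (Fin m ⊕ Fin m) F) : Matrix (Fin m ⊕ Fin m) (Fin m ⊕ Fin m) F) - 1).rank = m ∧ ∀ v : Fin m ⊕ Fin m → F, Cfsg.quadFormPlus m F (v + Matrix.mulVec (((t : ↥(Cfsg.isometryGroup F (Cfsg.quadFormPlus m F))) : GL (Fin m ⊕ Fin m) F) : Matrix (Fin m ⊕ Fin m) (Fin m ⊕ Fin m) F) v) = 0) →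
      ∃ g ∈ Cfsg.Omega F (Cfsg.quadFormPlus m F), g * t * g⁻¹ = s) ∧
    ((((((t : ↥(Cfsg.isometryGroup F (Cfsg.quadFormPlus m F))) : GL (Fin m ⊕ Fin m) F) : Matrix (Fin m ⊕ Fin m) (Fin m ⊕ Fin m) F) - 1).rank = m ∧ ∀ v : Fin m ⊕ Fin m → F, Cfsg.quadFormPlus m F (v + Matrix.mulVec (((t : ↥(Cfsg.isometryGroup F (Cfsg.quadFormPlus m F))) : GL (Fin m ⊕ Fin m) F) : Matrix (Fin m ⊕ Fin m) (Fin m ⊕ Fin m) F) v) = 0) →
      ((∃ g ∈ Cfsg.Omega F (Cfsg.quadFormPlus m F), g * t * g⁻¹ = s) ↔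
        Even (Module.finrank F ↥(LinearMap.range (Matrix.toLin' ((((t : ↥(Cfsg.isometryGroup F (Cfsg.quadFormPlus m F))) : GL (Fin m ⊕ Fin m) F) : Matrix (Fin m ⊕ Fin m) (Fin m ⊕ Fin m) F) - 1)) ⊓ LinearMap.range (Matrix.toLin' ((((s : ↥(Cfsg.isometryGroup F (Cfsg.quadFormPlus m F))) : GL (Fin m ⊕ Fin m) F) : Matrix (Fin m ⊕ Fin m) (Fin m ⊕ Fin m) F) - 1)))))) := by
  revert t s
  rw [← coe_qPlus]
  intro t s ht hs htO hsO hconj
  have hF := frames_qPlus (F := F) m
  have hex : Fintype.card F ≠ 2 ∨ Module.finrank F (Fin m ⊕ Fin m → F) ≠ 4 := Or.inr (by rw [hF.dim]; omega)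
  have hgen := reflGroup_eq_top _ hF.nd hex
  have hb := hF.bounds ((MulEquiv.orderOf_eq (isoEquiv (qPlus m F)) t).trans ht)
  obtain ⟨k, hk⟩ : ∃ k, k * isoEquiv (qPlus m F) t = isoEquiv (qPlus m F) s * k := by
    obtain ⟨c, rfl⟩ := isConj_iff.1 hconj
    exact ⟨isoEquiv _ c, by rw [map_mul, map_mul, map_inv, inv_mul_cancel_right]⟩
  have halt : (∀ v, qPlus m F (v + isoMat t *ᵥ v) = 0) ↔
      ∀ v, QuadraticMap.polar (qPlus m F) v ((isoEquiv (qPlus m F) t).1 v) = 0 := by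
    refine forall_congr' fun v => ?_
    rw [← quad_add_image, isoEquiv_apply']
  rw [exists_omega_conj_iff]
  refine ⟨fun hn => exists_comm_conj hF.nd hgen hF.dim (by omega) (sq_one t ht) hk fun hmx => ?_, fun hp => ?_⟩
  · exact hn ⟨(rank_sub_one t).trans (le_antisymm hb.2.1 hmx.2), halt.2 hmx.1⟩
  · have hr : qRank (qPlus m F) (isoEquiv (qPlus m F) t) = m := (rank_sub_one t).symm.trans hp.1
    rw [exists_comm_conj_iff hF.nd hF.dim (by omega) hex (sq_one t ht) hk (halt.1 hp.2) hr,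
      ← inRange_isoEquiv, ← inRange_isoEquiv, Nat.even_sub ((Submodule.finrank_mono (inf_le_left : inRange (isoEquiv (qPlus m F) t) ⊓
        inRange (isoEquiv (qPlus m F) s) ≤ inRange (isoEquiv (qPlus m F) t))).trans hr.le)]
    have hev : Even m := hr ▸ (rank_sub_one t) ▸ (omega_even_rank hF.nd hgen (by simp; omega) t).1 htO
    exact iff_true_left hev

end Cfsg.Agent.S2172
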