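import Cfsg.Statements.S2173
import Cfsg.Agent.Lib.KnownSimple.CharTwoInv.InvolConj
import Cfsg.Agent.Lib.KnownSimple.CharTwoInv.InvolFrames

set_option autoImplicit false
open Cfsg Matrix CfsgLib.Classical CfsgLib.KnownSimple.CharTwoInv

namespace Cfsg.Agent.S2173

/-- For the quadratic form Σ x_i y_i + (z₁² + c z₁ z₂ + d z₂²) in dimension 2m with anisotropic binary part over a finite field F of characteristic two, m ≥ 4 (minus type): two involutions of the commutator subgroup Ω that are conjugate in the full isometry group O are conjugate by an element of Ω (no class of involutions of O inside Ω splits). -/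
theorem result {F : Type*} [Field F] [Fintype F] [CharP F 2] {m : ℕ} (hm : 4 ≤ m) (c d : F) (hcd : ∀ z₁ z₂ : F, z₁ ^ 2 + c * z₁ * z₂ + d * z₂ ^ 2 = 0 → z₁ = 0 ∧ z₂ = 0) (t s : ↥(Cfsg.isometryGroup F (Cfsg.quadFormMinus (m - 1) F c d))) (ht : orderOf t = 2) (hs : orderOf s = 2) (htO : t ∈ Cfsg.Omega F (Cfsg.quadFormMinus (m - 1) F c d)) (hsO : s ∈ Cfsg.Omega F (Cfsg.quadFormMinus (m - 1) F c d)) (hconj : IsConj t s) :
    ∃ g ∈ Cfsg.Omega F (Cfsg.quadFormMinus (m - 1) F c d), g * t * g⁻¹ = s := by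
  revert t s
  rw [← coe_qExt_qBin]
  intro t s ht hs htO hsO hconj
  have hF := frames_qExt (F := F) (m - 1) hcd
  have hgen := reflGroup_eq_top _ hF.nd (Or.inr (by rw [hF.dim]; omega))
  have hb := hF.bounds ((MulEquiv.orderOf_eq (isoEquiv (qExt (m - 1) (qBin c d))) t).trans ht)
  obtain ⟨k, hk⟩ : ∃ k, k * isoEquiv (qExt (m - 1) (qBin c d)) t = isoEquiv (qExt (m - 1) (qBin c d)) s * k := by
    obtain ⟨g, rfl⟩ := isConj_iff.1 hconj
    exact ⟨isoEquiv _ g, by rw [map_mul, map_mul, map_inv, inv_mul_cancel_right]⟩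
  rw [exists_omega_conj_iff]
  exact exists_comm_conj hF.nd hgen hF.dim (by omega) (sq_one t ht) hk fun hmx => by
    have h1 := (hb.2.2 hmx.1).2
    have h2 := hmx.2
    omega

end Cfsg.Agent.S2173
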