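import Cfsg.Statements.S2177
import Cfsg.Agent.Lib.Known.ChevG2Involutions

set_option autoImplicit false
open Cfsg

namespace Cfsg.Agent.S2177

/-- Conjugacy classes of involutions in the Chevalley group of type G₂ over a finite field F of characteristic two with at least four elements (the matrix group generated by the root elements x_r(t)). In this problem's root numbering for type G₂ (the Chevalley data module; p₁ = a short, p₂ = b long; roots indexed by coefficient vectors in increasing order) let 11 be the highest root 3a + 2b (long) and 9 the short root 2a + b; consider x_{3a+2b}(1) and x_{2a+b}(1). Then: each invertible matrix equal to one of these two products lies in the group and has order 2; every element of order 2 of the group is conjugate in the group to one of them; and no two of them are conjugate in the group (so, the two matrices being distinct, the group has exactly two conjugacy classes of involutions).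 -/
theorem result {F : Type*} [Field F] [Fintype F] [CharP F 2] (hF : 4 ≤ Fintype.card F) :
    (∀ y : GL Cfsg.Lie.chevG2.Idx F, ((y : GL Cfsg.Lie.chevG2.Idx F) : Matrix Cfsg.Lie.chevG2.Idx Cfsg.Lie.chevG2.Idx F) ∈ [Cfsg.Lie.chevG2.x F 11 1, Cfsg.Lie.chevG2.x F 9 1] → y ∈ Cfsg.Lie.chevG2.group F ∧ orderOf y = 2) ∧
    (∀ g ∈ Cfsg.Lie.chevG2.group F, orderOf g = 2 → ∃ y ∈ Cfsg.Lie.chevG2.group F, ((y : GL Cfsg.Lie.chevG2.Idx F) : Matrix Cfsg.Lie.chevG2.Idx Cfsg.Lie.chevG2.Idx F) ∈ [Cfsg.Lie.chevG2.x F 11 1, Cfsg.Lie.chevG2.x F 9 1] ∧ ∃ h ∈ Cfsg.Lie.chevG2.group F, h * g * h⁻¹ = y) ∧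
    (∀ y₁ ∈ Cfsg.Lie.chevG2.group F, ∀ y₂ ∈ Cfsg.Lie.chevG2.group F, ((y₁ : GL Cfsg.Lie.chevG2.Idx F) : Matrix Cfsg.Lie.chevG2.Idx Cfsg.Lie.chevG2.Idx F) ∈ [Cfsg.Lie.chevG2.x F 11 1, Cfsg.Lie.chevG2.x F 9 1] → ((y₂ : GL Cfsg.Lie.chevG2.Idx F) : Matrix Cfsg.Lie.chevG2.Idx Cfsg.Lie.chevG2.Idx F) ∈ [Cfsg.Lie.chevG2.x F 11 1, Cfsg.Lie.chevG2.x F 9 1] →
      (∃ h ∈ Cfsg.Lie.chevG2.group F, h * y₁ * h⁻¹ = y₂) → ((y₁ : GL Cfsg.Lie.chevG2.Idx F) : Matrix Cfsg.Lie.chevG2.Idx Cfsg.Lie.chevG2.Idx F) = ((y₂ : GL Cfsg.Lie.chevG2.Idx F) : Matrix Cfsg.Lie.chevG2.Idx Cfsg.Lie.chevG2.Idx F)) := by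
  open CfsgLib.Chev in
  have hF' := DataG2.facts
  open CfsgLib.Chev in
  have key : ∀ y : GL Cfsg.Lie.chevG2.Idx F,
      ((y : GL Cfsg.Lie.chevG2.Idx F) : Matrix Cfsg.Lie.chevG2.Idx Cfsg.Lie.chevG2.Idx F) ∈
        [Cfsg.Lie.chevG2.x F 11 1, Cfsg.Lie.chevG2.x F 9 1] ↔
      y = xU Cfsg.Lie.chevG2 11 1 ∨ y = xU Cfsg.Lie.chevG2 9 1 := fun y => by
    simp only [List.mem_cons, List.not_mem_nil, or_false, hF'.eq_xU_iff (G2Invol.lt12 (r := 11)),
      hF'.eq_xU_iff (G2Invol.lt12 (r := 9))]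
  open CfsgLib.Chev in
  refine ⟨fun y hy => ?_, fun g hg hg2 => ?_, fun y₁ _ y₂ _ h₁ h₂ hc => ?_⟩
  · rcases (key y).1 hy with rfl | rfl <;>
      exact ⟨DataG2.facts.xU_mem_group G2Invol.lt12 1, G2Invol.orderOf_X (by norm_num)⟩
  · obtain ⟨h, hh, e⟩ := G2Invol.good_of_orderOf hg hg2
    rcases e with e | e
    · exact ⟨_, DataG2.facts.xU_mem_group G2Invol.lt12 1, (key _).2 (Or.inl rfl), h, hh, e⟩
    · exact ⟨_, DataG2.facts.xU_mem_group G2Invol.lt12 1, (key _).2 (Or.inr rfl), h, hh, e⟩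
  · obtain ⟨h, hh, e⟩ := hc
    rcases (key y₁).1 h₁ with rfl | rfl <;> rcases (key y₂).1 h₂ with rfl | rfl
    · rfl
    · exact absurd e (G2Invol.not_conj hh)
    · refine absurd ?_ (G2Invol.not_conj (inv_mem hh))
      rw [← e]; group
    · rfl

end Cfsg.Agent.S2177
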