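import Cfsg.Statements.S2178
import Cfsg.Agent.Lib.Chev.All
import Cfsg.Agent.Lib.Known.ChevRootCentralizer

set_option autoImplicit false
open Cfsg

namespace Cfsg.Agent.S2178

/-- Centralizers of the long and the short root involutions in the Chevalley group G of type F₄ over a finite field F of characteristic two (this problem's root numbering for type F₄, from the Chevalley data module: fundamental roots p₁, p₂ short, p₃, p₄ long, with indices 33, 27, 25, 24, their negatives 14, 20, 22, 23; highest root 47, highest short root 44; U the subgroup generated by the positive root subgroups). For an element t of G with matrix x_47(1): the centralizer of t in G is the subgroup generated by U and the root subgroups X_{−p₁}, X_{−p₂}, X_{−p₃} (the unipotent radical of the maximal parabolic subgroup whose Levi factor has fundamental roots p₁, p₂, p₃, together with that Levi factor's root subgroups; the Levi factor is of type C₃). For an element u of G with matrix x_44(1): the centralizer of u in G is generated by U and X_{−p₂}, X_{−p₃}, X_{−p₄}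 (the same construction for the Levi factor with fundamental roots p₂, p₃, p₄, of type B₃). -/
theorem result {F : Type*} [Field F] [Fintype F] [CharP F 2] (t u : GL Cfsg.Lie.chevF4.Idx F) (ht : (t : Matrix Cfsg.Lie.chevF4.Idx Cfsg.Lie.chevF4.Idx F) = Cfsg.Lie.chevF4.x F 47 1) (hu : (u : Matrix Cfsg.Lie.chevF4.Idx Cfsg.Lie.chevF4.Idx F) = Cfsg.Lie.chevF4.x F 44 1) :
    Cfsg.Lie.chevF4.group F ⊓ Subgroup.centralizer {t} = Cfsg.Lie.chevF4.posUnipotent F ⊔ Cfsg.Lie.chevF4.rootSubgroup F 14 ⊔ Cfsg.Lie.chevF4.rootSubgroup F 20 ⊔ Cfsg.Lie.chevF4.rootSubgroup F 22 ∧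
    Cfsg.Lie.chevF4.group F ⊓ Subgroup.centralizer {u} = Cfsg.Lie.chevF4.posUnipotent F ⊔ Cfsg.Lie.chevF4.rootSubgroup F 20 ⊔ Cfsg.Lie.chevF4.rootSubgroup F 22 ⊔ Cfsg.Lie.chevF4.rootSubgroup F 23 := by
  open Cfsg.Lie CfsgLib.Chev CfsgLib.Chev.RootCentralizer in
  (have h2 : ((2 : ℕ) : F) = 0 := CharP.cast_eq_zero F 2
   have hl : ∀ a b c : ℕ, a < 48 → b < 48 → c < 48 →
       chevF4.posUnipotent F ⊔ rootClosure chevF4 F (· ∈ [a, b, c]) =
         chevF4.posUnipotent F ⊔ chevF4.rootSubgroup F a ⊔ chevF4.rootSubgroup F b ⊔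
           chevF4.rootSubgroup F c := by
     intro a b c ha hb hc
     have e : chevF4.nroots = 48 := by decide +kernel
     rw [DataF4.facts.rootSubgroup_eq (e ▸ ha), DataF4.facts.rootSubgroup_eq (e ▸ hb),
       DataF4.facts.rootSubgroup_eq (e ▸ hc), sup_assoc (chevF4.posUnipotent F), sup_assoc (chevF4.posUnipotent F),
       ← rootClosure_or, ← rootClosure_or]
     exact congrArg _ (rootClosure_congr fun r _ => by simp [or_assoc])
   refine ⟨?_, ?_⟩
   · rw [centralizer_eq_list DataF4.chk_arrays DataF4.chk_chain DataF4.facts good_F4.comm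
       (R := 47) (i0 := 3) (ch := 2) (by decide +kernel) h2 (l := [14, 20, 22]) (by decide +kernel) ht,
       hl 14 20 22 (by norm_num) (by norm_num) (by norm_num)]
   · rw [centralizer_eq_list DataF4.chk_arrays DataF4.chk_chain DataF4.facts good_F4.comm
       (R := 44) (i0 := 0) (ch := 2) (by decide +kernel) h2 (l := [20, 22, 23]) (by decide +kernel) hu,
       hl 20 22 23 (by norm_num) (by norm_num) (by norm_num)])

end Cfsg.Agent.S2178
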