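import Cfsg.Statements.S2179
import Cfsg.Agent.Lib.Known.EvenInvol.F4Centralizer
import Cfsg.Agent.Lib.Known.ChevRootCentralizer

set_option autoImplicit false
open Cfsg

namespace Cfsg.Agent.S2179

/-- Centralizers of the two remaining classes of involutions in the Chevalley group G of type F₄ over a finite field F of characteristic two (this problem's root numbering for type F₄, from the Chevalley data module: p₁, p₂ short, p₃, p₄ long with indices 33, 27, 25, 24 and negatives 14, 20, 22, 23; U generated by the positive root subgroups). For an element of G with matrix x_47(1)x_44(1) (highest root times highest short root): its centralizer in G is generated by U, X_{−p₂} and X_{−p₃}. For an element of G with matrix x_39(1)x_45(1) (roots (1,2,2,1) and (2,4,2,1), an orthogonal short/long pair): its centralizer in G is generated by X_{p₁}, X_{−p₁}, X_{p₄}, X_{−p₄} and the root subgroups of all positive roots other than p₂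 (27), p₃ (25), p₁ + p₂ (34) and p₃ + p₄ (26). -/
theorem result {F : Type*} [Field F] [Fintype F] [CharP F 2] (w v : GL Cfsg.Lie.chevF4.Idx F) (hw : (w : Matrix Cfsg.Lie.chevF4.Idx Cfsg.Lie.chevF4.Idx F) = Cfsg.Lie.chevF4.x F 47 1 * Cfsg.Lie.chevF4.x F 44 1) (hv : (v : Matrix Cfsg.Lie.chevF4.Idx Cfsg.Lie.chevF4.Idx F) = Cfsg.Lie.chevF4.x F 39 1 * Cfsg.Lie.chevF4.x F 45 1) :
    Cfsg.Lie.chevF4.group F ⊓ Subgroup.centralizer {w} = Cfsg.Lie.chevF4.posUnipotent F ⊔ Cfsg.Lie.chevF4.rootSubgroup F 20 ⊔ Cfsg.Lie.chevF4.rootSubgroup F 22 ∧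
    Cfsg.Lie.chevF4.group F ⊓ Subgroup.centralizer {v} = Cfsg.Lie.chevF4.rootSubgroup F 33 ⊔ Cfsg.Lie.chevF4.rootSubgroup F 14 ⊔ Cfsg.Lie.chevF4.rootSubgroup F 24 ⊔ Cfsg.Lie.chevF4.rootSubgroup F 23 ⊔
      Subgroup.closure {g : GL Cfsg.Lie.chevF4.Idx F | ∃ (r : ℕ) (c : F), Cfsg.Lie.chevF4.IsPosRoot r ∧ r ∉ [27, 25, 34, 26] ∧ (g : Matrix Cfsg.Lie.chevF4.Idx Cfsg.Lie.chevF4.Idx F) = Cfsg.Lie.chevF4.x F r c} := by
  have hF := CfsgLib.Chev.DataF4.facts
  have hlt : ∀ {r : ℕ}, r < 48 → r < Cfsg.Lie.chevF4.nroots := fun h => by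
    rw [CfsgLib.Chev.EvenInvol.F4Cent.n48]; exact h
  have ew : w = CfsgLib.Chev.xU Cfsg.Lie.chevF4 47 1 * CfsgLib.Chev.xU Cfsg.Lie.chevF4 44 1 :=
    Units.ext (by rw [hw, Units.val_mul, hF.xU_val (hlt (r := 47) (by norm_num)),
      hF.xU_val (hlt (r := 44) (by norm_num))])
  have ev : v = CfsgLib.Chev.xU Cfsg.Lie.chevF4 39 1 * CfsgLib.Chev.xU Cfsg.Lie.chevF4 45 1 :=
    Units.ext (by rw [hv, Units.val_mul, hF.xU_val (hlt (r := 39) (by norm_num)),
      hF.xU_val (hlt (r := 45) (by norm_num))])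
  subst ew ev
  rw [CfsgLib.Chev.EvenInvol.F4Cent.cent1, CfsgLib.Chev.EvenInvol.F4Cent.cent2,
    hF.posUnipotent_eq, hF.rootSubgroup_eq (hlt (r := 20) (by norm_num)),
    hF.rootSubgroup_eq (hlt (r := 22) (by norm_num)), hF.rootSubgroup_eq (hlt (r := 33) (by norm_num)),
    hF.rootSubgroup_eq (hlt (r := 14) (by norm_num)), hF.rootSubgroup_eq (hlt (r := 24) (by norm_num)),
    hF.rootSubgroup_eq (hlt (r := 23) (by norm_num))]
  simp only [← CfsgLib.Chev.rootClosure_or]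
  constructor
  · refine le_antisymm (CfsgLib.Chev.rootClosure_mono fun r _ h => ?_)
      (CfsgLib.Chev.rootClosure_mono fun r _ h => ?_) <;>
      simp [CfsgLib.Chev.EvenInvol.F4Cent.R1, CfsgLib.Chev.EvenInvol.F4Cent.h24] at h ⊢ <;> omega
  · have e : Subgroup.closure {g : GL Cfsg.Lie.chevF4.Idx F | ∃ (r : ℕ) (c : F),
        Cfsg.Lie.chevF4.IsPosRoot r ∧ r ∉ [27, 25, 34, 26] ∧
        (g : Matrix Cfsg.Lie.chevF4.Idx Cfsg.Lie.chevF4.Idx F) = Cfsg.Lie.chevF4.x F r c} =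
        CfsgLib.Chev.rootClosure Cfsg.Lie.chevF4 F (fun r => 24 ≤ r ∧ r ∉ [27, 25, 34, 26]) := by
      refine congrArg Subgroup.closure (Set.ext fun g => ?_)
      constructor
      · rintro ⟨r, t, hp, hn, h⟩
        have := (hF.isPos_iff r hp.1).1 hp
        rw [CfsgLib.Chev.EvenInvol.F4Cent.h24] at this
        exact ⟨r, t, hp.1, ⟨this, hn⟩, (hF.eq_xU_iff hp.1).1 h⟩
      · rintro ⟨r, t, hr, ⟨hp, hn⟩, h⟩
        refine ⟨r, t, (hF.isPos_iff r hr).2 ?_, hn, (hF.eq_xU_iff hr).2 h⟩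
        rw [CfsgLib.Chev.EvenInvol.F4Cent.h24]
        exact hp
    rw [e, ← CfsgLib.Chev.rootClosure_or]
    refine le_antisymm (CfsgLib.Chev.rootClosure_mono fun r _ h => ?_)
      (CfsgLib.Chev.rootClosure_mono fun r _ h => ?_) <;>
      simp [CfsgLib.Chev.EvenInvol.F4Cent.R2] at h ⊢ <;> omega

end Cfsg.Agent.S2179
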