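import Cfsg.Statements.S2180
import Cfsg.Agent.Lib.Known.ChevG2Centralizer

set_option autoImplicit false
open Cfsg

namespace Cfsg.Agent.S2180

/-- Centralizers of involutions in the Chevalley group G of type G₂ over a finite field F of characteristic two with at least four elements (this problem's root numbering for type G₂, from the Chevalley data module: a = p₁ short with index 7, b = p₂ long with index 6, −a = 4, −b = 5, 2a + b = 9, 3a + b = 10, 3a + 2b = 11; U generated by the positive root subgroups). For an element z of G with matrix x_{3a+2b}(1): the centralizer of z in G is generated by U and X_{−a}. For an element t of G with matrix x_{2a+b}(1): the centralizer of t in G is generated by X_{2a+b}, X_{3a+b}, X_{3a+2b}, X_b and X_{−b}. -/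
theorem result {F : Type*} [Field F] [Fintype F] [CharP F 2] (hF : 4 ≤ Fintype.card F) (z t : GL Cfsg.Lie.chevG2.Idx F) (hz : (z : Matrix Cfsg.Lie.chevG2.Idx Cfsg.Lie.chevG2.Idx F) = Cfsg.Lie.chevG2.x F 11 1) (ht : (t : Matrix Cfsg.Lie.chevG2.Idx Cfsg.Lie.chevG2.Idx F) = Cfsg.Lie.chevG2.x F 9 1) :
    Cfsg.Lie.chevG2.group F ⊓ Subgroup.centralizer {z} = Cfsg.Lie.chevG2.posUnipotent F ⊔ Cfsg.Lie.chevG2.rootSubgroup F 4 ∧
    Cfsg.Lie.chevG2.group F ⊓ Subgroup.centralizer {t} = Cfsg.Lie.chevG2.rootSubgroup F 9 ⊔ Cfsg.Lie.chevG2.rootSubgroup F 10 ⊔ Cfsg.Lie.chevG2.rootSubgroup F 11 ⊔ Cfsg.Lie.chevG2.rootSubgroup F 6 ⊔ Cfsg.Lie.chevG2.rootSubgroup F 5 := by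
  open Cfsg.Lie CfsgLib.Chev in
  (have h2 : ((2 : ℕ) : F) = 0 := CharP.cast_eq_zero F 2
   have h2' : (2 : F) = 0 := by exact_mod_cast h2
   have _ := hF
   have hn := G2Centralizer.nroots_G2
   refine ⟨?_, ?_⟩
   · rw [RootCentralizer.centralizer_eq_list DataG2.chk_arrays DataG2.chk_chain DataG2.facts DataG2.commF
       (R := 11) (i0 := 1) (ch := 2) (by decide +kernel) h2 (l := [4]) (by decide +kernel) hz,
       DataG2.facts.rootSubgroup_eq (by omega)]
     exact congrArg _ (rootClosure_congr fun r _ => by simp)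
   · rw [(DataG2.facts.eq_xU_iff (by omega)).1 ht, G2Centralizer.centralizer_nine h2',
       DataG2.facts.rootSubgroup_eq (by omega), DataG2.facts.rootSubgroup_eq (by omega),
       DataG2.facts.rootSubgroup_eq (by omega), DataG2.facts.rootSubgroup_eq (by omega),
       DataG2.facts.rootSubgroup_eq (by omega), ← rootClosure_or, ← rootClosure_or, ← rootClosure_or,
       ← rootClosure_or]
     exact rootClosure_congr fun r _ => by simp [G2Centralizer.Roots, or_assoc])

end Cfsg.Agent.S2180
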