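import Cfsg.Statements.S2183
import Cfsg.Agent.Lib.Known.D4TwistEvenInvolutions

set_option autoImplicit false
open Cfsg

namespace Cfsg.Agent.S2183

/-- The twisted group ³D₄(q), q even, realised inside the Chevalley group of type D₄ over the field K with q³ elements, has exactly two conjugacy classes of elements of order 2. -/
theorem result {K : Type*} [Field K] [Fintype K] [CharP K 2] (q : ℕ) (hK : Fintype.card K = q ^ 3) :
    (ConjClasses.mk '' {g : ↥(Cfsg.Lie.twistedD4 K q) | orderOf g = 2}).ncard = 2 := by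
  classical
  obtain ⟨n, -, hc⟩ := FiniteField.card K 2
  rw [hK] at hc
  have hq : IsPrimePow q := by
    obtain ⟨k, -, hk⟩ := (Nat.dvd_prime_pow Nat.prime_two).1
      (hc ▸ dvd_pow_self q (by norm_num) : q ∣ 2 ^ (n : ℕ))
    refine (isPrimePow_nat_iff q).2 ⟨2, k, Nat.prime_two, Nat.pos_of_ne_zero ?_, hk.symm⟩
    rintro rfl
    rw [hk, pow_zero, one_pow] at hc
    exact (Nat.one_lt_two_pow n.pos.ne').ne hc
  obtain ⟨C⟩ := CfsgLib.Chev.TwD4.nonempty_ctx (K := K) hq hK
  exact CfsgLib.Chev.D4Invol.ncard_classes C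

end Cfsg.Agent.S2183
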