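import Cfsg.Statements.S2214
import Cfsg.Agent.Lib.Known.ChevFixedPoints

set_option autoImplicit false
open Cfsg

namespace Cfsg.Agent.S2214

/-- Let k be an algebraically closed field of prime characteristic p, G the adjoint Chevalley group of type G₂, B₂, D₄, F₄, E₆, E₇ or E₈ over k (the matrix group generated by the root elements x_s(t), t ∈ k, acting on the Lie algebra), q = p^a with a ≥ 1, and K a subgroup of G containing every root element x_s(t) with t^q = t and consisting of matrices all of whose entries c satisfy c^q = c. Then the centralizer of K in G is trivial, and the normalizer of K in G is exactly the set of elements of G all of whose entries c satisfy c^q = c. -/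
theorem result {k : Type*} [Field k] [IsAlgClosed k] (p : ℕ) [Fact p.Prime] [CharP k p] (D : Cfsg.Lie.ChevalleyDatum) (hD : D ∈ [Cfsg.Lie.chevG2, Cfsg.Lie.chevB2, Cfsg.Lie.chevD4, Cfsg.Lie.chevF4, Cfsg.Lie.chevE6, Cfsg.Lie.chevE7, Cfsg.Lie.chevE8]) (a : ℕ) (ha : 1 ≤ a) (K : Subgroup (GL D.Idx k)) (hKG : K ≤ D.group k)
    (hLK : Subgroup.closure {g : GL D.Idx k | ∃ (s : ℕ) (t : k), t ^ (p ^ a) = t ∧ (g : Matrix D.Idx D.Idx k) = D.x k s t} ≤ K)
    (hKfix : ∀ g ∈ K, ∀ i j : D.Idx, ((g : Matrix D.Idx D.Idx k) i j) ^ (p ^ a) = (g : Matrix D.Idx D.Idx k) i j) :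
    D.group k ⊓ Subgroup.centralizer (K : Set (GL D.Idx k)) = ⊥ ∧
    ∀ g : GL D.Idx k, g ∈ D.group k → (g ∈ Subgroup.normalizer (K : Set (GL D.Idx k)) ↔ ∀ i j : D.Idx, ((g : Matrix D.Idx D.Idx k) i j) ^ (p ^ a) = (g : Matrix D.Idx D.Idx k) i j) := by
  open CfsgLib.Chev CfsgLib.Chev.FixedPoints in
  (obtain ⟨⟨co, hF⟩, hC⟩ := good_of_mem hD
   set φ : k →+* k := iterateFrobenius k p a
   have hφ : ∀ t : k, φ t = t ^ p ^ a := fun t => iterateFrobenius_def ..
   have hfx : ∀ g : GL D.Idx k, gMap D φ g = g ↔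
       ∀ i j : D.Idx, ((g : Matrix D.Idx D.Idx k) i j) ^ (p ^ a) = (g : Matrix D.Idx D.Idx k) i j := by
     intro g
     constructor
     · intro h i j
       have := congrArg (fun x : GL D.Idx k => (x : Matrix D.Idx D.Idx k) i j) h
       rw [← hφ]; exact this
     · intro h
       refine Units.ext (Matrix.ext fun i j => ?_)
       show φ _ = _
       rw [hφ]; exact h i j
   have hE : fixedGen D φ ≤ K := (Subgroup.closure_le _).2 (by
     rintro x ⟨r, t, hr, ht, rfl⟩
     exact hLK (Subgroup.subset_closure ⟨r, t, (hφ t).symm.trans ht, hF.xU_val hr t⟩))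
   have hcen : ∀ g ∈ D.group k, (∀ x ∈ K, Commute g x) → g = 1 := fun g hg hc =>
     eq_one_of_commute hF hC hg fun r hr => hc _ (hE (xU_mem_fixedGen φ hr (map_one φ)))
   refine ⟨?_, fun g hg => ⟨fun hn => (hfx g).1 ?_, fun hgf => ?_⟩⟩
   · rw [eq_bot_iff]
     rintro g ⟨hg, hc⟩
     exact Subgroup.mem_bot.2 (hcen g hg fun x hx => (Subgroup.mem_centralizer_iff.1 hc x hx).symm)
   · have h1 : g⁻¹ * gMap D φ g = 1 := hcen _
       (Subgroup.mul_mem _ (Subgroup.inv_mem _ hg) (gMap_mem_group hF φ hg)) fun x hx => by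
       have hy := (Subgroup.mem_normalizer_iff.1 hn x).1 hx
       have e := (hfx _).2 (hKfix _ hy)
       rw [map_mul, map_mul, map_inv, (hfx x).2 (hKfix x hx)] at e
       show _ = _
       have e' : gMap D φ g * x = g * x * g⁻¹ * gMap D φ g := by
         rw [← e]; group
       rw [mul_assoc g⁻¹, e']
       group
     rwa [inv_mul_eq_one, eq_comm] at h1
   · obtain ⟨e, he, h, hh, hhf, rfl⟩ := fixed_decomp hF hC φ hg ((hfx g).2 hgf)
     have key : ∀ h ∈ D.diagonalSubgroup k, gMap D φ h = h → ∀ x ∈ K, h * x * h⁻¹ ∈ K := by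
       intro h hh hhf x hx
       obtain ⟨e', he', h', hh', -, rfl⟩ := fixed_decomp hF hC φ (hKG hx) ((hfx x).2 (hKfix x hx))
       have hcomm : h * h' = h' * h := by
         obtain ⟨c, rfl⟩ := hF.mem_diagonal_iff.1 hh
         obtain ⟨c', rfl⟩ := hF.mem_diagonal_iff.1 hh'
         exact (dU_commute _ _).eq
       rw [show h * (e' * h') * h⁻¹ = h * e' * h⁻¹ * (h * h' * h⁻¹) by group, hcomm, mul_inv_cancel_right]
       have hh'K : h' ∈ K := by simpa using K.mul_mem (K.inv_mem (hE he')) hx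
       exact K.mul_mem (hE (fixed_diag_normalizes hF φ hh hhf he')) hh'K
     refine Subgroup.mul_mem _ (Subgroup.le_normalizer (hE he)) ?_
     refine normalizer_of_conj (key h hh hhf) fun x hx => ?_
     have := key h⁻¹ (Subgroup.inv_mem _ hh) (by rw [map_inv, hhf]) x hx
     rwa [inv_inv] at this)

end Cfsg.Agent.S2214
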