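import Cfsg.Statements.S2222
import Cfsg.Agent.Lib.Known.SylowTwoPerm
import Cfsg.Agent.Lib.Known.Pronormal

set_option autoImplicit false
open Cfsg

namespace Cfsg.Agent.S2222

/-- Every subgroup of odd index contains a Sylow 2-subgroup of the whole group. -/
theorem exists_sylow_le {G : Type*} [Group G] [Finite G] (H : Subgroup G) (hH : Odd H.index) :
    ∃ S : Sylow 2 G, (S : Subgroup G) ≤ H := by
  obtain ⟨S₀⟩ := (inferInstance : Nonempty (Sylow 2 H))
  refine ⟨Sylow.ofCard ((S₀ : Subgroup H).map H.subtype) ?_, fun x hx => ?_⟩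
  · rw [Subgroup.card_map_of_injective H.subtype_injective, S₀.card_eq_multiplicity,
      ← H.card_mul_index, Nat.factorization_mul (Nat.card_pos).ne' H.index_ne_zero_of_finite,
      Finsupp.add_apply, Nat.factorization_eq_zero_of_not_dvd (n := H.index)
        (Nat.two_dvd_ne_zero.mpr (Nat.odd_iff.mp hH)), add_zero]
  · obtain ⟨y, -, rfl⟩ := hx
    exact y.2

theorem no_order_six : ∀ g : Equiv.Perm (Fin 5), Equiv.Perm.sign g = 1 → g ^ 6 = 1 →
    g ^ 2 = 1 ∨ g ^ 3 = 1 := by decide +kernel

theorem no_order_four' : ∀ g : Equiv.Perm (Fin 5), Equiv.Perm.sign g = 1 → g ^ 4 = 1 →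
    g ^ 2 = 1 := by decide +kernel

theorem no_order_four (g : Equiv.Perm (Fin 5)) (hs : Equiv.Perm.sign g = 1) : orderOf g ≠ 4 := by
  intro h
  have h2 := no_order_four' g hs (h ▸ pow_orderOf_eq_one g)
  have := orderOf_dvd_of_pow_eq_one h2
  rw [h] at this
  norm_num at this

theorem five (H : Subgroup (alternatingGroup (Fin 5))) (hH : Odd H.index) :
    Cfsg.IsPronormal H := by
  haveI : Fact (Nat.Prime 2) := ⟨Nat.prime_two⟩
  haveI : IsSimpleGroup (alternatingGroup (Fin 5)) := alternatingGroup.isSimpleGroup_five
  obtain ⟨S, hS⟩ := exists_sylow_le H hH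
  refine CfsgLib.Known.isPronormal_of_normalizer_sylow_le S H hS ?_
  have hA : Nat.card (alternatingGroup (Fin 5)) = 60 := by
    rw [nat_card_alternatingGroup, Nat.card_eq_fintype_card, Fintype.card_fin]; rfl
  have hS4 : Nat.card (S : Subgroup (alternatingGroup (Fin 5))) = 4 := by
    rw [S.card_eq_multiplicity, hA, Nat.factorization_def _ Nat.prime_two,
      show (60 : ℕ) = 2 ^ 2 * 15 by norm_num, padicValNat.mul (by norm_num) (by norm_num),
      padicValNat.prime_pow, padicValNat.eq_zero_of_not_dvd (by norm_num)]
    norm_num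
  have h60 : Nat.card H * H.index = 60 := by rw [H.card_mul_index, hA]
  have hidx : H.index ∣ 15 := by
    have h1 : H.index ∣ 60 := Dvd.intro_left _ h60
    have h2 : Nat.Coprime H.index 4 := by
      have := (Nat.coprime_two_right.mpr hH)
      rw [show (4 : ℕ) = 2 * 2 from rfl]
      exact Nat.Coprime.mul_right this this
    exact h2.dvd_of_dvd_mul_right (show H.index ∣ 15 * 4 by simpa using h1)
  rcases Classical.em (H = ⊤) with rfl | hne
  · intro x _; rw [Subgroup.mem_set_normalizer_iff]; simp
  have hle : H.index ∈ ({1, 3, 5, 15} : Finset ℕ) := by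
    have : H.index ∈ Nat.divisors 15 := Nat.mem_divisors.mpr ⟨hidx, by norm_num⟩
    simpa [show Nat.divisors 15 = {1, 3, 5, 15} by decide] using this
  have hne1 : H.index ≠ 1 := fun h => hne (Subgroup.index_eq_one.mp h)
  have hne3 : H.index ≠ 3 := by
    intro h3
    have hcore : H.normalCore = ⊥ :=
      (Subgroup.Normal.eq_bot_or_eq_top H.normalCore_normal).resolve_right
        (fun h => hne (top_le_iff.mp (h ▸ H.normalCore_le)))
    have hinj : Function.Injective (MulAction.toPermHom (alternatingGroup (Fin 5)) ((alternatingGroup (Fin 5)) ⧸ H)) :=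
      (MonoidHom.ker_eq_bot_iff _).mp (by rw [← Subgroup.normalCore_eq_ker, hcore])
    have := Nat.card_le_card_of_injective _ hinj
    rw [hA, Nat.card_perm, show Nat.card ((alternatingGroup (Fin 5)) ⧸ H) = 3 from h3] at this
    norm_num [Nat.factorial] at this
  simp only [Finset.mem_insert, Finset.mem_singleton] at hle
  rcases hle with h | h | h | h
  · exact absurd h hne1
  · exact absurd h hne3
  · -- order 12: the Sylow 2-subgroup is normal in `H`, and `H` is its normalizer
    have hH12 : Nat.card H = 12 := by
      have e := h60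
      rw [h] at e; omega
    set T : Sylow 2 H := S.subtype hS with hT
    have hT4 : Nat.card (T : Subgroup H) = 4 := by
      rw [hT, Sylow.coe_subtype, Nat.card_congr (Subgroup.subgroupOfEquivOfLe hS).toEquiv]
      exact hS4
    have hTn : (T : Subgroup H).Normal := by
      rw [← Subgroup.normalizer_eq_top_iff]
      by_contra hN
      have hcomm : IsMulCommutative (T : Subgroup H) :=
        IsPGroup.isMulCommutative_of_card_eq_prime_sq (p := 2) (by rw [hT4]; norm_num)
      have hTN : Subgroup.normalizer ((T : Subgroup H) : Set H) = (T : Subgroup H) := by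
        have h1 := Subgroup.card_mul_index (T : Subgroup H)
        rw [hT4, hH12] at h1
        have h2 := Subgroup.relIndex_mul_index (Subgroup.le_normalizer (H := (T : Subgroup H)))
        rw [show (T : Subgroup H).index = 3 by omega] at h2
        rcases (Nat.dvd_prime Nat.prime_three).mp (Dvd.intro _ h2) with h3 | h3
        · exact le_antisymm (Subgroup.relIndex_eq_one.mp h3) Subgroup.le_normalizer
        · rw [h3] at h2
          exact absurd (Subgroup.index_eq_one.mp (by omega)) hN
      have hP : Subgroup.normalizer ((T : Subgroup H) : Set H)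
          ≤ Subgroup.centralizer ((T : Subgroup H) : Set H) := by
        rw [hTN]; exact (T : Subgroup H).le_centralizer
      have hc := MonoidHom.ker_transferSylow_isComplement' T hP
      set K := (MonoidHom.transferSylow T hP).ker
      have hK3 : Nat.card K = 3 := by
        have := hc.card_mul_card; rw [hT4, hH12] at this; omega
      obtain ⟨a, ha⟩ := exists_prime_orderOf_dvd_card' (G := K) 3 (by rw [hK3])
      haveI : (K : Subgroup H).Normal := MonoidHom.normal_ker _
      haveI : IsCyclic K := isCyclic_of_prime_card hK3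
      -- the action of `T` on `K` has a kernel
      have hexi : ∃ t ∈ (T : Subgroup H), t ≠ 1 ∧ Commute t (a : H) := by
        by_contra hall
        push Not at hall
        let f : ↥(T : Subgroup H) → K := fun t =>
          ⟨(t : H) * a * (t : H)⁻¹, Subgroup.Normal.conj_mem inferInstance _ a.2 _⟩
        have hf : Function.Injective f := by
          intro t t' e
          have e' : (t : H) * a * (t : H)⁻¹ = t' * a * (t' : H)⁻¹ := congrArg Subtype.val e
          by_contra hne
          refine hall ((t' : H)⁻¹ * t) (Subgroup.mul_mem _ (Subgroup.inv_mem _ t'.2) t.2)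
            (fun h1 => hne (Subtype.ext (inv_mul_eq_one.mp h1).symm)) ?_
          show ((t' : H)⁻¹ * t) * a = a * ((t' : H)⁻¹ * t)
          calc (t' : H)⁻¹ * t * a = (t' : H)⁻¹ * ((t : H) * a * (t : H)⁻¹) * t := by group
            _ = (t' : H)⁻¹ * ((t' : H) * a * (t' : H)⁻¹) * t := by rw [e']
            _ = a * ((t' : H)⁻¹ * t) := by group
        have := Nat.card_le_card_of_injective f hf
        rw [hT4, hK3] at this
        omega
      obtain ⟨t, ht, ht1, htc⟩ := hexi
      have ha3 : (a : H) ^ 3 = 1 := by
        rw [← ha, ← Subgroup.orderOf_coe]; exact pow_orderOf_eq_one _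
      have ht4 : t ^ 4 = 1 := by
        have := pow_card_eq_one' (G := (T : Subgroup H)) (x := ⟨t, ht⟩)
        rw [hT4] at this; exact congrArg Subtype.val this
      have htH : t ^ 2 = 1 := by
        by_contra h2
        have ho : orderOf t = 2 ^ 2 := orderOf_eq_prime_pow (n := 1) (by simpa using h2) (by simpa using ht4)
        have ho' : orderOf (((t : (alternatingGroup (Fin 5)))) : Equiv.Perm (Fin 5)) = 4 := by
          rw [Subgroup.orderOf_coe, Subgroup.orderOf_coe, ho]; norm_num
        exact no_order_four _ (Equiv.Perm.mem_alternatingGroup.mp (t : (alternatingGroup (Fin 5))).2) ho'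
      have e6 : (t * (a : H)) ^ 6 = 1 := by
        rw [htc.mul_pow, show (6 : ℕ) = 2 * 3 from rfl, pow_mul, htH, one_pow, one_mul,
          mul_comm 2 3, pow_mul, ha3, one_pow]
      rcases no_order_six (((t * (a : H) : H) : (alternatingGroup (Fin 5))) : Equiv.Perm (Fin 5))
        (Equiv.Perm.mem_alternatingGroup.mp ((t * (a : H) : H) : (alternatingGroup (Fin 5))).2)
        (congrArg (fun x : H => ((x : (alternatingGroup (Fin 5))) : Equiv.Perm (Fin 5))) e6) with e | e
      · have e2 : (t * (a : H)) ^ 2 = 1 := Subtype.ext (Subtype.ext e)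
        rw [htc.mul_pow, htH, one_mul] at e2
        have : (a : H) = 1 := by
          calc (a : H) = (a : H) ^ 3 * ((a : H) ^ 2)⁻¹ := by group
            _ = 1 := by rw [ha3, e2]; simp
        rw [OneMemClass.coe_eq_one] at this
        simp [this] at ha
      · have e3 : (t * (a : H)) ^ 3 = 1 := Subtype.ext (Subtype.ext e)
        rw [htc.mul_pow, ha3, mul_one] at e3
        exact ht1 (by rw [pow_succ, htH, one_mul] at e3; exact e3)
    have hHN : H ≤ Subgroup.normalizer ((S : Subgroup (alternatingGroup (Fin 5))) : Set (alternatingGroup (Fin 5))) := by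
      intro x hx
      rw [Subgroup.mem_normalizer_iff]
      intro y
      constructor
      · intro hy
        exact hTn.conj_mem ⟨y, hS hy⟩ hy ⟨x, hx⟩
      · intro hy
        have := hTn.conj_mem ⟨x * y * x⁻¹, hS hy⟩ hy ⟨x⁻¹, H.inv_mem hx⟩
        simpa [hT, Subgroup.mem_subgroupOf, mul_assoc] using this
    have hN := Subgroup.relIndex_mul_index hHN
    rw [h] at hN
    rcases (Nat.dvd_prime (by norm_num : Nat.Prime 5)).mp (Dvd.intro _ hN) with h1 | h1
    · exact (Subgroup.relIndex_eq_one.mp h1).trans Subgroup.le_normalizer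
    · rw [h1] at hN
      have htop := Subgroup.index_eq_one.mp (show (Subgroup.normalizer ((S : Subgroup (alternatingGroup (Fin 5))) : Set (alternatingGroup (Fin 5)))).index = 1 by omega)
      rcases (Subgroup.normalizer_eq_top_iff.mp htop).eq_bot_or_eq_top with h2 | h2
      · rw [h2] at hS4; simp at hS4
      · rw [h2, Subgroup.card_top, hA] at hS4; omega
  · have hH4 : Nat.card H = 4 := by
      have e := h60; rw [h] at e; omega
    have : (S : Subgroup (alternatingGroup (Fin 5))) = H := Subgroup.eq_of_le_of_card_ge hS (by rw [hH4, hS4])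
    rw [this]

/-- In the alternating group of degree n ≥ 5 every subgroup H of odd index is pronormal: for every element g, the subgroups H and gHg⁻¹ are conjugate by an element of the subgroup they generate. -/
theorem result (n : ℕ) (hn : 5 ≤ n)
    (H : Subgroup (alternatingGroup (Fin n))) (hH : Odd H.index) : Cfsg.IsPronormal H := by
  haveI : Fact (Nat.Prime 2) := ⟨Nat.prime_two⟩
  rcases Nat.lt_or_ge n 6 with h5 | h6
  · obtain rfl : n = 5 := by omega
    exact five H hH
  obtain ⟨S, hS⟩ := exists_sylow_le H hH
  refine CfsgLib.Known.isPronormal_of_normalizer_sylow_le S H hS ?_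
  rw [CfsgLib.Known.alt_sylowTwo_normalizer n h6 S]
  exact hS.trans Subgroup.le_normalizer

end Cfsg.Agent.S2222
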