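import Cfsg.Statements.S2227
import Cfsg.Agent.Lib.Chev.E6Five.AltEmb
import Cfsg.Agent.Lib.Chev.E6Five.Fuse
-- import your own Cfsg.Agent.* helpers here

set_option autoImplicit false
open Cfsg

namespace Cfsg.Agent.S2227

/-- In the twisted group ²E₆(2) all elements of order 5 are conjugate, and the centralizer of an element of order 5 is isomorphic to the direct product of a cyclic group of order 5 with the alternating group of degree 8. -/
theorem result {K : Type*} [Field K] [Fintype K] (hK : Fintype.card K = 4) :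
    (∀ x y : ↥(Cfsg.Lie.twistedE6 K 2), orderOf x = 5 → orderOf y = 5 → IsConj x y) ∧
      ∀ x : ↥(Cfsg.Lie.twistedE6 K 2), orderOf x = 5 →
        Nonempty (↥(Subgroup.centralizer ({x} : Set ↥(Cfsg.Lie.twistedE6 K 2))) ≃* (Multiplicative (ZMod 5) × ↥(alternatingGroup (Fin 8)))) := by
  obtain ⟨C⟩ := CfsgLib.Chev.TwE6.nonempty_ctx (K := K) (q := 2)
    Nat.prime_two.isPrimePow (by rw [hK]; rfl)
  obtain ⟨w, hw⟩ : ∃ w : K, w ^ 2 + w + 1 = 0 := by
    classical
    obtain ⟨w, hw⟩ : ((Finset.univ : Finset K) \ {0, 1}).Nonempty := Finset.card_pos.1 (by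
      have := Finset.le_card_sdiff ({0, 1} : Finset K) Finset.univ
      have := (Finset.card_insert_le (0 : K) {1})
      simp only [Finset.card_univ, hK, Finset.card_singleton] at *
      omega)
    simp only [Finset.mem_sdiff, Finset.mem_insert, Finset.mem_singleton, not_or] at hw
    refine ⟨w, ?_⟩
    have h3 : w ^ 3 = 1 := by
      have := FiniteField.pow_card_sub_one_eq_one w hw.2.1
      rwa [hK] at this
    refine (mul_eq_zero.1 (show (w - 1) * (w ^ 2 + w + 1) = 0 by
      linear_combination h3)).resolve_left (sub_ne_zero.2 hw.2.2)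
  obtain ⟨F, -⟩ := CfsgLib.J3.exists_fld hK w hw
  refine ⟨fun x y hx hy => CfsgLib.Chev.E6Five.conj_five F C hx hy, fun x hx => ?_⟩
  obtain ⟨e⟩ := CfsgLib.Chev.E6Five.cent_iso F C
  obtain ⟨g, hg⟩ := isConj_iff.1 (CfsgLib.Chev.E6Five.conj_five F C (x := x)
    (y := ⟨CfsgLib.Chev.E6Five.xF C F, CfsgLib.Chev.E6Five.xF_mem C F⟩) hx
    ((Subgroup.orderOf_mk _ _).trans (CfsgLib.Chev.E6Five.orderOf_xF C F)))
  refine ⟨MulEquiv.trans ?_ e⟩
  rw [← hg]
  refine (Subgroup.equivMapOfInjective _ (MulAut.conj g).toMonoidHom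
    (MulAut.conj g).injective).trans (MulEquiv.subgroupCongr ?_)
  ext z
  simp only [Subgroup.mem_map, MulEquiv.coe_toMonoidHom, MulAut.conj_apply,
    Subgroup.mem_centralizer_singleton_iff]
  constructor
  · rintro ⟨v, hv, rfl⟩
    calc g * v * g⁻¹ * (g * x * g⁻¹) = g * (v * x) * g⁻¹ := by group
      _ = g * (x * v) * g⁻¹ := by rw [hv]
      _ = g * x * g⁻¹ * (g * v * g⁻¹) := by group
  · intro hz
    refine ⟨g⁻¹ * z * g, ?_, by group⟩
    calc g⁻¹ * z * g * x = g⁻¹ * (z * (g * x * g⁻¹)) * g := by group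
      _ = g⁻¹ * (g * x * g⁻¹ * z) * g := by rw [hz]
      _ = x * (g⁻¹ * z * g) := by group

end Cfsg.Agent.S2227
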