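import Cfsg.Statements.S2231
import Cfsg.Agent.Lib.Techniques.QdBasics

set_option autoImplicit false
open Cfsg

namespace Cfsg.Agent.S2231

/-- Commutativity of all p-subgroups passes to quotients. -/
theorem hquot {G H : Type*} [Group G] [Group H] [Finite G] {p : ℕ} [Fact p.Prime] (f : G →* H)
    (hf : Function.Surjective f) (hG : ∀ P : Subgroup G, IsPGroup p P → ∀ a ∈ P, ∀ b ∈ P, a * b = b * a)
    (P : Subgroup H) (hP : IsPGroup p P) : ∀ a ∈ P, ∀ b ∈ P, a * b = b * a := by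
  intro a ha b hb
  haveI : Finite H := Finite.of_surjective f hf
  obtain ⟨S, hPS⟩ := hP.exists_le_sylow
  obtain ⟨T⟩ : Nonempty (Sylow p G) := inferInstance
  obtain ⟨g, hg⟩ := MulAction.exists_smul_eq H (T.mapSurjective hf) S
  have hmem : ∀ x ∈ P, ∃ t ∈ (T : Subgroup G), x = g * f t * g⁻¹ := by
    intro x hx
    have hx' := hPS hx
    rw [← hg, Sylow.coe_subgroup_smul] at hx'
    obtain ⟨y, hy, rfl⟩ := hx'
    obtain ⟨t, ht, rfl⟩ := hy
    exact ⟨t, ht, rfl⟩
  obtain ⟨x, hx, rfl⟩ := hmem a ha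
  obtain ⟨y, hy, rfl⟩ := hmem b hb
  have h := congrArg f (hG _ T.2 x hx y hy)
  rw [map_mul, map_mul] at h
  calc g * f x * g⁻¹ * (g * f y * g⁻¹) = g * (f x * f y) * g⁻¹ := by group
    _ = g * (f y * f x) * g⁻¹ := by rw [h]
    _ = g * f y * g⁻¹ * (g * f x * g⁻¹) := by group

/-- Let p be an odd prime and K a finite field of characteristic p. Then Qd(p) (the natural semidirect product of an elementary abelian group of order p² by SL₂(p)) is not involved in the projective special linear group PSL₂(K). -/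
theorem result {p : ℕ} [Fact p.Prime] (hp : p ≠ 2) {K : Type*} [Field K] [Fintype K] [CharP K p] : ¬ Cfsg.Involves ↥(Cfsg.qd p) (Matrix.ProjectiveSpecialLinearGroup (Fin 2) K) := by
  rintro ⟨C, R, hR, ⟨e⟩⟩
  haveI := hR
  classical
  -- p-subgroups of `SL₂` fix a vector, hence commute
  have hSL : ∀ P : Subgroup (Matrix.SpecialLinearGroup (Fin 2) K), IsPGroup p P →
      ∀ a ∈ P, ∀ b ∈ P, a * b = b * a := by
    intro P hP
    letI : MulAction P {v : Fin 2 → K // v ≠ 0} :=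
      { smul := fun g v => ⟨(g.1 : Matrix (Fin 2) (Fin 2) K).mulVec v.1, fun h => v.2 (by
          have h' := congrArg ((g⁻¹).1 : Matrix (Fin 2) (Fin 2) K).mulVec h
          rw [Matrix.mulVec_mulVec, Matrix.mulVec_zero] at h'
          rwa [show ((g⁻¹).1 : Matrix (Fin 2) (Fin 2) K) * (g.1 : Matrix (Fin 2) (Fin 2) K) = 1 from
            congrArg (fun x : P => ((x.1 : Matrix.SpecialLinearGroup (Fin 2) K) : Matrix (Fin 2) (Fin 2) K))
              (inv_mul_cancel g), Matrix.one_mulVec] at h')⟩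
        one_smul := fun v => Subtype.ext (Matrix.one_mulVec v.1)
        mul_smul := fun g h v => Subtype.ext (Matrix.mulVec_mulVec v.1 (g.1 : Matrix (Fin 2) (Fin 2) K)
          (h.1 : Matrix (Fin 2) (Fin 2) K)).symm }
    obtain ⟨k, hk⟩ : ∃ k : ℕ+, Fintype.card K = p ^ (k : ℕ) := by
      obtain ⟨k, -, h⟩ := FiniteField.card K p
      exact ⟨k, h⟩
    have hnd : ¬ p ∣ Nat.card {v : Fin 2 → K // v ≠ 0} := by
      rw [Nat.card_eq_fintype_card, Fintype.card_subtype_compl, Fintype.card_subtype_eq, Fintype.card_fun,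
        Fintype.card_fin, hk]
      intro hd
      have hp1 : p ∣ (p ^ (k : ℕ)) ^ 2 := dvd_pow (dvd_pow_self p k.pos.ne') two_ne_zero
      have hpos : 1 ≤ (p ^ (k : ℕ)) ^ 2 := Nat.one_le_pow _ _ (pow_pos (Fact.out : p.Prime).pos _)
      have h1 := Nat.dvd_sub hp1 hd
      rw [Nat.sub_sub_self hpos] at h1
      exact (Fact.out : p.Prime).not_dvd_one h1
    obtain ⟨⟨v, hv0⟩, hv⟩ := hP.nonempty_fixed_point_of_prime_not_dvd_card _ hnd
    obtain ⟨s, hs⟩ : ∃ s : Matrix.SpecialLinearGroup (Fin 2) K,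
        (s : Matrix (Fin 2) (Fin 2) K) 0 0 = v 0 ∧ (s : Matrix (Fin 2) (Fin 2) K) 1 0 = v 1 := by
      by_cases h : v 0 = 0
      · have h1 : v 1 ≠ 0 := fun h1 => hv0 (funext fun i => by fin_cases i <;> assumption)
        exact ⟨⟨!![v 0, -(v 1)⁻¹; v 1, 0], by simp [Matrix.det_fin_two, h1]⟩, rfl, rfl⟩
      · exact ⟨⟨!![v 0, 0; v 1, (v 0)⁻¹], by simp [Matrix.det_fin_two, h]⟩, rfl, rfl⟩
    have hform : ∀ a ∈ P, ∃ c : K,
        ((s⁻¹ * a * s : Matrix.SpecialLinearGroup (Fin 2) K) : Matrix (Fin 2) (Fin 2) K) = !![1, c; 0, 1] := by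
      intro a ha
      set t := (s⁻¹ * a * s : Matrix.SpecialLinearGroup (Fin 2) K)
      refine ⟨(t : Matrix (Fin 2) (Fin 2) K) 0 1, ?_⟩
      have hfix : (a : Matrix (Fin 2) (Fin 2) K).mulVec v = v := congrArg Subtype.val (hv ⟨a, ha⟩)
      have hcol : (s : Matrix (Fin 2) (Fin 2) K).mulVec (Pi.single 0 1) = v := by
        funext i
        fin_cases i <;> simp [Matrix.mulVec, dotProduct, hs.1, hs.2]
      have h1 : (t : Matrix (Fin 2) (Fin 2) K).mulVec (Pi.single 0 1) = Pi.single 0 1 := by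
        show (((s⁻¹ : Matrix.SpecialLinearGroup (Fin 2) K) : Matrix (Fin 2) (Fin 2) K) *
          (a : Matrix (Fin 2) (Fin 2) K) * (s : Matrix (Fin 2) (Fin 2) K)).mulVec (Pi.single 0 1) = _
        rw [← Matrix.mulVec_mulVec, hcol, ← Matrix.mulVec_mulVec, hfix]
        conv_lhs => rw [← hcol]
        rw [Matrix.mulVec_mulVec,
          show ((s⁻¹ : Matrix.SpecialLinearGroup (Fin 2) K) : Matrix (Fin 2) (Fin 2) K) *
            (s : Matrix (Fin 2) (Fin 2) K) = 1 from congrArg Subtype.val (inv_mul_cancel s), Matrix.one_mulVec]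
      have h00 : (t : Matrix (Fin 2) (Fin 2) K) 0 0 = 1 := by
        simpa [Matrix.mulVec, dotProduct] using congrFun h1 0
      have h10 : (t : Matrix (Fin 2) (Fin 2) K) 1 0 = 0 := by
        simpa [Matrix.mulVec, dotProduct] using congrFun h1 1
      have hdet := t.2
      rw [Matrix.det_fin_two, h00, h10, mul_zero, sub_zero, one_mul] at hdet
      ext i j
      fin_cases i <;> fin_cases j <;> simp [h00, h10, hdet]
    intro a ha b hb
    obtain ⟨c, hc⟩ := hform a ha
    obtain ⟨c', hc'⟩ := hform b hb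
    have h := congrArg (fun x => s * x * s⁻¹) (show (s⁻¹ * a * s) * (s⁻¹ * b * s) = (s⁻¹ * b * s) * (s⁻¹ * a * s) from
      Subtype.ext (by
        show ((s⁻¹ * a * s : Matrix.SpecialLinearGroup (Fin 2) K) : Matrix (Fin 2) (Fin 2) K) *
            ((s⁻¹ * b * s : Matrix.SpecialLinearGroup (Fin 2) K) : Matrix (Fin 2) (Fin 2) K) = _ * _
        rw [hc, hc']
        ext i j
        fin_cases i <;> fin_cases j <;> simp [add_comm]))
    simpa [mul_assoc] using h
  have hPSL := hquot (QuotientGroup.mk' (Subgroup.center (Matrix.SpecialLinearGroup (Fin 2) K)))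
    (QuotientGroup.mk'_surjective _) hSL
  have hC : ∀ P : Subgroup C, IsPGroup p P → ∀ a ∈ P, ∀ b ∈ P, a * b = b * a := fun P hP a ha b hb =>
    Subtype.ext (hPSL (P.map C.subtype) (hP.map _) _ (Subgroup.mem_map_of_mem _ ha) _ (Subgroup.mem_map_of_mem _ hb))
  have hQd := hquot (e.toMonoidHom.comp (QuotientGroup.mk' (R.subgroupOf C)))
    (e.surjective.comp (QuotientGroup.mk'_surjective _)) hC
  -- the Sylow subgroup of `Qd(p)` is not commutative
  haveI : Fact (1 < p) := ⟨(Fact.out : p.Prime).one_lt⟩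
  let T := CfsgLib.Techniques.Qd.translations (p := p)
  haveI : T.Normal := CfsgLib.Techniques.Qd.translations_normal
  have hT : IsPGroup p T := IsPGroup.of_card (CfsgLib.Techniques.Qd.card_translations (p := p))
  have hU : IsPGroup p (Subgroup.zpowers (CfsgLib.Techniques.Qd.up 1 : ↥(Cfsg.qd p))) := by
    rintro ⟨x, hx⟩
    obtain ⟨k, rfl⟩ := hx
    exact ⟨1, Subtype.ext (by
      rw [pow_one, Subgroup.coe_pow, ← zpow_natCast, zpow_comm, zpow_natCast,
        CfsgLib.Techniques.Qd.up_one_pow_self, one_zpow]; rfl)⟩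
  let t : ↥(Cfsg.qd p) := ⟨CfsgLib.Techniques.Qd.mk 1 0 0 1 0 1 (by ring), CfsgLib.Techniques.Qd.mk_mem _ _ _ _ _ _ _⟩
  have h := hQd (T ⊔ Subgroup.zpowers (CfsgLib.Techniques.Qd.up 1)) (hT.to_sup_of_normal_left hU)
    (CfsgLib.Techniques.Qd.up 1) (Subgroup.mem_sup_right (Subgroup.mem_zpowers _))
    t (Subgroup.mem_sup_left ⟨0, 1, rfl⟩)
  have h' := congrFun (congrFun (congrArg (fun M : ↥(Cfsg.qd p) => ((M.1 : Matrix.SpecialLinearGroup (Fin 3) (ZMod p)) :
    Matrix (Fin 3) (Fin 3) (ZMod p))) h) 0) 2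
  simp only [t, CfsgLib.Techniques.Qd.up, Subgroup.coe_mul, CfsgLib.Techniques.Qd.mk_mul] at h'
  simp [CfsgLib.Techniques.Qd.mk] at h'

end Cfsg.Agent.S2231
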