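import Cfsg.Statements.S2238
import Cfsg.Agent.Lib.Recognition.Suzuki.Partition
-- import your own Cfsg.Agent.* helpers here

set_option autoImplicit false
open Cfsg

namespace Cfsg.Agent.S2238

open CfsgLib.SuzukiLaws CfsgLib.Suzuki CfsgLib.Recognition in
/-- The partition of the Suzuki group: with q = 2^(2m+1), m ≥ 1, r = 2^m and the Suzuki group realised as the stabiliser in SL₄ of the Suzuki–Tits ovoid, every non-identity element lies in exactly one subgroup that is either a Sylow 2-subgroup or a cyclic subgroup of order q − 1, q + 2r + 1 or q − 2r + 1. -/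
theorem result {F : Type*} [Field F] [Fintype F] {m : ℕ} (hm : 1 ≤ m) (hF : Fintype.card F = 2 ^ (2 * m + 1)) (g : ↥(Cfsg.Sz F m)) (hg : g ≠ 1) :
    ∃! U : Subgroup ↥(Cfsg.Sz F m), ((∃ P : Sylow 2 ↥(Cfsg.Sz F m), U = (P : Subgroup ↥(Cfsg.Sz F m))) ∨
      (IsCyclic ↥U ∧ Nat.card ↥U ∈ ({2 ^ (2 * m + 1) - 1, 2 ^ (2 * m + 1) + 2 ^ (m + 1) + 1, 2 ^ (2 * m + 1) - 2 ^ (m + 1) + 1} : Set ℕ))) ∧ g ∈ U := by
  haveI : CharP F 2 := charTwo hF
  haveI : Fact (Nat.Prime 2) := ⟨Nat.prime_two⟩
  set e := equiv hF hm with he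
  obtain ⟨g, rfl⟩ := e.surjective g
  have hg1 : g ≠ 1 := fun h => hg (by rw [h, map_one])
  set q := 2 ^ (2 * m + 1) with hq
  set a := q + 2 ^ (m + 1) + 1 with ha
  set b := q - 2 ^ (m + 1) + 1 with hb
  have hlt : 2 ^ (m + 1) < q := Nat.pow_lt_pow_right (by norm_num) (by omega)
  have hrpos := Nat.two_pow_pos (m + 1)
  have hqodd : 2 ∣ q := dvd_pow_self 2 (by omega)
  have hr : 2 ∣ 2 ^ (m + 1) := dvd_pow_self 2 (by omega)
  have hab : a * b = q ^ 2 + 1 := SzPartition.orders_mul m
  -- orders of the tori are pairwise coprime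
  have hcop1 : Nat.Coprime (q ^ 2 + 1) (q - 1) := by
    have h := coprime_fix (F := F) hF
    rw [hF] at h
    exact h.coprime_mul_left_right
  -- the members of the family
  have horder : ∀ (V : Subgroup (Cfsg.Lie.Sz F (2 ^ (m + 1)))), g ∈ V →
      Nat.card V ∈ ({q - 1, a, b} : Set ℕ) → orderOf g ∣ (q - 1) * (q ^ 2 + 1) := by
    intro V hgV hV
    have h1 := Subgroup.orderOf_dvd_natCard V hgV
    rcases hV with h | h | h
    · exact (h ▸ h1).trans (dvd_mul_right _ _)
    · exact (h1.trans (by rw [h, ← hab]; exact dvd_mul_right _ _)).trans (dvd_mul_left _ _)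
    · rw [Set.mem_singleton_iff] at h
      exact (h1.trans (by rw [h, ← hab]; exact dvd_mul_left _ _)).trans (dvd_mul_left _ _)
  have hodd : Odd ((q - 1) * (q ^ 2 + 1)) := by
    have : 2 ∣ q ^ 2 := dvd_pow hqodd two_ne_zero
    rw [Nat.odd_mul]
    constructor <;> (rw [Nat.odd_iff]; omega)
  have hex : ∃! V : Subgroup (Cfsg.Lie.Sz F (2 ^ (m + 1))),
      ((∃ P : Sylow 2 (Cfsg.Lie.Sz F (2 ^ (m + 1))), V = (P : Subgroup (Cfsg.Lie.Sz F (2 ^ (m + 1))))) ∨
        (IsCyclic V ∧ Nat.card V ∈ ({q - 1, a, b} : Set ℕ))) ∧ g ∈ V := by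
    have hsylow_one : ∀ {P Q : Sylow 2 (Cfsg.Lie.Sz F (2 ^ (m + 1)))},
        g ∈ (P : Subgroup (Cfsg.Lie.Sz F (2 ^ (m + 1)))) → g ∈ (Q : Subgroup (Cfsg.Lie.Sz F (2 ^ (m + 1)))) →
          P = Q := by
      have key : ∀ {P : Sylow 2 (Cfsg.Lie.Sz F (2 ^ (m + 1)))},
          g ∈ (P : Subgroup (Cfsg.Lie.Sz F (2 ^ (m + 1)))) → ∃ k : Cfsg.Lie.Sz F (2 ^ (m + 1)),
            (P : Subgroup (Cfsg.Lie.Sz F (2 ^ (m + 1)))) = (unip hF).map (MulAut.conj k).toMonoidHom ∧
            ∀ p : Cfsg.suzukiOvoid F m, toSL hF g • p = p ↔ p = toSL hF k • inf := by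
        intro P hP
        obtain ⟨k, hk⟩ := MulAction.exists_smul_eq (Cfsg.Lie.Sz F (2 ^ (m + 1))) (sylow hF hm) P
        have hPk : (P : Subgroup (Cfsg.Lie.Sz F (2 ^ (m + 1)))) = (unip hF).map (MulAut.conj k).toMonoidHom := by
          rw [← hk]; rfl
        refine ⟨k, hPk, fun p => ?_⟩
        rw [hPk, Subgroup.mem_map_equiv, MulAut.conj_symm_apply] at hP
        obtain ⟨x, y, hxy⟩ := hP
        have hne : U hF x y ≠ 1 := fun h => hg1 (by
          calc g = k * (k⁻¹ * g * k) * k⁻¹ := by group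
            _ = 1 := by rw [hxy, h]; group)
        have huniq : ∀ r : Cfsg.suzukiOvoid F m, toSL hF (U hF x y) • r = r → r = inf := by
          intro r hr
          rcases eq_or_ne x 0 with rfl | hx
          · exact SzBorel.center_fix hF (fun h => hne (by rw [h, U_zero])) hr
          · refine SzBorel.center_fix hF (b := x * x ^ 2 ^ (m + 1)) (mul_ne_zero hx (pow_ne_zero _ hx)) ?_
            rw [← SzBorel.sq_U hF x y, map_mul, mul_smul, hr, hr]
        constructor
        · intro hp
          have := huniq ((toSL hF k)⁻¹ • p) (by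
            rw [← hxy]
            exact (conj_fix hF _).2 (by rw [smul_inv_smul]; exact hp))
          rw [← this, smul_inv_smul]
        · rintro rfl
          exact (conj_fix hF inf).1 (by rw [hxy]; exact U_smul_inf hF x y)
      intro P Q hP hQ
      obtain ⟨k, hk, hk'⟩ := key hP
      obtain ⟨l, hl, hl'⟩ := key hQ
      have heq : toSL hF l • inf = (toSL hF k • inf : Cfsg.suzukiOvoid F m) :=
        (hk' _).1 ((hl' _).2 rfl)
      refine Sylow.ext ?_
      rw [hk, hl]
      have hn : k⁻¹ * l ∈ Subgroup.normalizer (unip hF : Set (Cfsg.Lie.Sz F (2 ^ (m + 1)))) := by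
        rw [normalizer_unip, map_mul, map_inv, mul_smul, heq, inv_smul_smul]
      ext w
      simp only [Subgroup.mem_map_equiv, MulAut.conj_symm_apply]
      rw [Subgroup.mem_normalizer_iff''.1 hn (k⁻¹ * w * k),
        show (k⁻¹ * l)⁻¹ * (k⁻¹ * w * k) * (k⁻¹ * l) = l⁻¹ * w * l by group]
    by_cases ho : Odd (orderOf g)
    · have hno : ∀ P : Sylow 2 (Cfsg.Lie.Sz F (2 ^ (m + 1))),
          g ∉ (P : Subgroup (Cfsg.Lie.Sz F (2 ^ (m + 1)))) := fun P hP => by
        obtain ⟨n, hn⟩ := (IsPGroup.iff_orderOf.1 P.isPGroup') ⟨g, hP⟩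
        rw [Subgroup.orderOf_mk] at hn
        rcases n with _ | n
        · exact hg1 (orderOf_eq_one_iff.1 (by rw [hn, pow_zero]))
        · rw [hn] at ho
          exact (Nat.not_even_iff_odd.2 ho) (Nat.even_pow.2 ⟨even_two, Nat.succ_ne_zero n⟩)
      -- the centraliser is the only candidate
      have hC : ∀ V : Subgroup (Cfsg.Lie.Sz F (2 ^ (m + 1))), IsCyclic V → g ∈ V →
          V ≤ Subgroup.centralizer {g} := by
        intro V hV hgV x hx
        rw [Subgroup.mem_centralizer_singleton_iff]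
        haveI := hV
        letI := (IsCyclic.commGroup : CommGroup V)
        exact congrArg Subtype.val (mul_comm (⟨x, hx⟩ : V) ⟨g, hgV⟩)
      obtain ⟨hcy, hca, hself⟩ : IsCyclic ↥(Subgroup.centralizer ({g} : Set (Cfsg.Lie.Sz F (2 ^ (m + 1))))) ∧
          Nat.card ↥(Subgroup.centralizer ({g} : Set (Cfsg.Lie.Sz F (2 ^ (m + 1))))) ∈ ({q - 1, a, b} : Set ℕ) ∧
          ∀ V : Subgroup (Cfsg.Lie.Sz F (2 ^ (m + 1))), IsCyclic V → g ∈ V →
            Nat.card V ∈ ({q - 1, a, b} : Set ℕ) →
            Nat.card V = Nat.card ↥(Subgroup.centralizer ({g} : Set (Cfsg.Lie.Sz F (2 ^ (m + 1))))) := by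
        rcases SzBorel.fpf_or_torus hF ho hg1 with hf | ⟨k, s, hs, hk⟩
        · obtain ⟨hcard, hcyc, -⟩ := SzPartition.centralizer_card hF hm hf
          refine ⟨hcyc, ?_, fun V hV hgV hVc => ?_⟩
          · rcases hcard with h | h <;> rw [h] <;> simp [← hq, ← ha, ← hb]
          have hdiv := Subgroup.card_dvd_of_le (hC V hV hgV)
          rcases hVc with h | h | h
          · exfalso
            have h1 : orderOf g ∣ q - 1 := h ▸ Subgroup.orderOf_dvd_natCard V hgV
            have h2 : orderOf g ∣ q ^ 2 + 1 := by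
              refine (Subgroup.orderOf_dvd_natCard _ (Subgroup.mem_centralizer_singleton_iff.2 rfl)).trans ?_
              rcases hcard with h' | h' <;> rw [h'] <;> rw [← hab]
              · exact dvd_mul_right _ _
              · exact dvd_mul_left _ _
            exact hg1 (orderOf_eq_one_iff.1 (Nat.eq_one_of_dvd_coprimes hcop1 h2 h1))
          · rw [h] at hdiv ⊢
            rcases hcard with h' | h'
            · exact h'.symm
            · rw [h'] at hdiv
              have := Nat.le_of_dvd (by omega) hdiv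
              omega
          · rw [Set.mem_singleton_iff] at h
            rw [h] at hdiv ⊢
            rcases hcard with h' | h'
            · exfalso
              rw [h', show 2 ^ (2 * m + 1) + 2 ^ (m + 1) + 1 = b + 2 * 2 ^ (m + 1) by omega, Nat.dvd_add_right dvd_rfl] at hdiv
              have hco : Nat.Coprime b (2 * 2 ^ (m + 1)) := by
                rw [← pow_succ']
                refine (Nat.Coprime.pow_right _ ?_)
                rw [Nat.coprime_two_right, Nat.odd_iff]
                omega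
              have := Nat.eq_one_of_dvd_coprimes hco dvd_rfl hdiv
              omega
            · exact h'.symm
        · have hTC : Subgroup.centralizer ({g} : Set (Cfsg.Lie.Sz F (2 ^ (m + 1)))) =
              (MonoidHom.mk' (T hF) fun s t => (T_mul hF s t).symm).range.map (MulAut.conj k).toMonoidHom := by
            ext w
            rw [Subgroup.mem_map_equiv, MulAut.conj_symm_apply, Subgroup.mem_centralizer_singleton_iff]
            constructor
            · intro hw
              obtain ⟨t, ht⟩ := SzBorel.commute_T hF hs (c := k⁻¹ * w * k) (by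
                show _ * _ = _ * _
                rw [← hk, show k⁻¹ * w * k * (k⁻¹ * g * k) = k⁻¹ * (w * g) * k by group, hw]; group)
              exact ⟨t, ht.symm⟩
            · rintro ⟨t, ht⟩
              change T hF t = k⁻¹ * w * k at ht
              have h3 : k⁻¹ * w * k * (k⁻¹ * g * k) = k⁻¹ * g * k * (k⁻¹ * w * k) := by
                rw [hk, ← ht, T_mul, T_mul, mul_comm]
              calc w * g = k * (k⁻¹ * w * k * (k⁻¹ * g * k)) * k⁻¹ := by group
                _ = g * w := by rw [h3]; group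
          set Φ := (MonoidHom.mk' (T hF) fun s t => (T_mul hF s t).symm) with hΦ
          have hinj : Function.Injective Φ := T_injective hF
          have hcard : Nat.card ↥(Subgroup.centralizer ({g} : Set (Cfsg.Lie.Sz F (2 ^ (m + 1))))) = q - 1 := by
            rw [hTC, ← Nat.card_congr (Φ.range.equivMapOfInjective _ (MulAut.conj k).injective).toEquiv,
              Nat.card_congr (MonoidHom.ofInjective hinj).toEquiv.symm, Nat.card_units, Nat.card_eq_fintype_card, hF]
          refine ⟨?_, by rw [hcard]; simp, fun V hV hgV hVc => ?_⟩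
          · rw [hTC]
            haveI : IsCyclic Φ.range := isCyclic_of_surjective _ Φ.rangeRestrict_surjective
            exact isCyclic_of_surjective _ (Φ.range.equivMapOfInjective (MulAut.conj k).toMonoidHom
              (MulAut.conj k).injective).surjective
          have h2 : orderOf g ∣ q - 1 :=
            hcard ▸ Subgroup.orderOf_dvd_natCard _ (Subgroup.mem_centralizer_singleton_iff.2 rfl)
          rcases hVc with h | h | h
          · rw [h, hcard]
          · refine absurd (orderOf_eq_one_iff.1 (Nat.eq_one_of_dvd_coprimes hcop1 ?_ h2)) hg1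
            exact (Subgroup.orderOf_dvd_natCard V hgV).trans (by rw [h, ← hab]; exact dvd_mul_right _ _)
          · rw [Set.mem_singleton_iff] at h
            refine absurd (orderOf_eq_one_iff.1 (Nat.eq_one_of_dvd_coprimes hcop1 ?_ h2)) hg1
            exact (Subgroup.orderOf_dvd_natCard V hgV).trans (by rw [h, ← hab]; exact dvd_mul_left _ _)
      refine ⟨_, ⟨Or.inr ⟨hcy, hca⟩, Subgroup.mem_centralizer_singleton_iff.2 rfl⟩, ?_⟩
      rintro V ⟨⟨P, rfl⟩ | ⟨hV, hVc⟩, hgV⟩
      · exact absurd hgV (hno P)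
      · exact Subgroup.eq_of_le_of_card_ge (hC V hV hgV) (hself V hV hgV hVc).ge
    · have hev : Even (orderOf g) := Nat.not_odd_iff_even.1 ho
      -- an element of even order is unipotent
      set z := g ^ (orderOf g / 2) with hz
      have hoz : orderOf z = 2 := orderOf_pow_orderOf_div (orderOf_pos g).ne' hev.two_dvd
      obtain ⟨k, c, hc, hk⟩ := SzBorel.exists_conj_involution hF hm hoz
      have hcom : Commute (k⁻¹ * g * k) (U hF 0 c) := by
        rw [← hk]
        have h' : Commute g z := (Commute.refl g).pow_right _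
        show _ * _ = _ * _
        rw [show k⁻¹ * g * k * (k⁻¹ * z * k) = k⁻¹ * (g * z) * k by group, h'.eq]
        group
      have hu : k⁻¹ * g * k ∈ unip hF := by
        refine mem_unip_of_fix hF (SzBorel.commute_center hF hc hcom) fun p hp => SzBorel.center_fix hF hc ?_
        exact fix_of_commute hF (fun h => hg1 (conj_eq_one_iff.1 (h : k⁻¹ * g * k = 1) |> id)) hcom.symm hp
      have hgP : g ∈ ((k • sylow hF hm : Sylow 2 _) : Subgroup (Cfsg.Lie.Sz F (2 ^ (m + 1)))) := by
        rw [Sylow.coe_subgroup_smul, coe_sylow]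
        exact ⟨k⁻¹ * g * k, hu, by simp [MulAut.conj_apply, mul_assoc]⟩
      refine ⟨_, ⟨Or.inl ⟨_, rfl⟩, hgP⟩, ?_⟩
      rintro V ⟨⟨P, rfl⟩ | ⟨hV, hVc⟩, hgV⟩
      · rw [hsylow_one hgV hgP]
      · exact absurd (hodd.of_dvd_nat (horder V hgV hVc)) ho
  -- transport to the model on the ovoid
  obtain ⟨V, ⟨hVf, hgV⟩, hVu⟩ := hex
  have hfam : ∀ W : Subgroup (Cfsg.Lie.Sz F (2 ^ (m + 1))),
      (((∃ P : Sylow 2 ↥(Cfsg.Sz F m), W.map e.toMonoidHom = (P : Subgroup ↥(Cfsg.Sz F m))) ∨
        (IsCyclic ↥(W.map e.toMonoidHom) ∧ Nat.card ↥(W.map e.toMonoidHom) ∈ ({q - 1, a, b} : Set ℕ))) ↔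
      ((∃ P : Sylow 2 (Cfsg.Lie.Sz F (2 ^ (m + 1))), W = (P : Subgroup (Cfsg.Lie.Sz F (2 ^ (m + 1))))) ∨
        (IsCyclic W ∧ Nat.card W ∈ ({q - 1, a, b} : Set ℕ)))) := by
    intro W
    let f := W.equivMapOfInjective e.toMonoidHom e.injective
    have hc : Nat.card ↥(W.map e.toMonoidHom) = Nat.card W := (Nat.card_congr f.toEquiv).symm
    have hy : IsCyclic ↥(W.map e.toMonoidHom) ↔ IsCyclic W :=
      ⟨fun h => isCyclic_of_surjective _ f.symm.surjective, fun h => isCyclic_of_surjective _ f.surjective⟩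
    have hS : (∃ P : Sylow 2 ↥(Cfsg.Sz F m), W.map e.toMonoidHom = (P : Subgroup ↥(Cfsg.Sz F m))) ↔
        ∃ P : Sylow 2 (Cfsg.Lie.Sz F (2 ^ (m + 1))), W = (P : Subgroup (Cfsg.Lie.Sz F (2 ^ (m + 1)))) := by
      constructor
      · rintro ⟨P, hP⟩
        refine ⟨P.comapOfInjective e.toMonoidHom e.injective (fun x _ => e.surjective x), ?_⟩
        exact (Subgroup.comap_map_eq_self_of_injective e.injective W).symm.trans (congrArg _ hP)
      · rintro ⟨P, rfl⟩
        exact ⟨P.mapSurjective (f := e.toMonoidHom) e.surjective, rfl⟩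
    rw [hS, hy, hc]
  refine ⟨V.map e.toMonoidHom, ⟨(hfam V).2 hVf, ⟨g, hgV, rfl⟩⟩, ?_⟩
  rintro W ⟨hWf, hgW⟩
  obtain ⟨W, rfl⟩ : ∃ W', W = W'.map e.toMonoidHom :=
    ⟨W.comap e.toMonoidHom, (Subgroup.map_comap_eq_self_of_surjective e.surjective W).symm⟩
  rw [hVu W ⟨(hfam W).1 hWf, (Subgroup.mem_map_iff_mem e.injective).1 hgW⟩]

end Cfsg.Agent.S2238
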