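import Cfsg.Statements.S2239
import Cfsg.Agent.Lib.Recognition.Suzuki.Subgroups

set_option autoImplicit false
open Cfsg

namespace Cfsg.Agent.S2239

/-- Subfield subgroups of the Suzuki group: let q = 2^(2m+1) and s = 2^(2k+1) with m, k ≥ 1 and 2k+1 dividing 2m+1 (so q is a power of s), both groups realised as stabilisers in SL₄ of the Suzuki–Tits ovoid. Then Sz(q) has a subgroup isomorphic to Sz(s), and any two subgroups of Sz(q) isomorphic to Sz(s) are conjugate. -/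
theorem result {F : Type*} [Field F] [Fintype F] {m : ℕ} (hm : 1 ≤ m) (hF : Fintype.card F = 2 ^ (2 * m + 1)) {K : Type*} [Field K] [Fintype K] {k : ℕ} (hk : 1 ≤ k) (hK : Fintype.card K = 2 ^ (2 * k + 1)) (hdiv : 2 * k + 1 ∣ 2 * m + 1) :
    (∃ S : Subgroup ↥(Cfsg.Sz F m), Nonempty (↥S ≃* ↥(Cfsg.Sz K k))) ∧
    ∀ S₁ S₂ : Subgroup ↥(Cfsg.Sz F m), Nonempty (↥S₁ ≃* ↥(Cfsg.Sz K k)) → Nonempty (↥S₂ ≃* ↥(Cfsg.Sz K k)) →
      ∃ g : ↥(Cfsg.Sz F m), S₂ = S₁.map (MulAut.conj g).toMonoidHom := by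
  haveI : CharP F 2 := CfsgLib.Suzuki.charTwo hF
  haveI : CharP K 2 := CfsgLib.Suzuki.charTwo hK
  set e := CfsgLib.Suzuki.equiv hF hm with he
  set eK := CfsgLib.Suzuki.equiv hK hk with heK
  clear_value e eK
  set S₀ := CfsgLib.Recognition.SzSub.sub hF (2 * k + 1) with hS₀
  obtain ⟨f⟩ := CfsgLib.Recognition.SzSub.nonempty_sub_equiv hF hK hdiv
  refine ⟨⟨S₀.map e.toMonoidHom, ⟨((S₀.equivMapOfInjective e.toMonoidHom e.injective).symm.trans f).trans eK⟩⟩,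
    fun S₁ S₂ h₁ h₂ => ?_⟩
  have key : ∀ S : Subgroup ↥(Cfsg.Sz F m), Nonempty (↥S ≃* ↥(Cfsg.Sz K k)) →
      ∃ g, S = (S₀.map (MulAut.conj g).toMonoidHom).map e.toMonoidHom := by
    rintro S ⟨t⟩
    have u : ↥(S.comap e.toMonoidHom) ≃* ↥(Cfsg.Lie.Sz K (2 ^ (k + 1))) :=
      (((S.comap e.toMonoidHom).equivMapOfInjective e.toMonoidHom e.injective).trans
        (MulEquiv.subgroupCongr (Subgroup.map_comap_eq_self_of_surjective e.surjective S))).trans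
        (t.trans eK.symm)
    obtain ⟨g, hg⟩ := CfsgLib.Recognition.SzSub.exists_conj_sub hF hm hK hk u
    exact ⟨g, by rw [← hg, Subgroup.map_comap_eq_self_of_surjective e.surjective]⟩
  obtain ⟨g₁, hg₁⟩ := key S₁ h₁
  obtain ⟨g₂, hg₂⟩ := key S₂ h₂
  refine ⟨e (g₂ * g₁⁻¹), ?_⟩
  rw [hg₁, hg₂, Subgroup.map_map, Subgroup.map_map, Subgroup.map_map]
  congr 1
  ext x
  simp only [MonoidHom.coe_comp, MulEquiv.coe_toMonoidHom, Function.comp_apply, MulAut.conj_apply]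
  rw [← map_inv, ← map_mul, ← map_mul]
  congr 1
  group

end Cfsg.Agent.S2239
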