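import Cfsg.Statements.S2240
import Cfsg.Agent.Lib.Recognition.Suzuki.Borel
-- import your own Cfsg.Agent.* helpers here

set_option autoImplicit false
open Cfsg

namespace Cfsg.Agent.S2240

open CfsgLib.SuzukiLaws CfsgLib.Suzuki CfsgLib.Recognition.SzBorel

section
variable {F : Type*} [Field F] [Fintype F] [CharP F 2] {m : ℕ} (hF : Fintype.card F = 2 ^ (2 * m + 1))

include hF in
theorem conj_central (t : Fˣ) (b : F) :
    T hF t * U hF 0 b * (T hF t)⁻¹ = U hF 0 ((t : F) ^ (2 ^ (m + 1) + 2) * b) := by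
  rw [T_mul_U, mul_zero, mul_inv_cancel_right]

include hF in
theorem exists_torus_scalar (c : F) (hc : c ≠ 0) : ∃ t : Fˣ, (t : F) ^ (2 ^ (m + 1) + 2) = c := by
  have hinj : Function.Injective fun t : Fˣ => t ^ (2 ^ (m + 1) + 2) := fun a b e => by
    refine div_eq_one.1 (Units.ext (eq_one_of_sigma_two hF ?_))
    rw [← Units.val_pow_eq_pow_val, div_pow, div_eq_one.2 e, Units.val_one]
  obtain ⟨t, ht⟩ := Finite.injective_iff_surjective.1 hinj (Units.mk0 c hc)
  exact ⟨t, by simpa using congrArg Units.val ht⟩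

include hF in
theorem borel_conj_central {g : ↥(Cfsg.Lie.Sz F (2 ^ (m + 1)))} (hg : g ∈ borel hF) :
    ∃ k : F, ∀ b, g * U hF 0 b * g⁻¹ = U hF 0 (k * b) := by
  obtain ⟨t, a, d, rfl⟩ := (stab_inf hF g).1 hg
  refine ⟨(t : F) ^ (2 ^ (m + 1) + 2), fun b => ?_⟩
  have h : U hF a d * U hF 0 b = U hF 0 b * U hF a d := by
    rw [U_mul, U_mul]
    congr 1
    · rw [zero_add, add_zero]
    · simp [zero_pow, add_comm]
  rw [mul_assoc (T hF t), h, ← conj_central hF]
  group

include hF in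
theorem ti_iff (hm : 1 ≤ m) (n : ℕ) (hn : 2 ≤ n) :
    (∃ E : Subgroup ↥(Cfsg.Lie.Sz F (2 ^ (m + 1))), Cfsg.IsElementaryAbelian 2 E ∧ Nat.card ↥E = 2 ^ n ∧
      ∀ x : ↥(Cfsg.Lie.Sz F (2 ^ (m + 1))), E ⊓ E.map (MulAut.conj x).toMonoidHom ≠ ⊥ →
        x ∈ Subgroup.normalizer (E : Set ↥(Cfsg.Lie.Sz F (2 ^ (m + 1))))) ↔ n ∣ 2 * m + 1 := by
  classical
  constructor
  · rintro ⟨E, ⟨hcom, hexp⟩, hcard, hti⟩
    have hne : E ≠ ⊥ := fun h => by
      rw [h, Subgroup.card_bot] at hcard
      have := Nat.one_lt_pow (show n ≠ 0 by omega) (by norm_num : 1 < 2)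
      omega
    obtain ⟨z, hzE, hz1⟩ := (Subgroup.bot_or_exists_ne_one E).resolve_left hne
    obtain ⟨k, b, hb, hk⟩ := exists_conj_involution hF hm (z := z)
      (orderOf_eq_prime (hexp z hzE) hz1)
    obtain ⟨t, ht⟩ := exists_torus_scalar hF b⁻¹ (inv_ne_zero hb)
    set c := T hF t * k⁻¹ with hc
    have hcz : c * z * c⁻¹ = U hF 0 1 := by
      rw [hc, show T hF t * k⁻¹ * z * (T hF t * k⁻¹)⁻¹ = T hF t * (k⁻¹ * z * k) * (T hF t)⁻¹ by group, hk,
        conj_central, ht, inv_mul_cancel₀ hb]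
    -- every element of the conjugate is central
    have hcent : ∀ x ∈ E, ∃ a, c * x * c⁻¹ = U hF 0 a := by
      intro x hx
      by_cases hx1 : x = 1
      · exact ⟨0, by rw [hx1, mul_one, mul_inv_cancel, U_zero]⟩
      have hxz : Commute x z := congrArg Subtype.val (hcom.is_comm.comm ⟨x, hx⟩ ⟨z, hzE⟩)
      obtain ⟨l, d, hd, hl⟩ := exists_conj_involution hF hm (z := c * x * c⁻¹)
        (orderOf_eq_prime (by rw [conj_pow, hexp x hx, mul_one, mul_inv_cancel]) (fun e => hx1 (conj_eq_one_iff.1 e)))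
      have hb' : c * x * c⁻¹ ∈ borel hF := commute_center hF one_ne_zero (by
        show _ * _ = _ * _
        rw [← hcz, show c * x * c⁻¹ * (c * z * c⁻¹) = c * (x * z) * c⁻¹ by group, hxz.eq]
        group)
      have hlinf : l ∈ borel hF := by
        have h1 : toSL hF (U hF 0 d) • (toSL hF l)⁻¹ • inf = ((toSL hF l)⁻¹ • inf : Cfsg.suzukiOvoid F m) := by
          rw [← hl]
          exact (conj_fix hF _).2 (by rw [smul_inv_smul]; exact hb')
        rw [mem_borel]
        have h2 := center_fix hF hd h1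
        rw [inv_smul_eq_iff] at h2
        exact h2.symm
      obtain ⟨κ, hκ⟩ := borel_conj_central hF hlinf
      exact ⟨κ * d, by rw [← hκ, ← hl]; group⟩
    -- the set of scalars
    let A : AddSubgroup F :=
      { carrier := {a | c⁻¹ * U hF 0 a * c ∈ E}
        zero_mem' := by show _ ∈ E; rw [U_zero, mul_one, inv_mul_cancel]; exact one_mem E
        add_mem' := by
          intro a a' ha ha'
          have h := mul_mem (show c⁻¹ * U hF 0 a * c ∈ E from ha) (show c⁻¹ * U hF 0 a' * c ∈ E from ha')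
          rw [show c⁻¹ * U hF 0 a * c * (c⁻¹ * U hF 0 a' * c) = c⁻¹ * (U hF 0 a * U hF 0 a') * c by group,
            U_mul, zero_add, zero_mul, add_zero] at h
          exact h
        neg_mem' := by intro a ha; rwa [CharTwo.neg_eq] }
    have hA : ∀ a, a ∈ A ↔ c⁻¹ * U hF 0 a * c ∈ E := fun a => Iff.rfl
    have hcardA : Nat.card A = 2 ^ n := by
      rw [← hcard]
      refine Nat.card_eq_of_bijective (fun a : A => (⟨_, a.2⟩ : E)) ⟨fun a a' h => ?_, fun x => ?_⟩
      · exact Subtype.ext (U_injective hF (mul_left_cancel (mul_right_cancel (congrArg Subtype.val h)))).2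
      · obtain ⟨a, ha⟩ := hcent x x.2
        refine ⟨⟨a, (hA a).2 ?_⟩, Subtype.ext ?_⟩
        · rw [← ha]; simpa [mul_assoc] using x.2
        · show c⁻¹ * U hF 0 a * c = x
          rw [← ha]; group
    have h1A : (1 : F) ∈ A := (hA 1).2 (by rw [← hcz]; simpa [mul_assoc] using hzE)
    have hmulA : ∀ e ∈ A, ∀ a ∈ A, e * a ∈ A := by
      intro e he a ha
      rcases eq_or_ne e 0 with rfl | he0
      · rw [zero_mul]; exact zero_mem A
      obtain ⟨s, hs⟩ := exists_torus_scalar hF e he0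
      have hcj : ∀ a, c⁻¹ * T hF s * c * (c⁻¹ * U hF 0 a * c) * (c⁻¹ * T hF s * c)⁻¹ =
          c⁻¹ * U hF 0 (e * a) * c := fun a => by
        rw [show c⁻¹ * T hF s * c * (c⁻¹ * U hF 0 a * c) * (c⁻¹ * T hF s * c)⁻¹ =
          c⁻¹ * (T hF s * U hF 0 a * (T hF s)⁻¹) * c by group, conj_central, hs]
      have hN := hti (c⁻¹ * T hF s * c) (fun hbot => by
        have hmem : c⁻¹ * U hF 0 e * c ∈ E ⊓ E.map (MulAut.conj (c⁻¹ * T hF s * c)).toMonoidHom := by
          refine ⟨(hA e).1 he, c⁻¹ * U hF 0 1 * c, (hA 1).1 h1A, ?_⟩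
          show c⁻¹ * T hF s * c * (c⁻¹ * U hF 0 1 * c) * (c⁻¹ * T hF s * c)⁻¹ = _
          rw [hcj, mul_one]
        rw [hbot, Subgroup.mem_bot] at hmem
        refine center_ne_one hF he0 ?_
        calc U hF 0 e = c * (c⁻¹ * U hF 0 e * c) * c⁻¹ := by group
          _ = 1 := by rw [hmem]; group)
      have := (Subgroup.mem_normalizer_iff.1 hN _).1 ((hA a).1 ha)
      rw [hcj] at this
      exact (hA _).2 this
    let R : Subring F :=
      { carrier := A
        one_mem' := h1A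
        mul_mem' := fun {a b} ha hb => hmulA a ha b hb
        zero_mem' := A.zero_mem
        add_mem' := A.add_mem
        neg_mem' := A.neg_mem }
    haveI : Finite R := inferInstance
    haveI hfield : IsField R := Finite.isField_of_domain R
    letI := hfield.toField
    letI : Fintype R := Fintype.ofFinite R
    have hR : Fintype.card R = 2 ^ n := by rw [← Nat.card_eq_fintype_card]; exact hcardA
    have hvec := Module.card_eq_pow_finrank (K := R) (V := F)
    rw [hR, hF, ← pow_mul] at hvec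
    exact ⟨_, Nat.pow_right_injective le_rfl hvec⟩
  · rintro hdvd
    set S := {a : F | a ^ 2 ^ n = a} with hS
    have hfr : ∀ a b : F, a ∈ S → b ∈ S → a + b ∈ S := fun a b ha hb => by
      show (a + b) ^ 2 ^ n = a + b
      rw [add_pow_char_pow, ha, hb]
    let E : Subgroup ↥(Cfsg.Lie.Sz F (2 ^ (m + 1))) :=
      { carrier := {g | ∃ a ∈ S, g = U hF 0 a}
        one_mem' := ⟨0, zero_pow (by positivity), (U_zero hF).symm⟩
        mul_mem' := by
          rintro _ _ ⟨a, ha, rfl⟩ ⟨b, hb, rfl⟩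
          exact ⟨a + b, hfr a b ha hb, by rw [U_mul, zero_add, zero_mul, add_zero]⟩
        inv_mem' := by
          rintro _ ⟨a, ha, rfl⟩
          exact ⟨a, ha, by rw [U_inv, zero_mul, add_zero]⟩ }
    refine ⟨E, ⟨⟨⟨?_⟩⟩, ?_⟩, ?_, ?_⟩
    · rintro ⟨_, a, -, rfl⟩ ⟨_, b, -, rfl⟩
      refine Subtype.ext ?_
      show U hF 0 a * U hF 0 b = U hF 0 b * U hF 0 a
      rw [U_mul, U_mul, zero_add, zero_mul, add_comm a b]
    · rintro _ ⟨a, -, rfl⟩
      rw [pow_two, sq_U, zero_mul, U_zero]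
    · have h1 : Nat.card E = Nat.card S := (Nat.card_eq_of_bijective (fun a : S => (⟨U hF 0 a, a, a.2, rfl⟩ : E))
        ⟨fun a b h => Subtype.ext (U_injective hF (congrArg Subtype.val h)).2,
          fun ⟨_, a, ha, e⟩ => ⟨⟨a, ha⟩, Subtype.ext e.symm⟩⟩).symm
      have h2 : S = insert 0 (((powMonoidHom (2 ^ n - 1) : Fˣ →* Fˣ).ker : Set Fˣ).image Units.val) := by
        ext a
        simp only [hS, Set.mem_setOf_eq, Set.mem_insert_iff, Set.mem_image, SetLike.mem_coe, MonoidHom.mem_ker,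
          powMonoidHom_apply]
        rcases eq_or_ne a 0 with rfl | ha
        · simp [zero_pow (show 2 ^ n ≠ 0 by positivity)]
        · constructor
          · intro h
            refine Or.inr ⟨Units.mk0 a ha, Units.ext ?_, rfl⟩
            simp only [Units.val_pow_eq_pow_val, Units.val_mk0, Units.val_one]
            refine (mul_eq_right₀ ha).1 ?_
            rw [← pow_succ, Nat.sub_add_cancel (Nat.one_le_two_pow), h]
          · rintro (h | ⟨u, hu, rfl⟩)
            · exact absurd h ha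
            · have := congrArg Units.val hu
              simp only [Units.val_pow_eq_pow_val, Units.val_one] at this
              rw [show 2 ^ n = 2 ^ n - 1 + 1 from (Nat.sub_add_cancel Nat.one_le_two_pow).symm, pow_succ, this, one_mul]
      rw [h1, Nat.card_coe_set_eq, h2, Set.ncard_insert_of_notMem (by simp),
        Set.ncard_image_of_injective _ Units.val_injective, ← Nat.card_coe_set_eq, SetLike.coe_sort_coe,
        IsCyclic.card_powMonoidHom_ker, Nat.card_units, Nat.card_eq_fintype_card, hF,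
        Nat.gcd_eq_right (Nat.pow_sub_one_dvd_pow_sub_one 2 hdvd), Nat.sub_add_cancel Nat.one_le_two_pow]
    · intro x hx
      obtain ⟨w, ⟨⟨a, ha, rfl⟩, _, ⟨b, hb, rfl⟩, hxb⟩, hw⟩ := (Subgroup.bot_or_exists_ne_one _).resolve_left hx
      have ha0 : a ≠ 0 := fun h => hw (by rw [h, U_zero])
      change x * U hF 0 b * x⁻¹ = U hF 0 a at hxb
      have hxB : x ∈ borel hF := by
        have h1 : toSL hF (U hF 0 a) • toSL hF x • inf = (toSL hF x • inf : Cfsg.suzukiOvoid F m) := by
          rw [← hxb, map_mul, map_mul, map_inv, mul_smul, mul_smul, inv_smul_smul, U_smul_inf]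
        exact center_fix hF ha0 h1
      obtain ⟨κ, hκ⟩ := borel_conj_central hF hxB
      rw [hκ] at hxb
      have hab : κ * b = a := (U_injective hF hxb).2
      have hκS : κ ∈ S := by
        have hb0 : b ≠ 0 := fun h => ha0 (by rw [← hab, h, mul_zero])
        show κ ^ 2 ^ n = κ
        have : κ = a / b := by rw [← hab, mul_div_cancel_right₀ _ hb0]
        rw [this, div_pow, ha, hb]
      have hκ0 : κ ≠ 0 := fun h => ha0 (by rw [← hab, h, zero_mul])
      rw [Subgroup.mem_normalizer_iff]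
      intro g
      constructor
      · rintro ⟨d, hd, rfl⟩
        exact ⟨κ * d, by show _ ^ _ = _; rw [mul_pow, hκS, hd], hκ d⟩
      · rintro ⟨d, hd, he⟩
        refine ⟨κ⁻¹ * d, by show _ ^ _ = _; rw [mul_pow, inv_pow, hκS, hd], ?_⟩
        refine mul_left_cancel (a := x) (mul_right_cancel (b := x⁻¹) ?_)
        rw [hκ, he, ← mul_assoc, mul_inv_cancel₀ hκ0, one_mul]

end

/-- Elementary abelian TI-subgroups of the Suzuki group: let q = 2^(2m+1) with m ≥ 1, the group realised as the stabiliser in SL₄ of the Suzuki–Tits ovoid, and n ≥ 2. There is an elementary abelian 2-subgroup E of order 2^n that is a TI-subgroup (every conjugate of E meeting E nontrivially is E itself) if and only if n divides 2m + 1. -/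
theorem result {F : Type*} [Field F] [Fintype F] {m : ℕ} (hm : 1 ≤ m) (hF : Fintype.card F = 2 ^ (2 * m + 1)) (n : ℕ) (hn : 2 ≤ n) :
    (∃ E : Subgroup ↥(Cfsg.Sz F m), Cfsg.IsElementaryAbelian 2 E ∧ Nat.card ↥E = 2 ^ n ∧
      ∀ x : ↥(Cfsg.Sz F m), E ⊓ E.map (MulAut.conj x).toMonoidHom ≠ ⊥ → x ∈ Subgroup.normalizer (E : Set ↥(Cfsg.Sz F m))) ↔ n ∣ 2 * m + 1 := by
  haveI : CharP F 2 := charTwo hF
  rw [← ti_iff hF hm n hn]
  set e := equiv hF hm with he
  have hcomap : ∀ (E : Subgroup ↥(Cfsg.Sz F m)), ∃ E', E = Subgroup.map e.toMonoidHom E' := fun E =>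
    ⟨E.comap e.toMonoidHom, (Subgroup.map_comap_eq_self_of_surjective e.surjective E).symm⟩
  have key : ∀ E : Subgroup ↥(Cfsg.Lie.Sz F (2 ^ (m + 1))),
      (Cfsg.IsElementaryAbelian 2 (E.map e.toMonoidHom) ↔ Cfsg.IsElementaryAbelian 2 E) ∧
      Nat.card ↥(E.map e.toMonoidHom) = Nat.card E ∧
      ∀ x, ((E.map e.toMonoidHom) ⊓ (E.map e.toMonoidHom).map (MulAut.conj (e x)).toMonoidHom = ⊥ ↔
          E ⊓ E.map (MulAut.conj x).toMonoidHom = ⊥) ∧
        (e x ∈ Subgroup.normalizer (E.map e.toMonoidHom : Set ↥(Cfsg.Sz F m)) ↔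
          x ∈ Subgroup.normalizer (E : Set ↥(Cfsg.Lie.Sz F (2 ^ (m + 1))))) := by
    intro E
    let f := E.equivMapOfInjective e.toMonoidHom e.injective
    refine ⟨⟨fun h => ⟨⟨⟨fun a b => f.injective (by rw [map_mul, map_mul]; exact h.1.is_comm.comm _ _)⟩⟩,
        fun a ha => e.injective (by rw [map_pow, map_one]; exact h.2 _ ⟨a, ha, rfl⟩)⟩,
      fun h => ⟨⟨⟨fun a b => f.symm.injective (by rw [map_mul, map_mul]; exact h.1.is_comm.comm _ _)⟩⟩, ?_⟩⟩,
      (Nat.card_congr f.toEquiv).symm, fun x => ⟨?_, ?_⟩⟩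
    · rintro _ ⟨a, ha, rfl⟩
      rw [← map_pow, h.2 a ha, map_one]
    · have hmap : (E.map e.toMonoidHom).map (MulAut.conj (e x)).toMonoidHom =
          (E.map (MulAut.conj x).toMonoidHom).map e.toMonoidHom := by
        rw [Subgroup.map_map, Subgroup.map_map]
        congr 1
        ext y
        simp
      rw [hmap, ← Subgroup.map_inf _ _ e.toMonoidHom e.injective, Subgroup.map_eq_bot_iff_of_injective (f := e.toMonoidHom) _ e.injective]
    · rw [← Subgroup.map_equiv_normalizer_eq]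
      exact Subgroup.mem_map_iff_mem e.injective
  constructor
  · rintro ⟨E, h1, h2, h3⟩
    obtain ⟨E, rfl⟩ := hcomap E
    refine ⟨E, (key E).1.1 h1, by rw [← (key E).2.1, h2], fun x hx => ((key E).2.2 x).2.1 (h3 (e x) ?_)⟩
    rwa [Ne, ((key E).2.2 x).1]
  · rintro ⟨E, h1, h2, h3⟩
    refine ⟨E.map e.toMonoidHom, (key E).1.2 h1, by rw [(key E).2.1, h2], fun y hy => ?_⟩
    obtain ⟨x, rfl⟩ := e.surjective y
    rw [Ne, ((key E).2.2 x).1] at hy
    exact ((key E).2.2 x).2.2 (h3 x hy)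

end Cfsg.Agent.S2240
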