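import Cfsg.Statements.S2241
import Cfsg.Agent.Lib.Recognition.Suzuki.Borel
-- import your own Cfsg.Agent.* helpers here

set_option autoImplicit false
open Cfsg

namespace Cfsg.Agent.S2241

open Matrix CfsgLib.SuzukiLaws CfsgLib.Suzuki CfsgLib.Recognition.SzBorel in
/-- Real 2-elements of the Suzuki group: with q = 2^(2m+1), m ≥ 1, and the group realised as the stabiliser in SL₄ of the Suzuki–Tits ovoid, a non-identity element of a Sylow 2-subgroup is conjugate to its inverse if and only if it is an involution; in particular no element of order 4 is conjugate to its inverse. -/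
theorem result {F : Type*} [Field F] [Fintype F] {m : ℕ} (hm : 1 ≤ m) (hF : Fintype.card F = 2 ^ (2 * m + 1)) (P : Sylow 2 ↥(Cfsg.Sz F m)) (g : ↥(Cfsg.Sz F m)) (hg : g ∈ (P : Subgroup ↥(Cfsg.Sz F m))) (h1 : g ≠ 1) :
    IsConj g g⁻¹ ↔ orderOf g = 2 := by
  haveI : CharP F 2 := charTwo hF
  haveI : Fact (Nat.Prime 2) := ⟨Nat.prime_two⟩
  set e := equiv hF hm with he
  constructor
  swap
  · intro h
    rw [show g⁻¹ = g from inv_eq_of_mul_eq_one_right (by rw [← pow_two, ← h, pow_orderOf_eq_one])]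
  intro hreal
  -- move to the unipotent radical
  have hpg : IsPGroup 2 (Subgroup.zpowers (e.symm g)) := by
    refine (P.isPGroup'.map e.symm.toMonoidHom).to_le ?_
    rw [Subgroup.zpowers_le]
    exact ⟨g, hg, rfl⟩
  obtain ⟨Q, hQ⟩ := hpg.exists_le_sylow
  obtain ⟨k, hk⟩ := MulAction.exists_smul_eq ↥(Cfsg.Lie.Sz F (2 ^ (m + 1))) (sylow hF hm) Q
  have hu := hQ (Subgroup.mem_zpowers (e.symm g))
  rw [← hk, Sylow.coe_subgroup_smul, coe_sylow] at hu
  obtain ⟨u, ⟨a, b, rfl⟩, hu⟩ := hu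
  have hu' : k * U hF a b * k⁻¹ = e.symm g := by simpa [MulAut.conj_apply] using hu
  have hconj : IsConj (U hF a b) (U hF a b)⁻¹ := by
    have h1 : IsConj (e.symm g) (e.symm g)⁻¹ := by
      rw [← map_inv]
      exact e.symm.toMonoidHom.map_isConj hreal
    have h2 : IsConj (U hF a b) (e.symm g) := isConj_iff.2 ⟨k, hu'⟩
    refine (h2.trans h1).trans (isConj_iff.2 ⟨k⁻¹, ?_⟩)
    rw [← hu']
    group
  have hord : orderOf g = orderOf (U hF a b) := by
    rw [← MulEquiv.orderOf_eq (MulAut.conj k) (U hF a b), MulAut.conj_apply, hu', MulEquiv.orderOf_eq]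
  have hne : U hF a b ≠ 1 := fun h => h1 (e.symm.injective (by rw [← hu', h, map_one]; group))
  rw [hord]
  refine orderOf_eq_prime ?_ hne
  rcases eq_or_ne a 0 with rfl | ha
  · rw [pow_two, sq_U, zero_mul, U_zero]
  exfalso
  obtain ⟨c, hc⟩ := isConj_iff.1 hconj
  -- an element of order four fixes one point only
  have huniq : ∀ p : Cfsg.suzukiOvoid F m, toSL hF (U hF a b) • p = p → p = inf := by
    intro p hp
    refine center_fix hF (b := a * a ^ 2 ^ (m + 1)) (mul_ne_zero ha (pow_ne_zero _ ha)) ?_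
    rw [← sq_U hF a b, map_mul, mul_smul, hp, hp]
  have hcB : toSL hF c • inf = (inf : Cfsg.suzukiOvoid F m) := by
    have h1 : toSL hF (U hF a b)⁻¹ • toSL hF c • inf = (toSL hF c • inf : Cfsg.suzukiOvoid F m) := by
      rw [← hc, map_mul, map_mul, map_inv, mul_smul, mul_smul, inv_smul_smul, U_smul_inf]
    rw [map_inv, inv_smul_eq_iff] at h1
    exact huniq _ h1.symm
  obtain ⟨t, x, y, rfl⟩ := (stab_inf hF c).1 hcB
  rw [mul_inv_eq_iff_eq_mul, mul_assoc, U_mul, T_mul_U, U_inv, ← mul_assoc, mul_assoc (U hF a _) (T hF t),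
    T_mul_U] at hc
  rw [← mul_assoc, U_mul] at hc
  obtain ⟨e1, e2⟩ := U_injective hF (mul_right_cancel hc)
  set l := (t : F) ^ 2 ^ (m + 1) with hl
  set κ := (t : F) ^ (2 ^ (m + 1) + 2) with hκ
  have hl1 : l = 1 := by
    have h' : (l - 1) * a = 0 := by linear_combination e1
    exact sub_eq_zero.1 ((mul_eq_zero.1 h').resolve_right ha)
  have hκ1 : κ = 1 := by
    have h2 := sigma_sq hF (t : F)
    rw [← hl, hl1, one_pow] at h2
    rw [hκ, pow_add, ← hl, hl1, ← h2, one_mul]
  rw [hl1, hκ1] at e2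
  simp only [one_mul] at e2
  set z := x / a with hz
  have hxz : x = z * a := by rw [hz, div_mul_cancel₀ _ ha]
  clear_value z
  have hkey : z ^ 2 ^ (m + 1) + z = 1 := by
    rw [hxz, mul_pow] at e2
    have h' : (z ^ 2 ^ (m + 1) + z + 1) * (a * a ^ 2 ^ (m + 1)) = 0 := by
      linear_combination e2 + (a * a ^ 2 ^ (m + 1) * (z ^ 2 ^ (m + 1) + 1)) * (CharTwo.two_eq_zero : (2 : F) = 0)
    have := (mul_eq_zero.1 h').resolve_right (mul_ne_zero ha (pow_ne_zero _ ha))
    rwa [CharTwo.add_eq_zero] at this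
  have hz1 : z ^ 2 ^ (m + 1) = z + 1 := by linear_combination hkey - z * (CharTwo.two_eq_zero : (2 : F) = 0)
  have hz2 := sigma_sq hF z
  rw [hz1, add_pow_char_pow, one_pow, hz1, add_assoc, CharTwo.add_self_eq_zero, add_zero, pow_two] at hz2
  rcases eq_or_ne z 0 with h0 | h0
  · rw [h0, zero_pow (by positivity), add_zero] at hkey
    exact zero_ne_one hkey
  · rw [(mul_eq_left₀ h0).1 hz2.symm, one_pow, CharTwo.add_self_eq_zero] at hkey
    exact zero_ne_one hkey

end Cfsg.Agent.S2241
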