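import Cfsg.Statements.S2244
import Cfsg.Agent.Lib.Known.ChevWeaklyClosed

set_option autoImplicit false
open Cfsg

namespace Cfsg.Agent.S2244

/-- Weakly closed unipotent subgroups of Chevalley groups: let G be the Chevalley group of type G₂, B₂, D₄, F₄, E₆, E₇ or E₈ over a finite field F (the matrix group generated by the root elements), with |F| ≠ 2, and |F| ≠ 3 as well for the types G₂, B₂, D₄, F₄. Let U be the subgroup generated by the positive root subgroups. If X ≤ U is weakly closed in U with respect to G (every G-conjugate of X lying in U equals X), then X is the unipotent radical U_J of a standard parabolic subgroup for some set J of fundamental roots. -/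
theorem result {F : Type*} [Field F] [Fintype F] (D : Cfsg.Lie.ChevalleyDatum) (hD : D ∈ [Cfsg.Lie.chevG2, Cfsg.Lie.chevB2, Cfsg.Lie.chevD4, Cfsg.Lie.chevF4, Cfsg.Lie.chevE6, Cfsg.Lie.chevE7, Cfsg.Lie.chevE8])
    (h2 : Fintype.card F ≠ 2) (h3 : D ∈ [Cfsg.Lie.chevG2, Cfsg.Lie.chevB2, Cfsg.Lie.chevD4, Cfsg.Lie.chevF4] → Fintype.card F ≠ 3)
    (X : Subgroup (GL D.Idx F)) (hXU : X ≤ D.posUnipotent F)
    (hwc : ∀ g ∈ D.group F, X.map (MulAut.conj g).toMonoidHom ≤ D.posUnipotent F → X.map (MulAut.conj g).toMonoidHom = X) :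
    ∃ J : Set ℕ, (∀ j ∈ J, j < D.rank) ∧ X = D.unipotentRadical F J := by
  open CfsgLib.Chev CfsgLib.Chev.WeaklyClosed in
  (obtain ⟨⟨co, hF⟩, hC⟩ := good_of_mem hD
   have hder := derivedCert_of_mem hD
   have hq : 2 < Nat.card F := by
     rw [Nat.card_eq_fintype_card]
     have := Fintype.one_lt_card (α := F)
     omega
   have h2' := exists_two (F := F) hq
   have big : Fintype.card F ≠ 3 → 3 < Nat.card F := fun h => by
     rw [Nat.card_eq_fintype_card] at hq ⊢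
     omega
   simp only [List.mem_cons, List.not_mem_nil, or_false] at hD h3
   rcases hD with rfl | rfl | rfl | rfl | rfl | rfl | rfl
   · obtain ⟨hpar, t, ht⟩ := exists_three (F := F) (big (h3 (by simp)))
     exact eq_radical hF hC hder h2' (Or.inr hpar)
       (sep_of_cert (L := [[-2, -3], [-1, -2]]) (bd := 2) (by unfold SepCert; decide +kernel) ht) X hXU hwc
   · obtain ⟨hpar, t, ht⟩ := exists_three (F := F) (big (h3 (by simp)))
     exact eq_radical hF hC hder h2' (Or.inr hpar)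
       (sep_of_cert (L := [[-1, -2], [-1, -1]]) (bd := 2) (by unfold SepCert; decide +kernel) ht) X hXU hwc
   · obtain ⟨hpar, t, ht⟩ := exists_three (F := F) (big (h3 (by simp)))
     exact eq_radical hF hC hder h2' (Or.inr hpar)
       (sep_of_cert (L := [[-1, 0, 0, 0], [-1, 0, 0, 1], [-1, 0, 1, 0], [0, 0, -1, 0], [0, 0, 0, -1]]) (bd := 2) (by unfold SepCert; decide +kernel) ht) X hXU hwc
   · obtain ⟨hpar, t, ht⟩ := exists_three (F := F) (big (h3 (by simp)))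
     exact eq_radical hF hC hder h2' (Or.inr hpar)
       (sep_of_cert (L := [[-1, 0, 0, 0], [-1, 0, 1, 0], [0, -1, -1, 0], [0, -1, 0, 0], [0, 0, -1, 0], [0, 0, 0, -1]]) (bd := 2) (by unfold SepCert; decide +kernel) ht) X hXU hwc
   · obtain ⟨u, hu0, hu1⟩ := h2'
     refine eq_radical hF hC hder ⟨u, hu0, hu1⟩ (Or.inl (exp_le_two DataE6.short))
       (sep_of_cert (L := [[-1, 0, -1, -1, 0, 0], [-1, 0, 0, 0, 0, 0], [-1, 0, 0, 1, 0, 0], [0, -1, -1, -1, 0, 0], [0, -1, 0, 0, 0, 0], [0, -1, 0, 0, 1, 0], [0, -1, 1, 0, 0, 0], [0, 0, -1, 0, 0, 0], [0, 0, 0, -2, -1, 0], [0, 0, 0, -1, 0, 0], [0, 0, 0, -1, 0, 1], [0, 0, 0, 0, -1, 0], [0, 0, 0, 0, 0, -1]]) (bd := 1) (by unfold SepCert; decide +kernel) (t := Units.mk0 u hu0)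
         fun d hd hd2 e => hu1 ?_) X hXU hwc
     obtain rfl : d = 1 := by omega
     simpa using congrArg Units.val e
   · obtain ⟨u, hu0, hu1⟩ := h2'
     refine eq_radical hF hC hder ⟨u, hu0, hu1⟩ (Or.inl (exp_le_two DataE7.short))
       (sep_of_cert (L := [[-1, 0, -1, -1, 0, 0, 0], [-1, 0, 0, 0, 0, 0, 0], [-1, 0, 0, 1, 0, 0, 0], [0, -1, -1, -1, 0, 0, 0], [0, -1, 0, 0, 0, 0, 0], [0, -1, 1, 0, 0, 0, 0], [0, 0, -1, 0, 0, 0, 0], [0, 0, 0, -1, 0, 0, 0], [0, 0, 0, -1, 0, 1, 0], [0, 0, 0, 0, -2, -1, 0], [0, 0, 0, 0, -1, 0, 0], [0, 0, 0, 0, 0, -1, 0], [0, 0, 0, 0, 0, 0, -1]]) (bd := 1) (by unfold SepCert; decide +kernel) (t := Units.mk0 u hu0)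
         fun d hd hd2 e => hu1 ?_) X hXU hwc
     obtain rfl : d = 1 := by omega
     simpa using congrArg Units.val e
   · obtain ⟨u, hu0, hu1⟩ := h2'
     refine eq_radical hF hC hder ⟨u, hu0, hu1⟩ (Or.inl (exp_le_two DataE8.short))
       (sep_of_cert (L := [[-1, 0, -1, -1, 0, 0, 0, 0], [-1, 0, 0, 0, 0, 0, 0, 0], [-1, 0, 0, 1, 0, 0, 0, 0], [0, -1, -1, -1, 0, 0, 0, 0], [0, -1, 0, 0, 0, 0, 0, 0], [0, -1, 1, 0, 0, 0, 0, 0], [0, 0, -1, 0, 0, 0, 0, 0], [0, 0, 0, -1, 0, 0, 0, 0], [0, 0, 0, -1, 0, 1, 0, 0], [0, 0, 0, 0, -1, 0, 0, 0], [0, 0, 0, 0, -1, 0, 1, 0], [0, 0, 0, 0, 0, -2, -1, 0], [0, 0, 0, 0, 0, -1, 0, 0], [0, 0, 0, 0, 0, 0, -1, 0], [0, 0, 0, 0, 0, 0, 0, -1]]) (bd := 1) (by unfold SepCert; decide +kernel) (t := Units.mk0 u hu0)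
         fun d hd hd2 e => hu1 ?_) X hXU hwc
     obtain rfl : d = 1 := by omega
     simpa using congrArg Units.val e)

end Cfsg.Agent.S2244
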