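import Cfsg.Statements.S2245
import Cfsg.Agent.Lib.Known.SylowTwoMax

set_option autoImplicit false
open Cfsg

namespace Cfsg.Agent.S2245

open Equiv Equiv.Perm in
/-- The parameters of the criterion, in terms of `n`. -/
theorem rhs_iff (n : ℕ) (hn : 5 ≤ n) :
    (n % 2 = 1 ∧ ∃ k : ℕ, n / 2 = 2 ^ k) ↔ ∃ k : ℕ, 2 ≤ k ∧ n = 2 ^ k + 1 := by
  constructor
  · rintro ⟨h1, k, hk⟩
    refine ⟨k + 1, ?_, by rw [pow_succ]; omega⟩
    rcases k with _ | k
    · simp at hk; omega
    · omega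
  · rintro ⟨k, hk, rfl⟩
    obtain ⟨j, rfl⟩ : ∃ j, k = j + 1 := ⟨k - 1, by omega⟩
    rw [pow_succ]
    exact ⟨by omega, j, by omega⟩

/-- A transitive subgroup of `A_5` containing a Sylow 2-subgroup is everything. -/
theorem five_alt (n : ℕ) (hn : n = 5) (R : Sylow 2 ↥(alternatingGroup (Fin n)))
    (M : Subgroup ↥(alternatingGroup (Fin n))) (hRM : (R : Subgroup _) ≤ M)
    (htr : ∀ x y : Fin n, ∃ g ∈ M.map (alternatingGroup (Fin n)).subtype, g x = y) : M = ⊤ := by
  subst hn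
  haveI : Fact (Nat.Prime 2) := ⟨Nat.prime_two⟩
  haveI : IsSimpleGroup ↥(alternatingGroup (Fin 5)) := alternatingGroup.isSimpleGroup_five
  have hA : Nat.card ↥(alternatingGroup (Fin 5)) = 60 := by
    rw [nat_card_alternatingGroup, Nat.card_eq_fintype_card, Fintype.card_fin]; rfl
  have hR4 : Nat.card (R : Subgroup ↥(alternatingGroup (Fin 5))) = 4 := by
    rw [R.card_eq_multiplicity, hA, Nat.factorization_def _ Nat.prime_two,
      show (60 : ℕ) = 2 ^ 2 * 15 by norm_num, padicValNat.mul (by norm_num) (by norm_num),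
      padicValNat.prime_pow, padicValNat.eq_zero_of_not_dvd (by norm_num)]
    norm_num
  set M' := M.map (alternatingGroup (Fin 5)).subtype with hM'
  haveI : MulAction.IsPretransitive M' (Fin 5) :=
    ⟨fun x y => by obtain ⟨g, hg, h⟩ := htr x y; exact ⟨⟨g, hg⟩, h⟩⟩
  have h5 : 5 ∣ Nat.card M := by
    have h := MulAction.index_stabilizer_of_transitive M' (0 : Fin 5)
    rw [Nat.card_eq_fintype_card, Fintype.card_fin] at h
    have h2 := (MulAction.stabilizer M' (0 : Fin 5)).index_dvd_card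
    rw [h, hM', Subgroup.card_map_of_injective (Subgroup.subtype_injective _)] at h2
    exact h2
  have h4 : 4 ∣ Nat.card M := hR4 ▸ Subgroup.card_dvd_of_le hRM
  have h20 : 20 ∣ Nat.card M := Nat.Coprime.mul_dvd_of_dvd_of_dvd (by norm_num) h4 h5
  by_contra hne
  have hidx : M.index ≤ 3 := by
    have h := M.card_mul_index
    rw [hA] at h
    obtain ⟨c, hc⟩ := h20
    rw [hc] at h
    have : c ≠ 0 := by rintro rfl; simp at h
    by_contra hlt
    have : 1 * 4 ≤ c * M.index := Nat.mul_le_mul (by omega) (by omega)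
    rw [mul_assoc] at h
    omega
  have hcore : M.normalCore = ⊥ :=
    (Subgroup.Normal.eq_bot_or_eq_top M.normalCore_normal).resolve_right
      (fun h => hne (top_le_iff.mp (h ▸ M.normalCore_le)))
  have hinj : Function.Injective (MulAction.toPermHom ↥(alternatingGroup (Fin 5))
      (↥(alternatingGroup (Fin 5)) ⧸ M)) :=
    (MonoidHom.ker_eq_bot_iff _).mp (by rw [← Subgroup.normalCore_eq_ker, hcore])
  have := Nat.card_le_card_of_injective _ hinj
  rw [hA, Nat.card_perm] at this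
  have h6 : (Nat.card (↥(alternatingGroup (Fin 5)) ⧸ M)).factorial ≤ Nat.factorial 3 :=
    Nat.factorial_le hidx
  have : Nat.factorial 3 = 6 := rfl
  omega

theorem alt_case (n : ℕ) (hn : 5 ≤ n) (h6 : n ≠ 6) (R : Sylow 2 ↥(alternatingGroup (Fin n))) :
    (∃! M : Subgroup ↥(alternatingGroup (Fin n)), IsCoatom M ∧
      (R : Subgroup ↥(alternatingGroup (Fin n))) ≤ M) ↔ ∃ k : ℕ, 2 ≤ k ∧ n = 2 ^ k + 1 := by
  rw [← rhs_iff n hn]
  obtain ⟨Q, hQ⟩ := CfsgLib.Known.alt_sylow_eq_inf R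
  obtain ⟨H⟩ := (inferInstance : Nonempty (Sylow 2 (Equiv.Perm (Fin (n / 2)))))
  have hr : n % 2 ≤ 1 := by omega
  obtain ⟨e, he⟩ := CfsgLib.Known.exists_equiv_pairSub (m := n / 2) (r := n % 2) (β := Fin n) hr
    (by rw [Fintype.card_fin]; omega) Q H
  refine CfsgLib.Known.unique_max_over_sylow (alternatingGroup (Fin n)).subtype
    (by rw [Subgroup.range_subtype]) (by rw [Fintype.card_fin]; omega) hr (by omega) (by omega)
    (by omega) _ H e ?_ ?_ ?_ ?_ ?_
  · rw [hQ, ← he]; exact inf_le_left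
  · rw [Subgroup.map_inf _ _ _ e.permCongrHom.injective, ← he,
      CfsgLib.Known.map_alt_equiv e, hQ]
  · intro s h1 h2 h3
    exact alternatingGroup.isCoatom_stabilizer h1 h2 (by rwa [Nat.card_eq_fintype_card])
  · intro M _ hle
    refine eq_top_iff.mpr fun g _ => ?_
    obtain ⟨g', hg', e'⟩ := hle g.2
    rwa [← Subtype.ext e']
  · intro M hr1 hm2 hRM htr
    exact five_alt n (by omega) R M hRM htr

theorem perm_case (n : ℕ) (hn : 5 ≤ n) (h6 : n ≠ 6) (R : Sylow 2 (Equiv.Perm (Fin n))) :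
    (∃! M : Subgroup (Equiv.Perm (Fin n)), IsCoatom M ∧
      (R : Subgroup (Equiv.Perm (Fin n))) ≤ M) ↔ ∃ k : ℕ, 2 ≤ k ∧ n = 2 ^ k + 1 := by
  rw [← rhs_iff n hn]
  obtain ⟨H⟩ := (inferInstance : Nonempty (Sylow 2 (Equiv.Perm (Fin (n / 2)))))
  have hr : n % 2 ≤ 1 := by omega
  obtain ⟨e, he⟩ := CfsgLib.Known.exists_equiv_pairSub (m := n / 2) (r := n % 2) (β := Fin n) hr
    (by rw [Fintype.card_fin]; omega) R H
  set i₀ : Fin (n / 2) := ⟨0, by omega⟩
  have hswap : e.permCongr (CfsgLib.Known.flipP i₀) ∈ (R : Subgroup (Equiv.Perm (Fin n))) := by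
    rw [he]; exact ⟨_, CfsgLib.Known.flipP_mem _ i₀, rfl⟩
  have hswap' : Equiv.Perm.IsSwap (e.permCongr (CfsgLib.Known.flipP i₀)) := by
    refine ⟨e (.inl (i₀, false)), e (.inl (i₀, true)), by simp, ?_⟩
    ext x
    simp [CfsgLib.Known.flipP, Equiv.permCongr_apply, Equiv.symm_apply_eq,
      Equiv.swap_apply_def, apply_ite e]
  refine CfsgLib.Known.unique_max_over_sylow (MonoidHom.id (Equiv.Perm (Fin n)))
    (fun g _ => ⟨g, rfl⟩) (by rw [Fintype.card_fin]; omega) hr (by omega) (by omega)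
    (by omega) _ H e ?_ ?_ ?_ ?_ ?_
  · rw [Subgroup.map_id, ← he]
  · rw [Subgroup.map_id, he]; exact Subgroup.map_mono inf_le_left
  · intro s h1 h2 h3
    rw [Subgroup.comap_id]
    exact Equiv.Perm.isCoatom_stabilizer h1 h2 (by rwa [Nat.card_eq_fintype_card])
  · intro M hRM hle
    rw [Subgroup.map_id] at hle
    refine eq_top_iff.mpr fun g _ => ?_
    have hs := hRM hswap
    rcases Int.units_eq_one_or (Equiv.Perm.sign g) with h | h
    · exact hle h
    · have : g * e.permCongr (CfsgLib.Known.flipP i₀) ∈ alternatingGroup (Fin n) := by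
        rw [Equiv.Perm.mem_alternatingGroup, map_mul, h, hswap'.sign_eq]; rfl
      have h2 := M.mul_mem (hle this) (M.inv_mem hs)
      rwa [mul_inv_cancel_right] at h2
  · intro M hr1 hm2 hRM htr
    rw [Subgroup.map_id] at htr
    haveI : MulAction.IsPretransitive M (Fin n) :=
      ⟨fun x y => by obtain ⟨g, hg, h⟩ := htr x y; exact ⟨⟨g, hg⟩, h⟩⟩
    refine Equiv.Perm.subgroup_eq_top_of_isPreprimitive_of_isSwap_mem ?_ _ hswap' (hRM hswap)
    apply MulAction.IsPreprimitive.of_prime_card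
    rw [Nat.card_eq_fintype_card, Fintype.card_fin, show n = 5 by omega]
    norm_num

/-- For n ≥ 5 with n ≠ 6, a Sylow 2-subgroup of the alternating group A_n lies in exactly one maximal subgroup of A_n if and only if n = 2^k + 1 for some k ≥ 2; the same holds for the symmetric group S_n. -/
theorem result (n : ℕ) (hn : 5 ≤ n) (h6 : n ≠ 6) :
    ((∀ R : Sylow 2 ↥(alternatingGroup (Fin n)), (∃! M : Subgroup ↥(alternatingGroup (Fin n)), IsCoatom M ∧ (R : Subgroup ↥(alternatingGroup (Fin n))) ≤ M) ↔ ∃ k : ℕ, 2 ≤ k ∧ n = 2 ^ k + 1) ∧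
    (∀ R : Sylow 2 (Equiv.Perm (Fin n)), (∃! M : Subgroup (Equiv.Perm (Fin n)), IsCoatom M ∧ (R : Subgroup (Equiv.Perm (Fin n))) ≤ M) ↔ ∃ k : ℕ, 2 ≤ k ∧ n = 2 ^ k + 1)) := by
  exact ⟨fun R => alt_case n hn h6 R, fun R => perm_case n hn h6 R⟩

end Cfsg.Agent.S2245
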