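import Cfsg.Statements.S2247
import Cfsg.Agent.Lib.Recognition.Suzuki.Borel
-- import your own Cfsg.Agent.* helpers here

set_option autoImplicit false
open Cfsg

namespace Cfsg.Agent.S2247

open Matrix CfsgLib.SuzukiLaws CfsgLib.Suzuki CfsgLib.Recognition.SzBorel in
/-- In the Suzuki group with q = 2^(2m+1), m ≥ 1 (realised as the stabiliser in SL₄ of the Suzuki–Tits ovoid), the normalizer of a Sylow 2-subgroup P is a maximal subgroup and is the only maximal subgroup containing P. -/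
theorem result {F : Type*} [Field F] [Fintype F] {m : ℕ} (hm : 1 ≤ m) (hF : Fintype.card F = 2 ^ (2 * m + 1)) (P : Sylow 2 ↥(Cfsg.Sz F m)) :
    IsCoatom (Subgroup.normalizer ((P : Subgroup ↥(Cfsg.Sz F m)) : Set ↥(Cfsg.Sz F m))) ∧
    ∀ M : Subgroup ↥(Cfsg.Sz F m), IsCoatom M → (P : Subgroup ↥(Cfsg.Sz F m)) ≤ M → M = Subgroup.normalizer ((P : Subgroup ↥(Cfsg.Sz F m)) : Set ↥(Cfsg.Sz F m)) := by
  haveI : CharP F 2 := charTwo hF
  haveI : Fact (Nat.Prime 2) := ⟨Nat.prime_two⟩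
  set e := equiv hF hm with he
  let P₀ : Sylow 2 ↥(Cfsg.Sz F m) := ((sylow hF hm).isPGroup'.map e.toMonoidHom).toSylow (by
    rw [Subgroup.index_map_of_bijective (f := e.toMonoidHom) e.bijective, coe_sylow]
    exact not_dvd_index hF hm)
  obtain ⟨g, rfl⟩ := MulAction.exists_smul_eq ↥(Cfsg.Sz F m) P₀ P
  have hP₀ : (P₀ : Subgroup ↥(Cfsg.Sz F m)) = (unip hF).map e.toMonoidHom := rfl
  have hN₀ : Subgroup.normalizer ((P₀ : Subgroup ↥(Cfsg.Sz F m)) : Set ↥(Cfsg.Sz F m)) =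
      MulAction.stabilizer (Cfsg.Sz F m) (inf : Cfsg.suzukiOvoid F m) := by
    rw [hP₀]
    ext x
    obtain ⟨y, rfl⟩ := e.surjective x
    change _ ↔ toSL hF y • inf = (inf : Cfsg.suzukiOvoid F m)
    rw [← normalizer_unip hF, ← Subgroup.map_equiv_normalizer_eq]
    exact Subgroup.mem_map_iff_mem e.injective
  have key : IsCoatom (Subgroup.normalizer ((P₀ : Subgroup ↥(Cfsg.Sz F m)) : Set ↥(Cfsg.Sz F m))) ∧
      ∀ M : Subgroup ↥(Cfsg.Sz F m), IsCoatom M → (P₀ : Subgroup ↥(Cfsg.Sz F m)) ≤ M →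
        M = Subgroup.normalizer ((P₀ : Subgroup ↥(Cfsg.Sz F m)) : Set ↥(Cfsg.Sz F m)) := by
    have hco : IsCoatom (Subgroup.normalizer ((P₀ : Subgroup ↥(Cfsg.Sz F m)) : Set ↥(Cfsg.Sz F m))) := by
      rw [hN₀]
      haveI := two_pretransitive hF
      haveI : Nontrivial (Cfsg.suzukiOvoid F m) := ⟨⟨_, _, inf_ne_zero⟩⟩
      haveI := MulAction.isPreprimitive_of_is_two_pretransitive (two_pretransitive hF)
      exact MulAction.IsPreprimitive.isCoatom_stabilizer_of_isPreprimitive (Cfsg.Sz F m) _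
    refine ⟨hco, fun M hM hle => ?_⟩
    by_contra hne
    haveI : IsSimpleGroup (Cfsg.Sz F m) := by
      haveI := isSimple hF hm
      haveI : Nontrivial (Cfsg.Sz F m) := e.symm.toEquiv.nontrivial
      exact IsSimpleGroup.isSimpleGroup_of_surjective e.toMonoidHom e.surjective
    obtain ⟨x, hxM, hx⟩ : ∃ x ∈ M, x • inf ≠ (inf : Cfsg.suzukiOvoid F m) := by
      by_contra h
      push Not at h
      have h' : M ≤ Subgroup.normalizer ((P₀ : Subgroup ↥(Cfsg.Sz F m)) : Set ↥(Cfsg.Sz F m)) :=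
        hN₀ ▸ fun y hy => h y hy
      exact hco.1 (hM.2 _ (lt_of_le_of_ne h' hne))
    have hU : ∀ a b, toSL hF (U hF a b) ∈ M := fun a b => hle (hP₀ ▸ ⟨U hF a b, ⟨a, b, rfl⟩, rfl⟩)
    -- every point is reached from infinity inside `M`
    have hreach : ∀ p : Cfsg.suzukiOvoid F m, ∃ y ∈ M, y • inf = p := by
      intro p
      obtain ⟨⟨a, b⟩, hab, -⟩ := existsUnique_U hF hx
      by_cases hp : p = inf
      · exact ⟨1, one_mem _, by rw [one_smul, hp]⟩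
      obtain ⟨⟨c, d⟩, hcd, -⟩ := existsUnique_U hF hp
      refine ⟨toSL hF (U hF c d) * (toSL hF (U hF a b))⁻¹ * x,
        mul_mem (mul_mem (hU c d) (inv_mem (hU a b))) hxM, ?_⟩
      rw [mul_smul, mul_smul, ← hab, inv_smul_smul]
      exact hcd
    have hall : Subgroup.normalClosure ((P₀ : Subgroup ↥(Cfsg.Sz F m)) : Set ↥(Cfsg.Sz F m)) ≤ M := by
      refine (Subgroup.closure_le _).2 fun u hu => ?_
      obtain ⟨w, hw, hconj⟩ := Group.mem_conjugatesOfSet_iff.1 hu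
      obtain ⟨c, rfl⟩ := isConj_iff.1 hconj
      obtain ⟨y, hy, hyc⟩ := hreach (c • inf)
      have hn : y⁻¹ * c ∈ Subgroup.normalizer ((P₀ : Subgroup ↥(Cfsg.Sz F m)) : Set ↥(Cfsg.Sz F m)) := by
        rw [hN₀, MulAction.mem_stabilizer_iff, mul_smul, ← hyc, inv_smul_smul]
      have := mul_mem (mul_mem hy (hle ((Subgroup.mem_normalizer_iff.1 hn w).1 hw))) (inv_mem hy)
      rwa [show y * (y⁻¹ * c * w * (y⁻¹ * c)⁻¹) * y⁻¹ = c * w * c⁻¹ by group] at this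
    rcases Subgroup.Normal.eq_bot_or_eq_top
        (Subgroup.normalClosure_normal (s := ((P₀ : Subgroup ↥(Cfsg.Sz F m)) : Set ↥(Cfsg.Sz F m)))) with h | h
    · have h1 : toSL hF (U hF 1 0) = 1 := Subgroup.mem_bot.1 (h ▸ Subgroup.subset_normalClosure
        (hP₀ ▸ ⟨U hF 1 0, ⟨1, 0, rfl⟩, rfl⟩))
      exact one_ne_zero (U_injective hF ((toSL_injective hF (h1.trans (map_one _).symm)).trans (U_zero hF).symm)).1
    · exact hM.1 (top_le_iff.1 (h ▸ hall))
  set φ : MulAut ↥(Cfsg.Sz F m) := MulAut.conj g with hφ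
  have hPm : ((g • P₀ : Sylow 2 ↥(Cfsg.Sz F m)) : Subgroup ↥(Cfsg.Sz F m)) =
      (P₀ : Subgroup ↥(Cfsg.Sz F m)).map φ.toMonoidHom := rfl
  rw [hPm]
  rw [← Subgroup.map_equiv_normalizer_eq]
  refine ⟨(φ.mapSubgroup.isCoatom_iff _).2 key.1, fun M hM hle => ?_⟩
  obtain ⟨M', rfl⟩ := φ.mapSubgroup.surjective M
  exact congrArg φ.mapSubgroup (key.2 M' ((φ.mapSubgroup.isCoatom_iff _).1 hM)
    (φ.mapSubgroup.le_iff_le.1 hle))

end Cfsg.Agent.S2247
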