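import Cfsg.Statements.S2251
import Cfsg.Agent.Lib.Recognition.Suzuki.Subgroups

set_option autoImplicit false
open Cfsg

namespace Cfsg.Agent.S2251

/-- The subgroups of the Suzuki group: with q = 2^(2m+1), m ≥ 1, r = 2^m and the group realised as the stabiliser in SL₄ of the Suzuki–Tits ovoid, every proper subgroup is contained in the normalizer of a Sylow 2-subgroup, or in the normalizer of a cyclic subgroup of order q − 1, q + 2r + 1 or q − 2r + 1, or in a subgroup isomorphic to a smaller Suzuki group Sz(s) with s = 2^(2k+1) ≥ 8 and 2k+1 a proper divisor of 2m+1. -/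
theorem result {F : Type*} [Field F] [Fintype F] {m : ℕ} (hm : 1 ≤ m) (hF : Fintype.card F = 2 ^ (2 * m + 1)) (M : Subgroup ↥(Cfsg.Sz F m)) (hM : M ≠ ⊤) :
    (∃ P : Sylow 2 ↥(Cfsg.Sz F m), M ≤ Subgroup.normalizer ((P : Subgroup ↥(Cfsg.Sz F m)) : Set ↥(Cfsg.Sz F m))) ∨
    (∃ U : Subgroup ↥(Cfsg.Sz F m), IsCyclic ↥U ∧ Nat.card ↥U ∈ ({2 ^ (2 * m + 1) - 1, 2 ^ (2 * m + 1) + 2 ^ (m + 1) + 1, 2 ^ (2 * m + 1) - 2 ^ (m + 1) + 1} : Set ℕ) ∧
      M ≤ Subgroup.normalizer (U : Set ↥(Cfsg.Sz F m))) ∨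
    (∃ (K : Type) (_ : Field K) (_ : Fintype K) (k : ℕ), 1 ≤ k ∧ k < m ∧ Fintype.card K = 2 ^ (2 * k + 1) ∧ 2 * k + 1 ∣ 2 * m + 1 ∧
      ∃ S : Subgroup ↥(Cfsg.Sz F m), Nonempty (↥S ≃* ↥(Cfsg.Sz K k)) ∧ M ≤ S) := by
  haveI : CharP F 2 := CfsgLib.Suzuki.charTwo hF
  haveI : Fact (Nat.Prime 2) := ⟨Nat.prime_two⟩
  set e := CfsgLib.Suzuki.equiv hF hm with he
  have hM' : M = (M.comap e.toMonoidHom).map e.toMonoidHom :=
    (Subgroup.map_comap_eq_self_of_surjective e.surjective M).symm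
  have hnorm : ∀ U : Subgroup ↥(Cfsg.Lie.Sz F (2 ^ (m + 1))),
      M.comap e.toMonoidHom ≤ Subgroup.normalizer (U : Set ↥(Cfsg.Lie.Sz F (2 ^ (m + 1)))) →
      M ≤ Subgroup.normalizer ((U.map e.toMonoidHom : Subgroup ↥(Cfsg.Sz F m)) : Set ↥(Cfsg.Sz F m)) := fun U h => by
    rw [hM', ← Subgroup.map_equiv_normalizer_eq U e]
    exact Subgroup.map_mono h
  rcases CfsgLib.Recognition.SzSub.subgroup_cases hF hm (M.comap e.toMonoidHom) with
    ⟨P, hP⟩ | ⟨U, hc, hcard, hU⟩ | ⟨g, k, hk, hdiv, hgk⟩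
  · exact Or.inl ⟨Sylow.mapSurjective (f := e.toMonoidHom) e.surjective P, hnorm P hP⟩
  · refine Or.inr (Or.inl ⟨U.map e.toMonoidHom, ?_, ?_, hnorm U hU⟩)
    · haveI := hc
      exact isCyclic_of_surjective (U.equivMapOfInjective e.toMonoidHom e.injective).toMonoidHom
        (U.equivMapOfInjective _ e.injective).surjective
    · rwa [Nat.card_congr (U.equivMapOfInjective e.toMonoidHom e.injective).toEquiv.symm]
  · haveI : Fintype (GaloisField 2 (2 * k + 1)) := Fintype.ofFinite _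
    have hK : Fintype.card (GaloisField 2 (2 * k + 1)) = 2 ^ (2 * k + 1) := by
      rw [← Nat.card_eq_fintype_card, GaloisField.card 2 _ (by omega)]
    have hkm : k < m := by
      have hle := Nat.le_of_dvd (by omega) hdiv
      by_contra hne
      obtain rfl : k = m := by omega
      rw [CfsgLib.Recognition.SzSub.sub_top hF,
        Subgroup.map_top_of_surjective (MulAut.conj g).toMonoidHom (MulAut.conj g).surjective] at hgk
      refine hM ?_
      rw [hM', hgk, Subgroup.map_top_of_surjective e.toMonoidHom e.surjective]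
    obtain ⟨f⟩ := CfsgLib.Recognition.SzSub.nonempty_sub_equiv hF hK hdiv
    refine Or.inr (Or.inr ⟨GaloisField 2 (2 * k + 1), inferInstance, inferInstance, k, hk, hkm, hK, hdiv,
      ((CfsgLib.Recognition.SzSub.sub hF (2 * k + 1)).map (MulAut.conj g).toMonoidHom).map e.toMonoidHom,
      ⟨?_⟩, le_of_eq (hM'.trans (by rw [hgk]))⟩)
    exact ((((CfsgLib.Recognition.SzSub.sub hF (2 * k + 1)).equivMapOfInjective (MulAut.conj g).toMonoidHom
      (MulAut.conj g).injective).trans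
      (((CfsgLib.Recognition.SzSub.sub hF (2 * k + 1)).map (MulAut.conj g).toMonoidHom).equivMapOfInjective
        e.toMonoidHom e.injective)).symm.trans f).trans (CfsgLib.Suzuki.equiv hK hk)

end Cfsg.Agent.S2251
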