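import Cfsg.Statements.S2259
import Cfsg.Agent.Lib.Recognition.Suzuki.SolubilizerFour

set_option autoImplicit false
open Cfsg

namespace Cfsg.Agent.S2259

/-- Let G be the Suzuki group Sz(q), q = 2^(2m+1) with 2m + 1 prime and m ≥ 1, realised inside Sp_4(F) for F the field of order q, write r = 2^(m+1) (so r² = 2q), and for x ∈ G call the solubilizer of x the set of y ∈ G such that x and y generate a solvable subgroup. Then the solubilizer of an involution has q²(4q − 3) elements; that of an element of order 4 has q²(q + 3) elements; that of a non-identity element of order dividing q − 1 has 2q²(q − 1) elements; that of a non-identity element of order dividing q + r + 1 has 4(q + r + 1) elements; and that of a non-identity element of order dividing q − r + 1 has 4(q − r + 1) elements. -/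
theorem result {F : Type*} [Field F] [Fintype F] {m : ℕ} (hm : 1 ≤ m)
    (hp : (2 * m + 1).Prime) (hF : Fintype.card F = 2 ^ (2 * m + 1)) (x : ↥(Cfsg.Lie.Sz F (2 ^ (m + 1)))) :
    (orderOf x = 2 → Nat.card {y : ↥(Cfsg.Lie.Sz F (2 ^ (m + 1))) // Group.IsSolvable ↥(Subgroup.closure ({x, y} : Set (↥(Cfsg.Lie.Sz F (2 ^ (m + 1))))))} = (2 ^ (2 * m + 1)) ^ 2 * (4 * 2 ^ (2 * m + 1) - 3)) ∧
    (orderOf x = 4 → Nat.card {y : ↥(Cfsg.Lie.Sz F (2 ^ (m + 1))) // Group.IsSolvable ↥(Subgroup.closure ({x, y} : Set (↥(Cfsg.Lie.Sz F (2 ^ (m + 1))))))} = (2 ^ (2 * m + 1)) ^ 2 * (2 ^ (2 * m + 1) + 3)) ∧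
    (x ≠ 1 → orderOf x ∣ 2 ^ (2 * m + 1) - 1 →
      Nat.card {y : ↥(Cfsg.Lie.Sz F (2 ^ (m + 1))) // Group.IsSolvable ↥(Subgroup.closure ({x, y} : Set (↥(Cfsg.Lie.Sz F (2 ^ (m + 1))))))} = 2 * (2 ^ (2 * m + 1)) ^ 2 * (2 ^ (2 * m + 1) - 1)) ∧
    (x ≠ 1 → orderOf x ∣ 2 ^ (2 * m + 1) + 2 ^ (m + 1) + 1 → Nat.card {y : ↥(Cfsg.Lie.Sz F (2 ^ (m + 1))) // Group.IsSolvable ↥(Subgroup.closure ({x, y} : Set (↥(Cfsg.Lie.Sz F (2 ^ (m + 1))))))} = 4 * (2 ^ (2 * m + 1) + 2 ^ (m + 1) + 1)) ∧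
    (x ≠ 1 → orderOf x ∣ 2 ^ (2 * m + 1) - 2 ^ (m + 1) + 1 → Nat.card {y : ↥(Cfsg.Lie.Sz F (2 ^ (m + 1))) // Group.IsSolvable ↥(Subgroup.closure ({x, y} : Set (↥(Cfsg.Lie.Sz F (2 ^ (m + 1))))))} = 4 * (2 ^ (2 * m + 1) - 2 ^ (m + 1) + 1)) := by
  haveI : CharP F 2 := CfsgLib.Suzuki.charTwo hF
  open CfsgLib CfsgLib.Suzuki CfsgLib.Recognition in
  have hpos : ∀ x : ↥(Cfsg.Lie.Sz F (2 ^ (m + 1))), Nat.card {y : ↥(Cfsg.Lie.Sz F (2 ^ (m + 1))) //
      Group.IsSolvable ↥(Subgroup.closure ({x, y} : Set (↥(Cfsg.Lie.Sz F (2 ^ (m + 1))))))} = (SzSol.sol x).ncard :=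
    fun x => Nat.card_coe_set_eq _
  open CfsgLib CfsgLib.Suzuki CfsgLib.Recognition in
  refine ⟨fun h2 => ?_, fun h4 => ?_, fun hx hd => ?_, fun hx hd => ?_, fun hx hd => ?_⟩ <;> rw [hpos]
  · obtain ⟨p, hz⟩ := CfsgLib.Recognition.SzSol.exists_inv1 hF hm h2
    rw [CfsgLib.Recognition.SzSol.ncard_sol_involution hF hm hz, hF]
  · have h2 : orderOf (x * x) = 2 :=
      (congrArg orderOf (pow_two x).symm).trans
        ((orderOf_pow_of_dvd (by omega) (h4.symm ▸ (by omega : 2 ∣ 4))).trans (by rw [h4]))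
    obtain ⟨p, hz⟩ := CfsgLib.Recognition.SzSol.exists_inv1 hF hm h2
    rw [CfsgLib.Recognition.SzSol.ncard_sol_four hF hm hz, hF]
  · have h2 : 2 ∣ 2 ^ (2 * m + 1) := dvd_pow_self 2 (by omega)
    have hodd : Odd (orderOf x) := (Nat.odd_iff.2 (by
      have := Nat.two_pow_pos (2 * m + 1)
      omega) : Odd (2 ^ (2 * m + 1) - 1)).of_dvd_nat hd
    have hf : ¬ CfsgLib.Suzuki.Fpf hF x := fun hf => by
      obtain ⟨hC, -⟩ := CfsgLib.Recognition.SzPartition.centralizer_card hF hm hf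
      have hxt := Subgroup.orderOf_dvd_natCard _ (CfsgLib.Recognition.SzNorm.self_mem_tor x)
      have hdvd : orderOf x ∣ Fintype.card F ^ 2 + 1 := by
        rw [hF, ← CfsgLib.Recognition.SzPartition.orders_mul m]
        rcases hC with e | e <;> rw [e] at hxt
        · exact Dvd.dvd.mul_right hxt _
        · exact Dvd.dvd.mul_left hxt _
      rw [← hF] at hd
      exact hx (orderOf_eq_one_iff.1 (Nat.eq_one_of_dvd_coprimes (CfsgLib.Suzuki.coprime_fix hF) hdvd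
        (Dvd.dvd.mul_left hd _)))
    rw [CfsgLib.Recognition.SzSol.ncard_sol_torus hF hm hodd hx hf, hF]
  · obtain ⟨hf, hodd, hc⟩ := CfsgLib.Recognition.SzSol.card_tor_of_dvd hF hm hx (Or.inl rfl) hd
    rw [CfsgLib.Recognition.SzSol.ncard_sol_fpf hF hm hodd hf, hc]
  · obtain ⟨hf, hodd, hc⟩ := CfsgLib.Recognition.SzSol.card_tor_of_dvd hF hm hx (Or.inr rfl) hd
    rw [CfsgLib.Recognition.SzSol.ncard_sol_fpf hF hm hodd hf, hc]

end Cfsg.Agent.S2259
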