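import Cfsg.Statements.S2260
-- import your own Cfsg.Agent.* helpers here

set_option autoImplicit false
open Cfsg

namespace Cfsg.Agent.S2260

/-- Let F be a finite field of prime characteristic p and u an invertible d × d matrix over F with u − 1 nilpotent (a unipotent element). Then the order of u is at most p^⌈log_p d⌉; and if moreover (u − 1)^(d−1) ≠ 0 (u is a single Jordan block) then the order of u is exactly p^⌈log_p d⌉. -/
theorem result {F : Type*} [Field F] [Finite F] (p : ℕ) [Fact p.Prime] [CharP F p] (d : ℕ)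
    (u : GL (Fin d) F) (hu : IsNilpotent ((u : Matrix (Fin d) (Fin d) F) - 1)) :
    orderOf u ≤ p ^ Nat.clog p d ∧
    (((u : Matrix (Fin d) (Fin d) F) - 1) ^ (d - 1) ≠ 0 → orderOf u = p ^ Nat.clog p d) := by
  have hp : p.Prime := Fact.out
  set N : Matrix (Fin d) (Fin d) F := (u : Matrix (Fin d) (Fin d) F) - 1 with hN
  rcases Nat.eq_zero_or_pos d with hd | hd
  · subst hd
    have : u = 1 := Subsingleton.elim _ _
    subst this
    simp
  have hNd : N ^ d = 0 := by
    have h := (Matrix.isNilpotent_charpoly_sub_pow_of_isNilpotent hu)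
    have h2 : N.charpoly - Polynomial.X ^ (Fintype.card (Fin d)) = 0 := IsNilpotent.eq_zero h
    have h3 := Matrix.aeval_self_charpoly N
    rw [sub_eq_zero.mp h2] at h3
    simpa using h3
  have hpow : ∀ k : ℕ, ((u : Matrix (Fin d) (Fin d) F)) ^ (p ^ k) = 1 + N ^ (p ^ k) := by
    intro k
    haveI : Nonempty (Fin d) := ⟨⟨0, hd⟩⟩
    have hu1 : (u : Matrix (Fin d) (Fin d) F) = 1 + N := by simp [hN]
    conv_lhs => rw [hu1]
    rw [add_pow_char_pow_of_commute (p := p) (n := k) (Commute.one_left N), one_pow]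
  set k := Nat.clog p d with hk
  have hone : u ^ (p ^ k) = 1 := by
    apply Units.ext
    rw [Units.val_pow_eq_pow_val, hpow k, Units.val_one]
    have : d ≤ p ^ k := Nat.le_pow_clog hp.one_lt d
    rw [pow_eq_zero_of_le this hNd, add_zero]
  refine ⟨orderOf_le_of_pow_eq_one (pow_pos hp.pos _) hone, fun hne => ?_⟩
  rcases Nat.eq_zero_or_pos k with hk0 | hk0
  · rw [hk0, pow_zero] at hone ⊢
    rw [pow_one] at hone
    simp [hone]
  obtain ⟨j, hj⟩ : ∃ j, k = j + 1 := ⟨k - 1, by omega⟩
  rw [hj]
  apply orderOf_eq_prime_pow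
  · intro h
    apply hne
    have h' := congrArg (fun v : GL (Fin d) F => (v : Matrix (Fin d) (Fin d) F)) h
    simp only [Units.val_pow_eq_pow_val, Units.val_one] at h'
    rw [hpow j] at h'
    have hz : N ^ (p ^ j) = 0 := by simpa using h'
    have hlt : p ^ j < d := by
      by_contra hc
      have : Nat.clog p d ≤ j := (Nat.clog_le_iff_le_pow hp.one_lt).mpr (by omega)
      omega
    exact pow_eq_zero_of_le (by omega) hz
  · rw [← hj]; exact hone

end Cfsg.Agent.S2260
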