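import Cfsg.Statements.S2261
import Cfsg.Agent.Lib.Classical.GLOrder
import Cfsg.Agent.Lib.KnownSimple.GLBasics

set_option autoImplicit false
open Cfsg

namespace Cfsg.Agent.S2261

theorem card_units_add_one_le {K R : Type*} [CommSemiring K] [Ring R] [Nontrivial R] [Finite R] [Algebra K R]
    (B : Subalgebra K R) (S : Subgroup Rˣ) (h : ∀ x ∈ S, (x : R) ∈ B) : Nat.card S + 1 ≤ Nat.card B := by
  classical
  let f : Option S → B := fun o => o.elim 0 fun x => ⟨(x.1 : R), h x.1 x.2⟩
  have hf : Function.Injective f := by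
    rintro (_ | a) (_ | b) hab
    · rfl
    · exact absurd (congrArg Subtype.val hab).symm b.1.ne_zero
    · exact absurd (congrArg Subtype.val hab) a.1.ne_zero
    · exact congrArg some (Subtype.ext (Units.ext (congrArg Subtype.val hab :)))
  have := Nat.card_le_card_of_injective f hf
  rwa [Finite.card_option] at this

/-- Let F be a finite field with q elements and d ≥ 1. Then every element of PGL_d(F) = GL_d(F)/Z has order at most (q^d − 1)/(q − 1), and some element (the image of a Singer cycle) has exactly this order. -/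
theorem result {F : Type*} [Field F] [Fintype F] (d : ℕ) (hd : 1 ≤ d) :
    (∀ g : (GL (Fin d) F ⧸ Subgroup.center (GL (Fin d) F)), (Fintype.card F - 1) * orderOf g ≤ Fintype.card F ^ d - 1) ∧
    (∃ g : (GL (Fin d) F ⧸ Subgroup.center (GL (Fin d) F)), (Fintype.card F - 1) * orderOf g = Fintype.card F ^ d - 1) := by
  classical
  haveI : Nonempty (Fin d) := ⟨⟨0, hd⟩⟩
  set Z := Subgroup.center (GL (Fin d) F) with hZ
  have hZc : Nat.card Z = Fintype.card F - 1 := by
    rw [hZ, CfsgLib.Classical.card_center_GL, Nat.card_units, Nat.card_eq_fintype_card]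
  have hker : ∀ S : Subgroup (GL (Fin d) F), Z ≤ S →
      Nat.card S = Nat.card Z * Nat.card (S.map (QuotientGroup.mk' Z)) := by
    intro S hS
    have h := Subgroup.card_mul_index ((QuotientGroup.mk' Z).comp S.subtype).ker
    rw [Subgroup.index_ker, MonoidHom.range_comp, Subgroup.range_subtype] at h
    rw [← h]
    congr 1
    refine (Nat.card_congr (Equiv.ofBijective
      (fun z : Z => (⟨⟨z.1, hS z.2⟩, (QuotientGroup.eq_one_iff _).mpr z.2⟩ :
        ((QuotientGroup.mk' Z).comp S.subtype).ker)) ⟨?_, ?_⟩)).symm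
    · intro a b hab
      exact Subtype.ext (congrArg (fun x => (x.1.1 : GL (Fin d) F)) hab)
    · rintro ⟨⟨x, hx⟩, hx'⟩
      exact ⟨⟨x, (QuotientGroup.eq_one_iff _).mp hx'⟩, rfl⟩
  constructor
  · intro g
    obtain ⟨g, rfl⟩ := QuotientGroup.mk'_surjective Z g
    let M : Matrix (Fin d) (Fin d) F := (g : Matrix (Fin d) (Fin d) F)
    obtain ⟨B, hBdef⟩ : ∃ B : Subalgebra F (Matrix (Fin d) (Fin d) F), B = Algebra.adjoin F ({M} : Set (Matrix (Fin d) (Fin d) F)) := ⟨_, rfl⟩
    let S : Subgroup (GL (Fin d) F) :=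
      { carrier := {x | (x : Matrix (Fin d) (Fin d) F) ∈ B}
        one_mem' := B.one_mem
        mul_mem' := fun {a b} ha hb => B.mul_mem ha hb
        inv_mem' := fun {a} ha => by
          obtain ⟨k, hk, hk1⟩ : ∃ k, 0 < k ∧ a ^ k = 1 := ⟨orderOf a, orderOf_pos a, pow_orderOf_eq_one a⟩
          obtain ⟨j, rfl⟩ : ∃ j, k = j + 1 := ⟨k - 1, by omega⟩
          show ((a⁻¹ : GL (Fin d) F) : Matrix (Fin d) (Fin d) F) ∈ B
          rw [show a⁻¹ = a ^ j from inv_eq_of_mul_eq_one_left (by rw [← pow_succ, hk1]),
            Units.val_pow_eq_pow_val]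
          exact B.pow_mem ha j }
    have hgS : g ∈ S := by
      show M ∈ B
      rw [hBdef]
      exact Algebra.subset_adjoin (Set.mem_singleton M)
    have hZS : Z ≤ S := by
      intro z hz
      obtain ⟨c, hc⟩ := Matrix.GeneralLinearGroup.mem_center_iff_val_mem_range_scalar.mp hz
      show (z : Matrix (Fin d) (Fin d) F) ∈ B
      rw [← hc]
      exact B.algebraMap_mem c
    have hdim : Module.finrank F B ≤ d := by
      let T : Polynomial.degreeLT F d →ₗ[F] Matrix (Fin d) (Fin d) F :=
        (Polynomial.aeval M).toLinearMap ∘ₗ (Polynomial.degreeLT F d).subtype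
      have hle : Subalgebra.toSubmodule B ≤ LinearMap.range T := by
        intro x hx
        rw [hBdef, Algebra.adjoin_singleton_eq_range_aeval] at hx
        obtain ⟨p, rfl⟩ := hx
        have hmon := Matrix.charpoly_monic M
        refine ⟨⟨p %ₘ M.charpoly, ?_⟩, ?_⟩
        · rw [Polynomial.mem_degreeLT]
          refine (Polynomial.degree_modByMonic_lt p hmon).trans_le ?_
          rw [Polynomial.degree_eq_natDegree hmon.ne_zero, Matrix.charpoly_natDegree_eq_dim, Fintype.card_fin]
        · exact Polynomial.aeval_modByMonic_eq_self_of_root (Matrix.aeval_self_charpoly M)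
      refine (Submodule.finrank_mono hle).trans ((LinearMap.finrank_range_le T).trans_eq ?_)
      rw [(Polynomial.degreeLTEquiv F d).finrank_eq, Module.finrank_fin_fun]
    have hB : Nat.card B ≤ Fintype.card F ^ d := by
      rw [Module.natCard_eq_pow_finrank (K := F), Nat.card_eq_fintype_card]
      exact Nat.pow_le_pow_right Fintype.card_pos hdim
    have hS : Nat.card S + 1 ≤ Nat.card B := by
      exact card_units_add_one_le B S fun x hx => hx
    have h1 : orderOf (QuotientGroup.mk' Z g) ≤ Nat.card (S.map (QuotientGroup.mk' Z)) := by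
      rw [← Subgroup.orderOf_mk _ (Subgroup.mem_map_of_mem _ hgS)]
      exact orderOf_le_card
    have h2 := hker S hZS
    rw [hZc] at h2
    calc (Fintype.card F - 1) * orderOf (QuotientGroup.mk' Z g) ≤ Nat.card S := by
          rw [h2]; exact Nat.mul_le_mul_left _ h1
      _ ≤ Fintype.card F ^ d - 1 := by omega
  · obtain ⟨L, _, _, _, φ, -, hcard, hinj, -⟩ := CfsgLib.KnownSimple.exists_extension_matrix (F := F) d hd
    obtain ⟨ζ, hζ⟩ := IsCyclic.exists_generator (α := Lˣ)
    let ψ : Lˣ →* GL (Fin d) F := Units.map φ.toRingHom.toMonoidHom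
    have hψ : Function.Injective ψ := fun a b h => Units.ext (hinj (congrArg Units.val h))
    have hZS : Z ≤ ψ.range := by
      intro z hz
      obtain ⟨c, hc⟩ := Matrix.GeneralLinearGroup.mem_center_iff_val_mem_range_scalar.mp hz
      have hc0 : c ≠ 0 := by
        intro h
        rw [h, map_zero] at hc
        exact z.ne_zero hc.symm
      refine ⟨Units.mk0 (algebraMap F L c) (by simpa using hc0), Units.ext ?_⟩
      show φ (algebraMap F L c) = _
      rw [AlgHom.commutes, ← hc]
      rfl
    refine ⟨QuotientGroup.mk' Z (ψ ζ), ?_⟩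
    have h2 := hker ψ.range hZS
    rw [hZc, ← Nat.card_congr (MonoidHom.ofInjective hψ).toEquiv, Nat.card_units, Nat.card_eq_fintype_card,
      hcard] at h2
    rw [h2]
    congr 1
    rw [← Nat.card_zpowers]
    congr 2
    rw [← MonoidHom.map_zpowers, ← MonoidHom.map_zpowers, MonoidHom.range_eq_map,
      show Subgroup.zpowers ζ = ⊤ from (Subgroup.eq_top_iff' _).mpr hζ]

end Cfsg.Agent.S2261
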