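import Cfsg.Statements.S2263
import Cfsg.Agent.Lib.Known.PGUOrder.Upper
import Cfsg.Agent.Lib.Known.PGUOrder.Witness

set_option autoImplicit false
open Cfsg

namespace Cfsg.Agent.S2263

open CfsgLib.Known.PGUOrder CfsgLib.Classical in
theorem upper {F : Type*} [Field F] [Fintype F] {p f d q : ℕ} [Fact p.Prime] [CharP F p] (hf : 1 ≤ f) (hq : q = p ^ f)
    (hF : Fintype.card F = q ^ 2) (hd : 3 ≤ d) (h32 : ¬ (d = 3 ∧ q = 2))
    (x : ↥(Cfsg.GU d F q) ⧸ Subgroup.center ↥(Cfsg.GU d F q)) :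
    orderOf x ≤ q ^ (d - 1) - 1 ∨ orderOf x ≤ semiBound q d ∨ orderOf x ≤ semiBound q (d - 1) * p ∨
      (p = 2 ∧ orderOf x ≤ semiBound q (d - 2) * 4) := by
  obtain ⟨g, rfl⟩ := QuotientGroup.mk'_surjective _ x
  obtain ⟨σ, hσ, hσσ, -⟩ := exists_qPow hF
  obtain ⟨N, S, E, u, c, hN, hS, hE, hSE, hu, hb, hdvd⟩ := poly_bound (p := p) hσ hσσ hF (by omega) h32 hd
    (Matrix.charpoly_monic (guMat d F q g)) ((Matrix.charpoly_natDegree_eq_dim _).trans (Fintype.card_fin d))
    (CfsgLib.SSClasses.coeff_zero_ne_zero (g : GL (Fin d) F))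
    (SUSemisimple.dualPoly_charpoly_gu σ hF hσ ((GUConj.mem_gu_iff_starQ hF _).1 g.2))
  have hsc : guMat d F q (g ^ N) = Matrix.scalar (Fin d) c := by
    obtain ⟨R, hR⟩ := hdvd
    have h := congrArg (Polynomial.aeval (guMat d F q g)) hR
    rw [map_mul, Matrix.aeval_self_charpoly, zero_mul, map_sub, map_pow, Polynomial.aeval_X, Polynomial.aeval_C,
      sub_eq_zero] at h
    rw [map_pow, h]
    rfl
  have hle : orderOf (QuotientGroup.mk' (Subgroup.center ↥(Cfsg.GU d F q)) g) ≤ N := by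
    refine Nat.le_of_dvd hN (orderOf_dvd_of_pow_eq_one ?_)
    rw [← map_pow]
    exact (QuotientGroup.eq_one_iff _).2 (mem_center_of_scalar hsc)
  rcases hb with hb | hb
  swap
  · exact Or.inl (hle.trans hb)
  have hle' := hle.trans hb
  rcases bound_cases (Fact.out : p.Prime) hf hq hd h32 hS hE hSE hu with h | ⟨rfl, rfl⟩ | ⟨rfl, rfl⟩ | ⟨hp2, rfl, rfl⟩
  · exact Or.inl (hle'.trans h)
  · rw [pow_zero, mul_one] at hle'
    exact Or.inr (Or.inl hle')
  · rw [pow_one] at hle'
    exact Or.inr (Or.inr (Or.inl hle'))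
  · subst hp2
    exact Or.inr (Or.inr (Or.inr ⟨rfl, hle'⟩))

/-- Let q = p^f with p prime and f ≥ 1, F a field with q² elements, d ≥ 3 with (d, q) ≠ (3, 2), and PGU_d(q) the general unitary group of the standard Hermitian form modulo its centre. Then the largest order of an element of PGU_d(q) is: q^(d−1) − 1 if d is odd and f ≥ 2; (p^(d−2) + 1)p if d is odd and f = 1; q^(d−1) + 1 if d is even and q > 2; 4(2^(d−3) + 1) if d is even and q = 2. -/
theorem result {F : Type*} [Field F] [Fintype F] (p f d : ℕ) (hp : p.Prime) (hf : 1 ≤ f) (q : ℕ) (hq : q = p ^ f)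
    (hF : Fintype.card F = q ^ 2) (hd : 3 ≤ d) (h32 : ¬ (d = 3 ∧ q = 2)) :
    (Odd d → 2 ≤ f → (∀ g : (↥(Cfsg.GU d F q) ⧸ Subgroup.center ↥(Cfsg.GU d F q)), orderOf g ≤ q ^ (d - 1) - 1) ∧ ∃ g : (↥(Cfsg.GU d F q) ⧸ Subgroup.center ↥(Cfsg.GU d F q)), orderOf g = q ^ (d - 1) - 1) ∧
    (Odd d → f = 1 → (∀ g : (↥(Cfsg.GU d F q) ⧸ Subgroup.center ↥(Cfsg.GU d F q)), orderOf g ≤ (p ^ (d - 2) + 1) * p) ∧ ∃ g : (↥(Cfsg.GU d F q) ⧸ Subgroup.center ↥(Cfsg.GU d F q)), orderOf g = (p ^ (d - 2) + 1) * p) ∧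
    (Even d → 2 < q → (∀ g : (↥(Cfsg.GU d F q) ⧸ Subgroup.center ↥(Cfsg.GU d F q)), orderOf g ≤ q ^ (d - 1) + 1) ∧ ∃ g : (↥(Cfsg.GU d F q) ⧸ Subgroup.center ↥(Cfsg.GU d F q)), orderOf g = q ^ (d - 1) + 1) ∧
    (Even d → q = 2 → (∀ g : (↥(Cfsg.GU d F q) ⧸ Subgroup.center ↥(Cfsg.GU d F q)), orderOf g ≤ 4 * (2 ^ (d - 3) + 1)) ∧ ∃ g : (↥(Cfsg.GU d F q) ⧸ Subgroup.center ↥(Cfsg.GU d F q)), orderOf g = 4 * (2 ^ (d - 3) + 1)) := by
  classical
  haveI : Fact p.Prime := ⟨hp⟩
  haveI : CharP F p := by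
    obtain ⟨p', hp'⟩ := CharP.exists F
    obtain ⟨a, hp'p, ha⟩ := FiniteField.card F p'
    rw [hF, hq, ← pow_mul] at ha
    obtain rfl : p' = p := (Nat.prime_dvd_prime_iff_eq hp'p hp).1
      (hp'p.dvd_of_dvd_pow (ha ▸ dvd_pow_self p' a.pos.ne' : p' ∣ p ^ (f * 2)))
    exact hp'
  obtain ⟨σ, hσ, -, -⟩ := CfsgLib.Transvec.Unitary.exists_frob hF
  have hp2 := hp.two_le
  have hpq : p ≤ q := hq ▸ Nat.le_self_pow (by omega) p
  have hq2 : 2 ≤ q := by omega
  have key := upper (F := F) hf hq hF hd h32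
  obtain ⟨e, rfl⟩ : ∃ e, d = e + 3 := ⟨d - 3, by omega⟩
  simp only [CfsgLib.Known.PGUOrder.semiBound, show e + 3 - 1 = e + 2 by omega, show e + 3 - 2 = e + 1 by omega,
    show e + 1 + 1 = e + 2 from rfl, if_neg (show e + 3 ≠ 1 by omega), if_neg (show e + 2 ≠ 1 by omega),
    show e + 2 - 1 = e + 1 by omega, show e + 1 - 1 = e by omega] at key ⊢
  have e2 : q ^ (e + 2) = q ^ e * q * q := by rw [pow_succ, pow_succ]
  have e1 : q ^ (e + 1) = q ^ e * q := pow_succ q e
  have hqe : 1 ≤ q ^ e := Nat.one_le_pow _ _ (by omega)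
  have hqq : 4 ≤ q * q := Nat.mul_le_mul hq2 hq2
  have hq1 : 1 ≤ q ^ (e + 2) := Nat.one_le_pow _ _ (by omega)
  refine ⟨fun hodd hf2 => ?_, fun hodd hf1 => ?_, fun heven hq3 => ?_, fun heven hq22 => ?_⟩
  · -- odd degree, non-prime field
    have hev : Even (e + 2) := by rw [Nat.odd_iff] at hodd; rw [Nat.even_iff]; omega
    have ho1 : Odd (e + 1) := by rw [Nat.odd_iff] at hodd ⊢; omega
    have hee : Even e := by rw [Nat.odd_iff] at hodd; rw [Nat.even_iff]; omega
    have hpp : p * p ≤ q := by rw [hq, ← sq]; exact Nat.pow_le_pow_right (by omega) hf2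
    refine ⟨fun g => ?_, ?_⟩
    · rcases key g with h | h | h | ⟨h2, h⟩
      · exact h
      · rwa [CfsgLib.Known.PGUOrder.blockOrd_even hev] at h
      · refine h.trans ?_
        rw [CfsgLib.Known.PGUOrder.blockOrd_odd ho1, e1, e2]
        have h6 : q ^ e * q * (p * 2) ≤ q ^ e * q * q := Nat.mul_le_mul_left _ (le_trans (Nat.mul_le_mul_left _ hp2) hpp)
        have h7 : p < q ^ e * q * p := by
          have : 2 ≤ q ^ e * q := le_trans hq2 (Nat.le_mul_of_pos_left _ hqe)
          calc p < 2 * p := by omega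
            _ ≤ q ^ e * q * p := Nat.mul_le_mul_right _ this
        have h8 : q ^ e * q * (p * 2) = q ^ e * q * p * 2 := by ring
        rw [add_mul, one_mul]
        omega
      · refine h.trans ?_
        subst h2
        split_ifs with he
        · have hee0 : e = 0 := by omega
          subst hee0
          have : 4 * 4 ≤ q * q := Nat.mul_le_mul hpp hpp
          rw [e2]
          simp only [pow_zero, one_mul] at *
          omega
        · rw [CfsgLib.Known.PGUOrder.blockOrd_even hee, e2]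
          have : 4 * 4 ≤ q * q := Nat.mul_le_mul hpp hpp
          have h9 : q ^ e * 4 ≤ q ^ e * (q * q) := Nat.mul_le_mul_left _ (by omega)
          rw [mul_assoc] at *
          rw [Nat.sub_mul, one_mul]
          omega
    · obtain ⟨j, hj⟩ := hev
      obtain ⟨A, hA⟩ := CfsgLib.Known.PGUOrder.exists_pair hF (m := j) (by omega)
      have hd' : e + 3 = j + j + 1 := by omega
      obtain ⟨g, hg⟩ := CfsgLib.Known.PGUOrder.exists_block hF (p := p) (by omega : 1 ≤ j + j) (b := 1) le_rfl A 1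
        (j := 0) (one_pow _)
      rw [orderOf_one, Nat.lcm_one_right, hA, show 2 * j = e + 2 by omega] at hg
      rw [hd']
      exact ⟨g, hg⟩
  · -- odd degree, prime field
    subst hf1
    rw [pow_one] at hq
    subst hq
    have hev : Even (e + 2) := by rw [Nat.odd_iff] at hodd; rw [Nat.even_iff]; omega
    have ho1 : Odd (e + 1) := by rw [Nat.odd_iff] at hodd ⊢; omega
    have hee : Even e := by rw [Nat.odd_iff] at hodd; rw [Nat.even_iff]; omega
    refine ⟨fun g => ?_, ?_⟩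
    · rcases key g with h | h | h | ⟨h2, h⟩
      · refine h.trans ?_
        rw [e2, e1, add_mul, one_mul]
        omega
      · rw [CfsgLib.Known.PGUOrder.blockOrd_even hev] at h
        refine h.trans ?_
        rw [e2, e1, add_mul, one_mul]
        omega
      · rwa [CfsgLib.Known.PGUOrder.blockOrd_odd ho1] at h
      · refine h.trans ?_
        subst h2
        split_ifs with he
        · omega
        · rw [CfsgLib.Known.PGUOrder.blockOrd_even hee, e1]
          omega
    · obtain ⟨A, hA⟩ := CfsgLib.Known.PGUOrder.exists_torus hF hσ ho1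
      obtain ⟨B, hB⟩ := CfsgLib.Known.PGUOrder.exists_p hF hσ (p := q)
      obtain ⟨g, hg⟩ := CfsgLib.Known.PGUOrder.exists_block hF (p := q) (by omega : 1 ≤ e + 1) (b := 2) (by omega) A B
        (j := 1) (by rw [pow_one]; exact (congrArg (B ^ ·) hB).symm.trans (pow_orderOf_eq_one B))
      rw [hA, hB, Nat.Coprime.lcm_eq_mul (((Nat.Prime.coprime_iff_not_dvd hp).2 fun h =>
        hp.ne_one (Nat.dvd_one.1 ((Nat.dvd_add_right (dvd_pow_self q (by omega))).1 h))).symm)] at hg
      exact ⟨g, hg⟩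
  · -- even degree, more than two
    have ho : Odd (e + 2) := by rw [Nat.even_iff] at heven; rw [Nat.odd_iff]; omega
    have hev : Even (e + 1) := by rw [Nat.even_iff] at heven ⊢; omega
    have hoe : Odd e := by rw [Nat.even_iff] at heven; rw [Nat.odd_iff]; omega
    refine ⟨fun g => ?_, ?_⟩
    · rcases key g with h | h | h | ⟨h2, h⟩
      · omega
      · rwa [CfsgLib.Known.PGUOrder.blockOrd_odd ho] at h
      · refine h.trans ?_
        rw [CfsgLib.Known.PGUOrder.blockOrd_even hev, e1, e2]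
        exact (Nat.mul_le_mul (Nat.sub_le _ _) hpq).trans (Nat.le_succ _)
      · refine h.trans ?_
        subst h2
        have hee : e ≠ 0 := fun h => by rw [h] at hoe; exact absurd hoe (by decide)
        rw [if_neg (by omega), CfsgLib.Known.PGUOrder.blockOrd_odd hoe, e2, add_mul, one_mul, mul_assoc (q ^ e) q q]
        have h4 : 4 ≤ q := by
          rw [hq] at hq3 ⊢
          have hf2 : 2 ≤ f := by
            by_contra h
            rw [show f = 1 by omega, pow_one] at hq3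
            omega
          exact Nat.pow_le_pow_right (n := 2) (by omega) hf2
        have h16 : 4 * 4 ≤ q * q := Nat.mul_le_mul h4 h4
        have h9 : q ^ e * 8 ≤ q ^ e * (q * q) := Nat.mul_le_mul_left _ (by omega)
        omega
    · obtain ⟨A, hA⟩ := CfsgLib.Known.PGUOrder.exists_torus hF hσ ho
      obtain ⟨g, hg⟩ := CfsgLib.Known.PGUOrder.exists_block hF (p := p) (by omega : 1 ≤ e + 2) (b := 1) le_rfl A 1
        (j := 0) (one_pow _)
      rw [orderOf_one, Nat.lcm_one_right, hA] at hg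
      exact ⟨g, hg⟩
  · -- even degree over the field of four elements
    subst hq22
    obtain rfl : p = 2 := le_antisymm hpq hp2
    have ho : Odd (e + 2) := by rw [Nat.even_iff] at heven; rw [Nat.odd_iff]; omega
    have hev : Even (e + 1) := by rw [Nat.even_iff] at heven ⊢; omega
    have hoe : Odd e := by rw [Nat.even_iff] at heven; rw [Nat.odd_iff]; omega
    have hee : e ≠ 0 := fun h => by rw [h] at hoe; exact absurd hoe (by decide)
    simp only [Nat.add_sub_cancel]
    refine ⟨fun g => ?_, ?_⟩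
    · rcases key g with h | h | h | ⟨-, h⟩
      · omega
      · rw [CfsgLib.Known.PGUOrder.blockOrd_odd ho] at h; omega
      · rw [CfsgLib.Known.PGUOrder.blockOrd_even hev] at h; omega
      · rw [if_neg (by omega), CfsgLib.Known.PGUOrder.blockOrd_odd hoe] at h; omega
    · obtain ⟨A, hA⟩ := CfsgLib.Known.PGUOrder.exists_torus hF hσ hoe
      obtain ⟨B, hB⟩ := CfsgLib.Known.PGUOrder.exists_four hF hσ
      obtain ⟨g, hg⟩ := CfsgLib.Known.PGUOrder.exists_block hF (p := 2) (by omega : 1 ≤ e) (b := 3) (by omega) A B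
        (j := 2) ((congrArg (B ^ ·) hB).symm.trans (pow_orderOf_eq_one B))
      rw [hA, hB, Nat.Coprime.lcm_eq_mul (by
        refine Nat.Coprime.pow_right 2 (show (2 ^ e + 1).Coprime 2 from ?_)
        refine ((Nat.prime_two.coprime_iff_not_dvd).2 fun h => ?_).symm
        exact absurd (Nat.dvd_one.1 ((Nat.dvd_add_right (dvd_pow_self 2 hee)).1 h)) (by omega))] at hg
      exact ⟨g, hg.trans (mul_comm _ _)⟩

end Cfsg.Agent.S2263
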