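import Cfsg.Statements.S2264
import Cfsg.Agent.Lib.Known.ClassicalOrderBoundGroups
import Mathlib.LinearAlgebra.SymplecticGroup

set_option autoImplicit false
open Cfsg

namespace Cfsg.Agent.S2264

/-- Let F be a finite field with q elements and m ≥ 2. Then every element g of PSp_2m(F) satisfies (q − 1)·|g| ≤ q^(m+1), i.e. has order at most q^(m+1)/(q − 1). -/
theorem result {F : Type*} [Field F] [Fintype F] (m : ℕ) (hm : 2 ≤ m) (g : Cfsg.PSp m F) :
    (Fintype.card F - 1) * orderOf g ≤ Fintype.card F ^ (m + 1) := by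
  refine CfsgLib.Known.ClassicalOrderBound.orderOf_quotient_le
    (Submonoid.subtype (Matrix.symplecticGroup (Fin m) F)) Subtype.val_injective
    (Gm := Matrix.J (Fin m) F) ?_ (fun h => SymplecticGroup.mem_iff'.1 h.2)
    (fun h => SymplecticGroup.det_eq_one h.2) (Or.inl (by simp; omega)) g
  intro h0
  have h1 := congrArg Matrix.det (Matrix.J_squared (Fin m) F)
  rw [Matrix.det_mul, h0, zero_mul] at h1
  rw [Matrix.det_neg, Matrix.det_one, mul_one] at h1
  exact pow_ne_zero _ (neg_ne_zero.2 one_ne_zero) h1.symm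

end Cfsg.Agent.S2264
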