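import Cfsg.Statements.S2265
import Cfsg.Agent.Lib.Known.ClassicalOrderBoundGroups
import Cfsg.Agent.Lib.Classical.QuadPOmega

set_option autoImplicit false
open Cfsg

namespace Cfsg.Agent.S2265

/-- Let F be a finite field with q elements. Every element g of PΩ_(2m+1)(F) (m ≥ 3, q odd), of PΩ⁺_2m(F) (m ≥ 4), or of PΩ⁻_2m(F) (m ≥ 4, the form having an anisotropic binary part) satisfies (q − 1)·|g| ≤ q^(m+1), i.e. has order at most q^(m+1)/(q − 1). -/
theorem result {F : Type*} [Field F] [Fintype F] (m : ℕ) :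
    (3 ≤ m → Odd (Fintype.card F) → ∀ g : Cfsg.POmega F (Cfsg.quadFormOdd m F),
      (Fintype.card F - 1) * orderOf g ≤ Fintype.card F ^ (m + 1)) ∧
    (4 ≤ m → ∀ g : Cfsg.POmega F (Cfsg.quadFormPlus m F),
      (Fintype.card F - 1) * orderOf g ≤ Fintype.card F ^ (m + 1)) ∧
    (4 ≤ m → ∀ a b : F, (∀ z₁ z₂ : F, z₁ ^ 2 + a * z₁ * z₂ + b * z₂ ^ 2 = 0 → z₁ = 0 ∧ z₂ = 0) →
      ∀ g : Cfsg.POmega F (Cfsg.quadFormMinus (m - 1) F a b),
      (Fintype.card F - 1) * orderOf g ≤ Fintype.card F ^ (m + 1)) := by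
  refine ⟨fun hm hodd g => ?_, fun hm g => ?_, fun hm a b hab g => ?_⟩
  · have h2 := CfsgLib.Classical.two_ne_zero_of_odd_card hodd
    revert g
    rw [← CfsgLib.Classical.coe_qOdd]
    exact CfsgLib.Known.ClassicalOrderBound.orderOf_POmega_le _ (CfsgLib.Classical.polarNondeg_qOdd h2 m)
      (Or.inr ⟨by simp; omega, h2, hm⟩)
  · revert g
    rw [← CfsgLib.Classical.coe_qPlus]
    exact CfsgLib.Known.ClassicalOrderBound.orderOf_POmega_le _ (CfsgLib.Classical.polarNondeg_qPlus m)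
      (Or.inl (by simp; omega))
  · obtain ⟨k, rfl⟩ : ∃ k, m = k + 1 := ⟨m - 1, by omega⟩
    have key : ∀ g : Cfsg.POmega F ⇑(CfsgLib.Classical.qExt k (CfsgLib.Classical.qBin a b)),
        (Fintype.card F - 1) * orderOf g ≤ Fintype.card F ^ (k + 1 + 1) :=
      CfsgLib.Known.ClassicalOrderBound.orderOf_POmega_le _
        (CfsgLib.Classical.polarNondeg_qExt (CfsgLib.Classical.polarNondeg_qBin hab) k)
        (Or.inl (by simp; omega))
    rw [CfsgLib.Classical.coe_qExt_qBin] at key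
    exact key g

end Cfsg.Agent.S2265
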