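import Cfsg.Statements.S2268
-- import your own Cfsg.Agent.* helpers here

set_option autoImplicit false
open Cfsg

namespace Cfsg.Agent.S2268

/-- Let G be a finite group with an abelian Sylow p-subgroup P and let Q ≤ P. Then N_G(Q) = (N_G(Q) ∩ N_G(P))·C_G(Q), so that N_G(Q)/C_G(Q) is a homomorphic image of the subgroup (N_G(Q) ∩ N_G(P))/C_G(P) of N_G(P)/C_G(P); in particular the order of N_G(Q)/C_G(Q) divides the order of N_G(P)/C_G(P). -/
theorem result {G : Type*} [Group G] [Finite G] {p : ℕ} [Fact p.Prime]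
    (P : Sylow p G) (hP : IsMulCommutative (P : Subgroup G)) (Q : Subgroup G) (hQ : Q ≤ (P : Subgroup G)) :
    Subgroup.normalizer (Q : Set G) =
      (Subgroup.normalizer (Q : Set G) ⊓ Subgroup.normalizer ((P : Subgroup G) : Set G)) ⊔ Subgroup.centralizer (Q : Set G) ∧
    ((Subgroup.centralizer (Q : Set G)).subgroupOf (Subgroup.normalizer (Q : Set G))).index ∣ ((Subgroup.centralizer ((P : Subgroup G) : Set G)).subgroupOf (Subgroup.normalizer ((P : Subgroup G) : Set G))).index := by
  set M : Subgroup G := Subgroup.normalizer (Q : Set G) ⊓ Subgroup.normalizer ((P : Subgroup G) : Set G) with hM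
  set C : Subgroup G := Subgroup.centralizer (Q : Set G) with hC
  set N : Subgroup G := Subgroup.normalizer (Q : Set G) with hN
  have hPC : (P : Subgroup G) ≤ C := by
    intro x hx
    rw [hC, Subgroup.mem_centralizer_iff]
    intro q hq
    have := hP.is_comm.comm ⟨x, hx⟩ ⟨q, hQ hq⟩
    exact (congrArg Subtype.val this).symm
  have hCN : C ≤ N := Subgroup.centralizer_le_normalizer (Q : Set G)
  have heq : N = M ⊔ C := by
    refine le_antisymm (fun g hg => ?_) (sup_le inf_le_left hCN)
    have hgP : ((g • P : Sylow p G) : Subgroup G) ≤ C := by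
      intro x hx
      obtain ⟨z, hz, rfl⟩ := hx
      rw [hC, Subgroup.mem_centralizer_iff]
      intro q hq
      have hq' : g⁻¹ * q * g ∈ Q := by
        have := (Subgroup.mem_normalizer_iff.mp (N.inv_mem hg) q).mp hq
        simpa using this
      have := Subgroup.mem_centralizer_iff.mp (hPC hz) _ hq'
      simp only [MulDistribMulAction.toMonoidEnd_apply, MulDistribMulAction.toMonoidHom_apply,
        MulAut.smul_def, MulAut.conj_apply]
      calc q * (g * z * g⁻¹) = g * (g⁻¹ * q * g * z) * g⁻¹ := by group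
        _ = g * (z * (g⁻¹ * q * g)) * g⁻¹ := by rw [this]
        _ = g * z * g⁻¹ * q := by group
    obtain ⟨c, hc⟩ := MulAction.exists_smul_eq C ((g • P).subtype hgP) (P.subtype hPC)
    simp_rw [Sylow.smul_subtype, Subgroup.smul_def, smul_smul] at hc
    have hn : (c : G) * g ∈ Subgroup.normalizer ((P : Subgroup G) : Set G) :=
      Sylow.smul_eq_iff_mem_normalizer.mp (Sylow.subtype_injective hc)
    have hm : (c : G) * g ∈ M := ⟨N.mul_mem (hCN c.2) hg, hn⟩
    have : g = (c : G)⁻¹ * ((c : G) * g) := by group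
    rw [this]
    exact Subgroup.mul_mem _ (Subgroup.mem_sup_right (C.inv_mem c.2)) (Subgroup.mem_sup_left hm)
  refine ⟨heq, ?_⟩
  have hMN : M ≤ N := inf_le_left
  set CP : Subgroup G := Subgroup.centralizer ((P : Subgroup G) : Set G) with hCP
  set NP : Subgroup G := Subgroup.normalizer ((P : Subgroup G) : Set G) with hNP
  have hCPC : CP ≤ C := Subgroup.centralizer_le (fun q hq => hQ hq)
  have hCPM : CP ≤ M :=
    le_inf (hCPC.trans hCN) (Subgroup.centralizer_le_normalizer ((P : Subgroup G) : Set G))
  change C.relIndex N ∣ CP.relIndex NP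
  have h1 : C.relIndex N = C.relIndex M := by
    haveI : (C.subgroupOf N).Normal := Subgroup.normal_subgroupOf_centralizer_normalizer (Q : Set G)
    have htop : M.subgroupOf N ⊔ C.subgroupOf N = ⊤ := by
      rw [← Subgroup.subgroupOf_sup hMN hCN, ← heq, Subgroup.subgroupOf_self]
    calc C.relIndex N = (C.subgroupOf N).relIndex ⊤ := (Subgroup.relIndex_top_right _).symm
      _ = (C.subgroupOf N).relIndex (M.subgroupOf N ⊔ C.subgroupOf N) := by rw [htop]
      _ = (C.subgroupOf N).relIndex (M.subgroupOf N) := Subgroup.relIndex_sup_right _ _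
      _ = C.relIndex M := Subgroup.relIndex_subgroupOf hMN
  rw [h1]
  exact (Subgroup.relIndex_dvd_of_le_left M hCPC).trans
    ⟨M.relIndex NP, (Subgroup.relIndex_mul_relIndex CP M NP hCPM inf_le_right).symm⟩

end Cfsg.Agent.S2268
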