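import Cfsg.Statements.S2269
import Cfsg.Agent.Lib.SymSylow.AltInversion

set_option autoImplicit false
open Cfsg

namespace Cfsg.Agent.S2269

open scoped Pointwise

private def V0set : Finset (alternatingGroup (Fin 5)) :=
  Finset.univ.filter fun g => g * g = 1 ∧ (g : Equiv.Perm (Fin 5)) 4 = 4

private theorem V0_closed : ∀ a ∈ V0set, ∀ b ∈ V0set, a * b ∈ V0set := by decide +kernel

private theorem V0_inv : ∀ a ∈ V0set, a⁻¹ ∈ V0set := by decide +kernel

private theorem V0_one : (1 : alternatingGroup (Fin 5)) ∈ V0set := by decide +kernel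

private theorem V0_card : V0set.card = 4 := by decide +kernel

private theorem V0_sq : ∀ a ∈ V0set, a * a = 1 := by decide +kernel

private theorem V0_norm_card : (Finset.univ.filter fun g : alternatingGroup (Fin 5) =>
    ∀ a ∈ V0set, g * a * g⁻¹ ∈ V0set).card = 12 := by decide +kernel

private theorem V0_cent_card : (Finset.univ.filter fun g : alternatingGroup (Fin 5) =>
    ∀ a ∈ V0set, g * a = a * g).card = 4 := by decide +kernel

private def V0 : Subgroup (alternatingGroup (Fin 5)) where
  carrier := {g | g ∈ V0set}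
  mul_mem' := fun {a b} ha hb => V0_closed a ha b hb
  one_mem' := V0_one
  inv_mem' := fun {a} ha => V0_inv a ha

private theorem five_two (P : Sylow 2 (alternatingGroup (Fin 5))) :
    ((Subgroup.centralizer ((P : Subgroup (alternatingGroup (Fin 5))) : Set (alternatingGroup (Fin 5)))).subgroupOf
      (Subgroup.normalizer ((P : Subgroup (alternatingGroup (Fin 5))) : Set (alternatingGroup (Fin 5))))).index = 3 ∧
      IsKleinFour (P : Subgroup (alternatingGroup (Fin 5))) := by
  classical
  have hV : Nat.card V0 = 4 := by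
    rw [← V0_card, ← Nat.card_eq_finsetCard]
    rfl
  have hA : Nat.card (alternatingGroup (Fin 5)) = 60 := by
    rw [Nat.card_eq_fintype_card]; decide +kernel
  let T : Sylow 2 (alternatingGroup (Fin 5)) := Sylow.ofCard V0 (by
    rw [hV, hA]
    have h : (60 : ℕ).factorization 2 = 2 := by
      rw [show (60 : ℕ) = 2 ^ 2 * 15 from rfl, Nat.factorization_mul (by norm_num) (by norm_num),
        Nat.Prime.factorization_pow Nat.prime_two]
      simp [Nat.factorization_eq_zero_of_not_dvd (show ¬ 2 ∣ 15 by norm_num)]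
    rw [h]; norm_num)
  obtain ⟨c, hc⟩ := MulAction.exists_smul_eq (alternatingGroup (Fin 5)) T P
  have hP : ∀ z, z ∈ (P : Subgroup (alternatingGroup (Fin 5))) ↔ c⁻¹ * z * c ∈ V0set := by
    intro z
    rw [← hc, Sylow.coe_subgroup_smul, Subgroup.mem_pointwise_smul_iff_inv_smul_mem]
    show c⁻¹ * z * c⁻¹⁻¹ ∈ V0set ↔ _
    rw [inv_inv]
  have hPa : ∀ a ∈ V0set, c * a * c⁻¹ ∈ (P : Subgroup (alternatingGroup (Fin 5))) := fun a ha => by
    rw [hP, show c⁻¹ * (c * a * c⁻¹) * c = a by group]; exact ha
  set N := Subgroup.normalizer ((P : Subgroup (alternatingGroup (Fin 5))) : Set (alternatingGroup (Fin 5)))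
  set C := Subgroup.centralizer ((P : Subgroup (alternatingGroup (Fin 5))) : Set (alternatingGroup (Fin 5)))
  have hN : Nat.card N = 12 := by
    rw [← V0_norm_card, ← Nat.card_eq_finsetCard]
    refine Nat.card_congr (Equiv.subtypeEquiv (MulAut.conj c⁻¹).toEquiv fun g => ?_)
    show g ∈ N ↔ c⁻¹ * g * c⁻¹⁻¹ ∈ Finset.univ.filter _
    simp only [Finset.mem_filter, Finset.mem_univ, true_and, inv_inv]
    constructor
    · intro hg a ha
      have h := (hP _).1 ((Subgroup.mem_normalizer_iff.1 hg _).1 (hPa a ha))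
      rw [show c⁻¹ * (g * (c * a * c⁻¹) * g⁻¹) * c = c⁻¹ * g * c * a * (c⁻¹ * g * c)⁻¹ by group] at h
      exact h
    · intro h
      have key : ∀ z ∈ (P : Subgroup (alternatingGroup (Fin 5))),
          g * z * g⁻¹ ∈ (P : Subgroup (alternatingGroup (Fin 5))) := by
        intro z hz
        rw [hP] at hz ⊢
        have h' := h _ hz
        rw [show c⁻¹ * g * c * (c⁻¹ * z * c) * (c⁻¹ * g * c)⁻¹ = c⁻¹ * (g * z * g⁻¹) * c by group] at h'
        exact h'
      exact (Subgroup.mem_normalizer_iff_conj_image_eq).2 (Set.eq_of_subset_of_ncard_le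
        (by rintro _ ⟨z, hz, rfl⟩; exact key z hz)
        (by rw [Set.ncard_image_of_injective _ (MulAut.conj g).injective]) (Set.toFinite _))
  have hC : Nat.card C = 4 := by
    rw [← V0_cent_card, ← Nat.card_eq_finsetCard]
    refine Nat.card_congr (Equiv.subtypeEquiv (MulAut.conj c⁻¹).toEquiv fun g => ?_)
    show g ∈ C ↔ c⁻¹ * g * c⁻¹⁻¹ ∈ Finset.univ.filter _
    simp only [Finset.mem_filter, Finset.mem_univ, true_and, inv_inv]
    constructor
    · intro hg a ha
      have h := congrArg (fun z => c⁻¹ * z * c) (Subgroup.mem_centralizer_iff.1 hg _ (hPa a ha))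
      calc c⁻¹ * g * c * a = c⁻¹ * (g * (c * a * c⁻¹)) * c := by group
        _ = c⁻¹ * ((c * a * c⁻¹) * g) * c := h.symm
        _ = _ := by group
    · intro h
      rw [Subgroup.mem_centralizer_iff]
      intro z hz
      have h' := h _ ((hP z).1 hz)
      calc z * g = c * ((c⁻¹ * z * c) * (c⁻¹ * g * c)) * c⁻¹ := by group
        _ = c * ((c⁻¹ * g * c) * (c⁻¹ * z * c)) * c⁻¹ := by rw [h']
        _ = _ := by group
  refine ⟨?_, ⟨?_, ?_⟩⟩
  · have hCN : C ≤ N := Subgroup.centralizer_le_normalizer _
    have h := Subgroup.card_mul_index (C.subgroupOf N)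
    rw [Nat.card_congr (Subgroup.subgroupOfEquivOfLe hCN).toEquiv, hC, hN] at h
    omega
  · rw [← hc, Sylow.coe_subgroup_smul, ← hV]
    exact Nat.card_congr (Subgroup.equivSMul (MulAut.conj c) V0).toEquiv.symm
  · apply Nat.dvd_antisymm
    · rw [Monoid.exponent_dvd_iff_forall_pow_eq_one]
      intro z
      apply Subtype.ext
      have h := V0_sq _ ((hP z.1).1 z.2)
      rw [pow_two, Subgroup.coe_mul, Subgroup.coe_one]
      calc (z.1 : alternatingGroup (Fin 5)) * z.1 = c * ((c⁻¹ * z.1 * c) * (c⁻¹ * z.1 * c)) * c⁻¹ := by group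
        _ = 1 := by rw [h]; group
    · have : Nontrivial (P : Subgroup (alternatingGroup (Fin 5))) := by
        rw [← Finite.one_lt_card_iff_nontrivial, ← hc, Sylow.coe_subgroup_smul,
          ← Nat.card_congr (Subgroup.equivSMul (MulAut.conj c) (T : Subgroup (alternatingGroup (Fin 5)))).toEquiv,
          show Nat.card (T : Subgroup (alternatingGroup (Fin 5))) = 4 from hV]
        norm_num
      rcases (Nat.dvd_prime Nat.prime_two).1 (show Monoid.exponent (P : Subgroup (alternatingGroup (Fin 5))) ∣ 2 by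
        rw [Monoid.exponent_dvd_iff_forall_pow_eq_one]
        intro z
        apply Subtype.ext
        have h := V0_sq _ ((hP z.1).1 z.2)
        rw [pow_two, Subgroup.coe_mul, Subgroup.coe_one]
        calc (z.1 : alternatingGroup (Fin 5)) * z.1 = c * ((c⁻¹ * z.1 * c) * (c⁻¹ * z.1 * c)) * c⁻¹ := by group
          _ = 1 := by rw [h]; group) with h | h
      · have := Monoid.exp_eq_one_iff.1 h
        exact absurd this (not_subsingleton _)
      · rw [h]

/-- Let n ≥ 5 and let P be an abelian Sylow p-subgroup of the alternating group A_n. Then N(P)/C(P) (taken in A_n) has even order, or P is cyclic, except when n = 5 and p = 2, where P is a four-group and N(P)/C(P) has order 3. -/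
theorem result (n : ℕ) (hn : 5 ≤ n) {p : ℕ} [Fact p.Prime]
    (P : Sylow p (alternatingGroup (Fin n))) (hP : IsMulCommutative (P : Subgroup (alternatingGroup (Fin n)))) :
    (¬ (n = 5 ∧ p = 2) → 2 ∣ ((Subgroup.centralizer ((P : Subgroup (alternatingGroup (Fin n))) : Set (alternatingGroup (Fin n)))).subgroupOf (Subgroup.normalizer ((P : Subgroup (alternatingGroup (Fin n))) : Set (alternatingGroup (Fin n))))).index ∨ IsCyclic (P : Subgroup (alternatingGroup (Fin n)))) ∧
    ((n = 5 ∧ p = 2) → ((Subgroup.centralizer ((P : Subgroup (alternatingGroup (Fin n))) : Set (alternatingGroup (Fin n)))).subgroupOf (Subgroup.normalizer ((P : Subgroup (alternatingGroup (Fin n))) : Set (alternatingGroup (Fin n))))).index = 3 ∧ IsKleinFour (P : Subgroup (alternatingGroup (Fin n)))) := by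
  refine ⟨fun hne => ?_, ?_⟩
  · by_cases h2p : n < 2 * p
    · exact Or.inr (CfsgLib.SymSylow.AltInversion.isCyclic_of_lt h2p P)
    refine Or.inl ?_
    have hp2 : p ≠ 2 := by
      rintro rfl
      have := (CfsgLib.SymSylow.isMulCommutative_sylow_alternating_iff (show 6 ≤ n by omega) P).1 hP
      omega
    have hlt : n < p ^ 2 := by
      by_cases h6 : 6 ≤ n
      · exact (CfsgLib.SymSylow.isMulCommutative_sylow_alternating_iff h6 P).1 hP
      · have h3 : 3 ≤ p := by have := (Fact.out : p.Prime).two_le; omega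
        have : 9 ≤ p ^ 2 := by rw [sq]; exact Nat.mul_le_mul h3 h3
        omega
    obtain ⟨g, h2, hN, hC⟩ :=
      CfsgLib.SymSylow.AltInversion.exists_inverting_sylow hp2 hlt (by omega) P
    exact CfsgLib.SymSylow.AltInversion.two_dvd_automizer _ g h2 hN hC
  · rintro ⟨rfl, rfl⟩
    exact five_two P

end Cfsg.Agent.S2269
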