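import Cfsg.Statements.S2270


set_option autoImplicit false
open Cfsg

namespace Cfsg.Agent.S2270

/-- Let n ≥ 3, p an odd prime, and P an abelian Sylow p-subgroup of the symmetric group S_n (with p dividing n!, so that P ≠ 1). Then N(P)/C(P) has even order. -/
theorem result (n : ℕ) (hn : 3 ≤ n) {p : ℕ} [Fact p.Prime] (hp : p ≠ 2) (hpn : p ≤ n)
    (P : Sylow p (Equiv.Perm (Fin n))) (hP : IsMulCommutative (P : Subgroup (Equiv.Perm (Fin n)))) :
    2 ∣ ((Subgroup.centralizer ((P : Subgroup (Equiv.Perm (Fin n))) : Set (Equiv.Perm (Fin n)))).subgroupOf (Subgroup.normalizer ((P : Subgroup (Equiv.Perm (Fin n))) : Set (Equiv.Perm (Fin n))))).index := by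
  classical
  haveI : IsMulCommutative (P : Subgroup (Equiv.Perm (Fin n))) := hP
  set Q : Subgroup (Equiv.Perm (Fin n)) := (P : Subgroup (Equiv.Perm (Fin n))) with hQ
  set N := Subgroup.normalizer (Q : Set (Equiv.Perm (Fin n))) with hN
  set C := Subgroup.centralizer (Q : Set (Equiv.Perm (Fin n))) with hC
  haveI hnorm : (C.subgroupOf N).Normal := by
    constructor
    intro c hc g
    rw [Subgroup.mem_subgroupOf] at hc ⊢
    rw [hC, Subgroup.mem_centralizer_iff] at hc ⊢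
    intro y hy
    have hg : (g : Equiv.Perm (Fin n))⁻¹ ∈ N := N.inv_mem g.2
    have hy2 := (Subgroup.mem_normalizer_iff.1 hg y).1 hy
    have h2 := hc _ hy2
    simp only [Subgroup.coe_mul, Subgroup.coe_inv, inv_inv] at h2 ⊢
    calc y * ((g : Equiv.Perm (Fin n)) * c * (g : Equiv.Perm (Fin n))⁻¹)
        = g * (((g : Equiv.Perm (Fin n))⁻¹ * y * g) * c) * (g : Equiv.Perm (Fin n))⁻¹ := by group
      _ = g * ((c : Equiv.Perm (Fin n)) * ((g : Equiv.Perm (Fin n))⁻¹ * y * g)) * (g : Equiv.Perm (Fin n))⁻¹ := by rw [h2]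
      _ = ((g : Equiv.Perm (Fin n)) * c * (g : Equiv.Perm (Fin n))⁻¹) * y := by group
  have hd : p ∣ Nat.card (Equiv.Perm (Fin n)) := by
    rw [Nat.card_perm, Nat.card_fin]
    exact (Fact.out : p.Prime).dvd_factorial.2 hpn
  have hne : Q ≠ ⊥ := P.ne_bot_of_dvd_card hd
  obtain ⟨x, hxQ, hx1⟩ := (Subgroup.bot_or_exists_ne_one Q).resolve_left hne
  have hxo : x⁻¹ ≠ x := by
    intro h
    have h2 : x ^ 2 = 1 := by
      rw [pow_two]
      nth_rewrite 1 [← h]
      exact inv_mul_cancel x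
    obtain ⟨k, hk⟩ := (IsPGroup.iff_orderOf.1 P.isPGroup') ⟨x, hxQ⟩
    rw [Subgroup.orderOf_mk] at hk
    have h3 : orderOf x ∣ 2 := orderOf_dvd_of_pow_eq_one h2
    rcases (Nat.dvd_prime Nat.prime_two).1 h3 with h4 | h4
    · exact hx1 (orderOf_eq_one_iff.1 h4)
    · rw [h4] at hk
      rcases k with _ | k
      · simp at hk
      · have : p ∣ 2 := hk ▸ dvd_pow_self p (Nat.succ_ne_zero k)
        exact hp ((Nat.prime_dvd_prime_iff_eq Fact.out Nat.prime_two).1 this)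
  have hconj : IsConj x x⁻¹ := by
    rw [Equiv.Perm.isConj_iff_cycleType_eq, Equiv.Perm.cycleType_inv]
  obtain ⟨g, hg⟩ := isConj_iff.1 hconj
  obtain ⟨m, hm, hm2⟩ := P.conj_eq_normalizer_conj_of_mem x g⁻¹ hxQ
    (by rw [inv_inv, hg]; exact Q.inv_mem hxQ)
  rw [inv_inv, hg] at hm2
  rcases Nat.even_or_odd (C.subgroupOf N).index with he | ho
  · exact he.two_dvd
  exfalso
  have h1 := Subgroup.pow_index_mem (C.subgroupOf N) (⟨m⁻¹, N.inv_mem hm⟩ : N)
  rw [Subgroup.mem_subgroupOf, hC, Subgroup.mem_centralizer_iff] at h1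
  have h2 := h1 x hxQ
  simp only [SubmonoidClass.coe_pow] at h2
  have key : ∀ j : ℕ, (m⁻¹) ^ j * x * ((m⁻¹) ^ j)⁻¹ = if Even j then x else x⁻¹ := by
    intro j
    induction j with
    | zero => simp
    | succ j ih =>
      rw [pow_succ', mul_inv_rev, ← mul_assoc]
      rw [show m⁻¹ * (m⁻¹) ^ j * x * ((m⁻¹) ^ j)⁻¹ * (m⁻¹)⁻¹ = m⁻¹ * ((m⁻¹) ^ j * x * ((m⁻¹) ^ j)⁻¹) * m by group]
      rw [ih]
      by_cases hj : Even j
      · rw [if_pos hj, if_neg (by rw [Nat.even_add_one]; exact not_not.2 hj), ← hm2]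
      · rw [if_neg hj, if_pos (by rw [Nat.even_add_one]; exact hj)]
        have : (m⁻¹ * x⁻¹ * m) = (m⁻¹ * x * m)⁻¹ := by group
        rw [this, ← hm2, inv_inv]
  have h3 := key (C.subgroupOf N).index
  rw [if_neg (Nat.not_even_iff_odd.2 ho)] at h3
  rw [← h2, mul_assoc, mul_inv_cancel, mul_one] at h3
  exact hxo h3.symm

end Cfsg.Agent.S2270
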