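import Cfsg.Statements.S2271


set_option autoImplicit false
open Cfsg

open scoped Pointwise

namespace Cfsg.Agent.S2271

open Equiv Finset

variable {X : Type*} [Fintype X] [DecidableEq X]

/-- Change a permutation so that it sends one further point to a prescribed one. -/
theorem exists_extend (σ : Perm X) (S : Finset X) {x y : X} (hx : x ∉ S) (hy : ∀ s ∈ S, σ s ≠ y) :
    ∃ σ' : Perm X, (∀ s ∈ S, σ' s = σ s) ∧ σ' x = y := by
  refine ⟨Equiv.swap (σ x) y * σ, fun s hs => ?_, by simp⟩
  rw [Perm.mul_apply, Equiv.swap_apply_of_ne_of_ne (fun h => hx ((σ.injective h : s = x) ▸ hs)) (hy s hs)]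

/-- A property stable under some transposition is satisfied by an even permutation. -/
theorem exists_even (P : Perm X → Prop) {σ σ' : Perm X} (hσ : P σ) (hσ' : P σ')
    (hs : Perm.sign σ' = - Perm.sign σ) : ∃ g : Perm X, Perm.sign g = 1 ∧ P g := by
  rcases Int.units_eq_one_or (Perm.sign σ) with h | h
  · exact ⟨σ, h, hσ⟩
  · exact ⟨σ', by rw [hs, h, neg_neg], hσ'⟩

theorem exists_two_outside (T : Finset X) (hT : T.card + 2 ≤ Fintype.card X) :
    ∃ u v : X, u ∉ T ∧ v ∉ T ∧ u ≠ v := by
  have h : 1 < Tᶜ.card := by rw [card_compl]; omega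
  obtain ⟨u, hu, v, hv, huv⟩ := one_lt_card.1 h
  exact ⟨u, v, mem_compl.1 hu, mem_compl.1 hv, huv⟩

/-- An even permutation can be prescribed on two fewer than all points. -/
theorem exists_even_extend (σ : Perm X) (T : Finset X) (hT : T.card + 2 ≤ Fintype.card X) :
    ∃ g : Perm X, Perm.sign g = 1 ∧ ∀ t ∈ T, g t = σ t := by
  obtain ⟨u, v, hu, hv, huv⟩ := exists_two_outside T hT
  refine exists_even (fun g => ∀ t ∈ T, g t = σ t) (σ := σ) (σ' := σ * Equiv.swap u v) (fun t _ => rfl) (fun t ht => ?_) ?_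
  · rw [Perm.mul_apply, Equiv.swap_apply_of_ne_of_ne (fun h : t = u => hu (h ▸ ht)) (fun h : t = v => hv (h ▸ ht))]
  · rw [Perm.sign_mul, Perm.sign_swap huv, mul_neg, mul_one]

/-- The even permutations. -/
def evens (X : Type*) [Fintype X] [DecidableEq X] : Finset (Perm X) := univ.filter fun g => Perm.sign g = 1

theorem card_one_target (h3 : 3 ≤ Fintype.card X) (x z : X) :
    Fintype.card X * ((evens X).filter fun g => g x = z).card = (evens X).card := by
  rw [card_eq_sum_card_fiberwise (s := evens X) (f := fun g : Perm X => g x) (t := univ) fun g _ => mem_univ _]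
  have h : ∀ w : X, ((evens X).filter fun g => g x = w).card = ((evens X).filter fun g => g x = z).card := by
    intro w
    obtain ⟨σ₁, -, hσ₁⟩ := exists_extend (1 : Perm X) ∅ (notMem_empty z) (y := w) (fun s hs => (notMem_empty s hs).elim)
    obtain ⟨k, hk, hkz⟩ := exists_even_extend σ₁ {z} (by rw [card_singleton]; omega)
    have hk' : k z = w := (hkz z (mem_singleton_self z)).trans hσ₁
    refine (card_equiv (Equiv.mulLeft k) fun g => ?_).symm
    simp only [evens, mem_filter, mem_univ, true_and, Equiv.coe_mulLeft, Perm.sign_mul, hk, one_mul, Perm.mul_apply]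
    rw [← hk', k.injective.eq_iff]
  rw [Finset.sum_congr rfl fun w _ => h w, sum_const, card_univ, smul_eq_mul]

theorem card_two_targets (h4 : 4 ≤ Fintype.card X) {x x' z z' : X} (hx : x ≠ x') (hz : z ≠ z') :
    Fintype.card X * (Fintype.card X - 1) * ((evens X).filter fun g => g x = z ∧ g x' = z').card = (evens X).card := by
  rw [← card_one_target (by omega) x z, mul_assoc]
  congr 1
  rw [card_eq_sum_card_fiberwise (s := (evens X).filter fun g => g x = z) (f := fun g : Perm X => g x')
    (t := univ.erase z) fun g hg => mem_coe.2 (mem_erase.2 ⟨fun h => hx (g.injective ((mem_filter.1 hg).2.trans h.symm)), mem_univ _⟩)]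
  have h : ∀ w ∈ univ.erase z, (((evens X).filter fun g => g x = z).filter fun g => g x' = w).card =
      ((evens X).filter fun g => g x = z ∧ g x' = z').card := by
    intro w hw
    obtain ⟨σ₁, hσ₀, hσ₁⟩ := exists_extend (1 : Perm X) {z} (x := z') (y := w)
      (fun h => hz (mem_singleton.1 h).symm) (fun s hs => by rw [mem_singleton.1 hs]; exact (mem_erase.1 hw).1.symm)
    obtain ⟨k, hk, hkz⟩ := exists_even_extend σ₁ {z, z'} (by rw [card_pair hz]; omega)
    have hk1 : k z = z := (hkz z (by simp)).trans (hσ₀ z (mem_singleton_self z))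
    have hk2 : k z' = w := (hkz z' (by simp)).trans hσ₁
    refine (card_equiv (Equiv.mulLeft k) fun g => ?_).symm
    simp only [evens, mem_filter, mem_univ, true_and, Equiv.coe_mulLeft, Perm.sign_mul, hk, one_mul, Perm.mul_apply]
    constructor
    · rintro ⟨h1, h2, h3⟩
      exact ⟨⟨h1, by rw [h2, hk1]⟩, by rw [h3, hk2]⟩
    · rintro ⟨⟨h1, h2⟩, h3⟩
      exact ⟨h1, k.injective (h2.trans hk1.symm), k.injective (h3.trans hk2.symm)⟩
  rw [Finset.sum_congr rfl h, sum_const, card_erase_of_mem (mem_univ _), card_univ, smul_eq_mul]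

/-- The edges of `b` carried by `σ` onto edges of `a`. -/
def common (a b σ : Perm X) : Finset X := univ.filter fun x => σ (b x) = a (σ x)

theorem sum_common (h4 : 4 ≤ Fintype.card X) (a b : Perm X) :
    Fintype.card X * (Fintype.card X - 1) * ∑ g ∈ evens X, (common a b g).card =
      (evens X).card * ((univ.filter fun y => a y = y).card * (univ.filter fun y => b y = y).card * (Fintype.card X - 1) +
        (univ.filter fun y => ¬ a y = y).card * (univ.filter fun y => ¬ b y = y).card) := by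
  set n := Fintype.card X
  have hswap : ∑ g ∈ evens X, (common a b g).card =
      ∑ x : X, ((evens X).filter fun g => g (b x) = a (g x)).card := by
    simp only [common, card_eq_sum_ones, sum_filter]
    exact sum_comm
  have hfib : ∀ x : X, ((evens X).filter fun g => g (b x) = a (g x)).card =
      ∑ z : X, ((evens X).filter fun g => g x = z ∧ g (b x) = a z).card := by
    intro x
    rw [card_eq_sum_card_fiberwise (f := fun g : Perm X => g x) (t := univ) fun g _ => mem_univ _]
    refine sum_congr rfl fun z _ => congrArg card ?_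
    rw [filter_filter]
    exact filter_congr fun g _ => ⟨fun h => ⟨h.2, h.2 ▸ h.1⟩, fun h => ⟨h.1 ▸ h.2, h.1⟩⟩
  have hterm : ∀ x z : X, n * (n - 1) * ((evens X).filter fun g => g x = z ∧ g (b x) = a z).card =
      (evens X).card * (if b x = x then (if a z = z then n - 1 else 0) else (if a z = z then 0 else 1)) := by
    intro x z
    by_cases hb : b x = x <;> by_cases ha : a z = z
    · rw [if_pos hb, if_pos ha, hb, ha]
      simp only [and_self]
      rw [← card_one_target (by omega) x z]; ring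
    · rw [if_pos hb, if_neg ha, hb, mul_zero, filter_eq_empty_iff.2 fun g _ h => ha (h.2.symm.trans h.1), card_empty, mul_zero]
    · rw [if_neg hb, if_pos ha, ha, mul_zero,
        filter_eq_empty_iff.2 fun g _ h => hb (g.injective (h.2.trans h.1.symm)), card_empty, mul_zero]
    · rw [if_neg hb, if_neg ha, mul_one]
      exact card_two_targets h4 (fun h => hb h.symm) (fun h => ha h.symm)
  rw [hswap, mul_sum]
  simp_rw [hfib, mul_sum, hterm, ← mul_sum]
  congr 1
  rw [← sum_filter_add_sum_filter_not univ (fun x => b x = x)]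
  rw [sum_congr rfl (fun x hx => sum_congr rfl fun z _ => if_pos (mem_filter.1 hx).2),
    sum_congr rfl (s₁ := univ.filter fun x => ¬ b x = x) (fun x hx => sum_congr rfl fun z _ => if_neg (mem_filter.1 hx).2)]
  simp only [sum_const, smul_eq_mul, sum_ite, mul_zero, add_zero, zero_add, mul_one]
  ring

/-- Some even permutation makes as many loops coincide as possible, and one edge besides. -/
theorem exists_loops_edge (h5 : 5 ≤ Fintype.card X) (a b : Perm X) (ha : a ≠ 1) (hb : b ≠ 1) :
    ∃ g : Perm X, Perm.sign g = 1 ∧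
      min (univ.filter fun y => a y = y).card (univ.filter fun y => b y = y).card + 1 ≤ (common a b g).card := by
  set k := min (univ.filter fun y => a y = y).card (univ.filter fun y => b y = y).card
  obtain ⟨y₀, hy₀⟩ : ∃ y, a y ≠ y := by
    by_contra h; push Not at h; exact ha (Equiv.ext h)
  obtain ⟨x₀, hx₀⟩ : ∃ x, b x ≠ x := by
    by_contra h; push Not at h; exact hb (Equiv.ext h)
  obtain ⟨K, hK, hKc⟩ := exists_subset_card_eq (s := univ.filter fun y => b y = y) (n := k) (min_le_right _ _)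
  obtain ⟨L, hL, hLc⟩ := exists_subset_card_eq (s := univ.filter fun y => a y = y) (n := k) (min_le_left _ _)
  have hKb : ∀ s ∈ K, b s = s := fun s hs => (mem_filter.1 (hK hs)).2
  have hLa : ∀ s ∈ L, a s = s := fun s hs => (mem_filter.1 (hL hs)).2
  obtain ⟨e⟩ : Nonempty ({x // x ∈ K} ≃ {x // x ∈ L}) := ⟨Finset.equivOfCardEq (hKc.trans hLc.symm)⟩
  set σ₀ : Perm X := Equiv.extendSubtype e with hσ₀
  have h₀ : ∀ s ∈ K, σ₀ s ∈ L := fun s hs => Equiv.extendSubtype_mem e s hs
  have hy₀L : y₀ ∉ L := fun h => hy₀ (hLa _ h)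
  have hay₀L : a y₀ ∉ L := fun h => hy₀ (a.injective (hLa _ h))
  obtain ⟨σ₁, h₁, h₁x⟩ := exists_extend σ₀ K (x := x₀) (y := y₀) (fun h => hx₀ (hKb _ h))
    (fun s hs h => hy₀L (h ▸ h₀ s hs))
  obtain ⟨σ₂, h₂, h₂x⟩ := exists_extend σ₁ (insert x₀ K) (x := b x₀) (y := a y₀)
    (fun h => by
      rcases mem_insert.1 h with h | h
      · exact hx₀ h
      · exact hx₀ (b.injective (hKb _ h)))
    (fun s hs h => by
      rcases mem_insert.1 hs with rfl | hs
      · exact hy₀ (h₁x.symm.trans h).symm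
      · exact hay₀L (h ▸ h₁ s hs ▸ h₀ s hs))
  have hgood : ∀ g : Perm X, (∀ s ∈ K, a (g s) = g s) → g x₀ = y₀ → g (b x₀) = a y₀ → k + 1 ≤ (common a b g).card := by
    intro g hg hgx hgb
    have hsub : insert x₀ K ⊆ common a b g := by
      intro s hs
      refine mem_filter.2 ⟨mem_univ _, ?_⟩
      rcases mem_insert.1 hs with rfl | hs
      · rw [hgb, hgx]
      · rw [hKb s hs, hg s hs]
    have h := card_le_card hsub
    rwa [card_insert_of_notMem (fun h => hx₀ (hKb _ h)), hKc] at h
  have hK₂ : ∀ s ∈ K, a (σ₂ s) = σ₂ s := fun s hs => by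
    rw [h₂ s (mem_insert_of_mem hs), h₁ s hs]; exact hLa _ (h₀ s hs)
  have hx₂ : σ₂ x₀ = y₀ := (h₂ x₀ (mem_insert_self _ _)).trans h₁x
  rcases Nat.lt_or_ge k 2 with hk | hk
  · obtain ⟨g, hg, hgs⟩ := exists_even_extend σ₂ (insert (b x₀) (insert x₀ K)) (by
      have := card_insert_le (b x₀) (insert x₀ K)
      have := card_insert_le x₀ K
      omega)
    refine ⟨g, hg, hgood g (fun s hs => ?_) ?_ ?_⟩
    · rw [hgs s (mem_insert_of_mem (mem_insert_of_mem hs))]; exact hK₂ s hs
    · rw [hgs x₀ (mem_insert_of_mem (mem_insert_self _ _)), hx₂]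
    · rw [hgs (b x₀) (mem_insert_self _ _), h₂x]
  · obtain ⟨u, hu, v, hv, huv⟩ := one_lt_card.1 (show 1 < K.card by omega)
    have hne : ∀ w : X, b w ≠ w → w ≠ u ∧ w ≠ v := fun w hw =>
      ⟨fun h => hw (h ▸ hKb u hu), fun h => hw (h ▸ hKb v hv)⟩
    refine exists_even (fun g => k + 1 ≤ (common a b g).card) (σ := σ₂) (σ' := σ₂ * Equiv.swap u v)
      (hgood σ₂ hK₂ hx₂ h₂x) (hgood _ (fun s hs => ?_) ?_ ?_) ?_
    · rw [Perm.mul_apply]
      refine hK₂ _ ?_
      rcases eq_or_ne s u with rfl | hsu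
      · rwa [Equiv.swap_apply_left]
      rcases eq_or_ne s v with rfl | hsv
      · rwa [Equiv.swap_apply_right]
      rwa [Equiv.swap_apply_of_ne_of_ne hsu hsv]
    · rw [Perm.mul_apply, Equiv.swap_apply_of_ne_of_ne (hne x₀ hx₀).1 (hne x₀ hx₀).2, hx₂]
    · have hbb : b (b x₀) ≠ b x₀ := fun h => hx₀ (b.injective h)
      rw [Perm.mul_apply, Equiv.swap_apply_of_ne_of_ne (hne _ hbb).1 (hne _ hbb).2, h₂x]
    · rw [Perm.sign_mul, Perm.sign_swap huv, mul_neg, mul_one]

/-- With at most one fixed point on either side, two edges can be made common. -/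
theorem exists_two_edges (h5 : 5 ≤ Fintype.card X) (a b : Perm X) (ha : (univ.filter fun y => a y = y).card ≤ 1)
    (hb : (univ.filter fun y => b y = y).card ≤ 1) : ∃ g : Perm X, Perm.sign g = 1 ∧ 2 ≤ (common a b g).card := by
  have hmove : ∀ c : Perm X, (univ.filter fun y => c y = y).card ≤ 1 → ∀ T : Finset X, T.card ≤ 3 → ∃ w, w ∉ T ∧ c w ≠ w := by
    intro c hc T hT
    have h : (T ∪ univ.filter fun y => c y = y).card < (univ : Finset X).card := by
      have := card_union_le T (univ.filter fun y => c y = y)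
      rw [card_univ]; omega
    obtain ⟨w, -, hw⟩ := exists_mem_notMem_of_card_lt_card h
    exact ⟨w, fun h => hw (mem_union_left _ h), fun h => hw (mem_union_right _ (mem_filter.2 ⟨mem_univ _, h⟩))⟩
  have hgood : ∀ (g : Perm X) (p r : X), p ≠ r → g (b p) = a (g p) → g (b r) = a (g r) → 2 ≤ (common a b g).card := by
    intro g p r hpr hp hr
    rw [← card_pair hpr]
    refine card_le_card fun s hs => ?_
    rcases mem_insert.1 hs with rfl | hs
    · exact mem_filter.2 ⟨mem_univ _, hp⟩
    · rw [mem_singleton.1 hs]; exact mem_filter.2 ⟨mem_univ _, hr⟩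
  by_cases hpath : (∃ x, b (b x) ≠ x) ∧ ∃ y, a (a y) ≠ y
  · obtain ⟨⟨x, hx⟩, y, hy⟩ := hpath
    have hx1 : b x ≠ x := fun h => hx (by rw [h, h])
    have hy1 : a y ≠ y := fun h => hy (by rw [h, h])
    obtain ⟨σ₁, -, h₁⟩ := exists_extend (1 : Perm X) ∅ (notMem_empty x) (y := y) (fun s hs => (notMem_empty s hs).elim)
    obtain ⟨σ₂, h₂, h₂x⟩ := exists_extend σ₁ {x} (x := b x) (y := a y) (fun h => hx1 (mem_singleton.1 h))
      (fun s hs h => hy1 (by rw [mem_singleton.1 hs, h₁] at h; exact h.symm))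
    have hσ₂x : σ₂ x = y := (h₂ x (mem_singleton_self x)).trans h₁
    obtain ⟨σ₃, h₃, h₃x⟩ := exists_extend σ₂ {x, b x} (x := b (b x)) (y := a (a y))
      (fun h => by
        rcases mem_insert.1 h with h | h
        · exact hx h
        · exact hx1 (b.injective (mem_singleton.1 h)))
      (fun s hs h => by
        rcases mem_insert.1 hs with rfl | hs
        · rw [hσ₂x] at h; exact hy h.symm
        · rw [mem_singleton.1 hs, h₂x] at h; exact hy1 (a.injective h).symm)
    obtain ⟨g, hg, hgs⟩ := exists_even_extend σ₃ {x, b x, b (b x)} (by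
      have h := card_le_three (a := x) (b := b x) (c := b (b x)); omega)
    have g1 : g x = y := by rw [hgs x (by simp), h₃ x (by simp), hσ₂x]
    have g2 : g (b x) = a y := by rw [hgs (b x) (by simp), h₃ (b x) (by simp), h₂x]
    have g3 : g (b (b x)) = a (a y) := by rw [hgs (b (b x)) (by simp), h₃x]
    exact ⟨g, hg, hgood g x (b x) hx1.symm (by rw [g2, g1]) (by rw [g3, g2])⟩
  obtain ⟨x, -, hx⟩ := hmove b hb ∅ (by simp)
  obtain ⟨x', hx', hx'm⟩ := hmove b hb {x, b x, b.symm x} card_le_three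
  obtain ⟨y, -, hy⟩ := hmove a ha ∅ (by simp)
  obtain ⟨y', hy', hy'm⟩ := hmove a ha {y, a y, a.symm y} card_le_three
  simp only [mem_insert, mem_singleton, not_or, Equiv.eq_symm_apply] at hx' hy'
  obtain ⟨σ₁, -, h₁⟩ := exists_extend (1 : Perm X) ∅ (notMem_empty x) (y := y) (fun s hs => (notMem_empty s hs).elim)
  obtain ⟨σ₂, h₂, h₂x⟩ := exists_extend σ₁ {x} (x := b x) (y := a y) (fun h => hx (mem_singleton.1 h))
    (fun s hs h => hy (by rw [mem_singleton.1 hs, h₁] at h; exact h.symm))
  have hσ₂x : σ₂ x = y := (h₂ x (mem_singleton_self x)).trans h₁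
  obtain ⟨σ₃, h₃, h₃x⟩ := exists_extend σ₂ {x, b x} (x := x') (y := y')
    (fun h => by
      rcases mem_insert.1 h with h | h
      · exact hx'.1 h
      · exact hx'.2.1 (mem_singleton.1 h))
    (fun s hs h => by
      rcases mem_insert.1 hs with rfl | hs
      · rw [hσ₂x] at h; exact hy'.1 h.symm
      · rw [mem_singleton.1 hs, h₂x] at h; exact hy'.2.1 h.symm)
  obtain ⟨σ₄, h₄, h₄x⟩ := exists_extend σ₃ {x, b x, x'} (x := b x') (y := a y')
    (fun h => by
      simp only [mem_insert, mem_singleton] at h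
      rcases h with h | h | h
      · exact hx'.2.2 h
      · exact hx'.1 (b.injective h)
      · exact hx'm h)
    (fun s hs h => by
      simp only [mem_insert, mem_singleton] at hs
      rcases hs with rfl | rfl | rfl
      · rw [h₃ _ (by simp), hσ₂x] at h; exact hy'.2.2 h.symm
      · rw [h₃ _ (by simp), h₂x] at h; exact hy'.1 (a.injective h).symm
      · rw [h₃x] at h; exact hy'm h.symm)
  have f1 : σ₄ x = y := by rw [h₄ x (by simp), h₃ x (by simp), hσ₂x]
  have f2 : σ₄ (b x) = a y := by rw [h₄ (b x) (by simp), h₃ (b x) (by simp), h₂x]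
  have f3 : σ₄ x' = y' := by rw [h₄ x' (by simp), h₃x]
  have hσ₄ : 2 ≤ (common a b σ₄).card := hgood σ₄ x x' (Ne.symm hx'.1) (by rw [f2, f1]) (by rw [h₄x, f3])
  rcases not_and_or.1 hpath with h | h
  · push Not at h
    have hne : ∀ w, w = x ∨ w = b x → w ≠ x' ∧ w ≠ b x' := by
      rintro w (rfl | rfl)
      · exact ⟨Ne.symm hx'.1, Ne.symm hx'.2.2⟩
      · exact ⟨Ne.symm hx'.2.1, fun e => hx'.1 (b.injective e).symm⟩
    refine exists_even (fun g => 2 ≤ (common a b g).card) (σ := σ₄) (σ' := σ₄ * Equiv.swap x' (b x')) hσ₄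
      (hgood _ x (b x') (Ne.symm hx'.2.2) ?_ ?_) ?_
    · rw [Perm.mul_apply, Perm.mul_apply, Equiv.swap_apply_of_ne_of_ne (hne x (Or.inl rfl)).1 (hne x (Or.inl rfl)).2,
        Equiv.swap_apply_of_ne_of_ne (hne _ (Or.inr rfl)).1 (hne _ (Or.inr rfl)).2, f1, f2]
    · rw [h x', Perm.mul_apply, Perm.mul_apply, Equiv.swap_apply_left, Equiv.swap_apply_right, h₄x, f3]
    · rw [Perm.sign_mul, Perm.sign_swap (Ne.symm hx'm), mul_neg, mul_one]
  · push Not at h
    refine exists_even (fun g => 2 ≤ (common a b g).card) (σ := σ₄) (σ' := Equiv.swap y' (a y') * σ₄) hσ₄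
      (hgood _ x x' (Ne.symm hx'.1) ?_ ?_) ?_
    · rw [Perm.mul_apply, Perm.mul_apply, f1, f2,
        Equiv.swap_apply_of_ne_of_ne (Ne.symm hy'.1) (Ne.symm hy'.2.2),
        Equiv.swap_apply_of_ne_of_ne (Ne.symm hy'.2.1) (fun e => hy'.1 (a.injective e).symm)]
    · rw [Perm.mul_apply, Perm.mul_apply, f3, h₄x, Equiv.swap_apply_left, Equiv.swap_apply_right, h y']
    · rw [Perm.sign_mul, Perm.sign_swap (Ne.symm hy'm), neg_mul, one_mul]

/-- Let n ≥ 5 and let a, b be non-identity permutations in the symmetric group S_n. Then the number of fixed points is not constant on the set of products a′b′ with a′ conjugate to a and b′ conjugate to b under the alternating group: there are even permutations g₁, h₁, g₂, h₂ such that (g₁ a g₁⁻¹)(h₁ b h₁⁻¹) and (g₂ a g₂⁻¹)(h₂ b h₂⁻¹) have different numbers of fixed points. -/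
theorem result (n : ℕ) (hn : 5 ≤ n) (a b : Equiv.Perm (Fin n)) (ha : a ≠ 1) (hb : b ≠ 1) :
    ∃ g₁ h₁ g₂ h₂ : Equiv.Perm (Fin n), g₁ ∈ alternatingGroup (Fin n) ∧ h₁ ∈ alternatingGroup (Fin n) ∧ g₂ ∈ alternatingGroup (Fin n) ∧ h₂ ∈ alternatingGroup (Fin n) ∧
      Nat.card (Function.fixedPoints ⇑(g₁ * a * g₁⁻¹ * (h₁ * b * h₁⁻¹))) ≠
        Nat.card (Function.fixedPoints ⇑(g₂ * a * g₂⁻¹ * (h₂ * b * h₂⁻¹))) := by
  classical
  suffices hsuff : ∃ h₁ h₂ : Equiv.Perm (Fin n), Equiv.Perm.sign h₁ = 1 ∧ Equiv.Perm.sign h₂ = 1 ∧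
      (common a⁻¹ b h₁).card ≠ (common a⁻¹ b h₂).card by
    obtain ⟨h₁, h₂, hs₁, hs₂, hne⟩ := hsuff
    refine ⟨1, h₁, 1, h₂, one_mem _, hs₁, one_mem _, hs₂, ?_⟩
    have key : ∀ g : Equiv.Perm (Fin n), Nat.card (Function.fixedPoints ⇑(1 * a * 1⁻¹ * (g * b * g⁻¹))) = (common a⁻¹ b g).card := by
      intro g
      rw [← Fintype.card_coe, ← Nat.card_eq_fintype_card]
      refine (Nat.card_congr (g.subtypeEquiv fun x => ?_)).symm
      simp only [common, Finset.mem_filter, Finset.mem_univ, true_and, one_mul, inv_one, mul_one]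
      show g (b x) = a⁻¹ (g x) ↔ a (g (b (g⁻¹ (g x)))) = g x
      rw [show g⁻¹ (g x) = x from g.symm_apply_apply x]
      exact (Equiv.eq_symm_apply a)
    rw [key, key]
    exact hne
  by_contra hcon
  push Not at hcon
  have hn' : Fintype.card (Fin n) = n := Fintype.card_fin n
  set c := (common a⁻¹ b 1).card with hc
  have hconst : ∀ g : Equiv.Perm (Fin n), Equiv.Perm.sign g = 1 → (common a⁻¹ b g).card = c := fun g hg =>
    hcon g 1 hg Equiv.Perm.sign_one
  set α := (Finset.univ.filter fun y => a⁻¹ y = y).card with hα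
  set β := (Finset.univ.filter fun y => b y = y).card with hβ
  have hsum := sum_common (X := Fin n) (by omega) a⁻¹ b
  rw [Finset.sum_congr rfl (fun g (hg : g ∈ evens (Fin n)) => hconst g (Finset.mem_filter.1 hg).2), Finset.sum_const, smul_eq_mul] at hsum
  have hne : (evens (Fin n)).card ≠ 0 :=
    Finset.card_ne_zero.2 ⟨1, Finset.mem_filter.2 ⟨Finset.mem_univ _, Equiv.Perm.sign_one⟩⟩
  have hcompl : ∀ c : Equiv.Perm (Fin n), (Finset.univ.filter fun y => c y = y).card +
      (Finset.univ.filter fun y => ¬ c y = y).card = n := fun c => by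
    rw [Finset.card_filter_add_card_filter_not, Finset.card_univ, hn']
  have ha' : (a⁻¹ : Equiv.Perm (Fin n)) ≠ 1 := inv_ne_one.2 ha
  have hlt : ∀ c : Equiv.Perm (Fin n), c ≠ 1 → (Finset.univ.filter fun y => c y = y).card < n := fun c hc => by
    refine (Finset.card_lt_card (Finset.filter_ssubset.2 ?_)).trans_eq (by rw [Finset.card_univ, hn'])
    by_contra h
    push Not at h
    exact hc (Equiv.ext fun x => h x (Finset.mem_univ x))
  have hαn := hlt _ ha'
  have hβn := hlt _ hb
  rw [show (Finset.univ.filter fun y => ¬ a⁻¹ y = y).card = n - α by have := hcompl a⁻¹; omega,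
    show (Finset.univ.filter fun y => ¬ b y = y).card = n - β by have := hcompl b; omega, hn'] at hsum
  have heq : n * (n - 1) * c = α * β * (n - 1) + (n - α) * (n - β) := by
    refine Nat.eq_of_mul_eq_mul_left (Nat.pos_of_ne_zero hne) ?_
    rw [← hsum]; ring
  obtain ⟨g, hg, hgc⟩ := exists_loops_edge (X := Fin n) (by omega) a⁻¹ b ha' hb
  rw [hconst g hg] at hgc
  change min α β + 1 ≤ c at hgc
  obtain ⟨N, rfl⟩ : ∃ N, n = N + 1 := ⟨n - 1, by omega⟩
  rw [Nat.add_sub_cancel] at heq
  rcases Nat.eq_zero_or_pos (min α β) with h0 | hpos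
  · -- some side has no fixed point
    have h0' : α * β = 0 := by
      rcases min_choice α β with h | h <;> rw [h] at h0 <;> simp [h0]
    rw [h0', zero_mul, zero_add] at heq
    have hs : ∃ s, s ≤ 1 ∧ α + β = s ∧ N * c = N + 1 - s := by
      have hz : α = 0 ∨ β = 0 := Nat.mul_eq_zero.1 h0'
      have hmul : N * c = N + 1 - (α + β) := by
        refine Nat.eq_of_mul_eq_mul_left (show 0 < N + 1 by omega) ?_
        rw [← mul_assoc, heq]
        rcases hz with h | h <;> simp [h, mul_comm]
      refine ⟨α + β, ?_, rfl, hmul⟩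
      by_contra hlt'
      have : N * 1 ≤ N * c := Nat.mul_le_mul_left N (by omega)
      omega
    obtain ⟨s, hs1, hs2, hs3⟩ := hs
    obtain ⟨g', hg', hgc'⟩ := exists_two_edges (X := Fin (N + 1)) (by omega) a⁻¹ b (by omega) (by omega)
    rw [hconst g' hg'] at hgc'
    have : N * 2 ≤ N * c := Nat.mul_le_mul_left N hgc'
    omega
  · -- fixed points on both sides
    have h1 : α * β < min α β * (N + 1) := by
      rcases le_total α β with h | h
      · rw [min_eq_left h] at hpos ⊢
        exact Nat.mul_lt_mul_of_pos_left hβn hpos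
      · rw [min_eq_right h] at hpos ⊢
        rw [mul_comm α β]
        exact Nat.mul_lt_mul_of_pos_left hαn hpos
    have hα1 : 1 ≤ α := le_trans hpos (min_le_left _ _)
    have hβ1 : 1 ≤ β := le_trans hpos (min_le_right _ _)
    have h2 : (N + 1 - α) * (N + 1 - β) ≤ N * (N + 1) := Nat.mul_le_mul (by omega) (by omega)
    have h3 : (N + 1) * N * (min α β + 1) ≤ (N + 1) * N * c := Nat.mul_le_mul_left _ hgc
    have h4 : α * β * N < min α β * (N + 1) * N := Nat.mul_lt_mul_of_pos_right h1 (by omega)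
    nlinarith

end Cfsg.Agent.S2271
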