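import Cfsg.Statements.S2276
import Cfsg.Agent.Lib.PElemPair.Main

set_option autoImplicit false
open Cfsg

namespace Cfsg.Agent.S2276

/-- Let n ≥ 5, p ≥ 3 a prime, and u, w non-identity elements of p-power order in the alternating group A_n. Then there is g ∈ A_n such that u·(g w g⁻¹) does not have p-power order and ⟨u, g w g⁻¹⟩ is not solvable. -/
theorem result (n : ℕ) (hn : 5 ≤ n) (p : ℕ) (hp : p.Prime) (hp3 : 3 ≤ p) (u w : alternatingGroup (Fin n)) (hu : u ≠ 1) (hw : w ≠ 1)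
    (hu' : ∃ k : ℕ, orderOf u = p ^ k) (hw' : ∃ k : ℕ, orderOf w = p ^ k) :
    ∃ g : alternatingGroup (Fin n), (¬ ∃ k : ℕ, orderOf (u * (g * w * g⁻¹)) = p ^ k) ∧
      ¬ Group.IsSolvable ↥(Subgroup.closure ({u, g * w * g⁻¹} : Set (alternatingGroup (Fin n)))) := by
  haveI : Fact p.Prime := ⟨hp⟩
  have hpow : ∀ x : alternatingGroup (Fin n), (∃ k, orderOf x = p ^ k) → ∃ e, (x : Equiv.Perm (Fin n)) ^ p ^ e = 1 := by
    rintro x ⟨k, hk⟩
    refine ⟨k, ?_⟩
    rw [← Subgroup.coe_pow, ← hk, pow_orderOf_eq_one, Subgroup.coe_one]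
  obtain ⟨G, hG, hgood⟩ := CfsgLib.PElemPair.exists_good_pair hp3 (by rw [Fintype.card_fin]; exact hn) (u : Equiv.Perm (Fin n))
    (w : Equiv.Perm (Fin n)) (hpow u hu') (hpow w hw') (fun h => hu (Subtype.ext h)) (fun h => hw (Subtype.ext h))
  let g : alternatingGroup (Fin n) := ⟨G, Equiv.Perm.mem_alternatingGroup.2 hG⟩
  refine ⟨g, fun ⟨k, hk⟩ => hgood.1 k ?_, fun hs => hgood.2 ?_⟩
  · have := congrArg Subtype.val (pow_orderOf_eq_one (u * (g * w * g⁻¹)))
    rw [hk] at this
    simpa [g] using this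
  · haveI := solvable_of_surjective ((alternatingGroup (Fin n)).subtype.subgroupMap_surjective
      (Subgroup.closure ({u, g * w * g⁻¹} : Set (alternatingGroup (Fin n)))))
    have hle : Subgroup.closure ({(u : Equiv.Perm (Fin n)), G * (w : Equiv.Perm (Fin n)) * G⁻¹} : Set (Equiv.Perm (Fin n))) ≤
        (Subgroup.closure ({u, g * w * g⁻¹} : Set (alternatingGroup (Fin n)))).map (alternatingGroup (Fin n)).subtype := by
      rw [MonoidHom.map_closure, Set.image_pair]
      exact le_of_eq rfl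
    exact Group.isSolvable_of_isSolvable_injective (Subgroup.inclusion_injective hle)

end Cfsg.Agent.S2276
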