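import Cfsg.Statements.S2277


set_option autoImplicit false
open Cfsg

namespace Cfsg.Agent.S2277

open scoped Pointwise

/-- `a ↦ g a / a` on an abelian group. -/
def dev {A : Type*} [CommGroup A] (g : MulAut A) : A →* A where
  toFun a := g a / a
  map_one' := by simp
  map_mul' a b := by simp [mul_div_mul_comm]

theorem dev_apply {A : Type*} [CommGroup A] (g : MulAut A) (a : A) : dev g a = g a / a := rfl

theorem dev_eq_one {A : Type*} [CommGroup A] (g : MulAut A) (a : A) : dev g a = 1 ↔ g a = a := by
  rw [dev_apply, div_eq_one]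

theorem dev_comm {A : Type*} [CommGroup A] (g h : MulAut A) (hc : g * h = h * g) (a : A) :
    g (dev h a) = dev h (g a) := by
  have h1 : g (h a) = h (g a) := DFunLike.congr_fun hc a
  rw [dev_apply, dev_apply, map_div, h1]

theorem dev_dev_comm {A : Type*} [CommGroup A] (g h : MulAut A) (hc : g * h = h * g) (a : A) :
    dev g (dev h a) = dev h (dev g a) := by
  have h1 := dev_comm g h hc a
  rw [dev_apply g, h1, dev_apply g, map_div]

theorem triple_fixed {A : Type*} [CommGroup A] [Finite A] (c a z : MulAut A) (hz : c * a = z * (a * c))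
    (hzc : c * z = z * c) (hza : a * z = z * a) (h1 : Function.Injective (dev z))
    (h2 : Function.Injective (dev (z * z))) : Nat.card (dev c).ker ^ 3 ≤ Nat.card A := by
  let f : (dev c).ker × (dev c).ker × (dev c).ker →* A :=
    { toFun := fun v => (v.1 : A) * a v.2.1 * a (a v.2.2)
      map_one' := by simp
      map_mul' := fun v w => by
        simp only [Prod.fst_mul, Prod.snd_mul, Subgroup.coe_mul, map_mul]
        ac_rfl }
  have hf : Function.Injective f := by
    rw [injective_iff_map_eq_one]
    rintro ⟨⟨u, hu⟩, ⟨v, hv⟩, ⟨w, hw⟩⟩ he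
    change u * a v * a (a w) = 1 at he
    rw [MonoidHom.mem_ker, dev_eq_one] at hu hv hw
    have hca : ∀ x : A, c x = x → c (a x) = z (a x) := fun x hx => by
      have := DFunLike.congr_fun hz x
      show (c * a) x = _
      rw [this]
      show z (a (c x)) = _
      rw [hx]
    have hcaa : c (a (a w)) = (z * z) (a (a w)) := by
      have := DFunLike.congr_fun hz (a w)
      show (c * a) (a w) = _
      rw [this]
      show z (a (c (a w))) = _
      rw [hca w hw]
      show z ((a * z) (a w)) = _
      rw [hza]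
      rfl
    have e1 : dev z (a v) * dev (z * z) (a (a w)) = 1 := by
      have := congrArg (dev c) he
      rw [map_one, map_mul, map_mul, (dev_eq_one c u).2 hu, one_mul, dev_apply c, dev_apply c, hca v hv, hcaa] at this
      exact this
    have e2 : dev z (dev z (a v)) * dev (z * z) (dev (z * z) (a (a w))) = 1 := by
      have := congrArg (dev c) e1
      rw [map_one, map_mul, dev_dev_comm c z hzc, dev_dev_comm c (z * z) (by rw [← mul_assoc, hzc, mul_assoc, hzc, mul_assoc]),
        dev_apply c, dev_apply c, hca v hv, hcaa] at this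
      exact this
    have e3 : dev z (dev z (a v)) * dev z (dev (z * z) (a (a w))) = 1 := by
      rw [← map_mul, e1, map_one]
    have e4 : dev (z * z) (dev z (a (a w))) = dev (z * z) (dev (z * z) (a (a w))) := by
      rw [← dev_dev_comm z (z * z) (mul_assoc z z z).symm]
      exact mul_left_cancel (e3.trans e2.symm)
    have e5 : z (a (a w)) = a (a w) := by
      have h := h2 e4
      rw [dev_apply, dev_apply] at h
      have h' : z (a (a w)) = z (z (a (a w))) := div_left_inj.1 h
      exact (z.injective h').symm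
    have hw1 : a (a w) = 1 := h1 (by rw [map_one, dev_eq_one]; exact e5)
    rw [hw1, map_one, mul_one] at e1
    have hv1 : a v = 1 := h1 (by rw [map_one]; exact e1)
    rw [hv1, hw1, mul_one, mul_one] at he
    have hv2 : v = 1 := a.injective (hv1.trans (map_one a).symm)
    have hw2 : w = 1 := a.injective (a.injective (hw1.trans ((congrArg a (map_one a)).trans (map_one a)).symm))
    simp [he, hv2, hw2, Prod.ext_iff]
  have := Nat.card_le_card_of_injective f hf
  rw [Nat.card_prod, Nat.card_prod] at this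
  linarith [this]

theorem pow_eq_one_trick {A : Type*} [CommGroup A] (g : MulAut A) (x f : A) (hgx : g x = f * x) (hgf : g f = f)
    (m : ℕ) : (g ^ m) x = f ^ m * x := by
  induction m with
  | zero => simp
  | succ m ih =>
    rw [pow_succ']
    show g ((g ^ m) x) = _
    rw [ih, map_mul, map_pow, hgf, hgx, pow_succ, mul_assoc]

universe uA

/-- If a group of odd prime power order acts coprimely on an abelian group, has two generating sets
and every element is a product of a fixed point of a generator from the first set and one from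
the second, then the action is trivial. -/
theorem abelian_trivial (p : ℕ) [Fact p.Prime] (hp : p ≠ 2) :
    ∀ (n : ℕ) (A : Type uA) [CommGroup A] [Finite A] (K : Subgroup (MulAut A)) (C D : Set (MulAut A)),
      Nat.card A ≤ n → (Nat.card A).Coprime p → IsPGroup p K → Subgroup.closure C = K → Subgroup.closure D = K →
      (∀ c ∈ C, ∀ d ∈ D, ∀ a : A, ∃ y z : A, a = y * z ∧ c y = y ∧ d z = z) → K = ⊥ := by
  intro n
  induction n with
  | zero => intro A _ _ K C D h; exact absurd h (not_le.2 Nat.card_pos)
  | succ n ih =>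
    intro A _ _ K C D hn hcop hK hC hD hyp
    classical
    by_contra hne
    have hdev2 : ∀ g ∈ K, (∀ a, g (dev g a) = dev g a) → g = 1 := by
      intro g hg h
      apply MulEquiv.ext
      intro x
      obtain ⟨k, hk⟩ := (IsPGroup.iff_orderOf.1 hK) ⟨g, hg⟩
      rw [Subgroup.orderOf_mk] at hk
      have hgx : g x = dev g x * x := by rw [dev_apply, div_mul_cancel]
      have h2 := pow_eq_one_trick g x (dev g x) hgx (h x) (p ^ k)
      rw [← hk, pow_orderOf_eq_one, hk] at h2
      have h3 : (dev g x) ^ (p ^ k) = 1 := by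
        have : x = dev g x ^ p ^ k * x := h2
        simpa using this.symm
      have h4 : dev g x = 1 := by
        have h5 := Nat.dvd_gcd (orderOf_dvd_natCard (dev g x)) (orderOf_dvd_of_pow_eq_one h3)
        rw [(hcop.pow_right k).gcd_eq_one, Nat.dvd_one] at h5
        exact orderOf_eq_one_iff.1 h5
      exact (dev_eq_one g x).1 h4
    have hCK : ∀ c ∈ C, c ∈ K := fun c hc => hC ▸ Subgroup.subset_closure hc
    have hDK : ∀ d ∈ D, d ∈ K := fun d hd => hD ▸ Subgroup.subset_closure hd
    have fixK : ∀ (S : Set (MulAut A)), Subgroup.closure S = K → ∀ a : A, (∀ s ∈ S, s a = a) → ∀ g ∈ K, g a = a := by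
      intro S hS a h g hg
      rw [← hS] at hg
      induction hg using Subgroup.closure_induction with
      | mem s hs => exact h s hs
      | one => rfl
      | mul s t _ _ h1 h2 => show s (t a) = a; rw [h2, h1]
      | inv s _ h1 => show s.symm a = a; rw [MulEquiv.symm_apply_eq, h1]
    by_cases hab : ∀ g ∈ K, ∀ h ∈ K, g * h = h * g
    · apply hne
      rw [← hD, Subgroup.closure_eq_bot_iff]
      intro d hd
      refine hdev2 d (hDK d hd) fun a => ?_
      refine fixK C hC _ (fun c hc => ?_) d (hDK d hd)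
      obtain ⟨y, z, rfl, hy, hz⟩ := hyp c hc d hd a
      rw [map_mul, (dev_eq_one d z).2 hz, mul_one, dev_comm c d (hab c (hCK c hc) d (hDK d hd)), hy]
    push Not at hab
    have hfpf : ∀ z ∈ K, (∀ g ∈ K, g * z = z * g) → z ≠ 1 → Function.Injective (dev z) := by
      intro z hzK hzc hz1
      by_contra hinj
      set M : Subgroup A := (dev z).range with hM
      have hlt : Nat.card M < Nat.card A := by
        refine lt_of_le_of_ne (Subgroup.card_le_card_group M) fun h => hinj ?_
        exact ((Nat.bijective_iff_surjective_and_card (dev z)).2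
          ⟨MonoidHom.range_eq_top.1 (Subgroup.eq_top_of_card_eq M h), rfl⟩).1
      have hinv : ∀ g : K, ∀ m ∈ M, (g : MulAut A) m ∈ M := by
        rintro g _ ⟨a, rfl⟩
        exact ⟨(g : MulAut A) a, (dev_comm _ z (hzc g g.2) a).symm⟩
      let r : K →* MulAut M :=
        { toFun := fun g =>
            { toFun := fun m => ⟨(g : MulAut A) m, hinv g m m.2⟩
              invFun := fun m => ⟨((g⁻¹ : K) : MulAut A) m, hinv g⁻¹ m m.2⟩
              left_inv := fun m => Subtype.ext ((g : MulAut A).symm_apply_apply m)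
              right_inv := fun m => Subtype.ext ((g : MulAut A).apply_symm_apply m)
              map_mul' := fun x y => Subtype.ext (map_mul (g : MulAut A) (x : A) (y : A)) }
          map_one' := by ext m; rfl
          map_mul' := fun g h => by ext m; rfl }
      have hgen : ∀ S : Set (MulAut A), Subgroup.closure S = K →
          Subgroup.closure (r '' {g : K | (g : MulAut A) ∈ S}) = r.range := by
        intro S hS
        rw [← MonoidHom.map_closure, MonoidHom.range_eq_map]
        congr 1
        subst hS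
        exact Subgroup.closure_closure_coe_preimage
      have hMbot := ih M r.range (r '' {g : K | (g : MulAut A) ∈ C}) (r '' {g : K | (g : MulAut A) ∈ D})
        (by omega) (hcop.coprime_dvd_left (Subgroup.card_subgroup_dvd_card M))
        (hK.of_surjective r.rangeRestrict r.rangeRestrict_surjective) (hgen C hC) (hgen D hD) (by
          rintro _ ⟨c, hc, rfl⟩ _ ⟨d, hd, rfl⟩ ⟨_, a, rfl⟩
          obtain ⟨y, w, rfl, hy, hw⟩ := hyp c hc d hd a
          refine ⟨⟨dev z y, y, rfl⟩, ⟨dev z w, w, rfl⟩, Subtype.ext (map_mul _ _ _), ?_, ?_⟩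
          · refine Subtype.ext ?_
            show (c : MulAut A) (dev z y) = dev z y
            rw [dev_comm _ z (hzc c c.2), hy]
          · refine Subtype.ext ?_
            show (d : MulAut A) (dev z w) = dev z w
            rw [dev_comm _ z (hzc d d.2), hw])
      refine hz1 (hdev2 z hzK fun a => ?_)
      have : r ⟨z, hzK⟩ = 1 := Subgroup.mem_bot.1 (hMbot ▸ ⟨⟨z, hzK⟩, rfl⟩)
      exact congrArg Subtype.val (DFunLike.congr_fun this ⟨dev z a, a, rfl⟩)
    haveI : Finite K := inferInstance
    have hQne : Nontrivial (K ⧸ Subgroup.center K) := by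
      rw [QuotientGroup.nontrivial_iff]
      intro h
      obtain ⟨g, hg, g', hg', hne'⟩ := hab
      exact hne' (congrArg Subtype.val (Subgroup.mem_center_iff.1 (h ▸ Subgroup.mem_top (⟨g', hg'⟩ : K)) ⟨g, hg⟩))
    haveI := hQne
    haveI := (hK.to_quotient (Subgroup.center K)).center_nontrivial
    obtain ⟨ā, hā⟩ := exists_ne (1 : Subgroup.center (K ⧸ Subgroup.center K))
    obtain ⟨⟨a, haK⟩, hae⟩ := QuotientGroup.mk_surjective (ā : K ⧸ Subgroup.center K)
    have hanc : (⟨a, haK⟩ : K) ∉ Subgroup.center K := fun h => hā (Subtype.ext (hae.symm.trans ((QuotientGroup.eq_one_iff _).2 h)))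
    have bound : ∀ S : Set (MulAut A), Subgroup.closure S = K → ∃ s ∈ S, Nat.card (dev s).ker ^ 3 ≤ Nat.card A := by
      intro S hS
      obtain ⟨s, hsS, hsa⟩ : ∃ s ∈ S, s * a ≠ a * s := by
        by_contra hcon
        push Not at hcon
        apply hanc
        rw [Subgroup.mem_center_iff]
        rintro ⟨g, hg⟩
        apply Subtype.ext
        show g * a = a * g
        rw [← hS] at hg
        have hle : Subgroup.closure S ≤ Subgroup.centralizer {a} := by
          rw [Subgroup.closure_le]
          intro s hs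
          rw [SetLike.mem_coe, Subgroup.mem_centralizer_singleton_iff]
          exact hcon s hs
        exact Subgroup.mem_centralizer_singleton_iff.1 (hle hg)
      have hsK : s ∈ K := hS ▸ Subgroup.subset_closure hsS
      set z : K := ⟨s, hsK⟩ * ⟨a, haK⟩ * (⟨s, hsK⟩ : K)⁻¹ * (⟨a, haK⟩ : K)⁻¹ with hzdef
      have hzC : z ∈ Subgroup.center K := by
        rw [← QuotientGroup.eq_one_iff]
        simp only [hzdef, QuotientGroup.mk_mul, QuotientGroup.mk_inv, hae]
        rw [Subgroup.mem_center_iff.1 ā.2 _]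
        group
      have hzc : ∀ g ∈ K, g * (z : MulAut A) = z * g := fun g hg =>
        congrArg Subtype.val (Subgroup.mem_center_iff.1 hzC ⟨g, hg⟩)
      have hzeq : s * a = (z : MulAut A) * (a * s) := by simp [hzdef, mul_assoc]
      have hz1 : (z : MulAut A) ≠ 1 := fun h => hsa (by rw [hzeq, h, one_mul])
      have hz2 : (z : MulAut A) * z ≠ 1 := by
        intro h
        obtain ⟨k, hk⟩ := (IsPGroup.iff_orderOf.1 hK) z
        rw [← Subgroup.orderOf_coe] at hk
        have h2 : orderOf (z : MulAut A) ∣ 2 := orderOf_dvd_of_pow_eq_one (by rw [pow_two, h])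
        rcases (Nat.dvd_prime Nat.prime_two).1 h2 with h3 | h3
        · exact hz1 (orderOf_eq_one_iff.1 h3)
        · rw [h3] at hk
          rcases k with _ | k
          · simp at hk
          · exact hp ((Nat.prime_dvd_prime_iff_eq Fact.out Nat.prime_two).1 (hk ▸ dvd_pow_self p k.succ_ne_zero))
      refine ⟨s, hsS, triple_fixed s a z hzeq (hzc s hsK) (hzc a haK) (hfpf z z.2 hzc hz1)
        (hfpf _ (K.mul_mem z.2 z.2) (fun g hg => ?_) hz2)⟩
      rw [← mul_assoc, hzc g hg, mul_assoc, hzc g hg, mul_assoc]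
    obtain ⟨c, hcC, hcb⟩ := bound C hC
    obtain ⟨d, hdD, hdb⟩ := bound D hD
    have hsurj : Nat.card A ≤ Nat.card (dev c).ker * Nat.card (dev d).ker := by
      rw [← Nat.card_prod]
      refine Nat.card_le_card_of_surjective (fun v : (dev c).ker × (dev d).ker => (v.1 : A) * v.2) fun a => ?_
      obtain ⟨y, z, rfl, hy, hz⟩ := hyp c hcC d hdD a
      exact ⟨⟨⟨y, (dev_eq_one c y).2 hy⟩, ⟨z, (dev_eq_one d z).2 hz⟩⟩, rfl⟩
    have h6 : Nat.card A ^ 3 ≤ Nat.card A ^ 2 := by
      calc Nat.card A ^ 3 ≤ (Nat.card (dev c).ker * Nat.card (dev d).ker) ^ 3 := Nat.pow_le_pow_left hsurj 3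
        _ ≤ Nat.card A ^ 2 := by rw [mul_pow, pow_two]; exact Nat.mul_le_mul hcb hdb
    have h7 : Nat.card A ≤ 1 := by
      have hpos : 0 < Nat.card A ^ 2 := pow_pos Nat.card_pos 2
      rw [pow_succ] at h6
      exact Nat.le_of_mul_le_mul_left (by rw [mul_one]; exact h6) hpos
    haveI : Subsingleton A := Finite.card_le_one_iff_subsingleton.1 h7
    exact hne ((Subgroup.eq_bot_iff_forall _).2 fun g _ => MulEquiv.ext fun x => Subsingleton.elim _ _)

universe uG

/-- Fixed-point factorisation from the p-group hypothesis. -/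
theorem exists_factor {H : Type*} [Group H] [Finite H] {p : ℕ} [Fact p.Prime] (P : Sylow p H) (N : Subgroup H)
    [N.Normal] (hN : (Nat.card N).Coprime p) (hNP : N ⊔ (P : Subgroup H) = ⊤) {c d x : H}
    (hc : c ∈ P) (hd : d ∈ P) (hx : x ∈ N) (hQ : IsPGroup p ↥(Subgroup.closure ({x * c * x⁻¹, d} : Set H))) :
    ∃ y ∈ N, d * y = y * d ∧ c * (y⁻¹ * x) = (y⁻¹ * x) * c := by
  obtain ⟨S, hS⟩ := hQ.exists_le_sylow
  obtain ⟨g, rfl⟩ := MulAction.exists_smul_eq H P S
  have hg : g ∈ ((N ⊔ (P : Subgroup H) : Subgroup H) : Set H) := by rw [hNP]; exact Subgroup.mem_top g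
  rw [Subgroup.normal_mul] at hg
  obtain ⟨y, hy, q, hq, rfl⟩ := hg
  have hint : ∀ w ∈ N, w ∈ P → w = 1 := by
    intro w h1 h2
    obtain ⟨k, hk⟩ := (IsPGroup.iff_orderOf.1 P.isPGroup') ⟨w, h2⟩
    rw [Subgroup.orderOf_mk] at hk
    have h3 := Nat.dvd_gcd (Subgroup.orderOf_dvd_natCard (s := N) h1) hk.dvd
    rw [(hN.pow_right k).gcd_eq_one, Nat.dvd_one] at h3
    exact orderOf_eq_one_iff.1 h3
  have key : ∀ e ∈ P, ∀ u ∈ N, u * e * u⁻¹ ∈ ((y * q) • P : Sylow p H) → u * e * u⁻¹ = y * e * y⁻¹ := by
    intro e he u hu hm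
    obtain ⟨e', he', hee⟩ := Subgroup.mem_smul_pointwise_iff_exists _ _ _ |>.1 hm
    have he2 : q * e' * q⁻¹ ∈ P := P.mul_mem (P.mul_mem hq he') (P.inv_mem hq)
    have heq : u * e * u⁻¹ = y * (q * e' * q⁻¹) * y⁻¹ := by
      rw [← hee]; show (y * q) * e' * (y * q)⁻¹ = _; group
    set f := q * e' * q⁻¹
    have h1 : f⁻¹ * e ∈ N := by
      have hN' : ∀ w ∈ N, ∀ g : H, g⁻¹ * w * g ∈ N := fun w hw g => by
        simpa using Subgroup.Normal.conj_mem ‹N.Normal› w hw g⁻¹
      have he3 : e = u⁻¹ * (y * f * y⁻¹) * u := by rw [← heq]; group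
      have : f⁻¹ * e = (f⁻¹ * (u⁻¹ * y) * f) * (y⁻¹ * u) := by rw [he3]; group
      rw [this]
      exact N.mul_mem (hN' _ (N.mul_mem (N.inv_mem hu) hy) f) (N.mul_mem (N.inv_mem hy) hu)
    have h3 := hint _ h1 (P.mul_mem (P.inv_mem he2) he)
    rw [inv_mul_eq_one] at h3
    rw [heq, h3]
  refine ⟨y, hy, ?_, ?_⟩
  · have h := key d hd 1 N.one_mem (by
      rw [inv_one, mul_one, one_mul]
      exact hS (Subgroup.subset_closure (by simp)))
    rw [inv_one, mul_one, one_mul] at h
    exact eq_mul_inv_iff_mul_eq.1 h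
  · have h := key c hc x hx (hS (Subgroup.subset_closure (by simp)))
    calc c * (y⁻¹ * x) = y⁻¹ * (y * c * y⁻¹) * x := by group
      _ = y⁻¹ * (x * c * x⁻¹) * x := by rw [h]
      _ = y⁻¹ * x * c := by group

theorem invariant_rGroup {G : Type uG} [Group G] [Finite G] (p : ℕ) [Fact p.Prime] (hp : p ≠ 2) (P : Sylow p G)
    (N : Subgroup G) [N.Normal] (hN : (Nat.card N).Coprime p) (C D : Set G)
    (hC : Subgroup.closure C = (P : Subgroup G)) (hD : Subgroup.closure D = (P : Subgroup G))
    (h : ∀ x ∈ N, ∀ c ∈ C, ∀ d ∈ D, IsPGroup p ↥(Subgroup.closure ({x * c * x⁻¹, d} : Set G))) :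
    ∀ (n : ℕ) (R : Subgroup G), Nat.card R ≤ n → R ≤ N → Group.IsSolvable R →
      (∀ g ∈ P, ∀ r ∈ R, g * r * g⁻¹ ∈ R) → ∀ g ∈ P, ∀ r ∈ R, g * r = r * g := by
  intro n
  induction n with
  | zero => intro R h; exact absurd h (not_le.2 Nat.card_pos)
  | succ n ih =>
    intro R hn hRN hsol hinv g hg r hr
    classical
    by_cases htriv : R = ⊥
    · rw [htriv, Subgroup.mem_bot] at hr; simp [hr]
    haveI := hsol
    haveI : Nontrivial R := (Subgroup.nontrivial_iff_ne_bot R).2 htriv
    have hP : ∀ x : (P : Subgroup G), (x : G) ∈ Subgroup.normalizer (R : Set G) := fun x => by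
      rw [Subgroup.mem_normalizer_iff]
      intro w
      refine ⟨fun hw => hinv x x.2 w hw, fun hw => ?_⟩
      have := hinv _ (P.inv_mem x.2) _ hw
      simpa [mul_assoc] using this
    let ρ : (P : Subgroup G) →* MulAut R :=
      (Subgroup.normalizerMonoidHom R).comp (Subgroup.inclusion fun x hx => hP ⟨x, hx⟩)
    have hρ : ∀ (x : (P : Subgroup G)) (w : R), ((ρ x w : R) : G) = (x : G) * w * (x : G)⁻¹ := fun x w => rfl
    set R1 : Subgroup G := (commutator R).map R.subtype with hR1
    have hR1lt : Nat.card R1 < Nat.card R := by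
      rw [hR1, Subgroup.card_map_of_injective R.subtype_injective]
      refine lt_of_le_of_ne (Subgroup.card_le_card_group _) fun e => ?_
      exact (Group.IsSolvable.commutator_lt_top_of_nontrivial R).ne (Subgroup.eq_top_of_card_eq _ e)
    have hR1inv : ∀ g ∈ P, ∀ r ∈ R1, g * r * g⁻¹ ∈ R1 := by
      rintro g hg _ ⟨w, hw, rfl⟩
      refine ⟨ρ ⟨g, hg⟩ w, ?_, hρ ⟨g, hg⟩ w⟩
      have hchar : (commutator R).Characteristic := inferInstance
      rw [SetLike.mem_coe, ← Subgroup.characteristic_iff_map_eq.1 hchar (ρ ⟨g, hg⟩)]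
      exact ⟨w, hw, rfl⟩
    have hR1sol : Group.IsSolvable R1 := Group.isSolvable_of_surjective (f := ((R.subtype).subgroupMap (commutator R))) (MonoidHom.subgroupMap_surjective _ _)
    have hcent := ih R1 (by omega) ((Subgroup.map_subtype_le _).trans hRN) hR1sol hR1inv
    -- the action on the abelianisation
    let ρ' : (P : Subgroup G) →* MulAut (Abelianization R) :=
      { toFun := fun x => (ρ x).abelianizationCongr
        map_one' := by rw [map_one]; exact MulEquiv.ext fun a => QuotientGroup.induction_on a fun w => rfl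
        map_mul' := fun x y => by rw [map_mul]; exact MulEquiv.ext fun a => QuotientGroup.induction_on a fun w => rfl }
    have hρ' : ∀ (x : (P : Subgroup G)) (w : R), ρ' x (Abelianization.of w) = Abelianization.of (ρ x w) := fun x w => rfl
    have hgen : ∀ S : Set G, Subgroup.closure S = (P : Subgroup G) →
        Subgroup.closure (ρ' '' {x : (P : Subgroup G) | (x : G) ∈ S}) = ρ'.range := by
      intro S hS
      rw [← MonoidHom.map_closure, MonoidHom.range_eq_map]
      congr 1
      apply Subgroup.map_injective (P : Subgroup G).subtype_injective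
      rw [MonoidHom.map_closure, ← MonoidHom.range_eq_map, Subgroup.range_subtype]
      have him : ((P : Subgroup G).subtype '' {x : (P : Subgroup G) | (x : G) ∈ S}) = S := by
        ext z
        exact ⟨fun ⟨x, hx, e⟩ => e ▸ hx, fun hz => ⟨⟨z, hS ▸ Subgroup.subset_closure hz⟩, hz, rfl⟩⟩
      rw [him]
      exact hS
    have hbot := abelian_trivial p hp _ (Abelianization R) ρ'.range (ρ' '' {x : (P : Subgroup G) | (x : G) ∈ C})
      (ρ' '' {x : (P : Subgroup G) | (x : G) ∈ D}) le_rfl
      ((hN.coprime_dvd_left (Subgroup.card_dvd_of_le hRN)).coprime_dvd_left (Subgroup.card_quotient_dvd_card _))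
      (P.isPGroup'.of_surjective ρ'.rangeRestrict ρ'.rangeRestrict_surjective) (hgen C hC) (hgen D hD) (by
        rintro _ ⟨c, hc, rfl⟩ _ ⟨d, hd, rfl⟩ a
        induction a using QuotientGroup.induction_on with
        | _ w =>
          set H : Subgroup G := R ⊔ (P : Subgroup G) with hH
          have hPH : (P : Subgroup G) ≤ H := le_sup_right
          have hRH : R ≤ H := le_sup_left
          haveI : (R.subgroupOf H).Normal := (Subgroup.normal_subgroupOf_iff_le_normalizer hRH).2
            (sup_le Subgroup.le_normalizer fun x hx => hP ⟨x, hx⟩)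
          have hcop' : (Nat.card (R.subgroupOf H)).Coprime p := by
            rw [Nat.card_congr (Subgroup.subgroupOfEquivOfLe hRH).toEquiv]
            exact hN.coprime_dvd_left (Subgroup.card_dvd_of_le hRN)
          obtain ⟨y, hy, hdy, hcy⟩ := exists_factor (P.subtype hPH) (R.subgroupOf H) hcop'
            (by rw [Sylow.coe_subtype, ← Subgroup.subgroupOf_sup hRH hPH, Subgroup.subgroupOf_self])
            (c := ⟨c, hPH c.2⟩) (d := ⟨d, hPH d.2⟩) (x := ⟨w, hRH w.2⟩) c.2 d.2 w.2 (by
              refine (h w (hRN w.2) c hc d hd).of_injective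
                (((H.subtype).comp (Subgroup.subtype _)).codRestrict _ ?_) ?_
              · rintro ⟨u, hu⟩
                show (u : G) ∈ _
                induction hu using Subgroup.closure_induction with
                | mem u hu =>
                  rcases hu with rfl | hu
                  · exact Subgroup.subset_closure (Set.mem_insert _ _)
                  · rw [Set.mem_singleton_iff] at hu
                    subst hu
                    exact Subgroup.subset_closure (Set.mem_insert_of_mem _ rfl)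
                | one => exact Subgroup.one_mem _
                | mul u v _ _ h1 h2 => exact Subgroup.mul_mem _ h1 h2
                | inv u _ h1 => exact Subgroup.inv_mem _ h1
              · intro u v e
                have e' : ((u : H) : G) = ((v : H) : G) := by
                  have := congrArg Subtype.val e
                  simpa using this
                exact Subtype.ext (Subtype.ext e'))
          have hy' : (y : G) ∈ R := hy
          have hd' : (d : G) * y = y * d := congrArg Subtype.val hdy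
          have hc' : (c : G) * ((y : G)⁻¹ * w) = ((y : G)⁻¹ * w) * c := congrArg Subtype.val hcy
          refine ⟨Abelianization.of (⟨(y : G)⁻¹ * w, R.mul_mem (R.inv_mem hy') w.2⟩ : R), Abelianization.of (⟨y, hy'⟩ : R), ?_, ?_, ?_⟩
          · rw [← map_mul]
            have : (⟨y, hy'⟩ : R) * ⟨(y : G)⁻¹ * w, R.mul_mem (R.inv_mem hy') w.2⟩ = w := Subtype.ext (by simp)
            rw [map_mul, mul_comm, ← map_mul, this]; rfl
          · rw [hρ']
            refine congrArg _ (Subtype.ext ?_)
            rw [hρ]; show (c : G) * ((y : G)⁻¹ * w) * (c : G)⁻¹ = (y : G)⁻¹ * w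
            rw [hc', mul_inv_cancel_right]
          · rw [hρ']
            refine congrArg _ (Subtype.ext ?_)
            rw [hρ]; show (d : G) * y * (d : G)⁻¹ = y
            rw [hd', mul_inv_cancel_right])
    have h1 : ρ' ⟨g, hg⟩ = 1 := Subgroup.mem_bot.1 (hbot ▸ ⟨⟨g, hg⟩, rfl⟩)
    have h2 : Abelianization.of (ρ ⟨g, hg⟩ ⟨r, hr⟩ * (⟨r, hr⟩ : R)⁻¹) = 1 := by
      rw [map_mul, map_inv, ← hρ', h1]; simp
    have h3 : g * r * g⁻¹ * r⁻¹ ∈ R1 := by
      refine ⟨ρ ⟨g, hg⟩ ⟨r, hr⟩ * (⟨r, hr⟩ : R)⁻¹, ?_, rfl⟩
      rw [SetLike.mem_coe]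
      exact (QuotientGroup.eq_one_iff _).1 h2
    set f := g * r * g⁻¹ * r⁻¹ with hf
    have hgf := hcent g hg f h3
    have hpow : ∀ m : ℕ, g ^ m * r * (g ^ m)⁻¹ = f ^ m * r := by
      intro m
      induction m with
      | zero => simp
      | succ m ihm =>
        have hcm : g * f ^ m = f ^ m * g := (Commute.pow_right hgf m).eq
        calc g ^ (m + 1) * r * (g ^ (m + 1))⁻¹ = g * (g ^ m * r * (g ^ m)⁻¹) * g⁻¹ := by rw [pow_succ']; group
          _ = g * f ^ m * r * g⁻¹ := by rw [ihm]; group
          _ = f ^ m * (g * r * g⁻¹) := by rw [hcm]; group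
          _ = f ^ (m + 1) * r := by rw [show g * r * g⁻¹ = f * r by rw [hf]; group, pow_succ]; group
    obtain ⟨k, hk⟩ := (IsPGroup.iff_orderOf.1 P.isPGroup') ⟨g, hg⟩
    rw [Subgroup.orderOf_mk] at hk
    have h4 := hpow (p ^ k)
    rw [← hk, pow_orderOf_eq_one, hk, inv_one, mul_one, one_mul, eq_comm, mul_eq_right] at h4
    have h5 := Nat.dvd_gcd (Subgroup.orderOf_dvd_natCard (s := N) (((Subgroup.map_subtype_le _).trans hRN) h3)) (orderOf_dvd_of_pow_eq_one h4)
    rw [(hN.pow_right k).gcd_eq_one, Nat.dvd_one, orderOf_eq_one_iff] at h5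
    rw [hf, mul_inv_eq_one, mul_inv_eq_iff_eq_mul] at h5
    exact h5

/-- Let p ≥ 3 be prime and G a finite group with a Sylow p-subgroup P and a normal p-complement N (N normal, of order prime to p, with NP = G). Suppose P is generated by a subset C and also by a subset D, and that ⟨x c x⁻¹, d⟩ is a p-group for all x ∈ N, c ∈ C, d ∈ D. Then P centralizes N, so that G = N × P. -/
theorem result {G : Type*} [Group G] [Finite G] (p : ℕ) [Fact p.Prime] (hp3 : 3 ≤ p) (P : Sylow p G)
    (N : Subgroup G) [N.Normal] (hN : (Nat.card N).Coprime p) (hNP : N ⊔ (P : Subgroup G) = ⊤)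
    (C D : Set G) (hC : Subgroup.closure C = (P : Subgroup G)) (hD : Subgroup.closure D = (P : Subgroup G))
    (h : ∀ x ∈ N, ∀ c ∈ C, ∀ d ∈ D, IsPGroup p ↥(Subgroup.closure ({x * c * x⁻¹, d} : Set G))) :
    ⁅(P : Subgroup G), N⁆ = ⊥ := by
  classical
  have hp : p ≠ 2 := by omega
  rw [Subgroup.commutator_eq_bot_iff_le_centralizer]
  set Z : Subgroup G := N ⊓ Subgroup.centralizer ((P : Subgroup G) : Set G) with hZ
  suffices hd : Nat.card N ∣ Nat.card Z by
    have hZN : Z = N := Subgroup.eq_of_le_of_card_ge inf_le_left (Nat.le_of_dvd Nat.card_pos hd)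
    intro g hg
    rw [Subgroup.mem_centralizer_iff]
    intro x hx
    rw [SetLike.mem_coe, ← hZN] at hx
    exact (Subgroup.mem_centralizer_iff.1 hx.2 g hg).symm
  rw [Nat.dvd_iff_prime_pow_dvd_dvd]
  intro r k hr hk
  haveI := Fact.mk hr
  let R : Sylow r N := Classical.arbitrary _
  set M := Subgroup.normalizer (((R : Subgroup N).map N.subtype : Subgroup G) : Set G) with hM
  have hMN : M ⊔ N = ⊤ := Sylow.normalizer_sup_eq_top R
  have hMindex : ¬ p ∣ M.index := by
    intro hd
    have h1 : M.index = (M.subgroupOf N).index := by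
      have e1 := Subgroup.relIndex_mul_index (inf_le_right : M ⊓ N ≤ N)
      have e2 := Subgroup.relIndex_mul_index (inf_le_left : M ⊓ N ≤ M)
      rw [Subgroup.inf_relIndex_right] at e1
      rw [Subgroup.inf_relIndex_left, ← Subgroup.relIndex_sup_right (H := M) (K := N), hMN, Subgroup.relIndex_top_right] at e2
      have := e1.trans e2.symm
      rw [mul_comm N.index] at this
      exact (Nat.eq_of_mul_eq_mul_right (Nat.pos_of_ne_zero Subgroup.index_ne_zero_of_finite) this).symm
    rw [h1] at hd
    exact ((Fact.out : p.Prime).coprime_iff_not_dvd.1 hN.symm) (hd.trans (Subgroup.index_dvd_card _))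
  let S : Sylow p M := Classical.arbitrary _
  have hS : ¬ p ∣ ((S : Subgroup M).map M.subtype).index := by
    rw [Subgroup.index_map_subtype]
    exact Nat.Prime.not_dvd_mul Fact.out S.not_dvd_index hMindex
  let S' : Sylow p G := (S.isPGroup'.map M.subtype).toSylow hS
  obtain ⟨g, hg⟩ := MulAction.exists_smul_eq G S' P
  set R' : Subgroup G := MulAut.conj g • ((R : Subgroup N).map N.subtype) with hR'
  have hR'N : R' ≤ N := by
    intro x hx
    obtain ⟨w, hw, rfl⟩ := Subgroup.mem_smul_pointwise_iff_exists _ _ _ |>.1 hx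
    exact Subgroup.Normal.conj_mem inferInstance w (Subgroup.map_subtype_le _ hw) g
  have hcard : Nat.card R' = Nat.card (R : Subgroup N) := by
    rw [hR', ← Nat.card_congr (Subgroup.equivSMul (MulAut.conj g) _).toEquiv,
      Subgroup.card_map_of_injective N.subtype_injective]
  have hRp : IsPGroup r R' := by
    refine IsPGroup.of_equiv ?_ (Subgroup.equivSMul (MulAut.conj g) _)
    exact R.isPGroup'.map _
  have hinv : ∀ x ∈ P, ∀ w ∈ R', x * w * x⁻¹ ∈ R' := by
    intro x hx w hw
    rw [← hg] at hx
    obtain ⟨s, hs, rfl⟩ := Subgroup.mem_smul_pointwise_iff_exists _ _ _ |>.1 hx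
    obtain ⟨t, ht, rfl⟩ := Subgroup.mem_smul_pointwise_iff_exists _ _ _ |>.1 hw
    refine Subgroup.mem_smul_pointwise_iff_exists _ _ _ |>.2 ⟨s * t * s⁻¹, ?_, ?_⟩
    · obtain ⟨s', hs', rfl⟩ := hs
      exact (Subgroup.mem_normalizer_iff.1 s'.2 t).1 ht
    · simp
  haveI : Group.IsNilpotent R' := hRp.isNilpotent
  have hc := invariant_rGroup p hp P N hN C D hC hD h (Nat.card R') R' le_rfl hR'N inferInstance hinv
  have hRZ : R' ≤ Z := by
    intro x hx
    refine ⟨hR'N hx, ?_⟩
    show x ∈ Subgroup.centralizer _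
    rw [Subgroup.mem_centralizer_iff]
    exact fun g hg => hc g hg x hx
  refine dvd_trans ?_ (Subgroup.card_dvd_of_le hRZ)
  rw [hcard]
  exact Sylow.pow_dvd_card_of_pow_dvd_card R hk

end Cfsg.Agent.S2277
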