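import Cfsg.Statements.S2280
import Cfsg.Agent.Lib.Generation.SLUnipotent

set_option autoImplicit false
open Cfsg

namespace Cfsg.Agent.S2280

open CfsgLib.Generation CfsgLib.Transvec Matrix

theorem sub_one_mulVec_succ {F : Type*} [Field F] {n : ℕ} (k : ℕ) (hk : k + 1 < n) :
    (upperUni n F - 1) *ᵥ eVec n F (k + 1) = eVec n F k := by
  rw [sub_mulVec, one_mulVec, upperUni_mulVec_succ k hk, add_sub_cancel_left]

theorem pow_mulVec {F : Type*} [Field F] {n : ℕ} :
    ∀ (j k : ℕ), j + k < n → (upperUni n F - 1) ^ j *ᵥ eVec n F (j + k) = eVec n F k := by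
  intro j
  induction j with
  | zero => intro k _; simp
  | succ j ih =>
    intro k hk
    rw [pow_succ, ← mulVec_mulVec, show j + 1 + k = (j + k) + 1 by ring,
      sub_one_mulVec_succ _ (by omega)]
    exact ih k (by omega)

theorem isNilpotent_upper {F : Type*} [Field F] {n : ℕ} :
    IsNilpotent (upperUni n F - 1) := by
  refine ⟨n, ?_⟩
  have key : ∀ (j k : ℕ), k < j → k < n → (upperUni n F - 1) ^ j *ᵥ eVec n F k = 0 := by
    intro j
    induction j with
    | zero => intro k hk; omega
    | succ j ih =>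
      intro k hk hkn
      rw [pow_succ, ← mulVec_mulVec]
      rcases Nat.eq_zero_or_pos k with rfl | hpos
      · rw [sub_mulVec, one_mulVec, upperUni_mulVec_zero, sub_self, mulVec_zero]
      · obtain ⟨k', rfl⟩ := Nat.exists_eq_succ_of_ne_zero hpos.ne'
        rw [sub_one_mulVec_succ k' hkn]
        exact ih k' (by omega) (by omega)
  apply Matrix.ext_of_mulVec_single
  intro i
  rw [← eVec_fin, key n i.val i.isLt i.isLt, zero_mulVec]

/-- Let F be a finite field and n ≥ 3. Then SL_n(F) is generated by three conjugate regular unipotent elements: there are u with u − 1 nilpotent and (u − 1)^(n−1) ≠ 0, and g, h, such that u, g u g⁻¹ and h u h⁻¹ generate SL_n(F). -/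
theorem result {F : Type*} [Field F] [Fintype F] (n : ℕ) (hn : 3 ≤ n) :
    ∃ u g h : Matrix.SpecialLinearGroup (Fin n) F, (IsNilpotent ((u : Matrix (Fin n) (Fin n) F) - 1) ∧ ((u : Matrix (Fin n) (Fin n) F) - 1) ^ (n - 1) ≠ 0) ∧
      Subgroup.closure ({u, g * u * g⁻¹, h * u * h⁻¹} : Set (Matrix.SpecialLinearGroup (Fin n) F)) = ⊤ := by
  classical
  obtain ⟨gen, hgen⟩ := IsCyclic.exists_generator (α := Fˣ)
  set ε : F := ((Equiv.Perm.sign (Fin.revPerm : Equiv.Perm (Fin n)) : ℤ) : F) with hε
  have hεε : ε * ε = 1 := by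
    rw [hε]
    rcases Int.units_eq_one_or (Equiv.Perm.sign (Fin.revPerm : Equiv.Perm (Fin n))) with h | h <;>
      simp [h]
  have hε0 : ε ≠ 0 := left_ne_zero_of_mul_eq_one hεε
  set d : ℕ → F := fun k => if k = 0 then ε else 1 with hd
  have hd0 : ∀ k, d k ≠ 0 := fun k => by simp only [hd]; split_ifs <;> simp [hε0]
  set b : ℕ → F := fun k => d (k + 1) * (d k)⁻¹ with hb
  let W : Matrix (Fin n) (Fin n) F :=
    diagonal (fun i => d i.val) * Equiv.Perm.permMatrix F (Fin.revPerm : Equiv.Perm (Fin n))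
  have hWdet : W.det = 1 := by
    rw [det_mul, det_diagonal, det_permutation]
    rw [Finset.prod_eq_single (⟨0, by omega⟩ : Fin n)]
    · simpa [hd] using hεε
    · intro i _ hi
      simp only [Ne, Fin.ext_iff] at hi
      simp [hd, hi]
    · simp
  let w : Matrix.SpecialLinearGroup (Fin n) F := ⟨W, hWdet⟩
  let u : Matrix.SpecialLinearGroup (Fin n) F := ⟨upperUni n F, det_upperUni⟩
  let U : GL (Fin n) F := Matrix.SpecialLinearGroup.toGL u
  let V : GL (Fin n) F := Matrix.SpecialLinearGroup.toGL (w * u * w⁻¹)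
  have hWk : ∀ k, k < n → W *ᵥ eVec n F k = d (n - 1 - k) • eVec n F (n - 1 - k) := by
    intro k hk
    rw [← mulVec_mulVec, permMatrix_mulVec]
    funext i
    rw [mulVec_diagonal]
    have := i.isLt
    simp only [Function.comp, Pi.smul_apply, smul_eq_mul, eVec, Fin.revPerm_apply, Fin.val_rev]
    by_cases h : i.val = n - 1 - k
    · rw [if_pos (by omega), if_pos h, h]
    · rw [if_neg (by omega), if_neg h, mul_zero, mul_zero]
  have hwinv : ((w⁻¹ : Matrix.SpecialLinearGroup (Fin n) F)).1 * W = 1 :=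
    congrArg Subtype.val (inv_mul_cancel w)
  have hVval : (V : Matrix (Fin n) (Fin n) F) =
      W * upperUni n F * (w⁻¹ : Matrix.SpecialLinearGroup (Fin n) F).1 := rfl
  have hvk : ∀ k, k < n → (V : Matrix (Fin n) (Fin n) F) *ᵥ eVec n F k
      = eVec n F k + b k • eVec n F (k + 1) := by
    intro k hk
    have hpre : eVec n F k = W *ᵥ ((d k)⁻¹ • eVec n F (n - 1 - k)) := by
      rw [mulVec_smul, hWk _ (by omega), show n - 1 - (n - 1 - k) = k by omega, smul_smul,
        inv_mul_cancel₀ (hd0 k), one_smul]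
    conv_lhs => rw [hpre, hVval, mulVec_mulVec, mul_assoc, hwinv, mul_one, ← mulVec_mulVec]
    rw [mulVec_smul, mulVec_smul]
    rcases Nat.lt_or_ge (k + 1) n with h | h
    · rw [show n - 1 - k = (n - 1 - (k + 1)) + 1 by omega, upperUni_mulVec_succ _ (by omega),
        mulVec_add, hWk _ (by omega), hWk _ (by omega),
        show n - 1 - (n - 1 - (k + 1) + 1) = k by omega,
        show n - 1 - (n - 1 - (k + 1)) = k + 1 by omega, smul_add, smul_smul, smul_smul,
        inv_mul_cancel₀ (hd0 k), one_smul, mul_comm]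
    · rw [show n - 1 - k = 0 by omega, upperUni_mulVec_zero, hWk _ (by omega),
        show n - 1 - 0 = k by omega, smul_smul, inv_mul_cancel₀ (hd0 k), one_smul,
        eVec_eq_zero h, smul_zero, add_zero]
  set μ : F := (eVec n F (n - 1) ᵥ* ((V⁻¹ : GL (Fin n) F) : Matrix (Fin n) (Fin n) F)) ⬝ᵥ
      eVec n F 0 * b 0 with hμ
  set c : F := μ⁻¹ * gen with hc
  set i0 : Fin n := ⟨0, by omega⟩ with hi0
  set i1 : Fin n := ⟨n - 2, by omega⟩ with hi1
  set i2 : Fin n := ⟨n - 1, by omega⟩ with hi2
  let g : Matrix.SpecialLinearGroup (Fin n) F :=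
    Matrix.SpecialLinearGroup.transvection (i := i0) (j := i1) (by simp [hi0, hi1, Fin.ext_iff]; omega) c
  refine ⟨u, g, w, ⟨isNilpotent_upper, ?_⟩, ?_⟩
  · intro h
    have h1 : (upperUni n F - 1) ^ (n - 1) = 0 := h
    have := pow_mulVec (F := F) (n := n) (n - 1) 0 (by omega)
    rw [h1, zero_mulVec] at this
    have := congrFun this i0
    simp [eVec, hi0] at this
  set C := Subgroup.closure ({u, g * u * g⁻¹, w * u * w⁻¹} : Set (Matrix.SpecialLinearGroup (Fin n) F))
  set M := C.map Matrix.SpecialLinearGroup.toGL with hM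
  have hmem : ∀ x, x ∈ ({u, g * u * g⁻¹, w * u * w⁻¹} : Set (Matrix.SpecialLinearGroup (Fin n) F)) →
      Matrix.SpecialLinearGroup.toGL x ∈ M := fun x hx =>
    Subgroup.mem_map_of_mem _ (Subgroup.subset_closure hx)
  have hT : transv (c • eVec n F 0) (eVec n F (n - 1)) ∈ M := by
    have hd : eVec n F (n - 1) ⬝ᵥ (c • eVec n F 0) = 0 := by
      rw [dotProduct_smul, eVec_dot_eVec _ _ (by omega), if_neg (by omega), smul_zero]
    have key : Matrix.SpecialLinearGroup.toGL (g * u * g⁻¹) =
        Matrix.SpecialLinearGroup.toGL u * transv (c • eVec n F 0) (eVec n F (n - 1)) := by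
      rw [map_mul, map_mul, map_inv, mul_inv_eq_iff_eq_mul]
      apply Units.ext
      have hg1 : ((Matrix.SpecialLinearGroup.toGL g : GL (Fin n) F) : Matrix (Fin n) (Fin n) F)
          = 1 + vecMulVec (c • eVec n F 0) (eVec n F (n - 2)) := by
        show Matrix.transvection i0 i1 c = _
        ext i j
        simp only [Matrix.transvection, Matrix.add_apply, Matrix.single_apply, vecMulVec_apply, eVec,
          Pi.smul_apply, smul_eq_mul, hi0, hi1, Fin.ext_iff]
        by_cases h1 : i.val = 0 <;> by_cases h2 : j.val = n - 2 <;>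
          simp [h1, h2, eq_comm (a := (0 : ℕ)) (b := i.val), eq_comm (a := n - 2) (b := j.val)]
      simp only [Units.val_mul, transv_val hd, hg1]
      show (1 + vecMulVec (c • eVec n F 0) (eVec n F (n - 2))) * upperUni n F =
        upperUni n F * (1 + vecMulVec (c • eVec n F 0) (eVec n F (n - 1))) *
          (1 + vecMulVec (c • eVec n F 0) (eVec n F (n - 2)))
      have e1 : upperUni n F *ᵥ (c • eVec n F 0) = c • eVec n F 0 := by
        rw [mulVec_smul, upperUni_mulVec_zero]
      have e2 : eVec n F (n - 2) ᵥ* upperUni n F = eVec n F (n - 2) + eVec n F (n - 1) := by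
        rw [show eVec n F (n - 2) = Pi.single i1 1 from eVec_fin i1, single_one_vecMul]
        funext j
        have := j.isLt
        simp only [upperUni, Matrix.row_apply, Matrix.of_apply, Pi.add_apply, Pi.single_apply, eVec,
          hi1, Fin.ext_iff]
        by_cases h1 : j.val = n - 2
        · simp [h1]; omega
        · by_cases h2 : j.val = n - 1
          · simp [h2, show n - 2 + 1 = n - 1 by omega, show ¬ (n - 1 = n - 2) by omega]
          · rw [if_neg (by omega), if_neg h1, if_neg h2, add_zero]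
      have e3 : eVec n F (n - 1) ⬝ᵥ (c • eVec n F 0) = 0 := hd
      have eU : ∀ x : Fin n → F, upperUni n F * vecMulVec (c • eVec n F 0) x
          = vecMulVec (c • eVec n F 0) x := fun x => by rw [mul_vecMulVec, e1]
      have eA : vecMulVec (c • eVec n F 0) (eVec n F (n - 1)) *
          vecMulVec (c • eVec n F 0) (eVec n F (n - 2)) = 0 := by
        rw [vecMulVec_mul_vecMulVec, e3, zero_smul, vecMulVec_zero]
      calc _ = upperUni n F + (vecMulVec (c • eVec n F 0) (eVec n F (n - 2)) +
            vecMulVec (c • eVec n F 0) (eVec n F (n - 1))) := by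
            rw [add_mul, one_mul, vecMulVec_mul, e2, vecMulVec_add]
        _ = _ := by
            simp only [mul_add, add_mul, mul_one, eU, eA, add_zero]
            abel
    have h1 := M.mul_mem (M.inv_mem (hmem u (by simp))) (hmem (g * u * g⁻¹) (by simp))
    rwa [key, inv_mul_cancel_left] at h1
  have hle := specialLinear_le_of_mem hn b (fun k => mul_ne_zero (hd0 _) (inv_ne_zero (hd0 _)))
    U V (hmem u (by simp)) (hmem (w * u * w⁻¹) (by simp)) rfl hvk μ hμ gen hgen hT
  rw [eq_top_iff]
  intro x _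
  have hx : Matrix.SpecialLinearGroup.toGL x ∈ M := hle ((mem_specialLinear_iff _).2 x.2)
  obtain ⟨y, hy, hxy⟩ := Subgroup.mem_map.1 hx
  have : y = x := Subtype.ext (congrArg Units.val hxy)
  rwa [this] at hy

end Cfsg.Agent.S2280
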