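import Cfsg.Statements.S2281
import Cfsg.Agent.Lib.KnownSimple.RegUnipotentGen.SpMain

set_option autoImplicit false
open Cfsg

namespace Cfsg.Agent.S2281

open Matrix CfsgLib.Transvec CfsgLib.RegUnipotentGen.Sp

private lemma mem_symp_of_iso {F : Type*} [Field F] {n : ℕ} {g : GL (Fin n ⊕ Fin n) F}
    (hg : Iso (Cfsg.sympForm n F) g) :
    (g : Matrix (Fin n ⊕ Fin n) (Fin n ⊕ Fin n) F) ∈ Matrix.symplecticGroup (Fin n) F := by
  rw [SymplecticGroup.mem_iff']
  ext i j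
  have h := hg (Pi.single i 1) (Pi.single j 1)
  simp only [Cfsg.sympForm, mulVec_single_one, single_dotProduct, one_mul] at h
  rw [Matrix.mul_assoc, Matrix.mul_apply]
  simpa [dotProduct, mulVec, Matrix.mul_apply, Matrix.transpose_apply, Matrix.col_apply, Finset.mul_sum] using h

private lemma iso_val {F : Type*} [Field F] {n : ℕ} (A : Matrix.symplecticGroup (Fin n) F) :
    Iso (Cfsg.sympForm n F) ((Matrix.symplecticGroup (Fin n) F).subtype.toHomUnits A) := fun x y => by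
  show (A.1 *ᵥ x) ⬝ᵥ (Matrix.J (Fin n) F *ᵥ (A.1 *ᵥ y)) = x ⬝ᵥ (Matrix.J (Fin n) F *ᵥ y)
  rw [mulVec_mulVec, dotProduct_comm, dotProduct_mulVec, ← mulVec_transpose, mulVec_mulVec, dotProduct_comm,
    ← Matrix.mul_assoc, SymplecticGroup.mem_iff'.1 A.2]

/-- Let F be a finite field and n ≥ 2, excluding the case n = 2 with F of two elements (where the group is not quasisimple). Then the symplectic group Sp_2n(F) is generated by three conjugate regular unipotent elements: there are u ∈ Sp_2n(F) with u − 1 nilpotent and (u − 1)^(2n−1) ≠ 0, and g, h ∈ Sp_2n(F), such that u, g u g⁻¹ and h u h⁻¹ generate Sp_2n(F). -/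
theorem result {F : Type*} [Field F] [Fintype F] (n : ℕ) (hn : 2 ≤ n) (h22 : ¬ (n = 2 ∧ Fintype.card F = 2)) :
    ∃ u g h : Matrix.symplecticGroup (Fin n) F,
      IsNilpotent ((u : Matrix (Fin n ⊕ Fin n) (Fin n ⊕ Fin n) F) - 1) ∧
      ((u : Matrix (Fin n ⊕ Fin n) (Fin n ⊕ Fin n) F) - 1) ^ (2 * n - 1) ≠ 0 ∧
      Subgroup.closure ({u, g * u * g⁻¹, h * u * h⁻¹} : Set (Matrix.symplecticGroup (Fin n) F)) = ⊤ := by
  obtain ⟨u, z, w, c, d, hu, hN, hN', hgen⟩ : ∃ (u : GL (Fin n ⊕ Fin n) F) (z w : Fin n ⊕ Fin n → F) (c d : F),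
      Iso (Cfsg.sympForm n F) u ∧
      ((u : Matrix (Fin n ⊕ Fin n) (Fin n ⊕ Fin n) F) - 1) ^ (2 * n) = 0 ∧
      ((u : Matrix (Fin n ⊕ Fin n) (Fin n ⊕ Fin n) F) - 1) ^ (2 * n - 1) ≠ 0 ∧ GenData u z w c d := by
    have h2 : 2 ≤ Fintype.card F := Fintype.one_lt_card
    rcases (show Fintype.card F = 2 ∨ Fintype.card F = 3 ∨ 4 ≤ Fintype.card F by omega) with h | h | h
    · exact gen_two (by by_contra hh; exact h22 ⟨by omega, h⟩) h
    · exact gen_three hn h
    · exact gen_four hn h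
  have hf := isSymplecticForm_sympForm (F := F) n
  set ρ : Matrix.symplecticGroup (Fin n) F →* GL (Fin n ⊕ Fin n) F :=
    (Matrix.symplecticGroup (Fin n) F).subtype.toHomUnits with hρ
  let U : Matrix.symplecticGroup (Fin n) F := ⟨_, mem_symp_of_iso hu⟩
  let g : Matrix.symplecticGroup (Fin n) F := ⟨_, mem_symp_of_iso (iso_sT hf z c)⟩
  let h : Matrix.symplecticGroup (Fin n) F := ⟨_, mem_symp_of_iso (iso_sT hf w d)⟩
  have hU : ρ U = u := Units.ext rfl
  have hg : ρ g = sT (Cfsg.sympForm n F) z c := Units.ext rfl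
  have hh : ρ h = sT (Cfsg.sympForm n F) w d := Units.ext rfl
  refine ⟨U, g, h, ⟨2 * n, hN⟩, hN', ?_⟩
  set S := Subgroup.closure ({U, g * U * g⁻¹, h * U * h⁻¹} : Set (Matrix.symplecticGroup (Fin n) F)) with hS
  have hall : ∀ x, Full (Cfsg.sympForm n F) (S.map ρ) x := by
    refine hgen _ ⟨U, Subgroup.subset_closure (by simp), hU⟩ ⟨g * U * g⁻¹, Subgroup.subset_closure (by simp), ?_⟩
      ⟨h * U * h⁻¹, Subgroup.subset_closure (by simp), ?_⟩
    · rw [map_mul, map_mul, map_inv, hU, hg]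
    · rw [map_mul, map_mul, map_inv, hU, hh]
  refine (Subgroup.eq_top_iff' S).2 fun X => ?_
  obtain ⟨Y, hY, hYX⟩ := iso_mem_of_full hf hall (iso_val X)
  have : Y = X := Subtype.ext (congrArg Units.val hYX)
  exact this ▸ hY

end Cfsg.Agent.S2281
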