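import Cfsg.Statements.S2282
import Cfsg.Agent.Lib.KnownSimple.RegUnipotentGen.SUOddMain

set_option autoImplicit false
open Cfsg

namespace Cfsg.Agent.S2282

/-- Let F be a field with q² elements, n ≥ 3 odd with (n, q) ≠ (3, 2), and SU_n(q) the special unitary group of the standard Hermitian form Σ u_i v_i^q. Then SU_n(q) is generated by three conjugate regular unipotent elements: there are u ∈ SU_n(q) with u − 1 nilpotent and (u − 1)^(n−1) ≠ 0, and g, h ∈ SU_n(q), such that u, g u g⁻¹ and h u h⁻¹ generate SU_n(q). -/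
theorem result {F : Type*} [Field F] [Fintype F] (q : ℕ) (hF : Fintype.card F = q ^ 2) (n : ℕ) (hn : 3 ≤ n) (hodd : Odd n) (h32 : ¬ (n = 3 ∧ q = 2)) :
    ∃ u g h : ↥(Cfsg.SU n F q), (IsNilpotent (((u : Matrix.SpecialLinearGroup (Fin n) F) : Matrix (Fin n) (Fin n) F) - 1) ∧ (((u : Matrix.SpecialLinearGroup (Fin n) F) : Matrix (Fin n) (Fin n) F) - 1) ^ (n - 1) ≠ 0) ∧
      Subgroup.closure ({u, g * u * g⁻¹, h * u * h⁻¹} : Set ↥(Cfsg.SU n F q)) = ⊤ := by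
  obtain ⟨σ, hσ, hinv, hne⟩ := CfsgLib.Transvec.Unitary.exists_frob hF
  obtain ⟨u, g, h, hu, hg, hh, hreg, hgen⟩ :=
    CfsgLib.RegUnipotentGen.Herm.hasTriple_hermForm hF hσ hinv hne hn hodd h32
  rw [← CfsgLib.Classical.Unitary.range_suToGL hF hσ hinv hne hn h32] at hgen
  obtain ⟨U, hU⟩ : ∃ U : Cfsg.SU n F q, CfsgLib.Classical.Unitary.suToGL U = u :=
    ⟨⟨⟨(u : Matrix (Fin n) (Fin n) F), hu.2⟩, fun a b => hu.1 a b⟩, Units.ext rfl⟩
  obtain ⟨G, hG⟩ : ∃ G : Cfsg.SU n F q, CfsgLib.Classical.Unitary.suToGL G = g :=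
    ⟨⟨⟨(g : Matrix (Fin n) (Fin n) F), hg.2⟩, fun a b => hg.1 a b⟩, Units.ext rfl⟩
  obtain ⟨H, hH⟩ : ∃ H : Cfsg.SU n F q, CfsgLib.Classical.Unitary.suToGL H = h :=
    ⟨⟨⟨(h : Matrix (Fin n) (Fin n) F), hh.2⟩, fun a b => hh.1 a b⟩, Units.ext rfl⟩
  refine ⟨U, G, H, ?_, ?_⟩
  · rw [← CfsgLib.Classical.Unitary.suToGL_val U, hU]
    exact ⟨⟨n, hreg.1⟩, hreg.2⟩
  · refine Subgroup.map_injective CfsgLib.Classical.Unitary.suToGL_injective (le_antisymm ?_ ?_)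
    · exact Subgroup.map_mono le_top
    · rw [← MonoidHom.range_eq_map, MonoidHom.map_closure]
      refine le_trans hgen (le_of_eq (congrArg Subgroup.closure ?_))
      rw [Set.image_insert_eq, Set.image_pair, map_mul, map_mul, map_inv, map_mul, map_mul, map_inv, hU, hG, hH]

end Cfsg.Agent.S2282
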