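import Cfsg.Statements.S2283
import Cfsg.Agent.Lib.KnownSimple.RegUnipotentGen.SUThreeField

set_option autoImplicit false
open Cfsg

namespace Cfsg.Agent.S2283

/-- Let F be a field with q² elements, q ≥ 3, and SU_3(q) the special unitary group of the standard Hermitian form. Then SU_3(q) is generated by two conjugate regular unipotent elements: there are u ∈ SU_3(q) with u − 1 nilpotent and (u − 1)² ≠ 0, and g ∈ SU_3(q), such that u and g u g⁻¹ generate SU_3(q). -/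
theorem result {F : Type*} [Field F] [Fintype F] (q : ℕ) (hq : 3 ≤ q) (hF : Fintype.card F = q ^ 2) :
    ∃ u g : ↥(Cfsg.SU 3 F q), (IsNilpotent (((u : Matrix.SpecialLinearGroup (Fin 3) F) : Matrix (Fin 3) (Fin 3) F) - 1) ∧ (((u : Matrix.SpecialLinearGroup (Fin 3) F) : Matrix (Fin 3) (Fin 3) F) - 1) ^ (3 - 1) ≠ 0) ∧
      Subgroup.closure ({u, g * u * g⁻¹} : Set ↥(Cfsg.SU 3 F q)) = ⊤ := by
  obtain ⟨σ, hσ, hinv, hne⟩ := CfsgLib.Transvec.Unitary.exists_frob hF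
  obtain ⟨u, g, hu, hg, hreg, hgen⟩ :=
    CfsgLib.KnownSimple.RegUnipotentGen.UnitaryThree.hasPair_hermForm hF hσ hinv hne hq
  have h32 : ¬(3 = 3 ∧ q = 2) := fun h => by omega
  rw [← CfsgLib.Classical.Unitary.range_suToGL hF hσ hinv hne (le_refl 3) h32] at hgen
  obtain ⟨U, hU⟩ : ∃ U : Cfsg.SU 3 F q, CfsgLib.Classical.Unitary.suToGL U = u :=
    ⟨⟨⟨(u : Matrix (Fin 3) (Fin 3) F), hu.2⟩, fun a b => hu.1 a b⟩, Units.ext rfl⟩
  obtain ⟨G, hG⟩ : ∃ G : Cfsg.SU 3 F q, CfsgLib.Classical.Unitary.suToGL G = g :=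
    ⟨⟨⟨(g : Matrix (Fin 3) (Fin 3) F), hg.2⟩, fun a b => hg.1 a b⟩, Units.ext rfl⟩
  refine ⟨U, G, ?_, ?_⟩
  · rw [← CfsgLib.Classical.Unitary.suToGL_val U, hU]
    exact ⟨⟨3, hreg.1⟩, hreg.2⟩
  · refine Subgroup.map_injective CfsgLib.Classical.Unitary.suToGL_injective (le_antisymm ?_ ?_)
    · exact Subgroup.map_mono le_top
    · rw [← MonoidHom.range_eq_map, MonoidHom.map_closure, Set.image_pair, map_mul, map_mul, map_inv, hU, hG]
      exact hgen

end Cfsg.Agent.S2283
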