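import Cfsg.Statements.S2287
import Cfsg.Agent.Lib.SL3Pres.Main

set_option autoImplicit false
open Cfsg

namespace Cfsg.Agent.S2287

/-- For every finite field F other than the field with 9 elements, SL_3(F) has a presentation with 4 generators and at most 14 relations. -/
theorem result {F : Type*} [Field F] [Fintype F] (hq9 : Fintype.card F ≠ 9) : ∃ rels : Finset (FreeGroup (Fin 4)), rels.card ≤ 14 ∧ Nonempty (PresentedGroup (↑rels : Set (FreeGroup (Fin 4))) ≃* Matrix.SpecialLinearGroup (Fin 3) F) := by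
  classical
  obtain ⟨p, hp⟩ := CharP.exists F
  have : Fact p.Prime := ⟨CharP.char_is_prime F p⟩
  obtain ⟨g, hg⟩ := IsCyclic.exists_monoid_generator (α := Fˣ)
  have ht : ∀ x : Fˣ, ∃ k : ℕ, g ^ k = x := fun x => Submonoid.mem_powers_iff _ _ |>.1 (hg x)
  by_cases h2 : Fintype.card F = 2
  · exact CfsgLib.SL3Pres.sl3_two h2 ht
  by_cases h4 : Fintype.card F = 4
  · exact CfsgLib.SL3Pres.sl3_four h4 ht
  exact CfsgLib.SL3Pres.sl3_general (p := p) h2 h4 ht

end Cfsg.Agent.S2287
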