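import Cfsg.Statements.S2292
import Cfsg.Agent.Lib.Presentations.SpGlue
import Cfsg.Agent.Lib.Presentations.SpSix
import Cfsg.Agent.Lib.Classical.SpCenter
import Cfsg.Agent.S2411

set_option autoImplicit false
open Cfsg

namespace Cfsg.Agent.S2292
open CfsgLib.Presentations
universe u
theorem bounded_sp {F : Type u} [Field F] [Fintype F] (m : ℕ) (hm : 2 ≤ m)
    (h22 : ¬ (m = 2 ∧ Fintype.card F = 2)) : Bounded (Matrix.symplecticGroup (Fin m) F) 77 := by
  by_cases h3 : 3 ≤ m
  · exact SpPres.sp_glue h3
  obtain rfl : m = 2 := by omega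
  refine (SpPres.sp_four_bounded ?_).1.mono (by norm_num)
  have := Fintype.one_lt_card (α := F)
  omega

/-- Let F be a finite field with q elements and m ≥ 2 with (m, q) ≠ (2, 2). Then the simple group PSp_2m(F) has a presentation with 2 generators and at most 80 relations. -/
theorem result {F : Type*} [Field F] [Fintype F] (m : ℕ) (hm : 2 ≤ m) (h22 : ¬ (m = 2 ∧ Fintype.card F = 2)) :
    ∃ rels : Finset (FreeGroup (Fin 2)), rels.card ≤ 80 ∧ Nonempty (PresentedGroup (↑rels : Set (FreeGroup (Fin 2))) ≃* Cfsg.PSp m F) := by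
  classical
  let Z := Subgroup.center (Matrix.symplecticGroup (Fin m) F)
  let π := QuotientGroup.mk' Z
  have : Nonempty (Fin m) := ⟨⟨0, by omega⟩⟩
  have hker : π.ker = Subgroup.normalClosure {CfsgLib.Classical.spNegOne} := by
    rw [QuotientGroup.ker_mk']
    refine le_antisymm (fun y hy => ?_) (Subgroup.normalClosure_le_normal
      (Set.singleton_subset_iff.2 CfsgLib.Classical.spNegOne_mem_center))
    rcases (CfsgLib.Classical.mem_center_sp_iff y).1 hy with rfl | rfl
    · exact one_mem _
    · exact Subgroup.subset_normalClosure rfl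
  have hQ := (bounded_sp m hm h22).quotient π (QuotientGroup.mk'_surjective Z) _ hker
  obtain ⟨a, b, hab⟩ := Cfsg.Agent.S2411.result (F := F) m hm fun e => by
    have := Fintype.one_lt_card (α := F)
    have : Fintype.card F ≠ 2 := fun h => h22 ⟨e, h⟩
    omega
  obtain ⟨rels, hc, he⟩ := hQ.two_generators a b hab
  exact ⟨rels, by omega, he⟩

end Cfsg.Agent.S2292
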