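import Cfsg.Statements.S2293
import Cfsg.Agent.Lib.Presentations.SpFour
import Cfsg.Agent.Lib.Presentations.SpSix
import Cfsg.Agent.Lib.Classical.SpCenter

set_option autoImplicit false
open Cfsg

namespace Cfsg.Agent.S2293
open CfsgLib.Presentations

theorem bounded_all {F : Type*} [Field F] [Fintype F] :
    Bounded (Matrix.symplecticGroup (Fin 2) F) 26 ∧
      ∃ gn : Fin 6 → Matrix.symplecticGroup (Fin 2) F, Subgroup.closure (Set.range gn) = ⊤ := by
  by_cases h3 : 3 ≤ Fintype.card F
  · exact SpPres.sp_four_bounded h3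
  classical
  have h2 : Fintype.card F = 2 := by have := Fintype.one_lt_card (α := F); omega
  let e : Equiv.Perm (Fin 6) ≃* Matrix.symplecticGroup (Fin 2) F :=
    SpSix.spIso.trans (SpSix.spMap (ZMod.ringEquivOfPrime F Nat.prime_two h2))
  obtain ⟨gn, hgn⟩ := SpSix.sym_six_gens
  refine ⟨(SpSix.bounded_sym_six.map e).mono (by norm_num), e ∘ gn, ?_⟩
  have h := congrArg (Subgroup.map e.toMonoidHom) hgn
  rwa [MonoidHom.map_closure, ← Set.range_comp, Subgroup.map_top_of_surjective _ e.surjective] at h

/-- For every finite field F, Sp_4(F) has a presentation with 6 generators and at most 35 relations, and PSp_4(F) one with 6 generators and at most 36 relations. -/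
theorem result {F : Type*} [Field F] [Fintype F] : (∃ rels : Finset (FreeGroup (Fin 6)), rels.card ≤ 35 ∧ Nonempty (PresentedGroup (↑rels : Set (FreeGroup (Fin 6))) ≃* Matrix.symplecticGroup (Fin 2) F)) ∧ (∃ rels : Finset (FreeGroup (Fin 6)), rels.card ≤ 36 ∧ Nonempty (PresentedGroup (↑rels : Set (FreeGroup (Fin 6))) ≃* Cfsg.PSp 2 F)) := by
  classical
  obtain ⟨hB, gn, hgn⟩ := bounded_all (F := F)
  obtain ⟨rels, hc, he⟩ := hB.with_generators gn hgn
  refine ⟨⟨rels, by omega, he⟩, ?_⟩
  let Z := Subgroup.center (Matrix.symplecticGroup (Fin 2) F)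
  let π := QuotientGroup.mk' Z
  have hker : π.ker = Subgroup.normalClosure {CfsgLib.Classical.spNegOne} := by
    rw [QuotientGroup.ker_mk']
    refine le_antisymm (fun y hy => ?_) (Subgroup.normalClosure_le_normal
      (Set.singleton_subset_iff.2 CfsgLib.Classical.spNegOne_mem_center))
    rcases (CfsgLib.Classical.mem_center_sp_iff y).1 hy with rfl | rfl
    · exact one_mem _
    · exact Subgroup.subset_normalClosure rfl
  have hQ := hB.quotient π (QuotientGroup.mk'_surjective Z) _ hker
  have hgen : Subgroup.closure (Set.range (π ∘ gn)) = ⊤ := by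
    rw [Set.range_comp, ← MonoidHom.map_closure, hgn,
      Subgroup.map_top_of_surjective _ (QuotientGroup.mk'_surjective Z)]
  obtain ⟨rels', hc', he'⟩ := hQ.with_generators (π ∘ gn) hgen
  exact ⟨rels', by omega, he'⟩

end Cfsg.Agent.S2293
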