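import Cfsg.Statements.S2296
import Cfsg.Agent.Lib.Presentations.SpTen
import Cfsg.Agent.Lib.Presentations.PresAlt
import Cfsg.Agent.Lib.Classical.SpCenter

set_option autoImplicit false
open Cfsg

namespace Cfsg.Agent.S2296
open CfsgLib.Presentations

universe u

theorem both {F : Type u} [Field F] [Fintype F] {n : ℕ} (hn : 0 < n) {κ : Type} [Fintype κ]
    {m k r : ℕ} (h : BoundedOn (Matrix.symplecticGroup (Fin n) F) κ m) (hk : Fintype.card κ ≤ k)
    (hr : m + (k - Fintype.card κ) ≤ r) :
    (∃ rels : Finset (FreeGroup (Fin k)), rels.card ≤ r ∧ Nonempty (PresentedGroup (↑rels : Set (FreeGroup (Fin k))) ≃* Matrix.symplecticGroup (Fin n) F)) ∧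
    (∃ rels : Finset (FreeGroup (Fin k)), rels.card ≤ r + 1 ∧ Nonempty (PresentedGroup (↑rels : Set (FreeGroup (Fin k))) ≃* Cfsg.PSp n F)) := by
  refine ⟨h.exact hk hr, ?_⟩
  classical
  let Z := Subgroup.center (Matrix.symplecticGroup (Fin n) F)
  let π := QuotientGroup.mk' Z
  have : Nonempty (Fin n) := ⟨⟨0, hn⟩⟩
  have hker : π.ker = Subgroup.normalClosure {CfsgLib.Classical.spNegOne} := by
    rw [QuotientGroup.ker_mk']
    refine le_antisymm (fun y hy => ?_) (Subgroup.normalClosure_le_normal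
      (Set.singleton_subset_iff.2 CfsgLib.Classical.spNegOne_mem_center))
    rcases (CfsgLib.Classical.mem_center_sp_iff y).1 hy with rfl | rfl
    · exact one_mem _
    · exact Subgroup.subset_normalClosure rfl
  exact (h.quotient π (QuotientGroup.mk'_surjective Z) _ hker).exact hk (by omega)

open Carmichael in
theorem small {F : Type u} [Field F] [Fintype F] (m : ℕ) (h1 : 1 ≤ m) (h4 : m ≤ 4) {k r : ℕ}
    (hk : m + 4 ≤ k) (hr : m * (m + 1) / 2 + 43 + (k - (m + 4)) ≤ r) :
    (∃ rels : Finset (FreeGroup (Fin k)), rels.card ≤ r ∧ Nonempty (PresentedGroup (↑rels : Set (FreeGroup (Fin k))) ≃* Matrix.symplecticGroup (Fin (m + 2)) F)) ∧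
    (∃ rels : Finset (FreeGroup (Fin k)), rels.card ≤ r + 1 ∧ Nonempty (PresentedGroup (↑rels : Set (FreeGroup (Fin k))) ≃* Cfsg.PSp (m + 2) F)) := by
  refine both (by omega) (SpPres.sp_glue_on (by omega) (bounded_small_on m (by omega))) ?_ ?_ <;>
    simp only [Fintype.card_sum, card_idx, Fintype.card_fin, Fintype.card_unit] <;> omega

open Carmichael in
theorem medium {F : Type u} [Field F] [Fintype F] (m : ℕ) (h5 : 5 ≤ m) (h6 : m ≤ 6) :
    (∃ rels : Finset (FreeGroup (Fin 10)), rels.card ≤ 58 ∧ Nonempty (PresentedGroup (↑rels : Set (FreeGroup (Fin 10))) ≃* Matrix.symplecticGroup (Fin (m + 2)) F)) ∧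
    (∃ rels : Finset (FreeGroup (Fin 10)), rels.card ≤ 59 ∧ Nonempty (PresentedGroup (↑rels : Set (FreeGroup (Fin 10))) ≃* Cfsg.PSp (m + 2) F)) := by
  refine both (by omega) (SpPres.sp_glue_sym (by omega) (by omega) (bounded_small_on m (by omega))) ?_ ?_ <;>
    simp only [Fintype.card_sum, card_idx, Fintype.card_fin, Fintype.card_unit] <;>
    interval_cases m <;> norm_num

/-- Let F be a finite field. Sp_2n(F) has a presentation with 10 generators and at most 58 relations for n ≥ 4, with 9 generators and at most 57 relations for n = 4 or 5, and with 8 generators and at most 52 relations for n = 3; in each case PSp_2n(F) has a presentation with the same number of generators and at most one more relation. -/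
theorem result {F : Type*} [Field F] [Fintype F] (n : ℕ) :
    (4 ≤ n → (∃ rels : Finset (FreeGroup (Fin 10)), rels.card ≤ 58 ∧ Nonempty (PresentedGroup (↑rels : Set (FreeGroup (Fin 10))) ≃* Matrix.symplecticGroup (Fin n) F)) ∧ (∃ rels : Finset (FreeGroup (Fin 10)), rels.card ≤ 59 ∧ Nonempty (PresentedGroup (↑rels : Set (FreeGroup (Fin 10))) ≃* Cfsg.PSp n F))) ∧
    ((n = 4 ∨ n = 5) → (∃ rels : Finset (FreeGroup (Fin 9)), rels.card ≤ 57 ∧ Nonempty (PresentedGroup (↑rels : Set (FreeGroup (Fin 9))) ≃* Matrix.symplecticGroup (Fin n) F)) ∧ (∃ rels : Finset (FreeGroup (Fin 9)), rels.card ≤ 58 ∧ Nonempty (PresentedGroup (↑rels : Set (FreeGroup (Fin 9))) ≃* Cfsg.PSp n F))) ∧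
    (n = 3 → (∃ rels : Finset (FreeGroup (Fin 8)), rels.card ≤ 52 ∧ Nonempty (PresentedGroup (↑rels : Set (FreeGroup (Fin 8))) ≃* Matrix.symplecticGroup (Fin n) F)) ∧ (∃ rels : Finset (FreeGroup (Fin 8)), rels.card ≤ 53 ∧ Nonempty (PresentedGroup (↑rels : Set (FreeGroup (Fin 8))) ≃* Cfsg.PSp n F))) := by
  refine ⟨fun h4 => ?_, fun h => ?_, fun h => ?_⟩
  · by_cases h9 : 9 ≤ n
    · refine both (by omega) (CfsgLib.Presentations.SpPres.sp_glue_sym (by omega) (by omega)
        (CfsgLib.Presentations.alt_six_gens n h9)) ?_ ?_ <;> simp [Fintype.card_sum]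
    obtain ⟨m, rfl⟩ : ∃ m, n = m + 2 := ⟨n - 2, by omega⟩
    by_cases h6 : m ≤ 4
    · refine small m (by omega) h6 (by omega) ?_
      interval_cases m <;> norm_num
    · exact medium m (by omega) (by omega)
  · rcases h with rfl | rfl
    · exact small 2 (by omega) (by omega) (by omega) (by norm_num)
    · exact small 3 (by omega) (by omega) (by omega) (by norm_num)
  · subst h
    exact small 1 le_rfl (by omega) (by omega) (by norm_num)

end Cfsg.Agent.S2296
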