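import Cfsg.Statements.S2321
import Cfsg.Agent.Lib.SL2Table.SL2Results

set_option autoImplicit false
open Cfsg

namespace Cfsg.Agent.S2321

/-- Over a finite field F with q elements, an irreducible complex character of SL₂ of degree q (the Steinberg character) takes the value 1 at every diagonal matrix whose diagonal entry a has a² ≠ 1, the value −1 at every element with no eigenvector in F², and the value 0 at every upper triangular matrix with equal diagonal entries and non-zero upper right entry. -/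
theorem result {F : Type*} [Field F] [Fintype F] (χ : Matrix.SpecialLinearGroup (Fin 2) F → ℂ) (hχ : Cfsg.IsIrrCharacter (Matrix.SpecialLinearGroup (Fin 2) F) χ) (hdeg : χ 1 = (Fintype.card F : ℂ)) (g : Matrix.SpecialLinearGroup (Fin 2) F) :
    ((g : Matrix (Fin 2) (Fin 2) F) 0 1 = 0 → (g : Matrix (Fin 2) (Fin 2) F) 1 0 = 0 → (g : Matrix (Fin 2) (Fin 2) F) 0 0 ^ 2 ≠ 1 → χ g = 1) ∧
    ((∀ (c : F) (v : Fin 2 → F), v ≠ 0 → (g : Matrix (Fin 2) (Fin 2) F).mulVec v ≠ c • v) → χ g = -1) ∧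
    ((g : Matrix (Fin 2) (Fin 2) F) 1 0 = 0 → (g : Matrix (Fin 2) (Fin 2) F) 0 0 = (g : Matrix (Fin 2) (Fin 2) F) 1 1 → (g : Matrix (Fin 2) (Fin 2) F) 0 1 ≠ 0 → χ g = 0) := by
  classical
  rw [CfsgLib.SL2Table.eq_stS_of_deg hχ hdeg, CfsgLib.SL2Table.stS_apply]
  refine ⟨fun h01 h10 ha => ?_, fun h => ?_, fun h10 he h01 => ?_⟩
  · rw [CfsgLib.SL2Table.pr_split 1 h01 h10 (CfsgLib.SL2Table.diag_ne_of_sq h01 ha)]
    obtain ⟨h1, h2⟩ := CfsgLib.SL2Table.diag_ne_zero h01
    rw [h2, MulChar.one_apply (isUnit_iff_ne_zero.2 h1),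
      MulChar.one_apply (isUnit_iff_ne_zero.2 (inv_ne_zero h1))]
    ring
  · rw [CfsgLib.SL2Table.pr_elliptic 1 h]
    ring
  · rw [CfsgLib.SL2Table.pr_transvection 1 h10 he h01, MulChar.one_apply, sub_self]
    have hd := g.2
    rw [Matrix.det_fin_two, h10, mul_zero, sub_zero] at hd
    exact IsUnit.of_mul_eq_one _ hd

end Cfsg.Agent.S2321
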