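import Cfsg.Statements.S2324
import Cfsg.Agent.Lib.SL2Table.SL2Results

set_option autoImplicit false
open Cfsg

namespace Cfsg.Agent.S2324

/-- Over a finite field F with q elements, q odd and q ≥ 5, let u be the upper unitriangular matrix of SL₂ with off-diagonal entry 1 and let δ = (−1)^((q−1)/2). Every irreducible complex character χ of SL₂ of degree (q + 1)/2 satisfies (2χ(u) − 1)² = δq, and every irreducible complex character χ of degree (q − 1)/2 satisfies (2χ(u) + 1)² = δq; that is, χ(u) = (1 ± √(δq))/2 in the first case and χ(u) = (−1 ± √(δq))/2 in the second. Moreover two different irreducible characters of degree (q + 1)/2 take the two different values (their values at u add up to 1), and likewise for degree (q − 1)/2 (values adding up to −1). -/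
theorem result {F : Type*} [Field F] [Fintype F] (hodd : Odd (Fintype.card F)) (hq : 5 ≤ Fintype.card F)
    (u : Matrix.SpecialLinearGroup (Fin 2) F) (hu : (u : Matrix (Fin 2) (Fin 2) F) = !![1, 1; 0, 1]) :
    (∀ χ : Matrix.SpecialLinearGroup (Fin 2) F → ℂ, Cfsg.IsIrrCharacter (Matrix.SpecialLinearGroup (Fin 2) F) χ → χ 1 = (((Fintype.card F + 1) / 2 : ℕ) : ℂ) → (2 * χ u - 1) ^ 2 = (-1 : ℂ) ^ ((Fintype.card F - 1) / 2) * (Fintype.card F : ℂ)) ∧
    (∀ χ : Matrix.SpecialLinearGroup (Fin 2) F → ℂ, Cfsg.IsIrrCharacter (Matrix.SpecialLinearGroup (Fin 2) F) χ → χ 1 = (((Fintype.card F - 1) / 2 : ℕ) : ℂ) → (2 * χ u + 1) ^ 2 = (-1 : ℂ) ^ ((Fintype.card F - 1) / 2) * (Fintype.card F : ℂ)) ∧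
    (∀ χ₁ χ₂ : Matrix.SpecialLinearGroup (Fin 2) F → ℂ, Cfsg.IsIrrCharacter (Matrix.SpecialLinearGroup (Fin 2) F) χ₁ → Cfsg.IsIrrCharacter (Matrix.SpecialLinearGroup (Fin 2) F) χ₂ → χ₁ ≠ χ₂ →
      χ₁ 1 = (((Fintype.card F + 1) / 2 : ℕ) : ℂ) → χ₂ 1 = (((Fintype.card F + 1) / 2 : ℕ) : ℂ) → χ₁ u + χ₂ u = 1) ∧
    (∀ χ₁ χ₂ : Matrix.SpecialLinearGroup (Fin 2) F → ℂ, Cfsg.IsIrrCharacter (Matrix.SpecialLinearGroup (Fin 2) F) χ₁ → Cfsg.IsIrrCharacter (Matrix.SpecialLinearGroup (Fin 2) F) χ₂ → χ₁ ≠ χ₂ →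
      χ₁ 1 = (((Fintype.card F - 1) / 2 : ℕ) : ℂ) → χ₂ 1 = (((Fintype.card F - 1) / 2 : ℕ) : ℂ) → χ₁ u + χ₂ u = -1) := by
  classical
  obtain ⟨C, hT, θ₀, χ₁, χ₂, χ₃, χ₄, hTb⟩ := CfsgLib.SL2Table.exists_all (F := F) hodd
  obtain rfl : u = CfsgLib.SL2Table.pSL (1 : F) 1 (mul_one 1) := Subtype.ext hu
  obtain ⟨ν, hν⟩ := CfsgLib.Spectrum.exists_nonsquare' hT.two_ne
  refine ⟨fun χ hχ hd => ?_, fun χ hχ hd => ?_, fun a b ha hb hne h h' => ?_, fun a b ha hb hne h h' => ?_⟩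
  · rw [((hTb.unipotent_values hq hχ hν).2.2.2.1 hd).2, CfsgLib.SL2Table.eta_neg_one_value hodd]
  · rw [((hTb.unipotent_values hq hχ hν).2.2.2.2 hd).2, CfsgLib.SL2Table.eta_neg_one_value hodd]
  · rw [← Pi.add_apply (f := a) (g := b), (hTb.half_sums hq ha hb hne).1 h h',
      CfsgLib.SL2Table.pr_transvection _ (by simp [CfsgLib.SL2Table.pSL_mat]) (by simp [CfsgLib.SL2Table.pSL_mat])
        (by simp [CfsgLib.SL2Table.pSL_mat])]
    simp [CfsgLib.SL2Table.pSL_mat]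
  · rw [← Pi.add_apply (f := a) (g := b), (hTb.half_sums hq ha hb hne).2 h h',
      CfsgLib.SL2Table.wFun_pSL hT θ₀ 1 1 _ one_ne_zero]
    simp [CfsgLib.SL2Table.pSL_zero, show (⟨1, C.one_mem⟩ : C) = 1 from rfl]

end Cfsg.Agent.S2324
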