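import Cfsg.Statements.S2332
import Mathlib
import Cfsg.Agent.Lib.MinDegree.SLPerm
import Cfsg.Agent.Lib.MinDegree.SpEven
-- import your own Cfsg.Agent.* helpers here

set_option autoImplicit false
open Cfsg

namespace Cfsg.Agent.S2332

/-- Smallest degree of a non-linear irreducible complex representation of SL_n over a finite field with q elements, for n ≥ 3 and (n, q) not one of (3, 2), (3, 4), (4, 2), (4, 3): every irreducible complex representation of SL_n(F) of degree at least 2 has degree at least (q^n − q)/(q − 1), and there is an irreducible complex representation of exactly that degree. -/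
theorem result {F : Type*} [Field F] [Fintype F] [DecidableEq F] (n : ℕ) (hn : 3 ≤ n)
    (hex : (n, Fintype.card F) ≠ (3, 2) ∧ (n, Fintype.card F) ≠ (3, 4) ∧ (n, Fintype.card F) ≠ (4, 2) ∧ (n, Fintype.card F) ≠ (4, 3)) :
    (∀ (k : ℕ) (ρ : Representation ℂ (Matrix.SpecialLinearGroup (Fin n) F) (Fin k → ℂ)), ρ.IsIrreducible → 2 ≤ k → (Fintype.card F ^ n - Fintype.card F) / (Fintype.card F - 1) ≤ k) ∧
    (∃ ρ : Representation ℂ (Matrix.SpecialLinearGroup (Fin n) F) (Fin ((Fintype.card F ^ n - Fintype.card F) / (Fintype.card F - 1)) → ℂ), ρ.IsIrreducible) := by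
  classical
  obtain ⟨l, rfl⟩ : ∃ l, n = l + 1 + 2 := ⟨n - 3, by omega⟩
  obtain ⟨hex1, hex2, hex3, hex4⟩ := hex
  have hex' : (l = 0 → Fintype.card F ≠ 2 ∧ Fintype.card F ≠ 4) ∧
      (l = 1 → Fintype.card F ≠ 2 ∧ Fintype.card F ≠ 3) := by
    refine ⟨?_, ?_⟩ <;> rintro rfl <;> refine ⟨?_, ?_⟩ <;> intro h <;> simp [h] at hex1 hex2 hex3 hex4
  refine ⟨fun k ρ hρ hk => ?_, CfsgLib.MinDegree.SLBound.exists_perm_irreducible hex'⟩
  have hb := CfsgLib.MinDegree.SLBound.sl_bound_of_ne_one hex' ρ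
    (CfsgLib.MinDegree.ne_one_of_irreducible ρ hρ hk)
  rw [Module.finrank_fin_fun] at hb
  have hq : 2 ≤ Fintype.card F := Fintype.one_lt_card
  refine Nat.div_le_of_le_mul ?_
  have hcast : ((Fintype.card F ^ (l + 1 + 2) - Fintype.card F : ℕ) : ℤ) =
      (Fintype.card F : ℤ) ^ (l + 1 + 2) - Fintype.card F := by
    rw [Nat.cast_sub (Nat.le_self_pow (by omega) _), Nat.cast_pow]
  rw [← hcast] at hb
  have : ((Fintype.card F ^ (l + 1 + 2) - Fintype.card F : ℕ) : ℤ) ≤ (((Fintype.card F - 1) * k : ℕ) : ℤ) := by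
    rw [Nat.cast_mul, Nat.cast_sub (show 1 ≤ Fintype.card F by omega), Nat.cast_one]; exact hb
  exact_mod_cast this

end Cfsg.Agent.S2332
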