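import Cfsg.Statements.S2333
import Cfsg.Agent.Lib.MinDegree.SpEven

set_option autoImplicit false
open Cfsg

namespace Cfsg.Agent.S2333

/-- For a finite field F of even order q and n ≥ 2 with (n, q) ≠ (2, 2), every irreducible complex representation of the symplectic group Sp_{2n}(F) of degree at least 2 has degree at least (q^n − 1)(q^n − q)/(2(q + 1)). -/
theorem result {F : Type*} [Field F] [Fintype F] [DecidableEq F] (n : ℕ) (hn : 2 ≤ n) (heven : Even (Fintype.card F)) (hex : (n, Fintype.card F) ≠ (2, 2)) :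
    (∀ (k : ℕ) (ρ : Representation ℂ (Matrix.symplecticGroup (Fin n) F) (Fin k → ℂ)), ρ.IsIrreducible → 2 ≤ k → (Fintype.card F ^ n - 1) * (Fintype.card F ^ n - Fintype.card F) / (2 * (Fintype.card F + 1)) ≤ k) := by
  intro k ρ hirr hk
  have h2 : (2 : F) = 0 := by
    have h := FiniteField.even_card_iff_char_two (F := F) |>.2 (Nat.even_iff.1 heven)
    haveI : CharP F 2 := h ▸ ringChar.charP F
    exact CharTwo.two_eq_zero
  have hb := CfsgLib.MinDegree.sp_bound_even ρ (Nat.cast_ne_zero.2 Fintype.card_ne_zero) h2 hn (fun e => by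
    by_contra hc
    have h1 := Fintype.one_lt_card (α := F)
    exact hex (by rw [e, show Fintype.card F = 2 by omega])) (CfsgLib.MinDegree.ne_one_of_irreducible ρ hirr hk)
  rw [Module.finrank_fin_fun] at hb
  exact Nat.div_le_of_le_mul hb

end Cfsg.Agent.S2333
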