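import Cfsg.Statements.S2337
import Cfsg.Agent.Lib.SuzukiLaws.Degree

set_option autoImplicit false
open Cfsg

namespace Cfsg.Agent.S2337

/-- For the Suzuki group Sz(q), q = 2^(2m+1) with m ≥ 1 (realised inside Sp₄ over the field with q elements), every irreducible complex representation of degree at least 2 has degree at least 2^m·(q − 1). -/
theorem result {F : Type*} [Field F] [Fintype F] (m : ℕ) (hm : 1 ≤ m) (hF : Fintype.card F = 2 ^ (2 * m + 1)) :
    (∀ (k : ℕ) (ρ : Representation ℂ (Cfsg.Lie.Sz F (2 ^ (m + 1))) (Fin k → ℂ)), ρ.IsIrreducible → 2 ≤ k → 2 ^ m * (2 ^ (2 * m + 1) - 1) ≤ k) := by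
  intro k ρ hirr hk
  have : CharP F 2 := by
    have h := (Nat.cast_card_eq_zero F : ((Fintype.card F : ℕ) : F) = 0)
    rw [hF, Nat.cast_pow] at h
    exact CharTwo.of_one_ne_zero_of_two_eq_zero one_ne_zero
      (by exact_mod_cast (pow_eq_zero_iff (by omega)).1 h)
  refine le_of_le_of_eq (CfsgLib.SuzukiLaws.le_dim hm hF ρ ?_) (Module.finrank_fin_fun ℂ)
  by_contra h
  push Not at h
  let W : Subrepresentation ρ :=
    { toSubmodule := ℂ ∙ (Pi.single (⟨0, by omega⟩ : Fin k) 1 : Fin k → ℂ)
      apply_mem_toSubmodule := fun g v hv => by rw [h g]; exact hv }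
  rcases hirr.eq_bot_or_eq_top W with hW | hW
  · have : ℂ ∙ (Pi.single (⟨0, by omega⟩ : Fin k) 1 : Fin k → ℂ) = ⊥ :=
      congrArg Subrepresentation.toSubmodule hW
    simp at this
  · have := congrArg (fun S : Subrepresentation ρ => Module.finrank ℂ S.toSubmodule) hW
    have e1 : Module.finrank ℂ W.toSubmodule = 1 := finrank_span_singleton (by simp)
    have e2 : Module.finrank ℂ (⊤ : Subrepresentation ρ).toSubmodule = k := by
      rw [show (⊤ : Subrepresentation ρ).toSubmodule = ⊤ from rfl, finrank_top,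
        Module.finrank_fin_fun]
    omega

end Cfsg.Agent.S2337
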