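import Cfsg.Statements.S2343
import Cfsg.Agent.Lib.Recognition.Ree.Degree

set_option autoImplicit false
open Cfsg

namespace Cfsg.Agent.S2343

/-- For the Ree group ²G₂(q), q = 3^(2m+1) with m ≥ 1 (realised over the field with q elements), every irreducible complex representation of degree at least 2 has degree at least q² − q + 1. -/
theorem result {K : Type*} [Field K] [Fintype K] (m : ℕ) (hm : 1 ≤ m) (hK : Fintype.card K = 3 ^ (2 * m + 1)) :
    (∀ (k : ℕ) (ρ : Representation ℂ (Cfsg.Lie.twistedG2 K (3 ^ m)) (Fin k → ℂ)), ρ.IsIrreducible → 2 ≤ k → (3 ^ (2 * m + 1)) ^ 2 - 3 ^ (2 * m + 1) + 1 ≤ k) := by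
  intro k ρ hirr hk
  obtain ⟨C⟩ := CfsgLib.Chev.TwG2.nonempty_ctx hK
  refine le_of_le_of_eq (CfsgLib.Recognition.ReeDegree.le_dim C hm ρ ?_) (Module.finrank_fin_fun ℂ)
  haveI := (C.simple_twisted hm).1
  rw [← MonoidHom.ker_eq_bot_iff]
  refine (ρ.normal_ker.eq_bot_or_eq_top).resolve_right fun htop => ?_
  have h : ∀ g, ρ g = 1 := fun g => MonoidHom.mem_ker.1 (htop ▸ Subgroup.mem_top g)
  let W : Subrepresentation ρ :=
    { toSubmodule := ℂ ∙ (Pi.single (⟨0, by omega⟩ : Fin k) 1 : Fin k → ℂ)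
      apply_mem_toSubmodule := fun g v hv => by rw [h g]; exact hv }
  rcases hirr.eq_bot_or_eq_top W with hW | hW
  · have : ℂ ∙ (Pi.single (⟨0, by omega⟩ : Fin k) 1 : Fin k → ℂ) = ⊥ :=
      congrArg Subrepresentation.toSubmodule hW
    simp at this
  · have := congrArg (fun S : Subrepresentation ρ => Module.finrank ℂ S.toSubmodule) hW
    have e1 : Module.finrank ℂ W.toSubmodule = 1 := finrank_span_singleton (by simp)
    have e2 : Module.finrank ℂ (⊤ : Subrepresentation ρ).toSubmodule = k := by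
      rw [show (⊤ : Subrepresentation ρ).toSubmodule = ⊤ from rfl, finrank_top,
        Module.finrank_fin_fun]
    omega

end Cfsg.Agent.S2343
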