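import Cfsg.Statements.S2344
import Mathlib
import Cfsg.Agent.Lib.MinDegree.HypBound
-- import your own Cfsg.Agent.* helpers here

set_option autoImplicit false
open Cfsg

namespace Cfsg.Agent.S2344

/-- For a finite field F of odd order q > 3 and n ≥ 3, every irreducible complex representation of degree at least 2 of Ω_{2n+1}(F) (the commutator subgroup of the isometry group of the quadratic form x₀² + x₁y₁ + ⋯ + x_ny_n) has degree at least (q^{2n} − 1)/(q² − 1). -/
theorem result {F : Type*} [Field F] [Fintype F] (n : ℕ) (hn : 3 ≤ n) (hodd : Odd (Fintype.card F)) (h3 : 3 < Fintype.card F) :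
    (∀ (k : ℕ) (ρ : Representation ℂ (Cfsg.Omega F (Cfsg.quadFormOdd n F)) (Fin k → ℂ)), ρ.IsIrreducible → 2 ≤ k → (Fintype.card F ^ (2 * n) - 1) / (Fintype.card F ^ 2 - 1) ≤ k) := by
  classical
  intro k ρ hρ hk
  haveI := hρ
  obtain ⟨l, rfl⟩ : ∃ l, n = l + 1 + 2 := ⟨n - 3, by omega⟩
  have h2 : (2 : F) ≠ 0 := fun h => by
    have : ringChar F = 2 := CharP.ringChar_of_prime_eq_zero Nat.prime_two h
    exact Nat.not_even_iff_odd.2 hodd (Nat.even_iff.2 (FiniteField.even_card_of_char_two this))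
  have hq : 4 < Fintype.card F := by
    obtain ⟨m, hm⟩ := hodd
    omega
  have key : ∀ (Qf : _ → F), Qf = ⇑(CfsgLib.Classical.qOdd (l + 1 + 2) F) →
      ∀ (ρ : Representation ℂ (Cfsg.Omega F Qf) (Fin k → ℂ)), ρ.IsIrreducible →
        (Fintype.card F ^ (2 * (l + 1 + 2)) - 1) / (Fintype.card F ^ 2 - 1) ≤ k := by
    intro Qf hQf ρ hρ
    subst hQf
    haveI := hρ
    obtain ⟨θ⟩ := CfsgLib.MinDegree.HypBd.exists_omega_equiv (l := l) (CfsgLib.Classical.qLine F)
      (CfsgLib.Classical.polarNondeg_qLine h2) (CfsgLib.Classical.qOdd (l + 1 + 2) F)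
      ⟨CfsgLib.Classical.oddLin (l + 1 + 2) F, CfsgLib.Classical.qOdd_oddLin (l + 1 + 2)⟩
    haveI := CfsgLib.MinDegree.SLExact.irreducible_comp ρ θ.toMonoidHom θ.surjective
    have hb := CfsgLib.MinDegree.HypBd.odd_bound h2 hq (ρ.comp θ.toMonoidHom)
      (CfsgLib.MinDegree.HypBd.ne_one_of_irreducible _ (by rw [Module.finrank_fin_fun]; exact hk))
    rw [Module.finrank_fin_fun] at hb
    refine Nat.div_le_of_le_mul ?_
    have h' : ((Fintype.card F ^ (2 * (l + 1 + 2)) - 1 : ℕ) : ℤ) ≤ (((Fintype.card F ^ 2 - 1) * k : ℕ) : ℤ) := by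
      push_cast [Nat.one_le_pow _ _ (Fintype.card_pos (α := F))]
      refine le_trans (le_of_eq ?_) hb
      ring
    exact_mod_cast h'
  exact key _ (CfsgLib.Classical.coe_qOdd _ _).symm ρ hρ

end Cfsg.Agent.S2344
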