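import Cfsg.Statements.S2345
import Mathlib
import Mathlib
import Cfsg.Agent.Lib.MinDegree.PlusBound
-- import your own Cfsg.Agent.* helpers here

set_option autoImplicit false
open Cfsg

namespace Cfsg.Agent.S2345

/-- For a finite field F with q > 3 elements and n ≥ 4, every irreducible complex representation of degree at least 2 of Ω⁺_{2n}(F) (the commutator subgroup of the isometry group of the hyperbolic quadratic form x₁y₁ + ⋯ + x_ny_n) has degree at least (q^n − 1)(q^{n−1} + q)/(q² − 1). -/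
theorem result {F : Type*} [Field F] [Fintype F] (n : ℕ) (hn : 4 ≤ n) (h3 : 3 < Fintype.card F) :
    (∀ (k : ℕ) (ρ : Representation ℂ (Cfsg.Omega F (Cfsg.quadFormPlus n F)) (Fin k → ℂ)), ρ.IsIrreducible → 2 ≤ k → (Fintype.card F ^ n - 1) * (Fintype.card F ^ (n - 1) + Fintype.card F) / (Fintype.card F ^ 2 - 1) ≤ k) := by
  classical
  have key : ∀ (Qf : (Fin n ⊕ Fin n → F) → F), Qf = ⇑(CfsgLib.Classical.qPlus n F) →
      ∀ (k : ℕ) (ρ : Representation ℂ (Cfsg.Omega F Qf) (Fin k → ℂ)), ρ.IsIrreducible → 2 ≤ k →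
        (Fintype.card F ^ n - 1) * (Fintype.card F ^ (n - 1) + Fintype.card F) / (Fintype.card F ^ 2 - 1) ≤ k := by
    intro Qf hQf k ρ hρ hk
    subst hQf
    obtain ⟨l, rfl⟩ : ∃ l, n = l + 1 + 1 + 2 := ⟨n - 4, by omega⟩
    haveI := hρ
    have hb := CfsgLib.MinDegree.PlusBd.plus_bound (k := l) h3 ρ (by rw [Module.finrank_fin_fun]; exact hk)
    rw [Module.finrank_fin_fun] at hb
    refine Nat.div_le_of_le_mul ?_
    have hsub : l + 1 + 1 + 2 - 1 = l + 1 + 2 := by omega
    rw [hsub]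
    have h' : (((Fintype.card F ^ (l + 1 + 1 + 2) - 1) * (Fintype.card F ^ (l + 1 + 2) + Fintype.card F) : ℕ) : ℤ) ≤
        (((Fintype.card F ^ 2 - 1) * k : ℕ) : ℤ) := by
      push_cast [Nat.one_le_pow _ _ (Fintype.card_pos (α := F))]
      exact hb
    exact_mod_cast h'
  exact key _ (CfsgLib.Classical.coe_qPlus n).symm

end Cfsg.Agent.S2345
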