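import Cfsg.Statements.S2346
import Mathlib
import Cfsg.Agent.Lib.MinDegree.HypSmallCases
import Cfsg.Agent.Lib.MinDegree.HypPlane
-- import your own Cfsg.Agent.* helpers here

set_option autoImplicit false
open Cfsg

namespace Cfsg.Agent.S2346

/-- For a finite field F with q elements, n ≥ 4, and a, b ∈ F with z₁² + a z₁z₂ + b z₂² anisotropic, every irreducible complex representation of degree at least 2 of Ω⁻_{2n}(F) (the commutator subgroup of the isometry group of x₁y₁ + ⋯ + x_{n−1}y_{n−1} + z₁² + a z₁z₂ + b z₂²) has degree at least (q^n + 1)(q^{n−1} − q)/(q² − 1). -/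
theorem result {F : Type*} [Field F] [Fintype F] (n : ℕ) (hn : 4 ≤ n) (a b : F) (hab : ∀ z₁ z₂ : F, z₁ ^ 2 + a * z₁ * z₂ + b * z₂ ^ 2 = 0 → z₁ = 0 ∧ z₂ = 0) :
    (∀ (k : ℕ) (ρ : Representation ℂ (Cfsg.Omega F (Cfsg.quadFormMinus (n - 1) F a b)) (Fin k → ℂ)), ρ.IsIrreducible → 2 ≤ k → (Fintype.card F ^ n + 1) * (Fintype.card F ^ (n - 1) - Fintype.card F) / (Fintype.card F ^ 2 - 1) ≤ k) := by
  classical
  intro k ρ hρ hk
  obtain ⟨l, rfl⟩ : ∃ l, n = l + 1 + 2 + 1 := ⟨n - 4, by omega⟩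
  have key : ∀ (Qf : _ → F), Qf = ⇑(CfsgLib.Classical.qExt (l + 1 + 2) (CfsgLib.Classical.qBin a b)) →
      ∀ (ρ : Representation ℂ (Cfsg.Omega F Qf) (Fin k → ℂ)), ρ.IsIrreducible →
        (Fintype.card F ^ (l + 1 + 2 + 1) + 1) * (Fintype.card F ^ (l + 1 + 2) - Fintype.card F) /
          (Fintype.card F ^ 2 - 1) ≤ k := by
    intro Qf hQf ρ hρ
    subst hQf
    haveI := hρ
    obtain ⟨θ⟩ := CfsgLib.MinDegree.HypBd.exists_omega_equiv (l := l) (CfsgLib.Classical.qBin a b)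
      (CfsgLib.Classical.polarNondeg_qBin hab) (CfsgLib.Classical.qExt (l + 1 + 2) (CfsgLib.Classical.qBin a b))
      ⟨LinearEquiv.refl F _, fun v => rfl⟩
    haveI := CfsgLib.MinDegree.SLExact.irreducible_comp ρ θ.toMonoidHom θ.surjective
    have hb := CfsgLib.MinDegree.HypSmall.minus_bound (l := l) (CfsgLib.Classical.qBin a b)
      (CfsgLib.Classical.polarNondeg_qBin hab) (Fintype.card_fin 2) (CfsgLib.MinDegree.HypPlane.twoLines_qBin hab)
      (fun w hw => by
        rw [CfsgLib.Classical.qBin_apply] at hw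
        obtain ⟨h1, h2⟩ := hab _ _ hw
        funext i; fin_cases i
        · exact h1
        · exact h2)
      (ρ.comp θ.toMonoidHom)
      (CfsgLib.MinDegree.HypBd.ne_one_of_irreducible _ (by rw [Module.finrank_fin_fun]; exact hk))
    rw [Module.finrank_fin_fun] at hb
    refine Nat.div_le_of_le_mul ?_
    have hle : Fintype.card F ≤ Fintype.card F ^ (l + 1 + 2) := Nat.le_self_pow (by omega) _
    have h' : (((Fintype.card F ^ (l + 1 + 2 + 1) + 1) * (Fintype.card F ^ (l + 1 + 2) - Fintype.card F) : ℕ) : ℤ) ≤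
        (((Fintype.card F ^ 2 - 1) * k : ℕ) : ℤ) := by
      push_cast [hle, Nat.one_le_pow _ _ (Fintype.card_pos (α := F))]
      refine le_trans (le_of_eq ?_) hb
      ring
    exact_mod_cast h'
  exact key _ (CfsgLib.Classical.coe_qExt_qBin _ a b).symm ρ hρ

end Cfsg.Agent.S2346
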