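import Cfsg.Statements.S2347
import Cfsg.Agent.Lib.MinDegree.SpEven
import Cfsg.Agent.Lib.MinDegree.Minimal
import Cfsg.Agent.Lib.Weil.Odd

set_option autoImplicit false
open Cfsg

namespace Cfsg.Agent.S2347

/-- Smallest degree of a non-linear irreducible complex representation of the symplectic group Sp_{2n} over a finite field of odd order q, n ≥ 2: every irreducible complex representation of degree at least 2 has degree at least (q^n − 1)/2, and there is an irreducible complex representation of exactly that degree (a Weil representation). -/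
theorem result {F : Type*} [Field F] [Fintype F] [DecidableEq F] (n : ℕ) (hn : 2 ≤ n) (hodd : Odd (Fintype.card F)) :
    (∀ (k : ℕ) (ρ : Representation ℂ (Matrix.symplecticGroup (Fin n) F) (Fin k → ℂ)), ρ.IsIrreducible → 2 ≤ k → (Fintype.card F ^ n - 1) / 2 ≤ k) ∧
    (∃ ρ : Representation ℂ (Matrix.symplecticGroup (Fin n) F) (Fin ((Fintype.card F ^ n - 1) / 2) → ℂ), ρ.IsIrreducible) := by
  have h2 : (2 : F) ≠ 0 := Ring.two_ne_zero (fun e => by
    have := FiniteField.even_card_iff_char_two.1 e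
    have := Nat.odd_iff.1 hodd
    omega)
  have hFC : (Fintype.card F : ℂ) ≠ 0 := Nat.cast_ne_zero.2 Fintype.card_ne_zero
  refine ⟨fun k ρ hirr hk => ?_, ?_⟩
  · have hb := CfsgLib.MinDegree.sp_bound_odd ρ hFC h2 (by omega : 1 ≤ n)
      (CfsgLib.MinDegree.ne_one_of_irreducible ρ hirr hk)
    rw [Module.finrank_fin_fun] at hb
    omega
  · obtain ⟨ψ, hψ⟩ := CfsgLib.MinDegree.exists_nontrivial_addChar (K := ℂ) (F := F) hFC
    set O := CfsgLib.Weil.oddSub n F
    have hO : 2 * Module.finrank ℂ O + 1 = Fintype.card F ^ n := CfsgLib.Weil.finrank_oddSub h2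
    have hd : Module.finrank ℂ O = (Fintype.card F ^ n - 1) / 2 := by omega
    let e : O ≃ₗ[ℂ] (Fin ((Fintype.card F ^ n - 1) / 2) → ℂ) := LinearEquiv.ofFinrankEq _ _ (by
      rw [hd, Module.finrank_fin_fun])
    set ρ₀ := CfsgLib.Weil.weilOdd ψ (n := n) h2 hψ
    let ρ : Representation ℂ (Matrix.symplecticGroup (Fin n) F) (Fin ((Fintype.card F ^ n - 1) / 2) → ℂ) :=
      (e.conjAlgEquiv ℂ).toMonoidHom.comp ρ₀
    have hinj : Function.Injective (e.conjAlgEquiv ℂ) := AlgEquiv.injective _
    refine ⟨ρ, CfsgLib.MinDegree.irreducible_of_minimal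
      (CfsgLib.Classical.commutator_sp_eq_top (Or.inr (Or.inr ⟨hn, h2⟩))) ρ (fun h => ?_) (fun U σ hσ => ?_)
      (fun U σ hσ => ?_)⟩
    · exact CfsgLib.Weil.weilOdd_ne_one ψ h2 hψ hn (MonoidHom.ext fun g => hinj
        ((DFunLike.congr_fun h g).trans (map_one (e.conjAlgEquiv ℂ)).symm))
    · have hb := CfsgLib.MinDegree.sp_bound_odd σ hFC h2 (by omega : 1 ≤ n) hσ
      rw [Module.finrank_fin_fun]
      omega
    · have hb := CfsgLib.MinDegree.sp_bound_odd σ hFC h2 (by omega : 1 ≤ n) hσ
      rw [Module.finrank_fin_fun]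
      omega

end Cfsg.Agent.S2347
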