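import Cfsg.Statements.S2355
import Cfsg.Agent.Lib.Laws.Embeddings

set_option autoImplicit false
open Cfsg

namespace Cfsg.Agent.S2355

open CfsgLib.Laws

universe u

theorem not_law_of_equiv {w : FreeGroup ℕ} {G K : Type*} [Group G] [Group K] (e : G ≃* K)
    (hlaw : ∀ f : ℕ → G, FreeGroup.lift f w = 1) (f : ℕ → K) : FreeGroup.lift f w = 1 := by
  have h := congrArg e (hlaw fun i => e.symm (f i))
  rw [map_one] at h
  have := map_lift e.toMonoidHom (fun i => e.symm (f i)) w
  simp only [MulEquiv.coe_toMonoidHom, MulEquiv.apply_symm_apply] at this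
  rw [← this]; exact h

theorem bound_quotient {w : FreeGroup ℕ} {G : Type*} [Group G] {H : Type*} [Group H]
    (e : G ≃* H ⧸ Subgroup.center H) (hlaw : ∀ f : ℕ → G, FreeGroup.lift f w = 1) :
    ¬ FailsModCenter w H := fun h => by
  obtain ⟨f, hf⟩ := h.not_law_quotient
  exact hf (not_law_of_equiv e hlaw f)

theorem card_quotient_le {G : Type*} [Group G] {H : Type*} [Group H] {F : Type*} [Field F]
    [Fintype F] {ι : Type*} [Fintype ι] (e : G ≃* H ⧸ Subgroup.center H)
    (toMat : H → Matrix ι ι F) (hinj : Function.Injective toMat) {a b : ℕ}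
    (ha : Fintype.card F ≤ a) (hb : Fintype.card ι ≤ b) :
    Nat.card G ≤ a ^ (b * b) := by
  classical
  have : Finite H := Finite.of_injective toMat hinj
  rw [Nat.card_congr e.toEquiv]
  refine (Nat.card_le_card_of_surjective _ (QuotientGroup.mk_surjective)).trans ?_
  refine (Nat.card_le_card_of_injective toMat hinj).trans ?_
  rw [Nat.card_eq_fintype_card]
  show Fintype.card (ι → ι → F) ≤ _
  rw [Fintype.card_fun, Fintype.card_fun, ← pow_mul]
  calc Fintype.card F ^ (Fintype.card ι * Fintype.card ι)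
      ≤ a ^ (Fintype.card ι * Fintype.card ι) := Nat.pow_le_pow_left ha _
    _ ≤ a ^ (b * b) := Nat.pow_le_pow_right
        (lt_of_lt_of_le Fintype.card_pos ha) (Nat.mul_le_mul hb hb)

/-- SU₂ inside SU₂₊ₖ. -/
noncomputable def suBlock {F : Type} [Field F] (k q : ℕ) :
    Cfsg.SU 2 F q →* Cfsg.SU (2 + k) F q where
  toFun g := ⟨slBlock k F g.1, slBlock_mem_SU k q g.1 g.2⟩
  map_one' := Subtype.ext (map_one (slBlock k F))
  map_mul' g h := Subtype.ext (map_mul (slBlock k F) g.1 h.1)

theorem suBlock_injective {F : Type} [Field F] (k q : ℕ) :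
    Function.Injective (suBlock (F := F) k q) :=
  fun _ _ h => Subtype.ext (slBlock_injective k (congrArg Subtype.val h))

theorem omega_bound {w : FreeGroup ℕ} {G : Type*} [Group G] {F : Type*} [Field F] [Fintype F]
    {ι : Type} [Fintype ι] [DecidableEq ι] (Q : (ι → F) → F) (e : G ≃* Cfsg.POmega F Q)
    {a b : ℕ} (ha : Fintype.card F ≤ a) (hb : Fintype.card ι ≤ b) : Nat.card G ≤ a ^ (b * b) :=
  card_quotient_le e (fun h => ((h : Cfsg.isometryGroup F Q) : GL ι F).1)
    (fun _ _ h => Subtype.ext (Subtype.ext (Units.ext h))) ha hb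

/-- A non-trivial law is satisfied by only finitely many finite simple groups that are alternating or classical, up to isomorphism: for every non-trivial element w of the free group on countably many generators there is a bound N such that every alternating group of degree ≥ 5 and every simple classical group (linear, symplectic, unitary or orthogonal, in this problem's sense) in which w is a law has order at most N. -/
theorem result (w : FreeGroup ℕ) (hw : w ≠ 1) :
    ∃ N : ℕ, ∀ (G : Type*) [Group G] [Finite G],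
      (Cfsg.IsAlternating G ∨ Cfsg.IsPSL G ∨ Cfsg.IsPSp G ∨ Cfsg.IsPSU G ∨ Cfsg.IsPOmegaOdd G ∨
          Cfsg.IsPOmegaPlus G ∨ Cfsg.IsPOmegaMinus G) →
      (∀ f : ℕ → G, FreeGroup.lift f w = 1) → Nat.card G ≤ N := by
  obtain ⟨S, _, _, hS⟩ := exists_finite_witness w hw
  obtain ⟨NA, hNA⟩ := exists_alternating_bound w hw
  obtain ⟨NF, hNF⟩ := exists_noncentral_value.{0} w hw
  set R := Nat.card S + NA + 4 with hR
  set B := NF + 2 with hB
  refine ⟨max (NA.factorial) ((B * B) ^ ((2 * R + 3) * (2 * R + 3))), ?_⟩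
  intro G _ _ hG hlaw
  by_contra hbig
  rw [not_le, max_lt_iff] at hbig
  obtain ⟨hbigA, hbig⟩ := hbig
  have hBB : ∀ c, c ≤ B → c ≤ B * B := fun c hc => hc.trans (Nat.le_mul_self B)
  rcases hG with hG | hG | hG | hG | hG | hG | hG
  · obtain ⟨n, -, ⟨e⟩⟩ := hG
    by_cases hn : NA ≤ n
    · obtain ⟨f, hf⟩ := (hNA n hn).not_law
      exact hf (not_law_of_equiv e hlaw f)
    · rw [Nat.card_congr e.toEquiv] at hbigA
      have h1 : Nat.card (alternatingGroup (Fin n)) ≤ Nat.card (Equiv.Perm (Fin n)) :=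
        Subgroup.card_le_card_group _
      rw [Nat.card_perm, Nat.card_eq_fintype_card (α := Fin n), Fintype.card_fin] at h1
      have := Nat.factorial_le (show n ≤ NA by omega)
      omega
  · obtain ⟨F, _, _, n, hn, -, ⟨e⟩⟩ := hG
    refine bound_quotient e hlaw ?_
    by_cases h1 : NA ≤ n
    · exact (hNA n h1).map_injective _ (altToSL_injective (F := F) n)
    by_cases h2 : NF ≤ Nat.card F
    · obtain ⟨k, rfl⟩ := Nat.exists_eq_add_of_le hn
      exact HasWitness.failsModCenter (hNF F h2) _ (slBlock_injective (F := F) k)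
    exfalso
    rw [Nat.card_eq_fintype_card] at h2
    have := card_quotient_le (a := B * B) (b := 2 * R + 3) e
      (fun g : Matrix.SpecialLinearGroup (Fin n) F => g.1) Subtype.val_injective
      (hBB _ (by omega)) (by simp; omega)
    omega
  · obtain ⟨F, _, _, m, hm, -, ⟨e⟩⟩ := hG
    refine bound_quotient e hlaw ?_
    by_cases h1 : Nat.card S ≤ m
    · obtain ⟨ψ, hψ⟩ := exists_gl_embedding (F := F) S m h1
      exact hS.symplectic ψ hψ
    by_cases h2 : NF ≤ Nat.card F
    · obtain ⟨ψ, hψ⟩ := exists_sl2_gl_embedding (F := F) m hm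
      exact HasWitness.symplectic (hNF F h2) ψ hψ
    exfalso
    rw [Nat.card_eq_fintype_card] at h2
    have := card_quotient_le (a := B * B) (b := 2 * R + 3) e
      (fun g : Matrix.symplecticGroup (Fin m) F => g.1) Subtype.val_injective
      (hBB _ (by omega)) (by simp; omega)
    omega
  · obtain ⟨F, _, _, n, q, hF, hn, -, ⟨e⟩⟩ := hG
    refine bound_quotient e hlaw ?_
    by_cases h1 : NA ≤ n
    · exact (hNA n h1).map_injective
        ((altToSL n F).codRestrict (Cfsg.SU n F q) (altToSL_mem_SU n q))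
        (fun a b h => altToSL_injective n (congrArg Subtype.val h))
    by_cases h2 : NF + 1 ≤ q
    · obtain ⟨F₀, ψ, hF₀, hψ⟩ := exists_SU2_embedding q hF
      obtain ⟨k, rfl⟩ := Nat.exists_eq_add_of_le (show 2 ≤ n by omega)
      exact (HasWitness.failsModCenter (hNF F₀ (by omega)) ψ hψ).map_injective
        (suBlock k q) (suBlock_injective k q)
    exfalso
    have hq : q ^ 2 ≤ B * B := by rw [pow_two]; exact Nat.mul_le_mul (by omega) (by omega)
    have := card_quotient_le (a := B * B) (b := 2 * R + 3) e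
      (fun g : Cfsg.SU n F q => g.1.1) (fun a b h => Subtype.ext (Subtype.ext h))
      (by omega) (by simp; omega)
    omega
  · obtain ⟨F, _, _, m, hm, -, ⟨e⟩⟩ := hG
    refine bound_quotient e hlaw ?_
    by_cases h1 : Nat.card S ≤ m
    · obtain ⟨ψ, hψ⟩ := exists_gl_embedding (F := F) S m h1
      exact (hS.omega ψ hψ).2.1
    by_cases h2 : NF ≤ Nat.card F
    · obtain ⟨ψ, hψ⟩ := exists_sl2_gl_embedding (F := F) m (by omega)
      exact (HasWitness.omega (hNF F h2) ψ hψ).2.1
    exfalso
    rw [Nat.card_eq_fintype_card] at h2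
    have := omega_bound (w := w) (a := B * B) (b := 2 * R + 3) _ e
      (hBB _ (by omega)) (by simp; omega)
    omega
  · obtain ⟨F, _, _, m, hm, ⟨e⟩⟩ := hG
    refine bound_quotient e hlaw ?_
    by_cases h1 : Nat.card S ≤ m
    · obtain ⟨ψ, hψ⟩ := exists_gl_embedding (F := F) S m h1
      exact (hS.omega ψ hψ).1
    by_cases h2 : NF ≤ Nat.card F
    · obtain ⟨ψ, hψ⟩ := exists_sl2_gl_embedding (F := F) m (by omega)
      exact (HasWitness.omega (hNF F h2) ψ hψ).1
    exfalso
    rw [Nat.card_eq_fintype_card] at h2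
    have := omega_bound (w := w) (a := B * B) (b := 2 * R + 3) _ e
      (hBB _ (by omega)) (by simp; omega)
    omega
  · obtain ⟨F, _, _, m, a, b, hm, -, ⟨e⟩⟩ := hG
    refine bound_quotient e hlaw ?_
    by_cases h1 : Nat.card S ≤ m - 1
    · obtain ⟨ψ, hψ⟩ := exists_gl_embedding (F := F) S (m - 1) h1
      exact (hS.omega ψ hψ).2.2 a b
    by_cases h2 : NF ≤ Nat.card F
    · obtain ⟨ψ, hψ⟩ := exists_sl2_gl_embedding (F := F) (m - 1) (by omega)
      exact (HasWitness.omega (hNF F h2) ψ hψ).2.2 a b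
    exfalso
    rw [Nat.card_eq_fintype_card] at h2
    have := omega_bound (w := w) (a := B * B) (b := 2 * R + 3) _ e
      (hBB _ (by omega)) (by simp; omega)
    omega

end Cfsg.Agent.S2355
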