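import Cfsg.Statements.S2362
import Mathlib
import Cfsg.Agent.Lib.Classical.SpectrumSpElement
import Cfsg.Agent.Lib.Classical.SpectrumBC
import Cfsg.Agent.Lib.Classical.QuadPOmega
-- import your own Cfsg.Agent.* helpers here

set_option autoImplicit false
open Cfsg

namespace Cfsg.Agent.S2362

/-- Let F be a finite field of odd order and n ≥ 3. The simple orthogonal group PΩ(2n+1, F) (type B_n) and the projective symplectic group PSp(2n, F) (type C_n), which have the same order, do not have the same set of element orders. -/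
theorem result {F : Type*} [Field F] [Fintype F] (hodd : Odd (Fintype.card F)) (n : ℕ) (hn : 3 ≤ n) :
    Set.range (orderOf : Cfsg.POmega F (Cfsg.quadFormOdd n F) → ℕ) ≠ Set.range (orderOf : Cfsg.PSp n F → ℕ) := by
  classical
  obtain ⟨k, rfl⟩ : ∃ k, n = k + 1 := ⟨n - 1, by omega⟩
  obtain ⟨p, hch⟩ := CharP.exists F
  obtain ⟨f, hpp, hf⟩ := FiniteField.card F p
  haveI := Fact.mk hpp
  have hp2 : p ≠ 2 := fun h => by
    rw [hf, h] at hodd
    exact Nat.not_even_iff_odd.2 hodd ((Nat.even_pow' f.pos.ne').2 even_two)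
  have h2 : (2 : F) ≠ 0 := fun h => hp2 ((Nat.prime_dvd_prime_iff_eq hpp Nat.prime_two).1
    ((CharP.cast_eq_zero_iff F p 2).1 (by exact_mod_cast h)))
  intro he
  obtain ⟨x, hx⟩ := CfsgLib.Classical.SpecBC.exists_psp_element (F := F) (k := k) (by omega) hodd
  obtain ⟨y, hy⟩ : orderOf x ∈ Set.range (orderOf : Cfsg.POmega F (Cfsg.quadFormOdd (k + 1) F) → ℕ) :=
    he ▸ ⟨x, rfl⟩
  rw [hx, ringChar.eq F p] at hy
  clear he
  revert y
  rw [← CfsgLib.Classical.coe_qOdd]
  intro y hy
  obtain ⟨z, rfl⟩ := QuotientGroup.mk_surjective y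
  have hz : orderOf z = p * (Fintype.card F ^ k + 1) := by
    rw [← hy]
    refine (orderOf_injective (QuotientGroup.mk' (Subgroup.center (Cfsg.Omega F ⇑(CfsgLib.Classical.qOdd (k + 1) F)))) ?_ z).symm
    rw [← MonoidHom.ker_eq_bot_iff, QuotientGroup.ker_mk']
    exact CfsgLib.Classical.center_Omega_qOdd (by omega) h2
  refine CfsgLib.Classical.SpecBC.no_element (p := p) _ (CfsgLib.Classical.polarNondeg_qOdd h2 (k + 1)) hp2 (k := k) (by omega) ?_
    ((CfsgLib.Classical.mem_Omega_iff _).1 z.2) ?_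
  · simp [Module.finrank_pi]
    ring
  · rw [← hz, ← orderOf_injective (Cfsg.Omega F _).subtype Subtype.val_injective z]
    exact (CfsgLib.Classical.isoEquiv (CfsgLib.Classical.qOdd (k + 1) F)).orderOf_eq _

end Cfsg.Agent.S2362
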