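import Cfsg.Statements.S2363
import Cfsg.Agent.Lib.Chev.OrderBound
import Cfsg.Agent.S0243
import Cfsg.Agent.S0245
import Cfsg.Agent.S0246
import Cfsg.Agent.S0280
import Cfsg.Agent.S0292
import Cfsg.Agent.S0293
import Cfsg.Agent.S0294
import Cfsg.Agent.S1059
import Cfsg.Agent.S1062
import Cfsg.Agent.S1063
import Cfsg.Agent.S1064
import Cfsg.Agent.S1065
import Cfsg.Agent.S1066
import Cfsg.Agent.S1067
import Cfsg.Agent.S1068
import Cfsg.Agent.S1069
import Cfsg.Agent.Lib.Suzuki.Facts

set_option autoImplicit false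
open Cfsg

namespace Cfsg.Agent.S2363

open CfsgLib.Chev.OrderBound

/-- Let G be a finite simple group of Lie type in characteristic p and let p^k be the exact power of p dividing the order of G. Then the order of G is less than p^(3k); and unless G is isomorphic to PSL(2, F) for the field F with p^k elements, the cube of the order of G is less than p^(8k) (that is, the order is below p^(8k/3)). -/
theorem result {G : Type*} [Group G] [Finite G] (p : ℕ) (hp : p.Prime) (hG : Cfsg.IsLieTypeChar p G) :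
    Nat.card G < p ^ (3 * (Nat.card G).factorization p) ∧
      ((¬ ∃ (F : Type) (_ : Field F) (_ : Fintype F), Fintype.card F = p ^ (Nat.card G).factorization p ∧
          Nonempty (G ≃* Matrix.ProjectiveSpecialLinearGroup (Fin 2) F)) →
        Nat.card G ^ 3 < p ^ (8 * (Nat.card G).factorization p)) := by
  classical
  suffices h : Nat.card G < p ^ (3 * (Nat.card G).factorization p) ∧
      ((∃ (F : Type) (_ : Field F) (_ : Fintype F),
          Fintype.card F = p ^ (Nat.card G).factorization p ∧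
          Nonempty (G ≃* Matrix.ProjectiveSpecialLinearGroup (Fin 2) F)) ∨
        Nat.card G ^ 3 < p ^ (8 * (Nat.card G).factorization p)) from
    ⟨h.1, fun hne => h.2.resolve_left hne⟩
  haveI : Fact p.Prime := ⟨hp⟩
  have fin : Small p (Nat.card G) → _ := fun h =>
    (⟨h.1, Or.inr h.2⟩ : Nat.card G < p ^ (3 * (Nat.card G).factorization p) ∧
      ((∃ (F : Type) (_ : Field F) (_ : Fintype F),
          Fintype.card F = p ^ (Nat.card G).factorization p ∧
          Nonempty (G ≃* Matrix.ProjectiveSpecialLinearGroup (Fin 2) F)) ∨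
        Nat.card G ^ 3 < p ^ (8 * (Nat.card G).factorization p)))
  have fld : ∀ (F : Type) [Field F] [Fintype F] [CharP F p],
      ∃ a, Fintype.card F = p ^ a ∧ p ∣ p ^ a ∧ 2 ≤ p ^ a ∧ a ≠ 0 := by
    intro F _ _ _
    obtain ⟨a, -, ha⟩ := FiniteField.card F p
    have hd : p ∣ p ^ (a : ℕ) := dvd_pow_self p a.pos.ne'
    exact ⟨a, ha, hd, le_trans hp.two_le (Nat.le_of_dvd (Nat.pow_pos hp.pos) hd), a.pos.ne'⟩
  rcases hG with hG | hG | hG | hG | hG | hG | hG | hG | ⟨rfl, hG⟩ | ⟨rfl, hG⟩ | ⟨rfl, hG⟩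
  · -- the special linear groups
    obtain ⟨F, _, _, _, n, hn, -, ⟨e⟩⟩ := hG
    obtain ⟨a, ha, hd, hq2, ha0⟩ := fld F
    set q := p ^ a with hq
    have hcard := Cfsg.Agent.S0243.result ha n hn
    rw [← Nat.card_congr e.toEquiv, gl_prod] at hcard
    obtain ⟨n, rfl⟩ : ∃ k, n = k + 2 := ⟨n - 2, by omega⟩
    rw [Finset.prod_range_succ' _ (n + 1), zero_add, pow_one, ← mul_assoc _ _ (q - 1)] at hcard
    have h' : Nat.gcd (n + 2) (q - 1) * Nat.card G =
        q ^ ((n + 2) * (n + 2 - 1) / 2) * ∏ i ∈ Finset.range (n + 1), (q ^ (i + 2) - 1) :=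
      Nat.eq_of_mul_eq_mul_left (show 0 < q - 1 by omega) (by linarith)
    have hc : ¬ p ∣ Nat.gcd (n + 2) (q - 1) := not_dvd_of_dvd
      (by simpa using not_dvd_pow_sub (k := 1) hp hd (by omega) one_ne_zero) (Nat.gcd_dvd_right _ _)
    rcases n with _ | n
    · simp only [zero_add, Finset.prod_range_one] at h'
      norm_num at h'
      have h'' : Nat.gcd 2 (q - 1) * Nat.card G = q * ((q - 1) * (q + 1)) := by
        rw [h', ← Nat.mul_comm (q + 1), ← Nat.sq_sub_sq, one_pow]
      obtain ⟨h3, hk⟩ := small_one_of (n := Nat.card G) hp ha0 hc h''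
      refine ⟨h3, Or.inl ⟨F, inferInstance, inferInstance, ?_, ⟨e⟩⟩⟩
      rw [hk, ha]
    · refine fin (small_of hp ?_ hc
        (prod_sub_lt (by omega) ⟨0, by simp⟩ fun i => i + 2) ?_ h')
      · exact not_dvd_prod hp fun i _ => not_dvd_pow_sub hp hd (by omega) (by omega)
      · have e1 := two_sum_add_two (n + 1 + 1)
        have e2 := choose_two_mul (n := n + 1 + 2)
        rw [show n + 1 + 2 - 1 = n + 2 by omega] at e2 ⊢
        nlinarith
  · -- the symplectic groups
    obtain ⟨F, _, _, _, m, hm, -, ⟨e⟩⟩ := hG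
    obtain ⟨a, ha, hd, hq2, ha0⟩ := fld F
    set q := p ^ a with hq
    have h := Cfsg.Agent.S0245.result ha m
    rw [Subgroup.card_eq_card_quotient_mul_card_subgroup
        (Subgroup.center (Matrix.symplecticGroup (Fin m) F)),
      Cfsg.Agent.S0246.result ha m (by omega), mul_comm] at h
    rw [← Nat.card_congr e.toEquiv] at h
    refine fin (small_of (D := m * (m + 1)) hp ?_ ?_ ?_ ?_ h)
    · exact not_dvd_prod hp fun i _ => not_dvd_pow_sub hp hd (by omega) (by omega)
    · exact not_dvd_of_dvd (by simpa using not_dvd_pow_sub (k := 1) hp hd (by omega) one_ne_zero)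
        (Nat.gcd_dvd_right _ _)
    · rw [← sum_two_mul]
      exact prod_sub_lt (by omega) ⟨0, by simp; omega⟩ _
    · nlinarith
  · -- the unitary groups
    obtain ⟨F, _, _, _, n, q, hF, hn, -, ⟨e⟩⟩ := hG
    obtain ⟨a, ha, -, -, -⟩ := fld F
    obtain ⟨b, -, rfl⟩ := (Nat.dvd_prime_pow hp).1
      (show q ∣ p ^ a by rw [← ha, hF]; exact dvd_pow_self q two_ne_zero)
    set q := p ^ b with hq
    have hq2 : 2 ≤ q := by
      have h1 := Fintype.one_lt_card (α := F)
      rw [hF] at h1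
      by_contra hlt
      have := Nat.pow_le_pow_left (show q ≤ 1 by omega) 2
      rw [one_pow] at this
      omega
    have hd : p ∣ q := dvd_pow_self p fun e => by rw [hq, e, pow_zero] at hq2; omega
    have hcard := Cfsg.Agent.S0280.result hF n (by omega)
    rw [← Nat.card_congr e.toEquiv] at hcard
    obtain ⟨n, rfl⟩ : ∃ k, n = k + 3 := ⟨n - 3, by omega⟩
    rw [Finset.prod_range_succ' _ (n + 2), if_pos Even.zero, zero_add, pow_one,
      ← mul_assoc _ _ (q + 1)] at hcard
    have hite : ∀ i, (if Even (i + 1) then q ^ (i + 1 + 1) + 1 else q ^ (i + 1 + 1) - 1) =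
        if Even i then q ^ (i + 2) - 1 else q ^ (i + 2) + 1 := by
      intro i
      by_cases h : Even i <;> simp [Nat.even_add_one, h]
    rw [Finset.prod_congr rfl fun i _ => hite i] at hcard
    have h' : Nat.gcd (n + 3) (q + 1) * Nat.card G = q ^ ((n + 3) * (n + 3 - 1) / 2) *
        ∏ i ∈ Finset.range (n + 2), (if Even i then q ^ (i + 2) - 1 else q ^ (i + 2) + 1) :=
      Nat.eq_of_mul_eq_mul_left (show 0 < q + 1 by omega) (by linarith)
    refine fin (small_of hp ?_ ?_ (unitary_prod_lt hq2 (n + 1)) ?_ h')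
    · refine not_dvd_prod hp fun i _ => ?_
      split_ifs
      exacts [not_dvd_pow_sub hp hd (by omega) (by omega), not_dvd_pow_add hp hd (by omega)]
    · exact not_dvd_of_dvd (by simpa using not_dvd_pow_add (k := 1) hp hd one_ne_zero)
        (Nat.gcd_dvd_right _ _)
    · have e1 := two_sum_add_two (n + 1 + 1)
      have e2 := choose_two_mul (n := n + 3)
      rw [show n + 3 - 1 = n + 2 by omega] at e2 ⊢
      nlinarith
  · -- the orthogonal groups of odd dimension
    obtain ⟨F, _, _, _, m, hm, hodd, ⟨e⟩⟩ := hG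
    obtain ⟨a, ha, hd, hq2, ha0⟩ := fld F
    set q := p ^ a with hq
    have hodd' : Odd q := ha ▸ hodd
    have h := Cfsg.Agent.S0292.result ha hodd' m hm
    rw [← Nat.card_congr e.toEquiv] at h
    refine fin (small_of (D := m * (m + 1)) hp ?_ ?_ ?_ ?_ h)
    · exact not_dvd_prod hp fun i _ => not_dvd_pow_sub hp hd (by omega) (by omega)
    · intro h2
      have := (Nat.prime_dvd_prime_iff_eq hp Nat.prime_two).1 h2
      subst this
      exact absurd (even_iff_two_dvd.2 hd) (Nat.not_even_iff_odd.2 hodd')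
    · rw [← sum_two_mul]
      exact prod_sub_lt (by omega) ⟨0, by simp; omega⟩ _
    · nlinarith
  · -- the orthogonal groups of plus type
    obtain ⟨F, _, _, _, m, hm, ⟨e⟩⟩ := hG
    obtain ⟨a, ha, hd, hq2, ha0⟩ := fld F
    set q := p ^ a with hq
    have h := Cfsg.Agent.S0293.result ha m hm
    rw [← Nat.card_congr e.toEquiv, mul_assoc] at h
    refine fin (small_of (D := m + (m - 1) * m) hp ?_ ?_ ?_ ?_ h)
    · rw [hp.dvd_mul]
      exact not_or.2 ⟨not_dvd_pow_sub hp hd (by omega) (by omega),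
        not_dvd_prod hp fun i _ => not_dvd_pow_sub hp hd (by omega) (by omega)⟩
    · exact not_dvd_of_dvd (not_dvd_pow_sub hp hd (by omega) (by omega)) (Nat.gcd_dvd_right _ _)
    · rw [pow_add, show (m - 1) * m = (m - 1) * (m - 1 + 1) by rw [Nat.sub_add_cancel]; omega,
        ← sum_two_mul]
      exact Nat.mul_lt_mul'' (sub_one_lt (by omega))
        (prod_sub_lt (by omega) ⟨0, by simp; omega⟩ _)
    · obtain ⟨r, rfl⟩ : ∃ r, m = r + 4 := ⟨m - 4, by omega⟩
      rw [show r + 4 - 1 = r + 3 by omega]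
      nlinarith
  · -- the orthogonal groups of minus type
    obtain ⟨F, _, _, _, m, a', b', hm, hab, ⟨e⟩⟩ := hG
    obtain ⟨a, ha, hd, hq2, ha0⟩ := fld F
    set q := p ^ a with hq
    have h := Cfsg.Agent.S0294.result ha m hm a' b' hab
    rw [← Nat.card_congr e.toEquiv, mul_assoc] at h
    refine fin (small_of (D := m + 1 + (m - 1) * m) hp ?_ ?_ ?_ ?_ h)
    · rw [hp.dvd_mul]
      exact not_or.2 ⟨not_dvd_pow_add hp hd (by omega),
        not_dvd_prod hp fun i _ => not_dvd_pow_sub hp hd (by omega) (by omega)⟩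
    · exact not_dvd_of_dvd (not_dvd_pow_add hp hd (by omega)) (Nat.gcd_dvd_right _ _)
    · rw [pow_add, show (m - 1) * m = (m - 1) * (m - 1 + 1) by rw [Nat.sub_add_cancel]; omega,
        ← sum_two_mul]
      exact Nat.mul_lt_mul_of_le_of_lt (add_one_le hq2)
        (prod_sub_lt (by omega) ⟨0, by simp; omega⟩ _) (Nat.pow_pos (by omega))
    · obtain ⟨r, rfl⟩ : ∃ r, m = r + 4 := ⟨m - 4, by omega⟩
      rw [show r + 4 - 1 = r + 3 by omega]
      nlinarith
  · -- the exceptional Chevalley groups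
    obtain ⟨F, _, _, _, hG⟩ := hG
    obtain ⟨a, ha, hd, hq2, ha0⟩ := fld F
    set q := p ^ a with hq
    have nd : ∀ k, k ≠ 0 → ¬ p ∣ q ^ k - 1 := fun k hk => not_dvd_pow_sub hp hd (by omega) hk
    have lt : ∀ k, q ^ k - 1 < q ^ k := fun k => sub_one_lt (by omega)
    have nd1 : ∀ k, ¬ p ∣ Nat.gcd k (q - 1) := fun k => not_dvd_of_dvd
      (by simpa using nd 1 one_ne_zero) (Nat.gcd_dvd_right _ _)
    rcases hG with ⟨-, ⟨e⟩⟩ | ⟨⟨e⟩⟩ | ⟨⟨e⟩⟩ | ⟨⟨e⟩⟩ | ⟨⟨e⟩⟩
    · have h := Cfsg.Agent.S1059.result ha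
      rw [← Nat.card_congr e.toEquiv, ← one_mul (Nat.card G)] at h
      refine fin (small_of (a := a) (N := 6) (D := 2 + 6) hp ?_ (hp.not_dvd_one) ?_ (by norm_num) (by simp only [mul_assoc] at h; exact h))
      · simp [hp.dvd_mul, nd]
      · simp only [pow_add]; exact Nat.mul_lt_mul'' (lt _) (lt _)
    · have h := Cfsg.Agent.S1062.result ha
      rw [← Nat.card_congr e.toEquiv, ← one_mul (Nat.card G)] at h
      refine fin (small_of (a := a) (N := 24) (D := 2 + (6 + (8 + 12))) hp ?_ (hp.not_dvd_one) ?_ (by norm_num) (by simp only [mul_assoc] at h; exact h))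
      · simp [hp.dvd_mul, nd]
      · simp only [pow_add]
        exact Nat.mul_lt_mul'' (lt _) (Nat.mul_lt_mul'' (lt _) (Nat.mul_lt_mul'' (lt _) (lt _)))
    · have h := Cfsg.Agent.S1063.result ha
      rw [← Nat.card_congr e.toEquiv] at h
      refine fin (small_of (a := a) (N := 36) (D := 2 + (5 + (6 + (8 + (9 + 12))))) hp ?_ (nd1 3) ?_ (by norm_num) (by simp only [mul_assoc] at h; exact h))
      · simp [hp.dvd_mul, nd]
      · simp only [pow_add]
        exact Nat.mul_lt_mul'' (lt _) (Nat.mul_lt_mul'' (lt _) (Nat.mul_lt_mul'' (lt _)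
          (Nat.mul_lt_mul'' (lt _) (Nat.mul_lt_mul'' (lt _) (lt _)))))
    · have h := Cfsg.Agent.S1064.result ha
      rw [← Nat.card_congr e.toEquiv] at h
      refine fin (small_of (a := a) (N := 63) (D := 2 + (6 + (8 + (10 + (12 + (14 + 18)))))) hp ?_ (nd1 2) ?_
        (by norm_num) (by simp only [mul_assoc] at h; exact h))
      · simp [hp.dvd_mul, nd]
      · simp only [pow_add]
        exact Nat.mul_lt_mul'' (lt _) (Nat.mul_lt_mul'' (lt _) (Nat.mul_lt_mul'' (lt _)
          (Nat.mul_lt_mul'' (lt _) (Nat.mul_lt_mul'' (lt _) (Nat.mul_lt_mul'' (lt _) (lt _))))))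
    · have h := Cfsg.Agent.S1065.result ha
      rw [← Nat.card_congr e.toEquiv, ← one_mul (Nat.card G)] at h
      refine fin (small_of (a := a) (N := 120) (D := 2 + (8 + (12 + (14 + (18 + (20 + (24 + 30))))))) hp ?_
        (hp.not_dvd_one) ?_ (by norm_num) (by simp only [mul_assoc] at h; exact h))
      · simp [hp.dvd_mul, nd]
      · simp only [pow_add]
        exact Nat.mul_lt_mul'' (lt _) (Nat.mul_lt_mul'' (lt _) (Nat.mul_lt_mul'' (lt _)
          (Nat.mul_lt_mul'' (lt _) (Nat.mul_lt_mul'' (lt _) (Nat.mul_lt_mul'' (lt _)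
            (Nat.mul_lt_mul'' (lt _) (lt _)))))))
  · -- twisted types E6 and D4
    obtain ⟨K, _, _, _, q, hqp, hG⟩ := hG
    obtain ⟨a, ha, -, -, -⟩ := fld K
    obtain ⟨b, -, rfl⟩ := (Nat.dvd_prime_pow hp).1 (show q ∣ p ^ a by
      rcases hG with ⟨h, -⟩ | ⟨h, -⟩ <;> rw [← ha, h] <;> exact dvd_pow_self q (by norm_num))
    set q := p ^ b with hq
    have hq2 : 2 ≤ q := hqp.two_le
    have hd : p ∣ q := dvd_pow_self p fun e => by rw [hq, e, pow_zero] at hq2; omega
    have nd : ∀ k, k ≠ 0 → ¬ p ∣ q ^ k - 1 := fun k hk => not_dvd_pow_sub hp hd (by omega) hk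
    have nda : ∀ k, k ≠ 0 → ¬ p ∣ q ^ k + 1 := fun k hk => not_dvd_pow_add hp hd hk
    have lt : ∀ k, q ^ k - 1 < q ^ k := fun k => sub_one_lt (by omega)
    have lta : ∀ k, q ^ k + 1 < q ^ (k + 2) := fun k =>
      lt_of_le_of_lt (add_one_le hq2) (Nat.pow_lt_pow_right (by omega) (by omega))
    rcases hG with ⟨hK, ⟨e⟩⟩ | ⟨hK, ⟨e⟩⟩
    · have h := Cfsg.Agent.S1066.result hqp hK
      rw [← Nat.card_congr e.toEquiv] at h
      refine fin (small_of (a := b) (N := 36) (D := 2 + ((5 + 2) + (6 + (8 + ((9 + 2) + 12))))) hp ?_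
        (not_dvd_of_dvd (by simpa using nda 1 one_ne_zero) (Nat.gcd_dvd_right _ _)) ?_
        (by norm_num) (by simp only [mul_assoc] at h; exact h))
      · simp [hp.dvd_mul, nd, nda]
      · rw [pow_add q 2, pow_add q (5 + 2), pow_add q 6, pow_add q 8, pow_add q (9 + 2)]
        exact Nat.mul_lt_mul'' (lt _) (Nat.mul_lt_mul'' (lta _) (Nat.mul_lt_mul'' (lt _)
          (Nat.mul_lt_mul'' (lt _) (Nat.mul_lt_mul'' (lta _) (lt _)))))
    · have h := Cfsg.Agent.S1067.result hqp hK
      rw [← Nat.card_congr e.toEquiv, ← one_mul (Nat.card G)] at h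
      have h8 : q ^ 8 + q ^ 4 + 1 < q ^ 10 := by
        have h4 : 1 ≤ q ^ 4 := Nat.one_le_pow _ _ (by omega)
        have h8 : q ^ 4 ≤ q ^ 8 := Nat.pow_le_pow_right (by omega) (by omega)
        have : 4 * q ^ 8 ≤ q ^ 10 := by
          rw [show q ^ 10 = q ^ 2 * q ^ 8 by ring]
          exact Nat.mul_le_mul_right _ (by nlinarith)
        omega
      have hn8 : ¬ p ∣ q ^ 8 + q ^ 4 + 1 := fun h' => hp.not_dvd_one ((Nat.dvd_add_right
        (dvd_add (dvd_pow hd (by norm_num)) (dvd_pow hd (by norm_num)))).1 h')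
      refine fin (small_of (a := b) (N := 12) (D := 2 + (6 + 10)) hp ?_ (hp.not_dvd_one) ?_
        (by norm_num) (by simp only [mul_assoc] at h; exact h))
      · simp [hp.dvd_mul, nd, hn8]
      · rw [pow_add q 2, pow_add q 6]
        exact Nat.mul_lt_mul'' (lt _) (Nat.mul_lt_mul'' (lt _) h8)
  · -- the Suzuki groups
    obtain ⟨F, _, _, m, hm, hF, ⟨e⟩⟩ := hG
    haveI := CfsgLib.Suzuki.charTwo hF
    have h := CfsgLib.Suzuki.card_group hF hm
    rw [← Nat.card_congr e.toEquiv] at h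
    set q := 2 ^ (2 * m + 1) with hq
    have hd : 2 ∣ q := dvd_pow_self 2 (by omega)
    have hq8 : 2 ^ 3 ≤ q := Nat.pow_le_pow_right (by norm_num) (by omega)
    refine fin (small_of (M := (q - 1) * (q ^ 2 + 1)) (c := 1) (D := 3) (N := 2) hp ?_
      hp.not_dvd_one ?_ (by norm_num) (by rw [one_mul, h, mul_assoc]))
    · rw [hp.dvd_mul]
      exact not_or.2 ⟨by simpa using not_dvd_pow_sub (k := 1) hp hd (by omega) one_ne_zero,
        not_dvd_pow_add hp hd two_ne_zero⟩
    · show (q - 1) * (q ^ 2 + 1) < q ^ 3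
      obtain ⟨r, hr⟩ : ∃ r, q = r + 1 := ⟨q - 1, by omega⟩
      rw [hr, Nat.add_sub_cancel]
      nlinarith
  · -- the groups of type F4 twisted
    obtain ⟨K, _, _, m, hm, hK, ⟨e⟩⟩ := hG
    have h := Cfsg.Agent.S1068.result hK
    rw [← Nat.card_congr e.toEquiv, ← one_mul (Nat.card G)] at h
    set q := 2 ^ (2 * m + 1) with hq
    have hd : 2 ∣ q := dvd_pow_self 2 (by omega)
    have hq2 : 2 ≤ q := Nat.le_of_dvd (Nat.pow_pos (by norm_num)) hd
    refine fin (small_of (a := 2 * m + 1) (N := 12) (D := 1 + ((3 + 2) + (4 + (6 + 2)))) hp ?_ hp.not_dvd_one ?_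
      (by norm_num) (by simp only [mul_assoc] at h; exact h))
    · simp only [hp.dvd_mul, not_or]
      exact ⟨by simpa using not_dvd_pow_sub (k := 1) hp hd (by omega) one_ne_zero,
        not_dvd_pow_add hp hd (by norm_num), not_dvd_pow_sub hp hd (by omega) (by norm_num),
        not_dvd_pow_add hp hd (by norm_num)⟩
    · show _ < q ^ _
      rw [pow_add q 1, pow_add q (3 + 2), pow_add q 4]
      have lta : ∀ k, q ^ k + 1 < q ^ (k + 2) := fun k =>
        lt_of_le_of_lt (add_one_le hq2) (Nat.pow_lt_pow_right (by omega) (by omega))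
      exact Nat.mul_lt_mul'' (by rw [pow_one]; omega) (Nat.mul_lt_mul'' (lta _)
        (Nat.mul_lt_mul'' (sub_one_lt (by omega)) (lta _)))
  · -- the Ree groups of type G2
    obtain ⟨K, _, _, m, hm, hK, ⟨e⟩⟩ := hG
    have h := Cfsg.Agent.S1069.result hK
    rw [← Nat.card_congr e.toEquiv, ← one_mul (Nat.card G)] at h
    set q := 3 ^ (2 * m + 1) with hq
    have hd : 3 ∣ q := dvd_pow_self 3 (by omega)
    have hq3 : 3 ≤ q := Nat.le_of_dvd (Nat.pow_pos (by norm_num)) hd
    refine fin (small_of (a := 2 * m + 1) (N := 3) (D := 1 + (3 + 1)) hp ?_ hp.not_dvd_one ?_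
      (by norm_num) (by simp only [mul_assoc] at h; exact h))
    · simp only [hp.dvd_mul, not_or]
      exact ⟨by simpa using not_dvd_pow_sub (k := 1) hp hd (by omega) one_ne_zero,
        not_dvd_pow_add hp hd (by norm_num)⟩
    · show _ < q ^ _
      rw [pow_add q 1]
      exact Nat.mul_lt_mul_of_lt_of_le (by rw [pow_one]; omega) (add_one_le (by omega))
        (Nat.pow_pos (by omega))

end Cfsg.Agent.S2363
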