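import Cfsg.Statements.S2365
import Cfsg.Agent.Lib.KnownSimple.Spectra.UnitaryCentralizer

set_option autoImplicit false
open Cfsg

namespace Cfsg.Agent.S2365

/-- Let q be a power of the prime p, F the field with q² elements, m ≥ 4, and let a, b be commuting elements of PSU(m, q) with a of order p. Then every prime divisor of the order of b divides the order of SU(m − 2, q). -/
theorem result {F : Type*} [Field F] [Fintype F] (p : ℕ) [Fact p.Prime] [CharP F p] (m q : ℕ) (hm : 4 ≤ m) (hF : Fintype.card F = q ^ 2)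
    (a b : Cfsg.PSU m F q) (ha : orderOf a = p) (hab : Commute a b) :
    (orderOf b).primeFactors ⊆ (Nat.card ↥(Cfsg.SU (m - 2) F q)).primeFactors := by
  obtain ⟨f, -, hf⟩ := FiniteField.card F p
  rw [hF] at hf
  obtain ⟨e, -, he⟩ := (Nat.dvd_prime_pow Fact.out).1 (hf ▸ dvd_pow_self q two_ne_zero : q ∣ p ^ (f : ℕ))
  obtain ⟨τ, hτ, hττ, -⟩ := CfsgLib.Classical.exists_qPow hF
  let σ : F ≃+* F := RingEquiv.ofBijective τ ⟨τ.injective, fun x => ⟨τ x, hττ x⟩⟩
  intro r hr
  rw [Nat.mem_primeFactors] at hr ⊢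
  exact ⟨hr.1, CfsgLib.Spectra.psu_commute_prime_dvd hF (σ := σ) (fun x => hτ x) Fact.out he hm a b ha hab hr.1 hr.2.1,
    Nat.card_pos.ne'⟩

end Cfsg.Agent.S2365
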