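import Cfsg.Statements.S2367
import Cfsg.Agent.Lib.KnownSimple.CubeVsTwo
import Cfsg.Agent.Lib.Spectrum.AltBigPrimes

set_option autoImplicit false
open Cfsg

namespace Cfsg.Agent.S2367

/-- Let G be an alternating group of degree at least 5 or a simple group with the order of one of the 26 sporadic groups, and let p be an odd prime such that p³ is the exact power of p dividing the order of G. Then p³ is less than the 2-part of the order of G. -/
theorem result {G : Type*} [Group G] [Finite G] (hG : Cfsg.IsAlternating G ∨ Cfsg.IsSporadic G)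
    (p : ℕ) (hp : p.Prime) (hodd : p ≠ 2) (h3 : (Nat.card G).factorization p = 3) :
    p ^ 3 < 2 ^ (Nat.card G).factorization 2 := by
  haveI : Nonempty G := inferInstance
  have hpos : Nat.card G ≠ 0 := Nat.card_pos.ne'
  have hp3 : 3 ≤ p := by have := hp.two_le; omega
  rcases hG with ⟨n, hn, ⟨e⟩⟩ | hG
  · have hc : 2 * Nat.card G = n.factorial := by
      rw [Nat.card_congr e.toEquiv]
      exact CfsgLib.Spectrum.two_mul_natCard_alt n (by omega)
    exact CfsgLib.KnownSimple.alt_three p hp hp3 n hn hpos hc h3
  · rcases hG with ⟨-, h⟩ | ⟨-, h⟩ | ⟨-, h⟩ | ⟨-, h⟩ | ⟨-, h⟩ | ⟨-, h⟩ | ⟨-, h⟩ | ⟨-, h⟩ | ⟨-, h⟩ | ⟨-, h⟩ | ⟨-, h⟩ | ⟨-, h⟩ | ⟨-, h⟩ | ⟨-, h⟩ | ⟨-, h⟩ | ⟨-, h⟩ | ⟨-, h⟩ | ⟨-, h⟩ | ⟨-, h⟩ | ⟨-, h⟩ | ⟨-, h⟩ | ⟨-, h⟩ | ⟨-, h⟩ | ⟨-, h⟩ | ⟨-, h⟩ | ⟨-, h⟩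
    · exact CfsgLib.KnownSimple.check_order 4 h hp hp3 h3 (by decide +kernel) (by decide +kernel) (by decide +kernel)
    · exact CfsgLib.KnownSimple.check_order 6 h hp hp3 h3 (by decide +kernel) (by decide +kernel) (by decide +kernel)
    · exact CfsgLib.KnownSimple.check_order 7 h hp hp3 h3 (by decide +kernel) (by decide +kernel) (by decide +kernel)
    · exact CfsgLib.KnownSimple.check_order 7 h hp hp3 h3 (by decide +kernel) (by decide +kernel) (by decide +kernel)
    · exact CfsgLib.KnownSimple.check_order 10 h hp hp3 h3 (by decide +kernel) (by decide +kernel) (by decide +kernel)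
    · exact CfsgLib.KnownSimple.check_order 3 h hp hp3 h3 (by decide +kernel) (by decide +kernel) (by decide +kernel)
    · exact CfsgLib.KnownSimple.check_order 7 h hp hp3 h3 (by decide +kernel) (by decide +kernel) (by decide +kernel)
    · exact CfsgLib.KnownSimple.check_order 7 h hp hp3 h3 (by decide +kernel) (by decide +kernel) (by decide +kernel)
    · exact CfsgLib.KnownSimple.check_order 21 h hp hp3 h3 (by decide +kernel) (by decide +kernel) (by decide +kernel)
    · exact CfsgLib.KnownSimple.check_order 21 h hp hp3 h3 (by decide +kernel) (by decide +kernel) (by decide +kernel)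
    · exact CfsgLib.KnownSimple.check_order 18 h hp hp3 h3 (by decide +kernel) (by decide +kernel) (by decide +kernel)
    · exact CfsgLib.KnownSimple.check_order 10 h hp hp3 h3 (by decide +kernel) (by decide +kernel) (by decide +kernel)
    · exact CfsgLib.KnownSimple.check_order 17 h hp hp3 h3 (by decide +kernel) (by decide +kernel) (by decide +kernel)
    · exact CfsgLib.KnownSimple.check_order 18 h hp hp3 h3 (by decide +kernel) (by decide +kernel) (by decide +kernel)
    · exact CfsgLib.KnownSimple.check_order 21 h hp hp3 h3 (by decide +kernel) (by decide +kernel) (by decide +kernel)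
    · exact CfsgLib.KnownSimple.check_order 9 h hp hp3 h3 (by decide +kernel) (by decide +kernel) (by decide +kernel)
    · exact CfsgLib.KnownSimple.check_order 7 h hp hp3 h3 (by decide +kernel) (by decide +kernel) (by decide +kernel)
    · exact CfsgLib.KnownSimple.check_order 10 h hp hp3 h3 (by decide +kernel) (by decide +kernel) (by decide +kernel)
    · exact CfsgLib.KnownSimple.check_order 14 h hp hp3 h3 (by decide +kernel) (by decide +kernel) (by decide +kernel)
    · exact CfsgLib.KnownSimple.check_order 13 h hp hp3 h3 (by decide +kernel) (by decide +kernel) (by decide +kernel)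
    · exact CfsgLib.KnownSimple.check_order 9 h hp hp3 h3 (by decide +kernel) (by decide +kernel) (by decide +kernel)
    · exact CfsgLib.KnownSimple.check_order 14 h hp hp3 h3 (by decide +kernel) (by decide +kernel) (by decide +kernel)
    · exact CfsgLib.KnownSimple.check_order 8 h hp hp3 h3 (by decide +kernel) (by decide +kernel) (by decide +kernel)
    · exact CfsgLib.KnownSimple.check_order 15 h hp hp3 h3 (by decide +kernel) (by decide +kernel) (by decide +kernel)
    · exact CfsgLib.KnownSimple.check_order 41 h hp hp3 h3 (by decide +kernel) (by decide +kernel) (by decide +kernel)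
    · exact CfsgLib.KnownSimple.check_order 46 h hp hp3 h3 (by decide +kernel) (by decide +kernel) (by decide +kernel)

end Cfsg.Agent.S2367
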