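import Cfsg.Statements.S2368
import Mathlib

set_option autoImplicit false
open Cfsg

namespace Cfsg.Agent.S2368

/-- Let F be a finite field of characteristic p and m ≥ 1. Every element of GL(m, F) of p-power order has order less than p·m, and GL(m, F) has an element of p-power order at least m; so the largest order of a p-element of GL(m, F) is the least power of p that is at least m. -/
theorem result {F : Type*} [Field F] [Fintype F] (p : ℕ) [Fact p.Prime] [CharP F p] (m : ℕ) (hm : 1 ≤ m) :
    (∀ g : Matrix.GeneralLinearGroup (Fin m) F, (∃ j : ℕ, orderOf g = p ^ j) → orderOf g < p * m) ∧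
      ∃ g : Matrix.GeneralLinearGroup (Fin m) F, (∃ j : ℕ, orderOf g = p ^ j) ∧ m ≤ orderOf g := by
  classical
  have hp : p.Prime := Fact.out
  haveI : Nonempty (Fin m) := ⟨⟨0, hm⟩⟩
  haveI : CharP (Matrix (Fin m) (Fin m) F) p := charP_of_injective_algebraMap
    (algebraMap F (Matrix (Fin m) (Fin m) F)).injective p
  refine ⟨fun g ⟨j, hj⟩ => ?_, ?_⟩
  · set N : Matrix (Fin m) (Fin m) F := (g : Matrix (Fin m) (Fin m) F) - 1 with hN
    have hnil : IsNilpotent N := by
      refine ⟨p ^ j, ?_⟩
      rw [hN, sub_pow_char_pow_of_commute p j (Commute.one_right _), one_pow, ← Units.val_pow_eq_pow_val, ← hj,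
        pow_orderOf_eq_one]
      simp
    have hpow : N ^ m = 0 := by
      have h := Matrix.isNilpotent_charpoly_sub_pow_of_isNilpotent hnil
      rw [Fintype.card_fin] at h
      have h' : (N.charpoly - Polynomial.X ^ m) = 0 := h.eq_zero
      have := Matrix.aeval_self_charpoly N
      rw [sub_eq_zero.1 h'] at this
      simpa using this
    have hle : m ≤ p ^ Nat.clog p m := Nat.le_pow_clog hp.one_lt m
    have h1 : g ^ (p ^ Nat.clog p m) = 1 := by
      apply Units.ext
      rw [Units.val_pow_eq_pow_val, Units.val_one, show (g : Matrix (Fin m) (Fin m) F) = N + 1 by simp [hN],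
        add_pow_char_pow_of_commute p _ (Commute.one_right _), pow_eq_zero_of_le hle hpow, zero_add, one_pow]
    refine lt_of_le_of_lt (Nat.le_of_dvd (pow_pos hp.pos _) (orderOf_dvd_of_pow_eq_one h1)) ?_
    rcases Nat.lt_or_ge 1 m with h | h
    · have hc := Nat.pow_pred_clog_lt_self hp.one_lt h
      have hc0 : 0 < Nat.clog p m := Nat.clog_pos hp.one_lt h
      calc p ^ Nat.clog p m = p * p ^ (Nat.clog p m).pred := by
            rw [← pow_succ', Nat.pred_eq_sub_one, Nat.sub_add_cancel hc0]
        _ < p * m := Nat.mul_lt_mul_of_pos_left hc hp.pos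
    · obtain rfl : m = 1 := le_antisymm h hm
      simp [hp.one_lt]
  · let J : Matrix (Fin m) (Fin m) F := Matrix.of fun i k => if i.val + 1 = k.val then 1 else 0
    have hJ : ∀ (n : ℕ) (i k : Fin m), (J ^ n) i k = if i.val + n = k.val then 1 else 0 := by
      intro n
      induction n with
      | zero => intro i k; simp [Matrix.one_apply, Fin.ext_iff]
      | succ n ih =>
        intro i k
        rw [pow_succ, Matrix.mul_apply]
        simp only [ih, J, Matrix.of_apply, ite_mul, one_mul, zero_mul]
        by_cases h : i.val + n < m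
        · rw [Finset.sum_eq_single ⟨i.val + n, h⟩]
          · simp [add_assoc]
          · intro b _ hb
            rw [if_neg]
            exact fun e => hb (Fin.ext e.symm)
          · simp
        · rw [Finset.sum_eq_zero]
          · rw [if_neg]
            have := k.isLt
            omega
          · intro b _
            rw [if_neg]
            have := b.isLt
            omega
    have hnil : IsNilpotent J := ⟨m, by
      ext i k
      rw [hJ, if_neg]
      · simp
      · have := k.isLt; omega⟩
    have hu : IsUnit (1 + J) := hnil.isUnit_one_add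
    have hJp : J ^ (p ^ m) = 0 := by
      refine pow_eq_zero_of_le (Nat.lt_pow_self hp.one_lt).le ?_
      ext i k
      rw [hJ, if_neg]
      · simp
      · have := k.isLt; omega
    have hord : hu.unit ^ (p ^ m) = 1 := by
      apply Units.ext
      rw [Units.val_pow_eq_pow_val, IsUnit.unit_spec, add_pow_char_pow_of_commute p _ (Commute.one_left _), hJp,
        add_zero, one_pow, Units.val_one]
    obtain ⟨j, -, hj⟩ := (Nat.dvd_prime_pow hp).1 (orderOf_dvd_of_pow_eq_one hord)
    refine ⟨hu.unit, ⟨j, hj⟩, ?_⟩
    by_contra hlt
    rw [hj] at hlt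
    have h := congrArg Units.val (pow_orderOf_eq_one hu.unit)
    rw [hj, Units.val_pow_eq_pow_val, IsUnit.unit_spec, add_pow_char_pow_of_commute p _ (Commute.one_left _),
      one_pow, Units.val_one, add_eq_left] at h
    have h' := congrFun (congrFun h ⟨0, hm⟩) ⟨p ^ j, by omega⟩
    rw [hJ] at h'
    simp at h'

end Cfsg.Agent.S2368
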