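import Cfsg.Statements.S2369
import Cfsg.Agent.Lib.Chev.Twist.F4Main
import Cfsg.Agent.Lib.Chev.Twist.RankOnePar
import Cfsg.Agent.Lib.Chev.FixedChambers
-- import your own Cfsg.Agent.* helpers here

set_option autoImplicit false
open Cfsg

namespace Cfsg.Agent.S2369

/-- Let q = 2^(2m+1) with m ≥ 1 and let a, b be commuting elements of the large Ree group ²F₄(q) with a an involution. Then every prime divisor of the order of b divides q(q⁴ − 1). -/
theorem result {K : Type*} [Field K] [Fintype K] (m : ℕ) (hm : 1 ≤ m) (hK : Fintype.card K = 2 ^ (2 * m + 1))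
    (a b : ↥(Cfsg.Lie.twistedF4 K (2 ^ m))) (ha : orderOf a = 2) (hab : Commute a b) :
    (orderOf b).primeFactors ⊆ (2 ^ (2 * m + 1) * ((2 ^ (2 * m + 1)) ^ 4 - 1)).primeFactors := by
  classical
  obtain ⟨C⟩ := CfsgLib.Chev.TwF4.nonempty_ctx (K := K) (m := m) (by simpa using hK)
  haveI : Fact (Nat.Prime 2) := ⟨Nat.prime_two⟩
  set q := 2 ^ (2 * m + 1) with hq
  have hq2 : 2 ≤ q := le_trans (by norm_num) (Nat.pow_le_pow_right (by norm_num) (show 1 ≤ 2 * m + 1 by omega))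
  have hqe : Even q := (Nat.even_pow' (by omega)).2 even_two
  have hqo : Odd (q - 1) := Nat.Even.sub_odd (by omega) hqe odd_one
  set P := C.sys.bnPair with hP
  have hBcard : Nat.card ↥P.B = q ^ 12 * (q - 1) ^ 2 := by
    have h := C.sys.card_B
    rw [hP, CfsgLib.Chev.TwSys.card_bnPair_B, h, inf_comm (a := Lie.twistedF4 K (2 ^ m)), C.card_torus, ← hq,
      ← C.card_posU]
    congr 1
    rw [CfsgLib.Chev.DataF4.facts.posUnipotent_eq]
    refine Nat.card_congr (Equiv.setCongr (Set.ext fun g => ?_))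
    exact ⟨fun hg => ⟨hg.2, C.sys.posU_le hg⟩, fun hg => ⟨C.sys.le_fix hg.2, hg.1⟩⟩
  -- a fixed chamber
  have hfix : ∃ g, g⁻¹ * a * g ∈ P.B := by
    have hodd : ¬ 2 ∣ P.B.index := by
      intro hd
      have h := P.B.card_mul_index
      rw [hBcard, C.card_twisted, ← hq] at h
      have hd' : 2 ∣ (q - 1) * (q ^ 3 + 1) * (q ^ 4 - 1) * (q ^ 6 + 1) := by
        have e : (q - 1) * (q ^ 3 + 1) * (q ^ 4 - 1) * (q ^ 6 + 1) = (q - 1) ^ 2 * P.B.index := by
          have hq0 : 0 < q ^ 12 := pow_pos (by omega) _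
          refine Nat.eq_of_mul_eq_mul_left hq0 ?_
          linear_combination -h
        rw [e]
        exact hd.mul_left _
      have h4 : Odd (q ^ 4 - 1) :=
        Nat.Even.sub_odd (Nat.one_le_pow _ _ (by omega)) (hqe.pow_of_ne_zero (by norm_num)) odd_one
      have hodd' : Odd ((q - 1) * (q ^ 3 + 1) * (q ^ 4 - 1) * (q ^ 6 + 1)) :=
        ((hqo.mul (hqe.pow_of_ne_zero (by norm_num)).add_one).mul h4).mul
          (hqe.pow_of_ne_zero (by norm_num)).add_one
      exact hodd'.not_two_dvd_nat hd'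
    have hp : IsPGroup 2 ↥(Subgroup.zpowers a) := IsPGroup.of_card (n := 1) (by rw [Nat.card_zpowers, ha, pow_one])
    obtain ⟨c, hc⟩ := hp.nonempty_fixed_point_of_prime_not_dvd_card (↥(Lie.twistedF4 K (2 ^ m)) ⧸ P.B) hodd
    obtain ⟨g, rfl⟩ := QuotientGroup.mk_surjective c
    have h1 : ((a * g : ↥(Lie.twistedF4 K (2 ^ m))) : ↥(Lie.twistedF4 K (2 ^ m)) ⧸ P.B) = g :=
      hc ⟨a, Subgroup.mem_zpowers a⟩
    refine ⟨g, ?_⟩
    have h2 := QuotientGroup.eq.1 h1.symm
    rwa [← mul_assoc] at h2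
  obtain ⟨n₀, hn₀, hopp⟩ := CfsgLib.Chev.TwSys.exists_opposite C.sys
  obtain ⟨g, r, hr, hpar⟩ := CfsgLib.Chev.BN.exists_parabolic_of_commute (P := P)
    (s₀ := ⟨_, C.sys.nO_mem ⟨0, by decide⟩⟩) (t₀ := ⟨_, C.sys.nO_mem ⟨1, by decide⟩⟩) ⟨_, rfl⟩
    (by
      rintro _ ⟨o, rfl⟩
      rcases o with ⟨(_ | _ | k), hk⟩
      · exact Or.inl rfl
      · exact Or.inr rfl
      · exact absurd hk (by simp [CfsgLib.Chev.TwF4.spec]))
    hn₀ hfix
    (fun g h1 h2 => by
      have hd := hopp _ h1 h2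
      have hdvd := Subgroup.orderOf_dvd_natCard
        (Lie.chevF4.diagonalSubgroup K ⊓ Lie.twistedF4 K (2 ^ m)) ⟨hd, (g⁻¹ * a * g).2⟩
      have ho : orderOf (g⁻¹ * a * g) = 2 := by
        refine Eq.trans ?_ ha
        have := orderOf_injective (MulAut.conj g⁻¹).toMonoidHom (MulAut.conj g⁻¹).injective a
        simpa using this
      rw [C.card_torus, Subgroup.orderOf_coe, ho, ← hq] at hdvd
      exact hqo.not_two_dvd_nat (Nat.prime_two.dvd_of_dvd_pow hdvd))
  have hb : orderOf b ∣ Nat.card ↥(P.parabolic {r}) := by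
    have h1 : orderOf (g⁻¹ * b * g) = orderOf b :=
      orderOf_injective (MulAut.conj g⁻¹).toMonoidHom (MulAut.conj g⁻¹).injective b ▸ by simp
    rw [← h1]
    exact Subgroup.orderOf_dvd_natCard _ (hpar b hab.symm)
  obtain ⟨o, rfl⟩ := hr
  rw [CfsgLib.Chev.TwSys.card_parabolic_one, hBcard] at hb
  have hc : Nat.card ↥(C.sys.fixU (CfsgLib.Chev.TwF4.O o).wO) = q ∨
      Nat.card ↥(C.sys.fixU (CfsgLib.Chev.TwF4.O o).wO) = q ^ 2 := by
    have h := C.card_orbit o
    have hfl : CfsgLib.Chev.flipNum (CfsgLib.Chev.TwF4.O o).wO = if o.val < 1 then 2 else 4 := by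
      rw [CfsgLib.Chev.Orb.wO, CfsgLib.Chev.flipW_eq CfsgLib.Chev.DataF4.chk_arrays CfsgLib.Chev.DataF4.chk_chain
        CfsgLib.Chev.DataF4.facts]
      exact CfsgLib.Chev.TwF4.flips o
    rw [hfl, ← hq] at h
    split_ifs at h
    · exact Or.inl (Nat.pow_left_injective two_ne_zero h)
    · exact Or.inr (Nat.pow_left_injective two_ne_zero (by simp only []; rw [h]; ring))
  intro l hl
  rw [Nat.mem_primeFactors] at hl ⊢
  obtain ⟨hlp, hld, -⟩ := hl
  have h4 : q ^ 4 - 1 = (q - 1) * (q + 1) * (q ^ 2 + 1) := by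
    obtain ⟨k, hk⟩ : ∃ k, q = k + 1 := ⟨q - 1, by omega⟩
    rw [hk]
    refine Nat.sub_eq_of_eq_add ?_
    simp only [Nat.add_sub_cancel]
    ring
  refine ⟨hlp, ?_, Nat.mul_ne_zero (by omega) (by
    have := Nat.one_lt_pow (n := 4) (by norm_num) (show 1 < q by omega); omega)⟩
  rw [h4]
  rcases hlp.dvd_mul.1 (hld.trans hb) with h | h
  · rcases hlp.dvd_mul.1 h with h | h
    · exact (hlp.dvd_of_dvd_pow h).mul_right _
    · exact (((hlp.dvd_of_dvd_pow h).mul_right _).mul_right _).mul_left _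
  · rcases hc with e | e <;> rw [e, add_comm] at h
    · exact ((h.mul_left _).mul_right _).mul_left _
    · exact (h.mul_left _).mul_left _

end Cfsg.Agent.S2369
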