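import Cfsg.Statements.S2370
import Cfsg.Agent.Lib.KnownSimple.ChevHeight.Basic
import Cfsg.Agent.Lib.Chev.Twist.F4Main

set_option autoImplicit false
open Cfsg

namespace Cfsg.Agent.S2370

/-- Let q = 2^(2m+1) with m ≥ 1. Every element of 2-power order of the large Ree group ²F₄(q) has order at most 32. -/
theorem result {K : Type*} [Field K] [Fintype K] (m : ℕ) (hm : 1 ≤ m) (hK : Fintype.card K = 2 ^ (2 * m + 1))
    (x : ↥(Cfsg.Lie.twistedF4 K (2 ^ m))) (hx : ∃ j : ℕ, orderOf x = 2 ^ j) : orderOf x ≤ 32 := by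
  obtain ⟨j, hj⟩ := hx
  have hgrp : (x : GL Cfsg.Lie.chevF4.Idx K) ∈ Cfsg.Lie.chevF4.group K := by
    obtain ⟨C⟩ := CfsgLib.Chev.TwF4.nonempty_ctx (K := K) (m := m) hK
    exact C.sys.le_group x.2
  haveI : Fact (Nat.Prime 2) := ⟨Nat.prime_two⟩
  haveI : CharP K 2 := by
    have h := (CfsgLib.Chev.exists_frobPow (p := 2) Nat.prime_two (by omega) hK m).1
    exact CharTwo.of_one_ne_zero_of_two_eq_zero one_ne_zero (by exact_mod_cast h)
  have hH : ∀ r < Cfsg.Lie.chevF4.nroots,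
      |CfsgLib.ChevHeight.height Cfsg.Lie.chevF4 CfsgLib.Chev.DataF4.co r| ≤ ((15 : ℕ) : ℤ) := by
    decide +kernel
  have hpow : (x : GL Cfsg.Lie.chevF4.Idx K) ^ 2 ^ j = 1 := by
    have h := pow_orderOf_eq_one x
    rw [hj] at h
    exact congrArg Subtype.val h
  have h32 := CfsgLib.ChevHeight.pow_eq_one CfsgLib.Chev.DataF4.facts
    (CfsgLib.Chev.DataF4.facts.commF_of_short CfsgLib.Chev.DataF4.short) (p := 2) (k := 5) hH (by norm_num) hgrp hpow
  exact Nat.le_of_dvd (by norm_num) (orderOf_dvd_of_pow_eq_one (Subtype.ext h32))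

end Cfsg.Agent.S2370
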