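import Cfsg.Statements.S2376
import Cfsg.Agent.Lib.Chev.Twist.D4Torus.Main
-- import your own Cfsg.Agent.* helpers here

set_option autoImplicit false
open Cfsg

namespace Cfsg.Agent.S2376

/-- The group ³D₄(q) contains a cyclic subgroup of order (q³ − 1)(q + 1) which is its own centralizer. -/
theorem result {K : Type*} [Field K] [Fintype K] (q : ℕ) (hq : IsPrimePow q) (hK : Fintype.card K = q ^ 3) :
    ∃ H : Subgroup ↥(Cfsg.Lie.twistedD4 K q), IsCyclic ↥H ∧ Nat.card ↥H = (q ^ 3 - 1) * (q + 1) ∧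
      Subgroup.centralizer (H : Set ↥(Cfsg.Lie.twistedD4 K q)) = H := by
  obtain ⟨C⟩ := CfsgLib.Chev.TwD4.nonempty_ctx hq hK
  obtain ⟨h, ho, hc⟩ := CfsgLib.Chev.TwD4.Torus.exists_elem C
  refine ⟨Subgroup.zpowers h, inferInstance, by rw [Nat.card_zpowers, ho], le_antisymm ?_ ?_⟩
  · intro g hg
    exact hc g (hg h (Subgroup.mem_zpowers h)).symm
  · intro g hg x hx
    obtain ⟨i, rfl⟩ := hg
    obtain ⟨j, rfl⟩ := hx
    exact (zpow_mul_comm h j i)

end Cfsg.Agent.S2376
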