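import Cfsg.Statements.S2378
import Cfsg.Agent.Lib.Chev.LargePrime.Chev
import Cfsg.Agent.Lib.Chev.All
import Cfsg.Agent.Lib.Chev.Orders
-- import your own Cfsg.Agent.* helpers here

set_option autoImplicit false
open Cfsg CfsgLib.Chev CfsgLib.Chev.LargePrime Cfsg.Lie

namespace Cfsg.Agent.S2378

/-- Sylow subgroups for primes away from the characteristic and the Weyl group. Let `G` be the Chevalley group of type G₂, B₂, D₄, F₄, E₆, E₇ or E₈ over a field with `q` elements, with the degrees of its Weyl group listed beside the type (their product is the order of the Weyl group), and let `r` be a prime dividing the order of `G`, not dividing `q` and not dividing the order of the Weyl group. Let `d` be the multiplicative order of `q` modulo `r`, `a` the number of degrees divisible by `d`, and `m` the `r`-part of the value at `q` of the `d`-th cyclotomic polynomial. Then every Sylow `r`-subgroup of `G` is homocyclic: a direct product of `a` cyclic groups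 of order `m` (in particular abelian). -/
theorem result {F : Type*} [Field F] [Fintype F] {q : ℕ} (hq : Fintype.card F = q)
    (c : Cfsg.Lie.ChevalleyDatum × List ℕ)
    (hc : c ∈ [(Cfsg.Lie.chevG2, [2, 6]), (Cfsg.Lie.chevB2, [2, 4]), (Cfsg.Lie.chevD4, [2, 4, 4, 6]), (Cfsg.Lie.chevF4, [2, 6, 8, 12]),
      (Cfsg.Lie.chevE6, [2, 5, 6, 8, 9, 12]), (Cfsg.Lie.chevE7, [2, 6, 8, 10, 12, 14, 18]), (Cfsg.Lie.chevE8, [2, 8, 12, 14, 18, 20, 24, 30])])
    (r : ℕ) [Fact r.Prime] (hrq : ¬ r ∣ q) (hrW : ¬ r ∣ c.2.prod) (hrG : r ∣ Nat.card ↥(c.1.group F)) (P : Sylow r ↥(c.1.group F)) :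
    Nonempty (↥(P : Subgroup ↥(c.1.group F)) ≃*
      (Fin (c.2.filter (fun e => orderOf (q : ZMod r) ∣ e)).length →
        Multiplicative (ZMod (r ^ padicValNat r ((Polynomial.cyclotomic (orderOf (q : ZMod r)) ℤ).eval (q : ℤ)).natAbs)))) := by
  classical
  subst hq
  have hF2 : 2 ≤ Nat.card F := Finite.one_lt_card
  rw [← Nat.card_eq_fintype_card] at hrq ⊢
  rw [CfsgLib.Classical.GLLargePrime.padic_cyclotomic hF2 hrq]
  have hr : r.Prime := Fact.out
  have hdeg : ∀ L : List ℕ, ¬ r ∣ L.prod → ∀ e ∈ L, ¬ r ∣ e :=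
    fun L h e he hd => h (hd.trans (List.dvd_prod he))
  have hne : ∀ a : ℕ, a.Prime → a ∣ c.2.prod → r ≠ a := fun a _ ha e => hrW (e ▸ ha)
  have hg : ∀ a n : ℕ, a.Prime → r ≠ a → ¬ r ∣ Nat.gcd a n := fun a n ha hne hd =>
    hne ((Nat.prime_dvd_prime_iff_eq hr ha).1 (hd.trans (Nat.gcd_dvd_left _ _)))
  have h1 : ¬ r ∣ 1 := hr.not_dvd_one
  simp only [List.mem_cons, List.not_mem_nil, or_false] at hc
  rcases hc with rfl | rfl | rfl | rfl | rfl | rfl | rfl
  all_goals have h2 : r ≠ 2 := hne 2 Nat.prime_two (by norm_num [List.prod_cons])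
  · exact chev_sylow DataG2.facts good_G2.comm good_G2.{0}.comm rfl DataG2.weyl_poincare.1 h2 hrq
      (hdeg _ hrW) h1 card_diag_G2 (fun K _ _ => ⟨_, h1, card_diag_G2⟩) P
  · exact chev_sylow DataB2.facts good_B2.comm good_B2.{0}.comm rfl DataB2.weyl_poincare.1 h2 hrq
      (hdeg _ hrW) (hg 2 _ Nat.prime_two h2) card_diag_B2
      (fun K _ _ => ⟨_, hg 2 _ Nat.prime_two h2, card_diag_B2⟩) P
  · exact chev_sylow DataD4.facts good_D4.comm good_D4.{0}.comm rfl DataD4.weyl_poincare.1 h2 hrq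
      (hdeg _ hrW) (fun h => hg 2 _ Nat.prime_two h2 (hr.dvd_of_dvd_pow h)) card_diag_D4
      (fun K _ _ => ⟨_, fun h => hg 2 _ Nat.prime_two h2 (hr.dvd_of_dvd_pow h), card_diag_D4⟩) P
  · exact chev_sylow DataF4.facts good_F4.comm good_F4.{0}.comm rfl DataF4.weyl_poincare.1 h2 hrq
      (hdeg _ hrW) h1 card_diag_F4 (fun K _ _ => ⟨_, h1, card_diag_F4⟩) P
  · have h3 : r ≠ 3 := hne 3 Nat.prime_three (by norm_num [List.prod_cons])
    exact chev_sylow DataE6.facts good_E6.comm good_E6.{0}.comm rfl DataE6.weyl_poincare.1 h2 hrq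
      (hdeg _ hrW) (hg 3 _ Nat.prime_three h3) card_diag_E6
      (fun K _ _ => ⟨_, hg 3 _ Nat.prime_three h3, card_diag_E6⟩) P
  · exact chev_sylow DataE7.facts good_E7.comm good_E7.{0}.comm rfl DataE7.weyl_poincare.1 h2 hrq
      (hdeg _ hrW) (hg 2 _ Nat.prime_two h2) card_diag_E7
      (fun K _ _ => ⟨_, hg 2 _ Nat.prime_two h2, card_diag_E7⟩) P
  · exact chev_sylow DataE8.facts good_E8.comm good_E8.{0}.comm rfl DataE8.weyl_poincare.1 h2 hrq
      (hdeg _ hrW) h1 card_diag_E8 (fun K _ _ => ⟨_, h1, card_diag_E8⟩) P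

end Cfsg.Agent.S2378
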