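import Cfsg.Statements.S2383
import Cfsg.Agent.Lib.DefectZero.CurtisRichen.Count

set_option autoImplicit false
open Cfsg

namespace Cfsg.Agent.S2383

/-- Steinberg's count of semisimple classes in characteristic 2 for the types B₂, D₄, E₇, where the finite simply connected group has trivial centre and so coincides with the Chevalley group: for the Chevalley group of type B₂, D₄ or E₇ over a field with `q` elements of characteristic 2, the conjugacy classes of elements of odd order number exactly `q^l`, `l` the rank. -/
theorem result {F : Type*} [Field F] [Fintype F] {q : ℕ} (hq : Fintype.card F = q) [CharP F 2]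
    (D : Cfsg.Lie.ChevalleyDatum) (hD : D ∈ [Cfsg.Lie.chevB2, Cfsg.Lie.chevD4, Cfsg.Lie.chevE7]) :
    Nat.card {c : ConjClasses ↥(D.group F) // ∃ g : ↥(D.group F), ConjClasses.mk g = c ∧ Odd (orderOf g)} = q ^ D.rank := by
  have hq2 : (2 : ℕ).Coprime (Fintype.card F - 1) := by
    obtain ⟨n, -, hn⟩ := FiniteField.card F 2
    refine (Nat.prime_two.coprime_iff_not_dvd).2 fun h => ?_
    have h2 : 2 ∣ Fintype.card F := hn ▸ dvd_pow_self 2 n.pos.ne'
    have : 0 < Fintype.card F := Fintype.card_pos
    omega
  have hT : CfsgLib.DefectZero.TorusFree D F := by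
    simp only [List.mem_cons, List.not_mem_nil, or_false] at hD
    rcases hD with rfl | rfl | rfl
    · exact CfsgLib.DefectZero.torusFree_B2 hq2
    · exact CfsgLib.DefectZero.torusFree_D4 hq2
    · exact CfsgLib.DefectZero.torusFree_E7 hq2
  have hG : CfsgLib.Chev.Good D := CfsgLib.Chev.good_of_mem (by
    simp only [List.mem_cons, List.not_mem_nil, or_false] at hD ⊢
    tauto)
  simp only [← Nat.not_even_iff_odd, even_iff_two_dvd]
  rw [CfsgLib.DefectZero.card_classes_of_torusFree hG 2 hT, hq]

end Cfsg.Agent.S2383
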