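import Cfsg.Statements.S2391


set_option autoImplicit false
open Cfsg

namespace Cfsg.Agent.S2391

/-- A `p`-group acting linearly on a nonzero finite space of characteristic `p` fixes a nonzero
vector. -/
theorem exists_fixed {F : Type*} [Field F] [Fintype F] (p : ℕ) [Fact p.Prime] [CharP F p]
    {U Q : Type*} [Group U] [AddCommGroup Q] [Module F Q] [Module.Finite F Q]
    (hU : IsPGroup p U) (f : U →* Module.End F Q) (hQ : Nontrivial Q) :
    ∃ b : Q, b ≠ 0 ∧ ∀ u : U, f u b = b := by
  let g : U →* Function.End Q := { toFun := fun u => ⇑(f u), map_one' := by rw [map_one]; rfl, map_mul' := by intro a b; rw [map_mul]; rfl }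
  letI : MulAction U Q := MulAction.ofEndHom g
  haveI : Finite Q := Module.finite_of_finite F
  have hdvd : p ∣ Nat.card Q := by
    letI := Fintype.ofFinite Q
    rw [Nat.card_eq_fintype_card, Module.card_eq_pow_finrank (K := F)]
    obtain ⟨m, hmp, hm⟩ := FiniteField.card F p
    rw [hm, ← pow_mul]
    exact dvd_pow_self p (Nat.mul_ne_zero m.pos.ne' Module.finrank_pos.ne')
  have h0 : (0 : Q) ∈ MulAction.fixedPoints U Q := fun u => map_zero (f u)
  obtain ⟨b, hb, hb0⟩ := hU.exists_fixed_point_of_prime_dvd_card_of_fixed_point _ hdvd h0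
  exact ⟨b, hb0.symm, hb⟩

/-- The step of the flag: a proper invariant subspace has a vector outside it which is fixed modulo it. -/
theorem exists_step {F : Type*} [Field F] [Fintype F] (p : ℕ) [Fact p.Prime] [CharP F p] {n : ℕ}
    (U : Subgroup (Matrix.SpecialLinearGroup (Fin n) F)) (hU : IsPGroup p ↥U)
    (X : Submodule F (Fin n → F))
    (hX : ∀ u ∈ U, ∀ v ∈ X, (u : Matrix (Fin n) (Fin n) F).mulVec v ∈ X) (hne : X ≠ ⊤) :
    ∃ v, v ∉ X ∧ ∀ u ∈ U, (u : Matrix (Fin n) (Fin n) F).mulVec v - v ∈ X := by
  let f : U →* Module.End F ((Fin n → F) ⧸ X) :=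
    { toFun := fun u => X.mapQ X (Matrix.mulVecLin ((u : Matrix.SpecialLinearGroup (Fin n) F) : Matrix (Fin n) (Fin n) F))
        (fun v hv => hX u u.2 v hv)
      map_one' := by
        refine Submodule.linearMap_qext _ (LinearMap.ext fun v => ?_)
        show Submodule.Quotient.mk _ = Submodule.Quotient.mk v
        simp
      map_mul' := by
        intro a b
        refine Submodule.linearMap_qext _ (LinearMap.ext fun v => ?_)
        show Submodule.Quotient.mk _ = Submodule.Quotient.mk _
        simp [Matrix.mulVec_mulVec] }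
  have hnt : Nontrivial ((Fin n → F) ⧸ X) := Submodule.Quotient.nontrivial_iff.2 hne
  obtain ⟨b, hb0, hb⟩ := exists_fixed p hU f hnt
  obtain ⟨v, rfl⟩ := Submodule.mkQ_surjective X b
  refine ⟨v, fun hv => hb0 ((Submodule.Quotient.mk_eq_zero _).2 hv), fun u hu => ?_⟩
  exact (Submodule.Quotient.eq _).1 (hb ⟨u, hu⟩)

/-- The Borel–Tits property of `SL_n(q)` in flag form: for a field `F` of characteristic `p` with finitely many elements and a non-trivial `p`-subgroup `U` of `SL_n(F)`, there is a flag `0 = V₀ < V₁ < ⋯ < V_{k+1} = F^n` with at least one proper non-zero member such that every element of the normaliser of `U` maps each `V_i` onto itself and every element of `U` acts trivially on each quotient `V_{i+1}/V_i` (so the normaliser lies in the parabolic subgroup of the flag and `U` in its unipotent radical). -/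
theorem result {F : Type*} [Field F] [Fintype F] (p : ℕ) [Fact p.Prime] [CharP F p] (n : ℕ)
    (U : Subgroup (Matrix.SpecialLinearGroup (Fin n) F)) (hU : IsPGroup p ↥U) (hne : U ≠ ⊥) :
    ∃ (k : ℕ) (V : Fin (k + 2) → Submodule F (Fin n → F)), 1 ≤ k ∧ StrictMono V ∧ V 0 = ⊥ ∧ V (Fin.last (k + 1)) = ⊤ ∧
      (∀ g ∈ Subgroup.normalizer (U : Set (Matrix.SpecialLinearGroup (Fin n) F)), ∀ i, (V i).map (Matrix.mulVecLin (g : Matrix (Fin n) (Fin n) F)) = V i) ∧
      (∀ u ∈ U, ∀ i : Fin (k + 1), ∀ v ∈ V i.succ, (u : Matrix (Fin n) (Fin n) F).mulVec v - v ∈ V (Fin.castSucc i)) := by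
  classical
  let nxt : Submodule F (Fin n → F) → Submodule F (Fin n → F) := fun W =>
    { carrier := {v | ∀ u ∈ U, (u : Matrix (Fin n) (Fin n) F).mulVec v - v ∈ W}
      add_mem' := by
        intro a b ha hb u hu
        have h : (u : Matrix (Fin n) (Fin n) F).mulVec (a + b) - (a + b) =
            ((u : Matrix (Fin n) (Fin n) F).mulVec a - a) + ((u : Matrix (Fin n) (Fin n) F).mulVec b - b) := by
          rw [Matrix.mulVec_add]; abel
        rw [h]; exact W.add_mem (ha u hu) (hb u hu)
      zero_mem' := by intro u hu; simp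
      smul_mem' := by
        intro c a ha u hu
        rw [Matrix.mulVec_smul, ← smul_sub]; exact W.smul_mem c (ha u hu) }
  let W : ℕ → Submodule F (Fin n → F) := fun i => Nat.rec (motive := fun _ => Submodule F (Fin n → F)) ⊥ (fun _ X => nxt X) i
  have hW0 : W 0 = ⊥ := rfl
  have hWs : ∀ i v, v ∈ W (i + 1) ↔ ∀ u ∈ U, (u : Matrix (Fin n) (Fin n) F).mulVec v - v ∈ W i :=
    fun i v => Iff.rfl
  have hmono : ∀ i, W i ≤ W (i + 1) := by
    intro i
    induction i with
    | zero => rw [hW0]; exact bot_le
    | succ i ih =>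
      intro v hv
      exact (hWs (i + 1) v).2 fun u hu => ih ((hWs i v).1 hv u hu)
  have hinvU : ∀ i, ∀ u ∈ U, ∀ v ∈ W i, (u : Matrix (Fin n) (Fin n) F).mulVec v ∈ W i := by
    intro i u hu v hv
    cases i with
    | zero => rw [hW0, Submodule.mem_bot] at hv ⊢; rw [hv, Matrix.mulVec_zero]
    | succ i =>
      have h := (hWs i v).1 hv u hu
      have := (W (i + 1)).add_mem (hmono i h) hv
      simpa using this
  have hgrow : ∀ i, W i ≠ ⊤ → W i < W (i + 1) := by
    intro i hi
    refine lt_of_le_of_ne (hmono i) fun heq => ?_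
    obtain ⟨v, hv1, hv2⟩ := exists_step p U hU (W i) (hinvU i) hi
    exact hv1 (heq ▸ (hWs i v).2 hv2)
  have hex : ∃ i, W i = ⊤ := by
    by_contra hc
    push Not at hc
    have hs : StrictMono W := strictMono_nat_of_lt_succ fun i => hgrow i (hc i)
    haveI : Finite (Submodule F (Fin n → F)) :=
      Finite.of_injective (fun X => (X : Set (Fin n → F))) SetLike.coe_injective
    exact not_finite_iff_infinite.2 (Infinite.of_injective W hs.injective) inferInstance
  set m := Nat.find hex with hm
  have hmt : W m = ⊤ := Nat.find_spec hex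
  have hlt : ∀ i < m, W i ≠ ⊤ := fun i hi => Nat.find_min hex hi
  have hm2 : 2 ≤ m := by
    by_contra hc
    have h1 : W 1 = ⊤ := by
      rcases Nat.lt_or_ge m 1 with h | h
      · have : m = 0 := by omega
        rw [this] at hmt
        exact top_le_iff.1 (hmt ▸ hmono 0)
      · have : m = 1 := by omega
        rw [this] at hmt; exact hmt
    apply hne
    rw [eq_bot_iff]
    intro u hu
    rw [Subgroup.mem_bot]
    apply Subtype.ext
    apply Matrix.ext
    intro a b
    have hv : (Pi.single b 1 : Fin n → F) ∈ W 1 := by rw [h1]; trivial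
    have h := (hWs 0 _).1 hv u hu
    rw [hW0, Submodule.mem_bot, sub_eq_zero] at h
    have ha := congrFun h a
    rw [Matrix.mulVec_single_one] at ha
    simpa [Matrix.one_apply, Pi.single_apply] using ha
  have hsm : ∀ i j, i < j → j ≤ m → W i < W j := by
    intro i j hij hj
    induction j with
    | zero => omega
    | succ j ih =>
      have h1 := hgrow j (hlt j (by omega))
      rcases Nat.lt_or_ge i j with h | h
      · exact lt_trans (ih h (by omega)) h1
      · have : i = j := by omega
        subst this; exact h1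
  refine ⟨m - 1, fun i => W i.val, by omega, fun i j hij => hsm _ _ hij (by have := j.isLt; omega), hW0, ?_, ?_, ?_⟩
  · show W (m - 1 + 1) = ⊤
    rw [show m - 1 + 1 = m by omega]; exact hmt
  · intro g hg i
    show (W i.val).map _ = W i.val
    have hstep : ∀ (j : ℕ) (g : Matrix.SpecialLinearGroup (Fin n) F), g ∈ Subgroup.normalizer (U : Set (Matrix.SpecialLinearGroup (Fin n) F)) →
        ∀ v ∈ W j, (g : Matrix (Fin n) (Fin n) F).mulVec v ∈ W j := by
      intro j
      induction j with
      | zero => intro g _ v hv; rw [hW0, Submodule.mem_bot] at hv ⊢; rw [hv, Matrix.mulVec_zero]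
      | succ j ih =>
        intro g hg v hv
        refine (hWs j _).2 fun u hu => ?_
        replace hv := (hWs j v).1 hv
        have hgi : g⁻¹ ∈ Subgroup.normalizer (U : Set (Matrix.SpecialLinearGroup (Fin n) F)) := Subgroup.inv_mem _ hg
        have hu' : g⁻¹ * u * g ∈ U := by
          have := (Subgroup.mem_normalizer_iff.1 hgi u).1 hu
          simpa using this
        have h := ih g hg _ (hv _ hu')
        rw [Matrix.mulVec_sub, Matrix.mulVec_mulVec, ← Matrix.SpecialLinearGroup.coe_mul] at h
        rw [Matrix.mulVec_mulVec, ← Matrix.SpecialLinearGroup.coe_mul]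
        rw [show g * (g⁻¹ * u * g) = u * g by group] at h
        exact h
    apply le_antisymm
    · rintro _ ⟨v, hv, rfl⟩
      exact hstep i.val g hg v hv
    · intro v hv
      refine ⟨((g⁻¹ : Matrix.SpecialLinearGroup (Fin n) F) : Matrix (Fin n) (Fin n) F).mulVec v, hstep i.val g⁻¹ (Subgroup.inv_mem _ hg) v hv, ?_⟩
      rw [Matrix.mulVecLin_apply, Matrix.mulVec_mulVec, ← Matrix.SpecialLinearGroup.coe_mul, mul_inv_cancel]
      simp
  · intro u hu i v hv
    exact (hWs i.val v).1 hv u hu

end Cfsg.Agent.S2391
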