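import Cfsg.Statements.S2392
import Cfsg.Agent.Lib.MinDegree.Weights

set_option autoImplicit false
open scoped MatrixGroups
open Cfsg Matrix

namespace Cfsg.Agent.S2392

/-- A lower bound for representations in cross characteristic: for `n ≥ 3` and a field `F` with `q` elements, every homomorphism from `SL_n(F)` to `GL_d(K)`, `K` a field of characteristic different from that of `F`, whose kernel is central has `d ≥ q^(n-1) - 1`. -/
theorem result {F : Type*} [Field F] [Fintype F] {q : ℕ} (hq : Fintype.card F = q) (n : ℕ) (hn : 3 ≤ n)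
    {K : Type*} [Field K] (hK : ringChar K ≠ ringChar F) {d : ℕ}
    (ρ : Matrix.SpecialLinearGroup (Fin n) F →* GL (Fin d) K) (hker : ρ.ker ≤ Subgroup.center (Matrix.SpecialLinearGroup (Fin n) F)) :
    q ^ (n - 1) - 1 ≤ d := by
  classical
  obtain ⟨m, rfl⟩ : ∃ m, n = 1 + m := ⟨n - 1, by omega⟩
  have hm : 2 ≤ m := by omega
  set L := AlgebraicClosure K
  -- the embedding and the parabolic elements
  let e : Fin 1 ⊕ Fin m ≃ Fin (1 + m) := finSumFinEquiv
  let R : Matrix.SpecialLinearGroup (Fin 1 ⊕ Fin m) F →* Matrix.SpecialLinearGroup (Fin (1 + m)) F :=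
    { toFun := fun A => ⟨Matrix.reindexAlgEquiv F F e A.1, by rw [Matrix.det_reindexAlgEquiv, A.2]⟩
      map_one' := Subtype.ext (map_one _)
      map_mul' := fun A B => Subtype.ext (map_mul _ _ _) }
  let u : (Fin m → F) → Matrix.SpecialLinearGroup (Fin 1 ⊕ Fin m) F := fun a =>
    ⟨Matrix.fromBlocks 1 (Matrix.replicateRow (Fin 1) a) 0 1, by simp⟩
  let D : Matrix.SpecialLinearGroup (Fin m) F → Matrix.SpecialLinearGroup (Fin 1 ⊕ Fin m) F := fun g =>
    ⟨Matrix.fromBlocks 1 0 0 g.1, by simp [g.2]⟩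
  have humul : ∀ a b, u (a + b) = u a * u b := fun a b => Subtype.ext (by
    rw [Matrix.SpecialLinearGroup.coe_mul]; simp [u, Matrix.fromBlocks_multiply, Matrix.replicateRow_add, add_comm])
  have huD : ∀ a g, u a * D g = D g * u (a ᵥ* g.1) := fun a g => Subtype.ext (by
    rw [Matrix.SpecialLinearGroup.coe_mul, Matrix.SpecialLinearGroup.coe_mul]; simp [u, D, Matrix.fromBlocks_multiply, Matrix.replicateRow_vecMul])
  set f : GL (Fin d) K →* Module.End L (Fin d → L) :=
    (Matrix.toLinAlgEquiv' (R := L) (n := Fin d)).toMonoidHom.comp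
      ((Units.coeHom _).comp (Matrix.GeneralLinearGroup.map (algebraMap K L))) with hf
  have hinj : Function.Injective f := fun a b h => by
    refine Units.ext (Matrix.map_injective (algebraMap K L).injective ?_)
    simpa [hf] using h
  set τ : Matrix.SpecialLinearGroup (Fin 1 ⊕ Fin m) F →* Module.End L (Fin d → L) := f.comp (ρ.comp R)
  let π : Multiplicative (Fin m → F) →* Module.End L (Fin d → L) :=
    { toFun := fun a => τ (u a.toAdd)
      map_one' := by rw [← map_one τ]; exact congrArg τ (Subtype.ext (by simp [u]))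
      map_mul' := fun a b => by rw [← map_mul, ← humul]; rfl }
  obtain ⟨p, hp⟩ := CharP.exists F
  obtain ⟨k, hpp, hk⟩ := FiniteField.card F p
  have hpK : (p : K) ≠ 0 := fun h0 => by
    have hdvd := ringChar.dvd h0
    rcases (Nat.dvd_prime hpp).1 hdvd with h | h
    · exact CharP.ringChar_ne_one h
    · exact hK (h.trans (ringChar.eq F p).symm)
  have hFL : (Fintype.card F : L) ≠ 0 := by
    rw [hk, Nat.cast_pow, ← map_natCast (algebraMap K L)]
    exact pow_ne_zero _ ((map_ne_zero_iff _ (algebraMap K L).injective).2 hpK)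
  have hA : (Fintype.card (Fin m → F) : L) ≠ 0 := by
    rw [Fintype.card_fun, Nat.cast_pow]
    exact pow_ne_zero _ hFL
  set a₁ : Fin m → F := Pi.single ⟨0, by omega⟩ 1
  have hne : π (Multiplicative.ofAdd a₁) ≠ 1 := by
    intro h
    have hmem : R (u a₁) ∈ ρ.ker := by
      rw [MonoidHom.mem_ker]
      exact hinj (h.trans (map_one f).symm)
    let x : Matrix.SpecialLinearGroup (Fin 1 ⊕ Fin m) F :=
      ⟨Matrix.fromBlocks 1 0 (Matrix.replicateCol (Fin 1) a₁) 1, by simp⟩
    have hc := congrArg Subtype.val (Subgroup.mem_center_iff.1 (hker hmem) (R x))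
    simp only [← map_mul, R, MonoidHom.coe_mk, OneHom.coe_mk] at hc
    have hc' := (Matrix.reindexAlgEquiv F F e).injective hc
    rw [Matrix.SpecialLinearGroup.coe_mul, Matrix.SpecialLinearGroup.coe_mul] at hc'
    have h' := congrFun₂ hc' (Sum.inl 0) (Sum.inl 0)
    simp [u, x, a₁, Matrix.mul_apply, Fintype.sum_sum_type] at h'
    simp [Pi.single_apply] at h'
  obtain ⟨ψ, hψ⟩ := CfsgLib.MinDegree.exists_nontrivial_addChar (K := L) (F := F) hFL
  obtain ⟨χ, hχ, hW⟩ := CfsgLib.MinDegree.exists_weight π hA hne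
  have hsum : ∀ (η : AddChar (Fin m → F) L) (a : Fin m → F), η a = ∏ i, η (Pi.single i (a i)) := fun η a => by
    conv_lhs => rw [← Finset.univ_sum_single a]
    induction (Finset.univ : Finset (Fin m)) using Finset.induction with
    | empty => simp
    | insert i s hi ih => rw [Finset.sum_insert hi, Finset.prod_insert hi, AddChar.map_add_eq_mul, ih]
  choose b hb _ using fun i => CfsgLib.MinDegree.exists_shift hFL hψ (χ.compAddMonoidHom
    { toFun := fun c => (Pi.single i c : Fin m → F), map_zero' := Pi.single_zero i,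
      map_add' := fun c c' => Pi.single_add (f := fun _ => F) i c c' })
  have hχb : ∀ a, χ a = ψ (a ⬝ᵥ b) := fun a => by
    have hs : ∀ s : Finset (Fin m), ψ (∑ i ∈ s, a i * b i) = ∏ i ∈ s, ψ (a i * b i) := fun s => by
      induction s using Finset.induction with
      | empty => simp
      | insert i s hi ih => rw [Finset.sum_insert hi, Finset.prod_insert hi, AddChar.map_add_eq_mul, ih]
    rw [hsum, dotProduct, hs]
    exact Finset.prod_congr rfl fun i _ => hb i (a i)
  have hb0 : b ≠ 0 := fun h => hχ (by rw [hχb, h, dotProduct_zero, AddChar.map_zero_eq_one])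
  obtain ⟨i, hi⟩ := Function.ne_iff.1 hb0
  obtain ⟨j, hij⟩ : ∃ j, j ≠ i := Fintype.exists_ne_of_one_lt_card (by simp; omega) i
  let η : (Fin m → F) → AddChar (Fin m → F) L := fun b' =>
    ψ.compAddMonoidHom { toFun := fun a => a ⬝ᵥ b', map_zero' := zero_dotProduct _, map_add' := fun a a' => add_dotProduct a a' b' }
  have hocc : ∀ b' : Fin m → F, b' ≠ 0 → CfsgLib.MinDegree.weightSpace π (η b') ≠ ⊥ := by
    intro b' hb'
    obtain ⟨h₀, hh₀⟩ := CfsgLib.MinDegree.exists_gl_map_one hb0 hb'
    set t : F := (h₀ : Matrix (Fin m) (Fin m) F).det⁻¹ - 1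
    set φ : Fin m → F := Pi.single j 1 - Pi.single i (b j / b i)
    have hi' : b i ≠ 0 := hi
    have hφb : φ ⬝ᵥ b = 0 := by simp [φ, sub_dotProduct, div_mul_cancel₀ _ hi']
    have hφv : φ ⬝ᵥ (Pi.single j t) = t := by simp [φ, sub_dotProduct, hij.symm]
    set k₀ : Matrix (Fin m) (Fin m) F :=
      1 + Matrix.replicateCol Unit (Pi.single j t) * Matrix.replicateRow Unit φ
    have hdet0 : (h₀ : Matrix (Fin m) (Fin m) F).det ≠ 0 :=
      IsUnit.ne_zero ((Matrix.isUnit_iff_isUnit_det _).1 h₀.isUnit)
    set g : Matrix.SpecialLinearGroup (Fin m) F := ⟨(h₀ : Matrix (Fin m) (Fin m) F) * k₀, by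
      rw [Matrix.det_mul, Matrix.det_one_add_replicateCol_mul_replicateRow, hφv, add_sub_cancel,
        mul_inv_cancel₀ hdet0]⟩
    have hg : g.1 *ᵥ b = b' := by
      change ((h₀ : Matrix (Fin m) (Fin m) F) * k₀) *ᵥ b = b'
      rw [← Matrix.mulVec_mulVec, Matrix.add_mulVec, Matrix.one_mulVec, ← Matrix.vecMulVec_eq,
        Matrix.vecMulVec_mulVec, hφb]
      simp [hh₀]
    let α : (Fin m → F) →+ (Fin m → F) :=
      { toFun := fun a => a ᵥ* g.1, map_zero' := Matrix.zero_vecMul _, map_add' := fun a a' => Matrix.add_vecMul _ _ _ }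
    have hη : χ.compAddMonoidHom α = η b' := DFunLike.ext _ _ fun a => by
      simp only [AddChar.compAddMonoidHom_apply, η, α, AddMonoidHom.coe_mk, ZeroHom.coe_mk, hχb]
      rw [← Matrix.dotProduct_mulVec, hg]
    rw [← hη]
    refine CfsgLib.MinDegree.weightSpace_moved π α (τ (D g)) ?_ (fun a v => ?_) hW
    · exact Function.LeftInverse.injective (g := τ (D g)⁻¹) fun v => by
        rw [← Module.End.mul_apply, ← map_mul, inv_mul_cancel, map_one, Module.End.one_apply]
    · change τ (u a) (τ (D g) v) = τ (D g) (τ (u (a ᵥ* g.1)) v)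
      rw [← Module.End.mul_apply, ← Module.End.mul_apply, ← map_mul, ← map_mul, huD]
  have hηinj : Function.Injective η := fun b₁ b₂ h => funext fun l => by
    refine (AddChar.to_mulShift_inj_of_isPrimitive (AddChar.IsPrimitive.of_ne_one hψ)) (DFunLike.ext _ _ fun c => ?_)
    have := DFunLike.congr_fun h (Pi.single l c)
    simpa [η, AddChar.mulShift_apply, mul_comm] using this
  have hcard := CfsgLib.MinDegree.card_le_finrank π hA
    (((Finset.univ : Finset (Fin m → F)).erase 0).image η) (fun χ' h => by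
      obtain ⟨b', hb', rfl⟩ := Finset.mem_image.1 h
      exact hocc b' (Finset.mem_erase.1 hb').1)
  rw [Finset.card_image_of_injective _ hηinj, Finset.card_erase_of_mem (Finset.mem_univ _), Finset.card_univ,
    Fintype.card_fun, Fintype.card_fin, Module.finrank_fin_fun, hq] at hcard
  simpa using hcard

end Cfsg.Agent.S2392
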