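import Cfsg.Statements.S2393
import Cfsg.Agent.Lib.MinDegree.Sp

set_option autoImplicit false
open scoped MatrixGroups
open Cfsg

namespace Cfsg.Agent.S2393

/-- A lower bound for representations in cross characteristic: for `n ≥ 2` and a field `F` with `q` elements, `q` odd, every homomorphism from the symplectic group `Sp_{2n}(F)` to `GL_d(K)`, `K` a field of characteristic different from that of `F`, whose kernel is central has `d ≥ q^(n-1)(q-1)/2`. -/
theorem result {F : Type*} [Field F] [Fintype F] {q : ℕ} (hq : Fintype.card F = q) (hodd : Odd q) (n : ℕ) (hn : 2 ≤ n)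
    {K : Type*} [Field K] (hK : ringChar K ≠ ringChar F) {d : ℕ}
    (ρ : ↥(Matrix.symplecticGroup (Fin n) F) →* GL (Fin d) K) (hker : ρ.ker ≤ Subgroup.center ↥(Matrix.symplecticGroup (Fin n) F)) :
    q ^ (n - 1) * (q - 1) / 2 ≤ d := by
  classical
  set L := AlgebraicClosure K
  set f : GL (Fin d) K →* Module.End L (Fin d → L) :=
    (Matrix.toLinAlgEquiv' (R := L) (n := Fin d)).toMonoidHom.comp
      ((Units.coeHom _).comp (Matrix.GeneralLinearGroup.map (algebraMap K L))) with hf
  have hinj : Function.Injective f := fun a b h => by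
    refine Units.ext (Matrix.map_injective (algebraMap K L).injective ?_)
    simpa [hf] using h
  have hne : f.comp ρ ≠ 1 := by
    refine CfsgLib.MinDegree.ne_one_of_ker_le_center _ (by omega) fun g hg => hker ?_
    rw [MonoidHom.mem_ker] at hg ⊢
    exact hinj (by rw [map_one]; exact hg)
  obtain ⟨p, hp⟩ := CharP.exists F
  obtain ⟨k, hpp, hk⟩ := FiniteField.card F p
  have hpK : (p : K) ≠ 0 := fun h0 => by
    have hdvd := ringChar.dvd h0
    rcases (Nat.dvd_prime hpp).1 hdvd with h | h
    · exact CharP.ringChar_ne_one h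
    · exact hK (h.trans (ringChar.eq F p).symm)
  have hFL : (Fintype.card F : L) ≠ 0 := by
    rw [hk, Nat.cast_pow, ← map_natCast (algebraMap K L)]
    exact pow_ne_zero _ ((map_ne_zero_iff _ (algebraMap K L).injective).2 hpK)
  have h2 : (2 : F) ≠ 0 := Ring.two_ne_zero (fun e => by have := FiniteField.even_card_iff_char_two.1 e; have := Nat.odd_iff.1 (hq ▸ hodd : Odd (Fintype.card F)); omega)
  have hb := CfsgLib.MinDegree.sp_bound_odd (f.comp ρ) hFL h2 (by omega) hne
  rw [Module.finrank_fin_fun, hq] at hb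
  have hpos : 1 ≤ q ^ (n - 1) := Nat.one_le_pow _ _ (hq ▸ Fintype.card_pos)
  have e : q ^ n = q ^ (n - 1) * q := by rw [← pow_succ, Nat.sub_add_cancel (by omega : 1 ≤ n)]
  rw [Nat.mul_sub, mul_one, ← e]
  omega

end Cfsg.Agent.S2393
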