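import Cfsg.Statements.S2401
import Cfsg.Agent.Lib.SLSteinberg.Inject
import Cfsg.Agent.Lib.Classical.SLBasic

set_option autoImplicit false
open Cfsg

namespace Cfsg.Agent.S2401

/-- The Steinberg presentation of `SL_n` over a finite field for `n ≥ 3`: the group generated by symbols `x_ij(t)` (`i ≠ j`, `t` in the field) subject to `x_ij(t) x_ij(u) = x_ij(t + u)` and, for `i ≠ l`, `x_ij(t) x_kl(u) x_ij(t)⁻¹ x_kl(u)⁻¹ = x_il(tu)` if `j = k` and `= 1` if `j ≠ k`, is isomorphic to `SL_n` by an isomorphism sending `x_ij(t)` to the elementary matrix `1 + t E_ij`. -/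
theorem result {K : Type*} [Field K] [Finite K] (n : ℕ) (hn : 3 ≤ n) :
    ∃ e : PresentedGroup
        ({g : FreeGroup ({ij : Fin n × Fin n // ij.1 ≠ ij.2} × K) | ∃ (a : {ij : Fin n × Fin n // ij.1 ≠ ij.2}) (t u : K),
            g = FreeGroup.of (a, t) * FreeGroup.of (a, u) * (FreeGroup.of (a, t + u))⁻¹} ∪
          {g | ∃ (a b : {ij : Fin n × Fin n // ij.1 ≠ ij.2}) (t u : K), a.1.1 ≠ b.1.2 ∧ a.1.2 ≠ b.1.1 ∧
            g = FreeGroup.of (a, t) * FreeGroup.of (b, u) * (FreeGroup.of (a, t))⁻¹ * (FreeGroup.of (b, u))⁻¹} ∪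
          {g | ∃ (a b : {ij : Fin n × Fin n // ij.1 ≠ ij.2}) (h : a.1.1 ≠ b.1.2) (t u : K), a.1.2 = b.1.1 ∧
            g = FreeGroup.of (a, t) * FreeGroup.of (b, u) * (FreeGroup.of (a, t))⁻¹ * (FreeGroup.of (b, u))⁻¹ *
              (FreeGroup.of (⟨(a.1.1, b.1.2), h⟩, t * u))⁻¹}) ≃* Matrix.SpecialLinearGroup (Fin n) K,
      ∀ (a : {ij : Fin n × Fin n // ij.1 ≠ ij.2}) (t : K), ((e (PresentedGroup.of (a, t)) : Matrix (Fin n) (Fin n) K)) = Matrix.transvection a.1.1 a.1.2 t := by
  classical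
  set R : Set (FreeGroup ({ij : Fin n × Fin n // ij.1 ≠ ij.2} × K)) := _ ∪ _ ∪ _ with hR
  let f : {ij : Fin n × Fin n // ij.1 ≠ ij.2} × K → Matrix.SpecialLinearGroup (Fin n) K :=
    fun p => Matrix.SpecialLinearGroup.transvection p.1.2 p.2
  have hrel : ∀ r ∈ R, FreeGroup.lift f r = 1 := by
    rintro r ((⟨⟨⟨i, j⟩, hij⟩, t, u, rfl⟩ | ⟨⟨⟨i, j⟩, hij⟩, ⟨⟨k, l⟩, hkl⟩, t, u, hil, hjk, rfl⟩) |
        ⟨⟨⟨i, j⟩, hij⟩, ⟨⟨k, l⟩, hkl⟩, h, t, u, hjk, rfl⟩)
    · simp only [map_mul, map_inv, FreeGroup.lift_apply_of, f]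
      rw [mul_inv_eq_one]
      refine Subtype.ext ?_
      show Matrix.transvection i j t * Matrix.transvection i j u = Matrix.transvection i j (t + u)
      exact Matrix.transvection_mul_transvection_same i j hij t u
    · simp only [map_mul, map_inv, FreeGroup.lift_apply_of, f]
      rw [mul_inv_eq_one, mul_inv_eq_iff_eq_mul]
      refine Subtype.ext ?_
      simp only at hil hjk
      show Matrix.transvection i j t * Matrix.transvection k l u
        = Matrix.transvection k l u * Matrix.transvection i j t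
      simp only [Matrix.transvection, add_mul, mul_add, one_mul, mul_one,
        Matrix.single_mul_single_of_ne _ _ _ _ hjk, Matrix.single_mul_single_of_ne _ _ _ _ hil.symm]
      abel
    · simp only at h hjk
      subst hjk
      simp only [map_mul, map_inv, FreeGroup.lift_apply_of, f]
      rw [mul_inv_eq_one, mul_inv_eq_iff_eq_mul, mul_inv_eq_iff_eq_mul]
      refine Subtype.ext ?_
      show Matrix.transvection i j t * Matrix.transvection j l u
        = Matrix.transvection i l (t * u) * Matrix.transvection j l u * Matrix.transvection i j t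
      simp only [Matrix.transvection, add_mul, mul_add, one_mul, mul_one,
        Matrix.single_mul_single_same, Matrix.single_mul_single_of_ne _ _ _ _ (Ne.symm hkl),
        Matrix.single_mul_single_of_ne _ _ _ _ (Ne.symm h), zero_mul]
      abel
  let φ : PresentedGroup R →* Matrix.SpecialLinearGroup (Fin n) K := PresentedGroup.toGroup hrel
  let x : Fin n → Fin n → K → PresentedGroup R := fun i j t =>
    if h : i ≠ j then PresentedGroup.of (⟨(i, j), h⟩, t) else 1
  have hx : ∀ i j t (h : i ≠ j), x i j t = PresentedGroup.of (⟨(i, j), h⟩, t) := fun i j t h =>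
    dif_pos h
  have S0 : CfsgLib.SLSteinberg.StComm x :=
    { add := fun i j t u hij => by
        have h := PresentedGroup.one_of_mem (rels := R)
          (Or.inl (Or.inl ⟨⟨(i, j), hij⟩, t, u, rfl⟩))
        simp only [map_mul, map_inv] at h
        rw [hx _ _ _ hij, hx _ _ _ hij, hx _ _ _ hij]
        exact (mul_inv_eq_one.1 h).symm
      comm0 := fun i j k l hij hkl hil hjk t u => by
        have h := PresentedGroup.one_of_mem (rels := R)
          (Or.inl (Or.inr ⟨⟨(i, j), hij⟩, ⟨(k, l), hkl⟩, t, u, hil, hjk, rfl⟩))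
        simp only [map_mul, map_inv] at h
        rw [hx _ _ _ hij, hx _ _ _ hkl]
        exact mul_inv_eq_iff_eq_mul.1 (mul_inv_eq_one.1 h)
      comm1 := fun i j k hij hjk hik t u => by
        have h := PresentedGroup.one_of_mem (rels := R)
          (Or.inr ⟨⟨(i, j), hij⟩, ⟨(j, k), hjk⟩, hik, t, u, rfl, rfl⟩)
        simp only [map_mul, map_inv] at h
        rw [hx _ _ _ hij, hx _ _ _ hjk, hx _ _ _ hik]
        exact mul_inv_eq_iff_eq_mul.1 (mul_inv_eq_one.1 h) }
  have S := S0.toRel fun a b => by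
    have h1 : (({a, b} : Finset (Fin n))ᶜ).Nonempty := by
      rw [← Finset.card_pos, Finset.card_compl, Fintype.card_fin]
      have := Finset.card_le_two (a := a) (b := b)
      omega
    obtain ⟨c, hc⟩ := h1
    simp only [Finset.mem_compl, Finset.mem_insert, Finset.mem_singleton, not_or] at hc
    exact ⟨c, hc⟩
  have hφ : ∀ i j t, i ≠ j → ((φ (x i j t) : Matrix.SpecialLinearGroup (Fin n) K) :
      Matrix (Fin n) (Fin n) K) = Matrix.transvection i j t := by
    intro i j t hij
    rw [hx i j t hij, show φ (PresentedGroup.of (⟨(i, j), hij⟩, t)) = f (⟨(i, j), hij⟩, t) from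
      PresentedGroup.toGroup.of hrel]
    rfl
  have hgen : Subgroup.closure {g | ∃ i j, i ≠ j ∧ ∃ t, g = x i j t} = ⊤ := by
    rw [eq_top_iff, ← PresentedGroup.closure_range_of, Subgroup.closure_le]
    rintro _ ⟨⟨⟨⟨i, j⟩, hij⟩, t⟩, rfl⟩
    exact Subgroup.subset_closure ⟨i, j, hij, t, (hx i j t hij).symm⟩
  have hbij : Function.Bijective φ := by
    refine ⟨CfsgLib.SLSteinberg.exists_hom x S φ hφ hgen, ?_⟩
    rw [← MonoidHom.range_eq_top]
    exact CfsgLib.Classical.SL_le_of_transvections _ fun i j hij c =>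
      ⟨PresentedGroup.of (⟨(i, j), hij⟩, c), PresentedGroup.toGroup.of hrel⟩
  refine ⟨MulEquiv.ofBijective φ hbij, fun a t => ?_⟩
  rw [MulEquiv.ofBijective_apply, show φ (PresentedGroup.of (a, t)) = f (a, t) from
    PresentedGroup.toGroup.of hrel]
  rfl

end Cfsg.Agent.S2401
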