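import Cfsg.Statements.S2410
import Cfsg.Agent.Lib.Recognition.Suzuki.Borel
-- import your own Cfsg.Agent.* helpers here

set_option autoImplicit false
open Cfsg

namespace Cfsg.Agent.S2410

open CfsgLib.SuzukiLaws CfsgLib.Suzuki CfsgLib.Recognition.SzBorel in
/-- The Suzuki group over the field with `2^(2m+1)` elements, `m ≥ 1` (realised as the stabiliser in `SL₄` of the Suzuki–Tits ovoid), is generated by two of its elements. -/
theorem result {F : Type*} [Field F] [Fintype F] {m : ℕ} (hm : 1 ≤ m) (hF : Fintype.card F = 2 ^ (2 * m + 1)) :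
    ∃ a b : ↥(Cfsg.Sz F m), Subgroup.closure ({a, b} : Set ↥(Cfsg.Sz F m)) = ⊤ := by
  haveI : CharP F 2 := charTwo hF
  obtain ⟨s₀, hs₀⟩ := IsCyclic.exists_generator (α := Fˣ)
  set e := equiv hF hm with he
  suffices h : Subgroup.closure ({T hF s₀, U hF 1 0 * W hF} : Set ↥(Cfsg.Lie.Sz F (2 ^ (m + 1)))) = ⊤ by
    refine ⟨e (T hF s₀), e (U hF 1 0 * W hF), ?_⟩
    have h2 := congrArg (Subgroup.map e.toMonoidHom) h
    rwa [MonoidHom.map_closure, Set.image_pair, Subgroup.map_top_of_surjective e.toMonoidHom e.surjective] at h2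
  set H := Subgroup.closure ({T hF s₀, U hF 1 0 * W hF} : Set ↥(Cfsg.Lie.Sz F (2 ^ (m + 1)))) with hH
  have hT : ∀ s, T hF s ∈ H := by
    intro s
    obtain ⟨k, rfl⟩ := Subgroup.mem_zpowers_iff.1 (hs₀ s)
    let φ : Fˣ →* ↥(Cfsg.Lie.Sz F (2 ^ (m + 1))) := MonoidHom.mk' (T hF) fun a b => (T_mul hF a b).symm
    show φ (s₀ ^ k) ∈ H
    rw [map_zpow]
    exact zpow_mem (Subgroup.subset_closure (by simp [φ])) k
  have hb : U hF 1 0 * W hF ∈ H := Subgroup.subset_closure (by simp)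
  have hconj : ∀ s, U hF 1 0 * T hF s * (U hF 1 0)⁻¹ ∈ H := fun s => by
    have h1 := mul_mem (mul_mem hb (hT s⁻¹)) (inv_mem hb)
    have h2 : W hF * T hF s⁻¹ * (W hF)⁻¹ = T hF s := by
      rw [inv_eq_of_mul_eq_one_right (W_mul_W hF), W_mul_T, inv_inv]
    rw [show U hF 1 0 * W hF * T hF s⁻¹ * (U hF 1 0 * W hF)⁻¹ =
      U hF 1 0 * (W hF * T hF s⁻¹ * (W hF)⁻¹) * (U hF 1 0)⁻¹ by group, h2] at h1
    exact h1
  obtain ⟨s, hs⟩ := exists_sigma_ne hF hm
  set l := (s : F) ^ 2 ^ (m + 1) with hl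
  have hl1 : l ≠ 1 := fun e1 => hs (by
    have h2 := sigma_sq hF (s : F)
    rw [← hl, e1, one_pow] at h2
    rw [pow_add, ← hl, e1, ← h2, one_mul])
  -- a unipotent element of the subgroup outside the centre
  obtain ⟨x, y, hx, hxy⟩ : ∃ x y, x ≠ 0 ∧ U hF x y ∈ H := by
    have h1 := mul_mem (hT s) (hconj s⁻¹)
    rw [← mul_assoc, ← mul_assoc, T_mul_U, mul_assoc _ (T hF s), T_mul, mul_inv_cancel, T_one, mul_one,
      U_inv, U_mul] at h1
    refine ⟨_, _, ?_, h1⟩
    rw [← hl, mul_one]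
    intro h
    exact hl1 ((CharTwo.add_eq_zero.1 h))
  have hA : ∀ a : F, ∃ z, U hF a z ∈ H := by
    intro a
    rcases eq_or_ne a 0 with rfl | ha
    · exact ⟨0, by rw [U_zero]; exact one_mem H⟩
    have hsurj : Function.Surjective fun t : Fˣ => t ^ 2 ^ (m + 1) :=
      Finite.injective_iff_surjective.1 fun u v huv => by
        have h' := congrArg Units.val huv
        simp only [Units.val_pow_eq_pow_val] at h'
        exact Units.ext (iterateFrobenius_inj F 2 (m + 1) (by simpa [iterateFrobenius_def] using h'))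
    obtain ⟨t, ht⟩ := hsurj (Units.mk0 (a / x) (div_ne_zero ha hx))
    have ht' : (t : F) ^ 2 ^ (m + 1) * x = a := by
      have := congrArg Units.val ht
      simp only [Units.val_pow_eq_pow_val, Units.val_mk0] at this
      rw [this, div_mul_cancel₀ _ hx]
    have h2 := mul_mem (mul_mem (hT t) hxy) (inv_mem (hT t))
    rw [T_mul_U, mul_inv_cancel_right, ht'] at h2
    exact ⟨_, h2⟩
  have hU : ∀ a b, U hF a b ∈ H := by
    intro a b
    obtain ⟨z, hz⟩ := hA a
    obtain ⟨c, hc⟩ := exists_sigma_root hF (b + z)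
    obtain ⟨w, hw⟩ := hA c
    have h2 := mul_mem hz (mul_mem hw hw)
    rw [sq_U, U_mul, hc, zero_pow (by positivity), mul_zero, add_zero, add_zero, add_comm b z,
      ← add_assoc, CharTwo.add_self_eq_zero, zero_add] at h2
    exact h2
  have hW : W hF ∈ H := by
    have := mul_mem (inv_mem (hU 1 0)) hb
    rwa [inv_mul_cancel_left] at this
  have hle : borel hF ≤ H := fun g hg => by
    obtain ⟨t, a, b, rfl⟩ := (stab_inf hF g).1 hg
    exact mul_mem (hT t) (hU a b)
  by_contra hne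
  have : H = borel hF := ((isCoatom_borel hF hm).le_iff.1 hle).resolve_left hne
  rw [this, mem_borel, W_smul_inf] at hW
  exact inf_ne_zero hW.symm

end Cfsg.Agent.S2410
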