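import Cfsg.Statements.S2423
import Cfsg.Agent.Lib.GLUnipotent.Inner

set_option autoImplicit false
open scoped MatrixGroups
open Cfsg

namespace Cfsg.Agent.S2423

/-- The comparison of `GL_n(q)` with the symmetric group on flags: for partitions `ν`, `μ` of `n` (each with `n` non-decreasing parts, zeros allowed), the inner product of the permutation characters of `GL_n(q)` on partial flags of types `ν` and `μ` equals the inner product of the permutation characters of `Sym(n)` on the cosets of the Young subgroups of types `ν` and `μ` (both count the orbits on pairs). -/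
theorem result {F : Type*} [Field F] [Fintype F] [DecidableEq F] {n : ℕ} (ν μ : Fin n → ℕ) (hν : Monotone ν) (hνs : ∑ i, ν i = n)
    (hμ : Monotone μ) (hμs : ∑ i, μ i = n) :
    (Nat.card (GL (Fin n) F) : ℂ)⁻¹ * ∑ g : GL (Fin n) F,
        Cfsg.fixedPointCharacter (Cfsg.parabolicGL n F ν) g * Cfsg.fixedPointCharacter (Cfsg.parabolicGL n F μ) g =
      (Nat.card (Equiv.Perm (Fin n)) : ℂ)⁻¹ * ∑ σ : Equiv.Perm (Fin n),
        Cfsg.fixedPointCharacter (Cfsg.youngSubgroup ν) σ * Cfsg.fixedPointCharacter (Cfsg.youngSubgroup μ) σ := by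
  classical
  have hreal : ∀ {G : Type _} [Group G] [Fintype G] (P Q : Subgroup G),
      (Nat.card G : ℂ)⁻¹ * ∑ g : G, Cfsg.fixedPointCharacter P g * Cfsg.fixedPointCharacter Q g
        = Cfsg.classInner (Cfsg.fixedPointCharacter P) (Cfsg.fixedPointCharacter Q) := by
    intro G _ _ P Q
    rw [Cfsg.classInner]
    congr 1
    refine Finset.sum_congr rfl fun g _ => ?_
    simp [Cfsg.fixedPointCharacter]
  have key : Cfsg.classInner (Cfsg.fixedPointCharacter (Cfsg.parabolicGL n F ν))
      (Cfsg.fixedPointCharacter (Cfsg.parabolicGL n F μ))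
      = (Nat.card (CfsgLib.GLUnipotent.Margins ν μ) : ℂ) := by
    rw [CfsgLib.GLUnipotent.inner_fixedPoint, CfsgLib.GLUnipotent.card_orbits_gl F hνs hμs]
  have key' : Cfsg.classInner (Cfsg.fixedPointCharacter (Cfsg.youngSubgroup ν))
      (Cfsg.fixedPointCharacter (Cfsg.youngSubgroup μ))
      = (Nat.card (CfsgLib.GLUnipotent.Margins ν μ) : ℂ) := by
    rw [CfsgLib.GLUnipotent.inner_fixedPoint, CfsgLib.GLUnipotent.card_orbits_sym hνs hμs]
  rw [hreal, key, ← key', Cfsg.classInner]
  congr 1
  refine Finset.sum_congr rfl fun σ _ => ?_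
  simp [Cfsg.fixedPointCharacter]

end Cfsg.Agent.S2423
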