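import Cfsg.Statements.S2427


set_option autoImplicit false
open Cfsg

namespace Cfsg.Agent.S2427

local notation "G₂₃" => Matrix.SpecialLinearGroup (Fin 2) (ZMod 3)

theorem e_mul : ∀ g h : G₂₃, g ^ 4 = 1 → h ^ 4 = 1 → (g * h) ^ 4 = 1 := by decide +kernel

theorem e_comm : ∀ g h : G₂₃, (g * h * g⁻¹ * h⁻¹) ^ 4 = 1 := by decide +kernel

theorem e_is_comm : ∀ q : G₂₃, q ^ 4 = 1 → ∃ g h : G₂₃, g * h * g⁻¹ * h⁻¹ = q := by decide +kernel

theorem e_card : Fintype.card G₂₃ = 24 := by decide +kernel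

theorem e_four : Fintype.card {g : G₂₃ // g ^ 4 = 1} = 8 := by decide +kernel

theorem e_center : ∀ g : G₂₃, (∀ h : G₂₃, h * g = g * h) ↔ g ^ 2 = 1 := by decide +kernel

theorem e_two : Fintype.card {g : G₂₃ // g ^ 2 = 1} = 2 := by decide +kernel

theorem e_conj : ∀ g : G₂₃, g ^ 4 = 1 ∧ g ^ 2 ≠ 1 → ∀ q : G₂₃, q ^ 4 = 1 ∧ q ^ 2 ≠ 1 → ∃ a : G₂₃, a * g * a⁻¹ = q := by
  decide +kernel

theorem e_sq : ∀ q : G₂₃, q ^ 4 = 1 → q ^ 2 = 1 → ∀ g : G₂₃, g ^ 4 = 1 → g ^ 2 ≠ 1 → q = 1 ∨ q = g ^ 2 := by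
  decide +kernel

theorem e_out : ∀ g : G₂₃, g ^ 4 ≠ 1 → ∃ h : G₂₃, (h * g * h⁻¹ * g⁻¹) ^ 2 ≠ 1 := by decide +kernel

/-- `i`. -/
def qX : G₂₃ := ⟨!![0, 2; 1, 0], by decide⟩

/-- `j`. -/
def qY : G₂₃ := ⟨!![1, 1; 1, 2], by decide⟩

/-- Images of the generators of the quaternion group. -/
def qFun : QuaternionGroup 2 → G₂₃
  | QuaternionGroup.a i => qX ^ i.val
  | QuaternionGroup.xa i => qY * qX ^ i.val

theorem qFun_mul : ∀ s t : QuaternionGroup 2, qFun (s * t) = qFun s * qFun t := by decide +kernel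

theorem qFun_mem : ∀ s : QuaternionGroup 2, qFun s ^ 4 = 1 := by decide +kernel

theorem qFun_inj : ∀ s t : QuaternionGroup 2, qFun s = qFun t → s = t := by decide +kernel

theorem qFun_surj : ∀ g : G₂₃, g ^ 4 = 1 → ∃ s, qFun s = g := by decide +kernel

/-- The group SL₂ over the field with 3 elements has order 24 and centre of order 2; its commutator subgroup has order 8, is isomorphic to the quaternion group of order 8 and is complemented by every Sylow 3-subgroup (so the group is a semidirect product of a quaternion group of order 8 by a cyclic group of order 3); and its only normal subgroups besides the trivial subgroup and the whole group are the centre and the commutator subgroup. -/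
theorem result :
    Nat.card (Matrix.SpecialLinearGroup (Fin 2) (ZMod 3)) = 24 ∧
    Nat.card (Subgroup.center (Matrix.SpecialLinearGroup (Fin 2) (ZMod 3))) = 2 ∧
    Nat.card (commutator (Matrix.SpecialLinearGroup (Fin 2) (ZMod 3))) = 8 ∧
    Nonempty (commutator (Matrix.SpecialLinearGroup (Fin 2) (ZMod 3)) ≃* QuaternionGroup 2) ∧
    (∀ P : Sylow 3 (Matrix.SpecialLinearGroup (Fin 2) (ZMod 3)),
      Subgroup.IsComplement' (commutator (Matrix.SpecialLinearGroup (Fin 2) (ZMod 3)))
        (P : Subgroup (Matrix.SpecialLinearGroup (Fin 2) (ZMod 3)))) ∧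
    ∀ N : Subgroup (Matrix.SpecialLinearGroup (Fin 2) (ZMod 3)), N.Normal →
      N = ⊥ ∨ N = ⊤ ∨ N = Subgroup.center (Matrix.SpecialLinearGroup (Fin 2) (ZMod 3)) ∨
        N = commutator (Matrix.SpecialLinearGroup (Fin 2) (ZMod 3)) := by
  classical
  have hG : Nat.card (Matrix.SpecialLinearGroup (Fin 2) (ZMod 3)) = 24 := by rw [Nat.card_eq_fintype_card, e_card]
  have hQ : ∀ g : Matrix.SpecialLinearGroup (Fin 2) (ZMod 3), g ∈ commutator (Matrix.SpecialLinearGroup (Fin 2) (ZMod 3)) ↔ g ^ 4 = 1 := by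
    intro g
    constructor
    · intro hg
      let Q : Subgroup (Matrix.SpecialLinearGroup (Fin 2) (ZMod 3)) :=
        { carrier := {x | x ^ 4 = 1}
          one_mem' := one_pow 4
          mul_mem' := fun {a b} ha hb => e_mul a b ha hb
          inv_mem' := fun {a} ha => show a⁻¹ ^ 4 = 1 by rw [inv_pow, ha, inv_one] }
      have hle : commutator (Matrix.SpecialLinearGroup (Fin 2) (ZMod 3)) ≤ Q := by
        rw [commutator_def, Subgroup.commutator_le]
        intro a _ b _
        rw [commutatorElement_def]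
        exact e_comm a b
      exact hle hg
    · intro hg
      obtain ⟨a, b, rfl⟩ := e_is_comm g hg
      rw [← commutatorElement_def, commutator_def]
      exact Subgroup.commutator_mem_commutator (Subgroup.mem_top a) (Subgroup.mem_top b)
  have hQc : Nat.card (commutator (Matrix.SpecialLinearGroup (Fin 2) (ZMod 3))) = 8 := by
    rw [Nat.card_congr (Equiv.subtypeEquivRight hQ), Nat.card_eq_fintype_card, e_four]
  have hZ : ∀ g : Matrix.SpecialLinearGroup (Fin 2) (ZMod 3), g ∈ Subgroup.center (Matrix.SpecialLinearGroup (Fin 2) (ZMod 3)) ↔ g ^ 2 = 1 :=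
    fun g => Subgroup.mem_center_iff.trans (e_center g)
  have hZc : Nat.card (Subgroup.center (Matrix.SpecialLinearGroup (Fin 2) (ZMod 3))) = 2 := by
    rw [Nat.card_congr (Equiv.subtypeEquivRight hZ), Nat.card_eq_fintype_card, e_two]
  refine ⟨hG, hZc, hQc, ?_, ?_, ?_⟩
  · refine ⟨(MulEquiv.ofBijective (MonoidHom.mk' (fun s => (⟨qFun s, (hQ _).2 (qFun_mem s)⟩ :
      commutator (Matrix.SpecialLinearGroup (Fin 2) (ZMod 3)))) (fun s t => Subtype.ext (qFun_mul s t))) ⟨?_, ?_⟩).symm⟩
    · exact fun s t h => qFun_inj s t (congrArg Subtype.val h)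
    · intro g
      obtain ⟨s, hs⟩ := qFun_surj g ((hQ _).1 g.2)
      exact ⟨s, Subtype.ext hs⟩
  · intro P
    have hP : Nat.card (P : Subgroup (Matrix.SpecialLinearGroup (Fin 2) (ZMod 3))) = 3 := by
      rw [P.card_eq_multiplicity, hG, show Nat.factorization 24 3 = 1 by
        rw [show (24 : ℕ) = 3 ^ 1 * 8 by norm_num, Nat.factorization_mul (by norm_num) (by norm_num), Finsupp.add_apply,
          Nat.Prime.factorization_pow Nat.prime_three, Nat.factorization_eq_zero_of_not_dvd (by norm_num)]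
        simp]
      rfl
    exact Subgroup.isComplement'_of_coprime (by rw [hQc, hP, hG]) (by rw [hQc, hP]; decide)
  · intro N hN
    by_cases h4 : ∃ g ∈ N, g ^ 4 = 1 ∧ g ^ 2 ≠ 1
    · obtain ⟨g, hg, hg4, hg2⟩ := h4
      have hle : commutator (Matrix.SpecialLinearGroup (Fin 2) (ZMod 3)) ≤ N := by
        intro q hq
        have hq4 := (hQ q).1 hq
        by_cases hq2 : q ^ 2 = 1
        · rcases e_sq q hq4 hq2 g hg4 hg2 with e | e <;> rw [e]
          · exact one_mem N
          · exact pow_mem hg 2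
        · obtain ⟨a, ha⟩ := e_conj g ⟨hg4, hg2⟩ q ⟨hq4, hq2⟩
          exact ha ▸ hN.conj_mem g hg a
      have h1 : 8 ∣ Nat.card N := hQc ▸ Subgroup.card_dvd_of_le hle
      have h2 : Nat.card N ∣ 24 := hG ▸ Subgroup.card_subgroup_dvd_card N
      have h3 := Nat.le_of_dvd (by norm_num) h2
      obtain ⟨c, hc⟩ := h1
      have hc3 : c ≤ 3 := by omega
      interval_cases c
      · have := Nat.card_pos (α := N); omega
      · right; right; right
        exact (Subgroup.eq_of_le_of_card_ge hle (by rw [hQc, hc])).symm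
      · rw [hc] at h2; norm_num at h2
      · right; left
        exact Subgroup.eq_top_of_card_eq N (by rw [hc, hG])
    · push Not at h4
      have hall : ∀ g ∈ N, g ^ 2 = 1 := by
        intro g hg
        by_contra hg2
        by_cases hg4 : g ^ 4 = 1
        · exact hg2 (h4 g hg hg4)
        · obtain ⟨h, hh⟩ := e_out g hg4
          exact hh (h4 _ (N.mul_mem (hN.conj_mem g hg h) (N.inv_mem hg)) (e_comm h g))
      have hle : N ≤ Subgroup.center (Matrix.SpecialLinearGroup (Fin 2) (ZMod 3)) := fun g hg => (hZ g).2 (hall g hg)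
      have h2 : Nat.card N ∣ 2 := (Subgroup.card_dvd_of_le hle).trans hZc.dvd
      rcases (Nat.dvd_prime Nat.prime_two).1 h2 with h | h
      · left; exact Subgroup.card_eq_one.1 h
      · right; right; left
        exact Subgroup.eq_of_le_of_card_ge hle (by rw [hZc, h])

end Cfsg.Agent.S2427
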