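import Cfsg.Statements.S2430
import Cfsg.Agent.Lib.SL2Table.SL2TorusNormalizer
import Cfsg.Agent.Lib.SL2Table.SL2ClassResults
import Cfsg.Agent.Lib.Classical.SL2Sylow

set_option autoImplicit false
open Cfsg

namespace Cfsg.Agent.S2430

/-- Transport of centraliser, normaliser data from a Sylow subgroup of a cyclic self-centralising subgroup. -/
theorem torus_sylow_data {G : Type*} [Group G] [Finite G] (C : Subgroup G) (ℓ m : ℕ) [Fact ℓ.Prime]
    (hcyc : IsCyclic C) (hm : Nat.card C = m) (hdvd : ℓ ∣ m) (hidx : ¬ ℓ ∣ C.index)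
    (hcent : ∀ x ∈ C, (∀ k : ℕ, orderOf x ∣ ℓ ^ k → x ≠ 1 → Subgroup.centralizer ({x} : Set G) = C))
    (hnorm : Nat.card (Subgroup.normalizer (C : Set G)) = 2 * m) (P : Sylow ℓ G) :
    Nat.card (Subgroup.centralizer ((P : Subgroup G) : Set G)) = m ∧
    IsCyclic (Subgroup.centralizer ((P : Subgroup G) : Set G)) ∧
    Nat.card (Subgroup.normalizer ((P : Subgroup G) : Set G)) = 2 * m := by
  classical
  let Q : Sylow ℓ C := Classical.arbitrary _
  have hQ : ¬ ℓ ∣ ((Q : Subgroup C).map C.subtype).index := by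
    rw [Subgroup.index_map_subtype]
    exact Nat.Prime.not_dvd_mul Fact.out Q.not_dvd_index hidx
  let P0 : Sylow ℓ G := (Q.isPGroup'.map C.subtype).toSylow hQ
  have hP0 : (P0 : Subgroup G) = (Q : Subgroup C).map C.subtype := rfl
  obtain ⟨g, hg⟩ := MulAction.exists_smul_eq G P0 P
  have hPmap : (P : Subgroup G) = ((P0 : Subgroup G)).map (MulAut.conj g).toMonoidHom := by
    rw [← hg]; rfl
  have hcomm : ∀ a ∈ C, ∀ b ∈ C, a * b = b * a := fun a ha b hb => by
    haveI := hcyc
    exact congrArg Subtype.val (mul_comm' (⟨a, ha⟩ : C) ⟨b, hb⟩)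
  have hle : (P0 : Subgroup G) ≤ C := Subgroup.map_subtype_le _
  have hne : (P0 : Subgroup G) ≠ ⊥ := P0.ne_bot_of_dvd_card (hdvd.trans (hm ▸ Subgroup.card_subgroup_dvd_card C))
  obtain ⟨x, hx, hx1⟩ := (Subgroup.bot_or_exists_ne_one _).resolve_left hne
  obtain ⟨k, hk⟩ := (IsPGroup.iff_orderOf.1 P0.isPGroup') ⟨x, hx⟩
  rw [Subgroup.orderOf_mk] at hk
  have hCx := hcent x (hle hx) k hk.dvd hx1
  have hCP : Subgroup.centralizer ((P0 : Subgroup G) : Set G) = C := by
    refine le_antisymm (fun y hy => hCx ▸ ?_) fun y hy => Subgroup.mem_centralizer_iff.2 fun z hz => hcomm z (hle hz) y hy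
    exact Subgroup.mem_centralizer_singleton_iff.2 (Subgroup.mem_centralizer_iff.1 hy x hx).symm
  have hkey : ∀ z ∈ C, (∃ j : ℕ, orderOf z = ℓ ^ j) → z ∈ (P0 : Subgroup G) := by
    rintro z hz ⟨j, hj⟩
    haveI : Std.Commutative (α := C) (· * ·) := ⟨fun a b => Subtype.ext (hcomm _ a.2 _ b.2)⟩
    haveI : (Q : Subgroup C).Normal := ⟨fun c hc d => by
      rw [show d * c * d⁻¹ = c by rw [show d * c = c * d from Subtype.ext (hcomm _ d.2 _ c.2), mul_inv_cancel_right]]
      exact hc⟩
    have hpz : IsPGroup ℓ (Subgroup.zpowers (⟨z, hz⟩ : C)) := by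
      refine IsPGroup.of_card (n := j) ?_
      rw [Nat.card_zpowers, Subgroup.orderOf_mk, hj]
    obtain ⟨Q', hQ'⟩ := hpz.exists_le_sylow
    haveI := Sylow.unique_of_normal Q inferInstance
    rw [Subsingleton.elim Q' Q] at hQ'
    exact ⟨⟨z, hz⟩, hQ' (Subgroup.mem_zpowers _), rfl⟩
  have hNP : Subgroup.normalizer ((P0 : Subgroup G) : Set G) = Subgroup.normalizer (C : Set G) := by
    have h1 : ∀ h ∈ Subgroup.normalizer ((P0 : Subgroup G) : Set G), ∀ c ∈ C, h * c * h⁻¹ ∈ C := by
      intro h hh c hc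
      rw [← hCP, Subgroup.mem_centralizer_iff] at hc ⊢
      intro y hy
      have hy' : h⁻¹ * y * h ∈ (P0 : Subgroup G) := by
        have := (Subgroup.mem_normalizer_iff.1 (Subgroup.inv_mem _ hh) y).1 hy
        simpa using this
      calc y * (h * c * h⁻¹) = h * ((h⁻¹ * y * h) * c) * h⁻¹ := by group
        _ = h * (c * (h⁻¹ * y * h)) * h⁻¹ := by rw [hc _ hy']
        _ = h * c * h⁻¹ * y := by group
    have h2 : ∀ h ∈ Subgroup.normalizer (C : Set G), ∀ c ∈ (P0 : Subgroup G), h * c * h⁻¹ ∈ (P0 : Subgroup G) := by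
      intro h hh c hc
      refine hkey _ ((Subgroup.mem_normalizer_iff.1 hh c).1 (hle hc)) ?_
      obtain ⟨j, hj⟩ := (IsPGroup.iff_orderOf.1 P0.isPGroup') ⟨c, hc⟩
      exact ⟨j, by rw [← MulAut.conj_apply, MulEquiv.orderOf_eq, ← hj, Subgroup.orderOf_mk]⟩
    refine le_antisymm (fun h hh => ?_) fun h hh => ?_
    · refine Subgroup.mem_normalizer_iff.2 fun c => ⟨h1 h hh c, fun hc => ?_⟩
      have := h1 h⁻¹ (Subgroup.inv_mem _ hh) _ hc
      simpa [mul_assoc] using this
    · refine Subgroup.mem_normalizer_iff.2 fun c => ⟨h2 h hh c, fun hc => ?_⟩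
      have := h2 h⁻¹ (Subgroup.inv_mem _ hh) _ hc
      simpa [mul_assoc] using this
  have hCmap : Subgroup.centralizer ((P : Subgroup G) : Set G) = C.map (MulAut.conj g).toMonoidHom := by
    rw [hPmap, ← hCP]
    ext y
    rw [Subgroup.mem_map_equiv, Subgroup.mem_centralizer_iff, Subgroup.mem_centralizer_iff]
    constructor
    · intro h z hz
      apply (MulAut.conj g).injective
      have := h (MulAut.conj g z) ⟨z, hz, rfl⟩
      rw [map_mul, map_mul, MulEquiv.apply_symm_apply]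
      exact this
    · rintro h _ ⟨z, hz, rfl⟩
      have := congrArg (MulAut.conj g) (h z hz)
      rw [map_mul, map_mul, MulEquiv.apply_symm_apply] at this
      exact this
  refine ⟨?_, ?_, ?_⟩
  · rw [hCmap, Subgroup.card_map_of_injective (MulAut.conj g).injective, hm]
  · rw [hCmap]
    haveI := hcyc
    exact isCyclic_of_surjective _ (C.equivMapOfInjective _ (MulAut.conj g).injective).surjective
  · rw [hPmap, ← Subgroup.map_equiv_normalizer_eq, Subgroup.card_map_of_injective (MulAut.conj g).injective, hNP, hnorm]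

open Matrix in
theorem nonScalar_of_odd_order {F : Type*} [Field F] {x : Matrix.SpecialLinearGroup (Fin 2) F} {ℓ k : ℕ}
    (hℓ : ℓ.Prime) (hℓ2 : ℓ ≠ 2) (hk : orderOf x ∣ ℓ ^ k) (hx : x ≠ 1) :
    CfsgLib.SL2Table.NonScalar (x : Matrix (Fin 2) (Fin 2) F) := by
  by_contra h
  obtain ⟨a, ha, ha1⟩ := CfsgLib.SL2Table.sl_scalar_val h
  apply hx
  have hsq : x ^ 2 = 1 := Subtype.ext (by
    rw [Matrix.SpecialLinearGroup.coe_pow, ha, pow_two, Matrix.SpecialLinearGroup.coe_one]
    rcases ha1 with rfl | rfl <;> simp)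
  have h2 : orderOf x ∣ Nat.gcd (ℓ ^ k) 2 := Nat.dvd_gcd hk (orderOf_dvd_of_pow_eq_one hsq)
  rw [Nat.Coprime.gcd_eq_one (Nat.Coprime.pow_left k ((Nat.coprime_primes hℓ Nat.prime_two).2 hℓ2)), Nat.dvd_one,
    orderOf_eq_one_iff] at h2
  exact h2

/-- Let F be a finite field with q elements, q odd, ℓ an odd prime, and P a Sylow ℓ-subgroup of SL₂ over F. If ℓ divides q − 1, the centraliser of P is cyclic of order q − 1 (a split torus) and the normaliser of P has order 2(q − 1); if ℓ divides q + 1, the centraliser of P is cyclic of order q + 1 (a non-split torus) and the normaliser of P has order 2(q + 1). -/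
theorem result {F : Type*} [Field F] [Fintype F] (hodd : Odd (Fintype.card F)) (ℓ : ℕ) [Fact ℓ.Prime] (hℓ : ℓ ≠ 2)
    (P : Sylow ℓ (Matrix.SpecialLinearGroup (Fin 2) F)) :
    (ℓ ∣ Fintype.card F - 1 →
      Nat.card (Subgroup.centralizer ((P : Subgroup (Matrix.SpecialLinearGroup (Fin 2) F)) : Set (Matrix.SpecialLinearGroup (Fin 2) F))) = Fintype.card F - 1 ∧
      IsCyclic (Subgroup.centralizer ((P : Subgroup (Matrix.SpecialLinearGroup (Fin 2) F)) : Set (Matrix.SpecialLinearGroup (Fin 2) F))) ∧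
      Nat.card (Subgroup.normalizer ((P : Subgroup (Matrix.SpecialLinearGroup (Fin 2) F)) : Set (Matrix.SpecialLinearGroup (Fin 2) F))) = 2 * (Fintype.card F - 1)) ∧
    (ℓ ∣ Fintype.card F + 1 →
      Nat.card (Subgroup.centralizer ((P : Subgroup (Matrix.SpecialLinearGroup (Fin 2) F)) : Set (Matrix.SpecialLinearGroup (Fin 2) F))) = Fintype.card F + 1 ∧
      IsCyclic (Subgroup.centralizer ((P : Subgroup (Matrix.SpecialLinearGroup (Fin 2) F)) : Set (Matrix.SpecialLinearGroup (Fin 2) F))) ∧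
      Nat.card (Subgroup.normalizer ((P : Subgroup (Matrix.SpecialLinearGroup (Fin 2) F)) : Set (Matrix.SpecialLinearGroup (Fin 2) F))) = 2 * (Fintype.card F + 1)) := by
  classical
  have h2 : (2 : F) ≠ 0 := CfsgLib.SL2Table.two_ne_zero_of_odd hodd
  have hℓp : ℓ.Prime := Fact.out
  have hℓ3 : 3 ≤ ℓ := by have := hℓp.two_le; omega
  have hq : 2 ≤ Fintype.card F := Fintype.one_lt_card
  have hS := CfsgLib.Classical.card_SL_two (F := F) rfl
  have hidx : ∀ (C : Subgroup (Matrix.SpecialLinearGroup (Fin 2) F)) (m m' : ℕ), 0 < m → Nat.card C = m →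
      Nat.card (Matrix.SpecialLinearGroup (Fin 2) F) = Fintype.card F * m' * m → ℓ ∣ m →
      ¬ ℓ ∣ Fintype.card F → ¬ ℓ ∣ m' → ¬ ℓ ∣ C.index := by
    intro C m m' hm0 hC hcard _ h1 h2 h
    have e := C.index_mul_card
    rw [hC, hcard] at e
    rw [Nat.eq_of_mul_eq_mul_right hm0 e] at h
    rcases hℓp.dvd_mul.1 h with h | h
    · exact h1 h
    · exact h2 h
  have hsum : Fintype.card F + 1 = (Fintype.card F - 1) + 2 := by omega
  constructor
  · intro hd
    have hq7 : 4 ≤ Fintype.card F - 1 := by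
      obtain ⟨c, hc⟩ := hd
      obtain ⟨r, hr⟩ := hodd
      rcases c with _ | _ | c
      · omega
      · omega
      · have : ℓ * (c + 1 + 1) ≥ ℓ * 2 := Nat.mul_le_mul_left _ (by omega)
        omega
    obtain ⟨u, hu⟩ := IsCyclic.exists_generator (α := Fˣ)
    have hou : orderOf u = Fintype.card F - 1 := by
      rw [orderOf_eq_card_of_forall_mem_zpowers hu, Nat.card_units, Nat.card_eq_fintype_card]
    obtain ⟨d, hdval⟩ : ∃ d : Matrix.SpecialLinearGroup (Fin 2) F,
        (d : Matrix (Fin 2) (Fin 2) F) = !![(u : F), 0; 0, ((u⁻¹ : Fˣ) : F)] := ⟨⟨_, by simp [Matrix.det_fin_two]⟩, rfl⟩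
    have hsplit := CfsgLib.SL2Table.split_torus_normalizer hodd d (by simp [hdval]) (by simp [hdval]) (by
      intro e
      have h1 : u ^ 2 = 1 := Units.ext (by simpa [hdval] using e)
      have := Nat.le_of_dvd two_pos (orderOf_dvd_of_pow_eq_one h1)
      omega)
    obtain ⟨hmem, hN, -, -⟩ := hsplit
    set C := Subgroup.centralizer ({d} : Set (Matrix.SpecialLinearGroup (Fin 2) F)) with hC
    let δ : Fˣ →* Matrix.SpecialLinearGroup (Fin 2) F :=
      { toFun := fun a => ⟨!![(a : F), 0; 0, ((a⁻¹ : Fˣ) : F)], by simp [Matrix.det_fin_two]⟩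
        map_one' := by ext i j; fin_cases i <;> fin_cases j <;> simp
        map_mul' := fun a b => Subtype.ext (by
          show (!![((a * b : Fˣ) : F), 0; 0, (((a * b)⁻¹ : Fˣ) : F)] : Matrix (Fin 2) (Fin 2) F) = !![(a : F), 0; 0, ((a⁻¹ : Fˣ) : F)] * !![(b : F), 0; 0, ((b⁻¹ : Fˣ) : F)]
          ext i j; fin_cases i <;> fin_cases j <;> simp [Matrix.mul_apply, Fin.sum_univ_two, mul_comm]) }
    have hδi : Function.Injective δ := fun a b h => by
      have := congrFun (congrFun (congrArg Subtype.val h) 0) 0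
      exact Units.ext this
    have hrange : δ.range = C := by
      ext g
      rw [hmem]
      constructor
      · rintro ⟨a, rfl⟩
        exact ⟨rfl, rfl⟩
      · rintro ⟨e1, e2⟩
        have hdet := g.2
        rw [Matrix.det_fin_two, e1, zero_mul, sub_zero] at hdet
        refine ⟨Units.mk0 _ (left_ne_zero_of_mul (hdet.symm ▸ one_ne_zero)), Subtype.ext ?_⟩
        show (!![(g : Matrix (Fin 2) (Fin 2) F) 0 0, 0; 0, ((g : Matrix (Fin 2) (Fin 2) F) 0 0)⁻¹] : Matrix (Fin 2) (Fin 2) F) = g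
        ext i j
        fin_cases i <;> fin_cases j <;> simp [e1, e2]
        exact (eq_inv_of_mul_eq_one_right hdet).symm
    have hcardC : Nat.card C = Fintype.card F - 1 := by
      rw [← hrange, ← Nat.card_congr (MonoidHom.ofInjective hδi).toEquiv, Nat.card_units, Nat.card_eq_fintype_card]
    have hcyc : IsCyclic C := by
      rw [← hrange]
      exact isCyclic_of_surjective _ δ.rangeRestrict_surjective
    refine torus_sylow_data C ℓ _ hcyc hcardC hd ?_ ?_ hN P
    · refine hidx C _ (Fintype.card F + 1) (by omega) hcardC (by rw [hS]; ring) hd (fun h => ?_) (fun h => ?_)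
      · have h1 := Nat.dvd_sub h hd
        rw [show Fintype.card F - (Fintype.card F - 1) = 1 by omega] at h1
        exact hℓp.not_dvd_one h1
      · rw [hsum] at h
        exact hℓ ((Nat.prime_dvd_prime_iff_eq hℓp Nat.prime_two).1 ((Nat.dvd_add_right hd).1 h))
    · intro x hx k hk hx1
      have hns := nonScalar_of_odd_order hℓp hℓ hk hx1
      obtain ⟨e1, e2⟩ := (hmem x).1 hx
      have hxa : (x : Matrix (Fin 2) (Fin 2) F) 0 0 ^ 2 ≠ 1 := by
        intro e
        have hdet := x.2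
        rw [Matrix.det_fin_two, e1, zero_mul, sub_zero] at hdet
        refine hns ⟨(x : Matrix (Fin 2) (Fin 2) F) 0 0, ?_⟩
        have h11 : (x : Matrix (Fin 2) (Fin 2) F) 1 1 = (x : Matrix (Fin 2) (Fin 2) F) 0 0 :=
          mul_left_cancel₀ (left_ne_zero_of_mul (hdet.symm ▸ one_ne_zero)) (hdet.trans (e.symm.trans (pow_two _)))
        ext i j
        fin_cases i <;> fin_cases j <;> simp [e1, e2, h11]
      have h' := (CfsgLib.SL2Table.split_torus_normalizer hodd x e1 e2 hxa).1
      ext g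
      rw [h', hmem]
  · intro hd
    obtain ⟨C, hT⟩ := CfsgLib.SL2Table.exists_torus (F := F) hodd
    refine torus_sylow_data C ℓ _ hT.cyclic hT.card hd ?_ ?_ hT.normalizer_data.1 P
    · refine hidx C _ (Fintype.card F - 1) (by omega) hT.card (by rw [hS]; ring) hd (fun h => ?_) (fun h => ?_)
      · exact hℓp.not_dvd_one ((Nat.dvd_add_right h).1 hd)
      · rw [hsum] at hd
        exact hℓ ((Nat.prime_dvd_prime_iff_eq hℓp Nat.prime_two).1 ((Nat.dvd_add_right h).1 hd))
    · intro x hx k hk hx1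
      exact hT.centralizer_eq hx (nonScalar_of_odd_order hℓp hℓ hk hx1)

end Cfsg.Agent.S2430
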