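import Cfsg.Statements.S2431
import Cfsg.Agent.Lib.Classical.SL2Quat
import Cfsg.Agent.Lib.Spectrum.PGL2
import Cfsg.Agent.Lib.SL2Table.SL2Classes

set_option autoImplicit false
open Cfsg

namespace Cfsg.Agent.S2431

open CfsgLib.Classical.SL2Q CfsgLib.Fusion.PSL2 Matrix

section model

variable {F : Type*} [Field F] [Fintype F]

local notation "SL₂" => Matrix.SpecialLinearGroup (Fin 2) F

theorem torus_isCyclic (h2 : (2 : F) ≠ 0) : IsCyclic (torus : Subgroup (Matrix.SpecialLinearGroup (Fin 2) F)) := by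
  haveI := CfsgLib.Spectrum.isCyclic_sl2Torus h2 (ε := (-1 : F)) (neg_ne_zero.2 one_ne_zero)
  have : (torus : Subgroup (Matrix.SpecialLinearGroup (Fin 2) F)) = CfsgLib.Spectrum.sl2Torus (-1 : F) := by
    ext g
    show (g.1 0 0 = g.1 1 1 ∧ g.1 0 1 = -g.1 1 0) ↔ (g.1 1 1 = g.1 0 0 ∧ g.1 0 1 = -1 * g.1 1 0)
    rw [neg_one_mul, eq_comm]
  rw [this]; infer_instance

omit [Fintype F] in
theorem negOne_torus_sq (h2 : (2 : F) ≠ 0) {t : Matrix.SpecialLinearGroup (Fin 2) F} (ht : t ∈ torus)
    (h : t * t = negOne) : t = wM ∨ t = negOne * wM := by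
  obtain ⟨t1, t2⟩ := ht
  have hd := det_eq t
  have h00 := congrArg (fun x : Matrix.SpecialLinearGroup (Fin 2) F => x.1 0 0) h
  simp only [mul_entry] at h00
  rw [← t1, t2] at hd
  rw [t2] at h00
  simp [negOne] at h00
  have ha : t.1 0 0 = 0 := by
    have : (2 : F) * (t.1 0 0 * t.1 0 0) = 0 := by linear_combination h00 + hd
    simpa [h2] using this
  rw [ha] at hd
  rcases mul_self_eq_one_iff.1 (show t.1 1 0 * t.1 1 0 = 1 by linear_combination hd) with e | e
  · left
    refine ext2 ?_ ?_ ?_ ?_ <;> simp [wM, ha, ← t1, t2, e]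
  · right
    refine ext2 ?_ ?_ ?_ ?_ <;> rw [negOne_mul_entry] <;> simp [wM, ha, ← t1, t2, e]

/-- The two-part of the torus. -/
def torusTwo : Subgroup (Matrix.SpecialLinearGroup (Fin 2) F) where
  carrier := {t | t ∈ torus ∧ ∃ k : ℕ, t ^ 2 ^ k = 1}
  one_mem' := ⟨one_mem _, 0, by simp⟩
  mul_mem' := fun {a b} ⟨ha, i, hi⟩ ⟨hb, j, hj⟩ => ⟨mul_mem ha hb, i + j, by
    rw [Commute.mul_pow (torus_comm ha hb), pow_add, pow_mul, hi, one_pow, one_mul, mul_comm, pow_mul, hj, one_pow]⟩
  inv_mem' := fun {a} ⟨ha, i, hi⟩ => ⟨inv_mem ha, i, by rw [inv_pow, hi, inv_one]⟩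

omit [Fintype F] in
theorem mem_torusTwo {t : Matrix.SpecialLinearGroup (Fin 2) F} :
    t ∈ (torusTwo : Subgroup (Matrix.SpecialLinearGroup (Fin 2) F)) ↔ t ∈ torus ∧ ∃ k : ℕ, t ^ 2 ^ k = 1 := Iff.rfl

omit [Fintype F] in
theorem negOne_torusTwo : (negOne : SL₂) ∈ (torusTwo : Subgroup (Matrix.SpecialLinearGroup (Fin 2) F)) :=
  ⟨negOne_mem_torus, 1, by rw [pow_one, pow_two, negOne_sq]⟩

omit [Fintype F] in
theorem wM_torusTwo : (wM : SL₂) ∈ (torusTwo : Subgroup (Matrix.SpecialLinearGroup (Fin 2) F)) :=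
  ⟨wM_mem_torus, 2, by
    rw [show (2 : ℕ) ^ 2 = 2 * 2 from rfl, pow_mul, pow_two (wM : SL₂), sq_of_trace_zero wM_trace, pow_two, negOne_sq]⟩

/-- A Sylow 2-subgroup: the two-part of the torus extended by a flip. -/
def twoModel (j : Matrix.SpecialLinearGroup (Fin 2) F) (hj : IsFlip j) :
    Subgroup (Matrix.SpecialLinearGroup (Fin 2) F) where
  carrier := {g | g ∈ (torusTwo : Subgroup (Matrix.SpecialLinearGroup (Fin 2) F)) ∨
    (IsFlip g ∧ j * g ∈ (torusTwo : Subgroup (Matrix.SpecialLinearGroup (Fin 2) F)))}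
  one_mem' := Or.inl (one_mem _)
  mul_mem' := by
    intro a b ha hb
    rcases ha with ha | ⟨haf, ha⟩ <;> rcases hb with hb | ⟨hbf, hb⟩
    · exact Or.inl (mul_mem ha hb)
    · refine Or.inr ⟨?_, ?_⟩
      · have h := hbf.inverts (inv_mem ha.1)
        rw [inv_inv] at h
        rw [← h]
        exact hbf.mul_torus (inv_mem ha.1)
      · rw [← mul_assoc, hj.inverts ha.1, mul_assoc]
        exact mul_mem (inv_mem ha) hb
    · exact Or.inr ⟨haf.mul_torus hb.1, by rw [← mul_assoc]; exact mul_mem ha hb⟩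
    · left
      have hjj := hj.sq
      have h1 : a * b = negOne * ((j * a)⁻¹ * (j * b)) := by
        have hab : (j * a)⁻¹ * (j * b) = a⁻¹ * b := by group
        have hainv : a⁻¹ = negOne * a := inv_eq_of_mul_eq_one_left (by rw [mul_assoc, haf.sq, negOne_sq])
        rw [hab, hainv, ← mul_assoc, ← mul_assoc, negOne_sq, one_mul]
      rw [h1]
      exact mul_mem negOne_torusTwo (mul_mem (inv_mem ha) hb)
  inv_mem' := by
    intro a ha
    rcases ha with ha | ⟨haf, ha⟩
    · exact Or.inl (inv_mem ha)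
    · have hainv : a⁻¹ = negOne * a := inv_eq_of_mul_eq_one_left (by rw [mul_assoc, haf.sq, negOne_sq])
      rw [hainv]
      refine Or.inr ⟨⟨by rw [negOne_mul_entry, negOne_mul_entry, haf.1], by rw [negOne_mul_entry, negOne_mul_entry, haf.2]⟩, ?_⟩
      rw [← mul_assoc, ← negOne_comm j, mul_assoc]
      exact mul_mem negOne_torusTwo ha

omit [Fintype F] in
theorem mem_twoModel {j g : Matrix.SpecialLinearGroup (Fin 2) F} (hj : IsFlip j) :
    g ∈ twoModel j hj ↔ g ∈ (torusTwo : Subgroup (Matrix.SpecialLinearGroup (Fin 2) F)) ∨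
      (IsFlip g ∧ j * g ∈ (torusTwo : Subgroup (Matrix.SpecialLinearGroup (Fin 2) F))) := Iff.rfl

omit [Fintype F] in
theorem flip_mem_twoModel {j : Matrix.SpecialLinearGroup (Fin 2) F} (hj : IsFlip j) : j ∈ twoModel j hj :=
  Or.inr ⟨hj, by rw [hj.sq]; exact negOne_torusTwo⟩

theorem twoModel_sylow (h2 : (2 : F) ≠ 0) {j : Matrix.SpecialLinearGroup (Fin 2) F} (hj : IsFlip j) :
    IsPGroup 2 (twoModel j hj) ∧ ¬ 2 ∣ (twoModel j hj).index ∧
      Nat.card (twoModel j hj) = 2 * Nat.card (torusTwo : Subgroup (Matrix.SpecialLinearGroup (Fin 2) F)) ∧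
      ∃ k, Nat.card (torusTwo : Subgroup (Matrix.SpecialLinearGroup (Fin 2) F)) = 2 ^ k ∧
        ∀ i, 2 ^ i ∣ Nat.card (torus : Subgroup (Matrix.SpecialLinearGroup (Fin 2) F)) → i ≤ k := by
  classical
  haveI : Fact (Nat.Prime 2) := ⟨Nat.prime_two⟩
  have hp2 : IsPGroup 2 (torusTwo : Subgroup (Matrix.SpecialLinearGroup (Fin 2) F)) := fun g => by
    obtain ⟨k, hk⟩ := g.2.2
    exact ⟨k, Subtype.ext (by simpa using hk)⟩
  have hp : IsPGroup 2 (twoModel j hj) := by
    rintro ⟨g, hg | ⟨hg, -⟩⟩
    · obtain ⟨k, hk⟩ := hg.2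
      exact ⟨k, Subtype.ext (by simpa using hk)⟩
    · refine ⟨2, Subtype.ext ?_⟩
      rw [SubmonoidClass.coe_pow, OneMemClass.coe_one, show (2 : ℕ) ^ 2 = 2 * 2 from rfl, pow_mul, pow_two g, hg.sq, pow_two,
        negOne_sq]
  have hcard : Nat.card (twoModel j hj) = 2 * Nat.card (torusTwo : Subgroup (Matrix.SpecialLinearGroup (Fin 2) F)) := by
    rw [two_mul, ← Nat.card_sum]
    refine (Nat.card_congr (Equiv.ofBijective (fun s => match s with
      | Sum.inl t => (⟨t.1, Or.inl t.2⟩ : twoModel j hj)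
      | Sum.inr t => ⟨j * t.1, mul_mem (flip_mem_twoModel hj) (Or.inl t.2)⟩) ⟨?_, ?_⟩)).symm
    · rintro (a | a) (b | b) hab <;> have h' := congrArg Subtype.val hab <;> simp only at h'
      · exact congrArg Sum.inl (Subtype.ext h')
      · exact absurd (h' ▸ a.2.1) ((hj.mul_torus b.2.1).notMem_torus h2)
      · exact absurd (h'.symm ▸ b.2.1) ((hj.mul_torus a.2.1).notMem_torus h2)
      · exact congrArg Sum.inr (Subtype.ext (mul_left_cancel h'))
    · rintro ⟨g, hg | ⟨hgf, hg⟩⟩
      · exact ⟨Sum.inl ⟨g, hg⟩, rfl⟩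
      · refine ⟨Sum.inr ⟨negOne * (j * g), mul_mem negOne_torusTwo hg⟩, Subtype.ext ?_⟩
        show j * (negOne * (j * g)) = g
        rw [← mul_assoc, ← negOne_comm j, mul_assoc negOne j, ← mul_assoc j j g, hj.sq, ← mul_assoc, negOne_sq, one_mul]
  set T : Subgroup (Matrix.SpecialLinearGroup (Fin 2) F) := torus with hT
  let Q : Sylow 2 T := Classical.arbitrary _
  haveI hQn : (Q : Subgroup T).Normal := ⟨fun c hc d => by
    rw [show d * c * d⁻¹ = c by rw [show d * c = c * d from Subtype.ext (torus_comm d.2 c.2), mul_inv_cancel_right]]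
    exact hc⟩
  have hTQ : (torusTwo : Subgroup (Matrix.SpecialLinearGroup (Fin 2) F)).subgroupOf T = (Q : Subgroup T) := by
    have hle : (torusTwo : Subgroup (Matrix.SpecialLinearGroup (Fin 2) F)).subgroupOf T ≤ (Q : Subgroup T) := by
      obtain ⟨Q', hQ'⟩ := (hp2.comap_subtype (K := T)).exists_le_sylow
      haveI := Sylow.unique_of_normal Q hQn
      rwa [Subsingleton.elim Q' Q] at hQ'
    refine le_antisymm hle fun x hx => ⟨x.2, ?_⟩
    obtain ⟨k, hk⟩ := Q.isPGroup' ⟨x, hx⟩
    exact ⟨k, by simpa using congrArg (fun y : (Q : Subgroup T) => ((y : T) : Matrix.SpecialLinearGroup (Fin 2) F)) hk⟩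
  have hcardQ : Nat.card (torusTwo : Subgroup (Matrix.SpecialLinearGroup (Fin 2) F)) = Nat.card (Q : Subgroup T) := by
    rw [← hTQ, Nat.card_congr (Subgroup.subgroupOfEquivOfLe (fun x hx => (mem_torusTwo.1 hx).1)).toEquiv]
  obtain ⟨k, hk⟩ := hp2.exists_card_eq
  refine ⟨hp, ?_, hcard, k, hk, fun i hi => ?_⟩
  · intro hd
    have e := (twoModel j hj).index_mul_card
    rw [hcard, hcardQ, CfsgLib.Classical.card_SL_two (F := F) rfl] at e
    have e2 : (Q : Subgroup T).index * Nat.card (Q : Subgroup T) = Nat.card T := Subgroup.index_mul_card _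
    have hQi : ¬ 2 ∣ (Q : Subgroup T).index := Q.not_dvd_index
    have hTc := card_torus_eq (F := F) h2
    rw [← hT] at hTc
    have hpos : 0 < Nat.card (Q : Subgroup T) := Nat.card_pos
    set b := Nat.card (Q : Subgroup T)
    set a := (Q : Subgroup T).index
    set I := (twoModel j hj).index
    obtain ⟨c, hc⟩ := hd
    have hq : 2 ≤ Fintype.card F := Fintype.one_lt_card
    have hodd : Fintype.card F % 2 = 1 := FiniteField.odd_card_of_char_ne_two fun h => h2 (by
      haveI := ringChar.of_eq h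
      exact CharTwo.two_eq_zero)
    obtain ⟨o, ho, hprod⟩ : ∃ o, o % 2 = 1 ∧
        (Fintype.card F - 1) * (Fintype.card F + 1) = Nat.card T * (2 * o) := by
      rw [hTc]
      split
      · next h =>
        refine ⟨(Fintype.card F - 1) / 2, by omega, ?_⟩
        rw [Nat.mul_div_cancel' (by omega : 2 ∣ Fintype.card F - 1), mul_comm]
      · next h =>
        refine ⟨(Fintype.card F + 1) / 2, by omega, ?_⟩
        rw [Nat.mul_div_cancel' (by omega : 2 ∣ Fintype.card F + 1)]
    rw [hprod, ← e2] at e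
    have e3 : I = Fintype.card F * a * o := by
      refine Nat.eq_of_mul_eq_mul_right (show 0 < 2 * b by omega) ?_
      rw [e]; ring
    have h3 : 2 ∣ Fintype.card F * a * o := ⟨c, e3 ▸ hc⟩
    rcases Nat.prime_two.dvd_mul.1 h3 with h3 | h3
    · rcases Nat.prime_two.dvd_mul.1 h3 with h4 | h4
      · omega
      · exact hQi h4
    · omega
  · have h := Sylow.pow_dvd_card_of_pow_dvd_card Q hi
    rw [← hcardQ, hk] at h
    exact (Nat.pow_dvd_pow_iff_le_right (by norm_num)).1 h

omit [Fintype F] in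
theorem normal_torus_flip (h2 : (2 : F) ≠ 0) {j n : Matrix.SpecialLinearGroup (Fin 2) F} (hj : IsFlip j)
    (hn : n ∈ Subgroup.normalizer (twoModel j hj : Set (Matrix.SpecialLinearGroup (Fin 2) F)))
    (h : n ∈ torus ∨ IsFlip n) : n ∈ twoModel j hj := by
  have key : ∀ n ∈ Subgroup.normalizer (twoModel j hj : Set (Matrix.SpecialLinearGroup (Fin 2) F)),
      n ∈ torus → n ∈ twoModel j hj := by
    intro n hn ht
    have h1 := (Subgroup.mem_normalizer_iff.1 hn j).1 (flip_mem_twoModel hj)
    have h2' : n * j * n⁻¹ = n * n * j := by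
      rw [mul_assoc, hj.inverts (inv_mem ht), inv_inv, mul_assoc]
    rw [h2'] at h1
    have h3 : n * n ∈ twoModel j hj := by
      have := mul_mem h1 (inv_mem (flip_mem_twoModel hj))
      rwa [mul_inv_cancel_right] at this
    rcases h3 with h3 | ⟨h3, -⟩
    · obtain ⟨k, hk⟩ := h3.2
      exact Or.inl ⟨ht, k + 1, by rw [pow_succ', pow_mul, pow_two, hk]⟩
    · exact absurd (mul_mem ht ht) (h3.notMem_torus h2)
  rcases h with h | h
  · exact key n hn h
  · have h' := key (n * j) (mul_mem hn (Subgroup.le_normalizer (flip_mem_twoModel hj))) (h.mul_flip hj)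
    have := mul_mem h' (inv_mem (flip_mem_twoModel hj))
    rwa [mul_inv_cancel_right] at this

omit [Fintype F] in
theorem conj_wM_cases {n : Matrix.SpecialLinearGroup (Fin 2) F}
    (h : n * wM * n⁻¹ = wM ∨ n * wM * n⁻¹ = negOne * wM) : n ∈ torus ∨ IsFlip n := by
  rcases h with h | h
  · exact Or.inl (commute_wM_iff.1 (mul_inv_eq_iff_eq_mul.1 h))
  · exact Or.inr (isFlip_iff.2 (mul_inv_eq_iff_eq_mul.1 h))

end model

/-- Let F be a finite field with q elements, q odd, and S a Sylow 2-subgroup of SL₂ over F. The centraliser of S is the centre of SL₂ (of order 2); S is its own normaliser when q ≡ ±1 mod 8, and has index 3 in its normaliser when q ≡ ±3 mod 8. -/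
theorem result {F : Type*} [Field F] [Fintype F] (hodd : Odd (Fintype.card F)) (S : Sylow 2 (Matrix.SpecialLinearGroup (Fin 2) F)) :
    Subgroup.centralizer ((S : Subgroup (Matrix.SpecialLinearGroup (Fin 2) F)) : Set (Matrix.SpecialLinearGroup (Fin 2) F)) = Subgroup.center (Matrix.SpecialLinearGroup (Fin 2) F) ∧
    ((Fintype.card F % 8 = 1 ∨ Fintype.card F % 8 = 7) →
      Subgroup.normalizer ((S : Subgroup (Matrix.SpecialLinearGroup (Fin 2) F)) : Set (Matrix.SpecialLinearGroup (Fin 2) F)) = (S : Subgroup (Matrix.SpecialLinearGroup (Fin 2) F))) ∧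
    ((Fintype.card F % 8 = 3 ∨ Fintype.card F % 8 = 5) →
      Nat.card (Subgroup.normalizer ((S : Subgroup (Matrix.SpecialLinearGroup (Fin 2) F)) : Set (Matrix.SpecialLinearGroup (Fin 2) F))) = 3 * Nat.card S) := by
  classical
  haveI : Fact (Nat.Prime 2) := ⟨Nat.prime_two⟩
  have h2 : (2 : F) ≠ 0 := CfsgLib.SL2Table.two_ne_zero_of_odd hodd
  obtain ⟨j, hj⟩ := exists_isFlip (F := F) h2
  obtain ⟨hp, hidx, hcard, k, hk, hkmax⟩ := twoModel_sylow h2 hj
  let S0 : Sylow 2 (Matrix.SpecialLinearGroup (Fin 2) F) := hp.toSylow hidx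
  obtain ⟨g, hg⟩ := MulAction.exists_smul_eq (Matrix.SpecialLinearGroup (Fin 2) F) S0 S
  set M := twoModel j hj with hM
  have hSmap : (S : Subgroup (Matrix.SpecialLinearGroup (Fin 2) F)) = M.map (MulAut.conj g).toMonoidHom := by
    rw [← hg]; rfl
  have hcent : Subgroup.centralizer (M : Set (Matrix.SpecialLinearGroup (Fin 2) F)) = Subgroup.center _ := by
    refine le_antisymm (fun x hx => ?_) (Subgroup.center_le_centralizer _)
    rw [Subgroup.mem_centralizer_iff] at hx
    have hxT : x ∈ torus := commute_wM_iff.1 (hx wM (Or.inl wM_torusTwo)).symm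
    have h1 := hx j (flip_mem_twoModel hj)
    rw [hj.inverts hxT] at h1
    have h3 : x * x = 1 := by
      have h4 : x⁻¹ = x := mul_right_cancel h1
      nth_rewrite 1 [← h4]
      exact inv_mul_cancel x
    rcases eq_of_mul_self h2 h3 with e | e
    · rw [e]; exact one_mem _
    · rw [e]; exact mem_center_iff'.2 (Or.inr rfl)
  have hTc := card_torus_eq (F := F) h2
  refine ⟨?_, ?_, ?_⟩
  · rw [hSmap]
    ext y
    constructor
    · intro hy
      have h1 : g⁻¹ * y * g ∈ Subgroup.centralizer (M : Set (Matrix.SpecialLinearGroup (Fin 2) F)) := by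
        rw [Subgroup.mem_centralizer_iff] at hy ⊢
        intro z hz
        have := hy _ ⟨z, hz, rfl⟩
        simp only [MulEquiv.coe_toMonoidHom, MulAut.conj_apply] at this
        calc z * (g⁻¹ * y * g) = g⁻¹ * (g * z * g⁻¹ * y) * g := by group
          _ = g⁻¹ * (y * (g * z * g⁻¹)) * g := by rw [this]
          _ = g⁻¹ * y * g * z := by group
      rw [hcent, Subgroup.mem_center_iff] at h1
      have h3 := h1 g
      have h4 : y = g⁻¹ * y * g := by
        calc y = g * (g⁻¹ * y * g) * g⁻¹ := by group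
          _ = g⁻¹ * y * g * g * g⁻¹ := by rw [h3]
          _ = g⁻¹ * y * g := by group
      rw [h4, Subgroup.mem_center_iff]
      exact h1
    · exact fun hy => Subgroup.center_le_centralizer _ hy
  · intro hq
    have hnorm : Subgroup.normalizer (M : Set (Matrix.SpecialLinearGroup (Fin 2) F)) = M := by
      refine le_antisymm (fun n hn => ?_) Subgroup.le_normalizer
      haveI := torus_isCyclic (F := F) h2
      obtain ⟨u, hu⟩ := IsCyclic.exists_generator (α := (torus : Subgroup (Matrix.SpecialLinearGroup (Fin 2) F)))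
      have hou := orderOf_eq_card_of_forall_mem_zpowers hu
      have h8 : 8 ∣ orderOf (u : Matrix.SpecialLinearGroup (Fin 2) F) := by
        rw [Subgroup.orderOf_coe, hou, hTc]
        split <;> omega
      set t := (u : Matrix.SpecialLinearGroup (Fin 2) F) ^ (orderOf (u : Matrix.SpecialLinearGroup (Fin 2) F) / 8) with htdef
      have hto : orderOf t = 8 := orderOf_pow_orderOf_div (orderOf_pos _).ne' h8
      have ht2 : t ∈ (torusTwo : Subgroup (Matrix.SpecialLinearGroup (Fin 2) F)) :=
        ⟨pow_mem u.2 _, 3, by rw [show (2 : ℕ) ^ 3 = 8 from rfl, ← hto, pow_orderOf_eq_one]⟩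
      have hsq4 : ∀ x : Matrix.SpecialLinearGroup (Fin 2) F, orderOf x = 8 → (x * x) * (x * x) = negOne := by
        intro x hx
        have h1 : ((x * x) * (x * x)) * ((x * x) * (x * x)) = 1 := by
          rw [← pow_two x, ← pow_two (x ^ 2), ← pow_two ((x ^ 2) ^ 2), ← pow_mul, ← pow_mul,
            show 2 * (2 * 2) = 8 from rfl, ← hx, pow_orderOf_eq_one]
        rcases eq_of_mul_self h2 h1 with e | e
        · exfalso
          have h4 : x ^ 4 = 1 := by
            rw [show (4 : ℕ) = 2 * 2 from rfl, pow_mul, pow_two x, pow_two]; exact e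
          have := Nat.le_of_dvd (by norm_num) (orderOf_dvd_of_pow_eq_one h4)
          omega
        · exact e
      have hnt := (Subgroup.mem_normalizer_iff.1 hn t).1 (Or.inl ht2)
      have hnto : orderOf (n * t * n⁻¹) = 8 := by rw [← MulAut.conj_apply, MulEquiv.orderOf_eq, hto]
      rcases hnt with hnt | ⟨hf, -⟩
      · have h1 := negOne_torus_sq h2 (mul_mem ht2.1 ht2.1) (hsq4 t hto)
        have h3 := negOne_torus_sq h2 (mul_mem hnt.1 hnt.1) (hsq4 _ hnto)
        rw [show n * t * n⁻¹ * (n * t * n⁻¹) = n * (t * t) * n⁻¹ by group] at h3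
        refine normal_torus_flip h2 hj hn (conj_wM_cases ?_)
        rcases h1 with e | e <;> rw [e] at h3
        · exact h3
        · have hz : n * (negOne * wM) * n⁻¹ = negOne * (n * wM * n⁻¹) := by
            rw [← mul_assoc n, ← negOne_comm n]; group
          rw [hz] at h3
          rcases h3 with h3 | h3
          · right
            calc n * wM * n⁻¹ = negOne * (negOne * (n * wM * n⁻¹)) := by rw [← mul_assoc negOne negOne, negOne_sq, one_mul]
              _ = negOne * wM := by rw [h3]
          · exact Or.inl (mul_left_cancel h3)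
      · exfalso
        have h4 : (n * t * n⁻¹) ^ 4 = 1 := by
          rw [show (4 : ℕ) = 2 * 2 from rfl, pow_mul, pow_two (n * t * n⁻¹), hf.sq, pow_two, negOne_sq]
        have := Nat.le_of_dvd (by norm_num) (orderOf_dvd_of_pow_eq_one h4)
        omega
    rw [hSmap, ← Subgroup.map_equiv_normalizer_eq, hnorm]
  · intro hq
    have hT4 : Nat.card (torusTwo : Subgroup (Matrix.SpecialLinearGroup (Fin 2) F)) = 4 := by
      have hdvd : Nat.card (torusTwo : Subgroup (Matrix.SpecialLinearGroup (Fin 2) F)) ∣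
          Nat.card (torus : Subgroup (Matrix.SpecialLinearGroup (Fin 2) F)) :=
        Subgroup.card_dvd_of_le fun x hx => hx.1
      have hk2 : 2 ≤ k := hkmax 2 (by rw [hTc]; split <;> omega)
      have hk3 : k < 3 := by
        by_contra hc
        rw [hk] at hdvd
        have : 2 ^ 3 ∣ Nat.card (torus : Subgroup (Matrix.SpecialLinearGroup (Fin 2) F)) :=
          (pow_dvd_pow 2 (by omega : 3 ≤ k)).trans hdvd
        rw [hTc] at this
        split at this <;> omega
      rw [hk, show k = 2 by omega]; rfl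
    have hsqx : (wM : Matrix.SpecialLinearGroup (Fin 2) F) * wM = negOne := sq_of_trace_zero wM_trace
    have hox : orderOf (wM : Matrix.SpecialLinearGroup (Fin 2) F) = 4 := orderOf_of_sq_negOne h2 hsqx
    have hzT : (torusTwo : Subgroup (Matrix.SpecialLinearGroup (Fin 2) F)) = Subgroup.zpowers wM :=
      (Subgroup.eq_of_le_of_card_ge ((Subgroup.zpowers_le).2 wM_torusTwo) (by rw [hT4, Nat.card_zpowers, hox])).symm
    obtain ⟨a, b, hab, hjv⟩ : ∃ a b : F, a * a + b * b = -1 ∧ j.1 = !![a, b; b, -a] := by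
      refine ⟨j.1 0 0, j.1 0 1, ?_, ?_⟩
      · have := det_eq j
        rw [hj.2, ← hj.1] at this
        linear_combination -this
      · ext r c
        fin_cases r <;> fin_cases c <;> simp [hj.1, hj.2]
    obtain ⟨w, hw⟩ : ∃ w : Matrix.SpecialLinearGroup (Fin 2) F,
        w.1 = !![(-1 - a + b) / 2, (1 - a - b) / 2; (-1 - a - b) / 2, (-1 + a - b) / 2] :=
      ⟨⟨_, by rw [Matrix.det_fin_two_of]; field_simp; linear_combination (-2 : F) * hab⟩, rfl⟩
    have hwx : w * wM = j * w := by
      refine ext2 ?_ ?_ ?_ ?_ <;> simp only [mul_entry, wM_val, hw, hjv] <;> simp <;> field_simp <;>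
        first
        | ring1
        | linear_combination hab
        | linear_combination -hab
    have hwj : w * j = wM * j * w := by
      refine ext2 ?_ ?_ ?_ ?_ <;> simp only [mul_entry, wM_val, hw, hjv] <;> simp <;> field_simp <;>
        first
        | ring1
        | linear_combination hab
        | linear_combination -hab
    have hxM : (wM : Matrix.SpecialLinearGroup (Fin 2) F) ∈ M := Or.inl wM_torusTwo
    have hjM : j ∈ M := flip_mem_twoModel hj
    have hclos : ∀ x ∈ M, x ∈ Subgroup.closure ({(wM : Matrix.SpecialLinearGroup (Fin 2) F), j} : Set _) := by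
      intro x hx
      have hxm : ∀ t ∈ (torusTwo : Subgroup (Matrix.SpecialLinearGroup (Fin 2) F)),
          t ∈ Subgroup.closure ({(wM : Matrix.SpecialLinearGroup (Fin 2) F), j} : Set _) := by
        intro t ht
        rw [hzT] at ht
        exact (Subgroup.zpowers_le).2 (Subgroup.subset_closure (Set.mem_insert _ _)) ht
      rcases hx with hx | ⟨-, hx⟩
      · exact hxm x hx
      · rw [show x = j⁻¹ * (j * x) by group]
        exact mul_mem (inv_mem (Subgroup.subset_closure (Set.mem_insert_of_mem _ rfl))) (hxm _ hx)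
    have hwN : w ∈ Subgroup.normalizer (M : Set (Matrix.SpecialLinearGroup (Fin 2) F)) := by
      have hle : M.map (MulAut.conj w).toMonoidHom ≤ M := by
        rintro _ ⟨x, hx, rfl⟩
        have hx' := hclos x hx
        clear hx
        induction hx' using Subgroup.closure_induction with
        | mem y hy =>
          show w * y * w⁻¹ ∈ M
          rcases hy with rfl | hy
          · rw [hwx, mul_inv_cancel_right]; exact hjM
          · rw [Set.mem_singleton_iff] at hy; subst hy
            rw [hwj, mul_inv_cancel_right]; exact mul_mem hxM hjM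
        | one => simpa using one_mem M
        | mul y z _ _ h1 h2 => rw [map_mul]; exact mul_mem h1 h2
        | inv y _ h1 => rw [map_inv]; exact inv_mem h1
      have heq := Subgroup.eq_of_le_of_card_ge hle (le_of_eq (Subgroup.card_map_of_injective (MulAut.conj w).injective).symm)
      refine Subgroup.mem_normalizer_iff.2 fun x => ⟨fun hx => hle ⟨x, hx, rfl⟩, fun hx => ?_⟩
      rw [← heq] at hx
      obtain ⟨y, hy, hyx⟩ := hx
      rwa [(MulAut.conj w).injective hyx] at hy
    have hj0 : j ∉ torus := hj.notMem_torus h2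
    have hwx1 : w * wM * w⁻¹ = j := by rw [hwx, mul_inv_cancel_right]
    have hwx2 : w ^ 2 * wM * (w ^ 2)⁻¹ = wM * j := by
      calc w ^ 2 * wM * (w ^ 2)⁻¹ = w * (w * wM * w⁻¹) * w⁻¹ := by rw [pow_two]; group
        _ = wM * j := by rw [hwx1, hwj, mul_inv_cancel_right]
    have hMx : ∀ s ∈ M, s * wM * s⁻¹ = wM ∨ s * wM * s⁻¹ = negOne * wM := by
      rintro s (hs | ⟨hs, -⟩)
      · left; rw [commute_wM_iff.2 hs.1, mul_inv_cancel_right]
      · right; rw [isFlip_iff.1 hs, mul_inv_cancel_right]
    have hmem : ∀ i : Fin 3, ∀ s : M, w ^ (i : ℕ) * (s : Matrix.SpecialLinearGroup (Fin 2) F) ∈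
        Subgroup.normalizer (M : Set (Matrix.SpecialLinearGroup (Fin 2) F)) := fun i s =>
      mul_mem (pow_mem hwN _) (Subgroup.le_normalizer s.2)
    have hbij : Function.Bijective (fun v : Fin 3 × M => (⟨_, hmem v.1 v.2⟩ :
        Subgroup.normalizer (M : Set (Matrix.SpecialLinearGroup (Fin 2) F)))) := by
      constructor
      · rintro ⟨i, s⟩ ⟨i', s'⟩ h
        have h' : w ^ (i : ℕ) * (s : Matrix.SpecialLinearGroup (Fin 2) F) = w ^ (i' : ℕ) * s' := congrArg Subtype.val h
        have hjw : ∀ m : ℕ, m = 1 ∨ m = 2 → w ^ m ∉ M := by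
          intro m hm hc
          have hcases := hMx _ hc
          rcases hm with rfl | rfl
          · rw [pow_one, hwx1] at hcases
            rcases hcases with e | e
            · exact hj0 (e ▸ wM_mem_torus)
            · exact hj0 (e ▸ mul_mem negOne_mem_torus wM_mem_torus)
          · rw [hwx2] at hcases
            rcases hcases with e | e
            · exact hj0 (mul_left_cancel (e.trans (mul_one wM).symm) ▸ one_mem _)
            · rw [negOne_comm] at e
              exact hj0 (mul_left_cancel e ▸ negOne_mem_torus)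
        have hii : i = i' := by
          by_contra hne
          rcases lt_or_gt_of_ne (fun e => hne (Fin.ext e) : (i : ℕ) ≠ i') with hlt | hlt
          · refine hjw (i' - i : ℕ) (by omega) ?_
            have : w ^ ((i' : ℕ) - i) = s * (s' : Matrix.SpecialLinearGroup (Fin 2) F)⁻¹ := by
              rw [eq_mul_inv_iff_mul_eq]
              apply mul_left_cancel (a := w ^ (i : ℕ))
              rw [← mul_assoc, ← pow_add, Nat.add_sub_cancel' hlt.le, h']
            rw [this]; exact mul_mem s.2 (inv_mem s'.2)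
          · refine hjw (i - i' : ℕ) (by omega) ?_
            have : w ^ ((i : ℕ) - i') = s' * (s : Matrix.SpecialLinearGroup (Fin 2) F)⁻¹ := by
              rw [eq_mul_inv_iff_mul_eq]
              apply mul_left_cancel (a := w ^ (i' : ℕ))
              rw [← mul_assoc, ← pow_add, Nat.add_sub_cancel' hlt.le, h']
            rw [this]; exact mul_mem s'.2 (inv_mem s.2)
        subst hii
        exact Prod.ext rfl (Subtype.ext (mul_left_cancel h'))
      · rintro ⟨n, hn⟩
        suffices h : ∃ i : Fin 3, (w ^ (i : ℕ))⁻¹ * n ∈ M by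
          obtain ⟨i, hi⟩ := h
          exact ⟨(i, ⟨_, hi⟩), Subtype.ext (mul_inv_cancel_left _ _)⟩
        have step : ∀ i : Fin 3, ∀ c : Matrix.SpecialLinearGroup (Fin 2) F, w ^ (i : ℕ) * wM * (w ^ (i : ℕ))⁻¹ = c →
            (n * wM * n⁻¹ = c ∨ n * wM * n⁻¹ = negOne * c) → (w ^ (i : ℕ))⁻¹ * n ∈ M := by
          intro i c hc hor
          refine normal_torus_flip h2 hj (mul_mem (inv_mem (pow_mem hwN _)) hn) (conj_wM_cases ?_)
          have hre : (w ^ (i : ℕ))⁻¹ * n * wM * ((w ^ (i : ℕ))⁻¹ * n)⁻¹ = (w ^ (i : ℕ))⁻¹ * (n * wM * n⁻¹) * w ^ (i : ℕ) := by group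
          rw [hre, ← hc] at *
          rcases hor with e | e
          · left; rw [e]; group
          · right
            rw [e]
            calc (w ^ (i : ℕ))⁻¹ * (negOne * (w ^ (i : ℕ) * wM * (w ^ (i : ℕ))⁻¹)) * w ^ (i : ℕ)
                = ((w ^ (i : ℕ))⁻¹ * negOne) * w ^ (i : ℕ) * wM := by group
              _ = negOne * wM := by rw [← negOne_comm, inv_mul_cancel_right]
        have hy := (Subgroup.mem_normalizer_iff.1 hn wM).1 hxM
        have hyo : orderOf (n * wM * n⁻¹) = 4 := by rw [← MulAut.conj_apply, MulEquiv.orderOf_eq, hox]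
        rcases hy with hy | ⟨hyf, hy⟩
        · rw [hzT] at hy
          have hn1 : n * wM * n⁻¹ ≠ 1 := fun e => by rw [e, orderOf_one] at hyo; omega
          have hn2 : n * wM * n⁻¹ ≠ negOne := fun e => by
            have h4 : (negOne : Matrix.SpecialLinearGroup (Fin 2) F) ^ 2 = 1 := by rw [pow_two, negOne_sq]
            have := Nat.le_of_dvd two_pos (orderOf_dvd_of_pow_eq_one h4)
            rw [← e, hyo] at this; omega
          refine ⟨0, step 0 wM (by simp) ?_⟩
          rcases mem_zpowers_wM h2 hy with e | e | e | e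
          · exact absurd e hn1
          · exact Or.inl e
          · exact absurd e hn2
          · exact Or.inr e
        · rw [hzT] at hy
          set y := n * wM * n⁻¹
          have hyj : ∀ c, j * y = c → y = negOne * (j * c) := fun c hc => by
            rw [← hc, ← mul_assoc j, hj.sq, ← mul_assoc, negOne_sq, one_mul]
          have hxj : j * wM = negOne * (wM * j) := by
            rw [isFlip_iff.1 hj, mul_assoc]
          rcases mem_zpowers_wM h2 hy with e | e | e | e
          · exact ⟨1, step 1 j (by simpa using hwx1) (Or.inr (by rw [hyj _ e, mul_one]))⟩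
          · refine ⟨2, step 2 (wM * j) hwx2 (Or.inl ?_)⟩
            rw [hyj _ e, hxj, ← mul_assoc, negOne_sq, one_mul]
          · refine ⟨1, step 1 j (by simpa using hwx1) (Or.inl ?_)⟩
            rw [hyj _ e, ← negOne_comm j, ← mul_assoc, negOne_sq, one_mul]
          · refine ⟨2, step 2 (wM * j) hwx2 (Or.inr ?_)⟩
            rw [hyj _ e, ← mul_assoc j negOne, ← negOne_comm j, mul_assoc negOne j, hxj, ← mul_assoc negOne negOne, negOne_sq, one_mul]
    rw [hSmap, ← Subgroup.map_equiv_normalizer_eq, Subgroup.card_map_of_injective (MulAut.conj g).injective,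
      Subgroup.card_map_of_injective (MulAut.conj g).injective, ← Nat.card_congr (Equiv.ofBijective _ hbij), Nat.card_prod,
      Nat.card_fin]

end Cfsg.Agent.S2431
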