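import Cfsg.Statements.S2459
import Cfsg.Agent.Lib.SL3.Products

set_option autoImplicit false
open Cfsg

namespace Cfsg.Agent.S2459

open CfsgLib.SL3 Matrix

theorem nonScalar_of_not_mem_center {F : Type*} [Field F] (g : SpecialLinearGroup (Fin 3) F)
    (hg : g ∉ Subgroup.center (SpecialLinearGroup (Fin 3) F)) : NonScalar g.1 := by
  intro h
  apply hg
  rw [Matrix.SpecialLinearGroup.mem_center_iff]
  obtain ⟨h01, h02, h10, h12, h20, h21, e1, e2⟩ := h
  have hsc : g.1 = scalar (Fin 3) (g.1 0 0) := by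
    ext i j
    fin_cases i <;> fin_cases j <;> simp [h01, h02, h10, h12, h20, h21, e1, e2, Matrix.diagonal]
  refine ⟨g.1 0 0, ?_, hsc.symm⟩
  have hdet := g.2
  rw [hsc, scalar_apply, det_diagonal] at hdet
  simpa using hdet

theorem covering {F : Type*} [Field F] [Fintype F] (x : SpecialLinearGroup (Fin 3) F)
    (hx : ∀ g : SpecialLinearGroup (Fin 3) F, NonScalar g.1 →
      ∃ u v : SpecialLinearGroup (Fin 3) F, g = (u * x * u⁻¹) * (v * x * v⁻¹))
    (g : ProjectiveSpecialLinearGroup (Fin 3) F) (hg : g ≠ 1) :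
    ∃ u v : ProjectiveSpecialLinearGroup (Fin 3) F,
      g = (u * QuotientGroup.mk x * u⁻¹) * (v * QuotientGroup.mk x * v⁻¹) := by
  obtain ⟨g, rfl⟩ := QuotientGroup.mk_surjective g
  obtain ⟨u, v, huv⟩ := hx g (nonScalar_of_not_mem_center g fun h =>
    hg ((QuotientGroup.eq_one_iff g).2 h))
  exact ⟨QuotientGroup.mk u, QuotientGroup.mk v, by rw [huv]; rfl⟩

theorem not_dvd_order {F : Type*} [Field F] [Fintype F] {p n : ℕ} (hn : ¬ p ∣ n)
    (x : SpecialLinearGroup (Fin 3) F) (hx : x ^ n = 1) :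
    ¬ p ∣ orderOf (QuotientGroup.mk x : ProjectiveSpecialLinearGroup (Fin 3) F) := by
  intro h
  refine hn (h.trans (orderOf_dvd_of_pow_eq_one ?_))
  rw [← QuotientGroup.mk_pow, hx, QuotientGroup.mk_one]

/-- A form of Thompson's conjecture for PSL(3,q), q > 2 (covering the non-identity elements), with a semisimple class: for F a finite field of characteristic p with more than 2 elements there is an element x of PSL(3,F) of order prime to p such that every non-identity element of PSL(3,F) is a product of two conjugates of x. -/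
theorem result {F : Type*} [Field F] [Fintype F] (p : ℕ) [Fact p.Prime] [CharP F p] (h3 : 3 ≤ Fintype.card F) :
    ∃ x : Matrix.ProjectiveSpecialLinearGroup (Fin 3) F, ¬ p ∣ orderOf x ∧ ∀ g : Matrix.ProjectiveSpecialLinearGroup (Fin 3) F, g ≠ 1 → ∃ u v : Matrix.ProjectiveSpecialLinearGroup (Fin 3) F, g = (u * x * u⁻¹) * (v * x * v⁻¹) := by
  classical
  have hp : p.Prime := Fact.out
  obtain ⟨n, -, hn⟩ := FiniteField.card F p
  by_cases h4 : 4 ≤ Fintype.card F
  · obtain ⟨g, hg⟩ := IsCyclic.exists_generator (α := Fˣ)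
    have hord : orderOf g = Fintype.card F - 1 := by
      rw [orderOf_eq_card_of_forall_mem_zpowers hg, Nat.card_units, Nat.card_eq_fintype_card]
    have hne : ∀ k : ℕ, 0 < k → k < 3 → g ^ k ≠ 1 := by
      intro k hk hk3 h
      have := Nat.le_of_dvd hk (orderOf_dvd_of_pow_eq_one h)
      omega
    have h1 : (g : F) ≠ 1 := fun h => hne 1 one_pos (by norm_num) (by simpa using Units.ext h)
    have h2 : (g : F) * g ≠ 1 := fun h =>
      hne 2 two_pos (by norm_num) (Units.ext (by simpa [pow_two] using h))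
    have hg0 : (g : F) ≠ 0 := g.ne_zero
    have habc : (1 : F) * g * (g : F)⁻¹ = 1 := by field_simp
    let D : SpecialLinearGroup (Fin 3) F := ⟨diagonal ![1, (g : F), (g : F)⁻¹], by
      rw [det_diagonal, Fin.prod_univ_three]; simpa using habc⟩
    have hD : D ^ (Fintype.card F - 1) = 1 := by
      apply Subtype.ext
      show diagonal ![1, (g : F), (g : F)⁻¹] ^ (Fintype.card F - 1) = 1
      rw [diagonal_pow, ← diagonal_one]
      congr 1
      funext i
      fin_cases i <;> simp [inv_pow, FiniteField.pow_card_sub_one_eq_one _ hg0]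
    refine ⟨QuotientGroup.mk D, not_dvd_order ?_ D hD,
      covering D (exists_product_of_conj (F := F) 1 (g : F) (g : F)⁻¹ habc (Ne.symm h1) ?_ ?_ D rfl)⟩
    · intro h
      have hpq : p ∣ Fintype.card F := by rw [hn]; exact dvd_pow_self p n.pos.ne'
      have : p ∣ 1 := by
        have := Nat.dvd_sub hpq h
        rwa [show Fintype.card F - (Fintype.card F - 1) = 1 by omega] at this
      exact hp.not_dvd_one this
    · intro h
      exact h1 (inv_eq_one.1 h.symm)
    · intro h
      apply h2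
      calc (g : F) * g = (g : F) * (g : F)⁻¹ := by rw [← h]
        _ = 1 := mul_inv_cancel₀ hg0
  · have hc : Fintype.card F = 3 := by omega
    have hp3 : p = 3 := by
      have : p ∣ 3 := by rw [← hc, hn]; exact dvd_pow_self p n.pos.ne'
      exact (Nat.prime_dvd_prime_iff_eq hp Nat.prime_three).1 this
    subst hp3
    let e : ZMod 3 ≃+* F := ZMod.ringEquiv F hc
    let Φ := SpecialLinearGroup.map (n := Fin 3) e.toRingHom
    have hX : x13 ^ 13 = 1 := by decide
    have hΦ : ∀ g : SpecialLinearGroup (Fin 3) F, ∃ g₀, Φ g₀ = g := fun g =>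
      ⟨SpecialLinearGroup.map (n := Fin 3) e.symm.toRingHom g, by
        apply Subtype.ext; ext i j; simp [Φ]⟩
    refine ⟨QuotientGroup.mk (Φ x13), not_dvd_order (n := 13) (by norm_num) _
      (by rw [← map_pow, hX, map_one]), covering (Φ x13) fun g hg => ?_⟩
    obtain ⟨g₀, rfl⟩ := hΦ g
    obtain ⟨u, v, huv⟩ := exists_product_of_conj_three g₀ (fun h => hg (by
      obtain ⟨a1, a2, a3, a4, a5, a6, a7, a8⟩ := h
      simp [CfsgLib.SL3.NonScalar, Φ, a1, a2, a3, a4, a5, a6, a7, a8]))
    exact ⟨Φ u, Φ v, by rw [huv, map_mul, map_mul, map_mul, map_mul, map_mul, map_inv, map_inv]⟩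

end Cfsg.Agent.S2459
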