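import Cfsg.Statements.S2460
import Cfsg.Agent.Lib.Classical.SpFourSquare.Assemble
-- import your own Cfsg.Agent.* helpers here

set_option autoImplicit false
open Cfsg

namespace Cfsg.Agent.S2460

/-- A form of Thompson's conjecture for the simple groups PSp(4,q), q ≥ 3 (covering the non-identity elements), with a semisimple class: for F a finite field of characteristic p with at least 3 elements there is an element x of PSp(4,F) of order prime to p such that every non-identity element of PSp(4,F) is a product of two conjugates of x. -/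
theorem result {F : Type*} [Field F] [Fintype F] (p : ℕ) [Fact p.Prime] [CharP F p] (h3 : 3 ≤ Fintype.card F) :
    ∃ x : Cfsg.PSp 2 F, ¬ p ∣ orderOf x ∧ ∀ g : Cfsg.PSp 2 F, g ≠ 1 → ∃ u v : Cfsg.PSp 2 F, g = (u * x * u⁻¹) * (v * x * v⁻¹) := by
  obtain ⟨t, d, h⟩ := CfsgLib.SpFourSq.exists_param h3
  obtain ⟨n, hn, hDn⟩ := CfsgLib.SpFourSq.exists_order p h
  refine ⟨QuotientGroup.mk (CfsgLib.SpFourSq.D h), fun hd => hn (hd.trans (orderOf_dvd_of_pow_eq_one ?_)), fun g hg => ?_⟩
  · rw [← QuotientGroup.mk_pow, hDn, QuotientGroup.mk_one]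
  obtain ⟨g, rfl⟩ := QuotientGroup.mk_surjective g
  have hns : ∀ e : F, (∀ x, CfsgLib.SpFourSq.act g x = e • x) → False := by
    intro e he
    refine hg ((QuotientGroup.eq_one_iff g).2 (Subgroup.mem_center_iff.2 fun z => ?_))
    refine CfsgLib.SpFourSq.eq_of_act fun x => ?_
    rw [CfsgLib.SpFourSq.act_mul, CfsgLib.SpFourSq.act_mul, he, he, CfsgLib.SpFourSq.act_smul]
  rcases CfsgLib.SpFourSq.good_or h g hns with ⟨u, v, e⟩ | ⟨u, v, e⟩
  · exact ⟨QuotientGroup.mk u, QuotientGroup.mk v, by rw [e]; rfl⟩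
  · refine ⟨QuotientGroup.mk u, QuotientGroup.mk v, ?_⟩
    have : (QuotientGroup.mk (CfsgLib.SpFourSq.negS g) : Cfsg.PSp 2 F) = QuotientGroup.mk g := by
      rw [CfsgLib.SpFourSq.negS_eq, QuotientGroup.mk_mul,
        (QuotientGroup.eq_one_iff _).2 CfsgLib.SpFourSq.negS_one_central, one_mul]
    rw [← this, e]; rfl

end Cfsg.Agent.S2460
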