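import Cfsg.Statements.S2466
import Mathlib
import Cfsg.Agent.Lib.Spectrum.AltBigPrimes

set_option autoImplicit false
open Cfsg

namespace Cfsg.Agent.S2466

/-- Adjacency of odd primes in the prime graph of the alternating groups: let r ≠ s be odd primes at most n. The alternating group of degree n has an element of order r·s if and only if r + s ≤ n. -/
theorem result (n r s : ℕ) (hr : r.Prime) (hs : s.Prime) (hr2 : r ≠ 2) (hs2 : s ≠ 2) (hrs : r ≠ s) (hrn : r ≤ n) (hsn : s ≤ n) :
    (r * s ∈ Set.range (orderOf : alternatingGroup (Fin n) → ℕ)) ↔ r + s ≤ n := by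
  constructor
  · rintro ⟨g, hg⟩
    by_contra hlt
    exact CfsgLib.Spectrum.alt_no_orderOf_mul hr hs hrs (by omega) g hg
  · intro hle
    have h : ({r, s} : Multiset ℕ).sum ≤ Fintype.card (Fin n) ∧ ∀ a ∈ ({r, s} : Multiset ℕ), 2 ≤ a := by
      refine ⟨by simpa using hle, fun a ha => ?_⟩
      simp only [Multiset.insert_eq_cons, Multiset.mem_cons, Multiset.mem_singleton] at ha
      rcases ha with rfl | rfl
      · exact hr.two_le
      · exact hs.two_le
    obtain ⟨σ, hσ⟩ := (Equiv.Perm.exists_with_cycleType_iff _).2 h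
    have hr' := (hr.odd_of_ne_two hr2)
    have hs' := (hs.odd_of_ne_two hs2)
    refine ⟨⟨σ, ?_⟩, ?_⟩
    · rw [Equiv.Perm.mem_alternatingGroup, Equiv.Perm.sign_of_cycleType, hσ]
      simp only [Multiset.insert_eq_cons, Multiset.sum_cons, Multiset.sum_singleton, Multiset.card_cons,
        Multiset.card_singleton]
      exact Even.neg_one_pow (by obtain ⟨a, rfl⟩ := hr'; obtain ⟨b, rfl⟩ := hs'; exact ⟨a + b + 2, by ring⟩)
    · rw [Subgroup.orderOf_mk, ← Equiv.Perm.lcm_cycleType, hσ]
      simp only [Multiset.insert_eq_cons, Multiset.lcm_cons, Multiset.lcm_singleton, normalize_eq]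
      exact Nat.Coprime.lcm_eq_mul ((Nat.coprime_primes hr hs).2 hrs)

end Cfsg.Agent.S2466
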