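import Cfsg.Statements.S2467
import Mathlib


set_option autoImplicit false
open Cfsg

namespace Cfsg.Agent.S2467

/-- Adjacency of 2 and an odd prime in the prime graph of the alternating groups: let r be an odd prime at most n, with n ≥ 4. The alternating group of degree n has an element of order 2r if and only if r + 4 ≤ n. -/
theorem result (n r : ℕ) (hn : 4 ≤ n) (hr : r.Prime) (hr2 : r ≠ 2) (hrn : r ≤ n) :
    (2 * r ∈ Set.range (orderOf : alternatingGroup (Fin n) → ℕ)) ↔ r + 4 ≤ n := by
  constructor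
  · rintro ⟨⟨σ, hσ⟩, hg⟩
    rw [Subgroup.orderOf_mk, ← Equiv.Perm.lcm_cycleType] at hg
    rw [Equiv.Perm.mem_alternatingGroup, Equiv.Perm.sign_of_cycleType, neg_one_pow_eq_one_iff_even (by decide)] at hσ
    have hle := σ.sum_cycleType_le
    rw [Fintype.card_fin] at hle
    have hmem : ∀ a ∈ σ.cycleType, a = 2 ∨ a = r ∨ a = 2 * r := by
      intro a ha
      have h2 := Equiv.Perm.two_le_of_mem_cycleType ha
      have hd : a ∣ 2 * r := hg ▸ Multiset.dvd_lcm ha
      rcases (Nat.dvd_prime hr).1 ((Nat.gcd_dvd_right a r)) with e | e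
      · have := (Nat.Coprime.dvd_of_dvd_mul_right e hd)
        have := Nat.le_of_dvd two_pos this
        omega
      · obtain ⟨b, rfl⟩ : r ∣ a := e ▸ Nat.gcd_dvd_left a r
        rw [mul_comm 2 r] at hd
        have hb : b ∣ 2 := (Nat.mul_dvd_mul_iff_left hr.pos).1 hd
        rcases (Nat.dvd_prime Nat.prime_two).1 hb with rfl | rfl
        · simp
        · simp [mul_comm]
    have key : ∀ M : Multiset ℕ, (∀ a ∈ M, a = 2 ∨ a = r ∨ a = 2 * r) →
        ∃ x y z : ℕ, M.sum = 2 * x + r * y + 2 * r * z ∧ Multiset.card M = x + y + z ∧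
          (M.lcm ∣ r ∨ 0 < x + z) ∧ (M.lcm ∣ 2 ∨ 0 < y + z) := by
      intro M
      induction M using Multiset.induction_on with
      | empty => intro _; exact ⟨0, 0, 0, by simp, by simp, Or.inl (by simp), Or.inl (by simp)⟩
      | cons a M ih =>
        intro h
        obtain ⟨x, y, z, e1, e2, e3, e4⟩ := ih fun b hb => h b (Multiset.mem_cons_of_mem hb)
        simp only [Multiset.sum_cons, Multiset.card_cons, Multiset.lcm_cons, e1, e2]
        rcases h a (Multiset.mem_cons_self a M) with rfl | rfl | rfl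
        · exact ⟨x + 1, y, z, by ring, by ring, Or.inr (by omega),
            e4.imp (fun hd => Nat.lcm_dvd dvd_rfl hd) id⟩
        · exact ⟨x, y + 1, z, by ring, by ring, e3.imp (fun hd => Nat.lcm_dvd dvd_rfl hd) id, Or.inr (by omega)⟩
        · exact ⟨x, y, z + 1, by ring, by ring, Or.inr (by omega), Or.inr (by omega)⟩
    obtain ⟨x, y, z, e1, e2, e3, e4⟩ := key _ hmem
    have hr3 : 3 ≤ r := by have := hr.two_le; omega
    rw [hg] at e3 e4
    have hxz : 0 < x + z := e3.resolve_left fun hd => by have := Nat.le_of_dvd hr.pos hd; omega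
    have hyz : 0 < y + z := e4.resolve_left fun hd => by have := Nat.le_of_dvd two_pos hd; omega
    rw [e1, e2] at hσ
    rw [e1] at hle
    obtain ⟨t, ht⟩ := hr.odd_of_ne_two hr2
    obtain ⟨c, hc⟩ := hσ
    have hxz2 : 2 ≤ x + z := by
      by_contra hlt
      have : x + z = 1 := by omega
      have e : 2 * x + r * y + 2 * r * z + (x + y + z) = 2 * (x + (t + 1) * y + r * z) + (x + z) := by
        rw [ht]; ring
      omega
    rcases Nat.eq_zero_or_pos z with rfl | hz
    · have : r * 1 ≤ r * y := Nat.mul_le_mul_left r (by omega)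
      omega
    · have h1 : 2 * r * 1 ≤ 2 * r * z := Nat.mul_le_mul_left _ hz
      rcases Nat.lt_or_ge z 2 with hz2 | hz2
      · omega
      · have h2 : 2 * r * 2 ≤ 2 * r * z := Nat.mul_le_mul_left _ hz2
        omega
  · intro hle
    have h : ({r, 2, 2} : Multiset ℕ).sum ≤ Fintype.card (Fin n) ∧ ∀ a ∈ ({r, 2, 2} : Multiset ℕ), 2 ≤ a := by
      refine ⟨by simpa using hle, fun a ha => ?_⟩
      simp only [Multiset.insert_eq_cons, Multiset.mem_cons, Multiset.mem_singleton] at ha
      rcases ha with rfl | rfl | rfl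
      · exact hr.two_le
      all_goals rfl
    obtain ⟨σ, hσ⟩ := (Equiv.Perm.exists_with_cycleType_iff _).2 h
    refine ⟨⟨σ, ?_⟩, ?_⟩
    · rw [Equiv.Perm.mem_alternatingGroup, Equiv.Perm.sign_of_cycleType, hσ]
      simp only [Multiset.insert_eq_cons, Multiset.sum_cons, Multiset.sum_singleton, Multiset.card_cons,
        Multiset.card_singleton]
      exact Even.neg_one_pow (by obtain ⟨a, rfl⟩ := hr.odd_of_ne_two hr2; exact ⟨a + 4, by ring⟩)
    · rw [Subgroup.orderOf_mk, ← Equiv.Perm.lcm_cycleType, hσ]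
      simp only [Multiset.insert_eq_cons, Multiset.lcm_cons, Multiset.lcm_singleton, normalize_eq]
      change Nat.lcm r (Nat.lcm 2 2) = 2 * r
      rw [Nat.lcm_self, mul_comm]
      exact Nat.Coprime.lcm_eq_mul ((Nat.coprime_primes hr Nat.prime_two).2 hr2)

end Cfsg.Agent.S2467
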