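import Cfsg.Statements.S2471
import Cfsg.Agent.Lib.Spectrum.PGL2

set_option autoImplicit false
open Cfsg

namespace Cfsg.Agent.S2471

/-- In PSL(2,q) with q odd, the characteristic p is isolated from 2 in the prime graph: for F a finite field of odd characteristic p with at least 5 elements, PSL(2,F) has no element of order 2p. -/
theorem result {F : Type*} [Field F] [Fintype F] (p : ℕ) [Fact p.Prime] [CharP F p] (hp : p ≠ 2) (h5 : 5 ≤ Fintype.card F) (g : Matrix.ProjectiveSpecialLinearGroup (Fin 2) F) :
    orderOf g ≠ 2 * p := by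
  intro h
  have hp2 : (2 : F) ≠ 0 := fun e =>
    hp ((Nat.prime_dvd_prime_iff_eq Fact.out Nat.prime_two).1 ((CharP.cast_eq_zero_iff F p 2).1 (by exact_mod_cast e)))
  obtain ⟨k, -, hq⟩ := FiniteField.card F p
  have hpp : p.Prime := Fact.out
  have hdq : p ∣ Fintype.card F := hq ▸ dvd_pow_self p k.pos.ne'
  have hp3 : 3 ≤ p := by have := hpp.two_le; omega
  rcases CfsgLib.Spectrum.orderOf_psl_cases hp2 hq g with hd | hd | hd <;> rw [h] at hd
  · have := Nat.le_of_dvd hpp.pos hd
    omega
  · have hodd : 2 ∣ Fintype.card F - 1 := by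
      have : Fintype.card F % 2 = 1 := by
        rw [hq, Nat.pow_mod, hpp.eq_two_or_odd.resolve_left hp]
        simp
      omega
    have h1 : p ∣ Fintype.card F - 1 := ((dvd_mul_left p 2).trans hd).trans (Nat.div_dvd_of_dvd hodd)
    have := Nat.dvd_sub hdq h1
    rw [Nat.sub_sub_self (by omega)] at this
    exact hpp.not_dvd_one this
  · have hodd : 2 ∣ Fintype.card F + 1 := by
      have : Fintype.card F % 2 = 1 := by
        rw [hq, Nat.pow_mod, hpp.eq_two_or_odd.resolve_left hp]
        simp
      omega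
    have h1 : p ∣ Fintype.card F + 1 := ((dvd_mul_left p 2).trans hd).trans (Nat.div_dvd_of_dvd hodd)
    exact hpp.not_dvd_one ((Nat.dvd_add_right hdq).1 h1)

end Cfsg.Agent.S2471
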