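import Cfsg.Statements.S2474
import Cfsg.Agent.Lib.KnownSimple.Spectra.BCPrimeGraph
-- import your own Cfsg.Agent.* helpers here

set_option autoImplicit false
open Cfsg

namespace Cfsg.Agent.S2474

/-- For q odd and n ≥ 3 the simple groups PΩ(2n+1,q) and PSp(2n,q) (which have the same order but different sets of element orders) have the same prime graph: for all distinct primes r, s, one of them has an element of order r·s if and only if the other does. -/
theorem result {F : Type*} [Field F] [Fintype F] (hodd : Odd (Fintype.card F)) (n : ℕ) (hn : 3 ≤ n) (r s : ℕ) (hr : r.Prime) (hs : s.Prime) (hrs : r ≠ s) :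
    (r * s ∈ Set.range (orderOf : Cfsg.POmega F (Cfsg.quadFormOdd n F) → ℕ)) ↔ (r * s ∈ Set.range (orderOf : Cfsg.PSp n F → ℕ)) := by
  have h2 : (2 : F) ≠ 0 := fun h => by
    exact absurd hodd (Nat.not_odd_iff_even.2 (even_iff_two_dvd.2 (by
      obtain ⟨p, hp⟩ := CharP.exists F
      have hp' := CharP.char_is_prime F p
      obtain ⟨k, -, hk⟩ := FiniteField.card F p
      have h2p : p ∣ 2 := (CharP.cast_eq_zero_iff F p 2).1 h
      have := (Nat.prime_dvd_prime_iff_eq hp' Nat.prime_two).1 h2p
      subst this
      rw [hk]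
      exact dvd_pow_self 2 k.pos.ne')))
  exact CfsgLib.Spectra.bc_prime_graph h2 hn hr hs hrs

end Cfsg.Agent.S2474
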