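import Cfsg.Statements.S2479
import Cfsg.Agent.Lib.KnownSimple.SLClassBound.Main

set_option autoImplicit false
open Cfsg

namespace Cfsg.Agent.S2479

/-- The number of conjugacy classes of SL(n,q): for F a finite field with q elements, the number k of conjugacy classes of SL(n,F) satisfies q^(n−1) < k and k ≤ (5/2)·q^(n−1) for n ≥ 2, and k ≤ q^(n−1) + 3q^(n−2) for n ≥ 3. -/
theorem result {F : Type*} [Field F] [Fintype F] (n : ℕ) (hn : 2 ≤ n) :
    Fintype.card F ^ (n - 1) < Nat.card (ConjClasses (Matrix.SpecialLinearGroup (Fin n) F)) ∧ 2 * Nat.card (ConjClasses (Matrix.SpecialLinearGroup (Fin n) F)) ≤ 5 * Fintype.card F ^ (n - 1) ∧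
      (3 ≤ n → Nat.card (ConjClasses (Matrix.SpecialLinearGroup (Fin n) F)) ≤ Fintype.card F ^ (n - 1) + 3 * Fintype.card F ^ (n - 2)) := by
  refine ⟨CfsgLib.SLBound.lt_card_classes_sl hn, ?_, fun h3 =>
    (CfsgLib.SLBound.card_classes_sl_le (by omega)).trans (CfsgLib.SLBound.tupWeight_general 1 n h3)⟩
  have hk := CfsgLib.SLBound.card_classes_sl_le (F := F) (n := n) (by omega)
  rcases (show n = 2 ∨ 3 ≤ n by omega) with rfl | h3
  · have h := (CfsgLib.SLBound.tupWeight_two (F := F) 1).2
    rw [show (2 : ℕ) - 1 = 1 from rfl, pow_one]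
    omega
  · have h := CfsgLib.SLBound.tupWeight_general (F := F) 1 n h3
    have hq := Fintype.one_lt_card (α := F)
    have h2 : 2 * Fintype.card F ^ (n - 2) ≤ Fintype.card F ^ (n - 1) := by
      rw [show n - 1 = n - 2 + 1 by omega, pow_succ, mul_comm]
      exact Nat.mul_le_mul_left _ hq
    omega

end Cfsg.Agent.S2479
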