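import Cfsg.Statements.S2485
import Cfsg.Agent.Lib.Classical.PGL2Mersenne

set_option autoImplicit false
open scoped Pointwise
open Cfsg

namespace Cfsg.Agent.S2485

/-- Let q = 2^k − 1 ≥ 7 be a prime and let G = PGL(2,q), the general linear group of degree 2 over the field with q elements modulo its centre. Then any two Sylow 2-subgroups of G have a non-trivial intersection: for a Sylow 2-subgroup H and every x ∈ G, H ∩ H^x ≠ 1. -/
theorem result {q k : ℕ} [Fact q.Prime] (hk : q + 1 = 2 ^ k) (hq : 7 ≤ q)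
    (H : Sylow 2 (GL (Fin 2) (ZMod q) ⧸ Subgroup.center (GL (Fin 2) (ZMod q))))
    (x : GL (Fin 2) (ZMod q) ⧸ Subgroup.center (GL (Fin 2) (ZMod q))) :
    (H : Subgroup (GL (Fin 2) (ZMod q) ⧸ Subgroup.center (GL (Fin 2) (ZMod q)))) ⊓ MulAut.conj x • (H : Subgroup _) ≠ ⊥ := by
  classical
  have hqp : q.Prime := Fact.out
  have hk2 : 3 ≤ k := by
    by_contra hlt
    have : 2 ^ k ≤ 2 ^ 2 := Nat.pow_le_pow_right (by norm_num) (by omega)
    omega
  obtain ⟨m, hm⟩ : ∃ m, k = m + 2 := ⟨k - 2, by omega⟩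
  have h4 : q % 4 = 3 := by
    have : q + 1 = 2 ^ m * 4 := by rw [hk, hm, pow_add]; norm_num
    omega
  have hneg : ∀ a : ZMod q, a * a ≠ -1 := by
    intro a ha
    exact (ZMod.exists_sq_eq_neg_one_iff.1 ⟨a, ha.symm⟩) h4
  have h2 : (2 : ZMod q) ≠ 0 := by
    intro h
    have : ((2 : ℕ) : ZMod q) = 0 := by exact_mod_cast h
    rw [ZMod.natCast_eq_zero_iff] at this
    have := Nat.le_of_dvd (by norm_num) this
    omega
  let G := GL (Fin 2) (ZMod q) ⧸ Subgroup.center (GL (Fin 2) (ZMod q))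
  set r : G := QuotientGroup.mk (CfsgLib.Classical.PGL2Elliptic.rot (F := ZMod q))
  have hC : Nat.card (Subgroup.centralizer ({r} : Set G)) = 2 ^ (k + 1) := by
    rw [CfsgLib.Classical.PGL2Elliptic.card_centralizer_rot h2 hneg (ZMod.card q), hk, pow_succ]
    ring
  have hG : Nat.card G = q * (q - 1) * (q + 1) := by
    have h := Subgroup.card_eq_card_quotient_mul_card_subgroup (Subgroup.center (GL (Fin 2) (ZMod q)))
    rw [CfsgLib.Classical.card_center_GL, CfsgLib.Classical.card_units_eq (ZMod.card q),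
      Matrix.card_GL_field, ZMod.card, Fin.prod_univ_two] at h
    simp only [Fin.val_zero, Fin.val_one, pow_zero, pow_one] at h
    obtain ⟨t, rfl⟩ : ∃ t, q = t + 1 := ⟨q - 1, by omega⟩
    have e1 : (t + 1) ^ 2 - 1 = t * (t + 2) := by
      have : (t + 1) ^ 2 = t * (t + 2) + 1 := by ring
      omega
    have e2 : (t + 1) ^ 2 - (t + 1) = (t + 1) * t := by
      have : (t + 1) ^ 2 = (t + 1) * t + (t + 1) := by ring
      omega
    rw [e1, e2, Nat.add_sub_cancel] at h
    exact Nat.eq_of_mul_eq_mul_right (show 0 < t by omega) (by rw [← h, Nat.add_sub_cancel]; ring)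
  have hfac : (Nat.card G).factorization 2 = k + 1 := by
    obtain ⟨o, ho, ho'⟩ : ∃ o, q - 1 = 2 * o ∧ ¬ 2 ∣ o := ⟨(q - 1) / 2, by omega, by omega⟩
    have e : Nat.card G = 2 ^ (k + 1) * (q * o) := by
      rw [hG, ho, hk, pow_succ]; ring
    rw [e, Nat.factorization_mul (by positivity) (Nat.mul_ne_zero hqp.ne_zero (by omega)),
      Nat.Prime.factorization_pow Nat.prime_two]
    have : ¬ 2 ∣ q * o := by
      intro h
      rcases Nat.prime_two.dvd_mul.1 h with h | h
      · omega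
      · exact ho' h
    simp [Nat.factorization_eq_zero_of_not_dvd this]
  let S₀ : Sylow 2 G := Sylow.ofCard (Subgroup.centralizer ({r} : Set G)) (by rw [hC, hfac])
  obtain ⟨g, hg⟩ := MulAction.exists_smul_eq G S₀ H
  obtain ⟨h, rfl⟩ := QuotientGroup.mk_surjective g
  obtain ⟨y, hy⟩ := QuotientGroup.mk_surjective x
  obtain ⟨j, hj1, hj, hj'⟩ :=
    CfsgLib.Classical.PGL2Elliptic.exists_common_centralizing h2 hneg h (y * h)
  have hmem : ∀ z : G, ∀ u : G, u * (z * r * z⁻¹) = (z * r * z⁻¹) * u →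
      u ∈ MulAut.conj z • Subgroup.centralizer ({r} : Set G) := by
    intro z u hu
    rw [Subgroup.mem_pointwise_smul_iff_inv_smul_mem, MulAut.smul_def, MulAut.conj_inv_apply,
      Subgroup.mem_centralizer_singleton_iff]
    calc z⁻¹ * u * z * r = z⁻¹ * (u * (z * r * z⁻¹)) * z := by group
      _ = z⁻¹ * ((z * r * z⁻¹) * u) * z := by rw [hu]
      _ = r * (z⁻¹ * u * z) := by group
  have hH : (H : Subgroup G) = MulAut.conj (QuotientGroup.mk h : G) • Subgroup.centralizer ({r} : Set G) := by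
    rw [← hg]; rfl
  intro hbot
  apply hj1
  have hjm : j ∈ (H : Subgroup G) ⊓ MulAut.conj (QuotientGroup.mk y : G) • (H : Subgroup G) := by
    rw [hH, smul_smul, ← map_mul]
    exact ⟨hmem _ j (by simpa [r] using hj), hmem _ j (by simpa [r, mul_assoc] using hj')⟩
  rw [hy, hbot] at hjm
  exact Subgroup.mem_bot.1 hjm

end Cfsg.Agent.S2485
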