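import Cfsg.Statements.S2488
import Cfsg.Agent.Lib.Transfer.CyclicMaximal

set_option autoImplicit false
open scoped Pointwise
open Cfsg

namespace Cfsg.Agent.S2488

open Equiv in
/-- Reference involution of `A₆`. -/
def z0 : Equiv.Perm (Fin 6) := swap 0 1 * swap 2 3

theorem card_rel_three : (Finset.univ.filter fun w : Equiv.Perm (Fin 6) =>
    w * w = 1 ∧ Equiv.Perm.sign w = 1 ∧ (z0 * w) ^ 3 = 1).card < 32 := by decide +kernel
theorem card_rel_four : (Finset.univ.filter fun w : Equiv.Perm (Fin 6) =>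
    w * w = 1 ∧ Equiv.Perm.sign w = 1 ∧ (z0 * w) ^ 4 = 1).card < 32 := by decide +kernel
theorem card_rel_five : (Finset.univ.filter fun w : Equiv.Perm (Fin 6) =>
    w * w = 1 ∧ Equiv.Perm.sign w = 1 ∧ (z0 * w) ^ 5 = 1).card < 32 := by decide +kernel
theorem rel_cover : ∀ w : Equiv.Perm (Fin 6), w * w = 1 → Equiv.Perm.sign w = 1 →
    (z0 * w) ^ 3 = 1 ∨ (z0 * w) ^ 4 = 1 ∨ (z0 * w) ^ 5 = 1 := by decide +kernel
theorem class_eq : ((Finset.univ.filter fun g : Equiv.Perm (Fin 6) => Equiv.Perm.sign g = 1).image fun g => g * z0 * g⁻¹) =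
    Finset.univ.filter fun w : Equiv.Perm (Fin 6) => w * w = 1 ∧ Equiv.Perm.sign w = 1 ∧ w ≠ 1 := by decide +kernel
theorem class_card : (Finset.univ.filter fun w : Equiv.Perm (Fin 6) => w * w = 1 ∧ Equiv.Perm.sign w = 1 ∧ w ≠ 1).card = 45 := by
  decide +kernel

abbrev A6 := ↥(alternatingGroup (Fin 6))

/-- The involutions of `A₆` form one class. -/
theorem a6_conj {a b : A6} (ha : a * a = 1) (ha1 : a ≠ 1) (hb : b * b = 1) (hb1 : b ≠ 1) :
    ∃ g : A6, g * a * g⁻¹ = b := by
  have key : ∀ c : A6, c * c = 1 → c ≠ 1 → ∃ g : A6, (g : Equiv.Perm (Fin 6)) * z0 * (g : Equiv.Perm (Fin 6))⁻¹ = c := by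
    intro c hc hc1
    have h : (c : Equiv.Perm (Fin 6)) ∈ Finset.univ.filter fun w : Equiv.Perm (Fin 6) =>
        w * w = 1 ∧ Equiv.Perm.sign w = 1 ∧ w ≠ 1 :=
      Finset.mem_filter.2 ⟨Finset.mem_univ _, congrArg Subtype.val hc, c.2, fun h => hc1 (Subtype.ext h)⟩
    rw [← class_eq, Finset.mem_image] at h
    obtain ⟨g, hg, h⟩ := h
    exact ⟨⟨g, (Finset.mem_filter.1 hg).2⟩, h⟩
  obtain ⟨g, hg⟩ := key a ha ha1
  obtain ⟨k, hk⟩ := key b hb hb1
  refine ⟨k * g⁻¹, Subtype.ext ?_⟩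
  simp only [Subgroup.coe_mul, Subgroup.coe_inv]
  rw [← hk, ← hg]
  group

theorem a6_card_involutions : Nat.card {a : A6 // a * a = 1 ∧ a ≠ 1} = 45 := by
  rw [← class_card, ← Fintype.card_coe, ← Nat.card_eq_fintype_card]
  refine Nat.card_congr ⟨fun a => ⟨a.1.1, Finset.mem_filter.2 ⟨Finset.mem_univ _, congrArg Subtype.val a.2.1, a.1.2,
      fun h => a.2.2 (Subtype.ext h)⟩⟩,
    fun w => ⟨⟨w.1, (Finset.mem_filter.1 w.2).2.2.1⟩, Subtype.ext (Finset.mem_filter.1 w.2).2.1,
      fun h => (Finset.mem_filter.1 w.2).2.2.2 (congrArg Subtype.val h)⟩,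
    fun a => rfl, fun w => rfl⟩

/-- Involutions with a given relation to an involution are fewer than 32. -/
theorem a6_rel {z w : A6} (hz : z * z = 1) (hz1 : z ≠ 1) (hw : w * w = 1) :
    ∃ k : ℕ, (z * w) ^ k = 1 ∧ Nat.card {u : A6 // u * u = 1 ∧ (z * u) ^ k = 1} < 32 := by
  have hz0 : Equiv.Perm.sign z0 = 1 := by decide +kernel
  have hz0' : z0 * z0 = 1 := by decide +kernel
  have hz01 : z0 ≠ 1 := by decide +kernel
  obtain ⟨g, hg⟩ := a6_conj (a := z) (b := ⟨z0, hz0⟩) hz hz1 (Subtype.ext hz0') (fun h => hz01 (congrArg Subtype.val h))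
  have hconj : ∀ (u : A6) (k : ℕ), (z * u) ^ k = 1 ↔
      (z0 * ((MulAut.conj g u : A6) : Equiv.Perm (Fin 6))) ^ k = 1 := fun u k => by
    rw [← (MulAut.conj g).injective.eq_iff, map_pow, map_mul, map_one, MulAut.conj_apply g z, hg, ← OneMemClass.coe_eq_one]
    simp
  have hsq : ∀ u : A6, u * u = 1 → ((MulAut.conj g u : A6) : Equiv.Perm (Fin 6)) * (MulAut.conj g u : A6) = 1 :=
    fun u hu => by rw [← Subgroup.coe_mul, ← map_mul, hu, map_one]; rfl
  have hcard : ∀ k, Nat.card {u : A6 // u * u = 1 ∧ (z * u) ^ k = 1} ≤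
      (Finset.univ.filter fun v : Equiv.Perm (Fin 6) => v * v = 1 ∧ Equiv.Perm.sign v = 1 ∧ (z0 * v) ^ k = 1).card := by
    intro k
    rw [← Fintype.card_coe, ← Nat.card_eq_fintype_card]
    refine Nat.card_le_card_of_injective (fun u => ⟨((MulAut.conj g u.1 : A6) : Equiv.Perm (Fin 6)),
      Finset.mem_filter.2 ⟨Finset.mem_univ _, hsq _ u.2.1, (MulAut.conj g u.1).2, (hconj _ k).1 u.2.2⟩⟩) fun a b h => ?_
    exact Subtype.ext ((MulAut.conj g).injective (Subtype.ext (congrArg Subtype.val h :)))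
  rcases rel_cover _ (hsq w hw) (MulAut.conj g w).2 with h | h | h
  · exact ⟨3, (hconj w 3).2 h, (hcard 3).trans_lt card_rel_three⟩
  · exact ⟨4, (hconj w 4).2 h, (hcard 4).trans_lt card_rel_four⟩
  · exact ⟨5, (hconj w 5).2 h, (hcard 5).trans_lt card_rel_five⟩

/-- Let G be a finite group with a normal subgroup N of index 4 isomorphic to the alternating group of degree 6 and with trivial centralizer in G (so G is the full automorphism group of A₆). Then any two Sylow 2-subgroups of G have a non-trivial intersection: for a Sylow 2-subgroup H and every x ∈ G, H ∩ H^x ≠ 1. -/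
theorem result {G : Type*} [Group G] [Finite G] (N : Subgroup G) [N.Normal]
    (e : N ≃* alternatingGroup (Fin 6)) (hidx : N.index = 4)
    (hC : Subgroup.centralizer (N : Set G) = ⊥)
    (H : Sylow 2 G) (x : G) :
    (H : Subgroup G) ⊓ MulAut.conj x • (H : Subgroup G) ≠ ⊥ := by
  classical
  have hN : Nat.card N = 360 := by
    rw [Nat.card_congr e.toEquiv, nat_card_alternatingGroup, Nat.card_fin]; rfl
  have hG : Nat.card G = 1440 := by
    have := N.card_mul_index
    rw [hN, hidx] at this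
    omega
  have hH : Nat.card (H : Subgroup G) = 32 := by
    rw [H.card_eq_multiplicity, hG, show (1440 : ℕ) = 2 ^ 5 * 45 from rfl,
      Nat.factorization_mul (by norm_num) (by norm_num), Finsupp.add_apply,
      Nat.Prime.factorization_pow Nat.prime_two, Finsupp.single_eq_same,
      Nat.factorization_eq_zero_of_not_dvd (by norm_num : ¬ 2 ∣ 45)]
    rfl
  -- a central involution of `H` in `N`
  have hne : N.subgroupOf (H : Subgroup G) ≠ ⊥ := fun h => by
    have h1 : Nat.card (H : Subgroup G) ∣ 4 := by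
      have h2 : (N.subgroupOf (H : Subgroup G)).index ∣ 4 := hidx ▸ N.relIndex_dvd_index_of_normal (H : Subgroup G)
      rwa [h, Subgroup.index_bot] at h2
    rw [hH] at h1
    norm_num at h1
  obtain ⟨U, hUN, hUc, -, hU⟩ := CfsgLib.PGroup.exists_card_eq_le_center H.isPGroup' _ hne
  haveI : Nontrivial U := Finite.one_lt_card_iff_nontrivial.1 (by rw [hU]; norm_num)
  obtain ⟨u, hu1⟩ := exists_ne (1 : U)
  have hu2 : u * u = 1 := by
    have h := pow_card_eq_one' (x := u)
    rwa [hU, sq] at h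
  set z : G := ((u : (H : Subgroup G)) : G) with hz
  have hzN : z ∈ N := hUN u.2
  have hz1 : z ≠ 1 := fun h => hu1 (Subtype.ext (Subtype.ext h))
  have hzz : z * z = 1 := congrArg (fun v : U => ((v : (H : Subgroup G)) : G)) hu2
  have hzc : (H : Subgroup G) ≤ Subgroup.centralizer {z} := fun h hh => Subgroup.mem_centralizer_singleton_iff.2
    (congrArg Subtype.val (Subgroup.mem_center_iff.1 (hUc u.2) ⟨h, hh⟩))
  let a : A6 := e ⟨z, hzN⟩
  have ha : a * a = 1 := by rw [← map_mul, ← map_one e]; exact congrArg e (Subtype.ext hzz)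
  have ha1 : a ≠ 1 := fun h => hz1 (congrArg Subtype.val (e.injective (h.trans e.map_one.symm)))
  -- the centraliser of `z` is `H`
  have hcl : 45 ≤ (Subgroup.centralizer ({z} : Set G)).index := by
    rw [← a6_card_involutions]
    have hex : ∀ b : {b : A6 // b * b = 1 ∧ b ≠ 1}, ∃ n : N, (n : G) * z * (n : G)⁻¹ = e.symm b.1 := fun b => by
      obtain ⟨g, hg⟩ := a6_conj ha ha1 b.2.1 b.2.2
      refine ⟨e.symm g, ?_⟩
      rw [← hg, map_mul, map_mul, map_inv]
      simp [a]
    choose n hn using hex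
    show _ ≤ Nat.card (G ⧸ Subgroup.centralizer ({z} : Set G))
    refine Nat.card_le_card_of_injective (fun b => ((n b : G) : G ⧸ Subgroup.centralizer ({z} : Set G))) fun b c h => ?_
    have h1 := Subgroup.mem_centralizer_singleton_iff.1 (QuotientGroup.eq.1 h)
    apply Subtype.ext
    apply e.symm.injective
    apply Subtype.ext
    rw [← hn b, ← hn c]
    calc (n b : G) * z * (n b : G)⁻¹ = (n b : G) * (z * ((n b : G)⁻¹ * (n c : G))) * (n c : G)⁻¹ := by group
      _ = (n c : G) * z * (n c : G)⁻¹ := by rw [← h1]; group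
  have hCz : Subgroup.centralizer ({z} : Set G) = H := by
    refine (Subgroup.eq_of_le_of_card_ge hzc ?_).symm
    have h1 := (Subgroup.centralizer ({z} : Set G)).card_mul_index
    rw [hG] at h1
    rw [hH]
    nlinarith
  intro hbot
  -- the conjugate involution
  set w : G := x * z * x⁻¹ with hw
  have hwN : w ∈ N := ‹N.Normal›.conj_mem z hzN x
  have hww : w * w = 1 := by rw [hw, show x * z * x⁻¹ * (x * z * x⁻¹) = x * (z * z) * x⁻¹ by group, hzz]; group
  let b : A6 := e ⟨w, hwN⟩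
  have hb : b * b = 1 := by rw [← map_mul, ← map_one e]; exact congrArg e (Subtype.ext hww)
  obtain ⟨k, hk, hlt⟩ := a6_rel ha ha1 hb
  refine absurd hlt (not_lt.2 ?_)
  rw [← hH]
  have hkG : (z * w) ^ k = 1 := by
    have h : (⟨z, hzN⟩ * ⟨w, hwN⟩ : N) ^ k = 1 := e.injective (by rw [map_pow, map_mul, map_one]; exact hk)
    exact congrArg Subtype.val h
  have hmem : ∀ h : G, h * w * h⁻¹ ∈ N := fun h => ‹N.Normal›.conj_mem w hwN h
  refine Nat.card_le_card_of_injective (fun h : (H : Subgroup G) => (⟨e ⟨(h : G) * w * (h : G)⁻¹, hmem h⟩, ?_, ?_⟩ :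
    {u : A6 // u * u = 1 ∧ (a * u) ^ k = 1})) fun h h' heq => ?_
  · rw [← map_mul, ← map_one e]
    refine congrArg e (Subtype.ext ?_)
    show (h : G) * w * (h : G)⁻¹ * ((h : G) * w * (h : G)⁻¹) = 1
    rw [show (h : G) * w * (h : G)⁻¹ * ((h : G) * w * (h : G)⁻¹) = (h : G) * (w * w) * (h : G)⁻¹ by group, hww]
    group
  · rw [← map_mul, ← map_pow, ← map_one e]
    refine congrArg e (Subtype.ext ?_)
    show (z * ((h : G) * w * (h : G)⁻¹)) ^ k = 1
    have hc := Subgroup.mem_centralizer_singleton_iff.1 (hzc h.2)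
    rw [show z * ((h : G) * w * (h : G)⁻¹) = (h : G) * (z * w) * (h : G)⁻¹ by
      rw [← mul_assoc, ← mul_assoc, ← hc]; group, conj_pow, hkG]
    group
  have h1 : (h : G) * w * (h : G)⁻¹ = (h' : G) * w * (h' : G)⁻¹ :=
    congrArg Subtype.val (e.injective (congrArg Subtype.val heq))
  set d : G := (h' : G)⁻¹ * (h : G) with hd
  have hdw : d * w = w * d := by
    calc d * w = (h' : G)⁻¹ * ((h : G) * w * (h : G)⁻¹) * (h : G) := by rw [hd]; group
      _ = w * d := by rw [h1, hd]; group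
  have hdx : d ∈ MulAut.conj x • (H : Subgroup G) := by
    refine Subgroup.mem_pointwise_smul_iff_inv_smul_mem.2 ?_
    show (MulAut.conj x)⁻¹ d ∈ (H : Subgroup G)
    rw [show (MulAut.conj x)⁻¹ d = x⁻¹ * d * x from MulAut.conj_inv_apply x d]
    rw [← hCz, Subgroup.mem_centralizer_singleton_iff]
    calc x⁻¹ * d * x * z = x⁻¹ * (d * w) * x := by rw [hw]; group
      _ = z * (x⁻¹ * d * x) := by rw [hdw, hw]; group
  have hd1 : d ∈ (⊥ : Subgroup G) := hbot ▸ Subgroup.mem_inf.2 ⟨mul_mem (inv_mem h'.2) h.2, hdx⟩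
  exact Subtype.ext (inv_mul_eq_one.1 (Subgroup.mem_bot.1 hd1)).symm

end Cfsg.Agent.S2488
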