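import Cfsg.Statements.S2490
import Cfsg.Agent.Lib.KnownSimple.Order7920.Main

set_option autoImplicit false
open Cfsg

namespace Cfsg.Agent.S2490

/-- Let G be a finite group of order 7920 = 2⁴·3²·5·11 (the order of the smallest Mathieu group) and suppose its prime graph (vertices the prime divisors of the order, distinct p, q joined when there is an element of order pq) is disconnected: the prime divisors split into two non-empty parts with no element of order pq for p in one part and q in the other. Then G is simple. -/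
theorem result {G : Type*} [Group G] [Finite G] (hord : Nat.card G = 7920)
    (hdisc : (∃ A : Set ℕ, (∃ a ∈ A, a.Prime ∧ a ∣ Nat.card G) ∧ (∃ b ∉ A, b.Prime ∧ b ∣ Nat.card G) ∧
      ∀ a ∈ A, ∀ b ∉ A, a.Prime → b.Prime → a ∣ Nat.card G → b ∣ Nat.card G → ¬ ∃ g : G, orderOf g = a * b)) :
    IsSimpleGroup G := by
  haveI : Nontrivial G := Finite.one_lt_card_iff_nontrivial.1 (by rw [hord]; norm_num)
  obtain ⟨A, ⟨a, haA, hap, had⟩, ⟨b, hbA, hbp, hbd⟩, hA⟩ := hdisc
  have hmem : ∀ c : ℕ, c.Prime → c ∣ Nat.card G → c ∈ [2, 3, 5, 11] := by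
    intro c hc hcd
    rw [hord] at hcd
    have := (Nat.mem_primeFactors).2 ⟨hc, hcd, by norm_num⟩
    rw [show (7920 : ℕ) = 2 ^ 4 * 3 ^ 2 * 5 * 11 by rfl, Nat.primeFactors_mul (by norm_num) (by norm_num),
      Nat.primeFactors_mul (by norm_num) (by norm_num), Nat.primeFactors_mul (by norm_num) (by norm_num),
      Nat.primeFactors_prime_pow (by norm_num) Nat.prime_two,
      Nat.primeFactors_prime_pow (by norm_num) Nat.prime_three, Nat.Prime.primeFactors (by norm_num),
      Nat.Prime.primeFactors (by norm_num)] at this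
    simpa [or_assoc] using this
  have hpr : ∀ c : ℕ, c ∈ [2, 3, 5, 11] → c.Prime ∧ c ∣ Nat.card G := by
    intro c hc
    simp only [List.mem_cons, List.not_mem_nil, or_false] at hc
    rcases hc with rfl | rfl | rfl | rfl <;> (rw [hord]; norm_num)
  have hsplit : ∃ A : Set ℕ, ¬ ((2 ∈ A ↔ 11 ∈ A) ∧ (3 ∈ A ↔ 11 ∈ A) ∧ (5 ∈ A ↔ 11 ∈ A)) ∧
      ∀ a b, a ∈ [2, 3, 5, 11] → b ∈ [2, 3, 5, 11] → (∃ g : G, orderOf g = a * b) → (a ∈ A ↔ b ∈ A) := by
    refine ⟨A, fun ⟨h2, h3, h5⟩ => ?_, fun c d hc hd hg => ?_⟩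
    · have hall : ∀ c : ℕ, c ∈ [2, 3, 5, 11] → (c ∈ A ↔ 11 ∈ A) := by
        intro c hc
        simp only [List.mem_cons, List.not_mem_nil, or_false] at hc
        rcases hc with rfl | rfl | rfl | rfl
        exacts [h2, h3, h5, Iff.rfl]
      exact hbA ((hall b (hmem b hbp hbd)).2 ((hall a (hmem a hap had)).1 haA))
    · obtain ⟨g, hg⟩ := hg
      obtain ⟨hc1, hc2⟩ := hpr c hc
      obtain ⟨hd1, hd2⟩ := hpr d hd
      refine ⟨fun h => ?_, fun h => ?_⟩
      · by_contra h'
        exact hA c h d h' hc1 hd1 hc2 hd2 ⟨g, hg⟩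
      · by_contra h'
        exact hA d h c h' hd1 hc1 hd2 hc2 ⟨g, by rw [hg, mul_comm]⟩
  refine IsSimpleGroup.mk fun N hN => ?_
  by_contra h
  push Not at h
  haveI := hN
  exact CfsgLib.KnownSimple.Order7920.no_proper_normal hord hsplit N h.1 h.2

end Cfsg.Agent.S2490
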