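import Cfsg.Statements.S2493
import Cfsg.Agent.Lib.AltCover.Cover

set_option autoImplicit false
open Cfsg

namespace Cfsg.Agent.S2493

/-- Let n ≥ 5 and let G be a finite perfect group whose centre has order 2 with G/Z(G) isomorphic to the alternating group of degree n (the double cover of the alternating group). Then every element of G is a commutator. -/
theorem result {G : Type*} [Group G] [Finite G] (hperf : commutator G = ⊤) {n : ℕ} (hn : 5 ≤ n)
    (hZ : Nat.card (Subgroup.center G) = 2) (e : G ⧸ Subgroup.center G ≃* alternatingGroup (Fin n))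
    (g : G) :
    ∃ a b : G, a * b * a⁻¹ * b⁻¹ = g := by
  obtain ⟨z, hz1, huniv⟩ := (Nat.card_eq_two_iff' (1 : Subgroup.center G)).1 hZ
  refine CfsgLib.AltCover.Cover.exists_commutator
    (f := e.toMonoidHom.comp (QuotientGroup.mk' (Subgroup.center G))) (z := (z : G))
    ⟨e.surjective.comp (QuotientGroup.mk'_surjective _), fun h => ?_, fun h => hz1 (Subtype.ext h),
      fun h => Subgroup.mem_center_iff.1 z.2 h, hperf⟩ hn g
  rw [MonoidHom.comp_apply, MulEquiv.coe_toMonoidHom, MulEquiv.map_eq_one_iff,
    QuotientGroup.mk'_apply, QuotientGroup.eq_one_iff]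
  constructor
  · intro hh
    by_cases h1 : (⟨h, hh⟩ : Subgroup.center G) = 1
    · exact .inl (congrArg Subtype.val h1)
    · exact .inr (congrArg Subtype.val (huniv _ h1))
  · rintro (rfl | rfl)
    · exact one_mem _
    · exact z.2

end Cfsg.Agent.S2493
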