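import Cfsg.Statements.S2495
import Cfsg.Agent.Lib.PrimeGraphPSL.HalfTorus

set_option autoImplicit false
open Cfsg

namespace Cfsg.Agent.S2495

/-- Let q be an odd prime power, n ≥ 4 even, and L = PSL(n,q). Then L has an element of order q^(n/2) + 1 if and only if the 2-part of n exceeds the 2-part of q − 1. -/
theorem result {F : Type*} [Field F] [Fintype F] {q : ℕ} (hF : Fintype.card F = q) (hodd : Odd q)
    {n : ℕ} (hn : 4 ≤ n) (heven : Even n) :
    (∃ g : Matrix.ProjectiveSpecialLinearGroup (Fin n) F, orderOf g = q ^ (n / 2) + 1) ↔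
      padicValNat 2 (q - 1) < padicValNat 2 n := by
  obtain ⟨m, rfl⟩ := heven
  subst hF
  have hm : (m + m) / 2 = m := by omega
  rw [hm]
  have hq := Fintype.one_lt_card (α := F)
  have key : Nat.gcd (m + m) (Fintype.card F - 1) ∣ ∑ i ∈ Finset.range m, Fintype.card F ^ i ↔
      padicValNat 2 (Fintype.card F - 1) < padicValNat 2 (m + m) := by
    rw [CfsgLib.PrimeGraphPSL.geom_mod (by omega) (Nat.gcd_dvd_right _ _), ← two_mul,
      CfsgLib.PrimeGraphPSL.gcd_two_mul_dvd_iff (by omega) (by omega)]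
  rw [← key]
  exact ⟨fun ⟨g, hg⟩ => CfsgLib.PrimeGraphPSL.half_torus_forward (two_mul m).symm (by omega) hodd g hg,
    fun h => CfsgLib.PrimeGraphPSL.half_torus_backward (two_mul m).symm (by omega) h⟩

end Cfsg.Agent.S2495
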