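import Cfsg.Statements.S2496
import Cfsg.Agent.Lib.KnownSimple.Spectra.UnitaryHalfTorus

set_option autoImplicit false
open Cfsg

namespace Cfsg.Agent.S2496

/-- Let q be an odd prime power, n ≥ 4 even, and U = PSU(n,q) (realised over the field with q² elements). Then U has an element of order q^(n/2) + (−1)^(n/2) — that is, q^(n/2) + 1 when n/2 is even and q^(n/2) − 1 when n/2 is odd — if and only if the 2-part of n exceeds the 2-part of q + 1. -/
theorem result {F : Type*} [Field F] [Fintype F] {q : ℕ} (hF : Fintype.card F = q ^ 2) (hodd : Odd q)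
    {n : ℕ} (hn : 4 ≤ n) (heven : Even n) :
    (∃ g : Cfsg.PSU n F q, orderOf g = if Even (n / 2) then q ^ (n / 2) + 1 else q ^ (n / 2) - 1) ↔
      padicValNat 2 (q + 1) < padicValNat 2 n := by
  obtain ⟨m, rfl⟩ := heven
  obtain ⟨p, hp⟩ := CharP.exists F
  haveI hpp : Fact p.Prime := ⟨CharP.char_is_prime F p⟩
  obtain ⟨f, -, hf⟩ := FiniteField.card F p
  rw [hF] at hf
  obtain ⟨e, -, he⟩ := (Nat.dvd_prime_pow hpp.out).1 (hf ▸ dvd_pow_self q two_ne_zero : q ∣ p ^ (f : ℕ))
  obtain ⟨τ, hτ, hττ, -⟩ := CfsgLib.Classical.exists_qPow hF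
  let σ : F ≃+* F := RingEquiv.ofBijective τ ⟨τ.injective, fun x => ⟨τ x, hττ x⟩⟩
  have hq2 := CfsgLib.Classical.two_le_q hF
  rw [show (m + m) / 2 = m by omega, ← CfsgLib.Spectra.halfN_eq (by omega : 1 ≤ q), ← two_mul,
    ← CfsgLib.Spectra.gcd_dvd_half_iff (by omega : m ≠ 0)]
  constructor
  · rintro ⟨g, hg⟩
    obtain ⟨s, rfl⟩ := QuotientGroup.mk'_surjective _ g
    exact CfsgLib.Spectra.half_torus_forward (σ := σ) hF (fun x => hτ x) hpp.out he hodd (by omega) s hg
  · exact CfsgLib.Spectra.half_torus_backward (σ := σ) hF (fun x => hτ x) (by omega)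

end Cfsg.Agent.S2496
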