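import Cfsg.Statements.S2503
import Cfsg.Agent.Lib.SL2Table.SL2EvenABA
import Cfsg.Agent.Lib.Spectrum.SL2

set_option autoImplicit false
open Cfsg

namespace Cfsg.Agent.S2503

/-- Let F be a finite field with q = 2^t ≥ 4 elements and L = PSL(2,F). Then L has a cyclic subgroup A of order q + 1 and an elementary abelian 2-subgroup B of order q such that L = ABA: every element of L is a product a·b·a' with a, a' ∈ A and b ∈ B. -/
theorem result {F : Type*} [Field F] [Fintype F]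
    (h2 : 2 ∣ Fintype.card F) (h4 : 4 ≤ Fintype.card F) :
    ∃ A B : Subgroup (Matrix.ProjectiveSpecialLinearGroup (Fin 2) F),
      IsCyclic A ∧ Nat.card A = Fintype.card F + 1 ∧ IsMulCommutative B ∧ (∀ b ∈ B, b * b = 1) ∧
        Nat.card B = Fintype.card F ∧
        ∀ g : Matrix.ProjectiveSpecialLinearGroup (Fin 2) F, ∃ a ∈ A, ∃ b ∈ B, ∃ c ∈ A, g = a * b * c := by
  classical
  haveI : CharP F 2 := ringChar.of_eq (FiniteField.even_card_iff_char_two.2 (by omega))
  obtain ⟨μ, hμ⟩ := CfsgLib.SL2Table.exists_aniso (F := F)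
  set π := QuotientGroup.mk' (Subgroup.center (Matrix.SpecialLinearGroup (Fin 2) F)) with hπ
  have hinj : Function.Injective π := by
    rw [← MonoidHom.ker_eq_bot_iff, hπ, QuotientGroup.ker_mk']
    exact CfsgLib.Spectrum.sl2_center_eq_bot
  refine ⟨(CfsgLib.SL2Table.evTorus μ).map π, CfsgLib.SL2Table.evUni.map π, ?_, ?_, ?_, ?_, ?_, fun g => ?_⟩
  · haveI := CfsgLib.SL2Table.isCyclic_evTorus hμ
    exact isCyclic_of_surjective _ ((CfsgLib.SL2Table.evTorus μ).equivMapOfInjective π hinj).surjective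
  · rw [← Nat.card_congr ((CfsgLib.SL2Table.evTorus μ).equivMapOfInjective π hinj).toEquiv]
    exact CfsgLib.SL2Table.card_evTorus hμ
  · refine ⟨⟨fun ⟨_, a, ha, ea⟩ ⟨_, b, hb, eb⟩ => Subtype.ext ?_⟩⟩
    subst ea; subst eb
    show π a * π b = π b * π a
    rw [← map_mul, ← map_mul, (CfsgLib.SL2Table.evUni_comm ha hb).1]
  · rintro _ ⟨a, ha, rfl⟩
    rw [← map_mul, (CfsgLib.SL2Table.evUni_comm ha ha).2, map_one]
  · rw [← Nat.card_congr (CfsgLib.SL2Table.evUni.equivMapOfInjective π hinj).toEquiv]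
    exact CfsgLib.SL2Table.card_evUni
  · obtain ⟨s, rfl⟩ := QuotientGroup.mk'_surjective (Subgroup.center (Matrix.SpecialLinearGroup (Fin 2) F)) g
    obtain ⟨a, ha, b, hb, c, hc, rfl⟩ := CfsgLib.SL2Table.exists_aba hμ s
    exact ⟨_, ⟨a, ha, rfl⟩, _, ⟨b, hb, rfl⟩, _, ⟨c, hc, rfl⟩, by rw [← hπ, map_mul, map_mul]⟩

end Cfsg.Agent.S2503
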