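import Cfsg.Statements.S2505
import Mathlib

set_option autoImplicit false

namespace CfsgLib.SymAbelian

open Equiv

/-- The largest product of the parts of a partition. -/
def bnd : ℕ → ℕ
  | 0 => 1
  | 1 => 1
  | 2 => 2
  | 3 => 3
  | 4 => 4
  | (n + 5) => 3 * bnd (n + 2)

theorem mul_bnd_le : ∀ (N m j : ℕ), m + j = N → 1 ≤ m → m * bnd j ≤ bnd (m + j) := by
  intro N
  induction N using Nat.strong_induction_on with
  | _ N ih =>
    intro m j hN hm
    by_cases h5 : 5 ≤ m
    · obtain ⟨t, rfl⟩ : ∃ t, m = t + 5 := ⟨m - 5, by omega⟩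
      have h := ih (t + 2 + j) (by omega) (t + 2) j rfl (by omega)
      rw [show t + 5 + j = (t + j) + 5 by ring, bnd, show t + j + 2 = t + 2 + j by ring]
      calc (t + 5) * bnd j ≤ 3 * (t + 2) * bnd j := Nat.mul_le_mul_right _ (by omega)
        _ = 3 * ((t + 2) * bnd j) := mul_assoc _ _ _
        _ ≤ _ := Nat.mul_le_mul_left _ h
    · by_cases hj : 5 ≤ j
      · obtain ⟨t, rfl⟩ : ∃ t, j = t + 5 := ⟨j - 5, by omega⟩
        have h := ih (m + (t + 2)) (by omega) m (t + 2) rfl hm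
        rw [show m + (t + 5) = (m + t) + 5 by ring, bnd, bnd, show m + t + 2 = m + (t + 2) by ring]
        calc m * (3 * bnd (t + 2)) = 3 * (m * bnd (t + 2)) := by ring
          _ ≤ _ := Nat.mul_le_mul_left _ h
      · interval_cases m <;> interval_cases j <;> simp [bnd]

theorem card_le_bnd : ∀ (n : ℕ) (α : Type) [Finite α], Nat.card α = n →
    ∀ A : Subgroup (Perm α), IsMulCommutative A → Nat.card A ≤ bnd n := by
  intro n
  induction n using Nat.strong_induction_on with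
  | _ n ih =>
    intro α _ hn A hA
    classical
    rcases isEmpty_or_nonempty α with he | ⟨⟨x⟩⟩
    · have : n = 0 := by rw [← hn, Nat.card_of_isEmpty]
      subst this
      exact Finite.card_le_one_iff_subsingleton.2 inferInstance
    let O : Set α := {y | ∃ a : A, (a : Perm α) x = y}
    have hinv : ∀ a : A, ∀ y, y ∉ O ↔ (a : Perm α) y ∉ O := by
      intro a y
      rw [not_iff_not]
      constructor
      · rintro ⟨b, rfl⟩
        exact ⟨a * b, rfl⟩
      · rintro ⟨b, hb⟩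
        exact ⟨a⁻¹ * b, by simp [hb]⟩
    let ψ : A →* Perm {y // y ∉ O} :=
      { toFun := fun a => (a : Perm α).subtypePerm fun y => (hinv a y).symm
        map_one' := Equiv.ext fun y => Subtype.ext rfl
        map_mul' := fun a b => Equiv.ext fun y => Subtype.ext rfl }
    have hcomm : IsMulCommutative ψ.range := by
      refine ⟨⟨?_⟩⟩
      rintro ⟨_, a, rfl⟩ ⟨_, b, rfl⟩
      refine Subtype.ext ?_
      show ψ a * ψ b = ψ b * ψ a
      rw [← map_mul, ← map_mul, hA.is_comm.comm a b]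
    have hker : Nat.card ψ.ker ≤ Nat.card O := by
      refine Nat.card_le_card_of_injective (fun a => ⟨((a : A) : Perm α) x, a, rfl⟩) ?_
      intro a b hab
      have hab' : ((a : A) : Perm α) x = ((b : A) : Perm α) x := congrArg Subtype.val hab
      refine Subtype.ext (Subtype.ext (Equiv.ext fun y => ?_))
      by_cases hy : y ∈ O
      · obtain ⟨c, rfl⟩ := hy
        have h1 := congrArg (fun g : A => (g : Perm α) x) (hA.is_comm.comm (a : A) c)
        have h2 := congrArg (fun g : A => (g : Perm α) x) (hA.is_comm.comm (b : A) c)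
        simp only [Subgroup.coe_mul, Perm.mul_apply] at h1 h2
        rw [h1, h2, hab']
      · have key : ∀ g : ψ.ker, ((g : A) : Perm α) y = y := fun g =>
          congrArg Subtype.val (Equiv.congr_fun (MonoidHom.mem_ker.1 g.2) ⟨y, hy⟩)
        rw [key a, key b]
    have hsum : Nat.card O + Nat.card {y // y ∉ O} = n := by
      rw [← hn, ← Nat.card_sum]
      exact Nat.card_congr (Equiv.sumCompl (fun y => y ∈ O))
    have : Nonempty O := ⟨⟨x, 1, rfl⟩⟩
    have hO : 1 ≤ Nat.card O := Nat.card_pos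
    have h := ih (Nat.card {y // y ∉ O}) (by omega) _ rfl ψ.range hcomm
    calc Nat.card A = Nat.card ψ.range * Nat.card ψ.ker := by
          rw [← Subgroup.index_ker, Subgroup.index_mul_card]
      _ ≤ bnd (Nat.card {y // y ∉ O}) * Nat.card O := Nat.mul_le_mul h hker
      _ = Nat.card O * bnd (Nat.card {y // y ∉ O}) := mul_comm _ _
      _ ≤ _ := (mul_bnd_le _ _ _ rfl hO).trans_eq (by rw [hsum])

theorem exists_abelian {r n : ℕ} (m : Fin r → ℕ) (h0 : ∀ i, m i ≠ 0) (hn : ∑ i, m i = n) :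
    ∃ A : Subgroup (Perm (Fin n)), IsMulCommutative A ∧ Nat.card A = ∏ i, m i := by
  have : ∀ i, NeZero (m i) := fun i => ⟨h0 i⟩
  let e : (Σ i, Multiplicative (ZMod (m i))) ≃ Fin n := (Finite.equivFin _).trans (finCongr (by
    rw [Nat.card_sigma]
    simpa [Nat.card_congr Multiplicative.toAdd, Nat.card_zmod] using hn))
  let f : (∀ i, Multiplicative (ZMod (m i))) →* Perm (Σ i, Multiplicative (ZMod (m i))) :=
    { toFun := fun g => Equiv.sigmaCongrRight fun i => Equiv.mulLeft (g i)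
      map_one' := Equiv.ext fun ⟨i, z⟩ => by simp
      map_mul' := fun g h => Equiv.ext fun ⟨i, z⟩ => by simp [mul_assoc] }
  let F := e.permCongrHom.toMonoidHom.comp f
  have hinj : Function.Injective F := by
    refine e.permCongrHom.injective.comp fun g h hgh => funext fun i => ?_
    have := Equiv.congr_fun hgh ⟨i, 1⟩
    simpa [f] using this
  refine ⟨F.range, ⟨⟨?_⟩⟩, ?_⟩
  · rintro ⟨_, a, rfl⟩ ⟨_, b, rfl⟩
    refine Subtype.ext ?_
    show F a * F b = F b * F a
    rw [← map_mul, ← map_mul, mul_comm]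
  · rw [← Nat.card_congr (MonoidHom.ofInjective hinj).toEquiv, Nat.card_pi]
    simp [Nat.card_congr Multiplicative.toAdd, Nat.card_zmod]

theorem bnd_formulas : ∀ j : ℕ, bnd (3 * (j + 1)) = 3 ^ (j + 1) ∧ bnd (3 * (j + 1) + 1) = 4 * 3 ^ j ∧
    bnd (3 * (j + 1) + 2) = 2 * 3 ^ (j + 1)
  | 0 => by simp [bnd]
  | j + 1 => by
    obtain ⟨a, b, c⟩ := bnd_formulas j
    refine ⟨?_, ?_, ?_⟩
    · rw [show 3 * (j + 1 + 1) = (3 * j + 1) + 5 by ring, bnd, show 3 * j + 1 + 2 = 3 * (j + 1) by ring, a]; ring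
    · rw [show 3 * (j + 1 + 1) + 1 = (3 * j + 2) + 5 by ring, bnd, show 3 * j + 2 + 2 = 3 * (j + 1) + 1 by ring, b]; ring
    · rw [show 3 * (j + 1 + 1) + 2 = (3 * j + 3) + 5 by ring, bnd, show 3 * j + 3 + 2 = 3 * (j + 1) + 2 by ring, c]; ring

theorem greatest {r n v : ℕ} (m : Fin r → ℕ) (h0 : ∀ i, m i ≠ 0) (hn : ∑ i, m i = n)
    (hv : ∏ i, m i = v) (hb : bnd n = v) :
    IsGreatest {c : ℕ | ∃ A : Subgroup (Perm (Fin n)), IsMulCommutative A ∧ Nat.card A = c} v := by
  obtain ⟨A, hA, hcard⟩ := exists_abelian m h0 hn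
  refine ⟨⟨A, hA, hcard.trans hv⟩, ?_⟩
  rintro c ⟨B, hB, rfl⟩
  exact hb ▸ card_le_bnd n (Fin n) (Nat.card_fin n) B hB

end CfsgLib.SymAbelian
open Cfsg

namespace Cfsg.Agent.S2505

/-- The largest order of an abelian subgroup of the symmetric group of degree n is 3^k when n = 3k, 4·3^(k−1) when n = 3k + 1, and 2·3^k when n = 3k + 2, for every k ≥ 1. -/
theorem result (k : ℕ) (hk : 1 ≤ k) :
    IsGreatest {c : ℕ | ∃ A : Subgroup (Equiv.Perm (Fin (3 * k))), IsMulCommutative A ∧ Nat.card A = c} (3 ^ k) ∧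
    IsGreatest {c : ℕ | ∃ A : Subgroup (Equiv.Perm (Fin (3 * k + 1))), IsMulCommutative A ∧ Nat.card A = c}
      (4 * 3 ^ (k - 1)) ∧
    IsGreatest {c : ℕ | ∃ A : Subgroup (Equiv.Perm (Fin (3 * k + 2))), IsMulCommutative A ∧ Nat.card A = c}
      (2 * 3 ^ k) := by
  obtain ⟨j, rfl⟩ : ∃ j, k = j + 1 := ⟨k - 1, by omega⟩
  obtain ⟨a, b, c⟩ := CfsgLib.SymAbelian.bnd_formulas j
  refine ⟨CfsgLib.SymAbelian.greatest (fun _ : Fin (j + 1) => 3) (fun _ => by norm_num) ?_ ?_ a,
    CfsgLib.SymAbelian.greatest (Fin.cons 4 fun _ : Fin j => 3) ?_ ?_ ?_ (by simpa using b),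
    CfsgLib.SymAbelian.greatest (Fin.cons 2 fun _ : Fin (j + 1) => 3) ?_ ?_ ?_ c⟩
  · simp [mul_comm]
  · simp
  · intro i; refine Fin.cases ?_ (fun _ => ?_) i <;> simp
  · simp [Fin.sum_univ_succ]; ring
  · simp [Fin.prod_univ_succ]
  · intro i; refine Fin.cases ?_ (fun _ => ?_) i <;> simp
  · rw [Fin.sum_univ_succ]; simp; ring
  · rw [Fin.prod_univ_succ]; simp

end Cfsg.Agent.S2505
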