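import Cfsg.Statements.S2510
import Cfsg.Agent.Lib.KnownSimple.SpectrumPowers
import Cfsg.Agent.Lib.KnownSimple.PSLSpectrum

set_option autoImplicit false
open Cfsg CfsgLib.KnownSimple

namespace Cfsg.Agent.S2510

lemma mult_r_pow {m r : ℕ} (w : Multiplicative (Fin m → ZMod r)) : orderOf w ∣ r := by
  rw [orderOf_dvd_iff_pow_eq_one]
  apply Multiplicative.toAdd.injective
  funext i
  rw [toAdd_pow, Pi.smul_apply, nsmul_eq_mul, ZMod.natCast_self, zero_mul]
  rfl

variable {F : Type*} [Field F] [Fintype F]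

/-- A tuple whose order absorbs the prime `r`: either improve one component or cover both bad components. -/
lemma main {p a n r : ℕ} (hp : p.Prime) (ha : 1 ≤ a) (hF : Fintype.card F = p ^ a) (hn : 2 ≤ n)
    (hr : r.Prime) (hrq : r ∣ Fintype.card F - 1) (hrn : ¬ r ∣ n) :
    ∃ P N : ℕ, P.Coprime N ∧
      (∀ x : Matrix.ProjectiveSpecialLinearGroup (Fin n) F,
        (∃ y : Matrix.ProjectiveSpecialLinearGroup (Fin n) F, Nat.lcm (orderOf x) r ∣ orderOf y) ∨
          orderOf x ∣ P * N) ∧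
      (∃ y : Matrix.ProjectiveSpecialLinearGroup (Fin n) F, P ∣ orderOf y) ∧
      (∃ y : Matrix.ProjectiveSpecialLinearGroup (Fin n) F, N ∣ orderOf y) ∧
      (∃ y : Matrix.ProjectiveSpecialLinearGroup (Fin n) F, r ∣ orderOf y) ∧
      ((¬ ∃ j : ℕ, n - 1 = p ^ j) →
        ∃ y : Matrix.ProjectiveSpecialLinearGroup (Fin n) F, Nat.lcm P r ∣ orderOf y) := by
  haveI : Fact p.Prime := ⟨hp⟩
  haveI : CharP F p := charP_of_card_eq_prime_pow hF
  set c := Nat.clog p n with hc
  have hP : n ≤ p ^ c := Nat.le_pow_clog hp.one_lt n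
  obtain ⟨Y, hYp, hY⟩ := orderOf_pslMk_dvd_singer (F := F) (n := n) (by omega) (p := p) (c := c) hP
  let u : Matrix.SpecialLinearGroup (Fin n) F := ⟨jordanUni F n, det_jordanUni n⟩
  have hu : orderOf (pslMk u) = p ^ c := by
    rw [orderOf_pslMk_of_pow_char (by omega) (p := p) (c := c) u
      (jordanUni_pow_eq_one_iff.2 hP)]
    exact orderOf_jordanUni hn
  have hle : n - 1 ≤ n := Nat.sub_le n 1
  set e : Matrix (Fin n) (Fin n) F := blockEmb hle 0 with he
  have he' : IsIdempotentElem e := by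
    rw [IsIdempotentElem, he, ← map_mul, mul_zero]
  haveI : Nonempty (Fin (n - 1)) := ⟨⟨0, by omega⟩⟩
  have he1 : e ≠ 1 := by
    rw [he, ← map_one (blockEmb (F := F) hle)]
    exact fun h => zero_ne_one (blockEmb_injective hle h)
  have he0 : e ≠ 0 := by
    intro h
    have h1 : (Matrix.fromBlocks (0 : Matrix (Fin (n - 1)) (Fin (n - 1)) F) 0 0
        (1 : Matrix (Fin (n - (n - 1))) (Fin (n - (n - 1))) F)) = 0 :=
      (Matrix.reindexAlgEquiv F F _).injective (h.trans (map_zero _).symm)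
    have := congrFun (congrFun h1 (Sum.inr ⟨0, by omega⟩)) (Sum.inr ⟨0, by omega⟩)
    simp at this
  refine ⟨p ^ c, orderOf (pslMk Y), hYp.symm.pow_left c, fun x => ?_, ⟨_, hu.symm.dvd⟩,
    ⟨_, dvd_rfl⟩, ?_, fun hj => ?_⟩
  · obtain ⟨s, rfl⟩ := QuotientGroup.mk'_surjective _ x
    by_cases hs : ∀ e : Matrix (Fin n) (Fin n) F,
        e ∈ Algebra.adjoin F {(s : Matrix (Fin n) (Fin n) F)} → IsIdempotentElem e → e = 0 ∨ e = 1
    · exact Or.inr (hY s hs)
    · push Not at hs
      obtain ⟨f, hf, hfi, hf0, hf1⟩ := hs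
      refine Or.inl (exists_orderOf_lcm_dvd (by omega) hr hrq hrn s f hfi hf0 hf1 ?_)
      refine Algebra.adjoin_induction ?_ ?_ ?_ ?_ hf
      · intro y hy; rw [Set.mem_singleton_iff] at hy; subst hy; exact Commute.refl _
      · exact fun g => Algebra.commutes g _
      · exact fun _ _ _ _ h h' => h.add_left h'
      · exact fun _ _ _ _ h h' => h.mul_left h'
  · obtain ⟨y, hy⟩ := exists_orderOf_lcm_dvd (by omega) hr hrq hrn (1 : Matrix.SpecialLinearGroup (Fin n) F)
      e he' he0 he1 (Commute.one_right _)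
    exact ⟨y, (Nat.dvd_lcm_right _ _).trans hy⟩
  · have hn3 : 2 ≤ n - 1 := by
      by_contra h
      exact hj ⟨0, by rw [pow_zero]; omega⟩
    have hclog : Nat.clog p (n - 1) = c := by
      apply le_antisymm (Nat.clog_mono_right p (Nat.sub_le n 1))
      refine Nat.clog_le_of_le_pow ?_
      have h1 := Nat.le_pow_clog hp.one_lt (n - 1)
      rcases Nat.lt_or_ge (p ^ Nat.clog p (n - 1)) n with h2 | h2
      · exact absurd ⟨_, (by omega : n - 1 = p ^ Nat.clog p (n - 1))⟩ hj
      · exact h2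
    let u' : Matrix.SpecialLinearGroup (Fin n) F :=
      ⟨blockEmb hle (jordanUni F (n - 1)), by rw [det_blockEmb, det_jordanUni]⟩
    have hu' : orderOf (pslMk u') = p ^ c := by
      rw [orderOf_pslMk_of_pow_char (by omega) (p := p) (c := c) u' ?_]
      · show orderOf (blockEmb hle (jordanUni F (n - 1))) = _
        rw [orderOf_injective _ (blockEmb_injective hle), orderOf_jordanUni hn3, hclog]
      · show blockEmb hle (jordanUni F (n - 1)) ^ p ^ c = 1
        rw [← map_pow, jordanUni_pow_eq_one_iff.2 (by omega), map_one]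
    obtain ⟨y, hy⟩ := exists_orderOf_lcm_dvd (by omega) hr hrq hrn u' e he' he0 he1
      ((Commute.zero_left (jordanUni F (n - 1))).map (blockEmb hle))
    exact ⟨y, by rw [hu'] at hy; exact hy⟩

/-- Let F be a finite field with q = p^a elements, n ≥ 2 (with q ≥ 4 when n = 2), L = PSL(n, F), and let r be a prime dividing q − 1 and not dividing n. Then for every m the direct product L × L × L × (ℤ/r)^m has the same set of element orders as L × L × L; and if n − 1 ≠ p^j for every j ≥ 0 (so never when n = 2, since 1 = p^0), then already L × L × (ℤ/r)^m has the same set of element orders as L × L. -/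
theorem result {F : Type*} [Field F] [Fintype F] (p a n r m : ℕ) (hp : p.Prime) (ha : 1 ≤ a) (hF : Fintype.card F = p ^ a)
    (hn : 2 ≤ n) (hn2 : n = 2 → 4 ≤ Fintype.card F) (hr : r.Prime) (hrq : r ∣ Fintype.card F - 1) (hrn : ¬ r ∣ n) :
    Set.range (orderOf : Matrix.ProjectiveSpecialLinearGroup (Fin n) F × Matrix.ProjectiveSpecialLinearGroup (Fin n) F × Matrix.ProjectiveSpecialLinearGroup (Fin n) F × Multiplicative (Fin m → ZMod r) → ℕ) =
      Set.range (orderOf : Matrix.ProjectiveSpecialLinearGroup (Fin n) F × Matrix.ProjectiveSpecialLinearGroup (Fin n) F × Matrix.ProjectiveSpecialLinearGroup (Fin n) F → ℕ) ∧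
    ((¬ ∃ j : ℕ, n - 1 = p ^ j) →
      Set.range (orderOf : Matrix.ProjectiveSpecialLinearGroup (Fin n) F × Matrix.ProjectiveSpecialLinearGroup (Fin n) F × Multiplicative (Fin m → ZMod r) → ℕ) =
        Set.range (orderOf : Matrix.ProjectiveSpecialLinearGroup (Fin n) F × Matrix.ProjectiveSpecialLinearGroup (Fin n) F → ℕ)) := by
  haveI : NeZero r := ⟨hr.ne_zero⟩
  obtain ⟨P, N, hPN, hd, ⟨u, hu⟩, ⟨Y, hY⟩, ⟨z, hz⟩, hsq⟩ := main hp ha hF hn hr hrq hrn
  constructor
  · refine range_orderOf_eq_of_forall_dvd ?_ fun x => ⟨(x.1, x.2.1, x.2.2, 1), ?_⟩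
    · rintro ⟨x₁, x₂, x₃, w⟩
      have hw := mult_r_pow w
      rcases hd x₁ with ⟨y, hy⟩ | h₁
      · refine ⟨(y, x₂, x₃), ?_⟩
        simp only [Prod.orderOf]
        have hy1 := (Nat.dvd_lcm_left _ _).trans hy
        have hy2 := hw.trans ((Nat.dvd_lcm_right _ _).trans hy)
        exact Nat.lcm_dvd (hy1.trans (Nat.dvd_lcm_left _ _))
          (Nat.lcm_dvd ((Nat.dvd_lcm_left _ _).trans (Nat.dvd_lcm_right _ _))
            (Nat.lcm_dvd ((Nat.dvd_lcm_right _ _).trans (Nat.dvd_lcm_right _ _))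
              (hy2.trans (Nat.dvd_lcm_left _ _))))
      rcases hd x₂ with ⟨y, hy⟩ | h₂
      · refine ⟨(x₁, y, x₃), ?_⟩
        simp only [Prod.orderOf]
        have hy1 := (Nat.dvd_lcm_left _ _).trans hy
        have hy2 := hw.trans ((Nat.dvd_lcm_right _ _).trans hy)
        exact Nat.lcm_dvd (Nat.dvd_lcm_left _ _)
          (Nat.lcm_dvd ((hy1.trans (Nat.dvd_lcm_left _ _)).trans (Nat.dvd_lcm_right _ _))
            (Nat.lcm_dvd ((Nat.dvd_lcm_right _ _).trans (Nat.dvd_lcm_right _ _))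
              ((hy2.trans (Nat.dvd_lcm_left _ _)).trans (Nat.dvd_lcm_right _ _))))
      rcases hd x₃ with ⟨y, hy⟩ | h₃
      · refine ⟨(x₁, x₂, y), ?_⟩
        simp only [Prod.orderOf]
        have hy1 := (Nat.dvd_lcm_left _ _).trans hy
        have hy2 := hw.trans ((Nat.dvd_lcm_right _ _).trans hy)
        exact Nat.lcm_dvd (Nat.dvd_lcm_left _ _)
          (Nat.lcm_dvd ((Nat.dvd_lcm_left _ _).trans (Nat.dvd_lcm_right _ _))
            (Nat.lcm_dvd ((hy1.trans (Nat.dvd_lcm_right _ _)).trans (Nat.dvd_lcm_right _ _))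
              ((hy2.trans (Nat.dvd_lcm_right _ _)).trans (Nat.dvd_lcm_right _ _))))
      refine ⟨(u, Y, z), ?_⟩
      simp only [Prod.orderOf]
      have hk : P * N ∣ (orderOf u).lcm ((orderOf Y).lcm (orderOf z)) :=
        hPN.mul_dvd_of_dvd_of_dvd (hu.trans (Nat.dvd_lcm_left _ _))
          ((hY.trans (Nat.dvd_lcm_left _ _)).trans (Nat.dvd_lcm_right _ _))
      exact Nat.lcm_dvd (h₁.trans hk) (Nat.lcm_dvd (h₂.trans hk) (Nat.lcm_dvd (h₃.trans hk)
        ((hw.trans hz).trans ((Nat.dvd_lcm_right _ _).trans (Nat.dvd_lcm_right _ _)))))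
    · simp only [Prod.orderOf, orderOf_one, Nat.lcm_one_right]
      exact dvd_rfl
  · intro hj
    obtain ⟨v, hv⟩ := hsq hj
    refine range_orderOf_eq_of_forall_dvd ?_ fun x => ⟨(x.1, x.2, 1), ?_⟩
    · rintro ⟨x₁, x₂, w⟩
      have hw := mult_r_pow w
      rcases hd x₁ with ⟨y, hy⟩ | h₁
      · refine ⟨(y, x₂), ?_⟩
        simp only [Prod.orderOf]
        exact Nat.lcm_dvd (((Nat.dvd_lcm_left _ _).trans hy).trans (Nat.dvd_lcm_left _ _))
          (Nat.lcm_dvd (Nat.dvd_lcm_right _ _)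
            ((hw.trans ((Nat.dvd_lcm_right _ _).trans hy)).trans (Nat.dvd_lcm_left _ _)))
      rcases hd x₂ with ⟨y, hy⟩ | h₂
      · refine ⟨(x₁, y), ?_⟩
        simp only [Prod.orderOf]
        exact Nat.lcm_dvd (Nat.dvd_lcm_left _ _)
          (Nat.lcm_dvd (((Nat.dvd_lcm_left _ _).trans hy).trans (Nat.dvd_lcm_right _ _))
            ((hw.trans ((Nat.dvd_lcm_right _ _).trans hy)).trans (Nat.dvd_lcm_right _ _)))
      refine ⟨(v, Y), ?_⟩
      simp only [Prod.orderOf]
      have hk : P * N ∣ (orderOf v).lcm (orderOf Y) :=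
        hPN.mul_dvd_of_dvd_of_dvd (((Nat.dvd_lcm_left _ _).trans hv).trans (Nat.dvd_lcm_left _ _))
          (hY.trans (Nat.dvd_lcm_right _ _))
      exact Nat.lcm_dvd (h₁.trans hk) (Nat.lcm_dvd (h₂.trans hk)
        ((hw.trans ((Nat.dvd_lcm_right _ _).trans hv)).trans (Nat.dvd_lcm_left _ _)))
    · simp only [Prod.orderOf, orderOf_one, Nat.lcm_one_right]
      exact dvd_rfl

end Cfsg.Agent.S2510
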