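import Cfsg.Statements.S2511
import Cfsg.Agent.Lib.KnownSimple.SpectrumAbsorb
import Cfsg.Agent.Lib.KnownSimple.Unitary.Construct

set_option autoImplicit false
open Cfsg CfsgLib.KnownSimple CfsgLib.UnitarySpec

namespace Cfsg.Agent.S2511

open Matrix

variable {F : Type*} [Field F] [Fintype F] {n q : ℕ}

lemma orderOf_psuMk_unipotent (hF : Fintype.card F = q ^ 2) (hn : 2 ≤ n) {σ : F ≃+* F} (hσ : ∀ a, σ a = a ^ q)
    {p : ℕ} (hpq : p.Coprime (q + 1)) (u : Cfsg.SU n F q) {i : ℕ} (hu : orderOf u = p ^ i) :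
    orderOf (psuMk u) = p ^ i := by
  refine Nat.dvd_antisymm (hu ▸ orderOf_map_dvd psuMk u) ?_
  obtain ⟨c, hc, -, hcq⟩ := exists_of_psuMk_pow_eq_one hF hn hσ u _ (pow_orderOf_eq_one (psuMk u))
  have h1 : (c • (1 : Matrix (Fin n) (Fin n) F)) ^ p ^ i = 1 := by
    rw [← hc, ← pow_mul, mul_comm, pow_mul, ← su_coe_pow, ← hu, pow_orderOf_eq_one]
    exact one_pow _
  rw [smul_pow, one_pow] at h1
  have hcp : c ^ p ^ i = 1 := by
    have := congrFun (congrFun h1 ⟨0, by omega⟩) ⟨0, by omega⟩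
    simpa using this
  have hc1 : c = 1 :=
    orderOf_eq_one_iff.1 (Nat.eq_one_of_dvd_coprimes (hpq.pow_left i) (orderOf_dvd_of_pow_eq_one hcp)
      (orderOf_dvd_of_pow_eq_one hcq))
  rw [hc1, one_smul, ← su_coe_pow] at hc
  rw [← hu]
  exact orderOf_dvd_of_pow_eq_one (Subtype.ext (Subtype.ext hc))

lemma torusN_dvd_orderOf (hF : Fintype.card F = q ^ 2) (hn : 2 ≤ n) {σ : F ≃+* F} (hσ : ∀ a, σ a = a ^ q)
    (u : Cfsg.SU n F q) (hu : orderOf u = (altSum q n).natAbs) : torusN q n ∣ orderOf (psuMk u) := by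
  obtain ⟨c, hc, hcn, hcq⟩ := exists_of_psuMk_pow_eq_one hF hn hσ u _ (pow_orderOf_eq_one (psuMk u))
  have hcg : c ^ Nat.gcd n (q + 1) = 1 := pow_gcd_eq_one.2 ⟨hcn, hcq⟩
  have h1 : u ^ (orderOf (psuMk u) * Nat.gcd n (q + 1)) = 1 := by
    refine Subtype.ext (Subtype.ext ?_)
    show ((u ^ _).1 : Matrix (Fin n) (Fin n) F) = 1
    rw [su_coe_pow, pow_mul, hc, smul_pow, one_pow, hcg, one_smul]
  have h2 := orderOf_dvd_of_pow_eq_one h1
  rw [hu, ← torusN_mul] at h2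
  exact Nat.dvd_of_mul_dvd_mul_right (Nat.gcd_pos_of_pos_left _ (by omega)) h2

lemma main {σ : F ≃+* F} (hσ : ∀ a, σ a = a ^ q) {p a r : ℕ} (hp : p.Prime) (ha : 1 ≤ a) (hq : q = p ^ a)
    (hF : Fintype.card F = q ^ 2) {k : ℕ} (hk : 2 ≤ k) (hr : r.Prime) (hrq : r ∣ q + 1) (hrn : ¬ r ∣ k + 1) :
    (∀ x : Cfsg.PSU (k + 1) F q, (∃ y : Cfsg.PSU (k + 1) F q, (orderOf x).lcm r ∣ orderOf y) ∨
        orderOf x ∣ p ^ Nat.clog p (k + 1) * torusN q (k + 1)) ∧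
      (p ^ Nat.clog p (k + 1)).Coprime (torusN q (k + 1)) ∧
      (∃ y : Cfsg.PSU (k + 1) F q, p ^ Nat.clog p (k + 1) ∣ orderOf y) ∧
      (∃ y : Cfsg.PSU (k + 1) F q, torusN q (k + 1) ∣ orderOf y) ∧
      (∃ y : Cfsg.PSU (k + 1) F q, r ∣ orderOf y) ∧
      ((¬ ∃ j : ℕ, k = p ^ j) →
        ∃ y : Cfsg.PSU (k + 1) F q, (p ^ Nat.clog p (k + 1)).lcm r ∣ orderOf y) := by
  haveI : Fact p.Prime := ⟨hp⟩
  haveI : CharP F p := charP_of_card_eq_prime_pow (f := a * 2) (by rw [hF, hq, pow_mul])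
  have hpq : p.Coprime (q + 1) := by
    refine (hp.coprime_iff_not_dvd).2 fun h => hp.ne_one (Nat.dvd_one.1 ?_)
    exact (Nat.dvd_add_right (hq ▸ dvd_pow_self p (by omega))).1 h
  haveI : Nonempty (Fin k) := ⟨⟨0, by omega⟩⟩
  set e : Matrix (Fin (k + 1)) (Fin (k + 1)) F := ext1 k 0 with he
  have hei : IsIdempotentElem e := by rw [IsIdempotentElem, he, ← map_mul, mul_zero]
  have hea : adj σ e = e := by rw [he, adj_ext1]; simp [adj]
  have he1 : e ≠ 1 := by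
    rw [he, ← map_one (ext1 (F := F) k)]
    exact fun h => zero_ne_one (ext1_injective k h)
  have he0 : e ≠ 0 := by
    intro h
    have h1 : (fromBlocks (0 : Matrix (Fin k) (Fin k) F) 0 0 (1 : Matrix (Fin 1) (Fin 1) F)) = 0 :=
      (Matrix.reindexAlgEquiv F F _).injective (h.trans (map_zero _).symm)
    have := congrFun (congrFun h1 (Sum.inr 0)) (Sum.inr 0)
    simp at this
  refine ⟨fun x => ?_, ((torusN_coprime hp ha hq (by omega)).symm.pow_left _), ?_, ?_, ?_, fun hj => ?_⟩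
  · obtain ⟨g, rfl⟩ := QuotientGroup.mk'_surjective _ x
    exact psu_classify hF hσ hp hq (by omega) hr hrq hrn g
  · obtain ⟨u, ⟨i, hi⟩, hu⟩ := exists_unipotent hF hσ (n := k + 1) (p := p) (by omega)
    exact ⟨psuMk u, by rw [orderOf_psuMk_unipotent hF (by omega) hσ hpq u hi, ← hi]; exact hu⟩
  · obtain ⟨u, hu⟩ : ∃ u : Cfsg.SU (k + 1) F q, orderOf u = (altSum q (k + 1)).natAbs := by
      rcases Nat.even_or_odd' (k + 1) with ⟨m, hm | hm⟩
      · exact exists_torus_even hF hσ (m := m) (by omega) hm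
      · exact exists_torus_odd hF hσ ⟨m, hm⟩
    exact ⟨psuMk u, torusN_dvd_orderOf hF (by omega) hσ u hu⟩
  · obtain ⟨y, hy⟩ := exists_absorb hF hσ (n := k + 1) (by omega) hr hrq hrn 1 e hei hea he0 he1 (Commute.one_right e)
    exact ⟨y, (Nat.dvd_lcm_right _ _).trans hy⟩
  · obtain ⟨u, ⟨i, hi⟩, hu⟩ := exists_unipotent hF hσ (n := k) (p := p) hk
    obtain ⟨u', hu', huo⟩ := exists_ext1 hF hσ u
    obtain ⟨y, hy⟩ := exists_absorb hF hσ (n := k + 1) (by omega) hr hrq hrn u' e hei hea he0 he1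
      (by rw [hu', he]; exact (Commute.zero_left _).map (ext1 k))
    refine ⟨y, ?_⟩
    rw [orderOf_psuMk_unipotent hF (by omega) hσ hpq u' (huo.trans hi), ← hi] at hy
    refine dvd_trans (Nat.lcm_dvd ?_ (Nat.dvd_lcm_right _ _)) hy
    refine (dvd_trans (pow_dvd_pow p ?_) hu).trans (Nat.dvd_lcm_left _ _)
    refine Nat.clog_le_of_le_pow ?_
    have h1 := Nat.le_pow_clog hp.one_lt k
    rcases Nat.lt_or_ge (p ^ Nat.clog p k) (k + 1) with h2 | h2
    · exact absurd ⟨_, (by omega : k = p ^ Nat.clog p k)⟩ hj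
    · exact h2

/-- Let F be a finite field with q² elements, q = p^a, n ≥ 3 with (n, q) ≠ (3, 2), L = PSU(n, q) realised over F, and let r be a prime dividing q + 1 and not dividing n. Then for every m the direct product L × L × L × (ℤ/r)^m has the same set of element orders as L × L × L; and if n − 1 is not a power of p, then already L × L × (ℤ/r)^m has the same set of element orders as L × L. -/
theorem result {F : Type*} [Field F] [Fintype F] (p a n q r m : ℕ) (hp : p.Prime) (ha : 1 ≤ a) (hq : q = p ^ a) (hF : Fintype.card F = q ^ 2)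
    (hn : 3 ≤ n) (hn3 : ¬ (n = 3 ∧ q = 2)) (hr : r.Prime) (hrq : r ∣ q + 1) (hrn : ¬ r ∣ n) :
    Set.range (orderOf : Cfsg.PSU n F q × Cfsg.PSU n F q × Cfsg.PSU n F q × Multiplicative (Fin m → ZMod r) → ℕ) = Set.range (orderOf : Cfsg.PSU n F q × Cfsg.PSU n F q × Cfsg.PSU n F q → ℕ) ∧
    ((¬ ∃ j : ℕ, n - 1 = p ^ j) →
      Set.range (orderOf : Cfsg.PSU n F q × Cfsg.PSU n F q × Multiplicative (Fin m → ZMod r) → ℕ) = Set.range (orderOf : Cfsg.PSU n F q × Cfsg.PSU n F q → ℕ)) := by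
  haveI : NeZero r := ⟨hr.ne_zero⟩
  obtain ⟨k, rfl⟩ : ∃ k, n = k + 1 := ⟨n - 1, by omega⟩
  haveI : Finite (Cfsg.PSU (k + 1) F q) := inferInstance
  obtain ⟨τ, hτ, hττ, -⟩ := CfsgLib.Classical.exists_qPow hF
  let σ : F ≃+* F := RingEquiv.ofBijective τ ⟨τ.injective, fun x => ⟨τ x, hττ x⟩⟩
  obtain ⟨hd, hPN, ⟨u, hu⟩, ⟨Y, hY⟩, ⟨z, hz⟩, hsq⟩ :=
    main (σ := σ) (fun x => hτ x) hp ha hq hF (k := k) (by omega) hr hrq hrn
  refine ⟨range_absorb_three orderOf_multiplicative_zmod_dvd u Y z (dvd_lcm_of_right _ (dvd_lcm_of_right _ hz))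
    fun x => (hd x).imp_right fun h => h.trans
      (hPN.mul_dvd_of_dvd_of_dvd (dvd_lcm_of_left _ hu) (dvd_lcm_of_right _ (dvd_lcm_of_left _ hY))), fun hj => ?_⟩
  rw [Nat.add_sub_cancel] at hj
  obtain ⟨v, hv⟩ := hsq hj
  refine range_absorb_two orderOf_multiplicative_zmod_dvd v Y ?_ fun x => (hd x).imp_right fun h => h.trans ?_
  · exact dvd_lcm_of_left _ ((Nat.dvd_lcm_right _ _).trans hv)
  · exact hPN.mul_dvd_of_dvd_of_dvd (dvd_lcm_of_left _ ((Nat.dvd_lcm_left _ _).trans hv)) (dvd_lcm_of_right _ hY)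

end Cfsg.Agent.S2511
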