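import Cfsg.Statements.S2512
import Cfsg.Agent.Lib.KnownSimple.SpSpectrum
import Cfsg.Agent.Lib.KnownSimple.SpectrumAbsorb

set_option autoImplicit false
open Cfsg CfsgLib.KnownSimple

namespace Cfsg.Agent.S2512

variable {F : Type*} [Field F] [Fintype F]

lemma witnesses {p a n : ℕ} (hp : p.Prime) (hF : Fintype.card F = p ^ a) (hodd : Odd (Fintype.card F))
    (hn : 2 ≤ n) : ∃ (P : ℕ) (a₁ a₂ a₃ : Cfsg.PSp n F), p ^ Nat.clog p (n + n) = P ∧
      P ∣ orderOf a₁ ∧ (Fintype.card F ^ n - 1) / 2 ∣ orderOf a₂ ∧ (Fintype.card F ^ n + 1) / 2 ∣ orderOf a₃ ∧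
      2 ∣ (orderOf a₂).lcm (orderOf a₃) ∧
      (∀ x : Cfsg.PSp n F, (∃ y : Cfsg.PSp n F, (orderOf x).lcm 2 ∣ orderOf y) ∨
        orderOf x ∣ p ^ Nat.clog p (n + n) ∨ orderOf x ∣ (Fintype.card F ^ n - 1) / 2 ∨
        orderOf x ∣ (Fintype.card F ^ n + 1) / 2) ∧
      ((¬ ∃ j : ℕ, 2 * n - 1 = p ^ j) → ∃ y : Cfsg.PSp n F, P.lcm 2 ∣ orderOf y) := by
  haveI : Fact p.Prime := ⟨hp⟩
  haveI : CharP F p := charP_of_card_eq_prime_pow hF
  have hp2 : p ≠ 2 := by
    rintro rfl
    rw [hF, Nat.odd_pow_iff (by rintro rfl; exact absurd hF (by rw [pow_zero]; exact Fintype.one_lt_card.ne'))] at hodd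
    exact absurd hodd (by decide)
  have h2 : (2 : F) ≠ 0 := by
    intro h
    have : p ∣ 2 := (CharP.cast_eq_zero_iff F p 2).1 (by exact_mod_cast h)
    exact hp2 ((Nat.prime_dvd_prime_iff_eq hp Nat.prime_two).1 this)
  set q := Fintype.card F with hq
  have hqn : Odd (q ^ n) := hodd.pow
  obtain ⟨U, hU⟩ := exists_sp_unipotent F (p := p) (show 1 ≤ n by omega)
  obtain ⟨⟨Y, hY⟩, ⟨Z, hZ⟩⟩ := exists_sp_orderOf_torus (F := F) (d := n) (by omega)
  rw [← hq] at hY hZ
  have half : ∀ W : Matrix.symplecticGroup (Fin n) F, orderOf W ∣ 2 * orderOf (spMk W) := by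
    intro W
    apply orderOf_dvd_of_pow_eq_one
    apply Subtype.ext
    rw [SubmonoidClass.coe_pow, mul_comm, pow_mul]
    rcases (spMk_pow_eq_one_iff W _).1 (pow_orderOf_eq_one (spMk W)) with h | h <;> simp [h]
  have hN : ∀ {x : ℕ} (W : Matrix.symplecticGroup (Fin n) F), 2 ∣ x → orderOf W = x →
      x / 2 ∣ orderOf (spMk W) := by
    intro x W hx hW
    have := half W
    rw [hW, ← Nat.mul_div_cancel' hx] at this
    exact Nat.dvd_of_mul_dvd_mul_left two_pos this
  obtain ⟨r, hr⟩ := hqn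
  have hY2 := hN Y ⟨r, by omega⟩ hY
  have hZ2 := hN Z ⟨r + 1, by omega⟩ hZ
  refine ⟨_, spMk U, spMk Y, spMk Z, rfl, ?_, hY2, hZ2, ?_, fun x => ?_, fun hj => ?_⟩
  · rw [orderOf_spMk_of_odd h2 (by omega) (by rw [hU]; exact (hp.odd_of_ne_two hp2).pow), hU]
  · rw [show (q ^ n - 1) / 2 = r by omega] at hY2
    rw [show (q ^ n + 1) / 2 = r + 1 by omega] at hZ2
    rcases Nat.even_or_odd r with h | h
    · exact dvd_lcm_of_left _ (h.two_dvd.trans hY2)
    · exact dvd_lcm_of_right _ (h.add_one.two_dvd.trans hZ2)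
  · obtain ⟨g, rfl⟩ := QuotientGroup.mk'_surjective _ x
    exact sp_classify hp2 (by omega) g
  · obtain ⟨V, hV⟩ := exists_sp_unipotent F (p := p) (show 1 ≤ n - 1 by omega)
    have hb : 1 + (n - 1) = n := by omega
    have hodd' : Odd (orderOf V) := by rw [hV]; exact (hp.odd_of_ne_two hp2).pow
    have hclog : Nat.clog p (n - 1 + (n - 1)) = Nat.clog p (n + n) := by
      apply le_antisymm (Nat.clog_mono_right p (by omega))
      refine Nat.clog_le_of_le_pow ?_
      have h1 := Nat.le_pow_clog hp.one_lt (n - 1 + (n - 1))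
      by_contra h3
      have ho : Odd (p ^ Nat.clog p (n - 1 + (n - 1))) := (hp.odd_of_ne_two hp2).pow
      obtain ⟨k, hk⟩ := ho
      exact hj ⟨_, (show 2 * n - 1 = p ^ Nat.clog p (n - 1 + (n - 1)) by omega)⟩
    obtain ⟨y, hy⟩ := exists_spMk_absorb (spSum hb (1, V)) (spSum hb (CfsgLib.Classical.spNegOne, 1))
      ((Commute.prod (Commute.one_left _) (Commute.one_right _)).map (spSum hb))
      (by rw [spSum_coe_pow]; simp [CfsgLib.Classical.spNegOne, Matrix.fromBlocks_one])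
      (by
        intro h
        have h' := congrArg Prod.fst (spSum_injective hb (a₁ := (CfsgLib.Classical.spNegOne, 1)) (a₂ := 1)
          (Subtype.ext (by rw [map_one]; exact h)))
        exact h2 ((CfsgLib.Classical.spNegOne_eq_one_iff le_rfl).1 h'))
      (by
        intro h
        rw [← pow_one (spSum hb (CfsgLib.Classical.spNegOne, 1)).1, spSum_coe_pow,
          ← map_one (Matrix.reindexAlgEquiv F F (spSumEquiv hb)), ← map_neg] at h
        have h3 := (Matrix.reindexAlgEquiv F F (spSumEquiv hb)).injective h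
        rw [← Matrix.fromBlocks_one, Matrix.fromBlocks_neg] at h3
        exact neg_one_ne_one_mat h2 (show 1 ≤ n - 1 by omega) ((Matrix.fromBlocks_inj.1 h3).2.2.2.symm.trans (by simp)))
    refine ⟨y, (Nat.lcm_dvd ?_ (Nat.dvd_lcm_right _ _)).trans hy⟩
    refine dvd_lcm_of_left _ ?_
    rw [← hclog, ← hV]
    exact (Nat.dvd_lcm_right _ _).trans (dvd_orderOf_spMk_spSum h2 (by omega) hb 1 V hodd')

/-- Let F be a finite field of odd order q = p^a, n ≥ 2 (with q ≥ 3 automatic), and L = PSp(2n, F). Then for every m the direct product L × L × L × (ℤ/2)^m has the same set of element orders as L × L × L; and if 2n − 1 is not a power of p, then already L × L × (ℤ/2)^m has the same set of element orders as L × L. -/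
theorem result {F : Type*} [Field F] [Fintype F] (p a n m : ℕ) (hp : p.Prime) (ha : 1 ≤ a) (hF : Fintype.card F = p ^ a) (hodd : Odd (Fintype.card F))
    (hn : 2 ≤ n) :
    Set.range (orderOf : Cfsg.PSp n F × Cfsg.PSp n F × Cfsg.PSp n F × Multiplicative (Fin m → ZMod 2) → ℕ) = Set.range (orderOf : Cfsg.PSp n F × Cfsg.PSp n F × Cfsg.PSp n F → ℕ) ∧
    ((¬ ∃ j : ℕ, 2 * n - 1 = p ^ j) →
      Set.range (orderOf : Cfsg.PSp n F × Cfsg.PSp n F × Multiplicative (Fin m → ZMod 2) → ℕ) = Set.range (orderOf : Cfsg.PSp n F × Cfsg.PSp n F → ℕ)) := by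
  obtain ⟨P, a₁, a₂, a₃, hP, hP₁, hN₂, hN₃, h2, hd, hsq⟩ := witnesses hp hF hodd hn
  have hW := orderOf_multiplicative_zmod_dvd (m := m) (r := 2)
  refine ⟨range_absorb_three hW a₁ a₂ a₃ (h2.trans (Nat.dvd_lcm_right _ _)) fun x => ?_, fun hj => ?_⟩
  · rcases hd x with h | h | h | h
    · exact Or.inl h
    · exact Or.inr (dvd_lcm_of_left _ ((h.trans hP.dvd).trans hP₁))
    · exact Or.inr (dvd_lcm_of_right _ (dvd_lcm_of_left _ (h.trans hN₂)))
    · exact Or.inr (dvd_lcm_of_right _ (dvd_lcm_of_right _ (h.trans hN₃)))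
  · obtain ⟨y, hy⟩ := hsq hj
    refine range_absorb_two hW a₂ a₃ h2 fun x => ?_
    rcases hd x with h | h | h | h
    · exact Or.inl h
    · exact Or.inl ⟨y, (Nat.lcm_dvd (dvd_lcm_of_left _ (h.trans hP.dvd)) (Nat.dvd_lcm_right _ _)).trans hy⟩
    · exact Or.inr (dvd_lcm_of_left _ (h.trans hN₂))
    · exact Or.inr (dvd_lcm_of_right _ (h.trans hN₃))

end Cfsg.Agent.S2512
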