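import Cfsg.Statements.S2513
import Cfsg.Agent.Lib.KnownSimple.SpectrumPowers
import Cfsg.Agent.Lib.KnownSimple.GLBasics

set_option autoImplicit false
open Cfsg CfsgLib.KnownSimple

namespace Cfsg.Agent.S2513

variable {F : Type*} [Field F] [Fintype F]

lemma units_eq_one (hF : Fintype.card F = 2) (x : F) (hx : x ≠ 0) : x = 1 := by
  have h := FiniteField.pow_card_sub_one_eq_one x hx
  rw [hF] at h
  simpa using h

lemma center_trivial (hF : Fintype.card F = 2) {n : ℕ} (hn : 2 ≤ n) :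
    Subgroup.center (Matrix.SpecialLinearGroup (Fin n) F) = ⊥ := by
  rw [eq_bot_iff]
  intro A hA
  obtain ⟨r, hr, hr'⟩ := Matrix.SpecialLinearGroup.mem_center_iff.1 hA
  have hr0 : r ≠ 0 := by
    rintro rfl
    rw [zero_pow (by simp; omega)] at hr
    exact zero_ne_one hr
  rw [Subgroup.mem_bot]
  apply Subtype.ext
  rw [← hr', units_eq_one hF r hr0]
  simp

/-- Every invertible matrix over the field with two elements gives an element of `PSL` of the same order. -/
lemma exists_psl_orderOf (hF : Fintype.card F = 2) {n : ℕ} (hn : 2 ≤ n)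
    (M : Matrix (Fin n) (Fin n) F) (hM : IsUnit M) :
    ∃ x : Matrix.ProjectiveSpecialLinearGroup (Fin n) F, orderOf x = orderOf M := by
  have hdet : M.det = 1 :=
    units_eq_one hF _ ((Matrix.isUnit_iff_isUnit_det M).1 hM).ne_zero
  let s : Matrix.SpecialLinearGroup (Fin n) F := ⟨M, hdet⟩
  refine ⟨QuotientGroup.mk' _ s, ?_⟩
  rw [orderOf_injective (QuotientGroup.mk' _) ?_ s]
  · exact (orderOf_injective (⟨⟨Subtype.val, rfl⟩, fun _ _ => rfl⟩ :
      Matrix.SpecialLinearGroup (Fin n) F →* Matrix (Fin n) (Fin n) F) Subtype.val_injective s).symm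
  · rw [← MonoidHom.ker_eq_bot_iff, QuotientGroup.ker_mk', center_trivial hF hn]

/-- A tuple of `(n+3)/2` elements whose order is a multiple of every element order. -/
lemma exists_tuple (hF : Fintype.card F = 2) {n : ℕ} (hn : 2 ≤ n) :
    ∃ g : Fin ((n + 3) / 2) → Matrix.ProjectiveSpecialLinearGroup (Fin n) F,
      ∀ x : Matrix.ProjectiveSpecialLinearGroup (Fin n) F, orderOf x ∣ orderOf g := by
  haveI : Fact (Nat.Prime 2) := ⟨Nat.prime_two⟩
  haveI : CharP F 2 := by
    obtain ⟨p, hp⟩ := CharP.exists F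
    obtain ⟨m, hm, hpm⟩ := FiniteField.card F p
    have h2 : p ∣ 2 := by
      rw [← hF, hpm]; exact dvd_pow_self p m.pos.ne'
    obtain rfl := (Nat.prime_dvd_prime_iff_eq hm Nat.prime_two).1 h2
    exact hp
  obtain ⟨u, hu⟩ := exists_psl_orderOf hF hn (jordanUni F n)
    ((Matrix.isUnit_iff_isUnit_det _).2 (by rw [det_jordanUni]; exact isUnit_one))
  rw [orderOf_jordanUni (p := 2) hn] at hu
  have hs : ∀ d : ℕ, ∃ x : Matrix.ProjectiveSpecialLinearGroup (Fin n) F,
      1 ≤ d → d ≤ n → orderOf x = 2 ^ d - 1 := by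
    intro d
    by_cases hd : 1 ≤ d ∧ d ≤ n
    · obtain ⟨M, hMu, hMo⟩ := exists_matrix_orderOf_eq (F := F) d hd.1
      obtain ⟨x, hx⟩ := exists_psl_orderOf hF hn (blockEmb hd.2 M) (hMu.map _)
      exact ⟨x, fun _ _ => by
        rw [hx, orderOf_injective (blockEmb hd.2) (blockEmb_injective hd.2) M, hMo, hF]⟩
    · exact ⟨1, fun h1 h2 => absurd ⟨h1, h2⟩ hd⟩
  choose x hx using hs
  let g : Fin ((n + 3) / 2) → Matrix.ProjectiveSpecialLinearGroup (Fin n) F :=
    fun i => if (i : ℕ) = 0 then u else x (n + 1 - i)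
  refine ⟨g, ?_⟩
  have hP : 2 ^ Nat.clog 2 n ∣ orderOf g := by
    have := orderOf_apply_dvd g (⟨0, by omega⟩ : Fin ((n + 3) / 2))
    simpa [g, hu] using this
  have hlcm : (Finset.Icc 1 n).lcm (fun d => 2 ^ d - 1) ∣ orderOf g := by
    refine Finset.lcm_dvd fun d hd => ?_
    rw [Finset.mem_Icc] at hd
    have he : d * (n / d) ≤ n := Nat.mul_div_le n d
    have h1 : n < d * (n / d) + d := by
      have := Nat.lt_div_mul_add (a := n) (show 0 < d by omega)
      rw [mul_comm]; exact this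
    have hq : 1 ≤ n / d := Nat.div_pos hd.2 (by omega)
    have h2 : d ≤ d * (n / d) := Nat.le_mul_of_pos_right _ hq
    have hi : n + 1 - d * (n / d) < (n + 3) / 2 := by omega
    have h3 := orderOf_apply_dvd g (⟨n + 1 - d * (n / d), hi⟩ : Fin ((n + 3) / 2))
    simp only [g] at h3
    rw [if_neg (by omega), show n + 1 - (n + 1 - d * (n / d)) = d * (n / d) by omega,
      hx _ (by omega) he] at h3
    exact (Nat.pow_sub_one_dvd_pow_sub_one 2 (dvd_mul_right d (n / d))).trans h3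
  have hodd : Nat.Coprime ((Finset.Icc 1 n).lcm (fun d => 2 ^ d - 1)) (2 ^ Nat.clog 2 n) := by
    refine Nat.Coprime.pow_right _ (Nat.Coprime.symm ((Nat.prime_two.coprime_iff_not_dvd).2 ?_))
    intro h
    have hp : (∏ d ∈ Finset.Icc 1 n, (2 ^ d - 1)) % 2 = 1 := by
      rw [← Nat.odd_iff]
      refine Finset.prod_induction _ (fun m => Odd m) (fun a b ha hb => ha.mul hb) odd_one ?_
      intro d hd
      rw [Finset.mem_Icc] at hd
      obtain ⟨e, rfl⟩ : ∃ e, d = e + 1 := ⟨d - 1, by omega⟩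
      refine Nat.odd_iff.2 ?_
      have := Nat.one_le_two_pow (n := e)
      rw [pow_succ]; omega
    have := h.trans (Finset.lcm_dvd (f := fun d => 2 ^ d - 1)
      (fun d hd => Finset.dvd_prod_of_mem (fun d => 2 ^ d - 1) hd))
    omega
  intro y
  obtain ⟨s, rfl⟩ := QuotientGroup.mk'_surjective _ y
  refine dvd_trans ?_ (Nat.Coprime.mul_dvd_of_dvd_of_dvd hodd hlcm hP)
  refine (orderOf_map_dvd _ s).trans ?_
  rw [orderOf_dvd_iff_pow_eq_one]
  apply Subtype.ext
  rw [Matrix.SpecialLinearGroup.coe_pow]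
  refine unit_matrix_pow_eq_one _ (fun d h1 h2 => ?_) (Nat.le_pow_clog (by norm_num) n) _
    ((Matrix.isUnit_iff_isUnit_det _).2 (by rw [s.prop]; exact isUnit_one))
  rw [hF]
  exact Finset.dvd_lcm (f := fun d => 2 ^ d - 1) (Finset.mem_Icc.2 ⟨h1, h2⟩)

/-- Let F be the field with two elements, n ≥ 2, L = PSL(n, F) and k₀ = ⌊(n + 3)/2⌋. Then for every k ≥ k₀ the direct product of k copies of L has the same set of element orders as the direct product of k₀ copies of L. -/
theorem result {F : Type*} [Field F] [Fintype F] (hF : Fintype.card F = 2) (n k : ℕ) (hn : 2 ≤ n) (hk : (n + 3) / 2 ≤ k) :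
    Set.range (orderOf : (Fin k → Matrix.ProjectiveSpecialLinearGroup (Fin n) F) → ℕ) = Set.range (orderOf : (Fin ((n + 3) / 2) → Matrix.ProjectiveSpecialLinearGroup (Fin n) F) → ℕ) := by
  obtain ⟨g, hg⟩ := exists_tuple hF hn
  refine range_orderOf_eq_of_forall_dvd (fun f => ⟨g, orderOf_pi_dvd f fun i => hg (f i)⟩) ?_
  intro f
  refine ⟨fun i => if h : (i : ℕ) < (n + 3) / 2 then f ⟨i, h⟩ else 1, orderOf_pi_dvd f fun i => ?_⟩
  have := orderOf_apply_dvd
    (fun j : Fin k => if h : (j : ℕ) < (n + 3) / 2 then f ⟨j, h⟩ else 1) ⟨i, lt_of_lt_of_le i.2 hk⟩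
  simpa using this

end Cfsg.Agent.S2513
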