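import Cfsg.Statements.S2514
import Cfsg.Agent.Lib.KnownSimple.SpectrumPowers

set_option autoImplicit false
open Cfsg CfsgLib.KnownSimple

namespace Cfsg.Agent.S2514

/-- Every element order divides a maximal one. -/
lemma hmax {K : Type*} [Group K] [Finite K] (x : K) : ∃ n : ℕ, orderOf x ∣ n ∧
    n ∈ Set.range (orderOf : K → ℕ) ∧ ∀ m ∈ Set.range (orderOf : K → ℕ), n ∣ m → m = n := by
  classical
  haveI := Fintype.ofFinite K
  obtain ⟨y, hy, hmax⟩ := Finset.exists_max_image (Finset.univ.filter fun y : K => orderOf x ∣ orderOf y)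
    orderOf ⟨x, by simp⟩
  simp only [Finset.mem_filter, Finset.mem_univ, true_and] at hy hmax
  refine ⟨orderOf y, hy, ⟨y, rfl⟩, ?_⟩
  rintro _ ⟨z, rfl⟩ hyz
  exact le_antisymm (hmax z (hy.trans hyz)) (Nat.le_of_dvd (orderOf_pos z) hyz)


/-- For a finite group X write μ(X) for the set of element orders of X that are maximal under divisibility. Let G and H be finite groups and k ≥ 1 such that μ(H) ⊆ μ(G) and μ(G) has fewer than k elements outside μ(H). Then the direct product of k copies of G has the same set of element orders as the direct product of k − 1 copies of G with H. -/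
theorem result {G H : Type*} [Group G] [Finite G] [Group H] [Finite H] (k : ℕ) (hk : 1 ≤ k)
    (hsub : {n : ℕ | n ∈ Set.range (orderOf : H → ℕ) ∧ ∀ m ∈ Set.range (orderOf : H → ℕ), n ∣ m → m = n} ⊆ {n : ℕ | n ∈ Set.range (orderOf : G → ℕ) ∧ ∀ m ∈ Set.range (orderOf : G → ℕ), n ∣ m → m = n})
    (hfew : ({n : ℕ | n ∈ Set.range (orderOf : G → ℕ) ∧ ∀ m ∈ Set.range (orderOf : G → ℕ), n ∣ m → m = n} \ {n : ℕ | n ∈ Set.range (orderOf : H → ℕ) ∧ ∀ m ∈ Set.range (orderOf : H → ℕ), n ∣ m → m = n}).ncard < k) :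
    Set.range (orderOf : (Fin k → G) → ℕ) = Set.range (orderOf : (Fin (k - 1) → G) × H → ℕ) := by
  classical
  obtain ⟨j, rfl⟩ : ∃ j, k = j + 1 := ⟨k - 1, by omega⟩
  rw [Nat.add_sub_cancel]
  set μG := {n : ℕ | n ∈ Set.range (orderOf : G → ℕ) ∧ ∀ m ∈ Set.range (orderOf : G → ℕ), n ∣ m → m = n}
  set μH := {n : ℕ | n ∈ Set.range (orderOf : H → ℕ) ∧ ∀ m ∈ Set.range (orderOf : H → ℕ), n ∣ m → m = n}
  refine range_orderOf_eq_of_forall_dvd ?_ ?_
  · intro f
    choose M hM hMG using fun i => hmax (f i)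
    obtain ⟨i₀, hi₀⟩ : ∃ i₀, M i₀ ∈ μH ∨ ∃ i, i ≠ i₀ ∧ M i = M i₀ := by
      by_contra h
      push Not at h
      have hinj : Function.Injective M := fun a b hab => by_contra fun hne => (h b).2 a hne hab
      have hfin : (μG \ μH).Finite := by
        refine Set.Finite.subset (Set.finite_range (orderOf : G → ℕ)) ?_
        exact fun n hn => hn.1.1
      have h1 : (Set.range M).ncard ≤ (μG \ μH).ncard :=
        Set.ncard_le_ncard (Set.range_subset_iff.2 fun i => ⟨hMG i, (h i).1⟩) hfin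
      rw [Set.ncard_range_of_injective hinj, Nat.card_eq_fintype_card, Fintype.card_fin] at h1
      omega
    choose g hg using fun i => (hMG i).1
    rcases hi₀ with ⟨⟨y, hy⟩, -⟩ | ⟨i₁, hne, heq⟩
    · refine ⟨(fun i => g (i₀.succAbove i), y), orderOf_pi_dvd f fun i => ?_⟩
      rw [Prod.orderOf]
      rcases Fin.eq_self_or_eq_succAbove i₀ i with rfl | ⟨l, rfl⟩
      · exact (hy ▸ hM i).trans (Nat.dvd_lcm_right _ _)
      · exact (((hg (i₀.succAbove l)).symm ▸ hM (i₀.succAbove l)).trans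
          (orderOf_apply_dvd (fun i => g (i₀.succAbove i)) l)).trans (Nat.dvd_lcm_left _ _)
    · refine ⟨(fun i => g (i₀.succAbove i), 1), orderOf_pi_dvd f fun i => ?_⟩
      rw [Prod.orderOf]
      have key : ∀ i', i' ≠ i₀ → M i' ∣ orderOf (fun i => g (i₀.succAbove i)) := by
        intro i' hi'
        obtain ⟨l, rfl⟩ := Fin.exists_succAbove_eq hi'
        rw [← hg (i₀.succAbove l)]
        exact orderOf_apply_dvd (fun i => g (i₀.succAbove i)) l
      refine dvd_trans ?_ (Nat.dvd_lcm_left _ _)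
      by_cases hi : i = i₀
      · subst hi
        exact (heq ▸ hM i).trans (heq ▸ key i₁ hne)
      · exact (hM i).trans (key i hi)
  · rintro ⟨f, h⟩
    obtain ⟨n, hn, hnH⟩ := hmax h
    obtain ⟨y, hy⟩ := (hsub hnH).1
    refine ⟨Fin.snoc f y, ?_⟩
    rw [Prod.orderOf]
    refine Nat.lcm_dvd (orderOf_pi_dvd f fun i => ?_) ?_
    · have := orderOf_apply_dvd (Fin.snoc (α := fun _ => G) f y) i.castSucc
      simpa using this
    · refine (hy ▸ hn).trans ?_
      have := orderOf_apply_dvd (Fin.snoc (α := fun _ => G) f y) (Fin.last j)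
      simpa using this

end Cfsg.Agent.S2514
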