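import Cfsg.Statements.S2515
import Cfsg.Agent.Lib.KnownSimple.TruncRee

set_option autoImplicit false
open Cfsg CfsgLib.KnownSimple

namespace Cfsg.Agent.S2515

/-- Let q = 3^α with α ≥ 3 odd. There is a finite group H having a non-trivial normal 3-subgroup and whose element orders maximal under divisibility are exactly 6, 9, q − 1 and (q + 1)/2. -/
theorem result (α : ℕ) (hα : 3 ≤ α) (hodd : Odd α) :
    ∃ (H : Type) (_ : Group H) (_ : Fintype H), (∃ P : Subgroup H, P.Normal ∧ P ≠ ⊥ ∧ IsPGroup 3 ↥P) ∧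
      {n : ℕ | n ∈ Set.range (orderOf : H → ℕ) ∧ ∀ m ∈ Set.range (orderOf : H → ℕ), n ∣ m → m = n} = ({6, 9, 3 ^ α - 1, (3 ^ α + 1) / 2} : Set ℕ) := by
  haveI : Fact (Nat.Prime 3) := ⟨Nat.prime_three⟩
  set F := GaloisField 3 α
  letI : Fintype F := Fintype.ofFinite F
  have hq : Fintype.card F = 3 ^ α := by
    rw [← Nat.card_eq_fintype_card, GaloisField.card 3 α (by omega)]
  obtain ⟨k, rfl⟩ := hodd
  have h8 : 3 ^ (2 * k + 1) % 8 = 3 := by
    rw [pow_succ, pow_mul, Nat.mul_mod, Nat.pow_mod]; norm_num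
  have h27 : 27 ≤ 3 ^ (2 * k + 1) := le_trans (by norm_num) (Nat.pow_le_pow_right (n := 3) (by norm_num) hα)
  have h3 : 3 ∣ 3 ^ (2 * k + 1) := dvd_pow_self 3 (by omega)
  have hcases := fun hns a b (h : TruncRee.Grp F) => TruncRee.orderOf_cases hq hns a b h
  generalize 3 ^ (2 * k + 1) = Q at *
  have hns : ¬ IsSquare (-1 : F) := by
    rw [FiniteField.isSquare_neg_one_iff, hq]; omega
  replace hcases := hcases hns (by rw [Nat.even_iff, hq]; omega) (by rw [Nat.even_iff, hq]; omega)
  haveI : Finite (TruncRee.Grp F) := Finite.of_equiv _ SemidirectProduct.equivProd.symm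
  refine ⟨TruncRee.Grp F, inferInstance, Fintype.ofFinite _,
    ⟨SemidirectProduct.rightHom.ker, inferInstance, ?_, ?_⟩, ?_⟩
  · intro hbot
    have hmem : (SemidirectProduct.inl (Multiplicative.ofAdd (1 : TruncRee.Mat F)) :
        TruncRee.Grp F) ∈ (SemidirectProduct.rightHom : TruncRee.Grp F →* _).ker := by
      simp [MonoidHom.mem_ker]
    rw [hbot, Subgroup.mem_bot] at hmem
    have h1 := congrArg (fun x : TruncRee.Grp F => x.left.toAdd) hmem
    exact one_ne_zero (α := TruncRee.Mat F) h1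
  · intro x
    refine ⟨1, Subtype.ext ?_⟩
    rw [pow_one, Subgroup.coe_pow, Subgroup.coe_one,
      TruncRee.eq_inl_of_right _ x.2, TruncRee.inl_pow_three]
  subst hq
  set q := Fintype.card F
  have key : ∀ l ∈ ({6, 9, q - 1, (q + 1) / 2} : Set ℕ),
      l ∈ Set.range (orderOf : TruncRee.Grp F → ℕ) := by
    intro l hl
    simp only [Set.mem_insert_iff, Set.mem_singleton_iff] at hl
    rcases hl with rfl | rfl | rfl | rfl
    · exact TruncRee.exists_orderOf_six
    · exact TruncRee.exists_orderOf_nine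
    · exact TruncRee.exists_orderOf_qm1 (by rw [Nat.odd_iff]; omega) (by rw [Nat.even_iff]; omega)
    · exact TruncRee.exists_orderOf_qp1
  have anti : ∀ l ∈ ({6, 9, q - 1, (q + 1) / 2} : Set ℕ),
      ∀ l' ∈ ({6, 9, q - 1, (q + 1) / 2} : Set ℕ), l ∣ l' → l = l' := by
    intro l hl l' hl' hd
    simp only [Set.mem_insert_iff, Set.mem_singleton_iff] at hl hl'
    have big : ∀ {a b : ℕ}, a ∣ b → 0 < b → a ≤ b := fun h h' => Nat.le_of_dvd h' h
    rcases hl with rfl | rfl | rfl | rfl <;> rcases hl' with rfl | rfl | rfl | rfl <;>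
      first
        | rfl
        | (exfalso; have := big hd (by omega); omega)
        | (exfalso; have := (dvd_trans (by norm_num : 3 ∣ 6) hd); omega)
        | (exfalso; have := (dvd_trans (by norm_num : 3 ∣ 9) hd); omega)
        | (exfalso
           have h' : (q + 1) / 2 ∣ q + 1 := ⟨2, by omega⟩
           have := big (Nat.dvd_sub h' hd) (by omega)
           omega)
  ext n
  simp only [Set.mem_setOf_eq]
  constructor
  · rintro ⟨⟨h, rfl⟩, hmax⟩
    obtain ⟨l, hl, hdl⟩ : ∃ l ∈ ({6, 9, q - 1, (q + 1) / 2} : Set ℕ), orderOf h ∣ l := by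
      rcases hcases h with e | e | e | e
      · exact ⟨6, by simp, e⟩
      · exact ⟨9, by simp, e⟩
      · exact ⟨q - 1, by simp, e⟩
      · exact ⟨(q + 1) / 2, by simp, e⟩
    rw [← hmax l (key l hl) hdl]
    exact hl
  · intro hl
    refine ⟨key n hl, ?_⟩
    rintro m ⟨h, rfl⟩ hd
    obtain ⟨l, hl', hdl⟩ : ∃ l ∈ ({6, 9, q - 1, (q + 1) / 2} : Set ℕ), orderOf h ∣ l := by
      rcases hcases h with e | e | e | e
      · exact ⟨6, by simp, e⟩
      · exact ⟨9, by simp, e⟩
      · exact ⟨q - 1, by simp, e⟩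
      · exact ⟨(q + 1) / 2, by simp, e⟩
    have := anti n hl l hl' (hd.trans hdl)
    subst this
    exact Nat.dvd_antisymm hdl hd

end Cfsg.Agent.S2515
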