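import Cfsg.Statements.S2516

set_option autoImplicit false
open Cfsg

namespace Cfsg.Agent.S2516

/-- Let F be a field of characteristic p > 0, V a non-zero finite-dimensional F-vector space, G a finite group and ρ a representation of G on V; form the semidirect product V ⋊ G. For g ∈ G of order k, the coset Vg contains an element of order pk if and only if the minimal polynomial of ρ(g) does not divide 1 + X + ⋯ + X^(k−1). -/
theorem result {F : Type*} [Field F] (p : ℕ) [Fact p.Prime] [CharP F p] {V : Type*} [AddCommGroup V] [Module F V] [FiniteDimensional F V] [Nontrivial V]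
    {G : Type*} [Group G] [Finite G] (ρ : Representation F G V) (g : G) :
    (∃ x : Multiplicative V ⋊[(MulAutMultiplicative V).symm.toMonoidHom.comp
        ((DistribMulAction.toAddAut ((V →ₗ[F] V)ˣ) V).comp ρ.asGroupHom)] G,
        x.right = g ∧ orderOf x = p * orderOf g) ↔
      ¬ (minpoly F (ρ g) ∣ ∑ i ∈ Finset.range (orderOf g), (Polynomial.X : Polynomial F) ^ i) := by
  classical
  set φ : G →* MulAut (Multiplicative V) := (MulAutMultiplicative V).symm.toMonoidHom.comp
    ((DistribMulAction.toAddAut ((V →ₗ[F] V)ˣ) V).comp ρ.asGroupHom)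
  have hφ : ∀ (h : G) (w : Multiplicative V), φ h w = Multiplicative.ofAdd (ρ h w.toAdd) := fun h w => rfl
  set P : Polynomial F := ∑ i ∈ Finset.range (orderOf g), Polynomial.X ^ i
  have hpow : ∀ (x : Multiplicative V ⋊[φ] G) (j : ℕ),
      (x ^ j).left.toAdd = (∑ i ∈ Finset.range j, (ρ x.right) ^ i) x.left.toAdd := by
    intro x j
    induction j with
    | zero => simp
    | succ j ih =>
      have hr : (x ^ j).right = x.right ^ j := map_pow SemidirectProduct.rightHom x j
      rw [pow_succ, SemidirectProduct.mul_left, hr, toAdd_mul, hφ, toAdd_ofAdd, map_pow, ih,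
        Finset.sum_range_succ, LinearMap.add_apply]
  have hP : Polynomial.aeval (ρ g) P = ∑ i ∈ Finset.range (orderOf g), (ρ g) ^ i := by
    simp [P, map_sum]
  rw [minpoly.dvd_iff]
  constructor
  · rintro ⟨x, hxg, hxo⟩ h0
    have hk : x ^ orderOf g = 1 := by
      refine SemidirectProduct.ext ?_ ?_
      · apply Multiplicative.toAdd.injective
        rw [hpow, hxg, ← hP, h0]; rfl
      · have : (x ^ orderOf g).right = x.right ^ orderOf g := map_pow SemidirectProduct.rightHom x _
        rw [this, hxg, pow_orderOf_eq_one]; rfl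
    have h1 := Nat.le_of_dvd (orderOf_pos g) (orderOf_dvd_iff_pow_eq_one.2 hk)
    rw [hxo] at h1
    have h2 := (Fact.out : p.Prime).two_le
    have h3 := orderOf_pos g
    nlinarith
  · intro h0
    obtain ⟨v, hv⟩ : ∃ v : V, Polynomial.aeval (ρ g) P v ≠ 0 := by
      by_contra h
      push Not at h
      exact h0 (LinearMap.ext h)
    let x : Multiplicative V ⋊[φ] G := ⟨Multiplicative.ofAdd v, g⟩
    refine ⟨x, rfl, ?_⟩
    have hne : ¬ x ^ orderOf g = 1 := by
      intro h
      apply hv
      have := hpow x (orderOf g)
      rw [h] at this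
      rw [hP]
      exact this.symm
    have hdiv : orderOf g ∣ orderOf x := orderOf_map_dvd SemidirectProduct.rightHom x
    have hdiv2 : orderOf x ∣ p * orderOf g := by
      rw [orderOf_dvd_iff_pow_eq_one, mul_comm, pow_mul]
      have hr : (x ^ orderOf g).right = 1 := by
        have : (x ^ orderOf g).right = x.right ^ orderOf g := map_pow SemidirectProduct.rightHom x _
        rw [this]; exact pow_orderOf_eq_one g
      obtain ⟨w, hw⟩ : ∃ w, x ^ orderOf g = SemidirectProduct.inl w :=
        ⟨(x ^ orderOf g).left, SemidirectProduct.ext rfl hr⟩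
      rw [hw, ← map_pow]
      have : w ^ p = 1 := by
        apply Multiplicative.toAdd.injective
        rw [toAdd_pow, ← Nat.cast_smul_eq_nsmul F, CharP.cast_eq_zero, zero_smul]
        rfl
      rw [this, map_one]
    obtain ⟨c, hc⟩ := hdiv
    rw [hc, mul_comm (orderOf g), Nat.mul_dvd_mul_iff_right (orderOf_pos g)] at hdiv2
    rcases (Fact.out : p.Prime).eq_one_or_self_of_dvd c hdiv2 with rfl | rfl
    · exact absurd (by rw [← orderOf_dvd_iff_pow_eq_one, hc, mul_one]) hne
    · rw [hc, mul_comm]

end Cfsg.Agent.S2516
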