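import Cfsg.Statements.S2518
import Cfsg.Agent.Lib.Spectrum.G2Three.Graph
import Cfsg.Agent.Lib.Spectrum.G2Three.PSL13

set_option autoImplicit false
open Cfsg

namespace Cfsg.Agent.S2518

/-- Let F₃ be the field with 3 elements and F₁₃ the field with 13 elements. The Chevalley group G₂(F₃) and PSL(2, F₁₃) have the same prime graph: the same prime divisors of their orders, and for distinct primes r, s an element of order rs in one iff in the other. -/
theorem result {F : Type*} [Field F] [Fintype F] (hF : Fintype.card F = 3) {E : Type*} [Field E] [Fintype E] (hE : Fintype.card E = 13) :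
    ((∀ r : ℕ, r.Prime → (r ∣ Nat.card ↥(Cfsg.Lie.chevG2.group F) ↔ r ∣ Nat.card (Matrix.ProjectiveSpecialLinearGroup (Fin 2) E))) ∧
      (∀ r s : ℕ, r.Prime → s.Prime → r ≠ s → ((∃ x : ↥(Cfsg.Lie.chevG2.group F), orderOf x = r * s) ↔ (∃ y : (Matrix.ProjectiveSpecialLinearGroup (Fin 2) E), orderOf y = r * s)))) := by
  refine ⟨fun r hr => ?_, fun r s hr hs hne =>
    (CfsgLib.Spectrum.G2Three.orderOf_mul_iff hF hr hs hne).trans
      (CfsgLib.Spectrum.G2Three.psl_orderOf_mul_iff hE hr hs hne).symm⟩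
  rw [CfsgLib.Spectrum.G2Three.card_group hF, CfsgLib.Spectrum.G2Three.card_psl_thirteen hE,
    show (4245696 : ℕ) = 2 ^ 6 * 3 ^ 6 * 7 * 13 by norm_num, show (1092 : ℕ) = 2 ^ 2 * 3 * 7 * 13 by norm_num]
  have h2 : r ∣ 2 ^ 6 ↔ r ∣ 2 ^ 2 := ⟨fun h => dvd_pow (hr.dvd_of_dvd_pow h) (by norm_num),
    fun h => dvd_pow (hr.dvd_of_dvd_pow h) (by norm_num)⟩
  have h3 : r ∣ 3 ^ 6 ↔ r ∣ 3 := ⟨fun h => hr.dvd_of_dvd_pow h, fun h => dvd_pow h (by norm_num)⟩
  simp only [Nat.Prime.dvd_mul hr, h2, h3]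

end Cfsg.Agent.S2518
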