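import Cfsg.Statements.S2521

set_option autoImplicit false
open Cfsg

namespace Cfsg.Agent.S2521

/-- Let B be a finite group that is the semidirect product of a nilpotent normal subgroup U by an abelian subgroup T (U ∩ T = 1, UT = B), and let t ∈ T have centralizer exactly T. Then every element of the coset tU is conjugate to t in B: for each u ∈ U there is b ∈ B with b t b⁻¹ = t u. -/
theorem result {B : Type*} [Group B] [Finite B] (U T : Subgroup B) [U.Normal] (hU : Group.IsNilpotent ↥U) (hT : IsMulCommutative ↥T)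
    (hcompl : Subgroup.IsComplement' U T) (t : B) (ht : t ∈ T) (hreg : Subgroup.centralizer ({t} : Set B) = T) (u : B) (hu : u ∈ U) :
    ∃ b : B, b * t * b⁻¹ = t * u := by
  classical
  have hinj : Function.Injective (fun b : U => t⁻¹ * ((b : B) * t * (b : B)⁻¹)) := by
    intro a b hab
    have h : (a : B) * t * (a : B)⁻¹ = (b : B) * t * (b : B)⁻¹ := mul_left_cancel hab
    have hc : (b : B)⁻¹ * a ∈ Subgroup.centralizer ({t} : Set B) := by
      rw [Subgroup.mem_centralizer_singleton_iff]
      have h2 := congrArg (fun x => (b : B)⁻¹ * x * (a : B)) h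
      simp only [mul_assoc, inv_mul_cancel, mul_one, inv_mul_cancel_left] at h2
      simp only [mul_assoc]
      first
        | exact h2
        | exact h2.symm
    rw [hreg] at hc
    have h1 : (b : B)⁻¹ * a ∈ U ⊓ T := ⟨U.mul_mem (U.inv_mem b.2) a.2, hc⟩
    rw [disjoint_iff.1 hcompl.disjoint, Subgroup.mem_bot, inv_mul_eq_one] at h1
    exact Subtype.ext h1.symm
  have hmem : ∀ b : U, t⁻¹ * ((b : B) * t * (b : B)⁻¹) ∈ U := by
    intro b
    have hn : t⁻¹ * (b : B) * t ∈ U := by
      have := Subgroup.Normal.conj_mem (inferInstance : U.Normal) _ b.2 t⁻¹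
      simpa using this
    have : t⁻¹ * ((b : B) * t * (b : B)⁻¹) = (t⁻¹ * (b : B) * t) * (b : B)⁻¹ := by simp [mul_assoc]
    rw [this]
    exact mul_mem hn (inv_mem b.2)
  let f : U → U := fun b => ⟨_, hmem b⟩
  have hf : Function.Injective f := fun a b h => hinj (congrArg Subtype.val h)
  obtain ⟨b, hb⟩ := (Finite.injective_iff_surjective.1 hf) ⟨u, hu⟩
  exact ⟨b, by rw [← inv_mul_eq_iff_eq_mul]; exact congrArg Subtype.val hb⟩

end Cfsg.Agent.S2521
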