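import Cfsg.Statements.S2524
import Cfsg.Agent.Lib.Weil.Gap.Main
import Cfsg.Agent.Lib.Char.Ortho

set_option autoImplicit false
open Cfsg

namespace Cfsg.Agent.S2524

/-- Two characters of one degree and two of another, with nothing else of these degrees. -/
theorem count_aux {G : Type*} [Group G] (a b c d : Cfsg.IrrCharacter G) (A B : ℂ) (ha : (a : G → ℂ) 1 = A)
    (hb : (b : G → ℂ) 1 = B) (hc : (c : G → ℂ) 1 = A) (hd : (d : G → ℂ) 1 = B) (hAB : A ≠ B) (hac : a ≠ c)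
    (hbd : b ≠ d)
    (hall : ∀ χ : Cfsg.IrrCharacter G, (χ : G → ℂ) 1 = A ∨ (χ : G → ℂ) 1 = B → χ = a ∨ χ = b ∨ χ = c ∨ χ = d) :
    Nat.card {χ : Cfsg.IrrCharacter G // (χ : G → ℂ) 1 = A} = 2 ∧
      Nat.card {χ : Cfsg.IrrCharacter G // (χ : G → ℂ) 1 = B} = 2 := by
  rw [Nat.card_eq_two_iff, Nat.card_eq_two_iff]
  refine ⟨⟨⟨a, ha⟩, ⟨c, hc⟩, fun e => hac (congrArg Subtype.val e), Set.eq_univ_of_forall fun ⟨χ, hχ⟩ => ?_⟩,
    ⟨⟨b, hb⟩, ⟨d, hd⟩, fun e => hbd (congrArg Subtype.val e), Set.eq_univ_of_forall fun ⟨χ, hχ⟩ => ?_⟩⟩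
  · simp only [Set.mem_insert_iff, Set.mem_singleton_iff, Subtype.mk.injEq]
    rcases hall χ (Or.inl hχ) with rfl | rfl | rfl | rfl
    · exact Or.inl rfl
    · exact absurd (hχ.symm.trans hb) hAB
    · exact Or.inr rfl
    · exact absurd (hχ.symm.trans hd) hAB
  · simp only [Set.mem_insert_iff, Set.mem_singleton_iff, Subtype.mk.injEq]
    rcases hall χ (Or.inr hχ) with rfl | rfl | rfl | rfl
    · exact absurd (ha.symm.trans hχ) hAB
    · exact Or.inl rfl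
    · exact absurd (hc.symm.trans hχ) hAB
    · exact Or.inr rfl

/-- Let F be a finite field of odd order q and G = Sp(2n, F) with n ≥ 2. Then G has exactly four irreducible complex characters of degree (q^n + 1)/2 or (q^n − 1)/2 (two of each), and every other non-principal irreducible character has degree at least (q^n − 1)(q^n − q)/(2(q + 1)). -/
theorem result {F : Type*} [Field F] [Fintype F] (hodd : Odd (Fintype.card F)) (n : ℕ) (hn : 2 ≤ n) :
    Nat.card {χ : Cfsg.IrrCharacter ↥(Matrix.symplecticGroup (Fin n) F) // (χ : ↥(Matrix.symplecticGroup (Fin n) F) → ℂ) 1 = (((Fintype.card F) ^ n + 1 : ℕ) : ℂ) / 2} = 2 ∧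
    Nat.card {χ : Cfsg.IrrCharacter ↥(Matrix.symplecticGroup (Fin n) F) // (χ : ↥(Matrix.symplecticGroup (Fin n) F) → ℂ) 1 = (((Fintype.card F) ^ n - 1 : ℕ) : ℂ) / 2} = 2 ∧
    ∀ χ : Cfsg.IrrCharacter ↥(Matrix.symplecticGroup (Fin n) F),
      (χ : ↥(Matrix.symplecticGroup (Fin n) F) → ℂ) 1 ≠ 1 →
      (χ : ↥(Matrix.symplecticGroup (Fin n) F) → ℂ) 1 ≠ (((Fintype.card F) ^ n + 1 : ℕ) : ℂ) / 2 →
      (χ : ↥(Matrix.symplecticGroup (Fin n) F) → ℂ) 1 ≠ (((Fintype.card F) ^ n - 1 : ℕ) : ℂ) / 2 →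
      (((Fintype.card F) ^ n - 1 : ℕ) : ℝ) * (((Fintype.card F) ^ n - Fintype.card F : ℕ) : ℝ) / (2 * ((Fintype.card F : ℕ) + 1 : ℝ)) ≤ ‖(χ : ↥(Matrix.symplecticGroup (Fin n) F) → ℂ) 1‖ := by
  classical
  have hF : ringChar F ≠ 2 := fun h => by
    have := FiniteField.even_card_iff_char_two.1 h
    obtain ⟨a, ha⟩ := hodd
    omega
  have h2 : (2 : F) ≠ 0 := Ring.two_ne_zero hF
  obtain ⟨l, rfl⟩ : ∃ l, n = l + 1 + 1 := ⟨n - 2, by omega⟩
  obtain ⟨ψ, hψ⟩ := CfsgLib.MinDegree.exists_nontrivial_addChar (K := ℂ) (F := F)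
    (by exact_mod_cast Fintype.card_ne_zero)
  obtain ⟨r₀, hr₀⟩ := FiniteField.exists_nonsquare hF
  have hr₀0 : r₀ ≠ 0 := fun e => hr₀ (e ▸ IsSquare.zero)
  have hψ' : ψ.mulShift r₀ ≠ 1 := AddChar.IsPrimitive.of_ne_one hψ hr₀0
  set G := ↥(Matrix.symplecticGroup (Fin (l + 1 + 1)) F)
  set q := Fintype.card F
  set N := q ^ (l + 1 + 1) with hN
  have hq3 : 3 ≤ q := by
    have : 1 < q := Fintype.one_lt_card
    obtain ⟨a, ha⟩ := hodd
    omega
  have hqN : q * q ≤ N := by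
    rw [hN, pow_succ, pow_succ]
    exact Nat.mul_le_mul_right q (Nat.le_mul_of_pos_left q (Nat.pow_pos (by omega)))
  have hN9 : 9 ≤ N := le_trans (Nat.mul_le_mul hq3 hq3) hqN
  have hsmall : (q + 1) * (N + 1) < (N - 1) * (N - q) := by
    obtain ⟨M, hM⟩ := Nat.exists_eq_add_of_le (show 1 ≤ N by omega)
    have h1 : 2 * q ≤ N - q := by
      have := Nat.mul_le_mul_right q hq3
      omega
    have h3 : (q + 1) * (N + 1) < (N - 1) * (2 * q) := by
      rw [hM, Nat.add_sub_cancel_left]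
      nlinarith [Nat.mul_le_mul hq3 (show 8 ≤ M by omega)]
    exact lt_of_lt_of_le h3 (Nat.mul_le_mul_left _ h1)
  let H (φ : AddChar F ℂ) (hφ : φ ≠ 1) (ε : ℂ) : G → ℂ :=
    (CfsgLib.Weil.half φ (n := l + 1 + 1) h2 hφ ε).character
  have hirr : ∀ φ hφ (ε : ℂ), ε * ε = 1 → Cfsg.IsIrrCharacter G (H φ hφ ε) := fun φ hφ ε hε => by
    haveI := CfsgLib.Weil.half_irreducible φ h2 hφ (n := l + 1 + 1) (by omega) hε
    exact CfsgLib.Char.isIrrCharacter_char _
  have hone : ∀ φ hφ, H φ hφ 1 1 = ((N + 1 : ℕ) : ℂ) / 2 := fun φ hφ => by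
    have := CfsgLib.Weil.finrank_half_one (F := F) (n := l + 1 + 1) h2
    simp only [H, Representation.char_one]
    rw [eq_div_iff two_ne_zero, hN]
    exact_mod_cast (mul_comm _ _).trans this
  have hneg : ∀ φ hφ, H φ hφ (-1) 1 = ((N - 1 : ℕ) : ℂ) / 2 := fun φ hφ => by
    have := CfsgLib.Weil.finrank_half_neg (F := F) (n := l + 1 + 1) h2
    simp only [H, Representation.char_one]
    rw [eq_div_iff two_ne_zero]
    have e : Module.finrank ℂ (CfsgLib.Weil.halfSub (l + 1 + 1) F (-1)) * 2 = N - 1 := by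
      change 2 * _ + 1 = N at this
      omega
    exact_mod_cast e
  have hne2 : ((N + 1 : ℕ) : ℂ) / 2 ≠ ((N - 1 : ℕ) : ℂ) / 2 := fun e => by
    have : N + 1 = N - 1 := by exact_mod_cast (div_left_inj' two_ne_zero).1 e
    omega
  have hclass : ∀ χ : Cfsg.IrrCharacter G, ∃ d : ℕ, (χ : G → ℂ) 1 = (d : ℂ) ∧
      ((χ : G → ℂ) 1 = 1 ∨ (N - 1) * (N - q) ≤ 2 * (q + 1) * d ∨ (χ : G → ℂ) = H ψ hψ 1 ∨
        (χ : G → ℂ) = H ψ hψ (-1) ∨ (χ : G → ℂ) = H _ hψ' 1 ∨ (χ : G → ℂ) = H _ hψ' (-1)) := by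
    rintro ⟨χ, d, ρ, hρ, rfl⟩
    haveI := hρ
    refine ⟨d, by simp, ?_⟩
    by_cases hone' : ρ = 1
    · left
      subst hone'
      have hd : d = 1 := by
        by_contra hd
        have hd0 : 0 < d := by simpa using CfsgLib.Char.finrank_pos_of_irreducible (1 : Representation ℂ G (Fin d → ℂ))
        let S : Subrepresentation (1 : Representation ℂ G (Fin d → ℂ)) :=
          ⟨Submodule.span ℂ {Pi.single ⟨0, hd0⟩ 1}, fun g v hv => by simpa using hv⟩
        rcases eq_bot_or_eq_top S with e | e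
        · exact absurd (Submodule.span_singleton_eq_bot.1 (congrArg Subrepresentation.toSubmodule e)) (by simp)
        · have e' : Submodule.span ℂ {(Pi.single ⟨0, hd0⟩ 1 : Fin d → ℂ)} = ⊤ :=
            congrArg Subrepresentation.toSubmodule e
          have := finrank_span_singleton (K := ℂ) (v := (Pi.single ⟨0, hd0⟩ 1 : Fin d → ℂ)) (by simp)
          rw [e', finrank_top, Module.finrank_fin_fun] at this
          exact hd this
      simp [hd]
    by_cases hb : (N - 1) * (N - q) ≤ 2 * (q + 1) * d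
    · exact Or.inr (Or.inl hb)
    rcases CfsgLib.Weil.Gap.small_classify ψ h2 hψ hr₀ hψ' ρ hone' (by simpa using not_le.1 hb) with h | h | h | h
    · exact Or.inr (Or.inr (Or.inl h))
    · exact Or.inr (Or.inr (Or.inr (Or.inl h)))
    · exact Or.inr (Or.inr (Or.inr (Or.inr (Or.inl h))))
    · exact Or.inr (Or.inr (Or.inr (Or.inr (Or.inr h))))
  have hbnd : ∀ d : ℕ, 2 * d ≤ N + 1 → ¬ (N - 1) * (N - q) ≤ 2 * (q + 1) * d := fun d hd h => by
    have h' : 2 * (q + 1) * d ≤ (q + 1) * (N + 1) := by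
      rw [show 2 * (q + 1) * d = (q + 1) * (2 * d) by ring]
      exact Nat.mul_le_mul_left _ hd
    omega
  have hall : ∀ χ : Cfsg.IrrCharacter G,
      (χ : G → ℂ) 1 = ((N + 1 : ℕ) : ℂ) / 2 ∨ (χ : G → ℂ) 1 = ((N - 1 : ℕ) : ℂ) / 2 →
      χ = ⟨_, hirr ψ hψ 1 (by ring)⟩ ∨ χ = ⟨_, hirr ψ hψ (-1) (by ring)⟩ ∨ χ = ⟨_, hirr _ hψ' 1 (by ring)⟩ ∨
        χ = ⟨_, hirr _ hψ' (-1) (by ring)⟩ := by
    intro χ hχ
    obtain ⟨d, hd, hc⟩ := hclass χ
    have hdD : 2 * d = N + 1 ∨ 2 * d = N - 1 := by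
      rw [hd, eq_div_iff two_ne_zero, eq_div_iff two_ne_zero] at hχ
      rcases hχ with e | e
      · exact Or.inl ((mul_comm 2 d).trans (by exact_mod_cast e))
      · exact Or.inr ((mul_comm 2 d).trans (by exact_mod_cast e))
    rcases hc with h | h | h | h | h | h
    · rw [hd] at h
      have : d = 1 := by exact_mod_cast h
      omega
    · exact absurd h (hbnd d (by omega))
    · exact Or.inl (Subtype.ext h)
    · exact Or.inr (Or.inl (Subtype.ext h))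
    · exact Or.inr (Or.inr (Or.inl (Subtype.ext h)))
    · exact Or.inr (Or.inr (Or.inr (Subtype.ext h)))
  obtain ⟨hA, hB⟩ := count_aux _ _ _ _ _ _ (hone ψ hψ) (hneg ψ hψ) (hone _ hψ') (hneg _ hψ') hne2
    (fun e => CfsgLib.Weil.Gap.half_char_ne ψ h2 hψ hr₀ hψ' (by ring) (congrArg Subtype.val e))
    (fun e => CfsgLib.Weil.Gap.half_char_ne ψ h2 hψ hr₀ hψ' (by ring) (congrArg Subtype.val e)) hall
  refine ⟨hA, hB, fun χ h1 hp hm => ?_⟩
  obtain ⟨d, hd, hc⟩ := hclass χ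
  rcases hc with h | h | h | h | h | h
  · exact absurd h h1
  · rw [hd, Complex.norm_natCast, div_le_iff₀ (by positivity)]
    have h' : ((N - 1 : ℕ) : ℝ) * ((N - q : ℕ) : ℝ) ≤ 2 * ((q : ℝ) + 1) * d := by exact_mod_cast h
    linarith [h']
  · exact absurd ((congrFun h 1).trans (hone ψ hψ)) hp
  · exact absurd ((congrFun h 1).trans (hneg ψ hψ)) hm
  · exact absurd ((congrFun h 1).trans (hone _ hψ')) hp
  · exact absurd ((congrFun h 1).trans (hneg _ hψ')) hm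

end Cfsg.Agent.S2524
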