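import Cfsg.Statements.S2531

set_option autoImplicit false
open Cfsg

namespace Cfsg.Agent.S2531

/-- Let `F` be a finite field and `n ≥ 3`. No set of permutations of the points of the projective space of `Fⁿ`, each induced by an invertible semilinear transformation of `Fⁿ` (so a subset of the full projective semilinear group), is sharply 2-transitive on the points: it is impossible that for all pairs of distinct points `(a, b)` and `(c, d)` exactly one member of the set sends `a` to `c` and `b` to `d`. -/
theorem result {F : Type*} [Field F] [Finite F]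
    (n : ℕ) (hn : 3 ≤ n) (S : Set (Equiv.Perm (Projectivization F (Fin n → F))))
    (hS : ∀ s ∈ S, ∃ (σ : F ≃+* F) (f : (Fin n → F) →ₛₗ[(σ : F →+* F)] (Fin n → F)) (hf : Function.Injective f),
      ∀ x, s x = Projectivization.map f hf x) :
    ¬ (∀ a b c d : Projectivization F (Fin n → F), a ≠ b → c ≠ d →
        ∃! s, s ∈ S ∧ s a = c ∧ s b = d) := by
  classical
  intro huniq
  haveI : Fintype F := Fintype.ofFinite F
  obtain ⟨p, hp⟩ := CharP.exists F
  haveI : Fact p.Prime := ⟨CharP.char_is_prime F p⟩
  let P := Projectivization F (Fin n → F)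
  haveI : Finite P := inferInstance
  haveI : Fintype P := Fintype.ofFinite P
  let pts : Submodule F (Fin n → F) → Finset P := fun W => Finset.univ.filter fun x => x.rep ∈ W
  have hmk : ∀ (W : Submodule F (Fin n → F)) (v : Fin n → F) (hv : v ≠ 0),
      (Projectivization.mk F v hv).rep ∈ W ↔ v ∈ W := by
    intro W v hv
    obtain ⟨a, ha⟩ := Projectivization.exists_smul_eq_mk_rep F v hv
    rw [← ha]
    exact W.smul_mem_iff (Units.ne_zero a)
  have hpts : ∀ W : Submodule F (Fin n → F), W ≠ ⊥ → ((pts W).card : ZMod p) = 1 := by
    intro W hW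
    have e : Projectivization F W ≃ {x : P // x.rep ∈ W} :=
      Equiv.ofBijective
        (fun y => ⟨Projectivization.map W.subtype W.subtype_injective y, by
          induction y using Projectivization.ind with
          | h v hv =>
            show (Projectivization.map W.subtype W.subtype_injective (Projectivization.mk F v hv)).rep ∈ W
            rw [Projectivization.map_mk, hmk]; exact v.2⟩)
        ⟨fun a b h => Projectivization.map_injective _ W.subtype_injective (congrArg Subtype.val h), fun x => by
          obtain ⟨x, hx⟩ := x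
          refine ⟨Projectivization.mk F (⟨x.rep, hx⟩ : W)
            (fun h => x.rep_nonzero (congrArg Subtype.val h)), Subtype.ext ?_⟩
          show Projectivization.map W.subtype W.subtype_injective (Projectivization.mk F _ _) = x
          rw [Projectivization.map_mk]
          exact x.mk_rep⟩
    have h1 : (pts W).card = Nat.card (Projectivization F W) := by
      rw [Nat.card_congr e, Nat.card_eq_fintype_card, Fintype.card_subtype]
    have h2 := Projectivization.card (k := F) (V := W)
    have h3 : (Fintype.card F : ZMod p) = 0 := by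
      obtain ⟨e, -, he⟩ := FiniteField.card F p
      rw [he, Nat.cast_pow, ZMod.natCast_self, zero_pow e.pos.ne']
    have hd : 0 < Module.finrank F W := by
      haveI : Nontrivial W := Submodule.nontrivial_iff_ne_bot.2 hW
      exact Module.finrank_pos
    have h4 : (Nat.card W : ZMod p) = 0 := by
      rw [Module.natCard_eq_pow_finrank (K := F) (V := W), Nat.card_eq_fintype_card, Nat.cast_pow, h3,
        zero_pow hd.ne']
    have h5 := congrArg (fun k : ℕ => (k : ZMod p)) h2
    simp only [Nat.cast_sub (Nat.one_le_iff_ne_zero.2 (Nat.card_pos (α := W)).ne'),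
      Nat.cast_mul, Nat.cast_sub (Nat.one_le_iff_ne_zero.2 (Nat.card_pos (α := F)).ne'), h4,
      Nat.cast_one, Nat.card_eq_fintype_card (α := F), Nat.cast_sub (Nat.one_le_iff_ne_zero.2 (Fintype.card_pos (α := F)).ne'), h3] at h5
    rw [h1]
    linear_combination h5
  let e : Fin n → (Fin n → F) := fun i => Pi.single i 1
  have he : ∀ i, e i ≠ 0 := fun i h => one_ne_zero (α := F) (by simpa [e] using congrFun h i)
  let i0 : Fin n := ⟨0, by omega⟩
  let i1 : Fin n := ⟨1, by omega⟩
  let i2 : Fin n := ⟨2, by omega⟩
  let P0 : P := Projectivization.mk F (e i0) (he i0)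
  let H : Submodule F (Fin n → F) := LinearMap.ker (LinearMap.proj i0)
  let Lw : Submodule F (Fin n → F) := Submodule.span F (Set.range ![e i1, e i2])
  have hLi : LinearIndependent F ![e i1, e i2] := by
    rw [LinearIndependent.pair_iff]
    intro s t hst
    have h1 := congrFun hst i1
    have h2 := congrFun hst i2
    simp [e, i1, i2, Pi.single_apply] at h1 h2
    exact ⟨h1, h2⟩
  have hLd : Module.finrank F Lw = 2 := by
    rw [finrank_span_eq_card hLi, Fintype.card_fin]
  have hLH : Lw ≤ H := by
    rw [Submodule.span_le]
    rintro _ ⟨k, rfl⟩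
    fin_cases k <;> simp [H, e, i0, i1, i2, Pi.single_apply]
  have hP0H : P0 ∉ pts H := by
    simp only [pts, Finset.mem_filter, Finset.mem_univ, true_and, P0, hmk]
    simp [H, e]
  have hP0L : P0 ∉ pts Lw := fun h => hP0H (by
    simp only [pts, Finset.mem_filter, Finset.mem_univ, true_and] at h ⊢
    exact hLH h)
  have hHd : Module.finrank F H = n - 1 := by
    have h := LinearMap.finrank_range_add_finrank_ker (LinearMap.proj i0 : (Fin n → F) →ₗ[F] F)
    rw [LinearMap.range_eq_top.2 (fun x => ⟨Pi.single i0 x, by simp⟩), finrank_top, Module.finrank_self,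
      Module.finrank_fin_fun] at h
    change Module.finrank F (LinearMap.ker (LinearMap.proj i0 : (Fin n → F) →ₗ[F] F)) = n - 1
    omega
  let C : Finset P := Finset.univ \ insert P0 (pts H)
  have hC : (C.card : ZMod p) = -1 := by
    have h1 : C.card + (insert P0 (pts H)).card = Fintype.card P := by
      rw [Finset.card_sdiff_add_card_eq_card (Finset.subset_univ _), Finset.card_univ]
    have h2 : (Fintype.card P : ZMod p) = 1 := by
      have := hpts ⊤ (by
        intro h
        have h' := congrArg (fun W : Submodule F (Fin n → F) => Module.finrank F W) h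
        simp at h'
        omega)
      simpa [pts] using this
    have h3 : H ≠ ⊥ := by
      intro h
      rw [h, finrank_bot] at hHd
      omega
    rw [Finset.card_insert_of_notMem hP0H] at h1
    have h4 := congrArg (fun k : ℕ => (k : ZMod p)) h1
    simp only [Nat.cast_add, Nat.cast_one, hpts H h3, h2] at h4
    linear_combination h4
  haveI : Finite (Equiv.Perm P) := inferInstance
  let T : Finset (Equiv.Perm P) := Finset.univ.filter fun s => s ∈ S ∧ s P0 = P0
  have hcount : ∑ s ∈ T, ((C.filter fun z => s z ∈ pts Lw).card) = C.card * (pts Lw).card := by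
    simp only [Finset.card_eq_sum_ones (C.filter _)]
    rw [Finset.sum_comm' (t' := C) (s' := fun z => T.filter fun s => s z ∈ pts Lw)
      (by intro s z; simp only [Finset.mem_filter]; tauto)]
    rw [Finset.sum_const_nat (m := (pts Lw).card)]
    intro z hz
    rw [Finset.sum_const, smul_eq_mul, mul_one]
    refine Finset.card_bij (fun s _ => s z) (fun s hs => (Finset.mem_filter.1 hs).2) ?_ ?_
    · intro s hs s' hs' heq
      simp only [T, Finset.mem_filter, Finset.mem_univ, true_and] at hs hs'
      have hzP : P0 ≠ z := by
        rintro rfl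
        simp [C] at hz
      obtain ⟨u, -, hu⟩ := huniq P0 z P0 (s z) hzP (by
        intro h; exact hP0L (h ▸ hs.2))
      exact (hu s ⟨hs.1.1, hs.1.2, rfl⟩).trans (hu s' ⟨hs'.1.1, hs'.1.2, heq.symm⟩).symm
    · intro y hy
      have hzP : P0 ≠ z := by
        rintro rfl
        simp [C] at hz
      obtain ⟨s, ⟨hs1, hs2, hs3⟩, -⟩ := huniq P0 z P0 y hzP (by intro h; exact hP0L (h ▸ hy))
      exact ⟨s, by simp only [T, Finset.mem_filter, Finset.mem_univ, true_and, hs3]; exact ⟨⟨hs1, hs2⟩, hy⟩, hs3⟩
  have hzero : ∀ s ∈ T, ((C.filter fun z => s z ∈ pts Lw).card : ZMod p) = 0 := by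
    intro s hs
    simp only [T, Finset.mem_filter, Finset.mem_univ, true_and] at hs
    obtain ⟨σ, f, hf, hsf⟩ := hS s hs.1
    haveI : RingHomSurjective (σ : F →+* F) := ⟨σ.surjective⟩
    let W : Submodule F (Fin n → F) := H.map f
    have hWd : Module.finrank F W = n - 1 := by
      have h1 : Nat.card W = Nat.card H :=
        (Nat.card_congr (Equiv.ofBijective (fun v : H => (⟨f v, Submodule.mem_map_of_mem v.2⟩ : W))
          ⟨fun a b h => Subtype.ext (hf (congrArg Subtype.val h)), fun w => by
            obtain ⟨v, hv, hvw⟩ := Submodule.mem_map.1 w.2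
            exact ⟨⟨v, hv⟩, Subtype.ext hvw⟩⟩)).symm
      rw [Module.natCard_eq_pow_finrank (K := F) (V := W), Module.natCard_eq_pow_finrank (K := F) (V := H), hHd] at h1
      exact Nat.pow_right_injective Finite.one_lt_card h1
    have hsW : ∀ z, s z ∈ pts W ↔ z ∈ pts H := by
      intro z
      induction z using Projectivization.ind with
      | h v hv =>
        simp only [pts, Finset.mem_filter, Finset.mem_univ, true_and, hsf, Projectivization.map_mk, hmk]
        simp only [W, Submodule.mem_map]
        exact ⟨fun ⟨w, hw, hwv⟩ => hf hwv ▸ hw, fun h => ⟨v, h, rfl⟩⟩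
    have himg : (C.filter fun z => s z ∈ pts Lw).card = (pts Lw \ pts (Lw ⊓ W)).card := by
      refine Finset.card_bij (fun z _ => s z) ?_ (fun a _ b _ h => s.injective h) ?_
      · intro z hz
        simp only [C, Finset.mem_filter, Finset.mem_sdiff, Finset.mem_univ, true_and, Finset.mem_insert, not_or] at hz
        refine Finset.mem_sdiff.2 ⟨hz.2, fun h => hz.1.2 ((hsW z).1 ?_)⟩
        simp only [pts, Finset.mem_filter, Finset.mem_univ, true_and, Submodule.mem_inf] at h ⊢
        exact h.2
      · intro y hy
        rw [Finset.mem_sdiff] at hy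
        refine ⟨s.symm y, ?_, s.apply_symm_apply y⟩
        simp only [C, Finset.mem_filter, Finset.mem_sdiff, Finset.mem_univ, true_and, Finset.mem_insert, not_or,
          s.apply_symm_apply]
        refine ⟨⟨fun h => ?_, fun h => ?_⟩, hy.1⟩
        · exact hP0L (by rw [← hs.2, ← h, s.apply_symm_apply]; exact hy.1)
        · apply hy.2
          have h' := (hsW _).2 h
          rw [s.apply_symm_apply] at h'
          simp only [pts, Finset.mem_filter, Finset.mem_univ, true_and, Submodule.mem_inf] at h' hy ⊢
          exact ⟨hy.1, h'⟩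
    have hsub : pts (Lw ⊓ W) ⊆ pts Lw := by
      intro y hy
      simp only [pts, Finset.mem_filter, Finset.mem_univ, true_and, Submodule.mem_inf] at hy ⊢
      exact hy.1
    have hne : Lw ⊓ W ≠ ⊥ := by
      intro h
      have := Submodule.finrank_sup_add_finrank_inf_eq Lw W
      rw [h, finrank_bot, hLd, hWd] at this
      have h2 := Submodule.finrank_le (Lw ⊔ W)
      rw [Module.finrank_fin_fun] at h2
      omega
    have hL : Lw ≠ ⊥ := fun h => hne (by rw [h, bot_inf_eq])
    rw [himg, Finset.card_sdiff_of_subset hsub, Nat.cast_sub (Finset.card_le_card hsub), hpts _ hne, hpts _ hL, sub_self]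
  have h := congrArg (fun k : ℕ => (k : ZMod p)) hcount
  simp only [Nat.cast_sum, Nat.cast_mul, Finset.sum_eq_zero hzero, hC] at h
  have hL : Lw ≠ ⊥ := by
    intro h'
    rw [h', finrank_bot] at hLd
    omega
  rw [hpts _ hL, mul_one] at h
  exact one_ne_zero (α := ZMod p) (by linear_combination h)

end Cfsg.Agent.S2531
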