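import Cfsg.Statements.S2532

set_option autoImplicit false
open Cfsg

namespace Cfsg.Agent.S2532

/-- There is a function `f` of two natural-number arguments such that, whenever `m ≥ f(n, r)`, every subgroup of order `n` of the alternating group of degree `m` centralizes some subgroup of that alternating group isomorphic to the alternating group of degree `r`. -/
theorem result :
    ∃ f : ℕ → ℕ → ℕ, ∀ (m r : ℕ) (H : Subgroup ↥(alternatingGroup (Fin m))), f (Nat.card H) r ≤ m →
      ∃ K : Subgroup ↥(alternatingGroup (Fin m)), Nonempty (↥K ≃* ↥(alternatingGroup (Fin r))) ∧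
        K ≤ Subgroup.centralizer (H : Set ↥(alternatingGroup (Fin m))) := by
  classical
  refine ⟨fun n r => n * r * 2 ^ n + 1, fun m r H hm => ?_⟩
  set n := Nat.card H with hn
  haveI : Fintype H := Fintype.ofFinite H
  let act : H → Fin m → Fin m := fun h x => ((h : ↥(alternatingGroup (Fin m))) : Equiv.Perm (Fin m)) x
  have hact : ∀ (a b : H) (x : Fin m), act (a * b) x = act a (act b x) := fun a b x => rfl
  have hact1 : ∀ (a : H) (x : Fin m), act a⁻¹ (act a x) = x := by
    intro a x
    rw [← hact, inv_mul_cancel]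
    rfl
  let st : Fin m → Finset H := fun x => Finset.univ.filter fun h => act h x = x
  obtain ⟨K, -, hK⟩ : ∃ K ∈ (Finset.univ : Finset (Finset H)), n * r < (Finset.univ.filter fun x => st x = K).card := by
    refine Finset.exists_lt_card_fiber_of_mul_lt_card_of_maps_to (fun x _ => Finset.mem_univ (st x)) ?_
    simp only at hm
    rw [Finset.card_univ, Fintype.card_finset, Finset.card_univ, Fintype.card_fin, ← Nat.card_eq_fintype_card,
      mul_comm, ← hn]
    omega
  set X := Finset.univ.filter fun x => st x = K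
  let orb : Fin m → Finset (Fin m) := fun x => Finset.univ.image fun h => act h x
  have himg : r ≤ (X.image orb).card := by
    by_contra h
    push Not at h
    have h1 : X.card ≤ ∑ O ∈ X.image orb, O.card := by
      refine (Finset.card_le_card ?_).trans Finset.card_biUnion_le
      intro x hx
      refine Finset.mem_biUnion.2 ⟨orb x, Finset.mem_image_of_mem orb hx, Finset.mem_image.2 ⟨1, Finset.mem_univ _, rfl⟩⟩
    have h2 : ∀ O ∈ X.image orb, O.card ≤ n := by
      intro O hO
      obtain ⟨x, -, rfl⟩ := Finset.mem_image.1 hO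
      refine Finset.card_image_le.trans ?_
      rw [Finset.card_univ, hn, Nat.card_eq_fintype_card]
    have h3 := h1.trans (Finset.sum_le_card_nsmul _ _ _ h2)
    rw [smul_eq_mul] at h3
    nlinarith
  obtain ⟨ε⟩ : Nonempty (Fin r ↪ ↥(X.image orb)) := Function.Embedding.nonempty_of_card_le (by rw [Fintype.card_fin, Fintype.card_coe]; exact himg)
  choose x hxX hx using fun j => Finset.mem_image.1 (ε j).2
  have hxst : ∀ j, st (x j) = K := fun j => (Finset.mem_filter.1 (hxX j)).2
  -- the orbit shared by all the chosen points, as a set of cosets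
  let Y := {g : Fin r → Fin m // ∃ h : H, ∀ j, g j = act h (x j)}
  have hsame : ∀ (a b : H) (i j : Fin r), act a (x i) = act b (x i) → act a (x j) = act b (x j) := by
    intro a b i j h
    have h1 : b⁻¹ * a ∈ st (x i) := by
      simp only [st, Finset.mem_filter, Finset.mem_univ, true_and, hact, h, hact1]
    rw [hxst, ← hxst j] at h1
    simp only [st, Finset.mem_filter, Finset.mem_univ, true_and, hact] at h1
    have h2 := congrArg (act b) h1
    rwa [← hact, mul_inv_cancel] at h2
  have horb : ∀ (a b : H) (i j : Fin r), act a (x i) = act b (x j) → i = j := by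
    intro a b i j h
    apply ε.injective
    apply Subtype.ext
    rw [← hx i, ← hx j]
    ext y
    simp only [orb, Finset.mem_image, Finset.mem_univ, true_and]
    constructor
    · rintro ⟨c, rfl⟩
      refine ⟨c * a⁻¹ * b, ?_⟩
      rw [hact, ← h, hact, hact1]
    · rintro ⟨c, rfl⟩
      refine ⟨c * b⁻¹ * a, ?_⟩
      rw [hact, h, hact, hact1]
  let ι : Y × Fin r ↪ Fin m := ⟨fun p => p.1.1 p.2, by
    rintro ⟨⟨g, a, ha⟩, i⟩ ⟨⟨g', b, hb⟩, j⟩ h
    simp only at h
    rw [ha, hb] at h
    obtain rfl := horb a b i j h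
    refine Prod.ext (Subtype.ext (funext fun k => ?_)) rfl
    show g k = g' k
    rw [ha, hb]
    exact hsame a b i k h⟩
  let π : Equiv.Perm (Fin r) →* Equiv.Perm (Y × Fin r) :=
    { toFun := fun s => Equiv.prodCongr (Equiv.refl Y) s
      map_one' := by ext ⟨a, b⟩ <;> rfl
      map_mul' := fun s t => by ext ⟨a, b⟩ <;> rfl }
  let Φ : Equiv.Perm (Fin r) →* Equiv.Perm (Fin m) :=
    { toFun := fun s => (π s).viaEmbedding ι
      map_one' := by
        rw [map_one]
        exact map_one (Equiv.Perm.viaEmbeddingHom ι)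
      map_mul' := fun s t => by
        rw [map_mul]
        exact map_mul (Equiv.Perm.viaEmbeddingHom ι) _ _ }
  have hΦinj : Function.Injective Φ := by
    intro s t h
    have h1 : π s = π t := Equiv.Perm.viaEmbeddingHom_injective ι h
    ext j
    have := congrArg (fun q : Equiv.Perm (Y × Fin r) => (q (⟨fun j => act 1 (x j), 1, fun _ => rfl⟩, j)).2) h1
    exact congrArg Fin.val this
  have hker : ∀ s ∈ alternatingGroup (Fin r), Φ s ∈ alternatingGroup (Fin m) := by
    intro s hs
    suffices alternatingGroup (Fin r) ≤ (alternatingGroup (Fin m)).comap Φ from this hs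
    rw [← Equiv.Perm.closure_three_cycles_eq_alternating, Subgroup.closure_le]
    intro c hc
    have h3 : c ^ 3 = 1 := by
      rw [← Equiv.Perm.IsThreeCycle.orderOf hc]
      exact pow_orderOf_eq_one c
    have h := congrArg (fun t => Equiv.Perm.sign (Φ t)) h3
    simp only [map_pow, map_one] at h
    rw [SetLike.mem_coe, Subgroup.mem_comap, Equiv.Perm.mem_alternatingGroup]
    rcases Int.units_eq_one_or (Equiv.Perm.sign (Φ c)) with h' | h'
    · exact h'
    · rw [h'] at h; exact absurd h (by decide)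
  let ψ : ↥(alternatingGroup (Fin r)) →* ↥(alternatingGroup (Fin m)) :=
    (Φ.comp (alternatingGroup (Fin r)).subtype).codRestrict _ fun s => hker _ s.2
  refine ⟨ψ.range, ⟨(MonoidHom.ofInjective (f := ψ) ?_).symm⟩, ?_⟩
  · intro s t h
    exact Subtype.ext (hΦinj (congrArg Subtype.val h))
  rintro _ ⟨s, rfl⟩ h hh
  apply Subtype.ext
  apply Equiv.ext
  intro y
  show act ⟨h, hh⟩ ((π s).viaEmbedding ι y) = (π s).viaEmbedding ι (act ⟨h, hh⟩ y)
  have hshift : ∀ (a : H) (g : Y), ∃ g' : Y, ∀ j, act a (g.1 j) = g'.1 j := by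
    rintro a ⟨g, b, hb⟩
    exact ⟨⟨fun j => act a (g j), a * b, fun j => by rw [hact, ← hb]⟩, fun j => rfl⟩
  by_cases hy : y ∈ Set.range ι
  · obtain ⟨⟨g, j⟩, rfl⟩ := hy
    obtain ⟨g', hg'⟩ := hshift ⟨h, hh⟩ g
    have e1 : act ⟨h, hh⟩ (ι (g, j)) = ι (g', j) := hg' j
    rw [e1, Equiv.Perm.viaEmbedding_apply, Equiv.Perm.viaEmbedding_apply]
    exact hg' ((s : Equiv.Perm (Fin r)) j)
  · have hy' : act ⟨h, hh⟩ y ∉ Set.range ι := by
      rintro ⟨⟨g, j⟩, hgj⟩
      obtain ⟨g', hg'⟩ := hshift ⟨h, hh⟩⁻¹ g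
      exact hy ⟨(g', j), (hg' j).symm.trans ((congrArg (act ⟨h, hh⟩⁻¹) hgj).trans (hact1 _ _))⟩
    rw [Equiv.Perm.viaEmbedding_apply_of_notMem _ _ _ hy, Equiv.Perm.viaEmbedding_apply_of_notMem _ _ _ hy']

end Cfsg.Agent.S2532
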