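import Cfsg.Statements.S2533
import Mathlib
-- import your own Cfsg.Agent.* helpers here

set_option autoImplicit false
open Cfsg

namespace Cfsg.Agent.S2533

def invAct (p : ℕ) : ℤˣ →* MulAut (Multiplicative (Fin 3 → ZMod p)) where
  toFun u :=
    { toFun := fun v => v ^ (u : ℤ)
      invFun := fun v => v ^ (u : ℤ)
      left_inv := fun v => by
        show (v ^ (u : ℤ)) ^ (u : ℤ) = v
        rw [← _root_.zpow_mul, ← Units.val_mul, Int.units_mul_self, Units.val_one, zpow_one]
      right_inv := fun v => by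
        show (v ^ (u : ℤ)) ^ (u : ℤ) = v
        rw [← _root_.zpow_mul, ← Units.val_mul, Int.units_mul_self, Units.val_one, zpow_one]
      map_mul' := fun v w => mul_zpow v w _ }
  map_one' := MulEquiv.ext fun v => zpow_one v
  map_mul' u w := MulEquiv.ext fun v => by
    show v ^ ((u * w : ℤˣ) : ℤ) = (v ^ (w : ℤ)) ^ (u : ℤ)
    rw [← _root_.zpow_mul, ← Units.val_mul, mul_comm]

abbrev HGrp (p : ℕ) := Multiplicative (Fin 3 → ZMod p) ⋊[invAct p] ℤˣ

/-- Three linearly independent arrows of the Kronecker-type module. -/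
def arrow (p m : ℕ) (v : Fin 3 → ZMod p) : Matrix (Fin (m + 1)) (Fin m) (ZMod p) := fun r i =>
  v 0 * (if r = i.castSucc then 1 else 0) + v 1 * (if r = i.succ then 1 else 0) +
    v 2 * (if r = Fin.last m ∧ (i : ℕ) = 0 then 1 else 0)

theorem arrow_add (p m : ℕ) (v w : Fin 3 → ZMod p) : arrow p m (v + w) = arrow p m v + arrow p m w := by
  ext r i
  simp only [arrow, Pi.add_apply, Matrix.add_apply]
  ring

theorem arrow_smul (p m : ℕ) (c : ℤ) (v : Fin 3 → ZMod p) : arrow p m (c • v) = (c : ZMod p) • arrow p m v := by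
  ext r i
  simp only [arrow, Pi.smul_apply, Matrix.smul_apply, smul_eq_mul, zsmul_eq_mul]
  ring

def blockMat (p m : ℕ) (v : Fin 3 → ZMod p) (u : ℤˣ) : Matrix (Fin m ⊕ Fin (m + 1)) (Fin m ⊕ Fin (m + 1)) (ZMod p) :=
  Matrix.fromBlocks 1 0 (arrow p m v) (((u : ℤ) : ZMod p) • 1)

theorem blockMat_mul (p m : ℕ) (v w : Fin 3 → ZMod p) (u u' : ℤˣ) :
    blockMat p m v u * blockMat p m w u' = blockMat p m (v + (u : ℤ) • w) (u * u') := by
  rw [blockMat, blockMat, blockMat, Matrix.fromBlocks_multiply]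
  rw [arrow_add, arrow_smul]
  simp [smul_smul, mul_comm]

theorem blockMat_det (p m : ℕ) (hm : Even (m + 1)) (v : Fin 3 → ZMod p) (u : ℤˣ) [Fact p.Prime] :
    (blockMat p m v u).det = 1 := by
  rw [blockMat, Matrix.det_fromBlocks_zero₁₂, Matrix.det_one, Matrix.det_smul, Matrix.det_one, one_mul, mul_one,
    Fintype.card_fin]
  obtain ⟨k, hk⟩ := hm
  rw [hk]
  rcases Int.units_eq_one_or u with rfl | rfl <;> simp

theorem scalar_of_commute {p m : ℕ} [Fact p.Prime] (hp : p ≠ 2) (G : Matrix (Fin m ⊕ Fin (m + 1)) (Fin m ⊕ Fin (m + 1)) (ZMod p))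
    (h : ∀ v u, G * blockMat p m v u = blockMat p m v u * G) : ∃ c : ZMod p, G = c • 1 := by
  have h2 : (2 : ZMod p) ≠ 0 := by
    intro h
    have : ((2 : ℕ) : ZMod p) = 0 := by exact_mod_cast h
    rw [ZMod.natCast_eq_zero_iff] at this
    have := Nat.le_of_dvd (by norm_num) this
    have := (Fact.out : p.Prime).two_le
    omega
  obtain ⟨A, B, C, D, rfl⟩ : ∃ A B C D, G = Matrix.fromBlocks A B C D :=
    ⟨_, _, _, _, (Matrix.fromBlocks_toBlocks G).symm⟩
  have ht := h 0 (-1)
  simp only [blockMat, Matrix.fromBlocks_multiply, Matrix.fromBlocks_inj] at ht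
  have hB : B = 0 := by
    ext i j
    have := congrFun (congrFun ht.2.1 i) j
    simp at this
    have h4 : (2 : ZMod p) * B i j = 0 := by linear_combination -this
    simpa [h2] using h4
  have hC : C = 0 := by
    ext i j
    have := congrFun (congrFun ht.2.2.1 i) j
    simp [show arrow p m (0 : Fin 3 → ZMod p) = 0 by ext a b; simp [arrow]] at this
    have h4 : (2 : ZMod p) * C i j = 0 := by linear_combination this
    simpa [h2] using h4
  subst hB hC
  have hN : ∀ v, D * arrow p m v = arrow p m v * A := by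
    intro v
    have := h v 1
    simp only [blockMat, Matrix.fromBlocks_multiply, Matrix.fromBlocks_inj] at this
    simpa using this.2.2.1
  have e1 : ∀ r i, D r i.castSucc = ∑ k, (if r = Fin.castSucc k then A k i else 0) := by
    intro r i
    have := congrFun (congrFun (hN ![1, 0, 0]) r) i
    simp [Matrix.mul_apply, arrow] at this
    exact this
  have e2 : ∀ r i, D r i.succ = ∑ k, (if r = Fin.succ k then A k i else 0) := by
    intro r i
    have := congrFun (congrFun (hN ![0, 1, 0]) r) i
    simp [Matrix.mul_apply, arrow] at this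
    exact this
  have a1 : ∀ r i : Fin m, D r.castSucc i.castSucc = A r i := fun r i => by rw [e1]; simp
  have a2 : ∀ r i : Fin m, D r.succ i.succ = A r i := fun r i => by rw [e2]; simp
  have lo : ∀ r j : Fin (m + 1), j < r → D r j = 0 := by
    intro r
    induction r using Fin.reverseInduction with
    | last =>
      intro j hj
      obtain ⟨i, rfl⟩ := Fin.exists_castSucc_eq.2 hj.ne
      rw [e1]
      exact Finset.sum_eq_zero fun k _ => if_neg (Fin.castSucc_lt_last k).ne'
    | cast k ih =>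
      intro j hj
      obtain ⟨i, rfl⟩ := Fin.exists_castSucc_eq.2 (hj.trans_le (Fin.le_last _)).ne
      rw [a1, ← a2]
      exact ih _ (Fin.succ_lt_succ_iff.2 (Fin.castSucc_lt_castSucc_iff.1 hj))
  have hi : ∀ r j : Fin (m + 1), r < j → D r j = 0 := by
    intro r
    induction r using Fin.induction with
    | zero =>
      intro j hj
      obtain ⟨i, rfl⟩ := Fin.exists_succ_eq.2 hj.ne'
      rw [e2]
      exact Finset.sum_eq_zero fun k _ => if_neg (Fin.succ_ne_zero k).symm
    | succ k ih =>
      intro j hj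
      obtain ⟨i, rfl⟩ := Fin.exists_succ_eq.2 ((Fin.zero_le _).trans_lt hj).ne'
      rw [a2, ← a1]
      exact ih _ (Fin.castSucc_lt_castSucc_iff.2 (Fin.succ_lt_succ_iff.1 hj))
  have dg : ∀ r, D r r = D 0 0 := by
    intro r
    induction r using Fin.induction with
    | zero => rfl
    | succ k ih => rw [a2, ← a1, ih]
  have hD : D = D 0 0 • 1 := by
    ext r j
    rcases lt_trichotomy r j with hh | rfl | hh
    · simp [hi r j hh, Matrix.one_apply_ne hh.ne]
    · simp [dg r]
    · simp [lo r j hh, Matrix.one_apply_ne hh.ne']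
  have hA : A = D 0 0 • 1 := by
    ext r j
    rw [← a1]
    conv_lhs => rw [hD]
    simp [Matrix.one_apply, Fin.castSucc_inj]
  refine ⟨D 0 0, ?_⟩
  rw [show Matrix.fromBlocks A 0 0 D = Matrix.fromBlocks (D 0 0 • 1) 0 0 (D 0 0 • 1) by rw [← hA, ← hD]]
  rw [← Matrix.fromBlocks_one, Matrix.fromBlocks_smul, smul_zero, smul_zero]

/-- For every odd prime `p` there is a finite group `H` of order `2p³` which, for infinitely many `n`, embeds in the projective special linear group `PSL(n, p)` as a subgroup with trivial centralizer. -/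
theorem result
    (p : ℕ) [Fact p.Prime] (hp : p ≠ 2) :
    ∃ (H : Type) (_ : Group H) (_ : Finite H), Nat.card H = 2 * p ^ 3 ∧
      ∀ N : ℕ, ∃ n, N ≤ n ∧ ∃ φ : H →* Matrix.ProjectiveSpecialLinearGroup (Fin n) (ZMod p),
        Function.Injective φ ∧ Subgroup.centralizer (φ.range : Set (Matrix.ProjectiveSpecialLinearGroup (Fin n) (ZMod p))) = ⊥ := by
  classical
  haveI : NeZero p := ⟨(Fact.out : p.Prime).ne_zero⟩
  refine ⟨HGrp p, inferInstance, Finite.of_equiv _ SemidirectProduct.equivProd.symm, ?_, fun N => ?_⟩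
  · rw [Nat.card_congr SemidirectProduct.equivProd, Nat.card_prod]
    simp [Nat.card_eq_fintype_card, mul_comm]
  obtain ⟨m, hm, hme⟩ : ∃ m, m = 2 * N + 3 ∧ Even (m + 1) := ⟨_, rfl, ⟨N + 2, by omega⟩⟩
  refine ⟨m + (m + 1), by omega, ?_⟩
  let R := Matrix.reindexAlgEquiv (ZMod p) (ZMod p) (finSumFinEquiv : Fin m ⊕ Fin (m + 1) ≃ Fin (m + (m + 1)))
  let f : HGrp p → Matrix.SpecialLinearGroup (Fin (m + (m + 1))) (ZMod p) := fun h =>
    ⟨R (blockMat p m h.left.toAdd h.right), by
      show (Matrix.reindex _ _ _).det = 1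
      rw [Matrix.det_reindex_self, blockMat_det p m hme]⟩
  let F : HGrp p →* Matrix.SpecialLinearGroup (Fin (m + (m + 1))) (ZMod p) :=
    MonoidHom.mk' f fun a b => Subtype.ext (by
      show R _ = R _ * R _
      rw [← map_mul, blockMat_mul]
      rfl)
  refine ⟨(QuotientGroup.mk' _).comp F, ?_, ?_⟩
  · rw [injective_iff_map_eq_one]
    intro h hh
    obtain ⟨c, -, hc⟩ := Matrix.SpecialLinearGroup.mem_center_iff.1 ((QuotientGroup.eq_one_iff _).1 hh)
    have hb : blockMat p m h.left.toAdd h.right = c • 1 := by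
      apply R.injective
      show (↑(F h) : Matrix (Fin (m + (m + 1))) (Fin (m + (m + 1))) (ZMod p)) = _
      rw [← hc, map_smul, map_one, Matrix.scalar_apply, ← Matrix.smul_one_eq_diagonal]
    have h00 := congrFun (congrFun hb (Sum.inl ⟨0, by omega⟩)) (Sum.inl ⟨0, by omega⟩)
    simp [blockMat] at h00
    subst h00
    rw [one_smul, blockMat, ← Matrix.fromBlocks_one, Matrix.fromBlocks_inj] at hb
    have hu : h.right = 1 := by
      have := congrFun (congrFun hb.2.2.2 0) 0
      rcases Int.units_eq_one_or h.right with e | e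
      · exact e
      · rw [e] at this
        simp at this
        have h2 : ((2 : ℕ) : ZMod p) = 0 := by push_cast; linear_combination -this
        rw [ZMod.natCast_eq_zero_iff] at h2
        have := Nat.le_of_dvd (by norm_num) h2
        have := (Fact.out : p.Prime).two_le
        omega
    refine SemidirectProduct.ext ?_ hu
    have g0 := congrFun (congrFun hb.2.2.1 (Fin.castSucc ⟨1, by omega⟩)) ⟨1, by omega⟩
    have g1 := congrFun (congrFun hb.2.2.1 (Fin.succ ⟨1, by omega⟩)) ⟨1, by omega⟩
    have g2 := congrFun (congrFun hb.2.2.1 (Fin.last m)) ⟨0, by omega⟩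
    simp [arrow, Fin.ext_iff] at g0 g1 g2
    rw [if_neg (by omega), if_neg (by omega)] at g2
    simp at g2
    show h.left = 1
    apply Multiplicative.toAdd.injective
    funext i
    fin_cases i
    · exact g0
    · exact g1
    · exact g2
  · rw [eq_bot_iff]
    intro x hx
    obtain ⟨g, rfl⟩ := QuotientGroup.mk'_surjective _ x
    rw [Subgroup.mem_bot]
    have key : ∀ h : HGrp p, ∃ c : ZMod p, c ^ (m + (m + 1)) = 1 ∧
        (g : Matrix (Fin (m + (m + 1))) (Fin (m + (m + 1))) (ZMod p)) * (F h : Matrix (Fin (m + (m + 1))) (Fin (m + (m + 1))) (ZMod p)) = c • ((F h : Matrix (Fin (m + (m + 1))) (Fin (m + (m + 1))) (ZMod p)) * (g : Matrix (Fin (m + (m + 1))) (Fin (m + (m + 1))) (ZMod p))) := by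
      intro h
      have h1 := Subgroup.mem_centralizer_iff.1 hx _ ⟨h, rfl⟩
      rw [MonoidHom.comp_apply, ← map_mul, ← map_mul, QuotientGroup.mk'_eq_mk'] at h1
      obtain ⟨z, hz, hze⟩ := h1
      obtain ⟨c, hc, hcz⟩ := Matrix.SpecialLinearGroup.mem_center_iff.1 hz
      refine ⟨c, by simpa using hc, ?_⟩
      rw [← Matrix.SpecialLinearGroup.coe_mul, ← hze, Matrix.SpecialLinearGroup.coe_mul, Matrix.SpecialLinearGroup.coe_mul,
        ← hcz, Matrix.scalar_apply, ← Matrix.smul_one_eq_diagonal, mul_smul_comm, mul_one]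
    have hc1 : ∀ h : HGrp p, ∀ c : ZMod p, c ^ (m + (m + 1)) = 1 →
        (g : Matrix (Fin (m + (m + 1))) (Fin (m + (m + 1))) (ZMod p)) * (F h : Matrix (Fin (m + (m + 1))) (Fin (m + (m + 1))) (ZMod p)) = c • ((F h : Matrix (Fin (m + (m + 1))) (Fin (m + (m + 1))) (ZMod p)) * (g : Matrix (Fin (m + (m + 1))) (Fin (m + (m + 1))) (ZMod p))) →
          ∀ k, h ^ k = 1 → c ^ k = 1 := by
      intro h c hc hgc k hk
      have : ∀ j : ℕ, (g : Matrix (Fin (m + (m + 1))) (Fin (m + (m + 1))) (ZMod p)) * (F h : Matrix (Fin (m + (m + 1))) (Fin (m + (m + 1))) (ZMod p)) ^ j = c ^ j • ((F h : Matrix (Fin (m + (m + 1))) (Fin (m + (m + 1))) (ZMod p)) ^ j * (g : Matrix (Fin (m + (m + 1))) (Fin (m + (m + 1))) (ZMod p))) := by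
        intro j
        induction j with
        | zero => simp
        | succ j ih =>
          rw [pow_succ, ← mul_assoc, ih, smul_mul_assoc, mul_assoc, hgc, mul_smul_comm, smul_smul, pow_succ, ← mul_assoc]
      have h2 := this k
      rw [← Matrix.SpecialLinearGroup.coe_pow, ← map_pow, hk, map_one, Matrix.SpecialLinearGroup.coe_one, mul_one, one_mul] at h2
      by_contra hne
      have h0 : (g : Matrix (Fin (m + (m + 1))) (Fin (m + (m + 1))) (ZMod p)) = 0 := by
        ext i j
        have := congrFun (congrFun h2 i) j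
        rw [Matrix.smul_apply, smul_eq_mul] at this
        have h3 : (c ^ k - 1) * (g : Matrix (Fin (m + (m + 1))) (Fin (m + (m + 1))) (ZMod p)) i j = 0 := by linear_combination -this
        simpa [sub_ne_zero.2 hne] using h3
      have := g.det_coe
      haveI hne' : Nonempty (Fin (m + (m + 1))) := ⟨⟨0, by omega⟩⟩
      have hdet := g.det_coe
      rw [h0, Matrix.det_zero] at hdet
      exact zero_ne_one hdet
    have comm : ∀ h : HGrp p, (g : Matrix (Fin (m + (m + 1))) (Fin (m + (m + 1))) (ZMod p)) * (F h : Matrix (Fin (m + (m + 1))) (Fin (m + (m + 1))) (ZMod p)) = (F h : Matrix (Fin (m + (m + 1))) (Fin (m + (m + 1))) (ZMod p)) * (g : Matrix (Fin (m + (m + 1))) (Fin (m + (m + 1))) (ZMod p)) := by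
      intro h
      have hodd : Odd (m + (m + 1)) := ⟨m, by omega⟩
      suffices ∀ a b : HGrp p, b.left = 1 → a.right = 1 → h = a * b → _ from
        this ⟨h.left, 1⟩ ⟨1, h.right⟩ rfl rfl (by ext <;> simp)
      rintro a b hb ha rfl
      obtain ⟨c, hc, hgc⟩ := key a
      obtain ⟨d, hd, hgd⟩ := key b
      have hd2 : d ^ 2 = 1 := hc1 b d hd hgd 2 (by
        rw [pow_two]
        ext
        · simp [hb]
        · simp [Int.units_mul_self])
      have hd1 : d = 1 := by
        rw [show m + (m + 1) = 2 * m + 1 by omega, pow_succ, pow_mul, hd2, one_pow, one_mul] at hd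
        exact hd
      have hc0 := hc1 a c hc hgc p (by
        rw [show a = SemidirectProduct.inl a.left from SemidirectProduct.ext rfl ha, ← map_pow,
          show a.left ^ p = 1 from Multiplicative.toAdd.injective (funext fun i => by simp), map_one])
      rw [ZMod.pow_card] at hc0
      subst hd1 hc0
      rw [one_smul] at hgc hgd
      rw [map_mul, Matrix.SpecialLinearGroup.coe_mul, ← mul_assoc, hgc, mul_assoc, hgd, mul_assoc]
    obtain ⟨c, hc⟩ := scalar_of_commute hp (R.symm (g : Matrix (Fin (m + (m + 1))) (Fin (m + (m + 1))) (ZMod p))) fun v u => R.injective (by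
      rw [map_mul, map_mul, AlgEquiv.apply_symm_apply]
      exact comm ⟨Multiplicative.ofAdd v, u⟩)
    refine (QuotientGroup.eq_one_iff _).2 (Matrix.SpecialLinearGroup.mem_center_iff.2 ⟨c, ?_, ?_⟩)
    · have := g.det_coe
      rw [← R.apply_symm_apply (g : Matrix (Fin (m + (m + 1))) (Fin (m + (m + 1))) (ZMod p)), hc, map_smul, map_one, Matrix.det_smul, Matrix.det_one, mul_one] at this
      exact this
    · rw [← R.apply_symm_apply (g : Matrix (Fin (m + (m + 1))) (Fin (m + (m + 1))) (ZMod p)), hc, map_smul, map_one, Matrix.scalar_apply, Matrix.smul_one_eq_diagonal]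

end Cfsg.Agent.S2533
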