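import Cfsg.Statements.S2537
import Mathlib
import Cfsg.Agent.Lib.Classical.Dickson.PSLList
import Cfsg.Agent.Lib.Classical.Dickson.SmallSub
import Cfsg.Agent.Lib.Classical.Dickson.TorusDihedral
import Cfsg.Agent.Lib.Classical.Dickson.MinIndex
import Cfsg.Agent.Lib.Classical.Dickson.Borel
-- import your own Cfsg.Agent.* helpers here

set_option autoImplicit false
open Cfsg

namespace Cfsg.Agent.S2537

open CfsgLib.Classical CfsgLib.Classical.Dickson

theorem two_three_part {M q N : ℕ} (hM : M ≠ 0) (hq2 : ¬ 2 ∣ q) (hq3 : ¬ 3 ∣ q) (hq : q ≠ 0) (hN : 2 * N = q * M) :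
    ∀ r, r = 2 ∨ r = 3 → M.factorization r = (if r = 2 then 1 else 0) + N.factorization r := by
  intro r hr
  have hN0 : N ≠ 0 := fun h => by simp [h, hM, hq] at hN
  have h := congrArg (fun x => x.factorization r) hN
  simp only [Nat.factorization_mul two_ne_zero hN0, Nat.factorization_mul hq hM, Finsupp.add_apply] at h
  have h0 : q.factorization r = 0 := Nat.factorization_eq_zero_of_not_dvd (by rcases hr with rfl | rfl <;> assumption)
  rw [h0, zero_add] at h
  rw [← h, Nat.prime_two.factorization, Finsupp.single_apply]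
  rcases hr with rfl | rfl <;> simp

theorem hall_iff {G : Type*} [Group G] [Finite G] (H : Subgroup G) (M : ℕ)
    (hv : ∀ r, r = 2 ∨ r = 3 → M.factorization r = (if r = 2 then 1 else 0) + (Nat.card G).factorization r) :
    Cfsg.IsPiHall ({2, 3} : Set ℕ) H ↔ 2 * Nat.card H = 2 ^ M.factorization 2 * 3 ^ M.factorization 3 := by
  have hH : Nat.card H ≠ 0 := Nat.card_pos.ne'
  have hi : H.index ≠ 0 := Subgroup.index_ne_zero_of_finite
  have hmul : ∀ r, (Nat.card G).factorization r = (Nat.card H).factorization r + H.index.factorization r := fun r => by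
    rw [← H.card_mul_index, Nat.factorization_mul hH hi, Finsupp.add_apply]
  have hP : ∀ r, (2 ^ M.factorization 2 * 3 ^ M.factorization 3).factorization r =
      (if r = 2 then M.factorization 2 else 0) + (if r = 3 then M.factorization 3 else 0) := fun r => by
    rw [Nat.factorization_mul (by positivity) (by positivity), Nat.Prime.factorization_pow Nat.prime_two,
      Nat.Prime.factorization_pow Nat.prime_three, Finsupp.add_apply, Finsupp.single_apply, Finsupp.single_apply]
    simp only [eq_comm]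
  constructor
  · rintro ⟨h1, h2⟩
    refine Nat.eq_of_factorization_eq (by positivity) (by positivity) fun r => ?_
    rw [hP, Nat.factorization_mul two_ne_zero hH, Finsupp.add_apply, Nat.prime_two.factorization, Finsupp.single_apply]
    rcases em (r = 2 ∨ r = 3) with hr | hr
    · have h0 : H.index.factorization r = 0 :=
        Nat.factorization_eq_zero_of_not_dvd (h2 r (by rcases hr with rfl | rfl <;> norm_num) (by rcases hr with rfl | rfl <;> simp))
      have e := hv r hr
      rw [hmul, h0, add_zero] at e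
      rcases hr with rfl | rfl <;> simp at e ⊢ <;> omega
    · have h0 : (Nat.card H).factorization r = 0 := by
        by_cases hp : r.Prime
        · exact Nat.factorization_eq_zero_of_not_dvd fun hd => hr (by simpa using h1 r hp hd)
        · exact Nat.factorization_eq_zero_of_not_prime _ hp
      push_neg at hr
      simp [h0, hr.1, hr.2, Ne.symm hr.1]
  · intro h
    have hf : ∀ r, (if r = 2 then 1 else 0) + (Nat.card H).factorization r =
        (if r = 2 then M.factorization 2 else 0) + (if r = 3 then M.factorization 3 else 0) := fun r => by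
      rw [← hP, ← h, Nat.factorization_mul two_ne_zero hH, Finsupp.add_apply, Nat.prime_two.factorization, Finsupp.single_apply]
      simp [eq_comm]
    refine ⟨fun r hr hd => ?_, fun r hr hmem hd => ?_⟩
    · by_contra hc
      simp at hc
      have hpos := hr.factorization_pos_of_dvd hH hd
      have := hf r
      simp only [if_neg hc.1, if_neg hc.2] at this
      omega
    · have hpos := hr.factorization_pos_of_dvd hi hd
      have := hf r
      have e := hv r (by simpa using hmem)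
      rw [hmul] at e
      rcases (by simpa using hmem : r = 2 ∨ r = 3) with rfl | rfl <;> simp at e this <;> omega

theorem arith {q : ℕ} (hq2 : ¬ 2 ∣ q) (hq3 : ¬ 3 ∣ q) (h5 : 5 ≤ q) :
    24 ∣ 2 ^ (q ^ 2 - 1).factorization 2 * 3 ^ (q ^ 2 - 1).factorization 3 := by
  obtain ⟨r, rfl⟩ : ∃ r, q = r + 1 := ⟨q - 1, by omega⟩
  have hM : (r + 1) ^ 2 - 1 = r * (r + 2) := by
    rw [show (r + 1) ^ 2 = r * (r + 2) + 1 by ring, Nat.add_sub_cancel]
  rw [hM]
  have h8 : 2 ^ 3 ∣ r * (r + 2) := by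
    obtain ⟨s, rfl⟩ : ∃ s, r = 2 * s := ⟨r / 2, by omega⟩
    rw [show 2 * s * (2 * s + 2) = 4 * (s * (s + 1)) by ring]
    obtain ⟨t, ht⟩ := Nat.even_mul_succ_self s
    exact ⟨t, by rw [ht]; ring⟩
  have h3 : 3 ^ 1 ∣ r * (r + 2) := by
    rw [pow_one, Nat.prime_three.dvd_mul, Nat.dvd_iff_mod_eq_zero, Nat.dvd_iff_mod_eq_zero]
    rw [Nat.dvd_iff_mod_eq_zero] at hq3
    have h := Nat.mod_lt r (show 3 > 0 by norm_num)
    rw [Nat.add_mod] at hq3
    rw [Nat.add_mod r 2]
    interval_cases hr3 : r % 3 <;> simp_all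
  have hne : r * (r + 2) ≠ 0 := Nat.mul_ne_zero (by omega) (by omega)
  exact Nat.mul_dvd_mul (pow_dvd_pow 2 ((Nat.prime_two.pow_dvd_iff_le_factorization hne).1 h8))
    (pow_dvd_pow 3 ((Nat.prime_three.pow_dvd_iff_le_factorization hne).1 h3))

theorem dihedral_sub {k m : ℕ} (hk : 0 < k) (hkm : k ∣ m) (hm : 0 < m) :
    ∃ D : Subgroup (DihedralGroup m), Nat.card D = 2 * k := by
  haveI : NeZero m := ⟨hm.ne'⟩
  obtain ⟨d, hd⟩ := hkm
  have hr : orderOf ((DihedralGroup.r 1 : DihedralGroup m) ^ d) = k := by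
    have hd0 : d ≠ 0 := by rintro rfl; omega
    rw [orderOf_pow' _ hd0, DihedralGroup.orderOf_r_one, Nat.gcd_eq_right (Dvd.intro_left k hd.symm), hd,
      Nat.mul_div_cancel _ (Nat.pos_of_ne_zero hd0)]
  obtain ⟨D, -, -, hD, -⟩ := exists_dihedral_sub (G := DihedralGroup m) hk hr (s := DihedralGroup.sr 0)
    (by simp) (by rw [DihedralGroup.r_one_pow]; simp) (by
      rintro ⟨j, hj⟩
      rw [DihedralGroup.r_one_pow] at hj
      simp at hj)
  exact ⟨D, hD⟩

/-- Let `F` be a finite field with `q` elements of characteristic `p ≥ 5`, and `ε = 1` if `q ≡ 1 (mod 4)`, `ε = -1` otherwise. Then `PSL(2, F)` has a Hall `{2, 3}`-subgroup if and only if `3` divides `q − ε`, or the `{2,3}`-part of `q² − 1` is 24, or the `{2,3}`-part of `q² − 1` is 48 (the `{2,3}`-part of `m` being the largest divisor of `m` with no prime factor other than 2 and 3). -/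
theorem result {F : Type*} [Field F] [Fintype F] {p : ℕ} [Fact p.Prime] [CharP F p]
    (hp : 5 ≤ p) (q : ℕ) (hq : Fintype.card F = q) :
    (∃ H : Subgroup (Matrix.ProjectiveSpecialLinearGroup (Fin 2) F), Cfsg.IsPiHall ({2, 3} : Set ℕ) H) ↔
      (3 ∣ q - 1 ∧ q % 4 = 1) ∨ (3 ∣ q + 1 ∧ q % 4 = 3) ∨
        2 ^ (q ^ 2 - 1).factorization 2 * 3 ^ (q ^ 2 - 1).factorization 3 = 24 ∨
        2 ^ (q ^ 2 - 1).factorization 2 * 3 ^ (q ^ 2 - 1).factorization 3 = 48 := by
  classical
  haveI : Fact p.Prime := inferInstance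
  have hpr : p.Prime := Fact.out
  obtain ⟨⟨j, hj0⟩, -, hj⟩ := FiniteField.card F p
  simp only [PNat.mk_coe] at hj
  rw [hq] at hj
  have hcp : ∀ r : ℕ, r.Prime → r < 5 → ¬ r ∣ q := fun r hr h5 hd => by
    rw [hj] at hd
    have := (Nat.prime_dvd_prime_iff_eq hr hpr).1 (hr.dvd_of_dvd_pow hd)
    omega
  have hq2 := hcp 2 Nat.prime_two (by norm_num)
  have hq3 := hcp 3 Nat.prime_three (by norm_num)
  have hq5 : 5 ≤ q := hp.trans (hj ▸ Nat.le_self_pow hj0.ne' p)
  have hM : q ^ 2 - 1 = (q - 1) * (q + 1) := by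
    obtain ⟨r, rfl⟩ : ∃ r, q = r + 1 := ⟨q - 1, by omega⟩
    rw [show (r + 1) ^ 2 = r * (r + 2) + 1 by ring]; simp
  have hM0 : q ^ 2 - 1 ≠ 0 := by rw [hM]; exact Nat.mul_ne_zero (by omega) (by omega)
  have hG := gcd_mul_card_PSL (F := F) hq
  have hgcd : Nat.gcd 2 (q - 1) = 2 := Nat.gcd_eq_left (by omega)
  rw [hgcd, ← hM] at hG
  have hv := two_three_part hM0 hq2 hq3 (by omega) hG
  obtain ⟨P, hP⟩ : ∃ P, P = 2 ^ (q ^ 2 - 1).factorization 2 * 3 ^ (q ^ 2 - 1).factorization 3 := ⟨_, rfl⟩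
  rw [← hP]
  have hiff := fun H : Subgroup (Matrix.ProjectiveSpecialLinearGroup (Fin 2) F) => (hall_iff H _ hv).trans (by rw [← hP])
  obtain ⟨t, ht⟩ : 24 ∣ P := hP ▸ arith hq2 hq3 hq5
  have hPM : P ∣ (q - 1) * (q + 1) := by
    rw [hP, ← hM]
    exact Nat.Coprime.mul_dvd_of_dvd_of_dvd (Nat.Coprime.pow _ _ (by norm_num)) (Nat.ordProj_dvd _ _) (Nat.ordProj_dvd _ _)
  have hP2 : ¬ 2 * P ∣ (q - 1) * (q + 1) := by
    rw [← hM, hP, ← mul_assoc, ← pow_succ']
    intro h
    have := (Nat.prime_two.pow_dvd_iff_le_factorization hM0).1 (Dvd.dvd.trans (dvd_mul_right _ _) h)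
    omega
  have hnd : ¬ P ∣ q - 1 ∧ ¬ P ∣ q + 1 := ⟨fun h => hP2 (by
      rw [mul_comm 2]; exact Nat.mul_dvd_mul h (by omega)),
    fun h => hP2 (Nat.mul_dvd_mul (by omega) h)⟩
  constructor
  · rintro ⟨H, hH⟩
    have hc := (hiff H).1 hH
    rcases dickson_list p hq H with ⟨k, hk, ⟨-, hk2⟩ | ⟨⟨e⟩⟩⟩ | ⟨S, K, hK, ⟨e⟩⟩ | ⟨⟨e⟩⟩ | ⟨⟨e⟩⟩ | ⟨⟨e⟩⟩ | ⟨K, _, _, m, hm, he⟩
    · rw [hgcd] at hk
      rcases hk with h | h
      · exact absurd (by rw [← hc, hk2]; exact Nat.mul_dvd_of_dvd_div (by omega) h) hnd.2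
      · exact absurd (by rw [← hc, hk2]; exact Nat.mul_dvd_of_dvd_div (by omega) h) hnd.1
    · rw [Nat.card_congr e.toEquiv, DihedralGroup.nat_card] at hc
      rw [hgcd] at hk
      have hk6 : k = 6 * t := by omega
      subst hk6
      rcases hk with h | h
      · obtain ⟨u, hu⟩ := Nat.mul_dvd_of_dvd_div (by omega) h
        exact Or.inr (Or.inl ⟨⟨4 * t * u, by rw [hu]; ring⟩, by
          have : q + 1 = 4 * (3 * t * u) := by rw [hu]; ring
          omega⟩)
      · obtain ⟨u, hu⟩ := Nat.mul_dvd_of_dvd_div (by omega) h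
        exact Or.inl ⟨⟨4 * t * u, by rw [hu]; ring⟩, by
          have : q - 1 = 4 * (3 * t * u) := by rw [hu]; ring
          omega⟩
    · have hd : Nat.card H ∣ Nat.card (Subgroup.normalizer ((S : Subgroup (Matrix.ProjectiveSpecialLinearGroup (Fin 2) F)) : Set (Matrix.ProjectiveSpecialLinearGroup (Fin 2) F))) := by
        rw [Nat.card_congr e.toEquiv]; exact Subgroup.card_dvd_of_le hK
      obtain ⟨u, hu⟩ := hd
      have hcm := Subgroup.card_mul_index (Subgroup.normalizer ((S : Subgroup (Matrix.ProjectiveSpecialLinearGroup (Fin 2) F)) : Set (Matrix.ProjectiveSpecialLinearGroup (Fin 2) F)))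
      rw [index_normalizer_sylow p hq S, hu] at hcm
      rw [← hcm, hM] at hG
      have hd2 : P * u = q * (q - 1) := Nat.eq_of_mul_eq_mul_right (show 0 < q + 1 by omega)
        (by rw [← hc]; linear_combination hG)
      have hcop : Nat.Coprime P q := by
        rw [hP]
        exact Nat.Coprime.mul_left (Nat.Coprime.pow_left _ ((Nat.prime_two.coprime_iff_not_dvd).2 hq2))
          (Nat.Coprime.pow_left _ ((Nat.prime_three.coprime_iff_not_dvd).2 hq3))
      exact absurd (hcop.dvd_of_dvd_mul_left ⟨u, hd2.symm⟩) hnd.1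
    · rw [Nat.card_congr e.toEquiv, Nat.card_eq_fintype_card, show Fintype.card (alternatingGroup (Fin 4)) = 12 by decide] at hc
      omega
    · rw [Nat.card_congr e.toEquiv, Nat.card_perm, Nat.card_fin, show Nat.factorial 4 = 24 from rfl] at hc
      omega
    · have := hH.1 5 (by norm_num) (by
        rw [Nat.card_congr e.toEquiv, Nat.card_eq_fintype_card, show Fintype.card (alternatingGroup (Fin 5)) = 60 by decide]
        norm_num)
      simp at this
    · obtain ⟨Q, hQ⟩ : ∃ Q, Fintype.card K = Q := ⟨_, rfl⟩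
      rw [hQ] at hm
      have hpQ : p ∣ Q := hpr.dvd_of_dvd_pow (show p ∣ Q ^ m by rw [hm, hj]; exact dvd_pow_self p hj0.ne')
      have hd : p ∣ 2 * Nat.card H := by
        rcases he with ⟨⟨e⟩⟩ | ⟨⟨e⟩⟩ <;> rw [Nat.card_congr e.toEquiv]
        · have h2 := gcd_mul_card_PSL (F := K) hQ
          have : p ∣ Nat.gcd 2 (Q - 1) * Nat.card (Matrix.ProjectiveSpecialLinearGroup (Fin 2) K) := h2 ▸ hpQ.mul_right _
          exact this.trans (Nat.mul_dvd_mul_right (Nat.gcd_dvd_left _ _) _)
        · rw [card_pgl hQ]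
          exact Dvd.dvd.mul_left (hpQ.mul_right _) 2
      have hpH : p ∣ Nat.card H := (Nat.Coprime.dvd_of_dvd_mul_left ((hpr.coprime_iff_not_dvd).2 fun h => by
        have := Nat.le_of_dvd two_pos h; omega) hd)
      have := hH.1 p hpr hpH
      simp at this
      omega
  · have hdih : ∀ n, n = q - 1 ∨ n = q + 1 → 12 * t ∣ n → ∃ H : Subgroup (Matrix.ProjectiveSpecialLinearGroup (Fin 2) F), Cfsg.IsPiHall ({2, 3} : Set ℕ) H := by
      intro n hn hd
      have h3 : 3 ≤ n := by omega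
      obtain ⟨-, -, D, -, -, -, -, -, -, ⟨e⟩⟩ := exists_torus_dihedral (F := F) hq n hn h3
      rw [hgcd] at e
      obtain ⟨u, rfl⟩ := hd
      have hu : 12 * t * u / 2 = 6 * t * u := by rw [show 12 * t * u = 2 * (6 * t * u) by ring]; omega
      rw [hu] at e
      have ht0 : 0 < t := by
        rcases Nat.eq_zero_or_pos t with rfl | h
        · simp at h3
        · exact h
      obtain ⟨E, hE⟩ := dihedral_sub (k := 6 * t) (m := 6 * t * u) (by omega) (dvd_mul_right _ _)
        (Nat.pos_of_ne_zero fun h => by rw [show 12 * t * u = 2 * (6 * t * u) by ring, h] at h3; omega)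
      refine ⟨(E.map e.symm.toMonoidHom).map D.subtype, (hiff _).2 ?_⟩
      rw [← Nat.card_congr ((E.map e.symm.toMonoidHom).equivMapOfInjective D.subtype D.subtype_injective).toEquiv,
        ← Nat.card_congr (E.equivMapOfInjective e.symm.toMonoidHom e.symm.injective).toEquiv, hE, ht]
      ring
    have hhalf : ∀ x y : ℕ, (q - 1) * (q + 1) = x * (2 * y) → ¬ 2 ∣ y → ¬ 3 ∣ y → 12 * t ∣ x := by
      intro x y e h2 h3
      have hcy : Nat.Coprime P y := by
        rw [hP]
        exact Nat.Coprime.mul_left (Nat.Coprime.pow_left _ ((Nat.prime_two.coprime_iff_not_dvd).2 h2))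
          (Nat.Coprime.pow_left _ ((Nat.prime_three.coprime_iff_not_dvd).2 h3))
      rw [e, ← mul_assoc] at hPM
      have := hcy.dvd_of_dvd_mul_right hPM
      rw [ht, show 24 * t = 2 * (12 * t) by ring, mul_comm x 2] at this
      exact Nat.dvd_of_mul_dvd_mul_left two_pos this
    rintro (⟨h3, h4⟩ | ⟨h3, h4⟩ | h24 | h48)
    · exact hdih _ (Or.inl rfl) (hhalf _ ((q + 1) / 2) (by rw [show 2 * ((q + 1) / 2) = q + 1 by omega]) (by omega) (by omega))
    · exact hdih _ (Or.inr rfl) (hhalf _ ((q - 1) / 2) (by rw [show 2 * ((q - 1) / 2) = q - 1 by omega, mul_comm]) (by omega) (by omega))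
    · have h2 : (2 : F) ≠ 0 := Ring.two_ne_zero (by rw [ringChar.eq F p]; omega)
      obtain ⟨H, ⟨e⟩⟩ := exists_alt_four_odd (F := F) h2
      refine ⟨H, (hiff H).2 ?_⟩
      rw [Nat.card_congr e.toEquiv, Nat.card_eq_fintype_card, show Fintype.card (alternatingGroup (Fin 4)) = 12 by decide, h24]
    · have h16 : 16 ∣ q ^ 2 - 1 := by
        rw [hM]
        exact Dvd.dvd.trans ⟨3, by omega⟩ hPM
      obtain ⟨H, ⟨e⟩⟩ := (sym_four_iff (F := F) hq).2 (by omega)
      refine ⟨H, (hiff H).2 ?_⟩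
      rw [Nat.card_congr e.toEquiv, Nat.card_perm, Nat.card_fin, show Nat.factorial 4 = 24 from rfl, h48]

end Cfsg.Agent.S2537
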