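import Cfsg.Statements.S2540
import Mathlib
import Mathlib
import Cfsg.Agent.Lib.Classical.SLBasic
-- import your own Cfsg.Agent.* helpers here

set_option autoImplicit false
open Cfsg
open scoped commutatorElement

namespace Cfsg.Agent.S2540

/-- Let F be a finite field and n ≥ 1, excluding the case n = 2 with #F ≤ 3. A subgroup of GL_n(F) that is normalized by every element of SL_n(F) either consists of scalar matrices or contains SL_n(F). -/
theorem result {F : Type*} [Field F] [Fintype F] (n : ℕ) (hn : 1 ≤ n) (hex : ¬ (n = 2 ∧ Fintype.card F ≤ 3)) (G : Subgroup (Matrix.GeneralLinearGroup (Fin n) F)) (hG : ∀ s : Matrix.SpecialLinearGroup (Fin n) F, ∀ g ∈ G, (Matrix.SpecialLinearGroup.toGL s) * g * (Matrix.SpecialLinearGroup.toGL s)⁻¹ ∈ G) : (∀ g ∈ G, ∃ c : F, (g : Matrix (Fin n) (Fin n) F) = c • (1 : Matrix (Fin n) (Fin n) F)) ∨ (Matrix.SpecialLinearGroup.toGL : Matrix.SpecialLinearGroup (Fin n) F →* _).range ≤ G := by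
  classical
  rcases Nat.lt_or_ge n 2 with h1 | hn2
  · obtain rfl : n = 1 := by omega
    refine Or.inl fun g _ => ⟨(g : Matrix (Fin 1) (Fin 1) F) 0 0, Matrix.ext fun i j => ?_⟩
    rw [Subsingleton.elim i 0, Subsingleton.elim j 0, Matrix.smul_apply, Matrix.one_apply_eq, smul_eq_mul, mul_one]
  by_cases hsc : ∀ g ∈ G, ∃ c : F, (g : Matrix (Fin n) (Fin n) F) = c • (1 : Matrix (Fin n) (Fin n) F)
  · exact Or.inl hsc
  right
  push Not at hsc
  obtain ⟨g, hgG, hg⟩ := hsc
  set ι : Matrix.SpecialLinearGroup (Fin n) F →* GL (Fin n) F := Matrix.SpecialLinearGroup.toGL with hι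
  have hperf : commutator (Matrix.SpecialLinearGroup (Fin n) F) = ⊤ ∧
      IsSimpleGroup (Matrix.ProjectiveSpecialLinearGroup (Fin n) F) := by
    rcases Nat.lt_or_ge n 3 with h2 | h3
    · obtain rfl : n = 2 := by omega
      have h4 : 4 ≤ Fintype.card F := by
        by_contra h
        exact hex ⟨rfl, by omega⟩
      obtain ⟨a, ha0, ha⟩ : ∃ a : F, a ≠ 0 ∧ a ^ 2 ≠ 1 := by
        by_contra h
        push Not at h
        have hsub : (Finset.univ : Finset F) ⊆ {0, 1, -1} := fun a _ => by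
          by_cases ha : a = 0
          · simp [ha]
          · rcases sq_eq_one_iff.1 (h a ha) with h1 | h1 <;> simp [h1]
        have := Finset.card_le_card hsub
        rw [Finset.card_univ] at this
        have := this.trans Finset.card_le_three
        omega
      refine ⟨?_, Matrix.ProjectiveSpecialLinearGroup.rank_two_simple (by rwa [Nat.card_eq_fintype_card])⟩
      exact CfsgLib.Classical.SL_le_of_transvections _ fun i j hij c => by
        rw [commutator_eq_closure]
        exact Subgroup.subset_closure (CfsgLib.Classical.transvection_mem_commutatorSet_of_sq hij ha0 ha c)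
    · exact ⟨CfsgLib.Classical.commutator_SL_eq_top (by simpa using h3),
        CfsgLib.Classical.isSimpleGroup_PSL (by simpa using h3)⟩
  obtain ⟨hc, hsimple⟩ := hperf
  haveI := hsimple
  set Z := Subgroup.center (Matrix.SpecialLinearGroup (Fin n) F)
  set K := G.comap ι with hK
  haveI hKn : K.Normal := ⟨fun a ha s => by
    show ι (s * a * s⁻¹) ∈ G
    rw [map_mul, map_mul, map_inv]
    exact hG s _ ha⟩
  by_cases hKZ : K ≤ Z
  swap
  · suffices hKt : K = ⊤ by
      rintro _ ⟨s, rfl⟩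
      exact (hKt.symm ▸ Subgroup.mem_top s : s ∈ K)
    have hn := Subgroup.Normal.map hKn (QuotientGroup.mk' Z) (QuotientGroup.mk'_surjective Z)
    rcases hn.eq_bot_or_eq_top with h | h
    · exact absurd (fun x hx => (QuotientGroup.eq_one_iff x).1 (Subgroup.mem_bot.1 (h ▸ Subgroup.mem_map_of_mem (QuotientGroup.mk' Z) hx))) hKZ
    · have htop : K ⊔ Z = ⊤ := by
        have := congrArg (Subgroup.comap (QuotientGroup.mk' Z)) h
        rwa [Subgroup.comap_map_eq, Subgroup.comap_top, QuotientGroup.ker_mk'] at this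
      refine eq_top_iff.2 (hc ▸ ?_)
      rw [commutator_def, Subgroup.commutator_le]
      intro a _ b _
      obtain ⟨a1, ha1, a2, ha2, rfl⟩ := Subgroup.mem_sup_of_normal_right.1 (htop.symm ▸ Subgroup.mem_top a)
      obtain ⟨b1, hb1, b2, hb2, rfl⟩ := Subgroup.mem_sup_of_normal_right.1 (htop.symm ▸ Subgroup.mem_top b)
      have hca := Subgroup.mem_center_iff.1 ha2
      have hcb := Subgroup.mem_center_iff.1 hb2
      have hzb : ⁅a1 * a2, b1 * b2⁆ = ⁅a1, b1⁆ := by
        simp only [commutatorElement_def, mul_inv_rev]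
        calc a1 * a2 * (b1 * b2) * (a2⁻¹ * a1⁻¹) * (b2⁻¹ * b1⁻¹)
            = a1 * (a2 * (b1 * b2)) * a2⁻¹ * a1⁻¹ * b2⁻¹ * b1⁻¹ := by group
          _ = a1 * (b1 * b2 * a2) * a2⁻¹ * a1⁻¹ * b2⁻¹ * b1⁻¹ := by rw [hca (b1 * b2)]
          _ = a1 * b1 * (b2 * a1⁻¹) * b2⁻¹ * b1⁻¹ := by group
          _ = a1 * b1 * (a1⁻¹ * b2) * b2⁻¹ * b1⁻¹ := by rw [hcb a1⁻¹]
          _ = a1 * b1 * a1⁻¹ * b1⁻¹ := by group
      rw [hzb, commutatorElement_def, mul_assoc, mul_assoc]
      exact mul_mem ha1 ((mul_assoc b1 a1⁻¹ b1⁻¹) ▸ hKn.conj_mem _ (inv_mem ha1) b1)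
  · exfalso
    have hcomm : ∀ s, ∃ c ∈ Z, ι c = ι s * g * (ι s)⁻¹ * g⁻¹ := by
      intro s
      have hdet : Matrix.det ((ι s * g * (ι s)⁻¹ * g⁻¹ : GL (Fin n) F) : Matrix (Fin n) (Fin n) F) = 1 := by
        have hd : Matrix.GeneralLinearGroup.det (ι s * g * (ι s)⁻¹ * g⁻¹) = 1 := by
          simp [map_mul, map_inv, mul_comm (Matrix.GeneralLinearGroup.det (ι s))]
        exact congrArg Units.val hd
      refine ⟨⟨_, hdet⟩, hKZ ?_, Units.ext rfl⟩
      show ι ⟨_, hdet⟩ ∈ G
      rw [show ι ⟨_, hdet⟩ = ι s * g * (ι s)⁻¹ * g⁻¹ from Units.ext rfl]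
      exact mul_mem (hG s g hgG) (inv_mem hgG)
    choose c hcZ hcι using hcomm
    have hinj : Function.Injective ι := Matrix.SpecialLinearGroup.toGL_injective
    have hmul : ∀ s t, c (s * t) = c s * c t := fun s t => by
      rw [show c s * c t = c t * c s from Subgroup.mem_center_iff.1 (hcZ t) (c s)]
      refine hinj ?_
      have hz : ∀ y, ι (c t) * ι y = ι y * ι (c t) := fun y => by
        rw [← map_mul, ← map_mul, Subgroup.mem_center_iff.1 (hcZ t) y]
      rw [map_mul, hcι, map_mul, hcι s]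
      calc ι s * ι t * g * (ι s * ι t)⁻¹ * g⁻¹ = ι s * (ι t * g * (ι t)⁻¹ * g⁻¹) * g * (ι s)⁻¹ * g⁻¹ := by group
        _ = ι s * ι (c t) * g * (ι s)⁻¹ * g⁻¹ := by rw [hcι]
        _ = ι (c t) * ι s * g * (ι s)⁻¹ * g⁻¹ := by rw [hz s]
        _ = ι (c t) * (ι s * g * (ι s)⁻¹ * g⁻¹) := by group
    let φ : Matrix.SpecialLinearGroup (Fin n) F →* Z := MonoidHom.mk' (fun s => ⟨c s, hcZ s⟩) fun s t => Subtype.ext (hmul s t)
    have hker : (⊤ : Subgroup (Matrix.SpecialLinearGroup (Fin n) F)) ≤ φ.ker := by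
      rw [← hc, commutator_def, Subgroup.commutator_le]
      intro a _ b _
      rw [MonoidHom.mem_ker, map_commutatorElement, commutatorElement_eq_one_iff_mul_comm]
      exact Subtype.ext (Subgroup.mem_center_iff.1 (φ b).2 (φ a).1)
    have hfix : ∀ s, ι s * g = g * ι s := fun s => by
      have h1 : c s = 1 := congrArg Subtype.val (MonoidHom.mem_ker.1 (hker (Subgroup.mem_top s)))
      have h2 := hcι s
      rw [h1, map_one] at h2
      rw [eq_comm, mul_inv_eq_one, mul_inv_eq_iff_eq_mul] at h2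
      exact h2
    obtain ⟨a, ha⟩ := Matrix.mem_range_scalar_of_commute_transvectionStruct (M := (g : Matrix (Fin n) (Fin n) F))
      fun t => by
        have := congrArg Units.val (hfix ⟨t.toMatrix, t.det⟩)
        exact this
    exact hg a (by rw [← ha, Matrix.scalar_apply, Matrix.smul_one_eq_diagonal])

end Cfsg.Agent.S2540
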