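import Cfsg.Statements.S2541

set_option autoImplicit false
open Cfsg

namespace Cfsg.Agent.S2541

/-- Let F be a field with 9 elements. The symmetric group S_6 is not isomorphic to PGL_2(F) (although both have index-2 subgroups isomorphic to A_6). -/
theorem result {F : Type*} [Field F] [Fintype F] (hF : Fintype.card F = 9) : ¬ Nonempty (Equiv.Perm (Fin 6) ≃* Matrix.ProjGenLinGroup (Fin 2) F) := by
  classical
  rintro ⟨e⟩
  obtain ⟨g, hg⟩ := IsCyclic.exists_ofOrder_eq_natCard (α := Fˣ)
  have hg8 : orderOf g = 8 := by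
    rw [hg, Nat.card_units, Nat.card_eq_fintype_card, hF]
  let d : GL (Fin 2) F := ⟨Matrix.diagonal ![(g : F), 1], Matrix.diagonal ![((g⁻¹ : Fˣ) : F), 1],
    by rw [Matrix.diagonal_mul_diagonal, ← Matrix.diagonal_one]; congr 1; funext i; fin_cases i <;> simp,
    by rw [Matrix.diagonal_mul_diagonal, ← Matrix.diagonal_one]; congr 1; funext i; fin_cases i <;> simp⟩
  let x : GL (Fin 2) F ⧸ Subgroup.center (GL (Fin 2) F) := QuotientGroup.mk' _ d
  have hx : ∀ k : ℕ, x ^ k = 1 → g ^ k = 1 := by
    intro k hk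
    have h1 : d ^ k ∈ Subgroup.center (GL (Fin 2) F) := (QuotientGroup.eq_one_iff _).1 (by
      have := hk
      simpa [x, ← map_pow] using this)
    obtain ⟨r, hr⟩ := Matrix.GeneralLinearGroup.mem_center_iff_val_eq_scalar.1 h1
    have hd : ((d ^ k : GL (Fin 2) F) : Matrix (Fin 2) (Fin 2) F) = Matrix.diagonal (![(g : F), 1] ^ k) := by
      rw [Units.val_pow_eq_pow_val]; exact Matrix.diagonal_pow _ _
    rw [hd] at hr
    have e0 := congrFun (congrFun hr 0) 0
    have e1 := congrFun (congrFun hr 1) 1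
    simp [Matrix.diagonal] at e0 e1
    first
      | exact Units.ext (by rw [Units.val_pow_eq_pow_val, Units.val_one]; exact e0.trans e1.symm)
      | exact Units.ext (by rw [Units.val_pow_eq_pow_val, Units.val_one, ← e0, ← e1])
  have h8 : orderOf (e.symm x) = 8 := by
    refine (e.symm.orderOf_eq x).trans ?_
    show orderOf x = 8
    refine Nat.dvd_antisymm ?_ ?_
    · rw [orderOf_dvd_iff_pow_eq_one]
      have h0 : d ^ 8 = 1 := by
        apply Units.ext
        rw [Units.val_pow_eq_pow_val, Units.val_one]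
        show Matrix.diagonal ![(g : F), 1] ^ 8 = 1
        rw [Matrix.diagonal_pow, ← Matrix.diagonal_one]
        congr 1
        funext i
        have := congrArg Units.val (pow_orderOf_eq_one g)
        rw [hg8, Units.val_pow_eq_pow_val, Units.val_one] at this
        fin_cases i <;> simp [this]
      show (QuotientGroup.mk' _ d) ^ 8 = 1
      rw [← map_pow, h0, map_one]
    · rw [← hg8]
      exact orderOf_dvd_iff_pow_eq_one.2 (hx _ (pow_orderOf_eq_one x))
  set σ := e.symm x
  have hlcm : σ.cycleType.lcm = 8 := by rw [Equiv.Perm.lcm_cycleType, h8]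
  have hsum : σ.cycleType.sum ≤ 6 := by
    rw [Equiv.Perm.sum_cycleType]
    exact σ.support.card_le_univ.trans (by simp)
  have h4 : σ ^ 4 = 1 ∨ ∃ a ∈ σ.cycleType, ¬ a ∣ 4 := by
    by_contra h
    push Not at h
    apply h.1
    rw [← orderOf_dvd_iff_pow_eq_one, ← Equiv.Perm.lcm_cycleType]
    exact Multiset.lcm_dvd.2 h.2
  rcases h4 with h4 | ⟨a, ha, hna⟩
  · have := orderOf_dvd_iff_pow_eq_one.2 h4
    rw [h8] at this
    norm_num at this
  · have ha6 : a ≤ 6 := (Multiset.single_le_sum (fun _ _ => Nat.zero_le _) a ha).trans hsum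
    have ha8 : a ∣ 8 := hlcm ▸ Multiset.dvd_lcm ha
    interval_cases a <;> omega

end Cfsg.Agent.S2541
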