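import Cfsg.Statements.S2550
import Cfsg.Agent.Lib.Classical.GLOrder
import Cfsg.Agent.Lib.Classical.PSL34

set_option autoImplicit false
open Cfsg Matrix

namespace Cfsg.Agent.S2550

private def companion : Matrix (Fin 4) (Fin 4) (ZMod 2) :=
  !![0, 0, 0, 1; 1, 0, 0, 1; 0, 1, 0, 0; 0, 0, 1, 0]

private theorem companion_det : companion.det = 1 := by decide +kernel

private def companionSL : Matrix.SpecialLinearGroup (Fin 4) (ZMod 2) := ⟨companion, companion_det⟩

private theorem companion_pow_five : companion ^ 5 ≠ 1 := by decide +kernel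

private theorem companion_pow_three : companion ^ 3 ≠ 1 := by decide +kernel

private theorem companion_pow_fifteen : companion ^ 15 = 1 := by decide +kernel

/-- Let F be a field with 2 elements and K a field with 4 elements. PSL_4(F) and PSL_3(K) have the same order (20160) but are not isomorphic. -/
theorem result {F K : Type*} [Field F] [Fintype F] [Field K] [Fintype K] (hF : Fintype.card F = 2) (hK : Fintype.card K = 4) : Nat.card (Matrix.ProjectiveSpecialLinearGroup (Fin 4) F) = Nat.card (Matrix.ProjectiveSpecialLinearGroup (Fin 3) K) ∧ ¬ Nonempty (Matrix.ProjectiveSpecialLinearGroup (Fin 4) F ≃* Matrix.ProjectiveSpecialLinearGroup (Fin 3) K) := by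
  classical
  have hA : Nat.card (ProjectiveSpecialLinearGroup (Fin 4) F) = 20160 := by
    have h := CfsgLib.Classical.card_PSL_mul (F := F) hF 4 (by norm_num)
    simpa [Fin.prod_univ_four] using h
  have hB : Nat.card (ProjectiveSpecialLinearGroup (Fin 3) K) = 20160 := by
    have h := CfsgLib.Classical.card_PSL_mul (F := K) hK 3 (by norm_num)
    rw [Fin.prod_univ_three, show Nat.gcd 3 (4 - 1) = 3 from rfl] at h
    norm_num at h
    rw [Nat.card_eq_fintype_card]
    linarith
  refine ⟨hA.trans hB.symm, ?_⟩
  rintro ⟨e⟩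
  have : Fact (Nat.Prime 2) := ⟨Nat.prime_two⟩
  have : CharP F 2 := by
    have hp : (2 : F) = 0 := by exact_mod_cast (hF ▸ FiniteField.cast_card_eq_zero F : ((2 : ℕ) : F) = 0)
    exact CharTwo.of_one_ne_zero_of_two_eq_zero one_ne_zero hp
  let φ : ZMod 2 →+* F := ZMod.castHom (dvd_refl 2) F
  let g : SpecialLinearGroup (Fin 4) F :=
    SpecialLinearGroup.map φ companionSL
  have hinj : Function.Injective (SpecialLinearGroup.map (n := Fin 4) φ) := by
    intro a b hab
    apply Subtype.ext
    ext i j
    exact φ.injective (congrFun (congrFun (congrArg Subtype.val hab) i) j)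
  have hg : orderOf g = 15 := by
    refine (orderOf_injective _ hinj _).trans ?_
    have key : ∀ n : ℕ, (companionSL ^ n = 1)
        ↔ companion ^ n = 1 := fun n =>
      ⟨fun h => (Matrix.SpecialLinearGroup.coe_pow _ n).symm.trans (congrArg Subtype.val h),
        fun h => Subtype.ext ((Matrix.SpecialLinearGroup.coe_pow _ n).trans h)⟩
    refine orderOf_eq_iff (by norm_num : 0 < 15) |>.2 ⟨(key 15).2 companion_pow_fifteen, ?_⟩
    intro m hm hm0 hpow
    have hgcd : orderOf companionSL ∣ Nat.gcd m 15 :=
      Nat.dvd_gcd (orderOf_dvd_of_pow_eq_one hpow)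
        (orderOf_dvd_of_pow_eq_one ((key 15).2 companion_pow_fifteen))
    interval_cases m <;> norm_num at hgcd <;>
      first
      | exact companion_pow_three ((key 3).1 (orderOf_dvd_iff_pow_eq_one.1 hgcd))
      | exact companion_pow_five ((key 5).1 (orderOf_dvd_iff_pow_eq_one.1 hgcd))
      | exact companion_pow_three ((key 3).1 (by rw [hgcd, one_pow]))
  have hc : Nat.card ↥(Subgroup.center (SpecialLinearGroup (Fin 4) F)) = 1 := by
    rw [CfsgLib.Classical.card_center_SL, CfsgLib.Classical.card_units_eq hF]
    simp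
  have hbot : Subgroup.center (SpecialLinearGroup (Fin 4) F) = ⊥ := Subgroup.card_eq_one.1 hc
  have hmk : Function.Injective (QuotientGroup.mk' (Subgroup.center (SpecialLinearGroup (Fin 4) F))) := by
    rw [← MonoidHom.ker_eq_bot_iff, QuotientGroup.ker_mk', hbot]
  apply CfsgLib.Classical.PSL34.order_ne_fifteen hK (e (QuotientGroup.mk' _ g))
  exact (orderOf_injective e.toMonoidHom e.injective _).trans ((orderOf_injective _ hmk g).trans hg)

end Cfsg.Agent.S2550
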