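import Cfsg.Statements.S2551
import Mathlib
import Cfsg.Agent.Lib.InvolChar.SmallAut
-- import your own Cfsg.Agent.* helpers here

set_option autoImplicit false
open Cfsg

namespace Cfsg.Agent.S2551

open Matrix

/-- The natural action of a subgroup of `GL` on vectors. -/
@[reducible] def vecAction {F : Type*} [Field F] {ι : Type*} [Fintype ι] [DecidableEq ι] (H : Subgroup (GL ι F)) :
    MulAction H (ι → F) where
  smul g v := ((g : GL ι F) : Matrix ι ι F) *ᵥ v
  one_smul v := one_mulVec v
  mul_smul a b v := (mulVec_mulVec v _ _).symm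

theorem orbit_dvd_seven {G X : Type*} [Group G] [MulAction G X] [Finite X] (g : G) (hg : g ^ 7 = 1) (S : Set X)
    (hS : ∀ x ∈ S, g • x ∈ S) (hfix : ∀ x ∈ S, g • x ≠ x) : 7 ∣ Nat.card S := by
  classical
  haveI : Fact (Nat.Prime 7) := ⟨by norm_num⟩
  have hSz : ∀ k : ℕ, ∀ x ∈ S, g ^ k • x ∈ S := fun k => by
    induction k with
    | zero => intro x hx; simpa using hx
    | succ k ih => intro x hx; rw [pow_succ, mul_smul]; exact ih _ (hS x hx)
  letI : MulAction (Subgroup.zpowers g) S :=
    { smul := fun a x => ⟨(a : G) • (x : X), by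
        obtain ⟨k, hk⟩ := (isOfFinOrder_iff_pow_eq_one.2 ⟨7, by norm_num, hg⟩).mem_powers_iff_mem_zpowers.2 a.2
        simp only at hk
        rw [← hk]; exact hSz k x x.2⟩
      one_smul := fun x => Subtype.ext (one_smul G (x : X))
      mul_smul := fun a b x => Subtype.ext (mul_smul (a : G) (b : G) (x : X)) }
  have hp : IsPGroup 7 (Subgroup.zpowers g) := by
    intro a
    obtain ⟨k, hk⟩ := Subgroup.mem_zpowers_iff.1 a.2
    refine ⟨1, Subtype.ext ?_⟩
    rw [SubmonoidClass.coe_pow, OneMemClass.coe_one, ← hk, ← zpow_natCast, ← _root_.zpow_mul, mul_comm, _root_.zpow_mul,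
      zpow_natCast, pow_one, hg, _root_.one_zpow]
  have h := hp.card_modEq_card_fixedPoints S
  have h0 : Nat.card (MulAction.fixedPoints (Subgroup.zpowers g) S) = 0 := by
    rw [Nat.card_eq_zero]
    exact Or.inl ⟨fun x => hfix _ x.1.2 (congrArg Subtype.val (x.2 ⟨g, Subgroup.mem_zpowers g⟩))⟩
  rw [h0] at h
  exact Nat.modEq_zero_iff_dvd.1 h

theorem two_transitive {F : Type*} [Field F] [Fintype F] (hF : Fintype.card F = 2)
    (H : Subgroup (GL (Fin 4) F)) (hcard : Nat.card H = 2520) (v w v' w' : Fin 4 → F) (hv : v ≠ 0) (hw : w ≠ 0)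
    (hvw : v ≠ w) (hv' : v' ≠ 0) (hw' : w' ≠ 0) (hvw' : v' ≠ w') :
    ∃ g : H, ((g : GL (Fin 4) F) : Matrix (Fin 4) (Fin 4) F) *ᵥ v = v' ∧
      ((g : GL (Fin 4) F) : Matrix (Fin 4) (Fin 4) F) *ᵥ w = w' := by
  classical
  letI := vecAction H
  have hsm : ∀ (g : H) (x : Fin 4 → F), g • x = ((g : GL (Fin 4) F) : Matrix (Fin 4) (Fin 4) F) *ᵥ x := fun g x => rfl
  have hne : ∀ (g : H) (x : Fin 4 → F), x ≠ 0 → g • x ≠ 0 := fun g x hx h0 => hx (by
    have := congrArg (fun y => g⁻¹ • y) h0
    simp only [inv_smul_smul] at this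
    rw [this, hsm, mulVec_zero])
  have hV : Nat.card (Fin 4 → F) = 16 := by
    rw [Nat.card_eq_fintype_card, Fintype.card_fun, hF, Fintype.card_fin]; norm_num
  have hG : Nat.card (GL (Fin 4) F) = 20160 := by
    rw [Matrix.card_GL_field, hF]; decide
  -- the orbit of a non-zero vector
  have horb : ∀ x : Fin 4 → F, x ≠ 0 → MulAction.orbit H x = {y | y ≠ 0} ∧ Nat.card (MulAction.stabilizer H x) = 168 := by
    intro x hx
    letI := vecAction (⊤ : Subgroup (GL (Fin 4) F))
    have hsub : MulAction.orbit H x ⊆ {y | y ≠ 0} := by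
      rintro _ ⟨g, rfl⟩; exact hne g x hx
    have hTorb : MulAction.orbit (⊤ : Subgroup (GL (Fin 4) F)) x = {y | y ≠ 0} := by
      ext y
      constructor
      · rintro ⟨g, rfl⟩ h0
        exact hx (Matrix.mulVec_injective_iff_isUnit.2 (Units.isUnit (g : GL (Fin 4) F)) (h0.trans (mulVec_zero _).symm))
      · intro hy
        obtain ⟨e, he⟩ : ∃ e : (Fin 4 → F) ≃ₗ[F] (Fin 4 → F), e x = y := by
          obtain ⟨f, hf⟩ := Submodule.exists_linearEquiv_restrict_eq ((LinearEquiv.toSpanNonzeroSingleton F _ x hx).symm.trans (LinearEquiv.toSpanNonzeroSingleton F _ y hy))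
          refine ⟨f, ?_⟩
          have h := hf ⟨x, Submodule.mem_span_singleton_self x⟩
          simp at h
          have h1 : (LinearEquiv.toSpanNonzeroSingleton F _ x hx).symm ⟨x, Submodule.mem_span_singleton_self x⟩ = 1 := by
            rw [LinearEquiv.symm_apply_eq]; ext; simp
          rw [h1, one_smul] at h
          exact h.symm
        refine ⟨⟨Matrix.GeneralLinearGroup.toLin.symm (LinearMap.GeneralLinearGroup.ofLinearEquiv e), trivial⟩, ?_⟩
        show (Matrix.GeneralLinearGroup.toLin.symm (LinearMap.GeneralLinearGroup.ofLinearEquiv e) : Matrix (Fin 4) (Fin 4) F) *ᵥ x = y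
        rw [← he]
        exact LinearMap.toMatrix'_mulVec _ _
    have h15 : Nat.card {y : Fin 4 → F | y ≠ 0} = 15 := by
      rw [Nat.card_coe_set_eq, show {y : Fin 4 → F | y ≠ 0} = {0}ᶜ from rfl, Set.ncard_compl, Set.ncard_singleton, hV]
    have e1 : (MulAction.stabilizer (⊤ : Subgroup (GL (Fin 4) F)) x).index = 15 := by
      rw [MulAction.index_stabilizer, hTorb, ← Nat.card_coe_set_eq, h15]
    have e2 := Subgroup.card_mul_index (MulAction.stabilizer (⊤ : Subgroup (GL (Fin 4) F)) x)
    rw [e1, Subgroup.card_top, hG] at e2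
    have e3 := Subgroup.card_mul_index (MulAction.stabilizer H x)
    rw [hcard, MulAction.index_stabilizer, ← Nat.card_coe_set_eq] at e3
    have hdv : Nat.card (MulAction.stabilizer H x) ∣ Nat.card (MulAction.stabilizer (⊤ : Subgroup (GL (Fin 4) F)) x) :=
      Subgroup.card_dvd_of_injective
        (MonoidHom.mk' (fun g : MulAction.stabilizer H x => (⟨⟨((g : H) : GL (Fin 4) F), trivial⟩, g.2⟩ :
          MulAction.stabilizer (⊤ : Subgroup (GL (Fin 4) F)) x)) fun a b => rfl)
        (fun a b h => Subtype.ext (Subtype.ext (congrArg (fun z : MulAction.stabilizer (⊤ : Subgroup (GL (Fin 4) F)) x => ((z : (⊤ : Subgroup (GL (Fin 4) F))) : GL (Fin 4) F)) h)))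
    have hle : Nat.card (MulAction.orbit H x) ≤ 15 := h15 ▸ Nat.card_mono (Set.toFinite _) hsub
    have hS : Nat.card (MulAction.stabilizer (⊤ : Subgroup (GL (Fin 4) F)) x) = 1344 := by omega
    rw [hS] at hdv
    have hd : Nat.card (MulAction.stabilizer H x) ∣ 168 := by
      have := Nat.dvd_gcd hdv (Dvd.intro _ e3)
      simpa using this
    obtain ⟨c, hc⟩ := hd
    have h15' : Nat.card (MulAction.orbit H x) = 15 * c := by
      have : 0 < Nat.card (MulAction.stabilizer H x) := Nat.card_pos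
      apply Nat.eq_of_mul_eq_mul_left this
      rw [e3]
      calc (2520 : ℕ) = 15 * 168 := rfl
        _ = _ := by rw [hc]; ring
    have hc1 : c = 1 := by
      rcases Nat.lt_or_ge c 2 with h | h
      · rcases Nat.eq_zero_or_pos c with rfl | h'
        · simp at hc
        · omega
      · omega
    subst hc1
    refine ⟨Set.eq_of_subset_of_ncard_le hsub ?_ (Set.toFinite _), by omega⟩
    rw [← Nat.card_coe_set_eq, ← Nat.card_coe_set_eq, h15, h15']
  haveI : Fact (Nat.Prime 7) := ⟨by norm_num⟩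
  haveI : Fact (Nat.Prime 2) := ⟨Nat.prime_two⟩
  -- orbits of pairs
  let O : (Fin 4 → F) × (Fin 4 → F) → Set ((Fin 4 → F) × (Fin 4 → F)) := MulAction.orbit H
  have hO : ∀ a b : Fin 4 → F, a ≠ 0 → b ≠ 0 → a ≠ b → Nat.card (O (a, b)) = 105 ∨ Nat.card (O (a, b)) = 210 := by
    intro a b ha hb hab
    obtain ⟨-, hA⟩ := horb a ha
    obtain ⟨g, hg⟩ := exists_prime_orderOf_dvd_card' 7 (show 7 ∣ Nat.card (MulAction.stabilizer H a) by rw [hA]; norm_num)
    have hg7 : ((g : H)) ^ 7 = 1 := by
      rw [← SubmonoidClass.coe_pow, ← hg, pow_orderOf_eq_one]; rfl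
    have hga : (g : H) • a = a := g.2
    let W : Submodule F (Fin 4 → F) := LinearMap.ker ((((g : H) : GL (Fin 4) F) : Matrix (Fin 4) (Fin 4) F).mulVecLin - LinearMap.id)
    have hW : ∀ y, y ∈ W ↔ (g : H) • y = y := fun y => by
      simp [W, sub_eq_zero, hsm]
    have hmov : ∀ y, y ≠ 0 → y ≠ a → (g : H) • y ≠ y := by
      intro y hy hya hfix
      have h7 : 7 ∣ Nat.card {z : Fin 4 → F | (g : H) • z ≠ z} := by
        refine orbit_dvd_seven (g : H) hg7 _ (fun z hz h => hz ?_) (fun z hz => hz)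
        simpa using congrArg (fun y => (g : H)⁻¹ • y) h
      have hcompl : Nat.card W + Nat.card {z : Fin 4 → F | (g : H) • z ≠ z} = 16 := by
        rw [show {z : Fin 4 → F | (g : H) • z ≠ z} = (W : Set (Fin 4 → F))ᶜ from Set.ext fun z => (not_congr (hW z)).symm,
          show Nat.card W = Nat.card (W : Set (Fin 4 → F)) from rfl, Nat.card_coe_set_eq, Nat.card_coe_set_eq,
          Set.ncard_add_ncard_compl, hV]
      have hWc : Nat.card W = 2 ^ Module.finrank F W := by
        rw [Module.natCard_eq_pow_finrank (K := F), Nat.card_eq_fintype_card, hF]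
      have h4 : Module.finrank F W ≤ 4 := (Submodule.finrank_le W).trans (by simp)
      have hge : 3 ≤ Nat.card W := by
        have : ({0, a, y} : Set (Fin 4 → F)) ⊆ (W : Set (Fin 4 → F)) := by
          intro z hz
          rcases hz with rfl | rfl | rfl
          · exact W.zero_mem
          · exact (hW _).2 hga
          · exact (hW _).2 hfix
        have h3 := Set.ncard_le_ncard this (Set.toFinite _)
        rw [Set.ncard_insert_of_notMem (by simp [Ne.symm ha, Ne.symm hy]), Set.ncard_pair (Ne.symm hya)] at h3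
        rw [show Nat.card W = Nat.card (W : Set (Fin 4 → F)) from rfl, Nat.card_coe_set_eq]
        omega
      have hall : Module.finrank F W = 4 := by
        interval_cases h : Module.finrank F W <;> omega
      have htop : W = ⊤ := Submodule.eq_top_of_finrank_eq (by rw [hall]; simp)
      have hg1 : (g : H) = 1 := Subtype.ext (Units.ext (Matrix.ext_of_mulVec_single fun i => by
        have := (hW (Pi.single i 1)).1 (htop ▸ trivial)
        rw [OneMemClass.coe_one, Units.val_one, Matrix.one_mulVec]; rwa [hsm] at this))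
      have : g = 1 := Subtype.ext hg1
      rw [this, orderOf_one] at hg
      norm_num at hg
    let Ob : Set (Fin 4 → F) := MulAction.orbit (MulAction.stabilizer H a) b
    have hOb : ∀ y ∈ Ob, y ≠ 0 ∧ y ≠ a := by
      rintro _ ⟨s, rfl⟩
      refine ⟨hne _ b hb, fun h => hab ?_⟩
      have h' : (s : H) • b = (s : H) • a := h.trans s.2.symm
      exact (MulAction.injective (s : H) h').symm
    have h7 : 7 ∣ Nat.card Ob := orbit_dvd_seven (g : H) hg7 Ob (fun y hy => by
      obtain ⟨s, rfl⟩ := hy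
      exact ⟨g * s, mul_smul (g : H) (s : H) b⟩) fun y hy => hmov y (hOb y hy).1 (hOb y hy).2
    have h14 : Nat.card Ob ≤ 14 := by
      have h := Nat.card_mono (t := ({0, a} : Set (Fin 4 → F))ᶜ) (Set.toFinite _) (fun y hy => by
        obtain ⟨h1, h2⟩ := hOb y hy
        simp [h1, h2])
      rw [Nat.card_coe_set_eq, Nat.card_coe_set_eq, Set.ncard_compl, Set.ncard_pair (Ne.symm ha), hV] at h
      rw [Nat.card_coe_set_eq]
      exact h
    have hpos : 0 < Nat.card Ob := Nat.card_pos_iff.2 ⟨⟨⟨b, MulAction.mem_orbit_self b⟩⟩, inferInstance⟩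
    -- the stabiliser of the pair
    have e1 := Subgroup.card_mul_index (MulAction.stabilizer (MulAction.stabilizer H a) b)
    rw [hA, MulAction.index_stabilizer, ← Nat.card_coe_set_eq] at e1
    have e2 := Subgroup.card_mul_index (MulAction.stabilizer H (a, b))
    rw [hcard, MulAction.index_stabilizer, ← Nat.card_coe_set_eq] at e2
    have e3 : Nat.card (MulAction.stabilizer H (a, b)) = Nat.card (MulAction.stabilizer (MulAction.stabilizer H a) b) :=
      Nat.card_congr
        { toFun := fun s => ⟨⟨s.1, congrArg Prod.fst s.2⟩, congrArg Prod.snd s.2⟩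
          invFun := fun s => ⟨s.1.1, Prod.ext s.1.2 s.2⟩
          left_inv := fun s => rfl
          right_inv := fun s => rfl }
    rw [e3] at e2
    change Nat.card (MulAction.stabilizer (MulAction.stabilizer H a) b) * Nat.card Ob = 168 at e1
    change Nat.card (MulAction.stabilizer (MulAction.stabilizer H a) b) * Nat.card (O (a, b)) = 2520 at e2
    obtain ⟨c, hc⟩ := h7
    have hc2 : c = 1 ∨ c = 2 := by omega
    rcases hc2 with rfl | rfl <;> rw [hc] at e1 <;> [left; right] <;>
    · have h0 : 0 < Nat.card (MulAction.stabilizer (MulAction.stabilizer H a) b) := Nat.card_pos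
      apply Nat.eq_of_mul_eq_mul_left h0
      rw [e2]; omega
  -- a swapped pair
  obtain ⟨t, ht⟩ := exists_prime_orderOf_dvd_card' 2 (show 2 ∣ Nat.card H by rw [hcard]; norm_num)
  have htt : t * t = 1 := by rw [← sq, ← ht, pow_orderOf_eq_one]
  obtain ⟨a, ha⟩ : ∃ a : Fin 4 → F, t • a ≠ a := by
    by_contra hc
    push Not at hc
    have : t = 1 := Subtype.ext (Units.ext (Matrix.ext_of_mulVec_single fun i => by rw [OneMemClass.coe_one, Units.val_one, Matrix.one_mulVec]; have := hc (Pi.single i 1); rwa [hsm] at this))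
    rw [this, orderOf_one] at ht
    norm_num at ht
  have ha0 : a ≠ 0 := fun h => ha (by rw [h, hsm, mulVec_zero])
  have hbig : Nat.card (O (a, t • a)) = 210 := by
    rcases hO a (t • a) ha0 (hne t a ha0) (Ne.symm ha) with h | h
    · exfalso
      let s : Equiv.Perm (O (a, t • a)) :=
        { toFun := fun p => ⟨(p.1.2, p.1.1), by
            obtain ⟨g, hg⟩ := p.2
            refine ⟨g * t, ?_⟩
            show (g * t) • (a, t • a) = _
            rw [← hg]
            simp [Prod.smul_def, mul_smul, ← mul_smul t t a, htt]⟩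
          invFun := fun p => ⟨(p.1.2, p.1.1), by
            obtain ⟨g, hg⟩ := p.2
            refine ⟨g * t, ?_⟩
            show (g * t) • (a, t • a) = _
            rw [← hg]
            simp [Prod.smul_def, mul_smul, ← mul_smul t t a, htt]⟩
          left_inv := fun p => rfl
          right_inv := fun p => rfl }
      have hs : s ^ 2 = 1 := Equiv.ext fun p => rfl
      letI := Fintype.ofFinite (O (a, t • a))
      have hsupp : s.support = Finset.univ := Finset.eq_univ_of_forall fun p => Equiv.Perm.mem_support.2 fun hp => by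
        obtain ⟨g, hg⟩ := p.2
        have h1 : p.1.2 = p.1.1 := congrArg (fun z : O (a, t • a) => z.1.1) hp
        rw [← hg] at h1
        exact ha (MulAction.injective g h1)
      have h2 := Equiv.Perm.two_dvd_card_support hs
      rw [hsupp, Finset.card_univ, ← Nat.card_eq_fintype_card, h] at h2
      norm_num at h2
    · exact h
  have hD : O (a, t • a) = {p | p.1 ≠ 0 ∧ p.2 ≠ 0 ∧ p.1 ≠ p.2} := by
    refine Set.eq_of_subset_of_ncard_le ?_ ?_ (Set.toFinite _)
    · rintro _ ⟨g, rfl⟩
      exact ⟨hne g a ha0, hne g _ (hne t a ha0), fun h => ha (MulAction.injective g h).symm⟩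
    · rw [← Nat.card_coe_set_eq (O (a, t • a)), hbig]
      have hcount : Set.ncard {p : (Fin 4 → F) × (Fin 4 → F) | p.1 ≠ 0 ∧ p.2 ≠ 0 ∧ p.1 ≠ p.2} = 210 := by
        rw [← Nat.card_coe_set_eq]
        have e : {p : (Fin 4 → F) × (Fin 4 → F) | p.1 ≠ 0 ∧ p.2 ≠ 0 ∧ p.1 ≠ p.2} ≃
            Σ x : {x : Fin 4 → F // x ≠ 0}, {y : Fin 4 → F // y ∉ ({0, x.1} : Finset (Fin 4 → F))} :=
          { toFun := fun p => ⟨⟨p.1.1, p.2.1⟩, p.1.2, by rw [Finset.mem_insert, Finset.mem_singleton]; exact not_or.2 ⟨p.2.2.1, Ne.symm p.2.2.2⟩⟩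
            invFun := fun s => ⟨(s.1.1, s.2.1), s.1.2, fun h => s.2.2 (Finset.mem_insert.2 (Or.inl h)), fun h => s.2.2 (Finset.mem_insert.2 (Or.inr (Finset.mem_singleton.2 h.symm)))⟩
            left_inv := fun p => rfl
            right_inv := fun s => rfl }
        have h16 : Fintype.card (Fin 4 → F) = 16 := by rw [← Nat.card_eq_fintype_card, hV]
        rw [Nat.card_congr e, Nat.card_sigma, Finset.sum_congr rfl (g := fun _ => 14) fun x _ => by
          rw [Nat.card_eq_fintype_card, Fintype.card_subtype_compl, Fintype.card_coe, Finset.card_pair (Ne.symm x.2), h16]]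
        rw [Finset.sum_const, Finset.card_univ, Fintype.card_subtype_compl, Fintype.card_subtype_eq, h16, smul_eq_mul]
      omega
  obtain ⟨g₁, hg₁⟩ : (v, w) ∈ O (a, t • a) := by rw [hD]; exact ⟨hv, hw, hvw⟩
  obtain ⟨g₂, hg₂⟩ : (v', w') ∈ O (a, t • a) := by rw [hD]; exact ⟨hv', hw', hvw'⟩
  have e : (g₂ * g₁⁻¹) • (v, w) = (v', w') := by
    rw [← hg₁, ← hg₂]; simp [mul_smul]
  exact ⟨g₂ * g₁⁻¹, congrArg Prod.fst e, congrArg Prod.snd e⟩

theorem exists_a7 {F : Type*} [Field F] [Fintype F] (hF : Fintype.card F = 2) :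
    ∃ H : Subgroup (GL (Fin 4) F), Nonempty (H ≃* alternatingGroup (Fin 7)) := by
  classical
  haveI : Fact (Nat.Prime 2) := ⟨Nat.prime_two⟩
  obtain ⟨e⟩ := CfsgLib.A8.gl4_equiv
  let r : F ≃+* ZMod 2 := (ZMod.ringEquivOfPrime F Nat.prime_two hF).symm
  let m : GL (Fin 4) F ≃* GL (Fin 4) (ZMod 2) := Units.mapEquiv r.mapMatrix.toMulEquiv
  let ι : Fin 7 ↪ Fin 8 := Fin.castSuccEmb
  have hs : ∀ σ : alternatingGroup (Fin 7), (Equiv.Perm.viaEmbeddingHom ι (σ : Equiv.Perm (Fin 7))) ∈ alternatingGroup (Fin 8) := fun σ => by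
    rw [Equiv.Perm.mem_alternatingGroup, Equiv.Perm.viaEmbeddingHom_apply, Equiv.Perm.viaEmbedding, Equiv.Perm.sign_extendDomain]
    exact Equiv.Perm.mem_alternatingGroup.1 σ.2
  let j : alternatingGroup (Fin 7) →* alternatingGroup (Fin 8) :=
    ((Equiv.Perm.viaEmbeddingHom ι).comp (alternatingGroup (Fin 7)).subtype).codRestrict _ hs
  let ψ : alternatingGroup (Fin 7) →* GL (Fin 4) F := (m.symm.toMonoidHom.comp e.symm.toMonoidHom).comp j
  have hψ : Function.Injective ψ := fun a b h => by
    have h1 : j a = j b := e.symm.injective (m.symm.injective h)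
    exact Subtype.ext (Equiv.Perm.viaEmbeddingHom_injective ι (congrArg Subtype.val h1))
  exact ⟨ψ.range, ⟨(MonoidHom.ofInjective hψ).symm⟩⟩

/-- Let F be the field with 2 elements. GL_4(F) (≅ A_8) has a subgroup isomorphic to the alternating group A_7, and every such subgroup acts 2-transitively on the 15 non-zero vectors of F⁴: any ordered pair of distinct non-zero vectors is carried to any other by some element of the subgroup. -/
theorem result {F : Type*} [Field F] [Fintype F] (hF : Fintype.card F = 2) : (∃ H : Subgroup (Matrix.GeneralLinearGroup (Fin 4) F), Nonempty (H ≃* alternatingGroup (Fin 7))) ∧ ∀ H : Subgroup (Matrix.GeneralLinearGroup (Fin 4) F), Nonempty (H ≃* alternatingGroup (Fin 7)) → ∀ v w v' w' : Fin 4 → F, v ≠ 0 → w ≠ 0 → v ≠ w → v' ≠ 0 → w' ≠ 0 → v' ≠ w' → ∃ g ∈ H, (g : Matrix (Fin 4) (Fin 4) F).mulVec v = v' ∧ (g : Matrix (Fin 4) (Fin 4) F).mulVec w = w' := by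
  classical
  refine ⟨exists_a7 hF, ?_⟩
  rintro H ⟨e⟩ v w v' w' hv hw hvw hv' hw' hvw'
  have hcard : Nat.card H = 2520 := by
    rw [Nat.card_congr e.toEquiv, nat_card_alternatingGroup, Nat.card_fin]
    decide
  obtain ⟨g, h1, h2⟩ := two_transitive hF H hcard v w v' w' hv hw hvw hv' hw' hvw'
  exact ⟨g, g.2, h1, h2⟩

end Cfsg.Agent.S2551
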