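import Cfsg.Statements.S2552
import Mathlib
-- import your own Cfsg.Agent.* helpers here

set_option autoImplicit false
open Cfsg

namespace Cfsg.Agent.S2552

theorem exists_equiv_det {F W : Type*} [Field F] [AddCommGroup W] [Module F W] [FiniteDimensional F W]
    (h : 0 < Module.finrank F W) {d : F} (hd : d ≠ 0) : ∃ z : W ≃ₗ[F] W, LinearMap.det (z : W →ₗ[F] W) = d := by
  classical
  let b := Module.finBasis F W
  let D : Matrix (Fin (Module.finrank F W)) (Fin (Module.finrank F W)) F := Matrix.diagonal (Pi.mulSingle (⟨0, h⟩ : Fin _) d)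
  have hdet : LinearMap.det (Matrix.toLin b b D) = d := by
    rw [LinearMap.det_toLin, Matrix.det_diagonal, Finset.prod_pi_mulSingle', if_pos (Finset.mem_univ _)]
  exact ⟨LinearMap.equivOfDetNeZero (Matrix.toLin b b D) (by rw [hdet]; exact hd), hdet⟩

/-- Let F be a finite field and n ≥ 1. For every k, the special linear group SL_n(F) acts transitively on the set of k-dimensional subspaces of F^n: any two subspaces of the same dimension are carried onto each other by some matrix of determinant 1. -/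
theorem result {F : Type*} [Field F] [Fintype F] (n : ℕ) (hn : 1 ≤ n) (U₁ U₂ : Submodule F (Fin n → F)) (h : Module.finrank F U₁ = Module.finrank F U₂) : ∃ g : Matrix.SpecialLinearGroup (Fin n) F, U₁.map ((Matrix.SpecialLinearGroup.toLin' g : (Fin n → F) ≃ₗ[F] (Fin n → F)) : (Fin n → F) →ₗ[F] (Fin n → F)) = U₂ := by
  classical
  obtain ⟨C₁, hc1⟩ := Submodule.exists_isCompl U₁
  obtain ⟨C₂, hc2⟩ := Submodule.exists_isCompl U₂
  have hC : Module.finrank F C₁ = Module.finrank F C₂ := by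
    have h1 := Submodule.finrank_add_eq_of_isCompl hc1
    have h2 := Submodule.finrank_add_eq_of_isCompl hc2
    omega
  let e₁ := LinearEquiv.ofFinrankEq U₁ U₂ h
  let e₂ := LinearEquiv.ofFinrankEq C₁ C₂ hC
  let p₁ := Submodule.prodEquivOfIsCompl U₁ C₁ hc1
  let p₂ := Submodule.prodEquivOfIsCompl U₂ C₂ hc2
  let g₀ : (Fin n → F) ≃ₗ[F] (Fin n → F) := p₁.symm.trans ((e₁.prodCongr e₂).trans p₂)
  have hd : LinearMap.det (g₀ : (Fin n → F) →ₗ[F] (Fin n → F)) ≠ 0 := g₀.isUnit_det'.ne_zero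
  have hd' := inv_ne_zero hd
  obtain ⟨z₁, z₂, hz⟩ : ∃ (z₁ : U₁ ≃ₗ[F] U₁) (z₂ : C₁ ≃ₗ[F] C₁), LinearMap.det (z₁ : U₁ →ₗ[F] U₁) * LinearMap.det (z₂ : C₁ →ₗ[F] C₁) =
      (LinearMap.det (g₀ : (Fin n → F) →ₗ[F] (Fin n → F)))⁻¹ := by
    rcases Nat.eq_zero_or_pos (Module.finrank F U₁) with h0 | h0
    · have : 0 < Module.finrank F C₁ := by
        have h1 := Submodule.finrank_add_eq_of_isCompl hc1
        rw [Module.finrank_fin_fun] at h1
        omega
      obtain ⟨z, hz⟩ := exists_equiv_det this hd'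
      exact ⟨LinearEquiv.refl F _, z, by simp [hz]⟩
    · obtain ⟨z, hz⟩ := exists_equiv_det h0 hd'
      exact ⟨z, LinearEquiv.refl F _, by simp [hz]⟩
  let w : (Fin n → F) ≃ₗ[F] (Fin n → F) := p₁.symm.trans ((z₁.prodCongr z₂).trans p₁)
  let G : (Fin n → F) ≃ₗ[F] (Fin n → F) := w.trans g₀
  have hw : LinearMap.det (w : (Fin n → F) →ₗ[F] (Fin n → F)) = (LinearMap.det (g₀ : (Fin n → F) →ₗ[F] (Fin n → F)))⁻¹ := by
    rw [← hz, ← LinearMap.det_prodMap]
    exact LinearMap.det_conj ((z₁ : U₁ →ₗ[F] U₁).prodMap (z₂ : C₁ →ₗ[F] C₁)) p₁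
  have hG : (LinearMap.toMatrix' (G : (Fin n → F) →ₗ[F] (Fin n → F))).det = 1 := by
    rw [LinearMap.det_toMatrix']
    show LinearMap.det ((g₀ : (Fin n → F) →ₗ[F] (Fin n → F)).comp (w : (Fin n → F) →ₗ[F] (Fin n → F))) = 1
    rw [LinearMap.det_comp, hw, mul_inv_cancel₀ hd]
  refine ⟨⟨_, hG⟩, ?_⟩
  have hlin : ((Matrix.SpecialLinearGroup.toLin' (⟨_, hG⟩ : Matrix.SpecialLinearGroup (Fin n) F) : (Fin n → F) ≃ₗ[F] (Fin n → F)) : (Fin n → F) →ₗ[F] (Fin n → F)) = G := Matrix.toLin'_toMatrix' _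
  rw [hlin]
  refine Submodule.eq_of_le_of_finrank_eq ?_ ?_
  · rintro _ ⟨u, hu, rfl⟩
    have h1 : G u = p₂ (e₁ (z₁ ⟨u, hu⟩), 0) := by
      have : p₁.symm u = (⟨u, hu⟩, 0) := by
        rw [LinearEquiv.symm_apply_eq]
        simp [p₁]
      simp [G, w, g₀, this]
    show G u ∈ U₂
    rw [h1]
    simp [p₂]
  · rw [LinearEquiv.finrank_map_eq, h]

end Cfsg.Agent.S2552
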