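import Cfsg.Statements.S2553
import Mathlib
import Cfsg.Agent.Lib.InvolChar.SubgroupsA8
-- import your own Cfsg.Agent.* helpers here

set_option autoImplicit false
open Cfsg

namespace Cfsg.Agent.S2553

/-- Let H be a nontrivial subgroup of GL(4,2) (a group isomorphic to the alternating group of degree 8) whose largest normal 2-subgroup and largest normal subgroup of odd order are both trivial. Then H is isomorphic to an alternating group of degree n for some 5 ≤ n ≤ 8, to the symmetric group of degree 5 or 6, or to GL(3,2). -/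
theorem result (H : Subgroup (GL (Fin 4) (ZMod 2))) (hH : H ≠ ⊥) (hO : Cfsg.pPrimeCore 2 ↥H = ⊥) (hO2 : Cfsg.pCore 2 ↥H = ⊥) :
    (∃ n : ℕ, 5 ≤ n ∧ n ≤ 8 ∧ Nonempty (↥H ≃* alternatingGroup (Fin n))) ∨
    Nonempty (↥H ≃* Equiv.Perm (Fin 5)) ∨ Nonempty (↥H ≃* Equiv.Perm (Fin 6)) ∨ Nonempty (↥H ≃* GL (Fin 3) (ZMod 2)) := by
  haveI : Nontrivial H := H.nontrivial_iff_ne_bot.2 hH
  obtain ⟨e⟩ := CfsgLib.A8.gl4_equiv
  exact CfsgLib.InvolChar.SubgroupsA8.classify
    ((alternatingGroup (Fin 8)).subtype.comp (e.toMonoidHom.comp H.subtype))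
    ((alternatingGroup (Fin 8)).subtype_injective.comp (e.injective.comp H.subtype_injective))
    (fun h => Equiv.Perm.mem_alternatingGroup.1 (e h).2) hO2 hO

end Cfsg.Agent.S2553
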