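import Cfsg.Statements.S2556
import Mathlib
import Cfsg.Agent.Lib.Suzuki.Sylow
import Cfsg.Agent.Lib.Classical.SuzukiSylowAut
-- import your own Cfsg.Agent.* helpers here

set_option autoImplicit false
open Cfsg

namespace Cfsg.Agent.S2556

/-- Let S be a Sylow 2-subgroup of the Suzuki group Sz(q), q = 2ⁿ with n = 2m + 1 ≥ 3 (realised as 4 × 4 matrices over the field with q elements). Then the largest normal 2-subgroup of the automorphism group of S is elementary abelian of order 2^(n²), and the automorphism group of S has order 2^(n²) · n · (q − 1). -/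
theorem result {S : Type*} [Group S] [Finite S] (m : ℕ) (hm : 1 ≤ m)
    {F : Type*} [Field F] [Fintype F] (hF : Fintype.card F = 2 ^ (2 * m + 1))
    (P : Sylow 2 ↥(Cfsg.Lie.Sz F (2 ^ (m + 1)))) (hS : Nonempty (S ≃* ↥(P : Subgroup ↥(Cfsg.Lie.Sz F (2 ^ (m + 1)))))) :
    Cfsg.IsElementaryAbelian 2 (Cfsg.pCore 2 (MulAut S)) ∧ Nat.card ↥(Cfsg.pCore 2 (MulAut S)) = 2 ^ ((2 * m + 1) ^ 2) ∧
      Nat.card (MulAut S) = 2 ^ ((2 * m + 1) ^ 2) * ((2 * m + 1) * (2 ^ (2 * m + 1) - 1)) := by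
  haveI : Fact (Nat.Prime 2) := ⟨Nat.prime_two⟩
  haveI : CharP F 2 := by
    obtain ⟨p, _⟩ := CharP.exists F
    obtain ⟨n, hp, hn⟩ := FiniteField.card F p
    have : p ∣ 2 := hp.dvd_of_dvd_pow (show p ∣ 2 ^ (2 * m + 1) by rw [← hF, hn]; exact dvd_pow_self p n.ne_zero)
    have h2 : p = 2 := (Nat.prime_dvd_prime_iff_eq hp Nat.prime_two).1 this
    subst h2
    infer_instance
  obtain ⟨f⟩ := hS
  let g : S ≃* CfsgLib.Suzuki.unip hF := f.trans (Sylow.equiv P (CfsgLib.Suzuki.sylow hF hm))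
  let e0 : F × F ≃ CfsgLib.Suzuki.unip hF := Equiv.ofBijective
    (fun p => ⟨CfsgLib.SuzukiLaws.U hF p.1 p.2, p.1, p.2, rfl⟩)
    ⟨fun p r h => Prod.ext (CfsgLib.Suzuki.U_injective hF (congrArg Subtype.val h)).1
        (CfsgLib.Suzuki.U_injective hF (congrArg Subtype.val h)).2,
      by rintro ⟨_, a, b, rfl⟩; exact ⟨(a, b), rfl⟩⟩
  exact CfsgLib.Classical.SuzukiSylowAut.aut_structure (iterateFrobeniusEquiv F 2 (m + 1)) hm hF
    (fun a => iterateFrobeniusEquiv_def F 2 (m + 1) a) (e0.trans g.symm.toEquiv) fun a b a' b' => by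
      show g.symm (e0 (a, b)) * g.symm (e0 (a', b')) = g.symm (e0 _)
      rw [← map_mul]
      congr 1
      refine Subtype.ext ?_
      show CfsgLib.SuzukiLaws.U hF a b * CfsgLib.SuzukiLaws.U hF a' b' = CfsgLib.SuzukiLaws.U hF _ _
      rw [CfsgLib.SuzukiLaws.U_mul, iterateFrobeniusEquiv_def]

end Cfsg.Agent.S2556
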