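import Cfsg.Statements.S2558
import Cfsg.Agent.Lib.KnownSimple.ClassicalClassBound.Main

set_option autoImplicit false
open Cfsg

namespace Cfsg.Agent.S2558

/-- The number of conjugacy classes of the full orthogonal groups O⁺(2n,q) and O⁻(2n,q), q odd, 2n ≥ 4: for F a finite field of odd order q and n ≥ 2, the number k of conjugacy classes of the isometry group of the hyperbolic quadratic form Σ xᵢyᵢ on F^{2n}, and likewise of the elliptic form Σ xᵢyᵢ + (z₁² + a z₁z₂ + b z₂²) with anisotropic binary part, satisfies q^n/2 ≤ k ≤ 9.5·q^n. -/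
theorem result {F : Type*} [Field F] [Fintype F] (hodd : Odd (Fintype.card F)) (n : ℕ) (hn : 2 ≤ n) (a b : F) (hab : ∀ z₁ z₂ : F, z₁ ^ 2 + a * z₁ * z₂ + b * z₂ ^ 2 = 0 → z₁ = 0 ∧ z₂ = 0) :
    (Fintype.card F ^ n ≤ 2 * Nat.card (ConjClasses ↥(Cfsg.isometryGroup F (Cfsg.quadFormPlus n F))) ∧
      2 * Nat.card (ConjClasses ↥(Cfsg.isometryGroup F (Cfsg.quadFormPlus n F))) ≤ 19 * Fintype.card F ^ n) ∧
    (Fintype.card F ^ n ≤ 2 * Nat.card (ConjClasses ↥(Cfsg.isometryGroup F (Cfsg.quadFormMinus (n - 1) F a b))) ∧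
      2 * Nat.card (ConjClasses ↥(Cfsg.isometryGroup F (Cfsg.quadFormMinus (n - 1) F a b))) ≤ 19 * Fintype.card F ^ n) := by
  have h2 := CfsgLib.CClassBound.two_ne_zero_of_odd hodd
  constructor
  · refine CfsgLib.CClassBound.o_bounds hodd hn (by simp; omega) _ (Matrix.fromBlocks 0 1 1 0) ?_ ?_ fun v => ?_
    · simp [Matrix.fromBlocks_transpose]
    · refine IsUnit.of_mul_eq_one (Matrix.fromBlocks 0 1 1 0) ?_
      simp [Matrix.fromBlocks_multiply]
    · simp [Cfsg.quadFormPlus, dotProduct, Matrix.mulVec, Matrix.one_apply, Finset.mul_sum]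
      rw [← Finset.sum_add_distrib]
      exact Finset.sum_congr rfl fun i _ => by ring
  · have hdet : (4 : F) * b - a ^ 2 ≠ 0 := fun h => by
      have h1 := (hab (-a / 2) 1 (by field_simp; linear_combination h)).2
      exact one_ne_zero h1
    refine CfsgLib.CClassBound.o_bounds hodd hn (by simp; omega) _
      (Matrix.fromBlocks (Matrix.fromBlocks 0 1 1 0) 0 0 !![2, a; a, 2 * b]) ?_ ?_ fun v => ?_
    · have : (!![2, a; a, 2 * b] : Matrix (Fin 2) (Fin 2) F).transpose = !![2, a; a, 2 * b] := by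
        ext i j; fin_cases i <;> fin_cases j <;> rfl
      simp [Matrix.fromBlocks_transpose, this]
    · rw [Matrix.isUnit_iff_isUnit_det, Matrix.det_fromBlocks_zero₂₁]
      refine IsUnit.mul ((Matrix.isUnit_iff_isUnit_det _).1 (IsUnit.of_mul_eq_one (Matrix.fromBlocks 0 1 1 0) ?_))
        (isUnit_iff_ne_zero.2 ?_)
      · simp [Matrix.fromBlocks_multiply]
      · rw [Matrix.det_fin_two_of]
        intro h
        exact hdet (by linear_combination h)
    · simp [Cfsg.quadFormMinus, dotProduct, Matrix.mulVec, Matrix.one_apply, Fin.sum_univ_two, Finset.mul_sum, mul_add]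
      rw [← Finset.sum_add_distrib]
      rw [Finset.sum_congr rfl (fun i _ => show _ = 2 * (v (Sum.inl (Sum.inl i)) * v (Sum.inl (Sum.inr i))) by ring)]
      ring

end Cfsg.Agent.S2558
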