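import Cfsg.Statements.S2559
import Cfsg.Agent.Lib.CharTwoClasses.Glue

set_option autoImplicit false
open Cfsg

namespace Cfsg.Agent.S2559

/-- The number of conjugacy classes of the full orthogonal groups O⁺(2n,q) and O⁻(2n,q), q even, 2n ≥ 4: for F a finite field of even order q and n ≥ 2, the number k of conjugacy classes of the isometry group of the hyperbolic quadratic form Σ xᵢyᵢ on F^{2n}, and likewise of the elliptic form Σ xᵢyᵢ + (z₁² + a z₁z₂ + b z₂²) with anisotropic binary part, satisfies q^n/2 ≤ k ≤ 15·q^n. -/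
theorem result {F : Type*} [Field F] [Fintype F] (heven : Even (Fintype.card F)) (n : ℕ) (hn : 2 ≤ n) (a b : F) (hab : ∀ z₁ z₂ : F, z₁ ^ 2 + a * z₁ * z₂ + b * z₂ ^ 2 = 0 → z₁ = 0 ∧ z₂ = 0) :
    (Fintype.card F ^ n ≤ 2 * Nat.card (ConjClasses ↥(Cfsg.isometryGroup F (Cfsg.quadFormPlus n F))) ∧
      Nat.card (ConjClasses ↥(Cfsg.isometryGroup F (Cfsg.quadFormPlus n F))) ≤ 15 * Fintype.card F ^ n) ∧
    (Fintype.card F ^ n ≤ 2 * Nat.card (ConjClasses ↥(Cfsg.isometryGroup F (Cfsg.quadFormMinus (n - 1) F a b))) ∧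
      Nat.card (ConjClasses ↥(Cfsg.isometryGroup F (Cfsg.quadFormMinus (n - 1) F a b))) ≤ 15 * Fintype.card F ^ n) := by
  haveI := CfsgLib.CharTwoClasses.charTwo_of_even heven
  obtain ⟨ε, hε⟩ := CfsgLib.CharTwoClasses.exists_eps (F := F)
  have ha := CfsgLib.CharTwoClasses.ne_zero_of_aniso hab
  have hr : Module.finrank F (Fin n ⊕ Fin n → F) = 2 * n :=
    CfsgLib.CharTwoClasses.finrank_fun_eq _ (by simp [two_mul])
  have hr' : Module.finrank F ((Fin (n - 1) ⊕ Fin (n - 1)) ⊕ Fin 2 → F) = 2 * n :=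
    CfsgLib.CharTwoClasses.finrank_fun_eq _ (by simp; omega)
  have he : Even (Nat.card F) := by rwa [Nat.card_eq_fintype_card]
  rw [CfsgLib.CharTwoClasses.card_isometryGroup_classes (CfsgLib.CharTwoClasses.sysPlus n F) rfl (Cfsg.quadFormPlus n F) fun _ => rfl,
    CfsgLib.CharTwoClasses.card_isometryGroup_classes (CfsgLib.CharTwoClasses.sysMinus (n - 1) F a b ha) rfl (Cfsg.quadFormMinus (n - 1) F a b)
      fun _ => rfl, ← Nat.card_eq_fintype_card]
  exact ⟨⟨CfsgLib.CharTwoClasses.card_classes_ge_orth _ hε hr hn rfl,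
      CfsgLib.CharTwoClasses.card_classes_le_orth _ hε he hr (by omega) rfl⟩,
    CfsgLib.CharTwoClasses.card_classes_ge_orth _ hε hr' hn rfl,
    CfsgLib.CharTwoClasses.card_classes_le_orth _ hε he hr' (by omega) rfl⟩

end Cfsg.Agent.S2559
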