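import Cfsg.Statements.S2561
import Mathlib
import Cfsg.Agent.Lib.Classical.F2Forms
-- import your own Cfsg.Agent.* helpers here

set_option autoImplicit false
open Cfsg

namespace Cfsg.Agent.S2561

/-- Fix the non-singular alternating form on the 2m-dimensional space over the field of two elements obtained by polarizing the plus-type form Σ xᵢyᵢ (m ≥ 1). The functions q on the space with q(u + v) = q(u) + q(v) + f(u, v) (the quadratic forms polarizing to f) number 2^(2m); each is equivalent under an invertible linear map either to the plus-type form or to the minus-type form Σ xᵢyᵢ + (z₁² + z₁z₂ + z₂²); and those of plus type number 2^(2m−1) + 2^(m−1), those of minus type 2^(2m−1) − 2^(m−1). -/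
theorem result (m : ℕ) (hm : 1 ≤ m) :
    Nat.card {q : (Fin m ⊕ Fin m → ZMod 2) → ZMod 2 // (∀ u v : (Fin m ⊕ Fin m → ZMod 2), q (u + v) = q u + q v + (Cfsg.quadFormPlus m (ZMod 2) (u + v) - Cfsg.quadFormPlus m (ZMod 2) u - Cfsg.quadFormPlus m (ZMod 2) v))} = 2 ^ (2 * m) ∧
    (∀ q : (Fin m ⊕ Fin m → ZMod 2) → ZMod 2, (∀ u v : (Fin m ⊕ Fin m → ZMod 2), q (u + v) = q u + q v + (Cfsg.quadFormPlus m (ZMod 2) (u + v) - Cfsg.quadFormPlus m (ZMod 2) u - Cfsg.quadFormPlus m (ZMod 2) v)) →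
      (∃ g : (Fin m ⊕ Fin m → ZMod 2) ≃ₗ[ZMod 2] (Fin m ⊕ Fin m → ZMod 2), ∀ v, q v = Cfsg.quadFormPlus m (ZMod 2) (g v)) ∨
      (∃ g : (Fin m ⊕ Fin m → ZMod 2) ≃ₗ[ZMod 2] ((Fin (m - 1) ⊕ Fin (m - 1)) ⊕ Fin 2 → ZMod 2), ∀ v, q v = Cfsg.quadFormMinus (m - 1) (ZMod 2) 1 1 (g v))) ∧
    Nat.card {q : (Fin m ⊕ Fin m → ZMod 2) → ZMod 2 // (∀ u v : (Fin m ⊕ Fin m → ZMod 2), q (u + v) = q u + q v + (Cfsg.quadFormPlus m (ZMod 2) (u + v) - Cfsg.quadFormPlus m (ZMod 2) u - Cfsg.quadFormPlus m (ZMod 2) v)) ∧ ∃ g : (Fin m ⊕ Fin m → ZMod 2) ≃ₗ[ZMod 2] (Fin m ⊕ Fin m → ZMod 2), ∀ v, q v = Cfsg.quadFormPlus m (ZMod 2) (g v)} = 2 ^ (2 * m - 1) + 2 ^ (m - 1) ∧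
    Nat.card {q : (Fin m ⊕ Fin m → ZMod 2) → ZMod 2 // (∀ u v : (Fin m ⊕ Fin m → ZMod 2), q (u + v) = q u + q v + (Cfsg.quadFormPlus m (ZMod 2) (u + v) - Cfsg.quadFormPlus m (ZMod 2) u - Cfsg.quadFormPlus m (ZMod 2) v)) ∧ ∃ g : (Fin m ⊕ Fin m → ZMod 2) ≃ₗ[ZMod 2] ((Fin (m - 1) ⊕ Fin (m - 1)) ⊕ Fin 2 → ZMod 2), ∀ v, q v = Cfsg.quadFormMinus (m - 1) (ZMod 2) 1 1 (g v)} = 2 ^ (2 * m - 1) - 2 ^ (m - 1) := by
  classical
  simp only [← CfsgLib.Classical.coe_qPlus]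
  obtain ⟨k, rfl⟩ : ∃ k, m = k + 1 := ⟨m - 1, by omega⟩
  simp only [Nat.add_sub_cancel, ← CfsgLib.Classical.coe_qExt_qBin]
  set Qp := CfsgLib.Classical.qPlus (k + 1) (ZMod 2) with hQp
  have hqw : ∀ q : (Fin (k + 1) ⊕ Fin (k + 1) → ZMod 2) → ZMod 2,
      (∀ u v, q (u + v) = q u + q v + (Qp (u + v) - Qp u - Qp v)) →
      ∃ w, q = ⇑(CfsgLib.Classical.F2Forms.qw w) := fun q hq => by
    obtain ⟨w, hw⟩ := CfsgLib.Classical.F2Forms.exists_qw q hq
    exact ⟨w, funext hw⟩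
  have hinj : Function.Injective (fun w : CfsgLib.Classical.F2Forms.V (k + 1) =>
      (⇑(CfsgLib.Classical.F2Forms.qw w) : _ → ZMod 2)) := fun a b h =>
    CfsgLib.Classical.F2Forms.qw_injective (QuadraticMap.ext fun v => congrFun h v)
  have hcount : ∀ (P : ((Fin (k + 1) ⊕ Fin (k + 1) → ZMod 2) → ZMod 2) → Prop),
      Nat.card {q : (Fin (k + 1) ⊕ Fin (k + 1) → ZMod 2) → ZMod 2 //
        (∀ u v, q (u + v) = q u + q v + (Qp (u + v) - Qp u - Qp v)) ∧ P q} =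
      Nat.card {w : CfsgLib.Classical.F2Forms.V (k + 1) // P ⇑(CfsgLib.Classical.F2Forms.qw w)} := fun P => by
    refine (Nat.card_eq_of_bijective (fun w : {w : CfsgLib.Classical.F2Forms.V (k + 1) //
      P ⇑(CfsgLib.Classical.F2Forms.qw w)} => (⟨_, CfsgLib.Classical.F2Forms.qw_polar_rule w.1, w.2⟩ :
        {q : (Fin (k + 1) ⊕ Fin (k + 1) → ZMod 2) → ZMod 2 //
          (∀ u v, q (u + v) = q u + q v + (Qp (u + v) - Qp u - Qp v)) ∧ P q}))
      ⟨fun a b h => Subtype.ext (hinj (congrArg Subtype.val h)), fun ⟨q, hq, hP⟩ => ?_⟩).symm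
    obtain ⟨w, rfl⟩ := hqw q hq
    exact ⟨⟨w, hP⟩, rfl⟩
  have hzero : ∀ w, (∃ g : (Fin (k + 1) ⊕ Fin (k + 1) → ZMod 2) ≃ₗ[ZMod 2] (Fin (k + 1) ⊕ Fin (k + 1) → ZMod 2),
      ∀ v, CfsgLib.Classical.F2Forms.qw w v = Qp (g v)) ↔ Qp w = 0 := fun w => by
    have h := CfsgLib.Classical.F2Forms.iso_iff (Nat.le_add_left 1 k) w 0
    rw [QuadraticMap.map_zero] at h
    simpa [CfsgLib.Classical.F2Forms.qw_apply, hQp] using h
  have h01 : ∀ a : ZMod 2, a = 0 ∨ a = 1 := by decide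
  have hone : ∀ w, (∃ g : (Fin (k + 1) ⊕ Fin (k + 1) → ZMod 2) ≃ₗ[ZMod 2] ((Fin k ⊕ Fin k) ⊕ Fin 2 → ZMod 2),
      ∀ v, CfsgLib.Classical.F2Forms.qw w v =
        CfsgLib.Classical.qExt k (CfsgLib.Classical.qBin (1 : ZMod 2) 1) (g v)) ↔ ¬ Qp w = 0 := fun w => by
    refine ⟨fun ⟨g, hg⟩ h0 => ?_, fun h => CfsgLib.Classical.F2Forms.exists_minus k ((h01 _).resolve_left h)⟩
    obtain ⟨e, he⟩ := (hzero w).2 h0
    have hz := (CfsgLib.Classical.zeros_congr (g.symm.trans e) fun v => by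
      rw [LinearEquiv.trans_apply, ← he, hg, g.apply_symm_apply] :
      CfsgLib.Classical.zeros Qp = CfsgLib.Classical.zeros (CfsgLib.Classical.qExt k (CfsgLib.Classical.qBin (1 : ZMod 2) 1)))
    have h2 := CfsgLib.Classical.zeros_minus (F := ZMod 2) (a := 1) (b := 1) (by
      unfold CfsgLib.Classical.BinAniso; decide) k
    rw [← hz, CfsgLib.Classical.F2Forms.zeros_qPlus (Nat.le_add_left 1 k), ZMod.card] at h2
    have h3 : (0 : ℤ) < 2 ^ k := by positivity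
    rw [show 2 * (k + 1) - 1 = 2 * k + 1 by omega, show k + 1 - 1 = k by omega] at h2
    push_cast at h2
    rw [pow_succ (2 : ℤ) k] at h2
    linarith
  have hplus : Nat.card {w : CfsgLib.Classical.F2Forms.V (k + 1) // Qp w = 0} =
      2 ^ (2 * (k + 1) - 1) + 2 ^ k := by
    have := CfsgLib.Classical.F2Forms.zeros_qPlus (Nat.le_add_left 1 k)
    rwa [CfsgLib.Classical.zeros, Nat.add_sub_cancel] at this
  refine ⟨?_, fun q hq => ?_, ?_, ?_⟩
  · have h := hcount (fun _ => True)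
    simp only [and_true] at h
    rw [h, Nat.card_congr (Equiv.subtypeUnivEquiv fun _ => trivial), Nat.card_fun, Nat.card_zmod]
    simp [two_mul]
  · obtain ⟨w, rfl⟩ := hqw q hq
    by_cases h : Qp w = 0
    · exact Or.inl ((hzero w).2 h)
    · exact Or.inr ((hone w).2 h)
  · rw [hcount, Nat.card_congr (Equiv.subtypeEquivRight hzero), hplus]
  · rw [hcount]
    refine (Nat.card_congr (Equiv.subtypeEquivRight hone)).trans ?_
    rw [Nat.card_eq_fintype_card,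
      Fintype.card_subtype_compl, ← Nat.card_eq_fintype_card, ← Nat.card_eq_fintype_card, hplus, Nat.card_fun,
      Nat.card_zmod]
    have h3 : 2 ^ (k + 1 + (k + 1)) = 2 * 2 ^ (2 * (k + 1) - 1) := by rw [← pow_succ']; congr 1; omega
    simp only [Nat.card_eq_fintype_card, Fintype.card_sum, Fintype.card_fin]
    omega

end Cfsg.Agent.S2561
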