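import Cfsg.Statements.S2562
import Mathlib
import Cfsg.Agent.Lib.Classical.WittBound
-- import your own Cfsg.Agent.* helpers here

set_option autoImplicit false
open Cfsg

namespace Cfsg.Agent.S2562

/-- Witt indices over the field of two elements, m ≥ 1: for the plus-type form Σ xᵢyᵢ in dimension 2m some m-dimensional subspace is totally singular and no totally singular subspace has larger dimension; for the minus-type form Σ xᵢyᵢ + (z₁² + z₁z₂ + z₂²) in dimension 2m the maximal dimension of a totally singular subspace is m − 1. -/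
theorem result (m : ℕ) (hm : 1 ≤ m) :
    (∃ U : Submodule (ZMod 2) (Fin m ⊕ Fin m → ZMod 2), (∀ u ∈ U, Cfsg.quadFormPlus m (ZMod 2) u = 0) ∧ Module.finrank (ZMod 2) ↥U = m) ∧
    (∀ U : Submodule (ZMod 2) (Fin m ⊕ Fin m → ZMod 2), (∀ u ∈ U, Cfsg.quadFormPlus m (ZMod 2) u = 0) → Module.finrank (ZMod 2) ↥U ≤ m) ∧
    (∃ U : Submodule (ZMod 2) ((Fin (m - 1) ⊕ Fin (m - 1)) ⊕ Fin 2 → ZMod 2), (∀ u ∈ U, Cfsg.quadFormMinus (m - 1) (ZMod 2) 1 1 u = 0) ∧ Module.finrank (ZMod 2) ↥U = m - 1) ∧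
    (∀ U : Submodule (ZMod 2) ((Fin (m - 1) ⊕ Fin (m - 1)) ⊕ Fin 2 → ZMod 2), (∀ u ∈ U, Cfsg.quadFormMinus (m - 1) (ZMod 2) 1 1 u = 0) → Module.finrank (ZMod 2) ↥U ≤ m - 1) := by
  obtain ⟨n, rfl⟩ : ∃ n, m = n + 1 := ⟨m - 1, by omega⟩
  simp only [Nat.add_sub_cancel]
  have h0 : ∀ z, CfsgLib.Classical.qBin (1 : ZMod 2) 1 z = 0 → z = 0 := by decide
  refine ⟨?_, fun U hU => ?_, ?_, fun U hU => ?_⟩
  · refine ⟨LinearMap.ker (LinearMap.funLeft (ZMod 2) (ZMod 2) (Sum.inl : Fin (n + 1) → Fin (n + 1) ⊕ Fin (n + 1))),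
      fun u hu => Finset.sum_eq_zero fun i _ => mul_eq_zero_of_left (congrFun (LinearMap.mem_ker.1 hu) i) _, ?_⟩
    have h := LinearMap.finrank_range_add_finrank_ker (LinearMap.funLeft (ZMod 2) (ZMod 2)
      (Sum.inl : Fin (n + 1) → Fin (n + 1) ⊕ Fin (n + 1)))
    rw [LinearMap.range_eq_top.2 (LinearMap.funLeft_surjective_of_injective _ _ _ Sum.inl_injective)] at h
    simp at h
    omega
  · let e := LinearEquiv.funCongrLeft (ZMod 2) (ZMod 2) (Equiv.sumEmpty (Fin (n + 1) ⊕ Fin (n + 1)) (Fin 0))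
    rw [← LinearEquiv.finrank_map_eq e U]
    refine CfsgLib.Classical.finrank_le_of_singular (J := Fin 0) (0 : QuadraticForm (ZMod 2) (Fin 0 → ZMod 2))
      (fun z _ => Subsingleton.elim _ _) ?_
    rintro _ ⟨u, hu, rfl⟩
    rw [CfsgLib.Classical.qExt_apply]
    simpa [e, LinearEquiv.funCongrLeft_apply, LinearMap.funLeft, Cfsg.quadFormPlus] using hU u hu
  · refine ⟨LinearMap.ker (LinearMap.funLeft (ZMod 2) (ZMod 2)
      (Sum.elim (fun i => Sum.inl (Sum.inl i)) Sum.inr : Fin n ⊕ Fin 2 → (Fin n ⊕ Fin n) ⊕ Fin 2)), fun u hu => ?_, ?_⟩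
    · have hz := congrFun (LinearMap.mem_ker.1 hu)
      rw [← CfsgLib.Classical.coe_qExt_qBin, CfsgLib.Classical.qExt_apply, Finset.sum_eq_zero fun i _ =>
        mul_eq_zero_of_left (show u (Sum.inl (Sum.inl i)) = 0 from hz (Sum.inl i)) _, zero_add, show (fun j => u (Sum.inr j)) = 0 from
          funext fun j => hz (Sum.inr j), QuadraticMap.map_zero]
    · have h := LinearMap.finrank_range_add_finrank_ker (LinearMap.funLeft (ZMod 2) (ZMod 2)
        (Sum.elim (fun i => Sum.inl (Sum.inl i)) Sum.inr : Fin n ⊕ Fin 2 → (Fin n ⊕ Fin n) ⊕ Fin 2))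
      rw [LinearMap.range_eq_top.2 (LinearMap.funLeft_surjective_of_injective _ _ _
        (fun a b h => by rcases a with a | a <;> rcases b with b | b <;> simp_all))] at h
      rw [finrank_top, Module.finrank_fintype_fun_eq_card, Module.finrank_fintype_fun_eq_card] at h
      simp only [Fintype.card_sum, Fintype.card_fin] at h
      exact Nat.add_left_cancel (n := n + 2) (h.trans (by omega))
  · exact CfsgLib.Classical.finrank_le_of_singular (k := n) (CfsgLib.Classical.qBin (1 : ZMod 2) 1) h0 fun u hu => by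
      rw [CfsgLib.Classical.coe_qExt_qBin]
      exact hU u hu

end Cfsg.Agent.S2562
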