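import Cfsg.Statements.S2563
import Mathlib
import Cfsg.Agent.Lib.KnownSimple.POAut.FormClass
import Cfsg.Agent.Lib.Classical.QuadPOmega
-- import your own Cfsg.Agent.* helpers here

set_option autoImplicit false
open Cfsg

namespace Cfsg.Agent.S2563

open CfsgLib.Classical

instance factTwoS2563 : Fact (Nat.Prime 2) := ⟨Nat.prime_two⟩

def ind (a : ZMod 2) : ZMod 4 := if a = 1 then 1 else 0

def par : ZMod 4 →+* ZMod 2 := ZMod.castHom (by norm_num) (ZMod 2)

def half (a : ZMod 4) : ZMod 2 := if a = 2 then 1 else 0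

theorem ind_add : ∀ a b : ZMod 2, ind (a + b) = ind a + ind b + 2 * ind (a * b) := by decide
theorem par_ind : ∀ a : ZMod 2, par (ind a) = a := by decide
theorem ind_succ : ∀ a : ZMod 2, ind (a + 1) = 1 - ind a := by decide
theorem half_add : ∀ a b c : ZMod 4, par a = 0 → par b = 0 → half (a + b + 2 * c) = half a + half b + par c := by decide
theorem half_neg : ∀ a : ZMod 4, half (-a) = half a := by decide
theorem half_zero : ∀ a : ZMod 4, par a = 0 → (half a = 0 ↔ a = 0) := by decide
theorem sub_self_two : ∀ a : ZMod 2, a + a = 0 := by decide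

def wt {N : ℕ} (x : Fin N → ZMod 2) : ZMod 4 := ∑ i, ind (x i)

theorem wt_add {N : ℕ} (x y : Fin N → ZMod 2) : wt (x + y) = wt x + wt y + 2 * wt (x * y) := by
  simp only [wt, Pi.add_apply, Pi.mul_apply, ind_add, Finset.sum_add_distrib, Finset.mul_sum]

theorem par_wt {N : ℕ} (x : Fin N → ZMod 2) : par (wt x) = ∑ i, x i := by
  simp only [wt, map_sum, par_ind]

theorem wt_perm {N : ℕ} (x : Fin N → ZMod 2) (σ : Equiv.Perm (Fin N)) : wt (x ∘ σ) = wt x :=
  Equiv.sum_comp σ fun i => ind (x i)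

theorem wt_compl {N : ℕ} (x : Fin N → ZMod 2) (c : ZMod 2) :
    wt (fun i => x i + c) = if c = 1 then (N : ZMod 4) - wt x else wt x := by
  rcases (by decide : ∀ c : ZMod 2, c = 0 ∨ c = 1) c with rfl | rfl
  · simp [wt]
  · simp [wt, ind_succ, Finset.sum_sub_distrib]

noncomputable def cnt (N : ℕ) (r : ZMod 4) : ℤ := Nat.card {x : Fin N → ZMod 2 // wt x = r}

theorem cnt_succ (N : ℕ) (r : ZMod 4) : cnt (N + 1) r = cnt N r + cnt N (r - 1) := by
  unfold cnt
  rw [← Nat.cast_add, ← Nat.card_sum]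
  congr 1
  have hw : ∀ x : Fin (N + 1) → ZMod 2, wt x = ind (x 0) + wt (Fin.tail x) := fun x => Fin.sum_univ_succ _
  refine Nat.card_congr
    { toFun := fun x => if h : x.1 0 = 0 then Sum.inl ⟨Fin.tail x.1, by
          have := x.2; rw [hw, h] at this; simpa [ind] using this⟩
        else Sum.inr ⟨Fin.tail x.1, by
          have := x.2
          rw [hw, (by decide : ∀ a : ZMod 2, a ≠ 0 → a = 1) _ h] at this
          simp [ind] at this ⊢; linear_combination this⟩
      invFun := fun y => Sum.elim (fun a => ⟨Fin.cons 0 a.1, by rw [hw, Fin.cons_zero, Fin.tail_cons, a.2]; simp [ind]⟩)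
        (fun a => ⟨Fin.cons 1 a.1, by rw [hw, Fin.cons_zero, Fin.tail_cons, a.2]; simp [ind]⟩) y
      left_inv := fun x => by
        refine Subtype.ext ?_
        by_cases h : x.1 0 = 0
        · simp only [dif_pos h, Sum.elim_inl]; rw [← h]; exact Fin.cons_self_tail _
        · simp only [dif_neg h, Sum.elim_inr]
          rw [← (by decide : ∀ a : ZMod 2, a ≠ 0 → a = 1) _ h]; exact Fin.cons_self_tail _
      right_inv := fun y => by rcases y with a | a <;> simp }

theorem cnt_zero (r : ZMod 4) : cnt 0 r = if r = 0 then 1 else 0 := by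
  unfold cnt
  split_ifs with h
  · rw [Nat.card_eq_one_iff_unique.2 ⟨⟨fun a b => Subtype.ext (Subsingleton.elim _ _)⟩, ⟨⟨Fin.elim0, by simp [wt, h]⟩⟩⟩]
    rfl
  · rw [show Nat.card {x : Fin 0 → ZMod 2 // wt x = r} = 0 from
      Nat.card_eq_zero.2 (Or.inl ⟨fun x => h (by rw [← x.2]; simp [wt])⟩)]
    rfl

theorem cnt_four (N : ℕ) (r : ZMod 4) : cnt (N + 4) r =
    2 * cnt N r + 4 * cnt N (r - 1) + 6 * cnt N (r - 2) + 4 * cnt N (r - 3) := by
  rw [cnt_succ (N + 3), cnt_succ (N + 2), cnt_succ (N + 2) (r - 1)]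
  simp only [cnt_succ (N + 1), cnt_succ N, sub_sub]
  rw [show r - (1 + 1) = r - 2 by norm_num, show r - (1 + 1 + 1) = r - 3 by norm_num,
    show r - (1 + 1 + 1 + 1) = r by
      rw [show (1 + 1 + 1 + 1 : ZMod 4) = 0 by decide, sub_zero]]
  ring

theorem cnt_formula : ∀ k : ℕ, cnt (4 * k + 4) 0 = 4 ^ (2 * k + 1) - 2 * (-4) ^ k ∧
    cnt (4 * k + 4) 1 = 4 ^ (2 * k + 1) ∧ cnt (4 * k + 4) 2 = 4 ^ (2 * k + 1) + 2 * (-4) ^ k ∧
    cnt (4 * k + 4) 3 = 4 ^ (2 * k + 1)
  | 0 => by
    rw [show 4 * 0 + 4 = 0 + 4 from rfl]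
    simp only [cnt_four, cnt_zero]
    decide
  | k + 1 => by
    obtain ⟨h0, h1, h2, h3⟩ := cnt_formula k
    rw [show 4 * (k + 1) + 4 = (4 * k + 4) + 4 by ring]
    generalize 4 * k + 4 = N at h0 h1 h2 h3 ⊢
    simp only [cnt_four]
    simp only [sub_self, show (0 : ZMod 4) - 1 = 3 by decide, show (0 : ZMod 4) - 2 = 2 by decide, show (0 : ZMod 4) - 3 = 1 by decide,
      show (1 : ZMod 4) - 2 = 3 by decide, show (1 : ZMod 4) - 3 = 2 by decide,
      show (2 : ZMod 4) - 3 = 3 by decide, show (3 : ZMod 4) - 1 = 2 by decide, show (3 : ZMod 4) - 2 = 1 by decide,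
      show (2 : ZMod 4) - 1 = 1 by decide, h0, h1, h2, h3]
    refine ⟨?_, ?_, ?_, ?_⟩ <;> ring

variable {n : ℕ}

def emb (y : Fin n → ZMod 2) : Fin (n + 2) → ZMod 2 := Fin.snoc (α := fun _ => ZMod 2) (Fin.snoc (α := fun _ => ZMod 2) y (∑ i, y i)) 0

def prj (x : Fin (n + 2) → ZMod 2) : Fin n → ZMod 2 := fun i => x i.castSucc.castSucc + x (Fin.last (n + 1))

theorem emb_add (y y' : Fin n → ZMod 2) : emb (y + y') = emb y + emb y' := by
  funext i
  refine Fin.lastCases (by simp [emb]) (fun i => ?_) i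
  refine Fin.lastCases (by simp [emb, Finset.sum_add_distrib]) (fun i => by simp [emb]) i

theorem emb_sum (y : Fin n → ZMod 2) : ∑ i, emb y i = 0 := by
  simp [emb, Fin.sum_univ_castSucc, sub_self_two]

theorem prj_emb (y : Fin n → ZMod 2) : prj (emb y) = y := funext fun i => by simp [prj, emb]

theorem emb_prj (hn : Even n) (x : Fin (n + 2) → ZMod 2) (hx : ∑ i, x i = 0) :
    emb (prj x) = fun i => x i + x (Fin.last (n + 1)) := by
  have hn' : (n : ZMod 2) = 0 := (ZMod.natCast_eq_zero_iff_even).2 hn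
  funext i
  refine Fin.lastCases ?_ (fun i => ?_) i
  · simp [emb, sub_self_two]
  · refine Fin.lastCases ?_ (fun i => by simp [emb, prj]) i
    rw [Fin.sum_univ_castSucc, Fin.sum_univ_castSucc] at hx
    simp only [emb, Fin.snoc_castSucc, Fin.snoc_last, prj, Finset.sum_add_distrib, Finset.sum_const, Finset.card_univ,
      Fintype.card_fin, nsmul_eq_mul, hn', zero_mul, add_zero]
    generalize (∑ i : Fin n, x i.castSucc.castSucc) = A at *
    generalize x (Fin.last n).castSucc = B at *
    generalize x (Fin.last (n + 1)) = C at *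
    revert A B C; decide

noncomputable def evenForm (hn : (n : ZMod 4) = 2) : QuadraticForm (ZMod 2) (Fin n → ZMod 2) :=
  QuadraticMap.ofPolar (fun y => half (wt (emb y)))
    (fun c y => by
      rcases (by decide : ∀ c : ZMod 2, c = 0 ∨ c = 1) c with rfl | rfl
      · have h0 : emb (0 : Fin n → ZMod 2) = 0 := by
          funext i; refine Fin.lastCases (by simp [emb]) (fun i => Fin.lastCases (by simp [emb]) (fun i => by simp [emb]) i) i
        simp [h0, wt, half, ind]
        decide
      · simp)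
    (fun u u' v => by
      have hp : ∀ u v : Fin n → ZMod 2, QuadraticMap.polar (fun y => half (wt (emb y))) u v = ∑ i, emb u i * emb v i := fun u v => by
        simp only [QuadraticMap.polar]
        rw [emb_add, wt_add, half_add _ _ _ (by rw [par_wt, emb_sum]) (by rw [par_wt, emb_sum]), par_wt]
        simp only [Pi.mul_apply]
        ring
      simp only [hp, emb_add, Pi.add_apply, add_mul, Finset.sum_add_distrib])
    (fun c u v => by
      rcases (by decide : ∀ c : ZMod 2, c = 0 ∨ c = 1) c with rfl | rfl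
      · have h0 : emb (0 : Fin n → ZMod 2) = 0 := by
          funext i; refine Fin.lastCases (by simp [emb]) (fun i => Fin.lastCases (by simp [emb]) (fun i => by simp [emb]) i) i
        have hh : half (wt (emb (0 : Fin n → ZMod 2))) = 0 := by rw [h0]; simp [wt, ind]; decide
        simp [QuadraticMap.polar, hh]
      · simp)

theorem evenForm_apply (hn : (n : ZMod 4) = 2) (y : Fin n → ZMod 2) : evenForm hn y = half (wt (emb y)) := rfl

theorem polar_evenForm (hn : (n : ZMod 4) = 2) (u v : Fin n → ZMod 2) :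
    QuadraticMap.polar (evenForm hn) u v = ∑ i, emb u i * emb v i := by
  simp only [QuadraticMap.polar, evenForm_apply]
  rw [emb_add, wt_add, half_add _ _ _ (by rw [par_wt, emb_sum]) (by rw [par_wt, emb_sum]), par_wt]
  simp only [Pi.mul_apply]
  ring

theorem polarNondeg_evenForm (hn : (n : ZMod 4) = 2) (hn2 : Even n) : PolarNondeg (evenForm hn) := fun v hv => by
  have key : ∀ j, v j = ∑ i, v i := fun j => by
    have h := hv (Pi.single j 1)
    rw [polar_evenForm, Fin.sum_univ_castSucc, Fin.sum_univ_castSucc] at h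
    simp [emb, Finset.sum_pi_single', Pi.single_apply] at h
    revert h; generalize v j = a; generalize (∑ i, v i) = b; revert a b; decide
  have hS : (∑ i, v i) = 0 := by
    conv_lhs => rw [Finset.sum_congr rfl fun j _ => key j]
    rw [Finset.sum_const, Finset.card_univ, Fintype.card_fin, nsmul_eq_mul, (ZMod.natCast_eq_zero_iff_even).2 hn2, zero_mul]
  exact funext fun j => (key j).trans hS

theorem zeros_evenForm (hn : (n : ZMod 4) = 2) (hn2 : Even n) : 2 * (zeros (evenForm hn) : ℤ) = cnt (n + 2) 0 := by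
  have hN : ((n + 2 : ℕ) : ZMod 4) = 0 := by push_cast; rw [hn]; decide
  have hwt : ∀ (x : Fin (n + 2) → ZMod 2) (c : ZMod 2), wt (fun i => x i + c) = 0 ↔ wt x = 0 := fun x c => by
    rw [wt_compl, hN]; split_ifs <;> simp
  unfold cnt zeros
  rw [show (2 : ℤ) = ((Nat.card (ZMod 2) : ℕ) : ℤ) by simp, ← Nat.cast_mul, ← Nat.card_prod]
  congr 1
  refine (Nat.card_congr (α := {x : Fin (n + 2) → ZMod 2 // wt x = 0})
    (β := ZMod 2 × {y : Fin n → ZMod 2 // evenForm hn y = 0})
    { toFun := fun x => (x.1 (Fin.last (n + 1)), ⟨prj x.1, by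
          have hs : ∑ i, x.1 i = 0 := by rw [← par_wt, x.2, map_zero]
          rw [evenForm_apply, emb_prj hn2 _ hs, (hwt _ _).2 x.2]; decide⟩)
      invFun := fun p => ⟨fun i => emb p.2.1 i + p.1, by
          refine (hwt _ _).2 ((half_zero _ (by rw [par_wt, emb_sum])).1 ?_)
          exact p.2.2⟩
      left_inv := fun x => Subtype.ext (funext fun i => by
          have hs : ∑ i, x.1 i = 0 := by rw [← par_wt, x.2, map_zero]
          show emb (prj x.1) i + x.1 (Fin.last (n + 1)) = x.1 i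
          rw [emb_prj hn2 _ hs, add_assoc, sub_self_two, add_zero])
      right_inv := fun p => Prod.ext (by simp [emb]) (Subtype.ext (funext fun i => by
          simp [prj, emb, add_assoc, sub_self_two])) }).symm

theorem perm_embeds {J : Type} [Fintype J] [DecidableEq J] (hn : (n : ZMod 4) = 2) (hn2 : Even n) (hn6 : 6 ≤ n)
    (f : (J → ZMod 2) → ZMod 2) (e : (Fin n → ZMod 2) ≃ₗ[ZMod 2] (J → ZMod 2)) (he : ∀ y, f (e y) = evenForm hn y) :
    ∃ φ : Equiv.Perm (Fin (n + 2)) →* ↥(Cfsg.isometryGroup (ZMod 2) f), Function.Injective φ := by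
  classical
  have hN : ((n + 2 : ℕ) : ZMod 4) = 0 := by push_cast; rw [hn]; decide
  let act : Equiv.Perm (Fin (n + 2)) → (Fin n → ZMod 2) →ₗ[ZMod 2] (Fin n → ZMod 2) := fun σ =>
    (AddMonoidHom.mk' (fun y => prj (emb y ∘ σ.symm)) fun u v => funext fun i => by
      simp [prj, emb_add]; ring).toZModLinearMap 2
  have hact : ∀ σ y, act σ y = prj (emb y ∘ σ.symm) := fun σ y => rfl
  have heven : ∀ (σ : Equiv.Perm (Fin (n + 2))) y, ∑ i, (emb y ∘ σ.symm) i = 0 := fun σ y =>
    (Equiv.sum_comp σ.symm (emb y)).trans (emb_sum y)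
  have hmul : ∀ σ τ y, act (σ * τ) y = act σ (act τ y) := fun σ τ y => by
    rw [hact, hact σ, hact τ, emb_prj hn2 _ (heven τ y)]
    funext i
    simp only [prj, Function.comp_apply]
    rw [show ∀ a b c : ZMod 2, a + c + (b + c) = a + b by decide]
    rfl
  have hone : ∀ y, act 1 y = y := fun y => prj_emb y
  have hq : ∀ σ y, evenForm hn (act σ y) = evenForm hn y := fun σ y => by
    rw [evenForm_apply, evenForm_apply, hact, emb_prj hn2 _ (heven σ y), wt_compl, wt_perm, hN]
    split_ifs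
    · rw [zero_sub, half_neg]
    · rfl
  let L : Equiv.Perm (Fin (n + 2)) → (J → ZMod 2) →ₗ[ZMod 2] (J → ZMod 2) := fun σ =>
    e.toLinearMap.comp ((act σ).comp e.symm.toLinearMap)
  have hL : ∀ σ v, L σ v = e (act σ (e.symm v)) := fun σ v => rfl
  have hinjL : ∀ σ, Function.Injective (L σ) := fun σ u v h => by
    have := congrArg (L σ⁻¹) h
    simpa [hL, ← hmul, hone] using this
  have hfL : ∀ σ v, f (L σ v) = f v := fun σ v => by
    rw [hL, he, hq, ← he, e.apply_symm_apply]
  refine ⟨MonoidHom.mk' (fun σ => isoMk (Q := f) (L σ) (hinjL σ) (hfL σ)) fun σ τ => iso_ext fun v => by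
    rw [isoApply_mul, isoMk_apply, isoMk_apply, isoMk_apply, hL, hL, hL, hmul, e.symm_apply_apply],
    (injective_iff_map_eq_one _).2 fun σ hσ => ?_⟩
  have hfix : ∀ y, act σ y = y := fun y => by
    have h : isoApply (isoMk (Q := f) (L σ) (hinjL σ) (hfL σ)) (e y) = e y := by
      rw [show isoMk (Q := f) (L σ) (hinjL σ) (hfL σ) = 1 from hσ, isoApply_one]
    rw [isoMk_apply, hL, e.symm_apply_apply] at h
    exact e.injective h
  refine Equiv.ext fun a => ?_
  by_contra ha
  simp only [Equiv.Perm.one_apply] at ha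
  obtain ⟨b, hb⟩ : ∃ b, b ∉ ({a, σ a} : Finset (Fin (n + 2))) := by
    by_contra hc
    push Not at hc
    have h := Finset.card_le_card (fun x (_ : x ∈ (Finset.univ : Finset (Fin (n + 2)))) => hc x)
    rw [Finset.card_univ, Fintype.card_fin] at h
    have := (h.trans Finset.card_le_two)
    omega
  simp only [Finset.mem_insert, Finset.mem_singleton, not_or] at hb
  set x : Fin (n + 2) → ZMod 2 := fun j => (if j = a then 1 else 0) + if j = b then 1 else 0 with hx
  have hev : ∑ j, x j = 0 := by simp [hx, Finset.sum_add_distrib]; decide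
  have h1 := congrArg emb (hfix (prj x))
  rw [hact, emb_prj hn2 _ (heven σ _), emb_prj hn2 _ hev] at h1
  set c := x (Fin.last (n + 1))
  set d := (fun i => x i + c) (σ.symm (Fin.last (n + 1)))
  have h2 : ∀ j, x (σ.symm j) + c + d = x j + c := fun j => congrFun h1 j
  obtain ⟨z, hz⟩ : ∃ z, z ∉ ({a, b, σ a, σ b} : Finset (Fin (n + 2))) := by
    by_contra hc
    push Not at hc
    have h := Finset.card_le_card (fun x (_ : x ∈ (Finset.univ : Finset (Fin (n + 2)))) => hc x)
    rw [Finset.card_univ, Fintype.card_fin] at h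
    have := h.trans Finset.card_le_four
    omega
  simp only [Finset.mem_insert, Finset.mem_singleton, not_or] at hz
  have hd : d = 0 := by
    have := h2 z
    have e1 : x (σ.symm z) = 0 := by
      simp [hx, Equiv.symm_apply_eq, hz.2.2.1, hz.2.2.2]
    have e2 : x z = 0 := by simp [hx, hz.1, hz.2.1]
    rw [e1, e2] at this
    revert this; generalize c = u; generalize d = w; revert u w; decide
  have := h2 (σ a)
  rw [hd, add_zero, Equiv.symm_apply_apply] at this
  simp [hx, hb.1, Ne.symm hb.1, ha, Ne.symm hb.2] at this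

/-- For k ≥ 1 the symmetric group of degree 4k + 4 embeds in a full orthogonal group in dimension 4k + 2 over the field of two elements: in the isometry group of the plus-type form Σ xᵢyᵢ when k is odd, and in that of the minus-type form Σ xᵢyᵢ + (z₁² + z₁z₂ + z₂²) when k is even (through its action on even partitions of a (4k+4)-set, with the form 'half the size of a part, modulo 2'). -/
theorem result (k : ℕ) (hk : 1 ≤ k) :
    (Odd k → ∃ φ : Equiv.Perm (Fin (4 * k + 4)) →* ↥(Cfsg.isometryGroup (ZMod 2) (Cfsg.quadFormPlus (2 * k + 1) (ZMod 2))), Function.Injective φ) ∧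
    (Even k → ∃ φ : Equiv.Perm (Fin (4 * k + 4)) →* ↥(Cfsg.isometryGroup (ZMod 2) (Cfsg.quadFormMinus (2 * k) (ZMod 2) 1 1)), Function.Injective φ) := by
  classical
  have hn : ((4 * k + 2 : ℕ) : ZMod 4) = 2 := by
    push_cast; rw [show (4 : ZMod 4) = 0 by decide, zero_mul, zero_add]
  have hn2 : Even (4 * k + 2) := ⟨2 * k + 1, by ring⟩
  have hnd := polarNondeg_evenForm hn hn2
  have hz := zeros_evenForm hn hn2
  rw [show 4 * k + 2 + 2 = 4 * k + 4 by ring, (cnt_formula k).1] at hz
  have hc1 : ∀ c : ZMod 2, c ≠ 0 → c = 1 := by decide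
  have hp2 : ((2 : ℕ) : ℤ) ^ (2 * k) = 4 ^ k := by rw [pow_mul]; norm_num
  rcases CfsgLib.POAut.similar_even (2 * k) (evenForm hn) hnd (by simp; ring) with ⟨c, e, hc, he⟩ | ⟨a, b, hab, c, e, hc, he⟩
  · have hzz := CfsgLib.Classical.zeros_congr e (fun v => by rw [he, hc1 c hc, one_mul])
    have h := CfsgLib.Classical.zeros_plus (F := ZMod 2) (2 * k)
    rw [hzz, ZMod.card] at h
    rw [h] at hz
    have hodd : Odd k := by
      by_contra hne
      rw [Nat.not_odd_iff_even] at hne
      have h4 : ((4 : ℤ)) ^ k ≠ 0 := pow_ne_zero _ (by norm_num)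
      rw [neg_pow, hne.neg_one_pow, one_mul] at hz
      refine h4 ?_
      rw [show (4 : ℤ) ^ (2 * k + 1) = 2 ^ (2 * (2 * k) + 2) by rw [show (4 : ℤ) = 2 ^ 2 by norm_num, ← pow_mul]; ring_nf] at hz
      rw [pow_succ _ (2 * k), hp2] at hz
      push_cast at hz
      ring_nf at hz ⊢
      linarith
    refine ⟨fun _ => ?_, fun he => absurd hodd (Nat.not_odd_iff_even.2 he)⟩
    exact perm_embeds hn hn2 (by omega) _ (e.trans (CfsgLib.Classical.plusLin (2 * k + 1) (ZMod 2))) fun v => by
      rw [LinearEquiv.trans_apply, ← CfsgLib.Classical.coe_qPlus, CfsgLib.Classical.qPlus_plusLin, he, hc1 c hc, one_mul]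
  · have hab1 : a = 1 ∧ b = 1 := by
      have h1 := hab 1 1
      have h2 := hab 0 1
      exact (show ∀ x y : ZMod 2, (1 ^ 2 + x * 1 * 1 + y * 1 ^ 2 = 0 → (1 : ZMod 2) = 0 ∧ (1 : ZMod 2) = 0) →
        ((0 : ZMod 2) ^ 2 + x * 0 * 1 + y * 1 ^ 2 = 0 → (0 : ZMod 2) = 0 ∧ (1 : ZMod 2) = 0) → x = 1 ∧ y = 1 by decide) a b h1 h2
    obtain ⟨rfl, rfl⟩ := hab1
    have hzz := CfsgLib.Classical.zeros_congr e (fun v => by rw [he, hc1 c hc, one_mul])
    have h := CfsgLib.Classical.zeros_minus (F := ZMod 2) hab (2 * k)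
    rw [hzz, ZMod.card] at h
    rw [h] at hz
    have hev : Even k := by
      by_contra hne
      rw [Nat.not_even_iff_odd] at hne
      have h4 : ((4 : ℤ)) ^ k ≠ 0 := pow_ne_zero _ (by norm_num)
      rw [neg_pow, hne.neg_one_pow] at hz
      refine h4 ?_
      rw [show (4 : ℤ) ^ (2 * k + 1) = 2 ^ (2 * (2 * k) + 2) by rw [show (4 : ℤ) = 2 ^ 2 by norm_num, ← pow_mul]; ring_nf] at hz
      rw [pow_succ _ (2 * k), hp2] at hz
      push_cast at hz
      ring_nf at hz ⊢
      linarith
    refine ⟨fun ho => absurd hev (Nat.not_even_iff_odd.2 ho), fun _ => ?_⟩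
    exact perm_embeds hn hn2 (by omega) _ e fun v => by
      rw [← CfsgLib.Classical.coe_qExt_qBin, he, hc1 c hc, one_mul]

end Cfsg.Agent.S2563
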