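import Cfsg.Statements.S2564
import Mathlib
import Cfsg.Agent.Lib.Classical.F2Forms
-- import your own Cfsg.Agent.* helpers here

set_option autoImplicit false
open Cfsg

namespace Cfsg.Agent.S2564

/-- On the 2m-dimensional space over the field of two elements (m ≥ 1) let f be the alternating form obtained by polarizing the plus-type form Σ xᵢyᵢ, and let q be any quadratic form polarizing to f. For a vector w, the function q + f(·, w) again polarizes to f, and it is equivalent to q under an invertible linear map (that is, has the same type) if and only if q(w) = 0. -/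
theorem result (m : ℕ) (hm : 1 ≤ m) (q : (Fin m ⊕ Fin m → ZMod 2) → ZMod 2) (hq : (∀ u v : (Fin m ⊕ Fin m → ZMod 2), q (u + v) = q u + q v + (Cfsg.quadFormPlus m (ZMod 2) (u + v) - Cfsg.quadFormPlus m (ZMod 2) u - Cfsg.quadFormPlus m (ZMod 2) v))) (w : (Fin m ⊕ Fin m → ZMod 2)) :
    (∀ u v : (Fin m ⊕ Fin m → ZMod 2), (q (u + v) + (Cfsg.quadFormPlus m (ZMod 2) (u + v + w) - Cfsg.quadFormPlus m (ZMod 2) (u + v) - Cfsg.quadFormPlus m (ZMod 2) w)) =
        (q u + (Cfsg.quadFormPlus m (ZMod 2) (u + w) - Cfsg.quadFormPlus m (ZMod 2) u - Cfsg.quadFormPlus m (ZMod 2) w)) + (q v + (Cfsg.quadFormPlus m (ZMod 2) (v + w) - Cfsg.quadFormPlus m (ZMod 2) v - Cfsg.quadFormPlus m (ZMod 2) w)) +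
        (Cfsg.quadFormPlus m (ZMod 2) (u + v) - Cfsg.quadFormPlus m (ZMod 2) u - Cfsg.quadFormPlus m (ZMod 2) v)) ∧
    ((∃ g : (Fin m ⊕ Fin m → ZMod 2) ≃ₗ[ZMod 2] (Fin m ⊕ Fin m → ZMod 2), ∀ v, q v + (Cfsg.quadFormPlus m (ZMod 2) (v + w) - Cfsg.quadFormPlus m (ZMod 2) v - Cfsg.quadFormPlus m (ZMod 2) w) = q (g v)) ↔ q w = 0) := by
  open CfsgLib.Classical.F2Forms in
  simp only [← CfsgLib.Classical.coe_qPlus] at hq ⊢
  obtain ⟨u, hu⟩ := CfsgLib.Classical.F2Forms.exists_qw q hq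
  have hp : ∀ v, q v + (CfsgLib.Classical.qPlus m (ZMod 2) (v + w) - CfsgLib.Classical.qPlus m (ZMod 2) v -
      CfsgLib.Classical.qPlus m (ZMod 2) w) = CfsgLib.Classical.F2Forms.qw (u + w) v := fun v => by
    rw [hu, ← CfsgLib.Classical.F2Forms.qw_add]
    rfl
  refine ⟨fun a b => ?_, ?_⟩
  · rw [hp, hp, hp, CfsgLib.Classical.F2Forms.qw_polar_rule]
  · simp only [hp]
    rw [hu w]
    simp only [hu]
    rw [CfsgLib.Classical.F2Forms.iso_iff hm, CfsgLib.Classical.F2Forms.qw_apply,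
      QuadraticMap.map_add (CfsgLib.Classical.qPlus m (ZMod 2)) u w, add_assoc, add_eq_left,
      QuadraticMap.polar_comm]

end Cfsg.Agent.S2564
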