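import Cfsg.Statements.S2565
import Mathlib
import Cfsg.Agent.Lib.Classical.SmallIso.PlusSixTwo
import Cfsg.Agent.Lib.Classical.QuadBridge
-- import your own Cfsg.Agent.* helpers here

set_option autoImplicit false
open Cfsg

namespace Cfsg.Agent.S2565

/-- The commutator subgroup of the full orthogonal group of the plus-type form Σ xᵢyᵢ in dimension 6 over the field of two elements (the group Ω⁺₆(2), of index 2) is isomorphic to the alternating group of degree 8. -/
theorem result :
    (Cfsg.Omega (ZMod 2) (Cfsg.quadFormPlus 3 (ZMod 2))).index = 2 ∧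
    Nonempty (↥(Cfsg.Omega (ZMod 2) (Cfsg.quadFormPlus 3 (ZMod 2))) ≃* alternatingGroup (Fin 8)) := by
  classical
  haveI : Fact (Nat.Prime 2) := ⟨Nat.prime_two⟩
  obtain ⟨E⟩ := CfsgLib.Classical.SmallIso.plus_six_two_zmod
  have h8 : (commutator (Equiv.Perm (Fin 8))) = alternatingGroup (Fin 8) := alternatingGroup.commutator_perm_eq (by simp)
  refine ⟨?_, ?_⟩
  · show (commutator _).index = 2
    rw [CfsgLib.Classical.index_commutator_congr E, h8, alternatingGroup.index_eq_two]
  · refine ⟨((commutator ↥(Cfsg.isometryGroup (ZMod 2) (Cfsg.quadFormPlus 3 (ZMod 2)))).equivMapOfInjective E.toMonoidHom E.injective).trans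
      (MulEquiv.subgroupCongr ?_)⟩
    rw [CfsgLib.Classical.map_commutator_equiv E, h8]

end Cfsg.Agent.S2565
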