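import Cfsg.Statements.S2566
import Mathlib
import Cfsg.Agent.Lib.Classical.SmallIso.OmegaFourPlus
import Cfsg.Agent.Lib.Classical.QuadPOmega
-- import your own Cfsg.Agent.* helpers here

set_option autoImplicit false
set_option maxHeartbeats 800000
open Cfsg

namespace Cfsg.Agent.S2566

open Matrix CfsgLib.Classical CfsgLib.Classical.SmallIso
open scoped MatrixGroups

instance factTwoS2566 : Fact (Nat.Prime 2) := ⟨Nat.prime_two⟩

def ptsTwo : Fin 3 → (Fin 2 → ZMod 2) := ![![1, 0], ![0, 1], ![1, 1]]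

def idxTwo (v : Fin 2 → ZMod 2) : Fin 3 := if v = ptsTwo 0 then 0 else if v = ptsTwo 1 then 1 else 2

theorem idx_inv : ∀ (A : SL(2, ZMod 2)) (i : Fin 3), idxTwo (A⁻¹.1 *ᵥ ptsTwo (idxTwo (A.1 *ᵥ ptsTwo i))) = i ∧
    idxTwo (A.1 *ᵥ ptsTwo (idxTwo (A⁻¹.1 *ᵥ ptsTwo i))) = i := by decide +kernel

def permTwo (A : SL(2, ZMod 2)) : Equiv.Perm (Fin 3) where
  toFun i := idxTwo (A.1 *ᵥ ptsTwo i)
  invFun i := idxTwo (A⁻¹.1 *ᵥ ptsTwo i)
  left_inv i := (idx_inv A i).1
  right_inv i := (idx_inv A i).2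

theorem permTwo_mul : ∀ (A B : SL(2, ZMod 2)) (i : Fin 3), idxTwo ((A * B).1 *ᵥ ptsTwo i) = idxTwo (A.1 *ᵥ ptsTwo (idxTwo (B.1 *ᵥ ptsTwo i))) := by
  decide +kernel

theorem permTwo_inj : ∀ A B : SL(2, ZMod 2), (∀ i, idxTwo (A.1 *ᵥ ptsTwo i) = idxTwo (B.1 *ᵥ ptsTwo i)) → A = B := by decide +kernel

theorem card_sl22 : Fintype.card SL(2, ZMod 2) = 6 := by decide +kernel

noncomputable def slPerm : SL(2, ZMod 2) ≃* Equiv.Perm (Fin 3) :=
  MulEquiv.ofBijective (MonoidHom.mk' permTwo fun A B => Equiv.ext fun i => permTwo_mul A B i)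
    ((Fintype.bijective_iff_injective_and_card _).2 ⟨fun A B h => permTwo_inj A B fun i => Equiv.congr_fun h i, by
      rw [card_sl22, Fintype.card_perm, Fintype.card_fin]; rfl⟩)

theorem two_sided_trivial : ∀ a b : SL(2, ZMod 2), (∀ X : Matrix (Fin 2) (Fin 2) (ZMod 2), a.1 * X = X * b.1) → a = 1 ∧ b = 1 := by
  decide +kernel

def trMap : (Fin 2 ⊕ Fin 2 → ZMod 2) →ₗ[ZMod 2] (Fin 2 ⊕ Fin 2 → ZMod 2) :=
  LinearMap.funLeft (ZMod 2) (ZMod 2) (Equiv.swap (Sum.inl 1) (Sum.inr 1))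

theorem trMap_facts : ∀ v : Fin 2 ⊕ Fin 2 → ZMod 2,
    quadFormPlus 2 (ZMod 2) (trMap v) = quadFormPlus 2 (ZMod 2) v ∧
      bothCoord (ZMod 2) (trMap v) = (bothCoord (ZMod 2) v)ᵀ ∧ trMap (trMap v) = v := by decide +kernel

/-- The full orthogonal group of the plus-type form x₁y₁ + x₂y₂ in dimension 4 over the field of two elements has order 72 and is isomorphic to the wreath product of the symmetric group of degree 3 by a group of order 2: it has a normal subgroup isomorphic to the direct product of two symmetric groups of degree 3, of index 2, whose two direct factors are interchanged by conjugation by some element. -/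
theorem result :
    Nat.card ↥(Cfsg.isometryGroup (ZMod 2) (Cfsg.quadFormPlus 2 (ZMod 2))) = 72 ∧
    ∃ (A B : Subgroup ↥(Cfsg.isometryGroup (ZMod 2) (Cfsg.quadFormPlus 2 (ZMod 2)))),
      Nonempty (↥A ≃* Equiv.Perm (Fin 3)) ∧ Nonempty (↥B ≃* Equiv.Perm (Fin 3)) ∧ A ⊓ B = ⊥ ∧ (∀ a ∈ A, ∀ b ∈ B, a * b = b * a) ∧
      (A ⊔ B).index = 2 ∧ ∃ g : ↥(Cfsg.isometryGroup (ZMod 2) (Cfsg.quadFormPlus 2 (ZMod 2))), A.map (MulAut.conj g).toMonoidHom = B := by
  classical
  haveI : Fact (Nat.Prime 2) := ⟨Nat.prime_two⟩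
  rw [← CfsgLib.Classical.coe_qPlus]
  obtain ⟨φ, hφ⟩ := exists_iso_hom (qPlus 2 (ZMod 2)) (bothCoord (ZMod 2)) bothCoord_injective (bothRep (ZMod 2)) Matrix.det
    (fun v => by simp [coe_qPlus, Cfsg.quadFormPlus, bothCoord, Matrix.det_fin_two, Fin.sum_univ_two, CharTwo.sub_eq_add])
    (fun g X => by rw [bothRep_apply, Matrix.det_mul, Matrix.det_mul, (g.2⁻¹).2, g.1.2, one_mul, mul_one])
    (fun g v => bothCoord_surjective _)
  have hinj : Function.Injective φ := (injective_iff_map_eq_one φ).2 fun g hg => by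
    have key : ∀ X, g.1.1 * X = X * g.2.1 := fun X => by
      obtain ⟨v, rfl⟩ := bothCoord_surjective X
      have h := hφ g v
      rw [hg, isoApply_one, bothRep_apply] at h
      conv_rhs => rw [h]
      rw [mul_assoc, mul_assoc, ← Matrix.SpecialLinearGroup.coe_mul g.2⁻¹ g.2, inv_mul_cancel,
        Matrix.SpecialLinearGroup.coe_one, mul_one]
    obtain ⟨h1, h2⟩ := two_sided_trivial g.1 g.2 key
    exact Prod.ext h1 h2
  have hcard : Nat.card (Cfsg.isometryGroup (ZMod 2) ⇑(qPlus 2 (ZMod 2))) = 72 := by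
    rw [Nat.card_congr (isoEquiv _).toEquiv, card_qAut_qPlus, card_qAut_plus, ZMod.card]
    decide
  have hA : Function.Injective (φ.comp (MonoidHom.inl SL(2, ZMod 2) SL(2, ZMod 2))) :=
    fun a b h => congrArg Prod.fst (hinj h)
  have hB : Function.Injective (φ.comp (MonoidHom.inr SL(2, ZMod 2) SL(2, ZMod 2))) :=
    fun a b h => congrArg Prod.snd (hinj h)
  refine ⟨hcard, (φ.comp (MonoidHom.inl _ _)).range, (φ.comp (MonoidHom.inr _ _)).range, ?_, ?_, ?_, ?_, ?_, ?_⟩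
  · exact ⟨(MonoidHom.ofInjective hA).symm.trans slPerm⟩
  · exact ⟨(MonoidHom.ofInjective hB).symm.trans slPerm⟩
  · rw [Subgroup.eq_bot_iff_forall]
    rintro _ ⟨⟨a, rfl⟩, ⟨b, hb⟩⟩
    have := hinj hb
    rw [show a = 1 from (congrArg Prod.fst this).symm, map_one]
  · rintro _ ⟨a, rfl⟩ _ ⟨b, rfl⟩
    simp only [MonoidHom.comp_apply, ← map_mul]
    congr 1
    simp
  · have hsup : (φ.comp (MonoidHom.inl _ _)).range ⊔ (φ.comp (MonoidHom.inr _ _)).range = φ.range := by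
      refine le_antisymm (sup_le ?_ ?_) ?_
      · rintro _ ⟨a, rfl⟩; exact ⟨_, rfl⟩
      · rintro _ ⟨a, rfl⟩; exact ⟨_, rfl⟩
      · rintro _ ⟨⟨a, b⟩, rfl⟩
        rw [show ((a, b) : SL(2, ZMod 2) × SL(2, ZMod 2)) = (a, 1) * (1, b) by simp, map_mul]
        exact Subgroup.mul_mem_sup ⟨a, rfl⟩ ⟨b, rfl⟩
    rw [hsup]
    have h36 : Nat.card φ.range = 36 := by
      rw [← Nat.card_congr (MonoidHom.ofInjective hinj).toEquiv, Nat.card_prod, Nat.card_eq_fintype_card, card_sl22]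
    have := Subgroup.card_mul_index φ.range
    rw [h36, hcard] at this
    omega
  · have hq : ∀ v, qPlus 2 (ZMod 2) (trMap v) = qPlus 2 (ZMod 2) v := fun v => by
      rw [coe_qPlus]; exact (trMap_facts v).1
    have hti : Function.Injective trMap := fun u v h => by
      rw [← (trMap_facts u).2.2, h, (trMap_facts v).2.2]
    let t := isoMk (Q := ⇑(qPlus 2 (ZMod 2))) trMap hti hq
    have htt : t⁻¹ = t := inv_eq_of_mul_eq_one_right (iso_ext fun v => by
      rw [isoApply_mul, isoMk_apply, isoMk_apply, isoApply_one, (trMap_facts v).2.2])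
    refine ⟨t, Subgroup.eq_of_le_of_card_ge ?_ ?_⟩
    · rintro _ ⟨_, ⟨a, rfl⟩, rfl⟩
      refine ⟨(Matrix.SpecialLinearGroup.transpose a)⁻¹, iso_ext fun v => bothCoord_injective ?_⟩
      show bothCoord (ZMod 2) (isoApply (φ (1, (Matrix.SpecialLinearGroup.transpose a)⁻¹)) v) =
        bothCoord (ZMod 2) (isoApply (t * φ (a, 1) * t⁻¹) v)
      rw [htt, hφ, isoApply_mul, isoApply_mul, isoMk_apply, isoMk_apply, (trMap_facts _).2.1, hφ,
        (trMap_facts _).2.1, bothRep_apply, bothRep_apply]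
      simp [Matrix.transpose_mul]
    · refine le_of_eq ?_
      have cA := Nat.card_congr (MonoidHom.ofInjective hA).toEquiv
      have cB := Nat.card_congr (MonoidHom.ofInjective hB).toEquiv
      have hci : Function.Injective ⇑((MulAut.conj t).toMonoidHom) := fun a b h =>
        mul_left_cancel (mul_right_cancel (h : t * a * t⁻¹ = t * b * t⁻¹))
      have cM := Nat.card_congr (Subgroup.equivMapOfInjective (φ.comp (MonoidHom.inl SL(2, ZMod 2) SL(2, ZMod 2))).range
        (MulAut.conj t).toMonoidHom hci).toEquiv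
      omega

end Cfsg.Agent.S2566
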