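import Cfsg.Statements.S2567

set_option autoImplicit false
open Cfsg

namespace Cfsg.Agent.S2567

/-- Lifting elements of prime order from PGL to GL: let F be a finite field with q elements, r a prime not dividing q − 1, and x an element of order r in GL_n(F) modulo its centre (the scalar matrices). Then x has exactly one preimage in GL_n(F) of order r. -/
theorem result {F : Type*} [Field F] [Fintype F] {q n r : ℕ} (hF : Fintype.card F = q) (hr : r.Prime) (hdiv : ¬ r ∣ q - 1) (x : GL (Fin n) F ⧸ Subgroup.center (GL (Fin n) F)) (hx : orderOf x = r) : ∃! g : GL (Fin n) F, (QuotientGroup.mk g : GL (Fin n) F ⧸ Subgroup.center (GL (Fin n) F)) = x ∧ orderOf g = r := by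
  classical
  subst hF
  haveI : Fact r.Prime := ⟨hr⟩
  have hcop : (Nat.card Fˣ).Coprime r := by
    rw [Nat.card_units, Nat.card_eq_fintype_card]
    exact ((hr.coprime_iff_not_dvd).2 hdiv).symm
  rcases Nat.eq_zero_or_pos n with rfl | hn
  · exfalso
    haveI : Subsingleton (GL (Fin 0) F) := ⟨fun a b => Units.ext (Subsingleton.elim _ _)⟩
    obtain ⟨g, rfl⟩ := QuotientGroup.mk_surjective x
    rw [Subsingleton.elim g 1, QuotientGroup.mk_one, orderOf_one] at hx
    exact hr.one_lt.ne hx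
  haveI : Nonempty (Fin n) := ⟨⟨0, hn⟩⟩
  let ι : Fˣ →* GL (Fin n) F := Units.map (Matrix.scalar (Fin n) : F →+* Matrix (Fin n) (Fin n) F).toMonoidHom
  have hιinj : Function.Injective ι := by
    intro a b hab
    exact Units.ext (Matrix.scalar_inj.1 (congrArg Units.val hab))
  have hcen : ∀ g : GL (Fin n) F, g ∈ Subgroup.center (GL (Fin n) F) → ∃ c : Fˣ, ι c = g := by
    intro g hg
    obtain ⟨c, hc⟩ := Matrix.GeneralLinearGroup.mem_center_iff_val_mem_range_scalar.1 hg
    have hc0 : c ≠ 0 := by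
      rintro rfl
      have := g.isUnit
      rw [← hc, map_zero] at this
      exact not_isUnit_zero this
    exact ⟨Units.mk0 c hc0, Units.ext hc⟩
  have hιc : ∀ c : Fˣ, ι c ∈ Subgroup.center (GL (Fin n) F) := fun c =>
    Matrix.GeneralLinearGroup.mem_center_iff_val_mem_range_scalar.2 ⟨c, rfl⟩
  obtain ⟨g, rfl⟩ := QuotientGroup.mk_surjective x
  obtain ⟨c, hc⟩ := hcen (g ^ r) ((QuotientGroup.eq_one_iff _).1 (by
    rw [QuotientGroup.mk_pow, ← hx, pow_orderOf_eq_one]))
  obtain ⟨d, hd⟩ := (powCoprime hcop).surjective c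
  replace hd : d ^ r = c := hd
  have hx1 : ∀ h : GL (Fin n) F, (QuotientGroup.mk h : GL (Fin n) F ⧸ Subgroup.center (GL (Fin n) F)) =
      QuotientGroup.mk g → h ^ r = 1 → orderOf h = r := by
    intro h hh hr'
    refine orderOf_eq_prime hr' ?_
    rintro rfl
    rw [← hh, QuotientGroup.mk_one, orderOf_one] at hx
    exact hr.one_lt.ne hx
  have hmk : (QuotientGroup.mk (g * (ι d)⁻¹) : GL (Fin n) F ⧸ Subgroup.center (GL (Fin n) F)) =
      QuotientGroup.mk g := by
    rw [QuotientGroup.mk_mul, (QuotientGroup.eq_one_iff _).2 (inv_mem (hιc d)), mul_one]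
  refine ⟨g * (ι d)⁻¹, ⟨hmk, hx1 _ hmk ?_⟩, ?_⟩
  · have hcm : Commute g (ι d)⁻¹ := Subgroup.mem_center_iff.1 (inv_mem (hιc d)) g
    rw [hcm.mul_pow, inv_pow, ← map_pow, hd, hc, mul_inv_cancel]
  · rintro h ⟨hh, hho⟩
    have h1 : (g * (ι d)⁻¹)⁻¹ * h ∈ Subgroup.center (GL (Fin n) F) := QuotientGroup.eq.1 (hmk.trans hh.symm)
    obtain ⟨z, hz⟩ := hcen _ h1
    have hz' : h = g * (ι d)⁻¹ * ι z := by rw [hz]; group
    have h2 : ι z ^ r = 1 := by
      have hcm : Commute (g * (ι d)⁻¹) (ι z) := Subgroup.mem_center_iff.1 (hιc z) _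
      have h3 : h ^ r = 1 := by rw [← hho]; exact pow_orderOf_eq_one h
      have hcm' : Commute g (ι d)⁻¹ := Subgroup.mem_center_iff.1 (inv_mem (hιc d)) g
      rwa [hz', hcm.mul_pow, hcm'.mul_pow, inv_pow, ← map_pow ι d r, hd, hc, mul_inv_cancel, one_mul] at h3
    rw [← map_pow] at h2
    have h4 : z = 1 := (powCoprime hcop).injective (by
      show z ^ r = 1 ^ r
      rw [one_pow]; exact hιinj (h2.trans (map_one ι).symm))
    rw [hz', h4, map_one, mul_one]

end Cfsg.Agent.S2567
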