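import Cfsg.Statements.S2568
import Mathlib
import Cfsg.Agent.Lib.Classical.PrimaryDecomp
-- import your own Cfsg.Agent.* helpers here

set_option autoImplicit false
open Cfsg

namespace Cfsg.Agent.S2568

open Polynomial CfsgLib.Classical.Primary

theorem exists_factors {F : Type*} [Field F] [Fintype F] {p q : ℕ} [Fact p.Prime] [CharP F p] (hF : Fintype.card F = q)
    (r i t : ℕ) (hr : r.Prime) (hrp : r ≠ p) (hi : i = orderOf (q : ZMod r)) (ht : t * i = r - 1) :
    0 < i ∧ ∃ P : Option (Fin t) → F[X], P none = X - C 1 ∧ (∀ j, Irreducible (P j)) ∧ (∀ j, (P (some j)).natDegree = i) ∧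
      Pairwise (Function.onFun IsCoprime P) ∧ ∏ j, P j = X ^ r - 1 := by
  classical
  haveI := Fact.mk hr
  obtain ⟨f, hp, hf⟩ := FiniteField.card F p
  have hn : p.Coprime r := (Nat.coprime_primes Fact.out hr).2 hrp.symm
  have hrF : (r : F) ≠ 0 := fun h =>
    hrp ((Nat.prime_dvd_prime_iff_eq hp hr).1 ((CharP.cast_eq_zero_iff F p r).1 h)).symm
  haveI : NeZero (r : F) := ⟨hrF⟩
  have hord : orderOf (ZMod.unitOfCoprime _ (hn.pow_left (f : ℕ))) = i := by
    rw [hi, ← orderOf_units, ZMod.coe_unitOfCoprime, ← hf, hF]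
  have hi0 : 0 < i := hord ▸ orderOf_pos _
  let S := (UniqueFactorizationMonoid.normalizedFactors (cyclotomic r F)).toFinset
  have hS : S.card = t := by
    rw [show S.card = _ from normalizedFactors_cyclotomic_card hf hn, hord, Nat.totient_prime hr, ← ht,
      Nat.mul_div_cancel _ hi0]
  have hnodup : (UniqueFactorizationMonoid.normalizedFactors (cyclotomic r F)).Nodup :=
    (UniqueFactorizationMonoid.squarefree_iff_nodup_normalizedFactors (cyclotomic_ne_zero r F)).1
      (separable_cyclotomic r F).squarefree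
  have hmon : ∀ x ∈ S, x.Monic := fun x hx => by
    have hx' := Multiset.mem_toFinset.1 hx
    rw [← UniqueFactorizationMonoid.normalize_normalized_factor x hx']
    exact Polynomial.monic_normalize (UniqueFactorizationMonoid.irreducible_of_normalized_factor x hx').ne_zero
  have hprod : ∏ x ∈ S, x = cyclotomic r F := by
    rw [Finset.prod_eq_multiset_prod, Multiset.toFinset_val, hnodup.dedup, Multiset.map_id',
      UniqueFactorizationMonoid.prod_normalizedFactors_eq (cyclotomic_ne_zero r F)]
    exact (cyclotomic.monic r F).normalize_eq_self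
  let e : Fin t ≃ S := (S.equivFinOfCardEq hS).symm
  let P : Option (Fin t) → F[X] := fun o => Option.elim o (X - C 1) fun j => (e j).1
  have hirr : ∀ j, Irreducible (P j) := by
    rintro (_ | j)
    · exact irreducible_X_sub_C 1
    · exact UniqueFactorizationMonoid.irreducible_of_normalized_factor _ (Multiset.mem_toFinset.1 (e j).2)
  have hne : ∀ j, (P (some j)) ≠ X - C 1 := fun j h => by
    have h1 : X - C 1 ∣ cyclotomic r F := h ▸ UniqueFactorizationMonoid.dvd_of_mem_normalizedFactors (Multiset.mem_toFinset.1 (e j).2)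
    rw [dvd_iff_isRoot, IsRoot, eval_one_cyclotomic_prime] at h1
    exact hrF h1
  refine ⟨hi0, P, rfl, hirr, fun j => ?_, fun j l hjl => ?_, ?_⟩
  · rw [← hord]
    exact natDegree_of_mem_normalizedFactors_cyclotomic hf hn (Multiset.mem_toFinset.1 (e j).2)
  · have hm : ∀ j, (P j).Monic := by
      rintro (_ | j)
      · exact monic_X_sub_C 1
      · exact hmon _ (e j).2
    refine (hirr j).coprime_iff_not_dvd.2 fun h => hjl ?_
    have heq : P j = P l := eq_of_monic_of_associated (hm j) (hm l) ((hirr j).associated_of_dvd (hirr l) h)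
    rcases j with _ | j <;> rcases l with _ | l
    · rfl
    · exact absurd heq.symm (hne l)
    · exact absurd heq (hne j)
    · exact congrArg some (e.injective (Subtype.ext heq))
  · rw [Fintype.prod_option]
    show (X - C 1) * ∏ j, (e j).1 = _
    rw [e.prod_comp (fun x : S => x.1), Finset.prod_coe_sort S (fun x => x), hprod, mul_comm, map_one, cyclotomic_prime_mul_X_sub_one]

theorem card_tuples (t N : ℕ) : Nat.card {b : Fin t → ℕ // ∑ j, b j ≤ N} = (N + t).choose t := by
  have e : {b : Fin t → ℕ // ∑ j, b j ≤ N} ≃ {b : Option (Fin t) → ℕ // ∑ j, b j = N} :=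
    { toFun := fun b => ⟨fun o => Option.elim o (N - ∑ j, b.1 j) b.1, by
        have := b.2
        rw [Fintype.sum_option]; simp only [Option.elim]; omega⟩
      invFun := fun b => ⟨fun j => b.1 (some j), by
        have := b.2
        rw [Fintype.sum_option] at this
        show ∑ j, b.1 (some j) ≤ N
        omega⟩
      left_inv := fun b => rfl
      right_inv := fun b => Subtype.ext (funext fun o => by
        have := b.2
        rw [Fintype.sum_option] at this
        rcases o with _ | j
        · show N - ∑ j, b.1 (some j) = b.1 none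
          omega
        · rfl) }
  classical
  rw [Nat.card_congr (e.trans (Sym.equivNatSumOfFintype (Option (Fin t)) N).symm), Nat.card_eq_fintype_card,
    Sym.card_sym_eq_choose, Fintype.card_option, Fintype.card_fin]
  rw [show t + 1 + N - 1 = N + t by omega, Nat.choose_symm_add]

theorem card_classes_order_r {F : Type*} [Field F] [Fintype F] {p q : ℕ} [Fact p.Prime] [CharP F p] (hF : Fintype.card F = q)
    (n r i t : ℕ) (hr : r.Prime) (hrp : r ≠ p) (hi : i = orderOf (q : ZMod r)) (ht : t * i = r - 1) :
    Nat.card {C : ConjClasses (GL (Fin n) F) // ∃ g : GL (Fin n) F, ConjClasses.mk g = C ∧ orderOf g = r} =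
      Nat.choose (n / i + t) t - 1 := by
  classical
  obtain ⟨hi0, P, hP0, hirr, hdeg, hco, hprod⟩ := exists_factors (F := F) hF r i t hr hrp hi ht
  haveI : ∀ j, Fact (Irreducible (P j)) := fun j => ⟨hirr j⟩
  haveI := Fact.mk hr
  have hn : Module.finrank F (Fin n → F) = n := Module.finrank_fin_fun F
  let en : Matrix (Fin n) (Fin n) F ≃ₐ[F] Module.End F (Fin n → F) := Matrix.toLinAlgEquiv'
  let toE : GL (Fin n) F → Module.End F (Fin n → F) := fun g => en (g : Matrix (Fin n) (Fin n) F)
  have hpow : ∀ g, aeval (toE g) (∏ j, P j) = 0 ↔ g ^ r = 1 := fun g => by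
    rw [hprod, map_sub, map_pow, aeval_X, map_one, sub_eq_zero, ← map_pow, ← map_one en, en.injective.eq_iff,
      ← Units.val_pow_eq_pow_val, Units.val_eq_one]
  have hconj : ∀ g h, (∃ e : (Fin n → F) ≃ₗ[F] (Fin n → F), ∀ v, e (toE g v) = toE h (e v)) → IsConj g h := by
    rintro g h ⟨e, he⟩
    obtain ⟨E, hE⟩ := (en : Matrix (Fin n) (Fin n) F ≃ₐ[F] _).surjective e.toLinearMap
    obtain ⟨E', hE'⟩ := (en : Matrix (Fin n) (Fin n) F ≃ₐ[F] _).surjective e.symm.toLinearMap
    have h1 : E * E' = 1 := en.injective (by rw [map_mul, hE, hE', map_one]; exact LinearMap.ext fun v => e.apply_symm_apply v)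
    refine isConj_iff.2 ⟨⟨E, E', h1, mul_eq_one_comm.1 h1⟩, mul_inv_eq_iff_eq_mul.2 (Units.ext (en.injective ?_))⟩
    rw [Units.val_mul, Units.val_mul, map_mul, map_mul]
    show en E * _ = _ * en E
    rw [hE]
    exact LinearMap.ext he
  let D : GL (Fin n) F → Option (Fin t) → ℕ := fun g j => Module.finrank F (LinearMap.ker (aeval (toE g) (P j)))
  have hDinv : ∀ g h, IsConj g h → D g = D h := by
    intro g h hc
    obtain ⟨c, rfl⟩ := isConj_iff.1 hc
    funext j
    let cL : (Fin n → F) ≃ₗ[F] (Fin n → F) := LinearEquiv.ofLinear (toE c) (toE c⁻¹)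
      (by rw [← Module.End.mul_eq_comp, ← map_mul, Units.mul_inv, map_one]; rfl)
      (by rw [← Module.End.mul_eq_comp, ← map_mul, Units.inv_mul, map_one]; rfl)
    have h0 : ∀ x, cL (toE g x) = toE (c * g * c⁻¹) (cL x) := fun x => by
      show (toE c * toE g) x = (toE (c * g * c⁻¹) * toE c) x
      congr 1
      simp only [toE, ← map_mul, ← Units.val_mul, inv_mul_cancel_right]
    have hq : ∀ (Q : F[X]) x, cL (aeval (toE g) Q x) = aeval (toE (c * g * c⁻¹)) Q (cL x) := by
      intro Q
      induction Q using Polynomial.induction_on with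
      | C a => intro x; simp [Module.algebraMap_end_apply]
      | add a b ha hb => intro x; simp [ha, hb]
      | monomial k a ih =>
        intro x
        rw [show C a * X ^ (k + 1) = C a * X ^ k * X by ring, map_mul (aeval (toE g)) _ X, map_mul (aeval (toE (c * g * c⁻¹))) _ X,
          aeval_X, aeval_X, Module.End.mul_apply, Module.End.mul_apply, ih, h0]
    have hk : (LinearMap.ker (aeval (toE g) (P j))).map cL.toLinearMap = LinearMap.ker (aeval (toE (c * g * c⁻¹)) (P j)) := by
      ext y
      constructor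
      · rintro ⟨x, hx, rfl⟩
        show aeval (toE (c * g * c⁻¹)) (P j) (cL x) = 0
        rw [← hq, show aeval (toE g) (P j) x = 0 from hx, map_zero]
      · intro hy
        refine ⟨cL.symm y, cL.injective ?_, cL.apply_symm_apply y⟩
        rw [hq, cL.apply_symm_apply, map_zero]
        exact hy
    show Module.finrank F (LinearMap.ker (aeval (toE g) (P j))) = Module.finrank F (LinearMap.ker (aeval (toE (c * g * c⁻¹)) (P j)))
    rw [← hk, LinearEquiv.finrank_map_eq]
  -- tuples
  let T := {b : Fin t → ℕ // ∑ j, b j ≤ n / i ∧ b ≠ 0}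
  have hT : Nat.card T = Nat.choose (n / i + t) t - 1 := by
    rw [← card_tuples t (n / i)]
    let z : {b : Fin t → ℕ // ∑ j, b j ≤ n / i} := ⟨0, by simp⟩
    let e : T ≃ ↥(({z} : Set {b : Fin t → ℕ // ∑ j, b j ≤ n / i})ᶜ) :=
      { toFun := fun b => ⟨⟨b.1, b.2.1⟩, fun h => b.2.2 (congrArg Subtype.val h)⟩
        invFun := fun b => ⟨b.1.1, b.1.2, fun h => b.2 (Subtype.ext h)⟩
        left_inv := fun b => rfl
        right_inv := fun b => rfl }
    haveI : Finite {b : Fin t → ℕ // ∑ j, b j ≤ n / i} :=
      Nat.finite_of_card_ne_zero (by rw [card_tuples]; exact (Nat.choose_pos (by omega)).ne')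
    rw [Nat.card_congr e, Nat.card_coe_set_eq, Set.ncard_compl, Set.ncard_singleton]
  let a : T → Option (Fin t) → ℕ := fun b o => Option.elim o (n - i * ∑ j, b.1 j) b.1
  have hdeg0 : (P none).natDegree = 1 := by rw [hP0, natDegree_X_sub_C]
  have ha : ∀ b : T, ∑ o, a b o * (P o).natDegree = Module.finrank F (Fin n → F) := fun b => by
    rw [Fintype.sum_option, hdeg0, mul_one, hn, Finset.sum_congr rfl (fun j _ => by rw [hdeg j])]
    show n - i * ∑ j, b.1 j + ∑ j, b.1 j * i = n
    rw [← Finset.sum_mul, mul_comm]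
    have := Nat.le_div_iff_mul_le hi0 |>.1 b.2.1
    omega
  choose G0 hG0 hG0' using fun b => exists_of_mult P hco (a b) (ha b)
  have hGL : ∀ b, ∃ g : GL (Fin n) F, toE g = G0 b := by
    intro b
    obtain ⟨M, hM⟩ := (en : Matrix (Fin n) (Fin n) F ≃ₐ[F] _).surjective (G0 b)
    have h1 : M ^ r = 1 := en.injective (by
      rw [map_pow, map_one, hM]
      have h := hG0 b
      rwa [hprod, map_sub, map_pow, aeval_X, map_one, sub_eq_zero] at h)
    obtain ⟨g, hg⟩ : IsUnit M := IsUnit.of_mul_eq_one (M ^ (r - 1)) (by rw [← pow_succ', Nat.sub_add_cancel hr.one_le, h1])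
    exact ⟨g, by rw [← hM, ← hg]⟩
  choose G hG using hGL
  have hGD : ∀ b o, D (G b) o = a b o * (P o).natDegree := fun b o => by
    show Module.finrank F (LinearMap.ker (aeval (toE (G b)) (P o))) = _
    rw [hG]; exact hG0' b o
  have hord : ∀ b, orderOf (G b) = r := fun b => by
    refine orderOf_eq_prime ((hpow _).1 (by rw [hG]; exact hG0 b)) fun h1 => ?_
    apply b.2.2
    funext j
    have h2 := hGD b none
    have h3 : D (G b) none = n := by
      show Module.finrank F (LinearMap.ker (aeval (toE (G b)) (P none))) = n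
      rw [h1, hP0, show toE 1 = 1 from map_one en, map_sub, aeval_X, map_one, map_one, sub_self, LinearMap.ker_zero, finrank_top, hn]
    rw [h3, hdeg0, mul_one] at h2
    have h4 : n = n - i * ∑ j, b.1 j := h2
    have h5 := Nat.le_div_iff_mul_le hi0 |>.1 b.2.1
    rw [mul_comm] at h5
    have h6 : i * ∑ j, b.1 j = 0 := by omega
    have h7 := (mul_eq_zero.1 h6).resolve_left hi0.ne'
    exact Finset.sum_eq_zero_iff.1 h7 j (Finset.mem_univ j)
  rw [← hT]
  symm
  refine Nat.card_congr (Equiv.ofBijective (fun b => (⟨ConjClasses.mk (G b), G b, rfl, hord b⟩ :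
    {C : ConjClasses (GL (Fin n) F) // ∃ g : GL (Fin n) F, ConjClasses.mk g = C ∧ orderOf g = r})) ⟨?_, ?_⟩)
  · intro b b' h
    have h1 := hDinv _ _ (ConjClasses.mk_eq_mk_iff_isConj.1 (congrArg Subtype.val h))
    refine Subtype.ext (funext fun j => ?_)
    have h2 := congrFun h1 (some j)
    rw [hGD, hGD, hdeg] at h2
    exact Nat.eq_of_mul_eq_mul_right hi0 h2
  · rintro ⟨C0, g, rfl, hg⟩
    have hg1 : g ^ r = 1 := hg ▸ pow_orderOf_eq_one g
    have hann := (hpow g).2 hg1
    have hdvd : ∀ j, i ∣ D g (some j) := fun j => by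
      have h := natDegree_dvd_finrank (P (some j)) ((toE g).restrict (ker_invariant (toE g) (P (some j)))) (aeval_restrict_ker _ _)
      rwa [hdeg] at h
    choose b hb using hdvd
    have hsum : D g none + ∑ j, i * b j = n := by
      rw [← Finset.sum_congr rfl (fun j _ => hb j)]
      rw [← Fintype.sum_option (D g), ← hn]
      exact finrank_sum P hco _ hann
    have hb1 : ∑ j, b j ≤ n / i := by
      rw [Nat.le_div_iff_mul_le hi0, Finset.sum_mul]
      calc ∑ j, b j * i = ∑ j, i * b j := Finset.sum_congr rfl fun j _ => mul_comm _ _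
        _ ≤ n := by omega
    have hb0 : b ≠ 0 := fun h => by
      have hfull : LinearMap.ker (aeval (toE g) (P none)) = ⊤ := Submodule.eq_top_of_finrank_eq (by
        show D g none = _
        rw [hn]
        simp [h] at hsum
        exact hsum)
      have h1 : toE g = 1 := by
        have := LinearMap.ker_eq_top.1 hfull
        rwa [hP0, map_sub, aeval_X, map_one, map_one, sub_eq_zero] at this
      have : g = 1 := Units.ext (en.injective (h1.trans (map_one en).symm))
      rw [this, orderOf_one] at hg
      exact hr.ne_one hg.symm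
    refine ⟨⟨b, hb1, hb0⟩, Subtype.ext (ConjClasses.mk_eq_mk_iff_isConj.2 (hconj _ _ ?_))⟩
    refine similar_of_finrank P hco _ _ (by rw [hG]; exact hG0 _) hann fun o => ?_
    show D (G _) o = D g o
    rw [hGD]
    rcases o with _ | j
    · rw [hdeg0, mul_one]
      show n - i * ∑ j, b j = _
      rw [Finset.mul_sum]
      omega
    · rw [hdeg, hb]
      exact mul_comm _ _

/-- Number of conjugacy classes of elements of a given prime order r, coprime to the characteristic, in GL_n(q): if i is the multiplicative order of q modulo r and t = (r − 1)/i, the classes correspond to the non-zero t-tuples of natural numbers (a_1, …, a_t) with i(a_1 + ⋯ + a_t) ≤ n (a_j is the multiplicity of the j-th Frobenius orbit of nontrivial r-th roots of unity among the eigenvalues), so there are exactly C(⌊n/i⌋ + t, t) − 1 of them. -/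
theorem result {F : Type*} [Field F] [Fintype F] {p q : ℕ} [Fact p.Prime] [CharP F p] (hF : Fintype.card F = q) (n r i t : ℕ) (hr : r.Prime) (hrp : r ≠ p) (hi : i = orderOf (q : ZMod r)) (ht : t * i = r - 1) : Nat.card {C : ConjClasses (GL (Fin n) F) // ∃ g : GL (Fin n) F, ConjClasses.mk g = C ∧ orderOf g = r} = Nat.choose (n / i + t) t - 1 := by
  exact card_classes_order_r hF n r i t hr hrp hi ht

end Cfsg.Agent.S2568
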