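import Cfsg.Statements.S2569
import Mathlib
import Cfsg.Agent.Lib.Classical.IrreducibleEnd
-- import your own Cfsg.Agent.* helpers here

set_option autoImplicit false
open Cfsg

namespace Cfsg.Agent.S2569

open CfsgLib.Classical
theorem exists_det_comm {F : Type*} [Field F] [Fintype F] {n : ℕ} (hn : n ≠ 0) {r : ℕ} (hr : (r : F) ≠ 0) {f : Module.End F (Fin n → F)}
    (hf : f ^ r = 1) {d : F} (hd : d ≠ 0) :
    ∃ z : Module.End F (Fin n → F), f * z = z * f ∧ LinearMap.det z = d := by
  haveI : NeZero n := ⟨hn⟩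
  let S : Set (Submodule F (Fin n → F)) := {W | W ≠ ⊥ ∧ ∀ w ∈ W, f w ∈ W}
  obtain ⟨W, ⟨hW0, hW⟩, hmin⟩ := wellFounded_lt.has_min S ⟨⊤, top_ne_bot, fun w _ => trivial⟩
  obtain ⟨W', hW', hc⟩ := IrrEnd.exists_invariant_compl hr hf W hW
  haveI : Nontrivial W := Submodule.nontrivial_iff_ne_bot.2 hW0
  have hirr : IrrEnd.Irr (f.restrict hW) := fun U hU => by
    by_contra h
    push Not at h
    have hle : U.map W.subtype ≤ W := Submodule.map_subtype_le W U
    refine hmin (U.map W.subtype) ⟨?_, ?_⟩ (lt_of_le_of_ne hle ?_)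
    · exact fun h0 => h.1 (Submodule.map_injective_of_injective W.injective_subtype (h0.trans (Submodule.map_bot _).symm))
    · rintro w ⟨u, hu, rfl⟩
      exact ⟨_, hU u hu, rfl⟩
    · exact fun h0 => h.2 (Submodule.map_injective_of_injective W.injective_subtype
        (h0.trans W.map_subtype_top.symm))
  obtain ⟨z, hz, hdet⟩ := IrrEnd.exists_det_eq hirr hd
  let e := Submodule.prodEquivOfIsCompl W W' hc
  let Z : Module.End F (Fin n → F) := e.toLinearMap ∘ₗ ((z : W →ₗ[F] W).prodMap LinearMap.id) ∘ₗ e.symm.toLinearMap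
  refine ⟨Z, LinearMap.ext fun v => ?_, ?_⟩
  · obtain ⟨⟨a, b⟩, rfl⟩ := e.surjective v
    have h1 : f (e (a, b)) = e (f.restrict hW a, f.restrict hW' b) := by simp [e, LinearMap.restrict_apply]
    show f (Z (e (a, b))) = Z (f (e (a, b)))
    rw [h1]
    simp only [Z, LinearMap.comp_apply, LinearEquiv.coe_coe, LinearEquiv.symm_apply_apply, LinearMap.prodMap_apply, LinearMap.id_apply]
    rw [hz]
    simp [e, LinearMap.restrict_apply]
  · show LinearMap.det ((e : W × W' →ₗ[F] (Fin n → F)) ∘ₗ _ ∘ₗ (e.symm : (Fin n → F) →ₗ[F] W × W')) = d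
    rw [LinearMap.det_conj, LinearMap.det_prodMap, LinearMap.det_id, mul_one, hdet]

/-- In GL_n over a finite field of characteristic p, the conjugacy class of a semisimple element (an element of order prime to p) under the special linear group is its whole GL-conjugacy class: for every such x and every invertible g there is h of determinant one with h x h⁻¹ = g x g⁻¹. -/
theorem result {F : Type*} [Field F] [Fintype F] {p : ℕ} [Fact p.Prime] [CharP F p] {n : ℕ} (x g : GL (Fin n) F) (hx : (orderOf x).Coprime p) : ∃ h : GL (Fin n) F, (h : Matrix (Fin n) (Fin n) F).det = 1 ∧ h * x * h⁻¹ = g * x * g⁻¹ := by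
  classical
  rcases eq_or_ne n 0 with rfl | hn
  · exact ⟨g, Matrix.det_fin_zero, rfl⟩
  have hr : ((orderOf x : ℕ) : F) ≠ 0 := fun h => by
    have := Nat.Coprime.eq_one_of_dvd hx.symm ((CharP.cast_eq_zero_iff F p _).1 h)
    exact (Fact.out : p.Prime).ne_one this
  have hf : (Matrix.toLinAlgEquiv' (x : Matrix (Fin n) (Fin n) F)) ^ orderOf x = 1 := by
    rw [← map_pow, ← Units.val_pow_eq_pow_val, pow_orderOf_eq_one, Units.val_one, map_one]
  have hd : ((g : Matrix (Fin n) (Fin n) F).det)⁻¹ ≠ 0 := inv_ne_zero (Matrix.GeneralLinearGroup.det_ne_zero g)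
  obtain ⟨z, hz, hdet⟩ := exists_det_comm hn hr hf hd
  let M : Matrix (Fin n) (Fin n) F := Matrix.toLinAlgEquiv'.symm z
  have hM : M.det = ((g : Matrix (Fin n) (Fin n) F).det)⁻¹ := by
    rw [← hdet, ← LinearMap.det_toMatrix']
    rfl
  let zz : GL (Fin n) F := Matrix.GeneralLinearGroup.mkOfDetNeZero M (by rw [hM]; exact hd)
  have hzx : zz * x = x * zz := by
    refine Units.ext (Matrix.toLinAlgEquiv'.injective ?_)
    show Matrix.toLinAlgEquiv' (M * (x : Matrix (Fin n) (Fin n) F)) = Matrix.toLinAlgEquiv' ((x : Matrix (Fin n) (Fin n) F) * M)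
    simp only [map_mul, M, AlgEquiv.apply_symm_apply]
    exact hz.symm
  refine ⟨g * zz, ?_, ?_⟩
  · show ((g : Matrix (Fin n) (Fin n) F) * M).det = 1
    rw [Matrix.det_mul, hM, mul_inv_cancel₀ (Matrix.GeneralLinearGroup.det_ne_zero g)]
  · rw [mul_inv_rev, mul_assoc g zz x, hzx]
    group

end Cfsg.Agent.S2569
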