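import Cfsg.Statements.S2570
import Mathlib
import Cfsg.Agent.Lib.Classical.JordanType
-- import your own Cfsg.Agent.* helpers here

set_option autoImplicit false
open Cfsg

namespace Cfsg.Agent.S2570

open Matrix CfsgLib.Classical.JordanType CfsgLib.Classical22.NilPart

section
variable {F : Type*} [Field F] [Fintype F] {p : ℕ} [Fact p.Prime] [CharP F p] {n : ℕ}

/-- The matrix endomorphism `g - 1`. -/
noncomputable def nilOf (g : GL (Fin n) F) : Module.End F (Fin n → F) :=
  Matrix.toLinAlgEquiv' ((g : Matrix (Fin n) (Fin n) F) - 1)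

theorem orderOf_eq_iff_nil (hn : 0 < n) (g : GL (Fin n) F) : orderOf g = p ↔ (nilOf g) ^ p = 0 ∧ g ≠ 1 := by
  haveI : Nonempty (Fin n) := ⟨⟨0, hn⟩⟩
  have hiff : (nilOf g) ^ p = 0 ↔ g ^ p = 1 := by
    rw [nilOf, ← map_pow, map_eq_zero_iff _ (AlgEquiv.injective _), sub_pow_char_of_commute p (Commute.one_right _), one_pow, sub_eq_zero,
      ← Units.val_pow_eq_pow_val, Units.val_eq_one]
  rw [hiff]
  constructor
  · intro h
    refine ⟨h ▸ pow_orderOf_eq_one g, fun h1 => ?_⟩
    rw [h1, orderOf_one] at h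
    exact (Fact.out : p.Prime).ne_one h.symm
  · rintro ⟨h, h1⟩
    exact orderOf_eq_prime h h1

theorem exists_conj_of_similar {g h : GL (Fin n) F} (f : (Fin n → F) ≃ₗ[F] (Fin n → F)) (hf : ∀ v, f (nilOf g v) = nilOf h (f v)) :
    IsConj g h := by
  obtain ⟨P, hP⟩ : ∃ P : GL (Fin n) F, ∀ v, (P : Matrix (Fin n) (Fin n) F) *ᵥ v = f v := by
    have hu : IsUnit (LinearMap.toMatrix' f.toLinearMap) :=
      IsUnit.of_mul_eq_one (LinearMap.toMatrix' f.symm.toLinearMap) (by rw [← LinearMap.toMatrix'_comp]; simp)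
    exact ⟨hu.unit, fun v => LinearMap.toMatrix'_mulVec _ v⟩
  refine isConj_iff.2 ⟨P, mul_inv_eq_iff_eq_mul.2 (Units.ext (Matrix.ext_of_mulVec_single fun i => ?_))⟩
  rw [Units.val_mul, Units.val_mul, ← mulVec_mulVec, ← mulVec_mulVec, hP, hP]
  have h' := hf (Pi.single i 1)
  simp only [nilOf, map_sub, map_one, LinearMap.sub_apply, Module.End.one_apply, Matrix.toLinAlgEquiv'_apply, map_sub f] at h'
  exact sub_left_inj.1 h'

theorem rank_eq_of_isConj {g h : GL (Fin n) F} (hc : IsConj g h) (j : ℕ) :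
    Module.finrank F (LinearMap.range ((nilOf g) ^ j)) = Module.finrank F (LinearMap.range ((nilOf h) ^ j)) := by
  obtain ⟨c, hc⟩ := isConj_iff.1 hc
  have e : ((h : Matrix (Fin n) (Fin n) F) - 1) ^ j =
      (c : Matrix (Fin n) (Fin n) F) * ((g : Matrix (Fin n) (Fin n) F) - 1) ^ j * (↑c⁻¹ : Matrix (Fin n) (Fin n) F) := by
    rw [← Units.conj_pow, ← hc, Units.val_mul, Units.val_mul, Matrix.mul_sub, Matrix.sub_mul, Matrix.mul_one, Units.mul_inv]
  rw [nilOf, nilOf, ← map_pow, ← map_pow]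
  show (((g : Matrix (Fin n) (Fin n) F) - 1) ^ j).rank = (((h : Matrix (Fin n) (Fin n) F) - 1) ^ j).rank
  rw [e, Matrix.rank_mul_eq_left_of_isUnit_det _ _ ((Matrix.isUnit_iff_isUnit_det _).1 c⁻¹.isUnit),
    Matrix.rank_mul_eq_right_of_isUnit_det _ _ ((Matrix.isUnit_iff_isUnit_det _).1 c.isUnit)]

theorem exists_model {μ : Nat.Partition n} (hμ : ∀ a ∈ μ.parts, a ≤ p) :
    ∃ g : GL (Fin n) F, (nilOf g) ^ p = 0 ∧
      ∀ j, Module.finrank F (LinearMap.range ((nilOf g) ^ j)) = prank μ.parts j := by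
  classical
  let l := μ.parts.toList
  let d : Fin l.length → ℕ := fun k => l[(k : ℕ)]
  have hd : Finset.univ.val.map d = μ.parts := by
    rw [Fin.univ_val_map, List.ofFn_getElem, Multiset.coe_toList]
  have hdp : ∀ k, d k ≤ p := fun k => hμ _ (Multiset.mem_toList.1 (List.getElem_mem _))
  have hcard : Fintype.card ((k : Fin l.length) × Fin (d k)) = Fintype.card (Fin n) := by
    rw [Fintype.card_sigma, Fintype.card_fin]
    simp only [Fintype.card_fin]
    show ((Finset.univ.val.map d)).sum = n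
    rw [hd, μ.parts_sum]
  let b : Module.Basis ((k : Fin l.length) × Fin (d k)) F (Fin n → F) :=
    (Pi.basisFun F (Fin n)).reindex (Fintype.equivOfCardEq hcard).symm
  let N : Module.End F (Fin n → F) := b.constr F fun x =>
    if h : (x.2 : ℕ) + 1 < d x.1 then b ⟨x.1, ⟨(x.2 : ℕ) + 1, h⟩⟩ else 0
  have hN : IsJBasis N d b := fun x => b.constr_basis F _ x
  have hNp : N ^ p = 0 := b.ext fun x => by
    rw [jBasis_pow hN, dif_neg (by have := hdp x.1; omega)]; rfl
  obtain ⟨M, hM⟩ := (Matrix.toLinAlgEquiv' : Matrix (Fin n) (Fin n) F ≃ₐ[F] _).surjective N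
  have hMp : M ^ p = 0 := (Matrix.toLinAlgEquiv' (R := F) (n := Fin n)).injective (by rw [map_pow, hM, hNp, map_zero])
  obtain ⟨g, hg⟩ : IsUnit (1 + M) := IsNilpotent.isUnit_one_add ⟨p, hMp⟩
  have hgN : nilOf g = N := by rw [nilOf, hg, add_sub_cancel_left, hM]
  refine ⟨g, by rw [hgN, hNp], fun j => ?_⟩
  rw [hgN, jBasis_rank b hN, hd]

theorem exists_partition_of {g : GL (Fin n) F} (hg : (nilOf g) ^ p = 0) :
    ∃ μ : Nat.Partition n, (∀ a ∈ μ.parts, a ≤ p) ∧
      ∀ j, Module.finrank F (LinearMap.range ((nilOf g) ^ j)) = prank μ.parts j := by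
  obtain ⟨t, d, b, hd, hb⟩ := exists_jBasis hg
  refine ⟨⟨Finset.univ.val.map d, fun {a} ha => ?_, ?_⟩, fun a ha => ?_, fun j => jBasis_rank b hb j⟩
  · obtain ⟨k, -, rfl⟩ := Multiset.mem_map.1 ha; exact (hd k).1
  · show ∑ k, d k = n
    have h := Module.finrank_eq_card_basis b
    rw [Module.finrank_fin_fun, Fintype.card_sigma] at h
    simp only [Fintype.card_fin] at h
    exact h.symm
  · obtain ⟨k, -, rfl⟩ := Multiset.mem_map.1 (show a ∈ Finset.univ.val.map d from ha); exact (hd k).2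

theorem card_classes_order_p : Nat.card {C : ConjClasses (GL (Fin n) F) // ∃ g : GL (Fin n) F, ConjClasses.mk g = C ∧ orderOf g = p} =
    (Finset.univ.filter (fun μ : Nat.Partition n => ∀ a ∈ μ.parts, a ≤ p)).card - 1 := by
  classical
  have hp : p.Prime := Fact.out
  let ones : Nat.Partition n := ⟨Multiset.replicate n 1, fun {a} ha => by rw [Multiset.eq_of_mem_replicate ha]; exact one_pos, by simp⟩
  have hmem : ones ∈ Finset.univ.filter (fun μ : Nat.Partition n => ∀ a ∈ μ.parts, a ≤ p) :=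
    Finset.mem_filter.2 ⟨Finset.mem_univ _, fun a ha => by rw [Multiset.eq_of_mem_replicate ha]; exact hp.one_le⟩
  rw [← Finset.card_erase_of_mem hmem]
  rcases Nat.eq_zero_or_pos n with rfl | hn
  · haveI : Subsingleton (GL (Fin 0) F) := ⟨fun a b => Units.ext (Subsingleton.elim _ _)⟩
    haveI : IsEmpty {C : ConjClasses (GL (Fin 0) F) // ∃ g : GL (Fin 0) F, ConjClasses.mk g = C ∧ orderOf g = p} :=
      ⟨fun ⟨C, g, _, hg⟩ => hp.ne_one (by rw [← hg, Subsingleton.elim g 1, orderOf_one])⟩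
    rw [Nat.card_of_isEmpty, Finset.card_eq_zero.2 (Finset.eq_empty_of_forall_notMem fun μ hμ => (Finset.mem_erase.1 hμ).1 (Subsingleton.elim _ _))]
  rw [← Nat.card_eq_finsetCard]
  symm
  have hpos : ∀ μ : Nat.Partition n, ∀ a ∈ μ.parts, 0 < a := fun μ a ha => μ.parts_pos ha
  have hle : ∀ μ : ↥((Finset.univ.filter (fun μ : Nat.Partition n => ∀ a ∈ μ.parts, a ≤ p)).erase ones), ∀ a ∈ μ.1.parts, a ≤ p :=
    fun μ => (Finset.mem_filter.1 (Finset.mem_erase.1 μ.2).2).2
  choose G hG1 hG2 using fun μ => exists_model (F := F) (p := p) (hle μ)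
  have hG0 : ∀ μ, orderOf (G μ) = p := fun μ => (orderOf_eq_iff_nil hn _).2 ⟨hG1 μ, fun h => (Finset.mem_erase.1 μ.2).1 (Nat.Partition.ext (eq_of_prank (hpos _) (hpos _) fun j => by
    rw [← hG2, h, show nilOf (1 : GL (Fin n) F) = 0 by simp [nilOf]]
    rcases Nat.eq_zero_or_pos j with rfl | hj
    · rw [pow_zero, Module.End.one_eq_id, LinearMap.range_id, finrank_top, Module.finrank_fin_fun]; simp [prank, ones, Multiset.map_replicate]
    · rw [zero_pow (by omega), LinearMap.range_zero, finrank_bot]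
      simp [prank, ones, Multiset.map_replicate]; omega))⟩
  refine Nat.card_congr (Equiv.ofBijective (fun μ => (⟨ConjClasses.mk (G μ), G μ, rfl, hG0 μ⟩ :
    {C : ConjClasses (GL (Fin n) F) // ∃ g : GL (Fin n) F, ConjClasses.mk g = C ∧ orderOf g = p})) ⟨?_, ?_⟩)
  · intro μ ν h
    have hc := ConjClasses.mk_eq_mk_iff_isConj.1 (congrArg Subtype.val h)
    refine Subtype.ext (Nat.Partition.ext (eq_of_prank (hpos _) (hpos _) fun j => ?_))
    rw [← hG2, ← hG2, rank_eq_of_isConj hc]
  · rintro ⟨C, g, rfl, hg⟩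
    obtain ⟨hgp, hg1⟩ := (orderOf_eq_iff_nil hn g).1 hg
    obtain ⟨μ, hμ, hrank⟩ := exists_partition_of hgp
    have hne : μ ≠ ones := by
      rintro rfl
      apply hg1
      have h := hrank 1
      rw [show prank ones.parts 1 = 0 by simp [prank, ones, Multiset.map_replicate], pow_one, Submodule.finrank_eq_zero,
        LinearMap.range_eq_bot, nilOf, map_eq_zero_iff _ (AlgEquiv.injective _), sub_eq_zero] at h
      exact Units.ext h
    refine ⟨⟨μ, Finset.mem_erase.2 ⟨hne, Finset.mem_filter.2 ⟨Finset.mem_univ _, hμ⟩⟩⟩, Subtype.ext ?_⟩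
    show ConjClasses.mk (G _) = ConjClasses.mk g
    obtain ⟨f, hf⟩ := similar_of_rank (hG1 ⟨μ, Finset.mem_erase.2 ⟨hne, Finset.mem_filter.2 ⟨Finset.mem_univ _, hμ⟩⟩⟩) hgp
      (fun j => by rw [hG2, hrank])
    exact ConjClasses.mk_eq_mk_iff_isConj.2 (exists_conj_of_similar f hf)

end

/-- Number of conjugacy classes of elements of order p in GL_n over a finite field of characteristic p: they correspond to the Jordan types, that is, to the partitions of n with all parts at most p other than the partition into ones, so there are (number of partitions of n with parts ≤ p) − 1 of them. -/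
theorem result {F : Type*} [Field F] [Fintype F] {p : ℕ} [Fact p.Prime] [CharP F p] (n : ℕ) : Nat.card {C : ConjClasses (GL (Fin n) F) // ∃ g : GL (Fin n) F, ConjClasses.mk g = C ∧ orderOf g = p} = (Finset.univ.filter (fun μ : Nat.Partition n => ∀ a ∈ μ.parts, a ≤ p)).card - 1 := by
  exact card_classes_order_p

end Cfsg.Agent.S2570
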