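import Cfsg.Statements.S2571
import Mathlib
import Cfsg.Agent.Lib.Classical.RegularNilpotent
-- import your own Cfsg.Agent.* helpers here

set_option autoImplicit false
open Cfsg Matrix

namespace Cfsg.Agent.S2571

/-- Centraliser of a regular unipotent element in GL_n(q): if u is an invertible n × n matrix over the field with q elements, n ≥ 1, with (u − 1)^n = 0 and rank(u − 1) = n − 1 (a single unipotent Jordan block), then its centraliser in GL_n(q) has order (q − 1) q^(n−1). -/
theorem result {F : Type*} [Field F] [Fintype F] {q n : ℕ} (hF : Fintype.card F = q) (hn : 1 ≤ n) (u : GL (Fin n) F) (hnil : ((u : Matrix (Fin n) (Fin n) F) - 1) ^ n = 0) (hreg : ((u : Matrix (Fin n) (Fin n) F) - 1).rank = n - 1) : Nat.card ↥(Subgroup.centralizer ({u} : Set (GL (Fin n) F))) = (q - 1) * q ^ (n - 1) := by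
  classical
  subst hF
  obtain ⟨hd, h1, hf⟩ := CfsgLib.Classical.RegularNilpotent.hyps_of_matrix (Fintype.card_fin n) hnil hreg
  rw [← CfsgLib.Classical.RegularNilpotent.card_commutant_units hd hn h1 hf]
  let E : GL (Fin n) F ≃ ((Fin n → F) ≃ₗ[F] (Fin n → F)) :=
    Matrix.GeneralLinearGroup.toLin.toEquiv.trans (LinearMap.GeneralLinearGroup.generalLinearEquiv F _).toEquiv
  have hE : ∀ g v, E g v = (g : Matrix (Fin n) (Fin n) F) *ᵥ v := fun g v => rfl
  refine Nat.card_congr (E.subtypeEquiv fun g => ?_)
  rw [Subgroup.mem_centralizer_singleton_iff]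
  constructor
  · intro h v
    have h' := congrArg Units.val h
    rw [Units.val_mul, Units.val_mul] at h'
    simp only [Matrix.mulVecLin_apply, hE, Matrix.mulVec_mulVec]
    rw [Matrix.mul_sub, Matrix.sub_mul, Matrix.mul_one, Matrix.one_mul, h']
  · intro h
    refine Units.ext ?_
    have hm : (g : Matrix (Fin n) (Fin n) F) * ((u : Matrix (Fin n) (Fin n) F) - 1) =
        ((u : Matrix (Fin n) (Fin n) F) - 1) * (g : Matrix (Fin n) (Fin n) F) :=
      Matrix.ext_of_mulVec_single fun i => by
        simpa only [Matrix.mulVecLin_apply, hE, Matrix.mulVec_mulVec] using h (Pi.single i 1)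
    rw [Matrix.mul_sub, Matrix.sub_mul, Matrix.mul_one, Matrix.one_mul, sub_left_inj] at hm
    rw [Units.val_mul, Units.val_mul, hm]

end Cfsg.Agent.S2571
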