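import Cfsg.Statements.S2574
import Mathlib
import Cfsg.Agent.Lib.Classical.RegularNilpotent
import Cfsg.Agent.Lib.Classical.SpBasic
-- import your own Cfsg.Agent.* helpers here

set_option autoImplicit false
open Cfsg Matrix

namespace Cfsg.Agent.S2574

/-- A regular unipotent element of the symplectic group has totally isotropic small invariant subspaces: over a finite field, if u ∈ Sp_2m(F) satisfies (u − 1)^(2m) = 0 and rank(u − 1) = 2m − 1, and W is a u-invariant subspace with 2 dim W ≤ 2m, then the alternating form vanishes identically on W. -/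
theorem result {F : Type*} [Field F] [Finite F] {m : ℕ} (u : Matrix.symplecticGroup (Fin m) F) (hnil : ((u : Matrix (Fin m ⊕ Fin m) (Fin m ⊕ Fin m) F) - 1) ^ (2 * m) = 0) (hreg : ((u : Matrix (Fin m ⊕ Fin m) (Fin m ⊕ Fin m) F) - 1).rank = 2 * m - 1) (W : Submodule F (Fin m ⊕ Fin m → F)) (hW : ∀ v ∈ W, (u : Matrix (Fin m ⊕ Fin m) (Fin m ⊕ Fin m) F).mulVec v ∈ W) (hdim : 2 * Module.finrank F W ≤ 2 * m) : ∀ v ∈ W, ∀ w ∈ W, Cfsg.sympForm m F v w = 0 := by
  classical
  set M : Matrix (Fin m ⊕ Fin m) (Fin m ⊕ Fin m) F := u.1 with hM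
  let D : Submodule F (Fin m ⊕ Fin m → F) :=
    { carrier := {x | ∀ w ∈ W, Cfsg.sympForm m F w x = 0}
      add_mem' := fun {a b} ha hb w hw => by rw [CfsgLib.Classical.sympForm_add_right, ha w hw, hb w hw, add_zero]
      zero_mem' := fun w _ => CfsgLib.Classical.sympForm_zero_right w
      smul_mem' := fun c a ha w hw => by rw [CfsgLib.Classical.sympForm_smul_right, ha w hw, mul_zero] }
  have hι : Fintype.card (Fin m ⊕ Fin m) = 2 * m := by simp [two_mul]
  have hWeq := CfsgLib.Classical.RegularNilpotent.eq_ker_of_invariant_matrix hι hnil hreg W hW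
  have hsurj : ∀ w ∈ W, ∃ w' ∈ W, M *ᵥ w' = w := by
    have hinj : Function.Injective (M.mulVecLin.restrict hW) := fun a b h => by
      have h' := congrArg (fun x => ((u⁻¹ : Matrix.symplecticGroup (Fin m) F) : Matrix (Fin m ⊕ Fin m) (Fin m ⊕ Fin m) F) *ᵥ x)
        (show M *ᵥ (a : Fin m ⊕ Fin m → F) = M *ᵥ b from congrArg Subtype.val h)
      simp only [Matrix.mulVec_mulVec, hM, ← Submonoid.coe_mul, inv_mul_cancel, OneMemClass.coe_one,
        Matrix.one_mulVec] at h'
      exact Subtype.ext h'
    intro w hw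
    obtain ⟨w', hw'⟩ := LinearMap.injective_iff_surjective.1 hinj ⟨w, hw⟩
    exact ⟨w', w'.2, congrArg Subtype.val hw'⟩
  have hDinv : ∀ x ∈ D, M *ᵥ x ∈ D := fun x hx w hw => by
    obtain ⟨w', hw', rfl⟩ := hsurj w hw
    rw [CfsgLib.Classical.sp_form u]
    exact hx w' hw'
  have hDeq := CfsgLib.Classical.RegularNilpotent.eq_ker_of_invariant_matrix hι hnil hreg D hDinv
  have hDdim : Module.finrank F W ≤ Module.finrank F D := by
    let φ : (Fin m ⊕ Fin m → F) →ₗ[F] (W →ₗ[F] F) :=
      LinearMap.mk₂ F (fun x (w : W) => Cfsg.sympForm m F w x)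
        (fun a b w => CfsgLib.Classical.sympForm_add_right _ a b)
        (fun c a w => CfsgLib.Classical.sympForm_smul_right c _ a)
        (fun x a b => CfsgLib.Classical.sympForm_add_left _ _ x)
        (fun c x a => CfsgLib.Classical.sympForm_smul_left c _ x)
    have hker : LinearMap.ker φ = D := by
      ext x
      exact ⟨fun h w hw => LinearMap.congr_fun (LinearMap.mem_ker.1 h) ⟨w, hw⟩,
        fun h => LinearMap.mem_ker.2 (LinearMap.ext fun w => h w.1 w.2)⟩
    have h1 := LinearMap.finrank_range_add_finrank_ker φ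
    have h2 := Submodule.finrank_le (LinearMap.range φ)
    rw [Module.finrank_linearMap, Module.finrank_self, mul_one] at h2
    rw [hker, Module.finrank_fintype_fun_eq_card, hι] at h1
    omega
  intro v hv w hw
  have hle : W ≤ D := by
    rw [hWeq, hDeq, CfsgLib.Classical.RegularNilpotent.mulVecLin_pow, CfsgLib.Classical.RegularNilpotent.mulVecLin_pow]
    exact CfsgLib.Classical.RegularNilpotent.ker_pow_mono _ hDdim
  exact hle hw v hv

end Cfsg.Agent.S2574
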