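import Cfsg.Statements.S2575

set_option autoImplicit false
open Cfsg

namespace Cfsg.Agent.S2575

/-- `-1` is an `n`-th power iff the two-part of `n` is smaller than that of `q - 1`. -/
lemma neg_one_eq_pow_iff {F : Type*} [Field F] [Fintype F] (hq : Odd (Fintype.card F)) {n : ℕ} (hn : 1 ≤ n) :
    (∃ c : F, c ^ n = -1) ↔ padicValNat 2 n < padicValNat 2 (Fintype.card F - 1) := by
  classical
  haveI : Fact (Nat.Prime 2) := ⟨Nat.prime_two⟩
  have hcard1 : 1 < Fintype.card F := Fintype.one_lt_card
  have hchar : ringChar F ≠ 2 := fun h => by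
    have := FiniteField.even_card_of_char_two h
    exact (Nat.not_even_iff_odd.2 hq) (Nat.even_iff.2 this)
  have hne : (-1 : F) ≠ 1 := Ring.neg_one_ne_one_of_char_ne_two hchar
  obtain ⟨o, ho⟩ : 2 ^ padicValNat 2 n ∣ n := pow_padicValNat_dvd
  constructor
  · rintro ⟨c, hc⟩
    by_contra hlt
    push Not at hlt
    obtain ⟨o', ho'⟩ : 2 ^ padicValNat 2 (Fintype.card F - 1) ∣ Fintype.card F - 1 := pow_padicValNat_dvd
    have hodd : Odd o' := by
      rw [Nat.odd_iff]
      by_contra h
      have h2 : 2 ∣ o' := Nat.dvd_of_mod_eq_zero (by omega)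
      have := pow_succ_padicValNat_not_dvd (p := 2) (n := Fintype.card F - 1) (by omega)
      exact this (by conv_rhs => rw [ho']
                     rw [pow_succ]; exact mul_dvd_mul_left _ h2)
    have hc0 : c ≠ 0 := by
      rintro rfl
      rw [zero_pow (by omega)] at hc
      simp at hc
    have h1 : c ^ (n * o') = 1 := by
      obtain ⟨t, ht⟩ : Fintype.card F - 1 ∣ n * o' := by
        rw [ho', ho]
        exact mul_dvd_mul ((pow_dvd_pow 2 hlt).trans (dvd_mul_right _ _)) dvd_rfl
      rw [ht, pow_mul, FiniteField.pow_card_sub_one_eq_one c hc0, one_pow]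
    rw [pow_mul, hc, hodd.neg_one_pow] at h1
    exact hne h1
  · intro hlt
    obtain ⟨g, hg⟩ := IsCyclic.exists_ofOrder_eq_natCard (α := Fˣ)
    rw [Nat.card_units, Nat.card_eq_fintype_card] at hg
    set v := padicValNat 2 n
    obtain ⟨t, ht⟩ : 2 ^ (v + 1) ∣ Fintype.card F - 1 := (pow_dvd_pow 2 hlt).trans pow_padicValNat_dvd
    have hot : Odd o := by
      rw [Nat.odd_iff]
      by_contra h
      have h2 : 2 ∣ o := Nat.dvd_of_mod_eq_zero (by omega)
      have := pow_succ_padicValNat_not_dvd (p := 2) (n := n) (by omega)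
      exact this (by conv_rhs => rw [ho]
                     rw [pow_succ]; exact mul_dvd_mul_left _ h2)
    have ht0 : t ≠ 0 := by rintro rfl; simp at ht; omega
    refine ⟨((g ^ t : Fˣ) : F), ?_⟩
    have hsq : (((g ^ t : Fˣ) : F) ^ 2 ^ v) ^ 2 = 1 := by
      rw [← pow_mul, ← pow_succ, ← Units.val_pow_eq_pow_val, ← pow_mul, mul_comm, ← ht, ← hg,
        pow_orderOf_eq_one, Units.val_one]
    have hne1 : ((g ^ t : Fˣ) : F) ^ 2 ^ v ≠ 1 := by
      intro h
      rw [← Units.val_pow_eq_pow_val, Units.val_eq_one, ← pow_mul] at h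
      have := Nat.le_of_dvd (by positivity) (orderOf_dvd_of_pow_eq_one h)
      rw [hg, ht, pow_succ] at this
      have h2 : 0 < 2 ^ v := by positivity
      nlinarith [Nat.pos_of_ne_zero ht0]
    rw [ho, pow_mul, (sq_eq_one_iff.1 hsq).resolve_left hne1, hot.neg_one_pow]


/-- Which diagonal involutions of PGL_n(q) lie in PSL_n(q), q odd: for the diagonal matrix t with i entries −1 and n − i entries 1, some non-zero scalar multiple of t has determinant one if and only if i is even or the 2-part of q − 1 exceeds the 2-part of n (that is, −1 is an n-th power in the field exactly in the latter case). -/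
theorem result {F : Type*} [Field F] [Fintype F] {q : ℕ} (hF : Fintype.card F = q) (hq : Odd q) {n : ℕ} (hn : 1 ≤ n) (i : ℕ) (hi : i ≤ n) : (∃ c : F, c ≠ 0 ∧ (c • Matrix.diagonal (fun j : Fin n => if (j : ℕ) < i then (-1 : F) else 1)).det = 1) ↔ (Even i ∨ padicValNat 2 n < padicValNat 2 (q - 1)) := by
  classical
  subst hF
  have hdet : (Matrix.diagonal (fun j : Fin n => if (j : ℕ) < i then (-1 : F) else 1)).det = (-1) ^ i := by
    rw [Matrix.det_diagonal, Finset.prod_ite, Finset.prod_const_one, mul_one, Finset.prod_const,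
      Fin.card_filter_val_lt, min_eq_right hi]
  simp only [Matrix.det_smul, Fintype.card_fin, hdet]
  rcases Nat.even_or_odd i with hev | hodd
  · simp only [hev, hev.neg_one_pow, mul_one, true_or, iff_true]
    exact ⟨1, one_ne_zero, one_pow n⟩
  · simp only [Nat.not_even_iff_odd.2 hodd, false_or, hodd.neg_one_pow, mul_neg, mul_one]
    rw [← neg_one_eq_pow_iff hq hn]
    constructor
    · rintro ⟨c, -, hc⟩; exact ⟨c, neg_eq_iff_eq_neg.1 hc⟩
    · rintro ⟨c, hc⟩
      refine ⟨c, ?_, neg_eq_iff_eq_neg.2 hc⟩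
      rintro rfl
      rw [zero_pow (by omega)] at hc
      simp at hc

end Cfsg.Agent.S2575
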