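import Cfsg.Statements.S2576

set_option autoImplicit false
open Cfsg

namespace Cfsg.Agent.S2576

/-- Which involutions of PGL_2m(q) coming from a scalar of the quadratic extension field lie in PSL_2m(q), q odd: let μ generate the Sylow 2-subgroup of the multiplicative group of the field with q elements (μ has order the 2-part of q − 1) and let t be the block-diagonal matrix with m diagonal blocks [[0, 1], [μ, 0]] (so t² is the scalar μ and t is an involution modulo scalars). Then some non-zero scalar multiple of t has determinant one if and only if q ≡ 3 (mod 4) or the 2-part of q − 1 is less than the 2-part of 2m. -/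
theorem result {F : Type*} [Field F] [Fintype F] {q : ℕ} (hF : Fintype.card F = q) (hq : Odd q) {m : ℕ} (hm : 1 ≤ m) (μ : F) (hμ : orderOf μ = 2 ^ padicValNat 2 (q - 1)) : (∃ c : F, c ≠ 0 ∧ (c • Matrix.blockDiagonal (fun _ : Fin m => !![(0 : F), 1; μ, 0])).det = 1) ↔ (q % 4 = 3 ∨ padicValNat 2 (q - 1) < padicValNat 2 (2 * m)) := by
  classical
  subst hF
  haveI : Fact (Nat.Prime 2) := ⟨Nat.prime_two⟩
  have hcard1 : 1 < Fintype.card F := Fintype.one_lt_card
  have hchar : ringChar F ≠ 2 := fun h => by
    have := FiniteField.even_card_of_char_two h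
    exact (Nat.not_even_iff_odd.2 hq) (Nat.even_iff.2 this)
  have hne : (-1 : F) ≠ 1 := Ring.neg_one_ne_one_of_char_ne_two hchar
  have hdet : ∀ c : F, (c • Matrix.blockDiagonal (fun _ : Fin m => !![(0 : F), 1; μ, 0])).det = (c ^ 2 * -μ) ^ m := by
    intro c
    rw [Matrix.det_smul, Matrix.det_blockDiagonal, Finset.prod_const, Matrix.det_fin_two_of,
      Finset.card_univ, Fintype.card_fin, Fintype.card_prod, Fintype.card_fin, Fintype.card_fin]
    ring
  simp only [hdet]
  set a := padicValNat 2 (Fintype.card F - 1) with ha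
  have ha1 : 1 ≤ a := one_le_padicValNat_of_dvd (by omega) (by
    obtain ⟨k, hk⟩ := hq; omega)
  have hμa : μ ^ 2 ^ a = 1 := by rw [← hμ]; exact pow_orderOf_eq_one μ
  have hμh : μ ^ 2 ^ (a - 1) = -1 := by
    refine (sq_eq_one_iff.1 ?_).resolve_left ?_
    · rw [← pow_mul, ← pow_succ, Nat.sub_add_cancel ha1, hμa]
    · intro h
      have := Nat.le_of_dvd (by positivity) (orderOf_dvd_of_pow_eq_one h)
      rw [hμ] at this
      exact absurd this (not_le.2 (Nat.pow_lt_pow_right one_lt_two (by omega)))
  rw [padicValNat.mul two_ne_zero (by omega), padicValNat.self one_lt_two]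
  have hmod4 : Fintype.card F % 4 = 3 ↔ a = 1 := by
    have hdvd : 4 ∣ Fintype.card F - 1 ↔ 2 ≤ a := by
      have := padicValNat_dvd_iff_le (p := 2) (a := Fintype.card F - 1) (n := 2) (by omega)
      simpa using this
    obtain ⟨k, hk⟩ := hq
    constructor
    · intro h
      by_contra h'
      have := hdvd.2 (by omega)
      omega
    · intro h
      by_contra h'
      have : 4 ∣ Fintype.card F - 1 := by omega
      have := hdvd.1 this
      omega
  constructor
  · rintro ⟨c, hc0, hc⟩
    by_contra h
    push Not at h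
    obtain ⟨h1, h2⟩ := h
    rw [Ne, hmod4] at h1
    obtain ⟨o, ho⟩ : 2 ^ padicValNat 2 m ∣ m := pow_padicValNat_dvd
    obtain ⟨o', ho'⟩ : 2 ^ a ∣ Fintype.card F - 1 := pow_padicValNat_dvd
    have hod : ∀ {N v x : ℕ}, N ≠ 0 → v = padicValNat 2 N → N = 2 ^ v * x → Odd x := by
      intro N v x hN hv hx
      rw [Nat.odd_iff]
      by_contra h
      have h2 : 2 ∣ x := Nat.dvd_of_mod_eq_zero (by omega)
      have := pow_succ_padicValNat_not_dvd (p := 2) (n := N) hN
      rw [← hv] at this
      exact this (by rw [hx, pow_succ]; exact mul_dvd_mul_left _ h2)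
    have hoo : Odd (o * o') := (hod (by omega) rfl ho).mul (hod (by omega) ha ho')
    have h3 : (c ^ 2 * -μ) ^ (2 ^ (a - 1) * (o * o')) = 1 := by
      obtain ⟨t, ht⟩ : m ∣ 2 ^ (a - 1) * (o * o') := by
        rw [ho, ← mul_assoc]
        exact (mul_dvd_mul_right (pow_dvd_pow 2 (by omega)) o).trans (dvd_mul_right _ _)
      rw [ht, pow_mul, hc, one_pow]
    have h4 : (c ^ 2) ^ (2 ^ (a - 1) * (o * o')) = 1 := by
      rw [← pow_mul]
      have e : 2 * (2 ^ (a - 1) * (o * o')) = (Fintype.card F - 1) * o := by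
        rw [ho', ← mul_assoc, ← pow_succ', Nat.sub_add_cancel ha1]; ring
      rw [e, pow_mul, FiniteField.pow_card_sub_one_eq_one c hc0, one_pow]
    rw [mul_pow, h4, one_mul, neg_pow, pow_mul μ, hμh, hoo.neg_one_pow] at h3
    have hev : Even (2 ^ (a - 1) * (o * o')) :=
      (Nat.even_pow.2 ⟨even_two, by omega⟩).mul_right _
    rw [hev.neg_one_pow, one_mul] at h3
    exact hne h3
  · intro h
    refine ⟨1, one_ne_zero, ?_⟩
    rw [one_pow, one_mul]
    by_cases h1 : a = 1
    · rw [h1] at hμh
      simp at hμh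
      rw [hμh, neg_neg, one_pow]
    · obtain ⟨t, ht⟩ : 2 ^ a ∣ m :=
        (pow_dvd_pow 2 (by
          rcases h with h | h
          · exact absurd (hmod4.1 h) h1
          · omega)).trans pow_padicValNat_dvd
      rw [ht, pow_mul, neg_pow, hμa, mul_one, (Nat.even_pow.2 ⟨even_two, by omega⟩).neg_one_pow, one_pow]

end Cfsg.Agent.S2576
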