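import Cfsg.Statements.S2579
import Mathlib
import Mathlib
import Cfsg.Agent.Lib.Known.PSLMinIndex
-- import your own Cfsg.Agent.* helpers here

set_option autoImplicit false
open Cfsg Matrix

namespace Cfsg.Agent.S2579

/-- In SL_n(F) with n ≥ 3, over a finite field F, any two transvections (matrices t with t − 1 of rank one and square zero) are conjugate by an element of SL_n(F). -/
theorem result {F : Type*} [Field F] [Finite F] {n : ℕ} (hn : 3 ≤ n) (s t : Matrix.SpecialLinearGroup (Fin n) F) (hs : Cfsg.IsTransvection (s : Matrix (Fin n) (Fin n) F)) (ht : Cfsg.IsTransvection (t : Matrix (Fin n) (Fin n) F)) : IsConj s t := by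
  classical
  haveI := Fintype.ofFinite F
  have key : ∀ t : Matrix.SpecialLinearGroup (Fin n) F, Cfsg.IsTransvection (t : Matrix (Fin n) (Fin n) F) →
      ∃ v φ : Fin n → F, v ≠ 0 ∧ φ ≠ 0 ∧ φ ⬝ᵥ v = 0 ∧ t = CfsgLib.Known.PSLMinIndex.tv v φ := by
    intro t ht
    obtain ⟨hrank, hsq⟩ := ht
    set N := (t : Matrix (Fin n) (Fin n) F) - 1 with hN
    obtain ⟨⟨v, hvmem⟩, hv0, hspan⟩ := finrank_eq_one_iff'.1 (show Module.finrank F (LinearMap.range N.mulVecLin) = 1 from hrank)
    have hv : v ≠ 0 := fun h => hv0 (Subtype.ext h)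
    choose φ hφ using fun j => hspan ⟨N *ᵥ Pi.single j 1, ⟨Pi.single j 1, rfl⟩⟩
    have hNeq : N = vecMulVec v φ := Matrix.ext fun i j => by
      have h := congrFun (congrArg Subtype.val (hφ j)) i
      simp only [SetLike.val_smul, Pi.smul_apply, smul_eq_mul, Matrix.mulVec_single_one, Matrix.col_apply] at h
      rw [vecMulVec_apply, mul_comm, h]
    have hφ0 : φ ≠ 0 := fun h => by
      rw [hNeq, h] at hrank
      simp at hrank
    have hdot : φ ⬝ᵥ v = 0 := by
      by_contra hne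
      obtain ⟨i, hi⟩ := Function.ne_iff.1 hv
      obtain ⟨j, hj⟩ := Function.ne_iff.1 hφ0
      have h := congrFun (congrFun hsq i) j
      rw [hNeq, vecMulVec_mul_vecMulVec, vecMulVec_apply, Matrix.zero_apply] at h
      simp only [Pi.smul_apply, smul_eq_mul] at h
      exact mul_ne_zero hi (mul_ne_zero hne hj) h
    refine ⟨v, φ, hv, hφ0, hdot, Matrix.SpecialLinearGroup.ext _ _ fun i j => ?_⟩
    rw [CfsgLib.Known.PSLMinIndex.coe_tv hdot, ← hNeq, hN, add_sub_cancel]
  obtain ⟨v, φ, hv, hφ, h, rfl⟩ := key s hs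
  obtain ⟨w, ψ, hw, hψ, h', rfl⟩ := key t ht
  obtain ⟨g, hg⟩ := CfsgLib.Known.PSLMinIndex.exists_conj_tv hn hv hw hφ hψ h h'
  exact isConj_iff.2 ⟨g, hg⟩

end Cfsg.Agent.S2579
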