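import Cfsg.Statements.S2581
import Mathlib
import Cfsg.Agent.Lib.Classical.CommutantCount
-- import your own Cfsg.Agent.* helpers here

set_option autoImplicit false
open Cfsg

namespace Cfsg.Agent.S2581

open Matrix CfsgLib.Classical.JordanType

theorem sum_by_size {t : ℕ} (d : Fin t → ℕ) (g : ℕ → ℕ) :
    ∑ k, g (d k) = ∑ i ∈ Finset.range (Finset.univ.sup d + 1), mult d i * g i := by
  rw [← Finset.sum_fiberwise_of_maps_to (s := Finset.univ) (t := Finset.range (Finset.univ.sup d + 1)) (g := d)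
    (fun k _ => Finset.mem_range.2 (Nat.lt_succ_of_le (Finset.le_sup (Finset.mem_univ k))))]
  refine Finset.sum_congr rfl fun i _ => ?_
  rw [Finset.sum_congr rfl (fun k hk => by rw [(Finset.mem_filter.1 hk).2]), Finset.sum_const, smul_eq_mul]
  rfl

theorem exponent_eq {t : ℕ} (d : Fin t → ℕ) (hd : ∀ k, 1 ≤ d k) :
    ∑ k, ∑ l, min (d k - 1) (d l) + ∑ i ∈ Finset.range (Finset.univ.sup d + 1), mult d i * above d i =
      2 * (∑ i ∈ Finset.range (Finset.univ.sup d + 1), ∑ j ∈ Finset.range (Finset.univ.sup d + 1),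
        if i < j then i * mult d i * mult d j else 0) +
      ∑ i ∈ Finset.range (Finset.univ.sup d + 1), (i - 1) * mult d i ^ 2 := by
  set R := Finset.range (Finset.univ.sup d + 1)
  have h1 : ∀ i, ∑ l, min (i - 1) (d l) + above d i = ∑ j ∈ R, mult d j * (min (i - 1) j + if i < j then 1 else 0) := by
    intro i
    rw [above, Finset.card_filter, ← Finset.sum_add_distrib, sum_by_size d (fun j => min (i - 1) j + if i < j then 1 else 0)]
  rw [← sum_by_size d (fun i => above d i), ← Finset.sum_add_distrib, Finset.sum_congr rfl fun k _ => h1 (d k),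
    sum_by_size d (fun i => ∑ j ∈ R, mult d j * (min (i - 1) j + if i < j then 1 else 0))]
  have hdiag : ∑ i ∈ R, (i - 1) * mult d i ^ 2 = ∑ i ∈ R, ∑ j ∈ R, if i = j then (i - 1) * mult d i * mult d j else 0 :=
    Finset.sum_congr rfl fun i hi => by rw [Finset.sum_ite_eq, if_pos hi]; ring
  rw [hdiag, two_mul]
  conv_rhs => arg 1; arg 2; rw [Finset.sum_comm]
  rw [← Finset.sum_add_distrib, ← Finset.sum_add_distrib]
  refine Finset.sum_congr rfl fun i _ => ?_
  rw [Finset.mul_sum, ← Finset.sum_add_distrib, ← Finset.sum_add_distrib]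
  refine Finset.sum_congr rfl fun j _ => ?_
  rcases lt_trichotomy i j with h | rfl | h
  · rw [min_eq_left (by omega : i - 1 ≤ j), if_pos h, if_pos h, if_neg (by omega : ¬ j < i), if_neg h.ne]
    rcases Nat.eq_zero_or_pos i with rfl | hi
    · have h0 : mult d 0 = 0 := Finset.card_eq_zero.2 (Finset.filter_eq_empty_iff.2 fun k _ => by have := hd k; omega)
      rw [h0]; ring
    · rw [Nat.sub_add_cancel hi]; ring
  · rw [min_eq_left (Nat.sub_le i 1), if_neg (lt_irrefl i), if_neg (lt_irrefl i), if_pos rfl]; ring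
  · rw [min_eq_right (by omega : j ≤ i - 1), if_neg (by omega : ¬ i < j), if_neg (by omega : ¬ i < j), if_pos h, if_neg h.ne']; ring

theorem jBasis_jordanType {F : Type*} [Field F] {t : ℕ} (d : Fin t → ℕ) :
    IsJBasis (Matrix.toLin' (Cfsg.jordanTypeMatrix d F - 1)) d (Pi.basisFun F ((k : Fin t) × Fin (d k))) := by
  intro x
  obtain ⟨k, i⟩ := x
  rw [Pi.basisFun_apply, Matrix.toLin'_apply, Matrix.mulVec_single_one]
  funext y
  obtain ⟨l, j⟩ := y
  rw [Matrix.col_apply, Matrix.sub_apply]
  by_cases hl : l = k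
  · subst hl
    have hone : (1 : Matrix ((k : Fin t) × Fin (d k)) ((k : Fin t) × Fin (d k)) F) ⟨l, j⟩ ⟨l, i⟩ = if (j : ℕ) = i then 1 else 0 := by
      rw [Matrix.one_apply]; exact if_congr (by simp [Fin.ext_iff]) rfl rfl
    rw [hone, Cfsg.jordanTypeMatrix, Matrix.blockDiagonal'_apply_eq, Cfsg.jordanBlock, Matrix.of_apply]
    by_cases h : (i : ℕ) + 1 < d l
    · rw [dif_pos h, Pi.basisFun_apply, Pi.single_apply]
      by_cases hji : (j : ℕ) = i
      · rw [if_pos hji, if_pos hji, sub_self, if_neg]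
        simp [Fin.ext_iff]; omega
      · rw [if_neg hji, if_neg hji, sub_zero]
        exact if_congr (by simp [Fin.ext_iff]) rfl rfl
    · rw [dif_neg h, Pi.zero_apply]
      by_cases hji : (j : ℕ) = i
      · rw [if_pos hji, if_pos hji, sub_self]
      · rw [if_neg hji, if_neg hji, if_neg (by have := j.2; omega), sub_zero]
  · rw [Cfsg.jordanTypeMatrix, Matrix.blockDiagonal'_apply_ne _ _ _ hl, Matrix.one_apply_ne (fun e => hl (congrArg Sigma.fst e)), sub_zero]
    split_ifs with h
    · rw [Pi.basisFun_apply, Pi.single_apply, if_neg (fun e => hl (congrArg Sigma.fst e))]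
    · rfl

/-- Order of the centraliser in GL of a unipotent matrix of given Jordan type over the field with q elements: if the type has a_i blocks of size i (all block sizes at least 1), the invertible matrices commuting with it number q^γ · Π_i |GL_(a_i)(q)| with γ = 2 Σ_(i<j) i a_i a_j + Σ_i (i − 1) a_i² (a group of order q^γ extended by Π GL_(a_i)(q)). -/
theorem result {F : Type*} [Field F] [Fintype F] {q : ℕ} (hF : Fintype.card F = q) {t : ℕ} (d : Fin t → ℕ) (hd : ∀ k, 1 ≤ d k) : Nat.card {g : GL ((k : Fin t) × Fin (d k)) F // (g : Matrix ((k : Fin t) × Fin (d k)) ((k : Fin t) × Fin (d k)) F) * Cfsg.jordanTypeMatrix d F = Cfsg.jordanTypeMatrix d F * (g : Matrix ((k : Fin t) × Fin (d k)) ((k : Fin t) × Fin (d k)) F)} = q ^ (2 * (∑ i ∈ Finset.range (Finset.univ.sup d + 1), ∑ j ∈ Finset.range (Finset.univ.sup d + 1), if i < j then i * (Finset.univ.filter (fun k : Fin t => d k = i)).card * (Finset.univ.filter (fun k : Fin t => d k = j)).card else 0) + ∑ i ∈ Finset.range (Finset.univ.sup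 d + 1), (i - 1) * (Finset.univ.filter (fun k : Fin t => d k = i)).card ^ 2) * ∏ i ∈ Finset.range (Finset.univ.sup d + 1), ∏ j : Fin ((Finset.univ.filter (fun k : Fin t => d k = i)).card), (q ^ (Finset.univ.filter (fun k : Fin t => d k = i)).card - q ^ (j : ℕ)) := by
  classical
  subst hF
  let E : GL ((k : Fin t) × Fin (d k)) F ≃ ((((k : Fin t) × Fin (d k)) → F) ≃ₗ[F] (((k : Fin t) × Fin (d k)) → F)) :=
    Matrix.GeneralLinearGroup.toLin.toEquiv.trans (LinearMap.GeneralLinearGroup.generalLinearEquiv F _).toEquiv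
  have hE : ∀ g v, E g v = (g : Matrix ((k : Fin t) × Fin (d k)) ((k : Fin t) × Fin (d k)) F) *ᵥ v := fun g v => rfl
  obtain ⟨J, hJ⟩ : ∃ J, J = Cfsg.jordanTypeMatrix d F := ⟨_, rfl⟩
  have hcomm : Nat.card {g : GL ((k : Fin t) × Fin (d k)) F // (g : Matrix _ _ F) * J = J * (g : Matrix _ _ F)} =
      Nat.card {g : (((k : Fin t) × Fin (d k)) → F) ≃ₗ[F] (((k : Fin t) × Fin (d k)) → F) //
        ∀ v, g (Matrix.toLin' (J - 1) v) = Matrix.toLin' (J - 1) (g v)} := by
    refine Nat.card_congr (E.subtypeEquiv fun g => ?_)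
    simp only [Matrix.toLin'_apply, hE, Matrix.mulVec_mulVec]
    constructor
    · intro h v
      rw [Matrix.mul_sub, Matrix.sub_mul, Matrix.mul_one, Matrix.one_mul, h]
    · intro h
      have hm : (g : Matrix ((k : Fin t) × Fin (d k)) ((k : Fin t) × Fin (d k)) F) * (J - 1) = (J - 1) * (g : Matrix ((k : Fin t) × Fin (d k)) ((k : Fin t) × Fin (d k)) F) :=
        Matrix.ext_of_mulVec_single fun i => h _
      rwa [Matrix.mul_sub, Matrix.sub_mul, Matrix.mul_one, Matrix.one_mul, sub_left_inj] at hm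
  rw [← hJ, hcomm, hJ, card_commutant_gl _ (jBasis_jordanType d) hd]
  have hfac : ∀ i ∈ Finset.range (Finset.univ.sup d + 1), ∏ r ∈ Finset.range (mult d i),
      (Fintype.card F ^ (mult d i + above d i) - Fintype.card F ^ (above d i + r)) =
      Fintype.card F ^ (mult d i * above d i) * ∏ r : Fin (mult d i), (Fintype.card F ^ mult d i - Fintype.card F ^ (r : ℕ)) := by
    intro i _
    rw [Fin.prod_univ_eq_prod_range (fun r => Fintype.card F ^ mult d i - Fintype.card F ^ r), Finset.prod_congr rfl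
      (fun r _ => show _ = Fintype.card F ^ above d i * (Fintype.card F ^ mult d i - Fintype.card F ^ r) by
        rw [Nat.mul_sub, ← pow_add, ← pow_add, add_comm]), Finset.prod_mul_distrib, Finset.prod_const, Finset.card_range, ← pow_mul,
      mul_comm (above d i)]
  rw [Finset.prod_congr rfl hfac, Finset.prod_mul_distrib, Finset.prod_pow_eq_pow_sum, ← mul_assoc, ← pow_add,
    exponent_eq d hd]
  rfl

end Cfsg.Agent.S2581
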