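import Cfsg.Statements.S2582
import Cfsg.Agent.Lib.KnownSimple.JordanIsometry.Matrices
import Cfsg.Agent.Lib.Classical.AltBasis

set_option autoImplicit false
open Cfsg Matrix CfsgLib.JordanIsometry

namespace Cfsg.Agent.S2582

/-- Which unipotent Jordan types occur in the finite symplectic group: over a finite field, a unipotent matrix with Jordan block sizes d_1, …, d_t (sum 2m, all at least 1) is similar to an element of Sp_2m(F) if and only if every odd block size occurs an even number of times. -/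
theorem result {F : Type*} [Field F] [Fintype F] {m t : ℕ} (d : Fin t → ℕ) (hd : ∀ k, 1 ≤ d k) (hsum : ∑ k, d k = 2 * m) : (∃ e : ((k : Fin t) × Fin (d k)) ≃ (Fin m ⊕ Fin m), ∃ A : Matrix.symplecticGroup (Fin m) F, IsConj (Matrix.reindex e e (Cfsg.jordanTypeMatrix d F)) (A : Matrix (Fin m ⊕ Fin m) (Fin m ⊕ Fin m) F)) ↔ ∀ j : ℕ, Odd j → Even (Finset.univ.filter (fun k : Fin t => d k = j)).card := by
  classical
  have hmem : ∀ A : Matrix (Fin m ⊕ Fin m) (Fin m ⊕ Fin m) F, A ∈ Matrix.symplecticGroup (Fin m) F ↔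
      ∀ u v, Cfsg.sympForm m F (A *ᵥ u) (A *ᵥ v) = Cfsg.sympForm m F u v := by
    intro A
    have e : ∀ u v, Cfsg.sympForm m F (A *ᵥ u) (A *ᵥ v) = u ⬝ᵥ ((Aᵀ * Matrix.J (Fin m) F * A) *ᵥ v) := fun u v => by
      rw [Cfsg.sympForm, ← Matrix.mulVec_mulVec, ← Matrix.mulVec_mulVec, Matrix.dotProduct_mulVec u Aᵀ, Matrix.vecMul_transpose]
    rw [SymplecticGroup.mem_iff']
    constructor
    · intro h u v; rw [e, h]; rfl
    · intro h
      refine Matrix.ext fun i j => ?_
      have := h (Pi.single i 1) (Pi.single j 1)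
      rw [e] at this
      simpa [Cfsg.sympForm] using this
  set B : LinearMap.BilinForm F (Fin m ⊕ Fin m → F) := Matrix.toBilin' (Matrix.J (Fin m) F)
  have hB : ∀ u v, B u v = Cfsg.sympForm m F u v := fun u v => Matrix.toBilin'_apply' _ u v
  constructor
  · rintro ⟨e, A, hA⟩
    have hu : IsUnit (A : Matrix (Fin m ⊕ Fin m) (Fin m ⊕ Fin m) F) :=
      (Matrix.isUnit_iff_isUnit_det _).2 (SymplecticGroup.symplectic_det A.2)
    have hr := nrk_of_isConj (A := hu.unit) hA
    have halt : ∀ x, B x x = 0 := fun x => by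
      rw [hB, Cfsg.sympForm, Matrix.J]
      simp [dotProduct, Fintype.sum_sum_type, Matrix.fromBlocks_mulVec, Matrix.neg_mulVec, mul_comm]
    have hnd : ∀ x, (∀ y, B x y = 0) → x = 0 := fun x hx => dotProduct_eq_zero _ fun w => by
      have := hx (-(Matrix.J (Fin m) F *ᵥ w))
      rw [hB, Cfsg.sympForm, Matrix.mulVec_neg, Matrix.mulVec_mulVec, Matrix.J_squared, Matrix.neg_mulVec, neg_neg,
        Matrix.one_mulVec] at this
      exact this
    have hg : ∀ x y, B (glEquiv hu.unit x) (glEquiv hu.unit y) = B x y := fun x y => by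
      rw [hB, hB]
      exact (hmem _).1 A.2 x y
    intro j hj
    rw [← sizes_count]
    obtain ⟨c, rfl⟩ := hj
    exact even_count (glEquiv hu.unit) hr (by omega) (by simpa using even_nrk_alt B _ halt hnd hg c)
      (by simpa [Nat.mul_add, two_mul, add_assoc, add_comm, add_left_comm] using even_nrk_alt B _ halt hnd hg (c + 1))
  · intro h
    obtain ⟨V, _, _, _, B', g, hA', hN', hg', hr⟩ : RepAlt F (sizes d) :=
      assemble (RepAlt F) (fun a => Even a) RepAlt.zero (fun _ _ => RepAlt.add) (fun a ha he => RepAlt.single ha he)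
        (fun a ha => RepAlt.pair a ha) _ (fun a => sizes_pos hd) fun a ha => by
          rw [sizes_count]; exact h a (Nat.not_even_iff_odd.1 ha)
    obtain ⟨m', hm', E, hE⟩ := CfsgLib.Classical.exists_symp_equiv B' hA' hN'
    rw [finrank_of_nrk hr, sum_sizes, hsum] at hm'
    obtain rfl : m = m' := by omega
    obtain ⟨e⟩ : Nonempty (((k : Fin t) × Fin (d k)) ≃ (Fin m ⊕ Fin m)) :=
      ⟨Fintype.equivOfCardEq (by rw [card_sigma_fin, hsum, Fintype.card_sum, Fintype.card_fin, two_mul])⟩
    obtain ⟨A, hAg, hAc⟩ := exists_matrix g E.symm d e hr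
    refine ⟨e, ⟨_, (hmem _).2 fun u v => ?_⟩, hAc⟩
    have hu := hAg (E u)
    have hv := hAg (E v)
    rw [E.symm_apply_apply] at hu hv
    rw [hu, hv, ← hE, E.apply_symm_apply, E.apply_symm_apply, hg', hE]

end Cfsg.Agent.S2582
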