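import Cfsg.Statements.S2583
import Cfsg.Agent.Lib.KnownSimple.JordanIsometry.Matrices

set_option autoImplicit false
open Cfsg Matrix CfsgLib.JordanIsometry

namespace Cfsg.Agent.S2583

/-- Which unipotent Jordan types occur in a finite orthogonal group in odd characteristic: over a finite field of odd order, a unipotent matrix with Jordan block sizes d_1, …, d_t (sum n, all at least 1) is similar to an isometry of some quadratic form on F^n with non-degenerate polar form if and only if every even block size occurs an even number of times. -/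
theorem result {F : Type*} [Field F] [Fintype F] (h2 : (2 : F) ≠ 0) {n t : ℕ} (d : Fin t → ℕ) (hd : ∀ k, 1 ≤ d k) (hsum : ∑ k, d k = n) : (∃ Q : QuadraticForm F (Fin n → F), (QuadraticMap.polarBilin Q).Nondegenerate ∧ ∃ e : ((k : Fin t) × Fin (d k)) ≃ Fin n, ∃ A : ↥(Cfsg.isometryGroup F ⇑Q), IsConj (Matrix.reindex e e (Cfsg.jordanTypeMatrix d F)) ((A : Matrix.GeneralLinearGroup (Fin n) F) : Matrix (Fin n) (Fin n) F)) ↔ ∀ j : ℕ, Even j → 0 < j → Even (Finset.univ.filter (fun k : Fin t => d k = j)).card := by
  classical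
  constructor
  · rintro ⟨Q, hQ, e, A, hA⟩
    have hr := nrk_of_isConj hA
    have hg : ∀ x, Q (glEquiv A.1 x) = Q x := fun x => A.2 x x
    have hgB : ∀ x y, QuadraticMap.polarBilin Q (glEquiv A.1 x) (glEquiv A.1 y) = QuadraticMap.polarBilin Q x y :=
      fun x y => by simp [QuadraticMap.polar, ← map_add, hg]
    intro j hj hpos
    rw [← sizes_count]
    obtain ⟨c, rfl⟩ := hj
    have key := even_nrk_symm (QuadraticMap.polarBilin Q) (glEquiv A.1) h2
      (fun x y => by simp [QuadraticMap.polar_comm _ x y]) hQ.1 hgB (pow_eq_zero_of_nrk hr)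
    refine even_count (glEquiv A.1) hr hpos ?_ ?_
    · have := key (c - 1)
      rwa [show 2 * (c - 1) + 1 = c + c - 1 by omega] at this
    · have := key c
      rwa [two_mul] at this
  · intro h
    obtain ⟨V, _, _, _, Q', g, hN', hg', hr⟩ : RepQuad F (sizes d) :=
      assemble (RepQuad F) (fun a => Odd a) RepQuad.zero (fun _ _ => RepQuad.add)
        (fun a _ he => RepQuad.single_odd h2 he)
        (fun a ha => RepQuad.pair a ha) _ (fun a => sizes_pos hd) fun a ha => by
          rw [sizes_count]
          rcases Nat.eq_zero_or_pos a with rfl | hpos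
          · rw [Finset.filter_eq_empty_iff.2 fun k _ hk => absurd hk (by have := hd k; omega), Finset.card_empty]
            exact ⟨0, rfl⟩
          · exact h a (Nat.not_odd_iff_even.1 ha) hpos
    let E : V ≃ₗ[F] (Fin n → F) := LinearEquiv.ofFinrankEq _ _ (by
      rw [finrank_of_nrk hr, sum_sizes, hsum, Module.finrank_fin_fun])
    refine ⟨Q'.comp E.symm.toLinearMap, ⟨fun x hx => ?_, fun x hx => ?_⟩, ?_⟩
    · exact E.symm.map_eq_zero_iff.1 (hN' _ fun y => by
        have := hx (E y)
        simpa [QuadraticMap.polar] using this)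
    · exact E.symm.map_eq_zero_iff.1 (hN' _ fun y => by
        have := hx (E y)
        rw [QuadraticMap.polarBilin_apply_apply, QuadraticMap.polar_comm] at this
        simpa [QuadraticMap.polar] using this)
    obtain ⟨e⟩ : Nonempty (((k : Fin t) × Fin (d k)) ≃ Fin n) :=
      ⟨Fintype.equivOfCardEq (by rw [card_sigma_fin, hsum, Fintype.card_fin])⟩
    obtain ⟨A, hAg, hAc⟩ := exists_matrix g E d e hr
    refine ⟨e, ⟨A, fun u _ => ?_⟩, hAc⟩
    have hu := hAg (E.symm u)
    rw [E.apply_symm_apply] at hu
    show Q' (E.symm ((A : Matrix (Fin n) (Fin n) F) *ᵥ u)) = Q' (E.symm u)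
    rw [hu, E.symm_apply_apply, hg']

end Cfsg.Agent.S2583
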