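import Cfsg.Statements.S2585

set_option autoImplicit false
open Cfsg

namespace Cfsg.Agent.S2585

/-- Over a finite field of characteristic two every element of the symplectic group is orthogonal for a suitable quadratic form: for each A in Sp_2m(F) there is a quadratic form Q on F^(2m) whose polar form is the alternating form defining Sp_2m(F) (so Q is non-degenerate) and which A preserves. Equivalently, for m ≥ 1, Sp_2m(F) is the union of the conjugates of its two orthogonal subgroups O⁺_2m(F) and O⁻_2m(F). -/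
theorem result {F : Type*} [Field F] [Fintype F] [CharP F 2] {m : ℕ} (A : Matrix.symplecticGroup (Fin m) F) : ∃ Q : QuadraticForm F (Fin m ⊕ Fin m → F), (∀ u v : Fin m ⊕ Fin m → F, QuadraticMap.polar ⇑Q u v = Cfsg.sympForm m F u v) ∧ ∀ v : Fin m ⊕ Fin m → F, Q ((A : Matrix (Fin m ⊕ Fin m) (Fin m ⊕ Fin m) F).mulVec v) = Q v := by
  classical
  let f : (Fin m ⊕ Fin m → F) → (Fin m ⊕ Fin m → F) → F := Cfsg.sympForm m F
  have hfA : ∀ u v, f ((A : Matrix (Fin m ⊕ Fin m) (Fin m ⊕ Fin m) F).mulVec u) ((A : Matrix (Fin m ⊕ Fin m) (Fin m ⊕ Fin m) F).mulVec v) = f u v := by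
    intro u v
    have h : (A : Matrix (Fin m ⊕ Fin m) (Fin m ⊕ Fin m) F).transpose * Matrix.J (Fin m) F * (A : Matrix (Fin m ⊕ Fin m) (Fin m ⊕ Fin m) F) = Matrix.J (Fin m) F := by
      have := (SymplecticGroup.mem_iff).1 (SymplecticGroup.transpose_mem A.2)
      rwa [Matrix.transpose_transpose] at this
    show dotProduct ((A : Matrix (Fin m ⊕ Fin m) (Fin m ⊕ Fin m) F).mulVec u) (Matrix.mulVec _ ((A : Matrix (Fin m ⊕ Fin m) (Fin m ⊕ Fin m) F).mulVec v)) = _
    rw [dotProduct_comm, Matrix.dotProduct_mulVec, dotProduct_comm, ← Matrix.mulVec_transpose,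
      Matrix.mulVec_mulVec, Matrix.mulVec_mulVec, h]
    rfl
  let Q0 : QuadraticForm F (Fin m ⊕ Fin m → F) :=
    ∑ i : Fin m, QuadraticMap.linMulLin (LinearMap.proj (Sum.inl i)) (LinearMap.proj (Sum.inr i))
  have hpolar : ∀ u v, Q0 (u + v) = Q0 u + Q0 v + f u v := by
    intro u v
    simp only [Q0, QuadraticMap.sum_apply, QuadraticMap.linMulLin_apply, LinearMap.proj_apply, Pi.add_apply]
    simp only [f, Cfsg.sympForm, Matrix.J, Matrix.fromBlocks_mulVec, dotProduct, Fintype.sum_sum_type,
      Sum.elim_inl, Sum.elim_inr, Pi.add_apply, Matrix.zero_mulVec, Matrix.neg_mulVec, Matrix.one_mulVec,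
      Pi.neg_apply, Pi.zero_apply, zero_add, add_zero, Function.comp_apply, CharTwo.neg_eq]
    rw [← Finset.sum_add_distrib, ← Finset.sum_add_distrib, ← Finset.sum_add_distrib]
    exact Finset.sum_congr rfl fun i _ => by ring
  let L : (Fin m ⊕ Fin m → F) →ₗ[F] (Fin m ⊕ Fin m → F) := Matrix.mulVecLin (A : Matrix (Fin m ⊕ Fin m) (Fin m ⊕ Fin m) F)
  let D : (Fin m ⊕ Fin m → F) → F := fun v => Q0 (L v) + Q0 v
  have hDadd : ∀ u v, D (u + v) = D u + D v := by
    intro u v
    simp only [D, map_add L, hpolar]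
    have h1 : f (L u) (L v) = f u v := hfA u v
    rw [h1]
    linear_combination (CharTwo.add_self_eq_zero (f u v))
  have hDsmul : ∀ (c : F) v, D (c • v) = c ^ 2 * D v := by
    intro c v
    simp only [D, map_smul, QuadraticMap.map_smul, smul_eq_mul]
    ring
  let ψ : F ≃+* F := (frobeniusEquiv F 2).symm
  have hψ : ∀ x : F, (ψ x) ^ 2 = x := fun x => frobeniusEquiv_symm_pow_p F 2 x
  let l0 : (Fin m ⊕ Fin m → F) →ₗ[F] F :=
    { toFun := fun v => ψ (D v)
      map_add' := fun u v => by rw [hDadd, map_add]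
      map_smul' := fun c v => by
        rw [hDsmul, map_mul, RingHom.id_apply, smul_eq_mul]
        congr 1
        exact (frobeniusEquiv F 2).symm_apply_apply c }
  have hker : l0 ∈ (LinearMap.ker (L - LinearMap.id)).dualAnnihilator := by
    rw [Submodule.mem_dualAnnihilator]
    intro v hv
    rw [LinearMap.mem_ker, LinearMap.sub_apply, sub_eq_zero] at hv
    show ψ (Q0 (L v) + Q0 v) = 0
    rw [show L v = v from hv, CharTwo.add_self_eq_zero, map_zero]
  rw [← LinearMap.range_dualMap_eq_dualAnnihilator_ker] at hker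
  obtain ⟨l, hl⟩ := hker
  refine ⟨Q0 + QuadraticMap.linMulLin l l, ?_, ?_⟩
  · intro u v
    simp only [QuadraticMap.polar, QuadraticMap.add_apply, QuadraticMap.linMulLin_apply, map_add, hpolar]
    linear_combination (CharTwo.add_self_eq_zero (l u * l v))
  · intro v
    have h1 := congrArg (fun g : Module.Dual F _ => (g v) ^ 2) hl
    simp only [LinearMap.dualMap_apply, LinearMap.sub_apply, LinearMap.id_apply, map_sub] at h1
    have h2 : (l0 v) ^ 2 = Q0 (L v) + Q0 v := hψ _
    rw [h2, CharTwo.sub_eq_add, CharTwo.add_sq] at h1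
    show Q0 (L v) + l (L v) * l (L v) = Q0 v + l v * l v
    refine CharTwo.add_eq_zero.1 ?_
    linear_combination h1 + (CharTwo.add_self_eq_zero (Q0 (L v) + Q0 v))

end Cfsg.Agent.S2585
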