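import Cfsg.Statements.S2586
import Mathlib
import Cfsg.Agent.Lib.Classical.SimilarTranspose
-- import your own Cfsg.Agent.* helpers here

set_option autoImplicit false
open Cfsg

namespace Cfsg.Agent.S2586

/-- Over a finite field, every element of the symplectic group Sp_2m(F) is conjugate by an invertible matrix to its inverse. -/
theorem result {F : Type*} [Field F] [Finite F] {m : ℕ} (A : Matrix.symplecticGroup (Fin m) F) : IsConj (A : Matrix (Fin m ⊕ Fin m) (Fin m ⊕ Fin m) F) ((A⁻¹ : Matrix.symplecticGroup (Fin m) F) : Matrix (Fin m ⊕ Fin m) (Fin m ⊕ Fin m) F) := by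
  have h := A.2
  rw [SymplecticGroup.mem_iff] at h
  refine (CfsgLib.Classical.SimTranspose.isConj_transpose (A : Matrix (Fin m ⊕ Fin m) (Fin m ⊕ Fin m) F)).trans ?_
  have hJ : IsUnit (Matrix.J (Fin m) F).det := Matrix.isUnit_det_J _ _
  refine ⟨Matrix.nonsingInvUnit (Matrix.J (Fin m) F) hJ, ?_⟩
  show Matrix.J (Fin m) F * (A : Matrix (Fin m ⊕ Fin m) (Fin m ⊕ Fin m) F).transpose =
    ((A⁻¹ : Matrix.symplecticGroup (Fin m) F) : Matrix (Fin m ⊕ Fin m) (Fin m ⊕ Fin m) F) * Matrix.J (Fin m) F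
  conv_rhs => rw [← h, ← Matrix.mul_assoc, ← Matrix.mul_assoc, ← Submonoid.coe_mul, inv_mul_cancel]
  rw [OneMemClass.coe_one, Matrix.one_mul]

end Cfsg.Agent.S2586
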