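import Cfsg.Statements.S2590
import Mathlib
import Cfsg.Agent.Lib.Classical.SemisimpleConjugacy
import Cfsg.Agent.Lib.Classical.QuadSpace
-- import your own Cfsg.Agent.* helpers here

set_option autoImplicit false
open Cfsg

namespace Cfsg.Agent.S2590

open Matrix CfsgLib.Classical

/-- Two semisimple elements of odd order of a finite orthogonal group (isometry group of a quadratic form on F^n with non-degenerate polar form, F finite of characteristic p; the elements have odd order prime to p) are conjugate in the orthogonal group if and only if they are conjugate in GL_n(F). -/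
theorem result {F : Type*} [Field F] [Fintype F] {p : ℕ} [Fact p.Prime] [CharP F p] {n : ℕ} (Q : QuadraticForm F (Fin n → F)) (hQ : (QuadraticMap.polarBilin Q).Nondegenerate) (A B : ↥(Cfsg.isometryGroup F ⇑Q)) (hodd : Odd (orderOf A)) (hA : (orderOf A).Coprime p) : IsConj A B ↔ IsConj ((A : Matrix.GeneralLinearGroup (Fin n) F) : Matrix (Fin n) (Fin n) F) ((B : Matrix.GeneralLinearGroup (Fin n) F) : Matrix (Fin n) (Fin n) F) := by
  classical
  constructor
  · exact fun h => ((Units.coeHom _).comp (Cfsg.isometryGroup F ⇑Q).subtype).map_isConj h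
  rintro ⟨c, hc⟩
  let N := orderOf A
  have hN : (N : F) ≠ 0 := fun h => by
    have h1 : p ∣ N := (CharP.cast_eq_zero_iff F p N).1 h
    exact (Fact.out : p.Prime).ne_one (Nat.dvd_one.1 (hA ▸ Nat.dvd_gcd h1 dvd_rfl))
  let P : (Fin n → F) ≃ₗ[F] (Fin n → F) := LinearEquiv.ofBijective
    (Matrix.toLin' (c : Matrix (Fin n) (Fin n) F))
    (Finite.injective_iff_bijective.1 (Matrix.mulVec_injective_iff_isUnit.2 c.isUnit))
  have hP : ∀ v, P v = (c : Matrix (Fin n) (Fin n) F) *ᵥ v := fun v => rfl
  let a : qAut Q := isoEquiv Q A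
  let b : qAut Q := isoEquiv Q B
  have ha : ∀ v, a.1 v = ((A : GL (Fin n) F) : Matrix (Fin n) (Fin n) F) *ᵥ v := fun v => rfl
  have hb : ∀ v, b.1 v = ((B : GL (Fin n) F) : Matrix (Fin n) (Fin n) F) *ᵥ v := fun v => rfl
  have hPA : ∀ v, P (a.1 v) = b.1 (P v) := fun v => by
    rw [hP, hP, ha, hb, mulVec_mulVec, mulVec_mulVec]
    exact congrArg (fun M : Matrix (Fin n) (Fin n) F => M *ᵥ v) hc
  have hpow : (a.1.toLinearMap : Module.End F (Fin n → F)) ^ N = 1 := by
    have h1 : a ^ N = 1 := by rw [← map_pow, pow_orderOf_eq_one, map_one]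
    have h2 : ∀ k : ℕ, ((a.1.toLinearMap : Module.End F (Fin n → F)) ^ k) = (a ^ k).1.toLinearMap := fun k => by
      induction k with
      | zero => rfl
      | succ k ih => rw [pow_succ, ih, pow_succ]; rfl
    rw [h2, h1]; rfl
  obtain ⟨g, hgQ, hgA⟩ := CfsgLib.Classical.SemiConj.exists_quad_intertwine Q (polarNondeg_of_nondegenerate hQ) hN hodd
    a.1 b.1 P hPA hpow (fun v => a.2 v) (fun v => b.2 v)
  have : IsConj a b := isConj_iff.2 ⟨⟨g, hgQ⟩, by
    rw [mul_inv_eq_iff_eq_mul]; exact qAut_ext fun v => hgA v⟩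
  have := (isoEquiv Q).symm.toMonoidHom.map_isConj this
  simpa [a, b] using this

end Cfsg.Agent.S2590
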