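import Cfsg.Statements.S2594
import Mathlib
import Cfsg.Agent.Lib.Classical.SpSimple
import Cfsg.Agent.Lib.Classical.SpOrder
-- import your own Cfsg.Agent.* helpers here

set_option autoImplicit false
open Cfsg

namespace Cfsg.Agent.S2594

open Matrix CfsgLib.Classical

theorem exists_rank_one {ι F : Type*} [Fintype ι] [DecidableEq ι] [Field F] (X : Matrix ι ι F) (h : X.rank = 1) :
    ∃ (v : ι → F) (φ : ι → F), v ≠ 0 ∧ ∀ x, X *ᵥ x = (φ ⬝ᵥ x) • v := by
  obtain ⟨⟨v, hv⟩, hv0, hspan⟩ := finrank_eq_one_iff'.1 h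
  have hv0' : v ≠ 0 := fun h => hv0 (Subtype.ext h)
  choose c hc using fun i => hspan ⟨X *ᵥ Pi.single i 1, LinearMap.mem_range_self _ _⟩
  refine ⟨v, c, hv0', fun x => ?_⟩
  have hx : x = ∑ i, x i • (Pi.single i 1 : ι → F) := by
    funext j; simp [Finset.sum_apply, Pi.single_apply]
  conv_lhs => rw [hx]
  rw [Matrix.mulVec_sum, dotProduct, Finset.sum_smul]
  refine Finset.sum_congr rfl fun i _ => ?_
  rw [Matrix.mulVec_smul, ← show c i • v = X *ᵥ Pi.single i 1 from congrArg Subtype.val (hc i), smul_smul, mul_comm]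

/-- Over a finite field with q elements, q even, an element t of Sp_2m(F) with rank(t − 1) = 1 (a symplectic transvection) has centraliser in Sp_2m(F) of order q^(2m−1) · |Sp_(2m−2)(q)| = q^(2m−1) · q^((m−1)²) · Π_(i=1)^(m−1) (q^(2i) − 1). -/
theorem result {F : Type*} [Field F] [Fintype F] [CharP F 2] {q : ℕ} (hF : Fintype.card F = q) {m : ℕ} (hm : 1 ≤ m) (t : Matrix.symplecticGroup (Fin m) F) (ht : ((t : Matrix (Fin m ⊕ Fin m) (Fin m ⊕ Fin m) F) - 1).rank = 1) : Nat.card ↥(Subgroup.centralizer ({t} : Set ↥(Matrix.symplecticGroup (Fin m) F))) = q ^ (2 * m - 1) * (q ^ ((m - 1) ^ 2) * ∏ i : Fin (m - 1), (q ^ (2 * ((i : ℕ) + 1)) - 1)) := by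
  classical
  subst hF
  obtain ⟨v, φ, hv, hX⟩ := exists_rank_one ((t : Matrix (Fin m ⊕ Fin m) (Fin m ⊕ Fin m) F) - 1) ht
  have htx : ∀ x, (t : Matrix (Fin m ⊕ Fin m) (Fin m ⊕ Fin m) F) *ᵥ x = x + (φ ⬝ᵥ x) • v := fun x => by
    rw [← hX, sub_mulVec, one_mulVec, add_sub_cancel]
  obtain ⟨y₀, hy₀⟩ := exists_sympForm_ne_zero hv
  set c := -((φ ⬝ᵥ y₀) / Cfsg.sympForm m F v y₀) with hc
  have hφ : ∀ x, φ ⬝ᵥ x = c * Cfsg.sympForm m F x v := fun x => by
    have h := sp_form t x y₀
    simp only [htx, sympForm_add_left, sympForm_add_right, sympForm_smul_left, sympForm_smul_right, sympForm_self] at h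
    rw [hc]
    field_simp
    linear_combination h
  have ht' : t = spT v c := sp_ext fun x => by rw [htx, spT_apply, hφ]
  have hc0 : c ≠ 0 := fun h0 => by
    have : ((t : Matrix (Fin m ⊕ Fin m) (Fin m ⊕ Fin m) F) - 1) = 0 := by
      rw [ht', h0, spT_zero]; simp
    rw [this, Matrix.rank_zero] at ht
    exact zero_ne_one ht
  have hcent : Subgroup.centralizer ({t} : Set ↥(Matrix.symplecticGroup (Fin m) F)) =
      MulAction.stabilizer ↥(Matrix.symplecticGroup (Fin m) F) v := by
    ext g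
    rw [Subgroup.mem_centralizer_singleton_iff, MulAction.mem_stabilizer_iff, sp_smul_def, ht',
      ← mul_inv_eq_iff_eq_mul, spT_conj]
    constructor
    · intro h
      have hgv : g.1 *ᵥ v ≠ 0 := fun h0 => hv (sp_mulVec_injective g (h0.trans (Matrix.mulVec_zero _).symm))
      obtain ⟨x, hx⟩ := exists_sympForm_ne_zero hgv
      have hx' : Cfsg.sympForm m F x (g.1 *ᵥ v) ≠ 0 := by rw [sympForm_swap]; exact neg_ne_zero.2 hx
      have key : ∀ y, (c * Cfsg.sympForm m F y (g.1 *ᵥ v)) • (g.1 *ᵥ v) = (c * Cfsg.sympForm m F y v) • v := fun y => by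
        have := congrArg (fun s : ↥(Matrix.symplecticGroup (Fin m) F) => s.1 *ᵥ y) h
        simpa [spT_apply] using this
      set a := Cfsg.sympForm m F x v / Cfsg.sympForm m F x (g.1 *ᵥ v) with ha
      have hga : g.1 *ᵥ v = a • v := by
        have := key x
        rw [← sub_eq_zero] at this ⊢
        have e : g.1 *ᵥ v - a • v = (c * Cfsg.sympForm m F x (g.1 *ᵥ v))⁻¹ •
            ((c * Cfsg.sympForm m F x (g.1 *ᵥ v)) • (g.1 *ᵥ v) - (c * Cfsg.sympForm m F x v) • v) := by
          rw [smul_sub, inv_smul_smul₀ (mul_ne_zero hc0 hx'), smul_smul, ha]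
          congr 2
          field_simp
        rw [e, this, smul_zero]
      have ha1 : a = 1 := by
        obtain ⟨y, hy⟩ := exists_sympForm_ne_zero hv
        have h3 := key y
        rw [hga, sympForm_smul_right, smul_smul] at h3
        have h4 := smul_left_injective F hv h3
        have hy' : Cfsg.sympForm m F y v ≠ 0 := by rw [sympForm_swap]; exact neg_ne_zero.2 hy
        have h5 : a * a = 1 := mul_left_cancel₀ (mul_ne_zero hc0 hy') (by linear_combination h4)
        rcases mul_self_eq_one_iff.1 h5 with h6 | h6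
        · exact h6
        · rw [h6, CharTwo.neg_eq]
      rw [hga, ha1, one_smul]
    · intro h; rw [h]
  have horb : MulAction.orbit ↥(Matrix.symplecticGroup (Fin m) F) v = {w | w ≠ 0} := by
    ext w
    constructor
    · rintro ⟨g, rfl⟩ h0
      exact hv (sp_mulVec_injective g (h0.trans (Matrix.mulVec_zero _).symm))
    · intro hw
      obtain ⟨g, -, hg⟩ := exists_sp_move hv hw
      exact ⟨g, hg⟩
  have hidx : (MulAction.stabilizer ↥(Matrix.symplecticGroup (Fin m) F) v).index = Fintype.card F ^ (2 * m) - 1 := by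
    rw [MulAction.index_stabilizer, horb, show {w : Fin m ⊕ Fin m → F | w ≠ 0} = {0}ᶜ from rfl, Set.ncard_compl,
      Set.ncard_singleton, Nat.card_eq_fintype_card, Fintype.card_fun, Fintype.card_sum, Fintype.card_fin, two_mul]
  have hmul := Subgroup.card_mul_index (MulAction.stabilizer ↥(Matrix.symplecticGroup (Fin m) F) v)
  rw [hidx, card_sp] at hmul
  obtain ⟨k, rfl⟩ : ∃ k, m = k + 1 := ⟨m - 1, by omega⟩
  rw [Finset.prod_range_succ] at hmul
  have hpos : 0 < Fintype.card F ^ (2 * (k + 1)) - 1 := by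
    have := Nat.one_lt_pow (show 2 * (k + 1) ≠ 0 by omega) (Fintype.one_lt_card (α := F))
    omega
  rw [hcent, Nat.add_sub_cancel, Fin.prod_univ_eq_prod_range (fun i => Fintype.card F ^ (2 * (i + 1)) - 1) k]
  refine Nat.eq_of_mul_eq_mul_right hpos (hmul.trans ?_)
  rw [show (k + 1) ^ 2 = (2 * (k + 1) - 1) + k ^ 2 by
    rw [show 2 * (k + 1) - 1 = 2 * k + 1 by omega]; ring, pow_add]
  ring

end Cfsg.Agent.S2594
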