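import Cfsg.Statements.S2599
import Mathlib
-- import your own Cfsg.Agent.* helpers here

set_option autoImplicit false
open Cfsg

namespace Cfsg.Agent.S2599

/-- An irreducible invariant subspace of a semisimple isometry is non-degenerate or totally singular: let Q be a quadratic form on F^n (F finite of characteristic p) with non-degenerate polar form f, x an isometry of Q of order prime to p, and U a non-zero x-invariant subspace containing no x-invariant subspace other than 0 and U. Then U meets its f-orthogonal trivially, or Q vanishes on U, or p = 2, U is a line spanned by a non-singular vector and x fixes U pointwise. -/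
theorem result {F : Type*} [Field F] [Fintype F] {p : ℕ} [Fact p.Prime] [CharP F p] {n : ℕ} (Q : QuadraticForm F (Fin n → F)) (hQ : (QuadraticMap.polarBilin Q).Nondegenerate) (x : ↥(Cfsg.isometryGroup F ⇑Q)) (hx : (orderOf x).Coprime p) (U : Submodule F (Fin n → F)) (hU0 : U ≠ ⊥) (hUx : ∀ u ∈ U, ((x : Matrix.GeneralLinearGroup (Fin n) F) : Matrix (Fin n) (Fin n) F).mulVec u ∈ U) (hirr : ∀ W : Submodule F (Fin n → F), W ≤ U → (∀ w ∈ W, ((x : Matrix.GeneralLinearGroup (Fin n) F) : Matrix (Fin n) (Fin n) F).mulVec w ∈ W) → W = ⊥ ∨ W = U) : U ⊓ LinearMap.BilinForm.orthogonal (QuadraticMap.polarBilin Q) U = ⊥ ∨ (∀ u ∈ U, Q u = 0) ∨ (p = 2 ∧ Module.finrank F U = 1 ∧ (∃ u ∈ U, Q u ≠ 0) ∧ ∀ u ∈ U, ((x : Matrix.GeneralLinearGroup (Fin n) F) : Matrix (Fin n) (Fin n) F).mulVec u = u) := by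
  classical
  let M : Matrix (Fin n) (Fin n) F := ((x : Matrix.GeneralLinearGroup (Fin n) F) : Matrix (Fin n) (Fin n) F)
  have hiso : ∀ v, Q (M.mulVec v) = Q v := fun v => x.2 v 0
  let B := QuadraticMap.polarBilin Q
  have hB : ∀ v w, B (M.mulVec v) (M.mulVec w) = B v w := fun v w => by
    simp only [B, QuadraticMap.polarBilin_apply_apply, QuadraticMap.polar, ← Matrix.mulVec_add, hiso]
  have hinj : Function.Injective M.mulVec := Matrix.mulVec_injective_iff_isUnit.2 (Units.isUnit _)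
  have hsurj : ∀ u ∈ U, ∃ u' ∈ U, M.mulVec u' = u := by
    intro u hu
    have hi : Function.Injective (fun a : U => (⟨M.mulVec a, hUx a a.2⟩ : U)) := fun a b h =>
      Subtype.ext (hinj (congrArg Subtype.val h))
    obtain ⟨a, ha⟩ := Finite.injective_iff_surjective.1 hi ⟨u, hu⟩
    exact ⟨a, a.2, congrArg Subtype.val ha⟩
  rcases hirr (U ⊓ LinearMap.BilinForm.orthogonal B U) inf_le_left (fun w hw => by
    refine Submodule.mem_inf.2 ⟨hUx w hw.1, LinearMap.BilinForm.mem_orthogonal_iff.2 fun u hu => ?_⟩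
    obtain ⟨u', hu', rfl⟩ := hsurj u hu
    exact (hB u' w).trans (LinearMap.BilinForm.mem_orthogonal_iff.1 hw.2 u' hu')) with h | h
  · exact Or.inl h
  right
  have hp : ∀ u ∈ U, ∀ v ∈ U, B u v = 0 := fun u hu v hv =>
    LinearMap.BilinForm.mem_orthogonal_iff.1 ((h.symm.le hv)).2 u hu
  have h2Q : ∀ u ∈ U, (2 : F) * Q u = 0 := fun u hu => by
    have := hp u hu u hu
    rwa [QuadraticMap.polarBilin_apply_apply, QuadraticMap.polar_self, nsmul_eq_mul, Nat.cast_ofNat] at this
  by_cases h2 : (2 : F) = 0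
  swap
  · exact Or.inl fun u hu => (mul_eq_zero.1 (h2Q u hu)).resolve_left h2
  have hp2 : p = 2 := ((Nat.prime_dvd_prime_iff_eq Fact.out Nat.prime_two).1 ((CharP.cast_eq_zero_iff F p 2).1 (by exact_mod_cast h2)))
  subst hp2
  have hadd : ∀ u ∈ U, ∀ v ∈ U, Q (u + v) = Q u + Q v := fun u hu v hv => by
    have := hp u hu v hv
    rw [QuadraticMap.polarBilin_apply_apply, QuadraticMap.polar, sub_sub, sub_eq_zero] at this
    exact this
  let K : Submodule F (Fin n → F) :=
    { carrier := {u | u ∈ U ∧ Q u = 0}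
      zero_mem' := ⟨U.zero_mem, QuadraticMap.map_zero Q⟩
      add_mem' := fun {a b} ha hb => ⟨U.add_mem ha.1 hb.1, by rw [hadd a ha.1 b hb.1, ha.2, hb.2, add_zero]⟩
      smul_mem' := fun c a ha => ⟨U.smul_mem c ha.1, by rw [QuadraticMap.map_smul, ha.2, smul_zero]⟩ }
  rcases hirr K (fun u hu => hu.1) (fun w hw => ⟨hUx w hw.1, (hiso w).trans hw.2⟩) with hK | hK
  swap
  · exact Or.inl fun u hu => ((hK ▸ hu : u ∈ K)).2
  right
  have hQi : Function.Injective (fun u : U => Q u) := fun a b hab => by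
    have hm : (a : Fin n → F) + b ∈ K := ⟨U.add_mem a.2 b.2, by
      rw [hadd a a.2 b b.2, show Q a = Q b from hab, CharTwo.add_self_eq_zero]⟩
    rw [hK, Submodule.mem_bot] at hm
    refine Subtype.ext ?_
    rw [← sub_eq_zero, ← hm, sub_eq_add_neg]
    congr 1
    exact funext fun i => CharTwo.neg_eq _
  obtain ⟨v, hv, hv0⟩ := U.ne_bot_iff.1 hU0
  have hQv : Q v ≠ 0 := fun h0 => hv0 (congrArg Subtype.val (@hQi ⟨v, hv⟩ 0 (by simp [h0])))
  have hdim : Module.finrank F U = 1 := by
    have hle := Nat.card_le_card_of_injective _ hQi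
    rw [Module.natCard_eq_pow_finrank (K := F)] at hle
    have h1 : Module.finrank F U ≤ 1 := (Nat.pow_le_pow_iff_right (Finite.one_lt_card (α := F))).1 (hle.trans (pow_one _).ge)
    have h0 : Module.finrank F U ≠ 0 := fun h0 => hU0 (Submodule.finrank_eq_zero.1 h0)
    omega
  refine ⟨rfl, hdim, ⟨v, hv, hQv⟩, fun u hu => ?_⟩
  exact congrArg Subtype.val (@hQi ⟨M.mulVec u, hUx u hu⟩ ⟨u, hu⟩ (hiso u))

end Cfsg.Agent.S2599
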