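import Cfsg.Statements.S2601
import Cfsg.Agent.Lib.KnownSimple.PSLAut.Out

set_option autoImplicit false
open Cfsg CfsgLib.PSLAut

namespace Cfsg.Agent.S2601

/-- Structure of the outer automorphism group of PSL_n(q), n ≥ 3, q = p^f: it has a normal cyclic subgroup of order gcd(n, q − 1) (the diagonal automorphisms) whose quotient is the direct product of a cyclic group of order f (field automorphisms) and a group of order 2 (the inverse-transpose graph automorphism). -/
theorem result {F : Type*} [Field F] [Fintype F] {p f n : ℕ} [Fact p.Prime] (hf : 1 ≤ f) (hF : Fintype.card F = p ^ f) (hn : 3 ≤ n) : ∃ φ : Cfsg.Out (Matrix.ProjectiveSpecialLinearGroup (Fin n) F) →* Multiplicative (ZMod f × ZMod 2), Function.Surjective φ ∧ IsCyclic φ.ker ∧ Nat.card φ.ker = Nat.gcd n (p ^ f - 1) := by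
  obtain ⟨ψ, hs, hk, -⟩ := exists_aut_hom_three (F := F) hn
  obtain ⟨e⟩ := exists_ringAut_equiv (F := F) hF
  let E : ((F ≃+* F) × Multiplicative (ZMod 2)) ≃* Multiplicative (ZMod f × ZMod 2) :=
    (e.prodCongr (MulEquiv.refl _)).trans
      { toFun := fun x => Multiplicative.ofAdd (Multiplicative.toAdd x.1, Multiplicative.toAdd x.2)
        invFun := fun x => (Multiplicative.ofAdd (Multiplicative.toAdd x).1, Multiplicative.ofAdd (Multiplicative.toAdd x).2)
        left_inv := fun x => rfl
        right_inv := fun x => rfl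
        map_mul' := fun x y => rfl }
  obtain ⟨φ, h1, h2, h3⟩ := out_structure (by omega) (E.toMonoidHom.comp ψ) (E.surjective.comp hs)
    (by rw [← hk]; ext β; simp)
  exact ⟨φ, h1, h2, by rw [h3, hF]⟩

end Cfsg.Agent.S2601
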