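import Cfsg.Statements.S2612
import Mathlib
import Cfsg.Agent.Lib.Classical.SpinorPlus
-- import your own Cfsg.Agent.* helpers here

set_option autoImplicit false
open Cfsg

namespace Cfsg.Agent.S2612

/-- For the hyperbolic quadratic form Σ x_i y_i on F^(2m) (F finite, m ≥ 1, excluding m = 2 over the field of two elements), Ω⁺_2m(F) (the commutator subgroup of the orthogonal group) contains an element interchanging the two complementary maximal totally singular subspaces {y = 0} and {x = 0} if and only if m is even (dimension divisible by 4). -/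
theorem result {F : Type*} [Field F] [Fintype F] {m : ℕ} (hm : 1 ≤ m) (h : Fintype.card F ≠ 2 ∨ m ≠ 2) : (∃ g : ↥(Cfsg.isometryGroup F (Cfsg.quadFormPlus m F)), g ∈ Cfsg.Omega F (Cfsg.quadFormPlus m F) ∧ (∀ v : Fin m ⊕ Fin m → F, (∀ i, v (Sum.inr i) = 0) → ∀ i, (((g : Matrix.GeneralLinearGroup (Fin m ⊕ Fin m) F) : Matrix (Fin m ⊕ Fin m) (Fin m ⊕ Fin m) F).mulVec v) (Sum.inl i) = 0) ∧ (∀ v : Fin m ⊕ Fin m → F, (∀ i, v (Sum.inl i) = 0) → ∀ i, (((g : Matrix.GeneralLinearGroup (Fin m ⊕ Fin m) F) : Matrix (Fin m ⊕ Fin m) (Fin m ⊕ Fin m) F).mulVec v) (Sum.inr i) = 0)) ↔ Even m := by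
  classical
  rw [← CfsgLib.Classical.coe_qPlus]
  obtain ⟨s, hs, hsr, hsO⟩ := CfsgLib.Classical.Spin.exists_swap (F := F) h
  constructor
  · rintro ⟨g, hgO, hx, hy⟩
    set G := ((g : Matrix.GeneralLinearGroup (Fin m ⊕ Fin m) F) : Matrix (Fin m ⊕ Fin m) (Fin m ⊕ Fin m) F) with hG
    have h11 : G.toBlocks₁₁ = 0 := Matrix.ext fun a b => by
      have := hx (Pi.single (Sum.inl b) 1) (fun i => by simp) a
      simpa [Matrix.toBlocks₁₁] using this
    have h22 : G.toBlocks₂₂ = 0 := Matrix.ext fun a b => by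
      have := hy (Pi.single (Sum.inr b) 1) (fun i => by simp) a
      simpa [Matrix.toBlocks₂₂] using this
    have hGb : G = Matrix.fromBlocks 0 G.toBlocks₁₂ G.toBlocks₂₁ 0 := by
      conv_lhs => rw [← Matrix.fromBlocks_toBlocks G, h11, h22]
    set C := G.toBlocks₂₁
    set B := G.toBlocks₁₂
    have hk : (((s * g : ↥(Cfsg.isometryGroup F ⇑(CfsgLib.Classical.qPlus m F))) : Matrix.GeneralLinearGroup (Fin m ⊕ Fin m) F) : Matrix (Fin m ⊕ Fin m) (Fin m ⊕ Fin m) F) = Matrix.fromBlocks C 0 0 B := by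
      rw [Subgroup.coe_mul, Units.val_mul, hs, ← hG, hGb, Matrix.fromBlocks_multiply]
      simp
    have hCB : C.transpose * B = 1 := Matrix.ext fun a b => by
      have h1 := CfsgLib.Classical.iso_polar (CfsgLib.Classical.qPlus m F) (s * g) (Pi.single (Sum.inl a) 1) (Pi.single (Sum.inr b) 1)
      rw [CfsgLib.Classical.isoApply, CfsgLib.Classical.isoApply, hk, CfsgLib.Classical.Spin.polar_qPlus_inr,
        CfsgLib.Classical.Spin.polar_qPlus_dot] at h1
      simpa [Matrix.mulVec_single, Matrix.mul_apply, dotProduct, Function.comp_def, Matrix.one_apply, Pi.single_apply, eq_comm] using h1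
    have hdet : C.det ≠ 0 := fun h0 => by
      have := congrArg Matrix.det hCB
      rw [Matrix.det_mul, Matrix.det_transpose, h0, zero_mul, Matrix.det_one] at this
      exact zero_ne_one this
    have hB : B = (C⁻¹).transpose := by
      rw [Matrix.transpose_nonsing_inv, Matrix.inv_eq_right_inv hCB]
    have heven := CfsgLib.Classical.Spin.levi_even (Matrix.GeneralLinearGroup.mkOfDetNeZero C hdet) (s * g)
      (hk.trans (by rw [hB]; rfl))
    obtain ⟨θ, -, hiff⟩ := CfsgLib.Classical.Spin.exists_spin (CfsgLib.Classical.qPlus m F) (CfsgLib.Classical.polarNondeg_qPlus m) (by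
      rw [Module.finrank_pi, Fintype.card_sum, Fintype.card_fin]; omega)
    have hge := ((hiff _).1 ((CfsgLib.Classical.mem_Omega_iff _).1 hgO)).1
    obtain ⟨D, hD, -⟩ := CfsgLib.Classical.exists_parity_hom (CfsgLib.Classical.qPlus m F) (CfsgLib.Classical.polarNondeg_qPlus m)
      (CfsgLib.Classical.reflGroup_eq_top _ (CfsgLib.Classical.polarNondeg_qPlus m) (by
      rw [Module.finrank_pi, Fintype.card_sum, Fintype.card_fin]; omega))
    have h0 : Multiplicative.ofAdd ((CfsgLib.Classical.qRank (CfsgLib.Classical.qPlus m F) (CfsgLib.Classical.isoEquiv _ (s * g)) : ℕ) : ZMod 2) =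
        Multiplicative.ofAdd (m : ZMod 2) := by
      rw [← hD, map_mul, map_mul, hD, hD, hsr, ← ofAdd_add, (ZMod.natCast_eq_zero_iff_even).2 hge, add_zero]
    rw [(ZMod.natCast_eq_zero_iff_even).2 heven] at h0
    exact (ZMod.natCast_eq_zero_iff_even).1 (Multiplicative.ofAdd.injective h0).symm
  · intro he
    refine ⟨s, hsO.2 he, fun v hv i => ?_, fun v hv i => ?_⟩
    · rw [hs, Matrix.fromBlocks_mulVec]
      simp [hv, Function.comp_def]
    · rw [hs, Matrix.fromBlocks_mulVec]
      simp [hv, Function.comp_def]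

end Cfsg.Agent.S2612
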