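import Cfsg.Statements.S2613
import Mathlib
import Cfsg.Agent.Lib.Classical.SpinorPlus
import Cfsg.Agent.Lib.Classical.QuadBases
-- import your own Cfsg.Agent.* helpers here

set_option autoImplicit false
open Cfsg

namespace Cfsg.Agent.S2613

/-- For the hyperbolic form Σ x_j y_j on F^(2m), F finite with q elements, q odd, and 1 ≤ i ≤ m: the involution negating the first i hyperbolic pairs (x_j, y_j ↦ −x_j, −y_j for j < i) and fixing the rest lies in Ω⁺_2m(q) (commutator subgroup of the orthogonal group) if and only if q^i ≡ 1 (mod 4); its (−1)-eigenspace is a hyperbolic 2i-space. -/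
theorem result {F : Type*} [Field F] [Fintype F] {q : ℕ} (hF : Fintype.card F = q) (hq : Odd q) {m : ℕ} (i : ℕ) (hi : 1 ≤ i) (him : i ≤ m) : (∃ g : ↥(Cfsg.isometryGroup F (Cfsg.quadFormPlus m F)), g ∈ Cfsg.Omega F (Cfsg.quadFormPlus m F) ∧ ((g : Matrix.GeneralLinearGroup (Fin m ⊕ Fin m) F) : Matrix (Fin m ⊕ Fin m) (Fin m ⊕ Fin m) F) = Matrix.diagonal (fun k : Fin m ⊕ Fin m => if (Sum.elim (fun j : Fin m => (j : ℕ)) (fun j : Fin m => (j : ℕ)) k) < i then (-1 : F) else 1)) ↔ q ^ i % 4 = 1 := by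
  classical
  subst hF
  have h2 : (2 : F) ≠ 0 := fun h => by
    haveI : CharP F 2 := CharTwo.of_one_ne_zero_of_two_eq_zero one_ne_zero h
    have := FiniteField.even_card_of_char_two (ringChar.eq F 2)
    rw [Nat.odd_iff] at hq
    omega
  have hex : ∀ n : ℕ, Fintype.card F ≠ 2 ∨ n ≠ 4 := fun n => Or.inl fun h => by
    rw [Nat.odd_iff] at hq
    omega
  rw [← CfsgLib.Classical.isSquare_neg_one_pow_iff h2]
  rw [← CfsgLib.Classical.coe_qPlus]
  refine CfsgLib.Classical.Spin.pair_involution_iff _ (CfsgLib.Classical.polarNondeg_qPlus m) (hex _)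
    (fun j : Fin i => Sum.inl (Fin.castLE him j)) (fun j : Fin i => Sum.inr (Fin.castLE him j))
    (Sum.inl_injective.comp (Fin.castLE_injective him)) (Sum.inr_injective.comp (Fin.castLE_injective him))
    (fun a b => Sum.inl_ne_inr) (fun x j => CfsgLib.Classical.Spin.polar_qPlus_inl x _)
    (fun x j => CfsgLib.Classical.Spin.polar_qPlus_inr x _) (fun j => CfsgLib.Classical.Spin.qPlus_single _)
    (fun j => CfsgLib.Classical.Spin.qPlus_single _) _ (fun j => if_pos j.2) (fun j => if_pos j.2) fun k hk => ?_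
  rcases k with a | a <;> refine if_neg fun ha => ?_
  · exact (hk ⟨a, ha⟩).1 rfl
  · exact (hk ⟨a, ha⟩).2 rfl

end Cfsg.Agent.S2613
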