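import Cfsg.Statements.S2614
import Mathlib
import Cfsg.Agent.Lib.Classical.SpinorPlus
import Cfsg.Agent.Lib.Classical.QuadBases
-- import your own Cfsg.Agent.* helpers here

set_option autoImplicit false
open Cfsg

namespace Cfsg.Agent.S2614

/-- For the form x_0² + Σ x_j y_j on F^(2m+1), F finite with q elements, q odd, and 1 ≤ i ≤ m: the involution of determinant one negating the first i hyperbolic pairs (and fixing x_0 and the other pairs) lies in Ω_(2m+1)(q) (commutator subgroup of the orthogonal group) if and only if q^i ≡ 1 (mod 4); its (−1)-eigenspace is a hyperbolic 2i-space. -/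
theorem result {F : Type*} [Field F] [Fintype F] {q : ℕ} (hF : Fintype.card F = q) (hq : Odd q) {m : ℕ} (i : ℕ) (hi : 1 ≤ i) (him : i ≤ m) : (∃ g : ↥(Cfsg.isometryGroup F (Cfsg.quadFormOdd m F)), g ∈ Cfsg.Omega F (Cfsg.quadFormOdd m F) ∧ ((g : Matrix.GeneralLinearGroup (Unit ⊕ (Fin m ⊕ Fin m)) F) : Matrix (Unit ⊕ (Fin m ⊕ Fin m)) (Unit ⊕ (Fin m ⊕ Fin m)) F) = Matrix.diagonal (fun k : Unit ⊕ (Fin m ⊕ Fin m) => if (Sum.elim (fun _ : Unit => i) (Sum.elim (fun j : Fin m => (j : ℕ)) (fun j : Fin m => (j : ℕ))) k) < i then (-1 : F) else 1)) ↔ q ^ i % 4 = 1 := by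
  classical
  subst hF
  have h2 : (2 : F) ≠ 0 := fun h => by
    haveI : CharP F 2 := CharTwo.of_one_ne_zero_of_two_eq_zero one_ne_zero h
    have := FiniteField.even_card_of_char_two (ringChar.eq F 2)
    rw [Nat.odd_iff] at hq
    omega
  have hex : ∀ n : ℕ, Fintype.card F ≠ 2 ∨ n ≠ 4 := fun n => Or.inl fun h => by
    rw [Nat.odd_iff] at hq
    omega
  rw [← CfsgLib.Classical.isSquare_neg_one_pow_iff h2]
  rw [← CfsgLib.Classical.coe_qOdd]
  refine CfsgLib.Classical.Spin.pair_involution_iff _ (CfsgLib.Classical.polarNondeg_qOdd h2 m) (hex _)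
    (fun j : Fin i => CfsgLib.Classical.oL (Fin.castLE him j)) (fun j : Fin i => CfsgLib.Classical.oR (Fin.castLE him j))
    ((Sum.inr_injective.comp Sum.inl_injective).comp (Fin.castLE_injective him))
    ((Sum.inr_injective.comp Sum.inr_injective).comp (Fin.castLE_injective him))
    (fun a b => by simp) (fun x j => ?_) (fun x j => ?_) (fun j => ?_) (fun j => ?_) _
    (fun j => if_pos j.2) (fun j => if_pos j.2) fun k hk => ?_
  · simp [CfsgLib.Classical.qOdd_polar, Pi.single_apply]
  · simp [CfsgLib.Classical.qOdd_polar, Pi.single_apply]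
  · simp [CfsgLib.Classical.qOdd_apply, Pi.single_apply]
  · simp [CfsgLib.Classical.qOdd_apply, Pi.single_apply]
  · rcases k with u | a | a <;> refine if_neg fun ha => ?_
    · simp at ha
    · exact (hk ⟨a, ha⟩).1 rfl
    · exact (hk ⟨a, ha⟩).2 rfl

end Cfsg.Agent.S2614
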