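import Cfsg.Statements.S2615
import Mathlib
import Cfsg.Agent.Lib.Classical.SpinorPlus
import Cfsg.Agent.Lib.Classical.QuadBases
-- import your own Cfsg.Agent.* helpers here

set_option autoImplicit false
open Cfsg

namespace Cfsg.Agent.S2615

/-- For an elliptic form Σ_(j<m−1) x_j y_j + (z₁² + a z₁z₂ + b z₂²) (anisotropic binary part) on F^(2m), F finite with q elements, q odd, and 1 ≤ i ≤ m − 1: the involution negating the first i hyperbolic pairs and fixing the rest lies in Ω⁻_2m(q) (commutator subgroup of the orthogonal group) if and only if q^i ≡ 1 (mod 4). -/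
theorem result {F : Type*} [Field F] [Fintype F] {q : ℕ} (hF : Fintype.card F = q) (hq : Odd q) {m : ℕ} (a b : F) (hab : ∀ z₁ z₂ : F, z₁ ^ 2 + a * z₁ * z₂ + b * z₂ ^ 2 = 0 → z₁ = 0 ∧ z₂ = 0) (i : ℕ) (hi : 1 ≤ i) (him : i + 1 ≤ m) : (∃ g : ↥(Cfsg.isometryGroup F (Cfsg.quadFormMinus (m - 1) F a b)), g ∈ Cfsg.Omega F (Cfsg.quadFormMinus (m - 1) F a b) ∧ ((g : Matrix.GeneralLinearGroup ((Fin (m - 1) ⊕ Fin (m - 1)) ⊕ Fin 2) F) : Matrix ((Fin (m - 1) ⊕ Fin (m - 1)) ⊕ Fin 2) ((Fin (m - 1) ⊕ Fin (m - 1)) ⊕ Fin 2) F) = Matrix.diagonal (fun k : (Fin (m - 1) ⊕ Fin (m - 1)) ⊕ Fin 2 => if (Sum.elim (Sum.elim (fun j : Fin (m - 1) => (j : ℕ)) (fun j : Fin (m - 1) => (j : ℕ))) (fun _ : Fin 2 => i) k) < i then (-1 : F) else 1)) ↔ q ^ i % 4 = 1 := by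
  classical
  subst hF
  have h2 : (2 : F) ≠ 0 := fun h => by
    haveI : CharP F 2 := CharTwo.of_one_ne_zero_of_two_eq_zero one_ne_zero h
    have := FiniteField.even_card_of_char_two (ringChar.eq F 2)
    rw [Nat.odd_iff] at hq
    omega
  have hex : ∀ n : ℕ, Fintype.card F ≠ 2 ∨ n ≠ 4 := fun n => Or.inl fun h => by
    rw [Nat.odd_iff] at hq
    omega
  rw [← CfsgLib.Classical.isSquare_neg_one_pow_iff h2]
  rw [← CfsgLib.Classical.coe_qExt_qBin]
  have him' : i ≤ m - 1 := by omega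
  refine CfsgLib.Classical.Spin.pair_involution_iff _
    (CfsgLib.Classical.polarNondeg_qExt (CfsgLib.Classical.polarNondeg_qBin hab) (m - 1)) (hex _)
    (fun j : Fin i => Sum.inl (Sum.inl (Fin.castLE him' j))) (fun j : Fin i => Sum.inl (Sum.inr (Fin.castLE him' j)))
    ((Sum.inl_injective.comp Sum.inl_injective).comp (Fin.castLE_injective him'))
    ((Sum.inl_injective.comp Sum.inr_injective).comp (Fin.castLE_injective him'))
    (fun a b => by simp) (fun x j => ?_) (fun x j => ?_) (fun j => ?_) (fun j => ?_) _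
    (fun j => if_pos j.2) (fun j => if_pos j.2) fun k hk => ?_
  · simp [CfsgLib.Classical.polar_qExt, Pi.single_apply, ← Pi.zero_def]
  · simp [CfsgLib.Classical.polar_qExt, Pi.single_apply, ← Pi.zero_def]
  · simp [CfsgLib.Classical.qExt_apply, Pi.single_apply, CfsgLib.Classical.qBin_apply]
  · simp [CfsgLib.Classical.qExt_apply, Pi.single_apply, CfsgLib.Classical.qBin_apply]
  · rcases k with (a | a) | u <;> refine if_neg fun ha => ?_
    · exact (hk ⟨a, ha⟩).1 rfl
    · exact (hk ⟨a, ha⟩).2 rfl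
    · simp at ha

end Cfsg.Agent.S2615
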