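import Cfsg.Statements.S2616
import Mathlib
import Cfsg.Agent.Lib.Classical.QuadBases
-- import your own Cfsg.Agent.* helpers here

set_option autoImplicit false
open Cfsg

namespace Cfsg.Agent.S2616

/-- Standard bases of a non-degenerate quadratic space of even dimension 2m over a finite field: either there is a hyperbolic basis e_i, f_i (Q(e_i) = Q(f_i) = 0, B(e_i, f_j) = δ_ij, the e's pairwise orthogonal and the f's pairwise orthogonal, B the polar form), or there is an elliptic basis: hyperbolic pairs e_i, f_i for i < m − 1 together with x, y orthogonal to them with Q(x) = 1, B(x, y) = 1, Q(y) = ζ where t² + t + ζ has no root in the field. -/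
theorem result {F V : Type*} [Field F] [Finite F] [AddCommGroup V] [Module F V] [FiniteDimensional F V] {m : ℕ} (hm : 1 ≤ m) (hV : Module.finrank F V = 2 * m) (Q : QuadraticForm F V) (hQ : (QuadraticMap.polarBilin Q).Nondegenerate) : (∃ b : Module.Basis (Fin m ⊕ Fin m) F V, (∀ i, Q (b (Sum.inl i)) = 0 ∧ Q (b (Sum.inr i)) = 0) ∧ (∀ i j, QuadraticMap.polar ⇑Q (b (Sum.inl i)) (b (Sum.inr j)) = if i = j then 1 else 0) ∧ (∀ i j, QuadraticMap.polar ⇑Q (b (Sum.inl i)) (b (Sum.inl j)) = 0 ∧ QuadraticMap.polar ⇑Q (b (Sum.inr i)) (b (Sum.inr j)) = 0)) ∨ (∃ (b : Module.Basis ((Fin (m - 1) ⊕ Fin (m - 1)) ⊕ Fin 2) F V) (ζ : F), (∀ t : F, t ^ 2 + t + ζ ≠ 0) ∧ (∀ i, Q (b (Sum.inl (Sum.inl i))) = 0 ∧ Q (b (Sum.inl (Sum.inr i))) = 0) ∧ (∀ i j, QuadraticMap.polar ⇑Q (b (Sum.inl (Sum.inl i))) (b (Sum.inl (Sum.inr j))) = if i = j then 1 else 0) ∧ (∀ i j, QuadraticMap.polar ⇑Q (b (Sum.inl (Sum.inl i))) (b (Sum.inl (Sum.inl j))) = 0 ∧ QuadraticMap.polar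 ⇑Q (b (Sum.inl (Sum.inr i))) (b (Sum.inl (Sum.inr j))) = 0) ∧ (∀ i (k : Fin 2), QuadraticMap.polar ⇑Q (b (Sum.inl (Sum.inl i))) (b (Sum.inr k)) = 0 ∧ QuadraticMap.polar ⇑Q (b (Sum.inl (Sum.inr i))) (b (Sum.inr k)) = 0) ∧ Q (b (Sum.inr 0)) = 1 ∧ QuadraticMap.polar ⇑Q (b (Sum.inr 0)) (b (Sum.inr 1)) = 1 ∧ Q (b (Sum.inr 1)) = ζ) := by
  classical
  haveI := Fintype.ofFinite F
  obtain ⟨n, rfl⟩ : ∃ n, m = n + 1 := ⟨m - 1, by omega⟩
  have hQ' := CfsgLib.Classical.polarNondeg_of_nondegenerate hQ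
  rcases CfsgLib.POAut.similar_even n Q hQ' hV with hp | ⟨a, b, hab, hm'⟩
  · left
    obtain ⟨c, e, hc, he⟩ := hp
    have hQe : ∀ w, Q (e.symm w) = c⁻¹ * CfsgLib.Classical.qExt (n + 1) (0 : QuadraticForm F (Fin 0 → F)) w :=
      fun w => by
        have := he (e.symm w)
        rw [e.apply_symm_apply] at this
        rw [this, inv_mul_cancel_left₀ hc]
    obtain ⟨g, hg⟩ := CfsgLib.Classical.exists_similitude (F := F) (by simp) _
      (CfsgLib.Classical.polarNondeg_qExt (F := F) CfsgLib.Classical.polarNondeg_empty (n + 1)) hc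
    let r : (Fin (n + 1) ⊕ Fin (n + 1) → F) ≃ₗ[F] ((Fin (n + 1) ⊕ Fin (n + 1)) ⊕ Fin 0 → F) :=
      LinearEquiv.funCongrLeft F F (Equiv.sumEmpty (Fin (n + 1) ⊕ Fin (n + 1)) (Fin 0))
    have h := CfsgLib.Classical.basis_spec (Q := Q) (g.trans e.symm) fun w => by
      rw [LinearEquiv.trans_apply, hQe, hg, inv_mul_cancel_left₀ hc]
    obtain ⟨h1, h2, h3, -⟩ := h
    exact ⟨(Module.Basis.ofEquivFun (g.trans e.symm).symm).reindex (Equiv.sumEmpty _ _),
      fun i => by simpa using h1 i, fun i j => by simpa using h2 i j, fun i j => by simpa using h3 i j⟩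
  · right
    obtain ⟨ζ, hζ⟩ := CfsgLib.Classical.exists_anisotropic_one (F := F)
    have hab' : CfsgLib.Classical.BinAniso (1 : F) ζ := fun z₁ z₂ hz => by
      by_cases h2 : z₂ = 0
      · subst h2
        exact ⟨by simpa using hz, rfl⟩
      · exfalso
        refine hζ (z₁ / z₂) ?_
        field_simp
        linear_combination hz
    obtain ⟨c, e, hc, he⟩ := hm'.trans (CfsgLib.POAut.similar_qExt_qBin n hab hab')
    have hQe : ∀ w, Q (e.symm w) = c⁻¹ * CfsgLib.Classical.qExt n (CfsgLib.Classical.qBin 1 ζ) w :=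
      fun w => by
        have := he (e.symm w)
        rw [e.apply_symm_apply] at this
        rw [this, inv_mul_cancel_left₀ hc]
    obtain ⟨g, hg⟩ := CfsgLib.Classical.exists_similitude (F := F) ⟨n + 1, by simp; ring⟩ _
      (CfsgLib.Classical.polarNondeg_qExt (F := F) (CfsgLib.Classical.polarNondeg_qBin hab') n) hc
    have h := CfsgLib.Classical.basis_spec (Q := Q) (g.trans e.symm) fun w => by
      rw [LinearEquiv.trans_apply, hQe, hg, inv_mul_cancel_left₀ hc]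
    obtain ⟨h1, h2, h3, h4, h5, h6⟩ := h
    refine ⟨Module.Basis.ofEquivFun (g.trans e.symm).symm, ζ, hζ, h1, h2, h3, h4, ?_, ?_, ?_⟩
    · rw [h5]; simp [CfsgLib.Classical.qBin_apply]
    · rw [h6]; simp [QuadraticMap.polar, CfsgLib.Classical.qBin_apply]; ring
    · rw [h5]; simp [CfsgLib.Classical.qBin_apply]

end Cfsg.Agent.S2616
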