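import Cfsg.Statements.S2617
import Mathlib
import Cfsg.Agent.Lib.Classical.QuadStd
-- import your own Cfsg.Agent.* helpers here

set_option autoImplicit false
open Cfsg

namespace Cfsg.Agent.S2617

/-- The two standard quadratic forms of even dimension 2m over a finite field are not isometric: there is no linear isomorphism carrying the elliptic form Σ_(i<m−1) x_i y_i + z₁² + z₁z₂ + ζ z₂² (t² + t + ζ without roots) to the hyperbolic form Σ_(i<m) x_i y_i (they have different Witt index). -/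
theorem result {F : Type*} [Field F] [Finite F] {m : ℕ} (hm : 1 ≤ m) (ζ : F) (hζ : ∀ t : F, t ^ 2 + t + ζ ≠ 0) (g : (Fin m ⊕ Fin m → F) ≃ₗ[F] ((Fin (m - 1) ⊕ Fin (m - 1)) ⊕ Fin 2 → F)) : ¬ (∀ v : Fin m ⊕ Fin m → F, Cfsg.quadFormMinus (m - 1) F 1 ζ (g v) = Cfsg.quadFormPlus m F v) := by
  classical
  haveI := Fintype.ofFinite F
  intro hg
  obtain ⟨k, rfl⟩ : ∃ k, m = k + 1 := ⟨m - 1, by omega⟩
  simp only [Nat.add_sub_cancel, ← CfsgLib.Classical.coe_qExt_qBin, ← CfsgLib.Classical.coe_qPlus] at g hg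
  have hab : CfsgLib.Classical.BinAniso (1 : F) ζ := fun z₁ z₂ hz => by
    by_cases h2 : z₂ = 0
    · subst h2
      exact ⟨by simpa using hz, rfl⟩
    · exfalso
      refine hζ (z₁ / z₂) ?_
      field_simp
      linear_combination hz
  have hz := CfsgLib.Classical.zeros_congr g hg
  rw [CfsgLib.Classical.zeros_congr (CfsgLib.Classical.plusLin (k + 1) F) (CfsgLib.Classical.qPlus_plusLin (k + 1))]
    at hz
  have h1 := CfsgLib.Classical.zeros_plus (F := F) k
  rw [← hz, CfsgLib.Classical.zeros_minus hab (k + 1 - 1)] at h1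
  simp only [Nat.add_sub_cancel] at h1
  have hc : (1 : ℤ) < Fintype.card F := by exact_mod_cast Fintype.one_lt_card
  have h3 : (Fintype.card F : ℤ) ^ k < (Fintype.card F : ℤ) ^ (k + 1) := pow_lt_pow_right₀ hc (Nat.lt_succ_self k)
  linarith

end Cfsg.Agent.S2617
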