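import Cfsg.Statements.S2618
import Mathlib
import Cfsg.Agent.Lib.Classical.QuadBases
-- import your own Cfsg.Agent.* helpers here

set_option autoImplicit false
open Cfsg

namespace Cfsg.Agent.S2618

/-- Standard (parabolic) basis of a non-degenerate quadratic space of odd dimension 2m + 1 over a finite field (the non-degeneracy of the polar form forces the characteristic to be odd): there is a basis e_i, f_i (i < m), x with Q(e_i) = Q(f_i) = 0, B(e_i, f_j) = δ_ij (B the polar form), the e's pairwise orthogonal and the f's pairwise orthogonal, x orthogonal to all of them and Q(x) ≠ 0. -/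
theorem result {F V : Type*} [Field F] [Finite F] [AddCommGroup V] [Module F V] [FiniteDimensional F V] {m : ℕ} (hV : Module.finrank F V = 2 * m + 1) (Q : QuadraticForm F V) (hQ : (QuadraticMap.polarBilin Q).Nondegenerate) : ∃ b : Module.Basis (Unit ⊕ (Fin m ⊕ Fin m)) F V, Q (b (Sum.inl ())) ≠ 0 ∧ (∀ i, QuadraticMap.polar ⇑Q (b (Sum.inl ())) (b (Sum.inr (Sum.inl i))) = 0 ∧ QuadraticMap.polar ⇑Q (b (Sum.inl ())) (b (Sum.inr (Sum.inr i))) = 0) ∧ (∀ i, Q (b (Sum.inr (Sum.inl i))) = 0 ∧ Q (b (Sum.inr (Sum.inr i))) = 0) ∧ (∀ i j, QuadraticMap.polar ⇑Q (b (Sum.inr (Sum.inl i))) (b (Sum.inr (Sum.inr j))) = if i = j then 1 else 0) ∧ (∀ i j, QuadraticMap.polar ⇑Q (b (Sum.inr (Sum.inl i))) (b (Sum.inr (Sum.inl j))) = 0 ∧ QuadraticMap.polar ⇑Q (b (Sum.inr (Sum.inr i))) (b (Sum.inr (Sum.inr j))) = 0) := by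
  classical
  haveI := Fintype.ofFinite F
  have hQ' := CfsgLib.Classical.polarNondeg_of_nondegenerate hQ
  obtain ⟨c, e, hc, he⟩ := CfsgLib.POAut.similar_odd m Q hQ' hV
  have hQe : ∀ w, Q (e.symm w) = c⁻¹ * CfsgLib.Classical.qExt m (CfsgLib.Classical.qLine F) w := fun w => by
    have := he (e.symm w)
    rw [e.apply_symm_apply] at this
    rw [this, inv_mul_cancel_left₀ hc]
  have h := CfsgLib.Classical.basis_spec (Q := Q) ((CfsgLib.Classical.scaleY c hc).trans e.symm) fun w => by
    rw [LinearEquiv.trans_apply, hQe, CfsgLib.Classical.qExt_scaleY, inv_mul_cancel_left₀ hc]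
  obtain ⟨h1, h2, h3, h4, h5, -⟩ := h
  refine ⟨(Module.Basis.ofEquivFun ((CfsgLib.Classical.scaleY c hc).trans e.symm).symm).reindex (Equiv.sumComm _ _),
    ?_, ?_, ?_, ?_, ?_⟩
  · rw [Module.Basis.reindex_apply]
    refine fun h0 => inv_ne_zero hc ?_
    have := (h5 ()).symm.trans h0
    simpa [CfsgLib.Classical.qLine_apply] using this
  · intro i
    simp only [Module.Basis.reindex_apply, Equiv.sumComm_symm, Equiv.sumComm_apply, Sum.swap_inl, Sum.swap_inr]
    rw [QuadraticMap.polar_comm, QuadraticMap.polar_comm _ ((Module.Basis.ofEquivFun _) (Sum.inr ())) _]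
    exact h4 i ()
  · simpa using h1
  · simpa using h2
  · simpa using h3

end Cfsg.Agent.S2618
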