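import Cfsg.Statements.S2619

set_option autoImplicit false
open Cfsg

namespace Cfsg.Agent.S2619

/-- Over a finite field of characteristic two, given an alternating bilinear form B on a finite-dimensional space, a basis (v_i) and scalars (λ_i), there is exactly one quadratic form whose polar form is B and whose value at each v_i is λ_i. -/
theorem result {F V ι : Type*} [Field F] [Finite F] [CharP F 2] [AddCommGroup V] [Module F V] [Fintype ι] (b : Module.Basis ι F V) (B : LinearMap.BilinForm F V) (hB : B.IsAlt) (c : ι → F) : ∃! Q : QuadraticForm F V, QuadraticMap.polarBilin Q = B ∧ ∀ i, Q (b i) = c i := by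
  classical
  letI : LinearOrder ι := LinearOrder.lift' (Fintype.equivFin ι) (Fintype.equivFin ι).injective
  let M : ι → ι → F := fun i j => if i < j then B (b i) (b j) else if i = j then c i else 0
  let B' : LinearMap.BilinForm F V := (Matrix.toBilin b) (Matrix.of M)
  have hflip : ∀ i j, B' (b i) (b j) = M i j := by
    intro i j
    show (Matrix.toBilin b) (Matrix.of M) (b i) (b j) = _
    rw [Matrix.toBilin_apply, Finset.sum_eq_single i, Finset.sum_eq_single j]
    · simp
    · intro k _ hk; simp [Finsupp.single_eq_of_ne hk]
    · simp
    · intro k _ hk; simp [Finsupp.single_eq_of_ne hk]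
    · simp
  refine ⟨B'.toQuadraticMap, ⟨?_, ?_⟩, ?_⟩
  · rw [LinearMap.BilinMap.polarBilin_toQuadraticMap]
    refine LinearMap.ext_basis b b fun i j => ?_
    simp only [LinearMap.add_apply, LinearMap.flip_apply, hflip, M]
    rcases lt_trichotomy i j with h | h | h
    · simp [h, h.ne', h.not_gt]
    · subst h
      simp [hB.self_eq_zero, CharTwo.add_self_eq_zero]
    · simp [h, h.ne', h.not_gt]
      rw [← hB.neg_eq (b i) (b j), CharTwo.neg_eq]
  · intro i
    rw [LinearMap.BilinMap.toQuadraticMap_apply, hflip]
    simp [M]
  · rintro Q ⟨hQ, hQc⟩
    rw [← sub_eq_zero]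
    set D := Q - B'.toQuadraticMap
    have hDp : ∀ x y : V, D (x + y) = D x + D y := by
      intro x y
      have h1 := LinearMap.congr_fun₂ hQ x y
      have h2 : QuadraticMap.polar (⇑B'.toQuadraticMap) x y = B x y := by
        have hb : QuadraticMap.polarBilin B'.toQuadraticMap = B := by
          rw [LinearMap.BilinMap.polarBilin_toQuadraticMap]
          refine LinearMap.ext_basis b b fun i j => ?_
          simp only [LinearMap.add_apply, LinearMap.flip_apply, hflip, M]
          rcases lt_trichotomy i j with h | h | h
          · simp [h, h.ne', h.not_gt]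
          · subst h
            simp [hB.self_eq_zero, CharTwo.add_self_eq_zero]
          · simp [h, h.ne', h.not_gt]
            rw [← hB.neg_eq (b i) (b j), CharTwo.neg_eq]
        exact LinearMap.congr_fun₂ hb x y
      simp only [QuadraticMap.polarBilin_apply_apply, QuadraticMap.polar] at h1 h2
      simp only [D, QuadraticMap.sub_apply]
      linear_combination h1 - h2
    have hDb : ∀ i, D (b i) = 0 := by
      intro i
      simp only [D, QuadraticMap.sub_apply, LinearMap.BilinMap.toQuadraticMap_apply, hflip, hQc]
      simp [M]
    ext x
    rw [QuadraticMap.zero_apply, ← b.sum_repr x]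
    have hsum : ∀ (t : Finset ι) (a : ι → F), D (∑ i ∈ t, a i • b i) = 0 := by
      intro t a
      induction t using Finset.induction with
      | empty => simp
      | insert i t hi ih => rw [Finset.sum_insert hi, hDp, ih, QuadraticMap.map_smul, hDb, smul_zero, add_zero]
    exact hsum _ _

end Cfsg.Agent.S2619
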