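import Cfsg.Statements.S2622
import Mathlib
import Mathlib
import Cfsg.Agent.Lib.KnownSimple.Forms.Classify
-- import your own Cfsg.Agent.* helpers here

set_option autoImplicit false
open Cfsg Matrix

namespace Cfsg.Agent.S2622

/-- Over a finite field of characteristic two, a non-degenerate symmetric bilinear form that is not alternating (some vector v has B(v, v) ≠ 0) admits an orthonormal basis. -/
theorem result {F V : Type*} [Field F] [Finite F] [CharP F 2] [AddCommGroup V] [Module F V] [FiniteDimensional F V] {n : ℕ} (hV : Module.finrank F V = n) (B : LinearMap.BilinForm F V) (hS : B.IsSymm) (hB : B.Nondegenerate) (hna : ∃ v : V, B v v ≠ 0) : ∃ b : Module.Basis (Fin n) F V, ∀ i j, B (b i) (b j) = if i = j then 1 else 0 := by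
  classical
  let b := Module.finBasisOfFinrankEq F V hV
  let A : Matrix (Fin n) (Fin n) F := Matrix.of fun i j => B (b i) (b j)
  have hA : A.transpose = A := Matrix.ext fun i j => by simpa [A] using hS.eq (b j) (b i)
  have hexp : ∀ u w, B u w = b.equivFun u ⬝ᵥ (A *ᵥ b.equivFun w) := by
    intro u w
    conv_lhs => rw [← b.sum_equivFun u, ← b.sum_equivFun w]
    simp only [map_sum, LinearMap.sum_apply, map_smul, LinearMap.smul_apply, smul_eq_mul, dotProduct,
      Matrix.mulVec, A, Matrix.of_apply, Finset.mul_sum]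
    rw [Finset.sum_comm]
    exact Finset.sum_congr rfl fun i _ => Finset.sum_congr rfl fun j _ => by ring
  have hd : A.det ≠ 0 := fun h => by
    obtain ⟨v, hv0, hv⟩ := Matrix.exists_mulVec_eq_zero_iff.2 h
    refine hv0 (b.equivFun.symm.injective (?_ : b.equivFun.symm v = b.equivFun.symm 0))
    rw [map_zero]
    refine hB.2 _ fun u => ?_
    rw [hexp, LinearEquiv.apply_symm_apply, hv, dotProduct_zero]
  have hna' : ∃ i, A i i ≠ 0 := by
    by_contra h
    push Not at h
    obtain ⟨v, hv⟩ := hna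
    refine hv ?_
    set c := b.equivFun v
    have h2 : (2 : F) = 0 := CharTwo.two_eq_zero
    rw [hexp]
    simp only [dotProduct, Matrix.mulVec, Finset.mul_sum]
    rw [← Finset.sum_product']
    refine Finset.sum_involution (fun x _ => (x.2, x.1)) (fun x _ => ?_) (fun x _ hx hxx => hx ?_)
      (fun x _ => Finset.mem_univ _) (fun x _ => rfl)
    · rw [show A x.2 x.1 = A x.1 x.2 from congrFun (congrFun hA x.1) x.2]
      linear_combination (c x.1 * A x.1 x.2 * c x.2) * h2
    · rw [show x.2 = x.1 from congrArg Prod.fst hxx, h, zero_mul, mul_zero]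
  have h1 : (1 : Matrix (Fin n) (Fin n) F).transpose = 1 := Matrix.transpose_one
  have h1d : (1 : Matrix (Fin n) (Fin n) F).det ≠ 0 := by simp
  haveI : Nonempty (Fin n) := ⟨hna'.choose⟩
  have h1a : ∃ i, (1 : Matrix (Fin n) (Fin n) F) i i ≠ 0 := ⟨hna'.choose, by simp⟩
  have hc : CfsgLib.Forms.Congr A (1 : Matrix (Fin n) (Fin n) F) := by
    rcases Nat.even_or_odd' n with ⟨m, hm | hm⟩
    · have hm0 : 0 < m := by have := (Classical.arbitrary (Fin n)).2; omega
      haveI : Nonempty (Fin m) := ⟨⟨0, hm0⟩⟩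
      exact (CfsgLib.Forms.congr_evenStd hA hd hna' (by simpa using hm) 1 one_ne_zero).trans
        (CfsgLib.Forms.congr_evenStd h1 h1d h1a (by simpa using hm) 1 one_ne_zero).symm
    · exact (CfsgLib.Forms.congr_oddStd hA hd (by simpa using hm)).trans
        (CfsgLib.Forms.congr_oddStd h1 h1d (by simpa using hm)).symm
  obtain ⟨x, y, hxy, hyx, hxA⟩ := hc
  let e : (Fin n → F) ≃ₗ[F] (Fin n → F) := LinearEquiv.ofLinearMap (Matrix.mulVecLin x) (Matrix.mulVecLin y)
    (by rw [← Matrix.mulVecLin_mul, hxy, Matrix.mulVecLin_one])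
    (by rw [← Matrix.mulVecLin_mul, hyx, Matrix.mulVecLin_one])
  refine ⟨Module.Basis.ofEquivFun (b.equivFun.trans e.symm), fun i j => ?_⟩
  rw [hexp]
  simp only [Module.Basis.coe_ofEquivFun, LinearEquiv.trans_symm, LinearEquiv.symm_symm, LinearEquiv.trans_apply,
    LinearEquiv.apply_symm_apply]
  show (x *ᵥ Pi.single i 1) ⬝ᵥ (A *ᵥ (x *ᵥ Pi.single j 1)) = _
  rw [← Matrix.vecMul_transpose, ← Matrix.dotProduct_mulVec, Matrix.mulVec_mulVec, Matrix.mulVec_mulVec, hxA,
    Matrix.one_mulVec]
  simp [dotProduct, Pi.single_apply, eq_comm]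

end Cfsg.Agent.S2622
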