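import Cfsg.Statements.S2625

set_option autoImplicit false
open Cfsg

namespace Cfsg.Agent.S2625

/-- For a quadratic form Q on F^n with non-degenerate polar form, F finite and n odd (so |F| is odd), the multiplier of any similarity is a square: if g is an invertible linear map with Q(g v) = c·Q(v) for all v then c is a square. -/
theorem result {F : Type*} [Field F] [Fintype F] {n : ℕ} (hn : Odd n) (Q : QuadraticForm F (Fin n → F)) (hQ : (QuadraticMap.polarBilin Q).Nondegenerate) (g : (Fin n → F) ≃ₗ[F] (Fin n → F)) (c : F) (hg : ∀ v, Q (g v) = c * Q v) : IsSquare c := by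
  classical
  haveI : Nonempty (Fin n) := ⟨⟨0, hn.pos⟩⟩
  by_cases h2 : (2 : F) = 0
  · haveI : CharP F 2 := CharTwo.of_one_ne_zero_of_two_eq_zero one_ne_zero h2
    exact FiniteField.isSquare_of_char_two (ringChar.eq F 2) c
  · let Bm : Matrix (Fin n) (Fin n) F := LinearMap.BilinForm.toMatrix' (QuadraticMap.polarBilin Q)
    have hB : Bm.det ≠ 0 :=
      (LinearMap.BilinForm.nondegenerate_toMatrix'_iff.2 hQ).det_ne_zero
    have hcomp : LinearMap.BilinForm.comp (QuadraticMap.polarBilin Q) (g : (Fin n → F) →ₗ[F] _) (g : (Fin n → F) →ₗ[F] _)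
        = c • QuadraticMap.polarBilin Q := by
      refine LinearMap.ext₂ fun x y => ?_
      simp only [LinearMap.BilinForm.comp_apply, LinearMap.smul_apply, QuadraticMap.polarBilin_apply_apply,
        smul_eq_mul, LinearEquiv.coe_coe, QuadraticMap.polar, ← map_add, hg]
      ring
    have h := congrArg (fun B => (LinearMap.BilinForm.toMatrix' B).det) hcomp
    simp only [LinearMap.BilinForm.toMatrix'_comp, map_smul, Matrix.det_mul, Matrix.det_transpose,
      Matrix.det_smul, Fintype.card_fin] at h
    obtain ⟨k, hk⟩ := hn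
    have hcn : (LinearMap.toMatrix' (g : (Fin n → F) →ₗ[F] _)).det ^ 2 = c ^ n :=
      mul_right_cancel₀ hB (Eq.trans (by ring) h)
    by_cases hc : c = 0
    · exact ⟨0, by rw [hc, mul_zero]⟩
    refine ⟨(LinearMap.toMatrix' (g : (Fin n → F) →ₗ[F] _)).det / c ^ k, ?_⟩
    rw [div_mul_div_comm, ← pow_two, hcn, ← pow_add, eq_div_iff (pow_ne_zero _ hc), hk]
    ring

end Cfsg.Agent.S2625
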