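import Cfsg.Statements.S2626

set_option autoImplicit false
open Cfsg

namespace Cfsg.Agent.S2626

/-- Ω of an orthogonal direct sum contains the product of the Ω's: for quadratic forms Q₁ on F^k and Q₂ on F^l with non-degenerate polar forms (F finite) and Q = Q₁ ⊕ Q₂ on F^(k+l), if g₁ lies in Ω(Q₁) and g₂ in Ω(Q₂) (commutator subgroups of the orthogonal groups) then the block-diagonal isometry diag(g₁, g₂) lies in Ω(Q). -/
theorem result {F : Type*} [Field F] [Fintype F] {k l : ℕ} (Q₁ : QuadraticForm F (Fin k → F)) (Q₂ : QuadraticForm F (Fin l → F)) (h₁ : (QuadraticMap.polarBilin Q₁).Nondegenerate) (h₂ : (QuadraticMap.polarBilin Q₂).Nondegenerate) (g₁ : ↥(Cfsg.isometryGroup F ⇑Q₁)) (g₂ : ↥(Cfsg.isometryGroup F ⇑Q₂)) (hg₁ : g₁ ∈ Cfsg.Omega F ⇑Q₁) (hg₂ : g₂ ∈ Cfsg.Omega F ⇑Q₂) : ∃ g : ↥(Cfsg.isometryGroup F (fun v : Fin k ⊕ Fin l → F => Q₁ (v ∘ Sum.inl) + Q₂ (v ∘ Sum.inr))), g ∈ Cfsg.Omega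 F (fun v : Fin k ⊕ Fin l → F => Q₁ (v ∘ Sum.inl) + Q₂ (v ∘ Sum.inr)) ∧ ((g : Matrix.GeneralLinearGroup (Fin k ⊕ Fin l) F) : Matrix (Fin k ⊕ Fin l) (Fin k ⊕ Fin l) F) = Matrix.fromBlocks ((g₁ : Matrix.GeneralLinearGroup (Fin k) F) : Matrix (Fin k) (Fin k) F) 0 0 ((g₂ : Matrix.GeneralLinearGroup (Fin l) F) : Matrix (Fin l) (Fin l) F) := by
  classical
  set Q : (Fin k ⊕ Fin l → F) → F := fun v => Q₁ (v ∘ Sum.inl) + Q₂ (v ∘ Sum.inr)
  let ι₁ : Matrix.GeneralLinearGroup (Fin k) F →* Matrix.GeneralLinearGroup (Fin k ⊕ Fin l) F :=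
    Units.map
      { toFun := fun A => Matrix.fromBlocks A 0 0 1
        map_one' := Matrix.fromBlocks_one
        map_mul' := fun A B => by rw [Matrix.fromBlocks_multiply]; simp }
  let ι₂ : Matrix.GeneralLinearGroup (Fin l) F →* Matrix.GeneralLinearGroup (Fin k ⊕ Fin l) F :=
    Units.map
      { toFun := fun A => Matrix.fromBlocks 1 0 0 A
        map_one' := Matrix.fromBlocks_one
        map_mul' := fun A B => by rw [Matrix.fromBlocks_multiply]; simp }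
  have hm₁ : ∀ g : ↥(Cfsg.isometryGroup F ⇑Q₁), ι₁ g ∈ Cfsg.isometryGroup F Q := by
    intro g u v
    have hg := g.2 (u ∘ Sum.inl) (u ∘ Sum.inl)
    simp only [Units.coeHom_apply] at hg
    show Q ((Matrix.fromBlocks ((g : Matrix.GeneralLinearGroup (Fin k) F) : Matrix (Fin k) (Fin k) F) 0 0 1).mulVec u) = Q u
    rw [Matrix.fromBlocks_mulVec]
    simp only [Q, Sum.elim_comp_inl, Sum.elim_comp_inr, Matrix.zero_mulVec, add_zero, zero_add,
      Matrix.one_mulVec, hg]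
  have hm₂ : ∀ g : ↥(Cfsg.isometryGroup F ⇑Q₂), ι₂ g ∈ Cfsg.isometryGroup F Q := by
    intro g u v
    have hg := g.2 (u ∘ Sum.inr) (u ∘ Sum.inr)
    simp only [Units.coeHom_apply] at hg
    show Q ((Matrix.fromBlocks 1 0 0 ((g : Matrix.GeneralLinearGroup (Fin l) F) : Matrix (Fin l) (Fin l) F)).mulVec u) = Q u
    rw [Matrix.fromBlocks_mulVec]
    simp only [Q, Sum.elim_comp_inl, Sum.elim_comp_inr, Matrix.zero_mulVec, add_zero, zero_add,
      Matrix.one_mulVec, hg]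
  let j₁ : ↥(Cfsg.isometryGroup F ⇑Q₁) →* ↥(Cfsg.isometryGroup F Q) :=
    (ι₁.comp (Cfsg.isometryGroup F ⇑Q₁).subtype).codRestrict _ hm₁
  let j₂ : ↥(Cfsg.isometryGroup F ⇑Q₂) →* ↥(Cfsg.isometryGroup F Q) :=
    (ι₂.comp (Cfsg.isometryGroup F ⇑Q₂).subtype).codRestrict _ hm₂
  refine ⟨j₁ g₁ * j₂ g₂, mul_mem ?_ ?_, ?_⟩
  · exact (map_commutator_eq _ j₁ ▸ Subgroup.commutator_mono le_top le_top) (Subgroup.mem_map_of_mem j₁ hg₁)
  · exact (map_commutator_eq _ j₂ ▸ Subgroup.commutator_mono le_top le_top) (Subgroup.mem_map_of_mem j₂ hg₂)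
  · show Matrix.fromBlocks _ 0 0 1 * Matrix.fromBlocks 1 0 0 _ = _
    rw [Matrix.fromBlocks_multiply]
    simp

end Cfsg.Agent.S2626
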