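import Cfsg.Statements.S2627
import Mathlib
import Cfsg.Agent.Lib.Classical.SpinorMatrix
-- import your own Cfsg.Agent.* helpers here

set_option autoImplicit false
open Cfsg

namespace Cfsg.Agent.S2627

open CfsgLib.Classical

theorem fromBlocks_refl {F : Type*} [Field F] {k l : ℕ} (Q₁ : QuadraticForm F (Fin k → F)) (Q₂ : QuadraticForm F (Fin l → F))
    (Q : QuadraticForm F (Fin k ⊕ Fin l → F)) (hQ : ∀ v, Q v = Q₁ (v ∘ Sum.inl) + Q₂ (v ∘ Sum.inr)) (v : Fin k → F) :
    reflectionMatrix (⇑Q) (Sum.elim v (0 : Fin l → F)) = Matrix.fromBlocks (reflectionMatrix (⇑Q₁) v) 0 0 1 := by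
  have hpol : ∀ x : Fin k ⊕ Fin l → F, QuadraticMap.polar Q x (Sum.elim v (0 : Fin l → F)) = QuadraticMap.polar Q₁ (x ∘ Sum.inl) v := fun x => by
    simp only [QuadraticMap.polar, hQ, show (x + Sum.elim v (0 : Fin l → F)) ∘ Sum.inl = x ∘ Sum.inl + v from rfl,
      show (x + Sum.elim v (0 : Fin l → F)) ∘ Sum.inr = x ∘ Sum.inr + 0 from rfl, Sum.elim_comp_inl, Sum.elim_comp_inr,
      QuadraticMap.map_zero, add_zero]
    ring
  refine Matrix.ext_of_mulVec_single fun i => ?_
  rw [CfsgLib.Classical.reflectionMatrix_mulVec, Matrix.fromBlocks_mulVec, CfsgLib.Classical.reflectionMatrix_mulVec, hpol, hQ,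
    Sum.elim_comp_inl, Sum.elim_comp_inr, QuadraticMap.map_zero, add_zero]
  funext j
  rcases j with j | j <;> simp [Function.comp_def]

/-- For an orthogonal direct sum Q = Q₁ ⊕ Q₂ of quadratic forms with non-degenerate polar forms over a finite field, an isometry g₁ of Q₁ extended by the identity on the second summand lies in Ω(Q) (the commutator subgroup of the orthogonal group of Q) if and only if g₁ lies in Ω(Q₁). (Excluded: the field of two elements when the first summand or the whole space has dimension 4, where the commutator subgroup of O⁺₄(2) is smaller than the group usually called Ω.) -/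
theorem result {F : Type*} [Field F] [Fintype F] {k l : ℕ} (h : Fintype.card F ≠ 2 ∨ (k ≠ 4 ∧ k + l ≠ 4)) (Q₁ : QuadraticForm F (Fin k → F)) (Q₂ : QuadraticForm F (Fin l → F)) (h₁ : (QuadraticMap.polarBilin Q₁).Nondegenerate) (h₂ : (QuadraticMap.polarBilin Q₂).Nondegenerate) (g₁ : ↥(Cfsg.isometryGroup F ⇑Q₁)) : (∃ g : ↥(Cfsg.isometryGroup F (fun v : Fin k ⊕ Fin l → F => Q₁ (v ∘ Sum.inl) + Q₂ (v ∘ Sum.inr))), g ∈ Cfsg.Omega F (fun v : Fin k ⊕ Fin l → F => Q₁ (v ∘ Sum.inl) + Q₂ (v ∘ Sum.inr)) ∧ ((g : Matrix.GeneralLinearGroup (Fin k ⊕ Fin l) F) : Matrix (Fin k ⊕ Fin l) (Fin k ⊕ Fin l) F) = Matrix.fromBlocks ((g₁ : Matrix.GeneralLinearGroup (Fin k) F) : Matrix (Fin k) (Fin k) F) 0 0 1) ↔ g₁ ∈ Cfsg.Omega F ⇑Q₁ := by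
  classical
  let Q : QuadraticForm F (Fin k ⊕ Fin l → F) :=
    Q₁.comp (LinearMap.funLeft F F Sum.inl) + Q₂.comp (LinearMap.funLeft F F Sum.inr)
  have hQv : ∀ v, Q v = Q₁ (v ∘ Sum.inl) + Q₂ (v ∘ Sum.inr) := fun v => rfl
  have hfun : (fun v : Fin k ⊕ Fin l → F => Q₁ (v ∘ Sum.inl) + Q₂ (v ∘ Sum.inr)) = ⇑Q := rfl
  have h₁' := CfsgLib.Classical.polarNondeg_of_nondegenerate h₁
  have h₂' := CfsgLib.Classical.polarNondeg_of_nondegenerate h₂
  have hQ : CfsgLib.Classical.PolarNondeg Q := fun x hx => by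
    have e1 : x ∘ Sum.inl = 0 := h₁' _ fun w => by
      have := hx (Sum.elim w (0 : Fin l → F))
      simp only [QuadraticMap.polar, hQv, show (x + Sum.elim w 0) ∘ Sum.inl = x ∘ Sum.inl + w from rfl,
        show (x + Sum.elim w 0) ∘ Sum.inr = x ∘ Sum.inr + 0 from rfl, Sum.elim_comp_inl, Sum.elim_comp_inr,
        QuadraticMap.map_zero, add_zero] at this
      rw [QuadraticMap.polar]
      linear_combination this
    have e2 : x ∘ Sum.inr = 0 := h₂' _ fun w => by
      have := hx (Sum.elim (0 : Fin k → F) w)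
      simp only [QuadraticMap.polar, hQv, show (x + Sum.elim (0 : Fin k → F) w) ∘ Sum.inl = x ∘ Sum.inl + 0 from rfl,
        show (x + Sum.elim (0 : Fin k → F) w) ∘ Sum.inr = x ∘ Sum.inr + w from rfl, Sum.elim_comp_inl, Sum.elim_comp_inr,
        QuadraticMap.map_zero, add_zero] at this
      rw [QuadraticMap.polar]
      linear_combination this
    funext i
    rcases i with i | i
    · exact congrFun e1 i
    · exact congrFun e2 i
  have hex₁ : Fintype.card F ≠ 2 ∨ Fintype.card (Fin k) ≠ 4 := by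
    rw [Fintype.card_fin]; tauto
  have hex : Fintype.card F ≠ 2 ∨ Fintype.card (Fin k ⊕ Fin l) ≠ 4 := by
    rw [Fintype.card_sum, Fintype.card_fin, Fintype.card_fin]; tauto
  obtain ⟨vs, hvs, hg₁⟩ := CfsgLib.Classical.Spin.exists_matrix_refl_list Q₁ h₁' hex₁ g₁
  have hQe : ∀ v : Fin k → F, Q (Sum.elim v (0 : Fin l → F)) = Q₁ v := fun v => by
    rw [hQv, Sum.elim_comp_inl, Sum.elim_comp_inr, QuadraticMap.map_zero, add_zero]
  let ws : List (Fin k ⊕ Fin l → F) := vs.map fun v => Sum.elim v (0 : Fin l → F)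
  have hws : ∀ w ∈ ws, Q w ≠ 0 := fun w hw => by
    obtain ⟨v, hv, rfl⟩ := List.mem_map.1 hw
    rw [hQe]
    exact hvs v hv
  have hmat : (ws.map fun w => reflectionMatrix (⇑Q) w).prod =
      Matrix.fromBlocks ((g₁ : Matrix.GeneralLinearGroup (Fin k) F) : Matrix (Fin k) (Fin k) F) 0 0 1 := by
    rw [hg₁, List.map_map]
    clear hg₁ hws hvs
    induction vs with
    | nil => simp [Matrix.fromBlocks_one]
    | cons v vs ih =>
      rw [List.map_cons, List.prod_cons, ih, List.map_cons, List.prod_cons, Function.comp_apply,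
        fromBlocks_refl Q₁ Q₂ Q hQv, Matrix.fromBlocks_multiply]
      simp
  have hprod : (ws.map fun w => Q w).prod = (vs.map fun v => Q₁ v).prod := by
    rw [List.map_map]
    exact congrArg List.prod (List.map_congr_left fun v _ => hQe v)
  rw [CfsgLib.Classical.Spin.mem_Omega_refl_list_iff Q₁ h₁' hex₁ g₁ vs hvs hg₁, hfun, ← hprod]
  constructor
  · rintro ⟨g, hgO, hg⟩
    have := (CfsgLib.Classical.Spin.mem_Omega_refl_list_iff Q hQ hex g ws hws (hg.trans hmat.symm)).1 hgO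
    rwa [List.length_map] at this
  · intro hcond
    have hM : ∀ x, Q ((Matrix.fromBlocks ((g₁ : Matrix.GeneralLinearGroup (Fin k) F) : Matrix (Fin k) (Fin k) F) 0 0 (1 : Matrix (Fin l) (Fin l) F)).mulVec x) = Q x := fun x => by
      rw [Matrix.fromBlocks_mulVec, hQv, hQv, Sum.elim_comp_inl, Sum.elim_comp_inr]
      simp only [Matrix.zero_mulVec, add_zero, zero_add, Matrix.one_mulVec]
      exact congrArg (· + _) (g₁.2 (x ∘ Sum.inl) 0)
    obtain ⟨g, hg⟩ := CfsgLib.Classical.Spin.exists_isometry_of_matrix Q hQ _ hM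
    refine ⟨g, (CfsgLib.Classical.Spin.mem_Omega_refl_list_iff Q hQ hex g ws hws (hg.trans hmat.symm)).2 ?_, hg⟩
    rwa [List.length_map]

end Cfsg.Agent.S2627
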