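import Cfsg.Statements.S2628
import Mathlib
import Cfsg.Agent.Lib.Classical.SpinorMatrix
-- import your own Cfsg.Agent.* helpers here

set_option autoImplicit false
open Cfsg

namespace Cfsg.Agent.S2628

open scoped commutatorElement

/-- For the orthogonal direct sum Q ⊕ Q of two copies of a quadratic form Q with non-degenerate polar form on F^k (F finite), every isometry g of Q acting diagonally, diag(g, g), lies in Ω(Q ⊕ Q), the commutator subgroup of the orthogonal group of Q ⊕ Q. (Excluded: k = 2 over the field of two elements, where Q ⊕ Q is the hyperbolic 4-space whose orthogonal group's commutator subgroup is smaller than the group usually called Ω.) -/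
theorem result {F : Type*} [Field F] [Fintype F] {k : ℕ} (h : Fintype.card F ≠ 2 ∨ k ≠ 2) (Q : QuadraticForm F (Fin k → F)) (hQ : (QuadraticMap.polarBilin Q).Nondegenerate) (g : ↥(Cfsg.isometryGroup F ⇑Q)) : ∃ x : ↥(Cfsg.isometryGroup F (fun v : Fin k ⊕ Fin k → F => Q (v ∘ Sum.inl) + Q (v ∘ Sum.inr))), x ∈ Cfsg.Omega F (fun v : Fin k ⊕ Fin k → F => Q (v ∘ Sum.inl) + Q (v ∘ Sum.inr)) ∧ ((x : Matrix.GeneralLinearGroup (Fin k ⊕ Fin k) F) : Matrix (Fin k ⊕ Fin k) (Fin k ⊕ Fin k) F) = Matrix.fromBlocks ((g : Matrix.GeneralLinearGroup (Fin k) F) : Matrix (Fin k) (Fin k) F) 0 0 ((g : Matrix.GeneralLinearGroup (Fin k) F) : Matrix (Fin k) (Fin k) F) := by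
  classical
  let Q' : QuadraticForm F (Fin k ⊕ Fin k → F) :=
    Q.comp (LinearMap.funLeft F F Sum.inl) + Q.comp (LinearMap.funLeft F F Sum.inr)
  have hQv : ∀ v, Q' v = Q (v ∘ Sum.inl) + Q (v ∘ Sum.inr) := fun v => rfl
  have hfun : (fun v : Fin k ⊕ Fin k → F => Q (v ∘ Sum.inl) + Q (v ∘ Sum.inr)) = ⇑Q' := rfl
  have hQ₁ := CfsgLib.Classical.polarNondeg_of_nondegenerate hQ
  have hnd : CfsgLib.Classical.PolarNondeg Q' := fun x hx => by
    have e1 : x ∘ Sum.inl = 0 := hQ₁ _ fun w => by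
      have := hx (Sum.elim w (0 : Fin k → F))
      simp only [QuadraticMap.polar, hQv, show (x + Sum.elim w (0 : Fin k → F)) ∘ Sum.inl = x ∘ Sum.inl + w from rfl,
        show (x + Sum.elim w (0 : Fin k → F)) ∘ Sum.inr = x ∘ Sum.inr + 0 from rfl, Sum.elim_comp_inl, Sum.elim_comp_inr,
        QuadraticMap.map_zero, add_zero] at this
      rw [QuadraticMap.polar]
      linear_combination this
    have e2 : x ∘ Sum.inr = 0 := hQ₁ _ fun w => by
      have := hx (Sum.elim (0 : Fin k → F) w)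
      simp only [QuadraticMap.polar, hQv, show (x + Sum.elim (0 : Fin k → F) w) ∘ Sum.inl = x ∘ Sum.inl + 0 from rfl,
        show (x + Sum.elim (0 : Fin k → F) w) ∘ Sum.inr = x ∘ Sum.inr + w from rfl, Sum.elim_comp_inl, Sum.elim_comp_inr,
        QuadraticMap.map_zero, add_zero] at this
      rw [QuadraticMap.polar]
      linear_combination this
    funext i
    rcases i with i | i
    · exact congrFun e1 i
    · exact congrFun e2 i
  let M : Matrix (Fin k) (Fin k) F := ((g : Matrix.GeneralLinearGroup (Fin k) F) : Matrix (Fin k) (Fin k) F)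
  have hM : ∀ x, Q (M.mulVec x) = Q x := fun x => g.2 x 0
  obtain ⟨a, ha⟩ := CfsgLib.Classical.Spin.exists_isometry_of_matrix Q' hnd (Matrix.fromBlocks M 0 0 1) fun x => by
    rw [Matrix.fromBlocks_mulVec, hQv, hQv, Sum.elim_comp_inl, Sum.elim_comp_inr]
    simp [hM]
  obtain ⟨b, hb⟩ := CfsgLib.Classical.Spin.exists_isometry_of_matrix Q' hnd (Matrix.fromBlocks 1 0 0 M) fun x => by
    rw [Matrix.fromBlocks_mulVec, hQv, hQv, Sum.elim_comp_inl, Sum.elim_comp_inr]
    simp [hM]
  obtain ⟨s, hs⟩ := CfsgLib.Classical.Spin.exists_isometry_of_matrix Q' hnd (Matrix.fromBlocks 0 1 1 0) fun x => by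
    rw [Matrix.fromBlocks_mulVec, hQv, hQv, Sum.elim_comp_inl, Sum.elim_comp_inr]
    simp [add_comm]
  have hsab : s * a = b * s := Subtype.ext (Units.ext (by
    rw [Subgroup.coe_mul, Subgroup.coe_mul, Units.val_mul, Units.val_mul, ha, hb, hs, Matrix.fromBlocks_multiply,
      Matrix.fromBlocks_multiply]
    simp))
  refine ⟨a * b, ?_, ?_⟩
  · have h1 : a * a ∈ Cfsg.Omega F ⇑Q' := by
      rw [CfsgLib.Classical.mem_Omega_iff, map_mul]
      refine CfsgLib.Classical.Spin.sq_mem_commutator Q' hnd ?_ _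
      rw [Module.finrank_pi, Fintype.card_sum, Fintype.card_fin]
      rcases h with h | h
      · exact Or.inl h
      · exact Or.inr (by omega)
    have h2 : ⁅a⁻¹, s⁆ ∈ Cfsg.Omega F ⇑Q' :=
      Subgroup.commutator_mem_commutator (Subgroup.mem_top _) (Subgroup.mem_top _)
    have heq : a * b = a * a * ⁅a⁻¹, s⁆ := by
      rw [show b = s * a * s⁻¹ by rw [hsab, mul_inv_cancel_right], commutatorElement_def]
      group
    rw [heq]
    exact mul_mem h1 h2
  · rw [Subgroup.coe_mul, Units.val_mul, ha, hb, Matrix.fromBlocks_multiply]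
    simp [M]

end Cfsg.Agent.S2628
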