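import Cfsg.Statements.S2629
import Mathlib
import Cfsg.Agent.Lib.Classical.SpinorPlus
-- import your own Cfsg.Agent.* helpers here

set_option autoImplicit false
open Cfsg

namespace Cfsg.Agent.S2629

open CfsgLib.Classical

theorem parity_step {F V : Type*} [Field F] [AddCommGroup V] [Module F V] [FiniteDimensional F V]
    (Q : QuadraticForm F V) (hQ : PolarNondeg Q) {m : ℕ} (hV : Module.finrank F V = 2 * m)
    (U W : Submodule F V) (hU : ∀ u ∈ U, Q u = 0) (hUd : Module.finrank F U = m)
    (hW : ∀ w ∈ W, Q w = 0) (hWd : Module.finrank F W = m) {v : V} (hv : Q v ≠ 0) :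
    Even (m - Module.finrank F ↥(U ⊓ W.map (qRefl Q hv).1.toLinearMap)) ↔ ¬ Even (m - Module.finrank F ↥(U ⊓ W)) := by
  classical
  let B : LinearMap.BilinForm F V := QuadraticMap.polarBilin Q
  have hB : B.Nondegenerate := PolarNondeg.nondegenerate hQ
  have hperp : ∀ X : Submodule F V, (∀ x ∈ X, Q x = 0) → Module.finrank F X = m → B.orthogonal X = X := by
    intro X hX hXd
    refine (Submodule.eq_of_le_of_finrank_eq (fun x hx => LinearMap.BilinForm.mem_orthogonal_iff.2 fun y hy => ?_) ?_).symm
    · show QuadraticMap.polar Q y x = 0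
      rw [QuadraticMap.polar, hX _ (X.add_mem hy hx), hX y hy, hX x hx, sub_zero, sub_zero]
    · rw [LinearMap.BilinForm.finrank_orthogonal hB, hXd, hV]; omega
  set r := (qRefl Q hv).1.toLinearMap with hr
  have hrx : ∀ x, r x = x - ((Q v)⁻¹ * QuadraticMap.polar Q x v) • v := fun x => qRefl_apply Q hv x
  set W' := W.map r
  let W0 : Submodule F V := W ⊓ LinearMap.ker ((QuadraticMap.polarBilin Q).flip v)
  have hvW : v ∉ W := fun h => hv (hW v h)
  obtain ⟨w₁, hw₁, hw₁v⟩ : ∃ w ∈ W, QuadraticMap.polar Q w v ≠ 0 := by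
    by_contra hc
    push Not at hc
    refine hvW ?_
    rw [← hperp W hW hWd]
    exact LinearMap.BilinForm.mem_orthogonal_iff.2 fun w hw => hc w hw
  have hWW' : W ⊓ W' = W0 := by
    refine le_antisymm ?_ ?_
    · rintro x ⟨hx, y, hy, hxy⟩
      refine ⟨hx, ?_⟩
      show QuadraticMap.polar Q x v = 0
      rw [hrx] at hxy
      by_cases hc : (Q v)⁻¹ * QuadraticMap.polar Q y v = 0
      · rw [hc, zero_smul, sub_zero] at hxy
        subst hxy
        exact (mul_eq_zero.1 hc).resolve_left (inv_ne_zero hv)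
      · exfalso
        refine hvW ((Submodule.smul_mem_iff W hc).1 ?_)
        have hd := W.sub_mem hy hx
        rwa [← hxy, sub_sub_cancel] at hd
    · rintro x ⟨hx, hxv⟩
      refine ⟨hx, x, hx, ?_⟩
      rw [hrx, show QuadraticMap.polar Q x v = 0 from hxv, mul_zero, zero_smul, sub_zero]
  have hW0d : Module.finrank F W0 + 1 = m := by
    have h := LinearMap.finrank_range_add_finrank_ker (((QuadraticMap.polarBilin Q).flip v).comp W.subtype)
    have hrg : LinearMap.range (((QuadraticMap.polarBilin Q).flip v).comp W.subtype) = ⊤ := by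
      refine LinearMap.range_eq_top.2 fun c => ⟨(c / QuadraticMap.polar Q w₁ v) • ⟨w₁, hw₁⟩, ?_⟩
      simp [hw₁v]
    rw [hrg, finrank_top, Module.finrank_self, LinearMap.ker_comp] at h
    have e : Module.finrank F ↥(Submodule.comap W.subtype (LinearMap.ker ((QuadraticMap.polarBilin Q).flip v))) =
        Module.finrank F W0 := by
      rw [LinearEquiv.finrank_eq (Submodule.equivMapOfInjective W.subtype W.injective_subtype _),
        Submodule.map_comap_subtype]
    omega
  let U1 := U ⊓ B.orthogonal W0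
  have hU1 : Module.finrank F U1 = Module.finrank F ↥(U ⊓ W0) + 1 := by
    have e : B.orthogonal (U ⊔ W0) = U1 := by
      ext x
      simp only [U1, LinearMap.BilinForm.mem_orthogonal_iff, Submodule.mem_inf]
      constructor
      · refine fun h => ⟨?_, fun y hy => h y (Submodule.mem_sup_right hy)⟩
        rw [← hperp U hU hUd]
        exact LinearMap.BilinForm.mem_orthogonal_iff.2 fun y hy => h y (Submodule.mem_sup_left hy)
      · rintro ⟨hx, hx0⟩ y hy
        obtain ⟨a, ha, b, hb, rfl⟩ := Submodule.mem_sup.1 hy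
        have h1 := hx
        rw [← hperp U hU hUd] at h1
        have := LinearMap.BilinForm.mem_orthogonal_iff.1 h1 a ha
        show B (a + b) x = 0
        rw [map_add, LinearMap.add_apply, this, hx0 b hb, add_zero]
    have h1 := Submodule.finrank_sup_add_finrank_inf_eq U W0
    have h2 := LinearMap.BilinForm.finrank_orthogonal hB (W := U ⊔ W0)
    have h3 := Submodule.finrank_le (U ⊔ W0)
    rw [e] at h2
    omega
  have hsub : U1 ≤ (U ⊓ W) ⊔ (U ⊓ W') := by
    rintro u ⟨hu, hu0⟩
    set t := QuadraticMap.polar Q w₁ u / QuadraticMap.polar Q w₁ v with ht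
    have hw : u - t • v ∈ W := by
      rw [← hperp W hW hWd]
      refine LinearMap.BilinForm.mem_orthogonal_iff.2 fun y hy => ?_
      set c := QuadraticMap.polar Q y v / QuadraticMap.polar Q w₁ v with hc
      have hy0 : y - c • w₁ ∈ W0 := ⟨W.sub_mem hy (W.smul_mem _ hw₁), by
        show QuadraticMap.polar Q (y - c • w₁) v = 0
        rw [QuadraticMap.polar_sub_left, QuadraticMap.polar_smul_left, smul_eq_mul, hc, div_mul_cancel₀ _ hw₁v, sub_self]⟩
      have h := LinearMap.BilinForm.mem_orthogonal_iff.1 hu0 _ hy0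
      simp only [B, LinearMap.BilinForm.isOrtho_def, QuadraticMap.polarBilin_apply_apply, QuadraticMap.polar_sub_left,
        QuadraticMap.polar_smul_left, smul_eq_mul] at h
      show QuadraticMap.polar Q y (u - t • v) = 0
      rw [QuadraticMap.polar_sub_right, QuadraticMap.polar_smul_right, smul_eq_mul, ht]
      rw [hc] at h
      field_simp at h ⊢
      linear_combination h
    by_cases ht0 : t = 0
    · refine Submodule.mem_sup_left ⟨hu, ?_⟩
      rwa [ht0, zero_smul, sub_zero] at hw
    · refine Submodule.mem_sup_right ⟨hu, u - t • v, hw, ?_⟩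
      have h0 := hW _ hw
      rw [quad_sub, hU u hu, quad_smul, QuadraticMap.polar_smul_right, smul_eq_mul] at h0
      have hp : QuadraticMap.polar Q u v = t * Q v := by
        refine mul_left_cancel₀ ht0 ?_
        linear_combination -h0
      rw [hrx, QuadraticMap.polar_sub_left, QuadraticMap.polar_smul_left, quad_polar_self, hp, smul_eq_mul,
        show (Q v)⁻¹ * (t * Q v - t * (2 * Q v)) = -t by field_simp; ring, neg_smul, sub_neg_eq_add, sub_add_cancel]
  have hle : ∀ X : Submodule F V, W0 ≤ X → (∀ x ∈ X, Q x = 0) → U ⊓ X ≤ U1 := by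
    rintro X hX hXs u ⟨hu, huX⟩
    refine ⟨hu, LinearMap.BilinForm.mem_orthogonal_iff.2 fun y hy => ?_⟩
    show QuadraticMap.polar Q y u = 0
    rw [QuadraticMap.polar, hXs _ (X.add_mem (hX hy) huX), hXs y (hX hy), hXs u huX, sub_zero, sub_zero]
  have hW' : ∀ x ∈ W', Q x = 0 := by
    rintro _ ⟨y, hy, rfl⟩
    exact (qAut_map (qRefl Q hv) y).trans (hW y hy)
  have hlW := hle W inf_le_left hW
  have hlW' := hle W' (hWW'.ge.trans inf_le_right) hW'
  have heq : (U ⊓ W) ⊔ (U ⊓ W') = U1 := le_antisymm (sup_le hlW hlW') hsub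
  have hinf : (U ⊓ W) ⊓ (U ⊓ W') = U ⊓ W0 := by rw [← hWW', ← inf_inf_distrib_left]
  have key := Submodule.finrank_sup_add_finrank_inf_eq (U ⊓ W) (U ⊓ W')
  rw [heq, hinf, hU1] at key
  have l1 := Submodule.finrank_mono (inf_le_left : U ⊓ W ≤ U)
  have l2 := Submodule.finrank_mono (inf_le_left : U ⊓ W' ≤ U)
  simp only [Nat.even_iff]
  omega

theorem parity_list {F V : Type*} [Field F] [AddCommGroup V] [Module F V] [FiniteDimensional F V]
    (Q : QuadraticForm F V) (hQ : PolarNondeg Q) {m : ℕ} (hV : Module.finrank F V = 2 * m)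
    (U : Submodule F V) (hU : ∀ u ∈ U, Q u = 0) (hUd : Module.finrank F U = m) (vs : List {v : V // Q v ≠ 0}) :
    Even (m - Module.finrank F ↥(U ⊓ U.map (vs.map fun v => qRefl Q v.2).prod.1.toLinearMap)) ↔ Even vs.length := by
  induction vs with
  | nil =>
    rw [List.map_nil, List.prod_nil]
    rw [show U.map ((1 : qAut Q).1.toLinearMap) = U from Submodule.map_id U, inf_idem, hUd]
    simp
  | cons v vs ih =>
    rw [List.map_cons, List.prod_cons, List.length_cons, Nat.even_add_one, ← ih]
    have e : U.map (qRefl Q v.2 * (vs.map fun v => qRefl Q v.2).prod).1.toLinearMap =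
        (U.map (vs.map fun v => qRefl Q v.2).prod.1.toLinearMap).map (qRefl Q v.2).1.toLinearMap :=
      (Submodule.map_comp _ _ U)
    rw [e]
    refine parity_step Q hQ hV U _ hU hUd ?_ ?_ v.2
    · rintro _ ⟨y, hy, rfl⟩
      exact (qAut_map _ y).trans (hU y hy)
    · exact (LinearEquiv.finrank_map_eq _ U).trans hUd

/-- For the hyperbolic form Σ x_i y_i on F^(2m) over a finite field of odd order (m ≥ 1), an isometry g preserves the class of the maximal totally singular subspace U₀ = {y = 0} (that is, m − dim(U₀ ∩ gU₀) is even) if and only if det g = 1: the stabiliser of each of the two classes of maximal totally singular subspaces is SO. -/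
theorem result {F : Type*} [Field F] [Fintype F] (h2 : (2 : F) ≠ 0) {m : ℕ} (hm : 1 ≤ m) (g : ↥(Cfsg.isometryGroup F (Cfsg.quadFormPlus m F))) : Even (m - Module.finrank F ↥(LinearMap.ker (LinearMap.funLeft F F (Sum.inr : Fin m → Fin m ⊕ Fin m)) ⊓ (LinearMap.ker (LinearMap.funLeft F F (Sum.inr : Fin m → Fin m ⊕ Fin m))).map (Matrix.mulVecLin ((g : Matrix.GeneralLinearGroup (Fin m ⊕ Fin m) F) : Matrix (Fin m ⊕ Fin m) (Fin m ⊕ Fin m) F)))) ↔ ((g : Matrix.GeneralLinearGroup (Fin m ⊕ Fin m) F) : Matrix (Fin m ⊕ Fin m) (Fin m ⊕ Fin m) F).det = 1 := by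
  classical
  let Q := CfsgLib.Classical.qPlus m F
  have hQ : CfsgLib.Classical.PolarNondeg Q := CfsgLib.Classical.polarNondeg_qPlus m
  let g' : ↥(Cfsg.isometryGroup F ⇑Q) := ⟨(g : Matrix.GeneralLinearGroup (Fin m ⊕ Fin m) F), by
    rw [show ⇑Q = Cfsg.quadFormPlus m F from CfsgLib.Classical.coe_qPlus m]; exact g.2⟩
  have hex : Fintype.card F ≠ 2 := fun hc => h2 (by
    haveI : CharP F 2 := by
      obtain ⟨p, hp⟩ := CharP.exists F
      obtain ⟨k, hpp, hk⟩ := FiniteField.card F p
      rw [hc] at hk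
      obtain rfl : p = 2 := (Nat.prime_dvd_prime_iff_eq hpp Nat.prime_two).1 (hk ▸ dvd_pow_self p k.pos.ne')
      exact hp
    exact CharTwo.two_eq_zero)
  obtain ⟨vs, hvs⟩ := CfsgLib.Classical.Spin.exists_refl_list Q hQ (Or.inl hex) (CfsgLib.Classical.isoEquiv Q g')
  set U := LinearMap.ker (LinearMap.funLeft F F (Sum.inr : Fin m → Fin m ⊕ Fin m))
  have hU : ∀ u ∈ U, Q u = 0 := fun u hu => by
    rw [CfsgLib.Classical.Spin.qPlus_eq_dot, show u ∘ Sum.inr = 0 from hu, dotProduct_zero]
  have hUd : Module.finrank F U = m := by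
    have h := LinearMap.finrank_range_add_finrank_ker (LinearMap.funLeft F F (Sum.inr : Fin m → Fin m ⊕ Fin m))
    rw [LinearMap.range_eq_top.2 (LinearMap.funLeft_surjective_of_injective F F _ Sum.inr_injective), finrank_top,
      Module.finrank_pi, Module.finrank_pi, Fintype.card_sum, Fintype.card_fin] at h
    show Module.finrank F ↥(LinearMap.ker (LinearMap.funLeft F F (Sum.inr : Fin m → Fin m ⊕ Fin m))) = m
    omega
  have key := parity_list Q hQ (by rw [Module.finrank_pi, Fintype.card_sum, Fintype.card_fin]; omega) U hU hUd vs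
  rw [← hvs] at key
  have hlin : (CfsgLib.Classical.isoEquiv Q g').1.toLinearMap =
      Matrix.mulVecLin ((g : Matrix.GeneralLinearGroup (Fin m ⊕ Fin m) F) : Matrix (Fin m ⊕ Fin m) (Fin m ⊕ Fin m) F) :=
    LinearMap.ext fun x => rfl
  rw [hlin] at key
  rw [key]
  have hdet : ((g : Matrix.GeneralLinearGroup (Fin m ⊕ Fin m) F) : Matrix (Fin m ⊕ Fin m) (Fin m ⊕ Fin m) F).det =
      (-1) ^ vs.length := by
    rw [← Matrix.toLin'_apply'] at hlin
    rw [← LinearMap.det_toLin', ← hlin, hvs]
    clear hvs key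
    induction vs with
    | nil =>
      rw [List.map_nil, List.prod_nil, List.length_nil, pow_zero]
      exact LinearMap.det_id (A := F) (M := Fin m ⊕ Fin m → F)
    | cons v vs ih =>
      rw [List.map_cons, List.prod_cons, List.length_cons, pow_succ', ← ih]
      have hd : LinearMap.det (CfsgLib.Classical.qRefl Q v.2).1.toLinearMap = -1 := by
        have e : (CfsgLib.Classical.qRefl Q v.2).1.toLinearMap = Matrix.toLin' (Cfsg.reflectionMatrix ⇑Q v.1) :=
          LinearMap.ext fun x => by
            rw [Matrix.toLin'_apply, CfsgLib.Classical.reflectionMatrix_mulVec]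
            exact CfsgLib.Classical.qRefl_apply Q v.2 x
        rw [e, LinearMap.det_toLin', CfsgLib.Classical.det_reflectionMatrix Q v.2]
      rw [← hd, ← LinearMap.det_comp]
      rfl
  rw [hdet]
  refine ⟨fun he => he.neg_one_pow, fun h1 => ?_⟩
  by_contra hne
  rw [(Nat.not_even_iff_odd.1 hne).neg_one_pow] at h1
  exact h2 (by linear_combination -h1)

end Cfsg.Agent.S2629
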