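import Cfsg.Statements.S2630
import Cfsg.Agent.Lib.KnownSimple.OrthOmega

set_option autoImplicit false
open Cfsg CfsgLib.KnownSimple CfsgLib.Classical

namespace Cfsg.Agent.S2630

/-- For the hyperbolic form Σ x_i y_i on F^(2m) over a finite field of characteristic two (m ≥ 1, excluding m = 2 over the field of two elements), an isometry g preserves the class of the maximal totally singular subspace U₀ = {y = 0} (m − dim(U₀ ∩ gU₀) even) if and only if g lies in Ω (the commutator subgroup of the orthogonal group): the stabiliser of each class is Ω. -/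
theorem result {F : Type*} [Field F] [Fintype F] [CharP F 2] {m : ℕ} (hm : 1 ≤ m) (h : Fintype.card F ≠ 2 ∨ m ≠ 2) (g : ↥(Cfsg.isometryGroup F (Cfsg.quadFormPlus m F))) : Even (m - Module.finrank F ↥(LinearMap.ker (LinearMap.funLeft F F (Sum.inr : Fin m → Fin m ⊕ Fin m)) ⊓ (LinearMap.ker (LinearMap.funLeft F F (Sum.inr : Fin m → Fin m ⊕ Fin m))).map (Matrix.mulVecLin ((g : Matrix.GeneralLinearGroup (Fin m ⊕ Fin m) F) : Matrix (Fin m ⊕ Fin m) (Fin m ⊕ Fin m) F)))) ↔ g ∈ Cfsg.Omega F (Cfsg.quadFormPlus m F) := by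
  set U : Submodule F (Fin m ⊕ Fin m → F) :=
    LinearMap.ker (LinearMap.funLeft F F (Sum.inr : Fin m → Fin m ⊕ Fin m))
  have hV : Module.finrank F (Fin m ⊕ Fin m → F) = 2 * m := by
    rw [Module.finrank_fintype_fun_eq_card, Fintype.card_sum, Fintype.card_fin, two_mul]
  have hU : ∀ u ∈ U, qPlus m F u = 0 := fun u hu => by
    rw [coe_qPlus]
    exact Finset.sum_eq_zero fun i _ => by
      rw [show u (Sum.inr i) = 0 from congrFun hu i, mul_zero]
  have hdim : Module.finrank F U = m := by
    have h1 := (LinearMap.funLeft F F (Sum.inr : Fin m → Fin m ⊕ Fin m)).finrank_range_add_finrank_ker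
    rw [LinearMap.range_eq_top.2 (LinearMap.funLeft_surjective_of_injective _ _ _ Sum.inr_injective),
      finrank_top, hV, Module.finrank_fintype_fun_eq_card, Fintype.card_fin] at h1
    show Module.finrank F (LinearMap.ker (LinearMap.funLeft F F (Sum.inr : Fin m → Fin m ⊕ Fin m))) = m
    omega
  revert g
  rw [← coe_qPlus]
  intro g
  rw [OrthOmega.mem_Omega_iff, OrthOmega.mem_commutator_iff_class (polarNondeg_qPlus m) hV hdim hU hm
    (by rcases h with h | h
        · exact Or.inl h
        · exact Or.inr (by rw [hV]; omega))]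
  rfl

end Cfsg.Agent.S2630
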