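import Cfsg.Statements.S2635
import Cfsg.Agent.Lib.KnownSimple.OrthOmega

set_option autoImplicit false
open Cfsg CfsgLib.KnownSimple CfsgLib.Classical

namespace Cfsg.Agent.S2635

/-- Over a finite field of characteristic two, for a quadratic form Q on F^n with non-degenerate polar form, n ≥ 2, other than dimension 4 over the field of two elements, Ω (the commutator subgroup of the orthogonal group) is exactly the subgroup generated by the products of two reflections (orthogonal transvections) x ↦ x − Q(v)⁻¹ f(x, v) v, Q(v) ≠ 0: the products of an even number of reflections. -/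
theorem result {F : Type*} [Field F] [Fintype F] [CharP F 2] {n : ℕ} (hn : 2 ≤ n) (h : Fintype.card F ≠ 2 ∨ n ≠ 4) (Q : QuadraticForm F (Fin n → F)) (hQ : (QuadraticMap.polarBilin Q).Nondegenerate) : Cfsg.Omega F ⇑Q = Subgroup.closure {g : ↥(Cfsg.isometryGroup F ⇑Q) | ∃ u v : Fin n → F, Q u ≠ 0 ∧ Q v ≠ 0 ∧ ((g : Matrix.GeneralLinearGroup (Fin n) F) : Matrix (Fin n) (Fin n) F) = Cfsg.reflectionMatrix ⇑Q u * Cfsg.reflectionMatrix ⇑Q v} := by
  have hp := OrthOmega.commutator_eq_pairs (polarNondeg_of_nondegenerate hQ)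
    (by rwa [Module.finrank_fin_fun]) (by rwa [Module.finrank_fin_fun])
  refine Subgroup.map_injective (f := (isoEquiv Q).toMonoidHom) (isoEquiv Q).injective ?_
  have h1 : (Cfsg.Omega F ⇑Q).map (isoEquiv Q).toMonoidHom = commutator (qAut Q) :=
    map_commutator_equiv (isoEquiv Q)
  rw [h1, hp, MonoidHom.map_closure]
  congr 1
  ext x
  constructor
  · rintro ⟨u, v, hu, hv, rfl⟩
    refine ⟨reflect Q u hu * reflect Q v hv, ⟨u, v, hu, hv, ?_⟩, ?_⟩
    · rw [Subgroup.coe_mul, Matrix.GeneralLinearGroup.coe_mul, reflect_coe, reflect_coe]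
    · show isoEquiv Q _ = _
      rw [map_mul, isoEquiv_reflect_self, isoEquiv_reflect_self]
  · rintro ⟨g, ⟨u, v, hu, hv, hg⟩, rfl⟩
    refine ⟨u, v, hu, hv, ?_⟩
    rw [← isoEquiv_reflect_self Q hu, ← isoEquiv_reflect_self Q hv, ← map_mul]
    show isoEquiv Q g = _
    congr 1
    refine Subtype.ext (Units.ext ?_)
    rw [Subgroup.coe_mul, Matrix.GeneralLinearGroup.coe_mul, reflect_coe, reflect_coe, hg]

end Cfsg.Agent.S2635
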