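import Cfsg.Statements.S2638
import Mathlib
import Cfsg.Agent.Lib.Classical.IrreducibleEnd
-- import your own Cfsg.Agent.* helpers here

set_option autoImplicit false
open Cfsg

namespace Cfsg.Agent.S2638

open CfsgLib.Classical

theorem eq_one_of_small {F W : Type*} [Field F] [Fintype F] [AddCommGroup W] [Module F W] [FiniteDimensional F W]
    {n r : ℕ} (hr : r.Prime) (hqr : ((Fintype.card F : ℕ) : ZMod r) ≠ 0) (hi : orderOf ((Fintype.card F : ℕ) : ZMod r) = n)
    (hk : Module.finrank F W < n) (g : Module.End F W) (hg : g ^ r = 1) : g = 1 := by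
  classical
  haveI := Fact.mk hr
  let φ := (LinearMap.toMatrixAlgEquiv (Module.finBasis F W))
  let u : GL (Fin (Module.finrank F W)) F := Units.map φ.toMonoidHom (Units.ofPowEqOne g r hg hr.ne_zero)
  by_contra hne
  have hu : orderOf u = r := by
    refine orderOf_eq_prime ?_ fun h => hne (φ.injective ?_)
    · refine Units.ext ?_
      show (φ g) ^ r = 1
      rw [← map_pow, hg, map_one]
    · rw [map_one]
      exact congrArg Units.val h
  have hd := orderOf_dvd_natCard u
  rw [hu, Matrix.card_GL_field] at hd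
  obtain ⟨i, -, hi'⟩ := hr.prime.exists_mem_finset_dvd hd
  have hle : Fintype.card F ^ (i : ℕ) ≤ Fintype.card F ^ Module.finrank F W :=
    Nat.pow_le_pow_right Fintype.card_pos i.2.le
  have h0 := (CharP.cast_eq_zero_iff (ZMod r) r _).2 hi'
  rw [Nat.cast_sub hle, sub_eq_zero, Nat.cast_pow, Nat.cast_pow] at h0
  have h1 : ((Fintype.card F : ℕ) : ZMod r) ^ (Module.finrank F W - (i : ℕ)) = 1 := by
    rw [pow_sub₀ _ hqr i.2.le, h0, mul_inv_cancel₀ (pow_ne_zero _ hqr)]
  have h2 := orderOf_dvd_of_pow_eq_one h1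
  rw [hi] at h2
  have h3 := Nat.le_of_dvd (by have := i.2; omega) h2
  omega

theorem irr {F V : Type*} [Field F] [Fintype F] [AddCommGroup V] [Module F V] [FiniteDimensional F V]
    {n r : ℕ} (hr : r.Prime) (hrF : (r : F) ≠ 0) (hqr : ((Fintype.card F : ℕ) : ZMod r) ≠ 0) (hi : orderOf ((Fintype.card F : ℕ) : ZMod r) = n)
    (hn : Module.finrank F V = n) (f : Module.End F V) (hf : f ^ r = 1) (hf1 : f ≠ 1) : IrrEnd.Irr f := by
  intro W hW
  by_contra h
  push Not at h
  obtain ⟨W', hW', hc⟩ := IrrEnd.exists_invariant_compl hrF hf W hW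
  have key : ∀ (U : Submodule F V) (hU : ∀ w ∈ U, f w ∈ U), Module.finrank F U < n → ∀ w ∈ U, f w = w := by
    intro U hU hlt w hw
    have h := eq_one_of_small hr hqr hi hlt (f.restrict hU) (by
      rw [Module.End.pow_restrict]
      refine LinearMap.ext fun u => Subtype.ext ?_
      rw [LinearMap.restrict_coe_apply, hf]
      rfl)
    exact congrArg Subtype.val (LinearMap.congr_fun h ⟨w, hw⟩)
  have h1 : Module.finrank F W < n := hn ▸ Submodule.finrank_lt h.2
  have h2 : Module.finrank F W' < n := hn ▸ Submodule.finrank_lt (fun h' => h.1 (eq_bot_of_isCompl_top (h' ▸ hc)))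
  refine hf1 (LinearMap.ext fun v => ?_)
  obtain ⟨a, b, rfl⟩ : ∃ (a : W) (b : W'), (a : V) + b = v := by
    obtain ⟨⟨a, b⟩, hab⟩ := (Submodule.prodEquivOfIsCompl W W' hc).surjective v
    exact ⟨a, b, by simpa using hab⟩
  rw [map_add, key W hW h1 a a.2, key W' hW' h2 b b.2]
  rfl

/-- If an element x of GL_n(q), n ≥ 1, has prime order r and the multiplicative order of q modulo r is n (r is a primitive prime divisor of q^n − 1, so x acts irreducibly), then the centraliser of x in GL_n(q) is cyclic of order q^n − 1 (the multiplicative group of the field with q^n elements, a Singer cycle). -/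
theorem result {F : Type*} [Field F] [Fintype F] {p q : ℕ} [Fact p.Prime] [CharP F p] (hF : Fintype.card F = q) {n r : ℕ} (hn : 1 ≤ n) (hr : r.Prime) (hrp : r ≠ p) (hi : orderOf (q : ZMod r) = n) (x : GL (Fin n) F) (hx : orderOf x = r) : IsCyclic ↥(Subgroup.centralizer ({x} : Set (GL (Fin n) F))) ∧ Nat.card ↥(Subgroup.centralizer ({x} : Set (GL (Fin n) F))) = q ^ n - 1 := by
  classical
  haveI : NeZero n := ⟨by omega⟩
  haveI := Fact.mk hr
  subst hF
  have hrF : (r : F) ≠ 0 := fun h =>
    hrp ((Nat.prime_dvd_prime_iff_eq (Fact.out : p.Prime) hr).1 ((CharP.cast_eq_zero_iff F p r).1 h)).symm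
  have hqr : ((Fintype.card F : ℕ) : ZMod r) ≠ 0 := by
    intro h
    rw [(CharP.cast_eq_zero_iff (ZMod r) r _)] at h
    obtain ⟨m, -, hm⟩ := FiniteField.card F p
    rw [hm] at h
    exact hrp ((Nat.prime_dvd_prime_iff_eq hr Fact.out).1 (hr.dvd_of_dvd_pow h))
  let f : Module.End F (Fin n → F) := Matrix.toLinAlgEquiv' (x : Matrix (Fin n) (Fin n) F)
  have hf : f ^ r = 1 := by
    show (Matrix.toLinAlgEquiv' (x : Matrix (Fin n) (Fin n) F)) ^ r = 1
    rw [← map_pow, ← Units.val_pow_eq_pow_val, ← hx, pow_orderOf_eq_one, Units.val_one, map_one]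
  have hf1 : f ≠ 1 := fun h => by
    have : x = 1 := Units.ext (Matrix.toLinAlgEquiv'.injective (h.trans (map_one _).symm))
    rw [this, orderOf_one] at hx
    exact hr.ne_one hx.symm
  have hirr := irr hr hrF hqr hi (by simp) f hf hf1
  have hcard := IrrEnd.card_comm hirr
  rw [Module.finrank_fin_fun] at hcard
  letI : Field ↥(IrrEnd.Comm f) := @IsField.toField ↥(IrrEnd.Comm f) (IrrEnd.Comm f).toRing (IrrEnd.isField_comm hirr)
  haveI : Finite (IrrEnd.Comm f) := Nat.finite_of_card_ne_zero (by rw [hcard]; exact pow_ne_zero _ Fintype.card_ne_zero)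
  have hmem : ∀ a : Subgroup.centralizer ({x} : Set (GL (Fin n) F)),
      Matrix.toLinAlgEquiv' ((a : GL (Fin n) F) : Matrix (Fin n) (Fin n) F) ∈ IrrEnd.Comm f := fun a => by
    rw [IrrEnd.mem_comm, ← map_mul, ← map_mul]
    exact congrArg (fun y : GL (Fin n) F => Matrix.toLinAlgEquiv' (y : Matrix (Fin n) (Fin n) F))
      (Subgroup.mem_centralizer_singleton_iff.1 a.2).symm
  let φ : Subgroup.centralizer ({x} : Set (GL (Fin n) F)) →* IrrEnd.Comm f :=
    { toFun := fun a => ⟨_, hmem a⟩
      map_one' := Subtype.ext (map_one _)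
      map_mul' := fun a b => Subtype.ext (map_mul _ _ _) }
  have hinj : Function.Injective φ := fun a b h =>
    Subtype.ext (Units.ext (Matrix.toLinAlgEquiv'.injective (congrArg Subtype.val h)))
  refine ⟨isCyclic_of_subgroup_isDomain φ hinj, ?_⟩
  rw [← hcard, ← Nat.card_units]
  refine Nat.card_congr (Equiv.ofBijective φ.toHomUnits ⟨fun a b h => hinj (congrArg Units.val h), fun u => ?_⟩)
  let y : GL (Fin n) F := Units.map (Matrix.toLinAlgEquiv'.symm.toAlgHom.toMonoidHom.comp (IrrEnd.Comm f).val.toMonoidHom) u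
  have hy : y ∈ Subgroup.centralizer ({x} : Set (GL (Fin n) F)) := by
    rw [Subgroup.mem_centralizer_singleton_iff]
    refine Units.ext (Matrix.toLinAlgEquiv'.injective ?_)
    show Matrix.toLinAlgEquiv' (Matrix.toLinAlgEquiv'.symm ((u : IrrEnd.Comm f) : Module.End F (Fin n → F)) * (x : Matrix (Fin n) (Fin n) F)) =
      Matrix.toLinAlgEquiv' ((x : Matrix (Fin n) (Fin n) F) * Matrix.toLinAlgEquiv'.symm ((u : IrrEnd.Comm f) : Module.End F (Fin n → F)))
    simp only [map_mul, AlgEquiv.apply_symm_apply]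
    exact (IrrEnd.mem_comm.1 (u : IrrEnd.Comm f).2).symm
  exact ⟨⟨y, hy⟩, Units.ext (Subtype.ext (AlgEquiv.apply_symm_apply _ _))⟩

end Cfsg.Agent.S2638
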