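import Cfsg.Statements.S2640
import Mathlib
import Cfsg.Agent.Lib.Classical.UnitaryInOrth
import Cfsg.Agent.Lib.Classical.QuadBases
-- import your own Cfsg.Agent.* helpers here

set_option autoImplicit false
open Cfsg

namespace Cfsg.Agent.S2640

/-- For m even, the unitary group GU_m(q) (over the field with q² elements) embeds in the orthogonal group O⁺_2m(q) of the hyperbolic form Σ x_i y_i over the field with q elements (there is an injective homomorphism). -/
theorem result {K F : Type*} [Field K] [Fintype K] [Field F] [Fintype F] {q : ℕ} (hK : Fintype.card K = q ^ 2) (hF : Fintype.card F = q) (m : ℕ) (hm : Even m) : ∃ φ : ↥(Cfsg.GU m K q) →* ↥(Cfsg.isometryGroup F (Cfsg.quadFormPlus m F)), Function.Injective φ := by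
  classical
  obtain ⟨ι⟩ := CfsgLib.Classical.Embeddings.exists_ringHom_of_card (F := F) (K := K) two_ne_zero (by rw [hK, hF])
  letI := ι.toAlgebra
  rcases Nat.eq_zero_or_pos m with rfl | hpos
  · exact ⟨1, fun A A' _ => Subtype.ext (Units.ext (Subsingleton.elim _ _))⟩
  obtain ⟨n, rfl⟩ : ∃ n, m = n + 1 := ⟨m - 1, by omega⟩
  have hn : Odd n := by
    rw [Nat.even_add_one] at hm
    exact Nat.not_even_iff_odd.1 hm
  obtain ⟨ζ, hζ⟩ := CfsgLib.Classical.exists_anisotropic_one (F := F)
  have hab : CfsgLib.Classical.BinAniso (1 : F) ζ := fun z₁ z₂ h => by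
    by_cases h2 : z₂ = 0
    · subst h2
      exact ⟨by simpa using h, rfl⟩
    · exact absurd (show (z₁ / z₂) ^ 2 + z₁ / z₂ + ζ = 0 by field_simp; linear_combination h) (hζ _)
  refine CfsgLib.Classical.UnitOrth.embeds_of_similar hK hF (CfsgLib.Classical.coe_qPlus (n + 1))
    (((CfsgLib.Classical.UnitOrth.type_normForm hK hF n 1 ζ hab).1 hn).trans
      (CfsgLib.POAut.Similar.of_isometry (CfsgLib.Classical.plusLin (n + 1) F) fun v => CfsgLib.Classical.qPlus_plusLin (n + 1) v))

end Cfsg.Agent.S2640
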