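import Cfsg.Statements.S2642
import Mathlib
import Cfsg.Agent.Lib.Classical.GUClassCount
import Cfsg.Agent.S2570
-- import your own Cfsg.Agent.* helpers here

set_option autoImplicit false
open Cfsg

namespace Cfsg.Agent.S2642

open Matrix CfsgLib.Classical

/-- Number of conjugacy classes of elements of order p in the general unitary group GU_n(q), q a power of p: every unipotent Jordan type occurs and the classes correspond to the partitions of n with all parts at most p other than the all-ones partition, exactly as in GL_n; so there are (number of partitions of n with parts ≤ p) − 1 classes. -/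
theorem result {K : Type*} [Field K] [Fintype K] {p q n : ℕ} [Fact p.Prime] [CharP K p] (hK : Fintype.card K = q ^ 2) : Nat.card {C : ConjClasses ↥(Cfsg.GU n K q) // ∃ g : ↥(Cfsg.GU n K q), ConjClasses.mk g = C ∧ orderOf g = p} = (Finset.univ.filter (fun μ : Nat.Partition n => ∀ a ∈ μ.parts, a ≤ p)).card - 1 := by
  classical
  rw [GUClasses.card_classes_of_order hK, ← Cfsg.Agent.S2570.card_classes_order_p (F := K) (p := p) (n := n)]
  refine Nat.card_congr (Equiv.subtypeEquivRight fun C => ⟨?_, ?_⟩)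
  · rintro ⟨g, h1, h2, -⟩; exact ⟨g, h1, h2⟩
  rintro ⟨g, hgC, hg⟩
  refine ⟨g, hgC, hg, ?_⟩
  rcases Nat.eq_zero_or_pos n with rfl | hn
  · exact ⟨1, Subsingleton.elim _ _⟩
  obtain ⟨hgp, -⟩ := (Cfsg.Agent.S2570.orderOf_eq_iff_nil hn g).1 hg
  obtain ⟨a, ha⟩ : ∃ a, a = (g : Matrix (Fin n) (Fin n) K) := ⟨_, rfl⟩
  obtain ⟨a', ha'⟩ : ∃ a', a * a' = 1 := ⟨_, ha ▸ g.mul_inv⟩
  have hsa : GUConj.starQ q a * GUConj.starQ q a' = 1 := by
    rw [← GUConj.starQ_mul hK, mul_eq_one_comm.1 ha', GUConj.starQ_one hK]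
  show IsConj (g : Matrix (Fin n) (Fin n) K) _
  rw [← ha, Matrix.inv_eq_right_inv hsa]
  let Y : GL (Fin n) K := ⟨GUConj.starQ q a', GUConj.starQ q a, mul_eq_one_comm.1 hsa, hsa⟩
  have e1 : GUConj.starQ q a' - 1 = -(GUConj.starQ q a' * GUConj.starQ q (a - 1)) := by
    rw [eq_neg_iff_add_eq_zero, sub_add_eq_add_sub, sub_eq_zero]
    conv_lhs => arg 1; rw [← mul_one (GUConj.starQ q a')]
    rw [← mul_add, show (1 : Matrix (Fin n) (Fin n) K) + GUConj.starQ q (a - 1) = GUConj.starQ q a by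
      conv_rhs => rw [show a = 1 + (a - 1) by abel, GUConj.starQ_add hK, GUConj.starQ_one hK],
      ← GUConj.starQ_mul hK, ha', GUConj.starQ_one hK]
  have hcom : Commute (GUConj.starQ q a') (GUConj.starQ q (a - 1)) := by
    show _ = _
    rw [← GUConj.starQ_mul hK, ← GUConj.starQ_mul hK, sub_mul, mul_sub, ha', mul_eq_one_comm.1 ha', one_mul, mul_one]
  have hpow : ∀ k, (GUConj.starQ q (a - 1)) ^ k = GUConj.starQ q ((a - 1) ^ k) := by
    intro k
    induction k with
    | zero => rw [pow_zero, pow_zero, GUConj.starQ_one hK]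
    | succ k ih => rw [pow_succ', ih, pow_succ, GUConj.starQ_mul hK]
  have hrank : ∀ j, ((GUConj.starQ q a' - 1) ^ j).rank = ((a - 1) ^ j).rank := fun j => by
    rw [e1, neg_pow, hcom.mul_pow, hpow, ← mul_assoc,
      Matrix.rank_mul_eq_right_of_isUnit_det _ _ ((Matrix.isUnit_iff_isUnit_det _).1 ((isUnit_one.neg.pow j).mul (Y.isUnit.pow j))),
      GUClasses.rank_starQ hK]
  have hYp : (Cfsg.Agent.S2570.nilOf Y) ^ p = 0 := by
    have h0 : (a - 1) ^ p = 0 := by
      rw [Cfsg.Agent.S2570.nilOf, ← map_pow, map_eq_zero_iff _ (AlgEquiv.injective _), ← ha] at hgp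
      exact hgp
    rw [Cfsg.Agent.S2570.nilOf, ← map_pow, map_eq_zero_iff _ (AlgEquiv.injective _)]
    show (GUConj.starQ q a' - 1) ^ p = 0
    have h1 : ((GUConj.starQ q a' - 1) ^ p).rank = 0 := by rw [hrank, h0, Matrix.rank_zero]
    rw [Matrix.rank, Submodule.finrank_eq_zero, LinearMap.range_eq_bot] at h1
    exact Matrix.ext_of_mulVec_single fun i => by
      rw [Matrix.zero_mulVec]; exact LinearMap.congr_fun h1 _
  obtain ⟨f, hf⟩ := CfsgLib.Classical.JordanType.similar_of_rank hgp hYp fun j => by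
    rw [Cfsg.Agent.S2570.nilOf, Cfsg.Agent.S2570.nilOf, ← map_pow, ← map_pow]
    show (((g : Matrix (Fin n) (Fin n) K) - 1) ^ j).rank = ((GUConj.starQ q a' - 1) ^ j).rank
    rw [hrank, ha]
  obtain ⟨c, hc⟩ := isConj_iff.1 (Cfsg.Agent.S2570.exists_conj_of_similar f hf)
  refine ⟨c, ?_⟩
  have h2 := congrArg Units.val (mul_inv_eq_iff_eq_mul.1 hc)
  rw [Units.val_mul, Units.val_mul, ← ha] at h2
  exact h2

end Cfsg.Agent.S2642
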