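import Cfsg.Statements.S2644
import Mathlib
import Cfsg.Agent.Lib.Classical.HermOrder
import Cfsg.Agent.Lib.Classical.HermBilin
-- import your own Cfsg.Agent.* helpers here

set_option autoImplicit false
open Cfsg

namespace Cfsg.Agent.S2644

open Matrix CfsgLib.Classical

variable {F : Type*} [Field F] [Fintype F] {q n : ℕ}

theorem h_add_left (u v w : Fin n → F) :
    Cfsg.hermForm n F q (u + v) w = Cfsg.hermForm n F q u w + Cfsg.hermForm n F q v w := by
  simp [Cfsg.hermForm, add_mul, Finset.sum_add_distrib]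

theorem h_smul_left (a : F) (u w : Fin n → F) : Cfsg.hermForm n F q (a • u) w = a * Cfsg.hermForm n F q u w := by
  simp [Cfsg.hermForm, Finset.mul_sum, mul_assoc]

theorem h_add_right (hF : Fintype.card F = q ^ 2) (w u v : Fin n → F) :
    Cfsg.hermForm n F q w (u + v) = Cfsg.hermForm n F q w u + Cfsg.hermForm n F q w v := by
  obtain ⟨σ, hσ, -, -⟩ := exists_qPow hF
  simp [Cfsg.hermForm, ← hσ, mul_add, Finset.sum_add_distrib]

theorem h_smul_right (a : F) (w u : Fin n → F) : Cfsg.hermForm n F q w (a • u) = a ^ q * Cfsg.hermForm n F q w u := by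
  simp only [Cfsg.hermForm, Pi.smul_apply, smul_eq_mul, mul_pow, Finset.mul_sum]
  exact Finset.sum_congr rfl fun i _ => by ring

theorem h_nondeg {v : Fin n → F} (hv : v ≠ 0) : ∃ y, Cfsg.hermForm n F q y v ≠ 0 := by
  obtain ⟨i, hi⟩ := Function.ne_iff.1 hv
  refine ⟨Pi.single i 1, ?_⟩
  rw [Cfsg.hermForm, Finset.sum_eq_single i (fun k _ hk => by simp [hk]) (by simp), Pi.single_eq_same, one_mul]
  exact pow_ne_zero _ hi

theorem exists_unit_perp (hF : Fintype.card F = q ^ 2) (hn : 3 ≤ n) (v : Fin n → F) (hv : v ≠ 0) :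
    ∃ e, Cfsg.hermForm n F q e v = 0 ∧ Cfsg.hermForm n F q e e = 1 := by
  obtain ⟨σ, hσ, hσ2, hne⟩ := exists_qPow hF
  let φ : (Fin n → F) →ₗ[F] F := dotProductEquiv F (Fin n) fun i => v i ^ q
  have hφ : ∀ x, φ x = Cfsg.hermForm n F q x v := fun x => by
    simp [φ, Cfsg.hermForm, dotProduct, mul_comm]
  obtain ⟨x, hx, hxx⟩ : ∃ x, φ x = 0 ∧ Cfsg.hermForm n F q x x ≠ 0 := by
    by_contra hc
    push Not at hc
    have hiso : ∀ x y, φ x = 0 → φ y = 0 → Cfsg.hermForm n F q x y = 0 := by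
      intro x y hx hy
      have hcr : ∀ t : F, t * Cfsg.hermForm n F q x y + σ (t * Cfsg.hermForm n F q x y) = 0 := by
        intro t
        have h := hc (t • x + y) (by rw [map_add, map_smul, hx, hy, smul_zero, add_zero])
        have h1 := hc x hx
        have h2 := hc y hy
        rw [h_add_left, h_add_right hF, h_add_right hF, h_smul_left, h_smul_left, h_smul_right, h_smul_right,
          ← hermForm_conj hF x y, h1, h2] at h
        rw [map_mul, hσ, hσ]
        linear_combination h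
      by_contra hxy
      obtain ⟨θ, hθ⟩ := exists_trace_one σ hne hσ2
      have := hcr (θ * (Cfsg.hermForm n F q x y)⁻¹)
      rw [mul_assoc, inv_mul_cancel₀ hxy, mul_one, hθ] at this
      exact one_ne_zero this
    have hle : LinearMap.ker φ ≤ Submodule.span F {v} := by
      intro x hx
      obtain ⟨y₀, hy₀⟩ := h_nondeg (q := q) hv
      rw [Submodule.mem_span_singleton]
      set c := (σ (φ y₀))⁻¹ * σ (Cfsg.hermForm n F q y₀ x)
      refine ⟨c, ?_⟩
      by_contra hcx
      obtain ⟨z, hz⟩ := h_nondeg (q := q) (sub_ne_zero.2 (Ne.symm hcx))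
      have hd : ∀ z, Cfsg.hermForm n F q z (x - c • v) = Cfsg.hermForm n F q z x - σ c * φ z := fun z => by
        rw [sub_eq_add_neg, ← neg_smul, h_add_right hF, h_smul_right, ← hσ, map_neg, hφ]
        ring
      refine hz ?_
      have hcval : σ c = Cfsg.hermForm n F q y₀ x / φ y₀ := by
        simp [c, hσ2, map_inv₀, div_eq_inv_mul]
      have h0 := hiso (z - (φ z / φ y₀) • y₀) x (by
        rw [map_sub, map_smul, smul_eq_mul, div_mul_cancel₀ _ (hφ y₀ ▸ hy₀), sub_self]) hx
      rw [sub_eq_add_neg, ← neg_smul, h_add_left, h_smul_left] at h0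
      rw [hd, hcval]
      linear_combination h0
    have h1 := LinearMap.finrank_range_add_finrank_ker φ
    have h2 := Submodule.finrank_mono hle
    rw [finrank_span_singleton hv] at h2
    have h3 := Submodule.finrank_le (LinearMap.range φ)
    rw [Module.finrank_self] at h3
    rw [Module.finrank_fin_fun] at h1
    omega
  obtain ⟨b, hb⟩ := exists_norm_eq hF (μ := (Cfsg.hermForm n F q x x)⁻¹) (by rw [inv_pow, hermForm_conj hF])
  refine ⟨b • x, by rw [h_smul_left, ← hφ, hx, mul_zero], ?_⟩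
  rw [h_smul_left, h_smul_right, ← mul_assoc, ← pow_succ', hb, inv_mul_cancel₀ hxx]

theorem exists_su_move (hF : Fintype.card F = q ^ 2) (hn : 3 ≤ n) {v w : Fin n → F} (hv : v ≠ 0) (hw : w ≠ 0)
    (hvv : Cfsg.hermForm n F q v v = 0) (hww : Cfsg.hermForm n F q w w = 0) :
    ∃ g : ↥(Cfsg.GU n F q), guApply g v = w ∧ guDet n F q g = 1 := by
  classical
  obtain ⟨σ, hσ, hσ2, hne⟩ := exists_qPow hF
  have hq := two_le_q hF
  let φ : Submodule.span F {v} →ₗ[F] (Fin n → F) :=
    (LinearMap.toSpanSingleton F (Fin n → F) w).comp (LinearEquiv.toSpanNonzeroSingleton F (Fin n → F) v hv).symm.toLinearMap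
  have hinj : Function.Injective φ := fun a b hab =>
    (LinearEquiv.toSpanNonzeroSingleton F (Fin n → F) v hv).symm.injective (smul_left_injective F hw hab)
  obtain ⟨f, hf, hfv⟩ := witt_herm σ hne hσ2 (hermB n q hσ)
    (fun a b => by rw [hermB_apply, hermB_apply, hσ, hermForm_conj hF])
    (fun a h => hermForm_nondeg hσ (by omega) h) (Submodule.span F {v}) φ hinj (fun a b => by
      obtain ⟨s, rfl⟩ := (LinearEquiv.toSpanNonzeroSingleton F (Fin n → F) v hv).surjective a
      obtain ⟨t, rfl⟩ := (LinearEquiv.toSpanNonzeroSingleton F (Fin n → F) v hv).surjective b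
      simp only [φ, LinearMap.comp_apply, LinearEquiv.coe_coe, LinearEquiv.symm_apply_apply, hermB_apply]
      show Cfsg.hermForm n F q (t • w) (s • w) = Cfsg.hermForm n F q (t • v) (s • v)
      rw [h_smul_left, h_smul_right, hww, h_smul_left, h_smul_right, hvv])
  obtain ⟨g₀, hg₀⟩ := guMk_exists (q := q) f fun a b => by
    have := hf b a
    rwa [hermB_apply, hermB_apply] at this
  have hg₀v : guApply g₀ v = w := by
    rw [hg₀]
    have := hfv (LinearEquiv.toSpanNonzeroSingleton F (Fin n → F) v hv 1)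
    simp only [φ, LinearMap.comp_apply, LinearEquiv.coe_coe, LinearEquiv.symm_apply_apply] at this
    rw [show ((LinearEquiv.toSpanNonzeroSingleton F (Fin n → F) v hv 1 : Submodule.span F {v}) : Fin n → F) = v from one_smul F v] at this
    exact this.trans (one_smul F w)
  obtain ⟨e, hew, hee⟩ := exists_unit_perp hF hn w hw
  let i₀ : Fin n := ⟨0, by omega⟩
  obtain ⟨g₁, hg₁⟩ := exists_gu_map (q := q) hF (κ := Unit) (b := fun _ => Pi.single i₀ (1 : F)) (c := fun _ => e)
    (fun _ _ => by rw [hermForm_single_one (by omega)]; simp) (fun _ _ => by simp [hee])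
  set δ : F := ((guDet n F q g₀ : Fˣ) : F)⁻¹ with hδ
  have hnorm : δ ^ (q + 1) = 1 := by
    have h : guDet n F q g₀ ∈ (powMonoidHom (q + 1) : Fˣ →* Fˣ).ker := by
      rw [← guDet_range (n := n) hF (by omega)]; exact ⟨g₀, rfl⟩
    rw [hδ, inv_pow, inv_eq_one]
    exact congrArg Units.val (MonoidHom.mem_ker.1 h)
  obtain ⟨D, hD⟩ := exists_gu_diag hF (Function.update (1 : Fin n → F) i₀ δ) fun i => by
    rcases eq_or_ne i i₀ with rfl | h
    · simpa using hnorm
    · simp [h]
  refine ⟨g₁ * D * g₁⁻¹ * g₀, ?_, ?_⟩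
  · rw [guApply_mul, hg₀v, guApply_mul, guApply_mul]
    have hcoord : guApply g₁⁻¹ w i₀ = 0 := by
      have h := guApply_form g₁ (Pi.single i₀ 1) (guApply g₁⁻¹ w)
      rw [guApply_apply_inv, hg₁ (), hew] at h
      rw [Cfsg.hermForm, Finset.sum_eq_single i₀ (fun k _ hk => by simp [hk]) (by simp), Pi.single_eq_same, one_mul] at h
      exact (pow_eq_zero_iff (by omega)).1 h.symm
    have hDx : guApply D (guApply g₁⁻¹ w) = guApply g₁⁻¹ w := funext fun i => by
      rw [guApply, hD, mulVec_diagonal]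
      rcases eq_or_ne i i₀ with rfl | h
      · rw [hcoord, mul_zero]
      · simp [h]
    rw [hDx, guApply_apply_inv]
  · rw [map_mul, map_mul, map_mul, map_inv, mul_comm (guDet n F q g₁) (guDet n F q D), mul_inv_cancel_right]
    refine Units.ext ?_
    have hd : ((guDet n F q D : Fˣ) : F) = δ := by
      simp [guDet, hD, det_diagonal, Finset.prod_update_of_mem]
    rw [Units.val_mul, hd, hδ, Units.val_one, inv_mul_cancel₀ (Units.ne_zero _)]

theorem transvec_form (hF : Fintype.card F = q ^ 2) (t : Matrix (Fin n) (Fin n) F)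
    (hiso : ∀ x y, Cfsg.hermForm n F q (t *ᵥ x) (t *ᵥ y) = Cfsg.hermForm n F q x y)
    (ht : Cfsg.IsTransvection t) :
    ∃ (v : Fin n → F) (c : F), v ≠ 0 ∧ c ≠ 0 ∧ Cfsg.hermForm n F q v v = 0 ∧ c + c ^ q = 0 ∧
      ∀ x, t *ᵥ x = x + (c * Cfsg.hermForm n F q x v) • v := by
  obtain ⟨σ, hσ, hσ2, hne⟩ := exists_qPow hF
  obtain ⟨⟨v, hvmem⟩, hv0, hspan⟩ := finrank_eq_one_iff'.1 ht.1
  have hv : v ≠ 0 := fun h => hv0 (Subtype.ext h)
  choose a ha using fun x : Fin n → F => hspan ⟨(t - 1) *ᵥ x, LinearMap.mem_range_self (t - 1).mulVecLin x⟩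
  have htx : ∀ x, t *ᵥ x = x + a x • v := fun x => by
    rw [show a x • v = (t - 1) *ᵥ x from congrArg Subtype.val (ha x), sub_mulVec, one_mulVec, add_sub_cancel]
  have htv : t *ᵥ v = v := by
    obtain ⟨u, hu⟩ := hvmem
    have h2 : (t - 1) *ᵥ v = 0 := by
      rw [← hu]
      show (t - 1) *ᵥ ((t - 1) *ᵥ u) = 0
      rw [mulVec_mulVec, ht.2, zero_mulVec]
    rwa [sub_mulVec, one_mulVec, sub_eq_zero] at h2
  obtain ⟨x₁, hx₁⟩ : ∃ x, a x ≠ 0 := by
    by_contra hc
    push Not at hc
    have h0 : t - 1 = 0 := Matrix.ext_of_mulVec_single fun i => by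
      rw [sub_mulVec, htx, hc, zero_smul, add_zero, one_mulVec, sub_self, zero_mulVec]
    have := ht.1
    rw [h0, Matrix.rank_zero] at this
    exact zero_ne_one this
  have hvv : Cfsg.hermForm n F q v v = 0 := by
    have h := hiso v x₁
    rw [htv, htx, h_add_right hF, h_smul_right, add_eq_left, mul_eq_zero] at h
    exact h.resolve_left (pow_ne_zero _ hx₁)
  have key : ∀ x y, σ (a y) * Cfsg.hermForm n F q x v + a x * Cfsg.hermForm n F q v y = 0 := fun x y => by
    have h := hiso x y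
    rw [htx, htx, h_add_left, h_add_right hF, h_add_right hF, h_smul_left, h_smul_left, h_smul_right, h_smul_right, hvv] at h
    rw [hσ]
    linear_combination h
  obtain ⟨y₀, hy₀⟩ := h_nondeg (q := q) hv
  have hy₀' : Cfsg.hermForm n F q v y₀ ≠ 0 := by
    rw [← hermForm_conj hF y₀ v]; exact pow_ne_zero _ hy₀
  set c := -(σ (a y₀)) / Cfsg.hermForm n F q v y₀ with hc
  have hax : ∀ x, a x = c * Cfsg.hermForm n F q x v := fun x => by
    rw [hc]
    field_simp
    linear_combination key x y₀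
  refine ⟨v, c, hv, fun h0 => hx₁ (by rw [hax, h0, zero_mul]), hvv, ?_, fun x => by rw [htx, hax]⟩
  have h := key y₀ y₀
  rw [hax, map_mul, hσ, hσ, hermForm_conj hF] at h
  have h' : (c + c ^ q) * (Cfsg.hermForm n F q y₀ v * Cfsg.hermForm n F q v y₀) = 0 := by linear_combination h
  exact (mul_eq_zero.1 h').resolve_right (mul_ne_zero hy₀ hy₀')

/-- In the special unitary group SU_n(q) with n ≥ 3 (isometries of Σ u_i v_i^q of determinant one over the field with q² elements), any two transvections (elements t with t − 1 of rank one and square zero) are conjugate. -/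
theorem result {K : Type*} [Field K] [Fintype K] {q n : ℕ} (hK : Fintype.card K = q ^ 2) (hn : 3 ≤ n) (s t : ↥(Cfsg.SU n K q)) (hs : Cfsg.IsTransvection (((s : GL (Fin n) K) : Matrix (Fin n) (Fin n) K))) (ht : Cfsg.IsTransvection (((t : GL (Fin n) K) : Matrix (Fin n) (Fin n) K))) : IsConj s t := by
  classical
  obtain ⟨v, c, hv, hc, hvv, hcs, hsx⟩ := transvec_form hK _ s.2 hs
  obtain ⟨w, d, hw, hd, hww, hds, htx⟩ := transvec_form hK _ t.2 ht
  obtain ⟨β, hβ⟩ := exists_norm_eq hK (μ := d / c) (by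
    rw [div_pow, show d ^ q = -d by linear_combination hds, show c ^ q = -c by linear_combination hcs, neg_div_neg_eq])
  have hβ0 : β ≠ 0 := fun h0 => div_ne_zero hd hc (by rw [← hβ, h0, zero_pow (by omega)])
  obtain ⟨g, hgv, hgdet⟩ := exists_su_move (v := v) (w := β • w) hK hn hv (smul_ne_zero hβ0 hw) hvv
    (by rw [h_smul_left, h_smul_right, hww, mul_zero, mul_zero])
  have hdet1 : ((g : GL (Fin n) K) : Matrix (Fin n) (Fin n) K).det = 1 := by
    simpa [guDet] using congrArg Units.val hgdet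
  let G : ↥(Cfsg.SU n K q) := ⟨⟨((g : GL (Fin n) K) : Matrix (Fin n) (Fin n) K), hdet1⟩, fun a b => g.2 a b⟩
  refine isConj_iff.2 ⟨G, ?_⟩
  rw [mul_inv_eq_iff_eq_mul]
  refine Subtype.ext (Subtype.ext (Matrix.ext_of_mulVec_single fun i => ?_))
  show (((g : GL (Fin n) K) : Matrix (Fin n) (Fin n) K) * _) *ᵥ _ = (_ * ((g : GL (Fin n) K) : Matrix (Fin n) (Fin n) K)) *ᵥ _
  rw [← Matrix.mulVec_mulVec, ← Matrix.mulVec_mulVec]
  set x := (Pi.single i 1 : Fin n → K)
  erw [hsx, htx]
  rw [Matrix.mulVec_add, Matrix.mulVec_smul]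
  have hgx : Cfsg.hermForm n K q (((g : GL (Fin n) K) : Matrix (Fin n) (Fin n) K) *ᵥ x) (β • w) = Cfsg.hermForm n K q x v := by
    rw [← hgv]; exact guApply_form g x v
  rw [h_smul_right] at hgx
  rw [show ((g : GL (Fin n) K) : Matrix (Fin n) (Fin n) K) *ᵥ v = β • w from hgv, smul_smul, ← hgx]
  congr 2
  have hd' : d = c * β ^ (q + 1) := by rw [hβ]; field_simp
  rw [hd', pow_succ]
  ring

end Cfsg.Agent.S2644
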