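import Cfsg.Statements.S2657
import Cfsg.Agent.Lib.Known.AltSection.F4

set_option autoImplicit false
open scoped MatrixGroups
open Cfsg

namespace Cfsg.Agent.S2657

/-- Alternating sections of the groups of type F₄. Let `F` be a finite field of characteristic `p` and let `G` be the Chevalley group of type F₄ over `F`. If some subgroup of `G` has a quotient isomorphic to the alternating group of degree `r`, then `r` is at most 10, or 11 in characteristic 11. (Only an upper bound is asserted.) -/
theorem result {F : Type*} [Field F] [Fintype F] (p : ℕ) [Fact p.Prime] [CharP F p]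
    (r : ℕ) (H : Subgroup ↥(Cfsg.Lie.chevF4.group F)) (K : Subgroup ↥H) [K.Normal]
    (h : Nonempty (↥H ⧸ K ≃* ↥(alternatingGroup (Fin r)))) :
    r ≤ 10 + (if p = 11 then 1 else 0) := by
  classical
  obtain ⟨π, hπ⟩ := CfsgLib.AltSection.exists_surj H K h
  let L := FiniteField.Extension F p 60
  haveI : Finite L := inferInstance
  let ι : F →+* L := algebraMap F L
  have hF := CfsgLib.Chev.DataF4.facts
  let f : ↥(Cfsg.Lie.chevF4.group F) →* ↥(Cfsg.Lie.chevF4.group L) :=
    ((CfsgLib.Known.ChevSinger.extG Cfsg.Lie.chevF4 ι).comp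
      (Cfsg.Lie.chevF4.group F).subtype).codRestrict _
      (fun x => CfsgLib.Known.ChevSinger.extG_mem_group ι hF x.2)
  have hf : Function.Injective f := fun a b e => Subtype.ext
    (CfsgLib.Known.ChevSinger.extG_injective ι (congrArg Subtype.val e :))
  obtain ⟨H', π', hπ'⟩ := CfsgLib.AltSection.exists_surj_map hf π hπ
  have hc : Nat.card L = Nat.card F ^ 60 := by rw [FiniteField.natCard_extension]
  obtain ⟨n, hp, hn⟩ := FiniteField.card F p
  rw [← Nat.card_eq_fintype_card] at hn
  have hdvd : ∀ l : ℕ, l.Prime → p ≠ l → (l - 1) ∣ 60 → l ∣ Nat.card L - 1 := by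
    intro l hl hne ⟨k, hk⟩
    haveI : Fact l.Prime := ⟨hl⟩
    have h0 : (Nat.card F : ZMod l) ≠ 0 := by
      rw [Ne, ZMod.natCast_eq_zero_iff, hn]
      exact fun e => hne ((Nat.prime_dvd_prime_iff_eq hl hp).1 (hl.dvd_of_dvd_pow e)).symm
    rw [hc, ← ZMod.natCast_eq_zero_iff, Nat.cast_sub (Nat.one_le_pow _ _ Nat.card_pos), Nat.cast_pow,
      hk, pow_mul, ZMod.pow_card_sub_one_eq_one h0, one_pow, Nat.cast_one, sub_self]
  split_ifs with h11
  · exact CfsgLib.AltSection.F4.bound_eleven (hdvd 5 (by norm_num) (by omega) (by norm_num))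
      (hdvd 7 (by norm_num) (by omega) (by norm_num)) H' π' hπ'
  · exact CfsgLib.AltSection.F4.bound_ten (hdvd 11 (by norm_num) h11 (by norm_num)) H' π' hπ'

end Cfsg.Agent.S2657
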