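import Cfsg.Statements.S2658
import Cfsg.Agent.Lib.Known.AltSection.G2

set_option autoImplicit false
open scoped MatrixGroups
open Cfsg

namespace Cfsg.Agent.S2658

/-- Alternating sections of the groups of type G₂. Let `F` be a finite field of characteristic `p` and let `G` be the Chevalley group of type G₂ over `F`. If some subgroup of `G` has a quotient isomorphic to the alternating group of degree `r`, then `r` is at most 6, or 7 in characteristic 5. (Only an upper bound is asserted.) -/
theorem result {F : Type*} [Field F] [Fintype F] (p : ℕ) [Fact p.Prime] [CharP F p]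
    (r : ℕ) (H : Subgroup ↥(Cfsg.Lie.chevG2.group F)) (K : Subgroup ↥H) [K.Normal]
    (h : Nonempty (↥H ⧸ K ≃* ↥(alternatingGroup (Fin r)))) :
    r ≤ 6 + (if p = 5 then 1 else 0) := by
  classical
  obtain ⟨π, hπ⟩ := CfsgLib.AltSection.exists_surj H K h
  let L := FiniteField.Extension F p 4
  haveI : Finite L := inferInstance
  let ι : F →+* L := algebraMap F L
  have hF := CfsgLib.Chev.DataG2.facts
  let f : ↥(Cfsg.Lie.chevG2.group F) →* ↥(Cfsg.Lie.chevG2.group L) :=
    ((CfsgLib.Known.ChevSinger.extG Cfsg.Lie.chevG2 ι).comp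
      (Cfsg.Lie.chevG2.group F).subtype).codRestrict _
      (fun x => CfsgLib.Known.ChevSinger.extG_mem_group ι hF x.2)
  have hf : Function.Injective f := fun a b e => Subtype.ext
    (CfsgLib.Known.ChevSinger.extG_injective ι (congrArg Subtype.val e :))
  obtain ⟨H', π', hπ'⟩ := CfsgLib.AltSection.exists_surj_map hf π hπ
  have hc : Nat.card L = Nat.card F ^ 4 := by
    rw [FiniteField.natCard_extension]
  obtain ⟨n, hp, hn⟩ := FiniteField.card F p
  rw [← Nat.card_eq_fintype_card] at hn
  split_ifs with h5
  · subst h5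
    refine CfsgLib.AltSection.G2.bound_seven L ?_ H' π' hπ'
    rw [hc, hn, ← pow_mul, mul_comm, pow_mul, Nat.pow_mod]
    norm_num
  · refine CfsgLib.AltSection.G2.bound_six L ?_ H' π' hπ'
    rw [hc]
    have h0 : Nat.card F % 5 ≠ 0 := fun e => h5 ((Nat.prime_dvd_prime_iff_eq (by norm_num) hp).1
      ((by norm_num : Nat.Prime 5).dvd_of_dvd_pow (hn ▸ Nat.dvd_of_mod_eq_zero e))).symm
    have hlt : Nat.card F % 5 < 5 := Nat.mod_lt _ (by norm_num)
    rw [Nat.pow_mod]
    interval_cases h : Nat.card F % 5 <;> simp_all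

end Cfsg.Agent.S2658
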