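import Cfsg.Statements.S2660
import Cfsg.Agent.Lib.Known.AltSection.D4

set_option autoImplicit false
open scoped MatrixGroups
open Cfsg

namespace Cfsg.Agent.S2660

/-- Alternating sections of the triality-twisted groups ³D₄. Let `q = p^a` be a prime power and `K` a field with `q³` elements, and let `G` be the twisted group ³D₄(q) realised over `K`. If some subgroup of `G` has a quotient isomorphic to the alternating group of degree `r`, then `r` is at most 6, or 7 in characteristic 5. (Only an upper bound is asserted.) -/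
theorem result {K : Type*} [Field K] [Fintype K] (p a : ℕ) [Fact p.Prime] [CharP K p]
    (ha : 1 ≤ a) (hK : Fintype.card K = (p ^ a) ^ 3) (r : ℕ) (H : Subgroup ↥(Cfsg.Lie.twistedD4 K (p ^ a))) (N : Subgroup ↥H) [N.Normal]
    (h : Nonempty (↥H ⧸ N ≃* ↥(alternatingGroup (Fin r)))) :
    r ≤ 6 + (if p = 5 then 1 else 0) := by
  classical
  obtain ⟨π, hπ⟩ := CfsgLib.AltSection.exists_surj H N h
  have hp : p.Prime := Fact.out
  set q := p ^ a with hq
  obtain ⟨C⟩ := CfsgLib.Chev.TwD4.nonempty_ctx (K := K) (q := q)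
    (hp.prime.isPrimePow.pow (by omega)) hK
  let L := FiniteField.Extension K p 4
  haveI : Finite L := inferInstance
  haveI : Fintype L := Fintype.ofFinite L
  have hc : Fintype.card L = (q ^ 4) ^ 3 := by
    rw [← Nat.card_eq_fintype_card, FiniteField.natCard_extension, Nat.card_eq_fintype_card, hK]
    ring
  obtain ⟨C'⟩ := CfsgLib.Chev.TwD4.nonempty_ctx (K := L) (q := q ^ 4)
    ((hp.prime.isPrimePow.pow (by omega)).pow (by omega)) hc
  let ι : K →+* L := algebraMap K L
  have h1 : ∀ t : K, (ι t) ^ (q ^ 4) = ι (t ^ q) := fun t => by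
    rw [← map_pow, show q ^ 4 = q ^ 3 * q by ring, pow_mul, ← hK, FiniteField.pow_card]
  let f : ↥(Cfsg.Lie.twistedD4 K q) →* ↥(Cfsg.Lie.twistedD4 L (q ^ 4)) :=
    ((CfsgLib.Known.ChevSinger.extG Cfsg.Lie.chevD4 ι).comp
      (Cfsg.Lie.twistedD4 K q).subtype).codRestrict _
      (fun x => CfsgLib.AltSection.D4.extG_mem_twisted C C' ι h1 x.2)
  have hf : Function.Injective f := fun a b e => Subtype.ext
    (CfsgLib.Known.ChevSinger.extG_injective ι (congrArg Subtype.val e :))
  obtain ⟨H', π', hπ'⟩ := CfsgLib.AltSection.exists_surj_map hf π hπ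
  split_ifs with h5
  · refine CfsgLib.AltSection.D4.bound_seven C' ?_ H' π' hπ'
    rw [hq, h5, ← pow_mul, mul_comm, pow_mul, Nat.pow_mod]
    norm_num
  · refine CfsgLib.AltSection.D4.bound_six C' ?_ H' π' hπ'
    have h0 : q % 5 ≠ 0 := fun e => h5 ((Nat.prime_dvd_prime_iff_eq (by norm_num) hp).1
      ((by norm_num : Nat.Prime 5).dvd_of_dvd_pow (Nat.dvd_of_mod_eq_zero e))).symm
    have hlt : q % 5 < 5 := Nat.mod_lt _ (by norm_num)
    rw [Nat.pow_mod]
    interval_cases h : q % 5 <;> simp_all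

end Cfsg.Agent.S2660
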