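import Cfsg.Statements.S2661
import Cfsg.Agent.Lib.Chev.Twist.F4Seven

set_option autoImplicit false
open scoped MatrixGroups
open Cfsg

namespace Cfsg.Agent.S2661

/-- Alternating sections of the large Ree groups ²F₄. Let `m ≥ 1`, let `K` be a field with `2^(2m+1)` elements and let `G` be the large Ree group ²F₄(2^(2m+1)) realised over `K`. If some subgroup of `G` has a quotient isomorphic to the alternating group of degree `r`, then `r ≤ 6`. (Only an upper bound is asserted.) -/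
theorem result {K : Type*} [Field K] [Fintype K] {m : ℕ} (hm : 1 ≤ m)
    (hK : Fintype.card K = 2 ^ (2 * m + 1)) (r : ℕ) (H : Subgroup ↥(Cfsg.Lie.twistedF4 K (2 ^ m))) (N : Subgroup ↥H) [N.Normal]
    (h : Nonempty (↥H ⧸ N ≃* ↥(alternatingGroup (Fin r)))) :
    r ≤ 6 := by
  by_contra hr
  push Not at hr
  obtain ⟨C⟩ := CfsgLib.Chev.TwF4.nonempty_ctx (K := K) (m := m) hK
  obtain ⟨e⟩ := h
  haveI : Fact (Nat.Prime 7) := ⟨by norm_num⟩
  have hfin : Finite ↥(Cfsg.Lie.twistedF4 K (2 ^ m)) := by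
    haveI : Finite (GL Cfsg.Lie.chevF4.Idx K) := inferInstance
    infer_instance
  set π : ↥H →* ↥(alternatingGroup (Fin r)) := e.toMonoidHom.comp (QuotientGroup.mk' N) with hπ
  have hsurj : Function.Surjective π := e.surjective.comp (QuotientGroup.mk'_surjective N)
  obtain ⟨σ, τ, hσ, hστ⟩ : ∃ σ τ : ↥(alternatingGroup (Fin r)), orderOf σ = 7 ∧ τ * σ * τ⁻¹ = σ ^ 2 := by
    obtain ⟨s, t, hs1, ht1, hst, hs7, hs0⟩ : ∃ s t : Equiv.Perm (Fin 7), Equiv.Perm.sign s = 1 ∧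
        Equiv.Perm.sign t = 1 ∧ t * s * t⁻¹ = s ^ 2 ∧ s ^ 7 = 1 ∧ s ≠ 1 :=
      ⟨c[0, 1, 2, 3, 4, 5, 6], c[1, 2, 4] * c[3, 6, 5], by decide +kernel, by decide +kernel, by decide +kernel,
        by decide +kernel, by decide +kernel⟩
    let ι := Equiv.Perm.viaEmbeddingHom (Fin.castLEEmb hr)
    have hι : Function.Injective ι := Equiv.Perm.viaEmbeddingHom_injective _
    have hsg : ∀ p : Equiv.Perm (Fin 7), Equiv.Perm.sign p = 1 → ι p ∈ alternatingGroup (Fin r) :=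
      fun p hp => by
        rw [Equiv.Perm.mem_alternatingGroup]
        show Equiv.Perm.sign (Equiv.Perm.viaEmbedding p _) = 1
        rw [Equiv.Perm.viaEmbedding, Equiv.Perm.sign_extendDomain, hp]
    refine ⟨⟨ι s, hsg s hs1⟩, ⟨ι t, hsg t ht1⟩, ?_, Subtype.ext ?_⟩
    · rw [← Subgroup.orderOf_coe, orderOf_injective ι hι]
      exact orderOf_eq_prime hs7 hs0
    · simpa using congrArg ι hst
  obtain ⟨t, ht⟩ := hsurj τ
  set L := (Subgroup.zpowers σ).comap π with hL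
  obtain ⟨P⟩ : Nonempty (Sylow 7 ↥L) := inferInstance
  set A := (P : Subgroup ↥L).map L.subtype with hA
  have hAp : IsPGroup 7 A := P.isPGroup'.map _
  have hAσ : σ ∈ A.map π := by
    have hle : A.map π ≤ Subgroup.zpowers σ := Subgroup.map_le_iff_le_comap.2 (Subgroup.map_subtype_le _)
    obtain ⟨y, hy⟩ := hsurj σ
    set ρ : ↥L →* ↥(Subgroup.zpowers σ) := (π.comp L.subtype).codRestrict _ (fun l => l.2) with hρ
    have hρs : Function.Surjective ρ := by
      rintro ⟨z, hz⟩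
      obtain ⟨w, hw⟩ := hsurj z
      exact ⟨⟨w, show π w ∈ _ by rw [hw]; exact hz⟩, Subtype.ext hw⟩
    have hPs : IsPGroup 7 ↥(Subgroup.zpowers σ) :=
      IsPGroup.of_card (n := 1) (by rw [Nat.card_zpowers, hσ, pow_one])
    have hP' := P.mapSurjective hρs
    have htop : ((P.mapSurjective hρs : Sylow 7 _) : Subgroup ↥(Subgroup.zpowers σ)) = ⊤ := by
      refine Subgroup.eq_top_of_card_eq _ ?_
      rw [Sylow.card_eq_multiplicity, Nat.card_zpowers, hσ, (Nat.Prime.factorization_self (by norm_num : Nat.Prime 7)), pow_one]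
    have hmem : (⟨σ, Subgroup.mem_zpowers σ⟩ : ↥(Subgroup.zpowers σ)) ∈
        ((P.mapSurjective hρs : Sylow 7 _) : Subgroup ↥(Subgroup.zpowers σ)) := htop ▸ Subgroup.mem_top _
    rw [Sylow.coe_mapSurjective] at hmem
    obtain ⟨l, hl, hlσ⟩ := hmem
    exact ⟨(l : ↥H), ⟨l, hl, rfl⟩, congrArg Subtype.val hlσ⟩
  have hLt : ∀ l : ↥H, l ∈ L ↔ t * l * t⁻¹ ∈ L := by
    intro l
    simp only [hL, Subgroup.mem_comap, map_mul, map_inv, ht]
    constructor
    · intro hl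
      obtain ⟨k, hk⟩ := Subgroup.mem_zpowers_iff.1 hl
      rw [← hk, ← conj_zpow, hστ]
      exact Subgroup.zpow_mem _ (Subgroup.pow_mem _ (Subgroup.mem_zpowers σ) 2) k
    · intro hl
      obtain ⟨k, hk⟩ := Subgroup.mem_zpowers_iff.1 hl
      have hinv : τ⁻¹ * σ * τ = σ ^ 4 := by
        have h4 : τ⁻¹ * (σ ^ 2) * τ = σ := by rw [← hστ]; group
        calc τ⁻¹ * σ * τ = τ⁻¹ * σ ^ 8 * τ := by
              rw [show σ ^ 8 = σ from (pow_succ σ 7).trans (by rw [← hσ, pow_orderOf_eq_one, one_mul])]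
          _ = (τ⁻¹ * σ ^ 2 * τ⁻¹⁻¹) ^ 4 := by rw [conj_pow, ← pow_mul, inv_inv]
          _ = σ ^ 4 := by rw [inv_inv, h4]
      have e : π l = τ⁻¹ * σ ^ k * τ⁻¹⁻¹ := by rw [hk]; group
      rw [e, ← conj_zpow, inv_inv, hinv]
      exact Subgroup.zpow_mem _ (Subgroup.pow_mem _ (Subgroup.mem_zpowers σ) 4) k
  -- Frattini: the conjugate Sylow subgroup is conjugate inside `L`
  let c : ↥L ≃* ↥L :=
    { toFun := fun l => ⟨t * l * t⁻¹, (hLt l).1 l.2⟩
      invFun := fun l => ⟨t⁻¹ * l * t, (hLt _).2 (by simp [mul_assoc])⟩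
      left_inv := fun l => Subtype.ext (by simp [mul_assoc])
      right_inv := fun l => Subtype.ext (by simp [mul_assoc])
      map_mul' := fun a b => Subtype.ext (by simp [mul_assoc]) }
  obtain ⟨l, hl⟩ := MulAction.exists_smul_eq ↥L (P.mapSurjective (f := c.toMonoidHom) c.surjective) P
  set x : ↥H := (l : ↥H) * t with hx
  have hxA : ∀ d ∈ A, x * d * x⁻¹ ∈ A := by
    rintro _ ⟨d, hd, rfl⟩
    refine ⟨l * c d * l⁻¹, ?_, ?_⟩
    · rw [← hl, Sylow.smul_def, Sylow.pointwise_smul_def]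
      exact (Subgroup.mem_smul_pointwise_iff_exists _ _ _).2
        ⟨c d, (show c d ∈ (P : Subgroup ↥L).map c.toMonoidHom from ⟨d, hd, rfl⟩), rfl⟩
    · show (l : ↥H) * (t * (d : ↥H) * t⁻¹) * (l : ↥H)⁻¹ = x * (d : ↥H) * x⁻¹
      rw [hx]; group
  obtain ⟨d, hd, hdσ⟩ := hAσ
  have hcom : Commute (x ^ 16) d := by
    have := C.pow_sixteen_centralizes (A.map H.subtype) (hAp.map _) (x : ↥(Cfsg.Lie.twistedF4 K (2 ^ m)))
      (by rintro _ ⟨a, ha, rfl⟩; exact ⟨x * a * x⁻¹, hxA a ha, rfl⟩) d ⟨d, hd, rfl⟩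
    exact Subtype.ext this.eq
  obtain ⟨j, hj⟩ := Subgroup.mem_zpowers_iff.1 (show π (l : ↥H) ∈ Subgroup.zpowers σ from l.2)
  have hconj : π x * σ * (π x)⁻¹ = σ ^ 2 := by
    rw [hx, map_mul, ← hj, ht, show σ ^ j * τ * σ * (σ ^ j * τ)⁻¹ = σ ^ j * (τ * σ * τ⁻¹) * (σ ^ j)⁻¹ by group,
      hστ]
    group
  have hk : ∀ k : ℕ, π x ^ k * σ * (π x ^ k)⁻¹ = σ ^ 2 ^ k := by
    intro k
    induction k with
    | zero => simp
    | succ k ih =>
      calc π x ^ (k + 1) * σ * (π x ^ (k + 1))⁻¹ = π x * (π x ^ k * σ * (π x ^ k)⁻¹) * (π x)⁻¹ := by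
            rw [pow_succ']; group
        _ = (π x * σ * (π x)⁻¹) ^ 2 ^ k := by rw [ih, conj_pow]
        _ = σ ^ 2 ^ (k + 1) := by rw [hconj, ← pow_mul, pow_succ']
  have h16 := hk 16
  have hc : Commute (π x ^ 16) σ := by
    rw [← hdσ, ← map_pow]; exact hcom.map π
  rw [hc.eq, mul_inv_cancel_right] at h16
  have hd7 : σ ^ 65535 = 1 := by
    have : σ * σ ^ 65535 = σ * 1 := by
      rw [mul_one, ← pow_succ']
      exact h16.symm
    exact mul_left_cancel this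
  have := orderOf_dvd_of_pow_eq_one hd7
  rw [hσ] at this
  norm_num at this

end Cfsg.Agent.S2661
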