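import Cfsg.Statements.S2666
import Cfsg.Agent.Lib.KnownSimple.Shintani

set_option autoImplicit false
open Cfsg CfsgLib.KnownSimple

namespace Cfsg.Agent.S2666

/-- Shintani descent, in an abstract form. Let `σ` be an automorphism of a group `X` such that the maps `a ↦ a·σ(a)⁻¹` and `a ↦ a·σᵉ(a)⁻¹` are surjective on `X` (the Lang–Steinberg property, which holds when `X` is a connected algebraic group and `σ` a Steinberg endomorphism), where `e ≥ 1`. Write `G` for the subgroup of fixed points of `σᵉ` and `H` for the subgroup of fixed points of `σ`. The `G`-conjugacy classes in the coset `G σ` of the semidirect product of `G` by `σ` correspond to the orbits of `G` on itself under twisted conjugation `g ↦ k g σ(k)⁻¹`, and the `e`-th power of `g σ` has `G`-part the norm `g σ(g) ⋯ σ^(e-1)(g)`. For `g` in `G` and any `a` with `g = a σ(a)⁻¹`, put `x = σᵉ(a)⁻¹ a`. Then: (1) `x` lies in `H`, and `a⁻¹ · (g σ(g) ⋯ σ^(e-1)(g)) · a = x`;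 (2) for `g, g'` in `G` with such elements `a, b` and `x, x'`, the elements `g, g'` are twisted-conjugate under `G` if and only if `x, x'` are conjugate in `H`; (3) every element of `H` arises as such an `x`. So `g ↦ x` induces a well-defined bijection from the twisted `G`-classes of `G` onto the conjugacy classes of `H` (the Shintani map). -/
theorem result {X : Type*} [Group X] (σ : MulAut X) (e : ℕ) (he : 1 ≤ e)
    (hL : ∀ g : X, ∃ a : X, g = a * (σ a)⁻¹) (hLe : ∀ g : X, ∃ a : X, g = a * ((σ ^ e) a)⁻¹) :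
    (∀ g ∈ (MulEquiv.toMonoidHom (σ ^ e)).eqLocus (MonoidHom.id X), ∀ a : X, g = a * (σ a)⁻¹ →
        ((σ ^ e) a)⁻¹ * a ∈ (MulEquiv.toMonoidHom σ).eqLocus (MonoidHom.id X) ∧
          a⁻¹ * ((List.range e).map (fun i => (σ ^ i) g)).prod * a = ((σ ^ e) a)⁻¹ * a) ∧
    (∀ g ∈ (MulEquiv.toMonoidHom (σ ^ e)).eqLocus (MonoidHom.id X), ∀ g' ∈ (MulEquiv.toMonoidHom (σ ^ e)).eqLocus (MonoidHom.id X), ∀ a b : X,
        g = a * (σ a)⁻¹ → g' = b * (σ b)⁻¹ →
          ((∃ k ∈ (MulEquiv.toMonoidHom (σ ^ e)).eqLocus (MonoidHom.id X), g' = k * g * (σ k)⁻¹) ↔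
            (∃ h ∈ (MulEquiv.toMonoidHom σ).eqLocus (MonoidHom.id X), ((σ ^ e) b)⁻¹ * b = h * (((σ ^ e) a)⁻¹ * a) * h⁻¹))) ∧
    (∀ x ∈ (MulEquiv.toMonoidHom σ).eqLocus (MonoidHom.id X), ∃ g ∈ (MulEquiv.toMonoidHom (σ ^ e)).eqLocus (MonoidHom.id X), ∃ a : X,
        g = a * (σ a)⁻¹ ∧ ((σ ^ e) a)⁻¹ * a = x) := by
  simp only [mem_eqLocus_id_iff]
  refine ⟨?_, ?_, ?_⟩
  · intro g hg a ha
    subst ha
    refine ⟨(shintani_fixed_iff σ e a).1 hg, ?_⟩
    rw [shintani_prod]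
    simp
  · intro g hg g' hg' a b ha hb
    subst ha; subst hb
    have hxa := (shintani_fixed_iff σ e a).1 hg
    constructor
    · rintro ⟨k, hk, heq⟩
      have hu : σ ((k * a)⁻¹ * b) = (k * a)⁻¹ * b := by
        have h1 : b * (σ b)⁻¹ = k * a * (σ (k * a))⁻¹ := by
          rw [heq, map_mul]; simp [mul_assoc]
        rw [map_mul, map_inv]
        have h2 : (σ b)⁻¹ = b⁻¹ * (k * a * (σ (k * a))⁻¹) := by rw [← h1]; simp
        have h3 : σ b = σ (k * a) * (k * a)⁻¹ * b := by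
          rw [← inv_inv (σ b), h2]; simp [mul_assoc]
        rw [h3]; simp [mul_assoc]
      refine ⟨((k * a)⁻¹ * b)⁻¹, by rw [map_inv, hu], ?_⟩
      have hu' := pow_fixed σ hu e
      rw [map_mul, map_inv, map_mul, hk] at hu'
      have h4 : (σ ^ e) b = k * (σ ^ e) a * ((k * a)⁻¹ * b) := by rw [← hu']; simp [mul_assoc]
      rw [h4]; simp [mul_assoc]
    · rintro ⟨h, hh, heq⟩
      refine ⟨b * h * a⁻¹, ?_, ?_⟩
      · rw [map_mul, map_mul, map_inv, pow_fixed σ hh e]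
        have h4 : (σ ^ e) b = b * (((σ ^ e) b)⁻¹ * b)⁻¹ := by simp
        rw [h4, heq]; simp [mul_assoc]
      · rw [map_mul, map_mul, map_inv, hh]; simp [mul_assoc]
  · intro x hx
    obtain ⟨c, hc⟩ := hLe x⁻¹
    have hxc : ((σ ^ e) c⁻¹⁻¹) * c⁻¹ = x := by
      rw [inv_inv, ← inv_inv x, hc]; simp
    refine ⟨c⁻¹ * (σ c⁻¹)⁻¹, ?_, c⁻¹, rfl, by rw [← map_inv (σ ^ e)]; exact hxc⟩
    rw [shintani_fixed_iff, ← map_inv (σ ^ e), hxc]
    exact hx

end Cfsg.Agent.S2666
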