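import Cfsg.Statements.S2669
import Mathlib
import Mathlib
-- import your own Cfsg.Agent.* helpers here

set_option autoImplicit false
open Cfsg

namespace Cfsg.Agent.S2669

theorem pow_fix {X : Type*} [Group X] (σ : MulAut X) (x : X) (hx : σ x = x) : ∀ k : ℕ, (σ ^ k) x = x
  | 0 => by simp
  | k + 1 => by rw [pow_succ, MulAut.mul_apply, hx, pow_fix σ x hx k]

/-- Shintani descent preserves numbers of fixed points on coset spaces (abstract form). Let `σ` be an automorphism of a group `X` and `e ≥ 1`; write `G` for the fixed points of `σᵉ` and `H` for the fixed points of `σ`, and assume `G` is finite. Let `Y` be a `σ`-stable subgroup of `X` on which the maps `a ↦ a σ(a)⁻¹` and `a ↦ a σᵉ(a)⁻¹` are surjective (as for a closed connected `σ`-stable subgroup of an algebraic group). Let `g ∈ G`, let `a ∈ X` satisfy `g = a σ(a)⁻¹` and put `x =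 σᵉ(a)⁻¹ a` (the Shintani image, an element of `H`). The element `g σ` of the semidirect product acts on the cosets of `Y ∩ G` in `G` by `k (Y ∩ G) ↦ g σ(k) (Y ∩ G)`, fixing that coset exactly when `k⁻¹ g σ(k) ∈ Y`; and `x` fixes the coset `h (Y ∩ H)` of `H` exactly when `h⁻¹ x h ∈ Y`. Then the two numbers of fixed cosets agree; in cross-multiplied form, `#{k ∈ G : k⁻¹ g σ(k) ∈ Y} · |Y ∩ H| = #{h ∈ H : h⁻¹ x h ∈ Y} · |Y ∩ G|`. -/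
theorem result {X : Type*} [Group X] (σ : MulAut X) (e : ℕ) (he : 1 ≤ e)
    [Finite ↥((MulEquiv.toMonoidHom (σ ^ e)).eqLocus (MonoidHom.id X))]
    (Y : Subgroup X) (hY : ∀ y : X, y ∈ Y ↔ σ y ∈ Y)
    (hYL : ∀ y ∈ Y, ∃ a ∈ Y, y = a * (σ a)⁻¹) (hYLe : ∀ y ∈ Y, ∃ a ∈ Y, y = a * ((σ ^ e) a)⁻¹)
    (g : X) (hg : g ∈ (MulEquiv.toMonoidHom (σ ^ e)).eqLocus (MonoidHom.id X)) (a : X) (ha : g = a * (σ a)⁻¹) :
    Nat.card {k : ↥((MulEquiv.toMonoidHom (σ ^ e)).eqLocus (MonoidHom.id X)) // (k : X)⁻¹ * g * σ k ∈ Y} *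
        Nat.card ↥(Y ⊓ (MulEquiv.toMonoidHom σ).eqLocus (MonoidHom.id X)) =
      Nat.card {h : ↥((MulEquiv.toMonoidHom σ).eqLocus (MonoidHom.id X)) // (h : X)⁻¹ * (((σ ^ e) a)⁻¹ * a) * h ∈ Y} *
        Nat.card ↥(Y ⊓ (MulEquiv.toMonoidHom (σ ^ e)).eqLocus (MonoidHom.id X)) := by
  classical
  set G := (MulEquiv.toMonoidHom (σ ^ e)).eqLocus (MonoidHom.id X) with hGdef
  set H := (MulEquiv.toMonoidHom σ).eqLocus (MonoidHom.id X) with hHdef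
  have hmG : ∀ x, x ∈ G ↔ (σ ^ e) x = x := fun x => Iff.rfl
  have hmH : ∀ x, x ∈ H ↔ σ x = x := fun x => Iff.rfl
  have hHe : ∀ x : X, σ x = x → (σ ^ e) x = x := fun x hx => pow_fix σ x hx e
  -- the common set of pairs
  let P := {kb : G × Y // ((kb.1 : X))⁻¹ * g * σ kb.1 = (kb.2 : X) * (σ kb.2)⁻¹}
  let R := {hb : H × Y // ((hb.1 : X))⁻¹ * (((σ ^ e) a)⁻¹ * a) * hb.1 = ((σ ^ e) (hb.2 : X))⁻¹ * hb.2}
  have h1 : Nat.card P = Nat.card {k : G // (k : X)⁻¹ * g * σ k ∈ Y} * Nat.card ↥(Y ⊓ H) := by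
    rw [← Nat.card_prod]
    have hex : ∀ k : {k : G // (k : X)⁻¹ * g * σ k ∈ Y}, ∃ b : Y, ((k.1 : X))⁻¹ * g * σ k.1 = (b : X) * (σ b)⁻¹ :=
      fun k => by
        obtain ⟨b, hb, h⟩ := hYL _ k.2
        exact ⟨⟨b, hb⟩, h⟩
    choose b₀ hb₀ using hex
    symm
    refine Nat.card_eq_of_bijective (fun x => (⟨(x.1.1, ⟨(b₀ x.1 : X) * x.2, mul_mem (b₀ x.1).2 x.2.2.1⟩), by
      show _ = (b₀ x.1 : X) * x.2 * (σ ((b₀ x.1 : X) * x.2))⁻¹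
      rw [hb₀, map_mul, (hmH _).1 x.2.2.2]; group⟩ : P)) ⟨fun x y hxy => ?_, fun z => ?_⟩
    · have hk : x.1 = y.1 := Subtype.ext (congrArg (fun z : P => z.1.1) hxy)
      refine Prod.ext hk (Subtype.ext ?_)
      have hb := congrArg (fun z : P => (z.1.2 : X)) hxy
      simp only [hk] at hb
      exact mul_left_cancel hb
    · obtain ⟨⟨k, b⟩, hkb⟩ := z
      have hkY : (k : X)⁻¹ * g * σ k ∈ Y := by
        rw [hkb]
        exact mul_mem b.2 (inv_mem ((hY _).1 b.2))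
      refine ⟨(⟨k, hkY⟩, ⟨((b₀ ⟨k, hkY⟩ : X))⁻¹ * b, Subgroup.mem_inf.2
        ⟨mul_mem (inv_mem (b₀ _).2) b.2, (hmH _).2 ?_⟩⟩), Subtype.ext (Prod.ext rfl (Subtype.ext (mul_inv_cancel_left _ _)))⟩
      have h2 := (hb₀ ⟨k, hkY⟩).symm.trans hkb
      rw [map_mul, map_inv]
      calc (σ (b₀ ⟨k, hkY⟩ : X))⁻¹ * σ (b : X)
          = ((b₀ ⟨k, hkY⟩ : X))⁻¹ * ((b₀ ⟨k, hkY⟩ : X) * (σ (b₀ ⟨k, hkY⟩ : X))⁻¹) * σ (b : X) := by group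
        _ = ((b₀ ⟨k, hkY⟩ : X))⁻¹ * ((b : X) * (σ (b : X))⁻¹) * σ (b : X) := by rw [h2]
        _ = ((b₀ ⟨k, hkY⟩ : X))⁻¹ * b := by group
  have h2 : Nat.card R = Nat.card {h : H // (h : X)⁻¹ * (((σ ^ e) a)⁻¹ * a) * h ∈ Y} * Nat.card ↥(Y ⊓ G) := by
    rw [← Nat.card_prod]
    have hex : ∀ h : {h : H // (h : X)⁻¹ * (((σ ^ e) a)⁻¹ * a) * h ∈ Y},
        ∃ b : Y, ((h.1 : X))⁻¹ * (((σ ^ e) a)⁻¹ * a) * h.1 = ((σ ^ e) (b : X))⁻¹ * b := fun h => by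
      obtain ⟨c, hc, hce⟩ := hYLe _ (inv_mem h.2)
      refine ⟨⟨c⁻¹, inv_mem hc⟩, ?_⟩
      rw [← inv_inv ((h.1 : X)⁻¹ * (((σ ^ e) a)⁻¹ * a) * h.1), hce]
      simp
    choose b₀ hb₀ using hex
    symm
    refine Nat.card_eq_of_bijective (fun x => (⟨(x.1.1, ⟨(x.2 : X) * (b₀ x.1 : X), mul_mem x.2.2.1 (b₀ x.1).2⟩), by
      show _ = ((σ ^ e) ((x.2 : X) * b₀ x.1))⁻¹ * ((x.2 : X) * b₀ x.1)
      rw [hb₀, map_mul, (hmG _).1 x.2.2.2]; group⟩ : R)) ⟨fun x y hxy => ?_, fun z => ?_⟩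
    · have hk : x.1 = y.1 := Subtype.ext (congrArg (fun z : R => z.1.1) hxy)
      refine Prod.ext hk (Subtype.ext ?_)
      have hb := congrArg (fun z : R => (z.1.2 : X)) hxy
      simp only [hk] at hb
      exact mul_right_cancel hb
    · obtain ⟨⟨h, b⟩, hhb⟩ := z
      have hσeY : ∀ n : ℕ, ∀ y ∈ Y, (σ ^ n) y ∈ Y := by
        intro n
        induction n with
        | zero => intro y hy; simpa using hy
        | succ n ih => intro y hy; rw [pow_succ', MulAut.mul_apply]; exact (hY _).1 (ih y hy)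
      have hhY : (h : X)⁻¹ * (((σ ^ e) a)⁻¹ * a) * h ∈ Y := by
        rw [hhb]
        exact mul_mem (inv_mem (hσeY e _ b.2)) b.2
      refine ⟨(⟨h, hhY⟩, ⟨(b : X) * ((b₀ ⟨h, hhY⟩ : X))⁻¹, Subgroup.mem_inf.2
        ⟨mul_mem b.2 (inv_mem (b₀ _).2), (hmG _).2 ?_⟩⟩), Subtype.ext (Prod.ext rfl (Subtype.ext (inv_mul_cancel_right _ _)))⟩
      have h3 := (hb₀ ⟨h, hhY⟩).symm.trans hhb
      rw [map_mul, map_inv]
      calc (σ ^ e) (b : X) * ((σ ^ e) (b₀ ⟨h, hhY⟩ : X))⁻¹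
          = (σ ^ e) (b : X) * (((σ ^ e) (b₀ ⟨h, hhY⟩ : X))⁻¹ * (b₀ ⟨h, hhY⟩ : X)) * ((b₀ ⟨h, hhY⟩ : X))⁻¹ := by group
        _ = (σ ^ e) (b : X) * (((σ ^ e) (b : X))⁻¹ * (b : X)) * ((b₀ ⟨h, hhY⟩ : X))⁻¹ := by rw [h3]
        _ = (b : X) * ((b₀ ⟨h, hhY⟩ : X))⁻¹ := by group
  rw [← h1, ← h2]
  have hga : ∀ (k : G) (b : Y), ((k : X))⁻¹ * g * σ k = (b : X) * (σ b)⁻¹ → σ (a⁻¹ * k * b) = a⁻¹ * k * b := by
    intro k b hkb
    rw [ha] at hkb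
    have h3 : σ (k : X) = σ a * a⁻¹ * k * ((b : X) * (σ b)⁻¹) := by rw [← hkb]; group
    rw [map_mul, map_mul, map_inv, h3]
    group
  refine Nat.card_eq_of_bijective (fun z : P => (⟨(⟨a⁻¹ * z.1.1 * z.1.2, (hmH _).2 (hga _ _ z.2)⟩, z.1.2), by
    have hk := (hmG _).1 z.1.1.2
    have he' := hHe _ (hga _ _ z.2)
    rw [map_mul, map_mul, map_inv, hk] at he'
    show (a⁻¹ * (z.1.1 : X) * z.1.2)⁻¹ * (((σ ^ e) a)⁻¹ * a) * (a⁻¹ * (z.1.1 : X) * z.1.2) = _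
    calc (a⁻¹ * (z.1.1 : X) * z.1.2)⁻¹ * (((σ ^ e) a)⁻¹ * a) * (a⁻¹ * (z.1.1 : X) * z.1.2)
        = (a⁻¹ * (z.1.1 : X) * z.1.2)⁻¹ * (((σ ^ e) a)⁻¹ * z.1.1 * (σ ^ e) (z.1.2 : X)) * ((σ ^ e) (z.1.2 : X))⁻¹ * z.1.2 := by group
      _ = (a⁻¹ * (z.1.1 : X) * z.1.2)⁻¹ * (a⁻¹ * (z.1.1 : X) * z.1.2) * ((σ ^ e) (z.1.2 : X))⁻¹ * z.1.2 := by rw [he']
      _ = ((σ ^ e) (z.1.2 : X))⁻¹ * z.1.2 := by group⟩ : R)) ⟨fun x y hxy => ?_, fun z => ?_⟩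
  · have hb : x.1.2 = y.1.2 := congrArg (fun z : R => z.1.2) hxy
    have hh : a⁻¹ * (x.1.1 : X) * x.1.2 = a⁻¹ * (y.1.1 : X) * y.1.2 := congrArg (fun z : R => (z.1.1 : X)) hxy
    rw [hb] at hh
    exact Subtype.ext (Prod.ext (Subtype.ext (mul_left_cancel (mul_right_cancel hh))) hb)
  · obtain ⟨⟨h, b⟩, hhb⟩ := z
    have hkG : (σ ^ e) (a * h * (b : X)⁻¹) = a * h * (b : X)⁻¹ := by
      rw [map_mul, map_mul, map_inv, hHe _ ((hmH _).1 h.2)]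
      calc (σ ^ e) a * h * ((σ ^ e) (b : X))⁻¹
          = (σ ^ e) a * h * (((σ ^ e) (b : X))⁻¹ * b) * (b : X)⁻¹ := by group
        _ = (σ ^ e) a * h * ((h : X)⁻¹ * (((σ ^ e) a)⁻¹ * a) * h) * (b : X)⁻¹ := by rw [← hhb]
        _ = a * h * (b : X)⁻¹ := by group
    refine ⟨⟨(⟨a * h * (b : X)⁻¹, (hmG _).2 hkG⟩, b), ?_⟩, Subtype.ext (Prod.ext (Subtype.ext ?_) rfl)⟩
    · show (a * (h : X) * (b : X)⁻¹)⁻¹ * g * σ (a * (h : X) * (b : X)⁻¹) = (b : X) * (σ b)⁻¹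
      rw [map_mul, map_mul, map_inv, (hmH _).1 h.2, ha]
      group
    · show a⁻¹ * (a * (h : X) * (b : X)⁻¹) * b = h
      group

end Cfsg.Agent.S2669
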