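import Cfsg.Statements.S2673
import Mathlib
import Cfsg.Agent.Lib.Classical.SpOrthPrimeCounts
-- import your own Cfsg.Agent.* helpers here

set_option autoImplicit false
open Cfsg

namespace Cfsg.Agent.S2673

/-- Number of conjugacy classes of elements of odd prime order r ≠ p in the orthogonal group O_(2m+1)(q) of x_0² + Σ x_j y_j, q odd: with i the multiplicative order of q mod r and t = (r − 1)/i, there are C(⌊m/i⌋ + t/2, t/2) − 1 classes if i is odd (dual pairs of totally singular i-blocks) and C(⌊(2m+1)/i⌋ + t, t) − 1 if i is even (elliptic i-blocks). -/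
theorem result {F : Type*} [Field F] [Fintype F] {p q : ℕ} [Fact p.Prime] [CharP F p] (hF : Fintype.card F = q) (hq : Odd q) (m r i t : ℕ) (hr : r.Prime) (hr2 : r ≠ 2) (hrp : r ≠ p) (hi : i = orderOf (q : ZMod r)) (ht : t * i = r - 1) : Nat.card {C : ConjClasses ↥(Cfsg.isometryGroup F (Cfsg.quadFormOdd m F)) // ∃ g : ↥(Cfsg.isometryGroup F (Cfsg.quadFormOdd m F)), ConjClasses.mk g = C ∧ orderOf g = r} = if Odd i then Nat.choose (m / i + t / 2) (t / 2) - 1 else Nat.choose ((2 * m + 1) / i + t) t - 1 := by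
  open CfsgLib.Classical in
  (obtain ⟨hi0, P, δ, δ', hD, hδ, hδ0, hδ', -, hfix⟩ := SpOCount.exists_setup hF hr hr2 hrp hi ht
   have h2 : (2 : F) ≠ 0 := by
     intro h
     haveI : CharP F 2 := CharTwo.of_one_ne_zero_of_two_eq_zero one_ne_zero h
     obtain ⟨n, -, hn⟩ := FiniteField.card F 2
     rw [hF] at hn
     rw [hn] at hq
     exact (Nat.not_even_iff_odd.2 hq) (Nat.even_pow.2 ⟨even_two, n.ne_zero⟩)
   rw [← coe_qOdd, SpOPrime.card_classes_congr ((isoEquiv (qOdd m F)).trans (qAutCongr (oddLin m F) (qOdd_oddLin m)).symm) r,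
     SpOCount.card_qAut_odd hi0 hD δ hδ hδ0 δ' hδ' h2 hF hi.symm hfix m]
   split_ifs
   · rw [Nat.div_div_eq_div_mul, mul_comm i 2, ← Nat.div_div_eq_div_mul, show (2 * m + 1) / 2 = m by omega]
   · rfl)

end Cfsg.Agent.S2673
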