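import Cfsg.Statements.S2674
import Mathlib
import Cfsg.Agent.Lib.Classical.SpOrthPrimeCounts
-- import your own Cfsg.Agent.* helpers here

set_option autoImplicit false
open Cfsg

namespace Cfsg.Agent.S2674

/-- Number of conjugacy classes of elements of odd prime order r ≠ p in the orthogonal group O⁺_2m(q) of Σ x_j y_j (m ≥ 1): with i the multiplicative order of q mod r and t = (r − 1)/i — if i is odd, C(⌊m/i⌋ + t/2, t/2) − 1; if i is even, C(⌊2m/i⌋ + t, t) − 1 minus, when i divides 2m with odd quotient, the C(2m/i + t − 1, t − 1) tuples using the whole space (an odd number of elliptic i-blocks fills an elliptic, not a hyperbolic, space). -/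
theorem result {F : Type*} [Field F] [Fintype F] {p q : ℕ} [Fact p.Prime] [CharP F p] (hF : Fintype.card F = q) (m r i t : ℕ) (hm : 1 ≤ m) (hr : r.Prime) (hr2 : r ≠ 2) (hrp : r ≠ p) (hi : i = orderOf (q : ZMod r)) (ht : t * i = r - 1) : Nat.card {C : ConjClasses ↥(Cfsg.isometryGroup F (Cfsg.quadFormPlus m F)) // ∃ g : ↥(Cfsg.isometryGroup F (Cfsg.quadFormPlus m F)), ConjClasses.mk g = C ∧ orderOf g = r} = if Odd i then Nat.choose (m / i + t / 2) (t / 2) - 1 else Nat.choose (2 * m / i + t) t - 1 - (if i ∣ 2 * m ∧ Odd (2 * m / i) then Nat.choose (2 * m / i + t - 1) (t - 1) else 0) := by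
  open CfsgLib.Classical in
  (obtain ⟨hi0, P, δ, δ', hD, hδ, hδ0, hδ', -, hfix⟩ := SpOCount.exists_setup hF hr hr2 hrp hi ht
   rw [← coe_qPlus, SpOPrime.card_classes_congr (isoEquiv (qPlus m F)) r,
     SpOCount.card_qAut_even hi0 hD δ hδ hδ0 δ' hδ' hF hi.symm hfix m hm (qPlus m F) (polarNondeg_qPlus m)
       (by simp; omega) 1 (Or.inl rfl) (QuadSign.hasSign_qPlus m) _ rfl]
   have hdiv : 2 * m / i / 2 = m / i := by rw [Nat.div_div_eq_div_mul, mul_comm i 2, Nat.mul_div_mul_left _ _ two_pos]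
   have ht1 : 1 ≤ t := Nat.pos_of_ne_zero fun h => by rw [h] at ht; have := hr.two_le; omega
   by_cases hodd : Odd i
   · rw [if_pos hodd, if_pos hodd, if_neg (fun h => h.2 (if_neg (Nat.not_even_iff_odd.2 hodd))), hdiv]
   · rw [if_neg hodd, if_neg hodd]
     have hev : Even i := Nat.not_odd_iff_even.1 hodd
     simp only [if_pos hev]
     by_cases hc : i ∣ 2 * m ∧ Odd (2 * m / i)
     · rw [if_pos ⟨hc.1, by rw [hc.2.neg_one_pow]; norm_num⟩, if_pos hc]
       obtain ⟨M, hM⟩ : ∃ M, 2 * m / i = M + 1 := ⟨2 * m / i - 1, by obtain ⟨c, hc'⟩ := hc.2; omega⟩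
       obtain ⟨T, rfl⟩ : ∃ T, t = T + 1 := ⟨t - 1, by omega⟩
       rw [hM, Nat.add_sub_cancel, show M + 1 + (T + 1) = (M + T + 1) + 1 by ring, Nat.add_sub_cancel, Nat.add_sub_cancel,
         Nat.choose_succ_succ' (M + T + 1) T, ← add_assoc M T 1]
       omega
     · rw [if_neg (fun h => hc ⟨h.1, Nat.not_even_iff_odd.1 fun he => h.2 he.neg_one_pow⟩), if_neg hc, Nat.sub_zero])

end Cfsg.Agent.S2674
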