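import Cfsg.Statements.S2675
import Mathlib
import Cfsg.Agent.Lib.Classical.SpOrthPrimeCounts
-- import your own Cfsg.Agent.* helpers here

set_option autoImplicit false
open Cfsg

namespace Cfsg.Agent.S2675

/-- Number of conjugacy classes of elements of odd prime order r ≠ p in the orthogonal group O⁻_2m(q) of an elliptic form Σ_(j<m−1) x_j y_j + z₁² + a z₁z₂ + c z₂² (binary part anisotropic, m ≥ 1): with i the multiplicative order of q mod r and t = (r − 1)/i — if i is odd, C(⌊m/i⌋ + t/2, t/2) − 1 minus, when i divides m, the C(m/i + t/2 − 1, t/2 − 1) tuples filling the whole space (dual pairs of totally singular blocks fill a hyperbolic space); if i is even, C(⌊2m/i⌋ + t, t) − 1 minus, when i divides 2m with even quotient, the C(2m/i + t − 1, t − 1) tuples filling the whole space with an even number of elliptic blocks. -/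
theorem result {F : Type*} [Field F] [Fintype F] {p q : ℕ} [Fact p.Prime] [CharP F p] (hF : Fintype.card F = q) (m r i t : ℕ) (hm : 1 ≤ m) (a c : F) (hac : ∀ z₁ z₂ : F, z₁ ^ 2 + a * z₁ * z₂ + c * z₂ ^ 2 = 0 → z₁ = 0 ∧ z₂ = 0) (hr : r.Prime) (hr2 : r ≠ 2) (hrp : r ≠ p) (hi : i = orderOf (q : ZMod r)) (ht : t * i = r - 1) : Nat.card {C : ConjClasses ↥(Cfsg.isometryGroup F (Cfsg.quadFormMinus (m - 1) F a c)) // ∃ g : ↥(Cfsg.isometryGroup F (Cfsg.quadFormMinus (m - 1) F a c)), ConjClasses.mk g = C ∧ orderOf g = r} = if Odd i then Nat.choose (m / i + t / 2) (t / 2) - 1 - (if i ∣ m then Nat.choose (m / i + t / 2 - 1) (t / 2 - 1) else 0) else Nat.choose (2 * m / i + t) t - 1 - (if i ∣ 2 * m ∧ Even (2 * m / i) then Nat.choose (2 * m / i + t - 1) (t - 1) else 0) := by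
  open CfsgLib.Classical in
  (obtain ⟨hi0, P, δ, δ', hD, hδ, hδ0, hδ', -, hfix⟩ := SpOCount.exists_setup hF hr hr2 hrp hi ht
   obtain ⟨d, rfl⟩ : ∃ d, m = d + 1 := ⟨m - 1, by omega⟩
   rw [Nat.add_sub_cancel, ← coe_qExt_qBin, SpOPrime.card_classes_congr (isoEquiv (qExt d (qBin a c))) r,
     SpOCount.card_qAut_even hi0 hD δ hδ hδ0 δ' hδ' hF hi.symm hfix (d + 1) hm (qExt d (qBin a c))
       (polarNondeg_qExt (polarNondeg_qBin hac) d)
       (by simp; omega) (-1) (Or.inr rfl) (QuadSign.hasSign_qExt_qBin hac d) _ rfl]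
   have hdiv : 2 * (d + 1) / i / 2 = (d + 1) / i := by rw [Nat.div_div_eq_div_mul, mul_comm i 2, Nat.mul_div_mul_left _ _ two_pos]
   have ht1 : 1 ≤ t := Nat.pos_of_ne_zero fun h => by rw [h] at ht; have := hr.two_le; omega
   by_cases hodd : Odd i
   · rw [if_pos hodd, if_pos hodd]
     have hev : ¬ Even i := Nat.not_even_iff_odd.2 hodd
     simp only [if_neg hev]
     by_cases hc : i ∣ d + 1
     · obtain ⟨M, hM⟩ : ∃ M, (d + 1) / i = M + 1 := ⟨(d + 1) / i - 1, by
         have := Nat.div_pos (Nat.le_of_dvd ((by omega : 0 < d + 1)) hc) hi0; omega⟩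
       obtain ⟨T, hT⟩ : ∃ T, t / 2 = T + 1 := ⟨t / 2 - 1, by
         have : 2 ∣ t := by
           have h1 : 2 ∣ t * i := by rw [ht]; obtain ⟨k, hk⟩ := hr.odd_of_ne_two hr2; omega
           exact ((Nat.coprime_two_left.2 hodd).dvd_of_dvd_mul_right h1)
         omega⟩
       rw [if_pos ⟨hc.mul_left 2, by norm_num⟩, if_pos hc, hM, hT, Nat.mul_div_assoc 2 hc, hM,
         show (2 * (M + 1) - 1) / 2 = M by omega, show M + 1 + (T + 1) = (M + T + 1) + 1 by ring, Nat.add_sub_cancel,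
         Nat.add_sub_cancel, Nat.choose_succ_succ' (M + T + 1) T, ← add_assoc M T 1]
       omega
     · rw [if_neg (fun h => hc ((Nat.coprime_two_right.2 hodd).dvd_of_dvd_mul_left h.1)), if_neg hc, hdiv, Nat.sub_zero]
   · rw [if_neg hodd, if_neg hodd]
     have hev : Even i := Nat.not_odd_iff_even.1 hodd
     simp only [if_pos hev]
     by_cases hc : i ∣ 2 * (d + 1) ∧ Even (2 * (d + 1) / i)
     · rw [if_pos ⟨hc.1, by rw [hc.2.neg_one_pow]; norm_num⟩, if_pos hc]
       obtain ⟨M, hM⟩ : ∃ M, 2 * (d + 1) / i = M + 1 := ⟨2 * (d + 1) / i - 1, by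
         have := Nat.div_pos (Nat.le_of_dvd (by omega) hc.1) hi0; omega⟩
       obtain ⟨T, rfl⟩ : ∃ T, t = T + 1 := ⟨t - 1, by omega⟩
       rw [hM, Nat.add_sub_cancel, show M + 1 + (T + 1) = (M + T + 1) + 1 by ring, Nat.add_sub_cancel, Nat.add_sub_cancel,
         Nat.choose_succ_succ' (M + T + 1) T, ← add_assoc M T 1]
       omega
     · rw [if_neg (fun h => hc ⟨h.1, Nat.not_odd_iff_even.1 fun ho => h.2 ho.neg_one_pow⟩), if_neg hc, Nat.sub_zero])

end Cfsg.Agent.S2675
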