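import Cfsg.Statements.S2677
import Mathlib
import Cfsg.Agent.Lib.Classical22.UnitaryThree
-- import your own Cfsg.Agent.* helpers here

set_option autoImplicit false
open Cfsg

namespace Cfsg.Agent.S2677

open Matrix CfsgLib.Classical

theorem gu_mem_iff_mat {F : Type*} [Field F] [Fintype F] {q n : ℕ} (hF : Fintype.card F = q ^ 2) (g : GL (Fin n) F) :
    g ∈ Cfsg.GU n F q ↔
      (g : Matrix (Fin n) (Fin n) F)ᵀ * (g : Matrix (Fin n) (Fin n) F).map (· ^ q) = 1 := by
  have he : ∀ i j, Cfsg.hermForm n F q ((g : Matrix (Fin n) (Fin n) F) *ᵥ Pi.single i 1)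
      ((g : Matrix (Fin n) (Fin n) F) *ᵥ Pi.single j 1) =
      ((g : Matrix (Fin n) (Fin n) F)ᵀ * (g : Matrix (Fin n) (Fin n) F).map (· ^ q)) i j := fun i j => by
    simp [Cfsg.hermForm, Matrix.mul_apply]
  constructor
  · intro h
    ext i j
    rw [← he, (CfsgLib.Classical22.UnitaryThree.mem_gu_iff g).1 h _ _, hermForm_single_one (le_trans (by norm_num) (two_le_q hF)), Matrix.one_apply]
  · intro h
    refine CfsgLib.Classical22.UnitaryThree.mem_of_columns hF g fun i j => ?_
    rw [he, h, Matrix.one_apply]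

theorem card_semifixed_gu {K : Type*} [Field K] [Fintype K] {q₀ q r n : ℕ} (hr : r.Prime) (hr2 : r ≠ 2) (hn : 1 ≤ n)
    (hq : q = q₀ ^ r) (hK : Fintype.card K = q ^ 2) (σ : K ≃+* K) (hσ : orderOf σ = r) :
    Nat.card {g : ↥(Cfsg.GU n K q) // ∃ c : K, c ≠ 0 ∧ ((g : GL (Fin n) K) : Matrix (Fin n) (Fin n) K).map σ = c • ((g : GL (Fin n) K) : Matrix (Fin n) (Fin n) K)}
      = (q + 1) / (q₀ + 1) * unitaryOrder q₀ n := by
  classical
  let G := Subgroup.zpowers σ
  have : FaithfulSMul G K := ⟨fun {a b} h => Subtype.ext (RingEquiv.ext h)⟩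
  have : Finite G := Nat.finite_of_card_ne_zero (by rw [Nat.card_zpowers, hσ]; exact hr.ne_zero)
  have : Fintype G := Fintype.ofFinite G
  let F₀ := FixedPoints.subfield G K
  have hmem : ∀ x : K, σ x = x → x ∈ F₀ := by
    intro x hx g
    have hg : (g : K ≃+* K) ∈ MulAction.stabilizer (K ≃+* K) x :=
      (Subgroup.zpowers_le.2 (MulAction.mem_stabilizer_iff.2 hx)) g.2
    exact MulAction.mem_stabilizer_iff.1 hg
  have hfix : ∀ x : F₀, σ (x : K) = x := fun x => x.2 ⟨σ, Subgroup.mem_zpowers σ⟩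
  have hcard : Fintype.card F₀ = q₀ ^ 2 := by
    have h := Module.card_eq_pow_finrank (K := F₀) (V := K)
    rw [FixedPoints.finrank_eq_card G K, ← Nat.card_eq_fintype_card (α := G), Nat.card_zpowers, hσ, hK, hq,
      ← pow_mul, mul_comm, pow_mul] at h
    exact (Nat.pow_left_injective hr.ne_zero h).symm
  have hodd : Odd r := hr.odd_of_ne_two hr2
  -- on the fixed field the two powers agree
  have hpow : ∀ x : F₀, x ^ q = x ^ q₀ := fun x => by
    obtain ⟨k, hk⟩ := hodd
    have h : ∀ j : ℕ, x ^ (q₀ ^ (2 * j)) = x := fun j => by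
      induction j with
      | zero => simp
      | succ j ih => rw [mul_add, pow_add, pow_mul, ih, ← hcard, FiniteField.pow_card]
    rw [hq, hk, pow_add, pow_one, pow_mul, h k]
  have hcoe : ∀ x : F₀, ((x : K)) ^ q = ((x ^ q₀ : F₀) : K) := fun x => by
    rw [← hpow]; rfl
  let U : Subgroup Kˣ := (powMonoidHom (q + 1) : Kˣ →* Kˣ).ker
  have hUmem : ∀ a : Kˣ, a ∈ U ↔ (a : K) ^ (q + 1) = 1 := fun a => by
    rw [MonoidHom.mem_ker, powMonoidHom_apply, Units.ext_iff, Units.val_pow_eq_pow_val, Units.val_one]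
  have hUcard : Nat.card U = q + 1 := by
    rw [← card_norm_one hK]
    exact Nat.card_congr
      { toFun := fun a => ⟨((a : Kˣ) : K), (hUmem a).1 a.2⟩
        invFun := fun x => ⟨Units.mk0 x.1 (fun h => by simpa [h] using x.2), (hUmem _).2 x.2⟩
        left_inv := fun a => Subtype.ext (Units.ext rfl)
        right_inv := fun x => Subtype.ext rfl }
  have hin : ∀ (a : Kˣ) (h : GL (Fin n) F₀), (a : K) ^ (q + 1) = 1 → h ∈ Cfsg.GU n F₀ q₀ →
      GeneralLinearGroup.scalar (Fin n) a * GeneralLinearGroup.map F₀.subtype h ∈ Cfsg.GU n K q := by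
    intro a h ha hh
    rw [gu_mem_iff_mat hK]
    rw [gu_mem_iff_mat hcard] at hh
    ext i j
    have h' := congrArg (fun M : Matrix (Fin n) (Fin n) F₀ => ((M i j : F₀) : K)) hh
    simp only [Matrix.mul_apply, Matrix.transpose_apply, Matrix.map_apply] at h' ⊢
    have hent : ∀ k l, (GeneralLinearGroup.scalar (Fin n) a * GeneralLinearGroup.map F₀.subtype h : GL (Fin n) K).val k l
        = (a : K) * ((h : Matrix (Fin n) (Fin n) F₀) k l : K) := fun k l => by
      show (Matrix.scalar (Fin n) (a : K) * (h : Matrix (Fin n) (Fin n) F₀).map F₀.subtype) k l = _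
      simp [Matrix.scalar_apply, Matrix.diagonal_mul]
    calc ∑ k, (GeneralLinearGroup.scalar (Fin n) a * GeneralLinearGroup.map F₀.subtype h : GL (Fin n) K).val k i *
          ((GeneralLinearGroup.scalar (Fin n) a * GeneralLinearGroup.map F₀.subtype h : GL (Fin n) K).val k j) ^ q
        = ∑ k, (a : K) ^ (q + 1) * (((h : Matrix (Fin n) (Fin n) F₀) k i : K) *
            (((h : Matrix (Fin n) (Fin n) F₀) k j ^ q₀ : F₀) : K)) := by
          refine Finset.sum_congr rfl fun k _ => ?_
          rw [hent, hent, mul_pow, hcoe]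
          ring
      _ = (1 : Matrix (Fin n) (Fin n) K) i j := by
          simp only [ha, one_mul]
          push_cast at h' ⊢
          rw [h']
          by_cases hij : i = j <;> simp [hij, Matrix.one_apply]
  let ψ₀ : Kˣ × GL (Fin n) F₀ →* GL (Fin n) K :=
    MonoidHom.noncommCoprod (GeneralLinearGroup.scalar (Fin n)) (GeneralLinearGroup.map F₀.subtype) (fun a h => by
      apply Units.ext
      exact (Matrix.scalar_commute (a : K) (Commute.all _) _).eq)
  let ψ : U × Cfsg.GU n F₀ q₀ →* Cfsg.GU n K q :=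
    (ψ₀.comp (U.subtype.prodMap (Cfsg.GU n F₀ q₀).subtype)).codRestrict _ fun p =>
      hin p.1.1 p.2.1 ((hUmem _).1 p.1.2) p.2.2
  have hψ : ∀ p i j, ((ψ p : GL (Fin n) K) : Matrix (Fin n) (Fin n) K) i j =
      ((p.1 : Kˣ) : K) * (((p.2 : GL (Fin n) F₀) : Matrix (Fin n) (Fin n) F₀) i j : K) := by
    intro p i j
    show (Matrix.scalar (Fin n) ((p.1 : Kˣ) : K) * ((p.2 : GL (Fin n) F₀) : Matrix (Fin n) (Fin n) F₀).map F₀.subtype) i j = _
    simp [Matrix.scalar_apply, Matrix.diagonal_mul]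
  let i0 : Fin n := ⟨0, hn⟩
  have hrange : (ψ.range : Set (Cfsg.GU n K q)) = {g : ↥(Cfsg.GU n K q) | ∃ c : K, c ≠ 0 ∧
      ((g : GL (Fin n) K) : Matrix (Fin n) (Fin n) K).map σ = c • ((g : GL (Fin n) K) : Matrix (Fin n) (Fin n) K)} := by
    ext g
    simp only [SetLike.mem_coe, MonoidHom.mem_range, Set.mem_setOf_eq]
    constructor
    · rintro ⟨p, rfl⟩
      refine ⟨σ ((p.1 : Kˣ) : K) / ((p.1 : Kˣ) : K), div_ne_zero (by simp) (Units.ne_zero _), ?_⟩
      ext i j
      simp only [Matrix.map_apply, Matrix.smul_apply, hψ, map_mul, hfix, smul_eq_mul]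
      field_simp
    · rintro ⟨c, hc0, hc⟩
      obtain ⟨G', hG'⟩ : ∃ G' : Matrix (Fin n) (Fin n) K, G' = ((g : GL (Fin n) K) : Matrix (Fin n) (Fin n) K) := ⟨_, rfl⟩
      rw [← hG'] at hc
      have hgu : G'ᵀ * G'.map (· ^ q) = 1 := by rw [hG']; exact (gu_mem_iff_mat hK _).1 g.2
      obtain ⟨i₀, j₀, h0⟩ : ∃ i j, G' i j ≠ 0 := by
        by_contra hcon
        push Not at hcon
        have := congrFun (congrFun hgu i0) i0
        simp [Matrix.mul_apply, hcon] at this
      have hσc : ∀ i j, σ (G' i j) = c * G' i j :=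
        fun i j => by simpa using congrFun (congrFun hc i) j
      obtain ⟨e, he⟩ : ∃ e, e = G' i₀ j₀ := ⟨_, rfl⟩
      rw [← he] at h0
      let M : Matrix (Fin n) (Fin n) F₀ := Matrix.of fun i j =>
        ⟨G' i j / e, hmem _ (by rw [map_div₀, hσc, he, hσc]; field_simp)⟩
      have hGM : ∀ i j, G' i j = e * (M i j : K) := fun i j => (mul_div_cancel₀ _ h0).symm
      have hMM : ∀ i j, e ^ (q + 1) * (((Mᵀ * M.map (· ^ q₀)) i j : F₀) : K) = (1 : Matrix (Fin n) (Fin n) K) i j := by
        intro i j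
        rw [← hgu, Matrix.mul_apply, Matrix.mul_apply]
        push_cast
        rw [Finset.mul_sum]
        refine Finset.sum_congr rfl fun k _ => ?_
        simp only [Matrix.transpose_apply, Matrix.map_apply]
        rw [hGM, hGM, mul_pow, hcoe]
        push_cast
        ring
      have hμ : e ^ (q + 1) ∈ F₀ := by
        have h := hMM i0 i0
        rw [Matrix.one_apply_eq] at h
        rw [eq_inv_of_mul_eq_one_left h]
        exact F₀.inv_mem (SetLike.coe_mem _)
      obtain ⟨μ, hμe⟩ : ∃ μ : F₀, (μ : K) = e ^ (q + 1) := ⟨⟨_, hμ⟩, rfl⟩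
      obtain ⟨t, ht⟩ := exists_norm_eq hcard (μ := μ) (by
        rw [← hpow]
        apply Subtype.ext
        push_cast
        rw [hμe, ← pow_mul, add_mul, one_mul, pow_add, ← sq, ← hK, FiniteField.pow_card, ← pow_succ'])
      have ht0 : (t : K) ≠ 0 := fun h => by
        have : t = 0 := Subtype.ext h
        rw [this, zero_pow (by omega)] at ht
        rw [← ht] at hμe
        exact pow_ne_zero _ h0 hμe.symm
      have ha : (e / (t : K)) ^ (q + 1) = 1 := by
        rw [div_pow, ← hμe, pow_succ, hcoe, ← ht]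
        push_cast
        rw [← pow_succ, div_self (pow_ne_zero _ ht0)]
      have hM' : (t • M)ᵀ * (t • M).map (· ^ q₀) = 1 := by
        have hmap : (t • M).map (· ^ q₀) = t ^ q₀ • M.map (· ^ q₀) := by
          ext i j; simp [mul_pow]
        rw [Matrix.transpose_smul, hmap, Matrix.smul_mul, Matrix.mul_smul, smul_smul, ← pow_succ', ht]
        ext i j
        rw [Matrix.smul_apply, smul_eq_mul]
        push_cast
        rw [hμe, hMM]
        simp only [Matrix.one_apply]
        split_ifs <;> rfl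
      have hu : IsUnit (t • M) := (Matrix.isUnit_transpose (t • M)).1 (IsUnit.of_mul_eq_one _ hM')
      obtain ⟨H, hH⟩ := hu
      refine ⟨(⟨Units.mk0 (e / (t : K)) (div_ne_zero h0 ht0), (hUmem _).2 ha⟩,
        ⟨H, (gu_mem_iff_mat hcard H).2 (by rw [hH]; exact hM')⟩), ?_⟩
      apply Subtype.ext
      apply Units.ext
      ext i j
      rw [hψ, ← hG', hGM]
      simp only [hH, Units.val_mk0, Matrix.smul_apply, smul_eq_mul]
      push_cast
      field_simp
  have hker : Nat.card ψ.ker = q₀ + 1 := by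
    have hbK : ∀ b : {x : F₀ // x ^ (q₀ + 1) = 1}, (b.1 : K) ≠ 0 := fun b h => by
      have h' : b.1 = 0 := Subtype.ext h
      have := b.2
      rw [h', zero_pow (by omega)] at this
      exact zero_ne_one this
    rw [← card_norm_one hcard]
    symm
    refine Nat.card_congr (Equiv.ofBijective (fun b =>
      ⟨(⟨(Units.mk0 _ (hbK b))⁻¹, (hUmem _).2 ?_⟩,
        ⟨GeneralLinearGroup.scalar (Fin n) (Units.mk0 b.1 fun h => hbK b (by simp [h])), ?_⟩), ?_⟩) ⟨?_, ?_⟩)
    · rw [Units.val_inv_eq_inv_val, Units.val_mk0, inv_pow, pow_succ, hcoe]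
      push_cast
      rw [← pow_succ]
      norm_cast
      rw [b.2]
      simp
    · rw [gu_mem_iff_mat hcard]
      ext i j
      simp only [Matrix.mul_apply, Matrix.transpose_apply, Matrix.map_apply, GeneralLinearGroup.scalar,
        Units.coe_map, MonoidHom.coe_coe, Units.val_mk0, Matrix.scalar_apply, Matrix.diagonal_apply]
      have h1 : 1 ≤ q₀ := (two_le_q hcard).trans' (by norm_num)
      by_cases hij : i = j
      · subst hij
        rw [Finset.sum_eq_single i (fun k _ hk => by simp [Matrix.diagonal_apply_ne _ hk]) (by simp)]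
        simp [← pow_succ', b.2]
      · rw [Finset.sum_eq_zero, Matrix.one_apply_ne hij]
        intro k _
        by_cases hk : k = i
        · subst hk; simp [Matrix.diagonal_apply_ne _ hij, zero_pow (by omega : q₀ ≠ 0)]
        · simp [Matrix.diagonal_apply_ne _ hk]
    · rw [MonoidHom.mem_ker]
      apply Subtype.ext
      apply Units.ext
      ext i j
      rw [hψ]
      by_cases h : i = j <;> simp [h, hbK b]
    · intro b b' h
      have := congrArg (fun z : ψ.ker => ((z.1.1 : Kˣ) : K)) h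
      simp at this
      exact Subtype.ext this
    · rintro ⟨⟨a, h⟩, hah⟩
      rw [MonoidHom.mem_ker] at hah
      obtain ⟨M, hM⟩ : ∃ M : Matrix (Fin n) (Fin n) F₀, M = ((h : GL (Fin n) F₀) : Matrix (Fin n) (Fin n) F₀) := ⟨_, rfl⟩
      have hent : ∀ i j, ((a : Kˣ) : K) * (M i j : K) = if i = j then 1 else 0 := by
        intro i j
        rw [hM, ← hψ (a, h), hah]
        simp [Matrix.one_apply]
      have h00 := hent i0 i0
      rw [if_pos rfl] at h00
      have hd : ∀ i j, M i j = if i = j then M i0 i0 else 0 := by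
        intro i j
        apply Subtype.ext
        apply mul_left_cancel₀ (Units.ne_zero (a : Kˣ))
        rw [hent]
        split_ifs with hij
        · exact h00.symm
        · simp
      have hb : M i0 i0 ^ (q₀ + 1) = 1 := by
        have h' := congrFun (congrFun ((gu_mem_iff_mat hcard _).1 h.2) i0) i0
        rw [← hM, Matrix.mul_apply, Finset.sum_eq_single i0 (fun k _ hk => by
            rw [Matrix.transpose_apply, hd k i0, if_neg hk, zero_mul])
          (by simp), Matrix.one_apply_eq, Matrix.transpose_apply, Matrix.map_apply, ← pow_succ'] at h'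
        exact h'
      refine ⟨⟨M i0 i0, hb⟩, Subtype.ext (Prod.ext (Subtype.ext ?_) (Subtype.ext (Units.ext ?_)))⟩
      · exact inv_eq_of_mul_eq_one_left (Units.ext (by simpa using h00))
      · ext i j
        have := congrArg (fun x : F₀ => (x : K)) (hd i j)
        rw [← hM]
        simp only [GeneralLinearGroup.scalar, Units.coe_map, MonoidHom.coe_coe, Units.val_mk0, Matrix.scalar_apply,
          Matrix.diagonal_apply]
        rw [this]
        by_cases hij : i = j <;> simp [hij]
  have hcount : Nat.card ψ.ker * Nat.card ψ.range = Nat.card (U × Cfsg.GU n F₀ q₀) := by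
    rw [← Subgroup.card_mul_index ψ.ker, Subgroup.index_ker]
  rw [hker, Nat.card_prod, hUcard, card_gu hcard, show Nat.card ψ.range = _ from Nat.card_congr (Equiv.setCongr hrange)]
    at hcount
  obtain ⟨t, ht⟩ : q₀ + 1 ∣ q + 1 := by
    rw [hq]
    simpa using hodd.nat_add_dvd_pow_add_pow q₀ 1
  rw [ht, Nat.mul_div_cancel_left _ (by omega)]
  rw [ht, mul_assoc] at hcount
  exact Nat.eq_of_mul_eq_mul_left (by omega) hcount

theorem unitaryOrder_cast {q₀ : ℕ} (hq : 1 ≤ q₀) (n : ℕ) : (unitaryOrder q₀ n : ℤ) =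
    (q₀ : ℤ) ^ (n * (n - 1) / 2) * ∏ i : Fin n, ((q₀ : ℤ) ^ ((i : ℕ) + 1) - (-1) ^ ((i : ℕ) + 1)) := by
  rw [unitaryOrder, Fin.prod_univ_eq_prod_range (fun i => (q₀ : ℤ) ^ (i + 1) - (-1) ^ (i + 1)) n]
  push_cast
  congr 1
  refine Finset.prod_congr rfl fun i _ => ?_
  have h1 : 1 ≤ q₀ ^ (i + 1) := Nat.one_le_pow _ _ hq
  split_ifs with he
  · rw [he.add_one.neg_one_pow]; push_cast; ring
  · rw [(Nat.not_even_iff_odd.1 he).add_one.neg_one_pow, Nat.cast_sub h1]; push_cast; ring

/-- Centraliser of a field automorphism of odd prime order in PGU_n(q): let q = q₀^r with r an odd prime, K the field with q² elements and σ a field automorphism of K of order r (fixed field of order q₀²). The elements g of GU_n(q) whose entrywise image under σ is a scalar multiple of g — those whose coset modulo the q + 1 unitary scalars is fixed by σ — number (q + 1)/(q₀ + 1) · |GU_n(q₀)|; equivalently the centraliser in PGU_n(q) of the induced automorphism has the order of PGU_n(q₀). -/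
theorem result {K : Type*} [Field K] [Fintype K] {q₀ q r n : ℕ} (hr : r.Prime) (hr2 : r ≠ 2) (hn : 1 ≤ n) (hq : q = q₀ ^ r) (hK : Fintype.card K = q ^ 2) (σ : K ≃+* K) (hσ : orderOf σ = r) : (Nat.card {g : ↥(Cfsg.GU n K q) // ∃ c : K, c ≠ 0 ∧ ((g : GL (Fin n) K) : Matrix (Fin n) (Fin n) K).map σ = c • ((g : GL (Fin n) K) : Matrix (Fin n) (Fin n) K)} : ℤ) = ((q + 1) / (q₀ + 1) : ℕ) * ((q₀ : ℤ) ^ (n * (n - 1) / 2) * ∏ i : Fin n, ((q₀ : ℤ) ^ ((i : ℕ) + 1) - (-1) ^ ((i : ℕ) + 1))) := by
  have h := card_semifixed_gu hr hr2 hn hq hK σ hσ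
  have hq0 : 1 ≤ q₀ := by
    rcases Nat.eq_zero_or_pos q₀ with h0 | h0
    · have := CfsgLib.Classical.two_le_q hK
      rw [hq, h0, zero_pow hr.ne_zero] at this
      omega
    · exact h0
  rw [h, Nat.cast_mul, unitaryOrder_cast hq0]

end Cfsg.Agent.S2677
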