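import Cfsg.Statements.S2678
import Cfsg.Agent.Lib.KnownSimple.SpConstruct

set_option autoImplicit false
open Cfsg

namespace Cfsg.Agent.S2678

/-- Field-extension embedding of symplectic groups: for a field K with q² elements and a field F with q elements there is an injective homomorphism Sp_2a(K) → Sp_4a(F). -/
theorem result {K F : Type*} [Field K] [Fintype K] [Field F] [Fintype F] {q : ℕ} (hK : Fintype.card K = q ^ 2) (hF : Fintype.card F = q) (a : ℕ) : ∃ φ : ↥(Matrix.symplecticGroup (Fin a) K) →* ↥(Matrix.symplecticGroup (Fin (2 * a)) F), Function.Injective φ := by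
  obtain ⟨p, hp⟩ := CharP.exists F
  obtain ⟨m, hpp, hm⟩ := FiniteField.card F p
  obtain ⟨p', hp'⟩ := CharP.exists K
  obtain ⟨m', hpp', hm'⟩ := FiniteField.card K p'
  obtain rfl : q = p ^ (m : ℕ) := hF.symm.trans hm
  have h2 : p' ^ (m' : ℕ) = p ^ ((m : ℕ) * 2) := by rw [← hm', hK, ← pow_mul]
  obtain rfl : p' = p := by
    have h3 : p' ∣ p ^ ((m : ℕ) * 2) := h2 ▸ dvd_pow_self p' m'.pos.ne'
    exact (Nat.prime_dvd_prime_iff_eq hpp' hpp).1 (hpp'.dvd_of_dvd_pow h3)
  haveI : Fact p'.Prime := ⟨hpp⟩
  letI : Algebra (ZMod p') F := ZMod.algebra F p'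
  letI : Algebra (ZMod p') K := ZMod.algebra K p'
  have hdF : Module.finrank (ZMod p') F = m := by
    have := Module.card_eq_pow_finrank (K := ZMod p') (V := F)
    rw [hF, ZMod.card] at this
    exact (Nat.pow_right_injective hpp.two_le this).symm
  have hdK : Module.finrank (ZMod p') K = (m : ℕ) * 2 := by
    have := Module.card_eq_pow_finrank (K := ZMod p') (V := K)
    rw [hK, ZMod.card, ← pow_mul] at this
    exact (Nat.pow_right_injective hpp.two_le this).symm
  obtain ⟨ι⟩ := FiniteField.nonempty_algHom_of_finrank_dvd (F := ZMod p') (K := F) (L := K)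
    (by rw [hdF, hdK]; exact dvd_mul_right _ _)
  letI : Algebra F K := ι.toRingHom.toAlgebra
  haveI : Module.Finite F K := Module.Finite.of_finite
  have h2d : Module.finrank F K = 2 := by
    have := Module.card_eq_pow_finrank (K := F) (V := K)
    rw [hK, hF] at this
    exact (Nat.pow_right_injective (by rw [← hF]; exact Fintype.one_lt_card) this).symm
  exact CfsgLib.KnownSimple.exists_spRes h2d (mul_comm a 2)

end Cfsg.Agent.S2678
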