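import Cfsg.Statements.S2682
import Cfsg.Agent.Lib.KnownSimple.CharTwoInv.SpCentralizer

set_option autoImplicit false
open Cfsg CfsgLib.KnownSimple

namespace Cfsg.Agent.S2682

/-- Centraliser order of an involution t of Sp_2m(q), q even, with s = rank(t − 1) even and f(v, tv) ≠ 0 for some v, f the symplectic form (type c_s): |C(t)| = q^(2ms − (3s² − 3s)/2 − 1) · |Sp_(s−2)(q)| · |Sp_(2m−2s)(q)|. -/
theorem result {F : Type*} [Field F] [Fintype F] [CharP F 2] {q : ℕ} (hF : Fintype.card F = q) {m s : ℕ} (t : Matrix.symplecticGroup (Fin m) F) (ht : t ^ 2 = 1) (hs : ((t : Matrix (Fin m ⊕ Fin m) (Fin m ⊕ Fin m) F) - 1).rank = s) (heven : Even s) (hna : ∃ v : Fin m ⊕ Fin m → F, Cfsg.sympForm m F v ((t : Matrix (Fin m ⊕ Fin m) (Fin m ⊕ Fin m) F).mulVec v) ≠ 0) : Nat.card ↥(Subgroup.centralizer ({t} : Set ↥(Matrix.symplecticGroup (Fin m) F))) = q ^ (2 * m * s - (3 * s ^ 2 - 3 * s) / 2 - 1) * ((q :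 ℕ) ^ (((s - 2) / 2) ^ 2) * ∏ i : Fin ((s - 2) / 2), (q ^ (2 * ((i : ℕ) + 1)) - 1)) * ((q : ℕ) ^ ((m - s) ^ 2) * ∏ i : Fin (m - s), (q ^ (2 * ((i : ℕ) + 1)) - 1)) := by
  obtain ⟨hsm, β, hsy, hnd, halt, e, he, hcard⟩ := CharTwoInv.card_centralizer_eq t ht hs
  have hexp := CharTwoInv.exp_half hsm he
  have hsp : ∀ k, Nat.card (Matrix.symplecticGroup (Fin k) F) =
      q ^ (k ^ 2) * ∏ i : Fin k, (q ^ (2 * ((i : ℕ) + 1)) - 1) := fun k => by
    rw [CfsgLib.Classical.card_sp, hF, Finset.prod_range]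
  rw [hcard, hF, hsp]
  have hA : ∃ a, β a a ≠ 0 := by
    obtain ⟨v, hv⟩ := hna
    by_contra h
    push Not at h
    exact hv (halt.2 h v)
  rcases CharTwoInv.card_liso_nonalt β hsy hnd hA with ⟨k, hk, -⟩ | ⟨k, hk, hc⟩ <;>
    rw [Module.finrank_fintype_fun_eq_card, Fintype.card_fin] at hk
  · obtain ⟨r, rfl⟩ := heven
    omega
  · have h2 : 2 * m * s - (3 * s ^ 2 - 3 * s) / 2 - 1 = e + (2 * k + 1) := by
      have hD : 2 * ((3 * s ^ 2 - s) / 2) + s = 3 * s ^ 2 := by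
        subst hk
        rw [show 3 * (2 * k + 2) ^ 2 = 2 * (6 * k ^ 2 + 12 * k + 6) by ring]
        omega
      have hd : 2 * ((3 * s ^ 2 - 3 * s) / 2) + 3 * s = 3 * s ^ 2 := by
        subst hk
        rw [show 3 * (2 * k + 2) ^ 2 = 2 * (6 * k ^ 2 + 12 * k + 6) by ring]
        omega
      omega
    rw [hc, hsp, hF, show (s - 2) / 2 = k by omega, h2, pow_add]
    ring

end Cfsg.Agent.S2682
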