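import Cfsg.Statements.S2683
import Cfsg.Agent.Lib.KnownSimple.CharTwoInv.OrthCentralizer

set_option autoImplicit false
open Cfsg CfsgLib.KnownSimple

namespace Cfsg.Agent.S2683

/-- For the hyperbolic form Σ x_j y_j on F^(2m) over a finite field with q elements, q even (excluding m = 2 over the field of two elements), and an involution x of the orthogonal group with s = rank(x − 1) odd (type b_s; such x lie outside Ω): the elements of Ω (the commutator subgroup of the orthogonal group) commuting with x number q^(2m(s−1) − (3s² − 3s)/2) · |Sp_(s−1)(q)| · |Sp_(2m−2s)(q)|, where |Sp_2k(q)| = q^(k²) Π_(i=1)^k (q^(2i) − 1). -/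
theorem result {F : Type*} [Field F] [Fintype F] [CharP F 2] {q : ℕ} (hF : Fintype.card F = q) {m s : ℕ} (h : Fintype.card F ≠ 2 ∨ m ≠ 2) (x : ↥(Cfsg.isometryGroup F (Cfsg.quadFormPlus m F))) (hx : x ^ 2 = 1) (hs : (((x : Matrix.GeneralLinearGroup (Fin m ⊕ Fin m) F) : Matrix (Fin m ⊕ Fin m) (Fin m ⊕ Fin m) F) - 1).rank = s) (hodd : Odd s) : Nat.card {g : ↥(Cfsg.Omega F (Cfsg.quadFormPlus m F)) // (g : ↥(Cfsg.isometryGroup F (Cfsg.quadFormPlus m F))) * x = x * (g : ↥(Cfsg.isometryGroup F (Cfsg.quadFormPlus m F)))} = q ^ (2 * m * (s - 1) - (3 * s ^ 2 - 3 * s) / 2) * ((q : ℕ) ^ (((s - 1) / 2) ^ 2) * ∏ i : Fin ((s - 1) / 2), (q ^ (2 * ((i : ℕ) + 1)) - 1)) * ((q : ℕ) ^ ((m - s) ^ 2) * ∏ i : Fin (m - s), (q ^ (2 * ((i : ℕ) + 1)) - 1)) := by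
  revert x
  rw [← CfsgLib.Classical.coe_qPlus]
  intro x hx hs
  obtain ⟨β, hsy, hnd, hna, hsm, hs1, e, he, hc⟩ := CharTwoInv.card_omega_centralizer_nonalt h x hx hs (by
    by_contra hcon
    push Not at hcon
    obtain ⟨t, ht, htx, hQT, -⟩ := CharTwoInv.card_centralizer_iso x hx
    rw [← htx] at hs hcon
    obtain ⟨-, β, -, hnd, halt, -⟩ := CharTwoInv.card_centralizer_eq t ht hs
    obtain ⟨k, hk, -⟩ := CharTwoInv.card_liso_alt β (halt.1 fun v => (hQT v).symm.trans (hcon v)) hnd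
    rw [Module.finrank_fintype_fun_eq_card, Fintype.card_fin] at hk
    obtain ⟨r, rfl⟩ := hodd
    omega)
  have hexp := CharTwoInv.exp_half hsm he
  have hq : 0 < q := hF ▸ Fintype.card_pos
  have hsp : ∀ k, Nat.card (Matrix.symplecticGroup (Fin k) F) =
      q ^ (k ^ 2) * ∏ i : Fin k, (q ^ (2 * ((i : ℕ) + 1)) - 1) := fun k => by
    rw [CfsgLib.Classical.card_sp, hF, Finset.prod_range]
  rcases CharTwoInv.card_liso_nonalt β hsy hnd hna with ⟨k, hk, hl⟩ | ⟨k, hk, -⟩ <;>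
    rw [Module.finrank_fintype_fun_eq_card, Fintype.card_fin] at hk
  · have hD : 2 * ((3 * s ^ 2 - s) / 2) + s = 3 * s ^ 2 := by
      subst hk
      rw [show 3 * (2 * k + 1) ^ 2 = 2 * (6 * k ^ 2 + 6 * k + 1) + 1 by ring]
      omega
    have hd : 2 * ((3 * s ^ 2 - 3 * s) / 2) + 3 * s = 3 * s ^ 2 := by
      subst hk
      rw [show 3 * (2 * k + 1) ^ 2 = 2 * (6 * k ^ 2 + 6 * k + 1) + 1 by ring]
      omega
    have hprod : 2 * m * (s - 1) + 2 * m = 2 * m * s := by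
      rw [show s - 1 = 2 * k by omega, hk]; ring
    have h2 : e = 2 * m * (s - 1) - (3 * s ^ 2 - 3 * s) / 2 + (2 * m - s) := by
      have : (3 * s ^ 2 - 3 * s) / 2 ≤ 2 * m * (s - 1) := by
        obtain ⟨d, rfl⟩ := Nat.exists_eq_add_of_le hsm
        subst hk
        rw [show 2 * k + 1 - 1 = 2 * k by omega] at hprod ⊢
        nlinarith
      omega
    rw [hl, hsp, hsp, hF, h2, pow_add] at hc
    rw [show (s - 1) / 2 = k by omega]
    refine Nat.eq_of_mul_eq_mul_right (show 0 < q ^ (2 * m - s) from pow_pos hq _) (hc.trans ?_)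
    ring
  · obtain ⟨r, rfl⟩ := hodd
    omega

end Cfsg.Agent.S2683
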