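import Cfsg.Statements.S2684
import Cfsg.Agent.Lib.KnownSimple.CharTwoInv.OrthCentralizer

set_option autoImplicit false
open Cfsg CfsgLib.KnownSimple

namespace Cfsg.Agent.S2684

/-- For the hyperbolic form Q = Σ x_j y_j on F^(2m) over a finite field with q elements, q even (excluding m = 2 over the field of two elements), and an involution x ≠ 1 of the orthogonal group with s = rank(x − 1) even and Q vanishing on the image of x − 1 (equivalently f(v, xv) = 0 for all v, where f(u, w) = Q(u + w) − Q(u) − Q(w) is the bilinear form of Q; type a_s, which lies in Ω): its centraliser in Ω (the commutator subgroup of the orthogonal group) has order q^(2ms − (3s² + s)/2) · |Sp_s(q)| · |Ω⁺_(2m−2s)(q)|, where |Ω⁺_2k(q)| = q^(k(k−1)) (q^k − 1) Π_(i=1)^(k−1) (q^(2i) − 1) for k ≥ 1 and the last factor is 1 when s = m. -/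
theorem result {F : Type*} [Field F] [Fintype F] [CharP F 2] {q : ℕ} (hF : Fintype.card F = q) {m s : ℕ} (h : Fintype.card F ≠ 2 ∨ m ≠ 2) (x : ↥(Cfsg.isometryGroup F (Cfsg.quadFormPlus m F))) (hx : x ^ 2 = 1) (hx1 : x ≠ 1) (hs : (((x : Matrix.GeneralLinearGroup (Fin m ⊕ Fin m) F) : Matrix (Fin m ⊕ Fin m) (Fin m ⊕ Fin m) F) - 1).rank = s) (heven : Even s) (halt : ∀ v : Fin m ⊕ Fin m → F, Cfsg.quadFormPlus m F ((((x : Matrix.GeneralLinearGroup (Fin m ⊕ Fin m) F) : Matrix (Fin m ⊕ Fin m) (Fin m ⊕ Fin m) F) - 1).mulVec v) = 0) : Nat.card {g : ↥(Cfsg.Omega F (Cfsg.quadFormPlus m F)) // (g : ↥(Cfsg.isometryGroup F (Cfsg.quadFormPlus m F))) * x = x * (g : ↥(Cfsg.isometryGroup F (Cfsg.quadFormPlus m F)))} = q ^ (2 * m * s - (3 * s ^ 2 + s) / 2) * ((q : ℕ) ^ ((s / 2) ^ 2) * ∏ i : Fin (s / 2), (q ^ (2 * ((i : ℕ) + 1)) - 1)) * (if s = m then 1 else q ^ ((m - s) * (m - s - 1)) * (q ^ (m - s) - 1) * ∏ i : Fin (m - s - 1), (q ^ (2 * ((i : ℕ) +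 1)) - 1)) := by
  revert x
  rw [← CfsgLib.Classical.coe_qPlus]
  intro x hx hx1 hs halt
  have hs0 : 1 ≤ s := by
    rcases Nat.eq_zero_or_pos s with rfl | hp
    · exfalso
      refine hx1 (Subtype.ext (Units.ext ?_))
      rw [Matrix.rank, Submodule.finrank_eq_zero, LinearMap.range_eq_bot] at hs
      refine sub_eq_zero.1 (Matrix.ext_of_mulVec_single fun i => ?_)
      rw [Matrix.zero_mulVec]
      exact LinearMap.congr_fun hs _
    · exact hp
  obtain ⟨β, hA, hnd, hsm, e, he, hc⟩ := CharTwoInv.card_omega_centralizer_alt h x hx hs0 hs halt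
  have hexp := CharTwoInv.exp_half hsm he
  have hq : 0 < q := hF ▸ Fintype.card_pos
  have hsp : ∀ k, Nat.card (Matrix.symplecticGroup (Fin k) F) =
      q ^ (k ^ 2) * ∏ i : Fin k, (q ^ (2 * ((i : ℕ) + 1)) - 1) := fun k => by
    rw [CfsgLib.Classical.card_sp, hF, Finset.prod_range]
  obtain ⟨k, hk, hl⟩ := CharTwoInv.card_liso_alt β hA hnd
  rw [Module.finrank_fintype_fun_eq_card, Fintype.card_fin] at hk
  have hD : 2 * ((3 * s ^ 2 - s) / 2) + s = 3 * s ^ 2 ∧ 2 * ((3 * s ^ 2 + s) / 2) = 3 * s ^ 2 + s := by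
    subst hk
    rw [show 3 * (2 * k) ^ 2 = 2 * (6 * k ^ 2) by ring]
    have : 2 * k ≤ 12 * k ^ 2 := by nlinarith
    omega
  have h2 : e = 2 * m * s - (3 * s ^ 2 + s) / 2 + s := by
    have : (3 * s ^ 2 + s) / 2 ≤ 2 * m * s := by
      obtain ⟨d, rfl⟩ := Nat.exists_eq_add_of_le hsm
      nlinarith [hD.2]
    omega
  rw [hl, hsp, hF, h2, pow_add, CfsgLib.Classical.card_qAut_qPlus] at hc
  rw [show s / 2 = k by omega]
  by_cases hms : s = m
  · rw [if_pos hms, one_mul, show m - s = 0 by omega, CfsgLib.Classical.card_qAut_qExt_zero,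
      CfsgLib.Classical.card_qAut_empty, mul_one] at hc
    rw [if_pos hms, mul_one]
    refine Nat.eq_of_mul_eq_mul_right (show 0 < q ^ s from pow_pos hq _) (hc.trans ?_)
    ring
  · obtain ⟨d, hd⟩ : ∃ d, m - s = d + 1 := ⟨m - s - 1, by omega⟩
    rw [if_neg hms, hd, CfsgLib.Classical.card_qAut_plus, hF, Finset.prod_range] at hc
    rw [if_neg hms, hd, Nat.add_sub_cancel]
    refine Nat.eq_of_mul_eq_mul_right (show 0 < 2 * q ^ s from Nat.mul_pos two_pos (pow_pos hq _)) ?_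
    refine (Eq.trans (by ring) hc).trans ?_
    ring

end Cfsg.Agent.S2684
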