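import Cfsg.Statements.S2685
import Cfsg.Agent.Lib.KnownSimple.CharTwoInv.OrthCentralizer

set_option autoImplicit false
open Cfsg CfsgLib.KnownSimple

namespace Cfsg.Agent.S2685

/-- For the hyperbolic form Q = Σ x_j y_j on F^(2m) over a finite field with q elements, q even (excluding m = 2 over the field of two elements), and an involution x of the orthogonal group with s = rank(x − 1) even and Q not vanishing on the image of x − 1 (f(v, xv) ≠ 0 for some v, where f(u, w) = Q(u + w) − Q(u) − Q(w) is the bilinear form of Q; type c_s, which lies in Ω): its centraliser in Ω (the commutator subgroup of the orthogonal group) has order q^(2m(s−1) − (3s² − 5s)/2 − 1) · |Sp_(s−2)(q)| · |Sp_(2m−2s)(q)|. -/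
theorem result {F : Type*} [Field F] [Fintype F] [CharP F 2] {q : ℕ} (hF : Fintype.card F = q) {m s : ℕ} (h : Fintype.card F ≠ 2 ∨ m ≠ 2) (x : ↥(Cfsg.isometryGroup F (Cfsg.quadFormPlus m F))) (hx : x ^ 2 = 1) (hs : (((x : Matrix.GeneralLinearGroup (Fin m ⊕ Fin m) F) : Matrix (Fin m ⊕ Fin m) (Fin m ⊕ Fin m) F) - 1).rank = s) (heven : Even s) (hna : ∃ v : Fin m ⊕ Fin m → F, Cfsg.quadFormPlus m F ((((x : Matrix.GeneralLinearGroup (Fin m ⊕ Fin m) F) : Matrix (Fin m ⊕ Fin m) (Fin m ⊕ Fin m) F) - 1).mulVec v) ≠ 0) : Nat.card {g : ↥(Cfsg.Omega F (Cfsg.quadFormPlus m F)) // (g : ↥(Cfsg.isometryGroup F (Cfsg.quadFormPlus m F))) * x = x * (g : ↥(Cfsg.isometryGroup F (Cfsg.quadFormPlus m F)))} = q ^ (2 * m * (s - 1) - (3 * s ^ 2 - 5 * s) / 2 - 1) * ((q : ℕ) ^ (((s - 2) / 2) ^ 2) * ∏ i : Fin ((s - 2) / 2), (q ^ (2 * ((i : ℕ) + 1)) - 1)) * ((q : ℕ) ^ ((m - s) ^ 2) * ∏ i : Fin (m - s), (q ^ (2 * ((i : ℕ) + 1)) - 1)) := by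
  revert x
  rw [← CfsgLib.Classical.coe_qPlus]
  intro x hx hs hna
  obtain ⟨β, hsy, hnd, hna', hsm, hs1, e, he, hc⟩ := CharTwoInv.card_omega_centralizer_nonalt h x hx hs hna
  have hexp := CharTwoInv.exp_half hsm he
  have hq : 0 < q := hF ▸ Fintype.card_pos
  have hsp : ∀ k, Nat.card (Matrix.symplecticGroup (Fin k) F) =
      q ^ (k ^ 2) * ∏ i : Fin k, (q ^ (2 * ((i : ℕ) + 1)) - 1) := fun k => by
    rw [CfsgLib.Classical.card_sp, hF, Finset.prod_range]
  rcases CharTwoInv.card_liso_nonalt β hsy hnd hna' with ⟨k, hk, -⟩ | ⟨k, hk, hl⟩ <;>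
    rw [Module.finrank_fintype_fun_eq_card, Fintype.card_fin] at hk
  · obtain ⟨r, rfl⟩ := heven
    omega
  · have hD : 2 * ((3 * s ^ 2 - s) / 2) + s = 3 * s ^ 2 := by
      subst hk
      rw [show 3 * (2 * k + 2) ^ 2 = 2 * (6 * k ^ 2 + 12 * k + 6) by ring]
      omega
    have hd : 2 * ((3 * s ^ 2 - 5 * s) / 2) + 5 * s = 3 * s ^ 2 := by
      subst hk
      rw [show 3 * (2 * k + 2) ^ 2 = 2 * (6 * k ^ 2 + 12 * k + 6) by ring]
      have : 5 * (2 * k + 2) ≤ 2 * (6 * k ^ 2 + 12 * k + 6) := by nlinarith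
      omega
    have hprod : 2 * m * (s - 1) + 2 * m = 2 * m * s := by
      rw [show s - 1 = 2 * k + 1 by omega, hk]; ring
    have h2 : e + (2 * k + 1) = 2 * m * (s - 1) - (3 * s ^ 2 - 5 * s) / 2 - 1 + (2 * m - s) := by
      have : (3 * s ^ 2 - 5 * s) / 2 + 1 ≤ 2 * m * (s - 1) := by
        obtain ⟨d, rfl⟩ := Nat.exists_eq_add_of_le hsm
        subst hk
        rw [show 2 * k + 2 - 1 = 2 * k + 1 by omega] at hprod ⊢
        nlinarith
      omega
    rw [hl, hsp, hsp, hF, show ∀ A B : ℕ, q ^ e * A * (q ^ (2 * k + 1) * B) = q ^ (e + (2 * k + 1)) * A * B from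
      fun A B => by rw [pow_add]; ring, h2, pow_add] at hc
    rw [show (s - 2) / 2 = k by omega]
    refine Nat.eq_of_mul_eq_mul_right (show 0 < q ^ (2 * m - s) from pow_pos hq _) (hc.trans ?_)
    ring

end Cfsg.Agent.S2685
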