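import Cfsg.Statements.S2686
import Cfsg.Agent.Lib.KnownSimple.PSLAut.BalanceGraph
import Cfsg.Agent.Lib.KnownSimple.PSLAut.FieldClass

set_option autoImplicit false
open Cfsg CfsgLib.PSLAut Matrix

namespace Cfsg.Agent.S2686

/-- A criterion for the failure of local balance in almost simple groups with linear socle. Let F be a finite field of characteristic r and K = PSL_n(F) (n ≥ 2) simple. Let A be a group of automorphisms of K containing all inner automorphisms (an almost simple group with socle K), and β ∈ A an automorphism of prime order p ≠ r that is not inner-diagonal (not induced by conjugation by an invertible matrix). Then the largest normal subgroup of C_A(β) of order prime to p is nontrivial if and only if β is the composite of an inner-diagonal automorphism with the automorphism induced by a field automorphism applied entrywise (β is of field type) and p does not divide the number of fixed points of β on K. -/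
theorem result
    (F : Type*) [Field F] [Fintype F] (r : ℕ) [Fact r.Prime] [CharP F r] (n : ℕ) (hn : 2 ≤ n)
    (hK : IsSimpleGroup (Matrix.ProjectiveSpecialLinearGroup (Fin n) F))
    (𝒢 : Subgroup (MulAut (Matrix.ProjectiveSpecialLinearGroup (Fin n) F))) (hinn : ∀ k : Matrix.ProjectiveSpecialLinearGroup (Fin n) F, MulAut.conj k ∈ 𝒢)
    (p : ℕ) [Fact p.Prime] (hpr : p ≠ r) (β : MulAut (Matrix.ProjectiveSpecialLinearGroup (Fin n) F)) (hβ : β ∈ 𝒢) (hord : orderOf β = p)
    (hnot : ¬ Cfsg.IsInnerDiagonalAutPSL β) :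
    Cfsg.pPrimeCore p ↥(𝒢 ⊓ Subgroup.centralizer {β}) ≠ ⊥ ↔
      ((∃ γ φ : MulAut (Matrix.ProjectiveSpecialLinearGroup (Fin n) F), Cfsg.IsInnerDiagonalAutPSL γ ∧ Cfsg.IsFieldAutPSL φ ∧ β = φ.trans γ) ∧
        Nat.Coprime p (Nat.card ↥(MonoidHom.eqLocus β.toMonoidHom (MonoidHom.id (Matrix.ProjectiveSpecialLinearGroup (Fin n) F))))) := by
  haveI : Finite (MulAut (Matrix.ProjectiveSpecialLinearGroup (Fin n) F)) :=
    Finite.of_injective (fun b : MulAut (Matrix.ProjectiveSpecialLinearGroup (Fin n) F) => (b : _ → _)) DFunLike.coe_injective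
  have hI : Cfsg.Inn (Matrix.ProjectiveSpecialLinearGroup (Fin n) F) ≤ 𝒢 := by
    rintro _ ⟨k, rfl⟩; exact hinn k
  have hprime := (Fact.out : p.Prime)
  have hpow := pow_orderOf_eq_one β
  rw [hord] at hpow
  obtain ⟨g, τ, he | ⟨h3, he⟩⟩ := aut_classification hn β
  · have hτ : τ ≠ 1 := fun h => hnot ((isInnerDiagonalAutPSL_iff β).2 ⟨g, by rw [he, h, map_one, mul_one]⟩)
    have hτp : orderOf τ = p := by
      refine orderOf_eq_prime ?_ hτ
      rw [he, conjAut_mul_fieldAut_pow] at hpow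
      exact (eq_one_of_semilinear_eq_one hn hpow).1
    obtain ⟨_, ⟨a, rfl⟩, ha⟩ := conj_of_orderOf_field hn hτp g (he ▸ hord)
    have hβ' : β = conjAut a * fieldAut τ * (conjAut a)⁻¹ := he.trans ha
    have hK' : ∀ k : Matrix.ProjectiveSpecialLinearGroup (Fin n) F, (MulAut.conj k : MulAut _) = 1 → k = 1 := by
      intro k hk
      obtain ⟨s, rfl⟩ := QuotientGroup.mk_surjective k
      rw [conj_eq_conjAut] at hk
      obtain ⟨c, hc⟩ := scalar_of_conjAut_eq_one hn hk
      refine (QuotientGroup.eq_one_iff _).2 (Subgroup.mem_center_iff.2 fun t => Matrix.SpecialLinearGroup.toGL_injective ?_)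
      rw [map_mul, map_mul, hc]
      exact (GeneralLinearGroup.scalar_commute c _).symm
    have hiff : Cfsg.pPrimeCore p ↥(𝒢 ⊓ Subgroup.centralizer {β}) ≠ ⊥ ↔
        (Nat.card ↥(MonoidHom.eqLocus β.toMonoidHom (MonoidHom.id _))).Coprime p := by
      rw [← CfsgLib.Balance.card_inn_centralizer hK', hβ']
      exact core_fieldAut_iff τ hn hpr hτp a 𝒢 hI
    rw [hiff, Nat.coprime_comm]
    refine ⟨fun h => ⟨⟨conjAut g, fieldAut τ, (isInnerDiagonalAutPSL_iff _).2 ⟨g, rfl⟩,
      ⟨τ, (isStdFieldAutPSL_iff τ _).2 rfl⟩, he⟩, h⟩, And.right⟩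
  · have hne : ∀ a s, β ≠ conjAut a * fieldAut s := by
      intro a s h
      rw [he] at h
      have h' := eq_inv_mul_of_mul_eq h
      rw [_root_.mul_inv_rev, ← map_inv, ← map_inv, mul_assoc, ← mul_assoc (conjAut g⁻¹), ← map_mul, ← mul_assoc,
        fieldAut_mul_conjAut, mul_assoc, ← map_mul] at h'
      exact iotaAut_ne h3 _ _ h'
    have hRHS : ¬ ((∃ γ φ : MulAut (Matrix.ProjectiveSpecialLinearGroup (Fin n) F), Cfsg.IsInnerDiagonalAutPSL γ ∧
        Cfsg.IsFieldAutPSL φ ∧ β = φ.trans γ) ∧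
        Nat.Coprime p (Nat.card ↥(MonoidHom.eqLocus β.toMonoidHom (MonoidHom.id (Matrix.ProjectiveSpecialLinearGroup (Fin n) F))))) := fun ⟨⟨γ, φ, hγ, ⟨s, hs⟩, hβφ⟩, _⟩ => by
      obtain ⟨a, rfl⟩ := (isInnerDiagonalAutPSL_iff γ).1 hγ
      rw [(isStdFieldAutPSL_iff s φ).1 hs] at hβφ
      exact hne a s hβφ
    refine iff_of_false ?_ hRHS
    rw [not_not]
    have he' : β = conjAut g * (fieldAut τ * iotaAut) := by rw [he, mul_assoc]
    have hsq : β ^ 2 = conjAut (g * fieldGL τ (iotaGL g)) * fieldAut (τ * τ) := by rw [he', graphField_sq]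
    have hp2 : p = 2 := by
      refine hprime.eq_two_or_odd.resolve_right fun hodd => ?_
      refine hne (twNorm (τ * τ) ((p + 1) / 2) (g * fieldGL τ (iotaGL g))) ((τ * τ) ^ ((p + 1) / 2)) ?_
      rw [← conjAut_mul_fieldAut_pow, ← hsq, ← pow_mul, show 2 * ((p + 1) / 2) = p + 1 by omega, pow_succ, hpow, one_mul]
    subst hp2
    have h2 : (2 : F) ≠ 0 := fun h => hpr ((Nat.prime_dvd_prime_iff_eq (Fact.out : r.Prime) Nat.prime_two).1
      ((CharP.cast_eq_zero_iff F r 2).1 (by exact_mod_cast h))).symm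
    rw [hsq] at hpow
    have hττ : τ * τ = 1 := (eq_one_of_semilinear_eq_one hn hpow).1
    rcases eq_or_ne τ 1 with rfl | hτ
    · have hg : β = gAut g⁻¹ := by rw [he, map_one, mul_one, gAut, inv_inv]
      rw [hg]
      exact core_gAut_eq_bot h3 h2 (hg ▸ hord) 𝒢 hI
    · have hτ2 : orderOf τ = 2 := orderOf_eq_prime (by rw [sq]; exact hττ) hτ
      obtain ⟨_, ⟨a, rfl⟩, ha⟩ := conj_of_orderOf_graphField hn hτ2 g (he' ▸ hord)
      rw [he'.trans ha, CfsgLib.Balance.core_conj_eq_bot_iff]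
      refine core_graphField_eq_bot hτ2 (apply_eq_pow_of_orderOf_two hτ2) ?_ h3 h2 _ fun z hz =>
        hI ((inferInstance : (Cfsg.Inn (Matrix.ProjectiveSpecialLinearGroup (Fin n) F)).Normal).conj_mem z hz (conjAut a))
      rw [← hτ2]
      exact card_fixedField τ

end Cfsg.Agent.S2686
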