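import Cfsg.Statements.S2687
import Cfsg.Agent.Lib.KnownSimple.PSUAut.BalanceField
import Cfsg.Agent.S0282

set_option autoImplicit false
open Cfsg CfsgLib.PSUAut

namespace Cfsg.Agent.S2687

/-- A criterion for the failure of local balance in almost simple groups with unitary socle. Let F be a finite field of characteristic r with q² elements and K = PSU_n(q) (n ≥ 3, the central quotient of the determinant-one isometries of the standard Hermitian form) simple. Let A be a group of automorphisms of K containing all inner automorphisms, and β ∈ A an automorphism of prime order p ≠ r that is not inner-diagonal (not induced by conjugation by a matrix of the general unitary group). Then the largest normal subgroup of C_A(β) of order prime to p is nontrivial if and only if β is the composite of an inner-diagonal automorphism with the automorphism induced by a field automorphism of F applied entrywise and p does not divide the number of fixed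 points of β on K. -/
theorem result
    (F : Type*) [Field F] [Fintype F] (r : ℕ) [Fact r.Prime] [CharP F r] (q : ℕ) (hF : Fintype.card F = q ^ 2)
    (n : ℕ) (hn : 3 ≤ n) (hK : IsSimpleGroup (Cfsg.PSU n F q))
    (𝒢 : Subgroup (MulAut (Cfsg.PSU n F q))) (hinn : ∀ k : Cfsg.PSU n F q, MulAut.conj k ∈ 𝒢)
    (p : ℕ) [Fact p.Prime] (hpr : p ≠ r) (β : MulAut (Cfsg.PSU n F q)) (hβ : β ∈ 𝒢) (hord : orderOf β = p)
    (hnot : ¬ Cfsg.IsInnerDiagonalAutPSU β) :
    Cfsg.pPrimeCore p ↥(𝒢 ⊓ Subgroup.centralizer {β}) ≠ ⊥ ↔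
      ((∃ γ φ : MulAut (Cfsg.PSU n F q), Cfsg.IsInnerDiagonalAutPSU γ ∧ (∃ σ : F ≃+* F, Cfsg.IsFieldAutPSUOf σ φ) ∧ β = φ.trans γ) ∧
        Nat.Coprime p (Nat.card ↥(MonoidHom.eqLocus β.toMonoidHom (MonoidHom.id (Cfsg.PSU n F q))))) := by
  haveI : Finite (MulAut (Cfsg.PSU n F q)) :=
    Finite.of_injective (fun b : MulAut (Cfsg.PSU n F q) => (b : _ → _)) DFunLike.coe_injective
  obtain ⟨ρ, hρ, hinv, hne⟩ := CfsgLib.Transvec.Unitary.exists_frob hF
  have hI : Cfsg.Inn (Cfsg.PSU n F q) ≤ 𝒢 := by rintro _ ⟨k, rfl⟩; exact hinn k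
  have h32 : ¬(n = 3 ∧ q = 2) := fun ⟨h3, h2⟩ => by
    subst h3; subst h2
    obtain ⟨h72, hsol⟩ := Cfsg.Agent.S0282.result (F := F) (by rw [hF]; rfl)
    haveI := hK
    letI : CommGroup (Cfsg.PSU 3 F 2) :=
      { (inferInstance : Group (Cfsg.PSU 3 F 2)) with mul_comm := IsSimpleGroup.comm_iff_isSolvable.2 hsol }
    have := IsSimpleGroup.prime_card (α := Cfsg.PSU 3 F 2)
    rw [h72] at this
    exact absurd this (by norm_num)
  have hKf := eq_one_of_conj_eq_one (n := n) hF hρ hn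
  have hnab : ¬ ∀ x y : Cfsg.PSU n F q, x * y = y * x := fun h => by
    haveI := hK
    obtain ⟨k, hk⟩ := exists_ne (1 : Cfsg.PSU n F q)
    exact hk (hKf k (MulEquiv.ext fun y => by rw [MulAut.conj_apply, h k y, mul_inv_cancel_right]; rfl))
  obtain ⟨g, τ, hg, hind⟩ := CfsgLib.PSUAut.aut_classification hF hρ hn h32 β
  have he : β = conjPSU ⟨g, hg⟩ * fieldPSU τ := eq_of_isInduced (g := ⟨g, hg⟩) hind
  have hinnd : Cfsg.IsInnerDiagonalAutPSU (conjPSU ⟨g, hg⟩ : MulAut (Cfsg.PSU n F q)) :=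
    ⟨g, hg, fun s s' e => congrArg CfsgLib.UnitarySpec.psuMk (Subtype.ext (Subtype.ext e.symm))⟩
  have hτ1 : τ ≠ 1 := fun h => hnot (by
    rw [he, h, show (fieldPSU (1 : F ≃+* F) : MulAut (Cfsg.PSU n F q)) = 1 from map_one fieldHomPSU, mul_one]
    exact hinnd)
  have hpow := pow_orderOf_eq_one β
  rw [hord] at hpow
  have hτp : orderOf τ = p := by
    refine orderOf_eq_prime ?_ hτ1
    rw [he, conj_field_pow] at hpow
    exact (eq_one_of_conj_field_eq_one hF hρ hn hpow).1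
  have hfirst : ∃ γ φ : MulAut (Cfsg.PSU n F q), Cfsg.IsInnerDiagonalAutPSU γ ∧ (∃ σ : F ≃+* F, Cfsg.IsFieldAutPSUOf σ φ) ∧ β = φ.trans γ :=
    ⟨_, fieldPSU τ, hinnd, ⟨τ, isFieldAutPSUOf_fieldPSU τ⟩, he⟩
  suffices h : Cfsg.pPrimeCore p ↥(𝒢 ⊓ Subgroup.centralizer {β}) ≠ ⊥ ↔
      (Nat.card ↥(Cfsg.Inn (Cfsg.PSU n F q) ⊓ Subgroup.centralizer {β})).Coprime p by
    rw [CfsgLib.Balance.card_inn_centralizer hKf, Nat.coprime_comm] at h
    exact h.trans ⟨fun h => ⟨hfirst, h⟩, And.right⟩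
  have hnbot : ∀ x : MulAut (Cfsg.PSU n F q),
      (∀ n', (∀ z ∈ Cfsg.Inn (Cfsg.PSU n F q) ⊓ Subgroup.centralizer {x}, Commute n' z) → n' ∈ Subgroup.zpowers x) →
      ∃ z ∈ Cfsg.Inn (Cfsg.PSU n F q) ⊓ Subgroup.centralizer {x}, z ≠ 1 := by
    intro x hx
    by_contra h
    push Not at h
    refine hnab fun a b => conj_inj hKf ?_
    obtain ⟨i, hi⟩ := hx (MulAut.conj a) fun z hz => by rw [h z hz]; exact Commute.one_right _
    obtain ⟨j, hj⟩ := hx (MulAut.conj b) fun z hz => by rw [h z hz]; exact Commute.one_right _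
    rw [map_mul, map_mul, ← hi, ← hj]
    exact ((Commute.refl x).zpow_zpow i j).eq
  rcases (Fact.out : p.Prime).eq_two_or_odd' with rfl | hodd
  · obtain rfl : τ = ρ := CfsgLib.PSLAut.ringAut_eq_of_orderOf_two hτp
      (orderOf_eq_prime (RingEquiv.ext fun a => by rw [sq, RingAut.mul_apply]; exact hinv a) hne)
    have h2 : (2 : F) ≠ 0 := fun h => hpr ((Nat.prime_dvd_prime_iff_eq (Fact.out : r.Prime) Nat.prime_two).1
      ((CharP.cast_eq_zero_iff F r 2).1 (by exact_mod_cast h))).symm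
    obtain ⟨D⟩ := exists_invData hF hρ hn ⟨g, hg⟩ (he ▸ hpow)
    have hbot := core_inv_eq_bot hF hρ hn h32 h2 ⟨g, hg⟩ (he ▸ hpow) 𝒢 hI
    rw [← he] at hbot
    refine iff_of_false (not_not.2 hbot) fun hcop =>
      CfsgLib.Balance.core_ne_bot 𝒢 _ hI β 2 hcop (hnbot β fun n' h => ?_) hbot
    rw [he]
    refine mem_zpowers_inv hF hρ D hn h32 h2 n' fun z hz => h z ?_
    have := liftInn_le _ hz
    rw [map_mul, ← conjPSU_eq_descend, ← fieldPSU_eq_descend] at this
    rwa [he]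
  · have hp2 : p ≠ 2 := fun h => by rw [h] at hodd; exact absurd hodd (by decide)
    obtain ⟨m, hr, hm⟩ := FiniteField.card F r
    have hq : ∃ f, q = r ^ f ∧ (m : ℕ) = 2 * f := by
      obtain ⟨f, -, hf⟩ := (Nat.dvd_prime_pow hr).1
        (show q ∣ r ^ (m : ℕ) by rw [← hm, hF]; exact dvd_pow_self q two_ne_zero)
      refine ⟨f, hf, Nat.pow_right_injective hr.two_le ?_⟩
      show r ^ (m : ℕ) = r ^ (2 * f)
      rw [← hm, hF, hf, ← pow_mul, mul_comm]
    obtain ⟨f, hqf, hmf⟩ := hq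
    have hp := (Fact.out : p.Prime)
    obtain ⟨hpm, hfix⟩ := CfsgLib.PSLAut.card_fixedField_eq (σ := τ) hr hm hp.ne_zero hτp
    have hpf : p ∣ f := (hp.dvd_mul.1 (hmf ▸ hpm)).resolve_left fun h =>
      hp2 ((Nat.prime_dvd_prime_iff_eq hp Nat.prime_two).1 h)
    have h0 : Nat.card (CfsgLib.PSLAut.fixedField τ) = (r ^ (f / p)) ^ 2 := by
      rw [hfix, hmf, Nat.mul_div_assoc _ hpf, ← pow_mul, mul_comm]
    have hq0 : q = (r ^ (f / p)) ^ p := by rw [hqf, ← pow_mul, Nat.div_mul_cancel hpf]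
    obtain ⟨_, ⟨a, rfl⟩, ha⟩ := conj_of_orderOf_fieldPSU hF hρ hτp hodd h0 hq0 hn ⟨g, hg⟩ (he ▸ hord)
    haveI : (Cfsg.Inn (Cfsg.PSU n F q)).Normal := inferInstance
    rw [he.trans ha, Ne, CfsgLib.Balance.core_conj_eq_bot_iff, CfsgLib.Balance.card_inf_centralizer_conj]
    have hI' : Cfsg.Inn (Cfsg.PSU n F q) ≤ 𝒢.comap (MulAut.conj (conjPSU a : MulAut (Cfsg.PSU n F q))).toMonoidHom :=
      fun z hz => hI ((inferInstance : (Cfsg.Inn (Cfsg.PSU n F q)).Normal).conj_mem z hz (conjPSU a))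
    refine ⟨fun hne' => ?_, fun hcop => CfsgLib.Balance.core_ne_bot _ _ hI' _ p hcop (hnbot _ fun n' h => ?_)⟩
    · by_contra hcop
      refine hne' (core_fieldPSU_eq_bot hF hρ hτp hodd h0 hq0 hn h32 hp2 hpr rfl _ hI' ?_)
      by_contra hndvd
      exact hcop ((hp.coprime_iff_not_dvd.2 hndvd).symm)
    · refine mem_zpowers_field hF hρ hodd h0 hq0 hn h32 n' fun z hz => h z ?_
      have := liftInn_le _ hz
      rwa [← fieldPSU_eq_descend] at this

end Cfsg.Agent.S2687
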