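import Cfsg.Statements.S2699
import Cfsg.Agent.Lib.KnownSimple.Forms.Even
import Cfsg.Agent.Lib.KnownSimple.PSLAut.GraphType

set_option autoImplicit false
open Matrix CfsgLib.Forms CfsgLib.PSLAut

-- import your own Cfsg.Agent.* helpers here

set_option autoImplicit false
open Cfsg

namespace Cfsg.Agent.S2699

/-- Let T = PSL_n(F) over the field with p^f elements with n ≥ 3 odd, n = 2m + 1, and G = Inndiag(T) the image of PGL_n(F). Every involutory graph automorphism γ of T (an inner-diagonal automorphism followed by inverse-transpose, of order 2) has centralizer C_G(γ) isomorphic to the projective conformal orthogonal group of the form x₀² + Σ xᵢ yᵢ in dimension n (for q even this group is isomorphic to Sp_{n−1}(q)), and any two involutory graph automorphisms are G-conjugate. -/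
theorem result {F : Type*} [Field F] [Fintype F] {p f : ℕ} [Fact p.Prime] (hF : Fintype.card F = p ^ f) (hf : 1 ≤ f) {n : ℕ} (hn : 3 ≤ n) {m : ℕ} (hnm : n = 2 * m + 1) (γ γ' : MulAut (Matrix.ProjectiveSpecialLinearGroup (Fin n) F)) (hγ : Cfsg.IsGraphAutClassPSL γ) (hγ2 : orderOf γ = 2) (hγ' : Cfsg.IsGraphAutClassPSL γ') (hγ'2 : orderOf γ' = 2) :
    Nonempty (↥(Cfsg.inndiagPSL n F ⊓ Subgroup.centralizer {γ}) ≃* Cfsg.PGO F (Cfsg.quadFormOdd m F)) ∧ Cfsg.IsConjUnder (Cfsg.inndiagPSL n F) γ γ' := by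
  subst hnm
  obtain ⟨-, A, rfl⟩ := (isGraphAutClassPSL_iff γ).1 hγ
  obtain ⟨-, B, rfl⟩ := (isGraphAutClassPSL_iff γ').1 hγ'
  rw [orderOf_gAut_eq_two hn] at hγ2 hγ'2
  have hdet : ∀ C : GL (Fin (2 * m + 1)) F, (C : Matrix (Fin (2 * m + 1)) (Fin (2 * m + 1)) F).det ≠ 0 :=
    fun C => Matrix.GeneralLinearGroup.det_ne_zero C
  let e : Unit ⊕ (Fin m ⊕ Fin m) ≃ Fin (2 * m + 1) := Fintype.equivFinOfCardEq (by simp; omega)
  obtain ⟨e₁⟩ := centralizer_gAut_equiv (F := F) (show 2 ≤ 2 * m + 1 by omega) A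
  rw [isConjUnder_gAut_iff (by omega)]
  by_cases h2 : (2 : F) = 0
  · haveI : CharP F 2 := CharTwo.of_one_ne_zero_of_two_eq_zero one_ne_zero h2
    have hsym : ∀ C : Matrix (Fin (2 * m + 1)) (Fin (2 * m + 1)) F, (Cᵀ = C ∨ Cᵀ = -C) → Cᵀ = C := by
      rintro C (h | h)
      · exact h
      · rw [h]; ext i j; simp [CharTwo.neg_eq]
    have hA := congr_oddStd (hsym _ hγ2) (hdet A) (Fintype.card_fin _)
    have hB := congr_oddStd (hsym _ hγ'2) (hdet B) (Fintype.card_fin _)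
    obtain ⟨e₂⟩ := hA.formEquiv.projQuot_equiv
    obtain ⟨e₃⟩ := projQuot_simBil_equiv_isoBil (A := oddStd m F) (fun h => one_ne_zero (α := F)
      (by simpa [oddStd] using congrFun (congrFun h (.inl ())) (.inl ())))
    obtain ⟨e₄⟩ := isoBil_oddStd_equiv (F := F) m
    obtain ⟨e₅⟩ := pgoOdd_equiv (F := F) m
    exact ⟨⟨((e₁.trans e₂).trans (e₃.trans e₄)).trans e₅.symm⟩, (hA.trans hB.symm).formEquiv⟩
  · have hsym : ∀ C : GL (Fin (2 * m + 1)) F,
        ((C : Matrix (Fin (2 * m + 1)) (Fin (2 * m + 1)) F)ᵀ = C ∨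
          (C : Matrix (Fin (2 * m + 1)) (Fin (2 * m + 1)) F)ᵀ = -C) →
        (C : Matrix (Fin (2 * m + 1)) (Fin (2 * m + 1)) F)ᵀ = C := by
      rintro C (h | h)
      · exact h
      · exfalso
        have h1 := congrArg Matrix.det h
        rw [Matrix.det_transpose, Matrix.det_neg, Fintype.card_fin, Odd.neg_one_pow ⟨m, rfl⟩] at h1
        exact hdet C ((mul_eq_zero.1 (by linear_combination h1 : (2 : F) *
          (C : Matrix (Fin (2 * m + 1)) (Fin (2 * m + 1)) F).det = 0)).resolve_left h2)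
    have hA := formEquiv_of_odd h2 (hsym _ hγ2) (Modd_symm m) e (hdet A) (det_Modd_ne_zero h2 m) (by simp)
    have hB := formEquiv_of_odd h2 (hsym _ hγ'2) (Modd_symm m) e (hdet B) (det_Modd_ne_zero h2 m) (by simp)
    obtain ⟨e₂⟩ := hA.projQuot_equiv
    refine ⟨?_, hA.trans hB.symm⟩
    unfold Cfsg.PGO
    rw [quadSim_eq_simBil h2 (Modd_symm m) (quadFormOdd_eq h2 m)]
    exact ⟨e₁.trans e₂⟩

end Cfsg.Agent.S2699
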