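import Cfsg.Statements.S2700
import Cfsg.Agent.Lib.KnownSimple.Forms.Even
import Cfsg.Agent.Lib.KnownSimple.PSLAut.GraphType

set_option autoImplicit false
open Matrix CfsgLib.Forms CfsgLib.PSLAut

-- import your own Cfsg.Agent.* helpers here

set_option autoImplicit false
open Cfsg

namespace Cfsg.Agent.S2700

/-- Let T = PSL_n(F) over a finite field of odd order with n = 2m ≥ 4 even, and G = Inndiag(T) the image of PGL_n(F). The involutory graph automorphisms of T fall into exactly three G-classes, with representatives γ₁, γ₂, γ₃ whose centralizers in G are isomorphic respectively to the projective conformal symplectic group PGSp_n(F), the projective conformal orthogonal group of the plus-type form Σ xᵢ yᵢ, and that of a minus-type form Σ xᵢ yᵢ + z₁² + a z₁ z₂ + b z₂² (anisotropic binary part) in dimension n. -/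
theorem result {F : Type*} [Field F] [Fintype F] (hodd : Odd (Fintype.card F)) {n m : ℕ} (hm : 2 ≤ m) (hnm : n = 2 * m) :
    ∃ (γ₁ γ₂ γ₃ : MulAut (Matrix.ProjectiveSpecialLinearGroup (Fin n) F)) (a b : F), (∀ z₁ z₂ : F, z₁ ^ 2 + a * z₁ * z₂ + b * z₂ ^ 2 = 0 → z₁ = 0 ∧ z₂ = 0) ∧ Cfsg.IsGraphAutClassPSL γ₁ ∧ orderOf γ₁ = 2 ∧ Cfsg.IsGraphAutClassPSL γ₂ ∧ orderOf γ₂ = 2 ∧ Cfsg.IsGraphAutClassPSL γ₃ ∧ orderOf γ₃ = 2 ∧ ¬ Cfsg.IsConjUnder (Cfsg.inndiagPSL n F) γ₁ γ₂ ∧ ¬ Cfsg.IsConjUnder (Cfsg.inndiagPSL n F) γ₁ γ₃ ∧ ¬ Cfsg.IsConjUnder (Cfsg.inndiagPSL n F) γ₂ γ₃ ∧ (∀ γ : MulAut (Matrix.ProjectiveSpecialLinearGroup (Fin n) F), Cfsg.IsGraphAutClassPSL γ → orderOf γ = 2 → Cfsg.IsConjUnder (Cfsg.inndiagPSL n F) γ₁ γ ∨ Cfsg.IsConjUnder (Cfsg.inndiagPSL n F) γ₂ γ ∨ Cfsg.IsConjUnder (Cfsg.inndiagPSL n F) γ₃ γ) ∧ Nonempty (↥(Cfsg.inndiagPSL n F ⊓ Subgroup.centralizer {γ₁})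 ≃* Cfsg.PGSp m F) ∧ Nonempty (↥(Cfsg.inndiagPSL n F ⊓ Subgroup.centralizer {γ₂}) ≃* Cfsg.PGO F (Cfsg.quadFormPlus m F)) ∧ Nonempty (↥(Cfsg.inndiagPSL n F ⊓ Subgroup.centralizer {γ₃}) ≃* Cfsg.PGO F (Cfsg.quadFormMinus (m - 1) F a b)) := by
  subst hnm
  have h2 : (2 : F) ≠ 0 := CfsgLib.Classical.two_ne_zero_of_odd_card hodd
  obtain ⟨m, rfl⟩ : ∃ k, m = k + 1 := ⟨m - 1, by omega⟩
  obtain ⟨a, b, hab⟩ := exists_anisotropic (F := F) h2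
  have hD := disc_not_isSquare h2 hab
  let e₁ : Fin (m + 1) ⊕ Fin (m + 1) ≃ Fin (2 * (m + 1)) := Fintype.equivFinOfCardEq (by simp; omega)
  let e₃ : (Fin m ⊕ Fin m) ⊕ Fin 2 ≃ Fin (2 * (m + 1)) := Fintype.equivFinOfCardEq (by simp; omega)
  obtain ⟨A₁, hA₁, hc₁⟩ := exists_gl_congr e₁.symm (M := Matrix.J (Fin (m + 1)) F)
    (isUnit_iff_ne_zero.1 (Matrix.isUnit_det_J _ _))
  obtain ⟨A₂, hA₂, hc₂⟩ := exists_gl_congr e₁.symm (det_Mplus_ne_zero (F := F) h2 (m + 1))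
  obtain ⟨A₃, hA₃, hc₃⟩ := exists_gl_congr e₃.symm (Mminus_det_ne_zero (F := F) h2 m hD)
  have hdet : ∀ C : GL (Fin (2 * (m + 1))) F,
      (C : Matrix (Fin (2 * (m + 1))) (Fin (2 * (m + 1))) F).det ≠ 0 := fun C => Matrix.GeneralLinearGroup.det_ne_zero C
  have hs₁ : (A₁ : Matrix (Fin (2 * (m + 1))) (Fin (2 * (m + 1))) F)ᵀ = -A₁ := by
    rw [hA₁, Matrix.transpose_submatrix, Matrix.J_transpose]; rfl
  have hs₂ : (A₂ : Matrix (Fin (2 * (m + 1))) (Fin (2 * (m + 1))) F)ᵀ = A₂ := by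
    rw [hA₂, Matrix.transpose_submatrix, Mplus_symm]
  have hs₃ : (A₃ : Matrix (Fin (2 * (m + 1))) (Fin (2 * (m + 1))) F)ᵀ = A₃ := by
    rw [hA₃, Matrix.transpose_submatrix, Mminus_symm]
  have hn : 3 ≤ 2 * (m + 1) := by omega
  have hn2 : 2 ≤ 2 * (m + 1) := by omega
  have hgr : ∀ A : GL (Fin (2 * (m + 1))) F, Cfsg.IsGraphAutClassPSL (gAut A) := fun A =>
    (isGraphAutClassPSL_iff _).2 ⟨hn, A, rfl⟩
  refine ⟨gAut A₁, gAut A₂, gAut A₃, a, b, hab, hgr _, (orderOf_gAut_eq_two hn _).2 (Or.inr hs₁), hgr _,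
    (orderOf_gAut_eq_two hn _).2 (Or.inl hs₂), hgr _, (orderOf_gAut_eq_two hn _).2 (Or.inl hs₃), ?_, ?_, ?_, ?_, ?_, ?_, ?_⟩
  · rw [isConjUnder_gAut_iff hn2]
    exact fun h => not_formEquiv_J h2 (Nat.succ_pos m) hs₂ (h.symm.trans hc₁.formEquiv)
  · rw [isConjUnder_gAut_iff hn2]
    exact fun h => not_formEquiv_J h2 (Nat.succ_pos m) hs₃ (h.symm.trans hc₁.formEquiv)
  · rw [isConjUnder_gAut_iff hn2]
    intro h
    exact (formEquiv_Mminus_iff h2 hD hs₂ (hdet _) e₃).1 (h.trans hc₃.formEquiv)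
      ((formEquiv_Mplus_iff h2 hs₂ (hdet _) e₁).1 hc₂.formEquiv)
  · intro γ hγ hγ2
    obtain ⟨-, A, rfl⟩ := (isGraphAutClassPSL_iff γ).1 hγ
    simp only [isConjUnder_gAut_iff hn2]
    rcases (orderOf_gAut_eq_two hn A).1 hγ2 with h | h
    · right
      by_cases hq : IsSquare ((-1) ^ (m + 1) * (A : Matrix (Fin (2 * (m + 1))) (Fin (2 * (m + 1))) F).det)
      · exact Or.inl (hc₂.formEquiv.trans ((formEquiv_Mplus_iff h2 h (hdet _) e₁).2 hq).symm)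
      · exact Or.inr (hc₃.formEquiv.trans ((formEquiv_Mminus_iff h2 hD h (hdet _) e₃).2 hq).symm)
    · left
      exact (hc₁.trans (congr_J (isAltMat_of_skew h2 h) (hdet _) (Fintype.card_fin _)).symm).formEquiv
  · obtain ⟨f⟩ := centralizer_gAut_equiv hn2 A₁
    obtain ⟨g⟩ := hc₁.formEquiv.projQuot_equiv
    exact ⟨f.trans g⟩
  · obtain ⟨f⟩ := centralizer_gAut_equiv hn2 A₂
    obtain ⟨g⟩ := hc₂.formEquiv.projQuot_equiv
    unfold Cfsg.PGO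
    rw [quadSim_eq_simBil h2 (Mplus_symm _) (quadFormPlus_eq h2 _)]
    exact ⟨f.trans g⟩
  · obtain ⟨f⟩ := centralizer_gAut_equiv hn2 A₃
    obtain ⟨g⟩ := hc₃.formEquiv.projQuot_equiv
    unfold Cfsg.PGO
    rw [show m + 1 - 1 = m from rfl, quadSim_eq_simBil h2 (Mminus_symm m a b) (quadFormMinus_eq h2 m a b)]
    exact ⟨f.trans g⟩

end Cfsg.Agent.S2700
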