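import Cfsg.Statements.S2702
import Cfsg.Agent.Lib.KnownSimple.Forms.Even
import Cfsg.Agent.Lib.KnownSimple.PSLAut.GraphType
import Cfsg.Agent.Lib.KnownSimple.Forms.Count

set_option autoImplicit false
open Matrix CfsgLib.Forms CfsgLib.PSLAut

namespace Cfsg.Agent.S2702

variable {F : Type*} [Field F] {ι κ : Type} [Fintype ι] [DecidableEq ι] [Fintype κ] [DecidableEq κ]

lemma scalar_mem_simBil (M : Matrix ι ι F) (c : Fˣ) : GeneralLinearGroup.scalar ι c ∈ simBil M := by
  refine mem_simBil.2 ⟨c * c, ?_⟩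
  simp [← Matrix.smul_eq_diagonal_mul, ← Matrix.smul_eq_mul_diagonal, smul_smul]

lemma det_congrGL (x : Matrix ι κ F) (y : Matrix κ ι F) (hxy : x * y = 1) (hyx : y * x = 1) (e : κ ≃ ι) (u : GL ι F) :
    (congrGL x y hxy hyx u : Matrix κ κ F).det = (u : Matrix ι ι F).det := by
  rw [congrGL_val, ← det_submatrix_equiv_self e.symm (y * (u : Matrix ι ι F) * x),
    ← submatrix_mul_equiv (y * (u : Matrix ι ι F)) x e.symm (Equiv.refl ι) e.symm]
  rw [show (y * (u : Matrix ι ι F)).submatrix e.symm (Equiv.refl ι) = y.submatrix e.symm id * (u : Matrix ι ι F) from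
    submatrix_mul y (u : Matrix ι ι F) e.symm id id Function.bijective_id, det_mul, det_mul]
  have h : (x.submatrix (Equiv.refl ι) e.symm).det * (y.submatrix e.symm id).det = 1 := by
    rw [← det_mul, submatrix_mul_equiv, hxy]; simp
  linear_combination (u : Matrix ι ι F).det * h

/-- Determinants of symplectic similitudes. -/
lemma map_det_skew {n m : ℕ} {M : Matrix (Fin n) (Fin n) F} (hM : IsAltMat M) (hd : M.det ≠ 0) (hm : 0 < m)
    (hn : Fintype.card (Fin n) = 2 * m) :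
    (simBil M).map GeneralLinearGroup.det = (powMonoidHom m : Fˣ →* Fˣ).range := by
  obtain ⟨x, y, hxy, hyx, hJ⟩ := congr_J hM hd hn
  have hJ' : xᵀ * M * x = (1 : F) • Matrix.J (Fin m) F := by rw [one_smul, hJ]
  let e : Fin m ⊕ Fin m ≃ Fin n := Fintype.equivOfCardEq (by simp at hn ⊢; omega)
  have hdD : ∀ c : Fˣ, (simD (F := F) m c : Matrix (Fin m ⊕ Fin m) (Fin m ⊕ Fin m) F).det = (c : F) ^ m := fun c => by
    simp [simD]
  ext d
  constructor
  · rintro ⟨k, hk, rfl⟩
    obtain ⟨c, hc⟩ := mem_simBil.1 ((congrGL_mem_simBil_iff hxy hyx one_ne_zero hJ' k).2 hk)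
    refine ⟨c, Units.ext ?_⟩
    set v := congrGL x y hxy hyx k with hv
    set D := (simD (F := F) m c⁻¹ : Matrix (Fin m ⊕ Fin m) (Fin m ⊕ Fin m) F)
    have hw : (v : Matrix (Fin m ⊕ Fin m) (Fin m ⊕ Fin m) F) * D ∈ symplecticGroup (Fin m) F := by
      rw [SymplecticGroup.mem_iff', transpose_mul]
      calc Dᵀ * (v : Matrix (Fin m ⊕ Fin m) (Fin m ⊕ Fin m) F)ᵀ * Matrix.J (Fin m) F * ((v : Matrix (Fin m ⊕ Fin m) (Fin m ⊕ Fin m) F) * D)
          = Dᵀ * ((v : Matrix (Fin m ⊕ Fin m) (Fin m ⊕ Fin m) F)ᵀ * Matrix.J (Fin m) F * (v : Matrix (Fin m ⊕ Fin m) (Fin m ⊕ Fin m) F)) * D := by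
            simp only [Matrix.mul_assoc]
        _ = Matrix.J (Fin m) F := by rw [hc, Matrix.mul_smul, Matrix.smul_mul, simD_form, smul_smul]; simp
    have h1 := SymplecticGroup.det_eq_one hw
    rw [det_mul, hdD, det_congrGL x y hxy hyx e] at h1
    show ((c ^ m : Fˣ) : F) = _
    rw [GeneralLinearGroup.val_det_apply, Units.val_pow_eq_pow_val]
    rw [Units.val_inv_eq_inv_val, inv_pow] at h1
    exact ((mul_inv_eq_one₀ (pow_ne_zero _ c.ne_zero)).1 h1).symm
  · rintro ⟨c, rfl⟩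
    refine ⟨(congrGL x y hxy hyx).symm (simD m c), ?_, Units.ext ?_⟩
    · show _ ∈ simBil M
      rw [← congrGL_mem_simBil_iff hxy hyx one_ne_zero hJ', MulEquiv.apply_symm_apply]
      exact mem_simBil.2 ⟨c, simD_form m c⟩
    · rw [GeneralLinearGroup.val_det_apply, ← det_congrGL x y hxy hyx e, MulEquiv.apply_symm_apply, hdD]
      rfl

/-- Determinants of orthogonal similitudes. -/
lemma map_det_symm [Finite F] (h2 : (2 : F) ≠ 0) {n m : ℕ} {M : Matrix (Fin n) (Fin n) F} (hM : Mᵀ = M)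
    (hd : M.det ≠ 0) (hn : Fintype.card (Fin n) = 2 * m) (hpos : 0 < n) :
    (simBil M).map GeneralLinearGroup.det = (powMonoidHom n : Fˣ →* Fˣ).range.comap (powMonoidHom 2) := by
  ext u
  constructor
  · rintro ⟨k, hk, rfl⟩
    obtain ⟨c, hc⟩ := mem_simBil.1 hk
    refine ⟨c, Units.ext ?_⟩
    show ((c ^ n : Fˣ) : F) = ((GeneralLinearGroup.det k ^ 2 : Fˣ) : F)
    rw [Units.val_pow_eq_pow_val, Units.val_pow_eq_pow_val, GeneralLinearGroup.val_det_apply, det_sq_of_sim hd hc,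
      Fintype.card_fin]
  · rintro ⟨c, hc⟩
    obtain ⟨x, y, hxy, hyx, hx⟩ := congr_of_det h2 hM (show ((c : F) • M)ᵀ = (c : F) • M by rw [transpose_smul, hM])
      (Equiv.refl _) hd (pow_ne_zero m c.ne_zero) (by rw [det_smul, hn]; ring)
    set k : GL (Fin n) F := ⟨x, y, hxy, hyx⟩
    have hk : k ∈ simBil M := mem_simBil.2 ⟨c, hx⟩
    have hsq : (k : Matrix (Fin n) (Fin n) F).det ^ 2 = (u : F) ^ 2 := by
      rw [det_sq_of_sim hd (show (k : Matrix (Fin n) (Fin n) F)ᵀ * M * (k : Matrix (Fin n) (Fin n) F) = (c : F) • M from hx),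
        Fintype.card_fin]
      exact congrArg Units.val hc
    rcases sq_eq_sq_iff_eq_or_eq_neg.1 hsq with h | h
    · exact ⟨k, hk, Units.ext h⟩
    · obtain ⟨d, z, z', hzz, hzz', hz⟩ := exists_congr_diagonal h2 hM
      let r : Fin n → F := Function.update 1 ⟨0, hpos⟩ (-1)
      have hr : ∀ i, r i * r i = 1 := fun i => by
        rcases eq_or_ne i ⟨0, hpos⟩ with rfl | hi <;> simp [r, *]
      let Z : GL (Fin n) F := ⟨z, z', hzz, hzz'⟩
      let R : GL (Fin n) F := ⟨diagonal r, diagonal r, by rw [diagonal_mul_diagonal]; simp [hr],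
        by rw [diagonal_mul_diagonal]; simp [hr]⟩
      have hR : Z * R * Z⁻¹ ∈ simBil M := by
        refine mem_simBil.2 ⟨1, ?_⟩
        show (z * diagonal r * z')ᵀ * M * (z * diagonal r * z') = _
        have hd' : zᵀ * M * z = diagonal d := hz
        calc _ = z'ᵀ * ((diagonal r)ᵀ * (zᵀ * M * z) * diagonal r) * z' := by
              simp only [transpose_mul, Matrix.mul_assoc]
          _ = z'ᵀ * (zᵀ * M * z) * z' := by
              rw [hd', diagonal_transpose, diagonal_mul_diagonal, diagonal_mul_diagonal]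
              congr 3; funext i; linear_combination d i * hr i
          _ = (z * z')ᵀ * M * (z * z') := by simp only [transpose_mul, Matrix.mul_assoc]
          _ = _ := by simp [hzz]
      refine ⟨Z * R * Z⁻¹ * k, mul_mem hR hk, ?_⟩
      rw [map_mul, map_mul, map_mul, map_inv, mul_right_comm (GeneralLinearGroup.det Z), mul_inv_cancel, one_mul]
      refine Units.ext ?_
      rw [Units.val_mul, GeneralLinearGroup.val_det_apply, GeneralLinearGroup.val_det_apply, h]
      show (diagonal r).det * _ = _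
      rw [det_diagonal, Finset.prod_update_of_mem (Finset.mem_univ _)]
      simp

end Cfsg.Agent.S2702

open Cfsg.Agent.S2702

-- import your own Cfsg.Agent.* helpers here

set_option autoImplicit false
open Cfsg

namespace Cfsg.Agent.S2702

/-- Let T = PSL_n(F) over the field with q = p^f elements, n ≥ 3, G = Inndiag(T) the image of PGL_n(F), and γ an involutory graph automorphism of T. The G-class of γ is the union of exactly c T-classes, where: if n is even and q is odd, c = gcd(n/2, q − 1) when C_G(γ) is isomorphic to the projective conformal symplectic group PGSp_n(F) (symplectic type) and c = gcd(n, q − 1)/2 otherwise; and c = gcd(n, q − 1) when n is odd or q is even. -/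
theorem result {F : Type*} [Field F] [Fintype F] {p f : ℕ} [Fact p.Prime] (hF : Fintype.card F = p ^ f) (hf : 1 ≤ f) {n : ℕ} (hn : 3 ≤ n) (γ : MulAut (Matrix.ProjectiveSpecialLinearGroup (Fin n) F)) (hγ : Cfsg.IsGraphAutClassPSL γ) (hγ2 : orderOf γ = 2) :
    ((Even n ∧ Odd p ∧ Nonempty (↥(Cfsg.inndiagPSL n F ⊓ Subgroup.centralizer {γ}) ≃* Cfsg.PGSp (n / 2) F)) → Cfsg.splitClassCount (Cfsg.inndiagPSL n F) (Cfsg.Inn (Matrix.ProjectiveSpecialLinearGroup (Fin n) F)) γ = Nat.gcd (n / 2) (p ^ f - 1)) ∧ ((Even n ∧ Odd p ∧ ¬ Nonempty (↥(Cfsg.inndiagPSL n F ⊓ Subgroup.centralizer {γ}) ≃* Cfsg.PGSp (n / 2) F)) → Cfsg.splitClassCount (Cfsg.inndiagPSL n F) (Cfsg.Inn (Matrix.ProjectiveSpecialLinearGroup (Fin n) F)) γ = Nat.gcd n (p ^ f - 1) / 2) ∧ (¬ (Even n ∧ Odd p) → Cfsg.splitClassCount (Cfsg.inndiagPSL n F) (Cfsg.Inn (Matrix.ProjectiveSpecialLinearGroup (Fin n) F)) γ = Nat.gcd n (p ^ f - 1)) := by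
  have hn2 : 2 ≤ n := by omega
  obtain ⟨-, A, rfl⟩ := (isGraphAutClassPSL_iff γ).1 hγ
  rw [orderOf_gAut_eq_two hn] at hγ2
  set M := (A : Matrix (Fin n) (Fin n) F) with hMdef
  have hdA : M.det ≠ 0 := Matrix.GeneralLinearGroup.det_ne_zero A
  haveI : CharP F p := charP_of_card_eq_prime_pow (f := f) hF
  have hcard : Nat.card Fˣ = p ^ f - 1 := by rw [Nat.card_units, Nat.card_eq_fintype_card, hF]
  have hodd2 : Odd p ↔ (2 : F) ≠ 0 := by
    constructor
    · intro hp h
      have h' : ((2 : ℕ) : F) = 0 := by exact_mod_cast h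
      rw [CharP.cast_eq_zero_iff F p 2, Nat.dvd_prime Nat.prime_two] at h'
      rcases h' with h' | h'
      · exact (Fact.out : p.Prime).ne_one h'
      · subst h'; exact absurd hp (by decide)
    · intro h
      rcases (Fact.out : p.Prime).eq_two_or_odd' with rfl | h'
      · exact absurd CharTwo.two_eq_zero h
      · exact h'
  haveI : Nonempty (Fin n) := ⟨⟨0, by omega⟩⟩
  have hpow : ∀ k : ℕ, (powMonoidHom k : Fˣ →* Fˣ).range.index = Nat.gcd k (p ^ f - 1) := fun k => by
    rw [IsCyclic.index_powMonoidHom_range, hcard, Nat.gcd_comm]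
  have hle : ∀ u ∈ (simBil M).map GeneralLinearGroup.det, ∃ c : Fˣ, u ^ 2 = c ^ n := by
    rintro _ ⟨k, hk, rfl⟩
    obtain ⟨c, hc⟩ := mem_simBil.1 hk
    refine ⟨c, Units.ext ?_⟩
    rw [Units.val_pow_eq_pow_val, Units.val_pow_eq_pow_val, GeneralLinearGroup.val_det_apply,
      det_sq_of_sim hdA hc, Fintype.card_fin]
  have hpn : (powMonoidHom n : Fˣ →* Fˣ).range ≤ (simBil M).map GeneralLinearGroup.det := by
    rintro _ ⟨c, rfl⟩
    exact ⟨GeneralLinearGroup.scalar (Fin n) c, scalar_mem_simBil M c, Units.ext (by simp)⟩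
  refine ⟨fun ⟨hev, hop, hiso⟩ => ?_, fun ⟨hev, hop, hiso⟩ => ?_, fun hno => ?_⟩
  · have h2 := hodd2.1 hop
    obtain ⟨m, hm⟩ := hev
    obtain rfl : n = 2 * m := by omega
    rw [show 2 * m / 2 = m by omega] at hiso ⊢
    have hskew : Mᵀ = -M := by
      rcases hγ2 with h | h
      · obtain ⟨e⟩ := hiso
        obtain ⟨e'⟩ := centralizer_gAut_equiv hn2 A
        exact absurd ⟨e'.symm.trans e⟩ (not_projQuot_equiv_PGSp h2 (by omega) h hdA)
      · exact h
    rw [splitClassCount_gAut hn2, map_det_skew (m := m) (isAltMat_of_skew h2 hskew) hdA (by omega) (Fintype.card_fin _), hpow]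
  · have h2 := hodd2.1 hop
    obtain ⟨m, hm⟩ := hev
    obtain rfl : n = 2 * m := by omega
    rw [show 2 * m / 2 = m by omega] at hiso
    have hsym : Mᵀ = M := by
      rcases hγ2 with h | h
      · exact h
      · exfalso
        obtain ⟨e'⟩ := centralizer_gAut_equiv hn2 A
        obtain ⟨e⟩ := (congr_J (isAltMat_of_skew h2 h) hdA (m := m) (Fintype.card_fin _)).formEquiv.projQuot_equiv
        exact hiso ⟨e'.trans e⟩
    rw [splitClassCount_gAut hn2, map_det_symm h2 hsym hdA (Fintype.card_fin _) (by omega)]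
    have h3 := Subgroup.relIndex_mul_index (show (powMonoidHom (2 * m) : Fˣ →* Fˣ).range ≤
      (powMonoidHom 2 : Fˣ →* Fˣ).range by
      rintro _ ⟨c, rfl⟩; exact ⟨c ^ m, by simp [← pow_mul, mul_comm m]⟩)
    rw [hpow, hpow] at h3
    have h4 : Nat.gcd 2 (p ^ f - 1) = 2 := by
      apply Nat.gcd_eq_left
      rcases (hop.pow : Odd (p ^ f)) with ⟨k, hk⟩
      exact ⟨k, by omega⟩
    rw [h4] at h3
    rw [Subgroup.index_comap]
    omega
  · rw [splitClassCount_gAut hn2]
    rw [show (simBil M).map GeneralLinearGroup.det = (powMonoidHom n : Fˣ →* Fˣ).range from le_antisymm ?_ hpn, hpow]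
    intro u hu
    obtain ⟨c, hc⟩ := hle u hu
    by_cases h2 : (2 : F) = 0
    · haveI : CharP F 2 := CharTwo.of_one_ne_zero_of_two_eq_zero one_ne_zero h2
      obtain ⟨r, hr⟩ := exists_sqrt (c : F)
      have hr0 : r ≠ 0 := fun h0 => c.ne_zero (by rw [← hr, h0]; simp)
      refine ⟨Units.mk0 r hr0, Units.ext ?_⟩
      have h := congrArg Units.val hc
      simp only [Units.val_pow_eq_pow_val, ← hr] at h
      show r ^ n = _
      exact (CharTwo.sq_inj.1 (by rw [h]; ring)).symm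
    · have hodd : ¬ Even n := fun he => hno ⟨he, hodd2.2 h2⟩
      obtain ⟨j, rfl⟩ := Nat.not_even_iff_odd.1 hodd
      refine ⟨u * (c⁻¹) ^ j, ?_⟩
      show (u * (c⁻¹) ^ j) ^ (2 * j + 1) = u
      calc (u * (c⁻¹) ^ j) ^ (2 * j + 1) = u * ((u ^ 2) ^ j * ((c ^ (2 * j + 1)) ^ j)⁻¹) := by
            rw [mul_pow, ← pow_mul c, inv_pow, inv_pow, ← pow_mul c, pow_succ u (2 * j), pow_mul u 2 j, mul_comm j]
            ac_rfl
        _ = u := by rw [hc, mul_inv_cancel, mul_one]

end Cfsg.Agent.S2702
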