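import Cfsg.Statements.S2703
import Cfsg.Agent.Lib.KnownSimple.Forms.Even
import Cfsg.Agent.Lib.KnownSimple.PSLAut.GraphType

set_option autoImplicit false
open Matrix CfsgLib.Forms CfsgLib.PSLAut

-- import your own Cfsg.Agent.* helpers here

set_option autoImplicit false
open Cfsg

namespace Cfsg.Agent.S2703

/-- Let T = PSL_n(F) over the field with q elements, q odd, n = 2m ≥ 4 even, and ι the inverse-transpose automorphism. Its centralizer in G = Inndiag(T) (the image of PGL_n(F)) is isomorphic to the projective conformal orthogonal group of the plus-type form Σ xᵢ yᵢ in dimension n when n(q − 1)/4 is even, and to that of a minus-type form (Σ xᵢ yᵢ + z₁² + a z₁ z₂ + b z₂² with anisotropic binary part) when n(q − 1)/4 is odd. -/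
theorem result {F : Type*} [Field F] [Fintype F] (hodd : Odd (Fintype.card F)) {n m : ℕ} (hm : 2 ≤ m) (hnm : n = 2 * m) (ι : MulAut (Matrix.ProjectiveSpecialLinearGroup (Fin n) F)) (hι : Cfsg.IsInverseTransposeAutPSL ι) :
    (Even (n * (Fintype.card F - 1) / 4) → Nonempty (↥(Cfsg.inndiagPSL n F ⊓ Subgroup.centralizer {ι}) ≃* Cfsg.PGO F (Cfsg.quadFormPlus m F))) ∧ (¬ Even (n * (Fintype.card F - 1) / 4) → ∃ a b : F, (∀ z₁ z₂ : F, z₁ ^ 2 + a * z₁ * z₂ + b * z₂ ^ 2 = 0 → z₁ = 0 ∧ z₂ = 0) ∧ Nonempty (↥(Cfsg.inndiagPSL n F ⊓ Subgroup.centralizer {ι}) ≃* Cfsg.PGO F (Cfsg.quadFormMinus (m - 1) F a b))) := by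
  subst hnm
  have h2 : (2 : F) ≠ 0 := CfsgLib.Classical.two_ne_zero_of_odd_card hodd
  obtain ⟨m, rfl⟩ : ∃ k, m = k + 1 := ⟨m - 1, by omega⟩
  obtain rfl : ι = gAut 1 := by rw [(isInverseTransposeAutPSL_iff ι).1 hι, gAut, inv_one, map_one, one_mul]
  obtain ⟨a, b, hab⟩ := exists_anisotropic (F := F) h2
  have hD := disc_not_isSquare h2 hab
  let e₁ : Fin (m + 1) ⊕ Fin (m + 1) ≃ Fin (2 * (m + 1)) := Fintype.equivFinOfCardEq (by simp; omega)
  let e₃ : (Fin m ⊕ Fin m) ⊕ Fin 2 ≃ Fin (2 * (m + 1)) := Fintype.equivFinOfCardEq (by simp; omega)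
  have hs : ((1 : GL (Fin (2 * (m + 1))) F) : Matrix (Fin (2 * (m + 1))) (Fin (2 * (m + 1))) F)ᵀ =
      ((1 : GL (Fin (2 * (m + 1))) F) : Matrix (Fin (2 * (m + 1))) (Fin (2 * (m + 1))) F) := by simp
  have hd : ((1 : GL (Fin (2 * (m + 1))) F) : Matrix (Fin (2 * (m + 1))) (Fin (2 * (m + 1))) F).det ≠ 0 := by simp
  have hc : ringChar F ≠ 2 := fun h => h2 (by
    haveI : CharP F 2 := h ▸ ringChar.charP F
    exact CharTwo.two_eq_zero)
  have hq : Even (2 * (m + 1) * (Fintype.card F - 1) / 4) ↔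
      IsSquare ((-1 : F) ^ (m + 1) * ((1 : GL (Fin (2 * (m + 1))) F) : Matrix (Fin (2 * (m + 1))) (Fin (2 * (m + 1))) F).det) := by
    obtain ⟨k, hk⟩ := hodd
    have e : 2 * (m + 1) * (Fintype.card F - 1) / 4 = (m + 1) * (Fintype.card F / 2) := by
      rw [hk, show 2 * k + 1 - 1 = 2 * k by omega, show (2 * k + 1) / 2 = k by omega,
        show 2 * (m + 1) * (2 * k) = 4 * ((m + 1) * k) by ring, Nat.mul_div_cancel_left _ (by norm_num)]
    rw [Units.val_one, det_one, mul_one, FiniteField.isSquare_iff hc (pow_ne_zero _ (by simp)), ← pow_mul, ← e]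
    constructor
    · exact fun h => h.neg_one_pow
    · intro h
      by_contra hne
      rw [(Nat.not_even_iff_odd.1 hne).neg_one_pow] at h
      exact h2 (by linear_combination -h)
  obtain ⟨f⟩ := centralizer_gAut_equiv (F := F) (show 2 ≤ 2 * (m + 1) by omega) 1
  constructor
  · intro h
    obtain ⟨g⟩ := ((formEquiv_Mplus_iff h2 hs hd e₁).2 (hq.1 h)).projQuot_equiv
    unfold Cfsg.PGO
    rw [quadSim_eq_simBil h2 (Mplus_symm _) (quadFormPlus_eq h2 _)]
    exact ⟨f.trans g⟩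
  · intro h
    refine ⟨a, b, hab, ?_⟩
    obtain ⟨g⟩ := ((formEquiv_Mminus_iff h2 hD hs hd e₃).2 (fun h' => h (hq.2 h'))).projQuot_equiv
    unfold Cfsg.PGO
    rw [show m + 1 - 1 = m from rfl, quadSim_eq_simBil h2 (Mminus_symm m a b) (quadFormMinus_eq h2 m a b)]
    exact ⟨f.trans g⟩

end Cfsg.Agent.S2703
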