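import Cfsg.Statements.S2704
import Cfsg.Agent.Lib.KnownSimple.PSLAut.FieldClass

set_option autoImplicit false
open Cfsg CfsgLib.PSLAut

namespace Cfsg.Agent.S2704

/-- Let T = PSL_n(F) over the field F with p^f elements, n ≥ 3, and G = Inndiag(T) the image of PGL_n(F). If x is an involutory graph-field automorphism of T then f is even; x is G-conjugate to every other involutory graph-field automorphism; C_G(x) is isomorphic to the projective general unitary group PGU_n(q₀) with q₀² = p^f, realised over F itself through the Hermitian form Σ uᵢ vᵢ^{q₀}; and the G-class of x is the union of exactly gcd(n, q₀ − 1) T-classes. -/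
theorem result {F : Type*} [Field F] [Fintype F] {p f : ℕ} [Fact p.Prime] (hF : Fintype.card F = p ^ f) (hf : 1 ≤ f) {n : ℕ} (hn : 3 ≤ n) (x : MulAut (Matrix.ProjectiveSpecialLinearGroup (Fin n) F)) (hx : Cfsg.IsGraphFieldAutClassPSL x) (hx2 : orderOf x = 2) :
    Even f ∧ (∀ y : MulAut (Matrix.ProjectiveSpecialLinearGroup (Fin n) F), Cfsg.IsGraphFieldAutClassPSL y → orderOf y = 2 → Cfsg.IsConjUnder (Cfsg.inndiagPSL n F) x y) ∧ Nonempty (↥(Cfsg.inndiagPSL n F ⊓ Subgroup.centralizer {x}) ≃* Cfsg.PGU n F (p ^ (f / 2))) ∧ Cfsg.splitClassCount (Cfsg.inndiagPSL n F) (Cfsg.Inn (Matrix.ProjectiveSpecialLinearGroup (Fin n) F)) x = Nat.gcd n (p ^ (f / 2) - 1) := by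
  have hn2 : 2 ≤ n := by omega
  haveI := normal_range_conjAut (F := F) hn2
  obtain ⟨-, σ, g, hσ, rfl⟩ := exists_standard_graphField hn2 hx Nat.prime_two hx2
  obtain ⟨hdvd, hcard⟩ := card_fixedField_eq (Fact.out : p.Prime) hF two_ne_zero hσ
  rw [inndiagPSL_eq]
  refine ⟨even_iff_two_dvd.2 hdvd, fun y hy hy2 => ?_, nonempty_centralizerEquiv _ (conjAut g)⁻¹ _ ?_, ?_⟩
  · obtain ⟨-, τ, k, hτ, rfl⟩ := exists_standard_graphField hn2 hy Nat.prime_two hy2
    rw [ringAut_eq_of_orderOf_two hτ hσ]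
    exact ⟨conjAut (k * g⁻¹), ⟨_, rfl⟩, by rw [map_mul, map_inv]; group⟩
  · rw [show (conjAut g)⁻¹ * (conjAut g * (fieldAut σ * iotaAut) * (conjAut g)⁻¹) * (conjAut g)⁻¹⁻¹ = fieldAut σ * iotaAut by group]
    exact centralizer_graphField_equiv hn2 hσ (fun a => by rw [apply_eq_pow_of_orderOf_two hσ, hcard])
  · rw [splitClassCount_conj, splitClassCount_graphField hn2 hσ, hcard, Nat.gcd_comm]

end Cfsg.Agent.S2704
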