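import Cfsg.Statements.S2705
import Cfsg.Agent.Lib.KnownSimple.PSUAut.FieldClass

set_option autoImplicit false
open Cfsg CfsgLib.PSUAut

namespace Cfsg.Agent.S2705

/-- Let T = PSU_n(q) be simple (n ≥ 3, (n, q) ≠ (3, 2), q = p^f), realised over the field F with q² elements, G = Inndiag(T) the image of PGU_n(q) in Aut(T), and x a field automorphism of T (conjugate to a standard field automorphism of odd order) of odd prime order r. Then r divides f; C_G(x) is isomorphic to PGU_n(q₀) with q₀ = p^(f/r), realised over a field F₀ with q₀² elements; and the G-class of x is the union of exactly gcd(n, (q + 1)/(q₀ + 1)) T-classes. -/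
theorem result {F : Type*} [Field F] [Fintype F] {p f q : ℕ} [Fact p.Prime] (hq : q = p ^ f) (hf : 1 ≤ f) (hF : Fintype.card F = q ^ 2) {n : ℕ} (hn : 3 ≤ n) (hs : ¬ (n = 3 ∧ q = 2)) (x : MulAut (Cfsg.PSU n F q)) (hx : Cfsg.IsFieldAutClassPSU x) {r : ℕ} (hr : r.Prime) (hro : Odd r) (hxr : orderOf x = r) (F₀ : Type*) [Field F₀] [Fintype F₀] (hF₀ : Fintype.card F₀ = p ^ (2 * (f / r))) :
    r ∣ f ∧ Nonempty (↥(Cfsg.inndiagPSU n F q ⊓ Subgroup.centralizer {x}) ≃* Cfsg.PGU n F₀ (p ^ (f / r))) ∧ Cfsg.splitClassCount (Cfsg.inndiagPSU n F q) (Cfsg.Inn (Cfsg.PSU n F q)) x = Nat.gcd n ((q + 1) / (p ^ (f / r) + 1)) := by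
  classical
  have hp := (Fact.out : p.Prime)
  obtain ⟨ρ, hρ, -, -⟩ := CfsgLib.Transvec.Unitary.exists_frob hF
  have hF2 : Fintype.card F = p ^ (2 * f) := by rw [hF, hq, ← pow_mul, mul_comm]
  obtain ⟨σ, g, hσ, -, rfl⟩ := exists_standard_fieldPSU hF hρ hn hs hx hxr
  obtain ⟨hdvd, hcard⟩ := CfsgLib.PSLAut.card_fixedField_eq hp hF2 hr.ne_zero hσ
  have hrf : r ∣ f := (Nat.Coprime.dvd_of_dvd_mul_left (by
    rw [Nat.coprime_two_right]; exact hro) hdvd)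
  rw [Nat.mul_div_assoc 2 hrf] at hcard
  have h0 : Nat.card (CfsgLib.PSLAut.fixedField σ) = (p ^ (f / r)) ^ 2 := by rw [hcard, ← pow_mul, mul_comm]
  have hq₀ : q = (p ^ (f / r)) ^ r := by rw [← pow_mul, Nat.div_mul_cancel hrf, hq]
  have hG : Cfsg.inndiagPSU n F q = (conjPSU : Cfsg.GU n F q →* MulAut (Cfsg.PSU n F q)).range :=
    Subgroup.ext fun β => mem_inndiagPSU_iff
  obtain ⟨ψ, -, hk, -⟩ := exists_aut_hom hF hρ hn hs
  haveI : ((conjPSU : Cfsg.GU n F q →* MulAut (Cfsg.PSU n F q)).range).Normal := hk ▸ inferInstance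
  rw [hG]
  letI : Fintype (CfsgLib.PSLAut.fixedField σ) := Fintype.ofFinite _
  have hcc : Fintype.card (CfsgLib.PSLAut.fixedField σ) = Fintype.card F₀ := by
    rw [← Nat.card_eq_fintype_card, hcard, hF₀]
  obtain ⟨e⟩ : Nonempty (CfsgLib.PSLAut.fixedField σ ≃+* F₀) := ⟨FiniteField.ringEquivOfCardEq hcc⟩
  refine ⟨hrf, CfsgLib.PSLAut.nonempty_centralizerEquiv _ (conjPSU g)⁻¹ _ ?_, ?_⟩
  · rw [show (conjPSU g)⁻¹ * (conjPSU g * fieldPSU σ * (conjPSU g)⁻¹) * (conjPSU g)⁻¹⁻¹ = fieldPSU σ by group]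
    exact centralizer_fieldPSU_equiv hF hρ hσ hro h0 hq₀ hn F₀ e
  · rw [CfsgLib.PSLAut.splitClassCount_conj, splitClassCount_fieldPSU hF hρ hσ hro h0 hq₀ hn]

end Cfsg.Agent.S2705
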