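import Cfsg.Statements.S2706
import Cfsg.Agent.Lib.KnownSimple.PSUAut.GraphType
import Cfsg.Agent.Lib.KnownSimple.Forms.Even
import Cfsg.Agent.Lib.Classical.SpFrames

set_option autoImplicit false
open Cfsg Matrix CfsgLib.PSUAut CfsgLib.Forms

namespace Cfsg.Agent.S2706

/-- Let T = PSU_n(q) be simple with n = 2m + 1 ≥ 3 odd, realised over the field F with q² elements, and G = Inndiag(T) the image of PGU_n(q). Every involutory graph automorphism γ of T (an inner-diagonal automorphism times a standard field automorphism of even order, of order 2) has centralizer C_G(γ) isomorphic to the projective conformal orthogonal group of the form x₀² + Σ xᵢ yᵢ in dimension n over a field F₀ with q elements, and any two involutory graph automorphisms of T are G-conjugate. -/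
theorem result {F : Type*} [Field F] [Fintype F] {p f q : ℕ} [Fact p.Prime] (hq : q = p ^ f) (hf : 1 ≤ f) (hF : Fintype.card F = q ^ 2) {n : ℕ} (hn : 3 ≤ n) (hs : ¬ (n = 3 ∧ q = 2)) {m : ℕ} (hnm : n = 2 * m + 1) (F₀ : Type*) [Field F₀] [Fintype F₀] (hF₀ : Fintype.card F₀ = q) (γ γ' : MulAut (Cfsg.PSU n F q)) (hγ : Cfsg.IsGraphAutClassPSU γ) (hγ2 : orderOf γ = 2) (hγ' : Cfsg.IsGraphAutClassPSU γ') (hγ'2 : orderOf γ' = 2) :
    Nonempty (↥(Cfsg.inndiagPSU n F q ⊓ Subgroup.centralizer {γ}) ≃* Cfsg.PGO F₀ (Cfsg.quadFormOdd m F₀)) ∧ Cfsg.IsConjUnder (Cfsg.inndiagPSU n F q) γ γ' := by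
  obtain ⟨ρ, hρ, -, -⟩ := CfsgLib.Transvec.Unitary.exists_frob hF
  obtain ⟨ι, hι⟩ := exists_onto hF hρ F₀ hF₀
  obtain ⟨g, rfl⟩ := (isGraphAutClassPSU_iff hF hρ hn hγ2).1 hγ
  obtain ⟨g', rfl⟩ := (isGraphAutClassPSU_iff hF hρ hn hγ'2).1 hγ'
  obtain ⟨B, hB, hdB, hsB⟩ := exists_formOf hF hρ hι hn g hγ2
  obtain ⟨B', hB', hdB', hsB'⟩ := exists_formOf hF hρ hι hn g' hγ'2
  obtain ⟨e₁⟩ := centralizer_uAut_equiv hF hρ hι hn hB
  rw [formOf_of_conj_iff hF hρ hι hn hB hB']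
  subst hnm
  by_cases h2 : (2 : F₀) = 0
  · haveI : CharP F₀ 2 := CharTwo.of_one_ne_zero_of_two_eq_zero one_ne_zero h2
    have hsym : ∀ C : Matrix (Fin (2 * m + 1)) (Fin (2 * m + 1)) F₀, (Cᵀ = C ∨ Cᵀ = -C) → Cᵀ = C := by
      rintro C (h | h)
      · exact h
      · rw [h]; ext i j; simp [CharTwo.neg_eq]
    have hA := congr_oddStd (hsym _ hsB) hdB (Fintype.card_fin _)
    have hB₁ := congr_oddStd (hsym _ hsB') hdB' (Fintype.card_fin _)
    obtain ⟨e₂⟩ := hA.formEquiv.projQuot_equiv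
    obtain ⟨e₃⟩ := projQuot_simBil_equiv_isoBil (A := oddStd m F₀) (fun h => one_ne_zero (α := F₀)
      (by simpa [oddStd] using congrFun (congrFun h (.inl ())) (.inl ())))
    obtain ⟨e₄⟩ := isoBil_oddStd_equiv (F := F₀) m
    obtain ⟨e₅⟩ := pgoOdd_equiv (F := F₀) m
    exact ⟨⟨((e₁.trans e₂).trans (e₃.trans e₄)).trans e₅.symm⟩, (hA.trans hB₁.symm).formEquiv⟩
  · let e : Unit ⊕ (Fin m ⊕ Fin m) ≃ Fin (2 * m + 1) := Fintype.equivFinOfCardEq (by simp; omega)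
    have hsym : ∀ C : Matrix (Fin (2 * m + 1)) (Fin (2 * m + 1)) F₀, C.det ≠ 0 → (Cᵀ = C ∨ Cᵀ = -C) → Cᵀ = C := by
      rintro C hd (h | h)
      · exact h
      · exfalso
        have h1 := congrArg Matrix.det h
        rw [Matrix.det_transpose, Matrix.det_neg, Fintype.card_fin, Odd.neg_one_pow ⟨m, rfl⟩] at h1
        exact hd ((mul_eq_zero.1 (by linear_combination h1 : (2 : F₀) * C.det = 0)).resolve_left h2)
    have hA := formEquiv_of_odd h2 (hsym _ hdB hsB) (Modd_symm m) e hdB (det_Modd_ne_zero h2 m) (by simp)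
    have hB₁ := formEquiv_of_odd h2 (hsym _ hdB' hsB') (Modd_symm m) e hdB' (det_Modd_ne_zero h2 m) (by simp)
    obtain ⟨e₂⟩ := hA.projQuot_equiv
    refine ⟨?_, hA.trans hB₁.symm⟩
    unfold Cfsg.PGO
    rw [quadSim_eq_simBil h2 (Modd_symm m) (quadFormOdd_eq h2 m)]
    exact ⟨e₁.trans e₂⟩

end Cfsg.Agent.S2706
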