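import Cfsg.Statements.S2707
import Cfsg.Agent.Lib.KnownSimple.PSUAut.GraphType
import Cfsg.Agent.Lib.KnownSimple.Forms.Even
import Cfsg.Agent.Lib.Classical.SpFrames

set_option autoImplicit false
open Cfsg Matrix CfsgLib.PSUAut CfsgLib.Forms

namespace Cfsg.Agent.S2707

/-- Let T = PSU_n(q) with n = 2m ≥ 4 even and q odd, realised over the field F with q² elements, and G = Inndiag(T) the image of PGU_n(q). The involutory graph automorphisms of T fall into exactly three G-classes, with representatives whose centralizers in G are isomorphic respectively to the projective conformal symplectic group PGSp_n(F₀), the projective conformal orthogonal group of the plus-type form Σ xᵢ yᵢ, and that of a minus-type form Σ xᵢ yᵢ + z₁² + a z₁ z₂ + b z₂² (anisotropic binary part) in dimension n, all over a field F₀ with q elements. -/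
theorem result {F : Type*} [Field F] [Fintype F] {q : ℕ} (hodd : Odd q) (hF : Fintype.card F = q ^ 2) {n m : ℕ} (hm : 2 ≤ m) (hnm : n = 2 * m) (F₀ : Type*) [Field F₀] [Fintype F₀] (hF₀ : Fintype.card F₀ = q) :
    ∃ (γ₁ γ₂ γ₃ : MulAut (Cfsg.PSU n F q)) (a b : F₀), (∀ z₁ z₂ : F₀, z₁ ^ 2 + a * z₁ * z₂ + b * z₂ ^ 2 = 0 → z₁ = 0 ∧ z₂ = 0) ∧ Cfsg.IsGraphAutClassPSU γ₁ ∧ orderOf γ₁ = 2 ∧ Cfsg.IsGraphAutClassPSU γ₂ ∧ orderOf γ₂ = 2 ∧ Cfsg.IsGraphAutClassPSU γ₃ ∧ orderOf γ₃ = 2 ∧ ¬ Cfsg.IsConjUnder (Cfsg.inndiagPSU n F q) γ₁ γ₂ ∧ ¬ Cfsg.IsConjUnder (Cfsg.inndiagPSU n F q) γ₁ γ₃ ∧ ¬ Cfsg.IsConjUnder (Cfsg.inndiagPSU n F q) γ₂ γ₃ ∧ (∀ γ : MulAut (Cfsg.PSU n F q), Cfsg.IsGraphAutClassPSU γ → orderOf γ = 2 → Cfsg.IsConjUnder (Cfsg.inndiagPSU n F q) γ₁ γ ∨ Cfsg.IsConjUnder (Cfsg.inndiagPSU n F q) γ₂ γ ∨ Cfsg.IsConjUnder (Cfsg.inndiagPSU n F q) γ₃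 γ) ∧ Nonempty (↥(Cfsg.inndiagPSU n F q ⊓ Subgroup.centralizer {γ₁}) ≃* Cfsg.PGSp m F₀) ∧ Nonempty (↥(Cfsg.inndiagPSU n F q ⊓ Subgroup.centralizer {γ₂}) ≃* Cfsg.PGO F₀ (Cfsg.quadFormPlus m F₀)) ∧ Nonempty (↥(Cfsg.inndiagPSU n F q ⊓ Subgroup.centralizer {γ₃}) ≃* Cfsg.PGO F₀ (Cfsg.quadFormMinus (m - 1) F₀ a b)) := by
  obtain ⟨ρ, hρ, -, -⟩ := CfsgLib.Transvec.Unitary.exists_frob hF
  obtain ⟨ι, hι⟩ := exists_onto hF hρ F₀ hF₀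
  subst hnm
  have h2 : (2 : F₀) ≠ 0 := CfsgLib.Classical.two_ne_zero_of_odd_card (by rwa [hF₀])
  obtain ⟨m, rfl⟩ : ∃ k, m = k + 1 := ⟨m - 1, by omega⟩
  obtain ⟨a, b, hab⟩ := exists_anisotropic (F := F₀) h2
  have hD := disc_not_isSquare h2 hab
  let e₁ : Fin (m + 1) ⊕ Fin (m + 1) ≃ Fin (2 * (m + 1)) := Fintype.equivFinOfCardEq (by simp; omega)
  let e₃ : (Fin m ⊕ Fin m) ⊕ Fin 2 ≃ Fin (2 * (m + 1)) := Fintype.equivFinOfCardEq (by simp; omega)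
  obtain ⟨A₁, hA₁, hc₁⟩ := exists_gl_congr e₁.symm (M := Matrix.J (Fin (m + 1)) F₀)
    (isUnit_iff_ne_zero.1 (Matrix.isUnit_det_J _ _))
  obtain ⟨A₂, hA₂, hc₂⟩ := exists_gl_congr e₁.symm (det_Mplus_ne_zero (F := F₀) h2 (m + 1))
  obtain ⟨A₃, hA₃, hc₃⟩ := exists_gl_congr e₃.symm (Mminus_det_ne_zero (F := F₀) h2 m hD)
  have hdet : ∀ C : GL (Fin (2 * (m + 1))) F₀,
      (C : Matrix (Fin (2 * (m + 1))) (Fin (2 * (m + 1))) F₀).det ≠ 0 := fun C => Matrix.GeneralLinearGroup.det_ne_zero C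
  have hs₁ : (A₁ : Matrix (Fin (2 * (m + 1))) (Fin (2 * (m + 1))) F₀)ᵀ = -A₁ := by
    rw [hA₁, Matrix.transpose_submatrix, Matrix.J_transpose]; rfl
  have hs₂ : (A₂ : Matrix (Fin (2 * (m + 1))) (Fin (2 * (m + 1))) F₀)ᵀ = A₂ := by
    rw [hA₂, Matrix.transpose_submatrix, Mplus_symm]
  have hs₃ : (A₃ : Matrix (Fin (2 * (m + 1))) (Fin (2 * (m + 1))) F₀)ᵀ = A₃ := by
    rw [hA₃, Matrix.transpose_submatrix, Mminus_symm]
  have hn : 3 ≤ 2 * (m + 1) := by omega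
  obtain ⟨g₁, hB₁, ho₁⟩ := exists_uAut hF hρ hι hn A₁ (Or.inr hs₁)
  obtain ⟨g₂, hB₂, ho₂⟩ := exists_uAut hF hρ hι hn A₂ (Or.inl hs₂)
  obtain ⟨g₃, hB₃, ho₃⟩ := exists_uAut hF hρ hι hn A₃ (Or.inl hs₃)
  refine ⟨uAut ρ g₁, uAut ρ g₂, uAut ρ g₃, a, b, hab, (isGraphAutClassPSU_iff hF hρ hn ho₁).2 ⟨_, rfl⟩, ho₁,
    (isGraphAutClassPSU_iff hF hρ hn ho₂).2 ⟨_, rfl⟩, ho₂, (isGraphAutClassPSU_iff hF hρ hn ho₃).2 ⟨_, rfl⟩, ho₃,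
    ?_, ?_, ?_, ?_, ?_, ?_, ?_⟩
  · rw [formOf_of_conj_iff hF hρ hι hn hB₁ hB₂]
    exact fun h => not_formEquiv_J h2 (Nat.succ_pos m) hs₂ (h.symm.trans hc₁.formEquiv)
  · rw [formOf_of_conj_iff hF hρ hι hn hB₁ hB₃]
    exact fun h => not_formEquiv_J h2 (Nat.succ_pos m) hs₃ (h.symm.trans hc₁.formEquiv)
  · rw [formOf_of_conj_iff hF hρ hι hn hB₂ hB₃]
    intro h
    exact (formEquiv_Mminus_iff h2 hD hs₂ (hdet _) e₃).1 (h.trans hc₃.formEquiv)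
      ((formEquiv_Mplus_iff h2 hs₂ (hdet _) e₁).1 hc₂.formEquiv)
  · intro γ hγ hγ2
    obtain ⟨g, rfl⟩ := (isGraphAutClassPSU_iff hF hρ hn hγ2).1 hγ
    obtain ⟨B, hB, hd, hs⟩ := exists_formOf hF hρ hι hn g hγ2
    simp only [formOf_of_conj_iff hF hρ hι hn hB₁ hB, formOf_of_conj_iff hF hρ hι hn hB₂ hB,
      formOf_of_conj_iff hF hρ hι hn hB₃ hB]
    rcases hs with h | h
    · right
      by_cases hq : IsSquare ((-1) ^ (m + 1) * B.det)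
      · exact Or.inl (hc₂.formEquiv.trans ((formEquiv_Mplus_iff h2 h hd e₁).2 hq).symm)
      · exact Or.inr (hc₃.formEquiv.trans ((formEquiv_Mminus_iff h2 hD h hd e₃).2 hq).symm)
    · left
      exact (hc₁.trans (congr_J (isAltMat_of_skew h2 h) hd (Fintype.card_fin _)).symm).formEquiv
  · obtain ⟨f⟩ := centralizer_uAut_equiv hF hρ hι hn hB₁
    obtain ⟨g⟩ := hc₁.formEquiv.projQuot_equiv
    exact ⟨f.trans g⟩
  · obtain ⟨f⟩ := centralizer_uAut_equiv hF hρ hι hn hB₂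
    obtain ⟨g⟩ := hc₂.formEquiv.projQuot_equiv
    unfold Cfsg.PGO
    rw [quadSim_eq_simBil h2 (Mplus_symm _) (quadFormPlus_eq h2 _)]
    exact ⟨f.trans g⟩
  · obtain ⟨f⟩ := centralizer_uAut_equiv hF hρ hι hn hB₃
    obtain ⟨g⟩ := hc₃.formEquiv.projQuot_equiv
    unfold Cfsg.PGO
    rw [show m + 1 - 1 = m from rfl, quadSim_eq_simBil h2 (Mminus_symm m a b) (quadFormMinus_eq h2 m a b)]
    exact ⟨f.trans g⟩

end Cfsg.Agent.S2707
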