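import Cfsg.Statements.S2708
import Cfsg.Agent.Lib.KnownSimple.PSUAut.GraphType
import Cfsg.Agent.Lib.KnownSimple.Forms.Even
import Cfsg.Agent.Lib.Classical.SpFrames

set_option autoImplicit false
open Cfsg Matrix CfsgLib.PSUAut CfsgLib.Forms

open scoped Matrix
variable {F : Type*} [Field F]

/-- The isometries of the standard alternating form. -/
lemma Cfsg.Agent.S2708.isoBil_J_equiv (m : ℕ) :
    Nonempty (↥(isoBil (Matrix.J (Fin m) F)) ≃* ↥(Matrix.symplecticGroup (Fin m) F)) := by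
  let Φ := (CfsgLib.Forms.spGL (F := F) (m := m)).codRestrict (isoBil (Matrix.J (Fin m) F))
    fun A => SymplecticGroup.mem_iff'.1 A.2
  refine ⟨(MulEquiv.ofBijective Φ ⟨fun A B h => Subtype.ext (congrArg Units.val (congrArg Subtype.val h)), ?_⟩).symm⟩
  rintro ⟨k, hk⟩
  exact ⟨⟨k, SymplecticGroup.mem_iff'.2 hk⟩, Subtype.ext (Units.ext rfl)⟩

-- import your own Cfsg.Agent.* helpers here

set_option autoImplicit false

namespace Cfsg.Agent.S2708

/-- Let T = PSU_n(q) with n = 2m ≥ 4 even and q even, realised over the field F (of characteristic 2) with q² elements, and G = Inndiag(T) the image of PGU_n(q). The involutory graph automorphisms of T fall into exactly two G-classes, with representatives whose centralizers in G are isomorphic respectively to the symplectic group Sp_n(F₀) and to the centralizer in Sp_n(F₀) of a symplectic transvection, F₀ a field with q elements. -/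
theorem result {F : Type*} [Field F] [Fintype F] [CharP F 2] {q : ℕ} (hF : Fintype.card F = q ^ 2) {n m : ℕ} (hm : 2 ≤ m) (hnm : n = 2 * m) (F₀ : Type*) [Field F₀] [Fintype F₀] (hF₀ : Fintype.card F₀ = q) :
    ∃ (γ₁ γ₃ : MulAut (Cfsg.PSU n F q)) (t : ↥(Matrix.symplecticGroup (Fin m) F₀)), Cfsg.IsTransvection (t : Matrix (Fin m ⊕ Fin m) (Fin m ⊕ Fin m) F₀) ∧ Cfsg.IsGraphAutClassPSU γ₁ ∧ orderOf γ₁ = 2 ∧ Cfsg.IsGraphAutClassPSU γ₃ ∧ orderOf γ₃ = 2 ∧ ¬ Cfsg.IsConjUnder (Cfsg.inndiagPSU n F q) γ₁ γ₃ ∧ (∀ γ : MulAut (Cfsg.PSU n F q), Cfsg.IsGraphAutClassPSU γ → orderOf γ = 2 → Cfsg.IsConjUnder (Cfsg.inndiagPSU n F q) γ₁ γ ∨ Cfsg.IsConjUnder (Cfsg.inndiagPSU n F q) γ₃ γ) ∧ Nonempty (↥(Cfsg.inndiagPSU n F q ⊓ Subgroup.centralizer {γ₁}) ≃* ↥(Matrix.symplecticGroup (Fin m) F₀)) ∧ Nonempty (↥(Cfsg.inndiagPSU n F q ⊓ Subgroup.centralizer {γ₃}) ≃* ↥(Subgroup.centralizer ({t} : Set ↥(Matrix.symplecticGroup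 (Fin m) F₀)))) := by
  obtain ⟨ρ, hρ, -, -⟩ := CfsgLib.Transvec.Unitary.exists_frob hF
  obtain ⟨ι, hι⟩ := exists_onto hF hρ F₀ hF₀
  haveI : CharP F₀ 2 := (ι.charP_iff ι.injective 2).2 inferInstance
  subst hnm
  obtain ⟨m, rfl⟩ : ∃ k, m = k + 1 := ⟨m - 1, by omega⟩
  set w : Fin (m + 1) ⊕ Fin (m + 1) → F₀ := Pi.single (Sum.inl 0) 1 with hwdef
  have hw : w ≠ 0 := by simp [hwdef]
  set t₀ := Matrix.J (Fin (m + 1)) F₀ *ᵥ w with ht₀def
  have hJd := isUnit_iff_ne_zero.1 (Matrix.isUnit_det_J (Fin (m + 1)) F₀)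
  have ht₀ : t₀ ≠ 0 := fun h => hw (Matrix.eq_zero_of_mulVec_eq_zero hJd h)
  let e : Fin (m + 1) ⊕ Fin (m + 1) ≃ Fin (2 * (m + 1)) := Fintype.equivFinOfCardEq (by simp; omega)
  obtain ⟨A₁, hA₁, hc₁⟩ := exists_gl_congr e.symm hJd
  have hd₃ : (Matrix.J (Fin (m + 1)) F₀ + Matrix.vecMulVec t₀ t₀).det ≠ 0 := by
    intro h
    obtain ⟨v, hv0, hv⟩ := Matrix.exists_mulVec_eq_zero_iff.2 h
    rw [Matrix.add_mulVec, Matrix.vecMulVec_mulVec] at hv
    have hv' : Matrix.J (Fin (m + 1)) F₀ *ᵥ v = (t₀ ⬝ᵥ v) • t₀ := by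
      funext i
      have := congrFun hv i
      simp at this
      rw [CharTwo.add_eq_zero] at this
      simp [this, mul_comm]
    have h1 : v = (t₀ ⬝ᵥ v) • w := sub_eq_zero.1 (Matrix.eq_zero_of_mulVec_eq_zero hJd (by
      rw [Matrix.mulVec_sub, Matrix.mulVec_smul, hv', ← ht₀def, sub_self]))
    have h2 : t₀ ⬝ᵥ v = 0 := by
      conv_lhs => rw [h1]
      rw [dotProduct_smul, dotProduct_comm t₀ w, ht₀def, (isAltMat_J (F := F₀) (m + 1)).form_self w, smul_zero]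
    exact hv0 (by rw [h1, h2, zero_smul])
  obtain ⟨A₃, hA₃, hc₃⟩ := exists_gl_congr e.symm hd₃
  have hdet : ∀ C : GL (Fin (2 * (m + 1))) F₀,
      (C : Matrix (Fin (2 * (m + 1))) (Fin (2 * (m + 1))) F₀).det ≠ 0 := fun C => Matrix.GeneralLinearGroup.det_ne_zero C
  have hn : 3 ≤ 2 * (m + 1) := by omega
  have hn2 : 2 ≤ 2 * (m + 1) := by omega
  have hneg : ∀ {κ : Type} (M : Matrix κ κ F₀), -M = M := fun M => by ext i j; simp [CharTwo.neg_eq]
  have hs₁ : (A₁ : Matrix (Fin (2 * (m + 1))) (Fin (2 * (m + 1))) F₀)ᵀ = A₁ := by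
    rw [hA₁, Matrix.transpose_submatrix, Matrix.J_transpose, hneg]
  have hs₃ : (A₃ : Matrix (Fin (2 * (m + 1))) (Fin (2 * (m + 1))) F₀)ᵀ = A₃ := by
    rw [hA₃, Matrix.transpose_submatrix, Matrix.transpose_add, Matrix.J_transpose, hneg, Matrix.transpose_vecMulVec]
  obtain ⟨g₁, hB₁, ho₁⟩ := exists_uAut hF hρ hι hn A₁ (Or.inl hs₁)
  obtain ⟨g₃, hB₃, ho₃⟩ := exists_uAut hF hρ hι hn A₃ (Or.inl hs₃)
  refine ⟨uAut ρ g₁, uAut ρ g₃, CfsgLib.Classical.spT w 1, ?_, (isGraphAutClassPSU_iff hF hρ hn ho₁).2 ⟨_, rfl⟩, ho₁,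
    (isGraphAutClassPSU_iff hF hρ hn ho₃).2 ⟨_, rfl⟩, ho₃, ?_, ?_, ?_, ?_⟩
  · show Cfsg.IsTransvection (Cfsg.sympTransvection (m + 1) w 1)
    rw [Cfsg.IsTransvection, Cfsg.sympTransvection, add_sub_cancel_left, one_smul]
    refine ⟨le_antisymm (Matrix.rank_vecMulVec_le _ _) (Nat.one_le_iff_ne_zero.2 fun h => ?_), ?_⟩
    · rw [Matrix.rank, Submodule.finrank_eq_zero, LinearMap.range_eq_bot] at h
      obtain ⟨i, hi⟩ := Function.ne_iff.1 hw
      obtain ⟨j, hj⟩ := Function.ne_iff.1 ht₀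
      have h1 := congrFun (LinearMap.congr_fun h (Pi.single j 1)) i
      simp at h1
      rw [Matrix.vecMulVec_apply] at h1
      rcases mul_eq_zero.1 h1 with h1 | h1
      · exact hi h1
      · exact hj h1
    · rw [Matrix.vecMulVec_mul_vecMulVec]
      have : t₀ ⬝ᵥ w = 0 := by
        rw [dotProduct_comm, ht₀def]; exact (isAltMat_J (F := F₀) (m + 1)).form_self w
      rw [show (Matrix.J (Fin (m + 1)) F₀ *ᵥ w) ⬝ᵥ w = 0 from this]
      simp
  · rw [formOf_of_conj_iff hF hρ hι hn hB₁ hB₃]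
    intro h
    have h1 := IsAltMat.of_formEquiv (h.trans hc₃.formEquiv)
      (IsAltMat.of_congr hc₁.symm (isAltMat_J (m + 1)))
    obtain ⟨j, hj⟩ := Function.ne_iff.1 ht₀
    exact hj (mul_self_eq_zero.1 (by
      have := h1.2 j
      rwa [Matrix.add_apply, (isAltMat_J (F := F₀) (m + 1)).2, Matrix.vecMulVec_apply, zero_add] at this))
  · intro γ hγ hγ2
    obtain ⟨g, rfl⟩ := (isGraphAutClassPSU_iff hF hρ hn hγ2).1 hγ
    obtain ⟨B, hB, hdB, hs⟩ := exists_formOf hF hρ hι hn g hγ2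
    simp only [formOf_of_conj_iff hF hρ hι hn hB₁ hB, formOf_of_conj_iff hF hρ hι hn hB₃ hB]
    have hsym : Bᵀ = B := by
      rcases hs with h | h
      · exact h
      · rwa [hneg] at h
    by_cases hd : ∃ i, B i i ≠ 0
    · right
      exact (hc₃.trans (congr_evenStd hsym hdB hd (Fintype.card_fin _) t₀ ht₀).symm).formEquiv
    · left
      push Not at hd
      exact (hc₁.trans (congr_J ⟨by rw [hneg, hsym], hd⟩ hdB (Fintype.card_fin _)).symm).formEquiv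
  · obtain ⟨f⟩ := centralizer_uAut_equiv hF hρ hι hn hB₁
    obtain ⟨g⟩ := hc₁.formEquiv.projQuot_equiv
    obtain ⟨h⟩ := projQuot_simBil_equiv_isoBil (A := Matrix.J (Fin (m + 1)) F₀)
      (fun h0 => hJd (by rw [h0]; simp))
    obtain ⟨i⟩ := isoBil_J_equiv (F := F₀) (m + 1)
    exact ⟨(f.trans g).trans (h.trans i)⟩
  · obtain ⟨f⟩ := centralizer_uAut_equiv hF hρ hι hn hB₃
    obtain ⟨g⟩ := hc₃.formEquiv.projQuot_equiv
    obtain ⟨h⟩ := projQuot_simBil_equiv_isoBil (A := Matrix.J (Fin (m + 1)) F₀ + Matrix.vecMulVec t₀ t₀)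
      (fun h0 => hd₃ (by rw [h0]; simp))
    obtain ⟨i⟩ := isoBil_evenStd_equiv (F := F₀) (m + 1) hw
    exact ⟨(f.trans g).trans (h.trans i)⟩

end Cfsg.Agent.S2708
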