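import Cfsg.Statements.S2709
import Cfsg.Agent.Lib.KnownSimple.PSUAut.GraphType
import Cfsg.Agent.Lib.KnownSimple.PSUAut.BalanceField
import Cfsg.Agent.Lib.KnownSimple.Forms.Even
import Cfsg.Agent.Lib.KnownSimple.Forms.Count

set_option autoImplicit false
open Cfsg Matrix CfsgLib.PSUAut CfsgLib.Forms

namespace Cfsg.Agent.S2709

variable {F : Type*} [Field F] {ι κ : Type} [Fintype ι] [DecidableEq ι] [Fintype κ] [DecidableEq κ]

lemma scalar_mem_simBil (M : Matrix ι ι F) (c : Fˣ) : GeneralLinearGroup.scalar ι c ∈ simBil M := by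
  refine mem_simBil.2 ⟨c * c, ?_⟩
  simp [← Matrix.smul_eq_diagonal_mul, ← Matrix.smul_eq_mul_diagonal, smul_smul]

lemma det_congrGL (x : Matrix ι κ F) (y : Matrix κ ι F) (hxy : x * y = 1) (hyx : y * x = 1) (e : κ ≃ ι) (u : GL ι F) :
    (congrGL x y hxy hyx u : Matrix κ κ F).det = (u : Matrix ι ι F).det := by
  rw [congrGL_val, ← det_submatrix_equiv_self e.symm (y * (u : Matrix ι ι F) * x),
    ← submatrix_mul_equiv (y * (u : Matrix ι ι F)) x e.symm (Equiv.refl ι) e.symm]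
  rw [show (y * (u : Matrix ι ι F)).submatrix e.symm (Equiv.refl ι) = y.submatrix e.symm id * (u : Matrix ι ι F) from
    submatrix_mul y (u : Matrix ι ι F) e.symm id id Function.bijective_id, det_mul, det_mul]
  have h : (x.submatrix (Equiv.refl ι) e.symm).det * (y.submatrix e.symm id).det = 1 := by
    rw [← det_mul, submatrix_mul_equiv, hxy]; simp
  linear_combination (u : Matrix ι ι F).det * h

lemma det_sim_skew {n m : ℕ} {M : Matrix (Fin n) (Fin n) F} (hM : IsAltMat M) (hd : M.det ≠ 0) (hm : 0 < m)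
    (hn : Fintype.card (Fin n) = 2 * m) {X : GL (Fin n) F} {c : Fˣ}
    (hX : (X : Matrix (Fin n) (Fin n) F)ᵀ * M * (X : Matrix (Fin n) (Fin n) F) = (c : F) • M) :
    (X : Matrix (Fin n) (Fin n) F).det = (c : F) ^ m := by
  obtain ⟨x, y, hxy, hyx, hJ⟩ := congr_J hM hd hn
  have hJ' : xᵀ * M * x = (1 : F) • Matrix.J (Fin m) F := by rw [one_smul, hJ]
  let e : Fin m ⊕ Fin m ≃ Fin n := Fintype.equivOfCardEq (by simp at hn ⊢; omega)
  obtain ⟨c', hc'⟩ := mem_simBil.1 ((congrGL_mem_simBil_iff hxy hyx one_ne_zero hJ' X).2 (mem_simBil.2 ⟨c, hX⟩))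
  set v := congrGL x y hxy hyx X with hv
  have hcc : (c' : F) = c := by
    have h1 : (v : Matrix (Fin m ⊕ Fin m) (Fin m ⊕ Fin m) F)ᵀ * Matrix.J (Fin m) F * (v : Matrix (Fin m ⊕ Fin m) (Fin m ⊕ Fin m) F) =
        (c : F) • Matrix.J (Fin m) F := by
      have hx' : (v : Matrix (Fin m ⊕ Fin m) (Fin m ⊕ Fin m) F) = y * (X : Matrix (Fin n) (Fin n) F) * x := congrGL_val x y hxy hyx X
      rw [hx', ← hJ, transpose_mul, transpose_mul]
      calc xᵀ * ((X : Matrix (Fin n) (Fin n) F)ᵀ * yᵀ) * (xᵀ * M * x) * (y * (X : Matrix (Fin n) (Fin n) F) * x)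
          = xᵀ * ((X : Matrix (Fin n) (Fin n) F)ᵀ * ((x * y)ᵀ * M * (x * y)) * (X : Matrix (Fin n) (Fin n) F)) * x := by
            rw [transpose_mul]; simp only [Matrix.mul_assoc]
        _ = _ := by rw [hxy, transpose_one, Matrix.one_mul, Matrix.mul_one, hX, Matrix.mul_smul, Matrix.smul_mul]
    rw [hc'] at h1
    refine smul_left_injective F (fun h => ?_) h1
    have := congrFun (congrFun h (.inr ⟨0, hm⟩)) (.inl ⟨0, hm⟩)
    simp [Matrix.J] at this
  set D := (simD (F := F) m c⁻¹ : Matrix (Fin m ⊕ Fin m) (Fin m ⊕ Fin m) F) with hD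
  have hdD : D.det = ((c⁻¹ : Fˣ) : F) ^ m := by simp [hD, simD]
  have hw : (v : Matrix (Fin m ⊕ Fin m) (Fin m ⊕ Fin m) F) * D ∈ symplecticGroup (Fin m) F := by
    rw [SymplecticGroup.mem_iff', transpose_mul]
    calc Dᵀ * (v : Matrix (Fin m ⊕ Fin m) (Fin m ⊕ Fin m) F)ᵀ * Matrix.J (Fin m) F * ((v : Matrix (Fin m ⊕ Fin m) (Fin m ⊕ Fin m) F) * D)
        = Dᵀ * ((v : Matrix (Fin m ⊕ Fin m) (Fin m ⊕ Fin m) F)ᵀ * Matrix.J (Fin m) F * (v : Matrix (Fin m ⊕ Fin m) (Fin m ⊕ Fin m) F)) * D := by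
          simp only [Matrix.mul_assoc]
      _ = Matrix.J (Fin m) F := by rw [hc', hcc, Matrix.mul_smul, Matrix.smul_mul, hD, simD_form, smul_smul]; simp
  have h1 := SymplecticGroup.det_eq_one hw
  rw [det_mul, hdD, det_congrGL x y hxy hyx e, Units.val_inv_eq_inv_val, inv_pow] at h1
  exact (mul_inv_eq_one₀ (pow_ne_zero _ c.ne_zero)).1 h1

lemma exists_sim_skew {n m : ℕ} {M : Matrix (Fin n) (Fin n) F} (hM : IsAltMat M) (hd : M.det ≠ 0) (hm : 0 < m)
    (hn : Fintype.card (Fin n) = 2 * m) (c : Fˣ) : ∃ X : GL (Fin n) F,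
    (X : Matrix (Fin n) (Fin n) F)ᵀ * M * (X : Matrix (Fin n) (Fin n) F) = (c : F) • M ∧
      (X : Matrix (Fin n) (Fin n) F).det = (c : F) ^ m := by
  obtain ⟨x, y, hxy, hyx, hJ⟩ := congr_J hM hd hn
  let D := (simD (F := F) m c : Matrix (Fin m ⊕ Fin m) (Fin m ⊕ Fin m) F)
  have hX : ((congrGL x y hxy hyx).symm (simD m c) : Matrix (Fin n) (Fin n) F)ᵀ * M *
      ((congrGL x y hxy hyx).symm (simD m c) : Matrix (Fin n) (Fin n) F) = (c : F) • M := by
    show (x * D * y)ᵀ * M * (x * D * y) = _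
    calc (x * D * y)ᵀ * M * (x * D * y) = yᵀ * (Dᵀ * (xᵀ * M * x) * D) * y := by
          simp only [transpose_mul, Matrix.mul_assoc]
      _ = (c : F) • (yᵀ * (xᵀ * M * x) * y) := by rw [hJ, simD_form, Matrix.mul_smul, Matrix.smul_mul]
      _ = (c : F) • ((x * y)ᵀ * M * (x * y)) := by rw [transpose_mul]; simp only [Matrix.mul_assoc]
      _ = _ := by rw [hxy, transpose_one, Matrix.one_mul, Matrix.mul_one]
  exact ⟨_, hX, det_sim_skew hM hd hm hn hX⟩

lemma exists_sim_sym [Finite F] (h2 : (2 : F) ≠ 0) {n m : ℕ} {M : Matrix (Fin n) (Fin n) F} (hM : Mᵀ = M)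
    (hd : M.det ≠ 0) (hn : Fintype.card (Fin n) = 2 * m) (hpos : 0 < n) (c : Fˣ) (s : F) (hs : s * s = 1) :
    ∃ X : GL (Fin n) F, (X : Matrix (Fin n) (Fin n) F)ᵀ * M * (X : Matrix (Fin n) (Fin n) F) = (c : F) • M ∧
      (X : Matrix (Fin n) (Fin n) F).det = s * (c : F) ^ m := by
  obtain ⟨x, y, hxy, hyx, hx⟩ := congr_of_det h2 hM (show ((c : F) • M)ᵀ = (c : F) • M by rw [transpose_smul, hM])
    (Equiv.refl _) hd (pow_ne_zero m c.ne_zero) (by rw [det_smul, hn]; ring)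
  set k : GL (Fin n) F := ⟨x, y, hxy, hyx⟩
  have hsq : (k : Matrix (Fin n) (Fin n) F).det ^ 2 = (s * (c : F) ^ m) ^ 2 := by
    rw [det_sq_of_sim hd (show (k : Matrix (Fin n) (Fin n) F)ᵀ * M * (k : Matrix (Fin n) (Fin n) F) = (c : F) • M from hx),
      hn, mul_pow, sq s, hs, one_mul, ← pow_mul, mul_comm 2 m]
  rcases sq_eq_sq_iff_eq_or_eq_neg.1 hsq with h | h
  · exact ⟨k, hx, h⟩
  · obtain ⟨d, z, z', hzz, hzz', hz⟩ := exists_congr_diagonal h2 hM
    let r : Fin n → F := Function.update 1 ⟨0, hpos⟩ (-1)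
    have hr : ∀ i, r i * r i = 1 := fun i => by
      rcases eq_or_ne i ⟨0, hpos⟩ with rfl | hi <;> simp [r, *]
    have hR : (z * diagonal r * z')ᵀ * M * (z * diagonal r * z') = M := by
      have hd' : zᵀ * M * z = diagonal d := hz
      calc _ = z'ᵀ * ((diagonal r)ᵀ * (zᵀ * M * z) * diagonal r) * z' := by
            simp only [transpose_mul, Matrix.mul_assoc]
        _ = z'ᵀ * (zᵀ * M * z) * z' := by
            rw [hd', diagonal_transpose, diagonal_mul_diagonal, diagonal_mul_diagonal]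
            congr 3; funext i; linear_combination d i * hr i
        _ = (z * z')ᵀ * M * (z * z') := by simp only [transpose_mul, Matrix.mul_assoc]
        _ = _ := by simp [hzz]
    have hrd : (z * diagonal r * z').det = -1 := by
      rw [det_mul, det_mul, mul_right_comm, ← det_mul, hzz, det_one, one_mul, det_diagonal,
        Finset.prod_update_of_mem (Finset.mem_univ _)]
      simp
    refine ⟨GeneralLinearGroup.mkOfDetNeZero (z * diagonal r * z') (by rw [hrd]; simp) * k, ?_, ?_⟩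
    · show ((z * diagonal r * z') * x)ᵀ * M * ((z * diagonal r * z') * x) = _
      calc _ = xᵀ * ((z * diagonal r * z')ᵀ * M * (z * diagonal r * z')) * x := by
            simp only [transpose_mul, Matrix.mul_assoc]
        _ = _ := by rw [hR]; exact hx
    · show ((z * diagonal r * z') * x).det = _
      rw [det_mul, hrd, show x.det = (k : Matrix (Fin n) (Fin n) F).det from rfl, h]
      ring

omit [DecidableEq ι] [DecidableEq κ] [Fintype ι] [Fintype κ] in
lemma exists_div_sigma [Fintype F] {q : ℕ} (hF : Fintype.card F = q ^ 2) {ρ : F ≃+* F} (hρ : ∀ a, ρ a = a ^ q)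
    (v : CfsgLib.PSUAut.normOne F q) : ∃ a : F, a ≠ 0 ∧ a / ρ a = ((v : Fˣ) : F) := by
  have hne := CfsgLib.UnitarySpec.sigma_ne hF hρ
  have hinv := CfsgLib.UnitarySpec.sigma_sigma hF hρ
  set w := ((v : Fˣ) : F) with hw
  have hN : w * ρ w = 1 := by
    have := CfsgLib.PSUAut.mem_normOne_iff.1 v.2
    rwa [pow_succ, ← hρ, mul_comm] at this
  by_cases h : w = -1
  · obtain ⟨e, he, hee⟩ := CfsgLib.Transvec.Unitary.exists_skew hne hinv
    refine ⟨e, he, ?_⟩
    rw [show ρ e = -e by linear_combination hee, h, div_neg, div_self he]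
  · have h1 : 1 + w ≠ 0 := fun e => h (by linear_combination e)
    refine ⟨1 + w, h1, ?_⟩
    rw [div_eq_iff (by rwa [map_ne_zero_iff _ ρ.injective]), map_add, map_one]
    linear_combination -hN

end Cfsg.Agent.S2709

open CfsgLib.UnitarySpec (sigma_sigma sigma_ne)
open Cfsg.Agent.S2709
namespace Cfsg.Agent.S2709

/-- Let T = PSU_n(q) be simple (n ≥ 3, (n,q) ≠ (3,2), q = p^f), realised over the field F with q² elements, G = Inndiag(T) the image of PGU_n(q), and γ an involutory graph automorphism of T. The G-class of γ is the union of exactly c T-classes, where: if n is even and q is odd, c = gcd(n/2, q + 1) when C_G(γ) is isomorphic to PGSp_n(F₀) for a field F₀ with q elements (symplectic type) and c = gcd(n, q + 1)/2 otherwise; and c = gcd(n, q + 1) when n is odd or q is even. -/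
theorem result {F : Type*} [Field F] [Fintype F] {p f q : ℕ} [Fact p.Prime] (hq : q = p ^ f) (hf : 1 ≤ f) (hF : Fintype.card F = q ^ 2) {n : ℕ} (hn : 3 ≤ n) (hs : ¬ (n = 3 ∧ q = 2)) (F₀ : Type*) [Field F₀] [Fintype F₀] (hF₀ : Fintype.card F₀ = q) (γ : MulAut (Cfsg.PSU n F q)) (hγ : Cfsg.IsGraphAutClassPSU γ) (hγ2 : orderOf γ = 2) :
    ((Even n ∧ Odd q ∧ Nonempty (↥(Cfsg.inndiagPSU n F q ⊓ Subgroup.centralizer {γ}) ≃* Cfsg.PGSp (n / 2) F₀)) → Cfsg.splitClassCount (Cfsg.inndiagPSU n F q) (Cfsg.Inn (Cfsg.PSU n F q)) γ = Nat.gcd (n / 2) (q + 1)) ∧ ((Even n ∧ Odd q ∧ ¬ Nonempty (↥(Cfsg.inndiagPSU n F q ⊓ Subgroup.centralizer {γ}) ≃* Cfsg.PGSp (n / 2) F₀)) → Cfsg.splitClassCount (Cfsg.inndiagPSU n F q) (Cfsg.Inn (Cfsg.PSU n F q)) γ = Nat.gcd n (q + 1) / 2) ∧ (¬ (Even n ∧ Odd q) → Cfsg.splitClassCount (Cfsg.inndiagPSU n F q) (Cfsg.Inn (Cfsg.PSU n F q)) γ = Nat.gcd n (q + 1)) := by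
  obtain ⟨ρ, hρ, -, -⟩ := CfsgLib.Transvec.Unitary.exists_frob hF
  obtain ⟨ι, hι⟩ := exists_onto hF hρ F₀ hF₀
  obtain ⟨g, rfl⟩ := (isGraphAutClassPSU_iff hF hρ hn hγ2).1 hγ
  obtain ⟨B, hB, hdB, hsB⟩ := exists_formOf hF hρ hι hn g hγ2
  haveI : CharP F₀ p := charP_of_card_eq_prime_pow (f := f) (by rw [← hq, hF₀])
  have hodd2 : Odd q ↔ (2 : F₀) ≠ 0 := by
    rw [hq, Nat.odd_pow_iff (by omega)]
    constructor
    · intro hp h
      have h' : ((2 : ℕ) : F₀) = 0 := by exact_mod_cast h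
      rw [CharP.cast_eq_zero_iff F₀ p 2, Nat.dvd_prime Nat.prime_two] at h'
      rcases h' with h' | h'
      · exact (Fact.out : p.Prime).ne_one h'
      · subst h'; exact absurd hp (by decide)
    · intro h
      rcases (Fact.out : p.Prime).eq_two_or_odd' with rfl | h'
      · exact absurd CharTwo.two_eq_zero h
      · exact h'
  have hU : Nat.card (normOne F q) = q + 1 := card_normOne hF
  haveI : Nonempty (Fin n) := ⟨⟨0, by omega⟩⟩
  have hpow : ∀ k : ℕ, (powMonoidHom k : normOne F q →* normOne F q).range.index = Nat.gcd k (q + 1) := fun k => by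
    rw [IsCyclic.index_powMonoidHom_range, hU, Nat.gcd_comm]
  have hmemU : ∀ x : F, x * ρ x = 1 → ∀ hx : x ≠ 0, Units.mk0 x hx ∈ normOne F q := fun x h hx => by
    rw [mem_normOne_iff, Units.val_mk0, pow_succ, ← hρ, mul_comm, h]
  have hNu : ∀ u : normOne F q, ((u : Fˣ) : F) * ρ ((u : Fˣ) : F) = 1 := fun u => by
    have := mem_normOne_iff.1 u.2
    rwa [pow_succ, ← hρ, mul_comm] at this
  have hsc : ∀ c : F₀ˣ, ((GeneralLinearGroup.scalar (Fin n) c : GL (Fin n) F₀) : Matrix (Fin n) (Fin n) F₀) =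
      (c : F₀) • 1 := fun c => by simp [Matrix.smul_eq_diagonal_mul]
  refine ⟨fun ⟨hev, hop, hiso⟩ => ?_, fun ⟨hev, hop, hiso⟩ => ?_, fun hno => ?_⟩
  · have h2 := hodd2.1 hop
    obtain ⟨m, hm⟩ := hev
    obtain rfl : n = 2 * m := by omega
    rw [show 2 * m / 2 = m by omega] at hiso ⊢
    have hskew : Bᵀ = -B := by
      rcases hsB with h | h
      · obtain ⟨e⟩ := hiso
        obtain ⟨e'⟩ := centralizer_uAut_equiv hF hρ hι hn hB
        exact absurd ⟨e'.symm.trans e⟩ (not_projQuot_equiv_PGSp h2 (by omega) h hdB)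
      · exact h
    rw [splitClassCount_uAut hF hρ hι hn hB (powMonoidHom m : normOne F q →* normOne F q).range ?_, hpow]
    intro u
    constructor
    · rintro ⟨v, rfl⟩
      have hne := sigma_ne hF hρ
      have hinv := sigma_sigma hF hρ
      obtain ⟨a, ha, hav⟩ := exists_div_sigma hF hρ v
      have hρa : ρ a ≠ 0 := by simpa using ha
      obtain ⟨c0, hc0⟩ := hι.surj ((a * ρ a)⁻¹) (by rw [map_inv₀, map_mul, hinv, mul_comm])
      have hc00 : c0 ≠ 0 := fun h => inv_ne_zero (mul_ne_zero ha hρa) (by rw [← hc0, h, map_zero])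
      obtain ⟨X, hX⟩ := exists_sim_skew (isAltMat_of_skew h2 hskew) hdB (by omega) (Fintype.card_fin _) (Units.mk0 c0 hc00)
      refine ⟨X, Units.mk0 c0 hc00, a, hX.1, by rw [Units.val_mk0, hc0, mul_inv_cancel₀ (mul_ne_zero ha hρa)], ?_⟩
      rw [hX.2, Units.val_mk0, map_pow, hc0, pow_mul, ← mul_pow]
      show ((v : Fˣ) : F) ^ m = _
      rw [← hav]
      congr 1
      field_simp
    · rintro ⟨X, c, a, hX, hac, hu⟩
      have hc := det_sim_skew (isAltMat_of_skew h2 hskew) hdB (by omega) (Fintype.card_fin _) hX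
      have ha : a ≠ 0 := fun h => by rw [h, zero_mul, zero_mul] at hac; exact zero_ne_one hac
      have hval : a ^ 2 * ι c * ρ (a ^ 2 * ι c) = 1 := by
        rw [map_mul, hι.fix, map_pow]; linear_combination (a * ρ a * ι c + 1) * hac
      refine ⟨⟨_, hmemU _ hval (left_ne_zero_of_mul_eq_one hval)⟩, Subtype.ext (Units.ext ?_)⟩
      show (a ^ 2 * ι c) ^ m = _
      rw [hu, hc, map_pow, mul_pow, ← pow_mul]
  · have h2 := hodd2.1 hop
    obtain ⟨m, hm⟩ := hev
    obtain rfl : n = 2 * m := by omega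
    rw [show 2 * m / 2 = m by omega] at hiso
    have hsym : Bᵀ = B := by
      rcases hsB with h | h
      · exact h
      · exfalso
        obtain ⟨e'⟩ := centralizer_uAut_equiv hF hρ hι hn hB
        obtain ⟨e⟩ := (congr_J (isAltMat_of_skew h2 h) hdB (m := m) (Fintype.card_fin _)).formEquiv.projQuot_equiv
        exact hiso ⟨e'.trans e⟩
    rw [splitClassCount_uAut hF hρ hι hn hB
      ((powMonoidHom (2 * m) : normOne F q →* normOne F q).range.comap (powMonoidHom 2)) ?_]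
    · have h3 := Subgroup.relIndex_mul_index (show (powMonoidHom (2 * m) : normOne F q →* normOne F q).range ≤
        (powMonoidHom 2 : normOne F q →* normOne F q).range by
        rintro _ ⟨c, rfl⟩; exact ⟨c ^ m, by simp [← pow_mul, mul_comm m]⟩)
      rw [hpow, hpow] at h3
      have h4 : Nat.gcd 2 (q + 1) = 2 := by
        apply Nat.gcd_eq_left
        obtain ⟨k, hk⟩ := hop
        exact ⟨k + 1, by omega⟩
      rw [h4] at h3
      rw [Subgroup.index_comap]
      omega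
    intro u
    constructor
    · rintro ⟨v, hv⟩
      have hv' : ((v : Fˣ) : F) ^ (2 * m) = ((u : Fˣ) : F) ^ 2 := congrArg (fun w : normOne F q => ((w : Fˣ) : F)) hv
      obtain ⟨a, ha, hav⟩ := exists_div_sigma hF hρ v
      have hρa : ρ a ≠ 0 := by simpa using ha
      have hinv := sigma_sigma hF hρ
      obtain ⟨c0, hc0⟩ := hι.surj ((a * ρ a)⁻¹) (by rw [map_inv₀, map_mul, hinv, mul_comm])
      have hc00 : c0 ≠ 0 := fun h => inv_ne_zero (mul_ne_zero ha hρa) (by rw [← hc0, h, map_zero])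
      have hvm : (a * a * ι c0) ^ m = ((v : Fˣ) : F) ^ m := by
        rw [← hav, hc0]; congr 1; field_simp
      rcases sq_eq_sq_iff_eq_or_eq_neg.1 ((pow_mul' ((v : Fˣ) : F) 2 m).symm.trans hv').symm with h | h
      · obtain ⟨X, hX, hXd⟩ := exists_sim_sym h2 hsym hdB (Fintype.card_fin _) (by omega) (Units.mk0 c0 hc00) 1 (one_mul 1)
        refine ⟨X, Units.mk0 c0 hc00, a, hX, by rw [Units.val_mk0, hc0, mul_inv_cancel₀ (mul_ne_zero ha hρa)], ?_⟩
        rw [hXd, one_mul, Units.val_mk0, map_pow, h, ← hvm]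
        ring
      · obtain ⟨X, hX, hXd⟩ := exists_sim_sym h2 hsym hdB (Fintype.card_fin _) (by omega) (Units.mk0 c0 hc00) (-1) (neg_mul_neg 1 1 |>.trans (one_mul 1))
        refine ⟨X, Units.mk0 c0 hc00, a, hX, by rw [Units.val_mk0, hc0, mul_inv_cancel₀ (mul_ne_zero ha hρa)], ?_⟩
        rw [hXd, Units.val_mk0, map_mul, map_neg, map_one, map_pow, h, ← hvm]
        ring
    · rintro ⟨X, c, a, hX, hac, hu⟩
      have hd : ι ((X : Matrix (Fin (2 * m)) (Fin (2 * m)) F₀).det) ^ 2 = ι c ^ (2 * m) := by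
        rw [← map_pow, ← map_pow, det_sq_of_sim hdB hX, Fintype.card_fin]
      have hval : a ^ 2 * ι c * ρ (a ^ 2 * ι c) = 1 := by
        rw [map_mul, hι.fix, map_pow]; linear_combination (a * ρ a * ι c + 1) * hac
      refine ⟨⟨_, hmemU _ hval (left_ne_zero_of_mul_eq_one hval)⟩, Subtype.ext (Units.ext ?_)⟩
      show (a ^ 2 * ι c) ^ (2 * m) = ((u : Fˣ) : F) ^ 2
      rw [hu, mul_pow, mul_pow, hd, ← pow_mul, ← pow_mul, mul_comm (2 * m) 2]
  · rw [splitClassCount_uAut hF hρ hι hn hB (powMonoidHom n : normOne F q →* normOne F q).range ?_, hpow]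
    intro u
    constructor
    · rintro ⟨v, rfl⟩
      refine ⟨1, 1, ((v : Fˣ) : F), by simp, by simp [hNu v], ?_⟩
      show ((v : Fˣ) : F) ^ n = _
      simp
    · rintro ⟨X, c, a, hX, hac, hu⟩
      have hd : (X : Matrix (Fin n) (Fin n) F₀).det ^ 2 = (c : F₀) ^ n := by
        rw [det_sq_of_sim hdB hX, Fintype.card_fin]
      obtain ⟨t, ht, htn⟩ : ∃ t : F₀, t ^ 2 = c ∧ t ^ n = (X : Matrix (Fin n) (Fin n) F₀).det := by
        by_cases h2 : (2 : F₀) = 0
        · haveI : CharP F₀ 2 := CharTwo.of_one_ne_zero_of_two_eq_zero one_ne_zero h2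
          obtain ⟨r, hr⟩ := exists_sqrt (c : F₀)
          refine ⟨r, hr, CharTwo.sq_inj.1 ?_⟩
          rw [hd, ← hr]; ring
        · have hodd : ¬ Even n := fun he => hno ⟨he, hodd2.2 h2⟩
          obtain ⟨j, rfl⟩ := Nat.not_even_iff_odd.1 hodd
          refine ⟨(X : Matrix (Fin (2 * j + 1)) (Fin (2 * j + 1)) F₀).det * ((c : F₀) ^ j)⁻¹, ?_, ?_⟩
          · rw [mul_pow, hd, inv_pow, ← pow_mul]
            field_simp
            ring
          · rw [mul_pow, inv_pow, ← pow_mul, pow_succ, pow_mul, hd, ← pow_mul, mul_comm (2 * j + 1) j]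
            field_simp
      have hval : a * ι t * ρ (a * ι t) = 1 := by
        rw [map_mul, hι.fix]
        rw [show ι (c : F₀) = ι t * ι t by rw [← map_mul, ← ht, sq]] at hac
        linear_combination hac
      refine ⟨⟨_, hmemU _ hval (left_ne_zero_of_mul_eq_one hval)⟩, Subtype.ext (Units.ext ?_)⟩
      show (a * ι t) ^ n = _
      rw [hu, mul_pow, ← map_pow, htn]

end Cfsg.Agent.S2709
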