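import Cfsg.Statements.S2710
import Cfsg.Agent.Lib.KnownSimple.PSUAut.GraphType
import Cfsg.Agent.Lib.KnownSimple.Forms.Even
import Cfsg.Agent.Lib.Classical.SpFrames

set_option autoImplicit false
open Cfsg Matrix CfsgLib.PSUAut CfsgLib.Forms

namespace Cfsg.Agent.S2710

/-- Let T = PSU_n(q) with n ≥ 4 divisible by 4 (n = 2m) and q odd, realised over the field F with q² elements, G = Inndiag(T) the image of PGU_n(q), and φ the standard field automorphism of T attached to the q-th power map of F (it induces inverse-transpose on the unitary matrices and is a graph automorphism). Its centralizer in G is isomorphic to the projective conformal orthogonal group of the plus-type form Σ xᵢ yᵢ in dimension n over a field F₀ with q elements. (Dimensions n ≡ 2 (mod 4) are not covered.) -/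
theorem result {F : Type*} [Field F] [Fintype F] {q : ℕ} (hodd : Odd q) (hF : Fintype.card F = q ^ 2) {n m : ℕ} (hm : 2 ≤ m) (hnm : n = 2 * m) (h4 : 4 ∣ n) (F₀ : Type*) [Field F₀] [Fintype F₀] (hF₀ : Fintype.card F₀ = q) (σ : F ≃+* F) (hσ : ∀ a : F, σ a = a ^ q) (φ : MulAut (Cfsg.PSU n F q)) (hφ : Cfsg.IsFieldAutPSUOf σ φ) :
    Nonempty (↥(Cfsg.inndiagPSU n F q ⊓ Subgroup.centralizer {φ}) ≃* Cfsg.PGO F₀ (Cfsg.quadFormPlus m F₀)) := by
  subst hnm
  have hn : 3 ≤ 2 * m := by omega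
  obtain ⟨ι, hι⟩ := exists_onto hF hσ F₀ hF₀
  obtain rfl : φ = uAut σ 1 := by
    rw [uAut, map_one, one_mul]
    exact eq_of_psuMk_eq fun s => hφ s (fieldSU σ s) rfl
  have hB : FormOf σ ι (1 : Cfsg.GU (2 * m) F q) (1 : Matrix (Fin (2 * m)) (Fin (2 * m)) F₀) :=
    ⟨1, ⟨1, one_ne_zero, by simp⟩, 1, one_ne_zero, by simp [herm]⟩
  have h2 : (2 : F₀) ≠ 0 := CfsgLib.Classical.two_ne_zero_of_odd_card (by rwa [hF₀])
  let e₁ : Fin m ⊕ Fin m ≃ Fin (2 * m) := Fintype.equivFinOfCardEq (by simp; omega)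
  obtain ⟨f⟩ := centralizer_uAut_equiv hF hσ hι hn hB
  obtain ⟨g⟩ := ((formEquiv_Mplus_iff h2 (Matrix.transpose_one) (by simp) e₁).2 (by
    have hm2 : Even m := by obtain ⟨k, hk⟩ := h4; exact ⟨k, by omega⟩
    rw [hm2.neg_one_pow, Matrix.det_one, mul_one]; exact IsSquare.one)).projQuot_equiv
  unfold Cfsg.PGO
  rw [quadSim_eq_simBil h2 (Mplus_symm _) (quadFormPlus_eq h2 _)]
  exact ⟨f.trans g⟩

end Cfsg.Agent.S2710
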