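import Cfsg.Statements.S2711
import Cfsg.Agent.Lib.KnownSimple.PSUAut.FieldClass

set_option autoImplicit false
open Cfsg CfsgLib.PSUAut

namespace Cfsg.Agent.S2711

/-- Let T = PSU_n(q) be simple (n ≥ 3, (n,q) ≠ (3,2)), realised over the field F with q² elements, and let x be a field automorphism of T (conjugate to a standard field automorphism of odd order) of prime order r. Then an element y of the coset Inndiag(T)·x (y = δ x with δ in the image of PGU_n(q)) has order r if and only if y is conjugate to x by an element of Inndiag(T). (T has no graph-field automorphisms.) -/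
theorem result {F : Type*} [Field F] [Fintype F] {p f q : ℕ} [Fact p.Prime] (hq : q = p ^ f) (hf : 1 ≤ f) (hF : Fintype.card F = q ^ 2) {n : ℕ} (hn : 3 ≤ n) (hs : ¬ (n = 3 ∧ q = 2)) (x δ : MulAut (Cfsg.PSU n F q)) (hx : Cfsg.IsFieldAutClassPSU x) {r : ℕ} (hr : r.Prime) (hxr : orderOf x = r) (hδ : δ ∈ Cfsg.inndiagPSU n F q) :
    orderOf (δ * x) = r ↔ Cfsg.IsConjUnder (Cfsg.inndiagPSU n F q) x (δ * x) := by
  classical
  have hp := (Fact.out : p.Prime)
  obtain ⟨ρ, hρ, -, -⟩ := CfsgLib.Transvec.Unitary.exists_frob hF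
  have hF2 : Fintype.card F = p ^ (2 * f) := by rw [hF, hq, ← pow_mul, mul_comm]
  obtain ⟨σ, g, hσ, hro, rfl⟩ := exists_standard_fieldPSU hF hρ hn hs hx hxr
  obtain ⟨hdvd, hcard⟩ := CfsgLib.PSLAut.card_fixedField_eq hp hF2 hr.ne_zero hσ
  have hrf : r ∣ f := (Nat.Coprime.dvd_of_dvd_mul_left (by
    rw [Nat.coprime_two_right]; exact hro) hdvd)
  rw [Nat.mul_div_assoc 2 hrf] at hcard
  have h0 : Nat.card (CfsgLib.PSLAut.fixedField σ) = (p ^ (f / r)) ^ 2 := by rw [hcard, ← pow_mul, mul_comm]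
  have hq₀ : q = (p ^ (f / r)) ^ r := by rw [← pow_mul, Nat.div_mul_cancel hrf, hq]
  have hG : Cfsg.inndiagPSU n F q = (conjPSU : Cfsg.GU n F q →* MulAut (Cfsg.PSU n F q)).range :=
    Subgroup.ext fun β => mem_inndiagPSU_iff
  obtain ⟨ψ, -, hk, -⟩ := exists_aut_hom hF hρ hn hs
  haveI : ((conjPSU : Cfsg.GU n F q →* MulAut (Cfsg.PSU n F q)).range).Normal := hk ▸ inferInstance
  rw [hG] at hδ ⊢
  obtain ⟨d, rfl⟩ := hδ
  constructor
  · intro e
    have h1 : conjPSU d * (conjPSU g * fieldPSU σ * (conjPSU g)⁻¹) =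
        (conjPSU g * (conjPSU (g⁻¹ * d * g) * fieldPSU σ) * (conjPSU g)⁻¹ : MulAut (Cfsg.PSU n F q)) := by
      rw [map_mul, map_mul, map_inv]; group
    rw [h1] at e ⊢
    rw [show ∀ y : MulAut (Cfsg.PSU n F q), conjPSU g * y * (conjPSU g)⁻¹ = MulAut.conj (conjPSU g) y from fun _ => rfl,
      MulEquiv.orderOf_eq] at e
    exact (CfsgLib.PSLAut.isConjUnder_conj_iff _ _ _ _).2 (conj_of_orderOf_fieldPSU hF hρ hσ hro h0 hq₀ hn _ e)
  · rintro ⟨k, -, e⟩
    rw [e, show ∀ y : MulAut (Cfsg.PSU n F q), k * y * k⁻¹ = MulAut.conj k y from fun _ => rfl, MulEquiv.orderOf_eq, hxr]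

end Cfsg.Agent.S2711
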