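import Cfsg.Statements.S2712
import Cfsg.Agent.Lib.KnownSimple.PSpAut.FieldClass

set_option autoImplicit false
open Cfsg CfsgLib.PSpAut

namespace Cfsg.Agent.S2712

/-- Let T = PSp_{2m}(F) be simple over the field F with p^f elements (m ≥ 2, (2m, |F|) ≠ (4, 2)), G = Inndiag(T) the image of the projective conformal symplectic group PGSp_{2m}(F), and x a field automorphism of T of prime order r. Then r divides f; C_G(x) is isomorphic to PGSp_{2m}(F₀) for a field F₀ with p^(f/r) elements; and the G-class of x is the union of exactly gcd(gcd(2, p^f − 1), r) T-classes. -/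
theorem result {F : Type*} [Field F] [Fintype F] {p f : ℕ} [Fact p.Prime] (hF : Fintype.card F = p ^ f) (hf : 1 ≤ f) {m : ℕ} (hm : 2 ≤ m) (hs : m = 2 → 3 ≤ Fintype.card F) (x : MulAut (Cfsg.PSp m F)) (hx : Cfsg.IsFieldAutClassPSp x) {r : ℕ} (hr : r.Prime) (hxr : orderOf x = r) (F₀ : Type*) [Field F₀] [Fintype F₀] (hF₀ : Fintype.card F₀ = p ^ (f / r)) :
    r ∣ f ∧ Nonempty (↥(Cfsg.inndiagPSp m F ⊓ Subgroup.centralizer {x}) ≃* Cfsg.PGSp m F₀) ∧ Cfsg.splitClassCount (Cfsg.inndiagPSp m F) (Cfsg.Inn (Cfsg.PSp m F)) x = Nat.gcd (Nat.gcd 2 (p ^ f - 1)) r := by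
  classical
  have hp := (Fact.out : p.Prime)
  haveI : CharP F p := charP_of_card_eq_prime_pow hF
  obtain ⟨σ, g, hσ, rfl⟩ := exists_standard_fieldPSp hm hx hr hxr
  obtain ⟨hdvd, hcard⟩ := CfsgLib.PSLAut.card_fixedField_eq hp hF hr.ne_zero hσ
  have hG : Cfsg.inndiagPSp m F = (conjPSp : Cfsg.GSp m F →* MulAut (Cfsg.PSp m F)).range :=
    Subgroup.ext fun β => mem_inndiagPSp_iff
  haveI := normal_range_conjPSp (F := F) (m := m) hm (p := p)
  rw [hG]
  letI : Fintype (CfsgLib.PSLAut.fixedField σ) := Fintype.ofFinite _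
  have hcc : Fintype.card (CfsgLib.PSLAut.fixedField σ) = Fintype.card F₀ := by
    rw [← Nat.card_eq_fintype_card, hcard, hF₀]
  obtain ⟨e⟩ : Nonempty (CfsgLib.PSLAut.fixedField σ ≃+* F₀) := ⟨FiniteField.ringEquivOfCardEq hcc⟩
  refine ⟨hdvd, CfsgLib.PSLAut.nonempty_centralizerEquiv _ (conjPSp g)⁻¹ _ ?_, ?_⟩
  · rw [show (conjPSp g)⁻¹ * (conjPSp g * fieldPSp σ * (conjPSp g)⁻¹) * (conjPSp g)⁻¹⁻¹ = fieldPSp σ by group]
    exact centralizer_fieldPSp_equiv hσ hm F₀ e
  · rw [CfsgLib.PSLAut.splitClassCount_conj, splitClassCount_fieldPSp hσ hm, hcard, hF]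
    have hf0 : f / r ≠ 0 := (Nat.div_pos (Nat.le_of_dvd (by omega) hdvd) hr.pos).ne'
    have hq₀ : p ^ f = (p ^ (f / r)) ^ r := by rw [← pow_mul, Nat.div_mul_cancel hdvd]
    rw [hq₀]
    generalize hQ : p ^ (f / r) = Q
    have hQ2 : 2 ≤ Q := hQ ▸ Nat.one_lt_pow hf0 hp.one_lt
    rw [← Nat.geomSum_eq hQ2 r]
    have hsum : ∀ k, (∑ i ∈ Finset.range k, Q ^ i) % 2 = if Q % 2 = 0 then min k 1 else k % 2 := by
      intro k
      induction k with
      | zero => simp
      | succ k ih =>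
        rw [Finset.sum_range_succ, Nat.add_mod, ih, Nat.pow_mod]
        rcases Nat.mod_two_eq_zero_or_one Q with h | h <;> rw [h]
        · rcases Nat.eq_zero_or_pos k with rfl | hk
          · simp
          · rw [zero_pow hk.ne', if_pos rfl, if_pos rfl, min_eq_right hk, min_eq_right (by omega)]; norm_num
        · simp [Nat.add_mod]
    have hg : ∀ a, Nat.gcd a 2 = if a % 2 = 0 then 2 else 1 := fun a => by
      rcases Nat.mod_two_eq_zero_or_one a with h | h
      · rw [if_pos h, Nat.gcd_eq_right (Nat.dvd_of_mod_eq_zero h)]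
      · rw [if_neg (by omega), Nat.gcd_comm, Nat.gcd_rec, h, Nat.gcd_one_left]
    have h1 : 1 ≤ Q ^ r := Nat.one_le_pow _ _ (by omega)
    have hpm : Q ^ r % 2 = Q % 2 := by
      rw [Nat.pow_mod]
      rcases Nat.mod_two_eq_zero_or_one Q with h | h <;> rw [h]
      · rw [zero_pow hr.ne_zero]; rfl
      · simp
    rw [hg, hsum, Nat.gcd_comm 2 (Q ^ r - 1), hg]
    have hr1 := hr.one_lt
    rcases Nat.mod_two_eq_zero_or_one Q with h | h
    · rw [if_pos h, min_eq_right (by omega : 1 ≤ r), if_neg (by omega), if_neg (by omega), Nat.gcd_one_left]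
    · rw [if_neg (by omega : ¬ Q % 2 = 0), if_pos (by omega : (Q ^ r - 1) % 2 = 0), Nat.gcd_comm 2 r, hg]

end Cfsg.Agent.S2712
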