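import Cfsg.Statements.S2713
import Cfsg.Agent.Lib.KnownSimple.PSpAut.FieldClass

set_option autoImplicit false
open Cfsg CfsgLib.PSpAut

namespace Cfsg.Agent.S2713

/-- Let T = PSp_{2m}(F) be simple over a finite field (m ≥ 2, (2m, |F|) ≠ (4, 2)) and let x be a field automorphism of T of prime order r. Then an element y of the coset Inndiag(T)·x (y = δ x with δ in the image of the projective conformal symplectic group) has order r if and only if y is conjugate to x by an element of Inndiag(T). -/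
theorem result {F : Type*} [Field F] [Fintype F] {m : ℕ} (hm : 2 ≤ m) (hs : m = 2 → 3 ≤ Fintype.card F) (x δ : MulAut (Cfsg.PSp m F)) (hx : Cfsg.IsFieldAutClassPSp x) {r : ℕ} (hr : r.Prime) (hxr : orderOf x = r) (hδ : δ ∈ Cfsg.inndiagPSp m F) :
    orderOf (δ * x) = r ↔ Cfsg.IsConjUnder (Cfsg.inndiagPSp m F) x (δ * x) := by
  classical
  obtain ⟨p, hchar⟩ := CharP.exists F
  haveI : Fact p.Prime := ⟨CharP.char_is_prime F p⟩
  obtain ⟨σ, g, hσ, rfl⟩ := exists_standard_fieldPSp hm hx hr hxr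
  have hG : Cfsg.inndiagPSp m F = (conjPSp : Cfsg.GSp m F →* MulAut (Cfsg.PSp m F)).range :=
    Subgroup.ext fun β => mem_inndiagPSp_iff
  haveI := normal_range_conjPSp (F := F) (m := m) hm (p := p)
  rw [hG] at hδ ⊢
  obtain ⟨d, rfl⟩ := hδ
  constructor
  · intro e
    have h1 : conjPSp d * (conjPSp g * fieldPSp σ * (conjPSp g)⁻¹) =
        (conjPSp g * (conjPSp (g⁻¹ * d * g) * fieldPSp σ) * (conjPSp g)⁻¹ : MulAut (Cfsg.PSp m F)) := by
      rw [map_mul, map_mul, map_inv]; group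
    rw [h1] at e ⊢
    rw [show ∀ y : MulAut (Cfsg.PSp m F), conjPSp g * y * (conjPSp g)⁻¹ = MulAut.conj (conjPSp g) y from fun _ => rfl,
      MulEquiv.orderOf_eq] at e
    exact (CfsgLib.PSLAut.isConjUnder_conj_iff _ _ _ _).2 (conj_of_orderOf_fieldPSp hσ hm _ e)
  · rintro ⟨k, -, e⟩
    rw [e, show ∀ y : MulAut (Cfsg.PSp m F), k * y * k⁻¹ = MulAut.conj k y from fun _ => rfl, MulEquiv.orderOf_eq, hxr]

end Cfsg.Agent.S2713
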