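import Cfsg.Statements.S2714
import Cfsg.Agent.Lib.KnownSimple.POAut.FieldOdd

set_option autoImplicit false
open Cfsg CfsgLib.Classical CfsgLib.POAut

namespace Cfsg.Agent.S2714

/-- Let T = Ω_{2m+1}(F) (m ≥ 3, |F| = p^f odd; realised as PΩ of the form x₀² + Σ xᵢ yᵢ), G = Inndiag(T) the image of the conformal orthogonal group in Aut(T), and x a field automorphism of T of prime order r. Then r divides f; C_G(x) is isomorphic to Inndiag(Ω_{2m+1}(F₀)) for a field F₀ with p^(f/r) elements; and the G-class of x is a single T-class when r is odd and the union of exactly two T-classes when r = 2. -/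
theorem result {F : Type*} [Field F] [Fintype F] {p f : ℕ} [Fact p.Prime] (hF : Fintype.card F = p ^ f) (hf : 1 ≤ f) (hodd : Odd (Fintype.card F)) {m : ℕ} (hm : 3 ≤ m) (x : MulAut (Cfsg.POmega F (Cfsg.quadFormOdd m F))) (hx : Cfsg.IsFieldAutClassPOmega (Cfsg.quadFormOdd m F) x) {r : ℕ} (hr : r.Prime) (hxr : orderOf x = r) (F₀ : Type*) [Field F₀] [Fintype F₀] (hF₀ : Fintype.card F₀ = p ^ (f / r)) :
    r ∣ f ∧ Nonempty (↥(Cfsg.inndiagPOmegaOdd m F ⊓ Subgroup.centralizer {x}) ≃* ↥(Cfsg.inndiagPOmegaOdd m F₀)) ∧ (Odd r → Cfsg.splitClassCount (Cfsg.inndiagPOmegaOdd m F) (Cfsg.Inn (Cfsg.POmega F (Cfsg.quadFormOdd m F))) x = 1) ∧ (r = 2 → Cfsg.splitClassCount (Cfsg.inndiagPOmegaOdd m F) (Cfsg.Inn (Cfsg.POmega F (Cfsg.quadFormOdd m F))) x = 2) := by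
  have hQ := good_qOdd (F := F) hodd hm
  obtain ⟨σ, A, hne, hxe⟩ := fieldAutClassE (coe_qOdd m F) hQ rat_qOdd hx
  have hT : sigHom hQ (A * semOf (one_pair (rat_qOdd (m := m) σ)) * A⁻¹) = σ := by
    rw [sigHom_conj, sigHom_semOf]
  obtain ⟨hσ, hpow⟩ := prime_order_dataE (coe_qOdd m F) hQ hxe hT hne hr hxr
  obtain ⟨k, hk⟩ := exists_fixed_embedding hF hσ F₀ hF₀
  have hodd₀ : Odd (Fintype.card F₀) := by
    rw [hF₀]
    rw [hF, Nat.odd_pow_iff (by omega)] at hodd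
    exact hodd.pow
  have hQ₀ := good_qOdd (F := F₀) hodd₀ hm
  obtain ⟨⟨e⟩, hone, htwo⟩ := fieldOdd_data hodd hm hQ hr hσ hT hpow hk hQ₀
  refine ⟨(exists_card_fixedField hF hσ).1, ?_, fun h => ?_, fun h => ?_⟩
  · obtain ⟨e₁⟩ := centralizer_comap_equiv (autE (coe_qOdd m F) hQ) ((oddDiag hQ).G.map (act _)) x
    obtain ⟨e₂⟩ := comap_equiv (autE (coe_qOdd m F₀) hQ₀) ((oddDiag hQ₀).G.map (act _))
    rw [inndiagOdd_eqE hQ, inndiagOdd_eqE hQ₀]
    rw [← hxe] at e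
    exact ⟨e₁.trans (e.trans e₂.symm)⟩
  · rw [inndiagOdd_eqE hQ, inn_comapE (coe_qOdd m F) hQ, splitClassCount_comap, hxe, hone h]
  · rw [inndiagOdd_eqE hQ, inn_comapE (coe_qOdd m F) hQ, splitClassCount_comap, hxe, htwo h]

end Cfsg.Agent.S2714
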