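import Cfsg.Statements.S2715
import Cfsg.Agent.Lib.KnownSimple.POAut.FieldPlus

set_option autoImplicit false
set_option maxHeartbeats 800000
open Cfsg CfsgLib.Classical CfsgLib.Classical22 CfsgLib.POAut

namespace Cfsg.Agent.S2715

/-- Let T = PΩ⁺_{2m}(F) (m ≥ 4, |F| = p^f; the form Σ xᵢ yᵢ), G = Inndiag(T) the image of the class-preserving similarities in Aut(T), and x a field automorphism of T of prime order r. Then r divides f; C_G(x) is isomorphic to Inndiag(PΩ⁺_{2m}(F₀)) for a field F₀ with p^(f/r) elements; and the G-class of x is the union of exactly c T-classes, where c = 1 if r is odd or p = 2, and otherwise (r = 2, p odd) c = 2 when m is odd and p^(f/2) ≡ 1 (mod 4), and c = 4 in the remaining cases. -/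
theorem result {F : Type*} [Field F] [Fintype F] {p f : ℕ} [Fact p.Prime] (hF : Fintype.card F = p ^ f) (hf : 1 ≤ f) {m : ℕ} (hm : 4 ≤ m) (x : MulAut (Cfsg.POmega F (Cfsg.quadFormPlus m F))) (hx : Cfsg.IsFieldAutClassPOmega (Cfsg.quadFormPlus m F) x) {r : ℕ} (hr : r.Prime) (hxr : orderOf x = r) (F₀ : Type*) [Field F₀] [Fintype F₀] (hF₀ : Fintype.card F₀ = p ^ (f / r)) :
    r ∣ f ∧ Nonempty (↥(Cfsg.inndiagPOmegaPlus m F ⊓ Subgroup.centralizer {x}) ≃* ↥(Cfsg.inndiagPOmegaPlus m F₀)) ∧ ((Odd r ∨ p = 2) → Cfsg.splitClassCount (Cfsg.inndiagPOmegaPlus m F) (Cfsg.Inn (Cfsg.POmega F (Cfsg.quadFormPlus m F))) x = 1) ∧ ((r = 2 ∧ p ≠ 2 ∧ Odd m ∧ p ^ (f / 2) % 4 = 1) → Cfsg.splitClassCount (Cfsg.inndiagPOmegaPlus m F) (Cfsg.Inn (Cfsg.POmega F (Cfsg.quadFormPlus m F))) x = 2) ∧ ((r = 2 ∧ p ≠ 2 ∧ ¬ (Odd m ∧ p ^ (f / 2) % 4 = 1)) → Cfsg.splitClassCount (Cfsg.inndiagPOmegaPlus m F) (Cfsg.Inn (Cfsg.POmega F (Cfsg.quadFormPlus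 m F))) x = 4) := by
  have hQ := pre_qPlus (F := F) hm
  haveI : Nonempty (Fin m ⊕ Fin m) := ⟨Sum.inl ⟨0, by omega⟩⟩
  obtain ⟨α, φ, τ, hne, hφ, e⟩ := hx
  have hrat : ∀ v, qPlus m F (τ ∘ v) = τ (qPlus m F v) := rat_qPlus τ
  have hφe : autE (coe_qPlus m) hQ φ = act _ (semOf (one_pair hrat)) := by
    have key : ∀ fq (h : ⇑(qPlus m F) = fq) (φ : MulAut (Cfsg.POmega F fq)),
        Cfsg.IsFieldAutPOmegaOf fq τ φ → autE h hQ φ = act _ (semOf (one_pair hrat)) := by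
      rintro _ rfl φ hφ
      exact (fieldAut_iff hQ hrat φ).1 hφ
    exact key _ _ φ hφ
  have hφr : orderOf φ = r := by
    rw [← e, show α * x * α⁻¹ = MulAut.conj α x from rfl, MulEquiv.orderOf_eq, hxr]
  obtain ⟨hσ, -⟩ := prime_order_dataE (coe_qPlus m) hQ hφe (sigHom_semOf hQ _) hne hr hφr
  obtain ⟨k, hk⟩ := exists_fixed_embedding hF hσ F₀ hF₀
  have hQ₀ := pre_qPlus (F := F₀) hm
  set a := MulAut.conj (autE (coe_qPlus m) hQ α)
  set G := (plusG hQ).map (act (qPlus m F))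
  haveI : G.Normal := plus_map_normal hm hQ
  haveI : (Cfsg.Inn (TQ (qPlus m F))).Normal := ⟨fun g hg y => by
    obtain ⟨z, rfl⟩ := hg
    exact ⟨y z, MulEquiv.ext fun w => by simp [MulAut.conj_apply]⟩⟩
  have key : ∀ H : Subgroup (MulAut (TQ (qPlus m F))), H.Normal → H.comap a.toMonoidHom = H := fun H hH => by
    ext g
    change autE (coe_qPlus m) hQ α * g * (autE (coe_qPlus m) hQ α)⁻¹ ∈ H ↔ g ∈ H
    exact ⟨fun h => by simpa [mul_assoc] using hH.conj_mem _ h (autE (coe_qPlus m) hQ α)⁻¹, fun h => hH.conj_mem _ h _⟩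
  have hG : G.comap a.toMonoidHom = G := key _ inferInstance
  have hI : (Cfsg.Inn (TQ (qPlus m F))).comap a.toMonoidHom = Cfsg.Inn (TQ (qPlus m F)) :=
    key _ inferInstance
  have hax : a (autE (coe_qPlus m) hQ x) = act _ (semOf (one_pair hrat)) := by
    rw [← hφe, ← e, MulAut.conj_apply, map_mul, map_mul, map_inv]
  have hsplit : ∀ c, Cfsg.splitClassCount G (Cfsg.Inn (TQ (qPlus m F))) (act _ (semOf (one_pair hrat))) = c →
      Cfsg.splitClassCount (Cfsg.inndiagPOmegaPlus m F) (Cfsg.Inn (Cfsg.POmega F (Cfsg.quadFormPlus m F))) x = c := by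
    intro c h
    rw [inndiagPlus_eqE hQ, inn_comapE (coe_qPlus m) hQ, splitClassCount_comap, ← h,
      show (plusDiag hQ).G.map (act _) = G from rfl]
    conv_lhs => rw [← hG, ← hI]
    rw [splitClassCount_comap, hax]
  have hp2 : p = 2 ↔ ringChar F = 2 := by
    haveI : CharP F p := by
      obtain ⟨q, hq⟩ := CharP.exists F
      obtain ⟨n, hqp, hn⟩ := FiniteField.card F q
      rw [hF] at hn
      obtain rfl : p = q := (Nat.prime_dvd_prime_iff_eq (Fact.out : p.Prime) hqp).1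
        ((Fact.out : p.Prime).dvd_of_dvd_pow (hn ▸ dvd_pow_self p (by omega)))
      exact hq
    rw [ringChar.eq F p]
  refine ⟨(exists_card_fixedField hF hσ).1, ?_, fun h => hsplit _ ?_, fun h => hsplit _ ?_, fun h => hsplit _ ?_⟩
  · obtain ⟨e₁⟩ := centralizer_comap_equiv (autE (coe_qPlus m) hQ) G x
    obtain ⟨e₂⟩ := centralizer_comap_equiv a G (autE (coe_qPlus m) hQ x)
    obtain ⟨e₃⟩ := comap_equiv (autE (coe_qPlus m) hQ₀) ((plusDiag hQ₀).G.map (act _))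
    obtain ⟨e₄⟩ := fieldPlus_centralizer hQ₀ hQ hσ hk
    rw [inndiagPlus_eqE hQ, inndiagPlus_eqE hQ₀]
    rw [hG, hax] at e₂
    exact ⟨e₁.trans (e₂.trans (e₄.trans e₃.symm))⟩
  · exact fieldPlus_count_one hQ₀ hQ hσ hk (h.imp_right hp2.1)
  · rw [fieldPlus_count_odd hQ₀ hQ hk (h.1 ▸ hσ) (by omega) (fun h2 => h.2.1 (hp2.2 h2)),
      if_pos ⟨h.2.2.1, by rw [hF₀, h.1]; exact h.2.2.2⟩]
  · rw [fieldPlus_count_odd hQ₀ hQ hk (h.1 ▸ hσ) (by omega) (fun h2 => h.2.1 (hp2.2 h2)),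
      if_neg (by rw [hF₀, h.1]; exact h.2.2)]

end Cfsg.Agent.S2715
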