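import Cfsg.Statements.S2716
import Cfsg.Agent.Lib.KnownSimple.POAut.FieldMinus

set_option autoImplicit false
open Cfsg CfsgLib.Classical CfsgLib.POAut

namespace Cfsg.Agent.S2716

/-- Let T = PΩ⁻_{2m+2}(F) (m ≥ 3, |F| = p^f; the form Σ xᵢ yᵢ + z₁² + a z₁ z₂ + b z₂² with anisotropic binary part), G = Inndiag(T), and x a field automorphism of T of prime order r. Then r is odd and divides f; C_G(x) is isomorphic to Inndiag(PΩ⁻_{2m+2}(F₀)) for a field F₀ with p^(f/r) elements and some anisotropic binary part over F₀; and the G-class of x is a single T-class. -/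
theorem result {F : Type*} [Field F] [Fintype F] {p f : ℕ} [Fact p.Prime] (hF : Fintype.card F = p ^ f) (hf : 1 ≤ f) {m : ℕ} (hm : 3 ≤ m) (a b : F) (hab : (∀ z₁ z₂ : F, z₁ ^ 2 + a * z₁ * z₂ + b * z₂ ^ 2 = 0 → z₁ = 0 ∧ z₂ = 0)) (x : MulAut (Cfsg.POmega F (Cfsg.quadFormMinus m F a b))) (hx : Cfsg.IsFieldAutClassPOmegaMinus m x) {r : ℕ} (hr : r.Prime) (hxr : orderOf x = r) (F₀ : Type*) [Field F₀] [Fintype F₀] (hF₀ : Fintype.card F₀ = p ^ (f / r)) :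
    Odd r ∧ r ∣ f ∧ (∃ a₀ b₀ : F₀, (∀ z₁ z₂ : F₀, z₁ ^ 2 + a₀ * z₁ * z₂ + b₀ * z₂ ^ 2 = 0 → z₁ = 0 ∧ z₂ = 0) ∧ Nonempty (↥(Cfsg.inndiagPOmegaMinus m F a b ⊓ Subgroup.centralizer {x}) ≃* ↥(Cfsg.inndiagPOmegaMinus m F₀ a₀ b₀))) ∧ Cfsg.splitClassCount (Cfsg.inndiagPOmegaMinus m F a b) (Cfsg.Inn (Cfsg.POmega F (Cfsg.quadFormMinus m F a b))) x = 1 := by
  have hQ := good_qMinus (F := F) hm hab
  obtain ⟨σ, a', b', T, hne, -, -, -, hT, hxe⟩ := exists_of_fieldAutClassMinus hm hab hx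
  obtain ⟨hσ, hpow⟩ := prime_order_dataE (coe_qExt_qBin m a b) hQ hxe hT hne hr hxr
  obtain ⟨k, hk⟩ := exists_fixed_embedding hF hσ F₀ hF₀
  obtain ⟨a₀, b₀, hab₀, hodd, ⟨e⟩, hcount⟩ := fieldMinus_data hm hab hQ hr hσ hT hpow hk
  refine ⟨hodd, (exists_card_fixedField hF hσ).1, ⟨a₀, b₀, hab₀, ?_⟩, ?_⟩
  · have hQ₀ := good_qMinus (F := F₀) hm hab₀
    obtain ⟨e₁⟩ := centralizer_comap_equiv (autE (coe_qExt_qBin m a b) hQ) ((minusDiag hab hQ).G.map (act _)) x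
    obtain ⟨e₂⟩ := comap_equiv (autE (coe_qExt_qBin m a₀ b₀) hQ₀) ((minusDiag hab₀ hQ₀).G.map (act _))
    rw [inndiagMinus_eqE hab hQ, inndiagMinus_eqE hab₀ hQ₀]
    rw [← hxe] at e
    exact ⟨e₁.trans (e.trans e₂.symm)⟩
  · rw [inndiagMinus_eqE hab hQ, inn_comapE (coe_qExt_qBin m a b) hQ, splitClassCount_comap, hxe, hcount]

end Cfsg.Agent.S2716
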