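import Cfsg.Statements.S2717
import Cfsg.Agent.Lib.KnownSimple.POAut.FieldGraph

set_option autoImplicit false
open Cfsg CfsgLib.Classical CfsgLib.Classical22 CfsgLib.POAut

namespace Cfsg.Agent.S2717

/-- Let T = PΩ⁺_{2m}(F) with m ≥ 5 (dimension 2m ≠ 8) and |F| = p^f, G = Inndiag(T), and x an involutory graph-field automorphism of T. Then f is even; any two involutory graph-field automorphisms of T are G-conjugate; C_G(x) is isomorphic to Inndiag(PΩ⁻_{2m}(F₀)) for a field F₀ with p^(f/2) elements (some anisotropic binary part over F₀); and the G-class of x is the union of exactly c T-classes with c = 1 if p = 2, c = 4 if p is odd, m is odd and p^(f/2) ≡ 1 (mod 4), and c = 2 otherwise. -/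
theorem result {F : Type*} [Field F] [Fintype F] {p f : ℕ} [Fact p.Prime] (hF : Fintype.card F = p ^ f) (hf : 1 ≤ f) {m : ℕ} (hm : 5 ≤ m) (x : MulAut (Cfsg.POmega F (Cfsg.quadFormPlus m F))) (hx : Cfsg.IsGraphFieldAutClassPOmegaPlus m x) (hx2 : orderOf x = 2) (F₀ : Type*) [Field F₀] [Fintype F₀] (hF₀ : Fintype.card F₀ = p ^ (f / 2)) :
    Even f ∧ (∀ y : MulAut (Cfsg.POmega F (Cfsg.quadFormPlus m F)), Cfsg.IsGraphFieldAutClassPOmegaPlus m y → orderOf y = 2 → Cfsg.IsConjUnder (Cfsg.inndiagPOmegaPlus m F) x y) ∧ (∃ a₀ b₀ : F₀, (∀ z₁ z₂ : F₀, z₁ ^ 2 + a₀ * z₁ * z₂ + b₀ * z₂ ^ 2 = 0 → z₁ = 0 ∧ z₂ = 0) ∧ Nonempty (↥(Cfsg.inndiagPOmegaPlus m F ⊓ Subgroup.centralizer {x}) ≃* ↥(Cfsg.inndiagPOmegaMinus (m - 1) F₀ a₀ b₀))) ∧ (p = 2 → Cfsg.splitClassCount (Cfsg.inndiagPOmegaPlus m F) (Cfsg.Inn (Cfsg.POmega F (Cfsg.quadFormPlus m F))) x = 1) ∧ ((p ≠ 2 ∧ Odd m ∧ p ^ (f / 2) % 4 = 1) → Cfsg.splitClassCount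 (Cfsg.inndiagPOmegaPlus m F) (Cfsg.Inn (Cfsg.POmega F (Cfsg.quadFormPlus m F))) x = 4) ∧ ((p ≠ 2 ∧ ¬ (Odd m ∧ p ^ (f / 2) % 4 = 1)) → Cfsg.splitClassCount (Cfsg.inndiagPOmegaPlus m F) (Cfsg.Inn (Cfsg.POmega F (Cfsg.quadFormPlus m F))) x = 2) := by
  have hQ := good_qPlus (F := F) hm
  haveI : Nonempty (Fin m ⊕ Fin m) := ⟨Sum.inl ⟨0, by omega⟩⟩
  have key : ∀ y : MulAut (Cfsg.POmega F (Cfsg.quadFormPlus m F)), Cfsg.IsGraphFieldAutClassPOmegaPlus m y →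
      orderOf y = 2 → ∃ (σ : F ≃+* F) (T : gammaO (qPlus m F)), orderOf σ = 2 ∧ sigFun T = σ ∧
        (∃ c, T ^ 2 = scal _ c) ∧
        parityHom hQ.nondeg (finrank_qPlus_space m) (maxS_xLin m) T = Multiplicative.ofAdd 1 ∧
        autE (coe_qPlus m) hQ y = act _ T := by
    intro y hy hy2
    obtain ⟨σ, A, v, hv, hne, hye⟩ := exists_of_graphFieldClass hQ hy
    have hT : sigHom hQ (A * (qIncl _ (qRefl _ hv) * semOf (one_pair (rat_qPlus (m := m) σ))) * A⁻¹) = σ := by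
      rw [sigHom_conj, map_mul, sigHom_semOf, MonoidHom.mem_ker.1 (qIncl_mem_simSub hQ (qRefl _ hv)), one_mul]
    obtain ⟨hσ, hpow⟩ := prime_order_dataE (coe_qPlus m) hQ hye hT hne Nat.prime_two hy2
    exact ⟨σ, _, hσ, hT, hpow, parity_refl_field hQ σ A hv, hye⟩
  obtain ⟨σ, T, hσ, hT, hpow, hp, hxe⟩ := key x hx hx2
  obtain ⟨k, hk⟩ := exists_fixed_embedding hF hσ F₀ hF₀
  obtain ⟨a, b, hab, hk', ⟨e⟩, hone, hodd⟩ := graphField_data hm hQ hσ hT hpow hk hp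
  have hp2 : p = 2 ↔ ringChar F = 2 := by
    haveI : CharP F p := by
      obtain ⟨q, hq⟩ := CharP.exists F
      obtain ⟨n, hqp, hn⟩ := FiniteField.card F q
      rw [hF] at hn
      obtain rfl : p = q := by
        have h := (Nat.prime_dvd_prime_iff_eq (Fact.out : p.Prime) hqp).1
          ((Fact.out : p.Prime).dvd_of_dvd_pow (hn ▸ dvd_pow_self p (by omega)))
        exact h
      exact hq
    rw [ringChar.eq F p]
  have hsplit : ∀ c, Cfsg.splitClassCount ((plusDiag hQ).G.map (act _)) (Cfsg.Inn (TQ (qPlus m F))) (act _ T) = c →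
      Cfsg.splitClassCount (Cfsg.inndiagPOmegaPlus m F) (Cfsg.Inn (Cfsg.POmega F (Cfsg.quadFormPlus m F))) x = c := by
    intro c h
    rw [inndiagPlus_eqE hQ, inn_comapE (coe_qPlus m) hQ, splitClassCount_comap, hxe, h]
  refine ⟨even_iff_two_dvd.2 (exists_card_fixedField hF hσ).1, fun y hy hy2 => ?_, ?_, fun h => hsplit _ (hone (hp2.1 h)),
    fun h => hsplit _ ?_, fun h => hsplit _ ?_⟩
  · obtain ⟨τ, T', hτ, hT', hpow', hp', hye⟩ := key y hy hy2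
    rw [involution_unique hτ hσ] at hT'
    rw [inndiagPlus_eqE hQ, isConjUnder_comap_iff, hxe, hye]
    exact graph_exists_conj hQ hσ hT hT' hpow hpow' hp hp'
  · have hQ₀ := good_qMinus (F := F₀) hk' hab
    refine ⟨a, b, hab, ?_⟩
    obtain ⟨e₁⟩ := centralizer_comap_equiv (autE (coe_qPlus m) hQ) ((plusDiag hQ).G.map (act _)) x
    obtain ⟨e₂⟩ := comap_equiv (autE (coe_qExt_qBin (m - 1) a b) hQ₀) ((minusDiag hab hQ₀).G.map (act _))
    rw [inndiagPlus_eqE hQ, inndiagMinus_eqE hab hQ₀]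
    rw [← hxe] at e
    exact ⟨e₁.trans (e.trans e₂.symm)⟩
  · rw [hodd (fun h2 => h.1 (hp2.2 h2)), if_pos ⟨h.2.1, by rw [hF₀]; exact h.2.2⟩]
  · rw [hodd (fun h2 => h.1 (hp2.2 h2)), if_neg (by rw [hF₀]; exact h.2)]

end Cfsg.Agent.S2717
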