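import Cfsg.Statements.S2718
import Cfsg.Agent.Lib.KnownSimple.POAut.GraphSplit

set_option autoImplicit false
set_option maxHeartbeats 2000000
open Cfsg CfsgLib.Classical CfsgLib.Classical22 CfsgLib.POAut

namespace Cfsg.Agent.S2718

/-- Let T = PΩ⁺_{2m}(F) with m ≥ 4 and |F| = q odd, G = Inndiag(T), and γ an involutory graph automorphism of T induced by a similarity (one interchanging the two classes of maximal totally singular subspaces). Then the G-class of γ is either a single T-class or the union of exactly two T-classes, and it is the union of two unless m is odd and q ≡ 3 (mod 4). -/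
theorem result {F : Type*} [Field F] [Fintype F] (hodd : Odd (Fintype.card F)) {m : ℕ} (hm : 4 ≤ m) (γ : MulAut (Cfsg.POmega F (Cfsg.quadFormPlus m F))) (hγ : Cfsg.IsSimilarityGraphAutPOmegaPlus m γ) (hγ2 : orderOf γ = 2) :
    (Cfsg.splitClassCount (Cfsg.inndiagPOmegaPlus m F) (Cfsg.Inn (Cfsg.POmega F (Cfsg.quadFormPlus m F))) γ = 1 ∨ Cfsg.splitClassCount (Cfsg.inndiagPOmegaPlus m F) (Cfsg.Inn (Cfsg.POmega F (Cfsg.quadFormPlus m F))) γ = 2) ∧ (¬ (Odd m ∧ Fintype.card F % 4 = 3) → Cfsg.splitClassCount (Cfsg.inndiagPOmegaPlus m F) (Cfsg.Inn (Cfsg.POmega F (Cfsg.quadFormPlus m F))) γ = 2) := by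
  have hQ := pre_qPlus (F := F) (m := m) hm
  obtain ⟨D, hG, -, hB⟩ := exists_plus_data hodd hm hQ
  obtain ⟨g, hg, hnp, hind⟩ := hγ
  have key : ∀ fq (h : ⇑(qPlus m F) = fq) (β : MulAut (Cfsg.POmega F fq)),
      g ∈ Cfsg.Geo.quadSimilarityGroup (F := F) fq →
      ¬ Cfsg.PreservesSingularClasses fq (g : Matrix (Fin m ⊕ Fin m) (Fin m ⊕ Fin m) F) →
      Cfsg.IsInducedBySemilinearPOmega fq g (RingEquiv.refl F) β →
      ∃ T : simSub hQ, (D.par T ≠ 1 ∧ autE h hQ β = act _ T.1) ∨ False := by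
    rintro _ rfl β hg hnp hind
    have hp := isSemisimilarityPair_iff_simGroup.2 hg
    refine ⟨⟨semOf hp, MonoidHom.mem_ker.2 (sigHom_semOf hQ hp)⟩, Or.inl ⟨fun hpar => hnp ?_, ?_⟩⟩
    · have hs : semOf hp ∈ plusG hQ := hG ▸ ⟨_, hpar, rfl⟩
      exact (preserves_iff hQ.nondeg (finrank_qPlus_space m) (maxS_xLin m) _ (semOf hp)
        (fun v => semOf_apply hp v)).2 hs.2
    · rw [autE_rfl]
      exact (induced_iff hQ hp β).1 hind
  obtain ⟨T, ⟨hpar, hT⟩ | hF⟩ := key _ (coe_qPlus m) γ hg hnp hind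
  swap
  · exact hF.elim
  obtain ⟨c, hc⟩ := exists_pow_eq_scal hQ (T := T.1) (r := 2) (by
    rw [← hT, ← map_pow, ← hγ2, pow_orderOf_eq_one, map_one])
  rw [sq] at hc
  rw [inndiagPlus_eqE hQ, inn_comapE (coe_qPlus m) hQ, splitClassCount_comap, hT]
  change (Cfsg.splitClassCount ((plusG hQ).map (act _)) _ _ = 1 ∨ Cfsg.splitClassCount ((plusG hQ).map (act _)) _ _ = 2) ∧
    (_ → Cfsg.splitClassCount ((plusG hQ).map (act _)) _ _ = 2)
  rw [← hG]
  refine ⟨D.count_one_or_two hpar hc, fun h => D.count_two hpar hc fun g' hg' => ?_⟩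
  exact D.isSquare_of_commute (hB h).2.2.2.1 hpar g' hg'

end Cfsg.Agent.S2718
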