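import Cfsg.Statements.S2719
import Cfsg.Agent.Lib.KnownSimple.POAut.GraphMinus

set_option autoImplicit false
set_option maxHeartbeats 2000000
open Cfsg CfsgLib.Classical CfsgLib.Classical22 CfsgLib.POAut

namespace Cfsg.Agent.S2719

/-- Let T = PΩ⁻_{2m+2}(F) with m ≥ 3 and |F| = q odd (form with anisotropic binary part z₁² + a z₁ z₂ + b z₂²), G = Inndiag(T), and γ an involutory graph automorphism of T (an automorphism in the image of the semisimilarity group, not inner-diagonal, of order 2). Then the G-class of γ is either a single T-class or the union of exactly two T-classes, and it is the union of two unless m is even and q ≡ 1 (mod 4). -/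
theorem result {F : Type*} [Field F] [Fintype F] (hodd : Odd (Fintype.card F)) {m : ℕ} (hm : 3 ≤ m) (a b : F) (hab : (∀ z₁ z₂ : F, z₁ ^ 2 + a * z₁ * z₂ + b * z₂ ^ 2 = 0 → z₁ = 0 ∧ z₂ = 0)) (γ : MulAut (Cfsg.POmega F (Cfsg.quadFormMinus m F a b))) (hγ : Cfsg.IsGraphAutClassPOmegaMinus m a b γ) (hγ2 : orderOf γ = 2) :
    (Cfsg.splitClassCount (Cfsg.inndiagPOmegaMinus m F a b) (Cfsg.Inn (Cfsg.POmega F (Cfsg.quadFormMinus m F a b))) γ = 1 ∨ Cfsg.splitClassCount (Cfsg.inndiagPOmegaMinus m F a b) (Cfsg.Inn (Cfsg.POmega F (Cfsg.quadFormMinus m F a b))) γ = 2) ∧ (¬ (Even m ∧ Fintype.card F % 4 = 1) → Cfsg.splitClassCount (Cfsg.inndiagPOmegaMinus m F a b) (Cfsg.Inn (Cfsg.POmega F (Cfsg.quadFormMinus m F a b))) γ = 2) := by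
  have hab' : BinAniso a b := hab
  haveI := qe_fact hab'
  have h2 : ringChar F ≠ 2 := fun hc => by
    rw [FiniteField.even_card_iff_char_two] at hc
    rw [Nat.odd_iff] at hodd
    omega
  have hQ := good_qMinus (F := F) hm hab'
  obtain ⟨D, hG, -, hB⟩ := exists_minus_data hQ h2
  obtain ⟨-, hnot, -⟩ := hγ
  obtain ⟨T, hT⟩ := act_surjective hQ (autE (coe_qExt_qBin m a b) hQ.toPre γ)
  have hTs : T ∈ simSub hQ.toPre := by
    by_contra hne
    obtain ⟨hσ, hpow⟩ := prime_order_dataE (coe_qExt_qBin m a b) hQ.toPre hT.symm rfl hne Nat.prime_two hγ2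
    haveI : Fintype (CfsgLib.PSLAut.fixedField (sigHom hQ.toPre T)) := Fintype.ofFinite _
    obtain ⟨_, _, -, -, hr2, -⟩ := exists_model_minus hab' hQ.toPre hσ rfl hpow (fix_fixedField _)
    exact hr2 rfl
  have hG' : D.diagS.map (simSub hQ.toPre).subtype = minusG hab' hQ.toPre := hG
  have hpar : D.par ⟨T, hTs⟩ ≠ 1 := fun h => hnot (by
    rw [inndiagMinus_eqE hab' hQ.toPre, Subgroup.mem_comap]
    change _ ∈ (minusG hab' hQ.toPre).map (act _)
    exact ⟨T, hG' ▸ ⟨⟨T, hTs⟩, h, rfl⟩, hT⟩)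
  obtain ⟨c, hc⟩ := exists_pow_eq_scal hQ.toPre (T := T) (r := 2) (by
    rw [hT, ← map_pow, show γ ^ 2 = 1 from orderOf_dvd_iff_pow_eq_one.1 (dvd_of_eq hγ2), map_one])
  rw [sq] at hc
  rw [inndiagMinus_eqE hab' hQ.toPre, inn_comapE (coe_qExt_qBin m a b) hQ.toPre, splitClassCount_comap, ← hT]
  change (Cfsg.splitClassCount ((minusG hab' hQ.toPre).map (act _)) _ _ = 1 ∨
    Cfsg.splitClassCount ((minusG hab' hQ.toPre).map (act _)) _ _ = 2) ∧
    (_ → Cfsg.splitClassCount ((minusG hab' hQ.toPre).map (act _)) _ _ = 2)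
  rw [← hG']
  refine ⟨D.count_one_or_two (T := ⟨T, hTs⟩) hpar hc, fun h => D.count_two (T := ⟨T, hTs⟩) hpar hc fun g hg => ?_⟩
  rcases Nat.even_or_odd m with he | ho
  · have hq : Fintype.card F % 4 = 3 := by
      rw [Nat.odd_iff] at hodd
      have : ¬ Fintype.card F % 4 = 1 := fun h1 => h ⟨he, h1⟩
      omega
    exact D.isSquare_of_commute (hB ⟨he, hq⟩).2.2.1 (T := ⟨T, hTs⟩) hpar g hg
  refine isSquare_commute_minus ho hm hQ.toPre h2 D (T := ⟨T, hTs⟩) hpar (fun h0 => hnot ?_) hc g hg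
  rw [inndiagMinus_eqE hab' hQ.toPre, Subgroup.mem_comap]
  exact ⟨T, (mem_minusG _ _).2 ⟨hTs, h0⟩, hT⟩

end Cfsg.Agent.S2719
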