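import Cfsg.Statements.S2720
import Cfsg.Agent.Lib.KnownSimple.POAut.SemisimpleFusion

set_option autoImplicit false
open Cfsg CfsgLib.POAut CfsgLib.Classical CfsgLib.Classical22

namespace Cfsg.Agent.S2720

/-- Let T = PΩ⁺_{2m}(F) (m ≥ 4, F finite of odd characteristic p), G = Inndiag(T), and let x be an automorphism of T induced by a similarity of the form (an element of the image G̃ of the conformal orthogonal group) of odd prime order r ≠ p. Then the T-class, the PSO-class and the G-class of x coincide (conjugacy under inner automorphisms, under the image of the special orthogonal group, and under G), and the PO-class of x coincides with its G̃-class. (In characteristic 2 the first equality fails: there the special orthogonal group is the full orthogonal group and some such classes split.) -/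
theorem result {F : Type*} [Field F] [Fintype F] {p : ℕ} [Fact p.Prime] [CharP F p] (hp : p ≠ 2) {m : ℕ} (hm : 4 ≤ m) (x : MulAut (Cfsg.POmega F (Cfsg.quadFormPlus m F))) (hx : x ∈ Cfsg.pgoAut F (Cfsg.quadFormPlus m F)) {r : ℕ} (hr : r.Prime) (hro : Odd r) (hrp : r ≠ p) (hxr : orderOf x = r) :
    (∀ y : MulAut (Cfsg.POmega F (Cfsg.quadFormPlus m F)), (Cfsg.IsConjUnder (Cfsg.Inn (Cfsg.POmega F (Cfsg.quadFormPlus m F))) x y ↔ Cfsg.IsConjUnder (Cfsg.inndiagPOmegaPlus m F) x y) ∧ (Cfsg.IsConjUnder (Cfsg.psoAut F (Cfsg.quadFormPlus m F)) x y ↔ Cfsg.IsConjUnder (Cfsg.inndiagPOmegaPlus m F) x y)) ∧ (∀ y : MulAut (Cfsg.POmega F (Cfsg.quadFormPlus m F)), Cfsg.IsConjUnder (Cfsg.poAut F (Cfsg.quadFormPlus m F)) x y ↔ Cfsg.IsConjUnder (Cfsg.pgoAut F (Cfsg.quadFormPlus m F)) x y) := by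
  have hodd : Odd (Fintype.card F) := by
    rw [Nat.odd_iff]
    exact FiniteField.odd_card_of_char_ne_two (by rw [ringChar.eq F p]; exact hp)
  have h2 : (2 : F) ≠ 0 := Ring.two_ne_zero (by rw [ringChar.eq F p]; exact hp)
  have hQ := pre_qPlus (F := F) hm
  obtain ⟨D, hD, -⟩ := exists_plus_data hodd hm hQ
  obtain ⟨u₀, hu₀⟩ := FiniteField.exists_nonsquare (F := F) (by rw [ringChar.eq F p]; exact hp)
  obtain ⟨u, rfl⟩ : ∃ u : Fˣ, (u : F) = u₀ := ⟨Units.mk0 u₀ fun e => hu₀ (e ▸ IsSquare.zero), rfl⟩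
  have hmem : halfT m u ∈ D.diagS.map (simSub hQ).subtype := by
    rw [hD]; exact ⟨halfT_mem hQ u, parity_halfT hQ u⟩
  obtain ⟨T₀, hT₀, hT₀e⟩ := hmem
  let d : Fin m ⊕ Fin m → F := Sum.elim (fun _ => (u : F)) fun _ => 1
  let L₀ : (Fin m ⊕ Fin m → F) ≃ₗ[F] (Fin m ⊕ Fin m → F) :=
    LinearEquiv.piCongrRight (Sum.elim (fun _ => LinearEquiv.smulOfUnit u) fun _ => LinearEquiv.refl F F :
      Fin m ⊕ Fin m → (F ≃ₗ[F] F))
  have hL₀ : (L₀ : (Fin m ⊕ Fin m → F) →ₗ[F] (Fin m ⊕ Fin m → F)) = Matrix.toLin' (Matrix.diagonal d) :=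
    LinearMap.ext fun v => funext fun i => by
      rw [Matrix.toLin'_apply, Matrix.mulVec_diagonal]
      rcases i with i | i
      · rfl
      · exact (one_mul _).symm
  have hμ : mulFac T₀.1 = (u : F) := by rw [show T₀.1 = halfT m u from hT₀e, mulFac_halfT hQ]
  refine semisimple_fusion hQ D (M := m) (by simp [two_mul]) T₀ hT₀ (hμ ▸ hu₀) L₀
    (fun v => by rw [show T₀.1 = halfT m u from hT₀e]; rfl) ?_ (coe_qPlus m) _ ?_ hx hr hro ?_ hxr
  · rw [hμ, hL₀, LinearMap.det_toLin', Matrix.det_diagonal, Fintype.prod_sum_type]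
    simp [d]
  · rw [hD, inndiagPlus_eqE hQ]; rfl
  · rw [Ne, CharP.cast_eq_zero_iff F p]
    exact fun h => hrp ((Nat.prime_dvd_prime_iff_eq (Fact.out : p.Prime) hr).1 h).symm

end Cfsg.Agent.S2720
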