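import Cfsg.Statements.S2721
import Cfsg.Agent.Lib.KnownSimple.POAut.SemisimpleFusion

set_option autoImplicit false
open Cfsg CfsgLib.POAut CfsgLib.Classical CfsgLib.Classical22

namespace Cfsg.Agent.S2721

/-- Let T = PΩ⁻_{2m+2}(F) (m ≥ 3, F finite of odd characteristic p), G = Inndiag(T), and let x be an automorphism of T induced by a similarity of the form (an element of the image G̃ of the conformal orthogonal group) of odd prime order r ≠ p. Then the T-class, the PSO-class and the G-class of x coincide (conjugacy under inner automorphisms, under the image of the special orthogonal group, and under G), and the PO-class of x coincides with its G̃-class. (In characteristic 2 the first equality fails: there the special orthogonal group is the full orthogonal group and some such classes split.) -/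
theorem result {F : Type*} [Field F] [Fintype F] {p : ℕ} [Fact p.Prime] [CharP F p] (hp : p ≠ 2) {m : ℕ} (hm : 3 ≤ m) (a b : F) (hab : (∀ z₁ z₂ : F, z₁ ^ 2 + a * z₁ * z₂ + b * z₂ ^ 2 = 0 → z₁ = 0 ∧ z₂ = 0)) (x : MulAut (Cfsg.POmega F (Cfsg.quadFormMinus m F a b))) (hx : x ∈ Cfsg.pgoAut F (Cfsg.quadFormMinus m F a b)) {r : ℕ} (hr : r.Prime) (hro : Odd r) (hrp : r ≠ p) (hxr : orderOf x = r) :
    (∀ y : MulAut (Cfsg.POmega F (Cfsg.quadFormMinus m F a b)), (Cfsg.IsConjUnder (Cfsg.Inn (Cfsg.POmega F (Cfsg.quadFormMinus m F a b))) x y ↔ Cfsg.IsConjUnder (Cfsg.inndiagPOmegaMinus m F a b) x y) ∧ (Cfsg.IsConjUnder (Cfsg.psoAut F (Cfsg.quadFormMinus m F a b)) x y ↔ Cfsg.IsConjUnder (Cfsg.inndiagPOmegaMinus m F a b) x y)) ∧ (∀ y : MulAut (Cfsg.POmega F (Cfsg.quadFormMinus m F a b)), Cfsg.IsConjUnder (Cfsg.poAut F (Cfsg.quadFormMinus m F a b)) x y ↔ Cfsg.IsConjUnder (Cfsg.pgoAut F (Cfsg.quadFormMinus m F a b)) x y) := by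
  have h2r : ringChar F ≠ 2 := by rw [ringChar.eq F p]; exact hp
  have h2 : (2 : F) ≠ 0 := Ring.two_ne_zero h2r
  have hb : BinAniso a b := hab
  haveI := qe_fact hb
  have hQ := good_qMinus (F := F) hm hb
  obtain ⟨D, hD, -⟩ := exists_minus_data hQ h2r
  obtain ⟨c, hcns⟩ := FiniteField.exists_nonsquare (F := F) h2r
  have hc0 : c ≠ 0 := fun e => hcns (e ▸ IsSquare.zero)
  obtain ⟨l, hl⟩ := exists_value (qBin a b) (polarNondeg_qBin hb) (by simp [Module.finrank_pi]) hc0
  rw [qBin_apply] at hl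
  have hmem : torusT (n := m) hl hc0 ∈ D.diagS.map (simSub hQ.toPre).subtype := by
    rw [hD]; exact torusT_mem_minusG hb hQ.toPre hl hc0
  obtain ⟨T₀, hT₀, hT₀e⟩ := hmem
  let L₀ := LinearEquiv.ofInjectiveEndo (torusLin m a b c (l 0) (l 1)) (torusLin_injective hl hc0)
  let D₁ : Matrix (Fin m ⊕ Fin m) (Fin m ⊕ Fin m) F := Matrix.diagonal (Sum.elim (fun _ => c) fun _ => 1)
  let D₂ : Matrix (Fin 2) (Fin 2) F := !![l 0, -(b * l 1); l 1, l 0 + a * l 1]
  have hL₀ : (L₀ : ((Fin m ⊕ Fin m) ⊕ Fin 2 → F) →ₗ[F] ((Fin m ⊕ Fin m) ⊕ Fin 2 → F)) =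
      Matrix.toLin' (Matrix.fromBlocks D₁ 0 0 D₂) := LinearMap.ext fun v => funext fun i => by
    change torusLin m a b c (l 0) (l 1) v i = _
    rw [Matrix.toLin'_apply, Matrix.fromBlocks_mulVec]
    rcases i with (i | i) | i
    · simp [torusLin, D₁, Matrix.mulVec_diagonal]
    · simp [torusLin, D₁, Matrix.mulVec_diagonal]
    · fin_cases i <;> simp [torusLin, D₂, Matrix.mulVec, dotProduct, Fin.sum_univ_two] <;> ring
  have hμ : mulFac T₀.1 = c := by rw [show T₀.1 = torusT hl hc0 from hT₀e, mulFac_torusT hQ.toPre hl hc0]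
  refine semisimple_fusion hQ.toPre D (M := m + 1) (by simp; omega) T₀ hT₀ (hμ ▸ hcns) L₀
    (fun v => by rw [show T₀.1 = torusT hl hc0 from hT₀e]; rfl) ?_ (coe_qExt_qBin m a b) _ ?_ hx hr hro ?_ hxr
  · rw [hμ, hL₀, LinearMap.det_toLin', Matrix.det_fromBlocks_zero₁₂, Matrix.det_diagonal, Fintype.prod_sum_type,
      Matrix.det_fin_two]
    simp [D₂]
    linear_combination c ^ m * hl
  · rw [hD, inndiagMinus_eqE hb hQ.toPre]; rfl
  · rw [Ne, CharP.cast_eq_zero_iff F p]
    exact fun h => hrp ((Nat.prime_dvd_prime_iff_eq (Fact.out : p.Prime) hr).1 h).symm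

end Cfsg.Agent.S2721
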