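import Cfsg.Statements.S2724
import Cfsg.Agent.Lib.KnownSimple.POAut.PGOPlus

set_option autoImplicit false
open Cfsg CfsgLib.Classical CfsgLib.Classical22 CfsgLib.POAut

namespace Cfsg.Agent.S2724

/-- Let T = PΩ⁺_{2m}(F) with m ≥ 4 and |F| = q odd. The image G̃ of the conformal orthogonal group in Aut(T), taken modulo the inner automorphism group T, is elementary abelian of order 4 when m is odd and q ≡ 3 (mod 4), and dihedral of order 8 otherwise. -/
theorem result {F : Type*} [Field F] [Fintype F] (hodd : Odd (Fintype.card F)) {m : ℕ} (hm : 4 ≤ m) :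
    ((Odd m ∧ Fintype.card F % 4 = 3) → (∃ φ : ↥(Cfsg.pgoAut F (Cfsg.quadFormPlus m F)) →* Multiplicative (ZMod 2 × ZMod 2), Function.Surjective φ ∧ φ.ker = (Cfsg.Inn (Cfsg.POmega F (Cfsg.quadFormPlus m F))).subgroupOf (Cfsg.pgoAut F (Cfsg.quadFormPlus m F)))) ∧ (¬ (Odd m ∧ Fintype.card F % 4 = 3) → (∃ φ : ↥(Cfsg.pgoAut F (Cfsg.quadFormPlus m F)) →* DihedralGroup 4, Function.Surjective φ ∧ φ.ker = (Cfsg.Inn (Cfsg.POmega F (Cfsg.quadFormPlus m F))).subgroupOf (Cfsg.pgoAut F (Cfsg.quadFormPlus m F)))) := by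
  have hQ := pre_qPlus (F := F) (m := m) hm
  obtain ⟨D, -, hA, hB⟩ := exists_plus_data hodd hm hQ
  rw [← coe_qPlus (F := F) m]
  refine ⟨fun h => D.pgo_mod_inn_klein (hA h), fun h => ?_⟩
  obtain ⟨-, -, -, -, R, S, h1, h2, h3, h4, h5⟩ := hB h
  exact D.pgo_mod_inn_dihedral R S h1 h2 h3 h4 h5

end Cfsg.Agent.S2724
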