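import Cfsg.Statements.S2725
import Cfsg.Agent.Lib.KnownSimple.POAut.PGOPlus

set_option autoImplicit false
set_option maxHeartbeats 1000000
open Cfsg CfsgLib.Classical CfsgLib.Classical22 CfsgLib.POAut

namespace Cfsg.Agent.S2725

/-- Let T = PΩ⁺_{2m}(F) with m ≥ 4 and |F| = q odd. The inner-diagonal group G = Inndiag(T) (image of the class-preserving similarities) taken modulo the inner automorphism group T is cyclic of order 2 when m is odd and q ≡ 3 (mod 4), cyclic of order 4 when m is odd and q ≡ 1 (mod 4), and elementary abelian of order 4 when m is even. -/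
theorem result {F : Type*} [Field F] [Fintype F] (hodd : Odd (Fintype.card F)) {m : ℕ} (hm : 4 ≤ m) :
    ((Odd m ∧ Fintype.card F % 4 = 3) → (∃ φ : ↥(Cfsg.inndiagPOmegaPlus m F) →* Multiplicative (ZMod 2), Function.Surjective φ ∧ φ.ker = (Cfsg.Inn (Cfsg.POmega F (Cfsg.quadFormPlus m F))).subgroupOf (Cfsg.inndiagPOmegaPlus m F))) ∧ ((Odd m ∧ Fintype.card F % 4 = 1) → (∃ φ : ↥(Cfsg.inndiagPOmegaPlus m F) →* Multiplicative (ZMod 4), Function.Surjective φ ∧ φ.ker = (Cfsg.Inn (Cfsg.POmega F (Cfsg.quadFormPlus m F))).subgroupOf (Cfsg.inndiagPOmegaPlus m F))) ∧ (Even m → (∃ φ : ↥(Cfsg.inndiagPOmegaPlus m F) →* Multiplicative (ZMod 2 × ZMod 2), Function.Surjective φ ∧ φ.ker = (Cfsg.Inn (Cfsg.POmega F (Cfsg.quadFormPlus m F))).subgroupOf (Cfsg.inndiagPOmegaPlus m F))) := by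
  have hQ := pre_qPlus (F := F) (m := m) hm
  obtain ⟨D, hG, hA, hB⟩ := exists_plus_data hodd hm hQ
  have key : ∀ fq (h : ⇑(qPlus m F) = fq) (H : Subgroup (MulAut (Cfsg.POmega F fq))),
      H = Cfsg.autSubgroupOf (fun β => ∃ g : GL (Fin m ⊕ Fin m) F,
        g ∈ Cfsg.Geo.quadSimilarityGroup (F := F) fq ∧
        Cfsg.PreservesSingularClasses fq (g : Matrix (Fin m ⊕ Fin m) (Fin m ⊕ Fin m) F) ∧
        Cfsg.IsInducedBySemilinearPOmega fq g (RingEquiv.refl F) β) →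
      ((Odd m ∧ Fintype.card F % 4 = 3) → ∃ φ : ↥H →* Multiplicative (ZMod 2),
        Function.Surjective φ ∧ φ.ker = (Cfsg.Inn (Cfsg.POmega F fq)).subgroupOf H) ∧
      ((Odd m ∧ Fintype.card F % 4 = 1) → ∃ φ : ↥H →* Multiplicative (ZMod 4),
        Function.Surjective φ ∧ φ.ker = (Cfsg.Inn (Cfsg.POmega F fq)).subgroupOf H) ∧
      (Even m → ∃ φ : ↥H →* Multiplicative (ZMod 2 × ZMod 2),
        Function.Surjective φ ∧ φ.ker = (Cfsg.Inn (Cfsg.POmega F fq)).subgroupOf H) := by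
    rintro _ rfl H rfl
    rw [inndiagPlus_eq hQ, ← hG]
    refine ⟨fun h => D.diag_two (hA h), fun h => D.diag_four ((hB ?_).2.1 h.1), fun h => ?_⟩
    · rintro ⟨-, h3⟩
      omega
    · obtain ⟨hn, -, hT, -⟩ := hB fun hh => Nat.not_even_iff_odd.2 hh.1 h
      exact D.diag_klein (D.neg_ne hn) (hT h)
  exact key _ (coe_qPlus m) _ rfl

end Cfsg.Agent.S2725
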