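import Cfsg.Statements.S2726
import Cfsg.Agent.Lib.KnownSimple.POAut.PGOMinus

set_option autoImplicit false
open Cfsg CfsgLib.Classical CfsgLib.Classical22 CfsgLib.POAut

namespace Cfsg.Agent.S2726

/-- Let T = PΩ⁻_{2m+2}(F) with m ≥ 3 and |F| = q odd (form with anisotropic binary part). Inside Aut(T), the image G̃ of the conformal orthogonal group of the form modulo the image of the special orthogonal group is elementary abelian of order 4. -/
theorem result {F : Type*} [Field F] [Fintype F] (hodd : Odd (Fintype.card F)) {m : ℕ} (hm : 3 ≤ m) (a b : F) (hab : (∀ z₁ z₂ : F, z₁ ^ 2 + a * z₁ * z₂ + b * z₂ ^ 2 = 0 → z₁ = 0 ∧ z₂ = 0)) :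
    (∃ φ : ↥(Cfsg.pgoAut F (Cfsg.quadFormMinus m F a b)) →* Multiplicative (ZMod 2 × ZMod 2), Function.Surjective φ ∧ φ.ker = (Cfsg.psoAut F (Cfsg.quadFormMinus m F a b)).subgroupOf (Cfsg.pgoAut F (Cfsg.quadFormMinus m F a b))) := by
  have hab' : BinAniso a b := hab
  haveI := qe_fact hab'
  have h2 : ringChar F ≠ 2 := fun hc => by
    rw [FiniteField.even_card_iff_char_two] at hc
    rw [Nat.odd_iff] at hodd
    omega
  obtain ⟨D, hG, hA, hB⟩ := exists_minus_data (good_qMinus (F := F) hm hab') h2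
  rw [← coe_qExt_qBin m a b]
  exact D.pgo_mod_pso

end Cfsg.Agent.S2726
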