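import Cfsg.Statements.S2729
import Cfsg.Agent.Lib.KnownSimple.POAut.PGOMinus

set_option autoImplicit false
set_option maxHeartbeats 1000000
open Cfsg CfsgLib.Classical CfsgLib.Classical22 CfsgLib.POAut

namespace Cfsg.Agent.S2729

/-- Let T = PΩ⁻_{2m+2}(F) with m ≥ 3 and |F| = q odd (form with anisotropic binary part). The inner-diagonal group G = Inndiag(T) (image of the class-preserving similarities) taken modulo the inner automorphism group T is cyclic of order 4 when m is even and q ≡ 3 (mod 4), and of order 2 otherwise. -/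
theorem result {F : Type*} [Field F] [Fintype F] (hodd : Odd (Fintype.card F)) {m : ℕ} (hm : 3 ≤ m) (a b : F) (hab : (∀ z₁ z₂ : F, z₁ ^ 2 + a * z₁ * z₂ + b * z₂ ^ 2 = 0 → z₁ = 0 ∧ z₂ = 0)) :
    ((Even m ∧ Fintype.card F % 4 = 3) → (∃ φ : ↥(Cfsg.inndiagPOmegaMinus m F a b) →* Multiplicative (ZMod 4), Function.Surjective φ ∧ φ.ker = (Cfsg.Inn (Cfsg.POmega F (Cfsg.quadFormMinus m F a b))).subgroupOf (Cfsg.inndiagPOmegaMinus m F a b))) ∧ (¬ (Even m ∧ Fintype.card F % 4 = 3) → (∃ φ : ↥(Cfsg.inndiagPOmegaMinus m F a b) →* Multiplicative (ZMod 2), Function.Surjective φ ∧ φ.ker = (Cfsg.Inn (Cfsg.POmega F (Cfsg.quadFormMinus m F a b))).subgroupOf (Cfsg.inndiagPOmegaMinus m F a b))) := by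
  have hab' : BinAniso a b := hab
  haveI := qe_fact hab'
  have h2 : ringChar F ≠ 2 := fun hc => by
    rw [FiniteField.even_card_iff_char_two] at hc
    rw [Nat.odd_iff] at hodd
    omega
  obtain ⟨D, hG, hA, hB⟩ := exists_minus_data (good_qMinus (F := F) hm hab') h2
  have key : ∀ fq (h : ⇑(qExt m (qBin a b)) = fq) (H : Subgroup (MulAut (Cfsg.POmega F fq))),
      H = Cfsg.autSubgroupOf (fun β => ∃ g : GL ((Fin m ⊕ Fin m) ⊕ Fin 2) F,
        g ∈ Cfsg.Geo.quadSimilarityGroup (F := F) fq ∧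
        Cfsg.PreservesSingularClassesMinus m a b (g : Matrix ((Fin m ⊕ Fin m) ⊕ Fin 2) ((Fin m ⊕ Fin m) ⊕ Fin 2) F) ∧
        Cfsg.IsInducedBySemilinearPOmega fq g (RingEquiv.refl F) β) →
      ((Even m ∧ Fintype.card F % 4 = 3) → ∃ φ : ↥H →* Multiplicative (ZMod 4),
        Function.Surjective φ ∧ φ.ker = (Cfsg.Inn (Cfsg.POmega F fq)).subgroupOf H) ∧
      (¬ (Even m ∧ Fintype.card F % 4 = 3) → ∃ φ : ↥H →* Multiplicative (ZMod 2),
        Function.Surjective φ ∧ φ.ker = (Cfsg.Inn (Cfsg.POmega F fq)).subgroupOf H) := by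
    rintro _ rfl H rfl
    rw [inndiagMinus_eq binAniso_of_fact (good_qMinus (F := F) hm hab').toPre, ← hG]
    exact ⟨fun h => D.diag_four (hB h).2.1, fun h => D.diag_two (hA h)⟩
  exact key _ (coe_qExt_qBin m a b) _ rfl

end Cfsg.Agent.S2729
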