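import Cfsg.Statements.S2730
import Cfsg.Agent.Lib.KnownSimple.PSpAut.Balance

set_option autoImplicit false
open Cfsg CfsgLib.PSpAut

namespace Cfsg.Agent.S2730

/-- A criterion for the failure of local balance in almost simple groups whose socle is a projective symplectic group PSp_{2m}(F) (m ≥ 2, (2m, |F|) ≠ (4, 2)). Let F be a finite field of characteristic r and K the (simple) group in question; let A be a group of automorphisms of K containing all inner automorphisms, and x ∈ A an automorphism of prime order p ≠ r that is not inner-diagonal (not induced by a conformal symplectic matrix). Then the largest normal subgroup of C_A(x) of order prime to p is nontrivial if and only if x is a field automorphism of K (conjugate under Aut(K) to a non-identity standard field automorphism) and p does not divide the number of fixed points of x on K. -/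
theorem result {F : Type*} [Field F] [Fintype F] {r : ℕ} [Fact r.Prime] [CharP F r] {m : ℕ} (hm : 2 ≤ m) (hs : m = 2 → 3 ≤ Fintype.card F) (hK : IsSimpleGroup (Cfsg.PSp m F)) (A : Subgroup (MulAut (Cfsg.PSp m F))) (hinn : ∀ k : Cfsg.PSp m F, MulAut.conj k ∈ A) {p : ℕ} [Fact p.Prime] (hpr : p ≠ r) (x : MulAut (Cfsg.PSp m F)) (hxA : x ∈ A) (hord : orderOf x = p) (hnot : ¬ Cfsg.IsInnerDiagonalAutPSp x) :
    Cfsg.pPrimeCore p ↥(A ⊓ Subgroup.centralizer {x}) ≠ ⊥ ↔ (Cfsg.IsFieldAutClassPSp x ∧ Nat.Coprime p (Nat.card ↥(MonoidHom.eqLocus x.toMonoidHom (MonoidHom.id (Cfsg.PSp m F))))) := by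
  have hp : p.Prime := Fact.out
  obtain ⟨σ, g, hσ, hxe⟩ : ∃ (σ : F ≃+* F) (g : Cfsg.GSp m F), orderOf σ = p ∧
      x = conjPSp g * fieldPSp σ * (conjPSp g)⁻¹ := by
    have hP : Preserves x ∧ Preserves x⁻¹ := by
      by_cases h4 : m = 2 → r ≠ 2
      · exact ⟨preserves_of_ne_two hm h4 x, preserves_of_ne_two hm h4 x⁻¹⟩
      · push Not at h4
        obtain ⟨h2, rfl⟩ := h4
        have ho : Odd (orderOf x) := hord ▸ hp.odd_of_ne_two hpr
        exact ⟨preserves_of_odd_order h2 x ho, preserves_of_odd_order h2 x⁻¹ (by rwa [orderOf_inv])⟩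
    obtain ⟨g, τ, hg, hind⟩ := classification_of_preserves hm hP.1 hP.2
    have hxe : x = conjPSp ⟨g, hg⟩ * fieldPSp τ := eq_of_isInduced (g := ⟨g, hg⟩) hind
    have hτ1 : τ ≠ 1 := by
      rintro rfl
      exact hnot ⟨g, hg, hind⟩
    have hpow : τ ^ p = 1 := by
      have h1 := pow_orderOf_eq_one x
      rw [hord, hxe, conj_field_pow] at h1
      exact (eq_one_of_conj_field_eq_one hm h1).1
    have hτ : orderOf τ = p := orderOf_eq_prime hpow hτ1
    obtain ⟨_, ⟨k, rfl⟩, hk⟩ := conj_of_orderOf_fieldPSp hτ hm ⟨g, hg⟩ (hxe ▸ hord)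
    exact ⟨τ, k, hτ, hxe.trans hk⟩
  have hclass : Cfsg.IsFieldAutClassPSp x := by
    refine ⟨(conjPSp g)⁻¹, σ, ?_, ?_⟩
    · intro e
      rw [e, show RingEquiv.refl F = 1 from rfl, orderOf_one] at hσ
      exact hp.one_lt.ne hσ
    · rw [isStdFieldAutPSp_iff, hxe]
      group
  rw [← CfsgLib.Balance.card_inn_centralizer (fun k => eq_one_of_conj_eq_one hm) x]
  rw [hxe] at hclass ⊢
  rw [core_fieldPSp_iff σ hm hs hpr hσ g A (by rintro _ ⟨k, rfl⟩; exact hinn k), and_iff_right hclass]
  exact Nat.coprime_comm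

end Cfsg.Agent.S2730
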