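import Cfsg.Statements.S2731
import Cfsg.Agent.Lib.KnownSimple.POAut.BalanceBridge

set_option autoImplicit false
open Cfsg CfsgLib.Classical CfsgLib.POAut

namespace Cfsg.Agent.S2731

/-- A criterion for the failure of local balance in almost simple groups whose socle is an odd-dimensional orthogonal group Ω_{2m+1}(F) (m ≥ 3, |F| odd; the form x₀² + Σ xᵢ yᵢ). Let F be a finite field of characteristic r and K the (simple) group in question; let A be a group of automorphisms of K containing all inner automorphisms, and x ∈ A an automorphism of prime order p ≠ r that is not inner-diagonal (not induced by a similarity of the form). Then the largest normal subgroup of C_A(x) of order prime to p is nontrivial if and only if x is a field automorphism of K (conjugate under Aut(K) to a non-identity standard field automorphism) and p does not divide the number of fixed points of x on K. -/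
theorem result {F : Type*} [Field F] [Fintype F] {r : ℕ} [Fact r.Prime] [CharP F r] (hodd : Odd (Fintype.card F)) {m : ℕ} (hm : 3 ≤ m) (hK : IsSimpleGroup (Cfsg.POmega F (Cfsg.quadFormOdd m F))) (A : Subgroup (MulAut (Cfsg.POmega F (Cfsg.quadFormOdd m F)))) (hinn : ∀ k : Cfsg.POmega F (Cfsg.quadFormOdd m F), MulAut.conj k ∈ A) {p : ℕ} [Fact p.Prime] (hpr : p ≠ r) (x : MulAut (Cfsg.POmega F (Cfsg.quadFormOdd m F))) (hxA : x ∈ A) (hord : orderOf x = p) (hnot : ¬ Cfsg.IsInnerDiagonalAutPOmegaOdd m x) :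
    Cfsg.pPrimeCore p ↥(A ⊓ Subgroup.centralizer {x}) ≠ ⊥ ↔ (Cfsg.IsFieldAutClassPOmega (Cfsg.quadFormOdd m F) x ∧ Nat.Coprime p (Nat.card ↥(MonoidHom.eqLocus x.toMonoidHom (MonoidHom.id (Cfsg.POmega F (Cfsg.quadFormOdd m F)))))) := by
  have hQ := good_qOdd (F := F) hodd hm
  obtain ⟨T, hT⟩ := act_surjective hQ (autE (coe_qOdd m F) hQ x)
  have key : ∀ fq (h : ⇑(qOdd m F) = fq) (y : MulAut (Cfsg.POmega F fq)),
      autE h hQ y ∈ (simSub hQ).map (act _) → Cfsg.IsSimilarityInducedAutPOmega fq y := by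
    rintro _ rfl y hy
    exact (similarityInduced_iff hQ y).2 hy
  have hne : sigHom hQ T ≠ 1 := fun h => hnot (key _ (coe_qOdd m F) x ⟨T, h, hT⟩)
  obtain ⟨σ, hTσ⟩ : ∃ σ, sigHom hQ T = σ := ⟨_, rfl⟩
  rw [hTσ] at hne
  obtain ⟨hσ, hpow⟩ := prime_order_dataE (coe_qOdd m F) hQ hT.symm hTσ hne Fact.out hord
  haveI : Fintype (CfsgLib.PSLAut.fixedField σ) := Fintype.ofFinite _
  set f := (CfsgLib.PSLAut.fixedField σ).subtype
  have hfix := fix_fixedField σ
  have hf : ∀ z, σ (f z) = f z := fun z => (hfix _).2 ⟨z, rfl⟩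
  have hcP := compat_qOdd f m
  have hP₀nd := hcP.polarNondeg_down hQ.nondeg
  obtain ⟨S, c, hTS⟩ := exists_model_odd hQ.nondeg hσ hTσ hpow hfix
  have hxS : autE (coe_qOdd m F) hQ x = act _ (fieldX hcP hf S) := by rw [← hT, hTS, map_mul, act_scal, one_mul]
  have hclass : Cfsg.IsFieldAutClassPOmega (Cfsg.quadFormOdd m F) x := by
    let Sid : Sim (qOdd m F) (qOdd m F) :=
      { e := LinearEquiv.refl F _, μ := 1, ne := one_ne_zero, quad := fun v => (one_mul _).symm }
    obtain ⟨k, -, hk⟩ := exists_conj_fieldX hcP hf hQ (oddDiag hQ) hP₀nd Sid S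
    have hid : fieldX hcP hf Sid = semOf (one_pair (rat_qOdd (m := m) σ)) := gammaO_ext fun v => by
      rw [semOf_apply, Units.val_one, Matrix.one_mulVec]
      exact (Sim.gam_apply Sid _ v).trans (phi_apply hcP hf v)
    refine fieldAutClass_of_conjE (coe_qOdd m F) hQ (rat_qOdd (m := m) σ) hne k ?_
    rw [← hid, ← hk]
    exact hxS
  rw [and_iff_right hclass]
  have hodd₀ : Odd (Fintype.card (CfsgLib.PSLAut.fixedField σ)) := by
    have h := CfsgLib.PSLAut.card_fixedField σ
    rw [hσ] at h
    rw [h, Nat.odd_pow_iff (Fact.out : p.Prime).ne_zero, Nat.card_eq_fintype_card] at hodd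
    exact hodd
  exact balanceE hcP hf hfix hQ (good_qOdd hodd₀ hm) hQ (coe_qOdd m F) hK hσ
    (fun _ => Ring.two_ne_zero (fun hc => by
      rw [FiniteField.even_card_iff_char_two] at hc
      rw [Nat.odd_iff] at hodd
      omega)) A hinn x S hxS

end Cfsg.Agent.S2731
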