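import Cfsg.Statements.S2733
import Cfsg.Agent.Lib.KnownSimple.POAut.GraphBalance
import Cfsg.Agent.Lib.KnownSimple.POAut.GraphMinus
import Cfsg.Agent.Lib.KnownSimple.POAut.FieldMinus
import Cfsg.Agent.Lib.KnownSimple.POAut.BalanceBridge

set_option autoImplicit false
set_option maxHeartbeats 1600000
open Cfsg CfsgLib.Classical CfsgLib.Classical22 CfsgLib.POAut

namespace Cfsg.Agent.S2733

/-- A conjugate of a standard field automorphism of a similar form transports to a standard field automorphism. -/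
private theorem exists_transport {F : Type*} [Field F] [Fintype F] {ι : Type} [Fintype ι] [DecidableEq ι]
    {Q Q' : QuadraticForm F (ι → F)} {fq fq' : (ι → F) → F} (h : ⇑Q = fq) (h' : ⇑Q' = fq')
    (hQ : Good Q) (hQ' : Good Q') (S : Sim Q' Q) {σ : F ≃+* F} (hrat : ∀ v, Q' (σ ∘ v) = σ (Q' v))
    (x : MulAut (Cfsg.POmega F fq)) (hx : autE h hQ x = act Q (S.gam (semOf (one_pair hrat)))) :
    ∃ ψ : Cfsg.POmega F fq ≃* Cfsg.POmega F fq',
      Cfsg.IsFieldAutPOmegaOf fq' σ ((ψ.symm.trans x).trans ψ) := by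
  subst h h'
  rw [autE_rfl] at hx
  refine ⟨(poEquiv Q hQ).trans ((S.quot hQ' hQ).symm.trans (poEquiv Q' hQ').symm),
    (fieldAut_iff hQ' hrat _).2 ?_⟩
  have e : autT Q hQ x = ((S.quot hQ' hQ).symm.trans (act Q' (semOf (one_pair hrat)))).trans (S.quot hQ' hQ) :=
    hx.trans (Sim.act_gam S hQ' hQ _)
  refine MulEquiv.ext fun z => ?_
  have e1 := congrArg (S.quot hQ' hQ).symm (DFunLike.congr_fun e (S.quot hQ' hQ z))
  simp only [MulEquiv.trans_apply, MulEquiv.symm_apply_apply] at e1
  rw [← e1]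
  simp [autT]

/-- A similitude preserving the classes induces an inner-diagonal automorphism. -/
private theorem innerDiagonal_of_par {F : Type*} [Field F] [Fintype F] {m : ℕ} {a b : F} (hab : BinAniso a b)
    (hQ : Pre (qExt m (qBin a b))) (x : MulAut (Cfsg.POmega F (Cfsg.quadFormMinus m F a b)))
    {T : simSub hQ} (hpar : minusPar hab hQ T = 1) (hx : autE (coe_qExt_qBin m a b) hQ x = act _ T.1) :
    Cfsg.IsInnerDiagonalAutPOmegaMinus m a b x := by
  have key : ∀ fq (h : ⇑(qExt m (qBin a b)) = fq) (β : MulAut (Cfsg.POmega F fq)),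
      autE h hQ β = act _ T.1 →
      ∃ g : GL ((Fin m ⊕ Fin m) ⊕ Fin 2) F, g ∈ Cfsg.Geo.quadSimilarityGroup (F := F) fq ∧
        Cfsg.PreservesSingularClassesMinus m a b (g : Matrix ((Fin m ⊕ Fin m) ⊕ Fin 2) ((Fin m ⊕ Fin m) ⊕ Fin 2) F) ∧
        Cfsg.IsInducedBySemilinearPOmega fq g (RingEquiv.refl F) β := by
    rintro _ rfl β hβ
    rw [autE_rfl] at hβ
    obtain ⟨g, hg, h1, h2⟩ := exists_matrix hQ T.2
    exact ⟨g, hg, (preservesMinus_iff hab hQ T.2 _ h1).2 hpar, (h2 β).2 hβ⟩
  exact key _ _ x hx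

/-- A criterion for the failure of local balance in almost simple groups whose socle is a minus-type orthogonal group PΩ⁻_{2m+2}(F) (m ≥ 3; the form Σ xᵢ yᵢ + z₁² + a z₁ z₂ + b z₂² with anisotropic binary part). Let F be a finite field of characteristic r and K the (simple) group in question; let A be a group of automorphisms of K containing all inner automorphisms, and x ∈ A an automorphism of prime order p ≠ r that is not inner-diagonal (not induced by a class-preserving similarity, classes read over a quadratic extension). Then the largest normal subgroup of C_A(x) of order prime to p is nontrivial if and only if x is a field automorphism of K (conjugate under Aut(K) to a non-identity standard field automorphism) and p does not divide the number of fixed points of x on K. -/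
theorem result {F : Type*} [Field F] [Fintype F] {r : ℕ} [Fact r.Prime] [CharP F r] {m : ℕ} (hm : 3 ≤ m) (a b : F) (hab : (∀ z₁ z₂ : F, z₁ ^ 2 + a * z₁ * z₂ + b * z₂ ^ 2 = 0 → z₁ = 0 ∧ z₂ = 0)) (hK : IsSimpleGroup (Cfsg.POmega F (Cfsg.quadFormMinus m F a b))) (A : Subgroup (MulAut (Cfsg.POmega F (Cfsg.quadFormMinus m F a b)))) (hinn : ∀ k : Cfsg.POmega F (Cfsg.quadFormMinus m F a b), MulAut.conj k ∈ A) {p : ℕ} [Fact p.Prime] (hpr : p ≠ r) (x : MulAut (Cfsg.POmega F (Cfsg.quadFormMinus m F a b))) (hxA : x ∈ A) (hord : orderOf x = p) (hnot : ¬ Cfsg.IsInnerDiagonalAutPOmegaMinus m a b x) :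
    Cfsg.pPrimeCore p ↥(A ⊓ Subgroup.centralizer {x}) ≠ ⊥ ↔ (Cfsg.IsFieldAutClassPOmegaMinus m x ∧ Nat.Coprime p (Nat.card ↥(MonoidHom.eqLocus x.toMonoidHom (MonoidHom.id (Cfsg.POmega F (Cfsg.quadFormMinus m F a b)))))) := by
  classical
  have hab' : BinAniso a b := hab
  haveI := qe_fact hab'
  haveI : Nonempty ((Fin m ⊕ Fin m) ⊕ Fin 2) := ⟨Sum.inr 0⟩
  have hQ := good_qMinus (F := F) hm hab'
  set e := autE (coe_qExt_qBin m a b) hQ.toPre with he
  obtain ⟨T, hT⟩ := act_surjective hQ (e x)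
  by_cases hσ1 : sigHom hQ.toPre T = 1
  · -- an involutory graph automorphism
    have hTs : T ∈ simSub hQ.toPre := hσ1
    have hpar : minusPar hab' hQ.toPre ⟨T, hTs⟩ ≠ 1 := fun h => hnot (innerDiagonal_of_par hab' hQ.toPre x h hT.symm)
    obtain ⟨c, hc⟩ := exists_scal_of_act hQ (T := T ^ p) (by
      rw [map_pow, hT, ← map_pow, ← hord, pow_orderOf_eq_one, map_one])
    obtain rfl : p = 2 := by
      by_contra hp2
      obtain ⟨k, hk⟩ := (Fact.out : p.Prime).odd_of_ne_two hp2
      have h1 : minusPar hab' hQ.toPre ⟨T, hTs⟩ ^ p = 1 := by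
        rw [← map_pow, show (⟨T, hTs⟩ : simSub hQ.toPre) ^ p = ⟨scal _ c, scal_mem_simSub hQ.toPre c⟩ from
          Subtype.ext hc, minusPar_scal]
      have h2 : minusPar hab' hQ.toPre ⟨T, hTs⟩ * minusPar hab' hQ.toPre ⟨T, hTs⟩ = 1 := by
        rcases zmod2_cases (minusPar hab' hQ.toPre ⟨T, hTs⟩) with h | h <;> rw [h] <;> decide
      rw [hk, pow_succ, pow_mul, sq, h2, one_pow, one_mul] at h1
      exact hpar h1
    have hchar : ringChar F ≠ 2 := fun h => hpr (by rw [← ringChar.eq F r, h])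
    have h2F : (2 : F) ≠ 0 := Ring.two_ne_zero hchar
    have hT2 : T * T = scal _ c := by rw [← sq, hc]
    have hnoclass : ¬ Cfsg.IsFieldAutClassPOmegaMinus m x := by
      intro hx
      obtain ⟨σ, a', b', T', hne, -, -, -, hT', hxe⟩ := exists_of_fieldAutClassMinus hm hab' hx
      obtain ⟨d, hd⟩ := (act_eq_iff hQ).1 (hxe.symm.trans hT.symm)
      refine hne ?_
      rw [← hT', hd, map_mul, hσ1, sigHom_scal, one_mul]
    refine iff_of_false (not_not.2 ?_) fun h => hnoclass h.1
    set A' := A.comap e.symm.toMonoidHom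
    have hAA : A'.comap e.toMonoidHom = A := by
      ext y
      simp [A']
    have hA' : Cfsg.Inn (TQ (qExt m (qBin a b))) ≤ A' := by
      intro y hy
      obtain ⟨z, rfl⟩ := e.surjective y
      have hz : z ∈ Cfsg.Inn (Cfsg.POmega F (Cfsg.quadFormMinus m F a b)) := by
        rw [inn_comapE (coe_qExt_qBin m a b) hQ.toPre]
        exact hy
      obtain ⟨k, rfl⟩ := hz
      simpa [A'] using hinn k
    haveI : Finite (MulAut (TQ (qExt m (qBin a b)))) := Finite.of_surjective _ (act_surjective hQ)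
    obtain ⟨ec⟩ := centralizer_comap_equiv e A' x
    rw [hAA, ← hT] at ec
    suffices hbot : Cfsg.pPrimeCore 2 ↥(A' ⊓ Subgroup.centralizer {act _ T}) = ⊥ by
      rw [← CfsgLib.Cores.map_pPrimeCore_equiv ec] at hbot
      exact (Subgroup.map_eq_bot_iff_of_injective _ ec.injective).1 hbot
    by_cases hsq : IsSquare (mulFac T)
    · obtain ⟨D, hG, -, -⟩ := exists_minus_data hQ hchar
      have hDpar : D.par ⟨T, hTs⟩ ≠ 1 := fun h => hpar (by
        obtain ⟨_, h'⟩ := (mem_minusG binAniso_of_fact hQ.toPre).1 (hG ▸ ⟨⟨T, hTs⟩, h, rfl⟩ :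
          T ∈ minusG binAniso_of_fact hQ.toPre)
        exact h')
      obtain ⟨d, h, hd, hh, hodd⟩ := D.involution_normal_form hDpar hT2 hsq
      have hd' : T = scal _ d * qIncl _ h := hd
      rw [hd', map_mul, act_scal, one_mul]
      have hsum := finrank_eigS h2F hh
      rw [finrank_qMinus_space] at hsum
      refine core_involution_eq_bot hQ h2F h hh ?_ hodd A' hA'
      rw [Nat.odd_iff] at hodd ⊢
      omega
    · have hcc : (c : F) * c = mulFac T * mulFac T := by
        obtain ⟨v₀, hv₀⟩ := exists_value (qExt m (qBin a b)) hQ.nondeg (by have := hQ.seven; omega) one_ne_zero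
        have hQT : ∀ v, qExt m (qBin a b) (addT T v) = mulFac T * qExt m (qBin a b) v := fun v => by
          rw [(semisim_spec T).quad, linear_of_simSub hQ.toPre hTs]
        have h1 := hQT (addT T v₀)
        rw [← gammaO_mul_apply, hT2, scal_apply, quad_smul, hQT, hv₀, mul_one, mul_one] at h1
        exact h1
      rcases mul_self_eq_mul_self_iff.1 hcc with h | h
      swap
      · exact absurd (minusPar_eq_one_of_nonsquare' (T := ⟨T, hTs⟩) hm hQ.toPre hchar hT2 hsq (Or.inr h)) hpar
      have hev : ¬ Odd m := fun ho =>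
        hpar (minusPar_eq_one_of_nonsquare (T := ⟨T, hTs⟩) ho hm hQ.toPre hchar hT2 hsq)
      refine core_selfAdjoint_eq_bot hQ h2F T hTs hT2 h (h ▸ hsq) ?_ A' hA'
      rw [finrank_qMinus_space]
      rcases Nat.not_odd_iff_even.1 hev with ⟨k, hk⟩
      omega
  · -- a field automorphism
    obtain ⟨hσ, hpow⟩ := prime_order_dataE (coe_qExt_qBin m a b) hQ.toPre hT.symm (rfl : sigHom hQ.toPre T = _) hσ1
      Fact.out hord
    set σ := sigHom hQ.toPre T with hσdef
    haveI : Fintype (CfsgLib.PSLAut.fixedField σ) := Fintype.ofFinite _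
    set f := (CfsgLib.PSLAut.fixedField σ).subtype
    have hfix : ∀ z : F, σ z = z ↔ z ∈ Set.range f := fix_fixedField σ
    obtain ⟨a₀, b₀, h0, h1, hp2, S, c, hTS⟩ := exists_model_minus hab' hQ.toPre hσ (rfl : sigFun T = σ) hpow hfix
    have hf : ∀ z, σ (f z) = f z := fun z => (hfix _).2 ⟨z, rfl⟩
    have hcP := compat_qMinus f m a₀ b₀
    have hxS : e x = act _ (fieldX hcP hf S) := by
      rw [← hT, hTS, map_mul, act_scal, one_mul]
    have hQ' := good_qMinus (F := F) hm h1
    have hrat := rat_qMinus (m := m) σ (hf a₀) (hf b₀)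
    have hclass : Cfsg.IsFieldAutClassPOmegaMinus m x := by
      have hid : phi f σ hcP hf = semOf (one_pair hrat) := gammaO_ext fun v => by
        rw [semOf_apply, Units.val_one, Matrix.one_mulVec]
        exact phi_apply hcP hf v
      obtain ⟨ψ, hψ⟩ := exists_transport (coe_qExt_qBin m a b) (coe_qExt_qBin m (f a₀) (f b₀)) hQ hQ' S hrat x
        (hxS.trans (by rw [fieldX, hid]))
      exact ⟨f a₀, f b₀, ψ, σ, h1, hσ1, hf a₀, hf b₀, hψ⟩
    rw [and_iff_right hclass]
    exact balanceE hcP hf hfix hQ (good_qMinus hm h0) hQ' (coe_qExt_qBin m a b) hK hσ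
      (fun h => absurd h hp2) A hinn x S hxS

end Cfsg.Agent.S2733
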