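import Cfsg.Statements.S2735
import Cfsg.Agent.Lib.KnownSimple.POAut.Classes

set_option autoImplicit false
open Cfsg CfsgLib.Classical CfsgLib.POAut

namespace Cfsg.Agent.S2735

/-- Let T = Ω_{2m+1}(F) (m ≥ 3, |F| odd) and x a field automorphism of T of prime order r. Then an element y of the coset Inndiag(T)·x (y = δ x with δ induced by a similarity of the form) has order r if and only if y is conjugate to x by an element of Inndiag(T). (T has no graph or graph-field automorphisms.) -/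
theorem result {F : Type*} [Field F] [Fintype F] (hodd : Odd (Fintype.card F)) {m : ℕ} (hm : 3 ≤ m) (x δ : MulAut (Cfsg.POmega F (Cfsg.quadFormOdd m F))) (hx : Cfsg.IsFieldAutClassPOmega (Cfsg.quadFormOdd m F) x) {r : ℕ} (hr : r.Prime) (hxr : orderOf x = r) (hδ : δ ∈ Cfsg.inndiagPOmegaOdd m F) :
    orderOf (δ * x) = r ↔ Cfsg.IsConjUnder (Cfsg.inndiagPOmegaOdd m F) x (δ * x) := by
  have hQ := good_qOdd (F := F) hodd hm
  rw [inndiagOdd_eqE hQ] at hδ ⊢
  obtain ⟨σ, A, hne, hxe⟩ := fieldAutClassE (coe_qOdd m F) hQ rat_qOdd hx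
  have hT : sigHom hQ (A * semOf (one_pair (rat_qOdd (m := m) σ)) * A⁻¹) = σ := by
    rw [sigHom_conj, sigHom_semOf]
  obtain ⟨hσ, hpow⟩ := prime_order_dataE (coe_qOdd m F) hQ hxe hT hne hr hxr
  haveI : Fintype (CfsgLib.PSLAut.fixedField σ) := Fintype.ofFinite _
  have hnd : CfsgLib.Classical.PolarNondeg (qOdd m (CfsgLib.PSLAut.fixedField σ)) :=
    (compat_qOdd (CfsgLib.PSLAut.fixedField σ).subtype m).polarNondeg_down hQ.nondeg
  exact orderOf_coset_iff (compat_qOdd (CfsgLib.PSLAut.fixedField σ).subtype m)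
    (fun z => (fix_fixedField σ _).2 ⟨z, rfl⟩) (coe_qOdd m F) hQ (oddDiag hQ) hnd hδ hxe hr hσ hT hpow
    fun T' hT' hpow' _ => exists_model_odd hQ.nondeg hσ hT' hpow' (fix_fixedField σ)

end Cfsg.Agent.S2735
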