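import Cfsg.Statements.S2736
import Cfsg.Agent.Lib.KnownSimple.POAut.Classes

set_option autoImplicit false
open Cfsg CfsgLib.Classical CfsgLib.POAut

namespace Cfsg.Agent.S2736

/-- Let T = PΩ⁺_{2m}(F) with m ≥ 5 (dimension ≠ 8) and x a field automorphism or a graph-field automorphism of T of prime order r. Then an element y of the coset Inndiag(T)·x (y = δ x with δ induced by a class-preserving similarity) has order r if and only if y is conjugate to x by an element of Inndiag(T). -/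
theorem result {F : Type*} [Field F] [Fintype F] {m : ℕ} (hm : 5 ≤ m) (x δ : MulAut (Cfsg.POmega F (Cfsg.quadFormPlus m F))) (hx : Cfsg.IsFieldAutClassPOmega (Cfsg.quadFormPlus m F) x ∨ Cfsg.IsGraphFieldAutClassPOmegaPlus m x) {r : ℕ} (hr : r.Prime) (hxr : orderOf x = r) (hδ : δ ∈ Cfsg.inndiagPOmegaPlus m F) :
    orderOf (δ * x) = r ↔ Cfsg.IsConjUnder (Cfsg.inndiagPOmegaPlus m F) x (δ * x) := by
  have hQ := good_qPlus (F := F) (m := m) hm
  rw [inndiagPlus_eqE hQ] at hδ ⊢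
  haveI : Nonempty (Fin m ⊕ Fin m) := ⟨Sum.inl ⟨0, by omega⟩⟩
  obtain ⟨σ, T, hne, hT, hxe⟩ : ∃ (σ : F ≃+* F) (T : gammaO (qPlus m F)), σ ≠ 1 ∧ sigHom hQ T = σ ∧
      autE (coe_qPlus m) hQ x = act _ T := by
    rcases hx with h | h
    · obtain ⟨σ, A, hne, e⟩ := fieldAutClassE (coe_qPlus m) hQ rat_qPlus h
      exact ⟨σ, _, hne, by rw [sigHom_conj, sigHom_semOf], e⟩
    · obtain ⟨σ, A, v, hv, hne, e⟩ := exists_of_graphFieldClass hQ h
      exact ⟨σ, _, hne, by rw [sigHom_conj, map_mul, sigHom_qIncl, one_mul, sigHom_semOf], e⟩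
  obtain ⟨hσ, hpow⟩ := prime_order_dataE (coe_qPlus m) hQ hxe hT hne hr hxr
  haveI : Fintype (CfsgLib.PSLAut.fixedField σ) := Fintype.ofFinite _
  have hfix := fix_fixedField σ
  set f := (CfsgLib.PSLAut.fixedField σ).subtype
  have hf : ∀ z, σ (f z) = f z := fun z => (hfix _).2 ⟨z, rfl⟩
  set par := parityHom hQ.nondeg (finrank_qPlus_space m) (maxS_xLin m)
  have hpar : ∀ T', T' * T⁻¹ ∈ (plusDiag hQ).G → par T' = par T := fun T' h => by
    have h1 : par (T' * T⁻¹) = 1 := MonoidHom.mem_ker.1 h.2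
    rwa [map_mul, map_inv, mul_inv_eq_one] at h1
  have hdec : (1 : Multiplicative (ZMod 2)) ≠ Multiplicative.ofAdd 1 := by decide
  rcases exists_model_plus hQ hσ hT hpow hfix with ⟨hp, -⟩ | ⟨hp, n, a₀, b₀, rfl, h0, -, -⟩
  · have hnd := (compat_qPlus f m).polarNondeg_down hQ.nondeg
    refine orderOf_coset_iff (compat_qPlus f m) hf (coe_qPlus m) hQ (plusDiag hQ) hnd hδ hxe hr hσ hT hpow
      fun T' hT' hpow' hG => ?_
    rcases exists_model_plus hQ hσ hT' hpow' hfix with ⟨-, h⟩ | ⟨hp', -⟩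
    · exact h
    · exact absurd ((hp.symm.trans (hpar T' hG).symm).trans hp') hdec
  · haveI : Nonempty ((Fin n ⊕ Fin n) ⊕ Fin 2) := ⟨Sum.inr 0⟩
    refine orderOf_coset_iff (compat_qMinus f n a₀ b₀) hf (coe_qPlus (n + 1)) hQ (plusDiag hQ)
      (polarNondeg_qExt (polarNondeg_qBin h0) n) hδ hxe hr hσ hT hpow fun T' hT' hpow' hG => ?_
    rcases exists_model_plus hQ hσ hT' hpow' hfix with ⟨hp', -⟩ | ⟨-, n', a₁, b₁, hn', h2, -, S, c, e⟩
    · exact absurd ((hp'.symm.trans (hpar T' hG)).trans hp) hdec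
    · obtain rfl : n = n' := by omega
      obtain ⟨S₀⟩ := Sim.nonempty_of_similar (similar_qExt_qBin n h0 h2)
      exact ⟨(bcSim (compat_qMinus f n a₀ b₀) (compat_qMinus f n a₁ b₁) S₀).trans S, c, by
        rw [e, fieldX, fieldX, Sim.gam_trans, bcSim_phi]⟩

end Cfsg.Agent.S2736
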