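import Cfsg.Statements.S2737
import Cfsg.Agent.Lib.KnownSimple.POAut.Classes

set_option autoImplicit false
open Cfsg CfsgLib.Classical CfsgLib.POAut

namespace Cfsg.Agent.S2737

/-- Let T = PΩ⁻_{2m+2}(F) (m ≥ 3; form with anisotropic binary part) and x a field automorphism of T of prime order r. Then an element y of the coset Inndiag(T)·x has order r if and only if y is conjugate to x by an element of Inndiag(T). (T has no graph-field automorphisms.) -/
theorem result {F : Type*} [Field F] [Fintype F] {m : ℕ} (hm : 3 ≤ m) (a b : F) (hab : (∀ z₁ z₂ : F, z₁ ^ 2 + a * z₁ * z₂ + b * z₂ ^ 2 = 0 → z₁ = 0 ∧ z₂ = 0)) (x δ : MulAut (Cfsg.POmega F (Cfsg.quadFormMinus m F a b))) (hx : Cfsg.IsFieldAutClassPOmegaMinus m x) {r : ℕ} (hr : r.Prime) (hxr : orderOf x = r) (hδ : δ ∈ Cfsg.inndiagPOmegaMinus m F a b) :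
    orderOf (δ * x) = r ↔ Cfsg.IsConjUnder (Cfsg.inndiagPOmegaMinus m F a b) x (δ * x) := by
  have hQ := good_qMinus (F := F) hm hab
  rw [inndiagMinus_eqE hab hQ] at hδ ⊢
  obtain ⟨σ, a', b', T, hne, -, -, -, hT, hxe⟩ := exists_of_fieldAutClassMinus hm hab hx
  obtain ⟨hσ, hpow⟩ := prime_order_dataE (coe_qExt_qBin m a b) hQ hxe hT hne hr hxr
  have hfix := fix_fixedField σ
  haveI : Fintype (CfsgLib.PSLAut.fixedField σ) := Fintype.ofFinite _
  obtain ⟨a₀, b₀, h0, h1, -, -, -, -⟩ := exists_model_minus hab hQ hσ hT hpow hfix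
  set f := (CfsgLib.PSLAut.fixedField σ).subtype
  have hf : ∀ z, σ (f z) = f z := fun z => (hfix _).2 ⟨z, rfl⟩
  refine orderOf_coset_iff (compat_qMinus f m a₀ b₀) hf (coe_qExt_qBin m a b) hQ (minusDiag hab hQ)
    (polarNondeg_qExt (polarNondeg_qBin h0) m) hδ hxe hr hσ hT hpow fun T' hT' hpow' _ => ?_
  obtain ⟨a₁, b₁, h2, -, -, S, c, e⟩ := exists_model_minus hab hQ hσ hT' hpow' hfix
  obtain ⟨S₀⟩ := Sim.nonempty_of_similar (similar_qExt_qBin m h0 h2)
  exact ⟨(bcSim (compat_qMinus f m a₀ b₀) (compat_qMinus f m a₁ b₁) S₀).trans S, c, by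
    rw [e, fieldX, fieldX, Sim.gam_trans, bcSim_phi]⟩

end Cfsg.Agent.S2737
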