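import Cfsg.Statements.S2738
import Cfsg.Agent.Lib.Classical.SLBasic

set_option autoImplicit false
open Cfsg
open scoped commutatorElement

namespace Cfsg.Agent.S2738

/-- The special linear group SL(3, 4) has centre of order 3 and does not split over it: no subgroup is a complement to the centre (so SL(3, 4) is a non-split central extension of PSL(3, 4) by a group of order 3). -/
theorem result (F : Type*) [Field F] [Fintype F] (hF : Fintype.card F = 4) : Nat.card ↥(Subgroup.center (Matrix.SpecialLinearGroup (Fin 3) F)) = 3 ∧ ¬ ∃ K : Subgroup (Matrix.SpecialLinearGroup (Fin 3) F), Subgroup.IsComplement' (Subgroup.center (Matrix.SpecialLinearGroup (Fin 3) F)) K := by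
  classical
  have hu : Nat.card Fˣ = 3 := by
    rw [Nat.card_units, Nat.card_eq_fintype_card, hF]
  have hroots : rootsOfUnity (Fintype.card (Fin 3)) F = ⊤ := by
    ext u
    simp only [mem_rootsOfUnity, Subgroup.mem_top, iff_true, Fintype.card_fin]
    rw [← hu]
    exact pow_card_eq_one'
  have hcard : Nat.card ↥(Subgroup.center (Matrix.SpecialLinearGroup (Fin 3) F)) = 3 := by
    rw [Nat.card_congr (Matrix.SpecialLinearGroup.center_equiv_rootsOfUnity' (0 : Fin 3)).toEquiv,
      hroots, Subgroup.card_top, hu]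
  refine ⟨hcard, ?_⟩
  rintro ⟨K, hK⟩
  set Z := Subgroup.center (Matrix.SpecialLinearGroup (Fin 3) F)
  have hcomm : commutator (Matrix.SpecialLinearGroup (Fin 3) F) ≤ K := by
    rw [commutator_def, Subgroup.commutator_le]
    intro a _ b _
    obtain ⟨⟨z, k⟩, rfl⟩ := hK.2 a
    obtain ⟨⟨w, l⟩, rfl⟩ := hK.2 b
    have hz : ∀ x, x * (z : Matrix.SpecialLinearGroup (Fin 3) F) = z * x :=
      fun x => Subgroup.mem_center_iff.1 z.2 x
    have hw : ∀ x, x * (w : Matrix.SpecialLinearGroup (Fin 3) F) = w * x :=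
      fun x => Subgroup.mem_center_iff.1 w.2 x
    have e : ⁅((z : Matrix.SpecialLinearGroup (Fin 3) F) * k), ((w : Matrix.SpecialLinearGroup (Fin 3) F) * l)⁆
        = ⁅(k : Matrix.SpecialLinearGroup (Fin 3) F), (l : Matrix.SpecialLinearGroup (Fin 3) F)⁆ := by
      simp only [commutatorElement_def, mul_inv_rev]
      calc _ = (z : Matrix.SpecialLinearGroup (Fin 3) F) * ((k : Matrix.SpecialLinearGroup (Fin 3) F) * w)
            * l * k.1⁻¹ * (z.1⁻¹ * l.1⁻¹) * w.1⁻¹ := by group
        _ = (z : Matrix.SpecialLinearGroup (Fin 3) F) * ((w : Matrix.SpecialLinearGroup (Fin 3) F) * k)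
            * l * k.1⁻¹ * (l.1⁻¹ * z.1⁻¹) * w.1⁻¹ := by
              rw [hw, show z.1⁻¹ * l.1⁻¹ = l.1⁻¹ * z.1⁻¹ from by
                rw [← mul_inv_rev, ← mul_inv_rev, hz]]
        _ = ((z : Matrix.SpecialLinearGroup (Fin 3) F) * w) *
            ((k : Matrix.SpecialLinearGroup (Fin 3) F) * l * k.1⁻¹ * l.1⁻¹) * (z.1⁻¹ * w.1⁻¹) := by group
        _ = _ := by
              have h1 := Subgroup.mem_center_iff.1 (mul_mem z.2 w.2)
              rw [← h1, mul_assoc ((k : Matrix.SpecialLinearGroup (Fin 3) F) * l * k.1⁻¹ * l.1⁻¹),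
                ← mul_inv_rev, hw, mul_inv_cancel, mul_one]
    change ⁅((z : Matrix.SpecialLinearGroup (Fin 3) F) * k), ((w : Matrix.SpecialLinearGroup (Fin 3) F) * l)⁆ ∈ K
    rw [e, commutatorElement_def]
    exact mul_mem (mul_mem (mul_mem k.2 l.2) (inv_mem k.2)) (inv_mem l.2)
  rw [CfsgLib.Classical.commutator_SL_eq_top (by simp)] at hcomm
  have h3 := hK.card_mul_card
  rw [top_le_iff.1 hcomm, Subgroup.card_top, hcard] at h3
  have : 0 < Nat.card (Matrix.SpecialLinearGroup (Fin 3) F) := Nat.card_pos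
  omega

end Cfsg.Agent.S2738
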