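import Cfsg.Statements.S2739
import Cfsg.Agent.Lib.Classical.PSL34Three

set_option autoImplicit false
open scoped Pointwise
open Cfsg

namespace Cfsg.Agent.S2739

/-- In the projective special linear group PSL(3, 4) all subgroups of order 3 are conjugate. -/
theorem result (F : Type*) [Field F] [Fintype F] (hF : Fintype.card F = 4) (X Y : Subgroup (Matrix.ProjectiveSpecialLinearGroup (Fin 3) F)) (hX : Nat.card ↥X = 3) (hY : Nat.card ↥Y = 3) : ∃ g : Matrix.ProjectiveSpecialLinearGroup (Fin 3) F, MulAut.conj g • X = Y := by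
  classical
  have : Fact (Nat.Prime 3) := ⟨Nat.prime_three⟩
  have : Finite ↥X := Nat.finite_of_card_ne_zero (by omega)
  have gen : ∀ Z : Subgroup (Matrix.ProjectiveSpecialLinearGroup (Fin 3) F), Nat.card ↥Z = 3 →
      ∃ z, orderOf z = 3 ∧ Subgroup.zpowers z = Z := by
    intro Z hZ
    have hc : IsCyclic ↥Z := isCyclic_of_prime_card hZ
    obtain ⟨z, hz⟩ := (Subgroup.isCyclic_iff_exists_zpowers_eq_top Z).1 hc
    refine ⟨z, ?_, hz⟩
    rw [← Nat.card_zpowers, hz, hZ]
  obtain ⟨x, hx, rfl⟩ := gen X hX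
  obtain ⟨y, hy, rfl⟩ := gen Y hY
  obtain ⟨c, hc⟩ := isConj_iff.1 (CfsgLib.Classical.PSL34Three.psl_isConj_order_three hF x y hx hy)
  refine ⟨c, ?_⟩
  rw [Subgroup.pointwise_smul_def]
  erw [MonoidHom.map_zpowers]
  exact congrArg Subgroup.zpowers hc

end Cfsg.Agent.S2739
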