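import Cfsg.Statements.S2752
import Cfsg.Agent.Lib.LocalEven.S3Bound.Main

set_option autoImplicit false
universe u
open Cfsg

namespace Cfsg.Agent.S2752

/-- Let M be an elementary abelian 2-subgroup of a finite group L and G a subgroup of L acting faithfully on M by conjugation (G normalizes M and meets C(M) trivially). Assume O₂(G) = 1, the symmetric group of degree 3 is not involved in G, and every non-abelian composition factor of G is a Suzuki group Sz(2^(2n+1)) or a group PSL₂(3^(2n+1)). Then every elementary abelian 2-subgroup A of G satisfies |M / C_M(A)| ≥ |A|² and |[M, A]| ≥ |A|². -/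
theorem result {L : Type u} [Group L] [Finite L] (M G : Subgroup L) (hM : Cfsg.IsElementaryAbelian 2 M) (hGM : G ≤ Subgroup.normalizer (M : Set L)) (hf : G ⊓ Subgroup.centralizer (M : Set L) = ⊥) (ha : Cfsg.pCore 2 ↥G = ⊥) (hb : ¬ Cfsg.Involves (Equiv.Perm (Fin 3)) ↥G) (hc : Cfsg.IsCompositionKGroupWith Cfsg.IsSuzukiOrPSL2OddPowerThree ↥G) (A : Subgroup L) (hA : A ≤ G) (hAe : Cfsg.IsElementaryAbelian 2 A) : Nat.card A ^ 2 * Nat.card ↥(M ⊓ Subgroup.centralizer (A : Set L)) ≤ Nat.card M ∧ Nat.card A ^ 2 ≤ Nat.card ↥⁅M, A⁆ := by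
  classical
  set ι : ↥G →* L := G.subtype with hι
  have hact : CfsgLib.LocalEven.S3Bound.Act M ι := ⟨hM, fun g => hGM g.2, fun g hg => by
    have hmem : (g : L) ∈ G ⊓ Subgroup.centralizer (M : Set L) :=
      ⟨g.2, Subgroup.mem_centralizer_iff.2 fun v hv => (hg v hv).symm⟩
    rw [hf, Subgroup.mem_bot] at hmem
    exact Subtype.ext hmem⟩
  have hK : ∀ K : Subgroup ↥G, Cfsg.IsComponent K → CfsgLib.LocalEven.S3Bound.Nice (↥K ⧸ Subgroup.center ↥K) := by
    intro K hKc
    haveI : IsSimpleGroup (↥K ⧸ Subgroup.center ↥K) := hKc.2.2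
    have hna := CfsgLib.Local.not_isMulCommutative_quotient_center hKc.2
    exact CfsgLib.LocalEven.S3Bound.nice_of_isSuzukiOrPSL2 hna (hc K hKc.1 (Subgroup.center ↥K) inferInstance hna)
  have hA' : Cfsg.IsElementaryAbelian 2 (A.subgroupOf G) := CfsgLib.PGroup.elemAb_subgroupOf hAe
  have hmap : (A.subgroupOf G).map ι = A := Subgroup.map_subgroupOf_eq_of_le hA
  have hcard : Nat.card ↥(A.subgroupOf G) = Nat.card A :=
    Nat.card_congr (Subgroup.subgroupOfEquivOfLe hA).toEquiv
  refine ⟨?_, ?_⟩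
  · have h := CfsgLib.LocalEven.S3Bound.fix_bound hact hb ha hK hA'
    rwa [hcard, CfsgLib.LocalEven.S3Bound.fixM, hmap] at h
  · have h := CfsgLib.LocalEven.S3Bound.comm_bound hact hb ha hK hA'
    rwa [hcard, hmap] at h

end Cfsg.Agent.S2752
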