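import Cfsg.Statements.S2756
import Cfsg.Agent.Lib.LocalEven.ZJFusion.NormalSylow

set_option autoImplicit false
open Cfsg

namespace Cfsg.Agent.S2756

/-- For a finite group G the following are equivalent: (a) G has a normal Sylow 2-subgroup; (b) for every odd prime q dividing the order of G and every Sylow q-subgroup T, the normalizer of Z(J(T)) has a normal Sylow 2-subgroup; (c) for every odd prime q and every Sylow q-subgroup T, no nonidentity element of T is inverted by an element of the normalizer of Z(J(T)). Here J(T) is the Thompson subgroup generated by the abelian subgroups of T of largest order. Stated as the two equivalences (a) ⇔ (b) and (a) ⇔ (c). -/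
theorem result {G : Type*} [Group G] [Finite G] : ((∀ P : Sylow 2 G, (P : Subgroup G).Normal) ↔ ∀ (q : ℕ) [Fact q.Prime], q ≠ 2 → q ∣ Nat.card G → ∀ T : Sylow q G, ∀ P : Sylow 2 ↥(Subgroup.normalizer (Cfsg.centerThompsonAOf (T : Subgroup G) : Set G)), (P : Subgroup ↥(Subgroup.normalizer (Cfsg.centerThompsonAOf (T : Subgroup G) : Set G))).Normal) ∧ ((∀ P : Sylow 2 G, (P : Subgroup G).Normal) ↔ ∀ (q : ℕ) [Fact q.Prime], q ≠ 2 → ∀ T : Sylow q G, ∀ x ∈ (T : Subgroup G), x ≠ 1 → ∀ g ∈ Subgroup.normalizer (Cfsg.centerThompsonAOf (T : Subgroup G) : Set G), g * x * g⁻¹ ≠ x⁻¹) := by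
  have hca : (∀ (q : ℕ) [Fact q.Prime], q ≠ 2 → ∀ T : Sylow q G, ∀ x ∈ (T : Subgroup G), x ≠ 1 →
      ∀ g ∈ Subgroup.normalizer (Cfsg.centerThompsonAOf (T : Subgroup G) : Set G), g * x * g⁻¹ ≠ x⁻¹) →
      ∀ P : Sylow 2 G, (P : Subgroup G).Normal := CfsgLib.LocalEven.ZJFusion.normal_sylow_two_of_noneReal
  have hTN : ∀ {q : ℕ} [Fact q.Prime] (T : Sylow q G), (T : Subgroup G) ≤
      Subgroup.normalizer (Cfsg.centerThompsonAOf (T : Subgroup G) : Set G) := by
    intro q _ T
    rw [CfsgLib.PStab.centerThompsonAOf_eq_zjGen]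
    exact Subgroup.le_normalizer.trans (CfsgLib.PStab.normalizer_le_normalizer_zjGen 0 _)
  refine ⟨⟨fun h q _ _ _ T => ?_, fun h => hca ?_⟩, ⟨fun h q _ hq T x hx hx1 g hg he => ?_, hca⟩⟩
  · obtain ⟨N, hN, hN2, hNo⟩ := CfsgLib.LocalEven.ZJFusion.oddIndex_of_sylow_two_normal h
    haveI := hN
    refine CfsgLib.LocalEven.ZJFusion.sylow_two_normal_of_oddIndex
      (inferInstanceAs (N.subgroupOf _).Normal) (hN2.comap_of_injective _ (Subgroup.subtype_injective _)) ?_
    exact hNo.of_dvd_nat (Subgroup.relIndex_dvd_index_of_normal N _)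
  · intro q _ hq T x hx hx1 g hg he
    have hqG : q ∣ Nat.card G := by
      obtain ⟨k, hk⟩ := (IsPGroup.iff_orderOf.1 T.2) ⟨x, hx⟩
      rw [Subgroup.orderOf_mk] at hk
      rcases k with _ | k
      · exact absurd (orderOf_eq_one_iff.1 (by rw [hk, pow_zero])) hx1
      · exact (dvd_pow_self q (Nat.succ_ne_zero k)).trans (hk ▸ orderOf_dvd_natCard x)
    exact hx1 (CfsgLib.LocalEven.ZJFusion.noneReal_of_normalizer (h q hq hqG T) hq T.2 (hTN T) hx hg he)
  · obtain ⟨N, hN, hN2, hNo⟩ := CfsgLib.LocalEven.ZJFusion.oddIndex_of_sylow_two_normal h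
    exact hx1 (CfsgLib.LocalEven.ZJFusion.eq_one_of_inverted hN hN2 hNo
      (CfsgLib.LocalEven.ZJFusion.odd_orderOf_of_pGroup hq T.2 hx) he)

end Cfsg.Agent.S2756
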