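import Cfsg.Statements.S2758
import Cfsg.Agent.Lib.LocalEven.DihedralCriterion
import Cfsg.Agent.Lib.LocalEven.Basic

set_option autoImplicit false
open Cfsg

namespace Cfsg.Agent.S2758

/-- For an odd prime p and a finite group G the following are equivalent: the dihedral group of order 2p is involved in G; some element of 2-power order normalizes but does not centralize some p-subgroup of G; some element of 2-power order inverts some nonidentity element of p-power order. -/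
theorem result {G : Type*} [Group G] [Finite G] {p : ℕ} [Fact p.Prime] (hp : p ≠ 2) : (Cfsg.Involves (DihedralGroup p) G ↔ ∃ (x : G) (P : Subgroup G), (∃ k : ℕ, orderOf x = 2 ^ k) ∧ IsPGroup p ↥P ∧ x ∈ Subgroup.normalizer (P : Set G) ∧ x ∉ Subgroup.centralizer (P : Set G)) ∧ (Cfsg.Involves (DihedralGroup p) G ↔ ∃ x y : G, (∃ k : ℕ, orderOf x = 2 ^ k) ∧ (∃ k : ℕ, orderOf y = p ^ k) ∧ y ≠ 1 ∧ x * y * x⁻¹ = y⁻¹) := by
  have hA : Cfsg.Involves (DihedralGroup p) G → ∃ x y : G, (∃ k : ℕ, orderOf x = 2 ^ k) ∧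
      (∃ k : ℕ, orderOf y = p ^ k) ∧ y ≠ 1 ∧ x * y * x⁻¹ = y⁻¹ := by
    intro h
    obtain ⟨X, f, hf⟩ := CfsgLib.LocalEven.Offender.exists_hom_of_involves h
    obtain ⟨x, y, ⟨a, ha⟩, ⟨b, hb⟩, hy, hinv⟩ :=
      CfsgLib.LocalEven.DihedralCrit.exists_inverted_of_surjective hp f hf ⊥ bot_le
    exact ⟨x, y, ⟨a, by rwa [Subgroup.orderOf_coe]⟩, ⟨b, by rwa [Subgroup.orderOf_coe]⟩,
      fun h1 => hy (Subtype.ext h1), congrArg Subtype.val hinv⟩
  have hC : (∃ x y : G, (∃ k : ℕ, orderOf x = 2 ^ k) ∧ (∃ k : ℕ, orderOf y = p ^ k) ∧ y ≠ 1 ∧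
      x * y * x⁻¹ = y⁻¹) → Cfsg.Involves (DihedralGroup p) G := fun ⟨x, y, hx, hy, hy1, hinv⟩ =>
    CfsgLib.LocalEven.DihedralCrit.involves_of_inverted hp hy hy1 hinv hx
  refine ⟨⟨fun h => ?_, ?_⟩, hA, hC⟩
  · obtain ⟨x, y, hx, ⟨b, hb⟩, hy1, hinv⟩ := hA h
    refine ⟨x, Subgroup.zpowers y, hx, IsPGroup.of_card (n := b) (by rw [Nat.card_zpowers, hb]), ?_, ?_⟩
    · refine CfsgLib.LocalEven.mem_normalizer_of_conj_le ?_
      rw [MonoidHom.map_zpowers, Subgroup.zpowers_le]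
      show x * y * x⁻¹ ∈ Subgroup.zpowers y
      rw [hinv]
      exact inv_mem (Subgroup.mem_zpowers y)
    · intro hxc
      have hcomm : y * x = x * y := Subgroup.mem_centralizer_iff.1 hxc y (Subgroup.mem_zpowers y)
      have h2 : y = y⁻¹ := by
        rw [← hinv, ← hcomm, mul_inv_cancel_right]
      have h3 : orderOf y ∣ 2 := orderOf_dvd_of_pow_eq_one (by rw [pow_two]; nth_rewrite 2 [h2]; rw [mul_inv_cancel])
      rw [hb] at h3
      rcases b with _ | b
      · exact hy1 (orderOf_eq_one_iff.1 hb)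
      · exact hp ((Nat.prime_dvd_prime_iff_eq Fact.out Nat.prime_two).1
          ((dvd_pow_self p b.succ_ne_zero).trans h3))
  · rintro ⟨x, P, hx, hP, hxn, hxc⟩
    apply hC
    have hact : ∃ q ∈ P, x * q * x⁻¹ * q⁻¹ ∉ (⊥ : Subgroup G) := by
      by_contra hall
      push Not at hall
      exact hxc (Subgroup.mem_centralizer_iff.2 fun q hq => by
        have h1 := Subgroup.mem_bot.1 (hall q hq)
        rw [mul_inv_eq_one, mul_inv_eq_iff_eq_mul] at h1
        exact h1.symm)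
    obtain ⟨τ, z, -, hτ, hzP, hz, hinv⟩ := CfsgLib.LocalEven.DihedralCrit.exists_inverted hp hP hx hxn
      (by rw [Subgroup.normalizer_eq_top]; trivial) (by rw [Subgroup.normalizer_eq_top]; exact le_top) hact
    obtain ⟨b, hb⟩ := IsPGroup.iff_orderOf.1 hP ⟨z, hzP⟩
    exact ⟨τ, z, hτ, ⟨b, by rwa [Subgroup.orderOf_mk] at hb⟩, fun h => hz (Subgroup.mem_bot.2 h), hinv⟩

end Cfsg.Agent.S2758
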