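import Cfsg.Statements.S2759
import Cfsg.Agent.Lib.LocalEven.S4Criterion

set_option autoImplicit false
open Cfsg

namespace Cfsg.Agent.S2759

private instance fact3 : Fact (Nat.Prime 3) := ⟨Nat.prime_three⟩

private noncomputable def d3Equiv : DihedralGroup 3 ≃* Equiv.Perm (Fin 3) :=
  MulEquiv.ofBijective
    (CfsgLib.LocalEven.DihedralCrit.toGroup (p := 3) (Equiv.swap (0 : Fin 3) 1) (finRotate 3)
      (by decide) (by decide) (by decide))
    ((Nat.bijective_iff_injective_and_card _).2
      ⟨CfsgLib.LocalEven.DihedralCrit.toGroup_injective _ _ _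
        (orderOf_eq_prime (by decide) (by decide))
        (fun h => by
          obtain ⟨j, hj⟩ := Subgroup.mem_zpowers_iff.1 h
          have hc : Commute (Equiv.swap (0 : Fin 3) 1) (finRotate 3) := by
            rw [← hj]; exact (Commute.refl _).zpow_left j
          exact absurd hc.eq (by decide)),
      by rw [DihedralGroup.nat_card, Nat.card_perm, Nat.card_eq_fintype_card, Fintype.card_fin]; decide⟩)

/-- The three double transpositions. -/
private abbrev Pairing := {a : Equiv.Perm (Fin 4) // a * a = 1 ∧ ∀ i, a i ≠ i}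

private theorem pairing_conj (g a : Equiv.Perm (Fin 4)) :
    (MulAut.conj g a * MulAut.conj g a = 1 ∧ ∀ i, MulAut.conj g a i ≠ i) ↔ (a * a = 1 ∧ ∀ i, a i ≠ i) := by
  rw [← map_mul, EmbeddingLike.map_eq_one_iff]
  refine and_congr_right fun _ => ?_
  simp only [MulAut.conj_apply, Equiv.Perm.mul_apply, Ne]
  constructor
  · intro h i hi
    exact h (g i) (by simp [hi])
  · intro h i hi
    exact h (g⁻¹ i) (g.injective (by simpa using hi))

/-- The action on the three double transpositions. -/
private def pairingHom : Equiv.Perm (Fin 4) →* Equiv.Perm Pairing where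
  toFun g := Equiv.Perm.subtypePerm (MulAut.conj g).toEquiv (fun a => pairing_conj g a)
  map_one' := by ext a; simp
  map_mul' g h := Equiv.ext fun a => Subtype.ext <| by
    show g * h * a.1 * (g * h)⁻¹ = g * (h * a.1 * h⁻¹) * g⁻¹
    simp [mul_assoc]

private theorem card_pairing : Fintype.card Pairing = 3 := by decide

set_option maxRecDepth 20000 in
private theorem fixes_pairing : ∀ g : Equiv.Perm (Fin 4),
    (∀ a : Equiv.Perm (Fin 4), a * a = 1 → (∀ i, a i ≠ i) → g * a = a * g) → g * g = 1 := by decide

set_option maxRecDepth 20000 in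
private theorem centralize_pairing : ∀ g : Equiv.Perm (Fin 4),
    (∀ a : Equiv.Perm (Fin 4), a * a = 1 → (∀ i, a i ≠ i) → g * a = a * g) →
      g = 1 ∨ (g * g = 1 ∧ ∀ i, g i ≠ i) := by decide

set_option maxRecDepth 20000 in
private theorem pairing_comm : ∀ a : Equiv.Perm (Fin 4), a * a = 1 → (∀ i, a i ≠ i) →
    ∀ b : Equiv.Perm (Fin 4), b * b = 1 → (∀ i, b i ≠ i) → a * b = b * a := by decide

private theorem mem_ker_pairingHom (g : Equiv.Perm (Fin 4)) :
    g ∈ pairingHom.ker ↔
      ∀ a : Equiv.Perm (Fin 4), a * a = 1 → (∀ i, a i ≠ i) → g * a = a * g := by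
  rw [MonoidHom.mem_ker]
  constructor
  · intro h a ha ha'
    have h1 : g * a * g⁻¹ = a := congrArg Subtype.val (Equiv.congr_fun h ⟨a, ha, ha'⟩)
    exact mul_inv_eq_iff_eq_mul.1 h1
  · intro h
    ext1 a
    apply Subtype.ext
    show g * a.1 * g⁻¹ = a.1
    rw [h a.1 a.2.1 a.2.2, mul_inv_cancel_right]

private theorem card_ker_pairingHom : Nat.card pairingHom.ker = 4 := by
  have e : pairingHom.ker ≃ Option Pairing := by
    refine Equiv.symm (Equiv.ofBijective (fun o => ⟨o.elim 1 Subtype.val, ?_⟩) ⟨?_, ?_⟩)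
    · rw [mem_ker_pairingHom]
      intro a ha ha'
      rcases o with _ | b
      · simp
      · exact pairing_comm b.1 b.2.1 b.2.2 a ha ha'
    · rintro (_ | a) (_ | b) h
      · rfl
      · exact absurd (congrArg Subtype.val h).symm (fun h1 : b.1 = 1 => b.2.2 0 (by rw [h1]; rfl))
      · exact absurd (congrArg Subtype.val h) (fun h1 : a.1 = 1 => a.2.2 0 (by rw [h1]; rfl))
      · exact congrArg some (Subtype.ext (congrArg Subtype.val h :))
    · rintro ⟨g, hg⟩
      rcases centralize_pairing g ((mem_ker_pairingHom g).1 hg) with rfl | h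
      · exact ⟨none, rfl⟩
      · exact ⟨some ⟨g, h⟩, rfl⟩
  rw [Nat.card_congr e, Nat.card_eq_fintype_card, Fintype.card_option, card_pairing]

private theorem pairingHom_surjective : Function.Surjective pairingHom := by
  rw [← MonoidHom.range_eq_top]
  refine Subgroup.eq_top_of_card_eq _ ?_
  have h := Subgroup.card_mul_index pairingHom.ker
  rw [Subgroup.index_ker, card_ker_pairingHom, Nat.card_perm, Nat.card_eq_fintype_card (α := Fin 4),
    Fintype.card_fin] at h
  rw [Nat.card_perm, Nat.card_eq_fintype_card (α := Pairing), card_pairing]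
  exact Nat.eq_of_mul_eq_mul_left (show 0 < 4 by norm_num) (h.trans (by decide))

/-- A quotient `S₄` gives a `2`-subgroup on which `S₃` is induced. -/
private theorem exists_two_subgroup_of_surjective {G : Type*} [Group G] [Finite G] {K : Subgroup G}
    (f : K →* Equiv.Perm (Fin 4)) (hf : Function.Surjective f) :
    ∃ T : Subgroup G, IsPGroup 2 ↥T ∧ Cfsg.Involves (Equiv.Perm (Fin 3))
      (↥(Subgroup.normalizer (T : Set G)) ⧸ (Subgroup.centralizer (T : Set G)).subgroupOf
        (Subgroup.normalizer (T : Set G))) := by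
  have : Fact (Nat.Prime 2) := ⟨Nat.prime_two⟩
  set A := pairingHom.ker.comap f with hA
  have : A.Normal := (inferInstance : pairingHom.ker.Normal).comap f
  set P : Sylow 2 A := default with hP
  have htop := Sylow.normalizer_sup_eq_top P
  set P' := (P : Subgroup A).map A.subtype with hP'
  let fA : A →* pairingHom.ker := (f.comp A.subtype).codRestrict pairingHom.ker fun a => a.2
  have hsur : Function.Surjective fA := by
    rintro ⟨r, hr⟩
    obtain ⟨a, rfl⟩ := hf r
    exact ⟨⟨a, hr⟩, rfl⟩
  have hker2 : IsPGroup 2 ↥pairingHom.ker := IsPGroup.of_card (n := 2) (by rw [card_ker_pairingHom]; rfl)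
  have hPR : (P : Subgroup A).map fA = ⊤ :=
    top_unique ((P.mapSurjective hsur).3 (hker2.to_subgroup ⊤) le_top).le
  set T := P'.map K.subtype with hT
  refine ⟨T, (P.2.map _).map _, ?_⟩
  set N' := Subgroup.normalizer (P' : Set K) with hN'
  set g : N' →* Equiv.Perm (Fin 3) :=
    ((Fintype.equivFinOfCardEq card_pairing).permCongrHom.toMonoidHom.comp (pairingHom.comp f)).comp
      N'.subtype with hgdef
  have hg : Function.Surjective g := by
    intro σ
    obtain ⟨s, hs⟩ := ((Fintype.equivFinOfCardEq card_pairing).permCongrHom.surjective.comp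
      (pairingHom_surjective.comp hf)) σ
    have hs' : s ∈ N' ⊔ A := htop ▸ Subgroup.mem_top s
    rw [Subgroup.mem_sup_of_normal_right] at hs'
    obtain ⟨n, hn, a, ha, rfl⟩ := hs'
    refine ⟨⟨n, hn⟩, ?_⟩
    rw [← hs]
    show (Fintype.equivFinOfCardEq card_pairing).permCongrHom (pairingHom (f n)) =
      (Fintype.equivFinOfCardEq card_pairing).permCongrHom (pairingHom (f (n * a)))
    rw [map_mul f, map_mul pairingHom, MonoidHom.mem_ker.1 (show f a ∈ pairingHom.ker from ha), mul_one]
  have hsub : ∀ n : N', ((n : K) : G) ∈ Subgroup.normalizer (T : Set G) := fun n =>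
    Subgroup.le_normalizer_map K.subtype ⟨(n : K), n.2, rfl⟩
  let i : N' →* ↥(Subgroup.normalizer (T : Set G)) :=
    (K.subtype.comp N'.subtype).codRestrict _ hsub
  set j := (QuotientGroup.mk' ((Subgroup.centralizer (T : Set G)).subgroupOf
        (Subgroup.normalizer (T : Set G)))).comp i with hj
  have hle : j.rangeRestrict.ker ≤ g.ker := by
    rw [MonoidHom.ker_rangeRestrict]
    intro n hn
    have hc : ((n : K) : G) ∈ Subgroup.centralizer (T : Set G) := (QuotientGroup.eq_one_iff (i n)).1 hn
    have h1 : f n ∈ pairingHom.ker := by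
      rw [mem_ker_pairingHom]
      intro a ha ha'
      have hak : a ∈ pairingHom.ker := by
        rw [mem_ker_pairingHom]
        exact pairing_comm a ha ha'
      obtain ⟨q, hq, hqa⟩ := hPR.ge (Subgroup.mem_top (⟨a, hak⟩ : pairingHom.ker))
      have hqa' : f (q : K) = a := congrArg Subtype.val hqa
      have hcomm : (n : K) * (q : K) = (q : K) * n := Subtype.ext
        (Subgroup.mem_centralizer_iff.1 hc _ ⟨(q : K), ⟨q, hq, rfl⟩, rfl⟩).symm
      rw [← hqa', ← map_mul, ← map_mul, hcomm]
    rw [MonoidHom.mem_ker, hgdef]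
    show (Fintype.equivFinOfCardEq card_pairing).permCongrHom (pairingHom (f n)) = 1
    rw [MonoidHom.mem_ker.1 h1, map_one]
  exact CfsgLib.LocalEven.Offender.involves_of_hom j.range
    ((j.rangeRestrict).liftOfSurjective j.rangeRestrict_surjective ⟨g, hle⟩)
    (fun σ => by
      obtain ⟨n, hn⟩ := hg σ
      exact ⟨j.rangeRestrict n, (MonoidHom.liftOfRightInverse_comp_apply _ _ _ _ n).trans hn⟩)

/-- For a finite group G, the symmetric group of degree 4 is involved in G if and only if there is a 2-subgroup T of G such that the symmetric group of degree 3 is involved in N(T)/C(T). -/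
theorem result {G : Type*} [Group G] [Finite G] : Cfsg.Involves (Equiv.Perm (Fin 4)) G ↔ ∃ T : Subgroup G, IsPGroup 2 ↥T ∧ Cfsg.Involves (Equiv.Perm (Fin 3)) (↥(Subgroup.normalizer (T : Set G)) ⧸ (Subgroup.centralizer (T : Set G)).subgroupOf (Subgroup.normalizer (T : Set G))) := by
  constructor
  · intro h
    obtain ⟨K, f, hf⟩ := CfsgLib.LocalEven.Offender.exists_hom_of_involves h
    exact exists_two_subgroup_of_surjective f hf
  · rintro ⟨T, hT, h⟩
    obtain ⟨Y, f, hf⟩ := CfsgLib.LocalEven.Offender.exists_hom_of_involves h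
    set C := (Subgroup.centralizer (T : Set G)).subgroupOf (Subgroup.normalizer (T : Set G))
    set K := Y.comap (QuotientGroup.mk' C)
    set g : K →* DihedralGroup 3 :=
      d3Equiv.symm.toMonoidHom.comp (f.comp ((QuotientGroup.mk' C).subgroupComap Y))
    have hg : Function.Surjective g := d3Equiv.symm.surjective.comp
      (hf.comp (MonoidHom.subgroupComap_surjective_of_surjective _ Y (QuotientGroup.mk'_surjective C)))
    have hker : C.subgroupOf K ≤ g.ker := by
      intro a ha
      rw [MonoidHom.mem_ker]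
      have h1 : (QuotientGroup.mk' C).subgroupComap Y a = 1 :=
        Subtype.ext ((QuotientGroup.eq_one_iff _).2 ha)
      show d3Equiv.symm (f _) = 1
      rw [h1, map_one, map_one]
    obtain ⟨x, y, ⟨a, ha⟩, ⟨b, hb⟩, hy, hinv⟩ :=
      CfsgLib.LocalEven.DihedralCrit.exists_inverted_of_surjective (p := 3) (by decide) g hg
        (C.subgroupOf K) hker
    exact CfsgLib.LocalEven.S4Crit.involves_of_two_group hT (x : ↥(Subgroup.normalizer (T : Set G))).2
      (y : ↥(Subgroup.normalizer (T : Set G))).2 ⟨a, by rwa [Subgroup.orderOf_coe, Subgroup.orderOf_coe]⟩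
      ⟨b, by rwa [Subgroup.orderOf_coe, Subgroup.orderOf_coe]⟩
      (congrArg (fun u : K => (((u : ↥(Subgroup.normalizer (T : Set G))) : G))) hinv) hy

end Cfsg.Agent.S2759
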