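import Cfsg.Statements.S2760
import Cfsg.Agent.Lib.LocalEven.CharP
import Cfsg.Agent.Lib.LocalEven.CoreOf
import Cfsg.Agent.Lib.Transfer.Basic

set_option autoImplicit false
open Cfsg

namespace Cfsg.Agent.S2760

/-- Let G be a finite group with C_G(O₂(G)) ≤ O₂(G) and H a subgroup of G such that H is normal in G, or the subgroup O²(H) generated by the elements of H of odd order is normal in G. Then C_H(O₂(H)) ≤ O₂(H). -/
theorem result {G : Type*} [Group G] [Finite G] (hchar : Subgroup.centralizer (Cfsg.pCore 2 G : Set G) ≤ Cfsg.pCore 2 G) (H : Subgroup G) (hH : H.Normal ∨ ((Cfsg.pResidual 2 ↥H).map H.subtype).Normal) : Subgroup.centralizer (Cfsg.pCore 2 ↥H : Set ↥H) ≤ Cfsg.pCore 2 ↥H := by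
  rcases hH with hH | hR
  · exact CfsgLib.LocalEven.HasCharP.of_normal hchar H
  set R := (Cfsg.pResidual 2 ↥H).map H.subtype with hRdef
  have hRchar := CfsgLib.LocalEven.HasCharP.of_normal (p := 2) hchar R
  refine CfsgLib.LocalEven.hasCharP_of_pPrime fun x hxo hx => ?_
  have hxR : (x : G) ∈ R := ⟨x, CfsgLib.Transfer.mem_pResidual_of_coprime hxo, rfl⟩
  have hRH : R ≤ H := Subgroup.map_subtype_le _
  have hO : Cfsg.pCoreOf 2 R ≤ Cfsg.pCoreOf 2 H := by
    refine CfsgLib.LocalEven.le_pCoreOf ((CfsgLib.LocalEven.pCoreOf_le 2 R).trans hRH)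
      (CfsgLib.LocalEven.isPGroup_pCoreOf 2 R) ?_
    haveI := hR
    haveI : (Cfsg.pCoreOf 2 R).Normal := CfsgLib.Cores.map_subtype_pCore_normal 2 R
    rw [Subgroup.normalizer_eq_top]
    exact le_top
  have h1 := hRchar.eq_one (x := ⟨(x : G), hxR⟩) (by rw [Subgroup.orderOf_mk, Subgroup.orderOf_coe]; exact hxo) (by
    intro v hv
    obtain ⟨w, hw, hwv⟩ := hO ⟨v, hv, rfl⟩
    apply Subtype.ext
    show (x : G) * (v : G) = (v : G) * x
    rw [show (v : G) = (w : G) from hwv.symm]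
    exact congrArg Subtype.val (hx w hw))
  exact Subtype.ext (congrArg Subtype.val h1 :)

end Cfsg.Agent.S2760
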