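import Cfsg.Statements.S2772
import Cfsg.Agent.Lib.LocalEven.AmalgamZ.Sylow

set_option autoImplicit false
open Cfsg

namespace Cfsg.Agent.S2772

/-- Sims' Theorem in local form: let H be a finite non-abelian simple group and G a maximal subgroup of H with C_G(O₂(G)) ≤ O₂(G), such that N_H(S) is not contained in G for a Sylow 2-subgroup S of G and G/O₂(G) is dihedral of order 2q for a prime q. Then G is isomorphic to the symmetric group of degree 4 or to its direct product with a group of order 2. -/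
theorem result {H : Type*} [Group H] [Finite H] [IsSimpleGroup H] (hna : ¬ IsMulCommutative H) (G : Subgroup H) (hG : IsCoatom G) (hchar : Subgroup.centralizer (Cfsg.pCore 2 ↥G : Set ↥G) ≤ Cfsg.pCore 2 ↥G) (S : Sylow 2 ↥G) (hN : ¬ Subgroup.normalizer (((S : Subgroup ↥G).map G.subtype : Subgroup H) : Set H) ≤ G) (q : ℕ) (hq : q.Prime) (hD : Nonempty (↥G ⧸ Cfsg.pCore 2 ↥G ≃* DihedralGroup q)) : Nonempty (↥G ≃* Equiv.Perm (Fin 4)) ∨ Nonempty (↥G ≃* Equiv.Perm (Fin 4) × Multiplicative (ZMod 2)) := by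
  haveI := Fact.mk Nat.prime_two
  obtain ⟨eD⟩ := hD
  have hcardD : Nat.card (↥G ⧸ Cfsg.pCore 2 ↥G) = 2 * q := by
    rw [Nat.card_congr eD.toEquiv, DihedralGroup.nat_card]
  have hq2 : q ≠ 2 := by
    rintro rfl
    obtain ⟨k, hk⟩ := IsPGroup.iff_card.1 (CfsgLib.Cores.isPGroup_pCore (G := ↥G) 2)
    have hcard : Nat.card ↥G = 2 ^ (k + 2) := by
      rw [Subgroup.card_eq_card_quotient_mul_card_subgroup (Cfsg.pCore 2 ↥G), hcardD, hk, pow_add]
      ring
    have htop : Cfsg.pCore 2 ↥G = ⊤ :=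
      top_le_iff.1 (CfsgLib.Cores.le_pCore ((IsPGroup.of_card (G := ↥G) hcard).to_subgroup ⊤))
    have h1 := Subgroup.card_eq_card_quotient_mul_card_subgroup (Cfsg.pCore 2 ↥G)
    rw [hcardD, htop, Subgroup.card_top] at h1
    have := Nat.card_pos (α := ↥G)
    omega
  have hqodd : Odd q := hq.odd_of_ne_two hq2
  set T : Subgroup H := (S : Subgroup ↥G).map G.subtype with hTdef
  have hTG : T ≤ G := Subgroup.map_subtype_le _
  have hS : (S : Subgroup ↥G) = T.subgroupOf G :=
    (Subgroup.comap_map_eq_self_of_injective G.subtype_injective _).symm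
  obtain ⟨n, hn, hnG⟩ := SetLike.not_le_iff_exists.1 hN
  have hGne : G ≠ ⊥ := by
    intro h
    have h1 : Nat.card ↥G = 1 := h ▸ Subgroup.card_bot
    have h2 := Subgroup.card_eq_card_quotient_mul_card_subgroup (Cfsg.pCore 2 ↥G)
    rw [hcardD, h1] at h2
    have := Nat.eq_one_of_mul_eq_one_right h2.symm
    omega
  set G' : Subgroup H := G.map (MulAut.conj n).toMonoidHom with hG'
  have hcardG' : Nat.card ↥G' = Nat.card ↥G :=
    Subgroup.card_map_of_injective (MulAut.conj n).injective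
  have hne : G' ≠ G := by
    intro h
    have hnN : n ∈ Subgroup.normalizer (G : Set H) := Subgroup.mem_normalizer_iff.2 fun x => by
      constructor
      · intro hx
        have : n * x * n⁻¹ ∈ G' := ⟨x, hx, rfl⟩
        rwa [h] at this
      · intro hx
        rw [← h] at hx
        obtain ⟨y, hy, hyx⟩ := hx
        have : y = x := (MulAut.conj n).injective (by simpa using hyx)
        exact this ▸ hy
    have hlt : G < Subgroup.normalizer (G : Set H) :=
      lt_of_le_of_ne Subgroup.le_normalizer fun e => hnG (e.symm ▸ hnN)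
    have hnormal : G.Normal := Subgroup.normalizer_eq_top_iff.1 (hG.2 _ hlt)
    rcases hnormal.eq_bot_or_eq_top with h0 | h0
    · exact hGne h0
    · exact hG.1 h0
  have hjoin : G ⊔ G' = ⊤ := by
    refine hG.2 _ (lt_of_le_of_ne le_sup_left fun e => hne ?_)
    exact Subgroup.eq_of_le_of_card_ge (e.symm ▸ le_sup_right) hcardG'.ge
  have hTn : ∀ x, x ∈ T ↔ n * x * n⁻¹ ∈ T := Subgroup.mem_normalizer_iff.1 hn
  have hTG' : T ≤ G' := fun x hx => ⟨n⁻¹ * x * n, hTG ((hTn _).2 (by simpa [mul_assoc] using hx)), by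
    simp [mul_assoc]⟩
  have hchar' : G ⊓ Subgroup.centralizer (Cfsg.pCoreOf 2 G : Set H) ≤ Cfsg.pCoreOf 2 G :=
    CfsgLib.LocalEven.inf_centralizer_pCoreOf_le hchar
  have hgen : ∀ x ∈ T ⊓ Subgroup.centralizer (T : Set H), ∀ m : H, (∀ y, y ∈ T ↔ m * y * m⁻¹ ∈ T) →
      m * x * m⁻¹ ∈ T ⊓ Subgroup.centralizer (T : Set H) := by
    intro x hx m hm
    refine ⟨(hm x).1 hx.1, Subgroup.mem_centralizer_iff.2 fun t ht => ?_⟩
    have ht' : m⁻¹ * t * m ∈ T := (hm _).2 (by simpa [mul_assoc] using ht)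
    calc t * (m * x * m⁻¹) = m * ((m⁻¹ * t * m) * x) * m⁻¹ := by group
      _ = m * (x * (m⁻¹ * t * m)) * m⁻¹ := by rw [Subgroup.mem_centralizer_iff.1 hx.2 _ ht']
      _ = m * x * m⁻¹ * t := by group
  have htrans : ∀ (P : Subgroup H) (m : H), (∀ y, y ∈ T ↔ m * y * m⁻¹ ∈ T) →
      P ≤ Subgroup.centralizer (Cfsg.omegaOne 2 (T ⊓ Subgroup.centralizer (T : Set H)) : Set H) →
      P.map (MulAut.conj m⁻¹).toMonoidHom ≤
        Subgroup.centralizer (Cfsg.omegaOne 2 (T ⊓ Subgroup.centralizer (T : Set H)) : Set H) := by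
    rintro P m hm hP _ ⟨k, hk, rfl⟩
    refine Subgroup.mem_centralizer_iff.2 fun z hz => ?_
    have hle : Cfsg.omegaOne 2 (T ⊓ Subgroup.centralizer (T : Set H)) ≤
        Subgroup.centralizer {m⁻¹ * k * m⁻¹⁻¹} := by
      rw [Cfsg.omegaOne, Subgroup.closure_le]
      rintro x ⟨hx, hx2⟩
      have hgx : m * x * m⁻¹ ∈ Cfsg.omegaOne 2 (T ⊓ Subgroup.centralizer (T : Set H)) :=
        Subgroup.subset_closure ⟨hgen x hx m hm, by rw [conj_pow, hx2, mul_one, mul_inv_cancel]⟩
      have e := Subgroup.mem_centralizer_iff.1 (hP hk) _ hgx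
      refine Subgroup.mem_centralizer_singleton_iff.2 ?_
      calc x * (m⁻¹ * k * m⁻¹⁻¹) = m⁻¹ * (m * x * m⁻¹ * k) * m := by group
        _ = m⁻¹ * (k * (m * x * m⁻¹)) * m := by rw [e]
        _ = m⁻¹ * k * m⁻¹⁻¹ * x := by group
    simpa using Subgroup.mem_centralizer_singleton_iff.1 (hle hz)
  have hboth : ∀ P ∈ ({G, G'} : Set (Subgroup H)), ¬ P ≤
      Subgroup.centralizer (Cfsg.omegaOne 2 (T ⊓ Subgroup.centralizer (T : Set H)) : Set H) := by
    have hnot : ¬ (G ≤ Subgroup.centralizer (Cfsg.omegaOne 2 (T ⊓ Subgroup.centralizer (T : Set H)) : Set H) ∧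
        G' ≤ Subgroup.centralizer (Cfsg.omegaOne 2 (T ⊓ Subgroup.centralizer (T : Set H)) : Set H)) := by
      rintro ⟨hc, hc'⟩
      have hctr : Subgroup.center H = ⊥ := by
        rcases (inferInstance : (Subgroup.center H).Normal).eq_bot_or_eq_top with h | h
        · exact h
        · exact absurd ⟨⟨fun a b => Subgroup.mem_center_iff.1 (h ▸ Subgroup.mem_top b) a⟩⟩ hna
      have hTp : IsPGroup 2 ↥T := S.isPGroup'.map _
      have hTne : T ≠ ⊥ := by
        intro h
        have h1 : Nat.card ↥(S : Subgroup ↥G) = 1 := by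
          rw [← Subgroup.card_map_of_injective G.subtype_injective, ← hTdef, h, Subgroup.card_bot]
        have h2 : ¬ 2 ∣ (S : Subgroup ↥G).index := S.not_dvd_index
        have h3 := (S : Subgroup ↥G).card_mul_index
        rw [h1, one_mul] at h3
        refine h2 (h3.symm ▸ ?_)
        rw [Subgroup.card_eq_card_quotient_mul_card_subgroup (Cfsg.pCore 2 ↥G), hcardD, mul_assoc]
        exact dvd_mul_right 2 _
      haveI : Nontrivial ↥T := (Subgroup.nontrivial_iff_ne_bot _).2 hTne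
      obtain ⟨⟨z, hz⟩, ho⟩ := exists_prime_orderOf_dvd_card' (G := ↥(Subgroup.center ↥T)) 2 (by
        obtain ⟨k, hk⟩ := IsPGroup.iff_card.1 (hTp.to_subgroup (Subgroup.center ↥T))
        haveI := hTp.center_nontrivial
        have h1 : 1 < Nat.card ↥(Subgroup.center ↥T) := Finite.one_lt_card
        rw [hk] at h1 ⊢
        exact dvd_pow_self 2 (by rintro rfl; simp at h1))
      rw [Subgroup.orderOf_mk, ← Subgroup.orderOf_coe] at ho
      have hmem : (z : H) ∈ Cfsg.omegaOne 2 (T ⊓ Subgroup.centralizer (T : Set H)) :=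
        Subgroup.subset_closure ⟨⟨z.2, Subgroup.mem_centralizer_iff.2 fun t ht =>
          congrArg Subtype.val (Subgroup.mem_center_iff.1 hz ⟨t, ht⟩)⟩, ho ▸ pow_orderOf_eq_one _⟩
      have hall : (⊤ : Subgroup H) ≤ Subgroup.centralizer {(z : H)} := hjoin ▸ sup_le
        (fun k hk => Subgroup.mem_centralizer_singleton_iff.2
          (Subgroup.mem_centralizer_iff.1 (hc hk) _ hmem).symm)
        (fun k hk => Subgroup.mem_centralizer_singleton_iff.2
          (Subgroup.mem_centralizer_iff.1 (hc' hk) _ hmem).symm)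
      have hzc : (z : H) ∈ Subgroup.center H := Subgroup.mem_center_iff.2 fun g =>
        Subgroup.mem_centralizer_singleton_iff.1 (hall (Subgroup.mem_top g))
      rw [hctr, Subgroup.mem_bot] at hzc
      rw [hzc, orderOf_one] at ho
      exact absurd ho (by norm_num)
    have hTn' : ∀ y, y ∈ T ↔ n⁻¹ * y * n⁻¹⁻¹ ∈ T :=
      Subgroup.mem_normalizer_iff.1 (Subgroup.inv_mem _ hn)
    rintro P (rfl | rfl) hP
    · refine hnot ⟨hP, ?_⟩
      have := htrans _ _ hTn' hP
      rwa [inv_inv] at this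
    · refine hnot ⟨?_, hP⟩
      have := htrans _ _ hTn hP
      rw [hG', Subgroup.map_map] at this
      intro k hk
      exact this ⟨k, hk, by simp [mul_assoc]⟩
  obtain ⟨hv, hTp⟩ := CfsgLib.LocalEven.AmalgamZ.vertexHyp_of_sylow hTG S hS hqodd hcardD hchar'
    (hboth G (Or.inl rfl))
  have hcore' : Cfsg.pCoreOf 2 G' = (Cfsg.pCoreOf 2 G).map (MulAut.conj n).toMonoidHom :=
    CfsgLib.LocalEven.pCoreOf_map 2 (MulAut.conj n) G
  have hv' : CfsgLib.LocalEven.AmalgamZ.VertexHyp T G' q := by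
    refine ⟨hTG', inferInstance, by rw [hcardG']; exact hv.index, ?_, ?_, ?_, hboth G' (Or.inr rfl)⟩
    · rw [hcore']
      rintro _ ⟨x, hx, rfl⟩
      exact (hTn x).1 (hv.core_le hx)
    · rw [hcore', Subgroup.card_map_of_injective
        (show Function.Injective (MulAut.conj n).toMonoidHom from (MulAut.conj n).injective)]
      exact hv.half
    · rw [hcore']
      rintro _ ⟨⟨x, hx, rfl⟩, hxc⟩
      refine ⟨x, hchar' ⟨hx, Subgroup.mem_centralizer_iff.2 fun y hy => ?_⟩, rfl⟩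
      exact (MulAut.conj n).injective (by
        rw [map_mul, map_mul]
        exact Subgroup.mem_centralizer_iff.1 hxc _ ⟨y, hy, rfl⟩)
  have hinf : T = G ⊓ G' := by
    refine le_antisymm (le_inf hTG hTG') ?_
    obtain ⟨d, hd⟩ := Subgroup.card_dvd_of_le (le_inf hTG hTG' : T ≤ G ⊓ G')
    have h2 := Subgroup.card_dvd_of_le (inf_le_left : G ⊓ G' ≤ G)
    rw [hv.index, hd, mul_comm q] at h2
    rcases (Nat.dvd_prime hq).1 (Nat.dvd_of_mul_dvd_mul_left Nat.card_pos h2) with rfl | rfl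
    · rw [mul_one] at hd
      exact (Subgroup.eq_of_le_of_card_ge (le_inf hTG hTG') hd.le).ge
    · exfalso
      have h3 := Subgroup.eq_of_le_of_card_ge (inf_le_left : G ⊓ G' ≤ G) (by rw [hd, hv.index, mul_comm])
      exact hne (Subgroup.eq_of_le_of_card_ge (inf_eq_left.1 h3) hcardG'.le).symm
  have hcoreT : ∀ N : Subgroup H, N.Normal → N ≤ T → N = ⊥ := by
    intro N hN' hle
    rcases hN'.eq_bot_or_eq_top with h | h
    · exact h
    · exact absurd (top_le_iff.1 (h ▸ hle.trans hTG)) hG.1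
  obtain ⟨-, h | h⟩ := CfsgLib.LocalEven.AmalgamZ.pair_structure
    ⟨hq, hqodd, hjoin, hinf, hcoreT, hTp, hv, hv'⟩
  · exact Or.inl h.1
  · exact Or.inr ⟨h.1.some.trans MulEquiv.prodComm⟩

end Cfsg.Agent.S2772
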