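import Cfsg.Statements.S2773
import Cfsg.Agent.Lib.Techniques.CharTransfer.StepK

set_option autoImplicit false
universe u
open Cfsg
open scoped commutatorElement

namespace Cfsg.Agent.S2773

/-- For every nontrivial finite 3-group S there is a nontrivial characteristic subgroup K of S such that, in every finite group G containing S as a Sylow 3-subgroup, S ∩ G' is the product of S ∩ (C_G(Z(S)))' and S ∩ (N_G(K))' (derived subgroups; product taken elementwise). -/
theorem result {S : Type u} [Group S] [Finite S] [Nontrivial S] (hS : IsPGroup 3 S) : ∃ K : Subgroup S, K ≠ ⊥ ∧ K.Characteristic ∧ ∀ (G : Type u) [Group G] [Finite G] (τ : S →* G), Function.Injective τ → (∃ P : Sylow 3 G, (P : Subgroup G) = τ.range) → ∀ g : G, g ∈ τ.range ⊓ commutator G ↔ ∃ a ∈ τ.range ⊓ ⁅Subgroup.centralizer ((τ.range ⊓ Subgroup.centralizer (τ.range : Set G) : Subgroup G) : Set G), Subgroup.centralizer ((τ.range ⊓ Subgroup.centralizer (τ.range : Set G) : Subgroup G) : Set G)⁆, ∃ b ∈ τ.range ⊓ ⁅Subgroup.normalizer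 ((K.map τ : Subgroup G) : Set G), Subgroup.normalizer ((K.map τ : Subgroup G) : Set G)⁆, g = a * b := by
  haveI : Fact (Nat.Prime 3) := ⟨Nat.prime_three⟩
  refine ⟨CfsgLib.Techniques.CharTransfer.kOf 3 (⊤ : Subgroup S), ?_, ?_, ?_⟩
  · exact CfsgLib.Techniques.CharTransfer.kOf_ne_bot (hS.to_subgroup ⊤) fun e => by
      obtain ⟨a, ha⟩ := exists_ne (1 : S)
      exact ha (Subgroup.mem_bot.1 (e ▸ Subgroup.mem_top a))
  · refine Subgroup.characteristic_iff_map_eq.2 fun φ => ?_
    rw [CfsgLib.Techniques.CharTransfer.kOf_map 3 (f := φ.toMonoidHom) φ.injective,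
      Subgroup.map_top_of_surjective _ φ.surjective]
  intro G _ _ τ hτ hP g
  obtain ⟨P, hP⟩ := hP
  rw [CfsgLib.Techniques.CharTransfer.kOf_map 3 hτ, ← MonoidHom.range_eq_map, ← hP]
  set C := Subgroup.centralizer (((P : Subgroup G) ⊓ Subgroup.centralizer ((P : Subgroup G) : Set G) : Subgroup G) : Set G)
  set N := Subgroup.normalizer (CfsgLib.Techniques.CharTransfer.kOf 3 (P : Subgroup G) : Set G) with hN
  have hPC : (P : Subgroup G) ≤ C := fun t ht => Subgroup.mem_centralizer_iff.2 fun z hz =>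
    (Subgroup.mem_centralizer_iff.1 hz.2 t ht).symm
  constructor
  · intro hg
    have h := CfsgLib.Techniques.CharTransfer.inf_commutator_le_kz (p := 3) (by norm_num) P hg
    have hBA : (P : Subgroup G) ⊓ ⁅N, N⁆ ≤
        Subgroup.normalizer (((P : Subgroup G) ⊓ ⁅C, C⁆ : Subgroup G) : Set G) := by
      intro b hb
      refine CfsgLib.Fusion.mem_normalizer_of_forall fun y hy => ?_
      refine ⟨Subgroup.mul_mem _ (Subgroup.mul_mem _ hb.1 hy.1) (Subgroup.inv_mem _ hb.1), ?_⟩
      rw [show b * y * b⁻¹ = ⁅b, y⁆ * y by rw [commutatorElement_def, inv_mul_cancel_right]]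
      exact Subgroup.mul_mem _
        (Subgroup.commutator_mem_commutator (hPC hb.1) (Subgroup.commutator_le_self C hy.2)) hy.2
    obtain ⟨a, ha, b, hb, e⟩ := CfsgLib.Solvable.exists_mul_of_mem_sup hBA h
    exact ⟨a, ha, b, hb, e⟩
  · rintro ⟨a, ha, b, hb, rfl⟩
    refine ⟨Subgroup.mul_mem _ ha.1 hb.1, ?_⟩
    rw [commutator_def]
    exact Subgroup.mul_mem _ (Subgroup.commutator_mono le_top le_top ha.2)
      (Subgroup.commutator_mono le_top le_top hb.2)

end Cfsg.Agent.S2773
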