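import Cfsg.Statements.S2779
import Cfsg.Agent.Lib.LocalEven.NaturalFrame
import Mathlib.FieldTheory.Finite.Basic
open scoped commutatorElement

set_option autoImplicit false
open Cfsg

namespace Cfsg.Agent.S2779

/-- Let L act on the elementary abelian p-group V (inside a finite group, by conjugation, faithfully) as SL₂(F) on its natural module, F a field with p^n elements, and let S be a Sylow p-subgroup of L. Then [V, S, S] = 1; |V| = p^(2n) and |C_V(S)| = p^n; and for every nonidentity s ∈ S and every v ∈ V outside C_V(S): C_V(s) = C_V(S) = [V, S] = [V, s] = the subgroup generated by the commutators [v, t], t ∈ S. -/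
theorem result {G : Type*} [Group G] [Finite G] {p : ℕ} [Fact p.Prime] {F : Type*} [Field F] [Fintype F] (n : ℕ) (hF : Fintype.card F = p ^ n) (V L : Subgroup G) (hnat : Cfsg.IsNaturalSL2Module F V L) (hf : L ⊓ Subgroup.centralizer (V : Set G) = ⊥) (S : Sylow p ↥L) (T : Subgroup G) (hT : T = ((S : Subgroup ↥L).map L.subtype)) : ⁅⁅V, T⁆, T⁆ = ⊥ ∧ Nat.card V = p ^ (2 * n) ∧ Nat.card ↥(V ⊓ Subgroup.centralizer ((T : Subgroup G) : Set G)) = p ^ n ∧ ∀ s ∈ T, s ≠ 1 → (V ⊓ Subgroup.centralizer ({s} : Set G)) = (V ⊓ Subgroup.centralizer ((T : Subgroup G) : Set G)) ∧ ⁅V, T⁆ = (V ⊓ Subgroup.centralizer ((T : Subgroup G) : Set G)) ∧ ⁅V, Subgroup.zpowers s⁆ = (V ⊓ Subgroup.centralizer ((T : Subgroup G) : Set G)) ∧ ∀ v ∈ V, v ∉ Subgroup.centralizer (T : Set G) → Subgroup.closure {x : G | ∃ t ∈ T, x = v * t * v⁻¹ * t⁻¹} = (V ⊓ Subgroup.centralizer ((T : Subgroup G) : Set G)) := by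
  haveI : CharP F p := charP_of_card_eq_prime_pow hF
  obtain ⟨f⟩ := CfsgLib.LocalEven.NatFrame.exists_frame hnat hf S
  rw [← hT] at f
  have hq : Nat.card F = p ^ n := by rw [Nat.card_eq_fintype_card, hF]
  have hle := f.commutator_V_T_le
  refine ⟨?_, ?_, by rw [f.card_centralizer_T, hq], fun s hs hs1 => ?_⟩
  · rw [Subgroup.commutator_eq_bot_iff_le_centralizer]
    exact hle.trans inf_le_right
  · rw [f.card_V, hq, ← pow_mul, mul_comm]
  obtain ⟨a, rfl⟩ := (f.mem_T s).1 hs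
  have ha : a ≠ 0 := fun h => hs1 (by rw [h, CfsgLib.LocalEven.NatFrame.upSL_zero, map_one])
  have hcomm : ∀ x, ∃ v : Fin 2 → F, v 1 ≠ 0 ∧
      f.vec v * f.mat (CfsgLib.LocalEven.QdOver.upSL a) * (f.vec v)⁻¹ *
        (f.mat (CfsgLib.LocalEven.QdOver.upSL a))⁻¹ = f.vec ![x, 0] ∨ x = 0 := by
    intro x
    by_cases hx : x = 0
    · exact ⟨0, Or.inr hx⟩
    · refine ⟨![0, -(x / a)], Or.inl ⟨by simp [hx, ha], ?_⟩⟩
      rw [f.commutator_eq]
      congr 1
      ext i
      fin_cases i <;> simp [ha, mul_div_cancel₀]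
  refine ⟨?_, ?_, ?_, fun v hv hvc => ?_⟩
  · refine le_antisymm (fun x hx => ?_) fun x hx => ?_
    · obtain ⟨v, rfl⟩ := (f.vec_range x).1 hx.1
      have h1 := (f.comm_iff _ v).1 (Subgroup.mem_centralizer_iff.1 hx.2 _ (Set.mem_singleton _)).symm.symm
      exact (f.mem_centralizer_T).2 ⟨v 0, by
        rw [← CfsgLib.LocalEven.NatFrame.upSL_fixed ha h1, ← CfsgLib.LocalEven.NatFrame.eq_pair]⟩
    · exact Subgroup.mem_inf.2 ⟨hx.1, Subgroup.centralizer_le (Set.singleton_subset_iff.2 hs) hx.2⟩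
  · refine le_antisymm hle fun x hx => ?_
    obtain ⟨b, rfl⟩ := (f.mem_centralizer_T).1 hx
    rcases hcomm b with ⟨v, ⟨-, hv⟩ | hb⟩
    · rw [← hv, ← commutatorElement_def]
      exact Subgroup.commutator_mem_commutator (f.vec_mem v) hs
    · subst hb
      rw [show (![0, 0] : Fin 2 → F) = 0 by ext i; fin_cases i <;> rfl, f.vec_zero]
      exact one_mem _
  · refine le_antisymm ((Subgroup.commutator_mono le_rfl (Subgroup.zpowers_le.2 hs)).trans hle)
      fun x hx => ?_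
    obtain ⟨b, rfl⟩ := (f.mem_centralizer_T).1 hx
    rcases hcomm b with ⟨v, ⟨-, hv⟩ | hb⟩
    · rw [← hv, ← commutatorElement_def]
      exact Subgroup.commutator_mem_commutator (f.vec_mem v) (Subgroup.mem_zpowers _)
    · subst hb
      rw [show (![0, 0] : Fin 2 → F) = 0 by ext i; fin_cases i <;> rfl, f.vec_zero]
      exact one_mem _
  obtain ⟨w, rfl⟩ := (f.vec_range v).1 hv
  have hw : w 1 ≠ 0 := by
    intro h
    exact hvc (Subgroup.mem_inf.1 ((f.mem_centralizer_T).2 ⟨w 0, by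
      rw [← h, ← CfsgLib.LocalEven.NatFrame.eq_pair]⟩)).2
  refine le_antisymm ((Subgroup.closure_le _).2 ?_) fun x hx => ?_
  · rintro x ⟨t, ht, rfl⟩
    exact hle (Subgroup.commutator_mem_commutator (f.vec_mem w) ht)
  · obtain ⟨b, rfl⟩ := (f.mem_centralizer_T).1 hx
    obtain ⟨c, hc⟩ := f.exists_commutator hw b
    exact Subgroup.subset_closure ⟨_, (f.mem_T _).2 ⟨c, rfl⟩, hc.symm⟩

end Cfsg.Agent.S2779
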