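import Cfsg.Statements.S2780
import Cfsg.Agent.Lib.LocalEven.NaturalFrame
import Mathlib.FieldTheory.Finite.Basic
open scoped commutatorElement

set_option autoImplicit false
open Cfsg

namespace Cfsg.Agent.S2780

/-- Let L act on the elementary abelian p-group V (inside a finite group, faithfully) as SL₂(F) on its natural module, F a field with p^n elements, S a Sylow p-subgroup of L. Then: for every g ∈ L not normalizing S, V is the internal direct product of C_V(S) and C_V(gSg⁻¹); every nonidentity element of L of order prime to p acts on V without nonidentity fixed points; and C_V(S) and V/C_V(S) are irreducible for N_L(S): the only N_L(S)-invariant subgroups of C_V(S) are 1 and C_V(S), and the only N_L(S)-invariant subgroups between C_V(S) and V are those two. -/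
theorem result {G : Type*} [Group G] [Finite G] {p : ℕ} [Fact p.Prime] {F : Type*} [Field F] [Fintype F] (n : ℕ) (hF : Fintype.card F = p ^ n) (V L : Subgroup G) (hnat : Cfsg.IsNaturalSL2Module F V L) (hf : L ⊓ Subgroup.centralizer (V : Set G) = ⊥) (S : Sylow p ↥L) (T : Subgroup G) (hT : T = ((S : Subgroup ↥L).map L.subtype)) : (∀ g ∈ L, g ∉ Subgroup.normalizer (T : Set G) → Cfsg.IsInternalDirectProduct (V ⊓ Subgroup.centralizer ((T : Subgroup G) : Set G)) (V ⊓ Subgroup.centralizer ((T.map (MulAut.conj g).toMonoidHom : Subgroup G) : Set G)) V) ∧ (∀ x ∈ L, x ≠ 1 → (orderOf x).Coprime p → (V ⊓ Subgroup.centralizer ({x} : Set G)) = ⊥) ∧ (∀ U : Subgroup G, U ≤ (V ⊓ Subgroup.centralizer ((T : Subgroup G) : Set G)) → L ⊓ Subgroup.normalizer (T : Set G) ≤ Subgroup.normalizer (U : Set G) → U = ⊥ ∨ U = (V ⊓ Subgroup.centralizer ((T : Subgroup G) : Set G))) ∧ (∀ U : Subgroup G, (V ⊓ Subgroup.centralizer ((T : Subgroup G) : Set G)) ≤ U → U ≤ V → L ⊓ Subgroup.normalizer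 (T : Set G) ≤ Subgroup.normalizer (U : Set G) → U = (V ⊓ Subgroup.centralizer ((T : Subgroup G) : Set G)) ∨ U = V) := by
  haveI : CharP F p := charP_of_card_eq_prime_pow hF
  obtain ⟨f⟩ := CfsgLib.LocalEven.NatFrame.exists_frame hnat hf S
  rw [← hT] at f
  have hdiag : ∀ (a : F) (ha : a ≠ 0), f.mat (CfsgLib.LocalEven.QdOver.diagSL a ha) ∈
      L ⊓ Subgroup.normalizer (T : Set G) := fun a ha =>
    Subgroup.mem_inf.2 ⟨f.mat_mem _, f.mat_normalizes (by simp)⟩
  have hscale : ∀ U : Subgroup G, L ⊓ Subgroup.normalizer (T : Set G) ≤ Subgroup.normalizer (U : Set G) →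
      ∀ (a : F) (ha : a ≠ 0) (x y : F), f.vec ![x, y] ∈ U → f.vec ![a * x, y / a] ∈ U := by
    intro U hU a ha x y h
    have h1 := (Subgroup.mem_normalizer_iff.1 (hU (hdiag a ha)) _).1 h
    rwa [f.act, CfsgLib.LocalEven.NatFrame.diagSL_mulVec] at h1
  have hzero : (![0, 0] : Fin 2 → F) = 0 := by ext i; fin_cases i <;> rfl
  refine ⟨fun g hg hgn => ?_, fun x hx hx1 hxo => ?_, fun U hU hUn => ?_, fun U hU hUV hUn => ?_⟩
  · obtain ⟨A, rfl⟩ := (f.mat_range g).1 hg
    have hA : A.1 1 0 ≠ 0 := fun h => hgn (f.mat_normalizes h)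
    set T' := T.map (MulAut.conj (f.mat A)).toMonoidHom with hT'
    have hmem : ∀ x, x ∈ V ⊓ Subgroup.centralizer (T' : Set G) ↔
        ∃ b, f.vec (A.1.mulVec ![b, 0]) = x := by
      intro x
      constructor
      · intro hx
        obtain ⟨v, rfl⟩ := (f.vec_range x).1 hx.1
        set w := (A⁻¹).1.mulVec v
        have hv : v = A.1.mulVec w := by
          rw [Matrix.mulVec_mulVec, ← Matrix.SpecialLinearGroup.coe_mul, mul_inv_cancel,
            Matrix.SpecialLinearGroup.coe_one, Matrix.one_mulVec]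
        have h1 : f.vec w ∈ V ⊓ Subgroup.centralizer (T : Set G) := by
          refine Subgroup.mem_inf.2 ⟨f.vec_mem w, Subgroup.mem_centralizer_iff.2 fun t ht => ?_⟩
          have h2 := Subgroup.mem_centralizer_iff.1 hx.2 (f.mat A * t * (f.mat A)⁻¹) ⟨t, ht, rfl⟩
          rw [hv, ← f.act] at h2
          have h3 := congrArg (fun z => (f.mat A)⁻¹ * z * f.mat A) h2
          simpa [mul_assoc] using h3
        obtain ⟨b, hb⟩ := (f.mem_centralizer_T).1 h1
        exact ⟨b, by rw [hv, f.vec_inj hb]⟩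
      · rintro ⟨b, rfl⟩
        refine ⟨f.vec_mem _, Subgroup.mem_centralizer_iff.2 ?_⟩
        rintro _ ⟨t, ht, rfl⟩
        have h2 := Subgroup.mem_centralizer_iff.1
          (Subgroup.mem_inf.1 ((f.mem_centralizer_T).2 ⟨b, rfl⟩)).2 t ht
        rw [← f.act]
        show f.mat A * t * (f.mat A)⁻¹ * (f.mat A * f.vec ![b, 0] * (f.mat A)⁻¹) =
          f.mat A * f.vec ![b, 0] * (f.mat A)⁻¹ * (f.mat A * t * (f.mat A)⁻¹)
        calc _ = f.mat A * (t * f.vec ![b, 0]) * (f.mat A)⁻¹ := by group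
          _ = f.mat A * (f.vec ![b, 0] * t) * (f.mat A)⁻¹ := by rw [h2]
          _ = _ := by group
    refine ⟨inf_le_left, inf_le_left, ?_, ?_, le_antisymm (sup_le inf_le_left inf_le_left) fun x hx => ?_⟩
    · rintro a ha b hb
      obtain ⟨v, rfl⟩ := (f.vec_range a).1 ha.1
      obtain ⟨w, rfl⟩ := (f.vec_range b).1 hb.1
      exact f.vec_comm v w
    · refine (Subgroup.eq_bot_iff_forall _).2 fun x hx => ?_
      obtain ⟨a, ha⟩ := (f.mem_centralizer_T).1 (Subgroup.mem_inf.1 hx).1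
      obtain ⟨b, hb⟩ := (hmem x).1 (Subgroup.mem_inf.1 hx).2
      have h1 := congrFun (f.vec_inj (hb.trans ha.symm)) 1
      have hb0 : b = 0 := by
        simpa [Matrix.mulVec, dotProduct, Fin.sum_univ_two, hA] using h1
      rw [← hb, hb0, hzero, Matrix.mulVec_zero, f.vec_zero]
    · obtain ⟨v, rfl⟩ := (f.vec_range x).1 hx
      have e : v = ![v 0 - A.1 0 0 * (v 1 / A.1 1 0), 0] + A.1.mulVec ![v 1 / A.1 1 0, 0] := by
        ext i
        fin_cases i <;> simp [Matrix.mulVec, dotProduct, Fin.sum_univ_two, mul_div_cancel₀, hA]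
      rw [e, f.vec_add]
      exact mul_mem (Subgroup.mem_sup_left ((f.mem_centralizer_T).2 ⟨_, rfl⟩))
        (Subgroup.mem_sup_right ((hmem _).2 ⟨_, rfl⟩))
  · refine (Subgroup.eq_bot_iff_forall _).2 fun y hy => ?_
    obtain ⟨A, rfl⟩ := (f.mat_range x).1 hx
    obtain ⟨v, rfl⟩ := (f.vec_range y).1 hy.1
    by_contra hv
    have hv0 : v ≠ 0 := fun h => hv (by rw [h, f.vec_zero])
    have h1 := (f.comm_iff A v).1 (Subgroup.mem_centralizer_iff.1 hy.2 _ (Set.mem_singleton _))
    have h2 : A ^ p = 1 := CfsgLib.LocalEven.NatFrame.mulVec_eq_self_imp hv0 h1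
    have h3 : orderOf (f.mat A) ∣ p := orderOf_dvd_of_pow_eq_one (by rw [← map_pow, h2, map_one])
    exact hx1 (orderOf_eq_one_iff.1 (Nat.eq_one_of_dvd_coprimes hxo dvd_rfl h3))
  · by_cases hbot : U = ⊥
    · exact Or.inl hbot
    right
    refine le_antisymm hU fun x hx => ?_
    obtain ⟨⟨u, hu⟩, hu1⟩ := Subgroup.ne_bot_iff_exists_ne_one.1 hbot
    obtain ⟨a, rfl⟩ := (f.mem_centralizer_T).1 (hU hu)
    obtain ⟨b, rfl⟩ := (f.mem_centralizer_T).1 hx
    have ha : a ≠ 0 := fun h => hu1 (Subtype.ext (by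
      show f.vec ![a, 0] = 1
      rw [h, hzero, f.vec_zero]))
    by_cases hb : b = 0
    · rw [hb, hzero, f.vec_zero]; exact one_mem _
    have h1 := hscale U hUn (b / a) (div_ne_zero hb ha) a 0 hu
    rwa [zero_div, div_mul_cancel₀ b ha] at h1
  · by_cases hle : U ≤ V ⊓ Subgroup.centralizer (T : Set G)
    · exact Or.inl (le_antisymm hle hU)
    right
    obtain ⟨u, hu, hun⟩ := SetLike.not_le_iff_exists.1 hle
    obtain ⟨w, rfl⟩ := (f.vec_range u).1 (hUV hu)
    have hw : w 1 ≠ 0 := fun h => hun ((f.mem_centralizer_T).2 ⟨w 0, by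
      rw [← h, ← CfsgLib.LocalEven.NatFrame.eq_pair]⟩)
    have h0 : f.vec ![0, w 1] ∈ U := by
      have h1 : f.vec ![-w 0, 0] ∈ U := hU ((f.mem_centralizer_T).2 ⟨_, rfl⟩)
      have h2 := mul_mem h1 hu
      rw [← f.vec_add] at h2
      convert h2 using 2
      ext i
      fin_cases i <;> simp
    refine le_antisymm hUV fun x hx => ?_
    obtain ⟨v, rfl⟩ := (f.vec_range x).1 hx
    have e : v = ![v 0, 0] + ![0, v 1] := by ext i; fin_cases i <;> simp
    rw [e, f.vec_add]
    refine mul_mem (hU ((f.mem_centralizer_T).2 ⟨_, rfl⟩)) ?_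
    by_cases hv : v 1 = 0
    · rw [hv, hzero, f.vec_zero]; exact one_mem _
    have h1 := hscale U hUn (w 1 / v 1) (div_ne_zero hw hv) 0 (w 1) h0
    rwa [mul_zero, div_div_eq_mul_div, mul_div_cancel_left₀ _ hw] at h1

end Cfsg.Agent.S2780
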