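import Cfsg.Statements.S2781
import Cfsg.Agent.Lib.LocalEven.Kieler
import Cfsg.Agent.Lib.Solvable.CoprimeAction
import Cfsg.Agent.Lib.Transfer.Basic
open scoped commutatorElement

set_option autoImplicit false
open Cfsg

namespace Cfsg.Agent.S2781

/-- Let H act faithfully by conjugation on the elementary abelian p-subgroup V of a finite group, let O^p(H) be the subgroup of H generated by its elements of order prime to p, and T a Sylow p-subgroup of O^p(H). If V is generated by the H-conjugates of C_V(T) (V is the smallest H-invariant subgroup containing C_V(T)), then V = [V, O^p(H)]·C_V(O^p(H)). -/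
theorem result {G : Type*} [Group G] [Finite G] {p : ℕ} [Fact p.Prime] (V H : Subgroup G) (hV : Cfsg.IsElementaryAbelian p V) (hHV : H ≤ Subgroup.normalizer (V : Set G)) (hf : H ⊓ Subgroup.centralizer (V : Set G) = ⊥) (R : Subgroup G) (hR : R = (Cfsg.pResidual p ↥H).map H.subtype) (S : Sylow p ↥R) (T : Subgroup G) (hT : T = ((S : Subgroup ↥R).map R.subtype)) (hgen : ∀ W : Subgroup G, H ≤ Subgroup.normalizer (W : Set G) → (V ⊓ Subgroup.centralizer ((T : Subgroup G) : Set G)) ≤ W → V ≤ W) : ⁅V, R⁆ ⊔ (V ⊓ Subgroup.centralizer ((R : Subgroup G) : Set G)) = V := by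
  have hRH : R ≤ H := hR ▸ Subgroup.map_subtype_le _
  have hVR : ⁅V, R⁆ ≤ V := CfsgLib.Solvable.commutator_le_of_le_normalizer (hRH.trans hHV)
  refine le_antisymm (sup_le hVR inf_le_left) (hgen _ ?_ ?_)
  · intro h hh
    have hnV := Subgroup.mem_normalizer_iff_map_conj_eq.1 (hHV hh)
    have hnR' : h ∈ Subgroup.normalizer (R : Set G) := by
      haveI := CfsgLib.Transfer.pResidual_characteristic (p := p) (G := ↥H)
      rw [hR]
      refine Subgroup.le_normalizer_map (H := Cfsg.pResidual p ↥H) H.subtype ⟨⟨h, hh⟩, ?_, rfl⟩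
      rw [Subgroup.normalizer_eq_top]
      exact Subgroup.mem_top _
    have hnC := Subgroup.mem_normalizer_iff_map_conj_eq.1 (CfsgLib.LocalEven.Oz.mem_normalizer_centralizer hnR')
    rw [Subgroup.mem_normalizer_iff_map_conj_eq, Subgroup.map_sup, Subgroup.map_commutator,
      Subgroup.map_inf V _ _ (MulAut.conj h).injective, hnV, hnC,
      Subgroup.mem_normalizer_iff_map_conj_eq.1 hnR']
  · intro z hz
    have hTR : T ≤ R := hT ▸ Subgroup.map_subtype_le _
    have hn : ¬ p ∣ T.relIndex R := by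
      rw [hT, Subgroup.relIndex, Subgroup.subgroupOf,
        Subgroup.comap_map_eq_self_of_injective R.subtype_injective]
      exact S.not_dvd_index
    obtain ⟨e, he1, -, -, he4, -⟩ := CfsgLib.LocalEven.Avg.exists_avg hTR hn
      (fun a ha b hb => CfsgLib.PGroup.elemAb_comm hV ha hb) hV.2 (hRH.trans hHV)
    obtain ⟨hc1, hc2⟩ := he1 z hz.1 (Subgroup.mem_centralizer_iff.1 hz.2)
    have hd := he4 z hz.1 ⁅V, R⁆ fun g hg => by
      have e' : z * (g * z⁻¹ * g⁻¹) = ⁅z, g⁆ := by rw [commutatorElement_def]; group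
      rw [e']
      exact Subgroup.commutator_mem_commutator hz.1 hg
    have := mul_mem (Subgroup.mem_sup_right (S := ⁅V, R⁆) (Subgroup.mem_inf.2 ⟨hc1, Subgroup.mem_centralizer_iff.2 hc2⟩ : e z ∈ V ⊓ Subgroup.centralizer (R : Set G))) (Subgroup.mem_sup_left hd)
    rwa [mul_inv_cancel_left] at this

end Cfsg.Agent.S2781
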