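import Cfsg.Statements.S2788
import Cfsg.Agent.Lib.LocalEven.SingerBound
import Cfsg.Agent.Lib.LocalEven.NaturalFrame
import Cfsg.Agent.Lib.LocalEven.WeaklyClosed
import Cfsg.Agent.Lib.KnownSimple.SpConstruct
import Cfsg.Agent.Lib.SL2Table.Classes
open Subgroup

set_option autoImplicit false
open Cfsg

namespace Cfsg.Agent.S2788

/-- Let H act faithfully by conjugation on the elementary abelian p-subgroup V of a finite group with H ≅ SL₂(F), F a field with p^n elements, S a Sylow p-subgroup of H, and A ≤ S a subgroup of order at least 3 acting quadratically on V ([V, A, A] = 1). Then |V/C_V(a)| ≥ p^n for every nonidentity a ∈ A. -/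
theorem result {G : Type*} [Group G] [Finite G] {p : ℕ} [Fact p.Prime] (V H : Subgroup G) (hV : Cfsg.IsElementaryAbelian p V) (hHV : H ≤ Subgroup.normalizer (V : Set G)) (hf : H ⊓ Subgroup.centralizer (V : Set G) = ⊥) {F : Type*} [Field F] [Fintype F] (n : ℕ) (hF : Fintype.card F = p ^ n) (hiso : Nonempty (↥H ≃* Matrix.SpecialLinearGroup (Fin 2) F)) (S : Sylow p ↥H) (T : Subgroup G) (hT : T = ((S : Subgroup ↥H).map H.subtype)) (A : Subgroup G) (hA : A ≤ T) (hA3 : 3 ≤ Nat.card A) (hquad : ⁅⁅V, A⁆, A⁆ = ⊥) : ∀ a ∈ A, a ≠ 1 → p ^ n ≤ ((V ⊓ Subgroup.centralizer ({a} : Set G))).relIndex V := by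
  classical
  obtain ⟨e⟩ := hiso
  have hp : p.Prime := Fact.out
  have hn : 0 < n := by
    rcases Nat.eq_zero_or_pos n with h0 | h0
    · subst h0; rw [pow_zero] at hF; exact absurd hF (Fintype.one_lt_card (α := F)).ne'
    · exact h0
  haveI : CharP F p := by
    obtain ⟨r, hr⟩ := CharP.exists F
    haveI := hr
    obtain ⟨⟨k, hk0⟩, hr', hk⟩ := FiniteField.card F r
    rw [hF] at hk
    have : r ∣ p := by
      refine hr'.dvd_of_dvd_pow (n := n) ?_
      rw [hk]
      exact dvd_pow_self r hk0.ne'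
    rwa [(Nat.prime_dvd_prime_iff_eq hr' hp).1 this] at hr
  intro a haA ha1
  -- coordinates in which `a` is upper unitriangular
  obtain ⟨U, hU⟩ := CfsgLib.LocalEven.NatFrame.exists_sylow_upRange (p := p) (F := F)
  obtain ⟨c, hc⟩ := MulAction.exists_smul_eq (Matrix.SpecialLinearGroup (Fin 2) F) (S.mapSurjective (f := e.toMonoidHom) e.surjective) U
  set φ : Matrix.SpecialLinearGroup (Fin 2) F →* G :=
    H.subtype.comp (e.symm.toMonoidHom.comp (MulAut.conj c⁻¹).toMonoidHom) with hφ
  have hφi : Function.Injective φ := fun u v h =>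
    (MulAut.conj c⁻¹).injective (e.symm.injective (H.subtype_injective h))
  have hφH : ∀ u, φ u ∈ H := fun u => (e.symm (MulAut.conj c⁻¹ u)).2
  obtain ⟨t, ht⟩ : ∃ t, φ (CfsgLib.LocalEven.QdOver.upSL t) = a := by
    have haT := hA haA
    rw [hT] at haT
    obtain ⟨u, hu, hua⟩ := haT
    have h1 : (c * e u * c⁻¹) ∈ (U : Subgroup (Matrix.SpecialLinearGroup (Fin 2) F)) := by
      rw [← hc, Sylow.coe_subgroup_smul]
      exact ⟨e u, ⟨u, hu, rfl⟩, rfl⟩
    rw [hU] at h1
    obtain ⟨t, ht⟩ := h1
    refine ⟨t, ?_⟩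
    rw [ht, ← hua]
    show ((e.symm (c⁻¹ * (c * e u * c⁻¹) * c⁻¹⁻¹) : ↥H) : G) = u
    rw [show c⁻¹ * (c * e u * c⁻¹) * c⁻¹⁻¹ = e u by group, e.symm_apply_apply]
  have ht0 : t ≠ 0 := fun h => ha1 (by rw [← ht, h, CfsgLib.LocalEven.NatFrame.upSL_zero, map_one])
  -- an element of order `q + 1`
  obtain ⟨-, s, hs⟩ := CfsgLib.KnownSimple.exists_sl2_orderOf (F := F)
  rw [hF] at hs
  have hpn : p ≤ p ^ n := Nat.le_self_pow hn.ne' p
  have hp2 := hp.two_le
  have hco : ¬ orderOf s ∣ p := by
    intro h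
    rw [hs] at h
    have := Nat.le_of_dvd hp.pos h
    omega
  have hCH : ∀ u : Matrix.SpecialLinearGroup (Fin 2) F,
      (u : Matrix (Fin 2) (Fin 2) F) * u = u.1.trace • (u : Matrix (Fin 2) (Fin 2) F) - 1 := by
    intro u
    have hd := u.2
    rw [Matrix.det_fin_two] at hd
    ext i j
    fin_cases i <;> fin_cases j <;>
      simp [Matrix.mul_apply, Fin.sum_univ_two, Matrix.trace_fin_two] <;>
      first
        | ring1
        | linear_combination hd
        | linear_combination -hd
  have htr2 : s.1.trace ≠ 2 := by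
    intro h2
    apply hco
    refine orderOf_dvd_of_pow_eq_one (Subtype.ext ?_)
    have hN : ((s : Matrix (Fin 2) (Fin 2) F) - 1) ^ 2 = 0 := by
      rw [sq, sub_mul, mul_sub, mul_one, one_mul, hCH, h2, two_smul]
      abel
    obtain ⟨j, hj⟩ := Nat.exists_eq_add_of_le hp2
    have h3 : ((s : Matrix (Fin 2) (Fin 2) F) - 1) ^ p = 0 := by rw [hj, pow_add, hN, zero_mul]
    rw [sub_pow_char_of_commute (p := p) (Commute.one_right _), one_pow, sub_eq_zero] at h3
    rw [Matrix.SpecialLinearGroup.coe_pow, h3, Matrix.SpecialLinearGroup.coe_one]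
  obtain ⟨w, hw0, hw⟩ : ∃ w : F, w ≠ 0 ∧ (s.1.trace - 2 = w ^ 2 ∨ s.1.trace - 2 = -(w ^ 2)) := by
    have hne : s.1.trace - 2 ≠ 0 := sub_ne_zero.2 htr2
    by_cases h4 : Fintype.card F % 4 = 1
    · obtain ⟨l, hl⟩ : ∃ l, Fintype.card F + 1 = 2 * (2 * l + 1) := ⟨Fintype.card F / 4, by omega⟩
      rw [hF] at hl
      have h20 : (2 : F) ≠ 0 := by
        refine Ring.two_ne_zero fun hc2 => ?_
        have := FiniteField.even_card_of_char_two hc2
        omega
      set u := s ^ (2 * l + 1) with hu
      have hu2 : u * u = 1 := by rw [hu, ← pow_add, ← two_mul, ← hl, ← hs, pow_orderOf_eq_one]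
      have hu1 : u ≠ 1 := fun h => by
        have := Nat.le_of_dvd (by omega) (orderOf_dvd_of_pow_eq_one h)
        rw [hs] at this
        omega
      have huM := hCH u
      rw [← Matrix.SpecialLinearGroup.coe_mul, hu2, Matrix.SpecialLinearGroup.coe_one, eq_sub_iff_add_eq] at huM
      have h01 := congrFun (congrFun huM 0) 1
      have h10 := congrFun (congrFun huM 1) 0
      have h00 := congrFun (congrFun huM 0) 0
      have h11 := congrFun (congrFun huM 1) 1
      simp [Matrix.trace_fin_two] at h01 h10 h00 h11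
      have hτ : u.1 0 0 + u.1 1 1 ≠ 0 := fun h => by
        rw [h, zero_mul] at h00
        exact h20 (by linear_combination h00)
      have hb : u.1 0 1 = 0 := by
        rcases h01 with h | h
        · exact absurd h hτ
        · exact h
      have hc' : u.1 1 0 = 0 := by
        rcases h10 with h | h
        · exact absurd h hτ
        · exact h
      have hd := u.2
      rw [Matrix.det_fin_two, hb, hc', mul_zero, sub_zero] at hd
      have hu00 : u.1 0 0 = u.1 1 1 := mul_left_cancel₀ hτ (by linear_combination h11 - h00)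
      rw [← hu00] at hd
      have hneg : u.1 0 0 = -1 := by
        rcases mul_self_eq_one_iff.1 hd with h | h
        · refine absurd (Subtype.ext ?_) hu1
          ext i j
          fin_cases i <;> fin_cases j <;> simp [hb, hc', h, hu00 ▸ h]
        · exact h
      set v := s ^ (l + 1) with hv
      refine ⟨v.1.trace, ?_, ?_⟩
      · intro h0
        have h5 : v * v = u * s := by rw [hv, hu, ← pow_add, ← pow_succ]; congr 1; omega
        have h6 := congrArg (fun M : Matrix.SpecialLinearGroup (Fin 2) F => M.1.trace) h5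
        simp only [Matrix.SpecialLinearGroup.coe_mul, hCH] at h6
        rw [h0, zero_smul, zero_sub, Matrix.trace_neg, Matrix.trace_one] at h6
        simp [Matrix.trace_fin_two, Matrix.mul_apply, Fin.sum_univ_two, hb, hc', ← hu00, hneg] at h6
        exact hne (by rw [Matrix.trace_fin_two]; linear_combination h6)
      · right
        have h5 : v * v = u * s := by rw [hv, hu, ← pow_add, ← pow_succ]; congr 1; omega
        have h6 := congrArg (fun M : Matrix.SpecialLinearGroup (Fin 2) F => M.1.trace) h5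
        simp only [Matrix.SpecialLinearGroup.coe_mul, hCH] at h6
        rw [Matrix.trace_sub, Matrix.trace_smul, Matrix.trace_one] at h6
        simp [Matrix.trace_fin_two, Matrix.mul_apply, Fin.sum_univ_two, hb, hc', ← hu00, hneg] at h6
        simp only [Matrix.trace_fin_two]
        linear_combination h6
    · by_cases h2 : ringChar F = 2
      · obtain ⟨w, hw⟩ := FiniteField.isSquare_of_char_two h2 (s.1.trace - 2)
        exact ⟨w, fun h => hne (by rw [hw, h, mul_zero]), Or.inl (by rw [hw, sq])⟩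
      · by_cases hsq : IsSquare (s.1.trace - 2)
        · obtain ⟨w, hw⟩ := hsq
          exact ⟨w, fun h => hne (by rw [hw, h, mul_zero]), Or.inl (by rw [hw, sq])⟩
        · have hm1 : ¬ IsSquare (-1 : F) := by
            rw [FiniteField.isSquare_neg_one_iff, not_not]
            have := FiniteField.odd_card_of_char_ne_two h2
            omega
          have h5 : quadraticChar F (-(s.1.trace - 2)) = 1 := by
            rw [← neg_one_mul, map_mul, quadraticChar_neg_one_iff_not_isSquare.2 hm1,
              quadraticChar_neg_one_iff_not_isSquare.2 hsq]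
            norm_num
          obtain ⟨w, hw⟩ := (quadraticChar_one_iff_isSquare (neg_ne_zero.2 hne)).1 h5
          exact ⟨w, fun h => hne (by rw [← neg_neg (s.1.trace - 2), hw, h, mul_zero, neg_zero]),
            Or.inr (by rw [sq, ← hw, neg_neg])⟩
  -- realise it as a product of `a` and a conjugate of `a^±1`
  set z := w / t with hz
  have hz0 : z ≠ 0 := div_ne_zero hw0 ht0
  set g := CfsgLib.LocalEven.QdOver.antiSL (1 : F) one_ne_zero * CfsgLib.LocalEven.QdOver.diagSL z hz0 with hg
  have hlow : ∀ u : F, g * CfsgLib.LocalEven.QdOver.upSL u * g⁻¹ = CfsgLib.LocalEven.QdOver.lowSL (-(z ^ 2 * u)) := by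
    intro u
    rw [mul_inv_eq_iff_eq_mul, hg]
    apply Subtype.ext
    ext i j
    fin_cases i <;> fin_cases j <;>
      simp [Matrix.SpecialLinearGroup.coe_mul, Matrix.mul_apply, Fin.sum_univ_two] <;> field_simp
  obtain ⟨y, hy, hty⟩ : ∃ y : F, (∃ ε : F, (ε = 1 ∨ ε = -1) ∧
      g * CfsgLib.LocalEven.QdOver.upSL (ε * t) * g⁻¹ = CfsgLib.LocalEven.QdOver.lowSL y) ∧ 2 + t * y = s.1.trace := by
    rcases hw with h | h
    · refine ⟨z ^ 2 * t, ⟨-1, Or.inr rfl, by rw [hlow]; congr 1; ring⟩, ?_⟩
      rw [eq_add_of_sub_eq h, hz]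
      field_simp
      ring
    · refine ⟨-(z ^ 2 * t), ⟨1, Or.inl rfl, by rw [hlow, one_mul]⟩, ?_⟩
      rw [eq_add_of_sub_eq h, hz]
      field_simp
      ring
  obtain ⟨ε, hε, hgy⟩ := hy
  set x := CfsgLib.LocalEven.QdOver.upSL t * CfsgLib.LocalEven.QdOver.lowSL y with hx
  have hxo : orderOf x = p ^ n + 1 := by
    rw [← hs]
    have hns : CfsgLib.SL2Table.NonScalar (s : Matrix (Fin 2) (Fin 2) F) := by
      rintro ⟨b, hb⟩
      have hd := s.2
      rw [hb] at hd
      simp [Matrix.det_fin_two] at hd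
      have h2 : s * s = 1 := by
        apply Subtype.ext
        rw [Matrix.SpecialLinearGroup.coe_mul, hb, smul_mul_smul_comm, one_mul, Matrix.SpecialLinearGroup.coe_one,
          show b * b = 1 by rcases hd with h | h <;> simp [h], one_smul]
      have := Nat.le_of_dvd (by norm_num) (orderOf_dvd_of_pow_eq_one (x := s) (n := 2) (by rw [sq, h2]))
      rw [hs] at this
      rcases (show p ^ n = 1 ∨ 2 ≤ p ^ n by omega) with h3 | h3 <;> omega
    have hnx : CfsgLib.SL2Table.NonScalar (x : Matrix (Fin 2) (Fin 2) F) := by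
      rintro ⟨b, hb⟩
      have := congrFun (congrFun hb 0) 1
      simp [hx, Matrix.SpecialLinearGroup.coe_mul, Matrix.mul_apply, Fin.sum_univ_two] at this
      exact ht0 this
    have hcj := CfsgLib.SL2Table.gl_isConj (Matrix.SpecialLinearGroup.toGL x) (Matrix.SpecialLinearGroup.toGL s) hnx hns
      (by
        show (x : Matrix (Fin 2) (Fin 2) F).trace = (s : Matrix (Fin 2) (Fin 2) F).trace
        rw [← hty]
        simp [hx, Matrix.SpecialLinearGroup.coe_mul, Matrix.trace_fin_two, Matrix.mul_apply, Fin.sum_univ_two]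
        ring)
      (by simp)
    obtain ⟨k, hk⟩ := isConj_iff.1 hcj
    rw [← orderOf_injective (Matrix.SpecialLinearGroup.toGL (n := Fin 2) (R := F)) Matrix.SpecialLinearGroup.toGL_injective x,
      ← orderOf_injective (Matrix.SpecialLinearGroup.toGL (n := Fin 2) (R := F)) Matrix.SpecialLinearGroup.toGL_injective s, ← hk]
    exact (MulEquiv.orderOf_eq (MulAut.conj k) _).symm
  -- fixed points
  have hgV : φ g ∈ normalizer (V : Set G) := hHV (hφH g)
  set K := V ⊓ centralizer ({a} : Set G) with hK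
  set L := V ⊓ centralizer ({φ x} : Set G) with hL
  have hKV : (K.map (MulAut.conj (φ g)).toMonoidHom).relIndex V = K.relIndex V := by
    conv_lhs => rw [← CfsgLib.LocalEven.WC.map_conj_eq_of_mem hgV]
    exact Subgroup.relIndex_map_map_of_injective K V (MulAut.conj (φ g)).injective
  have hle : K ⊓ K.map (MulAut.conj (φ g)).toMonoidHom ≤ L := by
    rintro v ⟨hv1, k, hk, hkv⟩
    refine Subgroup.mem_inf.2 ⟨hv1.1, Subgroup.mem_centralizer_iff.2 fun y hy => ?_⟩
    rw [Set.mem_singleton_iff] at hy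
    subst hy
    have hka : Commute a k := Subgroup.mem_centralizer_iff.1 hk.2 a rfl
    have hva : Commute a v := Subgroup.mem_centralizer_iff.1 hv1.2 a rfl
    have hε' : φ (CfsgLib.LocalEven.QdOver.upSL (ε * t)) = a ∨ φ (CfsgLib.LocalEven.QdOver.upSL (ε * t)) = a⁻¹ := by
      rcases hε with h | h
      · exact Or.inl (by rw [h, one_mul, ht])
      · exact Or.inr (by rw [h, neg_one_mul, ← CfsgLib.LocalEven.NatFrame.upSL_inv, map_inv, ht])
    have hkb : Commute (φ (CfsgLib.LocalEven.QdOver.upSL (ε * t))) k := by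
      rcases hε' with h | h <;> rw [h]
      · exact hka
      · exact hka.inv_left
    have hb : Commute (φ (g * CfsgLib.LocalEven.QdOver.upSL (ε * t) * g⁻¹)) v := by
      rw [← hkv, map_mul, map_mul, map_inv]
      exact hkb.map (MulAut.conj (φ g)).toMonoidHom
    rw [hgy] at hb
    show φ x * v = v * φ x
    rw [hx, map_mul, ht]
    exact (hva.mul_left hb).eq
  have hb := CfsgLib.LocalEven.SingerBound.bound (x := φ x) hV (hHV (hφH x)) (fun u hu hu' =>
      Subgroup.mem_bot.1 (hf.le (Subgroup.mem_inf.2 ⟨Subgroup.zpowers_le.2 (hφH x) hu, hu'⟩))) hn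
    (by rw [orderOf_injective φ hφi, hxo])
  have h1 : L.relIndex V ≤ K.relIndex V * K.relIndex V := by
    refine le_trans (Nat.le_of_dvd (Nat.pos_of_ne_zero Subgroup.index_ne_zero_of_finite) (Subgroup.relIndex_dvd_of_le_left V hle)) ?_
    calc (K ⊓ K.map (MulAut.conj (φ g)).toMonoidHom).relIndex V ≤ K.relIndex V * (K.map (MulAut.conj (φ g)).toMonoidHom).relIndex V :=
          Subgroup.relIndex_inf_le
      _ = K.relIndex V * K.relIndex V := by rw [hKV]
  have h2 := hb.trans h1
  rw [two_mul, pow_add] at h2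
  exact Nat.mul_self_le_mul_self_iff.1 h2

end Cfsg.Agent.S2788
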