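import Cfsg.Statements.S2791
import Cfsg.Agent.Lib.LocalEven.ActKernel
import Cfsg.Agent.Lib.LocalEven.SubnormalSylow
import Cfsg.Agent.Lib.Techniques.Functor.SectionFusion
open scoped commutatorElement

set_option autoImplicit false
open Cfsg

namespace Cfsg.Agent.S2791


open Subgroup in
open CfsgLib.Fusion (conjSub mem_conjSub conjSub_conjSub) in
open CfsgLib.Techniques.Functor (Full alperin_over) in
/-- `N(A₀)` realizes every conjugation, by induction from the top. -/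
theorem key {G : Type*} [Group G] [Finite G] {p : ℕ} [Fact p.Prime] (S : Sylow p G) (A₀ : Subgroup G)
    (hA : IsMulCommutative ↥A₀) (hsc : Cfsg.IsStronglyClosed A₀ (S : Subgroup G)) (d : ℕ) :
    ∀ (A : Subgroup G) (g : G), A ≤ (S : Subgroup G) → conjSub g A ≤ (S : Subgroup G) →
      Nat.card ↥(S : Subgroup G) - Nat.card A < d →
      ∃ x ∈ normalizer (A₀ : Set G), ∀ a ∈ A, g * a * g⁻¹ = x * a * x⁻¹ := by
  induction d with
  | zero => intro A g _ _ h; omega
  | succ d ih =>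
  intro A g hAS hgA hlt
  set s := Nat.card ↥(S : Subgroup G) with hs
  refine alperin_over S (fun A g => s - Nat.card A < d + 1 →
    ∃ x ∈ normalizer (A₀ : Set G), ∀ a ∈ A, g * a * g⁻¹ = x * a * x⁻¹) ⊥ ?_ ?_ ?_ A g bot_le hAS hgA hlt
  · intro A B g hBA h hB
    obtain ⟨x, hx, hxa⟩ := h (by have := Subgroup.card_le_of_le hBA; omega)
    exact ⟨x, hx, fun b hb => hxa b (hBA hb)⟩
  · intro A g h hg hh hlt
    obtain ⟨x, hx, hxa⟩ := hg hlt
    obtain ⟨y, hy, hya⟩ := hh (by rwa [CfsgLib.Fusion.card_conjSub])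
    refine ⟨y * x, mul_mem hy hx, fun a ha => ?_⟩
    have h1 := hya (g * a * g⁻¹) ⟨a, ha, rfl⟩
    rw [show h * g * a * (h * g)⁻¹ = h * (g * a * g⁻¹) * h⁻¹ by group, h1, hxa a ha]
    group
  intro X hXS _ hfull x hx hXd
  have hA₀S : A₀ ≤ (S : Subgroup G) := hsc.1
  have hSA₀ : (S : Subgroup G) ≤ normalizer (A₀ : Set G) := fun t ht =>
    CfsgLib.Solvable.mem_normalizer_of_conj_mem fun a ha => hsc.2 a ha t
      (mul_mem (mul_mem ht (hA₀S ha)) (inv_mem ht))
  set N := normalizer (X : Set G) with hN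
  by_cases hA₀X : A₀ ≤ X
  · exact ⟨x, CfsgLib.Solvable.mem_normalizer_of_conj_mem fun a ha =>
      hsc.2 a ha x (hXS ((Subgroup.mem_normalizer_iff.1 hx a).1 (hA₀X ha))), fun a _ => rfl⟩
  set D := X ⊓ A₀ with hD
  have hND : N ≤ normalizer (D : Set G) := fun n hn => CfsgLib.Solvable.mem_normalizer_of_conj_mem fun v hv => by
    have h1 := (Subgroup.mem_normalizer_iff.1 hn v).1 (Subgroup.mem_inf.1 hv).1
    exact Subgroup.mem_inf.2 ⟨h1, hsc.2 v (Subgroup.mem_inf.1 hv).2 n (hXS h1)⟩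
  set K := CfsgLib.LocalEven.ActKer.commKer N X D hND ⊓ centralizer (D : Set G) with hK
  have hNK : N ≤ normalizer (K : Set G) := fun n hn => CfsgLib.Solvable.mem_normalizer_of_conj_mem fun k hk =>
    Subgroup.mem_inf.2 ⟨CfsgLib.LocalEven.ActKer.conj_mem_commKer le_rfl hn (Subgroup.mem_inf.1 hk).1,
      Subgroup.mem_centralizer_iff.2 fun v hv => by
        have h4 := Subgroup.mem_centralizer_iff.1 (Subgroup.mem_inf.1 hk).2 (n⁻¹ * v * n)
          ((Subgroup.mem_normalizer_iff''.1 (hND hn) v).1 hv)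
        calc v * (n * k * n⁻¹) = n * ((n⁻¹ * v * n) * k) * n⁻¹ := by group
          _ = n * (k * (n⁻¹ * v * n)) * n⁻¹ := by rw [h4]
          _ = n * k * n⁻¹ * v := by group⟩
  have hKN : K ≤ N := inf_le_left.trans (CfsgLib.LocalEven.ActKer.commKer_le N X D hND)
  have hBK : A₀ ⊓ N ≤ K := fun b hb => by
    obtain ⟨hb1, hb2⟩ := Subgroup.mem_inf.1 hb
    refine Subgroup.mem_inf.2 ⟨⟨hb2, fun v hv => Subgroup.mem_inf.2 ⟨?_, ?_⟩⟩, Subgroup.mem_centralizer_iff.2 fun v hv => ?_⟩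
    · rw [commutatorElement_def]
      exact mul_mem ((Subgroup.mem_normalizer_iff.1 hb2 v).1 hv) (inv_mem hv)
    · rw [show ⁅b, v⁆ = b * (v * b⁻¹ * v⁻¹) by rw [commutatorElement_def]; group]
      exact mul_mem hb1 ((Subgroup.mem_normalizer_iff.1 (hSA₀ (hXS hv)) _).1 (inv_mem hb1))
    · exact congrArg Subtype.val (hA.is_comm.comm ⟨v, (Subgroup.mem_inf.1 hv).2⟩ ⟨b, hb1⟩)
  -- a Sylow subgroup of `K` inside `S`
  let P : Sylow p ↥N := IsPGroup.toSylow (S.2.comap_subtype (K := N)) (by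
    have h : ¬ p ∣ (S : Subgroup G).relIndex N := by
      rw [← Subgroup.inf_relIndex_right]; exact hfull
    exact h)
  haveI : (K.subgroupOf N).Normal := Subgroup.normal_subgroupOf_of_le_normalizer hNK
  obtain ⟨R, hR⟩ := CfsgLib.LocalEven.exists_sylow_eq_inf_of_isSubnormal P (K := K.subgroupOf N)
    (Subgroup.Normal.isSubnormal inferInstance)
  have hfr := Sylow.normalizer_sup_eq_top R
  have hx' : (⟨x, hx⟩ : N) ∈ ((normalizer (((R : Subgroup (K.subgroupOf N)).map (K.subgroupOf N).subtype : Subgroup N) : Set N) ⊔ K.subgroupOf N : Subgroup N) : Set N) := by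
    rw [hfr]; trivial
  rw [sup_comm, Subgroup.normal_mul] at hx'
  obtain ⟨k, hk, n, hn, hkn⟩ := hx'
  -- `k = c r`
  have hk' : (⟨k, hk⟩ : K.subgroupOf N) ∈ Cfsg.pResidual p ↥(K.subgroupOf N) ⊔ (R : Subgroup (K.subgroupOf N)) := by
    rw [CfsgLib.Transfer.pResidual_sup_sylow]; trivial
  haveI := CfsgLib.Transfer.pResidual_characteristic (G := ↥(K.subgroupOf N)) (p := p)
  have hk'' : (⟨k, hk⟩ : K.subgroupOf N) ∈
      ((Cfsg.pResidual p ↥(K.subgroupOf N) ⊔ (R : Subgroup (K.subgroupOf N)) : Subgroup ↥(K.subgroupOf N)) : Set ↥(K.subgroupOf N)) := hk'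
  rw [Subgroup.normal_mul] at hk''
  obtain ⟨c, hc, r, hr, hcr⟩ := hk''
  have hcX : ∀ v ∈ X, ((c : N) : G) * v = v * ((c : N) : G) := by
    let T : Subgroup ↥(K.subgroupOf N) := (centralizer (X : Set G)).comap (N.subtype.comp (K.subgroupOf N).subtype)
    have hT : Cfsg.pResidual p ↥(K.subgroupOf N) ≤ T := by
      rw [Cfsg.pResidual, Subgroup.closure_le]
      intro e he
      refine Subgroup.mem_centralizer_iff.2 fun v hv => ?_
      have heK : ((e : N) : G) ∈ K := e.2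
      obtain ⟨he1, he2⟩ := Subgroup.mem_inf.1 heK
      have h1 : ⁅((e : N) : G), v⁆ ∈ D := he1.2 v hv
      have h2 : v⁻¹ * ⁅((e : N) : G), v⁆ * v ∈ D :=
        (Subgroup.mem_normalizer_iff''.1 (hND (Subgroup.le_normalizer hv)) _).1 h1
      refine (CfsgLib.LocalEven.commute_of_conj_eq_mul (S.2.to_le ((inf_le_left : D ≤ X).trans hXS)) h2 ?_ ?_
        (Subgroup.mem_centralizer_iff.1 he2 _ h2).symm).symm
      · simpa [Subgroup.orderOf_coe] using he
      · show ((e : N) : G) * v * ((e : N) : G)⁻¹ = v * (v⁻¹ * ⁅((e : N) : G), v⁆ * v)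
        rw [commutatorElement_def]; group
    exact fun v hv => (Subgroup.mem_centralizer_iff.1 (hT hc) v hv).symm
  set X' := X ⊔ (S : Subgroup G) ⊓ K with hX'
  have hX'S : X' ≤ (S : Subgroup G) := sup_le hXS inf_le_left
  have hRS : ∀ z : G, z ∈ (S : Subgroup G) ⊓ K ↔
      ∃ hz : z ∈ N, (⟨z, hz⟩ : N) ∈ (R : Subgroup (K.subgroupOf N)).map (K.subgroupOf N).subtype := by
    intro z
    rw [hR, Subgroup.subgroupOf_map_subtype]
    refine ⟨fun h => ⟨hKN (Subgroup.mem_inf.1 h).2, Subgroup.mem_inf.2 ⟨(Subgroup.mem_inf.1 h).1, (Subgroup.mem_inf.1 h).2⟩⟩,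
      fun ⟨hz, h⟩ => Subgroup.mem_inf.2 ⟨(Subgroup.mem_inf.1 h).1, (Subgroup.mem_inf.1 h).2⟩⟩
  have hrS : ((r : N) : G) ∈ (S : Subgroup G) ⊓ K := (hRS _).2 ⟨(r : N).2, ⟨r, hr, rfl⟩⟩
  have hnX' : (n : G) ∈ normalizer (X' : Set G) := CfsgLib.LocalEven.mem_normalizer_of_conj_le (by
    rw [hX', Subgroup.map_sup, CfsgLib.LocalEven.WC.map_conj_eq_of_mem (show (n : G) ∈ normalizer (X : Set G) from n.2)]
    refine sup_le_sup_left ?_ _
    rintro _ ⟨z, hz, rfl⟩
    obtain ⟨hzN, hzR⟩ := (hRS z).1 hz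
    show ((n * ⟨z, hzN⟩ * n⁻¹ : N) : G) ∈ (S : Subgroup G) ⊓ K
    exact (hRS _).2 ⟨(n * ⟨z, hzN⟩ * n⁻¹ : N).2, (Subgroup.mem_normalizer_iff.1 hn _).1 hzR⟩)
  have hrX' : ((r : N) : G) ∈ normalizer (X' : Set G) := Subgroup.le_normalizer (Subgroup.mem_sup_right hrS)
  have hlt : Nat.card X < Nat.card X' := by
    refine lt_of_le_of_ne (Subgroup.card_le_of_le le_sup_left) fun he => hA₀X ?_
    have heq : X = X' := Subgroup.eq_of_le_of_card_ge le_sup_left he.ge
    have hle : A₀ ⊓ N ≤ X := (le_inf (inf_le_left.trans hA₀S) hBK).trans (heq ▸ le_sup_right)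
    have hp : IsPGroup p ↥(A₀ ⊔ X) := S.2.to_le (sup_le hA₀S hXS)
    have h1 : (A₀ ⊔ X) ⊓ N ≤ X := by
      intro z hz
      obtain ⟨hz1, hz2⟩ := Subgroup.mem_inf.1 hz
      have hz1' : z ∈ ((A₀ ⊔ X : Subgroup G) : Set G) := hz1
      rw [Subgroup.coe_mul_of_right_le_normalizer_left A₀ X (hXS.trans hSA₀)] at hz1'
      obtain ⟨a, ha, v, hv, rfl⟩ := hz1'
      refine mul_mem (hle (Subgroup.mem_inf.2 ⟨ha, ?_⟩)) hv
      simpa using mul_mem hz2 (inv_mem (Subgroup.le_normalizer hv : v ∈ N))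
    rw [CfsgLib.LocalEven.eq_of_inf_normalizer_le hp le_sup_right h1]
    exact le_sup_left
  have hmem : ((r : N) : G) * (n : G) ∈ normalizer (X' : Set G) := mul_mem hrX' hnX'
  obtain ⟨y, hy, hya⟩ := ih X' (((r : N) : G) * (n : G)) hX'S (by
    rintro _ ⟨v, hv, rfl⟩
    exact hX'S ((Subgroup.mem_normalizer_iff.1 hmem v).1 hv)) (by
    have := Subgroup.card_le_of_le hX'S
    omega)
  refine ⟨y, hy, fun v hv => ?_⟩
  rw [← hya v (Subgroup.mem_sup_left hv)]
  have hxe : x = ((c : N) : G) * (((r : N) : G) * (n : G)) := by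
    have h1 := congrArg (fun z : N => (z : G)) hkn
    have h2 := congrArg (fun z : K.subgroupOf N => ((z : N) : G)) hcr
    simp only [Subgroup.coe_mul] at h1 h2
    rw [← mul_assoc, h2, h1]
  have hvX : ((r : N) : G) * (n : G) * v * (((r : N) : G) * (n : G))⁻¹ ∈ X :=
    (Subgroup.mem_normalizer_iff.1 (mul_mem (hKN (Subgroup.mem_inf.1 hrS).2) n.2) v).1 hv
  rw [hxe, show ((c : N) : G) * (((r : N) : G) * (n : G)) * v * (((c : N) : G) * (((r : N) : G) * (n : G)))⁻¹ =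
    ((c : N) : G) * (((r : N) : G) * (n : G) * v * (((r : N) : G) * (n : G))⁻¹) * ((c : N) : G)⁻¹ by group,
    hcX _ hvX, mul_inv_cancel_right]

/-- Let S be a Sylow p-subgroup of the finite group G and A an abelian subgroup of S that is strongly closed in S with respect to G. Then A controls strong fusion in G: for some Sylow p-subgroup T containing A, whenever a subset of T is conjugated into T by an element of G, the same elementwise conjugation is induced by an element of N_G(A). -/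
theorem result {G : Type*} [Group G] [Finite G] {p : ℕ} [Fact p.Prime] (S : Sylow p G) (A : Subgroup G) (hA : IsMulCommutative ↥A) (hsc : Cfsg.IsStronglyClosed A (S : Subgroup G)) : Cfsg.ControlsStrongFusion p A := by
  refine ⟨S, hsc.1, fun X hXS => ⟨hXS, fun g hg => ?_⟩⟩
  set s := Nat.card ↥(S : Subgroup G)
  obtain ⟨x, hx, hxa⟩ := key S A hA hsc (s + 1) (Subgroup.closure X) g ((Subgroup.closure_le _).2 hXS) (by
    show (Subgroup.closure X).map (MulAut.conj g).toMonoidHom ≤ _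
    rw [MonoidHom.map_closure, Subgroup.closure_le]
    rintro _ ⟨a, ha, rfl⟩
    exact hg ⟨a, ha, rfl⟩) (by omega)
  exact ⟨x, hx, fun a ha => hxa a (Subgroup.subset_closure ha)⟩

end Cfsg.Agent.S2791
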