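import Cfsg.Statements.S2799
import Cfsg.Agent.Lib.Transfer.FusionGlauberman
import Cfsg.Agent.Lib.Fusion.GroupSystem

set_option autoImplicit false
open Cfsg
open scoped commutatorElement

namespace Cfsg.Agent.S2799

open CfsgLib.Fusion Cfsg.FusionSystem in
theorem invFree_group {G : Type*} [Group G] [Finite G] (S : Sylow 2 G)
    (h : ¬ Cfsg.Involves (Equiv.Perm (Fin 4)) G) :
    CfsgLib.Transfer.InvFree (Cfsg.groupFusionSystem (S : Subgroup G)) := by
  have : Fact (Nat.Prime 3) := ⟨Nat.prime_three⟩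
  intro U hU α hα β hβ hαo hβo hinv
  by_contra hα1
  let f : ↥(Subgroup.normalizer (U : Set G)) →* MulAut U := Subgroup.normalizerMonoidHom U
  have hf : ∀ a ∈ (Cfsg.groupFusionSystem (S : Subgroup G)).autGroup U, ∃ n, f n = a := by
    intro a ha
    obtain ⟨-, -, g, hg⟩ := (mem_autGroup_iff _ hU).1 ha
    have hg' : ∀ x : U, ((a x : U) : G) = g * (x : G) * g⁻¹ := hg
    refine ⟨⟨g, mem_normalizer_of_aut hg'⟩, MulEquiv.ext fun x => Subtype.ext ?_⟩
    rw [hg']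
    rfl
  obtain ⟨t, ht⟩ := hf β hβ
  obtain ⟨c, hc⟩ := hf α hα
  obtain ⟨x, y, hx, hy, hy1, hxy⟩ := CfsgLib.Transfer.exists_inverted_lift (q := 3) (by norm_num) f
    (t := t) (c := c) (by rwa [hc]) (by rwa [hc]) (by rw [ht, hc]; exact hinv)
  obtain ⟨a, ha⟩ := hx
  obtain ⟨b, hb⟩ := hy
  refine h (CfsgLib.LocalEven.S4Crit.involves_of_two_group (T := U) (S.2.to_le hU) x.2 y.2
    ⟨a, by rw [Subgroup.orderOf_coe, ha]⟩ ⟨b, by rw [Subgroup.orderOf_coe, hb]⟩
    (congrArg Subtype.val hxy) fun hyc => hy1 ?_)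
  refine MulEquiv.ext fun v => Subtype.ext ?_
  show (y : G) * v * (y : G)⁻¹ = v
  exact mul_inv_eq_iff_eq_mul.2 (hyc v v.2).symm

/-- Let S be a Sylow p-subgroup of the finite group G, J(S) the subgroup generated by the abelian subgroups of S of largest order, and x an element of S lying in the centre of N_G(J(S)). Assume that p is odd, or that x is a p-th power of an element of Z(S), or that the symmetric group of degree 4 is not involved in G. Then x is weakly closed in S with respect to G: every G-conjugate of x that lies in S equals x. -/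
theorem result {G : Type*} [Group G] [Finite G] {p : ℕ} [Fact p.Prime] (S : Sylow p G) (x : G) (hxS : x ∈ (S : Subgroup G)) (hxZ : x ∈ (Subgroup.center ↥(Subgroup.normalizer ((Cfsg.thompsonSubgroupAOf (S : Subgroup G)) : Set G))).map (Subgroup.normalizer ((Cfsg.thompsonSubgroupAOf (S : Subgroup G)) : Set G)).subtype) (h : p ≠ 2 ∨ (∃ z ∈ (S : Subgroup G) ⊓ Subgroup.centralizer ((S : Subgroup G) : Set G), z ^ p = x) ∨ ¬ Cfsg.Involves (Equiv.Perm (Fin 4)) G) : ∀ g : G, g * x * g⁻¹ ∈ (S : Subgroup G) → g * x * g⁻¹ = x := by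
  open Cfsg.FusionSystem CfsgLib.Fusion in
  obtain ⟨n, hn, hnx⟩ := hxZ
  have hJS : Cfsg.thompsonSubgroupAOf (S : Subgroup G) ≤ (S : Subgroup G) :=
    CfsgLib.PStab.thompsonSubgroupAOf_eq_jGen (S : Subgroup G) ▸ CfsgLib.PStab.jGen_le 0 _
  have hNx : ∀ g ∈ Subgroup.normalizer ((Cfsg.thompsonSubgroupAOf (S : Subgroup G)) : Set G),
      g * x = x * g := fun g hg => hnx ▸ congrArg Subtype.val (Subgroup.mem_center_iff.1 hn ⟨g, hg⟩)
  have hSN : ∀ s ∈ (S : Subgroup G),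
      s ∈ Subgroup.normalizer ((Cfsg.thompsonSubgroupAOf (S : Subgroup G)) : Set G) := fun s hs =>
    (CfsgLib.Fusion.le_normalizerIn_wImg (fun Q _ => thompsonSubgroupA Q)
      (fun Q R _ _ _ _ φ => CfsgLib.Transfer.thompsonSubgroupA_map Q R φ) S.2 hs).2
  obtain ⟨k, z, hk, hz, hzx⟩ : ∃ (k : ℕ) (z : G), (k = p ∨ (k = 1 ∧
      CfsgLib.Transfer.OddOrInvFree p G (S : Subgroup G) (Cfsg.groupFusionSystem (S : Subgroup G)))) ∧
      z ∈ Cfsg.FusionSystem.centralizerIn (S : Subgroup G) (S : Subgroup G) ∧ z ^ k = x := by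
    have hx : x ∈ Cfsg.FusionSystem.centralizerIn (S : Subgroup G) (S : Subgroup G) :=
      ⟨hxS, fun s hs => hNx s (hSN s hs)⟩
    rcases h with h | ⟨z, hz, hzx⟩ | h
    · exact ⟨1, x, Or.inr ⟨rfl, Or.inl h⟩, hx, pow_one x⟩
    · exact ⟨p, z, Or.inl rfl, hz, hzx⟩
    · rcases eq_or_ne p 2 with rfl | h2
      · exact ⟨1, x, Or.inr ⟨rfl, Or.inr (invFree_group S h)⟩, hx, pow_one x⟩
      · exact ⟨1, x, Or.inr ⟨rfl, Or.inl h2⟩, hx, pow_one x⟩
  have hfix := CfsgLib.Transfer.fixes_pow (Cfsg.groupFusionSystem (S : Subgroup G)) S.2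
    (CfsgLib.Fusion.isSaturated_groupFusion S) k hk hz ?_
  · intro g hg
    rw [hzx] at hfix
    have := hfix (Subgroup.zpowers x) ((MulAut.conj g).toMonoidHom.comp (Subgroup.zpowers x).subtype)
      ⟨Subgroup.zpowers_le.2 hxS, ?_, g, fun _ => rfl⟩ ⟨x, Subgroup.mem_zpowers x⟩ rfl
    · exact this
    · rintro ⟨y, i, rfl⟩
      show g * x ^ i * g⁻¹ ∈ (S : Subgroup G)
      rw [← conj_zpow]
      exact (S : Subgroup G).zpow_mem hg i
  intro P φ hφ y hy
  obtain ⟨-, -, -, ψ, ⟨-, -, g, hg⟩, hψe, hψJ⟩ := hφ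
  have hgJ : g ∈ Subgroup.normalizer ((Cfsg.thompsonSubgroupAOf (S : Subgroup G)) : Set G) := by
    have := CfsgLib.Fusion.finite_of_le hJS
    refine CfsgLib.Fusion.mem_normalizer_of_forall fun v hv => ?_
    rw [← hψJ]
    exact ⟨⟨v, Subgroup.mem_sup_right hv⟩, hv, hg _⟩
  rw [← hψe, hg]
  rw [hzx] at hy ⊢
  show g * (y : G) * g⁻¹ = x
  rw [hy]
  exact mul_inv_eq_iff_eq_mul.2 (hNx g hgJ)

end Cfsg.Agent.S2799
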