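import Cfsg.Statements.S2803
import Cfsg.Agent.Lib.LocalEven.PReduced
import Cfsg.Agent.Lib.LocalEven.CoreOf
import Cfsg.Agent.Lib.LocalEven.Basic

set_option autoImplicit false
open Cfsg

namespace Cfsg.Agent.S2803

/-- Let L be a finite group and p a prime with C_L(O_p(L)) ≤ O_p(L), T a Sylow p-subgroup, and Y the largest p-reduced normal subgroup of L. Put T_L = C_T(Y) and L_T = N_L(T_L). Then L = L_T · C_L(Y) (elementwise), T_L = O_p(L_T), and Y = Ω₁(Z(T_L)). -/
theorem result {L : Type*} [Group L] [Finite L] {p : ℕ} [Fact p.Prime] (hchar : Subgroup.centralizer (Cfsg.pCore p L : Set L) ≤ Cfsg.pCore p L) (T : Sylow p L) (Y : Subgroup L) (hY : (Cfsg.IsPReducedNormal p Y ∧ ∀ V : Subgroup L, Cfsg.IsPReducedNormal p V → V ≤ Y)) (TL : Subgroup L) (hTL : TL = (T : Subgroup L) ⊓ Subgroup.centralizer (Y : Set L)) : (∀ g : L, ∃ a ∈ Subgroup.normalizer (TL : Set L), ∃ c ∈ Subgroup.centralizer (Y : Set L), g = a * c) ∧ (Cfsg.pCore p ↥(Subgroup.normalizer (TL : Set L))).map (Subgroup.normalizer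 (TL : Set L)).subtype = TL ∧ Y = Cfsg.omegaOne p (TL ⊓ Subgroup.centralizer (TL : Set L)) := by
  haveI := hY.1.1
  set C := Subgroup.centralizer (Y : Set L) with hC
  have hTLT : TL ≤ (T : Subgroup L) := hTL ▸ inf_le_left
  have hTLC : TL ≤ C := hTL ▸ inf_le_right
  have hOC : Cfsg.pCore p L ≤ C := CfsgLib.LocalEven.PRed.pCore_le_centralizer hY.1
  have hOTL : Cfsg.pCore p L ≤ TL := hTL ▸ le_inf (CfsgLib.Cores.pCore_le_sylow T) hOC
  -- Frattini argument
  obtain ⟨P, hP⟩ := CfsgLib.LocalEven.exists_sylow_eq_inf_of_isSubnormal T (K := C)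
    (Subgroup.Normal.isSubnormal inferInstance)
  have hPmap : (P : Subgroup ↥C).map C.subtype = TL := by
    rw [hP, Subgroup.subgroupOf_map_subtype, hTL]
  have htop : Subgroup.normalizer (TL : Set L) ⊔ C = ⊤ := by
    have h := Sylow.normalizer_sup_eq_top P
    rwa [hPmap] at h
  have hsplit : ∀ g : L, ∃ a ∈ Subgroup.normalizer (TL : Set L), ∃ c ∈ C, g = a * c := by
    intro g
    have hg : g ∈ Subgroup.normalizer (TL : Set L) ⊔ C := htop ▸ Subgroup.mem_top g
    rw [Subgroup.mem_sup_of_normal_right] at hg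
    obtain ⟨a, ha, c, hc, he⟩ := hg
    exact ⟨a, ha, c, hc, he.symm⟩
  set LT := Subgroup.normalizer (TL : Set L) with hLT
  have hTNT : (T : Subgroup L) ≤ LT := by
    intro t ht
    rw [hLT, Subgroup.mem_normalizer_iff, hTL]
    intro x
    have hc : x ∈ C ↔ t * x * t⁻¹ ∈ C :=
      ⟨fun h => Subgroup.Normal.conj_mem inferInstance x h t, fun h => by
        simpa [mul_assoc] using (Subgroup.Normal.conj_mem (H := C) inferInstance _ h t⁻¹)⟩
    have hT' : x ∈ (T : Subgroup L) ↔ t * x * t⁻¹ ∈ (T : Subgroup L) :=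
      Subgroup.mem_normalizer_iff.1 (Subgroup.le_normalizer ht) x
    exact and_congr hT' hc
  -- normal subgroups of `LT` that are `p`-groups modulo `C` lie in `C`
  have hkey : ∀ N : Subgroup L, N ≤ LT → LT ≤ Subgroup.normalizer (N : Set L) →
      (∀ x ∈ N, ∃ k : ℕ, x ^ p ^ k ∈ C) → N ≤ C := by
    intro N hNL hNn hpow
    haveI : (N ⊔ C).Normal := by
      rw [← Subgroup.normalizer_eq_top_iff, eq_top_iff, ← htop]
      refine sup_le ?_ (le_sup_right.trans Subgroup.le_normalizer)
      refine fun a ha => Subgroup.mem_normalizer_iff.2 fun x => ?_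
      have hmap : (N ⊔ C).map (MulAut.conj a).toMonoidHom = N ⊔ C := by
        rw [Subgroup.map_sup]
        congr 1
        · exact Subgroup.mem_normalizer_iff_map_conj_eq.1 (hNn ha)
        · exact Subgroup.mem_normalizer_iff_map_conj_eq.1 (Subgroup.normalizer_eq_top C ▸ Subgroup.mem_top a)
      constructor
      · intro hx
        rw [← hmap]
        exact CfsgLib.LocalEven.conj_mem_map_conj hx
      · intro hx
        rw [← hmap] at hx
        simpa [mul_assoc] using CfsgLib.LocalEven.mem_map_conj.1 hx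
    refine le_sup_left.trans ((CfsgLib.LocalEven.PRed.isPReducedNormal_iff.1 hY.1).2.2 (N ⊔ C) inferInstance ?_)
    intro x hx
    rw [Subgroup.mem_sup_of_normal_right] at hx
    obtain ⟨n, hn, c, hc, rfl⟩ := hx
    obtain ⟨k, hk⟩ := hpow n hn
    refine ⟨k, (QuotientGroup.eq_one_iff _).1 ?_⟩
    rw [QuotientGroup.mk_pow, QuotientGroup.mk_mul, (QuotientGroup.eq_one_iff c).2 hc, mul_one,
      ← QuotientGroup.mk_pow]
    exact (QuotientGroup.eq_one_iff _).2 hk
  refine ⟨hsplit, ?_, ?_⟩
  · apply le_antisymm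
    · set O := (Cfsg.pCore p ↥LT).map LT.subtype
      have hOp : IsPGroup p O := (CfsgLib.Cores.isPGroup_pCore p).map _
      have hOle : O ≤ LT := Subgroup.map_subtype_le _
      have hOC' : O ≤ C := by
        refine hkey O hOle ?_ ?_
        · exact CfsgLib.LocalEven.le_normalizer_pCoreOf p LT
        · intro x hx
          obtain ⟨k, hk⟩ := hOp ⟨x, hx⟩
          refine ⟨k, ?_⟩
          have h1 := congrArg Subtype.val hk
          rw [SubgroupClass.coe_pow] at h1
          rw [h1]
          exact one_mem _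
      have hOT : O ≤ (T : Subgroup L) := by
        rintro _ ⟨x, hx, rfl⟩
        exact CfsgLib.Cores.pCore_le_sylow (T.subtype hTNT) hx
      rw [hTL]
      exact le_inf hOT hOC'
    · exact CfsgLib.LocalEven.le_pCoreOf Subgroup.le_normalizer (T.2.to_le hTLT) le_rfl
  · set Z := TL ⊓ Subgroup.centralizer (TL : Set L) with hZ
    have hZc : ∀ a ∈ Z, ∀ b ∈ Z, a * b = b * a := fun a ha b hb =>
      Subgroup.mem_centralizer_iff.1 hb.2 a ha.1
    apply le_antisymm
    · intro y hy
      refine CfsgLib.PGroup.mem_omegaOne ⟨hOTL (CfsgLib.LocalEven.PRed.le_pCore_of hY.1 hy), ?_⟩ (hY.1.2.1.2 y hy)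
      exact (Subgroup.le_centralizer_iff.1 hTLC) hy
    · set X := Cfsg.omegaOne p Z with hX
      have hXle : X ≤ LT := ((CfsgLib.PGroup.omegaOne_le p Z).trans inf_le_left).trans Subgroup.le_normalizer
      have hYX : Y ≤ X := by
        intro y hy
        refine CfsgLib.PGroup.mem_omegaOne ⟨hOTL (CfsgLib.LocalEven.PRed.le_pCore_of hY.1 hy), ?_⟩ (hY.1.2.1.2 y hy)
        exact (Subgroup.le_centralizer_iff.1 hTLC) hy
      have hXn : LT ≤ Subgroup.normalizer (X : Set L) := by
        intro a ha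
        refine CfsgLib.LocalEven.mem_normalizer_of_conj_le ?_
        refine (CfsgLib.PGroup.map_omegaOne_le p _ Z).trans (CfsgLib.PGroup.omegaOne_mono ?_)
        rintro _ ⟨z, hz, rfl⟩
        have haT : ∀ t, t ∈ TL ↔ a * t * a⁻¹ ∈ TL := Subgroup.mem_normalizer_iff.1 ha
        refine ⟨(haT z).1 hz.1, Subgroup.mem_centralizer_iff.2 fun t ht => ?_⟩
        have h2 := Subgroup.mem_centralizer_iff.1 hz.2 (a⁻¹ * t * a) ((haT _).2 (by simpa [mul_assoc] using ht))
        show t * (a * z * a⁻¹) = a * z * a⁻¹ * t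
        calc t * (a * z * a⁻¹) = a * ((a⁻¹ * t * a) * z) * a⁻¹ := by group
          _ = a * (z * (a⁻¹ * t * a)) * a⁻¹ := by rw [h2]
          _ = a * z * a⁻¹ * t := by group
      have hred : Cfsg.IsPReducedNormal p (X.subgroupOf LT) := by
        refine (CfsgLib.LocalEven.PRed.isPReducedNormal_subgroupOf_iff hXle).2
          ⟨hXn, CfsgLib.PGroup.elemAb_omegaOne_of_comm hZc, fun N hNL hNn hpow => ?_⟩
        have hNC : N ≤ C := hkey N hNL hNn fun x hx =>
          (hpow x hx).imp fun k hk => CfsgLib.LocalEven.PRed.centralizer_le_of_le hYX hk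
        -- split `N` by a Sylow subgroup of `LT`
        haveI : (N.subgroupOf LT).Normal := (Subgroup.normal_subgroupOf_iff_le_normalizer hNL).2 hNn
        haveI : ((Subgroup.centralizer (X : Set L)).subgroupOf LT).Normal := by
          refine ⟨fun c hc g => ?_⟩
          show (g : L) * c * (g : L)⁻¹ ∈ Subgroup.centralizer (X : Set L)
          refine Subgroup.mem_centralizer_iff.2 fun x hx => ?_
          have hx' : (g : L)⁻¹ * x * g ∈ X :=
            (Subgroup.mem_normalizer_iff''.1 (hXn g.2) x).1 hx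
          have h3 := Subgroup.mem_centralizer_iff.1 hc _ hx'
          calc x * ((g : L) * c * (g : L)⁻¹) = (g : L) * (((g : L)⁻¹ * x * g) * c) * (g : L)⁻¹ := by group
            _ = (g : L) * (c * ((g : L)⁻¹ * x * g)) * (g : L)⁻¹ := by rw [show (g : L)⁻¹ * x * g * (c : L) = (c : L) * ((g : L)⁻¹ * x * g) from h3]
            _ = (g : L) * c * (g : L)⁻¹ * x := by group
        have h4 := CfsgLib.LocalEven.PRed.le_sup_inf_sylow (T.subtype hTNT)
          (C := (Subgroup.centralizer (X : Set L)).subgroupOf LT) (N := N.subgroupOf LT)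
          (fun x hx => (hpow (x : L) hx).imp fun k hk => by simpa [Subgroup.mem_subgroupOf] using hk)
        intro n hn
        have h5 : (⟨n, hNL hn⟩ : LT) ∈ (Subgroup.centralizer (X : Set L)).subgroupOf LT := by
          refine (sup_le le_rfl ?_ : _ ⊔ _ ≤ (Subgroup.centralizer (X : Set L)).subgroupOf LT) (h4 (x := ⟨n, hNL hn⟩) hn)
          rintro t ⟨htT, htN⟩
          refine Subgroup.mem_subgroupOf.2 ?_
          have htL : (t : L) ∈ TL := hTL ▸ Subgroup.mem_inf.2 ⟨htT, hNC htN⟩
          exact (Subgroup.le_centralizer_iff.1 ((CfsgLib.PGroup.omegaOne_le p Z).trans inf_le_right)) htL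
        exact h5
      have hW := CfsgLib.LocalEven.PRed.isPReducedNormal_normalClosure hchar T LT hTNT _ hred
      rw [Subgroup.subgroupOf_map_subtype, inf_eq_left.2 hXle] at hW
      exact Subgroup.subset_normalClosure.trans (hY.2 _ hW)

end Cfsg.Agent.S2803
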