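import Cfsg.Statements.S2804
import Cfsg.Agent.Lib.LocalEven.PReduced
import Cfsg.Agent.Lib.LocalEven.CharP
import Cfsg.Agent.Lib.Local.Residual
import Cfsg.Agent.Lib.Cores.Coprime

set_option autoImplicit false
open Cfsg

namespace Cfsg.Agent.S2804

/-- Let L be a finite group and p a prime with C_L(O_p(L)) ≤ O_p(L), V a p-reduced normal subgroup of L and K a subnormal subgroup of L. Then [V, O^p(K)] is contained in K and is a p-reduced normal subgroup of K, where O^p(K) is the subgroup of K generated by its elements of order prime to p. -/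
theorem result {L : Type*} [Group L] [Finite L] {p : ℕ} [Fact p.Prime] (hchar : Subgroup.centralizer (Cfsg.pCore p L : Set L) ≤ Cfsg.pCore p L) (V : Subgroup L) (hV : Cfsg.IsPReducedNormal p V) (K : Subgroup L) (hK : K.IsSubnormal) : ⁅V, (Cfsg.pResidual p ↥K).map K.subtype⁆ ≤ K ∧ Cfsg.IsPReducedNormal p ((⁅V, (Cfsg.pResidual p ↥K).map K.subtype⁆).subgroupOf K) := by
  haveI := hV.1
  set R := (Cfsg.pResidual p ↥K).map K.subtype with hR
  set W := ⁅V, R⁆ with hW
  have hRK : R ≤ K := Subgroup.map_subtype_le _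
  have hWV : W ≤ V := Subgroup.commutator_le_left V R
  have hKR : K ≤ Subgroup.normalizer (R : Set L) := by
    intro k hk
    haveI := CfsgLib.Transfer.pResidual_characteristic (p := p) (G := ↥K)
    refine Subgroup.le_normalizer_map (H := Cfsg.pResidual p ↥K) K.subtype ⟨⟨k, hk⟩, ?_, rfl⟩
    rw [Subgroup.normalizer_eq_top]
    exact Subgroup.mem_top _
  have hWn : K ≤ Subgroup.normalizer (W : Set L) := by
    intro k hk
    rw [Subgroup.mem_normalizer_iff_map_conj_eq, hW, Subgroup.map_commutator]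
    congr 1
    · exact Subgroup.mem_normalizer_iff_map_conj_eq.1 (Subgroup.normalizer_eq_top V ▸ Subgroup.mem_top k)
    · exact Subgroup.mem_normalizer_iff_map_conj_eq.1 (hKR hk)
  -- `[V, O^p(K)] ≤ K`
  have hVp : IsPGroup p V := CfsgLib.PGroup.elemAb_isPGroup hV.2.1
  obtain ⟨a, ha⟩ := IsPGroup.iff_card.1 hVp
  have hidx : (K.subgroupOf (V ⊔ K)).index ∣ p ^ a := by
    have h1 : Nat.card K * K.relIndex (V ⊔ K) = Nat.card ↥(V ⊔ K) := by
      rw [← Subgroup.relIndex_bot_left, ← Subgroup.relIndex_bot_left]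
      exact Subgroup.relIndex_mul_relIndex ⊥ K (V ⊔ K) bot_le le_sup_right
    have h2 : Nat.card K * K.relIndex (V ⊔ K) ∣ Nat.card K * p ^ a := by
      rw [h1, ← ha, mul_comm]
      exact CfsgLib.Cores.card_sup_dvd_mul V K
    exact Nat.dvd_of_mul_dvd_mul_left Nat.card_pos h2
  have hgen : ∀ v ∈ V, ∀ x ∈ K, (orderOf x).Coprime p → v * x * v⁻¹ ∈ K := by
    intro v hv x hx hxo
    have h := CfsgLib.Local.mem_of_isSubnormal_of_index_dvd (hK.subgroupOf (K := V ⊔ K)) hidx
      (x := ⟨v * x * v⁻¹, Subgroup.mul_mem _ (Subgroup.mul_mem _ (Subgroup.mem_sup_left hv) (Subgroup.mem_sup_right hx))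
        (Subgroup.inv_mem _ (Subgroup.mem_sup_left hv))⟩) (by
        rw [Subgroup.orderOf_mk]
        have h3 : orderOf (MulAut.conj v x) = orderOf x := MulEquiv.orderOf_eq _ x
        rw [MulAut.conj_apply] at h3
        rwa [h3])
    exact h
  have hWK : W ≤ K := by
    rw [hW, Subgroup.commutator_le]
    intro v hv r hr
    have hr' : v * r * v⁻¹ ∈ K := by
      have hle : R ≤ K.comap (MulAut.conj v).toMonoidHom := by
        rw [hR, Cfsg.pResidual, MonoidHom.map_closure, Subgroup.closure_le]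
        rintro _ ⟨x, hx, rfl⟩
        exact hgen v hv x x.2 (by simpa using hx)
      exact hle hr
    rw [commutatorElement_def]
    exact K.mul_mem hr' (K.inv_mem (hRK hr))
  refine ⟨hWK, (CfsgLib.LocalEven.PRed.isPReducedNormal_subgroupOf_iff hWK).2
    ⟨hWn, CfsgLib.PGroup.elemAb_mono hV.2.1 hWV, fun N hNK hNn hpow => ?_⟩⟩
  -- coprime action: `C_K(W)` is a `p`-group modulo `C_K(V)`
  have hpowV : ∀ x ∈ N, ∃ k : ℕ, x ^ p ^ k ∈ Subgroup.centralizer (V : Set L) := by
    intro x hx
    obtain ⟨k, hk⟩ := hpow x hx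
    set y := x ^ p ^ k with hy
    refine ⟨k + (orderOf y).factorization p, ?_⟩
    rw [pow_add, pow_mul, ← hy]
    set z := y ^ p ^ (orderOf y).factorization p with hz
    have hzo : (orderOf z).Coprime p := by
      rw [hz, orderOf_pow_of_dvd (pow_ne_zero _ (Fact.out : p.Prime).ne_zero) (Nat.ordProj_dvd _ _)]
      exact (Nat.coprime_ordCompl (Fact.out : p.Prime) (orderOf_pos y).ne').symm
    have hzK : z ∈ K := pow_mem (pow_mem (hNK hx) _) _
    have hzR : z ∈ R :=
      ⟨⟨z, hzK⟩, CfsgLib.Transfer.mem_pResidual_of_coprime (by rwa [Subgroup.orderOf_mk]), rfl⟩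
    have hzW : z ∈ Subgroup.centralizer (W : Set L) := pow_mem hk _
    rw [Subgroup.mem_centralizer_iff]
    intro v hv
    have hd : v⁻¹ * z * v * z⁻¹ ∈ W := by
      have h := Subgroup.commutator_mem_commutator (V.inv_mem hv) hzR
      rw [commutatorElement_def, inv_inv] at h
      exact h
    exact (CfsgLib.LocalEven.commute_of_conj_eq_mul hVp (hWV hd) hzo (by group)
      (Subgroup.mem_centralizer_iff.1 hzW _ hd).symm).symm
  -- subnormal `p`-subgroups of `L / C(V)` are trivial
  have hNs : N.IsSubnormal :=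
    Subgroup.IsSubnormal.trans hNK (Subgroup.Normal.isSubnormal ((Subgroup.normal_subgroupOf_iff_le_normalizer hNK).2 hNn)) hK
  obtain ⟨-, -, hCn, hO⟩ := hV
  haveI := hCn
  have hs := Subgroup.IsSubnormal.quotient (K := Subgroup.centralizer (V : Set L)) hNs
  have hp' : IsPGroup p (N.map (QuotientGroup.mk' (Subgroup.centralizer (V : Set L)))) := by
    rintro ⟨-, x, hx, rfl⟩
    obtain ⟨k, hk⟩ := hpowV x hx
    refine ⟨k, Subtype.ext ?_⟩
    show ((QuotientGroup.mk' (Subgroup.centralizer (V : Set L))) x) ^ p ^ k = 1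
    rw [← map_pow, QuotientGroup.mk'_apply, QuotientGroup.eq_one_iff]
    exact hk
  have h4 := CfsgLib.Cores.le_pCore_of_isSubnormal hs hp'
  rw [hO, le_bot_iff, Subgroup.map_eq_bot_iff, QuotientGroup.ker_mk'] at h4
  exact h4.trans (CfsgLib.LocalEven.PRed.centralizer_le_of_le hWV)

end Cfsg.Agent.S2804
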