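import Cfsg.Statements.S2806
import Cfsg.Agent.Lib.LocalEven.Kieler
import Cfsg.Agent.Lib.LocalEven.SubnormalJoinSylow
import Cfsg.Agent.Lib.Transfer.SubnormalJoin
open Subgroup

set_option autoImplicit false
open Cfsg

namespace Cfsg.Agent.S2806

/-- Let H be a finite group of local characteristic p, T a Sylow p-subgroup, and L₁, L₂ subnormal subgroups of H generating the subgroup L. Then the point stabilizer of L with respect to T ∩ L is generated by the point stabilizers of L₁ and L₂ with respect to T ∩ L₁ and T ∩ L₂ (point stabilizer of X w.r.t. R: the subgroup generated by the p-elements of X centralizing Ω₁(Z(R))). -/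
theorem result {H : Type*} [Group H] [Finite H] {p : ℕ} [Fact p.Prime] (hH : Cfsg.IsOfLocalCharacteristic p H) (T : Sylow p H) (L₁ L₂ : Subgroup H) (h₁ : L₁.IsSubnormal) (h₂ : L₂.IsSubnormal) : Cfsg.pointStabilizer p (L₁ ⊔ L₂) ((T : Subgroup H) ⊓ (L₁ ⊔ L₂)) = Cfsg.pointStabilizer p L₁ ((T : Subgroup H) ⊓ L₁) ⊔ Cfsg.pointStabilizer p L₂ ((T : Subgroup H) ⊓ L₂) := by
  set Tg := (T : Subgroup H) with hTg
  -- `Ω₁(Z(X))`
  set oz : Subgroup H → Subgroup H := fun X => omegaOne p (X ⊓ centralizer (X : Set H)) with hoz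
  have hozp : ∀ X : Subgroup H, IsPGroup p ↥(oz X) := fun X =>
    CfsgLib.PGroup.elemAb_isPGroup (CfsgLib.LocalEven.Oz.elemAb X)
  have hoz1 : ∀ X : Subgroup H, IsPGroup p ↥X → X ≠ ⊥ → oz X ≠ ⊥ := by
    intro X hX hX1 hbot
    haveI : Nontrivial ↥X := (Subgroup.nontrivial_iff_ne_bot _).2 hX1
    haveI : Nontrivial (center ↥X) := hX.center_nontrivial
    obtain ⟨k, hk⟩ := IsPGroup.iff_card.1 (hX.to_subgroup (center ↥X))
    have hk0 : k ≠ 0 := fun h0 => by
      rw [h0, pow_zero] at hk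
      exact Finite.one_lt_card.ne' hk
    obtain ⟨z, hz⟩ := exists_prime_orderOf_dvd_card' (G := center ↥X) p (hk ▸ dvd_pow_self p hk0)
    have hzm : ((z : ↥X) : H) ∈ oz X := CfsgLib.LocalEven.Oz.mem_iff.2 ⟨(z : ↥X).2,
      fun s hs => congrArg Subtype.val (Subgroup.mem_center_iff.1 z.2 ⟨s, hs⟩), by
        rw [← SubgroupClass.coe_pow, ← SubgroupClass.coe_pow, ← hz, pow_orderOf_eq_one]; rfl⟩
    rw [hbot, Subgroup.mem_bot] at hzm
    have : z = 1 := Subtype.ext (Subtype.ext hzm)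
    rw [this, orderOf_one] at hz
    exact (Fact.out : p.Prime).ne_one hz.symm
  -- a `p`-subgroup between the Sylow subgroup `T ∩ A` and `A` is equal to it
  have hmax : ∀ A : Subgroup H, A.IsSubnormal → ∀ R : Subgroup H, IsPGroup p ↥R → Tg ⊓ A ≤ R → R ≤ A → R = Tg ⊓ A := by
    intro A hA R hR h1 h2
    refine (CfsgLib.LocalEven.eq_of_le_of_not_dvd_relIndex hR h1 fun hd => ?_).symm
    exact CfsgLib.LocalEven.not_dvd_relIndex_inf_of_isSubnormal T hA
      (hd.trans (Dvd.intro _ (Subgroup.relIndex_mul_relIndex _ _ _ h1 h2)))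
  -- Kieler in a local subgroup
  have loc : ∀ A B : Subgroup H, A.IsSubnormal → B.IsSubnormal → A ≤ B → B ≤ normalizer (A : Set H) →
      ∀ U : Subgroup H, IsPGroup p ↥U → U ≠ ⊥ → Tg ⊓ B ≤ normalizer (U : Set H) →
        (A ⊓ normalizer (U : Set H)) ⊓ centralizer (oz (Tg ⊓ B) : Set H) =
          (A ⊓ normalizer (U : Set H)) ⊓ centralizer (oz (Tg ⊓ A) : Set H) := by
    intro A B hA hB hAB hBA U hUp hU1 hSN
    set N := normalizer (U : Set H) with hN
    have hNc : CfsgLib.LocalEven.HasCharP p ↥N := hH.2 U hUp hU1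
    have hch : ∀ X : Subgroup H, X.IsSubnormal →
        CfsgLib.LocalEven.HasCharP p ↥(X ⊓ N) := by
      intro X hX
      refine (CfsgLib.LocalEven.hasCharP_subgroupOf_iff inf_le_right).1 ?_
      refine hNc.of_isSubnormal ?_
      rw [Subgroup.inf_subgroupOf_right]
      exact hX.subgroupOf
    have hcore : ∀ X : Subgroup H, X.IsSubnormal → Tg ⊓ X ≤ N → Cfsg.pCoreOf p (X ⊓ N) ≤ Tg ⊓ X := by
      intro X hX hXN
      have hle : Tg ⊓ X ≤ X ⊓ N := le_inf inf_le_right hXN
      have hJ : IsPGroup p ↥((Tg ⊓ X) ⊔ Cfsg.pCoreOf p (X ⊓ N)) :=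
        IsPGroup.to_sup_of_normal_right' (T.2.to_le inf_le_left) (CfsgLib.LocalEven.isPGroup_pCoreOf p _)
          (hle.trans (CfsgLib.LocalEven.le_normalizer_pCoreOf p _))
      exact le_sup_right.trans (hmax X hX _ hJ le_sup_left
        (sup_le inf_le_right ((CfsgLib.LocalEven.pCoreOf_le p _).trans inf_le_left))).le
    have hSA : (Tg ⊓ B) ⊓ (A ⊓ N) = Tg ⊓ A :=
      le_antisymm (le_inf (inf_le_left.trans inf_le_left) (inf_le_right.trans inf_le_left))
        (le_inf (inf_le_inf_left _ hAB) (le_inf inf_le_right ((inf_le_inf_left _ hAB).trans hSN)))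
    have hstep := CfsgLib.LocalEven.Oz.kieler_step (B := B ⊓ N) (A := A ⊓ N) (S := Tg ⊓ B)
      (inf_le_inf_right _ hAB)
      (fun x hx => Subgroup.mem_normalizer_iff.2 fun v => and_congr
        (Subgroup.mem_normalizer_iff.1 (hBA hx.1) v) (Subgroup.mem_normalizer_iff.1 (Subgroup.le_normalizer hx.2) v))
      (le_inf inf_le_right hSN) (T.2.to_le inf_le_left)
      (CfsgLib.LocalEven.inf_centralizer_pCoreOf_le (hch B hB)) (hcore B hB hSN)
      (CfsgLib.LocalEven.inf_centralizer_pCoreOf_le (hch A hA))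
      (hSA ▸ hcore A hA ((inf_le_inf_left _ hAB).trans hSN))
      (by
        rw [hSA]
        exact fun hd => CfsgLib.LocalEven.not_dvd_relIndex_inf_of_isSubnormal T hA (hd.trans (Dvd.intro _
          (Subgroup.relIndex_mul_relIndex _ _ _ (le_inf inf_le_right ((inf_le_inf_left _ hAB).trans hSN)) inf_le_left))))
    rw [hSA] at hstep
    exact hstep
  -- the same centraliser for `T` and for `T ∩ L`
  have main : ∀ L : Subgroup H, L.IsSubnormal → Tg ⊓ L ≠ ⊥ →
      L ⊓ centralizer (oz (Tg ⊓ L) : Set H) = L ⊓ centralizer (oz Tg : Set H) := by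
    intro L hL
    induction hL with
    | top => intro; rw [inf_top_eq Tg]
    | step A B hAB hB hN ih =>
      intro hne
      have hA : A.IsSubnormal := Subgroup.IsSubnormal.step A B hAB hB hN
      have hBA := (Subgroup.normal_subgroupOf_iff_le_normalizer hAB).1 hN
      have hneB : Tg ⊓ B ≠ ⊥ := fun h => hne (le_bot_iff.1 (h ▸ inf_le_inf_left _ hAB))
      have hSA : Tg ⊓ B ≤ normalizer ((Tg ⊓ A : Subgroup H) : Set H) := fun x hx =>
        Subgroup.mem_normalizer_iff.2 fun v => and_congr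
          (Subgroup.mem_normalizer_iff.1 (Subgroup.le_normalizer hx.1) v) (Subgroup.mem_normalizer_iff.1 (hBA hx.2) v)
      have e : A ⊓ centralizer (oz (Tg ⊓ A) : Set H) = A ⊓ centralizer (oz (Tg ⊓ B) : Set H) := by
        refine le_antisymm (le_inf inf_le_left fun x hx => ?_) (le_inf inf_le_left fun x hx => ?_)
        · have h := loc A B hA hB hAB hBA (oz (Tg ⊓ A)) (hozp _) (hoz1 _ (T.2.to_le inf_le_left) hne)
            (hSA.trans (CfsgLib.LocalEven.Oz.normalizer_le _))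
          exact (h.ge (Subgroup.mem_inf.2 ⟨Subgroup.mem_inf.2 ⟨hx.1, Subgroup.centralizer_le_normalizer _ hx.2⟩, hx.2⟩)).2
        · have h := loc A B hA hB hAB hBA (oz (Tg ⊓ B)) (hozp _) (hoz1 _ (T.2.to_le inf_le_left) hneB)
            (Subgroup.le_normalizer.trans (CfsgLib.LocalEven.Oz.normalizer_le _))
          exact (h.le (Subgroup.mem_inf.2 ⟨Subgroup.mem_inf.2 ⟨hx.1, Subgroup.centralizer_le_normalizer _ hx.2⟩, hx.2⟩)).2
      calc A ⊓ centralizer (oz (Tg ⊓ A) : Set H) = A ⊓ (B ⊓ centralizer (oz (Tg ⊓ B) : Set H)) := by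
            rw [e, ← inf_assoc, inf_eq_left.2 hAB]
        _ = _ := by rw [ih hneB, ← inf_assoc, inf_eq_left.2 hAB]
  set C := centralizer (oz Tg : Set H) with hC
  -- point stabilisers
  have hps : ∀ L : Subgroup H, L.IsSubnormal → Cfsg.pointStabilizer p L (Tg ⊓ L) = Cfsg.pElementClosure p (L ⊓ C) := by
    intro L hL
    by_cases hne : Tg ⊓ L = ⊥
    · have h1 : ∀ x ∈ L, (∃ k : ℕ, orderOf x = p ^ k) → x = 1 := by
        rintro x hx ⟨k, hk⟩
        have hxp : IsPGroup p ↥(zpowers x) := IsPGroup.of_card (n := k) (by rw [Nat.card_zpowers, hk])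
        have hle : zpowers x ≤ L := Subgroup.zpowers_le.2 hx
        have := hmax L hL (zpowers x) hxp (by rw [hne]; exact bot_le) hle
        rw [hne, Subgroup.zpowers_eq_bot] at this
        exact this
      refine le_antisymm ((Subgroup.closure_le _).2 ?_) ((Subgroup.closure_le _).2 ?_)
      · rintro x ⟨hx, hk⟩
        rw [h1 x hx.1 hk]
        exact one_mem _
      · rintro x ⟨hx, hk⟩
        rw [h1 x hx.1 hk]
        exact one_mem _
    · show Subgroup.closure {x : H | x ∈ L ⊓ centralizer (oz (Tg ⊓ L) : Set H) ∧ _} = _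
      rw [main L hL hne]
      rfl
  have hJ : (L₁ ⊔ L₂).IsSubnormal := CfsgLib.Transfer.sup_isSubnormal h₁ h₂
  rw [hps _ hJ, hps _ h₁, hps _ h₂]
  set L := L₁ ⊔ L₂ with hL
  set P₁ := Cfsg.pElementClosure p (L₁ ⊓ C) with hP₁
  set P₂ := Cfsg.pElementClosure p (L₂ ⊓ C) with hP₂
  refine le_antisymm ?_ (sup_le ?_ ?_)
  rotate_left
  · exact Subgroup.closure_mono fun x hx => ⟨⟨(le_sup_left : L₁ ≤ L) hx.1.1, hx.1.2⟩, hx.2⟩
  · exact Subgroup.closure_mono fun x hx => ⟨⟨(le_sup_right : L₂ ≤ L) hx.1.1, hx.1.2⟩, hx.2⟩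
  set R := P₁ ⊔ P₂ with hR
  have hRC : R ≤ C :=
    sup_le ((CfsgLib.LocalEven.pElementClosure_le p _).trans inf_le_right) ((CfsgLib.LocalEven.pElementClosure_le p _).trans inf_le_right)
  have hTC : ∀ X : Subgroup H, Tg ⊓ X ≤ C := fun X x hx => Subgroup.mem_centralizer_iff.2 fun z hz =>
    ((CfsgLib.LocalEven.Oz.mem_iff.1 hz).2.1 x hx.1).symm
  have hTR : Tg ⊓ L ≤ R := by
    obtain ⟨U, hU⟩ := CfsgLib.LocalEven.exists_sylow_eq_inf_of_isSubnormal T hJ
    have hgen : L₁.subgroupOf L ⊔ L₂.subgroupOf L = ⊤ := by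
      rw [← Subgroup.subgroupOf_sup le_sup_left le_sup_right]
      exact Subgroup.subgroupOf_self _
    have h := CfsgLib.LocalEven.sylow_eq_sup_of_subnormal _ ↥L rfl U (L₁.subgroupOf L) (L₂.subgroupOf L)
      h₁.subgroupOf h₂.subgroupOf hgen
    intro x hx
    have hx' : (⟨x, hx.2⟩ : ↥L) ∈ (U : Subgroup ↥L) := hU.ge hx.1
    rw [h] at hx'
    have hmap : ((((U : Subgroup ↥L) ⊓ L₁.subgroupOf L) ⊔ ((U : Subgroup ↥L) ⊓ L₂.subgroupOf L))).map L.subtype ≤ R := by
      rw [Subgroup.map_sup]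
      refine sup_le_sup ?_ ?_
      · rintro _ ⟨y, hy, rfl⟩
        have hyT : (y : H) ∈ Tg := hU.le hy.1
        exact CfsgLib.LocalEven.le_pElementClosure (le_inf inf_le_right (hTC L₁)) (T.2.to_le inf_le_left) (Subgroup.mem_inf.2 ⟨hyT, hy.2⟩)
      · rintro _ ⟨y, hy, rfl⟩
        have hyT : (y : H) ∈ Tg := hU.le hy.1
        exact CfsgLib.LocalEven.le_pElementClosure (le_inf inf_le_right (hTC L₂)) (T.2.to_le inf_le_left) (Subgroup.mem_inf.2 ⟨hyT, hy.2⟩)
    exact hmap ⟨_, hx', rfl⟩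
  have hRs : (R.subgroupOf C).IsSubnormal := by
    have hsub : ∀ X : Subgroup H, X.IsSubnormal → ((Cfsg.pElementClosure p (X ⊓ C)).subgroupOf C).IsSubnormal := by
      intro X hX
      refine Subgroup.IsSubnormal.step _ ((X ⊓ C).subgroupOf C)
        (Subgroup.comap_mono (CfsgLib.LocalEven.pElementClosure_le p _)) (by rw [Subgroup.inf_subgroupOf_right]; exact hX.subgroupOf) ?_
      refine Subgroup.normal_subgroupOf_of_le_normalizer fun g hg => Subgroup.mem_normalizer_iff.2 fun v => ?_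
      exact Subgroup.mem_normalizer_iff.1 (CfsgLib.LocalEven.le_normalizer_pElementClosure p (X ⊓ C) (show ((g : ↥C) : H) ∈ X ⊓ C from hg)) (v : H)
    rw [hR, Subgroup.subgroupOf_sup ((CfsgLib.LocalEven.pElementClosure_le p _).trans inf_le_right) ((CfsgLib.LocalEven.pElementClosure_le p _).trans inf_le_right)]
    exact CfsgLib.Transfer.sup_isSubnormal (hsub _ h₁) (hsub _ h₂)
  refine (Subgroup.closure_le _).2 ?_
  rintro x ⟨hx, k, hk⟩
  set D := L ⊓ C with hD
  have hRD : R ≤ D := le_inf (sup_le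
    (((CfsgLib.LocalEven.pElementClosure_le p _).trans inf_le_left).trans le_sup_left)
    (((CfsgLib.LocalEven.pElementClosure_le p _).trans inf_le_left).trans le_sup_right)) hRC
  have hRsD : (R.subgroupOf D).IsSubnormal :=
    hRs.comap (Subgroup.inclusion (inf_le_right : D ≤ C))
  obtain ⟨V, hV⟩ := ((IsPGroup.of_card (n := k) (by rw [Nat.card_zpowers, hk]) : IsPGroup p ↥(zpowers x)).comap_subtype (K := D)).exists_le_sylow
  obtain ⟨W, hW⟩ := CfsgLib.LocalEven.exists_sylow_eq_inf_of_isSubnormal V hRsD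
  have hTD : Tg ⊓ L ≤ D := le_inf inf_le_right (hTC L)
  obtain ⟨W', hW'⟩ := ((T.2.to_le (inf_le_left : Tg ⊓ L ≤ Tg)).comap_subtype (K := D)).comap_subtype
    (K := R.subgroupOf D) |>.exists_le_sylow
  have hcard : Nat.card ↥(V : Subgroup ↥D) ≤ Nat.card ↥(W : Subgroup ↥(R.subgroupOf D)) := by
    have hV' : Nat.card ↥(V : Subgroup ↥D) ≤ Nat.card ↥(Tg ⊓ L) := by
      obtain ⟨V', hV'⟩ := ((T.2.to_le (inf_le_left : Tg ⊓ L ≤ Tg)).comap_subtype (K := D)).exists_le_sylow
      rw [V.card_eq_multiplicity, ← V'.card_eq_multiplicity,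
        ← Subgroup.card_map_of_injective (K := (V' : Subgroup ↥D)) D.subtype_injective]
      refine (le_of_eq (congrArg (fun X : Subgroup H => Nat.card ↥X) (hmax L hJ _ (V'.2.map D.subtype) ?_ ?_)))
      · intro t ht
        exact ⟨⟨t, hTD ht⟩, hV' ht, rfl⟩
      · exact (Subgroup.map_subtype_le _).trans inf_le_left
    refine hV'.trans ?_
    rw [W.card_eq_multiplicity, ← W'.card_eq_multiplicity,
      ← Nat.card_congr (Subgroup.subgroupOfEquivOfLe hTD).toEquiv,
      ← Nat.card_congr (Subgroup.subgroupOfEquivOfLe (show (Tg ⊓ L).subgroupOf D ≤ R.subgroupOf D from Subgroup.comap_mono hTR)).toEquiv]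
    exact Nat.le_of_dvd Nat.card_pos (Subgroup.card_dvd_of_le hW')
  have hVR : (W : Subgroup ↥(R.subgroupOf D)).map (R.subgroupOf D).subtype = (V : Subgroup ↥D) := by
    refine Subgroup.eq_of_le_of_card_ge ?_ ?_
    · rw [hW, Subgroup.subgroupOf_map_subtype]
      exact inf_le_left
    · rwa [Subgroup.card_map_of_injective (R.subgroupOf D).subtype_injective]
  have hxV : (⟨x, hx⟩ : ↥D) ∈ (V : Subgroup ↥D) := hV (Subgroup.mem_zpowers x)
  rw [← hVR] at hxV
  obtain ⟨w, -, hwx⟩ := hxV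
  have := w.2
  rw [show (w : ↥D) = ⟨x, hx⟩ from hwx] at this
  exact this

end Cfsg.Agent.S2806
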