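import Cfsg.Statements.S2809
import Cfsg.Agent.Lib.LocalEven.ChainStab
import Cfsg.Agent.Lib.Solvable.CoprimeAction
open scoped commutatorElement

set_option autoImplicit false
open Cfsg

namespace Cfsg.Agent.S2809

/-- Let H be a finite group, p a prime, R a p-subgroup of H with C_H(R) ≤ R, and L a subgroup of N_H(R) acting nilpotently on R (some iterated commutator [R, L, …, L] is trivial). Then L is a p-group. -/
theorem result {H : Type*} [Group H] [Finite H] {p : ℕ} [Fact p.Prime] (R : Subgroup H) (hR : IsPGroup p ↥R) (hC : Subgroup.centralizer (R : Set H) ≤ R) (L : Subgroup H) (hL : L ≤ Subgroup.normalizer (R : Set H)) (hnil : ∃ n : ℕ, Cfsg.iterCommutator R L n = ⊥) : IsPGroup p ↥L := by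
  obtain ⟨n, hn⟩ := hnil
  have hle : ∀ i, Cfsg.iterCommutator R L i ≤ R := by
    intro i
    induction i with
    | zero => exact le_rfl
    | succ i ih =>
      exact (Subgroup.commutator_mono ih le_rfl).trans (CfsgLib.Solvable.commutator_le_of_le_normalizer hL)
  refine CfsgLib.LocalEven.Chain.isPGroup_of_coprime_eq_one fun x hx hxo => ?_
  have hc : x ∈ Subgroup.centralizer (R : Set H) := by
    refine Subgroup.mem_centralizer_iff.2 fun v hv => ?_
    refine (CfsgLib.LocalEven.Chain.commute_of_chain hR hxo n (Cfsg.iterCommutator R L) hle hn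
      (fun i _ w hw => ?_) v hv).symm
    have h := Subgroup.commutator_mem_commutator (inv_mem hw) hx
    rw [commutatorElement_def, inv_inv] at h
    simpa [Cfsg.iterCommutator, mul_assoc] using h
  exact CfsgLib.LocalEven.eq_one_of_pow_eq_one_of_pGroup hR (hC hc) hxo (pow_orderOf_eq_one x)

end Cfsg.Agent.S2809
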