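import Cfsg.Statements.S2810
import Cfsg.Agent.Lib.LocalEven.ChainStab
open scoped commutatorElement

set_option autoImplicit false
open Cfsg

namespace Cfsg.Agent.S2810

/-- Let H be a finite group of characteristic p and L a subgroup of H centralizing every factor of some H-invariant chain 1 = A₀ ≤ A₁ ≤ … ≤ Aₙ = O_p(H) of normal subgroups (that is, [A_{i+1}, L] ≤ Aᵢ for each i). Then L ≤ O_p(H). -/
theorem result {H : Type*} [Group H] [Finite H] {p : ℕ} [Fact p.Prime] (hchar : Subgroup.centralizer (Cfsg.pCore p H : Set H) ≤ Cfsg.pCore p H) (L : Subgroup H) (n : ℕ) (A : Fin (n + 1) → Subgroup H) (h0 : A 0 = ⊥) (hn : A (Fin.last n) = Cfsg.pCore p H) (hmono : Monotone A) (hnorm : ∀ i, (A i).Normal) (hcent : ∀ i : Fin n, ⁅A i.succ, L⁆ ≤ A i.castSucc) : L ≤ Cfsg.pCore p H := by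
  have hAle : ∀ i, A i ≤ Cfsg.pCore p H := fun i => hn ▸ hmono (Fin.le_last i)
  haveI := hnorm
  set S : Subgroup H := ⨅ i : Fin n, (Subgroup.centralizer
    (((A i.succ).map (QuotientGroup.mk' (A i.castSucc)) : Subgroup (H ⧸ A i.castSucc)) :
      Set (H ⧸ A i.castSucc))).comap (QuotientGroup.mk' (A i.castSucc)) with hS
  haveI : S.Normal := by
    rw [hS]
    refine Subgroup.normal_iInf_normal fun i => ?_
    haveI : ((A i.succ).map (QuotientGroup.mk' (A i.castSucc))).Normal :=
      (hnorm i.succ).map _ (QuotientGroup.mk'_surjective _)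
    infer_instance
  have hmemS : ∀ {s : H}, s ∈ S → ∀ i : Fin n, ∀ v ∈ A i.succ, v⁻¹ * (s * v * s⁻¹) ∈ A i.castSucc := by
    intro s hs i v hv
    have h := Subgroup.mem_centralizer_iff.1 ((Subgroup.mem_iInf.1 hs) i) _ ⟨v, hv, rfl⟩
    rw [← QuotientGroup.eq_one_iff]
    simp only [QuotientGroup.mk'_apply] at h
    simp only [QuotientGroup.mk_mul, QuotientGroup.mk_inv]
    rw [← h]
    group
  have hLS : L ≤ S := by
    intro l hl
    refine Subgroup.mem_iInf.2 fun i => Subgroup.mem_centralizer_iff.2 ?_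
    rintro _ ⟨v, hv, rfl⟩
    have h := (QuotientGroup.eq_one_iff _).2 (hcent i (Subgroup.commutator_mem_commutator hv hl))
    rw [← QuotientGroup.mk'_apply, map_commutatorElement, commutatorElement_eq_one_iff_mul_comm] at h
    exact h
  refine hLS.trans (CfsgLib.Cores.le_pCore (CfsgLib.LocalEven.Chain.isPGroup_of_coprime_eq_one fun x hx hxo => ?_))
  have hc : x ∈ Subgroup.centralizer (Cfsg.pCore p H : Set H) := by
    refine Subgroup.mem_centralizer_iff.2 fun v hv => ?_
    refine (CfsgLib.LocalEven.Chain.commute_of_chain (CfsgLib.Cores.isPGroup_pCore p) hxo n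
      (fun i => A ⟨n - i, by omega⟩) (fun i => hAle _) ?_ ?_ v ?_).symm
    · show A ⟨n - n, _⟩ = ⊥
      rw [← h0]
      congr 1
      exact Fin.ext (Nat.sub_self n)
    · intro i hi w hw
      have hidx : n - (i + 1) < n := by omega
      have h1 : (⟨n - i, by omega⟩ : Fin (n + 1)) = (⟨n - (i + 1), hidx⟩ : Fin n).succ :=
        Fin.ext (by simp only [Fin.val_succ]; omega)
      exact hmemS hx ⟨n - (i + 1), hidx⟩ w (h1 ▸ hw)
    · show v ∈ A ⟨n - 0, _⟩
      have : (⟨n - 0, by omega⟩ : Fin (n + 1)) = Fin.last n := Fin.ext (Nat.sub_zero n)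
      rw [this, hn]
      exact hv
  exact CfsgLib.LocalEven.eq_one_of_pow_eq_one_of_pGroup (CfsgLib.Cores.isPGroup_pCore p) (hchar hc) hxo (pow_orderOf_eq_one x)

end Cfsg.Agent.S2810
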