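import Cfsg.Statements.S2813
import Cfsg.Agent.Lib.LocalEven.ChainStab
import Cfsg.Agent.Lib.LocalEven.CoreOf
import Cfsg.Agent.Lib.PGroup.ElemAbelian
import Cfsg.Agent.Lib.Solvable.CoprimeAction
open scoped commutatorElement

set_option autoImplicit false
open Cfsg

namespace Cfsg.Agent.S2813

/-- Let K be a subgroup of the finite group H with O_p(K) = 1 and Y a p-subgroup of N_H(K) with [K, Y, Y] = 1. Then [K, Y] = 1. -/
theorem result {H : Type*} [Group H] [Finite H] {p : ℕ} [Fact p.Prime] (K : Subgroup H) (hO : Cfsg.pCore p ↥K = ⊥) (Y : Subgroup H) (hY : IsPGroup p ↥Y) (hYK : Y ≤ Subgroup.normalizer (K : Set H)) (hq : ⁅⁅K, Y⁆, Y⁆ = ⊥) : ⁅K, Y⁆ = ⊥ := by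
  set D := ⁅K, Y⁆ with hD
  have hDK : D ≤ K := CfsgLib.Solvable.commutator_le_of_le_normalizer hYK
  have hKD : K ≤ Subgroup.normalizer (D : Set H) := CfsgLib.Solvable.le_normalizer_commutator_left K Y
  have hKD' : ⁅D, K⁆ ≤ D := by
    rw [Subgroup.commutator_le]
    intro d hd k hk
    have e : ⁅d, k⁆ = d * (k * d⁻¹ * k⁻¹) := by rw [commutatorElement_def]; group
    rw [e]
    exact mul_mem hd ((Subgroup.mem_normalizer_iff.1 (hKD hk) _).1 (inv_mem hd))
  have h1 : ⁅⁅D, K⁆, Y⁆ = ⊥ := le_bot_iff.1 ((Subgroup.commutator_mono hKD' le_rfl).trans hq.le)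
  have h2 : ⁅⁅Y, D⁆, K⁆ = ⊥ := by
    rw [Subgroup.commutator_comm Y D, hq, Subgroup.commutator_bot_left]
  have hab : ⁅D, D⁆ = ⊥ := Subgroup.commutator_commutator_eq_bot_of_rotate h2 h1
  have hDc : ∀ a ∈ D, ∀ b ∈ D, a * b = b * a := fun a ha b hb =>
    commutatorElement_eq_one_iff_mul_comm.1 (Subgroup.mem_bot.1 (hab ▸ Subgroup.commutator_mem_commutator ha hb))
  haveI : IsMulCommutative ↥D := ⟨⟨fun a b => Subtype.ext (hDc a a.2 b b.2)⟩⟩
  have hnop : ¬ p ∣ Nat.card D := by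
    intro hdvd
    obtain ⟨x, hx⟩ := exists_prime_orderOf_dvd_card' p hdvd
    set N := Cfsg.omegaOne p D with hN
    have hND : N ≤ D := CfsgLib.PGroup.omegaOne_le p D
    have hNp : IsPGroup p N := CfsgLib.PGroup.elemAb_isPGroup (CfsgLib.PGroup.elemAb_omegaOne_of_comm hDc)
    have hKN : K ≤ Subgroup.normalizer (N : Set H) := fun k hk => by
      refine CfsgLib.LocalEven.mem_normalizer_of_conj_le ?_
      refine (CfsgLib.PGroup.map_omegaOne_le p _ D).trans (CfsgLib.PGroup.omegaOne_mono ?_)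
      exact (Subgroup.mem_normalizer_iff_map_conj_eq.1 (hKD hk)).le
    have hle := CfsgLib.LocalEven.le_pCoreOf (hND.trans hDK) hNp hKN
    rw [Cfsg.pCoreOf, hO, Subgroup.map_bot] at hle
    have hxN : (x : H) ∈ N := CfsgLib.PGroup.mem_omegaOne x.2 (by rw [← SubgroupClass.coe_pow, ← hx, pow_orderOf_eq_one]; rfl)
    have hx1 : x = 1 := Subtype.ext (Subgroup.mem_bot.1 (hle hxN))
    rw [hx1, orderOf_one] at hx
    exact (Fact.out : p.Prime).ne_one hx.symm
  rw [← le_bot_iff, hD, Subgroup.commutator_le]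
  intro k hk y hy
  set d := ⁅k, y⁆ with hd
  have hdD : d ∈ D := Subgroup.commutator_mem_commutator hk hy
  have hcom : Commute y d⁻¹ := (show Commute y d from (commutatorElement_eq_one_iff_mul_comm.1
    (Subgroup.mem_bot.1 (hq ▸ Subgroup.commutator_mem_commutator hdD hy))).symm).inv_right
  have hn : ∀ n : ℕ, y ^ n * k * (y ^ n)⁻¹ = (d⁻¹) ^ n * k := by
    intro n
    induction n with
    | zero => simp
    | succ n ih =>
      calc y ^ (n + 1) * k * (y ^ (n + 1))⁻¹ = y * (y ^ n * k * (y ^ n)⁻¹) * y⁻¹ := by rw [pow_succ']; group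
        _ = (y * d⁻¹ ^ n) * k * y⁻¹ := by rw [ih]; group
        _ = d⁻¹ ^ n * (y * k * y⁻¹) := by rw [(hcom.pow_right n).eq]; group
        _ = d⁻¹ ^ (n + 1) * k := by
          rw [pow_succ, hd, commutatorElement_def]; group
  obtain ⟨a, ha⟩ := hY ⟨y, hy⟩
  have hy' : y ^ p ^ a = 1 := congrArg Subtype.val ha
  have h3 := hn (p ^ a)
  rw [hy'] at h3
  have h4 : d⁻¹ ^ p ^ a = 1 := by
    have h5 : (1 : H) * k = d⁻¹ ^ p ^ a * k := by simpa using h3
    exact (mul_right_cancel h5).symm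
  rw [inv_pow, inv_eq_one] at h4
  rw [Subgroup.mem_bot]
  have hco : (orderOf d).Coprime (p ^ a) :=
    ((Nat.coprime_comm.1 ((Fact.out : p.Prime).coprime_iff_not_dvd.2 hnop)).coprime_dvd_left
      (Subgroup.orderOf_dvd_natCard D hdD)).pow_right a
  exact orderOf_eq_one_iff.1 (Nat.eq_one_of_dvd_coprimes hco dvd_rfl (orderOf_dvd_of_pow_eq_one h4))

end Cfsg.Agent.S2813
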