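import Cfsg.Statements.S2814
import Cfsg.Agent.Lib.LocalEven.WeaklyClosed
import Cfsg.Agent.Lib.LocalEven.PClosed
import Cfsg.Agent.Lib.Transfer.SubnormalJoin
open Subgroup
open scoped commutatorElement

set_option autoImplicit false
open Cfsg

namespace Cfsg.Agent.S2814

/-- Let A be a subgroup of the finite group H and K the subnormal closure of A (intersection of the subnormal subgroups containing A). Then K is the normal closure of A inside K and N_H(A) ≤ N_H(K); K = A·O^p(K), O^p(K) being generated by the elements of K of order prime to p; and if A is a p-group, O^p(K) = [O^p(K), A]. -/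
theorem result {H : Type*} [Group H] [Finite H] {p : ℕ} [Fact p.Prime] (A : Subgroup H) (K : Subgroup H) (hK : K = Cfsg.subnormalClosure A) : (Subgroup.normalClosure ((A.subgroupOf K : Subgroup ↥K) : Set ↥K)).map K.subtype = K ∧ Subgroup.normalizer (A : Set H) ≤ Subgroup.normalizer (K : Set H) ∧ A ⊔ (Cfsg.pResidual p ↥K).map K.subtype = K ∧ (IsPGroup p ↥A → ⁅(Cfsg.pResidual p ↥K).map K.subtype, A⁆ = (Cfsg.pResidual p ↥K).map K.subtype) := by
  have hKsub : K.IsSubnormal ∧ A ≤ K ∧ ∀ S : Subgroup H, A ≤ S → S.IsSubnormal → K ≤ S := by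
    obtain ⟨M, -, ⟨hAM, hMs⟩, hmin⟩ := Finite.exists_le_minimal
      (p := fun S : Subgroup H => A ≤ S ∧ S.IsSubnormal) (a := (⊤ : Subgroup H))
      ⟨le_top, Subgroup.IsSubnormal.top⟩
    have hle : ∀ S : Subgroup H, A ≤ S → S.IsSubnormal → M ≤ S := fun S hAS hS =>
      (hmin ⟨le_inf hAM hAS, hMs.inf hS⟩ inf_le_left).trans inf_le_right
    have hKM : K = M := by
      rw [hK]
      exact le_antisymm (sInf_le ⟨hAM, hMs⟩) (le_sInf fun S hS => hle S hS.1 hS.2)
    exact hKM ▸ ⟨hMs, hAM, hle⟩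
  obtain ⟨hKs, hAK, hmin⟩ := hKsub
  have hAK' : A ≤ ((A.subgroupOf K).map K.subtype) := (Subgroup.map_subgroupOf_eq_of_le hAK).ge
  have hsub : ∀ N : Subgroup K, A.subgroupOf K ≤ N → N.IsSubnormal → N.map K.subtype = K := fun N hN hNs =>
    le_antisymm (Subgroup.map_subtype_le N) (hmin _ (hAK'.trans (Subgroup.map_mono hN)) (hNs.trans' hKs))
  set R := Cfsg.pResidual p ↥K with hR
  haveI hRn : R.Normal := by
    haveI := CfsgLib.Transfer.pResidual_characteristic (G := ↥K) (p := p)
    exact Subgroup.normal_of_characteristic R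
  set R' := R.map K.subtype with hR'
  have hR'K : R' ≤ K := Subgroup.map_subtype_le R
  have hKR : K ≤ normalizer (R' : Set H) := fun k hk => CfsgLib.LocalEven.mem_normalizer_of_conj_le (by
    rintro _ ⟨x, hx, rfl⟩
    obtain ⟨y, hy, rfl⟩ := hx
    exact ⟨⟨k, hk⟩ * y * ⟨k, hk⟩⁻¹, hRn.conj_mem y hy _, rfl⟩)
  have hsup : A ⊔ R' = K := by
    have hs : (A.subgroupOf K ⊔ R).IsSubnormal := by
      haveI : Group.IsNilpotent (↥K ⧸ R) := CfsgLib.Transfer.isPGroup_quotient_pResidual.isNilpotent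
      have h := (CfsgLib.PGroup.isSubnormal_of_isNilpotent ((A.subgroupOf K).map (QuotientGroup.mk' R))).comap
        (QuotientGroup.mk' R)
      rwa [Subgroup.comap_map_eq, QuotientGroup.ker_mk'] at h
    have h := hsub _ le_sup_left hs
    rwa [Subgroup.map_sup, Subgroup.map_subgroupOf_eq_of_le hAK] at h
  refine ⟨?_, ?_, hsup, fun hA => ?_⟩
  · exact hsub _ (Subgroup.subset_normalClosure) (Subgroup.Normal.isSubnormal Subgroup.normalClosure_normal)
  · intro n hn
    refine CfsgLib.LocalEven.mem_normalizer_of_conj_le ?_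
    have hsn : ∀ m : H, (K.map (MulAut.conj m).toMonoidHom).IsSubnormal := fun m =>
      hKs.map (MulAut.conj m).surjective
    have h1 := hmin (K.map (MulAut.conj n⁻¹).toMonoidHom)
      ((CfsgLib.LocalEven.WC.map_conj_eq_of_mem (inv_mem hn)).ge.trans (Subgroup.map_mono hAK)) (hsn n⁻¹)
    rintro _ ⟨x, hx, rfl⟩
    obtain ⟨y, hy, hyx⟩ := h1 hx
    change n⁻¹ * y * n⁻¹⁻¹ = x at hyx
    show n * x * n⁻¹ ∈ K
    rw [← hyx, show n * (n⁻¹ * y * n⁻¹⁻¹) * n⁻¹ = y by group]
    exact hy
  have hAR : A ≤ normalizer (R' : Set H) := hAK.trans hKR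
  set W := ⁅R', A⁆ with hW
  have hWR : W ≤ R' := CfsgLib.Solvable.commutator_le_of_le_normalizer hAR
  have hR'W : R' ≤ normalizer (W : Set H) := CfsgLib.Solvable.le_normalizer_commutator_left R' A
  have hAW : A ≤ normalizer (W : Set H) := CfsgLib.Solvable.le_normalizer_commutator_right hAR
  have hKW : K ≤ normalizer (W : Set H) := hsup ▸ sup_le hAW hR'W
  have hKAW : K ≤ normalizer ((A ⊔ W : Subgroup H) : Set H) := by
    rw [← hsup]
    refine sup_le (Subgroup.le_normalizer.trans' le_sup_left) fun r hr => ?_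
    refine CfsgLib.LocalEven.mem_normalizer_of_conj_le ?_
    rw [Subgroup.map_sup, CfsgLib.LocalEven.WC.map_conj_eq_of_mem (hR'W hr)]
    refine sup_le ?_ le_sup_right
    rintro _ ⟨a, ha, rfl⟩
    show r * a * r⁻¹ ∈ A ⊔ W
    rw [show r * a * r⁻¹ = ⁅r, a⁆ * a by rw [commutatorElement_def]; group]
    exact mul_mem (Subgroup.mem_sup_right (Subgroup.commutator_mem_commutator hr ha)) (Subgroup.mem_sup_left ha)
  have hAWK : A ⊔ W ≤ K := sup_le hAK (hWR.trans hR'K)
  have hKeq : K ≤ A ⊔ W := by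
    refine hmin _ le_sup_left (Subgroup.IsSubnormal.trans hAWK ?_ hKs)
    exact Subgroup.Normal.isSubnormal (Subgroup.normal_subgroupOf_of_le_normalizer hKAW)
  haveI : (W.subgroupOf K).Normal := Subgroup.normal_subgroupOf_of_le_normalizer hKW
  have htop : W.subgroupOf K ⊔ A.subgroupOf K = ⊤ := by
    apply Subgroup.map_injective K.subtype_injective
    rw [Subgroup.map_sup, Subgroup.map_subgroupOf_eq_of_le hAK,
      Subgroup.map_subgroupOf_eq_of_le (hWR.trans hR'K), ← MonoidHom.range_eq_map, Subgroup.range_subtype, sup_comm]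
    exact le_antisymm hAWK hKeq
  have h := Subgroup.map_mono (f := K.subtype) (CfsgLib.LocalEven.PClosed.pResidual_le_of_sup_eq_top hA.comap_subtype htop)
  rw [Subgroup.map_subgroupOf_eq_of_le (hWR.trans hR'K)] at h
  exact le_antisymm hWR h

end Cfsg.Agent.S2814
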