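import Cfsg.Statements.S2815
import Cfsg.Agent.Lib.Cores.Components
import Cfsg.Agent.Lib.Cores.Layer
import Cfsg.Agent.Lib.Transfer.Basic
import Cfsg.Agent.Lib.Solvable.CoprimeAction

set_option autoImplicit false
open Cfsg

namespace Cfsg.Agent.S2815

/-- Let H be a finite group and p a prime dividing its order with O_p(H) = 1, and suppose K = O^p(H) (generated by the elements of order prime to p) is quasisimple. Then K = F*(H); for every nontrivial p-subgroup Y of H, K = [K, Y] and K lies in the subgroup generated by the K-conjugates of Y; every normal subgroup of H not containing K has order prime to p; and H is p-irreducible. -/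
theorem result {H : Type*} [Group H] [Finite H] {p : ℕ} [Fact p.Prime] (hp : p ∣ Nat.card H) (hO : Cfsg.pCore p H = ⊥) (hq : Cfsg.IsQuasisimple ↥(Cfsg.pResidual p H)) : Cfsg.pResidual p H = Cfsg.generalizedFittingSubgroup H ∧ (∀ Y : Subgroup H, IsPGroup p ↥Y → Y ≠ ⊥ → ⁅Cfsg.pResidual p H, Y⁆ = Cfsg.pResidual p H ∧ Cfsg.pResidual p H ≤ ⨆ k : ↥(Cfsg.pResidual p H), Y.map (MulAut.conj (k : H)).toMonoidHom) ∧ (∀ C : Subgroup H, C.Normal → ¬ Cfsg.pResidual p H ≤ C → (Nat.card ↥C).Coprime p) ∧ Cfsg.IsPIrreducible p H := by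
  have hpp : p.Prime := Fact.out
  set K := Cfsg.pResidual p H with hKdef
  have hKn : K.Normal := CfsgLib.Transfer.pResidual_normal_inst
  have hKc : IsComponent K := ⟨Subgroup.Normal.isSubnormal hKn, hq⟩
  have hF : fittingSubgroup H ≤ K := by
    intro x hx
    refine Subgroup.subset_closure ?_
    show (orderOf x).Coprime p
    have hnil : Group.IsNilpotent ↥(fittingSubgroup H) := CfsgLib.Cores.isNilpotent_fittingSubgroup
    have hcop : (Nat.card ↥(fittingSubgroup H)).Coprime p := by
      rw [CfsgLib.Cores.coprime_iff_not_dvd hpp]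
      intro hd
      obtain ⟨P⟩ : Nonempty (Sylow p ↥(fittingSubgroup H)) := inferInstance
      have h : Group.IsNilpotent ↥(fittingSubgroup H) ↔ ∀ (q : ℕ) (_ : Fact q.Prime)
          (P : Sylow q ↥(fittingSubgroup H)), (P : Subgroup ↥(fittingSubgroup H)).Normal :=
        (Group.isNilpotent_of_finite_tfae (G := ↥(fittingSubgroup H))).out 0 3
      have hPn := h.1 hnil p inferInstance P
      have hPc : (P : Subgroup ↥(fittingSubgroup H)).Characteristic := P.characteristic_of_normal hPn
      have : (fittingSubgroup H).Normal := CfsgLib.Cores.fittingSubgroup_normal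
      have : ((P : Subgroup ↥(fittingSubgroup H)).map (fittingSubgroup H).subtype).Normal := inferInstance
      have h1 : (P : Subgroup ↥(fittingSubgroup H)).map (fittingSubgroup H).subtype ≤ ⊥ :=
        hO ▸ CfsgLib.Cores.le_pCore (P.2.map _)
      rw [le_bot_iff, Subgroup.map_eq_bot_iff_of_injective _ (Subgroup.subtype_injective _)] at h1
      exact P.ne_bot_of_dvd_card hd h1
    exact hcop.coprime_dvd_left (Subgroup.orderOf_dvd_natCard _ hx)
  have hlayer : layer H = K := by
    refine le_antisymm (CfsgLib.Cores.layer_le_iff.2 fun L hL => ?_) (CfsgLib.Cores.component_le_layer hKc)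
    have h1 : L.map (QuotientGroup.mk' K) = ⊥ := by
      by_contra hne
      have hperf : ⁅L.map (QuotientGroup.mk' K), L.map (QuotientGroup.mk' K)⁆ = L.map (QuotientGroup.mk' K) := by
        rw [← Subgroup.map_commutator, CfsgLib.Cores.component_commutator_self hL]
      refine CfsgLib.Cores.center_eq_top_of_isNilpotent_quasisimple hq ?_ |>.elim
      exfalso
      have hQ : IsPGroup p (H ⧸ K) := CfsgLib.Transfer.isPGroup_quotient_pResidual
      have hnil := (hQ.to_subgroup (L.map (QuotientGroup.mk' K))).isNilpotent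
      have hnt : Nontrivial ↥(L.map (QuotientGroup.mk' K)) := (Subgroup.nontrivial_iff_ne_bot _).2 hne
      have hsol : Group.IsSolvable ↥(L.map (QuotientGroup.mk' K)) := inferInstance
      have hlt : commutator ↥(L.map (QuotientGroup.mk' K)) < ⊤ :=
        Group.IsSolvable.commutator_lt_top_of_nontrivial _
      refine hlt.ne ?_
      apply Subgroup.map_injective (Subgroup.subtype_injective _)
      rw [CfsgLib.Cores.map_commutator_top_le, hperf, ← MonoidHom.range_eq_map, Subgroup.range_subtype]
    rw [Subgroup.map_eq_bot_iff, QuotientGroup.ker_mk'] at h1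
    exact h1
  have hFstar : K = generalizedFittingSubgroup H := by
    rw [Cfsg.generalizedFittingSubgroup, hlayer, sup_eq_left.2 hF]
  have hY : ∀ Y : Subgroup H, IsPGroup p ↥Y → Y ≠ ⊥ → ⁅K, Y⁆ = K ∧
      K ≤ ⨆ k : ↥K, Y.map (MulAut.conj (k : H)).toMonoidHom := by
    intro Y hYp hY1
    have hle : ⁅K, Y⁆ ≤ K := Subgroup.commutator_le_left K Y
    have hKY : ⁅K, Y⁆ = K := by
      by_contra hne
      have hn : (⁅K, Y⁆.subgroupOf K).Normal :=
        (Subgroup.normal_subgroupOf_iff_le_normalizer hle).2 (CfsgLib.Solvable.le_normalizer_commutator_left K Y)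
      rcases CfsgLib.Cores.normal_eq_top_or_le_center_of_isQuasisimple hq (⁅K, Y⁆.subgroupOf K) with h | h
      · exact hne (le_antisymm hle (Subgroup.subgroupOf_eq_top.1 h))
      have hcen : ⁅⁅K, Y⁆, K⁆ = ⊥ := by
        rw [Subgroup.commutator_eq_bot_iff_le_centralizer]
        intro x hx
        have hx' : (⟨x, hle hx⟩ : ↥K) ∈ ⁅K, Y⁆.subgroupOf K := hx
        exact Subgroup.mem_centralizer_iff.2 fun k hk =>
          congrArg Subtype.val (Subgroup.mem_center_iff.1 (h hx') ⟨k, hk⟩)
      have h3 : ⁅⁅K, K⁆, Y⁆ = ⊥ :=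
        Subgroup.commutator_commutator_eq_bot_of_rotate hcen (by rw [Subgroup.commutator_comm Y K]; exact hcen)
      rw [CfsgLib.Cores.component_commutator_self hKc, Subgroup.commutator_comm,
        Subgroup.commutator_eq_bot_iff_le_centralizer] at h3
      have hYK : Y ≤ K := by
        have := CfsgLib.Cores.centralizer_generalizedFittingSubgroup_le (G := H)
        rw [← hFstar] at this
        exact h3.trans this
      apply hY1
      have hZn : ((Subgroup.center ↥K).map K.subtype).Normal := CfsgLib.Cores.map_center_normal K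
      have hYZ : Y ≤ (Subgroup.center ↥K).map K.subtype := by
        rw [CfsgLib.Cores.map_center_eq_inf_centralizer]
        exact le_inf hYK h3
      have hnil := CfsgLib.Cores.isNilpotent_center_map K
      obtain ⟨P, hP⟩ := (hYp.comap_subtype (K := (Subgroup.center ↥K).map K.subtype)).exists_le_sylow
      have h : Group.IsNilpotent ↥((Subgroup.center ↥K).map K.subtype) ↔ ∀ (q : ℕ) (_ : Fact q.Prime)
          (P : Sylow q ↥((Subgroup.center ↥K).map K.subtype)), (P : Subgroup ↥((Subgroup.center ↥K).map K.subtype)).Normal :=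
        (Group.isNilpotent_of_finite_tfae (G := ↥((Subgroup.center ↥K).map K.subtype))).out 0 3
      have hPn := h.1 hnil p inferInstance P
      have hPc := P.characteristic_of_normal hPn
      have : ((P : Subgroup ↥((Subgroup.center ↥K).map K.subtype)).map ((Subgroup.center ↥K).map K.subtype).subtype).Normal :=
        inferInstance
      have h1 := hO ▸ CfsgLib.Cores.le_pCore (P.2.map ((Subgroup.center ↥K).map K.subtype).subtype)
      exact eq_bot_iff.2 fun y hy => h1 ⟨⟨y, hYZ hy⟩, hP hy, rfl⟩
    refine ⟨hKY, ?_⟩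
    refine hKY.ge.trans (Subgroup.commutator_le.2 fun k hk y hy => ?_)
    rw [commutatorElement_def]
    refine mul_mem ?_ ?_
    · exact Subgroup.mem_iSup_of_mem (⟨k, hk⟩ : ↥K) ⟨y, hy, rfl⟩
    · exact Subgroup.mem_iSup_of_mem (⟨1, K.one_mem⟩ : ↥K) ⟨y⁻¹, inv_mem hy, by simp⟩
  have hC : ∀ C : Subgroup H, C.Normal → ¬ K ≤ C → (Nat.card ↥C).Coprime p := by
    intro C hCn hKC
    rw [CfsgLib.Cores.coprime_iff_not_dvd hpp]
    intro hd
    obtain ⟨P⟩ : Nonempty (Sylow p ↥C) := inferInstance
    have hne : (P : Subgroup ↥C).map C.subtype ≠ ⊥ := by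
      rw [Ne, Subgroup.map_eq_bot_iff_of_injective _ C.subtype_injective]
      exact P.ne_bot_of_dvd_card hd
    exact hKC ((hY _ (P.2.map _) hne).1.ge.trans ((Subgroup.commutator_mono le_rfl (Subgroup.map_subtype_le _)).trans
      (Subgroup.commutator_le_right K C)))
  refine ⟨hFstar, hY, hC, fun hcl => ?_, fun N hN hNcl => ?_⟩
  · obtain ⟨P⟩ : Nonempty (Sylow p H) := inferInstance
    have := hcl P
    exact P.ne_bot_of_dvd_card hp (eq_bot_iff.2 (hO ▸ CfsgLib.Cores.le_pCore P.2))
  · by_contra hKN
    refine hNcl fun P => ?_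
    have hc := (CfsgLib.Cores.coprime_iff_not_dvd hpp _).1 (hC N hN hKN)
    have : (P : Subgroup ↥N) = ⊥ := by
      obtain ⟨n, hn⟩ := IsPGroup.iff_card.1 P.2
      refine Subgroup.card_eq_one.1 ?_
      rcases n with _ | n
      · simpa using hn
      · exfalso
        have h := Subgroup.card_subgroup_dvd_card (P : Subgroup ↥N)
        rw [hn] at h
        exact hc ((dvd_pow_self p n.succ_ne_zero).trans h)
    rw [this]
    infer_instance

end Cfsg.Agent.S2815
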