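import Cfsg.Statements.S2816
import Cfsg.Agent.Lib.LocalEven.FStarSplit
import Cfsg.Agent.Lib.Cores.Layer

set_option autoImplicit false
open Cfsg

namespace Cfsg.Agent.S2816

/-- Let H be a finite group and p a prime with O_p(H) = 1, and Y a p-subgroup of H. Then for every subnormal subgroup K of H containing Y, [F*(H), Y] = [F*(K), Y] = [F*(K), Y, Y]; and if Y₀ ≤ Y with [F*(H), Y, Y₀] = 1 then Y₀ = 1 (in particular [F*(H), Y] = 1 forces Y = 1). -/
theorem result {H : Type*} [Group H] [Finite H] {p : ℕ} [Fact p.Prime] (hO : Cfsg.pCore p H = ⊥) (Y : Subgroup H) (hY : IsPGroup p ↥Y) : (∀ K : Subgroup H, K.IsSubnormal → Y ≤ K → ⁅Cfsg.generalizedFittingSubgroup H, Y⁆ = ⁅(Cfsg.generalizedFittingSubgroup ↥K).map K.subtype, Y⁆ ∧ ⁅(Cfsg.generalizedFittingSubgroup ↥K).map K.subtype, Y⁆ = ⁅⁅(Cfsg.generalizedFittingSubgroup ↥K).map K.subtype, Y⁆, Y⁆) ∧ (∀ Y₀ : Subgroup H, Y₀ ≤ Y → ⁅⁅Cfsg.generalizedFittingSubgroup H, Y⁆, Y₀⁆ = ⊥ → Y₀ = ⊥) := by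
  set F := Cfsg.generalizedFittingSubgroup H with hFdef
  have hFn : F.Normal := CfsgLib.Cores.generalizedFittingSubgroup_normal
  have hO' : Cfsg.pCore p ↥(⊤ : Subgroup H) = ⊥ := by
    rw [← CfsgLib.Cores.map_pCore_equiv (p := p) (Subgroup.topEquiv (G := H)).symm, hO, Subgroup.map_bot]
  have hYF : ∀ Z : Subgroup H, Z ≤ Subgroup.normalizer (F : Set H) := fun Z => by
    rw [Subgroup.normalizer_eq_top]; exact le_top
  have hsplit : ∀ Z : Subgroup H, IsPGroup p ↥Z → ⁅⁅F, Z⁆, Z⁆ = ⁅F, Z⁆ := fun Z hZ => by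
    refine (CfsgLib.LocalEven.FStar.split_subnormal (H := (⊤ : Subgroup H)) hO' hZ ?_ ?_ (hYF Z)).2
    · rw [hFdef, ← CfsgLib.Cores.map_generalizedFittingSubgroup_equiv (Subgroup.topEquiv (G := H)).symm,
        Subgroup.map_map]
      intro x hx
      exact ⟨x, hx, rfl⟩
    · exact Subgroup.Normal.isSubnormal (hFn.comap _)
  refine ⟨fun K hK hYK => ?_, fun Y₀ hY₀ h0 => ?_⟩
  · have hle : ∀ A : Subgroup H, A.IsSubnormal → Y ≤ A → ⁅F, Y⁆ ≤ A := by
      intro A hA
      induction hA with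
      | top => exact fun _ => le_top
      | step A B hAB _ hN ih =>
        intro hYA
        rw [← hsplit Y hY]
        refine (Subgroup.commutator_mono (ih (hYA.trans hAB)) hYA).trans (Subgroup.commutator_le.2 fun b hb a ha => ?_)
        rw [commutatorElement_def]
        exact mul_mem ((Subgroup.mem_normalizer_iff.1
          ((Subgroup.normal_subgroupOf_iff_le_normalizer hAB).1 hN hb) a).1 ha) (inv_mem ha)
    set FK := (Cfsg.generalizedFittingSubgroup ↥K).map K.subtype with hFK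
    have hFKle : FK ≤ F := CfsgLib.Cores.map_generalizedFittingSubgroup_le_of_isSubnormal hK
    have hinf : F ⊓ K ≤ FK := by
      refine (CfsgLib.Cores.le_fitting_inf_sup_components ((Subgroup.Normal.isSubnormal hFn).inf hK)
        inf_le_left).trans (sup_le ?_ (sSup_le fun L hL => ?_))
      · refine le_trans (le_inf inf_le_left (inf_le_right.trans inf_le_right)) ?_
        rw [← CfsgLib.Cores.fittingSubgroup_of_isSubnormal hK]
        exact Subgroup.map_mono CfsgLib.Cores.fittingSubgroup_le_generalizedFittingSubgroup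
      · have hLK : L ≤ K := hL.2.trans inf_le_right
        have h1 : L.subgroupOf K ≤ Cfsg.generalizedFittingSubgroup ↥K :=
          (CfsgLib.Cores.component_le_layer (CfsgLib.Cores.isComponent_subgroupOf hL.1 hLK)).trans
            CfsgLib.Cores.layer_le_generalizedFittingSubgroup
        have h2 := Subgroup.map_mono (f := K.subtype) h1
        rwa [Subgroup.subgroupOf_map_subtype, inf_eq_left.2 hLK] at h2
    have h1 : ⁅F, Y⁆ ≤ FK :=
      le_trans (le_inf (CfsgLib.Solvable.commutator_le_of_le_normalizer (hYF Y)) (hle K hK hYK)) hinf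
    have heq : ⁅F, Y⁆ = ⁅FK, Y⁆ := by
      refine le_antisymm ?_ (Subgroup.commutator_mono hFKle le_rfl)
      rw [← hsplit Y hY]
      exact Subgroup.commutator_mono h1 le_rfl
    refine ⟨heq, ?_⟩
    rw [← heq, hsplit Y hY]
  · have hp0 : IsPGroup p ↥Y₀ := hY.to_le hY₀
    have h1 : ⁅F, Y₀⁆ = ⊥ := by
      rw [← hsplit Y₀ hp0]
      exact le_bot_iff.1 (h0 ▸ Subgroup.commutator_mono (Subgroup.commutator_mono le_rfl hY₀) le_rfl)
    rw [Subgroup.commutator_comm, Subgroup.commutator_eq_bot_iff_le_centralizer] at h1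
    have hY0F : Y₀ ≤ F := h1.trans CfsgLib.Cores.centralizer_generalizedFittingSubgroup_le
    have hnil := CfsgLib.Cores.isNilpotent_center_map F
    have hn := CfsgLib.Cores.map_center_normal F
    have hcop := CfsgLib.LocalEven.FStar.coprime_card_of_normal_nilpotent hO _ hnil
    have hle : Y₀ ≤ (Subgroup.center ↥F).map F.subtype := by
      rw [CfsgLib.Cores.map_center_eq_inf_centralizer]
      exact le_inf hY0F h1
    obtain ⟨n, hn'⟩ := IsPGroup.iff_card.1 hp0
    have hd := Subgroup.card_dvd_of_le hle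
    rw [hn'] at hd
    refine Subgroup.card_eq_one.1 ?_
    rw [hn']
    exact Nat.eq_one_of_dvd_coprimes (hcop.pow_right n) hd dvd_rfl

end Cfsg.Agent.S2816
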