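import Cfsg.Statements.S2817
import Cfsg.Agent.Lib.LocalEven.FStarSplit
import Cfsg.Agent.Lib.LocalEven.Basic
import Cfsg.Agent.Lib.Solvable.Basic

set_option autoImplicit false
open Cfsg

open scoped commutatorElement

namespace Cfsg.Agent.S2817

/-- Let H be a finite group and p a prime with O_p(H) = 1, Q a p-subgroup of H, L = [F*(H), Q], and F the largest normal subgroup of F*(H) centralized by Q (a normal subgroup of F*(H) centralized by Q and containing every such). Then F = C_{F*(H)}(LQ); L = [L, Q]; L ∩ F ≤ Φ(L); every p-subgroup B of N_H(Q) with [L, B] ≤ F satisfies [L, B] = 1; and C_H(FL) has order prime to p. -/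
theorem result {H : Type*} [Group H] [Finite H] {p : ℕ} [Fact p.Prime] (hO : Cfsg.pCore p H = ⊥) (Q : Subgroup H) (hQ : IsPGroup p ↥Q) (L : Subgroup H) (hL : L = ⁅Cfsg.generalizedFittingSubgroup H, Q⁆) (F : Subgroup H) (hF : F ≤ Cfsg.generalizedFittingSubgroup H ∧ Cfsg.generalizedFittingSubgroup H ≤ Subgroup.normalizer (F : Set H) ∧ Q ≤ Subgroup.centralizer (F : Set H) ∧ ∀ N : Subgroup H, N ≤ Cfsg.generalizedFittingSubgroup H → Cfsg.generalizedFittingSubgroup H ≤ Subgroup.normalizer (N : Set H) → Q ≤ Subgroup.centralizer (N : Set H) → N ≤ F) : F = Cfsg.generalizedFittingSubgroup H ⊓ Subgroup.centralizer ((L ⊔ Q : Subgroup H) : Set H) ∧ ⁅L, Q⁆ = L ∧ L ⊓ F ≤ (frattini ↥L).map L.subtype ∧ (∀ B : Subgroup H, IsPGroup p ↥B → B ≤ Subgroup.normalizer (Q : Set H) → ⁅L, B⁆ ≤ F → ⁅L, B⁆ = ⊥) ∧ (Nat.card ↥(Subgroup.centralizer ((F ⊔ L : Subgroup H) : Set H))).Coprime p := by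
  obtain ⟨hFle, hFn, hFQ, hFmax⟩ := hF
  set FS := Cfsg.generalizedFittingSubgroup H with hFS
  have hFSn : FS.Normal := CfsgLib.Cores.generalizedFittingSubgroup_normal
  have hO' : Cfsg.pCore p ↥(⊤ : Subgroup H) = ⊥ := by
    rw [← CfsgLib.Cores.map_pCore_equiv (p := p) (Subgroup.topEquiv (G := H)).symm, hO, Subgroup.map_bot]
  have hN : ∀ Z : Subgroup H, Z ≤ Subgroup.normalizer (FS : Set H) := fun Z => by
    rw [Subgroup.normalizer_eq_top]; exact le_top
  have hmap : FS ≤ (Cfsg.generalizedFittingSubgroup ↥(⊤ : Subgroup H)).map (⊤ : Subgroup H).subtype := by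
    rw [hFS, ← CfsgLib.Cores.map_generalizedFittingSubgroup_equiv (Subgroup.topEquiv (G := H)).symm,
      Subgroup.map_map]
    intro x hx
    exact ⟨x, hx, rfl⟩
  have hsplit : ∀ A Z : Subgroup H, A ≤ FS → FS ≤ Subgroup.normalizer (A : Set H) → IsPGroup p ↥Z →
      Z ≤ Subgroup.normalizer (A : Set H) →
      ⁅A, Z⁆ ⊔ (A ⊓ Subgroup.centralizer (Z : Set H)) = A ∧ ⁅⁅A, Z⁆, Z⁆ = ⁅A, Z⁆ := by
    intro A Z hA hAn hZ hZA
    refine CfsgLib.LocalEven.FStar.split_subnormal (H := (⊤ : Subgroup H)) hO' hZ (hA.trans hmap) ?_ hZA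
    have h1 : A.IsSubnormal :=
      Subgroup.IsSubnormal.step A FS hA (Subgroup.Normal.isSubnormal hFSn)
        ((Subgroup.normal_subgroupOf_iff_le_normalizer hA).2 hAn)
    exact h1.comap (⊤ : Subgroup H).subtype
  have hFSsplit := hsplit FS Q le_rfl Subgroup.le_normalizer hQ (hN Q)
  rw [← hL] at hFSsplit
  have hLle : L ≤ FS := hL ▸ CfsgLib.Solvable.commutator_le_of_le_normalizer (hN Q)
  have hLn : FS ≤ Subgroup.normalizer (L : Set H) := hL ▸ CfsgLib.Solvable.le_normalizer_commutator_left FS Q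
  have hQL : Q ≤ Subgroup.normalizer (L : Set H) :=
    hL ▸ CfsgLib.Solvable.le_normalizer_commutator_right (hN Q)
  have hLL : ⁅L, Q⁆ = L := hFSsplit.2
  have hFL : F ≤ Subgroup.centralizer (L : Set H) := by
    rw [Subgroup.le_centralizer_iff, ← Subgroup.commutator_eq_bot_iff_le_centralizer, hL]
    refine Subgroup.commutator_commutator_eq_bot_of_rotate ?_ ?_
    · rw [Subgroup.commutator_eq_bot_iff_le_centralizer.2 hFQ, Subgroup.commutator_bot_left]
    · refine le_bot_iff.1 ((Subgroup.commutator_mono (?_ : ⁅F, FS⁆ ≤ F) le_rfl).trans ?_)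
      · rw [Subgroup.commutator_comm]
        refine Subgroup.commutator_le.2 fun a ha b hb => ?_
        rw [commutatorElement_def]
        exact mul_mem ((Subgroup.mem_normalizer_iff.1 (hFn ha) b).1 hb) (inv_mem hb)
      · rw [Subgroup.commutator_comm, Subgroup.commutator_eq_bot_iff_le_centralizer.2 hFQ]
  have hmemLQ : ∀ c, c ∈ Subgroup.centralizer (L : Set H) → c ∈ Subgroup.centralizer (Q : Set H) →
      c ∈ Subgroup.centralizer ((L ⊔ Q : Subgroup H) : Set H) := fun c hc hc' =>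
    (Subgroup.le_centralizer_iff.1 (sup_le
      (Subgroup.le_centralizer_iff.1 (Subgroup.zpowers_le.2 hc))
      (Subgroup.le_centralizer_iff.1 (Subgroup.zpowers_le.2 hc')))) (Subgroup.mem_zpowers c)
  have hFC : F = FS ⊓ Subgroup.centralizer ((L ⊔ Q : Subgroup H) : Set H) := by
    refine le_antisymm (le_inf hFle fun f hf => hmemLQ f (hFL hf) (Subgroup.le_centralizer_iff.1 hFQ hf)) ?_
    refine hFmax _ inf_le_left ?_ ?_
    · refine hFSsplit.1.ge.trans (sup_le ?_ ?_)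
      · intro l hl
        refine Subgroup.mem_normalizer_iff.2 fun c => ?_
        constructor
        · intro hc
          have h : l * c = c * l :=
            Subgroup.mem_centralizer_iff.1 hc.2 l (Subgroup.mem_sup_left hl)
          rwa [h, mul_inv_cancel_right]
        · intro hc
          have h : l⁻¹ * (l * c * l⁻¹) = (l * c * l⁻¹) * l⁻¹ :=
            Subgroup.mem_centralizer_iff.1 hc.2 l⁻¹ (Subgroup.mem_sup_left (inv_mem hl))
          have h2 : c = l * c * l⁻¹ := by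
            calc c = l⁻¹ * (l * c * l⁻¹) * l := by group
              _ = l * c * l⁻¹ := by rw [h, inv_mul_cancel_right]
          rwa [← h2] at hc
      · intro d hd
        refine Subgroup.mem_normalizer_iff.2 fun c => and_congr
          (Subgroup.mem_normalizer_iff.1 (Subgroup.le_normalizer hd.1) c) ?_
        have hd' : d ∈ Subgroup.normalizer ((L ⊔ Q : Subgroup H) : Set H) := by
          refine CfsgLib.LocalEven.mem_normalizer_of_conj_le ?_
          rw [Subgroup.map_sup]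
          refine sup_le_sup (Subgroup.mem_normalizer_iff_map_conj_eq.1 (hLn hd.1)).le ?_
          rintro _ ⟨q, hq, rfl⟩
          show d * q * d⁻¹ ∈ Q
          rw [← Subgroup.mem_centralizer_iff.1 hd.2 q hq, mul_inv_cancel_right]
          exact hq
        exact Subgroup.mem_normalizer_iff.1
          ((CfsgLib.Solvable.normalizer_le_normalizer_centralizer _) hd') c
    · rw [Subgroup.le_centralizer_iff]
      exact inf_le_right.trans (Subgroup.centralizer_le (SetLike.coe_subset_coe.2 le_sup_right))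
  obtain ⟨hLtop, hLcop⟩ := CfsgLib.LocalEven.FStar.top_and_coprime_of_le hO hLle hLn
  have hLF : L ⊓ F ≤ ⁅L, L⁆ := by
    obtain ⟨n, hn⟩ := IsPGroup.iff_card.1 hQ
    exact (inf_le_inf_left L (Subgroup.le_centralizer_iff.1 hFQ)).trans
      (CfsgLib.LocalEven.FStar.inf_centralizer_le_commutator hQL hLL hLtop (hn ▸ hLcop.symm.pow_left n))
  refine ⟨hFC, hLL, ?_, fun B hB hBQ hLB => ?_, ?_⟩
  · intro z hz
    refine ⟨⟨z, hz.1⟩, ?_, rfl⟩
    rw [SetLike.mem_coe, frattini, Order.radical]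
    refine Subgroup.mem_iInf.2 fun M => Subgroup.mem_iInf.2 fun hM => ?_
    by_contra hzM
    have hzc : (⟨z, hz.1⟩ : ↥L) ∈ Subgroup.center ↥L :=
      Subgroup.mem_center_iff.2 fun l => Subtype.ext (Subgroup.mem_centralizer_iff.1 (hFL hz.2) l l.2)
    set Z := Subgroup.zpowers (⟨z, hz.1⟩ : ↥L) with hZ
    have hsup : Z ⊔ M = ⊤ :=
      hM.2 _ (lt_of_le_of_ne le_sup_right fun h => hzM (h ▸ Subgroup.mem_sup_left (Subgroup.mem_zpowers _)))
    have hZc : Z ≤ Subgroup.center ↥L := Subgroup.zpowers_le.2 hzc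
    have hMn : M.Normal := Subgroup.normalizer_eq_top_iff.1 (eq_top_iff.2 (hsup ▸ sup_le
      ((hZc.trans (Subgroup.center_le_centralizer _)).trans (Subgroup.centralizer_le_normalizer _))
      Subgroup.le_normalizer))
    have hcomm : ⁅(⊤ : Subgroup ↥L), (⊤ : Subgroup ↥L)⁆ ≤ M := by
      rw [← hsup]
      refine Subgroup.commutator_le.2 fun a ha b hb => ?_
      rw [← SetLike.mem_coe, Subgroup.coe_mul_of_left_le_normalizer_right _ _
        ((hZc.trans (Subgroup.center_le_centralizer _)).trans (Subgroup.centralizer_le_normalizer _))] at ha hb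
      obtain ⟨z₁, hz₁, m₁, hm₁, rfl⟩ := ha
      obtain ⟨z₂, hz₂, m₂, hm₂, rfl⟩ := hb
      have h : ⁅z₁ * m₁, z₂ * m₂⁆ = ⁅m₁, m₂⁆ := by
        have h1 := Subgroup.mem_center_iff.1 (hZc hz₁)
        have h2 := Subgroup.mem_center_iff.1 (hZc hz₂)
        calc ⁅z₁ * m₁, z₂ * m₂⁆ = (z₁ * m₁ * z₂) * m₂ * (m₁⁻¹ * z₁⁻¹) * (m₂⁻¹ * z₂⁻¹) := by
              rw [commutatorElement_def]; group
          _ = (m₁ * z₁ * z₂) * m₂ * (m₁⁻¹ * z₁⁻¹) * (m₂⁻¹ * z₂⁻¹) := by rw [h1 m₁]
          _ = m₁ * (z₁ * z₂ * m₂) * (m₁⁻¹ * z₁⁻¹) * (m₂⁻¹ * z₂⁻¹) := by group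
          _ = m₁ * (m₂ * (z₁ * z₂)) * (m₁⁻¹ * z₁⁻¹) * (m₂⁻¹ * z₂⁻¹) := by
              rw [← Subgroup.mem_center_iff.1 (mul_mem (hZc hz₁) (hZc hz₂)) m₂]
          _ = m₁ * m₂ * ((z₁ * z₂) * m₁⁻¹) * z₁⁻¹ * (m₂⁻¹ * z₂⁻¹) := by group
          _ = m₁ * m₂ * (m₁⁻¹ * (z₁ * z₂)) * z₁⁻¹ * (m₂⁻¹ * z₂⁻¹) := by
              rw [← Subgroup.mem_center_iff.1 (mul_mem (hZc hz₁) (hZc hz₂)) m₁⁻¹]
          _ = m₁ * m₂ * m₁⁻¹ * ((z₁ * z₂ * z₁⁻¹) * m₂⁻¹) * z₂⁻¹ := by group
          _ = m₁ * m₂ * m₁⁻¹ * (m₂⁻¹ * (z₁ * z₂ * z₁⁻¹)) * z₂⁻¹ := by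
              rw [← Subgroup.mem_center_iff.1
                (mul_mem (mul_mem (hZc hz₁) (hZc hz₂)) (inv_mem (hZc hz₁))) m₂⁻¹]
          _ = m₁ * m₂ * m₁⁻¹ * m₂⁻¹ * (z₁ * z₂ * (z₁⁻¹ * z₂⁻¹)) := by group
          _ = ⁅m₁, m₂⁆ := by rw [h2 z₁, commutatorElement_def]; group
      rw [h, commutatorElement_def]
      exact mul_mem (mul_mem (mul_mem hm₁ hm₂) (inv_mem hm₁)) (inv_mem hm₂)
    obtain ⟨w, hw, hwz⟩ : z ∈ (⁅(⊤ : Subgroup ↥L), (⊤ : Subgroup ↥L)⁆).map L.subtype := by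
      rw [Subgroup.map_commutator, ← MonoidHom.range_eq_map, L.range_subtype]
      exact hLF hz
    exact hzM (by rw [show (⟨z, hz.1⟩ : ↥L) = w from Subtype.ext hwz.symm]; exact hcomm hw)
  · have hBL : B ≤ Subgroup.normalizer (L : Set H) := fun b hb => by
      refine Subgroup.mem_normalizer_iff_map_conj_eq.2 ?_
      rw [hL, Subgroup.map_commutator, Subgroup.mem_normalizer_iff_map_conj_eq.1 (hN B hb),
        Subgroup.mem_normalizer_iff_map_conj_eq.1 (hBQ hb)]
    have hle : ⁅L, B⁆ ≤ L ⊓ F := le_inf (CfsgLib.Solvable.commutator_le_of_le_normalizer hBL) hLB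
    have hcen : ⁅⁅L, B⁆, L⁆ = ⊥ := Subgroup.commutator_eq_bot_iff_le_centralizer.2
      ((hle.trans inf_le_right).trans hFL)
    have hDB : ⁅⁅L, L⁆, B⁆ = ⊥ :=
      Subgroup.commutator_commutator_eq_bot_of_rotate hcen (by rw [Subgroup.commutator_comm B L]; exact hcen)
    rw [← (hsplit L B hLle hLn hB hBL).2, ← le_bot_iff, ← hDB]
    exact Subgroup.commutator_mono (hle.trans hLF) le_rfl
  · set C := Subgroup.centralizer ((F ⊔ L : Subgroup H) : Set H) with hC
    rw [CfsgLib.Cores.coprime_iff_not_dvd Fact.out]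
    intro hd
    obtain ⟨P₀⟩ : Nonempty (Sylow p ↥C) := inferInstance
    set P := (P₀ : Subgroup ↥C).map C.subtype with hP
    have hPp : IsPGroup p ↥P := P₀.2.map _
    have hPC : P ≤ C := Subgroup.map_subtype_le _
    have hPL : P ≤ Subgroup.centralizer (L : Set H) := hPC.trans (Subgroup.centralizer_le (SetLike.coe_subset_coe.2 le_sup_right))
    have hPF : P ≤ Subgroup.centralizer (F : Set H) := hPC.trans (Subgroup.centralizer_le (SetLike.coe_subset_coe.2 le_sup_left))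
    set D := FS ⊓ Subgroup.centralizer (L : Set H) with hD
    have hDn : ∀ Z : Subgroup H, Z ≤ Subgroup.normalizer (L : Set H) →
        Z ≤ Subgroup.normalizer (D : Set H) := fun Z hZ z hz =>
      Subgroup.mem_normalizer_iff.2 fun x => and_congr
        (Subgroup.mem_normalizer_iff.1 (hN Z hz) x)
        (Subgroup.mem_normalizer_iff.1 ((CfsgLib.Solvable.normalizer_le_normalizer_centralizer _) (hZ hz)) x)
    have h1 : ⁅FS, P⁆ ≤ D := by
      refine le_inf (CfsgLib.Solvable.commutator_le_of_le_normalizer (hN P)) (Subgroup.commutator_le.2 ?_)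
      intro f hf u hu
      have huc : u⁻¹ ∈ Subgroup.centralizer (L : Set H) := inv_mem (hPL hu)
      rw [commutatorElement_def]
      exact mul_mem ((Subgroup.mem_normalizer_iff.1
        ((CfsgLib.Solvable.normalizer_le_normalizer_centralizer _) (hLn hf)) u).1 (hPL hu)) huc
    have h2 : ⁅D, P⁆ = ⊥ := by
      rw [Subgroup.commutator_eq_bot_iff_le_centralizer]
      refine ((hsplit D Q inf_le_left (hDn FS hLn) hQ (hDn Q hQL)).1).ge.trans (sup_le ?_ ?_)
      · exact (Subgroup.commutator_mono inf_le_left le_rfl).trans (hL ▸ Subgroup.le_centralizer_iff.1 hPL)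
      · refine le_trans ?_ (Subgroup.le_centralizer_iff.1 hPF)
        rw [hFC]
        exact fun d hd => ⟨hd.1.1, hmemLQ d hd.1.2 hd.2⟩
    have h3 : ⁅FS, P⁆ = ⊥ := by
      rw [← (hsplit FS P le_rfl Subgroup.le_normalizer hPp (hN P)).2, ← le_bot_iff, ← h2]
      exact Subgroup.commutator_mono h1 le_rfl
    rw [Subgroup.commutator_comm, Subgroup.commutator_eq_bot_iff_le_centralizer] at h3
    have hbot := CfsgLib.LocalEven.FStar.eq_bot_of_centralizer hO hPp h3
    rw [hP, Subgroup.map_eq_bot_iff_of_injective _ C.subtype_injective] at hbot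
    exact P₀.ne_bot_of_dvd_card hd hbot

end Cfsg.Agent.S2817
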