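import Cfsg.Statements.S2818
import Cfsg.Agent.Lib.LocalEven.Kieler
import Cfsg.Agent.Lib.Transfer.Critical
open scoped commutatorElement

set_option autoImplicit false
open Cfsg

namespace Cfsg.Agent.S2818

/-- Let P be a finite p-subgroup of a group G and H a subgroup of N_G(P) with [P, H] ≤ Ω₁(Z(P)) (the elements of order dividing p in the centre of P). Then H centralizes the Frattini subgroup of P. -/
theorem result {G : Type*} [Group G] [Finite G] {p : ℕ} [Fact p.Prime] (P : Subgroup G) (hP : IsPGroup p ↥P) (H : Subgroup G) (hH : H ≤ Subgroup.normalizer (P : Set G)) (h : ⁅P, H⁆ ≤ Cfsg.omegaOne p (P ⊓ Subgroup.centralizer (P : Set G))) : ⁅(frattini ↥P).map P.subtype, H⁆ = ⊥ := by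
  rw [Subgroup.commutator_eq_bot_iff_le_centralizer]
  rintro _ ⟨φ, hφ, rfl⟩
  rw [Subgroup.mem_centralizer_iff]
  intro g hg
  have hd : ∀ x ∈ P, ∃ z : G, g * x * g⁻¹ = x * z ∧ z ^ p = 1 ∧ z ∈ P ∧ ∀ y ∈ P, y * z = z * y := by
    intro x hx
    obtain ⟨h1, h2, h3⟩ := CfsgLib.LocalEven.Oz.mem_iff.1 (h (Subgroup.commutator_mem_commutator (inv_mem hx) hg))
    exact ⟨⁅x⁻¹, g⁆, by rw [commutatorElement_def]; group, h3, h1, h2⟩
  set N := (P ⊓ Subgroup.centralizer ({g} : Set G)).subgroupOf P with hN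
  have hle : frattini ↥P ≤ N := by
    refine CfsgLib.Transfer.frattini_le_of_commutator_pow (p := p) N (fun a b => ?_) (fun a => ?_)
    · refine Subgroup.mem_subgroupOf.2 ⟨(⁅a, b⁆ : P).2, Subgroup.mem_centralizer_iff.2 ?_⟩
      rintro _ rfl
      obtain ⟨z, hz, -, -, hz2⟩ := hd a a.2
      obtain ⟨w, hw, -, hw1, hw2⟩ := hd b b.2
      rw [← mul_inv_eq_iff_eq_mul]
      have e1 : ((⁅a, b⁆ : P) : G) = ⁅(a : G), (b : G)⁆ := by simp [commutatorElement_def]
      rw [e1, ← MulAut.conj_apply, map_commutatorElement, MulAut.conj_apply, MulAut.conj_apply, hz, hw]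
      have za : ∀ y ∈ P, Commute y z := hz2
      have wa : ∀ y ∈ P, Commute y w := hw2
      rw [commutatorElement_def, commutatorElement_def]
      calc (a : G) * z * (b * w) * ((a : G) * z)⁻¹ * ((b : G) * w)⁻¹
          = (a : G) * (z * (b * w)) * z⁻¹ * (a : G)⁻¹ * ((b : G) * w)⁻¹ := by group
        _ = (a : G) * ((b * w) * z) * z⁻¹ * (a : G)⁻¹ * ((b : G) * w)⁻¹ := by rw [← (za _ (mul_mem b.2 hw1)).eq]
        _ = (a : G) * b * (w * (a : G)⁻¹) * w⁻¹ * (b : G)⁻¹ := by group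
        _ = (a : G) * b * ((a : G)⁻¹ * w) * w⁻¹ * (b : G)⁻¹ := by rw [(wa _ (inv_mem a.2)).eq]
        _ = (a : G) * b * (a : G)⁻¹ * (b : G)⁻¹ := by group
    · refine Subgroup.mem_subgroupOf.2 ⟨(a ^ p : P).2, Subgroup.mem_centralizer_iff.2 ?_⟩
      rintro _ rfl
      obtain ⟨z, hz, hz1, -, hz2⟩ := hd a a.2
      rw [← mul_inv_eq_iff_eq_mul, SubgroupClass.coe_pow, ← conj_pow, hz, Commute.mul_pow (hz2 _ a.2), hz1, mul_one]
  exact Subgroup.mem_centralizer_iff.1 (Subgroup.mem_subgroupOf.1 (hle hφ)).2 g rfl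

end Cfsg.Agent.S2818
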