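import Cfsg.Statements.S2819
import Cfsg.Agent.Lib.LocalEven.Kieler
import Cfsg.Agent.Lib.Transfer.Critical
import Cfsg.Agent.Lib.Solvable.CoprimeAction
open scoped commutatorElement

set_option autoImplicit false
open Cfsg

namespace Cfsg.Agent.S2819

/-- Let P be a finite p-subgroup of a group G, H a subgroup of N_G(P), and Y a subgroup of H centralizing the derived subgroup P' such that [P, Y] is elementary abelian. Then O^p(⟨Y^H⟩), the subgroup of the normal closure of Y in H generated by its elements of order prime to p, centralizes the Frattini subgroup of P. -/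
theorem result {G : Type*} [Group G] [Finite G] {p : ℕ} [Fact p.Prime] (P : Subgroup G) (hP : IsPGroup p ↥P) (H : Subgroup G) (hH : H ≤ Subgroup.normalizer (P : Set G)) (Y : Subgroup G) (hYH : Y ≤ H) (hYc : Y ≤ Subgroup.centralizer ((⁅P, P⁆ : Subgroup G) : Set G)) (hel : Cfsg.IsElementaryAbelian p ⁅P, Y⁆) (NY : Subgroup G) (hNY : NY = (Subgroup.normalClosure ((Y.subgroupOf H : Subgroup ↥H) : Set ↥H)).map H.subtype) : (Cfsg.pResidual p ↥NY).map NY.subtype ≤ Subgroup.centralizer (((frattini ↥P).map P.subtype : Subgroup G) : Set G) := by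
  subst hNY
  set Q := ⁅P, P⁆ with hQ
  have hQP : Q ≤ P := Subgroup.commutator_le_self P
  have hHQ : H ≤ Subgroup.normalizer (Q : Set G) := fun k hk => by
    rw [Subgroup.mem_normalizer_iff_map_conj_eq, hQ, Subgroup.map_commutator,
      Subgroup.mem_normalizer_iff_map_conj_eq.1 (hH hk)]
  have hqc : ∀ {k d : G}, k ∈ H → d ∈ Q → k * d * k⁻¹ ∈ Q := fun hk hd =>
    (Subgroup.mem_normalizer_iff.1 (hHQ hk) _).1 hd
  -- elements of `H` trivial on `P^p` modulo `P'`
  let K : Subgroup ↥H :=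
    { carrier := {m | ∀ x ∈ P, (x ^ p)⁻¹ * ((m : G) * x ^ p * (m : G)⁻¹) ∈ Q}
      one_mem' := fun x hx => by simp
      mul_mem' := fun {m n} hm hn x hx => by
        have h1 := mul_mem (hm x hx) (hqc m.2 (hn x hx))
        have e : (x ^ p)⁻¹ * (((m * n : H) : G) * x ^ p * ((m * n : H) : G)⁻¹) =
            (x ^ p)⁻¹ * ((m : G) * x ^ p * (m : G)⁻¹) * ((m : G) * ((x ^ p)⁻¹ * ((n : G) * x ^ p * (n : G)⁻¹)) * (m : G)⁻¹) := by
          simp only [Subgroup.coe_mul]; group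
        rw [e]
        exact h1
      inv_mem' := fun {m} hm x hx => by
        have h1 := inv_mem (hqc (inv_mem m.2) (hm x hx))
        have e : (x ^ p)⁻¹ * (((m⁻¹ : H) : G) * x ^ p * ((m⁻¹ : H) : G)⁻¹) =
            ((m : G)⁻¹ * ((x ^ p)⁻¹ * ((m : G) * x ^ p * (m : G)⁻¹)) * ((m : G)⁻¹)⁻¹)⁻¹ := by
          simp only [Subgroup.coe_inv]; group
        rw [e]
        exact h1 }
  haveI : K.Normal := ⟨fun m hm k x hx => by
    have hy : (k : G)⁻¹ * x * k ∈ P := (Subgroup.mem_normalizer_iff''.1 (hH k.2) x).1 hx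
    have h1 := hqc k.2 (hm _ hy)
    have e : (x ^ p)⁻¹ * (((k * m * k⁻¹ : H) : G) * x ^ p * ((k * m * k⁻¹ : H) : G)⁻¹) =
        (k : G) * ((((k : G)⁻¹ * x * k) ^ p)⁻¹ * ((m : G) * ((k : G)⁻¹ * x * k) ^ p * (m : G)⁻¹)) * (k : G)⁻¹ := by
      have hp' : ((k : G)⁻¹ * x * k) ^ p = (k : G)⁻¹ * x ^ p * k := by
        simpa using (conj_pow (a := (k : G)⁻¹) (b := x) (i := p))
      simp only [Subgroup.coe_mul, Subgroup.coe_inv, hp']; group
    rw [e]
    exact h1⟩
  have hYK : Y.subgroupOf H ≤ K := by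
    intro y hy x hx
    set d := ⁅x⁻¹, (y : G)⁆ with hd
    have hdP : d ∈ ⁅P, Y⁆ := Subgroup.commutator_mem_commutator (inv_mem hx) hy
    have hdP' : d ∈ P := CfsgLib.Solvable.commutator_le_of_le_normalizer (hYH.trans hH) hdP
    have e : (y : G) * x * (y : G)⁻¹ = x * d := by rw [hd, commutatorElement_def]; group
    rw [← conj_pow, e]
    have h2 : (⟨x, hx⟩ ^ p)⁻¹ * ((⟨x, hx⟩ : P) * ⟨d, hdP'⟩) ^ p ∈ commutator ↥P := by
      rw [← Abelianization.ker_of, MonoidHom.mem_ker, map_mul, map_inv, map_pow, map_pow, map_mul, mul_pow,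
        inv_mul_cancel_left, ← map_pow, show (⟨d, hdP'⟩ : P) ^ p = 1 from Subtype.ext (by simpa using hel.2 d hdP),
        map_one]
    have h3 : ((((⟨x, hx⟩ : P) ^ p)⁻¹ * ((⟨x, hx⟩ : P) * ⟨d, hdP'⟩) ^ p : P) : G) ∈ Q := by
      rw [hQ, ← Subgroup.map_subtype_commutator]
      exact ⟨_, h2, rfl⟩
    simpa using h3
  haveI hnc : ((Subgroup.centralizer (Q : Set G)).subgroupOf H).Normal :=
    ⟨fun m hm k => (Subgroup.mem_normalizer_iff.1 (CfsgLib.LocalEven.Oz.mem_normalizer_centralizer (hHQ k.2)) _).1 hm⟩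
  have hNYK : Subgroup.normalClosure ((Y.subgroupOf H : Subgroup ↥H) : Set ↥H) ≤ K := Subgroup.normalClosure_le_normal hYK
  have hNYC : Subgroup.normalClosure ((Y.subgroupOf H : Subgroup ↥H) : Set ↥H) ≤ (Subgroup.centralizer (Q : Set G)).subgroupOf H :=
    Subgroup.normalClosure_le_normal fun y hy => hYc hy
  rw [Cfsg.pResidual, MonoidHom.map_closure, Subgroup.closure_le]
  rintro _ ⟨⟨n, hn⟩, hno, rfl⟩
  have hno' : (orderOf n).Coprime p := by
    rw [Set.mem_ofPred_eq, Subgroup.orderOf_mk] at hno; exact hno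
  obtain ⟨m, hm, rfl⟩ := hn
  have hmC := Subgroup.mem_centralizer_iff.1 (Subgroup.mem_subgroupOf.1 (hNYC hm))
  show (m : G) ∈ Subgroup.centralizer _
  rw [Subgroup.mem_centralizer_iff]
  rintro _ ⟨φ, hφ, rfl⟩
  set N := (P ⊓ Subgroup.centralizer ({(m : G)} : Set G)).subgroupOf P with hN
  have hle : frattini ↥P ≤ N := by
    refine CfsgLib.Transfer.frattini_le_of_commutator_pow (p := p) N (fun a b => ?_) (fun a => ?_)
    · refine Subgroup.mem_subgroupOf.2 ⟨(⁅a, b⁆ : P).2, Subgroup.mem_centralizer_iff.2 ?_⟩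
      rintro _ rfl
      have hab : ((⁅a, b⁆ : P) : G) ∈ Q := by
        have e : ((⁅a, b⁆ : P) : G) = ⁅(a : G), (b : G)⁆ := by simp [commutatorElement_def]
        rw [e]; exact Subgroup.commutator_mem_commutator a.2 b.2
      exact (hmC _ hab).symm
    · refine Subgroup.mem_subgroupOf.2 ⟨(a ^ p : P).2, Subgroup.mem_centralizer_iff.2 ?_⟩
      rintro _ rfl
      have hdQ := hNYK hm a a.2
      rw [SubgroupClass.coe_pow]
      exact CfsgLib.LocalEven.commute_of_conj_eq_mul hP (hQP hdQ) hno' (by group) (hmC _ hdQ).symm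
  exact (Subgroup.mem_centralizer_iff.1 (Subgroup.mem_subgroupOf.1 (hle hφ)).2 _ rfl).symm

end Cfsg.Agent.S2819
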