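import Cfsg.Statements.S2820
import Cfsg.Agent.Lib.LocalEven.ChainStab
import Cfsg.Agent.Lib.LocalEven.Basic
import Cfsg.Agent.Lib.Cores.Coprime
import Cfsg.Agent.Lib.Transfer.Basic

set_option autoImplicit false
open Cfsg

namespace Cfsg.Agent.S2820

/-- Let A and B be subnormal subgroups of the finite group H with A a p-group and B = O^p(B) (B generated by its elements of order prime to p). Then A normalizes B and B = O^p(AB), the subgroup of ⟨A, B⟩ generated by its elements of order prime to p. -/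
theorem result {H : Type*} [Group H] [Finite H] {p : ℕ} [Fact p.Prime] (A B : Subgroup H) (hA : A.IsSubnormal) (hB : B.IsSubnormal) (hAp : IsPGroup p ↥A) (hBres : (Cfsg.pResidual p ↥B).map B.subtype = B) : A ≤ Subgroup.normalizer (B : Set H) ∧ (Cfsg.pResidual p ↥(A ⊔ B)).map (A ⊔ B).subtype = B := by
  have hAO : A ≤ Cfsg.pCore p H := CfsgLib.Cores.le_pCore_of_isSubnormal hA hAp
  have hBn : B ≤ Subgroup.normalizer (Cfsg.pCore p H : Set H) := by
    rw [Subgroup.normalizer_eq_top]; exact le_top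
  have hconj : ∀ v ∈ Cfsg.pCore p H, ∀ x ∈ B, v * x * v⁻¹ ∈ B := by
    intro v hv x hx
    have hle : B ≤ B.comap (MulAut.conj v).toMonoidHom := by
      conv_lhs => rw [← hBres, Cfsg.pResidual, MonoidHom.map_closure]
      rw [Subgroup.closure_le]
      rintro _ ⟨y, hy, rfl⟩
      exact CfsgLib.LocalEven.Chain.conj_mem_of_pGroup hB (CfsgLib.Cores.isPGroup_pCore p) hBn hv y.2
        (by rw [Subgroup.coe_subtype, Subgroup.orderOf_coe]; exact hy)
    exact hle hx
  have hAB : A ≤ Subgroup.normalizer (B : Set H) := fun a ha =>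
    CfsgLib.LocalEven.mem_normalizer_of_conj_le (by
      rintro _ ⟨x, hx, rfl⟩
      exact hconj a (hAO ha) x hx)
  refine ⟨hAB, le_antisymm ?_ ?_⟩
  · haveI : (B.subgroupOf (A ⊔ B)).Normal :=
      Subgroup.normal_subgroupOf_of_le_normalizer (sup_le hAB Subgroup.le_normalizer)
    have hp' : IsPGroup p (↥(A ⊔ B) ⧸ B.subgroupOf (A ⊔ B)) := by
      intro y
      obtain ⟨x, rfl⟩ := QuotientGroup.mk'_surjective (B.subgroupOf (A ⊔ B)) y
      have hx : (x : H) ∈ ((A ⊔ B : Subgroup H) : Set H) := x.2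
      rw [Subgroup.coe_mul_of_left_le_normalizer_right A B hAB] at hx
      obtain ⟨a, ha, b, hb, hab⟩ := hx
      obtain ⟨k, hk⟩ := hAp ⟨a, ha⟩
      refine ⟨k, ?_⟩
      have he : x = (⟨a, Subgroup.mem_sup_left ha⟩ : ↥(A ⊔ B)) * ⟨b, Subgroup.mem_sup_right hb⟩ :=
        Subtype.ext hab.symm
      have hb' : QuotientGroup.mk' (B.subgroupOf (A ⊔ B)) (⟨b, Subgroup.mem_sup_right hb⟩ : ↥(A ⊔ B)) = 1 := by
        rw [QuotientGroup.mk'_apply, QuotientGroup.eq_one_iff]; exact hb
      rw [he, map_mul, hb', mul_one, ← map_pow, QuotientGroup.mk'_apply, QuotientGroup.eq_one_iff,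
        Subgroup.mem_subgroupOf, SubgroupClass.coe_pow]
      have hk' : a ^ p ^ k = 1 := congrArg Subtype.val hk
      rw [hk']
      exact one_mem B
    refine (Subgroup.map_mono (CfsgLib.Transfer.pResidual_le hp')).trans ?_
    rw [Subgroup.subgroupOf_map_subtype]
    exact inf_le_left
  · conv_lhs => rw [← hBres, Cfsg.pResidual, MonoidHom.map_closure]
    rw [Subgroup.closure_le]
    rintro _ ⟨y, hy, rfl⟩
    refine ⟨⟨y, Subgroup.mem_sup_right y.2⟩, CfsgLib.Transfer.mem_pResidual_of_coprime ?_, rfl⟩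
    rw [Subgroup.orderOf_mk, Subgroup.orderOf_coe]
    exact hy

end Cfsg.Agent.S2820
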