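import Cfsg.Statements.S2821
import Cfsg.Agent.Lib.LocalEven.PReduced
import Cfsg.Agent.Lib.LocalEven.Kieler

set_option autoImplicit false
open Cfsg

namespace Cfsg.Agent.S2821

/-- Let H be a finite group, p a prime, T a Sylow p-subgroup and L a subgroup of characteristic p containing T; let Y_L be the largest p-reduced normal subgroup of L (the join of the normal elementary abelian p-subgroups V of L with O_p(L/C_L(V)) = 1). Then T₀ := C_T(Y_L) is a Sylow p-subgroup of C_H(Y_L); moreover O_p(L) ≤ T₀ ≤ C_L(Y_L) and Ω₁(Z(T)) ≤ Z_L ≤ Y_L ≤ Ω₁(Z(O_p(L))), where Z_L is generated by the Ω₁(Z(S)) over the Sylow p-subgroups S of L. -/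
theorem result {H : Type*} [Group H] [Finite H] {p : ℕ} [Fact p.Prime] (T : Sylow p H) (L : Subgroup H) (hTL : (T : Subgroup H) ≤ L) (hL : Subgroup.centralizer (Cfsg.pCore p ↥L : Set ↥L) ≤ Cfsg.pCore p ↥L) (T₀ : Subgroup H) (hT₀ : T₀ = (T : Subgroup H) ⊓ Subgroup.centralizer (((Cfsg.largestPReducedOf p L) : Subgroup H) : Set H)) : (∃ P : Sylow p ↥(Subgroup.centralizer (((Cfsg.largestPReducedOf p L) : Subgroup H) : Set H)), (P : Subgroup ↥(Subgroup.centralizer (((Cfsg.largestPReducedOf p L) : Subgroup H) : Set H))) = T₀.subgroupOf (Subgroup.centralizer (((Cfsg.largestPReducedOf p L) : Subgroup H) : Set H))) ∧ (Cfsg.pCoreOf p L) ≤ T₀ ∧ T₀ ≤ L ⊓ Subgroup.centralizer (((Cfsg.largestPReducedOf p L) : Subgroup H) : Set H) ∧ (Cfsg.omegaOne p ((T : Subgroup H) ⊓ Subgroup.centralizer (((T : Subgroup H) : Subgroup H) : Set H))) ≤ Cfsg.sylowCenterClosure p L ∧ Cfsg.sylowCenterClosure p L ≤ (Cfsg.largestPReducedOf p L) ∧ (Cfsg.largestPReducedOf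 p L) ≤ (Cfsg.omegaOne p ((Cfsg.pCoreOf p L) ⊓ Subgroup.centralizer (((Cfsg.pCoreOf p L) : Subgroup H) : Set H))) := by
  set Y := Cfsg.largestPReducedOf p L with hY
  have hYL : Y ≤ L := CfsgLib.LocalEven.PRed.largestPReducedOf_le p L
  have hYred := CfsgLib.LocalEven.PRed.isPReducedNormal_largestPReducedOf p L
  obtain ⟨hLY, hYe, hYN⟩ := (CfsgLib.LocalEven.PRed.isPReducedNormal_subgroupOf_iff hYL).1 hYred
  set C := Subgroup.centralizer (Y : Set H) with hC
  set O := Cfsg.pCoreOf p L with hO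
  have hOT : O ≤ (T : Subgroup H) := by
    rintro _ ⟨x, hx, rfl⟩
    exact CfsgLib.Cores.pCore_le_sylow (T.subtype hTL) hx
  have hOC : O ≤ C := by
    rintro _ ⟨x, hx, rfl⟩
    have h := CfsgLib.LocalEven.PRed.pCore_le_centralizer hYred hx
    exact Subgroup.mem_centralizer_iff.2 fun y hy =>
      congrArg Subtype.val (Subgroup.mem_centralizer_iff.1 h ⟨y, hYL hy⟩ hy)
  refine ⟨?_, hT₀ ▸ le_inf hOT hOC, hT₀ ▸ inf_le_inf_right C hTL, ?_, ?_, ?_⟩
  · have hTC : (T : Subgroup H) ≤ Subgroup.normalizer (C : Set H) :=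
      fun t ht => CfsgLib.LocalEven.Oz.mem_normalizer_centralizer (hLY (hTL ht))
    haveI : ((C.subgroupOf ((T : Subgroup H) ⊔ C))).Normal :=
      Subgroup.normal_subgroupOf_of_le_normalizer (sup_le hTC Subgroup.le_normalizer)
    obtain ⟨P, hP⟩ := CfsgLib.LocalEven.exists_sylow_eq_inf_of_isSubnormal (T.subtype le_sup_left)
      (K := C.subgroupOf ((T : Subgroup H) ⊔ C)) (Subgroup.Normal.isSubnormal inferInstance)
    let e := Subgroup.subgroupOfEquivOfLe (le_sup_right : C ≤ (T : Subgroup H) ⊔ C)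
    have hT₀p : IsPGroup p (T₀.subgroupOf C) := by
      rw [hT₀]; exact (T.2.to_le inf_le_left).comap_subtype
    refine ⟨hT₀p.toSylow ?_, rfl⟩
    have hmap : T₀.subgroupOf C = (P : Subgroup ↥(C.subgroupOf ((T : Subgroup H) ⊔ C))).map e.toMonoidHom := by
      rw [hP, Subgroup.map_equiv_eq_comap_symm']
      ext x
      simp only [Subgroup.mem_subgroupOf, Subgroup.mem_comap, hT₀, Subgroup.mem_inf]
      exact ⟨fun h => h.1, fun h => ⟨h, x.2⟩⟩
    rw [hmap]
    show ¬ p ∣ (Subgroup.map (e : ↥(C.subgroupOf ((T : Subgroup H) ⊔ C)) →* ↥C) (P : Subgroup ↥(C.subgroupOf ((T : Subgroup H) ⊔ C)))).index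
    rw [Subgroup.index_map_equiv]
    exact P.not_dvd_index
  · refine le_trans ?_ (le_iSup _ (T.subtype hTL))
    rw [Sylow.coe_subtype, Subgroup.subgroupOf_map_subtype, inf_eq_left.2 hTL]
  · refine iSup_le fun S => ?_
    set S' := (S : Subgroup ↥L).map L.subtype with hS'
    have hS'L : S' ≤ L := Subgroup.map_subtype_le _
    set X := Cfsg.omegaOne p (S' ⊓ Subgroup.centralizer (S' : Set H)) with hX
    have hXL : X ≤ L := (CfsgLib.LocalEven.Oz.le_self S').trans hS'L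
    have hXS : X.subgroupOf L ≤ (S : Subgroup ↥L) := by
      intro x hx
      obtain ⟨y, hy, hyx⟩ := CfsgLib.LocalEven.Oz.le_self S' hx
      exact (Subtype.ext hyx : y = x) ▸ hy
    have hcomm : (S : Subgroup ↥L) ≤ Subgroup.centralizer (X.subgroupOf L : Set ↥L) := fun s hs =>
      Subgroup.mem_centralizer_iff.2 fun x hx => Subtype.ext
        (((CfsgLib.LocalEven.Oz.mem_iff.1 hx).2.1 s ⟨s, hs, rfl⟩).symm)
    have hred : Cfsg.IsPReducedNormal p ((X.subgroupOf L).subgroupOf (S : Subgroup ↥L)) :=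
      (CfsgLib.LocalEven.PRed.isPReducedNormal_subgroupOf_iff hXS).2
        ⟨(hcomm.trans (Subgroup.centralizer_le_normalizer _)),
         CfsgLib.PGroup.elemAb_subgroupOf (CfsgLib.LocalEven.Oz.elemAb S'), fun N hN _ _ => hN.trans hcomm⟩
    have h := CfsgLib.LocalEven.PRed.isPReducedNormal_normalClosure hL S (S : Subgroup ↥L) le_rfl _ hred
    rw [Subgroup.subgroupOf_map_subtype, inf_eq_left.2 hXS] at h
    intro x hx
    exact ⟨⟨x, hXL hx⟩,
      CfsgLib.LocalEven.PRed.le_largestPReduced h (Subgroup.subset_normalClosure hx), rfl⟩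
  · rintro _ ⟨y, hy, rfl⟩
    refine CfsgLib.LocalEven.Oz.mem_iff.2 ⟨⟨y, CfsgLib.LocalEven.PRed.le_pCore_of
      CfsgLib.LocalEven.PRed.isPReducedNormal_largestPReduced hy, rfl⟩, fun o ho => ?_, hYe.2 _ ⟨y, hy, rfl⟩⟩
    exact (Subgroup.mem_centralizer_iff.1 (hOC ho) _ ⟨y, hy, rfl⟩).symm

end Cfsg.Agent.S2821
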