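import Cfsg.Statements.S2822
import Cfsg.Agent.Lib.LocalEven.PReduced
import Cfsg.Agent.Lib.LocalEven.Kieler

set_option autoImplicit false
open Cfsg

namespace Cfsg.Agent.S2822

/-- Let H be a finite group, p a prime, T a Sylow p-subgroup, and L, M subgroups of characteristic p containing T, with largest p-reduced normal subgroups Y_L, Y_M. If L·C_H(Y_M) = M·C_H(Y_M), then Y_M ≤ Y_L. -/
theorem result {H : Type*} [Group H] [Finite H] {p : ℕ} [Fact p.Prime] (T : Sylow p H) (L M : Subgroup H) (hTL : (T : Subgroup H) ≤ L) (hTM : (T : Subgroup H) ≤ M) (hL : Subgroup.centralizer (Cfsg.pCore p ↥L : Set ↥L) ≤ Cfsg.pCore p ↥L) (hM : Subgroup.centralizer (Cfsg.pCore p ↥M : Set ↥M) ≤ Cfsg.pCore p ↥M) : L ⊔ Subgroup.centralizer (((Cfsg.largestPReducedOf p M) : Subgroup H) : Set H) = M ⊔ Subgroup.centralizer (((Cfsg.largestPReducedOf p M) : Subgroup H) : Set H) → (Cfsg.largestPReducedOf p M) ≤ (Cfsg.largestPReducedOf p L) := by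
  intro hLM
  set Y := Cfsg.largestPReducedOf p M with hY
  have hYM : Y ≤ M := CfsgLib.LocalEven.PRed.largestPReducedOf_le p M
  have hYred := CfsgLib.LocalEven.PRed.isPReducedNormal_largestPReducedOf p M
  obtain ⟨hMY, hYe, hYN⟩ := (CfsgLib.LocalEven.PRed.isPReducedNormal_subgroupOf_iff hYM).1 hYred
  set C := Subgroup.centralizer (Y : Set H) with hC
  have hMC : M ≤ Subgroup.normalizer (C : Set H) := fun m hm =>
    CfsgLib.LocalEven.Oz.mem_normalizer_centralizer (hMY hm)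
  have hsup : M ⊔ C ≤ Subgroup.normalizer (Y : Set H) :=
    sup_le hMY (Subgroup.centralizer_le_normalizer _)
  have hLMC : L ≤ M ⊔ C := hLM ▸ le_sup_left
  have hYT : Y ≤ (T : Subgroup H) := by
    rintro _ ⟨y, hy, rfl⟩
    exact CfsgLib.Cores.pCore_le_sylow (T.subtype hTM)
      (CfsgLib.LocalEven.PRed.le_pCore_of CfsgLib.LocalEven.PRed.isPReducedNormal_largestPReduced hy)
  refine CfsgLib.LocalEven.PRed.le_largestPReducedOf (hYT.trans hTL)
    ((CfsgLib.LocalEven.PRed.isPReducedNormal_subgroupOf_iff (hYT.trans hTL)).2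
      ⟨hLMC.trans hsup, hYe, fun N hNL hNn hpow => ?_⟩)
  have hNC : L ⊔ C ≤ Subgroup.normalizer (C : Set H) :=
    sup_le (fun l hl => CfsgLib.LocalEven.Oz.mem_normalizer_centralizer (hsup (hLMC hl))) Subgroup.le_normalizer
  set D := (N ⊔ C) ⊓ M with hD
  have hmem : ∀ x : H, x ∈ N ⊔ C ↔ ∃ n ∈ N, ∃ c ∈ C, n * c = x := by
    intro x
    constructor
    · intro hx
      have hx' : x ∈ ((N ⊔ C : Subgroup H) : Set H) := hx
      rw [Subgroup.coe_mul_of_left_le_normalizer_right N C ((hNL.trans le_sup_left).trans hNC)] at hx'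
      exact hx'
    · rintro ⟨n, hn, c, hc, rfl⟩
      exact Subgroup.mul_mem_sup hn hc
  have hDC : D ≤ C := by
    refine hYN D inf_le_right ?_ ?_
    · have h1 : M ≤ Subgroup.normalizer ((N ⊔ C : Subgroup H) : Set H) := by
        refine le_trans (le_trans le_sup_left hLM.ge : M ≤ L ⊔ C) (sup_le ?_ (le_sup_right.trans Subgroup.le_normalizer))
        intro l hl
        rw [Subgroup.mem_normalizer_iff_map_conj_eq, Subgroup.map_sup]
        congr 1
        · exact Subgroup.mem_normalizer_iff_map_conj_eq.1 (hNn hl)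
        · exact Subgroup.mem_normalizer_iff_map_conj_eq.1 (hNC (Subgroup.mem_sup_left hl))
      intro m hm
      exact Subgroup.mem_normalizer_iff.2 fun x => and_congr (Subgroup.mem_normalizer_iff.1 (h1 hm) x)
        (Subgroup.mem_normalizer_iff.1 (Subgroup.le_normalizer hm) x)
    · intro x hx
      obtain ⟨n, hn, c, hc, rfl⟩ := (hmem x).1 hx.1
      obtain ⟨k, hk⟩ := hpow n hn
      refine ⟨k, ?_⟩
      haveI : (C.subgroupOf (L ⊔ C)).Normal := Subgroup.normal_subgroupOf_of_le_normalizer hNC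
      have hn' : n ∈ L ⊔ C := Subgroup.mem_sup_left (hNL hn)
      have hc' : c ∈ L ⊔ C := Subgroup.mem_sup_right hc
      have h2 : ((⟨n, hn'⟩ * ⟨c, hc'⟩ : ↥(L ⊔ C)) ^ p ^ k) ∈ C.subgroupOf (L ⊔ C) := by
        rw [← QuotientGroup.eq_one_iff, QuotientGroup.mk_pow, QuotientGroup.mk_mul,
          (QuotientGroup.eq_one_iff (⟨c, hc'⟩ : ↥(L ⊔ C))).2 hc, mul_one, ← QuotientGroup.mk_pow,
          QuotientGroup.eq_one_iff]
        exact hk
      exact h2
  intro n hn
  have hnMC : n ∈ ((M ⊔ C : Subgroup H) : Set H) := hLMC (hNL hn)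
  rw [Subgroup.coe_mul_of_left_le_normalizer_right M C hMC] at hnMC
  obtain ⟨m, hm, c, hc, hmc⟩ := hnMC
  have hm' : m ∈ N ⊔ C := by
    have : m = n * c⁻¹ := eq_mul_inv_of_mul_eq hmc
    rw [this]
    exact Subgroup.mul_mem_sup hn (inv_mem hc)
  rw [← hmc]
  exact mul_mem (hDC ⟨hm', hm⟩) hc

end Cfsg.Agent.S2822
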