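import Cfsg.Statements.S2823
import Cfsg.Agent.Lib.LocalEven.PReduced
import Cfsg.Agent.Lib.LocalEven.Kieler
open scoped commutatorElement

set_option autoImplicit false
open Cfsg

namespace Cfsg.Agent.S2823

/-- Let H be a finite group, p a prime, T a Sylow p-subgroup and L a subgroup of characteristic p containing T; let Z_L be the subgroup generated by the Ω₁(Z(S)) over the Sylow p-subgroups S of L and O^p(L) the subgroup generated by the elements of L of order prime to p. Then Z_L = Ω₁(Z(L))·[Z_L, O^p(L)] and [Z_L, L] = [Z_L, O^p(L)]. -/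
theorem result {H : Type*} [Group H] [Finite H] {p : ℕ} [Fact p.Prime] (T : Sylow p H) (L : Subgroup H) (hTL : (T : Subgroup H) ≤ L) (hL : Subgroup.centralizer (Cfsg.pCore p ↥L : Set ↥L) ≤ Cfsg.pCore p ↥L) : Cfsg.sylowCenterClosure p L = (Cfsg.omegaOne p (L ⊓ Subgroup.centralizer ((L : Subgroup H) : Set H))) ⊔ ⁅Cfsg.sylowCenterClosure p L, (Cfsg.pResidual p ↥L).map L.subtype⁆ ∧ ⁅Cfsg.sylowCenterClosure p L, L⁆ = ⁅Cfsg.sylowCenterClosure p L, (Cfsg.pResidual p ↥L).map L.subtype⁆ := by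
  set ZL := Cfsg.sylowCenterClosure p L with hZL
  set R := (Cfsg.pResidual p ↥L).map L.subtype with hR
  set C := Cfsg.omegaOne p (L ⊓ Subgroup.centralizer ((L : Subgroup H) : Set H)) with hC
  set O := Cfsg.pCoreOf p L with hO
  have hchar := CfsgLib.LocalEven.inf_centralizer_pCoreOf_le hL
  have hOS : ∀ S : Sylow p L, O ≤ (S : Subgroup ↥L).map L.subtype := fun S =>
    Subgroup.map_mono (CfsgLib.Cores.pCore_le_sylow S)
  have hRL : R ≤ L := Subgroup.map_subtype_le _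
  have hZLL : ZL ≤ L := iSup_le fun S =>
    (CfsgLib.LocalEven.Oz.le_self _).trans (Subgroup.map_subtype_le _)
  -- `L` normalizes `Z_L`
  have hnZ : L ≤ Subgroup.normalizer (ZL : Set H) := by
    intro g hg
    refine CfsgLib.LocalEven.mem_normalizer_of_conj_le ?_
    rw [hZL, Cfsg.sylowCenterClosure, Subgroup.map_iSup]
    refine iSup_le fun S => le_trans ?_ (le_iSup _ ((⟨g, hg⟩ : L) • S))
    rintro _ ⟨x, hx, rfl⟩
    obtain ⟨h1, h2, h3⟩ := CfsgLib.LocalEven.Oz.mem_iff.1 hx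
    obtain ⟨y, hy, rfl⟩ := h1
    refine CfsgLib.LocalEven.Oz.mem_iff.2 ⟨⟨⟨g, hg⟩ * y * (⟨g, hg⟩ : L)⁻¹, ?_, rfl⟩, ?_, ?_⟩
    · rw [Sylow.smul_def, Sylow.pointwise_smul_def]
      exact Subgroup.smul_mem_pointwise_smul y (MulAut.conj (⟨g, hg⟩ : L)) _ hy
    · rintro _ ⟨s, hs, rfl⟩
      have hs' : (⟨g, hg⟩ : L)⁻¹ * s * ⟨g, hg⟩ ∈ (S : Subgroup ↥L) := by
        rw [Sylow.smul_def, Sylow.pointwise_smul_def] at hs
        simpa [MulAut.smul_def, mul_assoc] using Subgroup.mem_pointwise_smul_iff_inv_smul_mem.1 hs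
      have h4 := h2 _ ⟨_, hs', rfl⟩
      simp only [Subgroup.coe_subtype, Subgroup.coe_mul, Subgroup.coe_inv] at h4
      show (s : H) * (g * y * g⁻¹) = g * y * g⁻¹ * s
      calc (s : H) * (g * y * g⁻¹) = g * ((g⁻¹ * s * g) * y) * g⁻¹ := by group
        _ = g * (y * (g⁻¹ * s * g)) * g⁻¹ := by rw [h4]
        _ = g * y * g⁻¹ * s := by group
    · rw [← map_pow, h3, map_one]
  have hnR : L ≤ Subgroup.normalizer (R : Set H) := by
    haveI := CfsgLib.Transfer.pResidual_characteristic (p := p) (G := ↥L)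
    intro g hg
    refine Subgroup.le_normalizer_map (H := Cfsg.pResidual p ↥L) L.subtype ⟨⟨g, hg⟩, ?_, rfl⟩
    rw [Subgroup.normalizer_eq_top]
    exact Subgroup.mem_top _
  set D := ⁅ZL, R⁆ with hD
  have hnD : L ≤ Subgroup.normalizer (D : Set H) := by
    intro g hg
    rw [Subgroup.mem_normalizer_iff_map_conj_eq, hD, Subgroup.map_commutator]
    congr 1
    · exact Subgroup.mem_normalizer_iff_map_conj_eq.1 (hnZ hg)
    · exact Subgroup.mem_normalizer_iff_map_conj_eq.1 (hnR hg)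
  have hDZ : D ≤ ZL := by
    rw [hD, Subgroup.commutator_le]
    intro z hz r hr
    have h : r * z⁻¹ * r⁻¹ ∈ ZL := (Subgroup.mem_normalizer_iff.1 (hnZ (hRL hr)) _).1 (inv_mem hz)
    have e : ⁅z, r⁆ = z * (r * z⁻¹ * r⁻¹) := by rw [commutatorElement_def]; group
    rw [e]
    exact mul_mem hz h
  have hCZ : C ≤ ZL := by
    intro c hc
    obtain ⟨h1, h2, h3⟩ := CfsgLib.LocalEven.Oz.mem_iff.1 hc
    have hcO : c ∈ O := hchar ⟨h1, Subgroup.mem_centralizer_iff.2 fun o ho =>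
      h2 o (CfsgLib.LocalEven.pCoreOf_le p L ho)⟩
    let S := T.subtype hTL
    exact le_iSup (fun S : Sylow p L => Cfsg.omegaOne p (((S : Subgroup ↥L).map L.subtype) ⊓
        Subgroup.centralizer (((S : Subgroup ↥L).map L.subtype : Subgroup H) : Set H))) S
      (CfsgLib.LocalEven.Oz.mem_iff.2 ⟨hOS S hcO, fun s hs => h2 s (Subgroup.map_subtype_le _ hs), h3⟩)
  have hmain : ZL ≤ C ⊔ D := by
    refine iSup_le fun S z hz => ?_
    set S' := (S : Subgroup ↥L).map L.subtype with hS'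
    obtain ⟨h1, h2, h3⟩ := CfsgLib.LocalEven.Oz.mem_iff.1 hz
    set W := Cfsg.omegaOne p (O ⊓ Subgroup.centralizer (O : Set H)) with hW
    have hn : ¬ p ∣ S'.relIndex L := by
      rw [Subgroup.relIndex, hS', Subgroup.subgroupOf, Subgroup.comap_map_eq_self_of_injective L.subtype_injective]
      exact S.not_dvd_index
    obtain ⟨e, he1, -, -, he4, -⟩ := CfsgLib.LocalEven.Avg.exists_avg (Subgroup.map_subtype_le _) hn
      (fun a ha b hb => CfsgLib.PGroup.elemAb_comm (CfsgLib.LocalEven.Oz.elemAb O) ha hb)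
      (fun a ha => (CfsgLib.LocalEven.Oz.elemAb O).2 a ha)
      ((CfsgLib.LocalEven.le_normalizer_pCoreOf p L).trans (CfsgLib.LocalEven.Oz.normalizer_le O))
    have hzW : z ∈ W := CfsgLib.LocalEven.Oz.mem_iff.2 ⟨hchar ⟨Subgroup.map_subtype_le _ h1,
      Subgroup.mem_centralizer_iff.2 fun o ho => h2 o (hOS S ho)⟩, fun o ho => h2 o (hOS S ho), h3⟩
    obtain ⟨hcW, hc⟩ := he1 z hzW h2
    have hcC : e z ∈ C := CfsgLib.LocalEven.Oz.mem_iff.2 ⟨CfsgLib.LocalEven.pCoreOf_le p L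
      (CfsgLib.LocalEven.Oz.le_self O hcW), hc, (CfsgLib.LocalEven.Oz.elemAb O).2 _ hcW⟩
    have hd : (e z)⁻¹ * z ∈ D := by
      refine he4 z hzW D fun g hg => ?_
      have hmem : (⟨g, hg⟩ : L) ∈ Cfsg.pResidual p ↥L ⊔ (S : Subgroup ↥L) :=
        CfsgLib.Transfer.pResidual_sup_sylow S ▸ Subgroup.mem_top _
      haveI := CfsgLib.Transfer.pResidual_characteristic (p := p) (G := ↥L)
      rw [Subgroup.mem_sup_of_normal_left] at hmem
      obtain ⟨r, hr, s, hs, hrs⟩ := hmem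
      have hg' : g = (r : H) * s := (congrArg Subtype.val hrs).symm
      have hzR : ⁅z, (r : H)⁆ ∈ D :=
        Subgroup.commutator_mem_commutator (le_iSup (fun S : Sylow p L => Cfsg.omegaOne p (((S : Subgroup ↥L).map L.subtype) ⊓
          Subgroup.centralizer (((S : Subgroup ↥L).map L.subtype : Subgroup H) : Set H))) S hz) (show (r : H) ∈ R from ⟨r, hr, rfl⟩)
      have h5 : Commute (s : H) z⁻¹ := (show Commute (s : H) z from h2 _ ⟨s, hs, rfl⟩).inv_right
      have e5 : z * (g * z⁻¹ * g⁻¹) = ⁅z, (r : H)⁆ := by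
        rw [hg', commutatorElement_def]
        calc z * ((r : H) * s * z⁻¹ * ((r : H) * s)⁻¹) = z * r * ((s : H) * z⁻¹) * (s : H)⁻¹ * (r : H)⁻¹ := by group
          _ = z * r * (z⁻¹ * s) * (s : H)⁻¹ * (r : H)⁻¹ := by rw [h5.eq]
          _ = z * r * z⁻¹ * (r : H)⁻¹ := by group
      rw [e5]
      exact hzR
    have := Subgroup.mul_mem_sup hcC hd
    rwa [mul_inv_cancel_left] at this
  refine ⟨le_antisymm hmain (sup_le hCZ hDZ), le_antisymm ?_ (Subgroup.commutator_mono le_rfl hRL)⟩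
  rw [Subgroup.commutator_le]
  intro z hz g hg
  have hz' : z ∈ ((C ⊔ D : Subgroup H) : Set H) := hmain hz
  rw [Subgroup.coe_mul_of_left_le_normalizer_right C D
    (((CfsgLib.LocalEven.Oz.le_self L).trans hnD))] at hz'
  obtain ⟨c, hc, d, hd, rfl⟩ := hz'
  obtain ⟨h1, h2, -⟩ := CfsgLib.LocalEven.Oz.mem_iff.1 hc
  have h6 : g * d⁻¹ * g⁻¹ ∈ D := (Subgroup.mem_normalizer_iff.1 (hnD hg) _).1 (inv_mem hd)
  have h7 : c * (d * (g * d⁻¹ * g⁻¹)) * c⁻¹ ∈ D :=
    (Subgroup.mem_normalizer_iff.1 (hnD h1) _).1 (mul_mem hd h6)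
  have e6 : ⁅c * d, g⁆ = c * (d * (g * d⁻¹ * g⁻¹)) * c⁻¹ := by
    have h8 : Commute g c⁻¹ := (show Commute g c from h2 g hg).inv_right
    have h9 : Commute g⁻¹ c⁻¹ := h8.inv_left
    rw [commutatorElement_def]
    calc c * d * g * (c * d)⁻¹ * g⁻¹ = c * d * g * d⁻¹ * (c⁻¹ * g⁻¹) := by group
      _ = c * d * g * d⁻¹ * (g⁻¹ * c⁻¹) := by rw [h9.eq]
      _ = c * (d * (g * d⁻¹ * g⁻¹)) * c⁻¹ := by group
  rw [e6]
  exact h7

end Cfsg.Agent.S2823
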