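import Cfsg.Statements.S2824
import Cfsg.Agent.Lib.LocalEven.PReducedSubnormal
import Cfsg.Agent.Lib.LocalEven.CoreOf
import Cfsg.Agent.Lib.LocalEven.SubnormalSylow

set_option autoImplicit false
open Cfsg

namespace Cfsg.Agent.S2824

/-- Let H be a finite group, p a prime, T a Sylow p-subgroup, L and M subgroups of characteristic p containing T, Y_L the largest p-reduced normal subgroup of L and T₀ = C_T(Y_L). If M·C_H(Y_L) = L·C_H(Y_L), then L* := N_M(T₀) has Y_{L*} = Y_L and L·C_H(Y_L) = L*·C_H(Y_L). -/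
theorem result {H : Type*} [Group H] [Finite H] {p : ℕ} [Fact p.Prime] (T : Sylow p H) (L M : Subgroup H) (hTL : (T : Subgroup H) ≤ L) (hTM : (T : Subgroup H) ≤ M) (hL : Subgroup.centralizer (Cfsg.pCore p ↥L : Set ↥L) ≤ Cfsg.pCore p ↥L) (hM : Subgroup.centralizer (Cfsg.pCore p ↥M : Set ↥M) ≤ Cfsg.pCore p ↥M) (T₀ : Subgroup H) (hT₀ : T₀ = (T : Subgroup H) ⊓ Subgroup.centralizer (((Cfsg.largestPReducedOf p L) : Subgroup H) : Set H)) (hfac : M ⊔ Subgroup.centralizer (((Cfsg.largestPReducedOf p L) : Subgroup H) : Set H) = L ⊔ Subgroup.centralizer (((Cfsg.largestPReducedOf p L) : Subgroup H) : Set H)) (Ls : Subgroup H) (hLs : Ls = M ⊓ Subgroup.normalizer ((T₀ : Subgroup H) : Set H)) : (Cfsg.largestPReducedOf p Ls) = (Cfsg.largestPReducedOf p L) ∧ L ⊔ Subgroup.centralizer (((Cfsg.largestPReducedOf p L) : Subgroup H) : Set H) = Ls ⊔ Subgroup.centralizer (((Cfsg.largestPReducedOf p L) : Subgroup H) : Set H) := by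
  set Y := Cfsg.largestPReducedOf p L with hY
  set C := Subgroup.centralizer ((Y : Subgroup H) : Set H) with hC
  have hYL : Y ≤ L := CfsgLib.LocalEven.PRed.largestPReducedOf_le p L
  obtain ⟨hLY, hYe, hYred⟩ := (CfsgLib.LocalEven.PRed.isPReducedNormal_subgroupOf_iff hYL).1
    (CfsgLib.LocalEven.PRed.isPReducedNormal_largestPReducedOf p L)
  set N₀ := Subgroup.normalizer (Y : Set H) with hN₀
  have hKN : L ⊔ C ≤ N₀ := sup_le hLY fun c hc => CfsgLib.LocalEven.mem_normalizer_of_conj_le (by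
    rintro _ ⟨y, hy, rfl⟩
    show c * y * c⁻¹ ∈ Y
    rw [← Subgroup.mem_centralizer_iff.1 hc y hy, mul_inv_cancel_right]
    exact hy)
  have hMN : M ≤ N₀ := (le_sup_left.trans hfac.le).trans hKN
  have hN₀C : ∀ g ∈ N₀, ∀ c ∈ C, g * c * g⁻¹ ∈ C := by
    intro g hg c hc
    refine Subgroup.mem_centralizer_iff.2 fun y hy => ?_
    have h := Subgroup.mem_centralizer_iff.1 hc (g⁻¹ * y * g)
      (by simpa using (Subgroup.mem_normalizer_iff.1 (inv_mem hg) y).1 hy)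
    calc y * (g * c * g⁻¹) = g * ((g⁻¹ * y * g) * c) * g⁻¹ := by group
      _ = g * (c * (g⁻¹ * y * g)) * g⁻¹ := by rw [h]
      _ = g * c * g⁻¹ * y := by group
  have hCn : ∀ {A : Subgroup H}, A ≤ N₀ → A ≤ Subgroup.normalizer (C : Set H) := fun hA g hg =>
    CfsgLib.LocalEven.mem_normalizer_of_conj_le (by rintro _ ⟨c, hc, rfl⟩; exact hN₀C g (hA hg) c hc)
  have hTN : (T : Subgroup H) ≤ N₀ := hTL.trans hLY
  have hT₀T : T₀ ≤ (T : Subgroup H) := hT₀ ▸ inf_le_left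
  -- Frattini argument in `M`
  have : (C.subgroupOf M).Normal := Subgroup.normal_subgroupOf_of_le_normalizer (hCn hMN)
  obtain ⟨P, hP⟩ := CfsgLib.LocalEven.exists_sylow_eq_inf_of_isSubnormal (T.subtype hTM)
    (K := C.subgroupOf M) (Subgroup.Normal.isSubnormal inferInstance)
  have hPT : ((P : Subgroup ↥(C.subgroupOf M)).map (C.subgroupOf M).subtype).map M.subtype = T₀ := by
    rw [hP, Subgroup.subgroupOf_map_subtype, hT₀]
    ext x
    constructor
    · rintro ⟨y, ⟨hy1, hy2⟩, rfl⟩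
      exact Subgroup.mem_inf.2 ⟨hy1, hy2⟩
    · intro hx
      exact ⟨⟨x, hTM hx.1⟩, ⟨hx.1, hx.2⟩, rfl⟩
  have hMLs : M ≤ Ls ⊔ C := by
    intro m hm
    have hm' := (Sylow.normalizer_sup_eq_top P).ge (Subgroup.mem_top (⟨m, hm⟩ : M))
    rw [Subgroup.mem_sup_of_normal_right] at hm'
    obtain ⟨n, hn, c, hc, hnc⟩ := hm'
    have hnN : (n : H) ∈ Subgroup.normalizer (T₀ : Set H) := by
      rw [← hPT]
      exact Subgroup.le_normalizer_map M.subtype ⟨n, hn, rfl⟩
    rw [show m = (n : H) * c from (congrArg Subtype.val hnc).symm]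
    exact Subgroup.mul_mem_sup (hLs ▸ Subgroup.mem_inf.2 ⟨n.2, hnN⟩) hc
  have hLsM : Ls ≤ M := hLs ▸ inf_le_left
  have hsup : L ⊔ C = Ls ⊔ C := by
    rw [← hfac]
    exact le_antisymm (sup_le hMLs le_sup_right) (sup_le_sup_right hLsM C)
  have hTLs : (T : Subgroup H) ≤ Ls := by
    rw [hLs]
    refine le_inf hTM fun t ht => CfsgLib.LocalEven.mem_normalizer_of_conj_le ?_
    rintro _ ⟨x, hx, rfl⟩
    rw [SetLike.mem_coe, hT₀] at hx
    rw [hT₀]
    exact Subgroup.mem_inf.2 ⟨mul_mem (mul_mem ht hx.1) (inv_mem ht), hN₀C t (hTN ht) x hx.2⟩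
  have hYT : Y ≤ (T : Subgroup H) := by
    rintro _ ⟨y, hy, rfl⟩
    exact CfsgLib.Cores.pCore_le_sylow (T.subtype hTL)
      (CfsgLib.LocalEven.PRed.le_pCore_of CfsgLib.LocalEven.PRed.isPReducedNormal_largestPReduced hy)
  refine ⟨le_antisymm ?_ ?_, hsup⟩
  · -- `Y_{L*} ≤ Y_L`
    set Z := Cfsg.largestPReducedOf p Ls
    have hZred := CfsgLib.LocalEven.PRed.isPReducedNormal_largestPReducedOf p Ls
    have hT₀O : T₀ ≤ Cfsg.pCoreOf p Ls := CfsgLib.LocalEven.le_pCoreOf (hT₀T.trans hTLs)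
      (T.2.to_le hT₀T) (hLs ▸ inf_le_right)
    have hZc : Z ≤ Subgroup.centralizer (T₀ : Set H) := by
      rintro _ ⟨z, hz, rfl⟩
      refine Subgroup.mem_centralizer_iff.2 fun t ht => ?_
      obtain ⟨u, hu, rfl⟩ := hT₀O ht
      exact congrArg Subtype.val (Subgroup.mem_centralizer_iff.1
        (CfsgLib.LocalEven.PRed.le_center_pCore CfsgLib.LocalEven.PRed.isPReducedNormal_largestPReduced hz) u hu)
    have hZT : Z ≤ (T : Subgroup H) := by
      rintro _ ⟨z, hz, rfl⟩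
      exact CfsgLib.Cores.pCore_le_sylow (T.subtype hTLs)
        (CfsgLib.LocalEven.PRed.le_pCore_of CfsgLib.LocalEven.PRed.isPReducedNormal_largestPReduced hz)
    have hmain := CfsgLib.LocalEven.PRed.le_largestPReduced_of_centralized (p := p) hL (T.subtype hTL)
      (Z.subgroupOf L) (fun x hx => Subtype.ext (by
        have := CfsgLib.LocalEven.PRed.isPReducedNormal_subgroupOf_iff (CfsgLib.LocalEven.PRed.largestPReducedOf_le p Ls) |>.1 hZred
        simpa using this.2.1.2 (x : H) hx))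
      (fun x hx => Subgroup.mem_centralizer_iff.2 fun u hu => Subtype.ext (by
        have hu0 : (u : H) ∈ T₀ := by
          rw [hT₀]
          refine Subgroup.mem_inf.2 ⟨hu.1, Subgroup.mem_centralizer_iff.2 ?_⟩
          rintro _ ⟨y, hy, rfl⟩
          exact congrArg Subtype.val (Subgroup.mem_centralizer_iff.1 hu.2 y hy)
        exact Subgroup.mem_centralizer_iff.1 (hZc hx) u hu0))
    intro z hz
    exact ⟨⟨z, hTL (hZT hz)⟩, hmain hz, rfl⟩
  · -- `Y_L ≤ Y_{L*}`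
    refine CfsgLib.LocalEven.PRed.le_largestPReducedOf (hYT.trans hTLs)
      ((CfsgLib.LocalEven.PRed.isPReducedNormal_subgroupOf_iff (hYT.trans hTLs)).2
        ⟨hLsM.trans hMN, hYe, fun N hNLs hNn hpow => ?_⟩)
    set K := L ⊔ C with hK
    have hNK : N ≤ K := hNLs.trans (le_sup_left.trans hsup.ge)
    have : (C.subgroupOf K).Normal := Subgroup.normal_subgroupOf_of_le_normalizer (hCn hKN)
    set π := QuotientGroup.mk' (C.subgroupOf K)
    have hπC : ∀ u : K, π u = 1 ↔ (u : H) ∈ C := fun u => QuotientGroup.eq_one_iff u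
    set A := (N.subgroupOf K).map π with hA
    have hAp : ∀ a ∈ A, ∃ k : ℕ, a ^ p ^ k = 1 := by
      rintro _ ⟨u, hu, rfl⟩
      exact (hpow u hu).imp fun k hk => by rw [← map_pow, hπC, SubgroupClass.coe_pow]; exact hk
    have hAn : A.Normal := by
      refine ⟨fun a ha q => ?_⟩
      obtain ⟨u, hu, rfl⟩ := ha
      obtain ⟨v, rfl⟩ := QuotientGroup.mk'_surjective (C.subgroupOf K) q
      have hv : (v : H) ∈ (Ls ⊔ C : Subgroup H) := hsup.le v.2
      have hv' : (v : H) ∈ ((Ls ⊔ C : Subgroup H) : Set H) := hv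
      rw [Subgroup.coe_mul_of_left_le_normalizer_right Ls C (hCn (hLsM.trans hMN))] at hv'
      obtain ⟨s, hs, c, hc, hsc⟩ := hv'
      have hsK : s ∈ K := le_sup_left.trans hsup.ge hs
      have hcK : c ∈ K := Subgroup.mem_sup_right hc
      refine ⟨⟨s * u * s⁻¹, mul_mem (mul_mem hsK u.2) (inv_mem hsK)⟩,
        (Subgroup.mem_normalizer_iff.1 (hNn hs) u).1 hu, ?_⟩
      have e : π v = π ⟨s, hsK⟩ := by
        rw [show v = (⟨s, hsK⟩ : K) * ⟨c, hcK⟩ from Subtype.ext hsc.symm, map_mul, (hπC ⟨c, hcK⟩).2 hc, mul_one]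
      show π _ = π v * π u * (π v)⁻¹
      rw [e, ← map_mul, ← map_inv, ← map_mul]
      rfl
    set N' := ((A.comap π).map K.subtype) ⊓ L with hN'
    have hN'C : N' ≤ C := by
      refine hYred N' inf_le_right (fun g hg => CfsgLib.LocalEven.mem_normalizer_of_conj_le ?_) ?_
      · rintro _ ⟨x, ⟨⟨w, hw, rfl⟩, hxL⟩, rfl⟩
        refine Subgroup.mem_inf.2 ⟨⟨⟨g, Subgroup.mem_sup_left hg⟩ * w * ⟨g, Subgroup.mem_sup_left hg⟩⁻¹,
          (hAn.comap π).conj_mem w hw _, rfl⟩, mul_mem (mul_mem hg hxL) (inv_mem hg)⟩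
      · rintro x ⟨⟨w, hw, rfl⟩, -⟩
        exact (hAp _ hw).imp fun k hk => by
          rw [← map_pow, hπC] at hk
          simpa using hk
    intro x hx
    have hxK : x ∈ ((L ⊔ C : Subgroup H) : Set H) := hNK hx
    rw [Subgroup.coe_mul_of_left_le_normalizer_right L C (hCn hLY)] at hxK
    obtain ⟨l, hl, c, hc, rfl⟩ := hxK
    have hl' : l ∈ N' := by
      refine Subgroup.mem_inf.2 ⟨⟨⟨l, Subgroup.mem_sup_left hl⟩, ?_, rfl⟩, hl⟩
      refine ⟨⟨l * c, hNK hx⟩, hx, ?_⟩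
      show π ((⟨l, Subgroup.mem_sup_left hl⟩ : K) * ⟨c, Subgroup.mem_sup_right hc⟩) = π ⟨l, _⟩
      rw [map_mul, (hπC ⟨c, Subgroup.mem_sup_right hc⟩).2 hc, mul_one]
    exact mul_mem (hN'C hl') hc

end Cfsg.Agent.S2824
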