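import Cfsg.Statements.S2825
import Cfsg.Agent.Lib.LocalEven.PReducedSubnormal

set_option autoImplicit false
open Cfsg

namespace Cfsg.Agent.S2825

/-- Let L be a subnormal subgroup of the finite group H, p a prime, Y_H and Y_L the largest p-reduced normal subgroups. Then Y_H ∩ L = Y_H ∩ Y_L and this subgroup is a p-reduced normal subgroup of L; C_L(Y_L) = C_L(Y_H) = C_L(Y_H ∩ L); and if O^p(H) ≤ L, then [Y_L, L] = 1 if and only if [Y_H, H] = 1. -/
theorem result {H : Type*} [Group H] [Finite H] {p : ℕ} [Fact p.Prime] (L : Subgroup H) (hL : L.IsSubnormal) : Cfsg.largestPReduced p H ⊓ L = Cfsg.largestPReduced p H ⊓ (Cfsg.largestPReducedOf p L) ∧ Cfsg.IsPReducedNormal p ((Cfsg.largestPReduced p H ⊓ L).subgroupOf L) ∧ L ⊓ Subgroup.centralizer ((Cfsg.largestPReducedOf p L : Subgroup H) : Set H) = L ⊓ Subgroup.centralizer (Cfsg.largestPReduced p H : Set H) ∧ L ⊓ Subgroup.centralizer (Cfsg.largestPReduced p H : Set H) = L ⊓ Subgroup.centralizer ((Cfsg.largestPReduced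 p H ⊓ L : Subgroup H) : Set H) ∧ (Cfsg.pResidual p H ≤ L → (⁅(Cfsg.largestPReducedOf p L), L⁆ = ⊥ ↔ ⁅Cfsg.largestPReduced p H, (⊤ : Subgroup H)⁆ = ⊥)) := by
  set Y := Cfsg.largestPReduced p H with hY
  set YL := Cfsg.largestPReducedOf p L with hYL
  have hYr : Cfsg.IsPReducedNormal p Y := CfsgLib.LocalEven.PRed.isPReducedNormal_largestPReduced
  have h2 := CfsgLib.LocalEven.PRed.isPReducedNormal_inf hYr hL
  have hle : Y ⊓ L ≤ YL := CfsgLib.LocalEven.PRed.le_largestPReducedOf inf_le_right h2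
  have hC1 : L ⊓ Subgroup.centralizer (YL : Set H) ≤ L ⊓ Subgroup.centralizer ((Y ⊓ L : Subgroup H) : Set H) :=
    inf_le_inf_left _ (Subgroup.centralizer_le hle)
  have hC2 : L ⊓ Subgroup.centralizer ((Y ⊓ L : Subgroup H) : Set H) ≤ L ⊓ Subgroup.centralizer (Y : Set H) :=
    le_inf inf_le_left (CfsgLib.LocalEven.PRed.inf_centralizer_inf_le hYr hL)
  have hC3 : L ⊓ Subgroup.centralizer (Y : Set H) ≤ L ⊓ Subgroup.centralizer (YL : Set H) :=
    le_inf inf_le_left (CfsgLib.LocalEven.PRed.inf_centralizer_largest_le hL)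
  refine ⟨le_antisymm (le_inf inf_le_left hle) (inf_le_inf_left _ (CfsgLib.LocalEven.PRed.largestPReducedOf_le p L)),
    h2, le_antisymm (hC1.trans hC2) hC3, le_antisymm (inf_le_inf_left _ (Subgroup.centralizer_le inf_le_left)) hC2,
    fun hR => ?_⟩
  rw [Subgroup.commutator_eq_bot_iff_le_centralizer, Subgroup.commutator_eq_bot_iff_le_centralizer]
  constructor
  · intro h
    have hLC : L ≤ Subgroup.centralizer (Y : Set H) := fun x hx =>
      ((hC1.trans hC2) ⟨hx, Subgroup.le_centralizer_iff.1 h hx⟩).2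
    rw [Subgroup.le_centralizer_iff]
    refine (CfsgLib.LocalEven.PRed.isPReducedNormal_iff.1 hYr).2.2 ⊤ inferInstance fun x _ => ?_
    obtain ⟨k, m, hm, hkm⟩ := Nat.exists_eq_pow_mul_and_not_dvd (orderOf_pos x).ne' p (Fact.out : p.Prime).ne_one
    refine ⟨k, hLC (hR (CfsgLib.Transfer.mem_pResidual_of_coprime ?_))⟩
    rw [orderOf_pow' x (pow_ne_zero _ (Fact.out : p.Prime).ne_zero), hkm,
      Nat.gcd_eq_right (dvd_mul_right _ _), Nat.mul_div_cancel_left _ (pow_pos (Fact.out : p.Prime).pos k)]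
    exact ((Fact.out : p.Prime).coprime_iff_not_dvd.2 hm).symm
  · intro h
    rw [Subgroup.le_centralizer_iff]
    exact fun x hx => (hC3 ⟨hx, Subgroup.le_centralizer_iff.1 h (Subgroup.mem_top x)⟩).2

end Cfsg.Agent.S2825
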