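import Cfsg.Statements.S2826
import Cfsg.Agent.Lib.LocalEven.PReduced
import Cfsg.Agent.Lib.LocalEven.Kieler
open scoped commutatorElement

set_option autoImplicit false
open Cfsg

namespace Cfsg.Agent.S2826

/-- Let H be a finite group of characteristic p, T a Sylow p-subgroup, and V a normal elementary abelian p-subgroup of H containing Ω₁(Z(T)). Then C_H(Ω₁(Z(T))) = C_H([V, O^p(H)] ∩ Ω₁(Z(T))), O^p(H) being generated by the elements of order prime to p. -/
theorem result {H : Type*} [Group H] [Finite H] {p : ℕ} [Fact p.Prime] (hH : Subgroup.centralizer (Cfsg.pCore p H : Set H) ≤ Cfsg.pCore p H) (T : Sylow p H) (V : Subgroup H) [V.Normal] (hV : Cfsg.IsElementaryAbelian p V) (hZV : (Cfsg.omegaOne p ((T : Subgroup H) ⊓ Subgroup.centralizer (((T : Subgroup H) : Subgroup H) : Set H))) ≤ V) : Subgroup.centralizer ((Cfsg.omegaOne p ((T : Subgroup H) ⊓ Subgroup.centralizer (((T : Subgroup H) : Subgroup H) : Set H))) : Set H) = Subgroup.centralizer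 (((⁅V, Cfsg.pResidual p H⁆ ⊓ (Cfsg.omegaOne p ((T : Subgroup H) ⊓ Subgroup.centralizer (((T : Subgroup H) : Subgroup H) : Set H)))) : Subgroup H) : Set H) := by
  set Z := Cfsg.omegaOne p ((T : Subgroup H) ⊓ Subgroup.centralizer (((T : Subgroup H) : Subgroup H) : Set H)) with hZ
  refine le_antisymm (Subgroup.centralizer_le inf_le_right) fun g hg => Subgroup.mem_centralizer_iff.2 fun z hz => ?_
  obtain ⟨h1, h2, h3⟩ := CfsgLib.LocalEven.Oz.mem_iff.1 hz
  have hn : ¬ p ∣ (T : Subgroup H).relIndex ⊤ := by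
    rw [Subgroup.relIndex_top_right]; exact T.not_dvd_index
  have hVT : V ≤ (T : Subgroup H) :=
    (CfsgLib.Cores.le_pCore (CfsgLib.PGroup.elemAb_isPGroup hV)).trans (CfsgLib.Cores.pCore_le_sylow T)
  obtain ⟨e, he1, -, -, he4, -⟩ := CfsgLib.LocalEven.Avg.exists_avg (le_top : (T : Subgroup H) ≤ ⊤) hn
    (fun a ha b hb => CfsgLib.PGroup.elemAb_comm hV ha hb) hV.2
    (W := V) (by rw [Subgroup.normalizer_eq_top])
  obtain ⟨hcV, hc⟩ := he1 z (hZV hz) h2
  have hd : (e z)⁻¹ * z ∈ ⁅V, Cfsg.pResidual p H⁆ := by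
    refine he4 z (hZV hz) _ fun x _ => ?_
    have hmem : x ∈ Cfsg.pResidual p H ⊔ (T : Subgroup H) :=
      CfsgLib.Transfer.pResidual_sup_sylow T ▸ Subgroup.mem_top _
    haveI := CfsgLib.Transfer.pResidual_characteristic (p := p) (G := H)
    rw [Subgroup.mem_sup_of_normal_left] at hmem
    obtain ⟨r, hr, s, hs, rfl⟩ := hmem
    have h5 : Commute s z⁻¹ := (show Commute s z from h2 s hs).inv_right
    have e5 : z * (r * s * z⁻¹ * (r * s)⁻¹) = ⁅z, r⁆ := by
      rw [commutatorElement_def]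
      calc z * (r * s * z⁻¹ * (r * s)⁻¹) = z * r * (s * z⁻¹) * s⁻¹ * r⁻¹ := by group
        _ = z * r * (z⁻¹ * s) * s⁻¹ * r⁻¹ := by rw [h5.eq]
        _ = z * r * z⁻¹ * r⁻¹ := by group
    rw [e5]
    exact Subgroup.commutator_mem_commutator (hZV hz) hr
  have hdV : (e z)⁻¹ * z ∈ V := mul_mem (inv_mem hcV) (hZV hz)
  have hcT : ∀ s ∈ (T : Subgroup H), Commute s (e z) := fun s _ => hc s (Subgroup.mem_top _)
  have hdZ : (e z)⁻¹ * z ∈ Z := CfsgLib.LocalEven.Oz.mem_iff.2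
    ⟨hVT hdV, fun s hs => ((hcT s hs).inv_right.mul_right (h2 s hs)), hV.2 _ hdV⟩
  have h6 : Commute g (e z * ((e z)⁻¹ * z)) :=
    (show Commute g (e z) from hc g (Subgroup.mem_top _)).mul_right
      (Subgroup.mem_centralizer_iff.1 hg _ (Subgroup.mem_inf.2 ⟨hd, hdZ⟩)).symm
  rw [mul_inv_cancel_left] at h6
  exact h6.symm

end Cfsg.Agent.S2826
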