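import Cfsg.Statements.S2827
import Cfsg.Agent.Lib.LocalEven.PClosed
import Cfsg.Agent.Lib.LocalEven.Basic
import Cfsg.Agent.Lib.Solvable.CoprimeAction
open scoped commutatorElement

set_option autoImplicit false
open Cfsg

namespace Cfsg.Agent.S2827

/-- Let H be a finite p-irreducible group (not p-closed, and O^p(H) lies in every normal subgroup that is not p-closed) and T a Sylow p-subgroup. Then H is generated by the conjugates of T and H = H'·T; O^p(H) ≤ H'; and for every normal subgroup Y of T not contained in O_p(H), O^p(H) = [O^p(H), Y] and O^p(H) is contained in the normal closure of Y in H. -/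
theorem result {H : Type*} [Group H] [Finite H] {p : ℕ} [Fact p.Prime] (hH : Cfsg.IsPIrreducible p H) (T : Sylow p H) : Subgroup.normalClosure ((T : Subgroup H) : Set H) = ⊤ ∧ commutator H ⊔ (T : Subgroup H) = ⊤ ∧ Cfsg.pResidual p H ≤ commutator H ∧ ∀ Y : Subgroup H, Y ≤ (T : Subgroup H) → (T : Subgroup H) ≤ Subgroup.normalizer (Y : Set H) → ¬ Y ≤ Cfsg.pCore p H → ⁅Cfsg.pResidual p H, Y⁆ = Cfsg.pResidual p H ∧ Cfsg.pResidual p H ≤ Subgroup.normalClosure (Y : Set H) := by
  obtain ⟨hnc, hirr⟩ := hH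
  set R := Cfsg.pResidual p H with hR
  haveI := CfsgLib.Transfer.pResidual_characteristic (p := p) (G := H)
  have hRT : R ⊔ (T : Subgroup H) = ⊤ := CfsgLib.Transfer.pResidual_sup_sylow T
  have hTO : ¬ (T : Subgroup H) ≤ Cfsg.pCore p H := fun h => hnc ((CfsgLib.LocalEven.PClosed.iff_sylow_le T).2 h)
  have hbig : ∀ (N : Subgroup H), N.Normal → (T : Subgroup H) ≤ N → R ≤ N := fun N hN hTN => hirr N hN fun hc => by
    haveI := hN
    exact hTO (CfsgLib.LocalEven.PClosed.le_pCore_of_normal hc T.2 hTN)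
  have h1 : Subgroup.normalClosure ((T : Subgroup H) : Set H) = ⊤ :=
    eq_top_iff.2 (hRT ▸ sup_le (hbig _ inferInstance Subgroup.le_normalClosure) Subgroup.le_normalClosure)
  have h2 : commutator H ⊔ (T : Subgroup H) = ⊤ := by
    haveI : (commutator H ⊔ (T : Subgroup H)).Normal := ⟨fun n hn g => by
      have h := Subgroup.mem_sup_left (T := (T : Subgroup H))
        (Subgroup.commutator_mem_commutator (Subgroup.mem_top g) (Subgroup.mem_top n) : ⁅g, n⁆ ∈ commutator H)
      have e : g * n * g⁻¹ = ⁅g, n⁆ * n := by rw [commutatorElement_def]; group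
      rw [e]
      exact mul_mem h hn⟩
    exact eq_top_iff.2 (hRT ▸ sup_le (hbig _ inferInstance le_sup_right) le_sup_right)
  refine ⟨h1, h2, CfsgLib.LocalEven.PClosed.pResidual_le_of_sup_eq_top T.2 h2, fun Y hYT hTY hYO => ?_⟩
  set M := ⁅R, Y⁆ with hM
  have hMR : M ≤ R := Subgroup.commutator_le_left R Y
  have hMn : M.Normal := by
    rw [← Subgroup.normalizer_eq_top_iff, eq_top_iff, ← hRT]
    refine sup_le (CfsgLib.Solvable.le_normalizer_commutator_left R Y) fun t ht => ?_
    have hRm : R.map (MulAut.conj t).toMonoidHom = R :=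
      Subgroup.mem_normalizer_iff_map_conj_eq.1 (by rw [Subgroup.normalizer_eq_top]; trivial)
    have hYm : Y.map (MulAut.conj t).toMonoidHom = Y := Subgroup.mem_normalizer_iff_map_conj_eq.1 (hTY ht)
    rw [Subgroup.mem_normalizer_iff_map_conj_eq, hM, Subgroup.map_commutator]
    exact congrArg₂ _ hRm hYm
  haveI := hMn
  have hMYn : (M ⊔ Y).Normal := by
    rw [← Subgroup.normalizer_eq_top_iff, eq_top_iff, ← hRT]
    refine sup_le (fun r hr => CfsgLib.LocalEven.mem_normalizer_of_conj_le ?_)
      (fun t ht => CfsgLib.LocalEven.mem_normalizer_of_conj_le ?_)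
    · rw [Subgroup.map_sup]
      refine sup_le (le_trans ?_ le_sup_left) ?_
      · rintro _ ⟨m, hm, rfl⟩
        exact Subgroup.Normal.conj_mem hMn m hm r
      · rintro _ ⟨y, hy, rfl⟩
        show r * y * r⁻¹ ∈ M ⊔ Y
        have e : r * y * r⁻¹ = ⁅r, y⁆ * y := by rw [commutatorElement_def]; group
        rw [e]
        exact mul_mem (Subgroup.mem_sup_left (Subgroup.commutator_mem_commutator hr hy)) (Subgroup.mem_sup_right hy)
    · rw [Subgroup.map_sup]
      refine sup_le_sup ?_ ?_
      · rintro _ ⟨m, hm, rfl⟩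
        exact Subgroup.Normal.conj_mem hMn m hm t
      · rintro _ ⟨y, hy, rfl⟩
        exact (Subgroup.mem_normalizer_iff.1 (hTY ht) y).1 hy
  haveI := hMYn
  have hRN : R ≤ Subgroup.normalClosure (Y : Set H) := hirr _ inferInstance fun hc =>
    hYO (CfsgLib.LocalEven.PClosed.le_pCore_of_normal hc (T.2.to_le hYT) Subgroup.le_normalClosure)
  refine ⟨le_antisymm hMR (CfsgLib.LocalEven.PClosed.pResidual_le_of_le_sup (T.2.to_le hYT) ?_), hRN⟩
  exact hRN.trans (Subgroup.normalClosure_le_normal (show Y ≤ M ⊔ Y from le_sup_right))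

end Cfsg.Agent.S2827
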