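import Cfsg.Statements.S2828
import Cfsg.Agent.Lib.LocalEven.PClosed

set_option autoImplicit false
open Cfsg

namespace Cfsg.Agent.S2828

/-- Let H be a finite group, p a prime and D a normal p-subgroup of H. Then H is p-irreducible if and only if H/D is p-irreducible, and H is strongly p-irreducible if and only if H/D is strongly p-irreducible. -/
theorem result {H : Type*} [Group H] [Finite H] {p : ℕ} [Fact p.Prime] (D : Subgroup H) [D.Normal] (hD : IsPGroup p ↥D) : (Cfsg.IsPIrreducible p H ↔ Cfsg.IsPIrreducible p (H ⧸ D)) ∧ (Cfsg.IsStronglyPIrreducible p H ↔ Cfsg.IsStronglyPIrreducible p (H ⧸ D)) := by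
  obtain ⟨T⟩ : Nonempty (Sylow p H) := inferInstance
  set π := QuotientGroup.mk' D with hπ
  have hπs : Function.Surjective π := QuotientGroup.mk'_surjective D
  have hker : π.ker = D := QuotientGroup.ker_mk' D
  have hO : (Cfsg.pCore p (H ⧸ D)).comap π = Cfsg.pCore p H := CfsgLib.LocalEven.PClosed.pCore_map_mk hD
  have hR : (Cfsg.pResidual p H).map π = Cfsg.pResidual p (H ⧸ D) :=
    CfsgLib.Transfer.map_pResidual_of_surjective π hπs
  have hDT : D ≤ (T : Subgroup H) := (CfsgLib.Cores.le_pCore hD).trans (CfsgLib.Cores.pCore_le_sylow T)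
  let T' := T.mapSurjective hπs
  have hT' : (T' : Subgroup (H ⧸ D)) = (T : Subgroup H).map π := rfl
  have hcl : Cfsg.IsPClosed p H ↔ Cfsg.IsPClosed p (H ⧸ D) := by
    rw [CfsgLib.LocalEven.PClosed.iff_sylow_le T, CfsgLib.LocalEven.PClosed.iff_sylow_le T', hT',
      Subgroup.map_le_iff_le_comap, hO]
  have hcln : ∀ N : Subgroup H, N.Normal → (Cfsg.IsPClosed p ↥N ↔ Cfsg.IsPClosed p ↥(N.map π)) := by
    intro N hN
    haveI := hN
    haveI : (N.map π).Normal := hN.map _ hπs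
    rw [CfsgLib.LocalEven.PClosed.iff_of_normal T N, CfsgLib.LocalEven.PClosed.iff_of_normal T' (N.map π), hT']
    constructor
    · rintro h _ ⟨⟨t, ht, rfl⟩, n, hn, hnt⟩
      have h1 : t⁻¹ * n ∈ D := by
        rw [← hker, MonoidHom.mem_ker, map_mul, map_inv, hnt, inv_mul_cancel]
      have h2 : n ∈ (T : Subgroup H) := by
        have := mul_mem ht (hDT h1)
        rwa [mul_inv_cancel_left] at this
      rw [← hnt]
      show π n ∈ Cfsg.pCore p (H ⧸ D)
      rw [← Subgroup.mem_comap, hO]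
      exact h ⟨h2, hn⟩
    · intro h x hx
      rw [← hO]
      exact h ⟨⟨x, hx.1, rfl⟩, x, hx.2, rfl⟩
  have hres : ∀ N : Subgroup H, N.Normal → (Cfsg.pResidual p H ≤ N ↔ Cfsg.pResidual p (H ⧸ D) ≤ N.map π) := by
    intro N hN
    haveI := hN
    refine ⟨fun h => hR ▸ Subgroup.map_mono h, fun h => CfsgLib.LocalEven.PClosed.pResidual_le_of_le_sup hD ?_⟩
    rw [← hR, Subgroup.map_le_map_iff, hker] at h
    exact h
  have hcomm : ∀ N : Subgroup H, N.Normal →
      (⁅N, (⊤ : Subgroup H)⁆ ≤ Cfsg.pCore p H ↔ ⁅N.map π, (⊤ : Subgroup (H ⧸ D))⁆ ≤ Cfsg.pCore p (H ⧸ D)) := by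
    intro N _
    rw [← Subgroup.map_top_of_surjective π hπs, ← Subgroup.map_commutator, Subgroup.map_le_iff_le_comap, hO]
  constructor
  · constructor
    · rintro ⟨hnc, hirr⟩
      refine ⟨fun h => hnc (hcl.2 h), fun M hM hMc => ?_⟩
      rw [← Subgroup.map_comap_eq_self_of_surjective hπs M] at hMc ⊢
      exact (hres _ (hM.comap π)).1 (hirr _ (hM.comap π) fun h => hMc ((hcln _ (hM.comap π)).1 h))
    · rintro ⟨hnc, hirr⟩
      refine ⟨fun h => hnc (hcl.1 h), fun N hN hNc => (hres N hN).2 (hirr _ (hN.map π hπs) fun h => hNc ((hcln N hN).2 h))⟩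
  · constructor
    · rintro ⟨hnc, hirr⟩
      refine ⟨fun h => hnc (hcl.2 h), fun M hM hMc => ?_⟩
      rw [← Subgroup.map_comap_eq_self_of_surjective hπs M] at hMc ⊢
      exact (hres _ (hM.comap π)).1 (hirr _ (hM.comap π) fun h => hMc ((hcomm _ (hM.comap π)).1 h))
    · rintro ⟨hnc, hirr⟩
      refine ⟨fun h => hnc (hcl.1 h), fun N hN hNc => (hres N hN).2 (hirr _ (hN.map π hπs) fun h => hNc ((hcomm N hN).2 h))⟩

end Cfsg.Agent.S2828
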