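import Cfsg.Statements.S2829
import Cfsg.Agent.Lib.LocalEven.PClosed
import Cfsg.Agent.Lib.LocalEven.Basic
import Cfsg.Agent.Lib.LocalEven.ChainStab
open scoped commutatorElement

set_option autoImplicit false
open Cfsg

namespace Cfsg.Agent.S2829

/-- Every strongly p-irreducible finite group is p-irreducible. -/
theorem result {H : Type*} [Group H] [Finite H] {p : ℕ} [Fact p.Prime] (hH : Cfsg.IsStronglyPIrreducible p H) : Cfsg.IsPIrreducible p H := by
  obtain ⟨hnc, hirr⟩ := hH
  refine ⟨hnc, fun N hN hNc => hirr N hN fun hle => hNc ?_⟩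
  haveI := hN
  obtain ⟨T⟩ : Nonempty (Sylow p H) := inferInstance
  rw [CfsgLib.LocalEven.PClosed.iff_of_normal T N]
  intro x hx
  set K := Cfsg.pCore p H ⊔ Subgroup.zpowers x with hK
  have hxK : x ∈ K := Subgroup.mem_sup_right (Subgroup.mem_zpowers x)
  haveI : K.Normal := by
    rw [← Subgroup.normalizer_eq_top_iff, eq_top_iff]
    refine fun g _ => CfsgLib.LocalEven.mem_normalizer_of_conj_le ?_
    rw [hK, Subgroup.map_sup]
    refine sup_le (le_trans ?_ le_sup_left) ?_
    · rintro _ ⟨m, hm, rfl⟩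
      exact Subgroup.Normal.conj_mem inferInstance m hm g
    · rw [MonoidHom.map_zpowers, Subgroup.zpowers_le]
      show g * x * g⁻¹ ∈ K
      have h := CfsgLib.LocalEven.Chain.commutator_swap_mem hle hx.2 (Subgroup.mem_top g)
      have e : g * x * g⁻¹ = ⁅g, x⁆ * x := by rw [commutatorElement_def]; group
      rw [e]
      exact mul_mem (Subgroup.mem_sup_left h) hxK
  exact CfsgLib.Cores.le_pCore (N := K) (IsPGroup.to_sup_of_normal_left (CfsgLib.Cores.isPGroup_pCore p)
    (T.2.to_le (Subgroup.zpowers_le.2 hx.1))) hxK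

end Cfsg.Agent.S2829
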