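import Cfsg.Statements.S2830
import Cfsg.Agent.Lib.LocalEven.PClosed
import Cfsg.Agent.Lib.LocalEven.PReduced

set_option autoImplicit false
open Cfsg

namespace Cfsg.Agent.S2830

/-- Let H act by conjugation on the elementary abelian p-subgroup V of a finite group G (H ≤ N(V)), with H p-irreducible and O^p(H) not centralizing V. Then C_H(V) is p-closed and C_T(V) ≤ O_p(H) for every p-subgroup T of H. If in addition O_p(H) centralizes V, then C_T(V) = T ∩ O_p(H) for every p-subgroup T of H, and V is p-reduced for H: O_p(H/C_H(V)) = 1. -/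
theorem result {G : Type*} [Group G] [Finite G] {p : ℕ} [Fact p.Prime] (V H : Subgroup G) (hV : Cfsg.IsElementaryAbelian p V) (hHV : H ≤ Subgroup.normalizer (V : Set G)) (hH : Cfsg.IsPIrreducible p ↥H) (hnc : ¬ (Cfsg.pResidual p ↥H).map H.subtype ≤ Subgroup.centralizer (V : Set G)) [hn : ((Subgroup.centralizer (V : Set G)).subgroupOf H).Normal] : Cfsg.IsPClosed p ↥(H ⊓ Subgroup.centralizer (V : Set G)) ∧ (∀ T : Subgroup G, T ≤ H → IsPGroup p ↥T → T ⊓ Subgroup.centralizer (V : Set G) ≤ Cfsg.pCoreOf p H) ∧ (Cfsg.pCoreOf p H ≤ Subgroup.centralizer (V : Set G) → (∀ T : Subgroup G, T ≤ H → IsPGroup p ↥T → T ⊓ Subgroup.centralizer (V : Set G) = T ⊓ Cfsg.pCoreOf p H) ∧ Cfsg.pCore p (↥H ⧸ (Subgroup.centralizer (V : Set G)).subgroupOf H) = ⊥) := by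
  set C := Subgroup.centralizer (V : Set G) with hC
  set C₀ := C.subgroupOf H with hC₀
  obtain ⟨hHnc, hirr⟩ := hH
  have hclosed : Cfsg.IsPClosed p ↥C₀ := by
    by_contra h
    refine hnc ((Subgroup.map_mono (hirr C₀ hn h)).trans ?_)
    rw [hC₀, Subgroup.subgroupOf_map_subtype]
    exact inf_le_left
  have hcl2 : Cfsg.IsPClosed p ↥(H ⊓ C) := by
    have e : ↥C₀ ≃* ↥(H ⊓ C) :=
      ((Subgroup.equivMapOfInjective C₀ H.subtype H.subtype_injective).trans
        (MulEquiv.subgroupCongr (by rw [hC₀, Subgroup.subgroupOf_map_subtype, inf_comm])))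
    rw [CfsgLib.LocalEven.PClosed.iff_forall_le_pCore]
    intro Q hQ
    have h := Subgroup.map_mono (f := e.toMonoidHom)
      (CfsgLib.LocalEven.PClosed.iff_forall_le_pCore.1 hclosed (Q.map e.symm.toMonoidHom) (hQ.map _))
    rw [Subgroup.map_map, CfsgLib.Cores.map_pCore_equiv] at h
    intro q hq
    exact h ⟨q, hq, by simp⟩
  have hle : ∀ T : Subgroup G, T ≤ H → IsPGroup p ↥T → T ⊓ C ≤ Cfsg.pCoreOf p H := by
    intro T hTH hTp x hx
    have h := CfsgLib.LocalEven.PClosed.le_pCore_of_normal hclosed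
      (Q := (T ⊓ C).subgroupOf H) (hTp.to_le inf_le_left).comap_subtype
      (Subgroup.comap_mono inf_le_right)
    exact ⟨⟨x, hTH hx.1⟩, h hx, rfl⟩
  refine ⟨hcl2, hle, fun hOC => ⟨fun T hTH hTp => le_antisymm (le_inf inf_le_left (hle T hTH hTp))
    (le_inf inf_le_left (inf_le_right.trans hOC)), ?_⟩⟩
  rw [CfsgLib.Cores.pCore_eq_bot_iff]
  intro M hM hMp
  set N := M.comap (QuotientGroup.mk' C₀) with hN
  have hpow : ∀ x ∈ N, ∃ k : ℕ, x ^ p ^ k ∈ C₀ := by
    intro x hx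
    obtain ⟨k, hk⟩ := hMp ⟨_, hx⟩
    refine ⟨k, ?_⟩
    rw [← QuotientGroup.eq_one_iff, QuotientGroup.mk_pow]
    exact congrArg Subtype.val hk
  suffices h : N ≤ C₀ by
    rw [← Subgroup.map_comap_eq_self_of_surjective (QuotientGroup.mk'_surjective C₀) M,
      Subgroup.map_eq_bot_iff, QuotientGroup.ker_mk']
    exact h
  obtain ⟨T⟩ : Nonempty (Sylow p ↥H) := inferInstance
  refine (CfsgLib.LocalEven.PRed.le_sup_inf_sylow T hpow).trans (sup_le le_rfl ?_)
  have hclN : Cfsg.IsPClosed p ↥N := by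
    by_contra h
    refine hnc ((Subgroup.map_mono (f := H.subtype) (?_ : Cfsg.pResidual p ↥H ≤ C₀)).trans
      (by rw [hC₀, Subgroup.subgroupOf_map_subtype]; exact inf_le_left))
    have hRN := hirr N (hM.comap _) h
    refine (Subgroup.closure_le _).2 fun x hx => ?_
    obtain ⟨k, hk⟩ := hpow x (hRN (CfsgLib.Transfer.mem_pResidual_of_coprime hx))
    obtain ⟨m, hm⟩ := exists_pow_eq_self_of_coprime (x := x) (n := p ^ k) ((Nat.Coprime.pow_right k hx).symm)
    exact hm ▸ pow_mem hk m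
  haveI : N.Normal := hM.comap _
  refine ((CfsgLib.LocalEven.PClosed.iff_of_normal T N).1 hclN).trans fun x hx => ?_
  exact hOC ⟨x, hx, rfl⟩

end Cfsg.Agent.S2830
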