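import Cfsg.Statements.S2831
import Cfsg.Agent.Lib.LocalEven.MinimalOver

set_option autoImplicit false
open Cfsg

namespace Cfsg.Agent.S2831

/-- Let H be a finite group with Sylow p-subgroup T such that H is T-minimal (H is generated by the conjugates of T and T lies in exactly one maximal subgroup of H). Then H is p-irreducible: H is not p-closed and O^p(H) lies in every normal subgroup of H that is not p-closed. -/
theorem result {H : Type*} [Group H] [Finite H] {p : ℕ} [Fact p.Prime] (T : Sylow p H) (hmin : Cfsg.IsMinimalOver (T : Subgroup H)) : Cfsg.IsPIrreducible p H := by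
  obtain ⟨hgen, M, ⟨hM, hTM⟩, huniq⟩ := hmin
  refine ⟨fun hc => ?_, fun N hN hNc => ?_⟩
  · haveI := hc T
    have : (T : Subgroup H) = ⊤ := by
      rw [← hgen]; exact (Subgroup.normalClosure_eq_self _).symm
    exact hM.1 (eq_top_iff.2 (this ▸ hTM))
  · haveI := hN
    refine CfsgLib.LocalEven.PClosed.pResidual_le_of_sup_eq_top T.2 ?_
    by_contra h
    have hle := CfsgLib.LocalEven.MinOver.le_of_ne_top huniq le_sup_right h
    exact hNc ((CfsgLib.LocalEven.PClosed.iff_of_normal T N).2
      (CfsgLib.LocalEven.MinOver.inf_le_pCore T hM huniq N (le_sup_left.trans hle)))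

end Cfsg.Agent.S2831
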