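import Cfsg.Statements.S2832
import Cfsg.Agent.Lib.LocalEven.MinimalOver

set_option autoImplicit false
open Cfsg

namespace Cfsg.Agent.S2832

/-- Let H be a finite group with Sylow p-subgroup T such that H is T-minimal (generated by the conjugates of T, with T in exactly one maximal subgroup), and let N be a normal subgroup of H. Then either H/N is a p-group or H/N is minimal over the image of T in the same sense. -/
theorem result {H : Type*} [Group H] [Finite H] {p : ℕ} [Fact p.Prime] (T : Sylow p H) (hmin : Cfsg.IsMinimalOver (T : Subgroup H)) (N : Subgroup H) [N.Normal] : IsPGroup p (H ⧸ N) ∨ Cfsg.IsMinimalOver ((T : Subgroup H).map (QuotientGroup.mk' N)) := by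
  obtain ⟨hgen, M, ⟨hM, hTM⟩, huniq⟩ := hmin
  set π := QuotientGroup.mk' N with hπ
  have hπs : Function.Surjective π := QuotientGroup.mk'_surjective N
  have hker : π.ker = N := QuotientGroup.ker_mk' N
  by_cases htop : N ⊔ (T : Subgroup H) = ⊤
  · left
    intro y
    obtain ⟨g, rfl⟩ := hπs y
    have hg : g ∈ N ⊔ (T : Subgroup H) := htop ▸ Subgroup.mem_top g
    rw [Subgroup.mem_sup_of_normal_left] at hg
    obtain ⟨n, hn, t, ht, rfl⟩ := hg
    obtain ⟨k, hk⟩ := T.2 ⟨t, ht⟩
    refine ⟨k, ?_⟩
    rw [map_mul, (show π n = 1 from (QuotientGroup.eq_one_iff n).2 hn), one_mul, ← map_pow,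
      show t ^ p ^ k = 1 from congrArg Subtype.val hk, map_one]
  right
  have hNT : N ⊔ (T : Subgroup H) ≤ M := CfsgLib.LocalEven.MinOver.le_of_ne_top huniq le_sup_right htop
  refine ⟨?_, M.map π, ⟨?_, Subgroup.map_mono hTM⟩, ?_⟩
  · rw [Subgroup.coe_map, ← Subgroup.map_normalClosure _ π hπs, hgen, Subgroup.map_top_of_surjective π hπs]
  · refine ⟨fun h => hM.1 ?_, fun X hX => ?_⟩
    · rw [← Subgroup.comap_map_eq_self (show π.ker ≤ M by rw [hker]; exact le_sup_left.trans hNT), h, Subgroup.comap_top]
    · have h1 : M < X.comap π := by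
        rw [← Subgroup.comap_map_eq_self (show π.ker ≤ M by rw [hker]; exact le_sup_left.trans hNT)]
        exact (Subgroup.comap_lt_comap_of_surjective hπs).2 hX
      rw [← Subgroup.map_comap_eq_self_of_surjective hπs X, hM.2 _ h1, Subgroup.map_top_of_surjective π hπs]
  · rintro X ⟨hX, hTX⟩
    have h1 : X.comap π ≤ M := CfsgLib.LocalEven.MinOver.le_of_ne_top huniq (Subgroup.map_le_iff_le_comap.1 hTX)
      fun h => hX.1 (by rw [← Subgroup.map_comap_eq_self_of_surjective hπs X, h, Subgroup.map_top_of_surjective π hπs])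
    have h2 : X ≤ M.map π := by
      rw [← Subgroup.map_comap_eq_self_of_surjective hπs X]; exact Subgroup.map_mono h1
    refine (hX.le_iff_eq ?_).1 h2 |>.symm
    intro h
    exact hM.1 (by rw [← Subgroup.comap_map_eq_self (show π.ker ≤ M by rw [hker]; exact le_sup_left.trans hNT), h, Subgroup.comap_top])

end Cfsg.Agent.S2832
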