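import Cfsg.Statements.S2833
import Cfsg.Agent.Lib.LocalEven.ChainStab
import Cfsg.Agent.Lib.LocalEven.Basic
import Cfsg.Agent.Lib.Solvable.CoprimeAction
open scoped commutatorElement

set_option autoImplicit false
open Cfsg

namespace Cfsg.Agent.S2833

/-- Let V be a subgroup of a finite group G normalized by the subgroup L, let X ≤ L and g ∈ L with [V, X, X] = 1 and L generated by X and gXg⁻¹. Put W = [V, L]. Then W = [V, X]·[V, gXg⁻¹], C_W(X) = [V, X], and C_W(L) = [V, X] ∩ [V, gXg⁻¹]. -/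
theorem result {G : Type*} [Group G] [Finite G] (V L : Subgroup G) (hLV : L ≤ Subgroup.normalizer (V : Set G)) (X : Subgroup G) (hX : X ≤ L) (g : G) (hg : g ∈ L) (hq : ⁅⁅V, X⁆, X⁆ = ⊥) (hgen : X ⊔ X.map (MulAut.conj g).toMonoidHom = L) (W : Subgroup G) (hW : W = ⁅V, L⁆) : ⁅V, X⁆ ⊔ ⁅V, X.map (MulAut.conj g).toMonoidHom⁆ = W ∧ W ⊓ Subgroup.centralizer (X : Set G) = ⁅V, X⁆ ∧ W ⊓ Subgroup.centralizer (L : Set G) = ⁅V, X⁆ ⊓ ⁅V, X.map (MulAut.conj g).toMonoidHom⁆ := by
  subst hW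
  set X' := X.map (MulAut.conj g).toMonoidHom with hX'
  set A := ⁅V, X⁆ with hA
  set B := ⁅V, X'⁆ with hB
  have hX'L : X' ≤ L := by
    rintro _ ⟨x, hx, rfl⟩
    exact mul_mem (mul_mem hg (hX hx)) (inv_mem hg)
  have hgV : V.map (MulAut.conj g).toMonoidHom = V := Subgroup.mem_normalizer_iff_map_conj_eq.1 (hLV hg)
  have hBA : B = A.map (MulAut.conj g).toMonoidHom := by rw [hA, Subgroup.map_commutator, hgV]
  have hAV : A ≤ V := CfsgLib.Solvable.commutator_le_of_le_normalizer (hX.trans hLV)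
  have hBV : B ≤ V := CfsgLib.Solvable.commutator_le_of_le_normalizer (hX'L.trans hLV)
  have hVA : V ≤ Subgroup.normalizer (A : Set G) := CfsgLib.Solvable.le_normalizer_commutator_left V X
  have hVB : V ≤ Subgroup.normalizer (B : Set G) := CfsgLib.Solvable.le_normalizer_commutator_left V X'
  have hXA : ∀ a ∈ A, ∀ x ∈ X, a * x = x * a := fun a ha x hx =>
    commutatorElement_eq_one_iff_mul_comm.1 (Subgroup.mem_bot.1 (hq ▸ Subgroup.commutator_mem_commutator ha hx))
  have hXB : ∀ b ∈ B, ∀ x ∈ X', b * x = x * b := by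
    rw [hBA]
    rintro _ ⟨a, ha, rfl⟩ _ ⟨x, hx, rfl⟩
    rw [← map_mul, ← map_mul, hXA a ha x hx]
  -- `L` normalizes `A ⊔ B`
  have hnorm : ∀ (P Q Y : Subgroup G), Q ≤ V → Y ≤ Subgroup.normalizer (V : Set G) → ⁅V, Y⁆ = P →
      (∀ a ∈ P, ∀ x ∈ Y, a * x = x * a) → Y ≤ Subgroup.normalizer ((P ⊔ Q : Subgroup G) : Set G) := by
    intro P Q Y hQ _ hP hc x hx
    refine CfsgLib.LocalEven.mem_normalizer_of_conj_le ?_
    rw [Subgroup.map_sup]
    refine sup_le ?_ ?_
    · rintro _ ⟨a, ha, rfl⟩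
      show x * a * x⁻¹ ∈ P ⊔ Q
      rw [← hc a ha x hx, mul_inv_cancel_right]
      exact Subgroup.mem_sup_left ha
    · rintro _ ⟨b, hb, rfl⟩
      show x * b * x⁻¹ ∈ P ⊔ Q
      have h1 : ⁅x, b⁆ ∈ P := CfsgLib.LocalEven.Chain.commutator_swap_mem hP.le (hQ hb) hx
      have e : x * b * x⁻¹ = ⁅x, b⁆ * b := by rw [commutatorElement_def]; group
      rw [e]
      exact mul_mem (Subgroup.mem_sup_left h1) (Subgroup.mem_sup_right hb)
  have hLn : L ≤ Subgroup.normalizer ((A ⊔ B : Subgroup G) : Set G) := by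
    rw [← hgen]
    refine sup_le (hnorm A B X hBV (hX.trans hLV) rfl hXA) ?_
    rw [sup_comm A B]
    exact hnorm B A X' hAV (hX'L.trans hLV) rfl hXB
  have hWle : ⁅V, L⁆ ≤ A ⊔ B := by
    rw [Subgroup.commutator_le]
    intro v hv l hl
    have hl' : l ∈ Subgroup.closure ((X : Set G) ∪ (X' : Set G)) := by
      rwa [Subgroup.closure_union, Subgroup.closure_eq, Subgroup.closure_eq, hgen]
    have hLcl : Subgroup.closure ((X : Set G) ∪ (X' : Set G)) ≤ L := by
      rw [Subgroup.closure_union, Subgroup.closure_eq, Subgroup.closure_eq, hgen]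
    induction hl' using Subgroup.closure_induction with
    | mem x hx =>
      rcases hx with hx | hx
      · exact Subgroup.mem_sup_left (Subgroup.commutator_mem_commutator hv hx)
      · exact Subgroup.mem_sup_right (Subgroup.commutator_mem_commutator hv hx)
    | one => rw [commutatorElement_one_right]; exact one_mem _
    | mul a b ha hb iha ihb =>
      have e : ⁅v, a * b⁆ = ⁅v, a⁆ * (a * ⁅v, b⁆ * a⁻¹) := by simp only [commutatorElement_def]; group
      rw [e]
      exact mul_mem (iha (hLcl ha)) ((Subgroup.mem_normalizer_iff.1 (hLn (hLcl ha)) _).1 (ihb (hLcl hb)))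
    | inv a ha iha =>
      have e : ⁅v, a⁻¹⁆ = a⁻¹ * ⁅v, a⁆⁻¹ * a⁻¹⁻¹ := by simp only [commutatorElement_def]; group
      rw [e]
      exact (Subgroup.mem_normalizer_iff.1 (inv_mem (hLn (hLcl ha))) _).1 (inv_mem (iha (hLcl ha)))
  have hle : A ⊔ B ≤ ⁅V, L⁆ :=
    sup_le (Subgroup.commutator_mono le_rfl hX) (Subgroup.commutator_mono le_rfl hX'L)
  have hcL : ∀ w, (∀ x ∈ X, w * x = x * w) → (∀ x ∈ X', w * x = x * w) →
      w ∈ Subgroup.centralizer (L : Set G) := by
    intro w h1 h2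
    have : L ≤ Subgroup.centralizer ({w} : Set G) := hgen ▸ sup_le
      (fun x hx => Subgroup.mem_centralizer_iff.2 fun y hy => by rw [Set.mem_singleton_iff.1 hy]; exact h1 x hx)
      (fun x hx => Subgroup.mem_centralizer_iff.2 fun y hy => by rw [Set.mem_singleton_iff.1 hy]; exact h2 x hx)
    exact Subgroup.mem_centralizer_iff.2 fun l hl => (Subgroup.mem_centralizer_iff.1 (this hl) w rfl).symm
  have hC : ⁅V, L⁆ ⊓ Subgroup.centralizer (X : Set G) ≤ A := by
    rintro w ⟨hw, hwX⟩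
    have hw' : w ∈ ((A ⊔ B : Subgroup G) : Set G) := hWle hw
    rw [Subgroup.coe_mul_of_left_le_normalizer_right A B (hAV.trans hVB)] at hw'
    obtain ⟨a, ha, b, hb, hab⟩ := hw'
    have hbX : ∀ x ∈ X, b * x = x * b := by
      intro x hx
      have h1 : Commute x w := Subgroup.mem_centralizer_iff.1 hwX x hx
      have h2 : Commute x a⁻¹ := (show Commute x a from (hXA a ha x hx).symm).inv_right
      have h3 : Commute x (a⁻¹ * w) := h2.mul_right h1
      rw [← hab, inv_mul_cancel_left] at h3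
      exact h3.eq.symm
    have hbL := Subgroup.mem_centralizer_iff.1 (hcL b hbX (hXB b hb)) g hg
    rw [hBA] at hb
    obtain ⟨a', ha', hab'⟩ := hb
    have h4 : b = a' := by
      have : g * a' * g⁻¹ = b := hab'
      calc b = g⁻¹ * (g * b) := by group
        _ = g⁻¹ * (b * g) := by rw [hbL]
        _ = a' := by rw [← this]; group
    rw [← hab]
    exact mul_mem ha (h4 ▸ ha')
  refine ⟨le_antisymm hle hWle, le_antisymm hC (le_inf (le_sup_left.trans hle) ?_), le_antisymm ?_ ?_⟩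
  · exact fun a ha => Subgroup.mem_centralizer_iff.2 fun x hx => (hXA a ha x hx).symm
  · rintro w ⟨hw, hwL⟩
    have hwA : w ∈ A := hC ⟨hw, Subgroup.centralizer_le hX hwL⟩
    refine ⟨hwA, ?_⟩
    rw [hBA]
    refine ⟨w, hwA, ?_⟩
    show g * w * g⁻¹ = w
    rw [Subgroup.mem_centralizer_iff.1 hwL g hg, mul_inv_cancel_right]
  · rintro w ⟨hwA, hwB⟩
    exact ⟨hle (Subgroup.mem_sup_left hwA), hcL w (hXA w hwA) (hXB w hwB)⟩

end Cfsg.Agent.S2833
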