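import Cfsg.Statements.S2834
import Cfsg.Agent.Lib.LocalEven.MinimalOver
import Cfsg.Agent.Lib.LocalEven.CoreOf

set_option autoImplicit false
open Cfsg

namespace Cfsg.Agent.S2834

section LLemma

variable {H : Type*} [Group H] [Finite H] {p : ℕ} [Fact p.Prime]

/-- Conjugation of a subgroup. -/
private abbrev cj (g : H) (X : Subgroup H) : Subgroup H := X.map (MulAut.conj g).toMonoidHom

private theorem cj_cj (g h : H) (X : Subgroup H) : cj g (cj h X) = cj (g * h) X := by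
  rw [cj, cj, cj, Subgroup.map_map]
  congr 1
  ext x
  simp [MulAut.conj_apply, mul_assoc]

private theorem cj_one (X : Subgroup H) : cj 1 X = X := by
  ext x; simp [cj, CfsgLib.LocalEven.mem_map_conj]

private theorem cj_normal (g : H) (N : Subgroup H) [N.Normal] : cj g N = N :=
  Subgroup.mem_normalizer_iff_map_conj_eq.1 (by rw [Subgroup.normalizer_eq_top]; trivial)

/-- `J` is generated by `O` and the conjugates of `A` it contains. -/
private def Gen (O A J : Subgroup H) : Prop :=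
  J ≤ O ⊔ ⨆ g : {g : H // cj g A ≤ J}, cj (g : H) A

private theorem gen_sup (O A J : Subgroup H) (c : H) (hJ : Gen O A J) : Gen O A (J ⊔ cj c A) := by
  have h1 : ∀ g, cj g A ≤ J ⊔ cj c A →
      cj g A ≤ ⨆ x : {g : H // cj g A ≤ J ⊔ cj c A}, cj (x : H) A := fun g hg =>
    le_iSup_of_le (⟨g, hg⟩ : {g : H // cj g A ≤ J ⊔ cj c A}) le_rfl
  refine sup_le ?_ (le_sup_of_le_right (h1 c le_sup_right))
  refine le_trans (b := O ⊔ ⨆ x : {g : H // cj g A ≤ J}, cj (x : H) A) hJ (sup_le_sup_left ?_ O)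
  exact iSup_le fun x => h1 x.1 (le_trans x.2 le_sup_left)

/-- A `p`-group over `J` either has no further conjugates of `A`, or has one normalizing `J`. -/
private theorem member_dichotomy (O A J P : Subgroup H) [O.Normal] (hOJ : O ≤ J) (hJ : Gen O A J)
    (hP : IsPGroup p ↥P) (hJP : J ≤ P) :
    ((∀ g, cj g A ≤ P → cj g A ≤ J) ∧ P ≤ Subgroup.normalizer (J : Set H)) ∨
      ∃ g, cj g A ≤ P ∧ ¬ cj g A ≤ J ∧ cj g A ≤ Subgroup.normalizer (J : Set H) := by
  classical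
  have hnorm : ∀ K : Subgroup H, J ≤ K → (∀ g, cj g A ≤ K → cj g A ≤ J) → ∀ n,
      n ∈ Subgroup.normalizer (K : Set H) → n ∈ Subgroup.normalizer (J : Set H) := by
    intro K hJK hK n hn
    refine CfsgLib.LocalEven.mem_normalizer_of_conj_le ((Subgroup.map_mono hJ).trans ?_)
    rw [Subgroup.map_sup, Subgroup.map_iSup]
    refine sup_le ((cj_normal n O).le.trans hOJ) (iSup_le fun g => ?_)
    show cj n (cj g.1 A) ≤ J
    rw [cj_cj]
    refine hK _ ?_
    rw [← cj_cj]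
    exact (Subgroup.map_mono (g.2.trans hJK)).trans (Subgroup.mem_normalizer_iff_map_conj_eq.1 hn).le
  obtain ⟨K, -, hK⟩ := Finite.exists_le_maximal
    (p := fun K : Subgroup H => J ≤ K ∧ K ≤ P ∧ ∀ g, cj g A ≤ K → cj g A ≤ J) (a := J)
    ⟨le_rfl, hJP, fun g h => h⟩
  obtain ⟨⟨hJK, hKP, hKJ⟩, hKmax⟩ := hK
  by_cases hKeq : K = P
  · subst hKeq
    exact Or.inl ⟨hKJ, fun n hn => hnorm K hJK hKJ n (Subgroup.le_normalizer hn)⟩
  right
  set N := P ⊓ Subgroup.normalizer (K : Set H) with hN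
  have hKN : K ≤ N := le_inf hKP Subgroup.le_normalizer
  by_contra hcon
  push Not at hcon
  have hNJ : ∀ g, cj g A ≤ N → cj g A ≤ J := by
    intro g hg
    by_contra hgJ
    exact hcon g (hg.trans inf_le_left) hgJ fun n hn => hnorm K hJK hKJ n (Subgroup.mem_inf.1 (hg hn)).2
  have hNK : N ≤ K := hKmax ⟨hJK.trans hKN, inf_le_left, hNJ⟩ hKN
  exact hKeq (CfsgLib.LocalEven.eq_of_inf_normalizer_le (p := p) hP hKP hNK)

/-- The core of the L-Lemma: a conjugate of `A` with a suitable subgroup `L`. -/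
private theorem exists_good (T : Sylow p H) (hmin : Cfsg.IsMinimalOver (T : Subgroup H)) (M : Subgroup H)
    (hM : IsCoatom M ∧ (T : Subgroup H) ≤ M) (A : Subgroup H) (hAT : A ≤ (T : Subgroup H))
    (hA : ¬ A ≤ Cfsg.pCore p H) :
    ∃ (a : H) (L : Subgroup H), cj a A ⊔ Cfsg.pCore p H ≤ L ∧ ∃ L₀ : Subgroup H,
      cj a A ⊔ Cfsg.pCoreOf p L ≤ L₀ ∧ L₀ < L ∧
      (∀ X : Subgroup H, cj a A ⊔ Cfsg.pCoreOf p L ≤ X → X < L → X ≤ L₀) ∧
      (∃ g : H, L₀ = L ⊓ cj g M) ∧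
      ∀ x ∈ L, x ∉ L₀ → cj a A ⊔ cj x (cj a A) ⊔ Cfsg.pCoreOf p L = L := by
  classical
  obtain ⟨hnc, M', hM', huniq⟩ := hmin
  obtain rfl : M = M' := huniq M hM
  set O := Cfsg.pCore p H with hO
  have hOn : O.Normal := inferInstance
  have hOp : IsPGroup p ↥O := CfsgLib.Cores.isPGroup_pCore p
  have hOT : O ≤ (T : Subgroup H) := CfsgLib.Cores.pCore_le_sylow T
  -- conjugates of `M` and the Sylow subgroups in them
  have huniq' : ∀ (g : H) (X : Subgroup H), cj g (T : Subgroup H) ≤ X → X ≠ ⊤ → X ≤ cj g M := by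
    intro g X hTX hX
    have h1 : cj g⁻¹ X ≤ M := CfsgLib.LocalEven.MinOver.le_of_ne_top huniq
      (by
        have := Subgroup.map_mono (f := (MulAut.conj g⁻¹).toMonoidHom) hTX
        rwa [show (cj g (T : Subgroup H)).map (MulAut.conj g⁻¹).toMonoidHom = cj g⁻¹ (cj g (T : Subgroup H)) from rfl,
          cj_cj, inv_mul_cancel, cj_one] at this)
      (fun h => hX (eq_top_iff.2 (le_of_eq_of_le (Subgroup.map_top_of_surjective _
        (MulAut.conj g).surjective).symm (by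
          rw [← h]
          show cj g (cj g⁻¹ X) ≤ X
          rw [cj_cj, mul_inv_cancel, cj_one]))))
    have := Subgroup.map_mono (f := (MulAut.conj g).toMonoidHom) h1
    rwa [show (cj g⁻¹ X).map (MulAut.conj g).toMonoidHom = cj g (cj g⁻¹ X) from rfl, cj_cj, mul_inv_cancel,
      cj_one] at this
  have hne : ∀ g, cj g M ≠ ⊤ := fun g => (CfsgLib.LocalEven.MinOver.isCoatom_map_conj hM.1 g).1
  have hTcj : ∀ g h : H, cj g (T : Subgroup H) ≤ cj h M → cj h M = cj g M := fun g h hle =>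
    le_antisymm (huniq' g _ hle (hne h))
      (((CfsgLib.LocalEven.MinOver.isCoatom_map_conj hM.1 h).le_iff_eq (hne g)).1 (huniq' g _ hle (hne h))).le
  have hsyl : ∀ (J : Subgroup H) (g : H), IsPGroup p ↥J → J ≤ cj g M →
      ∃ h, J ≤ cj h (T : Subgroup H) ∧ cj h (T : Subgroup H) ≤ cj g M ∧ cj h M = cj g M := by
    intro J g hJ hJg
    have hTg : cj g (T : Subgroup H) ≤ cj g M := Subgroup.map_mono hM.2
    set S : Sylow p H := g • T with hS
    have hSle : (S : Subgroup H) ≤ cj g M := hTg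
    obtain ⟨Q, hQ⟩ := (hJ.comap_subtype (K := cj g M)).exists_le_sylow
    obtain ⟨m, hm⟩ := MulAction.exists_smul_eq ↥(cj g M) (S.subtype hSle) Q
    refine ⟨(m : H) * g, fun x hx => ?_, ?_, ?_⟩
    · have hxQ : (⟨x, hJg hx⟩ : ↥(cj g M)) ∈ (Q : Subgroup ↥(cj g M)) := hQ hx
      rw [← hm] at hxQ
      obtain ⟨y, hy, hyx⟩ := hxQ
      obtain ⟨t, ht, hty⟩ := hy
      refine ⟨t, ht, ?_⟩
      have h1 : (m : H) * (y : H) * (m : H)⁻¹ = x := congrArg Subtype.val hyx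
      have h2 : g * t * g⁻¹ = (y : H) := hty
      show (m : H) * g * t * ((m : H) * g)⁻¹ = x
      rw [← h1, ← h2]
      group
    · rw [← cj_cj]
      exact (Subgroup.map_mono hTg).trans
        (Subgroup.mem_normalizer_iff_map_conj_eq.1 (Subgroup.le_normalizer m.2)).le
    · rw [← cj_cj]
      exact Subgroup.mem_normalizer_iff_map_conj_eq.1 (Subgroup.le_normalizer m.2)
  have hMn : ¬ M.Normal := fun h => hM.1.1 (eq_top_iff.2 (hnc ▸ Subgroup.normalClosure_le_normal hM.2))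
  -- a maximal `J`
  let Good : Subgroup H → Prop := fun J =>
    O ≤ J ∧ IsPGroup p ↥J ∧ Gen O A J ∧ ∃ g₁ g₂, J ≤ cj g₁ M ∧ J ≤ cj g₂ M ∧ cj g₁ M ≠ cj g₂ M
  have hGO : Good O := by
    refine ⟨le_rfl, hOp, le_sup_left, ?_⟩
    obtain ⟨g, hg⟩ : ∃ g, cj g M ≠ M := by
      by_contra hall
      push Not at hall
      exact hMn (Subgroup.normalizer_eq_top_iff.1 (eq_top_iff.2 fun g _ =>
        Subgroup.mem_normalizer_iff_map_conj_eq.2 (hall g)))
    exact ⟨g, 1, (cj_normal g O).ge.trans (Subgroup.map_mono (hOT.trans hM.2)),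
      (cj_one M).symm ▸ hOT.trans hM.2, by rwa [cj_one]⟩
  obtain ⟨J, -, hJmax'⟩ := Finite.exists_le_maximal (p := Good) hGO
  obtain ⟨⟨hOJ, hJp, hJgen, g₁, g₂, hJ₁, hJ₂, h12⟩, hJmax⟩ := hJmax'
  have huniqJ : ∀ c, cj c A ≤ Subgroup.normalizer (J : Set H) → ¬ cj c A ≤ J →
      ∀ g h, J ⊔ cj c A ≤ cj g M → J ⊔ cj c A ≤ cj h M → cj g M = cj h M := by
    intro c hcn hcJ g h hg hh
    by_contra hgh
    have hcp : IsPGroup p ↥(cj c A) := (T.2.to_le hAT).map _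
    have hG : Good (J ⊔ cj c A) := by
      exact ⟨hOJ.trans le_sup_left, IsPGroup.to_sup_of_normal_left' hJp hcp hcn,
        gen_sup O A J c hJgen, g, h, hg, hh, hgh⟩
    exact hcJ (le_sup_right.trans (hJmax hG le_sup_left))
  obtain ⟨h₁, hh₁, hh₁', he₁⟩ := hsyl J g₁ hJp hJ₁
  obtain ⟨h₂, hh₂, hh₂', he₂⟩ := hsyl J g₂ hJp hJ₂
  have hTp : ∀ h, IsPGroup p ↥(cj h (T : Subgroup H)) := fun h => T.2.map _
  -- a member normalizing `J` and a reason why `N(J)` is not in its maximal subgroup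
  obtain ⟨a, g₀, haP, haJ, haN, hK⟩ : ∃ a g₀, J ⊔ cj a A ≤ cj g₀ M ∧ ¬ cj a A ≤ J ∧
      cj a A ≤ Subgroup.normalizer (J : Set H) ∧ ¬ Subgroup.normalizer (J : Set H) ≤ cj g₀ M := by
    have main : ∀ (u v hu hv : H), J ≤ cj hu (T : Subgroup H) → J ≤ cj hv (T : Subgroup H) →
        cj hu (T : Subgroup H) ≤ cj u M → cj hv (T : Subgroup H) ≤ cj v M → cj u M ≠ cj v M →
        (∃ c, cj c A ≤ cj hu (T : Subgroup H) ∧ ¬ cj c A ≤ J ∧ cj c A ≤ Subgroup.normalizer (J : Set H)) →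
        ∃ a g₀, J ⊔ cj a A ≤ cj g₀ M ∧ ¬ cj a A ≤ J ∧
          cj a A ≤ Subgroup.normalizer (J : Set H) ∧ ¬ Subgroup.normalizer (J : Set H) ≤ cj g₀ M := by
      intro u v hu hv hJu hJv huM hvM huv ⟨c, hc, hcJ, hcn⟩
      refine ⟨c, u, (sup_le hJu hc).trans huM, hcJ, hcn, fun hle => ?_⟩
      rcases member_dichotomy O A J _ hOJ hJgen (hTp hv) hJv with ⟨-, hPn⟩ | ⟨d, hd, hdJ, hdn⟩
      · exact huv ((hTcj hv u (hPn.trans hle)).trans (hTcj hv v hvM).symm)
      · exact huv (huniqJ d hdn hdJ u v (sup_le (hJu.trans huM) (hdn.trans hle))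
          ((sup_le hJv hd).trans hvM))
    rcases member_dichotomy O A J _ hOJ hJgen (hTp h₁) hh₁ with ⟨hall, hP₁⟩ | hmem
    · rcases member_dichotomy O A J _ hOJ hJgen (hTp h₂) hh₂ with ⟨-, hP₂⟩ | hmem
      · exfalso
        by_cases htop : Subgroup.normalizer (J : Set H) = ⊤
        · have : J.Normal := Subgroup.normalizer_eq_top_iff.1 htop
          have hJO : J ≤ O := CfsgLib.Cores.le_pCore hJp
          have h' : cj h₁ A ≤ O := (hall h₁ (Subgroup.map_mono hAT)).trans hJO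
          apply hA
          have := Subgroup.map_mono (f := (MulAut.conj h₁⁻¹).toMonoidHom) h'
          rwa [show (cj h₁ A).map (MulAut.conj h₁⁻¹).toMonoidHom = cj h₁⁻¹ (cj h₁ A) from rfl, cj_cj,
            inv_mul_cancel, cj_one, show O.map (MulAut.conj h₁⁻¹).toMonoidHom = O from cj_normal h₁⁻¹ O] at this
        · exact h12 (he₁.symm.trans ((((CfsgLib.LocalEven.MinOver.isCoatom_map_conj hM.1 h₁).le_iff_eq (hne h₁)).1 le_rfl).trans
            ((hTcj h₂ h₁ (hP₂.trans (huniq' h₁ _ hP₁ htop))).trans he₂)))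
      · exact main g₂ g₁ h₂ h₁ hh₂ hh₁ hh₂' hh₁' h12.symm hmem
    · exact main g₁ g₂ h₁ h₂ hh₁ hh₂ hh₁' hh₂' h12 hmem
  set B := J ⊔ cj a A with hB
  have hBp : IsPGroup p ↥B := IsPGroup.to_sup_of_normal_left' hJp ((T.2.to_le hAT).map _) haN
  have hBK : B ≤ Subgroup.normalizer (J : Set H) := sup_le Subgroup.le_normalizer haN
  -- every p-group over `B` lies in `M₀`
  have hpB : ∀ U : Subgroup H, IsPGroup p ↥U → B ≤ U → U ≤ cj g₀ M := by
    intro U hU hBU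
    obtain ⟨S, hS⟩ := hU.exists_le_sylow
    obtain ⟨s, hs⟩ := MulAction.exists_smul_eq H T S
    have hUs : U ≤ cj s M := hS.trans (hs ▸ Subgroup.map_mono hM.2)
    rwa [huniqJ a haN haJ g₀ s haP (hBU.trans hUs)]
  obtain ⟨L, -, hLmin'⟩ := Finite.exists_le_minimal
    (p := fun L : Subgroup H => B ≤ L ∧ L ≤ Subgroup.normalizer (J : Set H) ∧ ¬ L ≤ cj g₀ M)
    (a := Subgroup.normalizer (J : Set H)) ⟨hBK, le_rfl, hK⟩
  obtain ⟨⟨hBL, hLK, hLM⟩, hLmin⟩ := hLmin'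
  have hJO : J ≤ Cfsg.pCoreOf p L := CfsgLib.LocalEven.le_pCoreOf (le_sup_left.trans hBL) hJp hLK
  have hOL := CfsgLib.LocalEven.pCoreOf_le p L
  have hBU : B ≤ cj a A ⊔ Cfsg.pCoreOf p L := sup_le (hJO.trans le_sup_right) le_sup_left
  have hUp : IsPGroup p ↥(cj a A ⊔ Cfsg.pCoreOf p L) :=
    IsPGroup.to_sup_of_normal_right' ((T.2.to_le hAT).map _) (CfsgLib.LocalEven.isPGroup_pCoreOf p L)
      ((le_sup_right.trans hBL).trans (CfsgLib.LocalEven.le_normalizer_pCoreOf p L))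
  have hUL : cj a A ⊔ Cfsg.pCoreOf p L ≤ L := sup_le (le_sup_right.trans hBL) hOL
  have hX : ∀ X : Subgroup H, B ≤ X → X < L → X ≤ cj g₀ M := by
    intro X hBX hXL
    by_contra h
    exact hXL.not_ge (hLmin ⟨hBX, hXL.le.trans hLK, h⟩ hXL.le)
  refine ⟨a, L, sup_le (le_sup_right.trans hBL) (hOJ.trans (le_sup_left.trans hBL)), L ⊓ cj g₀ M,
    le_inf hUL (hpB _ hUp hBU),
    lt_of_le_of_ne inf_le_left fun h => hLM (h ▸ inf_le_right),
    fun X hXU hXL => le_inf hXL.le (hX X (hBU.trans hXU) hXL), ⟨g₀, rfl⟩, fun x hx hx0 => ?_⟩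
  have hxA : cj x (cj a A) ≤ L :=
    (Subgroup.map_mono (le_sup_right.trans hBL)).trans
      (Subgroup.mem_normalizer_iff_map_conj_eq.1 (Subgroup.le_normalizer hx)).le
  by_contra hne'
  have hlt : cj a A ⊔ cj x (cj a A) ⊔ Cfsg.pCoreOf p L < L :=
    lt_of_le_of_ne (sup_le (sup_le (le_sup_right.trans hBL) hxA) hOL) hne'
  have hle := hX _ (hBU.trans (sup_le_sup_right le_sup_left _)) hlt
  have hJx : cj x J = J := Subgroup.mem_normalizer_iff_map_conj_eq.1 (hLK hx)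
  have hBx : cj x B ≤ cj g₀ M := by
    rw [cj, hB, Subgroup.map_sup]
    exact sup_le (hJx.le.trans (hJO.trans (le_sup_right.trans hle)))
      ((le_sup_right.trans le_sup_left).trans hle)
  have hB' : B ≤ cj (x⁻¹ * g₀) M := by
    rw [← cj_cj]
    have := Subgroup.map_mono (f := (MulAut.conj x⁻¹).toMonoidHom) hBx
    rwa [show (cj x B).map (MulAut.conj x⁻¹).toMonoidHom = cj x⁻¹ (cj x B) from rfl, cj_cj, inv_mul_cancel,
      cj_one] at this
  have heq := huniqJ a haN haJ g₀ (x⁻¹ * g₀) haP hB'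
  rw [← cj_cj] at heq
  have hxn : x⁻¹ ∈ Subgroup.normalizer ((cj g₀ M : Subgroup H) : Set H) :=
    Subgroup.mem_normalizer_iff_map_conj_eq.2 heq.symm
  have hnM : Subgroup.normalizer ((cj g₀ M : Subgroup H) : Set H) = cj g₀ M := by
    rcases (CfsgLib.LocalEven.MinOver.isCoatom_map_conj hM.1 g₀).le_iff.1
      (Subgroup.le_normalizer (H := cj g₀ M)) with h | h
    · exfalso
      have := Subgroup.normalizer_eq_top_iff.1 h
      apply hMn
      have h1 : cj g₀⁻¹ (cj g₀ M) = cj g₀ M := cj_normal g₀⁻¹ _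
      rw [cj_cj, inv_mul_cancel, cj_one] at h1
      rw [h1]
      infer_instance
    · exact h
  rw [hnM] at hxn
  exact hx0 (Subgroup.mem_inf.2 ⟨hx, by simpa using inv_mem hxn⟩)

end LLemma

/-- The L-Lemma: let H be a finite group with Sylow p-subgroup T such that H is T-minimal (generated by the conjugates of T, T in exactly one maximal subgroup M), and let A ≤ T with A not contained in O_p(H). Then there is a subgroup L of H containing A·O_p(H) such that (a) A·O_p(L) lies in exactly one maximal subgroup L₀ of L, and L₀ = L ∩ gMg⁻¹ for some g ∈ H; (b) L = ⟨A, xAx⁻¹⟩·O_p(L) for every x ∈ L outside L₀. -/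
theorem result {H : Type*} [Group H] [Finite H] {p : ℕ} [Fact p.Prime] (T : Sylow p H) (hmin : Cfsg.IsMinimalOver (T : Subgroup H)) (M : Subgroup H) (hM : IsCoatom M ∧ (T : Subgroup H) ≤ M) (A : Subgroup H) (hAT : A ≤ (T : Subgroup H)) (hA : ¬ A ≤ Cfsg.pCore p H) : ∃ L : Subgroup H, A ⊔ Cfsg.pCore p H ≤ L ∧ ∃ L₀ : Subgroup H, A ⊔ (Cfsg.pCoreOf p L) ≤ L₀ ∧ L₀ < L ∧ (∀ X : Subgroup H, A ⊔ (Cfsg.pCoreOf p L) ≤ X → X < L → X ≤ L₀) ∧ (∃ g : H, L₀ = L ⊓ ((M : Subgroup H).map (MulAut.conj (g : H)).toMonoidHom)) ∧ ∀ x ∈ L, x ∉ L₀ → (A ⊔ ((A : Subgroup H).map (MulAut.conj (x : H)).toMonoidHom)) ⊔ (Cfsg.pCoreOf p L) = L := by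
  obtain ⟨a, L, hAL, L₀, hUL₀, hL₀L, hmax, ⟨g, hg⟩, hgen⟩ := exists_good T hmin M hM A hAT hA
  have hcA : cj a⁻¹ (cj a A) = A := by rw [cj_cj, inv_mul_cancel, cj_one]
  have hmono : ∀ {X Y : Subgroup H}, X ≤ Y → cj a⁻¹ X ≤ cj a⁻¹ Y := fun h => Subgroup.map_mono h
  have hlt : ∀ {X Y : Subgroup H}, X < Y → cj a⁻¹ X < cj a⁻¹ Y := fun h =>
    lt_of_le_of_ne (hmono h.le) fun e => h.ne (Subgroup.map_injective (MulAut.conj a⁻¹).injective e)
  have hback : ∀ X : Subgroup H, cj a⁻¹ (cj a X) = X := fun X => by rw [cj_cj, inv_mul_cancel, cj_one]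
  have hback' : ∀ X : Subgroup H, cj a (cj a⁻¹ X) = X := fun X => by rw [cj_cj, mul_inv_cancel, cj_one]
  have hO : Cfsg.pCoreOf p (cj a⁻¹ L) = cj a⁻¹ (Cfsg.pCoreOf p L) :=
    CfsgLib.LocalEven.pCoreOf_map p (MulAut.conj a⁻¹) L
  refine ⟨cj a⁻¹ L, ?_, cj a⁻¹ L₀, ?_, hlt hL₀L, ?_, ⟨a⁻¹ * g, ?_⟩, ?_⟩
  · have h := hmono hAL
    simp only [cj, Subgroup.map_sup] at h hcA ⊢
    rwa [hcA, show (Cfsg.pCore p H).map (MulAut.conj a⁻¹).toMonoidHom = Cfsg.pCore p H from cj_normal a⁻¹ _] at h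
  · have h := hmono hUL₀
    simp only [cj, Subgroup.map_sup] at h hcA hO ⊢
    rwa [hcA, ← hO] at h
  · intro X hX hXL
    rw [← hback X]
    refine hmono (hmax (cj a X) ?_ ?_)
    · have h := Subgroup.map_mono (f := (MulAut.conj a).toMonoidHom) hX
      rw [Subgroup.map_sup, hO, show (cj a⁻¹ (Cfsg.pCoreOf p L)).map (MulAut.conj a).toMonoidHom =
        cj a (cj a⁻¹ (Cfsg.pCoreOf p L)) from rfl, hback'] at h
      exact h
    · refine lt_of_le_of_ne ?_ fun e => hXL.ne (by rw [← hback X, e])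
      have h := Subgroup.map_mono (f := (MulAut.conj a).toMonoidHom) hXL.le
      rwa [show (cj a⁻¹ L).map (MulAut.conj a).toMonoidHom = cj a (cj a⁻¹ L) from rfl, hback'] at h
  · show cj a⁻¹ L₀ = cj a⁻¹ L ⊓ cj (a⁻¹ * g) M
    rw [hg, ← cj_cj]
    exact Subgroup.map_inf L (cj g M) _ (MulAut.conj a⁻¹).injective
  · intro x hx hx0
    obtain ⟨y, hy, hyx⟩ := hx
    have hy0 : y ∉ L₀ := fun h => hx0 ⟨y, h, hyx⟩
    have h := congrArg (fun Z => cj a⁻¹ Z) (hgen y hy hy0)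
    have hxy : cj a⁻¹ (cj y (cj a A)) = cj x A := by
      rw [cj_cj, cj_cj, ← hyx]
      congr 1
      simp [MulAut.conj_apply, mul_assoc]
    rw [hO]
    simp only [cj, Subgroup.map_sup] at h hcA hxy ⊢
    rwa [hcA, hxy] at h

end Cfsg.Agent.S2834
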