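import Cfsg.Statements.S2835
import Cfsg.Agent.Lib.LocalEven.MinimalOver

set_option autoImplicit false
open Cfsg

namespace Cfsg.Agent.S2835

/-- Let L be a finite group, L₀ a maximal subgroup, T a Sylow p-subgroup of L₀ and Y ≤ T, and suppose L is Y-minimal (generated by the conjugates of Y, with Y in exactly one maximal subgroup, necessarily L₀). Then N_L(T) ≤ L₀, O_p(L) ≤ L₀ and T is a Sylow p-subgroup of L; N_L(L₀) = L₀; L = ⟨Y, gYg⁻¹⟩ for each g ∈ L outside L₀; and if Y is abelian then Y ∩ gYg⁻¹ = C_Y(L) for each such g. -/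
theorem result {L : Type*} [Group L] [Finite L] {p : ℕ} [Fact p.Prime] (L₀ : Subgroup L) (hL₀ : IsCoatom L₀) (T : Sylow p ↥L₀) (Y : Subgroup L) (hYT : Y ≤ (T : Subgroup ↥L₀).map L₀.subtype) (hmin : Cfsg.IsMinimalOver Y) : Subgroup.normalizer (((T : Subgroup ↥L₀).map L₀.subtype : Subgroup L) : Set L) ≤ L₀ ∧ Cfsg.pCore p L ≤ L₀ ∧ (∃ P : Sylow p L, (P : Subgroup L) = (T : Subgroup ↥L₀).map L₀.subtype) ∧ Subgroup.normalizer (L₀ : Set L) = L₀ ∧ (∀ g : L, g ∉ L₀ → Y ⊔ Y.map (MulAut.conj g).toMonoidHom = ⊤) ∧ (IsMulCommutative ↥Y → ∀ g : L, g ∉ L₀ → Y ⊓ Y.map (MulAut.conj g).toMonoidHom = Y ⊓ Subgroup.center L) := by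
  obtain ⟨hgen, M, ⟨hM, hYM⟩, huniq⟩ := hmin
  set T' := (T : Subgroup ↥L₀).map L₀.subtype with hT'
  have hT'L : T' ≤ L₀ := Subgroup.map_subtype_le _
  have hLM : L₀ = M := huniq L₀ ⟨hL₀, hYT.trans hT'L⟩
  subst hLM
  have hle : ∀ {X : Subgroup L}, Y ≤ X → X ≠ ⊤ → X ≤ L₀ := fun h1 h2 =>
    CfsgLib.LocalEven.MinOver.le_of_ne_top huniq h1 h2
  have hnc : ∀ X : Subgroup L, X.Normal → Y ≤ X → X = ⊤ := fun X hX hYX =>
    eq_top_iff.2 (hgen ▸ (haveI := hX; Subgroup.normalClosure_le_normal hYX))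
  have hNT : Subgroup.normalizer (T' : Set L) ≤ L₀ := by
    refine hle (hYT.trans Subgroup.le_normalizer) fun h => ?_
    exact hL₀.1 (eq_top_iff.2 (hnc T' (Subgroup.normalizer_eq_top_iff.1 h) hYT ▸ hT'L))
  have hTp : IsPGroup p T' := T.2.map _
  -- `T'` is a Sylow subgroup of `L`
  obtain ⟨P, hP⟩ := hTp.exists_le_sylow
  have hPT : (P : Subgroup L) = T' := by
    refine le_antisymm ?_ hP
    by_contra h
    haveI : Group.IsNilpotent ↥(P : Subgroup L) := P.2.isNilpotent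
    have hlt : T'.subgroupOf (P : Subgroup L) < ⊤ :=
      lt_top_iff_ne_top.2 fun h' => h (Subgroup.subgroupOf_eq_top.1 h')
    obtain ⟨x, hx1, hx2⟩ := SetLike.exists_of_lt (Group.normalizerCondition_of_isNilpotent _ hlt)
    have hxN : (x : L) ∈ Subgroup.normalizer (T' : Set L) := by
      refine Subgroup.mem_normalizer_iff.2 fun y => ⟨fun hy => ?_, fun hy => ?_⟩
      · exact (Subgroup.mem_normalizer_iff.1 hx1 ⟨y, hP hy⟩).1 hy
      · have hyP : y ∈ (P : Subgroup L) := by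
          have h1 := mul_mem (mul_mem (inv_mem x.2) (hP hy)) x.2
          simpa [mul_assoc] using h1
        exact (Subgroup.mem_normalizer_iff.1 hx1 ⟨y, hyP⟩).2 hy
    set D := ((P : Subgroup L) ⊓ L₀).subgroupOf L₀
    have hTD : (T : Subgroup ↥L₀) ≤ D := fun t ht => ⟨hP ⟨t, ht, rfl⟩, t.2⟩
    have hDp : IsPGroup p D := (P.2.to_le inf_le_left).comap_subtype
    have := T.3 hDp hTD
    exact hx2 ⟨⟨x, hNT hxN⟩, this ▸ ⟨x.2, hNT hxN⟩, rfl⟩
  have hconj : ∀ g, L₀.map (MulAut.conj g).toMonoidHom = L₀ → g ∈ Subgroup.normalizer (L₀ : Set L) :=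
    fun g h => Subgroup.mem_normalizer_iff_map_conj_eq.2 h
  have hN₀ : Subgroup.normalizer (L₀ : Set L) = L₀ := by
    refine le_antisymm (hle (hYM.trans Subgroup.le_normalizer) fun h => ?_) Subgroup.le_normalizer
    exact hL₀.1 (hnc L₀ (Subgroup.normalizer_eq_top_iff.1 h) hYM)
  have hO : Cfsg.pCore p L ≤ L₀ := by
    have h1 : Cfsg.pCore p L ≤ (P : Subgroup L) := CfsgLib.Cores.pCore_le_sylow P
    exact h1.trans (hPT ▸ hT'L)
  have hgen2 : ∀ g : L, g ∉ L₀ → Y ⊔ Y.map (MulAut.conj g).toMonoidHom = ⊤ := by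
    intro g hg
    by_contra h
    have h1 := le_sup_right.trans (hle le_sup_left h)
    refine hg (hN₀ ▸ ?_)
    have h2 : L₀.map (MulAut.conj g⁻¹).toMonoidHom = L₀ :=
      huniq _ ⟨CfsgLib.LocalEven.MinOver.isCoatom_map_conj hL₀ g⁻¹, fun y hy =>
        ⟨g * y * g⁻¹, h1 ⟨y, hy, rfl⟩, by show g⁻¹ * (g * y * g⁻¹) * g⁻¹⁻¹ = y; group⟩⟩
    have := Subgroup.inv_mem _ (hconj _ h2)
    rwa [inv_inv] at this
  refine ⟨hNT, hO, ⟨P, hPT⟩, hN₀, hgen2, fun hab g hg => ?_⟩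
  set Y' := Y.map (MulAut.conj g).toMonoidHom with hY'
  have hYc : ∀ a ∈ Y, ∀ b ∈ Y, a * b = b * a := fun a ha b hb =>
    congrArg Subtype.val (hab.is_comm.comm (⟨a, ha⟩ : ↥Y) ⟨b, hb⟩)
  apply le_antisymm
  · rintro y ⟨hy, hy'⟩
    refine ⟨hy, ?_⟩
    have h1 : Y ⊔ Y' ≤ Subgroup.centralizer ({y} : Set L) := by
      refine sup_le (fun a ha => Subgroup.mem_centralizer_iff.2 fun b hb => ?_)
        (fun a ha => Subgroup.mem_centralizer_iff.2 fun b hb => ?_)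
      · rw [Set.mem_singleton_iff.1 hb]; exact hYc y hy a ha
      · rw [Set.mem_singleton_iff.1 hb]
        obtain ⟨a₁, ha₁, rfl⟩ := ha
        obtain ⟨y₁, hy₁, rfl⟩ := hy'
        rw [← map_mul, hYc y₁ hy₁ a₁ ha₁, map_mul]
    rw [hgen2 g hg] at h1
    exact Subgroup.mem_center_iff.2 fun x => (Subgroup.mem_centralizer_iff.1 (h1 (Subgroup.mem_top x)) y rfl).symm
  · rintro y ⟨hy, hyc⟩
    refine ⟨hy, y, hy, ?_⟩
    show g * y * g⁻¹ = y
    rw [Subgroup.mem_center_iff.1 hyc g, mul_inv_cancel_right]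

end Cfsg.Agent.S2835
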