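import Cfsg.Statements.S2836
import Cfsg.Agent.Lib.LocalEven.MinimalOver
import Cfsg.Agent.Lib.Cores.Basic
import Mathlib.Algebra.Group.Subgroup.Order

set_option autoImplicit false
open Cfsg

namespace Cfsg.Agent.S2836

variable {L : Type*} [Group L] [Finite L] {p : ℕ} [Fact p.Prime]

/-- A subgroup supplementing a normal subgroup of the unique maximal subgroup over `Y` and containing a conjugate
of `Y` is everything. -/
private theorem eq_top_of_conj_le {Y L₀ N K : Subgroup L} [N.Normal] (hL₀ : IsCoatom L₀)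
    (huniq : ∀ M : Subgroup L, IsCoatom M ∧ Y ≤ M → M = L₀) (hN : N ≤ L₀) (hNK : N ⊔ K = ⊤) (g : L)
    (hg : Y ≤ K.map (MulAut.conj g).toMonoidHom) : K = ⊤ := by
  have hmapN : N.map (MulAut.conj g).toMonoidHom = N :=
    Subgroup.mem_normalizer_iff_map_conj_eq.1 (by rw [Subgroup.normalizer_eq_top]; trivial)
  have htop : (⊤ : Subgroup L).map (MulAut.conj g).toMonoidHom = ⊤ :=
    Subgroup.map_top_of_surjective _ (MulAut.conj g).surjective
  by_contra hK
  have hle := CfsgLib.LocalEven.MinOver.le_of_ne_top huniq hg fun h =>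
    hK (Subgroup.map_injective (MulAut.conj g).injective (h.trans htop.symm))
  apply hL₀.1
  rw [eq_top_iff, ← htop, ← hNK, Subgroup.map_sup, hmapN]
  exact sup_le hN hle

/-- The version with a `p'`-index. -/
private theorem eq_top_of_not_dvd_index {Y L₀ N K : Subgroup L} [N.Normal] (hY : IsPGroup p ↥Y)
    (hL₀ : IsCoatom L₀) (huniq : ∀ M : Subgroup L, IsCoatom M ∧ Y ≤ M → M = L₀) (hN : N ≤ L₀)
    (hNK : N ⊔ K = ⊤) (hK : ¬ p ∣ K.index) : K = ⊤ := by
  obtain ⟨x, hx⟩ := hY.nonempty_fixed_point_of_prime_not_dvd_card (L ⧸ K) (by rwa [← Subgroup.index_eq_card])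
  obtain ⟨g, rfl⟩ := QuotientGroup.mk_surjective x
  refine eq_top_of_conj_le hL₀ huniq hN hNK g fun y hy => ⟨g⁻¹ * y * g, ?_, ?_⟩
  · have h1 : ((y * g : L) : L ⧸ K) = (g : L ⧸ K) := hx ⟨y, hy⟩
    have h2 := QuotientGroup.eq.1 h1.symm
    rwa [← mul_assoc] at h2
  · show g * (g⁻¹ * y * g) * g⁻¹ = y
    group

omit [Fact p.Prime] in
private theorem not_dvd_index_of_sup_eq_top {N K P : Subgroup L} [N.Normal] (hNK : N ⊔ K = ⊤)
    (hPN : P ≤ N) (hPK : P ≤ K) (h : ¬ p ∣ P.relIndex N) : ¬ p ∣ K.index := by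
  intro hd
  apply h
  rw [← Subgroup.relIndex_mul_relIndex P (K ⊓ N) N (le_inf hPK hPN) inf_le_right, Subgroup.inf_relIndex_right]
  refine Dvd.dvd.mul_left ?_ _
  have hN : N.relIndex K = N.index := by
    rw [← Subgroup.relIndex_sup_left (K := N) (H := K), hNK, Subgroup.relIndex_top_right]
  have h2 : K.relIndex N * N.index = K.index * N.index := by
    calc K.relIndex N * N.index = (K ⊓ N).relIndex N * N.index := by rw [Subgroup.inf_relIndex_right]
      _ = (K ⊓ N).index := Subgroup.relIndex_mul_index inf_le_right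
      _ = (K ⊓ N).relIndex K * K.index := (Subgroup.relIndex_mul_index inf_le_left).symm
      _ = K.index * N.index := by rw [Subgroup.inf_relIndex_left, hN, mul_comm]
  rwa [mul_right_cancel₀ Subgroup.index_ne_zero_of_finite h2]

omit [Finite L] [Fact p.Prime] in
private theorem exists_sylow_map {A : Type*} [Group A] [Finite A] (C : Subgroup A) [C.Normal] {r : ℕ}
    (hr : Fact r.Prime) (S : Sylow r (A ⧸ C)) :
    ∃ R₁ : Sylow r A, (R₁ : Subgroup A).map (QuotientGroup.mk' C) = (S : Subgroup (A ⧸ C)) := by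
  obtain ⟨R₁, h⟩ := Sylow.mapSurjective_surjective (QuotientGroup.mk'_surjective C) r S
  exact ⟨R₁, congrArg Sylow.toSubgroup h⟩

/-- Normal subgroups of `L₀` have a normal Sylow subgroup which is normal in `L`. -/
private theorem exists_sylow_normal {Y L₀ N : Subgroup L} [N.Normal] (hY : IsPGroup p ↥Y)
    (hL₀ : IsCoatom L₀) (huniq : ∀ M : Subgroup L, IsCoatom M ∧ Y ≤ M → M = L₀) (hN : N ≤ L₀) :
    ∃ Q : Sylow p ↥N, ((Q : Subgroup ↥N).map N.subtype).Normal := by
  obtain ⟨U, hU⟩ := hY.exists_le_sylow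
  obtain ⟨Q, hQ⟩ := CfsgLib.LocalEven.exists_sylow_eq_inf_of_isSubnormal U (K := N) (Subgroup.Normal.isSubnormal ‹_›)
  have hfr := Sylow.normalizer_sup_eq_top Q
  refine ⟨Q, Subgroup.normalizer_eq_top_iff.1 (eq_top_of_conj_le hL₀ huniq hN ?_ 1 ?_)⟩
  · rw [sup_comm]; exact hfr
  · intro y hy
    refine ⟨y, ?_, by simp⟩
    rw [hQ, Subgroup.subgroupOf_map_subtype]
    refine Subgroup.mem_normalizer_iff.2 fun x => and_congr
      (Subgroup.mem_normalizer_iff.1 (Subgroup.le_normalizer (hU hy)) x) (Subgroup.mem_normalizer_iff.1 ?_ x)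
    rw [Subgroup.normalizer_eq_top]
    exact Subgroup.mem_top y

/-- Normal subgroups of `L₀` are `p`-closed with nilpotent `p'`-quotient. -/
private theorem normal_le_structure {Y L₀ N : Subgroup L} [N.Normal] (hY : IsPGroup p ↥Y) (hL₀ : IsCoatom L₀)
    (hu : ∀ M : Subgroup L, IsCoatom M ∧ Y ≤ M → M = L₀) (hNL : N ≤ L₀) :
    Cfsg.IsPClosed p ↥N ∧ Group.IsNilpotent (↥N ⧸ Cfsg.pCore p ↥N) ∧
      (Nat.card (↥N ⧸ Cfsg.pCore p ↥N)).Coprime p := by
  obtain ⟨Q, hQn⟩ := exists_sylow_normal hY hL₀ hu hNL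
  have hQn' : (Q : Subgroup ↥N).Normal := by
    rw [← Subgroup.comap_map_eq_self_of_injective N.subtype_injective (Q : Subgroup ↥N)]
    exact hQn.comap _
  have hcore : Cfsg.pCore p ↥N = (Q : Subgroup ↥N) := CfsgLib.Cores.pCore_eq_of_normal_sylow Q
  have hcard : ¬ p ∣ Nat.card (↥N ⧸ Cfsg.pCore p ↥N) := by
    rw [← Subgroup.index_eq_card, hcore]
    exact Q.not_dvd_index
  refine ⟨fun P => ?_, ?_, (CfsgLib.Cores.coprime_iff_not_dvd Fact.out _).2 hcard⟩
  · have : (P : Subgroup ↥N) = Q := by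
      have h1 : (Q : Subgroup ↥N) ≤ P := hcore ▸ CfsgLib.Cores.pCore_le_sylow P
      exact Q.is_maximal' P.2 h1
    rwa [this]
  refine (Group.isNilpotent_of_finite_tfae.out 0 3).2 fun r hr S => ?_
  haveI := hr
  by_cases hrp : r = p
  · subst hrp
    have : (S : Subgroup (↥N ⧸ Cfsg.pCore r ↥N)) = ⊥ := by
      obtain ⟨n, hn⟩ := IsPGroup.iff_card.1 S.2
      refine Subgroup.card_eq_one.1 ?_
      rcases n with _ | n
      · simpa using hn
      · exfalso
        have h := Subgroup.card_subgroup_dvd_card (S : Subgroup (↥N ⧸ Cfsg.pCore r ↥N))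
        rw [hn] at h
        exact hcard ((dvd_pow_self r n.succ_ne_zero).trans h)
    rw [this]
    infer_instance
  have hex := exists_sylow_map (A := ↥N) (Cfsg.pCore p ↥N) (r := r) hr
  obtain ⟨R₁, hR₁⟩ := hex S
  set X := (R₁ : Subgroup ↥N).map N.subtype ⊔ (Q : Subgroup ↥N).map N.subtype with hX
  have hXn : X.Normal := by
    refine Subgroup.normalizer_eq_top_iff.1 (eq_top_of_not_dvd_index hY hL₀ hu hNL ?_ ?_)
    · refine eq_top_iff.2 ((Sylow.normalizer_sup_eq_top R₁).ge.trans ?_)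
      rw [sup_comm]
      refine sup_le_sup_left (fun g hg => CfsgLib.LocalEven.mem_normalizer_of_conj_le ?_) N
      rw [hX, Subgroup.map_sup]
      exact sup_le_sup (Subgroup.mem_normalizer_iff_map_conj_eq.1 hg).le (Subgroup.mem_normalizer_iff_map_conj_eq.1
        ((Subgroup.normalizer_eq_top_iff.2 hQn).symm ▸ Subgroup.mem_top g)).le
    · refine not_dvd_index_of_sup_eq_top (N := N) (P := (Q : Subgroup ↥N).map N.subtype) ?_
        (Subgroup.map_subtype_le _) (le_sup_right.trans Subgroup.le_normalizer) ?_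
      · refine eq_top_iff.2 ((Sylow.normalizer_sup_eq_top R₁).ge.trans ?_)
        rw [sup_comm]
        refine sup_le_sup_left (fun g hg => CfsgLib.LocalEven.mem_normalizer_of_conj_le ?_) N
        rw [hX, Subgroup.map_sup]
        exact sup_le_sup (Subgroup.mem_normalizer_iff_map_conj_eq.1 hg).le (Subgroup.mem_normalizer_iff_map_conj_eq.1
          ((Subgroup.normalizer_eq_top_iff.2 hQn).symm ▸ Subgroup.mem_top g)).le
      · rw [Subgroup.relIndex, Subgroup.subgroupOf, Subgroup.comap_map_eq_self_of_injective N.subtype_injective]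
        exact Q.not_dvd_index
  have h1 : ((R₁ : Subgroup ↥N) ⊔ Q).Normal := by
    rw [← Subgroup.comap_map_eq_self_of_injective N.subtype_injective ((R₁ : Subgroup ↥N) ⊔ Q), Subgroup.map_sup]
    exact hXn.comap _
  have h2 : ((R₁ : Subgroup ↥N).map (QuotientGroup.mk' (Cfsg.pCore p ↥N))) =
      ((R₁ : Subgroup ↥N) ⊔ Q).map (QuotientGroup.mk' (Cfsg.pCore p ↥N)) := by
    rw [Subgroup.map_sup, (Subgroup.map_eq_bot_iff (Q : Subgroup ↥N)).2
      (by rw [QuotientGroup.ker_mk', hcore]), sup_bot_eq]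
  rw [← hR₁, h2]
  exact h1.map _ (QuotientGroup.mk'_surjective _)

/-- Let L be a finite group, L₀ a maximal subgroup, T a Sylow p-subgroup of L₀, Y ≤ T, and suppose L is Y-minimal. Let D be the intersection of the conjugates of L₀ (the core of L₀). Then D contains O_p(L) and D/O_p(L) is the Frattini subgroup of L/O_p(L), so D is p-closed; and every normal subgroup N of L contained in L₀ is p-closed with N/O_p(N) a nilpotent group of order prime to p. -/
theorem result {L : Type*} [Group L] [Finite L] {p : ℕ} [Fact p.Prime] (L₀ : Subgroup L) (hL₀ : IsCoatom L₀) (T : Sylow p ↥L₀) (Y : Subgroup L) (hYT : Y ≤ (T : Subgroup ↥L₀).map L₀.subtype) (hmin : Cfsg.IsMinimalOver Y) : (Cfsg.pCore p L ≤ L₀.normalCore ∧ (L₀.normalCore).map (QuotientGroup.mk' (Cfsg.pCore p L)) = frattini (L ⧸ Cfsg.pCore p L) ∧ Cfsg.IsPClosed p ↥(L₀.normalCore)) ∧ ∀ (N : Subgroup L) [N.Normal], N ≤ L₀ → Cfsg.IsPClosed p ↥N ∧ Group.IsNilpotent (↥N ⧸ Cfsg.pCore p ↥N) ∧ (Nat.card (↥N ⧸ Cfsg.pCore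 p ↥N)).Coprime p := by
  obtain ⟨hnc, M, hM, hu⟩ := hmin
  have hYL₀ : Y ≤ L₀ := hYT.trans (Subgroup.map_subtype_le _)
  obtain rfl : L₀ = M := hu L₀ ⟨hL₀, hYL₀⟩
  have hY : IsPGroup p ↥Y := (T.2.map _).to_le hYT
  set R := Cfsg.pCore p L with hR
  have hRL₀ : R ≤ L₀ := by
    by_cases h : Y ⊔ R = ⊤
    · exfalso
      have hp : IsPGroup p ↥(Y ⊔ R) := IsPGroup.to_sup_of_normal_right hY (CfsgLib.Cores.isPGroup_pCore p)
      rw [h] at hp
      have := (hp.of_equiv Subgroup.topEquiv).isNilpotent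
      have hn : L₀.Normal := Subgroup.NormalizerCondition.normal_of_coatom L₀ Group.normalizerCondition_of_isNilpotent hL₀
      exact hL₀.1 (eq_top_iff.2 (hnc ▸ Subgroup.normalClosure_le_normal hYL₀))
    · exact le_sup_right.trans (CfsgLib.LocalEven.MinOver.le_of_ne_top hu le_sup_left h)
  have hN : ∀ (N : Subgroup L) [N.Normal], N ≤ L₀ →
      Cfsg.IsPClosed p ↥N ∧ Group.IsNilpotent (↥N ⧸ Cfsg.pCore p ↥N) ∧
        (Nat.card (↥N ⧸ Cfsg.pCore p ↥N)).Coprime p := fun N _ hNL => normal_le_structure hY hL₀ hu hNL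
  set D := L₀.normalCore with hD
  have hDn : D.Normal := Subgroup.normalCore_normal L₀
  have hDL : D ≤ L₀ := Subgroup.normalCore_le L₀
  have hRD : R ≤ D := (Subgroup.normal_le_normalCore.2 hRL₀)
  refine ⟨⟨hRD, le_antisymm ?_ ?_, (hN D hDL).1⟩, hN⟩
  · rw [frattini, Order.radical]
    refine le_iInf₂ fun M' hM' => ?_
    have hsurj := QuotientGroup.mk'_surjective R
    set M := M'.comap (QuotientGroup.mk' R) with hMdef
    rw [Subgroup.map_le_iff_le_comap, ← hMdef]
    have hRM : R ≤ M := by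
      have : (QuotientGroup.mk' R).ker ≤ M := Subgroup.ker_le_comap _ _
      rwa [QuotientGroup.ker_mk'] at this
    by_contra hDM
    have hsup : D ⊔ M = ⊤ := by
      have h1 : M' ≤ (D ⊔ M).map (QuotientGroup.mk' R) := by
        rw [Subgroup.map_sup, hMdef, Subgroup.map_comap_eq_self_of_surjective hsurj]
        exact le_sup_right
      rcases (IsCoatom.le_iff (hM' : IsCoatom M')).1 h1 with h | h
      · have h2 := congrArg (Subgroup.comap (QuotientGroup.mk' R)) h
        rwa [Subgroup.comap_map_eq, QuotientGroup.ker_mk', Subgroup.comap_top,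
          sup_eq_left.2 (hRM.trans le_sup_right)] at h2
      · exfalso
        apply hDM
        rw [hMdef, ← Subgroup.map_le_iff_le_comap, ← h]
        exact Subgroup.map_mono le_sup_left
    obtain ⟨Q, hQn⟩ := exists_sylow_normal hY hL₀ hu hDL
    have hQR : (Q : Subgroup ↥D).map D.subtype ≤ R := CfsgLib.Cores.le_pCore (Q.2.map _)
    have hM : M = ⊤ := eq_top_of_not_dvd_index hY hL₀ hu hDL hsup
      (not_dvd_index_of_sup_eq_top hsup (Subgroup.map_subtype_le _) (hQR.trans hRM)
        (by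
          rw [Subgroup.relIndex, Subgroup.subgroupOf, Subgroup.comap_map_eq_self_of_injective D.subtype_injective]
          exact Q.not_dvd_index))
    exact hDM (hM ▸ le_top)
  · have hF : (frattini (L ⧸ R)).comap (QuotientGroup.mk' R) ≤ L₀ := by
      have hco : IsCoatom (L₀.map (QuotientGroup.mk' R)) := by
        refine ⟨fun h => hL₀.1 ?_, fun X hX => ?_⟩
        · have h2 := congrArg (Subgroup.comap (QuotientGroup.mk' R)) h
          rwa [Subgroup.comap_map_eq, QuotientGroup.ker_mk', Subgroup.comap_top, sup_eq_left.2 hRL₀] at h2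
        · have h1 : L₀ < X.comap (QuotientGroup.mk' R) := by
            refine lt_of_le_of_ne (Subgroup.map_le_iff_le_comap.1 hX.le) fun h => hX.ne ?_
            rw [h, Subgroup.map_comap_eq_self_of_surjective (QuotientGroup.mk'_surjective R)]
          rw [← Subgroup.map_comap_eq_self_of_surjective (QuotientGroup.mk'_surjective R) X, hL₀.2 _ h1,
            Subgroup.map_top_of_surjective _ (QuotientGroup.mk'_surjective R)]
      refine (Subgroup.comap_mono (frattini_le_coatom hco)).trans ?_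
      rw [Subgroup.comap_map_eq, QuotientGroup.ker_mk']
      exact sup_le le_rfl hRL₀
    rw [← Subgroup.map_comap_eq_self_of_surjective (QuotientGroup.mk'_surjective R) (frattini (L ⧸ R))]
    exact Subgroup.map_mono (Subgroup.normal_le_normalCore.2 hF)

end Cfsg.Agent.S2836
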