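import Cfsg.Statements.S2837
import Cfsg.Agent.Lib.LocalEven.MinimalOver
import Cfsg.Agent.Lib.PGroup.Basic
import Cfsg.Agent.Lib.Transfer.Critical

set_option autoImplicit false
open Cfsg
open scoped commutatorElement

namespace Cfsg.Agent.S2837

/-- Two elementary abelian subgroups centralizing each other generate one. -/
private theorem sup_elementary {Q : Type*} [Group Q] {p : ℕ} {U V : Subgroup Q}
    (hU : U ≤ Subgroup.centralizer (U : Set Q)) (hV : V ≤ Subgroup.centralizer (V : Set Q))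
    (hUV : U ≤ Subgroup.centralizer (V : Set Q)) (hUp : ∀ u ∈ U, u ^ p = 1) (hVp : ∀ v ∈ V, v ^ p = 1) :
    U ⊔ V ≤ Subgroup.centralizer ((U ⊔ V : Subgroup Q) : Set Q) ∧ ∀ x ∈ U ⊔ V, x ^ p = 1 := by
  have hc : U ⊔ V ≤ Subgroup.centralizer ((U ⊔ V : Subgroup Q) : Set Q) := by
    have hVU : V ≤ Subgroup.centralizer (U : Set Q) := Subgroup.le_centralizer_iff.1 hUV
    refine sup_le ?_ ?_ <;> rw [Subgroup.le_centralizer_iff] <;> exact sup_le (by assumption) (by assumption)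
  refine ⟨hc, fun x hx => ?_⟩
  rw [Subgroup.sup_eq_closure] at hx
  induction hx using Subgroup.closure_induction with
  | mem y hy => exact hy.elim (hUp y) (hVp y)
  | one => exact one_pow p
  | mul y z hy hz ihy ihz =>
    rw [← Subgroup.sup_eq_closure] at hy hz
    have h : Commute y z := Subgroup.mem_centralizer_iff.1 (hc hz) y hy
    rw [h.mul_pow, ihy, ihz, one_mul]
  | inv y _ ihy => rw [inv_pow, ihy, inv_one]

/-- Let L be a finite group of characteristic p, L₀ a maximal subgroup, Y an elementary abelian p-subgroup of L₀ with L Y-minimal and O_p(L) ≤ N_L(Y). Put A = the normal closure of O_p(L) ∩ Y in L. Then for every g ∈ L outside L₀: Φ(A) = A' = [A ∩ Y, A] = [A ∩ Y, A ∩ gYg⁻¹] ≤ C_Y(L), and Y ∩ gYg⁻¹ = (A ∩ Y) ∩ (A ∩ gYg⁻¹) = C_Y(L) = C_A(L). -/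
theorem result {L : Type*} [Group L] [Finite L] {p : ℕ} [Fact p.Prime] (hchar : Subgroup.centralizer (Cfsg.pCore p L : Set L) ≤ Cfsg.pCore p L) (L₀ : Subgroup L) (hL₀ : IsCoatom L₀) (Y : Subgroup L) (hYL₀ : Y ≤ L₀) (hYel : Cfsg.IsElementaryAbelian p Y) (hmin : Cfsg.IsMinimalOver Y) (hOY : Cfsg.pCore p L ≤ Subgroup.normalizer (Y : Set L)) (A : Subgroup L) (hA : A = Subgroup.normalClosure (((Cfsg.pCore p L ⊓ Y : Subgroup L)) : Set L)) (g : L) (hg : g ∉ L₀) : (frattini ↥A).map A.subtype = ⁅A, A⁆ ∧ ⁅A, A⁆ = ⁅A ⊓ Y, A⁆ ∧ ⁅A ⊓ Y, A⁆ = ⁅A ⊓ Y, A ⊓ Y.map (MulAut.conj g).toMonoidHom⁆ ∧ ⁅A ⊓ Y, A⁆ ≤ Y ⊓ Subgroup.center L ∧ Y ⊓ Y.map (MulAut.conj g).toMonoidHom = Y ⊓ Subgroup.center L ∧ (A ⊓ Y) ⊓ (A ⊓ Y.map (MulAut.conj g).toMonoidHom) = Y ⊓ Subgroup.center L ∧ A ⊓ Subgroup.center L = Y ⊓ Subgroup.center L := by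
  obtain ⟨hnc, M, hM, hu⟩ := hmin
  obtain rfl : L₀ = M := hu L₀ ⟨hL₀, hYL₀⟩
  set R := Cfsg.pCore p L with hR
  set Y' := Y.map (MulAut.conj g).toMonoidHom with hY'def
  have hRn : R.Normal := inferInstance
  have hRp : IsPGroup p ↥R := CfsgLib.Cores.isPGroup_pCore p
  -- `L` is generated by `Y` and `Y'`
  have hgen : Y ⊔ Y' = ⊤ := by
    by_contra h
    have hle := CfsgLib.LocalEven.MinOver.le_of_ne_top hu le_sup_left h
    have hY'L₀ : Y' ≤ L₀ := le_sup_right.trans hle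
    have h1 : L₀.map (MulAut.conj g⁻¹).toMonoidHom = L₀ := hu _
      ⟨CfsgLib.LocalEven.MinOver.isCoatom_map_conj hL₀ g⁻¹, fun y hy =>
        ⟨g * y * g⁻¹, hY'L₀ ⟨y, hy, rfl⟩, by simp [mul_assoc]⟩⟩
    have hn : g⁻¹ ∈ Subgroup.normalizer (L₀ : Set L) := Subgroup.mem_normalizer_iff_map_conj_eq.2 h1
    rcases hL₀.le_iff.1 (Subgroup.le_normalizer (H := L₀)) with h2 | h2
    · have := Subgroup.normalizer_eq_top_iff.1 h2
      exact hL₀.1 (eq_top_iff.2 (hnc ▸ Subgroup.normalClosure_le_normal hYL₀))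
    · rw [h2] at hn
      exact hg (by simpa using inv_mem hn)
  have hYcomm : Y ≤ Subgroup.centralizer (Y : Set L) := fun a ha => Subgroup.mem_centralizer_iff.2 fun b hb =>
    congrArg Subtype.val (hYel.1.is_comm.comm ⟨b, hb⟩ ⟨a, ha⟩)
  have hY'comm : Y' ≤ Subgroup.centralizer (Y' : Set L) := by
    rintro _ ⟨a, ha, rfl⟩
    rw [Subgroup.mem_centralizer_iff]
    rintro _ ⟨b, hb, rfl⟩
    rw [← map_mul, Subgroup.mem_centralizer_iff.1 (hYcomm ha) b hb, map_mul]
  have hOY' : R ≤ Subgroup.normalizer (Y' : Set L) := by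
    have h1 := Subgroup.map_mono (f := (MulAut.conj g).toMonoidHom) hOY
    have e : R.map (MulAut.conj g).toMonoidHom = R :=
      Subgroup.mem_normalizer_iff_map_conj_eq.1 (show g ∈ Subgroup.normalizer (R : Set L) by
        rw [Subgroup.normalizer_eq_top]; exact Subgroup.mem_top g)
    rw [e, Subgroup.map_equiv_normalizer_eq] at h1
    exact h1
  have hZ : Y ⊓ Subgroup.center L ≤ Y' := fun z hz =>
    ⟨z, hz.1, by
      show g * z * g⁻¹ = z
      rw [Subgroup.mem_center_iff.1 hz.2 g, mul_inv_cancel_right]⟩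
  have hZ' : Y' ⊓ Subgroup.center L ≤ Y := by
    rintro _ ⟨⟨y, hy, rfl⟩, hyc⟩
    have hyc' : g * y * g⁻¹ ∈ Subgroup.center L := hyc
    have h1 : g⁻¹ * (g * y * g⁻¹) * g = g * y * g⁻¹ := by
      rw [Subgroup.mem_center_iff.1 hyc' g⁻¹, inv_mul_cancel_right]
    rw [show g⁻¹ * (g * y * g⁻¹) * g = y by group] at h1
    show g * y * g⁻¹ ∈ Y
    rw [← h1]
    exact hy
  have hYY' : Y ⊓ Y' = Y ⊓ Subgroup.center L := by
    refine le_antisymm (le_inf inf_le_left ?_) (le_inf inf_le_left hZ)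
    intro z hz
    refine Subgroup.mem_center_iff.2 fun x => ?_
    have h1 : Y ⊔ Y' ≤ Subgroup.centralizer ({z} : Set L) :=
      sup_le (fun a ha => Subgroup.mem_centralizer_iff.2 (by
          rintro _ rfl; exact Subgroup.mem_centralizer_iff.1 (hYcomm ha) _ hz.1))
        (fun a ha => Subgroup.mem_centralizer_iff.2 (by
          rintro _ rfl; exact Subgroup.mem_centralizer_iff.1 (hY'comm ha) _ hz.2))
    rw [hgen] at h1
    exact (Subgroup.mem_centralizer_iff.1 (h1 (Subgroup.mem_top x)) z rfl).symm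
  set W := R ⊓ Y with hW
  set W' := R ⊓ Y' with hW'
  have hW'A : W' ≤ A := by
    rw [hA]
    rintro _ ⟨hxR, y, hy, rfl⟩
    have hyR : y ∈ R := by
      have := hRn.conj_mem _ hxR g⁻¹
      rwa [show g⁻¹ * (MulAut.conj g).toMonoidHom y * g⁻¹⁻¹ = y from by simp [mul_assoc]] at this
    exact Subgroup.Normal.conj_mem inferInstance y (Subgroup.subset_normalClosure (SetLike.mem_coe.2 (Subgroup.mem_inf.2 ⟨hyR, hy⟩))) g
  have hcommY : ∀ y ∈ Y, ∀ r ∈ R, ⁅y, r⁆ ∈ W := fun y hy r hr => by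
    refine Subgroup.mem_inf.2 ⟨?_, ?_⟩
    · rw [commutatorElement_def]
      exact mul_mem (hRn.conj_mem r hr y) (inv_mem hr)
    · rw [commutatorElement_def, mul_assoc, mul_assoc]
      exact mul_mem hy (by
        rw [← mul_assoc]
        exact (Subgroup.mem_normalizer_iff.1 (hOY hr) y⁻¹).1 (Y.inv_mem hy))
  have hcommY' : ∀ y ∈ Y', ∀ r ∈ R, ⁅y, r⁆ ∈ W' := fun y hy r hr => by
    refine Subgroup.mem_inf.2 ⟨?_, ?_⟩
    · rw [commutatorElement_def]
      exact mul_mem (hRn.conj_mem r hr y) (inv_mem hr)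
    · rw [commutatorElement_def, mul_assoc, mul_assoc]
      exact mul_mem hy (by
        rw [← mul_assoc]
        exact (Subgroup.mem_normalizer_iff.1 (hOY' hr) y⁻¹).1 (Y'.inv_mem hy))
  have hWW' : W ⊔ W' ≤ R := sup_le inf_le_left inf_le_left
  have hnorm : (W ⊔ W').Normal := by
    refine Subgroup.normalizer_eq_top_iff.1 (eq_top_iff.2 (hgen ▸ sup_le ?_ ?_))
    · refine fun y hy => CfsgLib.LocalEven.mem_normalizer_of_conj_le ?_
      rintro _ ⟨x, hx, rfl⟩
      have h1 := mul_mem (Subgroup.mem_sup_left (T := W') (hcommY y hy x (hWW' hx))) hx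
      rwa [commutatorElement_def, inv_mul_cancel_right] at h1
    · refine fun y hy => CfsgLib.LocalEven.mem_normalizer_of_conj_le ?_
      rintro _ ⟨x, hx, rfl⟩
      have h1 := mul_mem (Subgroup.mem_sup_right (S := W) (hcommY' y hy x (hWW' hx))) hx
      rwa [commutatorElement_def, inv_mul_cancel_right] at h1
  have hAeq : A = W ⊔ W' :=
    le_antisymm (hA ▸ Subgroup.normalClosure_le_normal (SetLike.coe_subset_coe.2 le_sup_left))
      (sup_le (hA ▸ Subgroup.subset_normalClosure) hW'A)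
  have hAR : A ≤ R := hAeq ▸ hWW'
  have hAY : A ⊓ Y = W :=
    le_antisymm (inf_le_inf_right Y hAR) (le_inf (hAeq ▸ le_sup_left) inf_le_right)
  have hAY' : A ⊓ Y' = W' :=
    le_antisymm (inf_le_inf_right Y' hAR) (le_inf hW'A inf_le_right)
  -- the commutator subgroup
  set C := ⁅W, W'⁆ with hC
  have hCle : C ≤ Y ⊓ Subgroup.center L := by
    rw [← hYY', hC, Subgroup.commutator_le]
    intro a ha b hb
    refine Subgroup.mem_inf.2 ⟨(hcommY a ha.2 b hb.1).2, ?_⟩
    rw [← commutatorElement_inv]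
    exact inv_mem (hcommY' b hb.2 a ha.1).2
  have hCn : C.Normal := ⟨fun c hc x => by
    rw [Subgroup.mem_center_iff.1 (hCle hc).2 x, mul_inv_cancel_right]; exact hc⟩
  obtain ⟨habel, hexp⟩ := sup_elementary (p := p) (U := W.map (QuotientGroup.mk' C))
    (V := W'.map (QuotientGroup.mk' C))
    (by
      rintro _ ⟨a, ha, rfl⟩
      rw [Subgroup.mem_centralizer_iff]
      rintro _ ⟨b, hb, rfl⟩
      rw [← map_mul, Subgroup.mem_centralizer_iff.1 (hYcomm ha.2) b hb.2, map_mul])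
    (by
      rintro _ ⟨a, ha, rfl⟩
      rw [Subgroup.mem_centralizer_iff]
      rintro _ ⟨b, hb, rfl⟩
      rw [← map_mul, Subgroup.mem_centralizer_iff.1 (hY'comm ha.2) b hb.2, map_mul])
    (by
      rw [← Subgroup.commutator_eq_bot_iff_le_centralizer, ← Subgroup.map_commutator, Subgroup.map_eq_bot_iff,
        QuotientGroup.ker_mk'])
    (by
      rintro _ ⟨a, ha, rfl⟩
      rw [← map_pow, hYel.2 a ha.2, map_one])
    (by
      rintro _ ⟨a, ⟨-, y, hy, rfl⟩, rfl⟩
      rw [← map_pow, ← map_pow, hYel.2 y hy, map_one, map_one])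
  rw [← Subgroup.map_sup, ← hAeq] at habel hexp
  have hAA : ⁅A, A⁆ ≤ C := by
    rw [← Subgroup.commutator_eq_bot_iff_le_centralizer, ← Subgroup.map_commutator, Subgroup.map_eq_bot_iff,
      QuotientGroup.ker_mk'] at habel
    exact habel
  have hpowA : ∀ a ∈ A, a ^ p ∈ C := fun a ha => by
    rw [← QuotientGroup.eq_one_iff]
    exact hexp _ ⟨a, ha, rfl⟩
  have h1 : C ≤ ⁅W, A⁆ := Subgroup.commutator_mono le_rfl hW'A
  have h2 : ⁅W, A⁆ ≤ ⁅A, A⁆ := Subgroup.commutator_mono (hAeq ▸ le_sup_left) le_rfl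
  have e1 : ⁅A, A⁆ = C := le_antisymm hAA (h1.trans h2)
  have e2 : ⁅W, A⁆ = C := le_antisymm (h2.trans hAA) h1
  have hfr : (frattini ↥A).map A.subtype = ⁅A, A⁆ := by
    refine le_antisymm ?_ ?_
    · rw [Subgroup.map_le_iff_le_comap]
      refine CfsgLib.Transfer.frattini_le_of_commutator_pow (p := p) _ (fun a b => ?_) fun a => ?_
      · exact Subgroup.commutator_mem_commutator a.2 b.2
      · show A.subtype (a ^ p) ∈ ⁅A, A⁆
        rw [map_pow, e1]
        exact hpowA _ a.2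
    · rw [← A.map_subtype_commutator]
      exact Subgroup.map_mono (CfsgLib.PGroup.commutator_le_frattini (hRp.to_le hAR))
  have hZA : Y ⊓ Subgroup.center L ≤ A := by
    have hp : IsPGroup p ↥(Y ⊓ Subgroup.center L) :=
      fun x => ⟨1, Subtype.ext (by simpa using hYel.2 _ x.2.1)⟩
    have : (Y ⊓ Subgroup.center L).Normal := ⟨fun c hc x => by
      rw [Subgroup.mem_center_iff.1 hc.2 x, mul_inv_cancel_right]; exact hc⟩
    exact fun z hz => (hAY ▸ (⟨CfsgLib.Cores.le_pCore hp hz, hz.1⟩ : z ∈ W) : z ∈ A ⊓ Y).1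
  refine ⟨hfr, by rw [hAY, e1, e2], by rw [hAY, hAY', e2], by rw [hAY, e2]; exact hCle, hYY', ?_, ?_⟩
  · rw [inf_inf_inf_comm, inf_idem, hYY', inf_eq_right]
    exact hZA
  · refine le_antisymm (fun a ha => Subgroup.mem_inf.2 ⟨?_, ha.2⟩) (le_inf hZA inf_le_right)
    obtain ⟨haA, hac⟩ := Subgroup.mem_inf.1 ha
    rw [hAeq] at haA
    have hWn : W' ≤ Subgroup.normalizer (W : Set L) := fun x hx => by
      refine CfsgLib.LocalEven.mem_normalizer_of_conj_le ?_
      rintro _ ⟨w, hw, rfl⟩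
      exact ⟨hRn.conj_mem w hw.1 x, (Subgroup.mem_normalizer_iff.1 (hOY hx.1) w).1 hw.2⟩
    rw [← SetLike.mem_coe, Subgroup.coe_mul_of_right_le_normalizer_left W W' hWn] at haA
    obtain ⟨w, hw, w', hw', rfl⟩ := haA
    have hwc : w ∈ Subgroup.center L := by
      refine Subgroup.mem_center_iff.2 fun x => ?_
      have h1 : Y ⊔ Y' ≤ Subgroup.centralizer ({w} : Set L) := by
        refine sup_le (fun b hb => Subgroup.mem_centralizer_iff.2 (by
          rintro _ rfl; exact Subgroup.mem_centralizer_iff.1 (hYcomm hb) _ hw.2)) fun b hb => ?_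
        rw [Subgroup.mem_centralizer_iff]
        intro z hz
        rw [Set.mem_singleton_iff] at hz
        rw [hz]
        have hb' : b * w' = w' * b := Subgroup.mem_centralizer_iff.1 (hY'comm hw'.2) b hb
        have hb2 : b * (w * w') = w * w' * b := Subgroup.mem_center_iff.1 hac b
        have : b * w * w' = w * b * w' := by rw [mul_assoc, hb2, mul_assoc, ← hb', mul_assoc]
        exact (mul_right_cancel this).symm
      rw [hgen] at h1
      exact (Subgroup.mem_centralizer_iff.1 (h1 (Subgroup.mem_top x)) w rfl).symm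
    have hw'c : w' ∈ Subgroup.center L := by
      have := mul_mem (inv_mem hwc) hac
      rwa [inv_mul_cancel_left] at this
    exact mul_mem hw.2 (hZ' ⟨hw'.2, hw'c⟩)

end Cfsg.Agent.S2837
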