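import Cfsg.Statements.S2838
import Cfsg.Agent.Lib.LocalEven.WeaklyClosed
open scoped commutatorElement
open Subgroup

set_option autoImplicit false
open Cfsg

namespace Cfsg.Agent.S2838

/-- For a nontrivial p-subgroup Q of a finite group H the following are equivalent: Q is a weakly closed subgroup (it is the only H-conjugate of itself inside some Sylow p-subgroup containing it); Q = P for every conjugate P of Q with [Q, P] ≤ Q ∩ P; Q is normal in N_H(R) for every p-subgroup R of H containing Q. -/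
theorem result {H : Type*} [Group H] [Finite H] {p : ℕ} [Fact p.Prime] (Q : Subgroup H) (hQp : IsPGroup p ↥Q) (hQ1 : Q ≠ ⊥) : (Cfsg.IsWeaklyClosedSubgroup p Q ↔ ∀ g : H, ⁅Q, ((Q : Subgroup H).map (MulAut.conj (g : H)).toMonoidHom)⁆ ≤ Q ⊓ ((Q : Subgroup H).map (MulAut.conj (g : H)).toMonoidHom) → ((Q : Subgroup H).map (MulAut.conj (g : H)).toMonoidHom) = Q) ∧ (Cfsg.IsWeaklyClosedSubgroup p Q ↔ ∀ R : Subgroup H, IsPGroup p ↥R → Q ≤ R → Subgroup.normalizer ((R : Subgroup H) : Set H) ≤ Subgroup.normalizer ((Q : Subgroup H) : Set H)) := by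
  have key : ∀ g : H, ⁅Q, Q.map (MulAut.conj g).toMonoidHom⁆ ≤ Q →
      Q.map (MulAut.conj g).toMonoidHom ≤ normalizer (Q : Set H) := by
    intro g h x hx
    refine CfsgLib.LocalEven.mem_normalizer_of_conj_le ?_
    rintro _ ⟨q, hq, rfl⟩
    have h1 := Q.mul_mem hq (h (Subgroup.commutator_mem_commutator (Q.inv_mem hq) hx))
    have e : q * ⁅q⁻¹, x⁆ = x * q * x⁻¹ := by rw [commutatorElement_def]; group
    rwa [e] at h1
  have key2 : ∀ (g : H) (A B : Subgroup H), A ≤ normalizer (B : Set H) → B ≤ normalizer (A : Set H) →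
      ⁅A, B⁆ ≤ A ⊓ B := fun g A B h1 h2 =>
    le_inf (CfsgLib.Solvable.commutator_le_of_le_normalizer h2)
      (by rw [Subgroup.commutator_comm]; exact CfsgLib.Solvable.commutator_le_of_le_normalizer h1)
  have h12 : Cfsg.IsWeaklyClosedSubgroup p Q → ∀ g : H,
      ⁅Q, Q.map (MulAut.conj g).toMonoidHom⁆ ≤ Q ⊓ Q.map (MulAut.conj g).toMonoidHom →
      Q.map (MulAut.conj g).toMonoidHom = Q := fun hwc g hg =>
    CfsgLib.LocalEven.WC.eq_of_normalize hwc hQp (key g (hg.trans inf_le_left))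
  have h23 : (∀ g : H, ⁅Q, Q.map (MulAut.conj g).toMonoidHom⁆ ≤ Q ⊓ Q.map (MulAut.conj g).toMonoidHom →
      Q.map (MulAut.conj g).toMonoidHom = Q) →
      ∀ R : Subgroup H, IsPGroup p R → Q ≤ R → normalizer (R : Set H) ≤ normalizer (Q : Set H) := by
    intro hA R hR hQR
    have step : ∀ (S : Subgroup H), Q ≤ S → S ≤ normalizer (Q : Set H) → ∀ n ∈ normalizer (S : Set H),
        n ∈ normalizer (Q : Set H) := by
      intro S hQS hSN n hn
      refine CfsgLib.LocalEven.WC.mem_normalizer_of_map_eq (hA n ?_)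
      have hSn := CfsgLib.LocalEven.WC.map_conj_eq_of_mem hn
      refine key2 n _ _ ?_ ((Subgroup.map_mono hQS).trans (hSn.le.trans hSN))
      intro q hq
      have h1 : n⁻¹ * q * n ∈ normalizer (Q : Set H) :=
        hSN ((Subgroup.mem_normalizer_iff''.1 hn q).1 (hQS hq))
      apply CfsgLib.LocalEven.WC.mem_normalizer_of_map_eq
      rw [CfsgLib.LocalEven.WC.map_conj_map, show q * n = n * (n⁻¹ * q * n) by group,
        ← CfsgLib.LocalEven.WC.map_conj_map, CfsgLib.LocalEven.WC.map_conj_eq_of_mem h1]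
    have hQle : Q ≤ R ⊓ normalizer (Q : Set H) := le_inf hQR Subgroup.le_normalizer
    have h1 : R ⊓ normalizer (Q : Set H) = R :=
      CfsgLib.LocalEven.eq_of_inf_normalizer_le hR inf_le_left
        (le_inf inf_le_left fun n hn => step _ hQle inf_le_right n hn.2)
    exact fun n hn => step R hQR (h1 ▸ inf_le_right) n hn
  have h31 : (∀ R : Subgroup H, IsPGroup p R → Q ≤ R → normalizer (R : Set H) ≤ normalizer (Q : Set H)) →
      Cfsg.IsWeaklyClosedSubgroup p Q := by
    intro hB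
    obtain ⟨T, hQT⟩ := hQp.exists_le_sylow
    refine ⟨T, hQT, fun g hg => ?_⟩
    have hNT := hB _ T.2 hQT
    have hTN : (T : Subgroup H) ≤ normalizer (Q : Set H) := Subgroup.le_normalizer.trans hNT
    set T' := g⁻¹ • T with hT'
    have hQT' : Q ≤ (T' : Subgroup H) := by
      intro x hx
      rw [hT', Sylow.coe_subgroup_smul]
      exact ⟨g * x * g⁻¹, hg (CfsgLib.LocalEven.conj_mem_map_conj hx), by
        show g⁻¹ * (g * x * g⁻¹) * g⁻¹⁻¹ = x
        group⟩
    have hT'N : (T' : Subgroup H) ≤ normalizer (Q : Set H) := Subgroup.le_normalizer.trans (hB _ T'.2 hQT')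
    obtain ⟨m, hm⟩ := MulAction.exists_smul_eq (normalizer (Q : Set H)) (T'.subtype hT'N) (T.subtype hTN)
    rw [Sylow.smul_subtype hT'N] at hm
    replace hm := Sylow.subtype_injective hm
    rw [Subgroup.smul_def, hT', smul_smul, Sylow.smul_eq_iff_mem_normalizer] at hm
    have hg' : g⁻¹ ∈ normalizer (Q : Set H) := by
      have := mul_mem (inv_mem m.2) (hNT hm)
      rwa [inv_mul_cancel_left] at this
    have := inv_mem hg'
    rw [inv_inv] at this
    exact CfsgLib.LocalEven.WC.map_conj_eq_of_mem this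
  exact ⟨⟨h12, fun h => h31 (h23 h)⟩, ⟨fun h => h23 (h12 h), h31⟩⟩

end Cfsg.Agent.S2838
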