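import Cfsg.Statements.S2839
import Cfsg.Agent.Lib.LocalEven.WeaklyClosed
import Cfsg.Agent.Lib.LocalEven.SubnormalSylow
import Cfsg.Agent.Lib.Transfer.Basic
open Subgroup

set_option autoImplicit false
open Cfsg

namespace Cfsg.Agent.S2839

/-- Let Q be a nontrivial p-subgroup of the finite group H that is a weakly closed subgroup, K a subgroup containing Q and N a normal subgroup of H. Then Q is a weakly closed subgroup of K; every H-conjugate of Q contained in K is a K-conjugate of Q; N_K(Q) contains a Sylow p-subgroup of K; N = N_N(Q)·O^p(N); and QN/N is a weakly closed subgroup of H/N. -/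
theorem result {H : Type*} [Group H] [Finite H] {p : ℕ} [Fact p.Prime] (Q : Subgroup H) (hQp : IsPGroup p ↥Q) (hQ1 : Q ≠ ⊥) (hwc : Cfsg.IsWeaklyClosedSubgroup p Q) (K : Subgroup H) (hQK : Q ≤ K) (N' : Subgroup H) [N'.Normal] : Cfsg.IsWeaklyClosedSubgroup p (Q.subgroupOf K) ∧ (∀ g : H, ((Q : Subgroup H).map (MulAut.conj (g : H)).toMonoidHom) ≤ K → ∃ k ∈ K, ((Q : Subgroup H).map (MulAut.conj (g : H)).toMonoidHom) = ((Q : Subgroup H).map (MulAut.conj (k : H)).toMonoidHom)) ∧ Cfsg.IsParabolic p ((Subgroup.normalizer ((Q : Subgroup H) : Set H)).subgroupOf K) ∧ (N' ⊓ Subgroup.normalizer ((Q : Subgroup H) : Set H)) ⊔ (Cfsg.pResidual p ↥N').map N'.subtype = N' ∧ Cfsg.IsWeaklyClosedSubgroup p (Q.map (QuotientGroup.mk' N')) := by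
  have hTN : ∀ T : Sylow p H, Q ≤ (T : Subgroup H) → (T : Subgroup H) ≤ normalizer (Q : Set H) := fun T hT =>
    CfsgLib.LocalEven.WC.pGroup_le_normalizer hwc T.2 hT
  refine ⟨CfsgLib.LocalEven.WC.wc_subgroupOf hwc hQp hQK,
    fun g hg => CfsgLib.LocalEven.WC.exists_conj_in hwc hQp hQK hg, ?_, ?_, ?_⟩
  · obtain ⟨P, hP⟩ := (hQp.comap_subtype (K := K)).exists_le_sylow
    refine ⟨P, fun x hx => Subgroup.mem_subgroupOf.2 ?_⟩
    exact CfsgLib.LocalEven.WC.pGroup_le_normalizer hwc (P.2.map K.subtype)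
      (fun y hy => ⟨⟨y, hQK hy⟩, hP hy, rfl⟩) ⟨x, hx, rfl⟩
  · obtain ⟨T, hT⟩ := hQp.exists_le_sylow
    obtain ⟨P, hP⟩ := CfsgLib.LocalEven.exists_sylow_eq_inf_of_isSubnormal T (K := N')
      (Subgroup.Normal.isSubnormal inferInstance)
    refine le_antisymm (sup_le inf_le_left (Subgroup.map_subtype_le _)) fun n hn => ?_
    have h : (⟨n, hn⟩ : N') ∈ Cfsg.pResidual p ↥N' ⊔ (P : Subgroup N') := by
      rw [CfsgLib.Transfer.pResidual_sup_sylow]; trivial
    have h2 := Subgroup.mem_map_of_mem N'.subtype h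
    rw [Subgroup.map_sup] at h2
    have h3 : (P : Subgroup N').map N'.subtype ≤ N' ⊓ normalizer (Q : Set H) := by
      rintro _ ⟨x, hx, rfl⟩
      rw [hP] at hx
      exact ⟨x.2, hTN T hT hx⟩
    rw [sup_comm] at h2
    exact (sup_le_sup_right h3 _) h2
  · obtain ⟨T, hT⟩ := hQp.exists_le_sylow
    have hf : Function.Surjective (QuotientGroup.mk' N') := QuotientGroup.mk'_surjective N'
    refine ⟨T.mapSurjective hf, Subgroup.map_mono hT, fun gb hg => ?_⟩
    obtain ⟨g, rfl⟩ := hf gb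
    have hcomm : ∀ a : H, (Q.map (QuotientGroup.mk' N')).map (MulAut.conj (QuotientGroup.mk' N' a)).toMonoidHom =
        (Q.map (MulAut.conj a).toMonoidHom).map (QuotientGroup.mk' N') := by
      intro a
      rw [Subgroup.map_map, Subgroup.map_map]
      congr 1
    rw [hcomm, Sylow.coe_mapSurjective, Subgroup.map_le_iff_le_comap, QuotientGroup.comap_map_mk'] at hg
    obtain ⟨k, hk, hgk⟩ := CfsgLib.LocalEven.WC.exists_conj_in hwc hQp (hT.trans le_sup_right) hg
    have hk' : k ∈ ((N' ⊔ (T : Subgroup H) : Subgroup H) : Set H) := hk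
    rw [Subgroup.normal_mul] at hk'
    obtain ⟨m, hm, t, ht, rfl⟩ := hk'
    rw [hcomm, hgk, ← CfsgLib.LocalEven.WC.map_conj_map, CfsgLib.LocalEven.WC.map_conj_eq_of_mem (hTN T hT ht),
      ← hcomm, show QuotientGroup.mk' N' m = 1 from (QuotientGroup.eq_one_iff m).2 hm,
      CfsgLib.LocalEven.WC.map_conj_one]

end Cfsg.Agent.S2839
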