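import Cfsg.Statements.S2840
import Cfsg.Agent.Lib.LocalEven.WeaklyClosed
open Subgroup

set_option autoImplicit false
open Cfsg

namespace Cfsg.Agent.S2840

/-- Let Q be a nontrivial p-subgroup of the finite group H that is a weakly closed subgroup and K a subgroup containing Q; let K° be the weak closure of Q in K (generated by the H-conjugates of Q inside K). Then K° is generated by the K-conjugates of Q, and K° is the subnormal closure of Q in K. -/
theorem result {H : Type*} [Group H] [Finite H] {p : ℕ} [Fact p.Prime] (Q : Subgroup H) (hQp : IsPGroup p ↥Q) (hQ1 : Q ≠ ⊥) (hwc : Cfsg.IsWeaklyClosedSubgroup p Q) (K : Subgroup H) (hQK : Q ≤ K) (Kc : Subgroup H) (hKc : Kc = Cfsg.weakClosure Q K) : Kc = ⨆ k : ↥K, ((Q : Subgroup H).map (MulAut.conj ((k : H) : H)).toMonoidHom) ∧ Kc = (Cfsg.subnormalClosure (Q.subgroupOf K)).map K.subtype := by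
  subst hKc
  refine ⟨CfsgLib.LocalEven.WC.weakClosure_eq hwc hQp hQK, le_antisymm ?_ ?_⟩
  · rw [CfsgLib.LocalEven.WC.weakClosure_eq hwc hQp hQK]
    refine iSup_le fun k => ?_
    rintro _ ⟨q, hq, rfl⟩
    refine ⟨k * ⟨q, hQK hq⟩ * k⁻¹, ?_, rfl⟩
    rw [SetLike.mem_coe, Cfsg.subnormalClosure, Subgroup.mem_sInf]
    rintro S ⟨hQS, hS⟩
    exact CfsgLib.LocalEven.WC.map_conj_le_of_isSubnormal
      (CfsgLib.LocalEven.WC.wc_subgroupOf hwc hQp hQK) hQp.comap_subtype hS hQS k ⟨⟨q, hQK hq⟩, hq, rfl⟩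
  · have hN : ((Cfsg.weakClosure Q K).subgroupOf K).Normal :=
      Subgroup.normal_subgroupOf_of_le_normalizer (CfsgLib.LocalEven.WC.le_normalizer_weakClosure Q K)
    have h : Cfsg.subnormalClosure (Q.subgroupOf K) ≤ (Cfsg.weakClosure Q K).subgroupOf K :=
      sInf_le ⟨Subgroup.comap_mono (CfsgLib.LocalEven.WC.le_weakClosure hQK), hN.isSubnormal⟩
    refine (Subgroup.map_mono h).trans ?_
    rw [Subgroup.subgroupOf_map_subtype]
    exact inf_le_left

end Cfsg.Agent.S2840
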