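import Cfsg.Statements.S2841
import Cfsg.Agent.Lib.LocalEven.WeaklyClosed
open Subgroup
open scoped commutatorElement

set_option autoImplicit false
open Cfsg

namespace Cfsg.Agent.S2841

/-- Let Q be a nontrivial p-subgroup of the finite group H that is a weakly closed subgroup and N a normal subgroup of H. Then N = N_N(Q)·[N, Q] and [N, Q] = (Q ∩ [N, Q])·[N, Q, Q]. -/
theorem result {H : Type*} [Group H] [Finite H] {p : ℕ} [Fact p.Prime] (Q : Subgroup H) (hQp : IsPGroup p ↥Q) (hQ1 : Q ≠ ⊥) (hwc : Cfsg.IsWeaklyClosedSubgroup p Q) (N' : Subgroup H) [N'.Normal] : (∀ n : H, n ∈ N' → ∃ a ∈ N' ⊓ Subgroup.normalizer ((Q : Subgroup H) : Set H), ∃ b ∈ ⁅N', Q⁆, n = a * b) ∧ (∀ c : H, c ∈ ⁅N', Q⁆ → ∃ a ∈ Q ⊓ ⁅N', Q⁆, ∃ b ∈ ⁅⁅N', Q⁆, Q⁆, c = a * b) := by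
  set M := ⁅N', Q⁆ with hM
  have hQN : Q ≤ normalizer (N' : Set H) := by rw [Subgroup.normalizer_eq_top]; exact le_top
  have haM : ∀ a ∈ normalizer (Q : Set H), a ∈ normalizer (M : Set H) := by
    intro a ha
    refine CfsgLib.LocalEven.WC.mem_normalizer_of_map_eq ?_
    rw [hM, Subgroup.map_commutator, CfsgLib.LocalEven.WC.map_conj_eq_of_mem ha,
      CfsgLib.LocalEven.WC.map_conj_eq_of_mem (show a ∈ normalizer (N' : Set H) by rw [Subgroup.normalizer_eq_top]; trivial)]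
  have hMQ : ∀ a ∈ normalizer (Q : Set H), a ∈ normalizer (⁅M, Q⁆ : Subgroup H) := by
    intro a ha
    refine CfsgLib.LocalEven.WC.mem_normalizer_of_map_eq ?_
    rw [Subgroup.map_commutator, CfsgLib.LocalEven.WC.map_conj_eq_of_mem ha,
      CfsgLib.LocalEven.WC.map_conj_eq_of_mem (haM a ha)]
  have h1 : ∀ n : H, n ∈ N' → ∃ a ∈ N' ⊓ normalizer (Q : Set H), ∃ b ∈ M, n = a * b := by
    intro n hn
    obtain ⟨m, hm, a, ha, rfl⟩ := CfsgLib.LocalEven.WC.exists_mul_normalizer hwc hQp hQN hn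
    exact ⟨a, ha, a⁻¹ * m * a, (Subgroup.mem_normalizer_iff''.1 (haM a ha.2) m).1 hm, by group⟩
  refine ⟨h1, ?_⟩
  have hle : M ≤ (Q ⊓ M) ⊔ ⁅M, Q⁆ := by
    rw [hM, Subgroup.commutator_le]
    intro n hn q hq
    obtain ⟨a, ha, b, hb, rfl⟩ := h1 n hn
    have hbq : a * ⁅b, q⁆ * a⁻¹ ∈ ⁅M, Q⁆ :=
      (Subgroup.mem_normalizer_iff.1 (hMQ a ha.2) _).1 (Subgroup.commutator_mem_commutator hb hq)
    have haq : ⁅a, q⁆ ∈ Q ⊓ M := by
      refine Subgroup.mem_inf.2 ⟨?_, hM ▸ Subgroup.commutator_mem_commutator ha.1 hq⟩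
      rw [commutatorElement_def]
      exact Q.mul_mem ((Subgroup.mem_normalizer_iff.1 ha.2 q).1 hq) (Q.inv_mem hq)
    rw [show ⁅a * b, q⁆ = (a * ⁅b, q⁆ * a⁻¹) * ⁅a, q⁆ by simp only [commutatorElement_def]; group]
    exact Subgroup.mul_mem _ (Subgroup.mem_sup_right hbq) (Subgroup.mem_sup_left haq)
  intro c hc
  have hc' : c ∈ ((Q ⊓ M ⊔ ⁅M, Q⁆ : Subgroup H) : Set H) := hle hc
  rw [Subgroup.coe_mul_of_left_le_normalizer_right (Q ⊓ M) ⁅M, Q⁆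
    (fun a ha => hMQ a (Subgroup.le_normalizer ha.1))] at hc'
  obtain ⟨a, ha, b, hb, rfl⟩ := hc'
  exact ⟨a, ha, b, hb, rfl⟩

end Cfsg.Agent.S2841
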