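import Cfsg.Statements.S2842
import Cfsg.Agent.Lib.LocalEven.WCCharP
open Subgroup

set_option autoImplicit false
open Cfsg

namespace Cfsg.Agent.S2842

/-- Let Q be a nontrivial p-subgroup of the finite group H that is a weakly closed subgroup with C_H(Q) ≤ Q, and Q ≤ L ≤ H. Suppose H has characteristic p, or more generally that C_H(y) has characteristic p for some nonidentity y ∈ C_{O_p(L)}(Q). Then [Q, C_H(O_p(L))] ≤ Q ∩ O_p(L), C_H(O_p(L)) is a p-group, and L has characteristic p. -/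
theorem result {H : Type*} [Group H] [Finite H] {p : ℕ} [Fact p.Prime] (Q : Subgroup H) (hQp : IsPGroup p ↥Q) (hQ1 : Q ≠ ⊥) (hwc : Cfsg.IsWeaklyClosedSubgroup p Q) (hCQ : Subgroup.centralizer ((Q : Subgroup H) : Set H) ≤ Q) (L : Subgroup H) (hQL : Q ≤ L) (hyp : Subgroup.centralizer (Cfsg.pCore p H : Set H) ≤ Cfsg.pCore p H ∨ ∃ y : H, y ≠ 1 ∧ y ∈ (Cfsg.pCoreOf p L) ⊓ Subgroup.centralizer ((Q : Subgroup H) : Set H) ∧ Subgroup.centralizer (Cfsg.pCore p ↥(Subgroup.centralizer ({y} : Set H)) : Set ↥(Subgroup.centralizer ({y} : Set H))) ≤ Cfsg.pCore p ↥(Subgroup.centralizer ({y} : Set H))) : ⁅Q, Subgroup.centralizer (((Cfsg.pCoreOf p L) : Subgroup H) : Set H)⁆ ≤ Q ⊓ (Cfsg.pCoreOf p L) ∧ IsPGroup p ↥(Subgroup.centralizer (((Cfsg.pCoreOf p L) : Subgroup H) : Set H)) ∧ Subgroup.centralizer (Cfsg.pCore p ↥L : Set ↥L) ≤ Cfsg.pCore p ↥L := by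
  have hP : IsPGroup p (Cfsg.pCoreOf p L) := CfsgLib.LocalEven.isPGroup_pCoreOf p L
  have hC : CfsgLib.LocalEven.HasCharP p ↥(centralizer (Cfsg.pCoreOf p L : Set H)) := by
    rcases hyp with h | ⟨y, -, hy, h⟩
    · exact CfsgLib.LocalEven.HasCharP.centralizer h hP
    · have hle : zpowers y ≤ Cfsg.pCoreOf p L := Subgroup.zpowers_le.2 hy.1
      have e : centralizer ({y} : Set H) = centralizer (zpowers y : Set H) := by
        rw [Subgroup.zpowers_eq_closure, Subgroup.centralizer_closure]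
      exact CfsgLib.LocalEven.WC.hasCharP_centralizer_of_le hP _ _ (Nat.le_add_left _ _) hle
        (CfsgLib.LocalEven.hasCharP_congr (MulEquiv.subgroupCongr e) h)
  exact CfsgLib.LocalEven.WC.centralizer_pCoreOf_of_le_normalizer hQp hCQ hQL
    (CfsgLib.LocalEven.WC.le_normalizer_of_hasCharP hwc hQp hCQ hQL hC)

end Cfsg.Agent.S2842
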