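import Cfsg.Statements.S2843
import Cfsg.Agent.Lib.LocalEven.WeaklyClosed
import Cfsg.Agent.Lib.LocalEven.CoreOf
open Subgroup
open scoped commutatorElement

set_option autoImplicit false
open Cfsg

namespace Cfsg.Agent.S2843

/-- Let Q be a nontrivial large p-subgroup of the finite group H, Q ≤ L ≤ H, and Y a nontrivial p-subgroup of H normalized by L. Let L° be the weak closure of Q in L (generated by the conjugates of Q inside L). Then L° equals the weak closure of Q in L·C_H(Y), and [L°, C_H(Y)] ≤ O_p(L°); in particular C_H(Y) normalizes L°. -/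
theorem result {H : Type*} [Group H] [Finite H] {p : ℕ} [Fact p.Prime] (Q : Subgroup H) (hQp : IsPGroup p ↥Q) (hQ1 : Q ≠ ⊥) (hL : Cfsg.IsLarge Q) (L : Subgroup H) (hQL : Q ≤ L) (Y : Subgroup H) (hYp : IsPGroup p ↥Y) (hY1 : Y ≠ ⊥) (hLY : L ≤ Subgroup.normalizer ((Y : Subgroup H) : Set H)) : Cfsg.weakClosure Q L = Cfsg.weakClosure Q (L ⊔ Subgroup.centralizer ((Y : Subgroup H) : Set H)) ∧ ⁅Cfsg.weakClosure Q L, Subgroup.centralizer ((Y : Subgroup H) : Set H)⁆ ≤ (Cfsg.pCoreOf p (Cfsg.weakClosure Q L)) ∧ Subgroup.centralizer ((Y : Subgroup H) : Set H) ≤ Subgroup.normalizer (((Cfsg.weakClosure Q L) : Subgroup H) : Set H) := by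
  have hwc := CfsgLib.LocalEven.WC.large_isWeaklyClosed hL hQp hQ1
  set C := centralizer (Y : Set H) with hC
  set W := Cfsg.weakClosure Q L with hW
  have hCQ : C ≤ normalizer (Q : Set H) :=
    CfsgLib.LocalEven.WC.centralizer_le_normalizer_large hL hQp hYp hY1 (hQL.trans hLY)
  have hLC : L ≤ normalizer (C : Set H) := by
    intro l hl
    refine CfsgLib.LocalEven.mem_normalizer_of_conj_le ?_
    rintro _ ⟨c, hc, rfl⟩
    refine Subgroup.mem_centralizer_iff.2 fun v hv => ?_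
    have h4 := Subgroup.mem_centralizer_iff.1 hc (l⁻¹ * v * l) ((Subgroup.mem_normalizer_iff''.1 (hLY hl) v).1 hv)
    show v * (l * c * l⁻¹) = l * c * l⁻¹ * v
    calc v * (l * c * l⁻¹) = l * ((l⁻¹ * v * l) * c) * l⁻¹ := by group
      _ = l * (c * (l⁻¹ * v * l)) * l⁻¹ := by rw [h4]
      _ = l * c * l⁻¹ * v := by group
  have hCk : ∀ k ∈ L, C ≤ normalizer (Q.map (MulAut.conj k).toMonoidHom : Set H) := by
    intro k hk c hc
    have h1 : k⁻¹ * c * k ∈ normalizer (Q : Set H) :=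
      hCQ ((Subgroup.mem_normalizer_iff''.1 (hLC hk) c).1 hc)
    apply CfsgLib.LocalEven.WC.mem_normalizer_of_map_eq
    rw [CfsgLib.LocalEven.WC.map_conj_map, show c * k = k * (k⁻¹ * c * k) by group,
      ← CfsgLib.LocalEven.WC.map_conj_map, CfsgLib.LocalEven.WC.map_conj_eq_of_mem h1]
  have hWeq := CfsgLib.LocalEven.WC.weakClosure_eq hwc hQp hQL
  have hCW : C ≤ normalizer (W : Set H) := by
    intro c hc
    apply CfsgLib.LocalEven.WC.mem_normalizer_of_map_eq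
    rw [hW, hWeq, Subgroup.map_iSup]
    exact iSup_congr fun k => CfsgLib.LocalEven.WC.map_conj_eq_of_mem (hCk k k.2 hc)
  have hkW : ∀ k ∈ L, Q.map (MulAut.conj k).toMonoidHom ≤ W := fun k hk => by
    rw [hW, hWeq]; exact le_iSup (fun k : ↥L => Q.map (MulAut.conj (k : H)).toMonoidHom) ⟨k, hk⟩
  refine ⟨le_antisymm ?_ ?_, ?_, hCW⟩
  · refine iSup_le fun g => ?_
    exact CfsgLib.LocalEven.WC.map_conj_le_weakClosure Q (g.2.trans le_sup_left)
  · refine iSup_le fun g => ?_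
    obtain ⟨k, hk, hgk⟩ := CfsgLib.LocalEven.WC.exists_conj_in hwc hQp (hQL.trans le_sup_left) g.2
    have hk' : k ∈ ((L ⊔ C : Subgroup H) : Set H) := hk
    rw [Subgroup.coe_mul_of_left_le_normalizer_right L C hLC] at hk'
    obtain ⟨l, hl, c, hc, rfl⟩ := hk'
    rw [hgk, ← CfsgLib.LocalEven.WC.map_conj_map, CfsgLib.LocalEven.WC.map_conj_eq_of_mem (hCQ hc)]
    exact hkW l hl
  set O := Cfsg.pCoreOf p W with hO
  have hWO : W ≤ normalizer (O : Set H) := CfsgLib.LocalEven.le_normalizer_pCoreOf p W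
  have hWL : W ≤ L := CfsgLib.LocalEven.WC.weakClosure_le Q L
  have hgen : ∀ k ∈ L, ∀ x ∈ Q.map (MulAut.conj k).toMonoidHom, ∀ c ∈ C, ⁅x, c⁆ ∈ O := by
    intro k hk x hx c hc
    set Qk := Q.map (MulAut.conj k).toMonoidHom with hQk
    have hmem : ⁅x, c⁆ ∈ Qk ⊓ C := by
      refine Subgroup.mem_inf.2 ⟨?_, ?_⟩
      · rw [show ⁅x, c⁆ = x * (c * x⁻¹ * c⁻¹) by rw [commutatorElement_def]; group]
        exact Qk.mul_mem hx ((Subgroup.mem_normalizer_iff.1 (hCk k hk hc) _).1 (Qk.inv_mem hx))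
      · rw [commutatorElement_def]
        exact C.mul_mem ((Subgroup.mem_normalizer_iff.1 (hLC (hWL (hkW k hk hx))) c).1 hc) (C.inv_mem hc)
    set C₀ := C.subgroupOf W with hC₀
    have hC₀n : C₀.Normal := Subgroup.normal_subgroupOf_of_le_normalizer (hWL.trans hLC)
    have h1 : (((Qk ⊓ C).subgroupOf W).subgroupOf C₀).Normal := by
      refine ⟨fun d hd e => ?_⟩
      have he : ((e : ↥W) : H) ∈ C := e.2
      have hd' : ((d : ↥W) : H) ∈ Qk ⊓ C := hd
      exact Subgroup.mem_inf.2 ⟨(Subgroup.mem_normalizer_iff.1 (hCk k hk he) _).1 hd'.1,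
        C.mul_mem (C.mul_mem he hd'.2) (C.inv_mem he)⟩
    have h2 : ((Qk ⊓ C).subgroupOf W).IsSubnormal :=
      Subgroup.IsSubnormal.step _ C₀ (Subgroup.comap_mono inf_le_right) (Subgroup.Normal.isSubnormal hC₀n) h1
    exact ⟨⟨⁅x, c⁆, hkW k hk hmem.1⟩, CfsgLib.Cores.le_pCore_of_isSubnormal h2
      ((hQp.map _).to_le inf_le_left).comap_subtype (Subgroup.mem_subgroupOf.2 hmem), rfl⟩
  let S : Subgroup H :=
    { carrier := {l | l ∈ W ∧ ∀ c ∈ C, ⁅l, c⁆ ∈ O}
      one_mem' := ⟨W.one_mem, fun c _ => by simp⟩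
      mul_mem' := fun {a b} ha hb => ⟨W.mul_mem ha.1 hb.1, fun c hc => by
        rw [show ⁅a * b, c⁆ = (a * ⁅b, c⁆ * a⁻¹) * ⁅a, c⁆ by simp only [commutatorElement_def]; group]
        exact O.mul_mem ((Subgroup.mem_normalizer_iff.1 (hWO ha.1) _).1 (hb.2 c hc)) (ha.2 c hc)⟩
      inv_mem' := fun {a} ha => ⟨W.inv_mem ha.1, fun c hc => by
        rw [show ⁅a⁻¹, c⁆ = a⁻¹ * ⁅a, c⁆⁻¹ * a by simp only [commutatorElement_def]; group]
        exact (Subgroup.mem_normalizer_iff''.1 (hWO ha.1) _).1 (O.inv_mem (ha.2 c hc))⟩ }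
  have hS : W ≤ S := by
    rw [hW, hWeq]
    refine iSup_le fun k => fun x hx => ⟨?_, hgen k k.2 x hx⟩
    exact hkW k k.2 hx
  rw [Subgroup.commutator_le]
  exact fun l hl c hc => (hS hl).2 c hc

end Cfsg.Agent.S2843
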