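import Cfsg.Statements.S2844
import Cfsg.Agent.Lib.LocalEven.WeaklyClosed
import Cfsg.Agent.Lib.LocalEven.CoreOf
open Subgroup

set_option autoImplicit false
open Cfsg

namespace Cfsg.Agent.S2844

/-- Let Q be a nontrivial large p-subgroup of the finite group H and Q• = O_p(N_H(Q)). Then for every g ∈ H outside N_H(Q): C_H(Q) ∩ C_H(gQg⁻¹) = 1, C_H(Q•) ∩ C_H(gQ•g⁻¹) = 1, Z(Q) ∩ Z(gQg⁻¹) = 1 and Z(Q•) ∩ Z(gQ•g⁻¹) = 1; moreover N_H(Q) = N_H(Q•) and Q• is large in H. -/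
theorem result {H : Type*} [Group H] [Finite H] {p : ℕ} [Fact p.Prime] (Q : Subgroup H) (hQp : IsPGroup p ↥Q) (hQ1 : Q ≠ ⊥) (hL : Cfsg.IsLarge Q) (Qb : Subgroup H) (hQb : Qb = Cfsg.largeBullet p Q) : (∀ g : H, g ∉ Subgroup.normalizer ((Q : Subgroup H) : Set H) → Subgroup.centralizer ((Q : Subgroup H) : Set H) ⊓ Subgroup.centralizer ((((Q : Subgroup H).map (MulAut.conj (g : H)).toMonoidHom) : Subgroup H) : Set H) = ⊥ ∧ Subgroup.centralizer ((Qb : Subgroup H) : Set H) ⊓ Subgroup.centralizer ((((Qb : Subgroup H).map (MulAut.conj (g : H)).toMonoidHom) : Subgroup H) : Set H) = ⊥ ∧ (Q ⊓ Subgroup.centralizer ((Q : Subgroup H) : Set H)) ⊓ (((Q : Subgroup H).map (MulAut.conj (g : H)).toMonoidHom) ⊓ Subgroup.centralizer ((((Q : Subgroup H).map (MulAut.conj (g : H)).toMonoidHom) : Subgroup H) : Set H)) = ⊥ ∧ (Qb ⊓ Subgroup.centralizer ((Qb : Subgroup H) : Set H)) ⊓ (((Qb : Subgroup H).map (MulAut.conj (g : H)).toMonoidHom) ⊓ Subgroup.centralizer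 ((((Qb : Subgroup H).map (MulAut.conj (g : H)).toMonoidHom) : Subgroup H) : Set H)) = ⊥) ∧ Subgroup.normalizer ((Q : Subgroup H) : Set H) = Subgroup.normalizer ((Qb : Subgroup H) : Set H) ∧ Cfsg.IsLarge Qb := by
  have hwc := CfsgLib.LocalEven.WC.large_isWeaklyClosed hL hQp hQ1
  have hQQb : Q ≤ Qb := by
    rw [hQb, Cfsg.largeBullet]
    exact CfsgLib.LocalEven.le_pCoreOf Subgroup.le_normalizer hQp le_rfl
  have hQbp : IsPGroup p Qb := hQb ▸ CfsgLib.LocalEven.isPGroup_pCoreOf p _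
  have hN : normalizer (Q : Set H) = normalizer (Qb : Set H) :=
    le_antisymm (hQb ▸ CfsgLib.LocalEven.le_normalizer_pCoreOf p _)
      (CfsgLib.LocalEven.WC.normalizer_le hwc hQbp hQQb)
  have hcen : centralizer (Qb : Set H) ≤ centralizer (Q : Set H) := Subgroup.centralizer_le hQQb
  refine ⟨fun g hg => ?_, hN, hcen.trans (hL.1.trans hQQb), fun U hU hU1 => hN ▸ hL.2 U (hU.trans hcen) hU1⟩
  set Qg := Q.map (MulAut.conj g).toMonoidHom with hQg
  have hA : centralizer (Q : Set H) ⊓ centralizer (Qg : Set H) = ⊥ := by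
    by_contra hU1
    set U := centralizer (Q : Set H) ⊓ centralizer (Qg : Set H) with hU
    have hg1 : Qg ≤ normalizer (U : Set H) :=
      (Subgroup.le_centralizer_iff.1 inf_le_right).trans (Subgroup.centralizer_le_normalizer _)
    exact hg (CfsgLib.LocalEven.WC.mem_normalizer_of_map_eq
      (CfsgLib.LocalEven.WC.eq_of_normalize hwc hQp (hg1.trans (hL.2 U inf_le_left hU1))))
  have hB : centralizer (Qb : Set H) ⊓ centralizer (Qb.map (MulAut.conj g).toMonoidHom : Set H) = ⊥ :=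
    le_bot_iff.1 (le_trans (inf_le_inf hcen (Subgroup.centralizer_le (Subgroup.map_mono hQQb))) hA.le)
  exact ⟨hA, hB, le_bot_iff.1 (le_trans (inf_le_inf inf_le_right inf_le_right) hA.le),
    le_bot_iff.1 (le_trans (inf_le_inf inf_le_right inf_le_right) hB.le)⟩

end Cfsg.Agent.S2844
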