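import Cfsg.Statements.S2845
import Cfsg.Agent.Lib.LocalEven.WeaklyClosed
import Cfsg.Agent.Lib.LocalEven.CoreOf
open Subgroup

set_option autoImplicit false
open Cfsg

namespace Cfsg.Agent.S2845

/-- Let Q be a nontrivial large p-subgroup of the finite group H. Then for every subgroup L ≥ Q with O_p(L) ≠ 1, C_H(O_p(L)) is a p-group and L has characteristic p, and either the weak closure L° of Q in L equals Q or C_H(L°) = 1; for every subgroup R of H containing a Sylow p-subgroup of H with O_p(R) ≠ 1, C_H(O_p(R)) ≤ O_p(R); and H has parabolic characteristic p. -/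
theorem result {H : Type*} [Group H] [Finite H] {p : ℕ} [Fact p.Prime] (Q : Subgroup H) (hQp : IsPGroup p ↥Q) (hQ1 : Q ≠ ⊥) (hL : Cfsg.IsLarge Q) : (∀ L : Subgroup H, Q ≤ L → Cfsg.pCore p ↥L ≠ ⊥ → IsPGroup p ↥(Subgroup.centralizer (((Cfsg.pCoreOf p L) : Subgroup H) : Set H)) ∧ Subgroup.centralizer (Cfsg.pCore p ↥L : Set ↥L) ≤ Cfsg.pCore p ↥L ∧ (Cfsg.weakClosure Q L = Q ∨ Subgroup.centralizer (((Cfsg.weakClosure Q L) : Subgroup H) : Set H) = ⊥)) ∧ (∀ R : Subgroup H, Cfsg.IsParabolic p R → Cfsg.pCore p ↥R ≠ ⊥ → Subgroup.centralizer (((Cfsg.pCoreOf p R) : Subgroup H) : Set H) ≤ (Cfsg.pCoreOf p R)) ∧ Cfsg.IsOfParabolicCharacteristic p H := by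
  have main : ∀ (Q' : Subgroup H), IsPGroup p Q' → Q' ≠ ⊥ → Cfsg.IsLarge Q' → ∀ L : Subgroup H, Q' ≤ L →
      Cfsg.pCore p ↥L ≠ ⊥ →
      IsPGroup p ↥(centralizer (Cfsg.pCoreOf p L : Set H)) ∧
        centralizer (Cfsg.pCore p ↥L : Set ↥L) ≤ Cfsg.pCore p ↥L := by
    intro Q' hQ'p hQ'1 hL' L hQ'L hP1
    have hP1' : Cfsg.pCoreOf p L ≠ ⊥ := fun h =>
      hP1 ((Subgroup.map_eq_bot_iff_of_injective _ L.subtype_injective).1 h)
    exact (CfsgLib.LocalEven.WC.centralizer_pCoreOf_of_le_normalizer hQ'p hL'.1 hQ'L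
      (CfsgLib.LocalEven.WC.centralizer_le_normalizer_large hL' hQ'p (CfsgLib.LocalEven.isPGroup_pCoreOf p L) hP1'
        (hQ'L.trans (CfsgLib.LocalEven.le_normalizer_pCoreOf p L)))).2
  have conjIn : ∀ R : Subgroup H, Cfsg.IsParabolic p R → ∃ g : H, Q.map (MulAut.conj g).toMonoidHom ≤ R := by
    rintro R ⟨T, hT⟩
    obtain ⟨T', hT'⟩ := hQp.exists_le_sylow
    obtain ⟨g, hg⟩ := MulAction.exists_smul_eq H T' T
    exact ⟨g, (Subgroup.map_mono hT').trans ((congrArg (fun S : Sylow p H => (S : Subgroup H)) hg).le.trans hT)⟩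
  have mainR : ∀ R : Subgroup H, Cfsg.IsParabolic p R → Cfsg.pCore p ↥R ≠ ⊥ →
      IsPGroup p ↥(centralizer (Cfsg.pCoreOf p R : Set H)) ∧
        centralizer (Cfsg.pCore p ↥R : Set ↥R) ≤ Cfsg.pCore p ↥R := by
    intro R hR hR1
    obtain ⟨g, hg⟩ := conjIn R hR
    exact main _ (hQp.map _) (fun h => hQ1 ((Subgroup.map_eq_bot_iff_of_injective Q (MulAut.conj g).injective).1 h))
      (CfsgLib.LocalEven.WC.large_conj hL g) R hg hR1
  refine ⟨fun L hQL hP1 => ⟨(main Q hQp hQ1 hL L hQL hP1).1, (main Q hQp hQ1 hL L hQL hP1).2, ?_⟩, ?_, ?_⟩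
  · refine or_iff_not_imp_right.2 fun hU1 => le_antisymm ?_ (CfsgLib.LocalEven.WC.le_weakClosure hQL)
    have hwc := CfsgLib.LocalEven.WC.large_isWeaklyClosed hL hQp hQ1
    have h1 : Cfsg.weakClosure Q L ≤ normalizer (Q : Set H) :=
      (((Subgroup.le_centralizer_iff.1 le_rfl)).trans (Subgroup.centralizer_le_normalizer _)).trans
        (hL.2 _ (Subgroup.centralizer_le (CfsgLib.LocalEven.WC.le_weakClosure hQL)) hU1)
    refine iSup_le fun g => ?_
    rw [CfsgLib.LocalEven.WC.eq_of_normalize hwc hQp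
      ((CfsgLib.LocalEven.WC.map_conj_le_weakClosure Q g.2).trans h1)]
  · intro R hR hR1
    obtain ⟨h1, h2⟩ := mainR R hR hR1
    obtain ⟨T, hT⟩ := hR
    set P := Cfsg.pCoreOf p R with hP
    have hTC : (T : Subgroup H) ≤ normalizer (centralizer (P : Set H) : Set H) := by
      intro t ht
      refine CfsgLib.LocalEven.mem_normalizer_of_conj_le ?_
      rintro _ ⟨c, hc, rfl⟩
      refine Subgroup.mem_centralizer_iff.2 fun v hv => ?_
      have h4 := Subgroup.mem_centralizer_iff.1 hc (t⁻¹ * v * t)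
        ((Subgroup.mem_normalizer_iff''.1 (CfsgLib.LocalEven.le_normalizer_pCoreOf p R (hT ht)) v).1 hv)
      show v * (t * c * t⁻¹) = t * c * t⁻¹ * v
      calc v * (t * c * t⁻¹) = t * ((t⁻¹ * v * t) * c) * t⁻¹ := by group
        _ = t * (c * (t⁻¹ * v * t)) * t⁻¹ := by rw [h4]
        _ = t * c * t⁻¹ * v := by group
    have hle : centralizer (P : Set H) ≤ R :=
      (le_sup_right.trans (T.3 (IsPGroup.to_sup_of_normal_right' T.2 h1 hTC) le_sup_left).le).trans hT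
    intro x hx
    refine ⟨⟨x, hle hx⟩, h2 (Subgroup.mem_centralizer_iff.2 fun v hv => Subtype.ext ?_), rfl⟩
    exact Subgroup.mem_centralizer_iff.1 hx v ⟨v, hv, rfl⟩
  · intro R hRp hR1 hpar
    refine (mainR _ hpar fun h => hR1 ?_).2
    have hn : (R.subgroupOf (normalizer (R : Set H))).Normal :=
      Subgroup.normal_subgroupOf_of_le_normalizer le_rfl
    have h' := CfsgLib.Cores.le_pCore (hn := hn) hRp.comap_subtype
    rw [h, le_bot_iff, Subgroup.subgroupOf_eq_bot, disjoint_iff, inf_eq_left.2 Subgroup.le_normalizer] at h'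
    exact h'

end Cfsg.Agent.S2845
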