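import Cfsg.Statements.S2848
import Cfsg.Agent.Lib.LocalEven.WeaklyClosed
import Cfsg.Agent.Lib.LocalEven.PReduced
import Cfsg.Agent.Lib.LocalEven.PClosed
import Cfsg.Agent.Lib.LocalEven.CoreOf
open Subgroup

set_option autoImplicit false
open Cfsg

namespace Cfsg.Agent.S2848

/-- Standing hypotheses: G a finite group, S a Sylow p-subgroup, Q a nontrivial large p-subgroup of G contained in S (C_G(Q) ≤ Q and N_G(U) ≤ N_G(Q) for all nontrivial U ≤ C_G(Q)), and M a subgroup containing S with the basic property (M ∈ 𝔐_G(S)); Y_M denotes the largest p-reduced normal subgroup of M and M† = M·C_G(Y_M). Then O_p(M) is a weakly closed subgroup of M† (for p): it is the only M†-conjugate of itself inside some Sylow p-subgroup of M† containing it. -/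
theorem result {G : Type*} [Group G] [Finite G] {p : ℕ} [Fact p.Prime] (S : Sylow p G) (Q : Subgroup G) (hQp : IsPGroup p ↥Q) (hQ1 : Q ≠ ⊥) (hQS : Q ≤ (S : Subgroup G)) (hQ : Cfsg.IsLarge Q) (M : Subgroup G) (hSM : (S : Subgroup G) ≤ M) (hM : Cfsg.IsInFrakM p M) : Cfsg.IsWeaklyClosedSubgroup p (((Cfsg.pCoreOf p M)).subgroupOf (M ⊔ Subgroup.centralizer (((Cfsg.largestPReducedOf p M) : Subgroup G) : Set G))) := by
  set Y := Cfsg.largestPReducedOf p M with hY
  set C := centralizer (Y : Set G) with hC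
  set P := Cfsg.pCoreOf p M with hP
  have hPp : IsPGroup p P := CfsgLib.LocalEven.isPGroup_pCoreOf p M
  have hMC : M ≤ normalizer (C : Set G) := by
    intro m hm
    refine CfsgLib.LocalEven.mem_normalizer_of_conj_le ?_
    rintro _ ⟨c, hc, rfl⟩
    refine Subgroup.mem_centralizer_iff.2 fun v hv => ?_
    have h4 := Subgroup.mem_centralizer_iff.1 hc (m⁻¹ * v * m)
      ((Subgroup.mem_normalizer_iff''.1 (CfsgLib.LocalEven.PRed.le_normalizer_largestPReducedOf p M hm) v).1 hv)
    show v * (m * c * m⁻¹) = m * c * m⁻¹ * v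
    calc v * (m * c * m⁻¹) = m * ((m⁻¹ * v * m) * c) * m⁻¹ := by group
      _ = m * (c * (m⁻¹ * v * m)) * m⁻¹ := by rw [h4]
      _ = m * c * m⁻¹ * v := by group
  set K := M ⊔ C with hK
  have hSK : (S : Subgroup G) ≤ K := hSM.trans le_sup_left
  have hPS : P ≤ (S : Subgroup G) := fun x hx => by
    obtain ⟨y, hy, rfl⟩ := hx
    exact Subgroup.mem_subgroupOf.1 (CfsgLib.Cores.pCore_le_sylow (S.subtype hSM) hy)
  have hPC : P ≤ C := by
    have h := CfsgLib.LocalEven.PRed.pCore_le_centralizer (CfsgLib.LocalEven.PRed.isPReducedNormal_largestPReduced (p := p) (L := ↥M))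
    rintro _ ⟨x, hx, rfl⟩
    refine Subgroup.mem_centralizer_iff.2 ?_
    rintro _ ⟨y, hy, rfl⟩
    exact congrArg Subtype.val (Subgroup.mem_centralizer_iff.1 (h hx) y hy)
  refine ⟨S.subtype hSK, fun x hx => Subgroup.mem_subgroupOf.2 (hPS hx), fun g hg => ?_⟩
  apply Subgroup.map_injective K.subtype_injective
  have hmap : ∀ k : ↥K, ((P.subgroupOf K).map (MulAut.conj k).toMonoidHom).map K.subtype =
      P.map (MulAut.conj (k : G)).toMonoidHom := by
    intro k
    rw [Subgroup.map_map, show K.subtype.comp (MulAut.conj k).toMonoidHom =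
      (MulAut.conj (k : G)).toMonoidHom.comp K.subtype from by ext x; simp, ← Subgroup.map_map,
      Subgroup.map_subgroupOf_eq_of_le ((CfsgLib.LocalEven.pCoreOf_le p M).trans le_sup_left)]
  rw [hmap, Subgroup.map_subgroupOf_eq_of_le ((CfsgLib.LocalEven.pCoreOf_le p M).trans le_sup_left)]
  have hgS : P.map (MulAut.conj (g : G)).toMonoidHom ≤ (S : Subgroup G) := by
    rw [← hmap]
    exact (Subgroup.map_mono hg).trans (fun _ ⟨x, hx, hxe⟩ => hxe ▸ Subgroup.mem_subgroupOf.1 hx)
  have hk' : (g : G) ∈ ((M ⊔ C : Subgroup G) : Set G) := g.2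
  rw [Subgroup.coe_mul_of_left_le_normalizer_right M C hMC] at hk'
  obtain ⟨m, hm, c, hc, hgmc⟩ := hk'
  change m * c = (g : G) at hgmc
  set c' := m * c * m⁻¹ with hc'
  have hc'C : c' ∈ C := (Subgroup.mem_normalizer_iff.1 (hMC hm) c).1 hc
  have hgc : P.map (MulAut.conj (g : G)).toMonoidHom = P.map (MulAut.conj c').toMonoidHom := by
    rw [← hgmc, show m * c = c' * m by rw [hc']; group, ← CfsgLib.LocalEven.WC.map_conj_map,
      CfsgLib.LocalEven.WC.map_conj_eq_of_mem (CfsgLib.LocalEven.le_normalizer_pCoreOf p M hm)]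
  have hgC : P.map (MulAut.conj (g : G)).toMonoidHom ≤ C := by
    rw [hgc]
    exact (Subgroup.map_mono hPC).trans (CfsgLib.LocalEven.WC.map_conj_eq_of_mem (Subgroup.le_normalizer hc'C)).le
  haveI : ((M ⊓ C).subgroupOf M).Normal :=
    Subgroup.normal_subgroupOf_of_le_normalizer (fun x hx => Subgroup.mem_normalizer_iff.2 fun v =>
      and_congr (Subgroup.mem_normalizer_iff.1 (Subgroup.le_normalizer hx) v) (Subgroup.mem_normalizer_iff.1 (hMC hx) v))
  have hclosed : Cfsg.IsPClosed p ↥((M ⊓ C).subgroupOf M) :=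
    CfsgLib.LocalEven.PClosed.congr_equiv (Subgroup.subgroupOfEquivOfLe inf_le_left).symm hM.2.2.2.2.1
  have hle : P.map (MulAut.conj (g : G)).toMonoidHom ≤ P := by
    have h1 := CfsgLib.LocalEven.PClosed.le_pCore_of_normal hclosed
      (Q := (P.map (MulAut.conj (g : G)).toMonoidHom).subgroupOf M) (hPp.map _).comap_subtype
      (Subgroup.comap_mono (le_inf (hgS.trans hSM) hgC))
    intro x hx
    exact ⟨⟨x, hSM (hgS hx)⟩, h1 hx, rfl⟩
  exact Subgroup.eq_of_le_of_card_ge hle (CfsgLib.LocalEven.card_map_conj P (g : G)).ge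

end Cfsg.Agent.S2848
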