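import Cfsg.Statements.S2849
import Cfsg.Agent.Lib.LocalEven.WeaklyClosed
import Cfsg.Agent.Lib.LocalEven.PReduced
open Subgroup
open scoped commutatorElement

set_option autoImplicit false
open Cfsg

namespace Cfsg.Agent.S2849

/-- Standing hypotheses: G a finite group, S a Sylow p-subgroup, Q a nontrivial large p-subgroup of G contained in S (C_G(Q) ≤ Q and N_G(U) ≤ N_G(Q) for all nontrivial U ≤ C_G(Q)), and M a subgroup containing S with the basic property (M ∈ 𝔐_G(S)); Y_M denotes the largest p-reduced normal subgroup of M and M† = M·C_G(Y_M). Suppose Y_M is asymmetric in G. Then for every subgroup R with Y_M ≤ R ≤ M†, the normal closure of Y_M in N_G(R) is elementary abelian. -/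
theorem result {G : Type*} [Group G] [Finite G] {p : ℕ} [Fact p.Prime] (S : Sylow p G) (Q : Subgroup G) (hQp : IsPGroup p ↥Q) (hQ1 : Q ≠ ⊥) (hQS : Q ≤ (S : Subgroup G)) (hQ : Cfsg.IsLarge Q) (M : Subgroup G) (hSM : (S : Subgroup G) ≤ M) (hM : Cfsg.IsInFrakM p M) (hasym : ¬ Cfsg.IsSymmetricIn (Cfsg.largestPReducedOf p M)) (R : Subgroup G) (hYR : (Cfsg.largestPReducedOf p M) ≤ R) (hRM : R ≤ (M ⊔ Subgroup.centralizer (((Cfsg.largestPReducedOf p M) : Subgroup G) : Set G))) : Cfsg.IsElementaryAbelian p ((Subgroup.normalClosure ((((Cfsg.largestPReducedOf p M)).subgroupOf (Subgroup.normalizer ((R : Subgroup G) : Set G)) : Subgroup ↥(Subgroup.normalizer ((R : Subgroup G) : Set G))) : Set ↥(Subgroup.normalizer ((R : Subgroup G) : Set G)))).map (Subgroup.normalizer ((R : Subgroup G) : Set G)).subtype) := by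
  set Y := Cfsg.largestPReducedOf p M with hYdef
  set N := normalizer (R : Set G) with hNdef
  have hMd : M ⊔ centralizer (Y : Set G) ≤ normalizer (Y : Set G) :=
    sup_le (CfsgLib.LocalEven.PRed.le_normalizer_largestPReducedOf p M) (Subgroup.centralizer_le_normalizer _)
  have hYe : Cfsg.IsElementaryAbelian p Y :=
    CfsgLib.PGroup.elemAb_map (CfsgLib.LocalEven.PRed.elemAb (CfsgLib.LocalEven.PRed.isPReducedNormal_largestPReduced (p := p) (L := ↥M))) M.subtype
  have hYN : Y ≤ N := (hYR.trans Subgroup.le_normalizer)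
  have hpair : ∀ n ∈ N, ∀ a ∈ Y, ∀ b ∈ Y.map (MulAut.conj n).toMonoidHom, a * b = b * a := by
    intro n hn a ha b hb
    set Z := Y.map (MulAut.conj n).toMonoidHom with hZ
    have hZR : Z ≤ R := (Subgroup.map_mono hYR).trans (CfsgLib.LocalEven.WC.map_conj_eq_of_mem hn).le
    have h1 : Z ≤ normalizer (Y : Set G) := (hZR.trans hRM).trans hMd
    have h2 : Y ≤ normalizer (Z : Set G) := by
      intro y hy
      apply CfsgLib.LocalEven.WC.mem_normalizer_of_map_eq
      have h3 : n⁻¹ * y * n ∈ normalizer (Y : Set G) :=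
        hMd (hRM ((Subgroup.mem_normalizer_iff''.1 hn y).1 (hYR hy)))
      rw [hZ, CfsgLib.LocalEven.WC.map_conj_map, show y * n = n * (n⁻¹ * y * n) by group,
        ← CfsgLib.LocalEven.WC.map_conj_map, CfsgLib.LocalEven.WC.map_conj_eq_of_mem h3]
    have h4 : ⁅Y, Z⁆ ≤ Y ⊓ Z := le_inf (CfsgLib.Solvable.commutator_le_of_le_normalizer h1)
      (by rw [Subgroup.commutator_comm]; exact CfsgLib.Solvable.commutator_le_of_le_normalizer h2)
    have h5 : ⁅Y, Z⁆ = ⊥ := by
      by_contra h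
      exact hasym ⟨n, h, h4⟩
    exact (Subgroup.mem_centralizer_iff.1 (Subgroup.commutator_eq_bot_iff_le_centralizer.1 h5 ha) b hb).symm
  have hmap : (Subgroup.normalClosure ((Y.subgroupOf N : Subgroup ↥N) : Set ↥N)).map N.subtype =
      Subgroup.closure {x : G | ∃ n ∈ N, x ∈ Y.map (MulAut.conj n).toMonoidHom} := by
    rw [Subgroup.normalClosure, MonoidHom.map_closure]
    congr 1
    ext x
    constructor
    · rintro ⟨c, hc, rfl⟩
      obtain ⟨y, hy, hyc⟩ := Group.mem_conjugatesOfSet_iff.1 hc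
      obtain ⟨n, hn⟩ := isConj_iff.1 hyc
      exact ⟨n, n.2, y, hy, by rw [← hn]; rfl⟩
    · rintro ⟨n, hn, y, hy, rfl⟩
      exact ⟨⟨n, hn⟩ * ⟨y, hYN hy⟩ * ⟨n, hn⟩⁻¹,
        Group.mem_conjugatesOfSet_iff.2 ⟨⟨y, hYN hy⟩, hy, isConj_iff.2 ⟨⟨n, hn⟩, rfl⟩⟩, rfl⟩
  rw [hmap]
  set S' : Set G := {x : G | ∃ n ∈ N, x ∈ Y.map (MulAut.conj n).toMonoidHom} with hS'
  have hcomm : ∀ a ∈ S', ∀ b ∈ S', a * b = b * a := by
    rintro _ ⟨m, hm, a, ha, rfl⟩ b ⟨n, hn, hb⟩
    have hb' : m⁻¹ * b * m ∈ Y.map (MulAut.conj (m⁻¹ * n)).toMonoidHom := by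
      rw [← CfsgLib.LocalEven.WC.map_conj_map]
      exact ⟨b, hb, by simp⟩
    have h := hpair _ (mul_mem (inv_mem hm) hn) a ha _ hb'
    show m * a * m⁻¹ * b = b * (m * a * m⁻¹)
    calc m * a * m⁻¹ * b = m * (a * (m⁻¹ * b * m)) * m⁻¹ := by group
      _ = m * (m⁻¹ * b * m * a) * m⁻¹ := by rw [h]
      _ = b * (m * a * m⁻¹) := by group
  haveI hc : IsMulCommutative ↥(Subgroup.closure S') := Subgroup.isMulCommutative_closure hcomm
  refine ⟨hc, fun a ha => ?_⟩
  induction ha using Subgroup.closure_induction with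
  | mem x hx =>
    obtain ⟨n, hn, y, hy, rfl⟩ := hx
    show (n * y * n⁻¹) ^ p = 1
    rw [conj_pow, hYe.2 y hy, mul_one, mul_inv_cancel]
  | one => simp
  | mul x y hx hy ihx ihy =>
    have h : Commute x y := congrArg Subtype.val (hc.is_comm.comm ⟨x, hx⟩ ⟨y, hy⟩)
    rw [h.mul_pow, ihx, ihy, one_mul]
  | inv x hx ih => rw [inv_pow, ih, inv_one]

end Cfsg.Agent.S2849
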