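import Cfsg.Statements.S2850
import Cfsg.Agent.Lib.LocalEven.FrakMAsym
import Cfsg.Agent.Lib.LocalEven.Kieler
import Cfsg.Agent.S2845
open Subgroup

set_option autoImplicit false
open Cfsg

namespace Cfsg.Agent.S2850

/-- Standing hypotheses: G a finite group, S a Sylow p-subgroup, Q a nontrivial large p-subgroup of G contained in S (C_G(Q) ≤ Q and N_G(U) ≤ N_G(Q) for all nontrivial U ≤ C_G(Q)), and M a subgroup containing S with the basic property (M ∈ 𝔐_G(S)); Y_M denotes the largest p-reduced normal subgroup of M and M† = M·C_G(Y_M). Suppose Y_M is asymmetric in G. Then N_G(L) ≤ N_G(O_p(M)) ≤ M† for every p-subgroup L containing O_p(M); O_p(M) is a weakly closed subgroup of G; for every subgroup L containing O_p(M), L ∩ M† contains a Sylow p-subgroup of L; and two elements of Y_M conjugate in G are conjugate in M. -/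
theorem result {G : Type*} [Group G] [Finite G] {p : ℕ} [Fact p.Prime] (S : Sylow p G) (Q : Subgroup G) (hQp : IsPGroup p ↥Q) (hQ1 : Q ≠ ⊥) (hQS : Q ≤ (S : Subgroup G)) (hQ : Cfsg.IsLarge Q) (M : Subgroup G) (hSM : (S : Subgroup G) ≤ M) (hM : Cfsg.IsInFrakM p M) (hasym : ¬ Cfsg.IsSymmetricIn (Cfsg.largestPReducedOf p M)) : (∀ L : Subgroup G, IsPGroup p ↥L → (Cfsg.pCoreOf p M) ≤ L → Subgroup.normalizer ((L : Subgroup G) : Set G) ≤ Subgroup.normalizer (((Cfsg.pCoreOf p M) : Subgroup G) : Set G) ∧ Subgroup.normalizer (((Cfsg.pCoreOf p M) : Subgroup G) : Set G) ≤ (M ⊔ Subgroup.centralizer (((Cfsg.largestPReducedOf p M) : Subgroup G) : Set G))) ∧ Cfsg.IsWeaklyClosedSubgroup p (Cfsg.pCoreOf p M) ∧ (∀ L : Subgroup G, (Cfsg.pCoreOf p M) ≤ L → Cfsg.IsParabolic p ((L ⊓ (M ⊔ Subgroup.centralizer (((Cfsg.largestPReducedOf p M) : Subgroup G) : Set G))).subgroupOf L)) ∧ (∀ x ∈ (Cfsg.largestPReducedOf p M), ∀ g : G, g * x * g⁻¹ ∈ (Cfsg.largestPReducedOf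 p M) → ∃ m ∈ M, m * x * m⁻¹ = g * x * g⁻¹) := by
  set Y := Cfsg.largestPReducedOf p M with hY
  set P := Cfsg.pCoreOf p M with hP
  have hpc : CfsgLib.LocalEven.FrakM.ParabolicCharP p G := fun R hR hR1 =>
    ⟨hR1, (Cfsg.Agent.S2845.result Q hQp hQ1 hQ).2.1 R hR hR1⟩
  have hPN := CfsgLib.LocalEven.FrakM.normalizer_pCoreOf_le S hSM hM hpc
  have hPp : IsPGroup p P := CfsgLib.LocalEven.isPGroup_pCoreOf p M
  refine ⟨fun L hL hPL => ⟨fun n hn => ?_, hPN⟩,
    CfsgLib.LocalEven.FrakM.isWeaklyClosedSubgroup_pCoreOf S hSM hM hasym hpc, fun L hPL => ?_, fun x hx g hgx => ?_⟩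
  · refine CfsgLib.LocalEven.mem_normalizer_of_conj_le (le_of_eq ?_)
    exact CfsgLib.LocalEven.FrakM.conj_pCoreOf_eq_of_le S hSM hM hasym hpc hL hPL
      ((Subgroup.map_mono hPL).trans (CfsgLib.LocalEven.WC.map_conj_eq_of_mem hn).le)
  · obtain ⟨T, hT⟩ := (hPp.comap_subtype (K := L)).exists_le_sylow
    refine ⟨T, fun t ht => Subgroup.mem_subgroupOf.2 (Subgroup.mem_inf.2 ⟨t.2, hPN ?_⟩)⟩
    refine CfsgLib.LocalEven.FrakM.pGroup_le_normalizer_pCoreOf S hSM hM hasym hpc (T.2.map L.subtype) ?_ ⟨t, ht, rfl⟩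
    intro v hv
    exact ⟨⟨v, hPL hv⟩, hT hv, rfl⟩
  · set C := centralizer ({g * x * g⁻¹} : Set G) with hC
    have hPC : P ≤ C := fun v hv => Subgroup.mem_centralizer_iff.2 fun w hw => by
      rw [Set.mem_singleton_iff] at hw
      subst hw
      exact Subgroup.mem_centralizer_iff.1 (CfsgLib.LocalEven.FrakM.pCoreOf_le_centralizer M hv) _ hgx
    have hPgC : P.map (MulAut.conj g).toMonoidHom ≤ C := by
      rintro _ ⟨v, hv, rfl⟩
      refine Subgroup.mem_centralizer_iff.2 fun w hw => ?_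
      rw [Set.mem_singleton_iff] at hw
      subst hw
      have h4 := Subgroup.mem_centralizer_iff.1 (CfsgLib.LocalEven.FrakM.pCoreOf_le_centralizer M hv) x hx
      show g * x * g⁻¹ * (g * v * g⁻¹) = g * v * g⁻¹ * (g * x * g⁻¹)
      calc g * x * g⁻¹ * (g * v * g⁻¹) = g * (x * v) * g⁻¹ := by group
        _ = g * (v * x) * g⁻¹ := by rw [h4]
        _ = g * v * g⁻¹ * (g * x * g⁻¹) := by group
    obtain ⟨T, hT⟩ := (hPp.comap_subtype (K := C)).exists_le_sylow
    obtain ⟨T', hT'⟩ := ((hPp.map (MulAut.conj g).toMonoidHom).comap_subtype (K := C)).exists_le_sylow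
    obtain ⟨c, hc⟩ := MulAction.exists_smul_eq ↥C T' T
    have hle : P.map (MulAut.conj ((c : G) * g)).toMonoidHom ≤ (T : Subgroup ↥C).map C.subtype := by
      rw [← CfsgLib.LocalEven.WC.map_conj_map]
      rintro _ ⟨v, hv, rfl⟩
      refine ⟨c * ⟨v, hPgC hv⟩ * c⁻¹, ?_, rfl⟩
      rw [← hc, Sylow.coe_subgroup_smul]
      exact ⟨_, hT' (show (⟨v, hPgC hv⟩ : ↥C) ∈ (P.map (MulAut.conj g).toMonoidHom).subgroupOf C from hv), rfl⟩
    have hPT : P ≤ (T : Subgroup ↥C).map C.subtype := fun v hv => ⟨⟨v, hPC hv⟩, hT hv, rfl⟩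
    have hcg : (c : G) * g ∈ M ⊔ centralizer (Y : Set G) :=
      hPN (CfsgLib.LocalEven.WC.mem_normalizer_of_map_eq
        (CfsgLib.LocalEven.FrakM.conj_pCoreOf_eq_of_le S hSM hM hasym hpc (T.2.map C.subtype) hPT hle))
    rw [← SetLike.mem_coe, Subgroup.coe_mul_of_left_le_normalizer_right M (centralizer (Y : Set G))
      (fun u hu => CfsgLib.LocalEven.Oz.mem_normalizer_centralizer (CfsgLib.LocalEven.PRed.le_normalizer_largestPReducedOf p M hu))] at hcg
    obtain ⟨m, hm, d, hd, hmd⟩ := hcg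
    refine ⟨m, hm, ?_⟩
    have h4 := Subgroup.mem_centralizer_iff.1 hd x hx
    have h5 := Subgroup.mem_centralizer_iff.1 c.2 (g * x * g⁻¹) rfl
    change m * d = (c : G) * g at hmd
    calc m * x * m⁻¹ = m * (d * x * d⁻¹) * m⁻¹ := by rw [← h4]; group
      _ = (m * d) * x * (m * d)⁻¹ := by group
      _ = ((c : G) * (g * x * g⁻¹)) * (c : G)⁻¹ := by rw [hmd]; group
      _ = g * x * g⁻¹ := by rw [← h5]; group

end Cfsg.Agent.S2850
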