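import Cfsg.Statements.S2851
import Cfsg.Agent.Lib.LocalEven.FrakMAsym
import Cfsg.Agent.Lib.Cores.Components
import Cfsg.Agent.S2845
open Subgroup

set_option autoImplicit false
open Cfsg

namespace Cfsg.Agent.S2851

/-- Standing hypotheses: G a finite group, S a Sylow p-subgroup, Q a nontrivial large p-subgroup of G contained in S, M a subgroup containing S with the basic property (M ∈ 𝔐_G(S)); Y_M the largest p-reduced normal subgroup of M and M† = M·C_G(Y_M). Let F be the preimage in M† of the generalized Fitting subgroup of M†/C_{M†}(Y_M). If Y_M is asymmetric in G and H is a subgroup of characteristic p containing F, then Y_M ≤ Y_H. -/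
theorem result {G : Type*} [Group G] [Finite G] {p : ℕ} [Fact p.Prime] (S : Sylow p G) (Q : Subgroup G) (hQp : IsPGroup p ↥Q) (hQ1 : Q ≠ ⊥) (hQS : Q ≤ (S : Subgroup G)) (hQ : Cfsg.IsLarge Q) (M : Subgroup G) (hSM : (S : Subgroup G) ≤ M) (hM : Cfsg.IsInFrakM p M) (hasym : ¬ Cfsg.IsSymmetricIn (Cfsg.largestPReducedOf p M)) [hn : ((Subgroup.centralizer (((Cfsg.largestPReducedOf p M) : Subgroup G) : Set G)).subgroupOf (M ⊔ Subgroup.centralizer (((Cfsg.largestPReducedOf p M) : Subgroup G) : Set G))).Normal] (F : Subgroup G) (hF : F = ((Cfsg.generalizedFittingSubgroup (↥(M ⊔ Subgroup.centralizer (((Cfsg.largestPReducedOf p M) : Subgroup G) : Set G)) ⧸ (Subgroup.centralizer (((Cfsg.largestPReducedOf p M) : Subgroup G) : Set G)).subgroupOf (M ⊔ Subgroup.centralizer (((Cfsg.largestPReducedOf p M) : Subgroup G) : Set G)))).comap (QuotientGroup.mk' ((Subgroup.centralizer (((Cfsg.largestPReducedOf p M) : Subgroup G) : Set G)).subgroupOf (M ⊔ Subgroup.centralizer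 (((Cfsg.largestPReducedOf p M) : Subgroup G) : Set G))))).map ((M ⊔ Subgroup.centralizer (((Cfsg.largestPReducedOf p M) : Subgroup G) : Set G))).subtype) (H : Subgroup G) (hFH : F ≤ H) (hH : Subgroup.centralizer (Cfsg.pCore p ↥H : Set ↥H) ≤ Cfsg.pCore p ↥H) : (Cfsg.largestPReducedOf p M) ≤ Cfsg.largestPReducedOf p H := by
  set Y := Cfsg.largestPReducedOf p M with hY
  set P := Cfsg.pCoreOf p M with hP
  set C := centralizer (Y : Set G) with hC
  set K := M ⊔ C with hK
  set C' := C.subgroupOf K with hC'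
  set π := QuotientGroup.mk' C' with hπ
  set E := Cfsg.generalizedFittingSubgroup (↥K ⧸ C') with hE
  have hpc : CfsgLib.LocalEven.FrakM.ParabolicCharP p G := fun R hR hR1 =>
    ⟨hR1, (Cfsg.Agent.S2845.result Q hQp hQ1 hQ).2.1 R hR hR1⟩
  have hKN : normalizer (Y : Set G) = K := CfsgLib.LocalEven.FrakM.normalizer_largest S hSM hM hpc
  have hPC : P ≤ C := CfsgLib.LocalEven.FrakM.pCoreOf_le_centralizer M
  have hCF : C ≤ F := by
    intro c hc
    rw [hF]
    exact ⟨⟨c, (le_sup_right : C ≤ K) hc⟩, by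
      show π _ ∈ E
      rw [show π ⟨c, (le_sup_right : C ≤ K) hc⟩ = 1 from (QuotientGroup.eq_one_iff _).2 hc]
      exact one_mem _, rfl⟩
  have hPH : P ≤ H := hPC.trans (hCF.trans hFH)
  have hYP : Y ≤ P := CfsgLib.LocalEven.FrakM.largest_le_pCoreOf
  have hYK : Cfsg.IsPReducedNormal p (Y.subgroupOf K) := by
    have := CfsgLib.LocalEven.PRed.isPReducedNormal_largestPReducedOf p K
    rwa [show Cfsg.largestPReducedOf p K = Y from hM.2.2.2.1.symm] at this
  have hYle : Y ≤ K := (hYP.trans hPC).trans le_sup_right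
  have hO : Cfsg.pCore p (↥K ⧸ C') = ⊥ := by
    refine CfsgLib.Cores.pCore_eq_bot_iff.2 fun N hN hNp => ?_
    haveI := hN
    have h := (CfsgLib.LocalEven.PRed.isPReducedNormal_subgroupOf_iff hYle).1 hYK
    have hle : (N.comap π).map K.subtype ≤ C := by
      refine h.2.2 _ (Subgroup.map_subtype_le _) ?_ ?_
      · intro k hk
        refine CfsgLib.LocalEven.mem_normalizer_of_conj_le ?_
        rintro _ ⟨_, ⟨y, hy, rfl⟩, rfl⟩
        exact ⟨⟨k, hk⟩ * y * ⟨k, hk⟩⁻¹, (hN.comap π).conj_mem y hy ⟨k, hk⟩, rfl⟩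
      · rintro _ ⟨y, hy, rfl⟩
        obtain ⟨j, hj⟩ := hNp ⟨π y, hy⟩
        refine ⟨j, ?_⟩
        have h1 : (π y) ^ p ^ j = 1 := congrArg Subtype.val hj
        rw [← map_pow, QuotientGroup.mk'_apply, QuotientGroup.eq_one_iff] at h1
        exact h1
    rw [← Subgroup.map_comap_eq_self_of_surjective (QuotientGroup.mk'_surjective C') N,
      Subgroup.map_eq_bot_iff, QuotientGroup.ker_mk']
    exact fun y hy => hle ⟨y, hy, rfl⟩
  haveI hEn : E.Normal := CfsgLib.Cores.generalizedFittingSubgroup_normal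
  have hEO : Cfsg.pCore p ↥E = ⊥ := by
    refine (Subgroup.map_eq_bot_iff_of_injective _ E.subtype_injective).1 ?_
    rw [CfsgLib.Cores.pCore_of_normal, hO, bot_inf_eq]
  have hPp : IsPGroup p P := CfsgLib.LocalEven.isPGroup_pCoreOf p M
  -- a subgroup normalised by `H` that is a `p`-group modulo `C` meets a `p`-subgroup of `K` inside `C`
  have key : ∀ N : Subgroup G, H ≤ normalizer (N : Set G) → (∀ x ∈ N ⊓ F, ∃ k : ℕ, x ^ p ^ k ∈ C) →
      ∀ t ∈ N ⊓ K, (∃ k : ℕ, t ^ p ^ k ∈ C) → t ∈ C := by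
    intro N hHN hpow t ht hto
    have hFle : ∀ a : ↥K, π a ∈ E → (a : G) ∈ F := fun a ha => by rw [hF]; exact ⟨a, ha, rfl⟩
    have hFge : ∀ a : ↥K, (a : G) ∈ F → π a ∈ E := fun a ha => by
      rw [hF] at ha
      obtain ⟨b, hb, hba⟩ := ha
      rwa [K.subtype_injective hba] at hb
    have hD : ∀ a : ↥K, (a : G) ∈ N ⊓ F → π a = 1 := by
      intro a ha
      set D := ((N ⊓ F).subgroupOf K).map π with hD
      have hDE : D ≤ E := by
        rintro _ ⟨b, hb, rfl⟩
        exact hFge b hb.2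
      haveI : (D.subgroupOf E).Normal := by
        refine Subgroup.normal_subgroupOf_of_le_normalizer fun e he => ?_
        refine CfsgLib.LocalEven.mem_normalizer_of_conj_le ?_
        obtain ⟨b, rfl⟩ := QuotientGroup.mk'_surjective C' e
        rintro _ ⟨_, ⟨d, hd, rfl⟩, rfl⟩
        refine ⟨b * d * b⁻¹, Subgroup.mem_subgroupOf.2 (Subgroup.mem_inf.2 ⟨?_, ?_⟩), by simp only [map_mul, map_inv]; rfl⟩
        · exact CfsgLib.LocalEven.conj_mem_of_mem_normalizer (hHN (hFH (hFle b he))) hd.1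
        · exact mul_mem (mul_mem (hFle b he) hd.2) (inv_mem (hFle b he))
      have hDp : IsPGroup p ↥D := by
        rintro ⟨_, b, hb, rfl⟩
        obtain ⟨k, hk⟩ := hpow _ hb
        refine ⟨k, Subtype.ext ?_⟩
        show (π b) ^ p ^ k = 1
        rw [← map_pow, QuotientGroup.mk'_apply, QuotientGroup.eq_one_iff]
        exact hk
      have h : D.subgroupOf E ≤ Cfsg.pCore p ↥E :=
        CfsgLib.Cores.le_pCore (N := D.subgroupOf E) (hDp.comap_subtype (K := E))
      rw [hEO, le_bot_iff, Subgroup.subgroupOf_eq_bot] at h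
      have hb := h.eq_bot_of_le hDE
      exact Subgroup.mem_bot.1 (hb.le ⟨a, ha, rfl⟩)
    have htE : π ⟨t, ht.2⟩ ∈ E := by
      refine CfsgLib.Cores.centralizer_generalizedFittingSubgroup_le (Subgroup.mem_centralizer_iff.2 fun e he => ?_)
      obtain ⟨b, rfl⟩ := QuotientGroup.mk'_surjective C' e
      have hc : ((b * ⟨t, ht.2⟩ * b⁻¹ * ⟨t, ht.2⟩⁻¹ : ↥K) : G) ∈ N ⊓ F := by
        refine Subgroup.mem_inf.2 ⟨mul_mem (CfsgLib.LocalEven.conj_mem_of_mem_normalizer (hHN (hFH (hFle b he))) ht.1) (inv_mem ht.1), ?_⟩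
        refine hFle _ ?_
        simp only [map_mul, map_inv, mul_assoc]
        refine E.mul_mem he ?_
        have h5 := hEn.conj_mem _ (E.inv_mem he) (π ⟨t, ht.2⟩)
        rw [mul_assoc] at h5
        exact h5
      have := hD _ hc
      rwa [map_mul, map_mul, map_mul, map_inv, map_inv, mul_inv_eq_one, mul_inv_eq_iff_eq_mul] at this
    have := hD ⟨t, ht.2⟩ (Subgroup.mem_inf.2 ⟨ht.1, hFle _ htE⟩)
    rwa [QuotientGroup.mk'_apply, QuotientGroup.eq_one_iff] at this
  obtain ⟨T, hT⟩ := (hPp.comap_subtype (K := H)).exists_le_sylow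
  have hTK : (T : Subgroup ↥H).map H.subtype ≤ K := by
    rw [← hKN]
    exact CfsgLib.LocalEven.FrakM.pGroup_le_normalizer_largest S hSM hM hasym hpc (T.2.map H.subtype)
      fun v hv => ⟨⟨v, hPH hv⟩, hT hv, rfl⟩
  set O := Cfsg.pCoreOf p H with hOdef
  have hOp : IsPGroup p O := CfsgLib.LocalEven.isPGroup_pCoreOf p H
  have hOK : O ≤ K := le_trans (Subgroup.map_mono (CfsgLib.Cores.pCore_le_sylow T)) hTK
  have hOC : O ≤ C := fun t ht => by
    obtain ⟨k, hk⟩ := hOp ⟨t, ht⟩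
    refine key O (CfsgLib.LocalEven.le_normalizer_pCoreOf p H) (fun x hx => ?_) t (Subgroup.mem_inf.2 ⟨ht, hOK ht⟩)
      ⟨k, by rw [show t ^ p ^ k = 1 from congrArg Subtype.val hk]; exact one_mem _⟩
    obtain ⟨j, hj⟩ := hOp ⟨x, hx.1⟩
    exact ⟨j, by rw [show x ^ p ^ j = 1 from congrArg Subtype.val hj]; exact one_mem _⟩
  have hYH : Y ≤ H := hYP.trans hPH
  have hYO : Y.subgroupOf H ≤ centralizer (Cfsg.pCore p ↥H : Set ↥H) := fun y hy =>
    Subgroup.mem_centralizer_iff.2 fun o ho => Subtype.ext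
      (Subgroup.mem_centralizer_iff.1 (hOC ⟨o, ho, rfl⟩) y hy).symm
  set V := Subgroup.normalClosure ((Y.subgroupOf H : Subgroup ↥H) : Set ↥H) with hV
  have hYV : Y.subgroupOf H ≤ V := fun y hy => Subgroup.subset_normalClosure hy
  have hVC : V ≤ centralizer (Cfsg.pCore p ↥H : Set ↥H) := Subgroup.normalClosure_le_normal hYO
  have hVe : Cfsg.IsElementaryAbelian p V := by
    have hc : ∀ a ∈ V, ∀ b ∈ V, a * b = b * a := fun a ha b hb =>
      (Subgroup.mem_centralizer_iff.1 (hVC hb) a (hH (hVC ha)))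
    refine CfsgLib.PGroup.isElementaryAbelian_mk hc fun a ha => ?_
    have : V ≤ Cfsg.omegaOne p V := by
      have : (Cfsg.omegaOne p V).Normal := CfsgLib.PGroup.omegaOne_normal p V
      refine Subgroup.normalClosure_le_normal fun y hy => CfsgLib.PGroup.mem_omegaOne (hYV hy) ?_
      have he : Cfsg.IsElementaryAbelian p Y :=
        CfsgLib.PGroup.elemAb_map (CfsgLib.LocalEven.PRed.elemAb (CfsgLib.LocalEven.PRed.isPReducedNormal_largestPReduced (p := p) (L := ↥M))) M.subtype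
      exact Subtype.ext (he.2 _ hy)
    exact ((CfsgLib.PGroup.mem_omegaOne_iff_of_comm hc).1 (this ha)).2
  have hVr : Cfsg.IsPReducedNormal p V := by
    refine CfsgLib.LocalEven.PRed.isPReducedNormal_iff.2 ⟨inferInstance, hVe, fun N hN hpow => ?_⟩
    haveI := hN
    rw [Subgroup.le_centralizer_iff]
    refine Subgroup.normalClosure_le_normal ?_
    show Y.subgroupOf H ≤ centralizer (N : Set ↥H)
    rw [Subgroup.le_centralizer_iff]
    refine (CfsgLib.LocalEven.PRed.le_sup_inf_sylow T hpow).trans (sup_le (Subgroup.centralizer_le hYV) ?_)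
    intro t ht
    have hpow' : ∀ x ∈ N.map H.subtype, ∃ k : ℕ, x ^ p ^ k ∈ C := by
      rintro _ ⟨x, hx, rfl⟩
      obtain ⟨k, hk⟩ := hpow x hx
      refine ⟨k, Subgroup.mem_centralizer_iff.2 fun y hy => ?_⟩
      exact congrArg Subtype.val (Subgroup.mem_centralizer_iff.1 hk ⟨y, hYH hy⟩ (hYV hy))
    have htC : (t : G) ∈ C := key (N.map H.subtype) (by
        intro h hh
        refine CfsgLib.LocalEven.mem_normalizer_of_conj_le ?_
        rintro _ ⟨_, ⟨x, hx, rfl⟩, rfl⟩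
        exact ⟨⟨h, hh⟩ * x * ⟨h, hh⟩⁻¹, hN.conj_mem x hx ⟨h, hh⟩, rfl⟩)
      (fun x hx => hpow' x hx.1) t (Subgroup.mem_inf.2 ⟨⟨t, ht.2, rfl⟩, hTK ⟨t, ht.1, rfl⟩⟩) (hpow' _ ⟨t, ht.2, rfl⟩)
    exact Subgroup.mem_centralizer_iff.2 fun y hy => Subtype.ext (Subgroup.mem_centralizer_iff.1 htC y hy)
  intro y hy
  exact ⟨⟨y, hYH hy⟩, CfsgLib.LocalEven.PRed.le_largestPReduced hVr (hYV hy), rfl⟩

end Cfsg.Agent.S2851
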