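import Cfsg.Statements.S2852
import Cfsg.Agent.Lib.LocalEven.FrakMAsym
import Cfsg.Agent.S2842
import Cfsg.Agent.S2845
open Subgroup

set_option autoImplicit false
open Cfsg

namespace Cfsg.Agent.S2852

/-- Standing hypotheses: G a finite group, S a Sylow p-subgroup, Q a nontrivial large p-subgroup of G contained in S, M a subgroup containing S with the basic property (M ∈ 𝔐_G(S)); Y_M the largest p-reduced normal subgroup of M. If Y_M is char-p-tall and asymmetric in G, then some subgroup H of G lies in ℌ_G(O_p(M)): H has characteristic p, O_p(M) ≤ H, Y_M ≰ O_p(H), and Y_M ≤ O_p(P) for every proper subgroup P of H containing O_p(M). -/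
theorem result {G : Type*} [Group G] [Finite G] {p : ℕ} [Fact p.Prime] (S : Sylow p G) (Q : Subgroup G) (hQp : IsPGroup p ↥Q) (hQ1 : Q ≠ ⊥) (hQS : Q ≤ (S : Subgroup G)) (hQ : Cfsg.IsLarge Q) (M : Subgroup G) (hSM : (S : Subgroup G) ≤ M) (hM : Cfsg.IsInFrakM p M) (htall : Cfsg.IsCharPTall p (Cfsg.largestPReducedOf p M)) (hasym : ¬ Cfsg.IsSymmetricIn (Cfsg.largestPReducedOf p M)) : ∃ H : Subgroup G, Cfsg.IsInFrakH p M H := by
  set Y := Cfsg.largestPReducedOf p M with hY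
  set P := Cfsg.pCoreOf p M with hP
  have hpc : CfsgLib.LocalEven.FrakM.ParabolicCharP p G := fun R hR hR1 =>
    ⟨hR1, (Cfsg.Agent.S2845.result Q hQp hQ1 hQ).2.1 R hR hR1⟩
  have hwc := CfsgLib.LocalEven.FrakM.isWeaklyClosedSubgroup_pCoreOf S hSM hM hasym hpc
  have hPp : IsPGroup p P := CfsgLib.LocalEven.isPGroup_pCoreOf p M
  set C := centralizer (Y : Set G) with hC
  obtain ⟨T, L, hTL, hLc, hYL⟩ := htall
  have hPC : P ≤ C := CfsgLib.LocalEven.FrakM.pCoreOf_le_centralizer M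
  obtain ⟨U, hU⟩ := (hPp.comap_subtype (K := C)).exists_le_sylow
  obtain ⟨c, hc⟩ := MulAction.exists_smul_eq ↥C T U
  set f := (MulAut.conj (c : G)) with hf
  set L' := L.map f.toMonoidHom with hL'
  have hPL' : P ≤ L' := by
    intro v hv
    have h1 : (⟨v, hPC hv⟩ : ↥C) ∈ (U : Subgroup ↥C) := hU hv
    rw [← hc, Sylow.coe_subgroup_smul] at h1
    obtain ⟨t, ht, hte⟩ := h1
    exact ⟨(t : G), hTL ⟨t, ht, rfl⟩, congrArg Subtype.val hte⟩
  have hL'c : CfsgLib.LocalEven.HasCharP p ↥L' :=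
    CfsgLib.LocalEven.hasCharP_congr (f.subgroupMap L) hLc
  have hYe : Y.map f.toMonoidHom = Y :=
    CfsgLib.LocalEven.WC.map_conj_eq_of_mem (Subgroup.centralizer_le_normalizer _ c.2)
  have hYL' : ¬ Y ≤ Cfsg.pCoreOf p L' := by
    rw [hL', CfsgLib.LocalEven.pCoreOf_map, ← hYe, Subgroup.map_le_map_iff_of_injective f.injective]
    exact hYL
  obtain ⟨X, hXL, hX⟩ := Finite.exists_le_minimal
    (p := fun X : Subgroup G => X ≤ L' ∧ P ≤ X ∧ ¬ Y ≤ Cfsg.pCoreOf p X) ⟨le_refl L', hPL', hYL'⟩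
  refine ⟨X, ?_, hX.1.2.1, hX.1.2.2, fun R hPR hRX => ?_⟩
  · refine (CfsgLib.LocalEven.hasCharP_subgroupOf_iff hXL).1 ?_
    refine (Cfsg.Agent.S2842.result (H := ↥L') (P.subgroupOf L') hPp.comap_subtype ?_
      (CfsgLib.LocalEven.WC.wc_subgroupOf hwc hPp hPL') ?_ (X.subgroupOf L') (Subgroup.comap_mono hX.1.2.1)
      (Or.inl hL'c)).2.2
    · exact fun h => CfsgLib.LocalEven.FrakM.pCore_ne_bot_iff.1 hM.1.1
        ((Subgroup.subgroupOf_eq_bot.1 h).eq_bot_of_le hPL')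
    · intro v hv
      refine hM.1.2 (Subgroup.mem_centralizer_iff.2 fun w hw => ?_)
      exact congrArg Subtype.val (Subgroup.mem_centralizer_iff.1 hv ⟨w, hPL' hw⟩ hw)
  · by_contra hR
    exact hRX.not_ge (hX.2 ⟨hRX.le.trans hXL, hPR, hR⟩ hRX.le)

end Cfsg.Agent.S2852
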