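import Cfsg.Statements.S2853
import Cfsg.Agent.Lib.LocalEven.FrakMAsym
import Cfsg.Agent.Lib.LocalEven.MinP
import Cfsg.Agent.S2845
import Cfsg.Agent.S2850
open Subgroup

set_option autoImplicit false
open Cfsg

namespace Cfsg.Agent.S2853

/-- Standing hypotheses: G a finite group, S a Sylow p-subgroup, Q a nontrivial large p-subgroup of G contained in S, M a subgroup containing S with the basic property (M ∈ 𝔐_G(S)); Y_M the largest p-reduced normal subgroup of M and M† = M·C_G(Y_M). Suppose Y_M is char-p-tall and asymmetric in G and H ∈ ℌ_G(O_p(M)). Then every Sylow p-subgroup of H ∩ M† is a Sylow p-subgroup of H; O_p(H) normalizes O_p(M) and Y_M; O^p(H) = [O^p(H), Y_M] and H = O^p(H)·O_p(M); O^p(H)·Y_M is the normal closure of Y_M in H; and H is the normal closure of O_p(M) in H. Here O^p(H) is the subgroup generated by the elements of H of order prime to p. -/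
theorem result {G : Type*} [Group G] [Finite G] {p : ℕ} [Fact p.Prime] (S : Sylow p G) (Q : Subgroup G) (hQp : IsPGroup p ↥Q) (hQ1 : Q ≠ ⊥) (hQS : Q ≤ (S : Subgroup G)) (hQ : Cfsg.IsLarge Q) (M : Subgroup G) (hSM : (S : Subgroup G) ≤ M) (hM : Cfsg.IsInFrakM p M) (htall : Cfsg.IsCharPTall p (Cfsg.largestPReducedOf p M)) (hasym : ¬ Cfsg.IsSymmetricIn (Cfsg.largestPReducedOf p M)) (H : Subgroup G) (hH : Cfsg.IsInFrakH p M H) (R : Subgroup G) (hR : R = (Cfsg.pResidual p ↥H).map H.subtype) : (∀ T : Sylow p ↥(H ⊓ (M ⊔ Subgroup.centralizer (((Cfsg.largestPReducedOf p M) : Subgroup G) : Set G))), ∃ P : Sylow p ↥H, ((P : Subgroup ↥H).map H.subtype) = (T : Subgroup ↥(H ⊓ (M ⊔ Subgroup.centralizer (((Cfsg.largestPReducedOf p M) : Subgroup G) : Set G)))).map (H ⊓ (M ⊔ Subgroup.centralizer (((Cfsg.largestPReducedOf p M) : Subgroup G) : Set G))).subtype) ∧ Cfsg.pCoreOf p H ≤ Subgroup.normalizer (((Cfsg.pCoreOf p M) : Subgroup G) : Set G) ⊓ Subgroup.normalizer (((Cfsg.largestPReducedOf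 p M) : Subgroup G) : Set G) ∧ ⁅R, (Cfsg.largestPReducedOf p M)⁆ = R ∧ R ⊔ (Cfsg.pCoreOf p M) = H ∧ R ⊔ (Cfsg.largestPReducedOf p M) = (Subgroup.normalClosure ((((Cfsg.largestPReducedOf p M)).subgroupOf H : Subgroup ↥H) : Set ↥H)).map H.subtype ∧ (Subgroup.normalClosure ((((Cfsg.pCoreOf p M)).subgroupOf H : Subgroup ↥H) : Set ↥H)).map H.subtype = H := by
  set Y := Cfsg.largestPReducedOf p M with hY
  set P := Cfsg.pCoreOf p M with hP
  set K := M ⊔ centralizer (Y : Set G) with hK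
  have hpc : CfsgLib.LocalEven.FrakM.ParabolicCharP p G := fun R hR hR1 =>
    ⟨hR1, (Cfsg.Agent.S2845.result Q hQp hQ1 hQ).2.1 R hR hR1⟩
  have hPp : IsPGroup p P := CfsgLib.LocalEven.isPGroup_pCoreOf p M
  have hmin := CfsgLib.LocalEven.MinP.of_injective H.subtype H.subtype_injective H.range_subtype hH hPp
    CfsgLib.LocalEven.FrakM.largest_le_pCoreOf (CfsgLib.LocalEven.FrakM.pCoreOf_le_centralizer M)
  have hmY : (Y.comap H.subtype).map H.subtype = Y := by
    rw [Subgroup.map_comap_eq_self]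
    exact (CfsgLib.LocalEven.FrakM.largest_le_pCoreOf).trans (hH.2.1.trans H.range_subtype.ge)
  have hmP : (P.comap H.subtype).map H.subtype = P :=
    Subgroup.map_comap_eq_self (hH.2.1.trans H.range_subtype.ge)
  refine ⟨fun T => ?_, ?_, ?_, ?_, ?_, ?_⟩
  · obtain ⟨U, hU⟩ := (Cfsg.Agent.S2850.result S Q hQp hQ1 hQS hQ M hSM hM hasym).2.2.1 H hH.2.1
    have hTH : (T : Subgroup ↥(H ⊓ K)).map (H ⊓ K).subtype ≤ H := (Subgroup.map_subtype_le _).trans inf_le_left
    obtain ⟨R, hR⟩ := ((T.2.map (H ⊓ K).subtype).comap_subtype (K := H)).exists_le_sylow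
    refine ⟨R, (Subgroup.eq_of_le_of_card_ge ?_ ?_).symm⟩
    · intro t ht
      exact ⟨⟨t, hTH ht⟩, hR ht, rfl⟩
    · rw [Subgroup.card_map_of_injective H.subtype_injective, Subgroup.card_map_of_injective (H ⊓ K).subtype_injective,
        R.card_eq_multiplicity, ← U.card_eq_multiplicity]
      obtain ⟨V, hV⟩ := ((U.2.map H.subtype).comap_subtype (K := H ⊓ K)).exists_le_sylow
      rw [T.card_eq_multiplicity, ← V.card_eq_multiplicity]
      have hUK : (U : Subgroup ↥H).map H.subtype ≤ H ⊓ K := by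
        rintro _ ⟨u, hu, rfl⟩
        exact hU hu
      calc Nat.card ↥(U : Subgroup ↥H) = Nat.card ↥(((U : Subgroup ↥H).map H.subtype).subgroupOf (H ⊓ K)) := by
            rw [Nat.card_congr (Subgroup.subgroupOfEquivOfLe hUK).toEquiv, Subgroup.card_map_of_injective H.subtype_injective]
        _ ≤ Nat.card ↥(V : Subgroup ↥(H ⊓ K)) := Nat.le_of_dvd Nat.card_pos (Subgroup.card_dvd_of_le hV)
  · have hPO : Cfsg.pCoreOf p H ≤ normalizer (P : Set G) := by
      have hJ : IsPGroup p ↥(P ⊔ Cfsg.pCoreOf p H) :=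
        IsPGroup.to_sup_of_normal_right' hPp (CfsgLib.LocalEven.isPGroup_pCoreOf p H)
          (hH.2.1.trans (CfsgLib.LocalEven.le_normalizer_pCoreOf p H))
      exact le_sup_right.trans (CfsgLib.LocalEven.FrakM.pGroup_le_normalizer_pCoreOf S hSM hM hasym hpc hJ le_sup_left)
    exact le_inf hPO (hPO.trans ((CfsgLib.LocalEven.FrakM.normalizer_pCoreOf_le S hSM hM hpc).trans
      (CfsgLib.LocalEven.FrakM.normalizer_largest S hSM hM hpc).ge))
  · have h := congrArg (Subgroup.map H.subtype) (CfsgLib.LocalEven.MinP.commutator_pResidual hmin)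
    rwa [Subgroup.map_commutator, hmY, ← hR] at h
  · have h := congrArg (Subgroup.map H.subtype) (CfsgLib.LocalEven.MinP.pResidual_sup_eq_top hmin)
    rwa [Subgroup.map_sup, hmP, ← hR, ← MonoidHom.range_eq_map, Subgroup.range_subtype] at h
  · have h := congrArg (Subgroup.map H.subtype) (CfsgLib.LocalEven.MinP.pResidual_sup_eq_normalClosure hmin)
    rwa [Subgroup.map_sup, hmY, ← hR] at h
  · have h := congrArg (Subgroup.map H.subtype) (CfsgLib.LocalEven.MinP.normalClosure_eq_top hmin)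
    rwa [← MonoidHom.range_eq_map, Subgroup.range_subtype] at h

end Cfsg.Agent.S2853
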