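import Cfsg.Statements.S2854
import Cfsg.Agent.Lib.LocalEven.FrakMAsym
import Cfsg.Agent.Lib.LocalEven.MinP
import Cfsg.Agent.S2845
import Cfsg.Agent.S2850
open Subgroup

set_option autoImplicit false
open Cfsg

namespace Cfsg.Agent.S2854

/-- Standing hypotheses: G a finite group, S a Sylow p-subgroup, Q a nontrivial large p-subgroup of G contained in S, M a subgroup containing S with the basic property (M ∈ 𝔐_G(S)); Y_M the largest p-reduced normal subgroup of M and M† = M·C_G(Y_M). Suppose Y_M is asymmetric in G, H ∈ ℌ_G(O_p(M)), and H ≤ N_G(gQg⁻¹) for some g ∈ G. Then gQg⁻¹ ≤ O_p(H·gQg⁻¹) ≤ N_G(O_p(M)) ≤ N_G(Y_M) = M†; H is normal in H·gQg⁻¹ with O^p(H) = O^p(H·gQg⁻¹); and H·gQg⁻¹ is p-irreducible. -/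
theorem result {G : Type*} [Group G] [Finite G] {p : ℕ} [Fact p.Prime] (S : Sylow p G) (Q : Subgroup G) (hQp : IsPGroup p ↥Q) (hQ1 : Q ≠ ⊥) (hQS : Q ≤ (S : Subgroup G)) (hQ : Cfsg.IsLarge Q) (M : Subgroup G) (hSM : (S : Subgroup G) ≤ M) (hM : Cfsg.IsInFrakM p M) (hasym : ¬ Cfsg.IsSymmetricIn (Cfsg.largestPReducedOf p M)) (H : Subgroup G) (hH : Cfsg.IsInFrakH p M H) (g : G) (hHQ : H ≤ Subgroup.normalizer ((((Q : Subgroup G).map (MulAut.conj (g : G)).toMonoidHom) : Subgroup G) : Set G)) : ((Q : Subgroup G).map (MulAut.conj (g : G)).toMonoidHom) ≤ Cfsg.pCoreOf p (H ⊔ ((Q : Subgroup G).map (MulAut.conj (g : G)).toMonoidHom)) ∧ Cfsg.pCoreOf p (H ⊔ ((Q : Subgroup G).map (MulAut.conj (g : G)).toMonoidHom)) ≤ Subgroup.normalizer (((Cfsg.pCoreOf p M) : Subgroup G) : Set G) ∧ Subgroup.normalizer (((Cfsg.pCoreOf p M) : Subgroup G) : Set G) ≤ Subgroup.normalizer (((Cfsg.largestPReducedOf p M) : Subgroup G) : Set G) ∧ Subgroup.normalizer (((Cfsg.largestPReducedOf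 p M) : Subgroup G) : Set G) = (M ⊔ Subgroup.centralizer (((Cfsg.largestPReducedOf p M) : Subgroup G) : Set G)) ∧ (H.subgroupOf (H ⊔ ((Q : Subgroup G).map (MulAut.conj (g : G)).toMonoidHom))).Normal ∧ (Cfsg.pResidual p ↥H).map H.subtype = (Cfsg.pResidual p ↥(H ⊔ ((Q : Subgroup G).map (MulAut.conj (g : G)).toMonoidHom))).map (H ⊔ ((Q : Subgroup G).map (MulAut.conj (g : G)).toMonoidHom)).subtype ∧ Cfsg.IsPIrreducible p ↥(H ⊔ ((Q : Subgroup G).map (MulAut.conj (g : G)).toMonoidHom)) := by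
  set Y := Cfsg.largestPReducedOf p M with hY
  set P := Cfsg.pCoreOf p M with hP
  set Q₁ := Q.map (MulAut.conj g).toMonoidHom with hQ₁
  set H₁ := H ⊔ Q₁ with hH₁
  have hpc : CfsgLib.LocalEven.FrakM.ParabolicCharP p G := fun R hR hR1 =>
    ⟨hR1, (Cfsg.Agent.S2845.result Q hQp hQ1 hQ).2.1 R hR hR1⟩
  have hPp : IsPGroup p P := CfsgLib.LocalEven.isPGroup_pCoreOf p M
  have hQ₁O : Q₁ ≤ Cfsg.pCoreOf p H₁ :=
    CfsgLib.LocalEven.le_pCoreOf le_sup_right (hQp.map _) (sup_le hHQ Subgroup.le_normalizer)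
  have hON : Cfsg.pCoreOf p H₁ ≤ normalizer (P : Set G) := by
    have hJ : IsPGroup p ↥(P ⊔ Cfsg.pCoreOf p H₁) :=
      IsPGroup.to_sup_of_normal_right' hPp (CfsgLib.LocalEven.isPGroup_pCoreOf p H₁)
        ((hH.2.1.trans le_sup_left).trans (CfsgLib.LocalEven.le_normalizer_pCoreOf p H₁))
    exact le_sup_right.trans (CfsgLib.LocalEven.FrakM.pGroup_le_normalizer_pCoreOf S hSM hM hasym hpc hJ le_sup_left)
  have hQP : Q₁ ≤ normalizer (P : Set G) := hQ₁O.trans hON
  have hminH := CfsgLib.LocalEven.MinP.of_injective H.subtype H.subtype_injective H.range_subtype hH hPp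
    CfsgLib.LocalEven.FrakM.largest_le_pCoreOf (CfsgLib.LocalEven.FrakM.pCoreOf_le_centralizer M)
  have hgen : (Subgroup.normalClosure ((P.comap H.subtype : Subgroup ↥H) : Set ↥H)).map H.subtype = H := by
    rw [CfsgLib.LocalEven.MinP.normalClosure_eq_top hminH, ← MonoidHom.range_eq_map, Subgroup.range_subtype]
  have hQH : Q₁ ≤ normalizer (H : Set G) := by
    intro q hq
    refine CfsgLib.LocalEven.mem_normalizer_of_conj_le ?_
    conv_lhs => rw [← hgen]
    rw [Subgroup.map_map, Subgroup.map_le_iff_le_comap]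
    show Subgroup.closure _ ≤ _
    rw [Subgroup.closure_le]
    intro z hz
    rw [Group.mem_conjugatesOfSet_iff] at hz
    obtain ⟨v, hv, hvz⟩ := hz
    obtain ⟨a, rfl⟩ := isConj_iff.1 hvz
    show q * (((a : ↥H) : G) * (v : G) * ((a : ↥H) : G)⁻¹) * q⁻¹ ∈ H
    set q' := (a : G)⁻¹ * q * (a : G) with hq'
    have hq'Q : q' ∈ Q₁ := (Subgroup.mem_normalizer_iff''.1 (hHQ a.2) q).1 hq
    rw [show q * ((a : G) * v * (a : G)⁻¹) * q⁻¹ = (a : G) * (q' * v * q'⁻¹) * (a : G)⁻¹ by rw [hq']; group]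
    exact mul_mem (mul_mem a.2 (hH.2.1 (CfsgLib.LocalEven.conj_mem_of_mem_normalizer (hQP hq'Q) hv))) (inv_mem a.2)
  haveI hn : (H.subgroupOf H₁).Normal :=
    Subgroup.normal_subgroupOf_of_le_normalizer (sup_le Subgroup.le_normalizer hQH)
  set H' := H.subgroupOf H₁ with hH'
  set R := Cfsg.pCore p ↥H₁ with hR
  have hHR : H' ⊔ Q₁.subgroupOf H₁ = ⊤ := by
    rw [hH', ← Subgroup.subgroupOf_sup le_sup_left le_sup_right]
    exact Subgroup.subgroupOf_self _
  have hHR' : H' ⊔ R = ⊤ := by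
    refine top_le_iff.1 (hHR.ge.trans (sup_le_sup le_rfl ?_))
    rw [hR, ← CfsgLib.LocalEven.subgroupOf_pCoreOf]
    exact Subgroup.comap_mono hQ₁O
  set f := H₁.subtype.comp H'.subtype with hf
  have hfi : Function.Injective f := fun a b h => H'.subtype_injective (H₁.subtype_injective h)
  have hfr : f.range = H := by
    rw [hf, MonoidHom.range_comp, Subgroup.range_subtype, hH', Subgroup.subgroupOf_map_subtype, inf_eq_left.2 le_sup_left]
  have hmin := CfsgLib.LocalEven.MinP.of_injective f hfi hfr hH hPp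
    CfsgLib.LocalEven.FrakM.largest_le_pCoreOf (CfsgLib.LocalEven.FrakM.pCoreOf_le_centralizer M)
  have hres : (Cfsg.pResidual p ↥H).map H.subtype = (Cfsg.pResidual p ↥H₁).map H₁.subtype := by
    simp only [Cfsg.pResidual, MonoidHom.map_closure]
    refine le_antisymm ?_ ?_
    · refine Subgroup.closure_mono ?_
      rintro _ ⟨x, hx, rfl⟩
      refine ⟨⟨x, (le_sup_left : H ≤ H₁) x.2⟩, ?_, rfl⟩
      change (orderOf _).Coprime p
      rw [Subgroup.orderOf_mk, Subgroup.orderOf_coe]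
      exact hx
    · refine Subgroup.closure_mono ?_
      rintro _ ⟨x, hx, rfl⟩
      have hxH : x ∈ H' := CfsgLib.LocalEven.PClosed.mem_of_mem_sup (N := H')
        (Q := Q₁.subgroupOf H₁) (hQp.map _).comap_subtype (hHR.symm ▸ Subgroup.mem_top x) hx
      refine ⟨⟨(x : G), hxH⟩, ?_, rfl⟩
      change (orderOf (⟨(x : G), hxH⟩ : ↥H)).Coprime p
      rw [← Subgroup.orderOf_coe (H := H)]
      show (orderOf (x : G)).Coprime p
      rw [Subgroup.orderOf_coe]
      exact hx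
  refine ⟨hQ₁O, hON, (CfsgLib.LocalEven.FrakM.normalizer_pCoreOf_le S hSM hM hpc).trans
      (CfsgLib.LocalEven.FrakM.normalizer_largest S hSM hM hpc).ge,
    CfsgLib.LocalEven.FrakM.normalizer_largest S hSM hM hpc, hn, hres, fun hcl => hmin.notLe ?_, fun N hN hNcl => ?_⟩
  · intro y hy
    refine CfsgLib.LocalEven.MinP.pCoreOf_le_of_normal (⊤ : Subgroup ↥H') ?_
    have h1 : (⟨f y, (le_sup_left : H ≤ H₁) (hfr.le ⟨y, rfl⟩)⟩ : ↥H₁) ∈ R :=
      CfsgLib.LocalEven.PClosed.iff_forall_le_pCore.1 hcl _ (hPp.comap_subtype (K := H₁))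
        (show f y ∈ P from CfsgLib.LocalEven.FrakM.largest_le_pCoreOf hy)
    refine CfsgLib.LocalEven.le_pCoreOf (N := R.comap H'.subtype) le_top
      ((CfsgLib.Cores.isPGroup_pCore p).comap_subtype) ?_ h1
    rw [Subgroup.normalizer_eq_top]
  · haveI := hN
    set N' := N ⊔ R with hN'
    set P' := P.subgroupOf H₁ with hP'
    by_cases htop : N' ⊔ P' = ⊤
    · refine CfsgLib.LocalEven.PClosed.pResidual_le_of_sup_eq_top (N := N) (T := R ⊔ P') ?_ (by rw [← sup_assoc, ← hN', htop])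
      exact IsPGroup.to_sup_of_normal_left (CfsgLib.Cores.isPGroup_pCore p) hPp.comap_subtype
    · refine absurd ?_ hNcl
      have hne : N'.comap H'.subtype ⊔ P.comap f ≠ ⊤ := by
        refine fun h => htop (top_le_iff.1 ?_)
        rw [← hHR']
        refine sup_le (fun x hx => ?_) (le_sup_right.trans le_sup_left)
        have h1 : (⟨x, hx⟩ : ↥H') ∈ N'.comap H'.subtype ⊔ P.comap f := h ▸ Subgroup.mem_top _
        exact ((Subgroup.map_sup _ _ H'.subtype).le.trans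
          (sup_le_sup (Subgroup.map_comap_le _ _) (by
            rintro _ ⟨v, hv, rfl⟩
            exact hv))) ⟨_, h1, rfl⟩
      haveI : (N' ⊓ H').Normal := inferInstance
      have h0 : Cfsg.IsPClosed p ↥(N' ⊓ H') := by
        refine CfsgLib.LocalEven.PClosed.congr_equiv ?_
          (CfsgLib.LocalEven.MinP.isPClosed_of_sup_ne_top hmin (N'.comap H'.subtype) hne)
        exact (((N'.comap H'.subtype).equivMapOfInjective H'.subtype H'.subtype_injective).trans
          (MulEquiv.subgroupCongr (Subgroup.subgroupOf_map_subtype N' H')))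
      obtain ⟨T⟩ := (Sylow.nonempty : Nonempty (Sylow p ↥H₁))
      rw [CfsgLib.LocalEven.PClosed.iff_of_normal T N]
      intro t ht
      have hRT : R ≤ (T : Subgroup ↥H₁) := CfsgLib.Cores.pCore_le_sylow T
      obtain ⟨h, hh, r, hr, rfl⟩ := Subgroup.mem_sup_of_normal_right.1 (hHR'.ge (Subgroup.mem_top t) : t ∈ H' ⊔ R)
      have hhT : h ∈ (T : Subgroup ↥H₁) := (Subgroup.mul_mem_cancel_right _ (hRT hr)).1 ht.1
      have hhN : h ∈ N' := (Subgroup.mul_mem_cancel_right _ (Subgroup.mem_sup_right hr)).1 (Subgroup.mem_sup_left ht.2)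
      exact mul_mem (CfsgLib.LocalEven.PClosed.le_pCore_of_normal h0 (T.2.to_le inf_le_left) inf_le_right
        (Subgroup.mem_inf.2 ⟨hhT, Subgroup.mem_inf.2 ⟨hhN, hh⟩⟩ : h ∈ (T : Subgroup ↥H₁) ⊓ (N' ⊓ H'))) hr

end Cfsg.Agent.S2854
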