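import Cfsg.Statements.S2855
import Cfsg.Agent.Lib.LocalEven.SubnormalCore
import Cfsg.Agent.Lib.LocalEven.SubnormalSylow
import Cfsg.Agent.Lib.LocalEven.WeaklyClosed
import Cfsg.Agent.Lib.LocalEven.PClosed
open Subgroup
open scoped commutatorElement

set_option autoImplicit false
open Cfsg

namespace Cfsg.Agent.S2855

/-- Let H be a finite group, p a prime, and 𝒦 a nonempty set of subgroups of H permuted transitively by conjugation, with R the subgroup generated by the members of 𝒦. Suppose O^p(H) ≤ R, each E ∈ 𝒦 has E·O_p(H) normal in R·O_p(H), and each E ∈ 𝒦 is p-minimal (generated by the conjugates of a Sylow p-subgroup T_E of E, with T_E in exactly one maximal subgroup of E). Then H is p-minimal in the same sense. If instead each E ∈ 𝒦 is strongly p-irreducible, then H is p-irreducible and, for E, K ∈ 𝒦, either O^p(E·O_p(H)) = O^p(K·O_p(H)) or [E, K] ≤ O_p(H). -/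
theorem result {H : Type*} [Group H] [Finite H] {p : ℕ} [Fact p.Prime] (𝒦 : Set (Subgroup H)) (hne : 𝒦.Nonempty) (hinv : ∀ h : H, ∀ E ∈ 𝒦, E.map (MulAut.conj h).toMonoidHom ∈ 𝒦) (htr : ∀ E ∈ 𝒦, ∀ K ∈ 𝒦, ∃ h : H, K = E.map (MulAut.conj h).toMonoidHom) (hres : Cfsg.pResidual p H ≤ sSup 𝒦) (hnorm : ∀ E ∈ 𝒦, sSup 𝒦 ⊔ Cfsg.pCore p H ≤ Subgroup.normalizer ((E ⊔ Cfsg.pCore p H : Subgroup H) : Set H)) : ((∀ E ∈ 𝒦, ∀ T : Sylow p ↥E, Cfsg.IsMinimalOver (T : Subgroup ↥E)) → ∀ T : Sylow p H, Cfsg.IsMinimalOver (T : Subgroup H)) ∧ ((∀ E ∈ 𝒦, Cfsg.IsStronglyPIrreducible p ↥E) → Cfsg.IsPIrreducible p H ∧ ∀ E ∈ 𝒦, ∀ K ∈ 𝒦, (Cfsg.pResidual p ↥(E ⊔ Cfsg.pCore p H)).map (E ⊔ Cfsg.pCore p H).subtype = (Cfsg.pResidual p ↥(K ⊔ Cfsg.pCore p H)).map (K ⊔ Cfsg.pCore p H).subtype ∨ ⁅E, K⁆ ≤ Cfsg.pCore p H) := by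
  set R := sSup 𝒦 with hR
  set O := Cfsg.pCore p H with hO
  haveI hRn : R.Normal := by
    rw [← Subgroup.normalizer_eq_top_iff, eq_top_iff]
    intro h _
    refine CfsgLib.LocalEven.mem_normalizer_of_conj_le ?_
    rw [Subgroup.map_le_iff_le_comap]
    exact sSup_le fun E hE => Subgroup.map_le_iff_le_comap.1 (le_sSup (hinv h E hE))
  have hsn : ∀ E ∈ 𝒦, (E ⊔ O).IsSubnormal := fun E hE =>
    Subgroup.IsSubnormal.step _ (R ⊔ O) (sup_le_sup_right (le_sSup hE) _) (Subgroup.Normal.isSubnormal inferInstance)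
      (Subgroup.normal_subgroupOf_of_le_normalizer (hnorm E hE))
  have hEn : ∀ E ∈ 𝒦, ∀ r ∈ R, (E ⊔ O).map (MulAut.conj r).toMonoidHom = E ⊔ O := fun E hE r hr =>
    CfsgLib.LocalEven.WC.map_conj_eq_of_mem (hnorm E hE (Subgroup.mem_sup_left hr))
  have hsupO : ∀ (E : Subgroup H) (h : H), (E ⊔ O).map (MulAut.conj h).toMonoidHom = E.map (MulAut.conj h).toMonoidHom ⊔ O := by
    intro E h
    rw [Subgroup.map_sup, CfsgLib.LocalEven.WC.map_conj_eq_of_mem (Q := O) (by rw [Subgroup.normalizer_eq_top]; exact Subgroup.mem_top h)]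
  refine ⟨fun hmin T => ?_, fun hstr => ?_⟩
  · set Tg := (T : Subgroup H) with hTg
    have hOT : O ≤ Tg := CfsgLib.Cores.pCore_le_sylow T
    have hRT : R ⊔ Tg = ⊤ :=
      top_le_iff.1 ((CfsgLib.Transfer.pResidual_sup_sylow T).ge.trans (sup_le_sup_right hres _))
    have hTEO : ∀ E : Subgroup H, Tg ⊓ (E ⊔ O) = (Tg ⊓ E) ⊔ O := by
      intro E
      refine le_antisymm (fun x hx => ?_) (sup_le (inf_le_inf_left _ le_sup_left) (le_inf hOT le_sup_right))
      obtain ⟨e, he, o, ho, rfl⟩ := Subgroup.mem_sup_of_normal_right.1 (hx.2 : x ∈ E ⊔ O)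
      exact Subgroup.mul_mem_sup (Subgroup.mem_inf.2 ⟨(Subgroup.mul_mem_cancel_right _ (hOT ho)).1 hx.1, he⟩) ho
    -- `T ∩ E` is a Sylow subgroup of `E`
    have hTE : ∀ E ∈ 𝒦, ∃ U : Sylow p ↥E, (U : Subgroup ↥E).map E.subtype = Tg ⊓ E := by
      intro E hE
      obtain ⟨U, hU⟩ := ((T.2.to_le (inf_le_left : Tg ⊓ E ≤ Tg)).comap_subtype (K := E)).exists_le_sylow
      refine ⟨U, (Subgroup.eq_of_le_of_card_ge (show Tg ⊓ E ≤ (U : Subgroup ↥E).map E.subtype from fun x hx => ⟨⟨x, hx.2⟩, hU hx, rfl⟩) ?_).symm⟩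
      set U' := (U : Subgroup ↥E).map E.subtype with hU'
      have hU'p : IsPGroup p ↥U' := U.2.map E.subtype
      have hJ : IsPGroup p ↥(U' ⊔ O) := hU'p.to_sup_of_normal_right (CfsgLib.Cores.isPGroup_pCore p)
      have hcard : Nat.card ↥(U' ⊔ O) ≤ Nat.card ↥((Tg ⊓ E) ⊔ O) := by
        rw [← hTEO]
        obtain ⟨V, hV⟩ := CfsgLib.LocalEven.exists_sylow_eq_inf_of_isSubnormal T (hsn E hE)
        obtain ⟨W, hW⟩ := (hJ.comap_subtype (K := E ⊔ O)).exists_le_sylow
        have h1 : Nat.card ↥((U' ⊔ O).subgroupOf (E ⊔ O)) ≤ Nat.card ↥(W : Subgroup ↥(E ⊔ O)) :=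
          Nat.le_of_dvd Nat.card_pos (Subgroup.card_dvd_of_le hW)
        rw [W.card_eq_multiplicity, ← V.card_eq_multiplicity, hV, ← Subgroup.inf_subgroupOf_right (T : Subgroup H) (E ⊔ O),
          Nat.card_congr (Subgroup.subgroupOfEquivOfLe (sup_le_sup_right (Subgroup.map_subtype_le _) _)).toEquiv,
          Nat.card_congr (Subgroup.subgroupOfEquivOfLe inf_le_right).toEquiv] at h1
        exact h1
      have key : ∀ X : Subgroup H, Nat.card ↥(X ⊔ O) = Nat.card ↥O * O.relIndex X ∧
          Nat.card ↥X = Nat.card ↥(O ⊓ X) * O.relIndex X := fun X => by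
        refine ⟨?_, ?_⟩
        · rw [← Subgroup.relIndex_sup_right (K := O) (H := X), ← Subgroup.relIndex_bot_left, ← Subgroup.relIndex_bot_left,
            Subgroup.relIndex_mul_relIndex ⊥ _ _ bot_le le_sup_right]
        · rw [← Subgroup.inf_relIndex_right, ← Subgroup.relIndex_bot_left, ← Subgroup.relIndex_bot_left,
            Subgroup.relIndex_mul_relIndex ⊥ _ _ bot_le inf_le_right]
      rw [(key U').1, (key (Tg ⊓ E)).1] at hcard
      have hinf : O ⊓ U' ≤ O ⊓ (Tg ⊓ E) := le_inf inf_le_left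
        (le_inf (inf_le_left.trans hOT) (inf_le_right.trans (Subgroup.map_subtype_le _)))
      rw [(key (Tg ⊓ E)).2, (key U').2]
      exact Nat.mul_le_mul (Nat.le_of_dvd Nat.card_pos (Subgroup.card_dvd_of_le hinf))
        (Nat.le_of_mul_le_mul_left hcard Nat.card_pos)
    -- the greatest proper subgroup of `N` containing `T ∩ N`
    let Great : Subgroup H → Subgroup H → Prop := fun N A =>
      Tg ⊓ N ≤ A ∧ A < N ∧ ∀ B : Subgroup H, Tg ⊓ N ≤ B → B < N → B ≤ A
    have hgreat : ∀ E ∈ 𝒦, ∃ A, Great (E ⊔ O) A := by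
      intro E hE
      obtain ⟨U, hU⟩ := hTE E hE
      obtain ⟨Mx, ⟨hMx, hUM⟩, huniq⟩ := (hmin E hE U).2
      set M' := Mx.map E.subtype with hM'
      have hUM' : Tg ⊓ E ≤ M' := hU ▸ Subgroup.map_mono hUM
      have hM'E : M' ≤ E := Subgroup.map_subtype_le _
      refine ⟨M' ⊔ O, (hTEO E).le.trans (sup_le_sup_right hUM' _), lt_of_le_of_ne (sup_le_sup_right hM'E _) fun he => ?_,
        fun B hTB hB => ?_⟩
      · refine hMx.1 (top_le_iff.1 fun e _ => ?_)
        obtain ⟨m, hm, o, ho, hmo⟩ := Subgroup.mem_sup_of_normal_right.1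
          (he.ge (Subgroup.mem_sup_left e.2) : (e : H) ∈ M' ⊔ O)
        have hoE : o ∈ E := by
          have := E.mul_mem (E.inv_mem (hM'E hm)) e.2
          rwa [← hmo, inv_mul_cancel_left] at this
        have := mul_mem hm (hUM' (Subgroup.mem_inf.2 ⟨hOT ho, hoE⟩))
        rw [hmo] at this
        obtain ⟨e', he', hee⟩ := this
        exact E.subtype_injective hee ▸ he'
      · have hOB : O ≤ B := le_trans (le_inf hOT le_sup_right) hTB
        have hne : B.subgroupOf E ≠ ⊤ := fun h => hB.not_ge (sup_le (Subgroup.subgroupOf_eq_top.1 h) hOB)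
        obtain ⟨C, hC, hBC⟩ := (eq_top_or_exists_le_coatom (B.subgroupOf E)).resolve_left hne
        have hCM : C = Mx := huniq C ⟨hC, fun u hu => hBC
          (hTB ((inf_le_inf_left Tg (le_sup_left (a := E) (b := O))) (hU.le ⟨u, hu, rfl⟩ : (u : H) ∈ Tg ⊓ E)))⟩
        intro b hb
        obtain ⟨e, he, o, ho, rfl⟩ := Subgroup.mem_sup_of_normal_right.1 (hB.le hb)
        exact Subgroup.mul_mem_sup ⟨⟨e, he⟩, hCM ▸ hBC ((Subgroup.mul_mem_cancel_right _ (hOB ho)).1 hb), rfl⟩ ho
    have huniqG : ∀ N A A', Great N A → Great N A' → A = A' := fun N A A' h h' =>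
      le_antisymm (h'.2.2 A h.1 h.2.1) (h.2.2 A' h'.1 h'.2.1)
    have hgenE : ∀ E ∈ 𝒦, ∀ N : Subgroup H, Tg ⊓ E ≤ N → E ≤ normalizer (N : Set H) → E ≤ N := by
      intro E hE N hTN hEN
      obtain ⟨U, hU⟩ := hTE E hE
      haveI : (N.subgroupOf E).Normal := ⟨fun n hn g =>
        Subgroup.mem_subgroupOf.2 (CfsgLib.LocalEven.conj_mem_of_mem_normalizer (hEN g.2) hn)⟩
      have h1 : Subgroup.normalClosure ((U : Subgroup ↥E) : Set ↥E) ≤ N.subgroupOf E :=
        Subgroup.normalClosure_le_normal fun u hu => hTN (hU.le ⟨u, hu, rfl⟩)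
      rw [(hmin E hE U).1, top_le_iff, Subgroup.subgroupOf_eq_top] at h1
      exact h1
    have hncl : Subgroup.normalClosure (Tg : Set H) = ⊤ := by
      refine top_le_iff.1 (hRT.ge.trans (sup_le (sSup_le fun E hE => hgenE E hE _ (inf_le_left.trans Subgroup.le_normalClosure) ?_) Subgroup.le_normalClosure))
      rw [Subgroup.normalizer_eq_top]
      exact le_top
    refine ⟨hncl, ?_⟩
    have hne : Tg ≠ ⊤ := by
      intro h
      obtain ⟨E, hE⟩ := hne
      obtain ⟨A, h1, h2, -⟩ := hgreat E hE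
      exact h2.not_ge ((le_inf (le_top.trans h.ge) le_rfl).trans h1)
    obtain ⟨M₀, hM₀, hTM₀⟩ := (eq_top_or_exists_le_coatom Tg).resolve_left hne
    -- the subgroup respecting all greatest subgroups
    let X : Subgroup H :=
      { carrier := {h | ∀ E ∈ 𝒦, ∀ A, Great (E ⊔ O) A →
          Great ((E ⊔ O).map (MulAut.conj h).toMonoidHom) (A.map (MulAut.conj h).toMonoidHom)}
        one_mem' := fun E hE A hA => by rwa [CfsgLib.LocalEven.WC.map_conj_one, CfsgLib.LocalEven.WC.map_conj_one]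
        mul_mem' := fun {a b} ha hb E hE A hA => by
          have h1 := hb E hE A hA
          rw [hsupO] at h1
          have h2 := ha _ (hinv b E hE) _ h1
          rw [← hsupO] at h2
          rwa [CfsgLib.LocalEven.WC.map_conj_map, CfsgLib.LocalEven.WC.map_conj_map] at h2
        inv_mem' := fun {a} ha => by
          have hp : ∀ n : ℕ, ∀ E ∈ 𝒦, ∀ A, Great (E ⊔ O) A →
              Great ((E ⊔ O).map (MulAut.conj (a ^ n)).toMonoidHom) (A.map (MulAut.conj (a ^ n)).toMonoidHom) := by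
            intro n
            induction n with
            | zero => intro E hE A hA; rwa [pow_zero, CfsgLib.LocalEven.WC.map_conj_one, CfsgLib.LocalEven.WC.map_conj_one]
            | succ n ih =>
              intro E hE A hA
              have h1 := ha E hE A hA
              rw [hsupO] at h1
              have h2 := ih _ (hinv a E hE) _ h1
              rw [← hsupO] at h2
              rwa [CfsgLib.LocalEven.WC.map_conj_map, CfsgLib.LocalEven.WC.map_conj_map, ← pow_succ] at h2
          obtain ⟨n, hn⟩ : ∃ n : ℕ, a⁻¹ = a ^ n := ⟨orderOf a - 1, by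
            rw [eq_comm, eq_inv_iff_mul_eq_one, ← pow_succ, Nat.sub_add_cancel (orderOf_pos a), pow_orderOf_eq_one]⟩
          show ∀ E ∈ 𝒦, ∀ A, Great (E ⊔ O) A →
            Great ((E ⊔ O).map (MulAut.conj a⁻¹).toMonoidHom) (A.map (MulAut.conj a⁻¹).toMonoidHom)
          rw [hn]
          exact hp n }
    have hTX : Tg ≤ X := by
      intro t ht E hE A hA
      have hTg' : Tg.map (MulAut.conj t).toMonoidHom = Tg := CfsgLib.LocalEven.WC.map_conj_eq_of_mem (Subgroup.le_normalizer ht)
      have hinj : Function.Injective (MulAut.conj t).toMonoidHom := (MulAut.conj t).injective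
      have hinf : Tg ⊓ (E ⊔ O).map (MulAut.conj t).toMonoidHom = (Tg ⊓ (E ⊔ O)).map (MulAut.conj t).toMonoidHom := by
        rw [Subgroup.map_inf _ _ _ hinj, hTg']
      refine ⟨hinf.le.trans (Subgroup.map_mono hA.1), ?_, fun B hB1 hB2 => ?_⟩
      · exact lt_of_le_of_ne (Subgroup.map_mono hA.2.1.le) fun he => hA.2.1.ne (Subgroup.map_injective hinj he)
      · have e : B = (B.map (MulAut.conj t⁻¹).toMonoidHom).map (MulAut.conj t).toMonoidHom := by
          rw [CfsgLib.LocalEven.WC.map_conj_map, mul_inv_cancel, CfsgLib.LocalEven.WC.map_conj_one]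
        rw [e]
        refine Subgroup.map_mono (hA.2.2 _ ?_ ?_)
        · have := Subgroup.map_mono (f := (MulAut.conj t⁻¹).toMonoidHom) (hinf.ge.trans hB1)
          rwa [CfsgLib.LocalEven.WC.map_conj_inv_map] at this
        · refine lt_of_le_of_ne ?_ fun he => hB2.ne (by rw [e, he])
          have := Subgroup.map_mono (f := (MulAut.conj t⁻¹).toMonoidHom) hB2.le
          rwa [CfsgLib.LocalEven.WC.map_conj_inv_map] at this
    have hXtop : X ≠ ⊤ := by
      intro h
      obtain ⟨E, hE⟩ := ‹𝒦.Nonempty›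
      obtain ⟨A, hA⟩ := hgreat E hE
      refine hA.2.1.not_ge (sup_le (hgenE E hE A ((inf_le_inf_left _ le_sup_left).trans hA.1) ?_) ((le_inf hOT le_sup_right).trans hA.1))
      intro e he
      have h1 := (h ▸ Subgroup.mem_top e : e ∈ X) E hE A hA
      rw [hEn E hE e (le_sSup hE he)] at h1
      exact CfsgLib.LocalEven.mem_normalizer_of_conj_le (huniqG _ _ _ h1 hA).le
    have hle : ∀ M : Subgroup H, IsCoatom M → Tg ≤ M → M ≤ X := by
      intro M hM hTM
      have hnot : ∀ E ∈ 𝒦, ¬ E ⊔ O ≤ M := by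
        intro E hE hEM
        refine hM.1 (top_le_iff.1 (hRT.ge.trans (sup_le (sSup_le fun K hK => ?_) hTM)))
        obtain ⟨h, hh⟩ := htr E hE K hK
        obtain ⟨r, hr, t, ht, rfl⟩ := Subgroup.mem_sup_of_normal_left.1 (hRT.ge (Subgroup.mem_top h) : h ∈ R ⊔ Tg)
        refine le_sup_left.trans (show K ⊔ O ≤ M from ?_)
        rw [hh, ← hsupO, ← CfsgLib.LocalEven.WC.map_conj_map, hsupO E t, hEn _ (hinv t E hE) r hr, ← hsupO]
        exact (Subgroup.map_mono hEM).trans (CfsgLib.LocalEven.WC.map_conj_eq_of_mem (Subgroup.le_normalizer (hTM ht))).le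
      intro m hm
      obtain ⟨r, hr, t, ht, rfl⟩ := Subgroup.mem_sup_of_normal_left.1 (hRT.ge (Subgroup.mem_top m) : m ∈ R ⊔ Tg)
      refine mul_mem ?_ (hTX ht)
      have hrM : r ∈ M := (Subgroup.mul_mem_cancel_right _ (hTM ht)).1 hm
      intro E hE A hA
      rw [hEn E hE r hr]
      have hMN : M ⊓ (E ⊔ O) < E ⊔ O :=
        lt_of_le_of_ne inf_le_right fun he => hnot E hE (he.ge.trans inf_le_left)
      have hsub := hA.2.2 _ (inf_le_inf_right _ hTM) hMN
      have h1 : Tg ⊓ (E ⊔ O) ≤ A.map (MulAut.conj r).toMonoidHom := by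
        refine (inf_le_inf_right _ hTM).trans ?_
        have h2 := Subgroup.map_mono (f := (MulAut.conj r).toMonoidHom) hsub
        rwa [Subgroup.map_inf _ _ _ (MulAut.conj r).injective, hEn E hE r hr,
          CfsgLib.LocalEven.WC.map_conj_eq_of_mem (Subgroup.le_normalizer hrM)] at h2
      have h2 : A.map (MulAut.conj r).toMonoidHom < E ⊔ O := by
        refine lt_of_le_of_ne ((Subgroup.map_mono hA.2.1.le).trans (hEn E hE r hr).le) fun he => hA.2.1.ne ?_
        exact Subgroup.map_injective (MulAut.conj r).injective (he.trans (hEn E hE r hr).symm)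
      have h3 := Subgroup.eq_of_le_of_card_ge (hA.2.2 _ h1 h2) (CfsgLib.LocalEven.card_map_conj A r).ge
      rw [h3]
      exact hA
    refine ⟨M₀, ⟨hM₀, hTM₀⟩, fun M hM => ?_⟩
    exact ((hM.1.le_iff.1 (hle M hM.1 hM.2)).resolve_left hXtop).symm.trans
      ((hM₀.le_iff.1 (hle M₀ hM₀ hTM₀)).resolve_left hXtop)
  · set π := QuotientGroup.mk' O with hπ
    have hπs : Function.Surjective π := QuotientGroup.mk'_surjective O
    have hOQ : Cfsg.pCore p (H ⧸ O) = ⊥ := CfsgLib.Cores.pCore_quotient_self p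
    have hker : ∀ x : H, π x = 1 ↔ x ∈ O := fun x => QuotientGroup.eq_one_iff x
    -- no central `p`-elements in subnormal subgroups of `H / O`
    have hsub : ∀ L : Subgroup (H ⧸ O), L.IsSubnormal → Cfsg.pCoreOf p L ≤ Cfsg.pCore p (H ⧸ O) :=
      fun L hL => CfsgLib.LocalEven.Subn.pCoreOf_le_pCore hL
    have hcentral : ∀ L : Subgroup (H ⧸ O), L.IsSubnormal → ∀ c ∈ L, (∀ l ∈ L, l * c = c * l) →
        (∃ k : ℕ, c ^ p ^ k = 1) → c = 1 := by
      rintro L hL c hc hcl ⟨k, hk⟩
      have hcp : IsPGroup p ↥(zpowers c) := by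
        obtain ⟨j, -, hj⟩ := (Nat.dvd_prime_pow (Fact.out : p.Prime)).1 (orderOf_dvd_of_pow_eq_one hk)
        exact IsPGroup.of_card (n := j) (by rw [Nat.card_zpowers, hj])
      have h1 : zpowers c ≤ Cfsg.pCoreOf p L := by
        refine CfsgLib.LocalEven.le_pCoreOf (Subgroup.zpowers_le.2 hc) hcp fun l hl => ?_
        refine CfsgLib.LocalEven.mem_normalizer_of_conj_le ?_
        rw [MonoidHom.map_zpowers, Subgroup.zpowers_le]
        show l * c * l⁻¹ ∈ zpowers c
        rw [hcl l hl, mul_inv_cancel_right]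
        exact Subgroup.mem_zpowers c
      exact Subgroup.mem_bot.1 (hOQ ▸ hsub L hL (h1 (Subgroup.mem_zpowers c)))
    have hEsn : ∀ E ∈ 𝒦, (E.map π).IsSubnormal := by
      intro E hE
      have := (hsn E hE).map hπs
      rwa [Subgroup.map_sup, show O.map π = ⊥ by rw [Subgroup.map_eq_bot_iff, QuotientGroup.ker_mk'], sup_bot_eq] at this
    have hEO : ∀ E ∈ 𝒦, ∀ x ∈ Cfsg.pCoreOf p E, π x = 1 := by
      intro E hE x hx
      have h1 : (Cfsg.pCoreOf p E).map π ≤ Cfsg.pCoreOf p (E.map π) := by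
        refine CfsgLib.LocalEven.le_pCoreOf (Subgroup.map_mono (CfsgLib.LocalEven.pCoreOf_le p E))
          ((CfsgLib.LocalEven.isPGroup_pCoreOf p E).map _) ?_
        exact (Subgroup.map_mono (CfsgLib.LocalEven.le_normalizer_pCoreOf p E)).trans (Subgroup.le_normalizer_map _)
      exact Subgroup.mem_bot.1 (hOQ ▸ hsub _ (hEsn E hE) (h1 ⟨x, hx, rfl⟩))
    have hRnE : ∀ E ∈ 𝒦, R.map π ≤ normalizer (E.map π : Set (H ⧸ O)) := by
      intro E hE
      have h1 := (Subgroup.map_mono (f := π) (le_sup_left.trans (hnorm E hE))).trans (Subgroup.le_normalizer_map _)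
      rwa [Subgroup.map_sup, show O.map π = ⊥ by rw [Subgroup.map_eq_bot_iff, QuotientGroup.ker_mk'], sup_bot_eq] at h1
    -- strong irreducibility, read in `H / O`
    have hirr : ∀ E ∈ 𝒦, ∀ A : Subgroup H, E ≤ normalizer (A : Set H) →
        (∀ x : ↥E, (orderOf x).Coprime p → (x : H) ∈ A) ∨
          ∀ a ∈ A ⊓ E, ∀ e ∈ E, π a * π e = π e * π a := by
      intro E hE A hA
      haveI : (A.subgroupOf E).Normal := ⟨fun n hn g =>
        Subgroup.mem_subgroupOf.2 (CfsgLib.LocalEven.conj_mem_of_mem_normalizer (hA g.2) hn)⟩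
      by_cases hc : ⁅A.subgroupOf E, (⊤ : Subgroup ↥E)⁆ ≤ Cfsg.pCore p ↥E
      · refine Or.inr fun a ha e he => ?_
        have h1 := hc (Subgroup.commutator_mem_commutator
          (show (⟨a, ha.2⟩ : ↥E) ∈ A.subgroupOf E from ha.1) (Subgroup.mem_top (⟨e, he⟩ : ↥E)))
        have h2 := hEO E hE _ ⟨_, h1, rfl⟩
        simp only [commutatorElement_def, map_mul, map_inv, Subgroup.coe_subtype] at h2
        exact mul_inv_eq_iff_eq_mul.1 (mul_inv_eq_one.1 h2)
      · exact Or.inl fun x hx => (hstr E hE).2 _ inferInstance hc (CfsgLib.Transfer.mem_pResidual_of_coprime hx)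
    -- members are generated by their `p`-elements
    have hgen : ∀ E ∈ 𝒦, E ≤ Cfsg.pElementClosure p E := by
      intro E hE
      set W := Cfsg.pElementClosure p E with hW
      obtain ⟨U⟩ := (Sylow.nonempty : Nonempty (Sylow p ↥E))
      have hUW : (U : Subgroup ↥E) ≤ W.subgroupOf E := fun u hu =>
        CfsgLib.LocalEven.le_pElementClosure (Subgroup.map_subtype_le _) (U.2.map E.subtype) ⟨u, hu, rfl⟩
      have hpre : Cfsg.pResidual p ↥E ≤ W.subgroupOf E := by
        rcases hirr E hE W (CfsgLib.LocalEven.le_normalizer_pElementClosure p E) with h | h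
        · exact (Subgroup.closure_le _).2 fun x hx => h x hx
        · exfalso
          refine (hstr E hE).1 ((CfsgLib.LocalEven.PClosed.iff_sylow_le U).2 ?_)
          intro u hu
          have hu1 : π (u : H) = 1 := by
            refine hcentral _ (hEsn E hE) _ ⟨u, u.2, rfl⟩ ?_ ?_
            · rintro _ ⟨e, he, rfl⟩
              exact (h u (Subgroup.mem_inf.2 ⟨hUW hu, u.2⟩) e he).symm
            · obtain ⟨k, hk⟩ := U.2 ⟨u, hu⟩
              refine ⟨k, ?_⟩
              rw [← map_pow, ← SubgroupClass.coe_pow, show u ^ p ^ k = 1 from congrArg Subtype.val hk]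
              simp
          exact CfsgLib.Cores.le_pCore (N := O.subgroupOf E) (CfsgLib.Cores.isPGroup_pCore p).comap_subtype ((hker _).1 hu1)
      intro e he
      have h1 : (⟨e, he⟩ : ↥E) ∈ W.subgroupOf E :=
        (sup_le hpre hUW) ((CfsgLib.Transfer.pResidual_sup_sylow U).ge (Subgroup.mem_top _))
      exact h1
    -- a homomorphism killing
    have hkill : ∀ (E : Subgroup H), E ∈ 𝒦 → ∀ L : Subgroup (H ⧸ O), L.IsSubnormal → ∀ x : H ⧸ O,
        (∀ e ∈ E, x * π e * x⁻¹ * (π e)⁻¹ ∈ L ∧ (∀ l ∈ L, l * (x * π e * x⁻¹ * (π e)⁻¹) = (x * π e * x⁻¹ * (π e)⁻¹) * l) ∧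
          π e * (x * π e * x⁻¹ * (π e)⁻¹) = (x * π e * x⁻¹ * (π e)⁻¹) * π e) →
        ∀ e ∈ E, x * π e = π e * x := by
      intro E hE L hL x hx e he
      have key : ∀ e ∈ E, (∃ k : ℕ, orderOf e = p ^ k) → π e ∈ centralizer ({x} : Set (H ⧸ O)) := by
        rintro e he ⟨k, hk⟩
        obtain ⟨h1, h2, h3⟩ := hx e he
        set c := x * π e * x⁻¹ * (π e)⁻¹ with hc
        have hce : x * π e * x⁻¹ = c * π e := by rw [hc, inv_mul_cancel_right]
        have hcp : c ^ p ^ k = 1 := by
          have h4 := congrArg (· ^ p ^ k) hce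
          simp only [conj_pow, Commute.mul_pow (show Commute c (π e) from h3.symm)] at h4
          rw [show (π e) ^ p ^ k = 1 by rw [← map_pow, ← hk, pow_orderOf_eq_one, map_one]] at h4
          simpa using h4.symm
        rw [hcentral L hL c h1 h2 ⟨k, hcp⟩, one_mul] at hce
        exact Subgroup.mem_centralizer_iff.2 fun v hv => by
          rw [Set.mem_singleton_iff] at hv
          rw [hv]
          exact mul_inv_eq_iff_eq_mul.1 hce
      have hle : Cfsg.pElementClosure p E ≤ (centralizer ({x} : Set (H ⧸ O))).comap π :=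
        (Subgroup.closure_le _).2 fun y hy => key y hy.1 hy.2
      exact Subgroup.mem_centralizer_iff.1 (hle (hgen E hE he)) x rfl
    refine ⟨⟨fun hcl => ?_, fun N hN hNcl => ?_⟩, fun E hE K hK => ?_⟩
    · obtain ⟨E, hE⟩ := hne
      refine (hstr E hE).1 ((CfsgLib.LocalEven.PClosed.iff_forall_le_pCore).2 fun P hP => ?_)
      intro x hx
      have hxO : (x : H) ∈ O := CfsgLib.LocalEven.PClosed.iff_forall_le_pCore.1 hcl _ (hP.map E.subtype) ⟨x, hx, rfl⟩
      exact CfsgLib.Cores.le_pCore (N := O.subgroupOf E) (CfsgLib.Cores.isPGroup_pCore p).comap_subtype hxO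
    · haveI := hN
      set M := N ⊔ O with hM
      have hOM : O ≤ M := le_sup_right
      by_cases hbig : ∃ E ∈ 𝒦, ∀ x : ↥E, (orderOf x).Coprime p → (x : H) ∈ M
      · obtain ⟨E₀, hE₀, hbig⟩ := hbig
        have hall : ∀ E ∈ 𝒦, ∀ x : ↥E, (orderOf x).Coprime p → (x : H) ∈ M := by
          intro E hE x hx
          obtain ⟨h, rfl⟩ := htr E₀ hE₀ E hE
          obtain ⟨y, hy, hyx⟩ := x.2
          have hy' : (orderOf (⟨y, hy⟩ : ↥E₀)).Coprime p := by
            rw [← Subgroup.orderOf_coe] at hx ⊢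
            rw [← hyx] at hx
            change (orderOf ((MulAut.conj h) y)).Coprime p at hx
            rwa [MulEquiv.orderOf_eq] at hx
          rw [← hyx]
          exact (inferInstance : M.Normal).conj_mem y (hbig ⟨y, hy⟩ hy') h
        haveI := CfsgLib.Transfer.pResidual_characteristic (G := H) (p := p)
        obtain ⟨T⟩ := (Sylow.nonempty : Nonempty (Sylow p H))
        -- `R M / M` is generated by normal `p`-subgroups
        have hcong : ∀ E ∈ 𝒦, IsPGroup p ↥(E.map (QuotientGroup.mk' M)) := by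
          intro E hE
          obtain ⟨U⟩ := (Sylow.nonempty : Nonempty (Sylow p ↥E))
          have hle : Cfsg.pResidual p ↥E ≤ M.subgroupOf E := (Subgroup.closure_le _).2 fun x hx => hall E hE x hx
          have hEq : E.map (QuotientGroup.mk' M) = ((U : Subgroup ↥E).map E.subtype).map (QuotientGroup.mk' M) := by
            refine le_antisymm ?_ (Subgroup.map_mono (Subgroup.map_subtype_le _))
            rintro _ ⟨e, he, rfl⟩
            haveI := CfsgLib.Transfer.pResidual_characteristic (G := ↥E) (p := p)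
            obtain ⟨a, ha, u, hu, hau⟩ := Subgroup.mem_sup_of_normal_left.1
              ((CfsgLib.Transfer.pResidual_sup_sylow U).ge (Subgroup.mem_top (⟨e, he⟩ : ↥E)))
            refine ⟨(u : H), ⟨u, hu, rfl⟩, ?_⟩
            have he' : e = (a : H) * u := (congrArg Subtype.val hau).symm
            rw [he', map_mul, show (QuotientGroup.mk' M) (a : H) = 1 from (QuotientGroup.eq_one_iff _).2 (hle ha), one_mul]
          rw [hEq]
          exact (U.2.map E.subtype).map _
        have hsn' : ∀ E ∈ 𝒦, E.map (QuotientGroup.mk' M) ≤ Cfsg.pCore p (H ⧸ M) := by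
          intro E hE
          have hs := (hsn E hE).map (f := QuotientGroup.mk' M) (QuotientGroup.mk'_surjective M)
          rw [Subgroup.map_sup, show O.map (QuotientGroup.mk' M) = ⊥ by
            rw [Subgroup.map_eq_bot_iff, QuotientGroup.ker_mk']; exact hOM, sup_bot_eq] at hs
          refine le_trans ?_ (CfsgLib.LocalEven.Subn.pCoreOf_le_pCore hs)
          exact CfsgLib.LocalEven.le_pCoreOf le_rfl (hcong E hE) Subgroup.le_normalizer
        refine (CfsgLib.LocalEven.PClosed.pResidual_le_of_le_sup (N := N) (Q := (T : Subgroup H)) T.2 ?_)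
        intro x hx
        have h1 : (QuotientGroup.mk' M) x ∈ Cfsg.pCore p (H ⧸ M) := by
          have h2 : R ≤ (Cfsg.pCore p (H ⧸ M)).comap (QuotientGroup.mk' M) := sSup_le fun E hE =>
            Subgroup.map_le_iff_le_comap.1 (hsn' E hE)
          exact h2 (hres hx)
        have h3 : Cfsg.pCore p (H ⧸ M) ≤ (T : Subgroup H).map (QuotientGroup.mk' M) := by
          have := CfsgLib.Cores.pCore_le_sylow (T.mapSurjective (f := QuotientGroup.mk' M) (QuotientGroup.mk'_surjective M))
          exact this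
        obtain ⟨t, ht, htx⟩ := h3 h1
        have hm : x * t⁻¹ ∈ M := by
          rw [← QuotientGroup.eq_one_iff]
          show (QuotientGroup.mk' M) (x * t⁻¹) = 1
          rw [map_mul, map_inv, htx, mul_inv_cancel]
        rw [show x = x * t⁻¹ * t by group]
        exact mul_mem ((sup_le le_sup_left ((CfsgLib.Cores.pCore_le_sylow T).trans le_sup_right) : M ≤ N ⊔ (T : Subgroup H)) hm)
          (Subgroup.mem_sup_right ht)
      · exfalso
        apply hNcl
        obtain ⟨T⟩ := (Sylow.nonempty : Nonempty (Sylow p H))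
        rw [CfsgLib.LocalEven.PClosed.iff_of_normal T N]
        simp only [not_exists, not_and] at hbig
        have hMn : ∀ E ∈ 𝒦, E ≤ normalizer (M : Set H) := fun E _ => by rw [Subgroup.normalizer_eq_top]; exact le_top
        have hcomm : ∀ E ∈ 𝒦, ∀ a ∈ M ⊓ E, ∀ e ∈ E, π a * π e = π e * π a := fun E hE =>
          (hirr E hE M (hMn E hE)).resolve_left (hbig E hE)
        haveI : (M.map π).Normal := Subgroup.Normal.map inferInstance π hπs
        haveI : (R.map π).Normal := Subgroup.Normal.map inferInstance π hπs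
        have hlift : ∀ E : Subgroup H, ∀ y : H ⧸ O, y ∈ E.map π → y ∈ M.map π → ∃ a ∈ M ⊓ E, π a = y := by
          rintro E _ ⟨a, ha, rfl⟩ ⟨m, hm, hma⟩
          refine ⟨a, Subgroup.mem_inf.2 ⟨?_, ha⟩, rfl⟩
          have h1 : m⁻¹ * a ∈ O := QuotientGroup.eq.1 hma
          simpa using mul_mem hm (hOM h1)
        -- `(M ∩ R)O / O` centralizes every member
        have h1 : ∀ y ∈ M.map π ⊓ R.map π, ∀ E ∈ 𝒦, ∀ e ∈ E, y * π e = π e * y := by
          intro y hy E hE e he
          refine hkill E hE (E.map π) (hEsn E hE) y (fun e he => ?_) e he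
          have hc1 : y * π e * y⁻¹ * (π e)⁻¹ ∈ E.map π := mul_mem
            (CfsgLib.LocalEven.conj_mem_of_mem_normalizer (hRnE E hE hy.2) ⟨e, he, rfl⟩) (inv_mem ⟨e, he, rfl⟩)
          have hc2 : y * π e * y⁻¹ * (π e)⁻¹ ∈ M.map π := by
            rw [show y * π e * y⁻¹ * (π e)⁻¹ = y * (π e * y⁻¹ * (π e)⁻¹) by group]
            exact mul_mem hy.1 ((inferInstance : (M.map π).Normal).conj_mem _ (inv_mem hy.1) _)
          obtain ⟨a, ha, hae⟩ := hlift E _ hc1 hc2
          rw [← hae]
          refine ⟨⟨a, ha.2, rfl⟩, ?_, (hcomm E hE a ha e he).symm⟩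
          rintro _ ⟨l, hl, rfl⟩
          exact (hcomm E hE a ha l hl).symm
        have h1R : ∀ y ∈ M.map π ⊓ R.map π, ∀ l ∈ R.map π, l * y = y * l := by
          intro y hy
          have : R ≤ (centralizer ({y} : Set (H ⧸ O))).comap π := sSup_le fun E hE e he =>
            Subgroup.mem_centralizer_iff.2 fun v hv => by
              rw [Set.mem_singleton_iff] at hv
              rw [hv]
              exact h1 y hy E hE e he
          rintro _ ⟨r, hr, rfl⟩
          exact (Subgroup.mem_centralizer_iff.1 (this hr) y rfl).symm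
        have h2 : ∀ y ∈ M.map π, ∀ E ∈ 𝒦, ∀ e ∈ E, y * π e = π e * y := by
          intro y hy E hE e he
          refine hkill E hE (R.map π) (Subgroup.Normal.isSubnormal inferInstance) y (fun e he => ?_) e he
          have heR : π e ∈ R.map π := ⟨e, le_sSup hE he, rfl⟩
          have hc1 : y * π e * y⁻¹ * (π e)⁻¹ ∈ R.map π :=
            mul_mem ((inferInstance : (R.map π).Normal).conj_mem _ heR y) (inv_mem heR)
          have hc2 : y * π e * y⁻¹ * (π e)⁻¹ ∈ M.map π := by
            rw [show y * π e * y⁻¹ * (π e)⁻¹ = y * (π e * y⁻¹ * (π e)⁻¹) by group]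
            exact mul_mem hy ((inferInstance : (M.map π).Normal).conj_mem _ (inv_mem hy) _)
          exact ⟨hc1, h1R _ (Subgroup.mem_inf.2 ⟨hc2, hc1⟩), h1R _ (Subgroup.mem_inf.2 ⟨hc2, hc1⟩) _ heR⟩
        set D := ((T : Subgroup H).map π) ⊓ M.map π with hD
        haveI : D.Normal := by
          rw [← Subgroup.normalizer_eq_top_iff, eq_top_iff, ← Subgroup.map_top_of_surjective π hπs]
          rw [← top_le_iff.1 ((CfsgLib.Transfer.pResidual_sup_sylow T).ge.trans (sup_le_sup_right hres _)), Subgroup.map_sup]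
          refine sup_le ?_ fun t ht => Subgroup.mem_normalizer_iff.2 fun v => and_congr
            (Subgroup.mem_normalizer_iff.1 (Subgroup.le_normalizer ht) v)
            (Subgroup.mem_normalizer_iff.1 (show t ∈ normalizer (M.map π : Set (H ⧸ O)) by rw [Subgroup.normalizer_eq_top]; trivial) v)
          refine Subgroup.map_le_iff_le_comap.2 (sSup_le fun E hE e he => Subgroup.centralizer_le_normalizer _ ?_)
          exact Subgroup.mem_centralizer_iff.2 fun d hd => h2 d hd.2 E hE e he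
        have hDb : D = ⊥ := le_bot_iff.1 (hOQ ▸ CfsgLib.Cores.le_pCore ((T.2.map π).to_le inf_le_left))
        intro x hx
        exact (hker x).1 (Subgroup.mem_bot.1 (hDb ▸ (Subgroup.mem_inf.2 ⟨⟨x, hx.1, rfl⟩, ⟨x, Subgroup.mem_sup_left hx.2, rfl⟩⟩ : π x ∈ D)))
    · have hnormKO : ∀ X ∈ 𝒦, ∀ Y ∈ 𝒦, X ≤ normalizer ((Y ⊔ O : Subgroup H) : Set H) := fun X hX Y hY =>
        ((le_sSup hX).trans le_sup_left).trans (hnorm Y hY)
      -- equality of residuals once one is inside the other
      have hres1 : ∀ X ∈ 𝒦, ∀ Y ∈ 𝒦, (∀ x : ↥X, (orderOf x).Coprime p → (x : H) ∈ Y ⊔ O) →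
          (Cfsg.pResidual p ↥(X ⊔ O)).map (X ⊔ O).subtype = (Cfsg.pResidual p ↥(Y ⊔ O)).map (Y ⊔ O).subtype := by
        intro X hX Y hY hXY
        refine Subgroup.eq_of_le_of_card_ge ?_ ?_
        · set J := X ⊔ O with hJ
          rw [Subgroup.map_le_iff_le_comap]
          refine (Subgroup.closure_le _).2 fun z hz => ?_
          have hzY : (z : H) ∈ Y ⊔ O := by
            have hW : ((Y ⊔ O) ⊓ J).subgroupOf J ⊔ (O.subgroupOf J ⊔ (((Y ⊔ O) ⊓ J).subgroupOf J)) = ((Y ⊔ O) ⊓ J).subgroupOf J := by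
              refine sup_eq_left.2 (sup_le (fun o ho => Subgroup.mem_inf.2 ⟨Subgroup.mem_sup_right ho, o.2⟩) le_rfl)
            haveI : (((Y ⊔ O) ⊓ J).subgroupOf J).Normal := by
              rw [Subgroup.inf_subgroupOf_right]
              exact Subgroup.normal_subgroupOf_of_le_normalizer (sup_le (hnormKO X hX Y hY) (le_sup_right.trans Subgroup.le_normalizer))
            obtain ⟨U⟩ := (Sylow.nonempty : Nonempty (Sylow p ↥X))
            have hcov : ((Y ⊔ O) ⊓ J).subgroupOf J ⊔ (((U : Subgroup ↥X).map X.subtype).subgroupOf J) = ⊤ := by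
              refine top_le_iff.1 fun w _ => ?_
              obtain ⟨a, ha, o, ho, hao⟩ := Subgroup.mem_sup_of_normal_right.1 (w.2 : (w : H) ∈ X ⊔ O)
              haveI := CfsgLib.Transfer.pResidual_characteristic (G := ↥X) (p := p)
              obtain ⟨c, hc, u, hu, hcu⟩ := Subgroup.mem_sup_of_normal_left.1
                ((CfsgLib.Transfer.pResidual_sup_sylow U).ge (Subgroup.mem_top (⟨a, ha⟩ : ↥X)))
              have hcY : (c : H) ∈ Y ⊔ O := by
                have : Cfsg.pResidual p ↥X ≤ (Y ⊔ O).subgroupOf X := (Subgroup.closure_le _).2 fun x hx => hXY x hx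
                exact this hc
              have he : w = ⟨(c : H), Subgroup.mem_sup_left c.2⟩ * ⟨(u : H), Subgroup.mem_sup_left u.2⟩ * ⟨o, Subgroup.mem_sup_right ho⟩ := by
                apply Subtype.ext
                show (w : H) = (c : H) * u * o
                rw [← hao, show (a : H) = (c : H) * u from (congrArg Subtype.val hcu).symm]
              rw [he]
              refine mul_mem (Subgroup.mul_mem_sup (Subgroup.mem_inf.2 ⟨hcY, Subgroup.mem_sup_left c.2⟩) ?_) (Subgroup.mem_sup_left ?_)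
              · exact ⟨u, hu, rfl⟩
              · exact Subgroup.mem_inf.2 ⟨Subgroup.mem_sup_right ho, Subgroup.mem_sup_right ho⟩
            exact (CfsgLib.LocalEven.PClosed.mem_of_mem_sup (U.2.map X.subtype).comap_subtype (hcov.ge (Subgroup.mem_top z)) (show (orderOf z).Coprime p from hz) : _).1
          refine ⟨⟨(z : H), hzY⟩, Subgroup.subset_closure ?_, rfl⟩
          show (orderOf (⟨(z : H), hzY⟩ : ↥(Y ⊔ O))).Coprime p
          rw [Subgroup.orderOf_mk, Subgroup.orderOf_coe]
          exact hz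
        · obtain ⟨h, rfl⟩ := htr X hX Y hY
          refine le_of_eq ?_
          rw [Subgroup.card_map_of_injective (Subgroup.subtype_injective _),
            Subgroup.card_map_of_injective (Subgroup.subtype_injective _)]
          have e := ((MulAut.conj h).subgroupMap (X ⊔ O)).trans (MulEquiv.subgroupCongr (hsupO X h))
          rw [← CfsgLib.Transfer.map_pResidual_of_surjective e.toMonoidHom e.surjective,
            Subgroup.card_map_of_injective e.injective]
      rcases hirr E hE (K ⊔ O) (hnormKO E hE K hK) with h | hA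
      · exact Or.inl (hres1 E hE K hK h)
      rcases hirr K hK (E ⊔ O) (hnormKO K hK E hE) with h | hB
      · exact Or.inl (hres1 K hK E hE h).symm
      refine Or.inr (Subgroup.commutator_le.2 fun e he k hk => (hker _).1 ?_)
      rw [map_commutatorElement, commutatorElement_eq_one_iff_mul_comm]
      refine (hkill K hK (K.map π) (hEsn K hK) (π e) (fun k hk => ?_) k hk)
      set c := e * k * e⁻¹ * k⁻¹ with hc
      have hcK : c ∈ K ⊔ O := mul_mem (CfsgLib.LocalEven.conj_mem_of_mem_normalizer (hnormKO E hE K hK he) (Subgroup.mem_sup_left hk)) (inv_mem (Subgroup.mem_sup_left hk))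
      have hcE : c ∈ E ⊔ O := by
        rw [hc, show e * k * e⁻¹ * k⁻¹ = e * (k * e⁻¹ * k⁻¹) by group]
        exact mul_mem (Subgroup.mem_sup_left he) (CfsgLib.LocalEven.conj_mem_of_mem_normalizer (hnormKO K hK E hE hk) (inv_mem (Subgroup.mem_sup_left he)))
      obtain ⟨b, hb, o, ho, hbo⟩ := Subgroup.mem_sup_of_normal_right.1 hcK
      have hbE : b ∈ E ⊔ O := by
        have := mul_mem hcE (inv_mem (Subgroup.mem_sup_right ho : o ∈ E ⊔ O))
        rwa [← hbo, mul_inv_cancel_right] at this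
      have hπc : π e * π k * (π e)⁻¹ * (π k)⁻¹ = π b := by
        rw [← map_inv, ← map_inv, ← map_mul, ← map_mul, ← map_mul, ← hc, ← hbo, map_mul, (hker o).2 ho, mul_one]
      rw [hπc]
      refine ⟨⟨b, hb, rfl⟩, ?_, (hB b (Subgroup.mem_inf.2 ⟨hbE, hb⟩) k hk).symm⟩
      rintro _ ⟨l, hl, rfl⟩
      exact (hB b (Subgroup.mem_inf.2 ⟨hbE, hb⟩) l hl).symm

end Cfsg.Agent.S2855
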