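import Cfsg.Statements.S2859
import Cfsg.Agent.Lib.LocalEven.WeaklyClosed
import Cfsg.Agent.Lib.LocalEven.CoreOf
import Cfsg.Agent.Lib.LocalEven.PClosed
open Subgroup
open scoped commutatorElement

set_option autoImplicit false
open Cfsg

namespace Cfsg.Agent.S2859

/-- Let Q be a nontrivial p-subgroup of the finite group H that is a weakly closed subgroup, H° the weak closure of Q in H (generated by the conjugates of Q) and H_∘ = O^p(H°). Suppose H₁, H₂ are normal subgroups of H° with H° = H₁H₂ and [H₁, H₂] ≤ N_H(Q), and put Kᵢ = O^p of the weak closure of Q in HᵢQ. Then for i = 1, 2: Kᵢ = [Kᵢ, Q] = [Kᵢ, Hᵢ] ≤ Hᵢ′ and Kᵢ is normal in H°; H_∘ = K₁K₂; and [K₁, K₂] ≤ O_p(H°). -/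
theorem result {G : Type*} [Group G] [Finite G] {p : ℕ} [Fact p.Prime] (Q : Subgroup G) (hQp : IsPGroup p ↥Q) (hQ1 : Q ≠ ⊥) (hwc : Cfsg.IsWeaklyClosedSubgroup p Q) (Hc : Subgroup G) (hHc : Hc = Cfsg.weakClosure Q ⊤) (H₁ H₂ : Subgroup G) (hn₁ : H₁ ≤ Hc ∧ Hc ≤ Subgroup.normalizer ((H₁ : Subgroup G) : Set G)) (hn₂ : H₂ ≤ Hc ∧ Hc ≤ Subgroup.normalizer ((H₂ : Subgroup G) : Set G)) (hprod : H₁ ⊔ H₂ = Hc) (hcomm : ⁅H₁, H₂⁆ ≤ Subgroup.normalizer ((Q : Subgroup G) : Set G)) (K₁ K₂ : Subgroup G) (hK₁ : K₁ = ((Cfsg.pResidual p ↥(Cfsg.weakClosure Q (H₁ ⊔ Q))).map ((Cfsg.weakClosure Q (H₁ ⊔ Q))).subtype)) (hK₂ : K₂ = ((Cfsg.pResidual p ↥(Cfsg.weakClosure Q (H₂ ⊔ Q))).map ((Cfsg.weakClosure Q (H₂ ⊔ Q))).subtype)) : (⁅K₁, Q⁆ = K₁ ∧ ⁅K₁, H₁⁆ = K₁ ∧ K₁ ≤ ⁅H₁, H₁⁆ ∧ Hc ≤ Subgroup.normalizer ((K₁ : Subgroup G) : Set G)) ∧ (⁅K₂, Q⁆ = K₂ ∧ ⁅K₂, H₂⁆ = K₂ ∧ K₂ ≤ ⁅H₂, H₂⁆ ∧ Hc ≤ Subgroup.normalizer ((K₂ : Subgroup G) : Set G)) ∧ K₁ ⊔ K₂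 = ((Cfsg.pResidual p ↥Hc).map (Hc).subtype) ∧ ⁅K₁, K₂⁆ ≤ (Cfsg.pCoreOf p Hc) := by
  -- basic facts
  have hQc : Q ≤ Hc := hHc ▸ CfsgLib.LocalEven.WC.le_weakClosure le_top
  have hwcl : ∀ g : G, Q.map (MulAut.conj g).toMonoidHom ≤ Hc := fun g =>
    hHc ▸ CfsgLib.LocalEven.WC.map_conj_le_weakClosure Q le_top
  let res : Subgroup G → Subgroup G := fun W => (Cfsg.pResidual p ↥W).map W.subtype
  have hresmem : ∀ W : Subgroup G, ∀ x ∈ W, (orderOf x).Coprime p → x ∈ res W := fun W x hx hxo =>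
    ⟨⟨x, hx⟩, CfsgLib.Transfer.mem_pResidual_of_coprime (by rwa [Subgroup.orderOf_mk]), rfl⟩
  have hresle : ∀ W X : Subgroup G, (∀ x ∈ W, (orderOf x).Coprime p → x ∈ X) → res W ≤ X := by
    intro W X h
    rw [Subgroup.map_le_iff_le_comap]
    exact (Subgroup.closure_le _).2 fun x hx => h x x.2 (by rw [Subgroup.orderOf_coe]; exact hx)
  -- `p'`-elements of `N ⊔ U`, `N` normalised by the `p`-group `U`, lie in `N`
  have hmem : ∀ N U : Subgroup G, IsPGroup p ↥U → U ≤ normalizer (N : Set G) → ∀ x ∈ N ⊔ U, (orderOf x).Coprime p → x ∈ N := by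
    intro N U hU hUN x hx hxo
    haveI : (N.subgroupOf (N ⊔ U)).Normal :=
      Subgroup.normal_subgroupOf_of_le_normalizer (sup_le Subgroup.le_normalizer hUN)
    have h := CfsgLib.LocalEven.PClosed.mem_of_mem_sup (p := p) (N := N.subgroupOf (N ⊔ U)) (Q := U.subgroupOf (N ⊔ U))
      hU.comap_subtype (x := (⟨x, hx⟩ : ↥(N ⊔ U)))
      (by rw [← Subgroup.subgroupOf_sup le_sup_left le_sup_right]; exact hx)
      (by rwa [Subgroup.orderOf_mk])
    exact h
  -- `D = [H₁, H₂]` and its core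
  have side : ∀ A B : Subgroup G, A ≤ Hc → Hc ≤ normalizer (A : Set G) → B ≤ Hc → Hc ≤ normalizer (B : Set G) →
      A ⊔ B = Hc → ⁅A, B⁆ ≤ normalizer (Q : Set G) →
      ∀ K : Subgroup G, K = res (Cfsg.weakClosure Q (A ⊔ Q)) →
        (⁅K, Q⁆ = K ∧ ⁅K, A⁆ = K ∧ K ≤ ⁅A, A⁆ ∧ Hc ≤ normalizer (K : Set G)) ∧ K ≤ A ∧
          ⁅K, B⁆ ≤ Cfsg.pCoreOf p Hc ∧ K ≤ res Hc ∧ Cfsg.weakClosure Q (A ⊔ Q) ≤ K ⊔ Q := by
    intro A B hA hAn hB hBn hAB hD K hK
    set W := Cfsg.weakClosure Q (A ⊔ Q) with hW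
    have hQW : Q ≤ W := CfsgLib.LocalEven.WC.le_weakClosure le_sup_right
    have hWle : W ≤ A ⊔ Q := CfsgLib.LocalEven.WC.weakClosure_le _ _
    have hWn : A ⊔ Q ≤ normalizer (W : Set G) := CfsgLib.LocalEven.WC.le_normalizer_weakClosure _ _
    have hQA : Q ≤ normalizer (A : Set G) := hQc.trans hAn
    have hWres : ∀ x ∈ W, (orderOf x).Coprime p → x ∈ K := fun x hx hxo => hK ▸ hresmem W x hx hxo
    have hKW : K ≤ W := hK ▸ Subgroup.map_subtype_le _
    have hKn : ∀ g ∈ normalizer (W : Set G), g ∈ normalizer (K : Set G) := by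
      intro g hg
      refine CfsgLib.LocalEven.mem_normalizer_of_conj_le ?_
      rw [Subgroup.map_le_iff_le_comap, hK]
      refine hresle W _ fun x hx hxo => hresmem W _ ((Subgroup.mem_normalizer_iff.1 hg x).1 hx) ?_
      show (orderOf ((MulAut.conj g) x)).Coprime p
      rwa [MulEquiv.orderOf_eq]
    have hWK : W ≤ normalizer (K : Set G) := fun g hg => hKn g (Subgroup.le_normalizer hg)
    have hQK : Q ≤ normalizer (K : Set G) := hQW.trans hWK
    have hKA : K ≤ A := by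
      rw [hK]
      exact hresle W A fun x hx hxo => hmem A Q hQp hQA x (hWle hx) hxo
    -- `W = K Q`
    haveI hKWn : (K.subgroupOf W).Normal := Subgroup.normal_subgroupOf_of_le_normalizer hWK
    have hncl : ∀ N : Subgroup G, Q ≤ N → W ≤ normalizer (N : Set G) → W ≤ N := by
      intro N hQN hWN
      refine iSup_le fun g => ?_
      have hgW : Q.map (MulAut.conj (g : G)).toMonoidHom ≤ W := CfsgLib.LocalEven.WC.map_conj_le_weakClosure Q g.2
      obtain ⟨k, hk, hgk⟩ := CfsgLib.LocalEven.WC.exists_conj_in hwc hQp hQW hgW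
      rw [hgk]
      exact (Subgroup.map_mono hQN).trans (CfsgLib.LocalEven.WC.map_conj_eq_of_mem (hWN hk)).le
    have hWKQ : W ≤ K ⊔ Q := by
      set π := QuotientGroup.mk' (K.subgroupOf W) with hπ
      have hpg : IsPGroup p (↥W ⧸ K.subgroupOf W) := by
        haveI := CfsgLib.Transfer.pResidual_characteristic (G := ↥W) (p := p)
        have he : K.subgroupOf W = Cfsg.pResidual p ↥W := by
          rw [hK]
          exact Subgroup.comap_map_eq_self_of_injective W.subtype_injective _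
        exact IsPGroup.of_equiv CfsgLib.Transfer.isPGroup_quotient_pResidual (QuotientGroup.quotientMulEquivOfEq he.symm)
      have hmap : (Q.subgroupOf W).map π = ⊤ := by
        by_contra hne
        obtain ⟨X, hX, hPX⟩ := (eq_top_or_exists_le_coatom ((Q.subgroupOf W).map π)).resolve_left hne
        haveI : X.Normal := (@Group.normalizerCondition_of_isNilpotent _ _ hpg.isNilpotent).normal_of_coatom X hX
        refine hX.1 ?_
        have hle : W ≤ (X.comap π).map W.subtype := by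
          refine hncl _ (fun q hq => ⟨⟨q, hQW hq⟩, hPX ⟨⟨q, hQW hq⟩, hq, rfl⟩, rfl⟩) fun w hw => ?_
          refine CfsgLib.LocalEven.mem_normalizer_of_conj_le ?_
          rintro _ ⟨_, ⟨y, hy, rfl⟩, rfl⟩
          exact ⟨⟨w, hw⟩ * y * ⟨w, hw⟩⁻¹, (inferInstance : (X.comap π).Normal).conj_mem y hy ⟨w, hw⟩, rfl⟩
        have htop : X.comap π = ⊤ := top_le_iff.1 fun y _ => by
          obtain ⟨z, hz, hzy⟩ := hle y.2
          exact W.subtype_injective hzy ▸ hz
        rw [← Subgroup.map_comap_eq_self_of_surjective (QuotientGroup.mk'_surjective _) X, htop,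
          Subgroup.map_top_of_surjective _ (QuotientGroup.mk'_surjective _)]
      intro w hw
      obtain ⟨q, hq, hqw⟩ := hmap.ge (Subgroup.mem_top (π ⟨w, hw⟩))
      have hk : ((q : G))⁻¹ * w ∈ K := (QuotientGroup.eq.1 hqw :)
      rw [show w = (q : G) * ((q : G)⁻¹ * w) by group]
      exact mul_mem (Subgroup.mem_sup_right hq) (Subgroup.mem_sup_left hk)
    -- `K = [K, Q]`
    have hKQeq : ⁅K, Q⁆ = K := by
      set E := ⁅K, Q⁆ with hE
      have hEK : E ≤ K := Subgroup.le_normalizer_iff_commutator_le_left.1 hQK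
      have hEn : K ⊔ Q ≤ normalizer (E : Set G) :=
        sup_le (Subgroup.normalizer_commutator_ge_left (H₁ := K) (H₂ := Q)) (Subgroup.normalizer_commutator_ge_right (H₁ := K) (H₂ := Q))
      refine le_antisymm hEK ?_
      have hWN : W ≤ normalizer ((E ⊔ Q : Subgroup G) : Set G) := by
        refine hWKQ.trans (sup_le ?_ (le_sup_right.trans Subgroup.le_normalizer))
        intro k hk
        refine CfsgLib.LocalEven.mem_normalizer_of_conj_le ?_
        rw [Subgroup.map_sup, CfsgLib.LocalEven.WC.map_conj_eq_of_mem (hEn (Subgroup.mem_sup_left hk))]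
        refine sup_le le_sup_left ?_
        rintro _ ⟨q, hq, rfl⟩
        show k * q * k⁻¹ ∈ E ⊔ Q
        rw [show k * q * k⁻¹ = ⁅k, q⁆ * q by rw [commutatorElement_def]; group]
        exact Subgroup.mul_mem_sup (Subgroup.commutator_mem_commutator hk hq) hq
      rw [hK]
      exact hresle W E fun x hx hxo => hmem E Q hQp (le_sup_right.trans hEn) x (hncl _ le_sup_right hWN hx) hxo
    -- the core of `D`
    set D := ⁅A, B⁆ with hDdef
    have hDA : D ≤ A := Subgroup.le_normalizer_iff_commutator_le_left.1 (hB.trans hAn)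
    have hDn : Hc ≤ normalizer (D : Set G) := fun x hx => CfsgLib.LocalEven.mem_normalizer_of_conj_le (by
      rw [hDdef, Subgroup.map_commutator, CfsgLib.LocalEven.WC.map_conj_eq_of_mem (hAn hx),
        CfsgLib.LocalEven.WC.map_conj_eq_of_mem (hBn hx)])
    set P := Cfsg.pCoreOf p D with hP
    have hPD : P ≤ D := CfsgLib.LocalEven.pCoreOf_le p D
    have hPp : IsPGroup p ↥P := CfsgLib.LocalEven.isPGroup_pCoreOf p D
    have hPn : Hc ≤ normalizer (P : Set G) := fun x hx => CfsgLib.LocalEven.mem_normalizer_of_conj_le (by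
      rw [hP, ← CfsgLib.LocalEven.pCoreOf_map, CfsgLib.LocalEven.WC.map_conj_eq_of_mem (hDn hx)])
    have hPO : P ≤ Cfsg.pCoreOf p Hc := CfsgLib.LocalEven.le_pCoreOf ((hPD.trans hDA).trans hA) hPp hPn
    -- `D` is central in `Hc` modulo `P`
    let Z : Subgroup G :=
      { carrier := {x | x ∈ Hc ∧ ∀ d ∈ D, x * d * x⁻¹ * d⁻¹ ∈ P}
        one_mem' := ⟨one_mem _, fun d _ => by simp⟩
        mul_mem' := fun {a b} ha hb => ⟨mul_mem ha.1 hb.1, fun d hd => by
          have h1 := CfsgLib.LocalEven.conj_mem_of_mem_normalizer (hPn ha.1) (hb.2 d hd)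
          rw [show a * b * d * (a * b)⁻¹ * d⁻¹ = a * (b * d * b⁻¹ * d⁻¹) * a⁻¹ * (a * d * a⁻¹ * d⁻¹) by group]
          exact mul_mem h1 (ha.2 d hd)⟩
        inv_mem' := fun {a} ha => ⟨inv_mem ha.1, fun d hd => by
          have hd' : a⁻¹ * d * a ∈ D := by
            simpa using CfsgLib.LocalEven.conj_mem_of_mem_normalizer (hDn (inv_mem ha.1)) hd
          have h1 := ha.2 _ hd'
          rw [show a * (a⁻¹ * d * a) * a⁻¹ * (a⁻¹ * d * a)⁻¹ = d * (a⁻¹ * d⁻¹ * a) by group] at h1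
          have h2 := inv_mem h1
          rw [show a⁻¹ * d * a⁻¹⁻¹ * d⁻¹ = (d * (a⁻¹ * d⁻¹ * a))⁻¹ by group]
          exact h2⟩ }
    have hQZ : Q ≤ Z := by
      have hDQ : D ⊓ Q ≤ P := CfsgLib.LocalEven.le_pCoreOf inf_le_left (hQp.to_le inf_le_right)
        fun d hd => Subgroup.mem_normalizer_iff.2 fun v => and_congr
          (Subgroup.mem_normalizer_iff.1 (Subgroup.le_normalizer hd) v) (Subgroup.mem_normalizer_iff.1 (hD hd) v)
      intro q hq
      refine ⟨hQc hq, fun d hd => hDQ (Subgroup.mem_inf.2 ⟨?_, ?_⟩)⟩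
      · exact mul_mem (CfsgLib.LocalEven.conj_mem_of_mem_normalizer (hDn (hQc hq)) hd) (inv_mem hd)
      · rw [show q * d * q⁻¹ * d⁻¹ = q * (d * q⁻¹ * d⁻¹) by group]
        exact mul_mem hq (CfsgLib.LocalEven.conj_mem_of_mem_normalizer (hD hd) (inv_mem hq))
    have hHZ : Hc ≤ Z := by
      have hZn : Hc ≤ normalizer (Z : Set G) := by
        intro x hx
        refine CfsgLib.LocalEven.mem_normalizer_of_conj_le ?_
        rintro _ ⟨z, hz, rfl⟩
        show x * z * x⁻¹ ∈ Z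
        refine ⟨mul_mem (mul_mem hx hz.1) (inv_mem hx), fun d hd => ?_⟩
        have hd' : x⁻¹ * d * x ∈ D := by
          simpa using CfsgLib.LocalEven.conj_mem_of_mem_normalizer (hDn (inv_mem hx)) hd
        have := CfsgLib.LocalEven.conj_mem_of_mem_normalizer (hPn hx) (hz.2 _ hd')
        simpa [mul_assoc] using this
      conv_lhs => rw [hHc]
      refine iSup_le fun g => ?_
      obtain ⟨k, hk, hgk⟩ := CfsgLib.LocalEven.WC.exists_conj_in hwc hQp hQc (hwcl g)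
      rw [hgk]
      exact (Subgroup.map_mono hQZ).trans (CfsgLib.LocalEven.WC.map_conj_eq_of_mem (hZn hk)).le
    -- `[K, B] ≤ P`
    have hPcn : (P.subgroupOf Hc).Normal := Subgroup.normal_subgroupOf_of_le_normalizer hPn
    set π := QuotientGroup.mk' (P.subgroupOf Hc) with hπ
    have hKB : ∀ k ∈ K, ∀ b ∈ B, k * b * k⁻¹ * b⁻¹ ∈ P := by
      intro k hk b hb
      set hh : ↥Hc := ⟨b, hB hb⟩ with hhh
      have hcD : ∀ a ∈ A, a * b * a⁻¹ * b⁻¹ ∈ D := fun a ha => by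
        have := Subgroup.commutator_mem_commutator (H₁ := A) (H₂ := B) ha hb
        rwa [commutatorElement_def] at this
      have hcent : ∀ d : ↥Hc, (d : G) ∈ D → ∀ x : ↥Hc, π x * π d = π d * π x := fun d hd x => by
        have h1 : π (x * d * x⁻¹ * d⁻¹) = 1 := (QuotientGroup.eq_one_iff _).2 ((hHZ x.2).2 _ hd)
        rwa [map_mul, map_mul, map_mul, map_inv, map_inv, mul_inv_eq_one, mul_inv_eq_iff_eq_mul] at h1
      let φ : ↥A →* (↥Hc ⧸ P.subgroupOf Hc) :=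
        MonoidHom.mk' (fun a => π (⟨a, hA a.2⟩ * hh * (⟨a, hA a.2⟩ : ↥Hc)⁻¹ * hh⁻¹)) fun a a' => by
          have hc := hcent (⟨a', hA a'.2⟩ * hh * (⟨a', hA a'.2⟩ : ↥Hc)⁻¹ * hh⁻¹) (hcD _ a'.2)
          have hc' := hcent (⟨a, hA a.2⟩ * hh * (⟨a, hA a.2⟩ : ↥Hc)⁻¹ * hh⁻¹) (hcD _ a.2)
            (⟨a', hA a'.2⟩ * hh * (⟨a', hA a'.2⟩ : ↥Hc)⁻¹ * hh⁻¹)
          show π ((⟨(a : G) * a', hA (mul_mem a.2 a'.2)⟩ : ↥Hc) * hh * (⟨(a : G) * a', hA (mul_mem a.2 a'.2)⟩ : ↥Hc)⁻¹ * hh⁻¹) = _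
          set u : ↥Hc := ⟨a, hA a.2⟩
          set w : ↥Hc := ⟨a', hA a'.2⟩
          rw [show (⟨(a : G) * a', hA (mul_mem a.2 a'.2)⟩ : ↥Hc) = u * w from rfl,
            show u * w * hh * (u * w)⁻¹ * hh⁻¹ = (u * (w * hh * w⁻¹ * hh⁻¹) * u⁻¹) * (u * hh * u⁻¹ * hh⁻¹) by group,
            map_mul, map_mul π (u * (w * hh * w⁻¹ * hh⁻¹)), map_mul π u, hc u, map_inv, mul_inv_cancel_right]
          exact hc'
      have hφD : ∀ a : ↥A, (a : G) ∈ D → φ a = 1 := fun a ha => by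
        show π (⟨a, hA a.2⟩ * hh * (⟨a, hA a.2⟩ : ↥Hc)⁻¹ * hh⁻¹) = 1
        rw [map_mul, map_mul, map_mul, map_inv, map_inv, ← hcent ⟨a, hA a.2⟩ ha hh, mul_inv_cancel_right, mul_inv_cancel]
      have hφQ : ∀ a : ↥A, ∀ q, ∀ hq : q ∈ Q, φ ⟨q * a * q⁻¹, CfsgLib.LocalEven.conj_mem_of_mem_normalizer (hQA hq) a.2⟩ = φ a := by
        intro a q hq
        have hq2 : q ∈ ((A ⊔ B : Subgroup G) : Set G) := hAB.symm ▸ hQc hq
        rw [Subgroup.coe_mul_of_left_le_normalizer_right A B (hA.trans hBn)] at hq2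
        obtain ⟨s, hs, t, ht, hst⟩ := hq2
        have hd : t * a * t⁻¹ * (a : G)⁻¹ ∈ D := by
          have := Subgroup.commutator_mem_commutator (H₁ := B) (H₂ := A) ht a.2
          rwa [commutatorElement_def, Subgroup.commutator_comm] at this
        have e : (⟨q * a * q⁻¹, CfsgLib.LocalEven.conj_mem_of_mem_normalizer (hQA hq) a.2⟩ : ↥A) =
            ⟨s, hs⟩ * ⟨_, hDA hd⟩ * a * (⟨s, hs⟩ : ↥A)⁻¹ := by
          apply Subtype.ext
          show q * a * q⁻¹ = s * (t * a * t⁻¹ * (a : G)⁻¹) * a * s⁻¹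
          rw [← hst]
          group
        have hcomm : φ ⟨s, hs⟩ * φ a = φ a * φ ⟨s, hs⟩ := by
          exact hcent _ (hcD a a.2) _
        rw [e, map_mul, map_mul, map_mul, hφD ⟨_, hDA hd⟩ hd, mul_one, map_inv, hcomm, mul_inv_cancel_right]
      have hker : K ≤ φ.ker.map A.subtype := by
        conv_lhs => rw [← hKQeq]
        refine Subgroup.commutator_le.2 fun a ha q hq => ?_
        have haA : a ∈ A := hKA ha
        refine ⟨⟨a, haA⟩ * ⟨q * a⁻¹ * q⁻¹, CfsgLib.LocalEven.conj_mem_of_mem_normalizer (hQA hq) (inv_mem haA)⟩, ?_, ?_⟩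
        · show φ _ = 1
          have h2 := hφQ (⟨a, haA⟩⁻¹) q hq
          simp only [InvMemClass.coe_inv] at h2
          rw [map_mul, h2, map_inv, mul_inv_cancel]
        · show a * (q * a⁻¹ * q⁻¹) = ⁅a, q⁆
          rw [commutatorElement_def]
          group
      obtain ⟨a, ha, hak⟩ := hker hk
      have h3 : π (⟨a, hA a.2⟩ * hh * (⟨a, hA a.2⟩ : ↥Hc)⁻¹ * hh⁻¹) = 1 := ha
      have h4 := (QuotientGroup.eq_one_iff _).1 h3
      change (a : G) * b * (a : G)⁻¹ * b⁻¹ ∈ P at h4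
      rw [show (a : G) = k from hak] at h4
      exact h4
    have hPK : P ≤ normalizer (K : Set G) := fun x hx => hKn x (hWn (Subgroup.mem_sup_left (hDA (hPD hx))))
    -- normality in `Hc`
    have hnK : Hc ≤ normalizer (K : Set G) := by
      rw [← hAB]
      refine sup_le (fun a ha => hKn a (hWn (Subgroup.mem_sup_left ha))) fun b hb => ?_
      refine CfsgLib.LocalEven.mem_normalizer_of_conj_le ?_
      rw [Subgroup.map_le_iff_le_comap]
      conv_lhs => rw [hK]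
      refine hresle W _ fun x hx hxo => hmem K P hPp hPK _ ?_ (by
        show (orderOf ((MulAut.conj b) x)).Coprime p
        rwa [MulEquiv.orderOf_eq])
      have hxK : x ∈ K := hWres x hx hxo
      show b * x * b⁻¹ ∈ K ⊔ P
      rw [show b * x * b⁻¹ = (x * b * x⁻¹ * b⁻¹)⁻¹ * x by group]
      exact mul_mem (Subgroup.mem_sup_right (inv_mem (hKB x hxK b hb))) (Subgroup.mem_sup_left hxK)
    have hKA' : ⁅K, A⁆ = K := by
      set E := ⁅K, A⁆ with hE
      have hEK : E ≤ K := Subgroup.le_normalizer_iff_commutator_le_left.1 (hA.trans hnK)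
      have hEn : Hc ≤ normalizer (E : Set G) := fun x hx => CfsgLib.LocalEven.mem_normalizer_of_conj_le (by
        rw [hE, Subgroup.map_commutator, CfsgLib.LocalEven.WC.map_conj_eq_of_mem (hnK hx),
          CfsgLib.LocalEven.WC.map_conj_eq_of_mem (hAn hx)])
      refine le_antisymm hEK ?_
      have hKEP : K ≤ E ⊔ P := by
        conv_lhs => rw [← hKQeq]
        refine Subgroup.commutator_le.2 fun k hk q hq => ?_
        have hq2 : q ∈ ((A ⊔ B : Subgroup G) : Set G) := hAB.symm ▸ hQc hq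
        rw [Subgroup.coe_mul_of_left_le_normalizer_right A B (hA.trans hBn)] at hq2
        obtain ⟨s, hs, t, ht, hst⟩ := hq2
        rw [← hst, commutatorElement_def,
          show k * (s * t) * k⁻¹ * (s * t)⁻¹ = (k * s * k⁻¹ * s⁻¹) * (s * (k * t * k⁻¹ * t⁻¹) * s⁻¹) by group]
        refine Subgroup.mul_mem_sup ?_ (CfsgLib.LocalEven.conj_mem_of_mem_normalizer (hPn (hA hs)) (hKB k hk t ht))
        exact commutatorElement_def k s ▸ Subgroup.commutator_mem_commutator hk hs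
      conv_lhs => rw [hK]
      exact hresle W E fun x hx hxo => hmem E P hPp (((hPD.trans hDA).trans hA).trans hEn) x (hKEP (hWres x hx hxo)) hxo
    refine ⟨⟨hKQeq, hKA', ?_, hnK⟩, hKA, ?_, ?_, hWKQ⟩
    · conv_lhs => rw [← hKA']
      exact Subgroup.commutator_mono hKA le_rfl
    · refine Subgroup.commutator_le.2 fun k hk b hb => hPO ?_
      rw [commutatorElement_def]
      exact hKB k hk b hb
    · rw [hK]
      exact hresle W _ fun x hx hxo => hresmem Hc x ((hWle.trans (sup_le hA hQc)) hx) hxo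
  obtain ⟨r₁, hK₁A, hc₁, hr₁, hw₁⟩ := side H₁ H₂ hn₁.1 hn₁.2 hn₂.1 hn₂.2 hprod hcomm K₁ hK₁
  obtain ⟨r₂, hK₂A, -, hr₂, hw₂⟩ := side H₂ H₁ hn₂.1 hn₂.2 hn₁.1 hn₁.2 (by rw [sup_comm, hprod])
    (by rwa [Subgroup.commutator_comm]) K₂ hK₂
  refine ⟨r₁, r₂, le_antisymm (sup_le hr₁ hr₂) ?_, (Subgroup.commutator_mono le_rfl hK₂A).trans hc₁⟩
  set K := K₁ ⊔ K₂ with hKdef
  have hKn : Hc ≤ normalizer (K : Set G) := fun x hx => CfsgLib.LocalEven.mem_normalizer_of_conj_le (by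
    rw [hKdef, Subgroup.map_sup, CfsgLib.LocalEven.WC.map_conj_eq_of_mem (r₁.2.2.2 hx),
      CfsgLib.LocalEven.WC.map_conj_eq_of_mem (r₂.2.2.2 hx)])
  refine hresle Hc K fun x hx hxo => hmem K Q hQp (hQc.trans hKn) x ?_ hxo
  suffices hle : Hc ≤ K ⊔ Q from hle hx
  have hQn : Hc ≤ normalizer ((K ⊔ Q : Subgroup G) : Set G) := by
    conv_lhs => rw [← hprod]
    have key : ∀ A : Subgroup G, A ≤ Hc → Cfsg.weakClosure Q (A ⊔ Q) ≤ K ⊔ Q → A ≤ normalizer ((K ⊔ Q : Subgroup G) : Set G) := by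
      intro A hA hle a ha
      refine CfsgLib.LocalEven.mem_normalizer_of_conj_le ?_
      rw [Subgroup.map_sup, CfsgLib.LocalEven.WC.map_conj_eq_of_mem (hKn (hA ha))]
      refine sup_le le_sup_left (le_trans (CfsgLib.LocalEven.WC.map_conj_le_weakClosure Q ?_) hle)
      rintro _ ⟨q, hq, rfl⟩
      exact mul_mem (mul_mem (Subgroup.mem_sup_left ha) (Subgroup.mem_sup_right hq)) (inv_mem (Subgroup.mem_sup_left ha))
    exact sup_le (key H₁ hn₁.1 (hw₁.trans (sup_le_sup_right le_sup_left _))) (key H₂ hn₂.1 (hw₂.trans (sup_le_sup_right le_sup_right _)))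
  conv_lhs => rw [hHc]
  refine iSup_le fun g => ?_
  obtain ⟨k, hk, hgk⟩ := CfsgLib.LocalEven.WC.exists_conj_in hwc hQp hQc (hwcl g)
  rw [hgk]
  exact (Subgroup.map_mono le_sup_right).trans (CfsgLib.LocalEven.WC.map_conj_eq_of_mem (hQn hk)).le

end Cfsg.Agent.S2859
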