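import Cfsg.Statements.S2860
import Cfsg.Agent.Lib.LocalEven.WeaklyClosed
import Cfsg.Agent.Lib.LocalEven.CoreOf
import Cfsg.Agent.Lib.LocalEven.PClosed
import Cfsg.Agent.Lib.LocalEven.Kieler
import Cfsg.Agent.Lib.Local.PComp
open Subgroup
open scoped commutatorElement

set_option autoImplicit false
open Cfsg

namespace Cfsg.Agent.S2860

/-- Let Q be a nontrivial large p-subgroup of the finite group H, U a nontrivial elementary abelian p-subgroup of H, and Q ≤ E ≤ N_H(U) with Q not normal in E. Suppose O_p(E/C_E(U)) = 1 and O^p(E)·C_E(U)/C_E(U) is quasisimple. Let E° be the weak closure of Q in E (generated by the conjugates of Q inside E) and E_∘ = O^p(E°). Then O^p(E)·C_E(U) = E_∘·C_E(U); E_∘ is perfect and equals O^p(E_∘); E_∘/C_{E_∘}(U) and E_∘/O_p(E_∘) are quasisimple; and E_∘ = [E_∘, Y] for every p-subgroup Y of E not centralizing U. -/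
theorem result {G : Type*} [Group G] [Finite G] {p : ℕ} [Fact p.Prime] (Q : Subgroup G) (hQp : IsPGroup p ↥Q) (hQ1 : Q ≠ ⊥) (hQ : Cfsg.IsLarge Q) (U : Subgroup G) (hU : Cfsg.IsElementaryAbelian p U) (hU1 : U ≠ ⊥) (E : Subgroup G) (hQE : Q ≤ E) (hEU : E ≤ Subgroup.normalizer ((U : Subgroup G) : Set G)) (hQn : ¬ E ≤ Subgroup.normalizer ((Q : Subgroup G) : Set G)) [hn : ((Subgroup.centralizer ((U : Subgroup G) : Set G)).subgroupOf E).Normal] (hred : Cfsg.pCore p (↥E ⧸ (Subgroup.centralizer ((U : Subgroup G) : Set G)).subgroupOf E) = ⊥) (hqs : Cfsg.IsQuasisimple ↥(((Cfsg.pResidual p ↥E) ⊔ (Subgroup.centralizer ((U : Subgroup G) : Set G)).subgroupOf E).map (QuotientGroup.mk' ((Subgroup.centralizer ((U : Subgroup G) : Set G)).subgroupOf E)))) (Er : Subgroup G) (hEr : Er = ((Cfsg.pResidual p ↥(Cfsg.weakClosure Q E)).map ((Cfsg.weakClosure Q E)).subtype)) [hn2 : ((Subgroup.centralizer ((U : Subgroup G) : Set G)).subgroupOf Er).Normal]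 : ((Cfsg.pResidual p ↥E).map (E).subtype) ⊔ (E ⊓ Subgroup.centralizer ((U : Subgroup G) : Set G)) = Er ⊔ (E ⊓ Subgroup.centralizer ((U : Subgroup G) : Set G)) ∧ ⁅Er, Er⁆ = Er ∧ ((Cfsg.pResidual p ↥Er).map (Er).subtype) = Er ∧ Cfsg.IsQuasisimple (↥Er ⧸ (Subgroup.centralizer ((U : Subgroup G) : Set G)).subgroupOf Er) ∧ Cfsg.IsQuasisimple (↥Er ⧸ Cfsg.pCore p ↥Er) ∧ ∀ Y : Subgroup G, Y ≤ E → IsPGroup p ↥Y → ¬ Y ≤ Subgroup.centralizer ((U : Subgroup G) : Set G) → ⁅Er, Y⁆ = Er := by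
  set C := E ⊓ centralizer (U : Set G) with hC
  set Ec := Cfsg.weakClosure Q E with hEc
  set C' := (centralizer (U : Set G)).subgroupOf E with hC'
  set π := QuotientGroup.mk' C' with hπ
  have hπs : Function.Surjective π := QuotientGroup.mk'_surjective C'
  have hker : ∀ x : ↥E, π x = 1 ↔ (x : G) ∈ centralizer (U : Set G) := fun x => QuotientGroup.eq_one_iff x
  set K := (Cfsg.pResidual p ↥E ⊔ C').map π with hKdef
  have hKres : K = Cfsg.pResidual p (↥E ⧸ C') := by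
    rw [hKdef, Subgroup.map_sup, show C'.map π = ⊥ by rw [Subgroup.map_eq_bot_iff, QuotientGroup.ker_mk'], sup_bot_eq,
      CfsgLib.Transfer.map_pResidual_of_surjective π hπs]
  haveI hKn : K.Normal := by
    have := CfsgLib.Transfer.pResidual_characteristic (G := ↥E ⧸ C') (p := p)
    rw [hKres]
    infer_instance
  have hwc := CfsgLib.LocalEven.WC.large_isWeaklyClosed hQ hQp hQ1
  have hUp : IsPGroup p ↥U := CfsgLib.PGroup.elemAb_isPGroup hU
  have hCQ : C ≤ normalizer (Q : Set G) := inf_le_right.trans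
    (CfsgLib.LocalEven.WC.centralizer_le_normalizer_large hQ hQp hUp hU1 (hQE.trans hEU))
  have hEcE : Ec ≤ E := CfsgLib.LocalEven.WC.weakClosure_le Q E
  have hQEc : Q ≤ Ec := CfsgLib.LocalEven.WC.le_weakClosure hQE
  have hEcn : E ≤ normalizer (Ec : Set G) := CfsgLib.LocalEven.WC.le_normalizer_weakClosure Q E
  let res : Subgroup G → Subgroup G := fun W => (Cfsg.pResidual p ↥W).map W.subtype
  have hresmem : ∀ W : Subgroup G, ∀ x ∈ W, (orderOf x).Coprime p → x ∈ res W := fun W x hx hxo =>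
    ⟨⟨x, hx⟩, CfsgLib.Transfer.mem_pResidual_of_coprime (by rwa [Subgroup.orderOf_mk]), rfl⟩
  have hresle : ∀ W X : Subgroup G, (∀ x ∈ W, (orderOf x).Coprime p → x ∈ X) → res W ≤ X := by
    intro W X h
    rw [Subgroup.map_le_iff_le_comap]
    exact (Subgroup.closure_le _).2 fun x hx => h x x.2 (by rw [Subgroup.orderOf_coe]; exact hx)
  have hmem : ∀ N V : Subgroup G, IsPGroup p ↥V → V ≤ normalizer (N : Set G) → ∀ x ∈ N ⊔ V, (orderOf x).Coprime p → x ∈ N := by
    intro N V hV hVN x hx hxo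
    haveI : (N.subgroupOf (N ⊔ V)).Normal :=
      Subgroup.normal_subgroupOf_of_le_normalizer (sup_le Subgroup.le_normalizer hVN)
    exact CfsgLib.LocalEven.PClosed.mem_of_mem_sup (p := p) (N := N.subgroupOf (N ⊔ V)) (Q := V.subgroupOf (N ⊔ V))
      hV.comap_subtype (x := (⟨x, hx⟩ : ↥(N ⊔ V)))
      (by rw [← Subgroup.subgroupOf_sup le_sup_left le_sup_right]; exact hx)
      (by rwa [Subgroup.orderOf_mk])
  have hErEc : Er ≤ Ec := hEr ▸ Subgroup.map_subtype_le _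
  have hErE : Er ≤ E := hErEc.trans hEcE
  have hErn : E ≤ normalizer (Er : Set G) := by
    intro g hg
    refine CfsgLib.LocalEven.mem_normalizer_of_conj_le ?_
    rw [Subgroup.map_le_iff_le_comap, hEr]
    refine hresle Ec _ fun x hx hxo => hresmem Ec _ ((Subgroup.mem_normalizer_iff.1 (hEcn hg) x).1 hx) ?_
    show (orderOf ((MulAut.conj g) x)).Coprime p
    rwa [MulEquiv.orderOf_eq]
  have hEcconj : ∀ N : Subgroup G, Q ≤ N → Ec ≤ normalizer (N : Set G) → Ec ≤ N := by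
    intro N hQN hN
    conv_lhs => rw [hEc]
    refine iSup_le fun g => ?_
    obtain ⟨k, hk, hgk⟩ := CfsgLib.LocalEven.WC.exists_conj_in hwc hQp hQEc (CfsgLib.LocalEven.WC.map_conj_le_weakClosure Q g.2)
    rw [hgk]
    exact (Subgroup.map_mono hQN).trans (CfsgLib.LocalEven.WC.map_conj_eq_of_mem (hN hk)).le
  -- `Ec = Er Q`
  haveI hErEcn : (Er.subgroupOf Ec).Normal := Subgroup.normal_subgroupOf_of_le_normalizer (hEcE.trans hErn)
  have hEcErQ : Ec ≤ Er ⊔ Q := by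
    set ρ := QuotientGroup.mk' (Er.subgroupOf Ec) with hρ
    have hpg : IsPGroup p (↥Ec ⧸ Er.subgroupOf Ec) := by
      haveI := CfsgLib.Transfer.pResidual_characteristic (G := ↥Ec) (p := p)
      have he : Er.subgroupOf Ec = Cfsg.pResidual p ↥Ec := by
        rw [hEr]
        exact Subgroup.comap_map_eq_self_of_injective Ec.subtype_injective _
      exact IsPGroup.of_equiv CfsgLib.Transfer.isPGroup_quotient_pResidual (QuotientGroup.quotientMulEquivOfEq he.symm)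
    have hmap : (Q.subgroupOf Ec).map ρ = ⊤ := by
      by_contra hne
      obtain ⟨X, hX, hPX⟩ := (eq_top_or_exists_le_coatom ((Q.subgroupOf Ec).map ρ)).resolve_left hne
      haveI : X.Normal := (@Group.normalizerCondition_of_isNilpotent _ _ hpg.isNilpotent).normal_of_coatom X hX
      refine hX.1 ?_
      have hle : Ec ≤ (X.comap ρ).map Ec.subtype := by
        refine hEcconj _ (fun q hq => ⟨⟨q, hQEc hq⟩, hPX ⟨⟨q, hQEc hq⟩, hq, rfl⟩, rfl⟩) fun w hw => ?_
        refine CfsgLib.LocalEven.mem_normalizer_of_conj_le ?_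
        rintro _ ⟨_, ⟨y, hy, rfl⟩, rfl⟩
        exact ⟨⟨w, hw⟩ * y * ⟨w, hw⟩⁻¹, (inferInstance : (X.comap ρ).Normal).conj_mem y hy ⟨w, hw⟩, rfl⟩
      have htop : X.comap ρ = ⊤ := top_le_iff.1 fun y _ => by
        obtain ⟨z, hz, hzy⟩ := hle y.2
        exact Ec.subtype_injective hzy ▸ hz
      rw [← Subgroup.map_comap_eq_self_of_surjective (QuotientGroup.mk'_surjective _) X, htop,
        Subgroup.map_top_of_surjective _ (QuotientGroup.mk'_surjective _)]
    intro w hw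
    obtain ⟨q, hq, hqw⟩ := hmap.ge (Subgroup.mem_top (ρ ⟨w, hw⟩))
    have hk : ((q : G))⁻¹ * w ∈ Er := (QuotientGroup.eq.1 hqw :)
    rw [show w = (q : G) * ((q : G)⁻¹ * w) by group]
    exact mul_mem (Subgroup.mem_sup_right hq) (Subgroup.mem_sup_left hk)
  -- `Er = [Er, Q]`
  have hQEr : Q ≤ normalizer (Er : Set G) := hQE.trans hErn
  have hErQ : ⁅Er, Q⁆ = Er := by
    set D := ⁅Er, Q⁆ with hD
    have hDn : Er ⊔ Q ≤ normalizer (D : Set G) :=
      sup_le (Subgroup.normalizer_commutator_ge_left (H₁ := Er) (H₂ := Q)) (Subgroup.normalizer_commutator_ge_right (H₁ := Er) (H₂ := Q))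
    refine le_antisymm (Subgroup.le_normalizer_iff_commutator_le_left.1 hQEr) ?_
    have hWN : Ec ≤ normalizer ((D ⊔ Q : Subgroup G) : Set G) := by
      refine hEcErQ.trans (sup_le ?_ (le_sup_right.trans Subgroup.le_normalizer))
      intro k hk
      refine CfsgLib.LocalEven.mem_normalizer_of_conj_le ?_
      rw [Subgroup.map_sup, CfsgLib.LocalEven.WC.map_conj_eq_of_mem (hDn (Subgroup.mem_sup_left hk))]
      refine sup_le le_sup_left ?_
      rintro _ ⟨q, hq, rfl⟩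
      show k * q * k⁻¹ ∈ D ⊔ Q
      rw [show k * q * k⁻¹ = ⁅k, q⁆ * q by rw [commutatorElement_def]; group]
      exact Subgroup.mul_mem_sup (Subgroup.commutator_mem_commutator hk hq) hq
    conv_lhs => rw [hEr]
    exact hresle Ec D fun x hx hxo => hmem D Q hQp (le_sup_right.trans hDn) x (hEcconj _ le_sup_right hWN hx) hxo
  -- `C ∩ Ec` is central modulo its core
  set C₁ := C ⊓ Ec with hC₁
  set P := Cfsg.pCoreOf p C₁ with hP
  have hPp : IsPGroup p ↥P := CfsgLib.LocalEven.isPGroup_pCoreOf p C₁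
  have hCn : E ≤ normalizer (C : Set G) := fun g hg => Subgroup.mem_normalizer_iff.2 fun v => and_congr
    (Subgroup.mem_normalizer_iff.1 (Subgroup.le_normalizer hg) v)
    (Subgroup.mem_normalizer_iff.1 (CfsgLib.LocalEven.Oz.mem_normalizer_centralizer (hEU hg)) v)
  have hC₁n : Ec ≤ normalizer (C₁ : Set G) := fun g hg => Subgroup.mem_normalizer_iff.2 fun v => and_congr
    (Subgroup.mem_normalizer_iff.1 (hCn (hEcE hg)) v) (Subgroup.mem_normalizer_iff.1 (Subgroup.le_normalizer hg) v)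
  have hPn : Ec ≤ normalizer (P : Set G) := fun g hg => CfsgLib.LocalEven.mem_normalizer_of_conj_le (by
    rw [hP, ← CfsgLib.LocalEven.pCoreOf_map, CfsgLib.LocalEven.WC.map_conj_eq_of_mem (hC₁n hg)])
  have hPC : P ≤ C₁ := CfsgLib.LocalEven.pCoreOf_le p C₁
  have hcentral : ∀ x ∈ Ec, ∀ c ∈ C₁, x * c * x⁻¹ * c⁻¹ ∈ P := by
    let Z : Subgroup G :=
      { carrier := {x | x ∈ Ec ∧ ∀ d ∈ C₁, x * d * x⁻¹ * d⁻¹ ∈ P}
        one_mem' := ⟨one_mem _, fun d _ => by simp⟩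
        mul_mem' := fun {a b} ha hb => ⟨mul_mem ha.1 hb.1, fun d hd => by
          have h1 := CfsgLib.LocalEven.conj_mem_of_mem_normalizer (hPn ha.1) (hb.2 d hd)
          rw [show a * b * d * (a * b)⁻¹ * d⁻¹ = a * (b * d * b⁻¹ * d⁻¹) * a⁻¹ * (a * d * a⁻¹ * d⁻¹) by group]
          exact mul_mem h1 (ha.2 d hd)⟩
        inv_mem' := fun {a} ha => ⟨inv_mem ha.1, fun d hd => by
          have hd' : a⁻¹ * d * a ∈ C₁ := by
            simpa using CfsgLib.LocalEven.conj_mem_of_mem_normalizer (hC₁n (inv_mem ha.1)) hd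
          have h1 := ha.2 _ hd'
          rw [show a * (a⁻¹ * d * a) * a⁻¹ * (a⁻¹ * d * a)⁻¹ = d * (a⁻¹ * d⁻¹ * a) by group] at h1
          rw [show a⁻¹ * d * a⁻¹⁻¹ * d⁻¹ = (d * (a⁻¹ * d⁻¹ * a))⁻¹ by group]
          exact inv_mem h1⟩ }
    have hQZ : Q ≤ Z := by
      have hDQ : C₁ ⊓ Q ≤ P := CfsgLib.LocalEven.le_pCoreOf inf_le_left (hQp.to_le inf_le_right)
        fun d hd => Subgroup.mem_normalizer_iff.2 fun v => and_congr
          (Subgroup.mem_normalizer_iff.1 (Subgroup.le_normalizer hd) v) (Subgroup.mem_normalizer_iff.1 (hCQ hd.1) v)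
      intro q hq
      refine ⟨hQEc hq, fun d hd => hDQ (Subgroup.mem_inf.2 ⟨?_, ?_⟩)⟩
      · exact mul_mem (CfsgLib.LocalEven.conj_mem_of_mem_normalizer (hC₁n (hQEc hq)) hd) (inv_mem hd)
      · rw [show q * d * q⁻¹ * d⁻¹ = q * (d * q⁻¹ * d⁻¹) by group]
        exact mul_mem hq (CfsgLib.LocalEven.conj_mem_of_mem_normalizer (hCQ hd.1) (inv_mem hq))
    have hZn : Ec ≤ normalizer (Z : Set G) := by
      intro x hx
      refine CfsgLib.LocalEven.mem_normalizer_of_conj_le ?_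
      rintro _ ⟨z, hz, rfl⟩
      show x * z * x⁻¹ ∈ Z
      refine ⟨mul_mem (mul_mem hx hz.1) (inv_mem hx), fun d hd => ?_⟩
      have hd' : x⁻¹ * d * x ∈ C₁ := by
        simpa using CfsgLib.LocalEven.conj_mem_of_mem_normalizer (hC₁n (inv_mem hx)) hd
      have := CfsgLib.LocalEven.conj_mem_of_mem_normalizer (hPn hx) (hz.2 _ hd')
      simpa [mul_assoc] using this
    exact fun x hx => (hEcconj Z hQZ hZn hx).2
  set C₀ := Er ⊓ C with hC₀
  have hC₀₁ : C₀ ≤ C₁ := le_inf inf_le_right (inf_le_left.trans hErEc)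
  -- cancelling `C₀`
  have hcancel : ∀ D X : Subgroup G, Er ≤ normalizer (D : Set G) → X ≤ normalizer (D : Set G) → D ≤ Er → X ≤ Ec →
      ⁅D, X⁆ ≤ D → ⁅Er, X⁆ = Er → Er ≤ D ⊔ C₀ → Er ≤ D := by
    intro D X hED hXD hDE hXE hDX hEX hle
    have hPD : (P ⊓ Er) ≤ normalizer (D : Set G) := inf_le_right.trans hED
    have hle' : Er ≤ D ⊔ (P ⊓ Er) := by
      conv_lhs => rw [← hEX]
      refine Subgroup.commutator_le.2 fun a ha x hx => ?_
      have ha' : a ∈ ((D ⊔ C₀ : Subgroup G) : Set G) := hle ha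
      rw [Subgroup.coe_mul_of_right_le_normalizer_left D C₀ (inf_le_left.trans hED)] at ha'
      obtain ⟨d, hd, c, hc, rfl⟩ := ha'
      have hxn : c * x * c⁻¹ * x⁻¹ ∈ P := by
        have := inv_mem (hcentral x (hXE hx) c (hC₀₁ hc))
        simpa [mul_assoc] using this
      rw [commutatorElement_def,
        show d * c * x * (d * c)⁻¹ * x⁻¹ = (d * (c * x * c⁻¹ * x⁻¹) * d⁻¹) * (d * x * d⁻¹ * x⁻¹) by group]
      refine mul_mem ?_ (Subgroup.mem_sup_left (hDX (commutatorElement_def d x ▸ Subgroup.commutator_mem_commutator hd hx)))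
      have hce : c * x * c⁻¹ * x⁻¹ ∈ Er := by
        have hcE : c ∈ Er := hc.1
        rw [show c * x * c⁻¹ * x⁻¹ = c * (x * c⁻¹ * x⁻¹) by group]
        exact mul_mem hcE (CfsgLib.LocalEven.conj_mem_of_mem_normalizer (hErn (hEcE (hXE hx))) (inv_mem hcE))
      exact mul_mem (mul_mem (Subgroup.mem_sup_left hd) (Subgroup.mem_sup_right (Subgroup.mem_inf.2 ⟨hxn, hce⟩)))
        (inv_mem (Subgroup.mem_sup_left hd))
    conv_lhs => rw [hEr]
    refine hresle Ec D fun x hx hxo => hmem D (P ⊓ Er) (hPp.to_le inf_le_left) hPD x (hle' ?_) hxo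
    exact hEr ▸ hresmem Ec x hx hxo
  -- a `p`-subgroup centralizing `K` is trivial
  have hptriv : ∀ Y : Subgroup (↥E ⧸ C'), IsPGroup p ↥Y → Y ≤ centralizer (K : Set (↥E ⧸ C')) → Y = ⊥ := by
    intro Y hY hYK
    obtain ⟨T, hT⟩ := hY.exists_le_sylow
    set D := (T : Subgroup (↥E ⧸ C')) ⊓ centralizer (K : Set (↥E ⧸ C')) with hD
    haveI : D.Normal := by
      rw [← Subgroup.normalizer_eq_top_iff, eq_top_iff,
        ← CfsgLib.Transfer.pResidual_sup_sylow T, ← hKres]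
      refine sup_le (fun k hk => Subgroup.centralizer_le_normalizer _ ?_) fun t ht => ?_
      · exact Subgroup.mem_centralizer_iff.2 fun d hd => (Subgroup.mem_centralizer_iff.1 hd.2 k hk).symm
      · exact Subgroup.mem_normalizer_iff.2 fun v => and_congr
          (Subgroup.mem_normalizer_iff.1 (Subgroup.le_normalizer ht) v)
          (Subgroup.mem_normalizer_iff.1 (show t ∈ normalizer (centralizer (K : Set (↥E ⧸ C')) : Set (↥E ⧸ C')) by
            rw [Subgroup.normalizer_eq_top]; trivial) v)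
    have h1 : D ≤ Cfsg.pCore p (↥E ⧸ C') := CfsgLib.Cores.le_pCore (T.2.to_le inf_le_left)
    rw [hred] at h1
    exact le_bot_iff.1 ((le_inf hT hYK).trans h1)
  haveI : Group.IsPerfect ↥K := hqs.1
  have hKK : ⁅K, K⁆ = K := CfsgLib.Cores.commutator_self_of_isQuasisimple hqs
  -- a subgroup moving `K` only into its centre centralizes it
  have hhom : ∀ Y : Subgroup (↥E ⧸ C'), (∀ k ∈ K, ∀ y ∈ Y, ∀ l ∈ K, l * (k * y * k⁻¹ * y⁻¹) = (k * y * k⁻¹ * y⁻¹) * l) →
      Y ≤ centralizer (K : Set (↥E ⧸ C')) := by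
    intro Y h y hy
    let φ : ↥K →* ↥(Subgroup.center ↥K) := MonoidHom.mk' (fun k => ⟨⟨(k : ↥E ⧸ C') * y * (k : ↥E ⧸ C')⁻¹ * y⁻¹, by
        rw [show (k : ↥E ⧸ C') * y * (k : ↥E ⧸ C')⁻¹ * y⁻¹ = (k : ↥E ⧸ C') * (y * (k : ↥E ⧸ C')⁻¹ * y⁻¹) by group]
        exact mul_mem k.2 (hKn.conj_mem _ (inv_mem k.2) y)⟩,
      Subgroup.mem_center_iff.2 fun l => Subtype.ext (h k k.2 y hy l l.2)⟩) fun a b => by
      apply Subtype.ext; apply Subtype.ext
      show (a : ↥E ⧸ C') * b * y * ((a : ↥E ⧸ C') * b)⁻¹ * y⁻¹ =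
        ((a : ↥E ⧸ C') * y * (a : ↥E ⧸ C')⁻¹ * y⁻¹) * ((b : ↥E ⧸ C') * y * (b : ↥E ⧸ C')⁻¹ * y⁻¹)
      have hb := h b b.2 y hy a a.2
      rw [show (a : ↥E ⧸ C') * b * y * ((a : ↥E ⧸ C') * b)⁻¹ * y⁻¹ =
        (a : ↥E ⧸ C') * ((b : ↥E ⧸ C') * y * (b : ↥E ⧸ C')⁻¹ * y⁻¹) * (y * (a : ↥E ⧸ C')⁻¹ * y⁻¹) by group, hb]
      have hc := h b b.2 y hy ((a : ↥E ⧸ C') * y * (a : ↥E ⧸ C')⁻¹ * y⁻¹) (by
        rw [show (a : ↥E ⧸ C') * y * (a : ↥E ⧸ C')⁻¹ * y⁻¹ = (a : ↥E ⧸ C') * (y * (a : ↥E ⧸ C')⁻¹ * y⁻¹) by group]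
        exact mul_mem a.2 (hKn.conj_mem _ (inv_mem a.2) y))
      rw [hc]
      group
    have hφ : ∀ k : ↥K, φ k = 1 := by
      intro k
      have hk : k ∈ commutator ↥K := by rw [Group.IsPerfect.commutator_eq_top]; trivial
      refine (Subgroup.commutator_le.2 fun a _ b _ => ?_ : commutator ↥K ≤ φ.ker) hk
      rw [MonoidHom.mem_ker, map_commutatorElement, commutatorElement_eq_one_iff_mul_comm]
      exact Subtype.ext (Subgroup.mem_center_iff.1 (φ b).2 _)
    refine Subgroup.mem_centralizer_iff.2 fun k hk => ?_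
    have := congrArg (fun u : ↥(Subgroup.center ↥K) => ((u : ↥K) : ↥E ⧸ C')) (hφ ⟨k, hk⟩)
    exact mul_inv_eq_iff_eq_mul.1 (mul_inv_eq_one.1 this)
  have hdich : ∀ N : Subgroup (↥E ⧸ C'), K ≤ normalizer (N : Set (↥E ⧸ C')) →
      K ≤ N ∨ ∀ x ∈ N ⊓ K, ∀ l ∈ K, l * x = x * l := by
    intro N hN
    haveI : (N.subgroupOf K).Normal := ⟨fun n hn g =>
      Subgroup.mem_subgroupOf.2 (CfsgLib.LocalEven.conj_mem_of_mem_normalizer (hN g.2) hn)⟩
    rcases CfsgLib.Cores.normal_eq_top_or_le_center_of_isQuasisimple hqs (N.subgroupOf K) with h | h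
    · exact Or.inl (Subgroup.subgroupOf_eq_top.1 h)
    · exact Or.inr fun x hx l hl => congrArg Subtype.val
        (Subgroup.mem_center_iff.1 (h (show (⟨x, hx.2⟩ : ↥K) ∈ N.subgroupOf K from hx.1)) ⟨l, hl⟩)
  -- images
  set Erb := (Er.subgroupOf E).map π with hErb
  set Ecb := (Ec.subgroupOf E).map π with hEcb
  have hErb_le : Erb ≤ K := by
    rintro _ ⟨x, hx, rfl⟩
    have hle : res Ec ≤ (K.comap π).map E.subtype := hresle Ec _ fun y hy hyo => by
      refine ⟨⟨y, hEcE hy⟩, ?_, rfl⟩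
      refine Subgroup.mem_map_of_mem π (Subgroup.mem_sup_left (CfsgLib.Transfer.mem_pResidual_of_coprime ?_))
      rwa [Subgroup.orderOf_mk]
    obtain ⟨z, hz, hzx⟩ := hle (hEr.le hx)
    exact E.subtype_injective hzx ▸ hz
  have hErbeq : Erb = K := by
    refine le_antisymm hErb_le ?_
    haveI : (Ec.subgroupOf E).Normal := Subgroup.normal_subgroupOf_of_le_normalizer hEcn
    haveI : (Er.subgroupOf E).Normal := Subgroup.normal_subgroupOf_of_le_normalizer hErn
    haveI : Ecb.Normal := Subgroup.Normal.map inferInstance π hπs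
    haveI : Erb.Normal := Subgroup.Normal.map inferInstance π hπs
    rcases hdich Ecb (by rw [Subgroup.normalizer_eq_top]; exact le_top) with h | h
    · rw [hKres]
      refine (Subgroup.closure_le _).2 fun x hx => ?_
      have hxK : x ∈ K := hKres ▸ CfsgLib.Transfer.mem_pResidual_of_coprime hx
      refine CfsgLib.LocalEven.PClosed.mem_of_mem_sup (N := Erb) ((hQp.comap_subtype (K := E)).map π) ?_ hx
      obtain ⟨e, he, rfl⟩ := h hxK
      have he' : (e : G) ∈ ((Er ⊔ Q : Subgroup G) : Set G) := hEcErQ he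
      rw [Subgroup.coe_mul_of_right_le_normalizer_left Er Q hQEr] at he'
      obtain ⟨r, hr, q, hq, hrq⟩ := he'
      rw [show e = ⟨r, hErE hr⟩ * ⟨q, hQE hq⟩ from Subtype.ext hrq.symm, map_mul]
      exact Subgroup.mul_mem_sup ⟨⟨r, hErE hr⟩, hr, rfl⟩ ⟨⟨q, hQE hq⟩, hq, rfl⟩
    · exfalso
      refine hQn ?_
      have hQb := hptriv _ ((hQp.comap_subtype (K := E)).map π) (hhom _ fun k hk y hy l hl => h _ (Subgroup.mem_inf.2 ⟨?_, ?_⟩) l hl)
      · have hQC : Q ≤ C := fun q hq => Subgroup.mem_inf.2 ⟨hQE hq, (hker ⟨q, hQE hq⟩).1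
          (Subgroup.mem_bot.1 (hQb.le ⟨⟨q, hQE hq⟩, hq, rfl⟩))⟩
        intro e he
        refine CfsgLib.LocalEven.mem_normalizer_of_conj_le (le_of_eq (CfsgLib.LocalEven.WC.eq_of_normalize hwc hQp ?_))
        exact ((Subgroup.map_mono hQC).trans (CfsgLib.LocalEven.WC.map_conj_eq_of_mem (hCn he)).le).trans hCQ
      · obtain ⟨q, hq, rfl⟩ := hy
        have hqE : π q ∈ Ecb := ⟨q, hQEc hq, rfl⟩
        exact mul_mem ((inferInstance : Ecb.Normal).conj_mem _ hqE k) (inv_mem hqE)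
      · rw [show k * y * k⁻¹ * y⁻¹ = k * (y * k⁻¹ * y⁻¹) by group]
        exact mul_mem hk (hKn.conj_mem _ (inv_mem hk) y)
  have hErP : ⁅Er, Er⁆ = Er := by
    refine le_antisymm (Subgroup.commutator_le_self Er) ?_
    set D := ⁅Er, Er⁆ with hD
    have hDE : D ≤ Er := Subgroup.commutator_le_self Er
    have hnD : E ≤ normalizer (D : Set G) := fun g hg => CfsgLib.LocalEven.mem_normalizer_of_conj_le (by
      rw [hD, Subgroup.map_commutator, CfsgLib.LocalEven.WC.map_conj_eq_of_mem (hErn hg)])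
    refine hcancel D Q (hErE.trans hnD) (hQE.trans hnD) hDE hQEc
      (Subgroup.le_normalizer_iff_commutator_le_left.1 (hQE.trans hnD)) hErQ ?_
    intro x hx
    have hxK : π ⟨x, hErE hx⟩ ∈ ⁅Erb, Erb⁆ := by
      rw [hErbeq, hKK]
      exact hErb_le ⟨⟨x, hErE hx⟩, hx, rfl⟩
    rw [hErb, ← Subgroup.map_commutator] at hxK
    obtain ⟨d, hd, hdx⟩ := hxK
    have hdD : (d : G) ∈ D := by
      have h1 : (⁅Er.subgroupOf E, Er.subgroupOf E⁆).map E.subtype ≤ D := by
        rw [Subgroup.map_commutator, Subgroup.map_subgroupOf_eq_of_le hErE]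
      exact h1 ⟨d, hd, rfl⟩
    have hc : (d : G)⁻¹ * x ∈ centralizer (U : Set G) := (QuotientGroup.eq.1 hdx :)
    rw [show x = (d : G) * ((d : G)⁻¹ * x) by group]
    exact Subgroup.mul_mem_sup hdD (Subgroup.mem_inf.2 ⟨mul_mem (inv_mem (hDE hdD)) hx,
      Subgroup.mem_inf.2 ⟨mul_mem (inv_mem d.2) (hErE hx), hc⟩⟩)
  -- `O^p(Er) = Er`
  have hresEr : res Er = Er := by
    refine le_antisymm (Subgroup.map_subtype_le _) ?_
    conv_lhs => rw [hEr]
    exact hresle Ec _ fun x hx hxo => hresmem Er x (hEr ▸ hresmem Ec x hx hxo) hxo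
  -- the quotient by the centralizer
  let f : ↥Er →* ↥K := (π.comp (Subgroup.inclusion hErE)).codRestrict K fun x => hErb_le ⟨⟨x, hErE x.2⟩, x.2, rfl⟩
  have hfs : Function.Surjective f := by
    rintro ⟨y, hy⟩
    obtain ⟨x, hx, rfl⟩ := hErbeq.ge hy
    exact ⟨⟨x, hx⟩, Subtype.ext rfl⟩
  have hfk : f.ker = (centralizer (U : Set G)).subgroupOf Er := by
    ext x
    exact ⟨fun h => (hker ⟨x, hErE x.2⟩).1 (congrArg Subtype.val h), fun h => Subtype.ext ((hker ⟨x, hErE x.2⟩).2 h)⟩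
  have hqsC : Cfsg.IsQuasisimple (↥Er ⧸ (centralizer (U : Set G)).subgroupOf Er) :=
    CfsgLib.Cores.isQuasisimple_of_equiv ((QuotientGroup.quotientKerEquivOfSurjective f hfs).symm.trans
      (QuotientGroup.quotientMulEquivOfEq hfk)) hqs
  -- the core of `Er` centralizes `U`
  have hOC : Cfsg.pCore p ↥Er ≤ (centralizer (U : Set G)).subgroupOf Er := by
    intro x hx
    refine (hker ⟨x, hErE x.2⟩).1 ?_
    haveI : (Er.subgroupOf E).Normal := Subgroup.normal_subgroupOf_of_le_normalizer hErn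
    have h1 : (⟨x, hErE x.2⟩ : ↥E) ∈ Cfsg.pCore p ↥E := by
      have hsub : (Cfsg.pCoreOf p Er) ≤ Cfsg.pCoreOf p E := CfsgLib.LocalEven.le_pCoreOf
        ((CfsgLib.LocalEven.pCoreOf_le p Er).trans hErE) (CfsgLib.LocalEven.isPGroup_pCoreOf p Er)
        fun g hg => CfsgLib.LocalEven.mem_normalizer_of_conj_le (by
          rw [← CfsgLib.LocalEven.pCoreOf_map, CfsgLib.LocalEven.WC.map_conj_eq_of_mem (hErn hg)])
      obtain ⟨z, hz, hzx⟩ := hsub ⟨x, hx, rfl⟩
      rwa [E.subtype_injective (show E.subtype z = E.subtype ⟨x, hErE x.2⟩ from hzx)] at hz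
    have h2 : π ⟨x, hErE x.2⟩ ∈ Cfsg.pCore p (↥E ⧸ C') := CfsgLib.Cores.map_pCore_le π hπs ⟨_, h1, rfl⟩
    rw [hred] at h2
    exact Subgroup.mem_bot.1 h2
  refine ⟨?_, hErP, hresEr, hqsC, ?_, fun Y hYE hYp hYU => ?_⟩
  · refine le_antisymm (sup_le ?_ le_sup_right) (sup_le ?_ le_sup_right)
    · refine hresle E _ fun x hx hxo => ?_
      have hxK : π ⟨x, hx⟩ ∈ Erb := hErbeq ▸ Subgroup.mem_map_of_mem π (Subgroup.mem_sup_left
        (CfsgLib.Transfer.mem_pResidual_of_coprime (by rwa [Subgroup.orderOf_mk])))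
      obtain ⟨r, hr, hrx⟩ := hxK
      have hc : (r : G)⁻¹ * x ∈ centralizer (U : Set G) := (QuotientGroup.eq.1 hrx :)
      rw [show x = (r : G) * ((r : G)⁻¹ * x) by group]
      exact Subgroup.mul_mem_sup hr (Subgroup.mem_inf.2 ⟨mul_mem (inv_mem r.2) hx, hc⟩)
    · conv_lhs => rw [hEr]
      exact hresle Ec _ fun x hx hxo => Subgroup.mem_sup_left (hresmem E x (hEcE hx) hxo)
  · set O := Cfsg.pCore p ↥Er with hO
    have hperf : Group.IsPerfect ↥Er := Subgroup.isPerfect_iff.2 hErP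
    have hperf' : Group.IsPerfect (↥Er ⧸ O) :=
      Group.IsPerfect.ofSurjective (f := QuotientGroup.mk' O) (QuotientGroup.mk'_surjective O)
    refine CfsgLib.Local.isQuasisimple_of_central_quotient hperf'
      (((centralizer (U : Set G)).subgroupOf Er).map (QuotientGroup.mk' O)) ?_
      (CfsgLib.Cores.isQuasisimple_of_equiv (QuotientGroup.quotientQuotientEquivQuotient O _ hOC).symm hqsC)
    rintro _ ⟨c, hc, rfl⟩
    refine Subgroup.mem_center_iff.2 fun g => ?_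
    obtain ⟨g, rfl⟩ := QuotientGroup.mk'_surjective O g
    have hc₁ : (c : G) ∈ C₁ := hC₀₁ (Subgroup.mem_inf.2 ⟨c.2, Subgroup.mem_inf.2 ⟨hErE c.2, hc⟩⟩)
    have hcomm : g * c * g⁻¹ * c⁻¹ ∈ O := by
      have hN : P.subgroupOf Er ≤ O := by
        haveI : (P.subgroupOf Er).Normal := ⟨fun n hn g =>
          Subgroup.mem_subgroupOf.2 (CfsgLib.LocalEven.conj_mem_of_mem_normalizer (hPn (hErEc g.2)) hn)⟩
        exact CfsgLib.Cores.le_pCore (N := P.subgroupOf Er) hPp.comap_subtype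
      exact hN (Subgroup.mem_subgroupOf.2 (hcentral g (hErEc g.2) c hc₁))
    have h1 : (QuotientGroup.mk' O) (g * c * g⁻¹ * c⁻¹) = 1 := (QuotientGroup.eq_one_iff _).2 hcomm
    rwa [map_mul, map_mul, map_mul, map_inv, map_inv, mul_inv_eq_one, mul_inv_eq_iff_eq_mul] at h1
  · set D := ⁅Er, Y⁆ with hD
    have hDE : D ≤ Er := Subgroup.le_normalizer_iff_commutator_le_left.1 (hYE.trans hErn)
    refine le_antisymm hDE ?_
    have hErD : Er ≤ normalizer (D : Set G) := Subgroup.normalizer_commutator_ge_left (H₁ := Er) (H₂ := Y)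
    refine hcancel D Er hErD hErD hDE hErEc (Subgroup.le_normalizer_iff_commutator_le_left.1 hErD) hErP ?_
    set Db := (D.subgroupOf E).map π with hDb
    set Yb := (Y.subgroupOf E).map π with hYb
    have hDYb : ⁅K, Yb⁆ ≤ Db := by
      rw [← hErbeq, hErb, hYb, hDb, ← Subgroup.map_commutator]
      refine Subgroup.map_mono (Subgroup.map_le_iff_le_comap.1 ?_)
      rw [Subgroup.map_commutator, Subgroup.map_subgroupOf_eq_of_le hErE, Subgroup.map_subgroupOf_eq_of_le hYE]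
    have hKN : K ≤ normalizer (Db : Set (↥E ⧸ C')) := by
      rw [← hErbeq]
      refine (Subgroup.map_mono (f := π) ?_).trans (Subgroup.le_normalizer_map _)
      intro x hx
      exact Subgroup.mem_normalizer_iff.2 fun v => Subgroup.mem_normalizer_iff.1 (hErD (show (x : G) ∈ Er from hx)) (v : G)
    rcases hdich Db hKN with h | h
    · intro x hx
      obtain ⟨d, hd, hdx⟩ := h (hErb_le ⟨⟨x, hErE hx⟩, hx, rfl⟩)
      have hc : (d : G)⁻¹ * x ∈ centralizer (U : Set G) := (QuotientGroup.eq.1 hdx :)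
      rw [show x = (d : G) * ((d : G)⁻¹ * x) by group]
      exact Subgroup.mul_mem_sup hd (Subgroup.mem_inf.2 ⟨mul_mem (inv_mem (hDE hd)) hx,
        Subgroup.mem_inf.2 ⟨mul_mem (inv_mem d.2) (hErE hx), hc⟩⟩)
    · exfalso
      refine hYU fun y hy => (hker ⟨y, hYE hy⟩).1 ?_
      have hb := hptriv Yb ((hYp.comap_subtype (K := E)).map π) (hhom Yb fun k hk y hy l hl => h _ (Subgroup.mem_inf.2
        ⟨hDYb (commutatorElement_def k y ▸ Subgroup.commutator_mem_commutator hk hy), by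
          rw [show k * y * k⁻¹ * y⁻¹ = k * (y * k⁻¹ * y⁻¹) by group]
          exact mul_mem hk (hKn.conj_mem _ (inv_mem hk) y)⟩) l hl)
      exact Subgroup.mem_bot.1 (hb.le ⟨⟨y, hYE hy⟩, hy, rfl⟩)

end Cfsg.Agent.S2860
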