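import Cfsg.Statements.S2861
import Cfsg.Agent.Lib.LocalEven.LLemmaFrak

set_option autoImplicit false
open Cfsg

namespace Cfsg.Agent.S2861

/-- Standing hypotheses: G a finite group, S a Sylow p-subgroup, Q a nontrivial large p-subgroup of G contained in S, M a subgroup containing S with the basic property (M ∈ 𝔐_G(S)); Y_M the largest p-reduced normal subgroup of M and M† = M·C_G(Y_M). Let L ∈ 𝔏_G(Y_M) (L ∈ 𝔏_G(Y_M): Y_M ≤ L; O_p(L) is the normal closure in L of Y_M ∩ O_p(L) and normalizes Y_M; L is Y_M-minimal of characteristic p with N_L(Y_M) its unique maximal subgroup over Y_M; and L/O_p(L) ≅ SL₂(q) with q = |Y_M : Y_M ∩ O_p(L)|, or p = 2 and L/O_p(L) is a Suzuki group Sz(q) or dihedral of order 2r, r an odd prime) and A = O_p(L). Then Y_M·A/A is the unique nontrivial elementary abelian normal p-subgroup of N_L(Y_M)/A. -/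
theorem result {G : Type*} [Group G] [Finite G] {p : ℕ} [Fact p.Prime] (S : Sylow p G) (Q : Subgroup G) (hQp : IsPGroup p ↥Q) (hQ1 : Q ≠ ⊥) (hQS : Q ≤ (S : Subgroup G)) (hQ : Cfsg.IsLarge Q) (M : Subgroup G) (hSM : (S : Subgroup G) ≤ M) (hM : Cfsg.IsInFrakM p M) (L : Subgroup G) (hL : Cfsg.IsInFrakL p M L) (NL : Subgroup G) (hNL : NL = L ⊓ Subgroup.normalizer (((Cfsg.largestPReducedOf p M) : Subgroup G) : Set G)) [hn : (((Cfsg.pCoreOf p L)).subgroupOf NL).Normal] : let Ybar : Subgroup (↥NL ⧸ ((Cfsg.pCoreOf p L)).subgroupOf NL) := (((Cfsg.largestPReducedOf p M)).subgroupOf NL).map (QuotientGroup.mk' (((Cfsg.pCoreOf p L)).subgroupOf NL)); Ybar ≠ ⊥ ∧ Ybar.Normal ∧ Cfsg.IsElementaryAbelian p Ybar ∧ ∀ (V : Subgroup (↥NL ⧸ ((Cfsg.pCoreOf p L)).subgroupOf NL)), V.Normal → Cfsg.IsElementaryAbelian p V → V ≠ ⊥ → V = Ybar := by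
  intro Ybar
  set Y₀ := Cfsg.largestPReducedOf p M with hY₀
  have hYL : Y₀ ≤ L := hL.1
  set Y : Subgroup ↥L := Y₀.subgroupOf L with hY
  have hyp : CfsgLib.LocalEven.LLemma.Hyp Y (Cfsg.pCore p ↥L) := CfsgLib.LocalEven.LLemma.hyp_of_frakL hL
  obtain ⟨Q', iQ, f, hf, hker, -, huniq, hZne⟩ := CfsgLib.LocalEven.LLemma.rankOne_of_frakL hL
  have hel : Cfsg.IsElementaryAbelian p Y₀ :=
    CfsgLib.PGroup.elemAb_map
      (CfsgLib.LocalEven.PRed.elemAb (CfsgLib.LocalEven.PRed.isPReducedNormal_largestPReduced (p := p) (L := ↥M))) M.subtype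
  have hNLL : NL ≤ L := hNL ▸ inf_le_left
  have hYN : Y₀ ≤ NL := hNL ▸ le_inf hYL Subgroup.le_normalizer
  set N₀ := ((Cfsg.pCoreOf p L)).subgroupOf NL with hN₀
  set φ := f.comp (Subgroup.inclusion hNLL) with hφ
  have hφker : φ.ker = N₀ := by
    ext x
    have h1 : Subgroup.inclusion hNLL x ∈ f.ker ↔ (x : G) ∈ Cfsg.pCoreOf p L := by
      rw [hker, ← CfsgLib.LocalEven.subgroupOf_pCoreOf p L]
      rfl
    exact h1
  set ψ := QuotientGroup.lift N₀ φ hφker.ge with hψ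
  have hψi : Function.Injective ψ := by
    rw [← MonoidHom.ker_eq_bot_iff, QuotientGroup.ker_lift, hφker, QuotientGroup.map_mk'_self]
  have hψmk : ∀ x, ψ (QuotientGroup.mk' N₀ x) = φ x := fun x => QuotientGroup.lift_mk' N₀ _ x
  -- the image of `NL` is the normalizer of the image of `Y`
  have hNmem : ∀ l : ↥L, l ∈ Subgroup.normalizer (Y : Set ↥L) ↔ (l : G) ∈ NL := by
    intro l
    rw [hNL, Subgroup.mem_inf]
    refine ⟨fun h => ⟨l.2, ?_⟩, fun h => ?_⟩
    · rw [Subgroup.mem_normalizer_iff]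
      intro z
      constructor
      · intro hz
        exact (Subgroup.mem_normalizer_iff.1 h ⟨z, hYL hz⟩).1 hz
      · intro hz
        have := (Subgroup.mem_normalizer_iff''.1 h ⟨l * z * (l : G)⁻¹, hYL hz⟩).1 hz
        have h' := Subgroup.mem_subgroupOf.1 this
        simpa only [Subgroup.coe_mul, InvMemClass.coe_inv, show (l : G)⁻¹ * (l * z * (l : G)⁻¹) * l = z by group] using h'
    · rw [Subgroup.mem_normalizer_iff]
      intro z
      exact Subgroup.mem_normalizer_iff.1 h.2 z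
  have hrange : ∀ g, g ∈ Subgroup.normalizer ((Y.map f : Subgroup Q') : Set Q') ↔ ∃ x, φ x = g := by
    intro g
    obtain ⟨l, rfl⟩ := hf g
    rw [hyp.map_mem_normalizer_iff hf hker]
    constructor
    · intro hl
      exact ⟨⟨l, (hNmem l).1 hl⟩, rfl⟩
    · rintro ⟨x, hx⟩
      have h1 : (Subgroup.inclusion hNLL x) ∈ Subgroup.normalizer (Y : Set ↥L) := (hNmem _).2 x.2
      have h2 : (Subgroup.inclusion hNLL x)⁻¹ * l ∈ Cfsg.pCore p ↥L := by
        rw [← hker, MonoidHom.mem_ker, map_mul, map_inv, ← hx]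
        simp [hφ]
      have := mul_mem h1 (hyp.AY h2)
      rwa [mul_inv_cancel_left] at this
  have hZ : Ybar.map ψ = Y.map f := by
    ext z
    constructor
    · rintro ⟨_, ⟨x, hx, rfl⟩, rfl⟩
      exact ⟨Subgroup.inclusion hNLL x, hx, (hψmk x).symm⟩
    · rintro ⟨y, hy, rfl⟩
      exact ⟨_, ⟨⟨y, hYN hy⟩, hy, rfl⟩, hψmk ⟨y, hYN hy⟩⟩
  have hYn : Ybar.Normal := by
    refine Subgroup.Normal.map ⟨fun y hy g => ?_⟩ _ (QuotientGroup.mk'_surjective _)
    have hg : (g : G) ∈ Subgroup.normalizer (Y₀ : Set G) := (hNL.le g.2).2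
    exact (Subgroup.mem_normalizer_iff.1 hg _).1 hy
  refine ⟨fun e => hZne ?_, hYn, ?_, ?_⟩
  · rw [← hZ, e, Subgroup.map_bot]
  · refine CfsgLib.PGroup.elemAb_map ⟨⟨⟨fun a b => Subtype.ext (Subtype.ext ?_)⟩⟩, fun a ha => Subtype.ext ?_⟩ _
    · exact CfsgLib.PGroup.elemAb_comm hel a.2 b.2
    · exact hel.2 _ ha
  · intro V hVn hVe hVne
    apply Subgroup.map_injective hψi
    rw [hZ]
    refine huniq _ ?_ ?_ ?_ ?_
    · rintro _ ⟨v, hv, rfl⟩
      obtain ⟨x, rfl⟩ := QuotientGroup.mk'_surjective N₀ v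
      exact (hrange _).2 ⟨x, (hψmk x).symm⟩
    · rintro g hg _ ⟨v, hv, rfl⟩
      obtain ⟨x, rfl⟩ := (hrange g).1 hg
      refine ⟨QuotientGroup.mk' N₀ x * v * (QuotientGroup.mk' N₀ x)⁻¹, hVn.conj_mem v hv _, ?_⟩
      rw [map_mul, map_mul, map_inv, hψmk]
    · rintro _ ⟨v, hv, rfl⟩
      rw [← map_pow, hVe.2 v hv, map_one]
    · exact fun e => hVne ((Subgroup.map_eq_bot_iff_of_injective V hψi).1 e)

end Cfsg.Agent.S2861
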