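import Cfsg.Statements.S2862
import Cfsg.Agent.Lib.LocalEven.AsymL.Main
import Cfsg.Agent.S2845

set_option autoImplicit false
open Cfsg

namespace Cfsg.Agent.S2862

/-- Standing hypotheses: G a finite group, S a Sylow p-subgroup, Q a nontrivial large p-subgroup of G contained in S, M a subgroup containing S with the basic property (M ∈ 𝔐_G(S)); Y_M the largest p-reduced normal subgroup of M and M† = M·C_G(Y_M). Suppose Y_M is char-p-tall and asymmetric in G, H ∈ ℌ_G(O_p(M)), and L is minimal among the subgroups of H containing Y_M with Y_M ≰ O_p(L). Then H = ⟨L, O_p(M)⟩ = ⟨hY_Mh⁻¹, O_p(M)⟩ for every h ∈ L outside N_L(Y_M); L is Y_M-minimal and of characteristic p, with N_L(Y_M) the unique maximal subgroup of L containing Y_M; [V, O^p(L)] ≠ 1 for every noncentral chief factor V/W of H inside O_p(H) (that is, O^p(L) does not act trivially on V/W); and the normal closure of O_p(L) ∩ Y_M in L lies in O_p(H). -/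
theorem result {G : Type*} [Group G] [Finite G] {p : ℕ} [Fact p.Prime] (S : Sylow p G) (Q : Subgroup G) (hQp : IsPGroup p ↥Q) (hQ1 : Q ≠ ⊥) (hQS : Q ≤ (S : Subgroup G)) (hQ : Cfsg.IsLarge Q) (M : Subgroup G) (hSM : (S : Subgroup G) ≤ M) (hM : Cfsg.IsInFrakM p M) (htall : Cfsg.IsCharPTall p (Cfsg.largestPReducedOf p M)) (hasym : ¬ Cfsg.IsSymmetricIn (Cfsg.largestPReducedOf p M)) (H : Subgroup G) (hH : Cfsg.IsInFrakH p M H) (L : Subgroup G) (hLH : L ≤ H) (hYL : (Cfsg.largestPReducedOf p M) ≤ L) (hYO : ¬ (Cfsg.largestPReducedOf p M) ≤ (Cfsg.pCoreOf p L)) (hmin : ∀ L' : Subgroup G, L' ≤ L → (Cfsg.largestPReducedOf p M) ≤ L' → ¬ (Cfsg.largestPReducedOf p M) ≤ (Cfsg.pCoreOf p L') → L' = L) : (L ⊔ (Cfsg.pCoreOf p M) = H ∧ ∀ h ∈ L, h ∉ Subgroup.normalizer (((Cfsg.largestPReducedOf p M) : Subgroup G) : Set G) → (((Cfsg.largestPReducedOf p M) : Subgroup G).map (MulAut.conj (h : G)).toMonoidHom) ⊔ (Cfsg.pCoreOf p M) = H) ∧ (Cfsg.IsMinimalOver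 (((Cfsg.largestPReducedOf p M)).subgroupOf L) ∧ Subgroup.centralizer (Cfsg.pCore p ↥L : Set ↥L) ≤ Cfsg.pCore p ↥L ∧ L ⊓ Subgroup.normalizer (((Cfsg.largestPReducedOf p M) : Subgroup G) : Set G) < L ∧ ∀ X : Subgroup G, (Cfsg.largestPReducedOf p M) ≤ X → X < L → X ≤ L ⊓ Subgroup.normalizer (((Cfsg.largestPReducedOf p M) : Subgroup G) : Set G)) ∧ (∀ V W' : Subgroup G, V ≤ (Cfsg.pCoreOf p H) → H ≤ Subgroup.normalizer ((V : Subgroup G) : Set G) → H ≤ Subgroup.normalizer ((W' : Subgroup G) : Set G) → W' < V → (∀ Z' : Subgroup G, H ≤ Subgroup.normalizer ((Z' : Subgroup G) : Set G) → W' ≤ Z' → Z' ≤ V → Z' = W' ∨ Z' = V) → ¬ ⁅V, H⁆ ≤ W' → ¬ ⁅V, ((Cfsg.pResidual p ↥L).map (L).subtype)⁆ ≤ W') ∧ (Subgroup.normalClosure (((((Cfsg.pCoreOf p L) ⊓ (Cfsg.largestPReducedOf p M)).subgroupOf L : Subgroup ↥L)) : Set ↥L)).map L.subtype ≤ (Cfsg.pCoreOf p H) := by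
  have hpc : CfsgLib.LocalEven.FrakM.ParabolicCharP p G := fun R hR hR1 =>
    ⟨hR1, (Cfsg.Agent.S2845.result Q hQp hQ1 hQ).2.1 R hR hR1⟩
  have c : CfsgLib.LocalEven.AsymL.Ctx p S M H L := ⟨hSM, hM, hasym, hpc, hH, hLH, hYL, hYO, hmin⟩
  obtain ⟨g, hg, hgen⟩ := c.exists_gen
  set Y := Cfsg.largestPReducedOf p M with hY
  set NY := Subgroup.normalizer (Y : Set G) with hNY
  have hgY : g ∉ NY := fun hn => hYO (by
    rw [CfsgLib.LocalEven.WC.map_conj_eq_of_mem hn, sup_idem] at hgen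
    exact CfsgLib.LocalEven.le_pCoreOf hYL c.pY (hgen.trans Subgroup.le_normalizer))
  have hlt : L ⊓ NY < L := lt_of_le_of_ne inf_le_left fun e => hgY ((e.ge hg).2)
  have hsub : ∀ Z : Subgroup ↥L, Z ≠ ⊤ → Z.map L.subtype < L := fun Z hZ =>
    lt_of_le_of_ne (Subgroup.map_subtype_le _) fun e => hZ (Subgroup.map_injective L.subtype_injective
      (by rw [e, ← MonoidHom.range_eq_map, Subgroup.range_subtype]))
  have hYsub : ∀ Z : Subgroup ↥L, Y.subgroupOf L ≤ Z → Y ≤ Z.map L.subtype := fun Z hZ y hy =>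
    ⟨⟨y, hYL hy⟩, hZ (Subgroup.mem_subgroupOf.2 hy), rfl⟩
  have hN₀ : NY.subgroupOf L ≠ ⊤ := fun e => hgY (Subgroup.subgroupOf_eq_top.1 e hg)
  have hYN₀ : Y.subgroupOf L ≤ NY.subgroupOf L := Subgroup.comap_mono Subgroup.le_normalizer
  have hle₀ : ∀ Z : Subgroup ↥L, Y.subgroupOf L ≤ Z → Z ≠ ⊤ → Z ≤ NY.subgroupOf L := fun Z hYZ hZ z hz =>
    Subgroup.mem_subgroupOf.2 (c.le_normalizer_of_lt (hYsub Z hYZ) (hsub Z hZ) ⟨z, hz, rfl⟩)
  have hcoatom : IsCoatom (NY.subgroupOf L) :=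
    ⟨hN₀, fun Z hZ => by
      by_contra hne
      exact hZ.not_ge (hle₀ Z (hYN₀.trans hZ.le) hne)⟩
  have hclos : Subgroup.normalClosure ((Y.subgroupOf L) : Set ↥L) = ⊤ := by
    by_contra hne
    refine hgY (c.mem_normalizer_of_common hg (R := Y ⊔ Y.map (MulAut.conj g).toMonoidHom) ?_ ?_ le_sup_left le_sup_right)
    · refine IsPGroup.to_sup_of_normal_left' c.pY (c.pY.map _) ?_
      rintro _ ⟨y, hy, rfl⟩
      exact Subgroup.mem_subgroupOf.1 (hle₀ _ Subgroup.le_normalClosure hne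
        (Subgroup.normalClosure_normal.conj_mem ⟨y, hYL hy⟩ (Subgroup.subset_normalClosure hy) ⟨g, hg⟩))
    · exact sup_le hYL (by
        rintro _ ⟨y, hy, rfl⟩
        exact L.mul_mem (L.mul_mem hg (hYL hy)) (L.inv_mem hg))
  refine ⟨⟨c.sup_eq, fun h hh hn => c.gen_of_gen hh (c.gen_of_notMem hh hn)⟩, ⟨⟨hclos, NY.subgroupOf L,
    ⟨hcoatom, hYN₀⟩, fun M' hM' => ?_⟩, ?_, hlt, fun X hYX hX => le_inf hX.le (c.le_normalizer_of_lt hYX hX)⟩, ?_, ?_⟩
  · exact ((hM'.1.le_iff).1 (hle₀ M' hM'.2 hM'.1.1)).resolve_left hcoatom.1 |>.symm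
  · -- characteristic `p`
    set Cc := L ⊓ Subgroup.centralizer (Cfsg.pCoreOf p L : Set G) with hCc
    have hCcn : ∀ l ∈ L, ∀ x ∈ Cc, l * x * l⁻¹ ∈ Cc := fun l hl x hx =>
      ⟨L.mul_mem (L.mul_mem hl hx.1) (L.inv_mem hl), Subgroup.mem_centralizer_iff.2 fun v hv => by
        have h1 := Subgroup.mem_centralizer_iff.1 hx.2 (l⁻¹ * v * l)
          ((Subgroup.mem_normalizer_iff''.1 (CfsgLib.LocalEven.le_normalizer_pCoreOf p L hl) v).1 hv)
        calc v * (l * x * l⁻¹) = l * ((l⁻¹ * v * l) * x) * l⁻¹ := by group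
          _ = l * (x * (l⁻¹ * v * l)) * l⁻¹ := by rw [h1]
          _ = l * x * l⁻¹ * v := by group⟩
    refine CfsgLib.LocalEven.hasCharP_of_pPrime fun x hxo hxc => Subtype.ext ?_
    have hxC : (x : G) ∈ Cc := ⟨x.2, Subgroup.mem_centralizer_iff.2 (by
      rintro _ ⟨v, hv, rfl⟩
      exact congrArg Subtype.val (hxc v hv).symm)⟩
    have hxo' : (orderOf (x : G)).Coprime p := by rwa [Subgroup.orderOf_coe]
    by_cases hYC : Cc ⊔ Y = L
    · exfalso
      obtain ⟨y, hy, hyD⟩ := SetLike.not_le_iff_exists.1 hH.2.2.1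
      obtain ⟨V, W, hF⟩ := CfsgLib.LocalEven.AsymL.exists_factor hH.1 (c.YH hy) hyD
      haveI : (W.subgroupOf H).Normal := Subgroup.normal_subgroupOf_of_le_normalizer hF.nW
      have hs := c.setting hg hgen hF
      refine hs.not_fix_comm ?_
      have hCcH : Cc ≤ H := inf_le_left.trans hLH
      rw [← hYC, CfsgLib.LocalEven.AsymL.bar_sup hCcH c.YH]
      refine sup_le ?_ ((Subgroup.le_centralizer_iff).1 (hs.comm_le_fix.trans inf_le_right))
      rintro _ ⟨⟨z, hzH⟩, hz, rfl⟩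
      refine Subgroup.mem_centralizer_iff.2 fun a ha => ?_
      obtain ⟨⟨⟨v, hvH⟩, hv, hva⟩, ⟨u, huH⟩, hu, hua⟩ := hs.comm_le ha
      -- the commutator is the image of an element of `Y ⊓ D`
      have hw : v⁻¹ * u ∈ W := (QuotientGroup.eq.1 (hva.trans hua.symm) :)
      have huV : u ∈ V := by
        have := V.mul_mem (show v ∈ V from hv) (hF.lt.le hw)
        rwa [mul_inv_cancel_left] at this
      have huO : u ∈ Cfsg.pCoreOf p L := by
        have h1 := CfsgLib.LocalEven.AsymL.inf_pCoreOf_le (p := p) (A := L) (B := H) ⟨hF.le huV, hYL hu⟩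
        rwa [inf_of_le_right hLH] at h1
      rw [← hua, ← map_mul, ← map_mul]
      exact congrArg _ (Subtype.ext (Subgroup.mem_centralizer_iff.1 (show z ∈ Cc from hz).2 u huO))
    · have hCN : Cc ≤ NY := le_sup_left.trans (c.le_normalizer_of_lt le_sup_right
        (lt_of_le_of_ne (sup_le inf_le_left hYL) hYC))
      have hconj : ∀ l ∈ L, (Cfsg.pCoreOf p Cc).map (MulAut.conj l).toMonoidHom = Cfsg.pCoreOf p Cc := fun l hl => by
        have he : Cc.map (MulAut.conj l).toMonoidHom = Cc := CfsgLib.LocalEven.WC.map_conj_eq_of_mem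
          (CfsgLib.LocalEven.mem_normalizer_of_conj_le (by
            rintro _ ⟨z, hz, rfl⟩
            exact hCcn l hl z hz))
        rw [← CfsgLib.LocalEven.pCoreOf_map, he]
      have hOC : Cfsg.pCoreOf p Cc ≤ Cfsg.pCoreOf p L :=
        CfsgLib.LocalEven.le_pCoreOf ((CfsgLib.LocalEven.pCoreOf_le p Cc).trans inf_le_left)
          (CfsgLib.LocalEven.isPGroup_pCoreOf p Cc)
          fun l hl => CfsgLib.LocalEven.mem_normalizer_of_conj_le (hconj l hl).le
      have hYCc : Y ⊓ Cc ≤ Cfsg.pCoreOf p L := (CfsgLib.LocalEven.le_pCoreOf (p := p) inf_le_right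
        (c.pY.to_le inf_le_left) fun z hz => Subgroup.mem_normalizer_iff.2 fun w => and_congr
          (Subgroup.mem_normalizer_iff.1 (hCN hz) w)
          (Subgroup.mem_normalizer_iff.1 (Subgroup.le_normalizer hz) w)).trans hOC
      have hfixY : ∀ z ∈ Cc, (orderOf z).Coprime p → z ∈ Subgroup.centralizer (Y : Set G) := by
        intro z hz hzo
        refine Subgroup.mem_centralizer_iff.2 fun y hy => ?_
        have hd : y⁻¹ * (z * y * z⁻¹) ∈ Y ⊓ Cc := by
          refine ⟨Y.mul_mem (Y.inv_mem hy) ((Subgroup.mem_normalizer_iff.1 (hCN hz) y).1 hy), ?_⟩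
          rw [show y⁻¹ * (z * y * z⁻¹) = (y⁻¹ * z * y⁻¹⁻¹) * z⁻¹ by group]
          exact Cc.mul_mem (hCcn _ (L.inv_mem (hYL hy)) z hz) (Cc.inv_mem hz)
        exact (CfsgLib.LocalEven.commute_of_conj_eq_mul (CfsgLib.LocalEven.isPGroup_pCoreOf p L) (hYCc hd) hzo
          (by group) (Subgroup.mem_centralizer_iff.1 hz.2 _ (hYCc hd)).symm).symm
      refine CfsgLib.LocalEven.AsymL.eq_one_of_fixes hH.1 (hLH x.2) hxo' fun V W hF v hv => ?_
      haveI : (W.subgroupOf H).Normal := Subgroup.normal_subgroupOf_of_le_normalizer hF.nW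
      have hs := c.setting hg hgen hF
      refine CfsgLib.LocalEven.AsymL.fix_of_centralizer hF (hLH x.2) (hs.fixes_of_central
        (CfsgLib.LocalEven.AsymL.mem_bar (hLH x.2) x.2) ?_ ?_) hv
      · refine Subgroup.mem_centralizer_iff.2 ?_
        rintro _ ⟨⟨y, hyH⟩, hy, rfl⟩
        rw [← map_mul, ← map_mul]
        exact congrArg _ (Subtype.ext (Subgroup.mem_centralizer_iff.1 (hfixY _ hxC hxo') y hy))
      · rw [← CfsgLib.LocalEven.AsymL.bar_conj c.YH (hLH hg)]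
        refine Subgroup.mem_centralizer_iff.2 ?_
        rintro _ ⟨⟨_, hyH⟩, ⟨y, hy, rfl⟩, rfl⟩
        rw [← map_mul, ← map_mul]
        refine congrArg _ (Subtype.ext ?_)
        have h1 := Subgroup.mem_centralizer_iff.1 (hfixY (g⁻¹ * x * g⁻¹⁻¹) (hCcn _ (L.inv_mem hg) _ hxC) (by
          rwa [← MulAut.conj_apply, MulEquiv.orderOf_eq])) y hy
        show g * y * g⁻¹ * x = x * (g * y * g⁻¹)
        calc g * y * g⁻¹ * x = g * (y * (g⁻¹ * x * g⁻¹⁻¹)) * g⁻¹ := by group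
          _ = g * (g⁻¹ * x * g⁻¹⁻¹ * y) * g⁻¹ := by rw [h1]
          _ = x * (g * y * g⁻¹) := by group
  · intro V W' hVle hVn hWn hlt' hchief hnc hle
    have hF : CfsgLib.LocalEven.AsymL.IsFactor p H V W' := ⟨hVle, hVn, hWn, hlt', hchief, hnc⟩
    haveI : (W'.subgroupOf H).Normal := Subgroup.normal_subgroupOf_of_le_normalizer hF.nW
    have hs := c.setting hg hgen hF
    refine hs.not_pGroup_action ?_ ?_
    · rintro _ ⟨⟨x, hxH⟩, hxL', rfl⟩ hxo
      have hxL : x ∈ L := hxL'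
      -- replace `x` by its `p'`-part
      set a := (orderOf x).factorization p with ha
      have hres : x ^ p ^ a ∈ (Cfsg.pResidual p ↥L).map L.subtype := by
        refine ⟨⟨x, hxL⟩ ^ p ^ a, CfsgLib.Transfer.mem_pResidual_of_coprime ?_, rfl⟩
        rw [orderOf_pow_of_dvd (pow_ne_zero _ (Fact.out (p := p.Prime)).ne_zero) (by rw [Subgroup.orderOf_mk]; exact Nat.ordProj_dvd _ _), Subgroup.orderOf_mk]
        exact (Nat.coprime_ordCompl Fact.out (orderOf_pos x).ne').symm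
      have hfix : (QuotientGroup.mk' (W'.subgroupOf H)) ⟨x, hxH⟩ ^ p ^ a ∈
          Subgroup.centralizer ((CfsgLib.LocalEven.AsymL.bar H W' V) : Set (↥H ⧸ W'.subgroupOf H)) := by
        rw [← map_pow]
        refine CfsgLib.LocalEven.AsymL.centralizer_of_fix (H.pow_mem hxH _) fun v hv => ?_
        have h1 := hle (Subgroup.commutator_mem_commutator hv hres)
        rw [commutatorElement_def] at h1
        have h2 := W'.inv_mem h1
        rwa [show (v * x ^ p ^ a * v⁻¹ * (x ^ p ^ a)⁻¹)⁻¹ = x ^ p ^ a * v * (x ^ p ^ a)⁻¹ * v⁻¹ by group] at h2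
      obtain ⟨j, hj⟩ := exists_pow_eq_self_of_coprime (hxo.pow_right a).symm
      rw [← hj]
      exact Subgroup.pow_mem _ hfix j
    · intro N hYN hLN
      refine (hs.Lgen).trans (sup_le hYN ?_)
      rintro _ ⟨z, hz, rfl⟩
      exact (Subgroup.mem_normalizer_iff.1 (hLN hs.gL) z).1 (hYN hz)
  · rw [Subgroup.map_le_iff_le_comap]
    haveI : ((Cfsg.pCoreOf p H).comap L.subtype).Normal := Subgroup.normal_subgroupOf_of_le_normalizer
      (hLH.trans (CfsgLib.LocalEven.le_normalizer_pCoreOf p H))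
    exact Subgroup.normalClosure_le_normal fun z hz => c.inf_core_le hz

end Cfsg.Agent.S2862
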