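import Cfsg.Statements.S2863
import Cfsg.Agent.Lib.LocalEven.LLemmaBridge
import Cfsg.Agent.Lib.LocalEven.CoreOf
import Cfsg.Agent.Lib.LocalEven.PReduced
import Cfsg.Agent.Lib.PGroup.ElemAbelian

set_option autoImplicit false
open Cfsg

namespace Cfsg.Agent.S2863

/-- Standing hypotheses: G a finite group, S a Sylow p-subgroup, Q a nontrivial large p-subgroup of G contained in S, M a subgroup containing S with the basic property (M ∈ 𝔐_G(S)); Y_M the largest p-reduced normal subgroup of M and M† = M·C_G(Y_M). Let L ∈ 𝔏_G(Y_M) (L ∈ 𝔏_G(Y_M): Y_M ≤ L; O_p(L) is the normal closure in L of Y_M ∩ O_p(L) and normalizes Y_M; L is Y_M-minimal of characteristic p with N_L(Y_M) its unique maximal subgroup over Y_M; and L/O_p(L) ≅ SL₂(q) with q = |Y_M : Y_M ∩ O_p(L)|, or p = 2 and L/O_p(L) is a Suzuki group Sz(q) or dihedral of order 2r, r an odd prime), A = O_p(L), and C = C_{Y_M}(L). Then every element h of L whose order is not a power of p acts without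 nontrivial fixed points on A/C: for a ∈ A, hah⁻¹a⁻¹ ∈ C implies a ∈ C. -/
theorem result {G : Type*} [Group G] [Finite G] {p : ℕ} [Fact p.Prime] (S : Sylow p G) (Q : Subgroup G) (hQp : IsPGroup p ↥Q) (hQ1 : Q ≠ ⊥) (hQS : Q ≤ (S : Subgroup G)) (hQ : Cfsg.IsLarge Q) (M : Subgroup G) (hSM : (S : Subgroup G) ≤ M) (hM : Cfsg.IsInFrakM p M) (L : Subgroup G) (hL : Cfsg.IsInFrakL p M L) (h : G) (hh : h ∈ L) (hnp : ¬ ∃ k : ℕ, orderOf h = p ^ k) : ∀ a ∈ (Cfsg.pCoreOf p L), h * a * h⁻¹ * a⁻¹ ∈ (Cfsg.largestPReducedOf p M) ⊓ Subgroup.centralizer ((L : Subgroup G) : Set G) → a ∈ (Cfsg.largestPReducedOf p M) ⊓ Subgroup.centralizer ((L : Subgroup G) : Set G) := by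
  set Y₀ := Cfsg.largestPReducedOf p M with hY₀
  obtain ⟨hYL, hcl, hAN, hmin, hchar, ⟨hlt, hmax⟩, hq⟩ := hL
  set Y : Subgroup ↥L := Y₀.subgroupOf L with hY
  set A : Subgroup ↥L := Cfsg.pCore p ↥L with hA
  have hAof : (Cfsg.pCoreOf p L).subgroupOf L = A := CfsgLib.LocalEven.subgroupOf_pCoreOf p L
  have hel : Cfsg.IsElementaryAbelian p Y₀ :=
    CfsgLib.PGroup.elemAb_map
      (CfsgLib.LocalEven.PRed.elemAb (CfsgLib.LocalEven.PRed.isPReducedNormal_largestPReduced (p := p) (L := ↥M))) M.subtype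
  have hab : ∀ a ∈ Y₀, ∀ b ∈ Y₀, a * b = b * a := fun a ha b hb => CfsgLib.PGroup.elemAb_comm hel ha hb
  have hYA : (Y₀ ⊓ Cfsg.pCoreOf p L).subgroupOf L = Y ⊓ A := by
    rw [← hAof]; rfl
  have hyp : CfsgLib.LocalEven.LLemma.Hyp Y A := by
    refine ⟨fun a ha b hb => Subtype.ext (hab _ ha _ hb), inferInstance, ?_, ?_, hmin.1, ?_, ?_, hchar⟩
    · apply Subgroup.map_injective L.subtype_injective
      rw [← hYA, ← hcl]
      rfl
    · intro a ha
      have ha' : (a : G) ∈ Subgroup.normalizer (Y₀ : Set G) := hAN ⟨a, ha, rfl⟩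
      rw [Subgroup.mem_normalizer_iff]
      intro x
      exact Subgroup.mem_normalizer_iff.1 ha' x
    · intro X hYX hX x hx
      have h1 : Y₀ ≤ X.map L.subtype := fun y hy => ⟨⟨y, hYL hy⟩, hYX hy, rfl⟩
      have h2 : X.map L.subtype < L := lt_of_le_of_ne (Subgroup.map_subtype_le X) fun e => hX (by
        apply Subgroup.map_injective L.subtype_injective
        rw [e, ← MonoidHom.range_eq_map, Subgroup.range_subtype])
      have h3 := (hmax _ h1 h2 ⟨x, hx, rfl⟩).2
      rw [Subgroup.mem_normalizer_iff]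
      intro z
      exact Subgroup.mem_normalizer_iff.1 h3 z
    · intro e
      refine hlt.not_ge (le_inf le_rfl fun l hl => ?_)
      have hl' : (⟨l, hl⟩ : ↥L) ∈ Subgroup.normalizer (Y : Set ↥L) := e ▸ Subgroup.mem_top _
      rw [Subgroup.mem_normalizer_iff]
      intro z
      constructor
      · intro hz
        exact (Subgroup.mem_normalizer_iff.1 hl' ⟨z, hYL hz⟩).1 hz
      · intro hz
        have := (Subgroup.mem_normalizer_iff''.1 hl' ⟨l * z * l⁻¹, hYL hz⟩).1 hz
        have h' := Subgroup.mem_subgroupOf.1 this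
        simpa only [Subgroup.coe_mul, InvMemClass.coe_inv, show l⁻¹ * (l * z * l⁻¹) * l = z by group] using h'
  haveI hAn : A.Normal := hyp.An
  set q := QuotientGroup.mk' A with hqm
  have hqs : Function.Surjective q := QuotientGroup.mk'_surjective A
  -- the data of the three models
  have hpp : ∀ {Q : Type} [Group Q] (f : ↥L →* Q), ∀ z ∈ Y.map f, z ^ p = 1 := by
    rintro Q _ f _ ⟨y, hy, rfl⟩
    have : y ^ p = 1 := Subtype.ext (hel.2 _ hy)
    rw [← map_pow, this, map_one]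
  have hsq : ∀ {Q : Type} [Group Q] (f : ↥L →* Q), p = 2 → ∀ z ∈ Y.map f, z * z = 1 := by
    intro Q _ f h2 z hz
    rw [← pow_two, ← h2]
    exact hpp f z hz
  have hcard : ∀ {Q : Type} [Group Q] (f : ↥L →* Q), f.ker = A →
      Nat.card (Y.map f) = (Y₀ ⊓ Cfsg.pCoreOf p L).relIndex Y₀ := by
    intro Q _ f hf
    rw [← Subgroup.relIndex_subgroupOf hYL, hYA, Subgroup.inf_relIndex_left, ← hf, Subgroup.relIndex_ker]
  have hgen : ∀ {Q : Type} [Group Q] (f : ↥L →* Q), Function.Surjective f →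
      Subgroup.normalClosure ((Y.map f : Subgroup Q) : Set Q) = ⊤ := by
    intro Q _ f hf
    rw [Subgroup.coe_map, ← Subgroup.map_normalClosure _ f hf, hyp.gen, ← MonoidHom.range_eq_map,
      MonoidHom.range_eq_top.2 hf]
  have hfree : ∀ {Q : Type} [Group Q] (f : ↥L →* Q), Function.Surjective f → f.ker = A →
      CfsgLib.LocalEven.LLemma.Good p (Y.map f) → ∀ a ∈ Cfsg.pCoreOf p L,
        h * a * h⁻¹ * a⁻¹ ∈ Y₀ ⊓ Subgroup.centralizer ((L : Subgroup G) : Set G) →
          a ∈ Y₀ ⊓ Subgroup.centralizer ((L : Subgroup G) : Set G) := by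
    intro Q _ f hf hker hgood a ha hc
    haveI : Finite Q := Finite.of_surjective f hf
    have haL : a ∈ L := CfsgLib.LocalEven.pCoreOf_le p L ha
    set a' : ↥L := ⟨a, haL⟩ with ha'
    set h' : ↥L := ⟨h, hh⟩ with hh'
    have hK : h' ∈ CfsgLib.LocalEven.LLemma.K Y a' := by
      rw [CfsgLib.LocalEven.LLemma.mem_K]
      refine ⟨hc.1, Subgroup.mem_center_iff.2 fun x => Subtype.ext ?_⟩
      exact Subgroup.mem_centralizer_iff.1 hc.2 x x.2
    have hmem : a' ∈ A := by rw [← hAof]; exact ha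
    -- a prime other than `p` dividing the order of the image
    obtain ⟨r, hr, hrp, hrd⟩ : ∃ r : ℕ, r.Prime ∧ r ≠ p ∧ r ∣ orderOf (f h') := by
      by_contra hcon
      push Not at hcon
      have hpos : orderOf (f h') ≠ 0 := (orderOf_pos _).ne'
      have he := Nat.eq_prime_pow_of_unique_prime_dvd hpos
        (fun {d} hd hdd => by_contra fun hne => hcon d hd hne hdd)
      set k := (orderOf (f h')).primeFactorsList.length
      refine hnp ?_
      have h1 : h' ^ p ^ k ∈ A := by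
        rw [← hker, MonoidHom.mem_ker, map_pow, ← he, pow_orderOf_eq_one]
      obtain ⟨j, hj⟩ := (CfsgLib.Cores.isPGroup_pCore p) ⟨_, h1⟩
      have h2 : h ^ p ^ (k + j) = 1 := by
        have := congrArg (fun x : A => ((x : ↥L) : G)) hj
        simpa [pow_add, pow_mul, hh'] using this
      obtain ⟨i, -, hi⟩ := (Nat.dvd_prime_pow Fact.out).1 (orderOf_dvd_of_pow_eq_one h2)
      exact ⟨i, hi⟩
    have hor : orderOf (f (h' ^ (orderOf (f h') / r))) = r := by
      rw [map_pow]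
      exact orderOf_pow_orderOf_div (orderOf_pos _).ne' hrd
    have hres := hyp.free hf hker hgood (a := a') (l := h' ^ (orderOf (f h') / r))
      (by rw [hor]; exact hr) (by rw [hor]; exact hrp) hmem (Subgroup.pow_mem _ hK _)
    refine ⟨hres.1, Subgroup.mem_centralizer_iff.2 fun x hx => ?_⟩
    exact congrArg Subtype.val (Subgroup.mem_center_iff.1 hres.2 ⟨x, hx⟩)
  have hker : ∀ {Q : Type} [Group Q] (e : (↥L ⧸ A) ≃* Q), (e.toMonoidHom.comp q).ker = A := by
    intro Q _ e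
    ext x
    simp [MonoidHom.mem_ker, hqm]
  have hsurj : ∀ {Q : Type} [Group Q] (e : (↥L ⧸ A) ≃* Q), Function.Surjective (e.toMonoidHom.comp q) :=
    fun e => e.surjective.comp hqs
  rcases hq with ⟨F, i1, i2, hF, ⟨e⟩⟩ | ⟨rfl, F, i1, i2, m, hFc, hF, ⟨e⟩⟩ | ⟨rfl, r, hr, hr2, ⟨e⟩⟩
  · refine hfree _ (hsurj e) (hker e) (CfsgLib.LocalEven.LLemma.good_sl2 _ ?_ ?_)
    · exact fun z => ⟨1, Subtype.ext (by rw [pow_one, SubgroupClass.coe_pow]; exact hpp _ _ z.2)⟩
    · rw [hcard _ (hker e), ← hF, Nat.card_eq_fintype_card]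
  · haveI : CharP F 2 := (CharP.charP_iff_prime_eq_zero Nat.prime_two).2 (eq_zero_of_pow_eq_zero (n := 2 * m + 1) (by
      have h0 : ((2 ^ (2 * m + 1) : ℕ) : F) = 0 := hFc ▸ Nat.cast_card_eq_zero F
      exact_mod_cast h0))
    refine hfree _ (hsurj e) (hker e) (CfsgLib.LocalEven.LLemma.good_sz hFc _ (hsq _ rfl) ?_ (hgen _ (hsurj e)))
    rw [hcard _ (hker e), hF]
  · refine hfree _ (hsurj e) (hker e) (CfsgLib.LocalEven.LLemma.good_dihedral hr hr2 _ (hsq _ rfl) ?_)
    intro hb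
    haveI : NeZero r := ⟨hr.ne_zero⟩
    have := hgen _ (hsurj e)
    rw [hb] at this
    have h2 : Subgroup.normalClosure ((⊥ : Subgroup (DihedralGroup r)) : Set (DihedralGroup r)) ≤ ⊥ :=
      Subgroup.normalClosure_le_normal le_rfl
    rw [this] at h2
    have hc := Subgroup.mem_bot.1 (h2 (Subgroup.mem_top (DihedralGroup.sr (0 : ZMod r))))
    simp [DihedralGroup.one_def, -DihedralGroup.r_zero] at hc

end Cfsg.Agent.S2863
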