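import Cfsg.Statements.S2864
import Cfsg.Agent.Lib.LocalEven.ActKernel
import Cfsg.Agent.S2845
open Subgroup
open scoped commutatorElement

set_option autoImplicit false
open Cfsg

namespace Cfsg.Agent.S2864

/-- Standing hypotheses: G a finite group, S a Sylow p-subgroup, Q a nontrivial large p-subgroup of G contained in S, M a subgroup containing S with the basic property (M ∈ 𝔐_G(S)); Y_M the largest p-reduced normal subgroup of M and M† = M·C_G(Y_M). Let I be a nontrivial normal p-subgroup of M and Y ≤ O_p(M†); let L be a subgroup of G containing Y and A a normal p-subgroup of L with I ≤ A ≤ M. If [Y, A] ≤ [I, A], then Y ≤ O_p(L). -/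
theorem result {G : Type*} [Group G] [Finite G] {p : ℕ} [Fact p.Prime] (S : Sylow p G) (Q : Subgroup G) (hQp : IsPGroup p ↥Q) (hQ1 : Q ≠ ⊥) (hQS : Q ≤ (S : Subgroup G)) (hQ : Cfsg.IsLarge Q) (M : Subgroup G) (hSM : (S : Subgroup G) ≤ M) (hM : Cfsg.IsInFrakM p M) (I : Subgroup G) (hI1 : I ≠ ⊥) (hIp : IsPGroup p ↥I) (hIM : I ≤ M ∧ M ≤ Subgroup.normalizer ((I : Subgroup G) : Set G)) (Y : Subgroup G) (hY : Y ≤ (Cfsg.pCoreOf p (M ⊔ Subgroup.centralizer (((Cfsg.largestPReducedOf p M) : Subgroup G) : Set G)))) (L : Subgroup G) (hYL : Y ≤ L) (A : Subgroup G) (hAp : IsPGroup p ↥A) (hAL : A ≤ L ∧ L ≤ Subgroup.normalizer ((A : Subgroup G) : Set G)) (hIA : I ≤ A) (hAM : A ≤ M) (hc : ⁅Y, A⁆ ≤ ⁅I, A⁆) : Y ≤ (Cfsg.pCoreOf p L) := by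
  set Yd := M ⊔ centralizer (Cfsg.largestPReducedOf p M : Set G) with hMd
  set Pd := Cfsg.pCoreOf p Yd with hPd
  have h45 := Cfsg.Agent.S2845.result Q hQp hQ1 hQ
  have hNI : normalizer (I : Set G) ≤ Yd := by
    set R := normalizer (I : Set G) with hR
    have hSR : (S : Subgroup G) ≤ R := hSM.trans hIM.2
    have hne : Cfsg.pCore p ↥R ≠ ⊥ := by
      intro h
      have hn : (I.subgroupOf R).Normal := Subgroup.normal_subgroupOf_of_le_normalizer le_rfl
      have h' := CfsgLib.Cores.le_pCore (hn := hn) hIp.comap_subtype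
      rw [h, le_bot_iff, Subgroup.subgroupOf_eq_bot, disjoint_iff, inf_eq_left.2 Subgroup.le_normalizer] at h'
      exact hI1 h'
    have hmem : R ∈ Cfsg.charPSubgroups p G := ⟨hne, h45.2.1 R ⟨S, hSR⟩ hne⟩
    obtain ⟨X, hRX, hX⟩ := Finite.exists_le_maximal (p := fun X => X ∈ Cfsg.charPSubgroups p G) hmem
    have hXmax : X ∈ Cfsg.maxCharPSubgroups p G := ⟨hX.1, fun Z hZ hle => le_antisymm (hX.2 hZ hle) hle⟩
    exact hRX.trans (hM.2.2.1 X hXmax (hIM.2.trans hRX)).le
  have hYdP : Yd ≤ normalizer (Pd : Set G) := CfsgLib.LocalEven.le_normalizer_pCoreOf p Yd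
  set F := (frattini ↥A).map A.subtype with hF
  have hLF : L ≤ normalizer (F : Set G) := hAL.2.trans (CfsgLib.LocalEven.ActKer.le_normalizer_frattini A)
  set K := CfsgLib.LocalEven.ActKer.commKer L A F hLF with hK
  set C := L ⊓ centralizer (A : Set G) with hC
  set O := Cfsg.pCoreOf p L with hO
  have hLO : L ≤ normalizer (O : Set G) := CfsgLib.LocalEven.le_normalizer_pCoreOf p L
  have hLC : L ≤ normalizer (C : Set G) := by
    intro l hl
    refine CfsgLib.LocalEven.mem_normalizer_of_conj_le ?_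
    rintro _ ⟨c, hc, rfl⟩
    refine Subgroup.mem_inf.2 ⟨mul_mem (mul_mem hl hc.1) (inv_mem hl), Subgroup.mem_centralizer_iff.2 fun v hv => ?_⟩
    have h4 := Subgroup.mem_centralizer_iff.1 hc.2 (l⁻¹ * v * l) ((Subgroup.mem_normalizer_iff''.1 (hAL.2 hl) v).1 hv)
    show v * (l * c * l⁻¹) = l * c * l⁻¹ * v
    calc v * (l * c * l⁻¹) = l * ((l⁻¹ * v * l) * c) * l⁻¹ := by group
      _ = l * (c * (l⁻¹ * v * l)) * l⁻¹ := by rw [h4]
      _ = l * c * l⁻¹ * v := by group
  have hCd : C ≤ Yd := (inf_le_right.trans (Subgroup.centralizer_le hIA)).trans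
    ((Subgroup.centralizer_le_normalizer _).trans hNI)
  have hW : Pd ⊓ C ≤ O := by
    have h1 : Pd ⊓ C ≤ Cfsg.pCoreOf p C := CfsgLib.LocalEven.le_pCoreOf inf_le_right
      ((CfsgLib.LocalEven.isPGroup_pCoreOf p Yd).to_le inf_le_left) fun c hc =>
        Subgroup.mem_normalizer_iff.2 fun x => and_congr
          (Subgroup.mem_normalizer_iff.1 (hYdP (hCd hc)) x) (Subgroup.mem_normalizer_iff.1 (Subgroup.le_normalizer hc) x)
    exact h1.trans (CfsgLib.LocalEven.ActKer.pCoreOf_le_of_le_normalizer inf_le_left hLC)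
  set E := CfsgLib.LocalEven.ActKer.commKer L C O hLO ⊓ K with hE
  have hEL : E ≤ L := inf_le_right.trans (CfsgLib.LocalEven.ActKer.commKer_le L A F hLF)
  have hFA : ⁅A, A⁆ ≤ F := by
    rw [hF, ← Subgroup.map_subtype_commutator]
    exact Subgroup.map_mono (CfsgLib.PGroup.commutator_le_frattini hAp)
  intro y hy
  have hyE : y ∈ E := by
    refine Subgroup.mem_inf.2 ⟨⟨hYL hy, fun c hc => hW (Subgroup.mem_inf.2 ⟨?_, ?_⟩)⟩, hYL hy, fun a ha => ?_⟩
    · rw [show ⁅y, c⁆ = y * (c * y⁻¹ * c⁻¹) by rw [commutatorElement_def]; group]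
      exact mul_mem (hY hy) ((Subgroup.mem_normalizer_iff.1 (hYdP (hCd hc)) _).1 (inv_mem (hY hy)))
    · rw [commutatorElement_def]
      exact mul_mem ((Subgroup.mem_normalizer_iff.1 (hLC (hYL hy)) c).1 hc) (inv_mem hc)
    · exact hFA (Subgroup.commutator_mono hIA le_rfl (hc (Subgroup.commutator_mem_commutator hy ha)))
  have hLE : L ≤ normalizer (E : Set G) := fun l hl => Subgroup.mem_normalizer_iff.2 fun x => and_congr
    (Subgroup.mem_normalizer_iff.1 (CfsgLib.LocalEven.ActKer.le_normalizer_commKer hLC hl) x)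
    (Subgroup.mem_normalizer_iff.1 (CfsgLib.LocalEven.ActKer.le_normalizer_commKer hAL.2 hl) x)
  refine CfsgLib.LocalEven.ActKer.pCoreOf_le_of_le_normalizer hEL hLE ?_
  refine CfsgLib.LocalEven.ActKer.mem_pCoreOf_of_forall_coprime (CfsgLib.LocalEven.isPGroup_pCoreOf p L)
    (hEL.trans hLO) (fun x hx hxo e he => ?_) hyE
    ((CfsgLib.LocalEven.isPGroup_pCoreOf p Yd).to_le (Subgroup.zpowers_le.2 (hY hy)))
  exact he.1.2 x ⟨hEL hx, CfsgLib.PStab.mem_centralizer_of_frattini hAp (hAL.2 (hEL hx)) hxo hx.2.2⟩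

end Cfsg.Agent.S2864
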