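import Cfsg.Statements.S2872
import Cfsg.Agent.Lib.LocalEven.StronglyEmbedded
import Mathlib.GroupTheory.Transfer
import Mathlib.GroupTheory.Nilpotent

set_option autoImplicit false
open Cfsg

namespace Cfsg.Agent.S2872

/-- Let S be a Sylow 2-subgroup of the finite group G. Then G has a proper normal subgroup of 2-power index (O²(G) ≠ G), or Ω₁(Z(S)) is contained in the Frattini subgroup of S, or N_G(S) acts nontrivially on Ω₁(Z(S)) by conjugation. -/
theorem result {G : Type*} [Group G] [Finite G] (S : Sylow 2 G) : Cfsg.pResidual 2 G ≠ ⊤ ∨ Cfsg.omegaOne 2 ((S : Subgroup G) ⊓ Subgroup.centralizer ((S : Subgroup G) : Set G)) ≤ (frattini ↥(S : Subgroup G)).map (S : Subgroup G).subtype ∨ ∃ g ∈ Subgroup.normalizer ((S : Subgroup G) : Set G), ∃ z ∈ Cfsg.omegaOne 2 ((S : Subgroup G) ⊓ Subgroup.centralizer ((S : Subgroup G) : Set G)), g * z * g⁻¹ ≠ z := by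
  classical
  by_contra hcon
  rw [not_or, not_or, not_not] at hcon
  obtain ⟨hres, hphi, hfix⟩ := hcon
  push Not at hfix
  set Z : Subgroup G := (S : Subgroup G) ⊓ Subgroup.centralizer ((S : Subgroup G) : Set G) with hZ
  apply hphi
  refine (Subgroup.closure_le _).mpr ?_
  rintro z ⟨hz, hz2⟩
  have hzS : z ∈ (S : Subgroup G) := (Subgroup.mem_inf.mp hz).1
  have hzc : ∀ s ∈ (S : Subgroup G), s * z = z * s :=
    fun s hs => Subgroup.mem_centralizer_iff.mp (Subgroup.mem_inf.mp hz).2 s hs
  have hzN : ∀ g ∈ Subgroup.normalizer ((S : Subgroup G) : Set G), g * z * g⁻¹ = z :=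
    fun g hg => hfix g hg z (Subgroup.subset_closure ⟨hz, hz2⟩)
  by_contra hzphi
  -- a maximal subgroup of S missing z
  obtain ⟨M, hM, hzM⟩ : ∃ M : Subgroup ↥(S : Subgroup G), IsCoatom M ∧ (⟨z, hzS⟩ : ↥(S : Subgroup G)) ∉ M := by
    by_contra hno
    push Not at hno
    apply hzphi
    refine ⟨⟨z, hzS⟩, ?_, rfl⟩
    simp only [SetLike.mem_coe, frattini, Order.radical, Subgroup.mem_iInf]
    exact fun M hM => hno M hM
  haveI : Group.IsNilpotent ↥(S : Subgroup G) := S.2.isNilpotent
  haveI hMn : M.Normal := Subgroup.NormalizerCondition.normal_of_coatom M Group.normalizerCondition_of_isNilpotent hM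
  obtain ⟨k, hk⟩ := S.2.index M
  have hk1 : M.index = 2 := by
    have hprime : ∀ K : Subgroup (↥(S : Subgroup G) ⧸ M), K = ⊥ ∨ K = ⊤ := by
      intro K
      have hle : M ≤ K.comap (QuotientGroup.mk' M) := by
        intro m hm
        rw [Subgroup.mem_comap, show (QuotientGroup.mk' M) m = 1 from (QuotientGroup.eq_one_iff m).mpr hm]
        exact K.one_mem
      rw [← Subgroup.map_comap_eq_self_of_surjective (QuotientGroup.mk'_surjective M) K]
      rcases hle.lt_or_eq with h | h
      · right
        rw [hM.2 _ h, Subgroup.map_top_of_surjective _ (QuotientGroup.mk'_surjective M)]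
      · left
        rw [← h, QuotientGroup.map_mk'_self]
    have hp : (Nat.card (↥(S : Subgroup G) ⧸ M)).Prime := by
      haveI : Nontrivial (↥(S : Subgroup G) ⧸ M) := by
        rw [← Finite.one_lt_card_iff_nontrivial, ← Subgroup.index_eq_card]
        exact lt_of_le_of_ne (Nat.one_le_iff_ne_zero.mpr M.index_ne_zero_of_finite)
          (fun h => hM.1 (Subgroup.index_eq_one.mp h.symm))
      obtain ⟨x, hx⟩ := exists_ne (1 : ↥(S : Subgroup G) ⧸ M)
      obtain ⟨y, hy, hyo⟩ := CfsgLib.LocalEven.exists_orderOf_eq_prime (p := 2)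
        (Q := (⊤ : Subgroup (↥(S : Subgroup G) ⧸ M))) ((S.2.to_quotient M).to_subgroup ⊤)
        (fun h => hx (Subgroup.mem_bot.mp (h ▸ Subgroup.mem_top x)))
      have htop : Subgroup.zpowers y = ⊤ :=
        (hprime _).resolve_left (Subgroup.zpowers_ne_bot.mpr fun h => by simp [h] at hyo)
      rw [← Subgroup.card_top (G := ↥(S : Subgroup G) ⧸ M), ← htop, Nat.card_zpowers, hyo]
      exact Nat.prime_two
    rw [Subgroup.index_eq_card, (Nat.Prime.pow_eq_iff hp).mp (by rw [← Subgroup.index_eq_card, hk]) |>.1.symm]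
  let e : (↥(S : Subgroup G) ⧸ M) ≃* Multiplicative (ZMod 2) :=
    mulEquivOfPrimeCardEq (p := 2) (by rw [← Subgroup.index_eq_card, hk1]) (by simp)
  let f : ↥(S : Subgroup G) →* Multiplicative (ZMod 2) := e.toMonoidHom.comp (QuotientGroup.mk' M)
  have htwo : ∀ a b : Multiplicative (ZMod 2), a ≠ 1 → b ≠ 1 → a = b := by decide
  have hfz : f ⟨z, hzS⟩ ≠ 1 := by
    intro h
    have h' : (QuotientGroup.mk' M) ⟨z, hzS⟩ = 1 := by
      apply e.injective
      rw [map_one]
      exact h
    exact hzM ((QuotientGroup.eq_one_iff _).mp h')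
  haveI : Finite (G ⧸ (S : Subgroup G)) := inferInstance
  -- the key value
  suffices hV : MonoidHom.transfer f z ≠ 1 by
    apply hV
    have hle : Cfsg.pResidual 2 G ≤ (MonoidHom.transfer f).ker := by
      refine (Subgroup.closure_le _).mpr fun x hx => ?_
      rw [SetLike.mem_coe, MonoidHom.mem_ker]
      have h1 : orderOf (MonoidHom.transfer f x) ∣ orderOf x := orderOf_map_dvd _ x
      have h2 : orderOf (MonoidHom.transfer f x) ∣ 2 := by
        have := orderOf_dvd_natCard (G := Multiplicative (ZMod 2)) (MonoidHom.transfer f x)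
        simpa using this
      exact orderOf_eq_one_iff.mp (Nat.eq_one_of_dvd_coprimes hx h1 h2)
    rw [← MonoidHom.mem_ker]
    exact hle (hres ▸ Subgroup.mem_top z)
  set a := f ⟨z, hzS⟩ with ha
  -- the special fixed points of z
  let P : G ⧸ (S : Subgroup G) → Prop := fun q => z • q = q ∧ q.out⁻¹ * z * q.out ∈ (M.map (S : Subgroup G).subtype) → False
  have hclass : ∀ g s : G, s ∈ (S : Subgroup G) →
      ((g * s)⁻¹ * z * (g * s) ∈ M.map (S : Subgroup G).subtype ↔ g⁻¹ * z * g ∈ M.map (S : Subgroup G).subtype) := by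
    intro g s hs
    constructor
    · rintro ⟨m, hm, hme⟩
      refine ⟨⟨s, hs⟩ * m * ⟨s, hs⟩⁻¹, hMn.conj_mem m hm _, ?_⟩
      simp only [Subgroup.coe_subtype, Subgroup.coe_mul, Subgroup.coe_inv] at hme ⊢
      rw [hme]; group
    · rintro ⟨m, hm, hme⟩
      refine ⟨⟨s, hs⟩⁻¹ * m * ⟨s, hs⟩, by simpa using hMn.conj_mem m hm ⟨s, hs⟩⁻¹, ?_⟩
      simp only [Subgroup.coe_subtype, Subgroup.coe_mul, Subgroup.coe_inv] at hme ⊢
      rw [hme]; group
  let Φ : SubMulAction ↥(S : Subgroup G) (G ⧸ (S : Subgroup G)) :=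
    { carrier := {q | z • q = q ∧ q.out⁻¹ * z * q.out ∉ M.map (S : Subgroup G).subtype}
      smul_mem' := by
        rintro s q ⟨hq, hqM⟩
        refine ⟨?_, ?_⟩
        · change z • ((s : G) • q) = (s : G) • q
          rw [smul_smul, ← hzc s s.2, ← smul_smul, hq]
        · obtain ⟨t, ht⟩ : ∃ t : ↥(S : Subgroup G), ((s : G) • q).out = (s : G) * q.out * (t : G) := by
            have h : (s : G) • q = (((s : G) * q.out : G) : G ⧸ (S : Subgroup G)) := by
              rw [← smul_eq_mul, ← MulAction.Quotient.smul_coe, QuotientGroup.out_eq']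
            rw [h]
            obtain ⟨t, ht⟩ := QuotientGroup.mk_out_eq_mul (S : Subgroup G) ((s : G) * q.out)
            exact ⟨t, ht⟩
          rw [show (s • q).out = (s : G) * q.out * (t : G) from ht, hclass _ _ t.2]
          have : ((s : G) * q.out)⁻¹ * z * ((s : G) * q.out) = q.out⁻¹ * z * q.out := by
            have h := hzc s s.2
            calc ((s : G) * q.out)⁻¹ * z * ((s : G) * q.out) = q.out⁻¹ * ((s : G)⁻¹ * (z * (s : G))) * q.out := by group
              _ = q.out⁻¹ * ((s : G)⁻¹ * ((s : G) * z)) * q.out := by rw [h]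
              _ = q.out⁻¹ * z * q.out := by group
          rw [this]
          exact hqM }
  have hSfix : ∀ q : G ⧸ (S : Subgroup G), (∀ s : ↥(S : Subgroup G), s • q = q) → q ∈ Φ := by
    intro q hq
    refine ⟨hq ⟨z, hzS⟩, ?_⟩
    have hN : q.out ∈ Subgroup.normalizer ((S : Subgroup G) : Set G) := by
      refine Sylow.mem_fixedPoints_mul_left_cosets_iff_mem_normalizer (H := (S : Subgroup G)).mp ?_
      intro s
      rw [QuotientGroup.out_eq']
      exact hq s
    have : q.out⁻¹ * z * q.out = z := by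
      have h := hzN _ ((Subgroup.normalizer ((S : Subgroup G) : Set G)).inv_mem hN)
      simpa using h
    rw [this]
    rintro ⟨m, hm, hme⟩
    exact hzM ((show m = ⟨z, hzS⟩ from Subtype.ext hme) ▸ hm)
  -- its cardinality is odd
  have hodd : Nat.card Φ % 2 = 1 := by
    haveI : Fact (Nat.Prime 2) := ⟨Nat.prime_two⟩
    have h1 := S.2.card_modEq_card_fixedPoints Φ
    have h2 := S.2.card_modEq_card_fixedPoints (G ⧸ (S : Subgroup G))
    have h3 : Nat.card (MulAction.fixedPoints ↥(S : Subgroup G) Φ)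
        = Nat.card (MulAction.fixedPoints ↥(S : Subgroup G) (G ⧸ (S : Subgroup G))) := by
      refine Nat.card_congr
        { toFun := fun q => ⟨((q : Φ) : G ⧸ (S : Subgroup G)), fun s => congrArg Subtype.val (q.2 s)⟩
          invFun := fun q => ⟨⟨(q : G ⧸ (S : Subgroup G)), hSfix _ q.2⟩, fun s => Subtype.ext (q.2 s)⟩
          left_inv := fun q => rfl
          right_inv := fun q => rfl }
    have h4 : Nat.card (G ⧸ (S : Subgroup G)) % 2 = 1 := by
      have := S.not_dvd_index
      rw [Subgroup.index_eq_card] at this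
      omega
    rw [h3] at h1
    have h5 : Nat.card Φ ≡ Nat.card (G ⧸ (S : Subgroup G)) [MOD 2] := h1.trans h2.symm
    rw [Nat.ModEq] at h5
    omega
  letI : Fintype (Quotient (MulAction.orbitRel (Subgroup.zpowers z) (G ⧸ (S : Subgroup G)))) := Fintype.ofFinite _
  rw [MonoidHom.transfer_eq_prod_quotient_orbitRel_zpowers_quot]
  have hterm : ∀ q : Quotient (MulAction.orbitRel (Subgroup.zpowers z) (G ⧸ (S : Subgroup G))),
      f ⟨q.out.out⁻¹ * z ^ Function.minimalPeriod (z • ·) q.out * q.out.out,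
            QuotientGroup.out_conj_pow_minimalPeriod_mem (S : Subgroup G) z q.out⟩ =
        if q.out ∈ Φ then a else 1 := by
    intro q
    have hdvd : Function.minimalPeriod (z • ·) q.out ∣ 2 := by
      refine Function.IsPeriodicPt.minimalPeriod_dvd ?_
      change (z • ·)^[2] q.out = q.out
      rw [smul_iterate_apply, hz2, one_smul]
    have hone : ∀ x : ↥(S : Subgroup G), f x = 1 ↔ x ∈ M := fun x => by
      simp [f]
    rcases (Nat.dvd_prime Nat.prime_two).mp hdvd with hm | hm
    · have hfixq : z • q.out = q.out := Function.minimalPeriod_eq_one_iff_isFixedPt.mp hm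
      split_ifs with hq
      · refine htwo _ _ (fun h => hq.2 ?_) hfz
        rw [hone] at h
        exact ⟨_, h, by simp [hm]⟩
      · rw [hone]
        have : ¬ q.out.out⁻¹ * z * q.out.out ∉ M.map (S : Subgroup G).subtype := fun h => hq ⟨hfixq, h⟩
        rw [not_not] at this
        obtain ⟨m, hm', hme⟩ := this
        exact (Subtype.ext (by simpa [hm] using hme) :
          m = ⟨q.out.out⁻¹ * z ^ Function.minimalPeriod (z • ·) q.out * q.out.out,
            QuotientGroup.out_conj_pow_minimalPeriod_mem (S : Subgroup G) z q.out⟩) ▸ hm'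
    · have hnq : q.out ∉ Φ := fun hq => by
        have := Function.minimalPeriod_eq_one_iff_isFixedPt.mpr (show Function.IsFixedPt (z • ·) q.out from hq.1)
        omega
      rw [if_neg hnq, hone]
      convert M.one_mem using 1
      exact Subtype.ext (by simp [hm, hz2])
  simp only [hterm]
  rw [Finset.prod_ite, Finset.prod_const_one, mul_one, Finset.prod_const]
  have hcard : (Finset.univ.filter fun q : Quotient (MulAction.orbitRel (Subgroup.zpowers z) (G ⧸ (S : Subgroup G))) => q.out ∈ Φ).card = Nat.card Φ := by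
    rw [← Fintype.card_subtype, ← Nat.card_eq_fintype_card]
    refine Nat.card_eq_of_bijective (fun q => (⟨q.1.out, q.2⟩ : Φ)) ⟨?_, ?_⟩
    · intro q q' h
      exact Subtype.ext (Quotient.out_injective (congrArg Subtype.val h))
    · intro x
      let q : Quotient (MulAction.orbitRel (Subgroup.zpowers z) (G ⧸ (S : Subgroup G))) := Quotient.mk'' x.1
      have hout : q.out = x.1 := by
        have h : MulAction.orbitRel (Subgroup.zpowers z) (G ⧸ (S : Subgroup G)) q.out x.1 :=
          Quotient.mk_out (s := MulAction.orbitRel (Subgroup.zpowers z) (G ⧸ (S : Subgroup G))) x.1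
        obtain ⟨w, hw⟩ := h
        rw [← hw]
        have hzst : z ∈ MulAction.stabilizer G (x.1) := x.2.1
        exact (Subgroup.zpowers_le.mpr hzst) w.2
      exact ⟨⟨q, by rw [hout]; exact x.2⟩, Subtype.ext hout⟩
  rw [hcard]
  have hasq : a ^ 2 = 1 := by
    rw [ha, ← map_pow]
    have : (⟨z, hzS⟩ : ↥(S : Subgroup G)) ^ 2 = 1 := Subtype.ext (by simpa using hz2)
    rw [this, map_one]
  rw [← Nat.mod_add_div (Nat.card Φ) 2, hodd, pow_add, pow_one, pow_mul, hasq, one_pow, mul_one]
  exact hfz

end Cfsg.Agent.S2872
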