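import Cfsg.Statements.S2873
import Cfsg.Agent.Lib.Cores.Basic
import Mathlib.GroupTheory.SpecificGroups.Dihedral
import Mathlib.Tactic

set_option autoImplicit false
open Cfsg

namespace Cfsg.Agent.S2873

/-- Let G be a finite group and r an odd prime such that G ⧸ O₂(G) is dihedral of order 2r, and let R be a Sylow r-subgroup of G with C_{O₂(G)}(R) = 1. Then N_G(R) is dihedral of order 2r; for any involution a of N_G(R), every involution of G outside O₂(G) is conjugate to a; and |C_{O₂(G)}(a)|² = |O₂(G)|. -/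
theorem result {G : Type*} [Group G] [Finite G] {r : ℕ} [Fact r.Prime] (hr : r ≠ 2) [hN : (Cfsg.pCore 2 G).Normal] (hquot : Nonempty (G ⧸ Cfsg.pCore 2 G ≃* DihedralGroup r)) (R : Sylow r G) (hC : Cfsg.pCore 2 G ⊓ Subgroup.centralizer ((R : Subgroup G) : Set G) = ⊥) : Nonempty (↥(Subgroup.normalizer ((R : Subgroup G) : Set G)) ≃* DihedralGroup r) ∧ ∀ a : G, a ∈ Subgroup.normalizer ((R : Subgroup G) : Set G) → orderOf a = 2 → (∀ b : G, orderOf b = 2 → b ∉ Cfsg.pCore 2 G → ∃ g : G, g * a * g⁻¹ = b) ∧ Nat.card ↥(Cfsg.pCore 2 G ⊓ Subgroup.centralizer ({a} : Set G)) ^ 2 = Nat.card ↥(Cfsg.pCore 2 G) := by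
  obtain ⟨e⟩ := hquot
  set Q := Cfsg.pCore 2 G with hQ
  set π : G →* DihedralGroup r := e.toMonoidHom.comp (QuotientGroup.mk' Q) with hπ
  have hπQ : ∀ x, π x = 1 ↔ x ∈ Q := fun x => by
    show e (QuotientGroup.mk' Q x) = 1 ↔ _
    rw [map_eq_one_iff e e.injective]
    exact QuotientGroup.eq_one_iff x
  have hπs : Function.Surjective π := e.surjective.comp (QuotientGroup.mk'_surjective Q)
  haveI : Fact (Nat.Prime 2) := ⟨Nat.prime_two⟩
  have hQ2 : IsPGroup 2 ↥Q := CfsgLib.Cores.isPGroup_pCore 2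
  obtain ⟨m, hm⟩ := hQ2.exists_card_eq
  have hGcard : Nat.card G = 2 ^ (m + 1) * r := by
    rw [← Subgroup.card_mul_index Q, hm, Subgroup.index_eq_card, Nat.card_congr e.toEquiv,
      DihedralGroup.nat_card, pow_succ]
    ring
  have h2r : ¬ r ∣ 2 := fun h => hr ((Nat.prime_dvd_prime_iff_eq Fact.out Nat.prime_two).1 h)
  have hRcard : Nat.card (R : Subgroup G) = r := by
    rw [Sylow.card_eq_multiplicity, hGcard, Nat.factorization_mul (pow_ne_zero _ two_ne_zero) (Nat.Prime.ne_zero Fact.out),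
      Finsupp.add_apply, Nat.factorization_eq_zero_of_not_dvd (fun h => h2r ((Fact.out : r.Prime).dvd_of_dvd_pow h)),
      zero_add, Nat.Prime.factorization_self Fact.out, pow_one]
  set N := Subgroup.normalizer ((R : Subgroup G) : Set G) with hN
  have hQR : ∀ x, x ∈ Q → x ∈ (R : Subgroup G) → x = 1 := fun x hx hx' => by
    have h1 := Subgroup.orderOf_dvd_natCard Q hx
    have h2 := Subgroup.orderOf_dvd_natCard (R : Subgroup G) hx'
    rw [hm] at h1; rw [hRcard] at h2
    exact orderOf_eq_one_iff.1 (Nat.eq_one_of_dvd_coprimes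
      (Nat.Coprime.pow_left m ((Nat.prime_two.coprime_iff_not_dvd).2 fun h =>
        hr ((Nat.prime_dvd_prime_iff_eq Nat.prime_two Fact.out).1 h).symm)) h1 h2)
  have hNQ : ∀ x, x ∈ Q → x ∈ N → x = 1 := fun x hx hxN => by
    refine (Subgroup.eq_bot_iff_forall _).1 hC x (Subgroup.mem_inf.2 ⟨hx, Subgroup.mem_centralizer_iff.2 fun y hy => ?_⟩)
    have h1 : x * y * x⁻¹ * y⁻¹ = 1 := by
      refine hQR _ ?_ (mul_mem ((Subgroup.mem_normalizer_iff.1 hxN y).1 hy) (inv_mem hy))
      rw [show x * y * x⁻¹ * y⁻¹ = x * (y * x⁻¹ * y⁻¹) by group]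
      exact mul_mem hx ((inferInstance : Q.Normal).conj_mem _ (inv_mem hx) y)
    rw [mul_inv_eq_one, mul_inv_eq_iff_eq_mul] at h1
    exact h1.symm
  let φ : N →* DihedralGroup r := π.comp N.subtype
  have hφi : Function.Injective φ := by
    rw [injective_iff_map_eq_one]
    exact fun x hx => Subtype.ext (hNQ x ((hπQ x).1 hx) x.2)
  have hφs : Function.Surjective φ := by
    set Rot := Subgroup.zpowers (DihedralGroup.r (1 : ZMod r)) with hRot
    have hidx : Rot.index = 2 := by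
      have h := Subgroup.card_mul_index Rot
      rw [hRot, Nat.card_zpowers, DihedralGroup.orderOf_r_one, DihedralGroup.nat_card, mul_comm 2] at h
      exact Nat.eq_of_mul_eq_mul_left (Fact.out : r.Prime).pos h
    haveI : Rot.Normal := Subgroup.normal_of_index_eq_two hidx
    set A := Rot.comap π
    haveI : A.Normal := (inferInstance : Rot.Normal).comap π
    have hAidx : A.index = 2 := by rw [Subgroup.index_comap_of_surjective _ hπs, hidx]
    have hRA : (R : Subgroup G) ≤ A := fun x hx => by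
      have h1 := Subgroup.pow_mem A (Subgroup.sq_mem_of_index_two hAidx x) ((r + 1) / 2)
      have h2 : x ^ r = 1 := by
        rw [← hRcard]
        exact orderOf_dvd_iff_pow_eq_one.1 (Subgroup.orderOf_dvd_natCard _ hx)
      have hodd : 2 * ((r + 1) / 2) = r + 1 :=
        Nat.two_mul_div_two_of_even ((Fact.out : r.Prime).odd_of_ne_two hr).add_one
      rwa [← pow_mul, hodd, pow_succ, h2, one_mul] at h1
    have htop := Sylow.normalizer_sup_eq_top (R.subtype hRA)
    rw [show ((R.subtype hRA : Sylow r A) : Subgroup A).map A.subtype = (R : Subgroup G) from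
      (Subgroup.subgroupOf_map_subtype _ _).trans (inf_of_le_left hRA)] at htop
    rw [← MonoidHom.range_eq_top, MonoidHom.range_comp, Subgroup.range_subtype]
    refine eq_top_iff.2 fun y _ => ?_
    -- the image of `N` contains a generating rotation
    have hrot : DihedralGroup.r (1 : ZMod r) ∈ N.map π := by
      have hle : (R : Subgroup G).map π ≤ Rot := fun z ⟨x, hx, hxz⟩ => hxz ▸ hRA hx
      have hcard : Nat.card ((R : Subgroup G).map π) = r := by
        have hinj : Function.Injective (π.comp (R : Subgroup G).subtype) := by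
          rw [injective_iff_map_eq_one]
          exact fun x hx => Subtype.ext (hQR x ((hπQ x).1 hx) x.2)
        rw [show (R : Subgroup G).map π = (π.comp (R : Subgroup G).subtype).range by
          rw [MonoidHom.range_comp, Subgroup.range_subtype],
          ← Nat.card_congr (MonoidHom.ofInjective hinj).toEquiv, hRcard]
      have heq := Subgroup.eq_of_le_of_card_ge hle (by
        rw [hcard, hRot, Nat.card_zpowers, DihedralGroup.orderOf_r_one])
      exact Subgroup.map_mono Subgroup.le_normalizer (heq.ge (Subgroup.mem_zpowers _))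
    obtain ⟨g, rfl⟩ := hπs y
    have hg : g ∈ N ⊔ A := htop ▸ Subgroup.mem_top g
    rw [Subgroup.mem_sup_of_normal_right] at hg
    obtain ⟨n, hn, a, ha, rfl⟩ := hg
    rw [map_mul]
    refine mul_mem ⟨n, hn, rfl⟩ ?_
    exact (Subgroup.zpowers_le.2 hrot) ha
  have eN : N ≃* DihedralGroup r := MulEquiv.ofBijective φ ⟨hφi, hφs⟩
  refine ⟨⟨eN⟩, fun a haN ha2 => ?_⟩
  -- a generator `c` of `R` inverted by `a`
  have hao : orderOf (φ ⟨a, haN⟩) = 2 := by
    rw [orderOf_injective φ hφi, Subgroup.orderOf_mk, ha2]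
  obtain ⟨⟨c, hcN⟩, hc⟩ := hφs (DihedralGroup.r 1)
  obtain ⟨i, hi⟩ : ∃ i, φ ⟨a, haN⟩ = DihedralGroup.sr i := by
    rcases h : φ ⟨a, haN⟩ with j | j
    · exfalso
      rw [h] at hao
      by_cases hj : j = 0
      · rw [hj, ← DihedralGroup.one_def, orderOf_one] at hao; exact absurd hao (by norm_num)
      · rw [DihedralGroup.orderOf_r, Nat.Coprime.gcd_eq_one (((Fact.out : r.Prime).coprime_iff_not_dvd).2
          fun hd => hj (by
            have h0 := Nat.eq_zero_of_dvd_of_lt hd (ZMod.val_lt j)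
            exact (ZMod.val_eq_zero j).1 h0)), Nat.div_one] at hao
        exact hr hao
    · exact ⟨j, rfl⟩
  have hπc : π c = DihedralGroup.r 1 := hc
  have hπa : π a = DihedralGroup.sr i := hi
  have hac : a * c * a⁻¹ = c⁻¹ := congrArg Subtype.val (hφi (by
    rw [map_mul, map_mul, map_inv, map_inv, hc, hi]
    simp : φ (⟨a, haN⟩ * ⟨c, hcN⟩ * ⟨a, haN⟩⁻¹) = φ (⟨c, hcN⟩⁻¹)))
  have hCc : ∀ q ∈ Q, c * q = q * c → q = 1 := by
    intro q hq hcq
    refine (Subgroup.eq_bot_iff_forall _).1 hC q (Subgroup.mem_inf.2 ⟨hq, Subgroup.mem_centralizer_iff.2 fun y hy => ?_⟩)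
    have hyz : (⟨y, Subgroup.le_normalizer hy⟩ : N) ∈ Subgroup.zpowers (⟨c, hcN⟩ : N) := by
      have hy' : ∃ j : ℤ, φ ⟨y, Subgroup.le_normalizer hy⟩ = φ ⟨c, hcN⟩ ^ j := by
        rcases h : φ ⟨y, Subgroup.le_normalizer hy⟩ with j | j
        · exact ⟨(j.val : ℤ), by rw [hc]; simp⟩
        · exfalso
          have h1 : orderOf (φ ⟨y, Subgroup.le_normalizer hy⟩) ∣ r :=
            (orderOf_map_dvd φ _).trans (by
              rw [Subgroup.orderOf_mk]; exact hRcard ▸ Subgroup.orderOf_dvd_natCard _ hy)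
          rw [h, DihedralGroup.orderOf_sr] at h1
          exact hr ((Nat.prime_dvd_prime_iff_eq Nat.prime_two Fact.out).1 h1).symm
      obtain ⟨j, hj⟩ := hy'
      exact ⟨j, hφi (by rw [map_zpow, hj])⟩
    obtain ⟨j, hj⟩ := hyz
    have hj' : c ^ j = y := congrArg Subtype.val hj
    rw [← hj']
    exact ((show Commute c q from hcq).zpow_left j).eq
  -- `q ↦ q c q⁻¹` is a bijection from `Q` onto the coset `c Q`
  have hQn : ∀ q ∈ Q, ∀ g : G, g * q * g⁻¹ ∈ Q := fun q hq g => (inferInstance : Q.Normal).conj_mem q hq g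
  have hconj : ∀ z, c⁻¹ * z ∈ Q → ∃ q ∈ Q, q * c * q⁻¹ = z := by
    let F : Q → Q := fun q => ⟨c⁻¹ * ((q : G) * c * (q : G)⁻¹), by
      rw [show c⁻¹ * ((q : G) * c * (q : G)⁻¹) = c⁻¹ * (q : G) * c⁻¹⁻¹ * (q : G)⁻¹ by group]
      exact mul_mem (hQn q q.2 c⁻¹) (inv_mem q.2)⟩
    have hF : Function.Surjective F := Finite.injective_iff_surjective.1 fun p q h => by
      have h1 : (p : G) * c * (p : G)⁻¹ = q * c * (q : G)⁻¹ := mul_left_cancel (congrArg Subtype.val h)
      have h3 := hCc ((q : G)⁻¹ * p) (mul_mem (inv_mem q.2) p.2) (by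
        calc c * ((q : G)⁻¹ * p) = (q : G)⁻¹ * ((q : G) * c * (q : G)⁻¹) * p := by group
          _ = (q : G)⁻¹ * ((p : G) * c * (p : G)⁻¹) * p := by rw [h1]
          _ = (q : G)⁻¹ * p * c := by group)
      exact Subtype.ext (inv_mul_eq_one.1 h3).symm
    intro z hz
    obtain ⟨q, hq⟩ := hF ⟨c⁻¹ * z, hz⟩
    exact ⟨q, q.2, mul_left_cancel (congrArg Subtype.val hq)⟩
  set a' := a * c with ha'
  have haa : a * a = 1 := by rw [← pow_two, ← ha2]; exact pow_orderOf_eq_one a
  -- every pair of involutions in `aQ`, `a'Q` is simultaneously conjugate to `(a, a')`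
  have hpair : ∀ b b' : G, b * b = 1 → b' * b' = 1 → a⁻¹ * b ∈ Q → a'⁻¹ * b' ∈ Q →
      ∃ q ∈ Q, q * a * q⁻¹ = b ∧ q * a' * q⁻¹ = b' := by
    intro b b' hb hb' hab hab'
    have hz : c⁻¹ * (b * b') ∈ Q := by
      rw [← hπQ, map_mul, map_inv, map_mul]
      have e1 : π b = π a := by
        have := (hπQ _).2 hab; rw [map_mul, map_inv] at this; exact (inv_mul_eq_one.1 this).symm
      have e2 : π b' = π a' := by
        have := (hπQ _).2 hab'; rw [map_mul, map_inv] at this; exact (inv_mul_eq_one.1 this).symm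
      rw [e1, e2, ← map_mul π a, ha', ← mul_assoc a, haa, one_mul, inv_mul_cancel]
    obtain ⟨q, hq, hqc⟩ := hconj _ hz
    refine ⟨q, hq, ?_⟩
    have hbinv : b * (b * b') * b⁻¹ = (b * b')⁻¹ := by
      rw [mul_inv_rev, inv_eq_of_mul_eq_one_right hb', inv_eq_of_mul_eq_one_right hb, ← mul_assoc, hb, one_mul]
    set x := a⁻¹ * (q⁻¹ * b * q) with hx
    have hxQ : x ∈ Q := by
      rw [hx, show a⁻¹ * (q⁻¹ * b * q) = a⁻¹ * q⁻¹ * a⁻¹⁻¹ * (a⁻¹ * b) * q by group]
      exact mul_mem (mul_mem (hQn _ (inv_mem hq) a⁻¹) hab) hq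
    have hbc : (q⁻¹ * b * q) * c * (q⁻¹ * b * q)⁻¹ = c⁻¹ := by
      rw [← hqc] at hbinv
      calc (q⁻¹ * b * q) * c * (q⁻¹ * b * q)⁻¹ = q⁻¹ * (b * (q * c * q⁻¹) * b⁻¹) * q := by group
        _ = c⁻¹ := by rw [hbinv]; group
    have hx1 : x = 1 := by
      refine hCc x hxQ ?_
      rw [show q⁻¹ * b * q = a * x by rw [hx]; group] at hbc
      have h4 : a * (x * c * x⁻¹) * a⁻¹ = a * c * a⁻¹ := by
        rw [hac, show a * (x * c * x⁻¹) * a⁻¹ = a * x * c * (a * x)⁻¹ by group, hbc]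
      exact (mul_inv_eq_iff_eq_mul.1 (mul_left_cancel (mul_right_cancel h4))).symm
    have h5 : q * a * q⁻¹ = b := by
      rw [hx, inv_mul_eq_one] at hx1
      rw [hx1]; group
    refine ⟨h5, ?_⟩
    rw [ha', show q * (a * c) * q⁻¹ = (q * a * q⁻¹) * (q * c * q⁻¹) by group, h5, hqc, ← mul_assoc, hb, one_mul]
  have ha'2 : a' * a' = 1 := by
    rw [ha', show a * c * (a * c) = (a * c * a⁻¹) * (a * a) * c by group, hac, haa, mul_one, inv_mul_cancel]
  refine ⟨fun b hb hbQ => ?_, ?_⟩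
  · have hbb : b * b = 1 := by rw [← pow_two, ← hb]; exact pow_orderOf_eq_one b
    obtain ⟨j, hj⟩ : ∃ j, π b = DihedralGroup.sr j := by
      rcases h : π b with j | j
      · exfalso
        have h1 : π b * π b = 1 := by rw [← map_mul, hbb, map_one]
        rw [h, DihedralGroup.r_mul_r, DihedralGroup.one_def, DihedralGroup.r.injEq] at h1
        have h2 : ((2 : ℕ) : ZMod r) * j = 0 := by push_cast; linear_combination h1
        rcases mul_eq_zero.1 h2 with h3 | h3
        · rw [ZMod.natCast_eq_zero_iff] at h3; exact h2r h3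
        · exact hbQ ((hπQ b).1 (by rw [h, h3, DihedralGroup.one_def]))
      · exact ⟨j, rfl⟩
    have h2ne : (2 : ZMod r) ≠ 0 := fun h => h2r ((ZMod.natCast_eq_zero_iff 2 r).1 (by exact_mod_cast h))
    obtain ⟨g, hg⟩ := hπs (DihedralGroup.r ((j - i) / 2))
    have hgb : a⁻¹ * (g * b * g⁻¹) ∈ Q := by
      rw [← hπQ, map_mul, map_inv, map_mul, map_mul, map_inv, hπa, hj, hg]
      simp only [DihedralGroup.r_mul_sr, DihedralGroup.inv_r, DihedralGroup.sr_mul_r, DihedralGroup.inv_sr,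
        DihedralGroup.sr_mul_sr, DihedralGroup.one_def, DihedralGroup.r.injEq]
      field_simp
      ring
    obtain ⟨q, -, hq, -⟩ := hpair (g * b * g⁻¹) a' (by
      rw [show g * b * g⁻¹ * (g * b * g⁻¹) = g * (b * b) * g⁻¹ by group, hbb, mul_one, mul_inv_cancel])
      ha'2 hgb (by rw [inv_mul_cancel]; exact one_mem Q)
    exact ⟨g⁻¹ * q, by rw [show g⁻¹ * q * a * (g⁻¹ * q)⁻¹ = g⁻¹ * (q * a * q⁻¹) * g by group, hq]; group⟩
  -- counting
  set Ca := (Subgroup.centralizer ({a} : Set G)).subgroupOf Q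
  set Ca' := (Subgroup.centralizer ({a'} : Set G)).subgroupOf Q
  have hinj : Function.Injective (fun q : Q => ((QuotientGroup.mk q : Q ⧸ Ca), (QuotientGroup.mk q : Q ⧸ Ca'))) := by
    intro p q h
    simp only [Prod.mk.injEq, QuotientGroup.eq] at h
    have h1 : Commute ((p⁻¹ * q : Q) : G) a := Subgroup.mem_centralizer_singleton_iff.1 h.1
    have h2 : Commute ((p⁻¹ * q : Q) : G) a' := Subgroup.mem_centralizer_singleton_iff.1 h.2
    have h3 : Commute ((p⁻¹ * q : Q) : G) c := by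
      rw [show c = a⁻¹ * a' by rw [ha']; group]
      exact (h1.inv_right).mul_right h2
    exact inv_mul_eq_one.1 (Subtype.ext (hCc _ (p⁻¹ * q : Q).2 h3.eq.symm) : p⁻¹ * q = 1)
  have hsurj : Function.Surjective (fun q : Q => ((QuotientGroup.mk q : Q ⧸ Ca), (QuotientGroup.mk q : Q ⧸ Ca'))) := by
    rintro ⟨u, v⟩
    induction u using QuotientGroup.induction_on with | H p =>
    induction v using QuotientGroup.induction_on with | H p' =>
    have hmem : ∀ (x : G) (s : Q), x⁻¹ * ((s : G) * x * (s : G)⁻¹) ∈ Q := fun x s => by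
      rw [show x⁻¹ * ((s : G) * x * (s : G)⁻¹) = x⁻¹ * (s : G) * x⁻¹⁻¹ * (s : G)⁻¹ by group]
      exact mul_mem (hQn s s.2 x⁻¹) (inv_mem s.2)
    have hsq : ∀ (x : G) (s : Q), x * x = 1 → (s : G) * x * (s : G)⁻¹ * ((s : G) * x * (s : G)⁻¹) = 1 := fun x s hx => by
      rw [show (s : G) * x * (s : G)⁻¹ * ((s : G) * x * (s : G)⁻¹) = (s : G) * (x * x) * (s : G)⁻¹ by group, hx,
        mul_one, mul_inv_cancel]
    obtain ⟨q, hq, hq1, hq2⟩ := hpair _ _ (hsq a p haa) (hsq a' p' ha'2) (hmem a p) (hmem a' p')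
    have key : ∀ (x : G) (s : Q), q * x * q⁻¹ = (s : G) * x * (s : G)⁻¹ → q⁻¹ * (s : G) ∈ Subgroup.centralizer ({x} : Set G) := by
      intro x s h
      rw [Subgroup.mem_centralizer_singleton_iff]
      calc q⁻¹ * (s : G) * x = q⁻¹ * ((s : G) * x * (s : G)⁻¹) * s := by group
        _ = q⁻¹ * (q * x * q⁻¹) * s := by rw [h]
        _ = x * (q⁻¹ * s) := by group
    exact ⟨⟨q, hq⟩, Prod.ext (QuotientGroup.eq.2 (key a p hq1)) (QuotientGroup.eq.2 (key a' p' hq2))⟩
  have hcard := Nat.card_eq_of_bijective _ ⟨hinj, hsurj⟩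
  rw [Nat.card_prod] at hcard
  -- `a'` is conjugate to `a`
  have hconjcard : Nat.card Ca' = Nat.card Ca := by
    obtain ⟨k, hk⟩ : ∃ k : G, k * a * k⁻¹ = a' := by
      refine ⟨c ^ ((r - 1) / 2), ?_⟩
      have hcr : c ^ r = 1 := congrArg Subtype.val (hφi (by
        rw [map_pow, hc, map_one, DihedralGroup.r_one_pow, ZMod.natCast_self, DihedralGroup.one_def]) :
        (⟨c, hcN⟩ : N) ^ r = 1)
      set n := (r - 1) / 2
      have hn : n + n + 1 = r := by
        obtain ⟨l, hl⟩ := (Fact.out : r.Prime).odd_of_ne_two hr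
        omega
      have hcn : a * c ^ n * a⁻¹ = (c ^ n)⁻¹ := by rw [← conj_pow, hac, inv_pow]
      calc c ^ n * a * (c ^ n)⁻¹ = c ^ n * a * (a * c ^ n * a⁻¹) := by rw [hcn]
        _ = c ^ n * (a * a) * c ^ n * a⁻¹ := by group
        _ = c ^ (n + n) * a⁻¹ := by rw [haa, mul_one, ← pow_add]
        _ = c⁻¹ * a⁻¹ := by
          rw [show c ^ (n + n) = c⁻¹ from (inv_eq_of_mul_eq_one_left (by rw [← pow_succ, hn]; exact hcr)).symm]
        _ = a' := by
          rw [ha', ← mul_inv_rev]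
          exact inv_eq_of_mul_eq_one_right ha'2
    let conjK : Q ≃ Q :=
      { toFun := fun q => ⟨k * q * k⁻¹, hQn q q.2 k⟩
        invFun := fun q => ⟨k⁻¹ * q * k, by simpa using hQn q q.2 k⁻¹⟩
        left_inv := fun q => Subtype.ext (by simp [mul_assoc])
        right_inv := fun q => Subtype.ext (by simp [mul_assoc]) }
    refine (Nat.card_congr (conjK.subtypeEquiv fun q => ?_)).symm
    show (q : G) ∈ Subgroup.centralizer ({a} : Set G) ↔ k * (q : G) * k⁻¹ ∈ Subgroup.centralizer ({a'} : Set G)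
    rw [Subgroup.mem_centralizer_singleton_iff, Subgroup.mem_centralizer_singleton_iff, ← hk]
    constructor
    · intro h
      calc k * (q : G) * k⁻¹ * (k * a * k⁻¹) = k * ((q : G) * a) * k⁻¹ := by group
        _ = k * (a * (q : G)) * k⁻¹ := by rw [h]
        _ = k * a * k⁻¹ * (k * (q : G) * k⁻¹) := by group
    · intro h
      have h' := congrArg (fun z => k⁻¹ * z * k) h
      simpa [mul_assoc] using h'
  have e1 := Subgroup.card_eq_card_quotient_mul_card_subgroup Ca
  have e2 := Subgroup.card_eq_card_quotient_mul_card_subgroup Ca'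
  rw [hconjcard] at e2
  have hCa : Nat.card Ca = Nat.card ↥(Q ⊓ Subgroup.centralizer ({a} : Set G)) := by
    rw [show Ca = (Q ⊓ Subgroup.centralizer ({a} : Set G)).subgroupOf Q from
      (Subgroup.inf_subgroupOf_left _ _).symm]
    exact Nat.card_congr (Subgroup.subgroupOfEquivOfLe inf_le_left).toEquiv
  rw [← hCa]
  refine Nat.eq_of_mul_eq_mul_left (Nat.card_pos (α := Q)) ?_
  calc Nat.card Q * Nat.card Ca ^ 2
      = Nat.card (Q ⧸ Ca) * Nat.card (Q ⧸ Ca') * Nat.card Ca ^ 2 := by rw [hcard]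
    _ = (Nat.card (Q ⧸ Ca) * Nat.card Ca) * (Nat.card (Q ⧸ Ca') * Nat.card Ca) := by ring
    _ = Nat.card Q * Nat.card Q := by rw [← e1, ← e2]

end Cfsg.Agent.S2873
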