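import Cfsg.Statements.S2874
import Mathlib.GroupTheory.SpecificGroups.Alternating
import Mathlib.LinearAlgebra.Matrix.GeneralLinearGroup.Defs
import Mathlib.Tactic

set_option autoImplicit false
open Cfsg

namespace Cfsg.Agent.S2874

section

open Matrix

variable {k : ℕ}

local notation "M2" => Matrix (Fin 2) (Fin 2) (ZMod (2 ^ k))
local notation "M2'" => Matrix (Fin 2) (Fin 2) (ZMod 2)

/-- Reduction of matrices modulo two. -/
private noncomputable def red (hk : k ≠ 0) : M2 →+* M2' :=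
  (ZMod.castHom (dvd_pow_self 2 hk) (ZMod 2)).mapMatrix

private theorem red_apply (hk : k ≠ 0) (X : M2) (i j : Fin 2) :
    red hk X i j = ZMod.castHom (dvd_pow_self 2 hk) (ZMod 2) (X i j) := rfl

private theorem cast_eq_zero_iff (hk : k ≠ 0) (x : ZMod (2 ^ k)) :
    ZMod.castHom (dvd_pow_self 2 hk) (ZMod 2) x = 0 ↔ ∃ y, x = 2 * y := by
  constructor
  · intro h
    have : NeZero (2 ^ k) := ⟨by positivity⟩
    rw [ZMod.castHom_apply, ZMod.cast_eq_val, ZMod.natCast_eq_zero_iff] at h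
    obtain ⟨c, hc⟩ := h
    exact ⟨(c : ZMod (2 ^ k)), by rw [← ZMod.natCast_zmod_val x, hc]; push_cast; rfl⟩
  · rintro ⟨y, rfl⟩
    rw [map_mul, map_ofNat]
    exact mul_eq_zero_of_left (by decide) _

private theorem exists_two_smul (hk : k ≠ 0) {X : M2} (h : red hk X = 0) :
    ∃ Y : M2, X = (2 : ZMod (2 ^ k)) • Y := by
  have h' : ∀ i j, ∃ y, X i j = 2 * y := fun i j =>
    (cast_eq_zero_iff hk _).1 (by rw [← red_apply hk, h]; rfl)
  choose f hf using h'
  exact ⟨Matrix.of f, by ext i j; simp [hf]⟩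

private theorem red_two_smul (hk : k ≠ 0) (X : M2) : red hk ((2 : ZMod (2 ^ k)) • X) = 0 := by
  ext i j
  rw [red_apply]
  exact (cast_eq_zero_iff hk _).2 ⟨X i j, rfl⟩

private theorem red_two_pow_smul (hk : k ≠ 0) {n : ℕ} (hn : n ≠ 0) (X : M2) :
    red hk ((2 : ZMod (2 ^ k)) ^ n • X) = 0 := by
  obtain ⟨m, rfl⟩ := Nat.exists_eq_succ_of_ne_zero hn
  rw [pow_succ', mul_smul, red_two_smul]

private theorem red_eq_zero_of_smul (hk : k ≠ 0) {j : ℕ} (hj : j < k) {X : M2}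
    (h : (2 : ZMod (2 ^ k)) ^ j • X = 0) : red hk X = 0 := by
  ext a b
  rw [red_apply]
  have : NeZero (2 ^ k) := ⟨by positivity⟩
  have h' : (2 : ZMod (2 ^ k)) ^ j * X a b = 0 := congrFun (congrFun h a) b
  rw [← ZMod.natCast_zmod_val (X a b)] at h' ⊢
  have h'' : ((2 ^ j * (X a b).val : ℕ) : ZMod (2 ^ k)) = 0 := by push_cast; exact h'
  rw [ZMod.natCast_eq_zero_iff] at h''
  have h4 : 2 ^ j * 2 ^ (k - j) ∣ 2 ^ j * (X a b).val := by
    rwa [← pow_add, Nat.add_sub_cancel' hj.le]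
  have h3 := Nat.dvd_of_mul_dvd_mul_left (by positivity) h4
  rw [map_natCast]
  exact (ZMod.natCast_eq_zero_iff _ _).2 ((dvd_pow_self 2 (by omega)).trans h3)

private theorem two_pow_eq_zero {n : ℕ} (h : k ≤ n) : (2 : ZMod (2 ^ k)) ^ n = 0 := by
  have : ((2 ^ k : ℕ) : ZMod (2 ^ k)) = 0 := ZMod.natCast_self _
  rw [← Nat.add_sub_cancel' h, pow_add]
  push_cast at this
  rw [this, zero_mul]

/-- The congruence kernel is a `2`-group. -/
private theorem pow_eq_one_of_red (hk : k ≠ 0) {A : M2} (hA : red hk A = 1) : A ^ 2 ^ k = 1 := by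
  have key : ∀ i, ∃ Z : M2, A ^ 2 ^ i = 1 + (2 : ZMod (2 ^ k)) ^ (i + 1) • Z := by
    intro i
    induction i with
    | zero =>
      obtain ⟨Y, hY⟩ := exists_two_smul hk (X := A - 1) (by rw [map_sub, hA, map_one, sub_self])
      exact ⟨Y, by rw [pow_zero, pow_one, pow_one, ← hY]; abel⟩
    | succ i ih =>
      obtain ⟨Z, hZ⟩ := ih
      refine ⟨Z + (2 : ZMod (2 ^ k)) ^ i • (Z * Z), ?_⟩
      rw [pow_succ 2 i, pow_mul, hZ, pow_two]
      simp only [add_mul, mul_add, one_mul, mul_one, smul_mul_assoc, mul_smul_comm, smul_smul, smul_add]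
      rw [show (2 : ZMod (2 ^ k)) ^ (i + 1) * 2 ^ (i + 1) = 2 ^ (i + 1 + 1) * 2 ^ i by ring,
        show (2 : ZMod (2 ^ k)) ^ (i + 1 + 1) = 2 ^ (i + 1) + 2 ^ (i + 1) by ring, add_smul]
      abel
  obtain ⟨Z, hZ⟩ := key k
  rw [hZ, two_pow_eq_zero (by omega), zero_smul, add_zero]

private theorem decide_idem : ∀ Y : M2', Y * Y = Y →
    Y + !![0, 1; 1, 1] * Y * (!![1, 1; 1, 0]) + (!![1, 1; 1, 0]) * Y * !![0, 1; 1, 1] = 0 → Y = 0 := by decide

private theorem decide_three : ∀ x : M2', x * x * x = 1 → x ≠ 1 →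
    x 1 0 = 1 ∧ (x * x + x + 1 = 0) := by decide

private theorem decide_three_inv : ∀ x g : M2', x * x * x = 1 → x ≠ 1 → g * g = 1 →
    g * (x * g * (x * x)) * (x * x * g * x) = 1 → g = 1 := by decide

/-- The matrices modulo two with vanishing orbit sum under the element of order three. -/
private abbrev OrbitZero := {Y : M2' //
  Y + !![0, 1; 1, 1] * Y * (!![1, 1; 1, 0]) + (!![1, 1; 1, 0]) * Y * !![0, 1; 1, 1] = 0}

private theorem card_orbitZero : Fintype.card OrbitZero = 4 := by decide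

private theorem isUnit_of_cast_eq_one (hk : k ≠ 0) {x : ZMod (2 ^ k)}
    (h : ZMod.castHom (dvd_pow_self 2 hk) (ZMod 2) x = 1) : IsUnit x := by
  obtain ⟨y, hy⟩ := (cast_eq_zero_iff hk (x - 1)).1 (by rw [map_sub, h, map_one, sub_self])
  have hnil : IsNilpotent (2 * y) :=
    ⟨k, by rw [mul_pow, two_pow_eq_zero le_rfl, zero_mul]⟩
  have := hnil.isUnit_add_one
  rwa [← hy, sub_add_cancel] at this

/-- The element of order three. -/
private def om : GL (Fin 2) (ZMod (2 ^ k)) :=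
  ⟨!![0, -1; 1, -1], !![-1, 1; -1, 0], by simp [Matrix.one_fin_two], by simp [Matrix.one_fin_two]⟩

private theorem red_om (hk : k ≠ 0) :
    red hk (om (k := k)).1 = !![0, 1; 1, 1] ∧
    red hk ((om (k := k))⁻¹).1 = !![1, 1; 1, 0] := by
  constructor <;> ext i j <;> fin_cases i <;> fin_cases j <;>
    simp [red_apply, om, Units.inv_mk, map_neg, map_one, -ZMod.castHom_apply, ZMod.neg_eq_self_mod_two]

/-- An involution with vanishing orbit product under `om` is congruent to one modulo `2 ^ (k - 1)`. -/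
private theorem exists_level (hk : 2 ≤ k) {v : GL (Fin 2) (ZMod (2 ^ k))} (h1 : v * v = 1)
    (h3 : v * (om * v * om⁻¹) * (om⁻¹ * v * om) = 1) (hv : red (k := k) (by omega) v.1 = 1) :
    ∃ Y : M2, v.1 = 1 + (2 : ZMod (2 ^ k)) ^ (k - 1) • Y ∧
      red (k := k) (by omega) Y + !![0, 1; 1, 1] * red (k := k) (by omega) Y * !![1, 1; 1, 0] +
        !![1, 1; 1, 0] * red (k := k) (by omega) Y * !![0, 1; 1, 1] = 0 := by
  have hk0 : k ≠ 0 := by omega
  set O : M2 := (om (k := k)).1 with hO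
  set O' : M2 := ((om (k := k))⁻¹).1 with hO'
  have hOO : O * O' = 1 := (om (k := k)).mul_inv
  have hO'O : O' * O = 1 := (om (k := k)).inv_mul
  obtain ⟨ho, ho'⟩ := red_om (k := k) hk0
  have hsum : ∀ (j : ℕ) (Y : M2), 1 ≤ j → j < k → v.1 = 1 + (2 : ZMod (2 ^ k)) ^ j • Y →
      red hk0 Y + !![0, 1; 1, 1] * red hk0 Y * !![1, 1; 1, 0] +
        !![1, 1; 1, 0] * red hk0 Y * !![0, 1; 1, 1] = 0 := by
    intro j Y hj1 hj hY
    set B := O * Y * O' with hB
    set C := O' * Y * O with hC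
    have hb : (om * v * om⁻¹ : GL (Fin 2) (ZMod (2 ^ k))).1 = 1 + (2 : ZMod (2 ^ k)) ^ j • B := by
      rw [Units.val_mul, Units.val_mul, hY, ← hO, ← hO', mul_add, mul_one, add_mul, hOO, mul_smul_comm,
        smul_mul_assoc]
    have hc : (om⁻¹ * v * om : GL (Fin 2) (ZMod (2 ^ k))).1 = 1 + (2 : ZMod (2 ^ k)) ^ j • C := by
      rw [Units.val_mul, Units.val_mul, hY, ← hO, ← hO', mul_add, mul_one, add_mul, hO'O, mul_smul_comm,
        smul_mul_assoc]
    have h := congrArg Units.val h3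
    rw [Units.val_mul, Units.val_mul, hY, hb, hc, Units.val_one] at h
    set c := (2 : ZMod (2 ^ k)) ^ j with hcdef
    have e : (1 + c • Y) * (1 + c • B) * (1 + c • C) =
        1 + c • ((Y + B + C) + c • (Y * B + Y * C + B * C + c • (Y * B * C))) := by
      simp only [add_mul, mul_add, one_mul, mul_one, smul_mul_assoc, mul_smul_comm, smul_add, smul_smul]
      abel
    rw [e, add_eq_left] at h
    have h' := red_eq_zero_of_smul hk0 hj h
    rw [map_add, hcdef, red_two_pow_smul hk0 (by omega), add_zero, map_add, map_add, hB, hC, map_mul,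
      map_mul, map_mul, map_mul, hO, hO', ho, ho'] at h'
    exact h'
  have key : ∀ j, j + 1 ≤ k - 1 → ∃ Y : M2, v.1 = 1 + (2 : ZMod (2 ^ k)) ^ (j + 1) • Y := by
    intro j
    induction j with
    | zero =>
      intro _
      obtain ⟨Y, hY⟩ := exists_two_smul hk0 (X := v.1 - 1) (by rw [map_sub, hv, map_one, sub_self])
      exact ⟨Y, by rw [pow_one, ← hY]; abel⟩
    | succ j ih =>
      intro hj
      obtain ⟨Y, hY⟩ := ih (by omega)
      have h := congrArg Units.val h1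
      rw [Units.val_mul, hY, Units.val_one] at h
      have e : (1 + (2 : ZMod (2 ^ k)) ^ (j + 1) • Y) * (1 + (2 : ZMod (2 ^ k)) ^ (j + 1) • Y) =
          1 + (2 : ZMod (2 ^ k)) ^ (j + 1 + 1) • (Y + (2 : ZMod (2 ^ k)) ^ j • (Y * Y)) := by
        simp only [add_mul, mul_add, one_mul, mul_one, smul_mul_assoc, mul_smul_comm, smul_smul, smul_add]
        rw [show (2 : ZMod (2 ^ k)) ^ (j + 1) * 2 ^ (j + 1) = 2 ^ (j + 1 + 1) * 2 ^ j by ring,
          show (2 : ZMod (2 ^ k)) ^ (j + 1 + 1) = 2 ^ (j + 1) + 2 ^ (j + 1) by ring, add_smul]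
        abel
      rw [e, add_eq_left] at h
      have h' := red_eq_zero_of_smul hk0 (by omega) h
      rw [map_add] at h'
      have hY0 : red hk0 Y = 0 := by
        rcases Nat.eq_zero_or_pos j with rfl | hjp
        · rw [pow_zero, one_smul, map_mul] at h'
          refine decide_idem _ ?_ (hsum 1 Y le_rfl (by omega) hY)
          have h2 : ∀ Z : M2', -Z = Z := by decide
          rw [eq_neg_of_add_eq_zero_right h', h2]
        · rwa [red_two_pow_smul hk0 (by omega), add_zero] at h'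
      obtain ⟨Z, hZ⟩ := exists_two_smul hk0 hY0
      exact ⟨Z, by rw [hY, hZ, smul_smul, ← pow_succ]⟩
  obtain ⟨Y, hY⟩ := key (k - 2) (by omega)
  rw [show k - 2 + 1 = k - 1 by omega] at hY
  exact ⟨Y, hY, hsum (k - 1) Y (by omega) (by omega) hY⟩

/-- The canonical four group: `1 + 2^(k-1) Y`. -/
private def W (hk : k ≠ 0) : Set (GL (Fin 2) (ZMod (2 ^ k))) :=
  {v | ∃ Y : M2, v.1 = 1 + (2 : ZMod (2 ^ k)) ^ (k - 1) • Y ∧
    red hk Y + !![0, 1; 1, 1] * red hk Y * !![1, 1; 1, 0] +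
      !![1, 1; 1, 0] * red hk Y * !![0, 1; 1, 1] = 0}

set_option maxRecDepth 20000 in
private theorem a4_orbit : ∃ c : alternatingGroup (Fin 4), c * c * c = 1 ∧ c ≠ 1 ∧
    (∀ v : alternatingGroup (Fin 4), v * v = 1 → v * (c * v * (c * c)) * (c * c * v * c) = 1) ∧
    (∀ h : alternatingGroup (Fin 4), ∃ v : alternatingGroup (Fin 4), v * v = 1 ∧
      (h = v ∨ h = v * c ∨ h = v * (c * c))) ∧
    Fintype.card {v : alternatingGroup (Fin 4) // v * v = 1} = 4 := by
  refine ⟨⟨Equiv.swap 0 1 * Equiv.swap 1 2, Equiv.Perm.mem_alternatingGroup.2 (by decide)⟩, ?_⟩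
  decide

/-- An `A₄` containing a conjugate normal form. -/
private theorem exists_conj_closure (hk : 2 ≤ k) (H : Subgroup (GL (Fin 2) (ZMod (2 ^ k))))
    (h : Nonempty (H ≃* alternatingGroup (Fin 4))) :
    ∃ g : GL (Fin 2) (ZMod (2 ^ k)),
      H.map (MulAut.conj g).toMonoidHom = Subgroup.closure (insert om (W (k := k) (by omega))) := by
  classical
  obtain ⟨e⟩ := h
  have hk0 : k ≠ 0 := by omega
  obtain ⟨c, hc3, hc1, horb, hgen, hcard⟩ := a4_orbit
  set f : alternatingGroup (Fin 4) →* GL (Fin 2) (ZMod (2 ^ k)) := H.subtype.comp e.symm.toMonoidHom with hf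
  have hfinj : Function.Injective f := H.subtype_injective.comp e.symm.injective
  let ρ : GL (Fin 2) (ZMod (2 ^ k)) →* M2' := (red hk0).toMonoidHom.comp (Units.coeHom _)
  set x := f c with hx
  have hx3 : x * x * x = 1 := by rw [hx, ← map_mul, ← map_mul, hc3, map_one]
  have hρx3 : ρ x * ρ x * ρ x = 1 := by rw [← map_mul, ← map_mul, hx3, map_one]
  have hρx1 : ρ x ≠ 1 := by
    intro h
    have h1 : x.1 ^ 2 ^ k = 1 := pow_eq_one_of_red hk0 h
    have h2 : orderOf x ∣ 2 ^ k := orderOf_dvd_of_pow_eq_one (Units.ext (by simpa using h1))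
    have h3 : orderOf x ∣ 3 := orderOf_dvd_of_pow_eq_one (by rw [pow_succ, pow_two]; exact hx3)
    have h4 := Nat.eq_one_of_dvd_coprimes (Nat.Coprime.pow_left k (by decide : Nat.Coprime 2 3)) h2 h3
    exact hc1 (hfinj (by rw [← hx, orderOf_eq_one_iff.1 h4, map_one]))
  obtain ⟨hx10, hsq⟩ := decide_three _ hρx3 hρx1
  -- the quadratic relation
  have hrel : x.1 * x.1 + x.1 + 1 = 0 := by
    have hdet : IsUnit (x.1 - 1).det := by
      refine isUnit_of_cast_eq_one hk0 ?_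
      rw [RingHom.map_det]
      show (red hk0 (x.1 - 1)).det = 1
      rw [map_sub, map_one]
      have key : ∀ y : M2', y * y * y = 1 → y ≠ 1 → (y - 1).det = 1 := by decide
      exact key _ hρx3 hρx1
    obtain ⟨u, hu⟩ := (Matrix.isUnit_iff_isUnit_det _).2 hdet
    have h0 : (u : M2) * (x.1 * x.1 + x.1 + 1) = 0 := by
      rw [hu]
      have h3 : x.1 * x.1 * x.1 = 1 := congrArg Units.val hx3
      simp only [sub_mul, mul_add, one_mul, mul_one]
      rw [← mul_assoc, h3]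
      abel
    have := congrArg (fun z => (↑u⁻¹ : M2) * z) h0
    simpa [← mul_assoc] using this
  -- the base change
  obtain ⟨u, hu⟩ : IsUnit (x.1 1 0) := isUnit_of_cast_eq_one hk0 hx10
  let P : M2 := !![1, x.1 0 0; 0, x.1 1 0]
  have hP : IsUnit P.det := ⟨u, by rw [Matrix.det_fin_two_of]; simp [hu]⟩
  obtain ⟨p, hp⟩ := (Matrix.isUnit_iff_isUnit_det _).2 hP
  have hxP : x * p = p * om := by
    apply Units.ext
    rw [Units.val_mul, Units.val_mul, hp]
    have e00 := congrFun (congrFun hrel 0) 0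
    have e10 := congrFun (congrFun hrel 1) 0
    simp [Matrix.mul_apply, Fin.sum_univ_two] at e00 e10
    ext i j
    fin_cases i <;> fin_cases j <;>
      simp [P, om, Matrix.mul_apply, Fin.sum_univ_two]
    · linear_combination e00
    · linear_combination e10
  set φ := (MulAut.conj p⁻¹).toMonoidHom.comp f with hφ
  have hφinj : Function.Injective φ := (MulAut.conj p⁻¹).injective.comp hfinj
  have hφc : φ c = om := by
    show p⁻¹ * x * p⁻¹⁻¹ = om
    rw [inv_inv, mul_assoc, hxP, inv_mul_cancel_left]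
  have hom3 : (om : GL (Fin 2) (ZMod (2 ^ k))) * om * om = 1 := by
    rw [← hφc, ← map_mul, ← map_mul, hc3, map_one]
  have hominv : (om : GL (Fin 2) (ZMod (2 ^ k))) * om = om⁻¹ := eq_inv_of_mul_eq_one_left hom3
  have hWmem : ∀ v, v * v = 1 → φ v ∈ W (k := k) hk0 := by
    intro v hv
    have hvv : φ v * φ v = 1 := by rw [← map_mul, hv, map_one]
    have h3 : φ v * (om * φ v * om⁻¹) * (om⁻¹ * φ v * om) = 1 := by
      rw [← hominv, ← hφc]
      simp only [← map_mul]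
      rw [horb v hv, map_one]
    refine exists_level hk hvv h3 ?_
    refine decide_three_inv (ρ om) (ρ (φ v)) ?_ ?_ ?_ ?_
    · rw [← map_mul, ← map_mul, hom3, map_one]
    · show red hk0 (om (k := k)).1 ≠ 1
      rw [(red_om hk0).1]
      decide
    · rw [← map_mul, hvv, map_one]
    · simp only [← map_mul]
      rw [hominv, h3, map_one]
  -- all of `W` is covered
  have hW : ∀ w ∈ W (k := k) hk0, ∃ v, v * v = 1 ∧ φ v = w := by
    intro w hw
    choose Y hY hY0 using fun v : {v : alternatingGroup (Fin 4) // v * v = 1} => hWmem v.1 v.2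
    let F : {v : alternatingGroup (Fin 4) // v * v = 1} → OrbitZero := fun v => ⟨red hk0 (Y v), hY0 v⟩
    have hlevel : ∀ A B : M2, red hk0 A = red hk0 B →
        (2 : ZMod (2 ^ k)) ^ (k - 1) • A = (2 : ZMod (2 ^ k)) ^ (k - 1) • B := by
      intro A B hAB
      obtain ⟨Z, hZ⟩ := exists_two_smul hk0 (X := A - B) (by rw [map_sub, hAB, sub_self])
      rw [← sub_eq_zero, ← smul_sub, hZ, smul_smul, ← pow_succ, two_pow_eq_zero (by omega), zero_smul]
    have hF : Function.Injective F := by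
      intro a b hab
      exact Subtype.ext (hφinj (Units.ext (by
        rw [hY a, hY b, hlevel _ _ (congrArg Subtype.val hab)])))
    have hFs := ((Fintype.bijective_iff_injective_and_card F).2 ⟨hF, hcard.trans card_orbitZero.symm⟩).2
    obtain ⟨Z, hZ, hZ0⟩ := hw
    obtain ⟨v, hv⟩ := hFs ⟨red hk0 Z, hZ0⟩
    exact ⟨v.1, v.2, Units.ext (by rw [hY v, hZ, hlevel _ _ (congrArg Subtype.val hv)])⟩
  refine ⟨p⁻¹, le_antisymm ?_ ?_⟩
  · rintro _ ⟨a, ha, rfl⟩
    obtain ⟨v, hv, hcases⟩ := hgen (e ⟨a, ha⟩)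
    have hva : φ (e ⟨a, ha⟩) = (MulAut.conj p⁻¹).toMonoidHom a := by simp [φ, f]
    rw [← hva]
    have hvm : φ v ∈ Subgroup.closure (insert om (W (k := k) hk0)) :=
      Subgroup.subset_closure (Set.mem_insert_of_mem _ (hWmem v hv))
    have hcm : φ c ∈ Subgroup.closure (insert om (W (k := k) hk0)) :=
      Subgroup.subset_closure (hφc ▸ Set.mem_insert _ _)
    rcases hcases with h | h | h <;> rw [h]
    · exact hvm
    · rw [map_mul]; exact mul_mem hvm hcm
    · rw [map_mul, map_mul]; exact mul_mem hvm (mul_mem hcm hcm)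
  · rw [Subgroup.closure_le]
    have hin : ∀ a, φ a ∈ H.map (MulAut.conj p⁻¹).toMonoidHom := fun a => ⟨f a, (e.symm a).2, rfl⟩
    rintro w (rfl | hw)
    · exact hφc ▸ hin c
    · obtain ⟨v, -, rfl⟩ := hW w hw
      exact hin v

end

/-- For k ≥ 2, any two subgroups of GL₂(ℤ/2ᵏℤ) (the automorphism group of the homocyclic group ℤ/2ᵏ × ℤ/2ᵏ) that are isomorphic to the alternating group of degree 4 are conjugate. -/
theorem result (k : ℕ) (hk : 2 ≤ k) (H₁ H₂ : Subgroup (GL (Fin 2) (ZMod (2 ^ k)))) (h₁ : Nonempty (↥H₁ ≃* ↥(alternatingGroup (Fin 4)))) (h₂ : Nonempty (↥H₂ ≃* ↥(alternatingGroup (Fin 4)))) : ∃ g : GL (Fin 2) (ZMod (2 ^ k)), H₂ = H₁.map (MulAut.conj g).toMonoidHom := by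
  obtain ⟨g₁, hg₁⟩ := exists_conj_closure hk H₁ h₁
  obtain ⟨g₂, hg₂⟩ := exists_conj_closure hk H₂ h₂
  refine ⟨g₂⁻¹ * g₁, ?_⟩
  have h := hg₂.trans hg₁.symm
  ext y
  constructor
  · intro hy
    obtain ⟨a, ha, hay⟩ := h.le ⟨y, hy, rfl⟩
    refine ⟨a, ha, ?_⟩
    have hay' : g₁ * a * g₁⁻¹ = g₂ * y * g₂⁻¹ := hay
    show g₂⁻¹ * g₁ * a * (g₂⁻¹ * g₁)⁻¹ = y
    rw [show g₂⁻¹ * g₁ * a * (g₂⁻¹ * g₁)⁻¹ = g₂⁻¹ * (g₁ * a * g₁⁻¹) * g₂ by group, hay']
    group
  · rintro ⟨a, ha, rfl⟩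
    obtain ⟨b, hb, hba⟩ := h.ge ⟨a, ha, rfl⟩
    have hba' : g₂ * b * g₂⁻¹ = g₁ * a * g₁⁻¹ := hba
    show g₂⁻¹ * g₁ * a * (g₂⁻¹ * g₁)⁻¹ ∈ H₂
    rw [show g₂⁻¹ * g₁ * a * (g₂⁻¹ * g₁)⁻¹ = g₂⁻¹ * (g₁ * a * g₁⁻¹) * g₂ by group, ← hba']
    simpa [mul_assoc] using hb

end Cfsg.Agent.S2874
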