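import Cfsg.Statements.S2879
import Cfsg.Agent.Lib.LocalEven.SL2ThreeRecog
import Cfsg.Agent.Lib.LocalEven.CharP
import Cfsg.Agent.Lib.LocalEven.Basic
import Cfsg.Agent.Lib.Solvable.Fitting

set_option autoImplicit false
open Cfsg

namespace Cfsg.Agent.S2879

variable {G : Type*} [Group G] [Finite G]

/-- An element of odd order fixing a `2`-element `u` and moving `r` to `r u` fixes `r`. -/
private theorem eq_one_of_mul {x r u : G} (hx : Odd (orderOf x)) (hxr : x * r * x⁻¹ = r * u)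
    (hxu : Commute x u) {n : ℕ} (hu : orderOf u = 2 ^ n) : u = 1 := by
  have key : ∀ k : ℕ, x ^ k * r * (x ^ k)⁻¹ = r * u ^ k := by
    intro k
    induction k with
    | zero => simp
    | succ k ih =>
      calc x ^ (k + 1) * r * (x ^ (k + 1))⁻¹ = x * (x ^ k * r * (x ^ k)⁻¹) * x⁻¹ := by rw [pow_succ']; group
        _ = x * r * x⁻¹ * (x * u ^ k * x⁻¹) := by rw [ih]; group
        _ = r * u * u ^ k := by rw [hxr, (hxu.pow_right k).eq, mul_inv_cancel_right]
        _ = r * u ^ (k + 1) := by rw [pow_succ', mul_assoc]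
  have h := key (orderOf x)
  rw [pow_orderOf_eq_one, one_mul, inv_one, mul_one, left_eq_mul] at h
  refine orderOf_eq_one_iff.1 ?_
  exact Nat.eq_one_of_dvd_coprimes ((Nat.coprime_two_left.2 hx).pow_left n) (hu ▸ dvd_refl _)
    (orderOf_dvd_of_pow_eq_one h)

/-- An element of odd order normalizing a cyclic `2`-group centralizes it. -/
private theorem commute_of_normalizes {x : G} (hx : Odd (orderOf x)) :
    ∀ (n : ℕ) (d : G), orderOf d = 2 ^ n → x * d * x⁻¹ ∈ Subgroup.zpowers d → Commute x d := by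
  intro n
  induction n with
  | zero =>
    intro d hd _
    rw [pow_zero, orderOf_eq_one_iff] at hd
    rw [hd]; exact Commute.one_right x
  | succ n ih =>
    intro d hd hxd
    obtain ⟨j, hj⟩ := Subgroup.mem_zpowers_iff.1 hxd
    have hd2 : orderOf (d ^ 2) = 2 ^ n := by
      rw [orderOf_pow_of_dvd two_ne_zero (hd ▸ dvd_pow_self 2 n.succ_ne_zero), hd, pow_succ,
        Nat.mul_div_cancel _ two_pos]
    have hc2 : Commute x (d ^ 2) := ih _ hd2 (Subgroup.mem_zpowers_iff.2 ⟨j, by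
      rw [← conj_pow, ← hj, ← zpow_natCast, ← zpow_natCast, ← zpow_mul, ← zpow_mul, mul_comm]⟩)
    set u := d⁻¹ * (x * d * x⁻¹) with hu
    have hud : u = d ^ (j - 1) := by rw [hu, ← hj, zpow_sub, zpow_one]; exact (((Commute.refl d).zpow_left j).inv_right).eq.symm
    have hcd : Commute d u := hud ▸ (Commute.refl d).zpow_right _
    have hu2 : u * u = 1 := by
      have h1 : x * d * x⁻¹ = d * u := by rw [hu]; group
      have h2 : x * (d ^ 2) * x⁻¹ = d ^ 2 := by rw [hc2.eq, mul_inv_cancel_right]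
      rw [← conj_pow, h1, hcd.mul_pow, mul_eq_left, sq] at h2
      exact h2
    have hxu : Commute x u := by
      rcases Int.even_or_odd (j - 1) with ⟨l, hl⟩ | ⟨l, hl⟩
      · rw [hud, hl, ← two_mul, zpow_mul, zpow_two, ← pow_two]
        exact hc2.zpow_right l
      · have h2 : (d ^ 2) ^ (1 + 2 * l) = 1 := by
          rw [← zpow_natCast, ← zpow_mul, show ((2 : ℕ) : ℤ) * (1 + 2 * l) = (j - 1) + (j - 1) by rw [hl]; push_cast; ring,
            zpow_add, ← hud, hu2]
        have hd21 : d ^ 2 = 1 := by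
          rw [← orderOf_eq_one_iff, hd2]
          have h3 : ((2 ^ n : ℕ) : ℤ) ∣ 1 + 2 * l := hd2 ▸ orderOf_dvd_iff_zpow_eq_one.2 h2
          rcases n with _ | n
          · rfl
          · exfalso
            have : (2 : ℤ) ∣ 1 + 2 * l := dvd_trans (by simp [pow_succ]) h3
            omega
        have hud' : u = d := by
          rw [hud, hl, zpow_add, zpow_mul, zpow_one, zpow_two, ← sq, hd21, one_zpow, one_mul]
        exfalso
        have h4 : x * d * x⁻¹ = 1 := by
          have : x * d * x⁻¹ = d * u := by rw [hu]; group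
          rw [this, hud', ← sq, hd21]
        rw [conj_eq_one_iff] at h4
        rw [h4, orderOf_one] at hd
        exact absurd hd.symm (Nat.pow_eq_one.not.2 (by simp))
    obtain ⟨k, -, hk⟩ := (Nat.dvd_prime_pow Nat.prime_two).1
      (orderOf_dvd_of_pow_eq_one (show u ^ 2 ^ 1 = 1 by rw [pow_one, sq, hu2]))
    have := eq_one_of_mul hx (show x * d * x⁻¹ = d * u by rw [hu]; group) hxu hk
    rw [hu, inv_mul_eq_one] at this
    exact (mul_inv_eq_iff_eq_mul.1 this.symm : x * d = d * x)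

/-- `R` has a cyclic subgroup `⟨d⟩` of index two and a self-centralizing action: elements of odd order normalizing
`⟨d⟩` and `R` are trivial. -/
private theorem eq_one_of_odd {R : Subgroup G} {d : G} (hR : IsPGroup 2 ↥R) (hdR : d ∈ R)
    (hidx : (Subgroup.zpowers d).relIndex R ∣ 2) (hCR : Subgroup.centralizer (R : Set G) ≤ R) {y : G}
    (hy : Odd (orderOf y)) (hyR : y ∈ Subgroup.normalizer (R : Set G)) (hyd : y * d * y⁻¹ ∈ Subgroup.zpowers d) :
    y = 1 := by
  obtain ⟨n, hn⟩ := IsPGroup.iff_orderOf.1 hR ⟨d, hdR⟩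
  rw [Subgroup.orderOf_mk] at hn
  have hc : Commute y d := commute_of_normalizes hy n d hn hyd
  have hDR : Subgroup.zpowers d ≤ R := Subgroup.zpowers_le.2 hdR
  have hcy : y ∈ Subgroup.centralizer (R : Set G) := by
    refine Subgroup.mem_centralizer_iff.2 fun r hr => ?_
    have hcD : ∀ z ∈ Subgroup.zpowers d, Commute y z := fun z hz => by
      obtain ⟨j, rfl⟩ := Subgroup.mem_zpowers_iff.1 hz
      exact hc.zpow_right j
    by_cases hrD : r ∈ Subgroup.zpowers d
    · exact ((hcD r hrD).eq).symm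
    have h2 : (Subgroup.zpowers d).relIndex R = 2 := by
      rcases (Nat.dvd_prime Nat.prime_two).1 hidx with h | h
      · exact absurd (Subgroup.relIndex_eq_one.1 h hr) hrD
      · exact h
    have hr' : y * r * y⁻¹ ∈ R := (Subgroup.mem_normalizer_iff.1 hyR r).1 hr
    have hr'D : y * r * y⁻¹ ∉ Subgroup.zpowers d := fun h => hrD (by
      have h5 : y⁻¹ * (y * r * y⁻¹) * y = y * r * y⁻¹ := by
        rw [mul_assoc, ← (hcD _ h).eq, inv_mul_cancel_left]
      rw [show y⁻¹ * (y * r * y⁻¹) * y = r by group] at h5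
      rwa [← h5] at h)
    have hu : r⁻¹ * (y * r * y⁻¹) ∈ Subgroup.zpowers d := by
      have := (Subgroup.mul_mem_iff_of_index_two (H := (Subgroup.zpowers d).subgroupOf R) h2
        (a := ⟨r, hr⟩⁻¹) (b := ⟨y * r * y⁻¹, hr'⟩)).2 (by
          simp only [Subgroup.mem_subgroupOf, inv_mem_iff]
          exact iff_of_false hrD hr'D)
      exact this
    obtain ⟨k, hk⟩ := IsPGroup.iff_orderOf.1 hR ⟨_, hDR hu⟩
    rw [Subgroup.orderOf_mk] at hk
    have h1 := eq_one_of_mul hy (show y * r * y⁻¹ = r * (r⁻¹ * (y * r * y⁻¹)) by group) (hcD _ hu) hk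
    rw [inv_mul_eq_one] at h1
    exact mul_inv_eq_iff_eq_mul.1 h1.symm |>.symm
  obtain ⟨k, hk⟩ := IsPGroup.iff_orderOf.1 hR ⟨y, hCR hcy⟩
  rw [Subgroup.orderOf_mk] at hk
  refine orderOf_eq_one_iff.1 (Nat.eq_one_of_dvd_coprimes ((Nat.coprime_two_left.2 hy).pow_left k) (hk ▸ dvd_refl _) dvd_rfl)

/-- A cyclic subgroup of index two in a dihedral or semidihedral `2`-group. -/
private theorem exists_cyclic_index_two (T : Sylow 2 G)
    (hT : (∃ n : ℕ, 4 ≤ n ∧ Nonempty (↥(T : Subgroup G) ≃* DihedralGroup n)) ∨ Cfsg.IsQuasiDihedral ↥(T : Subgroup G)) :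
    ∃ c ∈ (T : Subgroup G), Nat.card ↥(T : Subgroup G) = orderOf c * 2 ∧ 8 ≤ Nat.card ↥(T : Subgroup G) := by
  rcases hT with ⟨n, hn, ⟨e⟩⟩ | ⟨n, hn, hcard, x, y, hx, -, -⟩
  · refine ⟨e.symm (DihedralGroup.r 1), (e.symm (DihedralGroup.r 1)).2, ?_, ?_⟩
    · rw [Subgroup.orderOf_coe, MulEquiv.orderOf_eq, DihedralGroup.orderOf_r_one, Nat.card_congr e.toEquiv,
        DihedralGroup.nat_card, mul_comm]
    · rw [Nat.card_congr e.toEquiv, DihedralGroup.nat_card]; omega
  · refine ⟨x, x.2, by rw [Subgroup.orderOf_coe, hx, hcard, pow_succ], ?_⟩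
    rw [hcard]
    calc 8 = 2 ^ 3 := by norm_num
      _ ≤ 2 ^ (n + 1) := Nat.pow_le_pow_right two_pos (by omega)

/-- Let G be a finite solvable group with O(G) = 1 whose Sylow 2-subgroup T is dihedral of order at least 8 or semidihedral, with G ≠ T and Z(T) normal in G. Then G has a normal subgroup isomorphic to SL₂(3). -/
theorem result {G : Type*} [Group G] [Finite G] (hsol : IsSolvable G) (hO : Cfsg.oddCore G = ⊥) (T : Sylow 2 G) (hT : (∃ n : ℕ, 4 ≤ n ∧ Nonempty (↥(T : Subgroup G) ≃* DihedralGroup n)) ∨ Cfsg.IsQuasiDihedral ↥(T : Subgroup G)) (hne : (T : Subgroup G) ≠ ⊤) (hZ : ((T : Subgroup G) ⊓ Subgroup.centralizer ((T : Subgroup G) : Set G)).Normal) : ∃ U : Subgroup G, U.Normal ∧ Nonempty (↥U ≃* Matrix.SpecialLinearGroup (Fin 2) (ZMod 3)) := by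
  have h2 : Fact (Nat.Prime 2) := inferInstance
  have := hsol
  have hGs : Group.IsSolvable G := hsol
  set R := Cfsg.pCore 2 G with hRdef
  have hRn : R.Normal := inferInstance
  have hRp : IsPGroup 2 ↥R := CfsgLib.Cores.isPGroup_pCore 2
  have hRT : R ≤ (T : Subgroup G) := CfsgLib.Cores.pCore_le_sylow T
  have hp2 : Cfsg.pPrimeCore 2 G = ⊥ := by
    rw [eq_bot_iff, ← hO]
  have hCR : Subgroup.centralizer (R : Set G) ≤ R := by
    have h := CfsgLib.Solvable.centralizer_fittingSubgroup_le (G := G)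
    rwa [CfsgLib.Solvable.fittingSubgroup_eq_pCore_of_pPrimeCore_eq_bot 2 hp2] at h
  have hnR : ∀ g : G, g ∈ Subgroup.normalizer (R : Set G) := fun g => by
    rw [Subgroup.normalizer_eq_top]; exact Subgroup.mem_top g
  obtain ⟨c, hcT, hcard, h8⟩ := exists_cyclic_index_two T hT
  -- the cyclic subgroup of index at most two in `R`
  obtain ⟨d, hdR, hD⟩ : ∃ d ∈ R, Subgroup.zpowers d = R ⊓ Subgroup.zpowers c := by
    have hcy : IsCyclic ↥(R ⊓ Subgroup.zpowers c) :=
      isCyclic_of_injective _ (Subgroup.inclusion_injective (inf_le_right : R ⊓ Subgroup.zpowers c ≤ Subgroup.zpowers c))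
    obtain ⟨⟨g, hg⟩, hgen⟩ := hcy.exists_generator
    refine ⟨g, hg.1, le_antisymm (Subgroup.zpowers_le.2 hg) fun z hz => ?_⟩
    obtain ⟨j, hj⟩ := Subgroup.mem_zpowers_iff.1 (hgen ⟨z, hz⟩)
    exact Subgroup.mem_zpowers_iff.2 ⟨j, congrArg Subtype.val hj⟩
  have hidx : (Subgroup.zpowers d).relIndex R ∣ 2 := by
    have h1 : (Subgroup.zpowers c).relIndex (T : Subgroup G) = 2 := by
      have h := Subgroup.relIndex_mul_relIndex ⊥ (Subgroup.zpowers c) (T : Subgroup G) bot_le
        (Subgroup.zpowers_le.2 hcT)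
      rw [Subgroup.relIndex_bot_left, Subgroup.relIndex_bot_left, Nat.card_zpowers, hcard] at h
      exact Nat.eq_of_mul_eq_mul_left (orderOf_pos c) h
    rw [hD, Subgroup.inf_relIndex_left]
    have h3 := Subgroup.relIndex_le_of_le_right (H := Subgroup.zpowers c) hRT (by rw [h1]; norm_num)
    rw [h1] at h3
    have h4 : (Subgroup.zpowers c).relIndex R ≠ 0 := Subgroup.index_ne_zero_of_finite
    rcases (by omega : (Subgroup.zpowers c).relIndex R = 1 ∨ (Subgroup.zpowers c).relIndex R = 2) with h | h <;>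
      rw [h] <;> norm_num
  have hodd1 : ∀ y : G, Odd (orderOf y) → y * d * y⁻¹ ∈ Subgroup.zpowers d → y = 1 := fun y hy hyd =>
    eq_one_of_odd hRp hdR hidx hCR hy (hnR y) hyd
  -- an element of odd prime order
  obtain ⟨r, hr, hr2, hrd⟩ : ∃ r : ℕ, r.Prime ∧ r ≠ 2 ∧ r ∣ (T : Subgroup G).index := by
    obtain ⟨r, hr, hrd⟩ := Nat.exists_prime_and_dvd (fun h => hne (Subgroup.index_eq_one.1 h))
    exact ⟨r, hr, fun h => T.not_dvd_index (h ▸ hrd), hrd⟩
  haveI : Fact r.Prime := ⟨hr⟩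
  obtain ⟨x, hxr⟩ := exists_prime_orderOf_dvd_card' r (hrd.trans (Subgroup.index_dvd_card _))
  have hxodd : Odd (orderOf x) := hxr ▸ hr.odd_of_ne_two hr2
  have hx1 : x ≠ 1 := fun h => by rw [h, orderOf_one] at hxr; exact hr.ne_one hxr.symm
  set e := x * d * x⁻¹ with he
  have heR : e ∈ R := hRn.conj_mem d hdR x
  have heD : e ∉ Subgroup.zpowers d := fun h => hx1 (hodd1 x hxodd h)
  have hidx2 : (Subgroup.zpowers d).relIndex R = 2 := by
    rcases (Nat.dvd_prime Nat.prime_two).1 hidx with h | h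
    · exact absurd (Subgroup.relIndex_eq_one.1 h heR) heD
    · exact h
  have hmulD : ∀ a ∈ R, ∀ b ∈ R, (a * b ∈ Subgroup.zpowers d ↔ (a ∈ Subgroup.zpowers d ↔ b ∈ Subgroup.zpowers d)) :=
    fun a ha b hb => Subgroup.mul_mem_iff_of_index_two (H := (Subgroup.zpowers d).subgroupOf R) hidx2
      (a := ⟨a, ha⟩) (b := ⟨b, hb⟩)
  have hmove : ∀ a : G, a ∈ Subgroup.zpowers e ↔ x⁻¹ * a * x ∈ Subgroup.zpowers d := by
    intro a
    constructor
    · intro h
      obtain ⟨j, rfl⟩ := Subgroup.mem_zpowers_iff.1 h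
      refine Subgroup.mem_zpowers_iff.2 ⟨j, ?_⟩
      rw [he, conj_zpow]; group
    · intro h
      obtain ⟨j, hj⟩ := Subgroup.mem_zpowers_iff.1 h
      refine Subgroup.mem_zpowers_iff.2 ⟨j, ?_⟩
      rw [he, conj_zpow, hj]; group
  have hconjR : ∀ a ∈ R, x⁻¹ * a * x ∈ R := fun a ha => by
    simpa using hRn.conj_mem a ha x⁻¹
  have hmulE : ∀ a ∈ R, ∀ b ∈ R, (a * b ∈ Subgroup.zpowers e ↔ (a ∈ Subgroup.zpowers e ↔ b ∈ Subgroup.zpowers e)) := by
    intro a ha b hb
    rw [hmove, hmove a, hmove b, show x⁻¹ * (a * b) * x = (x⁻¹ * a * x) * (x⁻¹ * b * x) by group]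
    exact hmulD _ (hconjR a ha) _ (hconjR b hb)
  have hord : orderOf e = orderOf d := (MulEquiv.orderOf_eq (MulAut.conj x) d)
  have hdE : d ∉ Subgroup.zpowers e := fun h => heD (by
    have hle : Subgroup.zpowers d ≤ Subgroup.zpowers e := Subgroup.zpowers_le.2 h
    rw [Subgroup.eq_of_le_of_card_ge hle (by rw [Nat.card_zpowers, Nat.card_zpowers, hord])]
    exact Subgroup.mem_zpowers e)
  set w := d * d with hw
  have heven : ∀ a : G, a ∈ Subgroup.zpowers d → a ∈ Subgroup.zpowers e → a ∈ Subgroup.zpowers w := by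
    intro a ha hae
    obtain ⟨j, rfl⟩ := Subgroup.mem_zpowers_iff.1 ha
    rcases Int.even_or_odd j with ⟨l, hl⟩ | ⟨l, hl⟩
    · exact Subgroup.mem_zpowers_iff.2 ⟨l, by rw [hw, hl, (Commute.refl d).mul_zpow, zpow_add]⟩
    · exfalso
      apply hdE
      have hddE : d ^ (2 * l) ∈ Subgroup.zpowers e := by
        rw [zpow_mul]
        refine Subgroup.zpow_mem _ ?_ l
        rw [zpow_two]
        exact (hmulE d hdR d hdR).2 Iff.rfl
      have := Subgroup.mul_mem _ (Subgroup.inv_mem _ hddE) hae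
      rwa [hl, zpow_add, zpow_one, inv_mul_cancel_left] at this
  have he2 : e * e = w := by
    have hww : x * w * x⁻¹ = e * e := by rw [hw, he]; group
    have hmem : e * e ∈ Subgroup.zpowers w := heven _ ((hmulD e heR e heR).2 Iff.rfl)
      (Subgroup.mul_mem _ (Subgroup.mem_zpowers e) (Subgroup.mem_zpowers e))
    obtain ⟨n, hn⟩ := IsPGroup.iff_orderOf.1 hRp ⟨w, mul_mem hdR hdR⟩
    rw [Subgroup.orderOf_mk] at hn
    have hc := commute_of_normalizes hxodd n w hn (hww ▸ hmem)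
    rw [← hww, hc.eq, mul_inv_cancel_right]
  have hxw : x * w = w * x := by
    rw [hw, ← mul_inv_eq_iff_eq_mul, show x * (d * d) * x⁻¹ = e * e by rw [he]; group, he2]
  have hdw : Commute d w := by rw [hw]; exact ((Commute.refl d).mul_right (Commute.refl d))
  have hew : Commute e w := by rw [← he2]; exact ((Commute.refl e).mul_right (Commute.refl e))
  obtain ⟨N, hN⟩ := IsPGroup.iff_orderOf.1 hRp ⟨w, mul_mem hdR hdR⟩
  rw [Subgroup.orderOf_mk] at hN
  set f := x * e * x⁻¹ with hf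
  have hfR : f ∈ R := hRn.conj_mem e heR x
  have hfE : f ∉ Subgroup.zpowers e := fun h => heD (by
    rw [hmove, hf, show x⁻¹ * (x * e * x⁻¹) * x = e by group] at h; exact h)
  have hfD : f ∉ Subgroup.zpowers d := fun h => hx1 (by
    have h1 : x ^ 2 = 1 := hodd1 (x ^ 2) (by
      exact hxodd.of_dvd_nat (orderOf_pow_dvd 2)) (by
        rwa [sq, show x * x * d * (x * x)⁻¹ = f by rw [hf, he]; group])
    exact orderOf_eq_one_iff.1 (Nat.eq_one_of_dvd_coprimes (Nat.coprime_two_left.2 hxodd)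
      (orderOf_dvd_of_pow_eq_one h1) dvd_rfl))
  obtain ⟨i, hi⟩ : ∃ i : ℤ, f = d * e * w ^ i := by
    have hdf : d⁻¹ * f ∈ R := mul_mem (inv_mem hdR) hfR
    have hvE : d⁻¹ * f ∈ Subgroup.zpowers e :=
      (hmulE _ (inv_mem hdR) f hfR).2 (iff_of_false (fun h => hdE (by simpa using h)) hfE)
    have hvD : d⁻¹ * f ∉ Subgroup.zpowers d := fun h =>
      hfD (by simpa using Subgroup.mul_mem _ (Subgroup.mem_zpowers d) h)
    have h1 : e⁻¹ * (d⁻¹ * f) ∈ Subgroup.zpowers d :=
      (hmulD _ (inv_mem heR) _ hdf).2 (iff_of_false (fun h => heD (by simpa using h)) hvD)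
    obtain ⟨i, hi⟩ := Subgroup.mem_zpowers_iff.1
      (heven _ h1 (Subgroup.mul_mem _ (Subgroup.inv_mem _ (Subgroup.mem_zpowers e)) hvE))
    exact ⟨i, by rw [hi]; group⟩
  set cc := d⁻¹ * (e * d * e⁻¹) with hcc
  obtain ⟨l, hl⟩ : ∃ l : ℤ, cc = w ^ l := by
    have hedD : e * d * e⁻¹ ∈ Subgroup.zpowers d :=
      (hmulD _ (mul_mem heR hdR) _ (inv_mem heR)).2 (iff_of_false
        (fun h => heD (by simpa using Subgroup.mul_mem _ h (Subgroup.inv_mem _ (Subgroup.mem_zpowers d))))
        (fun h => heD (by simpa using h)))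
    have hcE : cc ∈ Subgroup.zpowers e := by
      rw [hcc, show d⁻¹ * (e * d * e⁻¹) = (d⁻¹ * e * d) * e⁻¹ by group]
      refine Subgroup.mul_mem _ ?_ (Subgroup.inv_mem _ (Subgroup.mem_zpowers e))
      exact (hmulE _ (mul_mem (inv_mem hdR) heR) _ hdR).2 (iff_of_false
        (fun h => hdE (by
          have h' := Subgroup.inv_mem _ (Subgroup.mul_mem _ h (Subgroup.inv_mem _ (Subgroup.mem_zpowers e)))
          simpa using h')) hdE)
    obtain ⟨l, hl⟩ := Subgroup.mem_zpowers_iff.1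
      (heven _ (Subgroup.mul_mem _ (Subgroup.inv_mem _ (Subgroup.mem_zpowers d)) hedD) hcE)
    exact ⟨l, hl.symm⟩
  have hdc : Commute d cc := hl ▸ hdw.zpow_right l
  have hec : Commute e cc := hl ▸ hew.zpow_right l
  have hed : e * d = d * cc * e := by rw [hcc]; group
  have hc2 : cc * cc = 1 := by
    have h1 : e * w * e⁻¹ = w := by rw [hew.eq, mul_inv_cancel_right]
    have h2 : e * w * e⁻¹ = (e * d * e⁻¹) * (e * d * e⁻¹) := by rw [hw]; group
    rw [h1, show e * d * e⁻¹ = d * cc by rw [hcc]; group] at h2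
    have h3 : d * cc * (d * cc) = w * (cc * cc) := by
      rw [hw]
      simp only [mul_assoc]
      rw [← mul_assoc cc d cc, ← hdc.eq, mul_assoc]
    rw [h3, left_eq_mul] at h2
    exact h2
  have hfw : f * f = w := by
    rw [hf, show x * e * x⁻¹ * (x * e * x⁻¹) = x * (e * e) * x⁻¹ by group, he2, hxw, mul_inv_cancel_right]
  have hdede : d * e * (d * e) = w * cc * w := by
    calc d * e * (d * e) = d * (e * d) * e := by group
      _ = d * (d * cc * e) * e := by rw [hed]
      _ = (d * d) * cc * (e * e) := by group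
      _ = w * cc * w := by rw [he2]
  have hcw : cc = w ^ (-(1 + 2 * i)) := by
    have h1 : w * cc * w * (w ^ i * w ^ i) = w := by
      rw [← hdede]
      conv_rhs => rw [← hfw, hi]
      have hk : Commute (d * e) (w ^ i) := (hdw.mul_left hew).zpow_right i
      simp only [mul_assoc]
      congr 2
      rw [← mul_assoc (w ^ i) d, ← mul_assoc (w ^ i * d) e]
      rw [show w ^ i * d * e = d * e * w ^ i by rw [mul_assoc, hk.eq]]
      simp only [mul_assoc]
    calc cc = w⁻¹ * (w * cc * w * (w ^ i * w ^ i)) * ((w ^ i * w ^ i)⁻¹ * w⁻¹) := by group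
      _ = w ^ (-(1 + 2 * i)) := by rw [h1]; group
  have hw2 : w * w = 1 := by
    have h1 : w ^ ((2 : ℤ) * (1 + 2 * i)) = 1 := by
      have h := congrArg (·⁻¹) (hc2.symm.trans (by rw [hcw, ← zpow_add]) : (1 : G) = w ^ (-(1 + 2 * i) + -(1 + 2 * i)))
      simp only [inv_one, ← zpow_neg] at h
      rw [show (2 : ℤ) * (1 + 2 * i) = -(-(1 + 2 * i) + -(1 + 2 * i)) by ring]
      exact h.symm
    have h2 : orderOf w ∣ 2 := by
      have h3 : (orderOf w : ℤ) ∣ 2 * (1 + 2 * i) := orderOf_dvd_iff_zpow_eq_one.2 h1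
      rw [hN] at h3 ⊢
      rcases N with _ | _ | N
      · simp
      · simp
      · exfalso
        have h4 : (4 : ℤ) ∣ 2 * (1 + 2 * i) := dvd_trans (by simp [pow_succ]; exact ⟨2 ^ N, by ring⟩) h3
        omega
    rw [← sq]
    exact orderOf_dvd_iff_pow_eq_one.1 h2
  have hwz : ∀ k : ℤ, w ^ k = 1 ∨ w ^ k = w := fun k => by
    rcases Int.even_or_odd k with ⟨m, hm⟩ | ⟨m, hm⟩
    · left; rw [hm, ← two_mul, zpow_mul, zpow_two, hw2, one_zpow]
    · right; rw [hm, zpow_add, zpow_mul, zpow_two, hw2, one_zpow, one_mul, zpow_one]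
  have hccw : cc = w := by
    rw [hcw, show -(1 + 2 * i) = 2 * (-1 - i) + 1 by ring, zpow_add, zpow_mul, zpow_two, hw2, one_zpow, one_mul,
      zpow_one]
  have hcover : ∀ a ∈ R, a ∈ Subgroup.zpowers d ∨ a ∈ Subgroup.zpowers e ∨ ∃ k : ℤ, a = d * e * w ^ k := by
    intro a ha
    by_cases h1 : a ∈ Subgroup.zpowers d
    · exact Or.inl h1
    by_cases h2 : a ∈ Subgroup.zpowers e
    · exact Or.inr (Or.inl h2)
    refine Or.inr (Or.inr ?_)
    have hdf : d⁻¹ * a ∈ R := mul_mem (inv_mem hdR) ha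
    have hvE : d⁻¹ * a ∈ Subgroup.zpowers e :=
      (hmulE _ (inv_mem hdR) a ha).2 (iff_of_false (fun h => hdE (by simpa using h)) h2)
    have hvD : d⁻¹ * a ∉ Subgroup.zpowers d := fun h =>
      h1 (by simpa using Subgroup.mul_mem _ (Subgroup.mem_zpowers d) h)
    have h3 : e⁻¹ * (d⁻¹ * a) ∈ Subgroup.zpowers d :=
      (hmulD _ (inv_mem heR) _ hdf).2 (iff_of_false (fun h => heD (by simpa using h)) hvD)
    obtain ⟨k, hk⟩ := Subgroup.mem_zpowers_iff.1
      (heven _ h3 (Subgroup.mul_mem _ (Subgroup.inv_mem _ (Subgroup.mem_zpowers e)) hvE))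
    exact ⟨k, by rw [hk]; group⟩
  have hgenR : R ≤ Subgroup.closure {d, e} := by
    intro a ha
    have hd' : d ∈ Subgroup.closure ({d, e} : Set G) := Subgroup.subset_closure (by simp)
    have he' : e ∈ Subgroup.closure ({d, e} : Set G) := Subgroup.subset_closure (by simp)
    rcases hcover a ha with h | h | ⟨k, rfl⟩
    · exact Subgroup.zpowers_le.2 hd' h
    · exact Subgroup.zpowers_le.2 he' h
    · exact mul_mem (mul_mem hd' he') (Subgroup.zpow_mem _ (hw ▸ mul_mem hd' hd') k)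
  have hwne : w ≠ 1 := by
    intro hw1
    have hcomm : e * d = d * e := by rw [hed, hccw, hw1, mul_one]
    have hfde : f = d * e := by rw [hi, hw1, one_zpow, mul_one]
    set Z := (T : Subgroup G) ⊓ Subgroup.centralizer ((T : Subgroup G) : Set G) with hZdef
    have hZR : Z ≤ R := @CfsgLib.Cores.le_pCore G _ 2 Z hZ (T.2.to_le inf_le_left)
    have hZne : Z ≠ ⊥ := by
      have hnt : Nontrivial ↥(T : Subgroup G) := Finite.one_lt_card_iff_nontrivial.1 (by omega)
      have := T.2.center_nontrivial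
      obtain ⟨z, hz⟩ := exists_ne (1 : ↥(Subgroup.center ↥(T : Subgroup G)))
      intro hbot
      apply hz
      have : ((z : ↥(T : Subgroup G)) : G) ∈ Z := ⟨z.1.2, Subgroup.mem_centralizer_iff.2 fun t ht =>
        congrArg Subtype.val (Subgroup.mem_center_iff.1 z.2 ⟨t, ht⟩)⟩
      rw [hbot, Subgroup.mem_bot] at this
      exact Subtype.ext (Subtype.ext this)
    obtain ⟨z, hz, hz1⟩ := (Subgroup.ne_bot_iff_exists_ne_one.1 hZne |> fun ⟨z, hz⟩ =>
      (⟨z.1, z.2, fun h => hz (Subtype.ext h)⟩ : ∃ z, z ∈ Z ∧ z ≠ 1))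
    have hfix : ∀ k : ℤ, d ^ k = 1 ∨ d ^ k = d := fun k => by
      rcases Int.even_or_odd k with ⟨m, hm⟩ | ⟨m, hm⟩
      · left; rw [hm, ← two_mul, zpow_mul, zpow_two, ← hw, hw1, one_zpow]
      · right; rw [hm, zpow_add, zpow_mul, zpow_two, ← hw, hw1, one_zpow, one_mul, zpow_one]
    have hc1 : ∀ a ∈ Z, x⁻¹ * a * x ∈ Z := fun a ha => by simpa using hZ.conj_mem a ha x⁻¹
    have hdZ : d ∈ Z := by
      rcases hcover z (hZR hz) with h | h | ⟨k, hk⟩
      · obtain ⟨m, rfl⟩ := Subgroup.mem_zpowers_iff.1 h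
        rcases hfix m with h' | h' <;> rw [h'] at hz hz1
        · exact absurd rfl hz1
        · exact hz
      · obtain ⟨m, rfl⟩ := Subgroup.mem_zpowers_iff.1 h
        have hem : e ^ m = x * d ^ m * x⁻¹ := by rw [he, conj_zpow]
        rcases hfix m with h' | h' <;> rw [h'] at hem
        · exact absurd (hem.trans (by group)) hz1
        · have := hc1 _ hz
          rwa [hem, show x⁻¹ * (x * d * x⁻¹) * x = d by group] at this
      · rw [hw1, one_zpow, mul_one, ← hfde, hf] at hk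
        have := hc1 _ (hc1 _ hz)
        rwa [hk, show x⁻¹ * (x⁻¹ * (x * e * x⁻¹) * x) * x = d by rw [he]; group] at this
    have heZ : e ∈ Z := he ▸ hZ.conj_mem d hdZ x
    have hRZ : R ≤ Z := hgenR.trans ((Subgroup.closure_le _).2 (by
      rintro a (rfl | rfl)
      · exact hdZ
      · exact heZ))
    have hTR : (T : Subgroup G) ≤ R :=
      le_trans (Subgroup.le_centralizer_iff.1 (hRZ.trans inf_le_right)) hCR
    have hd2 : orderOf d ∣ 2 := orderOf_dvd_of_pow_eq_one (by rw [sq, ← hw, hw1])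
    have hR4 : Nat.card ↥R ≤ 4 := by
      have h := Subgroup.relIndex_mul_relIndex ⊥ (Subgroup.zpowers d) R bot_le (Subgroup.zpowers_le.2 hdR)
      rw [Subgroup.relIndex_bot_left, Subgroup.relIndex_bot_left, Nat.card_zpowers, hidx2] at h
      have := Nat.le_of_dvd two_pos hd2
      omega
    have := Subgroup.card_le_of_le hTR
    omega
  have hd4 : orderOf d = 2 ^ 2 := by
    refine orderOf_eq_prime_pow ?_ ?_
    · rw [pow_one, sq, ← hw]; exact hwne
    · rw [show 2 ^ (1 + 1) = 2 + 2 from rfl, pow_add, sq, ← hw, hw2]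
  have hcard8 : Nat.card ↥R = 8 := by
    have h := Subgroup.relIndex_mul_relIndex ⊥ (Subgroup.zpowers d) R bot_le (Subgroup.zpowers_le.2 hdR)
    rw [Subgroup.relIndex_bot_left, Subgroup.relIndex_bot_left, Nat.card_zpowers, hidx2, hd4] at h
    omega
  have hed3 : e * d = d * d * d * e := by rw [hed, hccw, hw]; group
  have hdd4 : d * d * d * d = 1 := by rw [mul_assoc, ← hw, hw2]
  have hfd : x * f * x⁻¹ = d := by
    rw [hi, show x * (d * e * w ^ i) * x⁻¹ = (x * d * x⁻¹) * (x * e * x⁻¹) * (x * w * x⁻¹) ^ i by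
      rw [conj_zpow]; group, ← he, ← hf, hxw, mul_inv_cancel_right, hi]
    rcases hwz i with h | h <;> rw [h]
    · simp only [mul_one]
      rw [← mul_assoc, hed3]
      simp only [mul_assoc]
      rw [he2, hw]
      simp only [← mul_assoc]
      rw [hdd4, one_mul]
    · rw [show e * (d * e * w) * w = e * d * e * (w * w) by simp [mul_assoc], hw2, mul_one, hed3]
      simp only [mul_assoc]
      rw [he2, hw]
      simp only [← mul_assoc]
      rw [hdd4, one_mul]
  have hx3 : x * x * x = 1 := by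
    have h3 : x ^ 3 = x * x * x := by simp [pow_succ, mul_assoc]
    have hc : x ^ 3 = 1 := by
      refine hodd1 _ (hxodd.of_dvd_nat (orderOf_pow_dvd 3)) ?_
      rw [h3, show x * x * x * d * (x * x * x)⁻¹ = x * f * x⁻¹ by rw [hf, he]; group, hfd]
      exact Subgroup.mem_zpowers d
    rw [← h3, hc]
  have hx3' : orderOf x = 3 := orderOf_eq_prime (by simp [pow_succ, mul_assoc, hx3]) hx1
  -- the odd-order elements of the normalizer of `⟨d⟩` are trivial
  set M := Subgroup.normalizer (Subgroup.zpowers d : Set G) with hM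
  have hMmem : ∀ g : G, g * d * g⁻¹ ∈ Subgroup.zpowers d → g ∈ M := fun g hg => by
    refine CfsgLib.LocalEven.mem_normalizer_of_conj_le ?_
    rw [Subgroup.map_le_iff_le_comap, Subgroup.zpowers_le]
    exact hg
  have hMp : IsPGroup 2 ↥M := CfsgLib.LocalEven.isPGroup_of_forall_coprime fun y hy hyo =>
    hodd1 y (Nat.coprime_two_right.1 hyo) ((Subgroup.mem_normalizer_iff.1 hy d).1 (Subgroup.mem_zpowers d))
  have hxM : x ∉ M := fun h => heD ((Subgroup.mem_normalizer_iff.1 h d).1 (Subgroup.mem_zpowers d))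
  have hsurj : Function.Surjective fun k : Fin 3 => ((x ^ k.val : G) : G ⧸ M) := by
    intro q
    obtain ⟨g, rfl⟩ := QuotientGroup.mk_surjective q
    have hto : ∀ k : Fin 3, (x ^ k.val)⁻¹ * (g * d * g⁻¹) * x ^ k.val ∈ Subgroup.zpowers d →
        ∃ a : Fin 3, ((x ^ a.val : G) : G ⧸ M) = (g : G ⧸ M) := fun k h =>
      ⟨k, QuotientGroup.eq.2 (hMmem _ (by
        rwa [show (x ^ k.val)⁻¹ * g * d * ((x ^ k.val)⁻¹ * g)⁻¹ = (x ^ k.val)⁻¹ * (g * d * g⁻¹) * x ^ k.val
          by group]))⟩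
    rcases hcover _ (hRn.conj_mem d hdR g) with h | h | ⟨k, hk⟩
    · exact hto 0 (by simpa using h)
    · exact hto 1 (by simpa using (hmove _).1 h)
    · refine hto 2 ?_
      rw [hk]
      have hk' : d * e * w ^ k = f * (f * f) ^ (k - i) := by
        rw [hfw, hi, mul_assoc (d * e), ← zpow_add, add_sub_cancel]
      rw [hk', show ((2 : Fin 3).val) = 2 from rfl, sq,
        show (x * x)⁻¹ * (f * (f * f) ^ (k - i)) * (x * x) =
          ((x * x)⁻¹ * f * (x * x)) * (((x * x)⁻¹) * (f * f) * ((x * x)⁻¹)⁻¹) ^ (k - i) by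
            rw [conj_zpow]; simp [mul_assoc],
        show (x * x)⁻¹ * f * (x * x) = d by rw [hf, he]; group,
        show (x * x)⁻¹ * (f * f) * ((x * x)⁻¹)⁻¹ = d * d by rw [hf, he]; group]
      exact Subgroup.mul_mem _ (Subgroup.mem_zpowers d) (Subgroup.zpow_mem _
        (Subgroup.mul_mem _ (Subgroup.mem_zpowers d) (Subgroup.mem_zpowers d)) _)
  have hcore : M.normalCore.index ∣ 6 := by
    rw [Subgroup.normalCore_eq_ker, Subgroup.index_ker]
    refine (Subgroup.card_subgroup_dvd_card _).trans ?_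
    rw [Nat.card_perm]
    exact Nat.factorial_dvd_factorial (n := 3) (by simpa using Nat.card_le_card_of_surjective _ hsurj)
  have hcoreR : M.normalCore ≤ R := CfsgLib.Cores.le_pCore (hMp.to_le (Subgroup.normalCore_le M))
  have hRidx : R.index ∣ 6 := (Subgroup.index_dvd_of_le hcoreR).trans hcore
  obtain ⟨e', x', hrel, hx', hR'⟩ : ∃ e' x' : G, CfsgLib.LocalEven.SL23.Rel d e' x' ∧
      x ∈ Subgroup.closure ({d, e', x'} : Set G) ∧ R ≤ Subgroup.closure {d, e', x'} := by
    rcases hwz i with h | h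
    · have hfde : f = d * e := by rw [hi, h, mul_one]
      refine ⟨e, x, ⟨hdd4, he2.trans hw, hed3, hx3, ?_, ?_⟩, Subgroup.subset_closure (by simp),
        hgenR.trans (Subgroup.closure_mono (by intro a ha; rcases ha with rfl | rfl <;> simp))⟩
      · rw [he, inv_mul_cancel_right]
      · rw [← hfde, hf, inv_mul_cancel_right]
    · have hfed : f = e * d := by
        rw [hi, h, mul_assoc, hew.eq, hw, hed3]
        simp [mul_assoc]
      have hx'3 : x⁻¹ * x⁻¹ * x⁻¹ = 1 := by rw [← mul_inv_rev, ← mul_inv_rev, ← mul_assoc, hx3, inv_one]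
      refine ⟨f, x⁻¹, ⟨hdd4, hfw.trans hw, ?_, hx'3, ?_, ?_⟩, ?_, ?_⟩
      · rw [hfed]
        calc e * d * d = d * d * d * e * d := by rw [hed3]
          _ = d * d * d * (e * d) := by group
      · calc x⁻¹ * d = x⁻¹ * (x * f * x⁻¹) := by rw [hfd]
          _ = f * x⁻¹ := by group
      · calc x⁻¹ * f = e * x⁻¹ := by rw [hf]; group
          _ = d * f * x⁻¹ := by
            rw [hfed, hed3, show d * (d * d * d * e) = d * d * d * d * e by group, hdd4, one_mul]
      · exact inv_inv x ▸ Subgroup.inv_mem _ (Subgroup.subset_closure (by simp))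
      · refine hgenR.trans ((Subgroup.closure_le _).2 ?_)
        have hd' : d ∈ Subgroup.closure ({d, f, x⁻¹} : Set G) := Subgroup.subset_closure (by simp)
        have hf' : f ∈ Subgroup.closure ({d, f, x⁻¹} : Set G) := Subgroup.subset_closure (by simp)
        rintro a (rfl | rfl)
        · exact hd'
        · have := mul_mem hf' (inv_mem hd')
          have e1 : f * d⁻¹ = e := by rw [hfed, mul_inv_cancel_right]
          exact e1 ▸ this
  set U := Subgroup.closure ({d, e', x'} : Set G) with hU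
  have h24 : 24 ≤ Nat.card ↥U := by
    have hd8 : 8 ∣ Nat.card ↥U := hcard8 ▸ Subgroup.card_dvd_of_le hR'
    have hd3 : 3 ∣ Nat.card ↥U := hx3' ▸ Subgroup.orderOf_dvd_natCard _ hx'
    exact Nat.le_of_dvd Nat.card_pos (Nat.Coprime.mul_dvd_of_dvd_of_dvd (by norm_num) hd8 hd3)
  refine ⟨U, ?_, CfsgLib.LocalEven.SL23.nonempty_mulEquiv hrel U hU h24⟩
  have h1 : R.relIndex U * U.index = R.index := Subgroup.relIndex_mul_index hR'
  have h2' : 8 * R.relIndex U = Nat.card ↥U := by
    have h := Subgroup.relIndex_mul_relIndex ⊥ R U bot_le hR'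
    rwa [Subgroup.relIndex_bot_left, Subgroup.relIndex_bot_left, hcard8] at h
  have h6 : R.relIndex U * U.index ≤ 6 := h1 ▸ Nat.le_of_dvd (by norm_num) hRidx
  have h3 : 3 ≤ R.relIndex U := by omega
  have hUi : U.index = 1 ∨ U.index = 2 := by
    have h0 : U.index ≠ 0 := Subgroup.index_ne_zero_of_finite
    have : 3 * U.index ≤ 6 := (Nat.mul_le_mul_right _ h3).trans h6
    omega
  rcases hUi with h | h
  · rw [Subgroup.index_eq_one.1 h]; infer_instance
  · exact Subgroup.normal_of_index_eq_two h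

end Cfsg.Agent.S2879
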