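import Cfsg.Statements.S2880
import Mathlib.GroupTheory.Sylow
import Mathlib.GroupTheory.Frattini
import Mathlib.GroupTheory.Nilpotent
import Mathlib.Tactic.Linarith

set_option autoImplicit false
open Cfsg

namespace Cfsg.Agent.S2880

/-- Let E be an extraspecial 2-group of order 2^(2m+1) of plus type, that is, containing an elementary abelian subgroup of order 2^(m+1) (equivalently, a central product of m dihedral groups of order 8). Then E has exactly 2^(2m) − 2^m elements of order 4. -/
theorem result {E : Type*} [Group E] [Finite E] (m : ℕ) (hm : 1 ≤ m) (hE : Cfsg.IsExtraspecial 2 E) (hcard : Nat.card E = 2 ^ (2 * m + 1)) (hplus : ∃ A : Subgroup E, Cfsg.IsElementaryAbelian 2 A ∧ Nat.card A = 2 ^ (m + 1)) : Nat.card {x : E // orderOf x = 4} = 2 ^ (2 * m) - 2 ^ m := by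
  classical
  obtain ⟨A, ⟨hAc, hA2⟩, hAcard⟩ := hplus
  obtain ⟨⟨-, hphi, hcom⟩, hZ⟩ := hE
  set Z := Subgroup.center E with hZdef
  have hcomm : ∀ x y : E, x⁻¹ * y⁻¹ * x * y ∈ Z := fun x y => by
    rw [← hcom]
    have := Subgroup.commutator_mem_commutator (Subgroup.mem_top x⁻¹) (Subgroup.mem_top y⁻¹)
    simpa [commutator_def, commutatorElement_def] using this
  have hZel : ∀ c ∈ Z, ∀ d ∈ Z, c ≠ 1 → d ≠ 1 → c = d := by
    intro c hc d hd hc1 hd1
    obtain ⟨u, hu⟩ := Nat.card_eq_two_iff' (1 : Z) |>.mp hZ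
    exact congrArg Subtype.val ((hu.2 ⟨c, hc⟩ (fun h => hc1 (congrArg Subtype.val h))).trans
      (hu.2 ⟨d, hd⟩ (fun h => hd1 (congrArg Subtype.val h))).symm)
  -- bound for abelian subgroups containing the centre
  have hbound : ∀ B : Subgroup E, Z ≤ B → (∀ a ∈ B, ∀ b ∈ B, a * b = b * a) → Nat.card B ≤ 2 ^ (m + 1) := by
    intro B hZB hBab
    let P : Set (Subgroup E) :=
      {K | B ≤ K ∧ (B ⊓ Subgroup.centralizer (K : Set E)).relIndex B * Nat.card B ≤ Nat.card K}
    have hB : B ∈ P := by
      refine ⟨le_rfl, ?_⟩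
      have : B ≤ Subgroup.centralizer (B : Set E) := fun a ha =>
        Subgroup.mem_centralizer_iff.mpr fun b hb => hBab b hb a ha
      rw [inf_eq_left.mpr this, Subgroup.relIndex_self, one_mul]
    obtain ⟨K, hK⟩ := P.toFinite.exists_maximal ⟨B, hB⟩
    obtain ⟨hBK, hKc⟩ := hK.prop
    have htop : K = ⊤ := by
      by_contra hKne
      obtain ⟨x, -, hxK⟩ := SetLike.exists_of_lt (lt_top_iff_ne_top.mpr hKne)
      set K' := K ⊔ Subgroup.zpowers x with hK'
      have hlt : K < K' := lt_of_le_of_ne le_sup_left fun h => hxK (h ▸ le_sup_right (a := K) (Subgroup.mem_zpowers x))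
      have hcard : 2 * Nat.card K ≤ Nat.card K' := by
        obtain ⟨t, ht⟩ := Subgroup.card_dvd_of_le hlt.le
        rw [ht, mul_comm]
        refine Nat.mul_le_mul_left _ ?_
        by_contra hlt'
        interval_cases t
        · exact absurd (ht.trans (Nat.mul_zero _)) Nat.card_pos.ne'
        · rw [mul_one] at ht
          exact hlt.ne (SetLike.coe_injective (Set.eq_of_subset_of_ncard_le hlt.le
            (by rw [← Nat.card_coe_set_eq, ← Nat.card_coe_set_eq]; exact ht.le) (Set.toFinite _)))
      set D := B ⊓ Subgroup.centralizer (K : Set E) with hD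
      have hidx : (B ⊓ Subgroup.centralizer (K' : Set E)).relIndex B ≤ 2 * D.relIndex B := by
        let f : ↥D →* Z :=
          { toFun := fun d => ⟨x⁻¹ * (d : E)⁻¹ * x * (d : E), hcomm _ _⟩
            map_one' := Subtype.ext (by simp)
            map_mul' := fun a b => Subtype.ext <| by
              simp only [Subgroup.coe_mul]
              have h2 := Subgroup.mem_center_iff.mp (hcomm x (b : E)) (a : E)
              have h3 := Subgroup.mem_center_iff.mp (hcomm x (a : E))
              calc x⁻¹ * ((a : E) * (b : E))⁻¹ * x * ((a : E) * (b : E))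
                  = x⁻¹ * (b : E)⁻¹ * x * (x⁻¹ * (a : E)⁻¹ * x * (a : E)) * (b : E) := by group
                _ = x⁻¹ * (b : E)⁻¹ * x * ((x⁻¹ * (a : E)⁻¹ * x * (a : E)) * (b : E)) := by group
                _ = x⁻¹ * (b : E)⁻¹ * x * ((b : E) * (x⁻¹ * (a : E)⁻¹ * x * (a : E))) := by rw [h3]
                _ = (x⁻¹ * (b : E)⁻¹ * x * (b : E)) * (x⁻¹ * (a : E)⁻¹ * x * (a : E)) := by group
                _ = (x⁻¹ * (a : E)⁻¹ * x * (a : E)) * (x⁻¹ * (b : E)⁻¹ * x * (b : E)) := h3 _ }
        have hle : f.ker.map D.subtype ≤ B ⊓ Subgroup.centralizer (K' : Set E) := by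
          rintro _ ⟨d, hd, rfl⟩
          have hd' : x⁻¹ * (d : E)⁻¹ * x * (d : E) = 1 := congrArg Subtype.val hd
          refine Subgroup.mem_inf.mpr ⟨(Subgroup.mem_inf.mp d.2).1, ?_⟩
          have : K' ≤ Subgroup.centralizer ({(d : E)} : Set E) := by
            refine sup_le (fun k hk => ?_) (Subgroup.zpowers_le.mpr ?_)
            · exact Subgroup.mem_centralizer_iff.mpr fun a ha => by
                rw [Set.mem_singleton_iff] at ha
                rw [ha]; exact ((Subgroup.mem_centralizer_iff.mp (Subgroup.mem_inf.mp d.2).2) k hk).symm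
            · exact Subgroup.mem_centralizer_iff.mpr fun a ha => by
                rw [Set.mem_singleton_iff] at ha
                rw [ha]
                calc (d : E) * x = (d : E) * x * (x⁻¹ * (d : E)⁻¹ * x * (d : E)) := by rw [hd', mul_one]
                  _ = x * (d : E) := by group
          exact Subgroup.mem_centralizer_iff.mpr fun k hk =>
            ((Subgroup.mem_centralizer_iff.mp (this hk)) _ rfl).symm
        have hker : (f.ker.map D.subtype).relIndex D ≤ 2 := by
          have : (f.ker.map D.subtype).relIndex D = f.ker.index := by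
            rw [Subgroup.relIndex, Subgroup.subgroupOf, Subgroup.comap_map_eq_self_of_injective D.subtype_injective]
          rw [this, Subgroup.index_ker, ← hZ]
          exact Subgroup.card_le_card_group _
        calc (B ⊓ Subgroup.centralizer (K' : Set E)).relIndex B
            ≤ (f.ker.map D.subtype).relIndex B := by
              exact Subgroup.relIndex_le_of_le_left hle (by exact Subgroup.index_ne_zero_of_finite)
          _ = (f.ker.map D.subtype).relIndex D * D.relIndex B := by
              rw [Subgroup.relIndex_mul_relIndex _ _ _ (Subgroup.map_subtype_le _) inf_le_left]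
          _ ≤ 2 * D.relIndex B := Nat.mul_le_mul_right _ hker
      have : K' ∈ P := by
        refine ⟨hBK.trans le_sup_left, ?_⟩
        calc (B ⊓ Subgroup.centralizer (K' : Set E)).relIndex B * Nat.card B
            ≤ 2 * D.relIndex B * Nat.card B := Nat.mul_le_mul_right _ hidx
          _ ≤ 2 * Nat.card K := by rw [mul_assoc]; exact Nat.mul_le_mul_left _ hKc
          _ ≤ Nat.card K' := hcard
      exact hlt.not_ge (hK.le_of_ge this hlt.le)
    subst htop
    rw [Subgroup.coe_top, Subgroup.centralizer_univ, inf_eq_right.mpr hZB, Subgroup.card_top, hcard] at hKc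
    have hmul : Nat.card Z * Z.relIndex B = Nat.card B := by
      rw [← Subgroup.relIndex_bot_left Z, ← Subgroup.relIndex_bot_left B]
      exact Subgroup.relIndex_mul_relIndex ⊥ Z B bot_le hZB
    rw [← hmul, hZ] at hKc ⊢
    by_contra hlt
    rw [not_le] at hlt
    set r := Z.relIndex B
    have h1 : 2 ^ m + 1 ≤ r := by rw [pow_succ] at hlt; omega
    have h2 : 2 ^ (2 * m + 1) = 2 * (2 ^ m * 2 ^ m) := by rw [← pow_add, ← pow_succ']; congr 1; omega
    rw [h2] at hKc
    generalize 2 ^ m = a at h1 hKc
    nlinarith [Nat.mul_le_mul h1 h1]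
  -- A contains the centre and is self-centralizing
  have hAab : ∀ a ∈ A, ∀ b ∈ A, a * b = b * a := fun a ha b hb =>
    congrArg Subtype.val (hAc.is_comm.comm ⟨a, ha⟩ ⟨b, hb⟩)
  have hkey : ∀ x : E, (∀ a ∈ A, a * x = x * a) → x ∈ A := by
    intro x hx
    by_contra hxA
    set B := Subgroup.closure ((A : Set E) ∪ (Z : Set E) ∪ {x}) with hB
    have hpair : ∀ u ∈ (A : Set E) ∪ (Z : Set E) ∪ {x}, ∀ v ∈ (A : Set E) ∪ (Z : Set E) ∪ {x}, u * v = v * u := by
      intro u hu v hv
      rcases hu with (hu | hu) | hu <;> rcases hv with (hv | hv) | hv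
      all_goals first
        | exact (Subgroup.mem_center_iff.mp hu v).symm
        | exact Subgroup.mem_center_iff.mp hv u
        | exact hAab u hu v hv
        | (rw [Set.mem_singleton_iff.mp hu]; exact (hx v hv).symm)
        | (rw [Set.mem_singleton_iff.mp hv]; exact hx u hu)
        | (rw [Set.mem_singleton_iff.mp hu, Set.mem_singleton_iff.mp hv])
    haveI := Subgroup.isMulCommutative_closure hpair
    have h := hbound B (fun z hz => Subgroup.subset_closure (Or.inl (Or.inr hz)))
      fun a ha b hb => congrArg Subtype.val (IsMulCommutative.is_comm.comm (⟨a, ha⟩ : B) ⟨b, hb⟩)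
    rw [← hAcard] at h
    have hAB : A ≤ B := fun a ha => Subgroup.subset_closure (Or.inl (Or.inl ha))
    have := Set.eq_of_subset_of_ncard_le (s := (A : Set E)) (t := (B : Set E)) hAB
      (by rw [← Nat.card_coe_set_eq, ← Nat.card_coe_set_eq]; exact h) (Set.toFinite _)
    exact hxA (this.symm ▸ Subgroup.subset_closure (Or.inr rfl) : x ∈ (A : Set E))
  have hZA : Z ≤ A := fun z hz => hkey z fun a _ => Subgroup.mem_center_iff.mp hz a
  have hsq : ∀ x : E, x * x ∈ Z := by
    intro x
    have hdiv : (2 : ℕ).Prime := Nat.prime_two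
    rw [← hphi]
    simp only [frattini, Order.radical, Subgroup.mem_iInf]
    intro M hM
    have hEp : IsPGroup 2 E := IsPGroup.of_card hcard
    haveI : Group.IsNilpotent E := hEp.isNilpotent
    haveI := Subgroup.NormalizerCondition.normal_of_coatom M Group.normalizerCondition_of_isNilpotent hM
    obtain ⟨k, hk⟩ := hEp.index M
    have hcoa : ∀ K : Subgroup E, M ≤ K → K = M ∨ K = ⊤ := fun K hK => by
      rcases hK.lt_or_eq with h | h
      · exact Or.inr (hM.2 K h)
      · exact Or.inl h.symm
    -- the quotient by a maximal subgroup has exponent two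
    by_contra hxx
    have hx : x ∉ M := fun h => hxx (M.mul_mem h h)
    set q : E ⧸ M := QuotientGroup.mk x with hq
    have h1 := hcoa (M ⊔ Subgroup.zpowers (x * x)) le_sup_left
    have hxin : x ∈ M ⊔ Subgroup.zpowers (x * x) := by
      rcases h1 with h1 | h1
      · exact absurd (h1 ▸ le_sup_right (a := M) (Subgroup.mem_zpowers _)) hxx
      · rw [h1]; exact Subgroup.mem_top x
    have hle : M ⊔ Subgroup.zpowers (x * x) ≤ (Subgroup.zpowers (q * q)).comap (QuotientGroup.mk' M) := by
      refine sup_le (fun y hy => ?_) (Subgroup.zpowers_le.mpr ?_)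
      · rw [Subgroup.mem_comap, show (QuotientGroup.mk' M) y = 1 from (QuotientGroup.eq_one_iff y).mpr hy]
        exact Subgroup.one_mem _
      · exact Subgroup.mem_zpowers (q * q)
    have hmem : q ∈ Subgroup.zpowers (q * q) := hle hxin
    have hd : orderOf q ∣ orderOf (q * q) := orderOf_dvd_of_mem_zpowers hmem
    obtain ⟨j, hj⟩ := (hEp.to_quotient M) q
    obtain ⟨i, -, hi⟩ := (Nat.dvd_prime_pow Nat.prime_two).mp (orderOf_dvd_of_pow_eq_one hj)
    rcases i with _ | i
    · rw [pow_zero, orderOf_eq_one_iff, QuotientGroup.eq_one_iff] at hi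
      exact hx hi
    · rw [← pow_two, orderOf_pow, hi, Nat.gcd_eq_right (dvd_pow_self 2 (Nat.succ_ne_zero i))] at hd
      have hpos : 0 < 2 ^ i := by positivity
      have := Nat.le_of_dvd (by rw [pow_succ]; omega) hd
      rw [pow_succ] at this
      omega
  haveI hAn : A.Normal := ⟨fun a ha g => by
    have h := A.mul_mem ha (hZA (hcomm a g⁻¹))
    simpa [mul_assoc] using h⟩
  have hmove : ∀ q : E ⧸ A, ∃ a : E, a ∈ A ∧ (q ≠ 1 → a * q.out ≠ q.out * a) := by
    intro q
    by_cases hq : q = 1
    · exact ⟨1, A.one_mem, fun h => absurd hq h⟩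
    · by_contra hno
      push Not at hno
      have := hkey q.out fun a ha => (hno a ha).2
      exact hq (by rw [← QuotientGroup.out_eq' q]; exact (QuotientGroup.eq_one_iff _).mpr this)
  choose a0 ha0A ha0 using hmove
  have hflip : ∀ x : E, x ∉ A → (x * a0 x * (x * a0 x) = 1 ↔ x * x ≠ 1) := by
    intro x hx
    have hq : (x : E ⧸ A) ≠ 1 := fun h => hx ((QuotientGroup.eq_one_iff x).mp h)
    obtain ⟨b, hb⟩ := QuotientGroup.mk_out_eq_mul A x
    have ha := ha0 (x : E ⧸ A) hq
    have hne : a0 x * x ≠ x * a0 x := by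
      intro h
      apply ha
      rw [hb]
      calc a0 x * (x * (b : E)) = a0 x * x * (b : E) := by group
        _ = x * a0 x * (b : E) := by rw [h]
        _ = x * (a0 x * (b : E)) := by group
        _ = x * ((b : E) * a0 x) := by rw [hAab _ (ha0A _) _ b.2]
        _ = x * (b : E) * a0 x := by group
    have hsqa : a0 x * a0 x = 1 := by rw [← pow_two]; exact hA2 _ (ha0A _)
    have hinv : (a0 x)⁻¹ = a0 x := inv_eq_of_mul_eq_one_right hsqa
    set c := x⁻¹ * (a0 x)⁻¹ * x * a0 x with hcdef
    have hc1 : c ≠ 1 := fun h => hne <| by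
      calc a0 x * x = a0 x * x * (x⁻¹ * (a0 x)⁻¹ * x * a0 x) := by rw [← hcdef, h, mul_one]
        _ = x * a0 x := by group
    have heq : x * a0 x * (x * a0 x) = x * x * c := by
      rw [hcdef]
      conv_lhs => arg 1; arg 2; rw [← hinv]
      group
    rw [heq]
    constructor
    · intro h h1
      rw [h1, one_mul] at h
      exact hc1 h
    · intro h1
      rw [hZel _ (hsq x) c (hcomm _ _) h1 hc1]
      exact mul_eq_one_iff_eq_inv.mpr (inv_eq_of_mul_eq_one_right (by
        by_contra hcc
        have hp : c * c ∈ Z := Z.mul_mem (hcomm _ _) (hcomm _ _)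
        exact hc1 (mul_eq_left.mp (hZel _ hp c (hcomm _ _) hcc hc1)))).symm
  let f : {x : E // x ∉ A} → {x : E // x ∉ A} := fun x =>
    ⟨(x : E) * a0 (x : E), fun h => x.2 (by simpa using A.mul_mem h (A.inv_mem (ha0A ((x : E) : E ⧸ A))))⟩
  have hff : ∀ x, f (f x) = x := fun x => by
    apply Subtype.ext
    change (x : E) * a0 (x : E) * a0 ((x : E) * a0 (x : E) : E) = x
    have : (((x : E) * a0 (x : E) : E) : E ⧸ A) = ((x : E) : E ⧸ A) := by
      rw [QuotientGroup.eq]
      simpa [mul_assoc] using ha0A ((x : E) : E ⧸ A)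
    rw [this, mul_assoc, ← pow_two, hA2 _ (ha0A _), mul_one]
  have hno : Nat.card {x : E // x ∉ A} = 2 ^ (2 * m + 1) - 2 ^ (m + 1) := by
    rw [← hcard, ← hAcard]
    letI := Fintype.ofFinite E
    rw [Nat.card_eq_fintype_card, Fintype.card_subtype_compl, Nat.card_eq_fintype_card, Nat.card_eq_fintype_card]
  have hord : ∀ x : E, orderOf x = 4 ↔ x * x ≠ 1 := by
    intro x
    constructor
    · intro h h1
      have : orderOf x ∣ 2 := orderOf_dvd_of_pow_eq_one (by rw [pow_two]; exact h1)
      rw [h] at this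
      norm_num at this
    · intro h1
      have h4 : x ^ 4 = 1 := by
        have hz := hA2 _ (hZA (hsq x))
        rw [← hz, ← pow_two, ← pow_mul]
      obtain ⟨k, hk, hk'⟩ := (Nat.dvd_prime_pow Nat.prime_two).mp
        (show orderOf x ∣ 2 ^ 2 from orderOf_dvd_of_pow_eq_one h4)
      interval_cases k
      · have hx1 : x = 1 := orderOf_eq_one_iff.mp (by simpa using hk')
        exact absurd (by rw [hx1, mul_one]) h1
      · exact absurd (by rw [← pow_two]; exact (pow_one 2 ▸ hk') ▸ pow_orderOf_eq_one x) h1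
      · simpa using hk'
  have h4A : ∀ x : E, x * x ≠ 1 → x ∉ A := fun x h1 h => h1 (by rw [← pow_two]; exact hA2 _ h)
  let P : {x : E // x ∉ A} → Prop := fun x => (x : E) * (x : E) ≠ 1
  have e1 : {x : E // orderOf x = 4} ≃ {x : {x : E // x ∉ A} // P x} :=
    { toFun := fun x => ⟨⟨x.1, h4A _ ((hord _).mp x.2)⟩, (hord _).mp x.2⟩
      invFun := fun x => ⟨x.1.1, (hord _).mpr x.2⟩
      left_inv := fun x => rfl
      right_inv := fun x => rfl }
  have e2 : {x : {x : E // x ∉ A} // P x} ≃ {x : {x : E // x ∉ A} // ¬ P x} :=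
    { toFun := fun x => ⟨f x.1, fun h => h ((hflip _ x.1.2).mpr x.2)⟩
      invFun := fun x => ⟨f x.1, fun h => by
        have := (hflip _ x.1.2).mp h
        exact x.2 this⟩
      left_inv := fun x => Subtype.ext (hff _)
      right_inv := fun x => Subtype.ext (hff _) }
  have hsum := Nat.card_congr (Equiv.sumCompl P)
  rw [Nat.card_sum, ← Nat.card_congr e2, ← Nat.card_congr e1, hno] at hsum
  have h2 : 2 ^ (2 * m + 1) = 2 * 2 ^ (2 * m) := by rw [pow_succ']
  have h3 : 2 ^ (m + 1) = 2 * 2 ^ m := by rw [pow_succ']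
  omega

end Cfsg.Agent.S2880
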