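import Cfsg.Statements.S2881
import Cfsg.Agent.S2880

set_option autoImplicit false
open Cfsg

namespace Cfsg.Agent.S2881

/-- Let E be an extraspecial 2-group of order 2^(2m+1) of plus type (containing an elementary abelian subgroup of order 2^(m+1)), and let ω be an automorphism of E of order 5 whose fixed points are exactly the centre of E. Then m is divisible by 4. -/
theorem result {E : Type*} [Group E] [Finite E] (m : ℕ) (hm : 1 ≤ m) (hE : Cfsg.IsExtraspecial 2 E) (hcard : Nat.card E = 2 ^ (2 * m + 1)) (hplus : ∃ A : Subgroup E, Cfsg.IsElementaryAbelian 2 A ∧ Nat.card A = 2 ^ (m + 1)) (ω : E ≃* E) (hω : orderOf ω = 5) (hfix : ∀ x : E, ω x = x ↔ x ∈ Subgroup.center E) : 4 ∣ m := by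
  haveI : Fact (Nat.Prime 5) := ⟨Nat.prime_five⟩
  have h4 := Cfsg.Agent.S2880.result m hm hE hcard hplus
  let T : SubMulAction ↥(Subgroup.zpowers (ω : MulAut E)) E :=
    { carrier := {x | orderOf x = 4}
      smul_mem' := fun g x hx => by
        change orderOf ((g : MulAut E) x) = 4
        rw [MulEquiv.orderOf_eq]; exact hx }
  have hp : IsPGroup 5 ↥(Subgroup.zpowers (ω : MulAut E)) :=
    IsPGroup.of_card (n := 1) (by rw [Nat.card_zpowers, pow_one]; exact hω)
  have hmod := hp.card_modEq_card_fixedPoints T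
  have hempty : IsEmpty (MulAction.fixedPoints ↥(Subgroup.zpowers (ω : MulAut E)) T) := by
    refine ⟨fun x => ?_⟩
    have h1 : ω ((x : T) : E) = ((x : T) : E) := congrArg Subtype.val (x.2 ⟨ω, Subgroup.mem_zpowers _⟩)
    have hc := (hfix _).mp h1
    obtain ⟨⟨-, -, -⟩, hZ⟩ := hE
    have hd := orderOf_dvd_natCard (⟨((x : T) : E), hc⟩ : Subgroup.center E)
    rw [Subgroup.orderOf_mk, hZ, show orderOf ((x : T) : E) = 4 from (x : T).2] at hd
    norm_num at hd
  rw [Nat.card_of_isEmpty (α := MulAction.fixedPoints ↥(Subgroup.zpowers (ω : MulAut E)) T)] at hmod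
  have h5 : 5 ∣ 2 ^ (2 * m) - 2 ^ m := by
    rw [← h4]
    exact Nat.modEq_zero_iff_dvd.mp hmod
  have hfac : 2 ^ (2 * m) - 2 ^ m = 2 ^ m * (2 ^ m - 1) := by
    rw [Nat.mul_sub, mul_one, ← pow_add, two_mul]
  rw [hfac] at h5
  rcases (Nat.Prime.dvd_mul Fact.out).mp h5 with h | h
  · have := Nat.Prime.dvd_of_dvd_pow (Fact.out : Nat.Prime 5) h
    norm_num at this
  · by_contra hnd
    have hr : m % 4 = 1 ∨ m % 4 = 2 ∨ m % 4 = 3 := by omega
    have hk : 2 ^ m % 5 = 2 ^ (m % 4) % 5 := by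
      conv_lhs => rw [← Nat.mod_add_div m 4, pow_add, pow_mul]
      rw [Nat.mul_mod, show ((2 : ℕ) ^ 4) ^ (m / 4) % 5 = 1 by rw [Nat.pow_mod]; simp]
      simp
    have hpos : 1 ≤ 2 ^ m := Nat.one_le_two_pow
    rcases hr with h' | h' | h' <;> rw [h'] at hk <;> omega

end Cfsg.Agent.S2881
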