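import Cfsg.Statements.S2882
import Cfsg.Agent.Lib.MathieuOut.SylowNorm
import Cfsg.Agent.Lib.Fusion.MathieuCert24
import Cfsg.Agent.Lib.Golay.M24

set_option autoImplicit false
open Cfsg

namespace Cfsg.Agent.S2882

/-- In the Mathieu group of degree 24 (realised as the automorphism group of the extended binary Golay code) every Sylow 2-subgroup is self-normalizing. -/
theorem result (S : Sylow 2 ↥Cfsg.M24) : Subgroup.normalizer ((S : Subgroup ↥Cfsg.M24) : Set ↥Cfsg.M24) = (S : Subgroup ↥Cfsg.M24) := by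
  refine CfsgLib.MathieuOut.sylow_normalizer_of_cert Cfsg.M24 (test := CfsgLib.Fusion.M24.test)
    (fun L _ h => CfsgLib.Golay.mem_M24_of_test h) ?_ CfsgLib.Fusion.M24.cert (m := 239085) ?_
    (by decide) S
  · simp [CfsgLib.Fusion.M24.masks]
  · rw [CfsgLib.Fusion.M24.gens_length]; exact CfsgLib.Golay.card_M24

end Cfsg.Agent.S2882
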