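import Cfsg.Statements.S2896
import Cfsg.Agent.Lib.LocalEven.CharP
import Cfsg.Agent.Lib.OddLocal.Puig
import Cfsg.Agent.Lib.PGroup.ElemAbelian
import Cfsg.Agent.Lib.Cores.Coprime

set_option autoImplicit false
open Cfsg CfsgLib.LocalEven

namespace Cfsg.Agent.S2896

variable {G : Type*} [Group G] [Finite G] {p : ℕ} [Fact p.Prime]

/-- Characteristic `p` of the centralizer of a central element gives it for the normalizer. -/
private theorem hasCharP_normalizer_of_mem {z : G} {X : Subgroup G} (hX : IsPGroup p ↥X) (hzX : z ∈ X)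
    (hc : ∀ x ∈ X, x * z = z * x) (h : HasCharP p ↥(Subgroup.centralizer ({z} : Set G))) :
    HasCharP p ↥(Subgroup.normalizer (X : Set G)) := by
  have hXz : X ≤ Subgroup.centralizer ({z} : Set G) := fun x hx =>
    Subgroup.mem_centralizer_iff.2 (by rintro y rfl; exact (hc x hx).symm)
  have hCz : Subgroup.centralizer (X : Set G) ≤ Subgroup.centralizer ({z} : Set G) :=
    Subgroup.centralizer_le (Set.singleton_subset_iff.2 hzX)
  have hC : HasCharP p ↥(Subgroup.centralizer (X : Set G)) := by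
    have := h.centralizer_inf hX hXz
    rwa [inf_eq_right.2 hCz] at this
  set N := Subgroup.normalizer (X : Set G) with hN
  set C := (Subgroup.centralizer (X : Set G)).subgroupOf N with hCdef
  have hC' : HasCharP p ↥C := (hasCharP_subgroupOf_iff (Subgroup.centralizer_le_normalizer _)).2 hC
  have hCn : C.Normal := by
    rw [hCdef]; infer_instance
  have hXn : (X.subgroupOf N).Normal :=
    (Subgroup.normal_subgroupOf_iff_le_normalizer Subgroup.le_normalizer).2 le_rfl
  have hXO : X.subgroupOf N ≤ Cfsg.pCore p ↥N :=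
    CfsgLib.Cores.le_pCore (hX.of_equiv (Subgroup.subgroupOfEquivOfLe Subgroup.le_normalizer).symm)
  refine hasCharP_of_pPrime fun x hx hxc => ?_
  have hxC : x ∈ C := Subgroup.mem_subgroupOf.2 (Subgroup.mem_centralizer_iff.2 fun r hr =>
    (congrArg Subtype.val (hxc ⟨r, Subgroup.le_normalizer hr⟩ (hXO hr))).symm)
  have := hC'.eq_one (x := ⟨x, hxC⟩) (by rwa [← Subgroup.orderOf_coe]) fun v hv =>
    Subtype.ext (hxc v (CfsgLib.Cores.map_subtype_pCore_le_of_normal p C ⟨v, hv, rfl⟩))
  exact congrArg Subtype.val this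

private theorem hasCharP_centralizer_of_normalizer {z : G} (hz : IsPGroup p ↥(Subgroup.zpowers z))
    (h : HasCharP p ↥(Subgroup.normalizer (Subgroup.zpowers z : Set G))) :
    HasCharP p ↥(Subgroup.centralizer ({z} : Set G)) := by
  have := h.centralizer_inf hz Subgroup.le_normalizer
  rwa [inf_eq_right.2 (Subgroup.centralizer_le_normalizer _), Subgroup.zpowers_eq_closure,
    Subgroup.centralizer_closure] at this

private theorem hasCharP_centralizer_conj {z : G} (g : G)
    (h : HasCharP p ↥(Subgroup.centralizer ({z} : Set G))) :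
    HasCharP p ↥(Subgroup.centralizer ({g * z * g⁻¹} : Set G)) := by
  have := hasCharP_congr ((Subgroup.centralizer ({z} : Set G)).equivMapOfInjective
    (MulAut.conj g).toMonoidHom (MulAut.conj g).injective) h
  have he : (Subgroup.centralizer ({z} : Set G)).map (MulAut.conj g).toMonoidHom =
      Subgroup.centralizer ({g * z * g⁻¹} : Set G) := by
    ext y
    rw [mem_map_conj, Subgroup.mem_centralizer_iff, Subgroup.mem_centralizer_iff]
    simp only [Set.mem_singleton_iff, forall_eq]
    constructor <;> intro hy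
    · calc g * z * g⁻¹ * y = g * (z * (g⁻¹ * y * g)) * g⁻¹ := by group
        _ = g * (g⁻¹ * y * g * z) * g⁻¹ := by rw [hy]
        _ = y * (g * z * g⁻¹) := by group
    · calc z * (g⁻¹ * y * g) = g⁻¹ * (g * z * g⁻¹ * y) * g := by group
        _ = g⁻¹ * (y * (g * z * g⁻¹)) * g := by rw [hy]
        _ = g⁻¹ * y * g * z := by group
  rwa [he] at this

private theorem exists_central_orderOf_prime (T : Subgroup G) (hT : IsPGroup p ↥T) (R : Subgroup G)
    (hRT : R ≤ T) (hTR : T ≤ Subgroup.normalizer (R : Set G)) (hR : R ≠ ⊥) :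
    ∃ w ∈ R, orderOf w = p ∧ ∀ t ∈ T, t * w = w * t := by
  have := hT.isNilpotent
  have hn : (R.subgroupOf T).Normal := (Subgroup.normal_subgroupOf_iff_le_normalizer hRT).2 hTR
  obtain ⟨z, hzR, hz1, hzc⟩ := CfsgLib.OddLocal.exists_central_mem_of_normal (R.subgroupOf T)
    (fun h => hR (eq_bot_iff.2 fun r hr => by
      have hr' : (⟨r, hRT hr⟩ : ↥T) ∈ R.subgroupOf T := hr
      rw [h, Subgroup.mem_bot] at hr'
      exact congrArg Subtype.val hr'))
  obtain ⟨k, hk⟩ := IsPGroup.iff_orderOf.1 hT z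
  have hk0 : k ≠ 0 := by
    rintro rfl
    rw [pow_zero, orderOf_eq_one_iff] at hk
    exact hz1 hk
  refine ⟨(z : G) ^ (orderOf z / p), R.pow_mem hzR _, ?_, fun t ht => ?_⟩
  · show orderOf ((z : G) ^ (orderOf z / p)) = p; rw [← SubmonoidClass.coe_pow, Subgroup.orderOf_coe]
    refine orderOf_pow_orderOf_div (orderOf_pos _).ne' ?_
    rw [hk]
    exact dvd_pow_self p hk0
  · have h1 : Commute t (z : G) := congrArg Subtype.val (Subgroup.mem_center_iff.1 hzc ⟨t, ht⟩)
    exact (h1.pow_right _).eq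

/-- Let p be a prime dividing the order of the finite group G, S a Sylow p-subgroup of G and X a subgroup of S. (i) If some nontrivial element z of the centre of X has F*(C_G(z)) = O_p(C_G(z)), then F*(N_G(X)) = O_p(N_G(X)). (ii) G has parabolic characteristic p if and only if F*(C_G(z)) = O_p(C_G(z)) for every nontrivial z ∈ Ω₁(Z(S)). (iii) If F*(C_G(z)) = O_p(C_G(z)) for every element z of S of order p, then G has local characteristic p. -/
theorem result {G : Type*} [Group G] [Finite G] {p : ℕ} [Fact p.Prime] (hdiv : p ∣ Nat.card G) (S : Sylow p G) (X : Subgroup G) (hX : X ≤ (S : Subgroup G)) : (∀ z : G, z ≠ 1 → z ∈ X → (∀ x ∈ X, x * z = z * x) → Cfsg.generalizedFittingSubgroup ↥(Subgroup.centralizer ({z} : Set G)) = Cfsg.pCore p ↥(Subgroup.centralizer ({z} : Set G)) → Cfsg.generalizedFittingSubgroup ↥(Subgroup.normalizer (X : Set G)) = Cfsg.pCore p ↥(Subgroup.normalizer (X : Set G))) ∧ (Cfsg.IsOfParabolicCharacteristic p G ↔ ∀ z : G, z ≠ 1 → z ∈ Cfsg.omegaOne p ((S : Subgroup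 G) ⊓ Subgroup.centralizer ((S : Subgroup G) : Set G)) → Cfsg.generalizedFittingSubgroup ↥(Subgroup.centralizer ({z} : Set G)) = Cfsg.pCore p ↥(Subgroup.centralizer ({z} : Set G))) ∧ ((∀ z : G, z ∈ (S : Subgroup G) → orderOf z = p → Cfsg.generalizedFittingSubgroup ↥(Subgroup.centralizer ({z} : Set G)) = Cfsg.pCore p ↥(Subgroup.centralizer ({z} : Set G))) → Cfsg.IsOfLocalCharacteristic p G) := by
  simp only [← hasCharP_iff]
  refine ⟨fun z _ hzX hc h => hasCharP_normalizer_of_mem (S.2.to_le hX) hzX hc h, ⟨?_, ?_⟩, ?_⟩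
  · intro hpar z hz1 hz
    have hcomm : ∀ a ∈ (S : Subgroup G) ⊓ Subgroup.centralizer ((S : Subgroup G) : Set G),
        ∀ b ∈ (S : Subgroup G) ⊓ Subgroup.centralizer ((S : Subgroup G) : Set G), a * b = b * a :=
      fun a ha b hb => Subgroup.mem_centralizer_iff.1 hb.2 a ha.1
    obtain ⟨⟨hzS, hzC⟩, -⟩ := (CfsgLib.PGroup.mem_omegaOne_iff_of_comm hcomm).1 hz
    have hzp : IsPGroup p ↥(Subgroup.zpowers z) := S.2.to_le (Subgroup.zpowers_le.2 hzS)
    refine hasCharP_centralizer_of_normalizer hzp (hpar _ hzp (Subgroup.zpowers_ne_bot.2 hz1) ⟨S, ?_⟩)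
    refine le_trans ?_ (Subgroup.centralizer_le_normalizer _)
    rw [Subgroup.zpowers_eq_closure, Subgroup.centralizer_closure]
    exact fun s hs => Subgroup.mem_centralizer_iff.2 (by rintro y rfl; exact (Subgroup.mem_centralizer_iff.1 hzC s hs).symm)
  · intro h R hR hR1 ⟨T, hT⟩
    have hRT : R ≤ (T : Subgroup G) := by
      have hs : IsPGroup p ↥(R ⊔ (T : Subgroup G)) := IsPGroup.to_sup_of_normal_left' hR T.2 hT
      exact le_sup_left.trans (T.is_maximal' hs le_sup_right).le
    obtain ⟨w, hwR, hwo, hwT⟩ := exists_central_orderOf_prime _ T.2 R hRT hT hR1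
    obtain ⟨g, hg⟩ := MulAction.exists_smul_eq G S T
    have hST : ∀ s, s ∈ (S : Subgroup G) → g * s * g⁻¹ ∈ (T : Subgroup G) := fun s hs => by
      rw [← hg]; exact ⟨s, hs, rfl⟩
    have hwS : g⁻¹ * w * g ∈ (S : Subgroup G) := by
      have := hRT hwR
      rw [← hg] at this
      obtain ⟨s, hs, hsw⟩ := this
      have h1 : g * s * g⁻¹ = w := hsw
      rwa [← h1, show g⁻¹ * (g * s * g⁻¹) * g = s by group]
    refine hasCharP_normalizer_of_mem hR hwR (fun x hx => hwT x (hRT hx)) ?_
    have := hasCharP_centralizer_conj g (h (g⁻¹ * w * g) ?_ (CfsgLib.PGroup.mem_omegaOne ⟨hwS,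
      Subgroup.mem_centralizer_iff.2 fun s hs => ?_⟩ ?_))
    · rwa [show g * (g⁻¹ * w * g) * g⁻¹ = w by group] at this
    · intro h1
      have : w = 1 := by
        rw [show w = g * (g⁻¹ * w * g) * g⁻¹ by group, h1]; group
      rw [this, orderOf_one] at hwo
      exact (Fact.out : p.Prime).ne_one hwo.symm
    · calc s * (g⁻¹ * w * g) = g⁻¹ * (g * s * g⁻¹ * w) * g := by group
        _ = g⁻¹ * (w * (g * s * g⁻¹)) * g := by rw [hwT _ (hST s hs)]
        _ = g⁻¹ * w * g * s := by group
    · have := conj_pow (i := p) (a := g⁻¹) (b := w)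
      rw [inv_inv] at this
      rw [this, ← hwo, pow_orderOf_eq_one]; group
  · intro h
    refine ⟨hdiv, fun T hT hT1 => ?_⟩
    obtain ⟨w, hwT, hwo, hwc⟩ := exists_central_orderOf_prime T hT T le_rfl Subgroup.le_normalizer hT1
    refine hasCharP_normalizer_of_mem hT hwT hwc ?_
    obtain ⟨U, hU⟩ := hT.exists_le_sylow
    obtain ⟨g, hg⟩ := MulAction.exists_smul_eq G S U
    have := hU hwT
    rw [← hg] at this
    obtain ⟨s, hs, hsw⟩ := this
    have h1 : g * s * g⁻¹ = w := hsw
    rw [← h1]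
    refine hasCharP_centralizer_conj g (h s hs ?_)
    rw [← hwo, ← h1]
    exact (MulEquiv.orderOf_eq (MulAut.conj g) s).symm

end Cfsg.Agent.S2896
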