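import Cfsg.Statements.S2897
import Cfsg.Agent.Lib.LocalEven.ActKernel
import Cfsg.Agent.Lib.PGroup.ElemAbelian
open Subgroup
open scoped commutatorElement

set_option autoImplicit false
open Cfsg

namespace Cfsg.Agent.S2897

/-- Let p be a prime dividing the order of the finite group G, suppose G has parabolic characteristic p, let S be a Sylow p-subgroup of G and G₁ a normal subgroup of G. If Ω₁(Z(S ∩ G₁)) is nontrivial and contained in Ω₁(Z(S)), then G₁ has parabolic characteristic p. -/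
theorem result {G : Type*} [Group G] [Finite G] {p : ℕ} [Fact p.Prime] (hdiv : p ∣ Nat.card G) (hG : Cfsg.IsOfParabolicCharacteristic p G) (S : Sylow p G) (G₁ : Subgroup G) [G₁.Normal] (hne : Cfsg.omegaOne p (((S : Subgroup G) ⊓ G₁) ⊓ Subgroup.centralizer (((S : Subgroup G) ⊓ G₁ : Subgroup G) : Set G)) ≠ ⊥) (hle : Cfsg.omegaOne p (((S : Subgroup G) ⊓ G₁) ⊓ Subgroup.centralizer (((S : Subgroup G) ⊓ G₁ : Subgroup G) : Set G)) ≤ Cfsg.omegaOne p ((S : Subgroup G) ⊓ Subgroup.centralizer ((S : Subgroup G) : Set G))) : Cfsg.IsOfParabolicCharacteristic p ↥G₁ := by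
  intro R hRp hR1 hpar
  obtain ⟨T, hTR⟩ := hpar
  obtain ⟨T', hT'⟩ := CfsgLib.LocalEven.exists_sylow_eq_inf_of_isSubnormal S (K := G₁)
    (Subgroup.Normal.isSubnormal inferInstance)
  obtain ⟨g, hg⟩ := MulAction.exists_smul_eq ↥G₁ T T'
  set R' := R.map (MulAut.conj g).toMonoidHom with hR'
  have hR'T : (T' : Subgroup ↥G₁) ≤ normalizer (R' : Set ↥G₁) := by
    rw [← hg, Sylow.coe_subgroup_smul]
    rintro _ ⟨t, ht, rfl⟩
    apply CfsgLib.LocalEven.WC.mem_normalizer_of_map_eq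
    show R'.map (MulAut.conj (g * t * g⁻¹)).toMonoidHom = R'
    rw [hR', CfsgLib.LocalEven.WC.map_conj_map, show g * t * g⁻¹ * g = g * t by group,
      ← CfsgLib.LocalEven.WC.map_conj_map, CfsgLib.LocalEven.WC.map_conj_eq_of_mem (hTR ht)]
  have hR'1 : R' ≠ ⊥ := fun h => hR1 ((Subgroup.map_eq_bot_iff_of_injective R (MulAut.conj g).injective).1 h)
  have hfix := CfsgLib.LocalEven.WC.exists_fixed_ne_one (hRp.map _) hR'1 T'.2 hR'T
  obtain ⟨u, huU, huo⟩ : ∃ u ∈ R' ⊓ centralizer ((T' : Subgroup ↥G₁) : Set ↥G₁), orderOf u = p := by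
    have hUp : IsPGroup p ↥(R' ⊓ centralizer ((T' : Subgroup ↥G₁) : Set ↥G₁)) := (hRp.map _).to_le inf_le_left
    haveI := (Subgroup.nontrivial_iff_ne_bot _).2 hfix
    obtain ⟨k, hk0, hk⟩ := hUp.nontrivial_iff_card.1 ‹_›
    obtain ⟨u, hu⟩ := exists_prime_orderOf_dvd_card' (G := ↥(R' ⊓ centralizer ((T' : Subgroup ↥G₁) : Set ↥G₁))) p
      (hk ▸ dvd_pow_self p (Nat.ne_of_gt hk0))
    exact ⟨u, u.2, by rwa [Subgroup.orderOf_coe]⟩
  obtain ⟨huR, huC⟩ := Subgroup.mem_inf.1 huU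
  have huT : u ∈ (T' : Subgroup ↥G₁) := by
    have h := T'.3 (IsPGroup.to_sup_of_normal_right' T'.2 (hRp.map _) hR'T) le_sup_left
    exact h.le (Subgroup.mem_sup_right huR)
  have huS : (u : G) ∈ (S : Subgroup G) := by rw [hT'] at huT; exact huT
  have hcS : ∀ s ∈ (S : Subgroup G), s * (u : G) = u * s := by
    have hmem : (u : G) ∈ Cfsg.omegaOne p (((S : Subgroup G) ⊓ G₁) ⊓ centralizer (((S : Subgroup G) ⊓ G₁ : Subgroup G) : Set G)) := by
      refine CfsgLib.PGroup.mem_omegaOne ⟨⟨huS, u.2⟩, Subgroup.mem_centralizer_iff.2 fun s hs => ?_⟩ ?_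
      · exact congrArg Subtype.val (Subgroup.mem_centralizer_iff.1 huC ⟨s, hs.2⟩ (by rw [hT']; exact hs.1))
      · rw [← SubmonoidClass.coe_pow, ← huo, pow_orderOf_eq_one, Subgroup.coe_one]
    exact fun s hs => Subgroup.mem_centralizer_iff.1 (CfsgLib.PGroup.omegaOne_le _ _ (hle hmem)).2 s hs
  -- back in `R`
  set v : ↥G₁ := g⁻¹ * u * g with hv
  have hvR : v ∈ R := by
    obtain ⟨r, hr, hru⟩ := huR
    rw [hv, ← hru]
    show g⁻¹ * (g * r * g⁻¹) * g ∈ R
    rwa [show g⁻¹ * (g * r * g⁻¹) * g = r by group]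
  set Z : Subgroup G := zpowers (v : G) with hZ
  have hZ1 : Z ≠ ⊥ := by
    rw [hZ, Ne, Subgroup.zpowers_eq_bot]
    intro h
    have : v = 1 := Subtype.ext h
    rw [hv, mul_assoc, inv_mul_eq_one] at this
    exact absurd huo (by rw [(mul_eq_right (a := u) (b := g)).1 this.symm, orderOf_one]; exact (Fact.out : p.Prime).ne_one.symm)
  have hZp : IsPGroup p Z := by
    have h := (hRp.map G₁.subtype).to_le (H := Z) (Subgroup.zpowers_le.2 ⟨v, hvR, rfl⟩)
    exact h
  have hNZ : CfsgLib.LocalEven.HasCharP p ↥(normalizer (Z : Set G)) := by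
    refine hG Z hZp hZ1 ⟨(g : G)⁻¹ • S, fun x hx => ?_⟩
    rw [Sylow.coe_subgroup_smul] at hx
    obtain ⟨s, hs, rfl⟩ := hx
    refine Subgroup.centralizer_le_normalizer _ ?_
    rw [hZ, Subgroup.zpowers_eq_closure, Subgroup.centralizer_closure, Subgroup.mem_centralizer_singleton_iff]
    show (g : G)⁻¹ * s * (g : G)⁻¹⁻¹ * v = v * ((g : G)⁻¹ * s * (g : G)⁻¹⁻¹)
    rw [hv, Subgroup.coe_mul, Subgroup.coe_mul, Subgroup.coe_inv, inv_inv]
    calc (g : G)⁻¹ * s * g * ((g : G)⁻¹ * u * g) = (g : G)⁻¹ * (s * u) * g := by group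
      _ = (g : G)⁻¹ * (u * s) * g := by rw [hcS s hs]
      _ = (g : G)⁻¹ * u * g * ((g : G)⁻¹ * s * g) := by group
  have hCZ : CfsgLib.LocalEven.HasCharP p ↥(centralizer (Z : Set G)) := by
    have h := CfsgLib.LocalEven.WC.hasCharP_inf_centralizer hNZ hZp (Subgroup.le_normalizer.trans Subgroup.le_normalizer)
    rwa [inf_eq_right.2 (Subgroup.centralizer_le_normalizer _)] at h
  haveI := CfsgLib.LocalEven.HasCharP.of_normal (p := p) hCZ (G₁.subgroupOf (centralizer (Z : Set G)))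
  have hC1 : CfsgLib.LocalEven.HasCharP p ↥(centralizer (zpowers v : Set ↥G₁)) := by
    have h1 : CfsgLib.LocalEven.HasCharP p ↥((G₁ ⊓ centralizer (Z : Set G)).subgroupOf (centralizer (Z : Set G))) := by
      rwa [Subgroup.inf_subgroupOf_right]
    have h2 := (CfsgLib.LocalEven.hasCharP_subgroupOf_iff inf_le_right).1 h1
    have h3 := (CfsgLib.LocalEven.hasCharP_subgroupOf_iff (p := p) (inf_le_left : G₁ ⊓ centralizer (Z : Set G) ≤ G₁)).2 h2
    have e : (G₁ ⊓ centralizer (Z : Set G)).subgroupOf G₁ = centralizer (zpowers v : Set ↥G₁) := by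
      rw [Subgroup.inf_subgroupOf_left, hZ, Subgroup.zpowers_eq_closure, Subgroup.centralizer_closure,
        Subgroup.zpowers_eq_closure, Subgroup.centralizer_closure]
      ext x
      rw [Subgroup.mem_subgroupOf, Subgroup.mem_centralizer_singleton_iff, Subgroup.mem_centralizer_singleton_iff,
        Subtype.ext_iff]
      rfl
    exact CfsgLib.LocalEven.hasCharP_congr (MulEquiv.subgroupCongr e) h3
  have hCR := CfsgLib.LocalEven.WC.hasCharP_centralizer_of_le hRp _ _ (Nat.le_add_left _ _)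
    (Subgroup.zpowers_le.2 hvR) hC1
  -- from `C(R)` to `N(R)`
  set N := normalizer (R : Set ↥G₁) with hN
  refine CfsgLib.LocalEven.hasCharP_of_pPrime fun x hxo hxc => ?_
  have hn : (R.subgroupOf N).Normal := Subgroup.normal_subgroupOf_of_le_normalizer le_rfl
  have hxC : (x : ↥G₁) ∈ centralizer (R : Set ↥G₁) := Subgroup.mem_centralizer_iff.2 fun r hr =>
    (congrArg Subtype.val (hxc ⟨r, Subgroup.le_normalizer hr⟩
      (CfsgLib.Cores.le_pCore (hn := hn) hRp.comap_subtype hr))).symm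
  have h := CfsgLib.LocalEven.HasCharP.eq_one hCR (x := ⟨x, hxC⟩)
    (by rw [Subgroup.orderOf_mk, Subgroup.orderOf_coe]; exact hxo) (fun w hw => Subtype.ext ?_)
  · exact Subtype.ext (congrArg Subtype.val h :)
  have hle' := CfsgLib.LocalEven.ActKer.pCoreOf_le_of_le_normalizer (p := p)
    (N := centralizer (R : Set ↥G₁)) (L := N) (Subgroup.centralizer_le_normalizer _) ?_
  · obtain ⟨y, hy, hyw⟩ := hle' ⟨w, hw, rfl⟩
    have := congrArg Subtype.val (hxc y hy)
    change (x : ↥G₁) * (w : ↥G₁) = (w : ↥G₁) * x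
    change (y : ↥G₁) = (w : ↥G₁) at hyw
    rw [← hyw]
    exact this
  intro n hn'
  refine CfsgLib.LocalEven.mem_normalizer_of_conj_le ?_
  rintro _ ⟨c, hc, rfl⟩
  refine Subgroup.mem_centralizer_iff.2 fun r hr => ?_
  have h4 := Subgroup.mem_centralizer_iff.1 hc (n⁻¹ * r * n) ((Subgroup.mem_normalizer_iff''.1 hn' r).1 hr)
  show r * (n * c * n⁻¹) = n * c * n⁻¹ * r
  calc r * (n * c * n⁻¹) = n * ((n⁻¹ * r * n) * c) * n⁻¹ := by group
    _ = n * (c * (n⁻¹ * r * n)) * n⁻¹ := by rw [h4]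
    _ = n * c * n⁻¹ * r := by group

end Cfsg.Agent.S2897
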