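import Cfsg.Statements.S2898
import Cfsg.Agent.Lib.LocalEven.SylowNormal
import Cfsg.Agent.Lib.LocalEven.CharP
import Cfsg.Agent.Lib.LocalEven.Coprime

set_option autoImplicit false
open Cfsg

namespace Cfsg.Agent.S2898

/-- Let G be a finite group of even order with parabolic characteristic 2. If the centre of G ⧸ O(G) is trivial, then O(G) = 1. -/
theorem result {G : Type*} [Group G] [Finite G] (h2 : 2 ∣ Nat.card G) (hG : Cfsg.IsOfParabolicCharacteristic 2 G) [hN : (Cfsg.oddCore G).Normal] (hZ : Subgroup.center (G ⧸ Cfsg.oddCore G) = ⊥) : Cfsg.oddCore G = ⊥ := by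
  by_contra hO
  haveI : Fact (Nat.Prime 2) := ⟨Nat.prime_two⟩
  set O := Cfsg.oddCore G with hOdef
  have hOodd : Odd (Nat.card O) := CfsgLib.Cores.odd_card_oddCore
  have hnO : ∀ g : G, g ∈ Subgroup.normalizer (O : Set G) := fun g => by
    rw [Subgroup.normalizer_eq_top]; exact Subgroup.mem_top g
  -- involutions central in a Sylow subgroup act fixed point freely on `O`
  have hfpf : ∀ (T : Sylow 2 G) (z : G), orderOf z = 2 → (∀ t ∈ (T : Subgroup G), t * z = z * t) →
      ∀ a ∈ O, z * a = a * z → a = 1 := by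
    intro T z hz hzT a ha haz
    set N := Subgroup.normalizer (Subgroup.zpowers z : Set G) with hN
    have hcN : ∀ g : G, g * z = z * g → g ∈ N := fun g hg => by
      refine Subgroup.mem_normalizer_iff_map_conj_eq.2 ?_
      rw [MonoidHom.map_zpowers]
      simp [hg]
    have hz1 : Subgroup.zpowers z ≠ ⊥ := by
      rw [Ne, Subgroup.zpowers_eq_bot]; rintro rfl; simp at hz
    have hzp : IsPGroup 2 (Subgroup.zpowers z) := IsPGroup.of_card (n := 1) (by rw [Nat.card_zpowers, hz, pow_one])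
    have hchar := hG _ hzp hz1 ⟨T, fun t ht => hcN t (hzT t ht)⟩
    have h1 := CfsgLib.LocalEven.HasCharP.pPrimeCore_eq_bot hchar
    have hO' : O.subgroupOf N ≤ Cfsg.pPrimeCore 2 ↥N := by
      refine CfsgLib.Cores.le_pPrimeCore ?_
      refine Nat.Coprime.coprime_dvd_left ?_ (Nat.coprime_two_right.2 hOodd)
      exact Subgroup.card_comap_dvd_of_injective O N.subtype N.subtype_injective
    rw [h1] at hO'
    have := Subgroup.mem_bot.1 (hO' (x := ⟨a, hcN a haz.symm⟩) ha)
    exact congrArg Subtype.val this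
  obtain ⟨T⟩ : Nonempty (Sylow 2 G) := inferInstance
  obtain ⟨z, -, -, hz, hzc⟩ := CfsgLib.LocalEven.exists_orderOf_inf_center_sylow T (K := (⊤ : Subgroup G))
    (by rwa [Subgroup.card_top])
  have hz2 : z * z = 1 := by rw [← sq, ← hz, pow_orderOf_eq_one]
  have hinv := CfsgLib.LocalEven.inverts_of_fixedPointFree hz2 (hnO z) (hfpf T z hz hzc)
  haveI : (Subgroup.centralizer (O : Set G)).Normal := inferInstance
  -- `C(O)` has odd order
  have hodd : Odd (Nat.card (Subgroup.centralizer (O : Set G))) := by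
    rw [← Nat.not_even_iff_odd, even_iff_two_dvd]
    intro h
    obtain ⟨w, hwC, -, hw, hwc⟩ := CfsgLib.LocalEven.exists_orderOf_inf_center_sylow T h
    exact hO ((Subgroup.eq_bot_iff_forall _).2 fun a ha =>
      hfpf T w hw hwc a ha (Subgroup.mem_centralizer_iff.1 hwC a ha).symm)
  have hCO : Subgroup.centralizer (O : Set G) ≤ O := CfsgLib.Cores.le_oddCore_of_odd hodd
  -- hence `z` is central modulo `O`
  have hcen : (z : G ⧸ O) ∈ Subgroup.center (G ⧸ O) := by
    rw [Subgroup.mem_center_iff]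
    intro q
    obtain ⟨g, rfl⟩ := QuotientGroup.mk_surjective q
    show (g : G ⧸ O) * z = z * g
    rw [← QuotientGroup.mk_mul, ← QuotientGroup.mk_mul, QuotientGroup.eq]
    refine hCO (Subgroup.mem_centralizer_iff.2 fun a ha => ?_)
    have e1 : (g * z)⁻¹ * (z * g) = z⁻¹ * (g⁻¹ * z * g) := by group
    rw [e1]
    set b := g * a * g⁻¹ with hb
    have hbO : b ∈ O := Subgroup.Normal.conj_mem inferInstance a ha g
    have h3 : g⁻¹ * z * g * a * (g⁻¹ * z * g)⁻¹ = a⁻¹ := by
      have := hinv b hbO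
      calc g⁻¹ * z * g * a * (g⁻¹ * z * g)⁻¹ = g⁻¹ * (z * b * z⁻¹) * g := by rw [hb]; group
        _ = g⁻¹ * b⁻¹ * g := by rw [this]
        _ = a⁻¹ := by rw [hb]; group
    have h4 := hinv a⁻¹ (inv_mem ha)
    rw [inv_inv] at h4
    have h5 : z⁻¹ * a⁻¹ * z = a := by
      rw [inv_eq_of_mul_eq_one_right hz2]
      simpa [inv_eq_of_mul_eq_one_right hz2] using h4
    calc a * (z⁻¹ * (g⁻¹ * z * g)) = z⁻¹ * a⁻¹ * z * (z⁻¹ * (g⁻¹ * z * g)) := by rw [h5]
      _ = z⁻¹ * (g⁻¹ * z * g * a * (g⁻¹ * z * g)⁻¹) * (g⁻¹ * z * g) := by rw [h3]; group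
      _ = z⁻¹ * (g⁻¹ * z * g) * a := by group
  rw [hZ, Subgroup.mem_bot, QuotientGroup.eq_one_iff] at hcen
  have hdvd := Subgroup.orderOf_dvd_natCard O hcen
  rw [hz] at hdvd
  exact (Nat.not_even_iff_odd.2 hOodd) (even_iff_two_dvd.2 hdvd)

end Cfsg.Agent.S2898
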