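import Cfsg.Statements.S2905
import Cfsg.Agent.Lib.LocalEven.MinimalOver

set_option autoImplicit false
open Cfsg

namespace Cfsg.Agent.S2905

/-- Let P be a finite p-minimal group (a Sylow p-subgroup S is not normal and lies in a unique maximal subgroup M of P) and let F be the normal core of M. Then: every subnormal subgroup N of P contained in M satisfies N ∩ S ≤ O_p(P); if O^p(P) has a normal Sylow p-subgroup then the order of P has at most two prime divisors; every normal subgroup N of P either contains O^p(P) or is contained in F; and O^p(P)F ⧸ F is a minimal normal subgroup of P ⧸ F. -/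
theorem result {P : Type*} [Group P] [Finite P] {p : ℕ} [Fact p.Prime] (hP : Cfsg.IsPMinimal p P) (S : Sylow p P) (M : Subgroup P) (hM : IsCoatom M) (hSM : (S : Subgroup P) ≤ M) [hF : M.normalCore.Normal] : (∀ N : Subgroup P, N.IsSubnormal → N ≤ M → N ⊓ (S : Subgroup P) ≤ Cfsg.pCore p P) ∧ ((∀ T : Sylow p ↥(Cfsg.pResidual p P), (T : Subgroup ↥(Cfsg.pResidual p P)).Normal) → (Nat.card P).primeFactors.card ≤ 2) ∧ (∀ N : Subgroup P, N.Normal → Cfsg.pResidual p P ≤ N ∨ N ≤ M.normalCore) ∧ (∀ N : Subgroup P, N.Normal → M.normalCore ≤ N → N ≤ Cfsg.pResidual p P ⊔ M.normalCore → N = M.normalCore ∨ N = Cfsg.pResidual p P ⊔ M.normalCore) ∧ M.normalCore < Cfsg.pResidual p P ⊔ M.normalCore := by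
  obtain ⟨hSn, M₀, ⟨hM₀, hSM₀⟩, huniq⟩ := hP S
  obtain rfl : M = M₀ := huniq M ⟨hM, hSM⟩
  set R := Cfsg.pResidual p P with hR
  haveI := CfsgLib.Transfer.pResidual_characteristic (p := p) (G := P)
  have hRS : R ⊔ (S : Subgroup P) = ⊤ := CfsgLib.Transfer.pResidual_sup_sylow S
  have hRM : ¬ R ≤ M := fun h => hM.1 (eq_top_iff.2 (hRS ▸ sup_le h hSM))
  have hdich : ∀ N : Subgroup P, N.Normal → R ≤ N ∨ N ≤ M.normalCore := by
    intro N hN
    haveI := hN
    by_cases h : N ⊔ (S : Subgroup P) = ⊤
    · exact Or.inl (CfsgLib.LocalEven.PClosed.pResidual_le_of_sup_eq_top S.2 h)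
    · exact Or.inr (Subgroup.normal_le_normalCore.2
        (le_sup_left.trans (CfsgLib.LocalEven.MinOver.le_of_ne_top huniq le_sup_right h)))
  have hlt : M.normalCore < R ⊔ M.normalCore :=
    lt_of_le_of_ne le_sup_right fun h => hRM ((le_sup_left.trans h.ge).trans M.normalCore_le)
  refine ⟨fun N hN hNM => ?_, fun hsyl => ?_, hdich, fun N hN h1 h2 => ?_, hlt⟩
  · have h1 := CfsgLib.LocalEven.MinOver.le_normalCore_of_isSubnormal hM hSM huniq hN hNM
    rw [inf_comm]
    exact (inf_le_inf_left _ h1).trans
      (CfsgLib.LocalEven.MinOver.inf_le_pCore S hM huniq M.normalCore M.normalCore_le)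
  · -- two primes
    classical
    obtain ⟨Q₀⟩ : Nonempty (Sylow p ↥R) := inferInstance
    haveI := hsyl Q₀
    set Q := (Q₀ : Subgroup ↥R).map R.subtype with hQdef
    have hQS : Q ≤ (S : Subgroup P) := by
      haveI : Q.Normal := by
        have h1 : (Q₀ : Subgroup ↥R) = Cfsg.pCore p ↥R := (CfsgLib.Cores.pCore_eq_of_normal_sylow Q₀).symm
        rw [hQdef, h1]; exact CfsgLib.Cores.map_subtype_pCore_normal p R
      exact (CfsgLib.Cores.le_pCore (Q₀.2.map _)).trans (CfsgLib.Cores.pCore_le_sylow S)
    have hQR : Q ≤ R := Subgroup.map_subtype_le _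
    -- a subgroup `S * L` with `L` a `q`-group, not inside `M`
    have hsome : ∃ (q : ℕ) (L : Subgroup P), q.Prime ∧ (∀ r : ℕ, r.Prime → r ∣ Nat.card L → r = p ∨ r = q) ∧
        (S : Subgroup P) ≤ Subgroup.normalizer (L : Set P) ∧ ¬ L ≤ M := by
      by_contra hall
      push Not at hall
      apply hRM
      have hdvd : Nat.card R ∣ Nat.card ↥(R ⊓ M) := by
        rw [Nat.dvd_iff_prime_pow_dvd_dvd]
        intro q k hq hqk
        haveI : Fact q.Prime := ⟨hq⟩
        obtain ⟨L₀⟩ : Nonempty (Sylow q ↥R) := inferInstance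
        by_cases hqp : q = p
        · subst hqp
          refine dvd_trans ?_ (Subgroup.card_dvd_of_le (le_inf hQR (hQS.trans hSM) : Q ≤ R ⊓ M))
          rw [hQdef, Subgroup.card_map_of_injective R.subtype_injective, Q₀.card_eq_multiplicity]
          exact pow_dvd_pow q ((hq.pow_dvd_iff_le_factorization Nat.card_pos.ne').1 hqk)
        -- an `S`-invariant `Q L`
        set D₀ := (Q₀ : Subgroup ↥R) ⊔ (L₀ : Subgroup ↥R) with hD₀
        have hdiv1 : ∀ D : Subgroup P, D ≤ R → Q ≤ D →
            (∀ g : P, g ∈ Subgroup.normalizer (D : Set P) ⊔ R) → ¬ p ∣ (Subgroup.normalizer (D : Set P)).index := by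
          intro D hDR hQD hsup hd
          have htop : R ⊔ Subgroup.normalizer (D : Set P) = ⊤ := by
            rw [sup_comm]; exact eq_top_iff.2 fun g _ => hsup g
          have h1 : (Subgroup.normalizer (D : Set P)).relIndex R = (Subgroup.normalizer (D : Set P)).index := by
            have e1 := Subgroup.card_mul_index (Subgroup.normalizer (D : Set P))
            have e2 := Subgroup.relIndex_mul_index (inf_le_left : Subgroup.normalizer (D : Set P) ⊓ R ≤ _)
            have e3 : (Subgroup.normalizer (D : Set P) ⊓ R).relIndex (Subgroup.normalizer (D : Set P)) = R.index := by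
              rw [inf_comm, Subgroup.inf_relIndex_right, ← Subgroup.relIndex_sup_right, sup_comm, htop,
                Subgroup.relIndex_top_right]
            have e4 := Subgroup.relIndex_mul_index (inf_le_right : Subgroup.normalizer (D : Set P) ⊓ R ≤ R)
            rw [Subgroup.inf_relIndex_right] at e4
            rw [e3] at e2
            rw [← e2, mul_comm] at e4
            exact Nat.eq_of_mul_eq_mul_left (Nat.pos_of_ne_zero Subgroup.index_ne_zero_of_finite) e4
          rw [← h1] at hd
          have hQN : Q ≤ Subgroup.normalizer (D : Set P) := hQD.trans Subgroup.le_normalizer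
          have h2 := hd.trans (Subgroup.relIndex_dvd_of_le_left R hQN)
          rw [hQdef, Subgroup.relIndex, Subgroup.subgroupOf,
            Subgroup.comap_map_eq_self_of_injective R.subtype_injective] at h2
          exact Q₀.not_dvd_index h2
        set L := (L₀ : Subgroup ↥R).map R.subtype
        set D := Q ⊔ L with hD
        have hQn : ∀ g : P, Q.map (MulAut.conj g).toMonoidHom = Q := by
          intro g
          have hn : Q.Normal := by
            have h1 : (Q₀ : Subgroup ↥R) = Cfsg.pCore p ↥R := (CfsgLib.Cores.pCore_eq_of_normal_sylow Q₀).symm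
            rw [hQdef, h1]; exact CfsgLib.Cores.map_subtype_pCore_normal p R
          exact Subgroup.mem_normalizer_iff_map_conj_eq.1 (by rw [Subgroup.normalizer_eq_top]; trivial)
        have hsup : ∀ g : P, g ∈ Subgroup.normalizer (D : Set P) ⊔ R := by
          intro g
          have h := Sylow.normalizer_sup_eq_top L₀
          have hg : g ∈ Subgroup.normalizer (L : Set P) ⊔ R := h ▸ Subgroup.mem_top g
          refine sup_le_sup_right ?_ R hg
          intro n hn
          refine Subgroup.mem_normalizer_iff_map_conj_eq.2 ?_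
          rw [hD, Subgroup.map_sup]
          exact congrArg₂ _ (hQn n) (Subgroup.mem_normalizer_iff_map_conj_eq.1 hn)
        have hnd := hdiv1 D (sup_le hQR (Subgroup.map_subtype_le _)) le_sup_left hsup
        obtain ⟨U⟩ : Nonempty (Sylow p ↥(Subgroup.normalizer (D : Set P))) := inferInstance
        set U' := (U : Subgroup ↥(Subgroup.normalizer (D : Set P))).map (Subgroup.normalizer (D : Set P)).subtype
        have hU' : ¬ p ∣ U'.index := by
          rw [Subgroup.index_map_subtype]
          exact (Fact.out : p.Prime).not_dvd_mul U.not_dvd_index hnd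
        obtain ⟨g, hg⟩ := MulAction.exists_smul_eq P ((U.2.map _).toSylow hU') S
        set D' := D.map (MulAut.conj g).toMonoidHom
        have hSD' : (S : Subgroup P) ≤ Subgroup.normalizer (D' : Set P) := by
          intro s hs
          rw [← hg, Sylow.coe_subgroup_smul] at hs
          obtain ⟨u, hu, rfl⟩ := hs
          exact Subgroup.le_normalizer_map (H := D) (MulAut.conj g).toMonoidHom
            ⟨u, Subgroup.map_subtype_le _ hu, rfl⟩
        have hD'card : ∀ r : ℕ, r.Prime → r ∣ Nat.card D' → r = p ∨ r = q := by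
          intro r hr hrd
          rw [Subgroup.card_map_of_injective (MulAut.conj g).injective] at hrd
          haveI : Q.Normal := by
            rw [← Subgroup.normalizer_eq_top_iff, eq_top_iff]
            exact fun x _ => Subgroup.mem_normalizer_iff_map_conj_eq.2 (hQn x)
          have h2 := hrd.trans (CfsgLib.Cores.card_sup_dvd_mul Q L)
          obtain ⟨a, ha⟩ := IsPGroup.iff_card.1 (Q₀.2.map R.subtype)
          obtain ⟨b, hb⟩ := IsPGroup.iff_card.1 (L₀.2.map R.subtype)
          rw [show Nat.card Q = p ^ a from ha, show Nat.card L = q ^ b from hb, hr.dvd_mul] at h2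
          rcases h2 with h2 | h2
          · exact Or.inl ((Nat.prime_dvd_prime_iff_eq hr Fact.out).1 (hr.dvd_of_dvd_pow h2))
          · exact Or.inr ((Nat.prime_dvd_prime_iff_eq hr hq).1 (hr.dvd_of_dvd_pow h2))
        have hD'M := hall q D' hq hD'card hSD'
        have hD'R : D' ≤ R := by
          rintro _ ⟨d, hd, rfl⟩
          exact Subgroup.Normal.conj_mem inferInstance d ((sup_le hQR (Subgroup.map_subtype_le _) : D ≤ R) hd) g
        refine dvd_trans ?_ (Subgroup.card_dvd_of_le (le_inf hD'R hD'M))
        rw [Subgroup.card_map_of_injective (MulAut.conj g).injective]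
        refine dvd_trans ?_ (Subgroup.card_dvd_of_le (le_sup_right : L ≤ D))
        rw [Subgroup.card_map_of_injective R.subtype_injective, L₀.card_eq_multiplicity]
        exact pow_dvd_pow q ((hq.pow_dvd_iff_le_factorization Nat.card_pos.ne').1 hqk)
      exact inf_eq_left.1 (Subgroup.eq_of_le_of_card_ge inf_le_left (Nat.le_of_dvd Nat.card_pos hdvd))
    obtain ⟨q, L, hq, hcard, hSL, hLM⟩ := hsome
    have htop : L ⊔ (S : Subgroup P) = ⊤ := by
      by_contra h
      exact hLM (le_sup_left.trans (CfsgLib.LocalEven.MinOver.le_of_ne_top huniq le_sup_right h))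
    haveI : L.Normal := by
      rw [← Subgroup.normalizer_eq_top_iff, eq_top_iff, ← htop]
      exact sup_le Subgroup.le_normalizer hSL
    have hsub : (Nat.card P).primeFactors ⊆ {p, q} := by
      intro r hr
      obtain ⟨hr1, hr2, -⟩ := Nat.mem_primeFactors.1 hr
      have h3 := CfsgLib.Cores.card_sup_dvd_mul L (S : Subgroup P)
      rw [htop, Subgroup.card_top] at h3
      rcases hr1.dvd_mul.1 (hr2.trans h3) with h4 | h4
      · rcases hcard r hr1 h4 with h5 | h5 <;> simp [h5]
      · obtain ⟨a, ha⟩ := IsPGroup.iff_card.1 S.2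
        rw [ha] at h4
        simp [(Nat.prime_dvd_prime_iff_eq hr1 Fact.out).1 (hr1.dvd_of_dvd_pow h4)]
    exact (Finset.card_le_card hsub).trans Finset.card_le_two
  · rcases hdich N hN with h | h
    · exact Or.inr (le_antisymm h2 (sup_le h h1))
    · exact Or.inl (le_antisymm h h1)

end Cfsg.Agent.S2905
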