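import Cfsg.Statements.S2906
import Cfsg.Agent.S2836
import Cfsg.Agent.Lib.LocalEven.MinimalOver
import Cfsg.Agent.Lib.Cores.Components
import Cfsg.Agent.Lib.Cores.Layer
import Cfsg.Agent.Lib.Cores.Coprime
import Cfsg.Agent.Lib.Solvable.CoprimeAction

set_option autoImplicit false
open Cfsg CfsgLib.LocalEven
open scoped commutatorElement

namespace Cfsg.Agent.S2906

variable {P : Type*} [Group P] [Finite P] {p : ℕ} [Fact p.Prime]

/-- The structure of a normal subgroup of a `p`-minimal group with `O_p = 1`. -/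
private theorem normal_dichotomy (hOp : pCore p P = ⊥) (S : Sylow p P) (M : Subgroup P) (hM : IsCoatom M)
    (hSM : (S : Subgroup P) ≤ M) (hu : ∀ M' : Subgroup P, IsCoatom M' ∧ (S : Subgroup P) ≤ M' → M' = M)
    (hSn : ¬ (S : Subgroup P).Normal) (N : Subgroup P) [N.Normal] :
    pResidual p P ≤ N ∨ (N ≤ M ∧ Group.IsNilpotent ↥N) := by
  by_cases hNM : N ≤ M
  · right
    refine ⟨hNM, ?_⟩
    have hnc : Subgroup.normalClosure ((S : Subgroup P) : Set P) = ⊤ := by
      by_contra h
      apply hSn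
      set C := Subgroup.normalClosure ((S : Subgroup P) : Set P) with hC
      have hSC : (S : Subgroup P) ≤ C := Subgroup.subset_normalClosure
      have h1 := MinOver.inf_le_pCore S hM hu C (MinOver.le_of_ne_top hu hSC h)
      rw [inf_eq_left.2 hSC, hOp, le_bot_iff] at h1
      rw [h1]
      infer_instance
    have hTS : ∃ T : Sylow p ↥M, (S : Subgroup P) ≤ (T : Subgroup ↥M).map M.subtype :=
      ⟨S.subtype hSM, fun x hx => ⟨⟨x, hSM hx⟩, hx, rfl⟩⟩
    obtain ⟨T, hT⟩ := hTS
    have h := (Cfsg.Agent.S2836.result M hM T (S : Subgroup P) hT ⟨hnc, M, ⟨hM, hSM⟩, hu⟩).2 N hNM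
    have hcore : pCore p ↥N = ⊥ := by
      have h1 := CfsgLib.Cores.map_subtype_pCore_le_of_normal p N
      rw [hOp, le_bot_iff, Subgroup.map_eq_bot_iff_of_injective _ N.subtype_injective] at h1
      exact h1
    have hnil := h.2.1
    exact Group.nilpotent_of_mulEquiv
      ((QuotientGroup.quotientMulEquivOfEq hcore).trans QuotientGroup.quotientBot)
  · left
    refine PClosed.pResidual_le_of_sup_eq_top S.2 ?_
    by_contra h
    exact hNM (le_sup_left.trans (MinOver.le_of_ne_top hu le_sup_right h))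

omit [Finite P] [Fact p.Prime] in
private theorem isNilpotent_of_le {A B : Subgroup P} (h : A ≤ B) (hB : Group.IsNilpotent ↥B) :
    Group.IsNilpotent ↥A :=
  Group.nilpotent_of_mulEquiv (Subgroup.subgroupOfEquivOfLe h)

/-- Let P be a finite p-minimal group with O_p(P) = 1, S a Sylow p-subgroup of P and K a component of P. Then O^p(P) = F*(P) = E(P) is generated by the S-conjugates of K, and the subgroup K·N_S(K) is again p-minimal. -/
theorem result {P : Type*} [Group P] [Finite P] {p : ℕ} [Fact p.Prime] (hP : Cfsg.IsPMinimal p P) (hOp : Cfsg.pCore p P = ⊥) (S : Sylow p P) (K : Subgroup P) (hK : Cfsg.IsComponent K) : Cfsg.pResidual p P = Cfsg.generalizedFittingSubgroup P ∧ Cfsg.generalizedFittingSubgroup P = Cfsg.layer P ∧ Cfsg.layer P = ⨆ s : ↥(S : Subgroup P), K.map (MulAut.conj (s : P)).toMonoidHom ∧ Cfsg.IsPMinimal p ↥(K ⊔ ((S : Subgroup P) ⊓ Subgroup.normalizer (K : Set P))) := by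
  have hpp : p.Prime := Fact.out
  obtain ⟨hSn, M, ⟨hM, hSM⟩, hu⟩ := hP S
  have hdich : ∀ (N : Subgroup P) [N.Normal], pResidual p P ≤ N ∨ (N ≤ M ∧ Group.IsNilpotent ↥N) :=
    fun N _ => normal_dichotomy hOp S M hM hSM hu hSn N
  have hKnn : ¬ Group.IsNilpotent ↥K := CfsgLib.Cores.center_eq_top_of_isNilpotent_quasisimple hK.2
  have hKperf : ⁅K, K⁆ = K := CfsgLib.Cores.component_commutator_self hK
  have hEn : (layer P).Normal := CfsgLib.Cores.layer_normal
  have hcomp : ∀ s : P, IsComponent (K.map (MulAut.conj s).toMonoidHom) := fun s =>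
    CfsgLib.Cores.isComponent_map_equiv (MulAut.conj s) hK
  have hResE : pResidual p P ≤ layer P := (hdich (layer P)).resolve_right fun h =>
    hKnn (isNilpotent_of_le (CfsgLib.Cores.component_le_layer hK) h.2)
  have hERes : layer P ≤ pResidual p P := by
    have hQ : IsPGroup p (P ⧸ pResidual p P) := CfsgLib.Transfer.isPGroup_quotient_pResidual
    set J := (layer P).map (QuotientGroup.mk' (pResidual p P)) with hJ
    have hperf : ⁅J, J⁆ = J := by rw [hJ, ← Subgroup.map_commutator, CfsgLib.Cores.commutator_layer_self]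
    by_contra hne
    have hJ1 : J ≠ ⊥ := fun h => hne (by rwa [hJ, Subgroup.map_eq_bot_iff, QuotientGroup.ker_mk'] at h)
    have hnt : Nontrivial ↥J := (Subgroup.nontrivial_iff_ne_bot _).2 hJ1
    have hnil := (hQ.to_subgroup J).isNilpotent
    have hsol : Group.IsSolvable ↥J := inferInstance
    refine (Group.IsSolvable.commutator_lt_top_of_nontrivial ↥J).ne ?_
    apply Subgroup.map_injective (Subgroup.subtype_injective _)
    rw [CfsgLib.Cores.map_commutator_top_le, hperf, ← MonoidHom.range_eq_map, Subgroup.range_subtype]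
  have hres : pResidual p P = layer P := le_antisymm hResE hERes
  have hFstar : generalizedFittingSubgroup P = layer P := by
    rw [generalizedFittingSubgroup, sup_eq_left, ← hres]
    intro x hx
    refine Subgroup.subset_closure ?_
    show (orderOf x).Coprime p
    have hn : (fittingSubgroup P).Normal := CfsgLib.Cores.fittingSubgroup_normal
    have hcop : (Nat.card ↥(fittingSubgroup P)).Coprime p := by
      rw [CfsgLib.Cores.coprime_iff_not_dvd hpp]
      intro hd
      obtain ⟨Q⟩ : Nonempty (Sylow p ↥(fittingSubgroup P)) := inferInstance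
      have h : Group.IsNilpotent ↥(fittingSubgroup P) ↔ ∀ (q : ℕ) (_ : Fact q.Prime)
          (Q : Sylow q ↥(fittingSubgroup P)), (Q : Subgroup ↥(fittingSubgroup P)).Normal :=
        (Group.isNilpotent_of_finite_tfae (G := ↥(fittingSubgroup P))).out 0 3
      have hQn := h.1 CfsgLib.Cores.isNilpotent_fittingSubgroup p inferInstance Q
      have hQc : (Q : Subgroup ↥(fittingSubgroup P)).Characteristic := Q.characteristic_of_normal hQn
      have : ((Q : Subgroup ↥(fittingSubgroup P)).map (fittingSubgroup P).subtype).Normal := inferInstance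
      have h1 := hOp ▸ CfsgLib.Cores.le_pCore (Q.2.map (fittingSubgroup P).subtype)
      rw [le_bot_iff, Subgroup.map_eq_bot_iff_of_injective _ (Subgroup.subtype_injective _)] at h1
      exact Q.ne_bot_of_dvd_card hd h1
    exact hcop.coprime_dvd_left (Subgroup.orderOf_dvd_natCard _ hx)
  -- subgroups invariant under `S`
  have hinv : ∀ W : Subgroup P, (S : Subgroup P) ≤ Subgroup.normalizer (W : Set P) →
      W ⊔ (S : Subgroup P) = ⊤ → layer P ≤ W := by
    intro W hW htop
    have hWn : W.Normal := Subgroup.normalizer_eq_top_iff.1 (eq_top_iff.2 (htop ▸ sup_le Subgroup.le_normalizer hW))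
    exact hres ▸ PClosed.pResidual_le_of_sup_eq_top S.2 htop
  have horbit : ∀ A : Subgroup P, (S : Subgroup P) ≤
      Subgroup.normalizer ((⨆ s : ↥(S : Subgroup P), A.map (MulAut.conj (s : P)).toMonoidHom : Subgroup P) : Set P) := by
    intro A t ht
    refine mem_normalizer_of_conj_le ?_
    rw [Subgroup.map_iSup]
    refine iSup_le fun s => ?_
    refine le_trans ?_ (le_iSup (fun s : ↥(S : Subgroup P) => A.map (MulAut.conj (s : P)).toMonoidHom)
      ⟨t * s, mul_mem ht s.2⟩)
    rintro _ ⟨_, ⟨a, ha, rfl⟩, rfl⟩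
    exact ⟨a, ha, by simp [mul_assoc]⟩
  set EK := ⨆ s : ↥(S : Subgroup P), K.map (MulAut.conj (s : P)).toMonoidHom with hEK
  have hEK' : EK = layer P := by
    refine le_antisymm (iSup_le fun s => CfsgLib.Cores.component_le_layer (hcomp s)) ?_
    refine hinv _ (horbit K) ?_
    have hPE : layer P ⊔ (S : Subgroup P) = ⊤ :=
      top_unique ((CfsgLib.Transfer.pResidual_sup_sylow S).ge.trans (sup_le_sup_right hResE _))
    have hn : EK.Normal := Subgroup.normalizer_eq_top_iff.1 (eq_top_iff.2 (hPE ▸ sup_le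
      (CfsgLib.Cores.layer_le_iff.2 fun L hL => fun l hl => by
        refine mem_normalizer_of_conj_le ?_
        rw [hEK, Subgroup.map_iSup]
        refine iSup_le fun s => le_trans ?_
          (le_iSup (fun s : ↥(S : Subgroup P) => K.map (MulAut.conj (s : P)).toMonoidHom) s)
        exact (Subgroup.mem_normalizer_iff_map_conj_eq.1
          (CfsgLib.Cores.component_le_normalizer_component hL (hcomp s) hl)).le) (horbit K)))
    rcases hdich EK with h | h
    · rw [eq_top_iff, ← CfsgLib.Transfer.pResidual_sup_sylow S]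
      exact sup_le_sup_right h _
    · exfalso
      refine hKnn (isNilpotent_of_le ?_ h.2)
      refine le_trans ?_ (le_iSup (fun s : ↥(S : Subgroup P) => K.map (MulAut.conj (s : P)).toMonoidHom)
        ⟨1, (S : Subgroup P).one_mem⟩)
      intro k hk
      exact ⟨k, hk, by simp⟩
  refine ⟨hres.trans hFstar.symm, hFstar, hEK'.symm, ?_⟩
  -- `p` divides `|K|`
  have hSK : (S : Subgroup P) ⊓ K ≠ ⊥ := by
    intro hbot
    obtain ⟨Q, hQ⟩ := exists_sylow_eq_inf_of_isSubnormal S (K := K) hK.1
    have hc : (Nat.card ↥K).Coprime p := by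
      rw [CfsgLib.Cores.coprime_iff_not_dvd hpp]
      exact fun hd => Q.ne_bot_of_dvd_card hd (by rw [hQ, Subgroup.subgroupOf_eq_bot]; exact disjoint_iff.2 hbot)
    have hE0 : layer P ≤ pPrimeCore p P := hEK' ▸ iSup_le fun s =>
      CfsgLib.Cores.le_pPrimeCore_of_isSubnormal (hcomp s).1
        (by rwa [Subgroup.card_map_of_injective (MulAut.conj (s : P)).injective])
    have hEc : (Nat.card ↥(layer P)).Coprime p :=
      (CfsgLib.Cores.coprime_card_pPrimeCore p).coprime_dvd_left (Subgroup.card_dvd_of_le hE0)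
    obtain ⟨n, hn⟩ := IsPGroup.iff_card.1 S.2
    have hScop : (Nat.card ↥(S : Subgroup P)).Coprime (Nat.card ↥(layer P)) := hn ▸ hEc.symm.pow_left n
    have hsolS : Group.IsSolvable ↥(S : Subgroup P) := by have := S.2.isNilpotent; infer_instance
    have hEM : layer P ≤ M := by
      have key : ∀ (r : ℕ) (hr : Fact r.Prime), ∃ R : Sylow r ↥(layer P), (R : Subgroup ↥(layer P)).map (layer P).subtype ≤ M := by
        intro r hr
        obtain ⟨R, hR⟩ := @CfsgLib.Solvable.exists_invariant_sylow P _ _ (S : Subgroup P) (layer P)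
          (by rw [Subgroup.normalizer_eq_top]; exact le_top) hScop (Or.inl hsolS) r hr
        refine ⟨R, le_sup_left.trans (MinOver.le_of_ne_top hu (le_sup_right : (S : Subgroup P) ≤ _) fun h => ?_)⟩
        have hle := hinv _ hR h
        refine hKnn (isNilpotent_of_le ((CfsgLib.Cores.component_le_layer hK).trans hle) ?_)
        exact (R.2.map _).isNilpotent
      have hidx : (M.subgroupOf (layer P)).index = 1 := by
        by_contra h
        obtain ⟨r, hr, hrd⟩ := Nat.exists_prime_and_dvd h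
        obtain ⟨R, hR⟩ := key r ⟨hr⟩
        have hle : (R : Subgroup ↥(layer P)) ≤ M.subgroupOf (layer P) := fun x hx => hR ⟨x, hx, rfl⟩
        have : Fact r.Prime := ⟨hr⟩
        exact R.not_dvd_index (hrd.trans (Subgroup.index_dvd_of_le hle))
      exact Subgroup.subgroupOf_eq_top.1 (Subgroup.index_eq_one.1 hidx)
    exact hKnn (isNilpotent_of_le (CfsgLib.Cores.component_le_layer hK) ((hdich (layer P)).resolve_left
      fun h => hM.1 (eq_top_iff.2 ((CfsgLib.Transfer.pResidual_sup_sylow S).ge.trans (sup_le (h.trans hEM) hSM)))).2)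
  set SK := (S : Subgroup P) ⊓ Subgroup.normalizer (K : Set P) with hSKdef
  set P₁ := K ⊔ SK with hP₁
  have hSKn : SK ≤ Subgroup.normalizer (K : Set P) := inf_le_right
  have hSKK : (S : Subgroup P) ⊓ K ≤ SK := inf_le_inf_left _ Subgroup.le_normalizer
  -- the `S`-closure of a subgroup of `K` invariant under `SK`
  have hkey : ∀ X : Subgroup P, SK ≤ X → X ≤ P₁ → ¬ K ≤ X →
      X ⊓ K ≤ M ∧ X = (X ⊓ K) ⊔ SK := by
    intro X hSX hXP hKX
    have hdec : X = (X ⊓ K) ⊔ SK := by
      refine le_antisymm (fun x hx => ?_) (sup_le inf_le_left hSX)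
      have h1 : x ∈ K ⊔ SK := hXP hx
      rw [← SetLike.mem_coe, Subgroup.coe_mul_of_right_le_normalizer_left K SK hSKn] at h1
      obtain ⟨k, hk, s, hs, rfl⟩ := h1
      refine mul_mem (Subgroup.mem_sup_left ⟨?_, hk⟩) (Subgroup.mem_sup_right hs)
      simpa using X.mul_mem hx (X.inv_mem (hSX hs))
    refine ⟨?_, hdec⟩
    set A := X ⊓ K with hA
    have hAinv : SK ≤ Subgroup.normalizer (A : Set P) := fun t ht =>
      Subgroup.mem_normalizer_iff.2 fun x => and_congr
        (Subgroup.mem_normalizer_iff.1 (Subgroup.le_normalizer (hSX ht)) x)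
        (Subgroup.mem_normalizer_iff.1 (hSKn ht) x)
    set W := ⨆ s : ↥(S : Subgroup P), A.map (MulAut.conj (s : P)).toMonoidHom with hW
    have hAW : A ≤ W := fun a ha => Subgroup.mem_iSup_of_mem (⟨1, (S : Subgroup P).one_mem⟩ : ↥(S : Subgroup P))
      ⟨a, ha, by simp⟩
    by_cases htop : W ⊔ (S : Subgroup P) = ⊤
    · exfalso
      have hKW : K ≤ W := (CfsgLib.Cores.component_le_layer hK).trans (hinv W (horbit A) htop)
      have hWle : W ≤ A ⊔ Subgroup.centralizer (K : Set P) := by
        refine iSup_le fun s => ?_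
        by_cases hs : K.map (MulAut.conj (s : P)).toMonoidHom = K
        · exact le_sup_of_le_left (Subgroup.mem_normalizer_iff_map_conj_eq.1
            (hAinv ⟨s.2, Subgroup.mem_normalizer_iff_map_conj_eq.2 hs⟩)).le
        · refine le_sup_of_le_right ((Subgroup.map_mono inf_le_right).trans ?_)
          rw [← Subgroup.commutator_eq_bot_iff_le_centralizer]
          exact CfsgLib.Cores.commutator_components_eq_bot (hcomp s) hK hs
      apply hKX
      conv_lhs => rw [← hKperf]
      refine Subgroup.commutator_le.2 fun a ha b hb => ?_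
      have hAC : A ≤ Subgroup.normalizer (Subgroup.centralizer (K : Set P) : Set P) :=
        (inf_le_right.trans Subgroup.le_normalizer).trans (CfsgLib.Solvable.normalizer_le_normalizer_centralizer K)
      have ha' := hWle (hKW ha)
      have hb' := hWle (hKW hb)
      rw [← SetLike.mem_coe, Subgroup.coe_mul_of_left_le_normalizer_right _ _ hAC] at ha' hb'
      obtain ⟨a₁, ha₁, c, hc, rfl⟩ := ha'
      obtain ⟨b₁, hb₁, d, hd, rfl⟩ := hb'
      have hcK : c ∈ K := by simpa using K.mul_mem (K.inv_mem ha₁.2) ha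
      have hdK : d ∈ K := by simpa using K.mul_mem (K.inv_mem hb₁.2) hb
      have e1 : ∀ k ∈ K, k * c = c * k := fun k hk => Subgroup.mem_centralizer_iff.1 hc k hk
      have e2 : ∀ k ∈ K, k * d = d * k := fun k hk => Subgroup.mem_centralizer_iff.1 hd k hk
      have : ⁅a₁ * c, b₁ * d⁆ = ⁅a₁, b₁⁆ := by
        rw [commutatorElement_def, commutatorElement_def]
        calc a₁ * c * (b₁ * d) * (a₁ * c)⁻¹ * (b₁ * d)⁻¹
            = a₁ * (c * (b₁ * d)) * c⁻¹ * a₁⁻¹ * d⁻¹ * b₁⁻¹ := by group
          _ = a₁ * b₁ * (d * a₁⁻¹) * d⁻¹ * b₁⁻¹ := by rw [← e1 _ (K.mul_mem hb₁.2 hdK)]; group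
          _ = a₁ * b₁ * a₁⁻¹ * b₁⁻¹ := by rw [← e2 _ (K.inv_mem ha₁.2)]; group
      rw [this, commutatorElement_def]
      exact X.mul_mem (X.mul_mem (X.mul_mem ha₁.1 hb₁.1) (X.inv_mem ha₁.1)) (X.inv_mem hb₁.1)
    · exact hAW.trans (le_sup_left.trans (MinOver.le_of_ne_top hu le_sup_right htop))
  have hKM : ¬ K ≤ M := fun hKM => by
    apply hM.1
    rw [eq_top_iff, ← CfsgLib.Transfer.pResidual_sup_sylow S, hres, ← hEK']
    refine sup_le (iSup_le fun s => ?_) hSM
    exact (Subgroup.map_mono hKM).trans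
      (Subgroup.mem_normalizer_iff_map_conj_eq.1 (Subgroup.le_normalizer (hSM s.2))).le
  set M₁ := (M ⊓ K) ⊔ SK with hM₁
  have hM₁K : ¬ K ≤ M₁ := fun h => hKM (h.trans (sup_le inf_le_left (inf_le_left.trans hSM)))
  have hM₁P : M₁ ≤ P₁ := sup_le (inf_le_right.trans le_sup_left) le_sup_right
  have hbelow : ∀ X : Subgroup ↥P₁, SK.subgroupOf P₁ ≤ X → X ≠ ⊤ → X ≤ M₁.subgroupOf P₁ := by
    intro X hX hXtop
    rw [← Subgroup.map_subtype_le_map_subtype, Subgroup.subgroupOf_map_subtype, inf_eq_left.2 hM₁P]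
    have hX' : SK ≤ X.map P₁.subtype := fun s hs => ⟨⟨s, le_sup_right (a := K) hs⟩, hX hs, rfl⟩
    have hKX : ¬ K ≤ X.map P₁.subtype := fun h => hXtop (by
      rw [eq_top_iff, ← Subgroup.map_subtype_le_map_subtype, ← MonoidHom.range_eq_map, Subgroup.range_subtype]
      exact sup_le h hX')
    obtain ⟨h1, h2⟩ := hkey _ hX' (Subgroup.map_subtype_le X) hKX
    rw [h2]
    exact sup_le_sup_right (le_inf h1 inf_le_right) SK
  have hM₁top : M₁.subgroupOf P₁ ≠ ⊤ := fun h => hM₁K (le_sup_left.trans (Subgroup.subgroupOf_eq_top.1 h))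
  obtain ⟨T₀, hT₀⟩ : ∃ T₀ : Sylow p ↥P₁, (T₀ : Subgroup ↥P₁) = SK.subgroupOf P₁ := by
    refine ⟨IsPGroup.toSylow (P := SK.subgroupOf P₁) (S.2.to_le inf_le_left).comap_subtype ?_, rfl⟩
    obtain ⟨Q, hQ⟩ := exists_sylow_eq_inf_of_isSubnormal S (K := K) hK.1
    intro hd
    refine Q.not_dvd_index ?_
    rw [hQ]
    show p ∣ (S : Subgroup P).relIndex K
    have h1 : Nat.card ↥SK * SK.relIndex P₁ = Nat.card ↥P₁ := by
      rw [← Subgroup.relIndex_bot_left SK, ← Subgroup.relIndex_bot_left P₁]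
      exact Subgroup.relIndex_mul_relIndex ⊥ SK P₁ bot_le le_sup_right
    have h2 : Nat.card ↥K * K.relIndex P₁ = Nat.card ↥P₁ := by
      rw [← Subgroup.relIndex_bot_left K, ← Subgroup.relIndex_bot_left P₁]
      exact Subgroup.relIndex_mul_relIndex ⊥ K P₁ bot_le le_sup_left
    have hKn1 : (K.subgroupOf P₁).Normal := (Subgroup.normal_subgroupOf_iff_le_normalizer le_sup_left).2
      (sup_le Subgroup.le_normalizer hSKn)
    have h3 : K.relIndex P₁ = (K ⊓ SK).relIndex SK := by
      rw [Subgroup.inf_relIndex_right]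
      have := Subgroup.relIndex_sup_left (K := K.subgroupOf P₁) (H := SK.subgroupOf P₁)
      rw [← Subgroup.subgroupOf_sup le_sup_left le_sup_right, Subgroup.subgroupOf_self,
        Subgroup.relIndex_top_right, Subgroup.relIndex_subgroupOf le_sup_right] at this
      exact this
    have hinf : K ⊓ SK = (S : Subgroup P) ⊓ K :=
      le_antisymm (le_inf (inf_le_right.trans inf_le_left) inf_le_left) (le_inf inf_le_right hSKK)
    have h4 : Nat.card ↥((S : Subgroup P) ⊓ K) * ((S : Subgroup P) ⊓ K).relIndex K = Nat.card ↥K := by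
      rw [← Subgroup.relIndex_bot_left ((S : Subgroup P) ⊓ K), ← Subgroup.relIndex_bot_left K]
      exact Subgroup.relIndex_mul_relIndex ⊥ _ K bot_le inf_le_right
    have h5 : Nat.card ↥((S : Subgroup P) ⊓ K) * ((S : Subgroup P) ⊓ K).relIndex SK = Nat.card ↥SK := by
      rw [← Subgroup.relIndex_bot_left ((S : Subgroup P) ⊓ K), ← Subgroup.relIndex_bot_left SK]
      exact Subgroup.relIndex_mul_relIndex ⊥ _ SK bot_le hSKK
    rw [Subgroup.inf_relIndex_right] at h4
    rw [h3, hinf, ← h4] at h2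
    rw [← h5, ← h2] at h1
    have h6 : SK.relIndex P₁ = (S : Subgroup P).relIndex K := by
      have hpos : 0 < Nat.card ↥((S : Subgroup P) ⊓ K) * ((S : Subgroup P) ⊓ K).relIndex SK := by
        rw [h5]; exact Nat.card_pos
      refine Nat.eq_of_mul_eq_mul_left hpos ?_
      rw [h1]; ring
    rwa [← h6]
  intro T
  obtain ⟨g, rfl⟩ := MulAction.exists_smul_eq ↥P₁ T₀ T
  have hnot : ¬ (T₀ : Subgroup ↥P₁).Normal := by
    intro hn
    apply hSK
    have hn' : P₁ ≤ Subgroup.normalizer (SK : Set P) :=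
      (Subgroup.normal_subgroupOf_iff_le_normalizer le_sup_right).1 (hT₀ ▸ hn)
    obtain ⟨Q, hQ⟩ := exists_sylow_eq_inf_of_isSubnormal S (K := K) hK.1
    have hQn : (Q : Subgroup ↥K).Normal := by
      rw [hQ]
      refine ⟨fun x hx y => ?_⟩
      have hx' : (x : P) ∈ SK := hSKK ⟨hx, x.2⟩
      exact ((Subgroup.mem_normalizer_iff.1 (hn' (le_sup_left (b := SK) y.2)) x).1 hx').1
    have h1 : (Q : Subgroup ↥K) ≤ pCore p ↥K := CfsgLib.Cores.le_pCore Q.2
    have h2 := (Subgroup.map_mono (f := K.subtype) h1).trans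
      (CfsgLib.Cores.map_subtype_pCore_le_of_isSubnormal p hK.1)
    rw [hOp, le_bot_iff, hQ, Subgroup.subgroupOf_map_subtype] at h2
    exact h2
  let φ : Subgroup ↥P₁ ≃o Subgroup ↥P₁ := MulEquiv.mapSubgroup (MulAut.conj g)
  have hmem : ∀ X : Subgroup ↥P₁, ((g • T₀ : Sylow p ↥P₁) : Subgroup ↥P₁) = φ (T₀ : Subgroup ↥P₁) := fun X => rfl
  have hco : IsCoatom (M₁.subgroupOf P₁) := by
    refine ⟨hM₁top, fun X hX => ?_⟩
    by_contra hXtop
    refine hX.not_ge (hbelow X (le_trans ?_ hX.le) hXtop)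
    exact fun x hx => Subgroup.mem_sup_right hx
  refine ⟨fun hn => hnot ?_, φ (M₁.subgroupOf P₁), ⟨(φ.isCoatom_iff _).2 hco, ?_⟩, fun X hX => ?_⟩
  · have h1 : (T₀ : Subgroup ↥P₁) = φ.symm ((g • T₀ : Sylow p ↥P₁) : Subgroup ↥P₁) := (φ.symm_apply_apply _).symm
    rw [h1]
    exact hn.map (MulAut.conj g).symm.toMonoidHom (MulAut.conj g).symm.surjective
  · rw [hmem ⊤]
    refine φ.monotone ?_
    rw [hT₀]
    exact fun x hx => Subgroup.mem_sup_right hx
  · obtain ⟨hX1, hX2⟩ := hX
    have h1 : SK.subgroupOf P₁ ≤ φ.symm X := by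
      rw [← hT₀, OrderIso.le_symm_apply]
      exact hX2
    have h2 := hbelow _ h1 fun h => hX1.1 (by rw [← φ.apply_symm_apply X, h]; exact φ.map_top)
    have h3 : X ≤ φ (M₁.subgroupOf P₁) := (OrderIso.symm_apply_le _).1 h2
    rcases hX1.le_iff.1 h3 with h | h
    · exact absurd h ((φ.isCoatom_iff _).2 hco).1
    · exact h.symm

end Cfsg.Agent.S2906
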