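import Cfsg.Statements.S2907
import Cfsg.Agent.Lib.PGroup.Extraspecial
open scoped commutatorElement

set_option autoImplicit false
open Cfsg

namespace Cfsg.Agent.S2907

/-- Let X be a finite semi-extraspecial p-group and x an element of X outside the centre. Then the index of C_X(x) in X equals the order of Z(X), and the commutators [x, y], y ∈ X, form exactly the centre Z(X). -/
theorem result {X : Type*} [Group X] [Finite X] {p : ℕ} [Fact p.Prime] (hX : Cfsg.IsSemiExtraspecial p X) (x : X) (hx : x ∉ Subgroup.center X) : (Subgroup.centralizer ({x} : Set X)).index = Nat.card ↥(Subgroup.center X) ∧ {z : X | ∃ y : X, z = x * y * x⁻¹ * y⁻¹} = (Subgroup.center X : Set X) := by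
  obtain ⟨hsp, hY⟩ := hX
  have hcen : ∀ a b : X, ⁅a, b⁆ ∈ Subgroup.center X := CfsgLib.PGroup.special_comm_mem_center hsp
  have hmul : ∀ y z : X, ⁅x, y * z⁆ = ⁅x, y⁆ * ⁅x, z⁆ := fun y z => by
    have h := Subgroup.mem_center_iff.1 (hcen x z) y
    calc ⁅x, y * z⁆ = ⁅x, y⁆ * (y * ⁅x, z⁆ * y⁻¹) := by simp only [commutatorElement_def]; group
      _ = ⁅x, y⁆ * ⁅x, z⁆ := by rw [h, mul_inv_cancel_right]
  let φ : X →* ↥(Subgroup.center X) := MonoidHom.mk' (fun y => ⟨⁅x, y⁆, hcen x y⟩) fun y z => Subtype.ext (hmul y z)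
  have hrange : φ.range = ⊤ := by
    rcases eq_top_or_exists_le_coatom φ.range with h | ⟨M, hM, hle⟩
    · exact h
    exfalso
    have hcoatom : IsCoatom ((M.map (Subgroup.center X).subtype).subgroupOf (Subgroup.center X)) := by
      rwa [Subgroup.subgroupOf, Subgroup.comap_map_eq_self_of_injective (Subgroup.center X).subtype_injective]
    obtain ⟨hYn, hq, -⟩ := hY _ (Subgroup.map_subtype_le _) hcoatom
    haveI := hYn
    have hxY : QuotientGroup.mk' (M.map (Subgroup.center X).subtype) x ∈ Subgroup.center _ := by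
      rw [Subgroup.mem_center_iff]
      intro g
      obtain ⟨y, rfl⟩ := QuotientGroup.mk'_surjective _ g
      symm
      rw [← commutatorElement_eq_one_iff_mul_comm, ← map_commutatorElement, QuotientGroup.mk'_apply,
        QuotientGroup.eq_one_iff]
      exact ⟨φ y, hle ⟨y, rfl⟩, rfl⟩
    rw [← hq.2.2] at hxY
    have hmap : commutator (X ⧸ M.map (Subgroup.center X).subtype) =
        (commutator X).map (QuotientGroup.mk' (M.map (Subgroup.center X).subtype)) := by
      rw [commutator_def, commutator_def, Subgroup.map_commutator,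
        Subgroup.map_top_of_surjective _ (QuotientGroup.mk'_surjective _)]
    rw [hmap, hsp.2.2] at hxY
    obtain ⟨z, hz, hzx⟩ := hxY
    apply hx
    rw [QuotientGroup.mk'_eq_mk'] at hzx
    obtain ⟨w, hw, rfl⟩ := hzx
    exact mul_mem hz (Subgroup.map_subtype_le _ hw)
  refine ⟨?_, ?_⟩
  · have hker : φ.ker = Subgroup.centralizer ({x} : Set X) := by
      ext y
      rw [MonoidHom.mem_ker, Subgroup.mem_centralizer_iff]
      constructor
      · intro h s hs
        rw [Set.mem_singleton_iff.1 hs]
        exact commutatorElement_eq_one_iff_mul_comm.1 (congrArg Subtype.val h :)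
      · intro h
        exact Subtype.ext (commutatorElement_eq_one_iff_mul_comm.2 (h x rfl))
    rw [← hker, Subgroup.index_ker, hrange, Subgroup.card_top]
  · ext z
    constructor
    · rintro ⟨y, rfl⟩
      exact hcen x y
    · intro hz
      obtain ⟨y, hy⟩ := (hrange ▸ Subgroup.mem_top _ : (⟨z, hz⟩ : ↥(Subgroup.center X)) ∈ φ.range)
      exact ⟨y, (congrArg Subtype.val hy).symm⟩

end Cfsg.Agent.S2907
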