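import Cfsg.Statements.S2909
import Cfsg.Agent.Lib.LocalEven.CommLe
import Cfsg.Agent.Lib.LocalEven.CoprimeGen
import Cfsg.Agent.Lib.LocalEven.CharP
open scoped commutatorElement

set_option autoImplicit false
open Cfsg

namespace Cfsg.Agent.S2909

/-- Let p be a prime, E a normal p-subgroup of the finite group G, and U a non-cyclic elementary abelian p-subgroup of G such that either C_E(U) = C_E(u) for every nontrivial u ∈ U, or [E, U] = [E, ⟨u⟩] for every nontrivial u ∈ U. If R is a subgroup of order prime to p normalized by U, then [R, U] centralizes E. -/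
theorem result {G : Type*} [Group G] [Finite G] {p : ℕ} [Fact p.Prime] (E : Subgroup G) [E.Normal] (hE : IsPGroup p ↥E) (U : Subgroup G) (hU : Cfsg.IsElementaryAbelian p U) (hnc : ¬ IsCyclic ↥U) (hcond : (∀ u ∈ U, u ≠ 1 → E ⊓ Subgroup.centralizer (U : Set G) = E ⊓ Subgroup.centralizer ({u} : Set G)) ∨ (∀ u ∈ U, u ≠ 1 → ⁅E, U⁆ = ⁅E, Subgroup.zpowers u⁆)) (R : Subgroup G) (hR : ¬ p ∣ Nat.card ↥R) (hRU : U ≤ Subgroup.normalizer (R : Set G)) : ⁅R, U⁆ ≤ Subgroup.centralizer (E : Set G) := by
  haveI : (Subgroup.centralizer (E : Set G)).Normal := inferInstance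
  have hEn : ∀ {g e : G}, e ∈ E → g * e * g⁻¹ ∈ E := fun {g e} he => Subgroup.Normal.conj_mem inferInstance e he g
  -- it suffices to treat centralizers of nontrivial elements of `U`
  suffices hgen : ∀ u ∈ U, u ≠ 1 → ∀ c ∈ R, u * c = c * u → ∀ u' ∈ U, ⁅c, u'⁆ ∈ Subgroup.centralizer (E : Set G) by
    let S : Subgroup G :=
      { carrier := {c | ∀ u' ∈ U, ⁅c, u'⁆ ∈ Subgroup.centralizer (E : Set G)}
        one_mem' := fun u' _ => by rw [commutatorElement_one_left]; exact one_mem _
        mul_mem' := fun {a b} ha hb u' hu' => by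
          have e : ⁅a * b, u'⁆ = a * ⁅b, u'⁆ * a⁻¹ * ⁅a, u'⁆ := by simp only [commutatorElement_def]; group
          rw [e]
          exact mul_mem (Subgroup.Normal.conj_mem inferInstance _ (hb u' hu') a) (ha u' hu')
        inv_mem' := fun {a} ha u' hu' => by
          have e : ⁅a⁻¹, u'⁆ = a⁻¹ * ⁅a, u'⁆⁻¹ * a⁻¹⁻¹ := by simp only [commutatorElement_def]; group
          rw [e]
          exact Subgroup.Normal.conj_mem inferInstance _ (inv_mem (ha u' hu')) _ }
    have hRS : R ≤ S := CfsgLib.LocalEven.CopGen.le_of_fixed hU hnc hRU hR fun u hu h1 r hr hc => hgen u hu h1 r hr hc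
    rw [Subgroup.commutator_le]
    exact fun c hc u' hu' => hRS hc u' hu'
  intro u hu hu1 c hc huc u' hu'
  set b := ⁅c, u'⁆ with hb
  have hbR : b ∈ R := by
    have h1 := (Subgroup.mem_normalizer_iff.1 (hRU hu') _).1 (inv_mem hc)
    have h2 := mul_mem hc h1
    rwa [← mul_assoc, ← mul_assoc, ← commutatorElement_def] at h2
  have hbo : (orderOf b).Coprime p :=
    (Nat.coprime_comm.1 ((Fact.out : p.Prime).coprime_iff_not_dvd.2 hR)).coprime_dvd_left
      (Subgroup.orderOf_dvd_natCard R hbR)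
  have hbu : Commute u b := by
    have h1 : Commute u c := huc
    have h2 : Commute u u' := CfsgLib.PGroup.elemAb_comm hU hu hu'
    rw [hb, commutatorElement_def]
    exact ((h1.mul_right h2).mul_right h1.inv_right).mul_right h2.inv_right
  have hup : IsPGroup p (Subgroup.zpowers u) :=
    CfsgLib.PGroup.elemAb_isPGroup (CfsgLib.PGroup.elemAb_zpowers (hU.2 u hu))
  have hnE : ∀ g : G, g ∈ Subgroup.normalizer (E : Set G) := fun g => by
    rw [Subgroup.normalizer_eq_top]; exact Subgroup.mem_top g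
  have huE : Subgroup.zpowers u ≤ Subgroup.normalizer (E : Set G) := fun g _ => hnE g
  have hub : ∀ r ∈ Subgroup.zpowers u, b * r = r * b := by
    intro r hr
    obtain ⟨i, rfl⟩ := Subgroup.mem_zpowers_iff.1 hr
    exact ((hbu.zpow_left i).eq).symm
  rw [Subgroup.mem_centralizer_iff]
  rcases hcond with hcond | hcond
  · intro v hv
    refine (CfsgLib.LocalEven.commute_of_commute_fixed hup hE huE hbo (hnE b) hub (fun w hw hfix => ?_) v hv).symm
    have hwU : ∀ {w : G}, w ∈ E → u * w = w * u → u' * w = w * u' := by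
      intro w hw hfix
      have : w ∈ E ⊓ Subgroup.centralizer ({u} : Set G) :=
        ⟨hw, Subgroup.mem_centralizer_iff.2 fun y hy => by rw [Set.mem_singleton_iff.1 hy]; exact hfix⟩
      rw [← hcond u hu hu1] at this
      exact Subgroup.mem_centralizer_iff.1 this.2 u' hu'
    have hfu : Commute u w := hfix u (Subgroup.mem_zpowers u)
    have h0 : Commute u' w := hwU hw hfu
    have hc' : Commute u c := huc
    have h1 : Commute u' (c⁻¹ * w * c) :=
      hwU (by simpa using hEn (g := c⁻¹) hw) ((hc'.inv_right.mul_right hfu).mul_right hc')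
    have h2 : Commute (c * u' * c⁻¹) w := by
      show c * u' * c⁻¹ * w = w * (c * u' * c⁻¹)
      calc c * u' * c⁻¹ * w = c * (u' * (c⁻¹ * w * c)) * c⁻¹ := by group
        _ = c * ((c⁻¹ * w * c) * u') * c⁻¹ := by rw [h1.eq]
        _ = w * (c * u' * c⁻¹) := by group
    show b * w = w * b
    rw [hb, commutatorElement_def]
    exact (h2.mul_left h0.inv_left).eq
  · set Q := ⁅E, Subgroup.zpowers u⁆ with hQ
    have hQE : Q = ⁅E, U⁆ := (hcond u hu hu1).symm
    have hcu : c * u * c⁻¹ = u := by rw [← huc, mul_inv_cancel_right]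
    have hcQ : ∀ g : G, g * u * g⁻¹ = u → ∀ x ∈ Q, g * x * g⁻¹ ∈ Q := by
      intro g hg x hx
      have h : Q.map (MulAut.conj g).toMonoidHom = Q := by
        have hE' : E.map (MulAut.conj g).toMonoidHom = E := Subgroup.mem_normalizer_iff_map_conj_eq.1 (hnE g)
        rw [hQ, Subgroup.map_commutator, hE', MonoidHom.map_zpowers]
        simp [hg]
      exact h.le ⟨x, hx, rfl⟩
    have hu'Q : ∀ {v : G}, u' * v * u'⁻¹ = v → u' * v = v * u' := fun h => mul_inv_eq_iff_eq_mul.1 h
    have huu' : u' * u * u'⁻¹ = u := by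
      rw [CfsgLib.PGroup.elemAb_comm hU hu' hu, mul_inv_cancel_right]
    have hbB : IsPGroup p (Subgroup.zpowers u) := hup
    have hgenQ : ∀ e ∈ E, ⁅e, b⁆ ∈ Q := by
      intro e he
      set w := c * u' * c⁻¹ with hw
      have h1 : ∀ x ∈ E, ⁅x, w⁆ ∈ Q := by
        intro x hx
        have h := hcQ c hcu _ (hQE ▸ Subgroup.commutator_mem_commutator (hEn (g := c⁻¹) hx) hu')
        have e' : c * ⁅c⁻¹ * x * c⁻¹⁻¹, u'⁆ * c⁻¹ = ⁅x, w⁆ := by
          rw [hw]; simp only [commutatorElement_def]; group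
        rwa [e'] at h
      have h2 : ⁅e, u'⁻¹⁆ ∈ Q := hQE ▸ Subgroup.commutator_mem_commutator he (inv_mem hu')
      have e' : ⁅e, b⁆ = ⁅e, w⁆ * (w * ⁅e, u'⁻¹⁆ * w⁻¹) := by
        rw [hb, hw]; simp only [commutatorElement_def]; group
      rw [e']
      refine mul_mem (h1 e he) (hcQ w ?_ _ h2)
      rw [hw]
      have e2 : c * u' * c⁻¹ * u * (c * u' * c⁻¹)⁻¹ = c * (u' * (c⁻¹ * u * c) * u'⁻¹) * c⁻¹ := by group
      have e3 : c⁻¹ * u * c = u := by rw [mul_assoc, huc, inv_mul_cancel_left]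
      rw [e2, e3, huu', hcu]
    have hle : ⁅E, Subgroup.zpowers b⁆ ≤ Q := by
      rw [Subgroup.commutator_le]
      intro e he g hg
      obtain ⟨i, rfl⟩ := mem_powers_iff_mem_zpowers.2 hg
      show ⁅e, b ^ i⁆ ∈ Q
      induction i generalizing e with
      | zero => rw [pow_zero, commutatorElement_one_right]; exact one_mem _
      | succ i ih =>
        have e' : ⁅e, b ^ (i + 1)⁆ = ⁅e, b⁆ * (b * ⁅e, b ^ i⁆ * b⁻¹) := by
          rw [pow_succ']; simp only [commutatorElement_def]; group
        rw [e']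
        refine mul_mem (hgenQ e he) (hcQ b ?_ _ (ih e he (pow_mem (Subgroup.mem_zpowers b) i)))
        rw [← hbu.eq, mul_inv_cancel_right]
    have hbcard : ¬ p ∣ Nat.card (Subgroup.zpowers b) := by
      rw [Nat.card_zpowers]
      exact (Fact.out : p.Prime).coprime_iff_not_dvd.1 hbo.symm
    have hfin := CfsgLib.LocalEven.CommLe.commutator_eq_bot_of_le hE hup hbcard huE (fun g _ => hnE g)
      (fun r hr s hs => by
        obtain ⟨j, rfl⟩ := Subgroup.mem_zpowers_iff.1 hs
        exact ((show Commute r b from (hub r hr).symm).zpow_right j).eq) hle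
    intro v hv
    exact commutatorElement_eq_one_iff_mul_comm.1
      (Subgroup.mem_bot.1 (hfin ▸ Subgroup.commutator_mem_commutator hv (Subgroup.mem_zpowers b)))

end Cfsg.Agent.S2909
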