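import Cfsg.Statements.S2910
import Cfsg.Agent.Lib.LocalEven.CharP
import Cfsg.Agent.Lib.PGroup.ElemAbelian
import Cfsg.Agent.Lib.Solvable.CoprimeAction
import Cfsg.Agent.Lib.Transfer.Frobenius
open scoped commutatorElement

set_option autoImplicit false
open Cfsg

namespace Cfsg.Agent.S2910

/-- Let p be an odd prime dividing the order of the finite group G and P a Sylow p-subgroup of G. If Ω₁(P) (generated by the elements of order dividing p) is contained in the centre of G, then G has a normal p-complement. In particular, if G is quasisimple then Ω₁(P) is not central in G. -/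
theorem result {G : Type*} [Group G] [Finite G] {p : ℕ} [Fact p.Prime] (hp : p ≠ 2) (hdiv : p ∣ Nat.card G) (P : Sylow p G) (hZ : Cfsg.omegaOne p (P : Subgroup G) ≤ Subgroup.center G) : Cfsg.HasNormalPComplement p G ∧ ¬ Cfsg.IsQuasisimple G := by
  have hp2 : p ∣ p.choose 2 := (Fact.out : p.Prime).dvd_choose_self (by norm_num)
    (lt_of_le_of_ne (Fact.out : p.Prime).two_le (Ne.symm hp))
  -- elements of order `p` are central
  have hcen : ∀ x : G, x ^ p = 1 → x ∈ Subgroup.center G := by
    intro x hx
    obtain ⟨S, hS⟩ := (CfsgLib.PGroup.elemAb_isPGroup (CfsgLib.PGroup.elemAb_zpowers hx)).exists_le_sylow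
    obtain ⟨g, hg⟩ := MulAction.exists_smul_eq G S P
    have h1 : g * x * g⁻¹ ∈ (P : Subgroup G) := by
      rw [← hg, Sylow.coe_subgroup_smul]
      exact Subgroup.smul_mem_pointwise_smul x (MulAut.conj g) _ (hS (Subgroup.mem_zpowers x))
    have h2 : g * x * g⁻¹ ∈ Subgroup.center G :=
      hZ (CfsgLib.PGroup.mem_omegaOne h1 (by rw [conj_pow, hx]; group))
    have h3 := Subgroup.mem_center_iff.1 h2 g⁻¹
    have h4 : x = g * x * g⁻¹ := by
      calc x = g⁻¹ * (g * x * g⁻¹) * g := by group
        _ = g * x * g⁻¹ * g⁻¹ * g := by rw [h3]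
        _ = g * x * g⁻¹ := by group
    exact h4 ▸ h2
  have hfrob : CfsgLib.Transfer.FrobeniusCond p G := by
    suffices h : ∀ (n : ℕ) (Q : Subgroup G), Nat.card Q ≤ n → IsPGroup p Q →
        ∀ x ∈ Subgroup.normalizer (Q : Set G), (orderOf x).Coprime p → x ∈ Subgroup.centralizer (Q : Set G) from
      fun Q hQ => h _ Q le_rfl hQ
    intro n
    induction n with
    | zero => intro Q hQ; exact absurd hQ (by have := Nat.card_pos (α := Q); omega)
    | succ n ih =>
      intro Q hcard hQ x hxN hxo
      refine Subgroup.mem_centralizer_iff.2 fun y hy => ?_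
      set Q₁ := ⁅Q, Subgroup.zpowers x⁆ with hQ₁
      have hle : Q₁ ≤ Q := CfsgLib.Solvable.commutator_le_of_le_normalizer (Subgroup.zpowers_le.2 hxN)
      set d := y⁻¹ * (x * y * x⁻¹) with hd
      have hd1 : d ∈ Q₁ := by
        have h := Subgroup.commutator_mem_commutator (inv_mem hy) (Subgroup.mem_zpowers x)
        rw [commutatorElement_def, inv_inv] at h
        rw [hd, ← mul_assoc, ← mul_assoc]
        exact h
      have hconj : x * y * x⁻¹ = y * d := by rw [hd]; group
      have hfin : x * d = d * x → y * x = x * y := fun h =>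
        (CfsgLib.LocalEven.commute_of_conj_eq_mul hQ (hle hd1) hxo hconj h).symm
      have hnorm : ∀ {R : Subgroup G}, R.map (MulAut.conj x).toMonoidHom = R → x ∈ Subgroup.normalizer (R : Set G) :=
        fun h => Subgroup.mem_normalizer_iff_map_conj_eq.2 h
      have hxQ : Q.map (MulAut.conj x).toMonoidHom = Q := Subgroup.mem_normalizer_iff_map_conj_eq.1 hxN
      by_cases hQ₁ne : Q₁ = Q
      swap
      · have hlt : Nat.card Q₁ < Nat.card Q := lt_of_le_of_ne (Subgroup.card_le_of_le hle)
          fun h => hQ₁ne (Subgroup.eq_of_le_of_card_ge hle h.ge)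
        refine hfin (Subgroup.mem_centralizer_iff.1 (ih Q₁ (by omega) (hQ.to_le hle) x (hnorm ?_) hxo) d hd1).symm
        rw [hQ₁, Subgroup.map_commutator, hxQ, MonoidHom.map_zpowers]
        simp
      -- the Frattini subgroup is central
      haveI : Fact p.Prime := inferInstance
      set Φ := (frattini ↥Q).map Q.subtype with hΦ
      rcases subsingleton_or_nontrivial Q with hs | hs
      · have : y = 1 := congrArg Subtype.val (Subsingleton.elim (⟨y, hy⟩ : Q) 1)
        rw [this]; simp
      have hΦlt : Nat.card Φ < Nat.card Q := by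
        refine lt_of_le_of_ne (Subgroup.card_le_of_le (Subgroup.map_subtype_le _)) fun h => ?_
        refine CfsgLib.PGroup.frattini_ne_top hQ (Subgroup.map_injective Q.subtype_injective ?_)
        rw [← MonoidHom.range_eq_map, Subgroup.range_subtype]
        exact Subgroup.eq_of_le_of_card_ge (Subgroup.map_subtype_le _) h.ge
      have hΦn : ∀ g, g ∈ Subgroup.normalizer (Q : Set G) → g ∈ Subgroup.normalizer (Φ : Set G) := by
        intro g hg
        refine CfsgLib.LocalEven.mem_normalizer_of_conj_le ?_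
        have hgQ : ∀ q : G, q ∈ Q ↔ g * q * g⁻¹ ∈ Q := Subgroup.mem_normalizer_iff.1 hg
        let e : ↥Q ≃* ↥Q :=
          { toFun := fun q => ⟨g * q * g⁻¹, (hgQ q).1 q.2⟩
            invFun := fun q => ⟨g⁻¹ * q * g, (hgQ _).2 (by simpa [mul_assoc] using q.2)⟩
            left_inv := fun q => Subtype.ext (by simp [mul_assoc])
            right_inv := fun q => Subtype.ext (by simp [mul_assoc])
            map_mul' := fun a b => Subtype.ext (by simp [mul_assoc]) }
        rintro _ ⟨_, ⟨q, hq, rfl⟩, rfl⟩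
        refine ⟨e q, ?_, rfl⟩
        have hchar : (frattini ↥Q).map e.toMonoidHom = frattini ↥Q :=
          Subgroup.characteristic_iff_map_eq.1 frattini_characteristic e
        exact hchar.le ⟨q, hq, rfl⟩
      have hxΦ := ih Φ (by omega) (hQ.to_le (Subgroup.map_subtype_le _)) x (hΦn x hxN) hxo
      have hΦc : ∀ φ ∈ Φ, ∀ z ∈ Q, φ * z = z * φ := by
        intro φ hφ
        have hgen : Q₁ ≤ Subgroup.centralizer ({φ} : Set G) := by
          rw [hQ₁, Subgroup.commutator_le]
          intro a ha g hg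
          obtain ⟨i, rfl⟩ := Subgroup.mem_zpowers_iff.1 hg
          have hw : a * φ * a⁻¹ ∈ Φ :=
            (Subgroup.mem_normalizer_iff.1 (hΦn a (Subgroup.le_normalizer ha)) φ).1 hφ
          have hx1 : Commute (x ^ i) φ := (show Commute x φ from (Subgroup.mem_centralizer_iff.1 hxΦ φ hφ).symm).zpow_left i
          have hx2 : Commute (x ^ i) (a⁻¹ * φ * a) := (show Commute x (a⁻¹ * φ * a) from
            (Subgroup.mem_centralizer_iff.1 hxΦ _ ((Subgroup.mem_normalizer_iff''.1 (hΦn a (Subgroup.le_normalizer ha)) φ).1 hφ)).symm).zpow_left i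
          refine Subgroup.mem_centralizer_iff.2 fun w hw' => ?_
          rw [Set.mem_singleton_iff.1 hw']
          show φ * ⁅a, x ^ i⁆ = ⁅a, x ^ i⁆ * φ
          rw [commutatorElement_def]
          calc φ * (a * x ^ i * a⁻¹ * (x ^ i)⁻¹) = a * ((a⁻¹ * φ * a) * x ^ i) * a⁻¹ * (x ^ i)⁻¹ := by group
            _ = a * (x ^ i * (a⁻¹ * φ * a)) * a⁻¹ * (x ^ i)⁻¹ := by rw [hx2.eq]
            _ = a * x ^ i * a⁻¹ * (φ * (x ^ i)⁻¹) := by group
            _ = a * x ^ i * a⁻¹ * ((x ^ i)⁻¹ * φ) := by rw [hx1.inv_left.eq]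
            _ = a * x ^ i * a⁻¹ * (x ^ i)⁻¹ * φ := by group
        intro z hz
        exact Subgroup.mem_centralizer_iff.1 (hgen (hQ₁ne.symm ▸ hz)) φ rfl
      have hcomm : ∀ a ∈ Q, ∀ b ∈ Q, ⁅a, b⁆ ∈ Φ := fun a ha b hb =>
        ⟨⁅(⟨a, ha⟩ : Q), ⟨b, hb⟩⁆,
          CfsgLib.PGroup.commutator_le_frattini hQ (Subgroup.commutator_mem_commutator (Subgroup.mem_top _) (Subgroup.mem_top _)),
          by simp [commutatorElement_def]⟩
      have hpow : ∀ a ∈ Q, a ^ p ∈ Φ := fun a ha =>
        ⟨(⟨a, ha⟩ : Q) ^ p, CfsgLib.PGroup.pow_mem_frattini hQ _, by simp⟩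
      have hdQ : d ∈ Q := hle hd1
      set c := ⁅d, y⁆ with hc
      have hcd : ∀ k : ℕ, d ^ k * y = c ^ k * y * d ^ k := by
        intro k
        induction k with
        | zero => simp
        | succ k ihk =>
          have h1 : Commute c d := hΦc c (hcomm d hdQ y hy) d hdQ
          calc d ^ (k + 1) * y = d * (d ^ k * y) := by rw [pow_succ']; group
            _ = (d * c ^ k) * y * d ^ k := by rw [ihk]; group
            _ = c ^ k * (d * y) * d ^ k := by rw [← (h1.pow_left k).eq]; group
            _ = c ^ k * (c * y * d) * d ^ k := by rw [hc, commutatorElement_def]; group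
            _ = c ^ (k + 1) * y * d ^ (k + 1) := by rw [pow_succ c, pow_succ' d]; group
      have hmulpow : ∀ k : ℕ, (y * d) ^ k = c ^ k.choose 2 * (y ^ k * d ^ k) := by
        intro k
        induction k with
        | zero => simp
        | succ k ihk =>
          have hcy : Commute (c ^ k) (y ^ k) :=
            (show Commute c y from hΦc c (hcomm d hdQ y hy) y hy).pow_pow k k
          calc (y * d) ^ (k + 1) = c ^ k.choose 2 * (y ^ k * d ^ k) * (y * d) := by rw [pow_succ, ihk]
            _ = c ^ k.choose 2 * (y ^ k * (d ^ k * y) * d) := by group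
            _ = c ^ k.choose 2 * ((y ^ k * c ^ k) * y * d ^ k * d) := by rw [hcd]; group
            _ = c ^ k.choose 2 * c ^ k * (y ^ k * y * (d ^ k * d)) := by rw [← hcy.eq]; group
            _ = c ^ (k + 1).choose 2 * (y ^ (k + 1) * d ^ (k + 1)) := by
              rw [← pow_add, ← pow_succ, ← pow_succ, Nat.choose_succ_succ', Nat.choose_one_right, add_comm (k.choose 2) k]
      have hcp : c ^ p = 1 := by
        have h1 := hcd p
        rw [mul_assoc, ← hΦc _ (hpow d hdQ) y hy] at h1
        exact mul_eq_right.1 h1.symm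
      have h2 := hmulpow p
      obtain ⟨m, hm⟩ := hp2
      rw [hm, pow_mul, hcp, one_pow, one_mul, ← hconj, conj_pow,
        ← Subgroup.mem_centralizer_iff.1 hxΦ _ (hpow y hy), mul_inv_cancel_right] at h2
      refine hfin ?_
      exact (Subgroup.mem_center_iff.1 (hcen d (mul_eq_left.1 h2.symm)) x)
  have hnpc := CfsgLib.Transfer.hasNormalPComplement_of_frobeniusCond hfrob
  refine ⟨hnpc, fun hq => ?_⟩
  obtain ⟨N, hN, hc, k, hk⟩ := CfsgLib.Transfer.hasNormalPComplement_iff.1 hnpc
  have hquot : IsPGroup p (G ⧸ N) := IsPGroup.of_card (n := k) hk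
  haveI := hquot.isNilpotent
  haveI := hq.1
  have hperf : commutator G = ⊤ := Group.IsPerfect.commutator_eq_top
  have htop : commutator (G ⧸ N) = ⊤ := by
    rw [commutator_def, ← Subgroup.map_top_of_surjective _ (QuotientGroup.mk'_surjective N),
      ← Subgroup.map_commutator, ← commutator_def, hperf]
  rcases subsingleton_or_nontrivial (G ⧸ N) with hs | hs
  · have : Nat.card (G ⧸ N) = 1 := Nat.card_unique
    have hN1 : N = ⊤ := Subgroup.index_eq_one.1 this
    rw [hN1, Subgroup.card_top] at hc
    exact (Fact.out : p.Prime).coprime_iff_not_dvd.1 hc.symm hdiv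
  · exact (Group.IsSolvable.commutator_lt_top_of_nontrivial (G ⧸ N)).ne htop

end Cfsg.Agent.S2910
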