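import Cfsg.Statements.S2911
import Cfsg.Agent.S2872
import Mathlib.GroupTheory.SpecificGroups.Dihedral

set_option autoImplicit false
open Cfsg

namespace Cfsg.Agent.S2911

/-- A finite group whose Sylow 2-subgroups are isomorphic to the direct product of a group of order 2 and a dihedral group of order 8 has a subgroup of index two. -/
theorem result {G : Type*} [Group G] [Finite G] (S : Sylow 2 G) (hS : Nonempty (↥(S : Subgroup G) ≃* Multiplicative (ZMod 2) × DihedralGroup 4)) : ∃ H : Subgroup G, H.index = 2 := by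
  classical
  obtain ⟨e⟩ := hS
  haveI hresn : (Cfsg.pResidual 2 G).Normal := by
    refine ⟨fun x hx g => ?_⟩
    have hle : Cfsg.pResidual 2 G ≤ (Cfsg.pResidual 2 G).comap (MulAut.conj g).toMonoidHom := by
      refine (Subgroup.closure_le _).mpr fun y hy => ?_
      refine Subgroup.subset_closure ?_
      change Nat.Coprime (orderOf ((MulAut.conj g) y)) 2
      rw [MulEquiv.orderOf_eq]; exact hy
    exact hle hx
  suffices hne : Cfsg.pResidual 2 G ≠ ⊤ by
    have hp : IsPGroup 2 (G ⧸ Cfsg.pResidual 2 G) := by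
      intro q
      obtain ⟨x, rfl⟩ := QuotientGroup.mk_surjective q
      obtain ⟨k, m, hm, hkm⟩ := Nat.exists_eq_two_pow_mul_odd (orderOf_pos x).ne'
      refine ⟨k, ?_⟩
      rw [← QuotientGroup.mk_pow, QuotientGroup.eq_one_iff]
      refine Subgroup.subset_closure ?_
      change Nat.Coprime (orderOf (x ^ 2 ^ k)) 2
      rw [orderOf_pow, hkm, Nat.gcd_eq_right (dvd_mul_right _ _), Nat.mul_div_cancel_left _ (by positivity)]
      exact Nat.coprime_two_right.mpr hm
    obtain ⟨n, hn⟩ := IsPGroup.iff_card.mp hp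
    have hn0 : n ≠ 0 := by
      rintro rfl
      apply hne
      rw [pow_zero, ← Subgroup.index_eq_card] at hn
      exact Subgroup.index_eq_one.mp hn
    obtain ⟨n, rfl⟩ := Nat.exists_eq_succ_of_ne_zero hn0
    obtain ⟨K, hK⟩ := Sylow.exists_subgroup_card_pow_prime 2 (G := G ⧸ Cfsg.pResidual 2 G) (n := n)
      (hn ▸ pow_dvd_pow 2 (Nat.le_succ n))
    refine ⟨K.comap (QuotientGroup.mk' _), ?_⟩
    rw [Subgroup.index_comap_of_surjective _ (QuotientGroup.mk'_surjective _)]
    have := Subgroup.card_mul_index K
    rw [hK, hn, pow_succ] at this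
    exact Nat.eq_of_mul_eq_mul_left (by positivity) this
  rcases Cfsg.Agent.S2872.result S with h | h | ⟨g, hg, z, hz, hne⟩
  · exact h
  · exfalso
    set c : Multiplicative (ZMod 2) × DihedralGroup 4 := (Multiplicative.ofAdd 1, 1) with hc
    have hcc : ∀ s : Multiplicative (ZMod 2) × DihedralGroup 4, s * c = c * s := by decide
    set w : ↥(S : Subgroup G) := e.symm c with hw
    have hwZ : (w : G) ∈ Cfsg.omegaOne 2 ((S : Subgroup G) ⊓ Subgroup.centralizer ((S : Subgroup G) : Set G)) := by
      refine Subgroup.subset_closure ⟨Subgroup.mem_inf.mpr ⟨w.2, Subgroup.mem_centralizer_iff.mpr fun s hs => ?_⟩, ?_⟩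
      · have : (⟨s, hs⟩ : ↥(S : Subgroup G)) * w = w * ⟨s, hs⟩ :=
          e.injective (by rw [map_mul, map_mul, hw, e.apply_symm_apply]; exact hcc _)
        exact congrArg Subtype.val this
      · have : w ^ 2 = 1 := e.injective (by rw [map_pow, map_one, hw, e.apply_symm_apply]; decide)
        exact congrArg Subtype.val this
    obtain ⟨u, hu, huw⟩ := h hwZ
    obtain rfl : u = w := Subtype.ext huw
    set K : Subgroup ↥(S : Subgroup G) := ((MonoidHom.fst _ _).comp e.toMonoidHom).ker with hK
    have hidx : K.index = 2 := by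
      rw [hK, Subgroup.index_ker, MonoidHom.range_eq_top.mpr, Subgroup.card_top]
      · simp
      · intro a
        exact ⟨e.symm (a, 1), by simp⟩
    have hmax : IsCoatom K := by
      refine ⟨fun h => by rw [h, Subgroup.index_top] at hidx; omega, fun L hL => ?_⟩
      rw [← Subgroup.index_eq_one]
      have hd := Subgroup.index_dvd_of_le hL.le
      rw [hidx] at hd
      rcases (Nat.dvd_prime Nat.prime_two).mp hd with h1 | h2
      · exact h1
      · exfalso
        have := Subgroup.relIndex_mul_index hL.le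
        rw [hidx, h2] at this
        have h1 : K.relIndex L = 1 := by omega
        exact hL.not_ge (Subgroup.relIndex_eq_one.mp h1)
    have hwK := frattini_le_coatom hmax hu
    rw [hK, MonoidHom.mem_ker] at hwK
    simp [hw, hc] at hwK
  · exfalso
    apply hne
    have hZle : Cfsg.omegaOne 2 ((S : Subgroup G) ⊓ Subgroup.centralizer ((S : Subgroup G) : Set G)) ≤
        (S : Subgroup G) ⊓ Subgroup.centralizer ((S : Subgroup G) : Set G) :=
      (Subgroup.closure_le _).mpr fun x hx => hx.1
    obtain ⟨hzS, hzC⟩ := Subgroup.mem_inf.mp (hZle hz)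
    have hzc : ∀ s : ↥(S : Subgroup G), s * ⟨z, hzS⟩ = ⟨z, hzS⟩ * s :=
      fun s => Subtype.ext (Subgroup.mem_centralizer_iff.mp hzC s s.2)
    -- conjugation by g on S
    have hmem : ∀ s : ↥(S : Subgroup G), g * s * g⁻¹ ∈ (S : Subgroup G) :=
      fun s => (Subgroup.mem_normalizer_iff.mp hg s).mp s.2
    let ψ : ↥(S : Subgroup G) →* ↥(S : Subgroup G) :=
      { toFun := fun s => ⟨g * s * g⁻¹, hmem s⟩
        map_one' := Subtype.ext (by simp)
        map_mul' := fun s t => Subtype.ext (by simp [mul_assoc]) }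
    have hψinj : Function.Injective ψ := fun s t h => Subtype.ext (by simpa [ψ] using congrArg Subtype.val h)
    let φ : (Multiplicative (ZMod 2) × DihedralGroup 4) →* (Multiplicative (ZMod 2) × DihedralGroup 4) :=
      e.toMonoidHom.comp (ψ.comp e.symm.toMonoidHom)
    have hφinj : Function.Injective φ := e.injective.comp (hψinj.comp e.symm.injective)
    have hφsurj : Function.Surjective φ := Finite.surjective_of_injective hφinj
    have hA : ∀ x y : Multiplicative (ZMod 2) × DihedralGroup 4, x * x ≠ 1 → y * y ≠ 1 → x * x = y * y := by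
      decide
    have hB : ∀ u v w : Multiplicative (ZMod 2) × DihedralGroup 4,
        ((∀ s, s * u = u * s) ∧ ∀ x, x * x ≠ u) → ((∀ s, s * v = v * s) ∧ ∀ x, x * x ≠ v) →
          ((∀ s, s * w = w * s) ∧ ∀ x, x * x ≠ w) → u = v ∨ v = w ∨ u = w := by
      have hmain : ∀ u : Multiplicative (ZMod 2) × DihedralGroup 4, ((∀ s, s * u = u * s) ∧ ∀ x, x * x ≠ u) →
          u = (Multiplicative.ofAdd 1, 1) ∨ u = (Multiplicative.ofAdd 1, DihedralGroup.r 2) := by decide
      intro u v w hu hv hw
      rcases hmain u hu with rfl | rfl <;> rcases hmain v hv with rfl | rfl <;>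
        rcases hmain w hw with rfl | rfl <;> simp
    set z' := e ⟨z, hzS⟩ with hz'
    have hz'c : ∀ s, s * z' = z' * s := fun s => by
      have := congrArg e (hzc (e.symm s))
      simpa [hz'] using this
    have hsq : φ (φ z') = z' := by
      by_cases hsqz : ∀ x, x * x ≠ z'
      · have hP : ∀ u, ((∀ s, s * u = u * s) ∧ ∀ x, x * x ≠ u) →
            ((∀ s, s * φ u = φ u * s) ∧ ∀ x, x * x ≠ φ u) := by
          intro u hu
          constructor
          · intro s
            obtain ⟨s, rfl⟩ := hφsurj s
            rw [← map_mul, hu.1, map_mul]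
          · intro x hx
            obtain ⟨x, rfl⟩ := hφsurj x
            rw [← map_mul] at hx
            exact hu.2 x (hφinj hx)
        have h0 : (∀ s, s * z' = z' * s) ∧ ∀ x, x * x ≠ z' := ⟨hz'c, hsqz⟩
        rcases hB _ _ _ h0 (hP _ h0) (hP _ (hP _ h0)) with h | h | h
        · rw [← h, ← h]
        · have h' := hφinj h
          rw [← h', ← h']
        · exact h.symm
      · push Not at hsqz
        obtain ⟨x, hx⟩ := hsqz
        by_cases h1 : z' = 1
        · rw [h1, map_one, map_one]
        · rw [← hx, map_mul, map_mul]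
          exact hA _ _ (by rw [← map_mul, ← map_mul, hx, ← (map_one φ), ← (map_one φ)]
                           exact fun h => h1 (hφinj (hφinj h))) (by rw [hx]; exact h1)
    -- so g ^ 2 fixes z, and the 2-part of g lies in S
    have hg2 : g ^ 2 * z * (g ^ 2)⁻¹ = z := by
      have h := congrArg (fun x => ((e.symm x : ↥(S : Subgroup G)) : G)) hsq
      simp [φ, ψ, hz'] at h
      rw [pow_two]
      simpa [mul_assoc] using h
    obtain ⟨a, b, hb, hab⟩ := Nat.exists_eq_two_pow_mul_odd (orderOf_pos g).ne'
    have hgb : g ^ b ∈ (S : Subgroup G) := by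
      have hord : orderOf (g ^ b) = 2 ^ a := by
        rw [orderOf_pow, hab, Nat.gcd_eq_right (dvd_mul_left _ _), Nat.mul_div_cancel _ hb.pos]
      have hN : g ^ b ∈ Subgroup.normalizer ((S : Subgroup G) : Set G) := Subgroup.pow_mem _ hg b
      set N := Subgroup.normalizer ((S : Subgroup G) : Set G)
      haveI : Unique (Sylow 2 N) := by
        haveI : ((S.subtype Subgroup.le_normalizer : Sylow 2 N) : Subgroup N).Normal := by
          rw [Sylow.coe_subtype]; exact Subgroup.normal_in_normalizer
        exact Sylow.unique_of_normal (S.subtype Subgroup.le_normalizer) inferInstance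
      obtain ⟨T, hT⟩ := (CfsgLib.LocalEven.isPGroup_zpowers_of_orderOf (p := 2) (x := (⟨g ^ b, hN⟩ : N)) (k := a)
        (by rw [Subgroup.orderOf_mk, hord])).exists_le_sylow
      rw [Subsingleton.elim T (S.subtype Subgroup.le_normalizer)] at hT
      exact hT (Subgroup.mem_zpowers _)
    have hfix2 : ∀ n : ℕ, g ^ (2 * n) * z * (g ^ (2 * n))⁻¹ = z := by
      intro n
      induction n with
      | zero => simp
      | succ n ih =>
        rw [mul_add, mul_one, pow_add]
        conv_rhs => rw [← ih]
        conv_rhs => enter [1, 2]; rw [← hg2]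
        group
    obtain ⟨n, rfl⟩ := hb
    have h1 : g ^ (2 * n + 1) * z * (g ^ (2 * n + 1))⁻¹ = z := by
      have := congrArg Subtype.val (hzc ⟨_, hgb⟩)
      simp only [Subgroup.coe_mul] at this
      rw [this, mul_inv_cancel_right]
    calc g * z * g⁻¹ = g * (g ^ (2 * n) * z * (g ^ (2 * n))⁻¹) * g⁻¹ := by rw [hfix2]
      _ = g ^ (2 * n + 1) * z * (g ^ (2 * n + 1))⁻¹ := by rw [pow_succ']; group
      _ = z := h1

end Cfsg.Agent.S2911
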