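import Cfsg.Statements.S2916
import Cfsg.Agent.Lib.GLTwoThree.Reduce
import Cfsg.Agent.Lib.GLTwoThree.RootsMain
import Cfsg.Agent.Lib.MElevenUnique.Main
import Cfsg.Agent.Lib.Golay.Dodecad
-- import your own Cfsg.Agent.* helpers here

set_option autoImplicit false
open Cfsg

namespace Cfsg.Agent.S2916

/-- Let G be a finite group with O²(G) = G (no proper normal subgroup of 2-power index), and let t be an involution of G whose centralizer C_G(t) is isomorphic to GL₂(3). Then G is isomorphic to PSL₃(3) or to the Mathieu group M₁₁. -/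
theorem result {G : Type*} [Group G] [Finite G] (hO : Cfsg.pResidual 2 G = ⊤) (t : G) (ht : orderOf t = 2) (hC : Nonempty (↥(Subgroup.centralizer ({t} : Set G)) ≃* GL (Fin 2) (ZMod 3))) : (∃ (F : Type) (_ : Field F) (_ : Fintype F), Fintype.card F = 3 ∧ Nonempty (G ≃* Matrix.ProjectiveSpecialLinearGroup (Fin 3) F)) ∨ Cfsg.Spor.IsoM11 G := by
  obtain ⟨e⟩ := hC
  obtain ⟨ψ, h, rfl⟩ := CfsgLib.GLTwoThree.exists_loc ht e
  have h1 := CfsgLib.GLTwoThree.oneClass_of_pResidual h hO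
  haveI := CfsgLib.GLTwoThree.isSimpleGroup_of_oneClass h h1
  rcases CfsgLib.GLTwoThree.card_eq h h1 with hn | hn
  · haveI : Fact (Nat.Prime 3) := ⟨Nat.prime_three⟩
    obtain ⟨e1⟩ := CfsgLib.GLTwoThree.nonempty_equiv_SL h h1 hn
    obtain ⟨e2⟩ := CfsgLib.GLTwoThree.exists_pslEquiv
    exact Or.inl ⟨ZMod 3, inferInstance, inferInstance, ZMod.card 3, ⟨e1.symm.trans e2⟩⟩
  · haveI := Fintype.ofFinite G
    haveI := CfsgLib.Golay.M11_simple
    exact Or.inr (CfsgLib.MElevenUnique.nonempty_mulEquiv hn CfsgLib.Golay.card_M11)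

end Cfsg.Agent.S2916
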