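import Cfsg.Statements.S2922
import Cfsg.Agent.Lib.LocalEven.CharP

set_option autoImplicit false
open Cfsg

namespace Cfsg.Agent.S2922

/-- Let p be a prime, X a finite group, B a p-subgroup of X and C a normal subgroup of B. If N_X(C) has characteristic p (its generalized Fitting subgroup is O_p(N_X(C))), then N_X(B) and C_X(B) have characteristic p. -/
theorem result {X : Type*} [Group X] [Finite X] {p : ℕ} [Fact p.Prime] (B C : Subgroup X) (hB : IsPGroup p ↥B) (hCB : C ≤ B) (hCn : (C.subgroupOf B).Normal) (hC : Cfsg.generalizedFittingSubgroup ↥(Subgroup.normalizer (C : Set X)) = Cfsg.pCore p ↥(Subgroup.normalizer (C : Set X))) : Cfsg.generalizedFittingSubgroup ↥(Subgroup.normalizer (B : Set X)) = Cfsg.pCore p ↥(Subgroup.normalizer (B : Set X)) ∧ Cfsg.generalizedFittingSubgroup ↥(Subgroup.centralizer (B : Set X)) = Cfsg.pCore p ↥(Subgroup.centralizer (B : Set X)) := by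
  set NB := Subgroup.normalizer (B : Set X) with hNB
  set NC := Subgroup.normalizer (C : Set X) with hNC
  have hBNC : B ≤ NC := (Subgroup.normal_subgroupOf_iff_le_normalizer hCB).1 hCn
  have hchar : CfsgLib.LocalEven.HasCharP p ↥NC := CfsgLib.LocalEven.hasCharP_iff.2 hC
  set O := (Cfsg.pCore p ↥NB).map NB.subtype with hO
  have hBO : B ≤ O := by
    intro b hb
    have hn : (B.subgroupOf NB).Normal :=
      (Subgroup.normal_subgroupOf_iff_le_normalizer Subgroup.le_normalizer).2 le_rfl
    exact ⟨⟨b, Subgroup.le_normalizer hb⟩, CfsgLib.Cores.le_pCore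
      (hB.of_equiv (Subgroup.subgroupOfEquivOfLe Subgroup.le_normalizer).symm)
      (show (⟨b, Subgroup.le_normalizer hb⟩ : ↥NB) ∈ B.subgroupOf NB from hb), rfl⟩
  have hNBchar : CfsgLib.LocalEven.HasCharP p ↥NB := by
    have hCB2 : Subgroup.centralizer (B : Set X) ≤ NC :=
      (Subgroup.centralizer_le (SetLike.coe_subset_coe.2 hCB)).trans (Subgroup.centralizer_le_normalizer _)
    have hinf : CfsgLib.LocalEven.HasCharP p ↥(NC ⊓ NB) := by
      have h := hchar.normalizer (hB.of_equiv (Subgroup.subgroupOfEquivOfLe hBNC).symm)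
      rw [← Subgroup.subgroupOf_normalizer_eq hBNC] at h
      have he : NB.subgroupOf NC = (NC ⊓ NB).subgroupOf NC := by
        ext y; simp [Subgroup.mem_subgroupOf, y.2]
      rw [← hNB, he] at h
      exact (CfsgLib.LocalEven.hasCharP_subgroupOf_iff inf_le_left).1 h
    intro x hx
    set M := (Subgroup.centralizer (Cfsg.pCore p ↥NB : Set ↥NB)) with hMdef
    have hpn : (Cfsg.pCore p ↥NB).Normal := by
      have := CfsgLib.Cores.pCore_characteristic (G := ↥NB) p
      infer_instance
    have hMB : ∀ y ∈ M, (y : X) ∈ Subgroup.centralizer (B : Set X) := by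
      intro y hy
      refine Subgroup.mem_centralizer_iff.2 fun b hb => ?_
      obtain ⟨b', hb', hbb⟩ := hBO hb
      have := congrArg Subtype.val (Subgroup.mem_centralizer_iff.1 hy b' hb')
      rw [← hbb]
      exact this
    have hle : M ≤ (NC ⊓ NB).subgroupOf NB := fun y hy => ⟨hCB2 (hMB y hy), y.2⟩
    have hMn : M.Normal := inferInstance
    have hMchar : CfsgLib.LocalEven.HasCharP p ↥M := by
      have h1 := (CfsgLib.LocalEven.hasCharP_subgroupOf_iff (inf_le_right : NC ⊓ NB ≤ NB)).2 hinf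
      exact (CfsgLib.LocalEven.hasCharP_subgroupOf_iff hle).1
        (h1.of_normal (M.subgroupOf ((NC ⊓ NB).subgroupOf NB)))
    have hMp : (⊤ : Subgroup ↥M) ≤ Cfsg.pCore p ↥M := by
      refine fun y _ => hMchar (Subgroup.mem_centralizer_iff.2 fun v hv => Subtype.ext ?_)
      exact Subgroup.mem_centralizer_iff.1 y.2 _ ((CfsgLib.Cores.map_subtype_pCore_le_of_normal p M) ⟨v, hv, rfl⟩)
    exact (CfsgLib.Cores.map_subtype_pCore_le_of_normal p M) ⟨⟨x, hx⟩, hMp trivial, rfl⟩
  refine ⟨hNBchar.generalizedFittingSubgroup_eq, ?_⟩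
  have hcl : Subgroup.centralizer (B : Set X) ≤ NB := Subgroup.centralizer_le_normalizer _
  have hn : ((Subgroup.centralizer (B : Set X)).subgroupOf NB).Normal := by
    refine ⟨fun c hc g => Subgroup.mem_subgroupOf.2 (Subgroup.mem_centralizer_iff.2 fun b hb => ?_)⟩
    have h1 : (g : X)⁻¹ * b * (g : X)⁻¹⁻¹ ∈ B :=
      CfsgLib.LocalEven.conj_mem_of_mem_normalizer (NB.inv_mem g.2) hb
    have h2 := Subgroup.mem_centralizer_iff.1 (Subgroup.mem_subgroupOf.1 hc) _ h1
    calc b * ((g * c * g⁻¹ : ↥NB) : X) = (g : X) * (((g : X)⁻¹ * b * (g : X)⁻¹⁻¹) * (c : X)) * (g : X)⁻¹ := by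
          simp [mul_assoc]
      _ = ((g * c * g⁻¹ : ↥NB) : X) * b := by rw [h2]; simp [mul_assoc]
  exact ((CfsgLib.LocalEven.hasCharP_subgroupOf_iff hcl).1
    (hNBchar.of_normal ((Subgroup.centralizer (B : Set X)).subgroupOf NB))).generalizedFittingSubgroup_eq

end Cfsg.Agent.S2922
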