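import Cfsg.Statements.S2924
import Cfsg.Agent.Lib.LocalEven.CharP
import Cfsg.Agent.Lib.LocalEven.Coprime

set_option autoImplicit false
open Cfsg

namespace Cfsg.Agent.S2924

open CfsgLib.LocalEven CfsgLib.Cores

/-- `O(C_X(x))` as a subgroup of `X`. -/
abbrev theta {X : Type*} [Group X] (x : X) : Subgroup X :=
  (Cfsg.oddCore ↥(Subgroup.centralizer ({x} : Set X))).map (Subgroup.centralizer ({x} : Set X)).subtype

theorem theta_le {X : Type*} [Group X] (x : X) : theta x ≤ Subgroup.centralizer ({x} : Set X) :=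
  Subgroup.map_subtype_le _

theorem odd_theta {X : Type*} [Group X] [Finite X] (x : X) : Odd (Nat.card ↥(theta x)) := by
  rw [Subgroup.card_map_of_injective (Subgroup.subtype_injective _)]
  exact odd_card_oddCore

theorem centralizer_le_normalizer_theta {X : Type*} [Group X] [Finite X] (x : X) :
    Subgroup.centralizer ({x} : Set X) ≤ Subgroup.normalizer (theta x : Set X) := by
  intro g hg
  have hn : (Cfsg.oddCore ↥(Subgroup.centralizer ({x} : Set X))).Normal := by
    have := pPrimeCore_characteristic (G := ↥(Subgroup.centralizer ({x} : Set X))) 2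
    infer_instance
  refine mem_normalizer_of_conj_le ?_
  rintro _ ⟨_, ⟨a, ha, rfl⟩, rfl⟩
  exact ⟨_, hn.conj_mem a ha ⟨g, hg⟩, rfl⟩

theorem le_theta {X : Type*} [Group X] [Finite X] {x : X} {N : Subgroup X}
    (h : N ≤ Subgroup.centralizer ({x} : Set X))
    (hn : Subgroup.centralizer ({x} : Set X) ≤ Subgroup.normalizer (N : Set X))
    (hodd : Odd (Nat.card ↥N)) : N ≤ theta x := by
  rw [← Subgroup.map_subgroupOf_eq_of_le h]
  refine Subgroup.map_mono ?_
  have := (Subgroup.normal_subgroupOf_iff_le_normalizer h).2 hn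
  exact le_oddCore_of_odd (by rwa [Nat.card_congr (Subgroup.subgroupOfEquivOfLe h).toEquiv])

/-- An odd-order subgroup normalised by a subgroup of characteristic `2` containing it is trivial. -/
theorem eq_bot_of_normalized {X : Type*} [Group X] [Finite X] {K N : Subgroup X}
    (hK : HasCharP 2 ↥K) (hNK : N ≤ K) (hn : K ≤ Subgroup.normalizer (N : Set X))
    (hodd : Odd (Nat.card ↥N)) : N = ⊥ := by
  have := (Subgroup.normal_subgroupOf_iff_le_normalizer hNK).2 hn
  have h : N.subgroupOf K ≤ Cfsg.oddCore ↥K :=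
    le_oddCore_of_odd (by rwa [Nat.card_congr (Subgroup.subgroupOfEquivOfLe hNK).toEquiv])
  rw [Cfsg.oddCore, hK.pPrimeCore_eq_bot, le_bot_iff] at h
  rw [← Subgroup.map_subgroupOf_eq_of_le hNK, h, Subgroup.map_bot]

/-- Balance: if `C_H(z)` has characteristic `2` and `H` has no components, then every odd-order subgroup
normalised by `C_H(y)` and centralised by `y` lies in `O(H)`. -/
theorem balance {H : Type*} [Group H] [Finite H] (z y : H) (hz : z * z = 1) (hy : y * y = 1)
    (hzC : HasCharP 2 ↥(Subgroup.centralizer ({z} : Set H))) (hE : Cfsg.layer H = ⊥)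
    (N : Subgroup H) (hNy : N ≤ Subgroup.centralizer ({y} : Set H))
    (hNn : Subgroup.centralizer ({y} : Set H) ≤ Subgroup.normalizer (N : Set H))
    (hNodd : Odd (Nat.card ↥N)) : N ≤ Cfsg.oddCore H := by
  have h2 : Fact (Nat.Prime 2) := ⟨Nat.prime_two⟩
  set A := Cfsg.oddCore H with hA
  have hAn : A.Normal := by
    have := pPrimeCore_characteristic (G := H) 2
    infer_instance
  have hAcop : (Nat.card A).Coprime 2 := coprime_card_pPrimeCore 2
  have hord : ∀ t : H, t * t = 1 → ∃ k : ℕ, orderOf t = 2 ^ k := fun t ht => by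
    obtain ⟨k, -, hk⟩ := (Nat.dvd_prime_pow Nat.prime_two).1
      (orderOf_dvd_of_pow_eq_one (show t ^ (2 ^ 1) = 1 by rw [pow_one, pow_two, ht]))
    exact ⟨k, hk⟩
  have hAz : A ⊓ Subgroup.centralizer ({z} : Set H) = ⊥ := by
    refine eq_bot_of_normalized hzC inf_le_right ?_ ?_
    · intro g hg
      refine mem_normalizer_of_conj_le (le_inf ?_ ?_)
      · rintro _ ⟨a, ha, rfl⟩; exact hAn.conj_mem a ha.1 g
      · rintro _ ⟨a, ha, rfl⟩
        exact Subgroup.mul_mem _ (Subgroup.mul_mem _ hg ha.2) (Subgroup.inv_mem _ hg)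
    · exact (odd_card_oddCore (G := H)).of_dvd_nat (Subgroup.card_dvd_of_le inf_le_left)
  have hfixA : ∀ a ∈ A, z * a = a * z → a = 1 := fun a ha h => Subgroup.mem_bot.1
    (hAz ▸ Subgroup.mem_inf.2 ⟨ha, Subgroup.mem_centralizer_singleton_iff.2 h.symm⟩)
  have hinv := inverts_of_fixedPointFree hz (by rw [Subgroup.normalizer_eq_top A]; trivial) hfixA
  have hAcomm := commute_of_inverted hinv
  set D := Subgroup.centralizer (A : Set H) with hD
  have hDn : D.Normal := inferInstance
  have hzD : ∀ h : H, h * z * h⁻¹ * z⁻¹ ∈ D := by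
    intro h
    refine Subgroup.mem_centralizer_iff.2 fun a ha => ?_
    have ha1 : h⁻¹ * a * h ∈ A := by simpa using hAn.conj_mem a ha h⁻¹
    have e1 : z⁻¹ * a * z = a⁻¹ := by
      rw [inv_eq_of_mul_eq_one_right hz]
      simpa [inv_eq_of_mul_eq_one_right hz] using hinv a ha
    have e : (h * z * h⁻¹ * z⁻¹) * a * (h * z * h⁻¹ * z⁻¹)⁻¹ = a := by
      have e2 : z⁻¹ * a * z⁻¹⁻¹ = a⁻¹ := by rw [inv_inv]; exact e1
      calc (h * z * h⁻¹ * z⁻¹) * a * (h * z * h⁻¹ * z⁻¹)⁻¹
          = h * (z * (h⁻¹ * (z⁻¹ * a * z) * h) * z⁻¹) * h⁻¹ := by group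
        _ = h * (z * (h⁻¹ * a * h)⁻¹ * z⁻¹) * h⁻¹ := by rw [e1]; group
        _ = a := by rw [hinv _ (A.inv_mem ha1)]; group
    exact (mul_inv_eq_iff_eq_mul.1 e).symm
  set f := QuotientGroup.mk' A with hf
  have hfs : Function.Surjective f := QuotientGroup.mk'_surjective A
  have hcore : Cfsg.pPrimeCore 2 (H ⧸ A) = ⊥ := pPrimeCore_quotient_self 2
  have hlift : ∀ t : H, t * t = 1 → Subgroup.centralizer ({f t} : Set (H ⧸ A)) =
      (Subgroup.centralizer ({t} : Set H)).map f := by
    intro t ht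
    refine le_antisymm ?_ ?_
    · intro q hq
      obtain ⟨h, rfl⟩ := hfs q
      rw [Subgroup.mem_centralizer_singleton_iff] at hq
      have hmem : h * t * h⁻¹ * t⁻¹ ∈ A := by
        rw [← QuotientGroup.eq_one_iff]
        change f _ = 1
        rw [map_mul, map_mul, map_mul, map_inv, map_inv, hq]; group
      obtain ⟨a, ha, hc⟩ := exists_mul_commute hAcop (hord t ht) hmem
      refine ⟨a * h, Subgroup.mem_centralizer_singleton_iff.2 hc, ?_⟩
      rw [map_mul, show f a = 1 from (QuotientGroup.eq_one_iff a).2 ha, one_mul]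
    · rintro _ ⟨h, hh, rfl⟩
      exact Subgroup.mem_centralizer_singleton_iff.2
        (by rw [← map_mul, ← map_mul, Subgroup.mem_centralizer_singleton_iff.1 hh])
  have hFle : Cfsg.fittingSubgroup H ≤ Cfsg.pCore 2 H ⊔ A := by
    rw [fittingSubgroup_eq_iSup_pCore]
    refine iSup_le fun q => ?_
    have hq := Nat.prime_of_mem_primeFactors q.2
    rcases eq_or_ne (q : ℕ) 2 with h | h
    · rw [h]; exact le_sup_left
    · have : Fact (q : ℕ).Prime := ⟨hq⟩
      refine le_trans ?_ le_sup_right
      obtain ⟨n, hn⟩ := card_pCore_eq_pow (G := H) (q : ℕ)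
      exact le_pPrimeCore (hn ▸ ((Nat.coprime_primes hq Nat.prime_two).2 h).pow_left n)
  have hDchar : ∀ x ∈ D, f x ∈ Subgroup.centralizer (Cfsg.pCore 2 (H ⧸ A) : Set (H ⧸ A)) →
      f x ∈ Cfsg.pCore 2 (H ⧸ A) := by
    intro x hxD hx
    have hxF : x ∈ Cfsg.fittingSubgroup H := by
      have hgf := centralizer_generalizedFittingSubgroup_le (G := H)
      rw [Cfsg.generalizedFittingSubgroup, hE, bot_sup_eq] at hgf
      refine hgf (Subgroup.mem_centralizer_iff.2 fun v hv => ?_)
      have hle : Cfsg.pCore 2 H ⊔ A ≤ Subgroup.centralizer ({x} : Set H) := by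
        refine sup_le (fun u hu => ?_) (fun a ha => ?_)
        · have hcm := Subgroup.mem_centralizer_iff.1 hx _ (map_pCore_le f hfs ⟨u, hu, rfl⟩)
          have h1 : u * x * u⁻¹ * x⁻¹ ∈ A := by
            rw [← QuotientGroup.eq_one_iff]
            change f _ = 1
            rw [map_mul, map_mul, map_mul, map_inv, map_inv, hcm]; group
          have h2 : u * x * u⁻¹ * x⁻¹ ∈ Cfsg.pCore 2 H := by
            have hn2 : (Cfsg.pCore 2 H).Normal := by
              have := pCore_characteristic (G := H) 2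
              infer_instance
            have := (Cfsg.pCore 2 H).mul_mem hu (hn2.conj_mem _ ((Cfsg.pCore 2 H).inv_mem hu) x)
            simpa [mul_assoc] using this
          have h3 : u * x * u⁻¹ * x⁻¹ = 1 :=
            Subgroup.mem_bot.1 (pCore_inf_pPrimeCore (G := H) 2 ▸ Subgroup.mem_inf.2 ⟨h2, h1⟩)
          exact Subgroup.mem_centralizer_singleton_iff.2
            (mul_inv_eq_iff_eq_mul.1 (mul_inv_eq_one.1 h3))
        · exact Subgroup.mem_centralizer_singleton_iff.2 (Subgroup.mem_centralizer_iff.1 hxD a ha)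
      exact Subgroup.mem_centralizer_singleton_iff.1 (hle (hFle hv))
    have h1 : f x ∈ (Cfsg.pCore 2 H ⊔ A).map f := ⟨x, hFle hxF, rfl⟩
    rw [Subgroup.map_sup, QuotientGroup.map_mk'_self, sup_bot_eq] at h1
    exact map_pCore_le f hfs h1
  have hzbar : HasCharP 2 ↥(Subgroup.centralizer ({f z} : Set (H ⧸ A))) := by
    rw [hlift z hz]
    refine hasCharP_congr (MulEquiv.ofBijective (f.subgroupMap _) ⟨?_, f.subgroupMap_surjective _⟩) hzC
    rw [injective_iff_map_eq_one]
    rintro ⟨a, ha⟩ h
    exact Subtype.ext (hfixA a ((QuotientGroup.eq_one_iff a).1 (congrArg Subtype.val h :))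
      (Subgroup.mem_centralizer_singleton_iff.1 ha).symm)
  have hlayer : Cfsg.layer (H ⧸ A) = ⊥ := by
    rw [layer_eq_bot_iff]
    intro L hL
    have hDbn : (D.map f).Normal := hDn.map f hfs
    rcases component_le_or_commutator_eq_bot hL hDbn.isSubnormal with hc | hc
    · refine component_not_le_of_isSolvable hL ?_ (fun q hq => ?_ : L ≤ Cfsg.pCore 2 (H ⧸ A))
      · have := (isPGroup_pCore (G := H ⧸ A) 2).isNilpotent
        infer_instance
      · obtain ⟨x, hx, rfl⟩ := hc hq
        refine hDchar x hx ?_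
        exact Subgroup.le_centralizer_iff.1 ((pCore_le_fittingSubgroup 2).trans
          (Subgroup.le_centralizer_iff.1 (Subgroup.commutator_eq_bot_iff_le_centralizer.1
            (component_commutator_fittingSubgroup hL)))) hq
    · have h1 : ⁅L, Subgroup.zpowers (f z)⁆ ≤ D.map f := by
        rw [Subgroup.commutator_le]
        intro l hl g hg
        obtain ⟨h, rfl⟩ := hfs l
        obtain ⟨i, rfl⟩ := Subgroup.mem_zpowers_iff.1 hg
        have hcen : ∀ u : H ⧸ A, u * f z * u⁻¹ * (f z)⁻¹ ∈ D.map f := fun u => by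
          obtain ⟨u, rfl⟩ := hfs u
          exact ⟨_, hzD u, by simp⟩
        have hq : Commute (QuotientGroup.mk' (D.map f) (f h)) (QuotientGroup.mk' (D.map f) (f z)) := by
          have h9 : QuotientGroup.mk' (D.map f) (f h * f z * (f h)⁻¹ * (f z)⁻¹) = 1 :=
            (QuotientGroup.eq_one_iff _).2 (hcen _)
          simp only [map_mul, map_inv] at h9
          exact mul_inv_eq_iff_eq_mul.1 (mul_inv_eq_one.1 h9)
        rw [← QuotientGroup.eq_one_iff, ← QuotientGroup.mk'_apply, commutatorElement_def,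
          map_mul, map_mul, map_mul, map_inv, map_inv, map_zpow, (hq.zpow_right i).eq]
        group
      have h2 : ⁅⁅L, Subgroup.zpowers (f z)⁆, L⁆ = ⊥ := by
        rw [eq_bot_iff, ← hc, Subgroup.commutator_comm L (D.map f)]
        exact Subgroup.commutator_mono h1 le_rfl
      have h3 : L ≤ Subgroup.centralizer ({f z} : Set (H ⧸ A)) := by
        have := Subgroup.commutator_eq_bot_iff_le_centralizer.1
          (commutator_eq_bot_of_perfect (component_commutator_self hL) h2)
        intro l hl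
        exact Subgroup.mem_centralizer_singleton_iff.2
          (Subgroup.mem_centralizer_iff.1 (this hl) _ (Subgroup.mem_zpowers _)).symm
      exact hzbar.not_isComponent _ (isComponent_subgroupOf hL h3)
  have hHbar : HasCharP 2 (H ⧸ A) := by
    rw [hasCharP_iff, Cfsg.generalizedFittingSubgroup, hlayer, bot_sup_eq]
    refine fittingSubgroup_eq_pCore_of_forall fun q hq hne => ?_
    have : Fact q.Prime := ⟨hq⟩
    rw [eq_bot_iff, ← hcore]
    obtain ⟨n, hn⟩ := card_pCore_eq_pow (G := H ⧸ A) q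
    exact le_pPrimeCore (hn ▸ ((Nat.coprime_primes hq Nat.prime_two).2 hne).pow_left n)
  have hy2 : IsPGroup 2 ↥(Subgroup.zpowers (f y)) := by
    refine (isPGroup_zpowers (hord y hy)).map f |>.to_le ?_
    rw [MonoidHom.map_zpowers]
  have hyC := hHbar.centralizer hy2
  rw [centralizer_zpowers'] at hyC
  have hNb : N.map f = ⊥ := by
    refine eq_bot_of_normalized hyC ?_ ?_ (hNodd.of_dvd_nat (Subgroup.card_map_dvd N f))
    · rw [hlift y hy]; exact Subgroup.map_mono hNy
    · rw [hlift y hy]
      rintro _ ⟨c, hc, rfl⟩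
      refine mem_normalizer_of_conj_le ?_
      rintro _ ⟨_, ⟨n, hn, rfl⟩, rfl⟩
      exact ⟨c * n * c⁻¹, conj_mem_of_mem_normalizer (hNn hc) hn, by simp⟩
  rwa [Subgroup.map_eq_bot_iff, QuotientGroup.ker_mk'] at hNb

/-- Let X be a finite group and Y an elementary abelian 2-subgroup of X of order at least 8 such that C_X(x) has no components (E(C_X(x)) = 1) for every nontrivial x ∈ Y, and F*(C_X(z)) = O₂(C_X(z)) for some nontrivial z ∈ Y. Then the subgroup generated by the cores O(C_X(y)), y ∈ Y nontrivial, has odd order and is normalized by N_X(Y). -/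
theorem result {X : Type*} [Group X] [Finite X] (Y : Subgroup X) (hY : Cfsg.IsElementaryAbelian 2 Y) (h8 : 8 ≤ Nat.card ↥Y) (hE : ∀ x ∈ Y, x ≠ 1 → Cfsg.layer ↥(Subgroup.centralizer ({x} : Set X)) = ⊥) (hz : ∃ z ∈ Y, z ≠ 1 ∧ Cfsg.generalizedFittingSubgroup ↥(Subgroup.centralizer ({z} : Set X)) = Cfsg.pCore 2 ↥(Subgroup.centralizer ({z} : Set X))) : Odd (Nat.card ↥(⨆ y : {y : X // y ∈ Y ∧ y ≠ 1}, (Cfsg.oddCore ↥(Subgroup.centralizer ({(y : X)} : Set X))).map (Subgroup.centralizer ({(y : X)} : Set X)).subtype)) ∧ Subgroup.normalizer (Y : Set X) ≤ Subgroup.normalizer ((⨆ y : {y : X // y ∈ Y ∧ y ≠ 1}, (Cfsg.oddCore ↥(Subgroup.centralizer ({(y : X)} : Set X))).map (Subgroup.centralizer ({(y : X)} : Set X)).subtype : Subgroup X) : Set X) := by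
  have h2 : Fact (Nat.Prime 2) := ⟨Nat.prime_two⟩
  obtain ⟨z, hzY, hz1, hzF⟩ := hz
  have hzC : HasCharP 2 ↥(Subgroup.centralizer ({z} : Set X)) := hasCharP_iff.2 hzF
  have hsq : ∀ y ∈ Y, y * y = 1 := fun y hy => by rw [← pow_two]; exact hY.2 y hy
  have hcommY : ∀ a ∈ Y, ∀ b ∈ Y, a * b = b * a := fun a ha b hb =>
    congrArg Subtype.val (hY.1.1.comm (⟨a, ha⟩ : ↥Y) ⟨b, hb⟩)
  have hinY : ∀ a ∈ Y, ∀ b ∈ Y, b ∈ Subgroup.centralizer ({a} : Set X) := fun a ha b hb =>
    Subgroup.mem_centralizer_singleton_iff.2 (hcommY b hb a ha)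
  have h2Y : IsPGroup 2 ↥Y := fun y => ⟨1, Subtype.ext (by simpa using hY.2 y y.2)⟩
  -- every `O(C(y))` is inverted by `z`, hence abelian
  have hab : ∀ y ∈ Y, ∀ a ∈ theta y, ∀ b ∈ theta y, a * b = b * a := by
    intro y hy
    have hK : HasCharP 2 ↥(Subgroup.centralizer ({z} : Set X) ⊓ Subgroup.centralizer ({y} : Set X)) := by
      have := hzC.centralizer_inf (R := Subgroup.zpowers y) (h2Y.to_le (Subgroup.zpowers_le.2 hy))
        (Subgroup.zpowers_le.2 (hinY z hzY y hy))
      rwa [centralizer_zpowers'] at this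
    have hbot : theta y ⊓ Subgroup.centralizer ({z} : Set X) = ⊥ := by
      refine eq_bot_of_normalized hK (le_inf inf_le_right (inf_le_left.trans (theta_le y))) ?_
        ((odd_theta y).of_dvd_nat (Subgroup.card_dvd_of_le inf_le_left))
      intro g hg
      refine mem_normalizer_of_conj_le (le_inf ?_ ?_)
      · rintro _ ⟨a, ha, rfl⟩
        exact conj_mem_of_mem_normalizer (centralizer_le_normalizer_theta y hg.2) ha.1
      · rintro _ ⟨a, ha, rfl⟩
        exact Subgroup.mul_mem _ (Subgroup.mul_mem _ hg.1 ha.2) (Subgroup.inv_mem _ hg.1)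
    exact commute_of_inverted (inverts_of_fixedPointFree (hsq z hzY)
      (centralizer_le_normalizer_theta y (hinY y hy z hzY)) fun a ha h => Subgroup.mem_bot.1
        (hbot ▸ Subgroup.mem_inf.2 ⟨ha, Subgroup.mem_centralizer_singleton_iff.2 h.symm⟩))
  -- balance
  have hbal : ∀ y ∈ Y, ∀ w ∈ Y, w ≠ 1 → ∀ a ∈ theta y, a * w = w * a → a ∈ theta w := by
    intro y hy w hw hw1 a ha haw
    set H := Subgroup.centralizer ({w} : Set X) with hH
    have hCz : HasCharP 2 ↥(Subgroup.centralizer ({(⟨z, hinY w hw z hzY⟩ : ↥H)} : Set ↥H)) := by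
      have h1 := hzC.centralizer_inf (R := Subgroup.zpowers w) (h2Y.to_le (Subgroup.zpowers_le.2 hw))
        (Subgroup.zpowers_le.2 (hinY z hzY w hw))
      rw [centralizer_zpowers'] at h1
      have he : Subgroup.centralizer ({(⟨z, hinY w hw z hzY⟩ : ↥H)} : Set ↥H) =
          (Subgroup.centralizer ({z} : Set X) ⊓ H).subgroupOf H := by
        ext u
        simp only [Subgroup.mem_centralizer_singleton_iff, Subgroup.mem_subgroupOf, Subgroup.mem_inf,
          u.2, and_true, Subtype.ext_iff, Subgroup.coe_mul]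
      rw [he]
      exact (hasCharP_subgroupOf_iff inf_le_right).2 h1
    have hbl := balance (⟨z, hinY w hw z hzY⟩ : ↥H) ⟨y, hinY w hw y hy⟩ (Subtype.ext (hsq z hzY))
      (Subtype.ext (hsq y hy)) hCz (hE w hw hw1) ((theta y ⊓ H).subgroupOf H) ?_ ?_ ?_
    · exact ⟨⟨a, Subgroup.mem_centralizer_singleton_iff.2 haw⟩,
        hbl ⟨ha, Subgroup.mem_centralizer_singleton_iff.2 haw⟩, rfl⟩
    · intro u hu
      exact Subgroup.mem_centralizer_singleton_iff.2
        (Subtype.ext (Subgroup.mem_centralizer_singleton_iff.1 (theta_le y hu.1)))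
    · intro g hg
      refine mem_normalizer_of_conj_le ?_
      rintro _ ⟨u, hu, rfl⟩
      exact ⟨conj_mem_of_mem_normalizer (centralizer_le_normalizer_theta y
        (Subgroup.mem_centralizer_singleton_iff.2
          (congrArg Subtype.val (Subgroup.mem_centralizer_singleton_iff.1 hg) :))) hu.1,
        (g * u * g⁻¹).2⟩
    · rw [Nat.card_congr (Subgroup.subgroupOfEquivOfLe inf_le_right).toEquiv]
      exact (odd_theta y).of_dvd_nat (Subgroup.card_dvd_of_le inf_le_left)
  classical
  -- generators on which every element of `Y` acts by a sign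
  set Gen : Set X := {b | ∃ y ∈ Y, y ≠ 1 ∧ b ∈ theta y ∧ ∀ v ∈ Y, v * b * v⁻¹ = b ∨ v * b * v⁻¹ = b⁻¹}
    with hGen
  have hpair : ∀ b ∈ Gen, ∀ c ∈ Gen, b * c = c * b := by
    rintro b ⟨y, hy, -, hb, hbs⟩ c ⟨y', hy', -, hc, hcs⟩
    have : Fintype ↥Y := Fintype.ofFinite _
    obtain ⟨u, v, huv, he⟩ := Fintype.exists_ne_map_eq_of_card_lt
      (fun u : ↥Y => (decide ((u : X) * b * (u : X)⁻¹ = b), decide ((u : X) * c * (u : X)⁻¹ = c)))
      (by rw [Nat.card_eq_fintype_card] at h8; simp only [Fintype.card_prod, Fintype.card_bool]; omega)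
    simp only [Prod.mk.injEq, decide_eq_decide] at he
    set w := (u : X) * (v : X) with hw
    have hwY : w ∈ Y := Y.mul_mem u.2 v.2
    have hw1 : w ≠ 1 := fun h => huv (Subtype.ext (by
      rw [eq_inv_of_mul_eq_one_left h]; exact inv_eq_of_mul_eq_one_right (hsq _ v.2)))
    have hfix : ∀ d : X, (∀ t ∈ Y, t * d * t⁻¹ = d ∨ t * d * t⁻¹ = d⁻¹) →
        (((u : X) * d * (u : X)⁻¹ = d) ↔ ((v : X) * d * (v : X)⁻¹ = d)) → d * w = w * d := by
      intro d hd hiff
      refine (mul_inv_eq_iff_eq_mul.1 ?_).symm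
      have e : w * d * w⁻¹ = (u : X) * ((v : X) * d * (v : X)⁻¹) * (u : X)⁻¹ := by rw [hw]; group
      rw [e]
      by_cases hv : (v : X) * d * (v : X)⁻¹ = d
      · rw [hv]; exact hiff.2 hv
      · rw [(hd _ v.2).resolve_left hv]
        have hu := (hd _ u.2).resolve_left fun h => hv (hiff.1 h)
        calc (u : X) * d⁻¹ * (u : X)⁻¹ = ((u : X) * d * (u : X)⁻¹)⁻¹ := by group
          _ = d := by rw [hu, inv_inv]
    exact hab w hwY b (hbal y hy w hwY hw1 b hb (hfix b hbs he.1)) c
      (hbal y' hy' w hwY hw1 c hc (hfix c hcs he.2))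
  have hclo : ∀ y ∈ Y, y ≠ 1 → theta y ≤ Subgroup.closure Gen := by
    intro y hy hy1
    have key : ∀ s : Finset X, (↑s : Set X) ⊆ Y → theta y ≤ Subgroup.closure
        {b : X | b ∈ theta y ∧ ∀ v ∈ s, v * b * v⁻¹ = b ∨ v * b * v⁻¹ = b⁻¹} := by
      intro s
      induction s using Finset.induction_on with
      | empty => exact fun _ b hb => Subgroup.subset_closure ⟨hb, by simp⟩
      | @insert v s _ ih =>
        intro hs
        rw [Finset.coe_insert, Set.insert_subset_iff] at hs
        refine (ih hs.2).trans ((Subgroup.closure_le _).2 ?_)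
        rintro b ⟨hb, hbs⟩
        obtain ⟨e, he⟩ : ∃ e : X, e = v * b * v⁻¹ := ⟨_, rfl⟩
        have het : e ∈ theta y :=
          he ▸ conj_mem_of_mem_normalizer (centralizer_le_normalizer_theta y (hinY y hy v hs.1)) hb
        obtain ⟨k, hk⟩ := (odd_theta y).of_dvd_nat (Subgroup.orderOf_dvd_natCard _ hb)
        have hbe : Commute b e := hab y hy b hb e het
        have hve : v * e * v⁻¹ = b := by
          calc v * e * v⁻¹ = (v * v) * b * (v * v)⁻¹ := by rw [he]; group
            _ = b := by rw [hsq v hs.1]; group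
        have hsplit : b = (b * e) ^ (k + 1) * (b * e⁻¹) ^ (k + 1) := by
          have hcc : Commute (b * e) (b * e⁻¹) :=
            ((Commute.refl b).mul_right hbe.inv_right).mul_left (hbe.symm.mul_right (Commute.refl e).inv_right)
          rw [← hcc.mul_pow]
          have : b * e * (b * e⁻¹) = b * b := by
            calc b * e * (b * e⁻¹) = b * (e * b) * e⁻¹ := by group
              _ = b * b := by rw [← hbe.eq]; group
          rw [this, ← pow_two, ← pow_mul, show 2 * (k + 1) = orderOf b + 1 by omega, pow_succ,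
            pow_orderOf_eq_one, one_mul]
        rw [SetLike.mem_coe, hsplit]
        refine mul_mem (Subgroup.subset_closure ⟨pow_mem (mul_mem hb het) _, ?_⟩)
          (Subgroup.subset_closure ⟨pow_mem (mul_mem hb (inv_mem het)) _, ?_⟩) <;>
        · intro t ht
          rcases Finset.mem_insert.1 ht with rfl | ht'
          · first
              | left
                rw [← conj_pow]
                congr 1
                calc t * (b * e) * t⁻¹ = e * (t * e * t⁻¹) := by rw [he]; group
                  _ = b * e := by rw [hve, hbe.eq]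
              | right
                rw [← conj_pow, ← inv_pow]
                congr 1
                calc t * (b * e⁻¹) * t⁻¹ = e * (t * e * t⁻¹)⁻¹ := by rw [he]; group
                  _ = (b * e⁻¹)⁻¹ := by rw [hve]; group
          · have htv : Commute t v := hcommY t (hs.2 ht') v hs.1
            have hte : t * e * t⁻¹ = v * (t * b * t⁻¹) * v⁻¹ := by
              calc t * e * t⁻¹ = (t * v) * b * (t * v)⁻¹ := by rw [he]; group
                _ = v * (t * b * t⁻¹) * v⁻¹ := by rw [htv.eq]; group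
            rcases hbs t ht' with h | h
            · left
              have hte' : t * e * t⁻¹ = e := by rw [hte, h, he]
              rw [← conj_pow]
              congr 1
              first
                | calc t * (b * e) * t⁻¹ = (t * b * t⁻¹) * (t * e * t⁻¹) := by group
                    _ = b * e := by rw [h, hte']
                | calc t * (b * e⁻¹) * t⁻¹ = (t * b * t⁻¹) * (t * e * t⁻¹)⁻¹ := by group
                    _ = b * e⁻¹ := by rw [h, hte']
            · right
              have hte' : t * e * t⁻¹ = e⁻¹ := by rw [hte, h, he]; group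
              rw [← conj_pow, ← inv_pow]
              congr 1
              first
                | calc t * (b * e) * t⁻¹ = (t * b * t⁻¹) * (t * e * t⁻¹) := by group
                    _ = (b * e)⁻¹ := by rw [h, hte', mul_inv_rev]; exact hbe.inv_inv.eq
                | calc t * (b * e⁻¹) * t⁻¹ = (t * b * t⁻¹) * (t * e * t⁻¹)⁻¹ := by group
                    _ = (b * e⁻¹)⁻¹ := by
                      rw [h, hte', inv_inv, mul_inv_rev, inv_inv]; exact (hbe.inv_left).eq
    refine ((key (Set.toFinite (Y : Set X)).toFinset (by simp)).trans (Subgroup.closure_mono ?_))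
    rintro b ⟨hb, hbs⟩
    exact ⟨y, hy, hy1, hb, fun v hv => hbs v ((Set.Finite.mem_toFinset _).2 hv)⟩
  set W := ⨆ y : {y : X // y ∈ Y ∧ y ≠ 1}, theta (y : X) with hWdef
  have hWle : W ≤ Subgroup.closure Gen := iSup_le fun y => hclo y.1 y.2.1 y.2.2
  constructor
  · have hcomm : IsMulCommutative ↥(Subgroup.closure Gen) :=
      Subgroup.isMulCommutative_closure hpair
    have hel : ∀ x ∈ Subgroup.closure Gen, Odd (orderOf x) := by
      intro x hx
      induction hx using Subgroup.closure_induction with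
      | mem b hb =>
        obtain ⟨y, -, -, hb, -⟩ := hb
        exact (odd_theta y).of_dvd_nat (Subgroup.orderOf_dvd_natCard _ hb)
      | one => simp
      | mul a b ha hb iha ihb =>
        exact (iha.mul ihb).of_dvd_nat (Commute.orderOf_mul_dvd_mul_orderOf
          (congrArg Subtype.val (hcomm.1.comm ⟨a, ha⟩ ⟨b, hb⟩) : a * b = b * a))
      | inv a _ iha => rwa [orderOf_inv]
    refine Nat.not_even_iff_odd.1 fun hev => ?_
    obtain ⟨⟨x, hx⟩, hx2⟩ := exists_prime_orderOf_dvd_card' (G := ↥W) 2 (even_iff_two_dvd.1 hev)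
    have h3 := hel x (hWle hx)
    rw [Subgroup.orderOf_mk] at hx2
    rw [hx2] at h3
    exact absurd h3 (by decide)
  · intro g hg
    refine mem_normalizer_of_conj_le ?_
    rw [Subgroup.map_iSup]
    refine iSup_le fun y => ?_
    have hgy : g * (y : X) * g⁻¹ ∈ Y := conj_mem_of_mem_normalizer hg y.2.1
    have hne : g * (y : X) * g⁻¹ ≠ 1 := by simpa using y.2.2
    refine le_trans ?_ (le_iSup (fun y : {y : X // y ∈ Y ∧ y ≠ 1} => theta (y : X)) ⟨_, hgy, hne⟩)
    have hC : ∀ u : X, u ∈ Subgroup.centralizer ({g * (y : X) * g⁻¹} : Set X) ↔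
        g⁻¹ * u * g ∈ Subgroup.centralizer ({(y : X)} : Set X) := fun u => by
      simp only [Subgroup.mem_centralizer_singleton_iff]
      constructor
      · intro h
        calc g⁻¹ * u * g * (y : X) = g⁻¹ * (u * (g * y * g⁻¹)) * g := by group
          _ = (y : X) * (g⁻¹ * u * g) := by rw [h]; group
      · intro h
        calc u * (g * y * g⁻¹) = g * (g⁻¹ * u * g * y) * g⁻¹ := by group
          _ = g * y * g⁻¹ * u := by rw [h]; group
    refine le_theta ?_ ?_ (by rw [card_map_conj]; exact odd_theta _)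
    · intro u hu
      exact (hC u).2 (theta_le _ (mem_map_conj.1 hu))
    · intro u hu
      refine mem_normalizer_of_conj_le ?_
      rintro _ ⟨_, ⟨a, ha, rfl⟩, rfl⟩
      refine mem_map_conj.2 ?_
      have := conj_mem_of_mem_normalizer (centralizer_le_normalizer_theta _ ((hC u).1 hu)) ha
      simpa [mul_assoc] using this

end Cfsg.Agent.S2924
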