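import Cfsg.Statements.S2925
import Cfsg.Agent.Lib.Cores.Components
import Cfsg.Agent.Lib.LocalEven.SubnormalSylow
import Cfsg.Agent.Lib.LocalEven.Basic

set_option autoImplicit false
open Cfsg

namespace Cfsg.Agent.S2925

/-- Let K be a component of the finite group X and T a Sylow 2-subgroup of X. If some abelian normal subgroup Y of T does not normalize K, then K ⧸ Z(K) has abelian Sylow 2-subgroups. -/
theorem result {X : Type*} [Group X] [Finite X] (K : Subgroup X) (hK : Cfsg.IsComponent K) (T : Sylow 2 X) (Y : Subgroup X) (hYT : Y ≤ (T : Subgroup X)) (hYn : (Y.subgroupOf (T : Subgroup X)).Normal) (hYab : IsMulCommutative ↥Y) (hnot : ¬ Y ≤ Subgroup.normalizer (K : Set X)) (P : Sylow 2 (↥K ⧸ Subgroup.center ↥K)) : IsMulCommutative ↥(P : Subgroup (↥K ⧸ Subgroup.center ↥K)) := by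
  have h2 : Fact (Nat.Prime 2) := ⟨Nat.prime_two⟩
  obtain ⟨y, hy, hyK⟩ := SetLike.not_le_iff_exists.1 hnot
  set K' := K.map (MulAut.conj y).toMonoidHom with hK'
  have hK'c : Cfsg.IsComponent K' := CfsgLib.Cores.isComponent_map_equiv (MulAut.conj y) hK
  have hne : K ≠ K' := fun h => hyK (CfsgLib.LocalEven.mem_normalizer_of_conj_le (hK' ▸ h.ge))
  have hcomm := Subgroup.commutator_eq_bot_iff_le_centralizer.1
    (CfsgLib.Cores.commutator_components_eq_bot hK hK'c hne)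
  have hKK : ∀ k ∈ K, ∀ k' ∈ K', Commute k k' := fun k hk k' hk' =>
    (Subgroup.mem_centralizer_iff.1 (hcomm hk) k' hk').symm
  have hnorm := (Subgroup.normal_subgroupOf_iff_le_normalizer hYT).1 hYn
  have key : ∀ t₁ ∈ (T : Subgroup X) ⊓ K, ∀ t₂ ∈ (T : Subgroup X) ⊓ K, ∀ k ∈ K,
      k * (t₁ * t₂ * t₁⁻¹ * t₂⁻¹) = t₁ * t₂ * t₁⁻¹ * t₂⁻¹ * k := by
    intro t₁ ht₁ t₂ ht₂ k hk
    obtain ⟨a, hadef⟩ : ∃ a : X, a = y * t₁⁻¹ * y⁻¹ := ⟨_, rfl⟩
    obtain ⟨b, hbdef⟩ : ∃ b : X, b = y * t₂⁻¹ * y⁻¹ := ⟨_, rfl⟩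
    have ha : a ∈ K' := hadef ▸ CfsgLib.LocalEven.conj_mem_map_conj (K.inv_mem ht₁.2)
    have hb : b ∈ K' := hbdef ▸ CfsgLib.LocalEven.conj_mem_map_conj (K.inv_mem ht₂.2)
    have haY : t₁ * a ∈ Y := by
      have h1 := Y.mul_mem (CfsgLib.LocalEven.conj_mem_of_mem_normalizer (hnorm ht₁.1) hy) (Y.inv_mem hy)
      simpa [hadef, mul_assoc] using h1
    have hbY : t₂ * b ∈ Y := by
      have h1 := Y.mul_mem (CfsgLib.LocalEven.conj_mem_of_mem_normalizer (hnorm ht₂.1) hy) (Y.inv_mem hy)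
      simpa [hbdef, mul_assoc] using h1
    have h1 : t₁ * a * (t₂ * b) = t₂ * b * (t₁ * a) :=
      congrArg Subtype.val (hYab.1.comm (⟨_, haY⟩ : ↥Y) ⟨_, hbY⟩)
    have c1 : Commute t₂ a := hKK t₂ ht₂.2 a ha
    have c2 : Commute t₁ b := hKK t₁ ht₁.2 b hb
    have h3 : t₁ * t₂ * (a * b) = t₂ * t₁ * (b * a) := by
      calc t₁ * t₂ * (a * b) = t₁ * (t₂ * a) * b := by group
        _ = t₁ * a * (t₂ * b) := by rw [c1.eq]; group
        _ = t₂ * (b * t₁) * a := by rw [h1]; group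
        _ = t₂ * t₁ * (b * a) := by rw [← c2.eq]; group
    set c := t₁ * t₂ * t₁⁻¹ * t₂⁻¹ with hc
    have hcK' : c ∈ K' := by
      have hba : b * a * (a * b)⁻¹ ∈ K' := K'.mul_mem (K'.mul_mem hb ha) (K'.inv_mem (K'.mul_mem ha hb))
      have e1 : t₁ * t₂ = t₂ * t₁ * (b * a * (a * b)⁻¹) := by
        calc t₁ * t₂ = t₁ * t₂ * (a * b) * (a * b)⁻¹ := by group
          _ = t₂ * t₁ * (b * a * (a * b)⁻¹) := by rw [h3]; group
      have hd : Commute (t₂ * t₁) (b * a * (a * b)⁻¹) :=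
        hKK _ (K.mul_mem ht₂.2 ht₁.2) _ hba
      have : c = b * a * (a * b)⁻¹ := by
        calc c = (t₁ * t₂) * (t₂ * t₁)⁻¹ := by rw [hc]; group
          _ = b * a * (a * b)⁻¹ := by rw [e1, hd.eq]; group
      rw [this]; exact hba
    exact hKK k hk c hcK'
  obtain ⟨Q, hQ⟩ := CfsgLib.LocalEven.exists_sylow_eq_inf_of_isSubnormal T hK.1
  set Q' := Q.mapSurjective (QuotientGroup.mk'_surjective (Subgroup.center ↥K)) with hQ'
  have hQ'ab : ∀ u ∈ (Q' : Subgroup (↥K ⧸ Subgroup.center ↥K)), ∀ v ∈ (Q' : Subgroup (↥K ⧸ Subgroup.center ↥K)),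
      u * v = v * u := by
    rintro _ ⟨u, hu, rfl⟩ _ ⟨v, hv, rfl⟩
    rw [hQ] at hu hv
    have hz : u * v * u⁻¹ * v⁻¹ ∈ Subgroup.center ↥K :=
      Subgroup.mem_center_iff.2 fun k => Subtype.ext (key u ⟨hu, u.2⟩ v ⟨hv, v.2⟩ k k.2)
    have h1 : QuotientGroup.mk' (Subgroup.center ↥K) (u * v * u⁻¹ * v⁻¹) = 1 :=
      (QuotientGroup.eq_one_iff _).2 hz
    simp only [map_mul, map_inv] at h1
    exact mul_inv_eq_iff_eq_mul.1 (mul_inv_eq_one.1 h1)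
  obtain ⟨g, hg⟩ := MulAction.exists_smul_eq (↥K ⧸ Subgroup.center ↥K) Q' P
  refine ⟨⟨fun a b => Subtype.ext ?_⟩⟩
  have hmem : ∀ x ∈ (P : Subgroup (↥K ⧸ Subgroup.center ↥K)),
      x ∈ ((g • Q' : Sylow 2 (↥K ⧸ Subgroup.center ↥K)) : Subgroup (↥K ⧸ Subgroup.center ↥K)) := by
    rw [hg]; exact fun _ h => h
  have ha := hmem _ a.2
  have hb := hmem _ b.2
  obtain ⟨u, hu, hua⟩ := ha
  obtain ⟨v, hv, hvb⟩ := hb
  change (a : ↥K ⧸ Subgroup.center ↥K) * b = b * a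
  rw [← hua, ← hvb]
  simp only [MulDistribMulAction.toMonoidEnd_apply, MulDistribMulAction.toMonoidHom_apply, MulAut.smul_def]
  rw [← map_mul, ← map_mul, hQ'ab u hu v hv]

end Cfsg.Agent.S2925
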