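import Cfsg.Statements.S2932
import Cfsg.Agent.Lib.LocalEven.NatSylow.Four
open CfsgLib.LocalEven

set_option autoImplicit false
open Cfsg

namespace Cfsg.Agent.S2932

/-- Let p be a prime. Inside a finite ambient group let V be an elementary abelian p-subgroup and G a subgroup normalizing V and acting faithfully on it (G ∩ C(V) = 1), and let L ≤ G act on V as SL₂(F) on its natural module, F a finite field of characteristic p, with L ≅ SL₂(F). If every Sylow p-subgroup of N_G(L) is a Sylow p-subgroup of G, then either L is normal in G, or F has 4 elements and G is isomorphic to the alternating group of degree 7. -/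
theorem result {X : Type*} [Group X] [Finite X] {p : ℕ} [Fact p.Prime] (F : Type) [Field F] [Fintype F] [CharP F p] (V G L : Subgroup X) (hV : Cfsg.IsElementaryAbelian p V) (hGV : G ≤ Subgroup.normalizer (V : Set X)) (hfaith : G ⊓ Subgroup.centralizer (V : Set X) = ⊥) (hLG : L ≤ G) (hnat : Cfsg.IsNaturalSL2Module F V L) (hLiso : Nonempty (↥L ≃* Matrix.SpecialLinearGroup (Fin 2) F)) (hSyl : ∀ S : Sylow p ↥(G ⊓ Subgroup.normalizer (L : Set X)), ∀ P : Sylow p ↥G, Nat.card S = Nat.card P) : (L.subgroupOf G).Normal ∨ (Fintype.card F = 4 ∧ Nonempty (↥G ≃* ↥(alternatingGroup (Fin 7)))) := by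
  classical
  haveI := hV.1
  have hconj : ∀ (g : ↥G) (v : ↥V), (g : X) * v * (g : X)⁻¹ ∈ V := fun g v =>
    (Subgroup.mem_normalizer_iff.1 (hGV g.2) v).1 v.2
  letI : CommGroup ↥V :=
    { (inferInstance : Group ↥V) with mul_comm := fun a b => hV.1.1.comm a b }
  letI : DistribMulAction ↥G (Additive ↥V) :=
    { smul := fun g v => Additive.ofMul ⟨(g : X) * (Additive.toMul v : ↥V) * (g : X)⁻¹, hconj g _⟩
      one_smul := fun v => Additive.toMul.injective (Subtype.ext (by
        show ((1 : ↥G) : X) * (Additive.toMul v : ↥V) * ((1 : ↥G) : X)⁻¹ = _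
        simp))
      mul_smul := fun g g' v => Additive.toMul.injective (Subtype.ext (by
        show ((g * g' : ↥G) : X) * (Additive.toMul v : ↥V) * ((g * g' : ↥G) : X)⁻¹ =
          (g : X) * ((g' : X) * (Additive.toMul v : ↥V) * (g' : X)⁻¹) * (g : X)⁻¹
        simp [mul_assoc]))
      smul_zero := fun g => Additive.toMul.injective (Subtype.ext (by
        show (g : X) * ((1 : ↥V) : X) * (g : X)⁻¹ = ((1 : ↥V) : X)
        simp))
      smul_add := fun g a b => Additive.toMul.injective (Subtype.ext (by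
        show (g : X) * ((Additive.toMul a : ↥V) * (Additive.toMul b : ↥V) : X) * (g : X)⁻¹ =
          ((g : X) * (Additive.toMul a : ↥V) * (g : X)⁻¹) * ((g : X) * (Additive.toMul b : ↥V) * (g : X)⁻¹)
        group)) }
  have hsmul : ∀ (g : ↥G) (v : Additive ↥V),
      ((Additive.toMul (g • v) : ↥V) : X) = (g : X) * (Additive.toMul v : ↥V) * (g : X)⁻¹ := fun g v => rfl
  obtain ⟨-, ρ, ψ, hρs, hρk, hψ⟩ := hnat
  have htriv : ∀ g ∈ G, g ∈ Subgroup.centralizer (V : Set X) → g = 1 := fun g h1 h2 =>
    Subgroup.mem_bot.1 (hfaith ▸ Subgroup.mem_inf.2 ⟨h1, h2⟩)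
  have hρi : Function.Injective ρ := (injective_iff_map_eq_one ρ).2 fun l hl => by
    have h1 : l ∈ ρ.ker := hl
    rw [hρk, Subgroup.mem_subgroupOf] at h1
    exact Subtype.ext (htriv _ (hLG l.2) h1)
  set L' := L.subgroupOf G with hL'
  set ρ' := ρ.comp (Subgroup.subgroupOfEquivOfLe hLG).toMonoidHom with hρ'
  have hρ'b : Function.Bijective ρ' :=
    (show Function.Bijective ρ from ⟨hρi, hρs⟩).comp (Subgroup.subgroupOfEquivOfLe hLG).bijective
  set N' := Subgroup.normalizer (L' : Set ↥G) with hN'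
  -- the upper unitriangular subgroup
  let U : Subgroup ↥G :=
    { carrier := {g | ∃ l : ↥L', ∃ t, ρ' l = FaithfulBound.upper t ∧ (l : ↥G) = g}
      one_mem' := ⟨1, 0, by rw [map_one, NatSylow.upper_zero], rfl⟩
      mul_mem' := by
        rintro _ _ ⟨l, t, hl, rfl⟩ ⟨l', t', hl', rfl⟩
        exact ⟨l * l', t + t', by rw [map_mul, hl, hl', NatSylow.upper_add], rfl⟩
      inv_mem' := by
        rintro _ ⟨l, t, hl, rfl⟩
        refine ⟨l⁻¹, -t, ?_, rfl⟩
        rw [map_inv, hl, inv_eq_iff_mul_eq_one, ← NatSylow.upper_add, add_neg_cancel, NatSylow.upper_zero] }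
  have hUN : U ≤ N' := fun g hg => by
    obtain ⟨l, t, -, rfl⟩ := hg
    exact Subgroup.le_normalizer l.2
  have hUp : IsPGroup p ↥U := fun u => ⟨1, by
    obtain ⟨l, t, hl, hlu⟩ := u.2
    have hpow : ∀ n : ℕ, FaithfulBound.upper t ^ n = FaithfulBound.upper ((n : F) * t) := by
      intro n
      induction n with
      | zero => rw [pow_zero, Nat.cast_zero, zero_mul, NatSylow.upper_zero]
      | succ n ih => rw [pow_succ, ih, ← NatSylow.upper_add]; push_cast; rw [add_mul, one_mul]
    have h1 : ρ' (l ^ p) = 1 := by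
      rw [map_pow, hl, hpow, CharP.cast_eq_zero, zero_mul, NatSylow.upper_zero]
    have h2 := congrArg (fun z : ↥L' => (z : ↥G)) ((injective_iff_map_eq_one ρ').1 hρ'b.1 _ h1)
    exact Subtype.ext (by rw [pow_one, Subgroup.coe_pow, ← hlu]; simpa using h2)⟩
  obtain ⟨S, hS⟩ := (hUp.comap_of_injective N'.subtype N'.subtype_injective).exists_le_sylow
  have hN'eq : N' = (Subgroup.normalizer (L : Set X)).subgroupOf G := by
    ext g
    rw [Subgroup.mem_subgroupOf, hN', Subgroup.mem_normalizer_iff, Subgroup.mem_normalizer_iff]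
    constructor
    · intro h x
      constructor
      · intro hx
        exact (h ⟨x, hLG hx⟩).1 hx
      · intro hx
        have hxG : x ∈ G := by
          have h1 := G.mul_mem (G.mul_mem (G.inv_mem g.2) (hLG hx)) g.2
          simpa [mul_assoc] using h1
        exact (h ⟨x, hxG⟩).2 hx
    · intro h x
      exact h (x : X)
  have hcardN : Nat.card ↥N' = Nat.card ↥(G ⊓ Subgroup.normalizer (L : Set X)) := by
    rw [hN'eq]
    exact Nat.card_congr
      { toFun := fun x => ⟨((x : ↥G) : X), ⟨(x : ↥G).2, x.2⟩⟩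
        invFun := fun x => ⟨⟨(x : X), x.2.1⟩, x.2.2⟩
        left_inv := fun x => rfl
        right_inv := fun x => rfl }
  obtain ⟨S₀⟩ := (inferInstance : Nonempty (Sylow p ↥(G ⊓ Subgroup.normalizer (L : Set X))))
  obtain ⟨P₀⟩ := (inferInstance : Nonempty (Sylow p ↥G))
  have hTcard : Nat.card ↥((S : Subgroup ↥N').map N'.subtype) = p ^ (Nat.card ↥G).factorization p := by
    rw [Nat.card_congr ((S : Subgroup ↥N').equivMapOfInjective N'.subtype N'.subtype_injective).toEquiv.symm,
      S.card_eq_multiplicity, hcardN, ← S₀.card_eq_multiplicity, hSyl S₀ P₀, P₀.card_eq_multiplicity]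
  let d : NatSylow.Data p L' F (Additive ↥V) :=
    { exp := fun v => Additive.toMul.injective (Subtype.ext (by
        rw [toMul_nsmul, Subgroup.coe_pow]
        exact hV.2 _ (Additive.toMul v).2))
      faithful := fun g hg => by
        refine Subtype.ext (htriv _ g.2 (Subgroup.mem_centralizer_iff.2 fun v hv => ?_))
        have h1 := congrArg (fun z : Additive ↥V => ((Additive.toMul z : ↥V) : X)) (hg (Additive.ofMul ⟨v, hv⟩))
        simp only [hsmul] at h1
        exact (mul_inv_eq_iff_eq_mul.1 h1).symm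
      ρ := ρ'
      ψ := ψ
      bij := hρ'b
      act := fun l m => by
        obtain ⟨w, hw, hw'⟩ := hψ (Subgroup.subgroupOfEquivOfLe hLG l) (Additive.toMul m)
        have h1 : ((l : ↥G) • m) = Additive.ofMul w := Additive.toMul.injective (Subtype.ext hw.symm)
        rw [h1, hw']
        rfl
      T := Sylow.ofCard ((S : Subgroup ↥N').map N'.subtype) hTcard
      upper_mem := fun l hl => by
        obtain ⟨t, ht⟩ := hl
        rw [Sylow.coe_ofCard]
        exact ⟨⟨l, hUN ⟨l, t, ht, rfl⟩⟩, hS (Subgroup.mem_comap.2 ⟨l, t, ht, rfl⟩), rfl⟩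
      normT := by
        rw [Sylow.coe_ofCard]
        exact Subgroup.map_subtype_le _ }
  by_cases hexc : p = 2 ∧ Nat.card F = 4
  · obtain ⟨rfl, hF⟩ := hexc
    rcases NatSylow.Data.normal_or_alt_seven d hF with h | h
    · exact Or.inl h
    · exact Or.inr ⟨by rw [← Nat.card_eq_fintype_card, hF], h⟩
  · exact Or.inl (d.normal hexc)

end Cfsg.Agent.S2932
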