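import Cfsg.Statements.S2933
import Cfsg.Agent.Lib.PGroup.FourCentralizer

set_option autoImplicit false
open Cfsg

namespace Cfsg.Agent.S2933

/-- Let T be a 2-subgroup of a finite group G, V ≤ Z(T) a four-group, and t, ρ ∈ N_G(V) ∩ N_G(T) elements of order 2 and 3 with t commuting with ρ and with V. If [V, ρ] = V and C_T(t) = V, then T is elementary abelian of order 16, or homocyclic of rank 2 (ℤ/2ⁿ × ℤ/2ⁿ for some n ≥ 1), or isomorphic to a Sylow 2-subgroup of PSL₃(4) or of PSU₃(4). -/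
theorem result {G : Type*} [Group G] [Finite G] (T V : Subgroup G) (hT : IsPGroup 2 ↥T) (hVT : V ≤ T ⊓ Subgroup.centralizer (T : Set G)) (hV : Nat.card ↥V = 4 ∧ ∀ v ∈ V, v ^ 2 = 1) (t ρ : G) (ht : orderOf t = 2) (hρ : orderOf ρ = 3) (htn : t ∈ Subgroup.normalizer (V : Set G) ⊓ Subgroup.normalizer (T : Set G)) (hρn : ρ ∈ Subgroup.normalizer (V : Set G) ⊓ Subgroup.normalizer (T : Set G)) (htρ : t * ρ = ρ * t) (htV : t ∈ Subgroup.centralizer (V : Set G)) (hVρ : ⁅V, Subgroup.zpowers ρ⁆ = V) (hCt : T ⊓ Subgroup.centralizer ({t} : Set G) = V) : (Nat.card ↥T = 16 ∧ ∀ x ∈ T, x ^ 2 = 1) ∨ (∃ n : ℕ, 1 ≤ n ∧ Nonempty (↥T ≃* Multiplicative (ZMod (2 ^ n)) × Multiplicative (ZMod (2 ^ n)))) ∨ (∃ (F : Type) (_ : Field F) (_ : Fintype F), Fintype.card F = 4 ∧ ∀ P : Sylow 2 (Matrix.ProjectiveSpecialLinearGroup (Fin 3) F), Nonempty (↥T ≃* ↥(P : Subgroup (Matrix.ProjectiveSpecialLinearGroup (Fin 3) F)))) ∨ (∃ (F : Type) (_ : Field F) (_ : Fintype F), Fintype.card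 F = 16 ∧ ∀ P : Sylow 2 (Cfsg.PSU 3 F 4), Nonempty (↥T ≃* ↥(P : Subgroup (Cfsg.PSU 3 F 4)))) := by
  classical
  haveI : Fact (Nat.Prime 2) := ⟨Nat.prime_two⟩
  have hρ3 : ρ ^ 3 = 1 := hρ ▸ pow_orderOf_eq_one ρ
  have ht2 : t * t = 1 := by rw [← pow_two]; exact ht ▸ pow_orderOf_eq_one t
  have hρT : ∀ x, x ∈ T ↔ ρ * x * ρ⁻¹ ∈ T := Subgroup.mem_normalizer_iff.1 hρn.2
  have htT : ∀ x, x ∈ T ↔ t * x * t⁻¹ ∈ T := Subgroup.mem_normalizer_iff.1 htn.2
  let ρ' : MulAut ↥T :=
    { toFun := fun x => ⟨ρ * x * ρ⁻¹, (hρT _).1 x.2⟩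
      invFun := fun x => ⟨ρ⁻¹ * x * ρ, (hρT _).2 (by simpa [mul_assoc] using x.2)⟩
      left_inv := fun x => Subtype.ext (by simp [mul_assoc])
      right_inv := fun x => Subtype.ext (by simp [mul_assoc])
      map_mul' := fun x y => Subtype.ext (by simp [mul_assoc]) }
  let t' : MulAut ↥T :=
    { toFun := fun x => ⟨t * x * t⁻¹, (htT _).1 x.2⟩
      invFun := fun x => ⟨t⁻¹ * x * t, (htT _).2 (by simpa [mul_assoc] using x.2)⟩
      left_inv := fun x => Subtype.ext (by simp [mul_assoc])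
      right_inv := fun x => Subtype.ext (by simp [mul_assoc])
      map_mul' := fun x y => Subtype.ext (by simp [mul_assoc]) }
  have hfix : ∀ x : ↥T, t' x = x ↔ (x : G) ∈ V := fun x => by
    have e : (t * (x : G) * t⁻¹ = x) ↔ (x : G) ∈ Subgroup.centralizer ({t} : Set G) := by
      rw [mul_inv_eq_iff_eq_mul, Subgroup.mem_centralizer_singleton_iff]
      exact eq_comm
    refine Iff.trans (Subtype.ext_iff.trans e) ⟨fun h => ?_, fun h => ?_⟩
    · rw [← hCt]; exact ⟨x.2, h⟩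
    · exact (hCt.symm.le h).2
  -- `ρ` moves every non-trivial element of `V`
  have hρV : ∀ v ∈ V, ρ * v * ρ⁻¹ = v → v = 1 := by
    intro v hv hfx
    by_contra hv1
    have hzv : Subgroup.zpowers v ≤ V := Subgroup.zpowers_le.2 hv
    have hcard : Nat.card ↥(Subgroup.zpowers v) = 2 := by
      rw [Nat.card_zpowers]
      exact orderOf_eq_prime (hV.2 v hv) hv1
    have h2 : ((Subgroup.zpowers v).subgroupOf V).index = 2 := by
      have h1 := Subgroup.card_mul_index ((Subgroup.zpowers v).subgroupOf V)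
      rw [Nat.card_congr (Subgroup.subgroupOfEquivOfLe hzv).toEquiv, hcard, hV.1] at h1
      omega
    have hle : ⁅V, Subgroup.zpowers ρ⁆ ≤ Subgroup.zpowers v := by
      rw [Subgroup.commutator_le]
      rintro a ha _ ⟨n, rfl⟩
      have hcm : Commute ρ v := mul_inv_eq_iff_eq_mul.1 hfx
      have hn : ρ ^ n ∈ Subgroup.normalizer (V : Set G) := Subgroup.zpow_mem _ hρn.1 n
      by_cases ha' : a ∈ Subgroup.zpowers v
      · obtain ⟨k, rfl⟩ := ha'
        rw [commutatorElement_eq_one_iff_mul_comm.2 (hcm.symm.zpow_zpow k n).eq]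
        exact one_mem _
      · have ha2 : ρ ^ n * a * (ρ ^ n)⁻¹ ∈ V := (Subgroup.mem_normalizer_iff.1 hn a).1 ha
        have ha3 : ρ ^ n * a * (ρ ^ n)⁻¹ ∉ Subgroup.zpowers v := fun h => ha' (by
          obtain ⟨k, hk⟩ := h
          refine ⟨k, ?_⟩
          have e1 : ρ ^ n * v ^ k * (ρ ^ n)⁻¹ = v ^ k := by
            rw [((hcm.zpow_zpow n k)).eq, mul_inv_cancel_right]
          have hk' : v ^ k = ρ ^ n * a * (ρ ^ n)⁻¹ := hk
          exact mul_left_cancel (mul_right_cancel (e1.trans hk')))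
        rw [commutatorElement_def,
          show a * ρ ^ n * a⁻¹ * (ρ ^ n)⁻¹ = a * (ρ ^ n * a * (ρ ^ n)⁻¹)⁻¹ by group]
        exact (Subgroup.mul_mem_iff_of_index_two h2 (a := (⟨a, ha⟩ : ↥V))
          (b := (⟨_, ha2⟩ : ↥V)⁻¹)).2
          (iff_of_false ha' fun h => ha3 ((Subgroup.zpowers v).inv_mem_iff.1 h))
    have := Subgroup.card_le_of_le (hVρ.symm.le.trans hle)
    rw [hcard, hV.1] at this
    omega
  have hρfix : ∀ x : ↥T, ρ' x = x → x = 1 := by
    intro x hx
    by_contra hx1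
    -- the fixed group of `ρ` is invariant under `t`
    let C : Subgroup ↥T := CfsgLib.FourCent.fixSub ρ'
    let f : C →* C :=
      { toFun := fun c => ⟨t' c.1, by
          show ρ' (t' c.1) = t' c.1
          apply Subtype.ext
          show ρ * (t * c.1 * t⁻¹) * ρ⁻¹ = t * c.1 * t⁻¹
          have hc : ρ * (c.1 : G) * ρ⁻¹ = c.1 := congrArg Subtype.val c.2
          conv_rhs => rw [← hc]
          rw [show t * (ρ * (c.1 : G) * ρ⁻¹) * t⁻¹ = (t * ρ) * (c.1 : G) * (t * ρ)⁻¹ by group, htρ]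
          group⟩
        map_one' := Subtype.ext (map_one t')
        map_mul' := fun a b => Subtype.ext (map_mul t' a.1 b.1) }
    have hff : ∀ c, f (f c) = c := fun c => Subtype.ext (Subtype.ext (by
      show t * (t * (c.1 : G) * t⁻¹) * t⁻¹ = c.1
      rw [show t * (t * (c.1 : G) * t⁻¹) * t⁻¹ = (t * t) * (c.1 : G) * (t * t)⁻¹ by group, ht2]
      group))
    obtain ⟨k, hk⟩ := IsPGroup.iff_card.1 (hT.to_subgroup C)
    letI : Fintype C := Fintype.ofFinite _
    have h2 : 2 ∣ Fintype.card C := by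
      rw [← Nat.card_eq_fintype_card, hk]
      refine dvd_pow_self 2 fun h0 => hx1 ?_
      rw [h0, pow_zero] at hk
      exact (Subgroup.eq_bot_of_card_eq _ hk).le (hx : x ∈ C)
    let e : Equiv.Perm C := Function.Involutive.toPerm f hff
    obtain ⟨c, hc, hc1⟩ := Equiv.Perm.exists_fixed_point_of_prime' (n := 1) h2 (σ := e) (Equiv.ext hff) (a := 1) (map_one f)
    have hcV : ((c : ↥T) : G) ∈ V := (hfix _).1 (congrArg Subtype.val hc)
    exact hc1 (Subtype.ext (Subtype.ext (hρV _ hcV (congrArg Subtype.val c.2))))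
  have hVT : ∀ v ∈ V, v ∈ T := fun v hv => (hVT hv).1
  let S : CfsgLib.FourCent.Setup ↥T :=
    { ρ := ρ'
      t := t'
      hρ := ⟨fun x => Subtype.ext (by
        show ρ * (ρ * (ρ * (x : G) * ρ⁻¹) * ρ⁻¹) * ρ⁻¹ = x
        rw [show ρ * (ρ * (ρ * (x : G) * ρ⁻¹) * ρ⁻¹) * ρ⁻¹ = ρ ^ 3 * (x : G) * (ρ ^ 3)⁻¹ by
          simp only [pow_succ, pow_zero, one_mul, mul_assoc, mul_inv_rev], hρ3]
        group), hρfix⟩
      comm := fun x => Subtype.ext (by
        show t * (ρ * (x : G) * ρ⁻¹) * t⁻¹ = ρ * (t * (x : G) * t⁻¹) * ρ⁻¹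
        rw [show t * (ρ * (x : G) * ρ⁻¹) * t⁻¹ = (t * ρ) * (x : G) * (t * ρ)⁻¹ by group, htρ]
        group)
      inv := fun x => Subtype.ext (by
        show t * (t * (x : G) * t⁻¹) * t⁻¹ = x
        rw [show t * (t * (x : G) * t⁻¹) * t⁻¹ = (t * t) * (x : G) * (t * t)⁻¹ by group, ht2]
        group)
      hp := hT
      card_fix := by
        rw [← hV.1]
        exact Nat.card_congr
          { toFun := fun x => ⟨x.1, (hfix _).1 x.2⟩
            invFun := fun v => ⟨⟨v.1, hVT _ v.2⟩, (hfix _).2 v.2⟩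
            left_inv := fun x => rfl
            right_inv := fun v => rfl }
      fix_sq := fun x hx => Subtype.ext (by
        show (x : G) * x = 1
        rw [← pow_two]
        exact hV.2 _ ((hfix x).1 hx)) }
  by_cases hout : ∃ x : ↥T, x * x = 1 ∧ t' x ≠ x
  · by_cases hna : ∃ a b : ↥T, a * b ≠ b * a
    · right; right; left
      obtain ⟨a, b, ha, hb, hab⟩ := CfsgLib.FourCent.exists_noncommuting S hna hout
      have h64 : Nat.card ↥T = 64 := CfsgLib.FourCent.nonabelian_card S hna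
      obtain ⟨g⟩ := S.hρ.exists_gen h64 a b ha hb hab
      haveI : Fintype (GaloisField 2 2) := Fintype.ofFinite _
      have hF : Fintype.card (GaloisField 2 2) = 4 := by
        rw [← Nat.card_eq_fintype_card, GaloisField.card 2 2 (by norm_num)]
        rfl
      obtain ⟨P₀, ⟨g'⟩⟩ := Cfsg.Agent.S3157.exists_model hF
      obtain ⟨i⟩ := g.nonempty_equiv g'
      exact ⟨GaloisField 2 2, inferInstance, inferInstance, hF, fun P => ⟨i.trans (P₀.equiv P)⟩⟩
    · left
      push Not at hna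
      rcases CfsgLib.FourCent.abelian_cases S hna with ⟨hel, h16⟩ | ⟨hΩ, -⟩
      · exact ⟨h16, fun x hx => by
          have := congrArg Subtype.val (hel ⟨x, hx⟩)
          rw [pow_two]
          exact this⟩
      · obtain ⟨x, hx, hxt⟩ := hout
        exact absurd (hΩ x hx) hxt
  · push Not at hout
    have h4 : ∀ x : ↥T, x ^ 2 = 1 → x ∈ CfsgLib.FourCent.fixSub t' := fun x hx => hout x (by rw [← pow_two]; exact hx)
    have hfc : Nat.card ↥(CfsgLib.FourCent.fixSub t') = 4 := S.card_fix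
    have hinv : ∀ y ∈ CfsgLib.FourCent.fixSub t', ρ' y ∈ CfsgLib.FourCent.fixSub t' := fun y (hy : t' y = y) => by
      show t' (ρ' y) = ρ' y
      exact (S.comm y).trans (congrArg ρ' hy)
    have h2 : Cfsg.PRankLE 2 2 ↥T := fun A _ hA => by
      refine (Subgroup.card_le_of_le fun a ha => h4 a (hA a ha)).trans ?_
      rw [hfc]; norm_num
    have h1 : ¬ Cfsg.PRankLE 2 1 ↥T := fun h => by
      have hsq1 : ∀ c : ↥(CfsgLib.FourCent.fixSub t'), c * c = 1 := fun c => Subtype.ext (S.fix_sq c c.2)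
      have := h (CfsgLib.FourCent.fixSub t') ⟨⟨fun a b => by
        rw [← inv_eq_of_mul_eq_one_right (hsq1 (a * b)), mul_inv_rev, inv_eq_of_mul_eq_one_right (hsq1 b),
          inv_eq_of_mul_eq_one_right (hsq1 a)]⟩⟩
        (fun a ha => by rw [pow_two]; exact S.fix_sq a ha)
      rw [hfc] at this
      norm_num at this
    have htrans : ∀ a b : ↥T, orderOf a = 2 → orderOf b = 2 → ∃ k : ℕ, (ρ' ^ k) a = b := by
      intro a b ha hb
      have ha' : a ∈ CfsgLib.FourCent.fixSub t' := h4 a (ha ▸ pow_orderOf_eq_one a)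
      have hb' : b ∈ CfsgLib.FourCent.fixSub t' := h4 b (hb ▸ pow_orderOf_eq_one b)
      have ha1 : a ≠ 1 := fun e => by rw [e, orderOf_one] at ha; omega
      have hb1 : b ≠ 1 := fun e => by rw [e, orderOf_one] at hb; omega
      by_contra hne
      push Not at hne
      have n0 : b ≠ a := fun e => hne 0 (by rw [pow_zero]; exact e.symm)
      have n1 : b ≠ ρ' a := fun e => hne 1 (by rw [pow_one]; exact e.symm)
      have n2 : b ≠ ρ' (ρ' a) := fun e => hne 2 (by rw [pow_two]; exact e.symm)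
      have m1 : ρ' a ≠ a := fun e => ha1 (hρfix a e)
      have m2 : ρ' (ρ' a) ≠ ρ' a := fun e => m1 (ρ'.injective e)
      have m3 : ρ' (ρ' a) ≠ a := fun e => m1 (by
        have h3 : ρ' (ρ' (ρ' a)) = a := S.hρ.cube a
        rw [e] at h3
        exact h3)
      have p1 : ρ' a ≠ 1 := fun e => ha1 (ρ'.injective (e.trans (map_one _).symm))
      have p2 : ρ' (ρ' a) ≠ 1 := fun e => p1 (ρ'.injective (e.trans (map_one _).symm))
      let f : Fin 5 → ↥(CfsgLib.FourCent.fixSub t') :=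
        ![1, ⟨a, ha'⟩, ⟨ρ' a, hinv _ ha'⟩, ⟨ρ' (ρ' a), hinv _ (hinv _ ha')⟩, ⟨b, hb'⟩]
      have hf : Function.Injective f := by
        intro i j hij
        have hij' := congrArg Subtype.val hij
        fin_cases i <;> fin_cases j <;> simp [f] at hij' ⊢ <;>
          first
            | exact ha1 hij' | exact ha1 hij'.symm | exact hb1 hij' | exact hb1 hij'.symm
            | exact n0 hij' | exact n0 hij'.symm | exact n1 hij' | exact n1 hij'.symm
            | exact n2 hij' | exact n2 hij'.symm | exact m1 hij' | exact m1 hij'.symm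
            | exact m2 hij' | exact m2 hij'.symm | exact m3 hij' | exact m3 hij'.symm
            | exact p1 hij' | exact p1 hij'.symm | exact p2 hij' | exact p2 hij'.symm
      have := Nat.card_le_card_of_injective f hf
      rw [Nat.card_fin, hfc] at this
      omega
    haveI : Fintype (GaloisField 2 4) := Fintype.ofFinite _
    have hF : Fintype.card (GaloisField 2 4) = 16 := by
      rw [← Nat.card_eq_fintype_card, GaloisField.card 2 4 (by norm_num)]
      rfl
    obtain ⟨P₀⟩ : Nonempty (Sylow 2 (Cfsg.PSU 3 (GaloisField 2 4) 4)) := inferInstance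
    rcases Cfsg.Agent.S1237.result hT h2 h1 ρ' htrans hF P₀ with ⟨n, hn, ⟨i⟩⟩ | hi
    · exact Or.inr (Or.inl ⟨n, hn, ⟨i.trans (MulEquiv.prodMultiplicative _ _)⟩⟩)
    · exact Or.inr (Or.inr (Or.inr ⟨GaloisField 2 4, inferInstance, inferInstance, hF,
        fun P => hi.elim fun i => ⟨i.trans (P₀.equiv P)⟩⟩))
end Cfsg.Agent.S2933
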