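import Cfsg.Statements.S2934
import Cfsg.Agent.Lib.LocalEven.OneInvol.Structure
import Cfsg.Agent.Lib.LargeExtra.SubExtra

set_option autoImplicit false
open Cfsg

namespace Cfsg.Agent.S2934

/-- Let p be an odd prime, W a finite 2-group and E a non-cyclic abelian p-subgroup of Aut(W) such that, for every nontrivial e ∈ E, the fixed points of e in W contain at most one involution. Then E has order 9, W is extraspecial of order 2⁵, 2⁷ or 2⁹, and the common fixed points of E in W form exactly the centre Z(W). -/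
theorem result {W : Type*} [Group W] [Finite W] (hW : IsPGroup 2 W) {p : ℕ} [Fact p.Prime] (hp : p ≠ 2) (E : Subgroup (MulAut W)) (hE : IsPGroup p ↥E) (hab : IsMulCommutative ↥E) (hnc : ¬ IsCyclic ↥E) (hfix : ∀ e ∈ E, e ≠ 1 → ∀ x y : W, orderOf x = 2 → orderOf y = 2 → e x = x → e y = y → x = y) : Nat.card ↥E = 9 ∧ Cfsg.IsExtraspecial 2 W ∧ (Nat.card W = 2 ^ 5 ∨ Nat.card W = 2 ^ 7 ∨ Nat.card W = 2 ^ 9) ∧ {x : W | ∀ e ∈ E, e x = x} = (Subgroup.center W : Set W) := by
  classical
  let G := W ⋊[E.subtype] E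
  haveI : Finite G := Finite.of_equiv _ SemidirectProduct.equivProd.symm
  let il : W →* G := SemidirectProduct.inl
  let ir : E →* G := SemidirectProduct.inr
  have hil : Function.Injective il := SemidirectProduct.inl_injective
  have hir : Function.Injective ir := SemidirectProduct.inr_injective
  have hconj : ∀ (e : E) (w : W), ir e * il w * (ir e)⁻¹ = il ((e : MulAut W) w) := fun e w => by
    rw [← map_inv]
    exact (SemidirectProduct.inl_aut e w).symm
  have hcomm_iff : ∀ (e : E) (w : W), ir e * il w = il w * ir e ↔ (e : MulAut W) w = w := by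
    intro e w
    rw [← mul_inv_eq_iff_eq_mul, hconj, hil.eq_iff]
  let eW : W ≃* il.range := MonoidHom.ofInjective hil
  let eE : E ≃* ir.range := MonoidHom.ofInjective hir
  have S : CfsgLib.LocalEven.OneInvol.Setup il.range ir.range p := by
    refine ⟨hW.of_equiv eW, hE.of_equiv eE, hp, ?_, fun h => hnc (eE.isCyclic.2 h), ?_, ?_, ?_⟩
    · rintro _ ⟨a, rfl⟩ _ ⟨b, rfl⟩
      rw [← map_mul, ← map_mul, hab.is_comm.comm a b]
    · refine CfsgLib.Solvable.le_normalizer_of_conj_mem ?_
      rintro _ ⟨e, rfl⟩ _ ⟨w, rfl⟩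
      exact ⟨_, (hconj e w).symm⟩
    · rintro _ ⟨e, rfl⟩ h
      have : e = 1 := Subtype.ext (MulEquiv.ext fun w => (hcomm_iff e w).1 (h _ ⟨w, rfl⟩))
      rw [this, map_one]
    · rintro _ ⟨e, rfl⟩ he _ ⟨x, rfl⟩ _ ⟨y, rfl⟩ hx hy hex hey
      rw [orderOf_injective il hil] at hx hy
      refine congrArg il (hfix e e.2 ?_ x y hx hy ((hcomm_iff e x).1 hex) ((hcomm_iff e y).1 hey))
      exact fun h => he (by rw [show e = 1 from Subtype.ext h, map_one])
  obtain ⟨h9, hX, hcard, hfixW⟩ := S.structure_thm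
  rw [← Nat.card_congr eE.toEquiv] at h9
  rw [← Nat.card_congr eW.toEquiv] at hcard
  refine ⟨h9, CfsgLib.LargeExtra.isExtraspecial_of_mulEquiv eW.symm hX, hcard, Set.ext fun x => ?_⟩
  have h := hfixW (eW x)
  constructor
  · intro hx
    have hmem : eW x ∈ Subgroup.center il.range := h.1 (by
      rintro _ ⟨e, rfl⟩
      exact (hcomm_iff e x).2 (hx e e.2))
    refine Subgroup.mem_center_iff.2 fun g => eW.injective ?_
    rw [map_mul, map_mul]
    exact Subgroup.mem_center_iff.1 hmem (eW g)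
  · intro hx e he
    refine (hcomm_iff ⟨e, he⟩ x).1 (h.2 (Subgroup.mem_center_iff.2 fun g => ?_) _ ⟨_, rfl⟩)
    obtain ⟨g, rfl⟩ := eW.surjective g
    rw [← map_mul, ← map_mul, Subgroup.mem_center_iff.1 hx g]

end Cfsg.Agent.S2934
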