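import Cfsg.Statements.S2937
-- import your own Cfsg.Agent.* helpers here
import Cfsg.Agent.Lib.SplitBN.BranchClassical
import Cfsg.Agent.Lib.SplitBN.BranchExceptional
import Cfsg.Agent.Lib.SplitBN.RankTwoUnitary
import Cfsg.Agent.Lib.SplitBN.PMinimalA6
import Cfsg.Agent.Lib.SplitBN.PMinimalL28
import Cfsg.Agent.Lib.SplitBN.PMinimalU33
import Cfsg.Agent.Lib.SplitBN.PMinimalTits
import Cfsg.Agent.Lib.SplitBN.Simple
import Cfsg.Agent.Lib.SplitBN.LieType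
import Cfsg.Agent.Lib.Cores.Components

set_option autoImplicit false
set_option maxRecDepth 100000
set_option maxHeartbeats 1000000
open Cfsg

namespace Cfsg.Agent.S2937

open CfsgLib.SplitBN in
/-- The statement for a normal subgroup with a split Tits system. -/
theorem of_lieType {X : Type*} [Group X] [Finite X] {p : ℕ} [Fact p.Prime] {K : Subgroup X} [K.Normal]
    (hX : Cfsg.IsPMinimal p X) (h : Cfsg.IsLieTypeChar p K) :
    Cfsg.IsLieRankOneChar p K ∨ (p = 2 ∧ K ≠ ⊤ ∧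
      ((∃ (F : Type) (_ : Field F) (_ : Fintype F) (_ : CharP F 2),
          Nonempty (↥K ≃* Matrix.ProjectiveSpecialLinearGroup (Fin 3) F)) ∨
        (∃ (F : Type) (_ : Field F) (_ : Fintype F) (_ : CharP F 2),
          4 ≤ Fintype.card F ∧ Nonempty (↥K ≃* Cfsg.PSp 2 F)) ∨
        Nonempty (↥K ≃* ↥(alternatingGroup (Fin 6))))) := by
  classical
  haveI := isSimple_lieType h
  have hbr : HasBranch p K → False := not_pminimal_of_branch hX
  rcases h with h | h | h | h | h | h | h | h | h | h | h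
  · obtain ⟨F, iF, iT, iC, n, hn, h4, ⟨e⟩⟩ := h
    rcases (show n = 2 ∨ n = 3 ∨ 4 ≤ n by omega) with rfl | rfl | hn4
    · exact Or.inl (Or.inl ⟨F, iF, iT, iC, h4 rfl, ⟨e⟩⟩)
    · obtain ⟨rfl, hne⟩ := pminimal_two hX ((hasTwo_psl (F := F) (p := p)).congr e.symm)
      exact Or.inr ⟨rfl, hne, Or.inl ⟨F, iF, iT, iC, ⟨e⟩⟩⟩
    · exact (hbr ((hasBranch_psl hn4).congr e.symm)).elim
  · obtain ⟨F, iF, iT, iC, m, hm, h3, ⟨e⟩⟩ := h
    rcases (show m = 2 ∨ 3 ≤ m by omega) with rfl | hm3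
    · obtain ⟨rfl, hne⟩ := pminimal_two hX ((hasTwo_psp (F := F) (p := p)).congr e.symm)
      refine Or.inr ⟨rfl, hne, Or.inr (Or.inl ⟨F, iF, iT, iC, ?_, ⟨e⟩⟩)⟩
      have heven := FiniteField.even_card_iff_char_two.1 (ringChar.eq F 2)
      have := h3 rfl
      omega
    · exact (hbr ((hasBranch_psp hm3).congr e.symm)).elim
  · obtain ⟨F, iF, iT, iC, n, q, hF, hn, h32, ⟨e⟩⟩ := h
    rcases (show n = 3 ∨ (4 ≤ n ∧ n ≤ 5) ∨ 6 ≤ n by omega) with rfl | ⟨h4, h5⟩ | h6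
    · exact Or.inl (Or.inr (Or.inl ⟨F, iF, iT, iC, q, hF, fun hq => h32 ⟨rfl, hq⟩, ⟨e⟩⟩))
    · obtain ⟨rfl, -⟩ := pminimal_two hX ((hasTwo_psu (p := p) hF h4 h5).congr e.symm)
      exact (not_pminimal_of_rigid hX ((hasRigid_psu hF h4 h5).congr e.symm)).elim
    · exact (hbr ((hasBranch_psu hF h6).congr e.symm)).elim
  · obtain ⟨F, _, _, _, m, hm, hodd, ⟨e⟩⟩ := h
    exact (hbr ((hasBranch_pomega_odd hodd hm).congr e.symm)).elim
  · obtain ⟨F, _, _, _, m, hm, ⟨e⟩⟩ := h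
    exact (hbr ((hasBranch_pomega_plus hm).congr e.symm)).elim
  · obtain ⟨F, _, _, _, m, a, b, hm, hab, ⟨e⟩⟩ := h
    exact (hbr ((hasBranch_pomega_minus (m := m - 1) (by omega) hab).congr e.symm)).elim
  · obtain ⟨F, _, _, _, ⟨h3, ⟨e⟩⟩ | ⟨⟨e⟩⟩ | ⟨⟨e⟩⟩ | ⟨⟨e⟩⟩ | ⟨⟨e⟩⟩⟩ := h
    · obtain ⟨rfl, -⟩ := pminimal_two hX ((hasTwo_G2 (K := F) (p := p)).congr e.symm)
      exact (not_pminimal_of_rigid hX
        ((hasRigid_G2 (K := F) (ringChar.eq F 2) h3).congr e.symm)).elim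
    · exact (hbr ((hasBranch_F4 (K := F)).congr e.symm)).elim
    · exact (hbr ((hasBranch_E6 (K := F)).congr e.symm)).elim
    · exact (hbr ((hasBranch_E7 (K := F)).congr e.symm)).elim
    · exact (hbr ((hasBranch_E8 (K := F)).congr e.symm)).elim
  · obtain ⟨F, _, _, _, q, hq, ⟨hK, ⟨e⟩⟩ | ⟨hK, ⟨e⟩⟩⟩ := h
    · exact (hbr ((hasBranch_twE6 hq hK).congr e.symm)).elim
    · exact (not_pminimal_of_rigid hX ((hasRigid_twD4 hq hK).congr e.symm)).elim
  · exact Or.inl (Or.inr (Or.inr (Or.inl h)))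
  · obtain ⟨rfl, F, _, _, m, -, hF, ⟨e⟩⟩ := h
    haveI : CharP F 2 := charP_of_card_eq_prime_pow hF
    exact (not_pminimal_of_rigid hX ((hasRigid_twF4 hF).congr e.symm)).elim
  · exact Or.inl (Or.inr (Or.inr (Or.inr ⟨h.1, Or.inl h.2⟩)))

/-- Let X be a finite p-minimal group whose generalized Fitting subgroup K = F*(X) is a simple group of Lie type in characteristic p, and let U be a Sylow p-subgroup of K. Then N_X(U) is a maximal subgroup of X, and either K has Lie rank one (K ≅ PSL₂(pᵉ), PSU₃(pᵉ), a Suzuki group for p = 2, or a Ree group or PSL₂(8) for p = 3), or p = 2, K ≠ X and K is isomorphic to PSL₃(2ᵉ) or to PSp₄(2ᵉ) (e ≥ 2) or to the alternating group of degree 6. -/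
theorem result {X : Type*} [Group X] [Finite X] {p : ℕ} [Fact p.Prime] (hX : Cfsg.IsPMinimal p X) (hK : Cfsg.IsChevSimple p ↥(Cfsg.generalizedFittingSubgroup X)) (U : Sylow p ↥(Cfsg.generalizedFittingSubgroup X)) : IsCoatom (Subgroup.normalizer (((U : Subgroup ↥(Cfsg.generalizedFittingSubgroup X)).map (Cfsg.generalizedFittingSubgroup X).subtype : Subgroup X) : Set X)) ∧ (Cfsg.IsLieRankOneChar p ↥(Cfsg.generalizedFittingSubgroup X) ∨ (p = 2 ∧ Cfsg.generalizedFittingSubgroup X ≠ ⊤ ∧ ((∃ (F : Type) (_ : Field F) (_ : Fintype F) (_ : CharP F 2), Nonempty (↥(Cfsg.generalizedFittingSubgroup X) ≃* Matrix.ProjectiveSpecialLinearGroup (Fin 3) F)) ∨ (∃ (F : Type) (_ : Field F) (_ : Fintype F) (_ : CharP F 2), 4 ≤ Fintype.card F ∧ Nonempty (↥(Cfsg.generalizedFittingSubgroup X) ≃* Cfsg.PSp 2 F)) ∨ Nonempty (↥(Cfsg.generalizedFittingSubgroup X) ≃* ↥(alternatingGroup (Fin 6)))))) := by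
  classical
  haveI hKn : (Cfsg.generalizedFittingSubgroup X).Normal :=
    CfsgLib.Cores.generalizedFittingSubgroup_normal
  rcases hK with h | ⟨rfl, ⟨⟨e⟩⟩ | ⟨F, _, _, hF, ⟨e⟩⟩ | hT⟩ | ⟨rfl, F, iF, iT, hF, ⟨e⟩⟩
  · haveI := CfsgLib.SplitBN.isSimple_lieType h
    exact ⟨CfsgLib.SplitBN.pminimal_coatom hX (CfsgLib.SplitBN.hasSplit_lieType h) U, of_lieType hX h⟩
  · obtain ⟨hco, hne⟩ := CfsgLib.SplitBN.pminimal_altSix hX e U
    exact ⟨hco, Or.inr ⟨rfl, hne, Or.inr (Or.inr ⟨e⟩)⟩⟩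
  · haveI := CfsgLib.Classical.Unitary.isSimpleGroup_PSU (F := F) (n := 3) (q := 3) (by rw [hF]; norm_num)
      le_rfl (by norm_num)
    haveI : Nontrivial ↥(Cfsg.generalizedFittingSubgroup X) := e.toEquiv.nontrivial
    haveI : IsSimpleGroup ↥(Cfsg.generalizedFittingSubgroup X) :=
      IsSimpleGroup.isSimpleGroup_of_surjective e.symm.toMonoidHom e.symm.surjective
    exact (CfsgLib.SplitBN.not_pminimal_uThree hX hF e).elim
  · obtain ⟨e⟩ := id hT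
    haveI := CfsgLib.Chev.TwF4.Tits.simple_commutator
    haveI : Nontrivial ↥(Cfsg.generalizedFittingSubgroup X) := e.toEquiv.nontrivial
    haveI : IsSimpleGroup ↥(Cfsg.generalizedFittingSubgroup X) :=
      IsSimpleGroup.isSimpleGroup_of_surjective e.symm.toMonoidHom e.symm.surjective
    exact (CfsgLib.SplitBN.not_pminimal_tits hX hT).elim
  · exact ⟨CfsgLib.SplitBN.pminimal_lTwoEight hX hF e U,
      Or.inl (Or.inr (Or.inr (Or.inr ⟨rfl, Or.inr ⟨F, iF, iT, hF, ⟨e⟩⟩⟩)))⟩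

end Cfsg.Agent.S2937
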