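import Cfsg.Statements.S2939
import Cfsg.Agent.Lib.LocalEven.SylowControl

set_option autoImplicit false
open Cfsg

namespace Cfsg.Agent.S2939

/-- Let p be a prime dividing the order of the finite group G and 𝓕 a family of subgroups of G closed under conjugation, with conjugates taken as X^g = g⁻¹Xg. Then 𝓕 controls Sylow p-intersections in G (any two distinct Sylow p-subgroups S and T with S ∩ T ≠ 1 are joined by a chain S = S₀, S₁, …, Sₙ = T of Sylow p-subgroups where, for each i, some member Xᵢ of 𝓕 meets both S_{i-1} and Sᵢ in Sylow p-subgroups of Xᵢ, satisfies S ∩ T ≤ Sᵢ ∩ Xᵢ, and contains an element xᵢ with Sᵢ^{xᵢ} = S_{i-1}) if and only if 𝓕 strongly controls p-fusion in G (whenever A is a subset of a Sylow p-subgroup S, A contains an element other than 1, and A^g ⊆ S, the element g factorises as g = y₁⋯yₙy with y ∈ N_G(S) and each yᵢ in a member Yᵢ of 𝓕 that meets S in a Sylow p-subgroup of Yᵢ, with A^{y₁⋯yᵢ} ⊆ S ∩ Yᵢ for each i). -/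
theorem result {G : Type*} [Group G] [Finite G] {p : ℕ} [Fact p.Prime] (hdiv : p ∣ Nat.card G) (𝓕 : Set (Subgroup G)) (h𝓕 : Cfsg.IsNormalSet 𝓕) : Cfsg.ControlsSylowIntersections p 𝓕 ↔ Cfsg.FamilyStronglyControlsFusion p 𝓕 := by
  classical
  constructor
  · intro hc S A g hA ⟨a, haA, ha1⟩ hgA
    have hD : ∀ b ∈ A, b ∈ (S : Subgroup G) ⊓ ((g • S : Sylow p G) : Subgroup G) := fun b hb =>
      ⟨hA hb, CfsgLib.LocalEven.mem_map_conj.2 (hgA ⟨b, hb, rfl⟩)⟩
    by_cases hgS : S = g • S
    · exact ⟨0, fun i => i.elim0, fun i => i.elim0, g,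
        Sylow.smul_eq_iff_mem_normalizer.1 hgS.symm, fun i => i.elim0, by simp, fun i => i.elim0⟩
    have hch := (CfsgLib.LocalEven.SylowControl.controls_iff.1 hc) S (g • S) hgS
      (fun e => ha1 (by rw [← Subgroup.mem_bot, ← e]; exact hD a haA))
    suffices hgen : ∀ W, CfsgLib.LocalEven.SylowControl.Chain p 𝓕
        ((S : Subgroup G) ⊓ ((g • S : Sylow p G) : Subgroup G)) S W →
        ∃ (n : ℕ) (Y : Fin n → Subgroup G) (y : Fin n → G),
          (∀ i : Fin n, Y i ∈ Cfsg.sylowMembers p 𝓕 (S : Subgroup G) ∧ y i ∈ Y i) ∧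
          W = (List.ofFn y).prod • S ∧
          ∀ i : Fin n, Cfsg.conjRight (((List.ofFn y).take (i.val + 1)).prod) A ⊆
            (S : Set G) ∩ (Y i : Set G) by
      obtain ⟨n, Y, y, hY, hW, hA'⟩ := hgen _ hch
      refine ⟨n, Y, y, (List.ofFn y).prod⁻¹ * g, ?_, hY, (mul_inv_cancel_left _ g).symm, hA'⟩
      exact Sylow.smul_eq_iff_mem_normalizer.1 (by rw [mul_smul, hW, inv_smul_smul])
    intro W hW
    induction hW with
    | refl =>
      exact ⟨0, fun i => i.elim0, fun i => i.elim0, fun i => i.elim0, by simp, fun i => i.elim0⟩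
    | @tail W W' _ hs ih =>
      obtain ⟨n, Y, y, hY, hWeq, hA'⟩ := ih
      obtain ⟨X, x, hXW, -, hx, hxW, hDX⟩ := hs
      have hW' := CfsgLib.LocalEven.SylowControl.eq_smul_of_subgroupConjRight hxW
      set k := (List.ofFn y).prod with hk
      have hofn : List.ofFn (Fin.snoc y (k⁻¹ * x * k) : Fin (n + 1) → G) =
          List.ofFn y ++ [k⁻¹ * x * k] := by
        rw [List.ofFn_succ', List.concat_eq_append]
        simp
      refine ⟨n + 1, Fin.snoc Y (X.map (MulAut.conj k⁻¹).toMonoidHom), Fin.snoc y (k⁻¹ * x * k),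
        ?_, ?_, ?_⟩
      · refine Fin.lastCases ?_ (fun i => ?_)
        · rw [Fin.snoc_last, Fin.snoc_last]
          refine ⟨?_, by simpa using CfsgLib.LocalEven.conj_mem_map_conj (g := k⁻¹) hx⟩
          have := CfsgLib.LocalEven.SylowControl.mem_sylowMembers_smul k⁻¹ h𝓕 hXW
          rwa [hWeq, inv_smul_smul] at this
        · rw [Fin.snoc_castSucc, Fin.snoc_castSucc]
          exact hY i
      · rw [hofn, List.prod_append, ← hk, List.prod_singleton, hW', hWeq, ← mul_smul,
          show k * (k⁻¹ * x * k) = x * k by group]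
      · refine Fin.lastCases ?_ (fun i => ?_)
        · rw [Fin.snoc_last, hofn, List.take_of_length_le (by simp), List.prod_append, ← hk,
            List.prod_singleton, show k * (k⁻¹ * x * k) = x * k by group]
          rintro _ ⟨b, hb, rfl⟩
          obtain ⟨h1, h2⟩ := hDX (hD b hb)
          rw [hW', hWeq, ← mul_smul] at h1
          refine ⟨CfsgLib.LocalEven.mem_map_conj.1 h1, CfsgLib.LocalEven.mem_map_conj.2 ?_⟩
          have := X.mul_mem (X.mul_mem (X.inv_mem hx) h2) hx
          simpa [mul_assoc] using this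
        · rw [Fin.snoc_castSucc, hofn, Fin.val_castSucc, List.take_append_of_le_length (by simp)]
          exact hA' i
  · intro hc
    rw [CfsgLib.LocalEven.SylowControl.controls_iff]
    intro S T hST hD
    obtain ⟨g, rfl⟩ := MulAction.exists_smul_eq G S T
    set D := (S : Subgroup G) ⊓ ((g • S : Sylow p G) : Subgroup G) with hDdef
    obtain ⟨a, ha, ha1⟩ := (Subgroup.bot_or_exists_ne_one _).resolve_left hD
    obtain ⟨n, Y, y, y₀, hy₀, hY, hg, hA⟩ := hc S (D : Set G) g (fun b hb => hb.1) ⟨a, ha, ha1⟩ (by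
      rintro _ ⟨b, hb, rfl⟩
      exact CfsgLib.LocalEven.mem_map_conj.1 hb.2)
    have hgS : g • S = (List.ofFn y).prod • S := by
      rw [hg, mul_smul, Sylow.smul_eq_iff_mem_normalizer.2 hy₀]
    have hgen : ∀ i ≤ n, CfsgLib.LocalEven.SylowControl.Chain p 𝓕 D S
        (((List.ofFn y).take i).prod • S) := by
      intro i
      induction i with
      | zero => intro _; rw [List.take_zero, List.prod_nil, one_smul]; exact Relation.ReflTransGen.refl
      | succ i ih =>
        intro hi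
        refine (ih (by omega)).tail ?_
        have hi' : i < n := hi
        set k := ((List.ofFn y).take i).prod with hk
        have hk' : ((List.ofFn y).take (i + 1)).prod = k * y ⟨i, hi'⟩ := by
          rw [List.prod_take_succ _ _ (by simpa using hi'), List.getElem_ofFn]
        obtain ⟨hYm, hyY⟩ := hY ⟨i, hi'⟩
        have hA0 := hA ⟨i, hi'⟩
        simp only at hA0
        have hXY : ((Y ⟨i, hi'⟩).map (MulAut.conj k).toMonoidHom).map
            (MulAut.conj (k * y ⟨i, hi'⟩ * k⁻¹)).toMonoidHom =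
              (Y ⟨i, hi'⟩).map (MulAut.conj k).toMonoidHom := by
          refine Subgroup.eq_of_le_of_card_ge ?_ (CfsgLib.LocalEven.card_map_conj _ _).ge
          rintro _ ⟨_, ⟨u, hu, rfl⟩, rfl⟩
          refine ⟨y ⟨i, hi'⟩ * u * (y ⟨i, hi'⟩)⁻¹, mul_mem (mul_mem hyY hu) (inv_mem hyY), ?_⟩
          simp only [MulEquiv.coe_toMonoidHom, MulAut.conj_apply]
          group
        refine ⟨(Y ⟨i, hi'⟩).map (MulAut.conj k).toMonoidHom, k * y ⟨i, hi'⟩ * k⁻¹,
          CfsgLib.LocalEven.SylowControl.mem_sylowMembers_smul k h𝓕 hYm, ?_,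
          CfsgLib.LocalEven.conj_mem_map_conj hyY, ?_, ?_⟩
        · have := CfsgLib.LocalEven.SylowControl.mem_sylowMembers_smul (k * y ⟨i, hi'⟩ * k⁻¹) h𝓕
            (CfsgLib.LocalEven.SylowControl.mem_sylowMembers_smul k h𝓕 hYm)
          rw [hXY, ← mul_smul, show k * y ⟨i, hi'⟩ * k⁻¹ * k = k * y ⟨i, hi'⟩ by group] at this
          rwa [hk']
        · rw [hk', show k * y ⟨i, hi'⟩ = k * y ⟨i, hi'⟩ * k⁻¹ * k by group, mul_smul,
            show k * y ⟨i, hi'⟩ * k⁻¹ * k * k⁻¹ = k * y ⟨i, hi'⟩ * k⁻¹ by group,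
            CfsgLib.LocalEven.SylowControl.subgroupConjRight_smul]
        · intro b hb
          have hb2 := hA0 ⟨b, hb, rfl⟩
          rw [hk'] at hb2 ⊢
          refine ⟨CfsgLib.LocalEven.mem_map_conj.2 hb2.1, CfsgLib.LocalEven.mem_map_conj.2 ?_⟩
          have := (Y ⟨i, hi'⟩).mul_mem ((Y ⟨i, hi'⟩).mul_mem hyY hb2.2) ((Y ⟨i, hi'⟩).inv_mem hyY)
          simpa [mul_assoc] using this
    have h2 := hgen n le_rfl
    rw [List.take_of_length_le (by simp), ← hgS] at h2
    exact h2

end Cfsg.Agent.S2939
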