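import Cfsg.Statements.S2940
import Cfsg.Agent.Lib.LocalEven.Basic

set_option autoImplicit false
open Cfsg

namespace Cfsg.Agent.S2940

/-- Let S be a Sylow p-subgroup of the finite group G and G₁, G₂ subgroups containing S with G = G₁G₂. Then for every g ∈ G there is a Sylow p-subgroup U of G with S ∩ S^g ≤ U ≤ G₁ ∩ G₂^g (conjugates taken as X^g = g⁻¹Xg). -/
theorem result {G : Type*} [Group G] [Finite G] {p : ℕ} [Fact p.Prime] (S : Sylow p G) (G₁ G₂ : Subgroup G) (h1 : (S : Subgroup G) ≤ G₁) (h2 : (S : Subgroup G) ≤ G₂) (hfact : ∀ g : G, ∃ g₁ ∈ G₁, ∃ g₂ ∈ G₂, g = g₁ * g₂) (g : G) : ∃ U : Sylow p G, (S : Subgroup G) ⊓ Cfsg.subgroupConjRight g (S : Subgroup G) ≤ (U : Subgroup G) ∧ (U : Subgroup G) ≤ G₁ ⊓ Cfsg.subgroupConjRight g G₂ := by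
  obtain ⟨a, ha, b, hb, hab⟩ := hfact g⁻¹
  have hconj : Cfsg.subgroupConjRight g G₂ = G₂.map (MulAut.conj a).toMonoidHom := by
    unfold Cfsg.subgroupConjRight
    rw [hab]
    ext y
    rw [CfsgLib.LocalEven.mem_map_conj, CfsgLib.LocalEven.mem_map_conj]
    constructor
    · intro hy
      have := G₂.mul_mem (G₂.mul_mem hb hy) (G₂.inv_mem hb)
      simpa [mul_assoc] using this
    · intro hy
      have := G₂.mul_mem (G₂.mul_mem (G₂.inv_mem hb) hy) hb
      simpa [mul_assoc] using this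
  set X := G₁ ⊓ Cfsg.subgroupConjRight g G₂ with hX
  have hSa : (S : Subgroup G).map (MulAut.conj a).toMonoidHom ≤ X := by
    refine le_inf ?_ (hconj ▸ Subgroup.map_mono h2)
    rintro _ ⟨y, hy, rfl⟩
    exact G₁.mul_mem (G₁.mul_mem ha (h1 hy)) (G₁.inv_mem ha)
  set R := (S : Subgroup G) ⊓ Cfsg.subgroupConjRight g (S : Subgroup G) with hR
  have hRX : R ≤ X := le_inf (inf_le_left.trans h1) (inf_le_right.trans (Subgroup.map_mono h2))
  have hRp : IsPGroup p ↥(R.subgroupOf X) :=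
    (S.2.to_le inf_le_left).of_equiv (Subgroup.subgroupOfEquivOfLe hRX).symm
  obtain ⟨U, hU⟩ := hRp.exists_le_sylow
  obtain ⟨V, hV⟩ := (U.2.map X.subtype).exists_le_sylow
  have hp' : IsPGroup p ↥(((S : Subgroup G).map (MulAut.conj a).toMonoidHom).subgroupOf X) :=
    (S.2.map _).of_equiv (Subgroup.subgroupOfEquivOfLe hSa).symm
  obtain ⟨U', hU'⟩ := hp'.exists_le_sylow
  have hcard : Nat.card ↥(V : Subgroup G) ≤ Nat.card ↥((U : Subgroup ↥X).map X.subtype) := by
    refine le_of_eq_of_le (V.card_eq_multiplicity.trans S.card_eq_multiplicity.symm) ?_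
    rw [← CfsgLib.LocalEven.card_map_conj (S : Subgroup G) a,
      Subgroup.card_map_of_injective X.subtype_injective,
      ← Nat.card_congr (Subgroup.subgroupOfEquivOfLe hSa).toEquiv]
    exact (Subgroup.card_le_of_le hU').trans (U'.card_eq_multiplicity.trans U.card_eq_multiplicity.symm).le
  have hVeq : (U : Subgroup ↥X).map X.subtype = (V : Subgroup G) :=
    Subgroup.eq_of_le_of_card_ge hV hcard
  refine ⟨V, ?_, hVeq ▸ Subgroup.map_subtype_le _⟩
  rw [← hVeq]
  intro y hy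
  exact ⟨⟨y, hRX hy⟩, hU hy, rfl⟩

end Cfsg.Agent.S2940
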