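import Cfsg.Statements.S2941
import Cfsg.Agent.Lib.LocalEven.Basic

set_option autoImplicit false
open Cfsg

namespace Cfsg.Agent.S2941

/-- Let G be a finite group of characteristic 2 type in which every 2-local subgroup is solvable and the centralizer of Ω₁(Z(S)) lies in N_G(S) for every Sylow 2-subgroup S, and let T be a nontrivial 2-subgroup and K a J(T)-component (J the Thompson subgroup generated by the elementary abelian 2-subgroups of largest order). If a subgroup Q is normalized by ⟨K, J(T)⟩ and normalizes J(T), then Q normalizes K. -/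
theorem result {G : Type*} [Group G] [Finite G] (hL : Cfsg.IsCharacteristicTwoType G) (hN : ∀ N : Subgroup G, Cfsg.IsTwoLocal N → Group.IsSolvable ↥N)
    (hZ : ∀ S : Sylow 2 G, Subgroup.centralizer (Cfsg.omegaCenterOf (S : Subgroup G) : Set G) ≤ Subgroup.normalizer ((S : Subgroup G) : Set G)) (T : Subgroup G) (hT : IsPGroup 2 ↥T) (hT1 : T ≠ ⊥) (K : Subgroup G) (hK : Cfsg.IsJComponent T K)
    (Q : Subgroup G) (hQ1 : K ⊔ Cfsg.thompsonSubgroupOf 2 T ≤ Subgroup.normalizer (Q : Set G)) (hQ2 : Q ≤ Subgroup.normalizer (Cfsg.thompsonSubgroupOf 2 T : Set G)) :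
    Q ≤ Subgroup.normalizer (K : Set G) := by
  set J := Cfsg.thompsonSubgroupOf 2 T with hJdef
  have hJ2 : IsPGroup 2 ↥J := hT.to_le (Subgroup.map_subtype_le _)
  have hgenK := hK.1
  have hKJ : ⁅K, J⁆ = K := hK.2.1
  have hJK : J ≤ Subgroup.normalizer (K : Set G) :=
    Subgroup.le_normalizer_iff_commutator_le_left.2 hKJ.le
  rw [sup_le_iff] at hQ1
  set M := K ⊔ J with hM
  have hMN : M ≤ Subgroup.normalizer (K : Set G) := sup_le Subgroup.le_normalizer hJK
  have hMC : M ≤ Subgroup.closure {x : G | ∃ k ∈ K, ∃ j ∈ J, x = k * j * k⁻¹} := by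
    have hJle : J ≤ Subgroup.closure {x : G | ∃ k ∈ K, ∃ j ∈ J, x = k * j * k⁻¹} :=
      fun j hj => Subgroup.subset_closure ⟨1, K.one_mem, j, hj, by simp⟩
    refine sup_le ?_ hJle
    conv_lhs => rw [← hKJ]
    rw [Subgroup.commutator_le]
    intro k hk j hj
    have h1 : k * j * k⁻¹ ∈ Subgroup.closure {x : G | ∃ k ∈ K, ∃ j ∈ J, x = k * j * k⁻¹} :=
      Subgroup.subset_closure ⟨k, hk, j, hj, rfl⟩
    exact mul_mem h1 (inv_mem (hJle hj))
  have hQM : ∀ q ∈ Q, ∀ m ∈ M, q * m * q⁻¹ ∈ M := by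
    intro q hq m hm
    have : Subgroup.closure {x : G | ∃ k ∈ K, ∃ j ∈ J, x = k * j * k⁻¹} ≤
        M.comap (MulAut.conj q).toMonoidHom := by
      rw [Subgroup.closure_le]
      rintro _ ⟨k, hk, j, hj, rfl⟩
      have hq' : k⁻¹ * q * k⁻¹⁻¹ ∈ Q :=
        CfsgLib.LocalEven.conj_mem_of_mem_normalizer (hQ1.1 (K.inv_mem hk)) hq
      have hj' : (k⁻¹ * q * k⁻¹⁻¹) * j * (k⁻¹ * q * k⁻¹⁻¹)⁻¹ ∈ J :=
        CfsgLib.LocalEven.conj_mem_of_mem_normalizer (hQ2 hq') hj
      have hkM : k ∈ M := Subgroup.mem_sup_left hk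
      have := M.mul_mem (M.mul_mem hkM (Subgroup.mem_sup_right hj')) (M.inv_mem hkM)
      simpa [mul_assoc] using this
    exact this (hMC hm)
  have hodd : ∀ x ∈ M, Odd (orderOf x) → x ∈ K := by
    intro x hx hxo
    set N := Subgroup.normalizer (K : Set G) with hNdef
    set f := QuotientGroup.mk' (K.subgroupOf N) with hf
    have hsup : M.subgroupOf N = K.subgroupOf N ⊔ J.subgroupOf N :=
      Subgroup.subgroupOf_sup Subgroup.le_normalizer hJK
    have hxS : (⟨x, hMN hx⟩ : N) ∈ K.subgroupOf N ⊔ J.subgroupOf N := hsup ▸ hx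
    rw [Subgroup.mem_sup_of_normal_left] at hxS
    obtain ⟨k, hk, j, hj, hkj⟩ := hxS
    have hfx : f ⟨x, hMN hx⟩ = f j := by
      rw [← hkj, map_mul, show f k = 1 from (QuotientGroup.eq_one_iff k).2 hk, one_mul]
    obtain ⟨e, he⟩ := hJ2 ⟨(j : G), hj⟩
    have h2 : orderOf (f ⟨x, hMN hx⟩) ∣ 2 ^ e := by
      rw [hfx]
      apply orderOf_dvd_of_pow_eq_one
      rw [← map_pow, show j ^ 2 ^ e = 1 from Subtype.ext (congrArg Subtype.val he :), map_one]
    have h3 : orderOf (f ⟨x, hMN hx⟩) ∣ orderOf x :=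
      (orderOf_map_dvd f _).trans (by rw [Subgroup.orderOf_mk])
    have h4 : orderOf (f ⟨x, hMN hx⟩) = 1 :=
      Nat.eq_one_of_dvd_coprimes (((Nat.coprime_two_left).2 hxo).pow_left e) h2 h3
    rw [orderOf_eq_one_iff] at h4
    exact (QuotientGroup.eq_one_iff (⟨x, hMN hx⟩ : N)).1 h4
  rw [Subgroup.le_normalizer_iff]
  intro q hq
  have : Subgroup.closure {g : G | g ∈ K ∧ Odd (orderOf g)} ≤ K.comap (MulAut.conj q).toMonoidHom := by
    rw [Subgroup.closure_le]
    rintro k ⟨hk, hko⟩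
    refine hodd _ (hQM q hq k (Subgroup.mem_sup_left hk)) ?_
    rwa [orderOf_injective (MulAut.conj q).toMonoidHom (MulAut.conj q).injective]
  intro k hk
  exact this (hgenK.symm ▸ hk)

end Cfsg.Agent.S2941
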