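import Cfsg.Statements.S2955
import Cfsg.Agent.Lib.LocalEven.SylowControl
import Cfsg.Agent.Lib.LocalEven.SylowChains

set_option autoImplicit false
open Cfsg

namespace Cfsg.Agent.S2955

/-- Let p be a prime dividing the order of the finite group G and 𝓕 a conjugation-closed family of subgroups that controls Sylow p-intersections in G. Suppose the Sylow p-subgroups of G are chain-connected: any two of them are joined by a chain of Sylow p-subgroups, consecutive ones distinct with nontrivial intersection, all containing the intersection of the two ends (equivalently, the graph on the Sylow p-subgroups whose edges are the distinct pairs meeting nontrivially is connected). Then for every Sylow p-subgroup S, G is generated by N_G(S) together with the members of 𝓕 that meet S in a Sylow p-subgroup of themselves. -/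
theorem result {G : Type*} [Group G] [Finite G] (p : ℕ) [Fact p.Prime] (hdiv : p ∣ Nat.card G)
    (𝓕 : Set (Subgroup G)) (h𝓕 : Cfsg.IsNormalSet 𝓕) (hc : Cfsg.ControlsSylowIntersections p 𝓕)
    (hconn : Cfsg.IsSylowChainConnected p G) (S : Sylow p G) :
    (⨆ X ∈ Cfsg.sylowMembers p 𝓕 (S : Subgroup G), X) ⊔ Subgroup.normalizer ((S : Subgroup G) : Set G) = ⊤ := by
  classical
  set K := (⨆ X ∈ Cfsg.sylowMembers p 𝓕 (S : Subgroup G), X) ⊔
    Subgroup.normalizer ((S : Subgroup G) : Set G) with hK
  have hstep : ∀ (D : Subgroup G) (U V : Sylow p G), CfsgLib.LocalEven.SylowControl.Step p 𝓕 D U V →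
      (∃ k ∈ K, U = k • S) → ∃ k ∈ K, V = k • S := by
    rintro D U V ⟨X, x, hXU, -, hx, hxU, -⟩ ⟨k, hk, rfl⟩
    refine ⟨x * k, ?_, ?_⟩
    · have h1 := CfsgLib.LocalEven.SylowControl.mem_sylowMembers_smul k⁻¹ h𝓕 hXU
      rw [inv_smul_smul] at h1
      have h2 : k⁻¹ * x * k ∈ K := by
        refine (le_sup_left.trans_eq hK.symm : _ ≤ K) ?_
        have := CfsgLib.LocalEven.conj_mem_map_conj (g := k⁻¹) hx
        rw [inv_inv] at this
        exact (le_iSup₂ (f := fun X (_ : X ∈ Cfsg.sylowMembers p 𝓕 (S : Subgroup G)) => X) _ h1) this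
      have := K.mul_mem hk h2
      simpa [mul_assoc] using this
    · rw [mul_smul]
      exact CfsgLib.LocalEven.SylowControl.eq_smul_of_subgroupConjRight hxU
  have hchain : ∀ (D : Subgroup G) (U V : Sylow p G), CfsgLib.LocalEven.SylowControl.Chain p 𝓕 D U V →
      (∃ k ∈ K, U = k • S) → ∃ k ∈ K, V = k • S := fun D U V h hU => by
    induction h with
    | refl => exact hU
    | tail _ hs ih => exact hstep D _ _ hs ih
  have hall : ∀ T : Sylow p G, ∃ k ∈ K, T = k • S := by
    intro T
    have := (CfsgLib.LocalEven.isSylowChainConnected_iff.1 hconn) S T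
    induction this with
    | refl => exact ⟨1, K.one_mem, (one_smul G S).symm⟩
    | @tail U V _ hl ih =>
      exact hchain _ U V (CfsgLib.LocalEven.SylowControl.controls_iff.1 hc U V hl.1 hl.2) ih
  refine eq_top_iff.2 fun g _ => ?_
  obtain ⟨k, hk, hgk⟩ := hall (g • S)
  have hn : k⁻¹ * g ∈ Subgroup.normalizer ((S : Subgroup G) : Set G) :=
    Sylow.smul_eq_iff_mem_normalizer.1 (by rw [mul_smul, hgk, inv_smul_smul])
  have := K.mul_mem hk ((le_sup_right.trans_eq hK.symm : _ ≤ K) hn)
  rwa [mul_inv_cancel_left] at this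

end Cfsg.Agent.S2955
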