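import Cfsg.Statements.S2956
import Cfsg.Agent.Lib.LocalEven.SylowFunctor
import Mathlib.Data.Set.Finite.Lemmas

set_option autoImplicit false
open Cfsg

namespace Cfsg.Agent.S2956

/-- Let p be a prime dividing the order of the finite group G, and f an assignment to every p-subgroup P of a set f(P) of subgroups of P, each normalized by N_G(P), compatible with conjugation, such that for P ≠ 1 the members of f(P) are nontrivial. Let 𝓕 be the family of the normalizers N_G(F) of the members F of f(S) over the Sylow p-subgroups S of G, and 𝓕' the family of the maximal p-local subgroups M of G that are singular for f (the corresponding family of normalizers inside M does not control Sylow p-intersections in M). Then 𝓕 ∪ 𝓕' controls Sylow p-intersections in G. -/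
theorem result {G : Type*} [Group G] [Finite G] (p : ℕ) [Fact p.Prime] (hdiv : p ∣ Nat.card G)
    (f : Subgroup G → Set (Subgroup G)) (hf : Cfsg.IsNormalizerFunctor p f)
    (hf1 : ∀ P : Subgroup G, IsPGroup p ↥P → P ≠ ⊥ → ∀ F ∈ f P, F ≠ ⊥)
    (𝓕 𝓕' : Set (Subgroup G)) (h𝓕 : 𝓕 = Cfsg.functorFamily p f ⊤)
    (h𝓕' : 𝓕' = {M | Cfsg.IsMaximalPLocal p M ∧ ¬ Cfsg.IsFunctorRegular p f M}) :
    Cfsg.ControlsSylowIntersections p (𝓕 ∪ 𝓕') := by
  classical
  have hp1 : 1 < p := (Fact.out : p.Prime).one_lt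
  rw [CfsgLib.LocalEven.SylowControl.controls_iff]
  suffices main : ∀ (m : ℕ) (S T : Sylow p G), Nat.card G - Nat.card ↥((S : Subgroup G) ⊓ (T : Subgroup G)) = m →
      S ≠ T → (S : Subgroup G) ⊓ (T : Subgroup G) ≠ ⊥ →
      CfsgLib.LocalEven.SylowControl.Chain p (𝓕 ∪ 𝓕') ((S : Subgroup G) ⊓ (T : Subgroup G)) S T from
    fun S T => main _ S T rfl
  intro m
  induction m using Nat.strong_induction_on with
  | _ m IH =>
  intro S T hm hST hD
  set D := (S : Subgroup G) ⊓ (T : Subgroup G) with hDdef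
  -- chains for larger common subgroups
  have hO : ∀ (U V : Sylow p G) (Q : Subgroup G), D < Q → Q ≤ (U : Subgroup G) → Q ≤ (V : Subgroup G) →
      CfsgLib.LocalEven.SylowControl.Chain p (𝓕 ∪ 𝓕') D U V := by
    intro U V Q hDQ hQU hQV
    by_cases hUV : U = V
    · subst hUV; exact Relation.ReflTransGen.refl
    have hlt : Nat.card ↥D < Nat.card ↥((U : Subgroup G) ⊓ (V : Subgroup G)) := by
      refine lt_of_lt_of_le ?_ (Subgroup.card_le_of_le (le_inf hQU hQV))
      exact lt_of_le_of_ne (Subgroup.card_le_of_le hDQ.le)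
        fun e => hDQ.ne (Subgroup.eq_of_le_of_card_ge hDQ.le e.ge)
    refine (IH _ ?_ U V rfl hUV (fun e => hD (le_bot_iff.1 (e ▸ hDQ.le.trans (le_inf hQU hQV))))).mono
      (hDQ.le.trans (le_inf hQU hQV))
    have := Subgroup.card_le_card_group ((U : Subgroup G) ⊓ (V : Subgroup G))
    omega
  -- maximal `p`-locals above a given one
  have hmax : ∀ Q : Subgroup G, IsPGroup p ↥Q → Q ≠ ⊥ →
      ∃ M, Cfsg.IsMaximalPLocal p M ∧ Subgroup.normalizer (Q : Set G) ≤ M := by
    intro Q hQ hQ1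
    obtain ⟨L, ⟨hL, hTL⟩, hmaxL⟩ := Set.exists_max_image
      {L : Subgroup G | Cfsg.IsPLocal p L ∧ Subgroup.normalizer (Q : Set G) ≤ L}
      (fun L => Nat.card ↥L) (Set.toFinite _) ⟨_, ⟨Q, hQ, hQ1, rfl⟩, le_rfl⟩
    exact ⟨L, ⟨hL, fun N hN hLN =>
      (Subgroup.eq_of_le_of_card_ge hLN (hmaxL N ⟨hN, hTL.trans hLN⟩)).symm⟩, hTL⟩
  -- the key step
  have aux : ∀ (j : ℕ) (M : Subgroup G), Cfsg.IsMaximalPLocal p M → ∀ (P Q : Sylow p ↥M) (U V : Sylow p G),
      Nat.card G - Nat.card ↥((P : Subgroup ↥M).map M.subtype) = j →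
      D < (P : Subgroup ↥M).map M.subtype → D ≤ (Q : Subgroup ↥M).map M.subtype →
      (P : Subgroup ↥M).map M.subtype ≤ (U : Subgroup G) →
      (Q : Subgroup ↥M).map M.subtype ≤ (V : Subgroup G) →
      CfsgLib.LocalEven.SylowControl.Chain p (𝓕 ∪ 𝓕') D U V := by
    intro j
    induction j using Nat.strong_induction_on with
    | _ j IHj =>
    intro M hM P Q U V hj hDP hDQ hPU hQV
    have hbig : ∀ R : Sylow p ↥M, D ≤ (R : Subgroup ↥M).map M.subtype →
        D < (R : Subgroup ↥M).map M.subtype := fun R hR => lt_of_le_of_ne hR fun e => hDP.ne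
      (Subgroup.eq_of_le_of_card_ge hDP.le
        (by rw [CfsgLib.LocalEven.SylowControl.card_map_sylow P R, ← e]))
    have hDM : D ≤ M := hDP.le.trans (Subgroup.map_subtype_le _)
    by_cases hreg : Cfsg.IsFunctorRegular p f M
    · -- regular: lift the chain inside `M`
      have hch := CfsgLib.LocalEven.SylowControl.chain_of_controls hreg (D := D.subgroupOf M)
        (fun e => hD (by
          rw [Subgroup.subgroupOf_eq_bot] at e
          exact le_bot_iff.1 fun z hz => e.le_bot ⟨hz, hDM hz⟩))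
        (S := P) (T := Q)
        (fun u hu => by obtain ⟨v, hv, hv'⟩ := hDP.le hu; rwa [← Subtype.ext hv'])
        (fun u hu => by obtain ⟨v, hv, hv'⟩ := hDQ hu; rwa [← Subtype.ext hv'])
      suffices hgen : ∀ R : Sylow p ↥M, CfsgLib.LocalEven.SylowControl.Chain p
          ((fun X : Subgroup G => X.subgroupOf M) '' Cfsg.functorFamily p f M) (D.subgroupOf M) P R →
          D ≤ (R : Subgroup ↥M).map M.subtype ∧ ∀ W : Sylow p G,
            (R : Subgroup ↥M).map M.subtype ≤ (W : Subgroup G) →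
            CfsgLib.LocalEven.SylowControl.Chain p (𝓕 ∪ 𝓕') D U W from (hgen Q hch).2 V hQV
      intro R hR
      induction hR with
      | refl => exact ⟨hDP.le, fun W hW => hO U W _ hDP hPU hW⟩
      | @tail R R' _ hs ih =>
        obtain ⟨hDR, ihW⟩ := ih
        obtain ⟨X', x, hXR, hXR', hx, hxR, hDX⟩ := hs
        have hDR' : D ≤ (R' : Subgroup ↥M).map M.subtype := fun u hu =>
          ⟨⟨u, hDM hu⟩, (hDX (x := ⟨u, hDM hu⟩) hu).1, rfl⟩
        refine ⟨hDR', fun W hW => ?_⟩
        obtain ⟨X, hX, hXe⟩ := hXR.1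
        subst hXe
        obtain ⟨P₀, F, hF, rfl⟩ := hX
        have hP₀p : IsPGroup p ↥((P₀ : Subgroup ↥M).map M.subtype) := P₀.2.map _
        have hNF := CfsgLib.LocalEven.SylowControl.normalizer_le_of_mem hf hP₀p hF
        have hP₀X : (P₀ : Subgroup ↥M) ≤ (M ⊓ Subgroup.normalizer (F : Set G)).subgroupOf M :=
          fun u hu => ⟨u.2, hNF (Subgroup.le_normalizer ⟨u, hu, rfl⟩)⟩
        have hRX := CfsgLib.LocalEven.SylowControl.le_of_mem_sylowMembers hXR hP₀X
        have hR'X := CfsgLib.LocalEven.SylowControl.le_of_mem_sylowMembers hXR' hP₀X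
        have hR'eq := CfsgLib.LocalEven.SylowControl.eq_smul_of_subgroupConjRight hxR
        have hRN : (R : Subgroup ↥M).map M.subtype ≤ Subgroup.normalizer (F : Set G) := by
          rintro _ ⟨u, hu, rfl⟩; exact (hRX hu).2
        have hR'map : (R' : Subgroup ↥M).map M.subtype =
            ((R : Subgroup ↥M).map M.subtype).map (MulAut.conj (x : G)).toMonoidHom := by
          rw [hR'eq, CfsgLib.LocalEven.SylowControl.smul_coe, Subgroup.map_map, Subgroup.map_map]
          rfl
        obtain ⟨U₀, hU₀⟩ := hP₀p.exists_le_sylow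
        by_cases hfull : (P₀ : Subgroup ↥M).map M.subtype = (U₀ : Subgroup G)
        · -- `M` has full `p`-part
          obtain ⟨W₀, hW₀⟩ := (R.2.map M.subtype).exists_le_sylow
          have hW₀eq : (R : Subgroup ↥M).map M.subtype = (W₀ : Subgroup G) := by
            refine Subgroup.eq_of_le_of_card_ge hW₀ ?_
            rw [CfsgLib.LocalEven.SylowControl.card_map_sylow R P₀, hfull, W₀.card_eq_multiplicity,
              U₀.card_eq_multiplicity]
          have hW₁ : ((((x : G) • W₀ : Sylow p G)) : Subgroup G) = (R' : Subgroup ↥M).map M.subtype := by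
            rw [CfsgLib.LocalEven.SylowControl.smul_coe, hR'map, hW₀eq]
          rw [hfull] at hF
          have hfam : Subgroup.normalizer (F : Set G) ∈ 𝓕 ∪ 𝓕' :=
            Or.inl (h𝓕 ▸ CfsgLib.LocalEven.SylowControl.mem_functorFamily_top U₀ hF)
          refine ((ihW W₀ hW₀).tail ?_).trans (hO ((x : G) • W₀) W _ (hbig R' hDR') hW₁.ge hW)
          refine ⟨_, (x : G), CfsgLib.LocalEven.SylowControl.mem_sylowMembers_of_le hfam (hW₀eq ▸ hRN),
            CfsgLib.LocalEven.SylowControl.mem_sylowMembers_of_le hfam ?_, hx.2,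
            CfsgLib.LocalEven.SylowControl.subgroupConjRight_smul _ _, ?_⟩
          · rw [hW₁]; rintro _ ⟨u, hu, rfl⟩; exact (hR'X hu).2
          · rw [hW₁]
            exact le_inf hDR' fun u hu => (hDX (x := ⟨u, hDM hu⟩) hu).2.2
        · -- `N(F)` has larger `p`-part than `M`
          have hP₀ne : (P₀ : Subgroup ↥M).map M.subtype ≠ ⊥ := fun e => (hbig R hDR).ne' (by
            have h2 : (R : Subgroup ↥M).map M.subtype = ⊥ := Subgroup.card_eq_one.1 (by
              rw [CfsgLib.LocalEven.SylowControl.card_map_sylow R P₀, e, Subgroup.card_bot])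
            rw [h2]
            exact (le_bot_iff.1 (h2 ▸ hDR)).symm)
          have hFp : IsPGroup p ↥F := hP₀p.to_le ((hf _ hP₀p).1 F hF).1
          obtain ⟨M', hM', hFM'⟩ := hmax F hFp (hf1 _ hP₀p hP₀ne F hF)
          have hRM' : (R : Subgroup ↥M).map M.subtype ≤ M' := hRN.trans hFM'
          obtain ⟨Q₁, W₁, hQ₁, hW₁⟩ :=
            CfsgLib.LocalEven.SylowControl.exists_sylow_above hRM' (R.2.map _)
          set x' : ↥M' := ⟨(x : G), hFM' hx.2⟩ with hx'
          obtain ⟨W₂, hW₂⟩ := ((x' • Q₁ : Sylow p ↥M').2.map M'.subtype).exists_le_sylow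
          have hR'Q : (R' : Subgroup ↥M).map M.subtype ≤
              ((x' • Q₁ : Sylow p ↥M') : Subgroup ↥M').map M'.subtype := by
            rw [hR'map]
            rintro _ ⟨u, hu, rfl⟩
            obtain ⟨v, hv, rfl⟩ := hQ₁ hu
            exact ⟨x' * v * x'⁻¹, ⟨v, hv, rfl⟩, by simp [hx']⟩
          have hcard : Nat.card ↥((P : Subgroup ↥M).map M.subtype) <
              Nat.card ↥((Q₁ : Subgroup ↥M').map M'.subtype) := by
            set N := (U₀ : Subgroup G) ⊓
              Subgroup.normalizer (((P₀ : Subgroup ↥M).map M.subtype : Subgroup G) : Set G) with hN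
            have hPN : (P₀ : Subgroup ↥M).map M.subtype < N := by
              refine lt_of_le_of_ne (le_inf hU₀ Subgroup.le_normalizer) fun e => hfull ?_
              exact CfsgLib.LocalEven.eq_of_inf_normalizer_le U₀.2 hU₀ e.ge
            obtain ⟨Q₀, W, hQ₀, -⟩ := CfsgLib.LocalEven.SylowControl.exists_sylow_above
              ((inf_le_right.trans hNF).trans hFM' : N ≤ M') (U₀.2.to_le inf_le_left)
            rw [CfsgLib.LocalEven.SylowControl.card_map_sylow P P₀,
              CfsgLib.LocalEven.SylowControl.card_map_sylow Q₁ Q₀]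
            refine lt_of_lt_of_le ?_ (Subgroup.card_le_of_le hQ₀)
            exact lt_of_le_of_ne (Subgroup.card_le_of_le hPN.le)
              fun e => hPN.ne (Subgroup.eq_of_le_of_card_ge hPN.le e.ge)
          refine ((ihW W₁ (hQ₁.trans hW₁)).trans ?_).trans (hO W₂ W _ (hbig R' hDR') (hR'Q.trans hW₂) hW)
          refine IHj _ ?_ M' hM' Q₁ (x' • Q₁) W₁ W₂ rfl ((hbig R hDR).trans_le hQ₁) (hDR'.trans hR'Q)
            hW₁ hW₂
          have := Subgroup.card_le_card_group ((Q₁ : Subgroup ↥M').map M'.subtype)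
          omega
    · -- singular: one step through `M`
      obtain ⟨c, hc⟩ := MulAction.exists_smul_eq ↥M P Q
      have hQeq : (Q : Subgroup ↥M).map M.subtype ≤ (((c : G) • U : Sylow p G) : Subgroup G) := by
        rw [← hc]
        rintro _ ⟨_, ⟨u, hu, rfl⟩, rfl⟩
        exact ⟨(u : G), hPU ⟨u, hu, rfl⟩, rfl⟩
      have hMF : M ∈ 𝓕 ∪ 𝓕' := Or.inr (h𝓕' ▸ ⟨hM, hreg⟩)
      refine Relation.ReflTransGen.head ?_ (hO ((c : G) • U) V _ (hbig Q hDQ) hQeq hQV)
      exact ⟨M, (c : G), ⟨hMF, P, CfsgLib.LocalEven.SylowControl.inf_eq_of_map_le hPU⟩,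
        ⟨hMF, Q, CfsgLib.LocalEven.SylowControl.inf_eq_of_map_le hQeq⟩, c.2,
        CfsgLib.LocalEven.SylowControl.subgroupConjRight_smul _ _, le_inf (hDQ.trans hQeq) hDM⟩
  have hDp : IsPGroup p ↥D := S.2.to_le inf_le_left
  obtain ⟨M, hM, hNM⟩ := hmax D hDp hD
  have hgrow : ∀ W : Sylow p G, D ≤ (W : Subgroup G) → D ≠ (W : Subgroup G) →
      D < (W : Subgroup G) ⊓ Subgroup.normalizer (D : Set G) := fun W hW hne =>
    lt_of_le_of_ne (le_inf hW Subgroup.le_normalizer)
      fun e => hne (CfsgLib.LocalEven.eq_of_inf_normalizer_le W.2 hW e.ge)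
  have hne1 : D ≠ (S : Subgroup G) := fun e => hST (Sylow.ext
    (S.is_maximal' T.2 (e.ge.trans inf_le_right)).symm)
  have hne2 : D ≠ (T : Subgroup G) := fun e => hST (Sylow.ext
    (T.is_maximal' S.2 (e.ge.trans inf_le_left)))
  have h1 := hgrow S inf_le_left hne1
  have h2 := hgrow T inf_le_right hne2
  obtain ⟨P, U, hP, hU⟩ := CfsgLib.LocalEven.SylowControl.exists_sylow_above
    ((inf_le_right : (S : Subgroup G) ⊓ Subgroup.normalizer (D : Set G) ≤ _).trans hNM) (S.2.to_le inf_le_left)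
  obtain ⟨Q, V, hQ, hV⟩ := CfsgLib.LocalEven.SylowControl.exists_sylow_above
    ((inf_le_right : (T : Subgroup G) ⊓ Subgroup.normalizer (D : Set G) ≤ _).trans hNM) (T.2.to_le inf_le_left)
  exact ((hO S U _ h1 inf_le_left (hP.trans hU)).trans
    (aux _ M hM P Q U V rfl (h1.trans_le hP) (h2.le.trans hQ) hU hV)).trans
    (hO V T _ h2 (hQ.trans hV) inf_le_left)

end Cfsg.Agent.S2956
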