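import Cfsg.Statements.S2957
import Cfsg.Agent.Lib.LocalEven.SylowFunctor

set_option autoImplicit false
open Cfsg

namespace Cfsg.Agent.S2957

/-- Let p be a prime dividing the order of the finite group G, f an equivariant assignment of a set of subgroups f(P) of P to every p-subgroup P, each normalized by N_G(P), and S a Sylow p-subgroup. If G = G₁G₂ for subgroups G₁, G₂ both containing S and both regular for f (in each Gᵢ, the family of normalizers in Gᵢ of the members of f(P), P a Sylow p-subgroup of Gᵢ, controls Sylow p-intersections), then G itself is regular for f. -/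
theorem result {G : Type*} [Group G] [Finite G] (p : ℕ) [Fact p.Prime] (hdiv : p ∣ Nat.card G)
    (f : Subgroup G → Set (Subgroup G)) (hf : Cfsg.IsNormalizerFunctor p f) (S : Sylow p G)
    (G₁ G₂ : Subgroup G) (h₁ : (S : Subgroup G) ≤ G₁) (h₂ : (S : Subgroup G) ≤ G₂)
    (hprod : ∀ g : G, ∃ g₁ ∈ G₁, ∃ g₂ ∈ G₂, g = g₁ * g₂)
    (hr₁ : Cfsg.IsFunctorRegular p f G₁) (hr₂ : Cfsg.IsFunctorRegular p f G₂) :
    Cfsg.IsFunctorRegular p f ⊤ := by
  classical
  have h𝓕 := CfsgLib.LocalEven.SylowControl.functorFamily_top_isNormalSet hf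
  -- chains inside a regular subgroup containing `S`
  have key : ∀ H : Subgroup G, (S : Subgroup G) ≤ H → Cfsg.IsFunctorRegular p f H →
      ∀ (D : Subgroup G) (U V : Sylow p G), D ≠ ⊥ → D ≤ (U : Subgroup G) → D ≤ (V : Subgroup G) →
      (U : Subgroup G) ≤ H → (V : Subgroup G) ≤ H →
      CfsgLib.LocalEven.SylowControl.Chain p (Cfsg.functorFamily p f ⊤) D U V := by
    intro H hSH hr D U V hD hDU hDV hUH hVH
    have hUc := CfsgLib.LocalEven.SylowControl.chain_of_controls hr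
      (D := D.subgroupOf H) (fun e => hD (by
        rw [Subgroup.subgroupOf_eq_bot] at e
        exact le_bot_iff.1 fun z hz => e.le_bot ⟨hz, hUH (hDU hz)⟩))
      (S := U.subtype hUH) (T := V.subtype hVH)
      (by rw [Sylow.coe_subtype]; exact Subgroup.comap_mono hDU)
      (by rw [Sylow.coe_subtype]; exact Subgroup.comap_mono hDV)
    have hlift : ∀ P : Sylow p ↥H, ∀ W : Sylow p G,
        (P : Subgroup ↥H).map H.subtype ≤ (W : Subgroup G) →
        (P : Subgroup ↥H).map H.subtype = (W : Subgroup G) := by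
      intro P W hW
      refine Subgroup.eq_of_le_of_card_ge hW ?_
      rw [Subgroup.card_map_of_injective H.subtype_injective, P.card_eq_multiplicity,
        ← (S.subtype hSH).card_eq_multiplicity, Sylow.coe_subtype,
        Nat.card_congr (Subgroup.subgroupOfEquivOfLe hSH).toEquiv, S.card_eq_multiplicity,
        ← W.card_eq_multiplicity]
    suffices hgen : ∀ P : Sylow p ↥H, CfsgLib.LocalEven.SylowControl.Chain p
        ((fun X : Subgroup G => X.subgroupOf H) '' Cfsg.functorFamily p f H) (D.subgroupOf H)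
        (U.subtype hUH) P →
        ∃ W : Sylow p G, (W : Subgroup G) = (P : Subgroup ↥H).map H.subtype ∧
          CfsgLib.LocalEven.SylowControl.Chain p (Cfsg.functorFamily p f ⊤) D U W by
      obtain ⟨W, hW, hc⟩ := hgen _ hUc
      rw [Sylow.coe_subtype, Subgroup.subgroupOf_map_subtype, inf_eq_left.2 hVH] at hW
      rwa [Sylow.ext hW] at hc
    intro P hP
    induction hP with
    | refl =>
      refine ⟨U, ?_, Relation.ReflTransGen.refl⟩
      rw [Sylow.coe_subtype, Subgroup.subgroupOf_map_subtype, inf_eq_left.2 hUH]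
    | @tail P P' _ hs ih =>
      obtain ⟨W, hW, hc⟩ := ih
      obtain ⟨X', x, hXP, hXP', hx, hxP, hDX⟩ := hs
      obtain ⟨X, hX, hXe⟩ := hXP.1
      subst hXe
      obtain ⟨P₀, F, hF, rfl⟩ := hX
      obtain ⟨W₀, hW₀⟩ := (P₀.2.map H.subtype).exists_le_sylow
      have hW₀' := hlift P₀ W₀ hW₀
      rw [hW₀'] at hF
      have hP₀X : (P₀ : Subgroup ↥H) ≤ (H ⊓ Subgroup.normalizer (F : Set G)).subgroupOf H :=
        fun u hu => ⟨u.2, CfsgLib.LocalEven.SylowControl.normalizer_le_of_mem hf W₀.2 hF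
          (Subgroup.le_normalizer (hW₀ ⟨u, hu, rfl⟩))⟩
      have hPX := CfsgLib.LocalEven.SylowControl.le_of_mem_sylowMembers hXP hP₀X
      have hP'X := CfsgLib.LocalEven.SylowControl.le_of_mem_sylowMembers hXP' hP₀X
      obtain ⟨W', hW'⟩ := (P'.2.map H.subtype).exists_le_sylow
      have hW'' := (hlift P' W' hW').symm
      refine ⟨W', hW'', hc.tail ⟨Subgroup.normalizer (F : Set G), (x : G), ?_, ?_, ?_, ?_, ?_⟩⟩
      · refine CfsgLib.LocalEven.SylowControl.mem_sylowMembers_of_le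
          (CfsgLib.LocalEven.SylowControl.mem_functorFamily_top W₀ hF) ?_
        rw [hW]; rintro _ ⟨u, hu, rfl⟩; exact (hPX hu).2
      · refine CfsgLib.LocalEven.SylowControl.mem_sylowMembers_of_le
          (CfsgLib.LocalEven.SylowControl.mem_functorFamily_top W₀ hF) ?_
        rw [hW'']; rintro _ ⟨u, hu, rfl⟩; exact (hP'X hu).2
      · exact hx.2
      · rw [hW'', hW, Cfsg.subgroupConjRight, ← hxP, Cfsg.subgroupConjRight, Subgroup.map_map,
          Subgroup.map_map]
        rfl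
      · intro u hu
        have huH : u ∈ H := hUH (hDU hu)
        have h := hDX (x := ⟨u, huH⟩) hu
        exact ⟨hW'' ▸ ⟨⟨u, huH⟩, h.1, rfl⟩, h.2.2⟩
  have hall : Cfsg.ControlsSylowIntersections p (Cfsg.functorFamily p f ⊤) := by
    rw [CfsgLib.LocalEven.SylowControl.controls_iff]
    intro A B hAB hD
    obtain ⟨a, rfl⟩ := MulAction.exists_smul_eq G S A
    set D := ((a • S : Sylow p G) : Subgroup G) ⊓ (B : Subgroup G) with hDdef
    obtain ⟨g, hg⟩ := MulAction.exists_smul_eq G S (a⁻¹ • B)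
    set D₀ := D.map (MulAut.conj a⁻¹).toMonoidHom with hD₀
    have hD₀ne : D₀ ≠ ⊥ :=
      fun e => hD ((Subgroup.map_eq_bot_iff_of_injective _ (MulAut.conj a⁻¹).injective).1 e)
    have hD₀S : D₀ ≤ (S : Subgroup G) := by
      have h := Subgroup.map_mono (f := (MulAut.conj a⁻¹).toMonoidHom) (inf_le_left : D ≤ _)
      rw [← CfsgLib.LocalEven.SylowControl.smul_coe, inv_smul_smul] at h
      exact h
    have hD₀B : D₀ ≤ ((g • S : Sylow p G) : Subgroup G) := by
      rw [hg]; exact Subgroup.map_mono inf_le_right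
    obtain ⟨g₁, hg₁, g₂, hg₂, rfl⟩ := hprod g
    set D₁ := D₀.map (MulAut.conj g₁⁻¹).toMonoidHom with hD₁
    have hD₁le : D₁ ≤ G₁ ⊓ G₂ := by
      refine le_inf ?_ ?_
      · rintro _ ⟨u, hu, rfl⟩
        exact G₁.mul_mem (G₁.mul_mem (G₁.inv_mem hg₁) (h₁ (hD₀S hu)))
          (G₁.inv_mem (G₁.inv_mem hg₁))
      · refine (Subgroup.map_mono hD₀B).trans ?_
        rw [← CfsgLib.LocalEven.SylowControl.smul_coe, mul_smul, inv_smul_smul,
          CfsgLib.LocalEven.SylowControl.smul_coe]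
        rintro _ ⟨u, hu, rfl⟩
        exact G₂.mul_mem (G₂.mul_mem hg₂ (h₂ hu)) (G₂.inv_mem hg₂)
    obtain ⟨P, W, hP, hPW⟩ := CfsgLib.LocalEven.SylowControl.exists_sylow_above hD₁le
      ((S.2.to_le hD₀S).map _)
    obtain ⟨c, hc⟩ := MulAction.exists_smul_eq ↥(G₁ ⊓ G₂) (S.subtype (le_inf h₁ h₂)) P
    have hD₁c : D₁ ≤ (((c : G) • S : Sylow p G) : Subgroup G) := by
      refine hP.trans ?_
      rw [← hc]
      rintro _ ⟨u, ⟨v, hv, rfl⟩, rfl⟩
      exact ⟨(v : G), hv, rfl⟩
    have hconj : ∀ (K : Subgroup G) (k : G), k ∈ K → (S : Subgroup G) ≤ K →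
        ((k • S : Sylow p G) : Subgroup G) ≤ K := by
      intro K k hk hSK
      rintro _ ⟨u, hu, rfl⟩
      exact K.mul_mem (K.mul_mem hk (hSK hu)) (K.inv_mem hk)
    have hD₁ne : D₁ ≠ ⊥ :=
      fun e => hD₀ne ((Subgroup.map_eq_bot_iff_of_injective _ (MulAut.conj g₁⁻¹).injective).1 e)
    have hback : D₁.map (MulAut.conj g₁).toMonoidHom = D₀ := by
      ext u; rw [CfsgLib.LocalEven.mem_map_conj, CfsgLib.LocalEven.mem_map_conj]; simp [mul_assoc]
    have hD₀g : D₀ ≤ (((g₁ * (c : G)) • S : Sylow p G) : Subgroup G) := by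
      rw [← hback, mul_smul, CfsgLib.LocalEven.SylowControl.smul_coe g₁]
      exact Subgroup.map_mono hD₁c
    have c1 := key G₁ h₁ hr₁ D₀ S ((g₁ * (c : G)) • S) hD₀ne hD₀S hD₀g h₁
      (hconj G₁ _ (G₁.mul_mem hg₁ c.2.1) h₁)
    have c2 := (key G₂ h₂ hr₂ D₁ ((c : G) • S) (g₂ • S) hD₁ne hD₁c (by
      have := Subgroup.map_mono (f := (MulAut.conj g₁⁻¹).toMonoidHom) hD₀B
      rwa [← CfsgLib.LocalEven.SylowControl.smul_coe, mul_smul, inv_smul_smul] at this)
      (hconj G₂ _ c.2.2 h₂) (hconj G₂ _ hg₂ h₂)).smul g₁ h𝓕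
    rw [hback, ← mul_smul, ← mul_smul] at c2
    have := (Relation.ReflTransGen.trans c1 c2 :
      CfsgLib.LocalEven.SylowControl.Chain p (Cfsg.functorFamily p f ⊤) D₀ S ((g₁ * g₂) • S))
    have h2 := CfsgLib.LocalEven.SylowControl.Chain.smul a h𝓕 this
    rw [hg, smul_inv_smul] at h2
    refine h2.mono (le_of_eq ?_)
    ext u; rw [CfsgLib.LocalEven.mem_map_conj, hD₀, CfsgLib.LocalEven.mem_map_conj]; simp [mul_assoc]
  unfold Cfsg.IsFunctorRegular
  rw [CfsgLib.LocalEven.SylowControl.controls_iff]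
  intro P Q hPQ hD
  obtain ⟨U, hU, hUP⟩ := CfsgLib.LocalEven.SylowControl.top_mapped P
  obtain ⟨V, hV, hVQ⟩ := CfsgLib.LocalEven.SylowControl.top_mapped Q
  subst hUP hVQ
  have hch := CfsgLib.LocalEven.SylowControl.chain_of_controls hall
    (D := (U : Subgroup G) ⊓ (V : Subgroup G)) (S := U) (T := V) (fun e => hD (by
      rw [Sylow.coe_subtype, Sylow.coe_subtype]
      refine le_bot_iff.1 fun u hu => Subgroup.mem_bot.2 (Subtype.ext ?_)
      exact Subgroup.mem_bot.1 (e ▸ ⟨hu.1, hu.2⟩ : (u : G) ∈ (⊥ : Subgroup G)))) inf_le_left inf_le_right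
  clear hPQ hD hU hV
  revert hch
  generalize hDg : (U : Subgroup G) ⊓ (V : Subgroup G) = D
  intro hch
  refine CfsgLib.LocalEven.SylowControl.Chain.mono (D' := D.subgroupOf ⊤) ?_ ?_
  · rw [← hDg, Sylow.coe_subtype, Sylow.coe_subtype]; exact fun u hu => hu
  clear hDg
  induction hch with
  | refl => exact Relation.ReflTransGen.refl
  | @tail A B _ hs ih =>
    refine ih.tail ?_
    obtain ⟨X, x, hXA, hXB, hx, hxA, hDX⟩ := hs
    obtain ⟨W₀, F, hF, hXF⟩ := CfsgLib.LocalEven.SylowControl.exists_of_functorFamily_top hXA.1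
    subst hXF
    have hW₀ : (W₀ : Subgroup G) ≤ Subgroup.normalizer (F : Set G) :=
      Subgroup.le_normalizer.trans (CfsgLib.LocalEven.SylowControl.normalizer_le_of_mem hf W₀.2 hF)
    have hA := CfsgLib.LocalEven.SylowControl.le_of_mem_sylowMembers hXA hW₀
    have hB := CfsgLib.LocalEven.SylowControl.le_of_mem_sylowMembers hXB hW₀
    refine ⟨(Subgroup.normalizer (F : Set G)).subgroupOf ⊤, ⟨x, Subgroup.mem_top x⟩, ?_, ?_, hx, ?_, ?_⟩
    · exact CfsgLib.LocalEven.SylowControl.mem_sylowMembers_of_le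
        (𝓕 := (fun X : Subgroup G => X.subgroupOf ⊤) '' Cfsg.functorFamily p f ⊤) ⟨_, hXA.1, rfl⟩
        (by rw [Sylow.coe_subtype]; exact Subgroup.comap_mono hA)
    · exact CfsgLib.LocalEven.SylowControl.mem_sylowMembers_of_le
        (𝓕 := (fun X : Subgroup G => X.subgroupOf ⊤) '' Cfsg.functorFamily p f ⊤) ⟨_, hXA.1, rfl⟩
        (by rw [Sylow.coe_subtype]; exact Subgroup.comap_mono hB)
    · rw [Sylow.coe_subtype, Sylow.coe_subtype, ← hxA]
      ext u
      simp only [Cfsg.subgroupConjRight, CfsgLib.LocalEven.mem_map_conj, Subgroup.mem_subgroupOf]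
      simp
    · rw [Sylow.coe_subtype]; exact fun u hu => hDX hu

end Cfsg.Agent.S2957
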