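import Cfsg.Statements.S2958
-- import your own Cfsg.Agent.* helpers here

set_option autoImplicit false
open Cfsg

namespace Cfsg.Agent.S2958

/-- Let X, A, B be subgroups of a group G such that G is generated by the conjugates of X and every conjugate of X is contained in A or in B. Then A = G or B = G. -/
theorem result {G : Type*} [Group G] (X A B : Subgroup G) (hgen : (⨆ g : G, X.map (MulAut.conj g).toMonoidHom) = ⊤) (hcover : ∀ g : G, X.map (MulAut.conj g).toMonoidHom ≤ A ∨ X.map (MulAut.conj g).toMonoidHom ≤ B) : A = ⊤ ∨ B = ⊤ := by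
  classical
  by_cases hA : ∀ g : G, X.map (MulAut.conj g).toMonoidHom ≤ A
  · left
    exact top_le_iff.1 (hgen ▸ iSup_le hA)
  push Not at hA
  obtain ⟨g₀, hg₀⟩ := hA
  set K : Subgroup G := ⨆ g : {g : G // ¬ X.map (MulAut.conj g).toMonoidHom ≤ A},
    X.map (MulAut.conj (g : G)).toMonoidHom with hK
  have hle : ∀ g : G, ¬ X.map (MulAut.conj g).toMonoidHom ≤ A →
      X.map (MulAut.conj g).toMonoidHom ≤ K := fun g hg =>
    le_iSup (fun g : {g : G // ¬ X.map (MulAut.conj g).toMonoidHom ≤ A} =>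
      X.map (MulAut.conj (g : G)).toMonoidHom) ⟨g, hg⟩
  right
  have hKB : K ≤ B := iSup_le fun g => (hcover g).resolve_left g.2
  have hmove : ∀ (x : G), x ∈ A → ∀ k ∈ K, x * k * x⁻¹ ∈ K := by
    intro x hx
    have : K ≤ K.comap (MulAut.conj x).toMonoidHom := by
      refine iSup_le fun g => ?_
      rintro _ ⟨y, hy, rfl⟩
      have hbad : ¬ X.map (MulAut.conj (x * g)).toMonoidHom ≤ A := by
        intro hle
        apply g.2
        rintro _ ⟨z, hz, rfl⟩
        have h2 := A.mul_mem (A.mul_mem (A.inv_mem hx) (hle ⟨z, hz, rfl⟩)) hx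
        simpa [mul_assoc] using h2
      exact hle _ hbad ⟨y, hy, by simp [mul_assoc]⟩
    intro k hk
    exact this hk
  have hN : K.Normal := by
    rw [← Subgroup.normalizer_eq_top_iff, eq_top_iff, ← hgen]
    refine iSup_le fun h => ?_
    by_cases hh : X.map (MulAut.conj h).toMonoidHom ≤ A
    · rw [Subgroup.le_normalizer_iff]
      exact fun x hx => hmove x (hh hx)
    · exact (hle h hh).trans Subgroup.le_normalizer
  apply top_le_iff.1
  refine le_trans ?_ hKB
  rw [← hgen]
  refine iSup_le fun g => ?_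
  rintro _ ⟨y, hy, rfl⟩
  have h2 := hN.conj_mem _ (hle g₀ hg₀ ⟨y, hy, rfl⟩) (g * g₀⁻¹)
  simpa [mul_assoc] using h2

end Cfsg.Agent.S2958
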