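import Cfsg.Statements.S2960
import Cfsg.Agent.Lib.LocalEven.CharP

set_option autoImplicit false
open Cfsg

namespace Cfsg.Agent.S2960

/-- Let G be a finite group of characteristic p (C_G(O_p(G)) ≤ O_p(G)), p prime, T a Sylow p-subgroup of G and Q a normal subgroup of T with C_T(Q) ≤ Q. Then C_G(Q) ≤ Q. -/
theorem result {G : Type*} [Group G] [Finite G] {p : ℕ} [Fact p.Prime] (hG : Subgroup.centralizer (Cfsg.pCore p G : Set G) ≤ Cfsg.pCore p G) (T : Sylow p G) (Q : Subgroup G) (hQT : Q ≤ (T : Subgroup G)) (hQn : (T : Subgroup G) ≤ Subgroup.normalizer (Q : Set G)) (hC : (T : Subgroup G) ⊓ Subgroup.centralizer (Q : Set G) ≤ Q) : Subgroup.centralizer (Q : Set G) ≤ Q := by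
  have hP : Cfsg.pCore p G ≤ (T : Subgroup G) := CfsgLib.Cores.pCore_le_sylow T
  have hQp : IsPGroup p ↥Q := T.2.to_le hQT
  have hn : Subgroup.normalizer (Cfsg.pCore p G : Set G) = ⊤ := Subgroup.normalizer_eq_top _
  have hCp : IsPGroup p ↥(Subgroup.centralizer (Q : Set G)) := by
    refine CfsgLib.LocalEven.isPGroup_of_forall_coprime fun x hx hxo => ?_
    refine CfsgLib.LocalEven.HasCharP.eq_one hG hxo ?_
    refine CfsgLib.LocalEven.commute_of_commute_fixed hQp (CfsgLib.Cores.isPGroup_pCore p)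
      (by rw [hn]; exact le_top) hxo (by rw [hn]; trivial)
      (fun r hr => (Subgroup.mem_centralizer_iff.1 hx r hr).symm) fun v hv hvQ => ?_
    have hvQ' : v ∈ Q := hC ⟨hP hv, Subgroup.mem_centralizer_iff.2 hvQ⟩
    exact (Subgroup.mem_centralizer_iff.1 hx v hvQ').symm
  have hTC : (T : Subgroup G) ≤ Subgroup.normalizer (Subgroup.centralizer (Q : Set G) : Set G) := by
    intro t ht
    refine CfsgLib.LocalEven.mem_normalizer_of_conj_le ?_
    rintro _ ⟨c, hc, rfl⟩
    refine Subgroup.mem_centralizer_iff.2 fun q hq => ?_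
    have h1 : t⁻¹ * q * t⁻¹⁻¹ ∈ Q :=
      CfsgLib.LocalEven.conj_mem_of_mem_normalizer (hQn ((T : Subgroup G).inv_mem ht)) hq
    have h2 := Subgroup.mem_centralizer_iff.1 hc _ h1
    calc q * (t * c * t⁻¹) = t * ((t⁻¹ * q * t⁻¹⁻¹) * c) * t⁻¹ := by group
      _ = t * c * t⁻¹ * q := by rw [h2]; group
  have hsup := IsPGroup.to_sup_of_normal_right' T.2 hCp hTC
  have hle : Subgroup.centralizer (Q : Set G) ≤ (T : Subgroup G) :=
    le_sup_right.trans (T.3 hsup le_sup_left).le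
  exact fun x hx => hC ⟨hle hx, hx⟩

end Cfsg.Agent.S2960
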