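import Cfsg.Statements.S2963
-- import your own Cfsg.Agent.* helpers here

set_option autoImplicit false
open Cfsg

namespace Cfsg.Agent.S2963

/-- Let n be odd. If the symmetric group of degree n is a minimal parabolic group for the prime 2, that is, a Sylow 2-subgroup is not normal and lies in exactly one maximal subgroup, then n = 2^m + 1 for some natural number m. -/
theorem result (n : ℕ) (hn : Odd n) (h : Cfsg.IsPMinimal 2 (Equiv.Perm (Fin n))) : ∃ m : ℕ, n = 2 ^ m + 1 := by
  classical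
  obtain ⟨S, -⟩ := IsPGroup.exists_le_sylow (IsPGroup.of_bot (p := 2) (G := Equiv.Perm (Fin n)))
  obtain ⟨hSn, M, ⟨hM, hSM⟩, huniq⟩ := h S
  rcases Nat.lt_or_ge n 2 with hn2 | hn2
  · refine absurd ⟨fun x hx g => ?_⟩ hSn
    haveI : Subsingleton (Fin n) := ⟨fun a b => Fin.ext (by omega)⟩
    rwa [Subsingleton.elim (g * x * g⁻¹) x]
  have hbelow : ∀ T : Subgroup (Equiv.Perm (Fin n)), T ≠ ⊤ → (S : Subgroup (Equiv.Perm (Fin n))) ≤ T → T ≤ M := by
    intro T hT hST
    obtain ⟨T', hT', hle⟩ := (eq_top_or_exists_le_coatom T).resolve_left hT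
    rw [← huniq T' ⟨hT', hST.trans hle⟩]
    exact hle
  obtain ⟨a, ha⟩ := S.2.nonempty_fixed_point_of_prime_not_dvd_card (Fin n) (by
    rw [Nat.card_eq_fintype_card, Fintype.card_fin]; exact hn.not_two_dvd_nat)
  haveI : Nontrivial (Fin n) := Fin.nontrivial_iff_two_le.2 hn2
  obtain ⟨x, hxa⟩ := exists_ne a
  set O := MulAction.orbit ↥(S : Subgroup (Equiv.Perm (Fin n))) x with hO
  by_contra hcon
  obtain ⟨b, hba, hbO⟩ : ∃ b, b ≠ a ∧ b ∉ O := by
    by_contra hall
    push_neg at hall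
    obtain ⟨m, hm⟩ := S.2.card_orbit x
    refine hcon ⟨m, ?_⟩
    have hOeq : O = {a}ᶜ := by
      ext y
      refine ⟨fun hy => ?_, fun hy => hall y hy⟩
      obtain ⟨s, rfl⟩ := hy
      intro hsa
      refine hxa (smul_left_cancel s ?_)
      rw [Set.mem_singleton_iff] at hsa
      exact hsa.trans (ha s).symm
    rw [← hO, hOeq, Nat.card_coe_set_eq, Set.ncard_compl, Set.ncard_singleton,
      Nat.card_eq_fintype_card, Fintype.card_fin] at hm
    omega
  let T : Subgroup (Equiv.Perm (Fin n)) :=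
    { carrier := {σ | ∀ y, σ y ∈ O ↔ y ∈ O}
      mul_mem' := fun {σ τ} hσ hτ y => (hσ (τ y)).trans (hτ y)
      one_mem' := fun y => Iff.rfl
      inv_mem' := fun {σ} hσ y => by
        refine (hσ _).symm.trans ?_
        rw [← Equiv.Perm.mul_apply, mul_inv_cancel, Equiv.Perm.one_apply] }
  have haO : a ∉ O := by
    rintro ⟨s, hs⟩
    exact hxa (smul_left_cancel s (hs.trans (ha s).symm))
  have hxO : x ∈ O := MulAction.mem_orbit_self x
  have hTM : T ≤ M := by
    refine hbelow T (fun hT => haO ?_) fun s hs y => ?_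
    · have h1 : Equiv.swap a x ∈ T := hT ▸ Subgroup.mem_top _
      have := (h1 a).1 (by rw [Equiv.swap_apply_left]; exact hxO)
      exact this
    · show (⟨s, hs⟩ : ↥(S : Subgroup _)) • y ∈ O ↔ y ∈ O
      rw [hO, MulAction.mem_orbit_symm, MulAction.mem_orbit_symm (a₁ := y)]
      rw [← MulAction.orbit_eq_iff.2 (MulAction.mem_orbit y (⟨s, hs⟩ : ↥(S : Subgroup _))) ]
  have hAM : MulAction.stabilizer (Equiv.Perm (Fin n)) a ≤ M := by
    refine hbelow _ (fun hT => hxa ?_) fun s hs => ha ⟨s, hs⟩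
    have h1 : Equiv.swap a x ∈ MulAction.stabilizer (Equiv.Perm (Fin n)) a := hT ▸ Subgroup.mem_top _
    rw [MulAction.mem_stabilizer_iff, Equiv.Perm.smul_def, Equiv.swap_apply_left] at h1
    exact h1
  have hab : Equiv.swap a b ∈ M := by
    refine hTM fun y => ?_
    by_cases h1 : y = a
    · subst h1; rw [Equiv.swap_apply_left]; exact iff_of_false hbO haO
    by_cases h2 : y = b
    · subst h2; rw [Equiv.swap_apply_right]; exact iff_of_false haO hbO
    rw [Equiv.swap_apply_of_ne_of_ne h1 h2]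
  refine hM.1 (eq_top_iff.2 fun σ _ => ?_)
  have hac : Equiv.swap a (σ a) ∈ M := by
    by_cases hc : σ a = a
    · rw [hc, Equiv.swap_self]; exact M.one_mem
    have hbc : Equiv.swap b (σ a) ∈ M := hAM (by
      rw [MulAction.mem_stabilizer_iff, Equiv.Perm.smul_def, Equiv.swap_apply_of_ne_of_ne hba.symm (Ne.symm hc)])
    have h3 : Equiv.swap b (σ a) * Equiv.swap a b * (Equiv.swap b (σ a))⁻¹ = Equiv.swap a (σ a) := by
      rw [← Equiv.swap_apply_apply, Equiv.swap_apply_of_ne_of_ne hba.symm (Ne.symm hc), Equiv.swap_apply_left]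
    rw [← h3]
    exact M.mul_mem (M.mul_mem hbc hab) (M.inv_mem hbc)
  have h4 : Equiv.swap a (σ a) * σ ∈ M := hAM (by
    rw [MulAction.mem_stabilizer_iff, Equiv.Perm.smul_def, Equiv.Perm.mul_apply, Equiv.swap_apply_right])
  have h5 := M.mul_mem (M.inv_mem hac) h4
  rwa [inv_mul_cancel_left] at h5

end Cfsg.Agent.S2963
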