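import Cfsg.Statements.S2968
import Cfsg.Agent.Lib.LocalEven.Isolated

set_option autoImplicit false
open Cfsg

namespace Cfsg.Agent.S2968

/-- Let G be a finite group, p a prime, P a Sylow p-subgroup of G and x ∈ P an element of p-power order which is isolated in G (the only conjugate of x commuting with x is x itself). Then x lies in the centre of P, and the subgroup generated by x is both strongly closed and weakly closed in P with respect to G. -/
theorem result {G : Type*} [Group G] [Finite G] {p : ℕ} [Fact p.Prime] (P : Sylow p G) (x : G) (hxP : x ∈ (P : Subgroup G)) (hx : ∃ k : ℕ, orderOf x = p ^ k) (hiso : Cfsg.IsIsolated x) : x ∈ (P : Subgroup G) ⊓ Subgroup.centralizer ((P : Subgroup G) : Set G) ∧ Cfsg.IsStronglyClosed (Subgroup.zpowers x) (P : Subgroup G) ∧ Cfsg.IsWeaklyClosed (Subgroup.zpowers x) (P : Subgroup G) := by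
  have hPC : (P : Subgroup G) ≤ Subgroup.centralizer ({x} : Set G) :=
    CfsgLib.LocalEven.isolated_pGroup_le_centralizer hiso P.2 hxP
  refine ⟨⟨hxP, Subgroup.mem_centralizer_iff.2 fun y hy =>
    Subgroup.mem_centralizer_singleton_iff.1 (hPC hy)⟩, ⟨Subgroup.zpowers_le.2 hxP, ?_⟩,
    ⟨Subgroup.zpowers_le.2 hxP, ?_⟩⟩
  · intro a ha g hy
    obtain ⟨n, rfl⟩ := Subgroup.mem_zpowers_iff.1 ha
    set y := g * x ^ n * g⁻¹ with hydef
    have hxy : Commute x y := (Subgroup.mem_centralizer_singleton_iff.1 (hPC hy)).symm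
    have hgy : Commute (g * x * g⁻¹) y := by
      rw [hydef, ← conj_zpow]; exact (Commute.refl _).zpow_right n
    obtain ⟨c, hc, hcg⟩ := CfsgLib.LocalEven.isolated_exists_conj (g := g) hiso hx
      (X := Subgroup.centralizer ({y} : Set G))
      (Subgroup.mem_centralizer_singleton_iff.2 hxy) (Subgroup.mem_centralizer_singleton_iff.2 hgy)
    have hcy : c * y = y * c := Subgroup.mem_centralizer_singleton_iff.1 hc
    have hcgn : c * g * x ^ n = x ^ n * (c * g) := (Commute.zpow_right (show Commute (c * g) x from hcg) n).eq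
    have : y = x ^ n := by
      have h3 : c * y * c⁻¹ = y := by rw [hcy]; group
      rw [← h3, hydef]
      calc c * (g * x ^ n * g⁻¹) * c⁻¹ = c * g * x ^ n * (c * g)⁻¹ := by group
        _ = x ^ n := by rw [hcgn]; group
    rw [this]
    exact ⟨n, rfl⟩
  · intro g hg
    rw [CfsgLib.LocalEven.conj_zpowers] at hg ⊢
    rw [CfsgLib.LocalEven.isolated_eq_of_mem_pGroup hiso P.2 hxP (hg (Subgroup.mem_zpowers _))]

end Cfsg.Agent.S2968
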