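import Cfsg.Statements.S2971
import Cfsg.Agent.S2970
import Cfsg.Agent.Lib.Solvable.UniqueSubgroup
import Cfsg.Agent.Lib.Cores.Basic

set_option autoImplicit false
open Cfsg

namespace Cfsg.Agent.S2971

/-- Let G be a finite group and p an odd prime such that G has p-rank at most 1 (no elementary abelian subgroup of order p²). If x ∈ G is an isolated element of order p, then x is central modulo the largest normal subgroup of G of order prime to p. -/
theorem result {G : Type*} [Group G] [Finite G] {p : ℕ} [Fact p.Prime] (hp : p ≠ 2) (hrk : Cfsg.PRankLE p 1 G) (x : G) (hx : orderOf x = p) (hiso : Cfsg.IsIsolated x) : Cfsg.InZStar p x := by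
  classical
  have hcyc : ∀ P : Sylow p G, IsCyclic ↥(P : Subgroup G) := by
    intro P
    suffices hu : ∀ a b : ↥(P : Subgroup G), orderOf a = p → orderOf b = p → a ∈ Subgroup.zpowers b by
      rcases CfsgLib.Solvable.isCyclic_or_quaternion (p := p) P.2 hu with h | ⟨h, -⟩
      · exact h
      · exact absurd h hp
    intro a b ha hb
    haveI : Nontrivial ↥(P : Subgroup G) := ⟨a, 1, fun e => (Fact.out : p.Prime).ne_one (by rw [← ha, e, orderOf_one])⟩
    have hZ : Subgroup.center ↥(P : Subgroup G) ≠ ⊥ :=
      (Subgroup.nontrivial_iff_ne_bot _).1 P.2.center_nontrivial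
    obtain ⟨z, hzc, hz⟩ := CfsgLib.PGroup.exists_orderOf_eq P.2 hZ
    have hall : ∀ c : ↥(P : Subgroup G), orderOf c = p → Subgroup.zpowers c = Subgroup.zpowers z := by
      intro c hc
      set E := Subgroup.closure ({c, z} : Set ↥(P : Subgroup G)) with hE
      have hcz : c * z = z * c := Subgroup.mem_center_iff.1 hzc c
      have hcomm : IsMulCommutative ↥E := by
        refine Subgroup.isMulCommutative_closure ?_
        rintro u (rfl | rfl) v (rfl | rfl)
        · rfl
        · exact hcz
        · exact hcz.symm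
        · rfl
      haveI := hcomm
      have hEp : ∀ u ∈ E, u ^ p = 1 := by
        intro u hu
        induction hu using Subgroup.closure_induction with
        | mem t ht =>
          rcases ht with e | e
          · rw [e]; exact orderOf_dvd_iff_pow_eq_one.1 (dvd_of_eq hc)
          · rw [Set.mem_singleton_iff.1 e]; exact orderOf_dvd_iff_pow_eq_one.1 (dvd_of_eq hz)
        | one => exact one_pow p
        | mul u v hu hv ihu ihv =>
          rw [(show Commute u v from congrArg Subtype.val (hcomm.1.comm (⟨u, hu⟩ : ↥E) ⟨v, hv⟩)).mul_pow,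
            ihu, ihv, one_mul]
        | inv u hu ihu => rw [inv_pow, ihu, inv_one]
      have hle := hrk (E.map (P : Subgroup G).subtype) (by
        refine ⟨⟨?_⟩⟩
        rintro ⟨_, u, hu, rfl⟩ ⟨_, v, hv, rfl⟩
        exact Subtype.ext (congrArg (fun w : ↥E => ((w : ↥(P : Subgroup G)) : G))
          (hcomm.1.comm (⟨u, hu⟩ : ↥E) ⟨v, hv⟩))) (by
        rintro _ ⟨u, hu, rfl⟩
        rw [← map_pow, hEp u hu, map_one])
      rw [Subgroup.card_map_of_injective (P : Subgroup G).subtype_injective, pow_one] at hle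
      have h1 : Subgroup.zpowers c = E := Subgroup.eq_of_le_of_card_ge
        (Subgroup.zpowers_le.2 (Subgroup.subset_closure (by simp))) (by rw [Nat.card_zpowers, hc]; exact hle)
      have h2 : Subgroup.zpowers z = E := Subgroup.eq_of_le_of_card_ge
        (Subgroup.zpowers_le.2 (Subgroup.subset_closure (by simp))) (by rw [Nat.card_zpowers, hz]; exact hle)
      rw [h1, h2]
    rw [hall b hb, ← hall a ha]
    exact Subgroup.mem_zpowers a
  have hx1 : x ≠ 1 := fun e => (Fact.out : p.Prime).ne_one (by rw [← hx, e, orderOf_one])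
  obtain ⟨P, N, hN, hNP⟩ := (Cfsg.Agent.S2970.result (p := p) x ⟨1, by rw [hx, pow_one]⟩ hiso).2 hx1 hcyc
  intro g
  refine CfsgLib.Cores.le_pPrimeCore (CfsgLib.Transfer.coprime_card_of_isComplement' P hNP) ?_
  haveI := hcyc P
  have hc : ∀ u v : G ⧸ N, u * v = v * u := by
    have hsurj : ∀ u : G ⧸ N, ∃ w : ↥(P : Subgroup G), QuotientGroup.mk' N (w : G) = u := by
      intro u
      obtain ⟨a, rfl⟩ := QuotientGroup.mk'_surjective N u
      obtain ⟨⟨n, w⟩, hnw, -⟩ := hNP.existsUnique a
      refine ⟨w, ?_⟩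
      have h1 : (QuotientGroup.mk' N) (n : G) = 1 := (QuotientGroup.eq_one_iff _).2 n.2
      rw [← hnw, map_mul, h1, one_mul]
    intro u v
    obtain ⟨a, rfl⟩ := hsurj u
    obtain ⟨b, rfl⟩ := hsurj v
    rw [← map_mul, ← map_mul]
    exact congrArg (fun w : ↥(P : Subgroup G) => QuotientGroup.mk' N (w : G))
      ((IsCyclic.isMulCommutative (α := ↥(P : Subgroup G))).1.comm a b)
  rw [← QuotientGroup.eq_one_iff]
  show QuotientGroup.mk' N (g * x * g⁻¹ * x⁻¹) = 1
  rw [map_mul, map_mul, map_mul, hc (QuotientGroup.mk' N g), map_inv, map_inv, mul_inv_cancel_right, mul_inv_cancel]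

end Cfsg.Agent.S2971
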