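import Cfsg.Statements.S2975
import Cfsg.Agent.Lib.LocalEven.IsolatedP

set_option autoImplicit false
open Cfsg

namespace Cfsg.Agent.S2975

/-- Let G be a finite group, p a prime and x ∈ G an isolated element of order p (the only conjugate of x commuting with x is x) which is not central modulo the largest normal subgroup of order prime to p, while x is central modulo the largest normal subgroup of order prime to p in every proper subgroup containing x, and the image of x is so in every quotient of G by a nontrivial normal subgroup (a minimal counterexample to the Z*_p statement). Then for every prime q, every q-subgroup of G that is normalized by x and maximal among the q-subgroups normalized by x is either trivial or a Sylow q-subgroup of G; and C_G(x) permutes the x-invariant Sylow q-subgroups of G transitively by conjugation. -/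
theorem result {G : Type*} [Group G] [Finite G] {p : ℕ} [Fact p.Prime] (x : G) (hx : orderOf x = p) (hiso : Cfsg.IsIsolated x) (hnz : ¬ Cfsg.InZStar p x) (hmin : ∀ (H : Subgroup G) (hxH : x ∈ H), H ≠ ⊤ → Cfsg.InZStar p (⟨x, hxH⟩ : ↥H)) (hquot : ∀ (N : Subgroup G) [N.Normal], N ≠ ⊥ → Cfsg.InZStar p (QuotientGroup.mk x : G ⧸ N)) (q : ℕ) [Fact q.Prime] : (∀ Q : Subgroup G, IsPGroup q ↥Q → x ∈ Subgroup.normalizer (Q : Set G) → (∀ R : Subgroup G, IsPGroup q ↥R → x ∈ Subgroup.normalizer (R : Set G) → Q ≤ R → R = Q) → Q = ⊥ ∨ ∃ S : Sylow q G, (S : Subgroup G) = Q) ∧ (∀ S₁ S₂ : Sylow q G, x ∈ Subgroup.normalizer ((S₁ : Subgroup G) : Set G) → x ∈ Subgroup.normalizer ((S₂ : Subgroup G) : Set G) → ∃ c ∈ Subgroup.centralizer ({x} : Set G), (S₁ : Subgroup G).map (MulAut.conj c).toMonoidHom = (S₂ : Subgroup G)) := by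
  refine ⟨fun Q hQ hxQ hmax =>
    CfsgLib.LocalEven.maximal_invariant_of_minimal hx hnz hmin hquot Q hQ hxQ hmax, ?_⟩
  intro S₁ S₂ h₁ h₂
  obtain ⟨g, rfl⟩ := MulAction.exists_smul_eq G S₁ S₂
  have h₂' : g⁻¹ * x * g⁻¹⁻¹ ∈ Subgroup.normalizer ((S₁ : Subgroup G) : Set G) := by
    replace h₂ : x • (g • S₁) = g • S₁ := Sylow.smul_eq_iff_mem_normalizer.2 h₂
    apply Sylow.smul_eq_iff_mem_normalizer.1
    rw [inv_inv, mul_smul, mul_smul, h₂, inv_smul_smul]
  obtain ⟨c, hc, hcx⟩ := CfsgLib.LocalEven.isolated_exists_conj hiso ⟨1, by rw [hx, pow_one]⟩ h₁ h₂'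
  refine ⟨(c * g⁻¹)⁻¹, inv_mem (Subgroup.mem_centralizer_singleton_iff.2 hcx), ?_⟩
  have h : ((c * g⁻¹)⁻¹ • S₁ : Sylow q G) = g • S₁ := by
    rw [mul_inv_rev, inv_inv, mul_smul, Sylow.smul_eq_iff_mem_normalizer.2 (inv_mem hc)]
  have h' := congrArg (fun S : Sylow q G => (S : Subgroup G)) h
  simp only [Sylow.coe_subgroup_smul] at h'
  exact h'

end Cfsg.Agent.S2975
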