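import Cfsg.Statements.S2981
import Cfsg.Agent.Lib.LocalEven.PMinFF.Blocks
import Cfsg.Agent.Lib.LocalEven.PMinFF.Moved
import Cfsg.Agent.Lib.LocalEven.MinimalOver
import Cfsg.Agent.Lib.LocalEven.Baumann
import Cfsg.Agent.Lib.Solvable.LagrangeConverse
open CfsgLib.LocalEven
open scoped commutatorElement

set_option autoImplicit false
open Cfsg

namespace Cfsg.Agent.S2981

/-- The local C**(G,T)-Theorem for minimal parabolic groups. Let G be a finite p-minimal group (a Sylow p-subgroup T is not normal and lies in exactly one maximal subgroup) of characteristic p (C_G(O_p(G)) ≤ O_p(G)), and suppose G ≠ C**(G,T), the subgroup generated by C_G(Ω₁(Z(T))) and N_G(J(T)) (J(T) generated by the elementary abelian p-subgroups of T of largest order). Put V = Ω₁(Z(O_p(G))) and C = C_G(V). Then there are subgroups E₁, …, E_r of G containing C such that: J(G)TC = G and the E_i C/C form an internal direct product equal to J(G)C/C; any two of the E_i are conjugate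 by an element of T; V = C_V(⟨E_i⟩)·∏[V, E_i] with [V, E_i, E_j] = 1 for i ≠ j; for some n ≥ 1, each E_i/C is isomorphic to SL₂(pⁿ), or p = 2 and to the symmetric group of degree 2ⁿ + 1; and E_i acts on [V, E_i]/C_{[V,E_i]}(E_i) as the natural two-dimensional SL₂(pⁿ)-module, respectively as the symmetric group of degree 2ⁿ+1 on its even-weight permutation module. -/
theorem result {G : Type*} [Group G] [Finite G] {p : ℕ} [Fact p.Prime] (hmin : Cfsg.IsPMinimal p G) (hG : Subgroup.centralizer (Cfsg.pCore p G : Set G) ≤ Cfsg.pCore p G) (T : Sylow p G) (hne : Cfsg.cStarStarOf p (T : Subgroup G) ≠ ⊤) : ∃ (r : ℕ) (E : Fin r → Subgroup G), (∀ i, Subgroup.centralizer (Cfsg.omegaOneCenter p (Cfsg.pCore p G) : Set G) ≤ E i) ∧ Cfsg.thompsonSubgroup p G ⊔ (T : Subgroup G) ⊔ Subgroup.centralizer (Cfsg.omegaOneCenter p (Cfsg.pCore p G) : Set G) = ⊤ ∧ (⨆ i, E i) = Cfsg.thompsonSubgroup p G ⊔ Subgroup.centralizer (Cfsg.omegaOneCenter p (Cfsg.pCore p G) : Set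 G) ∧ (∀ i j, i ≠ j → ⁅E i, E j⁆ ≤ Subgroup.centralizer (Cfsg.omegaOneCenter p (Cfsg.pCore p G) : Set G)) ∧ (∀ i, E i ⊓ (⨆ j ∈ {j | j ≠ i}, E j) ≤ Subgroup.centralizer (Cfsg.omegaOneCenter p (Cfsg.pCore p G) : Set G)) ∧ (∀ i j, ∃ t ∈ (T : Subgroup G), (E i).map (MulAut.conj t).toMonoidHom = E j) ∧ (Cfsg.omegaOneCenter p (Cfsg.pCore p G) ⊓ Subgroup.centralizer ((⨆ i, E i : Subgroup G) : Set G)) ⊔ (⨆ i, ⁅Cfsg.omegaOneCenter p (Cfsg.pCore p G), E i⁆) = Cfsg.omegaOneCenter p (Cfsg.pCore p G) ∧ (∀ i j, i ≠ j → ⁅⁅Cfsg.omegaOneCenter p (Cfsg.pCore p G), E i⁆, E j⁆ = ⊥) ∧ ∀ i, ∃ n : ℕ, 1 ≤ n ∧ ((∃ (F : Type) (_ : Field F) (_ : Fintype F), Fintype.card F = p ^ n ∧ (∃ _ : ((Subgroup.centralizer (Cfsg.omegaOneCenter p (Cfsg.pCore p G) : Set G)).subgroupOf (E i)).Normal, Nonempty (↥(E i) ⧸ (Subgroup.centralizer (Cfsg.omegaOneCenter p (Cfsg.pCore p G) : Set G)).subgroupOf (E i) ≃* Matrix.SpecialLinearGroup (Fin 2) F)) ∧ Cfsg.ActsAsSL2OnSection F ⊤ (E i) ⁅Cfsg.omegaOneCenter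 p (Cfsg.pCore p G), E i⁆ (⁅Cfsg.omegaOneCenter p (Cfsg.pCore p G), E i⁆ ⊓ Subgroup.centralizer ((E i : Subgroup G) : Set G))) ∨ (p = 2 ∧ (∃ _ : ((Subgroup.centralizer (Cfsg.omegaOneCenter p (Cfsg.pCore p G) : Set G)).subgroupOf (E i)).Normal, Nonempty (↥(E i) ⧸ (Subgroup.centralizer (Cfsg.omegaOneCenter p (Cfsg.pCore p G) : Set G)).subgroupOf (E i) ≃* Equiv.Perm (Fin (2 ^ n + 1)))) ∧ Cfsg.ActsAsOddPermModuleOnSection (2 ^ n + 1) ⊤ (E i) ⁅Cfsg.omegaOneCenter p (Cfsg.pCore p G), E i⁆ (⁅Cfsg.omegaOneCenter p (Cfsg.pCore p G), E i⁆ ⊓ Subgroup.centralizer ((E i : Subgroup G) : Set G)))) := by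
  classical
  set Q := Cfsg.pCore p G with hQdef
  set V := Cfsg.omegaOneCenter p Q with hVdef
  set C := Subgroup.centralizer (V : Set G) with hCdef
  haveI hQn : Q.Normal := by
    haveI := CfsgLib.Cores.pCore_characteristic (G := G) p
    infer_instance
  have hQp : IsPGroup p ↥Q := CfsgLib.Cores.isPGroup_pCore p
  have hQT : Q ≤ (T : Subgroup G) := CfsgLib.Cores.pCore_le_sylow T
  have hVQ : V ≤ Q := Oz.le_self Q
  haveI hVn : V.Normal := Subgroup.normalizer_eq_top_iff.1 (top_le_iff.1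
    ((Subgroup.normalizer_eq_top (H := Q)).ge.trans (Oz.normalizer_le Q)))
  have hVe : IsElementaryAbelian p V := Oz.elemAb Q
  haveI hCn : C.Normal := by rw [hCdef]; infer_instance
  have hQC : Q ≤ C := fun q hq => Subgroup.mem_centralizer_iff.2 fun v hv => ((Oz.mem_iff.1 hv).2.1 q hq).symm
  obtain ⟨M, ⟨hM, hTM⟩, huniq⟩ := (hmin T).2
  have huniq' : ∀ H : Subgroup G, (T : Subgroup G) ≤ H → H ≠ ⊤ → H ≤ M := fun H h1 h2 => MinOver.le_of_ne_top huniq h1 h2
  have hTC : (T : Subgroup G) ≤ Cfsg.cStarStarOf p (T : Subgroup G) := by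
    refine le_trans ?_ le_sup_left
    intro t ht
    exact Subgroup.mem_centralizer_iff.2 fun z hz => ((Oz.mem_iff.1 hz).2.1 t ht).symm
  have hCSM : Cfsg.cStarStarOf p (T : Subgroup G) ≤ M := huniq' _ hTC hne
  -- the centre of the Sylow subgroup lies in `V`
  have hZV : Cfsg.omegaOneCenter p (T : Subgroup G) ≤ V := by
    intro z hz
    obtain ⟨hzT, hzc, hzp⟩ := Oz.mem_iff.1 hz
    have hzQ : z ∈ Q := hG (Subgroup.mem_centralizer_iff.2 fun q hq => hzc q (hQT hq))
    exact Oz.mem_iff.2 ⟨hzQ, fun q hq => hzc q (hQT hq), hzp⟩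
  have hCM : C ≤ M := (Subgroup.centralizer_le hZV).trans (le_sup_left.trans hCSM)
  -- the quotient
  set π : G →* G ⧸ C := QuotientGroup.mk' C with hπdef
  have hπs : Function.Surjective π := QuotientGroup.mk'_surjective C
  have hπ1 : ∀ g : G, π g = 1 ↔ g ∈ C := fun g => QuotientGroup.eq_one_iff g
  set Tb : Sylow p (G ⧸ C) := T.mapSurjective hπs with hTb
  have hTbc : (Tb : Subgroup (G ⧸ C)) = (T : Subgroup G).map π := rfl
  letI : CommGroup ↥V :=
    { (inferInstance : Group ↥V) with mul_comm := fun a b => hVe.1.1.comm a b }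
  let f : G ⧸ C →* MulAut ↥V := QuotientGroup.lift C (MulAut.conjNormal (H := V)) fun c hc => by
    rw [MonoidHom.mem_ker]
    ext v
    rw [MulAut.conjNormal_apply, MulAut.one_apply, ← Subgroup.mem_centralizer_iff.1 hc v v.2, mul_inv_cancel_right]
  letI : DistribMulAction (G ⧸ C) (Additive ↥V) :=
    { smul := fun x v => Additive.ofMul (f x (Additive.toMul v))
      one_smul := fun v => by
        show Additive.ofMul (f 1 (Additive.toMul v)) = v
        rw [map_one, MulAut.one_apply, ofMul_toMul]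
      mul_smul := fun x y v => by
        show Additive.ofMul (f (x * y) (Additive.toMul v)) = Additive.ofMul (f x (f y (Additive.toMul v)))
        rw [map_mul, MulAut.mul_apply]
      smul_zero := fun x => congrArg Additive.ofMul (map_one (f x))
      smul_add := fun x a b => congrArg Additive.ofMul (map_mul (f x) (Additive.toMul a) (Additive.toMul b)) }
  have hsmul : ∀ (g : G) (v : Additive ↥V),
      ((Additive.toMul (π g • v) : ↥V) : G) = g * (Additive.toMul v : ↥V) * g⁻¹ := fun g v => MulAut.conjNormal_apply g _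
  have hext : ∀ v w : Additive ↥V, ((Additive.toMul v : ↥V) : G) = ((Additive.toMul w : ↥V) : G) → v = w :=
    fun v w e => Additive.toMul.injective (Subtype.ext e)
  -- fixed points
  have hfx : ∀ (K : Subgroup G) (v : Additive ↥V), v ∈ MinOffender.fx (Additive ↥V) (K.map π) ↔
      ((Additive.toMul v : ↥V) : G) ∈ V ⊓ Subgroup.centralizer (K : Set G) := by
    intro K v
    constructor
    · intro hv
      refine ⟨(Additive.toMul v).2, Subgroup.mem_centralizer_iff.2 fun g hg => ?_⟩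
      have h1 := congrArg (fun z : Additive ↥V => ((Additive.toMul z : ↥V) : G)) (hv (π g) ⟨g, hg, rfl⟩)
      simp only [hsmul] at h1
      exact mul_inv_eq_iff_eq_mul.1 h1
    · rintro hv _ ⟨g, hg, rfl⟩
      apply hext
      rw [hsmul, Subgroup.mem_centralizer_iff.1 hv.2 g hg, mul_inv_cancel_right]
  have hMc : ∀ g : G, π g ∈ M.map π → g ∈ M := fun g hg => by
    have h1 : g ∈ (M.map π).comap π := hg
    rwa [Subgroup.comap_map_eq_self (by rw [hπdef, QuotientGroup.ker_mk']; exact hCM)] at h1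
  have hTint : ∀ N : Subgroup G, N.Normal → N ≤ M → (T : Subgroup G) ⊓ N ≤ C := fun N hN hNM => by
    haveI := hN
    exact (MinOver.inf_le_pCore T hM huniq N hNM).trans hQC
  have hset : PMinFF.Setting p Tb (M.map π) (Additive ↥V) := by
    refine ⟨fun v => ?_, fun x hx => ?_, ?_, fun e => ?_, fun H hH hne' => ?_, fun E hE hEp => ?_, fun x hx => ?_⟩
    · apply hext
      rw [toMul_nsmul, Subgroup.coe_pow]
      exact hVe.2 _ (Additive.toMul v).2
    · obtain ⟨g, rfl⟩ := hπs x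
      refine (hπ1 g).2 (Subgroup.mem_centralizer_iff.2 fun v hv => ?_)
      have h1 := congrArg (fun z : Additive ↥V => ((Additive.toMul z : ↥V) : G)) (hx (Additive.ofMul ⟨v, hv⟩))
      simp only [hsmul] at h1
      exact (mul_inv_eq_iff_eq_mul.1 h1).symm
    · rw [hTbc]; exact Subgroup.map_mono hTM
    · exact hM.1 (top_le_iff.1 fun g _ => hMc g (e ▸ Subgroup.mem_top _))
    · have h1 : H.comap π ≤ M := huniq' _ (fun t ht => hH (by rw [hTbc]; exact ⟨t, ht, rfl⟩))
        fun e => hne' (by rw [← Subgroup.map_comap_eq_self_of_surjective hπs H, e, Subgroup.map_top_of_surjective _ hπs])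
      rw [← Subgroup.map_comap_eq_self_of_surjective hπs H]
      exact Subgroup.map_mono h1
    · haveI := hE
      have hKM : E.comap π ≤ M := fun g hg => hMc g (Subgroup.map_mono hTM (hTbc ▸ hEp.le_sylow_of_normal Tb hg))
      rw [Subgroup.eq_bot_iff_forall]
      intro x hx
      obtain ⟨g, rfl⟩ := hπs x
      obtain ⟨t, ht, hte⟩ : π g ∈ (T : Subgroup G).map π := hTbc ▸ hEp.le_sylow_of_normal Tb hx
      rw [← hte]
      exact (hπ1 t).2 (hTint _ (hE.comap π) hKM ⟨ht, show π t ∈ E from hte ▸ hx⟩)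
    · obtain ⟨g, rfl⟩ := hπs x
      refine ⟨g, hCSM (Subgroup.mem_sup_left (Subgroup.mem_centralizer_iff.2 fun z hz => ?_)), rfl⟩
      have h1 := congrArg (fun w : Additive ↥V => ((Additive.toMul w : ↥V) : G))
        (hx (Additive.ofMul ⟨z, hZV hz⟩) (by
          rw [hTbc]
          exact (hfx _ _).2 ⟨hZV hz, Subgroup.mem_centralizer_iff.2 (Oz.mem_iff.1 hz).2.1⟩))
      simp only [hsmul] at h1
      exact (mul_inv_eq_iff_eq_mul.1 h1).symm
  -- largest elementary abelian subgroups give offenders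
  have hoffA : ∀ A ∈ maxElementaryAbelianSubgroups p G, Nat.card (Additive ↥V) ≤
      Nat.card ↥(A.map π) * Nat.card ↥(MinOffender.fx (Additive ↥V) (A.map π)) := by
    intro A hA
    have hA0 : IsElementaryAbelian p (V ⊔ (A ⊓ C)) :=
      CfsgLib.PGroup.elemAb_sup hVe (CfsgLib.PGroup.isElementaryAbelian_mk
        (fun a ha b hb => CfsgLib.PGroup.elemAb_comm hA.1 ha.1 hb.1) fun a ha => hA.1.2 a ha.1)
        fun v hv a ha => Subgroup.mem_centralizer_iff.1 ha.2 v hv
    have h1 := hA.2 _ hA0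
    have h2 := CfsgLib.Solvable.card_sup_mul_card_inf V (A ⊓ C)
    have h3 : Nat.card ↥A = Nat.card ↥(A.map π) * Nat.card ↥(A ⊓ C : Subgroup G) := by
      let φ := π.subgroupMap A
      have hk : φ.ker = C.subgroupOf A := by
        ext a
        rw [MonoidHom.mem_ker, Subgroup.mem_subgroupOf, ← Subtype.val_inj]
        exact hπ1 _
      have e1 := Subgroup.card_eq_card_quotient_mul_card_subgroup φ.ker
      rw [Nat.card_congr (QuotientGroup.quotientKerEquivOfSurjective φ (π.subgroupMap_surjective A)).toEquiv] at e1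
      rw [e1, hk, Nat.card_congr (Subgroup.subgroupOfEquivOfLe (inf_le_left : A ⊓ C ≤ A)).symm.toEquiv,
        Subgroup.inf_subgroupOf_left]
    have h4 : Nat.card ↥(V ⊓ (A ⊓ C) : Subgroup G) ≤ Nat.card ↥(MinOffender.fx (Additive ↥V) (A.map π)) := by
      refine Nat.card_le_card_of_injective (fun w => (⟨Additive.ofMul ⟨(w : G), w.2.1⟩, (hfx _ _).2
        ⟨w.2.1, Subgroup.mem_centralizer_iff.2 fun a ha => CfsgLib.PGroup.elemAb_comm hA.1 ha w.2.2.1⟩⟩ :
        ↥(MinOffender.fx (Additive ↥V) (A.map π)))) fun w w' e => ?_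
      exact Subtype.ext (congrArg (fun z : ↥(MinOffender.fx (Additive ↥V) (A.map π)) =>
        ((Additive.toMul (z : Additive ↥V) : ↥V) : G)) e)
    rw [show Nat.card (Additive ↥V) = Nat.card ↥V from Nat.card_congr Additive.toMul]
    refine Nat.le_of_mul_le_mul_right (c := Nat.card ↥(A ⊓ C : Subgroup G)) ?_ Nat.card_pos
    rw [← h2]
    calc Nat.card ↥(V ⊔ A ⊓ C : Subgroup G) * Nat.card ↥(V ⊓ (A ⊓ C) : Subgroup G)
        ≤ Nat.card ↥A * Nat.card ↥(MinOffender.fx (Additive ↥V) (A.map π)) := Nat.mul_le_mul h1 h4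
      _ = _ := by rw [h3]; ring
  have hAp : ∀ A ∈ maxElementaryAbelianSubgroups p G, IsPGroup p ↥(A.map π) :=
    fun A hA => (CfsgLib.Transfer.maxEA_isPGroup hA).map _
  have hAc : ∀ A ∈ maxElementaryAbelianSubgroups p G, ∀ a ∈ A.map π, ∀ b ∈ A.map π, a * b = b * a := by
    rintro A hA _ ⟨a, ha, rfl⟩ _ ⟨b, hb, rfl⟩
    rw [← map_mul, ← map_mul, CfsgLib.PGroup.elemAb_comm hA.1 ha hb]
  -- one of them acts
  obtain ⟨A₀, hA₀, hA₀T, hA₀C⟩ :
      ∃ A ∈ maxElementaryAbelianSubgroups p G, A ≤ (T : Subgroup G) ∧ ¬ A ≤ C := by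
    by_contra hc
    push Not at hc
    obtain ⟨A₁, hA₁, hA₁T⟩ := CfsgLib.Transfer.exists_maxEA_le_sylow T
    have hJQ : Cfsg.thompsonSubgroupOf p (T : Subgroup G) ≤ Q := by
      refine Subgroup.map_le_iff_le_comap.2 (sSup_le fun B hB => Subgroup.map_le_iff_le_comap.1 ?_)
      have hBG := CfsgLib.Transfer.maxEA_map_subtype hA₁ hA₁T hB
      exact (le_inf (Subgroup.map_subtype_le _) (hc _ hBG (Subgroup.map_subtype_le _))).trans
        (MinOver.inf_le_pCore T hM huniq C hCM)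
    have hJG : Cfsg.thompsonSubgroup p G = Cfsg.thompsonSubgroupOf p (T : Subgroup G) := by
      rw [CfsgLib.Transfer.thompsonSubgroup_eq_iSup]
      exact le_antisymm (iSup_le fun S => (Baumann.thompson_eq_of_le (T := T) (T' := S)
        (hJQ.trans (CfsgLib.Cores.pCore_le_sylow S))).le) (le_iSup (fun S : Sylow p G =>
          Cfsg.thompsonSubgroupOf p (S : Subgroup G)) T)
    haveI hJn : (Cfsg.thompsonSubgroupOf p (T : Subgroup G)).Normal :=
      hJG ▸ CfsgLib.Transfer.thompsonSubgroup_normal_inst' p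
    refine hne (top_le_iff.1 (le_trans ?_ (le_sup_right : _ ≤ Cfsg.cStarStarOf p (T : Subgroup G))))
    rw [Subgroup.normalizer_eq_top_iff.2 hJn]
  have hex : ∃ A : Subgroup (G ⧸ C), PMinFF.Member p (Additive ↥V) A := by
    refine (PMinFF.exists_member (A := A₀.map π) (fun e => hA₀C fun a ha => (hπ1 a).1 ?_) (hAp _ hA₀) (hAc _ hA₀)
      (hoffA _ hA₀)).imp fun B hB => hB.2
    exact Subgroup.mem_bot.1 (e ▸ (⟨a, ha, rfl⟩ : π a ∈ A₀.map π))
  obtain ⟨r, E, hr, hcomm, hind, hsup, hcj, hdec, horth, hblk, hmemE, hEle⟩ := hset.structure_thm hex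
  -- the image of the Thompson subgroup
  set J := Cfsg.thompsonSubgroup p G with hJdef
  haveI hJn : J.Normal := CfsgLib.Transfer.thompsonSubgroup_normal_inst' p
  have hJn' : (J.map π).Normal := hJn.map _ hπs
  have hEnorm : (⨆ i, E i).Normal := by
    refine Subgroup.normalizer_eq_top_iff.1 (top_le_iff.1 (hsup.ge.trans (sup_le Subgroup.le_normalizer fun t ht =>
      CfsgLib.LocalEven.mem_normalizer_of_conj_le ?_)))
    rw [Subgroup.map_iSup]
    refine iSup_le fun i => Subgroup.map_le_iff_le_comap.2 ((hEle i).trans (iSup_le fun B => ?_))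
    exact Subgroup.map_le_iff_le_comap.1
      ((PMinFF.blk_conj hset ht).ge.trans (hmemE _ (PMinFF.InT.conj hset B.2 ht)))
  have hJE : J.map π = ⨆ i, E i := by
    refine le_antisymm ?_ (iSup_le fun i => (hEle i).trans (iSup_le fun B => ?_))
    · rw [Subgroup.map_le_iff_le_comap, hJdef]
      refine sSup_le fun A hA => ?_
      obtain ⟨S, hS⟩ := (CfsgLib.Transfer.maxEA_isPGroup hA).exists_le_sylow
      obtain ⟨g, hg⟩ := MulAction.exists_smul_eq G S T
      set A' := A.map (MulAut.conj g).toMonoidHom with hA'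
      have hA'm : A' ∈ maxElementaryAbelianSubgroups p G := CfsgLib.Transfer.maxEA_map (MulAut.conj g) hA
      have hA'T : A' ≤ (T : Subgroup G) := by
        rw [← hg, Sylow.coe_subgroup_smul]
        exact Subgroup.map_mono hS
      have hle : A'.map π ≤ ⨆ i, E i := by
        obtain ⟨-, hsupB⟩ := hset.bound (Nat.card ↥(A'.map π) + 1) (A'.map π) (Nat.lt_succ_self _)
          (hTbc ▸ Subgroup.map_mono hA'T) (hAc _ hA'm)
        refine (hsupB (hoffA _ hA'm)).2.trans (iSup_le fun B => ?_)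
        exact (PMinFF.InT.blk_min hset B.2.1).aLe.trans (hmemE _ B.2.1)
      intro a ha
      have h1 : π (g * a * g⁻¹) ∈ ⨆ i, E i := hle ⟨g * a * g⁻¹, ⟨a, ha, rfl⟩, rfl⟩
      show π a ∈ ⨆ i, E i
      have h2 := hEnorm.conj_mem _ h1 (π g)⁻¹
      simpa [mul_assoc] using h2
    · -- every member lies in the image
      obtain ⟨B₁, hB₁A, hB₁⟩ := PMinFF.exists_member (A := A₀.map π)
        (fun e => hA₀C fun a ha => (hπ1 a).1 (Subgroup.mem_bot.1 (e ▸ (⟨a, ha, rfl⟩ : π a ∈ A₀.map π))))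
        (hAp _ hA₀) (hAc _ hA₀) (hoffA _ hA₀)
      have hB₁T : PMinFF.InT p Tb (Additive ↥V) B₁ := ⟨hB₁, hB₁A.trans (hTbc ▸ Subgroup.map_mono hA₀T)⟩
      have hAJ : A₀.map π ≤ J.map π := Subgroup.map_mono (CfsgLib.Transfer.le_thompsonSubgroup hA₀)
      obtain ⟨t, -, he⟩ := PMinFF.InT.exists_conj hset hB₁T B.2
      haveI := hJn'
      have hBJ : B.1 ≤ J.map π := by
        rw [he]
        rintro _ ⟨x, hx, rfl⟩
        exact hJn'.conj_mem _ (hAJ (hB₁A hx)) t
      refine iSup₂_le fun n _ => ?_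
      rintro _ ⟨x, hx, rfl⟩
      exact hJn'.conj_mem _ (hBJ hx) n
  -- the preimages
  set E' : Fin r → Subgroup G := fun i => (E i).comap π with hE'
  have hmapE : ∀ i, (E' i).map π = E i := fun i => Subgroup.map_comap_eq_self_of_surjective hπs _
  have hCE : ∀ i, C ≤ E' i := fun i c hc => show π c ∈ E i by rw [(hπ1 c).2 hc]; exact one_mem _
  have hcomap : ∀ H : Subgroup G, (H.map π).comap π = H ⊔ C := fun H => by
    rw [Subgroup.comap_map_eq, hπdef, QuotientGroup.ker_mk']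
  have hsupE : (⨆ i, E' i) = J ⊔ C := by
    refine le_antisymm (iSup_le fun i => ?_) ?_
    · rw [← hcomap, hJE]
      exact Subgroup.comap_mono (le_iSup E i)
    · haveI : Nonempty (Fin r) := ⟨⟨0, hr⟩⟩
      intro g hg
      have h1 : π g ∈ (⨆ i, E' i).map π := by
        rw [Subgroup.map_iSup]
        simp only [hmapE]
        rw [← hJE]
        have h2 : g ∈ (J.map π).comap π := by rw [hcomap]; exact hg
        exact h2
      obtain ⟨e, he, hee⟩ := h1
      have h3 : e⁻¹ * g ∈ C := (hπ1 _).1 (by rw [map_mul, map_inv, hee, inv_mul_cancel])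
      have h4 := Subgroup.mul_mem _ he ((le_iSup E' ⟨0, hr⟩) (hCE ⟨0, hr⟩ h3))
      rwa [mul_inv_cancel_left] at h4
  have hVle : ∀ i, ⁅V, E' i⁆ ≤ V := fun i => Subgroup.commutator_le_left V (E' i)
  -- commutators
  have hmv : ∀ i (v : Additive ↥V),
      v ∈ PMinFF.mv (Additive ↥V) (E i) ↔ ((Additive.toMul v : ↥V) : G) ∈ ⁅V, E' i⁆ := by
    intro i v
    constructor
    · let U : AddSubgroup (Additive ↥V) := Subgroup.toAddSubgroup (⁅V, E' i⁆.subgroupOf V)
      refine fun hv => (PMinFF.mv_le (U := U) fun x hx m => ?_) hv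
      obtain ⟨g, rfl⟩ := hπs x
      show ((Additive.toMul (π g • m - m) : ↥V) : G) ∈ ⁅V, E' i⁆
      rw [toMul_sub, div_eq_mul_inv, Subgroup.coe_mul, Subgroup.coe_inv, hsmul]
      have h1 := inv_mem (Subgroup.commutator_mem_commutator (Additive.toMul m).2 (show g ∈ E' i from hx))
      rw [commutatorElement_inv, commutatorElement_def] at h1
      exact h1
    · intro hv
      let K : Subgroup G :=
        { carrier := {x | ∃ hx : x ∈ V, Additive.ofMul (⟨x, hx⟩ : ↥V) ∈ PMinFF.mv (Additive ↥V) (E i)}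
          one_mem' := ⟨one_mem V, zero_mem _⟩
          mul_mem' := by
            rintro a b ⟨ha, ha'⟩ ⟨hb, hb'⟩
            exact ⟨mul_mem ha hb, add_mem ha' hb'⟩
          inv_mem' := by
            rintro a ⟨ha, ha'⟩
            exact ⟨inv_mem ha, neg_mem ha'⟩ }
      have hK : ⁅V, E' i⁆ ≤ K := by
        rw [Subgroup.commutator_le]
        rintro x hx g hg
        refine ⟨hVle i (Subgroup.commutator_mem_commutator hx hg), ?_⟩
        convert neg_mem (PMinFF.sub_mem_mv (show π g ∈ E i from hg) (Additive.ofMul (⟨x, hx⟩ : ↥V))) using 1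
        apply hext
        rw [toMul_neg, Subgroup.coe_inv, toMul_sub, div_eq_mul_inv, Subgroup.coe_mul, Subgroup.coe_inv, hsmul]
        show x * g * x⁻¹ * g⁻¹ = (g * x * g⁻¹ * x⁻¹)⁻¹
        group
      obtain ⟨hx, hx'⟩ := hK hv
      exact hx'
  refine ⟨r, E', hCE, ?_, hsupE, fun i j hij => ?_, fun i => ?_, fun i j => ?_, ?_, fun i j hij => ?_, fun i => ?_⟩
  · rw [eq_top_iff]
    intro g _
    have h1 : π g ∈ (J ⊔ (T : Subgroup G)).map π := by
      rw [Subgroup.map_sup, hJE, ← hTbc, hsup]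
      exact Subgroup.mem_top _
    have h2 : g ∈ ((J ⊔ (T : Subgroup G)).map π).comap π := h1
    rwa [hcomap] at h2
  · rw [Subgroup.commutator_le]
    intro x hx y hy
    refine (hπ1 _).1 ?_
    rw [map_commutatorElement]
    exact commutatorElement_eq_one_iff_mul_comm.2 (hcomm i j hij _ hx _ hy)
  · rintro g ⟨hg, hg'⟩
    refine (hπ1 g).1 ?_
    have h1 : π g ∈ E i ⊓ ⨆ j ∈ {j | j ≠ i}, E j := by
      refine ⟨hg, ?_⟩
      show π g ∈ ⨆ j ∈ {j | j ≠ i}, E j
      have h2 : π g ∈ (⨆ j ∈ {j | j ≠ i}, E' j).map π := ⟨g, hg', rfl⟩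
      simpa only [Subgroup.map_iSup, hmapE] using h2
    rwa [hind i, Subgroup.mem_bot] at h1
  · obtain ⟨x, hx, e⟩ := hcj i j
    obtain ⟨t, ht, rfl⟩ := hTbc ▸ hx
    refine ⟨t, ht, Subgroup.ext fun g => ⟨?_, fun hg => ⟨t⁻¹ * g * t, ?_, by simp [mul_assoc]⟩⟩⟩
    · rintro ⟨y, hy, rfl⟩
      show π (t * y * t⁻¹) ∈ E j
      rw [← e, map_mul, map_mul, map_inv]
      exact CfsgLib.Fusion.conj_mem_conjSub hy
    · show π (t⁻¹ * g * t) ∈ E i
      have h1 : π g ∈ CfsgLib.Fusion.conjSub (π t) (E i) := e ▸ hg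
      rw [map_mul, map_mul, map_inv]
      exact CfsgLib.Fusion.mem_conjSub.1 h1
  · refine le_antisymm (sup_le inf_le_left (iSup_le hVle)) fun x hx => ?_
    obtain ⟨a, ha, b, hb, e⟩ := AddSubgroup.mem_sup.1 (hdec ▸ AddSubgroup.mem_top (Additive.ofMul (⟨x, hx⟩ : ↥V)))
    have e' : ((Additive.toMul a : ↥V) : G) * ((Additive.toMul b : ↥V) : G) = x :=
      congrArg (fun z : Additive ↥V => ((Additive.toMul z : ↥V) : G)) e
    rw [← e']
    refine mul_mem (Subgroup.mem_sup_left ((hfx (⨆ i, E' i) a).1 ?_)) (Subgroup.mem_sup_right ?_)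
    · simpa only [Subgroup.map_iSup, hmapE] using ha
    · let U : AddSubgroup (Additive ↥V) := Subgroup.toAddSubgroup ((⨆ i, ⁅V, E' i⁆).subgroupOf V)
      exact (iSup_le fun i v hv => (le_iSup (fun i => ⁅V, E' i⁆) i) ((hmv i v).1 hv) :
        (⨆ i, PMinFF.mv (Additive ↥V) (E i)) ≤ U) hb
  · refine Subgroup.commutator_eq_bot_iff_le_centralizer.2 fun x hx => ?_
    exact ((hfx (E' j) (Additive.ofMul ⟨x, hVle i hx⟩)).1 (by
      rw [hmapE]; exact horth i j hij ((hmv i _).2 hx))).2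
  · obtain ⟨hsplit, n, hn, hdata⟩ := hblk i
    set U := ⁅V, E' i⁆ with hU
    have hnorm : E' i ≤ Subgroup.normalizer (U : Set G) := by
      intro g hg
      refine CfsgLib.Fusion.mem_normalizer_of_forall fun x hx => ?_
      have h1 := PMinFF.smul_mem_mv (Subgroup.le_normalizer (show π g ∈ E i from hg))
        ((hmv i (Additive.ofMul ⟨x, hVle i hx⟩)).2 hx)
      have h2 := (hmv i _).1 h1
      rw [hsmul] at h2
      exact h2
    let res : ↥(E' i) →* ↥(E i) := (π.comp (E' i).subtype).codRestrict (E i) fun g => g.2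
    have hres : Function.Surjective res := fun x => by
      obtain ⟨g, hg⟩ := hπs x.1
      exact ⟨⟨g, show π g ∈ E i from hg ▸ x.2⟩, Subtype.ext hg⟩
    have hresk : res.ker = C.subgroupOf (E' i) := by
      ext g
      rw [MonoidHom.mem_ker, Subgroup.mem_subgroupOf, ← Subtype.val_inj]
      exact hπ1 _
    have hnq : (C.subgroupOf (E' i)).Normal := hresk ▸ MonoidHom.normal_ker res
    haveI := hnq
    let q : ↥(E' i) ⧸ C.subgroupOf (E' i) ≃* ↥(E i) :=
      (QuotientGroup.quotientMulEquivOfEq hresk.symm).trans (QuotientGroup.quotientKerEquivOfSurjective res hres)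
    let toM : ↥U → Additive ↥V := fun u => Additive.ofMul (⟨(u : G), hVle i u.2⟩ : ↥V)
    have hker : ∀ u : ↥U, toM u ∈ MinOffender.fx (Additive ↥V) (E i) ↔
        (u : G) ∈ U ⊓ Subgroup.centralizer ((E' i : Subgroup G) : Set G) := fun u => by
      rw [← hmapE i, hfx]
      exact ⟨fun hu => ⟨u.2, hu.2⟩, fun hu => ⟨hVle i u.2, hu.2⟩⟩
    have hlift : ∀ m : Additive ↥V, ∃ u : ↥U, m - toM u ∈ MinOffender.fx (Additive ↥V) (E i) := fun m => by
      obtain ⟨a, ha, b, hb, e⟩ := AddSubgroup.mem_sup.1 (hsplit ▸ AddSubgroup.mem_top m)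
      refine ⟨⟨_, (hmv i a).1 ha⟩, ?_⟩
      rw [show m - toM ⟨_, (hmv i a).1 ha⟩ = b by rw [← e]; exact add_sub_cancel_left a b]
      exact hb
    have hact : ∀ (g : ↥(E' i)) (u : ↥U), ∃ w : ↥U, (w : G) = (g : G) * (u : G) * (g : G)⁻¹ ∧
        toM w = ((res g : ↥(E i)) : G ⧸ C) • toM u := fun g u =>
      ⟨⟨_, (Subgroup.mem_normalizer_iff.1 (hnorm g.2) u).1 u.2⟩, rfl, hext _ _ (hsmul (g : G) (toM u)).symm⟩
    refine ⟨n, hn, ?_⟩
    rcases hdata with ⟨F, iF, iFF, hF, ρ, ψ, hρ, hψs, hψk, hψ⟩ | ⟨hp2, ρ, ψ, hρ, hsum, hsurj, hψk, hψ⟩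
    · refine Or.inl ⟨F, iF, iFF, hF, ⟨hnq, ⟨q.trans (MulEquiv.ofBijective ρ hρ)⟩⟩, hnorm, inf_le_left, ρ.comp res,
        { toFun := fun u => Multiplicative.ofAdd (ψ (toM u))
          map_one' := congrArg Multiplicative.ofAdd (map_zero ψ)
          map_mul' := fun u v => congrArg Multiplicative.ofAdd (map_add ψ (toM u) (toM v)) },
        MonoidHom.range_eq_top.2 (hρ.2.comp hres), fun w => ?_, fun u => ?_, fun g u => ?_⟩
      · obtain ⟨m, hm⟩ := hψs (Multiplicative.toAdd w)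
        obtain ⟨u, hu⟩ := hlift m
        refine ⟨u, ?_⟩
        rw [← hψk, map_sub, sub_eq_zero, hm] at hu
        exact congrArg Multiplicative.ofAdd hu.symm
      · show Multiplicative.ofAdd (ψ (toM u)) = 1 ↔ _
        rw [← hker, ← hψk]
        exact ⟨fun e0 => congrArg Multiplicative.toAdd e0, fun e0 => congrArg Multiplicative.ofAdd e0⟩
      · obtain ⟨w, hw, hw'⟩ := hact g u
        exact ⟨w, hw, (congrArg ψ hw').trans (hψ (res g) (toM u))⟩
    · refine Or.inr ⟨hp2, ⟨hnq, ⟨q.trans (MulEquiv.ofBijective ρ hρ)⟩⟩, hnorm, inf_le_left, ρ.comp res,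
        { toFun := fun u => Multiplicative.ofAdd (ψ (toM u))
          map_one' := congrArg Multiplicative.ofAdd (map_zero ψ)
          map_mul' := fun u v => congrArg Multiplicative.ofAdd (map_add ψ (toM u) (toM v)) },
        MonoidHom.range_eq_top.2 (hρ.2.comp hres), fun u => hsum (toM u), fun w hw => ?_, fun u => ?_,
        fun g u => ?_⟩
      · obtain ⟨m, hm⟩ := hsurj w hw
        obtain ⟨u, hu⟩ := hlift m
        refine ⟨u, ?_⟩
        rw [← hψk, map_sub, sub_eq_zero, hm] at hu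
        exact hu.symm
      · show Multiplicative.ofAdd (ψ (toM u)) = 1 ↔ _
        rw [← hker, ← hψk]
        exact ⟨fun e0 => congrArg Multiplicative.toAdd e0, fun e0 => congrArg Multiplicative.ofAdd e0⟩
      · obtain ⟨w, hw, hw'⟩ := hact g u
        exact ⟨w, hw, fun j => (congrArg (fun z => ψ z j) hw').trans (hψ (res g) (toM u) j)⟩

end Cfsg.Agent.S2981
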