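import Cfsg.Statements.S2998
import Cfsg.Agent.Lib.LocalEven.Isolated

set_option autoImplicit false
open Cfsg

namespace Cfsg.Agent.S2998

/-- Let G be a finite group, p a prime, P a Sylow p-subgroup of G and x ∈ P an element such that N_G(R) ≤ C_G(x) for every nontrivial subgroup R of P. Then P ≤ C_G(x); every G-conjugate of x lying in P equals x (so g ∈ C_G(x) whenever g x g⁻¹ ∈ P); and for every normal subgroup N of G, the image of x in G ⧸ N has the same property with respect to the image of P: the normalizer of every nontrivial subgroup of the image of P centralizes the image of x. -/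
theorem result {G : Type*} [Group G] [Finite G] {p : ℕ} [Fact p.Prime] (P : Sylow p G) (x : G) (hxP : x ∈ (P : Subgroup G)) (hlc : ∀ R : Subgroup G, R ≤ (P : Subgroup G) → R ≠ ⊥ → Subgroup.normalizer (R : Set G) ≤ Subgroup.centralizer ({x} : Set G)) : (P : Subgroup G) ≤ Subgroup.centralizer ({x} : Set G) ∧ (∀ g : G, g * x * g⁻¹ ∈ (P : Subgroup G) → g * x * g⁻¹ = x) ∧ ∀ (N : Subgroup G) [N.Normal], ∀ R : Subgroup (G ⧸ N), R ≤ (P : Subgroup G).map (QuotientGroup.mk' N) → R ≠ ⊥ → Subgroup.normalizer (R : Set (G ⧸ N)) ≤ Subgroup.centralizer ({(QuotientGroup.mk x : G ⧸ N)} : Set (G ⧸ N)) := by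
  classical
  have hPC : (P : Subgroup G) ≤ Subgroup.centralizer ({x} : Set G) := by
    by_cases hb : (P : Subgroup G) = ⊥
    · rw [hb]; exact bot_le
    · exact Subgroup.le_normalizer.trans (hlc _ le_rfl hb)
  refine ⟨hPC, fun g hg => ?_, ?_⟩
  · by_cases hx1 : x = 1
    · simp [hx1]
    have hy1 : g * x * g⁻¹ ≠ 1 := by simpa [conj_eq_one_iff] using hx1
    have hN := hlc (Subgroup.zpowers (g * x * g⁻¹)) (Subgroup.zpowers_le.2 hg) (by simpa using hy1)
    have hconj : (P : Subgroup G).map (MulAut.conj g).toMonoidHom ≤ Subgroup.centralizer ({x} : Set G) := by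
      rintro _ ⟨u, hu, rfl⟩
      refine hN (CfsgLib.LocalEven.mem_normalizer_of_conj_le ?_)
      rintro _ ⟨v, hv, rfl⟩
      obtain ⟨i, rfl⟩ := Subgroup.mem_zpowers_iff.1 hv
      have hux : u * x * u⁻¹ = x :=
        mul_inv_eq_iff_eq_mul.2 (Subgroup.mem_centralizer_singleton_iff.1 (hPC hu))
      refine Subgroup.mem_zpowers_iff.2 ⟨i, ?_⟩
      show _ = (g * u * g⁻¹) * (g * x * g⁻¹) ^ i * (g * u * g⁻¹)⁻¹
      rw [← conj_zpow]
      congr 1
      calc g * x * g⁻¹ = g * (u * x * u⁻¹) * g⁻¹ := by rw [hux]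
        _ = _ := by group
    obtain ⟨c, hc, R, hR, -, hPR, hcR⟩ := CfsgLib.LocalEven.exists_conj_common_pGroup
      (p := p) hPC hconj P.2 (P.2.map _)
    have hRP := P.is_maximal' hR hPR
    rw [hRP] at hcR
    have hcg : c * g ∈ Subgroup.normalizer ((P : Subgroup G) : Set G) := by
      refine CfsgLib.LocalEven.mem_normalizer_of_conj_le ?_
      rintro _ ⟨u, hu, rfl⟩
      have := hcR ⟨_, ⟨u, hu, rfl⟩, rfl⟩
      simpa [mul_assoc] using this
    have hcgx := hlc _ le_rfl (fun hb => hx1 (by simpa [hb] using hxP)) hcg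
    have hgx := Subgroup.mul_mem _ (Subgroup.inv_mem _ hc) hcgx
    rw [inv_mul_cancel_left] at hgx
    exact mul_inv_eq_iff_eq_mul.2 (Subgroup.mem_centralizer_singleton_iff.1 hgx)
  · intro N hN R hR hR1 r hr
    obtain ⟨g, rfl⟩ := QuotientGroup.mk'_surjective N r
    set f := QuotientGroup.mk' N with hf
    set X := R.comap f with hX
    set P₀ := (P : Subgroup G) ⊓ X with hP₀
    have hdec : ∀ u ∈ X, ∃ q ∈ P₀, ∃ n ∈ N, u = q * n := by
      intro u hu
      obtain ⟨q, hq, hqu⟩ := hR (Subgroup.mem_comap.1 hu)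
      refine ⟨q, ⟨hq, Subgroup.mem_comap.2 (by rw [hqu]; exact hu)⟩, q⁻¹ * u, ?_, by group⟩
      exact QuotientGroup.eq.1 hqu
    have hP₀1 : P₀ ≠ ⊥ := by
      intro hb
      refine hR1 (eq_bot_iff.2 fun v hv => ?_)
      obtain ⟨u, rfl⟩ := QuotientGroup.mk'_surjective N v
      obtain ⟨q, hq, n, hn, rfl⟩ := hdec u (Subgroup.mem_comap.2 hv)
      rw [hb, Subgroup.mem_bot] at hq
      rw [hq, one_mul, Subgroup.mem_bot]
      exact (QuotientGroup.eq_one_iff n).2 hn
    have hgX : ∀ u ∈ X, g * u * g⁻¹ ∈ X := by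
      intro u hu
      simp only [hX, Subgroup.mem_comap, map_mul, map_inv]
      exact (Subgroup.mem_normalizer_iff.1 hr _).1 (Subgroup.mem_comap.1 hu)
    obtain ⟨c, hc, R', hR', hR'X, hPR, hcR⟩ := CfsgLib.LocalEven.exists_conj_common_pGroup
      (p := p) (inf_le_right : P₀ ≤ X) (show P₀.map (MulAut.conj g).toMonoidHom ≤ X by
        rintro _ ⟨u, hu, rfl⟩; exact hgX u hu.2)
      (P.2.to_le inf_le_left) ((P.2.to_le inf_le_left).map _)
    have hPN : (P : Subgroup G) ⊓ N ≤ R' := by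
      refine le_trans ?_ hPR
      refine le_inf inf_le_left fun u hu => Subgroup.mem_comap.2 ?_
      have h1 : f u = 1 := (QuotientGroup.eq_one_iff u).2 hu.2
      rw [h1]; exact R.one_mem
    have hRN : R' ⊓ N = (P : Subgroup G) ⊓ N := by
      refine (Subgroup.eq_of_le_of_card_ge (le_inf hPN inf_le_right) ?_).symm
      obtain ⟨Q, hQ⟩ := IsPGroup.exists_le_sylow (hR'.to_le (inf_le_left : R' ⊓ N ≤ R'))
      obtain ⟨d, hd⟩ := MulAction.exists_smul_eq G Q P
      rw [← CfsgLib.LocalEven.card_map_conj (R' ⊓ N) d]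
      refine Subgroup.card_le_of_le (le_inf ?_ ?_)
      · rw [← hd, Sylow.coe_subgroup_smul]
        rintro _ ⟨u, hu, rfl⟩
        exact ⟨u, hQ hu, rfl⟩
      · rintro _ ⟨u, hu, rfl⟩
        exact hN.conj_mem u hu.2 d
    have hR'P : R' ≤ P₀ := by
      intro v hv
      obtain ⟨q, hq, n, hn, rfl⟩ := hdec v (hR'X hv)
      have hnR : n ∈ R' ⊓ N := ⟨by simpa using R'.mul_mem (R'.inv_mem (hPR hq)) hv, hn⟩
      rw [hRN] at hnR
      exact ⟨Subgroup.mul_mem _ hq.1 hnR.1, hR'X hv⟩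
    have hcg : c * g ∈ Subgroup.normalizer (P₀ : Set G) := by
      refine CfsgLib.LocalEven.mem_normalizer_of_conj_le ?_
      rintro _ ⟨u, hu, rfl⟩
      have := hR'P (hcR ⟨_, ⟨u, hu, rfl⟩, rfl⟩)
      simpa [mul_assoc] using this
    have hcgx := Subgroup.mem_centralizer_singleton_iff.1 (hlc P₀ inf_le_left hP₀1 hcg)
    obtain ⟨q, hq, hqc⟩ := hR (Subgroup.mem_comap.1 hc)
    have h1 : Commute (f c) (f x) := by
      rw [← hqc]
      rw [commute_iff_eq, ← map_mul, ← map_mul, Subgroup.mem_centralizer_singleton_iff.1 (hPC hq)]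
    have h2 : Commute (f c * f g) (f x) := by
      rw [commute_iff_eq, ← map_mul, ← map_mul, ← map_mul, hcgx]
    have h3 := h1.inv_left.mul_left h2
    rw [inv_mul_cancel_left] at h3
    exact Subgroup.mem_centralizer_singleton_iff.2 h3

end Cfsg.Agent.S2998
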