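import Cfsg.Statements.S2999
import Cfsg.Agent.Lib.LocalEven.MinOffender.Main

set_option autoImplicit false
open Cfsg
open CfsgLib.LocalEven
open scoped commutatorElement

namespace Cfsg.Agent.S2999

/-- Let p be a prime and let P and V be subgroups of a finite group with V elementary abelian, P normalizing V and acting faithfully on it (P ∩ C(V) = 1). Suppose P is p-minimal (a Sylow p-subgroup T of P is not normal and lies in a unique maximal subgroup M of P) and A ≤ T is an elementary abelian subgroup such that: |V/C_V(A)| ≤ |A| while |A₀|·|C_V(A₀)| < |A|·|C_V(A)| for every nontrivial proper subgroup A₀ of A; [C_V(T), P] ≠ 1; and P = ⟨A, xAx⁻¹⟩ for every x ∈ P outside M. Then, with q = |A|, there is a field F with q elements such that P ≅ SL₂(F), C_V(A) = [V, A]·C_V(P), and P acts on V/C_V(P) as SL₂(F) on its natural two-dimensional module. -/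
theorem result {G : Type*} [Group G] [Finite G] {p : ℕ} [Fact p.Prime] (V P : Subgroup G) (hV : Cfsg.IsElementaryAbelian p V) (hPV : P ≤ Subgroup.normalizer (V : Set G)) (hfaith : P ⊓ Subgroup.centralizer (V : Set G) = ⊥) (hmin : Cfsg.IsPMinimal p ↥P) (T : Sylow p ↥P) (M : Subgroup ↥P) (hM : IsCoatom M) (hTM : (T : Subgroup ↥P) ≤ M) (A : Subgroup G) (hAT : A ≤ ((T : Subgroup ↥P).map P.subtype)) (hAel : Cfsg.IsElementaryAbelian p A) (hi : Nat.card ↥V ≤ Nat.card ↥A * Nat.card ↥(V ⊓ Subgroup.centralizer ((A : Subgroup G) : Set G)) ∧ ∀ A₀ : Subgroup G, A₀ ≤ A → A₀ ≠ ⊥ → A₀ ≠ A → Nat.card ↥A₀ * Nat.card ↥(V ⊓ Subgroup.centralizer ((A₀ : Subgroup G) : Set G)) < Nat.card ↥A * Nat.card ↥(V ⊓ Subgroup.centralizer ((A : Subgroup G) : Set G))) (hii : ⁅(V ⊓ Subgroup.centralizer ((((T : Subgroup ↥P).map P.subtype) : Subgroup G) : Set G)), P⁆ ≠ ⊥) (hiii : ∀ x : ↥P, x ∉ M → A ⊔ A.map (MulAut.conj (x : G)).toMonoidHom = P) : ∃ (F : Type) (_ : Field F) (_ : Fintype F), Fintype.card F = Nat.card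 ↥A ∧ Nonempty (↥P ≃* Matrix.SpecialLinearGroup (Fin 2) F) ∧ (V ⊓ Subgroup.centralizer ((A : Subgroup G) : Set G)) = ⁅V, A⁆ ⊔ (V ⊓ Subgroup.centralizer ((P : Subgroup G) : Set G)) ∧ Cfsg.ActsAsSL2OnSection F ⊤ P V (V ⊓ Subgroup.centralizer ((P : Subgroup G) : Set G)) := by
  classical
  haveI := hV.1
  have hAP : A ≤ P := hAT.trans (Subgroup.map_subtype_le _)
  have hconj : ∀ (g : ↥P) (v : ↥V), (g : G) * v * (g : G)⁻¹ ∈ V := fun g v =>
    (Subgroup.mem_normalizer_iff.1 (hPV g.2) v).1 v.2
  letI : CommGroup ↥V :=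
    { (inferInstance : Group ↥V) with mul_comm := fun a b => hV.1.1.comm a b }
  letI : MulDistribMulAction ↥P ↥V :=
    { smul := fun g v => ⟨(g : G) * v * (g : G)⁻¹, hconj g v⟩
      one_smul := fun v => Subtype.ext (by
        show ((1 : ↥P) : G) * v * ((1 : ↥P) : G)⁻¹ = v
        simp)
      mul_smul := fun g g' v => Subtype.ext (by
        show ((g * g' : ↥P) : G) * v * ((g * g' : ↥P) : G)⁻¹ = (g : G) * ((g' : G) * v * (g' : G)⁻¹) * (g : G)⁻¹
        simp [mul_assoc])
      smul_mul := fun g a b => Subtype.ext (by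
        show (g : G) * ((a : G) * b) * (g : G)⁻¹ = ((g : G) * a * (g : G)⁻¹) * ((g : G) * b * (g : G)⁻¹)
        group)
      smul_one := fun g => Subtype.ext (by
        show (g : G) * ((1 : ↥V) : G) * (g : G)⁻¹ = ((1 : ↥V) : G)
        simp) }
  letI : DistribMulAction ↥P (Additive ↥V) :=
    { smul := fun g v => Additive.ofMul (g • Additive.toMul v)
      one_smul := fun v => congrArg Additive.ofMul (one_smul ↥P (Additive.toMul v))
      mul_smul := fun g g' v => congrArg Additive.ofMul (mul_smul g g' (Additive.toMul v))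
      smul_zero := fun g => congrArg Additive.ofMul (smul_one g : g • (1 : ↥V) = 1)
      smul_add := fun g a b => congrArg Additive.ofMul (smul_mul' g (Additive.toMul a) (Additive.toMul b)) }
  have hsmul : ∀ (g : ↥P) (v : Additive ↥V),
      ((Additive.toMul (g • v) : ↥V) : G) = (g : G) * (Additive.toMul v : ↥V) * (g : G)⁻¹ := fun g v => rfl
  -- fixed points
  have hfx : ∀ (H : Subgroup ↥P) (v : Additive ↥V), v ∈ MinOffender.fx (Additive ↥V) H ↔
      ((Additive.toMul v : ↥V) : G) ∈ V ⊓ Subgroup.centralizer ((H.map P.subtype : Subgroup G) : Set G) := by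
    intro H v
    constructor
    · intro hv
      refine ⟨(Additive.toMul v).2, Subgroup.mem_centralizer_iff.2 ?_⟩
      rintro _ ⟨h, hh, rfl⟩
      have h1 := congrArg (fun z : Additive ↥V => ((Additive.toMul z : ↥V) : G)) (hv h hh)
      simp only [hsmul] at h1
      exact mul_inv_eq_iff_eq_mul.1 h1
    · intro hv h hh
      apply Additive.toMul.injective
      apply Subtype.ext
      rw [hsmul, Subgroup.mem_centralizer_iff.1 hv.2 (h : G) ⟨h, hh, rfl⟩, mul_inv_cancel_right]
  have hcard : ∀ H : Subgroup ↥P, Nat.card ↥(MinOffender.fx (Additive ↥V) H) =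
      Nat.card ↥(V ⊓ Subgroup.centralizer ((H.map P.subtype : Subgroup G) : Set G)) := fun H =>
    Nat.card_congr
      { toFun := fun v => ⟨_, (hfx H v).1 v.2⟩
        invFun := fun w => ⟨Additive.ofMul ⟨(w : G), w.2.1⟩, (hfx H _).2 w.2⟩
        left_inv := fun v => rfl
        right_inv := fun w => rfl }
  set A' : Subgroup ↥P := A.subgroupOf P with hA'
  have hA'map : A'.map P.subtype = A := by rw [hA', Subgroup.map_subgroupOf_eq_of_le hAP]
  have hA'card : Nat.card ↥A' = Nat.card ↥A := Nat.card_congr (Subgroup.subgroupOfEquivOfLe hAP).toEquiv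
  have hmax : ∀ H : Subgroup ↥P, (T : Subgroup ↥P) ≤ H → H ≠ ⊤ → H ≤ M := by
    intro H hTH hH
    obtain ⟨N, hN, hHN⟩ := (eq_top_or_exists_le_coatom H).resolve_left hH
    obtain ⟨M₀, -, huniq⟩ := (hmin T).2
    rw [huniq M ⟨hM, hTM⟩, ← huniq N ⟨hN, hTH.trans hHN⟩]
    exact hHN
  have hyp : MinOffender.Hyp p A' T M (Additive ↥V) := by
    refine ⟨Fact.out, ?_, ?_, hTM, hM.1, hmax, ?_, ?_, ?_, ?_, ?_, ?_⟩
    · intro v
      apply Additive.toMul.injective
      apply Subtype.ext
      rw [toMul_nsmul, Subgroup.coe_pow]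
      exact hV.2 _ (Additive.toMul v).2
    · intro g hg
      have h1 : (g : G) ∈ P ⊓ Subgroup.centralizer (V : Set G) := by
        refine ⟨g.2, Subgroup.mem_centralizer_iff.2 fun v hv => ?_⟩
        have h1 := congrArg (fun z : Additive ↥V => ((Additive.toMul z : ↥V) : G)) (hg (Additive.ofMul ⟨v, hv⟩))
        simp only [hsmul] at h1
        exact (mul_inv_eq_iff_eq_mul.1 h1).symm
      rw [hfaith, Subgroup.mem_bot] at h1
      exact Subtype.ext h1
    · intro a ha
      obtain ⟨t, ht, hta⟩ := hAT (show (a : G) ∈ A from ha)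
      rwa [← Subtype.ext hta]
    · intro a ha b hb
      have h1 := congrArg (fun z : ↥A => (z : G)) (hAel.1.1.comm (⟨(a : G), ha⟩ : ↥A) ⟨(b : G), hb⟩)
      exact Subtype.ext h1
    · rw [hA'card, hcard, hA'map, show Nat.card (Additive ↥V) = Nat.card ↥V from Nat.card_congr Additive.toMul]
      exact hi.1
    · intro A₀ h0 hne hne'
      rw [hA'card, hcard, hcard, hA'map, ← Subgroup.card_map_of_injective P.subtype_injective (K := A₀)]
      refine hi.2 _ (hA'map ▸ Subgroup.map_mono h0) (fun e => hne ((Subgroup.map_eq_bot_iff_of_injective _ P.subtype_injective).1 e)) (fun e => hne' ?_)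
      exact Subgroup.map_injective P.subtype_injective (e.trans hA'map.symm)
    · by_contra hc
      push Not at hc
      refine hii (Subgroup.commutator_eq_bot_iff_le_centralizer.2 fun v hv => Subgroup.mem_centralizer_iff.2 fun g hg => ?_)
      have h1 := hc (Additive.ofMul ⟨v, hv.1⟩) ((hfx _ _).2 hv)
      exact Subgroup.mem_centralizer_iff.1 ((hfx _ _).1 h1).2 g ⟨⟨g, hg⟩, Subgroup.mem_top _, rfl⟩
    · intro x hx
      apply Subgroup.map_injective P.subtype_injective
      rw [Subgroup.map_sup, hA'map, ← MonoidHom.range_eq_map, Subgroup.range_subtype, CfsgLib.Fusion.conjSub,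
        Subgroup.map_map]
      refine Eq.trans ?_ (hiii x hx)
      congr 1
      conv_rhs => rw [← hA'map, Subgroup.map_map]
      congr 1
  obtain ⟨hfix, F, iF, iFF, hF, ρ, ψ, hρ, hψs, hψk, hψ⟩ := hyp.main
  refine ⟨F, iF, iFF, hF.trans hA'card, ⟨MulEquiv.ofBijective ρ hρ⟩, ?_, ?_⟩
  · refine le_antisymm (fun v hv => ?_) (sup_le ?_ ?_)
    · obtain ⟨a, ha, m, z, hz, e⟩ := hfix (Additive.ofMul ⟨v, hv.1⟩) ((hfx _ _).2 (hA'map.symm ▸ hv))
      have e1 := congrArg (fun q : Additive ↥V => ((Additive.toMul q : ↥V) : G)) e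
      simp only [toMul_ofMul, toMul_add, toMul_sub, Subgroup.coe_mul, Subgroup.coe_div, hsmul] at e1
      rw [e1]
      refine Subgroup.mul_mem_sup ?_ ?_
      · rw [div_eq_mul_inv, ← commutatorElement_def, Subgroup.commutator_comm]
        exact Subgroup.commutator_mem_commutator ha (Additive.toMul m).2
      · have := (hfx _ z).1 hz
        rwa [← MonoidHom.range_eq_map, Subgroup.range_subtype] at this
    · rw [Subgroup.commutator_le]
      intro v hv a ha
      have h1 : Additive.ofMul (⟨v, hv⟩ : ↥V) - (⟨a, hAP ha⟩ : ↥P) • Additive.ofMul (⟨v, hv⟩ : ↥V) ∈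
          MinOffender.fx (Additive ↥V) A' := by
        rw [← neg_sub]
        exact neg_mem fun b hb => hyp.quad hb (show (⟨a, hAP ha⟩ : ↥P) ∈ A' from ha) _
      have h2 := (hfx _ _).1 h1
      rw [hA'map] at h2
      convert h2 using 1
      simp only [toMul_sub, toMul_ofMul, Subgroup.coe_div, Subgroup.coe_mul, Subgroup.coe_inv, hsmul, commutatorElement_def, div_eq_mul_inv]
      group
    · exact inf_le_inf_left _ (Subgroup.centralizer_le hAP)
  · refine ⟨hPV, inf_le_left, ρ,
      { toFun := fun v => Multiplicative.ofAdd (ψ (Additive.ofMul v))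
        map_one' := by rw [ofMul_one, map_zero, ofAdd_zero]
        map_mul' := fun a b => by rw [ofMul_mul, map_add, ofAdd_add] }, ?_, ?_, ?_, ?_⟩
    · exact MonoidHom.range_eq_top.2 hρ.2
    · intro m
      obtain ⟨v, hv⟩ := hψs m.toAdd
      exact ⟨Additive.toMul v, by
        show Multiplicative.ofAdd (ψ (Additive.ofMul (Additive.toMul v))) = m
        rw [ofMul_toMul, hv, ofAdd_toAdd]⟩
    · intro u
      show Multiplicative.ofAdd (ψ (Additive.ofMul u)) = 1 ↔ _
      rw [ofAdd_eq_one, hψk, hfx, ← MonoidHom.range_eq_map, Subgroup.range_subtype]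
      rfl
    · intro e u
      exact ⟨Additive.toMul (e • Additive.ofMul u), hsmul e _, by
        show ψ (Additive.ofMul (Additive.toMul (e • Additive.ofMul u))) = _
        rw [ofMul_toMul, hψ]
        rfl⟩

end Cfsg.Agent.S2999
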