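import Cfsg.Statements.S3000
import Cfsg.Agent.Lib.LocalEven.PMinFF.Blocks
import Cfsg.Agent.Lib.LocalEven.MinimalOver
open CfsgLib.LocalEven
open scoped commutatorElement

set_option autoImplicit false
open Cfsg

namespace Cfsg.Agent.S3000

/-- Let p be a prime and let P and V be subgroups of a finite group with V elementary abelian, P normalizing V and acting faithfully on it (P ∩ C(V) = 1). Suppose P is p-minimal (a Sylow p-subgroup T of P is not normal and lies in a unique maximal subgroup M of P), O_p(P) = 1, C_P(C_V(T)) ≤ M, and P has a best offender on V: a subgroup A not centralizing V, with A/C_A(V) elementary abelian, such that |B|·|C_V(B)| ≤ |A|·|C_V(A)| for every subgroup B of A. Then there are subgroups E₁, …, E_r of P (r ≥ 1), pairwise commuting and forming with T a product P = (E₁ × ⋯ × E_r)T (internal direct product of the E_i), any two of which are conjugate by an element of T, such that V = C_V(E₁⋯E_r)·∏[V, E_i] with [V, E_i, E_j] = 1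 for i ≠ j, and for each i there is n ≥ 1 with either E_i ≅ SL₂(pⁿ) acting on [V, E_i]/C_{[V,E_i]}(E_i) as on its natural two-dimensional module, or p = 2 and E_i isomorphic to the symmetric group of degree 2ⁿ + 1 acting on [V, E_i]/C_{[V,E_i]}(E_i) as on its even-weight permutation module. -/
theorem result {G : Type*} [Group G] [Finite G] {p : ℕ} [Fact p.Prime] (V P : Subgroup G) (hV : Cfsg.IsElementaryAbelian p V) (hPV : P ≤ Subgroup.normalizer (V : Set G)) (hfaith : P ⊓ Subgroup.centralizer (V : Set G) = ⊥) (hmin : Cfsg.IsPMinimal p ↥P) (T : Sylow p ↥P) (M : Subgroup ↥P) (hM : IsCoatom M) (hTM : (T : Subgroup ↥P) ≤ M) (hOp : Cfsg.pCore p ↥P = ⊥) (hoff : ∃ A : Subgroup G, A ≤ P ∧ ¬ A ≤ Subgroup.centralizer (V : Set G) ∧ Cfsg.IsBestOffenderOn p V A) (hCT : P ⊓ Subgroup.centralizer ((V ⊓ Subgroup.centralizer ((((T : Subgroup ↥P).map P.subtype) : Subgroup G) : Set G)) : Set G) ≤ M.map P.subtype) : ∃ (r : ℕ) (E : Fin r → Subgroup G), 1 ≤ r ∧ (∀ i, E i ≤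 P) ∧ (∀ i j, i ≠ j → ⁅E i, E j⁆ = ⊥) ∧ (∀ i, E i ⊓ (⨆ j ∈ {j | j ≠ i}, E j) = ⊥) ∧ (⨆ i, E i) ⊔ ((T : Subgroup ↥P).map P.subtype) = P ∧ (∀ i j, ∃ t ∈ ((T : Subgroup ↥P).map P.subtype), (E i).map (MulAut.conj t).toMonoidHom = E j) ∧ (V ⊓ Subgroup.centralizer (((⨆ i, E i) : Subgroup G) : Set G)) ⊔ (⨆ i, ⁅V, E i⁆) = V ∧ (∀ i j, i ≠ j → ⁅⁅V, E i⁆, E j⁆ = ⊥) ∧ ∀ i, ∃ n : ℕ, 1 ≤ n ∧ ((∃ (F : Type) (_ : Field F) (_ : Fintype F), Fintype.card F = p ^ n ∧ Nonempty (↥(E i) ≃* Matrix.SpecialLinearGroup (Fin 2) F) ∧ Cfsg.ActsAsSL2OnSection F ⊤ (E i) ⁅V, E i⁆ (⁅V, E i⁆ ⊓ Subgroup.centralizer ((E i : Subgroup G) : Set G))) ∨ (p = 2 ∧ Nonempty (↥(E i) ≃* Equiv.Perm (Fin (2 ^ n + 1))) ∧ Cfsg.ActsAsOddPermModuleOnSection (2 ^ n + 1) ⊤ (E i) ⁅V, E i⁆ (⁅V, E i⁆ ⊓ Subgroup.centralizer ((E i : Subgroup G) : Set G)))) := by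
  classical
  haveI := hV.1
  have hconj : ∀ (g : ↥P) (v : ↥V), (g : G) * v * (g : G)⁻¹ ∈ V := fun g v =>
    (Subgroup.mem_normalizer_iff.1 (hPV g.2) v).1 v.2
  letI : CommGroup ↥V :=
    { (inferInstance : Group ↥V) with mul_comm := fun a b => hV.1.1.comm a b }
  letI : DistribMulAction ↥P (Additive ↥V) :=
    { smul := fun g v => Additive.ofMul ⟨(g : G) * (Additive.toMul v : ↥V) * (g : G)⁻¹, hconj g _⟩
      one_smul := fun v => Additive.toMul.injective (Subtype.ext (by
        show ((1 : ↥P) : G) * (Additive.toMul v : ↥V) * ((1 : ↥P) : G)⁻¹ = _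
        simp))
      mul_smul := fun g g' v => Additive.toMul.injective (Subtype.ext (by
        show ((g * g' : ↥P) : G) * (Additive.toMul v : ↥V) * ((g * g' : ↥P) : G)⁻¹ =
          (g : G) * ((g' : G) * (Additive.toMul v : ↥V) * (g' : G)⁻¹) * (g : G)⁻¹
        simp [mul_assoc]))
      smul_zero := fun g => Additive.toMul.injective (Subtype.ext (by
        show (g : G) * ((1 : ↥V) : G) * (g : G)⁻¹ = ((1 : ↥V) : G)
        simp))
      smul_add := fun g a b => Additive.toMul.injective (Subtype.ext (by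
        show (g : G) * ((Additive.toMul a : ↥V) * (Additive.toMul b : ↥V) : G) * (g : G)⁻¹ =
          ((g : G) * (Additive.toMul a : ↥V) * (g : G)⁻¹) * ((g : G) * (Additive.toMul b : ↥V) * (g : G)⁻¹)
        group)) }
  have hsmul : ∀ (g : ↥P) (v : Additive ↥V),
      ((Additive.toMul (g • v) : ↥V) : G) = (g : G) * (Additive.toMul v : ↥V) * (g : G)⁻¹ := fun g v => rfl
  have hext : ∀ v w : Additive ↥V, ((Additive.toMul v : ↥V) : G) = ((Additive.toMul w : ↥V) : G) → v = w :=
    fun v w e => Additive.toMul.injective (Subtype.ext e)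
  -- fixed points
  have hfx : ∀ (K : Subgroup ↥P) (v : Additive ↥V), v ∈ MinOffender.fx (Additive ↥V) K ↔
      ((Additive.toMul v : ↥V) : G) ∈ V ⊓ Subgroup.centralizer ((K.map P.subtype : Subgroup G) : Set G) := by
    intro K v
    constructor
    · intro hv
      refine ⟨(Additive.toMul v).2, Subgroup.mem_centralizer_iff.2 ?_⟩
      rintro _ ⟨g, hg, rfl⟩
      have h1 := congrArg (fun z : Additive ↥V => ((Additive.toMul z : ↥V) : G)) (hv g hg)
      simp only [hsmul] at h1
      exact mul_inv_eq_iff_eq_mul.1 h1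
    · intro hv g hg
      apply hext
      rw [hsmul, Subgroup.mem_centralizer_iff.1 hv.2 (g : G) ⟨g, hg, rfl⟩, mul_inv_cancel_right]
  have htriv : ∀ g ∈ P, g ∈ Subgroup.centralizer (V : Set G) → g = 1 := fun g h1 h2 =>
    Subgroup.mem_bot.1 (hfaith ▸ Subgroup.mem_inf.2 ⟨h1, h2⟩)
  have hset : PMinFF.Setting p T M (Additive ↥V) := by
    refine ⟨fun v => ?_, fun g hg => ?_, hTM, hM.1, fun H hTH hH => ?_, fun E hE hEp => ?_, fun g hg => ?_⟩
    · apply hext
      rw [toMul_nsmul, Subgroup.coe_pow]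
      exact hV.2 _ (Additive.toMul v).2
    · refine Subtype.ext (htriv _ g.2 (Subgroup.mem_centralizer_iff.2 fun v hv => ?_))
      have h1 := congrArg (fun z : Additive ↥V => ((Additive.toMul z : ↥V) : G)) (hg (Additive.ofMul ⟨v, hv⟩))
      simp only [hsmul] at h1
      exact (mul_inv_eq_iff_eq_mul.1 h1).symm
    · exact MinOver.le_of_ne_top (fun M' hM' => ExistsUnique.unique (hmin T).2 hM' ⟨hM, hTM⟩) hTH hH
    · haveI := hE
      exact le_bot_iff.1 (hOp ▸ CfsgLib.Cores.le_pCore hEp)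
    · have h1 : (g : G) ∈ M.map P.subtype := hCT ⟨g.2, Subgroup.mem_centralizer_iff.2 fun v hv => by
        have h2 := hg (Additive.ofMul ⟨v, hv.1⟩) ((hfx _ _).2 hv)
        have h3 := congrArg (fun z : Additive ↥V => ((Additive.toMul z : ↥V) : G)) h2
        simp only [hsmul] at h3
        exact (mul_inv_eq_iff_eq_mul.1 h3).symm⟩
      obtain ⟨g', hg', e⟩ := h1
      rwa [← Subtype.ext e]
  -- an offender
  have hex : ∃ A : Subgroup ↥P, PMinFF.Member p (Additive ↥V) A := by
    obtain ⟨A, hAP, hAn, hbest, hAc, hAp⟩ := hoff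
    have hA' : (A.subgroupOf P).map P.subtype = A := Subgroup.map_subgroupOf_eq_of_le hAP
    have hpow : ∀ a ∈ A.subgroupOf P, a ^ p = 1 := fun a ha => Subtype.ext (by
      rw [Subgroup.coe_pow]
      exact htriv _ (pow_mem a.2 p) (hAp _ ha))
    refine (PMinFF.exists_member (A := A.subgroupOf P) ?_
      (fun a => ⟨1, Subtype.ext (by rw [pow_one, Subgroup.coe_pow]; exact hpow _ a.2)⟩) ?_ ?_).imp fun B hB => hB.2
    · intro e
      refine hAn fun a ha => ?_
      rw [← hA', e, Subgroup.map_bot, Subgroup.mem_bot] at ha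
      rw [ha]
      exact one_mem _
    · intro a ha b hb
      refine Subtype.ext ?_
      rw [Subgroup.coe_mul, Subgroup.coe_mul]
      exact commutatorElement_eq_one_iff_mul_comm.1
        (htriv _ (P.mul_mem (P.mul_mem (P.mul_mem a.2 b.2) (P.inv_mem a.2)) (P.inv_mem b.2))
          (hAc (Subgroup.commutator_mem_commutator (show (a : G) ∈ A from ha) (show (b : G) ∈ A from hb))))
    · have h1 := hbest ⊥ bot_le
      rw [Subgroup.card_bot, one_mul, show V ⊓ Subgroup.centralizer ((⊥ : Subgroup G) : Set G) = V from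
        inf_eq_left.2 fun v _ => Subgroup.mem_centralizer_iff.2 fun g hg => by
          rw [Subgroup.coe_bot, Set.mem_singleton_iff] at hg; rw [hg, one_mul, mul_one]] at h1
      rw [Nat.card_congr (Subgroup.subgroupOfEquivOfLe hAP).toEquiv,
        show Nat.card (Additive ↥V) = Nat.card ↥V from Nat.card_congr Additive.toMul]
      refine h1.trans_eq (congrArg _ (Nat.card_congr
        { toFun := fun w => ⟨Additive.ofMul ⟨(w : G), w.2.1⟩, (hfx _ _).2 (by rw [hA']; exact w.2)⟩
          invFun := fun v => ⟨((Additive.toMul v.1 : ↥V) : G), by have := (hfx _ _).1 v.2; rwa [hA'] at this⟩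
          left_inv := fun w => rfl
          right_inv := fun v => rfl }))
  obtain ⟨r, E, hr, hcomm, hind, hsup, hcj, hdec, horth, hblk, -, -⟩ := hset.structure_thm hex
  set E' : Fin r → Subgroup G := fun i => (E i).map P.subtype with hE'
  have hEP : ∀ i, E' i ≤ P := fun i => Subgroup.map_subtype_le _
  have hVle : ∀ i, ⁅V, E' i⁆ ≤ V := fun i => by
    rw [Subgroup.commutator_le]
    intro v hv g hg
    rw [commutatorElement_def, mul_assoc v, mul_assoc]
    refine V.mul_mem hv ?_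
    have h1 := (Subgroup.mem_normalizer_iff.1 (hPV (hEP i hg)) v⁻¹).1 (V.inv_mem hv)
    simpa [mul_assoc] using h1
  -- commutators
  have hmv : ∀ i (v : Additive ↥V),
      v ∈ PMinFF.mv (Additive ↥V) (E i) ↔ ((Additive.toMul v : ↥V) : G) ∈ ⁅V, E' i⁆ := by
    intro i v
    let U : AddSubgroup (Additive ↥V) := Subgroup.toAddSubgroup (⁅V, E' i⁆.subgroupOf V)
    constructor
    · refine fun hv => (PMinFF.mv_le (U := U) fun g hg m => ?_) hv
      show ((Additive.toMul (g • m - m) : ↥V) : G) ∈ ⁅V, E' i⁆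
      rw [toMul_sub, div_eq_mul_inv, Subgroup.coe_mul, Subgroup.coe_inv, hsmul]
      have h1 := Subgroup.commutator_mem_commutator (Additive.toMul m).2 (show (g : G) ∈ E' i from ⟨g, hg, rfl⟩)
      have h2 := inv_mem h1
      rw [commutatorElement_inv, commutatorElement_def] at h2
      exact h2
    · intro hv
      let K : Subgroup G :=
        { carrier := {x | ∃ hx : x ∈ V, Additive.ofMul (⟨x, hx⟩ : ↥V) ∈ PMinFF.mv (Additive ↥V) (E i)}
          one_mem' := ⟨one_mem V, zero_mem _⟩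
          mul_mem' := by
            rintro a b ⟨ha, ha'⟩ ⟨hb, hb'⟩
            exact ⟨mul_mem ha hb, add_mem ha' hb'⟩
          inv_mem' := by
            rintro a ⟨ha, ha'⟩
            exact ⟨inv_mem ha, neg_mem ha'⟩ }
      have hK : ⁅V, E' i⁆ ≤ K := by
        rw [Subgroup.commutator_le]
        rintro x hx _ ⟨g, hg, rfl⟩
        refine ⟨hVle i (Subgroup.commutator_mem_commutator hx ⟨g, hg, rfl⟩), ?_⟩
        convert neg_mem (PMinFF.sub_mem_mv hg (Additive.ofMul (⟨x, hx⟩ : ↥V))) using 1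
        apply hext
        rw [toMul_neg, Subgroup.coe_inv, toMul_sub, div_eq_mul_inv, Subgroup.coe_mul, Subgroup.coe_inv, hsmul]
        show x * (g : G) * x⁻¹ * (g : G)⁻¹ = ((g : G) * x * (g : G)⁻¹ * x⁻¹)⁻¹
        group
      obtain ⟨hx, hx'⟩ := hK hv
      exact hx'
  have hinj := P.subtype_injective
  have hcomm' : ∀ i j, i ≠ j → E' i ≤ Subgroup.centralizer ((E' j : Subgroup G) : Set G) := by
    rintro i j hne _ ⟨g, hg, rfl⟩
    refine Subgroup.mem_centralizer_iff.2 ?_
    rintro _ ⟨l, hl, rfl⟩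
    exact congrArg Subtype.val (hcomm i j hne g hg l hl).symm
  refine ⟨r, E', hr, hEP, fun i j hne => Subgroup.commutator_eq_bot_iff_le_centralizer.2 (hcomm' i j hne),
    fun i => ?_, ?_, fun i j => ?_, ?_, fun i j hne => ?_, fun i => ?_⟩
  · simp only [hE', ← Subgroup.map_iSup]
    rw [← Subgroup.map_inf _ _ _ hinj, hind i, Subgroup.map_bot]
  · simp only [hE', ← Subgroup.map_iSup, ← Subgroup.map_sup, hsup]
    rw [← MonoidHom.range_eq_map, Subgroup.range_subtype]
  · obtain ⟨t, ht, e⟩ := hcj i j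
    refine ⟨(t : G), ⟨t, ht, rfl⟩, ?_⟩
    rw [hE']
    show ((E i).map P.subtype).map _ = (E j).map P.subtype
    rw [← e, CfsgLib.Fusion.conjSub, Subgroup.map_map, Subgroup.map_map]
    rfl
  · refine le_antisymm (sup_le inf_le_left (iSup_le hVle)) fun x hx => ?_
    obtain ⟨a, ha, b, hb, e⟩ := AddSubgroup.mem_sup.1 (hdec ▸ AddSubgroup.mem_top (Additive.ofMul (⟨x, hx⟩ : ↥V)))
    have e' : ((Additive.toMul a : ↥V) : G) * ((Additive.toMul b : ↥V) : G) = x :=
      congrArg (fun z : Additive ↥V => ((Additive.toMul z : ↥V) : G)) e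
    rw [← e']
    refine mul_mem (Subgroup.mem_sup_left ?_) (Subgroup.mem_sup_right ?_)
    · have h1 := (hfx _ a).1 ha
      simpa only [hE', ← Subgroup.map_iSup] using h1
    · let U : AddSubgroup (Additive ↥V) := Subgroup.toAddSubgroup ((⨆ i, ⁅V, E' i⁆).subgroupOf V)
      exact (iSup_le fun i v hv => (le_iSup (fun i => ⁅V, E' i⁆) i) ((hmv i v).1 hv) :
        (⨆ i, PMinFF.mv (Additive ↥V) (E i)) ≤ U) hb
  · refine Subgroup.commutator_eq_bot_iff_le_centralizer.2 fun x hx => ?_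
    have h1 := (hfx (E j) (Additive.ofMul ⟨x, hVle i hx⟩)).1 (horth i j hne ((hmv i _).2 hx))
    exact h1.2
  · obtain ⟨hsplit, n, hn, hdata⟩ := hblk i
    set U := ⁅V, E' i⁆ with hU
    have hnorm : E' i ≤ Subgroup.normalizer (U : Set G) := by
      rintro _ ⟨g, hg, rfl⟩
      refine CfsgLib.Fusion.mem_normalizer_of_forall fun x hx => ?_
      have h1 := PMinFF.smul_mem_mv (Subgroup.le_normalizer hg) ((hmv i (Additive.ofMul ⟨x, hVle i hx⟩)).2 hx)
      exact (hmv i _).1 h1
    let e := (E i).equivMapOfInjective P.subtype hinj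
    let toM : ↥U → Additive ↥V := fun u => Additive.ofMul (⟨(u : G), hVle i u.2⟩ : ↥V)
    have htoM : ∀ u, toM u ∈ PMinFF.mv (Additive ↥V) (E i) := fun u => (hmv i _).2 u.2
    have hker : ∀ u : ↥U, toM u ∈ MinOffender.fx (Additive ↥V) (E i) ↔
        (u : G) ∈ U ⊓ Subgroup.centralizer ((E' i : Subgroup G) : Set G) := fun u => by
      rw [hfx]
      exact ⟨fun hu => ⟨u.2, hu.2⟩, fun hu => ⟨hVle i u.2, hu.2⟩⟩
    have hlift : ∀ m : Additive ↥V, ∃ u : ↥U, m - toM u ∈ MinOffender.fx (Additive ↥V) (E i) := fun m => by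
      obtain ⟨a, ha, b, hb, e⟩ := AddSubgroup.mem_sup.1 (hsplit ▸ AddSubgroup.mem_top m)
      refine ⟨⟨_, (hmv i a).1 ha⟩, ?_⟩
      rw [show m - toM ⟨_, (hmv i a).1 ha⟩ = b by rw [← e]; exact add_sub_cancel_left a b]
      exact hb
    have hact : ∀ (g : ↥(E' i)) (u : ↥U), ∃ w : ↥U, (w : G) = (g : G) * (u : G) * (g : G)⁻¹ ∧
        toM w = ((e.symm g : ↥(E i)) : ↥P) • toM u := fun g u => by
      refine ⟨⟨_, (Subgroup.mem_normalizer_iff.1 (hnorm g.2) u).1 u.2⟩, rfl, hext _ _ ?_⟩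
      rw [hsmul, show (((e.symm g : ↥(E i)) : ↥P) : G) = (g : G) from congrArg Subtype.val (e.apply_symm_apply g)]
      rfl
    refine ⟨n, hn, ?_⟩
    rcases hdata with ⟨F, iF, iFF, hF, ρ, ψ, hρ, hψs, hψk, hψ⟩ | ⟨hp2, ρ, ψ, hρ, hsum, hsurj, hψk, hψ⟩
    · refine Or.inl ⟨F, iF, iFF, hF, ⟨e.symm.trans (MulEquiv.ofBijective ρ hρ)⟩, hnorm, inf_le_left,
        ρ.comp e.symm.toMonoidHom,
        { toFun := fun u => Multiplicative.ofAdd (ψ (toM u))
          map_one' := congrArg Multiplicative.ofAdd (map_zero ψ)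
          map_mul' := fun u v => congrArg Multiplicative.ofAdd (map_add ψ (toM u) (toM v)) },
        MonoidHom.range_eq_top.2 (hρ.2.comp e.symm.surjective), fun w => ?_, fun u => ?_, fun g u => ?_⟩
      · obtain ⟨m, hm⟩ := hψs (Multiplicative.toAdd w)
        obtain ⟨u, hu⟩ := hlift m
        refine ⟨u, ?_⟩
        rw [← hψk, map_sub, sub_eq_zero, hm] at hu
        exact congrArg Multiplicative.ofAdd hu.symm
      · show Multiplicative.ofAdd (ψ (toM u)) = 1 ↔ _
        rw [← hker, ← hψk]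
        exact ⟨fun e0 => congrArg Multiplicative.toAdd e0, fun e0 => congrArg Multiplicative.ofAdd e0⟩
      · obtain ⟨w, hw, hw'⟩ := hact g u
        exact ⟨w, hw, (congrArg ψ hw').trans (hψ (e.symm g) (toM u))⟩
    · refine Or.inr ⟨hp2, ⟨e.symm.trans (MulEquiv.ofBijective ρ hρ)⟩, hnorm, inf_le_left, ρ.comp e.symm.toMonoidHom,
        { toFun := fun u => Multiplicative.ofAdd (ψ (toM u))
          map_one' := congrArg Multiplicative.ofAdd (map_zero ψ)
          map_mul' := fun u v => congrArg Multiplicative.ofAdd (map_add ψ (toM u) (toM v)) },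
        MonoidHom.range_eq_top.2 (hρ.2.comp e.symm.surjective), fun u => hsum (toM u), fun w hw => ?_, fun u => ?_,
        fun g u => ?_⟩
      · obtain ⟨m, hm⟩ := hsurj w hw
        obtain ⟨u, hu⟩ := hlift m
        refine ⟨u, ?_⟩
        rw [← hψk, map_sub, sub_eq_zero, hm] at hu
        exact hu.symm
      · show Multiplicative.ofAdd (ψ (toM u)) = 1 ↔ _
        rw [← hker, ← hψk]
        exact ⟨fun e0 => congrArg Multiplicative.toAdd e0, fun e0 => congrArg Multiplicative.ofAdd e0⟩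
      · obtain ⟨w, hw, hw'⟩ := hact g u
        refine ⟨w, hw, fun j => ?_⟩
        exact (congrArg (fun z => ψ z j) hw').trans (hψ (e.symm g) (toM u) j)

end Cfsg.Agent.S3000
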