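import Cfsg.Statements.S3001
import Cfsg.Agent.Lib.LocalEven.PMinFF.Moved
import Cfsg.Agent.Lib.LocalEven.MinimalOver
open CfsgLib.LocalEven
open scoped commutatorElement

set_option autoImplicit false
open Cfsg

namespace Cfsg.Agent.S3001

/-- Let p be a prime and let P and V be subgroups of a finite group with V elementary abelian, P normalizing V and acting faithfully on it (P ∩ C(V) = 1). Suppose P is p-minimal (a Sylow p-subgroup is not normal and lies in a unique maximal subgroup), O_p(P) = 1, and P has a best offender on V (a subgroup A not centralizing V, with A/C_A(V) elementary abelian and |B|·|C_V(B)| ≤ |A|·|C_V(A)| for every B ≤ A). Then [C_V(T), P] ≠ 1 for every Sylow p-subgroup T of P. -/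
theorem result {G : Type*} [Group G] [Finite G] {p : ℕ} [Fact p.Prime] (V P : Subgroup G) (hV : Cfsg.IsElementaryAbelian p V) (hPV : P ≤ Subgroup.normalizer (V : Set G)) (hfaith : P ⊓ Subgroup.centralizer (V : Set G) = ⊥) (hmin : Cfsg.IsPMinimal p ↥P) (hOp : Cfsg.pCore p ↥P = ⊥) (hoff : ∃ A : Subgroup G, A ≤ P ∧ ¬ A ≤ Subgroup.centralizer (V : Set G) ∧ Cfsg.IsBestOffenderOn p V A) (T : Sylow p ↥P) : ⁅(V ⊓ Subgroup.centralizer ((((T : Subgroup ↥P).map P.subtype) : Subgroup G) : Set G)), P⁆ ≠ ⊥ := by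
  classical
  haveI := hV.1
  have hconj : ∀ (g : ↥P) (v : ↥V), (g : G) * v * (g : G)⁻¹ ∈ V := fun g v =>
    (Subgroup.mem_normalizer_iff.1 (hPV g.2) v).1 v.2
  letI : CommGroup ↥V :=
    { (inferInstance : Group ↥V) with mul_comm := fun a b => hV.1.1.comm a b }
  letI : DistribMulAction ↥P (Additive ↥V) :=
    { smul := fun g v => Additive.ofMul ⟨(g : G) * (Additive.toMul v : ↥V) * (g : G)⁻¹, hconj g _⟩
      one_smul := fun v => Additive.toMul.injective (Subtype.ext (by
        show ((1 : ↥P) : G) * (Additive.toMul v : ↥V) * ((1 : ↥P) : G)⁻¹ = _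
        simp))
      mul_smul := fun g g' v => Additive.toMul.injective (Subtype.ext (by
        show ((g * g' : ↥P) : G) * (Additive.toMul v : ↥V) * ((g * g' : ↥P) : G)⁻¹ =
          (g : G) * ((g' : G) * (Additive.toMul v : ↥V) * (g' : G)⁻¹) * (g : G)⁻¹
        simp [mul_assoc]))
      smul_zero := fun g => Additive.toMul.injective (Subtype.ext (by
        show (g : G) * ((1 : ↥V) : G) * (g : G)⁻¹ = ((1 : ↥V) : G)
        simp))
      smul_add := fun g a b => Additive.toMul.injective (Subtype.ext (by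
        show (g : G) * ((Additive.toMul a : ↥V) * (Additive.toMul b : ↥V) : G) * (g : G)⁻¹ =
          ((g : G) * (Additive.toMul a : ↥V) * (g : G)⁻¹) * ((g : G) * (Additive.toMul b : ↥V) * (g : G)⁻¹)
        group)) }
  have hsmul : ∀ (g : ↥P) (v : Additive ↥V),
      ((Additive.toMul (g • v) : ↥V) : G) = (g : G) * (Additive.toMul v : ↥V) * (g : G)⁻¹ := fun g v => rfl
  have hext : ∀ v w : Additive ↥V, ((Additive.toMul v : ↥V) : G) = ((Additive.toMul w : ↥V) : G) → v = w :=
    fun v w e => Additive.toMul.injective (Subtype.ext e)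
  -- fixed points
  have hfx : ∀ (K : Subgroup ↥P) (v : Additive ↥V), v ∈ MinOffender.fx (Additive ↥V) K ↔
      ((Additive.toMul v : ↥V) : G) ∈ V ⊓ Subgroup.centralizer ((K.map P.subtype : Subgroup G) : Set G) := by
    intro K v
    constructor
    · intro hv
      refine ⟨(Additive.toMul v).2, Subgroup.mem_centralizer_iff.2 ?_⟩
      rintro _ ⟨g, hg, rfl⟩
      have h1 := congrArg (fun z : Additive ↥V => ((Additive.toMul z : ↥V) : G)) (hv g hg)
      simp only [hsmul] at h1
      exact mul_inv_eq_iff_eq_mul.1 h1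
    · intro hv g hg
      apply hext
      rw [hsmul, Subgroup.mem_centralizer_iff.1 hv.2 (g : G) ⟨g, hg, rfl⟩, mul_inv_cancel_right]
  have htriv : ∀ g ∈ P, g ∈ Subgroup.centralizer (V : Set G) → g = 1 := fun g h1 h2 =>
    Subgroup.mem_bot.1 (hfaith ▸ Subgroup.mem_inf.2 ⟨h1, h2⟩)
  have hexp : ∀ v : Additive ↥V, p • v = 0 := fun v => by
    apply hext
    rw [toMul_nsmul, Subgroup.coe_pow]
    exact hV.2 _ (Additive.toMul v).2
  have hfaith' : ∀ g : ↥P, (∀ v : Additive ↥V, g • v = v) → g = 1 := fun g hg => by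
    refine Subtype.ext (htriv _ g.2 (Subgroup.mem_centralizer_iff.2 fun v hv => ?_))
    have h1 := congrArg (fun z : Additive ↥V => ((Additive.toMul z : ↥V) : G)) (hg (Additive.ofMul ⟨v, hv⟩))
    simp only [hsmul] at h1
    exact (mul_inv_eq_iff_eq_mul.1 h1).symm
  obtain ⟨M, ⟨hM, hTM⟩, huniq⟩ := (hmin T).2
  -- an offender
  have hex : ∃ A : Subgroup ↥P, PMinFF.Member p (Additive ↥V) A := by
    obtain ⟨A, hAP, hAn, hbest, hAc, hAp⟩ := hoff
    have hA' : (A.subgroupOf P).map P.subtype = A := Subgroup.map_subgroupOf_eq_of_le hAP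
    have hpow : ∀ a ∈ A.subgroupOf P, a ^ p = 1 := fun a ha => Subtype.ext (by
      rw [Subgroup.coe_pow]
      exact htriv _ (pow_mem a.2 p) (hAp _ ha))
    refine (PMinFF.exists_member (A := A.subgroupOf P) ?_
      (fun a => ⟨1, Subtype.ext (by rw [pow_one, Subgroup.coe_pow]; exact hpow _ a.2)⟩) ?_ ?_).imp fun B hB => hB.2
    · intro e
      refine hAn fun a ha => ?_
      rw [← hA', e, Subgroup.map_bot, Subgroup.mem_bot] at ha
      rw [ha]
      exact one_mem _
    · intro a ha b hb
      refine Subtype.ext ?_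
      rw [Subgroup.coe_mul, Subgroup.coe_mul]
      exact commutatorElement_eq_one_iff_mul_comm.1
        (htriv _ (P.mul_mem (P.mul_mem (P.mul_mem a.2 b.2) (P.inv_mem a.2)) (P.inv_mem b.2))
          (hAc (Subgroup.commutator_mem_commutator (show (a : G) ∈ A from ha) (show (b : G) ∈ A from hb))))
    · have h1 := hbest ⊥ bot_le
      rw [Subgroup.card_bot, one_mul, show V ⊓ Subgroup.centralizer ((⊥ : Subgroup G) : Set G) = V from
        inf_eq_left.2 fun v _ => Subgroup.mem_centralizer_iff.2 fun g hg => by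
          rw [Subgroup.coe_bot, Set.mem_singleton_iff] at hg; rw [hg, one_mul, mul_one]] at h1
      rw [Nat.card_congr (Subgroup.subgroupOfEquivOfLe hAP).toEquiv,
        show Nat.card (Additive ↥V) = Nat.card ↥V from Nat.card_congr Additive.toMul]
      refine h1.trans_eq (congrArg _ (Nat.card_congr
        { toFun := fun w => ⟨Additive.ofMul ⟨(w : G), w.2.1⟩, (hfx _ _).2 (by rw [hA']; exact w.2)⟩
          invFun := fun v => ⟨((Additive.toMul v.1 : ↥V) : G), by have := (hfx _ _).1 v.2; rwa [hA'] at this⟩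
          left_inv := fun w => rfl
          right_inv := fun v => rfl }))
  have hno := PMinFF.not_fx_le (T := T) hTM hM.1
    (fun H hTH hH => MinOver.le_of_ne_top huniq hTH hH)
    (fun E hE hEp => by haveI := hE; exact le_bot_iff.1 (hOp ▸ CfsgLib.Cores.le_pCore hEp))
    (Nat.card (Additive ↥V) + 1) (Additive ↥V) (Nat.lt_succ_self _) hexp hfaith' hex
  refine fun hbot => hno fun v hv g _ => ?_
  have h1 := (hfx _ v).1 hv
  have h2 := Subgroup.mem_centralizer_iff.1 (Subgroup.commutator_eq_bot_iff_le_centralizer.1 hbot h1) (g : G) g.2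
  apply hext
  rw [hsmul, h2, mul_inv_cancel_right]

end Cfsg.Agent.S3001
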