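import Cfsg.Statements.S3003
import Cfsg.Agent.Lib.LocalEven.CoprimeGeneration
import Cfsg.Agent.Lib.LocalEven.Coprime

set_option autoImplicit false
open scoped Pointwise
open Cfsg

namespace Cfsg.Agent.S3003

/-- Let G be a finite group, p a prime and Q a large p-subgroup of G: C_G(Q) ≤ Q and N_G(U) ≤ N_G(Q) for every nontrivial subgroup U of C_G(Q). Let Q ≤ G₁ ≤ G, let R be a subgroup of order prime to p normalized by G₁, and let U ≤ G₁ be a p-subgroup. If U contains a nontrivial element which is G₁-conjugate to an element of Z(Q), then C_R(U) = 1. In particular, if U is elementary abelian of order at least p² and every maximal subgroup of U contains a nontrivial element G₁-conjugate into Z(Q), then R = 1. -/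
theorem result {G : Type*} [Group G] [Finite G] {p : ℕ} [Fact p.Prime] (Q : Subgroup G) (hQp : IsPGroup p ↥Q) (hlarge : Cfsg.IsLarge Q) (G₁ : Subgroup G) (hQG : Q ≤ G₁) (R : Subgroup G) (hR : (Nat.card ↥R).Coprime p) (hGR : G₁ ≤ Subgroup.normalizer (R : Set G)) (U : Subgroup G) (hUG : U ≤ G₁) (hUp : IsPGroup p ↥U) : ((∃ x ∈ U, x ≠ 1 ∧ ∃ g ∈ G₁, g * x * g⁻¹ ∈ Q ⊓ Subgroup.centralizer (Q : Set G)) → R ⊓ Subgroup.centralizer (U : Set G) = ⊥) ∧ (Cfsg.IsElementaryAbelian p U → p ^ 2 ≤ Nat.card ↥U → (∀ U₀ : Subgroup G, U₀ ≤ U → IsCoatom (U₀.subgroupOf U) → ∃ x ∈ U₀, x ≠ 1 ∧ ∃ g ∈ G₁, g * x * g⁻¹ ∈ Q ⊓ Subgroup.centralizer (Q : Set G)) → R = ⊥) := by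
  classical
  have hdisj : ∀ u ∈ R, u ∈ Q → u = 1 := by
    intro u hu huQ
    obtain ⟨k, hk⟩ := IsPGroup.iff_orderOf.1 hQp ⟨u, huQ⟩
    rw [Subgroup.orderOf_mk] at hk
    exact orderOf_eq_one_iff.1 (Nat.eq_one_of_dvd_coprimes (hR.pow_right k)
      (Subgroup.orderOf_dvd_natCard _ hu) (hk ▸ dvd_refl _))
  have hone : ∀ x : G, x ≠ 1 → (∃ g ∈ G₁, g * x * g⁻¹ ∈ Q ⊓ Subgroup.centralizer (Q : Set G)) →
      ∀ r ∈ R, r * x = x * r → r = 1 := by
    rintro x hx1 ⟨g, hg, hz⟩ r hr hrx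
    set z := g * x * g⁻¹ with hzdef
    have hyR : g * r * g⁻¹ ∈ R := CfsgLib.LocalEven.conj_mem_of_mem_normalizer (hGR hg) hr
    have hyz : g * r * g⁻¹ * z = z * (g * r * g⁻¹) := by
      calc g * r * g⁻¹ * z = g * (r * x) * g⁻¹ := by rw [hzdef]; group
        _ = z * (g * r * g⁻¹) := by rw [hrx, hzdef]; group
    set y := g * r * g⁻¹ with hydef
    have hyN : y ∈ Subgroup.normalizer (Q : Set G) := by
      refine hlarge.2 (Subgroup.zpowers z) (Subgroup.zpowers_le.2 hz.2) (fun h => hx1 ?_) ?_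
      · have h1 : z = 1 := Subgroup.zpowers_eq_bot.1 h
        exact conj_eq_one_iff.1 h1
      · exact Subgroup.centralizer_le_normalizer _ (by
          rw [CfsgLib.LocalEven.centralizer_zpowers']
          exact Subgroup.mem_centralizer_singleton_iff.2 hyz)
    have hyC : y ∈ Subgroup.centralizer (Q : Set G) := by
      refine Subgroup.mem_centralizer_iff.2 fun q hq => ?_
      have h1 : y * q * y⁻¹ * q⁻¹ ∈ Q :=
        Q.mul_mem (CfsgLib.LocalEven.conj_mem_of_mem_normalizer hyN hq) (Q.inv_mem hq)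
      have h2 : y * q * y⁻¹ * q⁻¹ ∈ R := by
        have := R.mul_mem hyR (CfsgLib.LocalEven.conj_mem_of_mem_normalizer (hGR (hQG hq)) (R.inv_mem hyR))
        simpa [mul_assoc] using this
      exact (mul_inv_eq_iff_eq_mul.1 (mul_inv_eq_one.1 (hdisj _ h2 h1))).symm
    exact conj_eq_one_iff.1 (hdisj y hyR (hlarge.1 hyC))
  refine ⟨?_, ?_⟩
  · rintro ⟨x, hxU, hx1, hg⟩
    rw [eq_bot_iff]
    rintro r ⟨hr, hrU⟩
    exact Subgroup.mem_bot.2 (hone x hx1 hg r hr (Subgroup.mem_centralizer_iff.1 hrU x hxU).symm)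
  intro hUe hUcard hmax
  have hUc : ∀ a ∈ U, ∀ b ∈ U, a * b = b * a := fun a ha b hb =>
    congrArg Subtype.val (hUe.1.1.comm (⟨a, ha⟩ : ↥U) ⟨b, hb⟩)
  suffices hall : ∀ (n : ℕ) (V : Subgroup G), Nat.card ↥U - Nat.card ↥V = n → V ≤ U → V ≠ U →
      R ⊓ Subgroup.centralizer (V : Set G) = ⊥ by
    have hb : (⊥ : Subgroup G) ≠ U := fun h => by
      rw [← h, Subgroup.card_bot] at hUcard
      exact absurd hUcard (not_le.2 (Nat.one_lt_pow two_ne_zero (Fact.out : p.Prime).one_lt))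
    have := hall _ ⊥ rfl bot_le hb
    rwa [Subgroup.coe_bot, show Subgroup.centralizer ({1} : Set G) = ⊤ from eq_top_iff.2 (fun g _ =>
      Subgroup.mem_centralizer_singleton_iff.2 (by simp)), inf_top_eq] at this
  intro n
  induction n using Nat.strong_induction_on with
  | _ n ih =>
  intro V hn hVU hVne
  by_cases hco : IsCoatom (V.subgroupOf U)
  · obtain ⟨x, hxV, hx1, hg⟩ := hmax V hVU hco
    rw [eq_bot_iff]
    rintro r ⟨hr, hrV⟩
    exact Subgroup.mem_bot.2 (hone x hx1 hg r hr (Subgroup.mem_centralizer_iff.1 hrV x hxV).symm)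
  obtain ⟨W, hW, hWU⟩ : ∃ W : Subgroup ↥U, V.subgroupOf U < W ∧ W ≠ ⊤ := by
    by_contra hcon
    push_neg at hcon
    exact hco ⟨fun h => hVne (le_antisymm hVU (Subgroup.subgroupOf_eq_top.1 h)), hcon⟩
  obtain ⟨x, hxW, hxV⟩ := SetLike.exists_of_lt hW
  obtain ⟨y, -, hyW⟩ := SetLike.exists_of_lt (lt_top_iff_ne_top.2 hWU)
  have hbig : ∀ e ∈ U, e ∉ V → (V ⊔ Subgroup.zpowers e ≠ U) →
      R ⊓ Subgroup.centralizer (V : Set G) ⊓ Subgroup.centralizer ({e} : Set G) ≤ ⊥ := by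
    intro e he heV hne'
    have hlt : V < V ⊔ Subgroup.zpowers e :=
      lt_of_le_of_ne le_sup_left fun h => heV (h ▸ Subgroup.mem_sup_right (Subgroup.mem_zpowers e))
    have hleU : V ⊔ Subgroup.zpowers e ≤ U := sup_le hVU (Subgroup.zpowers_le.2 he)
    have h1 := Set.Finite.card_lt_card (Set.toFinite ((V ⊔ Subgroup.zpowers e : Subgroup G) : Set G)) hlt
    have h2 := Subgroup.card_le_of_le hleU
    simp only [SetLike.coe_sort_coe] at h1
    have := ih _ (by omega) (V ⊔ Subgroup.zpowers e) rfl hleU hne'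
    rw [← this]
    rintro r ⟨⟨hr, hrV⟩, hre⟩
    refine ⟨hr, ?_⟩
    have hle : V ⊔ Subgroup.zpowers e ≤ Subgroup.centralizer ({r} : Set G) := by
      refine sup_le (fun v hv => Subgroup.mem_centralizer_singleton_iff.2 (Subgroup.mem_centralizer_iff.1 hrV v hv)) ?_
      rw [Subgroup.zpowers_le]
      exact Subgroup.mem_centralizer_singleton_iff.2 (Subgroup.mem_centralizer_singleton_iff.1 hre).symm
    exact Subgroup.mem_centralizer_iff.2 fun v hv => Subgroup.mem_centralizer_singleton_iff.1 (hle hv)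
  have hUN : U ≤ Subgroup.normalizer ((R ⊓ Subgroup.centralizer (V : Set G) : Subgroup G) : Set G) := by
    intro u hu
    refine CfsgLib.LocalEven.mem_normalizer_of_conj_le ?_
    rintro _ ⟨r, ⟨hr, hrV⟩, rfl⟩
    refine ⟨CfsgLib.LocalEven.conj_mem_of_mem_normalizer (hGR (hUG hu)) hr,
      Subgroup.mem_centralizer_iff.2 fun v hv => ?_⟩
    show v * (u * r * u⁻¹) = u * r * u⁻¹ * v
    have c1 : Commute v u := hUc v (hVU hv) u hu
    exact ((c1.mul_right (Subgroup.mem_centralizer_iff.1 hrV v hv : Commute v r)).mul_right c1.inv_right).eq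
  rw [eq_bot_iff]
  refine CfsgLib.LocalEven.le_of_line_centralizers (x := (x : G)) (y := (y : G)) (hUe.2 _ x.2) (hUe.2 _ y.2)
    (hUc _ x.2 _ y.2) (hR.coprime_dvd_left (Subgroup.card_dvd_of_le inf_le_left)) (hUN x.2) (hUN y.2)
    (hbig x x.2 hxV fun h => hyW ?_) (fun i => hbig _ (U.mul_mem y.2 (U.pow_mem x.2 i)) ?_ fun h => ?_)
  · have : V ⊔ Subgroup.zpowers (x : G) ≤ W.map U.subtype :=
      sup_le (fun v hv => ⟨⟨v, hVU hv⟩, hW.le hv, rfl⟩) (Subgroup.zpowers_le.2 ⟨x, hxW, rfl⟩)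
    obtain ⟨w, hw, hwy⟩ := this (show (y : G) ∈ V ⊔ Subgroup.zpowers (x : G) by rw [h]; exact y.2)
    rwa [← Subtype.ext (show (w : G) = y from hwy)]
  · intro hmem
    refine hyW ?_
    have := W.mul_mem (hW.le (show (y * x ^ i : ↥U) ∈ V.subgroupOf U from hmem)) (W.inv_mem (W.pow_mem hxW i))
    simpa using this
  · obtain ⟨v, hv, w, hw, hvw⟩ : (x : G) ∈ (V : Set G) * (Subgroup.zpowers ((y : G) * (x : G) ^ i) : Set G) := by
      rw [← Subgroup.coe_mul_of_left_le_normalizer_right]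
      · rw [SetLike.mem_coe, h]; exact x.2
      · intro v hv
        refine CfsgLib.LocalEven.mem_normalizer_of_conj_le ?_
        rintro _ ⟨w, hw, rfl⟩
        show v * w * v⁻¹ ∈ _
        rw [hUc v (hVU hv) w (Subgroup.zpowers_le.2 (U.mul_mem y.2 (U.pow_mem x.2 i)) hw), mul_inv_cancel_right]
        exact hw
    obtain ⟨j, rfl⟩ := Subgroup.mem_zpowers_iff.1 hw
    have hyj : (y * x ^ i : ↥U) ^ j ∈ W := by
      have h1 : (⟨v, hVU hv⟩ : ↥U) * (y * x ^ i) ^ j = x := Subtype.ext (by simpa using hvw)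
      have := W.mul_mem (W.inv_mem (hW.le (show (⟨v, hVU hv⟩ : ↥U) ∈ V.subgroupOf U from hv))) hxW
      rw [← h1] at this
      simpa using this
    have hjp : ¬ (p : ℤ) ∣ j := by
      rintro ⟨k, rfl⟩
      refine hxV ?_
      have h1 : ((y : G) * (x : G) ^ i) ^ ((p : ℤ) * k) = 1 := by
        rw [zpow_mul, zpow_natCast, hUe.2 _ (U.mul_mem y.2 (U.pow_mem x.2 i)), one_zpow]
      show (x : G) ∈ V
      rw [← hvw]
      simpa [h1] using hv
    have hcop : IsCoprime (p : ℤ) j := (Nat.prime_iff_prime_int.1 (Fact.out : p.Prime)).coprime_iff_not_dvd.2 hjp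
    obtain ⟨a, b, hab⟩ := hcop
    have hep : (y * x ^ i : ↥U) ^ p = 1 := Subtype.ext (by simpa using hUe.2 _ (y * x ^ i : ↥U).2)
    have : (y * x ^ i : ↥U) ∈ W := by
      have e : (y * x ^ i : ↥U) = ((y * x ^ i) ^ j) ^ b := by
        rw [← zpow_mul, show j * b = 1 - a * (p : ℤ) by linarith, zpow_sub, zpow_one, mul_comm a, zpow_mul,
          zpow_natCast, hep, one_zpow, inv_one, mul_one]
      rw [e]
      exact W.zpow_mem hyj b
    have := W.mul_mem this (W.inv_mem (W.pow_mem hxW i))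
    exact hyW (by simpa using this)

end Cfsg.Agent.S3003
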