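import Cfsg.Statements.S3009
import Cfsg.Agent.Lib.LocalEven.SL2Natural

set_option autoImplicit false
open Cfsg

namespace Cfsg.Agent.S3009

/-- Let p be a prime and let G and V be subgroups of a finite group with V elementary abelian and normalized by G, and G isomorphic to SL₂(F) for a finite field F with pⁿ elements. Suppose G acts irreducibly and nontrivially on V by conjugation (no G-invariant subgroups of V other than 1 and V, and [V, G] ≠ 1), and let S be a Sylow p-subgroup of G and V₀ = C_V(S). If [V, S, S] = 1 or |V| ≤ |V₀|², then G acts on V as SL₂(F) on its natural two-dimensional module; in particular |V| = |F|². -/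
theorem result {X : Type*} [Group X] [Finite X] {p : ℕ} [Fact p.Prime] (G V : Subgroup X) (hV : Cfsg.IsElementaryAbelian p V) (hGV : G ≤ Subgroup.normalizer (V : Set X)) (F : Type) [Field F] [Fintype F] (n : ℕ) (hF : Fintype.card F = p ^ n) (hG : Nonempty (↥G ≃* Matrix.SpecialLinearGroup (Fin 2) F)) (hirr : ∀ U : Subgroup X, U ≤ V → G ≤ Subgroup.normalizer (U : Set X) → U = ⊥ ∨ U = V) (hnt : ⁅V, G⁆ ≠ ⊥) (S : Sylow p ↥G) (hyp : ⁅⁅V, (S : Subgroup ↥G).map G.subtype⁆, (S : Subgroup ↥G).map G.subtype⁆ = ⊥ ∨ Nat.card ↥V ≤ Nat.card ↥(V ⊓ Subgroup.centralizer (((S : Subgroup ↥G).map G.subtype : Subgroup X) : Set X)) ^ 2) : Cfsg.ActsAsSL2OnSection F ⊤ G V ⊥ := by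
  classical
  have hp : p.Prime := Fact.out
  obtain ⟨e⟩ := hG
  haveI : CharP F p := by
    obtain ⟨q, hq⟩ := CharP.exists F
    obtain ⟨m, hqp, hm⟩ := FiniteField.card F q
    rw [hF] at hm
    have hqe : q = p := (Nat.prime_dvd_prime_iff_eq hqp hp).1
      (hqp.dvd_of_dvd_pow (hm ▸ dvd_pow_self q m.ne_zero))
    exact hqe ▸ hq
  haveI := hV.1
  letI : CommGroup ↥V := { (inferInstance : Group ↥V) with mul_comm := fun a b => hV.1.1.comm a b }
  obtain ⟨U, hU⟩ := CfsgLib.LocalEven.NatFrame.exists_sylow_upRange (p := p) (F := F)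
  obtain ⟨g, hg⟩ := MulAction.exists_smul_eq (Matrix.SpecialLinearGroup (Fin 2) F)
    (S.mapSurjective (f := e.toMonoidHom) e.surjective) U
  set e' : ↥G ≃* Matrix.SpecialLinearGroup (Fin 2) F := e.trans (MulAut.conj g) with he'
  have hS : ∀ y : ↥G, y ∈ (S : Subgroup ↥G) ↔ ∃ a, CfsgLib.LocalEven.QdOver.upSL a = e' y := by
    intro y
    have h1 : (U : Subgroup (Matrix.SpecialLinearGroup (Fin 2) F)) = (S : Subgroup ↥G).map e'.toMonoidHom := by
      have h2 : (e'.toMonoidHom : ↥G →* Matrix.SpecialLinearGroup (Fin 2) F) =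
          (MulAut.conj g).toMonoidHom.comp e.toMonoidHom := rfl
      rw [h2, ← Subgroup.map_map, ← hg]
      rfl
    rw [hU] at h1
    constructor
    · exact fun hy => h1.ge ⟨y, hy, rfl⟩
    · intro hy
      obtain ⟨z, hz, hze⟩ := h1.le hy
      rwa [← e'.injective hze]
  have hVc : ∀ (y : ↥G) (u : ↥V), (y : X) * (u : X) * (y : X)⁻¹ ∈ V := fun y u =>
    (Subgroup.mem_normalizer_iff.1 (hGV y.2) (u : X)).1 u.2
  let act : Matrix.SpecialLinearGroup (Fin 2) F →* AddMonoid.End (Additive ↥V) :=
    { toFun := fun M => AddMonoidHom.mk'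
        (fun x => Additive.ofMul (⟨_, hVc (e'.symm M) (Additive.toMul x)⟩ : ↥V))
        (fun x y => congrArg Additive.ofMul (Subtype.ext (by
          simp only [toMul_add, toMul_ofMul, Subgroup.coe_mul]; group)))
      map_one' := AddMonoidHom.ext fun x => congrArg Additive.ofMul
        (Subtype.ext (show _ = ((Additive.toMul x : ↥V) : X) by simp))
      map_mul' := fun M N => AddMonoidHom.ext fun x => congrArg Additive.ofMul
        (Subtype.ext (by
          show ((e'.symm (M * N) : ↥G) : X) * _ * _ = _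
          rw [map_mul, Subgroup.coe_mul]
          show _ = (e'.symm M : X) * ((e'.symm N : X) * _ * (e'.symm N : X)⁻¹) * (e'.symm M : X)⁻¹
          group)) }
  have hact : ∀ (y : ↥G) (u : ↥V),
      act (e' y) (Additive.ofMul u) = Additive.ofMul ⟨_, hVc y u⟩ := fun y u =>
    congrArg Additive.ofMul (Subtype.ext (show
      ((e'.symm (e' y) : ↥G) : X) * (u : X) * _⁻¹ = _ by rw [MulEquiv.symm_apply_apply]))
  have hirr' : ∀ W : AddSubgroup (Additive ↥V), (∀ g, ∀ x ∈ W, act g x ∈ W) → W = ⊥ ∨ W = ⊤ := fun W hW => by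
        set W' : Subgroup X := (AddSubgroup.toSubgroup' W).map V.subtype with hW'
        have hle : W' ≤ V := by rintro _ ⟨u, -, rfl⟩; exact u.2
        have hn : G ≤ Subgroup.normalizer (W' : Set X) := by
          have h1 : ∀ y ∈ G, ∀ x ∈ W', y * x * y⁻¹ ∈ W' := by
            rintro y hy _ ⟨u, hu, rfl⟩
            refine ⟨⟨_, hVc ⟨y, hy⟩ u⟩, ?_, rfl⟩
            have := hW (e' ⟨y, hy⟩) _ (show Additive.ofMul u ∈ W from hu)
            rw [hact] at this
            exact this
          intro y hy
          refine Subgroup.mem_normalizer_iff.2 fun x => ⟨h1 y hy x, fun hx => ?_⟩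
          have := h1 y⁻¹ (inv_mem hy) _ hx
          simpa [mul_assoc] using this
        rcases hirr W' hle hn with h | h
        · left
          refine (AddSubgroup.eq_bot_iff_forall _).2 fun x hx => ?_
          have hm : ((Additive.toMul x : ↥V) : X) ∈ W' := ⟨Additive.toMul x, hx, rfl⟩
          rw [h, Subgroup.mem_bot] at hm
          exact congrArg Additive.ofMul (Subtype.ext hm : Additive.toMul x = 1)
        · right
          refine eq_top_iff.2 fun x _ => ?_
          obtain ⟨u, hu, hux⟩ := h.ge (Additive.toMul x).2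
          have he : u = Additive.toMul x := Subtype.ext hux
          subst he
          exact hu
  have hnt' : ∃ g x, act g x ≠ x := by
        by_contra hc
        push Not at hc
        apply hnt
        rw [Subgroup.commutator_eq_bot_iff_le_centralizer]
        intro u hu
        refine Subgroup.mem_centralizer_iff.2 fun y hy => ?_
        have h1 := hc (e' ⟨y, hy⟩) (Additive.ofMul ⟨u, hu⟩)
        rw [hact] at h1
        have h2 := congrArg (fun t : Additive ↥V => ((Additive.toMul t : ↥V) : X)) h1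
        exact mul_inv_eq_iff_eq_mul.1 h2 
  haveI : Nontrivial (Additive ↥V) := by
    obtain ⟨g, x, hx⟩ := hnt'
    exact nontrivial_of_ne _ _ hx
  let s : CfsgLib.LocalEven.SL2Natural.Setting F (Additive ↥V) :=
    { act := act
      fix0 := fun x hx => by
        let Fx : AddSubgroup (Additive ↥V) :=
          { carrier := {y | ∀ g, act g y = y}
            zero_mem' := fun g => map_zero _
            add_mem' := fun hy hz g => by rw [map_add, hy g, hz g]
            neg_mem' := fun hy g => by rw [map_neg, hy g] }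
        rcases hirr' Fx (fun g y hy => by rw [hy g]; exact hy) with h | h
        · have : x ∈ Fx := hx
          rwa [h, AddSubgroup.mem_bot] at this
        · obtain ⟨g, y, hy⟩ := hnt'
          exact absurd ((show y ∈ Fx by rw [h]; trivial) g) hy }
  set S' : Subgroup X := (S : Subgroup ↥G).map G.subtype with hS'
  have hfix : ∀ u : ↥V, (u : X) ∈ Subgroup.centralizer (S' : Set X) ↔
      Additive.ofMul u ∈ CfsgLib.LocalEven.SL2Natural.V0 s := by
    intro u
    constructor
    · intro hu a
      obtain ⟨y, hy⟩ := e'.surjective (CfsgLib.LocalEven.QdOver.upSL a)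
      have hyS : (y : X) ∈ S' := ⟨y, (hS y).2 ⟨a, hy.symm⟩, rfl⟩
      show act _ _ = _
      rw [← hy, hact]
      refine congrArg Additive.ofMul (Subtype.ext ?_)
      show (y : X) * u * (y : X)⁻¹ = u
      rw [Subgroup.mem_centralizer_iff.1 hu _ hyS, mul_inv_cancel_right]
    · intro hu
      rw [Subgroup.mem_centralizer_iff]
      rintro _ ⟨y, hy, rfl⟩
      obtain ⟨a, ha⟩ := (hS y).1 hy
      have h1 : act (e' y) (Additive.ofMul u) = Additive.ofMul u := ha ▸ hu a
      rw [hact] at h1
      exact mul_inv_eq_iff_eq_mul.1 (congrArg (fun t : Additive ↥V => ((Additive.toMul t : ↥V) : X)) h1)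
  have hcard : Nat.card ↥(V ⊓ Subgroup.centralizer (S' : Set X)) =
      Nat.card ↥(CfsgLib.LocalEven.SL2Natural.V0 s) := Nat.card_congr
    { toFun := fun u => ⟨Additive.ofMul ⟨u, u.2.1⟩, (hfix _).1 u.2.2⟩
      invFun := fun x => ⟨(Additive.toMul x.1 : ↥V), (Additive.toMul x.1).2, (hfix _).2 x.2⟩
      left_inv := fun _ => rfl
      right_inv := fun _ => rfl }
  have hexp : ∀ x : Additive ↥V, p • x = 0 := fun x =>
    congrArg Additive.ofMul (Subtype.ext (hV.2 _ (Additive.toMul x).2) : (Additive.toMul x) ^ p = 1)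
  obtain ⟨Φ, hΦ⟩ := CfsgLib.LocalEven.SL2Natural.natural s (p := p) hirr' hexp (by
    rcases hyp with h | h
    · left
      intro a b x
      obtain ⟨y, hy⟩ := e'.surjective (CfsgLib.LocalEven.QdOver.upSL a)
      obtain ⟨z, hz⟩ := e'.surjective (CfsgLib.LocalEven.QdOver.upSL b)
      have hyS : (y : X) ∈ S' := ⟨y, (hS y).2 ⟨a, hy.symm⟩, rfl⟩
      have hzS : (z : X) ∈ S' := ⟨z, (hS z).2 ⟨b, hz.symm⟩, rfl⟩
      show act _ (act _ x - x) = act _ x - x
      rw [← hy, ← hz, ← ofMul_toMul x, hact, ← ofMul_div, hact]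
      refine congrArg Additive.ofMul (Subtype.ext ?_)
      set c : ↥V := (⟨_, hVc y (Additive.toMul x)⟩ : ↥V) / Additive.toMul x with hc
      have hcm : (c : X) ∈ ⁅V, S'⁆ := by
        rw [Subgroup.commutator_comm]
        have := Subgroup.commutator_mem_commutator hyS (Additive.toMul x).2
        rw [hc, div_eq_mul_inv]
        exact this
      rw [Subgroup.commutator_eq_bot_iff_le_centralizer] at h
      show (z : X) * c * (z : X)⁻¹ = c
      rw [Subgroup.mem_centralizer_iff.1 (h hcm) _ hzS, mul_inv_cancel_right]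
    · right
      rwa [← hcard, Nat.card_congr (Additive.toMul : Additive ↥V ≃ ↥V)])
  refine ⟨hGV, bot_le, e'.toMonoidHom,
    MonoidHom.mk' (fun u => Multiplicative.ofAdd (Φ.symm (Additive.ofMul u)))
      (fun u v => by rw [ofMul_mul, map_add, ofAdd_add]),
    MonoidHom.range_eq_top.2 e'.surjective, ?_, ?_, ?_⟩
  · intro v
    exact ⟨Additive.toMul (Φ (Multiplicative.toAdd v)), by simp⟩
  · intro u
    simp
  · intro y u
    refine ⟨⟨_, hVc y u⟩, rfl, ?_⟩
    simp only [MonoidHom.mk'_apply, toAdd_ofAdd]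
    rw [← hact y u, Φ.symm_apply_eq]
    have := (hΦ (e' y) (Φ.symm (Additive.ofMul u))).symm
    rw [Φ.apply_symm_apply] at this
    exact this

end Cfsg.Agent.S3009
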