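import Cfsg.Statements.S3011
import Cfsg.Agent.Lib.Invol.BaerSuzuki

set_option autoImplicit false
open Cfsg

namespace Cfsg.Agent.S3011

/-- Let G be a finite group and V a nontrivial elementary abelian 2-subgroup of G of order at most 4 such that, whenever an element of V inverts an element h of G of odd order, some nontrivial element of V commutes with h. Then V meets O₂(G) nontrivially. (The case of order at most 4 has a short argument from the Baer–Suzuki theorem.) -/
theorem result {G : Type*} [Group G] [Finite G] (V : Subgroup G) (hV : Cfsg.IsElementaryAbelian 2 V) (hV1 : V ≠ ⊥) (hS : Cfsg.IsSidkiPair V) (h4 : Nat.card V ≤ 4) : V ⊓ Cfsg.pCore 2 G ≠ ⊥ := by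
  classical
  intro hcon
  have hinv : ∀ v ∈ V, v * v = 1 := fun v hv => by rw [← sq]; exact hV.2 v hv
  have hcomm : ∀ v ∈ V, ∀ w ∈ V, v * w = w * v := fun v hv w hw =>
    congrArg Subtype.val (hV.1.1.comm (⟨v, hv⟩ : ↥V) ⟨w, hw⟩)
  have hodd : ∀ (x : G), Odd (orderOf x) → x * x = 1 → x = 1 := by
    intro x ho hx
    have h1 : orderOf x ∣ 2 := orderOf_dvd_of_pow_eq_one (by rw [sq]; exact hx)
    rcases (Nat.dvd_prime Nat.prime_two).1 h1 with h2 | h2
    · exact orderOf_eq_one_iff.1 h2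
    · rw [h2] at ho; exact absurd ho (by decide)
  have hflip : ∀ (x y : G), Odd (orderOf x) → Odd (orderOf y) → x * y * x⁻¹ = y⁻¹ → y = 1 := by
    intro x y hx hy hxy
    have h1 : ∀ n : ℕ, x ^ n * y * (x ^ n)⁻¹ = if Even n then y else y⁻¹ := by
      intro n
      induction n with
      | zero => simp
      | succ n ih =>
        rw [pow_succ', mul_inv_rev, show x * x ^ n * y * ((x ^ n)⁻¹ * x⁻¹) = x * (x ^ n * y * (x ^ n)⁻¹) * x⁻¹ by group, ih]
        by_cases hn : Even n
        · rw [if_pos hn, hxy, if_neg (by simpa [Nat.even_add_one] using hn)]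
        · rw [if_neg hn, ← conj_inv, hxy, inv_inv, if_pos (by simpa [Nat.even_add_one] using hn)]
    have h2 := h1 (orderOf x)
    rw [pow_orderOf_eq_one, if_neg (Nat.not_even_iff_odd.2 hx)] at h2
    simp only [one_mul, inv_one, mul_one] at h2
    exact hodd y hy (mul_eq_one_iff_eq_inv.2 h2)
  have hcP : ∀ (x y : G), Odd (orderOf x) → Odd (orderOf y) → Commute (x * x) (y * y) → Commute x y := by
    intro x y hx hy hxy
    obtain ⟨i, hi⟩ := hx
    obtain ⟨j, hj⟩ := hy
    have h1 : x = (x * x) ^ (i + 1) := by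
      rw [← sq, ← pow_mul, show 2 * (i + 1) = orderOf x + 1 by omega, pow_succ, pow_orderOf_eq_one, one_mul]
    have h2 : y = (y * y) ^ (j + 1) := by
      rw [← sq, ← pow_mul, show 2 * (j + 1) = orderOf y + 1 by omega, pow_succ, pow_orderOf_eq_one, one_mul]
    rw [h1, h2]; exact hxy.pow_pow _ _
  -- every nontrivial element inverts an element centralised by another one
  have hget : ∀ v ∈ V, v ≠ 1 → ∃ h w, h ≠ 1 ∧ Odd (orderOf h) ∧ v * h * v⁻¹ = h⁻¹ ∧ w ∈ V ∧ w ≠ 1 ∧
      w ≠ v ∧ w * h = h * w := by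
    intro v hv hv1
    obtain ⟨h, hh1, hho, hhv⟩ := CfsgLib.Invol.exists_inverted_odd v
      (orderOf_eq_prime (hV.2 v hv) hv1) (fun N hN hN2 hvN => hv1 (Subgroup.mem_bot.1 (hcon ▸
        ⟨hv, le_sSup (show N ∈ {N : Subgroup G | N.Normal ∧ IsPGroup 2 N} from ⟨hN, hN2⟩) hvN⟩)))
    obtain ⟨w, hw, hw1, hwh⟩ := hS h v hv hho hhv
    refine ⟨h, w, hh1, hho, hhv, hw, hw1, fun e => hh1 (hodd h hho ?_), hwh⟩
    subst e
    have e2 : w * h * w⁻¹ = h := by rw [hwh, mul_inv_cancel_right]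
    exact mul_eq_one_iff_eq_inv.2 (e2.symm.trans hhv)
  have hall : ∀ a ∈ V, ∀ b ∈ V, a ≠ 1 → b ≠ 1 → a ≠ b → ∀ w ∈ V, w = 1 ∨ w = a ∨ w = b ∨ w = a * b := by
    intro a ha b hb ha1 hb1 hab w hw
    by_contra hc
    push Not at hc
    obtain ⟨h1, h2, h3, h4⟩ := hc
    have hab1 : a * b ≠ 1 := fun e => hab (by
      rw [mul_eq_one_iff_eq_inv, inv_eq_of_mul_eq_one_right (hinv b hb)] at e; exact e)
    have hsub : ({1, a, b, a * b, w} : Finset G) ⊆ (V : Set G).toFinite.toFinset := by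
      intro x hx
      simp only [Finset.mem_insert, Finset.mem_singleton] at hx
      rw [Set.Finite.mem_toFinset]
      rcases hx with rfl | rfl | rfl | rfl | rfl
      exacts [one_mem V, ha, hb, mul_mem ha hb, hw]
    have hle := Finset.card_le_card hsub
    rw [← Set.ncard_eq_toFinset_card, ← Nat.card_coe_set_eq] at hle
    have h5 : ({1, a, b, a * b, w} : Finset G).card = 5 := by
      rw [Finset.card_insert_of_notMem, Finset.card_insert_of_notMem, Finset.card_insert_of_notMem,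
        Finset.card_insert_of_notMem, Finset.card_singleton] <;>
        simp [ha1, hb1, hab, hab1, h1, h2, h3, h4, ha1.symm, hb1.symm, hab1.symm, h1.symm, h2.symm,
          h3.symm, h4.symm]
    have h6 : Nat.card ↥(V : Set G) = Nat.card ↥V := rfl
    omega
  -- two elements inverting elements centralised by each other
  have hpair : ∀ a ∈ V, ∀ b ∈ V, a ≠ 1 → b ≠ 1 → a ≠ b → ∀ h k : G, h ≠ 1 → k ≠ 1 →
      Odd (orderOf h) → Odd (orderOf k) → a * h * a⁻¹ = h⁻¹ → b * h = h * b →
      b * k * b⁻¹ = k⁻¹ → a * k = k * a → False := by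
    intro a ha b hb ha1 hb1 hab h k hh1 hk1 hho hko hah hbh hbk hak
    have hbh' : b * h * b⁻¹ = h := by rw [hbh, mul_inv_cancel_right]
    have hak' : a * k * a⁻¹ = k := by rw [hak, mul_inv_cancel_right]
    have ho2 : ∀ x : G, Odd (orderOf x) → Odd (orderOf (x * x)) := fun x hx => by
      rw [← sq]; exact hx.of_dvd_nat (orderOf_pow_dvd 2)
    set m := k * (h * h) * k⁻¹ with hm
    have hmo : Odd (orderOf m) := by
      rw [show m = (MulAut.conj k) (h * h) by rw [hm]; rfl, (MulAut.conj k).orderOf_eq]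
      exact ho2 h hho
    have hca : ∀ x y : G, a * (x * y) * a⁻¹ = (a * x * a⁻¹) * (a * y * a⁻¹) := fun x y => conj_mul.symm
    have hcb : ∀ x y : G, b * (x * y) * b⁻¹ = (b * x * b⁻¹) * (b * y * b⁻¹) := fun x y => conj_mul.symm
    have ham : a * m * a⁻¹ = k * (h * h)⁻¹ * k⁻¹ := by
      rw [hm, hca, hca, hca, hah, hak', ← conj_inv, hak', mul_inv_rev]
    have hbm : b * m * b⁻¹ = k⁻¹ * (h * h) * k := by
      rw [hm, hcb, hcb, hcb, hbh', ← conj_inv, hbk, inv_inv]
    obtain ⟨w, hw, hw1, hwm⟩ := hS m a ha hmo (by rw [ham, hm, conj_inv])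
    have hwm' : w * m * w⁻¹ = m := by rw [hwm, mul_inv_cancel_right]
    have hhk : Commute h k := by
      rcases hall a ha b hb ha1 hb1 hab w hw with e | e | e | e
      · exact absurd e hw1
      · subst e
        rw [ham, hm] at hwm'
        have e2 : (h * h)⁻¹ = h * h := mul_left_cancel (mul_right_cancel hwm')
        exact absurd (hodd h hho (hodd _ (ho2 h hho) (mul_eq_one_iff_eq_inv.2 e2.symm))) hh1
      · subst e
        rw [hbm, hm] at hwm'
        refine hcP h k hho hko ?_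
        show h * h * (k * k) = k * k * (h * h)
        calc h * h * (k * k) = k * (k⁻¹ * (h * h) * k) * k := by group
          _ = k * k * (h * h) := by rw [hwm']; group
      · subst e
        rw [show a * b * m * (a * b)⁻¹ = a * (b * m * b⁻¹) * a⁻¹ by group, hbm, hca, hca, hca, hah,
          hak', ← conj_inv, hak', ← mul_inv_rev, hm] at hwm'
        have e2 : (k * k) * (h * h) * (k * k)⁻¹ = (h * h)⁻¹ := by
          calc (k * k) * (h * h) * (k * k)⁻¹ = k * (k * (h * h) * k⁻¹) * k⁻¹ := by group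
            _ = _ := by rw [← hwm']; group
        exact absurd (hodd h hho (hflip _ _ (ho2 k hko) (ho2 h hho) e2)) hh1
    have hco : Odd (orderOf (h * k)) :=
      (Nat.odd_mul.2 ⟨hho, hko⟩).of_dvd_nat (hhk.orderOf_mul_dvd_mul_orderOf)
    have hah2 : a * (h * k) * a⁻¹ = h⁻¹ * k := by rw [hca, hah, hak']
    have hbh2 : b * (h * k) * b⁻¹ = h * k⁻¹ := by rw [hcb, hbh', hbk]
    have hc2 : a * b * (h * k) * (a * b)⁻¹ = (h * k)⁻¹ := by
      rw [show a * b * (h * k) * (a * b)⁻¹ = a * (b * (h * k) * b⁻¹) * a⁻¹ by group, hbh2, hca, hah,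
        ← conj_inv, hak', mul_inv_rev, (hhk.inv_inv).eq]
    obtain ⟨w', hw', hw'1, hw'c⟩ := hS (h * k) (a * b) (mul_mem ha hb) hco hc2
    have hw'c' : w' * (h * k) * w'⁻¹ = h * k := by rw [hw'c, mul_inv_cancel_right]
    rcases hall a ha b hb ha1 hb1 hab w' hw' with e | e | e | e
    · exact hw'1 e
    · subst e
      rw [hah2] at hw'c'
      exact hh1 (hodd h hho (mul_eq_one_iff_eq_inv.2 (mul_right_cancel hw'c').symm))
    · subst e
      rw [hbh2] at hw'c'
      exact hk1 (hodd k hko (mul_eq_one_iff_eq_inv.2 (mul_left_cancel hw'c').symm))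
    · subst e
      rw [hc2] at hw'c'
      have h3 := hodd _ hco (mul_eq_one_iff_eq_inv.2 hw'c'.symm)
      have h4 : h = k⁻¹ := mul_eq_one_iff_eq_inv.1 h3
      refine hh1 (hodd h hho (mul_eq_one_iff_eq_inv.2 ?_))
      rw [← hah, h4, ← conj_inv, hak']
  obtain ⟨a, ha, ha1⟩ := (Subgroup.bot_or_exists_ne_one _).resolve_left hV1
  obtain ⟨h, b, hh1, hho, hah, hb, hb1, hba, hbh⟩ := hget a ha ha1
  obtain ⟨k, w, hk1, hko, hbk, hw, hw1, hwb, hwk⟩ := hget b hb hb1
  rcases hall a ha b hb ha1 hb1 hba.symm w hw with e | e | e | e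
  · exact hw1 e
  · subst e
    exact hpair w ha b hb ha1 hb1 hba.symm h k hh1 hk1 hho hko hah hbh hbk hwk
  · exact hwb e
  · subst e
    refine hpair (a * b) hw b hb hw1 hb1 hwb h k hh1 hk1 hho hko ?_ hbh hbk hwk
    rw [show a * b * h * (a * b)⁻¹ = a * (b * h * b⁻¹) * a⁻¹ by group,
      show b * h * b⁻¹ = h by rw [hbh, mul_inv_cancel_right], hah]

end Cfsg.Agent.S3011
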