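import Cfsg.Statements.S3012
-- import your own Cfsg.Agent.* helpers here

set_option autoImplicit false
open Cfsg

namespace Cfsg.Agent.S3012

/-- Let G be a finite group, V a nontrivial elementary abelian 2-subgroup of G satisfying the Sidki pair condition (every odd-order element inverted by an element of V commutes with a nontrivial element of V), and K a normal subgroup of G with V ∩ K = 1. Then the image of V in G/K satisfies the Sidki pair condition in G/K. -/
theorem result {G : Type*} [Group G] [Finite G] (V K : Subgroup G) [K.Normal] (hV : Cfsg.IsElementaryAbelian 2 V) (hV1 : V ≠ ⊥) (hS : Cfsg.IsSidkiPair V) (hVK : V ⊓ K = ⊥) : Cfsg.IsSidkiPair (V.map (QuotientGroup.mk' K)) := by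
  rintro q _ ⟨v, hv, rfl⟩ hodd hinv
  set f := QuotientGroup.mk' K with hf
  set k := (orderOf q + 1) / 2 with hk
  have hk2 : 2 * k = orderOf q + 1 := by obtain ⟨r, hr⟩ := hodd; omega
  have hqk : q ^ k * q ^ k = q := by
    rw [← pow_add, ← two_mul, hk2, pow_succ, pow_orderOf_eq_one, one_mul]
  obtain ⟨g, hg⟩ := QuotientGroup.mk'_surjective K (q ^ k)
  have hvv : v⁻¹ = v := inv_eq_of_mul_eq_one_right (by rw [← pow_two]; exact hV.2 v hv)
  set u := g⁻¹ * v * g with hu
  have huu : u⁻¹ = u := by rw [hu, mul_inv_rev, mul_inv_rev, inv_inv, hvv, mul_assoc]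
  set h₀ := v * u with hh₀
  have hh₀inv : v * h₀ * v⁻¹ = h₀⁻¹ := by
    rw [hh₀, mul_inv_rev, huu, ← mul_assoc v v u]
    nth_rw 1 [← hvv]
    rw [inv_mul_cancel, one_mul]
  have hfh : f h₀ = q := by
    have h1 : f v * q ^ k * (f v)⁻¹ = (q ^ k)⁻¹ := by rw [← conj_pow, hinv, inv_pow]
    calc f h₀ = f v * (q ^ k)⁻¹ * f v * q ^ k := by simp [hh₀, hu, map_mul, map_inv, hg, hf, mul_assoc]
      _ = f v * (f v * q ^ k * (f v)⁻¹) * f v * q ^ k := by rw [h1]
      _ = (f v * f v) * q ^ k * q ^ k := by group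
      _ = q := by
        rw [mul_assoc, hqk, ← map_mul]
        nth_rw 1 [← hvv]
        rw [inv_mul_cancel, map_one, one_mul]
  obtain ⟨a, m, hm, ham⟩ := Nat.exists_eq_two_pow_mul_odd (orderOf_pos h₀).ne'
  have hoh : Odd (orderOf (h₀ ^ 2 ^ a)) := by
    rw [orderOf_pow_of_dvd (by positivity) ⟨m, ham⟩, ham, Nat.mul_div_cancel_left _ (by positivity)]
    exact hm
  obtain ⟨w, hw, hw1, hwc⟩ := hS (h₀ ^ 2 ^ a) v hv hoh (by rw [← conj_pow, hh₀inv, inv_pow])
  refine ⟨f w, ⟨w, hw, rfl⟩, fun h1 => hw1 ?_, ?_⟩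
  · have : w ∈ V ⊓ K := ⟨hw, (QuotientGroup.eq_one_iff w).1 h1⟩
    rwa [hVK, Subgroup.mem_bot] at this
  · have hc : Commute (f w) (q ^ 2 ^ a) := by
      rw [← hfh, ← map_pow, commute_iff_eq, ← map_mul, ← map_mul, hwc]
    obtain ⟨r, hr⟩ := exists_pow_eq_self_of_coprime
      (show (2 ^ a).Coprime (orderOf q) from (Nat.coprime_two_left.2 hodd).pow_left a)
    rw [← hr]
    exact hc.pow_right r

end Cfsg.Agent.S3012
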