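import Cfsg.Statements.S3013
-- import your own Cfsg.Agent.* helpers here

set_option autoImplicit false
open Cfsg

namespace Cfsg.Agent.S3013

/-- Let G be a finite group and V a nontrivial elementary abelian 2-subgroup of G satisfying the Sidki pair condition. Let v ∈ V and let x be an element of odd order inverted by v, and put C = C_G(v) ∩ C_G(x), the centralizer of the dihedral subgroup generated by v and x. Then C ∩ V is nontrivial and satisfies the Sidki pair condition inside C: every odd-order element of C inverted by an element of C ∩ V commutes with a nontrivial element of C ∩ V. -/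
theorem result {G : Type*} [Group G] [Finite G] (V : Subgroup G) (hV : Cfsg.IsElementaryAbelian 2 V) (hV1 : V ≠ ⊥) (hS : Cfsg.IsSidkiPair V) (v x : G) (hv : v ∈ V) (hx : Odd (orderOf x)) (hinv : v * x * v⁻¹ = x⁻¹) (C : Subgroup G) (hC : C = Subgroup.centralizer ({v} : Set G) ⊓ Subgroup.centralizer ({x} : Set G)) : C ⊓ V ≠ ⊥ ∧ Cfsg.IsSidkiPair ((C ⊓ V).subgroupOf C) := by
  subst hC
  have hab : ∀ a ∈ V, ∀ b ∈ V, a * b = b * a := fun a ha b hb =>
    congrArg Subtype.val (hV.1.1.comm (⟨a, ha⟩ : ↥V) ⟨b, hb⟩)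
  refine ⟨?_, ?_⟩
  · obtain ⟨w, hw, hw1, hwx⟩ := hS x v hv hx hinv
    intro hbot
    apply hw1
    rw [← Subgroup.mem_bot, ← hbot]
    exact ⟨⟨Subgroup.mem_centralizer_singleton_iff.2 (hab w hw v hv),
      Subgroup.mem_centralizer_singleton_iff.2 hwx⟩, hw⟩
  · rintro ⟨h, hh⟩ ⟨v', hv'⟩ hv'V hhodd hhinv
    obtain ⟨-, hv'2⟩ := Subgroup.mem_subgroupOf.1 hv'V
    change v' ∈ V at hv'2
    have hhinv' : v' * h * v'⁻¹ = h⁻¹ := congrArg Subtype.val hhinv
    rw [Subgroup.orderOf_mk] at hhodd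
    obtain ⟨hhv, hhx⟩ := Subgroup.mem_inf.1 hh
    rw [Subgroup.mem_centralizer_singleton_iff] at hhv hhx
    obtain ⟨-, hv'x⟩ := Subgroup.mem_inf.1 hv'
    rw [Subgroup.mem_centralizer_singleton_iff] at hv'x
    have hcomm : Commute h x := hhx
    have hodd : Odd (orderOf (h * x)) :=
      Odd.of_dvd_nat (hhodd.mul hx) hcomm.orderOf_mul_dvd_mul_orderOf
    have e1 : v * h * v⁻¹ = h := by rw [← hhv]; group
    have hinvhx : v' * v * (h * x) * (v' * v)⁻¹ = (h * x)⁻¹ := by
      have e2 : v' * x⁻¹ * v'⁻¹ = x⁻¹ := by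
        have hc : Commute v' x := hv'x
        rw [hc.inv_right.eq]; group
      calc v' * v * (h * x) * (v' * v)⁻¹
          = v' * ((v * h * v⁻¹) * (v * x * v⁻¹)) * v'⁻¹ := by group
        _ = (v' * h * v'⁻¹) * (v' * x⁻¹ * v'⁻¹) := by rw [e1, hinv]; group
        _ = h⁻¹ * x⁻¹ := by rw [hhinv', e2]
        _ = (h * x)⁻¹ := by rw [hcomm.eq, mul_inv_rev]
    obtain ⟨w, hw, hw1, hwc⟩ := hS (h * x) (v' * v) (V.mul_mem hv'2 hv) hodd hinvhx
    have hwv : Commute w v := hab w hw v hv
    have hwhx : Commute w (h * x) := hwc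
    have e3 : v * (h * x) * v⁻¹ = h * x⁻¹ := by
      calc v * (h * x) * v⁻¹ = (v * h * v⁻¹) * (v * x * v⁻¹) := by group
        _ = h * x⁻¹ := by rw [e1, hinv]
    have hwhxi : Commute w (h * x⁻¹) := by
      rw [← e3]; exact (hwv.mul_right hwhx).mul_right hwv.inv_right
    have hwxx : Commute w (x ^ 2) := by
      have : x ^ 2 = (h * x⁻¹)⁻¹ * (h * x) := by rw [pow_two]; group
      rw [this]; exact hwhxi.inv_right.mul_right hwhx
    have hwx : Commute w x := by
      obtain ⟨k, hk⟩ := hx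
      have : x = (x ^ 2) ^ (k + 1) := by
        rw [← pow_mul, show 2 * (k + 1) = orderOf x + 1 by omega, pow_succ, pow_orderOf_eq_one, one_mul]
      rw [this]; exact hwxx.pow_right _
    have hwh : Commute w h := by
      have : h = h * x * x⁻¹ := by group
      rw [this]; exact hwhx.mul_right hwx.inv_right
    have hwC : w ∈ Subgroup.centralizer ({v} : Set G) ⊓ Subgroup.centralizer ({x} : Set G) :=
      ⟨Subgroup.mem_centralizer_singleton_iff.2 hwv, Subgroup.mem_centralizer_singleton_iff.2 hwx⟩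
    exact ⟨⟨w, hwC⟩, ⟨hwC, hw⟩, fun hc => hw1 (congrArg Subtype.val hc), Subtype.ext hwh⟩

end Cfsg.Agent.S3013
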