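import Cfsg.Statements.S3014
import Cfsg.Agent.Lib.LocalEven.TransferIndex

set_option autoImplicit false
open Cfsg

namespace Cfsg.Agent.S3014

/-- Let G be a finite group and H ≤ M ≤ G subgroups such that for every g ∈ G the subgroup generated by H and g H g⁻¹ meets M exactly in H. If H is a maximal subgroup of M and M is a maximal subgroup of G, then the normal closure of H in G meets M exactly in H. -/
theorem result {G : Type*} [Group G] [Finite G] (H M : Subgroup G) (hHM : H ≤ M) (hcl : ∀ g : G, (H ⊔ H.map (MulAut.conj g).toMonoidHom) ⊓ M = H) (hmaxH : IsCoatom (H.subgroupOf M)) (hmaxM : IsCoatom M) : Subgroup.normalClosure (H : Set G) ⊓ M = H := by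
  have hH1 : ∀ g : G, g ∈ M → H.map (MulAut.conj g).toMonoidHom ≤ H := by
    intro g hg
    refine (le_inf le_sup_right ?_).trans (hcl g).le
    rintro _ ⟨y, hy, rfl⟩
    exact M.mul_mem (M.mul_mem hg (hHM hy)) (M.inv_mem hg)
  have hMN : M ≤ Subgroup.normalizer (H : Set G) := fun g hg =>
    CfsgLib.LocalEven.mem_normalizer_of_conj_le (hH1 g hg)
  refine le_antisymm ?_ (le_inf Subgroup.le_normalClosure hHM)
  have hHn : (H.subgroupOf M).Normal := (Subgroup.normal_subgroupOf_iff_le_normalizer hHM).2 hMN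
  by_cases hA : ∀ g : G, g ∉ M → ∀ y ∈ M, g⁻¹ * y * g ∈ M → g⁻¹ * y * g ∈ H
  · obtain ⟨V, hV⟩ := CfsgLib.LocalEven.exists_hom_of_inf_conj_le hHM
      (CfsgLib.LocalEven.quotient_comm_of_normal_coatom hmaxH) hA
    have hker : Subgroup.normalClosure (H : Set G) ≤ V.ker :=
      Subgroup.normalClosure_le_normal fun h hh => (MonoidHom.mem_ker).2
        ((hV ⟨h, hHM hh⟩).trans ((QuotientGroup.eq_one_iff _).2 hh))
    rintro x ⟨hx, hxM⟩
    exact (QuotientGroup.eq_one_iff (⟨x, hxM⟩ : ↥M)).1 ((hV ⟨x, hxM⟩).symm.trans (hker hx))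
  push Not at hA
  obtain ⟨g, hg, y, hy, hy1, hy2⟩ := hA
  set z := g⁻¹ * y * g with hz
  set g' := g⁻¹ with hg'
  set W := H ⊔ H.map (MulAut.conj g').toMonoidHom with hW
  have hzW : z ∈ Subgroup.normalizer (W : Set G) := by
    refine CfsgLib.LocalEven.mem_normalizer_of_conj_le ?_
    rw [hW, Subgroup.map_sup, Subgroup.map_map]
    refine sup_le ((hH1 z hy1).trans le_sup_left) (le_trans ?_ le_sup_right)
    rintro _ ⟨u, hu, rfl⟩
    exact ⟨y * u * y⁻¹, hH1 y hy ⟨u, hu, rfl⟩, by simp [hz, hg', mul_assoc]⟩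
  have hMW : M ≤ Subgroup.normalizer (W : Set G) := by
    have h1 : H.subgroupOf M ⊔ Subgroup.zpowers (⟨z, hy1⟩ : ↥M) = ⊤ :=
      hmaxH.2 _ (lt_of_le_of_ne le_sup_left fun h => hy2 (Subgroup.mem_subgroupOf.1
        (show (⟨z, hy1⟩ : ↥M) ∈ H.subgroupOf M from h.symm ▸ Subgroup.mem_sup_right (Subgroup.mem_zpowers _))))
    have h2 : H.subgroupOf M ⊔ Subgroup.zpowers (⟨z, hy1⟩ : ↥M) ≤
        (Subgroup.normalizer (W : Set G)).subgroupOf M :=
      sup_le (fun u hu => Subgroup.le_normalizer (Subgroup.mem_sup_left (Subgroup.mem_subgroupOf.1 hu)))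
        (Subgroup.zpowers_le.2 hzW)
    intro m hm
    exact h2 (h1.symm ▸ Subgroup.mem_top (⟨m, hm⟩ : ↥M))
  by_cases hWM : W ≤ M
  · have hgn : g' ∈ Subgroup.normalizer (H : Set G) :=
      CfsgLib.LocalEven.mem_normalizer_of_conj_le ((le_inf le_sup_right (le_sup_right.trans hWM)).trans (hcl g').le)
    have htop : Subgroup.normalizer (H : Set G) = ⊤ :=
      hmaxM.2 _ (lt_of_le_of_ne hMN fun h => hg (by rw [← h] at hgn; simpa [hg'] using M.inv_mem hgn))
    have : H.Normal := Subgroup.normalizer_eq_top_iff.1 htop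
    exact inf_le_left.trans (Subgroup.normalClosure_le_normal le_rfl)
  · have htop : M ⊔ W = ⊤ := hmaxM.2 _ (left_lt_sup.2 hWM)
    have : W.Normal := Subgroup.normalizer_eq_top_iff.1
      (top_le_iff.1 (htop ▸ sup_le hMW Subgroup.le_normalizer))
    exact (inf_le_inf_right M (Subgroup.normalClosure_le_normal (SetLike.coe_subset_coe.2 (le_sup_left : H ≤ W)))).trans (hcl g').le

end Cfsg.Agent.S3014
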