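import Cfsg.Statements.S3015
import Cfsg.Agent.Lib.LocalEven.TransferIndex

set_option autoImplicit false
open Cfsg

namespace Cfsg.Agent.S3015

/-- Let G be a finite non-abelian simple group, M a maximal subgroup of G and H a normal subgroup of M of prime index in M. Then G is generated by H together with one of its conjugates. -/
theorem result {G : Type*} [Group G] [Finite G] [IsSimpleGroup G] (hG : ¬ IsMulCommutative G) (M H : Subgroup G) (hmaxM : IsCoatom M) (hHM : H ≤ M) (hHn : (H.subgroupOf M).Normal) (hidx : (H.relIndex M).Prime) : ∃ g : G, H ⊔ H.map (MulAut.conj g).toMonoidHom = ⊤ := by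
  classical
  by_contra hcon
  push_neg at hcon
  haveI := hHn
  haveI : Fact (H.relIndex M).Prime := ⟨hidx⟩
  have hmid : ∀ X : Subgroup G, H ≤ X → X ≤ M → X = H ∨ X = M := by
    intro X h1 h2
    have h3 := Subgroup.relIndex_mul_relIndex H X M h1 h2
    rcases (Nat.dvd_prime hidx).1 ⟨_, h3.symm⟩ with h | h
    · exact Or.inl (le_antisymm (Subgroup.relIndex_eq_one.1 h) h1)
    · rw [h] at h3
      have := (Nat.mul_eq_left hidx.ne_zero).1 h3
      exact Or.inr (le_antisymm h2 (Subgroup.relIndex_eq_one.1 this))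
  have hHM' : H ≠ M := by
    rintro rfl
    exact hidx.ne_one (Subgroup.relIndex_self _)
  have hMn : ¬ M.Normal := by
    intro hn
    rcases IsSimpleGroup.eq_bot_or_eq_top_of_normal M hn with h | h
    · subst h
      exact hHM' (le_bot_iff.1 hHM)
    · exact hmaxM.1 h
  have hNM : Subgroup.normalizer (M : Set G) = M := by
    by_contra h
    exact hMn (Subgroup.normalizer_eq_top_iff.1 (hmaxM.2 _ (lt_of_le_of_ne Subgroup.le_normalizer (Ne.symm h))))
  have hMNH : M ≤ Subgroup.normalizer (H : Set G) :=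
    (Subgroup.normal_subgroupOf_iff_le_normalizer hHM).1 hHn
  have hgen : ∀ z ∈ M, z ∉ H → H ⊔ Subgroup.zpowers z = M := by
    intro z hz hzH
    rcases hmid _ le_sup_left (sup_le hHM (Subgroup.zpowers_le.2 hz)) with h | h
    · exact absurd (h ▸ Subgroup.mem_sup_right (Subgroup.mem_zpowers z)) hzH
    · exact h
  have key : ∀ g : G, g ∉ M → ∀ z ∈ M, z ∉ H → g * z * g⁻¹ ∈ M →
      H.map (MulAut.conj g⁻¹).toMonoidHom ≤ M := by
    intro g hg z hz hzH hgz
    set K := H.map (MulAut.conj g⁻¹).toMonoidHom with hK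
    set W := H ⊔ K with hW
    have hzK : z ∈ Subgroup.normalizer (K : Set G) := by
      refine CfsgLib.LocalEven.mem_normalizer_of_conj_le ?_
      rintro _ ⟨_, ⟨h, hh, rfl⟩, rfl⟩
      refine ⟨(g * z * g⁻¹) * h * (g * z * g⁻¹)⁻¹,
        CfsgLib.LocalEven.conj_mem_of_mem_normalizer (hMNH hgz) hh, ?_⟩
      simp [mul_assoc]
    have hle : M ≤ Subgroup.normalizer (W : Set G) := by
      rw [← hgen z hz hzH, sup_le_iff, Subgroup.zpowers_le]
      refine ⟨le_sup_left.trans Subgroup.le_normalizer, ?_⟩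
      refine CfsgLib.LocalEven.mem_normalizer_of_conj_le ?_
      rw [Subgroup.map_sup]
      refine sup_le ?_ ?_
      · rintro _ ⟨h, hh, rfl⟩
        exact Subgroup.mem_sup_left (CfsgLib.LocalEven.conj_mem_of_mem_normalizer (hMNH hz) hh)
      · rintro _ ⟨k, hk, rfl⟩
        exact Subgroup.mem_sup_right (CfsgLib.LocalEven.conj_mem_of_mem_normalizer hzK hk)
    by_contra hKM
    have hlt : M < Subgroup.normalizer (W : Set G) := by
      refine lt_of_le_of_ne hle fun h => hKM ?_
      rw [h]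
      exact le_sup_right.trans Subgroup.le_normalizer
    rcases IsSimpleGroup.eq_bot_or_eq_top_of_normal W (Subgroup.normalizer_eq_top_iff.1 (hmaxM.2 _ hlt)) with h | h
    · exact hKM ((le_sup_right.trans h.le).trans bot_le)
    · exact hcon g⁻¹ h
  by_cases hti : ∀ g : G, g ∉ M → ∀ y ∈ M, g⁻¹ * y * g ∈ M → g⁻¹ * y * g ∈ H
  · have hco : IsCoatom (H.subgroupOf M) := by
      refine ⟨fun h => hHM' (le_antisymm hHM (Subgroup.subgroupOf_eq_top.1 h)), fun X hX => ?_⟩
      have h1 : H ≤ X.map M.subtype := fun h hh => ⟨⟨h, hHM hh⟩, hX.le hh, rfl⟩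
      rcases hmid _ h1 (Subgroup.map_subtype_le X) with h | h
      · refine absurd (le_antisymm hX.le fun x hx => ?_) hX.ne
        exact Subgroup.mem_subgroupOf.2 (h ▸ ⟨x, hx, rfl⟩)
      · refine eq_top_iff.2 fun x _ => ?_
        obtain ⟨y, hy, hyx⟩ := (h.symm ▸ x.2 : (x : G) ∈ X.map M.subtype)
        rwa [← Subtype.ext (show (y : G) = x from hyx)]
    have hab := CfsgLib.LocalEven.quotient_comm_of_normal_coatom hco
    obtain ⟨V, hV⟩ := CfsgLib.LocalEven.exists_hom_of_inf_conj_le hHM hab hti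
    rcases IsSimpleGroup.eq_bot_or_eq_top_of_normal V.ker inferInstance with h | h
    · refine hG ⟨⟨fun a b => (MonoidHom.ker_eq_bot_iff V).1 h ?_⟩⟩
      rw [map_mul, map_mul, hab]
    · refine hco.1 (eq_top_iff.2 fun m _ => ?_)
      have h1 : (m : G) ∈ V.ker := h ▸ Subgroup.mem_top _
      rw [MonoidHom.mem_ker, hV] at h1
      exact (QuotientGroup.eq_one_iff m).1 h1
  push_neg at hti
  obtain ⟨g, hg, y, hy, hz, hzH⟩ := hti
  set z := g⁻¹ * y * g with hzdef
  have hgz : g * z * g⁻¹ = y := by rw [hzdef]; group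
  have hK := key g hg z hz hzH (by rw [hgz]; exact hy)
  set K := H.map (MulAut.conj g⁻¹).toMonoidHom with hKdef
  have hKH : ¬ K ≤ H := by
    intro hle
    have hn := CfsgLib.LocalEven.mem_normalizer_of_conj_le hle
    by_cases hHb : H = ⊥
    · refine hg ((inv_mem_iff (H := M)).1 ?_)
      rw [← hNM]
      have hMz : M = Subgroup.zpowers z := by rw [← hgen z hz hzH, hHb, bot_sup_eq]
      have hg' : g ∈ Subgroup.normalizer (M : Set G) := by
        refine CfsgLib.LocalEven.mem_normalizer_of_conj_le ?_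
        conv_lhs => rw [hMz]
        rw [MonoidHom.map_zpowers, Subgroup.zpowers_le]
        show g * z * g⁻¹ ∈ M
        rw [hgz]; exact hy
      exact inv_mem hg'
    · refine hg ((inv_mem_iff (H := M)).1 ?_)
      rcases eq_or_lt_of_le hMNH with h | h
      · rw [h]; exact hn
      · rcases IsSimpleGroup.eq_bot_or_eq_top_of_normal H (Subgroup.normalizer_eq_top_iff.1 (hmaxM.2 _ h)) with h' | h'
        · exact absurd h' hHb
        · exact absurd (top_le_iff.1 (h' ▸ hHM)) hmaxM.1
  obtain ⟨k, hkK, hkH⟩ := SetLike.not_le_iff_exists.1 hKH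
  set M₁ := M.map (MulAut.conj g⁻¹).toMonoidHom with hM₁
  obtain ⟨m', hm', hm'M⟩ : ∃ m' ∈ M₁, m' ∉ M := by
    refine SetLike.not_le_iff_exists.1 fun hle => hg ((inv_mem_iff (H := M)).1 ?_)
    rw [← hNM]
    exact CfsgLib.LocalEven.mem_normalizer_of_conj_le hle
  have hm'K : ∀ u ∈ K, m' * u * m'⁻¹ ∈ K := by
    rintro _ ⟨h, hh, rfl⟩
    obtain ⟨m, hm, rfl⟩ := hm'
    exact ⟨m * h * m⁻¹, CfsgLib.LocalEven.conj_mem_of_mem_normalizer (hMNH hm) hh, by simp [mul_assoc]⟩
  have hH' := key m' hm'M k (hK hkK) hkH (hK (hm'K k hkK))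
  set X := M ⊓ M.map (MulAut.conj m').toMonoidHom with hX
  have hHX : H ≤ X := by
    refine le_inf hHM fun h hh => CfsgLib.LocalEven.mem_map_conj.2 ?_
    simpa using hH' (CfsgLib.LocalEven.conj_mem_map_conj (g := m'⁻¹) hh)
  rcases hmid X hHX inf_le_left with h | h
  · refine hkH (h ▸ ⟨hK hkK, ?_⟩)
    have hinv : m' ∈ Subgroup.normalizer (K : Set G) := by
      refine CfsgLib.LocalEven.mem_normalizer_of_conj_le ?_
      rintro _ ⟨u, hu, rfl⟩
      exact hm'K u hu
    refine CfsgLib.LocalEven.mem_map_conj.2 (hK ?_)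
    simpa using CfsgLib.LocalEven.conj_mem_of_mem_normalizer (inv_mem hinv) hkK
  · refine hm'M ?_
    rw [← hNM]
    have h1 : M = M.map (MulAut.conj m').toMonoidHom :=
      Subgroup.eq_of_le_of_card_ge (h.symm.le.trans inf_le_right) (CfsgLib.LocalEven.card_map_conj M m').le
    exact CfsgLib.LocalEven.mem_normalizer_of_conj_le h1.ge

end Cfsg.Agent.S3015
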