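import Cfsg.Statements.S3020
import Cfsg.Agent.Lib.LocalEven.Basic
import Cfsg.Agent.Lib.Cores.Basic

set_option autoImplicit false
open Cfsg

namespace Cfsg.Agent.S3020

/-- Let G be a finite group, p a prime and H an abelian p-subgroup of G that is extremely closed (for every g, the subgroup generated by H and g H g⁻¹ meets N_G(H) exactly in H). Then for every g ∈ G, the subgroup T generated by H and g H g⁻¹ is the product of H with O_{p'}(T), and H meets O_{p'}(T) trivially; that is, O_{p'}(T) is a normal p-complement of H in T. -/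
theorem result {G : Type*} [Group G] [Finite G] {p : ℕ} [Fact p.Prime] (H : Subgroup G) (hHp : IsPGroup p H) (hHab : IsMulCommutative H) (hcl : Cfsg.IsExtremelyClosed H) (g : G) (T : Subgroup G) (hT : T = H ⊔ H.map (MulAut.conj g).toMonoidHom) : H ⊔ (Cfsg.pPrimeCore p ↥T).map T.subtype = T ∧ H ⊓ (Cfsg.pPrimeCore p ↥T).map T.subtype = ⊥ := by
  subst hT
  set T := H ⊔ H.map (MulAut.conj g).toMonoidHom with hT
  have hHT : H ≤ T := le_sup_left
  set H' := H.subgroupOf T with hH'
  have hself : Subgroup.normalizer (H' : Set ↥T) = H' := by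
    rw [hH', ← Subgroup.subgroupOf_normalizer_eq hHT]
    exact le_antisymm (fun x hx => (hcl g).le ⟨x.2, hx⟩)
      (fun x hx => Subgroup.le_normalizer hx)
  have hH'p : IsPGroup p ↥H' := hHp.of_equiv (Subgroup.subgroupOfEquivOfLe hHT).symm
  obtain ⟨P, hP⟩ := hH'p.exists_le_sylow
  have hPeq : H' = (P : Subgroup ↥T) := by
    refine CfsgLib.LocalEven.eq_of_inf_normalizer_le P.2 hP ?_
    rw [hself]; exact inf_le_right
  have hNC : Subgroup.normalizer ((P : Subgroup ↥T) : Set ↥T) ≤
      Subgroup.centralizer ((P : Subgroup ↥T) : Set ↥T) := by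
    rw [← hPeq, hself]
    intro x hx
    rw [Subgroup.mem_centralizer_iff]
    intro y hy
    exact Subtype.ext (congrArg Subtype.val (hHab.1.comm (⟨y.1, hy⟩ : ↥H) ⟨x.1, hx⟩) :)
  have hcomp := MonoidHom.ker_transferSylow_isComplement' P hNC
  set K := (MonoidHom.transferSylow P hNC).ker with hK
  have hKle : K ≤ Cfsg.pPrimeCore p ↥T :=
    CfsgLib.Cores.le_pPrimeCore_of_not_dvd (MonoidHom.not_dvd_card_ker_transferSylow P hNC)
  constructor
  · refine le_antisymm (sup_le hHT (Subgroup.map_subtype_le _)) ?_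
    intro x hx
    have hsup := hcomp.sup_eq_top
    rw [← hPeq] at hsup
    have h1 : (⟨x, hx⟩ : ↥T) ∈ K ⊔ H' := hsup ▸ Subgroup.mem_top _
    have h2 := Subgroup.mem_map_of_mem T.subtype h1
    rw [Subgroup.map_sup] at h2
    refine (sup_le ?_ ?_ : K.map T.subtype ⊔ H'.map T.subtype ≤ H ⊔ (Cfsg.pPrimeCore p ↥T).map T.subtype) h2
    · exact (Subgroup.map_mono hKle).trans le_sup_right
    · rw [hH', Subgroup.subgroupOf_map_subtype]
      exact inf_le_left.trans le_sup_left
  · refine (Subgroup.disjoint_of_coprime_natCard ?_).eq_bot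
    obtain ⟨n, hn⟩ := IsPGroup.iff_card.1 hHp
    rw [hn, Subgroup.card_map_of_injective T.subtype_injective]
    exact (CfsgLib.Cores.coprime_card_pPrimeCore p).symm.pow_left n

end Cfsg.Agent.S3020
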