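import Cfsg.Statements.S3021
import Cfsg.Agent.Lib.LocalEven.Basic

set_option autoImplicit false
open Cfsg

namespace Cfsg.Agent.S3021

/-- Let G be a finite group, p a prime and H a p-subgroup of G that is extremely closed (for every g, the subgroup generated by H and g H g⁻¹ meets N_G(H) exactly in H). Then every p-subgroup Q of G containing H has N_G(Q) ≤ N_G(H); in particular every Sylow p-subgroup P of G containing H normalizes H, and H is strongly closed in P with respect to G. -/
theorem result {G : Type*} [Group G] [Finite G] {p : ℕ} [Fact p.Prime] (H : Subgroup G) (hHp : IsPGroup p H) (hcl : Cfsg.IsExtremelyClosed H) : (∀ Q : Subgroup G, IsPGroup p Q → H ≤ Q → Subgroup.normalizer (Q : Set G) ≤ Subgroup.normalizer (H : Set G)) ∧ ∀ P : Sylow p G, H ≤ (P : Subgroup G) → (P : Subgroup G) ≤ Subgroup.normalizer (H : Set G) ∧ Cfsg.IsStronglyClosed H (P : Subgroup G) := by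
  have hnorm : ∀ Q : Subgroup G, IsPGroup p Q → H ≤ Q →
      Subgroup.normalizer (Q : Set G) ≤ Subgroup.normalizer (H : Set G) := by
    intro Q hQ hHQ g hg
    have hgQ : H.map (MulAut.conj g).toMonoidHom ≤ Q := by
      rintro _ ⟨y, hy, rfl⟩
      exact CfsgLib.LocalEven.conj_mem_of_mem_normalizer hg (hHQ hy)
    have hT := CfsgLib.LocalEven.eq_of_inf_normalizer_le (hQ.to_le (sup_le hHQ hgQ)) le_sup_left (hcl g).le
    exact CfsgLib.LocalEven.mem_normalizer_of_conj_le (le_sup_right.trans hT.ge)
  refine ⟨hnorm, fun P hHP => ?_⟩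
  have hPN := Subgroup.le_normalizer.trans (hnorm P P.2 hHP)
  refine ⟨hPN, hHP, fun x hx g hgx => ?_⟩
  rw [← hcl g]
  exact ⟨Subgroup.mem_sup_right (CfsgLib.LocalEven.conj_mem_map_conj hx), hPN hgx⟩

end Cfsg.Agent.S3021
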