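import Cfsg.Statements.S3022
import Cfsg.Agent.S2982
import Cfsg.Agent.S2984
import Cfsg.Agent.Lib.LocalEven.PushMin.OddAut
import Cfsg.Agent.Lib.LocalEven.CStar.NearComponent

set_option autoImplicit false
open Cfsg

namespace Cfsg.Agent.S3022

open Subgroup CfsgLib.LocalEven in
open scoped commutatorElement in
private theorem commutator_block_le {G : Type*} [Group G] [Finite G]
    (hG : centralizer (Cfsg.pCore 2 G : Set G) ≤ Cfsg.pCore 2 G) (T : Sylow 2 G) {E : Subgroup G}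
    (hE : IsBaumannBlock 2 (T : Subgroup G) E) :
    ∀ g ∈ E, ∀ q ∈ Cfsg.pCore 2 G, ⁅g, q⁆ ∈ PushMin.modV 2 G := by
  haveI : Fact (Nat.Prime 2) := ⟨Nat.prime_two⟩
  intro g hg q hq
  haveI := CfsgLib.Cores.pCore_characteristic (G := G) 2
  have hW : pCoreOf 2 E ≤ PushMin.modV 2 G := by
    rw [← hE.2.2.1, CStar.pCoreOf_eq_omega_of_block hE]
    exact (Cfsg.Agent.S2984.result hG T E hE).2.1
  have h1 : ⁅g, q⁆ ∈ E := by
    rw [commutatorElement_def, mul_assoc, mul_assoc]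
    refine mul_mem hg ?_
    rw [← mul_assoc]
    exact (mem_normalizer_iff.1 (Block.pCore_le_normalizer hE hq) g⁻¹).1 (inv_mem hg)
  have h2 : ⁅g, q⁆ ∈ Cfsg.pCore 2 G := by
    rw [commutatorElement_def]
    exact mul_mem (Normal.conj_mem inferInstance q hq g) (inv_mem hq)
  have h3 : (Cfsg.pCore 2 G).subgroupOf E ≤ Cfsg.pCore 2 ↥E :=
    CfsgLib.Cores.le_pCore
      ((CfsgLib.Cores.isPGroup_pCore (G := G) 2).comap_of_injective E.subtype E.subtype_injective)
  exact hW ⟨⟨⁅g, q⁆, h1⟩, h3 h2, rfl⟩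

open Subgroup CfsgLib.LocalEven in
open scoped commutatorElement in
/-- Let G be a finite group all of whose non-abelian simple sections are known simple groups, such that a Sylow 2-subgroup of G lies in exactly one maximal subgroup of G and C_G(O₂(G)) ≤ O₂(G). Let S be a Sylow 2-subgroup of G and A a group of automorphisms of S of odd order. Then some nontrivial A-invariant subgroup of S is normal in G. -/
theorem result {G : Type*} [Group G] [Finite G] (hK : Cfsg.IsKGroup G) (hirr : ∀ S : Sylow 2 G, ∃! M : Subgroup G, IsCoatom M ∧ (S : Subgroup G) ≤ M) (hchar : Subgroup.centralizer (Cfsg.pCore 2 G : Set G) ≤ Cfsg.pCore 2 G) (S : Sylow 2 G) (A : Subgroup (MulAut ↥(S : Subgroup G))) (hA : Odd (Nat.card A)) : ∃ U : Subgroup G, U ≠ ⊥ ∧ U.Normal ∧ U ≤ (S : Subgroup G) ∧ ∀ a ∈ A, ∀ x : ↥(S : Subgroup G), (x : G) ∈ U → ((a x : ↥(S : Subgroup G)) : G) ∈ U := by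
  classical
  haveI : Fact (Nat.Prime 2) := ⟨Nat.prime_two⟩
  have hne : (S : Subgroup G) ≠ ⊥ := by
    intro h
    obtain ⟨M, ⟨hM, -⟩, -⟩ := hirr S
    have hQ : Cfsg.pCore 2 G = ⊥ := le_bot_iff.1 (h ▸ CfsgLib.Cores.pCore_le_sylow S)
    have htop : (⊤ : Subgroup G) ≤ ⊥ := by
      refine le_trans (fun g _ => mem_centralizer_iff.2 fun q hq => ?_) (hchar.trans hQ.le)
      rw [hQ, coe_bot] at hq
      rw [Set.mem_singleton_iff.1 hq, one_mul, mul_one]
    exact hM.1 (top_le_iff.1 (htop.trans bot_le))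
  have hcharU : ∀ C : Subgroup G, C ≤ (S : Subgroup G) → C ≠ ⊥ → (C.subgroupOf (S : Subgroup G)).Characteristic →
      C.Normal → ∃ U : Subgroup G, U ≠ ⊥ ∧ U.Normal ∧ U ≤ (S : Subgroup G) ∧
        ∀ a ∈ A, ∀ x : ↥(S : Subgroup G), (x : G) ∈ U → ((a x : ↥(S : Subgroup G)) : G) ∈ U :=
    fun C h1 h2 h3 h4 => ⟨C, h2, h4, h1, fun a _ x hx => characteristic_iff_map_le.1 h3 a ⟨x, hx, rfl⟩⟩
  by_cases hn : (S : Subgroup G).Normal
  · exact hcharU S le_rfl hne (by rw [subgroupOf_self]; infer_instance) hn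
  by_cases hz : (omegaOneCenter 2 (S : Subgroup G)).Normal
  · exact hcharU _ (Oz.le_self _) (CStar.omegaOneCenter_ne_bot S hne)
      (CStar.omegaOneCenter_subgroupOf_characteristic _) hz
  by_cases hC : ∃ C : Subgroup G, C ≤ baumannSubgroupOf 2 (S : Subgroup G) ∧ C ≠ ⊥ ∧
      (C.subgroupOf (baumannSubgroupOf 2 (S : Subgroup G))).Characteristic ∧ C.Normal
  · obtain ⟨C, hC1, hC2, hC3, hC4⟩ := hC
    exact hcharU C (hC1.trans (Baumann.baumann_le _)) hC2
      (CStar.char_chain (Baumann.baumann_le _) hC1 (CStar.baumann_subgroupOf_characteristic _) hC3) hC4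
  have hnoC : ∀ C : Subgroup G, C ≤ baumannSubgroupOf 2 (S : Subgroup G) → C ≠ ⊥ →
      (C.subgroupOf (baumannSubgroupOf 2 (S : Subgroup G))).Characteristic → ¬ C.Normal :=
    fun C h1 h2 h3 h4 => hC ⟨C, h1, h2, h3, h4⟩
  have hmin : IsPMinimal 2 G := fun T => ⟨fun hT => hn (by
    haveI := hT
    haveI := Sylow.unique_of_normal T hT
    rwa [Subsingleton.elim S T]), hirr T⟩
  obtain ⟨M, h⟩ := PushMin.exists_hyps hmin hchar S hnoC hz
  obtain ⟨𝓑, ⟨hB1, hB2, -, hB4, -⟩, -⟩ := Cfsg.Agent.S2982.result hmin hchar S hnoC hz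
  haveI hKn : (sSup 𝓑 : Subgroup G).Normal := ⟨fun x hx g => by
    have h1 : sSup 𝓑 ≤ (sSup 𝓑 : Subgroup G).comap (MulAut.conj g).toMonoidHom :=
      sSup_le fun F hF => map_le_iff_le_comap.1 (le_sSup (hB2 F hF g))
    exact h1 hx⟩
  have hKT : sSup 𝓑 ⊔ (S : Subgroup G) = ⊤ := by
    by_contra hne'
    exact h.coatom.1 (top_le_iff.1 (hB4.ge.trans (sup_le h.cs (le_sup_left.trans (h.uniq _ le_sup_right hne')))))
  let N : Subgroup G :=
    { carrier := {k | ∀ q ∈ Cfsg.pCore 2 G, ⁅k, q⁆ ∈ PushMin.modV 2 G}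
      one_mem' := fun q _ => by rw [commutatorElement_one_left]; exact one_mem _
      mul_mem' := fun {a b} ha hb q hq => by
        rw [show ⁅a * b, q⁆ = a * ⁅b, q⁆ * a⁻¹ * ⁅a, q⁆ by simp only [commutatorElement_def]; group]
        exact mul_mem (Normal.conj_mem inferInstance _ (hb q hq) a) (ha q hq)
      inv_mem' := fun {a} ha q hq => by
        rw [show ⁅a⁻¹, q⁆ = a⁻¹ * ⁅a, q⁆⁻¹ * a⁻¹⁻¹ by simp only [commutatorElement_def]; group]
        exact Normal.conj_mem inferInstance _ (inv_mem (ha q hq)) a⁻¹ }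
  have hKQ : ∀ k ∈ (sSup 𝓑 : Subgroup G), ∀ q ∈ Cfsg.pCore 2 G, ⁅k, q⁆ ∈ PushMin.modV 2 G := fun k hk =>
    (sSup_le fun E hE g hg => commutator_block_le hchar S (hB1 E hE) g hg : sSup 𝓑 ≤ N) hk
  exact h.exists_invariant (sSup 𝓑) hKT hKQ A hA

end Cfsg.Agent.S3022
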