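import Cfsg.Statements.S3023
import Cfsg.Agent.Lib.LocalEven.CharP
import Cfsg.Agent.Lib.LocalEven.SubnormalSylow
import Cfsg.Agent.Lib.PGroup.Basic

set_option autoImplicit false
open Cfsg

namespace Cfsg.Agent.S3023

/-- Let p be a prime, G a finite group of parabolic characteristic p (every p-local subgroup containing a Sylow p-subgroup of G has characteristic p), S a Sylow p-subgroup of G and G₁ a subnormal subgroup of G. If the centre of S ∩ G₁ is nontrivial and contained in the centre of S, then G₁ has parabolic characteristic p. -/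
theorem result {G : Type*} [Group G] [Finite G] {p : ℕ} [Fact p.Prime] (hG : Cfsg.IsOfParabolicCharacteristic p G) (S : Sylow p G) (G₁ : Subgroup G) (hsn : G₁.IsSubnormal) (hne : ((S : Subgroup G) ⊓ G₁) ⊓ Subgroup.centralizer (((S : Subgroup G) ⊓ G₁ : Subgroup G) : Set G) ≠ ⊥) (hle : ((S : Subgroup G) ⊓ G₁) ⊓ Subgroup.centralizer (((S : Subgroup G) ⊓ G₁ : Subgroup G) : Set G) ≤ (S : Subgroup G) ⊓ Subgroup.centralizer ((S : Subgroup G) : Set G)) : Cfsg.IsOfParabolicCharacteristic p ↥G₁ := by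
  classical
  intro R hR hR1 ⟨T, hT⟩
  show CfsgLib.LocalEven.HasCharP p ↥(Subgroup.normalizer (R : Set ↥G₁))
  obtain ⟨T₀, hT₀⟩ := CfsgLib.LocalEven.exists_sylow_eq_inf_of_isSubnormal S hsn
  obtain ⟨d, hd⟩ := MulAction.exists_smul_eq ↥G₁ T T₀
  have hmain : ∀ R' : Subgroup ↥G₁, IsPGroup p ↥R' → R' ≠ ⊥ →
      (T₀ : Subgroup ↥G₁) ≤ Subgroup.normalizer (R' : Set ↥G₁) →
      CfsgLib.LocalEven.HasCharP p ↥(Subgroup.normalizer (R' : Set ↥G₁)) := by
    intro R' hR' hR'1 hTR
    have hRT : R' ≤ (T₀ : Subgroup ↥G₁) := by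
      have h1 : IsPGroup p ↥((T₀ : Subgroup ↥G₁) ⊔ R') := IsPGroup.to_sup_of_normal_right' T₀.2 hR' hTR
      exact le_sup_right.trans (T₀.is_maximal' h1 le_sup_left).le
    haveI : (R'.subgroupOf (T₀ : Subgroup ↥G₁)).Normal :=
      (Subgroup.normal_subgroupOf_iff_le_normalizer hRT).2 hTR
    have hne' : R'.subgroupOf (T₀ : Subgroup ↥G₁) ⊓ Subgroup.center ↥(T₀ : Subgroup ↥G₁) ≠ ⊥ := by
      refine CfsgLib.PGroup.inf_center_ne_bot T₀.2 _ fun hb => hR'1 ?_
      rw [← Subgroup.map_subgroupOf_eq_of_le hRT, hb, Subgroup.map_bot]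
    obtain ⟨⟨w, hw⟩, hw0⟩ := Subgroup.ne_bot_iff_exists_ne_one.1 hne'
    have hw1 : w ≠ 1 := fun hh => hw0 (Subtype.ext hh)
    set z : ↥G₁ := (w : ↥G₁) with hz
    have hwS : (z : G) ∈ (S : Subgroup G) := by
      have h1 : (z : ↥G₁) ∈ (T₀ : Subgroup ↥G₁) := w.2
      rw [hT₀] at h1; exact h1
    have hzS : ((z : G)) ∈ Subgroup.centralizer ((S : Subgroup G) : Set G) := by
      refine (hle ⟨⟨hwS, z.2⟩, Subgroup.mem_centralizer_iff.2 ?_⟩).2
      intro u hu
      have hu' : (⟨u, hu.2⟩ : ↥G₁) ∈ (T₀ : Subgroup ↥G₁) := by rw [hT₀]; exact hu.1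
      have := congrArg (fun v : ↥(T₀ : Subgroup ↥G₁) => ((v : ↥G₁) : G))
        (Subgroup.mem_center_iff.1 hw.2 ⟨_, hu'⟩)
      exact this
    set Z := Subgroup.zpowers (z : G) with hZ
    have hZp : IsPGroup p ↥Z := S.2.to_le (Subgroup.zpowers_le.2 hwS)
    have hZ1 : Z ≠ ⊥ := by
      intro hb
      rw [hZ, Subgroup.zpowers_eq_bot] at hb
      exact hw1 (Subtype.ext (Subtype.ext hb))
    have hSC : (S : Subgroup G) ≤ Subgroup.centralizer (Z : Set G) := by
      rw [Subgroup.le_centralizer_iff, hZ, Subgroup.zpowers_le]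
      exact hzS
    have hN : CfsgLib.LocalEven.HasCharP p ↥(Subgroup.normalizer (Z : Set G)) :=
      hG Z hZp hZ1 ⟨S, hSC.trans (Subgroup.centralizer_le_normalizer _)⟩
    haveI : ((Subgroup.centralizer (Z : Set G)).subgroupOf (Subgroup.normalizer (Z : Set G))).Normal :=
      inferInstance
    have hC : CfsgLib.LocalEven.HasCharP p ↥(Subgroup.centralizer (Z : Set G)) :=
      (CfsgLib.LocalEven.hasCharP_subgroupOf_iff (Subgroup.centralizer_le_normalizer _)).1
        (hN.of_normal _)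
    have hCG : CfsgLib.LocalEven.HasCharP p ↥((Subgroup.centralizer (Z : Set G)).subgroupOf G₁) := by
      have h1 := hC.of_isSubnormal (hsn.subgroupOf (K := Subgroup.centralizer (Z : Set G)))
      rw [← Subgroup.inf_subgroupOf_left] at h1
      have h2 := (CfsgLib.LocalEven.hasCharP_subgroupOf_iff inf_le_left).1 h1
      rw [← Subgroup.inf_subgroupOf_right]
      exact (CfsgLib.LocalEven.hasCharP_subgroupOf_iff inf_le_right).2 h2
    set X := (Subgroup.centralizer (Z : Set G)).subgroupOf G₁ with hX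
    have hRX : R' ≤ X := by
      refine hRT.trans fun u hu => Subgroup.mem_subgroupOf.2 (hSC ?_)
      rw [hT₀] at hu; exact hu
    have hCR : CfsgLib.LocalEven.HasCharP p ↥(X ⊓ Subgroup.centralizer (R' : Set ↥G₁)) :=
      hCG.centralizer_inf hR' hRX
    have he : X ⊓ Subgroup.centralizer (R' : Set ↥G₁) = Subgroup.centralizer (R' : Set ↥G₁) := by
      refine inf_eq_right.2 fun u hu => Subgroup.mem_subgroupOf.2 ?_
      rw [hZ]
      refine Subgroup.mem_centralizer_iff.2 fun y hy => ?_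
      obtain ⟨i, rfl⟩ := Subgroup.mem_zpowers_iff.1 hy
      have hc : Commute z u := Subgroup.mem_centralizer_iff.1 hu z hw.1
      exact congrArg Subtype.val (hc.zpow_left i).eq
    rw [he] at hCR
    set L := Subgroup.normalizer (R' : Set ↥G₁) with hL
    set K := (Subgroup.centralizer (R' : Set ↥G₁)).subgroupOf L with hK
    have hKc : CfsgLib.LocalEven.HasCharP p ↥K :=
      (CfsgLib.LocalEven.hasCharP_subgroupOf_iff (Subgroup.centralizer_le_normalizer _)).2 hCR
    intro u hu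
    have hQ : R'.subgroupOf L ≤ Cfsg.pCore p ↥L := by
      haveI : (R'.subgroupOf L).Normal :=
        (Subgroup.normal_subgroupOf_iff_le_normalizer Subgroup.le_normalizer).2 le_rfl
      exact CfsgLib.Cores.le_pCore (hR'.of_equiv (Subgroup.subgroupOfEquivOfLe Subgroup.le_normalizer).symm)
    have huK : u ∈ K := by
      refine Subgroup.mem_subgroupOf.2 (Subgroup.mem_centralizer_iff.2 fun r hr => ?_)
      exact congrArg Subtype.val (Subgroup.mem_centralizer_iff.1 hu ⟨r, Subgroup.le_normalizer hr⟩ (hQ hr))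
    have h2 : (Cfsg.pCore p ↥K).map K.subtype ≤ Cfsg.pCore p ↥L :=
      CfsgLib.Cores.map_subtype_pCore_le_of_normal p K
    refine h2 ⟨⟨u, huK⟩, hKc (Subgroup.mem_centralizer_iff.2 fun v hv => Subtype.ext ?_), rfl⟩
    exact Subgroup.mem_centralizer_iff.1 hu _ (h2 ⟨v, hv, rfl⟩)
  have hR'1 : R.map (MulAut.conj d).toMonoidHom ≠ ⊥ := by
    rw [Ne, Subgroup.map_eq_bot_iff_of_injective _ (MulAut.conj d).injective]
    exact hR1
  have h := hmain _ (hR.map _) hR'1 (by
    rw [← Subgroup.map_equiv_normalizer_eq, ← hd, Sylow.coe_subgroup_smul]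
    rintro _ ⟨u, hu, rfl⟩
    exact ⟨u, hT hu, rfl⟩)
  rw [← Subgroup.map_equiv_normalizer_eq] at h
  exact CfsgLib.LocalEven.hasCharP_congr ((MulAut.conj d).subgroupMap _).symm h

end Cfsg.Agent.S3023
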