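import Cfsg.Statements.S3025
import Cfsg.Agent.Lib.Solvable.UniqueSubgroup
import Cfsg.Agent.Lib.LocalEven.Basic

set_option autoImplicit false
open Cfsg

namespace Cfsg.Agent.S3025

/-- Let F be a finite group and H a nontrivial subgroup of F that is contained in every nontrivial subgroup of F which H normalizes. Then F has a nontrivial normal subgroup N contained in every nontrivial normal subgroup of F (a unique minimal normal subgroup), N is simple, and one of the following holds: C_F(N) = 1; or H = N has prime order p, C_F(N) is cyclic of order a power of p, and F/C_F(N) is cyclic of order dividing p − 1; or H = N has order 2, N is central in F, and F is a generalized quaternion group. -/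
theorem result {F : Type*} [Group F] [Finite F] (H : Subgroup F) (hH : H ≠ ⊥)
    (hmin : ∀ R : Subgroup F, R ≠ ⊥ → H ≤ Subgroup.normalizer (R : Set F) → H ≤ R) :
    ∃ N : Subgroup F, N.Normal ∧ N ≠ ⊥ ∧ (∀ M : Subgroup F, M.Normal → M ≠ ⊥ → N ≤ M) ∧ IsSimpleGroup ↥N ∧
      (Subgroup.centralizer (N : Set F) = ⊥ ∨
       (H = N ∧ (Nat.card N).Prime ∧ IsCyclic ↥(Subgroup.centralizer (N : Set F)) ∧
          (∃ k : ℕ, 1 ≤ k ∧ Nat.card ↥(Subgroup.centralizer (N : Set F)) = Nat.card N ^ k) ∧
          (∃ g : F, Subgroup.centralizer (N : Set F) ⊔ Subgroup.zpowers g = ⊤) ∧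
          (Subgroup.centralizer (N : Set F)).index ∣ Nat.card N - 1) ∨
       (H = N ∧ Nat.card N = 2 ∧ Subgroup.centralizer (N : Set F) = ⊤ ∧
          ∃ k : ℕ, 1 ≤ k ∧ Nonempty (F ≃* QuaternionGroup (2 ^ k)))) := by
  classical
  have hHN : ∀ M : Subgroup F, M.Normal → M ≠ ⊥ → H ≤ M := fun M hM h1 =>
    hmin M h1 (by rw [Subgroup.normalizer_eq_top_iff.2 hM]; exact le_top)
  set N := Subgroup.normalClosure (H : Set F) with hN
  have hHle : H ≤ N := Subgroup.le_normalClosure
  have hNne : N ≠ ⊥ := fun e => hH (le_bot_iff.1 (e ▸ hHle))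
  have hNmin : ∀ M : Subgroup F, M.Normal → M ≠ ⊥ → N ≤ M := fun M hM h1 =>
    Subgroup.normalClosure_le_normal (hHN M hM h1)
  haveI : Nontrivial ↥N := (Subgroup.nontrivial_iff_ne_bot N).2 hNne
  have hsimple : IsSimpleGroup ↥N := by
    refine ⟨fun L hL => or_iff_not_imp_left.2 fun hLne => ?_⟩
    set L' := L.map N.subtype with hL'
    have hLN : L' ≤ N := Subgroup.map_subtype_le L
    have hnorm : N ≤ Subgroup.normalizer (L' : Set F) := fun n hn =>
      CfsgLib.LocalEven.mem_normalizer_of_conj_le (by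
        rintro _ ⟨_, ⟨l, hl, rfl⟩, rfl⟩
        exact ⟨⟨n, hn⟩ * l * ⟨n, hn⟩⁻¹, hL.conj_mem l hl _, rfl⟩)
    have hLne' : L' ≠ ⊥ := fun e =>
      hLne ((Subgroup.map_eq_bot_iff_of_injective L N.subtype_injective).1 e)
    have hall : ∀ g : F, ∀ h ∈ H, g * h * g⁻¹ ∈ L' := by
      intro g h hh
      set R := L'.map (MulAut.conj g⁻¹).toMonoidHom with hR
      have hRne : R ≠ ⊥ := fun e =>
        hLne' ((Subgroup.map_eq_bot_iff_of_injective _ (MulAut.conj g⁻¹).injective).1 e)
      have hle := hmin R hRne (fun a ha => CfsgLib.LocalEven.mem_normalizer_of_conj_le (by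
        rintro _ ⟨x, hx, rfl⟩
        simp only [MulEquiv.coe_toMonoidHom, MulAut.conj_apply]
        simp only [SetLike.mem_coe] at hx ⊢
        rw [hR, CfsgLib.LocalEven.mem_map_conj, inv_inv] at hx ⊢
        have hgN : g * a * g⁻¹ ∈ N := (inferInstance : N.Normal).conj_mem a (hHle ha) g
        have := CfsgLib.LocalEven.conj_mem_of_mem_normalizer (hnorm hgN) hx
        simpa [mul_assoc] using this))
      have := CfsgLib.LocalEven.mem_map_conj.1 (hle hh)
      rwa [inv_inv] at this
    have hNL : N ≤ L' := (Subgroup.closure_le _).2 fun x hx => by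
      obtain ⟨a, ha, hc⟩ := Group.mem_conjugatesOfSet_iff.1 hx
      obtain ⟨g, hg⟩ := isConj_iff.1 hc
      exact hg ▸ hall g a ha
    rw [Subgroup.eq_top_iff']
    intro x
    obtain ⟨y, hy, hyx⟩ := hNL x.2
    rwa [← Subtype.ext (hyx : (y : F) = x)]
  refine ⟨N, inferInstance, hNne, hNmin, hsimple, ?_⟩
  set C := Subgroup.centralizer (N : Set F) with hC
  by_cases hC1 : C = ⊥
  · exact Or.inl hC1
  right
  haveI : C.Normal := inferInstance
  have hNC : N ≤ C := hNmin C inferInstance hC1
  have habel : ∀ a ∈ N, ∀ b ∈ N, a * b = b * a := fun a ha b hb =>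
    (Subgroup.mem_centralizer_iff.1 (hNC ha) b hb).symm
  haveI : IsMulCommutative ↥N := ⟨⟨fun a b => Subtype.ext (habel a a.2 b b.2)⟩⟩
  have hp : (Nat.card N).Prime := by
    letI : CommGroup ↥N := { (inferInstance : Group ↥N) with mul_comm := fun a b => Subtype.ext (habel a a.2 b b.2) }
    exact IsSimpleGroup.prime_card
  haveI := Fact.mk hp
  have hHeq : H = N := by
    refine le_antisymm hHle ?_
    rcases (hp.eq_one_or_self_of_dvd _ (Subgroup.card_dvd_of_le hHle)) with h | h
    · exact absurd (Subgroup.card_eq_one.1 h) hH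
    · exact (Subgroup.eq_of_le_of_card_ge hHle h.ge).ge
  have hsub : ∀ R : Subgroup F, R ≤ C → R ≠ ⊥ → N ≤ R := fun R hRC hR1 =>
    hHeq.ge.trans (hmin R hR1 fun n hn => CfsgLib.LocalEven.mem_normalizer_of_conj_le (by
      rintro _ ⟨r, hr, rfl⟩
      simp only [MulEquiv.coe_toMonoidHom, MulAut.conj_apply]
      rwa [Subgroup.mem_centralizer_iff.1 (hRC hr) n (hHeq.le hn), mul_inv_cancel_right]))
  have hCp : IsPGroup (Nat.card N) ↥C := by
    obtain ⟨k, hk⟩ : ∃ k, Nat.card C = Nat.card N ^ k := ⟨_, Nat.eq_prime_pow_of_unique_prime_dvd Nat.card_pos.ne'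
      fun {d} hd hdd => by
        haveI := Fact.mk hd
        obtain ⟨x, hx⟩ := exists_prime_orderOf_dvd_card' d hdd
        have hxF : orderOf (x : F) = d := by rw [Subgroup.orderOf_coe, hx]
        have hle := hsub (Subgroup.zpowers (x : F)) (Subgroup.zpowers_le.2 x.2) (fun e => by
          rw [Subgroup.zpowers_eq_bot.1 e, orderOf_one] at hxF
          exact hd.ne_one hxF.symm)
        have hdvd := Subgroup.card_dvd_of_le hle
        rw [Nat.card_zpowers, hxF] at hdvd
        exact ((Nat.prime_dvd_prime_iff_eq hp hd).1 hdvd).symm⟩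
    exact IsPGroup.of_card hk
  have hu : ∀ x y : ↥C, orderOf x = Nat.card N → orderOf y = Nat.card N → x ∈ Subgroup.zpowers y := by
    have key : ∀ x : ↥C, orderOf x = Nat.card N → Subgroup.zpowers (x : F) = N := by
      intro x hx
      have hxF : orderOf (x : F) = Nat.card N := by rw [Subgroup.orderOf_coe, hx]
      have hle := hsub (Subgroup.zpowers (x : F)) (Subgroup.zpowers_le.2 x.2) (fun e => by
        rw [Subgroup.zpowers_eq_bot.1 e, orderOf_one] at hxF
        exact hp.ne_one hxF.symm)
      exact (Subgroup.eq_of_le_of_card_ge hle (by rw [Nat.card_zpowers, hxF])).symm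
    intro x y hx hy
    have hxy : (x : F) ∈ Subgroup.zpowers (y : F) := by
      rw [key y hy, ← key x hx]; exact Subgroup.mem_zpowers _
    obtain ⟨i, hi⟩ := Subgroup.mem_zpowers_iff.1 hxy
    exact Subgroup.mem_zpowers_iff.2 ⟨i, Subtype.ext (by simpa using hi)⟩
  by_cases hcyc : IsCyclic ↥C
  · left
    refine ⟨hHeq, hp, hcyc, ?_, ?_⟩
    · obtain ⟨k, hk⟩ := hCp.exists_card_eq
      refine ⟨k, ?_, hk⟩
      rcases k with _ | k
      · exact absurd (Subgroup.card_eq_one.1 (by simpa using hk)) hC1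
      · omega
    · haveI : IsCyclic ↥N := isCyclic_of_prime_card rfl
      have hker : (MulAut.conjNormal : F →* MulAut ↥N).ker = C := by
        ext x
        rw [MonoidHom.mem_ker, Subgroup.mem_centralizer_iff]
        constructor
        · intro hx n hn
          have h := congrArg (fun e : MulAut ↥N => ((e ⟨n, hn⟩ : ↥N) : F)) hx
          simp only [MulAut.conjNormal_apply, MulAut.one_apply] at h
          exact (mul_inv_eq_iff_eq_mul.1 h).symm
        · intro hx
          refine MulEquiv.ext fun n => Subtype.ext ?_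
          rw [MulAut.conjNormal_apply, MulAut.one_apply, ← hx n n.2, mul_inv_cancel_right]
      let e := IsCyclic.mulAutMulEquiv ↥N
      haveI : IsCyclic (MulAut ↥N) := isCyclic_of_surjective e.symm.toMonoidHom e.symm.surjective
      haveI : IsCyclic ↥(MulAut.conjNormal : F →* MulAut ↥N).range := Subgroup.isCyclic _
      obtain ⟨⟨_, g, rfl⟩, hg⟩ := IsCyclic.exists_generator (α := ↥(MulAut.conjNormal : F →* MulAut ↥N).range)
      refine ⟨⟨g, eq_top_iff.2 fun x _ => ?_⟩, ?_⟩
      · obtain ⟨i, hi⟩ := Subgroup.mem_zpowers_iff.1 (hg ⟨_, x, rfl⟩)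
        have hmem : x * (g ^ i)⁻¹ ∈ C := by
          rw [← hker, MonoidHom.mem_ker, map_mul, map_inv, map_zpow, mul_inv_eq_one]
          exact (congrArg Subtype.val hi).symm
        have := Subgroup.mul_mem_sup hmem (Subgroup.zpow_mem_zpowers g i)
        rwa [inv_mul_cancel_right] at this
      · rw [← hker, Subgroup.index_ker]
        refine (Subgroup.card_subgroup_dvd_card _).trans (dvd_of_eq ?_)
        rw [IsCyclic.card_mulAut, Nat.totient_prime hp]
  · right
    obtain h | ⟨h2, n, ⟨e⟩⟩ := CfsgLib.Solvable.isCyclic_or_quaternion hCp hu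
    · exact absurd h hcyc
    have hn : 1 ≤ n := by
      rcases n with _ | n
      · exfalso
        apply hcyc
        haveI : NeZero (1 : ℕ) := ⟨one_ne_zero⟩
        have hq : IsCyclic (QuaternionGroup (2 ^ 0)) := by
          refine isCyclic_of_orderOf_eq_card (QuaternionGroup.xa 0) ?_
          simp [Nat.card_eq_fintype_card, QuaternionGroup.card, QuaternionGroup.orderOf_xa]
        exact isCyclic_of_surjective e.symm.toMonoidHom e.symm.surjective
      · omega
    have htop : C = ⊤ := eq_top_iff.2 fun x _ => Subgroup.mem_centralizer_iff.2 fun a ha => by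
      by_cases ha1 : a = 1
      · subst ha1; simp
      have hb : x * a * x⁻¹ ∈ N := (inferInstance : N.Normal).conj_mem a ha x
      have hb1 : x * a * x⁻¹ ≠ 1 := fun e => ha1 (conj_eq_one_iff.1 e)
      have hab : x * a * x⁻¹ = a := by
        obtain ⟨u, -, hu⟩ := (Nat.card_eq_two_iff' (1 : ↥N)).1 h2
        have e1 := hu ⟨_, hb⟩ fun e => hb1 (congrArg Subtype.val e)
        have e2 := hu ⟨a, ha⟩ fun e => ha1 (congrArg Subtype.val e)
        exact congrArg Subtype.val (e1.trans e2.symm)
      exact (mul_inv_eq_iff_eq_mul.1 hab).symm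
    exact ⟨hHeq, h2, htop, n, hn,
      ⟨(Subgroup.topEquiv.symm.trans (MulEquiv.subgroupCongr htop.symm)).trans e⟩⟩

end Cfsg.Agent.S3025
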