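import Cfsg.Statements.S3027
-- import your own Cfsg.Agent.* helpers here

set_option autoImplicit false
open Cfsg

namespace Cfsg.Agent.S3027

/-- Let G be a finite group and D a normal subgroup of G such that G/D is perfect (that is, G = G′D). Then among the subnormal subgroups B of G with BD = G there is a least one, and it is normal in G. -/
theorem result {G : Type*} [Group G] [Finite G] (D : Subgroup G) [D.Normal] (hperf : ⁅(⊤ : Subgroup G), (⊤ : Subgroup G)⁆ ⊔ D = ⊤) :
    ∃ B : Subgroup G, B.Normal ∧ B ⊔ D = ⊤ ∧ ∀ B' : Subgroup G, B'.IsSubnormal → B' ⊔ D = ⊤ → B ≤ B' := by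
  classical
  set f := QuotientGroup.mk' D with hf
  have hfs := QuotientGroup.mk'_surjective D
  have hiff : ∀ Y : Subgroup G, Y ⊔ D = ⊤ ↔ Y.map f = ⊤ := by
    intro Y
    constructor
    · intro h
      have := congrArg (Subgroup.map f) h
      rwa [Subgroup.map_sup, QuotientGroup.map_mk'_self, sup_bot_eq, Subgroup.map_top_of_surjective _ hfs] at this
    · intro h
      have := congrArg (Subgroup.comap f) h
      rwa [Subgroup.comap_map_eq, QuotientGroup.ker_mk', Subgroup.comap_top] at this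
  have hq : ⁅(⊤ : Subgroup (G ⧸ D)), (⊤ : Subgroup (G ⧸ D))⁆ = ⊤ := by
    have hft : (⊤ : Subgroup G).map f = ⊤ := Subgroup.map_top_of_surjective f hfs
    rw [← hft, ← Subgroup.map_commutator]
    rw [(hiff _).1 hperf, Subgroup.map_top_of_surjective _ hfs]
  have hcomm : ∀ X Y : Subgroup G, X ⊔ D = ⊤ → Y ⊔ D = ⊤ → ⁅X, Y⁆ ⊔ D = ⊤ := by
    intro X Y hX hY
    rw [hiff, Subgroup.map_commutator, (hiff X).1 hX, (hiff Y).1 hY, hq]
  -- a minimal normal supplement
  obtain ⟨B, ⟨hBn, hBD⟩, hBmin⟩ := wellFounded_lt.has_min {B : Subgroup G | B.Normal ∧ B ⊔ D = ⊤}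
    ⟨⊤, inferInstance, top_sup_eq _⟩
  refine ⟨B, hBn, hBD, fun B' hB' => ?_⟩
  induction hB' with
  | top => exact fun _ => le_top
  | step A C hAC _ hN ih =>
    intro hAD
    have hBC : B ≤ C := ih (top_le_iff.1 (hAD ▸ sup_le_sup_right hAC D))
    have hCN : C ≤ Subgroup.normalizer (A : Set G) := (Subgroup.normal_subgroupOf_iff_le_normalizer hAC).1 hN
    -- supplements contained and normal in `B`
    set S := {Y : Subgroup G | Y ≤ B ∧ B ≤ Subgroup.normalizer (Y : Set G) ∧ Y ⊔ D = ⊤} with hS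
    have hinter : ∀ Y ∈ S, ∀ Z ∈ S, Y ⊓ Z ∈ S := by
      rintro Y ⟨hY1, hY2, hY3⟩ Z ⟨hZ1, hZ2, hZ3⟩
      refine ⟨inf_le_left.trans hY1, (le_inf hY2 hZ2).trans ?_, ?_⟩
      · intro g hg
        simp only [Subgroup.mem_inf, Subgroup.mem_normalizer_iff] at hg ⊢
        exact fun h => and_congr (hg.1 h) (hg.2 h)
      · refine top_le_iff.1 ((hcomm Y Z hY3 hZ3).symm.le.trans (sup_le_sup_right (le_inf ?_ ?_) D))
        · exact Subgroup.le_normalizer_iff_commutator_le_left.1 (hZ1.trans hY2)
        · exact Subgroup.le_normalizer_iff_commutator_le_right.1 (hY1.trans hZ2)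
    have hX : A ⊓ B ∈ S := by
      refine ⟨inf_le_right, ?_, ?_⟩
      · intro g hg
        simp only [Subgroup.mem_inf, Subgroup.mem_normalizer_iff]
        exact fun h => and_congr (Subgroup.mem_normalizer_iff.1 (hCN (hBC hg)) h)
          (Subgroup.mem_normalizer_iff.1 (Subgroup.le_normalizer hg) h)
      · refine top_le_iff.1 ((hcomm A B hAD hBD).symm.le.trans (sup_le_sup_right (le_inf ?_ ?_) D))
        · exact Subgroup.le_normalizer_iff_commutator_le_left.1 (hBC.trans hCN)
        · exact (haveI := hBn; Subgroup.commutator_le_right (H₁ := A) (H₂ := B))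
    obtain ⟨Y, hY, hYmin⟩ := wellFounded_lt.has_min S ⟨_, hX⟩
    have hleast : ∀ Z ∈ S, Y ≤ Z := by
      intro Z hZ
      by_contra h
      exact hYmin _ (hinter Y hY Z hZ) (inf_lt_left.2 h)
    have hYn : Y.Normal := by
      refine ⟨fun y hy g => ?_⟩
      have hconj : Y.map (MulAut.conj g⁻¹).toMonoidHom ∈ S := by
        refine ⟨?_, ?_, ?_⟩
        · rintro _ ⟨u, hu, rfl⟩
          exact hBn.conj_mem u (hY.1 hu) g⁻¹
        · intro b hb
          have hb' := hY.2.1 (hBn.conj_mem b hb g)
          rw [Subgroup.mem_normalizer_iff] at hb' ⊢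
          intro h
          have := hb' (g * h * g⁻¹)
          simp only [Subgroup.mem_map]
          constructor
          · rintro ⟨u, hu, rfl⟩
            refine ⟨g * b * g⁻¹ * u * (g * b * g⁻¹)⁻¹, (hb' u).1 hu, ?_⟩
            simp [mul_assoc]
          · rintro ⟨u, hu, hue⟩
            refine ⟨(g * b * g⁻¹)⁻¹ * u * (g * b * g⁻¹), (hb' _).2 (by simpa [mul_assoc] using hu), ?_⟩
            have hh : h = b⁻¹ * (g⁻¹ * u * g) * b := by
              have : g⁻¹ * u * g = b * h * b⁻¹ := by simpa [mul_assoc] using hue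
              rw [this]; group
            rw [hh]; simp [mul_assoc]
        · have h1 := congrArg (Subgroup.map (MulAut.conj g⁻¹).toMonoidHom) hY.2.2
          rw [Subgroup.map_sup, Subgroup.map_top_of_surjective _ (MulAut.conj g⁻¹).surjective] at h1
          rw [← top_le_iff, ← h1]
          refine sup_le_sup_left ?_ _
          rintro _ ⟨d, hd, rfl⟩
          exact (inferInstance : D.Normal).conj_mem d hd g⁻¹
      obtain ⟨u, hu, rfl⟩ := hleast _ hconj hy
      simpa [mul_assoc] using hu
    have hYB : Y = B := by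
      by_contra h
      exact hBmin Y ⟨hYn, hY.2.2⟩ (lt_of_le_of_ne hY.1 h)
    exact hYB ▸ (hleast _ hX).trans inf_le_left

end Cfsg.Agent.S3027
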