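import Cfsg.Statements.S3028
import Cfsg.Agent.Lib.LocalEven.SubnormalJoinSylow

set_option autoImplicit false
open Cfsg

namespace Cfsg.Agent.S3028

/-- Let G be a finite group, p a prime, S a Sylow p-subgroup of G and A₁, A₂ subnormal subgroups of G. Then the join of S ∩ A₁ and S ∩ A₂ is a Sylow p-subgroup of the join of A₁ and A₂; equivalently ⟨A₁, A₂⟩ ∩ S = ⟨A₁ ∩ S, A₂ ∩ S⟩. -/
theorem result {G : Type*} [Group G] [Finite G] {p : ℕ} [Fact p.Prime] (S : Sylow p G) (A₁ A₂ : Subgroup G)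
    (h₁ : A₁.IsSubnormal) (h₂ : A₂.IsSubnormal) :
    (A₁ ⊔ A₂) ⊓ (S : Subgroup G) = (A₁ ⊓ (S : Subgroup G)) ⊔ (A₂ ⊓ (S : Subgroup G)) := by
  have hJ := CfsgLib.Transfer.sup_isSubnormal h₁ h₂
  obtain ⟨P, hP⟩ := CfsgLib.LocalEven.exists_sylow_eq_inf_of_isSubnormal S hJ
  have h := CfsgLib.LocalEven.sylow_eq_sup_of_subnormal _ ↥(A₁ ⊔ A₂) rfl P (A₁.subgroupOf (A₁ ⊔ A₂))
    (A₂.subgroupOf (A₁ ⊔ A₂)) h₁.subgroupOf h₂.subgroupOf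
    (Subgroup.map_injective (A₁ ⊔ A₂).subtype_injective (by
      rw [Subgroup.map_sup, Subgroup.subgroupOf_map_subtype, Subgroup.subgroupOf_map_subtype,
        inf_eq_left.2 (le_sup_left : A₁ ≤ A₁ ⊔ A₂), inf_eq_left.2 (le_sup_right : A₂ ≤ A₁ ⊔ A₂), ← MonoidHom.range_eq_map,
        Subgroup.range_subtype]))
  have h' := congrArg (Subgroup.map (A₁ ⊔ A₂).subtype) h
  rw [Subgroup.map_sup, Subgroup.map_inf _ _ _ (A₁ ⊔ A₂).subtype_injective,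
    Subgroup.map_inf _ _ _ (A₁ ⊔ A₂).subtype_injective, hP, Subgroup.subgroupOf_map_subtype,
    Subgroup.subgroupOf_map_subtype, Subgroup.subgroupOf_map_subtype,
    inf_eq_left.2 (le_sup_left : A₁ ≤ A₁ ⊔ A₂), inf_eq_left.2 (le_sup_right : A₂ ≤ A₁ ⊔ A₂)] at h'
  have e₁ : (S : Subgroup G) ⊓ (A₁ ⊔ A₂) ⊓ A₁ = A₁ ⊓ (S : Subgroup G) := by
    rw [inf_assoc, inf_eq_right.2 (le_sup_left : A₁ ≤ A₁ ⊔ A₂), inf_comm]
  have e₂ : (S : Subgroup G) ⊓ (A₁ ⊔ A₂) ⊓ A₂ = A₂ ⊓ (S : Subgroup G) := by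
    rw [inf_assoc, inf_eq_right.2 (le_sup_right : A₂ ≤ A₁ ⊔ A₂), inf_comm]
  rw [e₁, e₂] at h'
  rw [inf_comm]
  exact h'

end Cfsg.Agent.S3028
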