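import Cfsg.Statements.S3036
import Cfsg.Agent.Lib.LocalEven.Measure

set_option autoImplicit false
open Cfsg

namespace Cfsg.Agent.S3036

/-- Let G be a finite non-abelian simple group and A a proper nontrivial subgroup of G. Then |G| > |A| · |C_G(A)|. In particular |G| > |A|² for every nontrivial abelian subgroup A of G. -/
theorem result {G : Type*} [Group G] [Finite G] [IsSimpleGroup G] (hG : ¬ IsMulCommutative G) (A : Subgroup G) (hA1 : A ≠ ⊥) (hA2 : A ≠ ⊤) : Nat.card A * Nat.card ↥(Subgroup.centralizer (A : Set G)) < Nat.card G := by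
  by_contra hcon
  push Not at hcon
  change Nat.card G ≤ CfsgLib.LocalEven.cdMeasure A at hcon
  obtain ⟨R₀, hR₀, hne, hnt⟩ : ∃ R₀ : Subgroup G, Cfsg.IsCentralizerLarge R₀ ∧ R₀ ≠ ⊥ ∧ R₀ ≠ ⊤ := by
    by_cases hAl : Cfsg.IsCentralizerLarge A
    · exact ⟨A, hAl, hA1, hA2⟩
    obtain ⟨R, hR⟩ := CfsgLib.LocalEven.exists_centralizerLarge (G := G)
    have hlt : Nat.card G < CfsgLib.LocalEven.cdMeasure R := by
      refine lt_of_le_of_lt hcon ?_
      have hR' : CfsgLib.LocalEven.cdMeasure R = Cfsg.maxCentralizerProduct G := hR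
      rw [hR']
      exact lt_of_le_of_ne (CfsgLib.LocalEven.cdMeasure_le A) hAl
    refine ⟨R, hR, ?_, ?_⟩
    · rintro rfl
      refine absurd hlt ?_
      simp [CfsgLib.LocalEven.cdMeasure]
      exact Subgroup.card_le_card_group _
    · rintro rfl
      refine absurd hlt ?_
      have hc : Subgroup.centralizer ((⊤ : Subgroup G) : Set G) = Subgroup.center G := by
        rw [Subgroup.coe_top, Subgroup.centralizer_univ]
      rw [CfsgLib.LocalEven.cdMeasure, hc]
      rcases (inferInstance : (Subgroup.center G).Normal).eq_bot_or_eq_top with h | h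
      · simp [h]
      · exact absurd (Subgroup.center_eq_top_iff.1 h) hG
  obtain ⟨M, ⟨hM, hMtop, hRM⟩, hmax⟩ := wellFounded_gt.has_min
    {M : Subgroup G | Cfsg.IsCentralizerLarge M ∧ M ≠ ⊤ ∧ R₀ ≤ M} ⟨R₀, hR₀, hnt, le_rfl⟩
  have hnormal : M.Normal := by
    rw [← Subgroup.normalizer_eq_top_iff, eq_top_iff]
    intro g _
    refine CfsgLib.LocalEven.mem_normalizer_of_conj_le ?_
    set M' := M.map (MulAut.conj g).toMonoidHom with hM'
    have hM'l : Cfsg.IsCentralizerLarge M' := by
      have hc : Subgroup.centralizer (M' : Set G) =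
          (Subgroup.centralizer (M : Set G)).map (MulAut.conj g).toMonoidHom := by
        ext y
        rw [CfsgLib.LocalEven.mem_map_conj, Subgroup.mem_centralizer_iff, Subgroup.mem_centralizer_iff]
        constructor
        · intro h m hm
          have := h _ (CfsgLib.LocalEven.conj_mem_map_conj hm)
          calc m * (g⁻¹ * y * g) = g⁻¹ * ((g * m * g⁻¹) * y) * g := by group
            _ = g⁻¹ * y * g * m := by rw [this]; group
        · intro h m hm
          have := h _ (CfsgLib.LocalEven.mem_map_conj.1 hm)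
          calc m * y = g * ((g⁻¹ * m * g) * (g⁻¹ * y * g)) * g⁻¹ := by group
            _ = y * m := by rw [this]; group
      rw [Cfsg.IsCentralizerLarge, hc, CfsgLib.LocalEven.card_map_conj, CfsgLib.LocalEven.card_map_conj]
      exact hM
    obtain ⟨hj, -, hmul, -, -⟩ := hM.lattice hM'l
    have hJ : M ⊔ M' ≠ ⊤ := by
      intro htop
      have h1 : g⁻¹ ∈ ((M ⊔ M' : Subgroup G) : Set G) := by rw [htop]; trivial
      rw [hmul] at h1
      obtain ⟨a, ha, b, hb, hab⟩ := Set.mem_mul.1 h1
      have hgM : g ∈ M := by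
        have hb' := CfsgLib.LocalEven.mem_map_conj.1 hb
        have : g = a⁻¹ * (g⁻¹ * b * g)⁻¹ := by
          have : b = a⁻¹ * g⁻¹ := by rw [← hab]; group
          rw [this]; group
        rw [this]
        exact M.mul_mem (M.inv_mem ha) (M.inv_mem hb')
      have hle : M' ≤ M := by
        rintro _ ⟨m, hm, rfl⟩
        exact M.mul_mem (M.mul_mem hgM hm) (M.inv_mem hgM)
      exact hMtop (sup_eq_left.2 hle ▸ htop)
    by_contra hnot
    exact hmax (M ⊔ M') ⟨hj, hJ, hRM.trans le_sup_left⟩ (left_lt_sup.2 hnot)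
  rcases hnormal.eq_bot_or_eq_top with h | h
  · exact hne (le_bot_iff.1 (h ▸ hRM))
  · exact hMtop h

end Cfsg.Agent.S3036
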