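import Cfsg.Statements.S3037
import Cfsg.Agent.Lib.LocalEven.Measure

set_option autoImplicit false
open Cfsg

namespace Cfsg.Agent.S3037

/-- Let V and G be subgroups of a finite group with V an elementary abelian p-group (p prime) on which G acts faithfully and irreducibly by conjugation: G normalizes V, G ∩ C(V) = 1, and the only subgroups of V normalized by G are 1 and V. If for some nontrivial subgroup A of G and some real α > 0 one has |V| ≤ |A|^α · |C_V(A)|, then |V| ≤ |G|^α. -/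
theorem result {X : Type*} [Group X] [Finite X] {p : ℕ} [Fact p.Prime] (V G : Subgroup X) (hV : Cfsg.IsElementaryAbelian p V)
    (hGV : G ≤ Subgroup.normalizer (V : Set X)) (hfaith : G ⊓ Subgroup.centralizer (V : Set X) = ⊥)
    (hirr : ∀ W : Subgroup X, W ≤ V → G ≤ Subgroup.normalizer (W : Set X) → W = ⊥ ∨ W = V)
    (A : Subgroup X) (hA : A ≤ G) (hA1 : A ≠ ⊥) (α : ℝ) (hα : 0 < α)
    (hbig : (Nat.card V : ℝ) ≤ (Nat.card A : ℝ) ^ α * (Nat.card ↥(V ⊓ Subgroup.centralizer (A : Set X)) : ℝ)) :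
    (Nat.card V : ℝ) ≤ (Nat.card G : ℝ) ^ α := by
  classical
  let c : Subgroup X → ℝ := fun H => (Nat.card ↥(V ⊓ Subgroup.centralizer (H : Set X)) : ℝ)
  let f : Subgroup X → ℝ := fun H => (Nat.card H : ℝ) ^ α * c H
  have hcpos : ∀ H, 0 < c H := fun H => by simp only [c]; exact_mod_cast Nat.card_pos
  have hfpos : ∀ H, 0 < f H := fun H =>
    mul_pos (Real.rpow_pos_of_pos (by exact_mod_cast Nat.card_pos) _) (hcpos H)
  have hsuper : ∀ H K : Subgroup X, f H * f K ≤ f (H ⊔ K) * f (H ⊓ K) := by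
    intro H K
    have h1 : ((Nat.card H : ℝ) * Nat.card K) ^ α ≤
        ((Nat.card ↥(H ⊔ K) : ℝ) * Nat.card ↥(H ⊓ K)) ^ α :=
      Real.rpow_le_rpow (by positivity) (by exact_mod_cast CfsgLib.PGroup.card_mul_card_le_sup_inf H K) hα.le
    have h2 : c H * c K ≤ c (H ⊔ K) * c (H ⊓ K) := by
      have hh := CfsgLib.PGroup.card_mul_card_le_sup_inf (V ⊓ Subgroup.centralizer (H : Set X))
        (V ⊓ Subgroup.centralizer (K : Set X))
      have e1 : (V ⊓ Subgroup.centralizer (H : Set X)) ⊓ (V ⊓ Subgroup.centralizer (K : Set X)) =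
          V ⊓ Subgroup.centralizer ((H ⊔ K : Subgroup X) : Set X) := by
        rw [CfsgLib.LocalEven.centralizer_sup, inf_inf_inf_comm, inf_idem]
      have e2 := Subgroup.card_le_of_le (show (V ⊓ Subgroup.centralizer (H : Set X)) ⊔ (V ⊓ Subgroup.centralizer (K : Set X)) ≤
          V ⊓ Subgroup.centralizer ((H ⊓ K : Subgroup X) : Set X) from
        le_inf (sup_le inf_le_left inf_le_left)
          (le_trans (sup_le_sup inf_le_right inf_le_right) (CfsgLib.LocalEven.sup_centralizer_le_centralizer_inf H K)))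
      rw [e1] at hh
      have h3 := hh.trans (Nat.mul_le_mul_right _ e2)
      simp only [c]
      rw [mul_comm (Nat.card ↥(V ⊓ Subgroup.centralizer ((H ⊔ K : Subgroup X) : Set X)) : ℝ)]
      exact_mod_cast h3
    rw [Real.mul_rpow (by positivity) (by positivity), Real.mul_rpow (by positivity) (by positivity)] at h1
    calc f H * f K = ((Nat.card H : ℝ) ^ α * (Nat.card K : ℝ) ^ α) * (c H * c K) := by simp only [f]; ring
      _ ≤ ((Nat.card ↥(H ⊔ K) : ℝ) ^ α * (Nat.card ↥(H ⊓ K) : ℝ) ^ α) * (c (H ⊔ K) * c (H ⊓ K)) :=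
          mul_le_mul h1 h2 (mul_nonneg (hcpos H).le (hcpos K).le) (by positivity)
      _ = f (H ⊔ K) * f (H ⊓ K) := by simp only [f]; ring
  obtain ⟨M₀, hM₀, hmax₀⟩ := Set.exists_max_image {H : Subgroup X | H ≤ G} f (Set.toFinite _) ⟨⊥, (bot_le : (⊥ : Subgroup X) ≤ G)⟩
  obtain ⟨M, ⟨hMG, hMf⟩, hMmax⟩ := wellFounded_gt.has_min
    {H : Subgroup X | H ≤ G ∧ f M₀ ≤ f H} ⟨M₀, hM₀, le_rfl⟩
  have hbest : ∀ H : Subgroup X, H ≤ G → f H ≤ f M := fun H hH => (hmax₀ H hH).trans hMf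
  have hbelow : ∀ H : Subgroup X, H ≤ G → f M₀ ≤ f H → H ≤ M := by
    intro H hH hHf
    by_contra hnot
    refine hMmax (M ⊔ H) ⟨sup_le hMG hH, ?_⟩ (left_lt_sup.2 hnot)
    have h1 := hsuper M H
    have h2 : f (M ⊓ H) ≤ f M₀ := hmax₀ _ (inf_le_left.trans hMG)
    refine le_of_mul_le_mul_right ?_ (hfpos M₀)
    calc f M₀ * f M₀ ≤ f M * f H := mul_le_mul hMf hHf (hfpos M₀).le (hfpos M).le
      _ ≤ f (M ⊔ H) * f (M ⊓ H) := h1
      _ ≤ f (M ⊔ H) * f M₀ := mul_le_mul_of_nonneg_left h2 (hfpos _).le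
  have hfA : (Nat.card V : ℝ) ≤ f A := hbig
  have hfbot : f ⊥ = (Nat.card V : ℝ) := by
    have : V ⊓ Subgroup.centralizer ((⊥ : Subgroup X) : Set X) = V :=
      inf_eq_left.2 (Subgroup.le_centralizer_iff.1 bot_le)
    simp only [f, c, Subgroup.card_bot, this]
    simp
  have hMne : M ≠ ⊥ := by
    intro hbot
    refine hA1 (le_bot_iff.1 (hbot ▸ hbelow A hA ?_))
    calc f M₀ ≤ f M := hMf
      _ = (Nat.card V : ℝ) := by rw [hbot, hfbot]
      _ ≤ f A := hfA
  have hnorm : G ≤ Subgroup.normalizer (M : Set X) := by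
    intro g hg
    refine CfsgLib.LocalEven.mem_normalizer_of_conj_le (hbelow _ ?_ (le_trans hMf (le_of_eq ?_)))
    · rintro _ ⟨m, hm, rfl⟩
      exact G.mul_mem (G.mul_mem hg (hMG hm)) (G.inv_mem hg)
    · have hc : V ⊓ Subgroup.centralizer ((M.map (MulAut.conj g).toMonoidHom : Subgroup X) : Set X) =
          (V ⊓ Subgroup.centralizer (M : Set X)).map (MulAut.conj g).toMonoidHom := by
        ext y
        rw [CfsgLib.LocalEven.mem_map_conj, Subgroup.mem_inf, Subgroup.mem_inf, Subgroup.mem_centralizer_iff,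
          Subgroup.mem_centralizer_iff, (Subgroup.mem_normalizer_iff''.1 (hGV hg) y)]
        refine and_congr_right fun _ => ⟨fun h m hm => ?_, fun h m hm => ?_⟩
        · have := h _ (CfsgLib.LocalEven.conj_mem_map_conj hm)
          calc m * (g⁻¹ * y * g) = g⁻¹ * ((g * m * g⁻¹) * y) * g := by group
            _ = g⁻¹ * y * g * m := by rw [this]; group
        · have := h _ (CfsgLib.LocalEven.mem_map_conj.1 hm)
          calc m * y = g * ((g⁻¹ * m * g) * (g⁻¹ * y * g)) * g⁻¹ := by group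
            _ = y * m := by rw [this]; group
      simp only [f, c, hc, CfsgLib.LocalEven.card_map_conj]
  have hW : G ≤ Subgroup.normalizer ((V ⊓ Subgroup.centralizer (M : Set X) : Subgroup X) : Set X) := by
    intro g hg
    refine CfsgLib.LocalEven.mem_normalizer_of_conj_le ?_
    rintro _ ⟨v, ⟨hv, hvM⟩, rfl⟩
    refine ⟨CfsgLib.LocalEven.conj_mem_of_mem_normalizer (hGV hg) hv, Subgroup.mem_centralizer_iff.2 fun m hm => ?_⟩
    have h1 : g⁻¹ * m * g⁻¹⁻¹ ∈ M :=
      CfsgLib.LocalEven.conj_mem_of_mem_normalizer (hnorm (G.inv_mem hg)) hm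
    have h2 := Subgroup.mem_centralizer_iff.1 hvM _ h1
    calc m * (g * v * g⁻¹) = g * ((g⁻¹ * m * g⁻¹⁻¹) * v) * g⁻¹ := by group
      _ = g * v * g⁻¹ * m := by rw [h2]; group
  rcases hirr _ inf_le_left hW with h | h
  · calc (Nat.card V : ℝ) ≤ f A := hfA
      _ ≤ f M := hbest A hA
      _ = (Nat.card M : ℝ) ^ α := by
          show (Nat.card M : ℝ) ^ α * (Nat.card ↥(V ⊓ Subgroup.centralizer (M : Set X)) : ℝ) = _
          rw [h, Subgroup.card_bot, Nat.cast_one, mul_one]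
      _ ≤ (Nat.card G : ℝ) ^ α :=
          Real.rpow_le_rpow (by positivity) (by exact_mod_cast Subgroup.card_le_of_le hMG) hα.le
  · exact absurd (le_bot_iff.1 (hfaith ▸ le_inf hMG (Subgroup.le_centralizer_iff.1 (inf_eq_left.1 h)))) hMne

end Cfsg.Agent.S3037
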