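import Cfsg.Statements.S3038
import Cfsg.Agent.Lib.LocalEven.IsolatedSylow.Final
import Cfsg.Agent.Lib.Cores.Fitting

set_option autoImplicit false
open Cfsg
open scoped commutatorElement

namespace Cfsg.Agent.S3038

/-- Let G be a finite group and p an odd prime with O_{p'}(G) = 1. Suppose that G has p-rank at most 2 and that some element x of order p is isolated in G and not central. Then F*(G) is a non-abelian simple group, and for every Sylow p-subgroup P of F*(G), either no conjugate of x lies in P and P is cyclic, or some conjugate of x lies in P and either P is extraspecial of order p³ and exponent p, or p = 3 and P has order 3^{2k+1} for some k ≥ 2 and is of maximal class (nilpotency class 2k). Since O_{p'}(G) = 1, such an x is not central modulo O_{p'}(G): the hypotheses describe a counterexample to the Z*_p statement in p-rank at most 2, and the conclusion records the structure it would have. -/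
theorem result {G : Type*} [Group G] [Finite G] {p : ℕ} [Fact p.Prime] (hp : p ≠ 2) (hcore : Cfsg.pPrimeCore p G = ⊥)
    (hrank : Cfsg.PRankLE p 2 G) (x : G) (hx : orderOf x = p) (hiso : Cfsg.IsIsolated x) (hnc : x ∉ Subgroup.center G) :
    IsSimpleGroup ↥(Cfsg.generalizedFittingSubgroup G) ∧ ¬ IsMulCommutative ↥(Cfsg.generalizedFittingSubgroup G) ∧
    ∀ P : Sylow p ↥(Cfsg.generalizedFittingSubgroup G),
      ((∀ g : G, g * x * g⁻¹ ∉ ((P : Subgroup ↥(Cfsg.generalizedFittingSubgroup G)).map (Cfsg.generalizedFittingSubgroup G).subtype)) ∧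
          IsCyclic ↥(P : Subgroup ↥(Cfsg.generalizedFittingSubgroup G))) ∨
      ((∃ g : G, g * x * g⁻¹ ∈ ((P : Subgroup ↥(Cfsg.generalizedFittingSubgroup G)).map (Cfsg.generalizedFittingSubgroup G).subtype)) ∧
        ((Cfsg.IsExtraspecial p ↥(P : Subgroup ↥(Cfsg.generalizedFittingSubgroup G)) ∧
            Nat.card (P : Subgroup ↥(Cfsg.generalizedFittingSubgroup G)) = p ^ 3 ∧
            ∀ y ∈ (P : Subgroup ↥(Cfsg.generalizedFittingSubgroup G)), y ^ p = 1) ∨
         (p = 3 ∧ ∃ k : ℕ, 2 ≤ k ∧ Nat.card (P : Subgroup ↥(Cfsg.generalizedFittingSubgroup G)) = 3 ^ (2 * k + 1) ∧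
            ∃ _ : Group.IsNilpotent ↥(P : Subgroup ↥(Cfsg.generalizedFittingSubgroup G)),
              Group.nilpotencyClass ↥(P : Subgroup ↥(Cfsg.generalizedFittingSubgroup G)) = 2 * k))) := by
  classical
  obtain ⟨hsimple, hnab⟩ := CfsgLib.LocalEven.fStar_simple_of_isolated_rank_two hp hcore hrank hx hiso hnc
  refine ⟨hsimple, hnab, ?_⟩
  set L := Cfsg.generalizedFittingSubgroup G with hL
  intro P
  have hrankL : Cfsg.PRankLE p 2 ↥L := by
    intro B hB hBp
    haveI := hB
    have h := hrank (B.map L.subtype) ⟨⟨by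
      rintro ⟨_, a, ha, rfl⟩ ⟨_, b, hb, rfl⟩
      exact Subtype.ext (congrArg (fun u : ↥B => ((u : ↥L) : G)) (hB.is_comm.comm ⟨a, ha⟩ ⟨b, hb⟩))⟩⟩ (by
      rintro _ ⟨a, ha, rfl⟩
      exact congrArg Subtype.val (hBp a ha))
    rwa [Subgroup.card_map_of_injective L.subtype_injective] at h
  by_cases hP : ∃ g : G, g * x * g⁻¹ ∈ (P : Subgroup ↥L).map L.subtype
  · refine Or.inr ⟨hP, ?_⟩
    obtain ⟨g, ⟨y, hyP, hye⟩⟩ := hP
    have hperf : commutator ↥L = ⊤ := by
      rcases hsimple.eq_bot_or_eq_top_of_normal (commutator ↥L) inferInstance with h | h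
      · refine absurd ⟨⟨fun a b => ?_⟩⟩ hnab
        have h1 : ⁅a, b⁆ ∈ commutator ↥L := by
          rw [_root_.commutator_def]
          exact Subgroup.commutator_mem_commutator (Subgroup.mem_top a) (Subgroup.mem_top b)
        rw [h, Subgroup.mem_bot] at h1
        exact commutatorElement_eq_one_iff_mul_comm.1 h1
      · exact h
    have hyo : orderOf y = p := by
      rw [← Subgroup.orderOf_coe, show (y : G) = g * x * g⁻¹ from hye,
        show g * x * g⁻¹ = MulAut.conj g x from rfl, MulEquiv.orderOf_eq, hx]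
    have hyi : Cfsg.IsIsolated y := by
      intro l hl
      refine Subtype.ext ?_
      have h1 := CfsgLib.LocalEven.isIsolated_conj hiso g
      have h2 : (y : G) = g * x * g⁻¹ := hye
      rw [← h2] at h1
      exact h1 l (congrArg Subtype.val hl.eq)
    exact CfsgLib.LocalEven.IsolatedSylow.sylow_structure hp hperf hrankL hyo hyi P hyP
  · push Not at hP
    refine Or.inl ⟨hP, ?_⟩
    by_contra hcyc
    have hcyc' : ¬ IsCyclic ↥(⊤ : Subgroup ↥(P : Subgroup ↥L)) := fun h => by
      haveI := h
      exact hcyc (isCyclic_of_surjective Subgroup.topEquiv Subgroup.topEquiv.surjective)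
    obtain ⟨E, -, -, hEe, hEc⟩ := CfsgLib.Transfer.exists_normal_elemAb_sq P.2 hp hcyc'
    have hpr := (Fact.out : p.Prime)
    set R := (P : Subgroup ↥L).map L.subtype with hR
    obtain ⟨h, S, hS, hRS, hyS, hyc⟩ :=
      CfsgLib.LocalEven.exists_conj_central hiso hx (R := R) (P.2.map L.subtype)
    set y := h * x * h⁻¹ with hy
    -- the conjugate `y` lies outside `L`
    have hyL : y ∉ L := by
      intro hyL
      have hxk : ∃ k : ℕ, orderOf (⟨y, hyL⟩ : ↥L) = p ^ k := ⟨1, by
        rw [← Subgroup.orderOf_coe]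
        show orderOf y = p ^ 1
        rw [hy, show h * x * h⁻¹ = MulAut.conj h x from rfl, MulEquiv.orderOf_eq, hx, pow_one]⟩
      obtain ⟨Q, hQ⟩ := (CfsgLib.LocalEven.isPGroup_zpowers hxk).exists_le_sylow
      obtain ⟨l, hl⟩ := MulAction.exists_smul_eq ↥L Q P
      refine hP ((l : G) * h) ?_
      refine ⟨l * ⟨y, hyL⟩ * l⁻¹, ?_, ?_⟩
      · rw [← hl, Sylow.coe_subgroup_smul]
        exact ⟨_, hQ (Subgroup.mem_zpowers _), rfl⟩
      · show (l : G) * y * (l : G)⁻¹ = _
        rw [hy]; group
    -- two independent elements of order `p` of `E`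
    have hne : E ≠ ⊥ := fun e => by
      rw [e, Subgroup.card_bot] at hEc
      exact (Nat.one_lt_pow two_ne_zero hpr.one_lt).ne hEc
    obtain ⟨a, ha, ha1⟩ := (Subgroup.bot_or_exists_ne_one E).resolve_left hne
    have hao : orderOf a = p := orderOf_eq_prime (hEe.2 a ha) ha1
    have hlt : ¬ E ≤ Subgroup.zpowers a := fun e => by
      have := Subgroup.card_le_of_le e
      rw [hEc, Nat.card_zpowers, hao] at this
      nlinarith [hpr.two_le]
    obtain ⟨b, hb, hb1⟩ := SetLike.not_le_iff_exists.1 hlt
    have hbo : orderOf b = p := orderOf_eq_prime (hEe.2 b hb) fun e => hb1 (e ▸ one_mem _)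
    let ι : ↥(P : Subgroup ↥L) →* G := L.subtype.comp (P : Subgroup ↥L).subtype
    have hι : Function.Injective ι := L.subtype_injective.comp (P : Subgroup ↥L).subtype_injective
    have hιR : ∀ u, ι u ∈ S := fun u => hRS ⟨u, u.2, rfl⟩
    have hspan := CfsgLib.LocalEven.mem_closure_pair_of_rank hrank (a := ι a) (b := ι b) (c := y)
      ((orderOf_injective ι hι a).trans hao) ((orderOf_injective ι hι b).trans hbo)
      (fun e => hb1 (by
        obtain ⟨i, hi⟩ := Subgroup.mem_zpowers_iff.1 e
        exact Subgroup.mem_zpowers_iff.2 ⟨i, hι (by rw [map_zpow]; exact hi)⟩))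
      (by rw [hy, conj_pow, show x ^ p = 1 from hx ▸ pow_orderOf_eq_one x]; group)
      ((show Commute a b from CfsgLib.PGroup.elemAb_comm hEe ha hb).map ι) (hyc _ (hιR a)).symm (hyc _ (hιR b)).symm
    refine hyL ((Subgroup.closure_le L).2 ?_ hspan)
    rintro u (rfl | rfl)
    · exact SetLike.coe_mem _
    · exact SetLike.coe_mem _

end Cfsg.Agent.S3038
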