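import Cfsg.Statements.S3040
import Cfsg.Agent.Lib.FpfSThree.Main

set_option autoImplicit false
set_option linter.style.haveILetI false
open Cfsg

namespace Cfsg.Agent.S3040

/-- Let G be a finite group of even order coprime to 3, and let Σ be a group of automorphisms of G isomorphic to the symmetric group of degree 3 that is fixed-point-free (only the identity of G is fixed by every element of Σ). Then G is solvable, O_{2′,2}(G) (the preimage in G of O₂(G/O(G))) has odd index in G, and G = O_{2′,2}(G) C_G(σ) for every element σ of Σ of order 3; that is, O₂(G/O(G)) is a Sylow 2-subgroup of G/O(G) and G/O(G) = O₂(G/O(G)) C_{G/O(G)}(σ). -/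
theorem result {G : Type*} [Group G] [Finite G] (heven : 2 ∣ Nat.card G) (h3 : ¬ 3 ∣ Nat.card G)
    (Sig : Subgroup (MulAut G)) (hS3 : Nonempty (↥Sig ≃* Equiv.Perm (Fin 3))) (hfpf : ∀ g : G, (∀ σ ∈ Sig, σ g = g) → g = 1) :
    Group.IsSolvable G ∧ ¬ 2 ∣ (Cfsg.pPrimePCore 2 G).index ∧ ∀ σ ∈ Sig, orderOf σ = 3 →
      Cfsg.pPrimePCore 2 G ⊔ Subgroup.closure {g : G | σ g = g} = ⊤ := by
  obtain ⟨e⟩ := hS3
  have htab : ∀ a : Equiv.Perm (Fin 3), a ^ 3 = 1 → a ≠ 1 →
      Equiv.swap 0 1 * (a * Equiv.swap 0 1) = a * a ∧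
      ∀ b : Equiv.Perm (Fin 3), ∃ i : Fin 3, ∃ j : Fin 2, b = a ^ (i : ℕ) * Equiv.swap 0 1 ^ (j : ℕ) := by decide
  have build : ∀ s : ↥Sig, orderOf (e s) = 3 →
      CfsgLib.FpfSThree.Hyp (s : MulAut G) ((e.symm (Equiv.swap 0 1) : ↥Sig) : MulAut G) := by
    intro s hs
    set t := e.symm (Equiv.swap (0 : Fin 3) 1) with ht
    have h1 : e s ^ 3 = 1 := by
      have := pow_orderOf_eq_one (e s)
      rwa [hs] at this
    have h2 : e s ≠ 1 := fun he => by rw [he, orderOf_one] at hs; norm_num at hs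
    obtain ⟨hc, hg⟩ := htab _ h1 h2
    have hs3 : s * (s * s) = 1 := e.injective (by
      rw [map_mul, map_mul, map_one, ← h1, pow_succ', pow_two])
    have ht2 : t * t = 1 := e.injective (by rw [map_mul, map_one, ht, e.apply_symm_apply, Equiv.swap_mul_self])
    have htst : t * (s * t) = s * s := e.injective (by
      rw [map_mul, map_mul, map_mul, ht, e.apply_symm_apply, hc])
    refine ⟨h3, fun g => ?_, fun g => ?_, fun g => ?_, fun g hsg htg => hfpf g fun σ hσ => ?_⟩
    · exact DFunLike.congr_fun (congrArg Subtype.val hs3) g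
    · exact DFunLike.congr_fun (congrArg Subtype.val ht2) g
    · exact DFunLike.congr_fun (congrArg Subtype.val htst) g
    · obtain ⟨i, j, hij⟩ := hg (e ⟨σ, hσ⟩)
      have he : (⟨σ, hσ⟩ : ↥Sig) = s ^ (i : ℕ) * t ^ (j : ℕ) := e.injective (by
        rw [hij, map_mul, map_pow, map_pow, ht, e.apply_symm_apply])
      have he' : σ = (s : MulAut G) ^ (i : ℕ) * (t : MulAut G) ^ (j : ℕ) := by
        simpa using congrArg Subtype.val he
      let F : Subgroup (MulAut G) := MulAction.stabilizer (MulAut G) g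
      exact (he' ▸ mul_mem (pow_mem (show (s : MulAut G) ∈ F from hsg) _)
        (pow_mem (show (t : MulAut G) ∈ F from htg) _) : σ ∈ F)
  obtain ⟨s, hs⟩ : ∃ s : ↥Sig, orderOf (e s) = 3 := by
    haveI : Fact (Nat.Prime 3) := ⟨Nat.prime_three⟩
    refine ⟨e.symm (Equiv.swap 0 1 * Equiv.swap 1 2), ?_⟩
    rw [e.apply_symm_apply]
    exact orderOf_eq_prime (by decide) (by decide)
  have h := build s hs
  haveI : Group.IsSolvable G := h.solvable
  refine ⟨inferInstance, h.index_odd, fun σ hσ h3' => ?_⟩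
  have hb := build ⟨σ, hσ⟩ (by rw [e.orderOf_eq, ← Subgroup.orderOf_coe]; exact h3')
  refine top_le_iff.1 (hb.sup_fix.ge.trans (sup_le_sup_left (fun g hg => Subgroup.subset_closure hg) _))

end Cfsg.Agent.S3040
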