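import Cfsg.Statements.S3048
import Mathlib
import Cfsg.Agent.Lib.Invol.BaerSuzuki
import Cfsg.Agent.Lib.Cores.Components
import Cfsg.Agent.Lib.Cores.Layer
import Cfsg.Agent.Lib.Cores.Fitting
import Cfsg.Agent.Lib.LocalEven.Basic

set_option autoImplicit false
universe u
open Cfsg

namespace Cfsg.Agent.S3048

open Subgroup in
theorem two_core_centralizes {G : Type u} [Group G] [Finite G] {H K : Subgroup G} (hKH : K ≤ H)
    (hn : H ≤ normalizer (K : Set G)) (hK : pCore 2 ↥K = ⊥) {u k : G}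
    (hu : u ∈ (pCore 2 ↥H).map H.subtype) (hk : k ∈ K) : u * k = k * u := by
  obtain ⟨u, hu, rfl⟩ := hu
  set k' : ↥H := ⟨k, hKH hk⟩
  haveI hKn : (K.subgroupOf H).Normal := normal_subgroupOf_of_le_normalizer hn
  haveI := CfsgLib.Cores.pCore_characteristic (G := ↥H) 2
  have h1 : u * k' * u⁻¹ * k'⁻¹ ∈ pCore 2 ↥H ⊓ K.subgroupOf H := by
    refine ⟨?_, mul_mem (hKn.conj_mem k' hk u) ((K.subgroupOf H).inv_mem hk)⟩
    rw [show u * k' * u⁻¹ * k'⁻¹ = u * (k' * u⁻¹ * k'⁻¹) by group]
    exact mul_mem hu ((inferInstance : (pCore 2 ↥H).Normal).conj_mem _ (inv_mem hu) k')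
  set M : Subgroup ↥K := ((pCore 2 ↥H).map H.subtype).subgroupOf K with hM
  haveI : M.Normal := by
    refine ⟨fun m hm g => ?_⟩
    obtain ⟨r, hr, hr'⟩ := hm
    refine ⟨⟨g, hKH g.2⟩ * r * ⟨g, hKH g.2⟩⁻¹, (inferInstance : (pCore 2 ↥H).Normal).conj_mem r hr _, ?_⟩
    simp only [coe_subtype] at hr'
    simp only [map_mul, map_inv, coe_subtype, hr', Subgroup.coe_mul, InvMemClass.coe_inv]
  have hM2 : IsPGroup 2 ↥M := ((CfsgLib.Cores.isPGroup_pCore 2).map H.subtype).comap_subtype
  have h2 := CfsgLib.Cores.le_pCore hM2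
  rw [hK, le_bot_iff] at h2
  have h3 : (⟨_, h1.2⟩ : ↥K) ∈ M := ⟨_, h1.1, rfl⟩
  rw [h2, mem_bot] at h3
  have h4 : (u : G) * k * (u : G)⁻¹ * k⁻¹ = 1 := congrArg Subtype.val h3
  exact mul_inv_eq_iff_eq_mul.1 (mul_inv_eq_one.1 h4)

theorem mem_of_mul_self_mem {G : Type u} [Group G] {K : Subgroup G} {h : G} (ho : Odd (orderOf h))
    (hh : h * h ∈ K) : h ∈ K := by
  obtain ⟨i, hi⟩ := ho
  have : h = (h * h) ^ (i + 1) := by
    rw [← sq, ← pow_mul, show 2 * (i + 1) = orderOf h + 1 by omega, pow_succ, pow_orderOf_eq_one, one_mul]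
  rw [this]; exact pow_mem hh _

theorem eq_one_of_odd_of_inv {G : Type u} [Group G] {h : G} (ho : Odd (orderOf h)) (hh : h⁻¹ = h) : h = 1 :=
  Subgroup.mem_bot.1 (mem_of_mul_self_mem ho (Subgroup.mem_bot.2 (by
    nth_rewrite 1 [← hh]; exact inv_mul_cancel h)))

open Subgroup in
/-- An element of odd order of `K ⊔ W`, `W` elementary abelian normalising `K`, lies in `K`. -/
theorem mem_left_of_odd {G : Type u} [Group G] {K W : Subgroup G} (hn : W ≤ normalizer (K : Set G))
    (hW : ∀ w ∈ W, w * w = 1) {h : G} (ho : Odd (orderOf h)) (hh : h ∈ K ⊔ W) : h ∈ K := by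
  refine mem_of_mul_self_mem ho ?_
  rw [← SetLike.mem_coe, coe_mul_of_right_le_normalizer_left K W hn] at hh
  obtain ⟨k, hk, w, hw, rfl⟩ := hh
  have hw' : w⁻¹ = w := inv_eq_of_mul_eq_one_right (hW w hw)
  have h1 : w * k * w⁻¹ ∈ K := (mem_normalizer_iff.1 (hn hw) k).1 hk
  rw [hw'] at h1
  show k * w * (k * w) ∈ K
  rw [show k * w * (k * w) = k * (w * k * w) by group]
  exact mul_mem hk h1

open Subgroup in
/-- The image of a Sidki pair in a quotient. -/
theorem sidki_quotient {G : Type u} [Group G] [Finite G] {V N : Subgroup G} [N.Normal]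
    (hV2 : ∀ v ∈ V, v * v = 1) (hS : IsSidkiPair V) (hVN : ∀ v ∈ V, v ∈ N → v = 1) :
    IsSidkiPair (V.map (QuotientGroup.mk' N)) := by
  rintro h _ ⟨v, hv, rfl⟩ ho hinv
  have h2 : Nat.Coprime 2 (orderOf h) := (Nat.coprime_two_left).2 ho
  obtain ⟨j, hj⟩ := exists_pow_eq_self_of_coprime h2
  obtain ⟨k, hk⟩ := QuotientGroup.mk'_surjective N (h ^ j)
  set d := k * v * k⁻¹ * v⁻¹ with hd
  have hv' : v⁻¹ = v := inv_eq_of_mul_eq_one_right (hV2 v hv)
  have hdv : v * d * v⁻¹ = d⁻¹ := by
    rw [hd]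
    simp only [mul_inv_rev, inv_inv, hv', mul_assoc, hV2 v hv, mul_one]
  have hdh : QuotientGroup.mk' N d = h := by
    rw [hd, map_mul, map_mul, map_mul, map_inv, map_inv, hk]
    have e : QuotientGroup.mk' N v * (h ^ j)⁻¹ * (QuotientGroup.mk' N v)⁻¹ = h ^ j := by
      rw [← inv_pow, ← conj_pow, ← conj_inv, hinv, inv_inv]
    calc h ^ j * QuotientGroup.mk' N v * (h ^ j)⁻¹ * (QuotientGroup.mk' N v)⁻¹
        = h ^ j * (QuotientGroup.mk' N v * (h ^ j)⁻¹ * (QuotientGroup.mk' N v)⁻¹) := by group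
      _ = (h ^ 2) ^ j := by rw [e, ← pow_add, ← two_mul, pow_mul]
      _ = h := hj
  -- kill the two-part of `d`
  obtain ⟨a, m, hm, hdm⟩ := Nat.exists_eq_two_pow_mul_odd (orderOf_pos d).ne'
  obtain ⟨s, hs⟩ := exists_pow_eq_self_of_coprime (h2.pow_left a)
  set e' := (d ^ 2 ^ a) ^ s with he'
  have heo : Odd (orderOf e') := by
    refine hm.of_dvd_nat ((orderOf_pow_dvd s).trans ?_)
    rw [orderOf_pow' _ (pow_ne_zero a two_ne_zero), hdm, Nat.gcd_mul_right_left,
      Nat.mul_div_cancel_left _ (pow_pos two_pos a)]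
  have hev : v * e' * v⁻¹ = e'⁻¹ := by
    rw [he', ← conj_pow, ← conj_pow, hdv, inv_pow, inv_pow]
  obtain ⟨w, hw, hw1, hwe⟩ := hS e' v hv heo hev
  refine ⟨QuotientGroup.mk' N w, ⟨w, hw, rfl⟩, fun hw' => hw1 (hVN w hw ((QuotientGroup.eq_one_iff w).1 hw')), ?_⟩
  have heh : QuotientGroup.mk' N e' = h := by rw [he', map_pow, map_pow, hdh, hs]
  rw [← heh, ← map_mul, hwe, map_mul]


/-- Minimal counterexample reduction for the Sidki pair problem. Let G be a finite group and V a nontrivial elementary abelian 2-subgroup satisfying the Sidki pair condition with V ∩ O₂(G) = 1. Suppose that for every finite group H of smaller order, every nontrivial elementary abelian 2-subgroup W of H satisfying the Sidki pair condition meets O₂(H) nontrivially, and that the same holds in G for every such subgroup W of order smaller than that of V. Then the generalized Fitting subgroup F*(G) is a non-abelian simple group and G = V F*(G). -/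
theorem result {G : Type u} [Group G] [Finite G] (V : Subgroup G) (hV : Cfsg.IsElementaryAbelian 2 V) (hV1 : V ≠ ⊥) (hS : Cfsg.IsSidkiPair V) (hVO : V ⊓ Cfsg.pCore 2 G = ⊥) (hminG : ∀ (H : Type u) [Group H] [Finite H] (W : Subgroup H), Nat.card H < Nat.card G → Cfsg.IsElementaryAbelian 2 W → W ≠ ⊥ → Cfsg.IsSidkiPair W → W ⊓ Cfsg.pCore 2 H ≠ ⊥) (hminV : ∀ W : Subgroup G, Nat.card W < Nat.card V → Cfsg.IsElementaryAbelian 2 W → W ≠ ⊥ → Cfsg.IsSidkiPair W → W ⊓ Cfsg.pCore 2 G ≠ ⊥) : IsSimpleGroup ↥(Cfsg.generalizedFittingSubgroup G) ∧ ¬ IsMulCommutative ↥(Cfsg.generalizedFittingSubgroup G) ∧ V ⊔ Cfsg.generalizedFittingSubgroup G = ⊤ := by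
  classical
  have hV2 : ∀ v ∈ V, v * v = 1 := fun v hv => by rw [← sq]; exact hV.2 v hv
  have hVc : ∀ v ∈ V, ∀ w ∈ V, v * w = w * v := fun v hv w hw =>
    congrArg Subtype.val (hV.1.1.comm (⟨v, hv⟩ : ↥V) ⟨w, hw⟩)
  haveI := CfsgLib.Cores.pCore_characteristic (G := G) 2
  have hV2core : ∀ v ∈ V, v ∈ pCore 2 G → v = 1 := fun v hv h =>
    Subgroup.mem_bot.1 (hVO ▸ ⟨hv, h⟩)
  have hnt : Nontrivial G := by
    obtain ⟨v, hv, hv1⟩ := (Subgroup.bot_or_exists_ne_one _).resolve_left hV1
    exact ⟨⟨v, 1, hv1⟩⟩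
  have hElem : ∀ W : Subgroup G, W ≤ V → IsElementaryAbelian 2 W := fun W hW =>
    ⟨⟨⟨fun a b => Subtype.ext (hVc a (hW a.2) b (hW b.2))⟩⟩, fun a ha => hV.2 a (hW ha)⟩
  have hquot : ∀ (N : Subgroup G) [N.Normal], N ≠ ⊥ → (∀ v ∈ V, v ∈ N → v = 1) →
      ∃ v ∈ V, v ≠ 1 ∧ QuotientGroup.mk' N v ∈ pCore 2 (G ⧸ N) := by
    intro N _ hN hVN
    have h1 : Nat.card (G ⧸ N) < Nat.card G := by
      have hlt : 1 < Nat.card ↥N := (Subgroup.one_lt_card_iff_ne_bot N).2 hN
      rw [Subgroup.card_eq_card_quotient_mul_card_subgroup N]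
      exact lt_mul_of_one_lt_right Nat.card_pos hlt
    have h2 : IsElementaryAbelian 2 (V.map (QuotientGroup.mk' N)) := by
      refine ⟨⟨⟨?_⟩⟩, ?_⟩
      · rintro ⟨_, a, ha, rfl⟩ ⟨_, b, hb, rfl⟩
        exact Subtype.ext (by
          show QuotientGroup.mk' N a * QuotientGroup.mk' N b = QuotientGroup.mk' N b * QuotientGroup.mk' N a
          rw [← map_mul, hVc a ha b hb, map_mul])
      · rintro _ ⟨a, ha, rfl⟩
        rw [← map_pow, hV.2 a ha, map_one]
    have h3 : V.map (QuotientGroup.mk' N) ≠ ⊥ := by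
      obtain ⟨v, hv, hv1⟩ := (Subgroup.bot_or_exists_ne_one _).resolve_left hV1
      intro h
      exact hv1 (hVN v hv ((QuotientGroup.eq_one_iff v).1 (Subgroup.mem_bot.1 (h ▸ ⟨v, hv, rfl⟩))))
    obtain ⟨_, ⟨⟨v, hv, rfl⟩, hvO⟩, hne⟩ := (Subgroup.bot_or_exists_ne_one _).resolve_left
      (hminG (G ⧸ N) _ h1 h2 h3 (sidki_quotient hV2 hS hVN))
    exact ⟨v, hv, fun h => hne (by rw [h, map_one]), hvO⟩
  -- the two-core is trivial
  have hO : pCore 2 G = ⊥ := by
    by_contra hne
    obtain ⟨v, hv, hv1, hvO⟩ := hquot _ hne hV2core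
    rw [CfsgLib.Cores.pCore_quotient_self, Subgroup.mem_bot] at hvO
    exact hv1 (hV2core v hv ((QuotientGroup.eq_one_iff v).1 hvO))
  have hinvol : ∀ A : Subgroup G, A.Normal → (∀ a ∈ A, ∀ b ∈ A, a * b = b * a) →
      ∀ z ∈ A, z * z = 1 → z = 1 := by
    intro A hA hc z hz hzz
    let D : Subgroup G :=
      { carrier := {z | z ∈ A ∧ z * z = 1}
        mul_mem' := fun {a b} ha hb => ⟨mul_mem ha.1 hb.1, by
          rw [show a * b * (a * b) = a * (b * a) * b by group, hc b hb.1 a ha.1,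
            show a * (a * b) * b = (a * a) * (b * b) by group, ha.2, hb.2, one_mul]⟩
        one_mem' := ⟨one_mem A, one_mul 1⟩
        inv_mem' := fun {a} ha => ⟨inv_mem ha.1, by rw [← mul_inv_rev, ha.2, inv_one]⟩ }
    haveI : D.Normal := ⟨fun a ha g => ⟨hA.conj_mem a ha.1 g, by
      rw [conj_mul, ha.2, mul_one, mul_inv_cancel]⟩⟩
    have hD : IsPGroup 2 ↥D := fun a => ⟨1, Subtype.ext (by
      show (a : G) ^ (2 ^ 1) = 1
      rw [pow_one, sq]; exact a.2.2)⟩
    have := CfsgLib.Cores.le_pCore hD (⟨hz, hzz⟩ : z ∈ D)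
    rwa [hO, Subgroup.mem_bot] at this
  -- the induction hypothesis in proper subgroups
  have hsub : ∀ (H W : Subgroup G), H ≠ ⊤ → W ≤ H → W ≤ V → W ≠ ⊥ →
      (∀ h ∈ H, ∀ v ∈ W, Odd (orderOf h) → v * h * v⁻¹ = h⁻¹ → ∃ w ∈ W, w ≠ 1 ∧ w * h = h * w) →
      ∃ u ∈ W, u ≠ 1 ∧ u ∈ (pCore 2 ↥H).map H.subtype := by
    intro H W hH hWH hWV hW hpair
    have h1 : Nat.card ↥H < Nat.card G :=
      lt_of_le_of_ne (Subgroup.card_le_card_group H) fun h => hH (Subgroup.card_eq_iff_eq_top H |>.1 h)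
    have h2 : IsElementaryAbelian 2 (W.subgroupOf H) :=
      ⟨⟨⟨fun a b => Subtype.ext (Subtype.ext (hVc _ (hWV a.2) _ (hWV b.2)))⟩⟩,
        fun a ha => Subtype.ext (hV.2 _ (hWV ha))⟩
    have h3 : W.subgroupOf H ≠ ⊥ := by
      obtain ⟨v, hv, hv1⟩ := (Subgroup.bot_or_exists_ne_one _).resolve_left hW
      intro h
      have hm : (⟨v, hWH hv⟩ : ↥H) ∈ W.subgroupOf H := hv
      rw [h, Subgroup.mem_bot] at hm
      exact hv1 (congrArg Subtype.val hm)
    have h4 : IsSidkiPair (W.subgroupOf H) := by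
      intro h v hv ho hinv
      obtain ⟨w, hw, hw1, hwh⟩ := hpair h h.2 v hv (by rwa [Subgroup.orderOf_coe])
        (congrArg Subtype.val hinv)
      exact ⟨⟨w, hWH hw⟩, hw, fun e => hw1 (congrArg Subtype.val e), Subtype.ext hwh⟩
    obtain ⟨u, ⟨hu1, hu2⟩, hu⟩ := (Subgroup.bot_or_exists_ne_one _).resolve_left (hminG ↥H _ h1 h2 h3 h4)
    exact ⟨u, hu1, fun e => hu (Subtype.ext e), ⟨u, hu2, rfl⟩⟩
  -- every non-trivial normal subgroup supplements `V`
  have hsupp : ∀ N : Subgroup G, N.Normal → N ≠ ⊥ → N ⊔ V = ⊤ := by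
    intro N hN hN1
    by_contra htop
    set C := Subgroup.centralizer (N : Set G) with hCdef
    haveI := hN
    haveI hCn : C.Normal := Subgroup.normal_centralizer
    have hNn : ∀ H : Subgroup G, H ≤ Subgroup.normalizer (N : Set G) := fun H => by
      rw [Subgroup.normalizer_eq_top]; exact le_top
    have hNcore : pCore 2 ↥N = ⊥ := by
      have := CfsgLib.Cores.map_subtype_pCore_le_of_normal 2 N
      rw [hO, le_bot_iff, Subgroup.map_eq_bot_iff_of_injective _ N.subtype_injective] at this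
      exact this
    have hcentral : ∀ W : Subgroup G, W ≤ V → W ≠ ⊥ →
        (∀ h ∈ N, ∀ v ∈ W, Odd (orderOf h) → v * h * v⁻¹ = h⁻¹ → ∃ w ∈ W, w ≠ 1 ∧ w * h = h * w) →
        ∃ u ∈ W, u ≠ 1 ∧ u ∈ C := by
      intro W hWV hW hpair
      obtain ⟨u, hu, hu1, huO⟩ := hsub (N ⊔ W) W
        (fun h => htop (top_le_iff.1 (h ▸ sup_le_sup_left hWV N))) le_sup_right hWV hW
        (fun h hh v hv ho hinv => hpair h
          (mem_left_of_odd (hNn W) (fun w hw => hV2 w (hWV hw)) ho hh) v hv ho hinv)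
      refine ⟨u, hu, hu1, Subgroup.mem_centralizer_iff.2 fun n hn => ?_⟩
      exact (two_core_centralizes le_sup_left (hNn _) hNcore huO hn).symm
    set W := V ⊓ C with hW
    have hW1 : W ≠ ⊥ := by
      obtain ⟨u, hu, hu1, huC⟩ := hcentral V le_rfl hV1 fun h _ v hv ho hinv => hS h v hv ho hinv
      exact fun h => hu1 (Subgroup.mem_bot.1 (h ▸ ⟨hu, huC⟩))
    have hWS : IsSidkiPair W := by
      intro h v hv ho hinv
      have hhC : h ∈ C := by
        refine mem_of_mul_self_mem ho ?_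
        have h1 : h * v * h⁻¹ * v⁻¹ ∈ C := mul_mem (hCn.conj_mem v hv.2 h) (inv_mem hv.2)
        have h2 : v * h⁻¹ * v⁻¹ = h := by rw [← conj_inv, hinv, inv_inv]
        rwa [show h * v * h⁻¹ * v⁻¹ = h * (v * h⁻¹ * v⁻¹) by group, h2] at h1
      set T := V ⊓ Subgroup.centralizer ({h} : Set G) with hT
      have hT1 : T ≠ ⊥ := by
        obtain ⟨w, hw, hw1, hwh⟩ := hS h v hv.1 ho hinv
        exact fun e => hw1 (Subgroup.mem_bot.1 (e ▸ ⟨hw, Subgroup.mem_centralizer_singleton_iff.2 hwh⟩))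
      obtain ⟨u, hu, hu1, huC⟩ := hcentral T inf_le_left hT1 (by
        intro x hx t ht hox hxt
        have hxh : Commute x h := Subgroup.mem_centralizer_iff.1 hhC x hx
        have hoxh : Odd (orderOf (x * h)) :=
          (Nat.odd_mul.2 ⟨hox, ho⟩).of_dvd_nat hxh.orderOf_mul_dvd_mul_orderOf
        have hth : t * h * t⁻¹ = h := by
          rw [Subgroup.mem_centralizer_singleton_iff.1 ht.2, mul_inv_cancel_right]
        have hvx : ∀ y ∈ N, v * y * v⁻¹ = y := fun y hy => by
          rw [← Subgroup.mem_centralizer_iff.1 hv.2 y hy, mul_inv_cancel_right]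
        obtain ⟨w, hw, hw1, hwxh⟩ := hS (x * h) (v * t) (mul_mem hv.1 ht.1) hoxh (by
          rw [show v * t * (x * h) * (v * t)⁻¹ = v * (t * x * t⁻¹) * v⁻¹ * (v * (t * h * t⁻¹) * v⁻¹) by group,
            hxt, hth, hvx _ (inv_mem hx), hinv, mul_inv_rev, hxh.inv_inv.eq])
        -- `w` centralises both factors
        obtain ⟨z, hz⟩ : ∃ z, z = x⁻¹ * (w * x * w⁻¹) := ⟨_, rfl⟩
        have hw' : (w * x * w⁻¹) * (w * h * w⁻¹) = x * h := by
          rw [conj_mul, hwxh, mul_inv_cancel_right]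
        have hz2 : z = h * (w * h * w⁻¹)⁻¹ := by
          rw [hz, eq_mul_inv_iff_mul_eq, mul_assoc, hw', inv_mul_cancel_left]
        have hzN : z ∈ N := hz ▸ mul_mem (inv_mem hx) (hN.conj_mem x hx w)
        have hzC : z ∈ C := by rw [hz2]; exact mul_mem hhC (inv_mem (hCn.conj_mem h hhC w))
        have hzh : Commute z h := Subgroup.mem_centralizer_iff.1 hhC z hzN
        have hwh : w * h * w⁻¹ = z⁻¹ * h := by rw [hz2]; group
        have h5 : z⁻¹ * h⁻¹ = (z⁻¹ * h)⁻¹ := by
          have e1 : v * (w * h * w⁻¹) * v⁻¹ = w * (v * h * v⁻¹) * w⁻¹ := by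
            calc v * (w * h * w⁻¹) * v⁻¹ = (v * w) * h * (v * w)⁻¹ := by group
              _ = (w * v) * h * (w * v)⁻¹ := by rw [hVc v hv.1 w hw]
              _ = w * (v * h * v⁻¹) * w⁻¹ := by group
          rw [hinv, ← conj_inv, hwh, ← conj_mul, hvx _ (inv_mem hzN), hinv] at e1
          exact e1
        have hzz : z * z = 1 := by
          rw [mul_inv_rev, inv_inv] at h5
          have : z⁻¹ * h⁻¹ = z * h⁻¹ := by rw [h5, (hzh.inv_right).eq]
          have e : z⁻¹ = z := mul_right_cancel this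
          nth_rewrite 1 [← e]
          exact inv_mul_cancel z
        have hAn : (N ⊓ C).Normal := ⟨fun a ha g => ⟨hN.conj_mem a ha.1 g, hCn.conj_mem a ha.2 g⟩⟩
        have hz1 : z = 1 := hinvol (N ⊓ C) hAn
          (fun a ha b hb => Subgroup.mem_centralizer_iff.1 hb.2 a ha.1) z ⟨hzN, hzC⟩ hzz
        refine ⟨w, ⟨hw, Subgroup.mem_centralizer_singleton_iff.2 ?_⟩, hw1, ?_⟩
        · rw [← mul_inv_eq_iff_eq_mul, hwh, hz1, inv_one, one_mul]
        · rw [← mul_inv_eq_iff_eq_mul]
          exact (inv_mul_eq_one.1 (hz ▸ hz1)).symm)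
      exact ⟨u, ⟨hu.1, huC⟩, hu1, Subgroup.mem_centralizer_singleton_iff.1 hu.2⟩
    have hWV : W = V := by
      by_contra hne
      refine hminV W (lt_of_le_of_ne (Subgroup.card_le_of_le inf_le_left) fun h =>
        hne (Subgroup.eq_of_le_of_card_ge inf_le_left h.ge)) (hElem W inf_le_left) hW1 hWS ?_
      rw [hO, inf_bot_eq]
    have hVC : V ≤ C := hWV ▸ inf_le_right
    by_cases hC : C = ⊤
    · -- `N` is central
      have hcen : ∀ n ∈ N, ∀ g : G, n * g = g * n := fun n hn g =>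
        Subgroup.mem_centralizer_iff.1 (show g ∈ C by rw [hC]; trivial) n hn
      obtain ⟨v, hv, hv1, hvR⟩ := hquot N hN1 fun v hv hvN =>
        hinvol N hN (fun a ha b _ => hcen a ha b) v hvN (hV2 v hv)
      obtain ⟨h, hh1, hho, hinv⟩ := CfsgLib.Invol.exists_inverted_odd v
        (orderOf_eq_prime (hV.2 v hv) hv1) (fun M hM hM2 hvM => hv1 (hV2core v hv
          (le_sSup (show M ∈ {M : Subgroup G | M.Normal ∧ IsPGroup 2 M} from ⟨hM, hM2⟩) hvM)))
      haveI := CfsgLib.Cores.pCore_characteristic (G := G ⧸ N) 2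
      have hhR : QuotientGroup.mk' N h ∈ pCore 2 (G ⧸ N) := by
        have ho' : Odd (orderOf (QuotientGroup.mk' N h)) := hho.of_dvd_nat (orderOf_map_dvd _ h)
        refine mem_of_mul_self_mem ho' ?_
        have h1 := mul_mem ((inferInstance : (pCore 2 (G ⧸ N)).Normal).conj_mem _ hvR (QuotientGroup.mk' N h))
          (inv_mem hvR)
        have h2 : v * h⁻¹ * v⁻¹ = h := by rw [← conj_inv, hinv, inv_inv]
        rwa [← map_inv, ← map_mul, ← map_mul, ← map_inv, ← map_mul,
          show h * v * h⁻¹ * v⁻¹ = h * (v * h⁻¹ * v⁻¹) by group, h2, map_mul] at h1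
      obtain ⟨k, hk⟩ := CfsgLib.Cores.isPGroup_pCore 2 (G := G ⧸ N) ⟨_, hhR⟩
      have hhN : h ∈ N := by
        have h3 : (QuotientGroup.mk' N h) ^ 2 ^ k = 1 := congrArg Subtype.val hk
        have h4 : Nat.Coprime (orderOf (QuotientGroup.mk' N h)) (2 ^ k) :=
          (Nat.coprime_two_right.2 (hho.of_dvd_nat (orderOf_map_dvd _ h))).pow_right k
        exact (QuotientGroup.eq_one_iff h).1 (orderOf_eq_one_iff.1
          (Nat.eq_one_of_dvd_coprimes h4 dvd_rfl (orderOf_dvd_of_pow_eq_one h3)))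
      rw [← hcen h hhN v, mul_inv_cancel_right] at hinv
      exact hh1 (eq_one_of_odd_of_inv hho hinv.symm)
    · obtain ⟨u, hu, hu1, huO⟩ := hsub C V hC hVC le_rfl hV1 fun h _ v hv ho hinv => hS h v hv ho hinv
      have := CfsgLib.Cores.map_subtype_pCore_le_of_normal 2 C huO
      rw [hO, Subgroup.mem_bot] at this
      exact hu1 this
  -- no abelian normal subgroup
  have hab : ∀ N : Subgroup G, N.Normal → (∀ a ∈ N, ∀ b ∈ N, a * b = b * a) → N = ⊥ := by
    intro N hN hc
    by_contra hN1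
    haveI := hN
    obtain ⟨x, hx, hx1⟩ := (Subgroup.bot_or_exists_ne_one _).resolve_left hN1
    have hgen : ∀ M : Subgroup G, V ≤ M → N ≤ M → M = ⊤ := fun M h1 h2 =>
      top_le_iff.1 (hsupp N hN hN1 ▸ sup_le h2 h1)
    have hinv : ∀ v ∈ V, v ≠ 1 → v * x * v⁻¹ = x⁻¹ := by
      intro v hv hv1
      set D := N ⊓ Subgroup.centralizer ({v} : Set G) with hD
      have hDn : D.Normal := by
        rw [← Subgroup.normalizer_eq_top_iff]
        refine hgen _ (fun w hw => ?_) fun n hn => ?_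
        · rw [Subgroup.mem_normalizer_iff]
          have hcwv : ∀ a : G, a * v = v * a → w * a * w⁻¹ * v = v * (w * a * w⁻¹) := by
            intro a ha
            have hc' : Commute w v := hVc w hw v hv
            exact ((hc'.mul_left (ha : Commute a v)).mul_left hc'.inv_left).eq
          intro y
          constructor
          · rintro ⟨h1, h2⟩
            exact ⟨hN.conj_mem y h1 w, Subgroup.mem_centralizer_singleton_iff.2
              (hcwv y (Subgroup.mem_centralizer_singleton_iff.1 h2))⟩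
          · rintro ⟨h1, h2⟩
            have h1' := hN.conj_mem _ h1 w⁻¹
            have h2' : Commute (w * y * w⁻¹) v := Subgroup.mem_centralizer_singleton_iff.1 h2
            have hc' : Commute w⁻¹ v := (show Commute w v from hVc w hw v hv).inv_left
            have h3 := ((hc'.mul_left h2').mul_left hc'.inv_left).eq
            have e : w⁻¹ * (w * y * w⁻¹) * w⁻¹⁻¹ = y := by group
            rw [e] at h1' h3
            exact ⟨h1', Subgroup.mem_centralizer_singleton_iff.2 h3⟩
        · rw [Subgroup.mem_normalizer_iff]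
          intro y
          constructor
          · intro hy
            rwa [hc n hn y hy.1, mul_inv_cancel_right]
          · intro hy
            have h1 := hN.conj_mem _ hy.1 n⁻¹
            simp only [inv_inv, mul_assoc, inv_mul_cancel_left, inv_mul_cancel, mul_one] at h1
            rwa [hc n hn y h1, mul_inv_cancel_right] at hy
      have hvx : x * (v * x * v⁻¹) ∈ D := by
        refine ⟨mul_mem hx (hN.conj_mem x hx v), Subgroup.mem_centralizer_singleton_iff.2 ?_⟩
        have hv' : v⁻¹ = v := inv_eq_of_mul_eq_one_right (hV2 v hv)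
        calc x * (v * x * v⁻¹) * v = x * (v * x) := by group
          _ = (v * v) * x * v * x := by rw [hV2 v hv]; group
          _ = v * ((v * x * v⁻¹) * x) := by rw [hv']; group
          _ = v * (x * (v * x * v⁻¹)) := by rw [hc _ (hN.conj_mem x hx v) x hx]
      by_cases hD1 : D = ⊥
      · rw [hD1, Subgroup.mem_bot] at hvx
        exact eq_inv_of_mul_eq_one_right hvx
      exfalso
      have h2 : Subgroup.centralizer ({v} : Set G) = ⊤ := top_le_iff.1 (hsupp D hDn hD1 ▸
        sup_le inf_le_right fun w hw => Subgroup.mem_centralizer_singleton_iff.2 (hVc w hw v hv))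
      haveI : (Subgroup.zpowers v).Normal := ⟨fun a ha g => by
        obtain ⟨i, rfl⟩ := ha
        have hg : Commute g v := Subgroup.mem_centralizer_singleton_iff.1 (h2 ▸ Subgroup.mem_top g)
        rw [(hg.zpow_right i).eq, mul_inv_cancel_right]
        exact zpow_mem (Subgroup.mem_zpowers v) i⟩
      exact hv1 (hV2core v hv (CfsgLib.Cores.le_pCore (IsPGroup.of_card (n := 1) (by
        rw [Nat.card_zpowers, orderOf_eq_prime (hV.2 v hv) hv1, pow_one])) (Subgroup.mem_zpowers v)))
    have hxo : Odd (orderOf x) := by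
      by_contra he
      rw [Nat.not_odd_iff_even] at he
      have h1 : (x ^ (orderOf x / 2)) * (x ^ (orderOf x / 2)) = 1 := by
        rw [← pow_add, ← two_mul, Nat.mul_div_cancel' (even_iff_two_dvd.1 he), pow_orderOf_eq_one]
      have h2 := hinvol N hN hc _ (pow_mem hx _) h1
      have h3 := orderOf_dvd_of_pow_eq_one h2
      have h4 := orderOf_pos x
      have h5 := Nat.le_of_dvd (Nat.div_pos (Nat.le_of_dvd h4 (even_iff_two_dvd.1 he)) two_pos) h3
      omega
    obtain ⟨v, hv, hv1⟩ := (Subgroup.bot_or_exists_ne_one _).resolve_left hV1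
    obtain ⟨w, hw, hw1, hwx⟩ := hS x v hv hxo (hinv v hv hv1)
    have := hinv w hw hw1
    rw [hwx, mul_inv_cancel_right] at this
    exact hx1 (eq_one_of_odd_of_inv hxo this.symm)
  have hF : fittingSubgroup G = ⊥ := by
    haveI := CfsgLib.Cores.fittingSubgroup_characteristic (G := G)
    by_contra hne
    haveI := (Subgroup.nontrivial_iff_ne_bot _).2 hne
    haveI := CfsgLib.Cores.isNilpotent_fittingSubgroup (G := G)
    have h1 : (Subgroup.center ↥(fittingSubgroup G)) ≠ ⊥ := Group.IsNilpotent.center_ne_bot _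
    have h2 := hab ((Subgroup.center ↥(fittingSubgroup G)).map (fittingSubgroup G).subtype)
      (CfsgLib.Cores.map_center_normal _) (by
        rintro _ ⟨a, ha, rfl⟩ _ ⟨b, hb, rfl⟩
        exact congrArg Subtype.val (Subgroup.mem_center_iff.1 hb a))
    rw [Subgroup.map_eq_bot_iff_of_injective _ (fittingSubgroup G).subtype_injective] at h2
    exact h1 h2
  have hcentN : ∀ N : Subgroup G, N.Normal → N ≠ ⊥ → Subgroup.centralizer (N : Set G) = ⊥ := by
    intro N hN hN1
    haveI := hN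
    set C := Subgroup.centralizer (N : Set G) with hC
    haveI hCn : C.Normal := Subgroup.normal_centralizer
    by_contra hC1
    have hd : ∀ a ∈ N, a ∈ C → a = 1 := fun a ha ha' => Subgroup.mem_bot.1 (hab (N ⊓ C)
      ⟨fun a ha g => ⟨hN.conj_mem a ha.1 g, hCn.conj_mem a ha.2 g⟩⟩
      (fun a ha b hb => Subgroup.mem_centralizer_iff.1 hb.2 a ha.1) ▸ ⟨ha, ha'⟩)
    refine hN1 (hab N hN fun a ha b hb => ?_)
    have hab' : a * b * a⁻¹ * b⁻¹ ∈ N := mul_mem (hN.conj_mem b hb a) (inv_mem hb)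
    refine mul_inv_eq_iff_eq_mul.1 (mul_inv_eq_one.1 (hd _ hab' ?_))
    have hlift : ∀ g : G, ∃ c ∈ C, ∃ v ∈ V, g = c * v := by
      intro g
      have h1 := hsupp C hCn hC1
      have h2 : g ∈ C ⊔ V := h1 ▸ Subgroup.mem_top g
      rw [← SetLike.mem_coe, Subgroup.normal_mul] at h2
      obtain ⟨c, hc, v, hv, rfl⟩ := h2
      exact ⟨c, hc, v, hv, rfl⟩
    obtain ⟨c, hc, v, hv, rfl⟩ := hlift a
    obtain ⟨d, hd', w, hw, rfl⟩ := hlift b
    have e : QuotientGroup.mk' C (c * v * (d * w) * (c * v)⁻¹ * (d * w)⁻¹) = 1 := by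
      have hc0 : QuotientGroup.mk' C c = 1 := (QuotientGroup.eq_one_iff c).2 hc
      have hd0 : QuotientGroup.mk' C d = 1 := (QuotientGroup.eq_one_iff d).2 hd'
      simp only [map_mul, map_inv, hc0, hd0, one_mul]
      rw [← map_mul, hVc v hv w hw, map_mul]
      group
    exact (QuotientGroup.eq_one_iff _).1 e
  -- a component
  obtain ⟨K, hK⟩ : ∃ K : Subgroup G, IsComponent K := by
    by_contra h
    push Not at h
    refine CfsgLib.Cores.generalizedFittingSubgroup_ne_bot (G := G) ?_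
    rw [generalizedFittingSubgroup, hF, sup_bot_eq, CfsgLib.Cores.layer_eq_bot_iff]
    exact h
  haveI hEn : (layer G).Normal := CfsgLib.Cores.layer_normal
  have hKcen : Subgroup.center ↥K = ⊥ := by
    have h1 : (Subgroup.center ↥K).map K.subtype ≤ fittingSubgroup G :=
      CfsgLib.Cores.le_fittingSubgroup_of_isSubnormal
        ((Subgroup.Normal.isSubnormal inferInstance).trans' hK.1) (CfsgLib.Cores.isNilpotent_center_map K)
    rw [hF, le_bot_iff, Subgroup.map_eq_bot_iff_of_injective _ K.subtype_injective] at h1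
    exact h1
  have hcomm : ∀ L M : Subgroup G, IsComponent L → IsComponent M → L ≠ M →
      ∀ a ∈ L, ∀ b ∈ M, Commute a b := by
    intro L M hL hM hne a ha b hb
    exact (Subgroup.mem_centralizer_iff.1 ((Subgroup.commutator_eq_bot_iff_le_centralizer.1
      (CfsgLib.Cores.commutator_components_eq_bot hL hM hne)) ha) b hb).symm
  have hKzero : ∀ a ∈ K, (∀ k ∈ K, Commute k a) → a = 1 := fun a ha h => by
    have h1 : (⟨a, ha⟩ : ↥K) ∈ Subgroup.center ↥K :=
      Subgroup.mem_center_iff.2 fun k => Subtype.ext (h k k.2).eq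
    rw [hKcen, Subgroup.mem_bot] at h1
    exact congrArg Subtype.val h1
  have hconj : ∀ g : G, IsComponent (K.map (MulAut.conj g).toMonoidHom) := fun g =>
    CfsgLib.Cores.isComponent_map_equiv (MulAut.conj g) hK
  -- `V` normalises `K`
  have hVK : V ≤ Subgroup.normalizer (K : Set G) := by
    by_contra hnot
    obtain ⟨a, ha, haK⟩ := SetLike.not_le_iff_exists.1 hnot
    have hnorm : ∀ g : G, K.map (MulAut.conj g).toMonoidHom = K → g ∈ Subgroup.normalizer (K : Set G) :=
      fun g h => Subgroup.mem_normalizer_iff_map_conj_eq.2 h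
    set L := K.map (MulAut.conj a).toMonoidHom with hL
    have hLK : L ≠ K := fun h => haK (hnorm a h)
    have hmv : ∀ w : G, ∀ k ∈ K, w * k * w⁻¹ ∈ K.map (MulAut.conj w).toMonoidHom := fun w k hk => ⟨k, hk, rfl⟩
    set V₀ := V ⊓ Subgroup.normalizer (K : Set G) with hV₀
    -- centralising an element of `K` forces normalising `K`
    have hfix : ∀ w : G, ∀ x ∈ K, x ≠ 1 → w * x = x * w → w ∈ Subgroup.normalizer (K : Set G) := by
      intro w x hx hx1 hwx
      by_contra hwK
      refine hx1 (hKzero x hx fun k hk => ?_)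
      have hx' : x ∈ K.map (MulAut.conj w).toMonoidHom := by
        have := hmv w x hx
        rwa [hwx, mul_inv_cancel_right] at this
      exact hcomm K _ hK (hconj w) (fun h => hwK (hnorm w h.symm)) k hk x hx'
    have hkey : ∀ x ∈ K, x ≠ 1 → Odd (orderOf x) →
        ∃ v ∈ V₀, v ≠ 1 ∧ (v * x * v⁻¹ = x ∨ v * x * v⁻¹ = x⁻¹) := by
      intro x hx hx1 hxo
      set y := a * x * a⁻¹ with hy
      have hyL : y ∈ L := hmv a x hx
      have hxy : Commute x y := hcomm K L hK (hconj a) hLK.symm x hx y hyL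
      have hyo : Odd (orderOf y⁻¹) := by
        rw [orderOf_inv, hy, ← MulAut.conj_apply, MulEquiv.orderOf_eq]; exact hxo
      have hoh : Odd (orderOf (x * y⁻¹)) :=
        (Nat.odd_mul.2 ⟨hxo, hyo⟩).of_dvd_nat hxy.inv_right.orderOf_mul_dvd_mul_orderOf
      have haa : a⁻¹ = a := inv_eq_of_mul_eq_one_right (hV2 a ha)
      have hay : a * y * a⁻¹ = x := by
        calc a * y * a⁻¹ = (a * a) * x * (a * a)⁻¹ := by rw [hy]; group
          _ = x := by rw [hV2 a ha]; group
      obtain ⟨w, hw, hw1, hwh⟩ := hS (x * y⁻¹) a ha hoh (by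
        rw [← conj_mul, ← conj_inv, hay, mul_inv_rev, inv_inv])
      have hwh' : (w * x * w⁻¹) * (w * y * w⁻¹)⁻¹ = x * y⁻¹ := by
        rw [conj_inv, conj_mul, hwh, mul_inv_cancel_right]
      have hwy : w * y * w⁻¹ = a * (w * x * w⁻¹) * a⁻¹ := by
        calc w * y * w⁻¹ = (w * a) * x * (w * a)⁻¹ := by rw [hy]; group
          _ = (a * w) * x * (a * w)⁻¹ := by rw [hVc a ha w hw]
          _ = a * (w * x * w⁻¹) * a⁻¹ := by group
      have haw : ∀ g : G, K.map (MulAut.conj (a * g)).toMonoidHom =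
          (K.map (MulAut.conj g).toMonoidHom).map (MulAut.conj a).toMonoidHom := fun g => by
        rw [Subgroup.map_map]; congr 1; ext; simp [mul_assoc]
      have hwy' : w * y * w⁻¹ ∈ K.map (MulAut.conj (a * w)).toMonoidHom := by
        rw [haw, hwy]; exact ⟨_, hmv w x hx, rfl⟩
      have hne' : ∀ g, K.map (MulAut.conj g).toMonoidHom ≠ K → ∀ k ∈ K, ∀ u ∈ K.map (MulAut.conj g).toMonoidHom,
          Commute k u := fun g hg k hk u hu => hcomm K _ hK (hconj g) hg.symm k hk u hu
      by_cases h1 : w ∈ Subgroup.normalizer (K : Set G)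
      · refine ⟨w, ⟨hw, h1⟩, hw1, Or.inl ?_⟩
        have hwxK : w * x * w⁻¹ ∈ K := (Subgroup.mem_normalizer_iff.1 h1 x).1 hx
        have hwyL : w * y * w⁻¹ ∈ L := by rw [hwy]; exact hmv a _ hwxK
        have e : x⁻¹ * (w * x * w⁻¹) = y⁻¹ * (w * y * w⁻¹) := by
          rw [inv_mul_eq_iff_eq_mul, ← mul_assoc]
          exact mul_inv_eq_iff_eq_mul.1 hwh'
        have h2 : x⁻¹ * (w * x * w⁻¹) = 1 := hKzero _ (mul_mem (inv_mem hx) hwxK) fun k hk => by
          rw [e]
          exact hcomm K L hK (hconj a) hLK.symm k hk _ (mul_mem (inv_mem hyL) hwyL)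
        exact (inv_mul_eq_one.1 h2).symm
      · -- then `a * w` fixes `K` and inverts `x`
        have h2 : a * w ∈ Subgroup.normalizer (K : Set G) := by
          by_contra hnk
          refine hx1 (hKzero x hx fun k hk => ?_)
          have c1 : Commute k (w * x * w⁻¹) := hne' w (fun h => h1 (hnorm w h)) k hk _ (hmv w x hx)
          have c2 : Commute k (w * y * w⁻¹) := hne' (a * w) (fun h => hnk (hnorm _ h)) k hk _ hwy'
          have c3 := c1.mul_right c2.inv_right
          rw [hwh'] at c3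
          have c4 : Commute k y⁻¹ := (hcomm K L hK (hconj a) hLK.symm k hk y hyL).inv_right
          have := c3.mul_right c4.inv_right
          simpa using this
        refine ⟨a * w, ⟨mul_mem ha hw, h2⟩, fun h => ?_, Or.inr ?_⟩
        · refine haK ?_
          have : a = w := by rw [mul_eq_one_iff_eq_inv] at h; rw [h, inv_eq_of_mul_eq_one_right (hV2 w hw)]
          exfalso
          subst this
          rw [hy] at hay
          -- `a` both inverts and centralises `x * y⁻¹`
          have e : a * (x * y⁻¹) * a⁻¹ = x * y⁻¹ := by rw [hwh, mul_inv_cancel_right]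
          rw [← conj_mul, ← conj_inv, hay, ← hy] at e
          have e2 := eq_one_of_odd_of_inv hoh (by rw [mul_inv_rev, inv_inv]; exact e)
          rw [mul_inv_eq_one] at e2
          exact hx1 (hKzero x hx fun k hk => by
            rw [e2]; exact hcomm K L hK (hconj a) hLK.symm k hk y hyL)
        · have hawK : a * w * x * (a * w)⁻¹ ∈ K := (Subgroup.mem_normalizer_iff.1 h2 x).1 hx
          have hwy2 : w * y * w⁻¹ = a * w * x * (a * w)⁻¹ := by rw [hwy]; group
          have hwxL : w * x * w⁻¹ ∈ L := by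
            refine ⟨_, hawK, ?_⟩
            show a * (a * w * x * (a * w)⁻¹) * a⁻¹ = _
            calc a * (a * w * x * (a * w)⁻¹) * a⁻¹ = (a * a) * (w * x * w⁻¹) * (a * a)⁻¹ := by group
              _ = _ := by rw [hV2 a ha]; group
          rw [hwy2] at hwh'
          set p := a * w * x * (a * w)⁻¹ with hp
          set q := w * x * w⁻¹ with hq
          have hpq : Commute p q := hcomm K L hK (hconj a) hLK.symm p hawK q hwxL
          have e : x * p = q * y := by
            rw [mul_inv_eq_iff_eq_mul] at hwh'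
            rw [hwh', mul_assoc x, ← (hcomm K L hK (hconj a) hLK.symm p hawK y⁻¹ (inv_mem hyL)).eq]
            group
          have h3 : x * p = 1 := hKzero _ (mul_mem hx hawK) fun k hk => by
            rw [e]; exact hcomm K L hK (hconj a) hLK.symm k hk _ (mul_mem hwxL hyL)
          exact eq_inv_of_mul_eq_one_right h3
    -- an odd element of `K`
    obtain ⟨x, hx, hx1, hxo⟩ : ∃ x ∈ K, x ≠ 1 ∧ Odd (orderOf x) := by
      by_contra h
      push Not at h
      refine CfsgLib.Cores.center_eq_top_of_isNilpotent_quasisimple hK.2 (IsPGroup.isNilpotent (p := 2) ?_)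
      intro g
      obtain ⟨e, m, hm, hgm⟩ := Nat.exists_eq_two_pow_mul_odd (orderOf_pos g).ne'
      refine ⟨e, ?_⟩
      by_contra hne
      have h1 : Odd (orderOf ((g : G) ^ 2 ^ e)) := by
        rw [orderOf_pow' _ (pow_ne_zero e two_ne_zero), Subgroup.orderOf_coe, hgm, Nat.gcd_mul_right_left,
          Nat.mul_div_cancel_left _ (pow_pos two_pos e)]
        exact hm
      exact (h _ (pow_mem g.2 _) (fun h2 => hne (Subtype.ext h2))) h1
    obtain ⟨v, hv, hv1, -⟩ := hkey x hx hx1 hxo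
    have hV₀1 : V₀ ≠ ⊥ := fun h => hv1 (Subgroup.mem_bot.1 (h ▸ hv))
    have hHn : K ⊔ V₀ ≤ Subgroup.normalizer (K : Set G) := sup_le Subgroup.le_normalizer inf_le_right
    obtain ⟨u, hu, hu1, huO⟩ := hsub (K ⊔ V₀) V₀
      (fun h => haK (hHn (h ▸ Subgroup.mem_top a))) le_sup_right inf_le_left hV₀1
      (by
        intro h hh t ht ho hinv
        rcases eq_or_ne h 1 with rfl | hne
        · exact ⟨v, hv, hv1, by rw [mul_one, one_mul]⟩
        obtain ⟨w, hw, hw1, hwh⟩ := hS h t ht.1 ho hinv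
        exact ⟨w, ⟨hw, hfix w h (mem_left_of_odd inf_le_right (fun z hz => hV2 z hz.1) ho hh) hne hwh⟩,
          hw1, hwh⟩)
    have hKcore : pCore 2 ↥K = ⊥ := by
      have h1 : (pCore 2 ↥K).map K.subtype ≤ fittingSubgroup G := by
        haveI := CfsgLib.Cores.pCore_characteristic (G := ↥K) 2
        exact CfsgLib.Cores.le_fittingSubgroup_of_isSubnormal
          ((Subgroup.Normal.isSubnormal inferInstance).trans' hK.1)
          ((CfsgLib.Cores.isPGroup_pCore 2).map K.subtype).isNilpotent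
      rw [hF, le_bot_iff, Subgroup.map_eq_bot_iff_of_injective _ K.subtype_injective] at h1
      exact h1
    have huK : ∀ k ∈ K, u * k = k * u := fun k hk => two_core_centralizes le_sup_left hHn hKcore huO hk
    -- `u` centralises the normal closure of `K`
    set N := ⨆ w : V, K.map (MulAut.conj (w : G)).toMonoidHom with hN
    have hNn : N.Normal := by
      rw [← Subgroup.normalizer_eq_top_iff]
      refine top_le_iff.1 (hsupp (layer G) hEn (fun h => CfsgLib.Cores.component_ne_bot hK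
        (le_bot_iff.1 (h ▸ CfsgLib.Cores.component_le_layer hK))) ▸ sup_le ?_ fun z hz => ?_)
      · intro g hg
        rw [Subgroup.mem_normalizer_iff_map_conj_eq]
        refine le_antisymm ?_ ?_ <;> rw [hN, Subgroup.map_iSup] <;> refine iSup_le fun w => ?_
        · rw [Subgroup.mem_normalizer_iff_map_conj_eq.1
            ((CfsgLib.Cores.layer_le_normalizer_component (hconj w)) hg)]
          exact le_iSup (fun w : V => K.map (MulAut.conj (w : G)).toMonoidHom) w
        · rw [← Subgroup.mem_normalizer_iff_map_conj_eq.1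
            ((CfsgLib.Cores.layer_le_normalizer_component (hconj w)) hg)]
          exact le_iSup (fun w : V => (K.map (MulAut.conj (w : G)).toMonoidHom).map (MulAut.conj g).toMonoidHom) w
      · refine CfsgLib.LocalEven.mem_normalizer_of_conj_le (le_of_eq_of_le (Subgroup.map_iSup _ _) (iSup_le fun w => ?_))
        refine le_trans (le_of_eq ?_) (le_iSup (fun w : V => K.map (MulAut.conj (w : G)).toMonoidHom) ⟨z * w, mul_mem hz w.2⟩)
        rw [Subgroup.map_map]; congr 1; ext; simp [mul_assoc]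
    have hKN : K ≤ N := fun k hk => le_iSup (fun w : V => K.map (MulAut.conj (w : G)).toMonoidHom)
      ⟨1, one_mem V⟩ ⟨k, hk, by simp⟩
    have hucent : u ∈ Subgroup.centralizer (N : Set G) := by
      have : N ≤ Subgroup.centralizer ({u} : Set G) := by
        refine iSup_le fun w => ?_
        rintro _ ⟨k, hk, rfl⟩
        refine Subgroup.mem_centralizer_singleton_iff.2 ?_
        have hc' : Commute (w : G) u := hVc w w.2 u hu.1
        exact ((hc'.mul_left (huK k hk).symm).mul_left hc'.inv_left).eq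
      exact Subgroup.mem_centralizer_iff.2 fun n hn => Subgroup.mem_centralizer_singleton_iff.1 (this hn)
    rw [hcentN N hNn (fun h => CfsgLib.Cores.component_ne_bot hK (le_bot_iff.1 (h ▸ hKN))),
      Subgroup.mem_bot] at hucent
    exact hu1 hucent
  have hKn : K.Normal := by
    rw [← Subgroup.normalizer_eq_top_iff]
    exact top_le_iff.1 (hsupp (layer G) hEn (fun h => CfsgLib.Cores.component_ne_bot hK
      (le_bot_iff.1 (h ▸ CfsgLib.Cores.component_le_layer hK))) ▸
      sup_le (CfsgLib.Cores.layer_le_normalizer_component hK) hVK)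
  have hlayer : layer G = K := by
    refine le_antisymm (CfsgLib.Cores.layer_le_iff.2 fun M hM => ?_) (CfsgLib.Cores.component_le_layer hK)
    by_contra hle
    refine CfsgLib.Cores.component_ne_bot hM (le_bot_iff.1 ((hcentN K hKn (CfsgLib.Cores.component_ne_bot hK)) ▸ ?_))
    exact fun m hm => Subgroup.mem_centralizer_iff.2 fun k hk => hcomm K M hK hM (fun e => hle e.ge) k hk m hm
  rw [generalizedFittingSubgroup, hF, sup_bot_eq, hlayer]
  haveI := hK.2.2
  have e : ↥K ≃* ↥K ⧸ Subgroup.center ↥K :=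
    (QuotientGroup.quotientBot (G := ↥K)).symm.trans (QuotientGroup.quotientMulEquivOfEq hKcen.symm)
  refine ⟨e.isSimpleGroup_congr.2 inferInstance, fun h =>
    CfsgLib.Cores.center_ne_top_of_isQuasisimple hK.2 (Subgroup.center_eq_top_iff.2 h), ?_⟩
  rw [sup_comm]
  exact hsupp K hKn (CfsgLib.Cores.component_ne_bot hK)

end Cfsg.Agent.S3048
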