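import Cfsg.Statements.S3053
import Cfsg.Agent.Lib.PGroup.Extraspecial
import Cfsg.Agent.Lib.LocalEven.Isolated
import Cfsg.Agent.Lib.LocalEven.Coprime

set_option autoImplicit false
open scoped commutatorElement
open Cfsg

namespace Cfsg.Agent.S3053

/-- Let p be an odd prime and G a finite group with a Sylow p-subgroup P that is extraspecial of order p³ and exponent p². Then the centre of P is strongly closed in P with respect to G: a G-conjugate of an element of Z(P) that lies in P already lies in Z(P). In particular a nontrivial central element of P is conjugate in G to no noncentral element of P. -/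
theorem result {G : Type*} [Group G] [Finite G]
    {p : ℕ} [Fact p.Prime] (hp : p ≠ 2) (P : Sylow p G) (hE : Cfsg.IsExtraspecial p ↥P)
    (hcard : Nat.card P = p ^ 3) (hexp : Monoid.exponent ↥P = p ^ 2) :
    Cfsg.IsStronglyClosed ((Subgroup.center ↥P).map (P : Subgroup G).subtype) (P : Subgroup G) := by
  classical
  have hp' : p.Prime := Fact.out
  have hp3 : 2 < p := lt_of_le_of_ne hp'.two_le (Ne.symm hp)
  set Q := (P : Subgroup G) with hQ
  have hcm : ∀ a b : ↥Q, ⁅a, b⁆ ∈ Subgroup.center ↥Q := CfsgLib.PGroup.special_comm_mem_center hE.1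
  have hpmul : ∀ a b : ↥Q, (a * b) ^ p = a ^ p * b ^ p := by
    intro a b
    rw [CfsgLib.PGroup.mul_pow_of_comm_mem_center (hcm b a)]
    obtain ⟨t, ht⟩ := hp'.dvd_choose_self (k := 2) two_ne_zero hp3
    rw [ht, pow_mul, CfsgLib.PGroup.special_center_pow hE.1 (hcm b a), one_pow, mul_one]
  let φ : ↥Q →* ↥Q := MonoidHom.mk' (fun a => a ^ p) hpmul
  have hφker : ∀ a, a ∈ φ.ker ↔ a ^ p = 1 := fun a => Iff.rfl
  have hrange : Nat.card φ.range = p := by
    have hle : φ.range ≤ Subgroup.center ↥Q := by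
      rintro _ ⟨a, rfl⟩; exact CfsgLib.PGroup.special_pow_mem_center hE.1 a
    rcases (Nat.dvd_prime hp').1 (hE.2 ▸ Subgroup.card_dvd_of_le hle) with h | h
    · exfalso
      have hb := Subgroup.eq_bot_of_card_eq _ h
      have hall : ∀ a : ↥Q, a ^ p = 1 := fun a => by
        have h1 : φ a ∈ φ.range := ⟨a, rfl⟩
        rwa [hb, Subgroup.mem_bot] at h1
      have h1 : p ^ 2 ∣ p := hexp ▸ Monoid.exponent_dvd_of_forall_pow_eq_one hall
      have := Nat.le_of_dvd hp'.pos h1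
      nlinarith [hp'.two_le]
    · exact h
  have hEcard : Nat.card φ.ker = p ^ 2 := by
    have h := Subgroup.card_mul_index φ.ker
    rw [Subgroup.index_ker, hrange] at h
    refine Nat.eq_of_mul_eq_mul_right hp'.pos ?_
    rw [h]
    exact hcard.trans (pow_succ p 2)
  set E := φ.ker.map Q.subtype with hEdef
  have hEc' : IsMulCommutative ↥φ.ker := IsPGroup.isMulCommutative_of_card_eq_prime_sq hEcard
  have hEc : ∀ a ∈ E, ∀ b ∈ E, a * b = b * a := by
    rintro _ ⟨a, ha, rfl⟩ _ ⟨b, hb, rfl⟩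
    exact congrArg (fun u : ↥φ.ker => ((u : ↥Q) : G)) (hEc'.1.comm (⟨a, ha⟩ : ↥φ.ker) ⟨b, hb⟩)
  have hEQ : E ≤ Q := Subgroup.map_subtype_le _
  have hmemE : ∀ u ∈ Q, u ^ p = 1 → u ∈ E := fun u hu hup =>
    ⟨⟨u, hu⟩, Subtype.ext (show u ^ p = 1 from hup), rfl⟩
  have hEp : ∀ u ∈ E, u ^ p = 1 := by
    rintro _ ⟨a, ha, rfl⟩
    exact congrArg (fun v : ↥Q => (v : G)) ((hφker a).1 ha)
  set Z := (Subgroup.center ↥Q).map Q.subtype with hZ
  have hZE : Z ≤ E := Subgroup.map_mono fun a ha => (hφker a).2 (CfsgLib.PGroup.special_center_pow hE.1 ha)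
  have hconjE : ∀ a ∈ Q, ∀ e ∈ E, a * e * a⁻¹ ∈ E := fun a ha e he =>
    hmemE _ (Q.mul_mem (Q.mul_mem ha (hEQ he)) (Q.inv_mem ha)) (by rw [conj_pow, hEp e he]; group)
  have hcommZ : ∀ a ∈ Q, ∀ e ∈ Q, a * e * a⁻¹ * e⁻¹ ∈ Z := fun a ha e he =>
    ⟨⁅(⟨a, ha⟩ : ↥Q), ⟨e, he⟩⁆, hcm _ _, by simp [commutatorElement_def]⟩
  refine ⟨Subgroup.map_subtype_le _, fun z hz g hg => ?_⟩
  by_contra hyZ
  set y := g * z * g⁻¹ with hy
  have hz1 : z ≠ 1 := fun h => hyZ (by rw [hy, h]; simp)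
  have hyE : y ∈ E := hmemE y hg (by rw [hy, conj_pow, hEp z (hZE hz)]; group)
  obtain ⟨c, hc, R, hR, -, hgR, hcR⟩ := CfsgLib.LocalEven.exists_conj_common_pGroup (p := p)
    (X := Subgroup.centralizer ({y} : Set G)) (R₁ := Q.map (MulAut.conj g).toMonoidHom) (R₂ := E)
    (by
      rintro _ ⟨u, hu, rfl⟩
      refine Subgroup.mem_centralizer_singleton_iff.2 ?_
      obtain ⟨z', hz', rfl⟩ := hz
      have h1 : u * (z' : G) = (z' : G) * u := congrArg Subtype.val (Subgroup.mem_center_iff.1 hz' ⟨u, hu⟩)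
      show g * u * g⁻¹ * (g * (z' : G) * g⁻¹) = g * (z' : G) * g⁻¹ * (g * u * g⁻¹)
      calc g * u * g⁻¹ * (g * (z' : G) * g⁻¹) = g * (u * z') * g⁻¹ := by group
        _ = _ := by rw [h1]; group)
    (fun e he => Subgroup.mem_centralizer_singleton_iff.2 (hEc e he y hyE))
    (P.2.map _) (P.2.to_le hEQ)
  have hmax : R = Q.map (MulAut.conj g).toMonoidHom := by
    have := (g • P).is_maximal' hR (by rw [Sylow.coe_subgroup_smul]; exact hgR)
    rw [this, Sylow.coe_subgroup_smul]; rfl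
  rw [hmax] at hcR
  set h := g⁻¹ * c with hhdef
  have hhE : ∀ e ∈ E, h * e * h⁻¹ ∈ E := by
    intro e he
    obtain ⟨u, hu, huu⟩ := hcR ⟨e, he, rfl⟩
    have heq : h * e * h⁻¹ = u := by
      have : g * u * g⁻¹ = c * e * c⁻¹ := huu
      calc h * e * h⁻¹ = g⁻¹ * (c * e * c⁻¹) * g := by rw [hhdef]; group
        _ = u := by rw [← this]; group
    exact hmemE _ (heq ▸ hu) (by rw [conj_pow, hEp e he]; group)
  set n := h⁻¹ with hn
  have hnE : ∀ e ∈ E, n * e * n⁻¹ ∈ E := by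
    have hhN : h ∈ Subgroup.normalizer (E : Set G) :=
      CfsgLib.LocalEven.mem_normalizer_of_conj_le (by rintro _ ⟨u, hu, rfl⟩; exact hhE u hu)
    exact fun e he => CfsgLib.LocalEven.conj_mem_of_mem_normalizer (Subgroup.inv_mem _ hhN) he
  have hnz : n * z * n⁻¹ = y := by
    have hcy : c⁻¹ * y * c = y := by
      rw [mul_assoc, ← (Subgroup.mem_centralizer_singleton_iff.1 hc), inv_mul_cancel_left]
    calc n * z * n⁻¹ = c⁻¹ * y * c := by rw [hn, hhdef, hy]; group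
      _ = y := hcy
  have hzyE : z ∈ E := hZE hz
  -- the subgroup generated by `z` and `y`
  have hgen : ∀ e ∈ E, e ∈ Subgroup.closure ({z, y} : Set G) := by
    have hlt : Subgroup.zpowers z < Subgroup.closure ({z, y} : Set G) := by
      refine lt_of_le_of_ne (Subgroup.zpowers_le.2 (Subgroup.subset_closure (by simp))) fun h => hyZ ?_
      exact Subgroup.zpowers_le.2 hz (h ▸ Subgroup.subset_closure (by simp))
    have hle : Subgroup.closure ({z, y} : Set G) ≤ E := by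
      rw [Subgroup.closure_le]
      rintro u (rfl | rfl)
      · exact hzyE
      · exact hyE
    have hcardz : Nat.card (Subgroup.zpowers z) = p := by
      rw [Nat.card_zpowers]; exact orderOf_eq_prime (hEp z hzyE) hz1
    have hEcard' : Nat.card ↥E = p ^ 2 := by rw [hEdef, Subgroup.card_map_of_injective Q.subtype_injective, hEcard]
    obtain ⟨j, hj2, hj⟩ := (Nat.dvd_prime_pow hp').1 (hEcard' ▸ Subgroup.card_dvd_of_le hle)
    have h1 : Nat.card (Subgroup.zpowers z) < Nat.card ↥(Subgroup.closure ({z, y} : Set G)) := by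
      simpa only [SetLike.coe_sort_coe] using Set.Finite.card_lt_card (Set.toFinite _) hlt
    rw [hcardz, hj] at h1
    have hj' : j = 2 := by
      by_contra hne
      have : p ^ j ≤ p ^ 1 := Nat.pow_le_pow_right hp'.pos (by omega)
      rw [pow_one] at this
      omega
    rw [Subgroup.eq_of_le_of_card_ge hle (by rw [hj, hj', hEcard'])]
    exact fun e he => he
  have hagree : ∀ u v : G, u * z * u⁻¹ = v * z * v⁻¹ → u * y * u⁻¹ = v * y * v⁻¹ →
      ∀ e ∈ E, u * e * u⁻¹ = v * e * v⁻¹ := by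
    intro u v h1 h2 e he
    have := MonoidHom.eqOn_closure (f := (MulAut.conj u).toMonoidHom) (g := (MulAut.conj v).toMonoidHom)
      (s := ({z, y} : Set G)) (by
        rintro t (rfl | rfl)
        · exact h1
        · exact h2) (hgen e he)
    exact this
  have hzc : ∀ a ∈ Q, a * z * a⁻¹ = z := by
    intro a ha
    obtain ⟨z', hz', rfl⟩ := hz
    exact mul_inv_eq_iff_eq_mul.2 (congrArg Subtype.val (Subgroup.mem_center_iff.1 hz' ⟨a, ha⟩))
  -- the centraliser of `E` in `Q` is `E`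
  have hCE : ∀ a ∈ Q, (∀ e ∈ E, a * e * a⁻¹ = e) → a ∈ E := by
    intro a ha hac
    by_contra haE
    set W := φ.ker ⊔ Subgroup.zpowers (⟨a, ha⟩ : ↥Q) with hW
    have hWtop : W = ⊤ := by
      refine Subgroup.eq_top_of_card_eq _ ?_
      have hlt : φ.ker < W := lt_of_le_of_ne le_sup_left fun e => haE
        ⟨⟨a, ha⟩, e ▸ Subgroup.mem_sup_right (Subgroup.mem_zpowers _), rfl⟩
      obtain ⟨j, hj2, hj⟩ := (Nat.dvd_prime_pow hp').1 ((hcard ▸ Subgroup.card_subgroup_dvd_card W :))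
      have h1 : Nat.card φ.ker < Nat.card ↥W := by
        simpa only [SetLike.coe_sort_coe] using Set.Finite.card_lt_card (Set.toFinite _) hlt
      rw [hEcard, hj] at h1
      have hj' : j = 3 := by
        by_contra hne
        have : p ^ j ≤ p ^ 2 := Nat.pow_le_pow_right hp'.pos (by omega)
        omega
      rw [hj, hj']; exact hcard.symm
    refine CfsgLib.PGroup.extraspecial_not_comm hE ?_
    have hcc : IsMulCommutative ↥(Subgroup.closure ((φ.ker : Set ↥Q) ∪ {⟨a, ha⟩})) := by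
      refine Subgroup.isMulCommutative_closure ?_
      rintro u (hu | rfl) v (hv | rfl)
      · exact congrArg Subtype.val (hEc'.1.comm (⟨u, hu⟩ : ↥φ.ker) ⟨v, hv⟩)
      · exact Subtype.ext (mul_inv_eq_iff_eq_mul.1 (hac _ ⟨u, hu, rfl⟩)).symm
      · exact Subtype.ext (mul_inv_eq_iff_eq_mul.1 (hac _ ⟨v, hv, rfl⟩))
      · rfl
    rw [Subgroup.closure_union, Subgroup.closure_eq, ← Subgroup.zpowers_eq_closure, ← hW, hWtop] at hcc
    exact ⟨⟨fun u v => congrArg Subtype.val (hcc.1.comm (⟨u, Subgroup.mem_top _⟩ : ↥(⊤ : Subgroup ↥Q)) ⟨v, Subgroup.mem_top _⟩)⟩⟩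
  -- a transvection in `Q`
  have hEne : ¬ Q ≤ E := by
    intro hle
    have h1 := Subgroup.card_le_of_le hle
    rw [hEdef, Subgroup.card_map_of_injective Q.subtype_injective, hEcard] at h1
    have h2 : p ^ 3 ≤ p ^ 2 := hcard ▸ h1
    exact absurd h2 (not_le.2 (Nat.pow_lt_pow_right hp'.one_lt (by norm_num)))
  obtain ⟨a, haQ, haE⟩ := SetLike.not_le_iff_exists.1 hEne
  have hyQ : y ∈ Q := hg
  have hZgen : ∀ u ∈ Z, ∃ i : ℤ, u = z ^ i := by
    intro u hu
    have hle : Subgroup.zpowers z ≤ Z := Subgroup.zpowers_le.2 hz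
    have : Subgroup.zpowers z = Z := Subgroup.eq_of_le_of_card_ge hle (by
      rw [hZ, Subgroup.card_map_of_injective Q.subtype_injective, Nat.card_zpowers,
        orderOf_eq_prime (hEp z hzyE) hz1]
      exact le_of_eq hE.2)
    obtain ⟨i, hi⟩ := Subgroup.mem_zpowers_iff.1 (this.ge hu)
    exact ⟨i, hi.symm⟩
  have hzp : ∀ k : ℤ, (p : ℤ) ∣ k → z ^ k = 1 := fun k hk => orderOf_dvd_iff_zpow_eq_one.1 (by
    rw [orderOf_eq_prime (hEp z hzyE) hz1]; exact hk)
  obtain ⟨i, hi⟩ := hZgen _ (hcommZ a haQ y hyQ)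
  have hai : ∀ k : ℤ, a ^ k * y * (a ^ k)⁻¹ = z ^ (k * i) * y := by
    have h1 : a * y * a⁻¹ = z ^ i * y := by rw [← hi]; group
    intro k
    induction k using Int.induction_on with
    | zero => simp
    | succ k ih =>
      calc a ^ ((k : ℤ) + 1) * y * (a ^ ((k : ℤ) + 1))⁻¹
          = a * (a ^ (k : ℤ) * y * (a ^ (k : ℤ))⁻¹) * a⁻¹ := by group
        _ = (a * z ^ ((k : ℤ) * i) * a⁻¹) * (a * y * a⁻¹) := by rw [ih]; group
        _ = z ^ ((k : ℤ) * i) * (z ^ i * y) := by rw [← conj_zpow, hzc a haQ, h1]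
        _ = _ := by rw [add_mul, one_mul, zpow_add]; group
    | pred k ih =>
      have h2 : a⁻¹ * y * a = z ^ (-i) * y := by
        have h3 : a⁻¹ * z * a = z := by simpa using hzc a⁻¹ (Q.inv_mem haQ)
        calc a⁻¹ * y * a = a⁻¹ * (z ^ (-i) * (z ^ i * y)) * a := by group
          _ = (a⁻¹ * z ^ (-i) * a) * (a⁻¹ * (a * y * a⁻¹) * a) := by rw [h1]; group
          _ = z ^ (-i) * y := by
              rw [show a⁻¹ * z ^ (-i) * a = (a⁻¹ * z * (a⁻¹)⁻¹) ^ (-i) by rw [conj_zpow, inv_inv], inv_inv, h3]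
              group
      calc a ^ (-(k : ℤ) - 1) * y * (a ^ (-(k : ℤ) - 1))⁻¹
          = a⁻¹ * (a ^ (-(k : ℤ)) * y * (a ^ (-(k : ℤ)))⁻¹) * a := by group
        _ = (a⁻¹ * z ^ (-(k : ℤ) * i) * (a⁻¹)⁻¹) * (a⁻¹ * y * a) := by rw [ih]; group
        _ = z ^ (-(k : ℤ) * i) * (z ^ (-i) * y) := by rw [← conj_zpow, hzc a⁻¹ (Q.inv_mem haQ), h2]
        _ = _ := by rw [sub_mul, one_mul, zpow_sub]; group
  have hip : ¬ (p : ℤ) ∣ i := by
    intro hd
    refine haE (hCE a haQ fun e he => ?_)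
    have := hagree a 1 (by rw [hzc a haQ]; group) (by
      have := hai 1
      rw [zpow_one, one_mul, hzp i hd, one_mul] at this
      rw [this]; group) e he
    simpa using this
  obtain ⟨k, l, hkl⟩ := (Nat.prime_iff_prime_int.1 hp').coprime_iff_not_dvd.2 hip
  set a₀ := a ^ l with ha₀
  have ha₀Q : a₀ ∈ Q := Q.zpow_mem haQ l
  have a₀z : a₀ * z * a₀⁻¹ = z := hzc a₀ ha₀Q
  have a₀y : a₀ * y * a₀⁻¹ = z * y := by
    rw [ha₀, hai l, show l * i = 1 + (-k) * p by linarith, zpow_add, zpow_one,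
      hzp (-k * p) (Dvd.intro_left _ rfl), mul_one]
  -- the conjugate transvection
  set b := n * a * n⁻¹ with hb
  have by_ : b * y * b⁻¹ = y := by
    calc b * y * b⁻¹ = n * (a * z * a⁻¹) * n⁻¹ := by rw [hb, ← hnz]; group
      _ = y := by rw [hzc a haQ, hnz]
  obtain ⟨j, hj⟩ : ∃ j : ℤ, b * z * b⁻¹ = y ^ j * z := by
    have hu : n⁻¹ * z * n ∈ E := by
      have hhN : h ∈ Subgroup.normalizer (E : Set G) :=
        CfsgLib.LocalEven.mem_normalizer_of_conj_le (by rintro _ ⟨u, hu, rfl⟩; exact hhE u hu)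
      simpa [hn] using CfsgLib.LocalEven.conj_mem_of_mem_normalizer hhN hzyE
    obtain ⟨j, hj⟩ := hZgen _ (hcommZ a haQ _ (hEQ hu))
    refine ⟨j, ?_⟩
    calc b * z * b⁻¹ = n * (a * (n⁻¹ * z * n) * a⁻¹ * (n⁻¹ * z * n)⁻¹) * n⁻¹ * z := by rw [hb]; group
      _ = (n * z * n⁻¹) ^ j * z := by rw [hj, conj_zpow]
      _ = y ^ j * z := by rw [hnz]
  have hyp : ∀ k : ℤ, (p : ℤ) ∣ k → y ^ k = 1 := fun k hk => by
    have : y ≠ 1 := fun e => hyZ (e.symm ▸ Z.one_mem)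
    exact orderOf_dvd_iff_zpow_eq_one.1 (by rw [orderOf_eq_prime (hEp y hyE) this]; exact hk)
  have hjp : ¬ (p : ℤ) ∣ j := by
    intro hd
    refine haE (hCE a haQ fun e he => ?_)
    have h1 := hagree b 1 (by rw [hj, hyp j hd]; group) (by rw [by_]; group) (n * e * n⁻¹) (hnE e he)
    have h2 : n * (a * e * a⁻¹) * n⁻¹ = n * e * n⁻¹ := by
      calc n * (a * e * a⁻¹) * n⁻¹ = b * (n * e * n⁻¹) * b⁻¹ := by rw [hb]; group
        _ = n * e * n⁻¹ := by rw [h1]; group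
    exact mul_left_cancel (mul_right_cancel h2)
  obtain ⟨k', l', hkl'⟩ := (Nat.prime_iff_prime_int.1 hp').coprime_iff_not_dvd.2 hjp
  have hbpow : ∀ m : ℕ, b ^ m * z * (b ^ m)⁻¹ = y ^ ((m : ℤ) * j) * z := by
    intro m
    induction m with
    | zero => simp
    | succ m ih =>
      calc b ^ (m + 1) * z * (b ^ (m + 1))⁻¹ = b * (b ^ m * z * (b ^ m)⁻¹) * b⁻¹ := by group
        _ = (b * y ^ ((m : ℤ) * j) * b⁻¹) * (b * z * b⁻¹) := by rw [ih]; group
        _ = y ^ ((m : ℤ) * j) * (y ^ j * z) := by rw [← conj_zpow, by_, hj]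
        _ = _ := by push_cast; rw [add_mul, one_mul, zpow_add]; group
  -- `b₀` sends `z` to `z y⁻¹` and fixes `y`
  set m := ((-l') % (p : ℤ)).toNat with hm
  have hmj : (p : ℤ) ∣ (m : ℤ) * j + 1 := by
    have h1 : (m : ℤ) = (-l') % (p : ℤ) := Int.toNat_of_nonneg (Int.emod_nonneg _ (by exact_mod_cast hp'.ne_zero))
    rw [h1, Int.emod_def]
    exact ⟨k' - (-l' / (p : ℤ)) * j, by linarith⟩
  set b₀ := b ^ m with hb₀
  have b₀z : b₀ * z * b₀⁻¹ = y⁻¹ * z := by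
    rw [hb₀, hbpow]
    congr 1
    calc y ^ ((m : ℤ) * j) = y ^ ((m : ℤ) * j + 1) * y⁻¹ := by rw [zpow_add_one, mul_inv_cancel_right]
      _ = y⁻¹ := by rw [hyp _ hmj, one_mul]
  have b₀y : b₀ * y * b₀⁻¹ = y := by
    refine mul_inv_eq_iff_eq_mul.2 ?_
    exact ((show Commute b y from mul_inv_eq_iff_eq_mul.1 by_).pow_left m).eq
  have hzy : Commute z y := hEc z hzyE y hyE
  set s := a₀ * b₀ * a₀ with hs
  have sz : s * z * s⁻¹ = y⁻¹ := by
    calc s * z * s⁻¹ = a₀ * (b₀ * (a₀ * z * a₀⁻¹) * b₀⁻¹) * a₀⁻¹ := by rw [hs]; group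
      _ = a₀ * (y⁻¹ * z) * a₀⁻¹ := by rw [a₀z, b₀z]
      _ = (a₀ * y * a₀⁻¹)⁻¹ * (a₀ * z * a₀⁻¹) := by group
      _ = y⁻¹ := by rw [a₀y, a₀z]; group
  have sy : s * y * s⁻¹ = z := by
    calc s * y * s⁻¹ = a₀ * (b₀ * (a₀ * y * a₀⁻¹) * b₀⁻¹) * a₀⁻¹ := by rw [hs]; group
      _ = a₀ * ((b₀ * z * b₀⁻¹) * (b₀ * y * b₀⁻¹)) * a₀⁻¹ := by rw [a₀y]; group
      _ = a₀ * (y⁻¹ * z * y) * a₀⁻¹ := by rw [b₀z, b₀y]
      _ = z := by rw [mul_assoc y⁻¹, hzy.eq, inv_mul_cancel_left, a₀z]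
  set w := s * s with hw
  have wz : w * z * w⁻¹ = z⁻¹ := by
    calc w * z * w⁻¹ = s * (s * z * s⁻¹) * s⁻¹ := by rw [hw]; group
      _ = (s * y * s⁻¹)⁻¹ := by rw [sz]; group
      _ = z⁻¹ := by rw [sy]
  have wy : w * y * w⁻¹ = y⁻¹ := by
    calc w * y * w⁻¹ = s * (s * y * s⁻¹) * s⁻¹ := by rw [hw]; group
      _ = y⁻¹ := by rw [sy, sz]
  have hwE : ∀ e ∈ E, w * e * w⁻¹ = e⁻¹ := by
    intro e he
    have h1 := hgen e he
    induction h1 using Subgroup.closure_induction with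
    | mem t ht =>
      rcases ht with rfl | rfl
      · exact wz
      · exact wy
    | one => simp
    | mul u v hu hv ihu ihv =>
      have hcl : Subgroup.closure ({z, y} : Set G) ≤ E := by
        rw [Subgroup.closure_le]
        rintro u (rfl | rfl)
        · exact hzyE
        · exact hyE
      rw [show w * (u * v) * w⁻¹ = (w * u * w⁻¹) * (w * v * w⁻¹) by group, ihu (hcl hu), ihv (hcl hv),
        mul_inv_rev, ← hEc _ (E.inv_mem (hcl hu)) _ (E.inv_mem (hcl hv))]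
    | inv u hu ihu =>
      rw [show w * u⁻¹ * w⁻¹ = (w * u * w⁻¹)⁻¹ by group, ihu (by simpa using E.inv_mem he)]
  -- move `Q` back
  set C := Subgroup.centralizer (E : Set G) with hC
  have hQN : Q ≤ Subgroup.normalizer (C : Set G) := by
    intro u hu
    refine CfsgLib.LocalEven.mem_normalizer_of_conj_le ?_
    rintro _ ⟨d, hd, rfl⟩
    refine Subgroup.mem_centralizer_iff.2 fun e he => ?_
    have h1 := Subgroup.mem_centralizer_iff.1 hd (u⁻¹ * e * u) (by simpa using hconjE u⁻¹ (Q.inv_mem hu) e he)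
    show e * (u * d * u⁻¹) = u * d * u⁻¹ * e
    calc e * (u * d * u⁻¹) = u * (u⁻¹ * e * u * d) * u⁻¹ := by group
      _ = u * d * u⁻¹ * e := by rw [h1]; group
  set X := Q ⊔ C with hX
  have hwQ : Q.map (MulAut.conj w).toMonoidHom ≤ X := by
    rintro _ ⟨u, hu, rfl⟩
    have h1 : w * u * w⁻¹ * u⁻¹ ∈ C := by
      refine Subgroup.mem_centralizer_iff.2 fun e he => ?_
      have he' := hconjE u⁻¹ (Q.inv_mem hu) e he
      rw [inv_inv] at he'
      have hw' : w⁻¹ * (u⁻¹ * e * u) * w = (u⁻¹ * e * u)⁻¹ := by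
        have := hwE _ (E.inv_mem he')
        rw [inv_inv] at this
        calc w⁻¹ * (u⁻¹ * e * u) * w = w⁻¹ * (w * (u⁻¹ * e * u)⁻¹ * w⁻¹) * w := by rw [this]
          _ = _ := by group
      refine (mul_inv_eq_iff_eq_mul.1 ?_).symm
      calc w * u * w⁻¹ * u⁻¹ * e * (w * u * w⁻¹ * u⁻¹)⁻¹
          = w * (u * (w⁻¹ * (u⁻¹ * e * u) * w) * u⁻¹) * w⁻¹ := by group
        _ = w * e⁻¹ * w⁻¹ := by rw [hw']; group
        _ = e := by rw [hwE _ (E.inv_mem he), inv_inv]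
    have := X.mul_mem (Subgroup.mem_sup_right h1) (Subgroup.mem_sup_left hu)
    simpa [mul_assoc] using this
  obtain ⟨c', hc', R', hR', -, hQR', hcR'⟩ := CfsgLib.LocalEven.exists_conj_common_pGroup (p := p)
    (le_sup_left : Q ≤ X) hwQ P.2 (P.2.map _)
  have hR'Q : R' = Q := P.is_maximal' hR' hQR'
  rw [hR'Q] at hcR'
  rw [sup_comm, ← SetLike.mem_coe, Subgroup.coe_mul_of_right_le_normalizer_left _ _ hQN] at hc'
  obtain ⟨d, hd, u, hu, rfl⟩ := Set.mem_mul.1 hc'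
  -- w' := (u⁻¹ d u) w normalizes Q and inverts E
  set d' := u⁻¹ * d * u with hd'
  have hd'C : d' ∈ C := by
    simpa [hd'] using CfsgLib.LocalEven.conj_mem_of_mem_normalizer (hQN (Q.inv_mem hu)) hd
  have hw'Q : ∀ q ∈ Q, d' * w * q * (d' * w)⁻¹ ∈ Q := by
    intro q hq
    have h1 := hcR' ⟨_, ⟨q, hq, rfl⟩, rfl⟩
    have h2 := Q.mul_mem (Q.mul_mem (Q.inv_mem hu) h1) hu
    simpa [hd', mul_assoc] using h2
  have hw'E : ∀ e ∈ E, d' * w * e * (d' * w)⁻¹ = e⁻¹ := by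
    intro e he
    calc d' * w * e * (d' * w)⁻¹ = d' * (w * e * w⁻¹) * d'⁻¹ := by group
      _ = e⁻¹ := by
        rw [hwE e he]
        exact mul_inv_eq_iff_eq_mul.2 (Subgroup.mem_centralizer_iff.1 hd'C _ (E.inv_mem he)).symm
  set r := d' * w with hr
  have hra : r * a * r⁻¹ * a⁻¹ ∈ E := by
    refine hCE _ (Q.mul_mem (hw'Q a haQ) (Q.inv_mem haQ)) fun e he => ?_
    have he' := hconjE a⁻¹ (Q.inv_mem haQ) e he
    rw [inv_inv] at he'
    have hr' : r⁻¹ * (a⁻¹ * e * a) * r = (a⁻¹ * e * a)⁻¹ := by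
      have := hw'E _ (E.inv_mem he')
      rw [inv_inv] at this
      calc r⁻¹ * (a⁻¹ * e * a) * r = r⁻¹ * (r * (a⁻¹ * e * a)⁻¹ * r⁻¹) * r := by rw [this]
        _ = _ := by group
    calc r * a * r⁻¹ * a⁻¹ * e * (r * a * r⁻¹ * a⁻¹)⁻¹
        = r * (a * (r⁻¹ * (a⁻¹ * e * a) * r) * a⁻¹) * r⁻¹ := by group
      _ = r * e⁻¹ * r⁻¹ := by rw [hr']; group
      _ = e := by rw [hw'E _ (E.inv_mem he), inv_inv]
  have hap : a ^ p ∈ E := hmemE _ (Q.pow_mem haQ p) (by
    have := congrArg (fun v : ↥Q => (v : G)) (CfsgLib.PGroup.special_pow_sq hE.1 (⟨a, haQ⟩ : ↥Q))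
    rw [← pow_mul, ← sq]
    simpa using this)
  have h1 : (r * a * r⁻¹) ^ p = a ^ p := by
    have h2 := congrArg (fun v : ↥Q => (v : G))
      (hpmul ⟨r * a * r⁻¹ * a⁻¹, hEQ hra⟩ ⟨a, haQ⟩)
    simp only [Subgroup.coe_mul, SubmonoidClass.coe_pow] at h2
    rw [inv_mul_cancel_right, hEp _ hra, one_mul] at h2
    exact h2
  rw [conj_pow, hw'E _ hap] at h1
  have h2 : (a ^ p) ^ 2 = 1 := by
    rw [sq]
    nth_rw 1 [← h1]
    rw [inv_mul_cancel]
  have h3 : a ^ p ≠ 1 := fun e => haE (hmemE a haQ e)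
  have h4 : orderOf (a ^ p) = p := orderOf_eq_prime (hEp _ hap) h3
  have h5 : p ∣ 2 := h4 ▸ orderOf_dvd_of_pow_eq_one h2
  have := Nat.le_of_dvd two_pos h5
  omega

end Cfsg.Agent.S3053
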