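import Cfsg.Statements.S3054
import Cfsg.Agent.Lib.LocalEven.ExtraspecialLines

set_option autoImplicit false
open Cfsg

namespace Cfsg.Agent.S3054

/-- Let p be an odd prime and G a finite group with a Sylow p-subgroup P that is extraspecial of order p³ and exponent p. Suppose P contains three distinct subgroups A of order p² (each is elementary abelian of rank 2) such that every automorphism of A of order p is induced by conjugation by an element of G; equivalently the automorphism group induced on A by its normalizer contains the special linear group of A. Then p ≤ 13. -/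
theorem result {G : Type*} [Group G] [Finite G]
    {p : ℕ} [Fact p.Prime] (hp : p ≠ 2) (P : Sylow p G) (hE : Cfsg.IsExtraspecial p ↥P)
    (hcard : Nat.card P = p ^ 3) (hexp : Monoid.exponent ↥P = p)
    (A : Fin 3 → Subgroup G) (hA : Function.Injective A) (hAP : ∀ i, A i ≤ (P : Subgroup G))
    (hAcard : ∀ i, Nat.card ↥(A i) = p ^ 2)
    (hSL : ∀ i, ∀ φ : MulAut ↥(A i), orderOf φ = p → ∃ g : G, ∀ a : ↥(A i), (φ a : G) = g * (a : G) * g⁻¹) :
    p ≤ 13 := by
  classical
  have hpp := (Fact.out : p.Prime)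
  obtain ⟨⟨z, hzc⟩, hz⟩ : ∃ z : Subgroup.center ↥P, z ≠ 1 := by
    by_contra! h
    have : Nat.card (Subgroup.center ↥P) = 1 := Nat.card_eq_one_iff_unique.2
      ⟨⟨fun a b => by rw [h a, h b]⟩, ⟨1⟩⟩
    rw [hE.2] at this
    exact hpp.ne_one this
  have hz1 : z ≠ 1 := fun h => hz (Subtype.ext h)
  have hpw : ∀ a : ↥P, a ^ p = 1 := fun a => by
    conv_lhs => arg 2; rw [← hexp]
    exact Monoid.pow_exponent_eq_one a
  have hZ := CfsgLib.LocalEven.ExtLines.center_eq_zpowers hE hzc hz1
  let B : Fin 3 → Subgroup ↥P := fun i => (A i).subgroupOf (P : Subgroup G)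
  have hBc : ∀ i, Nat.card ↥(B i) = p ^ 2 := fun i =>
    (Nat.card_congr (Subgroup.subgroupOfEquivOfLe (hAP i)).toEquiv).trans (hAcard i)
  have hBab : ∀ i, ∀ a ∈ B i, ∀ b ∈ B i, Commute a b := fun i a ha b hb =>
    congrArg Subtype.val (IsPGroup.commutative_of_card_eq_prime_sq (hBc i) ⟨a, ha⟩ ⟨b, hb⟩)
  have hbig : ∀ i, ∀ a, (∀ b ∈ B i, Commute a b) → a ∈ B i := by
    intro i a ha
    by_contra hn
    set K := B i ⊔ Subgroup.zpowers a
    have hlt : B i < K := lt_of_le_of_ne le_sup_left fun e =>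
      hn (e ▸ Subgroup.mem_sup_right (Subgroup.mem_zpowers a))
    have hd : Nat.card ↥K ∣ p ^ 3 := by rw [← hcard]; exact Subgroup.card_subgroup_dvd_card K
    obtain ⟨k, hk, hK⟩ := (Nat.dvd_prime_pow hpp).1 hd
    have hgt : Nat.card ↥(B i) < Nat.card ↥K := by
      by_contra hle
      exact hlt.ne (Subgroup.eq_of_le_of_card_ge hlt.le (not_lt.1 hle))
    rw [hBc, hK, Nat.pow_lt_pow_iff_right hpp.one_lt] at hgt
    have hk3 : k = 3 := by omega
    subst hk3
    have htop : K = ⊤ := Subgroup.eq_top_of_card_eq _ (hK.trans hcard.symm)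
    have hle : B i ≤ Subgroup.center ↥P := fun b hb => by
      have h1 : K ≤ Subgroup.centralizer ({b} : Set ↥P) := sup_le
        (fun c hc => Subgroup.mem_centralizer_singleton_iff.2 (hBab i c hc b hb).eq)
        (Subgroup.zpowers_le.2 (Subgroup.mem_centralizer_singleton_iff.2 (ha b hb).eq))
      rw [htop] at h1
      exact Subgroup.mem_center_iff.2 fun c => Subgroup.mem_centralizer_singleton_iff.1 (h1 (Subgroup.mem_top c))
    have := Subgroup.card_le_of_le hle
    rw [hBc, hE.2] at this
    nlinarith [hpp.two_le]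
  have hzB : ∀ i, z ∈ B i := fun i => hbig i z fun b _ => (Subgroup.mem_center_iff.1 hzc b).symm
  have hex : ∀ i, ∃ x ∈ B i, x ∉ Subgroup.center ↥P := by
    intro i
    by_contra! h
    have := Subgroup.card_le_of_le (h : B i ≤ Subgroup.center ↥P)
    rw [hBc, hE.2] at this
    nlinarith [hpp.two_le]
  choose x hxB hxc using hex
  have hgen : ∀ i, ∀ a ∈ B i, a ∈ Subgroup.zpowers z ⊔ Subgroup.zpowers (x i) := by
    intro i a ha
    set K := Subgroup.zpowers z ⊔ Subgroup.zpowers (x i)
    have hKB : K ≤ B i := sup_le (Subgroup.zpowers_le.2 (hzB i)) (Subgroup.zpowers_le.2 (hxB i))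
    suffices K = B i by rwa [this]
    refine Subgroup.eq_of_le_of_card_ge hKB ?_
    have hd : Nat.card ↥K ∣ p ^ 2 := by rw [← hBc i]; exact Subgroup.card_dvd_of_le hKB
    obtain ⟨k, hk, hK⟩ := (Nat.dvd_prime_pow hpp).1 hd
    have hlt : Subgroup.center ↥P < K := lt_of_le_of_ne (hZ ▸ le_sup_left) fun e =>
      hxc i (e ▸ Subgroup.mem_sup_right (Subgroup.mem_zpowers _))
    have hgt : Nat.card ↥(Subgroup.center ↥P) < Nat.card ↥K := by
      by_contra hle
      exact hlt.ne (Subgroup.eq_of_le_of_card_ge hlt.le (not_lt.1 hle))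
    rw [hE.2, hK] at hgt
    rw [hBc, hK]
    refine Nat.pow_le_pow_right hpp.pos ?_
    by_contra hk2
    interval_cases k <;> simp at hgt
    all_goals have := hpp.two_le; omega
  have hind : ∀ i j, i ≠ j → ¬ Commute (x i) (x j) := by
    intro i j hij h
    refine hij (hA ?_)
    have hji : x j ∈ B i := hbig i _ fun b hb => by
      have := hgen i b hb
      have h1 : Subgroup.zpowers z ⊔ Subgroup.zpowers (x i) ≤ Subgroup.centralizer ({x j} : Set ↥P) := sup_le
        (Subgroup.zpowers_le.2 (Subgroup.mem_centralizer_singleton_iff.2 (Subgroup.mem_center_iff.1 hzc (x j)).symm))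
        (Subgroup.zpowers_le.2 (Subgroup.mem_centralizer_singleton_iff.2 h.eq))
      exact (Subgroup.mem_centralizer_singleton_iff.1 (h1 this)).symm
    have hle : B j ≤ B i := fun a ha => (sup_le (Subgroup.zpowers_le.2 (hzB i)) (Subgroup.zpowers_le.2 hji) :
      Subgroup.zpowers z ⊔ Subgroup.zpowers (x j) ≤ B i) (hgen j a ha)
    have hBeq : B j = B i := Subgroup.eq_of_le_of_card_ge hle (by rw [hBc, hBc])
    have := congrArg (Subgroup.map (P : Subgroup G).subtype) hBeq
    rwa [Subgroup.map_subgroupOf_eq_of_le (hAP j), Subgroup.map_subgroupOf_eq_of_le (hAP i), eq_comm] at this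
  have hv : ∀ i, ∃ s : ZMod p, s ≠ 0 ∧
      CfsgLib.LocalEven.ExtLines.Realizes (z : G) (x i : G) 1 0 s 1 := by
    intro i
    have hcom : Commute (z : G) (x i : G) := congrArg Subtype.val (Subgroup.mem_center_iff.1 hzc (x i)).symm
    have hzG : (z : G) ^ p = 1 := by rw [← SubgroupClass.coe_pow, hpw, OneMemClass.coe_one]
    have hxG : (x i : G) ^ p = 1 := by rw [← SubgroupClass.coe_pow, hpw, OneMemClass.coe_one]
    have hmem : ∀ m n : ℕ, (z : G) ^ m * (x i : G) ^ n ∈ A i := fun m n =>
      mul_mem (pow_mem (hzB i) _) (pow_mem (hxB i) _)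
    let f : Multiplicative (ZMod p × ZMod p) →* ↥(A i) :=
      { toFun := fun v => ⟨(z : G) ^ v.toAdd.1.val * (x i : G) ^ v.toAdd.2.val, hmem _ _⟩
        map_one' := Subtype.ext (by simp)
        map_mul' := fun v w => Subtype.ext (by
          show _ = (z : G) ^ v.toAdd.1.val * (x i : G) ^ v.toAdd.2.val *
            ((z : G) ^ w.toAdd.1.val * (x i : G) ^ w.toAdd.2.val)
          rw [(hcom.symm.pow_pow _ _).mul_mul_mul_comm, ← pow_add, ← pow_add]
          exact congrArg₂ _ (CfsgLib.LocalEven.ExtLines.pow_congr hzG (by simp))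
            (CfsgLib.LocalEven.ExtLines.pow_congr hxG (by simp))) }
    have hone : (1 : ZMod p).val = 1 := ZMod.val_one p
    have hfz : ((f (Multiplicative.ofAdd (1, 0))) : G) = (z : G) := by simp [f, hone]
    have hfx : ((f (Multiplicative.ofAdd (0, 1))) : G) = (x i : G) := by simp [f, hone]
    have hfsurj : Function.Surjective f := by
      intro a
      have hsub : Subgroup.zpowers z ⊔ Subgroup.zpowers (x i) ≤
          ((f.range).map (A i).subtype).subgroupOf (P : Subgroup G) := sup_le
        (Subgroup.zpowers_le.2 ⟨_, ⟨_, rfl⟩, hfz⟩) (Subgroup.zpowers_le.2 ⟨_, ⟨_, rfl⟩, hfx⟩)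
      obtain ⟨b, ⟨v, hv⟩, hb⟩ := hsub (hgen i ⟨(a : G), hAP i a.2⟩ a.2)
      exact ⟨v, hv.trans (Subtype.ext hb)⟩
    have hfbij : Function.Bijective f := hfsurj.bijective_of_nat_card_le (by
      rw [hAcard i, Nat.card_congr Multiplicative.toAdd, Nat.card_prod, Nat.card_zmod, pow_two])
    let e : Multiplicative (ZMod p × ZMod p) ≃* ↥(A i) := MulEquiv.ofBijective f hfbij
    let τ : Multiplicative (ZMod p × ZMod p) ≃* Multiplicative (ZMod p × ZMod p) :=
      AddEquiv.toMultiplicative
        { toFun := fun v => (v.1, v.2 + v.1)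
          invFun := fun v => (v.1, v.2 - v.1)
          left_inv := fun v => by simp
          right_inv := fun v => by simp
          map_add' := fun v w => by ext <;> simp; abel }
    let φ : MulAut ↥(A i) := (e.symm.trans τ).trans e
    have hφn : ∀ (n : ℕ) (v : Multiplicative (ZMod p × ZMod p)),
        (φ ^ n) (e v) = e (Multiplicative.ofAdd (v.toAdd.1, v.toAdd.2 + n * v.toAdd.1)) := by
      intro n
      induction n with
      | zero => intro v; simp
      | succ n ih =>
        intro v
        rw [pow_succ', MulAut.mul_apply, ih]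
        show e (τ (e.symm (e _))) = _
        rw [MulEquiv.symm_apply_apply]
        congr 1
        apply Multiplicative.toAdd.injective
        show ((v.toAdd.1 : ZMod p), v.toAdd.2 + n * v.toAdd.1 + v.toAdd.1) = _
        rw [toAdd_ofAdd]
        ext <;> simp; ring
    have hφ : orderOf φ = p := by
      refine orderOf_eq_prime ?_ ?_
      · refine MulEquiv.ext fun a => ?_
        obtain ⟨v, rfl⟩ := e.surjective a
        rw [hφn]
        simp
      · intro h
        have h1 := hφn 1 (Multiplicative.ofAdd (1, 0))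
        rw [pow_one, h, MulAut.one_apply, EmbeddingLike.apply_eq_iff_eq] at h1
        simpa using congrArg (fun w => (Multiplicative.toAdd w).2) h1
    obtain ⟨g, hg⟩ := hSL i φ hφ
    refine ⟨1, one_ne_zero, g, ?_, ?_⟩
    · have h1 := hg (e (Multiplicative.ofAdd (1, 0)))
      rw [← pow_one φ, hφn] at h1
      change ((f _ : ↥(A i)) : G) = g * ((f _ : ↥(A i)) : G) * g⁻¹ at h1
      rw [hfz] at h1
      rw [← h1]
      simp [f, hone]
    · have h1 := hg (e (Multiplicative.ofAdd (0, 1)))
      rw [← pow_one φ, hφn] at h1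
      change ((f _ : ↥(A i)) : G) = g * ((f _ : ↥(A i)) : G) * g⁻¹ at h1
      rw [hfx] at h1
      rw [← h1]
      simp [f, hone]
  obtain ⟨h1, -⟩ := CfsgLib.LocalEven.ExtLines.card_lines_extraspecial P hE hcard hexp z hzc hz1 x hxc hind hv
  by_contra hlt
  have : p ≠ 14 ∧ p ≠ 15 ∧ p ≠ 16 := by
    refine ⟨?_, ?_, ?_⟩ <;> (rintro rfl; norm_num at hpp)
  have := h1 (Or.inr (by omega))
  rw [Nat.card_fin] at this
  omega

end Cfsg.Agent.S3054
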