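import Cfsg.Statements.S3055
import Cfsg.Agent.Lib.LocalEven.ExtraspecialLines

set_option autoImplicit false
open Cfsg

namespace Cfsg.Agent.S3055

/-- Let p be an odd prime and G a finite group with a Sylow p-subgroup P that is extraspecial of order p³ and exponent p. If all nonidentity elements of P are conjugate in G, then p ≤ 7. -/
theorem result {G : Type*} [Group G] [Finite G]
    {p : ℕ} [Fact p.Prime] (hp : p ≠ 2) (P : Sylow p G) (hE : Cfsg.IsExtraspecial p ↥P)
    (hcard : Nat.card P = p ^ 3) (hexp : Monoid.exponent ↥P = p)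
    (hconj : ∀ x y : ↥P, x ≠ 1 → y ≠ 1 → ∃ g : G, g * (x : G) * g⁻¹ = (y : G)) :
    p ≤ 7 := by
  classical
  open CfsgLib.LocalEven.ExtLines in
  obtain ⟨x₀, y₀, hxy⟩ := exists_noncentral_pair hE
  obtain ⟨⟨z, hzc⟩, hz⟩ : ∃ z : Subgroup.center ↥P, z ≠ 1 := by
    by_contra! h
    have : Nat.card (Subgroup.center ↥P) = 1 := Nat.card_eq_one_iff_unique.2
      ⟨⟨fun a b => by rw [h a, h b]⟩, ⟨1⟩⟩
    rw [hE.2] at this
    exact (Fact.out : p.Prime).ne_one this
  have hz1 : z ≠ 1 := fun h => hz (Subtype.ext h)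
  have hpw : ∀ a : ↥P, a ^ p = 1 := fun a => by
    conv_lhs => arg 2; rw [← hexp]
    exact Monoid.pow_exponent_eq_one a
  let xs : Option (ZMod p) → ↥P := fun o => o.elim x₀ (fun a => x₀ ^ a.val * y₀)
  have hxa : ∀ a : ZMod p, ¬ Commute x₀ (x₀ ^ a.val * y₀) := fun a h => by
    have := ((Commute.refl x₀).pow_right a.val).inv_right.mul_right h
    rw [inv_mul_cancel_left] at this
    exact hxy this
  have hind : ∀ i j, i ≠ j → ¬ Commute (xs i) (xs j) := by
    rintro (_ | a) (_ | b) hij h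
    · exact hij rfl
    · exact hxa b h
    · exact hxa a h.symm
    · have hab : a - b ≠ 0 := sub_ne_zero.2 fun e => hij (congrArg some e)
      have hd : x₀ ^ a.val = x₀ ^ (a - b).val * x₀ ^ b.val := by
        rw [← pow_add]; exact CfsgLib.LocalEven.ExtLines.pow_congr (hpw x₀) (by simp)
      have hc : ∀ m n : ℕ, x₀ ^ m * x₀ ^ n = x₀ ^ n * x₀ ^ m := fun m n => Commute.pow_pow_self x₀ m n
      change Commute (x₀ ^ a.val * y₀) (x₀ ^ b.val * y₀) at h
      set w := x₀ ^ b.val * y₀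
      have h2 : x₀ ^ a.val * y₀ = x₀ ^ (a - b).val * w := by rw [hd, mul_assoc]
      rw [h2] at h
      have h3 : Commute (x₀ ^ (a - b).val) w := by
        have := h.mul_left (Commute.refl w).inv_left
        rwa [mul_inv_cancel_right] at this
      have h4 : Commute (x₀ ^ (a - b).val) y₀ := by
        have := ((Commute.pow_pow_self x₀ (a - b).val b.val).inv_right).mul_right h3
        rwa [inv_mul_cancel_left] at this
      have h5 := h4.pow_left ((a - b)⁻¹).val
      rw [← pow_mul, CfsgLib.LocalEven.ExtLines.pow_congr (n := 1) (hpw x₀) (by simp [hab]), pow_one] at h5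
      exact hxy h5
  have hxs : ∀ i, xs i ∉ Subgroup.center ↥P := by
    intro i hi
    obtain ⟨j, hj⟩ := exists_ne i
    exact hind i j hj.symm (Subgroup.mem_center_iff.1 hi (xs j)).symm
  have hv : ∀ i, ∃ s : ZMod p, s ≠ 0 ∧
      CfsgLib.LocalEven.ExtLines.Realizes (z : G) (xs i : G) 1 0 s 1 := by
    intro i
    obtain ⟨g, hg⟩ := hconj z (xs i) hz1 (fun h => hxs i (h ▸ one_mem _))
    exact CfsgLib.LocalEven.ExtLines.exists_lower_of_conj P hE hexp z hzc hz1 (xs i) (hxs i) g hg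
  obtain ⟨hA, hB⟩ := CfsgLib.LocalEven.ExtLines.card_lines_extraspecial P hE hcard hexp z hzc hz1 xs hxs hind hv
  have hc : Nat.card (Option (ZMod p)) = p + 1 := by rw [Finite.card_option, Nat.card_zmod]
  rw [hc] at hA hB
  by_contra hlt
  have hP := (Fact.out : p.Prime)
  have : p ≠ 8 ∧ p ≠ 9 ∧ p ≠ 10 ∧ p ≠ 12 ∧ p ≠ 14 ∧ p ≠ 15 ∧ p ≠ 16 := by
    refine ⟨?_, ?_, ?_, ?_, ?_, ?_, ?_⟩ <;> (rintro rfl; norm_num at hP)
  by_cases h13 : p = 13
  · have := hB h13; omega
  · have := hA (by omega); omega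

end Cfsg.Agent.S3055
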