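import Cfsg.Statements.S3057
import Cfsg.Agent.Lib.LocalEven.SylowChains
import Cfsg.Agent.Lib.LocalEven.CoprimeGeneration
import Cfsg.Agent.Lib.LocalEven.SubnormalSylow
import Cfsg.Agent.Lib.Solvable.UniqueSubgroup
import Cfsg.Agent.Lib.Transfer.PSolvable
import Cfsg.Agent.Lib.Transfer.Basic

set_option autoImplicit false
open Cfsg

namespace Cfsg.Agent.S3057

/-- Let p be a prime and G a finite p-solvable group of order divisible by p, with Sylow p-subgroup P. Then the Sylow p-subgroups of G fail to be chain-connected through nontrivial intersections (equivalently, G has a strongly p-embedded subgroup) if and only if O_p(G) = 1 and P is cyclic or, for p = 2, generalized quaternion. -/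
theorem result {G : Type*} [Group G] [Finite G]
    (p : ℕ) [Fact p.Prime] (hdiv : p ∣ Nat.card G) (hsol : Cfsg.IsPSolvable p G) (P : Sylow p G) :
    ¬ Cfsg.IsSylowChainConnected p G ↔
      Cfsg.pCore p G = ⊥ ∧ (IsCyclic ↥P ∨ (p = 2 ∧ ∃ n : ℕ, Nonempty (↥P ≃* QuaternionGroup (2 ^ n)))) := by
  classical
  have hp : p.Prime := Fact.out
  rw [CfsgLib.LocalEven.isSylowChainConnected_iff_no_classicalSPE]
  constructor
  · rintro ⟨H, hH⟩
    obtain ⟨S, hSH, hS1⟩ := hH.exists_sylow_le
    have hO : Cfsg.pCore p G = ⊥ := by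
      by_contra hO
      refine hH.1 (eq_top_iff.2 ?_)
      rw [← Subgroup.normalizer_eq_top (Cfsg.pCore p G)]
      exact hH.normalizer_le (CfsgLib.Cores.isPGroup_pCore p) hO ((CfsgLib.Cores.pCore_le_sylow S).trans hSH)
    refine ⟨hO, ?_⟩
    have hu : ∀ x y : ↥(S : Subgroup G), orderOf x = p → orderOf y = p → Commute x y → x ∈ Subgroup.zpowers y := by
      intro x y hx hy hxy
      by_contra hxy'
      set K := Cfsg.pPrimeCore p G with hKdef
      have hxp : ((x : G)) ^ p = 1 := orderOf_dvd_iff_pow_eq_one.1 (dvd_of_eq (by rw [Subgroup.orderOf_coe, hx]))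
      have hyp : ((y : G)) ^ p = 1 := orderOf_dvd_iff_pow_eq_one.1 (dvd_of_eq (by rw [Subgroup.orderOf_coe, hy]))
      have hCS : ∀ z : ↥(S : Subgroup G), z ≠ 1 → Subgroup.centralizer ({(z : G)} : Set G) ≤ H := by
        intro z hz1
        obtain ⟨k, hk⟩ := IsPGroup.iff_orderOf.1 S.2 z
        exact hH.centralizer_le ⟨k, by rwa [Subgroup.orderOf_coe]⟩ (fun e => hz1 (Subtype.ext e)) (hSH z.2)
      have hy1 : y ≠ 1 := fun e => by rw [e, orderOf_one] at hy; exact hp.ne_one hy.symm
      have hnK : ∀ g : G, g ∈ Subgroup.normalizer (K : Set G) := fun g => by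
        rw [Subgroup.normalizer_eq_top _]; trivial
      have hKH : K ≤ H := CfsgLib.LocalEven.le_of_line_centralizers hyp hxp
        (by simpa [commute_iff_eq] using congrArg Subtype.val hxy.symm.eq)
        (CfsgLib.Cores.coprime_card_pPrimeCore p) (hnK _) (hnK _) (inf_le_right.trans (hCS y hy1))
        (fun i => inf_le_right.trans (by
          have := hCS (x * y ^ i) (fun e => hxy' (by
            rw [eq_inv_of_mul_eq_one_left e]; exact inv_mem (pow_mem (Subgroup.mem_zpowers y) i)))
          simpa using this))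
      set M := Cfsg.pPrimePCore p G with hM
      haveI : M.Normal := CfsgLib.Cores.pPrimePCore_normal
      have hMp : ∀ m ∈ M, ∃ k : ℕ, m ^ p ^ k ∈ K := by
        intro m hm
        obtain ⟨k, hk⟩ := (CfsgLib.Cores.isPGroup_pCore (G := G ⧸ K) p) ⟨QuotientGroup.mk' K m, hm⟩
        refine ⟨k, (QuotientGroup.eq_one_iff _).1 ?_⟩
        show QuotientGroup.mk' K (m ^ p ^ k) = 1
        rw [map_pow]
        exact congrArg Subtype.val hk
      have hMdvd : p ∣ Nat.card ↥M := by
        have hne : Cfsg.pCore p (G ⧸ K) ≠ ⊥ := by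
          intro hb
          have h1 := CfsgLib.Transfer.centralizer_pCore_le_of_isPSolvable
            (CfsgLib.Transfer.isPSolvable_quotient hsol K) (CfsgLib.Cores.pPrimeCore_quotient_self p)
          rw [hb, Subgroup.coe_bot, show Subgroup.centralizer ({1} : Set (G ⧸ K)) = ⊤ from eq_top_iff.2
            (fun g _ => Subgroup.mem_centralizer_singleton_iff.2 (by simp)), top_le_iff] at h1
          have h2 : K = ⊤ := by
            refine eq_top_iff.2 fun g _ => (QuotientGroup.eq_one_iff g).1 ?_
            have h3 : (QuotientGroup.mk g : G ⧸ K) ∈ (⊥ : Subgroup (G ⧸ K)) := h1.symm ▸ Subgroup.mem_top _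
            simpa using h3
          have h4 := CfsgLib.Cores.coprime_card_pPrimeCore (G := G) p
          rw [← hKdef, h2, Subgroup.card_top] at h4
          exact (hp.coprime_iff_not_dvd.1 h4.symm) hdiv
        have hd := (CfsgLib.Cores.isPGroup_pCore (G := G ⧸ K) p).card_eq_or_dvd.resolve_left
          (mt (Subgroup.eq_bot_of_card_eq _) hne)
        rw [← CfsgLib.Cores.map_mk'_pPrimePCore] at hd
        exact hd.trans (Subgroup.card_map_dvd _ _)
      obtain ⟨T, hT⟩ := CfsgLib.LocalEven.exists_sylow_eq_inf_of_isSubnormal S (inferInstance : M.Normal).isSubnormal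
      have hTS : (T : Subgroup ↥M).map M.subtype ≤ (S : Subgroup G) := by
        rw [hT]; rintro _ ⟨u, hu, rfl⟩; exact hu
      have hMsup : M ≤ (T : Subgroup ↥M).map M.subtype ⊔ K := by
        have h1 : (Cfsg.pResidual p ↥M).map M.subtype ≤ K := by
          rw [Cfsg.pResidual, MonoidHom.map_closure, Subgroup.closure_le]
          rintro _ ⟨u, hu, rfl⟩
          obtain ⟨k, hk⟩ := hMp _ u.2
          obtain ⟨m, hm⟩ := exists_pow_eq_self_of_coprime (x := (u : G)) (n := p ^ k)
            (by rw [Subgroup.orderOf_coe]; exact (Nat.Coprime.symm hu).pow_left k)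
          have h5 := K.pow_mem hk m
          rw [hm] at h5
          exact h5
        have h2 := congrArg (Subgroup.map M.subtype) (CfsgLib.Transfer.pResidual_sup_sylow T)
        rw [Subgroup.map_sup, ← MonoidHom.range_eq_map, Subgroup.range_subtype] at h2
        refine le_of_eq_of_le h2.symm ?_
        rw [sup_comm ((T : Subgroup ↥M).map M.subtype) K]
        exact sup_le_sup_right h1 _
      have hT1 : (T : Subgroup ↥M).map M.subtype ≠ ⊥ := by
        rw [Ne, Subgroup.map_eq_bot_iff_of_injective _ M.subtype_injective]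
        exact T.ne_bot_of_dvd_card hMdvd
      refine hH.1 (eq_top_iff.2 ?_)
      rw [← Sylow.normalizer_sup_eq_top T]
      exact sup_le (hH.normalizer_le (T.2.map _) hT1 (hTS.trans hSH))
        (hMsup.trans (sup_le (hTS.trans hSH) hKH))
    have hu' : ∀ x y : ↥(S : Subgroup G), orderOf x = p → orderOf y = p → x ∈ Subgroup.zpowers y := by
      intro x y hx hy
      haveI : Nontrivial ↥(S : Subgroup G) := (Subgroup.nontrivial_iff_ne_bot _).2 hS1
      have hZ : Subgroup.center ↥(S : Subgroup G) ≠ ⊥ :=
        (Subgroup.nontrivial_iff_ne_bot _).1 S.2.center_nontrivial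
      obtain ⟨z, hzc, hz⟩ := CfsgLib.PGroup.exists_orderOf_eq S.2 hZ
      have h1 := hu x z hx hz (Subgroup.mem_center_iff.1 hzc x)
      have h2 := hu z y hz hy (Subgroup.mem_center_iff.1 hzc y).symm
      exact (Subgroup.zpowers_le.2 h2) h1
    let e := Sylow.equiv P S
    rcases CfsgLib.Solvable.isCyclic_or_quaternion (p := p) S.2 hu' with h | ⟨h2, n, ⟨f⟩⟩
    · exact Or.inl (isCyclic_of_surjective e.symm.toMonoidHom e.symm.surjective)
    · exact Or.inr ⟨h2, n, ⟨e.trans f⟩⟩
  · rintro ⟨hO, hcase⟩
    have huni : ∀ x y : ↥(P : Subgroup G), orderOf x = p → orderOf y = p → x ∈ Subgroup.zpowers y := by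
      rcases hcase with hc | ⟨rfl, n, ⟨f⟩⟩
      · intro x y hx hy
        haveI := hc
        haveI : Fintype ↥(P : Subgroup G) := Fintype.ofFinite _
        by_contra hxy
        have h1 := IsCyclic.card_pow_eq_one_le (α := ↥(P : Subgroup G)) (n := p) hp.pos
        have h2 : insert x ((Subgroup.zpowers y : Subgroup ↥(P : Subgroup G)) : Set ↥(P : Subgroup G)) ⊆ {a | a ^ p = 1} := by
          rintro a (rfl | ha)
          · exact orderOf_dvd_iff_pow_eq_one.1 (dvd_of_eq hx)
          · exact orderOf_dvd_iff_pow_eq_one.1 ((orderOf_dvd_of_mem_zpowers ha).trans (dvd_of_eq hy))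
        have h3 := Set.ncard_le_ncard h2 (Set.toFinite _)
        rw [Set.ncard_insert_of_notMem hxy (Set.toFinite _), ← Nat.card_coe_set_eq, SetLike.coe_sort_coe,
          Nat.card_zpowers, hy, Set.ncard_eq_toFinset_card', Set.toFinset_ofPred] at h3
        omega
      · haveI : NeZero (2 ^ n) := ⟨by positivity⟩
        have key : ∀ u : QuaternionGroup (2 ^ n), orderOf u = 2 → u = QuaternionGroup.a ((2 ^ n : ℕ) : ZMod (2 * 2 ^ n)) := by
          intro u hu
          cases u with
          | a i =>
            rw [QuaternionGroup.orderOf_a] at hu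
            haveI : NeZero (2 * 2 ^ n) := ⟨by positivity⟩
            congr 1
            set g := Nat.gcd (2 * 2 ^ n) i.val with hg
            have hgd : g ∣ 2 * 2 ^ n := Nat.gcd_dvd_left _ _
            have h1 : 2 * 2 ^ n = 2 * g := by
              have := Nat.div_mul_cancel hgd
              rw [hu] at this
              exact this.symm
            obtain ⟨c, hc⟩ := Nat.gcd_dvd_right (2 * 2 ^ n) i.val
            have hlt : i.val < 2 * 2 ^ n := ZMod.val_lt i
            have hg2 : g = 2 ^ n := by omega
            rw [← hg, hg2] at hc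
            have hc2 : c < 2 := by
              by_contra hge
              have := Nat.mul_le_mul_left (2 ^ n) (Nat.le_of_not_lt hge)
              omega
            interval_cases c
            · exfalso
              rw [mul_zero] at hc
              rw [hg, hc, Nat.gcd_zero_right] at hg2
              have := Nat.two_pow_pos n
              omega
            · rw [← ZMod.natCast_zmod_val i, hc, mul_one]
          | xa i =>
            rw [QuaternionGroup.orderOf_xa] at hu
            omega
        intro x y hx hy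
        have hx' := key (f x) (by rw [MulEquiv.orderOf_eq]; exact hx)
        have hy' := key (f y) (by rw [MulEquiv.orderOf_eq]; exact hy)
        rw [f.injective (hx'.trans hy'.symm)]
        exact Subgroup.mem_zpowers y
    obtain ⟨z, hz⟩ := exists_prime_orderOf_dvd_card' (G := ↥(P : Subgroup G)) p (P.dvd_card_of_dvd_card hdiv)
    set Z := Subgroup.zpowers (z : G) with hZ
    have hzp : ∃ k : ℕ, orderOf (z : G) = p ^ k := ⟨1, by rw [Subgroup.orderOf_coe, hz, pow_one]⟩
    have hZp := CfsgLib.LocalEven.isPGroup_zpowers hzp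
    have hZ1 : Z ≠ ⊥ := by
      rw [hZ, Ne, Subgroup.zpowers_eq_bot]
      intro e
      rw [← Subgroup.orderOf_coe, e, orderOf_one] at hz
      exact hp.ne_one hz.symm
    refine ⟨Subgroup.normalizer (Z : Set G), fun htop => hZ1 ?_, ?_, fun g hg hdvd => hg ?_⟩
    · haveI : Z.Normal := Subgroup.normalizer_eq_top_iff.1 htop
      exact le_bot_iff.1 ((CfsgLib.Cores.le_pCore hZp).trans hO.le)
    · exact (hZp.card_eq_or_dvd.resolve_left (mt (Subgroup.eq_bot_of_card_eq Z) hZ1)).trans
        (Subgroup.card_dvd_of_le Subgroup.le_normalizer)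
    have key : ∀ u : G, orderOf u = p → u ∈ Subgroup.normalizer (Z : Set G) → Subgroup.zpowers u = Z := by
      intro u hu huN
      have hup := CfsgLib.LocalEven.isPGroup_zpowers (p := p) (x := u) ⟨1, by rw [hu, pow_one]⟩
      obtain ⟨Q, hQ⟩ := (IsPGroup.to_sup_of_normal_right' hup hZp (Subgroup.zpowers_le.2 huN)).exists_le_sylow
      let e := Sylow.equiv Q P
      have hu' : u ∈ (Q : Subgroup G) := hQ (Subgroup.mem_sup_left (Subgroup.mem_zpowers u))
      have hz' : (z : G) ∈ (Q : Subgroup G) := hQ (Subgroup.mem_sup_right (Subgroup.mem_zpowers _))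
      have ou : orderOf (e ⟨u, hu'⟩) = p := by rw [MulEquiv.orderOf_eq, Subgroup.orderOf_mk, hu]
      have oz : orderOf (e ⟨z, hz'⟩) = p := by rw [MulEquiv.orderOf_eq, Subgroup.orderOf_mk, Subgroup.orderOf_coe, hz]
      obtain ⟨i, hi⟩ := Subgroup.mem_zpowers_iff.1 (huni _ _ ou oz)
      rw [← map_zpow] at hi
      have hi' : (z : G) ^ i = u := by simpa using congrArg Subtype.val (e.injective hi)
      refine Subgroup.eq_of_le_of_card_ge (Subgroup.zpowers_le.2 (hi' ▸ Subgroup.zpow_mem _ (Subgroup.mem_zpowers _) i)) ?_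
      rw [hZ, Nat.card_zpowers, Nat.card_zpowers, hu, Subgroup.orderOf_coe, hz]
    obtain ⟨x, hx⟩ := exists_prime_orderOf_dvd_card' p hdvd
    have hxo : orderOf (x : G) = p := by rw [Subgroup.orderOf_coe, hx]
    have h1 := key _ hxo x.2.1
    have h2 := key (g⁻¹ * x * g) (by
      rw [← hxo]; simpa using (MulAut.conj g⁻¹).orderOf_eq (x : G)) (CfsgLib.LocalEven.mem_map_conj.1 x.2.2)
    refine CfsgLib.LocalEven.mem_normalizer_of_conj_le ?_
    conv_lhs => rw [← h2]
    rw [CfsgLib.LocalEven.conj_zpowers, Subgroup.zpowers_le, show g * (g⁻¹ * (x : G) * g) * g⁻¹ = (x : G) by group]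
    exact h1.le (Subgroup.mem_zpowers _)

end Cfsg.Agent.S3057
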