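import Cfsg.Statements.S3058
import Cfsg.Agent.Lib.LocalEven.SylowChains
import Cfsg.Agent.Lib.LocalEven.CoprimeGeneration
import Cfsg.Agent.Lib.LocalEven.Coprime

set_option autoImplicit false
open Cfsg

namespace Cfsg.Agent.S3058

/-- Let p be a prime and G a finite group whose Sylow p-subgroups are not chain-connected through nontrivial intersections (so G has a strongly p-embedded subgroup). If N and M are normal subgroups of G whose orders are both divisible by p, then the order of N ∩ M is divisible by p. Consequently, among the normal subgroups of G whose order is divisible by p there is a smallest one (the intersection of all of them). -/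
theorem result {G : Type*} [Group G] [Finite G]
    (p : ℕ) [Fact p.Prime] (hG : ¬ Cfsg.IsSylowChainConnected p G)
    (N M : Subgroup G) [N.Normal] [M.Normal] (hN : p ∣ Nat.card N) (hM : p ∣ Nat.card M) :
    p ∣ Nat.card ↥(N ⊓ M) := by
  classical
  obtain ⟨H, hH⟩ := CfsgLib.LocalEven.exists_classicalSPE_of_not_connected hG
  by_contra hK
  obtain ⟨S, hSH, -⟩ := hH.exists_sylow_le
  have hel : ∀ A : Subgroup G, A.Normal → p ∣ Nat.card ↥A → ∃ x ∈ A, x ∈ (S : Subgroup G) ∧ orderOf x = p := by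
    intro A hA hAd
    obtain ⟨a, ha⟩ := exists_prime_orderOf_dvd_card' p hAd
    obtain ⟨T, hT⟩ := (CfsgLib.LocalEven.isPGroup_zpowers (x := (a : G)) ⟨1, by
      rw [Subgroup.orderOf_coe, ha, pow_one]⟩).exists_le_sylow
    obtain ⟨g, hg⟩ := MulAction.exists_smul_eq G T S
    refine ⟨g * a * g⁻¹, hA.conj_mem _ a.2 g, ?_, ?_⟩
    · rw [← hg, Sylow.coe_subgroup_smul]
      exact ⟨a, hT (Subgroup.mem_zpowers _), rfl⟩
    · rw [← ha, ← Subgroup.orderOf_coe]
      exact (MulAut.conj g).orderOf_eq (a : G)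
  obtain ⟨x, hxN, hxS, hx⟩ := hel N inferInstance hN
  obtain ⟨y, hyM, hyS, hy⟩ := hel M inferInstance hM
  set K := N ⊓ M with hKdef
  have hKcop : (Nat.card ↥K).Coprime p := ((Fact.out : p.Prime).coprime_iff_not_dvd.2 hK).symm
  have hdisj : ∀ u ∈ K, u ∈ (S : Subgroup G) → u = 1 := by
    intro u hu huS
    obtain ⟨k, hk⟩ := IsPGroup.iff_orderOf.1 S.2 ⟨u, huS⟩
    rw [Subgroup.orderOf_mk] at hk
    exact orderOf_eq_one_iff.1 (Nat.eq_one_of_dvd_coprimes (hKcop.pow_right k)
      (Subgroup.orderOf_dvd_natCard _ hu) (hk ▸ dvd_refl _))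
  have hxy : Commute x y := by
    have h1 : x * y * x⁻¹ * y⁻¹ ∈ K := ⟨by
      have := N.mul_mem hxN ((inferInstance : N.Normal).conj_mem _ (N.inv_mem hxN) y)
      simpa [mul_assoc] using this,
      M.mul_mem ((inferInstance : M.Normal).conj_mem _ hyM x) (M.inv_mem hyM)⟩
    have h2 := hdisj _ h1 ((S : Subgroup G).mul_mem ((S : Subgroup G).mul_mem ((S : Subgroup G).mul_mem hxS hyS)
      ((S : Subgroup G).inv_mem hxS)) ((S : Subgroup G).inv_mem hyS))
    exact mul_inv_eq_iff_eq_mul.1 (mul_inv_eq_one.1 h2)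
  have hpow : ∀ z : G, orderOf z = p → z ^ p = 1 := fun z hz => hz ▸ pow_orderOf_eq_one z
  have hne : ∀ i : ℕ, y * x ^ i ≠ 1 := by
    intro i h
    have hyN : y ∈ N := by rw [eq_inv_of_mul_eq_one_left h]; exact N.inv_mem (N.pow_mem hxN i)
    exact (Fact.out : p.Prime).ne_one (hy ▸ orderOf_eq_one_iff.2 (hdisj y ⟨hyN, hyM⟩ hyS))
  have hCS : ∀ z ∈ (S : Subgroup G), z ≠ 1 → Subgroup.centralizer ({z} : Set G) ≤ H := by
    intro z hz hz1
    obtain ⟨k, hk⟩ := IsPGroup.iff_orderOf.1 S.2 ⟨z, hz⟩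
    exact hH.centralizer_le ⟨k, by rwa [Subgroup.orderOf_mk] at hk⟩ hz1 (hSH hz)
  have hx1 : x ≠ 1 := fun e => (Fact.out : p.Prime).ne_one (by rw [← hx, e, orderOf_one])
  have hKn : K.Normal := inferInstance
  have hnK : ∀ g : G, g ∈ Subgroup.normalizer (K : Set G) := fun g => by
    rw [Subgroup.normalizer_eq_top _]; trivial
  have hKH : K ≤ H :=
    CfsgLib.LocalEven.le_of_line_centralizers (hpow x hx) (hpow y hy) hxy hKcop (hnK x) (hnK y)
      (inf_le_right.trans (hCS x hxS hx1))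
      (fun i => inf_le_right.trans (hCS _ ((S : Subgroup G).mul_mem hyS ((S : Subgroup G).pow_mem hxS i)) (hne i)))
  have hMH : M ≤ H := by
    intro m hm
    obtain ⟨a, ha, hc⟩ := CfsgLib.LocalEven.exists_mul_commute hKcop (x := x) (h := m) ⟨1, by rw [hx, pow_one]⟩
      ⟨by simpa [mul_assoc] using N.mul_mem ((inferInstance : N.Normal).conj_mem _ hxN m) (N.inv_mem hxN),
       by simpa [mul_assoc] using M.mul_mem hm ((inferInstance : M.Normal).conj_mem _ (M.inv_mem hm) x)⟩
    have h1 := hCS x hxS hx1 (Subgroup.mem_centralizer_singleton_iff.2 hc)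
    simpa using H.mul_mem (H.inv_mem (hKH ha)) h1
  refine hH.1 (eq_top_iff.2 fun g _ => ?_)
  refine hH.mem (D := Subgroup.zpowers y) (CfsgLib.LocalEven.isPGroup_zpowers ⟨1, by rw [hy, pow_one]⟩) ?_
    (Subgroup.zpowers_le.2 (hSH hyS)) ?_
  · rw [Ne, Subgroup.zpowers_eq_bot]
    exact fun e => (Fact.out : p.Prime).ne_one (by rw [← hy, e, orderOf_one])
  · rw [CfsgLib.LocalEven.conj_zpowers, Subgroup.zpowers_le]
    exact hMH ((inferInstance : M.Normal).conj_mem _ hyM g)

end Cfsg.Agent.S3058
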