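import Cfsg.Statements.S3059
import Cfsg.Agent.Lib.LocalEven.SylowChains
import Cfsg.Agent.Lib.Transfer.Basic
import Cfsg.Agent.Lib.LocalEven.SubnormalSylow

set_option autoImplicit false
open Cfsg

namespace Cfsg.Agent.S3059

/-- Let p be a prime and H a strongly p-embedded subgroup of the finite group G in the classical sense: H is proper, p divides the order of H, and H ∩ gHg⁻¹ has order prime to p for every g outside H. Then for every normal subgroup N of G of order divisible by p, G = H · O^p(N), where O^p(N) is the subgroup generated by the elements of N of order prime to p. -/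
theorem result {G : Type*} [Group G] [Finite G]
    (p : ℕ) [Fact p.Prime] (H : Subgroup G) (hH : H ≠ ⊤) (hpH : p ∣ Nat.card H)
    (hse : ∀ g : G, g ∉ H → ¬ p ∣ Nat.card ↥(H ⊓ H.map (MulAut.conj g).toMonoidHom))
    (N : Subgroup G) [N.Normal] (hN : p ∣ Nat.card N) :
    H ⊔ Subgroup.closure {g : G | g ∈ N ∧ (orderOf g).Coprime p} = ⊤ := by
  classical
  have hC : CfsgLib.LocalEven.IsClassicalSPE p H := ⟨hH, hpH, hse⟩
  obtain ⟨S, hSH, -⟩ := hC.exists_sylow_le
  set R := Subgroup.closure {g : G | g ∈ N ∧ (orderOf g).Coprime p} with hR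
  obtain ⟨T, hT⟩ : ∃ T : Sylow p ↥N, (T : Subgroup ↥N).map N.subtype ≤ (S : Subgroup G) := by
    obtain ⟨T, hT⟩ := CfsgLib.LocalEven.exists_sylow_eq_inf_of_isSubnormal S (inferInstance : N.Normal).isSubnormal
    refine ⟨T, ?_⟩
    rw [hT]
    rintro _ ⟨u, hu, rfl⟩
    exact hu
  have hNsup : N ≤ (T : Subgroup ↥N).map N.subtype ⊔ R := by
    have h1 : (Cfsg.pResidual p ↥N).map N.subtype ≤ R := by
      rw [Cfsg.pResidual, MonoidHom.map_closure]
      refine Subgroup.closure_mono ?_
      rintro _ ⟨u, hu, rfl⟩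
      exact ⟨u.2, by simpa [Subgroup.orderOf_coe] using hu⟩
    have h2 := congrArg (Subgroup.map N.subtype) (CfsgLib.Transfer.pResidual_sup_sylow T)
    rw [Subgroup.map_sup, ← MonoidHom.range_eq_map, Subgroup.range_subtype] at h2
    refine le_of_eq_of_le h2.symm ?_
    rw [sup_comm ((T : Subgroup ↥N).map N.subtype) R]
    exact sup_le_sup_right h1 _
  have hT1 : (T : Subgroup ↥N).map N.subtype ≠ ⊥ := by
    rw [Ne, Subgroup.map_eq_bot_iff_of_injective _ N.subtype_injective]
    exact T.ne_bot_of_dvd_card hN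
  have hNT : Subgroup.normalizer ((T : Subgroup ↥N).map N.subtype : Set G) ≤ H :=
    hC.normalizer_le (T.2.map _) hT1 (hT.trans hSH)
  rw [eq_top_iff, ← Sylow.normalizer_sup_eq_top T]
  exact sup_le (hNT.trans le_sup_left) (hNsup.trans (sup_le_sup_right (hT.trans hSH) R))

end Cfsg.Agent.S3059
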