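import Cfsg.Statements.S3061
import Cfsg.Agent.Lib.LocalEven.ClassTwo
import Cfsg.Agent.Lib.LocalEven.Basic
import Cfsg.Agent.Lib.PGroup.Basic

set_option autoImplicit false
open Cfsg

namespace Cfsg.Agent.S3061

/-- Let S be a finite p-group. Then D*(S) itself belongs to the family that generates it: D*(S) is abelian, and every x ∈ S with ⟨D*(S), x⟩ of class at most two centralizes D*(S). Hence D*(S) is the unique maximal member of that family. -/
theorem result {S : Type*} [Group S] [Finite S] {p : ℕ} [Fact p.Prime] (hS : IsPGroup p S) :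
    Cfsg.dStar S ∈ Cfsg.dStarFamily S := by
  classical
  have hcl2 : ∀ X Y : Subgroup S, X ≤ Y → ⁅⁅Y, Y⁆, Y⁆ = ⊥ → ⁅⁅X, X⁆, X⁆ = ⊥ := fun X Y h hY =>
    le_bot_iff.1 ((Subgroup.commutator_mono (Subgroup.commutator_mono h h) h).trans hY.le)
  have hjoin : ∀ F : Set (Subgroup S), F ⊆ Cfsg.dStarFamily S →
      (∀ A ∈ F, ∀ B ∈ F, ∀ a ∈ A, ∀ b ∈ B, a * b = b * a) → sSup F ∈ Cfsg.dStarFamily S := by
    intro F hF hc
    have hcl : sSup F = Subgroup.closure (⋃ A ∈ F, (A : Set S)) := by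
      refine le_antisymm (sSup_le fun A hA a ha => Subgroup.subset_closure (Set.mem_biUnion hA ha)) ?_
      rw [Subgroup.closure_le]
      exact Set.iUnion₂_subset fun A hA => SetLike.coe_subset_coe.2 (le_sSup hA)
    refine ⟨?_, fun x hx => ?_⟩
    · rw [hcl]
      refine Subgroup.isMulCommutative_closure ?_
      intro a ha b hb
      obtain ⟨A, hA, ha⟩ := Set.mem_iUnion₂.1 ha
      obtain ⟨B, hB, hb⟩ := Set.mem_iUnion₂.1 hb
      exact hc A hA B hB a ha b hb
    · have hle : sSup F ≤ Subgroup.centralizer ({x} : Set S) := sSup_le fun A hA a ha =>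
        Subgroup.mem_centralizer_singleton_iff.2
          ((hF hA).2 x (hcl2 _ _ (sup_le_sup_right (le_sSup hA) _) hx) a ha)
      exact fun a ha => Subgroup.mem_centralizer_singleton_iff.1 (hle ha)
  have hconj : ∀ A ∈ Cfsg.dStarFamily S, ∀ g : S, A.map (MulAut.conj g).toMonoidHom ∈ Cfsg.dStarFamily S := by
    intro A hA g
    refine ⟨⟨⟨?_⟩⟩, fun x hx => ?_⟩
    · rintro ⟨_, u, hu, rfl⟩ ⟨_, v, hv, rfl⟩
      apply Subtype.ext
      have := congrArg (MulAut.conj g).toMonoidHom (congrArg Subtype.val (hA.1.1.comm (⟨u, hu⟩ : ↥A) ⟨v, hv⟩))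
      simpa only [MulEquiv.coe_toMonoidHom, Subgroup.coe_mul, map_mul] using this
    · obtain ⟨y, rfl⟩ := (MulAut.conj g).surjective x
      have he : A.map (MulAut.conj g).toMonoidHom ⊔ Subgroup.zpowers ((MulAut.conj g) y) =
          (A ⊔ Subgroup.zpowers y).map (MulAut.conj g).toMonoidHom := by
        rw [Subgroup.map_sup, MonoidHom.map_zpowers]; rfl
      rw [he, ← Subgroup.map_commutator, ← Subgroup.map_commutator,
        Subgroup.map_eq_bot_iff_of_injective _ (MulAut.conj g).injective] at hx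
      rintro _ ⟨u, hu, rfl⟩
      have := congrArg (MulAut.conj g) (hA.2 y hx u hu)
      simpa only [MulEquiv.coe_toMonoidHom, Subgroup.coe_mul, map_mul] using this
  suffices hall : ∀ (n : ℕ) (A B : Subgroup S), Nat.card ↥(A ⊔ B) = n → A ∈ Cfsg.dStarFamily S →
      B ∈ Cfsg.dStarFamily S → ∀ a ∈ A, ∀ b ∈ B, a * b = b * a by
    exact hjoin _ subset_rfl fun A hA B hB => hall _ A B rfl hA hB
  intro n
  induction n using Nat.strong_induction_on with
  | _ n ih =>
  intro A B hn hA hB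
  set T := A ⊔ B with hT
  have habcomm : ∀ A ∈ Cfsg.dStarFamily S, ∀ a ∈ A, ∀ b ∈ A, a * b = b * a := fun A hA a ha b hb =>
    congrArg Subtype.val (hA.1.1.comm (⟨a, ha⟩ : ↥A) ⟨b, hb⟩)
  -- replace `A` by its normal closure in `T`
  have key : ∀ X ∈ Cfsg.dStarFamily S, X ≤ T → X ≠ T → ∃ Y ∈ Cfsg.dStarFamily S, X ≤ Y ∧ Y ≤ T ∧
      T ≤ Subgroup.normalizer (Y : Set S) := by
    intro X hX hXT hXne
    obtain ⟨M, hM, hXM⟩ := (eq_top_or_exists_le_coatom (X.subgroupOf T)).resolve_left (fun h =>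
      hXne (le_antisymm hXT (Subgroup.subgroupOf_eq_top.1 h)))
    have hMn : M.Normal := CfsgLib.PGroup.normal_of_isCoatom (hS.to_subgroup T) hM
    set F := (fun t : ↥T => X.map (MulAut.conj (t : S)).toMonoidHom) '' Set.univ with hF
    have hFM : ∀ Y ∈ F, Y ≤ M.map T.subtype := by
      rintro _ ⟨t, -, rfl⟩ _ ⟨u, hu, rfl⟩
      exact ⟨t * ⟨u, hXT hu⟩ * t⁻¹, hMn.conj_mem _ (hXM hu) t, by simp⟩
    have hlt : Nat.card ↥(M.map T.subtype) < n := by
      rw [← hn, Subgroup.card_map_of_injective T.subtype_injective]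
      exact lt_of_le_of_ne (Subgroup.card_le_card_group M) fun h => hM.1 ((Subgroup.card_eq_iff_eq_top _).1 h)
    have hFfam : F ⊆ Cfsg.dStarFamily S := by
      rintro _ ⟨t, -, rfl⟩; exact hconj X hX t
    refine ⟨sSup F, hjoin F hFfam fun Y hY Z hZ => ih _ ((Subgroup.card_le_of_le
      (sup_le (hFM Y hY) (hFM Z hZ))).trans_lt hlt) Y Z rfl (hFfam hY) (hFfam hZ), ?_, ?_, ?_⟩
    · exact (show X ≤ X.map (MulAut.conj ((1 : ↥T) : S)).toMonoidHom from fun u hu => ⟨u, hu, by simp⟩).trans (le_sSup ⟨1, trivial, rfl⟩)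
    · exact sSup_le fun Y hY => (hFM Y hY).trans (Subgroup.map_subtype_le M)
    · intro t ht
      refine CfsgLib.LocalEven.mem_normalizer_of_conj_le ?_
      rw [Subgroup.map_le_iff_le_comap]
      refine sSup_le ?_
      rintro _ ⟨s, -, rfl⟩
      rw [← Subgroup.map_le_iff_le_comap, Subgroup.map_map]
      refine le_of_eq_of_le ?_ (le_sSup ⟨⟨t, ht⟩ * s, trivial, rfl⟩)
      congr 1
      ext u
      simp [mul_assoc]
  by_cases hAT : A = T
  · intro a ha b hb
    exact habcomm A hA a ha b (hAT.symm ▸ Subgroup.mem_sup_right hb)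
  by_cases hBT : B = T
  · intro a ha b hb
    exact habcomm B hB a (hBT.symm ▸ Subgroup.mem_sup_left ha) b hb
  obtain ⟨A', hA', hAA', hA'T, hTA⟩ := key A hA le_sup_left hAT
  obtain ⟨B', hB', hBB', hB'T, hTB⟩ := key B hB le_sup_right hBT
  intro a ha b hb
  refine hA'.2 b ?_ a (hAA' ha)
  set X := A' ⊔ Subgroup.zpowers b with hX
  have hbB : b ∈ B' := hBB' hb
  have hI : ∀ u ∈ A', u * b * u⁻¹ * b⁻¹ ∈ A' ⊓ B' := fun u hu => by
    refine ⟨?_, B'.mul_mem (CfsgLib.LocalEven.conj_mem_of_mem_normalizer (hTB (hA'T hu)) hbB) (B'.inv_mem hbB)⟩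
    have := A'.mul_mem hu (CfsgLib.LocalEven.conj_mem_of_mem_normalizer (hTA (hB'T hbB)) (A'.inv_mem hu))
    simpa [mul_assoc] using this
  exact CfsgLib.LocalEven.classTwo_sup_zpowers (habcomm A' hA') hI
    (fun z hz u hu => habcomm A' hA' u hu z hz.1) (fun z hz => habcomm B' hB' b hbB z hz.2)

end Cfsg.Agent.S3061
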