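import Cfsg.Statements.S3062
import Cfsg.Agent.Lib.LocalEven.ClassTwo
import Cfsg.Agent.Lib.LocalEven.AbelianReplacement
import Cfsg.Agent.S3061

set_option autoImplicit false
open Cfsg

namespace Cfsg.Agent.S3062

/-- Let S be a finite p-group, J(S) the subgroup generated by the abelian subgroups of S of largest order and Z(J(S)) its centre. Then Z(S) ≤ D*(S) ≤ Z(J(S)), and every maximal normal abelian subgroup of S contains D*(S). -/
theorem result {S : Type*} [Group S] [Finite S] {p : ℕ} [Fact p.Prime]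
    (hS : IsPGroup p S) :
    Subgroup.center S ≤ Cfsg.dStar S ∧
    Cfsg.dStar S ≤ Cfsg.thompsonSubgroupA S ⊓ Subgroup.centralizer (Cfsg.thompsonSubgroupA S : Set S) ∧
    ∀ A : Subgroup S, A.Normal → IsMulCommutative A →
      (∀ B : Subgroup S, B.Normal → IsMulCommutative B → A ≤ B → B = A) → Cfsg.dStar S ≤ A := by
  classical
  obtain ⟨hDab, hDcl⟩ := Cfsg.Agent.S3061.result (S := S) hS
  set D := Cfsg.dStar S with hD
  have hDc : ∀ a ∈ D, ∀ b ∈ D, a * b = b * a := fun a ha b hb =>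
    congrArg Subtype.val (hDab.1.comm (⟨a, ha⟩ : ↥D) ⟨b, hb⟩)
  have hDn : D.Normal := by
    refine ⟨fun d hd g => ?_⟩
    have hmem : D.map (MulAut.conj g).toMonoidHom ∈ Cfsg.dStarFamily S := by
      refine ⟨⟨⟨?_⟩⟩, fun x hx => ?_⟩
      · rintro ⟨_, u, hu, rfl⟩ ⟨_, v, hv, rfl⟩
        apply Subtype.ext
        have := congrArg (MulAut.conj g).toMonoidHom (hDc u hu v hv)
        simpa only [MulEquiv.coe_toMonoidHom, Subgroup.coe_mul, map_mul] using this
      · obtain ⟨y, rfl⟩ := (MulAut.conj g).surjective x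
        have he : D.map (MulAut.conj g).toMonoidHom ⊔ Subgroup.zpowers ((MulAut.conj g) y) =
            (D ⊔ Subgroup.zpowers y).map (MulAut.conj g).toMonoidHom := by
          rw [Subgroup.map_sup, MonoidHom.map_zpowers]; rfl
        rw [he, ← Subgroup.map_commutator, ← Subgroup.map_commutator,
          Subgroup.map_eq_bot_iff_of_injective _ (MulAut.conj g).injective] at hx
        rintro _ ⟨u, hu, rfl⟩
        have := congrArg (MulAut.conj g) (hDcl y hx u hu)
        simpa only [MulEquiv.coe_toMonoidHom, Subgroup.coe_mul, map_mul] using this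
    exact (le_sSup hmem : _ ≤ Cfsg.dStar S) (CfsgLib.LocalEven.conj_mem_map_conj hd)
  -- an element moving `D` into elements it centralises centralises `D`
  have hquad : ∀ a : S, (∀ d ∈ D, (d * a * d⁻¹ * a⁻¹) * a = a * (d * a * d⁻¹ * a⁻¹)) →
      ∀ d ∈ D, d * a = a * d := by
    intro a ha d hd
    refine hDcl a ?_ d hd
    refine CfsgLib.LocalEven.classTwo_sup_zpowers (Z := D ⊓ Subgroup.centralizer ({a} : Set S)) hDc
      (fun u hu => ⟨?_, Subgroup.mem_centralizer_singleton_iff.2 (ha u hu)⟩)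
      (fun z hz u hu => hDc u hu z hz.1)
      (fun z hz => (Subgroup.mem_centralizer_singleton_iff.1 hz.2).symm)
    have := D.mul_mem hu (hDn.conj_mem _ (D.inv_mem hu) a)
    simpa [mul_assoc] using this
  have hcentA : ∀ A : Subgroup S, A ∈ Cfsg.maxAbelianSubgroups S → Subgroup.centralizer (A : Set S) ≤ A := by
    intro A hA x hx
    have hcl : IsMulCommutative ↥(Subgroup.closure (insert x (A : Set S))) := by
      refine Subgroup.isMulCommutative_closure ?_
      intro a ha b hb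
      rcases Set.mem_insert_iff.1 ha with ea | ha <;> rcases Set.mem_insert_iff.1 hb with eb | hb
      · rw [ea, eb]
      · rw [ea]; exact (Subgroup.mem_centralizer_iff.1 hx b hb).symm
      · rw [eb]; exact Subgroup.mem_centralizer_iff.1 hx a ha
      · exact congrArg Subtype.val (hA.1.1.comm (⟨a, ha⟩ : ↥A) ⟨b, hb⟩)
    have hle : A ≤ Subgroup.closure (insert x (A : Set S)) :=
      fun b hb => Subgroup.subset_closure (Set.mem_insert_of_mem _ hb)
    rw [Subgroup.eq_of_le_of_card_ge hle (hA.2 _ hcl)]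
    exact Subgroup.subset_closure (Set.mem_insert _ _)
  have hnorm : ∀ A : Subgroup S, IsMulCommutative ↥A → D ≤ Subgroup.normalizer (A : Set S) →
      D ≤ Subgroup.centralizer (A : Set S) := by
    intro A hA hDA d hd
    refine Subgroup.mem_centralizer_iff.2 fun a ha => (hquad a (fun u hu => ?_) d hd).symm
    exact congrArg Subtype.val (hA.1.comm (⟨_, A.mul_mem
      (CfsgLib.LocalEven.conj_mem_of_mem_normalizer (hDA hu) ha) (A.inv_mem ha)⟩ : ↥A) ⟨a, ha⟩)
  refine ⟨?_, ?_, ?_⟩
  · refine le_sSup ⟨⟨⟨fun a b => Subtype.ext (Subgroup.mem_center_iff.1 b.2 a)⟩⟩, fun x _ a ha => ?_⟩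
    exact (Subgroup.mem_center_iff.1 ha x).symm
  · have hall : ∀ A ∈ Cfsg.maxAbelianSubgroups S, D ≤ Subgroup.centralizer (A : Set S) := by
      intro A₀ hA₀
      by_contra hnot
      obtain ⟨A, ⟨hA, hAD⟩, hmax⟩ := Set.exists_max_image
        {A : Subgroup S | A ∈ Cfsg.maxAbelianSubgroups S ∧ ¬ D ≤ Subgroup.centralizer (A : Set S)}
        (fun A => Nat.card ↥(A ⊓ D)) (Set.toFinite _) ⟨A₀, hA₀, hnot⟩
      obtain ⟨d, hd, hdN⟩ := SetLike.not_le_iff_exists.1 (fun h => hAD (hnorm A hA.1 h))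
      have hne : A.map (MulAut.conj d).toMonoidHom ≠ A := fun h =>
        hdN (CfsgLib.LocalEven.mem_normalizer_of_conj_le h.le)
      obtain ⟨W, hW, hWle, hlt⟩ := CfsgLib.LocalEven.exists_maxAbelian_inf_lt (K := D) hA hDc
        (by rw [Subgroup.normalizer_eq_top _]; exact le_top)
        (fun a _ => by
          have := D.mul_mem hd (hDn.conj_mem _ (D.inv_mem hd) a)
          simpa [mul_assoc] using this) hne
      have hDW : D ≤ W := by
        by_contra hDW
        refine hlt.not_ge (hmax W ⟨hW, fun h => hDW (h.trans (hcentA W hW))⟩)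
      set T := A ⊔ D with hT
      have hAT : A ≠ T := fun h => hne (le_antisymm (by
          rintro _ ⟨u, hu, rfl⟩
          exact A.mul_mem (A.mul_mem (h ▸ Subgroup.mem_sup_right hd) hu) (A.inv_mem (h ▸ Subgroup.mem_sup_right hd)))
        (Subgroup.eq_of_le_of_card_ge (by
          rintro _ ⟨u, hu, rfl⟩
          exact A.mul_mem (A.mul_mem (h ▸ Subgroup.mem_sup_right hd) hu) (A.inv_mem (h ▸ Subgroup.mem_sup_right hd)))
          (CfsgLib.LocalEven.card_map_conj A d).ge).ge)
      obtain ⟨M, hM, hAM⟩ := (eq_top_or_exists_le_coatom (A.subgroupOf T)).resolve_left (fun h =>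
        hAT (le_antisymm le_sup_left (Subgroup.subgroupOf_eq_top.1 h)))
      have hMn : M.Normal := CfsgLib.PGroup.normal_of_isCoatom (hS.to_subgroup T) hM
      have hA'M : A.map (MulAut.conj d).toMonoidHom ≤ M.map T.subtype := by
        rintro _ ⟨u, hu, rfl⟩
        exact ⟨⟨d, Subgroup.mem_sup_right hd⟩ * ⟨u, Subgroup.mem_sup_left hu⟩ *
          (⟨d, Subgroup.mem_sup_right hd⟩)⁻¹, hMn.conj_mem _ (hAM hu) _, by simp⟩
      have hAM' : A ≤ M.map T.subtype := fun u hu => ⟨⟨u, Subgroup.mem_sup_left hu⟩, hAM hu, rfl⟩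
      have hTM : T ≤ M.map T.subtype := sup_le hAM' ((hDW.trans hWle).trans (sup_le hAM' hA'M))
      refine hM.1 (eq_top_iff.2 fun t _ => ?_)
      obtain ⟨m, hm, hmt⟩ := hTM t.2
      rwa [← Subtype.ext (show (m : S) = t from hmt)]
    obtain ⟨A₀, hA₀, hmax₀⟩ := Set.exists_max_image {A : Subgroup S | IsMulCommutative ↥A}
      (fun A => Nat.card ↥A) (Set.toFinite _) ⟨D, hDab⟩
    refine le_inf ((hall A₀ ⟨hA₀, hmax₀⟩).trans ((hcentA A₀ ⟨hA₀, hmax₀⟩).trans (le_sSup ⟨hA₀, hmax₀⟩))) ?_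
    rw [Subgroup.le_centralizer_iff]
    exact sSup_le fun A hA => Subgroup.le_centralizer_iff.1 (hall A hA)
  · intro A hAn hAab hmax
    obtain ⟨B, hAB, hBn, hBab, hBC⟩ := CfsgLib.PGroup.exists_normal_abelian_centralizer_eq hS A hAn
      (fun a ha b hb => congrArg Subtype.val (hAab.1.comm (⟨a, ha⟩ : ↥A) ⟨b, hb⟩))
    rw [← hmax B hBn hBab hAB, ← hBC]
    exact hnorm B hBab (by rw [Subgroup.normalizer_eq_top _]; exact le_top)

end Cfsg.Agent.S3062
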