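import Cfsg.Statements.S3063
import Cfsg.Agent.Lib.LocalEven.AbelianReplacement

set_option autoImplicit false
open Cfsg

namespace Cfsg.Agent.S3063

/-- A weak replacement Theorem for metabelian p-groups: let S be a finite p-group whose derived subgroup is abelian and A an abelian subgroup of S of largest possible order. Then the normal closure of A in S contains an abelian subgroup B of the same order as A that is normal in S. -/
theorem result {S : Type*} [Group S] [Finite S] {p : ℕ} [Fact p.Prime]
    (hS : IsPGroup p S) (hmeta : IsMulCommutative ↥(commutator S))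
    (A : Subgroup S) (hA : A ∈ Cfsg.maxAbelianSubgroups S) :
    ∃ B ∈ Cfsg.maxAbelianSubgroups S, B.Normal ∧ B ≤ Subgroup.normalClosure (A : Set S) := by
  set N := Subgroup.normalClosure (A : Set S) with hN
  obtain ⟨B, ⟨hB, hBN⟩, hmax⟩ := Set.exists_max_image
    {B : Subgroup S | B ∈ Cfsg.maxAbelianSubgroups S ∧ B ≤ N}
    (fun B => Nat.card ↥(B ⊓ commutator S)) (Set.toFinite _) ⟨A, hA, Subgroup.le_normalClosure⟩
  refine ⟨B, hB, ⟨fun b hb x => ?_⟩, hBN⟩
  by_contra hnb
  have hne : B.map (MulAut.conj x).toMonoidHom ≠ B := fun h =>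
    hnb (h ▸ CfsgLib.LocalEven.conj_mem_map_conj hb)
  obtain ⟨W, hW, hWle, hlt⟩ := CfsgLib.LocalEven.exists_maxAbelian_inf_lt (K := commutator S) hB
    (fun a ha b hb => congrArg Subtype.val (hmeta.1.comm (⟨a, ha⟩ : ↥(commutator S)) ⟨b, hb⟩))
    (by rw [Subgroup.normalizer_eq_top _]; exact le_top)
    (fun a _ => by
      rw [← commutatorElement_def, commutator_def]
      exact Subgroup.commutator_mem_commutator (Subgroup.mem_top x) (Subgroup.mem_top a)) hne
  have hWN : W ≤ N := hWle.trans (sup_le hBN (by
    rintro _ ⟨u, hu, rfl⟩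
    exact Subgroup.Normal.conj_mem inferInstance u (hBN hu) x))
  exact hlt.not_ge (hmax W ⟨hW, hWN⟩)

end Cfsg.Agent.S3063
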