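import Cfsg.Statements.S3066
import Cfsg.Agent.Lib.LocalEven.Out.Conditions

set_option autoImplicit false
open Cfsg

namespace Cfsg.Agent.S3066

/-- Let G be a finite non-abelian simple group with a nontrivial Sylow 2-subgroup S (that is, G has even order). Then Out(G) = Aut(G)/Inn(G) is solvable provided one of the following holds: (a) S is generated by two elements; (b) S is generated by three elements and N_G(S)/C_G(S) is not a 2-group (some element of N_G(S) of odd order does not centralize S); (c) the involutions of S commute pairwise and are all conjugate in G. -/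
theorem result {G : Type*} [Group G] [Finite G] [IsSimpleGroup G]
    (hG : ¬ IsMulCommutative G) (S : Sylow 2 G) (hS1 : (S : Subgroup G) ≠ ⊥)
    (h : (∃ a b : ↥S, Subgroup.closure ({a, b} : Set ↥S) = ⊤) ∨
      ((∃ a b c : ↥S, Subgroup.closure ({a, b, c} : Set ↥S) = ⊤) ∧
        ∃ g ∈ Subgroup.normalizer ((S : Subgroup G) : Set G), Odd (orderOf g) ∧ g ∉ Subgroup.centralizer ((S : Subgroup G) : Set G)) ∨
      ((∀ s ∈ S, ∀ t ∈ S, orderOf s = 2 → orderOf t = 2 → s * t = t * s) ∧
        (∀ s ∈ S, ∀ t ∈ S, orderOf s = 2 → orderOf t = 2 → ∃ g : G, g * s * g⁻¹ = t))) :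
    Group.IsSolvable (Cfsg.Out G) := by
  haveI : Finite (MulAut G) :=
    Finite.of_injective (fun φ : MulAut G => (φ : G → G)) DFunLike.coe_injective
  refine CfsgLib.LocalEven.SylowAut.isSolvable_out_of_range
    (fun _ _ _ h => Cfsg.Agent.S0205.result h) S hS1 ?_
  rcases h with ⟨a, b, hab⟩ | ⟨⟨a, b, c, habc⟩, g, hg, hgo, hgc⟩ | ⟨h1, h2⟩
  · haveI := CfsgLib.LocalEven.OutCond.isSolvable_mulAut_two S.2 ![a, b]
      (by rw [Matrix.range_cons, Matrix.range_cons, Matrix.range_empty, Set.union_empty,
        Set.singleton_union]; exact hab)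
    infer_instance
  · set SG : Subgroup G := ↑S with hSG
    let ι : ↥(Subgroup.normalizer (SG : Set G)) →* MulAut ↥SG :=
      (CfsgLib.LocalEven.SylowAut.restr SG).comp
        (((MulAut.conj : G →* MulAut G).comp
          (Subgroup.normalizer (SG : Set G)).subtype).codRestrict
            (CfsgLib.LocalEven.SylowAut.stab SG) fun n => CfsgLib.LocalEven.OutCond.conj_mem_stab n.2)
    refine CfsgLib.LocalEven.OutCond.isSolvable_three S.2 ![a, b, c]
      (by rw [Matrix.range_cons, Matrix.range_cons, Matrix.range_cons, Matrix.range_empty,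
        Set.union_empty, Set.singleton_union, Set.singleton_union]; exact habc)
      _ ι.range ?_ (CfsgLib.LocalEven.OutCond.range_le_normalizer SG) ?_ ?_
    · rintro _ ⟨n, rfl⟩
      exact ⟨_, rfl⟩
    · -- the image of `S` is trivial on the Frattini quotient
      rw [MonoidHom.map_range]
      set π := (CfsgLib.LocalEven.OutTools.frattiniHom ↥SG).comp ι with hπ
      have hle : SG.subgroupOf (Subgroup.normalizer (SG : Set G)) ≤ π.ker := fun n hn => by
        rw [hπ, MonoidHom.mem_ker, MonoidHom.comp_apply, ← MonoidHom.mem_ker,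
          CfsgLib.LocalEven.OutTools.mem_ker_frattiniHom]
        intro x
        haveI : Fact (Nat.Prime 2) := ⟨Nat.prime_two⟩
        refine CfsgLib.PGroup.commutator_le_frattini S.2 ?_
        have h := Subgroup.commutator_mem_commutator
          (Subgroup.mem_top (x⁻¹ : ↥SG)) (Subgroup.mem_top (⟨n, hn⟩ : ↥SG))
        rw [← commutator_def] at h
        convert h using 1
        refine Subtype.ext ?_
        show (x : G)⁻¹ * ((n : G) * x * (n : G)⁻¹) = _
        simp [commutatorElement_def, mul_assoc]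
      have hcard : Nat.card π.range = π.ker.index := (Subgroup.index_ker π).symm
      rw [hcard]
      refine Nat.not_even_iff_odd.1 fun he => S.not_dvd_index ((even_iff_two_dvd.1 he).trans
        ((Subgroup.index_dvd_of_le hle).trans (Subgroup.relIndex_dvd_index_of_le Subgroup.le_normalizer)))
    · intro hbot
      refine hgc (Subgroup.mem_centralizer_iff.2 fun x hx => ?_)
      haveI : Fact (Nat.Prime 2) := ⟨Nat.prime_two⟩
      have hk : ι ⟨g, hg⟩ ∈ (CfsgLib.LocalEven.OutTools.frattiniHom ↥SG).ker := by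
        rw [MonoidHom.mem_ker, ← Subgroup.mem_bot, ← hbot]
        exact ⟨_, ⟨_, rfl⟩, rfl⟩
      obtain ⟨k, hk2⟩ := CfsgLib.LocalEven.OutTools.isPGroup_ker_frattiniHom S.2 ⟨_, hk⟩
      have hk2' : ι ⟨g, hg⟩ ^ 2 ^ k = 1 := congrArg Subtype.val hk2
      have hgN : ι ⟨g, hg⟩ ^ orderOf g = 1 := by
        rw [← map_pow, show (⟨g, hg⟩ : ↥(Subgroup.normalizer (SG : Set G))) ^ orderOf g = 1 from
          Subtype.ext (pow_orderOf_eq_one g), map_one]
      have h1 : ι ⟨g, hg⟩ = 1 := orderOf_eq_one_iff.1 (Nat.eq_one_of_dvd_coprimes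
        (((Nat.coprime_two_left.2 hgo).pow_left k))
        (orderOf_dvd_of_pow_eq_one hk2') (orderOf_dvd_of_pow_eq_one hgN))
      have h2 : g * x * g⁻¹ = x := congrArg Subtype.val (DFunLike.congr_fun h1 (⟨x, hx⟩ : ↥SG))
      exact (mul_inv_eq_iff_eq_mul.1 h2).symm
  · exact CfsgLib.LocalEven.OutCond.isSolvable_restr_range S h1 h2

end Cfsg.Agent.S3066
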