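-- Proof of S3067
import Cfsg.Statements.S3067
import Cfsg.Agent.Lib.LocalEven.FixedInvolutionCentralizer
import Cfsg.Agent.Lib.Invol.ZStarFinal
import Cfsg.Agent.Lib.Cores.Basic

set_option autoImplicit false
open Cfsg

namespace Cfsg.Agent.S3067

open CfsgLib.LocalEven.FixedInvCent in
/-- Let G be a finite non-abelian simple group, τ an involution of G, and α a nontrivial automorphism of G whose order is coprime to the order of G. Then α moves some element of the centralizer of τ: α does not fix C_G(τ) elementwise. -/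
theorem result {G : Type*} [Group G] [Finite G] [IsSimpleGroup G]
    (hG : ¬ IsMulCommutative G) (τ : G) (hτ : orderOf τ = 2) (α : MulAut G) (hα : α ≠ 1)
    (hcop : (orderOf α).Coprime (Nat.card G)) :
    ∃ c ∈ Subgroup.centralizer ({τ} : Set G), α c ≠ c := by
  classical
  by_contra hcon
  push Not at hcon
  have hC : Subgroup.centralizer ({τ} : Set G) ≤ coprimeFixed α := fun c hc => hcon c hc
  have hττ : τ * τ = 1 := by rw [← pow_two, ← hτ, pow_orderOf_eq_one]
  have hcore : (coprimeFixed α).normalCore = ⊥ := by
    refine (Subgroup.normalCore_normal (coprimeFixed α)).eq_bot_or_eq_top.resolve_right fun h => ?_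
    apply hα
    have htop : coprimeFixed α = ⊤ :=
      top_le_iff.mp (h ▸ Subgroup.normalCore_le (coprimeFixed α))
    ext g
    have hg : g ∈ coprimeFixed α := htop ▸ Subgroup.mem_top g
    simpa using mem_coprimeFixed.mp hg
  have hiso : Cfsg.IsIsolatedInvolution τ := by
    refine ⟨hτ, fun g hg => ?_⟩
    have hgF : g ∈ coprimeFixed α :=
      mem_of_conj_mem hcop hC (hC (Subgroup.mem_centralizer_singleton_iff.mpr hg.symm.eq))
    have h1 := commutator_mem_normalCore hcop hττ hC hgF
    rw [hcore, Subgroup.mem_bot] at h1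
    rw [eq_inv_of_mul_eq_one_left h1]
    exact inv_eq_of_mul_eq_one_right hττ
  have hO : oddCore G = ⊥ := by
    have hn : (oddCore G).Normal := inferInstance
    refine hn.eq_bot_or_eq_top.resolve_right fun h => ?_
    have h1 := CfsgLib.Cores.odd_card_oddCore (G := G)
    rw [h, Subgroup.card_top] at h1
    have h2 : 2 ∣ Nat.card G := hτ ▸ orderOf_dvd_natCard τ
    exact Nat.not_even_iff_odd.mpr h1 (even_iff_two_dvd.mpr h2)
  have hz := CfsgLib.Invol.zstar_center hiso hO
  rcases (inferInstance : (Subgroup.center G).Normal).eq_bot_or_eq_top with h | h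
  · rw [h, Subgroup.mem_bot] at hz
    rw [hz, orderOf_one] at hτ
    norm_num at hτ
  · exact hG ⟨⟨fun a b => (Subgroup.mem_center_iff.mp (h ▸ Subgroup.mem_top a) b).symm⟩⟩

end Cfsg.Agent.S3067
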