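import Cfsg.Statements.S3069
import Cfsg.Agent.S1993
import Cfsg.Agent.Lib.Transfer.Basic
import Cfsg.Agent.Lib.Solvable.SchurZassenhaus

set_option autoImplicit false
universe u
open Cfsg

namespace Cfsg.Agent.S3069

open Subgroup CfsgLib.Techniques CfsgLib.Techniques.Functor

theorem pow_proj {G : Type*} [Group G] (x : G) (p : ℕ) (hp : p.Prime) (hx : 0 < orderOf x) :
    ∃ k m a : ℕ, orderOf x = p ^ k * m ∧ m.Coprime p ∧ a % m = 1 % m ∧ p ^ k ∣ a := by
  obtain ⟨k, m, hm, he⟩ := Nat.exists_eq_pow_mul_and_not_dvd hx.ne' p hp.ne_one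
  have hc : m.Coprime p := Nat.Coprime.symm ((Nat.Prime.coprime_iff_not_dvd hp).2 hm)
  obtain ⟨a, ha, hb⟩ := Nat.chineseRemainder (hc.pow_right k) 1 0
  exact ⟨k, m, a, he, hc, ha, Nat.modEq_zero_iff_dvd.1 hb⟩

theorem main (n : ℕ) : ∀ {G : Type u} [Group G] [Finite G] {p : ℕ} [Fact p.Prime], Nat.card G = n → 5 ≤ p →
    ∀ S : Sylow p G, (S : Subgroup G) ≠ ⊥ →
      (∀ g ∈ normalizer ((S : Subgroup G) : Set G), (orderOf g).Coprime p →
        g ∈ centralizer ((S : Subgroup G) : Set G)) → ¬ (S : Subgroup G) ≤ commutator G := by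
  induction n using Nat.strong_induction_on with
  | _ n ih =>
  intro G _ _ p hpf hn hp S hS hN hle
  have hpp : p.Prime := Fact.out
  set K := inducedFunctor kInfUpper (S : Subgroup G) with hK
  have hW := KSeq.isCharPFunctor_kInfUpper.{u} p
  have hKS : K ≤ (S : Subgroup G) := induced_le _
  have hK1 : K ≠ ⊥ := induced_ne_bot hW S.2 hS
  set H := normalizer (K : Set G) with hH
  have hSH : (S : Subgroup G) ≤ H := le_normalizer.trans (normalizer_induced_ge hW S.2)
  have h1 := (Cfsg.Agent.S1993.result S).1 hp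
  have hle' : (S : Subgroup G) ≤ ⁅H, H⁆ := by
    intro x hx
    have : x ∈ (S : Subgroup G) ⊓ commutator G := ⟨hx, hle hx⟩
    exact (h1.le this).2
  set S' : Sylow p ↥H := S.subtype hSH with hS'
  have hS'e : (S' : Subgroup ↥H) = (S : Subgroup G).subgroupOf H := S.coe_subtype hSH
  have hder : (S' : Subgroup ↥H) ≤ commutator ↥H := by
    rw [hS'e, _root_.commutator_def]
    intro x hx
    have h2 : (x : G) ∈ ⁅H, H⁆ := hle' hx
    rw [show ⁅H, H⁆ = (⁅(⊤ : Subgroup ↥H), (⊤ : Subgroup ↥H)⁆).map H.subtype by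
      rw [map_commutator, ← MonoidHom.range_eq_map, range_subtype]] at h2
    obtain ⟨y, hy, hxy⟩ := h2
    rwa [← Subtype.ext hxy]
  have hN' : ∀ g ∈ normalizer ((S' : Subgroup ↥H) : Set ↥H), (orderOf g).Coprime p →
      g ∈ centralizer ((S' : Subgroup ↥H) : Set ↥H) := by
    intro g hg hgp
    have hgn : (g : G) ∈ normalizer ((S : Subgroup G) : Set G) := by
      refine Subgroup.mem_normalizer_fintype fun x hx => ?_
      have hx' : (⟨x, hSH hx⟩ : ↥H) ∈ (S' : Subgroup ↥H) := by rw [hS'e]; exact hx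
      have h2 := (mem_normalizer_iff.1 hg _).1 hx'
      rw [hS'e] at h2
      exact h2
    have := hN _ hgn (by rwa [Subgroup.orderOf_coe])
    refine mem_centralizer_iff.2 fun x hx => Subtype.ext ?_
    rw [hS'e] at hx
    exact mem_centralizer_iff.1 this _ hx
  by_cases hKe : K = (S : Subgroup G)
  · -- `S` is normal in `H`
    haveI hSn : (S' : Subgroup ↥H).Normal := by
      rw [hS'e, ← hKe]
      exact normal_subgroupOf_of_le_normalizer le_rfl
    obtain ⟨C, hC⟩ := exists_right_complement'_of_coprime S'.card_coprime_index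
    have hcard : Nat.card ↥C = (S' : Subgroup ↥H).index := hC.symm.index_eq_card.symm
    have hcent : ∀ c ∈ C, c ∈ centralizer ((S' : Subgroup ↥H) : Set ↥H) := fun c hc => by
      refine hN' c (by rw [normalizer_eq_top_iff.2 hSn]; trivial) ?_
      refine Nat.Coprime.symm ((Nat.Prime.coprime_iff_not_dvd hpp).2 fun hd => S'.not_dvd_index ?_)
      rw [← hcard]
      exact hd.trans (Subgroup.orderOf_dvd_natCard _ hc)
    haveI hCn : C.Normal := by
      refine ⟨fun c hc g => ?_⟩
      obtain ⟨⟨s, c'⟩, hg⟩ := hC.2 g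
      have hs := (mem_centralizer_iff.1 (hcent _ (mul_mem (mul_mem c'.2 hc) (inv_mem c'.2))) s.1 s.2)
      rw [← hg]
      show (s : ↥H) * c' * c * ((s : ↥H) * c')⁻¹ ∈ C
      rw [show (s : ↥H) * c' * c * ((s : ↥H) * c')⁻¹ = (s : ↥H) * ((c' : ↥H) * c * (c' : ↥H)⁻¹) *
        (s : ↥H)⁻¹ by group, hs, mul_inv_cancel_right]
      exact mul_mem (mul_mem c'.2 hc) (inv_mem c'.2)
    let e : (↥H ⧸ C) ≃* ↥(S' : Subgroup ↥H) := hC.QuotientMulEquiv
    have hmap : (S' : Subgroup ↥H).map (e.toMonoidHom.comp (QuotientGroup.mk' C)) ≤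
        commutator ↥(S' : Subgroup ↥H) := by
      refine (map_mono hder).trans ?_
      rw [_root_.commutator_def, _root_.commutator_def, map_commutator]
      exact commutator_mono le_top le_top
    have htop : (⊤ : Subgroup ↥(S' : Subgroup ↥H)) ≤ commutator ↥(S' : Subgroup ↥H) := by
      refine le_trans ?_ hmap
      intro y _
      obtain ⟨z, hz⟩ := e.surjective y
      obtain ⟨g, rfl⟩ := QuotientGroup.mk'_surjective C z
      obtain ⟨⟨s, c⟩, hg⟩ := hC.2 g
      refine ⟨s, s.2, ?_⟩
      rw [← hz, ← hg]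
      show e (QuotientGroup.mk' C (s : ↥H)) = e (QuotientGroup.mk' C ((s : ↥H) * c))
      rw [map_mul, show QuotientGroup.mk' C (c : ↥H) = 1 from (QuotientGroup.eq_one_iff _).2 c.2, mul_one]
    have hne : Nontrivial ↥(S' : Subgroup ↥H) := by
      refine (nontrivial_iff_ne_bot _).2 fun h => hS ?_
      rw [hS'e, subgroupOf_eq_bot, disjoint_iff, inf_eq_left.2 hSH] at h
      exact h
    haveI := S'.2.isNilpotent
    exact IsSolvable.commutator_lt_top_of_nontrivial ↥(S' : Subgroup ↥H) |>.not_ge htop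
  · -- pass to `H / K`
    haveI hKn : (K.subgroupOf H).Normal := normal_subgroupOf_of_le_normalizer le_rfl
    set π := QuotientGroup.mk' (K.subgroupOf H) with hπ
    have hπs := QuotientGroup.mk'_surjective (K.subgroupOf H)
    let Sb : Sylow p (↥H ⧸ K.subgroupOf H) := S'.mapSurjective hπs
    have hKle : K.subgroupOf H ≤ (S' : Subgroup ↥H) := by
      rw [hS'e]; exact fun x hx => hKS hx
    have hSb : (Sb : Subgroup _) = (S' : Subgroup ↥H).map π := rfl
    have hlt : Nat.card (↥H ⧸ K.subgroupOf H) < n := by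
      have h2 := card_eq_card_quotient_mul_card_subgroup (K.subgroupOf H)
      have h3 : 1 < Nat.card ↥(K.subgroupOf H) := by
        rw [Nat.card_congr (subgroupOfEquivOfLe (hKS.trans hSH)).toEquiv]
        exact (one_lt_card_iff_ne_bot _).2 hK1
      have h4 : Nat.card ↥H ≤ n := hn ▸ card_le_card_group H
      have h5 : 0 < Nat.card (↥H ⧸ K.subgroupOf H) := Nat.card_pos
      nlinarith
    refine ih _ hlt rfl hp Sb ?_ ?_ ?_
    · intro hb
      rw [hSb, Subgroup.map_eq_bot_iff, QuotientGroup.ker_mk', hS'e] at hb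
      exact hKe (le_antisymm hKS fun x hx => hb (show (⟨x, hSH hx⟩ : ↥H) ∈ _ from hx))
    · intro g hg hgp
      obtain ⟨x, rfl⟩ := hπs g
      have hxn : x ∈ normalizer ((S' : Subgroup ↥H) : Set ↥H) := by
        refine Subgroup.mem_normalizer_fintype fun y hy => ?_
        have h2 : π x * π y * (π x)⁻¹ ∈ (S' : Subgroup ↥H).map π :=
          (mem_normalizer_iff.1 hg _).1 ⟨y, hy, rfl⟩
        obtain ⟨z, hz, hze⟩ := h2
        rw [← map_inv, ← map_mul, ← map_mul, QuotientGroup.mk'_eq_mk'] at hze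
        obtain ⟨k, hk, hke⟩ := hze
        show x * y * x⁻¹ ∈ (S' : Subgroup ↥H)
        rw [← hke]
        exact mul_mem hz (hKle hk)
      obtain ⟨k, m, a, he, hm, ha, hka⟩ := pow_proj x p hpp (orderOf_pos x)
      have hxa : (orderOf (x ^ a)).Coprime p := by
        refine Nat.Coprime.coprime_dvd_left (orderOf_dvd_of_pow_eq_one ?_) hm
        obtain ⟨c, rfl⟩ := hka
        rw [← pow_mul, show p ^ k * c * m = p ^ k * m * c by ring, pow_mul, ← he, pow_orderOf_eq_one,
          one_pow]
      have hgm : orderOf (π x) ∣ m := by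
        have h2 := orderOf_map_dvd π x
        rw [he] at h2
        exact (Nat.Coprime.pow_right k hgp).dvd_of_dvd_mul_left h2
      have hpa : π x = π (x ^ a) := by
        rw [map_pow]
        conv_lhs => rw [← pow_one (π x)]
        exact pow_eq_pow_iff_modEq.2 (Nat.ModEq.of_dvd hgm ha).symm
      have hc := hN' _ (pow_mem hxn a) hxa
      rw [hpa]
      refine mem_centralizer_iff.2 ?_
      rintro _ ⟨y, hy, rfl⟩
      show π y * π (x ^ a) = π (x ^ a) * π y
      rw [← map_mul, ← map_mul, mem_centralizer_iff.1 hc y hy]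
    · rw [hSb]
      refine (map_mono hder).trans ?_
      rw [_root_.commutator_def, _root_.commutator_def, map_commutator]
      exact commutator_mono le_top le_top

/-- Let p ≥ 7 be a prime and S a nontrivial Sylow p-subgroup of the finite group G. If N_G(S)/C_G(S) is a p-group (every element of N_G(S) of order prime to p centralizes S), then O^p(G) < G, i.e. G has a nontrivial p-factor group. -/
theorem result {G : Type*} [Group G] [Finite G] {p : ℕ} [Fact p.Prime]
    (hp : 7 ≤ p) (S : Sylow p G) (hS : (S : Subgroup G) ≠ ⊥)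
    (hN : ∀ g ∈ Subgroup.normalizer ((S : Subgroup G) : Set G), (orderOf g).Coprime p →
      g ∈ Subgroup.centralizer ((S : Subgroup G) : Set G)) :
    Cfsg.pResidual p G ≠ ⊤ := by
  intro htop
  refine main (Nat.card G) rfl (by omega) S hS hN fun s hs => ?_
  have hpp : p.Prime := Fact.out
  obtain ⟨k, m, hm, he⟩ := Nat.exists_eq_pow_mul_and_not_dvd (Nat.card_pos (α := Abelianization G)).ne' p hpp.ne_one
  let φ : G →* Abelianization G := (powMonoidHom m).comp Abelianization.of
  have hA : IsPGroup p ↥φ.range := by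
    rintro ⟨_, g, rfl⟩
    refine ⟨k, Subtype.ext ?_⟩
    show ((Abelianization.of g) ^ m) ^ (p ^ k) = 1
    rw [← pow_mul, mul_comm, ← he]
    exact pow_card_eq_one'
  have h1 : s ∈ (φ.rangeRestrict).ker := CfsgLib.Transfer.pResidual_le_ker hA _ (htop ▸ mem_top s)
  have h2 : (Abelianization.of s) ^ m = 1 := congrArg Subtype.val h1
  obtain ⟨j, hj⟩ := S.2 ⟨s, hs⟩
  have h3 : (Abelianization.of s) ^ (p ^ j) = 1 := by
    rw [← map_pow, show s ^ (p ^ j) = 1 from congrArg Subtype.val hj, map_one]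
  have h4 : orderOf (Abelianization.of s) = 1 :=
    Nat.eq_one_of_dvd_coprimes (((Nat.Prime.coprime_iff_not_dvd hpp).2 hm).pow_left j)
      (orderOf_dvd_of_pow_eq_one h3) (orderOf_dvd_of_pow_eq_one h2)
  rw [orderOf_eq_one_iff] at h4
  exact (QuotientGroup.eq_one_iff _).1 h4

end Cfsg.Agent.S3069
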