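import Cfsg.Statements.S3071
import Cfsg.Agent.Lib.PStab.ControlLocal
import Cfsg.Agent.Lib.PStab.QdFree

set_option autoImplicit false
open Cfsg

namespace Cfsg.Agent.S3071

/-- Let p be an odd prime and S a Sylow p-subgroup of the finite group G such that, for every subgroup P with Z(S) ≤ P ≤ S, the normalizer N_G(P) has no section isomorphic to SL₂(p). Let J(S) be the subgroup generated by the abelian subgroups of S of largest order. Then two elements of S are conjugate in G if and only if they are conjugate in N_G(Z(J(S))). -/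
theorem result {G : Type*} [Group G] [Finite G] {p : ℕ} [Fact p.Prime]
    (hp : p ≠ 2) (S : Sylow p G)
    (hfree : ∀ P : Subgroup G, (S : Subgroup G) ⊓ Subgroup.centralizer ((S : Subgroup G) : Set G) ≤ P → P ≤ S →
      ¬ ∃ (H K : Subgroup G) (hK : (K.subgroupOf H).Normal), H ≤ Subgroup.normalizer (P : Set G) ∧
        Nonempty ((H ⧸ K.subgroupOf H) ≃* Matrix.SpecialLinearGroup (Fin 2) (ZMod p))) :
    ∀ x ∈ S, ∀ y ∈ S, (∃ g : G, g * x * g⁻¹ = y) ↔
      ∃ n ∈ Subgroup.normalizer (Cfsg.centerThompsonAOf (S : Subgroup G) : Set G), n * x * n⁻¹ = y := by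
  have hst : ∀ X : Subgroup G, (S : Subgroup G) ⊓ Subgroup.centralizer ((S : Subgroup G) : Set G) ≤ X →
      X ≤ (S : Subgroup G) → CfsgLib.PStab.StableAll p ↥(Subgroup.normalizer (X : Set G)) := by
    intro X h1 h2
    refine CfsgLib.PStab.stableAll_of_qdFree hp (CfsgLib.PStab.not_involves_qd_of_sl2 ?_)
    rintro ⟨H, R, hn, ⟨e⟩⟩
    let i := H.equivMapOfInjective _ (Subgroup.normalizer (X : Set G)).subtype_injective
    let f := e.toMonoidHom.comp ((QuotientGroup.mk' (R.subgroupOf H)).comp i.symm.toMonoidHom)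
    have hf : Function.Surjective f :=
      e.surjective.comp ((QuotientGroup.mk'_surjective _).comp i.symm.surjective)
    have e' : (f.ker.map (H.map (Subgroup.normalizer (X : Set G)).subtype).subtype).subgroupOf
        (H.map (Subgroup.normalizer (X : Set G)).subtype) = f.ker :=
      Subgroup.comap_map_eq_self_of_injective (Subgroup.subtype_injective _) _
    have hn' : ((f.ker.map (H.map (Subgroup.normalizer (X : Set G)).subtype).subtype).subgroupOf
        (H.map (Subgroup.normalizer (X : Set G)).subtype)).Normal := e'.symm ▸ inferInstance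
    exact hfree X h1 h2 ⟨_, _, hn', Subgroup.map_subtype_le _,
      ⟨(QuotientGroup.quotientMulEquivOfEq e').trans (QuotientGroup.quotientKerEquivOfSurjective f hf)⟩⟩
  intro x hx y hy
  refine ⟨fun ⟨g, hg⟩ => ?_, fun ⟨n, _, h⟩ => ⟨n, h⟩⟩
  obtain ⟨m, hm, hag⟩ := CfsgLib.PStab.control_of_local_stable S hp hst (Subgroup.zpowers x) g
    (Subgroup.zpowers_le.2 hx) (by
      rw [show CfsgLib.Fusion.conjSub g (Subgroup.zpowers x) = Subgroup.zpowers y by
        rw [← hg]; exact MonoidHom.map_zpowers _ x]
      exact Subgroup.zpowers_le.2 hy)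
  refine ⟨m, ?_, (hag x (Subgroup.mem_zpowers x)).trans hg⟩
  rwa [CfsgLib.PStab.centerThompsonAOf_eq_zjGen]

end Cfsg.Agent.S3071
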