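import Cfsg.Statements.S3074
import Cfsg.Agent.Lib.Techniques.QdBasics
import Cfsg.Agent.Lib.PGroup.Extraspecial
import Cfsg.Agent.Lib.LocalEven.Basic

set_option autoImplicit false
open Cfsg

namespace Cfsg.Agent.S3074

/-- Let p be an odd prime. A Sylow p-subgroup of Qd(p), the split extension of an elementary abelian group of order p² by SL₂(p) acting naturally, is extraspecial of order p³ and exponent p. -/
theorem result (p : ℕ) [Fact p.Prime] (hp : p ≠ 2) (P : Sylow p ↥(Cfsg.qd p)) :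
    Cfsg.IsExtraspecial p ↥P ∧ Nat.card P = p ^ 3 ∧ Monoid.exponent ↥P = p := by
  classical
  have hp3 : 2 < p := lt_of_le_of_ne (Fact.out : p.Prime).two_le (Ne.symm hp)
  let U3 : ZMod p → ZMod p → ZMod p → ↥(Cfsg.qd p) := fun a x y =>
    ⟨CfsgLib.Techniques.Qd.mk 1 a 0 1 x y (by ring), CfsgLib.Techniques.Qd.mk_mem _ _ _ _ _ _ _⟩
  have hmul : ∀ a x y a' x' y', U3 a x y * U3 a' x' y' = U3 (a + a') (x + x' + a * y') (y + y') := by
    intro a x y a' x' y'
    apply Subtype.ext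
    simp only [U3, Subgroup.coe_mul, CfsgLib.Techniques.Qd.mk_mul]
    congr 1 <;> ring
  have hone : U3 0 0 0 = 1 := Subtype.ext (CfsgLib.Techniques.Qd.mk_one (by ring))
  have hinj : ∀ a x y a' x' y', U3 a x y = U3 a' x' y' → a = a' ∧ x = x' ∧ y = y' := by
    intro a x y a' x' y' h
    have h' : (CfsgLib.Techniques.Qd.mk 1 a 0 1 x y (by ring)).1 =
        (CfsgLib.Techniques.Qd.mk 1 a' 0 1 x' y' (by ring)).1 :=
      congrArg Subtype.val (congrArg Subtype.val h)
    refine ⟨?_, ?_, ?_⟩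
    · simpa [CfsgLib.Techniques.Qd.mk] using congrFun (congrFun h' 0) 1
    · simpa [CfsgLib.Techniques.Qd.mk] using congrFun (congrFun h' 0) 2
    · simpa [CfsgLib.Techniques.Qd.mk] using congrFun (congrFun h' 1) 2
  let U : Subgroup ↥(Cfsg.qd p) :=
    { carrier := {M | ∃ a x y, M = U3 a x y}
      one_mem' := ⟨0, 0, 0, hone.symm⟩
      mul_mem' := by
        rintro _ _ ⟨a, x, y, rfl⟩ ⟨a', x', y', rfl⟩
        exact ⟨_, _, _, hmul _ _ _ _ _ _⟩
      inv_mem' := by
        rintro _ ⟨a, x, y, rfl⟩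
        refine ⟨-a, -x + a * y, -y, inv_eq_of_mul_eq_one_right ?_⟩
        rw [hmul, ← hone]
        congr 1 <;> ring }
  have hpowU : ∀ a x y (n : ℕ), U3 a x y ^ n = U3 (n * a) (n * x + (n.choose 2 : ℕ) * a * y) (n * y) := by
    intro a x y n
    induction n with
    | zero => simp [hone]
    | succ n ih =>
      rw [pow_succ, ih, hmul, Nat.choose_succ_succ, Nat.choose_one_right]
      congr 1 <;> push_cast <;> ring
  have hexpU : ∀ u : ↥U, u ^ p = 1 := by
    rintro ⟨_, a, x, y, rfl⟩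
    apply Subtype.ext
    rw [SubmonoidClass.coe_pow, hpowU, Subgroup.coe_one, ← hone]
    obtain ⟨t, ht⟩ := (Fact.out : p.Prime).dvd_choose_self (k := 2) two_ne_zero hp3
    rw [ht]
    push_cast
    rw [ZMod.natCast_self]
    congr 1 <;> ring
  have hUp : IsPGroup p ↥U := fun u => ⟨1, by rw [pow_one]; exact hexpU u⟩
  have hUcard : Nat.card ↥U = p ^ 3 := by
    rw [← Nat.card_congr (Equiv.ofBijective
      (fun v : ZMod p × ZMod p × ZMod p => (⟨U3 v.1 v.2.1 v.2.2, _, _, _, rfl⟩ : ↥U)) ⟨?_, ?_⟩)]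
    · simp [Nat.card_prod]; ring
    · rintro ⟨a, x, y⟩ ⟨a', x', y'⟩ h
      obtain ⟨h1, h2, h3⟩ := hinj _ _ _ _ _ _ (congrArg Subtype.val h)
      exact Prod.ext h1 (Prod.ext h2 h3)
    · rintro ⟨_, a, x, y, rfl⟩
      exact ⟨(a, x, y), rfl⟩
  obtain ⟨T, hUT⟩ := hUp.exists_le_sylow
  have hTU : U = (T : Subgroup ↥(Cfsg.qd p)) := by
    refine CfsgLib.LocalEven.eq_of_inf_normalizer_le T.2 hUT ?_
    rintro M ⟨hMT, hMN⟩
    obtain ⟨a, b, c, d, x, y, h, hM⟩ := CfsgLib.Techniques.Qd.exists_mk M.2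
    have hcM : c = 0 := by
      obtain ⟨t, u, v, htuv⟩ := CfsgLib.LocalEven.conj_mem_of_mem_normalizer hMN
        (show U3 1 0 0 ∈ U from ⟨1, 0, 0, rfl⟩)
      rw [mul_inv_eq_iff_eq_mul] at htuv
      have h' := congrArg (fun N : ↥(Cfsg.qd p) => (N : Matrix.SpecialLinearGroup (Fin 3) (ZMod p)).1 1 1) htuv
      simp only [U3, Subgroup.coe_mul, hM, CfsgLib.Techniques.Qd.mk_mul] at h'
      simpa [CfsgLib.Techniques.Qd.mk] using h'
    subst hcM
    obtain ⟨k, hk⟩ := T.2 ⟨M, hMT⟩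
    have hpow : ∀ n : ℕ, ∃ b' d' x' y' h', ((M ^ n : ↥(Cfsg.qd p)) : Matrix.SpecialLinearGroup (Fin 3) (ZMod p)) =
        CfsgLib.Techniques.Qd.mk (a ^ n) b' 0 d' x' y' h' := by
      intro n
      induction n with
      | zero =>
        refine ⟨0, 1, 0, 0, by ring, ?_⟩
        simp only [pow_zero]
        exact (CfsgLib.Techniques.Qd.mk_one (by ring)).symm
      | succ n ih =>
        obtain ⟨b', d', x', y', h', hn⟩ := ih
        refine ⟨a ^ n * b + b' * d, d' * d, a ^ n * x + b' * y + x', d' * y + y',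
          by linear_combination (a * d) * h' + h, ?_⟩
        rw [pow_succ, Subgroup.coe_mul, hn, hM, CfsgLib.Techniques.Qd.mk_mul]
        congr 1 <;> ring
    obtain ⟨b', d', x', y', h', hn⟩ := hpow (p ^ k)
    have hk' : M ^ (p ^ k) = 1 := congrArg Subtype.val hk
    rw [hk', Subgroup.coe_one, ← CfsgLib.Techniques.Qd.mk_one (p := p) (by ring)] at hn
    have ha : a = 1 := by
      have h1 := congrArg (fun N : Matrix.SpecialLinearGroup (Fin 3) (ZMod p) => N.1 0 0) hn
      simp [CfsgLib.Techniques.Qd.mk, ZMod.pow_card_pow] at h1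
      exact h1.symm
    subst ha
    have hd : d = 1 := by linear_combination h
    subst hd
    exact ⟨b, x, y, Subtype.ext hM⟩
  let T' : Sylow p ↥(Cfsg.qd p) := T
  obtain e := Sylow.equiv P T
  have eU : ↥(P : Subgroup ↥(Cfsg.qd p)) ≃* ↥U := e.trans (MulEquiv.subgroupCongr hTU.symm)
  have hcomm : ∀ a x y a' x' y', (U3 a x y * U3 a' x' y' = U3 a' x' y' * U3 a x y) ↔ a * y' = a' * y := by
    intro a x y a' x' y'
    rw [hmul, hmul]
    constructor
    · intro h
      have := (hinj _ _ _ _ _ _ h).2.1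
      linear_combination this
    · intro h
      congr 1
      · ring
      · linear_combination h
      · ring
  have hcen : ∀ u : ↥U, u ∈ Subgroup.center ↥U ↔ ∃ x, (u : ↥(Cfsg.qd p)) = U3 0 x 0 := by
    rintro ⟨_, a, x, y, rfl⟩
    rw [Subgroup.mem_center_iff]
    constructor
    · intro h
      have h1 := (hcomm _ _ _ _ _ _).1 (congrArg Subtype.val (h ⟨U3 0 0 1, _, _, _, rfl⟩)).symm
      have h2 := (hcomm _ _ _ _ _ _).1 (congrArg Subtype.val (h ⟨U3 1 0 0, _, _, _, rfl⟩)).symm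
      simp only [mul_one, zero_mul, mul_zero, one_mul] at h1 h2
      exact ⟨x, by rw [h1, ← h2]⟩
    · rintro ⟨x', hx'⟩ ⟨_, a', x'', y', rfl⟩
      obtain ⟨rfl, -, rfl⟩ := hinj _ _ _ _ _ _ hx'
      exact Subtype.ext ((hcomm _ _ _ _ _ _).2 (by ring))
  have hE : Cfsg.IsExtraspecial p ↥U := by
    refine CfsgLib.PGroup.isExtraspecial_mk hUp ?_ ?_ ?_ ?_
    · rw [← Nat.card_congr (Equiv.ofBijective
        (fun x : ZMod p => (⟨⟨U3 0 x 0, _, _, _, rfl⟩, (hcen _).2 ⟨x, rfl⟩⟩ : Subgroup.center ↥U)) ⟨?_, ?_⟩)]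
      · exact Nat.card_zmod p
      · intro x x' h
        exact (hinj _ _ _ _ _ _ (congrArg (fun w : Subgroup.center ↥U => ((w : ↥U) : ↥(Cfsg.qd p))) h)).2.1
      · intro w
        obtain ⟨x, hx⟩ := (hcen _).1 w.2
        exact ⟨x, Subtype.ext (Subtype.ext hx.symm)⟩
    · intro h
      have h1 := (hcomm 1 0 0 0 0 1).1 (congrArg Subtype.val
        (h.1.comm (⟨U3 1 0 0, _, _, _, rfl⟩ : ↥U) ⟨U3 0 0 1, _, _, _, rfl⟩))
      simp at h1
    · rintro ⟨_, a, x, y, rfl⟩ ⟨_, a', x', y', rfl⟩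
      refine (hcen _).2 ⟨a * y' - a' * y, ?_⟩
      simp only [commutatorElement_def, Subgroup.coe_mul, Subgroup.coe_inv]
      rw [mul_inv_eq_iff_eq_mul, mul_inv_eq_iff_eq_mul, hmul, hmul, hmul]
      congr 1 <;> ring
    · intro u
      rw [hexpU u]
      exact one_mem _
  refine ⟨?_, by rw [Nat.card_congr eU.toEquiv, hUcard], ?_⟩
  · refine CfsgLib.PGroup.isExtraspecial_mk P.2 ?_ ?_ ?_ ?_
    · exact (Nat.card_congr (Subgroup.centerCongr eU).toEquiv).trans hE.2
    · intro h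
      exact CfsgLib.PGroup.extraspecial_not_comm hE ⟨⟨fun a b => eU.symm.injective (by
        rw [map_mul, map_mul]; exact h.1.comm _ _)⟩⟩
    · intro a b
      refine Subgroup.mem_center_iff.2 fun g => eU.injective ?_
      rw [map_mul, map_mul, map_commutatorElement]
      exact Subgroup.mem_center_iff.1 (CfsgLib.PGroup.special_comm_mem_center hE.1 _ _) _
    · intro a
      have : a ^ p = 1 := eU.injective (by rw [map_pow, map_one]; exact hexpU _)
      rw [this]; exact one_mem _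
  · refine Nat.dvd_antisymm (Monoid.exponent_dvd_of_forall_pow_eq_one fun a =>
      eU.injective (by rw [map_pow, map_one]; exact hexpU _)) ?_
    rcases (Nat.dvd_prime (Fact.out : p.Prime)).1 (Monoid.exponent_dvd_of_forall_pow_eq_one
      (G := ↥(P : Subgroup ↥(Cfsg.qd p))) fun a => eU.injective (by rw [map_pow, map_one]; exact hexpU _)) with h | h
    · have hs : Subsingleton ↥(P : Subgroup ↥(Cfsg.qd p)) := Monoid.exp_eq_one_iff.1 h
      have h1 := Nat.card_congr eU.toEquiv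
      rw [hUcard, Nat.card_unique] at h1
      exact absurd h1.symm (Nat.one_lt_pow three_ne_zero (Fact.out : p.Prime).one_lt).ne'
    · exact h.symm ▸ dvd_rfl

end Cfsg.Agent.S3074
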