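import Cfsg.Statements.S3075
import Mathlib.LinearAlgebra.Matrix.Charpoly.FiniteField
import Mathlib.Tactic.LinearCombination
import Mathlib.Tactic.IntervalCases

set_option autoImplicit false
open Cfsg

namespace Cfsg.Agent.S3075

/-- Let p be an odd prime and N a finite group with a normal elementary abelian subgroup A of order p² that is its own centralizer in N, such that N/A is isomorphic to SL₂(p) (over any field F with p elements). Then N splits over A: some subgroup U of N satisfies A ∩ U = 1 and AU = N. -/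
theorem result {N : Type*} [Group N] [Finite N] {p : ℕ} [Fact p.Prime] (hp : p ≠ 2)
    (A : Subgroup N) [A.Normal] (hAcomm : IsMulCommutative A) (hAcard : Nat.card A = p ^ 2) (hAexp : Monoid.exponent ↥A = p)
    (hAself : Subgroup.centralizer (A : Set N) = A)
    {F : Type*} [Field F] [Fintype F] (hF : Fintype.card F = p) (e : N ⧸ A ≃* Matrix.SpecialLinearGroup (Fin 2) F) :
    ∃ U : Subgroup N, A ⊓ U = ⊥ ∧ A ⊔ U = ⊤ := by
  classical
  have hp2 : p.Prime := Fact.out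
  set f : N →* Matrix.SpecialLinearGroup (Fin 2) F := e.toMonoidHom.comp (QuotientGroup.mk' A) with hf
  have hfs : Function.Surjective f := e.surjective.comp (QuotientGroup.mk'_surjective A)
  have hker : ∀ n : N, f n = 1 ↔ n ∈ A := fun n => by
    rw [← QuotientGroup.eq_one_iff]
    exact e.map_eq_one_iff
  have hAc : ∀ a ∈ A, ∀ b ∈ A, a * b = b * a := fun a ha b hb =>
    congrArg Subtype.val (hAcomm.1.comm (⟨a, ha⟩ : ↥A) ⟨b, hb⟩)
  have hAp : ∀ a ∈ A, a ^ p = 1 := fun a ha => by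
    have := congrArg Subtype.val (Monoid.pow_exponent_eq_one (⟨a, ha⟩ : ↥A))
    rw [hAexp] at this
    simpa using this
  haveI : CharP F p := by
    obtain ⟨q, hq⟩ := CharP.exists F
    obtain ⟨n, hqp, hn⟩ := FiniteField.card F q
    rw [hF] at hn
    have hqe : q = p := (Nat.prime_dvd_prime_iff_eq hqp hp2).1 (hn ▸ dvd_pow_self q n.ne_zero)
    exact hqe ▸ hq
  haveI : Fact (2 < p) := ⟨lt_of_le_of_ne hp2.two_le (Ne.symm hp)⟩
  have h21 : (1 : F) ≠ -1 := (CharP.neg_one_ne_one F p).symm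
  obtain ⟨t₀, ht₀⟩ := hfs (-1)
  set t := t₀ ^ p with htdef
  have hft : f t = -1 := by
    rw [htdef, map_pow, ht₀, (hp2.odd_of_ne_two hp).neg_one_pow]
  have htt : t * t = 1 := by
    rw [htdef, ← pow_add, ← two_mul, mul_comm, pow_mul']
    exact hAp _ ((hker _).1 (by rw [map_pow, ht₀, neg_one_sq]))
  have htA : t ∉ A := fun h => by
    have h1 := (hker t).2 h
    rw [hft] at h1
    have := congrArg (fun M : Matrix.SpecialLinearGroup (Fin 2) F => M.1 0 0) h1
    simp at this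
    exact h21 this.symm
  have hnt : ∀ n : N, n * t * n⁻¹ * t⁻¹ ∈ A := fun n => (hker _).1 (by
    rw [map_mul, map_mul, map_mul, map_inv, map_inv, hft, mul_neg, mul_one]; simp)
  set B := A ⊓ Subgroup.centralizer ({t} : Set N) with hB
  have hBn : B.Normal := by
    refine ⟨fun a ha n => ⟨(inferInstance : A.Normal).conj_mem a ha.1 n, Subgroup.mem_centralizer_singleton_iff.2 ?_⟩⟩
    have h1 : Commute (n * a * n⁻¹) (n * t * n⁻¹) := by
      have := Subgroup.mem_centralizer_singleton_iff.1 ha.2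
      rw [commute_iff_eq]
      calc n * a * n⁻¹ * (n * t * n⁻¹) = n * (a * t) * n⁻¹ := by group
        _ = n * t * n⁻¹ * (n * a * n⁻¹) := by rw [this]; group
    have h2 : Commute (n * a * n⁻¹) (n * t * n⁻¹ * t⁻¹) :=
      hAc _ ((inferInstance : A.Normal).conj_mem a ha.1 n) _ (hnt n)
    have h3 := h2.inv_right.mul_right h1
    rw [show (n * t * n⁻¹ * t⁻¹)⁻¹ * (n * t * n⁻¹) = t by group] at h3
    exact h3.eq
  -- elements act on a normal subgroup of prime order through commuting automorphisms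
  have hgen : ∀ {M : Type _} [Group M] [Finite M] (L : Subgroup M) [L.Normal], Nat.card ↥L = p →
      ∀ m₁ m₂ : M, ∀ b ∈ L, (m₁ * m₂ * m₁⁻¹ * m₂⁻¹) * b = b * (m₁ * m₂ * m₁⁻¹ * m₂⁻¹) := by
    intro M _ _ L hL hcard m₁ m₂ b hb
    haveI : IsCyclic ↥L := isCyclic_of_prime_card hcard
    obtain ⟨z, hz⟩ := IsCyclic.exists_generator (α := ↥L)
    have hrep : ∀ m : M, ∃ k : ℤ, ∀ u ∈ L, m * u * m⁻¹ = u ^ k := by
      intro m
      obtain ⟨k, hk⟩ := Subgroup.mem_zpowers_iff.1 (hz ⟨_, hL.conj_mem _ z.2 m⟩)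
      refine ⟨k, fun u hu => ?_⟩
      obtain ⟨i, hi⟩ := Subgroup.mem_zpowers_iff.1 (hz ⟨u, hu⟩)
      have hk' : (z : M) ^ k = m * z * m⁻¹ := by simpa using congrArg Subtype.val hk
      have hi' : (z : M) ^ i = u := by simpa using congrArg Subtype.val hi
      rw [← hi', ← conj_zpow, ← hk', ← zpow_mul, ← zpow_mul, mul_comm]
    obtain ⟨k₁, hk₁⟩ := hrep m₁
    obtain ⟨k₂, hk₂⟩ := hrep m₂
    have h12 : m₁ * m₂ * b * (m₁ * m₂)⁻¹ = m₂ * m₁ * b * (m₂ * m₁)⁻¹ := by
      calc m₁ * m₂ * b * (m₁ * m₂)⁻¹ = m₁ * (m₂ * b * m₂⁻¹) * m₁⁻¹ := by group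
        _ = (b ^ k₁) ^ k₂ := by rw [hk₂ b hb, ← conj_zpow, hk₁ b hb]
        _ = (b ^ k₂) ^ k₁ := by rw [← zpow_mul, ← zpow_mul, mul_comm]
        _ = m₂ * (m₁ * b * m₁⁻¹) * m₂⁻¹ := by rw [hk₁ b hb, ← conj_zpow, hk₂ b hb]
        _ = m₂ * m₁ * b * (m₂ * m₁)⁻¹ := by group
    -- apply it to the conjugate of `b` by `(m₂ m₁)⁻¹`
    have h13 : ∀ u ∈ L, m₁ * m₂ * u * (m₁ * m₂)⁻¹ = m₂ * m₁ * u * (m₂ * m₁)⁻¹ := fun u hu => by
      calc m₁ * m₂ * u * (m₁ * m₂)⁻¹ = m₁ * (m₂ * u * m₂⁻¹) * m₁⁻¹ := by group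
        _ = (u ^ k₁) ^ k₂ := by rw [hk₂ u hu, ← conj_zpow, hk₁ u hu]
        _ = (u ^ k₂) ^ k₁ := by rw [← zpow_mul, ← zpow_mul, mul_comm]
        _ = m₂ * (m₁ * u * m₁⁻¹) * m₂⁻¹ := by rw [hk₁ u hu, ← conj_zpow, hk₂ u hu]
        _ = m₂ * m₁ * u * (m₂ * m₁)⁻¹ := by group
    have h14 := h13 _ (hL.conj_mem b hb (m₂ * m₁)⁻¹)
    refine mul_inv_eq_iff_eq_mul.1 ?_
    calc m₁ * m₂ * m₁⁻¹ * m₂⁻¹ * b * (m₁ * m₂ * m₁⁻¹ * m₂⁻¹)⁻¹
        = m₁ * m₂ * ((m₂ * m₁)⁻¹ * b * ((m₂ * m₁)⁻¹)⁻¹) * (m₁ * m₂)⁻¹ := by group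
      _ = b := by rw [h14]; group
  have hBbot : B = ⊥ := by
    by_contra hne
    have hBA : B ≠ A := fun h => htA (by
      rw [← hAself]
      exact Subgroup.mem_centralizer_iff.2 fun a ha =>
        Subgroup.mem_centralizer_singleton_iff.1 (h.ge ha).2)
    have hBp : Nat.card ↥B = p := by
      obtain ⟨j, hj2, hj⟩ := (Nat.dvd_prime_pow hp2).1 (hAcard ▸ Subgroup.card_dvd_of_le (inf_le_left : B ≤ A))
      interval_cases j
      · exact absurd (Subgroup.eq_bot_of_card_eq B (hj.trans (pow_zero p))) hne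
      · exact hj.trans (pow_one p)
      · exact absurd (Subgroup.eq_of_le_of_card_ge inf_le_left (by rw [hj, hAcard])) hBA
    set π := QuotientGroup.mk' B with hπ
    have hAbar : Nat.card ↥(A.map π) = p := by
      have h1 := Subgroup.relIndex_map_map π ⊥ A
      rw [Subgroup.map_bot, Subgroup.relIndex_bot_left, bot_sup_eq, QuotientGroup.ker_mk',
        sup_eq_left.2 (inf_le_left : B ≤ A)] at h1
      have h2 := Subgroup.relIndex_mul_relIndex ⊥ B A bot_le inf_le_left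
      rw [Subgroup.relIndex_bot_left, Subgroup.relIndex_bot_left, hBp, hAcard, sq] at h2
      rw [h1]
      exact Nat.eq_of_mul_eq_mul_left hp2.pos h2
    obtain ⟨X, hX⟩ : ∃ X : Matrix.SpecialLinearGroup (Fin 2) F, X.1 = !![1, 1; 0, 1] :=
      ⟨⟨!![1, 1; 0, 1], by simp [Matrix.det_fin_two]⟩, rfl⟩
    obtain ⟨Y, hY⟩ : ∃ Y : Matrix.SpecialLinearGroup (Fin 2) F, Y.1 = !![1, 0; 1, 1] :=
      ⟨⟨!![1, 0; 1, 1], by simp [Matrix.det_fin_two]⟩, rfl⟩
    obtain ⟨n₁, hn₁⟩ := hfs X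
    obtain ⟨n₂, hn₂⟩ := hfs Y
    set c := n₁ * n₂ * n₁⁻¹ * n₂⁻¹ with hc
    have hcB : ∀ b ∈ B, c * b = b * c := fun b hb => @hgen N _ _ B hBn hBp n₁ n₂ b hb
    have hcA : ∀ a ∈ A, c * a * c⁻¹ * a⁻¹ ∈ B := by
      intro a ha
      haveI : (A.map π).Normal := Subgroup.Normal.map inferInstance π (QuotientGroup.mk'_surjective B)
      have := @hgen (N ⧸ B) _ _ (A.map π) inferInstance hAbar (π n₁) (π n₂) (π a) ⟨a, ha, rfl⟩
      refine (QuotientGroup.eq_one_iff _).1 ?_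
      show π (c * a * c⁻¹ * a⁻¹) = 1
      rw [map_mul, map_mul, map_mul, map_inv, hc]
      simp only [map_mul, map_inv]
      rw [this]; group
    have hcp : c ^ p ∈ A := by
      rw [← hAself]
      refine Subgroup.mem_centralizer_iff.2 fun a ha => ?_
      set b := c * a * c⁻¹ * a⁻¹ with hb
      have hbB : b ∈ B := hcA a ha
      have hn : ∀ n : ℕ, c ^ n * a * (c ^ n)⁻¹ = b ^ n * a := by
        intro n
        induction n with
        | zero => simp
        | succ n ih =>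
          have hcb : Commute c (b ^ n) := (show Commute c b from hcB b hbB).pow_right n
          calc c ^ (n + 1) * a * (c ^ (n + 1))⁻¹ = c * (c ^ n * a * (c ^ n)⁻¹) * c⁻¹ := by rw [pow_succ']; group
            _ = (c * b ^ n) * a * c⁻¹ := by rw [ih]; group
            _ = b ^ n * (c * a * c⁻¹) := by rw [hcb.eq]; group
            _ = b ^ (n + 1) * a := by rw [pow_succ, hb]; group
      have := hn p
      rw [hAp b hbB.1, one_mul] at this
      exact (mul_inv_eq_iff_eq_mul.1 this).symm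
    have hfc := congrArg (fun M : Matrix.SpecialLinearGroup (Fin 2) F => M.1) ((hker _).2 hcp)
    simp only [map_pow, Matrix.SpecialLinearGroup.coe_pow, Matrix.SpecialLinearGroup.coe_one] at hfc
    have htr := congrArg Matrix.trace hfc
    rw [← hF, FiniteField.trace_pow_card, FiniteField.pow_card, Matrix.trace_one, Fintype.card_fin, hc,
      map_mul, map_mul, map_mul, map_inv, map_inv, hn₁, hn₂] at htr
    rw [Matrix.SpecialLinearGroup.coe_mul, Matrix.SpecialLinearGroup.coe_mul, Matrix.SpecialLinearGroup.coe_mul,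
      Matrix.SpecialLinearGroup.coe_inv, Matrix.SpecialLinearGroup.coe_inv, hX, hY] at htr
    simp [Matrix.trace_fin_two, Matrix.mul_apply, Fin.sum_univ_two, Matrix.adjugate_fin_two] at htr
    exact one_ne_zero (α := F) (by linear_combination htr)
  refine ⟨Subgroup.centralizer ({t} : Set N), hBbot, eq_top_iff.2 fun n _ => ?_⟩
  let φ : ↥A → ↥A := fun a => ⟨(a : N) * t * (a : N)⁻¹ * t⁻¹, hnt _⟩
  have hφ : Function.Injective φ := by
    intro a b hab
    have h1 : (a : N) * t * (a : N)⁻¹ * t⁻¹ = (b : N) * t * (b : N)⁻¹ * t⁻¹ := congrArg Subtype.val hab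
    have h1' := mul_right_cancel h1
    have h2 : (b : N)⁻¹ * (a : N) ∈ B := by
      refine ⟨A.mul_mem (A.inv_mem b.2) a.2, Subgroup.mem_centralizer_singleton_iff.2 ?_⟩
      calc (b : N)⁻¹ * a * t = (b : N)⁻¹ * ((a : N) * t * (a : N)⁻¹) * a := by group
        _ = t * ((b : N)⁻¹ * a) := by rw [h1']; group
    rw [hBbot, Subgroup.mem_bot, inv_mul_eq_one] at h2
    exact Subtype.ext h2.symm
  obtain ⟨a, ha⟩ := (Finite.surjective_of_injective hφ) ⟨_, hnt n⟩
  have h1 : (a : N) * t * (a : N)⁻¹ * t⁻¹ = n * t * n⁻¹ * t⁻¹ := congrArg Subtype.val ha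
  have h1' := mul_right_cancel h1
  have h2 : (a : N)⁻¹ * n ∈ Subgroup.centralizer ({t} : Set N) := by
    refine Subgroup.mem_centralizer_singleton_iff.2 ?_
    calc (a : N)⁻¹ * n * t = (a : N)⁻¹ * (n * t * n⁻¹) * n := by group
      _ = t * ((a : N)⁻¹ * n) := by rw [← h1']; group
  have := Subgroup.mul_mem_sup a.2 h2
  rwa [mul_inv_cancel_left] at this

end Cfsg.Agent.S3075
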