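import Cfsg.Statements.S3076
import Cfsg.Agent.Lib.Cores.PConstrained
import Cfsg.Agent.Lib.Cores.Basic
import Cfsg.Agent.Lib.Transfer.Frobenius
import Cfsg.Agent.Lib.LocalEven.SubnormalSylow
import Cfsg.Agent.Lib.LocalEven.Basic

set_option autoImplicit false
open Cfsg

namespace Cfsg.Agent.S3076

/-- Let P be a Sylow p-subgroup of the finite group G and H ≤ P a subgroup with N_P(H) a Sylow p-subgroup of N_G(H). Let N be the preimage in N_G(H) of O_p(N_G(H)/C_G(H)). Then H is a Sylow p-subgroup of N if and only if C_P(H) ≤ H and O_{p',p}(N_G(H)) = H·C_G(H). -/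
theorem result {G : Type*} [Group G] [Finite G] {p : ℕ} [Fact p.Prime]
    (P : Sylow p G) (H : Subgroup G) (hHP : H ≤ (P : Subgroup G))
    (hSyl : ¬ p ∣ ((P : Subgroup G) ⊓ Subgroup.normalizer (H : Set G)).relIndex (Subgroup.normalizer (H : Set G)))
    [hC : ((Subgroup.centralizer (H : Set G)).subgroupOf (Subgroup.normalizer (H : Set G))).Normal] :
    (H ≤ ((Cfsg.pCore p (↥(Subgroup.normalizer (H : Set G)) ⧸
              (Subgroup.centralizer (H : Set G)).subgroupOf (Subgroup.normalizer (H : Set G)))).comap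
            (QuotientGroup.mk' _)).map (Subgroup.normalizer (H : Set G)).subtype ∧
      ¬ p ∣ H.relIndex (((Cfsg.pCore p (↥(Subgroup.normalizer (H : Set G)) ⧸
              (Subgroup.centralizer (H : Set G)).subgroupOf (Subgroup.normalizer (H : Set G)))).comap
            (QuotientGroup.mk' _)).map (Subgroup.normalizer (H : Set G)).subtype)) ↔
    ((P : Subgroup G) ⊓ Subgroup.centralizer (H : Set G) ≤ H ∧
      (Cfsg.pPrimePCore p ↥(Subgroup.normalizer (H : Set G))).map (Subgroup.normalizer (H : Set G)).subtype =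
        H ⊔ Subgroup.centralizer (H : Set G)) := by
  classical
  set N := Subgroup.normalizer (H : Set G) with hN
  set h := H.subgroupOf N with hh
  set C := (Subgroup.centralizer (H : Set G)).subgroupOf N with hCdef
  set X := (Cfsg.pCore p (↥N ⧸ C)).comap (QuotientGroup.mk' C) with hX
  set f := QuotientGroup.mk' C with hf
  have hHN : H ≤ N := Subgroup.le_normalizer
  haveI hhn : h.Normal := (Subgroup.normal_subgroupOf_iff_le_normalizer hHN).2 le_rfl
  have hHp : IsPGroup p ↥h := (P.2.to_le hHP).of_equiv (Subgroup.subgroupOfEquivOfLe hHN).symm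
  set T₀ := ((P : Subgroup G) ⊓ N).subgroupOf N with hT₀
  have hT₀p : IsPGroup p ↥T₀ := (P.2.to_le inf_le_left).of_equiv (Subgroup.subgroupOfEquivOfLe inf_le_right).symm
  obtain ⟨T, hTe⟩ : ∃ T : Sylow p ↥N, (T : Subgroup ↥N) = T₀ := ⟨hT₀p.toSylow hSyl, rfl⟩
  have hCc : ∀ c ∈ C, ∀ u ∈ h, u * c = c * u := fun c hc u hu =>
    Subtype.ext (Subgroup.mem_centralizer_iff.1 hc _ hu)
  have hleX : h ⊔ C ≤ X := by
    refine sup_le (fun u hu => ?_) (fun u hu => ?_)
    · haveI : (h.map f).Normal := Subgroup.Normal.map inferInstance f (QuotientGroup.mk'_surjective C)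
      exact Subgroup.mem_comap.2 (CfsgLib.Cores.le_pCore (hHp.map f) ⟨u, hu, rfl⟩)
    · refine Subgroup.mem_comap.2 ?_
      rw [show f u = 1 from (QuotientGroup.eq_one_iff u).2 hu]; exact one_mem _
  have hXpow : ∀ g ∈ X, ∃ k : ℕ, g ^ p ^ k ∈ C := by
    intro g hg
    obtain ⟨k, hk⟩ := (CfsgLib.Cores.isPGroup_pCore (G := ↥N ⧸ C) p) ⟨f g, hg⟩
    refine ⟨k, (QuotientGroup.eq_one_iff _).1 ?_⟩
    show f (g ^ p ^ k) = 1
    rw [map_pow]
    exact congrArg Subtype.val hk
  have hXC : ∃ k, C.relIndex X = p ^ k := by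
    have hXp : IsPGroup p ↥(X.map f) := by
      rw [hX, Subgroup.map_comap_eq_self_of_surjective (QuotientGroup.mk'_surjective C)]
      exact CfsgLib.Cores.isPGroup_pCore p
    obtain ⟨k, hk⟩ := IsPGroup.iff_card.1 hXp
    refine ⟨k, ?_⟩
    rw [← hk, ← Subgroup.relIndex_bot_left (X.map f), ← Subgroup.map_bot f, Subgroup.relIndex_map_map,
      bot_sup_eq, QuotientGroup.ker_mk', sup_eq_left.2 (le_sup_right.trans hleX)]
  have hTC : ¬ p ∣ ((T : Subgroup ↥N) ⊓ C).relIndex C :=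
    CfsgLib.LocalEven.not_dvd_relIndex_inf_of_isSubnormal T hC.isSubnormal
  -- the condition `C_P(H) ≤ H` inside `N`
  have hcond : ((P : Subgroup G) ⊓ Subgroup.centralizer (H : Set G) ≤ H) ↔ (T : Subgroup ↥N) ⊓ C ≤ h := by
    rw [hTe]
    constructor
    · exact fun hle u hu => hle ⟨(hu.1 : _).1, hu.2⟩
    · intro hle u hu
      exact hle (x := ⟨u, Subgroup.centralizer_le_normalizer _ hu.2⟩) ⟨⟨hu.1, Subgroup.centralizer_le_normalizer _ hu.2⟩, hu.2⟩
  have hidxhC : h.relIndex (h ⊔ C) = h.relIndex C := by rw [sup_comm, Subgroup.relIndex_sup_right]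
  have hA : ((T : Subgroup ↥N) ⊓ C ≤ h) → ¬ p ∣ h.relIndex C := by
    intro hle hd
    refine hTC (hd.trans ?_)
    rw [← Subgroup.inf_relIndex_right h C]
    exact Subgroup.relIndex_dvd_of_le_left _ (le_inf hle inf_le_right)
  have hB : ¬ p ∣ h.relIndex X → (T : Subgroup ↥N) ⊓ C ≤ h := by
    intro hnd
    set Y := h ⊔ (T : Subgroup ↥N) ⊓ C with hY
    have hYp : IsPGroup p ↥Y := IsPGroup.to_sup_of_normal_right' (T.2.to_le inf_le_left) hHp (by
      rw [Subgroup.normalizer_eq_top _]; exact le_top) |>.to_le (by rw [hY, sup_comm])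
    have hYX : Y ≤ X := (sup_le_sup_left inf_le_right h).trans hleX
    have hdvd : h.relIndex Y ∣ h.relIndex X :=
      ⟨_, (Subgroup.relIndex_mul_relIndex h Y X le_sup_left hYX).symm⟩
    obtain ⟨k, hk⟩ := IsPGroup.iff_card.1 hYp
    obtain ⟨j, -, hj⟩ := (Nat.dvd_prime_pow (Fact.out : p.Prime)).1 (hk ▸ Subgroup.relIndex_dvd_card h Y)
    have hj0 : j = 0 := by
      by_contra hj0
      exact hnd ((hj ▸ dvd_pow_self p hj0).trans hdvd)
    rw [hj0, pow_zero, Subgroup.relIndex_eq_one] at hj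
    exact le_sup_right.trans hj
  have hC' : ((T : Subgroup ↥N) ⊓ C ≤ h) → Cfsg.pPrimePCore p ↥N = X := by
    intro hle
    obtain ⟨Q, hQ⟩ := CfsgLib.LocalEven.exists_sylow_eq_inf_of_isSubnormal T hC.isSubnormal
    have hK : Cfsg.HasNormalPComplement p ↥C := by
      refine CfsgLib.Transfer.hasNormalPComplement_of_normalizer_le_centralizer Q fun c _ => ?_
      refine Subgroup.mem_centralizer_iff.2 fun u hu => Subtype.ext ?_
      have hu' : (u : ↥N) ∈ (T : Subgroup ↥N) := by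
        have hu2 : u ∈ (Q : Subgroup ↥C) := hu
        rw [hQ] at hu2; exact hu2
      exact hCc _ c.2 _ (hle ⟨hu', u.2⟩)
    obtain ⟨K, hKn, hKc, j, hKi⟩ := CfsgLib.Transfer.hasNormalPComplement_iff.1 hK
    haveI := hKn
    set O := Cfsg.pPrimeCore p ↥N with hO
    have hOC : O ≤ C := by
      intro u hu
      have h1 := Subgroup.commutator_eq_bot_iff_le_centralizer.1 (CfsgLib.Cores.commutator_pCore_pPrimeCore (G := ↥N) p)
      refine Subgroup.mem_subgroupOf.2 (Subgroup.mem_centralizer_iff.2 fun v hv => ?_)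
      have h2 := Subgroup.mem_centralizer_iff.1 (h1 (CfsgLib.Cores.le_pCore hHp
        (show (⟨v, hHN hv⟩ : ↥N) ∈ h from hv))) u hu
      exact (congrArg Subtype.val h2).symm
    have hCO : ∀ c ∈ C, ∃ k : ℕ, c ^ p ^ k ∈ O := by
      intro c hc
      obtain ⟨k, hk⟩ : ∃ k : ℕ, (⟨c, hc⟩ : ↥C) ^ p ^ k ∈ K :=
        ⟨j, hKi ▸ Subgroup.pow_index_mem K _⟩
      refine ⟨k, ?_⟩
      have h1 : ((⟨c, hc⟩ : ↥C) ^ p ^ k) ∈ Cfsg.pPrimeCore p ↥C := CfsgLib.Cores.le_pPrimeCore hKc hk
      exact CfsgLib.Cores.map_subtype_pPrimeCore_le_of_normal p C ⟨_, h1, by simp⟩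
    refine le_antisymm (fun g hg => ?_) (fun g hg => ?_)
    · haveI : (Cfsg.pPrimePCore p ↥N).Normal := CfsgLib.Cores.pPrimePCore_normal
      haveI : ((Cfsg.pPrimePCore p ↥N).map f).Normal := Subgroup.Normal.map inferInstance f (QuotientGroup.mk'_surjective C)
      refine Subgroup.mem_comap.2 (CfsgLib.Cores.le_pCore (N := (Cfsg.pPrimePCore p ↥N).map f) ?_ ⟨g, hg, rfl⟩)
      rintro ⟨_, u, hu, rfl⟩
      obtain ⟨k, hk⟩ := (CfsgLib.Cores.isPGroup_pCore (G := ↥N ⧸ O) p) ⟨QuotientGroup.mk' O u, hu⟩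
      have hk' : u ^ p ^ k ∈ O := by
        refine (QuotientGroup.eq_one_iff _).1 ?_
        show QuotientGroup.mk' O (u ^ p ^ k) = 1
        rw [map_pow]
        exact congrArg Subtype.val hk
      refine ⟨k, Subtype.ext ?_⟩
      show f u ^ p ^ k = 1
      rw [← map_pow]
      exact (QuotientGroup.eq_one_iff _).2 (hOC hk')
    · haveI : X.Normal := Subgroup.Normal.comap inferInstance f
      haveI : (X.map (QuotientGroup.mk' O)).Normal :=
        Subgroup.Normal.map inferInstance _ (QuotientGroup.mk'_surjective O)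
      refine Subgroup.mem_comap.2 (CfsgLib.Cores.le_pCore (N := X.map (QuotientGroup.mk' O)) ?_ ⟨g, hg, rfl⟩)
      rintro ⟨_, u, hu, rfl⟩
      obtain ⟨k, hk⟩ := hXpow u hu
      obtain ⟨i, hi⟩ := hCO _ hk
      refine ⟨k + i, Subtype.ext ?_⟩
      show QuotientGroup.mk' O u ^ p ^ (k + i) = 1
      rw [← map_pow, pow_add, pow_mul]
      exact (QuotientGroup.eq_one_iff _).2 hi
  have key : ¬ p ∣ h.relIndex X ↔ ((T : Subgroup ↥N) ⊓ C ≤ h ∧ Cfsg.pPrimePCore p ↥N = h ⊔ C) := by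
    constructor
    · intro hnd
      refine ⟨hB hnd, ?_⟩
      rw [hC' (hB hnd)]
      refine le_antisymm ?_ hleX
      rw [← Subgroup.relIndex_eq_one]
      obtain ⟨k, hk⟩ := hXC
      have h1 : (h ⊔ C).relIndex X ∣ p ^ k := hk ▸ Subgroup.relIndex_dvd_of_le_left _ le_sup_right
      obtain ⟨j, -, hj⟩ := (Nat.dvd_prime_pow (Fact.out : p.Prime)).1 h1
      rcases Nat.eq_zero_or_pos j with rfl | hjp
      · simpa using hj
      · exact absurd ((hj ▸ dvd_pow_self p hjp.ne' : p ∣ (h ⊔ C).relIndex X).trans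
          ⟨_, ((Subgroup.relIndex_mul_relIndex h (h ⊔ C) X le_sup_left hleX).symm.trans (mul_comm _ _))⟩) hnd
    · rintro ⟨hle, hXe⟩
      rw [← hC' hle, hXe, hidxhC]
      exact hA hle
  have hmapH : h.map N.subtype = H := Subgroup.map_subgroupOf_eq_of_le hHN
  have hrel : H.relIndex (X.map N.subtype) = h.relIndex X := by
    conv_lhs => rw [← hmapH]
    exact Subgroup.relIndex_map_map_of_injective _ _ N.subtype_injective
  have hmapsup : (h ⊔ C).map N.subtype = H ⊔ Subgroup.centralizer (H : Set G) := by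
    rw [Subgroup.map_sup, hmapH, hCdef, Subgroup.map_subgroupOf_eq_of_le (Subgroup.centralizer_le_normalizer _)]
  rw [hrel, key, hcond, ← hmapsup, (Subgroup.map_injective N.subtype_injective).eq_iff]
  refine ⟨fun hh => hh.2, fun hh => ⟨?_, hh⟩⟩
  exact hmapH.ge.trans (Subgroup.map_mono (le_sup_left.trans hleX))

end Cfsg.Agent.S3076
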