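import Cfsg.Statements.S3078
import Cfsg.Agent.Lib.LocalEven.ReplacementRank
import Cfsg.Agent.S0649

set_option autoImplicit false
open Cfsg

namespace Cfsg.Agent.S3078

/-- A replacement Theorem for abelian subgroups of p-groups, p odd. Let G be a finite p-group with p odd, A an abelian subgroup of G, and B a subgroup of nilpotency class at most 2 with [B, B] ≤ A, such that A normalizes B but B does not normalize A. Then there is an abelian subgroup A* of G of the same order as A with A ∩ B strictly contained in A* ∩ B, A* contained in N_G(A) and in the normal closure of A, the exponent of A* dividing the exponent of A, and with the subgroup generated by the elements of order dividing p in A of order at most that of the corresponding subgroup of A* (the rank of A is at most the rank of A*). -/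
theorem result {G : Type*} [Group G] [Finite G] {p : ℕ} [Fact p.Prime] (hp : p ≠ 2) (hG : IsPGroup p G) (A B : Subgroup G) (hA : IsMulCommutative A) (hB2 : ⁅⁅B, B⁆, B⁆ = ⊥) (hBA : ⁅B, B⁆ ≤ A) (hAB : A ≤ Subgroup.normalizer (B : Set G)) (hBnA : ¬ B ≤ Subgroup.normalizer (A : Set G)) : ∃ Astar : Subgroup G, IsMulCommutative Astar ∧ Nat.card Astar = Nat.card A ∧ A ⊓ B < Astar ⊓ B ∧ Astar ≤ Subgroup.normalizer (A : Set G) ∧ Astar ≤ Subgroup.normalClosure (A : Set G) ∧ Monoid.exponent Astar ∣ Monoid.exponent A ∧ Nat.card (Cfsg.omegaOne p A) ≤ Nat.card (Cfsg.omegaOne p Astar) := by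
  classical
  set K := A ⊔ B with hK
  have hBn : B ≤ K := le_sup_right
  have hAn : A ≤ K := le_sup_left
  haveI : (B.subgroupOf K).Normal :=
    (Subgroup.normal_subgroupOf_iff_le_normalizer hBn).2 (sup_le hAB Subgroup.le_normalizer)
  have hinj := K.subtype_injective
  have hcA : ∀ a ∈ A, ∀ c ∈ A, a * c = c * a := fun a ha c hc =>
    congrArg Subtype.val (hA.1.comm (⟨a, ha⟩ : ↥A) ⟨c, hc⟩)
  obtain ⟨b, hb, hbN, hbA⟩ := Cfsg.Agent.S0649.result (hG.to_subgroup K) (B.subgroupOf K)
    (fun e => absurd e hp) (A.subgroupOf K) ⟨⟨fun x y => Subtype.ext (Subtype.ext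
      (hcA _ x.2 _ y.2))⟩⟩
    (by
      refine (Subgroup.map_le_iff_le_comap.1 ?_ : _ ≤ A.comap K.subtype)
      rw [Subgroup.map_commutator, Subgroup.subgroupOf_map_subtype, inf_eq_left.2 hBn]
      exact hBA)
    (fun e => hBnA fun y hy => by
      have := e (show (⟨y, hBn hy⟩ : ↥K) ∈ B.subgroupOf K from hy)
      rwa [← Subgroup.subgroupOf_normalizer_eq hAn] at this)
  rw [← Subgroup.subgroupOf_normalizer_eq hAn] at hbA hbN
  have hodd : Odd p := (Fact.out : p.Prime).odd_of_ne_two hp
  have h : CfsgLib.PStab.ReplaceData A B (b : G) :=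
    { comm := hA
      derived := hBA
      normB := hAB
      memB := hb
      conj := fun a ha => (Subgroup.mem_normalizer_iff''.1 hbN ⟨a, hAn ha⟩).1 (Subgroup.le_normalizer ha)
      conj' := fun a ha => (Subgroup.mem_normalizer_iff.1 hbN ⟨a, hAn ha⟩).1 (Subgroup.le_normalizer ha)
      twist := by
        obtain ⟨k, hk⟩ := IsPGroup.iff_orderOf.1 hG (b : G)
        exact Or.inr (hk ▸ hodd.pow) }
  refine ⟨CfsgLib.PStab.replaced A (b : G), h.isMulCommutative_replaced, h.card_replaced,
    h.inf_lt_replaced_inf hbA, h.replaced_le_normalizer, ?_, ?_,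
    CfsgLib.LocalEven.card_omegaOne_le_replaced hodd h⟩
  · refine sup_le (inf_le_left.trans Subgroup.le_normalClosure) ((Subgroup.closure_le _).2 ?_)
    rintro _ ⟨a, ha, rfl⟩
    have h1 : a ∈ Subgroup.normalClosure (A : Set G) := Subgroup.le_normalClosure ha
    have h2 := (inferInstance : (Subgroup.normalClosure (A : Set G)).Normal).conj_mem _
      (inv_mem h1) (b : G)⁻¹
    rw [inv_inv] at h2
    have := mul_mem h1 h2
    simpa [mul_assoc] using this
  · rw [Monoid.exponent_dvd_iff_forall_pow_eq_one]
    intro g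
    apply Subtype.ext
    refine h.pow_eq_one_replaced ?_ (fun a ha => congrArg Subtype.val (Monoid.pow_exponent_eq_one (⟨a, ha⟩ : A))) g g.2
    obtain ⟨k, hk⟩ := (hG.to_subgroup A).exists_card_eq
    exact (hodd.pow (n := k)).of_dvd_nat (hk ▸ Group.exponent_dvd_nat_card)

end Cfsg.Agent.S3078
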