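import Cfsg.Statements.S3081
import Cfsg.Agent.Lib.PStab.Control
import Cfsg.Agent.Lib.PStab.QdFree
import Cfsg.Agent.Lib.PGroup.ElemAbelian

set_option autoImplicit false
open Cfsg

namespace Cfsg.Agent.S3081

/-- Let p be an odd prime, G a finite group in which Qd(p) (the natural semidirect product of an elementary abelian group of order p² by SL₂(p)) is not involved, P a Sylow p-subgroup and D a subgroup of P strongly closed in P with respect to G. Then N_G(Z(J(D))) controls strong G-fusion in P (for every subset A of P and every g ∈ G with gAg⁻¹ ⊆ P, some element of that normalizer acts on A exactly as g does; J(D) is generated by the abelian subgroups of D of largest order), and so does N_G(Ω₁(Z(J_e(D)))) (J_e(D) generated by the elementary abelian subgroups of largest order). -/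
theorem result {G : Type*} [Group G] [Finite G] {p : ℕ} [Fact p.Prime] (hp : p ≠ 2) (P : Sylow p G) (D : Subgroup G) (hD : Cfsg.IsStronglyClosed D (P : Subgroup G)) (hqd : ¬ Cfsg.Involves ↥(Cfsg.qd p) G) : (∀ A : Set G, A ⊆ (P : Subgroup G) → Cfsg.ControlsStrongFusionOf (Subgroup.normalizer ((Cfsg.centerThompsonAOf D) : Set G)) (P : Subgroup G) A) ∧ (∀ A : Set G, A ⊆ (P : Subgroup G) → Cfsg.ControlsStrongFusionOf (Subgroup.normalizer ((Cfsg.omegaOne p (Cfsg.centerThompsonOf p D)) : Set G)) (P : Subgroup G) A) := by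
  have key : ∀ e, e = 0 ∨ e = p → ∀ A g, A ≤ (P : Subgroup G) →
      CfsgLib.Fusion.conjSub g A ≤ (P : Subgroup G) →
      ∃ m ∈ Subgroup.normalizer (CfsgLib.PStab.zjGen e D : Set G),
        CfsgLib.Techniques.Functor.Agree A m g := fun e he =>
    CfsgLib.PStab.control_of_stableAll hp (CfsgLib.PStab.stableAll_of_qdFree hp hqd) he P hD
  rw [CfsgLib.PStab.centerThompsonAOf_eq_zjGen, CfsgLib.PStab.centerThompsonOf_eq_zjGen]
  refine ⟨fun A hA => CfsgLib.PStab.controlsStrongFusionOf_of_control P (key 0 (Or.inl rfl)) A hA,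
    fun A hA => CfsgLib.PStab.controlsStrongFusionOf_of_control P (fun B g hB hgB => ?_) A hA⟩
  obtain ⟨m, hm, hag⟩ := key p (Or.inr rfl) B g hB hgB
  refine ⟨m, CfsgLib.Solvable.mem_normalizer_of_conj_mem (fun x hx => ?_), hag⟩
  have h1 := CfsgLib.PGroup.map_omegaOne_le p (MulAut.conj m).toMonoidHom
    (CfsgLib.PStab.zjGen p D) ⟨x, hx, rfl⟩
  refine CfsgLib.PGroup.omegaOne_mono ?_ h1
  rintro _ ⟨y, hy, rfl⟩
  exact (Subgroup.mem_normalizer_iff.1 hm y).1 hy

end Cfsg.Agent.S3081
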