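import Cfsg.Statements.S3084
import Cfsg.Agent.Lib.LocalEven.PlusTypeModel
import Cfsg.Agent.Lib.LargeExtra.SubExtra

set_option autoImplicit false
open Cfsg

namespace Cfsg.Agent.S3084

/-- Let K be a group acting faithfully and linearly on a finite-dimensional vector space U of dimension 2n ≥ 2 over the field with two elements, preserving a quadratic form q whose polar bilinear form is non-degenerate and which vanishes on some n-dimensional subspace (a non-singular form of plus type). Then there is a finite group R with a normal extraspecial 2-subgroup Q of order 2^(2n+1), an isomorphism of R/Q with K, and a surjective homomorphism χ from Q onto (the additive group of) U with kernel the centre of Q, such that χ carries conjugation by any r in R to the action of the image of r in K, and an element a of Q squares to the identity exactly when q vanishes at χ(a). -/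
theorem result {K : Type*} [Group K] {U : Type*} [AddCommGroup U] [Module (ZMod 2) U] [Module.Finite (ZMod 2) U] (n : ℕ) (hn1 : 1 ≤ n) (hn : Module.finrank (ZMod 2) U = 2 * n) (ρ : Representation (ZMod 2) K U) (hρ : Function.Injective ρ) (q : QuadraticForm (ZMod 2) U) (hq : ∀ (k : K) (u : U), q (ρ k u) = q u) (hnd : (QuadraticMap.polarBilin q).Nondegenerate) (hplus : ∃ W : Submodule (ZMod 2) U, Module.finrank (ZMod 2) ↥W = n ∧ ∀ w ∈ W, q w = 0) : ∃ (R : Type) (_ : Group R) (_ : Finite R) (Q : Subgroup R) (hN : Q.Normal) (e : R ⧸ Q ≃* K) (χ : ↥Q →* Multiplicative U), Cfsg.IsExtraspecial 2 ↥Q ∧ Nat.card ↥Q = 2 ^ (2 * n + 1) ∧ Function.Surjective χ ∧ χ.ker = Subgroup.center ↥Q ∧ (∀ (r : R) (a : ↥Q), χ ⟨r * a * r⁻¹, hN.conj_mem (a : R) a.2 r⟩ = Multiplicative.ofAdd (ρ (e (r : R ⧸ Q)) (Multiplicative.toAdd (χ a)))) ∧ ∀ a : ↥Q, a * a = 1 ↔ q (Multiplicative.toAdd (χ a)) = 0 := by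
  classical
  obtain ⟨W, hW, hWq⟩ := hplus
  obtain ⟨φ, hφ⟩ := CfsgLib.LocalEven.PlusModel.exists_coordinates hn q hnd W hW hWq
  haveI := CfsgLib.LocalEven.PlusModel.finite_aut (n := n)
  let ψ : K → (CfsgLib.LocalEven.PlusModel.Uv n ≃ₗ[ZMod 2] CfsgLib.LocalEven.PlusModel.Uv n) := fun k =>
    LinearEquiv.ofLinear (φ.symm.toLinearMap ∘ₗ (ρ k) ∘ₗ φ.toLinearMap) (φ.symm.toLinearMap ∘ₗ (ρ k⁻¹) ∘ₗ φ.toLinearMap)
      (LinearMap.ext fun u => by simp [← Module.End.mul_apply, ← map_mul])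
      (LinearMap.ext fun u => by simp [← Module.End.mul_apply, ← map_mul])
  have hψφ : ∀ k u, φ (ψ k u) = ρ k (φ u) := fun k u => φ.apply_symm_apply _
  have hψ : ∀ k u, CfsgLib.LocalEven.PlusModel.bb (ψ k u) (ψ k u) = CfsgLib.LocalEven.PlusModel.bb u u :=
    fun k u => by rw [← hφ, ← hφ, hψφ, hq]
  have hψ1 : ∀ u, ψ 1 u = u := fun u => φ.injective (by rw [hψφ, map_one]; rfl)
  have hψm : ∀ k l u, ψ (k * l) u = ψ k (ψ l u) := fun k l u =>
    φ.injective (by rw [hψφ, hψφ, hψφ, map_mul]; rfl)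
  have hψi : ∀ k l, (∀ u, ψ k u = ψ l u) → k = l := fun k l h => hρ (LinearMap.ext fun x => by
    obtain ⟨u, rfl⟩ := φ.surjective x
    rw [← hψφ, ← hψφ, h])
  let RR : Subgroup (CfsgLib.LocalEven.PlusModel.Fn n ≃ₗ[ZMod 3] CfsgLib.LocalEven.PlusModel.Fn n) :=
    { carrier := {L | ∃ k : K, ∀ s u, ∃ t, L * CfsgLib.LocalEven.PlusModel.op s u =
        CfsgLib.LocalEven.PlusModel.op t (ψ k u) * L}
      one_mem' := ⟨1, fun s u => ⟨s, by rw [one_mul, mul_one, hψ1]⟩⟩
      mul_mem' := fun {a b} ⟨k, hk⟩ ⟨l, hl⟩ => ⟨k * l, fun s u => by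
        obtain ⟨t, ht⟩ := hl s u
        obtain ⟨t', ht'⟩ := hk t (ψ l u)
        exact ⟨t', by rw [mul_assoc, ht, ← mul_assoc, ht', mul_assoc, hψm]⟩⟩
      inv_mem' := fun {a} ⟨k, hk⟩ => ⟨k⁻¹, fun s u => by
        have e1 : ψ k (ψ k⁻¹ u) = u := by rw [← hψm, mul_inv_cancel, hψ1]
        obtain ⟨t, ht⟩ := hk 0 (ψ k⁻¹ u)
        rw [e1] at ht
        refine ⟨0 + (s + t), ?_⟩
        have hz : ∀ c, a * CfsgLib.LocalEven.PlusModel.op c 0 = CfsgLib.LocalEven.PlusModel.op c 0 * a := by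
          intro c
          apply LinearEquiv.ext
          intro g
          have e : ∀ g, CfsgLib.LocalEven.PlusModel.op c (0 : CfsgLib.LocalEven.PlusModel.Uv n) g =
              CfsgLib.LocalEven.PlusModel.sgn c • g := fun g => by
            funext x; simp [CfsgLib.LocalEven.PlusModel.op_apply, CfsgLib.LocalEven.PlusModel.dot_zero_right]
          rw [LinearEquiv.mul_apply, LinearEquiv.mul_apply, e, e, map_smul]
        have e3 : CfsgLib.LocalEven.PlusModel.op s u = CfsgLib.LocalEven.PlusModel.op (s + t) 0 * CfsgLib.LocalEven.PlusModel.op t u := by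
          rw [CfsgLib.LocalEven.PlusModel.op_mul]
          congr 1
          · simp [CfsgLib.LocalEven.PlusModel.bb, CfsgLib.LocalEven.PlusModel.dot_zero_left, add_assoc, CharTwo.add_self_eq_zero]
          · rw [zero_add]
        have e4 : a * CfsgLib.LocalEven.PlusModel.op (0 + (s + t)) (ψ k⁻¹ u) = CfsgLib.LocalEven.PlusModel.op s u * a := by
          rw [e3, mul_assoc, ← ht, ← mul_assoc, ← hz, mul_assoc, CfsgLib.LocalEven.PlusModel.op_mul]
          congr 2
          · simp [CfsgLib.LocalEven.PlusModel.bb, CfsgLib.LocalEven.PlusModel.dot_zero_left]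
          · rw [zero_add]
        rw [inv_mul_eq_iff_eq_mul, ← mul_assoc, e4, mul_inv_cancel_right]⟩ }
  have hex : ∀ r : ↥RR, ∃ k : K, ∀ s u, ∃ t, (r : CfsgLib.LocalEven.PlusModel.Fn n ≃ₗ[ZMod 3] CfsgLib.LocalEven.PlusModel.Fn n) * CfsgLib.LocalEven.PlusModel.op s u =
      CfsgLib.LocalEven.PlusModel.op t (ψ k u) * r := fun r => r.2
  choose πf hπf using hex
  have huniq : ∀ (r : ↥RR) k, (∀ s u, ∃ t, (r : CfsgLib.LocalEven.PlusModel.Fn n ≃ₗ[ZMod 3] CfsgLib.LocalEven.PlusModel.Fn n) * CfsgLib.LocalEven.PlusModel.op s u =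
      CfsgLib.LocalEven.PlusModel.op t (ψ k u) * r) → πf r = k := fun r k hk => hψi _ _ fun u => by
    obtain ⟨t, ht⟩ := hπf r 0 u
    obtain ⟨t', ht'⟩ := hk 0 u
    exact (CfsgLib.LocalEven.PlusModel.op_injective (mul_right_cancel (ht.symm.trans ht'))).2
  let π : ↥RR →* K := MonoidHom.mk' πf fun a b => huniq _ _ fun s u => by
    obtain ⟨t, ht⟩ := hπf b s u
    obtain ⟨t', ht'⟩ := hπf a t (ψ (πf b) u)
    exact ⟨t', by rw [Subgroup.coe_mul, mul_assoc, ht, ← mul_assoc, ht', mul_assoc, hψm]⟩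
  have hπs : Function.Surjective π := fun k => by
    obtain ⟨L, hL⟩ := CfsgLib.LocalEven.PlusModel.exists_lift (ψ k) (hψ k)
    exact ⟨⟨L, k, hL⟩, huniq _ _ hL⟩
  set Q : Subgroup ↥RR := (CfsgLib.LocalEven.PlusModel.QGroup n).subgroupOf RR with hQ
  have hQle : CfsgLib.LocalEven.PlusModel.QGroup n ≤ RR := by
    rintro _ ⟨a, v, rfl⟩
    refine ⟨1, fun s u => ⟨s + CfsgLib.LocalEven.PlusModel.bb u v + CfsgLib.LocalEven.PlusModel.bb v u, ?_⟩⟩
    rw [hψ1, CfsgLib.LocalEven.PlusModel.op_mul, CfsgLib.LocalEven.PlusModel.op_mul, add_comm v u]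
    congr 1
    rw [show s + CfsgLib.LocalEven.PlusModel.bb u v + CfsgLib.LocalEven.PlusModel.bb v u + a +
      CfsgLib.LocalEven.PlusModel.bb u v = a + s + CfsgLib.LocalEven.PlusModel.bb v u +
      (CfsgLib.LocalEven.PlusModel.bb u v + CfsgLib.LocalEven.PlusModel.bb u v) by abel,
      CharTwo.add_self_eq_zero, add_zero]
  have hker : π.ker = Q := by
    ext r
    constructor
    · intro hr
      refine CfsgLib.LocalEven.PlusModel.mem_QGroup_of_trivial _ fun s u => ?_
      obtain ⟨t, ht⟩ := hπf r s u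
      rw [show πf r = 1 from hr, hψ1] at ht
      exact ⟨t, ht⟩
    · intro hr
      obtain ⟨a, v, hav⟩ := hr
      refine huniq r 1 fun s u => ?_
      obtain ⟨k, hk⟩ := hQle (show CfsgLib.LocalEven.PlusModel.op a v ∈ _ from ⟨a, v, rfl⟩)
      refine ⟨s + CfsgLib.LocalEven.PlusModel.bb u v + CfsgLib.LocalEven.PlusModel.bb v u, ?_⟩
      rw [show (r : CfsgLib.LocalEven.PlusModel.Fn n ≃ₗ[ZMod 3] CfsgLib.LocalEven.PlusModel.Fn n) = CfsgLib.LocalEven.PlusModel.op a v from hav, hψ1,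
        CfsgLib.LocalEven.PlusModel.op_mul, CfsgLib.LocalEven.PlusModel.op_mul, add_comm v u]
      congr 1
      rw [show s + CfsgLib.LocalEven.PlusModel.bb u v + CfsgLib.LocalEven.PlusModel.bb v u + a +
        CfsgLib.LocalEven.PlusModel.bb u v = a + s + CfsgLib.LocalEven.PlusModel.bb v u +
        (CfsgLib.LocalEven.PlusModel.bb u v + CfsgLib.LocalEven.PlusModel.bb u v) by abel,
        CharTwo.add_self_eq_zero, add_zero]
  have hN : Q.Normal := hker ▸ inferInstance
  let eQ : ↥Q ≃* ↥(CfsgLib.LocalEven.PlusModel.QGroup n) := Subgroup.subgroupOfEquivOfLe hQle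
  have hsu : ∀ a : ↥Q, ∃ s u, ((a : ↥RR) : CfsgLib.LocalEven.PlusModel.Fn n ≃ₗ[ZMod 3] CfsgLib.LocalEven.PlusModel.Fn n) = CfsgLib.LocalEven.PlusModel.op s u := fun a => a.2
  choose sc uc hsc using hsu
  let χ : ↥Q →* Multiplicative U := MonoidHom.mk' (fun a => Multiplicative.ofAdd (φ (uc a))) fun a b => by
    have h := hsc (a * b)
    rw [Subgroup.coe_mul, Subgroup.coe_mul, hsc a, hsc b, CfsgLib.LocalEven.PlusModel.op_mul] at h
    rw [← ofAdd_add, ← map_add, (CfsgLib.LocalEven.PlusModel.op_injective h).2]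
  let e0 : ↥RR ⧸ Q ≃* K :=
    (QuotientGroup.quotientMulEquivOfEq hker.symm).trans (QuotientGroup.quotientKerEquivOfSurjective π hπs)
  refine ⟨↥RR, inferInstance, inferInstance, Q, hN, e0, χ, ?_, ?_, ?_, ?_, ?_, ?_⟩
  · exact CfsgLib.LargeExtra.isExtraspecial_of_mulEquiv eQ.symm (CfsgLib.LocalEven.PlusModel.isExtraspecial hn1)
  · rw [Nat.card_congr eQ.toEquiv, CfsgLib.LocalEven.PlusModel.card_QGroup]
  · intro x
    obtain ⟨u, hu⟩ := φ.surjective (Multiplicative.toAdd x)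
    let a : ↥Q := eQ.symm ⟨CfsgLib.LocalEven.PlusModel.op 0 u, 0, u, rfl⟩
    refine ⟨a, ?_⟩
    show Multiplicative.ofAdd (φ (uc a)) = x
    rw [← (CfsgLib.LocalEven.PlusModel.op_injective (hsc a)).2, hu, ofAdd_toAdd]
  · ext a
    rw [MonoidHom.mem_ker]
    show Multiplicative.ofAdd (φ (uc a)) = 1 ↔ _
    rw [ofAdd_eq_one, LinearEquiv.map_eq_zero_iff, Subgroup.mem_center_iff]
    constructor
    · intro h b
      refine eQ.injective ?_
      rw [map_mul, map_mul]
      refine Subgroup.mem_center_iff.1 ((CfsgLib.LocalEven.PlusModel.central_iff _).2 ⟨sc a, ?_⟩) (eQ b)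
      show ((a : ↥RR) : CfsgLib.LocalEven.PlusModel.Fn n ≃ₗ[ZMod 3] CfsgLib.LocalEven.PlusModel.Fn n) = _
      rw [hsc a, h]
    · intro h
      have h' : eQ a ∈ Subgroup.center _ := Subgroup.mem_center_iff.2 fun z => by
        obtain ⟨z, rfl⟩ := eQ.surjective z
        rw [← map_mul, ← map_mul, h]
      obtain ⟨s, hs⟩ := (CfsgLib.LocalEven.PlusModel.central_iff _).1 h'
      exact (CfsgLib.LocalEven.PlusModel.op_injective ((hsc a).symm.trans hs)).2
  · intro r a
    show Multiplicative.ofAdd (φ (uc _)) = Multiplicative.ofAdd (ρ (π r) (φ (uc a)))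
    rw [← hψφ]
    congr 2
    obtain ⟨t, ht⟩ := hπf r (sc a) (uc a)
    refine (CfsgLib.LocalEven.PlusModel.op_injective ((hsc ⟨r * a * r⁻¹, _⟩).symm.trans
      (?_ : _ = CfsgLib.LocalEven.PlusModel.op t (ψ (πf r) (uc a))))).2
    simp only [Subgroup.coe_mul, InvMemClass.coe_inv, hsc a]
    rw [ht, mul_inv_cancel_right]
  · intro a
    show a * a = 1 ↔ q (φ (uc a)) = 0
    rw [hφ, ← Subtype.coe_inj, ← Subtype.coe_inj]
    simp only [Subgroup.coe_mul, Subgroup.coe_one, hsc a, CfsgLib.LocalEven.PlusModel.op_mul,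
      CfsgLib.LocalEven.PlusModel.hv_add_self]
    rw [← CfsgLib.LocalEven.PlusModel.op_zero, CharTwo.add_self_eq_zero, zero_add]
    constructor
    · exact fun h => (CfsgLib.LocalEven.PlusModel.op_injective h).1
    · intro h
      rw [h, show uc a + uc a = 0 from Prod.ext (CfsgLib.LocalEven.PlusModel.hv_add_self _) (CfsgLib.LocalEven.PlusModel.hv_add_self _)]

end Cfsg.Agent.S3084
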