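import Cfsg.Statements.S3085
import Cfsg.Agent.Lib.LocalEven.Nonsplit

set_option autoImplicit false
open Cfsg
open scoped commutatorElement

namespace Cfsg.Agent.S3085

/-- Let Q be an extraspecial 2-group of order 2^(2n+1) with n ≥ 3 that is of plus type (it contains an elementary abelian subgroup of order 2^(n+1)). Then the group of inner automorphisms of Q has no complement in the full automorphism group of Q: the extension of the inner automorphism group (elementary abelian of order 2^(2n)) by the outer automorphism group (the orthogonal group of plus type) does not split. -/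
theorem result {Q : Type*} [Group Q] [Finite Q] (n : ℕ) (hn : 3 ≤ n) (hQ : Cfsg.IsExtraspecial 2 Q) (hcard : Nat.card Q = 2 ^ (2 * n + 1)) (hplus : ∃ E : Subgroup Q, Cfsg.IsElementaryAbelian 2 E ∧ Nat.card ↥E = 2 ^ (n + 1)) (L : Subgroup (MulAut Q)) : ¬ (Cfsg.Inn Q).IsComplement' L := by
  classical
  obtain ⟨⟨-, hfr, hcomm⟩, hZ2⟩ := hQ
  obtain ⟨E, ⟨hEc, hE2⟩, hEcard⟩ := hplus
  obtain ⟨⟨z, hzc⟩, hz⟩ : ∃ z : Subgroup.center Q, z ≠ 1 := by
    by_contra! h
    have : Nat.card (Subgroup.center Q) = 1 := Nat.card_eq_one_iff_unique.2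
      ⟨⟨fun a b => by rw [h a, h b]⟩, ⟨1⟩⟩
    rw [hZ2] at this; omega
  have hz1 : z ≠ 1 := fun h => hz (Subtype.ext h)
  have hcen : ∀ x, x ∈ Subgroup.center Q ↔ x = 1 ∨ x = z := by
    intro x
    refine ⟨fun h => ?_, ?_⟩
    · obtain ⟨y, hy, hu⟩ := (Nat.card_eq_two_iff' (1 : Subgroup.center Q)).1 hZ2
      by_cases hx : x = 1
      · exact Or.inl hx
      · right
        have e1 := hu ⟨x, h⟩ (fun e => hx (congrArg Subtype.val e))
        have e2 := hu ⟨z, hzc⟩ hz
        exact congrArg Subtype.val (e1.trans e2.symm)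
    · rintro (rfl | rfl)
      · exact one_mem _
      · exact hzc
  have hz2 : z * z = 1 := by
    rcases (hcen (z * z)).1 (mul_mem hzc hzc) with h | h
    · exact h
    · exact absurd (mul_left_cancel (h.trans (mul_one z).symm)) hz1
  have hzC : ∀ x, Commute z x := fun x => (Subgroup.mem_center_iff.1 hzc x).symm
  have hcc : ∀ x y : Q, x * y = y * x ∨ x * y = y * x * z := by
    intro x y
    have h : (y * x)⁻¹ * (x * y) ∈ Subgroup.center Q := by
      rw [← hcomm, show (y * x)⁻¹ * (x * y) = ⁅x⁻¹, y⁻¹⁆ by rw [commutatorElement_def]; group]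
      exact Subgroup.commutator_mem_commutator (Subgroup.mem_top _) (Subgroup.mem_top _)
    rcases (hcen _).1 h with e | e
    · exact Or.inl (inv_mul_eq_one.1 e).symm
    · exact Or.inr (inv_mul_eq_iff_eq_mul.1 e)
  have hsq : ∀ x : Q, x * x = 1 ∨ x * x = z := by
    intro x
    refine (hcen _).1 (Subgroup.mem_center_iff.2 fun y => ?_)
    rcases hcc x y with e | e
    · exact ((Commute.mul_left (e : Commute x y) (e : Commute x y)).eq).symm
    · calc y * (x * x) = (y * x) * x := by group
        _ = (x * y * z) * x := by rw [e, mul_assoc _ z z, hz2, mul_one]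
        _ = x * (y * x) * z := by rw [mul_assoc (x * y) z x, (hzC x).eq]; group
        _ = x * (x * y * z) * z := by rw [e, mul_assoc _ z z, hz2, mul_one]
        _ = x * x * y := by rw [← mul_assoc x (x * y) z, mul_assoc _ z z, hz2, mul_one, ← mul_assoc]
  have D : CfsgLib.LocalEven.Nonsplit.Data z := ⟨hz2, hz1, hzC, hcc, hcen, hsq⟩
  have hE16 : 16 ≤ Nat.card E := by
    rw [hEcard]; exact le_trans (by norm_num) (Nat.pow_le_pow_right two_pos (show 4 ≤ n + 1 by omega))
  have hsmall : ∀ l : Finset Q, (∀ e ∈ E, e ∈ l) → 16 ≤ l.card := fun l hl => by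
    refine hE16.trans ?_
    rw [← Nat.card_eq_finsetCard l]
    exact Nat.card_le_card_of_injective (fun e : E => (⟨(e : Q), hl _ e.2⟩ : l))
      (fun e e' h => Subtype.ext (congrArg (fun w : l => (w : Q)) h))
  obtain ⟨a, haE, ha1, haz⟩ : ∃ a ∈ E, a ≠ 1 ∧ a ≠ z := by
    by_contra! h
    have := hsmall {1, z} (fun e he => by
      by_cases h1 : e = 1
      · simp [h1]
      · simp [h e he h1])
    have := Finset.card_le_two (a := (1 : Q)) (b := z)
    omega
  obtain ⟨b, hbE, hb1, hbz, hba, hbaz⟩ : ∃ b ∈ E, b ≠ 1 ∧ b ≠ z ∧ b ≠ a ∧ b ≠ a * z := by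
    by_contra! h
    have h4 := hsmall {1, z, a, a * z} (fun e he => by
      by_cases h1 : e = 1
      · simp [h1]
      by_cases h2 : e = z
      · simp [h2]
      by_cases h3 : e = a
      · simp [h3]
      simp [h e he h1 h2 h3])
    have := Finset.card_le_four (a := (1 : Q)) (b := z) (c := a) (d := a * z)
    omega
  have hab : Commute a b := congrArg Subtype.val (hEc.1.comm (⟨a, haE⟩ : E) ⟨b, hbE⟩)
  obtain ⟨c, hca, hcb, hc⟩ : ∃ c, Commute c a ∧ Commute c b ∧ c * c = z := by
    by_contra! hno
    set C := Subgroup.centralizer ({a} : Set Q) ⊓ Subgroup.centralizer ({b} : Set Q) with hC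
    have hCmem : ∀ c ∈ C, Commute c a ∧ Commute c b := fun c hc =>
      ⟨Subgroup.mem_centralizer_singleton_iff.1 hc.1, Subgroup.mem_centralizer_singleton_iff.1 hc.2⟩
    have hCsq : ∀ c ∈ C, c * c = 1 := fun c hc =>
      (hsq c).resolve_right (hno c (hCmem c hc).1 (hCmem c hc).2)
    have hCab : ∀ c ∈ C, ∀ d ∈ C, Commute c d := by
      intro c hc d hd
      have h1 := hCsq _ (mul_mem hc hd)
      have h2 := eq_inv_of_mul_eq_one_left h1
      show c * d = d * c
      rw [h2, mul_inv_rev, ← eq_inv_of_mul_eq_one_left (hCsq d hd), ← eq_inv_of_mul_eq_one_left (hCsq c hc)]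
    have hhalf : ∀ (y : Q) (K : Subgroup Q), Nat.card K ≤ 2 * Nat.card ↥(K ⊓ Subgroup.centralizer ({y} : Set Q)) := by
      intro y K
      have hidx : (Subgroup.centralizer ({y} : Set Q)).index ≤ 2 := by
        rw [Subgroup.index_eq_card]
        refine le_trans (Nat.card_le_card_of_surjective (fun w : Fin 2 =>
          if w = 0 then ((1 : Q) : Q ⧸ Subgroup.centralizer ({y} : Set Q))
          else if h : ∃ x, ¬ Commute x y then (h.choose : Q ⧸ Subgroup.centralizer ({y} : Set Q)) else ((1 : Q) : Q ⧸ Subgroup.centralizer ({y} : Set Q))) ?_)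
          (by simp)
        intro q
        obtain ⟨x, rfl⟩ := QuotientGroup.mk_surjective q
        by_cases hx : Commute x y
        · refine ⟨0, ?_⟩
          beta_reduce
          rw [if_pos rfl, QuotientGroup.eq]
          exact Subgroup.mem_centralizer_singleton_iff.2 (by rw [inv_one, one_mul]; exact hx.eq)
        · refine ⟨1, ?_⟩
          have hex : ∃ x, ¬ Commute x y := ⟨x, hx⟩
          beta_reduce
          rw [if_neg (show ¬ ((1 : Fin 2) = 0) by decide), dif_pos hex, QuotientGroup.eq]
          refine Subgroup.mem_centralizer_singleton_iff.2 ?_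
          have h1 : ¬ Commute y hex.choose⁻¹ := fun h => hex.choose_spec (by simpa using h.symm.inv_left)
          exact (D.commute_prod h1 (fun h => hx h.symm)).eq.symm
      have h1 : (Subgroup.centralizer ({y} : Set Q)).relIndex K ≤ 2 := by
        refine le_trans ?_ hidx
        rw [← Subgroup.relIndex_top_right]
        exact Subgroup.relIndex_le_of_le_right le_top
          (by rw [Subgroup.relIndex_top_right]; exact Subgroup.index_ne_zero_of_finite)
      have h2 := Subgroup.relIndex_mul_relIndex ⊥ (K ⊓ Subgroup.centralizer ({y} : Set Q)) K bot_le inf_le_left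
      rw [Subgroup.relIndex_bot_left, Subgroup.relIndex_bot_left, inf_comm, Subgroup.inf_relIndex_right] at h2
      rw [← h2, inf_comm K, mul_comm 2]
      exact Nat.mul_le_mul_left _ h1
    have hC4 : Nat.card Q ≤ 4 * Nat.card C := by
      have h1 := hhalf a ⊤
      have h2 := hhalf b (Subgroup.centralizer ({a} : Set Q))
      rw [top_inf_eq, Subgroup.card_top] at h1
      rw [← hC] at h2
      omega
    have hgrow : ∀ K : Subgroup Q, K ≠ ⊤ → ∀ x, x ∉ K → 2 * Nat.card K ≤ Nat.card ↥(K ⊔ Subgroup.zpowers x) := by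
      intro K _ x hx
      have hlt : K < K ⊔ Subgroup.zpowers x := lt_of_le_of_ne le_sup_left fun e =>
        hx (e ▸ Subgroup.mem_sup_right (Subgroup.mem_zpowers x))
      obtain ⟨m, hm⟩ := Subgroup.card_dvd_of_le hlt.le
      have : Nat.card K < Nat.card ↥(K ⊔ Subgroup.zpowers x) := by
        by_contra hle
        exact hlt.ne (Subgroup.eq_of_le_of_card_ge hlt.le (not_lt.1 hle))
      rw [hm] at this ⊢
      have : 2 ≤ m := by
        by_contra hm2
        interval_cases m <;> omega
      calc 2 * Nat.card K ≤ m * Nat.card K := Nat.mul_le_mul_right _ this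
        _ = Nat.card K * m := mul_comm _ _
    have hcardQ : 128 ≤ Nat.card Q := by
      rw [hcard]; exact le_trans (by norm_num) (Nat.pow_le_pow_right two_pos (show 7 ≤ 2 * n + 1 by omega))
    obtain ⟨x, y, hxy⟩ : ∃ x y, C ⊔ Subgroup.zpowers x ⊔ Subgroup.zpowers y = ⊤ := by
      by_cases h1 : C = ⊤
      · exact ⟨1, 1, by simp [h1]⟩
      obtain ⟨x, hx⟩ : ∃ x, x ∉ C := by
        by_contra! h; exact h1 (eq_top_iff.2 fun g _ => h g)
      by_cases h2 : C ⊔ Subgroup.zpowers x = ⊤
      · exact ⟨x, 1, by simp [h2]⟩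
      obtain ⟨y, hy⟩ : ∃ y, y ∉ C ⊔ Subgroup.zpowers x := by
        by_contra! h; exact h2 (eq_top_iff.2 fun g _ => h g)
      refine ⟨x, y, Subgroup.eq_top_of_le_card _ ?_⟩
      have e1 := hgrow C h1 x hx
      have e2 := hgrow _ h2 y hy
      omega
    have hle : C ⊓ Subgroup.centralizer ({x} : Set Q) ⊓ Subgroup.centralizer ({y} : Set Q) ≤ Subgroup.center Q := by
      intro d hd
      rw [Subgroup.mem_center_iff]
      intro g
      have h1 : C ⊔ Subgroup.zpowers x ⊔ Subgroup.zpowers y ≤ Subgroup.centralizer ({d} : Set Q) :=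
        sup_le (sup_le (fun c hc => Subgroup.mem_centralizer_singleton_iff.2 (hCab c hc d hd.1.1).eq)
          (Subgroup.zpowers_le.2 (Subgroup.mem_centralizer_singleton_iff.2
            (Subgroup.mem_centralizer_singleton_iff.1 hd.1.2).symm)))
          (Subgroup.zpowers_le.2 (Subgroup.mem_centralizer_singleton_iff.2
            (Subgroup.mem_centralizer_singleton_iff.1 hd.2).symm))
      exact Subgroup.mem_centralizer_singleton_iff.1 (h1 (hxy.symm ▸ Subgroup.mem_top g))
    have e1 := hhalf x C
    have e2 := hhalf y (C ⊓ Subgroup.centralizer ({x} : Set Q))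
    have e3 := Subgroup.card_le_of_le hle
    rw [hZ2] at e3
    omega
  exact CfsgLib.LocalEven.Nonsplit.no_complement D hc (by rw [← pow_two]; exact hE2 a haE)
    (by rw [← pow_two]; exact hE2 b hbE) hca hcb hab ha1 haz hb1 hbz hba hbaz L

end Cfsg.Agent.S3085
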