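import Cfsg.Statements.S3086
import Cfsg.Agent.Lib.LocalEven.PGV.Main
import Cfsg.Agent.Lib.Cores.BalanceComp

set_option autoImplicit false
open Cfsg

namespace Cfsg.Agent.S3086

/-- The P(G,V)-theorem. Let p be a prime, G a finite group acting faithfully and linearly on a finite vector space V over the field with p elements, and A a nontrivial elementary abelian p-subgroup of G such that |A|·|C_V(A)| ≥ |B|·|C_V(B)| for every subgroup B of A. Then A normalizes every component (subnormal quasisimple subgroup) of G. -/
theorem result {G V : Type*} [Group G] [Finite G] [AddCommGroup V] [Finite V] (p : ℕ) [Fact p.Prime] [Module (ZMod p) V]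
    (ρ : Representation (ZMod p) G V) (hρ : Function.Injective ρ)
    (A : Subgroup G) (hA : A ≠ ⊥) (hAel : Cfsg.IsElementaryAbelian p A)
    (hP : ∀ B : Subgroup G, B ≤ A →
      Nat.card ↥B * Nat.card {v : V // ∀ b ∈ B, ρ b v = v} ≤ Nat.card ↥A * Nat.card {v : V // ∀ a ∈ A, ρ a v = v}) :
    ∀ K : Subgroup G, Cfsg.IsComponent K → A ≤ Subgroup.normalizer (K : Set G) := by
  intro K hK a ha
  by_contra han
  have hperf := CfsgLib.Cores.component_commutator_self hK
  have S : CfsgLib.LocalEven.PGV.Setup p A K :=
    { comm := fun x hx y hy => congrArg Subtype.val (hAel.1.is_comm.comm ⟨x, hx⟩ ⟨y, hy⟩)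
      exp := hAel.2
      perfect := hperf
      qs := fun N hN hNn => by
        have hnorm : (N.subgroupOf K).Normal := ⟨fun n hn k => hNn k k.2 n hn⟩
        rcases CfsgLib.Cores.isSubnormal_eq_top_or_le_center_of_isQuasisimple hK.2 hnorm.isSubnormal with h | h
        · exact Or.inl (le_antisymm hN (Subgroup.subgroupOf_eq_top.1 h))
        · exact Or.inr fun n hn k hk =>
            (congrArg Subtype.val (Subgroup.mem_center_iff.1 (h (show (⟨n, hN hn⟩ : K) ∈ N.subgroupOf K from hn))
              ⟨k, hk⟩)).symm
      dich := fun x _ => by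
        by_cases h : K.map (MulAut.conj x).toMonoidHom = K
        · refine Or.inl (Subgroup.mem_normalizer_iff.2 fun g => ⟨fun hg => ?_, fun hg => ?_⟩)
          · exact h.le ⟨g, hg, rfl⟩
          · rw [← SetLike.mem_coe, ← h] at hg
            obtain ⟨g', hg', e⟩ := hg
            have : g' = g := by simpa [MulAut.conj_apply] using e
            exact this ▸ hg'
        · refine Or.inr fun k hk l hl => ?_
          exact (Subgroup.mem_centralizer_iff.1 (Subgroup.commutator_eq_bot_iff_le_centralizer.1
            (CfsgLib.Cores.commutator_components_eq_bot hK (CfsgLib.Cores.isComponent_conj hK x) (Ne.symm h))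
            hk) _ ⟨l, hl, rfl⟩).symm }
  have h := CfsgLib.LocalEven.PGV.eq_one_of_mover ρ S hP ha han
  refine CfsgLib.Cores.component_ne_bot hK ((Subgroup.eq_bot_iff_forall K).2 fun u hu => hρ ?_)
  rw [h u hu, map_one]

end Cfsg.Agent.S3086
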