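import Cfsg.Statements.S3087
-- import your own Cfsg.Agent.* helpers here

set_option autoImplicit false
open Cfsg

namespace Cfsg.Agent.S3087

/-- Let p be a prime, G a finite group acting linearly on a finite vector space V over the field with p elements, W a G-invariant subspace, and A a subgroup of G with |A|·|C_V(A)| ≥ |B|·|C_V(B)| for every subgroup B of A. Then |A|·|C_W(A)| ≥ |B|·|C_W(B)| for every subgroup B of A that contains C_A(W); that is, the image of A in the group induced on W satisfies the same maximality condition. -/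
theorem result {G V : Type*} [Group G] [Finite G] [AddCommGroup V] [Finite V] (p : ℕ) [Fact p.Prime] [Module (ZMod p) V]
    (ρ : Representation (ZMod p) G V) (W : Submodule (ZMod p) V) (hW : ∀ g : G, ∀ w ∈ W, ρ g w ∈ W)
    (A : Subgroup G)
    (hP : ∀ B : Subgroup G, B ≤ A →
      Nat.card ↥B * Nat.card {v : V // ∀ b ∈ B, ρ b v = v} ≤ Nat.card ↥A * Nat.card {v : V // ∀ a ∈ A, ρ a v = v})
    (B : Subgroup G) (hBA : B ≤ A) (hCB : ∀ a ∈ A, (∀ w ∈ W, ρ a w = w) → a ∈ B) :
    Nat.card ↥B * Nat.card {w : W // ∀ b ∈ B, ρ b w = w} ≤ Nat.card ↥A * Nat.card {w : W // ∀ a ∈ A, ρ a w = w} := by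
  classical
  let fixV : Subgroup G → AddSubgroup V := fun B =>
    { carrier := {v | ∀ b ∈ B, ρ b v = v}
      zero_mem' := fun b _ => map_zero _
      add_mem' := fun {x y} hx hy b hb => by rw [map_add, hx b hb, hy b hb]
      neg_mem' := fun {x} hx b hb => by rw [map_neg, hx b hb] }
  have hV : ∀ B : Subgroup G, Nat.card {v : V // ∀ b ∈ B, ρ b v = v} = Nat.card ↥(fixV B) :=
    fun B => rfl
  have hWc : ∀ B : Subgroup G, Nat.card {w : W // ∀ b ∈ B, ρ b w = w} =
      Nat.card ↥(W.toAddSubgroup ⊓ fixV B) := fun B =>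
    Nat.card_congr ((Equiv.subtypeSubtypeEquivSubtypeInter (fun v : V => v ∈ W)
      (fun v : V => ∀ b ∈ B, ρ b v = v)).trans (Equiv.refl _))
  have hmono : fixV A ≤ fixV B := fun v hv b hb => hv b (hBA hb)
  have hsplit : ∀ B : Subgroup G, Nat.card ↥(W.toAddSubgroup ⊓ fixV B) *
      W.toAddSubgroup.relIndex (fixV B) = Nat.card ↥(fixV B) := by
    intro B
    rw [← AddSubgroup.inf_relIndex_right, ← AddSubgroup.relIndex_bot_left,
      AddSubgroup.relIndex_mul_relIndex ⊥ _ _ bot_le inf_le_right, AddSubgroup.relIndex_bot_left]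
  have hidx : W.toAddSubgroup.relIndex (fixV A) ≤ W.toAddSubgroup.relIndex (fixV B) :=
    AddSubgroup.relIndex_le_of_le_right hmono (AddSubgroup.index_ne_zero_of_finite)
  have hpos : 0 < W.toAddSubgroup.relIndex (fixV A) :=
    Nat.pos_of_ne_zero (AddSubgroup.index_ne_zero_of_finite)
  have h := hP B hBA
  rw [hV A, hV B, ← hsplit A, ← hsplit B] at h
  rw [hWc A, hWc B]
  refine Nat.le_of_mul_le_mul_right ?_ hpos
  calc Nat.card ↥B * Nat.card ↥(W.toAddSubgroup ⊓ fixV B) * W.toAddSubgroup.relIndex (fixV A)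
      ≤ Nat.card ↥B * Nat.card ↥(W.toAddSubgroup ⊓ fixV B) * W.toAddSubgroup.relIndex (fixV B) :=
        Nat.mul_le_mul_left _ hidx
    _ ≤ _ := by simpa [mul_assoc] using h

end Cfsg.Agent.S3087
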