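import Cfsg.Statements.S3103
import Cfsg.Agent.Lib.InvolChar.SmallAut
import Cfsg.Agent.Lib.PStab.FusionForms
-- import your own Cfsg.Agent.* helpers here

set_option autoImplicit false
open Cfsg

namespace Cfsg.Agent.S3103

/-- Let X be a finite 2-constrained group with no nontrivial normal subgroup of odd order such that O₂(X) has sectional 2-rank at most 4. Then X/O₂(X) is isomorphic to a subgroup of the alternating group of degree 8. -/
theorem result {X : Type*} [Group X] [Finite X] (hc : Cfsg.IsPConstrained 2 X) (hO : Cfsg.oddCore X = ⊥)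
    (h4 : Cfsg.SectionalPRankLE 2 4 ↥(Cfsg.pCore 2 X)) :
    ∃ f : X ⧸ Cfsg.pCore 2 X →* ↥(alternatingGroup (Fin 8)), Function.Injective f := by
  classical
  haveI : Fact (Nat.Prime 2) := ⟨Nat.prime_two⟩
  have hX : CfsgLib.LocalEven.HasCharP 2 X := CfsgLib.PStab.centralizer_pCore_le_of_isPConstrained hO hc
  set R := Cfsg.pCore 2 X with hR
  have hRp : IsPGroup 2 R := CfsgLib.Cores.isPGroup_pCore 2
  let V := ↥R ⧸ frattini ↥R
  have h2 : ∀ v : V, v ^ 2 = 1 := CfsgLib.PGroup.quotient_frattini_pow hRp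
  have h16 : Nat.card V ≤ 2 ^ 4 := by
    let q : (⊤ : Subgroup ↥R) →* V := (QuotientGroup.mk' (frattini ↥R)).comp (⊤ : Subgroup ↥R).subtype
    have hq : Function.Surjective q := fun v => by
      induction v using QuotientGroup.induction_on with
      | _ r => exact ⟨⟨r, Subgroup.mem_top r⟩, rfl⟩
    let e := QuotientGroup.quotientKerEquivOfSurjective q hq
    have hcomm : IsMulCommutative (⊤ : Subgroup ((⊤ : Subgroup ↥R) ⧸ q.ker)) :=
      ⟨⟨fun a b => Subtype.ext (e.injective (by
        rw [Subgroup.coe_mul, Subgroup.coe_mul, map_mul, map_mul]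
        exact CfsgLib.PGroup.quotient_frattini_comm hRp _ _))⟩⟩
    have := h4 ⊤ q.ker ⊤ hcomm (fun a _ => e.injective (by rw [map_pow, map_one, h2]))
    rwa [Subgroup.card_top, Nat.card_congr e.toEquiv] at this
  obtain ⟨f, hf⟩ := CfsgLib.A8.exists_aut_hom h2 h16
  have hk := CfsgLib.A8.ker_frattiniAct hX
  let g : X →* ↥(alternatingGroup (Fin 8)) := f.comp (CfsgLib.A8.frattiniAct R)
  have hg : g.ker = R := by
    exact ((f.ker_comp_of_injective (f := CfsgLib.A8.frattiniAct R) hf)).trans hk
  refine ⟨(QuotientGroup.kerLift g).comp (QuotientGroup.quotientMulEquivOfEq hg.symm).toMonoidHom,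
    (QuotientGroup.kerLift_injective g).comp (MulEquiv.injective _)⟩

end Cfsg.Agent.S3103
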