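import Cfsg.Statements.S3104
import Cfsg.Agent.Lib.InvolChar.A8Normalizer
import Cfsg.Agent.Lib.InvolChar.A8Section
import Cfsg.Agent.Lib.PStab.FusionForms
import Cfsg.Agent.S3103
-- import your own Cfsg.Agent.* helpers here

set_option autoImplicit false
open Cfsg
open CfsgLib.InvolChar
open scoped Matrix

namespace Cfsg.Agent.S3104

/-- Let X be a finite nonsolvable 2-constrained group with no nontrivial normal subgroup of odd order such that O₂(X) has sectional 2-rank at most 4, and write Q for X/O₂(X). Then Q is isomorphic to the projective special linear group of dimension 3 over the field with 2 elements, to an alternating group of degree n with 5 ≤ n ≤ 8, to a symmetric group of degree n with 5 ≤ n ≤ 7, or else O₃(Q) has order 3 and Q/O₃(Q) is isomorphic to the alternating or the symmetric group of degree 5 (so Q is the direct product of a group of order 3 with the alternating group of degree 5, or an extension of that direct product by a group of order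 2). If moreover X itself has sectional 2-rank at most 4, then Q is not isomorphic to the symmetric group of degree 6 or 7 nor to the alternating group of degree 8. -/
theorem result {X : Type*} [Group X] [Finite X] (hns : ¬ Group.IsSolvable X) (hc : Cfsg.IsPConstrained 2 X) (hO : Cfsg.oddCore X = ⊥)
    (h4 : Cfsg.SectionalPRankLE 2 4 ↥(Cfsg.pCore 2 X)) :
    ((∃ (F : Type) (_ : Field F) (_ : Fintype F), Fintype.card F = 2 ∧
          Nonempty (X ⧸ Cfsg.pCore 2 X ≃* Matrix.ProjectiveSpecialLinearGroup (Fin 3) F)) ∨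
        (∃ n : ℕ, 5 ≤ n ∧ n ≤ 8 ∧ Nonempty (X ⧸ Cfsg.pCore 2 X ≃* ↥(alternatingGroup (Fin n)))) ∨
        (∃ n : ℕ, 5 ≤ n ∧ n ≤ 7 ∧ Nonempty (X ⧸ Cfsg.pCore 2 X ≃* Equiv.Perm (Fin n))) ∨
        (Nat.card ↥(Cfsg.pCore 3 (X ⧸ Cfsg.pCore 2 X)) = 3 ∧
          (Nonempty ((X ⧸ Cfsg.pCore 2 X) ⧸ Cfsg.pCore 3 (X ⧸ Cfsg.pCore 2 X) ≃* ↥(alternatingGroup (Fin 5))) ∨
            Nonempty ((X ⧸ Cfsg.pCore 2 X) ⧸ Cfsg.pCore 3 (X ⧸ Cfsg.pCore 2 X) ≃* Equiv.Perm (Fin 5))))) ∧
      (Cfsg.SectionalPRankLE 2 4 X →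
        ¬ (Nonempty (X ⧸ Cfsg.pCore 2 X ≃* Equiv.Perm (Fin 6)) ∨ Nonempty (X ⧸ Cfsg.pCore 2 X ≃* Equiv.Perm (Fin 7)) ∨
            Nonempty (X ⧸ Cfsg.pCore 2 X ≃* ↥(alternatingGroup (Fin 8))))) := by
  classical
  haveI : Fact (Nat.Prime 2) := ⟨Nat.prime_two⟩
  have hX : CfsgLib.LocalEven.HasCharP 2 X := CfsgLib.PStab.centralizer_pCore_le_of_isPConstrained hO hc
  set P := Cfsg.pCore 2 X with hP
  have hPp : IsPGroup 2 P := CfsgLib.Cores.isPGroup_pCore 2
  have hnsQ : ¬ Group.IsSolvable (X ⧸ P) := fun h =>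
    hns (A8Normalizer.isSolvable_of_normal P (by haveI := hPp.isNilpotent; infer_instance) h)
  haveI : Nontrivial (X ⧸ P) := by
    by_contra hn
    haveI := not_nontrivial_iff_subsingleton.1 hn
    exact hnsQ (Group.isSolvable_of_comm fun a b => Subsingleton.elim _ _)
  obtain ⟨φ, hφ⟩ := Cfsg.Agent.S3103.result hc hO h4
  let φ' : X ⧸ P →* Equiv.Perm (Fin 8) := (alternatingGroup (Fin 8)).subtype.comp φ
  have hφ' : Function.Injective φ' := Subtype.val_injective.comp hφ
  have hsgn : ∀ q, Equiv.Perm.sign (φ' q) = 1 := fun q => (φ q).2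
  refine ⟨?_, fun hsec hQ => ?_⟩
  · by_cases hOQ : Cfsg.pPrimeCore 2 (X ⧸ P) = ⊥
    · rcases SubgroupsA8.classify φ' hφ' hsgn (CfsgLib.Cores.pCore_quotient_self 2) hOQ with
        h | h | h | ⟨⟨e⟩⟩
      · exact Or.inr (Or.inl h)
      · exact Or.inr (Or.inr (Or.inl ⟨5, le_rfl, by norm_num, h⟩))
      · exact Or.inr (Or.inr (Or.inl ⟨6, by norm_num, by norm_num, h⟩))
      · refine Or.inl ⟨ZMod 2, inferInstance, inferInstance, ZMod.card 2, ⟨e.trans ?_⟩⟩
        have hdet : ∀ g : GL (Fin 3) (ZMod 2), (g : Matrix (Fin 3) (Fin 3) (ZMod 2)).det = 1 := fun g => by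
          have hu := (Matrix.isUnit_iff_isUnit_det (g : Matrix (Fin 3) (Fin 3) (ZMod 2))).1 g.isUnit
          generalize (g : Matrix (Fin 3) (Fin 3) (ZMod 2)).det = d at hu
          exact (CfsgLib.A8.zmod_two_cases d).resolve_left hu.ne_zero
        have hZ : Subgroup.center (Matrix.SpecialLinearGroup (Fin 3) (ZMod 2)) = ⊥ := by
          rw [Subgroup.eq_bot_iff_forall]
          intro z hz
          obtain ⟨r, hr, hrz⟩ := Matrix.SpecialLinearGroup.mem_center_iff.1 hz
          rcases CfsgLib.A8.zmod_two_cases r with rfl | rfl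
          · rw [Fintype.card_fin, zero_pow (by norm_num)] at hr; exact absurd hr zero_ne_one
          · exact Subtype.ext (by rw [← hrz]; simp)
        exact (CfsgLib.A8.glEquivSL hdet).trans
          ((QuotientGroup.quotientBot.symm).trans (QuotientGroup.quotientMulEquivOfEq hZ.symm))
    · exact Or.inr (Or.inr (Or.inr (A8Normalizer.odd_core_case φ' hφ' hsgn hnsQ hOQ)))
  · let V := ↥P ⧸ frattini ↥P
    have h2 : ∀ v : V, v ^ 2 = 1 := CfsgLib.PGroup.quotient_frattini_pow hPp
    obtain ⟨d, L, M, hV, hL, hLM, hM⟩ := A8Section.exists_linear_model h2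
    let ψ0 : X →* GL (Fin d) (ZMod 2) := M.comp (CfsgLib.A8.frattiniAct P)
    have hker : ψ0.ker = P :=
      ((M.ker_comp_of_injective (f := CfsgLib.A8.frattiniAct P) hM)).trans (CfsgLib.A8.ker_frattiniAct hX)
    let ψQ : X ⧸ P →* GL (Fin d) (ZMod 2) :=
      (QuotientGroup.kerLift ψ0).comp (QuotientGroup.quotientMulEquivOfEq hker.symm).toMonoidHom
    have hψQ : Function.Injective ψQ := (QuotientGroup.kerLift_injective ψ0).comp (MulEquiv.injective _)
    have hψQr : ∀ q, ψQ q ∈ ψ0.range := fun q => by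
      induction q using QuotientGroup.induction_on with
      | _ x => exact ⟨x, rfl⟩
    have h720 : 720 ≤ Nat.card (X ⧸ P) := by
      rcases hQ with ⟨⟨e⟩⟩ | ⟨⟨e⟩⟩ | ⟨⟨e⟩⟩
      · rw [Nat.card_congr e.toEquiv, Nat.card_perm, Nat.card_fin]; decide
      · rw [Nat.card_congr e.toEquiv, Nat.card_perm, Nat.card_fin]; decide
      · rw [Nat.card_congr e.toEquiv, nat_card_alternatingGroup, Nat.card_fin]; decide
    have hd : d = 4 := by
      have hd4 : d ≤ 4 := by
        let q : (⊤ : Subgroup ↥P) →* V := (QuotientGroup.mk' (frattini ↥P)).comp (⊤ : Subgroup ↥P).subtype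
        have hq : Function.Surjective q := fun v => by
          induction v using QuotientGroup.induction_on with
          | _ r => exact ⟨⟨r, Subgroup.mem_top r⟩, rfl⟩
        let e := QuotientGroup.quotientKerEquivOfSurjective q hq
        have hcomm : IsMulCommutative (⊤ : Subgroup ((⊤ : Subgroup ↥P) ⧸ q.ker)) :=
          ⟨⟨fun a b => Subtype.ext (e.injective (by
            rw [Subgroup.coe_mul, Subgroup.coe_mul, map_mul, map_mul]
            exact CfsgLib.PGroup.quotient_frattini_comm hPp _ _))⟩⟩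
        have := h4 ⊤ q.ker ⊤ hcomm (fun a _ => e.injective (by rw [map_pow, map_one, h2]))
        rw [Subgroup.card_top, Nat.card_congr e.toEquiv, hV] at this
        exact (Nat.pow_le_pow_iff_right (by norm_num : 1 < 2)).1 this
      by_contra hne
      have h1 := Nat.card_le_card_of_injective ψQ hψQ
      have h3 : Nat.card (GL (Fin d) (ZMod 2)) ≤ Nat.card (Matrix (Fin d) (Fin d) (ZMod 2)) :=
        Nat.card_le_card_of_injective Units.val Units.val_injective
      have h5 : Nat.card (Matrix (Fin d) (Fin d) (ZMod 2)) = (2 ^ d) ^ d := by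
        show Nat.card (Fin d → Fin d → ZMod 2) = _
        rw [Nat.card_fun, Nat.card_fun, Nat.card_zmod, Nat.card_fin]
      interval_cases d <;> omega
    subst hd
    obtain ⟨g, hg⟩ : ∃ g : GL (Fin 4) (ZMod 2), ∀ m ∈ A8Section.R, g⁻¹ * m * g ∈ ψQ.range := by
      have h6 : ∀ f : Equiv.Perm (Fin 6) →* X ⧸ P, Function.Injective f →
          ∃ g : GL (Fin 4) (ZMod 2), ∀ m ∈ A8Section.R, g⁻¹ * m * g ∈ ψQ.range := by
        intro f hf
        obtain ⟨g, hg⟩ := A8Section.exists_conj_R (ψQ.comp f) (hψQ.comp hf)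
        exact ⟨g, fun m hm => by obtain ⟨x, hx⟩ := hg m hm; exact ⟨f x, hx⟩⟩
      rcases hQ with ⟨⟨e⟩⟩ | ⟨⟨e⟩⟩ | ⟨⟨e⟩⟩
      · exact h6 e.symm.toMonoidHom e.symm.injective
      · exact h6 (e.symm.toMonoidHom.comp (Equiv.Perm.viaEmbeddingHom (Fin.castSuccEmb (n := 6))))
          (e.symm.injective.comp (Equiv.Perm.viaEmbeddingHom_injective _))
      · obtain ⟨e8⟩ := CfsgLib.A8.gl4_equiv
        refine ⟨1, fun m _ => ?_⟩
        have hs : Function.Surjective ψQ := ((Nat.bijective_iff_injective_and_card ψQ).2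
          ⟨hψQ, by rw [Nat.card_congr e.toEquiv, Nat.card_congr e8.toEquiv]⟩).2
        exact hs _
    let ψ : X →* GL (Fin 4) (ZMod 2) := (MulAut.conj g).toMonoidHom.comp ψ0
    let L' : P → A8Section.V4 := fun p =>
      (g : Matrix (Fin 4) (Fin 4) (ZMod 2)) *ᵥ L (p : V)
    refine A8Section.not_sectional_four P L' (fun p q => ?_) (fun w => ?_) ψ (fun x p => ?_) ?_ ?_ hsec
    · show (g : Matrix (Fin 4) (Fin 4) (ZMod 2)) *ᵥ L ((p * q : P) : V) = _
      rw [QuotientGroup.mk_mul, hL, Matrix.mulVec_add]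
    · obtain ⟨p, hp⟩ := QuotientGroup.mk_surjective
        (L.symm (((g⁻¹ : GL (Fin 4) (ZMod 2)) : Matrix (Fin 4) (Fin 4) (ZMod 2)) *ᵥ w))
      refine ⟨p, ?_⟩
      show (g : Matrix (Fin 4) (Fin 4) (ZMod 2)) *ᵥ L (p : V) = w
      rw [hp, L.apply_symm_apply, Matrix.mulVec_mulVec, ← Units.val_mul, mul_inv_cancel, Units.val_one,
        Matrix.one_mulVec]
    · show (g : Matrix (Fin 4) (Fin 4) (ZMod 2)) *ᵥ L ((MulAut.conjNormal x p : P) : V) = _
      rw [show ((MulAut.conjNormal x p : P) : V) = CfsgLib.A8.frattiniAct P x (p : V) from rfl, hLM,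
        Matrix.mulVec_mulVec, Matrix.mulVec_mulVec, ← Units.val_mul, ← Units.val_mul]
      congr 2
      show g * ψ0 x = g * ψ0 x * g⁻¹ * g
      rw [inv_mul_cancel_right]
    · exact ((MulAut.conj g).toMonoidHom.ker_comp_of_injective (f := ψ0) (MulEquiv.injective _)).trans hker
    · intro m hm
      obtain ⟨q, hq⟩ := hg m hm
      obtain ⟨x, hx⟩ := hψQr q
      refine ⟨x, ?_⟩
      show g * ψ0 x * g⁻¹ = m
      rw [hx, hq]; group

end Cfsg.Agent.S3104
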