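import Cfsg.Statements.S3105
import Cfsg.Agent.Lib.RankFourL32.Main
import Cfsg.Agent.Lib.PGroup.DihedralWreath.Base
import Cfsg.Agent.Lib.InvolChar.A8Normalizer
import Cfsg.Agent.Lib.PStab.FusionForms

set_option autoImplicit false
open Cfsg

namespace Cfsg.Agent.S3105

/-- Let X be a finite nonsolvable 2-constrained group with no nontrivial normal subgroup of odd order and of sectional 2-rank at most 4, and suppose X/O₂(X) is isomorphic to the projective special linear group of dimension 3 over the field with 2 elements. Then O₂(X) is elementary abelian of order 8 or 16, or is isomorphic to the direct product of a cyclic group of order 4 and an elementary abelian group of order 8. -/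
theorem result {X : Type*} [Group X] [Finite X] (hns : ¬ Group.IsSolvable X) (hc : Cfsg.IsPConstrained 2 X) (hO : Cfsg.oddCore X = ⊥)
    (h4 : Cfsg.SectionalPRankLE 2 4 X) {F : Type*} [Field F] [Fintype F] (hF : Fintype.card F = 2)
    (hQ : Nonempty (X ⧸ Cfsg.pCore 2 X ≃* Matrix.ProjectiveSpecialLinearGroup (Fin 3) F)) :
    (Cfsg.IsElementaryAbelian 2 (Cfsg.pCore 2 X) ∧ (Nat.card ↥(Cfsg.pCore 2 X) = 8 ∨ Nat.card ↥(Cfsg.pCore 2 X) = 16)) ∨
      Nonempty (↥(Cfsg.pCore 2 X) ≃* Multiplicative (ZMod 4) × (Fin 3 → Multiplicative (ZMod 2))) := by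
  classical
  haveI : Fact (Nat.Prime 2) := ⟨Nat.prime_two⟩
  have hX : CfsgLib.LocalEven.HasCharP 2 X := CfsgLib.PStab.centralizer_pCore_le_of_isPConstrained hO hc
  obtain ⟨e⟩ := hQ
  set P0 := Cfsg.pCore 2 X with hP0
  have hPp : IsPGroup 2 P0 := CfsgLib.Cores.isPGroup_pCore 2
  let ρ : ZMod 2 ≃+* F := ZMod.ringEquivOfPrime F Nat.prime_two hF
  let eSL : Matrix.SpecialLinearGroup (Fin 3) (ZMod 2) ≃* Matrix.SpecialLinearGroup (Fin 3) F :=
    MonoidHom.toMulEquiv (Matrix.SpecialLinearGroup.map ρ.toRingHom)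
      (Matrix.SpecialLinearGroup.map ρ.symm.toRingHom)
      (MonoidHom.ext fun g => Subtype.ext (Matrix.ext fun i j => ρ.symm_apply_apply _))
      (MonoidHom.ext fun g => Subtype.ext (Matrix.ext fun i j => ρ.apply_symm_apply _))
  have hdet : ∀ g : GL (Fin 3) (ZMod 2), (g : Matrix (Fin 3) (Fin 3) (ZMod 2)).det = 1 := fun g => by
    have hu := (Matrix.isUnit_iff_isUnit_det (g : Matrix (Fin 3) (Fin 3) (ZMod 2))).1 g.isUnit
    generalize (g : Matrix (Fin 3) (Fin 3) (ZMod 2)).det = d at hu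
    exact (CfsgLib.A8.zmod_two_cases d).resolve_left hu.ne_zero
  have hZ : Subgroup.center (Matrix.SpecialLinearGroup (Fin 3) F) = ⊥ := by
    rw [Subgroup.eq_bot_iff_forall]
    intro z hz
    obtain ⟨r, hr, hrz⟩ := Matrix.SpecialLinearGroup.mem_center_iff.1 hz
    rcases CfsgLib.A8.zmod_two_cases (ρ.symm r) with hr0 | hr1
    · rw [RingEquiv.map_eq_zero_iff] at hr0
      rw [hr0, Fintype.card_fin, zero_pow (by norm_num)] at hr
      exact absurd hr zero_ne_one
    · rw [RingEquiv.map_eq_one_iff] at hr1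
      exact Subtype.ext (by rw [← hrz, hr1]; simp)
  let eP : GL (Fin 3) (ZMod 2) ≃* Matrix.ProjectiveSpecialLinearGroup (Fin 3) F :=
    (CfsgLib.A8.glEquivSL hdet).trans (eSL.trans
      ((QuotientGroup.quotientBot.symm).trans (QuotientGroup.quotientMulEquivOfEq hZ.symm)))
  let θ : X →* GL (Fin 3) (ZMod 2) := ((e.trans eP.symm).toMonoidHom).comp (QuotientGroup.mk' P0)
  have hθ : CfsgLib.RankFourL32.Frame θ P0 := by
    refine ⟨(e.trans eP.symm).surjective.comp (QuotientGroup.mk'_surjective P0), ?_⟩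
    ext x
    rw [MonoidHom.mem_ker]
    show (e.trans eP.symm) (QuotientGroup.mk' P0 x) = 1 ↔ _
    rw [MulEquiv.map_eq_one_iff]
    exact QuotientGroup.eq_one_iff x
  have hS : CfsgLib.RankFourL32.Setup P0 := by
    refine ⟨⟨θ, hθ⟩, hPp, fun H N hNH hn hcm hs => ?_⟩
    by_contra hlt
    exact CfsgLib.PGroup.DihedralWreath.no_section h4 H N hNH hn hcm hs (by omega)
  haveI := hS.normal
  let P : Subgroup X := Subgroup.closure {y | ∃ q ∈ P0, q * q = y}
  have hR : CfsgLib.RankFourA5.Rad P0 P := by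
    refine ⟨?_, (Subgroup.closure_le _).2 ?_, fun q hq => Subgroup.subset_closure ⟨q, hq, rfl⟩,
      fun M hM => (Subgroup.closure_le _).2 ?_, ?_⟩
    · refine ⟨fun x hx g => ?_⟩
      have h1 : P.map (MulAut.conj g).toMonoidHom ≤ P := by
        rw [MonoidHom.map_closure, Subgroup.closure_le]
        rintro _ ⟨_, ⟨q, hq, rfl⟩, rfl⟩
        refine Subgroup.subset_closure ⟨g * q * g⁻¹, hS.normal.conj_mem q hq g, ?_⟩
        show _ = g * (q * q) * g⁻¹
        group
      exact h1 ⟨x, hx, rfl⟩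
    · rintro _ ⟨q, hq, rfl⟩
      exact mul_mem hq hq
    · rintro _ ⟨q, hq, rfl⟩
      exact hM q hq
    · by_contra hno
      push Not at hno
      have hPΦ : P ≤ (frattini ↥P0).map P0.subtype := by
        rw [Subgroup.closure_le]
        rintro _ ⟨q, hq, rfl⟩
        have h2 := CfsgLib.PGroup.quotient_frattini_pow hPp
          (((⟨q, hq⟩ : P0) : P0) : P0 ⧸ frattini ↥P0)
        rw [pow_two, ← QuotientGroup.mk_mul, QuotientGroup.eq_one_iff] at h2
        exact ⟨_, h2, rfl⟩
      obtain ⟨g, hgQ, -⟩ := hS.exists_seven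
      refine hgQ ?_
      have hg : g ∈ (CfsgLib.A8.frattiniAct P0).ker := by
        rw [MonoidHom.mem_ker]
        refine MulEquiv.ext fun v => ?_
        induction v using QuotientGroup.induction_on with
        | _ p =>
          show ((MulAut.conjNormal g p : P0) : P0 ⧸ frattini ↥P0) = (p : P0 ⧸ frattini ↥P0)
          rw [← div_eq_one, ← QuotientGroup.mk_div, QuotientGroup.eq_one_iff, div_eq_mul_inv]
          obtain ⟨w, hw, hwe⟩ := Subgroup.mem_map.1 (hPΦ (hno g p p.2))
          have hwe' : w = MulAut.conjNormal g p * p⁻¹ := Subtype.ext (hwe.trans (by simp))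
          exact hwe' ▸ hw
      rw [CfsgLib.A8.ker_frattiniAct hX] at hg
      exact hg
  rcases CfsgLib.RankFourL32.Rad.main hS hR with ⟨hex, hcard⟩ | hiso
  · exact Or.inl ⟨⟨⟨⟨fun a b => Subtype.ext (CfsgLib.RankFourA5.comm_of_sq hex a.2 b.2)⟩⟩,
      fun a ha => by rw [pow_two]; exact hex a ha⟩, hcard⟩
  · exact Or.inr hiso

end Cfsg.Agent.S3105
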