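import Cfsg.Statements.S3106
import Cfsg.Agent.Lib.RankFourA5.Main
import Cfsg.Agent.Lib.PGroup.DihedralWreath.Base
import Cfsg.Agent.Lib.InvolChar.A8Normalizer
import Cfsg.Agent.Lib.PStab.FusionForms
import Cfsg.Agent.S3103

set_option autoImplicit false
open Cfsg

namespace Cfsg.Agent.S3106

/-- Let X be a finite nonsolvable 2-constrained group with no nontrivial normal subgroup of odd order and of sectional 2-rank at most 4, and suppose X/O₂(X) contains a subgroup isomorphic to the alternating group of degree 5. Then O₂(X) is elementary abelian of order 16, or O₂(X) is a central product of a quaternion group of order 8 and a dihedral group of order 8 (it has order 32 and is generated by two elementwise-commuting subgroups, one quaternion of order 8 and one dihedral of order 8, meeting in the centre). -/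
theorem result {X : Type*} [Group X] [Finite X] (hns : ¬ Group.IsSolvable X) (hc : Cfsg.IsPConstrained 2 X) (hO : Cfsg.oddCore X = ⊥)
    (h4 : Cfsg.SectionalPRankLE 2 4 X)
    (hQ : ∃ A : Subgroup (X ⧸ Cfsg.pCore 2 X), Nonempty (↥A ≃* ↥(alternatingGroup (Fin 5)))) :
    (Cfsg.IsElementaryAbelian 2 (Cfsg.pCore 2 X) ∧ Nat.card ↥(Cfsg.pCore 2 X) = 16) ∨
      (Nat.card ↥(Cfsg.pCore 2 X) = 32 ∧ ∃ A B : Subgroup ↥(Cfsg.pCore 2 X),
        Nonempty (↥A ≃* QuaternionGroup 2) ∧ Nonempty (↥B ≃* DihedralGroup 4) ∧ (∀ a ∈ A, ∀ b ∈ B, a * b = b * a) ∧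
          A ⊔ B = ⊤ ∧ A ⊓ B = Subgroup.center ↥(Cfsg.pCore 2 X)) := by
  classical
  haveI : Fact (Nat.Prime 2) := ⟨Nat.prime_two⟩
  have hX : CfsgLib.LocalEven.HasCharP 2 X := CfsgLib.PStab.centralizer_pCore_le_of_isPConstrained hO hc
  obtain ⟨A, ⟨e⟩⟩ := hQ
  set P0 := Cfsg.pCore 2 X with hP0
  have hPp : IsPGroup 2 P0 := CfsgLib.Cores.isPGroup_pCore 2
  let L : Subgroup X := A.comap (QuotientGroup.mk' P0)
  have hPL : P0 ≤ L := fun x hx => by
    rw [Subgroup.mem_comap, CfsgLib.RankFourA5.mk_eq_one.2 hx]; exact one_mem A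
  let Q : Subgroup L := P0.subgroupOf L
  let eQ : Q ≃* P0 := Subgroup.subgroupOfEquivOfLe hPL
  let π : L →* alternatingGroup (Fin 5) :=
    e.toMonoidHom.comp ((QuotientGroup.mk' P0).subgroupComap A)
  have hπ : Function.Surjective π := e.surjective.comp
    (MonoidHom.subgroupComap_surjective_of_surjective _ A (QuotientGroup.mk'_surjective P0))
  have hker : π.ker = Q := by
    ext x
    rw [MonoidHom.mem_ker, Subgroup.mem_subgroupOf]
    show e ((QuotientGroup.mk' P0).subgroupComap A x) = 1 ↔ _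
    rw [MulEquiv.map_eq_one_iff, Subtype.ext_iff]
    exact QuotientGroup.eq_one_iff (x : X)
  have hS : CfsgLib.RankFourA5.Setup Q := by
    refine ⟨⟨π, hπ, hker⟩, hPp.of_equiv eQ.symm, fun H N hNH hn hcm hs => ?_⟩
    have hcard : ∀ K : Subgroup L, Nat.card (K.map L.subtype) = Nat.card K := fun K =>
      (Nat.card_congr (K.equivMapOfInjective _ L.subtype_injective).toEquiv).symm
    by_contra hlt
    refine CfsgLib.PGroup.DihedralWreath.no_section h4 (H.map L.subtype) (N.map L.subtype)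
      (Subgroup.map_mono hNH) ?_ ?_ ?_ (by rw [hcard, hcard]; omega)
    · rintro _ ⟨a, ha, rfl⟩ _ ⟨b, hb, rfl⟩
      exact ⟨a * b * a⁻¹, hn a ha b hb, by simp⟩
    · rintro _ ⟨a, ha, rfl⟩ _ ⟨b, hb, rfl⟩
      exact ⟨a * b * a⁻¹ * b⁻¹, hcm a ha b hb, by simp⟩
    · rintro _ ⟨a, ha, rfl⟩
      exact ⟨a * a, hs a ha, by simp⟩
  haveI := hS.normal
  let P : Subgroup L := Subgroup.closure {y | ∃ q ∈ Q, q * q = y}
  have hR : CfsgLib.RankFourA5.Rad Q P := by
    refine ⟨?_, (Subgroup.closure_le _).2 ?_, fun q hq => Subgroup.subset_closure ⟨q, hq, rfl⟩,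
      fun M hM => (Subgroup.closure_le _).2 ?_, ?_⟩
    · refine ⟨fun x hx g => ?_⟩
      have h1 : P.map (MulAut.conj g).toMonoidHom ≤ P := by
        rw [MonoidHom.map_closure, Subgroup.closure_le]
        rintro _ ⟨_, ⟨q, hq, rfl⟩, rfl⟩
        refine Subgroup.subset_closure ⟨g * q * g⁻¹, hS.normal.conj_mem q hq g, ?_⟩
        show _ = g * (q * q) * g⁻¹
        group
      exact h1 ⟨x, hx, rfl⟩
    · rintro _ ⟨q, hq, rfl⟩
      exact mul_mem hq hq
    · rintro _ ⟨q, hq, rfl⟩
      exact hM q hq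
    · by_contra hno
      push Not at hno
      let Φ : Subgroup L := ((frattini ↥P0).map P0.subtype).comap L.subtype
      have hPΦ : P ≤ Φ := by
        rw [Subgroup.closure_le]
        rintro _ ⟨q, hq, rfl⟩
        have h2 := CfsgLib.PGroup.quotient_frattini_pow hPp ((eQ ⟨q, hq⟩ : P0) : P0 ⧸ frattini ↥P0)
        rw [pow_two, ← QuotientGroup.mk_mul, QuotientGroup.eq_one_iff] at h2
        exact ⟨_, h2, rfl⟩
      obtain ⟨g, -, hgQ⟩ := hS.exists_prime_elt (p := 5) (by norm_num) (by norm_num) (by norm_num)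
      refine hgQ ?_
      have hg : (g : X) ∈ (CfsgLib.A8.frattiniAct P0).ker := by
        rw [MonoidHom.mem_ker]
        refine MulEquiv.ext fun v => ?_
        induction v using QuotientGroup.induction_on with
        | _ p =>
          show ((MulAut.conjNormal (g : X) p : P0) : P0 ⧸ frattini ↥P0) = (p : P0 ⧸ frattini ↥P0)
          rw [← div_eq_one, ← QuotientGroup.mk_div, QuotientGroup.eq_one_iff, div_eq_mul_inv]
          obtain ⟨w, hw, hwe⟩ := Subgroup.mem_map.1 (hPΦ (hno g ⟨p, hPL p.2⟩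
            (Subgroup.mem_subgroupOf.2 p.2)) : _ ∈ (frattini ↥P0).map P0.subtype)
          have hwe' : w = MulAut.conjNormal (g : X) p * p⁻¹ := Subtype.ext (hwe.trans (by simp))
          exact hwe' ▸ hw
      rw [CfsgLib.A8.ker_frattiniAct hX] at hg
      exact Subgroup.mem_subgroupOf.2 hg
  rcases hR.main hS with ⟨h16, hex⟩ | hqd
  · left
    have hex' : ∀ a ∈ P0, a * a = 1 := fun a ha =>
      congrArg Subtype.val (hex ⟨a, hPL ha⟩ (Subgroup.mem_subgroupOf.2 ha))
    refine ⟨⟨⟨⟨fun a b => Subtype.ext (CfsgLib.RankFourA5.comm_of_sq hex' a.2 b.2)⟩⟩,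
      fun a ha => by rw [pow_two]; exact hex' a ha⟩, ?_⟩
    rw [← Nat.card_congr eQ.toEquiv]
    exact h16
  · right
    exact hqd.of_mulEquiv eQ

end Cfsg.Agent.S3106
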