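import Cfsg.Statements.S3116
import Mathlib
-- import your own Cfsg.Agent.* helpers here

set_option autoImplicit false
open Cfsg

namespace Cfsg.Agent.S3116

/-- The automorphism group of a dihedral 2-group of order at least 8, or of a quasi-dihedral (semidihedral) 2-group of order at least 16, is a 2-group. -/
theorem result {X : Type*} [Group X] [Finite X] (h2 : IsPGroup 2 X)
    (h : (∃ n : ℕ, 4 ≤ n ∧ Nonempty (X ≃* DihedralGroup n)) ∨ Cfsg.IsQuasiDihedral X) : IsPGroup 2 (MulAut X) := by
  classical
  -- a cyclic subgroup of index two containing every element of maximal order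
  suffices key : ∀ x y : X, (∀ g : X, (∃ i : ℕ, g = x ^ i) ∨ ∃ i : ℕ, g = x ^ i * y) →
      (∀ i : ℕ, orderOf (x ^ i * y) < orderOf x) → IsPGroup 2 (MulAut X) by
    rcases h with ⟨n, hn, ⟨e⟩⟩ | ⟨n, hn, hcard, x, y, hx, hy, hxy⟩
    · haveI : NeZero n := ⟨by omega⟩
      have hr : orderOf (e.symm (DihedralGroup.r 1)) = n := by
        rw [MulEquiv.orderOf_eq, DihedralGroup.orderOf_r_one]
      refine key (e.symm (DihedralGroup.r 1)) (e.symm (DihedralGroup.sr 0)) (fun g => ?_) (fun i => ?_)
      · obtain ⟨d, rfl⟩ := e.symm.surjective g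
        rcases d with j | j
        · exact Or.inl ⟨j.val, by rw [← map_pow, DihedralGroup.r_one_pow, ZMod.natCast_zmod_val]⟩
        · refine Or.inr ⟨(-j).val, ?_⟩
          rw [← map_pow, ← map_mul, DihedralGroup.r_one_pow, DihedralGroup.r_mul_sr,
            ZMod.natCast_zmod_val, zero_sub, neg_neg]
      · rw [hr, ← map_pow, ← map_mul, MulEquiv.orderOf_eq, DihedralGroup.r_one_pow,
          DihedralGroup.r_mul_sr, DihedralGroup.orderOf_sr]
        omega
    · have hx' : orderOf x = 2 ^ n := hx
      have hyy : y * y = 1 := by rw [← sq, ← hy, pow_orderOf_eq_one]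
      set a := 2 ^ (n - 1) - 1 with ha
      have hconj : ∀ i : ℕ, y * x ^ i = x ^ (a * i) * y := fun i => by
        have h1 : y * x ^ i * y⁻¹ = x ^ (a * i) := by rw [← conj_pow, hxy, pow_mul]
        rw [← h1]; group
      have hyC : y ∉ Subgroup.zpowers x := by
        intro hmem
        obtain ⟨k, rfl⟩ := Subgroup.mem_zpowers_iff.1 hmem
        have hc : Commute (x ^ k) x := Commute.zpow_self x k
        have h1 : x ^ 1 = x ^ a := by
          rw [pow_one, ← hxy, hc.eq, mul_inv_cancel_right]
        have h2' := pow_inj_mod.1 h1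
        rw [hx'] at h2'
        have hb : 2 ^ n = 2 * 2 ^ (n - 1) := by
          rw [← pow_succ', Nat.sub_add_cancel (by omega)]
        have hb4 : 4 ≤ 2 ^ (n - 1) := by
          calc 4 = 2 ^ 2 := rfl
            _ ≤ _ := Nat.pow_le_pow_right (by norm_num) (by omega)
        rw [Nat.mod_eq_of_lt (by omega), Nat.mod_eq_of_lt (by omega)] at h2'
        omega
      refine key x y (fun g => ?_) (fun i => ?_)
      · have hidx : (Subgroup.zpowers x).index = 2 := by
          have h1 := Subgroup.card_mul_index (Subgroup.zpowers x)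
          rw [Nat.card_zpowers, hx', hcard, pow_succ] at h1
          exact Nat.eq_of_mul_eq_mul_left (by positivity) h1
        by_cases hg : g ∈ Subgroup.zpowers x
        · obtain ⟨i, hi⟩ := mem_powers_iff_mem_zpowers.2 hg
          exact Or.inl ⟨i, hi.symm⟩
        · have hgy : g * y ∈ Subgroup.zpowers x :=
            (Subgroup.mul_mem_iff_of_index_two hidx).2 (iff_of_false hg hyC)
          obtain ⟨i, hi⟩ := mem_powers_iff_mem_zpowers.2 hgy
          simp only at hi
          exact Or.inr ⟨i, by rw [hi, mul_assoc, hyy, mul_one]⟩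
      · have hsq : (x ^ i * y) ^ 2 = x ^ (i * 2 ^ (n - 1)) := by
          rw [sq, mul_assoc, ← mul_assoc y, hconj, mul_assoc (x ^ (a * i)), hyy, mul_one, ← pow_add]
          congr 1
          have : a + 1 = 2 ^ (n - 1) := by
            rw [ha, Nat.sub_add_cancel Nat.one_le_two_pow]
          rw [← this]; ring
        have h4 : (x ^ i * y) ^ 4 = 1 := by
          rw [show 4 = 2 * 2 from rfl, pow_mul, hsq, ← pow_mul]
          rw [show i * 2 ^ (n - 1) * 2 = 2 ^ n * i by
            rw [mul_assoc, ← pow_succ, Nat.sub_add_cancel (by omega), mul_comm], pow_mul, ← hx',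
            pow_orderOf_eq_one, one_pow]
        have := Nat.le_of_dvd (by norm_num) (orderOf_dvd_of_pow_eq_one h4)
        have : 8 ≤ 2 ^ n := by
          calc 8 = 2 ^ 3 := rfl
            _ ≤ _ := Nat.pow_le_pow_right (by norm_num) hn
        omega
  intro x y hgen hlt θ
  obtain ⟨N, hN⟩ := h2 x
  -- a 2-power power of θ fixes x
  have himg : ∀ η : MulAut X, ∃ j : ℕ, η x = x ^ j := by
    intro η
    rcases hgen (η x) with hc | ⟨i, hi⟩
    · exact hc
    · exfalso
      have := hlt i
      rw [← hi, MulEquiv.orderOf_eq] at this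
      omega
  obtain ⟨a, ha⟩ := himg θ
  have hpow : ∀ m : ℕ, (θ ^ m) x = x ^ (a ^ m) := by
    intro m
    induction m with
    | zero => simp
    | succ m ih => rw [pow_succ', MulAut.mul_apply, ih, map_pow, ha, ← pow_mul, pow_succ']
  obtain ⟨d, -, hd⟩ := (Nat.dvd_prime_pow Nat.prime_two).1 (orderOf_dvd_of_pow_eq_one hN)
  have hd1 : 1 ≤ d := by
    rcases Nat.eq_zero_or_pos d with rfl | h'
    · exfalso
      have := hlt 0
      simp only [pow_zero, one_mul] at hd this
      have := orderOf_pos y
      omega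
    · exact h'
  have haodd : a.Coprime (orderOf x) := by
    rw [hd]
    apply Nat.Coprime.pow_right
    rw [Nat.coprime_two_right]
    by_contra he
    rw [Nat.not_odd_iff_even] at he
    have h1 : orderOf (x ^ a) = orderOf x := by rw [← ha, MulEquiv.orderOf_eq]
    rw [orderOf_pow, Nat.div_eq_self] at h1
    rcases h1 with h1 | h1
    · exact absurd h1 (orderOf_pos x).ne'
    · obtain ⟨b, rfl⟩ := he
      have : 2 ∣ Nat.gcd (orderOf x) (b + b) :=
        Nat.dvd_gcd (hd ▸ dvd_pow_self 2 (by omega)) ⟨b, by ring⟩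
      rw [h1] at this
      omega
  have hfix : (θ ^ Nat.totient (orderOf x)) x = x := by
    rw [hpow]
    conv_rhs => rw [← pow_one x]
    exact pow_eq_pow_iff_modEq.2 (Nat.ModEq.pow_totient haodd)
  set η := θ ^ Nat.totient (orderOf x) with hη
  obtain ⟨j, hj⟩ : ∃ j : ℕ, η y = x ^ j * y := by
    rcases hgen (η y) with ⟨i, hi⟩ | hc
    · exfalso
      have hy : y = x ^ i := by
        apply η.injective
        rw [hi, map_pow, hfix]
      have := hlt (orderOf x * (i + 1) - i + 1)
      have hle : i ≤ orderOf x * (i + 1) :=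
        le_trans (Nat.le_succ i) (Nat.le_mul_of_pos_left _ (orderOf_pos x))
      rw [hy, ← pow_add, show orderOf x * (i + 1) - i + 1 + i = orderOf x * (i + 1) + 1 by omega,
        pow_succ, pow_mul, pow_orderOf_eq_one, one_pow, one_mul] at this
      exact lt_irrefl _ this
    · exact hc
  have hηpow : ∀ m : ℕ, (η ^ m) y = x ^ (j * m) * y := by
    intro m
    induction m with
    | zero => simp
    | succ m ih =>
      rw [pow_succ', MulAut.mul_apply, ih, map_mul, map_pow, hfix, hj, ← mul_assoc, ← pow_add]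
      ring_nf
  have hone : η ^ orderOf x = 1 := by
    have hηx : ∀ m : ℕ, (η ^ m) x = x := by
      intro m; induction m with
      | zero => rfl
      | succ m ih => rw [pow_succ', MulAut.mul_apply, ih, hfix]
    ext g
    rcases hgen g with ⟨i, rfl⟩ | ⟨i, rfl⟩
    · rw [map_pow, hηx]; rfl
    · rw [map_mul, map_pow, hηx, hηpow, mul_comm j, pow_mul, pow_orderOf_eq_one, one_pow, one_mul]
      rfl
  refine ⟨(d - 1) + d, ?_⟩
  rw [hη, ← pow_mul, hd] at hone
  rw [pow_add]
  rwa [Nat.totient_prime_pow Nat.prime_two hd1, show (2 - 1) = 1 from rfl, mul_one] at hone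

end Cfsg.Agent.S3116
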