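import Cfsg.Statements.S3153
import Cfsg.Agent.Lib.Local.PComp
import Cfsg.Agent.Lib.Solvable.Generation
import Cfsg.Agent.Lib.Invol.BaerSuzuki

set_option autoImplicit false
open scoped commutatorElement
open Cfsg

namespace Cfsg.Agent.S3153

section
open Subgroup
open scoped commutatorElement

variable {X : Type*} [Group X] [Finite X]

omit [Finite X] in
/-- Three subgroups: `[[A, P], P] = 1` with `P` perfect gives `[A, P] = 1`. -/
theorem commute_of_double {P A : Subgroup X} (hP : ⁅P, P⁆ = P)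
    (h : ∀ a ∈ A, ∀ x ∈ P, ∀ y ∈ P, Commute ⁅a, x⁆ y) : ∀ a ∈ A, ∀ x ∈ P, Commute a x := by
  have h1 : ⁅⁅A, P⁆, P⁆ = ⊥ := by
    rw [commutator_eq_bot_iff_le_centralizer, commutator_le]
    intro a ha x hx
    exact mem_centralizer_iff.2 fun y hy => (h a ha x hx y hy).symm.eq
  have h2 : ⁅⁅P, A⁆, P⁆ = ⊥ := by rw [commutator_comm P A]; exact h1
  have h3 := commutator_commutator_eq_bot_of_rotate h2 h1
  rw [hP, commutator_comm P A, commutator_eq_bot_iff_le_centralizer] at h3
  intro a ha x hx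
  exact (mem_centralizer_iff.1 (h3 ha) x hx).symm

/-- Two commuting involutions of a group of two-rank at most one coincide. -/
theorem eq_of_rank_one {C : Subgroup X} (hr : Cfsg.PRankLE 2 1 ↥C) {x y : X} (hx : x ∈ C) (hy : y ∈ C)
    (hx2 : x * x = 1) (hy2 : y * y = 1) (hx1 : x ≠ 1) (hy1 : y ≠ 1) (hxy : Commute x y) : x = y := by
  by_contra hne
  set a : C := ⟨x, hx⟩
  set b : C := ⟨y, hy⟩
  have hab : Commute a b := Subtype.ext hxy.eq
  haveI hcm : IsMulCommutative ↥(closure ({a, b} : Set C)) := by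
    refine Subgroup.isMulCommutative_closure ?_
    rintro _ (rfl | rfl) _ (rfl | rfl)
    exacts [rfl, hab.eq, hab.eq.symm, rfl]
  have hsq : ∀ z ∈ closure ({a, b} : Set C), z ^ 2 = 1 := by
    intro z hz
    induction hz using closure_induction with
    | mem z hz =>
      rw [pow_two]
      rcases hz with rfl | rfl
      exacts [Subtype.ext hx2, Subtype.ext hy2]
    | one => simp
    | mul u v hu hv h1 h2 =>
      rw [Commute.mul_pow (show Commute u v from congrArg Subtype.val
        (IsMulCommutative.is_comm.comm (⟨u, hu⟩ : ↥(closure ({a, b} : Set C))) ⟨v, hv⟩)), h1, h2, one_mul]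
    | inv u _ h1 => rw [inv_pow, h1, inv_one]
  have h4 := hr (closure ({a, b} : Set C)) hcm hsq
  haveI : Fintype ↥(closure ({a, b} : Set C)) := Fintype.ofFinite _
  have ha : a ∈ closure ({a, b} : Set C) := subset_closure (by simp)
  have hb : b ∈ closure ({a, b} : Set C) := subset_closure (by simp)
  have h5 : 3 ≤ Nat.card ↥(closure ({a, b} : Set C)) := by
    let f : Fin 3 → ↥(closure ({a, b} : Set C)) := ![1, ⟨a, ha⟩, ⟨b, hb⟩]
    have hf : Function.Injective f := by
      intro i j h
      have h' := congrArg (fun z : ↥(closure ({a, b} : Set C)) => (((z : C)) : X)) h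
      fin_cases i <;> fin_cases j <;> simp [f, a, b] at h' ⊢ <;>
        first | exact hx1 h'.symm | exact hy1 h'.symm | exact hne h' | exact hx1 h' | exact hy1 h' | exact hne h'.symm
    simpa using Nat.card_le_card_of_injective f hf
  omega

end

/-- Let X be a finite group and P a standard subgroup of X whose centralizer has 2-rank at most 1 and whose centre has odd order. Let S be a Sylow 2-subgroup of N_X(P) and t an involution of S centralizing P. Suppose some element g of X normalizes S, does not lie in S, has its square in S, and conjugates t into P·C_X(P). Then P commutes elementwise with the largest normal odd-order subgroup O(X) of X; consequently every t-invariant 2-component of X containing P is quasisimple. -/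
theorem result {X : Type*} [Group X] [Finite X] (P : Subgroup X) (hP : Cfsg.IsStandardSubgroup P)
    (hr : Cfsg.PRankLE 2 1 ↥(Subgroup.centralizer (P : Set X))) (hZ : Odd (Nat.card ↥(Subgroup.center ↥P)))
    (S : Sylow 2 ↥(Subgroup.normalizer (P : Set X))) (t : X) (ht : orderOf t = 2) (htS : t ∈ (S : Subgroup ↥(Subgroup.normalizer (P : Set X))).map (Subgroup.normalizer (P : Set X)).subtype)
    (htP : t ∈ Subgroup.centralizer (P : Set X))
    (g : X) (hgN : ∀ s ∈ (S : Subgroup ↥(Subgroup.normalizer (P : Set X))).map (Subgroup.normalizer (P : Set X)).subtype, g * s * g⁻¹ ∈ (S : Subgroup ↥(Subgroup.normalizer (P : Set X))).map (Subgroup.normalizer (P : Set X)).subtype)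
    (hgS : g ∉ (S : Subgroup ↥(Subgroup.normalizer (P : Set X))).map (Subgroup.normalizer (P : Set X)).subtype) (hg2 : g ^ 2 ∈ (S : Subgroup ↥(Subgroup.normalizer (P : Set X))).map (Subgroup.normalizer (P : Set X)).subtype)
    (hgt : g * t * g⁻¹ ∈ P ⊔ Subgroup.centralizer (P : Set X)) :
    ⁅P, Cfsg.oddCore X⁆ = ⊥ ∧
      ∀ L : Subgroup X, Cfsg.IsPComponent 2 L → P ≤ L → (∀ l ∈ L, t * l * t⁻¹ ∈ L) → Cfsg.IsQuasisimple ↥L := by
  classical
  haveI : Fact (Nat.Prime 2) := ⟨Nat.prime_two⟩
  obtain ⟨hPq, hCt, -, hNC⟩ := hP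
  set C := Subgroup.centralizer (P : Set X) with hC
  set S' := (S : Subgroup ↥(Subgroup.normalizer (P : Set X))).map (Subgroup.normalizer (P : Set X)).subtype with hS'
  set W := Cfsg.oddCore X with hW
  haveI hWn : W.Normal := by rw [hW]; infer_instance
  have hWodd : Odd (Nat.card W) := CfsgLib.Cores.odd_card_oddCore
  have hS'N : S' ≤ (Subgroup.normalizer (P : Set X)) := Subgroup.map_subtype_le _
  have ht1 : t ≠ 1 := fun h => by simp [h] at ht
  have ht2 : t * t = 1 := by rw [← pow_two, ← ht, pow_orderOf_eq_one]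
  -- centralizers of involutions of `C`
  have hcent : ∀ x ∈ C, orderOf x = 2 → Subgroup.centralizer ({x} : Set X) ≤ (Subgroup.normalizer (P : Set X)) := by
    intro x hx hx2 y hy
    rw [hNC]
    by_contra hyN
    have hodd := hCt.2 y hyN
    have hxm : x ∈ C ⊓ C.map (MulAut.conj y).toMonoidHom := by
      refine ⟨hx, x, hx, ?_⟩
      show y * x * y⁻¹ = x
      rw [Subgroup.mem_centralizer_singleton_iff.1 hy, mul_inv_cancel_right]
    have := Subgroup.orderOf_dvd_natCard _ hxm
    rw [hx2] at this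
    exact Nat.not_even_iff_odd.2 hodd (even_iff_two_dvd.2 this)
  have hgnN : g ∉ (Subgroup.normalizer (P : Set X)) := by
    intro hg
    set γ : ↥(Subgroup.normalizer (P : Set X)) := ⟨g, hg⟩
    have h2 : γ ^ 2 ∈ (S : Subgroup ↥(Subgroup.normalizer (P : Set X))) := by
      obtain ⟨y, hy, hyg⟩ := hg2
      rwa [show γ ^ 2 = y from Subtype.ext hyg.symm]
    have hnorm : γ ∈ Subgroup.normalizer ((S : Subgroup ↥(Subgroup.normalizer (P : Set X))) : Set ↥(Subgroup.normalizer (P : Set X))) := by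
      refine CfsgLib.Invol.mem_normalizer_of_map_conj_le (CfsgLib.Invol.map_conj_le_iff.mpr fun s hs => ?_)
      obtain ⟨y, hy, hyg⟩ := hgN s ⟨s, hs, rfl⟩
      have : γ * s * γ⁻¹ = y := Subtype.ext hyg.symm
      rwa [this]
    have hp : IsPGroup 2 ↥(Subgroup.zpowers γ) := by
      obtain ⟨k, hk⟩ := S.2 ⟨_, h2⟩
      have hk' : γ ^ (2 ^ (k + 1)) = 1 := by
        rw [pow_succ', pow_mul]; exact congrArg Subtype.val hk
      obtain ⟨i, -, hi⟩ := (Nat.dvd_prime_pow Nat.prime_two).1 (orderOf_dvd_of_pow_eq_one hk')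
      exact IsPGroup.of_card (n := i) (by rw [Nat.card_zpowers, hi])
    have := S.3 (IsPGroup.to_sup_of_normal_left' S.2 hp (Subgroup.zpowers_le.2 hnorm)) le_sup_left
    refine hgS ⟨γ, ?_, rfl⟩
    rw [← this]
    exact Subgroup.mem_sup_right (Subgroup.mem_zpowers γ)
  have htC : t ∈ C := htP
  have hgt' : g * t * g⁻¹ ∈ S' := hgN t htS
  -- `t` is central in `S`
  have htc : ∀ s ∈ S', Commute s t := by
    have hS2 : IsPGroup 2 ↥(S' ⊓ C) := (S.2.map (Subgroup.normalizer (P : Set X)).subtype).to_le inf_le_left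
    haveI : Nontrivial ↥(S' ⊓ C) := ⟨⟨⟨t, htS, htC⟩, 1, fun h => ht1 (congrArg Subtype.val h)⟩⟩
    haveI := hS2.center_nontrivial
    obtain ⟨z, hz⟩ := exists_prime_orderOf_dvd_card' (G := ↥(Subgroup.center ↥(S' ⊓ C))) 2 (by
      obtain ⟨k, hk0, hk⟩ := (IsPGroup.nontrivial_iff_card (hS2.to_subgroup _)).1 this
      exact hk ▸ dvd_pow_self 2 hk0.ne')
    rw [← Subgroup.orderOf_coe, ← Subgroup.orderOf_coe] at hz
    have key : ∀ x ∈ S' ⊓ C, x * x = 1 → x ≠ 1 → x = ((z : ↥(S' ⊓ C)) : X) := by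
      intro x hx hx2 hx1
      refine eq_of_rank_one hr hx.2 (z : ↥(S' ⊓ C)).2.2 hx2 (by rw [← pow_two, ← hz, pow_orderOf_eq_one]) hx1
        (fun h => by simp [h] at hz) ?_
      exact congrArg Subtype.val (Subgroup.mem_center_iff.1 z.2 ⟨x, hx⟩)
    intro s hs
    have hmem : s * t * s⁻¹ ∈ S' ⊓ C := by
      refine ⟨S'.mul_mem (S'.mul_mem hs htS) (S'.inv_mem hs), ?_⟩
      exact (Subgroup.mem_normalizer_iff.1 (hNC ▸ hS'N hs : s ∈ Subgroup.normalizer (C : Set X)) t).1 htC
    have h1 := key _ hmem (by rw [show s * t * s⁻¹ * (s * t * s⁻¹) = s * (t * t) * s⁻¹ by group, ht2]; group)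
      (by simpa using ht1)
    rw [← key t ⟨htS, htC⟩ ht2 ht1] at h1
    exact mul_inv_eq_iff_eq_mul.1 h1
  set t' := g * t * g⁻¹ with ht'
  have htt' : Commute t' t := htc _ hgt'
  have ht'2 : t' * t' = 1 := by rw [ht', show g * t * g⁻¹ * (g * t * g⁻¹) = g * (t * t) * g⁻¹ by group, ht2]; group
  have ht'1 : t' ≠ 1 := by simpa [ht'] using ht1
  have ht'C : t' ∉ C := by
    intro h
    refine hgnN (hcent t htC ht (Subgroup.mem_centralizer_singleton_iff.2 ?_))
    exact mul_inv_eq_iff_eq_mul.1 (eq_of_rank_one hr h htC ht'2 ht2 ht'1 ht1 htt')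
  have hgt2 : g * t' * g⁻¹ = t := by
    rw [ht', show g * (g * t * g⁻¹) * g⁻¹ = g ^ 2 * t * (g ^ 2)⁻¹ by rw [pow_two]; group, (htc _ hg2).eq, mul_inv_cancel_right]
  have hPC : ∀ x ∈ P, ∀ c ∈ C, Commute x c := fun x hx c hc => Subgroup.mem_centralizer_iff.1 hc x hx
  -- decomposition of `t'`
  obtain ⟨p, hp, c, hc, hpc⟩ : ∃ p ∈ P, ∃ c ∈ C, t' = p * c := by
    have h := hgt
    rw [← SetLike.mem_coe, Subgroup.coe_mul_of_right_le_normalizer_left P C
      (Subgroup.centralizer_le_normalizer _)] at h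
    obtain ⟨p, hp, c, hc, h⟩ := h
    exact ⟨p, hp, c, hc, h.symm⟩
  set m := Nat.card ↥(Subgroup.center ↥P) with hm
  have hpsq : (p * p) ^ m = 1 := by
    have h1 : p * p * (c * c) = 1 := by
      rw [← ht'2, hpc]; exact ((hPC p hp c hc).symm.mul_mul_mul_comm p c).symm
    have hmem : (⟨p * p, P.mul_mem hp hp⟩ : ↥P) ∈ Subgroup.center ↥P := by
      refine Subgroup.mem_center_iff.2 fun x => Subtype.ext ?_
      show (x : X) * (p * p) = p * p * x
      rw [eq_inv_of_mul_eq_one_left h1]
      exact (hPC x x.2 _ (C.inv_mem (C.mul_mem hc hc))).eq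
    exact congrArg (fun z : ↥(Subgroup.center ↥P) => ((z : ↥P) : X)) (pow_card_eq_one' (x := ⟨_, hmem⟩))
  have ht'm : t' = p ^ m * c ^ m := by
    obtain ⟨k, hk⟩ := hZ
    rw [← (hPC p hp c hc).mul_pow, ← hpc, hk, pow_succ, pow_mul, pow_two, ht'2, one_pow, one_mul]
  set p' := p ^ m with hp'
  set c' := c ^ m with hc'
  have hp'P : p' ∈ P := P.pow_mem hp m
  have hc'C : c' ∈ C := C.pow_mem hc m
  have hp'2 : p' * p' = 1 := by rw [hp', ← (Commute.refl p).mul_pow]; exact hpsq
  have hp'c' : Commute p' c' := hPC _ hp'P _ hc'C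
  have hc'2 : c' * c' = 1 := by
    have := ht'2
    rw [ht'm, (hp'c'.symm.mul_mul_mul_comm p' c'), hp'2, one_mul] at this
    exact this
  have hc'cases : c' = 1 ∨ c' = t := by
    by_cases h : c' = 1
    · exact Or.inl h
    refine Or.inr (eq_of_rank_one hr hc'C htC hc'2 ht2 h ht1 ?_)
    have he : c' = p' * t' := by rw [ht'm, ← mul_assoc, hp'2, one_mul]
    rw [he]
    exact (hPC _ hp'P _ htC).mul_left htt'
  have hp'1 : p' ≠ 1 := by
    intro h
    exact ht'C (by rw [ht'm, h, one_mul]; exact hc'C)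
  have hp'Z : ¬ ∀ y ∈ P, Commute p' y := by
    intro h
    have hmem : (⟨p', hp'P⟩ : ↥P) ∈ Subgroup.center ↥P :=
      Subgroup.mem_center_iff.2 fun x => Subtype.ext (h x x.2).symm
    have h2 := (Subgroup.center ↥P).orderOf_dvd_natCard hmem
    rw [← Subgroup.orderOf_coe, orderOf_eq_prime (p := 2) (by rw [pow_two, hp'2]) hp'1] at h2
    exact Nat.not_even_iff_odd.2 hZ (even_iff_two_dvd.2 h2)
  have hPperf : ⁅P, P⁆ = P := CfsgLib.Cores.commutator_self_of_isQuasisimple hPq
  have hWP : ∀ w ∈ W, w ∈ P → ∀ y ∈ P, Commute w y := by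
    intro w hw hwP y hy
    rcases CfsgLib.Cores.normal_eq_top_or_le_center_of_isQuasisimple hPq (W.subgroupOf P) with h | h
    · have hp'W : p' ∈ W := (Subgroup.subgroupOf_eq_top.1 h) hp'P
      have h2 := W.orderOf_dvd_natCard hp'W
      rw [orderOf_eq_prime (p := 2) (by rw [pow_two, hp'2]) hp'1] at h2
      exact absurd (even_iff_two_dvd.2 h2) (Nat.not_even_iff_odd.2 hWodd)
    · exact (congrArg Subtype.val (Subgroup.mem_center_iff.1 (h (show (⟨w, hwP⟩ : ↥P) ∈ W.subgroupOf P from hw)) ⟨y, hy⟩) : y * w = w * y).symm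
  have hWtP : ∀ w ∈ W ⊓ Subgroup.centralizer ({t} : Set X), ∀ x ∈ P, Commute w x := by
    refine commute_of_double hPperf fun w hw x hx => hWP _ ?_ ?_
    · rw [commutatorElement_def, mul_assoc, mul_assoc]
      refine W.mul_mem hw.1 ?_
      rw [← mul_assoc]
      exact hWn.conj_mem _ (W.inv_mem hw.1) x
    · rw [commutatorElement_def]
      exact P.mul_mem ((Subgroup.mem_normalizer_iff.1 (hcent t htC ht hw.2) x).1 hx) (P.inv_mem hx)
  -- the fixed points of `t'` are fixed by `t`
  have hfix : ∀ w ∈ W, Commute w t' → Commute w t := by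
    intro w hw hwt'
    have hv : Commute (g⁻¹ * w * g) t := by
      show g⁻¹ * w * g * t = t * (g⁻¹ * w * g)
      calc g⁻¹ * w * g * t = g⁻¹ * (w * t') * g := by rw [ht']; group
        _ = g⁻¹ * (t' * w) * g := by rw [hwt'.eq]
        _ = t * (g⁻¹ * w * g) := by rw [ht']; group
    have hvW : g⁻¹ * w * g ∈ W := by simpa using hWn.conj_mem _ hw g⁻¹
    have hvp : Commute (g⁻¹ * w * g) p' :=
      hWtP _ ⟨hvW, Subgroup.mem_centralizer_singleton_iff.2 hv.eq⟩ _ hp'P
    have hwq : Commute w (g * p' * g⁻¹) := by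
      show w * (g * p' * g⁻¹) = g * p' * g⁻¹ * w
      calc w * (g * p' * g⁻¹) = g * ((g⁻¹ * w * g) * p') * g⁻¹ := by group
        _ = g * (p' * (g⁻¹ * w * g)) * g⁻¹ := by rw [hvp.eq]
        _ = g * p' * g⁻¹ * w := by group
    have hd : Commute w (g * c' * g⁻¹) := by
      rcases hc'cases with h | h
      · rw [h, mul_one, mul_inv_cancel]; exact Commute.one_right w
      · rw [h]; exact hwt'
    rw [← hgt2, ht'm, show g * (p' * c') * g⁻¹ = (g * p' * g⁻¹) * (g * c' * g⁻¹) by group]
    exact hwq.mul_right hd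
  have hfix' : ∀ w ∈ W, Commute w t → Commute w t' := by
    intro w hw hwt
    have h1 : Commute (g * w * g⁻¹) t' := by
      show g * w * g⁻¹ * t' = t' * (g * w * g⁻¹)
      calc g * w * g⁻¹ * t' = g * (w * t) * g⁻¹ := by rw [ht']; group
        _ = g * (t * w) * g⁻¹ := by rw [hwt.eq]
        _ = t' * (g * w * g⁻¹) := by rw [ht']; group
    have h2 := hfix _ (hWn.conj_mem _ hw g) h1
    have hgi : g⁻¹ * t * g = t' := by rw [← hgt2]; group
    show w * t' = t' * w
    calc w * t' = g⁻¹ * ((g * w * g⁻¹) * t) * g := by rw [← hgi]; group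
      _ = g⁻¹ * (t * (g * w * g⁻¹)) * g := by rw [h2.eq]
      _ = t' * w := by rw [← hgi]; group
  -- the product fixes everything
  have hu : ∀ w ∈ W, Commute w (t * t') := by
    set A := Subgroup.closure ({t, t'} : Set X) with hA
    have hAc : ∀ x ∈ A, ∀ y ∈ A, x * y = y * x := by
      haveI : IsMulCommutative ↥A := by
        refine Subgroup.isMulCommutative_closure ?_
        rintro _ (rfl | rfl) _ (rfl | rfl)
        exacts [rfl, htt'.eq.symm, htt'.eq, rfl]
      exact fun x hx y hy => congrArg Subtype.val (IsMulCommutative.is_comm.comm (⟨x, hx⟩ : ↥A) ⟨y, hy⟩)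
    have hAel : ∀ x ∈ A, x = 1 ∨ x = t ∨ x = t' ∨ x = t * t' := by
      intro x hx
      have e1 : t * (t * t') = t' := by rw [← mul_assoc, ht2, one_mul]
      have e2 : t' * (t * t') = t := by rw [htt'.eq.symm, ← mul_assoc, ht'2, one_mul]
      induction hx using Subgroup.closure_induction_left with
      | one => exact Or.inl rfl
      | mul_left a ha y _ hy =>
        rcases ha with rfl | rfl <;> rcases hy with rfl | rfl | rfl | rfl <;>
          simp [ht2, ht'2, e1, e2, htt'.eq]
      | inv_mul_cancel a ha y _ hy =>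
        rcases ha with rfl | rfl <;> rcases hy with rfl | rfl | rfl | rfl <;>
          simp [inv_eq_of_mul_eq_one_left ht2, inv_eq_of_mul_eq_one_left ht'2, ht2, ht'2, e1, e2, htt'.eq]
    have hne : t ≠ t' := fun h => ht'C (h ▸ htC)
    have hA2 : ∀ x : ↥A, x ^ 2 = 1 := by
      intro ⟨x, hx⟩
      refine Subtype.ext ?_
      show x ^ 2 = 1
      rcases hAel x hx with rfl | rfl | rfl | rfl
      · simp
      · rw [pow_two, ht2]
      · rw [pow_two, ht'2]
      · rw [pow_two, htt'.mul_mul_mul_comm, ht2, ht'2, one_mul]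
    have hA2g : IsPGroup 2 ↥A := fun x => ⟨1, by simpa using hA2 x⟩
    have hnc : ¬ IsCyclic ↥A := by
      intro h
      obtain ⟨a, ha⟩ := h.exists_generator
      have hcard : Nat.card ↥A ≤ 2 := by
        rw [← orderOf_eq_card_of_forall_mem_zpowers ha]
        exact Nat.le_of_dvd two_pos (orderOf_dvd_of_pow_eq_one (hA2 a))
      have h3 : 3 ≤ Nat.card ↥A := by
        let f : Fin 3 → ↥A := ![1, ⟨t, Subgroup.subset_closure (by simp)⟩, ⟨t', Subgroup.subset_closure (by simp)⟩]
        have hf : Function.Injective f := by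
          intro i j h
          have h' := congrArg (fun z : ↥A => (z : X)) h
          fin_cases i <;> fin_cases j <;> simp [f] at h' ⊢ <;>
            first | exact ht1 h'.symm | exact ht'1 h'.symm | exact hne h' | exact ht1 h' | exact ht'1 h' | exact hne h'.symm
        simpa using Nat.card_le_card_of_injective f hf
      omega
    have hcop : (Nat.card ↥A).Coprime (Nat.card ↥W) := by
      obtain ⟨k, hk⟩ := hA2g.exists_card_eq
      rw [hk]
      exact Nat.Coprime.pow_left k (Nat.coprime_two_left.2 hWodd)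
    have hgen := CfsgLib.Solvable.iSup_centralizer_eq (A := A) (K := W) hAc hnc
      (by rw [Subgroup.normalizer_eq_top]; exact le_top) hcop
    intro w hw
    have hle : (⨆ a ∈ {a : X | a ∈ A ∧ a ≠ 1}, W ⊓ Subgroup.centralizer {a}) ≤
        Subgroup.centralizer ({t * t'} : Set X) := by
      refine iSup₂_le fun a ha v hv => Subgroup.mem_centralizer_singleton_iff.2 ?_
      have hva : Commute v a := Subgroup.mem_centralizer_singleton_iff.1 hv.2
      rcases hAel a ha.1 with h | h | h | h
      · exact absurd h ha.2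
      · rw [h] at hva; exact (hva.mul_right (hfix' v hv.1 hva)).eq
      · rw [h] at hva; exact ((hfix v hv.1 hva).mul_right hva).eq
      · rw [h] at hva; exact hva.eq
    rw [hgen] at hle
    exact Subgroup.mem_centralizer_singleton_iff.1 (hle hw)
  -- the kernel of the action of `P` on `W`
  have hPW : ∀ x ∈ P, ∀ w ∈ W, Commute x w := by
    haveI : ((Subgroup.centralizer (W : Set X)).subgroupOf P).Normal := by
      haveI : (Subgroup.centralizer (W : Set X)).Normal := inferInstance
      infer_instance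
    rcases CfsgLib.Cores.normal_eq_top_or_le_center_of_isQuasisimple hPq
      ((Subgroup.centralizer (W : Set X)).subgroupOf P) with h | h
    · exact fun x hx w hw => (Subgroup.mem_centralizer_iff.1 ((Subgroup.subgroupOf_eq_top.1 h) hx) w hw).symm
    have hK : ∀ x ∈ P, (∀ w ∈ W, Commute x w) → ∀ y ∈ P, Commute x y := fun x hx hxw y hy =>
      (congrArg Subtype.val (Subgroup.mem_center_iff.1
        (h (show (⟨x, hx⟩ : ↥P) ∈ (Subgroup.centralizer (W : Set X)).subgroupOf P from
          Subgroup.mem_centralizer_iff.2 fun w hw => (hxw w hw).eq.symm)) ⟨y, hy⟩) : y * x = x * y).symm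
    exfalso
    apply hp'Z
    rcases hc'cases with hc1 | hc1
    · -- `p'` acts as `t`
      have hpe : p' = t' := by rw [ht'm, hc1, mul_one]
      refine fun x hx => commute_of_double hPperf (A := Subgroup.zpowers p') ?_ p' (Subgroup.mem_zpowers p') x hx
      intro a ha x hx y hy
      obtain ⟨i, rfl⟩ := Subgroup.mem_zpowers_iff.1 ha
      refine hK _ ?_ (fun w hw => ?_) y hy
      · rw [commutatorElement_def]
        exact P.mul_mem (P.mul_mem (P.mul_mem (P.zpow_mem hp'P i) hx) (P.inv_mem (P.zpow_mem hp'P i))) (P.inv_mem hx)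
      have hv : ∀ v ∈ W, Commute (p' * t) v := fun v hv => by
        rw [hpe, htt'.eq]; exact (hu v hv).symm
      have hvz : ∀ v ∈ W, Commute (p' ^ i * t ^ i) v := fun v hv' => by
        rw [← (hPC p' hp'P t htC).mul_zpow]; exact (hv v hv').zpow_left i
      have e : ⁅p' ^ i, x⁆ = (p' ^ i * t ^ i) * (x * (p' ^ i * t ^ i)⁻¹ * x⁻¹) := by
        have hxt : Commute x (t ^ i) := (hPC x hx t htC).zpow_right i
        rw [commutatorElement_def, mul_inv_rev, ← mul_assoc x, hxt.inv_right.eq]
        group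
      rw [e]
      refine (hvz w hw).mul_left ?_
      have h1 : Commute (p' ^ i * t ^ i)⁻¹ (x⁻¹ * w * x) := by
        refine (hvz _ ?_).inv_left
        simpa using hWn.conj_mem _ hw x⁻¹
      show x * (p' ^ i * t ^ i)⁻¹ * x⁻¹ * w = w * (x * (p' ^ i * t ^ i)⁻¹ * x⁻¹)
      calc x * (p' ^ i * t ^ i)⁻¹ * x⁻¹ * w = x * ((p' ^ i * t ^ i)⁻¹ * (x⁻¹ * w * x)) * x⁻¹ := by group
        _ = x * ((x⁻¹ * w * x) * (p' ^ i * t ^ i)⁻¹) * x⁻¹ := by rw [h1.eq]
        _ = w * (x * (p' ^ i * t ^ i)⁻¹ * x⁻¹) := by group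
    · -- `p'` centralizes `W`
      refine fun y hy => hK p' hp'P (fun w hw => ?_) y hy
      have : t * t' = p' := by
        rw [ht'm, hc1, (hPC p' hp'P t htC).eq, ← mul_assoc, ht2, one_mul]
      exact this ▸ (hu w hw).symm
  refine ⟨?_, fun L hL hPL _ => ?_⟩
  · rw [Subgroup.commutator_eq_bot_iff_le_centralizer]
    exact fun x hx => Subgroup.mem_centralizer_iff.2 fun w hw => (hPW x hx w hw).eq.symm
  refine CfsgLib.Local.isQuasisimple_of_pPrimeCore_le_center hL ?_
  set O := Cfsg.pPrimeCore 2 ↥L with hO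
  have hOW : O.map L.subtype ≤ W := CfsgLib.Cores.map_subtype_pPrimeCore_le_of_isSubnormal 2 hL.1
  haveI hOn : O.Normal := by rw [hO]; infer_instance
  set M := Subgroup.centralizer (O : Set ↥L) with hM
  haveI hMn : M.Normal := inferInstance
  have hPM : P.subgroupOf L ≤ M := fun x hx => Subgroup.mem_centralizer_iff.2 fun o ho =>
    Subtype.ext (hPW x hx o (hOW ⟨o, ho, rfl⟩)).eq.symm
  have hq := CfsgLib.Cores.isQuasisimple_quotient_pPrimeCore hL
  haveI := hMn.map (QuotientGroup.mk' O) (QuotientGroup.mk'_surjective _)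
  rcases CfsgLib.Cores.normal_eq_top_or_le_center_of_isQuasisimple hq (M.map (QuotientGroup.mk' O)) with h | h
  · have hMO : M ⊔ O = ⊤ := by
      have := congrArg (Subgroup.comap (QuotientGroup.mk' O)) h
      rwa [Subgroup.comap_map_eq, QuotientGroup.ker_mk', Subgroup.comap_top] at this
    have hML : M.map L.subtype = L := by
      refine hL.2.2 _ ((Subgroup.Normal.isSubnormal hMn).trans' hL.1) (Subgroup.map_subtype_le _)
        (le_antisymm (Subgroup.map_mono (Subgroup.map_subtype_le _)) ?_)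
      have e : L = (M ⊔ O).map L.subtype := by rw [hMO, ← MonoidHom.range_eq_map, Subgroup.range_subtype]
      conv_lhs => rw [e]
      rw [Subgroup.map_sup, Subgroup.map_sup, sup_le_iff]
      refine ⟨le_rfl, (Subgroup.map_mono hOW).trans ?_⟩
      rw [(Subgroup.map_eq_bot_iff _).2 (by rw [QuotientGroup.ker_mk', hW])]
      exact bot_le
    intro o ho
    refine Subgroup.mem_center_iff.2 fun l => ?_
    have hl : l ∈ M := by
      obtain ⟨l', hl', he⟩ := hML.ge l.2
      rwa [← Subtype.ext (a1 := l') (a2 := l) he]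
    exact (Subgroup.mem_centralizer_iff.1 hl o ho).symm
  · exfalso
    set P₀ := P.subgroupOf L with hP₀
    have hperf : ⁅P₀, P₀⁆ = P₀ := by
      refine Subgroup.map_injective L.subtype_injective ?_
      rw [Subgroup.map_commutator, hP₀, Subgroup.subgroupOf_map_subtype, inf_eq_left.2 hPL, hPperf]
    have h1 : P₀.map (QuotientGroup.mk' O) = ⊥ := by
      rw [eq_bot_iff]
      conv_lhs => rw [← hperf, Subgroup.map_commutator]
      rw [Subgroup.commutator_le]
      intro a ha b _
      rw [Subgroup.mem_bot, commutatorElement_eq_one_iff_mul_comm]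
      exact (Subgroup.mem_center_iff.1 (h (Subgroup.map_mono hPM ha)) b).symm
    rw [Subgroup.map_eq_bot_iff, QuotientGroup.ker_mk'] at h1
    have hp'W : p' ∈ W := hOW ⟨⟨p', hPL hp'P⟩, h1 hp'P, rfl⟩
    have h2 := W.orderOf_dvd_natCard hp'W
    rw [orderOf_eq_prime (p := 2) (by rw [pow_two, hp'2]) hp'1] at h2
    exact absurd (even_iff_two_dvd.2 h2) (Nat.not_even_iff_odd.2 hWodd)

end Cfsg.Agent.S3153
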