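import Cfsg.Statements.S3154
import Cfsg.Agent.Lib.Schur.L34Cover

set_option autoImplicit false
open Cfsg

namespace Cfsg.Agent.S3154

/-- Let X be a finite quasisimple group whose centre is an elementary abelian 2-group and whose central quotient is isomorphic to the projective special linear group of dimension 3 over the field with 4 elements. Let T be a Sylow 2-subgroup of X and H ≠ K subgroups of T containing the centre Z(X) whose images in X/Z(X) are elementary abelian of order 16 (the two such subgroups of a Sylow 2-subgroup of the quotient). Then H and K are elementary abelian, H ∩ K is the centre of the subgroup they generate, and each of N_X(H), N_X(K) is a split extension of H, respectively K, by the projective special linear group of dimension 2 over the field with 4 elements (there is a complement isomorphic to that group). -/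
theorem result {X : Type*} [Group X] [Finite X] (hq : Cfsg.IsQuasisimple X) (hZ : Cfsg.IsElementaryAbelian 2 (Subgroup.center X))
    {F : Type*} [Field F] [Fintype F] (hF : Fintype.card F = 4) (hXL : Nonempty ((X ⧸ Subgroup.center X) ≃* Matrix.ProjectiveSpecialLinearGroup (Fin 3) F))
    (T : Sylow 2 X) (H K : Subgroup X) (hHK : H ≠ K) (hHT : H ≤ T) (hKT : K ≤ T) (hZH : Subgroup.center X ≤ H) (hZK : Subgroup.center X ≤ K)
    (hH : Cfsg.IsElementaryAbelian 2 (H.map (QuotientGroup.mk' (Subgroup.center X))) ∧ Nat.card ↥(H.map (QuotientGroup.mk' (Subgroup.center X))) = 16)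
    (hK : Cfsg.IsElementaryAbelian 2 (K.map (QuotientGroup.mk' (Subgroup.center X))) ∧ Nat.card ↥(K.map (QuotientGroup.mk' (Subgroup.center X))) = 16) :
    Cfsg.IsElementaryAbelian 2 H ∧ Cfsg.IsElementaryAbelian 2 K ∧
      H ⊓ K = (Subgroup.center ↥(H ⊔ K)).map (H ⊔ K).subtype ∧
      (∃ C : Subgroup X, C ≤ Subgroup.normalizer (H : Set X) ∧ C ⊓ H = ⊥ ∧ H ⊔ C = Subgroup.normalizer (H : Set X) ∧
        Nonempty (↥C ≃* Matrix.ProjectiveSpecialLinearGroup (Fin 2) F)) ∧
      (∃ C : Subgroup X, C ≤ Subgroup.normalizer (K : Set X) ∧ C ⊓ K = ⊥ ∧ K ⊔ C = Subgroup.normalizer (K : Set X) ∧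
        Nonempty (↥C ≃* Matrix.ProjectiveSpecialLinearGroup (Fin 2) F)) := by
  classical
  obtain ⟨e⟩ := hXL
  let σ₀ := e.toMonoidHom.comp (QuotientGroup.mk' (Subgroup.center X))
  have : Fact (Nat.Prime 2) := ⟨Nat.prime_two⟩
  obtain ⟨g, hg⟩ := CfsgLib.Schur.L34.exists_conj_le hF ((T : Subgroup X).map σ₀) (T.2.map σ₀)
  let c := MulAut.conj g
  let σ := c.toMonoidHom.comp σ₀
  have hσ : Function.Surjective σ :=
    c.surjective.comp (e.surjective.comp (QuotientGroup.mk'_surjective _))
  have hker : σ.ker = Subgroup.center X := by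
    ext x
    show c (e (QuotientGroup.mk' (Subgroup.center X) x)) = 1 ↔ _
    rw [map_eq_one_iff _ c.injective, map_eq_one_iff _ e.injective]
    exact QuotientGroup.eq_one_iff x
  have h2 : ∀ z ∈ σ.ker, z * z = 1 := fun z hz => by
    rw [← pow_two]; exact hZ.2 z (hker ▸ hz)
  have main : ∀ A : Subgroup X, A ≤ T → Subgroup.center X ≤ A →
      (Cfsg.IsElementaryAbelian 2 (A.map (QuotientGroup.mk' (Subgroup.center X))) ∧
        Nat.card ↥(A.map (QuotientGroup.mk' (Subgroup.center X))) = 16) →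
      (A = (CfsgLib.Schur.L34.H0 F).comap σ ∨ A = (CfsgLib.Schur.L34.K0 F).comap σ) := by
    intro A hAT hZA ⟨hel, hcard⟩
    have hmap : A.map σ = (A.map (QuotientGroup.mk' (Subgroup.center X))).map
        (c.toMonoidHom.comp e.toMonoidHom) := by
      rw [Subgroup.map_map]; rfl
    have hc16 : Nat.card ↥(A.map σ) = 16 := by
      rw [hmap, Subgroup.card_map_of_injective (f := c.toMonoidHom.comp e.toMonoidHom)
        (c.injective.comp e.injective), hcard]
    have hmem : ∀ y ∈ A.map σ, y ∈ CfsgLib.Schur.L34.H0 F ∨ y ∈ CfsgLib.Schur.L34.K0 F := by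
      rintro _ ⟨a, ha, rfl⟩
      refine CfsgLib.Schur.L34.mem_or_mem_of_sq hF (hg _ ⟨a, hAT ha, rfl⟩) ?_
      have h1 := hel.2 _ (Subgroup.mem_map_of_mem (QuotientGroup.mk' (Subgroup.center X)) ha)
      rw [pow_two] at h1
      rw [← map_mul]
      show c (e (QuotientGroup.mk' (Subgroup.center X) (a * a))) = 1
      rw [map_mul (QuotientGroup.mk' (Subgroup.center X)), h1, map_one, map_one]
    have hback : ∀ B, A.map σ = B → A = B.comap σ := fun B h => by
      rw [← h, Subgroup.comap_map_eq_self (hker.le.trans hZA)]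
    by_cases h : A.map σ ≤ CfsgLib.Schur.L34.H0 F
    · exact .inl (hback _ (Subgroup.eq_of_le_of_card_ge h
        (by rw [hc16, CfsgLib.Schur.L34.card_H0 hF])))
    · refine .inr (hback _ (Subgroup.eq_of_le_of_card_ge (fun y hy => ?_)
        (by rw [hc16, CfsgLib.Schur.L34.card_K0 hF])))
      obtain ⟨x, hx, hxH⟩ := SetLike.not_le_iff_exists.1 h
      have hxK := (hmem x hx).resolve_left hxH
      rcases hmem y hy with hyH | hyK
      · rcases hmem (x * y) (mul_mem hx hy) with h' | h'
        · exact absurd (by simpa using mul_mem h' (inv_mem hyH)) hxH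
        · simpa using mul_mem (inv_mem hxK) h'
      · exact hyK
  have hmain : (H = (CfsgLib.Schur.L34.H0 F).comap σ ∧ K = (CfsgLib.Schur.L34.K0 F).comap σ) ∨
      (H = (CfsgLib.Schur.L34.K0 F).comap σ ∧ K = (CfsgLib.Schur.L34.H0 F).comap σ) := by
    rcases main H hHT hZH hH with h | h <;> rcases main K hKT hZK hK with h' | h'
    · exact absurd (h.trans h'.symm) hHK
    · exact .inl ⟨h, h'⟩
    · exact .inr ⟨h, h'⟩
    · exact absurd (h.trans h'.symm) hHK
  set A := (CfsgLib.Schur.L34.H0 F).comap σ with hA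
  set B := (CfsgLib.Schur.L34.K0 F).comap σ with hB
  have sA : ∀ a ∈ A, a * a = 1 := CfsgLib.Schur.L34.sq_comap hF hσ hker.le h2
    fun a => CfsgLib.Schur.L34.sq_eq_one_H0 hF
  have sB : ∀ a ∈ B, a * a = 1 := CfsgLib.Schur.L34.sq_comap hF hσ hker.le h2
    fun a => CfsgLib.Schur.L34.sq_eq_one_K0 hF
  have hsup : A ⊔ B = (CfsgLib.Schur.L34.T0 F).comap σ := by
    rw [hA, hB, Subgroup.comap_sup_eq σ _ _ hσ, CfsgLib.Schur.L34.sup_eq_T0]
  have hnA : B ≤ Subgroup.normalizer (A : Set X) := by
    rw [hA, ← Subgroup.comap_normalizer_eq_of_surjective _ hσ]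
    exact Subgroup.comap_mono
      (CfsgLib.Schur.L34.K0_le_T0.trans CfsgLib.Schur.L34.T0_le_normalizer_H0)
  have hnB : A ≤ Subgroup.normalizer (B : Set X) := by
    rw [hB, ← Subgroup.comap_normalizer_eq_of_surjective _ hσ]
    exact Subgroup.comap_mono
      (CfsgLib.Schur.L34.H0_le_T0.trans CfsgLib.Schur.L34.T0_le_normalizer_K0)
  have hodd : ¬ 2 ∣ (A ⊔ B).index := by
    rw [hsup, Subgroup.index_comap_of_surjective _ hσ]
    exact CfsgLib.Schur.L34.not_dvd_index_T0 hF
  have hcen : A ⊓ B = (Subgroup.center ↥(A ⊔ B)).map (A ⊔ B).subtype := by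
    refine le_antisymm (fun x hx => ?_) ?_
    · refine ⟨⟨x, Subgroup.mem_sup_left hx.1⟩, Subgroup.mem_center_iff.2 fun y => Subtype.ext ?_, rfl⟩
      have : A ⊔ B ≤ Subgroup.centralizer {x} := by
        refine sup_le (fun a ha => ?_) (fun a ha => ?_) <;>
          rw [Subgroup.mem_centralizer_singleton_iff]
        · exact CfsgLib.Schur.L34.sq_comm sA a ha x hx.1
        · exact CfsgLib.Schur.L34.sq_comm sB a ha x hx.2
      exact Subgroup.mem_centralizer_singleton_iff.1 (this y.2)
    · rintro _ ⟨x, hx, rfl⟩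
      have h1 : ∀ y ∈ CfsgLib.Schur.L34.T0 F, σ x.1 * y = y * σ x.1 := by
        intro y hy
        obtain ⟨w, rfl⟩ := hσ y
        have := congrArg Subtype.val (Subgroup.mem_center_iff.1 hx ⟨w, hsup.ge hy⟩)
        rw [← map_mul, ← map_mul]
        exact congrArg σ this.symm
      exact CfsgLib.Schur.L34.eq_of_centralizes (hsup.le x.2)
        (h1 _ (CfsgLib.Schur.L34.u_mem_T0 _ _ _)) (h1 _ (CfsgLib.Schur.L34.u_mem_T0 _ _ _))
  have oA := CfsgLib.Schur.L34.normalizerOnto_comap hσ (CfsgLib.Schur.L34.onto_H0 hF)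
  have oB := CfsgLib.Schur.L34.normalizerOnto_comap hσ (CfsgLib.Schur.L34.onto_K0 hF)
  have cA := CfsgLib.Schur.L34.exists_complement sA sB hnA hodd oA
  have cB := CfsgLib.Schur.L34.exists_complement sB sA hnB (sup_comm A B ▸ hodd) oB
  rcases hmain with ⟨rfl, rfl⟩ | ⟨rfl, rfl⟩
  · exact ⟨CfsgLib.Schur.L34.elementary_of_sq sA, CfsgLib.Schur.L34.elementary_of_sq sB, hcen, cA, cB⟩
  · refine ⟨CfsgLib.Schur.L34.elementary_of_sq sB, CfsgLib.Schur.L34.elementary_of_sq sA, ?_, cB, cA⟩
    rw [inf_comm, sup_comm B A]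
    exact hcen

end Cfsg.Agent.S3154
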