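import Cfsg.Statements.S3155
import Mathlib
-- import your own Cfsg.Agent.* helpers here

set_option autoImplicit false
open Cfsg

namespace Cfsg.Agent.S3155

/-- Let B be the direct product of three cyclic groups of order 4. Then the automorphism of B inverting every element is not the square of any automorphism of B. -/
theorem result {B : Type*} [CommGroup B] [Finite B] (hB : Nonempty (B ≃* Multiplicative (ZMod 4 × ZMod 4 × ZMod 4)))
    (τ : B ≃* B) : τ.trans τ ≠ MulEquiv.inv B := by
  obtain ⟨e⟩ := hB
  intro hτ
  let E : Additive B ≃+ ZMod 4 × ZMod 4 × ZMod 4 :=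
    (MulEquiv.toAdditive e).trans (AddEquiv.additiveMultiplicative _)
  let t : (ZMod 4 × ZMod 4 × ZMod 4) →+ (ZMod 4 × ZMod 4 × ZMod 4) :=
    ((E.symm.trans (MulEquiv.toAdditive τ)).trans E).toAddMonoidHom
  let L := AddMonoidHom.toZModLinearMap 4 t
  have h1 : L * L = (-1 : ZMod 4) • LinearMap.id := by
    apply LinearMap.ext
    intro v
    have hττ : ∀ b : B, τ (τ b) = b⁻¹ := fun b => congrArg (fun f : B ≃* B => f b) hτ
    change t (t v) = (-1 : ZMod 4) • v
    rw [neg_one_smul]
    change E (Additive.ofMul (τ (Additive.toMul (E.symm (E (Additive.ofMul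
      (τ (Additive.toMul (E.symm v))))))))) = -v
    rw [AddEquiv.symm_apply_apply, toMul_ofMul, hττ, ofMul_inv, ofMul_toMul, map_neg,
      AddEquiv.apply_symm_apply]
  have : Nontrivial (ZMod 4) := ⟨0, 1, by decide⟩
  have hrank : Module.finrank (ZMod 4) (ZMod 4 × ZMod 4 × ZMod 4) = 3 := by
    rw [Module.finrank_prod, Module.finrank_prod, Module.finrank_self]
  have hdet := congrArg LinearMap.det h1
  rw [map_mul, LinearMap.det_smul, LinearMap.det_id, hrank, mul_one] at hdet
  revert hdet
  generalize LinearMap.det L = d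
  revert d
  decide

end Cfsg.Agent.S3155
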