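import Cfsg.Statements.S3156
import Cfsg.Agent.Lib.InvolChar.SU3Sylow
import Cfsg.Agent.Lib.Classical.HermOrder
-- import your own Cfsg.Agent.* helpers here

set_option autoImplicit false
open Cfsg

namespace Cfsg.Agent.S3156


open CfsgLib.SU3Sylow

theorem isometry_norm {F : Type} [Field F] [Fintype F] [CharP F 2] {n : ℕ}
    (hF : Fintype.card F = (2 ^ n) ^ 2) (g : F →+ F)
    (hg : ∀ v, g v ^ (2 ^ n + 1) = v ^ (2 ^ n + 1)) :
    ∃ a : F, a ^ (2 ^ n + 1) = 1 ∧ ((∀ v, g v = a * v) ∨ (∀ v, g v = a * v ^ 2 ^ n)) := by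
  have ha : g 1 ^ (2 ^ n + 1) = 1 := by rw [hg, one_pow]
  have ha0 : g 1 ≠ 0 := fun h => by rw [h, zero_pow (Nat.succ_ne_zero _)] at ha; exact zero_ne_one ha
  refine ⟨g 1, ha, ?_⟩
  let h : F →+ F := (AddMonoidHom.mulLeft (g 1)⁻¹).comp g
  have hh : ∀ v, h v ^ (2 ^ n + 1) = v ^ (2 ^ n + 1) := fun v => by
    show ((g 1)⁻¹ * g v) ^ (2 ^ n + 1) = _
    rw [mul_pow, inv_pow, ha, inv_one, one_mul, hg]
  have h1 : h 1 = 1 := inv_mul_cancel₀ ha0
  have hN : ∀ v w : F, (v + w) ^ (2 ^ n + 1) =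
      v ^ (2 ^ n + 1) + w ^ (2 ^ n + 1) + (v * w ^ 2 ^ n + v ^ 2 ^ n * w) := fun v w => by
    rw [pow_succ, pow_succ, pow_succ, frob_add]
    ring
  have hT : ∀ v, h v + h v ^ 2 ^ n = v + v ^ 2 ^ n := fun v => by
    have e := hh (v + 1)
    rw [map_add, h1, hN, hN, hh] at e
    simpa using add_left_cancel e
  have hd : ∀ v, h v = v ∨ h v = v ^ 2 ^ n := fun v => by
    obtain ⟨d, hd'⟩ : ∃ d, h v = v + d := ⟨h v - v, by ring⟩
    have hdq : d ^ 2 ^ n = d := by
      have e := hT v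
      rw [hd', frob_add] at e
      exact (CharTwo.add_eq_zero.1 (show d + d ^ 2 ^ n = 0 by linear_combination e)).symm
    have e := hh v
    rw [hd', hN, hdq, pow_succ d, hdq] at e
    have : d * (d + (v + v ^ 2 ^ n)) = 0 := by linear_combination e
    rcases mul_eq_zero.1 this with h0 | h0
    · left; rw [hd', h0, add_zero]
    · right
      rw [hd', CharTwo.add_eq_zero.1 h0, ← add_assoc, CharTwo.add_self_eq_zero, zero_add]
  have hcases : (∀ v, h v = v) ∨ (∀ v, h v = v ^ 2 ^ n) := by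
    by_contra hc
    rw [not_or, not_forall, not_forall] at hc
    obtain ⟨⟨v, hv⟩, ⟨w, hw⟩⟩ := hc
    have hv' := (hd v).resolve_left hv
    have hw' := (hd w).resolve_right hw
    rcases hd (v + w) with e | e
    · rw [map_add, hw'] at e
      exact hv (add_right_cancel e)
    · rw [map_add, hv', frob_add] at e
      exact hw (add_left_cancel e)
  rcases hcases with e | e
  · exact Or.inl fun v => ((inv_mul_eq_iff_eq_mul₀ ha0).1 (e v))
  · exact Or.inr fun v => ((inv_mul_eq_iff_eq_mul₀ ha0).1 (e v))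

theorem no_inverted_three {S : Type} [Group S] [Finite S] {F : Type} [Field F] [Fintype F] [CharP F 2]
    (hF : Fintype.card F = (2 ^ 2) ^ 2) (c : Coords S F (2 ^ 2)) (ρ x : S ≃* S)
    (hx : ∀ y, x (x y) = y) (hρ : ∀ y, ρ (ρ (ρ y)) = y) (hρx : ∀ y, x (ρ (x y)) = ρ (ρ y)) :
    ∀ y, ρ y = y := by
  have hxc := fix_center_of_sq_inner hF c x 1 (fun y => by simp [hx])
  have hρc : ∀ z, z ∈ Subgroup.center S → ρ z ∈ Subgroup.center S := fun z hz =>
    Subgroup.mem_center_iff.2 fun b => by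
      obtain ⟨b', rfl⟩ := ρ.surjective b
      rw [← map_mul, ← map_mul, Subgroup.mem_center_iff.1 hz b']
  have hρz : ∀ z ∈ Subgroup.center S, ρ z = z := fun z hz => by
    have h1 := hρx z
    rw [hxc z hz, hxc _ (hρc z hz)] at h1
    exact (ρ.injective h1).symm
  have hπ1 : c.π 1 = 0 := (c.π_eq_zero 1).2 (one_mem _)
  have hπinv : ∀ a, c.π a⁻¹ = c.π a := fun a => by
    have := c.π_mul a a⁻¹
    rw [mul_inv_cancel, hπ1] at this
    exact (CharTwo.add_eq_zero.1 this.symm).symm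
  choose σ hσ using c.π_surj
  have hind : ∀ a b, c.π a = c.π b → c.π (ρ a) = c.π (ρ b) := fun a b h => by
    have h1 : b⁻¹ * a ∈ Subgroup.center S :=
      (c.π_eq_zero _).1 (by rw [c.π_mul, hπinv, h, CharTwo.add_self_eq_zero])
    have h3 : c.π (ρ (b * (b⁻¹ * a))) = c.π (ρ b) := by
      rw [map_mul, c.π_mul, (c.π_eq_zero _).2 (hρc _ h1), add_zero]
    rwa [mul_inv_cancel_left] at h3
  let g : F →+ F :=
    { toFun := fun v => c.π (ρ (σ v))
      map_zero' := by rw [hind (σ 0) 1 (by rw [hσ, hπ1]), map_one, hπ1]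
      map_add' := fun a b => by
        rw [hind (σ (a + b)) (σ a * σ b) (by rw [hσ, c.π_mul, hσ, hσ]), map_mul, c.π_mul] }
  have hg : ∀ a, c.π (ρ a) = g (c.π a) := fun a => hind _ _ (hσ _).symm
  have hgN : ∀ v, g v ^ (2 ^ 2 + 1) = v ^ (2 ^ 2 + 1) := fun v => by
    show c.π (ρ (σ v)) ^ (2 ^ 2 + 1) = _
    rw [← c.ζ_sq, ← map_mul, hρz, c.ζ_sq, hσ]
    exact (c.π_eq_zero _).1 (by rw [c.π_mul, CharTwo.add_self_eq_zero])
  have hg3 : ∀ v, g (g (g v)) = v := fun v => by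
    show g (g (c.π (ρ (σ v)))) = v
    rw [← hg, ← hg, hρ, hσ]
  obtain ⟨a, ha, hcase⟩ := isometry_norm hF g hgN
  have hgid : ∀ v, g v = v := by
    rcases hcase with h | h
    · have h3 := hg3 1
      simp only [h, mul_one] at h3
      have ha1 : a = 1 := by
        norm_num at ha
        linear_combination (a ^ 3 + 1) * h3 - a * ha
      exact fun v => by rw [h, ha1, one_mul]
    · have hgg : ∀ v, g (g v) = v := fun v => by
        rw [h, h, mul_pow, frob_frob hF, ← mul_assoc, ← pow_succ', ha, one_mul]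
      intro v
      have := hg3 v
      rwa [hgg] at this
  intro y
  have hd : y⁻¹ * ρ y ∈ Subgroup.center S :=
    (c.π_eq_zero _).1 (by rw [c.π_mul, hπinv, hg, hgid, CharTwo.add_self_eq_zero])
  generalize hk : y⁻¹ * ρ y = k at hd
  have e1 : ρ y = y * k := by rw [← hk, mul_inv_cancel_left]
  have e3 := hρ y
  simp only [e1, map_mul, hρz k hd, mul_assoc, c.center_sq k hd, mul_one] at e3
  rw [e1, e3]


/-- If a finite group T is isomorphic to a Sylow 2-subgroup of the projective special unitary group of dimension 3 with parameter 4 (realised over the field with 16 elements), then no subgroup of the automorphism group of T is isomorphic to the symmetric group of degree 3. -/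
theorem result {T : Type*} [Group T] [Finite T] (hT : (∃ (F : Type) (_ : Field F) (_ : Fintype F), Fintype.card F = 16 ∧ ∃ S : Sylow 2 (Cfsg.PSU 3 F 4), Nonempty (T ≃* ↥(S : Subgroup (Cfsg.PSU 3 F 4))))) (H : Subgroup (MulAut T)) : ¬ Nonempty (↥H ≃* Equiv.Perm (Fin 3)) := by
  classical
  rintro ⟨e⟩
  obtain ⟨F, i₁, i₂, hF, S, ⟨f⟩⟩ := hT
  haveI : Fact (Nat.Prime 2) := ⟨Nat.prime_two⟩
  haveI : CharP F 2 := charP_of_card_eq_prime_pow (f := 4) (by rw [hF]; norm_num)
  have hF' : Fintype.card F = (2 ^ 2) ^ 2 := by rw [hF]; norm_num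
  have hz : Subgroup.center (Cfsg.SU 3 F 4) = ⊥ := Subgroup.eq_bot_of_card_eq _ (by
    rw [CfsgLib.Classical.card_center_su (q := 4) (by rw [hF]; norm_num) (by norm_num)]
    rfl)
  let i : Cfsg.PSU 3 F 4 ≃* Cfsg.SU 3 F (2 ^ 2) :=
    (QuotientGroup.quotientMulEquivOfEq hz).trans QuotientGroup.quotientBot
  obtain ⟨c₀⟩ := CfsgLib.SU3Sylow.coords_sylow hF' (S.mapSurjective (f := i.toMonoidHom) i.surjective)
  let j : T ≃* ↥((S.mapSurjective (f := i.toMonoidHom) i.surjective : Sylow 2 _) : Subgroup (Cfsg.SU 3 F (2 ^ 2))) :=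
    f.trans ((MulEquiv.subgroupMap i (S : Subgroup (Cfsg.PSU 3 F 4))).trans
      (MulEquiv.subgroupCongr (Sylow.coe_mapSurjective _ S).symm))
  let S' := ↥((S.mapSurjective (f := i.toMonoidHom) i.surjective : Sylow 2 _) : Subgroup (Cfsg.SU 3 F (2 ^ 2)))
  let tr : MulAut T ≃* MulAut S' := MulAut.congr j
  obtain ⟨σ, τ, hσ, hσ1, hτ, hστ⟩ : ∃ σ τ : Equiv.Perm (Fin 3), σ ^ 3 = 1 ∧ σ ≠ 1 ∧ τ * τ = 1 ∧ τ * σ * τ = σ * σ :=
    ⟨finRotate 3, Equiv.swap 0 1, by decide, by decide, by decide, by decide⟩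
  let ψ : Equiv.Perm (Fin 3) →* MulAut S' := tr.toMonoidHom.comp (H.subtype.comp e.symm.toMonoidHom)
  have hψ : Function.Injective ψ := tr.injective.comp (Subtype.val_injective.comp e.symm.injective)
  have hmul : ∀ (a b : Equiv.Perm (Fin 3)) (y : S'), ψ a (ψ b y) = ψ (a * b) y := fun a b y => by
    rw [map_mul]; rfl
  have hid := no_inverted_three hF' c₀ (ψ σ) (ψ τ)
    (fun y => by rw [hmul, hτ, map_one]; rfl)
    (fun y => by rw [hmul, hmul, show σ * σ * σ = 1 by rw [← hσ, pow_succ, sq], map_one]; rfl)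
    (fun y => by rw [hmul, hmul, hmul, hστ])
  exact hσ1 (hψ (by rw [map_one]; exact MulEquiv.ext hid))

end Cfsg.Agent.S3156
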