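import Cfsg.Statements.S3158
import Mathlib
-- import your own Cfsg.Agent.* helpers here

set_option autoImplicit false
open Cfsg

namespace Cfsg.Agent.S3158

/-- Let U be a group of order q² with q = 2^n ≥ 2, and y an automorphism of U of order q − 1 all of whose nontrivial powers fix only the identity. Let V be a proper normal y-invariant subgroup of U such that V and U/V are elementary abelian 2-groups and there is an isomorphism from V to U/V commuting with the actions of y. Then U is abelian. -/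
theorem result {U : Type*} [Group U] [Finite U] (n : ℕ) (hn : 1 ≤ n) (hU : Nat.card U = (2 ^ n) ^ 2)
    (y : MulAut U) (hy : orderOf y = 2 ^ n - 1) (hfp : ∀ k : ℕ, y ^ k ≠ 1 → ∀ u : U, (y ^ k) u = u → u = 1)
    (V : Subgroup U) [V.Normal] (hV : V ≠ ⊤) (hyV : ∀ v ∈ V, y v ∈ V)
    (hVe : ∀ v ∈ V, v ^ 2 = 1) (hQe : ∀ u : U, u ^ 2 ∈ V) (hQc : ∀ u w : U, u * w * u⁻¹ * w⁻¹ ∈ V)
    (φ : ↥V ≃* U ⧸ V) (hφ : ∀ (v : ↥V) (u : U), (QuotientGroup.mk u : U ⧸ V) = φ v → φ ⟨y v, hyV v v.2⟩ = QuotientGroup.mk (y u)) :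
    IsMulCommutative U := by
  classical
  haveI : Fact (Nat.Prime 2) := ⟨Nat.prime_two⟩
  set q := 2 ^ n with hq
  have hq2 : 2 ≤ q := by
    calc 2 = 2 ^ 1 := rfl
      _ ≤ q := Nat.pow_le_pow_right (by norm_num) hn
  have hcardV : Nat.card ↥V = q := by
    have h1 := Subgroup.card_eq_card_quotient_mul_card_subgroup V
    rw [← Nat.card_congr φ.toEquiv, hU] at h1
    nlinarith
  have hVcomm : ∀ a ∈ V, ∀ b ∈ V, a * b = b * a := by
    intro a ha b hb
    have h1 := hVe a ha; have h2 := hVe b hb; have h3 := hVe (a * b) (V.mul_mem ha hb)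
    rw [sq] at h1 h2 h3
    calc a * b = (a * b)⁻¹ := eq_inv_of_mul_eq_one_left h3
      _ = b⁻¹ * a⁻¹ := mul_inv_rev a b
      _ = b * a := by rw [inv_eq_of_mul_eq_one_right h1, inv_eq_of_mul_eq_one_right h2]
  -- the action of ⟨y⟩ on V
  let Y : ↥V → ↥V := fun v => ⟨y v, hyV v v.2⟩
  have hYpow : ∀ (k : ℕ) (v : ↥V), ((Y^[k] v : ↥V) : U) = (y ^ k) (v : U) := by
    intro k
    induction k with
    | zero => intro v; rfl
    | succ k ih => intro v; rw [Function.iterate_succ_apply', pow_succ', MulAut.mul_apply, ← ih]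
  have hYmul : ∀ (k : ℕ) (a b : ↥V), Y^[k] (a * b) = Y^[k] a * Y^[k] b := fun k a b =>
    Subtype.ext (by simp [hYpow, map_mul])
  have hord : 0 < orderOf y := by omega
  have hfix : ∀ (k : ℕ) (v : ↥V), v ≠ 1 → Y^[k] v = v → y ^ k = 1 := by
    intro k v hv hk
    by_contra hne
    exact hv (Subtype.ext (hfp k hne v (by rw [← hYpow, hk])))
  have htrans : ∀ v w : ↥V, v ≠ 1 → w ≠ 1 → ∃ k, Y^[k] v = w := by
    intro v w hv hw
    let g : Fin (q - 1) → {u : ↥V // u ≠ 1} := fun i => ⟨Y^[i] v, fun h => hv (by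
      have := congrArg Subtype.val h
      rw [hYpow] at this
      exact Subtype.ext ((y ^ (i : ℕ)).map_eq_one_iff.1 this))⟩
    have hginj : Function.Injective g := by
      have aux : ∀ a b : ℕ, a ≤ b → b < q - 1 → Y^[a] v = Y^[b] v → a = b := by
        intro a b hab hb heq
        have h1 : Y^[b - a] (Y^[a] v) = Y^[a] v := by
          rw [← Function.iterate_add_apply, Nat.sub_add_cancel hab, heq]
        have h2 := hfix _ _ (by
          intro h
          have := congrArg Subtype.val h
          rw [hYpow] at this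
          exact hv (Subtype.ext ((y ^ a).map_eq_one_iff.1 this))) h1
        have := orderOf_dvd_of_pow_eq_one h2
        rw [hy] at this
        rcases Nat.eq_zero_or_pos (b - a) with h0 | h0
        · omega
        · have := Nat.le_of_dvd h0 this; omega
      intro a b hab
      rcases le_total (a : ℕ) b with hle | hle
      · exact Fin.ext (aux a b hle b.2 (congrArg Subtype.val hab))
      · exact Fin.ext (aux b a hle a.2 (congrArg Subtype.val hab).symm).symm
    haveI := Fintype.ofFinite ↥V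
    have hcard : Nat.card (Fin (q - 1)) = Nat.card {u : ↥V // u ≠ 1} := by
      rw [Nat.card_fin, Nat.card_eq_fintype_card, Fintype.card_subtype_compl,
        Fintype.card_subtype_eq, ← Nat.card_eq_fintype_card, hcardV]
    obtain ⟨i, hi⟩ := (hginj.bijective_of_nat_card_le hcard.ge).2 ⟨w, hw⟩
    exact ⟨i, congrArg Subtype.val hi⟩
  -- V is central
  have hp : IsPGroup 2 U := IsPGroup.of_card (n := n * 2) (by rw [hU, pow_mul])
  have hVne : V ≠ ⊥ := fun h => by rw [h, Subgroup.card_bot] at hcardV; omega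
  have hVc : ∀ v ∈ V, ∀ u : U, u * v = v * u := by
    obtain ⟨z, hz, hz1⟩ : ∃ z : ↥V, z ≠ 1 ∧ (z : U) ∈ Subgroup.center U := by
      haveI : Nontrivial ↥V := V.nontrivial_iff_ne_bot.2 hVne
      let act : MulAction (ConjAct U) ↥V := inferInstance
      have hdvd : 2 ∣ Nat.card ↥V := by rw [hcardV]; exact dvd_pow_self 2 (by omega)
      have hpC : IsPGroup 2 (ConjAct U) := hp.of_equiv ConjAct.toConjAct
      obtain ⟨z, hz, hne⟩ := hpC.exists_fixed_point_of_prime_dvd_card_of_fixed_point ↥V hdvd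
        (show (1 : ↥V) ∈ MulAction.fixedPoints (ConjAct U) ↥V from fun g => smul_one g)
      refine ⟨z, fun h => hne h.symm, Subgroup.mem_center_iff.2 fun u => ?_⟩
      have := congrArg Subtype.val (hz (ConjAct.toConjAct u))
      rw [ConjAct.Subgroup.val_conj_smul, ConjAct.smul_def, ConjAct.ofConjAct_toConjAct] at this
      exact mul_inv_eq_iff_eq_mul.1 this
    intro v hv u
    rcases eq_or_ne v 1 with rfl | hv1
    · simp
    obtain ⟨k, hk⟩ := htrans z ⟨v, hv⟩ hz (fun h => hv1 (congrArg Subtype.val h))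
    have hvk : v = (y ^ k) (z : U) := by rw [← hYpow, hk]
    obtain ⟨u', rfl⟩ := (y ^ k).surjective u
    rw [hvk, ← map_mul, ← map_mul, Subgroup.mem_center_iff.1 hz1 u']
  -- the commutator pairing
  have hlift : ∀ v : ↥V, ∃ u : U, (QuotientGroup.mk u : U ⧸ V) = φ v := fun v =>
    QuotientGroup.mk_surjective (φ v)
  choose σ hσ using hlift
  let com : U → U → ↥V := fun u w => ⟨u * w * u⁻¹ * w⁻¹, hQc u w⟩
  have com_mul_left : ∀ a b w : U, com (a * b) w = com a w * com b w := by
    intro a b w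
    apply Subtype.ext
    show a * b * w * (a * b)⁻¹ * w⁻¹ = a * w * a⁻¹ * w⁻¹ * (b * w * b⁻¹ * w⁻¹)
    have := hVc _ (hQc b w) a
    calc a * b * w * (a * b)⁻¹ * w⁻¹ = a * (b * w * b⁻¹ * w⁻¹) * w * a⁻¹ * w⁻¹ := by group
      _ = (b * w * b⁻¹ * w⁻¹) * (a * w * a⁻¹ * w⁻¹) := by rw [this]; group
      _ = _ := hVcomm _ (hQc b w) _ (hQc a w)
  have com_swap : ∀ a b : U, com a b = com b a := by
    intro a b
    apply Subtype.ext
    show a * b * a⁻¹ * b⁻¹ = b * a * b⁻¹ * a⁻¹
    have h1 := hVe _ (hQc a b)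
    rw [sq] at h1
    rw [eq_inv_of_mul_eq_one_left h1]; group
  have com_V : ∀ a w : U, a ∈ V → com a w = 1 := by
    intro a w ha
    apply Subtype.ext
    show a * w * a⁻¹ * w⁻¹ = 1
    rw [← hVc a ha w]; group
  have com_self : ∀ a : U, com a a = 1 := fun a =>
    Subtype.ext (show a * a * a⁻¹ * a⁻¹ = 1 by group)
  have com_congr : ∀ a a' w : U, (QuotientGroup.mk a : U ⧸ V) = QuotientGroup.mk a' →
      com a w = com a' w := by
    intro a a' w h
    have h' := QuotientGroup.eq.1 h
    rw [show a' = a * (a⁻¹ * a') by group, com_mul_left, com_V _ _ h', mul_one]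
  let c : ↥V → ↥V → ↥V := fun v w => com (σ v) (σ w)
  have c_swap : ∀ v w, c v w = c w v := fun v w => com_swap _ _
  have c_self : ∀ v, c v v = 1 := fun v => com_self _
  have c_mul : ∀ a b w, c (a * b) w = c a w * c b w := fun a b w => by
    show com (σ (a * b)) (σ w) = com (σ a) (σ w) * com (σ b) (σ w)
    rw [← com_mul_left]
    apply com_congr
    rw [hσ, map_mul, ← hσ, ← hσ]; rfl
  have c_Y : ∀ a w, c (Y a) (Y w) = Y (c a w) := fun a w => by
    have e : ∀ v, (QuotientGroup.mk (σ (Y v)) : U ⧸ V) = QuotientGroup.mk (y (σ v)) := fun v => by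
      rw [hσ]; exact hφ v (σ v) (hσ v)
    show com (σ (Y a)) (σ (Y w)) = Y (com (σ a) (σ w))
    rw [com_congr _ _ _ (e a), com_swap, com_congr _ _ _ (e w), com_swap]
    exact Subtype.ext (by simp [com, Y, map_mul, map_inv])
  have c_one : ∀ w, c 1 w = 1 := fun w => by
    have := c_mul 1 1 w
    rw [one_mul] at this
    exact left_eq_mul.1 this
  obtain ⟨e, he⟩ : ∃ e : ↥V, e ≠ 1 := by
    haveI : Nontrivial ↥V := V.nontrivial_iff_ne_bot.2 hVne
    exact exists_ne 1
  suffices hc : ∀ v w, c v w = 1 by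
    refine ⟨⟨fun a b => ?_⟩⟩
    obtain ⟨v, hv⟩ := φ.surjective (QuotientGroup.mk a)
    obtain ⟨w, hw⟩ := φ.surjective (QuotientGroup.mk b)
    have h1 : com a b = 1 := by
      rw [com_congr a (σ v) b (by rw [hσ, hv]), com_swap,
        com_congr b (σ w) _ (by rw [hσ, hw]), com_swap]
      exact hc v w
    have h2 : a * b * a⁻¹ * b⁻¹ = 1 := congrArg Subtype.val h1
    calc a * b = a * b * a⁻¹ * b⁻¹ * (b * a) := by group
      _ = b * a := by rw [h2, one_mul]
  -- the equivariant endomorphisms of V form a field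
  letI : CommGroup ↥V := { (inferInstance : Group ↥V) with mul_comm := fun a b => Subtype.ext (hVcomm _ a.2 _ b.2) }
  let End' : ℕ → AddMonoid.End (Additive ↥V) := fun k =>
    AddMonoidHom.mk' (M := Additive ↥V) (G := Additive ↥V) (fun v => Additive.ofMul (Y^[k] v.toMul))
      (fun a b => congrArg Additive.ofMul (hYmul k a.toMul b.toMul))
  let R := Subring.centralizer ({End' 1} : Set (AddMonoid.End (Additive ↥V)))
  let ap : ↥R → ↥V → ↥V := fun r v => ((r : AddMonoid.End (Additive ↥V)) (Additive.ofMul v)).toMul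
  have ap_mul : ∀ r s : ↥R, ∀ v, ap (r * s) v = ap r (ap s v) := fun r s v => rfl
  have ap_add : ∀ r s : ↥R, ∀ v, ap (r + s) v = ap r v * ap s v := fun r s v => rfl
  have ap_hom : ∀ (r : ↥R) a b, ap r (a * b) = ap r a * ap r b := fun r a b =>
    congrArg Additive.toMul (map_add (r : AddMonoid.End (Additive ↥V)) (Additive.ofMul a) (Additive.ofMul b))
  have ap_Y : ∀ (r : ↥R) (k : ℕ) v, ap r (Y^[k] v) = Y^[k] (ap r v) := by
    intro r k
    induction k with
    | zero => intro v; rfl
    | succ k ih =>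
      intro v
      rw [Function.iterate_succ_apply', Function.iterate_succ_apply', ← ih]
      have h := DFunLike.congr_fun
        ((Subring.mem_centralizer_iff.1 r.2) _ (Set.mem_singleton _)) (Additive.ofMul (Y^[k] v))
      exact (congrArg Additive.toMul h).symm
  have ap_ext : ∀ r s : ↥R, ap r e = ap s e → r = s := by
    intro r s hrs
    apply Subtype.ext
    apply AddMonoidHom.ext
    intro v
    rcases eq_or_ne v.toMul 1 with h1 | h1
    · have : v = 0 := h1
      rw [this]
      exact (map_zero _).trans (map_zero _).symm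
    · obtain ⟨k, hk⟩ := htrans e v.toMul he h1
      have : ap r v.toMul = ap s v.toMul := by rw [← hk, ap_Y, ap_Y, hrs]
      exact this
  have hpowmem : ∀ k : ℕ, End' k ∈ R := by
    intro k
    refine Subring.mem_centralizer_iff.2 fun g hg => ?_
    obtain rfl := Set.mem_singleton_iff.1 hg
    apply AddMonoidHom.ext
    intro v
    show Additive.ofMul (Y (Y^[k] v.toMul)) = Additive.ofMul (Y^[k] (Y v.toMul))
    rw [← Function.iterate_succ_apply' Y, Function.iterate_succ_apply]
  let P : ℕ → ↥R := fun k => ⟨_, hpowmem k⟩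
  have hP : ∀ r : ↥R, r ≠ 0 → ∃ k, r = P k := by
    intro r hr
    have hre : ap r e ≠ 1 := fun h => hr (ap_ext r 0 h)
    obtain ⟨k, hk⟩ := htrans e _ he hre
    exact ⟨k, ap_ext r (P k) hk.symm⟩
  have hsurj : ∀ v, ∃ r : ↥R, ap r e = v := by
    intro v
    rcases eq_or_ne v 1 with rfl | hv
    · exact ⟨0, rfl⟩
    · obtain ⟨k, hk⟩ := htrans e v he hv
      exact ⟨P k, hk⟩
  have hcommR : ∀ r s : ↥R, r * s = s * r := by
    intro r s
    rcases eq_or_ne r 0 with rfl | hr
    · simp
    obtain ⟨k, rfl⟩ := hP r hr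
    apply ap_ext
    rw [ap_mul, ap_mul]
    exact (ap_Y s k e).symm
  letI : CommRing ↥R := { (inferInstance : Ring ↥R) with mul_comm := hcommR }
  have c_equiv : ∀ (r : ↥R) a w, c (ap r a) (ap r w) = ap r (c a w) := by
    intro r a w
    rcases eq_or_ne r 0 with rfl | hr
    · exact c_one _
    obtain ⟨k, rfl⟩ := hP r hr
    show c (Y^[k] a) (Y^[k] w) = Y^[k] (c a w)
    clear hr
    induction k with
    | zero => rfl
    | succ k ih => simp only [Function.iterate_succ_apply']; rw [c_Y, ih]
  let f : ↥R → ↥V := fun b => c e (ap b e)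
  have f_add : ∀ a b, f (a + b) = f a * f b := fun a b => by
    show c e (ap (a + b) e) = c e (ap a e) * c e (ap b e)
    rw [ap_add, c_swap, c_mul, c_swap, c_swap e (ap b e)]
  have f_inv : ∀ a b : ↥R, a * b = 1 → f a = ap a (f b) := by
    intro a b hab
    show c e (ap a e) = ap a (c e (ap b e))
    rw [← c_equiv, ← ap_mul, hab, c_swap]
    rfl
  have f_one : f 1 = 1 := c_self e
  have hinv : ∀ a : ↥R, a ≠ 0 → ∃ b, a * b = 1 := by
    intro a ha
    obtain ⟨k, rfl⟩ := hP a ha
    refine ⟨P (orderOf y * (k + 1) - k), ap_ext _ _ ?_⟩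
    show Y^[k] (Y^[orderOf y * (k + 1) - k] e) = e
    have hle : k ≤ orderOf y * (k + 1) := le_trans (Nat.le_succ k) (Nat.le_mul_of_pos_left _ hord)
    rw [← Function.iterate_add_apply, show k + (orderOf y * (k + 1) - k) = orderOf y * (k + 1) by omega]
    exact Subtype.ext (by rw [hYpow, pow_mul, pow_orderOf_eq_one, one_pow]; rfl)
  have h2R : ∀ a : ↥R, a + a = 0 := fun a => ap_ext _ _ (by
    show ap a e * ap a e = 1
    exact Subtype.ext (by rw [Subgroup.coe_mul, ← sq]; exact hVe _ (ap a e).2))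
  have f_sq : ∀ a : ↥R, f (a * a) = 1 := by
    intro a
    rcases eq_or_ne a 0 with rfl | ha
    · rw [mul_zero]; show c e 1 = 1; rw [c_swap, c_one]
    rcases eq_or_ne a 1 with rfl | ha1
    · rw [mul_one, f_one]
    have hu : a + 1 ≠ 0 := fun h => ha1 (by linear_combination h - h2R 1)
    obtain ⟨a', ha'⟩ := hinv a ha
    obtain ⟨b', hb'⟩ := hinv (a + 1) hu
    have hz : (a' + b') * (a * a + a) = 1 := by
      linear_combination (a + 1) * ha' + a * hb' + h2R a
    have h1 : f (a' + b') = ap (a' + b') (f a) := by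
      rw [f_add, f_inv a' a (by rw [mul_comm]; exact ha'),
        f_inv b' (a + 1) (by rw [mul_comm]; exact hb'), f_add, f_one, mul_one, ap_add]
    have h2 : f (a' + b') = ap (a' + b') (f (a * a + a)) := f_inv _ _ hz
    have h3 : f a = f (a * a + a) := by
      have := congrArg (ap (a * a + a)) (h1.symm.trans h2)
      rwa [← ap_mul, ← ap_mul, mul_comm (a * a + a), hz] at this
    rw [f_add] at h3
    exact right_eq_mul.1 h3
  have hfsurj : Function.Surjective (fun a : ↥R => a * a) := by
    haveI : Finite (AddMonoid.End (Additive ↥V)) := Finite.of_injective _ DFunLike.coe_injective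
    apply Finite.surjective_of_injective
    intro a b hab
    by_contra hne
    obtain ⟨w, hw⟩ := hinv (a + b) (fun h => hne (by linear_combination h - h2R b))
    have hne' : a + b ≠ 0 := fun h => hne (by linear_combination h - h2R b)
    apply hne'
    have h0 : (a + b) * (a + b) = 0 := by
      have : a * a = b * b := hab
      linear_combination this + h2R (a * b) + h2R (b * b)
    calc a + b = (a + b) * ((a + b) * w) := by rw [hw, mul_one]
      _ = 0 := by rw [← mul_assoc, h0, zero_mul]
  intro v w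
  rcases eq_or_ne v 1 with rfl | hv
  · exact c_one w
  obtain ⟨r, rfl⟩ := hsurj v
  obtain ⟨s, rfl⟩ := hsurj w
  have hr : r ≠ 0 := fun h => hv (by rw [h]; rfl)
  obtain ⟨r', hr'⟩ := hinv r hr
  obtain ⟨b, hb⟩ := hfsurj (r' * s)
  simp only at hb
  have : ap s e = ap r (ap (b * b) e) := by rw [← ap_mul, hb, ← mul_assoc, hr', one_mul]
  rw [this, c_equiv, show c e (ap (b * b) e) = 1 from f_sq b]
  exact Subtype.ext (by
    have := congrArg Subtype.val (map_one ((⟨⟨fun v => ap r v, Subtype.ext (by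
      exact congrArg Subtype.val (congrArg Additive.toMul (map_zero (r : AddMonoid.End (Additive ↥V)))))⟩,
      ap_hom r⟩ : ↥V →* ↥V)))
    exact this)

end Cfsg.Agent.S3158
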