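import Cfsg.Statements.S3161
import Cfsg.Agent.S1139
import Cfsg.Agent.Lib.Classical.HermOrder
import Cfsg.Agent.Lib.InvolChar.SU3Sylow
import Cfsg.Agent.Lib.Fusion.UniTri
import Cfsg.Agent.Lib.Classical.GLOrder
import Cfsg.Agent.Lib.PGroup.InvolutionFixed.Form

set_option autoImplicit false
open Cfsg

namespace Cfsg.Agent.S3161

open CfsgLib.InvolutionFixed

/-- The anisotropic case. -/
theorem unitary_case {Q : Type*} [Group Q] [Finite Q] {C : Subgroup Q} {K : Type} [Field K] [Fintype K] [CharP K 2]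
    {n : ℕ} (hn : 2 ≤ n) (hK : Fintype.card K = 2 ^ n) {ν : K} (d : FormData Q C K ν)
    (hν : ∀ r : K, r ^ 2 + r ≠ ν) :
    ∃ (F : Type) (_ : Field F) (_ : Fintype F), Fintype.card F = 4 ^ n ∧
        ∃ S : Sylow 2 (Cfsg.PSU 3 F (2 ^ n)), Nonempty (Q ≃* ↥(S : Subgroup (Cfsg.PSU 3 F (2 ^ n)))) := by
  classical
  haveI : Fact (Nat.Prime 2) := ⟨Nat.prime_two⟩
  open Polynomial in
  obtain ⟨f, hmon, hdeg, hev⟩ : ∃ f : K[X], f.Monic ∧ f.natDegree = 2 ∧ ∀ {L : Type} [Field L] (φ : K →+* L) (x : L),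
      f.eval₂ φ x = x ^ 2 + x + φ ν :=
    ⟨X ^ 2 + X + Polynomial.C ν, by monicity!, by compute_degree!, fun φ x => by simp⟩
  haveI hirr : Fact (Irreducible f) := ⟨(Polynomial.Monic.irreducible_iff_roots_eq_zero_of_degree_le_three hmon
    (by omega) (by omega)).2 (Multiset.eq_zero_of_forall_notMem fun r hr => hν r (by
      have h1 := Polynomial.isRoot_of_mem_roots hr
      have h2 := hev (RingHom.id K) r
      rw [Polynomial.eval₂_id, h1.eq_zero, RingHom.id_apply] at h2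
      exact CharTwo.add_eq_zero.1 h2.symm))⟩
  let pb := AdjoinRoot.powerBasis hmon.ne_zero
  haveI : Module.Finite K (AdjoinRoot f) := Module.Finite.of_basis pb.basis
  haveI : Finite (AdjoinRoot f) := Module.finite_of_finite K
  letI : Fintype (AdjoinRoot f) := Fintype.ofFinite _
  haveI : CharP (AdjoinRoot f) 2 := charP_of_injective_algebraMap (algebraMap K (AdjoinRoot f)).injective 2
  have hF : Fintype.card (AdjoinRoot f) = (2 ^ n) ^ 2 := by
    rw [← hK, Module.card_eq_pow_finrank (K := K), pb.finrank,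
      show pb.dim = 2 from (AdjoinRoot.powerBasis_dim hmon.ne_zero).trans hdeg]
  let q := 2 ^ n
  let i : K →+* AdjoinRoot f := AdjoinRoot.of f
  set w : AdjoinRoot f := AdjoinRoot.root f with hw
  have hwr : w ^ 2 + w + i ν = 0 := by rw [← hev i w]; exact AdjoinRoot.eval₂_root f
  have hfix : ∀ k : K, i k ^ q = i k := fun k => by
    rw [← map_pow, show q = Fintype.card K from hK.symm, FiniteField.pow_card]
  have hmem : ∀ x : AdjoinRoot f, x ^ q = x → ∃ k, i k = x := by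
    intro x hx
    by_contra hno
    push Not at hno
    have hq0 : (Polynomial.X ^ q - Polynomial.X : Polynomial (AdjoinRoot f)) ≠ 0 :=
      FiniteField.X_pow_card_sub_X_ne_zero _ (Nat.one_lt_two_pow (by omega))
    have hsub : insert x (Finset.univ.image i) ⊆
        (Polynomial.X ^ q - Polynomial.X : Polynomial (AdjoinRoot f)).roots.toFinset := by
      intro y hy
      rw [Multiset.mem_toFinset, Polynomial.mem_roots hq0, Polynomial.IsRoot.def]
      simp only [Polynomial.eval_sub, Polynomial.eval_pow, Polynomial.eval_X, sub_eq_zero]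
      rcases Finset.mem_insert.1 hy with rfl | hy
      · exact hx
      · obtain ⟨k, -, rfl⟩ := Finset.mem_image.1 hy; exact hfix k
    have h1 := (Finset.card_le_card hsub).trans ((Multiset.toFinset_card_le _).trans (Polynomial.card_roots' _))
    rw [Finset.card_insert_of_notMem (fun hy => by
        obtain ⟨k, -, hk⟩ := Finset.mem_image.1 hy; exact hno k hk),
      Finset.card_image_of_injective _ i.injective, Finset.card_univ, hK,
      FiniteField.X_pow_card_sub_X_natDegree_eq _ (Nat.one_lt_two_pow (by omega))] at h1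
    omega
  have hwK : ∀ k, i k ≠ w := fun k hk => hν k (i.injective (CharTwo.add_eq_zero.1 (by
    rw [map_add, map_pow, hk]; exact hwr)))
  have hadd : ∀ a b : AdjoinRoot f, (a + b) ^ q = a ^ q + b ^ q := CfsgLib.SU3Sylow.frob_add
  have e2 : (2 : AdjoinRoot f) = 0 := CharTwo.two_eq_zero
  have hwq : w ^ q = w + 1 := by
    have h1 : (w ^ q) ^ 2 + w ^ q + i ν = 0 := by
      rw [← hfix ν, ← pow_mul, mul_comm q 2, pow_mul, ← hadd, ← hadd, hwr,
        zero_pow (Nat.two_pow_pos n).ne']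
    have h2 : (w ^ q + w) * (w ^ q + (w + 1)) = 0 := by
      linear_combination h1 - hwr + (w ^ q * w + w + w ^ 2) * e2
    rcases mul_eq_zero.1 h2 with h3 | h3
    · obtain ⟨k, hk⟩ := hmem w (CharTwo.add_eq_zero.1 h3)
      exact absurd hk (hwK k)
    · exact CharTwo.add_eq_zero.1 h3
  let e : K × K → AdjoinRoot f := fun p => i p.1 + i p.2 * w
  have headd : ∀ p p', e (p + p') = e p + e p' := fun p p' => by
    simp only [e, Prod.fst_add, Prod.snd_add, map_add]; ring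
  have he : Function.Injective e := by
    intro p p' h
    have h' : i p.1 + i p.2 * w = i p'.1 + i p'.2 * w := h
    by_cases hb : p.2 = p'.2
    · rw [hb] at h'
      exact Prod.ext (i.injective (add_right_cancel h')) hb
    · exfalso
      refine hwK ((p'.1 - p.1) / (p.2 - p'.2)) ?_
      rw [map_div₀, map_sub, map_sub, div_eq_iff (sub_ne_zero.2 fun e => hb (i.injective e))]
      linear_combination -h'
  have hesurj : Function.Surjective e := ((Fintype.bijective_iff_injective_and_card e).2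
    ⟨he, by rw [Fintype.card_prod, hK, hF, sq]⟩).2
  -- the target
  have hF4 : Fintype.card (AdjoinRoot f) = 4 ^ n := by
    rw [hF, show (4 : ℕ) = 2 ^ 2 by norm_num, ← pow_mul, ← pow_mul, mul_comm]
  refine ⟨AdjoinRoot f, inferInstance, inferInstance, hF4, ?_⟩
  set G := Cfsg.PSU 3 (AdjoinRoot f) (2 ^ n)
  set S₀ : Subgroup (Cfsg.SU 3 (AdjoinRoot f) (2 ^ n)) := CfsgLib.SU3Sylow.U hF with hS₀
  let P₀ : Sylow 2 (Cfsg.SU 3 (AdjoinRoot f) (2 ^ n)) := Sylow.ofCard S₀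
    (by rw [hS₀, CfsgLib.SU3Sylow.card_U hF, CfsgLib.SU3Sylow.factorization_card_SU hF])
  obtain ⟨c⟩ := CfsgLib.SU3Sylow.coords_sylow hF P₀
  let ψ := QuotientGroup.mk' (Subgroup.center (Cfsg.SU 3 (AdjoinRoot f) (2 ^ n)))
  let S : Sylow 2 G := P₀.mapSurjective (f := ψ) (QuotientGroup.mk'_surjective _)
  have hcen : (Nat.card (Subgroup.center (Cfsg.SU 3 (AdjoinRoot f) (2 ^ n)))).Coprime 2 := by
    rw [CfsgLib.Classical.card_center_su hF (by norm_num)]
    exact Nat.Coprime.coprime_dvd_left (Nat.gcd_dvd_left _ _) (by norm_num)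
  have hinj : Function.Injective ((ψ.comp (P₀ : Subgroup _).subtype)) := by
    rw [injective_iff_map_eq_one]
    intro x hx
    have hxz : (x : Cfsg.SU 3 (AdjoinRoot f) (2 ^ n)) ∈ Subgroup.center _ := (QuotientGroup.eq_one_iff _).1 hx
    obtain ⟨k, hk⟩ := IsPGroup.iff_orderOf.1 P₀.2 x
    have h1 : orderOf x ∣ Nat.card (Subgroup.center (Cfsg.SU 3 (AdjoinRoot f) (2 ^ n))) := by
      rw [← Subgroup.orderOf_coe x, ← Subgroup.orderOf_mk _ hxz]; exact orderOf_dvd_natCard _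
    have hco : Nat.Coprime (orderOf x) (2 ^ k) := (Nat.Coprime.coprime_dvd_left h1 hcen).pow_right k
    rw [← hk, Nat.coprime_self] at hco
    exact orderOf_eq_one_iff.1 hco
  refine ⟨S, ?_⟩
  have hiso : Nonempty (Q ≃* (P₀ : Subgroup (Cfsg.SU 3 (AdjoinRoot f) (2 ^ n)))) := by
    have huniq : ∀ u ∈ Subgroup.center (P₀ : Subgroup (Cfsg.SU 3 (AdjoinRoot f) (2 ^ n))),
        ∀ v ∈ Subgroup.center (P₀ : Subgroup (Cfsg.SU 3 (AdjoinRoot f) (2 ^ n))), c.ζ u = c.ζ v → u = v := by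
      intro u hu v hv h
      have h1 := c.ζ_eq_zero _ (mul_mem hu hv) (by rw [c.ζ_mul u hu v hv, h, CharTwo.add_self_eq_zero])
      exact mul_right_cancel (b := v) (h1.trans (c.center_sq v hv).symm)
    have hsqc : ∀ r : (P₀ : Subgroup (Cfsg.SU 3 (AdjoinRoot f) (2 ^ n))), r * r ∈ Subgroup.center _ := fun r =>
      (c.π_eq_zero _).1 (by rw [c.π_mul, CharTwo.add_self_eq_zero])
    have hex : ∀ k : K, ∃ u ∈ Subgroup.center (P₀ : Subgroup (Cfsg.SU 3 (AdjoinRoot f) (2 ^ n))), c.ζ u = i k := fun k => by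
      obtain ⟨r, hr⟩ := c.π_surj (i k ^ (2 ^ (n - 1)))
      refine ⟨r * r, hsqc r, ?_⟩
      rw [c.ζ_sq, hr, pow_succ, ← pow_mul, mul_comm _ (2 ^ n), pow_mul, hfix, ← sq, ← pow_mul,
        show 2 ^ (n - 1) * 2 = q by rw [← pow_succ]; congr 1; omega, hfix]
    choose ι' hιc hιζ using hex
    choose ι hιC hιz using d.ζ_surj
    have huniqQ : ∀ u ∈ C, ∀ v ∈ C, d.ζ u = d.ζ v → u = v := fun u hu v hv h => by
      have h1 := d.ζ_eq_zero _ (mul_mem hu hv) (by rw [d.ζ_mul u hu v hv, h, CharTwo.add_self_eq_zero])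
      exact mul_right_cancel (b := v) (h1.trans (d.exp v hv).symm)
    refine Cfsg.Agent.S1139.iso_of_squares (A := AdjoinRoot f) (B := K) (fun x => e (d.π x)) c.π ι ι'
      (fun a b => by rw [d.π_mul, headd]) c.π_mul
      (fun a b => huniqQ _ (hιC _) _ (mul_mem (hιC a) (hιC b)) (by rw [hιz, d.ζ_mul _ (hιC a) _ (hιC b), hιz, hιz]))
      (fun a b => huniq _ (hιc _) _ (mul_mem (hιc a) (hιc b)) (by rw [hιζ, c.ζ_mul _ (hιc a) _ (hιc b), hιζ, hιζ, map_add]))
      (fun a b h => by rw [← hιz a, h, hιz]) (fun a b h => i.injective (by rw [← hιζ a, h, hιζ]))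
      (fun p => ?_) (fun t => ⟨fun h => ?_, fun ⟨b, hb⟩ => (c.π_eq_zero t).2 (hb ▸ hιc b)⟩)
      (hesurj.comp d.π_surj) c.π_surj (fun b p => (d.central _ (hιC b) p).symm)
      (fun b t => (Subgroup.mem_center_iff.1 (hιc b) t).symm) (fun p t hpt => ?_)
    · have e0 : e 0 = 0 := by simp [e]
      constructor
      · intro h
        have hp := (d.π_eq_zero p).1 (he (h.trans e0.symm))
        exact ⟨d.ζ p, huniqQ _ (hιC _) _ hp (hιz _)⟩
      · rintro ⟨b, rfl⟩
        show e (d.π _) = 0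
        rw [(d.π_eq_zero _).2 (hιC b), e0]
    · have ht := (c.π_eq_zero t).1 h
      obtain ⟨k, hk⟩ := hmem _ (c.ζ_pow t ht)
      exact ⟨k, huniq _ (hιc _) _ ht ((hιζ k).trans hk)⟩
    · refine ⟨d.ζ (p * p), huniqQ _ (hιC _) _ (d.sq_mem p) (hιz _), huniq _ (hιc _) _ (hsqc t) ?_⟩
      rw [hιζ, c.ζ_sq, ← hpt, d.ζ_sq]
      simp only [e, map_add, map_mul, map_pow]
      rw [pow_succ (_ + _) (2 ^ n), hadd, mul_pow, hfix, hfix, hwq]
      linear_combination -(i (d.π p).2 ^ 2) * hwr + (-(i (d.π p).1 * i (d.π p).2 * w) + i ν * i (d.π p).2 ^ 2) * e2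
  obtain ⟨e₁⟩ := hiso
  refine ⟨e₁.trans ?_⟩
  refine (MulEquiv.ofBijective (MonoidHom.codRestrict (ψ.comp (P₀ : Subgroup _).subtype) (S : Subgroup G)
    fun g => ?_) ⟨fun a b h => hinj (congrArg Subtype.val h), ?_⟩)
  · rw [Sylow.coe_mapSurjective]; exact ⟨g, g.2, rfl⟩
  · rintro ⟨y, hy⟩
    rw [Sylow.coe_mapSurjective] at hy
    obtain ⟨g, hg, rfl⟩ := hy
    exact ⟨⟨g, hg⟩, rfl⟩

/-- The isotropic case. -/
theorem linear_case {Q : Type*} [Group Q] [Finite Q] {C : Subgroup Q} {K : Type} [Field K] [Fintype K] [CharP K 2]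
    {n : ℕ} (hn : 2 ≤ n) (hK : Fintype.card K = 2 ^ n) {ν : K} (d : FormData Q C K ν) {r : K} (hr : r ^ 2 + r = ν) :
    ∃ (F : Type) (_ : Field F) (_ : Fintype F), Fintype.card F = 2 ^ n ∧
        ∃ S : Sylow 2 (Matrix.ProjectiveSpecialLinearGroup (Fin 3) F), Nonempty (Q ≃* ↥(S : Subgroup (Matrix.ProjectiveSpecialLinearGroup (Fin 3) F))) := by
  classical
  haveI : Fact (Nat.Prime 2) := ⟨Nat.prime_two⟩
  refine ⟨K, inferInstance, inferInstance, hK, ?_⟩
  set U := CfsgLib.Fusion.UniTri.upper K 3 with hU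
  have hUni : ∀ g : U, g.1.1 1 0 = 0 ∧ g.1.1 2 0 = 0 ∧ g.1.1 2 1 = 0 ∧
      g.1.1 0 0 = 1 ∧ g.1.1 1 1 = 1 ∧ g.1.1 2 2 = 1 := fun g =>
    ⟨g.2.1 1 0 (by decide), g.2.1 2 0 (by decide), g.2.1 2 1 (by decide), g.2.2 0, g.2.2 1, g.2.2 2⟩
  have hext : ∀ g k : U, g.1.1 0 1 = k.1.1 0 1 → g.1.1 1 2 = k.1.1 1 2 → g.1.1 0 2 = k.1.1 0 2 → g = k := by
    intro g k h1 h2 h3
    obtain ⟨a1, a2, a3, a4, a5, a6⟩ := hUni g
    obtain ⟨b1, b2, b3, b4, b5, b6⟩ := hUni k
    apply Subtype.ext; apply Subtype.ext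
    ext i j
    fin_cases i <;> fin_cases j <;> simp_all
  let mk' : K × K × K → U := fun p => ⟨⟨!![1, p.1, p.2.2; 0, 1, p.2.1; 0, 0, 1], by simp [Matrix.det_fin_three]⟩,
    ⟨fun x y hxy => by fin_cases x <;> fin_cases y <;> simp at hxy ⊢, fun x => by fin_cases x <;> rfl⟩⟩
  let e : U ≃ K × K × K :=
    { toFun := fun g => (g.1.1 0 1, g.1.1 1 2, g.1.1 0 2)
      invFun := mk'
      left_inv := fun g => hext _ _ rfl rfl rfl
      right_inv := fun p => rfl }
  have hmul : ∀ g k : U, (g * k).1.1 0 1 = g.1.1 0 1 + k.1.1 0 1 ∧ (g * k).1.1 1 2 = g.1.1 1 2 + k.1.1 1 2 ∧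
      (g * k).1.1 0 2 = g.1.1 0 2 + k.1.1 0 2 + g.1.1 0 1 * k.1.1 1 2 := by
    intro g k
    obtain ⟨a1, a2, a3, a4, a5, a6⟩ := hUni g
    obtain ⟨b1, b2, b3, b4, b5, b6⟩ := hUni k
    have : (g * k).1.1 = g.1.1 * k.1.1 := rfl
    rw [this]
    refine ⟨?_, ?_, ?_⟩ <;> simp [Matrix.mul_apply, Fin.sum_univ_three, *] <;> ring
  have e2 : (2 : K) = 0 := CharTwo.two_eq_zero
  let f' : U → K × K := fun g => (g.1.1 0 1, g.1.1 1 2)
  let ι' : K → U := fun t => mk' (0, 0, t)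
  let g₀ : Q → K × K := fun x => ((d.π x).1 + r * (d.π x).2, (d.π x).1 + (r + 1) * (d.π x).2)
  have hg₀0 : ∀ x, g₀ x = 0 ↔ d.π x = 0 := by
    intro x
    constructor
    · intro h
      simp only [g₀, Prod.mk_eq_zero] at h
      have hb : (d.π x).2 = 0 := by linear_combination h.2 - h.1
      have ha : (d.π x).1 = 0 := by rw [hb, mul_zero, add_zero] at h; exact h.1
      exact Prod.ext ha hb
    · intro h; simp [g₀, h]
  choose ι hιC hιz using d.ζ_surj
  have huniqQ : ∀ u ∈ C, ∀ v ∈ C, d.ζ u = d.ζ v → u = v := fun u hu v hv h => by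
    have h1 := d.ζ_eq_zero _ (mul_mem hu hv) (by rw [d.ζ_mul u hu v hv, h, CharTwo.add_self_eq_zero])
    exact mul_right_cancel (b := v) (h1.trans (d.exp v hv).symm)
  have hι'0 : ∀ t, f' (ι' t) = 0 := fun t => rfl
  have hiso : Nonempty (Q ≃* U) := by
    refine Cfsg.Agent.S1139.iso_of_squares (A := K × K) (B := K) g₀ f' ι ι'
      (fun a b => by simp only [g₀, d.π_mul, Prod.fst_add, Prod.snd_add, Prod.mk_add_mk]; refine Prod.ext ?_ ?_ <;> ring)
      (fun a b => Prod.ext (hmul a b).1 (hmul a b).2.1)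
      (fun a b => huniqQ _ (hιC _) _ (mul_mem (hιC a) (hιC b)) (by rw [hιz, d.ζ_mul _ (hιC a) _ (hιC b), hιz, hιz]))
      (fun a b => hext _ _ (by rw [(hmul _ _).1]; show (0 : K) = 0 + 0; ring)
        (by rw [(hmul _ _).2.1]; show (0 : K) = 0 + 0; ring)
        (by rw [(hmul _ _).2.2]; show a + b = a + b + 0 * 0; ring))
      (fun a b h => by rw [← hιz a, h, hιz]) (fun a b h => congrArg (fun g : U => g.1.1 0 2) h)
      (fun p => ⟨fun h => ⟨d.ζ p, huniqQ _ (hιC _) _ ((d.π_eq_zero p).1 ((hg₀0 p).1 h)) (hιz _)⟩,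
        fun ⟨b, hb⟩ => (hg₀0 p).2 ((d.π_eq_zero p).2 (hb ▸ hιC b))⟩)
      (fun t => ⟨fun h => ⟨t.1.1 0 2, hext _ _ (congrArg Prod.fst h).symm (congrArg Prod.snd h).symm rfl⟩,
        fun ⟨b, hb⟩ => hb ▸ hι'0 b⟩)
      (fun t => ?_) (fun t => ⟨mk' (t.1, t.2, 0), rfl⟩) (fun b p => (d.central _ (hιC b) p).symm)
      (fun b t => hext _ _ (by rw [(hmul _ _).1, (hmul _ _).1]; show 0 + _ = _ + 0; ring)
        (by rw [(hmul _ _).2.1, (hmul _ _).2.1]; show 0 + _ = _ + 0; ring)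
        (by rw [(hmul _ _).2.2, (hmul _ _).2.2]; show b + _ + 0 * _ = _ + b + _ * 0; ring))
      (fun p t hpt => ?_)
    · obtain ⟨x, hx⟩ := d.π_surj (t.1 + r * (t.1 + t.2), t.1 + t.2)
      refine ⟨x, Prod.ext ?_ ?_⟩ <;> simp only [g₀, hx]
      · linear_combination (r * (t.1 + t.2)) * e2
      · linear_combination (r * (t.1 + t.2) + t.1) * e2
    · have h1 : (d.π p).1 + r * (d.π p).2 = t.1.1 0 1 := congrArg Prod.fst hpt
      have h2 : (d.π p).1 + (r + 1) * (d.π p).2 = t.1.1 1 2 := congrArg Prod.snd hpt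
      refine ⟨d.ζ (p * p), huniqQ _ (hιC _) _ (d.sq_mem p) (hιz _), hext _ _ ?_ ?_ ?_⟩
      · rw [(hmul _ _).1, CharTwo.add_self_eq_zero]; rfl
      · rw [(hmul _ _).2.1, CharTwo.add_self_eq_zero]; rfl
      · rw [(hmul _ _).2.2, CharTwo.add_self_eq_zero, zero_add, ← h1, ← h2, d.ζ_sq]
        show (d.π p).1 ^ 2 + (d.π p).1 * (d.π p).2 + ν * (d.π p).2 ^ 2 = _
        linear_combination (-(d.π p).2 ^ 2) * hr - (r * (d.π p).1 * (d.π p).2) * e2
  obtain ⟨ψ, hψker, hψs⟩ : ∃ ψ : Matrix.SpecialLinearGroup (Fin 3) K →* Matrix.ProjectiveSpecialLinearGroup (Fin 3) K,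
      ψ.ker = Subgroup.center _ ∧ Function.Surjective ψ :=
    ⟨QuotientGroup.mk' _, QuotientGroup.ker_mk' _, QuotientGroup.mk'_surjective _⟩
  have hinj : Function.Injective (ψ.comp U.subtype) := by
    rw [← MonoidHom.ker_eq_bot_iff, Subgroup.eq_bot_iff_forall]
    intro g hg
    have hz : (g : Matrix.SpecialLinearGroup (Fin 3) K) ∈ Subgroup.center _ := hψker ▸ hg
    obtain ⟨c, -, hc⟩ := Matrix.SpecialLinearGroup.mem_center_iff.1 hz
    refine hext _ _ ?_ ?_ ?_ <;> rw [← hc] <;> simp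
  let V := U.map ψ
  have hV : Nat.card V = (2 ^ n) ^ 3 := by
    rw [← Nat.card_congr (Equiv.ofBijective (fun g : U => (⟨ψ g, g, g.2, rfl⟩ : V))
      ⟨fun g k h => hinj (congrArg Subtype.val h), by rintro ⟨_, g, hg, rfl⟩; exact ⟨⟨g, hg⟩, rfl⟩⟩),
      Nat.card_congr e, Nat.card_prod, Nat.card_prod, Nat.card_eq_fintype_card, hK]
    ring
  have hG : (Nat.card (Matrix.ProjectiveSpecialLinearGroup (Fin 3) K)).factorization 2 = 3 * n := by
    have h := CfsgLib.Classical.card_PSL_mul (F := K) hK 3 (by norm_num)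
    set Q' := 2 ^ n with hQ'
    have hQ2 : 2 ≤ Q' := Nat.one_lt_two_pow (by omega)
    have hodd : Odd ((Q' ^ 3 - 1) * (Q' ^ 2 - 1) * (Q' - 1)) := by
      have : Even Q' := (Nat.even_pow).2 ⟨even_two, by omega⟩
      refine (Odd.mul (Odd.mul ?_ ?_) ?_)
      · exact Nat.Even.sub_odd (Nat.one_le_pow _ _ (by omega)) (Nat.even_pow.2 ⟨this, by norm_num⟩) odd_one
      · exact Nat.Even.sub_odd (Nat.one_le_pow _ _ (by omega)) (Nat.even_pow.2 ⟨this, by norm_num⟩) odd_one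
      · exact Nat.Even.sub_odd (by omega) this odd_one
    have hprod : ∏ j : Fin 3, (Q' ^ 3 - Q' ^ (j : ℕ)) = 2 ^ (3 * n) * ((Q' ^ 3 - 1) * (Q' ^ 2 - 1) * (Q' - 1)) := by
      rw [Fin.prod_univ_three, show 2 ^ (3 * n) = Q' * (Q' * Q') by rw [hQ', ← pow_add, ← pow_add]; congr 1; omega]
      have e1 : Q' ^ 3 - Q' ^ 1 = Q' * (Q' ^ 2 - 1) := by rw [Nat.mul_sub, mul_one, pow_one, ← pow_succ']
      have e2 : Q' ^ 3 - Q' ^ 2 = Q' * Q' * (Q' - 1) := by rw [Nat.mul_sub, mul_one, pow_succ, sq]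
      show (Q' ^ 3 - Q' ^ 0) * (Q' ^ 3 - Q' ^ 1) * (Q' ^ 3 - Q' ^ 2) = _
      rw [e1, e2, pow_zero]; ring
    rw [hprod] at h
    have hpos : Nat.card (Matrix.ProjectiveSpecialLinearGroup (Fin 3) K) ≠ 0 := Nat.card_pos.ne'
    have hg : Odd (Nat.gcd 3 (Q' - 1) * (Q' - 1)) := by
      refine Odd.mul (Odd.of_dvd_nat ⟨1, rfl⟩ (Nat.gcd_dvd_left _ _)) ?_
      exact Nat.Even.sub_odd (by omega) ((Nat.even_pow).2 ⟨even_two, by omega⟩) odd_one
    rw [← mul_assoc] at h
    have h' := congrArg (fun m => m.factorization 2) h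
    simp only [Nat.factorization_mul (Odd.pos hg).ne' hpos,
      Nat.factorization_mul (pow_ne_zero _ two_ne_zero) (Odd.pos hodd).ne', Finsupp.add_apply,
      Nat.factorization_eq_zero_of_not_dvd (p := 2) hg.not_two_dvd_nat,
      Nat.factorization_eq_zero_of_not_dvd (p := 2) hodd.not_two_dvd_nat, Nat.prime_two.factorization_pow,
      Finsupp.single_eq_same, zero_add, add_zero] at h'
    exact h'
  refine ⟨Sylow.ofCard V (by rw [hV, hG, ← pow_mul, mul_comm n 3]), ?_⟩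
  rw [Sylow.coe_ofCard]
  obtain ⟨e₁⟩ := hiso
  exact ⟨e₁.trans (MulEquiv.ofBijective (MonoidHom.codRestrict (ψ.comp U.subtype) V fun g => ⟨g, g.2, rfl⟩)
    ⟨fun a b h => hinj (congrArg Subtype.val h), by rintro ⟨_, g, hg, rfl⟩; exact ⟨⟨g, hg⟩, rfl⟩⟩)⟩

/-- Let Q be a non-abelian finite 2-group admitting commuting automorphisms α of order 2 and ρ of order 2^n − 1, where n ≥ 2, such that the fixed points of α form an elementary abelian subgroup of order 2^n on whose nonidentity elements the group generated by ρ acts transitively. Then Q is isomorphic to a Sylow 2-subgroup of the projective special unitary group of dimension 3 with parameter 2^n (realised over the field with 4^n elements) or of the projective special linear group of dimension 3 over the field with 2^n elements. -/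
theorem result {Q : Type*} [Group Q] [Finite Q] (hQ : IsPGroup 2 Q) (hna : ¬ IsMulCommutative Q) (n : ℕ) (hn : 2 ≤ n)
    (α ρ : MulAut Q) (hα : orderOf α = 2) (hρ : orderOf ρ = 2 ^ n - 1) (hc : Commute α ρ)
    (C : Subgroup Q) (hC : ∀ x : Q, x ∈ C ↔ α x = x) (hCE : Cfsg.IsElementaryAbelian 2 C ∧ Nat.card ↥C = 2 ^ n)
    (htr : ∀ x y : Q, x ∈ C → y ∈ C → x ≠ 1 → y ≠ 1 → ∃ k : ℕ, (ρ ^ k) x = y) :
    (∃ (F : Type) (_ : Field F) (_ : Fintype F), Fintype.card F = 4 ^ n ∧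
        ∃ S : Sylow 2 (Cfsg.PSU 3 F (2 ^ n)), Nonempty (Q ≃* ↥(S : Subgroup (Cfsg.PSU 3 F (2 ^ n))))) ∨
      (∃ (F : Type) (_ : Field F) (_ : Fintype F), Fintype.card F = 2 ^ n ∧
        ∃ S : Sylow 2 (Matrix.ProjectiveSpecialLinearGroup (Fin 3) F), Nonempty (Q ≃* ↥(S : Subgroup (Matrix.ProjectiveSpecialLinearGroup (Fin 3) F)))) := by
  classical
  haveI : Fact (Nat.Prime 2) := ⟨Nat.prime_two⟩
  have hinvol : ∀ x, α (α x) = x := fun x => by
    have h := MulEquiv.congr_fun (hα ▸ pow_orderOf_eq_one α) x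
    simpa [sq] using h
  have hyp : Hyp α ρ C n :=
    { p2 := hQ
      two := hn
      invol := hinvol
      comm := fun x => MulEquiv.congr_fun hc.eq x
      mem := hC
      exp := fun x hx => by rw [← sq]; exact hCE.1.2 x hx
      card := hCE.2
      tr := htr }
  have hna' : ¬ ∀ x y : Q, x * y = y * x := fun h => hna ⟨⟨h⟩⟩
  obtain ⟨ν, ⟨d⟩⟩ := hyp.exists_form hna' (hρ ▸ pow_orderOf_eq_one ρ)
  letI : Fintype (GaloisField 2 n) := Fintype.ofFinite _
  have hK : Fintype.card (GaloisField 2 n) = 2 ^ n := by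
    rw [← Nat.card_eq_fintype_card, GaloisField.card 2 n (by omega)]
  by_cases hν : ∃ r : GaloisField 2 n, r ^ 2 + r = ν
  · obtain ⟨r, hr⟩ := hν
    exact Or.inr (linear_case hn hK d hr)
  · push Not at hν
    exact Or.inl (unitary_case hn hK d hν)

end Cfsg.Agent.S3161
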