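import Cfsg.Statements.S3162
import Cfsg.Agent.Lib.InvolChar.SU3Sylow
import Cfsg.Agent.Lib.Cores.Basic
import Cfsg.Agent.Lib.PGroup.ElemAbelian
-- import your own Cfsg.Agent.* helpers here

set_option autoImplicit false
open Cfsg

namespace Cfsg.Agent.S3162


open CfsgLib.SU3Sylow

theorem isometry_norm {F : Type*} [Field F] [Fintype F] [CharP F 2] {n : ℕ}
    (hF : Fintype.card F = (2 ^ n) ^ 2) (g : F →+ F)
    (hg : ∀ v, g v ^ (2 ^ n + 1) = v ^ (2 ^ n + 1)) :
    ∃ a : F, a ^ (2 ^ n + 1) = 1 ∧ ((∀ v, g v = a * v) ∨ (∀ v, g v = a * v ^ 2 ^ n)) := by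
  have ha : g 1 ^ (2 ^ n + 1) = 1 := by rw [hg, one_pow]
  have ha0 : g 1 ≠ 0 := fun h => by rw [h, zero_pow (Nat.succ_ne_zero _)] at ha; exact zero_ne_one ha
  refine ⟨g 1, ha, ?_⟩
  let h : F →+ F := (AddMonoidHom.mulLeft (g 1)⁻¹).comp g
  have hh : ∀ v, h v ^ (2 ^ n + 1) = v ^ (2 ^ n + 1) := fun v => by
    show ((g 1)⁻¹ * g v) ^ (2 ^ n + 1) = _
    rw [mul_pow, inv_pow, ha, inv_one, one_mul, hg]
  have h1 : h 1 = 1 := inv_mul_cancel₀ ha0
  have hN : ∀ v w : F, (v + w) ^ (2 ^ n + 1) =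
      v ^ (2 ^ n + 1) + w ^ (2 ^ n + 1) + (v * w ^ 2 ^ n + v ^ 2 ^ n * w) := fun v w => by
    rw [pow_succ, pow_succ, pow_succ, frob_add]
    ring
  have hT : ∀ v, h v + h v ^ 2 ^ n = v + v ^ 2 ^ n := fun v => by
    have e := hh (v + 1)
    rw [map_add, h1, hN, hN, hh] at e
    simpa using add_left_cancel e
  have hd : ∀ v, h v = v ∨ h v = v ^ 2 ^ n := fun v => by
    obtain ⟨d, hd'⟩ : ∃ d, h v = v + d := ⟨h v - v, by ring⟩
    have hdq : d ^ 2 ^ n = d := by
      have e := hT v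
      rw [hd', frob_add] at e
      exact (CharTwo.add_eq_zero.1 (show d + d ^ 2 ^ n = 0 by linear_combination e)).symm
    have e := hh v
    rw [hd', hN, hdq, pow_succ d, hdq] at e
    have : d * (d + (v + v ^ 2 ^ n)) = 0 := by linear_combination e
    rcases mul_eq_zero.1 this with h0 | h0
    · left; rw [hd', h0, add_zero]
    · right
      rw [hd', CharTwo.add_eq_zero.1 h0, ← add_assoc, CharTwo.add_self_eq_zero, zero_add]
  have hcases : (∀ v, h v = v) ∨ (∀ v, h v = v ^ 2 ^ n) := by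
    by_contra hc
    rw [not_or, not_forall, not_forall] at hc
    obtain ⟨⟨v, hv⟩, ⟨w, hw⟩⟩ := hc
    have hv' := (hd v).resolve_left hv
    have hw' := (hd w).resolve_right hw
    rcases hd (v + w) with e | e
    · rw [map_add, hw'] at e
      exact hv (add_right_cancel e)
    · rw [map_add, hv', frob_add] at e
      exact hw (add_left_cancel e)
  rcases hcases with e | e
  · exact Or.inl fun v => ((inv_mul_eq_iff_eq_mul₀ ha0).1 (e v))
  · exact Or.inr fun v => ((inv_mul_eq_iff_eq_mul₀ ha0).1 (e v))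


section
variable {F : Type*} [Field F] [Fintype F] [CharP F 2] {n : ℕ}

theorem ringAut_eq_pow (σ : F ≃+* F) : ∃ i : ℕ, ∀ x, σ x = x ^ 2 ^ i := by
  haveI : Fact (Nat.Prime 2) := ⟨Nat.prime_two⟩
  letI : Algebra (ZMod 2) F := ZMod.algebra F 2
  haveI : Algebra.IsAlgebraic (ZMod 2) F := Algebra.IsAlgebraic.of_finite (ZMod 2) F
  let σ' : F ≃ₐ[ZMod 2] F := AlgEquiv.ofRingEquiv (f := σ) (fun r => by
    have h : σ.toRingHom.comp (algebraMap (ZMod 2) F) = algebraMap (ZMod 2) F := RingHom.ext_zmod _ _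
    exact RingHom.congr_fun h r)
  obtain ⟨i, hi⟩ := (FiniteField.bijective_frobeniusAlgEquivOfAlgebraic_pow (ZMod 2) F).2 σ'
  refine ⟨i.val, fun x => ?_⟩
  have h := congrArg (fun f : F ≃ₐ[ZMod 2] F => f x) hi
  simp only [AlgEquiv.coe_pow, FiniteField.coe_frobeniusAlgEquivOfAlgebraic_iterate] at h
  rw [Fintype.card_eq_nat_card, Nat.card_zmod] at h
  exact h.symm

theorem card_ringAut (hF : Fintype.card F = (2 ^ n) ^ 2) : Nat.card (F ≃+* F) = 2 * n := by
  haveI : Fact (Nat.Prime 2) := ⟨Nat.prime_two⟩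
  letI : Algebra (ZMod 2) F := ZMod.algebra F 2
  have e : (F ≃+* F) ≃ (F ≃ₐ[ZMod 2] F) :=
    { toFun := fun σ => AlgEquiv.ofRingEquiv (f := σ) (fun r => by
        have h : σ.toRingHom.comp (algebraMap (ZMod 2) F) = algebraMap (ZMod 2) F := RingHom.ext_zmod _ _
        exact RingHom.congr_fun h r)
      invFun := fun σ => σ.toRingEquiv
      left_inv := fun σ => RingEquiv.ext fun x => rfl
      right_inv := fun σ => AlgEquiv.ext fun x => rfl }
  rw [Nat.card_congr e, IsGalois.card_aut_eq_finrank]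
  have h := Module.natCard_eq_pow_finrank (K := ZMod 2) (V := F)
  rw [Nat.card_zmod, Nat.card_eq_fintype_card, hF, ← pow_mul, mul_comm] at h
  exact (Nat.pow_right_injective (le_refl 2) h).symm

/-- The maps preserving the norm up to an additive map are semilinear monomials. -/
theorem similitude_norm (hn : 2 ≤ n) (hF : Fintype.card F = (2 ^ n) ^ 2) (g : F →+ F) (hg : Function.Injective g)
    (τ : F → F) (hτadd : ∀ a b, a ^ 2 ^ n = a → b ^ 2 ^ n = b → τ (a + b) = τ a + τ b)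
    (hτ0 : ∀ a, a ^ 2 ^ n = a → τ a = 0 → a = 0)
    (h : ∀ v, g v ^ (2 ^ n + 1) = τ (v ^ (2 ^ n + 1))) :
    ∃ a : F, a ≠ 0 ∧ ∃ σ : F ≃+* F, ∀ v, g v = a * σ v := by
  haveI : Fact (Nat.Prime 2) := ⟨Nat.prime_two⟩
  have h2 : (2 : F) = 0 := CharTwo.two_eq_zero
  obtain ⟨hKc, hsurj⟩ := card_fixed hF
  have hTfix : ∀ x : F, (x + x ^ 2 ^ n) ^ 2 ^ n = x + x ^ 2 ^ n := fun x => by
    rw [frob_add, frob_frob hF, add_comm]
  have hN : ∀ v w : F, (v + w) ^ (2 ^ n + 1) =
      (v ^ (2 ^ n + 1) + w ^ (2 ^ n + 1)) + (v * w ^ 2 ^ n + (v * w ^ 2 ^ n) ^ 2 ^ n) := fun v w => by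
    rw [pow_succ, pow_succ, pow_succ, frob_add, mul_pow, frob_frob hF]
    ring
  have hNf := norm_fixed hF
  have hsum : ∀ a b : F, a ^ 2 ^ n = a → b ^ 2 ^ n = b → (a + b) ^ 2 ^ n = a + b := fun a b ha hb => by
    rw [frob_add, ha, hb]
  -- the polar form
  have hpol : ∀ v w, g v * g w ^ 2 ^ n + (g v * g w ^ 2 ^ n) ^ 2 ^ n =
      τ (v * w ^ 2 ^ n + (v * w ^ 2 ^ n) ^ 2 ^ n) := fun v w => by
    have e := h (v + w)
    rw [map_add, hN, hN, hτadd _ _ (hsum _ _ (hNf v) (hNf w)) (hTfix _), hτadd _ _ (hNf v) (hNf w), h, h] at e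
    exact add_left_cancel e
  have hτz : τ 0 = 0 := by
    have := hτadd 0 0 (by simp) (by simp)
    rw [add_zero] at this
    linear_combination -this
  -- lines go to lines
  have hline : ∀ lam w, lam ^ 2 ^ n = lam → w ≠ 0 → (g (lam * w) / g w) ^ 2 ^ n = g (lam * w) / g w := by
    intro lam w hlam hw
    have hgw : g w ≠ 0 := (map_ne_zero_iff g hg).2 hw
    have e := hpol (lam * w) w
    rw [show lam * w * w ^ 2 ^ n = lam * w ^ (2 ^ n + 1) by rw [pow_succ]; ring,
      mul_pow lam, hlam, hNf, CharTwo.add_self_eq_zero, hτz, CharTwo.add_eq_zero, mul_pow, frob_frob hF] at e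
    rw [div_pow, div_eq_div_iff (pow_ne_zero _ hgw) hgw]
    linear_combination -e
  have hindep : ∀ {a b v w : F}, (v / w) ^ 2 ^ n ≠ v / w → a ^ 2 ^ n = a → b ^ 2 ^ n = b →
      a * v + b * w = 0 → a = 0 ∧ b = 0 := by
    intro a b v w hvw ha hb he
    by_cases ha0 : a = 0
    · subst ha0
      refine ⟨rfl, ?_⟩
      rcases eq_or_ne w 0 with rfl | hw
      · simp at hvw
      · simpa [hw] using he
    · exfalso
      rcases eq_or_ne w 0 with rfl | hw
      · simp at hvw
      apply hvw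
      have : v / w = b / a := by
        rw [div_eq_div_iff hw ha0]
        linear_combination he - b * w * h2
      rw [this, div_pow, hb, ha]
  have hginj : ∀ {v w}, v ≠ 0 → w ≠ 0 → (v / w) ^ 2 ^ n ≠ v / w → (g v / g w) ^ 2 ^ n ≠ g v / g w := by
    intro v w hv hw hne he
    apply hne
    have hgw : g w ≠ 0 := (map_ne_zero_iff g hg).2 hw
    rw [div_pow, div_eq_div_iff (pow_ne_zero _ hgw) hgw] at he
    have e := hpol v w
    rw [mul_pow, frob_frob hF, show g v ^ 2 ^ n * g w = g v * g w ^ 2 ^ n from he, CharTwo.add_self_eq_zero] at e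
    have e2 := CharTwo.add_eq_zero.1 (hτ0 _ (hTfix _) e.symm)
    rw [mul_pow, frob_frob hF] at e2
    rw [div_pow, div_eq_div_iff (pow_ne_zero _ hw) hw]
    linear_combination -e2
  obtain ⟨u, hu⟩ : ∃ u : F, u ^ 2 ^ n ≠ u := by
    by_contra hall
    push Not at hall
    have h1 : Nat.card {y : F // y + y ^ 2 ^ n = 0} = Nat.card F :=
      Nat.card_congr (Equiv.subtypeUnivEquiv fun y => CharTwo.add_eq_zero.2 (hall y).symm)
    rw [hKc, Nat.card_eq_fintype_card (α := F), hF, sq] at h1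
    have := Nat.one_lt_two_pow (n := n) (by omega)
    nlinarith
  let φ : F → F := fun lam => g lam / g 1
  have hg1 : g 1 ≠ 0 := (map_ne_zero_iff g hg).2 one_ne_zero
  have hsame : ∀ lam w, lam ^ 2 ^ n = lam → w ≠ 0 → g (lam * w) = φ lam * g w := by
    have key : ∀ lam v w, lam ^ 2 ^ n = lam → v ≠ 0 → w ≠ 0 → (v / w) ^ 2 ^ n ≠ v / w →
        g (lam * v) / g v = g (lam * w) / g w := by
      intro lam v w hlam hv hw hvw
      have hgv : g v ≠ 0 := (map_ne_zero_iff g hg).2 hv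
      have hgw : g w ≠ 0 := (map_ne_zero_iff g hg).2 hw
      have hvw0 : v + w ≠ 0 := fun h0 => hvw (by rw [CharTwo.add_eq_zero.1 h0, div_self hw, one_pow])
      have hgvw : g (v + w) ≠ 0 := (map_ne_zero_iff g hg).2 hvw0
      set p := g (lam * v) / g v with hp
      set r := g (lam * w) / g w with hr
      set t := g (lam * (v + w)) / g (v + w) with ht
      have e : (p + t) * g v + (r + t) * g w = 0 := by
        have e1 : p * g v = g (lam * v) := div_mul_cancel₀ _ hgv
        have e2 : r * g w = g (lam * w) := div_mul_cancel₀ _ hgw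
        have e3 : t * g (v + w) = g (lam * (v + w)) := div_mul_cancel₀ _ hgvw
        rw [mul_add, map_add, map_add] at e3
        linear_combination e1 + e2 + e3 + (g (lam * v) + g (lam * w)) * h2
      obtain ⟨h1, h3⟩ := hindep (hginj hv hw hvw) (hsum _ _ (hline _ _ hlam hv) (hline _ _ hlam hvw0))
        (hsum _ _ (hline _ _ hlam hw) (hline _ _ hlam hvw0)) e
      exact (CharTwo.add_eq_zero.1 h1).trans (CharTwo.add_eq_zero.1 h3).symm
    intro lam w hlam hw
    have hgw : g w ≠ 0 := (map_ne_zero_iff g hg).2 hw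
    suffices hh : g (lam * w) / g w = φ lam by rw [← hh, div_mul_cancel₀ _ hgw]
    by_cases hwf : (w / 1) ^ 2 ^ n = w / 1
    · rw [div_one] at hwf
      have hu0 : u ≠ 0 := fun h0 => hu (by rw [h0, zero_pow (Nat.two_pow_pos n).ne'])
      have e1 : (u / w) ^ 2 ^ n ≠ u / w := fun he => hu (by
        rw [div_pow, hwf] at he
        exact mul_right_cancel₀ (inv_ne_zero hw) (by simpa [div_eq_mul_inv] using he))
      have e2 : (u / 1) ^ 2 ^ n ≠ u / 1 := by simpa using hu
      have := key lam u 1 hlam hu0 one_ne_zero e2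
      rw [← key lam u w hlam hu0 hw e1, this, mul_one]
    · have := key lam w 1 hlam hw one_ne_zero hwf
      rw [this, mul_one]
  -- `φ` is a field automorphism of the fixed field
  let K : Subfield F :=
    { carrier := {a | a ^ 2 ^ n = a}
      mul_mem' := fun {a b} ha hb => by simp only [Set.mem_setOf_eq] at *; rw [mul_pow, ha, hb]
      one_mem' := one_pow _
      add_mem' := fun {a b} ha hb => hsum a b ha hb
      zero_mem' := zero_pow (Nat.two_pow_pos n).ne'
      neg_mem' := fun {a} ha => by simp only [Set.mem_setOf_eq] at *; rw [CharTwo.neg_eq, ha]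
      inv_mem' := fun a ha => by simp only [Set.mem_setOf_eq] at *; rw [inv_pow, ha] }
  have hφK : ∀ a : K, φ a ∈ K := fun a => by
    have := hline a.1 1 a.2 one_ne_zero
    rwa [mul_one] at this
  let φK : K →+* K :=
    { toFun := fun a => ⟨φ a, hφK a⟩
      map_one' := Subtype.ext (div_self hg1)
      map_mul' := fun a b => Subtype.ext (by
        show g (a.1 * b.1) / g 1 = g a.1 / g 1 * (g b.1 / g 1)
        rcases eq_or_ne b.1 0 with hb | hb
        · rw [hb, mul_zero, map_zero]; simp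
        · rw [hsame _ _ a.2 hb, mul_div_assoc])
      map_zero' := Subtype.ext (by show g 0 / g 1 = 0; rw [map_zero, zero_div])
      map_add' := fun a b => Subtype.ext (by
        show g (a.1 + b.1) / g 1 = g a.1 / g 1 + g b.1 / g 1
        rw [map_add, add_div]) }
  haveI : Fintype K := Fintype.ofFinite K
  obtain ⟨i, hi⟩ := ringAut_eq_pow (F := K) (RingEquiv.ofBijective φK
    ⟨φK.injective, Finite.injective_iff_surjective.1 φK.injective⟩)
  let σ : F ≃+* F := iterateFrobeniusEquiv F 2 i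
  have hσ : ∀ x, σ x = x ^ 2 ^ i := fun x => iterateFrobeniusEquiv_def F 2 i x
  have hσK : ∀ lam, lam ^ 2 ^ n = lam → φ lam = σ lam := fun lam hlam => by
    have := congrArg Subtype.val (hi ⟨lam, hlam⟩)
    rw [hσ]
    exact this
  let k : F →+ F := (σ.symm.toRingHom.toAddMonoidHom).comp g
  have hk : ∀ lam w, lam ^ 2 ^ n = lam → k (lam * w) = lam * k w := fun lam w hlam => by
    show σ.symm (g (lam * w)) = lam * σ.symm (g w)
    rcases eq_or_ne w 0 with rfl | hw
    · simp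
    · rw [hsame lam w hlam hw, map_mul, hσK lam hlam, RingEquiv.symm_apply_apply]
  set c := k 1 with hc
  have hc0 : c ≠ 0 := (map_ne_zero_iff σ.symm σ.symm.injective).2 hg1
  have hkN : ∀ v, k v ^ (2 ^ n + 1) = c ^ (2 ^ n + 1) * v ^ (2 ^ n + 1) := by
    intro v
    obtain ⟨r, hr⟩ := (bijective_frobenius F 2).2 (v ^ (2 ^ n + 1))
    change r ^ 2 = v ^ (2 ^ n + 1) at hr
    have hrq : r ^ 2 ^ n = r := (bijective_frobenius F 2).1 (by
      show (r ^ 2 ^ n) ^ 2 = r ^ 2
      rw [← pow_mul, mul_comm, pow_mul, hr, hNf])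
    have hNr : r ^ (2 ^ n + 1) = r ^ 2 := by rw [pow_succ, hrq, sq]
    have h1 : k v ^ (2 ^ n + 1) = σ.symm (τ (v ^ (2 ^ n + 1))) := by
      show (σ.symm (g v)) ^ (2 ^ n + 1) = _
      rw [← map_pow, h]
    have h3 : k r ^ (2 ^ n + 1) = σ.symm (τ (v ^ (2 ^ n + 1))) := by
      show (σ.symm (g r)) ^ (2 ^ n + 1) = _
      rw [← map_pow, h, hNr, hr]
    rw [h1, ← h3, ← mul_one r, hk r 1 hrq, mul_pow, ← hc, ← hr, ← hNr, mul_comm]
  obtain ⟨a, ha, hcase⟩ := isometry_norm hF ((AddMonoidHom.mulLeft c⁻¹).comp k) (fun v => by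
    show (c⁻¹ * k v) ^ (2 ^ n + 1) = _
    rw [mul_pow, hkN, inv_pow, inv_mul_cancel_left₀ (pow_ne_zero _ hc0)])
  have ha0 : a ≠ 0 := fun h0 => by rw [h0, zero_pow (Nat.succ_ne_zero _)] at ha; exact zero_ne_one ha
  rcases hcase with hcase | hcase
  · refine ⟨σ (c * a), (map_ne_zero_iff σ σ.injective).2 (mul_ne_zero hc0 ha0), σ, fun v => ?_⟩
    have := (inv_mul_eq_iff_eq_mul₀ hc0).1 (hcase v)
    change σ.symm (g v) = _ at this
    rw [← map_mul, mul_assoc, ← this, RingEquiv.apply_symm_apply]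
  · refine ⟨σ (c * a), (map_ne_zero_iff σ σ.injective).2 (mul_ne_zero hc0 ha0),
      (iterateFrobeniusEquiv F 2 n).trans σ, fun v => ?_⟩
    have := (inv_mul_eq_iff_eq_mul₀ hc0).1 (hcase v)
    change σ.symm (g v) = _ at this
    rw [RingEquiv.trans_apply, iterateFrobeniusEquiv_def F 2 n v, ← map_mul, mul_assoc, ← this, RingEquiv.apply_symm_apply]

theorem exists_aut (hF : Fintype.card F = (2 ^ n) ^ 2) (a : F) (ha : a ≠ 0) (σ : F ≃+* F) :
    ∃ α : MulAut (U hF), ∀ u : U hF, (α u).1.1.1 2 0 = a * σ (u.1.1.1 2 0) := by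
  classical
  have hcond : ∀ u : U hF, (a ^ (2 ^ n + 1) * σ (u.1.1.1 1 0)) + (a ^ (2 ^ n + 1) * σ (u.1.1.1 1 0)) ^ 2 ^ n =
      (a * σ (u.1.1.1 2 0)) ^ (2 ^ n + 1) := fun u => by
    rw [mul_pow _ _ (2 ^ n), norm_fixed hF, ← map_pow, ← mul_add, ← map_add, (mem_U u).1, mul_pow, ← map_pow]
  let f : U hF → U hF := fun u => ⟨el hF _ _ (hcond u), _, _, hcond u, rfl⟩
  have h20 : ∀ u, (f u).1.1.1 2 0 = a * σ (u.1.1.1 2 0) := fun u => by
    show uMat (2 ^ n) _ _ 2 0 = _
    simp [uMat]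
  have h10 : ∀ u, (f u).1.1.1 1 0 = a ^ (2 ^ n + 1) * σ (u.1.1.1 1 0) := fun u => by
    show uMat (2 ^ n) _ _ 1 0 = _
    simp [uMat]
  have hext : ∀ u v : U hF, u.1.1.1 2 0 = v.1.1.1 2 0 → u.1.1.1 1 0 = v.1.1.1 1 0 → u = v := by
    intro u v h1 h2
    apply Subtype.ext; apply Subtype.ext; apply Subtype.ext
    rw [(mem_U u).2, (mem_U v).2, h1, h2]
  have hmul : ∀ u v : U hF, (u * v).1.1.1 2 0 = u.1.1.1 2 0 + v.1.1.1 2 0 ∧
      (u * v).1.1.1 1 0 = u.1.1.1 1 0 + v.1.1.1 1 0 + u.1.1.1 2 0 ^ 2 ^ n * v.1.1.1 2 0 := by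
    intro u v
    have : (u * v).1.1.1 = u.1.1.1 * v.1.1.1 := rfl
    rw [this, (mem_U u).2, (mem_U v).2, uMat_mul hF]
    simp [uMat]
  have hinj : Function.Injective f := fun u v e => hext u v
    (σ.injective (mul_left_cancel₀ ha (by rw [← h20, ← h20, e])))
    (σ.injective (mul_left_cancel₀ (pow_ne_zero (2 ^ n + 1) ha) (by rw [← h10, ← h10, e])))
  let fh : U hF →* U hF := MonoidHom.mk' f fun u v => hext _ _
    (by rw [(hmul _ _).1, h20, h20, h20, (hmul u v).1, map_add, mul_add])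
    (by
      rw [(hmul _ _).2, h10, h10, h10, h20, h20, (hmul u v).2, map_add, map_add, map_mul, map_pow, mul_pow, pow_succ]
      ring)
  exact ⟨MulEquiv.ofBijective fh ⟨hinj, Finite.injective_iff_surjective.1 hinj⟩, h20⟩

theorem aut_U (hn : 2 ≤ n) (hF : Fintype.card F = (2 ^ n) ^ 2) :
    Cfsg.IsElementaryAbelian 2 (Cfsg.pCore 2 (MulAut (U hF))) ∧
      Nat.card ↥(Cfsg.pCore 2 (MulAut (U hF))) = 2 ^ (2 * n ^ 2) ∧
      Nat.card (MulAut (U hF)) = 2 ^ (2 * n ^ 2) * (2 * n * ((2 ^ n) ^ 2 - 1)) := by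
  classical
  haveI : Fact (Nat.Prime 2) := ⟨Nat.prime_two⟩
  obtain ⟨hKc, hsurj⟩ := card_fixed hF
  let π : U hF → F := fun u => u.1.1.1 2 0
  let ζ : U hF → F := fun u => u.1.1.1 1 0
  have hext : ∀ u v : U hF, π u = π v → ζ u = ζ v → u = v := by
    intro u v h1 h2
    apply Subtype.ext; apply Subtype.ext; apply Subtype.ext
    rw [(mem_U u).2, (mem_U v).2]
    exact congrArg₂ (uMat (2 ^ n)) h1 h2
  have hmul : ∀ u v : U hF, π (u * v) = π u + π v ∧ ζ (u * v) = ζ u + ζ v + π u ^ 2 ^ n * π v := by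
    intro u v
    show (u * v).1.1.1 2 0 = _ ∧ (u * v).1.1.1 1 0 = _
    have : (u * v).1.1.1 = u.1.1.1 * v.1.1.1 := rfl
    rw [this, (mem_U u).2, (mem_U v).2, uMat_mul hF]
    simp [uMat, π, ζ]
  have hcen : ∀ u : U hF, π u = 0 ↔ u ∈ Subgroup.center (U hF) := center_U hF
  have hπ1 : π 1 = 0 := (hcen 1).2 (one_mem _)
  have hζ1 : ζ 1 = 0 := by show (1 : Matrix (Fin 3) (Fin 3) F) 1 0 = 0; simp
  have hπinv : ∀ u, π u⁻¹ = π u := fun u => by
    have := (hmul u u⁻¹).1
    rw [mul_inv_cancel, hπ1] at this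
    exact (CharTwo.add_eq_zero.1 this.symm).symm
  have hel : ∀ x : F, ∃ u : U hF, π u = x := fun x => by
    obtain ⟨y, hy⟩ := hsurj _ (norm_fixed hF x)
    exact ⟨⟨el hF x y hy, x, y, hy, rfl⟩, by show uMat (2 ^ n) x y 2 0 = x; simp [uMat]⟩
  choose s hs using hel
  -- central elements
  let Kf : AddSubgroup F :=
    { carrier := {a | a ^ 2 ^ n = a}
      add_mem' := fun {a b} ha hb => by
        show (a + b) ^ 2 ^ n = a + b
        rw [frob_add, (show a ^ 2 ^ n = a from ha), (show b ^ 2 ^ n = b from hb)]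
      zero_mem' := zero_pow (Nat.two_pow_pos n).ne'
      neg_mem' := fun {a} ha => by show (-a) ^ 2 ^ n = -a; rw [CharTwo.neg_eq]; exact ha }
  have hzc : ∀ y : Kf, (y : F) + (y : F) ^ 2 ^ n = (0 : F) ^ (2 ^ n + 1) := fun y => by
    rw [(show (y : F) ^ 2 ^ n = y from y.2), CharTwo.add_self_eq_zero, zero_pow (Nat.succ_ne_zero _)]
  let z : Kf → U hF := fun y => ⟨el hF 0 y (hzc y), 0, y, hzc y, rfl⟩
  have hzπ : ∀ y, π (z y) = 0 := fun y => by show uMat (2 ^ n) 0 (y : F) 2 0 = 0; simp [uMat]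
  have hzζ : ∀ y, ζ (z y) = y := fun y => by show uMat (2 ^ n) 0 (y : F) 1 0 = y; simp [uMat]
  have hzmem : ∀ y, z y ∈ Subgroup.center (U hF) := fun y => (hcen _).1 (hzπ y)
  have hcomm : ∀ y u, z y * u = u * z y := fun y u => (Subgroup.mem_center_iff.1 (hzmem y) u).symm
  have hzadd : ∀ y y', z (y + y') = z y * z y' := fun y y' => hext _ _
    (by rw [(hmul _ _).1, hzπ, hzπ, hzπ, add_zero])
    (by rw [(hmul _ _).2, hzζ, hzζ, hzζ, hzπ, hzπ, mul_zero, add_zero]; rfl)
  have hz0 : z 0 = 1 := hext _ _ (by rw [hzπ, hπ1]) (by rw [hzζ, hζ1]; rfl)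
  have hzz : ∀ y, z y * z y = 1 := fun y => by
    rw [← hzadd, ← hz0]
    exact congrArg z (Subtype.ext (CharTwo.add_self_eq_zero (y : F)))
  have hctr : ∀ u ∈ Subgroup.center (U hF), ∃ y, z y = u := fun u hu => by
    have h0 := (hcen u).2 hu
    have h1 : ζ u + ζ u ^ 2 ^ n = π u ^ (2 ^ n + 1) := (mem_U u).1
    rw [h0, zero_pow (Nat.succ_ne_zero _)] at h1
    exact ⟨⟨ζ u, (CharTwo.add_eq_zero.1 h1).symm⟩, hext _ _ (by rw [hzπ, h0]) (hzζ _)⟩
  have hsq : ∀ v : F, s v * s v = z ⟨v ^ (2 ^ n + 1), norm_fixed hF v⟩ := fun v => hext _ _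
    (by rw [(hmul _ _).1, hzπ, CharTwo.add_self_eq_zero])
    (by rw [(hmul _ _).2, hzζ, CharTwo.add_self_eq_zero, zero_add, hs, ← pow_succ])
  -- the induced maps
  have hαc : ∀ (α : MulAut (U hF)) u, u ∈ Subgroup.center (U hF) → α u ∈ Subgroup.center (U hF) := fun α u hu =>
    Subgroup.mem_center_iff.2 fun b => by
      obtain ⟨b', rfl⟩ := α.surjective b
      rw [← map_mul, ← map_mul, Subgroup.mem_center_iff.1 hu b']
  have hind : ∀ (α : MulAut (U hF)) u v, π u = π v → π (α u) = π (α v) := fun α u v h => by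
    have h1 : v⁻¹ * u ∈ Subgroup.center (U hF) :=
      (hcen _).1 (by rw [(hmul _ _).1, hπinv, h, CharTwo.add_self_eq_zero])
    have h3 : π (α (v * (v⁻¹ * u))) = π (α v) := by
      rw [map_mul, (hmul _ _).1, (hcen _).2 (hαc α _ h1), add_zero]
    rwa [mul_inv_cancel_left] at h3
  let ρ : MulAut (U hF) →* Equiv.Perm F :=
    { toFun := fun α => ⟨fun v => π (α (s v)), fun v => π (α⁻¹ (s v)),
        fun v => by
          show π (α⁻¹ (s (π (α (s v))))) = v
          rw [hind _ _ (α (s v)) (hs _), MulAut.inv_apply, MulEquiv.symm_apply_apply, hs],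
        fun v => by
          show π (α (s (π (α⁻¹ (s v))))) = v
          rw [hind _ _ (α⁻¹ (s v)) (hs _), MulAut.inv_apply, MulEquiv.apply_symm_apply, hs]⟩
      map_one' := Equiv.ext fun v => hs v
      map_mul' := fun α β => Equiv.ext fun v => by
        show π ((α * β) (s v)) = π (α (s (π (β (s v)))))
        rw [hind α _ (β (s v)) (hs _)]; rfl }
  have hρπ : ∀ α u, π (α u) = ρ α (π u) := fun α u => hind α _ _ (hs _).symm
  -- the semilinear monomials
  let T := Fˣ × (F ≃+* F)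
  let tf : T → Equiv.Perm F := fun t => t.2.toEquiv.trans (Equiv.mulLeft₀ (t.1 : F) t.1.ne_zero)
  have htf : ∀ t v, tf t v = (t.1 : F) * t.2 v := fun t v => rfl
  have htinj : Function.Injective tf := by
    rintro ⟨a, σ⟩ ⟨b, τ⟩ e
    have e1 := congrArg (fun p : Equiv.Perm F => p 1) e
    simp only [htf, map_one, mul_one] at e1
    obtain rfl : a = b := Units.ext e1
    refine Prod.ext rfl (RingEquiv.ext fun v => ?_)
    exact mul_left_cancel₀ a.ne_zero (congrArg (fun p : Equiv.Perm F => p v) e)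
  have hrange : Set.range ρ = Set.range tf := by
    ext p
    constructor
    · rintro ⟨α, rfl⟩
      let g : F →+ F := AddMonoidHom.mk' (fun v => π (α (s v))) fun a b => by
        rw [hind α (s (a + b)) (s a * s b) (by rw [hs, (hmul _ _).1, hs, hs]), map_mul, (hmul _ _).1]
      let τ : F → F := fun a => if h : a ^ 2 ^ n = a then ζ (α (z ⟨a, h⟩)) else 0
      obtain ⟨a, ha, σ, hσ⟩ := similitude_norm hn hF g (fun a b e => (ρ α).injective e) τ (by
        intro a b ha hb
        have hab : (a + b) ^ 2 ^ n = a + b := by rw [frob_add, ha, hb]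
        simp only [τ, dif_pos hab, dif_pos ha, dif_pos hb]
        rw [show (⟨a + b, hab⟩ : Kf) = ⟨a, ha⟩ + ⟨b, hb⟩ from rfl, hzadd, map_mul, (hmul _ _).2,
          (hcen _).2 (hαc α _ (hzmem ⟨a, ha⟩)), zero_pow (Nat.two_pow_pos n).ne', zero_mul, add_zero]) (by
        intro a ha h0
        simp only [τ, dif_pos ha] at h0
        have h1 : α (z ⟨a, ha⟩) = 1 := hext _ _ (by rw [(hcen _).2 (hαc α _ (hzmem _)), hπ1]) (by rw [h0, hζ1])
        rw [map_eq_one_iff α α.injective] at h1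
        have := congrArg ζ h1
        rwa [hzζ, hζ1] at this) (by
        intro v
        show π (α (s v)) ^ (2 ^ n + 1) = τ _
        simp only [τ, dif_pos (norm_fixed hF v)]
        rw [← hsq, map_mul, (hmul _ _).2, CharTwo.add_self_eq_zero, zero_add, pow_succ])
      exact ⟨(Units.mk0 a ha, σ), Equiv.ext fun v => (hσ v).symm⟩
    · rintro ⟨⟨a, σ⟩, rfl⟩
      obtain ⟨α, hα⟩ := exists_aut hF (a : F) a.ne_zero σ
      refine ⟨α, Equiv.ext fun v => ?_⟩
      rw [htf]
      show π (α (s v)) = _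
      rw [show π (α (s v)) = _ from hα (s v)]
      show (a : F) * σ (π (s v)) = _
      rw [hs]
  have hcR : Nat.card ρ.range = 2 * n * ((2 ^ n) ^ 2 - 1) := by
    have : Nat.card ρ.range = Nat.card T :=
      (Nat.card_congr (Equiv.setCongr (by rw [MonoidHom.coe_range, hrange]))).trans
        (Nat.card_range_of_injective htinj)
    rw [this, Nat.card_prod, card_ringAut hF, Nat.card_units, Nat.card_eq_fintype_card, hF, mul_comm]
  -- the kernel
  have hker : ∀ α, α ∈ ρ.ker ↔ ∀ u, π (α u) = π u := fun α => by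
    rw [MonoidHom.mem_ker]
    refine ⟨fun h u => by rw [hρπ, h]; rfl, fun h => Equiv.ext fun v => ?_⟩
    show π (α (s v)) = v
    rw [h, hs]
  have hKz : ∀ α ∈ ρ.ker, ∀ y, α (z y) = z y := by
    intro α hα y
    obtain ⟨r, hr⟩ := (bijective_frobenius F 2).2 (y : F)
    change r ^ 2 = (y : F) at hr
    have hrq : r ^ 2 ^ n = r := (bijective_frobenius F 2).1 (by
      show (r ^ 2 ^ n) ^ 2 = r ^ 2
      rw [← pow_mul, mul_comm, pow_mul, hr]
      exact y.2)
    have hy : y = ⟨r ^ (2 ^ n + 1), norm_fixed hF r⟩ := Subtype.ext (by show (y : F) = r ^ (2 ^ n + 1); rw [pow_succ, hrq, ← sq, hr])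
    obtain ⟨d, hd⟩ := hctr ((s r)⁻¹ * α (s r))
      ((hcen _).1 (by rw [(hmul _ _).1, hπinv, (hker α).1 hα, CharTwo.add_self_eq_zero]))
    rw [hy, ← hsq, map_mul, show α (s r) = s r * z d by rw [hd, mul_inv_cancel_left], mul_assoc, ← mul_assoc (z d),
      hcomm d (s r), mul_assoc (s r), hzz, mul_one]
  let mkA : (F →+ Kf) → MulAut (U hF) := fun h =>
    { toFun := fun u => u * z (h (π u))
      invFun := fun u => u * z (h (π u))
      left_inv := fun u => by
        show u * z (h (π u)) * z (h (π (u * z (h (π u))))) = u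
        rw [(hmul _ _).1, hzπ, add_zero, mul_assoc, hzz, mul_one]
      right_inv := fun u => by
        show u * z (h (π u)) * z (h (π (u * z (h (π u))))) = u
        rw [(hmul _ _).1, hzπ, add_zero, mul_assoc, hzz, mul_one]
      map_mul' := fun u v => by
        show u * v * z (h (π (u * v))) = u * z (h (π u)) * (v * z (h (π v)))
        rw [(hmul _ _).1, map_add, hzadd, mul_assoc u v, ← mul_assoc v, ← hcomm (h (π u)) v]
        simp only [mul_assoc] }
  have hmkA : ∀ h u, mkA h u = u * z (h (π u)) := fun h u => rfl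
  have hzinj : Function.Injective z := fun a b e => Subtype.ext (by rw [← hzζ a, ← hzζ b, e])
  have hmkAinj : Function.Injective mkA := fun h h' e => AddMonoidHom.ext fun v => hzinj (by
    have := MulEquiv.congr_fun e (s v)
    rw [hmkA, hmkA, hs] at this
    exact mul_left_cancel this)
  have hKer : Set.range mkA = (ρ.ker : Set (MulAut (U hF))) := by
    ext α
    constructor
    · rintro ⟨h, rfl⟩
      exact (hker _).2 fun u => by rw [hmkA, (hmul _ _).1, hzπ, add_zero]
    · intro hα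
      have hd : ∀ v, ∃ y, z y = (s v)⁻¹ * α (s v) := fun v =>
        hctr _ ((hcen _).1 (by rw [(hmul _ _).1, hπinv, (hker α).1 hα, CharTwo.add_self_eq_zero]))
      choose h hh using hd
      have hu : ∀ u, α u = u * z (h (π u)) := fun u => by
        obtain ⟨y, hy⟩ := hctr ((s (π u))⁻¹ * u)
          ((hcen _).1 (by rw [(hmul _ _).1, hπinv, hs, CharTwo.add_self_eq_zero]))
        have e : u = s (π u) * z y := by rw [hy, mul_inv_cancel_left]
        have e1 : α (s (π u)) = s (π u) * z (h (π u)) := by rw [hh, mul_inv_cancel_left]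
        calc α u = α (s (π u) * z y) := by rw [← e]
          _ = s (π u) * z (h (π u)) * z y := by rw [map_mul, hKz α hα, e1]
          _ = (s (π u) * z y) * z (h (π u)) := by rw [mul_assoc, hcomm (h (π u)) (z y), ← mul_assoc]
          _ = u * z (h (π u)) := by rw [← e]
      refine ⟨AddMonoidHom.mk' h fun a b => hzinj ?_, MulEquiv.ext fun u => (hu u).symm⟩
      have e := hu (s a * s b)
      rw [map_mul, hu, hu, (hmul _ _).1, hs, hs] at e
      have e' : s a * s b * (z (h a) * z (h b)) = s a * s b * z (h (a + b)) := by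
        rw [← e]
        simp only [mul_assoc]
        rw [← mul_assoc (z (h a)) (s b), hcomm (h a) (s b)]
        simp only [mul_assoc]
      rw [hzadd]
      exact (mul_left_cancel e').symm
  have hcK : Nat.card ρ.ker = 2 ^ (2 * n ^ 2) := by
    have h1 : Nat.card ρ.ker = Nat.card (F →+ Kf) :=
      (Nat.card_congr (Equiv.setCongr hKer.symm)).trans (Nat.card_range_of_injective hmkAinj)
    letI : Module (ZMod 2) F := (ZMod.algebra F 2).toModule
    letI : Module (ZMod 2) Kf := AddCommGroup.zmodModule fun y => Subtype.ext (by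
      show (((2 : ℕ) • y : Kf) : F) = 0
      rw [AddSubmonoidClass.coe_nsmul, two_nsmul, CharTwo.add_self_eq_zero])
    have hcKf : Nat.card Kf = 2 ^ n := by
      rw [← hKc]
      exact Nat.card_congr (Equiv.subtypeEquivRight fun y => by
        rw [CharTwo.add_eq_zero]
        exact ⟨fun h => h.symm, fun h => h.symm⟩)
    have hF2 := Module.natCard_eq_pow_finrank (K := ZMod 2) (V := F)
    have hK2 := Module.natCard_eq_pow_finrank (K := ZMod 2) (V := Kf)
    rw [Nat.card_zmod, Nat.card_eq_fintype_card, hF, ← pow_mul] at hF2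
    rw [Nat.card_zmod, hcKf] at hK2
    rw [h1, Nat.card_congr (AddMonoidHom.toZModLinearMapEquiv 2).toEquiv,
      Module.natCard_eq_pow_finrank (K := ZMod 2), Nat.card_zmod, Module.finrank_linearMap,
      ← Nat.pow_right_injective (le_refl 2) hF2, ← Nat.pow_right_injective (le_refl 2) hK2]
    ring
  have hK2 : Cfsg.IsElementaryAbelian 2 ρ.ker := by
    refine ⟨⟨⟨fun a b => ?_⟩⟩, fun a ha => ?_⟩
    · obtain ⟨h, hh⟩ : (a : MulAut (U hF)) ∈ Set.range mkA := hKer.symm ▸ a.2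
      obtain ⟨h', hh'⟩ : (b : MulAut (U hF)) ∈ Set.range mkA := hKer.symm ▸ b.2
      refine Subtype.ext (MulEquiv.ext fun u => ?_)
      show (a : MulAut (U hF)) ((b : MulAut (U hF)) u) = (b : MulAut (U hF)) ((a : MulAut (U hF)) u)
      rw [← hh, ← hh', hmkA, hmkA, hmkA, hmkA, (hmul _ _).1, (hmul _ _).1, hzπ, hzπ, add_zero, mul_assoc,
        hcomm (h' (π u)), ← mul_assoc]
    · obtain ⟨h, rfl⟩ : a ∈ Set.range mkA := hKer.symm ▸ ha
      refine MulEquiv.ext fun u => ?_
      rw [sq]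
      exact (mkA h).left_inv u
  have hK : Cfsg.pCore 2 (MulAut (U hF)) = ρ.ker := by
    have hKp : IsPGroup 2 ρ.ker := fun a => ⟨1, Subtype.ext (hK2.2 a a.2)⟩
    refine le_antisymm ?_ (CfsgLib.Cores.le_pCore hKp)
    intro x hx
    obtain ⟨⟨a, σ⟩, ht⟩ : ρ x ∈ Set.range tf := hrange ▸ ⟨x, rfl⟩
    have hp : ∀ (y : MulAut (U hF)) (b : F), y ∈ Cfsg.pCore 2 (MulAut (U hF)) → (∀ v, ρ y v = b * v) → b = 1 := by
      intro y b hy hb
      obtain ⟨k, hk⟩ := CfsgLib.Cores.isPGroup_pCore 2 ⟨y, hy⟩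
      have hk' : y ^ 2 ^ k = 1 := congrArg Subtype.val hk
      have hpow : ∀ j : ℕ, ∀ v, (ρ y ^ j) v = b ^ j * v := by
        intro j
        induction j with
        | zero => simp
        | succ j ih => intro v; rw [pow_succ, Equiv.Perm.mul_apply, hb, ih, pow_succ, mul_assoc]
      have := hpow (2 ^ k) 1
      rw [← map_pow, hk', map_one ρ, Equiv.Perm.one_apply, mul_one] at this
      exact iterateFrobenius_inj F 2 k (by rw [iterateFrobenius_def, iterateFrobenius_def, one_pow]; exact this.symm)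
    have hσ : ∀ v, σ v = v := by
      intro b
      rcases eq_or_ne b 0 with rfl | hb
      · simp
      obtain ⟨L, hL⟩ := exists_aut hF b hb (RingEquiv.refl F)
      have hρL : ∀ v, ρ L v = b * v := fun v => by
        show π (L (s v)) = _
        rw [show π (L (s v)) = _ from hL (s v)]
        show b * π (s v) = _
        rw [hs]
      have hy : x * L * x⁻¹ * L⁻¹ ∈ Cfsg.pCore 2 (MulAut (U hF)) := by
        rw [mul_assoc, mul_assoc, ← mul_assoc L]
        exact mul_mem hx ((inferInstance : (Cfsg.pCore 2 (MulAut (U hF))).Normal).conj_mem _ (inv_mem hx) L)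
      have h1 := hp _ (σ b / b) hy fun v => by
        rw [map_mul, map_mul, map_mul, map_inv, map_inv, Equiv.Perm.mul_apply, Equiv.Perm.mul_apply,
          Equiv.Perm.mul_apply, show (ρ L)⁻¹ v = b⁻¹ * v from Equiv.Perm.inv_eq_iff_eq.2 (by
            rw [hρL, mul_inv_cancel_left₀ hb])]
        set w := (ρ x)⁻¹ (b⁻¹ * v) with hw
        have e : ρ x w = b⁻¹ * v := (ρ x).apply_symm_apply _
        rw [← ht, htf] at e ⊢
        rw [hρL, map_mul, mul_left_comm, e]
        ring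
      rwa [div_eq_one_iff_eq hb] at h1
    have ha : (a : F) = 1 := hp x a hx fun v => by rw [← ht, htf, hσ]
    rw [MonoidHom.mem_ker, ← ht]
    exact Equiv.ext fun v => by rw [htf, ha, hσ, one_mul]; rfl
  refine ⟨hK ▸ hK2, by rw [hK, hcK], ?_⟩
  rw [Subgroup.card_eq_card_quotient_mul_card_subgroup ρ.ker,
    Nat.card_congr (QuotientGroup.quotientKerEquivRange ρ).toEquiv, hcR, hcK, mul_comm]

end


/-- Let S be a Sylow 2-subgroup of the special unitary group of dimension 3 with parameter q = 2^n (n ≥ 2; realised over the field with q² elements). Then the largest normal 2-subgroup of the automorphism group of S is elementary abelian of order 2^(2n²), and the automorphism group has order 2^(2n²) · 2n(q² − 1). -/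
theorem result {S : Type*} [Group S] [Finite S] (n : ℕ) (hn : 2 ≤ n) {F : Type*} [Field F] [Fintype F] (hF : Fintype.card F = 4 ^ n)
    (P : Sylow 2 ↥(Cfsg.SU 3 F (2 ^ n))) (hS : Nonempty (S ≃* ↥(P : Subgroup ↥(Cfsg.SU 3 F (2 ^ n))))) :
    Cfsg.IsElementaryAbelian 2 (Cfsg.pCore 2 (MulAut S)) ∧ Nat.card ↥(Cfsg.pCore 2 (MulAut S)) = 2 ^ (2 * n ^ 2) ∧
      Nat.card (MulAut S) = 2 ^ (2 * n ^ 2) * (2 * n * ((2 ^ n) ^ 2 - 1)) := by
  classical
  haveI : Fact (Nat.Prime 2) := ⟨Nat.prime_two⟩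
  have hF' : Fintype.card F = (2 ^ n) ^ 2 := by rw [hF, ← pow_mul, mul_comm, pow_mul]; norm_num
  haveI : CharP F 2 := charP_of_card_eq_prime_pow (f := n * 2) (by rw [hF', ← pow_mul])
  let Q : Sylow 2 (Cfsg.SU 3 F (2 ^ n)) := Sylow.ofCard (CfsgLib.SU3Sylow.U hF')
    (by rw [CfsgLib.SU3Sylow.card_U hF', CfsgLib.SU3Sylow.factorization_card_SU hF'])
  obtain ⟨f⟩ := hS
  let e : S ≃* CfsgLib.SU3Sylow.U hF' := f.trans ((P.equiv Q).trans (MulEquiv.subgroupCongr (Sylow.coe_ofCard _ _)))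
  obtain ⟨h1, h2, h3⟩ := aut_U hn hF'
  let E : MulAut (CfsgLib.SU3Sylow.U hF') ≃* MulAut S := MulAut.congr e.symm
  have hE : (Cfsg.pCore 2 (MulAut (CfsgLib.SU3Sylow.U hF'))).map E.toMonoidHom = Cfsg.pCore 2 (MulAut S) :=
    CfsgLib.Cores.map_pCore_equiv E
  refine ⟨hE ▸ CfsgLib.PGroup.elemAb_map h1 E.toMonoidHom, ?_, by rw [← Nat.card_congr E.toEquiv, h3]⟩
  rw [← hE, Subgroup.card_map_of_injective E.injective, h2]

end Cfsg.Agent.S3162
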