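import Cfsg.Statements.S3163
import Mathlib
import Cfsg.Agent.Lib.PGroup.ElemAbelian
import Cfsg.Agent.Lib.PGroup.Counting
-- import your own Cfsg.Agent.* helpers here

set_option autoImplicit false
open Cfsg
open scoped Pointwise

namespace Cfsg.Agent.S3163

/-- Let S be a non-abelian finite 2-group which is the product S = AB of two elementary abelian subgroups A and B, and suppose that the centralizer in S of every element of A outside B is exactly A. Then the centralizer of every element of B outside A is exactly B; A and B are maximal elementary abelian subgroups of S and the only ones; the centre of S is A ∩ B; and every element of S outside A ∪ B has centralizer of order at most min(|A|, |B|). -/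
theorem result {S : Type*} [Group S] [Finite S] (hS : IsPGroup 2 S) (hna : ¬ IsMulCommutative S) (A B : Subgroup S)
    (hA : Cfsg.IsElementaryAbelian 2 A) (hB : Cfsg.IsElementaryAbelian 2 B) (hAB : ∀ s : S, ∃ a ∈ A, ∃ b ∈ B, s = a * b)
    (hC : ∀ a ∈ A, a ∉ B → Subgroup.centralizer ({a} : Set S) = A) :
    (∀ b ∈ B, b ∉ A → Subgroup.centralizer ({b} : Set S) = B) ∧
      (∀ E : Subgroup S, Cfsg.IsElementaryAbelian 2 E → (∀ E' : Subgroup S, Cfsg.IsElementaryAbelian 2 E' → E ≤ E' → E' = E) → E = A ∨ E = B) ∧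
      (∀ E' : Subgroup S, Cfsg.IsElementaryAbelian 2 E' → A ≤ E' → E' = A) ∧ (∀ E' : Subgroup S, Cfsg.IsElementaryAbelian 2 E' → B ≤ E' → E' = B) ∧
      Subgroup.center S = A ⊓ B ∧
      (∀ x : S, x ∉ A → x ∉ B → Nat.card ↥(Subgroup.centralizer ({x} : Set S)) ≤ min (Nat.card ↥A) (Nat.card ↥B)) := by
  have hAc : ∀ x ∈ A, ∀ y ∈ A, x * y = y * x := fun x hx y hy => CfsgLib.PGroup.elemAb_comm hA hx hy
  have hBc : ∀ x ∈ B, ∀ y ∈ B, x * y = y * x := fun x hx y hy => CfsgLib.PGroup.elemAb_comm hB hx hy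
  have hmemA : ∀ a ∈ A, a ∉ B → ∀ y, a * y = y * a → y ∈ A := by
    intro a ha haB y hy
    rw [← hC a ha haB, Subgroup.mem_centralizer_singleton_iff]
    exact hy.symm
  obtain ⟨a0, ha0, ha0B⟩ : ∃ a ∈ A, a ∉ B := by
    by_contra h
    push Not at h
    refine hna ⟨⟨fun x y => ?_⟩⟩
    obtain ⟨a, ha, b, hb, rfl⟩ := hAB x
    obtain ⟨a', ha', b', hb', rfl⟩ := hAB y
    exact hBc _ (mul_mem (h a ha) hb) _ (mul_mem (h a' ha') hb')
  obtain ⟨b0, hb0, hb0A⟩ : ∃ b ∈ B, b ∉ A := by
    by_contra h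
    push Not at h
    refine hna ⟨⟨fun x y => ?_⟩⟩
    obtain ⟨a, ha, b, hb, rfl⟩ := hAB x
    obtain ⟨a', ha', b', hb', rfl⟩ := hAB y
    exact hAc _ (mul_mem ha (h b hb)) _ (mul_mem ha' (h b' hb'))
  have hZc : ∀ z ∈ A, z ∈ B → ∀ s : S, s * z = z * s := by
    intro z hzA hzB s
    obtain ⟨a, ha, b, hb, rfl⟩ := hAB s
    rw [mul_assoc, hBc b hb z hzB, ← mul_assoc, hAc a ha z hzA, mul_assoc]
  have hmemB : ∀ b ∈ B, b ∉ A → ∀ y, b * y = y * b → y ∈ B := by
    intro b hb hbA y hy
    obtain ⟨a, ha, b', hb', rfl⟩ := hAB y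
    have h1 : b * a = a * b := by
      have h2 : b * a * b' = a * b * b' := by
        rw [mul_assoc, hy, mul_assoc, mul_assoc, hBc b' hb' b hb]
      exact mul_right_cancel h2
    by_cases haB : a ∈ B
    · exact mul_mem haB hb'
    · exact absurd (hmemA a ha haB b h1.symm) hbA
  have hBC : ∀ b ∈ B, b ∉ A → Subgroup.centralizer ({b} : Set S) = B := by
    intro b hb hbA
    apply le_antisymm
    · intro y hy
      exact hmemB b hb hbA y (Subgroup.mem_centralizer_singleton_iff.1 hy).symm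
    · intro y hy
      rw [Subgroup.mem_centralizer_singleton_iff]
      exact (hBc b hb y hy).symm
  refine ⟨hBC, ?_, ?_, ?_, ?_, ?_⟩
  · intro E hE hmax
    have hEc : ∀ x ∈ E, ∀ y ∈ E, x * y = y * x := fun x hx y hy => CfsgLib.PGroup.elemAb_comm hE hx hy
    by_cases h1 : ∃ a ∈ E, a ∈ A ∧ a ∉ B
    · obtain ⟨a, haE, ha, haB⟩ := h1
      exact Or.inl (hmax A hA fun y hy => hmemA a ha haB y (hEc a haE y hy)).symm
    by_cases h2 : ∃ b ∈ E, b ∈ B ∧ b ∉ A
    · obtain ⟨b, hbE, hb, hbA⟩ := h2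
      exact Or.inr (hmax B hB fun y hy => hmemB b hb hbA y (hEc b hbE y hy)).symm
    push Not at h1 h2
    refine Or.inl (hmax A hA fun x hx => ?_).symm
    by_contra hxA
    obtain ⟨a, ha, b, hb, rfl⟩ := hAB x
    have hbA : b ∉ A := fun h => hxA (mul_mem ha h)
    have haB : a ∉ B := fun h => hxA (h2 _ hx (mul_mem h hb))
    have h3 : a * b = b * a := by
      have hsq : (a * b) ^ 2 = 1 := hE.2 _ hx
      have ha2 : a * a = 1 := by rw [← sq]; exact hA.2 a ha
      have hb2 : b * b = 1 := by rw [← sq]; exact hB.2 b hb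
      calc a * b = (a * b)⁻¹ := (inv_eq_of_mul_eq_one_right (by rw [← sq]; exact hsq)).symm
        _ = b * a := by
          rw [mul_inv_rev, inv_eq_of_mul_eq_one_right ha2, inv_eq_of_mul_eq_one_right hb2]
    exact hbA (hmemA a ha haB b h3)
  · intro E' hE' hle
    exact le_antisymm (fun y hy => hmemA a0 ha0 ha0B y (CfsgLib.PGroup.elemAb_comm hE' (hle ha0) hy)) hle
  · intro E' hE' hle
    exact le_antisymm (fun y hy => hmemB b0 hb0 hb0A y (CfsgLib.PGroup.elemAb_comm hE' (hle hb0) hy)) hle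
  · ext z
    rw [Subgroup.mem_center_iff]
    exact ⟨fun h => ⟨hmemA a0 ha0 ha0B z (h a0), hmemB b0 hb0 hb0A z (h b0)⟩, fun h => hZc z h.1 h.2⟩
  · intro x hxA hxB
    obtain ⟨a, ha, b, hb, rfl⟩ := hAB x
    have hbA : b ∉ A := fun h => hxA (mul_mem ha h)
    have haB : a ∉ B := fun h => hxB (mul_mem h hb)
    set C := Subgroup.centralizer ({a * b} : Set S) with hCdef
    have hCA : C ⊓ A ≤ A ⊓ B := by
      rintro c ⟨hc, hcA⟩
      refine ⟨hcA, hmemB b hb hbA c ?_⟩
      have h1 : a * b * c = c * (a * b) := (Subgroup.mem_centralizer_singleton_iff.1 hc).symm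
      rw [← mul_assoc c a b, ← hAc a ha c hcA, mul_assoc, mul_assoc] at h1
      exact mul_left_cancel h1
    have hCB : C ⊓ B ≤ A ⊓ B := by
      rintro c ⟨hc, hcB⟩
      refine ⟨hmemA a ha haB c ?_, hcB⟩
      have h1 : a * b * c = c * (a * b) := (Subgroup.mem_centralizer_singleton_iff.1 hc).symm
      rw [mul_assoc, hBc b hb c hcB, ← mul_assoc, ← mul_assoc] at h1
      exact mul_right_cancel h1
    have hS' : Nat.card S * Nat.card ↥(A ⊓ B) = Nat.card ↥A * Nat.card ↥B := by
      rw [← CfsgLib.PGroup.card_setMul_mul_card_inf A B]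
      congr 1
      rw [Set.eq_univ_of_forall (s := (A : Set S) * (B : Set S)) (fun s => ?_), Nat.card_coe_set_eq,
        Set.ncard_univ]
      obtain ⟨u, hu, v, hv, rfl⟩ := hAB s
      exact Set.mul_mem_mul hu hv
    have key : ∀ D : Subgroup S, C ⊓ D ≤ A ⊓ B →
        Nat.card ↥C * Nat.card ↥D ≤ Nat.card ↥A * Nat.card ↥B := by
      intro D hD
      rw [← CfsgLib.PGroup.card_setMul_mul_card_inf C D, ← hS']
      exact Nat.mul_le_mul (Finite.card_subtype_le _) (Subgroup.card_le_of_le hD)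
    refine le_min ?_ ?_
    · have := key B hCB
      exact Nat.le_of_mul_le_mul_right this Nat.card_pos
    · have := key A hCA
      rw [mul_comm (Nat.card ↥A) (Nat.card ↥B)] at this
      exact Nat.le_of_mul_le_mul_right this Nat.card_pos

end Cfsg.Agent.S3163
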