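import Cfsg.Statements.S3164
import Cfsg.Agent.Lib.Cores.LBalance
import Cfsg.Agent.Lib.Local.PComp
import Cfsg.Agent.Lib.Cores.Layer

set_option autoImplicit false
open scoped commutatorElement
open Cfsg

namespace Cfsg.Agent.S3164

section
open Subgroup CfsgLib.Cores
open scoped commutatorElement

variable {G : Type*} [Group G] [Finite G]

/-- Square roots in a subgroup of odd order. -/
theorem exists_sqrt {W : Subgroup G} (hW : Odd (Nat.card W)) {x : G} (hx : x ∈ W) :
    ∃ n : ℕ, (x ^ n) * (x ^ n) = x := by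
  obtain ⟨k, hk⟩ := hW
  refine ⟨k + 1, ?_⟩
  have h1 : x ^ (2 * k + 1) = 1 := by
    rw [← hk]; exact orderOf_dvd_iff_pow_eq_one.1 (Subgroup.orderOf_dvd_natCard W hx)
  rw [← pow_add, show k + 1 + (k + 1) = (2 * k + 1) + 1 by omega, pow_succ, h1, one_mul]

theorem eq_one_of_sq {W : Subgroup G} (hW : Odd (Nat.card W)) {x : G} (hx : x ∈ W) (h : x * x = 1) :
    x = 1 := by
  obtain ⟨n, hn⟩ := exists_sqrt hW hx
  rw [← hn, ← (Commute.refl x).mul_pow, h, one_pow]

/-- An automorphism fixes only the identity among the elements it inverts in a group of odd order. -/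
theorem eq_one_of_fix_inv {W : Subgroup G} (hW : Odd (Nat.card W)) {x : G} (hx : x ∈ W)
    (h : x = x⁻¹) : x = 1 :=
  eq_one_of_sq hW hx (by nth_rw 1 [h]; exact inv_mul_cancel x)

theorem commute_of_commute_sq {W : Subgroup G} (hW : Odd (Nat.card W)) {x y : G} (hx : x ∈ W)
    (h : Commute (x * x) y) : Commute x y := by
  obtain ⟨n, hn⟩ := exists_sqrt hW hx
  rw [← hn, ← (Commute.refl x).mul_pow]
  exact h.pow_left n

/-- A four-group `⟨t, b⟩` acting on a group `W` of odd order with `C_W(t) = C_W(tb) ≤ C_W(b)`: then `b` is trivial. -/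
theorem conj_eq_of_fixed_le {W : Subgroup G} (hW : Odd (Nat.card W)) (T B : G →* G)
    (hTW : ∀ x ∈ W, T x ∈ W) (hBW : ∀ x ∈ W, B x ∈ W) (hT2 : ∀ x, T (T x) = x) (hB2 : ∀ x, B (B x) = x)
    (hTB : ∀ x, T (B x) = B (T x)) (hfix : ∀ x ∈ W, T x = x → B x = x)
    (hfix' : ∀ x ∈ W, T (B x) = x → T x = x) : ∀ x ∈ W, B x = x := by
  -- elements inverted by `T` are fixed by `B`
  have key : ∀ x ∈ W, T x = x⁻¹ → B x = x := by
    intro w hw hTw
    set v := w⁻¹ * B w with hv
    have hvW : v ∈ W := W.mul_mem (W.inv_mem hw) (hBW w hw)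
    obtain ⟨n, hn⟩ := exists_sqrt hW hvW
    set u := v ^ n with hu
    have huW : u ∈ W := W.pow_mem hvW n
    have hBv : B v = v⁻¹ := by rw [hv, map_mul, map_inv, hB2, mul_inv_rev, inv_inv]
    have hBu : B u = u⁻¹ := by rw [hu, map_pow, hBv, inv_pow]
    set c := w * u with hc
    have hcW : c ∈ W := W.mul_mem hw huW
    have hBc : B c = c := by
      have : B w = w * (u * u) := by rw [hn, hv]; group
      rw [hc, map_mul, this, hBu]; group
    -- uniqueness of the decomposition `w = c * u⁻¹`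
    have hTc : B (T c) = T c := by rw [← hTB, hBc]
    have hTu : B (T u) = (T u)⁻¹ := by rw [← hTB, hBu, map_inv]
    have e1 : T c * (T u)⁻¹ = c⁻¹ * (c * u * c⁻¹) := by
      have h0 : T w = w⁻¹ := hTw
      have hw' : w = c * u⁻¹ := by rw [hc]; group
      rw [hw', map_mul, map_inv, mul_inv_rev, inv_inv] at h0
      rw [h0]; group
    set e := c * T c with he
    have heW : e ∈ W := W.mul_mem hcW (hTW c hcW)
    have hBe : B e = e := by rw [he, map_mul, hBc, hTc]
    set u1 := c * u * c⁻¹ with hu1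
    have hu1W : u1 ∈ W := W.mul_mem (W.mul_mem hcW huW) (W.inv_mem hcW)
    have hBu1 : B u1 = u1⁻¹ := by
      rw [hu1, map_mul, map_mul, map_inv, hBc, hBu]; group
    have e2 : e = u1 * T u := by
      calc e = c * (T c * (T u)⁻¹) * T u := by rw [he]; group
        _ = u1 * T u := by rw [e1]; group
    have e3 : u1⁻¹ * (T u)⁻¹ = e := by rw [← hBe, e2, map_mul, hBu1, hTu]
    have e4 : T u = u1⁻¹ * e := by rw [e2]; group
    rw [e4] at e3
    -- `e` is inverted by `u1`, hence trivial
    have h5' : u1⁻¹ * e * u1 = e⁻¹ := by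
      have : e⁻¹ = (u1⁻¹ * (u1⁻¹ * e)⁻¹)⁻¹ := by rw [e3]
      rw [this]; group
    have h5 : u1 * e * u1⁻¹ = e⁻¹ := by
      calc u1 * e * u1⁻¹ = (u1 * e⁻¹ * u1⁻¹)⁻¹ := by group
        _ = (u1 * (u1⁻¹ * e * u1) * u1⁻¹)⁻¹ := by rw [h5']
        _ = e⁻¹ := by group
    have h6 : Commute (u1 * u1) e := by
      show u1 * u1 * e = e * (u1 * u1)
      calc u1 * u1 * e = u1 * (u1 * e * u1⁻¹) * u1⁻¹ * (u1 * u1) := by group
        _ = u1 * e⁻¹ * u1⁻¹ * (u1 * u1) := by rw [h5]
        _ = (u1 * e * u1⁻¹)⁻¹ * (u1 * u1) := by group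
        _ = e * (u1 * u1) := by rw [h5, inv_inv]
    have h7 : e = e⁻¹ := by
      rw [← h5, (commute_of_commute_sq hW hu1W h6).eq, mul_inv_cancel_right]
    have h8 : e = 1 := eq_one_of_fix_inv hW heW h7
    have hTc' : T c = c⁻¹ := eq_inv_of_mul_eq_one_right (by rw [← he]; exact h8)
    have hTu' : T u = c * u⁻¹ * c⁻¹ := by rw [e4, h8, mul_one, hu1]; group
    obtain ⟨m, hm⟩ := exists_sqrt hW hcW
    set d := c ^ m with hd
    have hTd : T d = d⁻¹ := by rw [hd, map_pow, hTc', inv_pow]
    have hBd : B d = d := by rw [hd, map_pow, hBc]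
    set z := d * u * d⁻¹ with hz
    have hzW : z ∈ W := W.mul_mem (W.mul_mem (W.pow_mem hcW m) huW) (W.inv_mem (W.pow_mem hcW m))
    have hTz : T z = z⁻¹ := by
      rw [hz, map_mul, map_mul, map_inv, hTd, hTu', ← hm]; group
    have hBz : B z = z⁻¹ := by rw [hz, map_mul, map_mul, map_inv, hBd, hBu]; group
    have hz1 : z = 1 := by
      refine eq_one_of_fix_inv hW hzW ?_
      have := hfix' z hzW (by rw [hBz, map_inv, hTz, inv_inv])
      rw [hTz] at this; exact this.symm
    have hu0 : u = 1 := by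
      have : u = d⁻¹ * z * d := by rw [hz]; group
      rw [this, hz1]; group
    have : w = c := by rw [hc, hu0, mul_one]
    rw [this, hBc]
  -- elements inverted by `B` are trivial
  intro w hw
  set u := w⁻¹ * B w with hu
  have huW : u ∈ W := W.mul_mem (W.inv_mem hw) (hBW w hw)
  have hBu : B u = u⁻¹ := by rw [hu, map_mul, map_inv, hB2, mul_inv_rev, inv_inv]
  clear_value u
  set x := u⁻¹ * T u with hx
  have hxW : x ∈ W := W.mul_mem (W.inv_mem huW) (hTW u huW)
  have hBx : B x = x := key x hxW (by rw [hx, map_mul, map_inv, hT2, mul_inv_rev, inv_inv])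
  have h1 : u * (T u)⁻¹ = u⁻¹ * T u := by
    rw [← hx]
    conv_rhs => rw [← hBx]
    rw [hx, map_mul, map_inv, hBu, ← hTB, hBu, map_inv, inv_inv]
  have h2 : T (u * u) = u * u := by
    rw [map_mul]
    calc T u * T u = u * (u⁻¹ * T u) * T u := by group
      _ = u * (u * (T u)⁻¹) * T u := by rw [h1]
      _ = u * u := by group
  have h3 := hfix _ (W.mul_mem huW huW) h2
  rw [map_mul, hBu, ← mul_inv_rev] at h3
  have h4 : u = 1 := eq_one_of_sq hW huW (eq_one_of_fix_inv hW (W.mul_mem huW huW) h3.symm)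
  calc B w = w * u := by rw [hu]; group
    _ = w := by rw [h4, mul_one]

/-- Two commuting involutions in a subgroup with cyclic Sylow 2-subgroups coincide. -/
theorem eq_of_cyclic_sylow {C : Subgroup G} (hcyc : ∀ R : Sylow 2 ↥C, IsCyclic ↥(R : Subgroup ↥C))
    {x y : G} (hx : x ∈ C) (hy : y ∈ C) (hx2 : x * x = 1) (hy2 : y * y = 1) (hx1 : x ≠ 1) (hy1 : y ≠ 1)
    (hxy : Commute x y) : x = y := by
  classical
  haveI : Fact (Nat.Prime 2) := ⟨Nat.prime_two⟩
  set a : C := ⟨x, hx⟩
  set b : C := ⟨y, hy⟩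
  have hp : ∀ z : C, z * z = 1 → IsPGroup 2 ↥(zpowers z) := by
    intro z hz
    obtain ⟨i, -, hi⟩ := (Nat.dvd_prime_pow Nat.prime_two).1
      (orderOf_dvd_of_pow_eq_one (show z ^ (2 ^ 1) = 1 by rw [pow_one, pow_two, hz]))
    exact IsPGroup.of_card (n := i) (by rw [Nat.card_zpowers, hi])
  have hnorm : zpowers b ≤ normalizer (zpowers a : Set C) := by
    refine le_trans ?_ (centralizer_le_normalizer _)
    rw [zpowers_le]
    refine mem_centralizer_iff.2 fun z hz => ?_
    obtain ⟨i, rfl⟩ := mem_zpowers_iff.1 hz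
    exact ((show Commute a b from Subtype.ext hxy.eq).zpow_left i).eq
  obtain ⟨P, hP⟩ := (IsPGroup.to_sup_of_normal_left' (hp a (Subtype.ext hx2)) (hp b (Subtype.ext hy2))
    hnorm).exists_le_sylow
  haveI := hcyc P
  letI : CommGroup ↥(P : Subgroup C) := IsCyclic.commGroup
  have haP : a ∈ (P : Subgroup C) := hP (mem_sup_left (mem_zpowers a))
  have hbP : b ∈ (P : Subgroup C) := hP (mem_sup_right (mem_zpowers b))
  haveI : Fintype ↥(P : Subgroup C) := Fintype.ofFinite _
  by_contra hne
  have h3 := IsCyclic.card_pow_eq_one_le (α := ↥(P : Subgroup C)) (n := 2) two_pos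
  have : ({1, ⟨a, haP⟩, ⟨b, hbP⟩} : Finset ↥(P : Subgroup C)).card = 3 := by
    rw [Finset.card_eq_three]
    refine ⟨1, ⟨a, haP⟩, ⟨b, hbP⟩, fun h => hx1 ?_, fun h => hy1 ?_, fun h => hne ?_, rfl⟩
    · exact (congrArg (fun q : ↥(P : Subgroup C) => ((q : C) : G)) h).symm
    · exact (congrArg (fun q : ↥(P : Subgroup C) => ((q : C) : G)) h).symm
    · exact congrArg (fun q : ↥(P : Subgroup C) => ((q : C) : G)) h
  have hle : ({1, ⟨a, haP⟩, ⟨b, hbP⟩} : Finset ↥(P : Subgroup C)).card ≤
      (Finset.univ.filter fun q : ↥(P : Subgroup C) => q ^ 2 = 1).card := by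
    refine Finset.card_le_card fun q hq => ?_
    simp only [Finset.mem_insert, Finset.mem_singleton] at hq
    refine Finset.mem_filter.2 ⟨Finset.mem_univ _, ?_⟩
    rw [pow_two]
    rcases hq with rfl | rfl | rfl
    exacts [one_mul 1, Subtype.ext (Subtype.ext hx2), Subtype.ext (Subtype.ext hy2)]
  omega

/-- A normal perfect subgroup inside the 2-layer centralizing the odd core is semisimple. -/
theorem layer_eq_top_of_le_pLayer {X : Subgroup G} [X.Normal] (hXp : ⁅X, X⁆ = X)
    (hXL : X ≤ pLayer 2 G) (hXO : X ≤ centralizer (pPrimeCore 2 G : Set G)) : layer ↥X = ⊤ := by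
  haveI : Fact (Nat.Prime 2) := ⟨Nat.prime_two⟩
  set O := pPrimeCore 2 G with hO
  set π := QuotientGroup.mk' O with hπ
  haveI := CfsgLib.Cores.layer_characteristic (G := ↥X)
  set E := (layer ↥X).map X.subtype with hE
  haveI hEn : E.Normal := ConjAct.normal_of_characteristic_of_normal
  set Z := X ⊓ O with hZ
  haveI : Z.Normal := inferInstance
  set M := E ⊔ Z with hM
  haveI : M.Normal := inferInstance
  have hK : ∀ K : Subgroup G, IsPComponent 2 K → ⁅K, X⁆ ≤ M := by
    intro K hK
    haveI hXb : (X.map π).Normal := Normal.map inferInstance π (QuotientGroup.mk'_surjective O)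
    rcases component_le_or_commutator_eq_bot hK.2.1 hXb.isSubnormal with h | h
    · have hKX : K ≤ X := by
        rw [← pElemClosure_pComponent hK, pElemClosure, closure_le]
        rintro x ⟨hx, k, hk⟩
        refine pElem_mem_of_isSubnormal (O := O) (coprime_card_pPrimeCore 2) (Normal.isSubnormal inferInstance) hk ?_
        rw [← sup_pPrimeCore_eq_comap_map]
        exact h (mem_map_of_mem _ hx)
      have hc : IsComponent K := CfsgLib.Local.isComponent_of_commutator_eq_bot hK
        (commutator_eq_bot_iff_le_centralizer.2 (hKX.trans hXO))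
      have hKE : K ≤ E := by
        rw [← map_subgroupOf_eq_of_le hKX]
        exact map_mono (component_le_layer (isComponent_subgroupOf hc hKX))
      refine le_trans ?_ le_sup_left
      exact (commutator_mono hKE le_top).trans (commutator_le_left E ⊤)
    · refine le_trans ?_ le_sup_right
      refine le_inf (commutator_le_right K X) ?_
      rw [← QuotientGroup.ker_mk' O, ← Subgroup.map_eq_bot_iff, map_commutator]
      exact h
  have h1 : X ≤ M := by
    rw [← hXp]
    refine (commutator_mono hXL le_rfl).trans ?_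
    rw [← QuotientGroup.ker_mk' M, ← Subgroup.map_eq_bot_iff, map_commutator,
      commutator_eq_bot_iff_le_centralizer, map_le_iff_le_comap, pLayer_le_iff]
    intro K hK'
    rw [← map_le_iff_le_comap, ← commutator_eq_bot_iff_le_centralizer, ← map_commutator,
      Subgroup.map_eq_bot_iff, QuotientGroup.ker_mk']
    exact hK K hK'
  have h2 : X ≤ E := by
    rw [← hXp]
    refine (commutator_mono h1 h1).trans ?_
    rw [← QuotientGroup.ker_mk' E, ← Subgroup.map_eq_bot_iff, map_commutator, hM, Subgroup.map_sup,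
      (Subgroup.map_eq_bot_iff E (f := QuotientGroup.mk' E)).2 (QuotientGroup.ker_mk' E).ge, bot_sup_eq,
      ← map_commutator, Subgroup.map_eq_bot_iff]
    refine le_trans ?_ bot_le
    rw [le_bot_iff, commutator_eq_bot_iff_le_centralizer]
    exact (inf_le_left.trans hXO).trans (centralizer_le inf_le_right)
  refine eq_top_iff.2 fun y _ => ?_
  obtain ⟨z, hz, hzy⟩ := h2 y.2
  exact Subtype.ext hzy ▸ hz

theorem commute_of_double {P A : Subgroup G} (hP : ⁅P, P⁆ = P)
    (h : ∀ a ∈ A, ∀ x ∈ P, ∀ y ∈ P, Commute ⁅a, x⁆ y) : A ≤ centralizer (P : Set G) := by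
  have h1 : ⁅⁅A, P⁆, P⁆ = ⊥ := by
    rw [commutator_eq_bot_iff_le_centralizer, commutator_le]
    intro a ha x hx
    exact mem_centralizer_iff.2 fun y hy => (h a ha x hx y hy).symm.eq
  have h2 : ⁅⁅P, A⁆, P⁆ = ⊥ := by rw [commutator_comm P A]; exact h1
  have h3 := commutator_commutator_eq_bot_of_rotate h2 h1
  rwa [hP, commutator_comm P A, commutator_eq_bot_iff_le_centralizer] at h3

end

/-- Let A be a standard subgroup of a finite group G whose centralizer has cyclic Sylow 2-subgroups, t an involution centralizing A, and X the normal closure of A in G. If X has a t-invariant 2-subgroup R with [R, t] nontrivial and contained in A, then X is semisimple (X equals its own layer, a central product of quasisimple groups) and the centre of X has odd order. -/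
theorem result {G : Type*} [Group G] [Finite G] (A : Subgroup G) (hA : Cfsg.IsStandardSubgroup A)
    (hcyc : ∀ R : Sylow 2 ↥(Subgroup.centralizer (A : Set G)), IsCyclic ↥(R : Subgroup ↥(Subgroup.centralizer (A : Set G)))) (t : G) (ht : orderOf t = 2) (htA : t ∈ Subgroup.centralizer (A : Set G))
    (R : Subgroup G) (hR2 : IsPGroup 2 ↥R) (hRX : R ≤ Subgroup.normalClosure (A : Set G)) (hRt : ∀ r ∈ R, t * r * t⁻¹ ∈ R)
    (hc1 : ⁅R, Subgroup.zpowers t⁆ ≠ ⊥) (hc2 : ⁅R, Subgroup.zpowers t⁆ ≤ A) :
    Cfsg.layer ↥(Subgroup.normalClosure (A : Set G)) = ⊤ ∧ Odd (Nat.card ↥(Subgroup.center ↥(Subgroup.normalClosure (A : Set G)))) := by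
  classical
  haveI : Fact (Nat.Prime 2) := ⟨Nat.prime_two⟩
  obtain ⟨hAq, hAt, -, hAN⟩ := hA
  have hAp : ⁅A, A⁆ = A := CfsgLib.Cores.commutator_self_of_isQuasisimple hAq
  have ht1 : t ≠ 1 := fun h => by simp [h] at ht
  have ht2 : t * t = 1 := by rw [← pow_two, ← ht, pow_orderOf_eq_one]
  have htinv : t⁻¹ = t := inv_eq_of_mul_eq_one_right ht2
  -- some element of `R` moves `t`
  obtain ⟨r, hrR, hr⟩ : ∃ r ∈ R, ¬ Commute r t := by
    by_contra! h
    refine hc1 ?_
    rw [Subgroup.commutator_eq_bot_iff_le_centralizer]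
    intro x hx
    refine Subgroup.mem_centralizer_iff.2 fun z hz => ?_
    obtain ⟨i, rfl⟩ := Subgroup.mem_zpowers_iff.1 hz
    exact ((h x hx).zpow_right i).symm.eq
  set b := r * t * r⁻¹ * t with hb
  have hbA : b ∈ A := by
    have := hc2 (Subgroup.commutator_mem_commutator hrR (Subgroup.mem_zpowers t))
    rwa [commutatorElement_def, htinv, ← hb] at this
  have htb : Commute t b := (Subgroup.mem_centralizer_iff.1 htA b hbA).symm
  set s := r * t * r⁻¹ with hs
  have hs2 : s * s = 1 := by
    calc s * s = r * (t * t) * r⁻¹ := by rw [hs]; group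
      _ = 1 := by rw [ht2]; group
  have hsb : s = b * t := by rw [hb, mul_assoc, ht2, mul_one]
  have hb2 : b * b = 1 := by
    calc b * b = b * b * (t * t) := by rw [ht2, mul_one]
      _ = b * (b * t) * t := by group
      _ = b * (t * b) * t := by rw [htb.eq]
      _ = (b * t) * (b * t) := by group
      _ = 1 := by rw [← hsb, hs2]
  have hbinv : b⁻¹ = b := inv_eq_of_mul_eq_one_right hb2
  have hst : s ≠ t := fun h => hr (by
    show r * t = t * r
    calc r * t = s * r := by rw [hs]; group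
      _ = t * r := by rw [h])
  have hb1 : b ≠ 1 := fun h => hst (by rw [hsb, h, one_mul])
  have hbC : b ∉ Subgroup.centralizer (A : Set G) := by
    intro h
    have hbt := eq_of_cyclic_sylow hcyc h htA hb2 ht2 hb1 ht1 htb.symm
    have hs1 : s = 1 := by rw [hsb, hbt, ht2]
    apply ht1
    calc t = r⁻¹ * s * r := by rw [hs]; group
      _ = 1 := by rw [hs1]; group
  have hAodd : ¬ Odd (Nat.card A) := by
    intro h
    have h2 : orderOf b = 2 := orderOf_eq_prime (by rw [pow_two, hb2]) hb1
    have := Subgroup.orderOf_dvd_natCard A hbA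
    rw [h2] at this
    exact Nat.not_even_iff_odd.2 h (even_iff_two_dvd.2 this)
  -- `C(t)` normalizes `A`
  have hCtN : Subgroup.centralizer ((Subgroup.zpowers t : Subgroup G) : Set G) ≤ Subgroup.normalizer (A : Set G) := by
    intro y hy
    have hyt : t * y = y * t := Subgroup.mem_centralizer_iff.1 hy t (Subgroup.mem_zpowers t)
    rw [hAN]
    by_contra hyN
    have hodd := hAt.2 y hyN
    have hxm : t ∈ Subgroup.centralizer (A : Set G) ⊓
        (Subgroup.centralizer (A : Set G)).map (MulAut.conj y).toMonoidHom := by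
      refine ⟨htA, t, htA, ?_⟩
      show y * t * y⁻¹ = t
      rw [← hyt, mul_inv_cancel_right]
    have := Subgroup.orderOf_dvd_natCard _ hxm
    rw [ht] at this
    exact Nat.not_even_iff_odd.2 hodd (even_iff_two_dvd.2 this)
  set O := pPrimeCore 2 G with hO
  have hOodd : Odd (Nat.card O) := CfsgLib.Cores.odd_card_oddCore
  -- `A` centralizes `C_O(t)`
  have hfixA : ∀ w ∈ O, Commute w t → ∀ a ∈ A, Commute w a := by
    intro w hw hwt
    let P := O ⊓ Subgroup.centralizer ((Subgroup.zpowers t : Subgroup G) : Set G)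
    have hwP : w ∈ P := ⟨hw, Subgroup.mem_centralizer_iff.2 fun z hz => by
      obtain ⟨i, rfl⟩ := Subgroup.mem_zpowers_iff.1 hz
      exact ((hwt.zpow_right i).symm).eq⟩
    have hP : P ≤ Subgroup.centralizer (A : Set G) := by
      refine commute_of_double hAp ?_
      intro w' hw' a ha a' ha'
      have hm1 : ⁅w', a⁆ ∈ A := by
        rw [commutatorElement_def]
        exact A.mul_mem ((Subgroup.mem_normalizer_iff.1 (hCtN hw'.2) a).1 ha) (A.inv_mem ha)
      have hm2 : ⁅w', a⁆ ∈ O := Subgroup.commutator_le_left O ⊤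
        (Subgroup.commutator_mem_commutator hw'.1 (Subgroup.mem_top a))
      rcases CfsgLib.Cores.normal_eq_top_or_le_center_of_isQuasisimple hAq (O.subgroupOf A) with h | h
      · exact absurd (hOodd.of_dvd_nat (Subgroup.card_dvd_of_le (Subgroup.subgroupOf_eq_top.1 h))) hAodd
      · have := Subgroup.mem_center_iff.1 (h (show (⟨_, hm1⟩ : A) ∈ O.subgroupOf A from hm2)) ⟨a', ha'⟩
        exact (congrArg Subtype.val this).symm
    exact fun a ha => (Subgroup.mem_centralizer_iff.1 (hP hwP) a ha).symm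
  -- `C_O(t) = C_O(s)`
  have hsub : ({w | w ∈ O ∧ Commute w t} : Set G) ⊆ {w | w ∈ O ∧ Commute w s} := by
    rintro w ⟨hw, hwt⟩
    exact ⟨hw, by rw [hsb]; exact (hfixA w hw hwt b hbA).mul_right hwt⟩
  have himg : ({w | w ∈ O ∧ Commute w s} : Set G) = (MulAut.conj r) '' {w | w ∈ O ∧ Commute w t} := by
    ext w
    constructor
    · rintro ⟨hw, hws⟩
      refine ⟨r⁻¹ * w * r, ⟨?_, ?_⟩, ?_⟩
      · simpa using (inferInstance : O.Normal).conj_mem w hw r⁻¹
      · show r⁻¹ * w * r * t = t * (r⁻¹ * w * r)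
        calc r⁻¹ * w * r * t = r⁻¹ * (w * s) * r := by rw [hs]; group
          _ = r⁻¹ * (s * w) * r := by rw [hws.eq]
          _ = t * (r⁻¹ * w * r) := by rw [hs]; group
      · rw [MulAut.conj_apply]; group
    · rintro ⟨v, ⟨hv, hvt⟩, rfl⟩
      refine ⟨(inferInstance : O.Normal).conj_mem v hv r, ?_⟩
      exact hvt.map (MulAut.conj r).toMonoidHom
  have heq : ({w | w ∈ O ∧ Commute w t} : Set G) = {w | w ∈ O ∧ Commute w s} :=
    Set.eq_of_subset_of_ncard_le hsub (by
      rw [himg, Set.ncard_image_of_injective _ (MulAut.conj r).injective]) (Set.toFinite _)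
  have hconj : ∀ g : G, g * g = 1 → ∀ x, g * (g * x * g⁻¹) * g⁻¹ = x := fun g hg x => by
    calc g * (g * x * g⁻¹) * g⁻¹ = (g * g) * x * (g * g)⁻¹ := by group
      _ = x := by rw [hg]; group
  have hfixed : ∀ g x : G, g * x * g⁻¹ = x ↔ Commute x g := fun g x => by
    rw [mul_inv_eq_iff_eq_mul]; exact ⟨fun h => h.symm, fun h => h.eq.symm⟩
  have hbO : ∀ x ∈ O, Commute x b := by
    intro x hx
    refine (hfixed b x).1 (conj_eq_of_fixed_le hOodd (MulAut.conj t).toMonoidHom (MulAut.conj b).toMonoidHom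
      (fun y hy => (inferInstance : O.Normal).conj_mem y hy t)
      (fun y hy => (inferInstance : O.Normal).conj_mem y hy b)
      (fun y => hconj t ht2 y) (fun y => hconj b hb2 y) ?_ ?_ ?_ x hx)
    · intro y
      show t * (b * y * b⁻¹) * t⁻¹ = b * (t * y * t⁻¹) * b⁻¹
      calc t * (b * y * b⁻¹) * t⁻¹ = (t * b) * y * (t * b)⁻¹ := by group
        _ = (b * t) * y * (b * t)⁻¹ := by rw [htb.eq]
        _ = b * (t * y * t⁻¹) * b⁻¹ := by group
    · intro y hy h
      exact (hfixed b y).2 (hfixA y hy ((hfixed t y).1 h) b hbA)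
    · intro y hy h
      refine (hfixed t y).2 (heq.symm.subset (show y ∈ {w | w ∈ O ∧ Commute w s} from ⟨hy, ?_⟩)).2
      refine (hfixed s y).1 ?_
      rw [hsb]
      conv_rhs => rw [← h]
      show b * t * y * (b * t)⁻¹ = t * (b * y * b⁻¹) * t⁻¹
      rw [← htb.eq]; group
  -- `A` centralizes `O`
  have hAO : A ≤ Subgroup.centralizer (O : Set G) := by
    rcases CfsgLib.Cores.normal_eq_top_or_le_center_of_isQuasisimple hAq
      ((Subgroup.centralizer (O : Set G)).subgroupOf A) with h | h
    · exact Subgroup.subgroupOf_eq_top.1 h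
    · exfalso
      refine hbC (Subgroup.mem_centralizer_iff.2 fun a ha => ?_)
      have := Subgroup.mem_center_iff.1 (h (show (⟨b, hbA⟩ : A) ∈ (Subgroup.centralizer (O : Set G)).subgroupOf A
        from Subgroup.mem_centralizer_iff.2 fun x hx => (hbO x hx).eq)) ⟨a, ha⟩
      exact congrArg Subtype.val this
  set X := Subgroup.normalClosure (A : Set G) with hX
  haveI : X.Normal := Subgroup.normalClosure_normal
  have hAX : A ≤ X := Subgroup.subset_normalClosure
  have hXO : X ≤ Subgroup.centralizer (O : Set G) := Subgroup.normalClosure_le_normal hAO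
  have hXp : ⁅X, X⁆ = X := by
    refine le_antisymm (Subgroup.commutator_le_left X X) (Subgroup.normalClosure_le_normal ?_)
    rw [← hAp]
    exact Subgroup.commutator_mono hAX hAX
  -- `A` is a component of `C(t)`
  have hXL : X ≤ pLayer 2 G := by
    haveI := CfsgLib.Cores.pLayer_normal (p := 2) (G := G)
    refine Subgroup.normalClosure_le_normal ?_
    set C := Subgroup.centralizer ((Subgroup.zpowers t : Subgroup G) : Set G) with hC
    have hAC : A ≤ C := fun a ha => Subgroup.mem_centralizer_iff.2 fun z hz => by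
      obtain ⟨i, rfl⟩ := Subgroup.mem_zpowers_iff.1 hz
      exact ((show Commute t a from (Subgroup.mem_centralizer_iff.1 htA a ha).symm).zpow_left i).eq
    have hn : (A.subgroupOf C).Normal := (Subgroup.normal_subgroupOf_iff_le_normalizer hAC).2 hCtN
    have hc : IsComponent (A.subgroupOf C) := ⟨hn.isSubnormal, CfsgLib.Cores.isQuasisimple_of_equiv
      (Subgroup.subgroupOfEquivOfLe hAC).symm hAq⟩
    have hnot : ¬ A.subgroupOf C ≤ pPrimeCore 2 ↥C := fun h => hAodd (by
      rw [← Nat.card_congr (Subgroup.subgroupOfEquivOfLe hAC).toEquiv]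
      exact Odd.of_dvd_nat CfsgLib.Cores.odd_card_oddCore (Subgroup.card_dvd_of_le h))
    have hbal := CfsgLib.LBalance.layerBalanced G (Subgroup.zpowers t)
      (IsPGroup.of_card (n := 1) (by rw [Nat.card_zpowers, ht, pow_one]))
    intro a ha
    exact hbal ⟨⟨a, hAC ha⟩, CfsgLib.Cores.pComponent_le_pLayer
      (CfsgLib.Cores.isPComponent_of_isComponent hc hnot) ha, rfl⟩
  refine ⟨layer_eq_top_of_le_pLayer hXp hXL hXO, ?_⟩
  by_contra hodd
  rw [Nat.not_odd_iff_even, even_iff_two_dvd] at hodd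
  obtain ⟨z0, hz0⟩ := exists_prime_orderOf_dvd_card' (G := ↥(Subgroup.center ↥X)) 2 hodd
  set Zs := (Subgroup.center ↥X).map X.subtype with hZs
  haveI : Zs.Normal := CfsgLib.Cores.map_center_normal X
  set z : G := ((z0 : ↥X) : G) with hz
  have hzZ : z ∈ Zs := ⟨z0, z0.2, rfl⟩
  have hzo : orderOf z = 2 := by rw [hz, Subgroup.orderOf_coe, Subgroup.orderOf_coe, hz0]
  have hz2 : z * z = 1 := by rw [← pow_two, ← hzo, pow_orderOf_eq_one]
  have hz1 : z ≠ 1 := fun h => by simp [h] at hzo
  have hcentral : ∀ v ∈ Zs, ∀ x ∈ X, Commute v x := by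
    rintro _ ⟨v, hv, rfl⟩ x hx
    exact (congrArg Subtype.val (Subgroup.mem_center_iff.1 hv ⟨x, hx⟩)).symm
  -- an involution of the centre fixed by `t`
  have hztt : t * z * t ∈ Zs := by
    have := (inferInstance : Zs.Normal).conj_mem z hzZ t
    rwa [htinv] at this
  have hzc : Commute z (t * z * t) := hcentral z hzZ _ (Subgroup.map_subtype_le _ hztt)
  obtain ⟨v, hvZ, hv2, hv1, hvt⟩ : ∃ v ∈ Zs, v * v = 1 ∧ v ≠ 1 ∧ Commute v t := by
    by_cases h : z * (t * z * t) = 1
    · refine ⟨z, hzZ, hz2, hz1, ?_⟩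
      have : t * z * t = z := by
        calc t * z * t = (z * z) * (t * z * t) := by rw [hz2, one_mul]
          _ = z := by rw [mul_assoc, h, mul_one]
      show z * t = t * z
      calc z * t = (t * z * t) * t := by rw [this]
        _ = t * z := by rw [mul_assoc, ht2, mul_one]
    · refine ⟨_, Zs.mul_mem hzZ hztt, ?_, h, ?_⟩
      · have : (t * z * t) * (t * z * t) = 1 := by
          calc (t * z * t) * (t * z * t) = t * z * (t * t) * z * t := by group
            _ = t * (z * z) * t := by rw [ht2, mul_one]; group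
            _ = 1 := by rw [hz2, mul_one, ht2]
        calc z * (t * z * t) * (z * (t * z * t)) = (z * z) * ((t * z * t) * (t * z * t)) := by
              rw [mul_assoc z, ← mul_assoc (t * z * t) z, hzc.symm.eq]; group
          _ = 1 := by rw [hz2, this, one_mul]
      · show z * (t * z * t) * t = t * (z * (t * z * t))
        calc z * (t * z * t) * t = z * t * z * (t * t) := by group
          _ = (t * t) * (z * t * z) := by rw [ht2, mul_one, one_mul]
          _ = t * (t * z * t * z) := by group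
          _ = t * (z * (t * z * t)) := by rw [← hzc.eq]
  have hvA : v ∈ Subgroup.centralizer (A : Set G) :=
    Subgroup.mem_centralizer_iff.2 fun a ha => (hcentral v hvZ a (hAX ha)).eq.symm
  obtain rfl : v = t := eq_of_cyclic_sylow hcyc hvA htA hv2 ht2 hv1 ht1 hvt
  exact hr (hcentral v hvZ r (hRX hrR)).symm

end Cfsg.Agent.S3164
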