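import Cfsg.Statements.S3166
import Mathlib
-- import your own Cfsg.Agent.* helpers here

set_option autoImplicit false
open Cfsg

namespace Cfsg.Agent.S3166

/-- Let q = 2^n with n ≥ 1. If q⁴ − q³ + q² − q + 1 is a power p^m of a prime p, then m = 1: the value is never a prime power with exponent greater than 1. -/
theorem result (n p m : ℕ) (hn : 1 ≤ n) (hp : p.Prime) (h : (2 ^ n) ^ 4 - (2 ^ n) ^ 3 + (2 ^ n) ^ 2 - 2 ^ n + 1 = p ^ m) : m = 1 := by
  set q := 2 ^ n with hqdef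
  have hq : 2 ≤ q := by
    calc 2 = 2 ^ 1 := rfl
      _ ≤ q := Nat.pow_le_pow_right (by norm_num) hn
  have h43 : q ^ 3 ≤ q ^ 4 := Nat.pow_le_pow_right (by omega) (by norm_num)
  have hsub : q ≤ q ^ 4 - q ^ 3 + q ^ 2 := le_add_left (Nat.le_self_pow (by norm_num) q)
  have hN : (p : ℤ) ^ m = (q : ℤ) ^ 4 - (q : ℤ) ^ 3 + (q : ℤ) ^ 2 - (q : ℤ) + 1 := by
    have := congrArg (Nat.cast : ℕ → ℤ) h
    push_cast [Nat.cast_sub h43, Nat.cast_sub hsub] at this
    linarith
  set Q : ℤ := (q : ℤ) with hQ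
  have hQ2 : 2 ≤ Q := by simp only [hQ]; exact_mod_cast hq
  have hp2 : 2 ≤ (p : ℤ) := by exact_mod_cast hp.two_le
  rcases Nat.even_or_odd' m with ⟨k, rfl | rfl⟩
  · -- not a square
    exfalso
    set s : ℤ := (p : ℤ) ^ k with hs
    have hss : s * s = Q ^ 4 - Q ^ 3 + Q ^ 2 - Q + 1 := by
      rw [← hN, hs, ← pow_add, two_mul]
    have hspos : 0 < s := by positivity
    have h1 : 2 * Q ^ 2 - Q < 2 * s := by nlinarith [mul_nonneg (sub_nonneg.2 hQ2) (sub_nonneg.2 hQ2)]
    have h2 : 2 * s < 2 * Q ^ 2 - Q + 1 := by nlinarith [mul_nonneg (sub_nonneg.2 hQ2) (sub_nonneg.2 hQ2)]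
    omega
  · rcases Nat.eq_zero_or_pos k with rfl | hk
    · rfl
    exfalso
    -- q divides p - 1
    set S : ℤ := ∑ i ∈ Finset.range (2 * k + 1), (p : ℤ) ^ i with hS
    have hgeom : S * ((p : ℤ) - 1) = Q * ((Q - 1) * (Q ^ 2 + 1)) := by
      rw [hS, geom_sum_mul, hN]; ring
    have hpodd : Odd p := by
      rcases hp.eq_two_or_odd' with rfl | ho
      · exfalso
        have he : Even Q := by
          simp only [hQ, hqdef, Nat.cast_pow, Nat.cast_ofNat]
          exact (Int.even_pow.2 ⟨even_two, by omega⟩)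
        have : Even (((2 : ℕ) : ℤ) ^ (2 * k + 1)) := Int.even_pow.2 ⟨even_two, by omega⟩
        rw [hN] at this
        exact Int.not_even_iff_odd.2 (by simpa [Int.even_add, Int.even_sub, Int.even_pow, he, Int.not_even_iff_odd] using this) (by simp [Int.even_add, Int.even_sub, Int.even_pow, he] : Even (Q ^ 4 - Q ^ 3 + Q ^ 2 - Q))
      · exact ho
    have hSodd : ¬ Even S := by
      have hpar : ∀ N, Even (∑ i ∈ Finset.range N, (p : ℤ) ^ i) ↔ Even N := by
        intro N
        induction N with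
        | zero => simp
        | succ N ih =>
          rw [Finset.sum_range_succ, Int.even_add, ih, Nat.even_add_one]
          simp [Int.even_pow, Int.even_coe_nat, Nat.not_even_iff_odd.2 hpodd]
      rw [hS, hpar]
      simp [Nat.even_add_one]
    have hdvd : Q ∣ (p : ℤ) - 1 := by
      have hcop : IsCoprime Q S := by
        have h2S : IsCoprime (2 : ℤ) S :=
          (Int.prime_two.coprime_iff_not_dvd).2 (fun hd => hSodd (even_iff_two_dvd.2 hd))
        have : Q = 2 ^ n := by simp [hQ, hqdef]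
        rw [this]; exact h2S.pow_left
      exact hcop.dvd_of_dvd_mul_left ⟨_, hgeom⟩
    obtain ⟨a, ha⟩ := hdvd
    have hpa : (p : ℤ) = a * Q + 1 := by linarith [mul_comm Q a]
    have hapos : 1 ≤ a := by nlinarith
    -- m = 3
    have hlt : Q ^ 4 - Q ^ 3 + Q ^ 2 - Q + 1 < Q ^ 4 := by
      nlinarith [mul_nonneg (sub_nonneg.2 hQ2) (sq_nonneg Q)]
    have hk1 : k = 1 := by
      by_contra hne
      have h5 : Q ^ 5 ≤ (p : ℤ) ^ (2 * k + 1) :=
        (pow_le_pow_left₀ (by omega) (by nlinarith : Q ≤ (p : ℤ)) 5).trans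
          (pow_le_pow_right₀ (by omega) (by omega))
      rw [hN] at h5
      nlinarith [pow_le_pow_right₀ (by omega : (1 : ℤ) ≤ Q) (by norm_num : 4 ≤ 5)]
    subst hk1
    rw [hpa] at hN
    have hkey : Q * (a ^ 3 * Q ^ 2 + 3 * a ^ 2 * Q + 3 * a) = Q * (Q ^ 3 - Q ^ 2 + Q - 1) := by
      ring_nf at hN ⊢; linarith
    have hkey' := mul_left_cancel₀ (by omega : Q ≠ 0) hkey
    have hmod : Q ∣ 3 * a + 1 := ⟨Q ^ 2 - Q + 1 - a ^ 3 * Q - 3 * a ^ 2, by ring_nf; ring_nf at hkey'; linarith⟩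
    have ha3 : a ^ 3 < Q := by
      have h0 : 0 ≤ 3 * a ^ 2 * Q := mul_nonneg (mul_nonneg (by norm_num) (sq_nonneg a)) (by omega)
      have h1 : Q < Q ^ 2 := by
        have := mul_le_mul_of_nonneg_right hQ2 (by omega : 0 ≤ Q)
        rw [sq]; omega
      have h2' : a ^ 3 * Q ^ 2 < Q * Q ^ 2 := by
        rw [show Q * Q ^ 2 = Q ^ 3 by ring]; linarith
      exact lt_of_mul_lt_mul_right h2' (sq_nonneg Q)
    have hle : Q ≤ 3 * a + 1 := Int.le_of_dvd (by omega) hmod
    have ha2 : a ≤ 1 := by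
      by_contra hc
      have h4 : 4 * a ≤ a ^ 2 * a := mul_le_mul_of_nonneg_right (by nlinarith) (by omega)
      rw [← pow_succ] at h4
      norm_num at h4
      omega
    obtain rfl : a = 1 := by omega
    have hQ4 : Q ≤ 4 := by omega
    interval_cases Q <;> norm_num at hkey'

end Cfsg.Agent.S3166
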