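import Cfsg.Statements.S3175
import Cfsg.Agent.Lib.InvolChar.TwoGroupWeak
-- import your own Cfsg.Agent.* helpers here

set_option autoImplicit false
set_option linter.style.haveILetI false
open Cfsg
open scoped commutatorElement

namespace Cfsg.Agent.S3175

/-- Let G be a finite group whose Sylow 2-subgroup T has order at least 2^14 and whose upper central series has fourth term of order 16; let W be the centralizer in T of the third term, and suppose the Frattini subgroup of W has order at most 8 and lies in every subgroup of W of index at most 16. Then the normalizer of T in G has a normal 2-complement, and W is weakly closed in T with respect to G. -/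
theorem result {G : Type*} [Group G] [Finite G]
    (T : Sylow 2 G) (ha : 2 ^ 14 ≤ Nat.card ↥(T : Subgroup G))
    (hb : Nat.card ↥(Subgroup.upperCentralSeries ↥(T : Subgroup G) 4) = 16)
    (W : Subgroup ↥(T : Subgroup G))
    (hW : W = Subgroup.centralizer ((Subgroup.upperCentralSeries ↥(T : Subgroup G) 3 : Subgroup ↥(T : Subgroup G)) : Set ↥(T : Subgroup G)))
    (hc : Nat.card ↥(frattini ↥W) ≤ 8)
    (hd : ∀ U : Subgroup ↥W, U.index ≤ 16 → frattini ↥W ≤ U) :
    Cfsg.HasNormalPComplement 2 ↥(Subgroup.normalizer ((T : Subgroup G) : Set G)) ∧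
      Cfsg.IsWeaklyClosed (W.map (T : Subgroup G).subtype) (T : Subgroup G) := by
  haveI : Fact (Nat.Prime 2) := ⟨Nat.prime_two⟩
  have h : CfsgLib.InvolChar.TwoGroupW.Hyp W := ⟨T.isPGroup', ha, hb, hW, hc, hd⟩
  refine ⟨?_, Subgroup.map_subtype_le _, fun g hg => ?_⟩
  swap
  · let e : W ≃* ((W.map (T : Subgroup G).subtype).map (MulAut.conj g).toMonoidHom).subgroupOf
        (T : Subgroup G) :=
      (W.equivMapOfInjective _ (T : Subgroup G).subtype_injective).trans
        (((W.map (T : Subgroup G).subtype).equivMapOfInjective _ (MulAut.conj g).injective).trans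
          (Subgroup.subgroupOfEquivOfLe hg).symm)
    have := CfsgLib.InvolChar.TwoGroupW.eq_of_mulEquiv h _ e
    conv_rhs => rw [← this]
    rw [Subgroup.map_subgroupOf_eq_of_le hg]
  set N := Subgroup.normalizer ((T : Subgroup G) : Set G) with hN
  have hTN : (T : Subgroup G) ≤ N := Subgroup.le_normalizer
  let P : Sylow 2 N := T.subtype hTN
  have hPc : (P : Subgroup N) = (T : Subgroup G).subgroupOf N := rfl
  haveI hPn : (P : Subgroup N).Normal := by
    rw [hPc]
    exact (Subgroup.normal_subgroupOf_iff_le_normalizer hTN).2 le_rfl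
  obtain ⟨K, hK⟩ := Subgroup.exists_right_complement'_of_coprime P.card_coprime_index
  suffices hcent : ∀ k ∈ K, ∀ p ∈ (P : Subgroup N), p * k = k * p by
    refine ⟨P, K, ⟨fun x hx n => ?_⟩, hK.symm⟩
    obtain ⟨⟨⟨p, hp⟩, ⟨k, hk⟩⟩, e, -⟩ := hK.existsUnique n
    change p * k = n at e
    subst e
    have hkx : k * x * k⁻¹ ∈ K := mul_mem (mul_mem hk hx) (inv_mem hk)
    rw [show p * k * x * (p * k)⁻¹ = p * (k * x * k⁻¹) * p⁻¹ by group, hcent _ hkx p hp,
      mul_inv_cancel_right]
    exact hkx
  have hcop : (Nat.card (K.map N.subtype)).Coprime (Nat.card (T : Subgroup G)) := by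
    rw [Subgroup.card_map_of_injective N.subtype_injective, ← hK.symm.index_eq_card,
      ← Nat.card_congr (Subgroup.subgroupOfEquivOfLe hTN).toEquiv, ← hPc]
    exact P.card_coprime_index.symm
  have hodd : ∀ k ∈ K, Odd (orderOf k) := by
    intro k hk
    rw [← Nat.not_even_iff_odd, even_iff_two_dvd]
    intro h2
    have h3 : 2 ∣ Nat.card (K.map N.subtype) := by
      rw [Subgroup.card_map_of_injective N.subtype_injective]
      exact h2.trans (Subgroup.orderOf_dvd_natCard K hk)
    have h4 : (2 : ℕ) ∣ Nat.card (T : Subgroup G) := dvd_trans (dvd_pow_self 2 (by norm_num))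
      (dvd_of_eq (CfsgLib.InvolChar.TwoGroupW.basic h).1.symm)
    exact Nat.not_coprime_of_dvd_of_dvd (by norm_num) h3 h4 hcop
  let Φ := (frattini ↥(T : Subgroup G)).map (T : Subgroup G).subtype
  have hconj : ∀ (k : N) (t : ↥(T : Subgroup G)), (k : G) * t * (k : G)⁻¹ =
      ((Subgroup.normalizerMonoidHom (T : Subgroup G) k t : ↥(T : Subgroup G)) : G) := fun k t => rfl
  have hAN : K.map N.subtype ≤ Subgroup.normalizer (Φ : Set G) := by
    intro y hy
    obtain ⟨k, -, rfl⟩ := hy
    refine Subgroup.mem_normalizer_iff.2 fun z => ?_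
    constructor
    · rintro ⟨t, ht, rfl⟩
      exact ⟨_, Subgroup.characteristic_iff_map_le.1 inferInstance
        (Subgroup.normalizerMonoidHom (T : Subgroup G) k) ⟨t, ht, rfl⟩, (hconj k t).symm⟩
    · rintro ⟨t, ht, e⟩
      refine ⟨_, Subgroup.characteristic_iff_map_le.1 inferInstance
        (Subgroup.normalizerMonoidHom (T : Subgroup G) k⁻¹) ⟨t, ht, rfl⟩, ?_⟩
      show ((Subgroup.normalizerMonoidHom (T : Subgroup G) k⁻¹ t : ↥(T : Subgroup G)) : G) = z
      rw [← hconj k⁻¹ t]
      change (t : G) = (k : G) * z * (k : G)⁻¹ at e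
      rw [Subgroup.coe_inv, e]
      group
  have hmod : ∀ y ∈ K.map N.subtype, ∀ t : ↥(T : Subgroup G), ⁅y, (t : G)⁆ ∈ Φ := by
    rintro _ ⟨k, hk, rfl⟩ t
    have h5 := CfsgLib.InvolChar.TwoGroupW.aut_mod_frattini h
      (Subgroup.normalizerMonoidHom (T : Subgroup G) k) (hodd k hk)
      (by rw [← map_pow, pow_orderOf_eq_one, map_one]) t
    refine ⟨t * (t⁻¹ * Subgroup.normalizerMonoidHom (T : Subgroup G) k t) * t⁻¹,
      (inferInstance : (frattini ↥(T : Subgroup G)).Normal).conj_mem _ h5 t, ?_⟩
    rw [mul_inv_cancel_left]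
    show ((Subgroup.normalizerMonoidHom (T : Subgroup G) k t * t⁻¹ : ↥(T : Subgroup G)) : G) = _
    rw [Subgroup.coe_mul, ← hconj, Subgroup.coe_inv, commutatorElement_def]
    rfl
  have htop : (Subgroup.centralizer ((K.map N.subtype : Subgroup G) : Set G)).subgroupOf (T : Subgroup G) = ⊤ := by
    refine CfsgLib.PGroup.eq_top_of_sup_frattini (eq_top_iff.2 fun t _ => ?_)
    have hΦT : Φ ≤ (T : Subgroup G) := Subgroup.map_subtype_le _
    haveI : Group.IsNilpotent Φ := (T.isPGroup'.to_le hΦT).isNilpotent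
    obtain ⟨n, hn, hnt⟩ := CfsgLib.Solvable.exists_mul_mem_centralizer (K.map N.subtype) Φ hAN
      (hcop.coprime_dvd_right (Subgroup.card_dvd_of_le hΦT)) (Or.inr inferInstance) (t : G)
      (fun y hy => hmod y hy t)
    obtain ⟨f, hf, rfl⟩ := hn
    have := mul_mem (Subgroup.mem_sup_right (S := (Subgroup.centralizer ((K.map N.subtype : Subgroup G) : Set G)).subgroupOf (T : Subgroup G)) (inv_mem hf))
      (Subgroup.mem_sup_left (T := frattini ↥(T : Subgroup G))
        (show f * t ∈ (Subgroup.centralizer ((K.map N.subtype : Subgroup G) : Set G)).subgroupOf (T : Subgroup G) from hnt))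
    simpa using this
  intro k hk p hp
  have h6 : (⟨(p : G), hp⟩ : ↥(T : Subgroup G)) ∈
      (Subgroup.centralizer ((K.map N.subtype : Subgroup G) : Set G)).subgroupOf (T : Subgroup G) :=
    htop ▸ Subgroup.mem_top _
  exact Subtype.ext ((Subgroup.mem_centralizer_iff.1 h6 (k : G) ⟨k, hk, rfl⟩).symm)

end Cfsg.Agent.S3175
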