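import Cfsg.Statements.S3178
import Mathlib
import Cfsg.Agent.Lib.Transfer.Frobenius
-- import your own Cfsg.Agent.* helpers here

set_option autoImplicit false
open Cfsg

namespace Cfsg.Agent.S3178

section
variable {X : Type*} [Group X]

theorem fix_of_shift {g x y : X} (hgx : g * x * g⁻¹ = y * x) (hgy : g * y * g⁻¹ = y)
    (hodd : Odd (orderOf g)) (hy : ∃ k : ℕ, y ^ (2 ^ k) = 1) : y = 1 := by
  have key : ∀ m : ℕ, g ^ m * x * (g ^ m)⁻¹ = y ^ m * x := by
    intro m
    induction m with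
    | zero => simp
    | succ m ih =>
      have hc : g * y ^ m * g⁻¹ = y ^ m := by
        rw [← conj_pow, hgy]
      calc g ^ (m + 1) * x * (g ^ (m + 1))⁻¹ = g * (g ^ m * x * (g ^ m)⁻¹) * g⁻¹ := by
            rw [pow_succ']; group
        _ = g * (y ^ m * x) * g⁻¹ := by rw [ih]
        _ = (g * y ^ m * g⁻¹) * (g * x * g⁻¹) := by group
        _ = y ^ m * (y * x) := by rw [hc, hgx]
        _ = y ^ (m + 1) * x := by rw [pow_succ, mul_assoc]
  have h := key (orderOf g)
  rw [pow_orderOf_eq_one, inv_one, one_mul, mul_one] at h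
  have hm : y ^ orderOf g = 1 := mul_right_cancel (h.symm.trans (one_mul x).symm)
  obtain ⟨k, hk⟩ := hy
  have hg : Nat.gcd (orderOf g) (2 ^ k) = 1 :=
    (Nat.Coprime.pow_right k (Nat.coprime_two_right.2 hodd))
  have := (pow_gcd_eq_one (a := y) (m := orderOf g) (n := 2 ^ k)).2 ⟨hm, hk⟩
  rwa [hg, pow_one] at this

theorem sq_one_of_invol_fixed {g t : X} (hodd : Odd (orderOf g))
    (h2 : g ^ 2 * t * (g ^ 2)⁻¹ = t) : g * t * g⁻¹ = t := by
  obtain ⟨m, hm⟩ := hodd
  have hg : g = (g ^ 2) ^ (m + 1) := by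
    rw [← pow_mul, show 2 * (m + 1) = (2 * m + 1) + 1 by ring, pow_succ, ← hm, pow_orderOf_eq_one,
      one_mul]
  have hc : Commute (g ^ 2) t := by
    calc g ^ 2 * t = (g ^ 2 * t * (g ^ 2)⁻¹) * g ^ 2 := by group
      _ = t * g ^ 2 := by rw [h2]
  have hc' : Commute g t := by rw [hg]; exact hc.pow_left _
  rw [hc'.eq]; group

end

theorem frob_in {G : Type*} [Group G] [Finite G]
    (S : Sylow 2 G) (n : ℕ) (hn : 3 ≤ n) (hS : Nat.card ↥(S : Subgroup G) = 2 ^ (n + 1))
    (a b : G) (ha : a ∈ (S : Subgroup G)) (hb : b ∈ (S : Subgroup G))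
    (hao : orderOf a = 2 ^ n) (hbo : orderOf b = 2) (hrel : b * a * b⁻¹ = a ^ (2 ^ (n - 1) + 1))
    (Q : Subgroup G) (hQ : Q ≤ (S : Subgroup G)) (g : G)
    (hg : ∀ q ∈ Q, g * q * g⁻¹ ∈ Q) (hodd : Odd (orderOf g)) :
    ∀ q ∈ Q, g * q * g⁻¹ = q := by
  classical
  haveI : Fact (Nat.Prime 2) := ⟨Nat.prime_two⟩
  obtain ⟨r, rfl⟩ : ∃ r, n = r + 3 := ⟨n - 3, by omega⟩
  simp only [show r + 3 - 1 = r + 2 by omega] at hrel
  set z : G := a ^ (2 ^ (r + 2) : ℤ) with hzdef
  have hzpow : ∀ k : ℤ, a ^ k = 1 ↔ (2 ^ (r + 3) : ℤ) ∣ k := by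
    intro k
    rw [← orderOf_dvd_iff_zpow_eq_one, hao]
    push_cast; rfl
  have hbb : b * b = 1 := by rw [← sq, ← hbo]; exact pow_orderOf_eq_one b
  have hbi : b⁻¹ = b := inv_eq_of_mul_eq_one_right hbb
  -- conjugation by b
  have hconj : ∀ k : ℤ, b * a ^ k * b⁻¹ = a ^ (k + k * 2 ^ (r + 2)) := by
    intro k
    rw [← conj_zpow, hrel, ← zpow_natCast, ← zpow_mul]
    push_cast; ring_nf
  have heven : ∀ m : ℤ, b * a ^ (2 * m) * b⁻¹ = a ^ (2 * m) := by
    intro m
    rw [hconj, zpow_add, show (2 * m * 2 ^ (r + 2) : ℤ) = 2 ^ (r + 3) * m by ring,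
      (hzpow _).2 ⟨m, rfl⟩, mul_one]
  have hcomm : ∀ m : ℤ, Commute b (a ^ (2 * m)) := by
    intro m
    calc b * a ^ (2 * m) = (b * a ^ (2 * m) * b⁻¹) * b := by group
      _ = a ^ (2 * m) * b := by rw [heven]
  have hsqb : ∀ k : ℤ, (a ^ k * b) ^ 2 = a ^ (k * (2 + 2 ^ (r + 2))) := by
    intro k
    calc (a ^ k * b) ^ 2 = a ^ k * (b * a ^ k * b⁻¹) * (b * b) := by rw [sq]; group
      _ = a ^ (k * (2 + 2 ^ (r + 2))) := by
          rw [hconj, hbb, mul_one, ← zpow_add]; ring_nf
  -- all elements of S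
  have hbnot : b ∉ Subgroup.zpowers a := by
    rintro ⟨k, hk⟩
    have h1 : b * a * b⁻¹ = a := by
      rw [← hk]; show a ^ k * a * (a ^ k)⁻¹ = a
      rw [← zpow_add_one, ← zpow_neg, ← zpow_add]; simp
    have h2 := hconj 1
    rw [zpow_one, h1] at h2
    have h3 : a ^ (2 ^ (r + 2) : ℤ) = 1 := by
      have : a ^ (1 : ℤ) * a ^ (2 ^ (r + 2) : ℤ) = a ^ (1 : ℤ) := by
        rw [← zpow_add, zpow_one]; simpa using h2.symm
      simpa using this
    have h4 := Int.le_of_dvd (by positivity) ((hzpow _).1 h3)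
    rw [pow_succ (n := r + 2)] at h4
    have : (0 : ℤ) < 2 ^ (r + 2) := by positivity
    omega
  have hall : ∀ s ∈ (S : Subgroup G), ∃ k : ℤ, s = a ^ k ∨ s = a ^ k * b := by
    intro s hs
    by_cases hsa : s ∈ Subgroup.zpowers a
    · obtain ⟨k, hk⟩ := hsa; exact ⟨k, Or.inl hk.symm⟩
    let C := (Subgroup.zpowers a).subgroupOf (S : Subgroup G)
    have hle : Subgroup.zpowers a ≤ (S : Subgroup G) := Subgroup.zpowers_le.2 ha
    have hcardC : Nat.card ↥C = 2 ^ (r + 3) := by
      rw [Nat.card_congr (Subgroup.subgroupOfEquivOfLe hle).toEquiv, Nat.card_zpowers, hao]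
    have hidx : C.index = 2 := by
      have := C.card_mul_index
      rw [hcardC, hS, pow_succ (n := r + 3)] at this
      exact Nat.eq_of_mul_eq_mul_left (by positivity) this
    have := (Subgroup.mul_mem_iff_of_index_two hidx (a := (⟨s, hs⟩ : ↥(S : Subgroup G))) (b := ⟨b, hb⟩)).2
      ⟨fun h => absurd h hsa, fun h => absurd h hbnot⟩
    obtain ⟨k, hk⟩ := this
    refine ⟨k, Or.inr ?_⟩
    simp only [Subgroup.subtype_apply, Subgroup.coe_mul] at hk
    rw [hk, mul_assoc, hbb, mul_one]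
  -- involutions
  have hinv : ∀ s ∈ (S : Subgroup G), s ^ 2 = 1 → s = 1 ∨ s = z ∨ s = b ∨ s = z * b := by
    intro s hs h2
    have hred : ∀ k : ℤ, (2 ^ (r + 2) : ℤ) ∣ k → a ^ k = 1 ∨ a ^ k = z := by
      rintro k ⟨m, rfl⟩
      rcases Int.even_or_odd m with ⟨t, rfl⟩ | ⟨t, rfl⟩
      · left; rw [hzpow]; exact ⟨t, by ring⟩
      · right
        rw [mul_add, zpow_add, (hzpow (2 ^ (r + 2) * (2 * t))).2 ⟨t, by ring⟩, one_mul, mul_one]
    obtain ⟨k, rfl | rfl⟩ := hall s hs
    · rw [← zpow_natCast (a ^ k), ← zpow_mul, hzpow] at h2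
      have : (2 ^ (r + 2) : ℤ) ∣ k := by
        obtain ⟨m, hm⟩ := h2; exact ⟨m, by push_cast at hm; rw [pow_succ (n := r + 2)] at hm; linarith⟩
      rcases hred k this with h | h <;> simp [h]
    · rw [hsqb, hzpow] at h2
      have : (2 ^ (r + 2) : ℤ) ∣ k := by
        have h3 : (2 ^ (r + 2) : ℤ) ∣ k * (1 + 2 ^ (r + 1)) := by
          obtain ⟨m, hm⟩ := h2
          exact ⟨m, by rw [pow_succ (n := r + 2)] at hm; rw [pow_succ (n := r + 1)] at hm ⊢; linarith⟩
        refine IsCoprime.dvd_of_dvd_mul_right ?_ h3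
        apply IsCoprime.pow_left
        exact ⟨-(2 ^ r), 1, by ring⟩
      rcases hred k this with h | h <;> simp [h]
  -- the abelian subgroup of index two
  let InA : G → Prop := fun s => ∃ m : ℤ, s = a ^ (2 * m) ∨ s = a ^ (2 * m) * b
  have hA_pow : ∀ s ∈ (S : Subgroup G), (InA s ↔ s ^ (2 ^ (r + 2)) = 1) := by
    intro s hs
    constructor
    · rintro ⟨m, rfl | rfl⟩
      · rw [← zpow_natCast (a ^ (2 * m)), ← zpow_mul, hzpow]; exact ⟨m, by push_cast; ring⟩
      · rw [pow_succ' (n := r + 1), pow_mul, hsqb, ← zpow_natCast, ← zpow_mul, hzpow]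
        exact ⟨m * (1 + 2 ^ (r + 1)), by push_cast; ring⟩
    · intro h
      obtain ⟨k, rfl | rfl⟩ := hall s hs
      · rw [← zpow_natCast (a ^ k), ← zpow_mul, hzpow] at h
        obtain ⟨m, hm⟩ := h
        refine ⟨m, Or.inl ?_⟩
        push_cast at hm; rw [pow_succ (n := r + 2)] at hm
        have : k = 2 * m := by
          have h0 : (2 ^ (r + 2) : ℤ) ≠ 0 := by positivity
          exact mul_right_cancel₀ h0 (by linarith)
        rw [this]
      · rw [pow_succ' (n := r + 1), pow_mul, hsqb, ← zpow_natCast, ← zpow_mul, hzpow] at h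
        obtain ⟨m, hm⟩ := h
        push_cast at hm
        refine ⟨m - k * 2 ^ r, Or.inr ?_⟩
        have : k = 2 * (m - k * 2 ^ r) := by
          have h0 : (2 ^ (r + 2) : ℤ) ≠ 0 := by positivity
          refine mul_right_cancel₀ h0 ?_
          linear_combination hm
        rw [← this]
  have hA_comm : ∀ s t, InA s → InA t → Commute s t := by
    rintro s t ⟨m, hs⟩ ⟨l, ht⟩
    have h1 : Commute (a ^ (2 * m)) (a ^ (2 * l)) := Commute.zpow_zpow_self a _ _
    rcases hs with rfl | rfl <;> rcases ht with rfl | rfl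
    · exact h1
    · exact h1.mul_right (hcomm m).symm
    · exact h1.mul_left (hcomm l)
    · exact (h1.mul_right (hcomm m).symm).mul_left ((hcomm l).mul_right (Commute.refl b))
  have hA_S : ∀ s, InA s → s ∈ (S : Subgroup G) := by
    rintro s ⟨m, rfl | rfl⟩
    · exact Subgroup.zpow_mem _ ha _
    · exact mul_mem (Subgroup.zpow_mem _ ha _) hb
  have hA_sq : ∀ s ∈ (S : Subgroup G), InA (s ^ 2) := by
    intro s hs
    obtain ⟨k, rfl | rfl⟩ := hall s hs
    · exact ⟨k, Or.inl (by rw [← zpow_natCast (a ^ k), ← zpow_mul]; push_cast; ring_nf)⟩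
    · exact ⟨k * (1 + 2 ^ (r + 1)), Or.inl (by rw [hsqb]; ring_nf)⟩
  have hA_quot : ∀ s ∈ (S : Subgroup G), ∀ t ∈ (S : Subgroup G), ¬ InA s → ¬ InA t → InA (s * t⁻¹) := by
    have hodd' : ∀ s ∈ (S : Subgroup G), ¬ InA s → ∃ m : ℤ, s = a ^ (2 * m + 1) ∨ s = a ^ (2 * m + 1) * b := by
      intro s hs hna
      obtain ⟨k, hk⟩ := hall s hs
      rcases Int.even_or_odd k with ⟨m, rfl⟩ | ⟨m, rfl⟩
      · exact absurd ⟨m, by rwa [← two_mul] at hk⟩ hna
      · exact ⟨m, hk⟩
    intro s hs t ht hns hnt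
    obtain ⟨m, hm⟩ := hodd' s hs hns
    obtain ⟨l, hl⟩ := hodd' t ht hnt
    rcases hm with rfl | rfl <;> rcases hl with rfl | rfl
    · exact ⟨m - l, Or.inl (by group)⟩
    · refine ⟨m - l - (2 * l + 1) * 2 ^ (r + 1), Or.inr ?_⟩
      calc a ^ (2 * m + 1) * (a ^ (2 * l + 1) * b)⁻¹
          = a ^ (2 * m + 1) * (b * a ^ (-(2 * l + 1)) * b⁻¹) * b := by
            rw [mul_inv_rev, hbi, zpow_neg]; simp [mul_assoc, hbb]
        _ = _ := by rw [hconj, ← zpow_add]; ring_nf
    · refine ⟨m - l - (2 * l + 1) * 2 ^ (r + 1), Or.inr ?_⟩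
      calc a ^ (2 * m + 1) * b * (a ^ (2 * l + 1))⁻¹
          = a ^ (2 * m + 1) * (b * a ^ (-(2 * l + 1)) * b⁻¹) * b := by
            rw [zpow_neg]; group
        _ = _ := by rw [hconj, ← zpow_add]; ring_nf
    · exact ⟨m - l, Or.inl (by group)⟩
  have hbA : InA b := ⟨0, Or.inr (by simp)⟩
  have hzA : InA z := ⟨2 ^ (r + 1), Or.inl (by rw [hzdef]; ring_nf)⟩
  -- elements of S commuting with b lie in A
  have hcent : ∀ s ∈ (S : Subgroup G), Commute s b → InA s := by
    intro s hs hc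
    by_contra hna
    obtain ⟨k, hk⟩ := hall s hs
    rcases Int.even_or_odd k with ⟨m, rfl⟩ | ⟨m, rfl⟩
    · exact hna ⟨m, by rwa [← two_mul] at hk⟩
    have hc' : Commute (a ^ (2 * m + 1)) b := by
      rcases hk with rfl | rfl
      · exact hc
      · have := hc.mul_left (Commute.refl b).inv_left
        simpa [mul_assoc] using this
    have h1 := hconj (2 * m + 1)
    rw [← hc'.eq, mul_assoc, mul_inv_cancel, mul_one, zpow_add (n := (2 * m + 1) * 2 ^ (r + 2))] at h1
    have h2 : a ^ ((2 * m + 1) * 2 ^ (r + 2) : ℤ) = 1 := by simpa using h1.symm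
    rw [hzpow, pow_succ' (n := r + 2)] at h2
    have := Int.dvd_of_mul_dvd_mul_right (by positivity) h2
    omega
  -- g fixes the involutions of Q
  have hfixinv : ∀ t ∈ Q, t ^ 2 = 1 → g * t * g⁻¹ = t := by
    intro t ht ht2
    by_contra hne
    have hcj : ∀ (x : G) (y : G), y ^ 2 = 1 → (x * y * x⁻¹) ^ 2 = 1 := by
      intro x y hy; rw [conj_pow, hy]; group
    have ht1 : t ≠ 1 := by rintro rfl; simp at hne
    set t1 := g * t * g⁻¹ with ht1def
    set t2 := g * t1 * g⁻¹ with ht2def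
    have hQ1 := hg t ht
    have hQ2 := hg t1 hQ1
    have e1 := hinv t (hQ ht) ht2
    have e2 := hinv t1 (hQ hQ1) (hcj g t ht2)
    have e3 := hinv t2 (hQ hQ2) (hcj g t1 (hcj g t ht2))
    have n12 : t1 ≠ t := hne
    have n23 : t2 ≠ t1 := by
      intro h; apply hne
      have := congrArg (fun y => g⁻¹ * y * g) h
      simpa [t2, t1, mul_assoc] using this
    have n13 : t2 ≠ t := fun h => hne (sq_one_of_invol_fixed hodd (by
      calc g ^ 2 * t * (g ^ 2)⁻¹ = t2 := by simp only [t2, t1, pow_two]; group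
        _ = t := h))
    have n1 : t1 ≠ 1 := fun h => ht1 (by simpa [t1, conj_eq_one_iff] using h)
    have n2 : t2 ≠ 1 := fun h => n1 (by simpa [t2, conj_eq_one_iff] using h)
    have hzQ : z ∈ Q ∧ b ∈ Q := by
      rcases e1 with e1 | e1 | e1 | e1 <;> rcases e2 with e2 | e2 | e2 | e2 <;>
        rcases e3 with e3 | e3 | e3 | e3 <;>
        first
          | exact absurd e1 ht1
          | exact absurd e2 n1
          | exact absurd e3 n2
          | exact absurd (e2.trans e1.symm) n12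
          | exact absurd (e3.trans e2.symm) n23
          | exact absurd (e3.trans e1.symm) n13
          | (constructor <;>
              first
                | exact e1 ▸ ht
                | exact e2 ▸ hQ1
                | exact e3 ▸ hQ2)
    obtain ⟨hzQ, hbQ⟩ := hzQ
    -- some power of g sends z to b
    obtain ⟨j, hj⟩ : ∃ j : ℤ, g ^ j * z * (g ^ j)⁻¹ = b := by
      have p1 : g ^ (1 : ℤ) * t * (g ^ (1 : ℤ))⁻¹ = t1 := by simp only [t1, zpow_one]
      have p2 : g ^ (2 : ℤ) * t * (g ^ (2 : ℤ))⁻¹ = t2 := by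
        simp only [t2, t1, zpow_two]; group
      have p0 : g ^ (0 : ℤ) * t * (g ^ (0 : ℤ))⁻¹ = t := by simp
      have mem : ∀ e, (t = e ∨ t1 = e ∨ t2 = e) → ∃ i : ℤ, g ^ i * t * (g ^ i)⁻¹ = e := by
        rintro e (h | h | h)
        · exact ⟨0, p0.trans h⟩
        · exact ⟨1, p1.trans h⟩
        · exact ⟨2, p2.trans h⟩
      have hzne : t = z ∨ t1 = z ∨ t2 = z := by grind
      have hbne : t = b ∨ t1 = b ∨ t2 = b := by grind
      obtain ⟨i, hi⟩ := mem z hzne
      obtain ⟨l, hl⟩ := mem b hbne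
      exact ⟨l - i, by rw [← hi, ← hl]; group⟩
    have hgj : ∀ (i : ℤ), ∀ q ∈ Q, g ^ i * q * (g ^ i)⁻¹ ∈ Q := by
      have hn : g ∈ Subgroup.normalizer (Q : Set G) := by
        rw [Subgroup.mem_normalizer_iff]
        intro q
        refine ⟨hg q, fun h => ?_⟩
        have hp : ∀ m : ℕ, ∀ q ∈ Q, g ^ m * q * (g ^ m)⁻¹ ∈ Q := by
          intro m
          induction m with
          | zero => simp
          | succ m ih =>
            intro q hq
            have := hg _ (ih q hq)
            rwa [show g ^ (m + 1) * q * (g ^ (m + 1))⁻¹ = g * (g ^ m * q * (g ^ m)⁻¹) * g⁻¹ by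
              rw [pow_succ']; group]
        have hfin : g⁻¹ = g ^ (orderOf g - 1) := by
          refine inv_eq_of_mul_eq_one_right ?_
          rw [← pow_succ', Nat.sub_add_cancel (orderOf_pos g), pow_orderOf_eq_one]
        have h5 := hp (orderOf g - 1) _ h
        rw [← hfin] at h5
        simpa [mul_assoc] using h5
      intro i q hq
      exact (Subgroup.mem_normalizer_iff.1 (Subgroup.zpow_mem _ hn i) q).1 hq
    set h := g ^ j with hh
    set u : G := a ^ (2 ^ (r + 1) : ℤ) with hu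
    have huA : InA u := ⟨2 ^ r, Or.inl (by rw [hu]; ring_nf)⟩
    have hu2 : u ^ 2 = z := by
      rw [hu, hzdef, ← zpow_natCast, ← zpow_mul]; push_cast; ring_nf
    set E : Subgroup G := Subgroup.centralizer ({z, b} : Set G) with hE
    have hzb : Commute z b := hA_comm _ _ hzA hbA
    have hz2 : z ^ 2 = 1 := by
      rw [hzdef, ← zpow_natCast, ← zpow_mul, hzpow]; exact ⟨1, by push_cast; ring⟩
    have hb2 : b ^ 2 = 1 := by rw [← hbo]; exact pow_orderOf_eq_one b
    have hcom : ∀ e ∈ Q, e ^ 2 = 1 → Commute (h * u * h⁻¹) e := by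
      intro e he he2
      have hq := hgj (-j) e he
      have hA' : InA (g ^ (-j) * e * (g ^ (-j))⁻¹) := by
        rcases hinv _ (hQ hq) (hcj _ e he2) with e0 | e0 | e0 | e0 <;> rw [e0]
        · exact ⟨0, Or.inl (by simp)⟩
        · exact hzA
        · exact hbA
        · exact ⟨2 ^ (r + 1), Or.inr (by rw [hzdef]; ring_nf)⟩
      have hcc := (hA_comm _ _ huA hA').map (MulAut.conj (g ^ j)).toMonoidHom
      rw [MulEquiv.coe_toMonoidHom, MulAut.conj_apply, MulAut.conj_apply] at hcc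
      have e1 : g ^ j * (g ^ (-j) * e * (g ^ (-j))⁻¹) * (g ^ j)⁻¹ = e := by group
      rw [e1] at hcc
      exact hcc
    have hcE : h * u * h⁻¹ ∈ E := by
      rw [hE, Subgroup.mem_centralizer_iff]
      intro e he
      simp only [Set.mem_insert_iff, Set.mem_singleton_iff] at he
      rcases he with he | he <;> subst e
      · exact (hcom z hzQ hz2).eq.symm
      · exact (hcom b hbQ hb2).eq.symm
    -- Sylow subgroup of E
    let A : Subgroup G := (S : Subgroup G) ⊓ E
    have hAE : ∀ s, s ∈ A ↔ InA s := by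
      intro s
      constructor
      · rintro ⟨hs, hse⟩
        exact hcent s hs (hse b (by simp)).symm
      · intro hs
        refine ⟨hA_S s hs, ?_⟩
        rw [hE]
        show s ∈ Subgroup.centralizer ({z, b} : Set G)
        rw [Subgroup.mem_centralizer_iff]
        rintro e (rfl | rfl)
        · exact (hA_comm _ _ hzA hs).eq
        · exact (hA_comm _ _ hbA hs).eq
    obtain ⟨P, hP⟩ := ((S.isPGroup'.to_le (inf_le_left : A ≤ _)).of_equiv
      (Subgroup.subgroupOfEquivOfLe (inf_le_right : A ≤ E)).symm).exists_le_sylow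
    set P' : Subgroup G := (P : Subgroup ↥E).map E.subtype with hP'
    have hPz : z ∈ P' := ⟨⟨z, ((hAE z).2 hzA).2⟩, hP ((hAE z).2 hzA), rfl⟩
    have hPb : b ∈ P' := ⟨⟨b, ((hAE b).2 hbA).2⟩, hP ((hAE b).2 hbA), rfl⟩
    have hPcard : Nat.card ↥P' ≤ Nat.card ↥A := by
      obtain ⟨w, hw⟩ := CfsgLib.Transfer.exists_conj_mem_sylow S (S := P') (P.isPGroup'.map _)
      have hmap : ∀ x ∈ P', w * x * w⁻¹ ∈ A := by
        intro x hx
        rw [hAE]
        obtain ⟨⟨x', hx'E⟩, _, rfl⟩ := hx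
        have hcx : ∀ e : G, (e = z ∨ e = b) → Commute (w * x' * w⁻¹) (w * e * w⁻¹) := by
          intro e he
          have : Commute x' e := (Subgroup.mem_centralizer_iff.1 hx'E e (by
            rcases he with rfl | rfl <;> simp)).symm
          exact this.map (MulAut.conj w).toMonoidHom
        have hsq : ∀ e : G, (e = z ∨ e = b) → (w * e * w⁻¹) ^ 2 = 1 := by
          intro e he
          rcases he with he | he <;> subst e
          · rw [conj_pow, hzdef, ← zpow_natCast, ← zpow_mul,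
              (hzpow _).2 ⟨1, by push_cast; ring⟩]; group
          · rw [conj_pow, show b ^ 2 = 1 by rw [← hbo]; exact pow_orderOf_eq_one b]; group
        have hwz := hinv _ (hw z hPz) (hsq z (Or.inl rfl))
        have hwb := hinv _ (hw b hPb) (hsq b (Or.inr rfl))
        have hxS : w * x' * w⁻¹ ∈ (S : Subgroup G) := hw _ ⟨⟨x', hx'E⟩, by assumption, rfl⟩
        have hxb : Commute (w * x' * w⁻¹) b := by
          have hxz := hcx z (Or.inl rfl)
          have hxb' := hcx b (Or.inr rfl)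
          have hne1 : w * z * w⁻¹ ≠ 1 := by
            rw [ne_eq, conj_eq_one_iff, hzdef, hzpow]
            intro h4
            have h4 := Int.le_of_dvd (by positivity) h4
            rw [pow_succ (n := r + 2)] at h4
            have : (0 : ℤ) < 2 ^ (r + 2) := by positivity
            omega
          have hne2 : w * b * w⁻¹ ≠ 1 := by
            rw [ne_eq, conj_eq_one_iff]; intro h; rw [h] at hbnot; exact hbnot (one_mem _)
          have hne3 : w * z * w⁻¹ ≠ w * b * w⁻¹ := by
            intro h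
            apply hbnot
            rw [← (mul_left_cancel (mul_right_cancel h))]
            exact Subgroup.zpow_mem _ (Subgroup.mem_zpowers a) _
          rcases hwz with e | e | e | e <;> rcases hwb with e' | e' | e' | e' <;>
            first
              | exact absurd e hne1
              | exact absurd e' hne2
              | exact absurd (e.trans e'.symm) hne3
              | (rw [e] at hxz; rw [e'] at hxb';
                 first
                  | exact hxz
                  | exact hxb'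
                  | simpa [← mul_assoc, show z⁻¹ * z = 1 from inv_mul_cancel z] using
                      hxz.inv_right.mul_right hxb')
        exact hcent _ hxS hxb
      exact Nat.card_le_card_of_injective (fun x : ↥P' => (⟨_, hmap x x.2⟩ : ↥A))
        (fun x y h => Subtype.ext (mul_left_cancel (mul_right_cancel (congrArg Subtype.val h))))
    have hPA : P' = A := by
      refine (Subgroup.eq_of_le_of_card_ge ?_ hPcard).symm
      intro x hx
      exact ⟨⟨x, hx.2⟩, hP hx, rfl⟩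
    have hcp : IsPGroup 2 ↥(Subgroup.zpowers (⟨h * u * h⁻¹, hcE⟩ : ↥E)) := by
      have : (⟨h * u * h⁻¹, hcE⟩ : ↥E) ^ (2 ^ (r + 2)) = 1 := by
        apply Subtype.ext
        rw [Subgroup.coe_pow, conj_pow, (hA_pow u (hA_S u huA)).1 huA]
        simp
      obtain ⟨k, _, hk⟩ := (Nat.dvd_prime_pow Nat.prime_two).1 (orderOf_dvd_of_pow_eq_one this)
      exact IsPGroup.of_card (n := k) (by rw [Nat.card_zpowers, hk])
    obtain ⟨v, hv⟩ := CfsgLib.Transfer.exists_conj_mem_sylow P hcp
    have hvm := hv _ (Subgroup.mem_zpowers _)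
    have hvA : InA ((v : G) * (h * u * h⁻¹) * (v : G)⁻¹) := by
      rw [← hAE, ← hPA]
      exact ⟨_, hvm, rfl⟩
    obtain ⟨m, hm⟩ := hvA
    have hvb : (v : G) * b * (v : G)⁻¹ = b := by
      rw [← Subgroup.mem_centralizer_iff.1 v.2 b (by simp)]; group
    have hsq : ((v : G) * (h * u * h⁻¹) * (v : G)⁻¹) ^ 2 = b := by
      rw [conj_pow, conj_pow, hu2, hj, hvb]
    apply hbnot
    rw [← hsq]
    rcases hm with e | e <;> rw [e]
    · exact Subgroup.pow_mem _ (Subgroup.zpow_mem _ (Subgroup.mem_zpowers a) _) _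
    · rw [hsqb]; exact Subgroup.zpow_mem _ (Subgroup.mem_zpowers a) _
  -- g fixes Q ∩ A
  have hfixA : ∀ k : ℕ, ∀ q ∈ Q, InA q → q ^ (2 ^ k) = 1 → g * q * g⁻¹ = q := by
    intro k
    induction k with
    | zero => intro q _ _ h; rw [pow_zero, pow_one] at h; subst h; simp
    | succ k ih =>
      intro q hq hqA hk
      have hq' : InA (g * q * g⁻¹) := by
        rw [hA_pow _ (hQ (hg q hq)), conj_pow, (hA_pow q (hQ hq)).1 hqA]; group
      have h2 := ih (q ^ 2) (pow_mem hq 2) (hA_sq q (hQ hq)) (by rw [← pow_mul, ← pow_succ']; exact hk)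
      have hy : (g * q * g⁻¹ * q⁻¹) ^ 2 = 1 := by
        rw [((hA_comm _ _ hq' hqA).inv_right).mul_pow, conj_pow, h2, inv_pow, mul_inv_cancel]
      have hyQ : g * q * g⁻¹ * q⁻¹ ∈ Q := mul_mem (hg q hq) (inv_mem hq)
      have h1 := fix_of_shift (g := g) (x := q) (y := g * q * g⁻¹ * q⁻¹) (by group)
        (hfixinv _ hyQ hy) hodd ⟨1, by simpa using hy⟩
      exact mul_inv_eq_one.1 h1
  intro q hq
  have hexp : ∀ s ∈ (S : Subgroup G), ∃ k : ℕ, s ^ (2 ^ k) = 1 := by
    intro s hs
    obtain ⟨k, hk⟩ := S.isPGroup' ⟨s, hs⟩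
    exact ⟨k, congrArg Subtype.val hk⟩
  by_cases hqA : InA q
  · obtain ⟨k, hk⟩ := hexp q (hQ hq); exact hfixA k q hq hqA hk
  have hq' : ¬ InA (g * q * g⁻¹) := by
    intro h
    apply hqA
    rw [hA_pow _ (hQ hq)]
    have := (hA_pow _ (hQ (hg q hq))).1 h
    rw [conj_pow] at this
    exact conj_eq_one_iff.1 this
  have hyA : InA (g * q * g⁻¹ * q⁻¹) := hA_quot _ (hQ (hg q hq)) _ (hQ hq) hq' hqA
  have hyQ : g * q * g⁻¹ * q⁻¹ ∈ Q := mul_mem (hg q hq) (inv_mem hq)
  obtain ⟨k, hk⟩ := hexp _ (hQ hyQ)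
  exact mul_inv_eq_one.1 (fix_of_shift (g := g) (x := q) (y := g * q * g⁻¹ * q⁻¹) (by group)
    (hfixA k _ hyQ hyA hk) hodd ⟨k, hk⟩)


/-- Groups with a modular Sylow 2-subgroup have a normal 2-complement. Let S, of order 2^(n+1) with n ≥ 3, be a Sylow 2-subgroup of a finite group G, and suppose S contains an element a of order 2^n and an involution b with b a b⁻¹ = a^(2^(n-1) + 1); so S is the non-abelian 2-group with a cyclic subgroup of index 2 that is neither dihedral, semidihedral nor generalized quaternion. Then G has a normal 2-complement. -/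
theorem result {G : Type*} [Group G] [Finite G]
    (S : Sylow 2 G) (n : ℕ) (hn : 3 ≤ n) (hS : Nat.card ↥(S : Subgroup G) = 2 ^ (n + 1))
    (a b : G) (ha : a ∈ (S : Subgroup G)) (hb : b ∈ (S : Subgroup G))
    (hao : orderOf a = 2 ^ n) (hbo : orderOf b = 2) (hrel : b * a * b⁻¹ = a ^ (2 ^ (n - 1) + 1)) :
    Cfsg.HasNormalPComplement 2 G := by
  haveI : Fact (Nat.Prime 2) := ⟨Nat.prime_two⟩
  refine CfsgLib.Transfer.hasNormalPComplement_of_frobeniusCond ?_
  intro Q hQ g hg hgc
  obtain ⟨w, hw⟩ := CfsgLib.Transfer.exists_conj_mem_sylow S hQ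
  set Q' := Q.map (MulAut.conj w).toMonoidHom with hQ'
  have hQS : Q' ≤ (S : Subgroup G) := by
    rintro _ ⟨q, hq, rfl⟩; exact hw q hq
  have key := frob_in S n hn hS a b ha hb hao hbo hrel Q' hQS (w * g * w⁻¹) ?_ ?_
  · rw [Subgroup.mem_centralizer_iff]
    intro q hq
    have := key _ ⟨q, hq, rfl⟩
    have h2 : g * q * g⁻¹ = q := by
      have h3 := congrArg (fun y => w⁻¹ * y * w) this
      simpa [mul_assoc] using h3
    calc q * g = (g * q * g⁻¹) * g := by rw [h2]
      _ = g * q := by group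
  · rintro _ ⟨q, hq, rfl⟩
    refine ⟨g * q * g⁻¹, (Subgroup.mem_normalizer_iff.1 hg q).1 hq, ?_⟩
    simp [mul_assoc]
  · rw [show w * g * w⁻¹ = MulAut.conj w g from rfl, MulEquiv.orderOf_eq]
    exact Nat.coprime_two_right.1 hgc

end Cfsg.Agent.S3178
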