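import Cfsg.Statements.S3179
import Cfsg.Agent.Lib.Classical.GLOrder
import Cfsg.Agent.Lib.Classical.HermOrder
import Cfsg.Agent.Lib.SuzukiLaws.Structure
-- import your own Cfsg.Agent.* helpers here

set_option autoImplicit false
open Cfsg

namespace Cfsg.Agent.S3179


open Matrix

theorem card_gl : Nat.card (GL (Fin 5) (ZMod 2)) = 9999360 := by
  rw [Matrix.card_GL_field, ZMod.card]
  simp [Fin.prod_univ_five]

theorem dvd_9999360 {H : Subgroup (GL (Fin 5) (ZMod 2))} {K : Subgroup ↥H} [K.Normal] {X : Type*} [Group X]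
    (e : ↥H ⧸ K ≃* X) : Nat.card X ∣ 9999360 := by
  rw [← Nat.card_congr e.toEquiv, ← Subgroup.index_eq_card, ← card_gl]
  exact (Subgroup.index_dvd_card K).trans H.card_subgroup_dvd_card

theorem odd_part {d k : ℕ} (hd : Odd d) (h : d ∣ k * 9999360) : d ∣ k * 9765 := by
  refine (Nat.Coprime.dvd_of_dvd_mul_left ((Nat.coprime_two_right.mpr hd).pow_right 10) ?_)
  rwa [show (2:ℕ) ^ 10 * (k * 9765) = k * 9999360 by ring]

theorem n_psl {n : ℕ} (hn : 2 ≤ n) (h : (2 ^ n) ^ 2 - 1 ∣ 9999360) : n = 2 ∨ n = 3 := by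
  have hodd : Odd ((2 ^ n) ^ 2 - 1) := by
    obtain ⟨k, rfl⟩ : ∃ k, n = k + 1 := ⟨n - 1, by omega⟩
    refine ⟨(2 ^ k) ^ 2 * 2 - 1, ?_⟩
    have : (2 ^ (k + 1)) ^ 2 = 2 * ((2 ^ k) ^ 2 * 2) := by ring
    have := Nat.one_le_pow 2 (2 ^ k) (Nat.two_pow_pos k)
    omega
  have h' := odd_part (k := 1) hodd (by rwa [one_mul])
  have hle := Nat.le_of_dvd (by norm_num) h'
  have : n ≤ 6 := by
    by_contra hn7
    have : 2 ^ 7 ≤ 2 ^ n := Nat.pow_le_pow_right (by norm_num) (by omega)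
    have : (2 ^ 7) ^ 2 ≤ (2 ^ n) ^ 2 := Nat.pow_le_pow_left this 2
    norm_num at this
    omega
  interval_cases n <;> norm_num at h' <;> simp_all

theorem no_sz {m : ℕ} (hm : 1 ≤ m) (h : (2 ^ (2 * m + 1)) ^ 2 + 1 ∣ 9999360) : False := by
  have hodd : Odd ((2 ^ (2 * m + 1)) ^ 2 + 1) := ⟨(2 ^ (2 * m)) ^ 2 * 2, by ring⟩
  have h' := odd_part (k := 1) hodd (by rwa [one_mul])
  have hle := Nat.le_of_dvd (by norm_num) h'
  have : m ≤ 3 := by
    by_contra hm4
    have : 2 ^ 9 ≤ 2 ^ (2 * m + 1) := Nat.pow_le_pow_right (by norm_num) (by omega)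
    have : (2 ^ 9) ^ 2 ≤ (2 ^ (2 * m + 1)) ^ 2 := Nat.pow_le_pow_left this 2
    norm_num at this
    omega
  interval_cases m <;> norm_num at h'

theorem no_psu {n : ℕ} (hn : 2 ≤ n) (h : (2 ^ n) ^ 3 + 1 ∣ 3 * 9999360) : False := by
  have hodd : Odd ((2 ^ n) ^ 3 + 1) := by
    obtain ⟨k, rfl⟩ : ∃ k, n = k + 1 := ⟨n - 1, by omega⟩
    exact ⟨(2 ^ k) ^ 3 * 4, by ring⟩
  have h' := odd_part (k := 3) hodd h
  have hle := Nat.le_of_dvd (by norm_num) h'
  have : n ≤ 5 := by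
    by_contra hn6
    have : 2 ^ 6 ≤ 2 ^ n := Nat.pow_le_pow_right (by norm_num) (by omega)
    have : (2 ^ 6) ^ 3 ≤ (2 ^ n) ^ 3 := Nat.pow_le_pow_left this 3
    norm_num at this
    omega
  interval_cases n <;> norm_num at h'

theorem sz_dvd {F : Type} [Field F] [Fintype F] {m : ℕ} (hF : Fintype.card F = 2 ^ (2 * m + 1)) :
    (2 ^ (2 * m + 1)) ^ 2 + 1 ∣ Nat.card ↥(Cfsg.Lie.Sz F (2 ^ (m + 1))) := by
  haveI : Fact (Nat.Prime 2) := ⟨Nat.prime_two⟩
  haveI : CharP F 2 := charP_of_card_eq_prime_pow (f := 2 * m + 1) hF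
  have he : (2 : ℕ) ^ (m + 1) ≠ 0 := by positivity
  let U := CfsgLib.SuzukiLaws.U (F := F) (m := m) hF
  let W := CfsgLib.SuzukiLaws.W (F := F) (m := m) hF
  let B : Subgroup ↥(Cfsg.Lie.Sz F (2 ^ (m + 1))) :=
    { carrier := {g | g.1.1 1 0 = 0 ∧ g.1.1 2 0 = 0 ∧ g.1.1 3 0 = 0}
      one_mem' := by simp
      mul_mem' := fun {g h} hg hh => by
        refine ⟨?_, ?_, ?_⟩ <;>
          simp [Matrix.mul_apply, Fin.sum_univ_four, hg.1, hg.2.1, hg.2.2, hh.1, hh.2.1, hh.2.2]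
      inv_mem' := fun {g} hg => by
        have hdet : ∀ i : Fin 4, (g.1⁻¹).1 i 0 * g.1.1 0 0 = (1 : Matrix (Fin 4) (Fin 4) F) i 0 := by
          intro i
          have h1 : (g.1⁻¹).1 * g.1.1 = 1 := g.1.inv_mul
          have := congrFun (congrFun h1 i) 0
          simpa [Matrix.mul_apply, Fin.sum_univ_four, hg.1, hg.2.1, hg.2.2] using this
        have h00 : g.1.1 0 0 ≠ 0 := fun h => by
          have := hdet 0
          simp [h] at this
        refine ⟨?_, ?_, ?_⟩
        · exact (mul_eq_zero.1 ((hdet 1).trans (by simp))).resolve_right h00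
        · exact (mul_eq_zero.1 ((hdet 2).trans (by simp))).resolve_right h00
        · exact (mul_eq_zero.1 ((hdet 3).trans (by simp))).resolve_right h00 }
  have hWB : ∀ a b : F, W * U a b * W ∈ B → a = 0 ∧ b = 0 := by
    intro a b h
    have hcol : ∀ i, (W * U a b * W).1.1 i 0 = CfsgLib.SuzukiLaws.uMat m a b (Fin.rev i) 3 := by
      intro i
      simp only [W, U, CfsgLib.SuzukiLaws.W, CfsgLib.SuzukiLaws.U, Subgroup.coe_mul, Units.val_mul,
        CfsgLib.SuzukiLaws.uUnit_val]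
      generalize CfsgLib.SuzukiLaws.uMat m a b = A
      fin_cases i <;> simp [CfsgLib.Spectrum.antiJUnit, CfsgLib.Spectrum.antiJ, Matrix.mul_apply, Matrix.vecMul, dotProduct, Fin.sum_univ_four]
    obtain ⟨h1, h2, h3⟩ := h
    rw [hcol] at h1 h2 h3
    simp [CfsgLib.SuzukiLaws.uMat] at h1 h2 h3
    constructor <;> simp_all
  have hmul : ∀ a b a' b', (U a b)⁻¹ * U a' b' = U (a + a') (b + b' + (a * a ^ 2 ^ (m + 1) + a * a' ^ 2 ^ (m + 1))) := by
    intro a b a' b'
    rw [inv_mul_eq_iff_eq_mul]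
    simp only [U]
    rw [CfsgLib.SuzukiLaws.U_mul]
    congr 1
    · linear_combination (-a) * (CharTwo.two_eq_zero : (2 : F) = 0)
    · rw [CfsgLib.SuzukiLaws.pow_q₀_add]
      linear_combination (-b - a * a ^ 2 ^ (m + 1) - a * a' ^ 2 ^ (m + 1)) * (CharTwo.two_eq_zero : (2 : F) = 0)
  let f : Option (F × F) → ↥(Cfsg.Lie.Sz F (2 ^ (m + 1))) ⧸ B := fun o =>
    o.elim (QuotientGroup.mk 1) fun p => QuotientGroup.mk (U p.1 p.2 * W)
  have hWi : W⁻¹ = W := inv_eq_of_mul_eq_one_right (CfsgLib.SuzukiLaws.W_mul_W hF)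
  have hW30 : W ∉ B := fun h => by
    have := h.2.2
    simp [W, CfsgLib.SuzukiLaws.W, CfsgLib.Spectrum.antiJUnit, CfsgLib.Spectrum.antiJ] at this
  have hUB : ∀ a b, U a b ∈ B := fun a b => by
    refine ⟨?_, ?_, ?_⟩ <;>
      simp [U, CfsgLib.SuzukiLaws.U, CfsgLib.SuzukiLaws.uUnit_val, CfsgLib.SuzukiLaws.uMat]
  have hf : Function.Bijective f := by
    constructor
    · rintro (_ | ⟨a, b⟩) (_ | ⟨a', b'⟩) h
      · rfl
      · exfalso; apply hW30
        have h1 := QuotientGroup.eq.1 h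
        have h2 := B.mul_mem (B.inv_mem (hUB a' b')) (show U a' b' * W ∈ B by simpa using h1)
        rwa [inv_mul_cancel_left] at h2
      · exfalso; apply hW30
        have h1 := B.inv_mem (QuotientGroup.eq.1 h)
        have h2 := B.mul_mem (B.inv_mem (hUB a b)) (show U a b * W ∈ B by simpa [hWi] using h1)
        rwa [inv_mul_cancel_left] at h2
      · have h1 := QuotientGroup.eq.1 h
        rw [_root_.mul_inv_rev, hWi, mul_assoc, ← mul_assoc (U a b)⁻¹, hmul, ← mul_assoc] at h1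
        obtain ⟨ha, hb⟩ := hWB _ _ h1
        have ha' : a = a' := CharTwo.add_eq_zero.1 ha
        subst ha'
        rw [CharTwo.add_self_eq_zero, add_zero] at hb
        rw [CharTwo.add_eq_zero.1 hb]
    · intro v
      obtain ⟨g, rfl⟩ := QuotientGroup.mk_surjective v
      by_cases h3 : g.1.1 3 0 = 0
      · refine ⟨none, QuotientGroup.eq.2 ?_⟩
        obtain ⟨h2', h1'⟩ := (CfsgLib.SuzukiLaws.col_zero hF g.2).1 h3
        simpa using (show g ∈ B from ⟨h1', h2', h3⟩)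
      · obtain ⟨s, a, b, he', -⟩ := CfsgLib.SuzukiLaws.exists_move hF g h3
        set x := g.1.1 2 0 / g.1.1 3 0
        set y := g.1.1 1 0 / g.1.1 3 0
        refine ⟨some (x, y + x * x ^ 2 ^ (m + 1)), QuotientGroup.eq.2 ?_⟩
        have hinv : (U x (y + x * x ^ 2 ^ (m + 1)))⁻¹ = U x y := by
          refine inv_eq_of_mul_eq_one_right ?_
          simp only [U]
          rw [CfsgLib.SuzukiLaws.U_mul, ← CfsgLib.SuzukiLaws.U_zero hF]
          congr 1
          · exact CharTwo.add_self_eq_zero x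
          · linear_combination (y + x * x ^ 2 ^ (m + 1)) * (CharTwo.two_eq_zero : (2 : F) = 0)
        rw [_root_.mul_inv_rev, hWi]
        show W * (U x (y + x * x ^ 2 ^ (m + 1)))⁻¹ * g ∈ B
        rw [hinv, show W * U x y * g = _ from he']
        refine B.mul_mem ⟨?_, ?_, ?_⟩ (hUB a b) <;>
          simp [CfsgLib.SuzukiLaws.T, CfsgLib.SuzukiLaws.torus]
  have hc := Nat.card_congr (Equiv.ofBijective f hf)
  rw [← Subgroup.index_eq_card] at hc
  refine Dvd.dvd.trans ?_ B.index_dvd_card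
  rw [← hc, Nat.card_eq_fintype_card, Fintype.card_option, Fintype.card_prod, hF, sq]

theorem gl_pow_three {g : GL (Fin 5) (ZMod 2)} (h : g ^ 9 = 1) : g ^ 3 = 1 := by
  classical
  haveI : Fact (Nat.Prime 3) := ⟨Nat.prime_three⟩
  let V := Fin 5 → ZMod 2
  let φ : GL (Fin 5) (ZMod 2) →* Equiv.Perm V :=
    { toFun := fun g => ⟨fun v => g.1 *ᵥ v, fun v => (g⁻¹).1 *ᵥ v,
        fun v => by simp [Matrix.mulVec_mulVec], fun v => by simp [Matrix.mulVec_mulVec]⟩
      map_one' := Equiv.ext fun v => Matrix.one_mulVec v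
      map_mul' := fun a b => Equiv.ext fun v => (Matrix.mulVec_mulVec v a.1 b.1).symm }
  have hinj : Function.Injective φ := fun a b hab => Units.ext (Matrix.ext_of_mulVec_single fun i =>
    congrArg (fun σ : Equiv.Perm V => σ (Pi.single i 1)) hab)
  obtain ⟨c, hc3⟩ : ∃ c, c = g ^ 3 := ⟨_, rfl⟩
  rw [← hc3]
  let D : Submodule (ZMod 2) V := LinearMap.ker (Matrix.toLin' (c.1) - LinearMap.id)
  have hD : ∀ v, v ∈ D ↔ φ c v = v := fun v => by
    simp only [D, LinearMap.mem_ker, LinearMap.sub_apply, sub_eq_zero, LinearMap.id_apply]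
    rfl
  set σ := φ g with hσ
  have hσ9 : σ ^ 9 = 1 := by rw [hσ, ← map_pow, h, map_one]
  haveI : Fintype V := Fintype.ofFinite _
  have hdvd : 9 ∣ Nat.card {v : V // φ c v ≠ v} := by
    have hfix : ∀ v : V, φ c v ≠ v ↔ φ c (σ v) ≠ σ v := fun v => by
      have hc : φ c * σ = σ * φ c := by
        rw [hσ, ← map_mul, ← map_mul, hc3, ← pow_succ, ← pow_succ']
      have := congrArg (fun e : Equiv.Perm V => e v) hc
      simp only [Equiv.Perm.mul_apply] at this
      rw [this]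
      exact σ.injective.ne_iff.symm
    let τ : Equiv.Perm {v : V // φ c v ≠ v} := σ.subtypePerm fun v => (hfix v).symm
    have hτk : ∀ (k : ℕ) z, ((τ ^ k) z).1 = (σ ^ k) z.1 := by
      intro k z
      induction k with
      | zero => rfl
      | succ k ih => rw [pow_succ', pow_succ', Equiv.Perm.mul_apply, Equiv.Perm.mul_apply, ← ih]; rfl
    have hτ9 : τ ^ 9 = 1 := Equiv.ext fun z => Subtype.ext (by rw [hτk, hσ9]; rfl)
    rw [Nat.card_congr (MulAction.selfEquivSigmaOrbits (Subgroup.zpowers τ) _)]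
    haveI : Fintype (Quotient (MulAction.orbitRel (Subgroup.zpowers τ) {v : V // φ c v ≠ v})) := Fintype.ofFinite _
    rw [Nat.card_sigma]
    refine Finset.dvd_sum fun q _ => ?_
    generalize q.out = z
    rw [Nat.card_coe_set_eq, ← MulAction.index_stabilizer]
    have hτ3 : ¬ (τ ^ 3) z = z := fun h3 => z.2 (by
      have := congrArg Subtype.val h3
      rwa [hτk, hσ, ← map_pow, ← hc3] at this)
    have hord : orderOf τ = 3 ^ 2 :=
      orderOf_eq_prime_pow (fun h1 => hτ3 (by rw [show τ ^ 3 = τ ^ 3 ^ 1 by norm_num, h1]; rfl)) hτ9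
    have hst : MulAction.stabilizer (Subgroup.zpowers τ) z = ⊥ := by
      haveI : Fact (Nat.Prime 3) := ⟨Nat.prime_three⟩
      by_contra hne
      have hp : IsPGroup 3 (Subgroup.zpowers τ) := IsPGroup.of_card (n := 2) (by rw [Nat.card_zpowers, hord])
      obtain ⟨k, hk, hcard⟩ := ((hp.to_subgroup (MulAction.stabilizer (Subgroup.zpowers τ) z)).nontrivial_iff_card).1
        ((Subgroup.nontrivial_iff_ne_bot _).2 hne)
      obtain ⟨⟨⟨w, hw⟩, hwz⟩, hw3⟩ := exists_prime_orderOf_dvd_card' (G := MulAction.stabilizer (Subgroup.zpowers τ) z) 3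
        (hcard ▸ dvd_pow_self 3 hk.ne')
      have hwo : orderOf w = 3 := by
        rw [← hw3, Subgroup.orderOf_mk, Subgroup.orderOf_mk]
      obtain ⟨i, rfl⟩ := hw
      have h3i : (3 : ℤ) ∣ i := by
        have h0 : ((τ ^ i) ^ 3 : Equiv.Perm _) = 1 := by rw [← hwo]; exact pow_orderOf_eq_one _
        rw [← zpow_natCast, ← _root_.zpow_mul, ← orderOf_dvd_iff_zpow_eq_one, hord] at h0
        omega
      obtain ⟨l, rfl⟩ := h3i
      have hl : ¬ (3 : ℤ) ∣ l := fun ⟨r, hr⟩ => by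
        have : τ ^ (3 * l) = 1 := by
          rw [← orderOf_dvd_iff_zpow_eq_one, hord, hr]; exact ⟨r, by ring⟩
        simp [this] at hwo
      apply hτ3
      have hfixl : (τ ^ (3 * l)) z = z := hwz
      obtain ⟨a, b, hab⟩ : ∃ a b : ℤ, a * l + b * 3 = 1 := by
        rcases (show l % 3 = 1 ∨ l % 3 = 2 by omega) with h' | h'
        · exact ⟨1, -(l / 3), by omega⟩
        · exact ⟨-1, l / 3 + 1, by omega⟩
      have : τ ^ (3 : ℕ) = (τ ^ (3 * l)) ^ a := by
        rw [← _root_.zpow_mul, ← zpow_natCast, zpow_eq_zpow_iff_modEq, hord]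
        refine Int.modEq_iff_dvd.2 ⟨-b, ?_⟩
        push_cast
        linear_combination 3 * hab
      rw [this]
      exact Equiv.Perm.zpow_apply_eq_self_of_apply_eq_self hfixl a
    rw [hst, Subgroup.index_bot, Nat.card_zpowers, hord]
    norm_num
  have hsum : Nat.card {v : V // φ c v ≠ v} + Nat.card D = 32 := by
    haveI : Fintype D := Fintype.ofFinite _
    rw [Nat.card_eq_fintype_card, Nat.card_eq_fintype_card, Fintype.card_subtype_compl,
      Fintype.card_congr (Equiv.subtypeEquivRight fun v => (hD v).symm : {v : V // φ c v = v} ≃ D)]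
    have h1 : Fintype.card V = 32 := by
      rw [← Nat.card_eq_fintype_card, Nat.card_fun, Nat.card_zmod, Nat.card_fin]; norm_num
    have h2 := Fintype.card_le_of_injective (Subtype.val : D → V) Subtype.val_injective
    omega
  rw [Module.natCard_eq_pow_finrank (K := ZMod 2) (V := D), Nat.card_zmod] at hsum
  have hk : Module.finrank (ZMod 2) D ≤ 5 := (Submodule.finrank_le D).trans (by simp [V])
  have h5 : Module.finrank (ZMod 2) D = 5 := by
    obtain ⟨c, hc⟩ := hdvd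
    rw [hc] at hsum
    interval_cases hkk : Module.finrank (ZMod 2) D <;> norm_num at hsum <;> omega
  have hT : D = ⊤ := Submodule.eq_top_of_finrank_eq (by rw [h5]; simp [V])
  apply hinj
  rw [map_one]
  exact Equiv.ext fun v => (hD v).1 (hT ▸ Submodule.mem_top)

theorem psl_eight {F : Type} [Field F] [Fintype F] (hF : Fintype.card F = 2 ^ 3) :
    ∃ y : Matrix.ProjectiveSpecialLinearGroup (Fin 2) F, orderOf y = 9 := by
  classical
  haveI : Fact (Nat.Prime 2) := ⟨Nat.prime_two⟩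
  haveI : CharP F 2 := charP_of_card_eq_prime_pow (f := 3) hF
  have h2 : (2 : F) = 0 := CharTwo.two_eq_zero
  obtain ⟨τ, hτ⟩ : ∃ τ : F, τ ^ 3 + τ + 1 = 0 := by
    obtain ⟨x, hx⟩ : ∃ x : F, x ∉ ({0, 1} : Finset F) := by
      by_contra hno
      push Not at hno
      have := Finset.card_le_card (show (Finset.univ : Finset F) ⊆ {0, 1} from fun a _ => hno a)
      rw [Finset.card_univ, hF] at this
      have := Finset.card_le_two (a := (0 : F)) (b := 1)
      omega
    simp at hx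
    have h7 : x ^ 7 = 1 := by
      have := FiniteField.pow_card_sub_one_eq_one x hx.1
      rwa [hF] at this
    have hprod : (x - 1) * ((x ^ 3 + x + 1) * (x ^ 3 + x ^ 2 + 1)) = 0 := by
      linear_combination h7 + (x ^ 4 - x ^ 3) * h2
    rcases mul_eq_zero.1 ((mul_eq_zero.1 hprod).resolve_left (sub_ne_zero.2 hx.2)) with h | h
    · exact ⟨x, h⟩
    · refine ⟨x⁻¹, ?_⟩
      have hxy : x * x⁻¹ = 1 := mul_inv_cancel₀ hx.1
      linear_combination x⁻¹ ^ 3 * h - ((x ^ 2 * x⁻¹ ^ 2 + x * x⁻¹ + 1) + x⁻¹ * (x * x⁻¹ + 1)) * hxy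
  let M : Matrix.SpecialLinearGroup (Fin 2) F := ⟨!![0, 1; 1, τ], by
    rw [Matrix.det_fin_two_of]; linear_combination (-1 : F) * h2⟩
  let N : Matrix.SpecialLinearGroup (Fin 2) F := ⟨!![τ, τ ^ 2 + 1; τ ^ 2 + 1, τ ^ 3], by
    rw [Matrix.det_fin_two_of]; linear_combination -(τ ^ 2 + 1) * h2⟩
  have hM3 : M ^ 3 = N := by
    rw [pow_succ, sq]
    apply Subtype.ext
    rw [Matrix.SpecialLinearGroup.coe_mul, Matrix.SpecialLinearGroup.coe_mul]
    ext i j
    fin_cases i <;> fin_cases j <;> simp [M, N, Matrix.mul_apply, Fin.sum_univ_two]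
    all_goals first | ring1 | linear_combination τ * h2
  have hN3 : N ^ 3 = 1 := by
    let N2 : Matrix.SpecialLinearGroup (Fin 2) F := ⟨!![τ ^ 3, τ ^ 2 + 1; τ ^ 2 + 1, τ], by
      rw [Matrix.det_fin_two_of]; linear_combination -(τ ^ 2 + 1) * h2⟩
    have hN2 : N * N = N2 := by
      apply Subtype.ext
      rw [Matrix.SpecialLinearGroup.coe_mul]
      ext i j
      fin_cases i <;> fin_cases j <;> simp [N, N2, Matrix.mul_apply, Fin.sum_univ_two]
      · linear_combination (τ - 1) * hτ + (1 + τ ^ 2) * h2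
      · linear_combination (1 + τ ^ 2) * hτ + (-1 - τ ^ 2) * h2
      · linear_combination (1 + τ ^ 2) * hτ + (-1 - τ ^ 2) * h2
      · linear_combination (τ ^ 3 - 1) * hτ + (1 + τ ^ 2) * h2
    rw [pow_succ, sq, hN2]
    apply Subtype.ext
    rw [Matrix.SpecialLinearGroup.coe_mul, Matrix.SpecialLinearGroup.coe_one]
    ext i j
    fin_cases i <;> fin_cases j <;> simp [N, N2, Matrix.mul_apply, Fin.sum_univ_two]
    · linear_combination (2 * τ) * hτ + (-τ) * h2
    · linear_combination (2 * τ ^ 2) * hτ + (-τ ^ 2) * h2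
    · linear_combination 2 * hτ + (-1 : F) * h2
    · linear_combination (2 * τ) * hτ + (-τ) * h2
  refine ⟨QuotientGroup.mk' _ M, ?_⟩
  have : orderOf (QuotientGroup.mk' (Subgroup.center (Matrix.SpecialLinearGroup (Fin 2) F)) M) = 3 ^ (1 + 1) := by
    haveI : Fact (Nat.Prime 3) := ⟨Nat.prime_three⟩
    refine orderOf_eq_prime_pow (fun h => ?_) ?_
    · rw [← map_pow, pow_one, hM3] at h
      obtain ⟨r, -, hr⟩ := Matrix.SpecialLinearGroup.mem_center_iff.1 ((QuotientGroup.eq_one_iff _).1 h)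
      have := congrFun (congrFun hr 0) 1
      simp [N] at this
      have ht1 : τ = 1 := by
        have h0 : (τ - 1) * (τ - 1) = 0 := by linear_combination this.symm - τ * h2
        exact sub_eq_zero.1 (mul_self_eq_zero.1 h0)
      rw [ht1] at hτ
      exact one_ne_zero (α := F) (by linear_combination hτ - h2)
    · rw [← map_pow, show 3 ^ (1 + 1) = 3 * 3 from rfl, pow_mul, hM3, hN3, map_one]
  simpa using this


/-- Let X be a section of the general linear group GL(5, 2), that is, a quotient of a subgroup of it. If X is isomorphic to PSL(2, 2^n) for some n ≥ 2, to a Suzuki group over the field with 2^(2m+1) elements for some m ≥ 1, or to PSU(3, 2^n) for some n ≥ 2, then X is isomorphic to PSL(2, 4). -/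
theorem result {H : Subgroup (GL (Fin 5) (ZMod 2))}
    {K : Subgroup ↥H} [K.Normal]
    (hX : (∃ (n : ℕ) (F : Type) (_ : Field F) (_ : Fintype F), 2 ≤ n ∧ Fintype.card F = 2 ^ n ∧
        Nonempty (↥H ⧸ K ≃* Matrix.ProjectiveSpecialLinearGroup (Fin 2) F)) ∨
      (∃ (m : ℕ) (F : Type) (_ : Field F) (_ : Fintype F), 1 ≤ m ∧ Fintype.card F = 2 ^ (2 * m + 1) ∧
        Nonempty (↥H ⧸ K ≃* ↥(Cfsg.Lie.Sz F (2 ^ (m + 1))))) ∨
      (∃ (n : ℕ) (F : Type) (_ : Field F) (_ : Fintype F), 2 ≤ n ∧ Fintype.card F = 4 ^ n ∧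
        Nonempty (↥H ⧸ K ≃* Cfsg.PSU 3 F (2 ^ n)))) :
    ∃ (F : Type) (_ : Field F) (_ : Fintype F), Fintype.card F = 4 ∧
      Nonempty (↥H ⧸ K ≃* Matrix.ProjectiveSpecialLinearGroup (Fin 2) F) := by
  haveI : Fact (Nat.Prime 2) := ⟨Nat.prime_two⟩
  rcases hX with ⟨n, F, i₁, i₂, hn, hF, ⟨e⟩⟩ | ⟨m, F, i₁, i₂, hm, hF, ⟨e⟩⟩ | ⟨n, F, i₁, i₂, hn, hF, ⟨e⟩⟩
  · have hc := CfsgLib.Classical.card_PSL_mul (F := F) hF 2 (by norm_num)
    have hq : 1 ≤ 2 ^ n := Nat.one_le_two_pow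
    have hq2 : 2 ≤ 2 ^ n := by
      calc 2 = 2 ^ 1 := rfl
        _ ≤ 2 ^ n := Nat.pow_le_pow_right (by norm_num) (by omega)
    have hg : Nat.gcd 2 (2 ^ n - 1) = 1 := by
      refine Nat.coprime_two_left.2 ?_
      obtain ⟨k, rfl⟩ : ∃ k, n = k + 1 := ⟨n - 1, by omega⟩
      exact ⟨2 ^ k - 1, by rw [pow_succ]; have := Nat.one_le_two_pow (n := k); omega⟩
    rw [hg, one_mul, Fin.prod_univ_two] at hc
    simp at hc
    have hd : (2 ^ n) ^ 2 - 1 ∣ 9999360 := by
      refine Dvd.dvd.trans ?_ (dvd_9999360 e)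
      refine ⟨2 ^ n, Nat.eq_of_mul_eq_mul_left (show 0 < 2 ^ n - 1 by omega) ?_⟩
      rw [hc, show (2 ^ n) ^ 2 - 2 ^ n = (2 ^ n - 1) * 2 ^ n by rw [Nat.sub_mul, one_mul, sq]]
      ring
    rcases n_psl hn hd with rfl | rfl
    · exact ⟨F, i₁, i₂, by rw [hF]; norm_num, ⟨e⟩⟩
    · exfalso
      obtain ⟨y, hy⟩ := psl_eight hF
      obtain ⟨g, hg'⟩ := QuotientGroup.mk'_surjective K (e.symm y)
      have hyg : y = e (QuotientGroup.mk' K g) := by rw [hg', e.apply_symm_apply]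
      have h9 : 9 ∣ orderOf (g : GL (Fin 5) (ZMod 2)) := by
        rw [Subgroup.orderOf_coe, ← hy, hyg, MulEquiv.orderOf_eq]
        exact orderOf_map_dvd _ _
      set a := (g : GL (Fin 5) (ZMod 2)) with ha
      obtain ⟨k, hk⟩ := h9
      have h := gl_pow_three (g := a ^ k) (by rw [← pow_mul, mul_comm, ← hk, pow_orderOf_eq_one])
      rw [← pow_mul] at h
      have h1 := Nat.le_of_dvd (by
        rcases Nat.eq_zero_or_pos k with rfl | h0
        · have := orderOf_pos a; omega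
        · omega) (orderOf_dvd_of_pow_eq_one h)
      have := orderOf_pos a
      omega
  · exfalso
    refine no_sz hm ((sz_dvd hF).trans (dvd_9999360 e))
  · exfalso
    have hF' : Fintype.card F = (2 ^ n) ^ 2 := by rw [hF, ← pow_mul, mul_comm, pow_mul]; norm_num
    have hc := CfsgLib.Classical.card_su (n := 3) (q := 2 ^ n) (F := F) hF' (by norm_num)
    have hz := CfsgLib.Classical.card_center_su (n := 3) (q := 2 ^ n) (F := F) hF' (by norm_num)
    rw [Subgroup.card_eq_card_quotient_mul_card_subgroup (Subgroup.center (Cfsg.SU 3 F (2 ^ n))), hz] at hc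
    have hd := dvd_9999360 e
    refine no_psu hn ?_
    have h1 : (2 ^ n) ^ 3 + 1 ∣ Nat.card (Cfsg.PSU 3 F (2 ^ n)) * Nat.gcd 3 (2 ^ n + 1) := by
      have hu : CfsgLib.Classical.unitaryOrder (2 ^ n) 3 =
          (2 ^ n + 1) * (((2 ^ n) ^ 3 + 1) * ((2 ^ n) ^ 3 * ((2 ^ n) ^ 2 - 1))) := by
        simp [CfsgLib.Classical.unitaryOrder, Finset.prod_range_succ, Nat.even_iff]
        ring
      rw [hu] at hc
      have := Nat.eq_of_mul_eq_mul_left (Nat.succ_pos _) hc
      rw [this]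
      exact Dvd.intro _ rfl
    refine h1.trans ?_
    rw [mul_comm 3]
    exact mul_dvd_mul hd (Nat.gcd_dvd_left 3 _)

end Cfsg.Agent.S3179
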