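import Cfsg.Statements.S3180
import Mathlib
-- import your own Cfsg.Agent.* helpers here

set_option autoImplicit false
open Cfsg

namespace Cfsg.Agent.S3180

/-- Let P be a Sylow p-subgroup of a finite group J and P₁ a subgroup of P that is weakly closed in P with respect to J. If J acts on a set and two points, each fixed by every element of P₁, lie in one J-orbit, then they lie in one orbit of the normalizer of P₁ in J. -/
theorem result {J : Type*} [Group J] [Finite J]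
    {p : ℕ} [Fact p.Prime] (P : Sylow p J) (P₁ : Subgroup J) (hW : Cfsg.IsWeaklyClosed P₁ (P : Subgroup J))
    {Ω : Type*} [MulAction J Ω] (x y : Ω) (hx : ∀ g ∈ P₁, g • x = x) (hy : ∀ g ∈ P₁, g • y = y)
    (hc : ∃ g : J, g • x = y) :
    ∃ g ∈ Subgroup.normalizer (P₁ : Set J), g • x = y := by
  obtain ⟨g, hg⟩ := hc
  let Hy := MulAction.stabilizer J y
  let c := (MulAut.conj g).toMonoidHom
  have hP₁y : P₁ ≤ Hy := fun a ha => hy a ha
  have hgy : P₁.map c ≤ Hy := by
    rintro _ ⟨a, ha, rfl⟩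
    change (g * a * g⁻¹) • y = y
    rw [← hg, mul_smul, mul_smul, inv_smul_smul, hx a ha]
  have hp : IsPGroup p ↥P₁ := P.isPGroup'.to_le hW.1
  obtain ⟨Q, hQ⟩ := (hp.comap_subtype : IsPGroup p ↥(P₁.subgroupOf Hy)).exists_le_sylow
  obtain ⟨Q', hQ'⟩ := ((hp.map c).comap_subtype :
    IsPGroup p ↥((P₁.map c).subgroupOf Hy)).exists_le_sylow
  obtain ⟨h, hh⟩ := MulAction.exists_smul_eq ↥Hy Q' Q
  obtain ⟨R, hR⟩ := (Q.isPGroup'.map Hy.subtype).exists_le_sylow
  obtain ⟨a, ha⟩ := MulAction.exists_smul_eq J R P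
  have mem_smul : ∀ {K : Type _} [Group K] (k s : K) (U : Sylow p K),
      s ∈ (U : Subgroup K) → k * s * k⁻¹ ∈ ((k • U : Sylow p K) : Subgroup K) := by
    intro K _ k s U hs
    rw [Sylow.smul_def, Sylow.pointwise_smul_def]
    exact ⟨s, hs, rfl⟩
  have toP : ∀ q : ↥Hy, q ∈ (Q : Subgroup ↥Hy) → a * (q : J) * a⁻¹ ∈ (P : Subgroup J) := by
    intro q hq
    rw [← ha]
    exact mem_smul a _ R (hR ⟨q, hq, rfl⟩)
  have hN : ∀ b : J, P₁.map (MulAut.conj b).toMonoidHom ≤ P →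
      b ∈ Subgroup.normalizer (P₁ : Set J) := by
    intro b hb
    have e := hW.2 b hb
    rw [Subgroup.mem_normalizer_iff]
    intro t
    constructor
    · intro ht
      rw [← e]; exact ⟨t, ht, rfl⟩
    · intro ht
      rw [← e] at ht
      obtain ⟨s, hs, hst⟩ := ht
      have : s = t := (MulAut.conj b).injective hst
      exact this ▸ hs
  have h1 : a ∈ Subgroup.normalizer (P₁ : Set J) := by
    apply hN
    rintro _ ⟨t, ht, rfl⟩
    exact toP ⟨t, hP₁y ht⟩ (hQ ht)
  have h2 : a * ((h : J) * g) ∈ Subgroup.normalizer (P₁ : Set J) := by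
    apply hN
    rintro _ ⟨t, ht, rfl⟩
    have hmem : (⟨g * t * g⁻¹, hgy ⟨t, ht, rfl⟩⟩ : ↥Hy) ∈ (Q' : Subgroup ↥Hy) := hQ' ⟨t, ht, rfl⟩
    have := toP _ (hh ▸ mem_smul h _ Q' hmem)
    change a * ((h : J) * g) * t * (a * ((h : J) * g))⁻¹ ∈ (P : Subgroup J)
    convert this using 1
    simp [mul_assoc]
  refine ⟨(h : J) * g, ?_, ?_⟩
  · have := Subgroup.mul_mem _ (Subgroup.inv_mem _ h1) h2
    rwa [inv_mul_cancel_left] at this
  · rw [mul_smul, hg]; exact h.2

end Cfsg.Agent.S3180
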