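import Cfsg.Statements.S3183
import Mathlib
-- import your own Cfsg.Agent.* helpers here

set_option autoImplicit false
open Cfsg

namespace Cfsg.Agent.S3183

theorem two_elem_centralizes {G : Type*} [Group G] [Finite G] (D : Subgroup G) (U : Sylow 2 G)
    (hDU : D ≤ (Subgroup.center ↥(U : Subgroup G)).map (U : Subgroup G).subtype)
    (P : Subgroup G) (hP : IsPGroup 2 ↥P) (hPN : P ≤ Subgroup.normalizer (D : Set G)) :
    P ≤ Subgroup.centralizer (D : Set G) := by
  haveI : Fact (Nat.Prime 2) := ⟨Nat.prime_two⟩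
  set N := Subgroup.normalizer (D : Set G)
  set C := (Subgroup.centralizer (D : Set G)).subgroupOf N with hC
  haveI : C.Normal := by
    refine Subgroup.normal_subgroupOf_of_le_normalizer ?_
    intro x hx
    rw [Subgroup.mem_normalizer_iff]
    have key : ∀ y ∈ N, ∀ c ∈ Subgroup.centralizer (D : Set G), y * c * y⁻¹ ∈ Subgroup.centralizer (D : Set G) := by
      intro y hy c hc
      rw [Subgroup.mem_centralizer_iff] at hc ⊢
      intro d hd
      have hd' : y⁻¹ * d * y ∈ D := by
        simpa using (Subgroup.mem_normalizer_iff.1 (inv_mem hy) d).1 hd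
      calc d * (y * c * y⁻¹) = y * ((y⁻¹ * d * y) * c) * y⁻¹ := by group
        _ = y * (c * (y⁻¹ * d * y)) * y⁻¹ := by rw [hc _ hd']
        _ = y * c * y⁻¹ * d := by group
    exact fun c => ⟨key x hx c, fun h => by simpa [mul_assoc] using key x⁻¹ (inv_mem hx) _ h⟩
  have hUC : (U : Subgroup G) ≤ Subgroup.centralizer (D : Set G) := by
    intro u hu
    rw [Subgroup.mem_centralizer_iff]
    intro d hd
    obtain ⟨z, hz, rfl⟩ := hDU hd
    exact congrArg Subtype.val (Subgroup.mem_center_iff.1 hz ⟨u, hu⟩).symm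
  have hCN : Subgroup.centralizer (D : Set G) ≤ N := Subgroup.centralizer_le_normalizer _
  have hodd : ¬ 2 ∣ C.index := by
    intro h
    apply U.not_dvd_index
    have h1 : C.index = (Subgroup.centralizer (D : Set G)).relIndex N := rfl
    rw [h1] at h
    exact h.trans ((Subgroup.relIndex_dvd_index_of_le hCN).trans (Subgroup.index_dvd_of_le hUC))
  intro x hx
  have h2 : ∃ k : ℕ, (⟨x, hPN hx⟩ : ↥N) ^ (2 ^ k) ∈ C := by
    obtain ⟨k, hk⟩ := hP ⟨x, hx⟩
    refine ⟨k, ?_⟩
    have hk' : x ^ 2 ^ k = 1 := congrArg Subtype.val hk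
    rw [show (⟨x, hPN hx⟩ : ↥N) ^ 2 ^ k = 1 from Subtype.ext hk']
    exact one_mem _
  obtain ⟨k, hk⟩ := h2
  set q : ↥N ⧸ C := QuotientGroup.mk (⟨x, hPN hx⟩ : ↥N) with hq
  have hq2 : orderOf q ∣ 2 ^ k := orderOf_dvd_of_pow_eq_one (by
    rw [hq, ← QuotientGroup.mk_pow, QuotientGroup.eq_one_iff]; exact hk)
  have hq1 : q = 1 := by
    obtain ⟨j, -, hj⟩ := (Nat.dvd_prime_pow Nat.prime_two).1 hq2
    rcases Nat.eq_zero_or_pos j with h0 | h0
    · rw [h0, pow_zero, orderOf_eq_one_iff] at hj; exact hj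
    · exact absurd ((dvd_pow_self 2 h0.ne').trans (hj ▸ (orderOf_dvd_natCard q))) hodd
  exact Subgroup.mem_subgroupOf.1 ((QuotientGroup.eq_one_iff _).1 hq1)

theorem inter_le_center {G : Type*} [Group G] [Finite G]
    (hCI : ∀ S T : Sylow 2 G, S ≠ T → ∃ U : Sylow 2 G,
      (S : Subgroup G) ⊓ (T : Subgroup G) ≤ (Subgroup.center ↥(U : Subgroup G)).map (U : Subgroup G).subtype)
    (S T : Sylow 2 G) (hST : S ≠ T) :
    (S : Subgroup G) ⊓ (T : Subgroup G) ≤
      (Subgroup.center ↥(S : Subgroup G)).map (S : Subgroup G).subtype := by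
  haveI : Fact (Nat.Prime 2) := ⟨Nat.prime_two⟩
  generalize hn : Nat.card G - Nat.card ↥((S : Subgroup G) ⊓ (T : Subgroup G)) = n
  induction n using Nat.strong_induction_on generalizing T with
  | _ n ih =>
  set D := (S : Subgroup G) ⊓ (T : Subgroup G) with hD
  obtain ⟨U, hU⟩ := hCI S T hST
  have hUC : (U : Subgroup G) ≤ Subgroup.centralizer (D : Set G) := by
    intro u hu
    rw [Subgroup.mem_centralizer_iff]
    intro d hd
    obtain ⟨z, hz, rfl⟩ := hU hd
    exact congrArg Subtype.val (Subgroup.mem_center_iff.1 hz ⟨u, hu⟩).symm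
  have hDne : D ≠ (S : Subgroup G) := fun e => hST
    (Sylow.ext (S.3 T.2 (e ▸ inf_le_right)).symm)
  -- a larger subgroup of `S` centralizing `D`
  set X := (S : Subgroup G) ⊓ Subgroup.centralizer (D : Set G) with hX
  have hlt : D < X := by
    have hab : D ≤ Subgroup.centralizer (D : Set G) := fun d hd => hUC ((Subgroup.map_subtype_le _) (hU hd))
    refine lt_of_le_not_ge (le_inf inf_le_left hab) fun hge => hDne ?_
    have : Group.IsNilpotent ↥(S : Subgroup G) := S.2.isNilpotent
    by_contra hne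
    have h1 := Group.normalizerCondition_of_isNilpotent (G := ↥(S : Subgroup G))
      (D.subgroupOf (S : Subgroup G))
      (lt_top_iff_ne_top.2 fun ht => hne (le_antisymm inf_le_left (Subgroup.subgroupOf_eq_top.1 ht)))
    obtain ⟨⟨x, hxS⟩, hx, hx'⟩ := SetLike.exists_of_lt h1
    apply hx'
    apply hge
    refine ⟨hxS, two_elem_centralizes D U hU ((S : Subgroup G) ⊓ Subgroup.normalizer (D : Set G))
      (S.2.to_le inf_le_left) inf_le_right ⟨hxS, ?_⟩⟩
    show x ∈ Subgroup.normalizer (D : Set G)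
    rw [Subgroup.mem_normalizer_iff]
    intro d
    have := Subgroup.mem_normalizer_iff.1 hx
    constructor
    · intro hd
      exact (this ⟨d, (inf_le_left : D ≤ _) hd⟩).1 hd
    · intro hd
      have hdS : d ∈ (S : Subgroup G) := by
        have := mul_mem (mul_mem (inv_mem hxS) ((inf_le_left : D ≤ _) hd)) hxS
        simpa [mul_assoc] using this
      exact (this ⟨d, hdS⟩).2 hd
  obtain ⟨V', hV'⟩ := ((S.2.to_le (inf_le_left : X ≤ _)).of_equiv
    (Subgroup.subgroupOfEquivOfLe (inf_le_right : X ≤ Subgroup.centralizer (D : Set G))).symm).exists_le_sylow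
  set VV := (V' : Subgroup ↥(Subgroup.centralizer (D : Set G))).map (Subgroup.centralizer (D : Set G)).subtype
  have hidx : ¬ 2 ∣ VV.index := by
    rw [Subgroup.index_map_subtype]
    exact Nat.prime_two.not_dvd_mul V'.not_dvd_index
      (fun h => U.not_dvd_index (h.trans (Subgroup.index_dvd_of_le hUC)))
  let V : Sylow 2 G := (V'.2.map _).toSylow hidx
  have hXV : X ≤ (V : Subgroup G) := by
    show X ≤ VV
    intro x hx
    exact ⟨⟨x, hx.2⟩, hV' hx, rfl⟩
  by_cases hSV : S = V
  · intro d hd
    refine ⟨⟨d, hd.1⟩, Subgroup.mem_center_iff.2 fun s => Subtype.ext ?_, rfl⟩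
    have hs : (s : G) ∈ VV := by
      have h0 : (S : Subgroup G) = (V : Subgroup G) := congrArg (fun W : Sylow 2 G => (W : Subgroup G)) hSV
      exact (SetLike.ext_iff.1 h0 (s : G)).1 s.2
    obtain ⟨w, -, hw⟩ := hs
    have h1 := Subgroup.mem_centralizer_iff.1 w.2 d hd
    show (s : G) * d = d * s
    rw [← hw]; exact h1.symm
  · have hD' : D < (S : Subgroup G) ⊓ (V : Subgroup G) :=
      lt_of_lt_of_le hlt (le_inf inf_le_left hXV)
    have hcard : Nat.card ↥D < Nat.card ↥((S : Subgroup G) ⊓ (V : Subgroup G)) := by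
      rcases (Subgroup.card_le_of_le hD'.le).lt_or_eq with h | h
      · exact h
      · exact absurd (Subgroup.eq_of_le_of_card_ge hD'.le h.ge) hD'.ne
    refine hD'.le.trans (ih _ ?_ V hSV rfl)
    have : Nat.card ↥((S : Subgroup G) ⊓ (V : Subgroup G)) ≤ Nat.card G := Subgroup.card_le_card_group _
    omega


/-- Let G be a finite group in which the intersection of any two distinct Sylow 2-subgroups is contained in the centre of some Sylow 2-subgroup, and let S be a Sylow 2-subgroup. Then for every x in S the centralizer of x in S is a Sylow 2-subgroup of the centralizer of x in G (no 2-subgroup centralizing x is larger), and for every other Sylow 2-subgroup T the intersection S ∩ T lies in both the centre of S and the centre of T. -/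
theorem result {G : Type*} [Group G] [Finite G]
    (hCI : ∀ S T : Sylow 2 G, S ≠ T → ∃ U : Sylow 2 G,
      (S : Subgroup G) ⊓ (T : Subgroup G) ≤ (Subgroup.center ↥(U : Subgroup G)).map (U : Subgroup G).subtype)
    (S : Sylow 2 G) :
    (∀ x ∈ (S : Subgroup G), ∀ P : Subgroup G, IsPGroup 2 ↥P → P ≤ Subgroup.centralizer ({x} : Set G) →
        Nat.card ↥P ≤ Nat.card ↥((S : Subgroup G) ⊓ Subgroup.centralizer ({x} : Set G))) ∧
    (∀ T : Sylow 2 G, T ≠ S →
        (S : Subgroup G) ⊓ (T : Subgroup G) ≤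
          (Subgroup.center ↥(S : Subgroup G)).map (S : Subgroup G).subtype ⊓
            (Subgroup.center ↥(T : Subgroup G)).map (T : Subgroup G).subtype) := by
  haveI : Fact (Nat.Prime 2) := ⟨Nat.prime_two⟩
  have key := fun (A B : Sylow 2 G) (h : A ≠ B) => inter_le_center hCI A B h
  refine ⟨fun x hx P hP hPx => ?_, fun T hT => le_inf (key S T (Ne.symm hT)) ?_⟩
  · by_cases hxc : ∀ s ∈ (S : Subgroup G), s * x = x * s
    · have h1 : (S : Subgroup G) ⊓ Subgroup.centralizer ({x} : Set G) = (S : Subgroup G) :=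
        inf_eq_left.2 fun s hs => Subgroup.mem_centralizer_singleton_iff.2 (hxc s hs)
      rw [h1]
      obtain ⟨Q, hQ⟩ := hP.exists_le_sylow
      rw [← Nat.card_congr (Sylow.equiv Q S).toEquiv]
      exact Subgroup.card_le_of_le hQ
    · refine Subgroup.card_le_of_le (le_inf ?_ hPx)
      have hxp : IsPGroup 2 ↥(Subgroup.zpowers x) := S.2.to_le (Subgroup.zpowers_le.2 hx)
      have hn : P ≤ Subgroup.normalizer (Subgroup.zpowers x : Set G) := by
        refine le_trans ?_ (Subgroup.centralizer_le_normalizer _)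
        intro p hp
        rw [Subgroup.mem_centralizer_iff]
        rintro _ ⟨k, rfl⟩
        have hc : Commute p x := Subgroup.mem_centralizer_singleton_iff.1 (hPx hp)
        exact (hc.zpow_right k).eq.symm
      obtain ⟨V, hV⟩ := (hP.to_sup_of_normal_right' hxp hn).exists_le_sylow
      by_cases hVS : V = S
      · rw [← hVS]; exact le_sup_left.trans hV
      exfalso
      apply hxc
      intro s hs
      obtain ⟨z, hz, hzx⟩ := key S V (Ne.symm hVS)
        ⟨hx, hV (le_sup_right (a := P) (Subgroup.mem_zpowers x))⟩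
      rw [← hzx]
      exact congrArg Subtype.val (Subgroup.mem_center_iff.1 hz ⟨s, hs⟩)
  · have := key T S hT
    rwa [inf_comm] at this

end Cfsg.Agent.S3183
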