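import Cfsg.Statements.S3184
import Mathlib
import Cfsg.Agent.S3183
import Cfsg.Agent.S0215
import Cfsg.Agent.Lib.Cores.Basic
import Cfsg.Agent.Lib.InvolChar.Basic
-- import your own Cfsg.Agent.* helpers here

set_option autoImplicit false
open Cfsg

namespace Cfsg.Agent.S3184

/-- Let G be a finite group in which the intersection of any two distinct Sylow 2-subgroups is contained in the centre of some Sylow 2-subgroup, and let S be a Sylow 2-subgroup. If C is a nontrivial cyclic characteristic subgroup of S, then the involution of C is central modulo the largest normal subgroup of odd order of G: each of its conjugates has the same image in G/O(G). -/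
theorem result {G : Type*} [Group G] [Finite G]
    (hCI : ∀ S T : Sylow 2 G, S ≠ T → ∃ U : Sylow 2 G,
      (S : Subgroup G) ⊓ (T : Subgroup G) ≤ (Subgroup.center ↥(U : Subgroup G)).map (U : Subgroup G).subtype)
    (S : Sylow 2 G) (C : Subgroup ↥(S : Subgroup G)) (hC : C ≠ ⊥) (hCc : IsCyclic ↥C) (hCh : C.Characteristic)
    (c : ↥(S : Subgroup G)) (hc : c ∈ C) (hc2 : orderOf c = 2) :
    ∀ g : G, (QuotientGroup.mk (s := Cfsg.oddCore G) (g * (c : G) * g⁻¹)) =
      QuotientGroup.mk (s := Cfsg.oddCore G) (c : G) := by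
  haveI : Fact (Nat.Prime 2) := ⟨Nat.prime_two⟩
  haveI := hC
  obtain ⟨r, hr⟩ := hCc.exists_generator
  have hfix : ∀ φ : ↥(S : Subgroup G) ≃* ↥(S : Subgroup G), φ c = c := by
    intro φ
    have h1 : φ c ∈ C := by
      have := hCh.fixed φ
      rw [← this] at hc
      exact hc
    have hmem : ∀ y ∈ C, y ∈ Subgroup.zpowers (r : ↥(S : Subgroup G)) := by
      intro y hy
      obtain ⟨k, hk⟩ := Subgroup.mem_zpowers_iff.1 (hr ⟨y, hy⟩)
      refine Subgroup.mem_zpowers_iff.2 ⟨k, ?_⟩
      rw [← Subgroup.coe_zpow, hk]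
    exact CfsgLib.Invol.mem_zpowers_unique_involution (hmem _ h1) (hmem _ hc)
      (by rw [MulEquiv.orderOf_eq, hc2]) hc2
  have hcZ : ∀ s ∈ (S : Subgroup G), s * (c : G) = c * s := fun s hs =>
    mul_inv_eq_iff_eq_mul.1 (congrArg Subtype.val (hfix (MulAut.conj (⟨s, hs⟩ : ↥(S : Subgroup G)))))
  have hiso : ∀ g : G, g * (c : G) * g⁻¹ ∈ (S : Subgroup G) → g * (c : G) * g⁻¹ = c := by
    intro g hg
    set T : Sylow 2 G := g • S with hT
    have hTmem : (T : Subgroup G) ≤ Subgroup.centralizer ({g * (c : G) * g⁻¹} : Set G) := by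
      intro x hx
      obtain ⟨s, hs, rfl⟩ : ∃ s ∈ (S : Subgroup G), g * s * g⁻¹ = x := by
        rw [hT, Sylow.coe_subgroup_smul] at hx
        obtain ⟨s, hs, e⟩ := hx
        exact ⟨s, hs, e⟩
      refine Subgroup.mem_centralizer_singleton_iff.2 ?_
      calc g * s * g⁻¹ * (g * c * g⁻¹) = g * (s * c) * g⁻¹ := by group
        _ = _ := by rw [hcZ s hs]; group
    have h1 := (Cfsg.Agent.S3183.result hCI S).1 _ hg (T : Subgroup G) T.2 hTmem
    have h2 : (S : Subgroup G) ⊓ Subgroup.centralizer ({g * (c : G) * g⁻¹} : Set G) = (S : Subgroup G) :=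
      Subgroup.eq_of_le_of_card_ge inf_le_left (by rw [Nat.card_congr (Sylow.equiv S T).toEquiv]; exact h1)
    have hd : g * (c : G) * g⁻¹ ∈ Subgroup.centralizer ((S : Subgroup G) : Set G) := by
      rw [Subgroup.mem_centralizer_iff]
      intro s hs
      exact Subgroup.mem_centralizer_singleton_iff.1 (inf_eq_left.1 h2 hs)
    obtain ⟨n, hn, hne⟩ := S.conj_eq_normalizer_conj_of_mem_centralizer (c : G) g⁻¹
      (Subgroup.mem_centralizer_iff.2 fun s hs => hcZ s hs) (by rw [inv_inv]; exact hd)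
    rw [inv_inv] at hne
    rw [hne]
    have hnm : ∀ s ∈ (S : Subgroup G), n⁻¹ * s * n ∈ (S : Subgroup G) := by
      intro s hs
      have h3 := (Subgroup.mem_normalizer_iff.1 (inv_mem hn) s).1 hs
      rwa [inv_inv] at h3
    let φ : ↥(S : Subgroup G) ≃* ↥(S : Subgroup G) :=
      { toFun := fun s => ⟨n⁻¹ * s * n, hnm s s.2⟩
        invFun := fun s => ⟨n * s * n⁻¹, (Subgroup.mem_normalizer_iff.1 hn s).1 s.2⟩
        left_inv := fun s => Subtype.ext (by show n * (n⁻¹ * (s : G) * n) * n⁻¹ = s; group)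
        right_inv := fun s => Subtype.ext (by show n⁻¹ * (n * (s : G) * n⁻¹) * n = s; group)
        map_mul' := fun a b => Subtype.ext (by
          show n⁻¹ * ((a : G) * b) * n = n⁻¹ * a * n * (n⁻¹ * b * n)
          group) }
    exact congrArg Subtype.val (hfix φ)
  obtain ⟨N, hN, hodd, hcom⟩ := Cfsg.Agent.S0215.result S (c : G) (by rw [Subgroup.orderOf_coe, hc2]) c.2 hiso
  haveI := hN
  intro g
  rw [QuotientGroup.eq]
  refine CfsgLib.Cores.le_oddCore_of_odd hodd ?_
  have h1 := hN.conj_mem _ (hcom g) (c : G)⁻¹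
  have e : (g * (c : G) * g⁻¹)⁻¹ * c = (c : G)⁻¹ * ((c : G) * g * (c : G)⁻¹ * g⁻¹) * (c : G)⁻¹⁻¹ := by group
  rw [e]
  exact h1

end Cfsg.Agent.S3184
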