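import Cfsg.Statements.S3190
import Mathlib
import Cfsg.Agent.Lib.PGroup.Basic
-- import your own Cfsg.Agent.* helpers here

set_option autoImplicit false
open Cfsg

namespace Cfsg.Agent.S3190

/-- Let p be an odd prime and, inside a finite group, let P be a p-subgroup normalized by a Klein four-group T. Let R be a subgroup of P, normal in P and normalized by T, such that P is the product of R with the centralizer of T in P. If T centralizes the centre of P, then T centralizes the centre of R. -/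
theorem result {X : Type*} [Group X] [Finite X]
    {p : ℕ} (hp : p.Prime) (hodd : Odd p) (P T R : Subgroup X) (hP : IsPGroup p ↥P) (hT : IsKleinFour ↥T)
    (hTP : T ≤ Subgroup.normalizer (P : Set X)) (hRP : R ≤ P) (hRn : (R.subgroupOf P).Normal)
    (hTR : T ≤ Subgroup.normalizer (R : Set X)) (hfac : R ⊔ (P ⊓ Subgroup.centralizer (T : Set X)) = P)
    (hZ : T ≤ Subgroup.centralizer (((Subgroup.center ↥P).map P.subtype : Subgroup X) : Set X)) :
    T ≤ Subgroup.centralizer (((Subgroup.center ↥R).map R.subtype : Subgroup X) : Set X) := by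
  haveI : Fact p.Prime := ⟨hp⟩
  set A : Subgroup X := (Subgroup.center ↥R).map R.subtype with hA
  intro t ht
  have htt : t * t = 1 := by
    have h := Monoid.pow_exponent_eq_one (⟨t, ht⟩ : ↥T)
    rw [hT.exponent_two] at h
    rw [← sq]; exact congrArg Subtype.val h
  have hti : t⁻¹ = t := inv_eq_of_mul_eq_one_right htt
  have hAR : A ≤ R := Subgroup.map_subtype_le _
  have hAc : ∀ a ∈ A, ∀ r ∈ R, a * r = r * a := by
    rintro _ ⟨a, ha, rfl⟩ r hr
    exact congrArg Subtype.val (Subgroup.mem_center_iff.1 ha ⟨r, hr⟩).symm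
  have hmemA : ∀ a ∈ R, (∀ r ∈ R, a * r = r * a) → a ∈ A := fun a ha h =>
    ⟨⟨a, ha⟩, Subgroup.mem_center_iff.2 fun r => Subtype.ext (h r r.2).symm, rfl⟩
  have hAnorm : ∀ x : X, x ∈ Subgroup.normalizer (R : Set X) → ∀ a ∈ A, x * a * x⁻¹ ∈ A := by
    intro x hx a ha
    refine hmemA _ ((Subgroup.mem_normalizer_iff.1 hx a).1 (hAR ha)) fun r hr => ?_
    have hr' : x⁻¹ * r * x ∈ R := by
      have := (Subgroup.mem_normalizer_iff.1 (inv_mem hx) r).1 hr
      simpa using this
    have := hAc a ha _ hr'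
    calc x * a * x⁻¹ * r = x * (a * (x⁻¹ * r * x)) * x⁻¹ := by group
      _ = x * ((x⁻¹ * r * x) * a) * x⁻¹ := by rw [this]
      _ = r * (x * a * x⁻¹) := by group
  have hPR : P ≤ Subgroup.normalizer (R : Set X) := by
    exact (Subgroup.normal_subgroupOf_iff_le_normalizer hRP).1 hRn
  let B : Subgroup X :=
    { carrier := {a | a ∈ A ∧ t * a * t⁻¹ = a⁻¹}
      one_mem' := ⟨one_mem A, by simp⟩
      mul_mem' := by
        rintro a b ⟨ha, ha'⟩ ⟨hb, hb'⟩
        refine ⟨mul_mem ha hb, ?_⟩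
        calc t * (a * b) * t⁻¹ = (t * a * t⁻¹) * (t * b * t⁻¹) := by group
          _ = (b * a)⁻¹ := by rw [ha', hb', mul_inv_rev]
          _ = (a * b)⁻¹ := by rw [hAc a ha b (hAR hb)]
      inv_mem' := by
        rintro a ⟨ha, ha'⟩
        exact ⟨inv_mem ha, by
          calc t * a⁻¹ * t⁻¹ = (t * a * t⁻¹)⁻¹ := by group
            _ = a⁻¹⁻¹ := by rw [ha']⟩ }
  have hBP : B ≤ P := fun a ha => hRP (hAR ha.1)
  have hBnorm : P ≤ Subgroup.normalizer (B : Set X) := by
    rw [← hfac]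
    refine sup_le (fun r hr => ?_) (fun c hc => ?_)
    · rw [Subgroup.mem_normalizer_iff]
      intro a
      constructor
      · intro ha
        rw [show r * a * r⁻¹ = a by rw [← hAc a ha.1 r hr]; group]
        exact ha
      · intro ha
        have h2 : r * a * r⁻¹ = a := by
          have := hAc _ ha.1 r hr
          have h3 : r * a * r⁻¹ * r = r * a := by group
          rw [h3] at this
          exact (mul_left_cancel this).symm
        rwa [h2] at ha
    · have key : ∀ x : X, x ∈ P ⊓ Subgroup.centralizer (T : Set X) → ∀ a ∈ B, x * a * x⁻¹ ∈ B := by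
        rintro x ⟨hxP, hxT⟩ a ⟨ha, ha'⟩
        refine ⟨hAnorm x (hPR hxP) a ha, ?_⟩
        have hxt : t * x = x * t := Subgroup.mem_centralizer_iff.1 hxT t ht
        calc t * (x * a * x⁻¹) * t⁻¹ = (t * x) * a * (t * x)⁻¹ := by group
          _ = (x * t) * a * (x * t)⁻¹ := by rw [hxt]
          _ = x * (t * a * t⁻¹) * x⁻¹ := by group
          _ = x * a⁻¹ * x⁻¹ := by rw [ha']
          _ = (x * a * x⁻¹)⁻¹ := by group
      rw [Subgroup.mem_normalizer_iff]
      intro a
      refine ⟨key c hc a, fun h => ?_⟩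
      have := key c⁻¹ (inv_mem hc) _ h
      simpa [mul_assoc] using this
  haveI : (B.subgroupOf P).Normal := (Subgroup.normal_subgroupOf_iff_le_normalizer hBP).2 hBnorm
  have hBbot : B = ⊥ := by
    by_contra hne
    have h1 : B.subgroupOf P ≠ ⊥ := fun h => hne (by
      rw [Subgroup.subgroupOf_eq_bot, disjoint_iff, inf_eq_left.2 hBP] at h; exact h)
    obtain ⟨⟨z, hzP⟩, hz, hz1⟩ := (Subgroup.ne_bot_iff_exists_ne_one.1
      (CfsgLib.PGroup.inf_center_ne_bot hP _ h1)) |> fun ⟨w, hw⟩ => (⟨(w : ↥P), w.2, fun h => hw (Subtype.ext h)⟩ : ∃ z : ↥P, z ∈ B.subgroupOf P ⊓ Subgroup.center ↥P ∧ z ≠ 1)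
    obtain ⟨hzB, hzc⟩ := hz
    have hfix : t * z = z * t :=
      (Subgroup.mem_centralizer_iff.1 (hZ ht) z ⟨⟨z, hzP⟩, hzc, rfl⟩).symm
    have hinv : t * z * t⁻¹ = z⁻¹ := hzB.2
    rw [hfix, mul_inv_cancel_right] at hinv
    have hz2 : z * z = 1 := by nth_rewrite 1 [hinv]; exact inv_mul_cancel z
    apply hz1
    obtain ⟨k, hk⟩ := hP ⟨z, hzP⟩
    have hk' : z ^ (p ^ k) = 1 := congrArg Subtype.val hk
    obtain ⟨m, hm⟩ := hodd.pow (n := k)
    rw [hm, pow_succ, pow_mul, sq, hz2, one_pow, one_mul] at hk'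
    exact Subtype.ext hk'
  rw [Subgroup.mem_centralizer_iff]
  intro a ha
  have hy : t * a * t⁻¹ * a⁻¹ ∈ B := by
    have h1 : t * a * t⁻¹ ∈ A := hAnorm t (hTR ht) a ha
    refine ⟨mul_mem h1 (inv_mem ha), ?_⟩
    calc t * (t * a * t⁻¹ * a⁻¹) * t⁻¹ = (t * t) * a * (t * t)⁻¹ * (t * a * t⁻¹)⁻¹ := by group
      _ = (t * a * t⁻¹ * a⁻¹)⁻¹ := by rw [htt]; group
  rw [hBbot, Subgroup.mem_bot, mul_inv_eq_one] at hy
  calc a * t = (t * a * t⁻¹) * t := by rw [hy]
    _ = t * a := by group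

end Cfsg.Agent.S3190
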