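import Cfsg.Statements.S3192
import Cfsg.Agent.Lib.ConjType.RankThree
import Cfsg.Agent.S2507

set_option autoImplicit false
open Cfsg

namespace Cfsg.Agent.S3192

/-- Simple groups of conjugate type rank three. For a finite group G consider the set of indices of the centralizers of the non-central elements of G. Then G is a non-abelian simple group for which this set has exactly three members if and only if G is isomorphic to PSL(2, 2^m) for some m ≥ 2. -/
theorem result (G : Type*) [Group G] [Finite G] :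
    (IsSimpleGroup G ∧ ¬ IsMulCommutative G ∧
        Set.ncard {m : ℕ | ∃ x : G, x ∉ Subgroup.center G ∧ m = (Subgroup.centralizer ({x} : Set G)).index} = 3) ↔
      ∃ (m : ℕ) (F : Type) (_ : Field F) (_ : Fintype F), 2 ≤ m ∧ Fintype.card F = 2 ^ m ∧
        Nonempty (G ≃* Matrix.ProjectiveSpecialLinearGroup (Fin 2) F) := by
  classical
  have hcen : ∀ {K : Type _} [Group K] (x : K), (Subgroup.centralizer ({x} : Set K)).index = 1 ↔
      x ∈ Subgroup.center K := by
    intro K _ x
    rw [Subgroup.index_eq_one, Subgroup.centralizer_eq_top_iff_subset, Set.singleton_subset_iff]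
    rfl
  constructor
  · rintro ⟨hs, hnc, h3⟩
    have hna : ¬ ∀ a b : G, a * b = b * a := fun h => hnc ⟨⟨h⟩⟩
    refine CfsgLib.ConjType.equiv_psl hna (le_of_eq (Eq.trans (congrArg Set.ncard ?_) h3))
    ext m
    have hb := CfsgLib.ConjType.center_eq_bot' hna
    simp only [Set.mem_setOf_eq, hb, Subgroup.mem_bot]
    exact ⟨fun ⟨x, hx, h⟩ => ⟨x, hx, h.symm⟩, fun ⟨x, hx, h⟩ => ⟨x, hx, h.symm⟩⟩
  · rintro ⟨m, F, hF, hfin, hm, hcard, ⟨e⟩⟩
    have h4 : 4 ≤ Fintype.card F :=
      hcard ▸ le_trans (by norm_num) (Nat.pow_le_pow_right (by norm_num : 0 < 2) hm)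
    haveI : IsSimpleGroup (Matrix.ProjectiveSpecialLinearGroup (Fin 2) F) :=
      Matrix.ProjectiveSpecialLinearGroup.rank_two_simple (by rwa [Nat.card_eq_fintype_card])
    have hr := (CfsgLib.ClassSizesPSL2.range_of_equiv e).trans (Cfsg.Agent.S2507.result (F := F)
      (hcard ▸ dvd_pow_self 2 (by omega)) h4)
    obtain ⟨q, hq⟩ : ∃ q, q + 4 = Fintype.card F := ⟨_, Nat.sub_add_cancel h4⟩
    rw [← hq] at hr
    have e1 : (q + 4) * (q + 4 - 1) = q ^ 2 + 7 * q + 12 := by
      rw [show q + 4 - 1 = q + 3 by omega]; ring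
    have e2 : (q + 4) ^ 2 - 1 = q ^ 2 + 8 * q + 15 := by
      rw [show (q + 4) ^ 2 = q ^ 2 + 8 * q + 16 by ring]; omega
    have e3 : (q + 4) * (q + 4 + 1) = q ^ 2 + 9 * q + 20 := by ring
    rw [e1, e2, e3] at hr
    set T : Set ℕ := {q ^ 2 + 7 * q + 12, q ^ 2 + 8 * q + 15, q ^ 2 + 9 * q + 20}
    have hset : {m : ℕ | ∃ x : G, x ∉ Subgroup.center G ∧
        m = (Subgroup.centralizer ({x} : Set G)).index} = T := by
      ext k
      constructor
      · rintro ⟨x, hx, rfl⟩
        have := hr.subset ⟨x, rfl⟩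
        rcases this with h | h
        · exact absurd ((hcen x).1 h) hx
        · exact h
      · intro hk
        obtain ⟨x, hx⟩ := hr.superset (Set.mem_insert_of_mem 1 hk)
        refine ⟨x, fun hc => ?_, hx.symm⟩
        have h1 := (hcen x).2 hc
        simp only [T, Set.mem_insert_iff, Set.mem_singleton_iff] at hk hx
        omega
    have hn : T.ncard = 3 := by
      rw [Set.ncard_insert_of_notMem (by simp only [Set.mem_insert_iff, Set.mem_singleton_iff]; omega),
        Set.ncard_pair (by omega)]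
    refine ⟨e.isSimpleGroup, fun h => ?_, hset ▸ hn⟩
    have hz : ∀ x : G, x ∈ Subgroup.center G := fun x =>
      Subgroup.mem_center_iff.2 fun y => h.is_comm.comm y x
    rw [show {m : ℕ | ∃ x : G, x ∉ Subgroup.center G ∧
        m = (Subgroup.centralizer ({x} : Set G)).index} = ∅ from
      Set.eq_empty_of_forall_notMem fun k ⟨x, hx, _⟩ => hx (hz x)] at hset
    rw [← hset, Set.ncard_empty] at hn
    omega

end Cfsg.Agent.S3192
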