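import Cfsg.Statements.S3195
import Cfsg.Agent.Lib.Invol.BaerSuzuki
-- import your own Cfsg.Agent.* helpers here

set_option autoImplicit false
open Cfsg

namespace Cfsg.Agent.S3195


theorem mem_zpowers_pow_of_odd {G : Type*} [Group G] {y : G} (hy : Odd (orderOf y)) (k : ℕ) :
    ∃ m : ℕ, (y ^ 2 ^ k) ^ m = y := by
  have : Nat.Coprime (2 ^ k) (orderOf y) := (Nat.coprime_two_left.mpr hy).pow_left k
  exact exists_pow_eq_self_of_coprime this

theorem eq_one_of_inv_eq_self {G : Type*} [Group G] {y : G} (hy : Odd (orderOf y))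
    (h : y⁻¹ = y) : y = 1 := by
  obtain ⟨m, hm⟩ := mem_zpowers_pow_of_odd hy 1
  rw [← hm, pow_one, sq]
  have h2 : y * y = 1 := mul_eq_one_iff_eq_inv.mpr h.symm
  simp [h2]

/-- The combinatorial core: every element of odd order inverted by an involution of `A` is centralized
by another one, and every involution of `A` inverts something; contradiction. -/
theorem core {G : Type*} [Group G] (A : Subgroup G)
    (hsq : ∀ a ∈ A, a * a = 1) (hab : ∀ a ∈ A, ∀ b ∈ A, a * b = b * a)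
    (hfour : ∀ a ∈ A, ∀ b ∈ A, ∀ c ∈ A, a ≠ 1 → b ≠ 1 → a ≠ b → c ≠ 1 → c ≠ a → c ≠ b → c = a * b)
    (hex : ∃ a ∈ A, a ≠ 1)
    (hbs : ∀ a ∈ A, a ≠ 1 → ∃ x : G, x ≠ 1 ∧ Odd (orderOf x) ∧ a * x * a⁻¹ = x⁻¹)
    (hcl : ∀ a ∈ A, a ≠ 1 → ∀ z : G, z ≠ 1 → Odd (orderOf z) → a * z * a⁻¹ = z⁻¹ →
      ∃ b ∈ A, b ≠ 1 ∧ b ≠ a ∧ b * z * b⁻¹ = z) : False := by
  obtain ⟨a, ha, ha1⟩ := hex
  obtain ⟨x, hx1, hxo, hax⟩ := hbs a ha ha1
  obtain ⟨b, hb, hb1, hba, hbx⟩ := hcl a ha ha1 x hx1 hxo hax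
  obtain ⟨y, hy1, hyo, hby⟩ := hbs b hb hb1
  obtain ⟨d, hd, hd1, hdb, hdy⟩ := hcl b hb hb1 y hy1 hyo hby
  have hdx : d * x * d⁻¹ = x⁻¹ := by
    by_cases hda : d = a
    · subst hda; exact hax
    · rw [hfour a ha b hb d hd ha1 hb1 hba.symm hd1 hda hdb]
      calc a * b * x * (a * b)⁻¹ = a * (b * x * b⁻¹) * a⁻¹ := by group
        _ = x⁻¹ := by rw [hbx, hax]
  have hdbx : d * b * x * (d * b)⁻¹ = x⁻¹ := by
    calc d * b * x * (d * b)⁻¹ = d * (b * x * b⁻¹) * d⁻¹ := by group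
      _ = x⁻¹ := by rw [hbx, hdx]
  have hdby : d * b * y * (d * b)⁻¹ = y⁻¹ := by
    calc d * b * y * (d * b)⁻¹ = d * (b * y * b⁻¹) * d⁻¹ := by group
      _ = (d * y * d⁻¹)⁻¹ := by rw [hby]; group
      _ = y⁻¹ := by rw [hdy]
  have hdb1 : d * b ≠ 1 := fun h => hdb (by rw [eq_inv_of_mul_eq_one_left h]; exact inv_eq_of_mul_eq_one_left (hsq b hb))
  -- `x` and `y` commute
  have hxy : Commute y x := by
    set z := y * x * y⁻¹ with hz
    have hzo : Odd (orderOf z) := by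
      rw [hz, show y * x * y⁻¹ = MulAut.conj y x from rfl, MulEquiv.orderOf_eq]; exact hxo
    have hz1 : z ≠ 1 := by
      intro h; apply hx1; rw [hz] at h; exact conj_eq_one_iff.mp h
    have hdz : d * z * d⁻¹ = z⁻¹ := by
      calc d * z * d⁻¹ = (d * y * d⁻¹) * (d * x * d⁻¹) * (d * y * d⁻¹)⁻¹ := by rw [hz]; group
        _ = z⁻¹ := by rw [hdy, hdx, hz]; group
    obtain ⟨e, he, he1, hed, hez⟩ := hcl d hd hd1 z hz1 hzo hdz
    by_cases heb : e = b
    · subst heb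
      have h1 : e * z * e⁻¹ = y⁻¹ * x * y := by
        calc e * z * e⁻¹ = (e * y * e⁻¹) * (e * x * e⁻¹) * (e * y * e⁻¹)⁻¹ := by rw [hz]; group
          _ = y⁻¹ * x * y := by rw [hby, hbx, inv_inv]
      rw [hez, hz] at h1
      have h2 : Commute (y ^ 2 ^ 1) x := by
        show y ^ 2 ^ 1 * x = x * y ^ 2 ^ 1
        calc y ^ 2 ^ 1 * x = y * (y * x * y⁻¹) * y := by rw [pow_one, sq]; group
          _ = x * y ^ 2 ^ 1 := by rw [h1, pow_one, sq]; group
      obtain ⟨m, hm⟩ := mem_zpowers_pow_of_odd hyo 1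
      rw [← hm]; exact h2.pow_left m
    · have he' : e = d * b := hfour d hd b hb e he hd1 hb1 hdb he1 hed heb
      have h1 : e * z * e⁻¹ = y⁻¹ * x⁻¹ * y := by
        rw [he']
        calc d * b * z * (d * b)⁻¹ = (d * b * y * (d * b)⁻¹) * (d * b * x * (d * b)⁻¹) * (d * b * y * (d * b)⁻¹)⁻¹ := by
              rw [hz]; group
          _ = y⁻¹ * x⁻¹ * y := by rw [hdby, hdbx, inv_inv]
      rw [hez, hz] at h1
      have h2 : y ^ 2 * x * (y ^ 2)⁻¹ = x⁻¹ := by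
        calc y ^ 2 * x * (y ^ 2)⁻¹ = y * (y * x * y⁻¹) * y⁻¹ := by rw [sq]; group
          _ = x⁻¹ := by rw [h1]; group
      have h4 : Commute (y ^ 2 ^ 2) x := by
        show y ^ 2 ^ 2 * x = x * y ^ 2 ^ 2
        have : y ^ 2 * (y ^ 2 * x * (y ^ 2)⁻¹) * (y ^ 2)⁻¹ = x := by
          rw [h2]
          calc y ^ 2 * x⁻¹ * (y ^ 2)⁻¹ = (y ^ 2 * x * (y ^ 2)⁻¹)⁻¹ := by group
            _ = x := by rw [h2, inv_inv]
        calc y ^ 2 ^ 2 * x = y ^ 2 * (y ^ 2 * x * (y ^ 2)⁻¹) * (y ^ 2)⁻¹ * (y ^ 2) * (y ^ 2) := by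
              rw [show (2:ℕ) ^ 2 = 2 + 2 from rfl, pow_add]; group
          _ = x * y ^ 2 ^ 2 := by rw [this, mul_assoc, ← pow_add]; rfl
      obtain ⟨m, hm⟩ := mem_zpowers_pow_of_odd hyo 2
      rw [← hm]; exact h4.pow_left m
  have hu1 : x * y ≠ 1 := by
    intro h
    have hy' : y = x⁻¹ := eq_inv_of_mul_eq_one_right h
    rw [hy'] at hdy
    apply hx1
    refine eq_one_of_inv_eq_self hxo ?_
    have : d * x⁻¹ * d⁻¹ = (d * x * d⁻¹)⁻¹ := by group
    rw [this, hdx, inv_inv] at hdy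
    exact hdy.symm
  have huo : Odd (orderOf (x * y)) :=
    Odd.of_dvd_nat (hxo.mul hyo) (hxy.symm.orderOf_mul_dvd_mul_orderOf)
  have hu : d * b * (x * y) * (d * b)⁻¹ = (x * y)⁻¹ := by
    calc d * b * (x * y) * (d * b)⁻¹ = (d * b * x * (d * b)⁻¹) * (d * b * y * (d * b)⁻¹) := by group
      _ = x⁻¹ * y⁻¹ := by rw [hdbx, hdby]
      _ = (x * y)⁻¹ := by rw [mul_inv_rev, (hxy.inv_inv).eq]
  obtain ⟨f, hf, hf1, hfdb, hfu⟩ := hcl (d * b) (A.mul_mem hd hb) hdb1 _ hu1 huo hu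
  by_cases hfd : f = d
  · subst hfd
    have : x⁻¹ * y = x * y := by
      calc x⁻¹ * y = (f * x * f⁻¹) * (f * y * f⁻¹) := by rw [hdx, hdy]
        _ = f * (x * y) * f⁻¹ := by group
        _ = x * y := hfu
    exact hx1 (eq_one_of_inv_eq_self hxo (mul_right_cancel this))
  · have hfb : f = b := by
      by_contra hfb
      exact hfdb (hfour d hd b hb f hf hd1 hb1 hdb hf1 hfd hfb)
    subst hfb
    have : x * y⁻¹ = x * y := by
      calc x * y⁻¹ = (f * x * f⁻¹) * (f * y * f⁻¹) := by rw [hbx, hby]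
        _ = f * (x * y) * f⁻¹ := by group
        _ = x * y := hfu
    exact hy1 (eq_one_of_inv_eq_self hyo (mul_left_cancel this))


/-- Let A be a Klein four-subgroup of a finite group G. If every G-conjugate of every involution of A commutes with some involution of A (its centralizer meets A nontrivially), then A meets the largest normal 2-subgroup O₂(G) nontrivially. -/
theorem result {G : Type*} [Group G] [Finite G]
    (A : Subgroup G) (hA : IsKleinFour ↥A)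
    (h : ∀ a ∈ A, a ≠ 1 → ∀ g : G, A ⊓ Subgroup.centralizer ({g * a * g⁻¹} : Set G) ≠ ⊥) :
    A ⊓ Cfsg.pCore 2 G ≠ ⊥ := by
  intro hbot
  have hsq : ∀ a ∈ A, a * a = 1 := fun a ha => congrArg Subtype.val (IsKleinFour.mul_self (⟨a, ha⟩ : A))
  have hab : ∀ a ∈ A, ∀ b ∈ A, a * b = b * a := fun a ha b hb => by
    haveI := IsKleinFour.isMulCommutative (G := A)
    exact congrArg Subtype.val (IsMulCommutative.is_comm.comm (⟨a, ha⟩ : A) ⟨b, hb⟩)
  refine core A hsq hab (fun a ha b hb c hc h1 h2 h3 h4 h5 h6 => ?_) ?_ (fun a ha ha1 => ?_)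
    (fun a ha ha1 z hz1 hzo haz => ?_)
  · exact congrArg Subtype.val (IsKleinFour.eq_mul_of_ne_all (x := (⟨a, ha⟩ : A)) (y := ⟨b, hb⟩) (z := ⟨c, hc⟩)
      (fun e => h1 (congrArg Subtype.val e)) (fun e => h2 (congrArg Subtype.val e)) (fun e => h3 (congrArg Subtype.val e))
      (fun e => h4 (congrArg Subtype.val e)) (fun e => h5 (congrArg Subtype.val e)) (fun e => h6 (congrArg Subtype.val e)))
  · refine A.ne_bot_iff_exists_ne_one.mp ?_ |>.elim fun a ha => ⟨a, a.2, fun e => ha (Subtype.ext e)⟩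
    intro h
    have := hA.card_four
    rw [h, Subgroup.card_bot] at this
    omega
  · have ho : orderOf a = 2 := orderOf_eq_prime (by rw [sq]; exact hsq a ha) ha1
    refine CfsgLib.Invol.exists_inverted_odd a ho fun N hN hNp hmem => ha1 ?_
    have : a ∈ A ⊓ Cfsg.pCore 2 G := ⟨ha, le_sSup (s := {N : Subgroup G | N.Normal ∧ IsPGroup 2 N}) ⟨hN, hNp⟩ hmem⟩
    rwa [hbot, Subgroup.mem_bot] at this
  · obtain ⟨w, hw⟩ : ∃ w : G, w * w = z ∧ a * w * a⁻¹ = w⁻¹ := by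
      obtain ⟨m, hm⟩ := hzo
      refine ⟨z ^ (m + 1), ?_, ?_⟩
      · rw [← pow_add, show m + 1 + (m + 1) = orderOf z + 1 by omega, pow_succ, pow_orderOf_eq_one, one_mul]
      · rw [← conj_pow, haz, inv_pow]
    have key := h a ha ha1 w⁻¹
    rw [Ne, Subgroup.eq_bot_iff_forall] at key
    push Not at key
    obtain ⟨b, ⟨hb, hbc⟩, hb1⟩ := key
    have e : w⁻¹ * a * w⁻¹⁻¹ = z⁻¹ * a := by
      rw [← hw.1, mul_inv_rev, inv_inv]
      calc w⁻¹ * a * w = w⁻¹ * (a * w * a⁻¹) * a := by group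
        _ = w⁻¹ * w⁻¹ * a := by rw [hw.2]
    have hbc' : z⁻¹ * a * b = b * (z⁻¹ * a) := by
      rw [← e]; exact Subgroup.mem_centralizer_iff.mp hbc _ (Set.mem_singleton _)
    have hbz : b * z * b⁻¹ = z := by
      have h1 : b * z⁻¹ * b⁻¹ = z⁻¹ := by
        calc b * z⁻¹ * b⁻¹ = b * (z⁻¹ * a) * (b * a)⁻¹ := by group
          _ = z⁻¹ * a * b * (a * b)⁻¹ := by rw [hbc', hab a ha b hb]
          _ = z⁻¹ := by group
      calc b * z * b⁻¹ = (b * z⁻¹ * b⁻¹)⁻¹ := by group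
        _ = z := by rw [h1, inv_inv]
    refine ⟨b, hb, hb1, fun e' => hz1 (eq_one_of_inv_eq_self hzo ?_), hbz⟩
    rw [← haz, ← e', hbz]

end Cfsg.Agent.S3195
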