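import Cfsg.Statements.S3196
import Cfsg.Agent.Lib.PGroup.Basic
import Cfsg.Agent.Lib.Invol.BaerSuzuki
-- import your own Cfsg.Agent.* helpers here

set_option autoImplicit false
open Cfsg

namespace Cfsg.Agent.S3196


open Subgroup

section Core

variable {G : Type*} [Group G]

/-- Elementwise commuting. -/
def Perp (A B : Subgroup G) : Prop := A ≤ centralizer (B : Set G)

theorem perp_iff {A B : Subgroup G} : Perp A B ↔ ∀ a ∈ A, ∀ b ∈ B, a * b = b * a := by
  simp only [Perp, SetLike.le_def, mem_centralizer_iff, SetLike.mem_coe]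
  exact ⟨fun h a ha b hb => (h ha b hb).symm, fun h a ha b hb => (h a ha b hb).symm⟩

theorem Perp.symm {A B : Subgroup G} (h : Perp A B) : Perp B A :=
  perp_iff.2 fun b hb a ha => (perp_iff.1 h a ha b hb).symm

theorem Perp.mono {A A' B : Subgroup G} (h : Perp A B) (hA : A' ≤ A) : Perp A' B := hA.trans h

theorem Perp.sup {A A' B : Subgroup G} (h : Perp A B) (h' : Perp A' B) : Perp (A ⊔ A') B := sup_le h h'

theorem conj_perp {A B : Subgroup G} (g : G) (h : Perp A B) :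
    Perp (A.map (MulAut.conj g).toMonoidHom) (B.map (MulAut.conj g).toMonoidHom) := by
  rw [perp_iff] at h ⊢
  rintro _ ⟨a, ha, rfl⟩ _ ⟨b, hb, rfl⟩
  rw [← map_mul, ← map_mul, h a ha b hb]

theorem map_conj_of_commute {A : Subgroup G} (g : G) (h : ∀ a ∈ A, g * a = a * g) :
    A.map (MulAut.conj g).toMonoidHom = A := by
  ext y
  constructor
  · rintro ⟨a, ha, rfl⟩
    simpa [h a ha] using ha
  · intro hy
    exact ⟨y, hy, by simp [h y hy]⟩

variable [Finite G] {p : ℕ} (hp : p.Prime) (K : Set (Subgroup G)) (hK : ∀ X ∈ K, Nat.card ↥X = p)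

include hp hK

theorem le_of_mem {X : Subgroup G} (hX : X ∈ K) {x : G} (hx : x ∈ X) (hx1 : x ≠ 1) {H : Subgroup G}
    (h : x ∈ H) : X ≤ H := by
  intro y hy
  haveI : Fact p.Prime := ⟨hp⟩
  obtain ⟨k, hk⟩ := mem_zpowers_of_prime_card (hK X hX) (g := (⟨x, hx⟩ : X)) (g' := ⟨y, hy⟩)
    (fun e => hx1 (congrArg Subtype.val e))
  have : x ^ k = y := congrArg Subtype.val hk
  exact this ▸ H.zpow_mem h k

theorem perp_self {X : Subgroup G} (hX : X ∈ K) : Perp X X := by
  haveI : Fact p.Prime := ⟨hp⟩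
  haveI := isCyclic_of_prime_card (hK X hX)
  exact perp_iff.2 fun a ha b hb =>
    congrArg Subtype.val (IsMulCommutative.is_comm.comm (⟨a, ha⟩ : X) ⟨b, hb⟩)

theorem exchange {X Y Z : Subgroup G} (hX : X ∈ K) (hY : Y ∈ K) (hZ : Z ∈ K) (hXY : Perp X Y)
    (hle : Z ≤ X ⊔ Y) (hne : Z ≠ Y) : X ≤ Z ⊔ Y := by
  obtain ⟨⟨z, hz⟩, hz1⟩ := Subgroup.ne_bot_iff_exists_ne_one.mp (show Z ≠ ⊥ by
    intro h; have := hK Z hZ; rw [h, card_bot] at this; exact hp.ne_one this.symm)
  have hz' : z ≠ 1 := fun e => hz1 (Subtype.ext e)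
  have hm := hle hz
  rw [← SetLike.mem_coe, Subgroup.coe_mul_of_left_le_normalizer_right X Y
    (hXY.trans (centralizer_le_normalizer _))] at hm
  obtain ⟨x, hx, y, hy, rfl⟩ := hm
  by_cases hx1 : x = 1
  · subst hx1
    simp only [one_mul] at hz hz'
    exact absurd (le_antisymm (le_of_mem hp K hK hZ hz hz' hy) (le_of_mem hp K hK hY hy hz' hz)) hne
  · exact le_of_mem hp K hK hX hx hx1 (by
      have := mul_mem (mem_sup_left hz : x * y ∈ Z ⊔ Y) (inv_mem (mem_sup_right hy : y ∈ Z ⊔ Y))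
      simpa using this)

theorem line_le {X Y A B : Subgroup G} (hX : X ∈ K) (hY : Y ∈ K) (hA : A ∈ K) (hB : B ∈ K) (hXY : Perp X Y)
    (hAl : A ≤ X ⊔ Y) (hBl : B ≤ X ⊔ Y) (hAB : A ≠ B) : X ⊔ Y ≤ A ⊔ B := by
  have main : ∀ A B : Subgroup G, A ∈ K → B ∈ K → A ≤ X ⊔ Y → B ≤ X ⊔ Y → A ≠ B → A ≠ Y → X ⊔ Y ≤ A ⊔ B := by
    intro A B hA hB hAl hBl hAB hAY
    have h1 := exchange hp K hK hX hY hA hXY hAl hAY
    have h2 : X ⊔ Y ≤ A ⊔ Y := sup_le h1 le_sup_right
    have hpAY : Perp A Y := (hXY.sup (perp_self hp K hK hY)).mono hAl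
    have h3 := exchange hp K hK hY hA hB hpAY.symm (by rw [sup_comm]; exact hBl.trans h2) hAB.symm
    exact h2.trans (sup_le le_sup_left (h3.trans_eq (sup_comm _ _)))
  by_cases hAY : A = Y
  · rw [sup_comm A B]; exact main B A hB hA hBl hAl hAB.symm (fun h => hAB (hAY.trans h.symm))
  · exact main A B hA hB hAl hBl hAB hAY

variable (ha : ∀ X ∈ K, ∀ Y ∈ K, X ≠ Y → Perp X Y → ∀ Z : Subgroup G, Z ≤ X ⊔ Y → Nat.card ↥Z = p → Z ∈ K)
include ha

theorem third_point {X Y : Subgroup G} (hX : X ∈ K) (hY : Y ∈ K) (hne : X ≠ Y) (hXY : Perp X Y) :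
    ∃ Z ∈ K, Z ≤ X ⊔ Y ∧ Z ≠ X ∧ Z ≠ Y := by
  haveI : Fact p.Prime := ⟨hp⟩
  have hb : ∀ {A : Subgroup G}, A ∈ K → A ≠ ⊥ := fun {A} hA h => by
    have := hK A hA; rw [h, card_bot] at this; exact hp.ne_one this.symm
  obtain ⟨⟨x, hx⟩, hx1'⟩ := Subgroup.ne_bot_iff_exists_ne_one.mp (hb hX)
  obtain ⟨⟨y, hy⟩, hy1'⟩ := Subgroup.ne_bot_iff_exists_ne_one.mp (hb hY)
  have hx1 : x ≠ 1 := fun e => hx1' (Subtype.ext e)
  have hy1 : y ≠ 1 := fun e => hy1' (Subtype.ext e)
  have hxp : x ^ p = 1 := by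
    have := pow_card_eq_one' (G := X) (x := ⟨x, hx⟩); rw [hK X hX] at this; exact congrArg Subtype.val this
  have hyp : y ^ p = 1 := by
    have := pow_card_eq_one' (G := Y) (x := ⟨y, hy⟩); rw [hK Y hY] at this; exact congrArg Subtype.val this
  have hc : Commute x y := perp_iff.1 hXY x hx y hy
  have hxy1 : x * y ≠ 1 := fun h => hne (le_antisymm (le_of_mem hp K hK hX hx hx1 (by
      rw [eq_inv_of_mul_eq_one_left h]; exact inv_mem hy))
    (le_of_mem hp K hK hY hy hy1 (by rw [eq_inv_of_mul_eq_one_right h]; exact inv_mem hx)))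
  have hord : orderOf (x * y) = p := orderOf_eq_prime (by rw [hc.mul_pow, hxp, hyp, one_mul]) hxy1
  refine ⟨zpowers (x * y), ha X hX Y hY hne hXY _ ?_ (by rw [Nat.card_zpowers, hord]), ?_, ?_, ?_⟩
  · exact zpowers_le.2 (mul_mem (mem_sup_left hx) (mem_sup_right hy))
  · exact zpowers_le.2 (mul_mem (mem_sup_left hx) (mem_sup_right hy))
  · intro h
    have : x⁻¹ * (x * y) ∈ X := mul_mem (inv_mem hx) (h ▸ mem_zpowers _)
    rw [inv_mul_cancel_left] at this
    exact hne (le_antisymm (le_of_mem hp K hK hY hy hy1 this |> fun h' => (Subgroup.eq_of_le_of_card_ge h' (by rw [hK X hX, hK Y hY])).ge)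
      (le_of_mem hp K hK hY hy hy1 this))
  · intro h
    have : x * y * y⁻¹ ∈ Y := mul_mem (h ▸ mem_zpowers _) (inv_mem hy)
    rw [mul_inv_cancel_right] at this
    exact hne (Subgroup.eq_of_le_of_card_ge (le_of_mem hp K hK hX hx hx1 this) (by rw [hK X hX, hK Y hY]))

variable (hb : ∀ X ∈ K, ∀ Y ∈ K, X ≠ Y → Perp X Y → ∀ W ∈ K, ∃ Z ∈ K, Z ≤ X ⊔ Y ∧ Perp Z W)
include hb

/-- Inclusion of perps is equality, unless some member is orthogonal to all. -/
theorem eq_of_perp_le (hno : ∀ V ∈ K, ∃ W ∈ K, ¬ Perp V W) {A B : Subgroup G} (hA : A ∈ K) (hB : B ∈ K)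
    (h : ∀ R ∈ K, Perp R A → Perp R B) : A = B := by
  by_contra hne
  have hAB : Perp A B := h A hA (perp_self hp K hK hA)
  obtain ⟨C, hC, hCB⟩ := hno B hB
  have hCA : ¬ Perp C A := fun h' => hCB (h C hC h').symm
  obtain ⟨D, hD, hDl, hDC⟩ := hb A hA B hB hne hAB C hC
  have hperpD : ∀ R ∈ K, Perp R A → Perp R D := fun R hR hRA => ((hRA.symm.sup (h R hR hRA).symm).mono hDl).symm
  have hDA : Perp D A := ((perp_self hp K hK hA).sup hAB.symm).mono hDl
  obtain ⟨U, hU, hUD⟩ := hno D hD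
  have hUA : ¬ Perp U A := fun h' => hUD (hperpD U hU h').symm
  obtain ⟨D₂, hD₂, hD₂l, hD₂U⟩ := hb A hA B hB hne hAB U hU
  have hDD₂ : D ≠ D₂ := fun e => hUD (e ▸ hD₂U)
  have hCD : C ≠ D := fun e => hCA (e ▸ hDA)
  obtain ⟨E, hE, hEl, hEU⟩ := hb C hC D hD hCD hDC.symm U hU
  have hEDne : E ≠ D := fun e => hUD (e ▸ hEU)
  have hEDp : Perp E D := (hDC.symm.sup (perp_self hp K hK hD)).mono hEl
  have hUE : U ≠ E := fun e => hUD (e ▸ hEDp).symm
  obtain ⟨F, hF, hFl, hFA⟩ := hb U hU E hE hUE hEU.symm A hA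
  have hFB : Perp F B := h F hF hFA
  have hFD : Perp F D := ((hFA.symm.sup hFB.symm).mono hDl).symm
  by_cases hFE : F = E
  · subst hFE
    -- `C` lies on the line through `E` and `D`
    exact hCA (((hFA.sup hDA).mono (exchange hp K hK hC hD hF hDC.symm hEl hEDne)))
  · exact hUD ((hFD.sup hEDp).mono (exchange hp K hK hU hE hF hEU.symm hFl hFE)).symm

variable (hKc : ∀ X ∈ K, ∀ g : G, X.map (MulAut.conj g).toMonoidHom ∈ K)
include hKc

theorem exists_universal {X Y : Subgroup G} (hX : X ∈ K) (hY : Y ∈ K) (hne : X ≠ Y) (hXY : Perp X Y) :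
    ∃ V ∈ K, ∀ W ∈ K, Perp V W := by
  haveI : Fact p.Prime := ⟨hp⟩
  by_contra hno
  push Not at hno
  obtain ⟨W, hW, hWX⟩ := hno X hX
  obtain ⟨Z, hZ, hZl, hZW⟩ := hb X hX Y hY hne hXY W hW
  have hZX : Z ≠ X := fun e => hWX (e ▸ hZW)
  have hpZX : Perp Z X := ((perp_self hp K hK hX).sup hXY.symm).mono hZl
  obtain ⟨⟨x, hx⟩, hx1'⟩ := Subgroup.ne_bot_iff_exists_ne_one.mp (show X ≠ ⊥ by
    intro h; have := hK X hX; rw [h, card_bot] at this; exact hp.ne_one this.symm)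
  have hx1 : x ≠ 1 := fun e => hx1' (Subtype.ext e)
  set W' := W.map (MulAut.conj x).toMonoidHom with hW'def
  have hW' : W' ∈ K := hKc W hW x
  have hfix : ∀ R : Subgroup G, Perp R X → R.map (MulAut.conj x).toMonoidHom = R := fun R hR =>
    map_conj_of_commute x fun a haR => (perp_iff.1 hR a haR x hx).symm
  have hline : ∀ L ∈ K, L ≤ X ⊔ Y → L ≠ Z → ∃ l ∈ L, W' = W.map (MulAut.conj l).toMonoidHom := by
    intro L hL hLl hLZ
    have hm := line_le hp K hK hX hY hL hZ hXY hLl hZl hLZ (mem_sup_left hx)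
    have hall : Perp (X ⊔ Y) (X ⊔ Y) :=
      Perp.sup ((perp_self hp K hK hX).symm.sup hXY.symm).symm (hXY.sup (perp_self hp K hK hY)).symm
    have hLZp : Perp L Z := ((hall.mono hLl).symm.mono hZl).symm
    rw [← SetLike.mem_coe, Subgroup.coe_mul_of_left_le_normalizer_right L Z
      (hLZp.trans (centralizer_le_normalizer _))] at hm
    obtain ⟨l, hl, z, hz, hlz⟩ := hm
    refine ⟨l, hl, ?_⟩
    have hzW : W.map (MulAut.conj z).toMonoidHom = W :=
      map_conj_of_commute z fun w hw => perp_iff.1 hZW z hz w hw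
    rw [hW'def, ← hlz]
    conv_rhs => rw [← hzW]
    rw [Subgroup.map_map]
    congr 1
    ext g
    simp [mul_assoc]
  have hkey : ∀ R ∈ K, Perp R W → ¬ Perp R Z → Perp R W' := by
    intro R hR hRW hRZ
    obtain ⟨L, hL, hLl, hLR⟩ := hb X hX Y hY hne hXY R hR
    obtain ⟨l, hl, e⟩ := hline L hL hLl (fun e => hRZ (e ▸ hLR).symm)
    rw [e, ← map_conj_of_commute l fun a haR => perp_iff.1 hLR l hl a haR]
    exact conj_perp l hRW
  have hWW' : Perp W W' := by
    obtain ⟨R, hR, hRW, hRZ⟩ : ∃ R ∈ K, Perp R W ∧ ¬ Perp R Z := by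
      by_contra h
      push Not at h
      exact hWX ((eq_of_perp_le hp K hK ha hb hno hW hZ h).symm ▸ hpZX).symm
    have hRWne : R ≠ W := fun e => hRZ (e ▸ hZW.symm)
    obtain ⟨P, hP, hPl, hPR, hPW⟩ := third_point hp K hK ha hR hW hRWne hRW
    have hPWp : Perp P W := (hRW.sup (perp_self hp K hK hW)).mono hPl
    have hPZ : ¬ Perp P Z := fun h' => hRZ
      ((h'.sup hZW.symm).mono (exchange hp K hK hR hW hP hRW hPl hPW))
    exact ((hkey R hR hRW hRZ).sup (hkey P hP hPWp hPZ)).mono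
      (le_sup_right.trans (line_le hp K hK hR hW hR hP hRW le_sup_left hPl hPR.symm))
  have hle : ∀ R ∈ K, Perp R W → Perp R W' := by
    intro R hR hRW
    by_cases hRZ : Perp R Z
    · by_cases hRWe : R = W
      · exact hRWe ▸ hWW'
      obtain ⟨T, hT, hTl, hTX⟩ := hb R hR W hW hRWe hRW X hX
      have hTW : T ≠ W := fun e => hWX (e ▸ hTX).symm
      have hTW' : Perp T W' := by
        rw [← hfix T hTX]
        exact conj_perp x ((hRW.sup (perp_self hp K hK hW)).mono hTl)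
      exact (hTW'.sup hWW').mono (exchange hp K hK hR hW hT hRW hTl hTW)
    · exact hkey R hR hRW hRZ
  have he := eq_of_perp_le hp K hK ha hb hno hW hW' hle
  -- `x` normalizes `W`, so centralizes it
  have hn : X ≤ normalizer (W : Set G) := by
    refine le_of_mem hp K hK hX hx hx1 (H := normalizer (W : Set G)) ?_
    exact CfsgLib.Invol.mem_normalizer_of_map_conj_le he.ge
  have hT : IsPGroup p ↥(X ⊔ W) := (IsPGroup.of_card (n := 1) (by rw [hK X hX, pow_one])).to_sup_of_normal_right'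
    (IsPGroup.of_card (n := 1) (by rw [hK W hW, pow_one])) hn
  haveI : (W.subgroupOf (X ⊔ W)).Normal := Subgroup.normal_subgroupOf_sup_of_le_normalizer hn
  have hWc := CfsgLib.PGroup.le_center_of_card_eq hT (W.subgroupOf (X ⊔ W))
    (by rw [Nat.card_congr (subgroupOfEquivOfLe (le_sup_right : W ≤ X ⊔ W)).toEquiv, hK W hW])
  refine hWX (perp_iff.2 fun w hw a haX => ?_).symm
  exact (congrArg Subtype.val (mem_center_iff.1 (hWc (x := ⟨w, mem_sup_right hw⟩) hw) ⟨a, mem_sup_left haX⟩)).symm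

end Core


/-- Let p be a prime and K a set of subgroups of order p of a finite group G, closed under conjugation, such that at least two distinct members of K commute elementwise, and whenever two distinct members X, Y of K commute: every subgroup of order p of the group XY they generate belongs to K, and every member W of K has centralizer meeting XY nontrivially. Then some member V of K commutes elementwise with every member of K and lies in O_p(G); in particular G is not simple. -/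
theorem result {G : Type*} [Group G] [Finite G]
    {p : ℕ} (hp : p.Prime) (K : Set (Subgroup G)) (hK : ∀ X ∈ K, Nat.card ↥X = p)
    (hKc : ∀ X ∈ K, ∀ g : G, X.map (MulAut.conj g).toMonoidHom ∈ K)
    (hex : ∃ X ∈ K, ∃ Y ∈ K, X ≠ Y ∧ ∀ x ∈ X, ∀ y ∈ Y, x * y = y * x)
    (ha : ∀ X ∈ K, ∀ Y ∈ K, X ≠ Y → (∀ x ∈ X, ∀ y ∈ Y, x * y = y * x) →
      ∀ Z : Subgroup G, Z ≤ X ⊔ Y → Nat.card ↥Z = p → Z ∈ K)
    (hb : ∀ X ∈ K, ∀ Y ∈ K, X ≠ Y → (∀ x ∈ X, ∀ y ∈ Y, x * y = y * x) →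
      ∀ W ∈ K, (X ⊔ Y) ⊓ Subgroup.centralizer (W : Set G) ≠ ⊥) :
    (∃ V ∈ K, (∀ W ∈ K, ∀ v ∈ V, ∀ w ∈ W, v * w = w * v) ∧ V ≤ Cfsg.pCore p G) ∧ ¬ IsSimpleGroup G := by
  have hperp : ∀ X Y : Subgroup G, (∀ x ∈ X, ∀ y ∈ Y, x * y = y * x) ↔ Perp X Y := fun X Y => perp_iff.symm
  obtain ⟨X, hX, Y, hY, hne, hXY⟩ := hex
  rw [hperp] at hXY
  have hb' : ∀ X ∈ K, ∀ Y ∈ K, X ≠ Y → Perp X Y → ∀ W ∈ K, ∃ Z ∈ K, Z ≤ X ⊔ Y ∧ Perp Z W := by
    intro X hX Y hY hne hXY W hW
    haveI : Fact p.Prime := ⟨hp⟩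
    obtain ⟨⟨v, hvl, hvc⟩, hv1'⟩ := Subgroup.ne_bot_iff_exists_ne_one.mp (hb X hX Y hY hne ((hperp X Y).2 hXY) W hW)
    have hv1 : v ≠ 1 := fun e => hv1' (Subtype.ext e)
    have hvp : v ^ p = 1 := by
      have hm := hvl
      replace hm : v ∈ ((X ⊔ Y : Subgroup G) : Set G) := hm
      rw [Subgroup.coe_mul_of_left_le_normalizer_right X Y
        (hXY.trans (Subgroup.centralizer_le_normalizer _))] at hm
      obtain ⟨x, hx, y, hy, rfl⟩ := hm
      have hxp : x ^ p = 1 := by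
        have := pow_card_eq_one' (G := X) (x := ⟨x, hx⟩); rw [hK X hX] at this; exact congrArg Subtype.val this
      have hyp : y ^ p = 1 := by
        have := pow_card_eq_one' (G := Y) (x := ⟨y, hy⟩); rw [hK Y hY] at this; exact congrArg Subtype.val this
      rw [(show Commute x y from perp_iff.1 hXY x hx y hy).mul_pow, hxp, hyp, one_mul]
    refine ⟨Subgroup.zpowers v, ha X hX Y hY hne ((hperp X Y).2 hXY) _ (Subgroup.zpowers_le.2 hvl)
      (by rw [Nat.card_zpowers, orderOf_eq_prime hvp hv1]), Subgroup.zpowers_le.2 hvl, Subgroup.zpowers_le.2 hvc⟩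
  obtain ⟨V, hV, hVall⟩ := exists_universal hp K hK
    (fun X hX Y hY hne h => ha X hX Y hY hne ((hperp X Y).2 h)) hb' hKc hX hY hne hXY
  haveI : Fact p.Prime := ⟨hp⟩
  set N : Subgroup G := sSup K with hN
  haveI hNn : N.Normal := by
    rw [← Subgroup.normalizer_eq_top_iff, eq_top_iff]
    intro g _
    refine CfsgLib.Invol.mem_normalizer_of_map_conj_le ?_
    rw [hN, sSup_eq_iSup, Subgroup.map_iSup]
    refine iSup_le fun A => ?_
    rw [Subgroup.map_iSup]
    exact iSup_le fun hA => le_iSup₂_of_le _ (hKc A hA g) le_rfl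
  have hVZ : V ≤ N ⊓ Subgroup.centralizer (N : Set G) := le_inf (le_sSup hV)
    (show Perp V N from (show Perp N V from sSup_le fun A hA => (hVall A hA).symm).symm)
  set Zn := N ⊓ Subgroup.centralizer (N : Set G) with hZn
  haveI : IsMulCommutative ↥Zn :=
    ⟨⟨fun a b => Subtype.ext ((Subgroup.mem_centralizer_iff.1 b.2.2 a.1 a.2.1))⟩⟩
  refine ⟨⟨V, hV, fun W hW => (hperp V W).2 (hVall W hW), ?_⟩, fun hs => ?_⟩
  · obtain ⟨P⟩ := (inferInstance : Nonempty (Sylow p ↥Zn))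
    haveI : (P : Subgroup ↥Zn).Normal := ⟨fun a ha' b => by
      have : b * a * b⁻¹ = a := by
        rw [IsMulCommutative.is_comm.comm b a, mul_inv_cancel_right]
      rwa [this]⟩
    haveI := P.characteristic_of_normal inferInstance
    haveI : ((P : Subgroup ↥Zn).map Zn.subtype).Normal := ConjAct.normal_of_characteristic_of_normal
    refine le_trans ?_ (le_sSup (s := {N : Subgroup G | N.Normal ∧ IsPGroup p N}) ⟨this, P.2.map Zn.subtype⟩)
    have hVp : IsPGroup p ↥(V.subgroupOf Zn) :=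
      IsPGroup.of_card (n := 1) (by rw [Nat.card_congr (Subgroup.subgroupOfEquivOfLe hVZ).toEquiv, hK V hV, pow_one])
    obtain ⟨Q, hQ⟩ := hVp.exists_le_sylow
    haveI := Sylow.unique_of_normal P inferInstance
    rw [Subsingleton.elim Q P] at hQ
    intro v hv
    exact ⟨⟨v, hVZ hv⟩, hQ hv, rfl⟩
  · haveI := hs
    rcases (inferInstance : Zn.Normal).eq_bot_or_eq_top with h | h
    · have := hK V hV
      rw [le_bot_iff.1 (hVZ.trans h.le), Subgroup.card_bot] at this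
      exact hp.ne_one this.symm
    · letI : CommGroup G := { ‹Group G› with
        mul_comm := fun a b => Subgroup.mem_centralizer_iff.1 ((h.ge (Subgroup.mem_top b) : b ∈ Zn).2) a ((h.ge (Subgroup.mem_top a) : a ∈ Zn).1) }
      have hpr : (Nat.card G).Prime := IsSimpleGroup.prime_card
      have hc : Nat.card G = p := ((Nat.prime_dvd_prime_iff_eq hp hpr).1 (hK X hX ▸ X.card_subgroup_dvd_card)).symm
      exact hne ((Subgroup.eq_top_of_card_eq X (by rw [hK X hX, hc])).trans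
        (Subgroup.eq_top_of_card_eq Y (by rw [hK Y hY, hc])).symm)

end Cfsg.Agent.S3196
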