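import Cfsg.Statements.S3200
import Cfsg.Agent.Lib.Char.Burnside
import Cfsg.Agent.Lib.Solvable.Hall
-- import your own Cfsg.Agent.* helpers here

set_option autoImplicit false
open Cfsg

namespace Cfsg.Agent.S3200


universe u

open scoped Pointwise

theorem relIndex_dvd_index {G : Type u} [Group G] [Finite G] (C N : Subgroup G) [N.Normal] :
    C.relIndex N ∣ C.index := by
  have key : C.relIndex (C ⊔ N) = C.relIndex N := by
    have h1 := Subgroup.relIndex_mul_relIndex ⊥ C (C ⊔ N) bot_le le_sup_left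
    have h2 := Subgroup.relIndex_mul_relIndex ⊥ N (C ⊔ N) bot_le le_sup_right
    have h3 := Subgroup.relIndex_mul_relIndex ⊥ (C ⊓ N) C bot_le inf_le_left
    have h4 := Subgroup.relIndex_mul_relIndex ⊥ (C ⊓ N) N bot_le inf_le_right
    rw [Subgroup.inf_relIndex_left] at h3
    rw [Subgroup.inf_relIndex_right] at h4
    rw [Subgroup.relIndex_sup_right] at h2
    have hpos : 0 < (⊥ : Subgroup G).relIndex C := by
      rw [Subgroup.relIndex_bot_left]; exact Nat.card_pos
    apply Nat.eq_of_mul_eq_mul_left hpos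
    rw [h1, ← h2, ← h4, ← h3]; ring
  exact key ▸ Dvd.intro _ (Subgroup.relIndex_mul_index le_sup_left)

theorem solvable_aux : ∀ (n : ℕ) (G : Type u) [Group G] [Finite G], Nat.card G = n →
    ∀ C : Subgroup G, IsMulCommutative ↥C → ∀ k, C.index = 2 ^ k → Group.IsSolvable G := by
  intro n
  induction n using Nat.strong_induction_on with
  | _ n ih =>
  intro G _ _ hn C hC k hk
  subst hn
  haveI : Fact (Nat.Prime 2) := ⟨Nat.prime_two⟩
  by_cases hs : IsSimpleGroup G
  · by_cases hb : C = ⊥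
    · subst hb
      rw [Subgroup.index_bot] at hk
      haveI := (IsPGroup.of_card hk).isNilpotent
      infer_instance
    · obtain ⟨⟨c, hc⟩, hc'⟩ := Subgroup.ne_bot_iff_exists_ne_one.mp hb
      have hc1 : c ≠ 1 := fun e => hc' (Subtype.ext e)
      have hle : C ≤ Subgroup.centralizer ({c} : Set G) := fun x hx =>
        Subgroup.mem_centralizer_singleton_iff.mpr
          (congrArg Subtype.val (hC.is_comm.comm (⟨x, hx⟩ : C) ⟨c, hc⟩))
      obtain ⟨j, -, hj⟩ := (Nat.dvd_prime_pow Nat.prime_two).mp (hk ▸ Subgroup.index_dvd_of_le hle)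
      haveI := Fintype.ofFinite G
      have hp := CfsgLib.Char.prime_card_of_class_primePow 2 j Nat.prime_two c hc1 hj
      haveI : Fact (Nat.card G).Prime := ⟨hp⟩
      haveI := (isCyclic_of_prime_card (α := G) rfl)
      haveI := (IsPGroup.of_card (p := Nat.card G) (G := G) (n := 1) (pow_one _).symm).isNilpotent
      infer_instance
  · rcases subsingleton_or_nontrivial G with h | h
    · infer_instance
    obtain ⟨N, hN, hN1, hN2⟩ : ∃ N : Subgroup G, N.Normal ∧ N ≠ ⊥ ∧ N ≠ ⊤ := by
      by_contra hno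
      exact hs ⟨fun N hN => (eq_or_ne N ⊥).imp id fun h1 => by
        by_contra h2; exact hno ⟨N, hN, h1, h2⟩⟩
    rw [Group.isSolvable_iff_subgroup_quotient N]
    constructor
    · obtain ⟨j, -, hj⟩ := (Nat.dvd_prime_pow Nat.prime_two).mp (hk ▸ relIndex_dvd_index C N)
      refine ih _ ?_ N rfl (C.subgroupOf N) ?_ j hj
      · have := N.card_mul_index
        have h2 : 2 ≤ N.index := by
          have h0 : N.index ≠ 0 := Subgroup.index_ne_zero_of_finite
          have h1 : N.index ≠ 1 := fun e => hN2 (Subgroup.index_eq_one.mp e)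
          omega
        calc Nat.card N = Nat.card N * 1 := (mul_one _).symm
          _ < Nat.card N * N.index := Nat.mul_lt_mul_of_pos_left h2 Nat.card_pos
          _ = Nat.card G := this
      · refine ⟨⟨fun a b => Subtype.ext (Subtype.ext ?_)⟩⟩
        have h1 := congrArg Subtype.val (hC.is_comm.comm (⟨a.1.1, a.2⟩ : C) ⟨b.1.1, b.2⟩)
        simpa using h1
    · obtain ⟨j, -, hj⟩ := (Nat.dvd_prime_pow Nat.prime_two).mp
        (hk ▸ Subgroup.index_map_dvd C (QuotientGroup.mk'_surjective N))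
      refine ih _ ?_ (G ⧸ N) rfl (C.map (QuotientGroup.mk' N)) ?_ j hj
      · have := N.index_mul_card
        have h2 : 2 ≤ Nat.card N := (Subgroup.one_lt_card_iff_ne_bot N).mpr hN1
        calc Nat.card (G ⧸ N) = N.index * 1 := (mul_one _).symm
          _ < N.index * Nat.card N := Nat.mul_lt_mul_of_pos_left h2 (Nat.pos_of_ne_zero Subgroup.index_ne_zero_of_finite)
          _ = Nat.card G := this
      · refine ⟨⟨?_⟩⟩
        rintro ⟨_, a, ha, rfl⟩ ⟨_, b, hb, rfl⟩
        refine Subtype.ext ?_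
        simp only [Subgroup.coe_mul, ← map_mul]
        exact congrArg _ (congrArg Subtype.val (hC.is_comm.comm (⟨a, ha⟩ : C) ⟨b, hb⟩))

theorem isComplement_of_odd {K : Type u} [Group K] [Finite K] (P : Sylow 2 K) (D : Subgroup K)
    (hD : Odd (Nat.card D)) (hi : ∃ k, D.index = 2 ^ k) :
    Subgroup.IsComplement' (P : Subgroup K) D := by
  haveI : Fact (Nat.Prime 2) := ⟨Nat.prime_two⟩
  obtain ⟨k, hk⟩ := hi
  obtain ⟨a, ha⟩ := P.isPGroup'.exists_card_eq
  have hcop : ∀ m : ℕ, ((2:ℕ) ^ m).Coprime (Nat.card D) := fun m =>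
    Nat.Coprime.pow_left m (Nat.coprime_two_left.mpr hD)
  have hPi : Nat.Coprime 2 (P : Subgroup K).index :=
    (Nat.prime_two.coprime_iff_not_dvd).mpr P.not_dvd_index
  have e : 2 ^ a * (P : Subgroup K).index = Nat.card D * 2 ^ k := by
    rw [← ha, ← hk, Subgroup.card_mul_index, Subgroup.card_mul_index]
  have hak : 2 ^ a = 2 ^ k := Nat.dvd_antisymm
    ((hcop a).dvd_of_dvd_mul_left (e ▸ Dvd.intro _ rfl))
    ((hPi.pow_left k).dvd_of_dvd_mul_right (e ▸ Dvd.intro_left _ rfl))
  refine Subgroup.isComplement'_of_coprime ?_ (by rw [ha]; exact hcop a)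
  rw [ha, hak, ← hk, mul_comm, Subgroup.card_mul_index]


/-- Let H be a finite group in which a Sylow 2-subgroup has an abelian complement (an abelian subgroup meeting it trivially whose product with it is all of H). Then H is solvable, and every subgroup and every quotient group of H again has a Sylow 2-subgroup with an abelian complement. -/
theorem result {H : Type*} [Group H] [Finite H]
    (S : Sylow 2 H) (C : Subgroup H) (hC : IsMulCommutative ↥C) (hSC : Subgroup.IsComplement' (S : Subgroup H) C) :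
    Group.IsSolvable H ∧
    (∀ L : Subgroup H, ∃ (P : Sylow 2 ↥L) (D : Subgroup ↥L), IsMulCommutative ↥D ∧ Subgroup.IsComplement' (P : Subgroup ↥L) D) ∧
    (∀ (N : Subgroup H) [N.Normal], ∃ (P : Sylow 2 (H ⧸ N)) (D : Subgroup (H ⧸ N)),
      IsMulCommutative ↥D ∧ Subgroup.IsComplement' (P : Subgroup (H ⧸ N)) D) := by
  haveI : Fact (Nat.Prime 2) := ⟨Nat.prime_two⟩
  obtain ⟨a, ha⟩ := S.isPGroup'.exists_card_eq
  have hci : C.index = 2 ^ a := by
    have h1 := hSC.card_mul
    have h2 := C.card_mul_index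
    rw [ha, mul_comm] at h1
    exact Nat.eq_of_mul_eq_mul_left Nat.card_pos (h2.trans h1.symm)
  have hodd : Odd (Nat.card C) := by
    have h2 := hSC.symm.index_eq_card
    rw [← Nat.not_even_iff_odd, even_iff_two_dvd, ← h2]
    exact S.not_dvd_index
  have hsol : Group.IsSolvable H := solvable_aux _ H rfl C hC a hci
  refine ⟨hsol, fun L => ?_, fun N _ => ?_⟩
  · haveI := hsol
    haveI : Group.IsSolvable L := inferInstance
    obtain ⟨P⟩ := (inferInstance : Nonempty (Sylow 2 L))
    have hPi : Odd (P : Subgroup L).index := by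
      rw [← Nat.not_even_iff_odd, even_iff_two_dvd]; exact P.not_dvd_index
    obtain ⟨b, hb⟩ := P.isPGroup'.exists_card_eq
    have hcop : ((P : Subgroup L).index).Coprime (2 ^ b) :=
      Nat.Coprime.pow_right b (Nat.coprime_two_right.mpr hPi)
    have e : Nat.card L = (P : Subgroup L).index * 2 ^ b := by
      rw [← hb, Subgroup.index_mul_card]
    obtain ⟨D, hD⟩ := CfsgLib.Solvable.exists_hall e hcop
    have hDi : D.index = 2 ^ b := by
      have := D.card_mul_index
      rw [hD, e] at this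
      exact Nat.eq_of_mul_eq_mul_left (Nat.pos_of_ne_zero Subgroup.index_ne_zero_of_finite) this
    refine ⟨P, D, ?_, isComplement_of_odd P D (hD ▸ hPi) ⟨b, hDi⟩⟩
    obtain ⟨g, hg⟩ := CfsgLib.Solvable.exists_conj_le_of_coprime_index (H := C) (K := D.map L.subtype)
      (by rw [hci]; exact Nat.Coprime.pow_right a (Nat.coprime_two_right.mpr hodd))
      (by rw [Subgroup.card_map_of_injective L.subtype_injective, hD, hci]
          exact Nat.Coprime.pow_right a (Nat.coprime_two_right.mpr hPi))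
    have hin : ∀ d : D, g * (d.1.1) * g⁻¹ ∈ C := fun d => hg (by
      rw [CfsgLib.Solvable.mem_conj_smul_iff]
      refine ⟨d.1, d.2, ?_⟩
      simp [mul_assoc])
    refine ⟨⟨fun x y => Subtype.ext (Subtype.ext ?_)⟩⟩
    have h1 := congrArg Subtype.val (hC.is_comm.comm (⟨_, hin x⟩ : C) ⟨_, hin y⟩)
    simp only [Subgroup.coe_mul] at h1 ⊢
    exact mul_left_cancel (a := g) (mul_right_cancel (b := g⁻¹) (by
      calc g * ((x.1.1) * (y.1.1)) * g⁻¹ = g * x.1.1 * g⁻¹ * (g * y.1.1 * g⁻¹) := by group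
        _ = g * y.1.1 * g⁻¹ * (g * x.1.1 * g⁻¹) := h1
        _ = g * ((y.1.1) * (x.1.1)) * g⁻¹ := by group))
  · obtain ⟨P⟩ := (inferInstance : Nonempty (Sylow 2 (H ⧸ N)))
    refine ⟨P, C.map (QuotientGroup.mk' N), ?_, isComplement_of_odd P _
      (hodd.of_dvd_nat (Subgroup.card_map_dvd C (QuotientGroup.mk' N))) ?_⟩
    · refine ⟨⟨?_⟩⟩
      rintro ⟨_, x, hx, rfl⟩ ⟨_, y, hy, rfl⟩
      refine Subtype.ext ?_
      simp only [Subgroup.coe_mul, ← map_mul]
      exact congrArg _ (congrArg Subtype.val (hC.is_comm.comm (⟨x, hx⟩ : C) ⟨y, hy⟩))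
    · obtain ⟨j, -, hj⟩ := (Nat.dvd_prime_pow Nat.prime_two).mp
        (hci ▸ Subgroup.index_map_dvd C (QuotientGroup.mk'_surjective N))
      exact ⟨j, hj⟩

end Cfsg.Agent.S3200
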