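import Cfsg.Statements.S3201
import Cfsg.Agent.Lib.InvolChar.QuaternionQuot
import Cfsg.Agent.Lib.PGroup.Basic
-- import your own Cfsg.Agent.* helpers here

set_option autoImplicit false
open Cfsg

namespace Cfsg.Agent.S3201


open Subgroup

theorem main {S : Type*} [Group S] [Finite S] (hS : IsPGroup 2 S) (D : Set (Subgroup S)) (C₁ : Subgroup S)
    (h1 : C₁ ∈ D) (hle : ∀ C ∈ D, C ≤ center S) (hidx : ∀ C ∈ D, C.relIndex (center S) = 2)
    (hint : ∀ w : S, (∀ C ∈ D, w ∈ C) → w = 1)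
    (hq : ∀ C ∈ D, ∃ _ : C.Normal, ¬ IsMulCommutative (S ⧸ C) ∧ ∃! x : S ⧸ C, orderOf x = 2) :
    ∃ E Q : Subgroup S, Cfsg.IsInternalDirectProduct E Q ⊤ ∧ Cfsg.IsElementaryAbelian 2 E ∧
      ¬ IsMulCommutative ↥Q ∧ ∃! x : ↥Q, orderOf x = 2 := by
  have hZsq : ∀ c ∈ center S, c ^ 2 = 1 := by
    intro c hc
    refine hint _ fun C hC => ?_
    have h := sq_mem_of_index_two (H := C.subgroupOf (center S)) (hidx C hC) ⟨c, hc⟩
    simpa [mem_subgroupOf] using h
  have hprod : ∀ C ∈ D, ∀ u ∈ center S, ∀ v ∈ center S, u ∉ C → v ∉ C → u * v ∈ C := by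
    intro C hC u hu v hv hu' hv'
    have h := (mul_mem_iff_of_index_two (H := C.subgroupOf (center S)) (hidx C hC) (a := ⟨u, hu⟩) (b := ⟨v, hv⟩)).2
      (iff_of_false hu' hv')
    simpa [mem_subgroupOf] using h
  -- squares landing in the centre
  have hsqnot : ∀ C ∈ D, ∀ g : S, g ∉ center S → g ^ 2 ∈ center S → g ^ 2 ∉ C := by
    intro C hC g hg hg2 hmem
    obtain ⟨hn, -, x₀, -, huniq⟩ := hq C hC
    haveI := hn
    have hgC : g ∉ C := fun h => hg (hle C hC h)
    have hg' : orderOf (QuotientGroup.mk' C g) = 2 :=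
      orderOf_eq_prime (by rw [← map_pow]; exact (QuotientGroup.eq_one_iff _).2 hmem)
        (fun h => hgC ((QuotientGroup.eq_one_iff _).1 h))
    obtain ⟨w, hw, hwC⟩ : ∃ w ∈ center S, w ∉ C := by
      by_contra h
      push Not at h
      have h2 := hidx C hC
      rw [Subgroup.relIndex_eq_one.2 h] at h2
      exact absurd h2 (by norm_num)
    have hw' : orderOf (QuotientGroup.mk' C w) = 2 :=
      orderOf_eq_prime (by rw [← map_pow, hZsq w hw, map_one]) (fun h => hwC ((QuotientGroup.eq_one_iff _).1 h))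
    have he : QuotientGroup.mk' C w = QuotientGroup.mk' C g := (huniq _ hw').trans (huniq _ hg').symm
    refine hg ?_
    have h3 : w⁻¹ * g ∈ C := QuotientGroup.eq.1 he
    have := mul_mem hw (hle C hC h3)
    simpa using this
  have hsame : ∀ g h : S, g ∉ center S → g ^ 2 ∈ center S → h ∉ center S → h ^ 2 ∈ center S → g ^ 2 = h ^ 2 := by
    intro g h hg hg2 hh hh2
    refine eq_of_mul_inv_eq_one (hint _ fun C hC => ?_)
    exact hprod C hC _ hg2 _ (inv_mem hh2) (hsqnot C hC g hg hg2) (fun he => hsqnot C hC h hh hh2 (by simpa using inv_mem he))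
  obtain ⟨hn₁, hna, hu⟩ := hq C₁ h1
  haveI := hn₁
  obtain ⟨n, hn, e, -⟩ := CfsgLib.InvolChar.quaternion_data hS C₁ hna hu
  obtain ⟨n', rfl⟩ : ∃ n', n = n' + 1 := ⟨n - 1, by omega⟩
  set N := 2 ^ (n' + 1) with hN
  obtain ⟨a, ha⟩ := QuotientGroup.mk'_surjective C₁ (e.symm (QuaternionGroup.a 1))
  obtain ⟨b, hb⟩ := QuotientGroup.mk'_surjective C₁ (e.symm (QuaternionGroup.xa 0))
  have ha' : e (QuotientGroup.mk' C₁ a) = QuaternionGroup.a 1 := by rw [ha, e.apply_symm_apply]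
  have hb' : e (QuotientGroup.mk' C₁ b) = QuaternionGroup.xa 0 := by rw [hb, e.apply_symm_apply]
  have hz : ∀ c ∈ center S, ∀ g : S, g * c = c * g := fun c hc => mem_center_iff.mp hc
  -- elements of the centre map to central elements
  have hcent : ∀ c ∈ center S, ∀ u : QuaternionGroup N, u * e (QuotientGroup.mk' C₁ c) = e (QuotientGroup.mk' C₁ c) * u := by
    intro c hc u
    obtain ⟨v, rfl⟩ := e.surjective u
    obtain ⟨g, rfl⟩ := QuotientGroup.mk'_surjective C₁ v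
    rw [← map_mul, ← map_mul, ← map_mul, ← map_mul, hz c hc g]
  set h := a ^ 2 ^ n' with hh
  have hN2 : 2 ^ n' + 2 ^ n' = N := by rw [hN, pow_succ]; ring
  have heh : e (QuotientGroup.mk' C₁ h) = QuaternionGroup.a ((2 ^ n' : ℕ) : ZMod (2 * N)) := by
    rw [hh, map_pow, map_pow, ha', QuaternionGroup.a_one_pow]
  have hcommsq : ∀ g : S, e (QuotientGroup.mk' C₁ g) = QuaternionGroup.a (N : ZMod (2 * N)) → g ∈ center S := by
    -- the involution of the quotient comes from the centre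
    intro g hg
    obtain ⟨w, hw, hwC⟩ : ∃ w ∈ center S, w ∉ C₁ := by
      by_contra h'
      push Not at h'
      have h2 := hidx C₁ h1
      rw [Subgroup.relIndex_eq_one.2 h'] at h2
      exact absurd h2 (by norm_num)
    obtain ⟨x₀, -, huniq⟩ := hu
    have hw' : orderOf (QuotientGroup.mk' C₁ w) = 2 :=
      orderOf_eq_prime (by rw [← map_pow, hZsq w hw, map_one]) (fun h' => hwC ((QuotientGroup.eq_one_iff _).1 h'))
    have hg' : orderOf (QuotientGroup.mk' C₁ g) = 2 := by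
      rw [← MulEquiv.orderOf_eq e, hg, ← QuaternionGroup.a_one_pow, orderOf_pow' _ (by rw [hN]; positivity),
        QuaternionGroup.orderOf_a_one, Nat.gcd_mul_left_left, Nat.mul_div_cancel _ (by rw [hN]; positivity)]
    have h3 : w⁻¹ * g ∈ C₁ := QuotientGroup.eq.1 ((huniq _ hw').trans (huniq _ hg').symm)
    simpa using mul_mem hw (hle C₁ h1 h3)
  have hhZ : h ∉ center S := by
    intro hc
    have h4 := hcent h hc (QuaternionGroup.xa 0)
    rw [heh, QuaternionGroup.xa_mul_a, QuaternionGroup.a_mul_xa, zero_add, zero_sub] at h4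
    injection h4 with h5
    rw [eq_neg_iff_add_eq_zero, ← Nat.cast_add, hN2] at h5
    have := Nat.le_of_dvd (by rw [hN]; positivity) ((ZMod.natCast_eq_zero_iff N (2 * N)).1 h5)
    have : 0 < N := by rw [hN]; positivity
    omega
  have hh2 : h ^ 2 = a ^ N := by rw [hh, ← pow_mul, hN, pow_succ]
  have haN : a ^ N ∈ center S := hcommsq _ (by rw [map_pow, map_pow, ha', QuaternionGroup.a_one_pow])
  -- all squares are powers of `a ^ 2`
  have hsq : ∀ g : S, g ^ 2 ∈ zpowers (a ^ 2) := by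
    intro g
    have haN' : a ^ N ∈ zpowers (a ^ 2) := ⟨(2 ^ n' : ℕ), by
      show (a ^ 2) ^ ((2 ^ n' : ℕ) : ℤ) = a ^ N
      rw [zpow_natCast, ← pow_mul, hN, pow_succ']⟩
    obtain ⟨i, c, hc, rfl | rfl⟩ := CfsgLib.InvolChar.exists_normal_form C₁ e ha' hb' g
    · refine ⟨i, ?_⟩
      show (a ^ 2) ^ (i : ℤ) = (a ^ i * c) ^ 2
      rw [Commute.mul_pow (show Commute (a ^ i) c from hz c (hle C₁ h1 hc) _), hZsq c (hle C₁ h1 hc),
        mul_one, zpow_natCast, ← pow_mul, ← pow_mul, mul_comm]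
    · have hgi : e (QuotientGroup.mk' C₁ (b * a ^ i * c)) = QuaternionGroup.xa (i : ZMod (2 * N)) := by
        rw [map_mul, map_mul, map_mul, map_mul, map_pow, map_pow, ha', hb', QuaternionGroup.a_one_pow,
          QuaternionGroup.xa_mul_a, zero_add,
          show QuotientGroup.mk' C₁ c = 1 from (QuotientGroup.eq_one_iff _).2 hc, map_one, mul_one]
      have hgZ : b * a ^ i * c ∉ center S := by
        intro hc'
        have h4 := hcent _ hc' (QuaternionGroup.a 1)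
        rw [hgi, QuaternionGroup.xa_mul_a, QuaternionGroup.a_mul_xa] at h4
        injection h4 with h5
        have h6 : ((2 : ℕ) : ZMod (2 * N)) = 0 := by
          have := sub_eq_zero.mpr h5.symm
          push_cast
          rw [← this]; ring
        have := Nat.le_of_dvd (by norm_num) ((ZMod.natCast_eq_zero_iff 2 (2 * N)).1 h6)
        have : 2 ≤ N := by rw [hN, pow_succ]; have := Nat.one_le_two_pow (n := n'); omega
        omega
      rw [hsame _ h hgZ (hcommsq _ (by rw [map_pow, map_pow, hgi]; exact QuaternionGroup.xa_sq _)) hhZ (hh2 ▸ haN), hh2]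
      exact haN'
  set K := zpowers (a ^ 2) with hK
  haveI hKn : K.Normal := by
    refine ⟨fun x hx g => ?_⟩
    obtain ⟨i, rfl⟩ := hx
    have : g * (a ^ 2) ^ i * g⁻¹ = (g * a ^ i * g⁻¹) ^ 2 := by
      rw [conj_pow, ← zpow_natCast, ← zpow_natCast, ← zpow_mul, ← zpow_mul, mul_comm]
    rw [this]; exact hsq _
  have hKC : ∀ x ∈ K, x ∈ C₁ → x = 1 := by
    rintro _ ⟨i, rfl⟩ hx
    have h5 : e (QuotientGroup.mk' C₁ ((a ^ 2) ^ i)) = 1 := by
      rw [show QuotientGroup.mk' C₁ ((a ^ 2) ^ i) = 1 from (QuotientGroup.eq_one_iff _).2 hx, map_one]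
    rw [map_zpow, map_zpow, map_pow, map_pow, ha', ← zpow_natCast, ← zpow_mul, ← orderOf_dvd_iff_zpow_eq_one,
      QuaternionGroup.orderOf_a_one] at h5
    obtain ⟨j, hj⟩ := h5
    push_cast at hj
    have hi : i = (N : ℤ) * j := by linarith
    show (a ^ 2) ^ i = 1
    rw [hi, zpow_mul, zpow_natCast, ← pow_mul, mul_comm, pow_mul, hZsq _ haN, one_zpow]
  -- a maximal subgroup above `K` meeting `C₁` trivially
  obtain ⟨Q, ⟨hKQ, hQC⟩, hmax⟩ := wellFounded_gt.has_min {Q : Subgroup S | K ≤ Q ∧ Q ⊓ C₁ = ⊥}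
    ⟨K, le_rfl, (Subgroup.eq_bot_iff_forall _).2 fun x hx => hKC x hx.1 hx.2⟩
  have hsqQ : ∀ g : S, g ^ 2 ∈ Q := fun g => hKQ (hsq g)
  haveI hQn : Q.Normal := by
    refine ⟨fun x hx g => ?_⟩
    have : g * x * g⁻¹ = (g * x) ^ 2 * (x⁻¹) ^ 2 * (x * (g⁻¹) ^ 2 * x⁻¹) * x := by
      rw [sq, sq, sq]; group
    rw [this]
    exact mul_mem (mul_mem (mul_mem (hsqQ _) (hsqQ _)) (hKQ (hKn.conj_mem _ (hsq _) _))) hx
  have htop : C₁ ⊔ Q = ⊤ := by
    rw [eq_top_iff]
    intro x _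
    by_contra hx
    refine hmax (Q ⊔ zpowers x) ⟨hKQ.trans le_sup_left, ?_⟩ (lt_of_le_of_ne le_sup_left fun he =>
      hx ((le_sup_right : Q ≤ C₁ ⊔ Q) (he ▸ (le_sup_right : zpowers x ≤ Q ⊔ zpowers x) (mem_zpowers x))))
    rw [Subgroup.eq_bot_iff_forall]
    rintro w ⟨hw, hwC⟩
    have hw' : w ∈ ((Q ⊔ zpowers x : Subgroup S) : Set S) := hw
    rw [Subgroup.normal_mul] at hw'
    obtain ⟨q, hq', _, ⟨i, rfl⟩, rfl⟩ := hw'
    rcases Int.even_or_odd i with ⟨l, rfl⟩ | ⟨l, rfl⟩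
    · have hxQ : x ^ (l + l) ∈ Q := by
        rw [zpow_add, ← sq]; exact hsqQ _
      exact (Subgroup.eq_bot_iff_forall _).1 hQC _ ⟨mul_mem hq' hxQ, hwC⟩
    · exfalso
      apply hx
      have hxQ : x ^ (2 * l) ∈ Q := by rw [mul_comm, zpow_mul, zpow_ofNat]; exact hsqQ _
      have e2 : x = (x ^ (2 * l))⁻¹ * q⁻¹ * (q * x ^ (2 * l + 1)) := by
        rw [zpow_add, zpow_one]; group
      rw [e2]
      exact mul_mem (mem_sup_right (mul_mem (inv_mem hxQ) (inv_mem hq'))) (mem_sup_left hwC)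
  refine ⟨C₁, Q, ⟨le_top, le_top, fun c hc g _ => (hz c (hle C₁ h1 hc) g).symm, by rwa [inf_comm], htop⟩,
    ⟨⟨⟨fun x y => Subtype.ext (hz (y : S) (hle C₁ h1 y.2) x)⟩⟩, fun x hx => hZsq x (hle C₁ h1 hx)⟩, ?_⟩
  let f : Q →* S ⧸ C₁ := (QuotientGroup.mk' C₁).comp Q.subtype
  have hfb : Function.Bijective f := by
    refine ⟨fun x y hxy => ?_, fun v => ?_⟩
    · have h3 : (x : S)⁻¹ * y ∈ C₁ := QuotientGroup.eq.1 hxy
      have h4 := (Subgroup.eq_bot_iff_forall _).1 hQC _ (mem_inf.2 ⟨mul_mem (inv_mem x.2) y.2, h3⟩)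
      exact Subtype.ext (inv_mul_eq_one.1 h4)
    · obtain ⟨g, rfl⟩ := QuotientGroup.mk'_surjective C₁ v
      have hg : g ∈ C₁ ⊔ Q := htop ▸ mem_top g
      rw [← SetLike.mem_coe, Subgroup.normal_mul] at hg
      obtain ⟨c, hc, q, hq', rfl⟩ := hg
      refine ⟨⟨q, hq'⟩, ?_⟩
      show QuotientGroup.mk' C₁ q = QuotientGroup.mk' C₁ (c * q)
      rw [map_mul, show QuotientGroup.mk' C₁ c = 1 from (QuotientGroup.eq_one_iff _).2 hc, one_mul]
  let g := MulEquiv.ofBijective f hfb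
  refine ⟨fun h' => hna ⟨⟨fun x y => ?_⟩⟩, ?_⟩
  · obtain ⟨x, rfl⟩ := g.surjective x
    obtain ⟨y, rfl⟩ := g.surjective y
    rw [← map_mul, ← map_mul, h'.is_comm.comm x y]
  · obtain ⟨x₀, hx₀, huniq⟩ := hu
    refine ⟨g.symm x₀, by simpa using hx₀, fun y hy => ?_⟩
    rw [← huniq (g y) (by simpa using hy), g.symm_apply_apply]


/-- Let S be a finite 2-group whose centre Z(S) has n ≥ 2 distinct maximal subgroups C₁, …, Cₙ with trivial intersection such that each quotient S/Cᵢ is a non-abelian group with exactly one involution (a generalized quaternion group). Then S is the internal direct product of an elementary abelian subgroup and a non-abelian subgroup with exactly one involution. -/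
theorem result {S : Type*} [Group S] [Finite S]
    (hS : IsPGroup 2 S) (n : ℕ) (hn : 2 ≤ n) (C : Fin n → Subgroup ↥(Subgroup.center S))
    (hCmax : ∀ i, IsCoatom (C i)) (hCinj : Function.Injective C) (hCint : ⨅ i, C i = ⊥)
    (hCq : ∀ i, ∃ (_ : ((C i).map (Subgroup.center S).subtype).Normal),
      ¬ IsMulCommutative (S ⧸ (C i).map (Subgroup.center S).subtype) ∧
      ∃! x : S ⧸ (C i).map (Subgroup.center S).subtype, orderOf x = 2) :
    ∃ E Q : Subgroup S, Cfsg.IsInternalDirectProduct E Q ⊤ ∧ Cfsg.IsElementaryAbelian 2 E ∧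
      ¬ IsMulCommutative ↥Q ∧ ∃! x : ↥Q, orderOf x = 2 := by
  refine main hS (Set.range fun i => (C i).map (Subgroup.center S).subtype) _ ⟨⟨0, by omega⟩, rfl⟩ ?_ ?_ ?_ ?_
  · rintro _ ⟨i, rfl⟩
    exact Subgroup.map_subtype_le _
  · rintro _ ⟨i, rfl⟩
    rw [Subgroup.relIndex, Subgroup.subgroupOf,
      Subgroup.comap_map_eq_self_of_injective (Subgroup.center S).subtype_injective]
    haveI : Fact (Nat.Prime 2) := ⟨Nat.prime_two⟩
    exact CfsgLib.PGroup.index_of_isCoatom (hS.to_subgroup _) (hCmax i)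
  · intro w hw
    obtain ⟨v, hv, hvw⟩ := hw _ ⟨⟨0, by omega⟩, rfl⟩
    have : v ∈ ⨅ i, C i := Subgroup.mem_iInf.2 fun i => by
      obtain ⟨u, hu, huw⟩ := hw _ ⟨i, rfl⟩
      have : u = v := Subgroup.subtype_injective _ (huw.trans hvw.symm)
      rwa [← this]
    rw [hCint, Subgroup.mem_bot] at this
    rw [← hvw, this]; rfl
  · rintro _ ⟨i, rfl⟩
    exact hCq i

end Cfsg.Agent.S3201
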