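import Cfsg.Statements.S3202
import Cfsg.Agent.Lib.InvolChar.QuaternionQuot
import Cfsg.Agent.Lib.Invol.BaerSuzuki
-- import your own Cfsg.Agent.* helpers here

set_option autoImplicit false
open Cfsg

namespace Cfsg.Agent.S3202


open Subgroup
open scoped commutatorElement

theorem cyclic_commutator {S : Type*} [Group S] [Finite S] (hS : IsPGroup 2 S) (C : Subgroup S) [C.Normal]
    (hC : C ≤ center S) (hna : ¬ IsMulCommutative (S ⧸ C)) (hu : ∃! x : S ⧸ C, orderOf x = 2) :
    commutator S ≠ ⊥ ∧ IsCyclic (commutator S) := by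
  obtain ⟨n, hn, e, -⟩ := CfsgLib.InvolChar.quaternion_data hS C hna hu
  refine ⟨fun h => hna ⟨⟨fun x y => ?_⟩⟩, ?_⟩
  · obtain ⟨x, rfl⟩ := QuotientGroup.mk'_surjective C x
    obtain ⟨y, rfl⟩ := QuotientGroup.mk'_surjective C y
    have h1 : ⁅x, y⁆ ∈ commutator S := commutator_mem_commutator (mem_top _) (mem_top _)
    rw [h, mem_bot, commutatorElement_eq_one_iff_mul_comm] at h1
    rw [← map_mul, h1, map_mul]
  obtain ⟨a, ha⟩ := QuotientGroup.mk'_surjective C (e.symm (QuaternionGroup.a 1))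
  obtain ⟨b, hb⟩ := QuotientGroup.mk'_surjective C (e.symm (QuaternionGroup.xa 0))
  have ha' : e (QuotientGroup.mk' C a) = QuaternionGroup.a 1 := by rw [ha, e.apply_symm_apply]
  have hb' : e (QuotientGroup.mk' C b) = QuaternionGroup.xa 0 := by rw [hb, e.apply_symm_apply]
  have hz : ∀ c ∈ C, ∀ g : S, g * c = c * g := fun c hc => mem_center_iff.mp (hC hc)
  have hc0 : b * a * b⁻¹ * a ∈ C := by
    apply (QuotientGroup.eq_one_iff _).1
    apply e.injective
    show e (QuotientGroup.mk' C (b * a * b⁻¹ * a)) = e 1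
    rw [map_one, mul_assoc _ b⁻¹]
    simp only [map_mul, map_inv, ha', hb']
    rw [← mul_assoc, mul_inv_eq_iff_eq_mul.mpr]
    · exact inv_mul_cancel (QuaternionGroup.a 1)
    · rw [eq_inv_mul_iff_mul_eq, QuaternionGroup.xa_mul_a, QuaternionGroup.a_mul_xa, zero_add, sub_self]
  set c₀ := b * a * b⁻¹ * a with hc₀
  have hbab : b * a * b⁻¹ = c₀ * a⁻¹ := by rw [hc₀]; group
  set d := ⁅a, b⁆ with hd
  have hd1 : d = a * a * c₀⁻¹ := by
    calc d = a * (b * a * b⁻¹)⁻¹ := by rw [hd, commutatorElement_def]; group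
      _ = a * a * c₀⁻¹ := by rw [hbab]; group
  have hda : a * d * a⁻¹ = d := by
    calc a * d * a⁻¹ = a * a * (a * c₀⁻¹) * a⁻¹ := by rw [hd1]; group
      _ = a * a * (c₀⁻¹ * a) * a⁻¹ := by rw [hz _ (inv_mem hc0) a]
      _ = d := by rw [hd1]; group
  have hdb : b * d * b⁻¹ = d⁻¹ := by
    calc b * d * b⁻¹ = (b * a * b⁻¹) * (b * a * b⁻¹) * (b * c₀⁻¹ * b⁻¹) := by rw [hd1]; group
      _ = (c₀ * a⁻¹) * (c₀ * a⁻¹) * c₀⁻¹ := by rw [hbab, hz _ (inv_mem hc0) b]; group
      _ = c₀ * a⁻¹ * (c₀ * (a⁻¹ * c₀⁻¹)) := by group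
      _ = c₀ * a⁻¹ * (c₀ * (c₀⁻¹ * a⁻¹)) := by rw [hz _ (inv_mem hc0) a⁻¹]
      _ = d⁻¹ := by rw [hd1]; group
  haveI hN : (zpowers d).Normal := by
    rw [← normalizer_eq_top_iff, eq_top_iff]
    have hgen : ∀ x : S, x * d * x⁻¹ ∈ zpowers d → x ∈ normalizer (zpowers d : Set S) := by
      intro x hx
      have hle : (zpowers d).map (MulAut.conj x).toMonoidHom ≤ zpowers d := by
        rw [MonoidHom.map_zpowers, zpowers_le]; exact hx
      exact CfsgLib.Invol.mem_normalizer_of_map_conj_le hle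
    have hbn := hgen b (by rw [hdb]; exact inv_mem (mem_zpowers d))
    have han := hgen a (by rw [hda]; exact mem_zpowers d)
    have hcn : ∀ c ∈ C, c ∈ normalizer (zpowers d : Set S) := fun c hc => hgen c (by
      rw [← hz c hc d, mul_inv_cancel_right]; exact mem_zpowers d)
    intro g _
    obtain ⟨i, c, hc, rfl | rfl⟩ := CfsgLib.InvolChar.exists_normal_form C e ha' hb' g
    · exact mul_mem (pow_mem han i) (hcn c hc)
    · exact mul_mem (mul_mem hbn (pow_mem han i)) (hcn c hc)
  refine (fun h => isCyclic_of_injective _ (inclusion_injective h) : commutator S ≤ zpowers d → _) ?_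
  set π := QuotientGroup.mk' (zpowers d)
  have hab : Commute (π a) (π b) := by
    have : π ⁅a, b⁆ = 1 := (QuotientGroup.eq_one_iff _).2 (mem_zpowers d)
    rw [map_commutatorElement, commutatorElement_eq_one_iff_mul_comm] at this
    exact this
  have hcc : ∀ c ∈ C, ∀ w, Commute (π c) (π w) := fun c hc w => by
    rw [Commute, SemiconjBy, ← map_mul, ← map_mul, hz c hc w]
  have hall : ∀ g, Commute (π a) (π g) ∧ Commute (π b) (π g) := by
    intro g
    obtain ⟨i, c, hc, rfl | rfl⟩ := CfsgLib.InvolChar.exists_normal_form C e ha' hb' g <;>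
      simp only [map_mul, map_pow]
    · exact ⟨((Commute.refl _).pow_right i).mul_right (hcc c hc a).symm, (hab.symm.pow_right i).mul_right (hcc c hc b).symm⟩
    · exact ⟨(hab.mul_right ((Commute.refl _).pow_right i)).mul_right (hcc c hc a).symm,
        ((Commute.refl _).mul_right (hab.symm.pow_right i)).mul_right (hcc c hc b).symm⟩
  rw [_root_.commutator_def, commutator_le]
  intro g _ h _
  apply (QuotientGroup.eq_one_iff _).1
  show π ⁅g, h⁆ = 1
  rw [map_commutatorElement, commutatorElement_eq_one_iff_mul_comm]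
  obtain ⟨i, c, hc, rfl | rfl⟩ := CfsgLib.InvolChar.exists_normal_form C e ha' hb' g <;>
    simp only [map_mul, map_pow]
  · exact (((hall h).1.pow_left i).mul_left (hcc c hc h)).eq
  · exact (((hall h).2.mul_left ((hall h).1.pow_left i)).mul_left (hcc c hc h)).eq


/-- Let S be a finite 2-group of 2-rank exactly 2 and D a maximal subgroup of the centre of S such that S/D is a non-abelian group with exactly one involution (a generalized quaternion group). Then S has a nontrivial cyclic characteristic subgroup. -/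
theorem result {S : Type*} [Group S]
    [Finite S] (hS : IsPGroup 2 S) (hr2 : Cfsg.PRankLE 2 2 S) (hr1 : ¬ Cfsg.PRankLE 2 1 S)
    (D : Subgroup ↥(Subgroup.center S)) (hD : IsCoatom D)
    (hq : ∃ (_ : (D.map (Subgroup.center S).subtype).Normal),
      ¬ IsMulCommutative (S ⧸ D.map (Subgroup.center S).subtype) ∧
      ∃! x : S ⧸ D.map (Subgroup.center S).subtype, orderOf x = 2) :
    ∃ C : Subgroup S, C ≠ ⊥ ∧ IsCyclic ↥C ∧ C.Characteristic := by
  obtain ⟨hn, hna, hu⟩ := hq
  haveI := hn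
  obtain ⟨h1, h2⟩ := cyclic_commutator hS _ (Subgroup.map_subtype_le D) hna hu
  exact ⟨commutator S, h1, h2, inferInstance⟩

end Cfsg.Agent.S3202
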