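import Cfsg.Statements.S3203
import Mathlib
import Cfsg.Agent.Lib.PGroup.ElemAbelian
import Cfsg.Agent.Lib.Transfer.Fusion
-- import your own Cfsg.Agent.* helpers here

set_option autoImplicit false
open Cfsg

namespace Cfsg.Agent.S3203

section
variable {G : Type*} [Group G]

/-- conjugate subgroup -/
def cj (g : G) (H : Subgroup G) : Subgroup G := H.map (MulAut.conj g).toMonoidHom

theorem mem_cj {g x : G} {H : Subgroup G} : x ∈ cj g H ↔ g⁻¹ * x * g ∈ H := by
  constructor
  · rintro ⟨y, hy, rfl⟩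
    simpa [mul_assoc] using hy
  · intro h
    exact ⟨_, h, by simp [mul_assoc]⟩

theorem cj_cj (g h : G) (H : Subgroup G) : cj g (cj h H) = cj (g * h) H := by
  ext x; rw [mem_cj, mem_cj, mem_cj, show h⁻¹ * (g⁻¹ * x * g) * h = (g * h)⁻¹ * x * (g * h) by group]

theorem cj_one (H : Subgroup G) : cj 1 H = H := by ext x; simp [mem_cj]

theorem cj_mono (g : G) {H K : Subgroup G} (h : H ≤ K) : cj g H ≤ cj g K := Subgroup.map_mono h

theorem cj_inj {g : G} {H K : Subgroup G} (h : cj g H = cj g K) : H = K := by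
  have := congrArg (cj g⁻¹) h
  rwa [cj_cj, cj_cj, inv_mul_cancel, cj_one, cj_one] at this

theorem cj_elem {g : G} {H : Subgroup G} (hH : Cfsg.IsElementaryAbelian 2 H) :
    Cfsg.IsElementaryAbelian 2 (cj g H) := by
  refine CfsgLib.PGroup.isElementaryAbelian_mk ?_ ?_
  · rintro _ ⟨a, ha, rfl⟩ _ ⟨b, hb, rfl⟩
    rw [← map_mul, ← map_mul, CfsgLib.PGroup.elemAb_comm hH ha hb]
  · rintro _ ⟨a, ha, rfl⟩
    rw [← map_pow, hH.2 a ha, map_one]

theorem cj_eq_iff {g : G} {H : Subgroup G} : cj g H = H ↔ g ∈ Subgroup.normalizer (H : Set G) := by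
  rw [Subgroup.mem_normalizer_iff]
  constructor
  · intro h x
    have := SetLike.ext_iff.1 h (g * x * g⁻¹)
    rw [mem_cj] at this
    simpa [mul_assoc] using this
  · intro h
    ext x
    rw [mem_cj]
    have := h (g⁻¹ * x * g)
    simpa [mul_assoc] using this

theorem le_centralizer_cj {g : G} {H K : Subgroup G} (h : K ≤ Subgroup.centralizer (H : Set G)) :
    cj g K ≤ Subgroup.centralizer (cj g H : Set G) := by
  rintro _ ⟨k, hk, rfl⟩
  rw [Subgroup.mem_centralizer_iff]
  rintro _ ⟨a, ha, rfl⟩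
  rw [← map_mul, ← map_mul, Subgroup.mem_centralizer_iff.1 (h hk) a ha]

variable [Finite G]

theorem weak (S : Sylow 2 G) (A B : Subgroup G) (hAS : A ≤ (S : Subgroup G)) (hBS : B ≤ (S : Subgroup G))
    (hA : Cfsg.IsElementaryAbelian 2 A) (hB : Cfsg.IsElementaryAbelian 2 B)
    (hnAB : ¬ A ≤ B) (hnBA : ¬ B ≤ A)
    (hcover : ∀ C : Subgroup G, C ≤ (S : Subgroup G) → Cfsg.IsElementaryAbelian 2 C → C ≤ A ∨ C ≤ B)
    (hSA : (S : Subgroup G) ≤ Subgroup.normalizer (A : Set G))
    (hSB : (S : Subgroup G) ≤ Subgroup.normalizer (B : Set G))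
    (hprod : ∀ s ∈ (S : Subgroup G), ∃ a ∈ A, ∃ b ∈ B, a * b = s) :
    ∀ g : G, cj g A ≤ (S : Subgroup G) → cj g A = A := by
  haveI : Fact (Nat.Prime 2) := ⟨Nat.prime_two⟩
  have hAc : A ≤ Subgroup.centralizer (A : Set G) := fun a ha =>
    Subgroup.mem_centralizer_iff.2 fun y hy => CfsgLib.PGroup.elemAb_comm hA hy ha
  -- `A` contains every `2`-subgroup of its centralizer
  have hsyl : ∀ Q : Subgroup G, IsPGroup 2 ↥Q → Q ≤ Subgroup.centralizer (A : Set G) → Q ≤ A := by
    intro Q hQ hQC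
    set R := Q ⊔ A with hR
    have hCN : Subgroup.centralizer (A : Set G) ≤ Subgroup.normalizer (A : Set G) :=
      Subgroup.centralizer_le_normalizer _
    have hRp : IsPGroup 2 ↥R := hQ.to_sup_of_normal_right' (S.2.to_le hAS) (hQC.trans hCN)
    have hRC : R ≤ Subgroup.centralizer (A : Set G) := sup_le hQC hAc
    obtain ⟨h, hh, hmem⟩ := CfsgLib.Transfer.exists_conj_mem_sylow_of_le S hSA (hRC.trans hCN) hRp
    have hRA : cj h R ≤ A := by
      rintro _ ⟨r, hr, rfl⟩
      have h1 : (MulAut.conj h).toMonoidHom r ∈ (S : Subgroup G) := hmem r hr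
      have h2 : (MulAut.conj h).toMonoidHom r ∈ Subgroup.centralizer (A : Set G) := by
        have := le_centralizer_cj (g := h) hRC (Subgroup.mem_map_of_mem _ hr)
        rwa [cj_eq_iff.2 hh] at this
      obtain ⟨a, ha, b, hb, hab⟩ := hprod _ h1
      have hbC : b ∈ Subgroup.centralizer (A : Set G) := by
        rw [show b = a⁻¹ * (MulAut.conj h).toMonoidHom r by rw [← hab]; group]
        exact mul_mem (inv_mem (hAc ha)) h2
      have hbA : b ∈ A := by
        have hbn : A ⊔ Subgroup.zpowers b ≤ (S : Subgroup G) :=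
          sup_le hAS (Subgroup.zpowers_le.2 (hBS hb))
        have hsub : A ⊔ Subgroup.zpowers b = Subgroup.closure ((A : Set G) ∪ {b}) := by
          rw [Subgroup.closure_union, Subgroup.closure_eq, ← Subgroup.zpowers_eq_closure]
        have hel : Cfsg.IsElementaryAbelian 2 (A ⊔ Subgroup.zpowers b) := by
          have hc : ∀ x ∈ A ⊔ Subgroup.zpowers b, x ∈ Subgroup.centralizer ((A : Set G) ∪ {b}) := by
            intro x hx
            refine sup_le (fun y hy => ?_) (Subgroup.zpowers_le.2 ?_) hx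
            · rw [Subgroup.mem_centralizer_iff]
              rintro z (hz | hz)
              · exact CfsgLib.PGroup.elemAb_comm hA hz hy
              · rw [Set.mem_singleton_iff] at hz
                rw [hz]; exact (Subgroup.mem_centralizer_iff.1 hbC y hy).symm
            · rw [Subgroup.mem_centralizer_iff]
              rintro z (hz | hz)
              · exact Subgroup.mem_centralizer_iff.1 hbC z hz
              · rw [Set.mem_singleton_iff] at hz
                rw [hz]
          have hcomm : ∀ x ∈ A ⊔ Subgroup.zpowers b, ∀ y ∈ A ⊔ Subgroup.zpowers b, x * y = y * x := by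
            intro x hx y hy
            rw [hsub] at hx
            refine (Subgroup.mem_centralizer_iff.1 ?_ x hx)
            have : Subgroup.centralizer ((A : Set G) ∪ {b}) =
                Subgroup.centralizer (Subgroup.closure ((A : Set G) ∪ {b}) : Set G) :=
              (Subgroup.centralizer_closure _).symm
            exact (SetLike.ext_iff.1 this y).1 (hc y hy)
          refine CfsgLib.PGroup.isElementaryAbelian_mk hcomm ?_
          intro x hx
          have hK : A ⊔ Subgroup.zpowers b ≤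
              { carrier := {x | x ∈ A ⊔ Subgroup.zpowers b ∧ x ^ 2 = 1}
                one_mem' := ⟨one_mem _, one_pow 2⟩
                mul_mem' := fun {u v} hu hv => ⟨mul_mem hu.1 hv.1, by
                  have hc' : Commute u v := hcomm u hu.1 v hv.1
                  rw [hc'.mul_pow, hu.2, hv.2, one_mul]⟩
                inv_mem' := fun {u} hu => ⟨inv_mem hu.1, by rw [inv_pow, hu.2, inv_one]⟩ } :=
            sup_le (fun y hy => ⟨le_sup_left (b := Subgroup.zpowers b) hy, hA.2 y hy⟩)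
              (Subgroup.zpowers_le.2 ⟨le_sup_right (a := A) (Subgroup.mem_zpowers b), hB.2 b hb⟩)
          exact (hK hx).2
        rcases hcover _ hbn hel with h3 | h3
        · exact h3 (le_sup_right (a := A) (Subgroup.mem_zpowers b))
        · exact absurd (le_sup_left.trans h3) hnAB
      rw [← hab]
      exact mul_mem ha hbA
    have hcard : Nat.card ↥R ≤ Nat.card ↥A := by
      rw [← Subgroup.card_map_of_injective (f := (MulAut.conj h).toMonoidHom) (MulAut.conj h).injective]
      exact Subgroup.card_le_of_le hRA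
    rw [Subgroup.eq_of_le_of_card_ge (le_sup_right : A ≤ R) hcard]
    exact le_sup_left
  intro g hg
  rcases hcover _ hg (cj_elem hA) with h | h
  · exact Subgroup.eq_of_le_of_card_ge h (Subgroup.card_map_of_injective (MulAut.conj g).injective).ge
  exfalso
  -- then `B` is a conjugate of `A`
  have hBeq : cj g A = B := by
    refine le_antisymm h ?_
    have h1 : cj g⁻¹ B ≤ Subgroup.centralizer (A : Set G) := by
      have hBB : B ≤ Subgroup.centralizer (cj g A : Set G) := fun b hb =>
        Subgroup.mem_centralizer_iff.2 fun y hy => CfsgLib.PGroup.elemAb_comm hB (h hy) hb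
      have := le_centralizer_cj (g := g⁻¹) hBB
      rwa [cj_cj, inv_mul_cancel, cj_one] at this
    have h2 := cj_mono g (hsyl (cj g⁻¹ B) ((S.2.to_le hBS).map _) h1)
    rwa [cj_cj, mul_inv_cancel, cj_one] at h2
  -- conjugate inside the normalizer of `B`
  have hgS : cj g (S : Subgroup G) ≤ Subgroup.normalizer (B : Set G) := by
    rintro _ ⟨s, hs, rfl⟩
    rw [← cj_eq_iff, ← hBeq, cj_cj]
    have : (MulAut.conj g).toMonoidHom s * g = g * s := by simp
    rw [this, ← cj_cj, cj_eq_iff.2 (hSA hs)]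
  obtain ⟨h', hh', hmem⟩ := CfsgLib.Transfer.exists_conj_mem_sylow_of_le S hSB hgS (S.2.map _)
  set k := h' * g with hk
  have hkA : cj k A = B := by rw [hk, ← cj_cj, hBeq, cj_eq_iff.2 hh']
  have hkS : cj k (S : Subgroup G) = (S : Subgroup G) := by
    refine Subgroup.eq_of_le_of_card_ge ?_ (Subgroup.card_map_of_injective (MulAut.conj k).injective).ge
    rw [hk, ← cj_cj]
    rintro _ ⟨y, hy, rfl⟩
    exact hmem y hy
  have hkB : cj k B = A := by
    have h1 : cj k B ≤ (S : Subgroup G) := hkS ▸ cj_mono k hBS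
    have hcard : Nat.card ↥(cj k B) = Nat.card ↥B := Subgroup.card_map_of_injective (MulAut.conj k).injective
    have hcAB : Nat.card ↥A = Nat.card ↥B := by
      rw [← hBeq]; exact (Subgroup.card_map_of_injective (MulAut.conj g).injective).symm
    rcases hcover _ h1 (cj_elem hB) with h2 | h2
    · exact Subgroup.eq_of_le_of_card_ge h2 (by rw [hcard, hcAB])
    · have : cj k B = cj k A := by
        rw [hkA]; exact Subgroup.eq_of_le_of_card_ge h2 hcard.ge
      exact absurd (cj_inj this).le hnBA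
  have hpow : ∀ m : ℕ, cj (k ^ m) A = if Even m then A else B := by
    intro m
    induction m with
    | zero => simp [cj_one]
    | succ m ih =>
      rw [pow_succ', ← cj_cj, ih]
      by_cases hm : Even m
      · rw [if_pos hm, if_neg (by simpa [Nat.even_add_one] using hm), hkA]
      · rw [if_neg hm, if_pos (by simpa [Nat.even_add_one] using hm), hkB]
  obtain ⟨i, m, hm, hkm⟩ := Nat.exists_eq_two_pow_mul_odd (orderOf_pos k).ne'
  set k2 := k ^ m with hk2
  have hk2A : cj k2 A = B := by rw [hk2, hpow m, if_neg (Nat.not_even_iff_odd.2 hm)]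
  have hk2S : k2 ∈ (S : Subgroup G) := by
    have hN : Subgroup.zpowers k2 ≤ Subgroup.normalizer ((S : Subgroup G) : Set G) :=
      Subgroup.zpowers_le.2 (Subgroup.pow_mem _ (cj_eq_iff.1 hkS) m)
    have hp : IsPGroup 2 ↥(Subgroup.zpowers k2) := by
      refine IsPGroup.of_card (n := i) ?_
      rw [Nat.card_zpowers, hk2, orderOf_pow_of_dvd hm.pos.ne' ⟨2 ^ i, by rw [hkm]; ring⟩, hkm,
        Nat.mul_div_cancel _ hm.pos]
    have := S.3 (hp.to_sup_of_normal_right' S.2 hN) le_sup_right
    exact this.le ((le_sup_left : Subgroup.zpowers k2 ≤ _) (Subgroup.mem_zpowers k2))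
  rw [cj_eq_iff.2 (hSA hk2S)] at hk2A
  exact hnAB hk2A.le

end


/-- Let S be a Sylow 2-subgroup of a finite group G having exactly two subgroups A ≠ B that are maximal among its elementary abelian subgroups, with S = AB. Then A and B are each weakly closed in S with respect to G, and the normalizer of S normalizes both A and B. -/
theorem result {G : Type*} [Group G] [Finite G] (S : Sylow 2 G)
    (A B : Subgroup ↥(S : Subgroup G)) (hAB : A ≠ B)
    (hA : Cfsg.IsElementaryAbelian 2 A ∧ ∀ C : Subgroup ↥(S : Subgroup G), Cfsg.IsElementaryAbelian 2 C → A ≤ C → C = A)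
    (hB : Cfsg.IsElementaryAbelian 2 B ∧ ∀ C : Subgroup ↥(S : Subgroup G), Cfsg.IsElementaryAbelian 2 C → B ≤ C → C = B)
    (honly : ∀ C : Subgroup ↥(S : Subgroup G), Cfsg.IsElementaryAbelian 2 C →
      (∀ D : Subgroup ↥(S : Subgroup G), Cfsg.IsElementaryAbelian 2 D → C ≤ D → D = C) → C = A ∨ C = B)
    (hprod : ∀ s : ↥(S : Subgroup G), ∃ a ∈ A, ∃ b ∈ B, a * b = s)
    (A' B' : Subgroup G) (hA' : A' = A.map (S : Subgroup G).subtype) (hB' : B' = B.map (S : Subgroup G).subtype) :
    Cfsg.IsWeaklyClosed A' (S : Subgroup G) ∧ Cfsg.IsWeaklyClosed B' (S : Subgroup G) ∧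
      Subgroup.normalizer ((S : Subgroup G) : Set G) ≤ Subgroup.normalizer (A' : Set G) ⊓ Subgroup.normalizer (B' : Set G) := by
  subst hA' hB'
  have hiAB : ¬ A ≤ B := fun h => hAB (hA.2 B hB.1 h).symm
  have hiBA : ¬ B ≤ A := fun h => hAB (hB.2 A hA.1 h)
  have hcov0 : ∀ C : Subgroup ↥(S : Subgroup G), Cfsg.IsElementaryAbelian 2 C → C ≤ A ∨ C ≤ B := by
    intro C hC
    obtain ⟨D, hD, hmax⟩ := Finite.exists_le_maximal (p := fun D : Subgroup ↥(S : Subgroup G) => Cfsg.IsElementaryAbelian 2 D) hC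
    rcases honly D hmax.1 (fun E hE hle => le_antisymm (hmax.2 hE hle) hle) with h | h
    · exact Or.inl (h ▸ hD)
    · exact Or.inr (h ▸ hD)
  have helem : ∀ C : Subgroup ↥(S : Subgroup G), Cfsg.IsElementaryAbelian 2 C → Cfsg.IsElementaryAbelian 2 (C.map (S : Subgroup G).subtype) := by
    intro C hC
    refine CfsgLib.PGroup.isElementaryAbelian_mk ?_ ?_
    · rintro _ ⟨a, ha, rfl⟩ _ ⟨b, hb, rfl⟩
      rw [← map_mul, ← map_mul, CfsgLib.PGroup.elemAb_comm hC ha hb]
    · rintro _ ⟨a, ha, rfl⟩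
      rw [← map_pow, hC.2 a ha, map_one]
  set A' := A.map (S : Subgroup G).subtype with hA'
  set B' := B.map (S : Subgroup G).subtype with hB'
  have hAS : A' ≤ (S : Subgroup G) := Subgroup.map_subtype_le _
  have hBS : B' ≤ (S : Subgroup G) := Subgroup.map_subtype_le _
  have hcover : ∀ C : Subgroup G, C ≤ (S : Subgroup G) → Cfsg.IsElementaryAbelian 2 C → C ≤ A' ∨ C ≤ B' := by
    intro C hCT hC
    have hC0 : Cfsg.IsElementaryAbelian 2 (C.subgroupOf (S : Subgroup G)) := by
      refine CfsgLib.PGroup.isElementaryAbelian_mk ?_ ?_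
      · intro a ha b hb
        exact Subtype.ext (CfsgLib.PGroup.elemAb_comm hC (Subgroup.mem_subgroupOf.1 ha) (Subgroup.mem_subgroupOf.1 hb))
      · intro a ha
        exact Subtype.ext (hC.2 _ (Subgroup.mem_subgroupOf.1 ha))
    rcases hcov0 _ hC0 with h | h
    · exact Or.inl fun x hx => ⟨⟨x, hCT hx⟩, h hx, rfl⟩
    · exact Or.inr fun x hx => ⟨⟨x, hCT hx⟩, h hx, rfl⟩
  have hnAB : ¬ A' ≤ B' := fun h => hiAB ((Subgroup.map_le_map_iff_of_injective (S : Subgroup G).subtype_injective).1 h)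
  have hnBA : ¬ B' ≤ A' := fun h => hiBA ((Subgroup.map_le_map_iff_of_injective (S : Subgroup G).subtype_injective).1 h)
  have hp : ∀ s ∈ (S : Subgroup G), ∃ a ∈ A', ∃ b ∈ B', a * b = s := by
    intro s hs
    obtain ⟨a, ha, b, hb, hab⟩ := hprod ⟨s, hs⟩
    exact ⟨_, ⟨a, ha, rfl⟩, _, ⟨b, hb, rfl⟩, congrArg Subtype.val hab⟩
  -- elements of one subgroup normalize the other one
  have hnorm : ∀ (X Y : Subgroup G), X ≤ (S : Subgroup G) → Y ≤ (S : Subgroup G) → Cfsg.IsElementaryAbelian 2 X →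
      Cfsg.IsElementaryAbelian 2 Y → ¬ Y ≤ X →
      (∀ C : Subgroup G, C ≤ (S : Subgroup G) → Cfsg.IsElementaryAbelian 2 C → C ≤ X ∨ C ≤ Y) →
      X ≤ Subgroup.normalizer (Y : Set G) := by
    intro X Y hX hY hXe hYe hYX hc x hx
    rw [← cj_eq_iff]
    have h1 : cj x Y ≤ (S : Subgroup G) := by
      rintro _ ⟨y, hy, rfl⟩
      exact mul_mem (mul_mem (hX hx) (hY hy)) (inv_mem (hX hx))
    rcases hc _ h1 (cj_elem hYe) with h2 | h2
    · exfalso
      apply hYX
      have h3 := cj_mono x⁻¹ h2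
      rw [cj_cj, inv_mul_cancel, cj_one] at h3
      refine h3.trans (le_of_eq (cj_eq_iff.2 (inv_mem (Subgroup.le_normalizer hx))))
    · exact Subgroup.eq_of_le_of_card_ge h2 (Subgroup.card_map_of_injective (MulAut.conj x).injective).ge
  have hAe := helem A hA.1
  have hBe := helem B hB.1
  have hSA : (S : Subgroup G) ≤ Subgroup.normalizer (A' : Set G) := by
    intro s hs
    obtain ⟨a, ha, b, hb, rfl⟩ := hp s hs
    exact mul_mem (Subgroup.le_normalizer ha)
      (hnorm B' A' hBS hAS hBe hAe hnAB (fun C h1 h2 => (hcover C h1 h2).symm) hb)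
  have hSB : (S : Subgroup G) ≤ Subgroup.normalizer (B' : Set G) := by
    intro s hs
    obtain ⟨a, ha, b, hb, rfl⟩ := hp s hs
    exact mul_mem (hnorm A' B' hAS hBS hAe hBe hnBA hcover ha) (Subgroup.le_normalizer hb)
  have wA := weak S A' B' hAS hBS hAe hBe hnAB hnBA hcover hSA hSB hp
  have wB := weak S B' A' hBS hAS hBe hAe hnBA hnAB (fun C h1 h2 => (hcover C h1 h2).symm) hSB hSA
    (fun s hs => by
      obtain ⟨a, ha, b, hb, hab⟩ := hp s⁻¹ (inv_mem hs)
      exact ⟨b⁻¹, inv_mem hb, a⁻¹, inv_mem ha, by rw [← mul_inv_rev, hab, inv_inv]⟩)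
  refine ⟨⟨hAS, wA⟩, ⟨hBS, wB⟩, fun x hx => ?_⟩
  have hxT : ∀ Y : Subgroup G, Y ≤ (S : Subgroup G) → cj x Y ≤ (S : Subgroup G) := by
    intro Y hY
    exact (cj_mono x hY).trans (le_of_eq (cj_eq_iff.2 hx))
  exact ⟨cj_eq_iff.1 (wA x (hxT _ hAS)), cj_eq_iff.1 (wB x (hxT _ hBS))⟩

end Cfsg.Agent.S3203
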