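import Cfsg.Statements.S3206
import Cfsg.Agent.Lib.TwoSylow.JankoRee.Auto
import Cfsg.Agent.Lib.TwoSylow.JankoRee.Cover

set_option autoImplicit false
open Cfsg

namespace Cfsg.Agent.S3206

/-- Let G be a non-abelian finite simple group with abelian Sylow 2-subgroups, and let t be an involution of G whose centralizer is a maximal subgroup of G and is the direct product of the subgroup generated by t with a subgroup E having a normal subgroup isomorphic to PSL(2, q), q odd and greater than 3, with trivial centralizer in E. Then every finite perfect group having a central 2-subgroup with quotient isomorphic to G has that central subgroup trivial (G has no nontrivial perfect central extension by a 2-group), and every automorphism of G of 2-power order that fixes every element of some Sylow 2-subgroup of G is inner. -/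
theorem result {G : Type*} [Group G] [Finite G] [IsSimpleGroup G]
    (hG : ¬ IsMulCommutative G) (hab : ∀ S : Sylow 2 G, IsMulCommutative ↥(S : Subgroup G))
    (t : G) (ht : orderOf t = 2) (hmax : IsCoatom (Subgroup.centralizer ({t} : Set G)))
    (E : Subgroup G) (hE : Cfsg.IsInternalDirectProduct (Subgroup.zpowers t) E (Subgroup.centralizer ({t} : Set G)))
    {F : Type*} [Field F] [Fintype F] (hFo : Odd (Fintype.card F)) (hF3 : 3 < Fintype.card F)
    (N : Subgroup ↥E) [N.Normal] (hN : Nonempty (↥N ≃* Matrix.ProjectiveSpecialLinearGroup (Fin 2) F))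
    (hNc : Subgroup.centralizer (N : Set ↥E) = ⊥) :
    (∀ (L : Type) (_ : Group L) (_ : Finite L) (Z : Subgroup L) (_ : Z.Normal), commutator L = ⊤ → Z ≤ Subgroup.center L →
        IsPGroup 2 ↥Z → Nonempty (L ⧸ Z ≃* G) → Z = ⊥) ∧
    (∀ (φ : G ≃* G) (k : ℕ), φ ^ (2 ^ k) = 1 → (∃ S : Sylow 2 G, ∀ s ∈ (S : Subgroup G), φ s = s) →
        ∃ g : G, ∀ x : G, φ x = g * x * g⁻¹) := by
  open CfsgLib.TwoSylow.JankoRee Subgroup in
  classical
  have : Fact (Nat.Prime 2) := ⟨Nat.prime_two⟩
  have hperf : _root_.commutator G = ⊤ := by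
    rcases (inferInstance : (_root_.commutator G).Normal).eq_bot_or_eq_top with h | h
    · exfalso
      refine hG ⟨⟨fun a b => ?_⟩⟩
      have := commutator_mem_commutator (mem_top a) (mem_top b)
      rw [← _root_.commutator_def, h, mem_bot, commutatorElement_eq_one_iff_mul_comm] at this
      exact this
    · exact h
  obtain ⟨S, hS⟩ := (IsPGroup.of_card (n := 1) (by rw [Nat.card_zpowers, ht, pow_one]) :
    IsPGroup 2 (zpowers t)).exists_le_sylow
  have D := setting_of hab ht hmax hE hFo hF3 N hN hNc S (hS (mem_zpowers t))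
  refine ⟨?_, ?_⟩
  · intro L _ _ Z hZn hLperf hZc hZp ⟨e⟩
    by_contra hZ
    obtain ⟨n, hn⟩ := IsPGroup.iff_card.1 hZp
    obtain ⟨m, rfl⟩ : ∃ m, n = m + 1 := Nat.exists_eq_succ_of_ne_zero (by
      rintro rfl
      exact hZ (eq_bot_of_card_eq Z (by rw [hn, pow_zero])))
    obtain ⟨M0, hM0⟩ := Sylow.exists_subgroup_card_pow_prime (G := Z) 2 (n := m) (by
      rw [hn]; exact pow_dvd_pow 2 (Nat.le_succ m))
    set M := M0.map Z.subtype with hM
    have hMn : M.Normal := ⟨fun x hx g => by
      rwa [mem_center_iff.1 (hZc (map_subtype_le M0 hx)) g, mul_inv_cancel_right]⟩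
    let π₀ : L →* G := e.toMonoidHom.comp (QuotientGroup.mk' Z)
    have hπ₀ : π₀.ker = Z := by
      ext x
      simp [π₀]
    have hMk : M ≤ π₀.ker := hπ₀.symm ▸ map_subtype_le M0
    let π : L ⧸ M →* G := QuotientGroup.lift M π₀ hMk
    have hπs : Function.Surjective π := fun g => by
      obtain ⟨q, rfl⟩ := e.surjective g
      obtain ⟨x, rfl⟩ := QuotientGroup.mk'_surjective Z q
      exact ⟨QuotientGroup.mk' M x, rfl⟩
    have hkerπ : π.ker = Z.map (QuotientGroup.mk' M) := by
      ext q
      obtain ⟨x, rfl⟩ := QuotientGroup.mk'_surjective M q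
      constructor
      · intro hq
        exact mem_map_of_mem _ (hπ₀ ▸ (show π₀ x = 1 from hq) : x ∈ Z)
      · rintro ⟨z, hz, he⟩
        rw [← he]
        show π₀ z = 1
        rw [← MonoidHom.mem_ker, hπ₀]
        exact hz
    refine D.no_double_cover hperf (L := L ⧸ M) ?_ π hπs ?_ ?_
    · rw [_root_.commutator_def, ← map_top_of_surjective (QuotientGroup.mk' M) (QuotientGroup.mk'_surjective M),
        ← map_commutator, ← _root_.commutator_def, hLperf]
    · rintro q hq
      rw [hkerπ] at hq
      obtain ⟨z, hz, rfl⟩ := hq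
      refine mem_center_iff.2 fun g => ?_
      obtain ⟨x, rfl⟩ := QuotientGroup.mk'_surjective M g
      rw [← map_mul, ← map_mul, mem_center_iff.1 (hZc hz) x]
    · have h1 := Subgroup.card_mul_index π.ker
      rw [index_ker, MonoidHom.range_eq_top.2 hπs, Nat.card_congr topEquiv.toEquiv, ← Nat.card_congr e.toEquiv] at h1
      have h2 := card_eq_card_quotient_mul_card_subgroup Z
      rw [card_eq_card_quotient_mul_card_subgroup M, card_map_of_injective Z.subtype_injective, hM0, ← h1, hn,
        pow_succ, mul_comm (2 ^ m) 2, ← mul_assoc] at h2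
      have h3 := Nat.eq_of_mul_eq_mul_right (Nat.pow_pos two_pos) h2
      rw [mul_comm (Nat.card (L ⧸ Z))] at h3
      exact Nat.eq_of_mul_eq_mul_right Nat.card_pos h3
  · rintro φ k hφ ⟨R, hR⟩
    obtain ⟨g, hg⟩ := MulAction.exists_smul_eq G S R
    have hR' : ∀ s ∈ (S : Subgroup G), φ (g * s * g⁻¹) = g * s * g⁻¹ := fun s hs => hR _ (by
      rw [← hg, Sylow.coe_subgroup_smul]
      exact ⟨s, hs, rfl⟩)
    obtain ⟨h, hh⟩ := D.aut_inner_of_fix hperf (φ := (MulAut.conj g)⁻¹ * φ * MulAut.conj g) (k := k)
      (by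
        have := conj_pow (i := 2 ^ k) (a := (MulAut.conj g)⁻¹) (b := (φ : MulAut G))
        rw [inv_inv] at this
        rw [this, hφ]
        simp)
      (fun s hs => by simp only [MulAut.mul_apply, MulAut.conj_apply, MulAut.conj_inv_apply]; rw [hR' s hs]; group)
    refine ⟨g * h * g⁻¹, fun x => ?_⟩
    have h1 := congrArg (fun y => g * y * g⁻¹) (hh (g⁻¹ * x * g))
    simp [mul_assoc] at h1
    simpa [mul_assoc] using h1

end Cfsg.Agent.S3206
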