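import Cfsg.Statements.S3208
import Mathlib
-- import your own Cfsg.Agent.* helpers here

set_option autoImplicit false
open Cfsg

namespace Cfsg.Agent.S3208

/-- Let j be an involution of a finite group G, H a subgroup of G, and T a Sylow 2-subgroup of H ∩ C_G(j) containing j such that ⟨j⟩ is a characteristic subgroup of T. Then T is a Sylow 2-subgroup of H. -/
theorem result {G : Type*} [Group G] [Finite G]
    (j : G) (hj : orderOf j = 2) (H T : Subgroup G) (hT : T ≤ H ⊓ Subgroup.centralizer ({j} : Set G)) (h2 : IsPGroup 2 ↥T)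
    (hSyl : ¬ 2 ∣ T.relIndex (H ⊓ Subgroup.centralizer ({j} : Set G))) (hjT : j ∈ T)
    (hchar : ((Subgroup.zpowers j).subgroupOf T).Characteristic) :
    ¬ 2 ∣ T.relIndex H := by
  intro hdvd
  haveI : Fact (Nat.Prime 2) := ⟨Nat.prime_two⟩
  apply hSyl
  have hTH : T ≤ H := hT.trans inf_le_left
  obtain ⟨n, hn⟩ := h2.exists_card_eq
  have hcard : Nat.card ↥(T.subgroupOf H) = 2 ^ n := by
    rw [Nat.card_congr (Subgroup.subgroupOfEquivOfLe hTH).toEquiv, hn]
  have hmod := Sylow.card_quotient_normalizer_modEq_card_quotient hcard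
  let N : Subgroup G := (Subgroup.normalizer ((T.subgroupOf H : Subgroup ↥H) : Set ↥H)).map H.subtype
  have hTN : T ≤ N := fun t ht =>
    ⟨⟨t, hTH ht⟩, Subgroup.le_normalizer (Subgroup.mem_subgroupOf.2 ht), rfl⟩
  have hNdvd : 2 ∣ T.relIndex N := by
    have h1 : Nat.card (↥H ⧸ T.subgroupOf H) = T.relIndex H := rfl
    rw [h1] at hmod
    have h3 : 2 ∣ ((T.subgroupOf H).comap
        (Subgroup.normalizer ((T.subgroupOf H : Subgroup ↥H) : Set ↥H)).subtype).index :=
      hmod.dvd_iff dvd_rfl |>.2 hdvd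
    convert h3 using 1
    change T.relIndex _ = (T.subgroupOf H).relIndex _
    rw [← Subgroup.relIndex_map_map_of_injective (T.subgroupOf H) _ H.subtype_injective,
      Subgroup.subgroupOf_map_subtype, inf_eq_left.2 hTH]
  have hNle : N ≤ H ⊓ Subgroup.centralizer ({j} : Set G) := by
    rintro _ ⟨h, hh, rfl⟩
    refine ⟨h.2, Subgroup.mem_centralizer_singleton_iff.2 ?_⟩
    have hconj : ∀ t : G, t ∈ T ↔ (h : G) * t * (h : G)⁻¹ ∈ T := by
      intro t
      constructor
      · intro ht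
        exact Subgroup.mem_subgroupOf.1 ((Subgroup.mem_normalizer_iff.1 hh ⟨t, hTH ht⟩).1
          (Subgroup.mem_subgroupOf.2 ht))
      · intro ht
        have htH : t ∈ H := by
          have := H.mul_mem (H.mul_mem (H.inv_mem h.2) (hTH ht)) h.2
          simpa [mul_assoc] using this
        exact Subgroup.mem_subgroupOf.1 ((Subgroup.mem_normalizer_iff.1 hh ⟨t, htH⟩).2
          (Subgroup.mem_subgroupOf.2 ht))
    let θ : ↥T ≃* ↥T :=
    { toFun := fun t => ⟨(h : G) * t * (h : G)⁻¹, (hconj t).1 t.2⟩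
      invFun := fun t => ⟨(h : G)⁻¹ * t * (h : G), by
        rw [hconj]; simpa [mul_assoc] using t.2⟩
      left_inv := fun t => Subtype.ext (by simp [mul_assoc])
      right_inv := fun t => Subtype.ext (by simp [mul_assoc])
      map_mul' := fun a b => Subtype.ext (by simp [mul_assoc]) }
    have hJ : (⟨j, hjT⟩ : ↥T) ∈ (Subgroup.zpowers j).subgroupOf T :=
      Subgroup.mem_subgroupOf.2 (Subgroup.mem_zpowers j)
    have hm : θ ⟨j, hjT⟩ ∈ (Subgroup.zpowers j).subgroupOf T := by
      rw [← Subgroup.characteristic_iff_map_eq.1 hchar θ]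
      exact ⟨_, hJ, rfl⟩
    obtain ⟨k, hk : k < orderOf j, hkj⟩ : ∃ k, k < orderOf j ∧ j ^ k = (h : G) * j * (h : G)⁻¹ := by
      obtain ⟨k, hk⟩ := mem_powers_iff_mem_zpowers.2 (Subgroup.mem_subgroupOf.1 hm)
      exact ⟨k % orderOf j, Nat.mod_lt _ (by omega), by rw [pow_mod_orderOf]; exact hk⟩
    rw [hj] at hk
    interval_cases k
    · rw [pow_zero] at hkj
      have : j = 1 := by simpa [mul_assoc] using congrArg (fun e => (h : G)⁻¹ * e * (h : G)) hkj.symm
      simp [this] at hj
    · rw [pow_one] at hkj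
      exact mul_inv_eq_iff_eq_mul.1 hkj.symm
  exact hNdvd.trans (Subgroup.relIndex_mul_relIndex T N _ hTN hNle ▸ dvd_mul_right _ _)

end Cfsg.Agent.S3208
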