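import Cfsg.Statements.S3209
import Mathlib
import Cfsg.Agent.Lib.InvolChar.TwoSL2
-- import your own Cfsg.Agent.* helpers here

set_option autoImplicit false
open Cfsg

namespace Cfsg.Agent.S3209

/-- Let L₁ ≅ SL₂(q₁) and L₂ ≅ SL₂(q₂), q₁ and q₂ odd, be elementwise-commuting subgroups of a finite group meeting in ⟨j⟩ for an involution j. Then L₁L₂ has exactly two conjugacy classes of involutions: the central involution j, and one further class (there is an involution x ≠ j in L₁L₂, and every involution of L₁L₂ other than j is conjugate to x by an element of L₁L₂). -/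
theorem result {G : Type*} [Group G] [Finite G]
    {F₁ : Type*} [Field F₁] [Fintype F₁] {F₂ : Type*} [Field F₂] [Fintype F₂]
    (hF₁ : Odd (Fintype.card F₁)) (hF₂ : Odd (Fintype.card F₂)) (L₁ L₂ : Subgroup G)
    (e₁ : ↥L₁ ≃* Matrix.SpecialLinearGroup (Fin 2) F₁) (e₂ : ↥L₂ ≃* Matrix.SpecialLinearGroup (Fin 2) F₂)
    (hc : ∀ x ∈ L₁, ∀ y ∈ L₂, x * y = y * x) (j : G) (hj : orderOf j = 2) (hm : L₁ ⊓ L₂ = Subgroup.zpowers j) :
    ∃ x ∈ L₁ ⊔ L₂, orderOf x = 2 ∧ x ≠ j ∧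
      ∀ y ∈ L₁ ⊔ L₂, orderOf y = 2 → y = j ∨ ∃ g ∈ L₁ ⊔ L₂, g * x * g⁻¹ = y := by
  have hjL : j ∈ L₁ ⊓ L₂ := by rw [hm]; exact Subgroup.mem_zpowers j
  have hj2 : j * j = 1 := by rw [← sq, ← hj]; exact pow_orderOf_eq_one j
  have hj1 : j ≠ 1 := fun h => by rw [h, orderOf_one] at hj; norm_num at hj
  have h₁ := CfsgLib.InvolChar.isSLTwoLike hF₁ L₁ e₁ j hj (Subgroup.mem_inf.1 hjL).1
  have h₂ := CfsgLib.InvolChar.isSLTwoLike hF₂ L₂ e₂ j hj (Subgroup.mem_inf.1 hjL).2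
  obtain ⟨a, ha, haa⟩ := h₁.exists_root
  obtain ⟨b, hb, hbb⟩ := h₂.exists_root
  have hab : a * b * (a * b) = 1 := by rw [CfsgLib.InvolChar.sq_of_commute hc ha hb, haa, hbb, hj2]
  have hnot : ∀ e : G, (e = 1 ∨ e = j) → a * b ≠ e := by
    intro e he h
    have he2 : e ∈ L₂ := by
      rcases he with rfl | rfl
      · exact one_mem _
      · exact (Subgroup.mem_inf.1 hjL).2
    have haL : a ∈ Subgroup.zpowers j := hm ▸ Subgroup.mem_inf.2 ⟨ha, by
      rw [eq_mul_inv_of_mul_eq h]; exact mul_mem he2 (inv_mem hb)⟩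
    obtain ⟨k, hk⟩ := Subgroup.mem_zpowers_iff.1 haL
    apply hj1
    rw [← haa, ← hk, ← (Commute.refl j).mul_zpow, hj2, one_zpow]
  refine ⟨a * b, mul_mem (Subgroup.mem_sup_left ha) (Subgroup.mem_sup_right hb),
    orderOf_eq_prime (by rw [sq]; exact hab) (hnot 1 (Or.inl rfl)), hnot j (Or.inr rfl), fun y hy hyo => ?_⟩
  have hy2 : y * y = 1 := by rw [← sq, ← hyo]; exact pow_orderOf_eq_one y
  rcases CfsgLib.InvolChar.pair_involutions hc hj2 hm h₁ h₂ ha haa hb hbb hy hy2 with h | h | h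
  · rw [h, orderOf_one] at hyo; norm_num at hyo
  · exact Or.inl h
  · exact Or.inr h

end Cfsg.Agent.S3209
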