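import Cfsg.Statements.S3210
import Cfsg.Agent.Lib.InvolChar.TwoSL2
import Cfsg.Agent.Lib.Classical.GLOrder
-- import your own Cfsg.Agent.* helpers here

set_option autoImplicit false
open Cfsg

namespace Cfsg.Agent.S3210


open Matrix

section SL2

variable {F : Type*} [Field F]

local notation "SL" => Matrix.SpecialLinearGroup (Fin 2) F

/-- An element commuting with its conjugates is central. -/
theorem sl_central_of_conj (h2 : (2 : F) ≠ 0) (g : SL) (h : ∀ k : SL, Commute g (k * g * k⁻¹)) :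
    ∀ k : SL, g * k = k * g := by
  set a := (g : Matrix (Fin 2) (Fin 2) F) 0 0 with ha
  set b := (g : Matrix (Fin 2) (Fin 2) F) 0 1 with hb
  set c := (g : Matrix (Fin 2) (Fin 2) F) 1 0 with hc
  set d := (g : Matrix (Fin 2) (Fin 2) F) 1 1 with hd
  let U : F → SL := fun t => ⟨!![1, t; 0, 1], by simp [Matrix.det_fin_two_of]⟩
  let L : F → SL := fun t => ⟨!![1, 0; t, 1], by simp [Matrix.det_fin_two_of]⟩
  have hUi : ∀ t, (U t)⁻¹ = U (-t) := fun t => inv_eq_of_mul_eq_one_right (by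
    apply Subtype.ext
    rw [Matrix.SpecialLinearGroup.coe_mul, Matrix.SpecialLinearGroup.coe_one]
    ext i j
    fin_cases i <;> fin_cases j <;> simp [U, Matrix.mul_apply, Fin.sum_univ_two])
  have hLi : ∀ t, (L t)⁻¹ = L (-t) := fun t => inv_eq_of_mul_eq_one_right (by
    apply Subtype.ext
    rw [Matrix.SpecialLinearGroup.coe_mul, Matrix.SpecialLinearGroup.coe_one]
    ext i j
    fin_cases i <;> fin_cases j <;> simp [L, Matrix.mul_apply, Fin.sum_univ_two])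
  have key : ∀ (k k' : SL), k⁻¹ = k' → ∀ i j : Fin 2,
      ((g : Matrix (Fin 2) (Fin 2) F) * ((k : Matrix (Fin 2) (Fin 2) F) * g * (k' : Matrix (Fin 2) (Fin 2) F))) i j =
      ((k : Matrix (Fin 2) (Fin 2) F) * g * (k' : Matrix (Fin 2) (Fin 2) F) * g) i j := fun k k' hk i j => by
    subst hk
    exact congrArg (fun X : SL => (X : Matrix (Fin 2) (Fin 2) F) i j) (h k).eq
  have u1 := key _ _ (hUi 1) 0 0
  have u2 := key _ _ (hUi (-1)) 0 0
  have l1 := key _ _ (hLi 1) 0 0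
  have l2 := key _ _ (hLi (-1)) 0 0
  have w1 := key _ _ (hUi 1) 0 1
  have w2 := key _ _ (hUi (-1)) 0 1
  simp only [Matrix.mul_apply, Fin.sum_univ_two, ← ha, ← hb, ← hc, ← hd] at u1 u2 l1 l2 w1 w2
  simp [U, L] at u1 u2 l1 l2 w1 w2
  have hc2 : c * c = 0 := by
    have : (2 : F) * (c * c) = 0 := by linear_combination u1 + u2
    exact (mul_eq_zero.1 this).resolve_left h2
  have hb2 : b * b = 0 := by
    have : (2 : F) * (b * b) = 0 := by linear_combination -l1 - l2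
    exact (mul_eq_zero.1 this).resolve_left h2
  have hc0 : c = 0 := mul_self_eq_zero.1 hc2
  have hb0 : b = 0 := mul_self_eq_zero.1 hb2
  have had : a = d := by
    have : (2 : F) * ((a - d) * (a - d)) = 0 := by
      rw [hc0, hb0] at w1 w2
      linear_combination w2 - w1
    exact sub_eq_zero.1 (mul_self_eq_zero.1 ((mul_eq_zero.1 this).resolve_left h2))
  intro k
  apply Subtype.ext
  rw [Matrix.SpecialLinearGroup.coe_mul, Matrix.SpecialLinearGroup.coe_mul]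
  ext i j
  fin_cases i <;> fin_cases j <;>
    simp [Matrix.mul_apply, Fin.sum_univ_two, ← ha, ← hb, ← hc, ← hd, hb0, hc0, had] <;> ring

/-- The centralizer of a noncentral element is commutative. -/
theorem sl_centralizer_comm (g v w : SL) (hg : ∃ k : SL, g * k ≠ k * g) (hv : v * g = g * v) (hw : w * g = g * w) :
    v * w = w * v := by
  have e : ∀ (v : SL) (i j : Fin 2), v * g = g * v →
      ((v : Matrix (Fin 2) (Fin 2) F) * g) i j = ((g : Matrix (Fin 2) (Fin 2) F) * v) i j := fun v i j h =>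
    congrArg (fun X : SL => (X : Matrix (Fin 2) (Fin 2) F) i j) h
  set a := (g : Matrix (Fin 2) (Fin 2) F) 0 0 with ha
  set b := (g : Matrix (Fin 2) (Fin 2) F) 0 1 with hb
  set c := (g : Matrix (Fin 2) (Fin 2) F) 1 0 with hc
  set d := (g : Matrix (Fin 2) (Fin 2) F) 1 1 with hd
  set p := (v : Matrix (Fin 2) (Fin 2) F) 0 0 with hp
  set q := (v : Matrix (Fin 2) (Fin 2) F) 0 1 with hq
  set r := (v : Matrix (Fin 2) (Fin 2) F) 1 0 with hr
  set s := (v : Matrix (Fin 2) (Fin 2) F) 1 1 with hs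
  set p' := (w : Matrix (Fin 2) (Fin 2) F) 0 0 with hp'
  set q' := (w : Matrix (Fin 2) (Fin 2) F) 0 1 with hq'
  set r' := (w : Matrix (Fin 2) (Fin 2) F) 1 0 with hr'
  set s' := (w : Matrix (Fin 2) (Fin 2) F) 1 1 with hs'
  have v00 := e v 0 0 hv
  have v01 := e v 0 1 hv
  have v10 := e v 1 0 hv
  have w00 := e w 0 0 hw
  have w01 := e w 0 1 hw
  have w10 := e w 1 0 hw
  simp [Matrix.mul_apply, Fin.sum_univ_two, ← ha, ← hb, ← hc, ← hd, ← hp, ← hq, ← hr, ← hs, ← hp', ← hq', ← hr', ← hs']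
    at v00 v01 v10 w00 w01 w10
  have hne : b ≠ 0 ∨ c ≠ 0 ∨ d - a ≠ 0 := by
    by_contra hno
    push Not at hno
    obtain ⟨hb0, hc0, hda⟩ := hno
    obtain ⟨k, hk⟩ := hg
    apply hk
    apply Subtype.ext
    rw [Matrix.SpecialLinearGroup.coe_mul, Matrix.SpecialLinearGroup.coe_mul]
    ext i j
    fin_cases i <;> fin_cases j <;>
      simp [Matrix.mul_apply, Fin.sum_univ_two, ← ha, ← hb, ← hc, ← hd, hb0, hc0, sub_eq_zero.1 hda] <;> ring
  have k1 : q * r' = r * q' := by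
    rcases hne with h | h | h <;> apply mul_left_cancel₀ h
    · linear_combination q' * v00 - q * w00
    · linear_combination r' * v00 - r * w00
    · linear_combination r' * v01 + q' * v10 - (s - p) * w00
  have k2 : q * (s' - p') = (s - p) * q' := by
    rcases hne with h | h | h <;> apply mul_left_cancel₀ h
    · linear_combination q' * v01 - q * w01
    · linear_combination (s' - p') * v00 - q' * v10 - r * w01
    · linear_combination (s' - p') * v01 - (s - p) * w01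
  have k3 : r * (s' - p') = (s - p) * r' := by
    rcases hne with h | h | h <;> apply mul_left_cancel₀ h
    · linear_combination -(s' - p') * v00 + r' * v01 + q * w10
    · linear_combination r * w10 - r' * v10
    · linear_combination -(s' - p') * v10 + (s - p) * w10
  apply Subtype.ext
  rw [Matrix.SpecialLinearGroup.coe_mul, Matrix.SpecialLinearGroup.coe_mul]
  ext i j
  fin_cases i <;> fin_cases j <;>
    simp [Matrix.mul_apply, Fin.sum_univ_two, ← hp, ← hq, ← hr, ← hs, ← hp', ← hq', ← hr', ← hs']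
  · linear_combination k1
  · linear_combination k2
  · linear_combination -k3
  · linear_combination -k1

end SL2

section Pair

variable {G : Type*} [Group G]

theorem le_second {L₁ L₂ : Subgroup G} (hc : ∀ x ∈ L₁, ∀ y ∈ L₂, x * y = y * x) {j : G}
    (hm : L₁ ⊓ L₂ = Subgroup.zpowers j) (hz₁ : ∀ u ∈ L₁, (∀ k ∈ L₁, Commute u (k * u * k⁻¹)) → u = 1 ∨ u = j)
    {M : Subgroup G} (hM : M ≤ L₁ ⊔ L₂) (hn : ∀ m ∈ M, ∀ k ∈ L₁ ⊔ L₂, k * m * k⁻¹ ∈ M)
    (hjc : ∀ g ∈ L₁ ⊔ L₂, Commute g j) (hA : ∀ a ∈ M, a ∈ L₁ → a = 1 ∨ a = j) : M ≤ L₂ := by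
  intro m hmM
  obtain ⟨u, hu, v, hv, rfl⟩ := CfsgLib.InvolChar.exists_mul_of_mem_sup hc (hM hmM)
  have key : u = 1 ∨ u = j := by
    refine hz₁ u hu fun k hk => ?_
    have h1 : k * (u * v) * k⁻¹ * (u * v)⁻¹ = (k * u * k⁻¹) * u⁻¹ := by
      have e1 : v * k⁻¹ = k⁻¹ * v := (hc _ (inv_mem hk) v hv).symm
      calc k * (u * v) * k⁻¹ * (u * v)⁻¹ = k * u * (v * k⁻¹) * v⁻¹ * u⁻¹ := by group
        _ = (k * u * k⁻¹) * u⁻¹ := by rw [e1]; group
    have h2 : k * (u * v) * k⁻¹ * (u * v)⁻¹ ∈ M := mul_mem (hn _ hmM k (Subgroup.mem_sup_left hk)) (inv_mem hmM)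
    rw [h1] at h2
    have h3 := hA _ h2 (mul_mem (mul_mem (mul_mem hk hu) (inv_mem hk)) (inv_mem hu))
    have h4 : k * u * k⁻¹ = (k * u * k⁻¹ * u⁻¹) * u := by group
    rw [h4]
    rcases h3 with h3 | h3
    · rw [h3, one_mul]
    · rw [h3]; exact (hjc u (Subgroup.mem_sup_left hu)).mul_right (Commute.refl u)
  have hv' : u ∈ L₂ := by
    have : u ∈ L₁ ⊓ L₂ := by
      rw [hm]; rcases key with h | h <;> rw [h]
      · exact one_mem _
      · exact Subgroup.mem_zpowers j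
    exact this.2
  exact mul_mem hv' hv


/-- A copy of `SL₂` in the product, normalized by both factors, lies in a factor. -/
theorem le_factor {L₁ L₂ : Subgroup G} (hc : ∀ x ∈ L₁, ∀ y ∈ L₂, x * y = y * x) {j : G}
    (hm : L₁ ⊓ L₂ = Subgroup.zpowers j) (hz₁ : ∀ u ∈ L₁, (∀ k ∈ L₁, Commute u (k * u * k⁻¹)) → u = 1 ∨ u = j)
    {M : Subgroup G} (hM : M ≤ L₁ ⊔ L₂) (hn : ∀ m ∈ M, ∀ k ∈ L₁ ⊔ L₂, k * m * k⁻¹ ∈ M)
    (hzM : ∀ u ∈ M, (∀ k ∈ M, Commute u (k * u * k⁻¹)) → u = 1 ∨ u = j)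
    (hz₂ : ∀ u ∈ L₂, (∀ k ∈ L₂, Commute u (k * u * k⁻¹)) → u = 1 ∨ u = j)
    (hcM : ∀ g ∈ M, ¬ (g = 1 ∨ g = j) → ∀ v ∈ M, ∀ w ∈ M, v * g = g * v → w * g = g * w → v * w = w * v)
    (hjc : ∀ g ∈ L₁ ⊔ L₂, Commute g j) :
    M ≤ L₁ ∨ M ≤ L₂ := by
  by_cases hA : ∀ a ∈ M, a ∈ L₁ → a = 1 ∨ a = j
  · exact Or.inr (le_second hc hm hz₁ hM hn hjc hA)
  push Not at hA
  obtain ⟨g, hgM, hgL, hg1, hgj⟩ := hA
  by_cases hB : ∀ b ∈ M, b ∈ L₂ → b = 1 ∨ b = j
  · left
    exact le_second (fun x hx y hy => (hc y hy x hx).symm) (by rwa [inf_comm]) hz₂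
      (by rwa [sup_comm]) (fun m hmm k hk => hn m hmm k (by rwa [sup_comm])) (fun g hg => hjc g (by rwa [sup_comm])) hB
  · push Not at hB
    obtain ⟨b, hbM, hbL, hb1, hbj⟩ := hB
    exfalso
    have hgn : ¬ (g = 1 ∨ g = j) := fun h => h.elim hg1 hgj
    have hbn : ¬ (b = 1 ∨ b = j) := fun h => h.elim hb1 hbj
    refine hgn (hzM g hgM fun k hk => ?_)
    have hk' := hM hk
    obtain ⟨p, hp, q, hq, rfl⟩ := CfsgLib.InvolChar.exists_mul_of_mem_sup hc hk'
    have hgk : p * q * g * (p * q)⁻¹ ∈ L₁ := by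
      have e1 : q * g = g * q := (hc g hgL q hq).symm
      rw [show p * q * g * (p * q)⁻¹ = p * (q * g) * q⁻¹ * p⁻¹ by group, e1,
        show p * (g * q) * q⁻¹ * p⁻¹ = p * g * p⁻¹ by group]
      exact mul_mem (mul_mem hp hgL) (inv_mem hp)
    exact hcM b hbM hbn g hgM _ (mul_mem (mul_mem hk hgM) (inv_mem hk)) (hc g hgL b hbL) (hc _ hgk b hbL)

theorem pair_hz {j : G} {F : Type*} [Field F] (M : Subgroup G) (e : ↥M ≃* Matrix.SpecialLinearGroup (Fin 2) F)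
    (h2 : (2 : F) ≠ 0) (hlike : CfsgLib.InvolChar.IsSLTwoLike M j) (u : G) (hu : u ∈ M)
    (h : ∀ k ∈ M, Commute u (k * u * k⁻¹)) : u = 1 ∨ u = j := by
  have hcen : ∀ k : Matrix.SpecialLinearGroup (Fin 2) F, e ⟨u, hu⟩ * k = k * e ⟨u, hu⟩ := by
    refine sl_central_of_conj h2 _ (fun l => ?_)
    obtain ⟨l, rfl⟩ := e.surjective l
    rw [← map_inv, ← map_mul, ← map_mul]
    exact (show Commute (⟨u, hu⟩ : ↥M) (l * ⟨u, hu⟩ * l⁻¹) from Subtype.ext (h l l.2)).map e.toMonoidHom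
  have hc' : e ⟨u, hu⟩ ∈ Subgroup.center (Matrix.SpecialLinearGroup (Fin 2) F) :=
    Subgroup.mem_center_iff.2 fun k => (hcen k).symm
  obtain ⟨r, hr, hr'⟩ := Matrix.SpecialLinearGroup.mem_center_iff.1 hc'
  have hsq : (⟨u, hu⟩ : ↥M) * ⟨u, hu⟩ = 1 := by
    apply e.injective
    rw [map_mul, map_one]
    apply Subtype.ext
    rw [Matrix.SpecialLinearGroup.coe_mul, ← hr', ← map_mul]
    rw [Fintype.card_fin, sq] at hr
    rw [hr, map_one]
    rfl
  exact hlike.inv u hu (congrArg Subtype.val hsq)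

theorem pair_hcomm {j : G} {F : Type*} [Field F] (M : Subgroup G) (e : ↥M ≃* Matrix.SpecialLinearGroup (Fin 2) F)
    (h2 : (2 : F) ≠ 0) (hlike : CfsgLib.InvolChar.IsSLTwoLike M j) (g : G) (hg : g ∈ M) (hgn : ¬ (g = 1 ∨ g = j))
    (v : G) (hv : v ∈ M) (w : G) (hw : w ∈ M) (h1 : v * g = g * v) (h2' : w * g = g * w) : v * w = w * v := by
  have hne : ∃ k, e ⟨g, hg⟩ * k ≠ k * e ⟨g, hg⟩ := by
    by_contra hno
    push Not at hno
    refine hgn (pair_hz M e h2 hlike g hg fun k hk => ?_)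
    have : (⟨g, hg⟩ : ↥M) * ⟨k, hk⟩ = ⟨k, hk⟩ * ⟨g, hg⟩ := e.injective (by rw [map_mul, map_mul, hno])
    have hgk : g * k = k * g := congrArg Subtype.val this
    rw [← hgk, mul_inv_cancel_right]
  have := sl_centralizer_comm (e ⟨g, hg⟩) (e ⟨v, hv⟩) (e ⟨w, hw⟩) hne
    (by rw [← map_mul, ← map_mul]; exact congrArg e (Subtype.ext h1))
    (by rw [← map_mul, ← map_mul]; exact congrArg e (Subtype.ext h2'))
  rw [← map_mul, ← map_mul] at this
  exact congrArg Subtype.val (e.injective this)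

end Pair


/-- Let G be a finite group with subgroups L₁ ≅ SL₂(q₁) and L₂ ≅ SL₂(q₂), q₁ and q₂ odd prime powers, which commute elementwise and meet in ⟨j⟩ for an involution j, and suppose L₁L₂ has index 2 in C_G(j). Then every element n of C_G(j) outside L₁L₂ either normalizes both L₁ and L₂, or conjugates L₁ onto L₂; in the second case q₁ = q₂ and there is an element n′ of C_G(j) outside L₁L₂ conjugating L₁ onto L₂ with n′² ∈ ⟨j⟩. -/
theorem result {G : Type*} [Group G] [Finite G]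
    {F₁ : Type*} [Field F₁] [Fintype F₁] {F₂ : Type*} [Field F₂] [Fintype F₂]
    (hF₁ : Odd (Fintype.card F₁)) (hF₂ : Odd (Fintype.card F₂)) (L₁ L₂ : Subgroup G)
    (e₁ : ↥L₁ ≃* Matrix.SpecialLinearGroup (Fin 2) F₁) (e₂ : ↥L₂ ≃* Matrix.SpecialLinearGroup (Fin 2) F₂)
    (hc : ∀ x ∈ L₁, ∀ y ∈ L₂, x * y = y * x) (j : G) (hj : orderOf j = 2) (hm : L₁ ⊓ L₂ = Subgroup.zpowers j)
    (hle : L₁ ⊔ L₂ ≤ Subgroup.centralizer ({j} : Set G)) (hi : (L₁ ⊔ L₂).relIndex (Subgroup.centralizer ({j} : Set G)) = 2) (n : G) (hn : n ∈ Subgroup.centralizer ({j} : Set G)) (hn' : n ∉ L₁ ⊔ L₂) :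
    (L₁.map (MulAut.conj n).toMonoidHom = L₁ ∧ L₂.map (MulAut.conj n).toMonoidHom = L₂) ∨
      (L₁.map (MulAut.conj n).toMonoidHom = L₂ ∧ Fintype.card F₁ = Fintype.card F₂ ∧
        ∃ n' ∈ Subgroup.centralizer ({j} : Set G), n' ∉ L₁ ⊔ L₂ ∧ L₁.map (MulAut.conj n').toMonoidHom = L₂ ∧ n' ^ 2 ∈ Subgroup.zpowers j) := by
  have hj2 : j * j = 1 := by rw [← sq, ← hj]; exact pow_orderOf_eq_one j
  have hjL : j ∈ L₁ ⊓ L₂ := by rw [hm]; exact Subgroup.mem_zpowers j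
  have hzj : ∀ w ∈ Subgroup.zpowers j, w = 1 ∨ w = j := by
    intro w hw
    obtain ⟨k, rfl⟩ := Subgroup.mem_zpowers_iff.1 hw
    rcases Int.even_or_odd k with ⟨i, rfl⟩ | ⟨i, rfl⟩
    · left; rw [← two_mul, _root_.zpow_mul, zpow_ofNat, sq, hj2, _root_.one_zpow]
    · right; rw [_root_.zpow_add, _root_.zpow_mul, zpow_ofNat, sq, hj2, _root_.one_zpow, one_mul, zpow_one]
  set L := L₁ ⊔ L₂ with hL
  set C := Subgroup.centralizer ({j} : Set G) with hC
  have hnormal : (L.subgroupOf C).Normal := Subgroup.normal_of_index_eq_two hi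
  have hconjL : ∀ x ∈ C, ∀ l ∈ L, x * l * x⁻¹ ∈ L := fun x hx l hl =>
    hnormal.conj_mem ⟨l, hle hl⟩ hl ⟨x, hx⟩
  have hjc : ∀ g ∈ L, Commute g j := fun g hg => Subgroup.mem_centralizer_singleton_iff.1 (hle hg)
  have h2₁ : (2 : F₁) ≠ 0 := CfsgLib.Classical.two_ne_zero_of_odd_card hF₁
  have h2₂ : (2 : F₂) ≠ 0 := CfsgLib.Classical.two_ne_zero_of_odd_card hF₂
  -- transfer of the two matrix lemmas to a subgroup
  have hlike₁ := CfsgLib.InvolChar.isSLTwoLike hF₁ L₁ e₁ j hj hjL.1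
  have hlike₂ := CfsgLib.InvolChar.isSLTwoLike hF₂ L₂ e₂ j hj hjL.2
  set M₁ := L₁.map (MulAut.conj n).toMonoidHom with hM₁
  set M₂ := L₂.map (MulAut.conj n).toMonoidHom with hM₂
  have hMj : ∀ {A : Subgroup G}, j ∈ A → j ∈ A.map (MulAut.conj n).toMonoidHom := fun {A} hA =>
    ⟨j, hA, by simp [Subgroup.mem_centralizer_singleton_iff.1 hn]⟩
  have hsub : ∀ A : Subgroup G, A ≤ L → A.map (MulAut.conj n).toMonoidHom ≤ L ∧
      ((∀ a ∈ A, ∀ k ∈ L, k * a * k⁻¹ ∈ A) →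
        ∀ m ∈ A.map (MulAut.conj n).toMonoidHom, ∀ k ∈ L, k * m * k⁻¹ ∈ A.map (MulAut.conj n).toMonoidHom) := by
    intro A hA
    refine ⟨?_, fun hAn => ?_⟩
    · rintro _ ⟨a, ha, rfl⟩; exact hconjL n hn a (hA ha)
    · rintro _ ⟨a, ha, rfl⟩ k hk
      refine ⟨(n⁻¹ * k * n) * a * (n⁻¹ * k * n)⁻¹, hAn a ha _ ?_, by simp [mul_assoc]⟩
      have := hconjL n⁻¹ (inv_mem hn) k hk
      rwa [inv_inv] at this
  have hn₁ : ∀ a ∈ L₁, ∀ k ∈ L, k * a * k⁻¹ ∈ L₁ := by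
    intro a ha k hk
    obtain ⟨p, hp, q, hq, rfl⟩ := CfsgLib.InvolChar.exists_mul_of_mem_sup hc hk
    rw [show p * q * a * (p * q)⁻¹ = p * (q * a) * q⁻¹ * p⁻¹ by group, (hc a ha q hq).symm,
      show p * (a * q) * q⁻¹ * p⁻¹ = p * a * p⁻¹ by group]
    exact mul_mem (mul_mem hp ha) (inv_mem hp)
  have hn₂ : ∀ a ∈ L₂, ∀ k ∈ L, k * a * k⁻¹ ∈ L₂ := by
    intro a ha k hk
    obtain ⟨p, hp, q, hq, rfl⟩ := CfsgLib.InvolChar.exists_mul_of_mem_sup hc hk
    rw [show p * q * a * (p * q)⁻¹ = p * (q * a * q⁻¹) * p⁻¹ by group,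
      hc p hp _ (mul_mem (mul_mem hq ha) (inv_mem hq)), mul_inv_cancel_right]
    exact mul_mem (mul_mem hq ha) (inv_mem hq)
  let f₁ := (L₁.equivMapOfInjective (MulAut.conj n).toMonoidHom (MulAut.conj n).injective).symm.trans e₁
  let f₂ := (L₂.equivMapOfInjective (MulAut.conj n).toMonoidHom (MulAut.conj n).injective).symm.trans e₂
  have hl₁ := CfsgLib.InvolChar.isSLTwoLike hF₁ M₁ f₁ j hj (hMj hjL.1)
  have hl₂ := CfsgLib.InvolChar.isSLTwoLike hF₂ M₂ f₂ j hj (hMj hjL.2)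
  have r₁ : M₁ ≤ L₁ ∨ M₁ ≤ L₂ := le_factor hc hm (pair_hz L₁ e₁ h2₁ hlike₁) (hsub L₁ le_sup_left).1
    ((hsub L₁ le_sup_left).2 hn₁) (pair_hz M₁ f₁ h2₁ hl₁) (pair_hz L₂ e₂ h2₂ hlike₂) (pair_hcomm M₁ f₁ h2₁ hl₁) hjc
  have r₂ : M₂ ≤ L₁ ∨ M₂ ≤ L₂ := le_factor hc hm (pair_hz L₁ e₁ h2₁ hlike₁) (hsub L₂ le_sup_right).1
    ((hsub L₂ le_sup_right).2 hn₂) (pair_hz M₂ f₂ h2₂ hl₂) (pair_hz L₂ e₂ h2₂ hlike₂) (pair_hcomm M₂ f₂ h2₂ hl₂) hjc
  have hcard : ∀ A : Subgroup G, Nat.card ↥(A.map (MulAut.conj n).toMonoidHom) = Nat.card ↥A := fun A =>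
    Subgroup.card_map_of_injective (MulAut.conj n).injective
  have hnotboth : ∀ {A B A' : Subgroup G}, A' = A.map (MulAut.conj n).toMonoidHom →
      B.map (MulAut.conj n).toMonoidHom ≤ B → A' ≤ B → A ≤ B := by
    intro A B A' e hB hA
    have hBe := Subgroup.eq_of_le_of_card_ge hB (hcard B).ge
    exact (Subgroup.map_le_map_iff_of_injective (MulAut.conj n).injective).1 (hA.trans hBe.ge |> fun h => e ▸ h)
  have hno₁₂ : ¬ L₁ ≤ L₂ := fun h => by
    obtain ⟨a, ha, haa⟩ := hlike₁.exists_root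
    rcases hzj a (hm.le ⟨ha, h ha⟩) with rfl | rfl
    · rw [one_mul] at haa; rw [← haa, orderOf_one] at hj; norm_num at hj
    · rw [hj2] at haa; rw [← haa, orderOf_one] at hj; norm_num at hj
  have hno₂₁ : ¬ L₂ ≤ L₁ := fun h => by
    obtain ⟨a, ha, haa⟩ := hlike₂.exists_root
    rcases hzj a (hm.le ⟨h ha, ha⟩) with rfl | rfl
    · rw [one_mul] at haa; rw [← haa, orderOf_one] at hj; norm_num at hj
    · rw [hj2] at haa; rw [← haa, orderOf_one] at hj; norm_num at hj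
  rcases r₁ with r₁ | r₁
  · left
    refine ⟨Subgroup.eq_of_le_of_card_ge r₁ (hcard L₁).ge, ?_⟩
    have : M₂ ≤ L₂ := r₂.resolve_left fun h => hno₂₁ (hnotboth rfl r₁ h)
    exact Subgroup.eq_of_le_of_card_ge this (hcard L₂).ge
  · right
    have r₂' : M₂ ≤ L₁ := r₂.resolve_right fun h => hno₁₂ (hnotboth rfl h r₁)
    have hc12 : Nat.card ↥L₁ = Nat.card ↥L₂ := le_antisymm
      (hcard L₁ ▸ Subgroup.card_le_of_le r₁) (hcard L₂ ▸ Subgroup.card_le_of_le r₂')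
    have heq := Subgroup.eq_of_le_of_card_ge r₁ (by rw [hcard, hc12])
    have hq : Fintype.card F₁ = Fintype.card F₂ := by
      have k1 := CfsgLib.Classical.card_SL_mul (F := F₁) rfl 2 (by norm_num)
      have k2 := CfsgLib.Classical.card_SL_mul (F := F₂) rfl 2 (by norm_num)
      rw [Nat.card_congr e₁.toEquiv, Nat.card_congr e₂.toEquiv] at hc12
      rw [hc12] at k1
      simp [Fin.prod_univ_two] at k1 k2
      set c := Nat.card (Matrix.SpecialLinearGroup (Fin 2) F₂)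
      have mono : ∀ {q q' : ℕ}, 2 ≤ q → q < q' → (q ^ 2 - 1) * (q ^ 2 - q) = (q - 1) * c →
          (q' ^ 2 - 1) * (q' ^ 2 - q') = (q' - 1) * c → False := by
        intro q q' hq hlt a b
        obtain ⟨i, rfl⟩ : ∃ i, q = i + 2 := ⟨q - 2, by omega⟩
        obtain ⟨i', rfl⟩ : ∃ i', q' = i' + 2 := ⟨q' - 2, by omega⟩
        have f : ∀ k : ℕ, (k + 2) ^ 2 - 1 = (k + 1) * (k + 3) ∧ (k + 2) ^ 2 - (k + 2) = (k + 1) * (k + 2) := by
          intro k; constructor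
          · rw [Nat.sub_eq_iff_eq_add (Nat.one_le_pow _ _ (by omega))]; ring
          · rw [Nat.sub_eq_iff_eq_add (Nat.le_self_pow (by norm_num) _)]; ring
        rw [(f i).1, (f i).2, show i + 2 - 1 = i + 1 by omega] at a
        rw [(f i').1, (f i').2, show i' + 2 - 1 = i' + 1 by omega] at b
        have a' : (i + 3) * ((i + 1) * (i + 2)) = c := Nat.eq_of_mul_eq_mul_left (by omega : 0 < i + 1) (by rw [← a]; ring)
        have b' : (i' + 3) * ((i' + 1) * (i' + 2)) = c := Nat.eq_of_mul_eq_mul_left (by omega : 0 < i' + 1) (by rw [← b]; ring)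
        have : i < i' := by omega
        have : (i + 3) * ((i + 1) * (i + 2)) < (i' + 3) * ((i' + 1) * (i' + 2)) :=
          Nat.mul_lt_mul_of_lt_of_lt (by omega) (Nat.mul_lt_mul_of_lt_of_lt (by omega) (by omega))
        omega
      rcases lt_trichotomy (Fintype.card F₁) (Fintype.card F₂) with h | h | h
      · exact (mono Fintype.one_lt_card h k1.symm k2.symm).elim
      · exact h
      · exact (mono Fintype.one_lt_card h k2.symm k1.symm).elim
    refine ⟨heq, hq, ?_⟩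
    have hn2L : n * n ∈ L := Subgroup.mul_self_mem_of_index_two (H := L.subgroupOf C) hi ⟨n, hn⟩
    obtain ⟨u, hu, v, hv, huv⟩ := CfsgLib.InvolChar.exists_mul_of_mem_sup hc hn2L
    have hu' : n * u * n⁻¹ ∈ L₂ := r₁ ⟨u, hu, rfl⟩
    have hv' : n * v * n⁻¹ ∈ L₁ := r₂' ⟨v, hv, rfl⟩
    have hfix : (n * v * n⁻¹) * (n * u * n⁻¹) = u * v := by
      calc n * v * n⁻¹ * (n * u * n⁻¹) = n * (v * u) * n⁻¹ := by group
        _ = u * v := by rw [← hc u hu v hv, ← huv]; group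
    have hz' : v * (n * u⁻¹ * n⁻¹) ∈ Subgroup.zpowers j := by
      have e : v * (n * u⁻¹ * n⁻¹) = u⁻¹ * (n * v * n⁻¹) := by
        calc v * (n * u⁻¹ * n⁻¹) = u⁻¹ * (u * v) * (n * u⁻¹ * n⁻¹) := by group
          _ = u⁻¹ * (n * v * n⁻¹) := by rw [← hfix]; group
      rw [← hm]
      refine Subgroup.mem_inf.2 ⟨?_, ?_⟩
      · rw [e]; exact mul_mem (inv_mem hu) hv'
      · exact mul_mem hv (by have := inv_mem hu'; rwa [_root_.mul_inv_rev, _root_.mul_inv_rev, inv_inv, ← mul_assoc] at this)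
    have huC : u⁻¹ ∈ L := inv_mem (Subgroup.mem_sup_left hu)
    refine ⟨u⁻¹ * n, mul_mem (hle huC) hn, fun h => hn' (by simpa using mul_mem (inv_mem huC) h), ?_, ?_⟩
    · rw [← heq]
      have hu1 : L₁.map (MulAut.conj u⁻¹).toMonoidHom = L₁ := by
        refine Subgroup.eq_of_le_of_card_ge ?_ (Subgroup.card_map_of_injective (MulAut.conj u⁻¹).injective).ge
        rintro _ ⟨a, ha, rfl⟩
        exact mul_mem (mul_mem (inv_mem hu) ha) (by rw [inv_inv]; exact hu)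
      have hu2 : L₂.map (MulAut.conj u⁻¹).toMonoidHom = L₂ := by
        refine Subgroup.eq_of_le_of_card_ge ?_ (Subgroup.card_map_of_injective (MulAut.conj u⁻¹).injective).ge
        rintro _ ⟨a, ha, rfl⟩
        exact hn₂ a ha _ huC
      rw [map_mul, show (MulAut.conj u⁻¹ * MulAut.conj n).toMonoidHom =
        (MulAut.conj u⁻¹).toMonoidHom.comp (MulAut.conj n).toMonoidHom from rfl, ← Subgroup.map_map, ← hM₁, heq, hu2]
    · have : (u⁻¹ * n) ^ 2 = v * (n * u⁻¹ * n⁻¹) * 1 := by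
        rw [sq]
        calc u⁻¹ * n * (u⁻¹ * n) = u⁻¹ * (n * u⁻¹ * n⁻¹) * (n * n) := by group
          _ = u⁻¹ * ((n * u⁻¹ * n⁻¹) * u) * v := by rw [huv]; group
          _ = u⁻¹ * (u * (n * u⁻¹ * n⁻¹)) * v := by
            rw [hc u hu _ (by have := inv_mem hu'; rwa [_root_.mul_inv_rev, _root_.mul_inv_rev, inv_inv, ← mul_assoc] at this)]
          _ = (n * u⁻¹ * n⁻¹) * v := by group
          _ = v * (n * u⁻¹ * n⁻¹) * 1 := by
            rw [mul_one]
            have e : v * (n * u⁻¹ * n⁻¹) = (n * u⁻¹ * n⁻¹) * v := by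
              rcases hzj _ hz' with h | h
              · have h' : n * u⁻¹ * n⁻¹ = v⁻¹ := eq_inv_of_mul_eq_one_right h
                rw [h', inv_mul_cancel, mul_inv_cancel]
              · have h' : n * u⁻¹ * n⁻¹ = v⁻¹ * j := eq_inv_mul_of_mul_eq h
                rw [h', ← mul_assoc, mul_inv_cancel, one_mul, mul_assoc,
                  ← (hjc v (Subgroup.mem_sup_right hv)).eq, ← mul_assoc, inv_mul_cancel, one_mul]
            exact e.symm
      rw [this, mul_one]; exact hz'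

end Cfsg.Agent.S3210
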