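import Cfsg.Statements.S3211
import Mathlib
import Cfsg.Agent.Lib.InvolChar.TwoSL2
import Cfsg.Agent.Lib.Invol.ZStar
import Cfsg.Agent.S0215
-- import your own Cfsg.Agent.* helpers here

set_option autoImplicit false
open Cfsg

namespace Cfsg.Agent.S3211


section

variable {G : Type*} [Group G] [Finite G] {L₁ L₂ : Subgroup G}

open CfsgLib.InvolChar

set_option maxHeartbeats 800000 in
/-- An interchanged pair: `j` is not conjugate to a second involution of its centralizer. -/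
theorem isolated_of_swap (hc : ∀ x ∈ L₁, ∀ y ∈ L₂, x * y = y * x) (j : G) (hj : orderOf j = 2)
    (hm : L₁ ⊓ L₂ = Subgroup.zpowers j) (h₁ : IsSLTwoLike L₁ j) (h₂ : IsSLTwoLike L₂ j)
    (hle : L₁ ⊔ L₂ ≤ Subgroup.centralizer ({j} : Set G))
    (hi : (L₁ ⊔ L₂).relIndex (Subgroup.centralizer ({j} : Set G)) = 2)
    (n : G) (hn : n ∈ Subgroup.centralizer ({j} : Set G)) (hn2 : n * n = j)
    (hswap : L₁.map (MulAut.conj n).toMonoidHom = L₂) : Cfsg.IsIsolatedInvolution j := by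
  classical
  haveI := Fintype.ofFinite G
  set C := Subgroup.centralizer ({j} : Set G) with hC
  have hj2 : j * j = 1 := by rw [← sq, ← hj]; exact pow_orderOf_eq_one j
  have hj1 : j ≠ 1 := fun h => by rw [h, orderOf_one] at hj; norm_num at hj
  have hji : j⁻¹ = j := inv_eq_of_mul_eq_one_right hj2
  have hjL : j ∈ L₁ ⊓ L₂ := by rw [hm]; exact Subgroup.mem_zpowers j
  obtain ⟨hjL₁, hjL₂⟩ := Subgroup.mem_inf.1 hjL
  have hcen : ∀ g ∈ C, j * g = g * j := fun g hg => (Subgroup.mem_centralizer_singleton_iff.1 hg).symm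
  have hC1 : L₁ ≤ C := le_trans le_sup_left hle
  have hC2 : L₂ ≤ C := le_trans le_sup_right hle
  have hzj : ∀ w ∈ L₁, w ∈ L₂ → w = 1 ∨ w = j := by
    intro w h1 h2
    have hw : w ∈ Subgroup.zpowers j := hm ▸ Subgroup.mem_inf.2 ⟨h1, h2⟩
    obtain ⟨k, rfl⟩ := Subgroup.mem_zpowers_iff.1 hw
    rcases Int.even_or_odd k with ⟨i, rfl⟩ | ⟨i, rfl⟩
    · left; rw [← two_mul, zpow_mul, zpow_two, hj2, one_zpow]
    · right; rw [zpow_add, zpow_mul, zpow_two, hj2, one_zpow, one_mul, zpow_one]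
  have hφ : ∀ u ∈ L₁, n * u * n⁻¹ ∈ L₂ := fun u hu => hswap ▸ ⟨u, hu, rfl⟩
  have hinvn : ∀ g ∈ C, n * (n * g * n⁻¹) * n⁻¹ = g := by
    intro g hg
    calc n * (n * g * n⁻¹) * n⁻¹ = (n * n) * g * (n * n)⁻¹ := by group
      _ = g := by rw [hn2, hcen g hg, mul_inv_cancel_right]
  have hflip : ∀ g ∈ C, n⁻¹ * g * n = n * g * n⁻¹ := by
    intro g hg
    calc n⁻¹ * g * n = n⁻¹ * (n * (n * g * n⁻¹) * n⁻¹) * n := by rw [hinvn g hg]
      _ = n * g * n⁻¹ := by group
  have hψ : ∀ v ∈ L₂, n * v * n⁻¹ ∈ L₁ := by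
    intro v hv
    obtain ⟨u, hu, rfl⟩ : v ∈ L₁.map (MulAut.conj n).toMonoidHom := hswap ▸ hv
    show n * (n * u * n⁻¹) * n⁻¹ ∈ L₁
    rw [hinvn u (hC1 hu)]; exact hu
  obtain ⟨a, ha, haa⟩ := h₁.exists_root
  set b := n * a * n⁻¹ with hb
  have hbL : b ∈ L₂ := hφ a ha
  have hnjn : n * j * n⁻¹ = j := by rw [← hcen n hn, mul_inv_cancel_right]
  have hbb : b * b = j := by
    calc b * b = n * (a * a) * n⁻¹ := by rw [hb]; group
      _ = j := by rw [haa, hnjn]
  set x := a * b with hx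
  have haj : a * j = j * a := (hcen a (hC1 ha)).symm
  have hbj : b * j = j * b := (hcen b (hC2 hbL)).symm
  have haL2 : a ∉ L₂ := by
    intro h
    rcases hzj a ha h with h' | h'
    · rw [h', one_mul] at haa; exact hj1 haa.symm
    · rw [h', hj2] at haa; exact hj1 haa.symm
  have hnL : n ∉ L₁ ⊔ L₂ := by
    intro h
    obtain ⟨u, hu, v, hv, he⟩ := exists_mul_of_mem_sup hc h
    apply haL2
    have h1 : v * a = a * v := (hc a ha v hv).symm
    have hbe : b = u * a * u⁻¹ := by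
      rw [hb, he]
      calc u * v * a * (u * v)⁻¹ = u * (v * a) * v⁻¹ * u⁻¹ := by group
        _ = u * a * u⁻¹ := by rw [h1]; group
    have hua : u * a * u⁻¹ ∈ L₁ := mul_mem (mul_mem hu ha) (inv_mem hu)
    rw [← hbe] at hua
    rcases hzj b hua hbL with h' | h'
    · rw [h', one_mul] at hbb; exact absurd hbb.symm hj1
    · rw [h', hj2] at hbb; exact absurd hbb.symm hj1
  have hdec : ∀ g ∈ C, (∃ u ∈ L₁, ∃ v ∈ L₂, g = u * v) ∨ ∃ u ∈ L₁, ∃ v ∈ L₂, g = n * (u * v) := by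
    intro g hg
    by_cases hgL : g ∈ L₁ ⊔ L₂
    · exact Or.inl (exists_mul_of_mem_sup hc hgL)
    · right
      have h2 : (n⁻¹ * g : G) ∈ L₁ ⊔ L₂ := by
        have hiff := Subgroup.mul_mem_iff_of_index_two (H := (L₁ ⊔ L₂).subgroupOf C) hi
          (a := (⟨n, hn⟩ : ↥C)⁻¹) (b := ⟨g, hg⟩)
        refine Subgroup.mem_subgroupOf.1 (hiff.2 (iff_of_false ?_ ?_))
        · exact fun h => hnL (Subgroup.mem_subgroupOf.1 (inv_mem_iff.1 h))
        · exact fun h => hgL (Subgroup.mem_subgroupOf.1 h)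
      obtain ⟨u, hu, v, hv, he⟩ := exists_mul_of_mem_sup hc h2
      exact ⟨u, hu, v, hv, by rw [← he]; group⟩
  -- the squares outside the product
  have hnsq : ∀ u ∈ L₁, ∀ v ∈ L₂, n * (u * v) * (n * (u * v)) = j * ((n⁻¹ * v * n) * u * ((n⁻¹ * u * n) * v)) := by
    intro u hu v hv
    have h1 : (n⁻¹ * v * n) ∈ L₁ := by rw [hflip v (hC2 hv)]; exact hψ v hv
    have h2 : (n⁻¹ * u * n) ∈ L₂ := by rw [hflip u (hC1 hu)]; exact hφ u hu
    calc n * (u * v) * (n * (u * v)) = (n * n) * ((n⁻¹ * u * n) * (n⁻¹ * v * n) * (u * v)) := by group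
      _ = j * ((n⁻¹ * v * n) * (n⁻¹ * u * n) * (u * v)) := by rw [hn2, ← hc _ h1 _ h2]
      _ = j * ((n⁻¹ * v * n) * ((n⁻¹ * u * n) * u) * v) := by group
      _ = j * ((n⁻¹ * v * n) * (u * (n⁻¹ * u * n)) * v) := by rw [← hc u hu _ h2]
      _ = _ := by group
  have hrel : ∀ u ∈ L₁, ∀ v ∈ L₂, n * ((n⁻¹ * v * n) * u) * n⁻¹ = v * ((n⁻¹ * u * n) * v) * v⁻¹ := by
    intro u hu v hv
    rw [hflip u (hC1 hu)]
    group
  have hinvC : ∀ g ∈ C, g * g = 1 → g = 1 ∨ g = j ∨ ∃ c ∈ C, c * x * c⁻¹ = g := by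
    intro g hg hg2
    rcases hdec g hg with ⟨u, hu, v, hv, rfl⟩ | ⟨u, hu, v, hv, rfl⟩
    · rcases pair_involutions hc hj2 hm h₁ h₂ ha haa hbL hbb
        (mul_mem (Subgroup.mem_sup_left hu) (Subgroup.mem_sup_right hv)) hg2 with h | h | ⟨c, hcm, h⟩
      · exact Or.inl h
      · exact Or.inr (Or.inl h)
      · exact Or.inr (Or.inr ⟨c, hle hcm, h⟩)
    · exfalso
      rw [hnsq u hu v hv] at hg2
      set c := (n⁻¹ * v * n) * u with hc0
      set c' := (n⁻¹ * u * n) * v with hc0'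
      have hcm : c ∈ L₁ := mul_mem (by rw [hflip v (hC2 hv)]; exact hψ v hv) hu
      have hcm' : c' ∈ L₂ := mul_mem (by rw [hflip u (hC1 hu)]; exact hφ u hu) hv
      have hr := hrel u hu v hv
      rw [← hc0, ← hc0'] at hr
      have hcc : c * c' = j := by
        calc c * c' = j * (j * (c * c')) := by rw [← mul_assoc j j, hj2, one_mul]
          _ = j := by rw [hg2, mul_one]
      have hcz : c ∈ L₂ := by rw [eq_mul_inv_of_mul_eq hcc]; exact mul_mem hjL₂ (inv_mem hcm')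
      rcases hzj c hcm hcz with h | h <;> rw [h] at hcc hr
      · rw [one_mul] at hcc
        rw [hcc, mul_one, mul_inv_cancel, ← hcen v (hC2 hv), mul_inv_cancel_right] at hr
        exact hj1 hr.symm
      · rw [mul_eq_left] at hcc
        rw [hcc, mul_one, mul_inv_cancel, hnjn] at hr
        exact hj1 hr
  refine ⟨hj, fun g hcm => ?_⟩
  by_contra hne
  set y := g * j * g⁻¹ with hy
  have hy2 : y * y = 1 := by
    calc y * y = g * (j * j) * g⁻¹ := by rw [hy]; group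
      _ = 1 := by rw [hj2]; group
  have hy1 : y ≠ 1 := fun h => hj1 (conj_eq_one_iff.1 h)
  obtain ⟨c, hcC, hcy⟩ : ∃ c ∈ C, c * x * c⁻¹ = y := by
    rcases hinvC y (Subgroup.mem_centralizer_singleton_iff.2 hcm.eq.symm) hy2 with h | h | h
    · exact absurd h hy1
    · exact absurd h hne
    · exact h
  set g1 := c⁻¹ * g with hg1
  have hg1j : g1 * j * g1⁻¹ = x := by
    calc g1 * j * g1⁻¹ = c⁻¹ * (g * j * g⁻¹) * c := by rw [hg1]; group
      _ = x := by rw [← hy, ← hcy]; group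
  have hx2 : x * x = 1 := by
    calc x * x = g1 * (j * j) * g1⁻¹ := by rw [← hg1j]; group
      _ = 1 := by rw [hj2]; group
  have hxne : x ≠ j := fun h => hne (by rw [← hcy, h, ← hcen c hcC, mul_inv_cancel_right])
  have hxj : j * x = x * j := hcen x (mul_mem (hC1 ha) (hC2 hbL))
  obtain ⟨d, hdC, hd⟩ : ∃ d ∈ C, d * x * d⁻¹ = g1⁻¹ * j * g1 := by
    have hin : g1⁻¹ * j * g1 ∈ C := by
      refine Subgroup.mem_centralizer_singleton_iff.2 ?_
      have h0 : j = g1⁻¹ * x * g1 := by rw [← hg1j]; group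
      calc g1⁻¹ * j * g1 * j = g1⁻¹ * j * g1 * (g1⁻¹ * x * g1) := by rw [← h0]
        _ = g1⁻¹ * (j * x) * g1 := by group
        _ = g1⁻¹ * (x * j) * g1 := by rw [hxj]
        _ = (g1⁻¹ * x * g1) * (g1⁻¹ * j * g1) := by group
        _ = j * (g1⁻¹ * j * g1) := by rw [← h0]
    rcases hinvC _ hin (by
      calc g1⁻¹ * j * g1 * (g1⁻¹ * j * g1) = g1⁻¹ * (j * j) * g1 := by group
        _ = 1 := by rw [hj2]; group) with h | h | h
    · exact absurd (by
        calc j = g1 * (g1⁻¹ * j * g1) * g1⁻¹ := by group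
          _ = 1 := by rw [h]; group) hj1
    · exact absurd (by
        calc x = g1 * j * g1⁻¹ := hg1j.symm
          _ = g1 * (g1⁻¹ * j * g1) * g1⁻¹ := by rw [h]
          _ = j := by group) hxne
    · exact h
  set h := g1 * d with hh
  have hdj : d * j * d⁻¹ = j := by rw [← hcen d hdC, mul_inv_cancel_right]
  have hhj : h * j * h⁻¹ = x := by
    calc h * j * h⁻¹ = g1 * (d * j * d⁻¹) * g1⁻¹ := by rw [hh]; group
      _ = x := by rw [hdj, hg1j]
  have hhx : h * x * h⁻¹ = j := by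
    calc h * x * h⁻¹ = g1 * (d * x * d⁻¹) * g1⁻¹ := by rw [hh]; group
      _ = j := by rw [hd]; group
  -- roots inside the joint centralizer
  set Rj := Finset.univ.filter (fun m : G => m * x = x * m ∧ m * m = j) with hRj
  set Rx := Finset.univ.filter (fun m : G => m * j = j * m ∧ m * m = x) with hRx
  have hcard : Rj.card ≤ Rx.card := by
    refine Finset.card_le_card_of_injOn (fun m => h * m * h⁻¹) (fun m hm' => ?_) (fun m _ m' _ e => mul_left_cancel (mul_right_cancel e))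
    obtain ⟨-, h1, h2⟩ := Finset.mem_filter.1 hm'
    refine Finset.mem_filter.2 ⟨Finset.mem_univ _, ?_, ?_⟩
    · calc h * m * h⁻¹ * j = h * m * h⁻¹ * (h * x * h⁻¹) := by rw [hhx]
        _ = h * (m * x) * h⁻¹ := by group
        _ = (h * x * h⁻¹) * (h * m * h⁻¹) := by rw [h1]; group
        _ = j * (h * m * h⁻¹) := by rw [hhx]
    · calc h * m * h⁻¹ * (h * m * h⁻¹) = h * (m * m) * h⁻¹ := by group
        _ = x := by rw [h2, hhj]
  -- the roots of x outside the product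
  set Sx := Rx.filter (fun m => m ∉ L₁ ⊔ L₂) with hSx
  have hin4 : (Rx.filter (fun m => m ∈ L₁ ⊔ L₂)).card ≤ 4 := by
    have hclass : ∀ A : G, ∀ B : G, A * A = j → B * B = j →
        ((Finset.univ : Finset G).filter (fun m => ∃ u ∈ L₁, ∃ v ∈ L₂, m = u * v ∧ u * u = A ∧ v * v = B)).card ≤ 2 := by
      intro A B hA hB
      rcases Finset.eq_empty_or_nonempty ((Finset.univ : Finset G).filter
          (fun m => ∃ u ∈ L₁, ∃ v ∈ L₂, m = u * v ∧ u * u = A ∧ v * v = B)) with he | ⟨m0, hm0⟩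
      · rw [he]; simp
      · obtain ⟨-, u0, hu0, v0, hv0, rfl, hu0', hv0'⟩ := Finset.mem_filter.1 hm0
        refine (Finset.card_le_card (t := {u0 * v0, u0 * v0 * j}) ?_).trans Finset.card_le_two
        intro m hm'
        obtain ⟨-, u, hu, v, hv, rfl, hu', hv'⟩ := Finset.mem_filter.1 hm'
        simp only [Finset.mem_insert, Finset.mem_singleton]
        have hju : ∀ v ∈ L₂, j * v = v * j := fun v hv => hcen v (hC2 hv)
        rcases h₁.roots u0 hu0 u hu (by rw [hu0']; exact hA) (hu'.trans hu0'.symm) with e | e <;>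
          rcases h₂.roots v0 hv0 v hv (by rw [hv0']; exact hB) (hv'.trans hv0'.symm) with e' | e' <;> rw [e, e']
        · exact Or.inl rfl
        · right; group
        · right; rw [mul_assoc, hju v0 hv0, ← mul_assoc]
        · left
          calc u0 * j * (v0 * j) = u0 * (j * v0) * j := by group
            _ = u0 * v0 * (j * j) := by rw [hju v0 hv0]; group
            _ = u0 * v0 := by rw [hj2, mul_one]
    have haj2 : (a * j) * (a * j) = j := by
      rw [mul_assoc, ← mul_assoc j, ← haj, mul_assoc a, hj2, mul_one, haa]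
    have hbj2 : (b * j) * (b * j) = j := by
      rw [mul_assoc, ← mul_assoc j, ← hbj, mul_assoc b, hj2, mul_one, hbb]
    refine (Finset.card_le_card (t := (Finset.univ.filter (fun m => ∃ u ∈ L₁, ∃ v ∈ L₂, m = u * v ∧ u * u = a ∧ v * v = b)) ∪
      (Finset.univ.filter (fun m => ∃ u ∈ L₁, ∃ v ∈ L₂, m = u * v ∧ u * u = a * j ∧ v * v = b * j))) ?_).trans
      ((Finset.card_union_le _ _).trans (Nat.add_le_add (hclass _ _ haa hbb) (hclass _ _ haj2 hbj2)))
    intro m hm'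
    obtain ⟨hm1, hmL⟩ := Finset.mem_filter.1 hm'
    obtain ⟨-, -, hmx⟩ := Finset.mem_filter.1 hm1
    obtain ⟨u, hu, v, hv, rfl⟩ := exists_mul_of_mem_sup hc hmL
    rw [sq_of_commute hc hu hv, hx] at hmx
    have h12 : a⁻¹ * (u * u) = b * (v * v)⁻¹ := by
      calc a⁻¹ * (u * u) = a⁻¹ * (u * u * (v * v)) * (v * v)⁻¹ := by group
        _ = _ := by rw [hmx]; group
    have hz := hzj _ (mul_mem (inv_mem ha) (mul_mem hu hu)) (h12 ▸ mul_mem hbL (inv_mem (mul_mem hv hv)))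
    rcases hz with hz | hz
    · refine Finset.mem_union_left _ (Finset.mem_filter.2 ⟨Finset.mem_univ _, u, hu, v, hv, rfl, (inv_mul_eq_one.1 hz).symm, ?_⟩)
      rw [h12] at hz
      exact (mul_inv_eq_one.1 hz).symm
    · refine Finset.mem_union_right _ (Finset.mem_filter.2 ⟨Finset.mem_univ _, u, hu, v, hv, rfl, ?_, ?_⟩)
      · rw [← hz]; group
      · rw [h12, mul_inv_eq_iff_eq_mul] at hz
        calc v * v = j * (j * (v * v)) := by rw [← mul_assoc, hj2, one_mul]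
          _ = b * j := by rw [← hz, hbj]
  -- compare
  let good : G → G → Prop := fun m m' => ∃ u ∈ L₁, ∃ v ∈ L₂, ∃ e : G, (e = 1 ∨ e = j) ∧ m = n * (u * v) ∧
    (n⁻¹ * v * n) * u = a * (e * j) ∧ v⁻¹ * b * v = b * j ∧ m' = n * (n⁻¹ * v⁻¹ * n * e * v)
  have hgood : ∀ m ∈ Sx, ∃ m', good m m' := by
    intro m hm'
    obtain ⟨hm1, hmL⟩ := Finset.mem_filter.1 hm'
    obtain ⟨-, hmj, hmx⟩ := Finset.mem_filter.1 hm1
    rcases hdec m (Subgroup.mem_centralizer_singleton_iff.2 hmj) with ⟨u, hu, v, hv, rfl⟩ | ⟨u, hu, v, hv, rfl⟩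
    · exact absurd (mul_mem (Subgroup.mem_sup_left hu) (Subgroup.mem_sup_right hv)) hmL
    rw [hnsq u hu v hv, hx] at hmx
    set c := (n⁻¹ * v * n) * u with hc0
    set c' := (n⁻¹ * u * n) * v with hc0'
    have hcm : c ∈ L₁ := mul_mem (by rw [hflip v (hC2 hv)]; exact hψ v hv) hu
    have hcm' : c' ∈ L₂ := mul_mem (by rw [hflip u (hC1 hu)]; exact hφ u hu) hv
    have hr := hrel u hu v hv
    rw [← hc0, ← hc0'] at hr
    have hcc : c * c' = j * (a * b) := by
      rw [← hmx, ← mul_assoc j, hj2, one_mul]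
    have h12 : a⁻¹ * c * j = b * c'⁻¹ := by
      calc a⁻¹ * c * j = a⁻¹ * (c * c') * (c'⁻¹ * j) := by group
        _ = a⁻¹ * (j * a) * b * (c'⁻¹ * j) := by rw [hcc]; group
        _ = a⁻¹ * a * (j * b) * (c'⁻¹ * j) := by rw [← haj]; group
        _ = j * (b * c'⁻¹) * j := by group
        _ = b * c'⁻¹ := by rw [hcen _ (hC2 (mul_mem hbL (inv_mem hcm'))), mul_assoc, hj2, mul_one]
    obtain ⟨e, hce, he, hce'⟩ : ∃ e, c = a * (e * j) ∧ (e = 1 ∨ e = j) ∧ c' = e * b := by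
      refine ⟨a⁻¹ * c * j, ?_, hzj _ (mul_mem (mul_mem (inv_mem ha) hcm) hjL₁) (h12 ▸ mul_mem hbL (inv_mem hcm')), ?_⟩
      · calc c = c * (j * j) := by rw [hj2, mul_one]
          _ = a * (a⁻¹ * c * j * j) := by group
      · have hee : ∀ e : G, (e = 1 ∨ e = j) → e⁻¹ = e ∧ e * b = b * e := by
          rintro e (rfl | rfl)
          · simp
          · exact ⟨hji, hbj.symm⟩
        obtain ⟨i1, i2⟩ := hee _ (hzj _ (mul_mem (mul_mem (inv_mem ha) hcm) hjL₁) (h12 ▸ mul_mem hbL (inv_mem hcm')))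
        rw [i2]
        calc c' = (b * c'⁻¹)⁻¹ * b := by group
          _ = (a⁻¹ * c * j)⁻¹ * b := by rw [h12]
          _ = b * (a⁻¹ * c * j) := by rw [i1, i2]
    refine ⟨_, u, hu, v, hv, e, he, rfl, hce, ?_, rfl⟩
    rw [hce, hce'] at hr
    have hne' : n * (a * (e * j)) * n⁻¹ = b * (e * j) := by
      have hej : n * (e * j) * n⁻¹ = e * j := by
        rcases he with he' | he' <;> subst e
        · rw [one_mul, hnjn]
        · rw [hj2]; group
      calc n * (a * (e * j)) * n⁻¹ = b * (n * (e * j) * n⁻¹) := by rw [hb]; group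
        _ = _ := by rw [hej]
    rw [hne'] at hr
    rcases he with he' | he' <;> subst e
    · rw [one_mul, one_mul] at hr
      calc v⁻¹ * b * v = v⁻¹ * (b * j * j) * v := by rw [mul_assoc b, hj2, mul_one]
        _ = v⁻¹ * (v * b * v⁻¹) * (j * v) := by rw [hr]; group
        _ = v⁻¹ * (v * b * v⁻¹) * (v * j) := by rw [hcen v (hC2 hv)]
        _ = b * j := by group
    · rw [hj2, mul_one] at hr
      calc v⁻¹ * b * v = v⁻¹ * (v * (j * b) * v⁻¹) * v := by rw [← hr]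
        _ = j * b := by group
        _ = b * j := hbj.symm
  have hgm : ∀ m m', good m m' → m' * x = x * m' ∧ m' * m' = j ∧ m' ∉ L₁ ⊔ L₂ ∧ m' ≠ n := by
    rintro m m' ⟨u, hu, v, hv, e, he, rfl, hce, hvb, rfl⟩
    have heC : ∀ g ∈ C, e * g = g * e := by
      intro g hg
      rcases he with he' | he' <;> subst e
      · rw [one_mul, mul_one]
      · exact hcen g hg
    have he2 : e * e = 1 := by rcases he with he' | he' <;> subst e <;> simp [hj2]
    have heL : e ∈ L₁ := by rcases he with he' | he' <;> subst e; exacts [one_mem _, hjL₁]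
    set u' := n⁻¹ * v⁻¹ * n * e with hu'
    have hu'L : u' ∈ L₁ := mul_mem (by rw [hflip _ (hC2 (inv_mem hv))]; exact hψ _ (inv_mem hv)) heL
    have hu'a : u' * a * u'⁻¹ = a * j := by
      calc u' * a * u'⁻¹ = n⁻¹ * v⁻¹ * n * (e * a * e⁻¹) * n⁻¹ * v * n := by rw [hu']; group
        _ = n⁻¹ * (v⁻¹ * b * v) * n := by rw [heC a (hC1 ha), mul_inv_cancel_right, hb]; group
        _ = (n⁻¹ * b * n) * (n⁻¹ * j * n) := by rw [hvb]; group
        _ = a * j := by
          rw [show n⁻¹ * b * n = a by rw [hb]; group, hflip j (hC1 hjL₁), hnjn]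
    have hvb' : v * b * v⁻¹ = b * j := by
      calc v * b * v⁻¹ = v * (b * j * j) * v⁻¹ := by rw [mul_assoc b, hj2, mul_one]
        _ = v * (v⁻¹ * b * v) * j * v⁻¹ := by rw [hvb]; group
        _ = b * (v * j) * v⁻¹ := by group
        _ = b * (j * v) * v⁻¹ := by rw [hcen v (hC2 hv)]
        _ = b * j := by group
    have hnx : n * x * n⁻¹ = x := by
      calc n * x * n⁻¹ = b * (n * b * n⁻¹) := by rw [hx, hb]; group
        _ = b * a := by rw [hb, hinvn a (hC1 ha)]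
        _ = x := (hc a ha b hbL).symm
    refine ⟨?_, ?_, ?_, ?_⟩
    · have h1 : u' * v * x * (u' * v)⁻¹ = x := by
        calc u' * v * (a * b) * (u' * v)⁻¹ = u' * (v * a) * b * v⁻¹ * u'⁻¹ := by group
          _ = u' * (a * v) * b * v⁻¹ * u'⁻¹ := by rw [hc a ha v hv]
          _ = u' * a * (v * b * v⁻¹) * u'⁻¹ := by group
          _ = u' * a * ((b * j) * u'⁻¹) := by rw [hvb']; group
          _ = u' * a * (u'⁻¹ * (b * j)) := by rw [← hc u'⁻¹ (inv_mem hu'L) _ (mul_mem hbL hjL₂)]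
          _ = (u' * a * u'⁻¹) * (b * j) := by group
          _ = a * (j * b) * j := by rw [hu'a]; group
          _ = a * b * (j * j) := by rw [← hbj]; group
          _ = a * b := by rw [hj2, mul_one]
      have h3 : n * (u' * v) * x * (n * (u' * v))⁻¹ = x := by
        calc n * (u' * v) * x * (n * (u' * v))⁻¹ = n * (u' * v * x * (u' * v)⁻¹) * n⁻¹ := by group
          _ = x := by rw [h1, hnx]
      exact mul_inv_eq_iff_eq_mul.1 h3
    · rw [hnsq u' hu'L v hv]
      have e1 : n⁻¹ * v * n * u' = e := by rw [hu']; group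
      have e2 : n⁻¹ * u' * n * v = e := by
        calc n⁻¹ * u' * n * v = (n * n)⁻¹ * v⁻¹ * n * (e * n) * v := by rw [hu']; group
          _ = j⁻¹ * v⁻¹ * n * (n * e) * v := by rw [hn2, heC n hn]
          _ = j⁻¹ * v⁻¹ * (n * n) * (e * v) := by group
          _ = j⁻¹ * v⁻¹ * (j * v) * e := by rw [hn2, heC v (hC2 hv)]; group
          _ = e := by rw [hcen v (hC2 hv), mul_assoc j⁻¹, ← mul_assoc v⁻¹, inv_mul_cancel, one_mul, inv_mul_cancel, one_mul]
      rw [e1, e2, he2, mul_one]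
    · intro hmem
      exact hnL (by
        have := mul_mem hmem (inv_mem (mul_mem (Subgroup.mem_sup_left hu'L) (Subgroup.mem_sup_right hv) : u' * v ∈ L₁ ⊔ L₂))
        rwa [mul_inv_cancel_right] at this)
    · intro hmn
      rw [mul_eq_left] at hmn
      have hv2 : v ∈ L₁ := by rw [eq_inv_of_mul_eq_one_right hmn]; exact inv_mem hu'L
      have : v⁻¹ * b * v = b := by
        rcases hzj v hv2 hv with hv' | hv' <;> subst v
        · group
        · rw [mul_assoc, hbj, inv_mul_cancel_left]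
      rw [this] at hvb
      exact hj1 (mul_eq_left.1 hvb.symm)
  have hinj : ∀ m₁ m₂ m', good m₁ m' → good m₂ m' → m₁ = m₂ := by
    rintro m₁ m₂ m' ⟨u, hu, v, hv, e, he, rfl, hce, -, rfl⟩ ⟨u₂, hu₂, v₂, hv₂, e₂, he₂, rfl, hce₂, -, he'⟩
    have hU : ∀ w ∈ L₂, ∀ f : G, (f = 1 ∨ f = j) → n⁻¹ * w⁻¹ * n * f ∈ L₁ := fun w hw f hf =>
      mul_mem (by rw [hflip _ (hC2 (inv_mem hw))]; exact hψ _ (inv_mem hw)) (by
        rcases hf with rfl | rfl; exacts [one_mem _, hjL₁])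
    have h0 := mul_left_cancel he'
    set d := v * v₂⁻¹ with hd
    have hd1 : d = (n⁻¹ * v⁻¹ * n * e)⁻¹ * (n⁻¹ * v₂⁻¹ * n * e₂) := by
      calc d = (n⁻¹ * v⁻¹ * n * e)⁻¹ * (n⁻¹ * v⁻¹ * n * e * v) * v₂⁻¹ := by rw [hd]; group
        _ = _ := by rw [h0]; group
    have hdz := hzj d (hd1 ▸ mul_mem (inv_mem (hU v hv e he)) (hU v₂ hv₂ e₂ he₂)) (mul_mem hv (inv_mem hv₂))
    have hdC : d * n = n * d ∧ d⁻¹ = d ∧ (∀ g ∈ C, d * g = g * d) := by
      rcases hdz with h' | h' <;> rw [h']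
      · exact ⟨by rw [one_mul, mul_one], inv_one, fun g _ => by rw [one_mul, mul_one]⟩
      · exact ⟨hcen n hn, hji, hcen⟩
    have hvd : v = d * v₂ := by rw [hd]; group
    have hee : e = e₂ := by
      have h6 : n⁻¹ * v⁻¹ * n * e * d = n⁻¹ * v₂⁻¹ * n * e₂ := by rw [hd1]; group
      rw [hvd] at h6
      have h7 : n⁻¹ * (d * v₂)⁻¹ * n * e * d = n⁻¹ * v₂⁻¹ * n * e := by
        have hec : e * d = d * e := ((hdC.2.2 e (by rcases he with he' | he' <;> subst e; exacts [one_mem _, hC1 hjL₁]))).symm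
        have hdd : d * d = 1 := by nth_rewrite 1 [← hdC.2.1]; exact inv_mul_cancel d
        calc n⁻¹ * (d * v₂)⁻¹ * n * e * d = n⁻¹ * v₂⁻¹ * d⁻¹ * n * (e * d) := by group
          _ = n⁻¹ * v₂⁻¹ * (d * n) * (d * e) := by rw [hdC.2.1, hec]; group
          _ = n⁻¹ * v₂⁻¹ * n * (d * d) * e := by rw [hdC.1]; group
          _ = _ := by rw [hdd, mul_one]
      rw [h7] at h6
      exact mul_left_cancel h6
    have hu2 : u₂ = (n⁻¹ * d * n) * u := by
      calc u₂ = (n⁻¹ * v₂ * n)⁻¹ * ((n⁻¹ * v₂ * n) * u₂) := by group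
        _ = (n⁻¹ * v₂ * n)⁻¹ * ((n⁻¹ * v * n) * u) := by rw [hce, hce₂, hee]
        _ = n⁻¹ * v₂⁻¹ * (d * v₂) * n * u := by rw [← hvd]; group
        _ = _ := by rw [hdC.2.2 v₂ (hC2 hv₂)]; group
    have hnd : n⁻¹ * d * n = d := by rw [mul_assoc, hdC.1, inv_mul_cancel_left]
    rw [hu2, hnd, hvd]
    congr 1
    calc u * (d * v₂) = (u * d) * v₂ := by group
      _ = d * u * v₂ := by rw [hdC.2.2 u (hC1 hu)]
  choose! F hF using hgood
  -- five more roots of `j`
  have hfive : ({a, a * j, b, b * j, n} : Finset G) ⊆ Rj := by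
    have hnx : n * x = x * n := by
      calc n * x = b * (n * b * n⁻¹) * n := by rw [hx, hb]; group
        _ = b * a * n := by rw [hb, hinvn a (hC1 ha)]
        _ = x * n := by rw [hx, hc a ha b hbL]
    intro m hm'
    simp only [Finset.mem_insert, Finset.mem_singleton] at hm'
    refine Finset.mem_filter.2 ⟨Finset.mem_univ _, ?_⟩
    rcases hm' with h' | h' | h' | h' | h' <;> subst m
    · exact ⟨by rw [hx, mul_assoc a b a, hc a ha b hbL], haa⟩
    · refine ⟨?_, by rw [mul_assoc, ← mul_assoc j, ← haj, mul_assoc a, hj2, mul_one, haa]⟩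
      rw [mul_assoc, hxj, hx]
      calc a * (a * b * j) = a * a * b * j := by group
        _ = a * (b * a) * j := by rw [← hc a ha b hbL]; group
        _ = a * b * (a * j) := by group
    · exact ⟨by rw [hx, ← mul_assoc, ← hc a ha b hbL], hbb⟩
    · refine ⟨?_, by rw [mul_assoc, ← mul_assoc j, ← hbj, mul_assoc b, hj2, mul_one, hbb]⟩
      rw [mul_assoc, hxj, hx]
      calc b * (a * b * j) = (b * a) * b * j := by group
        _ = a * b * (b * j) := by rw [← hc a ha b hbL]; group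
    · exact ⟨hnx, hn2⟩
  have hsub : ({a, a * j, b, b * j, n} : Finset G) ∪ Sx.image F ⊆ Rj := by
    refine Finset.union_subset hfive fun m hm' => ?_
    obtain ⟨m0, hm0, rfl⟩ := Finset.mem_image.1 hm'
    obtain ⟨h1, h2, -, -⟩ := hgm _ _ (hF m0 hm0)
    exact Finset.mem_filter.2 ⟨Finset.mem_univ _, h1, h2⟩
  have hdisj : Disjoint ({a, a * j, b, b * j, n} : Finset G) (Sx.image F) := by
    rw [Finset.disjoint_left]
    intro m hm' hm''
    obtain ⟨m0, hm0, rfl⟩ := Finset.mem_image.1 hm''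
    obtain ⟨-, -, h3, h4⟩ := hgm _ _ (hF m0 hm0)
    simp only [Finset.mem_insert, Finset.mem_singleton] at hm'
    rcases hm' with h | h | h | h | h
    · exact h3 (h ▸ Subgroup.mem_sup_left ha)
    · exact h3 (h ▸ Subgroup.mem_sup_left (mul_mem ha hjL₁))
    · exact h3 (h ▸ Subgroup.mem_sup_right hbL)
    · exact h3 (h ▸ Subgroup.mem_sup_right (mul_mem hbL hjL₂))
    · exact h4 h
  have h5 : ({a, a * j, b, b * j, n} : Finset G).card = 5 := by
    have n1 : a ≠ a * j := fun h => hj1 (mul_eq_left.1 h.symm)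
    have n2 : b ≠ b * j := fun h => hj1 (mul_eq_left.1 h.symm)
    have n3 : a ≠ b := fun h => haL2 (h ▸ hbL)
    have n4 : a ≠ b * j := fun h => haL2 (h ▸ mul_mem hbL hjL₂)
    have n5 : a * j ≠ b := fun h => haL2 (by
      have h' := mul_mem (h ▸ hbL : a * j ∈ L₂) hjL₂
      rwa [mul_assoc, hj2, mul_one] at h')
    have n6 : a * j ≠ b * j := fun h => n3 (mul_right_cancel h)
    have n7 : ∀ g ∈ L₁ ⊔ L₂, g ≠ n := fun g hg h => hnL (h ▸ hg)
    have m1 := n7 _ (Subgroup.mem_sup_left ha)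
    have m2 := n7 _ (Subgroup.mem_sup_left (mul_mem ha hjL₁))
    have m3 := n7 _ (Subgroup.mem_sup_right hbL)
    have m4 := n7 _ (Subgroup.mem_sup_right (mul_mem hbL hjL₂))
    simp [n1, n2, n3, n4, n5, n6, m1, m2, m3, m4]
  have hge := Finset.card_le_card hsub
  rw [Finset.card_union_of_disjoint hdisj, h5, Finset.card_image_of_injOn (fun m₁ h₁' m₂ h₂' he =>
    hinj m₁ m₂ (F m₁) (hF m₁ h₁') (by rw [he]; exact hF m₂ h₂'))] at hge
  have hsplit := Finset.card_filter_add_card_filter_not (s := Rx) (fun m => m ∈ L₁ ⊔ L₂)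
  rw [← hSx] at hsplit
  omega

end


/-- Let G be a finite group with subgroups L₁ ≅ SL₂(q₁) and L₂ ≅ SL₂(q₂), q₁ and q₂ odd prime powers, which commute elementwise and meet in ⟨j⟩ for an involution j, and suppose L₁L₂ has index 2 in C_G(j). If some n ∈ C_G(j) with n² = j interchanges L₁ and L₂ under conjugation (so that C_G(j) = L₁L₂⟨n⟩), then G = C_G(j)O(G). -/
theorem result {G : Type*} [Group G] [Finite G]
    {F₁ : Type*} [Field F₁] [Fintype F₁] {F₂ : Type*} [Field F₂] [Fintype F₂]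
    (hF₁ : Odd (Fintype.card F₁)) (hF₂ : Odd (Fintype.card F₂)) (L₁ L₂ : Subgroup G)
    (e₁ : ↥L₁ ≃* Matrix.SpecialLinearGroup (Fin 2) F₁) (e₂ : ↥L₂ ≃* Matrix.SpecialLinearGroup (Fin 2) F₂)
    (hc : ∀ x ∈ L₁, ∀ y ∈ L₂, x * y = y * x) (j : G) (hj : orderOf j = 2) (hm : L₁ ⊓ L₂ = Subgroup.zpowers j)
    (hle : L₁ ⊔ L₂ ≤ Subgroup.centralizer ({j} : Set G)) (hi : (L₁ ⊔ L₂).relIndex (Subgroup.centralizer ({j} : Set G)) = 2) (n : G) (hn : n ∈ Subgroup.centralizer ({j} : Set G))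
    (hn2 : n ^ 2 = j) (hswap : L₁.map (MulAut.conj n).toMonoidHom = L₂) :
    Subgroup.centralizer ({j} : Set G) ⊔ Cfsg.oddCore G = ⊤ := by
  have hjL : j ∈ L₁ ⊓ L₂ := by rw [hm]; exact Subgroup.mem_zpowers j
  have hiso := isolated_of_swap hc j hj hm (CfsgLib.InvolChar.isSLTwoLike hF₁ L₁ e₁ j hj (Subgroup.mem_inf.1 hjL).1)
    (CfsgLib.InvolChar.isSLTwoLike hF₂ L₂ e₂ j hj (Subgroup.mem_inf.1 hjL).2) hle hi n hn (by rw [← sq]; exact hn2) hswap
  rw [eq_top_iff]
  intro g _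
  set o := j * g * j⁻¹ * g⁻¹ with ho
  have hoO : o ∈ Cfsg.oddCore G := CfsgLib.Invol.zstar_core CfsgLib.Invol.constTwo hiso g
  have hj2 : j * j = 1 := CfsgLib.Invol.mul_self_of_orderOf_two hj
  have hji : j⁻¹ = j := inv_eq_of_mul_eq_one_right hj2
  have hinv : j * o * j⁻¹ = o⁻¹ := by
    calc j * o * j⁻¹ = (j * j) * g * j⁻¹ * g⁻¹ * j⁻¹ := by rw [ho]; group
      _ = g * j * g⁻¹ * j⁻¹ := by rw [hj2, hji, one_mul]
      _ = o⁻¹ := by rw [ho]; group
  have hodd : Odd (orderOf o) := by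
    have h1 : orderOf o ∣ Nat.card ↥(Cfsg.oddCore G) := by
      rw [← Subgroup.orderOf_mk o hoO]; exact orderOf_dvd_natCard _
    exact (Nat.Coprime.coprime_dvd_left h1 ((Nat.prime_two.coprime_iff_not_dvd.2
      (CfsgLib.Cores.not_dvd_card_pPrimeCore 2)).symm)).odd_of_right
  obtain ⟨i, hi'⟩ := hodd
  -- a square root of o in the core
  set k := o ^ (i + 1) with hk
  have hkO : k ∈ Cfsg.oddCore G := pow_mem hoO _
  have hk2 : k * k = o := by
    rw [hk, ← pow_add, show i + 1 + (i + 1) = orderOf o + 1 by omega, pow_succ, pow_orderOf_eq_one, one_mul]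
  have hkj : j * k * j⁻¹ = k⁻¹ := by rw [hk, ← conj_pow, hinv, inv_pow]
  have hcen : k * g ∈ Subgroup.centralizer ({j} : Set G) := by
    refine Subgroup.mem_centralizer_singleton_iff.2 ?_
    symm
    calc j * (k * g) = (j * k * j⁻¹) * ((j * g * j⁻¹ * g⁻¹) * g * j) := by group
      _ = k⁻¹ * (k * k * g * j) := by rw [hkj, ← ho, hk2]
      _ = k * g * j := by group
  have : g = (k * g) * (g⁻¹ * k⁻¹ * g) := by group
  rw [this]
  refine mul_mem (Subgroup.mem_sup_left hcen) (Subgroup.mem_sup_right ?_)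
  have hn' : (Cfsg.oddCore G).Normal := by
    have := CfsgLib.Cores.pPrimeCore_characteristic (G := G) 2
    infer_instance
  have := hn'.conj_mem _ (inv_mem hkO) g⁻¹
  rwa [inv_inv] at this

end Cfsg.Agent.S3211
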