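import Cfsg.Statements.S3213
import Mathlib
-- import your own Cfsg.Agent.* helpers here

set_option autoImplicit false
open Cfsg

namespace Cfsg.Agent.S3213


open Matrix

set_option maxHeartbeats 1000000

/-- A matrix acting without nonzero fixed vectors on a set, with all orbits of length `p`. -/
theorem card_mod {ι F : Type*} [Fintype ι] [DecidableEq ι] [Field F] [Finite F] {p : ℕ} [Fact p.Prime]
    (T : Matrix ι ι F) (n : ℕ) (hT : T ^ p ^ n = 1) (U : Set (ι → F)) (hU : ∀ v ∈ U, T *ᵥ v ∈ U) :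
    Nat.card U % p = Nat.card {v : U // T *ᵥ (v : ι → F) = v} % p := by
  classical
  haveI : Fintype U := Fintype.ofFinite _
  haveI : Fintype {v : U // T *ᵥ (v : ι → F) = v} := Fintype.ofFinite _
  let f : Function.End U := fun v => ⟨T *ᵥ (v : ι → F), hU _ v.2⟩
  have hpow : ∀ (k : ℕ) (v : U), ((f^[k] v : U) : ι → F) = (T ^ k) *ᵥ (v : ι → F) := by
    intro k
    induction k with
    | zero => intro v; rw [pow_zero, Matrix.one_mulVec]; rfl
    | succ k ih =>
      intro v
      rw [Function.iterate_succ_apply', pow_succ', ← Matrix.mulVec_mulVec, ← ih v]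
  have he : Function.LeftInverse (f^[p ^ n - 1]) f := by
    intro v
    rw [← Function.iterate_succ_apply, show (p ^ n - 1).succ = p ^ n by
      have := (Fact.out : p.Prime).pos; have := Nat.one_le_pow n p this; omega]
    exact Subtype.ext (by rw [hpow, hT, Matrix.one_mulVec])
  let σ : Equiv.Perm U := Equiv.ofBijective f (Finite.injective_iff_bijective.1 he.injective)
  have hσk : ∀ k : ℕ, ⇑(σ ^ k) = f^[k] := by
    intro k; rw [Equiv.Perm.coe_pow]; rfl
  have hσ : σ ^ p ^ n = 1 := by
    ext1 v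
    rw [hσk]
    exact Subtype.ext (by rw [hpow, hT, Matrix.one_mulVec]; rfl)
  have key : IsPGroup p (Subgroup.zpowers σ) := by
    have : orderOf σ ∣ p ^ n := orderOf_dvd_of_pow_eq_one hσ
    obtain ⟨k, -, hk⟩ := (Nat.dvd_prime_pow (Fact.out : p.Prime)).1 this
    exact IsPGroup.of_card (n := k) (by rw [Nat.card_zpowers, hk])
  have h := key.card_modEq_card_fixedPoints U
  refine h.trans (congrArg (· % p) (Nat.card_congr (Equiv.subtypeEquivRight fun v => ?_)))
  constructor
  · intro hv
    exact congrArg Subtype.val (hv ⟨σ, Subgroup.mem_zpowers σ⟩)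
  · intro hv g
    obtain ⟨k, hk⟩ := g.2
    have hfix : σ v = v := Subtype.ext hv
    show (g : Equiv.Perm U) v = v
    rw [← hk]
    exact Equiv.Perm.zpow_apply_eq_self_of_apply_eq_self hfix k

theorem pow_mod_five {k : ℕ} (hk : k ≤ 4) (hne : k ≠ 4) (h : 3 ^ k % 5 = 1) : k = 0 := by
  interval_cases k <;> simp_all

theorem five_data : ∀ a b c d : ZMod 5, a * d - b * c = 1 →
    ((a * a + b * c) * a + (a * b + b * d) * c = 1 ∧ (a * a + b * c) * b + (a * b + b * d) * d = 0 ∧
      (c * a + d * c) * a + (c * b + d * d) * c = 0 ∧ (c * a + d * c) * b + (c * b + d * d) * d = 1) →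
    ¬ (a = 1 ∧ b = 0 ∧ c = 0 ∧ d = 1) →
    ∃ u v w : ZMod 5, -(u * u) - v * w = 1 ∧ u * a + v * c = d * u + -b * w ∧ u * b + v * d = d * v + b * u ∧
      w * a - u * c = -c * u + a * w ∧ w * b - u * d = -c * v + -(a * u) := by
  decide +kernel


/-- Let F be the field with 3 elements and K the field with 5 elements. For every injective homomorphism φ from SL₂(K) into the symplectic group Sp₄(F) (4 × 4 matrices g with g J gᵀ = J for the standard alternating matrix J) and every element x of order 3 of SL₂(K), the vectors of F⁴ fixed by φ(x) form a 2-dimensional subspace that is totally isotropic for the alternating form defined by J. -/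
theorem result {F : Type*} [Field F] [Fintype F] (hF : Fintype.card F = 3)
    {K : Type*} [Field K] [Fintype K] (hK : Fintype.card K = 5)
    (φ : Matrix.SpecialLinearGroup (Fin 2) K →* ↥(Matrix.symplecticGroup (Fin 2) F)) (hφ : Function.Injective φ)
    (x : Matrix.SpecialLinearGroup (Fin 2) K) (hx : orderOf x = 3) :
    Module.finrank F ↥(LinearMap.ker (Matrix.toLin' ((φ x : Matrix (Fin 2 ⊕ Fin 2) (Fin 2 ⊕ Fin 2) F)) - LinearMap.id)) = 2 ∧
      ∀ v w : Fin 2 ⊕ Fin 2 → F, (φ x : Matrix (Fin 2 ⊕ Fin 2) (Fin 2 ⊕ Fin 2) F).mulVec v = v →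
        (φ x : Matrix (Fin 2 ⊕ Fin 2) (Fin 2 ⊕ Fin 2) F).mulVec w = w →
          dotProduct v ((Matrix.J (Fin 2) F).mulVec w) = 0 := by
  classical

  haveI : Fact (Nat.Prime 5) := ⟨by norm_num⟩
  haveI : Fact (Nat.Prime 2) := ⟨Nat.prime_two⟩
  haveI : Fact (Nat.Prime 3) := ⟨Nat.prime_three⟩
  haveI : CharP K 5 := charP_of_card_eq_prime hK
  haveI : CharP F 3 := charP_of_card_eq_prime hF
  let e : ZMod 5 ≃+* K := ZMod.ringEquiv K hK
  obtain ⟨a, b, c, d, ha, hb, hc, hd⟩ : ∃ a b c d : ZMod 5, (x : Matrix (Fin 2) (Fin 2) K) 0 0 = e a ∧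
      (x : Matrix (Fin 2) (Fin 2) K) 0 1 = e b ∧ (x : Matrix (Fin 2) (Fin 2) K) 1 0 = e c ∧
      (x : Matrix (Fin 2) (Fin 2) K) 1 1 = e d :=
    ⟨_, _, _, _, (e.apply_symm_apply _).symm, (e.apply_symm_apply _).symm, (e.apply_symm_apply _).symm,
      (e.apply_symm_apply _).symm⟩
  have hdet : a * d - b * c = 1 := by
    apply e.injective
    have := x.2
    rw [Matrix.det_fin_two, ha, hb, hc, hd] at this
    simpa using this
  have hxinv : (x⁻¹ : Matrix.SpecialLinearGroup (Fin 2) K).1 = !![e d, -e b; -e c, e a] := by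
    rw [Matrix.SpecialLinearGroup.coe_inv, Matrix.adjugate_fin_two, ha, hb, hc, hd]
  have hx3 : x ^ 3 = 1 := hx ▸ pow_orderOf_eq_one x
  have hcube : ∀ i j, ((x : Matrix (Fin 2) (Fin 2) K) * x * x) i j = (1 : Matrix (Fin 2) (Fin 2) K) i j := by
    intro i j
    have h3 : ((x * x * x : Matrix.SpecialLinearGroup (Fin 2) K) : Matrix (Fin 2) (Fin 2) K) = 1 := by
      rw [show x * x * x = x ^ 3 by rw [pow_succ, sq], hx3]; rfl
    rw [Matrix.SpecialLinearGroup.coe_mul, Matrix.SpecialLinearGroup.coe_mul] at h3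
    rw [h3]
  obtain ⟨u, v, w, hy, h00, h01, h10, h11⟩ := five_data a b c d hdet (by
      refine ⟨e.injective ?_, e.injective ?_, e.injective ?_, e.injective ?_⟩
      · simpa [Matrix.mul_apply, Fin.sum_univ_two, ha, hb, hc, hd] using hcube 0 0
      · simpa [Matrix.mul_apply, Fin.sum_univ_two, ha, hb, hc, hd] using hcube 0 1
      · simpa [Matrix.mul_apply, Fin.sum_univ_two, ha, hb, hc, hd] using hcube 1 0
      · simpa [Matrix.mul_apply, Fin.sum_univ_two, ha, hb, hc, hd] using hcube 1 1) (by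
      rintro ⟨rfl, rfl, rfl, rfl⟩
      have : x = 1 := by
        apply Subtype.ext
        ext i j
        fin_cases i <;> fin_cases j <;> simp [ha, hb, hc, hd]
      rw [this, orderOf_one] at hx
      omega)
  let y : Matrix.SpecialLinearGroup (Fin 2) K := ⟨!![e u, e v; e w, -e u], by
    rw [Matrix.det_fin_two_of]; simpa using congrArg e hy⟩
  have hy2 : y * y = -1 := by
    apply Subtype.ext
    have h := congrArg e hy
    simp only [map_sub, map_neg, map_mul, map_one] at h
    rw [Matrix.SpecialLinearGroup.coe_mul, Matrix.SpecialLinearGroup.coe_neg, Matrix.SpecialLinearGroup.coe_one]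
    ext i j
    fin_cases i <;> fin_cases j <;> simp [y, Matrix.mul_apply, Fin.sum_univ_two] <;>
      first | ring1 | linear_combination -h | linear_combination h
  have hyx : y * x = x⁻¹ * y := by
    apply Subtype.ext
    rw [Matrix.SpecialLinearGroup.coe_mul, Matrix.SpecialLinearGroup.coe_mul, hxinv]
    have h00' := congrArg e h00
    have h01' := congrArg e h01
    have h10' := congrArg e h10
    have h11' := congrArg e h11
    simp only [map_sub, map_neg, map_mul, map_add] at h00' h01' h10' h11'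
    ext i j
    fin_cases i <;> fin_cases j <;> simp [y, Matrix.mul_apply, Fin.sum_univ_two, ha, hb, hc, hd]
    · linear_combination h00'
    · linear_combination h01'
    · linear_combination h10'
    · linear_combination h11'
  -- the image of `-1`
  let M : Matrix.SpecialLinearGroup (Fin 2) K →* Matrix (Fin 2 ⊕ Fin 2) (Fin 2 ⊕ Fin 2) F :=
    (Submonoid.subtype _).comp φ
  have hMi : Function.Injective M := Subtype.val_injective.comp hφ
  have hM : ∀ g, (φ g : Matrix (Fin 2 ⊕ Fin 2) (Fin 2 ⊕ Fin 2) F) = M g := fun _ => rfl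
  have hcardV : Nat.card (Fin 2 ⊕ Fin 2 → F) = 81 := by
    rw [Nat.card_eq_fintype_card, Fintype.card_fun, hF]; rfl
  have hsub : ∀ U : Submodule F (Fin 2 ⊕ Fin 2 → F),
      Nat.card U = 3 ^ Module.finrank F U ∧ Module.finrank F U ≤ 4 := by
    intro U
    refine ⟨?_, ?_⟩
    · rw [Module.natCard_eq_pow_finrank (K := F) (V := U), Nat.card_eq_fintype_card (α := F), hF]
    · exact (Submodule.finrank_le U).trans (by simp)
  let f : Matrix.SpecialLinearGroup (Fin 2) K := ⟨!![1, 1; 0, 1], by simp [Matrix.det_fin_two_of]⟩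
  have hf5 : f ^ 5 = 1 := by
    apply Subtype.ext
    have h5 : (5 : K) = 0 := by
      have := CharP.cast_eq_zero K 5; simpa using this
    rw [show f ^ 5 = f * f * f * f * f by simp [pow_succ], Matrix.SpecialLinearGroup.coe_one]
    simp only [Matrix.SpecialLinearGroup.coe_mul]
    ext i j
    fin_cases i <;> fin_cases j <;> simp [f, Matrix.mul_apply, Fin.sum_univ_two]
    linear_combination h5
  have hf1 : f ≠ 1 := fun h => by
    have := congrArg (fun g : Matrix.SpecialLinearGroup (Fin 2) K => (g : Matrix (Fin 2) (Fin 2) K) 0 1) h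
    simp [f] at this
  have hmod5 : ∀ U : Submodule F (Fin 2 ⊕ Fin 2 → F), (∀ z ∈ U, M f *ᵥ z = z) → Module.finrank F U = 4 →
      False := by
    intro U hU h4
    apply hf1
    apply hMi
    rw [map_one]
    have : U = ⊤ := Submodule.eq_top_of_finrank_eq (by rw [h4]; simp)
    apply Matrix.ext_of_mulVec_single
    intro i
    rw [hU _ (this ▸ Submodule.mem_top), Matrix.one_mulVec]
  have hfT : M f ^ 5 ^ 1 = 1 := by rw [pow_one, ← map_pow, hf5, map_one]
  set D : Submodule F (Fin 2 ⊕ Fin 2 → F) := LinearMap.ker (Matrix.toLin' (M f) - LinearMap.id) with hD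
  have hDmem : ∀ z, z ∈ D ↔ M f *ᵥ z = z := fun z => by
    simp [hD, sub_eq_zero]
  have hfree : ∀ z, M f *ᵥ z = z → z = 0 := by
    intro z hz
    have h := card_mod (p := 5) (M f) 1 hfT Set.univ (fun _ _ => Set.mem_univ _)
    have e1 : Nat.card {v : (Set.univ : Set (Fin 2 ⊕ Fin 2 → F)) // M f *ᵥ (v : Fin 2 ⊕ Fin 2 → F) = v} = Nat.card D :=
      Nat.card_congr
        { toFun := fun v => ⟨v.1.1, (hDmem _).2 v.2⟩
          invFun := fun v => ⟨⟨v.1, Set.mem_univ _⟩, (hDmem _).1 v.2⟩
          left_inv := fun v => rfl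
          right_inv := fun v => rfl }
    rw [e1, Nat.card_congr (Equiv.Set.univ _), hcardV, (hsub D).1] at h
    have hle := (hsub D).2
    have hne : Module.finrank F D ≠ 4 := fun h4 => hmod5 D (fun w hw => (hDmem w).1 hw) h4
    have h0 : Module.finrank F D = 0 := by
      exact pow_mod_five hle hne h.symm
    have hbot : D = ⊥ := Submodule.finrank_eq_zero.1 h0
    have := (hDmem z).2 hz
    rwa [hbot, Submodule.mem_bot] at this
  have hneg1 : (-1 : Matrix.SpecialLinearGroup (Fin 2) K) ≠ 1 := fun h => by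
    have h5 := congrArg (fun g : Matrix.SpecialLinearGroup (Fin 2) K => (g : Matrix (Fin 2) (Fin 2) K) 0 0) h
    simp at h5
    have h2 : (2 : K) = 0 := by linear_combination -h5
    have h1 := (CharP.cast_eq_zero_iff K 5 2).1 (by exact_mod_cast h2)
    omega
  have hJsq : M (-1) * M (-1) = 1 := by rw [← map_mul, neg_mul_neg, one_mul, map_one]
  have hJf : M (-1) * M f = M f * M (-1) := by rw [← map_mul, ← map_mul, neg_one_mul, mul_neg_one]
  set W : Submodule F (Fin 2 ⊕ Fin 2 → F) := LinearMap.ker (Matrix.toLin' (M (-1)) - LinearMap.id) with hW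
  have hWmem : ∀ z, z ∈ W ↔ M (-1) *ᵥ z = z := fun z => by simp [hW, sub_eq_zero]
  have hJ : ∀ z, M (-1) *ᵥ z = -z := by
    have h := card_mod (p := 5) (M f) 1 hfT (W : Set _) (fun z hz => by
      rw [SetLike.mem_coe, hWmem] at hz ⊢
      rw [Matrix.mulVec_mulVec, hJf, ← Matrix.mulVec_mulVec, hz])
    have e1 : Nat.card {v : (W : Set (Fin 2 ⊕ Fin 2 → F)) // M f *ᵥ (v : Fin 2 ⊕ Fin 2 → F) = v} = 1 := by
      haveI : Unique {v : (W : Set (Fin 2 ⊕ Fin 2 → F)) // M f *ᵥ (v : Fin 2 ⊕ Fin 2 → F) = v} :=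
        ⟨⟨⟨⟨0, W.zero_mem⟩, Matrix.mulVec_zero _⟩⟩, fun v => Subtype.ext (Subtype.ext (hfree _ v.2))⟩
      exact Nat.card_unique
    rw [e1, show Nat.card (W : Set (Fin 2 ⊕ Fin 2 → F)) = Nat.card W from rfl, (hsub W).1] at h
    have hle := (hsub W).2
    have h0 : Module.finrank F W = 0 := by
      have hne : Module.finrank F W ≠ 4 := fun h4 => by
        apply hneg1; apply hMi; rw [map_one]
        have : W = ⊤ := Submodule.eq_top_of_finrank_eq (by rw [h4]; simp)
        apply Matrix.ext_of_mulVec_single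
        intro i
        rw [(hWmem _).1 (this ▸ Submodule.mem_top), Matrix.one_mulVec]
      exact pow_mod_five hle hne h
    intro z
    have hz : M (-1) *ᵥ z + z ∈ W := by
      rw [hWmem, Matrix.mulVec_add, Matrix.mulVec_mulVec, hJsq, Matrix.one_mulVec, add_comm]
    rw [Submodule.finrank_eq_zero.1 h0, Submodule.mem_bot] at hz
    exact eq_neg_of_add_eq_zero_left hz
  -- subspaces invariant under `y` have even dimension
  have hY4 : M y ^ 2 ^ 2 = 1 := by
    rw [show (2:ℕ) ^ 2 = 2 * 2 from rfl, pow_mul, sq (M y), ← map_mul, hy2, sq, hJsq]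
  have hYfree : ∀ z, M y *ᵥ z = z → z = 0 := by
    intro z hz
    have : M (-1) *ᵥ z = z := by rw [← hy2, map_mul, ← Matrix.mulVec_mulVec, hz, hz]
    rw [hJ] at this
    have h2 : (2 : F) • z = 0 := by
      rw [two_smul]; nth_rw 1 [← this]; exact neg_add_cancel z
    refine (smul_eq_zero.1 h2).resolve_left fun h => ?_
    have h1 := (CharP.cast_eq_zero_iff F 3 2).1 (by exact_mod_cast h)
    omega
  have hnot1 : ∀ U : Submodule F (Fin 2 ⊕ Fin 2 → F), (∀ z ∈ U, M y *ᵥ z ∈ U) → Module.finrank F U ≠ 1 ∧ Module.finrank F U ≠ 3 := by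
    intro U hU
    -- four divides the number of nonzero vectors
    have hq : ∀ z, M y *ᵥ (M y *ᵥ z) = -z := fun z => by rw [Matrix.mulVec_mulVec, ← map_mul, hy2, hJ]
    haveI : Fintype U := Fintype.ofFinite _
    have h4 : 4 ∣ Nat.card {z : U // z ≠ 0} := by
      let σ : {z : U // z ≠ 0} → {z : U // z ≠ 0} := fun z => ⟨⟨M y *ᵥ (z.1 : Fin 2 ⊕ Fin 2 → F), hU _ z.1.2⟩, fun h => z.2 (by
        have h' : M y *ᵥ (z.1 : Fin 2 ⊕ Fin 2 → F) = 0 := congrArg Subtype.val h
        have := hq (z.1 : Fin 2 ⊕ Fin 2 → F)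
        rw [h', Matrix.mulVec_zero] at this
        exact Subtype.ext (neg_eq_zero.1 this.symm))⟩
      have hσ4 : ∀ z, σ (σ (σ (σ z))) = z := fun z => Subtype.ext (Subtype.ext (by
        show M y *ᵥ (M y *ᵥ (M y *ᵥ (M y *ᵥ _))) = _
        rw [hq, hq, neg_neg]))
      let τ : Equiv.Perm {z : U // z ≠ 0} := ⟨σ, fun z => σ (σ (σ z)), hσ4, hσ4⟩
      have hτ : τ ^ 4 = 1 := Equiv.ext fun z => by simp [τ, pow_succ, hσ4]
      have horb : ∀ z : {z : U // z ≠ 0}, Nat.card (MulAction.orbit (Subgroup.zpowers τ) z) = 4 := by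
        intro z
        have hno : ¬ (σ (σ z) = z) := fun h => z.2 (by
          have h' : M y *ᵥ (M y *ᵥ (z.1 : Fin 2 ⊕ Fin 2 → F)) = (z.1 : Fin 2 ⊕ Fin 2 → F) := congrArg (fun w => ((w.1 : U) : Fin 2 ⊕ Fin 2 → F)) h
          rw [hq] at h'
          apply Subtype.ext
          have h2 : (2 : F) • (z.1 : Fin 2 ⊕ Fin 2 → F) = 0 := by
            rw [two_smul]; nth_rw 1 [← h']; exact neg_add_cancel _
          refine (smul_eq_zero.1 h2).resolve_left fun h3 => ?_
          have h1 := (CharP.cast_eq_zero_iff F 3 2).1 (by exact_mod_cast h3)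
          omega)
        have hst : MulAction.stabilizer (Subgroup.zpowers τ) z = ⊥ := by
          rw [Subgroup.eq_bot_iff_forall]
          rintro ⟨g, i, rfl⟩ hg
          have hg' : (τ ^ i) z = z := hg
          apply Subtype.ext
          show τ ^ i = 1
          have h4' : τ ^ (4 : ℤ) = 1 := by rw [zpow_ofNat]; exact hτ
          have hred : τ ^ i = τ ^ (i % 4) := by
            conv_lhs => rw [← Int.emod_add_mul_ediv i 4, _root_.zpow_add, _root_.zpow_mul, h4', _root_.one_zpow, mul_one]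
          have hr : i % 4 = 0 ∨ i % 4 = 1 ∨ i % 4 = 2 ∨ i % 4 = 3 := by omega
          rw [hred] at hg' ⊢
          rcases hr with h | h | h | h <;> rw [h] at hg' ⊢
          · rfl
          · rw [zpow_one] at hg'; exact absurd (by rw [show σ z = z from hg']; exact hg') hno
          · rw [show (2 : ℤ) = ((2 : ℕ) : ℤ) from rfl, zpow_natCast] at hg'; exact absurd hg' hno
          · rw [show (3 : ℤ) = ((3 : ℕ) : ℤ) from rfl, zpow_natCast] at hg'
            have h3 : σ (σ (σ z)) = z := hg'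
            have h1 : σ z = z := by conv_lhs => rw [← h3]; exact hσ4 z
            exact absurd (by rw [h1, h1]) hno
        have := MulAction.index_stabilizer (Subgroup.zpowers τ) z
        rw [hst, Subgroup.index_bot, Nat.card_zpowers] at this
        rw [Nat.card_coe_set_eq, ← this, show (4 : ℕ) = 2 ^ 2 from rfl]
        refine orderOf_eq_prime_pow (fun h => hno ?_) hτ
        exact congrArg (fun g : Equiv.Perm {z : U // z ≠ 0} => g z) h
      rw [Nat.card_congr (MulAction.selfEquivSigmaOrbits (Subgroup.zpowers τ) _)]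
      haveI : Fintype (Quotient (MulAction.orbitRel (Subgroup.zpowers τ) {z : U // z ≠ 0})) := Fintype.ofFinite _
      rw [Nat.card_sigma]
      exact Finset.dvd_sum fun _ _ => by rw [horb]
    have hc : Nat.card {z : U // z ≠ 0} + 1 = Nat.card U := by
      rw [Nat.card_eq_fintype_card, Nat.card_eq_fintype_card, Fintype.card_subtype_compl, Fintype.card_subtype_eq]
      have := Fintype.card_pos (α := U)
      omega
    rw [(hsub U).1] at hc
    obtain ⟨g, hg⟩ := h4
    rw [hg] at hc
    constructor <;> intro h <;> rw [h] at hc <;> norm_num at hc <;> omega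
  -- the fixed space of `x`
  rw [hM]
  set N := Matrix.toLin' (M x) - LinearMap.id with hN
  clear_value N
  have hxy : M y * M x = M x * M x * M y := by
    rw [← map_mul, ← map_mul, ← map_mul, hyx, show x⁻¹ = x * x from inv_eq_of_mul_eq_one_right (by
      rw [← mul_assoc, show x * x * x = x ^ 3 by rw [pow_succ, sq], hx3])]
  have hNmem : ∀ z, z ∈ LinearMap.ker N ↔ M x *ᵥ z = z := fun z => by simp [hN, sub_eq_zero]
  have hkinv : ∀ z ∈ LinearMap.ker N, M y *ᵥ z ∈ LinearMap.ker N := by
    intro z hz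
    rw [hNmem] at hz ⊢
    have h : M y *ᵥ z = M x *ᵥ (M x *ᵥ (M y *ᵥ z)) := by
      conv_lhs => rw [← hz, Matrix.mulVec_mulVec, hxy, ← Matrix.mulVec_mulVec, ← Matrix.mulVec_mulVec]
    have hx3' : M x * M x * M x = 1 := by rw [← map_mul, ← map_mul, show x * x * x = x ^ 3 by rw [pow_succ, sq], hx3, map_one]
    conv_lhs => rw [h, Matrix.mulVec_mulVec, Matrix.mulVec_mulVec, hx3', Matrix.one_mulVec]
  have hN3 : ∀ z, N (N (N z)) = 0 := by
    intro z
    have hx3' : ∀ w, M x *ᵥ (M x *ᵥ (M x *ᵥ w)) = w := fun w => by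
      rw [Matrix.mulVec_mulVec, Matrix.mulVec_mulVec, ← map_mul, ← map_mul,
        show x * x * x = x ^ 3 by rw [pow_succ, sq], hx3, map_one, Matrix.one_mulVec]
    have h3 : (3 : F) = 0 := by have := CharP.cast_eq_zero F 3; simpa using this
    simp only [hN, LinearMap.sub_apply, Matrix.toLin'_apply, LinearMap.id_apply, Matrix.mulVec_sub, hx3']
    funext i
    simp only [Pi.sub_apply, Pi.zero_apply]
    linear_combination ((M x *ᵥ z) i - (M x *ᵥ (M x *ᵥ z)) i) * h3
  have hkle := (hsub (LinearMap.ker N)).2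
  have hk0 : Module.finrank F (LinearMap.ker N) ≠ 0 := fun h0 => by
    have hinj : ∀ z, N z = 0 → z = 0 := fun z hz => by
      have : z ∈ LinearMap.ker N := hz
      rwa [Submodule.finrank_eq_zero.1 h0, Submodule.mem_bot] at this
    exact absurd (hinj _ (hinj _ (hinj _ (hN3 (Pi.single (Sum.inl 0) 1)))))
      (fun h => one_ne_zero (α := F) (by simpa using congrFun h (Sum.inl 0)))
  have hk4 : Module.finrank F (LinearMap.ker N) ≠ 4 := fun h4 => by
    have hx1 : x ≠ 1 := fun h => by rw [h, orderOf_one] at hx; omega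
    apply hx1; apply hMi; rw [map_one]
    have : LinearMap.ker N = ⊤ := Submodule.eq_top_of_finrank_eq (by rw [h4]; simp)
    apply Matrix.ext_of_mulVec_single
    intro i
    rw [(hNmem _).1 (this ▸ Submodule.mem_top), Matrix.one_mulVec]
  have h2 : Module.finrank F (LinearMap.ker N) = 2 := by
    have := hnot1 _ hkinv
    omega
  refine ⟨h2, ?_⟩
  set R := LinearMap.range N with hR
  have hRinv : ∀ z ∈ R, M y *ᵥ z ∈ R := by
    rintro _ ⟨z, rfl⟩
    refine ⟨(M x *ᵥ (M y *ᵥ z)) + M y *ᵥ z, ?_⟩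
    simp only [hN, LinearMap.sub_apply, Matrix.toLin'_apply, LinearMap.id_apply, Matrix.mulVec_sub, Matrix.mulVec_add]
    rw [Matrix.mulVec_mulVec _ (M y) (M x), hxy, ← Matrix.mulVec_mulVec, ← Matrix.mulVec_mulVec]
    abel
  have hI : LinearMap.ker N ≤ R := by
    have hi : ∀ z ∈ LinearMap.ker N ⊓ R, M y *ᵥ z ∈ LinearMap.ker N ⊓ R := fun z hz => Submodule.mem_inf.2 ⟨hkinv z (Submodule.mem_inf.1 hz).1, hRinv z (Submodule.mem_inf.1 hz).2⟩
    have hle : Module.finrank F ↥(LinearMap.ker N ⊓ R) ≤ 2 := (Submodule.finrank_mono (inf_le_left : LinearMap.ker N ⊓ R ≤ LinearMap.ker N)).trans h2.le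
    have hne : Module.finrank F ↥(LinearMap.ker N ⊓ R) ≠ 0 := fun h0 => by
      have hb := Submodule.finrank_eq_zero.1 h0
      have hkey : ∀ z, N (N z) = 0 → N z = 0 := fun z hz => by
        have : N z ∈ LinearMap.ker N ⊓ R := Submodule.mem_inf.2 ⟨LinearMap.mem_ker.2 hz, LinearMap.mem_range_self N z⟩
        rwa [hb, Submodule.mem_bot] at this
      have : LinearMap.ker N = ⊤ := eq_top_iff.2 fun z _ => hkey z (hkey _ (hN3 z))
      exact hk4 (by rw [this, finrank_top]; simp)
    have := hnot1 _ hi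
    exact le_of_eq_of_le (Submodule.eq_of_le_of_finrank_eq (inf_le_left : LinearMap.ker N ⊓ R ≤ LinearMap.ker N) (by omega)).symm inf_le_right
  intro v w hv hw
  obtain ⟨z, hz⟩ := hI ((hNmem v).2 hv)
  have hxT : (M x)ᵀ * Matrix.J (Fin 2) F * M x = Matrix.J (Fin 2) F := by
    have := (SetLike.coe_mem (φ x))
    exact (SymplecticGroup.mem_iff').1 this
  have key : dotProduct (M x *ᵥ z) (Matrix.J (Fin 2) F *ᵥ w) = dotProduct z (Matrix.J (Fin 2) F *ᵥ w) := by
    conv_lhs => rw [← hw]
    rw [Matrix.mulVec_mulVec, ← Matrix.vecMul_transpose, ← Matrix.dotProduct_mulVec, Matrix.mulVec_mulVec,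
      ← mul_assoc, hxT]
  rw [← hz]
  simp only [hN, LinearMap.sub_apply, Matrix.toLin'_apply, LinearMap.id_apply, sub_dotProduct, key, sub_self]

end Cfsg.Agent.S3213
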