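import Cfsg.Statements.S3215
import Cfsg.Agent.Lib.Solvable.Fitting
import Cfsg.Agent.Lib.Solvable.Hall
import Cfsg.Agent.Lib.Solvable.CoprimeAction
import Cfsg.Agent.Lib.Solvable.FrobeniusComplement
import Cfsg.Agent.Lib.Solvable.UniqueSubgroup
import Cfsg.Agent.Lib.Transfer.Basic
import Cfsg.Agent.Lib.PGroup.Basic
import Cfsg.Agent.Lib.Cores.Fitting
-- import your own Cfsg.Agent.* helpers here

set_option autoImplicit false
open Cfsg

namespace Cfsg.Agent.S3215


open Subgroup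
open scoped commutatorElement

theorem two_el_sq_one {K : Type*} [Group K] [Finite K] (X : Subgroup K) (hX : Odd (Nat.card X)) {h : K}
    {a : ℕ} (ha : h ^ 2 ^ a = 1) (hx : h ^ 2 ∈ X) : h ^ 2 = 1 := by
  have h1 : orderOf (h ^ 2) ∣ 2 ^ a := orderOf_dvd_of_pow_eq_one (by rw [← pow_mul, mul_comm, pow_mul, ha, one_pow])
  have h2 : orderOf (h ^ 2) ∣ Nat.card X := orderOf_dvd_natCard X hx
  exact orderOf_eq_one_iff.mp
    (Nat.eq_one_of_dvd_coprimes ((Nat.coprime_two_left.mpr hX).pow_left a) h1 h2)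

/-- A lift of an element of the quotient of order two, as a `2`-element. -/
theorem exists_two_el {K Q : Type*} [Group K] [Finite K] [Group Q] (f : K →* Q) (h : K) (h2 : f h ^ 2 = 1) :
    ∃ t : K, f t = f h ∧ ∃ a, t ^ 2 ^ a = 1 := by
  obtain ⟨a, m, hm, e⟩ := Nat.exists_eq_two_pow_mul_odd (orderOf_pos h).ne'
  obtain ⟨k, hk⟩ := hm
  refine ⟨h ^ m, ?_, a, ?_⟩
  · rw [map_pow, hk, pow_succ, pow_mul, h2, one_pow, one_mul]
  · rw [← pow_mul, mul_comm, ← e, pow_orderOf_eq_one]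

theorem main {H : Type*} [Group H] [Finite H] (hsol : Group.IsSolvable H)
    (hO : Cfsg.pPrimeCore 2 H = ⊥)
    (hI : ∀ t : H, orderOf t = 2 → Cfsg.HasNormalPComplement 2 ↥(Subgroup.centralizer ({t} : Set H)))
    (X : Subgroup H) (hXodd : Odd (Nat.card X)) (hXidx : ∃ k : ℕ, X.index = 2 ^ k) :
    (∀ x ∈ X, x ≠ 1 → ∀ y ∈ Cfsg.pCore 2 H, y ≠ 1 → x * y ≠ y * x) ∧
      IsZGroup ↥X ∧
      (X ⊔ Cfsg.pCore 2 H).Normal ∧
      ∀ _ : (X ⊔ Cfsg.pCore 2 H).Normal, IsCyclic (H ⧸ (X ⊔ Cfsg.pCore 2 H)) ∧ IsPGroup 2 (H ⧸ (X ⊔ Cfsg.pCore 2 H)) := by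
  haveI := hsol
  haveI : Fact (Nat.Prime 2) := ⟨Nat.prime_two⟩
  set Y := Cfsg.pCore 2 H with hY
  haveI hYchar : Y.Characteristic := CfsgLib.Cores.pCore_characteristic 2
  have hY2 : IsPGroup 2 Y := CfsgLib.Cores.isPGroup_pCore 2
  have hCY : centralizer (Y : Set H) ≤ Y := CfsgLib.Solvable.centralizer_pCore_le 2 hO
  have hXord : ∀ x ∈ X, Odd (orderOf x) := fun x hx => hXodd.of_dvd_nat (orderOf_dvd_natCard X hx)
  have hodd1 : ∀ x : H, Odd (orderOf x) → x ∈ Y → x = 1 := by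
    intro x hx hxY
    obtain ⟨a, ha⟩ := hY2 ⟨x, hxY⟩
    have h1 : orderOf x ∣ 2 ^ a := orderOf_dvd_of_pow_eq_one (congrArg Subtype.val ha)
    exact orderOf_eq_one_iff.mp
      (Nat.eq_one_of_dvd_coprimes ((Nat.coprime_two_left.mpr hx).pow_left a) h1 dvd_rfl)
  have L1 : ∀ x : H, Odd (orderOf x) → ∀ w : H, orderOf w = 2 → x * w = w * x →
      ∀ y ∈ Y, y * w = w * y → x * y = y * x := by
    intro x hx w hw hxw y hy hyw
    set C := centralizer ({w} : Set H) with hC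
    obtain ⟨N, hN, hNc, k, hk⟩ := CfsgLib.Transfer.hasNormalPComplement_iff.mp
      (show Cfsg.HasNormalPComplement 2 ↥C from hI w hw)
    haveI := hN
    have hxC : x ∈ C := mem_centralizer_singleton_iff.mpr hxw
    have hyC : y ∈ C := mem_centralizer_singleton_iff.mpr hyw
    have hxN : (⟨x, hxC⟩ : C) ∈ N := by
      rw [CfsgLib.Transfer.mem_iff_coprime_orderOf hNc hk, Subgroup.orderOf_mk]
      exact Nat.coprime_two_right.mpr hx
    have hdis : Disjoint (Y.subgroupOf C) N := by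
      rw [disjoint_iff]
      exact inf_eq_bot_of_coprime (by
        obtain ⟨n, hn⟩ := IsPGroup.iff_card.1 (hY2.comap_subtype (K := C))
        rw [show Y.subgroupOf C = Y.comap C.subtype from rfl, hn]
        exact hNc.symm.pow_left n)
    exact congrArg Subtype.val (Subgroup.commute_of_normal_of_disjoint N (Y.subgroupOf C) hN inferInstance
      hdis.symm ⟨x, hxC⟩ ⟨y, hyC⟩ hxN hy).eq
  have L2 : ∀ x : H, Odd (orderOf x) → x ≠ 1 → ∀ y ∈ Y, y ≠ 1 → x * y ≠ y * x := by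
    intro x hx hx1 y hy hy1 hxy
    have hne : Y ≠ ⊥ := fun h => hy1 (by rwa [h, mem_bot] at hy)
    -- an involution of `Y` centralized by `x`
    obtain ⟨a, ha⟩ := (IsPGroup.iff_orderOf.1 hY2) ⟨y, hy⟩
    rw [Subgroup.orderOf_mk] at ha
    obtain ⟨b, rfl⟩ : ∃ b, a = b + 1 := by
      refine Nat.exists_eq_succ_of_ne_zero fun h => hy1 ?_
      rw [h, pow_zero] at ha; exact orderOf_eq_one_iff.mp ha
    set w := y ^ 2 ^ b
    have hw : orderOf w = 2 := by
      rw [orderOf_pow' _ (by positivity), ha, pow_succ, Nat.gcd_mul_right_left,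
        Nat.mul_div_cancel_left _ (by positivity)]
    have hxw : x * w = w * x := (Commute.pow_right hxy _).eq
    haveI : Nontrivial Y := Y.nontrivial_iff_ne_bot.mpr hne
    haveI := hY2.center_nontrivial
    obtain ⟨n, hn, hc⟩ := (hY2.to_subgroup (Subgroup.center Y)).nontrivial_iff_card.mp inferInstance
    obtain ⟨⟨z, hz⟩, hzo⟩ := exists_prime_orderOf_dvd_card' (G := Subgroup.center Y) 2 (hc ▸ dvd_pow_self 2 hn.ne')
    have hzo' : orderOf (z : H) = 2 := by
      rw [Subgroup.orderOf_coe]; exact (Subgroup.orderOf_coe (⟨z, hz⟩ : Subgroup.center Y)).trans hzo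
    have hzc : ∀ v ∈ Y, v * (z : H) = z * v := fun v hv =>
      congrArg Subtype.val (Subgroup.mem_center_iff.mp hz ⟨v, hv⟩)
    have hxz : x * (z : H) = z * x := L1 x hx w hw hxw z z.2 (hzc w (pow_mem hy _)).symm
    exact hx1 (hodd1 x hx (hCY (mem_centralizer_iff.mpr fun v hv =>
      (L1 x hx z hzo' hxz v hv (hzc v hv)).symm)))
  -- no 2-element outside `Y` with square in `Y` is centralized modulo `Y` by an odd element
  have L3 : ∀ x : H, Odd (orderOf x) → x ≠ 1 → ∀ t : H, t ∉ Y → t ^ 2 ∈ Y → ⁅x, t⁆ ∈ Y → False := by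
    intro x hx hx1 t htY ht2 hxt
    have hYne : Y ≠ ⊥ := fun h => hx1 (hodd1 x hx (hCY (mem_centralizer_iff.mpr fun v hv => by
      rw [SetLike.mem_coe, h, mem_bot] at hv; simp [hv])))
    obtain ⟨n, hn, hu⟩ := CfsgLib.Solvable.exists_mul_mem_centralizer (Subgroup.zpowers x) Y
      (by rw [normalizer_eq_top]; exact le_top)
      (by
        obtain ⟨m, hm⟩ := IsPGroup.iff_card.1 hY2
        rw [Nat.card_zpowers, hm]; exact (Nat.coprime_two_right.mpr hx).pow_right m)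
      (Or.inl inferInstance) t (by
        rintro _ ⟨i, rfl⟩
        have h1 : QuotientGroup.mk' Y ⁅x, t⁆ = 1 := (QuotientGroup.eq_one_iff _).2 hxt
        rw [map_commutatorElement, commutatorElement_eq_one_iff_mul_comm] at h1
        apply (QuotientGroup.eq_one_iff _).1
        show QuotientGroup.mk' Y ⁅x ^ i, t⁆ = 1
        rw [map_commutatorElement, map_zpow, commutatorElement_eq_one_iff_mul_comm]
        exact (Commute.zpow_left h1 i).eq)
    set u := n * t with hu'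
    have hxu : x * u = u * x := mem_centralizer_iff.mp hu x (mem_zpowers x)
    have hu2 : u ^ 2 = 1 := by
      by_contra h
      refine L2 x hx hx1 (u ^ 2) ?_ h (Commute.pow_right hxu 2).eq
      rw [← QuotientGroup.eq_one_iff (N := Y)]
      show QuotientGroup.mk' Y (u ^ 2) = 1
      rw [map_pow, hu', map_mul, show QuotientGroup.mk' Y n = 1 from (QuotientGroup.eq_one_iff _).2 hn, one_mul, ← map_pow]
      exact (QuotientGroup.eq_one_iff _).2 ht2
    have huY : u ∉ Y := fun h => htY (by simpa [hu'] using mul_mem (inv_mem hn) h)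
    have huo : orderOf u = 2 := orderOf_eq_prime hu2 (fun h => huY (h ▸ one_mem Y))
    -- `u` fixes a nontrivial element of `Y`
    set T := Subgroup.zpowers u ⊔ Y
    have hT : IsPGroup 2 T := (IsPGroup.of_card (n := 1) (by rw [Nat.card_zpowers, huo, pow_one])).to_sup_of_normal_right hY2
    have hne : Y.subgroupOf T ≠ ⊥ := by
      rw [Ne, subgroupOf_eq_bot, disjoint_iff, inf_eq_left.mpr (le_sup_right : Y ≤ T)]
      exact hYne
    obtain ⟨⟨⟨y, hyT⟩, hy, hyc⟩, hy1⟩ := Subgroup.ne_bot_iff_exists_ne_one.mp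
      (CfsgLib.PGroup.inf_center_ne_bot hT (Y.subgroupOf T) hne)
    have hyu : y * u = u * y :=
      (congrArg Subtype.val (mem_center_iff.mp hyc ⟨u, (le_sup_left : _ ≤ T) (mem_zpowers u)⟩)).symm
    exact L2 x hx hx1 y hy (fun h => hy1 (Subtype.ext (Subtype.ext h))) (L1 x hx u huo hxu y hy hyu)
  refine ⟨fun x hx hx1 y hy hy1 => L2 x (hXord x hx) hx1 y hy hy1, ?_⟩
  -- the Sylow subgroups of `X` are cyclic
  have hfpf : ∀ a ∈ X, a ≠ 1 → Y ⊓ centralizer {a} = ⊥ := by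
    intro a ha ha1
    rw [Subgroup.eq_bot_iff_forall]
    rintro y ⟨hy, hy'⟩
    by_contra h
    exact L2 a (hXord a ha) ha1 y hy h (mem_centralizer_singleton_iff.mp hy').symm
  have hZ : IsZGroup X := by
    refine ⟨fun p hp P => ?_⟩
    haveI : Fact p.Prime := ⟨hp⟩
    by_cases hYb : Y = ⊥
    · have : X = ⊥ := (Subgroup.eq_bot_iff_forall _).2 fun x hx => hodd1 x (hXord x hx)
        (hCY (mem_centralizer_iff.mpr fun v hv => by
          rw [SetLike.mem_coe, hYb, mem_bot] at hv; simp [hv]))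
      haveI : Subsingleton X := by rw [this]; infer_instance
      exact isCyclic_of_subsingleton
    set P' := (P : Subgroup X).map X.subtype with hP'
    have hP'X : P' ≤ X := map_subtype_le _
    have hP'p : IsPGroup p P' := P.2.map _
    have hnY : P' ≤ normalizer (Y : Set H) := by rw [normalizer_eq_top]; exact le_top
    have hu : ∀ a b : P', orderOf a = p → orderOf b = p → a ∈ zpowers b := fun a b ha hb =>
      CfsgLib.Solvable.mem_zpowers_of_fpf_pGroup hYb hnY (fun c hc => hfpf c (hP'X hc)) hP'p ha hb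
    have hcyc : IsCyclic P' := by
      rcases CfsgLib.Solvable.isCyclic_or_quaternion hP'p hu with h | ⟨-, n, ⟨e⟩⟩
      · exact h
      · exfalso
        have h1 : Nat.card (QuaternionGroup (2 ^ n)) = 4 * 2 ^ n := by
          rw [Nat.card_eq_fintype_card, QuaternionGroup.card]
        have h2 := hXodd.of_dvd_nat ((Dvd.intro (2 * 2 ^ n) (by ring) : 2 ∣ 4 * 2 ^ n).trans
          (h1 ▸ (Nat.card_congr e.toEquiv).symm.dvd.trans (card_dvd_of_le hP'X)))
        exact absurd h2 (by decide)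
    exact ((P : Subgroup X).equivMapOfInjective X.subtype X.subtype_injective).isCyclic.mpr hcyc
  refine ⟨hZ, ?_⟩
  -- pass to the quotient by `Y`
  set π := QuotientGroup.mk' Y with hπ
  have hπs : Function.Surjective π := QuotientGroup.mk'_surjective Y
  set Xb := X.map π with hXb
  set F := Cfsg.fittingSubgroup (H ⧸ Y) with hF
  haveI hFn : F.Normal := CfsgLib.Cores.fittingSubgroup_normal
  have hXbodd : Odd (Nat.card Xb) := hXodd.of_dvd_nat (card_map_dvd X π)
  obtain ⟨k, hk⟩ := hXidx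
  obtain ⟨k', -, hk'⟩ := (Nat.dvd_prime_pow Nat.prime_two).1 (hk ▸ index_map_dvd X hπs)
  have hXbi : Xb.index = 2 ^ k' := hk'
  have hFodd : Odd (Nat.card F) := by
    have : F ≤ Cfsg.pPrimeCore 2 (H ⧸ Y) := by
      rw [hF, CfsgLib.Cores.fittingSubgroup_eq_iSup_pCore]
      refine iSup_le fun q => ?_
      by_cases hq : (q : ℕ) = 2
      · rw [hq]; exact le_trans (CfsgLib.Cores.pCore_quotient_self 2).le bot_le
      · have : Fact (q : ℕ).Prime := ⟨Nat.prime_of_mem_primeFactors q.2⟩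
        haveI : (Cfsg.pCore (q : ℕ) (H ⧸ Y)).Characteristic := CfsgLib.Cores.pCore_characteristic _
        refine CfsgLib.Cores.le_pPrimeCore ?_
        obtain ⟨n, hn⟩ := IsPGroup.iff_card.1 (CfsgLib.Cores.isPGroup_pCore (G := H ⧸ Y) (q : ℕ))
        rw [hn]
        exact Nat.Coprime.pow_left _ ((Nat.coprime_primes (Fact.out) Nat.prime_two).2 hq)
    exact (CfsgLib.Cores.odd_card_oddCore (G := H ⧸ Y)).of_dvd_nat (card_dvd_of_le this)
  have hFX : F ≤ Xb := by
    obtain ⟨g, hg⟩ := CfsgLib.Solvable.exists_conj_le_of_coprime_index (H := Xb) (K := F)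
      (hXbi ▸ (Nat.coprime_two_right.mpr hXbodd).pow_right k')
      (hXbi ▸ (Nat.coprime_two_right.mpr hFodd).pow_right k')
    exact fun v hv => hg (CfsgLib.Solvable.mem_conj_smul_iff.2 (hFn.conj_mem' v hv g))
  haveI : IsZGroup Xb := IsZGroup.of_surjective (π.subgroupMap_surjective X)
  haveI : IsZGroup F := IsZGroup.of_injective (inclusion_injective hFX)
  haveI : Group.IsNilpotent F := CfsgLib.Cores.isNilpotent_fittingSubgroup
  obtain ⟨⟨f, hf⟩, hgen⟩ := (inferInstance : IsCyclic F).exists_generator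
  have hCF : centralizer (F : Set (H ⧸ Y)) ≤ F := CfsgLib.Solvable.centralizer_fittingSubgroup_le
  have hconj : ∀ a : H ⧸ Y, ∃ i : ℤ, a * f * a⁻¹ = f ^ i := by
    intro a
    obtain ⟨i, hi⟩ := hgen ⟨a * f * a⁻¹, hFn.conj_mem f hf a⟩
    exact ⟨i, (congrArg Subtype.val hi).symm.trans (by simp)⟩
  have hcent : ∀ a : H ⧸ Y, a * f * a⁻¹ = f → a ∈ F := by
    intro a ha
    refine hCF (mem_centralizer_iff.mpr fun v hv => ?_)
    obtain ⟨i, hi⟩ := hgen ⟨v, hv⟩
    have hv' : v = f ^ i := ((congrArg Subtype.val hi).symm.trans (by simp))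
    rw [hv']
    exact ((Commute.zpow_right (mul_inv_eq_iff_eq_mul.mp ha : Commute a f) i).symm).eq
  have hab : ∀ a b : H ⧸ Y, ⁅a, b⁆ ∈ Xb := by
    intro a b
    apply hFX
    apply hcent
    obtain ⟨i, hi⟩ := hconj a⁻¹
    obtain ⟨j, hj⟩ := hconj b⁻¹
    have e : ∀ (c : H ⧸ Y) (l : ℤ), c * f ^ l * c⁻¹ = (c * f * c⁻¹) ^ l := fun c l => by
      rw [conj_zpow]
    have h1 : a⁻¹ * b⁻¹ * f * (a⁻¹ * b⁻¹)⁻¹ = f ^ (i * j) := by
      calc a⁻¹ * b⁻¹ * f * (a⁻¹ * b⁻¹)⁻¹ = a⁻¹ * (b⁻¹ * f * b⁻¹⁻¹) * a⁻¹⁻¹ := by group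
        _ = f ^ (i * j) := by rw [hj, e, hi, ← zpow_mul]
    have h2 : b⁻¹ * a⁻¹ * f * (b⁻¹ * a⁻¹)⁻¹ = f ^ (i * j) := by
      calc b⁻¹ * a⁻¹ * f * (b⁻¹ * a⁻¹)⁻¹ = b⁻¹ * (a⁻¹ * f * a⁻¹⁻¹) * b⁻¹⁻¹ := by group
        _ = f ^ (i * j) := by rw [hi, e, hj, ← zpow_mul, mul_comm]
    calc ⁅a, b⁆ * f * ⁅a, b⁆⁻¹ = (b⁻¹ * a⁻¹)⁻¹ * (a⁻¹ * b⁻¹ * f * (a⁻¹ * b⁻¹)⁻¹) * (b⁻¹ * a⁻¹) := by
          rw [commutatorElement_def]; group
      _ = f := by rw [h1, ← h2]; group
  have hcomap : X ⊔ Y = Xb.comap π := by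
    rw [hXb, comap_map_eq, hπ, QuotientGroup.ker_mk']
  have hXbn : Xb.Normal := ⟨fun c hc a => by
    have := mul_mem (hab a c) hc
    simpa [commutatorElement_def] using this⟩
  refine ⟨hcomap ▸ hXbn.comap π, fun hN => ?_⟩
  haveI := hN
  have hP : IsPGroup 2 (H ⧸ (X ⊔ Y)) := by
    obtain ⟨j, -, hj⟩ := (Nat.dvd_prime_pow Nat.prime_two).1
      (hk ▸ index_dvd_of_le (le_sup_left : X ≤ X ⊔ Y))
    exact IsPGroup.of_card (n := j) (by rw [← index_eq_card, hj])
  refine ⟨CfsgLib.Solvable.isCyclic_of_unique_of_comm hP ?_ ?_, hP⟩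
  · intro a b
    obtain ⟨a, rfl⟩ := QuotientGroup.mk'_surjective _ a
    obtain ⟨b, rfl⟩ := QuotientGroup.mk'_surjective _ b
    rw [← commutatorElement_eq_one_iff_mul_comm, ← map_commutatorElement]
    refine (QuotientGroup.eq_one_iff _).2 ?_
    rw [hcomap, mem_comap, map_commutatorElement]
    exact hab _ _
  · intro A B hA hB
    have lift : ∀ A : H ⧸ (X ⊔ Y), orderOf A = 2 → ∃ t : H, QuotientGroup.mk' (X ⊔ Y) t = A ∧
        π t * f * (π t)⁻¹ = f⁻¹ := by
      intro A hA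
      obtain ⟨h, hh⟩ := QuotientGroup.mk'_surjective _ A
      obtain ⟨t, ht, a, ha⟩ := exists_two_el (QuotientGroup.mk' (X ⊔ Y)) h
        (by rw [hh, ← hA, pow_orderOf_eq_one])
      rw [hh] at ht
      refine ⟨t, ht, ?_⟩
      have htn : t ∉ Y := fun h' => by
        have : A = 1 := ht ▸ (QuotientGroup.eq_one_iff _).2 ((le_sup_right : Y ≤ X ⊔ Y) h')
        simp [this] at hA
      have ht2 : π t ^ 2 ∈ Xb := by
        have : t ^ 2 ∈ X ⊔ Y := (QuotientGroup.eq_one_iff _).1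
          (show QuotientGroup.mk' (X ⊔ Y) (t ^ 2) = 1 by rw [map_pow, ht, ← hA, pow_orderOf_eq_one])
        rw [hcomap, mem_comap, map_pow] at this
        exact this
      have hbar2 : π t ^ 2 = 1 := two_el_sq_one Xb hXbodd (a := a) (by rw [← map_pow, ha, map_one]) ht2
      have hbar : orderOf (π t) = 2 :=
        orderOf_eq_prime hbar2 fun h' => htn ((QuotientGroup.eq_one_iff _).1 h')
      refine CfsgLib.Solvable.conj_eq_inv_of_fpf (H := zpowers (π t)) (K := F)
        (by rw [normalizer_eq_top]; exact le_top) (fun c hc hc1 => ?_) (mem_zpowers _) hbar f hf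
      obtain ⟨i, rfl⟩ := hc
      have hct : π t ^ i = π t := by
        rcases Int.even_or_odd i with ⟨l, rfl⟩ | ⟨l, rfl⟩
        · exfalso; apply hc1
          show π t ^ (l + l) = 1
          rw [← two_mul, zpow_mul, zpow_ofNat, hbar2, one_zpow]
        · rw [zpow_add, zpow_one, zpow_mul, zpow_ofNat, hbar2, one_zpow, one_mul]
      show F ⊓ centralizer {π t ^ i} = ⊥
      rw [hct, Subgroup.eq_bot_iff_forall]
      rintro v ⟨hvF, hvc⟩
      by_contra hv1
      obtain ⟨x, hx, rfl⟩ := hFX hvF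
      refine L3 x (hXord x hx) (fun h' => hv1 (by rw [h', map_one])) t htn
        ((QuotientGroup.eq_one_iff _).1 (show π (t ^ 2) = 1 by rw [map_pow, hbar2])) ?_
      apply (QuotientGroup.eq_one_iff _).1
      show π ⁅x, t⁆ = 1
      rw [map_commutatorElement, commutatorElement_eq_one_iff_mul_comm]
      exact (mem_centralizer_singleton_iff.mp hvc)
    obtain ⟨t, rfl, ht⟩ := lift A hA
    obtain ⟨s, rfl, hs⟩ := lift B hB
    refine ⟨1, ?_⟩
    show QuotientGroup.mk' (X ⊔ Y) s ^ (1 : ℤ) = _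
    rw [zpow_one]
    show (s : H ⧸ (X ⊔ Y)) = (t : H ⧸ (X ⊔ Y))
    refine (QuotientGroup.eq_iff_div_mem (nN := hN)).2 ?_
    rw [hcomap, mem_comap, div_eq_mul_inv, map_mul, map_inv]
    refine hFX (hcent _ ?_)
    calc π s * (π t)⁻¹ * f * (π s * (π t)⁻¹)⁻¹ = π s * ((π t)⁻¹ * f * π t) * (π s)⁻¹ := by group
      _ = f := by
        have h1 : (π t)⁻¹ * f * π t = f⁻¹ := by
          calc (π t)⁻¹ * f * π t = ((π t)⁻¹ * f⁻¹ * π t)⁻¹ := by group
            _ = f⁻¹ := by congr 1; rw [← ht]; group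
        rw [h1]
        calc π s * f⁻¹ * (π s)⁻¹ = (π s * f * (π s)⁻¹)⁻¹ := by group
          _ = f := by rw [hs, inv_inv]


/-- Let H be a finite solvable group with no nontrivial normal subgroup of odd order in which the centralizer of every involution has a normal 2-complement. Let X be a Hall 2'-subgroup of H (odd order, index a power of 2) and Y = O₂(H). Then no non-identity element of X commutes with a non-identity element of Y (so for X ≠ 1 the group XY is a Frobenius group with kernel Y), every Sylow subgroup of X is cyclic, XY is normal in H, and H/XY is a cyclic 2-group. -/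
theorem result {H : Type*} [Group H] [Finite H] (hsol : Group.IsSolvable H)
    (hO : Cfsg.oddCore H = ⊥)
    (hI : ∀ t : H, orderOf t = 2 → Cfsg.HasNormalPComplement 2 ↥(Subgroup.centralizer ({t} : Set H)))
    (X : Subgroup H) (hXodd : Odd (Nat.card X)) (hXidx : ∃ k : ℕ, X.index = 2 ^ k) :
    (∀ x ∈ X, x ≠ 1 → ∀ y ∈ Cfsg.pCore 2 H, y ≠ 1 → x * y ≠ y * x) ∧
      (∀ (p : ℕ) [Fact p.Prime] (P : Sylow p ↥X), IsCyclic ↥(P : Subgroup ↥X)) ∧
      (X ⊔ Cfsg.pCore 2 H).Normal ∧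
      ∀ hN : (X ⊔ Cfsg.pCore 2 H).Normal, IsCyclic (H ⧸ (X ⊔ Cfsg.pCore 2 H)) ∧ IsPGroup 2 (H ⧸ (X ⊔ Cfsg.pCore 2 H)) := by
  obtain ⟨h1, h2, h3, h4⟩ := main hsol hO hI X hXodd hXidx
  refine ⟨h1, fun p _ P => ?_, h3, h4⟩
  haveI := h2
  exact inferInstance

end Cfsg.Agent.S3215
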