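import Cfsg.Statements.S3222
import Mathlib
import Cfsg.Agent.Lib.InvolChar.D8
import Cfsg.Agent.Lib.InvolChar.AutA6
import Cfsg.Agent.S0111
import Cfsg.Agent.S0497
import Cfsg.Agent.S3277
import Cfsg.Agent.Lib.Solvable.BurnsideHall
-- import your own Cfsg.Agent.* helpers here

set_option autoImplicit false
open Cfsg

namespace Cfsg.Agent.S3222


section prelim

open Equiv

/-- a transposition -/
def s0 : Perm (Fin 4) := swap 0 1
/-- a double transposition -/
def z0 : Perm (Fin 4) := swap 0 1 * swap 2 3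
/-- a four cycle with square `z0` -/
def a0 : Perm (Fin 4) := swap 0 2 * swap 2 1 * swap 1 3
/-- a three cycle -/
def c0 : Perm (Fin 4) := swap 0 1 * swap 1 2

set_option maxRecDepth 20000 in
theorem s4_center : ∀ σ : Perm (Fin 4), (∀ τ, σ * τ = τ * σ) → σ = 1 := by decide +kernel

set_option maxRecDepth 20000 in
theorem s4_inv : ∀ σ : Perm (Fin 4), σ * σ = 1 → σ = 1 ∨ (∃ p, p * z0 * p⁻¹ = σ) ∨ ∃ p, p * s0 * p⁻¹ = σ := by
  decide +kernel

set_option maxRecDepth 20000 in
theorem s4_d8_comm : ∀ σ τ : Perm (Fin 4), σ * z0 = z0 * σ → τ * z0 = z0 * τ →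
    σ * τ * σ⁻¹ * τ⁻¹ = 1 ∨ σ * τ * σ⁻¹ * τ⁻¹ = z0 := by decide +kernel

set_option maxRecDepth 20000 in
theorem s4_facts : Fintype.card {σ : Perm (Fin 4) // σ * z0 = z0 * σ} = 8 ∧
    Fintype.card {σ : Perm (Fin 4) // ∃ p, p * s0 * p⁻¹ = σ} = 6 ∧
    a0 * a0 = z0 ∧ z0 ≠ 1 ∧ z0 * z0 = 1 ∧ a0 * z0 = z0 * a0 ∧ s0 * z0 = z0 * s0 ∧ s0 * s0 = 1 ∧ s0 ≠ 1 ∧
    s0 * a0 * s0⁻¹ = a0⁻¹ ∧ c0 * c0 * c0 = 1 ∧ c0 ≠ 1 ∧ Equiv.Perm.sign c0 = 1 ∧ Equiv.Perm.sign z0 = 1 := by
  decide +kernel

set_option maxRecDepth 20000 in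
theorem s4_even_square : ∀ σ : Perm (Fin 4), Equiv.Perm.sign σ = 1 → ∃ ρ, ρ * ρ = σ := by decide +kernel

set_option maxRecDepth 20000 in
theorem s4_klein_count : Fintype.card {σ : Perm (Fin 4) // σ * z0 = z0 * σ ∧ σ * σ = 1 ∧ Equiv.Perm.sign σ = 1} = 4 := by
  decide +kernel

set_option maxRecDepth 20000 in
theorem s4_klein_fix : ∀ σ : Perm (Fin 4), σ * z0 = z0 * σ → σ * σ = 1 → Equiv.Perm.sign σ = 1 →
    σ * c0 = c0 * σ → σ = 1 := by decide +kernel

set_option maxRecDepth 20000 in
theorem s4_klein_orbit : ∀ σ : Perm (Fin 4), σ * z0 = z0 * σ → σ * σ = 1 → Equiv.Perm.sign σ = 1 → σ ≠ 1 →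
    ∃ p, Equiv.Perm.sign p = 1 ∧ p * z0 * p⁻¹ = σ := by decide +kernel

set_option maxRecDepth 20000 in
theorem two_elems : ∀ a : Multiplicative (ZMod 2), a ≠ 1 → (∀ u, u = 1 ∨ u = a) ∧
    ∀ x y : ℤˣ, (if x * y = 1 then (1 : Multiplicative (ZMod 2)) else a) =
      (if x = 1 then 1 else a) * (if y = 1 then 1 else a) := by decide +kernel

set_option maxRecDepth 20000 in
theorem sign_s0 : Equiv.Perm.sign s0 = -1 := by decide +kernel

set_option maxRecDepth 20000 in
theorem five_points : ∀ p q : Perm (Fin 5), p * (p * p) = 1 → p ≠ 1 → q * q = 1 → p * q = q * p →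
    ∀ b, q b = b → p b = b → q = 1 := by decide +kernel

end prelim

section configs

variable {G : Type*} [Group G] [Finite G]

open CfsgLib.Invol in
/-- The conjugates of `t` cannot all commute with `t` when a simple subgroup has small index. -/
theorem false_of_commuting_class (t : G) (N : Subgroup G) [IsSimpleGroup ↥N]
    (hN : ∃ x ∈ N, ∃ y ∈ N, x * y ≠ y * x) (hidx : N.index < (Subgroup.centralizer ({t} : Set G)).index)
    (hall : ∀ g : G, Commute t (g * t * g⁻¹)) : False := by
  classical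
  set A := Subgroup.closure {w : G | IsConj t w} with hA
  haveI hAn : A.Normal := ⟨fun a ha g => by
    have hle : A ≤ A.comap (MulAut.conj g).toMonoidHom := by
      rw [hA, Subgroup.closure_le]
      intro w hw
      exact Subgroup.subset_closure (hw.trans (isConj_iff.2 ⟨g, rfl⟩))
    exact hle ha⟩
  have hgen : ∀ a b, IsConj t a → IsConj t b → Commute a b := by
    intro a b ha hb
    obtain ⟨g, hg⟩ := isConj_iff.1 ha
    obtain ⟨h, hh⟩ := isConj_iff.1 (hb.trans (isConj_iff.2 ⟨g⁻¹, rfl⟩))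
    have h3 := (hall h).map (MulAut.conj g).toMonoidHom
    rw [MulEquiv.coe_toMonoidHom, MulAut.conj_apply, MulAut.conj_apply, hg, hh,
      show g * (g⁻¹ * b * g⁻¹⁻¹) * g⁻¹ = b by group] at h3
    exact h3
  have hAc : ∀ a ∈ A, ∀ b ∈ A, a * b = b * a := fun a ha b hb => congrArg Subtype.val
    ((Subgroup.isMulCommutative_closure fun a ha b hb => hgen a b ha hb).is_comm.comm (⟨a, ha⟩ : ↥A) ⟨b, hb⟩)
  have hsub : ∀ x ∈ A, x ∈ N → x = 1 := by
    intro x hxA hxN
    rcases (Subgroup.Normal.eq_bot_or_eq_top (H := A.subgroupOf N) inferInstance) with h | h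
    · have h1 : (⟨x, hxN⟩ : ↥N) ∈ A.subgroupOf N := Subgroup.mem_subgroupOf.2 hxA
      rw [h, Subgroup.mem_bot] at h1
      exact congrArg Subtype.val h1
    · obtain ⟨u, hu, v, hv, huv⟩ := hN
      exact absurd (hAc u (Subgroup.subgroupOf_eq_top.1 h hu) v (Subgroup.subgroupOf_eq_top.1 h hv)) huv
  let F : G ⧸ Subgroup.centralizer ({t} : Set G) → G ⧸ N := fun q =>
    ((q.out * t * q.out⁻¹ : G) : G ⧸ N)
  have hF : Function.Injective F := by
    intro p q hpq
    have h1 : (p.out * t * p.out⁻¹)⁻¹ * (q.out * t * q.out⁻¹) ∈ N := QuotientGroup.eq.1 hpq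
    have hmem : ∀ g : G, g * t * g⁻¹ ∈ A := fun g => Subgroup.subset_closure (isConj_iff.2 ⟨g, rfl⟩)
    have h2 := inv_mul_eq_one.1 (hsub _ (mul_mem (inv_mem (hmem _)) (hmem _)) h1)
    rw [← QuotientGroup.out_eq' p, ← QuotientGroup.out_eq' q, QuotientGroup.eq,
      Subgroup.mem_centralizer_singleton_iff]
    calc p.out⁻¹ * q.out * t = p.out⁻¹ * (q.out * t * q.out⁻¹) * q.out := by group
      _ = t * (p.out⁻¹ * q.out) := by rw [← h2]; group
  have := Nat.card_le_card_of_injective F hF
  rw [← Subgroup.index_eq_card, ← Subgroup.index_eq_card] at this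
  omega

/-- common fixed cosets and commuting conjugates -/
theorem smul_coset_fix (t x g : G) :
    x • ((g : G) : G ⧸ Subgroup.centralizer ({t} : Set G)) = (g : G) ↔ x * (g * t * g⁻¹) = g * t * g⁻¹ * x := by
  rw [MulAction.Quotient.smul_coe, QuotientGroup.eq, Subgroup.mem_centralizer_singleton_iff, smul_eq_mul]
  constructor
  · intro h
    have h' : (x * g)⁻¹ * g * t * ((x * g)⁻¹ * g)⁻¹ = t := mul_inv_eq_iff_eq_mul.2 h
    calc x * (g * t * g⁻¹) = x * g * t * (x * g)⁻¹ * x := by group
      _ = x * g * ((x * g)⁻¹ * g * t * ((x * g)⁻¹ * g)⁻¹) * (x * g)⁻¹ * x := by rw [h']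
      _ = g * t * g⁻¹ * x := by group
  · intro h
    calc (x * g)⁻¹ * g * t = g⁻¹ * x⁻¹ * (g * t * g⁻¹ * x) * x⁻¹ * g := by group
      _ = t * ((x * g)⁻¹ * g) := by rw [← h]; group

/-- Some second coset is fixed by an even involution on seven points. -/
theorem exists_second_fixed {X : Type*} [Fintype X] [DecidableEq X] (hX : Fintype.card X = 7)
    (σ : Equiv.Perm X) (h2 : σ ^ 2 = 1) (hs : Equiv.Perm.sign σ = 1) (b : X) :
    ∃ y, y ≠ b ∧ σ y = y := by
  by_contra h
  push Not at h
  have hle : Fintype.card (Function.fixedPoints σ) ≤ 1 := Fintype.card_le_one_iff.2 fun u v => by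
    have hu : (u : X) = b := by by_contra hne; exact h u hne u.2
    have hv : (v : X) = b := by by_contra hne; exact h v hne v.2
    exact Subtype.ext (hu.trans hv.symm)
  rw [Equiv.Perm.sign_of_pow_two_eq_one h2, hX] at hs
  interval_cases hf : Fintype.card (Function.fixedPoints σ)
  · norm_num at hs
  · norm_num at hs

end configs

section build

variable {G : Type*} [Group G] [Finite G]

/-- An extension of `A₆` by an element fixing an element of order three is `S₆`. -/
theorem iso_perm_six (G0 : Subgroup G) [G0.Normal] (hi : G0.index = 2) (f : ↥G0 ≃* ↥(alternatingGroup (Fin 6)))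
    (t : G) (ht : t ∉ G0) (c : ↥G0) (hc : orderOf c = 3) (htc : t * (c : G) = c * t)
    (hfaith : ∀ g : G, (∀ x ∈ G0, g * x = x * g) → g = 1) :
    Nonempty (G ≃* Equiv.Perm (Fin 6)) := by
  classical
  have hcard : Nat.card G = 720 := by
    have h1 := G0.card_mul_index
    rw [hi, Nat.card_congr f.toEquiv, nat_card_alternatingGroup, Nat.card_eq_fintype_card, Fintype.card_fin] at h1
    rw [← h1]; rfl
  let P : G → Equiv.Perm (Fin 6) → Prop := fun g π =>
    ∀ x : ↥G0, (f (MulAut.conjNormal g x) : Equiv.Perm (Fin 6)) = π * (f x : Equiv.Perm (Fin 6)) * π⁻¹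
  have huniq : ∀ g π π', P g π → P g π' → π = π' := by
    intro g π π' h h'
    have key : π'⁻¹ * π = 1 := CfsgLib.InvolChar.A6.eq_one_of_centralizes _ fun y => by
      have e := (h (f.symm y)).symm.trans (h' (f.symm y))
      rw [f.apply_symm_apply] at e
      calc π'⁻¹ * π * (y : Equiv.Perm (Fin 6)) = π'⁻¹ * (π * y * π⁻¹) * π := by group
        _ = (y : Equiv.Perm (Fin 6)) * (π'⁻¹ * π) := by rw [e]; group
    exact (inv_mul_eq_one.1 key).symm
  have hin : ∀ g (hg : g ∈ G0), P g (f ⟨g, hg⟩ : Equiv.Perm (Fin 6)) := by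
    intro g hg x
    have e : MulAut.conjNormal g x = ⟨g, hg⟩ * x * (⟨g, hg⟩ : ↥G0)⁻¹ := Subtype.ext rfl
    rw [e, map_mul, map_mul, map_inv]
    rfl
  obtain ⟨π, hπ⟩ : ∃ π, P t π := by
    obtain ⟨π, hπ⟩ := CfsgLib.InvolChar.A6.aut_is_conj ((f.symm.trans (MulAut.conjNormal t)).trans f) (f c)
      (by rw [MulEquiv.orderOf_eq, hc]) (by
        simp only [MulEquiv.trans_apply, MulEquiv.symm_apply_apply]
        exact congrArg f (Subtype.ext (mul_inv_eq_iff_eq_mul.2 htc)))
    refine ⟨π, fun x => ?_⟩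
    have := hπ (f x)
    simpa only [MulEquiv.trans_apply, MulEquiv.symm_apply_apply] using this
  have hmul : ∀ g h p q, P g p → P h q → P (g * h) (p * q) := by
    intro g h p q hp hq x
    rw [map_mul, MulAut.mul_apply, hp, hq]
    group
  have hex : ∀ g, ∃ p, P g p := by
    intro g
    by_cases hg : g ∈ G0
    · exact ⟨_, hin g hg⟩
    · have htg : t⁻¹ * g ∈ G0 := by
        rw [Subgroup.mul_mem_iff_of_index_two hi, inv_mem_iff]
        exact iff_of_false ht hg
      refine ⟨π * (f ⟨_, htg⟩ : Equiv.Perm (Fin 6)), ?_⟩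
      have := hmul t (t⁻¹ * g) _ _ hπ (hin _ htg)
      rwa [mul_inv_cancel_left] at this
  choose F hF using hex
  let Ψ : G →* Equiv.Perm (Fin 6) := MonoidHom.mk' F fun g h => huniq _ _ _ (hF _) (hmul g h _ _ (hF g) (hF h))
  have hinj : Function.Injective Ψ := by
    rw [injective_iff_map_eq_one]
    intro g hg
    refine hfaith g fun x hx => ?_
    have h1 := hF g ⟨x, hx⟩
    rw [show F g = 1 from hg, inv_one, one_mul, mul_one] at h1
    have h2 := f.injective (Subtype.ext h1)
    exact mul_inv_eq_iff_eq_mul.1 (congrArg Subtype.val h2)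
  refine ⟨MulEquiv.ofBijective Ψ ((Nat.bijective_iff_injective_and_card Ψ).2 ⟨hinj, ?_⟩)⟩
  rw [hcard, Nat.card_perm, Nat.card_eq_fintype_card, Fintype.card_fin]
  rfl

end build

set_option maxHeartbeats 1600000 in
/-- The dichotomy. -/
theorem dichotomy {G : Type*} [Group G] [Finite G]
    (t : G) (ht : orderOf t = 2) (T : Sylow 2 G) (htT : t ∈ (T : Subgroup G)) (htc : ∀ s ∈ (T : Subgroup G), s * t = t * s)
    (e : ↥(Subgroup.centralizer ({t} : Set G)) ≃* (Multiplicative (ZMod 2) × Equiv.Perm (Fin 4)))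
    (h2 : ∀ S : Sylow 2 G, Subgroup.centralizer ((⁅(S : Subgroup G), (S : Subgroup G)⁆ : Subgroup G) : Set G) = (S : Subgroup G)) :
    Subgroup.centralizer ({t} : Set G) = ⊤ ∨ Nonempty (G ≃* Equiv.Perm (Fin 6)) := by
  classical
  haveI : Fact (Nat.Prime 2) := ⟨Nat.prime_two⟩
  obtain ⟨hz8, hs6, haa, hz1, hzz, haz, hsz, hss, hs1, hsa, hc3, hc1, hcs, hzs⟩ := s4_facts
  set C := Subgroup.centralizer ({t} : Set G) with hC
  let f : Multiplicative (ZMod 2) × Equiv.Perm (Fin 4) →* G := C.subtype.comp e.symm.toMonoidHom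
  have hfinj : Function.Injective f := fun p q h => e.symm.injective (Subtype.ext h)
  have hfC : ∀ p, f p ∈ C := fun p => (e.symm p).2
  have hfsurj : ∀ g ∈ C, ∃ p, f p = g := fun g hg => ⟨e ⟨g, hg⟩, by simp [f]⟩
  have hC48 : Nat.card ↥C = 48 := by
    rw [Nat.card_congr e.toEquiv, Nat.card_prod, Nat.card_perm, Nat.card_eq_fintype_card,
      Nat.card_eq_fintype_card, Fintype.card_multiplicative, ZMod.card, Fintype.card_fin]
    rfl
  obtain ⟨ε, hε, hεt⟩ : ∃ ε : Multiplicative (ZMod 2), ε ≠ 1 ∧ f (ε, 1) = t := by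
    obtain ⟨⟨ε, σ⟩, hp⟩ := hfsurj t (Subgroup.mem_centralizer_singleton_iff.2 rfl)
    have hσ : σ = 1 := by
      refine s4_center σ fun τ => ?_
      have h1 := Subgroup.mem_centralizer_singleton_iff.1 (hfC ((1 : Multiplicative (ZMod 2)), τ))
      rw [← hp, ← map_mul, ← map_mul] at h1
      exact (congrArg Prod.snd (hfinj h1)).symm
    subst hσ
    refine ⟨ε, fun h => CfsgLib.Invol.ne_one_of_orderOf_two ht ?_, hp⟩
    rw [← hp, h]; exact map_one f
  let j : Equiv.Perm (Fin 4) →* G := f.comp (MonoidHom.inr _ _)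
  have hjC : ∀ σ, j σ ∈ C := fun σ => hfC _
  have hjinj : Function.Injective j := fun a b h => congrArg Prod.snd (hfinj h)
  have hε2 : ∀ u : Multiplicative (ZMod 2), u = 1 ∨ u = ε := (two_elems ε hε).1
  have hdec : ∀ g ∈ C, ∃ σ, g = j σ ∨ g = t * j σ := by
    intro g hg
    obtain ⟨⟨u, σ⟩, rfl⟩ := hfsurj g hg
    rcases hε2 u with rfl | rfl
    · exact ⟨σ, Or.inl rfl⟩
    · refine ⟨σ, Or.inr ?_⟩
      rw [← hεt, show j σ = f (1, σ) from rfl, ← map_mul]
      simp
  have ht2 : t * t = 1 := CfsgLib.Invol.mul_self_of_orderOf_two ht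
  have hti : t⁻¹ = t := inv_eq_of_mul_eq_one_right ht2
  have htj : ∀ σ, j σ * t = t * j σ := fun σ => Subgroup.mem_centralizer_singleton_iff.1 (hjC σ)
  have htC : t ∈ C := Subgroup.mem_centralizer_singleton_iff.2 rfl
  set z := j z0 with hz
  -- a Sylow subgroup
  set S0 := (((⊤ : Subgroup (Multiplicative (ZMod 2)))).prod (Subgroup.centralizer ({z0} : Set (Equiv.Perm (Fin 4))))).map f with hS0
  have hD8 : Nat.card ↥(Subgroup.centralizer ({z0} : Set (Equiv.Perm (Fin 4)))) = 8 := by
    rw [← hz8, ← Nat.card_eq_fintype_card]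
    exact Nat.card_congr (Equiv.subtypeEquivRight fun σ => Subgroup.mem_centralizer_singleton_iff)
  have hS16 : Nat.card ↥S0 = 16 := by
    rw [hS0, Subgroup.card_map_of_injective hfinj, Nat.card_congr (Subgroup.prodEquiv _ _).toEquiv,
      Nat.card_prod, Subgroup.card_top, hD8, Nat.card_eq_fintype_card, Fintype.card_multiplicative, ZMod.card]
  obtain ⟨S, hS⟩ := (IsPGroup.of_card (p := 2) (G := ↥S0) (n := 4) (by rw [hS16]; norm_num)).exists_le_sylow
  have hScard : Nat.card ↥(S : Subgroup G) = 16 := by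
    have hTC : (T : Subgroup G) ≤ C := fun s hs => Subgroup.mem_centralizer_singleton_iff.2 (htc s hs)
    obtain ⟨n, hn⟩ := IsPGroup.iff_card.1 T.2
    have h48 : 2 ^ n ∣ 48 := hn ▸ hC48 ▸ Subgroup.card_dvd_of_le hTC
    have h16 := Subgroup.card_le_of_le hS
    rw [hS16, Nat.card_congr (Sylow.equiv S T).toEquiv, hn] at h16
    have hn4 : n ≤ 4 := by
      by_contra hlt
      have := (pow_dvd_pow 2 (show 5 ≤ n by omega)).trans h48
      norm_num at this
    have := Nat.pow_le_pow_right (show 0 < 2 by norm_num) hn4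
    rw [Nat.card_congr (Sylow.equiv S T).toEquiv, hn]
    omega
  have hSeq : (S : Subgroup G) = S0 := (Subgroup.eq_of_le_of_card_ge hS (by rw [hScard, hS16])).symm
  have hmemS : ∀ g, g ∈ (S : Subgroup G) ↔ ∃ σ, σ * z0 = z0 * σ ∧ (g = j σ ∨ g = t * j σ) := by
    intro g
    rw [hSeq, hS0, Subgroup.mem_map]
    constructor
    · rintro ⟨⟨u, σ⟩, hu, rfl⟩
      refine ⟨σ, Subgroup.mem_centralizer_singleton_iff.1 (Subgroup.mem_prod.1 hu).2, ?_⟩
      rcases hε2 u with rfl | rfl
      · exact Or.inl rfl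
      · right; rw [← hεt, show j σ = f (1, σ) from rfl, ← map_mul]; simp
    · rintro ⟨σ, hσ, rfl | rfl⟩
      · exact ⟨(1, σ), ⟨trivial, Subgroup.mem_centralizer_singleton_iff.2 hσ⟩, rfl⟩
      · exact ⟨(ε, σ), ⟨trivial, Subgroup.mem_centralizer_singleton_iff.2 hσ⟩, by
          rw [← hεt, show j σ = f (1, σ) from rfl, ← map_mul]; simp⟩
  have hzS : ∀ g, g * z = z * g → g ∈ (S : Subgroup G) := by
    intro g hg
    rw [← h2 S]
    have hle : ⁅(S : Subgroup G), (S : Subgroup G)⁆ ≤ Subgroup.zpowers z := by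
      rw [Subgroup.commutator_le]
      intro a ha b hb
      rw [hSeq, hS0, Subgroup.mem_map] at ha hb
      obtain ⟨p, hp, rfl⟩ := ha
      obtain ⟨q, hq, rfl⟩ := hb
      rw [commutatorElement_def, ← map_inv, ← map_inv, ← map_mul, ← map_mul, ← map_mul]
      have e1 : p * q * p⁻¹ * q⁻¹ = (1, p.2 * q.2 * p.2⁻¹ * q.2⁻¹) := Prod.ext (by simp) rfl
      rw [e1]
      rcases s4_d8_comm _ _ (Subgroup.mem_centralizer_singleton_iff.1 (Subgroup.mem_prod.1 hp).2)
        (Subgroup.mem_centralizer_singleton_iff.1 (Subgroup.mem_prod.1 hq).2) with h | h <;> rw [h]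
      · rw [show ((1 : Multiplicative (ZMod 2)), (1 : Equiv.Perm (Fin 4))) = 1 from rfl, map_one]; exact one_mem _
      · exact Subgroup.mem_zpowers z
    rw [Subgroup.mem_centralizer_iff]
    intro h hh
    obtain ⟨n, rfl⟩ := Subgroup.mem_zpowers_iff.1 (hle hh)
    exact (Commute.zpow_right (show Commute g z from hg) n).eq.symm
  have hSC : ∀ g ∈ (S : Subgroup G), g * t = t * g ∧ g * z = z * g := by
    intro g hg
    obtain ⟨σ, hσ, rfl | rfl⟩ := (hmemS g).1 hg
    · exact ⟨htj σ, by rw [hz, ← map_mul, ← map_mul, hσ]⟩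
    · refine ⟨by rw [mul_assoc, htj σ], ?_⟩
      rw [mul_assoc, hz, ← map_mul, hσ, map_mul, ← mul_assoc, ← htj z0, mul_assoc]
  have hz_ne_t : ¬ IsConj z t := by
    intro h
    obtain ⟨g, hg⟩ := isConj_iff.1 h
    have hle : C.map (MulAut.conj g⁻¹).toMonoidHom ≤ (S : Subgroup G) := by
      rintro _ ⟨c, hc, rfl⟩
      refine hzS _ ?_
      show g⁻¹ * c * g⁻¹⁻¹ * z = z * (g⁻¹ * c * g⁻¹⁻¹)
      have hz' : z = g⁻¹ * t * g := by rw [← hg]; group
      rw [hz']
      calc g⁻¹ * c * g⁻¹⁻¹ * (g⁻¹ * t * g) = g⁻¹ * (c * t) * g := by group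
        _ = _ := by rw [Subgroup.mem_centralizer_singleton_iff.1 hc]; group
    have := Subgroup.card_le_of_le hle
    rw [Subgroup.card_map_of_injective (MulAut.conj g⁻¹).injective, hC48, hScard] at this
    omega
  have hzt_ne_t : ¬ IsConj (t * z) t := by
    intro h
    obtain ⟨g, hg⟩ := isConj_iff.1 h
    have hx : t * z ∈ Subgroup.centralizer ((S : Subgroup G) : Set G) := by
      rw [Subgroup.mem_centralizer_iff]
      intro s hs
      rw [← mul_assoc, (hSC s hs).1, mul_assoc, (hSC s hs).2, mul_assoc]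
    have hy : g⁻¹⁻¹ * (t * z) * g⁻¹ ∈ Subgroup.centralizer ((S : Subgroup G) : Set G) := by
      rw [inv_inv, hg, Subgroup.mem_centralizer_iff]
      exact fun s hs => (hSC s hs).1
    obtain ⟨n, hn, hne⟩ := S.conj_eq_normalizer_conj_of_mem_centralizer (t * z) g⁻¹ hx hy
    rw [inv_inv, hg] at hne
    have hnS : n ∈ (S : Subgroup G) := by
      refine hzS n ?_
      have hzSmem : z ∈ (S : Subgroup G) := (hmemS z).2 ⟨z0, rfl, Or.inl rfl⟩
      obtain ⟨σ, hσ, hσe⟩ := (hmemS (j a0)).1 ((hmemS (j a0)).2 ⟨a0, haz, Or.inl rfl⟩)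
      have h1 : n * j a0 * n⁻¹ ∈ (S : Subgroup G) :=
        (Subgroup.mem_normalizer_iff.1 hn _).1 ((hmemS (j a0)).2 ⟨a0, haz, Or.inl rfl⟩)
      have h3 : n * z * n⁻¹ = (n * j a0 * n⁻¹) * (n * j a0 * n⁻¹) := by rw [hz, ← haa, map_mul]; group
      obtain ⟨τ, hτ, hτe⟩ := (hmemS _).1 h1
      have h4 : n * z * n⁻¹ = j (τ * τ) := by
        rw [h3, map_mul]
        rcases hτe with hτe | hτe
        · rw [hτe]
        · rw [hτe]
          calc t * j τ * (t * j τ) = t * (j τ * t) * j τ := by group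
            _ = t * (t * j τ) * j τ := by rw [htj τ]
            _ = _ := by rw [← mul_assoc t t, ht2, one_mul]
      rcases (by decide +kernel : ∀ τ : Equiv.Perm (Fin 4), τ * z0 = z0 * τ → τ * τ = 1 ∨ τ * τ = z0) τ hτ with h | h
      · rw [h, map_one] at h4
        exact absurd (hjinj (show j z0 = j 1 by rw [map_one]; exact conj_eq_one_iff.1 h4)) hz1
      · rw [h] at h4
        exact mul_inv_eq_iff_eq_mul.1 h4
    have h5 : n⁻¹ * (t * z) * n = t * z := by
      rw [mul_assoc, ← (show n * (t * z) = (t * z) * n by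
        rw [← mul_assoc, (hSC n hnS).1, mul_assoc, (hSC n hnS).2, mul_assoc]), inv_mul_cancel_left]
    rw [h5] at hne
    refine hz1 (hjinj ?_)
    rw [map_one]
    calc j z0 = t * (t * z) := by rw [← mul_assoc, ht2, one_mul]
      _ = t * t := by rw [← hne]
      _ = 1 := ht2
  -- classes inside the centralizer
  have hcls : ∀ g ∈ C, IsConj t g → g = t ∨ ∃ p, g = j (p * s0 * p⁻¹) ∨ g = t * j (p * s0 * p⁻¹) := by
    intro g hg hcj
    obtain ⟨σ, hσ⟩ := hdec g hg
    have hg2 : g * g = 1 := CfsgLib.Invol.mul_self_of_orderOf_two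
      ((CfsgLib.Invol.orderOf_eq_of_isConj hcj).symm.trans ht)
    have hσ2 : σ * σ = 1 := hjinj (by
      rw [map_mul, map_one, ← hg2]
      rcases hσ with rfl | rfl
      · rfl
      · calc j σ * j σ = (t * t) * j σ * j σ := by rw [ht2, one_mul]
          _ = t * (j σ * t) * j σ := by rw [htj σ]; group
          _ = _ := by group)
    rcases s4_inv σ hσ2 with h | ⟨p, hp⟩ | ⟨p, hp⟩
    · left
      rcases hσ with rfl | rfl
      · rw [h, map_one] at hcj
        exact absurd (isConj_one_left.1 hcj) (CfsgLib.Invol.ne_one_of_orderOf_two ht)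
      · rw [h, map_one, mul_one]
    · exfalso
      rcases hσ with rfl | rfl
      · exact hz_ne_t ((isConj_iff.2 ⟨j p, by rw [hz, ← map_inv, ← map_mul, ← map_mul, hp]⟩ : IsConj z (j σ)).trans hcj.symm)
      · refine hzt_ne_t ((isConj_iff.2 ⟨j p, ?_⟩ : IsConj (t * z) (t * j σ)).trans hcj.symm)
        rw [← mul_assoc, htj p, ← hp, map_mul, map_mul, map_inv, hz]; group
    · exact Or.inr ⟨p, by rw [hp]; exact hσ⟩
  have hconjs : ∀ p, IsConj (j s0) (j (p * s0 * p⁻¹)) ∧ IsConj (t * j s0) (t * j (p * s0 * p⁻¹)) := by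
    intro p
    refine ⟨isConj_iff.2 ⟨j p, by rw [map_mul, map_mul, map_inv]⟩, isConj_iff.2 ⟨j p, ?_⟩⟩
    rw [← mul_assoc, htj p, map_mul, map_mul, map_inv]; group
  -- not both kinds
  have hexcl : IsConj t (j s0) → ¬ IsConj t (t * j s0) := by
    intro h hq
    obtain ⟨g, hg⟩ := isConj_iff.1 h
    have hcomm : z * j s0 = j s0 * z := by rw [hz, ← map_mul, ← map_mul, hsz]
    have hzC : g⁻¹ * z * g ∈ C := by
      refine Subgroup.mem_centralizer_singleton_iff.2 ?_
      have hte : t = g⁻¹ * j s0 * g := by rw [← hg]; group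
      rw [hte]
      calc g⁻¹ * z * g * (g⁻¹ * j s0 * g) = g⁻¹ * (z * j s0) * g := by group
        _ = _ := by rw [hcomm]; group
    obtain ⟨σ, hσ⟩ := hdec _ hzC
    have hcz : IsConj z (g⁻¹ * z * g) := isConj_iff.2 ⟨g⁻¹, by group⟩
    have hzz' : (g⁻¹ * z * g) * (g⁻¹ * z * g) = 1 := by
      calc _ = g⁻¹ * (z * z) * g := by group
        _ = 1 := by rw [hz, ← map_mul, hzz, map_one]; group
    have hσ2 : σ * σ = 1 := hjinj (by
      rw [map_mul, map_one, ← hzz']
      rcases hσ with h | h <;> rw [h]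
      calc j σ * j σ = (t * t) * j σ * j σ := by rw [ht2, one_mul]
        _ = t * (j σ * t) * j σ := by rw [htj σ]; group
        _ = _ := by group)
    rcases s4_inv σ hσ2 with hσ1 | ⟨p, hp⟩ | ⟨p, hp⟩
    · rcases hσ with hσ | hσ
      · rw [hσ1, map_one] at hσ
        exact hz1 (hjinj (by
          rw [map_one]
          calc j z0 = g * (g⁻¹ * z * g) * g⁻¹ := by rw [hz]; group
            _ = 1 := by rw [hσ]; group))
      · rw [hσ1, map_one, mul_one] at hσ
        exact hz_ne_t (hσ ▸ hcz)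
    · rcases hσ with hσ | hσ
      · have hgp : g * j p ∈ (S : Subgroup G) := by
          refine hzS _ ?_
          have h1 : j p * z * (j p)⁻¹ = g⁻¹ * z * g := by rw [hσ, hz, ← map_inv, ← map_mul, ← map_mul, hp]
          calc g * j p * z = g * (j p * z * (j p)⁻¹) * j p := by group
            _ = _ := by rw [h1]; group
        have h1 := (hSC _ hgp).1
        have h3 : g * t = t * g := by
          calc g * t = g * j p * ((j p)⁻¹ * t) := by group
            _ = g * j p * (t * (j p)⁻¹) := by rw [← map_inv, htj]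
            _ = g * j p * t * (j p)⁻¹ := by group
            _ = t * g := by rw [h1]; group
        have h4 : j s0 = t := hg.symm.trans (mul_inv_eq_iff_eq_mul.2 h3)
        have h5 : f (1, s0) = f (ε, 1) := h4.trans hεt.symm
        exact hs1 (congrArg Prod.snd (hfinj h5))
      · -- conjugate to `tz`
        have h1 : IsConj (t * z) (t * j σ) := isConj_iff.2 ⟨j p, by
          rw [← mul_assoc, htj p, ← hp, map_mul, map_mul, map_inv, hz]; group⟩
        have h3 : IsConj (t * z) z := h1.trans (hσ ▸ hcz).symm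
        obtain ⟨u, hu⟩ := isConj_iff.1 h3
        have hx : t * z ∈ Subgroup.centralizer ((S : Subgroup G) : Set G) := by
          rw [Subgroup.mem_centralizer_iff]
          intro s hs
          rw [← mul_assoc, (hSC s hs).1, mul_assoc, (hSC s hs).2, mul_assoc]
        have hy : u⁻¹⁻¹ * (t * z) * u⁻¹ ∈ Subgroup.centralizer ((S : Subgroup G) : Set G) := by
          rw [inv_inv, hu, Subgroup.mem_centralizer_iff]
          exact fun s hs => (hSC s hs).2
        obtain ⟨n, hn, hne⟩ := S.conj_eq_normalizer_conj_of_mem_centralizer (t * z) u⁻¹ hx hy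
        rw [inv_inv, hu] at hne
        have h1' : n * j a0 * n⁻¹ ∈ (S : Subgroup G) :=
          (Subgroup.mem_normalizer_iff.1 hn _).1 ((hmemS (j a0)).2 ⟨a0, haz, Or.inl rfl⟩)
        obtain ⟨τ, hτ, hτe⟩ := (hmemS _).1 h1'
        have h4 : n * z * n⁻¹ = j (τ * τ) := by
          have h3' : n * z * n⁻¹ = (n * j a0 * n⁻¹) * (n * j a0 * n⁻¹) := by rw [hz, ← haa, map_mul]; group
          rw [h3', map_mul]
          rcases hτe with hτe | hτe
          · rw [hτe]
          · rw [hτe]
            calc t * j τ * (t * j τ) = t * (j τ * t) * j τ := by group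
              _ = t * (t * j τ) * j τ := by rw [htj τ]
              _ = _ := by rw [← mul_assoc t t, ht2, one_mul]
        rw [show n * z * n⁻¹ = t * z by
          calc n * z * n⁻¹ = n * (n⁻¹ * (t * z) * n) * n⁻¹ := by rw [← hne]
            _ = t * z := by group] at h4
        have h5 : f (ε, z0) = f (1, τ * τ) := by
          rw [← show t * z = f (ε, z0) by
            rw [← hεt, hz, show j z0 = f (1, z0) from rfl, ← map_mul]; simp]
          exact h4
        exact hε (congrArg Prod.fst (hfinj h5))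
    · have hc := hconjs p
      rw [hp] at hc
      rcases hσ with hσ | hσ
      · exact hz_ne_t ((hcz.trans ((hσ ▸ hc.1 : IsConj (j s0) (g⁻¹ * z * g))).symm).trans h.symm)
      · exact hz_ne_t ((hcz.trans ((hσ ▸ hc.2 : IsConj (t * j s0) (g⁻¹ * z * g))).symm).trans hq.symm)
  -- transfer
  obtain ⟨ψ, hψ⟩ : ∃ ψ : Equiv.Perm (Fin 4) →* Multiplicative (ZMod 2),
      ∀ σ, (IsConj t (j s0) → ψ (σ * s0 * σ⁻¹) = ε) ∧ (¬ IsConj t (j s0) → ψ σ = 1) := by
    by_cases hP : IsConj t (j s0)
    · obtain ⟨ψ, hψ⟩ : ∃ ψ : Equiv.Perm (Fin 4) →* Multiplicative (ZMod 2), ∀ σ, ψ (σ * s0 * σ⁻¹) = ε := by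
        let u : ℤˣ →* Multiplicative (ZMod 2) :=
          { toFun := fun x => if x = 1 then 1 else ε
            map_one' := if_pos rfl
            map_mul' := (two_elems ε hε).2 }
        refine ⟨u.comp Equiv.Perm.sign, fun σ => ?_⟩
        show (if Equiv.Perm.sign (σ * s0 * σ⁻¹) = 1 then (1 : Multiplicative (ZMod 2)) else ε) = ε
        rw [if_neg]
        rw [map_mul, map_mul, map_inv, mul_comm (Equiv.Perm.sign σ), mul_inv_cancel_right, sign_s0]
        decide
      exact ⟨ψ, fun σ => ⟨fun _ => hψ σ, fun h => absurd hP h⟩⟩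
    · exact ⟨1, fun σ => ⟨fun h => absurd h hP, fun _ => rfl⟩⟩
  let Q0 : Subgroup (Multiplicative (ZMod 2) × Equiv.Perm (Fin 4)) :=
    ((MonoidHom.fst _ _) * ψ.comp (MonoidHom.snd _ _)).ker
  set Q := Q0.map f ⊓ (S : Subgroup G) with hQ
  have hmemQ : ∀ u σ, f (u, σ) ∈ Q0.map f ↔ u * ψ σ = 1 := fun u σ =>
    ⟨fun ⟨p, hp, he⟩ => by have hpe := hfinj he; subst hpe; exact hp, fun h => ⟨(u, σ), h, rfl⟩⟩
  have htS : t ∈ (S : Subgroup G) := (hmemS t).2 ⟨1, by rw [one_mul, mul_one], Or.inr (by rw [map_one, mul_one])⟩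
  have htQ : t ∉ Q := by
    intro h
    have := (hmemQ ε 1).1 (hεt.symm ▸ (Subgroup.mem_inf.1 h).1)
    rw [map_one, mul_one] at this
    exact hε this
  have hQi : Q.relIndex (S : Subgroup G) = 2 := by
    rw [hQ, Subgroup.inf_relIndex_right]
    have hSr : (S : Subgroup G) ≤ f.range := by rw [hSeq, hS0]; exact Subgroup.map_le_range _ _
    have hne' : (Q0.map f).relIndex f.range ≠ 0 := (Nat.pos_of_ne_zero (fun h => by
      rw [Subgroup.relIndex] at h; exact Subgroup.index_ne_zero_of_finite h)).ne'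
    have hle : (Q0.map f).relIndex (S : Subgroup G) ≤ (Q0.map f).relIndex (f.range) :=
      Subgroup.relIndex_le_of_le_right hSr hne'
    have h2' : (Q0.map f).relIndex (f.range) ≤ 2 := by
      rw [f.range_eq_map, ← Subgroup.relIndex_comap, Subgroup.comap_map_eq_self_of_injective hfinj,
        Subgroup.relIndex_top_right, Subgroup.index_ker]
      exact (Subgroup.card_le_card_group _).trans (by rw [Nat.card_eq_fintype_card, Fintype.card_multiplicative, ZMod.card])
    have h1 : (Q0.map f).relIndex (S : Subgroup G) ≠ 1 := fun h =>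
      htQ (Subgroup.mem_inf.2 ⟨Subgroup.relIndex_eq_one.1 h htS, htS⟩)
    have h0 : (Q0.map f).relIndex (S : Subgroup G) ≠ 0 := by
      rw [Subgroup.relIndex]; exact Subgroup.index_ne_zero_of_finite
    omega
  obtain ⟨G0, hG0n, hG0i, htG0⟩ : ∃ M : Subgroup G, M.Normal ∧ M.index = 2 ∧ t ∉ M := by
    rcases Cfsg.Agent.S0111.result S Q inf_le_right hQi t ht htS htQ with h | ⟨g, hg⟩
    · exact h
    · exfalso
      have hcj : IsConj t (g * t * g⁻¹) := isConj_iff.2 ⟨g, rfl⟩
      have hg1 := (Subgroup.mem_inf.1 hg).1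
      have hgC : g * t * g⁻¹ ∈ C := by
        obtain ⟨p, -, hp⟩ := hg1
        exact hp ▸ hfC p
      rcases hcls _ hgC hcj with h | ⟨p, h | h⟩
      · rw [h] at hg; exact htQ hg
      · rw [h] at hg1 hcj
        have := (hmemQ 1 _).1 hg1
        rw [one_mul, (hψ p).1 (hcj.trans (hconjs p).1.symm)] at this
        exact hε this
      · rw [h] at hg1 hcj
        have e1 : t * j (p * s0 * p⁻¹) = f (ε, p * s0 * p⁻¹) := by
          rw [← hεt, show j (p * s0 * p⁻¹) = f (1, p * s0 * p⁻¹) from rfl, ← map_mul]; simp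
        rw [e1] at hg1
        have := (hmemQ ε _).1 hg1
        rw [(hψ (p * s0 * p⁻¹)).2 (fun hP => hexcl hP (hcj.trans (hconjs p).2.symm)), mul_one] at this
        exact hε this
  haveI := hG0n
  -- `S₄` inside `G0`
  have hkmem : ∀ σ, (j σ ∈ G0 ∧ t * j σ ∉ G0) ∨ (j σ ∉ G0 ∧ t * j σ ∈ G0) := by
    intro σ
    by_cases h : j σ ∈ G0
    · exact Or.inl ⟨h, fun h' => htG0 (by simpa using mul_mem h' (inv_mem h))⟩
    · exact Or.inr ⟨h, (Subgroup.mul_mem_iff_of_index_two hG0i).2 (iff_of_false htG0 h)⟩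
  let kf : Equiv.Perm (Fin 4) → G := fun σ => if j σ ∈ G0 then j σ else t * j σ
  have hkfmem : ∀ σ, kf σ ∈ G0 := by
    intro σ
    rcases hkmem σ with h | h
    · simp [kf, h.1]
    · simp [kf, h.1, h.2]
  have hkfmul : ∀ a b, kf (a * b) = kf a * kf b := by
    intro a b
    have hab : j (a * b) ∈ G0 ↔ (j a ∈ G0 ↔ j b ∈ G0) := by
      rw [map_mul]; exact Subgroup.mul_mem_iff_of_index_two hG0i
    simp only [kf]
    by_cases ha : j a ∈ G0 <;> by_cases hb : j b ∈ G0
    · rw [if_pos (hab.2 (iff_of_true ha hb)), if_pos ha, if_pos hb, map_mul]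
    · rw [if_neg (fun h => hb ((hab.1 h).1 ha)), if_pos ha, if_neg hb, map_mul, ← mul_assoc, ← mul_assoc, htj a]
    · rw [if_neg (fun h => ha ((hab.1 h).2 hb)), if_neg ha, if_pos hb, map_mul, mul_assoc]
    · rw [if_pos (hab.2 (iff_of_false ha hb)), if_neg ha, if_neg hb, map_mul]
      calc j a * j b = (t * t) * j a * j b := by rw [ht2, one_mul]
        _ = t * (j a * t) * j b := by rw [htj a]; group
        _ = _ := by group
  let k : Equiv.Perm (Fin 4) →* ↥G0 := MonoidHom.mk' (fun σ => ⟨kf σ, hkfmem σ⟩) (fun a b => Subtype.ext (hkfmul a b))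
  have hkv : ∀ σ, (k σ : G) = j σ ∨ (k σ : G) = t * j σ := by
    intro σ
    by_cases h : j σ ∈ G0
    · left; exact if_pos h
    · right; exact if_neg h
  have hktc : ∀ σ, t * (k σ : G) = k σ * t := by
    intro σ
    rcases hkv σ with h | h <;> rw [h]
    · exact (htj σ).symm
    · rw [mul_assoc t (j σ) t, htj σ]
  have hkC : ∀ σ, (k σ : G) ∈ C := fun σ => Subgroup.mem_centralizer_singleton_iff.2 (hktc σ).symm
  have hksq : ∀ σ, (k (σ * σ) : G) = j (σ * σ) := by
    intro σ
    rw [map_mul k, Subgroup.coe_mul, map_mul j]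
    rcases hkv σ with h | h <;> rw [h]
    calc t * j σ * (t * j σ) = t * (j σ * t) * j σ := by group
      _ = (t * t) * j σ * j σ := by rw [htj σ]; group
      _ = _ := by rw [ht2, one_mul]
  have hk_of_mem : ∀ g ∈ C, g ∈ G0 → ∃ σ, g = k σ := by
    intro g hg hgG
    obtain ⟨σ, hσ⟩ := hdec g hg
    refine ⟨σ, ?_⟩
    by_cases h : j σ ∈ G0
    · rcases hσ with hσ | hσ
      · rw [hσ]; exact (if_pos h).symm
      · exfalso; rw [hσ] at hgG; exact htG0 (by simpa using mul_mem hgG (inv_mem h))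
    · rcases hσ with hσ | hσ
      · exact absurd (hσ ▸ hgG) h
      · rw [hσ]; exact (if_neg h).symm
  have hkinj : Function.Injective k := by
    rw [injective_iff_map_eq_one]
    intro σ hσ
    rcases hkv σ with h | h <;> rw [hσ, Subgroup.coe_one] at h
    · exact hjinj (h.symm.trans (map_one j).symm)
    · have h5 : f (ε, 1) = f (1, σ) := by
        rw [hεt]
        calc t = t * (t * j σ) := by rw [← h, mul_one]
          _ = j σ := by rw [← mul_assoc, ht2, one_mul]
      exact absurd (congrArg Prod.fst (hfinj h5)) hε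
  have hkz : (k z0 : G) = z := by rw [← haa, hksq, haa]
  have hCz0 : Nat.card ↥(Subgroup.centralizer ({k z0} : Set ↥G0)) = 8 := by
    have e1 : Subgroup.centralizer ({k z0} : Set ↥G0) = (Subgroup.centralizer ({z0} : Set (Equiv.Perm (Fin 4)))).map k := by
      ext g
      rw [Subgroup.mem_centralizer_singleton_iff, Subgroup.mem_map]
      constructor
      · intro hg
        have h1 : (g : G) * z = z * g := by rw [← hkz]; exact congrArg Subtype.val hg
        obtain ⟨σ, hσ⟩ := hk_of_mem g (Subgroup.mem_centralizer_singleton_iff.2 (hSC _ (hzS _ h1)).1) g.2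
        have hgs : g = k σ := Subtype.ext hσ
        refine ⟨σ, Subgroup.mem_centralizer_singleton_iff.2 (hkinj ?_), hgs.symm⟩
        rw [map_mul, map_mul, ← hgs]; exact hg
      · rintro ⟨σ, hσ, rfl⟩
        rw [← map_mul, ← map_mul, Subgroup.mem_centralizer_singleton_iff.1 hσ]
    rw [e1, Subgroup.card_map_of_injective hkinj, hD8]
  have hG0card : Nat.card G = Nat.card ↥G0 * 2 := by rw [← G0.card_mul_index, hG0i]
  have hkz1 : k z0 ≠ 1 := fun h => hz1 (hkinj (h.trans (map_one k).symm))
  have hkzo : orderOf (k z0) = 2 := orderOf_eq_prime (by rw [sq, ← map_mul, hzz, map_one]) hkz1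
  by_cases hno : ∀ H : Subgroup ↥G0, H.index ≠ 2
  · -- no subgroup of index two
    obtain ⟨hsimp, hord⟩ := CfsgLib.InvolChar.dihedral_eight hno hCz0 hkzo (a := k a0) (b := k s0)
      (Subgroup.mem_centralizer_singleton_iff.2 (by rw [← map_mul, ← map_mul, haz]))
      (orderOf_eq_prime_pow (p := 2) (n := 1)
        (by simp only [pow_one]; rw [sq, ← map_mul, haa]; exact hkz1)
        (by
          show (k a0) ^ 4 = 1
          rw [show (k a0) ^ 4 = (k a0 * k a0) * (k a0 * k a0) by simp only [pow_succ, pow_zero, one_mul, mul_assoc], ← map_mul, haa, ← map_mul, hzz, map_one]))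
      (Subgroup.mem_centralizer_singleton_iff.2 (by rw [← map_mul, ← map_mul, hsz]))
      (orderOf_eq_prime (by rw [sq, ← map_mul, hss, map_one]) (fun h => hs1 (hkinj (h.trans (map_one k).symm))))
      (by rw [← map_inv, ← map_inv, ← map_mul, ← map_mul, hsa])
    haveI := hsimp
    have hna : ¬ IsMulCommutative ↥G0 := by
      intro h
      have h1 : k (s0 * a0) = k (a0 * s0) := by rw [map_mul, map_mul]; exact h.is_comm.comm _ _
      have h3 := hkinj h1
      have h4 : a0⁻¹ = a0 := by
        calc a0⁻¹ = s0 * a0 * s0⁻¹ := hsa.symm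
          _ = a0 := by rw [h3]; group
      apply hz1
      rw [← haa]
      nth_rewrite 1 [← h4]
      exact inv_mul_cancel a0
    rcases hord with h168 | h360
    · exfalso
      have hidx : C.index = 7 := by
        have h1 := C.card_mul_index
        rw [hC48, hG0card, h168] at h1
        omega
      have hex : ∃ x ∈ G0, ∃ y ∈ G0, x * y ≠ y * x := by
        by_contra hcon
        push Not at hcon
        exact hna ⟨⟨fun x y => Subtype.ext (hcon x x.2 y y.2)⟩⟩
      refine false_of_commuting_class t G0 hex (by rw [← hC, hidx, hG0i]; norm_num) ?_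
      haveI := Fintype.ofFinite (G ⧸ C)
      have h7 : Fintype.card (G ⧸ C) = 7 := by rw [← Nat.card_eq_fintype_card, ← Subgroup.index_eq_card, hidx]
      obtain ⟨y, hy, hzy⟩ := exists_second_fixed h7 (MulAction.toPerm z : Equiv.Perm (G ⧸ C))
        (by ext q; rw [sq]; show z • z • q = q; rw [← mul_smul, hz, ← map_mul, hzz, map_one, one_smul])
        (by
          have h1 := CfsgLib.SmallGroups.sign_eq_one_of_simple (G := ↥G0) hna
            ((MulAction.toPermHom G (G ⧸ C)).comp G0.subtype) (k z0)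
          rw [← hkz]; exact h1)
        ((1 : G) : G ⧸ C)
      obtain ⟨g, rfl⟩ := QuotientGroup.mk_surjective y
      set t' := g * t * g⁻¹ with ht'
      have hz' : z * t' = t' * z := (smul_coset_fix t z g).1 hzy
      have ht'C : t' ∈ C := Subgroup.mem_centralizer_singleton_iff.2 (hSC _ (hzS _ hz'.symm)).1
      have hne : t' ≠ t := fun h => hy (by
        rw [eq_comm, QuotientGroup.eq, inv_one, one_mul, Subgroup.mem_centralizer_singleton_iff]
        exact mul_inv_eq_iff_eq_mul.1 h)
      have hnG0 : ∀ g', g' * t * g'⁻¹ ∉ G0 := fun g' h => htG0 (by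
        have := hG0n.conj_mem _ h g'⁻¹
        simpa [mul_assoc] using this)
      obtain ⟨p, hp⟩ : ∃ p, t' = t * (k (p * s0 * p⁻¹) : G) := by
        rcases hcls _ ht'C (isConj_iff.2 ⟨g, rfl⟩) with h | ⟨p, hp⟩
        · exact absurd h hne
        refine ⟨p, ?_⟩
        rcases hkv (p * s0 * p⁻¹) with h | h
        · rw [h]
          rcases hp with hp | hp
          · exfalso; exact hnG0 g (ht' ▸ hp ▸ h ▸ (k (p * s0 * p⁻¹)).2)
          · exact hp
        · rw [h, ← mul_assoc, ht2, one_mul]
          rcases hp with hp | hp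
          · exact hp
          · exfalso; exact hnG0 g (ht' ▸ hp ▸ h ▸ (k (p * s0 * p⁻¹)).2)
      have hall6 : ∀ q, IsConj t (t * (k (q * s0 * q⁻¹) : G)) := by
        intro q
        refine (hp ▸ (isConj_iff.2 ⟨g, rfl⟩ : IsConj t t') : IsConj t _).trans (isConj_iff.2 ⟨k (q * p⁻¹), ?_⟩)
        have e1 : q * s0 * q⁻¹ = (q * p⁻¹) * (p * s0 * p⁻¹) * (q * p⁻¹)⁻¹ := by group
        rw [← mul_assoc, ← hktc, e1, map_mul k (q * p⁻¹ * (p * s0 * p⁻¹)), map_mul k (q * p⁻¹), map_inv,
          Subgroup.coe_mul, Subgroup.coe_mul, Subgroup.coe_inv]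
        group
      -- the conjugates
      let B := Option {σ : Equiv.Perm (Fin 4) // ∃ q, q * s0 * q⁻¹ = σ}
      let val : B → G := fun b => b.elim t fun σ => t * (k σ.1 : G)
      have hvc : ∀ b, IsConj t (val b) := by
        rintro (_ | ⟨_, q, rfl⟩)
        · exact IsConj.refl t
        · exact hall6 q
      choose w hw using fun b => isConj_iff.1 (hvc b)
      let W : B → G ⧸ C := fun b => ((w b : G) : G ⧸ C)
      have hWeq : ∀ a b : G, (a : G ⧸ C) = b → a * t * a⁻¹ = b * t * b⁻¹ := by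
        intro a b h
        have h1 := Subgroup.mem_centralizer_singleton_iff.1 (QuotientGroup.eq.1 h)
        calc a * t * a⁻¹ = a * (t * (a⁻¹ * b)) * b⁻¹ := by group
          _ = _ := by rw [← h1]; group
      have hWinj : Function.Injective W := by
        intro a b h
        have hv : val a = val b := by rw [← hw a, ← hw b]; exact hWeq _ _ h
        have hno1 : ∀ σ : {σ : Equiv.Perm (Fin 4) // ∃ q, q * s0 * q⁻¹ = σ}, t * (k σ.1 : G) ≠ t := by
          intro σ h'
          obtain ⟨q, hq⟩ := σ.2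
          have : σ.1 = 1 := hkinj ((Subtype.ext (mul_left_cancel (h'.trans (mul_one t).symm))).trans (map_one k).symm)
          rw [this] at hq
          exact hs1 (conj_eq_one_iff.1 hq)
        cases a <;> cases b
        · rfl
        · exact absurd hv.symm (hno1 _)
        · exact absurd hv (hno1 _)
        · exact congrArg some (Subtype.ext (hkinj (Subtype.ext (mul_left_cancel hv))))
      have hWs : Function.Surjective W := ((Nat.bijective_iff_injective_and_card W).2 ⟨hWinj, by
        rw [Nat.card_eq_fintype_card, Nat.card_eq_fintype_card, h7, Fintype.card_option, hs6]⟩).2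
      intro g'
      obtain ⟨b, hb⟩ := hWs (g' : G ⧸ C)
      rw [← hWeq _ _ hb, hw b]
      cases b
      · exact Commute.refl t
      · exact (Commute.refl t).mul_right (hktc _)
    · right
      obtain ⟨F⟩ := Cfsg.Agent.S0497.result h360
      refine iso_perm_six G0 hG0i F t htG0 (k c0)
        (orderOf_eq_prime (by rw [pow_succ, sq, ← map_mul, ← map_mul, hc3, map_one])
          (fun h => hc1 (hkinj (h.trans (map_one k).symm)))) (hktc c0) ?_
      intro g hg
      have hgz : g * z = z * g := by rw [← hkz]; exact hg _ (k z0).2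
      obtain ⟨σ, hσ⟩ := hdec g (Subgroup.mem_centralizer_singleton_iff.2 (hSC _ (hzS _ hgz)).1)
      have hσ1 : σ = 1 := by
        refine s4_center σ fun τ => hjinj ?_
        have hcg : g * j τ = j τ * g := by
          rcases hkv τ with h | h
          · rw [← h]; exact hg _ (k τ).2
          · have h1 := hg _ (k τ).2
            rw [h] at h1
            have hgt : g * t = t * g := (hSC _ (hzS _ hgz)).1
            refine mul_left_cancel (a := t) ?_
            calc t * (g * j τ) = g * (t * j τ) := by rw [← mul_assoc, ← hgt]; group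
              _ = t * (j τ * g) := by rw [h1]; group
        rw [map_mul, map_mul]
        rcases hσ with rfl | rfl
        · exact hcg
        · refine mul_left_cancel (a := t) ?_
          calc t * (j σ * j τ) = t * j σ * j τ := by group
            _ = j τ * (t * j σ) := hcg
            _ = _ := by rw [← mul_assoc, htj τ]; group
      rcases hσ with rfl | rfl
      · rw [hσ1, map_one]
      · exfalso
        have hle : G0 ≤ C := by
          intro x hx
          have h1 := hg x hx
          rw [hσ1, map_one, mul_one] at h1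
          exact Subgroup.mem_centralizer_singleton_iff.2 h1.symm
        have := Subgroup.card_le_of_le hle
        rw [hC48, h360] at this
        omega
  · -- a subgroup of index two
    push Not at hno
    obtain ⟨H, hH⟩ := hno
    haveI hHn : H.Normal := Subgroup.normal_of_index_eq_two hH
    have hkH : ∀ σ, Equiv.Perm.sign σ = 1 → k σ ∈ H := by
      intro σ hσ
      obtain ⟨ρ, rfl⟩ := s4_even_square σ hσ
      rw [map_mul]; exact Subgroup.mul_self_mem_of_index_two hH _
    set x : ↥H := ⟨k z0, hkH z0 hzs⟩ with hx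
    have hxo : orderOf x = 2 := by rw [← Subgroup.orderOf_coe]; exact hkzo
    have hGH : Nat.card G = Nat.card ↥H * 4 := by
      rw [hG0card, ← H.card_mul_index, hH]; ring
    have h8 : ¬ 8 ∣ Nat.card ↥H := by
      intro h8
      have h32 : 2 ∣ (S : Subgroup G).index := by
        have h1 := (S : Subgroup G).card_mul_index
        rw [hScard, hGH] at h1
        obtain ⟨d, hd⟩ := h8
        rw [hd] at h1
        exact ⟨d, by omega⟩
      exact S.not_dvd_index h32
    set V := Subgroup.centralizer ({x} : Set ↥H) with hV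
    let ι : {σ : Equiv.Perm (Fin 4) // σ * z0 = z0 * σ ∧ σ * σ = 1 ∧ Equiv.Perm.sign σ = 1} → ↥V := fun σ =>
      ⟨⟨k σ.1, hkH _ σ.2.2.2⟩, Subgroup.mem_centralizer_singleton_iff.2 (Subtype.ext (by
        show k σ.1 * k z0 = k z0 * k σ.1
        rw [← map_mul, ← map_mul, σ.2.1]))⟩
    have hιinj : Function.Injective ι := fun a b h =>
      Subtype.ext (hkinj (congrArg (fun v : ↥V => ((v : ↥H) : ↥G0)) h))
    have hV4 : Nat.card ↥V = 4 := by
      have h1 : Nat.card ↥V ∣ 8 := by
        rw [← hCz0]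
        refine Subgroup.card_dvd_of_injective
          ((H.subtype.comp V.subtype).codRestrict _ fun v => ?_) ?_
        · exact Subgroup.mem_centralizer_singleton_iff.2
            (congrArg Subtype.val (Subgroup.mem_centralizer_singleton_iff.1 v.2))
        · exact fun a b h => Subtype.ext (Subtype.ext
            (congrArg (fun w : ↥(Subgroup.centralizer ({k z0} : Set ↥G0)) => (w : ↥G0)) h))
      have h3 := Nat.card_le_card_of_injective ι hιinj
      rw [Nat.card_eq_fintype_card, s4_klein_count] at h3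
      have h4 : Nat.card ↥V ≠ 8 := fun h => h8 (h ▸ Subgroup.card_subgroup_dvd_card V)
      have h5 := Nat.le_of_dvd (by norm_num) h1
      interval_cases hn : Nat.card ↥V <;> first | rfl | omega | (exfalso; omega)
    have hιsurj : Function.Surjective ι := ((Nat.bijective_iff_injective_and_card ι).2 ⟨hιinj, by
      rw [hV4, Nat.card_eq_fintype_card, s4_klein_count]⟩).2
    have hVmem : ∀ v ∈ V, ∃ σ, (σ * z0 = z0 * σ ∧ σ * σ = 1 ∧ Equiv.Perm.sign σ = 1) ∧ (v : ↥G0) = k σ := by
      intro v hv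
      obtain ⟨σ, hσ⟩ := hιsurj ⟨v, hv⟩
      exact ⟨σ.1, σ.2, (congrArg (fun w : ↥V => ((w : ↥H) : ↥G0)) hσ).symm⟩
    set c : ↥H := ⟨k c0, hkH c0 hcs⟩ with hc
    have hnc : ¬ Cfsg.HasNormalPComplement 2 ↥H := by
      rintro ⟨P, N, hN, hNP⟩
      haveI := hN
      have hcN : c ∈ N := by
        have hidx : N.index = Nat.card ↥(P : Subgroup ↥H) := hNP.symm.index_eq_card
        obtain ⟨n, hn⟩ := IsPGroup.iff_card.1 P.2
        have h1 : (c : ↥H ⧸ N) ^ 2 ^ n = 1 := by
          rw [← hn, ← hidx, Subgroup.index_eq_card]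
          exact pow_card_eq_one'
        have h3 : (c : ↥H ⧸ N) ^ 3 = 1 := by
          rw [← QuotientGroup.mk_pow]
          have : c ^ 3 = 1 := Subtype.ext (by
            show (k c0) ^ 3 = 1
            rw [← map_pow, pow_succ, sq, hc3, map_one])
          rw [this]; rfl
        refine (QuotientGroup.eq_one_iff c).1 ?_
        rw [← orderOf_eq_one_iff]
        exact Nat.eq_one_of_dvd_coprimes (Nat.Coprime.pow_right n (by norm_num))
          (orderOf_dvd_of_pow_eq_one h3) (orderOf_dvd_of_pow_eq_one h1)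
      set d := c * x * c⁻¹ * x⁻¹ with hd
      have hdN : d ∈ N := by
        rw [hd, show c * x * c⁻¹ * x⁻¹ = c * (x * c⁻¹ * x⁻¹) by group]
        exact mul_mem hcN (hN.conj_mem _ (inv_mem hcN) x)
      have hdo : orderOf d = 2 := by
        rw [← Subgroup.orderOf_coe]
        show orderOf (k c0 * k z0 * (k c0)⁻¹ * (k z0)⁻¹) = 2
        rw [← map_inv, ← map_inv, ← map_mul, ← map_mul, ← map_mul]
        refine orderOf_eq_prime ?_ ?_
        · rw [← map_pow, show (c0 * z0 * c0⁻¹ * z0⁻¹) ^ 2 = 1 by decide +kernel, map_one]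
        · exact fun h => absurd (hkinj (h.trans (map_one k).symm)) (by decide +kernel)
      have h1 : 2 ∣ Nat.card ↥N := hdo ▸ N.orderOf_dvd_natCard hdN
      have h3 : Nat.card ↥N = (P : Subgroup ↥H).index := hNP.index_eq_card.symm
      exact P.not_dvd_index (h3 ▸ h1)
    by_cases hne : ∀ E : Subgroup ↥H, E.Normal → Cfsg.IsElementaryAbelian 2 E → Nat.card ↥E ≠ 2 ∧ Nat.card ↥E ≠ 4
    · -- `A₅` is impossible
      exfalso
      obtain ⟨iso⟩ := Cfsg.Agent.S3277.result x hxo hV4 (fun v hv => by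
        obtain ⟨σ, hσ, he⟩ := hVmem v hv
        exact Subtype.ext (by rw [SubgroupClass.coe_pow, he, sq, ← map_mul, hσ.2.1, map_one]; rfl)) hnc hne
      have h60 : Nat.card ↥H = 60 := by
        rw [Nat.card_congr iso.toEquiv, nat_card_alternatingGroup, Nat.card_eq_fintype_card, Fintype.card_fin]
        rfl
      have hidx : C.index = 5 := by
        have h1 := C.card_mul_index
        rw [hC48, hGH, h60] at h1
        omega
      set N := H.map G0.subtype with hN
      let isoN : ↥N ≃* ↥(alternatingGroup (Fin 5)) :=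
        (H.equivMapOfInjective G0.subtype G0.subtype_injective).symm.trans iso
      haveI : IsSimpleGroup ↥(alternatingGroup (Fin 5)) := alternatingGroup.isSimpleGroup (by simp)
      haveI : IsSimpleGroup ↥N := isoN.isSimpleGroup
      have hN60 : Nat.card ↥N = 60 := by rw [hN, Subgroup.card_map_of_injective G0.subtype_injective, h60]
      have hcG : (k c0 : G) ∈ N := ⟨k c0, hkH c0 hcs, rfl⟩
      have hzN : (k z0 : G) ∈ N := ⟨k z0, hkH z0 hzs, rfl⟩
      have hex : ∃ u ∈ N, ∃ v ∈ N, u * v ≠ v * u := ⟨_, hcG, _, hzN, fun h =>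
        absurd (hkinj (show k (c0 * z0) = k (z0 * c0) by rw [map_mul, map_mul]; exact Subtype.ext h))
          (by decide +kernel)⟩
      refine false_of_commuting_class t N hex ?_ ?_
      · have h1 := N.card_mul_index
        rw [hN60, hGH, h60] at h1
        rw [← hC, hidx]
        omega
      set Φ := MulAction.toPermHom G (G ⧸ C) with hΦ
      have hcnt : Φ (k c0 : G) ≠ 1 := by
        intro h
        rcases Subgroup.Normal.eq_bot_or_eq_top (H := (Φ.comp N.subtype).ker) inferInstance with hb | hb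
        · have : (⟨_, hcG⟩ : ↥N) ∈ (Φ.comp N.subtype).ker := MonoidHom.mem_ker.2 h
          rw [hb, Subgroup.mem_bot] at this
          exact hc1 (hkinj ((Subtype.ext (congrArg Subtype.val this : (k c0 : G) = 1) : k c0 = 1).trans (map_one k).symm))
        · have hle : N ≤ C := by
            intro u hu
            have h0 : (⟨u, hu⟩ : ↥N) ∈ (Φ.comp N.subtype).ker := by rw [hb]; trivial
            have h1 : Φ u = 1 := MonoidHom.mem_ker.1 h0
            have h3 := (smul_coset_fix t u 1).1 (Equiv.congr_fun h1 ((1 : G) : G ⧸ C))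
            simp only [one_mul, inv_one, mul_one] at h3
            exact Subgroup.mem_centralizer_singleton_iff.2 h3
          have := Subgroup.card_le_of_le hle
          rw [hC48, hN60] at this
          omega
      haveI := Fintype.ofFinite (G ⧸ C)
      obtain ⟨eq5⟩ : Nonempty ((G ⧸ C) ≃ Fin 5) := ⟨Fintype.equivFinOfCardEq (by
        rw [← Nat.card_eq_fintype_card, ← Subgroup.index_eq_card, hidx])⟩
      let π : G →* Equiv.Perm (Fin 5) := eq5.permCongrHom.toMonoidHom.comp Φ
      have hπt : π t = 1 := by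
        refine five_points (π (k c0 : G)) (π t) ?_ ?_ ?_ ?_ (eq5 ((1 : G) : G ⧸ C)) ?_ ?_
        · rw [← map_mul, ← map_mul, ← Subgroup.coe_mul, ← Subgroup.coe_mul, ← map_mul, ← map_mul, ← mul_assoc,
            hc3, map_one, Subgroup.coe_one, map_one]
        · exact fun h => hcnt (eq5.permCongrHom.injective (h.trans (map_one _).symm))
        · rw [← map_mul, ht2, map_one]
        · rw [← map_mul, ← map_mul, hktc c0]
        · show eq5 (t • eq5.symm (eq5 ((1 : G) : G ⧸ C))) = _
          rw [eq5.symm_apply_apply]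
          exact congrArg eq5 ((smul_coset_fix t t 1).2 (by simp))
        · show eq5 ((k c0 : G) • eq5.symm (eq5 ((1 : G) : G ⧸ C))) = _
          rw [eq5.symm_apply_apply]
          exact congrArg eq5 ((smul_coset_fix t _ 1).2 (by simpa using (hktc c0).symm))
      intro g
      have h1 : Φ t = 1 := eq5.permCongrHom.injective (hπt.trans (map_one _).symm)
      exact (smul_coset_fix t t g).1 (Equiv.congr_fun h1 ((g : G) : G ⧸ C))
    · -- `G = C(t)`
      left
      push Not at hne
      obtain ⟨E, hEn, hEe, hE⟩ := hne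
      haveI := hEn
      have hE4 : Nat.card ↥E = 4 := by
        by_contra hcon
        have h2E : Nat.card ↥E = 2 := by tauto
        obtain ⟨w, hwE, hw1⟩ : ∃ w ∈ E, w ≠ 1 := E.bot_or_exists_ne_one.resolve_left (fun h => by
          rw [h, Subgroup.card_bot] at h2E; omega)
        obtain ⟨y, -, hy⟩ := (Nat.card_eq_two_iff' (1 : ↥E)).1 h2E
        have huniq : ∀ u ∈ E, u ≠ 1 → u = w := by
          intro u hu hu1
          have e1 := hy ⟨u, hu⟩ (fun h => hu1 (congrArg Subtype.val h))
          have e2 := hy ⟨w, hwE⟩ (fun h => hw1 (congrArg Subtype.val h))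
          exact congrArg Subtype.val (e1.trans e2.symm)
        have hcen : ∀ h : ↥H, h * w = w * h := fun h => mul_inv_eq_iff_eq_mul.1
          (huniq _ (hEn.conj_mem w hwE h) (fun h' => hw1 (conj_eq_one_iff.1 h')))
        obtain ⟨σ, hσ, he⟩ := hVmem w (Subgroup.mem_centralizer_singleton_iff.2 (hcen x).symm)
        refine hw1 (Subtype.ext ?_)
        rw [he, s4_klein_fix σ hσ.1 hσ.2.1 hσ.2.2 (hkinj ?_), map_one]
        · rfl
        · rw [map_mul, map_mul, ← he]
          exact (congrArg Subtype.val (hcen c)).symm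
      have hVsyl : ∀ P : Sylow 2 ↥H, Nat.card ↥(P : Subgroup ↥H) = 4 := by
        intro P
        obtain ⟨n, hn⟩ := IsPGroup.iff_card.1 P.2
        have h1 : n < 3 := by
          by_contra h
          exact h8 ((pow_dvd_pow 2 (show 3 ≤ n by omega)).trans (hn ▸ Subgroup.card_subgroup_dvd_card _))
        obtain ⟨Q, hQ⟩ := (IsPGroup.of_card (p := 2) (G := ↥V) (n := 2) (by rw [hV4]; norm_num)).exists_le_sylow
        have h3 := Subgroup.card_le_of_le hQ
        rw [hV4, Nat.card_congr (Sylow.equiv Q P).toEquiv, hn] at h3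
        have h5 : (2 : ℕ) ^ n ≤ 2 ^ 2 := Nat.pow_le_pow_right (by norm_num) (by omega)
        rw [hn]; omega
      obtain ⟨Q, hQ⟩ := (IsPGroup.of_card (p := 2) (G := ↥V) (n := 2) (by rw [hV4]; norm_num)).exists_le_sylow
      have hQV : (Q : Subgroup ↥H) = V := (Subgroup.eq_of_le_of_card_ge hQ (by rw [hVsyl, hV4])).symm
      have hEQ : E ≤ (Q : Subgroup ↥H) := by
        have h5 := Q.3 ((IsPGroup.of_card (p := 2) (G := ↥E) (n := 2) (by rw [hE4]; norm_num)).to_sup_of_normal_left Q.2)
          le_sup_right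
        exact le_sup_left.trans h5.le
      have hEV : E = V := Subgroup.eq_of_le_of_card_ge (hQV ▸ hEQ) (by rw [hV4, hE4])
      have hall : ∀ h : ↥H, ∃ σ, (h : ↥G0) = k σ ∧ Equiv.Perm.sign σ = 1 := by
        intro h
        have hxE : x ∈ E := hEV ▸ Subgroup.mem_centralizer_singleton_iff.2 rfl
        obtain ⟨σ, hσ, he⟩ := hVmem _ (hEV ▸ hEn.conj_mem x hxE h)
        have hσ1 : σ ≠ 1 := by
          rintro rfl
          rw [map_one] at he
          exact CfsgLib.Invol.ne_one_of_orderOf_two hxo (conj_eq_one_iff.1 (Subtype.ext he))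
        obtain ⟨p, hp, hpz⟩ := s4_klein_orbit σ hσ.1 hσ.2.1 hσ.2.2 hσ1
        set P : ↥H := ⟨k p, hkH p hp⟩
        have e1 : h * x * h⁻¹ = P * x * P⁻¹ := Subtype.ext (by
          rw [he, ← hpz, map_mul, map_mul, map_inv]; rfl)
        have hmem : P⁻¹ * h ∈ V := Subgroup.mem_centralizer_singleton_iff.2 (by
          calc P⁻¹ * h * x = P⁻¹ * (h * x * h⁻¹) * h := by group
            _ = x * (P⁻¹ * h) := by rw [e1]; group)
        obtain ⟨τ, hτ, hτe⟩ := hVmem _ hmem
        refine ⟨p * τ, ?_, by rw [map_mul, hp, hτ.2.2, one_mul]⟩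
        rw [map_mul, ← hτe]
        show (h : ↥G0) = (P : ↥G0) * ((P⁻¹ * h : ↥H) : ↥G0)
        rw [← Subgroup.coe_mul, mul_inv_cancel_left]
      have h12 : Nat.card ↥H ≤ 12 := by
        choose F hF hFs using hall
        have h1 := Nat.card_le_card_of_injective (fun h : ↥H => (⟨F h, Equiv.Perm.mem_alternatingGroup.2 (hFs h)⟩ : ↥(alternatingGroup (Fin 4))))
          (fun a b e => Subtype.ext (by
            have e' : F a = F b := congrArg Subtype.val e
            rw [hF a, hF b, e']))
        rw [nat_card_alternatingGroup, Nat.card_eq_fintype_card (α := Fin 4), Fintype.card_fin] at h1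
        exact h1
      refine Subgroup.eq_top_of_card_eq _ (le_antisymm (Subgroup.card_le_card_group _) ?_)
      rw [hC48, hGH]
      omega


/-- Let G be a finite group of even order such that (1) some involution t lying in the centre of a Sylow 2-subgroup of G has C_G(t) ≅ Z₂ × S₄, and (2) every Sylow 2-subgroup S of G satisfies C_G(S′) = S, where S′ is the derived subgroup of S. Then G = C_G(t) if G is solvable, and G ≅ S₆ otherwise. -/
theorem result {G : Type*} [Group G] [Finite G] (hev : Even (Nat.card G))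
    (t : G) (ht : orderOf t = 2) (T : Sylow 2 G) (htT : t ∈ (T : Subgroup G)) (htc : ∀ s ∈ (T : Subgroup G), s * t = t * s)
    (e : ↥(Subgroup.centralizer ({t} : Set G)) ≃* (Multiplicative (ZMod 2) × Equiv.Perm (Fin 4)))
    (h2 : ∀ S : Sylow 2 G, Subgroup.centralizer ((⁅(S : Subgroup G), (S : Subgroup G)⁆ : Subgroup G) : Set G) = (S : Subgroup G)) :
    (Group.IsSolvable G → Subgroup.centralizer ({t} : Set G) = ⊤) ∧
      (¬ Group.IsSolvable G → Nonempty (G ≃* Equiv.Perm (Fin 6))) := by
  rcases dichotomy t ht T htT htc e h2 with h | ⟨⟨iso⟩⟩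
  · refine ⟨fun _ => h, fun hns => absurd ?_ hns⟩
    haveI : Group.IsSolvable ↥(Subgroup.centralizer ({t} : Set G)) :=
      CfsgLib.Solvable.isSolvable_of_primeFactors_card_le_two (by
        rw [Nat.card_congr e.toEquiv, Nat.card_prod, Nat.card_perm, Nat.card_eq_fintype_card,
          Nat.card_eq_fintype_card, Fintype.card_multiplicative, ZMod.card, Fintype.card_fin]
        rw [show (2 : ℕ) * Nat.factorial 4 = 2 ^ 4 * 3 ^ 1 by rfl,
          Nat.primeFactors_mul (by norm_num) (by norm_num), Nat.primeFactors_prime_pow (by norm_num) Nat.prime_two,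
          Nat.primeFactors_prime_pow (by norm_num) Nat.prime_three]
        rfl)
    exact solvable_of_surjective (f := (Subgroup.centralizer ({t} : Set G)).subtype)
      (fun g => ⟨⟨g, h ▸ Subgroup.mem_top g⟩, rfl⟩)
  · refine ⟨fun hs => absurd ?_ (Equiv.Perm.not_solvable (Fin 6) (by rw [Cardinal.mk_fin]; norm_num)), fun _ => ⟨iso⟩⟩
    haveI := hs
    exact solvable_of_surjective (f := iso.toMonoidHom) iso.surjective

end Cfsg.Agent.S3222
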