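import Cfsg.Statements.S3225
import Mathlib
-- import your own Cfsg.Agent.* helpers here

set_option autoImplicit false
open Cfsg

namespace Cfsg.Agent.S3225

/-- Let G be a finite group of even order with no subgroup of index 2, S a Sylow 2-subgroup of G and M a subgroup of index 2 in S such that, for some n ≥ 1, every element of S outside M has order greater than 2^(n−1). Then every element of S of order 2ⁿ is conjugate in G to an element of M. -/
theorem result {G : Type*} [Group G] [Finite G] (hev : Even (Nat.card G))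
    (hG : ∀ H : Subgroup G, H.index ≠ 2) (S : Sylow 2 G) (M : Subgroup G) (hMS : M ≤ (S : Subgroup G)) (hM : M.relIndex (S : Subgroup G) = 2)
    (n : ℕ) (hn : 1 ≤ n) (hord : ∀ y ∈ (S : Subgroup G), y ∉ M → 2 ^ (n - 1) < orderOf y)
    (x : G) (hx : x ∈ (S : Subgroup G)) (hxn : orderOf x = 2 ^ n) :
    ∃ g : G, g * x * g⁻¹ ∈ M := by
  classical
  haveI : Fact (Nat.Prime 2) := ⟨Nat.prime_two⟩
  by_contra hcon
  push Not at hcon
  have hidx : (M.subgroupOf (S : Subgroup G)).index = 2 := hM
  have hmemM : ∀ a b : ↥(S : Subgroup G), ((a * b : ↥(S : Subgroup G)) : G) ∈ M ↔ ((a : G) ∈ M ↔ (b : G) ∈ M) :=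
    fun a b => Subgroup.mul_mem_iff_of_index_two hidx
  let φ : ↥(S : Subgroup G) →* ℤˣ :=
    { toFun := fun a => if (a : G) ∈ M then 1 else -1
      map_one' := by simp
      map_mul' := fun a b => by
        have := hmemM a b
        by_cases ha : (a : G) ∈ M <;> by_cases hb : (b : G) ∈ M <;> simp_all }
  let H : Subgroup G := (S : Subgroup G)
  let V := MonoidHom.transfer φ
  letI := H.fintypeQuotientOfFiniteIndex
  letI : Fintype (Quotient (MulAction.orbitRel (Subgroup.zpowers x) (G ⧸ H))) := Fintype.ofFinite _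
  have hterm : ∀ q : Quotient (MulAction.orbitRel (Subgroup.zpowers x) (G ⧸ H)),
      φ ⟨q.out.out⁻¹ * x ^ Function.minimalPeriod (x • ·) q.out * q.out.out,
        QuotientGroup.out_conj_pow_minimalPeriod_mem H x q.out⟩ =
      (-1) ^ Function.minimalPeriod (x • ·) q.out := by
    intro q
    set k := Function.minimalPeriod (x • ·) q.out with hk
    change (if q.out.out⁻¹ * x ^ k * q.out.out ∈ M then (1 : ℤˣ) else -1) = (-1) ^ k
    rcases Nat.even_or_odd k with hev' | hodd
    · rw [hev'.neg_one_pow, if_pos]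
      by_contra hM'
      have hlt := hord _ (QuotientGroup.out_conj_pow_minimalPeriod_mem H x q.out) hM'
      have h0 : q.out.out⁻¹ * x ^ k * q.out.out = q.out.out⁻¹ * x ^ k * q.out.out⁻¹⁻¹ := by
        rw [inv_inv]
      rw [h0, ← (SemiconjBy.conj_mk q.out.out⁻¹ (x ^ k)).orderOf_eq] at hlt
      obtain ⟨j, hj⟩ := hev'
      have : orderOf (x ^ k) ∣ 2 ^ (n - 1) := by
        apply orderOf_dvd_of_pow_eq_one
        rw [← pow_mul, show k * 2 ^ (n - 1) = orderOf x * j by
          rw [hxn, hj, ← two_mul, mul_assoc, mul_comm j, ← mul_assoc, ← pow_succ',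
            Nat.sub_add_cancel hn], pow_mul, pow_orderOf_eq_one, one_pow]
      exact absurd (Nat.le_of_dvd (by positivity) this) (by omega)
    · rw [hodd.neg_one_pow, if_neg]
      intro hM'
      -- an odd power of `x` generates `⟨x⟩`
      have hkx : k.Coprime (orderOf x) := by
        rw [hxn]; exact Nat.Coprime.pow_right n (Nat.coprime_two_right.2 hodd)
      obtain ⟨i, hi⟩ := exists_pow_eq_self_of_coprime hkx
      apply hcon q.out.out⁻¹
      have := M.pow_mem hM' i
      rw [show q.out.out⁻¹ * x ^ k * q.out.out = q.out.out⁻¹ * x ^ k * q.out.out⁻¹⁻¹ by rw [inv_inv],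
        conj_pow, hi] at this
      exact this
  have hVx : V x = -1 := by
    change MonoidHom.transfer φ x = -1
    rw [MonoidHom.transfer_eq_prod_quotient_orbitRel_zpowers_quot]
    rw [Finset.prod_congr rfl (fun q _ => hterm q)]
    rw [Finset.prod_pow_eq_pow_sum, ← Subgroup.index_eq_sum_minimalPeriod]
    have : Odd H.index := Nat.odd_iff.2 (Nat.two_dvd_ne_zero.1 S.not_dvd_index)
    exact this.neg_one_pow
  apply hG V.ker
  rw [Subgroup.index_ker]
  have htop : V.range = ⊤ := by
    rw [eq_top_iff]
    intro u _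
    rcases Int.units_eq_one_or u with rfl | rfl
    · exact one_mem _
    · exact ⟨x, hVx⟩
  rw [htop, Subgroup.card_top, Nat.card_eq_fintype_card]
  rfl

end Cfsg.Agent.S3225
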