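import Cfsg.Statements.S3234
import Cfsg.Agent.Lib.LargeFischer.General.Closed
import Cfsg.Agent.Lib.InvolChar.LargeExtraTransfer
import Cfsg.Agent.Lib.Local.CharP
import Cfsg.Agent.S1715

set_option autoImplicit false
open Cfsg

namespace Cfsg.Agent.S3234

/-- The sign form of the group of order two. -/
def toUnits : Multiplicative (ZMod 2) →* ℤˣ where
  toFun u := if Multiplicative.toAdd u = 0 then 1 else -1
  map_one' := rfl
  map_mul' := by decide

theorem toUnits_one : ∀ u : Multiplicative (ZMod 2), toUnits u = 1 → u = 1 := by decide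

/-- Let G be a finite group with an involution z, H = C_G(z), such that (i) J = O₂(H) is extraspecial of order 2¹³ with C_H(J) ≤ J, and (ii) H has normal subgroups J ≤ M ≤ K where M/J has order 3 and is the largest normal 3-subgroup of H/J (that is, M = O_{2,3}(H)) and K/M ≅ U₄(3). Then G = H·O(G); or H/K has order 2 and G is isomorphic to the Fischer group Fi₂₄′; or H/K is a four-group and G ≅ Fi₂₄. -/
theorem result {G : Type*} [Group G] [Finite G] (z : G) (hz : orderOf z = 2)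
    {L : Type*} [Field L] [Fintype L] (hL : Fintype.card L = 9)
    (hJ : Cfsg.IsExtraspecial 2 ↥(Cfsg.pCore 2 ↥(Subgroup.centralizer ({z} : Set G)))) (hJc : Nat.card ↥(Cfsg.pCore 2 ↥(Subgroup.centralizer ({z} : Set G))) = 2 ^ 13)
    (hCJ : Subgroup.centralizer ((Cfsg.pCore 2 ↥(Subgroup.centralizer ({z} : Set G))) : Set ↥(Subgroup.centralizer ({z} : Set G))) ≤ Cfsg.pCore 2 ↥(Subgroup.centralizer ({z} : Set G)))
    (M K : Subgroup ↥(Subgroup.centralizer ({z} : Set G))) [hMn : M.Normal] [hKn : K.Normal] (hJM : Cfsg.pCore 2 ↥(Subgroup.centralizer ({z} : Set G)) ≤ M) (hMK : M ≤ K)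
    (hM3 : Nat.card ↥M = 3 * Nat.card ↥(Cfsg.pCore 2 ↥(Subgroup.centralizer ({z} : Set G))))
    (hMmax : ∀ M' : Subgroup ↥(Subgroup.centralizer ({z} : Set G)), M'.Normal → Cfsg.pCore 2 ↥(Subgroup.centralizer ({z} : Set G)) ≤ M' → (∃ a : ℕ, Nat.card ↥M' = 3 ^ a * Nat.card ↥(Cfsg.pCore 2 ↥(Subgroup.centralizer ({z} : Set G)))) → M' ≤ M)
    (e : (↥K ⧸ M.subgroupOf K) ≃* Cfsg.PSU 4 L 3) :
    Subgroup.centralizer ({z} : Set G) ⊔ Cfsg.oddCore G = ⊤ ∨
      (K.index = 2 ∧ Cfsg.Spor.IsoFi24' G) ∨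
      (K.index = 4 ∧ (∀ x : ↥(Subgroup.centralizer ({z} : Set G)) ⧸ K, x ^ 2 = 1) ∧ Nonempty (G ≃* Cfsg.Spor.Fi24)) := by
  classical
  haveI hQn : (Cfsg.pCore 2 ↥(Subgroup.centralizer ({z} : Set G))).Normal := inferInstance
  haveI := Fact.mk Nat.prime_three
  haveI : Fact (Nat.Prime 2) := ⟨Nat.prime_two⟩
  have hF := CfsgLib.Local.HasCharP.generalizedFittingSubgroup_eq (p := 2) hCJ
  letI : Fintype (GaloisField 3 2) := Fintype.ofFinite _
  have h9 : Fintype.card (GaloisField 3 2) = 9 := by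
    rw [← Nat.card_eq_fintype_card, GaloisField.card 3 2 (by norm_num)]; norm_num
  obtain ⟨eL⟩ := CfsgLib.Schur.Tails.UFour.psu_equiv_H4 L hL
  obtain ⟨eF⟩ := CfsgLib.Schur.Tails.UFour.psu_equiv_H4 (GaloisField 3 2) h9
  obtain ⟨ι, _, q, _, π, n, φ, m⟩ := CfsgLib.LargeFischer.exists_gmodel_layers z (Cfsg.pCore 2 ↥(Subgroup.centralizer ({z} : Set G))) hz hJ hJc hCJ M K hJM hMK hM3
    (GaloisField 3 2) h9 ((e.trans eL.symm).trans eF)
  have hidx : (K.map (QuotientGroup.mk' (Cfsg.pCore 2 ↥(Subgroup.centralizer ({z} : Set G))))).index = K.index :=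
    Subgroup.index_map_eq K (QuotientGroup.mk'_surjective (Cfsg.pCore 2 ↥(Subgroup.centralizer ({z} : Set G)))) (by
      rw [QuotientGroup.ker_mk']; exact hJM.trans hMK)
  by_cases hfus : ∃ g : G, g * z * g⁻¹ ∈ ((Cfsg.pCore 2 ↥(Subgroup.centralizer ({z} : Set G)))).map (Subgroup.subtype (Subgroup.centralizer ({z} : Set G))) ∧ g * z * g⁻¹ ≠ z
  · obtain ⟨g, hg, hg'⟩ := hfus
    right
    rcases m.index_two_or_four hz hJ hJc hCJ hg hg' with h2 | h4
    · left
      rw [hidx] at h2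
      refine ⟨h2, Cfsg.Agent.S1715.result z hz _ M K hF hJ hJc hJM hMK hM3 (GaloisField 3 2) h9
        ((e.trans eL.symm).trans eF) h2 ⟨g, ?_, hg'⟩⟩
      obtain ⟨a, ha, ea⟩ := hg
      have ea' : g * z * g⁻¹ = (a : G) := ea.symm
      refine ⟨ea' ▸ a.2, ?_⟩
      convert SetLike.mem_coe.1 ha using 1
      exact Subtype.ext ea'
    · right
      refine ⟨hidx ▸ h4, fun x => ?_, ?_⟩
      · obtain ⟨c, rfl⟩ := QuotientGroup.mk_surjective x
        rw [pow_two, ← QuotientGroup.mk_mul, QuotientGroup.eq_one_iff]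
        have h := m.exponent_two h4 (QuotientGroup.mk' (Cfsg.pCore 2 ↥(Subgroup.centralizer ({z} : Set G))) c)
        rw [← map_mul, ← Subgroup.mem_comap, Subgroup.comap_map_eq_self (by
          rw [QuotientGroup.ker_mk']; exact hJM.trans hMK)] at h
        exact h
      · by_cases htop : Cfsg.pResidual 2 G = ⊤
        · refine (m.false_of_four hz hJ hJc hCJ (fun f g => ?_) hg hg' h4).elim
          exact toUnits_one _ (CfsgLib.InvolChar.LargeExtraTransfer.hom_units_trivial htop (toUnits.comp f) g)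
        · obtain ⟨G₀, hG₀⟩ := CfsgLib.LargeFischer.GModel.exists_index_two htop
          obtain ⟨eX⟩ := m.fi24_of_index_two hz hJ hJc hCJ rfl hg hg' M K hJM hMK hM3 h9
            ((e.trans eL.symm).trans eF) rfl (hidx ▸ h4) hG₀
          exact ⟨eX.symm⟩
  · left
    push Not at hfus
    exact m.sup_core_of_closed hz hJ hJc hCJ rfl hfus

end Cfsg.Agent.S3234
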