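import Cfsg.Statements.S3239
import Cfsg.Agent.Lib.JankoWeak.Main
import Cfsg.Agent.S0457
import Cfsg.Agent.S2039
import Cfsg.Agent.S4273

set_option autoImplicit false
open Cfsg

namespace Cfsg.Agent.S3239

/-- Let t be an involution of a finite group G lying in the centre of a Sylow 2-subgroup of G, and suppose the weak closure of t in C_G(t) — the subgroup generated by all G-conjugates of t that commute with t — is isomorphic to Z₂ × A₅. Then the normal closure ⟨t^G⟩ of t in G is isomorphic to the first Janko group J₁. -/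
theorem result {G : Type*} [Group G] [Finite G]
    (t : G) (ht : orderOf t = 2) (S : Sylow 2 G) (htS : t ∈ (S : Subgroup G)) (htc : ∀ s ∈ (S : Subgroup G), s * t = t * s)
    (hW : Nonempty (↥(Subgroup.closure {x : G | ∃ g : G, x = g * t * g⁻¹ ∧ x * t = t * x}) ≃*
      (Multiplicative (ZMod 2) × ↥(alternatingGroup (Fin 5))))) :
    Cfsg.Spor.IsoJ1 ↥(Subgroup.normalClosure ({t} : Set G)) := by
  obtain ⟨e⟩ := hW
  obtain ⟨D, rfl⟩ := CfsgLib.JankoWeak.exists_weak t ht S htc e
  refine CfsgLib.JankoWeak.isoJ1 D (fun Q _ _ hQ hc => ?_) (fun Γ _ _ σ hσ => ?_)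
  · obtain ⟨x, y, hx, hy, hJ1⟩ := Cfsg.Agent.S0457.result
    have ex : x = Cfsg.Spor.jankoX := Units.ext hx
    have ey : y = Cfsg.Spor.jankoY := Units.ext hy
    subst ex ey
    have : IsSimpleGroup Cfsg.Spor.J1 := hJ1.1
    exact Cfsg.Agent.S4273.result hc hJ1.2
  · obtain ⟨π, hπ⟩ := Cfsg.Agent.S2039.result.2 Γ σ hσ
    refine (MonoidHom.ker_eq_bot_iff σ).mp (Subgroup.eq_bot_iff_forall _ |>.mpr fun a ha => ?_)
    obtain ⟨b, hb⟩ := hπ ⟨a, ha⟩
    have hb1 : b = 1 := Subsingleton.elim _ _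
    rw [hb1, map_one] at hb
    exact (congrArg Subtype.val hb).symm

end Cfsg.Agent.S3239
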