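import Cfsg.Statements.S3246
import Cfsg.Agent.Lib.LocalEven.CharP
import Cfsg.Agent.Lib.Local.CharTwoType
import Cfsg.Agent.Lib.Cores.PConstrained
import Cfsg.Agent.Lib.PStab.FusionForms
import Cfsg.Agent.Lib.Cores.RankGraph
import Cfsg.Agent.Lib.Solvable.Generation
-- import your own Cfsg.Agent.* helpers here

set_option autoImplicit false
open Cfsg

namespace Cfsg.Agent.S3246


open Subgroup Cfsg

theorem index_centralizer_le {G : Type*} [Group G] [Finite G] (S : Sylow 2 G) (U : Subgroup ↥(S : Subgroup G))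
    [U.Normal] (hU : Nat.card U = 2 ^ 2) {u : ↥(S : Subgroup G)} (hu : u ∈ U) :
    ((centralizer ({(u : G)} : Set G)).subgroupOf (S : Subgroup G)).index ≤ 2 := by
  classical
  haveI : Fact (Nat.Prime 2) := ⟨Nat.prime_two⟩
  let f : ↥(S : Subgroup G) →* ConjAct ↥(S : Subgroup G) := ConjAct.toConjAct.toMonoidHom
  have hf : Function.Surjective f := ConjAct.toConjAct.surjective
  have hset : (centralizer ({(u : G)} : Set G)).subgroupOf (S : Subgroup G) =
      (MulAction.stabilizer (ConjAct ↥(S : Subgroup G)) u).comap f := by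
    ext s
    rw [mem_subgroupOf, mem_centralizer_singleton_iff, mem_comap, MulAction.mem_stabilizer_iff,
      ConjAct.smul_def, show ConjAct.ofConjAct (f s) = s from rfl, mul_inv_eq_iff_eq_mul]
    exact ⟨fun h => Subtype.ext h, fun h => congrArg Subtype.val h⟩
  rw [hset, index_comap_of_surjective _ hf, MulAction.index_stabilizer]
  obtain ⟨k, hk⟩ := S.isPGroup'.of_equiv ConjAct.toConjAct |>.card_orbit (α := ↥(S : Subgroup G)) u
  by_cases h1 : u = 1
  · subst h1
    have : MulAction.orbit (ConjAct ↥(S : Subgroup G)) (1 : ↥(S : Subgroup G)) = {1} := by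
      ext x
      simp [MulAction.mem_orbit_iff, eq_comm]
    rw [this]; simp
  have hsub : MulAction.orbit (ConjAct ↥(S : Subgroup G)) u ⊆ (U : Set ↥(S : Subgroup G)) \ {1} := by
    rintro x ⟨s, rfl⟩
    refine ⟨?_, ?_⟩
    · show s • u ∈ U
      rw [ConjAct.smul_def]
      exact (inferInstance : U.Normal).conj_mem u hu _
    · show s • u ≠ 1
      rw [ConjAct.smul_def, Ne, conj_eq_one_iff]
      exact h1
  have hle := Set.ncard_le_ncard hsub (Set.toFinite _)
  rw [Set.ncard_sdiff_singleton_of_mem (one_mem U), ← Nat.card_coe_set_eq, ← Nat.card_coe_set_eq] at hle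
  rw [show Nat.card ↥(U : Set ↥(S : Subgroup G)) = 2 ^ 2 from hU, hk] at hle
  rw [← Nat.card_coe_set_eq, hk]
  rcases k with _ | _ | k
  · norm_num
  · norm_num
  · have : 2 ^ 2 ≤ 2 ^ (k + 2) := Nat.pow_le_pow_right (by norm_num) (by omega)
    omega

theorem eq_one_of_charTwo {G : Type*} [Group G] [Finite G] (S : Sylow 2 G) {X : Subgroup G}
    (hX : Odd (Nat.card X)) (hSX : (S : Subgroup G) ≤ normalizer (X : Set G)) {u : G}
    (hC : CfsgLib.LocalEven.HasCharP 2 ↥(centralizer ({u} : Set G)))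
    (hidx : ((centralizer ({u} : Set G)).subgroupOf (S : Subgroup G)).index ≤ 2) :
    X ⊓ centralizer ({u} : Set G) = ⊥ := by
  classical
  haveI : Fact (Nat.Prime 2) := ⟨Nat.prime_two⟩
  set H := centralizer ({u} : Set G) with hH
  obtain ⟨T, hT⟩ := (S.isPGroup'.comap_of_injective H.subtype H.subtype_injective).exists_le_sylow
  set R := pCore 2 H with hR
  have hRT : R ≤ (T : Subgroup H) := (CfsgLib.Cores.isPGroup_pCore 2).le_sylow_of_normal T
  set R0 := (S : Subgroup G).subgroupOf H with hR0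
  have hTcard : Nat.card T ≤ Nat.card S := by
    obtain ⟨T', hT'⟩ := (T.isPGroup'.map H.subtype).exists_le_sylow
    have h1 := card_le_of_le hT'
    rwa [card_map_of_injective H.subtype_injective, Nat.card_congr (T'.equiv S).toEquiv] at h1
  have hR0T : R0.relIndex (T : Subgroup H) ≤ 2 := by
    have h1 := relIndex_mul_relIndex (⊥ : Subgroup H) R0 (T : Subgroup H) bot_le hT
    rw [relIndex_bot_left, relIndex_bot_left] at h1
    have h2 := ((centralizer ({u} : Set G)).subgroupOf (S : Subgroup G)).card_mul_index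
    have h3 : Nat.card R0 = Nat.card ((centralizer ({u} : Set G)).subgroupOf (S : Subgroup G)) := by
      rw [hR0, ← card_map_of_injective H.subtype_injective, subgroupOf_map_subtype,
        ← card_map_of_injective (S : Subgroup G).subtype_injective, subgroupOf_map_subtype, inf_comm]
    have h4 : Nat.card T ≤ 2 * Nat.card R0 := by
      rw [h3]
      calc Nat.card T ≤ Nat.card S := hTcard
        _ = _ := h2.symm
        _ ≤ _ := by rw [mul_comm 2]; exact Nat.mul_le_mul_left _ hidx
    rw [← h1, mul_comm 2] at h4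
    exact Nat.le_of_mul_le_mul_left h4 Nat.card_pos
  have hidxR : (R0.subgroupOf R).index ≤ 2 :=
    (relIndex_le_of_le_right hRT (by
      intro h0
      have := card_mul_index (R0.subgroupOf (T : Subgroup H))
      rw [show (R0.subgroupOf (T : Subgroup H)).index = 0 from h0, mul_zero] at this
      exact Nat.card_pos.ne this)).trans hR0T
  rw [eq_bot_iff]
  intro y hy
  refine mem_bot.2 ?_
  have hyo : (orderOf (⟨y, hy.2⟩ : H)).Coprime 2 := by
    rw [orderOf_mk]
    exact (Nat.coprime_two_right.2 hX).coprime_dvd_left (orderOf_dvd_natCard _ hy.1)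
  have hfix : ∀ r ∈ R, r ∈ R0 → (⟨y, hy.2⟩ : H) * r = r * ⟨y, hy.2⟩ := by
    intro r hr hr0
    set c := (⟨y, hy.2⟩ : H) * r * (⟨y, hy.2⟩ : H)⁻¹ * r⁻¹ with hc
    have hcR : c ∈ R := mul_mem ((inferInstance : (pCore 2 H).Normal).conj_mem r hr _) (inv_mem hr)
    have hcX : (c : G) ∈ X := by
      have h5 := (mem_normalizer_iff.1 (hSX hr0) y⁻¹).1 (inv_mem hy.1)
      have h6 : (c : G) = y * ((r : G) * y⁻¹ * (r : G)⁻¹) := by
        simp only [hc, Subgroup.coe_mul, Subgroup.coe_inv, mul_assoc]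
      rw [h6]
      exact mul_mem hy.1 h5
    have hc1 : c = 1 := CfsgLib.LocalEven.eq_one_of_pow_eq_one_of_pGroup (CfsgLib.Cores.isPGroup_pCore 2) hcR
      (d := c) ((Nat.coprime_two_right.2 hX).coprime_dvd_left (orderOf_dvd_natCard _ hcX)) (Subtype.ext (by rw [SubmonoidClass.coe_pow]; exact pow_orderOf_eq_one (c : G)))
    rwa [hc, mul_inv_eq_one, mul_inv_eq_iff_eq_mul] at hc1
  have h := hC.eq_one hyo (fun v hv => ?_)
  · exact congrArg Subtype.val h
  by_cases hv0 : v ∈ R0
  · exact hfix v hv hv0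
  have hi2 : (R0.subgroupOf R).index = 2 := by
    refine le_antisymm hidxR ?_
    have : R0.subgroupOf R ≠ ⊤ := fun htop => hv0 (subgroupOf_eq_top.1 htop hv)
    have h1 : (R0.subgroupOf R).index ≠ 1 := fun h1 => this (index_eq_one.1 h1)
    have h0 : (R0.subgroupOf R).index ≠ 0 := index_ne_zero_of_finite
    omega
  set w := (⟨y, hy.2⟩ : H) * v * (⟨y, hy.2⟩ : H)⁻¹ with hw
  have hwR : w ∈ R := (inferInstance : (pCore 2 H).Normal).conj_mem v hv _
  have hw0 : w ∉ R0 := fun hw0 => by
    have h1 := hfix w hwR hw0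
    have h2 : v = w := by
      have : v = (⟨y, hy.2⟩ : H)⁻¹ * (w * ⟨y, hy.2⟩) := by rw [hw]; group
      rw [this, ← h1, inv_mul_cancel_left]
    exact hv0 (h2 ▸ hw0)
  have hd0 : v⁻¹ * w ∈ R0 := by
    have := (mul_mem_iff_of_index_two hi2 (a := (⟨v, hv⟩ : R)⁻¹) (b := ⟨w, hwR⟩)).2
      (by simp [mem_subgroupOf, hv0, hw0])
    exact this
  exact CfsgLib.LocalEven.commute_of_conj_eq_mul (CfsgLib.Cores.isPGroup_pCore 2) (mul_mem (inv_mem hv) hwR)
    hyo (by rw [hw]; group) (hfix _ (mul_mem (inv_mem hv) hwR) hd0)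

theorem charTwo_of_constrained {H : Type*} [Group H] [Finite H] (h : IsPConstrained 2 H) (hO : oddCore H = ⊥) :
    CfsgLib.LocalEven.HasCharP 2 H :=
  haveI : Fact (Nat.Prime 2) := ⟨Nat.prime_two⟩
  CfsgLib.PStab.centralizer_pCore_le_of_isPConstrained hO h

theorem constrained_of_charTwo {H : Type*} [Group H] [Finite H] (h : CfsgLib.LocalEven.HasCharP 2 H) :
    IsPConstrained 2 H := by
  haveI : Fact (Nat.Prime 2) := ⟨Nat.prime_two⟩
  refine CfsgLib.Cores.isPConstrained_iff.2 ?_
  have hO := h.pPrimeCore_eq_bot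
  let e : H ≃* H ⧸ pPrimeCore 2 H :=
    (QuotientGroup.quotientBot.symm).trans (QuotientGroup.quotientMulEquivOfEq hO.symm)
  exact CfsgLib.LocalEven.hasCharP_congr e h


/-- Let G be a finite group whose Sylow 2-subgroup S has a self-centralizing normal subgroup of rank at least 3. Suppose that either every maximal 2-local subgroup of G is 2-constrained with no nontrivial normal subgroup of odd order, or the centralizer of every involution of G is 2-constrained with no nontrivial normal subgroup of odd order. Then S normalizes no nontrivial subgroup of G of odd order and every 2-local subgroup of G is 2-constrained. -/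
theorem result {G : Type*} [Group G] [Finite G]
    (S : Sylow 2 G) (A : Subgroup G) (hA : Cfsg.IsSCN (S : Subgroup G) A) (hA3 : ¬ Cfsg.PRankLE 2 2 ↥A)
    (h : (∀ M : Subgroup G, Cfsg.IsMaximalTwoLocal M → Cfsg.IsPConstrained 2 ↥M ∧ Cfsg.oddCore ↥M = ⊥) ∨
      (∀ t : G, orderOf t = 2 → Cfsg.IsPConstrained 2 ↥(Subgroup.centralizer ({t} : Set G)) ∧
        Cfsg.oddCore ↥(Subgroup.centralizer ({t} : Set G)) = ⊥)) :
    (∀ X : Subgroup G, Odd (Nat.card ↥X) → (S : Subgroup G) ≤ Subgroup.normalizer (X : Set G) → X = ⊥) ∧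
      (∀ T : Subgroup G, IsPGroup 2 ↥T → T ≠ ⊥ → Cfsg.IsPConstrained 2 ↥(Subgroup.normalizer (T : Set G))) := by
  classical
  haveI : Fact (Nat.Prime 2) := ⟨Nat.prime_two⟩
  have hC : ∀ t : G, orderOf t = 2 → CfsgLib.LocalEven.HasCharP 2 ↥(Subgroup.centralizer ({t} : Set G)) := by
    intro t ht
    rcases h with h | h
    swap
    · exact charTwo_of_constrained (h t ht).1 (h t ht).2
    have hzp : IsPGroup 2 ↥(Subgroup.zpowers t) := IsPGroup.of_card (n := 1) (by rw [Nat.card_zpowers, ht, pow_one])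
    have hne : Subgroup.zpowers t ≠ ⊥ := by
      rw [Subgroup.zpowers_ne_bot]
      rintro rfl
      simp at ht
    obtain ⟨M, hM, hMmax⟩ := (Set.toFinite {M : Subgroup G | Cfsg.IsTwoLocal M ∧
      Subgroup.normalizer (Subgroup.zpowers t : Set G) ≤ M}).exists_maximal
        ⟨_, ⟨_, hzp, hne, rfl⟩, le_rfl⟩
    have hMM : Cfsg.IsMaximalTwoLocal M :=
      ⟨hM.1, fun N hN hle => le_antisymm (hMmax ⟨hN, hM.2.trans hle⟩ hle) hle⟩
    have hchar := charTwo_of_constrained (h M hMM).1 (h M hMM).2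
    have h1 := hchar.centralizer_inf hzp (Subgroup.le_normalizer.trans hM.2)
    rw [Subgroup.zpowers_eq_closure, Subgroup.centralizer_closure] at h1
    have h2 : M ⊓ Subgroup.centralizer ({t} : Set G) = Subgroup.centralizer ({t} : Set G) := by
      refine inf_eq_right.2 (le_trans ?_ hM.2)
      exact (le_of_eq (by rw [Subgroup.zpowers_eq_closure, Subgroup.centralizer_closure])).trans (Subgroup.centralizer_le_normalizer _)
    rwa [h2] at h1
  have hSr : ¬ Cfsg.PRankLE 2 2 ↥(S : Subgroup G) := fun hS => hA3 fun E hE h2 => by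
    let f : ↥A →* ↥(S : Subgroup G) := Subgroup.inclusion hA.1
    have hf : Function.Injective f := Subgroup.inclusion_injective hA.1
    have := hS (E.map f) (by haveI := hE; infer_instance) (by
      rintro _ ⟨a, ha, rfl⟩
      rw [← map_pow, h2 a ha, map_one])
    rwa [Subgroup.card_map_of_injective hf] at this
  obtain ⟨U, hUn, hUe, hUc⟩ := CfsgLib.RankGraph.exists_normal_four S.isPGroup' hSr
  refine ⟨fun X hX hSX => ?_, fun T hT hne => ?_⟩
  · set U' := U.map (S : Subgroup G).subtype with hU'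
    have hUS : U' ≤ (S : Subgroup G) := Subgroup.map_subtype_le U
    have hU'c : Nat.card U' = 4 := by rw [hU', Subgroup.card_map_of_injective (Subgroup.subtype_injective _), hUc]; rfl
    have hcomm : ∀ x ∈ U', ∀ y ∈ U', x * y = y * x := by
      rintro _ ⟨a, ha, rfl⟩ _ ⟨b, hb, rfl⟩
      rw [← map_mul, ← map_mul]
      have := hUe.1.is_comm.comm (⟨a, ha⟩ : U) ⟨b, hb⟩
      exact congrArg _ (congrArg Subtype.val this)
    have hsq : ∀ x ∈ U', x ^ 2 = 1 := by
      rintro _ ⟨a, ha, rfl⟩
      rw [← map_pow, ← map_one (S : Subgroup G).subtype]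
      exact congrArg _ (hUe.2 a ha)
    have hnc : ¬ IsCyclic U' := fun hc => by
      obtain ⟨g, hg⟩ := hc.exists_generator
      have h4 : orderOf g = 4 := by rw [orderOf_eq_card_of_forall_mem_zpowers hg, hU'c]
      have h2 : g ^ 2 = 1 := Subtype.ext (hsq g g.2)
      have := orderOf_le_of_pow_eq_one (by norm_num) h2
      omega
    rw [← CfsgLib.Solvable.iSup_centralizer_eq hcomm hnc (hUS.trans hSX)
      (by rw [hU'c]; exact (Nat.coprime_two_left.2 hX).pow_left 2), eq_bot_iff]
    refine iSup₂_le ?_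
    rintro a ⟨⟨b, hb, rfl⟩, ha1⟩
    refine (eq_one_of_charTwo S hX hSX (hC _ ?_) (index_centralizer_le S U hUc hb)).le
    exact orderOf_eq_prime (hsq _ ⟨b, hb, rfl⟩) ha1
  · refine constrained_of_charTwo ?_
    have hct := CfsgLib.Local.isCharacteristicTwoType_of_centralizers (G := G) ?_ hC
    · exact hct.2 T hT hne
    · obtain ⟨k, hk⟩ := IsPGroup.iff_card.1 hT
      rcases k with _ | k
      · exact absurd (Subgroup.eq_bot_of_card_eq T (by simpa using hk)) hne
      · exact even_iff_two_dvd.2 ((dvd_pow_self 2 (Nat.succ_ne_zero k)).trans (hk ▸ T.card_subgroup_dvd_card))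

end Cfsg.Agent.S3246
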