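import Cfsg.Statements.S3247
import Cfsg.Agent.S0631
import Cfsg.Agent.Lib.Cores.PConstrained
import Cfsg.Agent.Lib.Cores.Layer
import Cfsg.Agent.Lib.Cores.PComponents
-- import your own Cfsg.Agent.* helpers here

set_option autoImplicit false
open Cfsg

namespace Cfsg.Agent.S3247


open Subgroup in
theorem isPConstrained_congr {K L : Type*} [Group K] [Finite K] [Group L] [Finite L] {p : ℕ} [Fact p.Prime]
    (e : K ≃* L) (h : Cfsg.IsPConstrained p K) : Cfsg.IsPConstrained p L := by
  rw [CfsgLib.Cores.isPConstrained_iff_pLayer_eq_bot] at h ⊢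
  rw [← CfsgLib.Cores.map_pLayer_equiv e, h, Subgroup.map_bot]

open Subgroup in
/-- `X` is `p`-constrained if a normal `p`-constrained subgroup contains the centralizer of a normal `p`-subgroup. -/
theorem isPConstrained_of_normal {X : Type*} [Group X] [Finite X] {p : ℕ} [Fact p.Prime]
    (T K : Subgroup X) [T.Normal] [hKn : K.Normal] (hT : IsPGroup p T)
    (hle : centralizer (T : Set X) ≤ K) (hK : Cfsg.IsPConstrained p K) : Cfsg.IsPConstrained p X := by
  rw [CfsgLib.Cores.isPConstrained_iff_pLayer_eq_bot, CfsgLib.Cores.pLayer_eq_bot_iff] at hK ⊢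
  set π := QuotientGroup.mk' (Cfsg.pPrimeCore p X) with hπ
  have hKb : (K.map π).Normal := hKn.map π (QuotientGroup.mk'_surjective _)
  have hTb : (T.map π).Normal := Subgroup.Normal.map inferInstance π (QuotientGroup.mk'_surjective _)
  have hlayer : Cfsg.layer (X ⧸ Cfsg.pPrimeCore p X) ≤ K.map π := by
    refine le_trans ?_ (map_mono hle)
    rw [CfsgLib.Cores.map_mk'_centralizer_of_coprime hT (CfsgLib.Cores.coprime_card_pPrimeCore p)]
    refine CfsgLib.Cores.layer_le_centralizer_fittingSubgroup.trans (centralizer_le ?_)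
    exact ((CfsgLib.Cores.le_pCore (hT.map π)).trans (CfsgLib.Cores.pCore_le_fittingSubgroup p))
  rw [← CfsgLib.Cores.map_subtype_layer_of_le hKb.isSubnormal hlayer]
  have hker : (π.subgroupMap K).ker = Cfsg.pPrimeCore p K := by
    apply map_injective K.subtype_injective
    rw [CfsgLib.Cores.pPrimeCore_of_normal p K]
    ext y
    constructor
    · rintro ⟨a, ha, rfl⟩
      exact ⟨(QuotientGroup.eq_one_iff _).1 (congrArg Subtype.val ha), a.2⟩
    · rintro ⟨hy1, hy2⟩
      exact ⟨⟨y, hy2⟩, Subtype.ext ((QuotientGroup.eq_one_iff _).2 hy1), rfl⟩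
  have e : (↥K ⧸ Cfsg.pPrimeCore p K) ≃* ↥(K.map π) :=
    (QuotientGroup.quotientMulEquivOfEq hker.symm).trans
      (QuotientGroup.quotientKerEquivOfSurjective _ (π.subgroupMap_surjective K))
  rw [← CfsgLib.Cores.map_layer_equiv e, hK, Subgroup.map_bot, Subgroup.map_bot]

theorem constrained_in {G : Type*} [Group G] [Finite G] {p : ℕ} [Fact p.Prime] (M T : Subgroup G)
    (hTM : T ≤ M) (hT : IsPGroup p T) (hM : Cfsg.IsPConstrained p M) :
    Cfsg.IsPConstrained p ↥((Subgroup.normalizer (T : Set G)).subgroupOf M) ∧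
    Cfsg.IsPConstrained p ↥((Subgroup.centralizer (T : Set G)).subgroupOf M) := by
  have h := Cfsg.Agent.S0631.result hM (T.subgroupOf M) (hT.of_equiv (Subgroup.subgroupOfEquivOfLe hTM).symm)
  refine ⟨?_, ?_⟩
  · rw [Subgroup.subgroupOf_normalizer_eq hTM]; exact h.1
  · have e : (Subgroup.centralizer (T : Set G)).subgroupOf M = Subgroup.centralizer (T.subgroupOf M : Set M) := by
      ext x
      simp only [Subgroup.mem_subgroupOf, Subgroup.mem_centralizer_iff, SetLike.mem_coe]
      exact ⟨fun hx y hy => Subtype.ext (hx _ hy), fun hx y hy => congrArg Subtype.val (hx ⟨y, hTM hy⟩ hy)⟩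
    rw [e]; exact h.2


/-- Let G be a finite group and p a prime; here a p-local subgroup means the normalizer of a nontrivial p-subgroup, other than G itself. If every p-local subgroup of G that is maximal among p-local subgroups is p-constrained, or if the centralizer of every element of order p of G is p-constrained, then every p-local subgroup of G is p-constrained. -/
theorem result {G : Type*} [Group G] [Finite G] (p : ℕ) [hp : Fact p.Prime]
    (h : (∀ M : Subgroup G, (∃ T : Subgroup G, IsPGroup p ↥T ∧ T ≠ ⊥ ∧ M = Subgroup.normalizer (T : Set G)) → M ≠ ⊤ →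
        (∀ M' : Subgroup G, (∃ T' : Subgroup G, IsPGroup p ↥T' ∧ T' ≠ ⊥ ∧ M' = Subgroup.normalizer (T' : Set G)) → M' ≠ ⊤ → M ≤ M' → M = M') →
        Cfsg.IsPConstrained p ↥M) ∨
      (∀ x : G, orderOf x = p → Cfsg.IsPConstrained p ↥(Subgroup.centralizer ({x} : Set G))))
    (T : Subgroup G) (hT : IsPGroup p ↥T) (hT1 : T ≠ ⊥) (hTG : Subgroup.normalizer (T : Set G) ≠ ⊤) :
    Cfsg.IsPConstrained p ↥(Subgroup.normalizer (T : Set G)) := by
  set N := Subgroup.normalizer (T : Set G) with hN
  rcases h with h | h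
  · obtain ⟨M, ⟨hMloc, hMtop, hNM⟩, hmax⟩ := wellFounded_gt.has_min
      {M : Subgroup G | (∃ T' : Subgroup G, IsPGroup p ↥T' ∧ T' ≠ ⊥ ∧ M = Subgroup.normalizer (T' : Set G)) ∧ M ≠ ⊤ ∧ N ≤ M}
      ⟨N, ⟨T, hT, hT1, rfl⟩, hTG, le_rfl⟩
    have hM : Cfsg.IsPConstrained p ↥M := h M hMloc hMtop fun M' h1 h2 h3 => by
      by_contra hne
      exact hmax M' ⟨h1, h2, hNM.trans h3⟩ (lt_of_le_of_ne h3 hne)
    exact isPConstrained_congr (Subgroup.subgroupOfEquivOfLe hNM)
      (constrained_in M T (Subgroup.le_normalizer.trans hNM) hT hM).1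
  · haveI : Nontrivial ↥T := T.nontrivial_iff_ne_bot.mpr hT1
    haveI := hT.center_nontrivial
    obtain ⟨n, hn, hc⟩ := (hT.to_subgroup (Subgroup.center T)).nontrivial_iff_card.mp inferInstance
    obtain ⟨⟨z, hz⟩, hzo⟩ := exists_prime_orderOf_dvd_card' (G := Subgroup.center T) p (hc ▸ dvd_pow_self p hn.ne')
    have hzo' : orderOf (z : G) = p := by
      rw [Subgroup.orderOf_coe]
      exact (Subgroup.orderOf_coe (⟨z, hz⟩ : Subgroup.center T)).trans hzo
    have hTC : T ≤ Subgroup.centralizer ({(z : G)} : Set G) := fun t ht =>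
      Subgroup.mem_centralizer_singleton_iff.mpr (congrArg Subtype.val (Subgroup.mem_center_iff.mp hz ⟨t, ht⟩))
    have hCC : Subgroup.centralizer (T : Set G) ≤ Subgroup.centralizer ({(z : G)} : Set G) :=
      Subgroup.centralizer_le (Set.singleton_subset_iff.mpr z.2)
    have hC : Cfsg.IsPConstrained p ↥(Subgroup.centralizer (T : Set G)) :=
      isPConstrained_congr (Subgroup.subgroupOfEquivOfLe hCC) (constrained_in _ T hTC hT (h _ hzo')).2
    have hCN : Subgroup.centralizer (T : Set G) ≤ N := Subgroup.centralizer_le_normalizer _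
    haveI : (T.subgroupOf N).Normal := Subgroup.normal_in_normalizer
    haveI : ((Subgroup.centralizer (T : Set G)).subgroupOf N).Normal := by
      rw [hN, ← Subgroup.normalizerMonoidHom_ker]; exact MonoidHom.normal_ker _
    refine isPConstrained_of_normal (T.subgroupOf N) ((Subgroup.centralizer (T : Set G)).subgroupOf N)
      (hT.of_equiv (Subgroup.subgroupOfEquivOfLe Subgroup.le_normalizer).symm) ?_
      (isPConstrained_congr (Subgroup.subgroupOfEquivOfLe hCN).symm hC)
    intro x hx
    rw [Subgroup.mem_subgroupOf, Subgroup.mem_centralizer_iff]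
    exact fun y hy => congrArg Subtype.val (Subgroup.mem_centralizer_iff.mp hx ⟨y, Subgroup.le_normalizer hy⟩ hy)

end Cfsg.Agent.S3247
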