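import Cfsg.Statements.S3250
import Cfsg.Agent.Lib.LengthEight.Focal
import Cfsg.Agent.Lib.Classical.SL2Klein
import Cfsg.Agent.Lib.Cores.Basic
import Cfsg.Agent.S0508

set_option autoImplicit false
set_option linter.unusedSectionVars false
open Cfsg

namespace Cfsg.Agent.S3250

open CfsgLib.LengthEight

theorem long_le {G : Type*} [Group G] {n : ℕ} (h : ∀ c : Fin (n + 1) → Subgroup G, ¬ StrictAnti c) :
    ¬ Long (⊤ : Subgroup G) n := fun hl => by
  obtain ⟨c, -, hc⟩ := hl.exists_chain
  exact h c hc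

/-- A field whose `PSL₂` has an involution centraliser of order 128. -/
theorem card_eq_127 {F : Type} [Field F] [Fintype F] (hodd : Odd (Fintype.card F))
    {x : Matrix.ProjectiveSpecialLinearGroup (Fin 2) F} (hx : orderOf x = 2)
    (hc : Nat.card (Subgroup.centralizer ({x} : Set (Matrix.ProjectiveSpecialLinearGroup (Fin 2) F))) = 128) :
    Fintype.card F = 127 := by
  have h2 : (2 : F) ≠ 0 := CfsgLib.Classical.two_ne_zero_of_odd_card hodd
  obtain ⟨g, hg⟩ := CfsgLib.Classical.SL2Q.involution_conj h2 hx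
  have hmap : (Subgroup.centralizer ({CfsgLib.Classical.SL2Q.proj (CfsgLib.Fusion.PSL2.wM (F := F))} :
      Set (Matrix.ProjectiveSpecialLinearGroup (Fin 2) F))).map (MulAut.conj g).toMonoidHom =
      Subgroup.centralizer ({x} : Set (Matrix.ProjectiveSpecialLinearGroup (Fin 2) F)) := by
    ext y
    rw [Subgroup.mem_map_equiv, Subgroup.mem_centralizer_singleton_iff, Subgroup.mem_centralizer_singleton_iff,
      ← hg, MulAut.conj_symm_apply]
    constructor
    · intro e
      have := congrArg (fun a => g * a * g⁻¹) e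
      simpa [mul_assoc] using this
    · intro e
      have := congrArg (fun a => g⁻¹ * a * g) e
      simpa [mul_assoc] using this
  have ht : Nat.card (CfsgLib.Fusion.PSL2.torus : Subgroup (Matrix.SpecialLinearGroup (Fin 2) F)) = 128 := by
    rw [← CfsgLib.Classical.SL2Q.card_centralizer_proj_wM h2, ← hc, ← hmap,
      Subgroup.card_map_of_injective (MulAut.conj g).injective]
  have h := CfsgLib.Fusion.PSL2.card_torus h2 (F := F)
  rw [ht] at h
  have hr : Nat.card {t : F // 1 + t ^ 2 = 0} ≤ 2 := by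
    by_cases he : IsEmpty {t : F // 1 + t ^ 2 = 0}
    · simp
    rw [not_isEmpty_iff] at he
    obtain ⟨⟨r, hr⟩⟩ := he
    classical
    let f : {t : F // 1 + t ^ 2 = 0} → Bool := fun t => decide (t.1 = r)
    refine (Nat.card_le_card_of_injective f ?_).trans (by simp)
    intro a b e
    simp only [f, decide_eq_decide] at e
    have key : ∀ t : {t : F // 1 + t ^ 2 = 0}, t.1 ≠ r → t.1 = -r := fun t ht' => by
      have : (t.1 - r) * (t.1 + r) = 0 := by linear_combination t.2 - hr
      rcases mul_eq_zero.1 this with q | q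
      · exact absurd (sub_eq_zero.1 q) ht'
      · linear_combination q
    by_cases ha : a.1 = r
    · exact Subtype.ext (ha.trans (e.1 ha).symm)
    · exact Subtype.ext ((key a ha).trans (key b fun q => ha (e.2 q)).symm)
  obtain ⟨p, hp⟩ := CharP.exists F
  obtain ⟨n, hpp, hn⟩ := FiniteField.card F p
  have hq : Fintype.card F = 127 ∨ Fintype.card F = 129 := by
    obtain ⟨j, hj⟩ := hodd
    omega
  refine hq.resolve_right fun e => ?_
  have h3 : 3 ∣ p ^ (n : ℕ) := by rw [← hn, e]; norm_num
  obtain rfl : p = 3 := ((Nat.prime_dvd_prime_iff_eq Nat.prime_three hpp).1 (Nat.prime_three.dvd_of_dvd_pow h3)).symm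
  rw [e] at hn
  rcases Nat.lt_or_ge (n : ℕ) 5 with h5 | h5
  · interval_cases hk : (n : ℕ) <;> simp_all
  · have := Nat.pow_le_pow_right (show 3 > 0 by norm_num) h5
    omega

/-- With the length of a finite group defined as the maximum n for which there is a chain G = G₀ > G₁ > ⋯ > G_n = 1 of subgroups: a finite non-abelian simple group of length exactly 8 whose Sylow 2-subgroups have order 2⁷ is isomorphic to PSL₂(127). -/
theorem result {G : Type*} [Group G] [Finite G] [IsSimpleGroup G]
    (hG : ¬ IsMulCommutative G) (h8 : ∃ c : Fin 9 → Subgroup G, StrictAnti c) (h9 : ∀ c : Fin 10 → Subgroup G, ¬ StrictAnti c)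
    (S : Sylow 2 G) (hS : Nat.card ↥(S : Subgroup G) = 2 ^ 7) :
    ∃ (F : Type) (_ : Field F) (_ : Fintype F), Fintype.card F = 127 ∧ Nonempty (G ≃* Matrix.ProjectiveSpecialLinearGroup (Fin 2) F) := by
  haveI : Fact (Nat.Prime 2) := ⟨Nat.prime_two⟩
  have h : Ctx S := ⟨hG, long_le h9, hS⟩
  obtain ⟨z, hz, hz2, hzc⟩ := h.exists_central
  have hC : Subgroup.centralizer ({z} : Set G) = (S : Subgroup G) :=
    h.centralizer_central hz (CfsgLib.Invol.ne_one_of_orderOf_two hz2) hzc
  have hO : Cfsg.oddCore ↥(Subgroup.centralizer ({z} : Set G)) = ⊥ := by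
    refine Subgroup.eq_bot_of_card_eq _ ?_
    have h1 := Subgroup.card_subgroup_dvd_card (Cfsg.oddCore ↥(Subgroup.centralizer ({z} : Set G)))
    have h2 : Nat.card ↥(Subgroup.centralizer ({z} : Set G)) = 2 ^ 7 := by rw [hC, hS]
    rw [h2] at h1
    exact Nat.eq_one_of_dvd_coprimes ((Nat.coprime_two_right.2 CfsgLib.Cores.odd_card_oddCore).pow_right 7)
      dvd_rfl h1
  obtain ⟨F, _, _, hodd, ⟨φ⟩⟩ := Cfsg.Agent.S0508.result S 64 (by norm_num) h.dihedral z hz2 hz
    (fun s hs => (Subgroup.mem_centralizer_iff.1 hzc s hs)) ⊥ (by rw [hO, Subgroup.map_bot])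
    (fun e => absurd rfl e)
    (fun s _ _ y hy => by rw [Subgroup.mem_bot.1 hy]; simp)
    (fun Y hY hY1 => absurd (le_bot_iff.1 hY) hY1)
  refine ⟨F, _, _, card_eq_127 hodd (x := φ z) ((MulEquiv.orderOf_eq φ z).trans hz2) ?_, ⟨φ⟩⟩
  have e : (Subgroup.centralizer ({z} : Set G)).map φ.toMonoidHom =
      Subgroup.centralizer ({φ z} : Set (Matrix.ProjectiveSpecialLinearGroup (Fin 2) F)) := by
    ext y
    rw [Subgroup.mem_map_equiv, Subgroup.mem_centralizer_singleton_iff, Subgroup.mem_centralizer_singleton_iff,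
      ← φ.injective.eq_iff, map_mul, map_mul, φ.apply_symm_apply]
  rw [← e, Subgroup.card_map_of_injective φ.injective, hC, hS]
  norm_num

end Cfsg.Agent.S3250
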