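import Cfsg.Statements.S3260
import Cfsg.Agent.Lib.Flavell.FixedFactor

set_option autoImplicit false
open Cfsg

namespace Cfsg.Agent.S3260

/-- Let p ≥ 5 be a prime, G a finite p-constrained group with Sylow p-subgroup S, and A a group of automorphisms of G of order coprime to |G| whose fixed-point subgroup has no section isomorphic to PSL₂(p). Then G = O_{p'}(G) · N_G(Z(J(S))), where J(S) is the subgroup generated by the abelian subgroups of S of largest order. -/
theorem result {G : Type*} [Group G] [Finite G] (p : ℕ) [hp : Fact p.Prime] (hp5 : 5 ≤ p)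
    (hG : Cfsg.IsPConstrained p G) (S : Sylow p G) (A : Subgroup (MulAut G)) (hA : (Nat.card ↥A).Coprime (Nat.card G))
    (C : Subgroup G) (hC : ∀ g : G, g ∈ C ↔ ∀ a ∈ A, a g = g)
    {F : Type*} [Field F] [Fintype F] (hF : Fintype.card F = p)
    (hfix : ¬ Cfsg.Involves (Matrix.ProjectiveSpecialLinearGroup (Fin 2) F) ↥C) :
    Cfsg.pPrimeCore p G ⊔ Subgroup.normalizer (Cfsg.centerThompsonAOf (S : Subgroup G) : Set G) = ⊤ := by
  obtain ⟨f, hf⟩ := CfsgLib.Flavell.exists_pslEquiv hF
  have hfix' : ¬ Cfsg.Involves (Matrix.ProjectiveSpecialLinearGroup (Fin 2) (ZMod p)) ↥C := by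
    intro h
    obtain ⟨X, g, hg⟩ := CfsgLib.LocalEven.Offender.exists_hom_of_involves h
    exact hfix (CfsgLib.LocalEven.Offender.involves_of_hom X (f.comp g) (hf.comp hg))
  rcases Nat.even_or_odd (Nat.card ↥A) with he | ho
  · have hodd : Odd (Nat.card G) := by
      rw [← Nat.not_even_iff_odd, even_iff_two_dvd]
      exact fun h => Nat.not_coprime_of_dvd_of_dvd one_lt_two (even_iff_two_dvd.1 he) h hA
    refine CfsgLib.Flavell.sup_normalizer_eq_top_of_solvable hp5 hG S ⊥ inferInstance (by simp) ⊤ (fun g => ?_) ?_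
    · simp
    · exact CfsgLib.Flavell.not_involves_psl_of_odd hp5 (by rw [Subgroup.card_top]; exact hodd)
  · exact CfsgLib.Flavell.sup_normalizer_eq_top_of_solvable hp5 hG S A (Cfsg.Agent.S0205.result ho) hA C hC hfix'

end Cfsg.Agent.S3260
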