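import Cfsg.Statements.S3261
import Mathlib
import Cfsg.Agent.Lib.InvolChar.D8
import Cfsg.Agent.S0495
import Cfsg.Agent.S0497
-- import your own Cfsg.Agent.* helpers here

set_option autoImplicit false
open Cfsg

namespace Cfsg.Agent.S3261

open Equiv in
/-- an element of order four -/
def a0 : Perm (Fin 6) where
  toFun := ![2, 3, 1, 0, 5, 4]
  invFun := ![3, 2, 0, 1, 5, 4]
  left_inv := by unfold Function.LeftInverse; decide
  right_inv := by unfold Function.RightInverse Function.LeftInverse; decide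

open Equiv in
/-- an inverting involution -/
def b0 : Perm (Fin 6) := swap 0 1 * swap 4 5

open Equiv in
/-- the double transposition -/
def t0 : Perm (Fin 6) := swap 0 1 * swap 2 3

theorem facts0 : a0 ^ 2 ≠ 1 ∧ a0 ^ 4 = 1 ∧ b0 ≠ 1 ∧ b0 ^ 2 = 1 ∧ b0 * a0 * b0⁻¹ = a0⁻¹ ∧
    Equiv.Perm.sign a0 = 1 ∧ Equiv.Perm.sign b0 = 1 ∧ a0 * t0 = t0 * a0 ∧ b0 * t0 = t0 * b0 ∧
    t0.cycleType = {2, 2} := by
  refine ⟨by decide +kernel, by decide +kernel, by decide +kernel, by decide +kernel, by decide +kernel,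
    by decide +kernel, by decide +kernel, by decide +kernel, by decide +kernel, by decide +kernel⟩

set_option maxRecDepth 20000 in
theorem card0 : Fintype.card {p : Equiv.Perm (Fin 6) // Equiv.Perm.sign p = 1 ∧ p * t0 = t0 * p} = 8 := by
  decide +kernel


/-- Let α̃ be an involution of the alternating group A₆ that is a product of two disjoint transpositions (it lies in the centre of a Sylow 2-subgroup of A₆; its centralizer is dihedral of order 8). Let G be a finite group that has no subgroup of index 2 and contains an involution α, central in some Sylow 2-subgroup of G, with C_G(α) ≅ C_{A₆}(α̃). Then G is isomorphic to A₆ or to PSL₂(7). -/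
theorem result {G : Type*} [Group G] [Finite G]
    (hG : ∀ H : Subgroup G, H.index ≠ 2)
    (αt : ↥(alternatingGroup (Fin 6))) (hαt : orderOf αt = 2) (hsupp : (αt : Equiv.Perm (Fin 6)).support.card = 4)
    (α : G) (hα : orderOf α = 2) (S : Sylow 2 G) (hαS : α ∈ (S : Subgroup G)) (hαc : ∀ s ∈ (S : Subgroup G), s * α = α * s)
    (e : ↥(Subgroup.centralizer ({α} : Set G)) ≃* ↥(Subgroup.centralizer ({αt} : Set ↥(alternatingGroup (Fin 6))))) :
    Nonempty (G ≃* ↥(alternatingGroup (Fin 6))) ∨
      (∃ (F : Type) (_ : Field F) (_ : Fintype F), Fintype.card F = 7 ∧ Nonempty (G ≃* Matrix.ProjectiveSpecialLinearGroup (Fin 2) F)) := by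
  classical
  -- structure of the centralizer in `A6`
  set s : Equiv.Perm (Fin 6) := (αt : Equiv.Perm (Fin 6)) with hs
  have hso : orderOf s = 2 := by rw [hs, Subgroup.orderOf_coe, hαt]
  have hct : s.cycleType = {2, 2} := by
    obtain ⟨n, hn⟩ := Equiv.Perm.cycleType_prime_order (by rw [hso]; exact Nat.prime_two)
    rw [hso] at hn
    have h1 := Equiv.Perm.sum_cycleType s
    rw [hn, Multiset.sum_replicate, hsupp, smul_eq_mul] at h1
    rw [hn, show n + 1 = 2 by omega]; rfl
  obtain ⟨f1, f2, f3, f4, f5, f6, f7, f8, f9, f10⟩ := facts0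
  obtain ⟨c, hc⟩ := isConj_iff.1 ((Equiv.Perm.isConj_iff_cycleType_eq).2 (f10.trans hct.symm))
  set D := Subgroup.centralizer ({αt} : Set ↥(alternatingGroup (Fin 6))) with hD
  have hsign : ∀ p, Equiv.Perm.sign (MulAut.conj c p) = Equiv.Perm.sign p := by
    intro p
    rw [MulAut.conj_apply, map_mul, map_mul, map_inv, mul_comm (Equiv.Perm.sign c) (Equiv.Perm.sign p),
      mul_inv_cancel_right]
  have hmemD : ∀ p : ↥(alternatingGroup (Fin 6)), p ∈ D ↔ (p : Equiv.Perm (Fin 6)) * s = s * p := by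
    intro p
    rw [hD, Subgroup.mem_centralizer_singleton_iff]
    exact ⟨fun h => congrArg Subtype.val h, fun h => Subtype.ext h⟩
  let mkD : {p : Equiv.Perm (Fin 6) // Equiv.Perm.sign p = 1 ∧ p * t0 = t0 * p} → ↥D := fun p =>
    ⟨⟨MulAut.conj c p.1, Equiv.Perm.mem_alternatingGroup.2 (by rw [hsign]; exact p.2.1)⟩,
      (hmemD _).2 (by rw [← hc, ← MulAut.conj_apply, ← map_mul, ← map_mul, p.2.2])⟩
  have hmk : Function.Bijective mkD := by
    constructor
    · intro p q e
      exact Subtype.ext ((MulAut.conj c).injective (congrArg (fun x : ↥D => ((x : ↥(alternatingGroup (Fin 6))) : Equiv.Perm (Fin 6))) e))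
    · intro x
      refine ⟨⟨(MulAut.conj c).symm (x : ↥(alternatingGroup (Fin 6))), ?_, ?_⟩,
        Subtype.ext (Subtype.ext ((MulAut.conj c).apply_symm_apply _))⟩
      · have := hsign ((MulAut.conj c).symm (x : ↥(alternatingGroup (Fin 6))))
        rw [MulEquiv.apply_symm_apply] at this
        rw [← this]; exact Equiv.Perm.mem_alternatingGroup.1 (x : ↥(alternatingGroup (Fin 6))).2
      · apply (MulAut.conj c).injective
        rw [map_mul, map_mul, MulEquiv.apply_symm_apply, MulAut.conj_apply c t0, hc]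
        exact (hmemD _).1 x.2
  have hD8 : Nat.card ↥D = 8 := by
    rw [← Nat.card_congr (Equiv.ofBijective mkD hmk), Nat.card_eq_fintype_card, ← card0]
  set a' : ↥D := mkD ⟨a0, f6, f8⟩ with ha'
  set b' : ↥D := mkD ⟨b0, f7, f9⟩ with hb'
  have ha4 : orderOf a' = 4 := by
    rw [← Subgroup.orderOf_coe, ← Subgroup.orderOf_coe]
    show orderOf (MulAut.conj c a0) = 4
    rw [MulEquiv.orderOf_eq]
    exact orderOf_eq_prime_pow (p := 2) (n := 1) (by simpa using f1) (by simpa using f2)
  have hb2 : orderOf b' = 2 := by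
    rw [← Subgroup.orderOf_coe, ← Subgroup.orderOf_coe]
    show orderOf (MulAut.conj c b0) = 2
    rw [MulEquiv.orderOf_eq]
    exact orderOf_eq_prime f4 f3
  have hrel : b' * a' * b'⁻¹ = a'⁻¹ := by
    refine Subtype.ext (Subtype.ext ?_)
    show MulAut.conj c b0 * MulAut.conj c a0 * (MulAut.conj c b0)⁻¹ = (MulAut.conj c a0)⁻¹
    rw [← map_inv, ← map_inv, ← map_mul, ← map_mul, f5]
  set a := e.symm a' with ha
  set b := e.symm b' with hb
  have hao : orderOf (a : G) = 4 := by rw [Subgroup.orderOf_coe, ha, MulEquiv.orderOf_eq, ha4]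
  have hbo : orderOf (b : G) = 2 := by rw [Subgroup.orderOf_coe, hb, MulEquiv.orderOf_eq, hb2]
  have hab : b * a * b⁻¹ = a⁻¹ := by rw [ha, hb, ← map_inv, ← map_inv, ← map_mul, ← map_mul, hrel]
  have hC8 : Nat.card ↥(Subgroup.centralizer ({α} : Set G)) = 8 := by
    rw [Nat.card_congr e.toEquiv, hD8]
  obtain ⟨hsimple, hord⟩ := CfsgLib.InvolChar.dihedral_eight hG hC8 hα a.2 hao b.2 hbo
    (by exact_mod_cast congrArg Subtype.val hab)
  rcases hord with h | h
  · haveI : Fact (Nat.Prime 7) := ⟨by norm_num⟩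
    exact Or.inr ⟨ZMod 7, inferInstance, inferInstance, ZMod.card 7,
      Cfsg.Agent.S0495.result h (ZMod.card 7)⟩
  · exact Or.inl (Cfsg.Agent.S0497.result h)

end Cfsg.Agent.S3261
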