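import Cfsg.Statements.S3265
import Mathlib
import Cfsg.Agent.Lib.InvolChar.DiamTwo
import Cfsg.Agent.Lib.InvolChar.Switch
-- import your own Cfsg.Agent.* helpers here

set_option autoImplicit false
open Cfsg

namespace Cfsg.Agent.S3265

variable {α : Type*} [Fintype α] [DecidableEq α]

open Equiv in
theorem swap_conj (t : Perm α) (ht : t * t = 1) (a b : α) : t * swap a b * t = swap (t a) (t b) := by
  rw [swap_apply_apply, inv_eq_of_mul_eq_one_right ht]

open Equiv in
theorem exists_commuting (t : Perm α) (ht : t * t = 1) (ht1 : t ≠ 1) (h5 : 5 ≤ Fintype.card α) :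
    ∃ t', IsConj t t' ∧ t' * t' = 1 ∧ t' ≠ t ∧ (t * t') * (t * t') = 1 := by
  have htt : ∀ v, t (t v) = v := fun v => by rw [← Perm.mul_apply, ht, Perm.one_apply]
  obtain ⟨a, ha⟩ : ∃ a, t a ≠ a := by
    by_contra hno
    push_neg at hno
    exact ht1 (Equiv.ext hno)
  have key : ∀ s : Perm α, s * s = 1 → s * t * s ≠ t → (t * (s * t * s)) * (t * (s * t * s)) = 1 →
      ∃ t', IsConj t t' ∧ t' * t' = 1 ∧ t' ≠ t ∧ (t * t') * (t * t') = 1 := by
    intro s hs hne hc
    refine ⟨s * t * s, isConj_iff.2 ⟨s, by rw [inv_eq_of_mul_eq_one_right hs]⟩, ?_, hne, hc⟩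
    calc s * t * s * (s * t * s) = s * t * (s * s) * t * s := by simp only [mul_assoc]
      _ = s * (t * t) * s := by rw [hs]; simp [mul_assoc]
      _ = 1 := by rw [ht, mul_one, hs]
  have comm4 : ∀ {p q r u : α}, p ≠ r → p ≠ u → q ≠ r → q ≠ u →
      (swap p q * swap r u) * (swap p q * swap r u) = 1 := by
    intro p q r u h1 h2 h3 h4
    have hd : Perm.Disjoint (swap p q) (swap r u) := by
      intro w
      by_cases hw : w = p ∨ w = q
      · refine Or.inr (swap_apply_of_ne_of_ne ?_ ?_) <;> rintro rfl
        · exact hw.elim h1.symm h3.symm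
        · exact hw.elim h2.symm h4.symm
      · push_neg at hw
        exact Or.inl (swap_apply_of_ne_of_ne hw.1 hw.2)
    rw [← pow_two, hd.commute.mul_pow, pow_two, pow_two, swap_mul_self, swap_mul_self, one_mul]
  by_cases hmore : ∃ c, c ≠ a ∧ c ≠ t a ∧ t c ≠ c
  · obtain ⟨c, hca, hcb, hc⟩ := hmore
    have n1 : t c ≠ a := fun e => hcb (by rw [← e, htt])
    have n2 : t c ≠ t a := t.injective.ne hca
    refine key (swap (t a) c) (swap_mul_self _ _) (fun e => ?_) ?_
    · have e' := congrArg (fun f : Perm α => f a) e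
      simp only [Perm.mul_apply, swap_apply_of_ne_of_ne ha.symm hca.symm] at e'
      simp only [swap_apply_left] at e'
      exact hcb e'
    · have e1 : t * (swap (t a) c * t * swap (t a) c) = swap a (t c) * swap (t a) c := by
        rw [show t * (swap (t a) c * t * swap (t a) c) = t * swap (t a) c * t * swap (t a) c by
          simp only [mul_assoc], swap_conj t ht, htt]
      rw [e1]
      exact comm4 ha.symm hca.symm n2 hc
  · push_neg at hmore
    have hts : t = swap a (t a) := by
      ext w
      by_cases h1 : w = a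
      · subst h1; simp
      by_cases h2 : w = t a
      · subst h2; simp [htt]
      rw [swap_apply_of_ne_of_ne h1 h2, hmore w h1 h2]
    have hlt : ({a, t a} : Finset α).card < (Finset.univ : Finset α).card := by
      have := Finset.card_le_two (a := a) (b := t a)
      rw [Finset.card_univ]; omega
    obtain ⟨c, -, hc⟩ := Finset.exists_mem_notMem_of_card_lt_card hlt
    have hlt' : ({a, t a, c} : Finset α).card < (Finset.univ : Finset α).card := by
      have := Finset.card_le_three (a := a) (b := t a) (c := c)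
      rw [Finset.card_univ]; omega
    obtain ⟨d, -, hd⟩ := Finset.exists_mem_notMem_of_card_lt_card hlt'
    simp only [Finset.mem_insert, Finset.mem_singleton, not_or] at hc hd
    generalize hb : t a = b at *
    subst hts
    obtain ⟨q, hq⟩ := isConj_iff.1 (Perm.isConj_swap (Ne.symm ha) (Ne.symm hd.2.2))
    refine ⟨swap c d, isConj_iff.2 ⟨q, hq⟩, swap_mul_self c d, fun e => ?_, comm4 (Ne.symm hc.1) (Ne.symm hd.1) (Ne.symm hc.2) (Ne.symm hd.2.1)⟩
    have e' := congrArg (fun f : Perm α => f a) e
    rw [swap_apply_left, swap_apply_of_ne_of_ne (Ne.symm hc.1) (Ne.symm hd.1)] at e'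
    exact ha e'.symm


/-- Let n ≥ 5 and let X be a conjugacy class of involutions of the symmetric group of degree n. The graph on X joining two distinct involutions whose product has odd order is connected and has diameter exactly 2. -/
theorem result (n : ℕ) (hn : 5 ≤ n) (t : Equiv.Perm (Fin n)) (ht : orderOf t = 2) :
    (SimpleGraph.fromRel fun x y : {x : Equiv.Perm (Fin n) // IsConj t x} =>
        Odd (orderOf (x.1 * y.1))).Connected ∧
      (SimpleGraph.fromRel fun x y : {x : Equiv.Perm (Fin n) // IsConj t x} =>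
        Odd (orderOf (x.1 * y.1))).diam = 2 := by
  set r : {x : Equiv.Perm (Fin n) // IsConj t x} → {x : Equiv.Perm (Fin n) // IsConj t x} → Prop :=
    fun x y => Odd (orderOf (x.1 * y.1)) with hr
  have hinv : ∀ x, IsConj t x → x * x = 1 := by
    intro x hx
    obtain ⟨q, rfl⟩ := isConj_iff.1 hx
    have h := pow_orderOf_eq_one t
    rw [ht] at h
    rw [← pow_two, conj_pow, h, mul_one, mul_inv_cancel]
  have hsym : ∀ x y, r x y → r y x := by
    intro x y h
    have e : y.1 * x.1 = (x.1 * y.1)⁻¹ := by
      rw [mul_inv_rev, inv_eq_of_mul_eq_one_right (hinv _ x.2), inv_eq_of_mul_eq_one_right (hinv _ y.2)]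
    simp only [hr] at h ⊢
    rwa [e, orderOf_inv]
  refine CfsgLib.InvolChar.DiamTwo.connected_diam_two r hsym ?_ ?_
  · intro x y _ _
    obtain ⟨z, hz, h1, h2⟩ := CfsgLib.InvolChar.Switch.exists_common t x.1 y.1 (hinv _ x.2) (hinv _ y.2) x.2 y.2
      (by rwa [Fintype.card_fin])
    exact ⟨⟨z, hz⟩, h1, h2⟩
  · have ht1 : t ≠ 1 := fun e => by rw [e, orderOf_one] at ht; omega
    obtain ⟨t', hc, h2, hne, hcomm⟩ := exists_commuting t (hinv t (IsConj.refl t)) ht1 (by rwa [Fintype.card_fin])
    refine ⟨⟨t, IsConj.refl t⟩, ⟨t', hc⟩, fun e => hne (congrArg Subtype.val e).symm, ?_⟩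
    have ho : orderOf (t * t') = 2 := by
      refine orderOf_eq_prime (by rw [pow_two]; exact hcomm) fun e => hne ?_
      calc t' = t * t * t' := by rw [hinv t (IsConj.refl t), one_mul]
        _ = t := by rw [mul_assoc, e, mul_one]
    simp [hr, ho]

end Cfsg.Agent.S3265
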