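import Cfsg.Statements.S3266
import Mathlib
import Cfsg.Agent.Lib.InvolChar.DiamTwo
import Cfsg.Agent.Lib.InvolChar.TwoSL2
-- import your own Cfsg.Agent.* helpers here

set_option autoImplicit false
open Cfsg

namespace Cfsg.Agent.S3266


open Matrix
open scoped MatrixGroups

variable {F : Type*} [Field F] [Fintype F]

local notation "SL2" => Matrix.SpecialLinearGroup (Fin 2) F

/-- A matrix with an eigenvector. -/
def Line (M : Matrix (Fin 2) (Fin 2) F) : Prop :=
  ∃ v : Fin 2 → F, v ≠ 0 ∧ ∃ l : F, M *ᵥ v = l • v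

/-- The image in the projective group. -/
def mk (M : SL2) : Matrix.ProjectiveSpecialLinearGroup (Fin 2) F :=
  QuotientGroup.mk' (Subgroup.center _) M

theorem mk_mul (M N : SL2) : mk (M * N) = mk M * mk N := map_mul _ M N
theorem mk_pow (M : SL2) (n : ℕ) : mk (M ^ n) = mk M ^ n := map_pow _ M n

theorem mk_eq_one {M : SL2} : mk M = 1 ↔ M = 1 ∨ M = -1 := by
  rw [mk, QuotientGroup.mk'_apply, QuotientGroup.eq_one_iff, Matrix.SpecialLinearGroup.mem_center_iff]
  constructor
  · rintro ⟨r, hr, hM⟩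
    rw [Fintype.card_fin, pow_two] at hr
    rcases mul_self_eq_one_iff.1 hr with rfl | rfl
    · left; apply Subtype.ext; rw [← hM]; simp
    · right; apply Subtype.ext; rw [← hM, map_neg, map_one]; rfl
  · rintro (rfl | rfl)
    · exact ⟨1, by simp, by simp⟩
    · exact ⟨-1, by simp, by rw [map_neg, map_one]; rfl⟩

theorem invol_lift (x : Matrix.ProjectiveSpecialLinearGroup (Fin 2) F) (hx : orderOf x = 2) :
    ∃ M : SL2, mk M = x ∧ ¬ (M = 1 ∨ M = -1) ∧ (M * M = 1 ∨ M * M = -1) := by
  obtain ⟨M, rfl⟩ := QuotientGroup.mk'_surjective (Subgroup.center SL2) x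
  refine ⟨M, rfl, fun h => ?_, mk_eq_one.1 ?_⟩
  · rw [← mk_eq_one] at h
    rw [show (QuotientGroup.mk' (Subgroup.center SL2)) M = mk M from rfl, h, orderOf_one] at hx
    omega
  · have e := pow_orderOf_eq_one (mk M)
    rw [show orderOf (mk M) = 2 from hx, pow_two] at e
    rw [mk_mul]; exact e

/-! ### orders -/

theorem pow_triangular (M : SL2) (h : M.1 1 0 = 0) (n : ℕ) :
    (M ^ n).1 1 0 = 0 ∧ (M ^ n).1 0 0 = M.1 0 0 ^ n ∧ (M ^ n).1 1 1 = M.1 1 1 ^ n := by
  induction n with
  | zero => simp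
  | succ n ih =>
    obtain ⟨h1, h2, h3⟩ := ih
    rw [pow_succ]
    generalize M ^ n = N at h1 h2 h3 ⊢
    rw [Matrix.SpecialLinearGroup.coe_mul]
    refine ⟨?_, ?_, ?_⟩ <;> simp [Matrix.mul_apply, Fin.sum_univ_two, h, h1, h2, h3, pow_succ]

theorem pow_unipotent (M : SL2) (h : M.1.trace = 2) (n : ℕ) : (M ^ n).1 = 1 + (n : F) • (M.1 - 1) := by
  have hsq : (M.1 - 1) * (M.1 - 1) = 0 := by
    have := CfsgLib.InvolChar.ch_two M.1
    rw [h, M.2] at this
    rw [sub_mul, mul_sub, one_mul, mul_one, this]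
    module
  induction n with
  | zero => simp
  | succ n ih =>
    rw [pow_succ, Matrix.SpecialLinearGroup.coe_mul, ih]
    calc (1 + (n : F) • (M.1 - 1)) * M.1 = (1 + (n : F) • (M.1 - 1)) * ((M.1 - 1) + 1) := by rw [sub_add_cancel]
      _ = _ := by
        rw [mul_add, add_mul, smul_mul_assoc, hsq, smul_zero, mul_one, one_mul]
        push_cast
        module

theorem triangular_pow_one (M : SL2) (h : M.1 1 0 = 0) :
    M ^ ((Fintype.card F - 1) * Fintype.card F) = 1 := by
  have hdet := M.2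
  rw [Matrix.det_fin_two, h, mul_zero, sub_zero] at hdet
  obtain ⟨h1, h2, h3⟩ := pow_triangular M h (Fintype.card F - 1)
  rw [FiniteField.pow_card_sub_one_eq_one _ (left_ne_zero_of_mul_eq_one hdet)] at h2
  rw [FiniteField.pow_card_sub_one_eq_one _ (right_ne_zero_of_mul_eq_one hdet)] at h3
  refine Subtype.ext ?_
  rw [pow_mul, pow_unipotent _ (by rw [Matrix.trace_fin_two, h2, h3]; norm_num) (Fintype.card F),
    FiniteField.cast_card_eq_zero, zero_smul, add_zero]
  rfl

theorem line_pow_one (M : SL2) (h : Line M.1) : M ^ ((Fintype.card F - 1) * Fintype.card F) = 1 := by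
  obtain ⟨v, hv, l, hl⟩ := h
  have e0 : M.1 0 0 * v 0 + M.1 0 1 * v 1 = l * v 0 := by
    have := congrFun hl 0
    simpa [Matrix.mulVec, dotProduct, Fin.sum_univ_two] using this
  have e1 : M.1 1 0 * v 0 + M.1 1 1 * v 1 = l * v 1 := by
    have := congrFun hl 1
    simpa [Matrix.mulVec, dotProduct, Fin.sum_univ_two] using this
  by_cases hb : v 1 = 0
  · have ha : v 0 ≠ 0 := fun h0 => hv (by ext i; fin_cases i <;> simp [h0, hb])
    refine triangular_pow_one M ?_
    rw [hb, mul_zero, add_zero, mul_zero] at e1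
    exact (mul_eq_zero.1 e1).resolve_right ha
  · let P : SL2 := ⟨!![v 0, -(v 1)⁻¹; v 1, 0], by rw [Matrix.det_fin_two_of]; field_simp; ring⟩
    have hlow : (P⁻¹ * M * P).1 1 0 = 0 := by
      rw [Matrix.SpecialLinearGroup.coe_mul, Matrix.SpecialLinearGroup.coe_mul, Matrix.SpecialLinearGroup.coe_inv,
        Matrix.adjugate_fin_two]
      simp [P, Matrix.mul_apply, Matrix.vecMul, dotProduct, Fin.sum_univ_two]
      linear_combination (v 0) * e1 - (v 1) * e0
    have := triangular_pow_one _ hlow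
    rw [show P⁻¹ * M * P = P⁻¹ * M * (P⁻¹)⁻¹ by rw [inv_inv], conj_pow, inv_inv] at this
    calc M ^ ((Fintype.card F - 1) * Fintype.card F)
        = P * (P⁻¹ * M ^ ((Fintype.card F - 1) * Fintype.card F) * P) * P⁻¹ := by group
      _ = 1 := by rw [this, mul_one, mul_inv_cancel]

theorem line_odd (h3 : Fintype.card F % 4 = 3) (h2 : (2 : F) ≠ 0) (M : SL2) (h : Line M.1) :
    Odd (orderOf (mk M)) := by
  set N := (Fintype.card F - 1) / 2 * Fintype.card F with hN
  have hodd : Odd N := Nat.odd_mul.2 ⟨Nat.odd_iff.2 (by omega), Nat.odd_iff.2 (by omega)⟩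
  refine Odd.of_dvd_nat hodd (orderOf_dvd_of_pow_eq_one ?_)
  rw [← mk_pow, mk_eq_one]
  refine CfsgLib.InvolChar.sl_inv_only h2 _ ?_
  rw [← pow_add, show N + N = (Fintype.card F - 1) * Fintype.card F by
    rw [hN, ← add_mul]; congr 1; omega]
  exact line_pow_one M h

theorem trace_two_odd (hq : Odd (Fintype.card F)) (M : SL2) (h : M.1.trace = 2) : Odd (orderOf (mk M)) := by
  refine Odd.of_dvd_nat hq (orderOf_dvd_of_pow_eq_one ?_)
  rw [← mk_pow, mk_eq_one]
  left
  refine Subtype.ext ?_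
  rw [pow_unipotent M h, FiniteField.cast_card_eq_zero, zero_smul, add_zero]
  rfl

/-! ### sums over squares -/

open Classical in
theorem key_identity (hns : ¬ IsSquare (-1 : F)) (hq : 4 ≤ Fintype.card F) (α β γ : F)
    (hdet : α * α + β * γ = -1) (ha : α ≠ 0) (h3 : 3 * (α * α) + 1 ≠ 0) :
    ∃ x : F, x ≠ 0 ∧ γ * x - α ≠ 0 ∧ IsSquare (-(x * (α * x + β) / (γ * x - α))) ∧ α * x + β ≠ 0 := by
  have hbg : β * γ ≠ 0 := fun e => hns ⟨α, by rw [e, add_zero] at hdet; exact hdet.symm⟩
  have hb : β ≠ 0 := left_ne_zero_of_mul hbg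
  have hg : γ ≠ 0 := right_ne_zero_of_mul hbg
  have h2 : (2 : F) ≠ 0 := fun e => hns ⟨1, by rw [show (-1 : F) = 1 - 2 by ring, e]; ring⟩
  by_contra hno
  push_neg at hno
  set φ : F → F := fun x => x * (α * x + β) / (γ * x - α) with hφ
  set U := Finset.univ.filter fun x : F => x ≠ 0 ∧ α * x + β ≠ 0 ∧ γ * x - α ≠ 0 with hU
  set P := (Finset.univ : Finset F).erase 0 with hP
  set S := P.image (fun x => x * x) with hS
  have memU : ∀ x, x ∈ U ↔ x ≠ 0 ∧ α * x + β ≠ 0 ∧ γ * x - α ≠ 0 := fun x => by simp [hU]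
  -- fibres of squaring
  have sqfib : ∀ s ∈ S, ∃ r ∈ P, r ≠ -r ∧ P.filter (fun x => x * x = s) = {r, -r} ∧ r * r = s := by
    intro s hs
    obtain ⟨r, hr, rfl⟩ := Finset.mem_image.1 hs
    have hr0 : r ≠ 0 := (Finset.mem_erase.1 hr).1
    refine ⟨r, hr, fun e => hr0 ?_, ?_, rfl⟩
    · exact (mul_eq_zero.1 (show (2 : F) * r = 0 by linear_combination e)).resolve_left h2
    · ext x
      simp only [hP, Finset.mem_filter, Finset.mem_erase, Finset.mem_univ, and_true, Finset.mem_insert,
        Finset.mem_singleton, mul_self_eq_mul_self_iff]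
      exact ⟨fun h => h.2, fun h => ⟨by rcases h with rfl | rfl <;> simp [hr0], h⟩⟩
  have hcardS : 2 * S.card = Fintype.card F - 1 := by
    have := Finset.card_eq_sum_card_fiberwise (s := P) (t := S) (f := fun x => x * x)
      (fun x hx => Finset.mem_image_of_mem _ hx)
    rw [Finset.sum_congr rfl (fun s hs => by
      obtain ⟨r, -, hne, heq, -⟩ := sqfib s hs
      rw [heq, Finset.card_pair hne]), Finset.sum_const, smul_eq_mul] at this
    rw [hP, Finset.card_erase_of_mem (Finset.mem_univ _), Finset.card_univ] at this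
    omega
  have hsumS : ∑ s ∈ S, s = 0 := by
    have h1 := Finset.sum_fiberwise_of_maps_to (s := P) (t := S) (g := fun x => x * x)
      (fun x hx => Finset.mem_image_of_mem _ hx) (fun x => x * x)
    rw [Finset.sum_congr rfl (fun s hs => by
      obtain ⟨r, -, hne, heq, hrs⟩ := sqfib s hs
      rw [heq, Finset.sum_pair hne, neg_mul_neg, hrs, ← two_mul]), ← Finset.mul_sum, hP,
      Finset.sum_erase _ (by simp)] at h1
    have h2' := FiniteField.sum_pow_lt_card_sub_one (K := F) 2 (by omega)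
    simp only [pow_two] at h2'
    rw [h2'] at h1
    exact (mul_eq_zero.1 h1).resolve_left h2
  have hprodP : ∏ x ∈ P, x = -1 := by
    rw [show (-1 : F) = ((-1 : Fˣ) : F) by simp, ← FiniteField.prod_univ_units_id_eq_neg_one, Units.coe_prod]
    refine Finset.prod_bij' (fun x hx => Units.mk0 x (Finset.mem_erase.1 hx).1) (fun u _ => (u : F))
      (by simp) (by simp [hP]) (by simp) (by simp) (by simp)
  have hprodS : ∏ s ∈ S, s = 1 := by
    have h1 := Finset.prod_fiberwise_of_maps_to (s := P) (t := S) (g := fun x => x * x)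
      (fun x hx => Finset.mem_image_of_mem _ hx) (fun x => x)
    rw [Finset.prod_congr rfl (fun s hs => by
      obtain ⟨r, -, hne, heq, hrs⟩ := sqfib s hs
      rw [heq, Finset.prod_pair hne, mul_neg, hrs, neg_eq_neg_one_mul]), Finset.prod_mul_distrib,
      Finset.prod_const, hprodP] at h1
    have hS2 : ∃ w, ∏ s ∈ S, s = w * w := by
      refine Finset.prod_induction _ (fun v => ∃ w, v = w * w) ?_ ⟨1, by simp⟩ ?_
      · rintro _ _ ⟨a, rfl⟩ ⟨b, rfl⟩; exact ⟨a * b, by ring⟩
      · intro s hs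
        obtain ⟨r, -, rfl⟩ := Finset.mem_image.1 hs
        exact ⟨r, rfl⟩
    obtain ⟨w, hw⟩ := hS2
    rcases neg_one_pow_eq_or F S.card with e | e <;> rw [e] at h1
    · exfalso; exact hns ⟨w, by rw [← hw]; linear_combination -h1⟩
    · linear_combination -h1
  -- the partner of a point
  have hden : ∀ x, γ * x - α ≠ 0 →
      γ * ((α * x + β) / (γ * x - α)) - α = -1 / (γ * x - α) ∧
      α * ((α * x + β) / (γ * x - α)) + β = -x / (γ * x - α) := by
    intro x hx
    constructor
    · rw [mul_div_assoc', div_sub' hx]; congr 1; linear_combination hdet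
    · rw [mul_div_assoc', div_add' _ _ _ hx]; congr 1; linear_combination x * hdet
  set I := U.image φ with hI
  have hIS : I ⊆ S := by
    intro k hk
    obtain ⟨x, hx, rfl⟩ := Finset.mem_image.1 hk
    obtain ⟨h0, h1, h4⟩ := (memU x).1 hx
    have hne : φ x ≠ 0 := div_ne_zero (mul_ne_zero h0 h1) h4
    have hns' : ¬ IsSquare (-(φ x)) := fun hsq => h1 (hno x h0 h4 hsq)
    have hsq : IsSquare (φ x) := by
      by_contra hn'
      have hq2 : ringChar F ≠ 2 := fun e => h2 (by
        haveI := ringChar.of_eq e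
        exact CharTwo.two_eq_zero)
      have a1 := quadraticChar_neg_one_iff_not_isSquare.2 hns'
      have a2 := quadraticChar_neg_one_iff_not_isSquare.2 hn'
      have a3 := quadraticChar_neg_one_iff_not_isSquare.2 hns
      rw [neg_eq_neg_one_mul, map_mul, a2, a3] at a1
      norm_num at a1
    obtain ⟨r, hr⟩ := hsq
    refine Finset.mem_image.2 ⟨r, Finset.mem_erase.2 ⟨fun e => hne (by rw [hr, e, mul_zero]), Finset.mem_univ _⟩, hr.symm⟩
  have fib : ∀ k ∈ I, ∃ r r', r ≠ r' ∧ U.filter (fun x => φ x = k) = {r, r'} ∧ r * r' = k := by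
    intro k hk
    obtain ⟨x, hx, rfl⟩ := Finset.mem_image.1 hk
    obtain ⟨h0, h1, h4⟩ := (memU x).1 hx
    set x' := (α * x + β) / (γ * x - α) with hx'
    obtain ⟨d1, d2⟩ := hden x h4
    have hne : x ≠ x' := by
      intro e
      rw [hx', eq_div_iff h4] at e
      exact hns ⟨γ * x - α, by linear_combination -hdet - γ * e⟩
    have hx'U : x' ∈ U := (memU x').2 ⟨div_ne_zero h1 h4, by rw [d2]; exact div_ne_zero (neg_ne_zero.2 h0) h4,
      by rw [d1]; exact div_ne_zero (by norm_num) h4⟩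
    have hprod : φ x = x * x' := by rw [hφ, hx', mul_div_assoc']
    have hφ' : φ x' = φ x := by
      rw [hprod, mul_comm x x']
      show x' * (α * x' + β) / (γ * x' - α) = _
      rw [d1, d2]
      field_simp
      rw [mul_div_assoc, div_self (by rwa [mul_comm]), mul_one]
    have eqn : ∀ y ∈ U, φ y = φ x → y * (α * y + β) = φ x * (γ * y - α) := by
      intro y hy e
      rw [← e]
      exact (div_mul_cancel₀ _ ((memU y).1 hy).2.2).symm
    refine ⟨x, x', hne, ?_, hprod.symm⟩
    ext y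
    simp only [Finset.mem_filter, Finset.mem_insert, Finset.mem_singleton]
    constructor
    · rintro ⟨hy, e⟩
      by_contra hcon
      push_neg at hcon
      have q1 := eqn x hx rfl
      have q2 := eqn x' hx'U hφ'
      have q3 := eqn y hy e
      have s1 : (x - x') * (α * (x + x') + β - φ x * γ) = 0 := by linear_combination q1 - q2
      have s2 : (x - y) * (α * (x + y) + β - φ x * γ) = 0 := by linear_combination q1 - q3
      have t1 := (mul_eq_zero.1 s1).resolve_left (sub_ne_zero.2 hne)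
      have t2 := (mul_eq_zero.1 s2).resolve_left (sub_ne_zero.2 (Ne.symm hcon.1))
      have t3 : α * (y - x') = 0 := by linear_combination t2 - t1
      exact hcon.2 (sub_eq_zero.1 ((mul_eq_zero.1 t3).resolve_left ha))
    · rintro (rfl | rfl)
      · exact ⟨hx, rfl⟩
      · exact ⟨hx'U, hφ'⟩
  have hmaps : ∀ x ∈ U, φ x ∈ I := fun x hx => Finset.mem_image_of_mem _ hx
  have hUeq : U = P \ {-β / α, α / γ} := by
    ext x
    rw [memU]
    simp only [hP, Finset.mem_sdiff, Finset.mem_erase, Finset.mem_univ, and_true, Finset.mem_insert,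
      Finset.mem_singleton, not_or]
    refine ⟨fun ⟨p1, p2, p3⟩ => ⟨p1, fun e => p2 ?_, fun e => p3 ?_⟩, fun ⟨p1, p2, p3⟩ => ⟨p1, fun e => p2 ?_, fun e => p3 ?_⟩⟩
    · rw [e]; field_simp; ring
    · rw [e]; field_simp; ring
    · rw [eq_div_iff ha]; linear_combination e
    · rw [eq_div_iff hg]; linear_combination e
  have hpair : ({-β / α, α / γ} : Finset F) ⊆ P := by
    intro x hx
    simp only [Finset.mem_insert, Finset.mem_singleton] at hx
    rcases hx with rfl | rfl <;> simp [hP, ha, hb, hg]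
  have hneq : -β / α ≠ α / γ := by
    rw [Ne, div_eq_div_iff ha hg]
    intro e
    have : (-1 : F) = 0 := by linear_combination -hdet - e
    norm_num at this
  have hcardI : 2 * I.card = Fintype.card F - 3 := by
    have := Finset.card_eq_sum_card_fiberwise (s := U) (t := I) (f := φ) (fun x hx => hmaps x hx)
    rw [Finset.sum_congr rfl (fun k hk => by
      obtain ⟨r, r', hne, heq, -⟩ := fib k hk
      rw [heq, Finset.card_pair hne]), Finset.sum_const, smul_eq_mul, hUeq, Finset.card_sdiff_of_subset hpair,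
      Finset.card_pair hneq, hP, Finset.card_erase_of_mem (Finset.mem_univ _), Finset.card_univ] at this
    omega
  obtain ⟨k₀, hk₀⟩ : ∃ k₀, S \ I = {k₀} := Finset.card_eq_one.1 (by rw [Finset.card_sdiff_of_subset hIS]; omega)
  have hprodI : ∏ k ∈ I, k = γ / β := by
    have h1 := Finset.prod_fiberwise_of_maps_to hmaps (fun x => x)
    rw [Finset.prod_congr rfl (fun k hk => by
      obtain ⟨r, r', hne, heq, hrr⟩ := fib k hk
      rw [heq, Finset.prod_pair hne, hrr]), hUeq] at h1
    have h2' := Finset.prod_sdiff hpair (f := fun x : F => x)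
    rw [Finset.prod_pair hneq, ← h1, hprodP] at h2'
    field_simp at h2' ⊢
    linear_combination -h2'
  have hk0 : k₀ = β / γ := by
    have h1 := Finset.prod_sdiff hIS (f := fun x : F => x)
    rw [hk₀, Finset.prod_singleton, hprodI, hprodS] at h1
    field_simp at h1 ⊢
    linear_combination h1
  have hsumI : ∑ k ∈ I, k = -k₀ := by
    have h1 := Finset.sum_sdiff hIS (f := fun x : F => x)
    rw [hk₀, Finset.sum_singleton, hsumS] at h1
    linear_combination h1
  have hsumU : ∑ x ∈ U, φ x = 2 * ∑ k ∈ I, k := by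
    rw [← Finset.sum_fiberwise_of_maps_to hmaps φ, Finset.mul_sum]
    refine Finset.sum_congr rfl fun k hk => ?_
    obtain ⟨r, r', hne, heq, -⟩ := fib k hk
    rw [Finset.sum_congr rfl (fun x hx => (Finset.mem_filter.1 hx).2), Finset.sum_const, heq,
      Finset.card_pair hne]
    simp
  have hsumU' : ∑ x ∈ U, φ x = ∑ x : F, φ x := by
    refine Finset.sum_subset (Finset.subset_univ _) fun x _ hx => ?_
    rw [memU] at hx
    show x * (α * x + β) / (γ * x - α) = 0
    by_cases p1 : x = 0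
    · simp [p1]
    by_cases p2 : α * x + β = 0
    · simp [p2]
    · simp only [ne_eq, p1, not_false_eq_true, p2, true_and, not_not] at hx
      simp [hx]
  let e : F ≃ F := ⟨fun y => (y + α) / γ, fun x => γ * x - α,
    fun y => by field_simp; ring, fun x => by field_simp; ring⟩
  have hval : ∀ y, φ (e y) = (α * y + (α * α - 1) - α * y⁻¹ - (if y = 0 then α * α - 1 else 0)) * (γ * γ)⁻¹ := by
    intro y
    show (y + α) / γ * (α * ((y + α) / γ) + β) / (γ * ((y + α) / γ) - α) = _
    rw [mul_div_cancel₀ _ hg, add_sub_cancel_right]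
    by_cases hy : y = 0
    · simp [hy]
    · rw [if_neg hy, sub_zero]
      field_simp
      linear_combination (y + α) * hdet
  have htot : ∑ x : F, φ x = (1 - α * α) * (γ * γ)⁻¹ := by
    rw [← e.sum_comp φ, Finset.sum_congr rfl (fun y _ => hval y), ← Finset.sum_mul]
    congr 1
    rw [Finset.sum_sub_distrib, Finset.sum_sub_distrib, Finset.sum_add_distrib, ← Finset.mul_sum, ← Finset.mul_sum,
      Finset.sum_const, Finset.card_univ, nsmul_eq_mul, FiniteField.cast_card_eq_zero, Finset.sum_ite_eq']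
    have hx1 : ∑ x : F, x = 0 := by
      have := FiniteField.sum_pow_lt_card_sub_one (K := F) 1 (by omega)
      simpa using this
    have hx2 : ∑ x : F, x⁻¹ = 0 := by
      rw [← hx1]
      exact Equiv.sum_comp (Equiv.ofBijective (fun x : F => x⁻¹) inv_involutive.bijective) fun x => x
    rw [hx1, hx2]
    simp
  rw [hsumU, hsumI, hk0] at hsumU'
  rw [← hsumU'] at htot
  field_simp at htot
  exact h3 (by linear_combination htot + 2 * hdet)

/-! ### the three cases -/

theorem sq_neg_one_of_trace (M : SL2) (h : M.1.trace = 0) : M * M = -1 := by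
  refine Subtype.ext ?_
  rw [Matrix.SpecialLinearGroup.coe_mul, CfsgLib.InvolChar.ch_two, h, M.2]
  simp

def J : SL2 := ⟨!![0, -1; 1, 0], by simp [Matrix.det_fin_two_of]⟩

theorem J_sq : (J : SL2) * J = -1 := sq_neg_one_of_trace _ (by simp [J, Matrix.trace_fin_two])

theorem three_mod_four (h3 : Fintype.card F % 4 = 3) (hq : 4 ≤ Fintype.card F) (B : SL2) (hB : B * B = -1)
    (hline : ¬ Line ((J : SL2) * B).1) :
    ∃ C : SL2, C * C = -1 ∧ Line ((J : SL2) * C).1 ∧ Line (B * C).1 := by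
  classical
  have hns : ¬ IsSquare (-1 : F) := by rw [FiniteField.isSquare_neg_one_iff]; simp [h3]
  have h2 : (2 : F) ≠ 0 := fun e => hns ⟨1, by rw [show (-1 : F) = 1 - 2 by ring, e]; ring⟩
  have htr := CfsgLib.InvolChar.sl_trace_zero B hB
  rw [Matrix.trace_fin_two] at htr
  have hdet := B.2
  rw [Matrix.det_fin_two] at hdet
  obtain ⟨α, β, γ, hBm⟩ : ∃ α β γ, B.1 = !![α, β; γ, -α] :=
    ⟨B.1 0 0, B.1 0 1, B.1 1 0, by
      ext i j; fin_cases i <;> fin_cases j <;> simp [eq_neg_of_add_eq_zero_right htr]⟩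
  have hd : α * α + β * γ = -1 := by
    rw [hBm] at hdet; simp at hdet; linear_combination -hdet
  have hn : ∀ t : F, 1 + t * t ≠ 0 := fun t e => hns ⟨t, by linear_combination -e⟩
  -- rotations
  let g : F → Matrix (Fin 2) (Fin 2) F := fun t => !![1, t; -t, 1]
  let h : F → Matrix (Fin 2) (Fin 2) F := fun t => !![1, -t; t, 1]
  have gh : ∀ t, g t * h t = (1 + t * t) • (1 : Matrix (Fin 2) (Fin 2) F) := by
    intro t; ext i j; fin_cases i <;> fin_cases j <;> simp [g, h, Matrix.mul_apply, Fin.sum_univ_two] <;> ring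
  have hgm : ∀ t, h t * g t = (1 + t * t) • (1 : Matrix (Fin 2) (Fin 2) F) := by
    intro t; ext i j; fin_cases i <;> fin_cases j <;> simp [g, h, Matrix.mul_apply, Fin.sum_univ_two] <;> ring
  have hJ : ∀ t, (J : SL2).1 * h t = h t * (J : SL2).1 := by
    intro t; ext i j; fin_cases i <;> fin_cases j <;> simp [J, h, Matrix.mul_apply, Fin.sum_univ_two]
  let α' : F → F := fun t => (α * (1 - t * t) + t * (β + γ)) / (1 + t * t)
  let β' : F → F := fun t => (β - 2 * α * t - γ * (t * t)) / (1 + t * t)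
  let γ' : F → F := fun t => (γ - 2 * α * t - β * (t * t)) / (1 + t * t)
  let Bm : F → Matrix (Fin 2) (Fin 2) F := fun t => !![α' t, β' t; γ' t, -α' t]
  have rot : ∀ t, g t * B.1 = Bm t * g t := by
    intro t
    have := hn t
    have : 1 + t ^ 2 ≠ 0 := by rw [pow_two]; exact hn t
    rw [hBm]
    ext i j; fin_cases i <;> fin_cases j <;> simp [g, Bm, α', β', γ', Matrix.mul_apply, Fin.sum_univ_two] <;>
      field_simp <;> ring
  have rot2 : ∀ t, B.1 * h t = h t * Bm t := by
    intro t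
    have := hn t
    have : 1 + t ^ 2 ≠ 0 := by rw [pow_two]; exact hn t
    rw [hBm]
    ext i j; fin_cases i <;> fin_cases j <;> simp [h, Bm, α', β', γ', Matrix.mul_apply, Fin.sum_univ_two] <;>
      field_simp <;> ring
  have hd' : ∀ t, α' t * α' t + β' t * γ' t = -1 := by
    intro t
    have := hn t
    simp only [α', β', γ']
    rw [div_mul_div_comm, div_mul_div_comm, ← add_div, div_eq_iff (mul_ne_zero this this)]
    linear_combination (1 + t * t) ^ 2 * hd
  have hinj : ∀ t, ∀ v : Fin 2 → F, v ≠ 0 → h t *ᵥ v ≠ 0 := by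
    intro t v hv e
    apply hv
    have := congrArg (fun w => g t *ᵥ w) e
    simp only [Matrix.mulVec_mulVec, gh, Matrix.smul_mulVec, Matrix.one_mulVec, Matrix.mulVec_zero] at this
    exact (smul_eq_zero.1 this).resolve_left (hn t)
  have hα' : ∀ t, α' t ≠ 0 := by
    intro t e
    apply hline
    have e2 : ((J : SL2).1 * Bm t) *ᵥ ![1, 0] = (-γ' t) • ![1, 0] := by
      ext i; fin_cases i <;> simp [J, Bm, e, Matrix.mul_apply, Matrix.mulVec, dotProduct, Fin.sum_univ_two]
    refine ⟨h t *ᵥ ![1, 0], hinj t _ (fun q => by simpa using congrFun q 0), -γ' t, ?_⟩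
    rw [Matrix.SpecialLinearGroup.coe_mul, Matrix.mulVec_mulVec, mul_assoc, rot2, ← mul_assoc, hJ, mul_assoc,
      ← Matrix.mulVec_mulVec, e2, Matrix.mulVec_smul]
  obtain ⟨t, ht⟩ : ∃ t, 3 * (α' t * α' t) + 1 ≠ 0 := by
    by_contra hno
    push_neg at hno
    have h30 : (3 : F) ≠ 0 := fun e => by
      have := hno 0
      rw [e, zero_mul, zero_add] at this
      exact one_ne_zero this
    have ha0 : α ≠ 0 := by simpa [α'] using hα' 0
    have key : ∀ t, t = 0 ∨ t * (2 * α) = β + γ ∨ t * (β + γ) = -(2 * α) := by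
      intro t
      have e : (α' t) * (α' t) = α * α := by
        have h0 := hno 0
        have ht := hno t
        have : α' 0 = α := by simp [α']
        rw [this] at h0
        apply mul_left_cancel₀ h30
        linear_combination ht - h0
      rcases mul_self_eq_mul_self_iff.1 e with e' | e' <;> simp only [α', div_eq_iff (hn t)] at e'
      · rcases eq_or_ne t 0 with h0 | h0
        · exact Or.inl h0
        · refine Or.inr (Or.inl (mul_left_cancel₀ h0 ?_))
          linear_combination -e'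
      · refine Or.inr (Or.inr ?_)
        linear_combination e'
    have hsub : (Finset.univ : Finset F) ⊆ {0, (β + γ) / (2 * α), -(2 * α) / (β + γ)} := by
      intro t _
      simp only [Finset.mem_insert, Finset.mem_singleton]
      rcases key t with h0 | h1 | h2'
      · exact Or.inl h0
      · exact Or.inr (Or.inl (by rw [eq_div_iff (mul_ne_zero h2 ha0), h1]))
      · refine Or.inr (Or.inr ?_)
        have hs : β + γ ≠ 0 := fun e => by
          rw [e, mul_zero] at h2'
          exact mul_ne_zero h2 ha0 (neg_eq_zero.1 h2'.symm)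
        rw [eq_div_iff hs, h2']
    have := (Finset.card_le_card hsub).trans Finset.card_le_three
    rw [Finset.card_univ] at this
    omega
  obtain ⟨x, hx0, hden, ⟨s, hs⟩, hnum⟩ := key_identity hns hq (α' t) (β' t) (γ' t) (hd' t) (hα' t) ht
  have hs0 : s ≠ 0 := by
    rintro rfl
    rw [mul_zero, neg_eq_zero] at hs
    exact div_ne_zero (mul_ne_zero hx0 hnum) hden hs
  have hk : x * (α' t * x + β' t) = -(s * s) * (γ' t * x - α' t) := by
    have := neg_eq_iff_eq_neg.1 hs
    rwa [div_eq_iff hden] at this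
  let C' : SL2 := ⟨!![0, -s; s⁻¹, 0], by rw [Matrix.det_fin_two_of]; field_simp; ring⟩
  let Cm : Matrix (Fin 2) (Fin 2) F := (1 + t * t)⁻¹ • (h t * C'.1 * g t)
  have hCdet : Cm.det = 1 := by
    have e1 : (h t).det = 1 + t * t := by simp only [h, Matrix.det_fin_two_of]; ring
    have e2 : (g t).det = 1 + t * t := by simp only [g, Matrix.det_fin_two_of]; ring
    simp only [Cm, Matrix.det_smul, Matrix.det_mul, C'.2, mul_one, Fintype.card_fin, e1, e2]
    rw [pow_two, mul_assoc, inv_mul_cancel_left₀ (hn t), inv_mul_cancel₀ (hn t)]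
  let C : SL2 := ⟨Cm, hCdet⟩
  have hCh : C.1 * h t = h t * C'.1 := by
    show (1 + t * t)⁻¹ • (h t * C'.1 * g t) * h t = _
    rw [smul_mul_assoc, mul_assoc, gh, mul_smul_comm, mul_one, smul_smul, inv_mul_cancel₀ (hn t), one_smul]
  have hline' : ∀ (M M' : Matrix (Fin 2) (Fin 2) F), M * h t = h t * M' → Line (M' * C'.1) → Line (M * C.1) := by
    intro M M' hM ⟨v, hv, l, hl⟩
    refine ⟨h t *ᵥ v, hinj t v hv, l, ?_⟩
    rw [Matrix.mulVec_mulVec, mul_assoc, hCh, ← mul_assoc, hM, mul_assoc, ← Matrix.mulVec_mulVec, hl,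
      Matrix.mulVec_smul]
  refine ⟨C, ?_, hline' _ _ (hJ t) ?_, hline' _ _ (rot2 t) ?_⟩
  · refine sq_neg_one_of_trace C ?_
    show Cm.trace = 0
    rw [Matrix.trace_smul, Matrix.trace_mul_cycle, gh, smul_mul_assoc, one_mul, Matrix.trace_smul]
    simp [C', Matrix.trace_fin_two]
  · exact ⟨![1, 0], fun q => by simpa using congrFun q 0, -s⁻¹, by
      ext i; fin_cases i <;> simp [J, C', Matrix.mul_apply, Matrix.mulVec, dotProduct, Fin.sum_univ_two]⟩
  · refine ⟨![x, 1], fun q => by simpa using congrFun q 1, (γ' t * (-s) + (-α' t) * (s⁻¹ * x)), ?_⟩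
    ext i; fin_cases i <;> simp [Bm, C', Matrix.mul_apply, Matrix.mulVec, dotProduct, Fin.sum_univ_two]
    · field_simp
      linear_combination hk
    · ring

theorem one_mod_four (A B : SL2) (i : F) (hi : i * i = -1) (h2 : (2 : F) ≠ 0) (hA : A.1 = !![i, 0; 0, -i])
    (hB : B * B = -1) (hne : B ≠ A ∧ B ≠ -A) :
    ∃ C : SL2, C * C = -1 ∧ (A * C).1.trace = 2 ∧ (B * C).1.trace = 2 := by
  have htr := CfsgLib.InvolChar.sl_trace_zero B hB
  rw [Matrix.trace_fin_two] at htr
  have hb11 := eq_neg_of_add_eq_zero_right htr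
  have hi0 : i ≠ 0 := fun e => by rw [e, mul_zero] at hi; exact one_ne_zero (neg_eq_zero.1 hi.symm)
  by_cases hg : B.1 1 0 = 0
  · by_cases hb : B.1 0 1 = 0
    · exfalso
      have hdet := B.2
      rw [Matrix.det_fin_two, hg, hb, hb11] at hdet
      have hsq : B.1 0 0 * B.1 0 0 = i * i := by linear_combination -hdet - hi
      rcases mul_self_eq_mul_self_iff.1 hsq with e | e
      · apply hne.1; apply Subtype.ext; rw [hA]
        ext a b; fin_cases a <;> fin_cases b <;> simp [hg, hb, hb11, e]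
      · apply hne.2; apply Subtype.ext; rw [Matrix.SpecialLinearGroup.coe_neg, hA]
        ext a b; fin_cases a <;> fin_cases b <;> simp [hg, hb, hb11, e]
    · let c : F := (2 + 2 * i * B.1 0 0) / B.1 0 1
      refine ⟨⟨!![-i, 0; c, i], by rw [Matrix.det_fin_two_of]; linear_combination -hi⟩, ?_, ?_, ?_⟩
      · refine sq_neg_one_of_trace _ ?_; simp [Matrix.trace_fin_two]
      · show (A.1 * !![-i, 0; c, i]).trace = 2
        rw [hA, Matrix.trace_fin_two]
        simp [Matrix.mul_apply, Fin.sum_univ_two]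
        linear_combination -2 * hi
      · show (B.1 * !![-i, 0; c, i]).trace = 2
        rw [Matrix.trace_fin_two]
        simp [Matrix.mul_apply, Fin.sum_univ_two, hg, hb11, c]
        field_simp
        ring
  · let b : F := (2 + 2 * i * B.1 0 0) / B.1 1 0
    refine ⟨⟨!![-i, b; 0, i], by rw [Matrix.det_fin_two_of]; linear_combination -hi⟩, ?_, ?_, ?_⟩
    · refine sq_neg_one_of_trace _ ?_; simp [Matrix.trace_fin_two]
    · show (A.1 * !![-i, b; 0, i]).trace = 2
      rw [hA, Matrix.trace_fin_two]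
      simp [Matrix.mul_apply, Fin.sum_univ_two]
      linear_combination -2 * hi
    · show (B.1 * !![-i, b; 0, i]).trace = 2
      rw [Matrix.trace_fin_two]
      simp [Matrix.mul_apply, Fin.sum_univ_two, hb11, b]
      field_simp
      ring

/-! ### characteristic two -/

/-- A special linear matrix from its entries. -/
def mkSL (M : Matrix (Fin 2) (Fin 2) F) (h : M.det = 1) : SL2 := ⟨M, h⟩

theorem mkSL_val (M : Matrix (Fin 2) (Fin 2) F) (h : M.det = 1) : (mkSL M h).1 = M := rfl

def T2 : SL2 := mkSL !![1, 1; 0, 1] (by simp [Matrix.det_fin_two_of])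

theorem T2_val : (T2 : SL2).1 = !![1, 1; 0, 1] := rfl

theorem char_two_conj [CharP F 2] (M : SL2) (hM : M * M = 1) (h1 : M ≠ 1) :
    ∃ P : SL2, P * T2 * P⁻¹ = M := by
  have hsq : ∀ a : F, IsSquare a := fun a => FiniteField.isSquare_of_char_two ((ringChar.eq_iff).2 inferInstance) a
  have hr : (2 : F) = 0 := CharTwo.two_eq_zero
  have h00 := congrFun (congrFun (congrArg Subtype.val hM) 0) 0
  have h11 := congrFun (congrFun (congrArg Subtype.val hM) 1) 1
  simp [mkSL_val, Matrix.mul_apply, Fin.sum_univ_two] at h00 h11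
  have hd : M.1 1 1 = M.1 0 0 := by
    have : (M.1 1 1 - M.1 0 0) * (M.1 1 1 - M.1 0 0) = 0 := by
      linear_combination h11 - h00 + (M.1 0 0 * M.1 0 0 - M.1 0 0 * M.1 1 1) * hr
    exact sub_eq_zero.1 (mul_self_eq_zero.1 this)
  by_cases hc : M.1 1 0 = 0
  · have ha : M.1 0 0 = 1 := by
      have : (M.1 0 0 - 1) * (M.1 0 0 - 1) = 0 := by
        rw [hc, mul_zero, add_zero] at h00
        linear_combination h00 + (1 - M.1 0 0) * hr
      exact sub_eq_zero.1 (mul_self_eq_zero.1 this)
    obtain ⟨s, hs⟩ := hsq (M.1 0 1)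
    have hs0 : s ≠ 0 := by
      rintro rfl
      apply h1
      apply Subtype.ext
      ext i j; fin_cases i <;> fin_cases j <;> simp [ha, hd, hc, hs]
    refine ⟨mkSL !![s, 0; 0, s⁻¹] (by rw [Matrix.det_fin_two_of]; field_simp; ring), mul_inv_eq_iff_eq_mul.2 ?_⟩
    apply Subtype.ext
    ext i j; fin_cases i <;> fin_cases j <;> simp [T2_val, mkSL_val, Matrix.mul_apply, Fin.sum_univ_two, ha, hd, hc]
    rw [hs]; field_simp
  · obtain ⟨s, hs⟩ := hsq (M.1 1 0)
    have hs0 : s ≠ 0 := fun e => hc (by rw [hs, e, mul_zero])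
    refine ⟨mkSL !![(M.1 0 0 + 1) / s, 1 / s; s, 0] (by
      rw [Matrix.det_fin_two_of, mul_zero, zero_sub, one_div, inv_mul_cancel₀ hs0]; linear_combination -hr), mul_inv_eq_iff_eq_mul.2 ?_⟩
    apply Subtype.ext
    ext i j; fin_cases i <;> fin_cases j <;> simp [T2_val, mkSL_val, Matrix.mul_apply, Fin.sum_univ_two, hd]
    · field_simp
      linear_combination -h00 + (M.1 0 1) * hs
    · field_simp
      linear_combination hr
    · rw [hs]; field_simp; linear_combination -(M.1 0 0) * hr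
    · rw [hs]; field_simp

theorem trace_odd [CharP F 2] (M : SL2) (h : M.1.trace ≠ 0) : Odd (orderOf M) := by
  by_contra hn
  obtain ⟨k, hk⟩ := Nat.not_odd_iff_even.1 hn
  have hpos := orderOf_pos M
  have h1 : M ^ k ≠ 1 := fun e => by
    have := Nat.le_of_dvd (by omega) (orderOf_dvd_of_pow_eq_one e)
    omega
  obtain ⟨P, hP⟩ := char_two_conj (M ^ k) (by rw [← pow_add, ← hk, pow_orderOf_eq_one]) h1
  set N := P⁻¹ * M * P with hN
  have hc : N * T2 = T2 * N := by
    have hT : T2 = P⁻¹ * M ^ k * P := by rw [← hP]; group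
    rw [hN, hT]
    calc P⁻¹ * M * P * (P⁻¹ * M ^ k * P) = P⁻¹ * (M * M ^ k) * P := by group
      _ = P⁻¹ * (M ^ k * M) * P := by rw [← pow_succ', pow_succ]
      _ = P⁻¹ * M ^ k * P * (P⁻¹ * M * P) := by group
  have e0 := congrFun (congrFun (congrArg Subtype.val hc) 0) 0
  have e1 := congrFun (congrFun (congrArg Subtype.val hc) 0) 1
  simp [T2_val, mkSL_val, Matrix.mul_apply, Fin.sum_univ_two] at e0 e1
  have htr : N.1.trace = M.1.trace := by
    rw [hN, Matrix.SpecialLinearGroup.coe_mul, Matrix.SpecialLinearGroup.coe_mul, Matrix.trace_mul_cycle,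
      ← Matrix.SpecialLinearGroup.coe_mul, mul_inv_cancel, Matrix.SpecialLinearGroup.coe_one, one_mul]
  apply h
  rw [← htr, Matrix.trace_fin_two]
  linear_combination -e1 + (N.1 0 0) * (CharTwo.two_eq_zero : (2 : F) = 0)

theorem mk_conj (g M : SL2) : mk (g * M * g⁻¹) = mk g * mk M * (mk g)⁻¹ := by
  rw [mk_mul, mk_mul]; rfl

theorem odd_conj {g M N : SL2} : Odd (orderOf (mk (g * M * g⁻¹ * (g * N * g⁻¹)))) ↔ Odd (orderOf (mk (M * N))) := by
  rw [show g * M * g⁻¹ * (g * N * g⁻¹) = g * (M * N) * g⁻¹ by group, mk_conj]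
  rw [show mk g * mk (M * N) * (mk g)⁻¹ = MulAut.conj (mk g) (mk (M * N)) from rfl, MulEquiv.orderOf_eq]

theorem sl_common (hq : 4 ≤ Fintype.card F) (h2 : (2 : F) ≠ 0) (A B : SL2) (hA : A * A = -1) (hB : B * B = -1)
    (hne : B ≠ A ∧ B ≠ -A) (hnadj : ¬ Odd (orderOf (mk (A * B)))) :
    ∃ C : SL2, C * C = -1 ∧ Odd (orderOf (mk (A * C))) ∧ Odd (orderOf (mk (B * C))) := by
  have hodd : Fintype.card F % 2 = 1 := FiniteField.odd_card_of_char_ne_two fun e => h2 (by
    haveI := ringChar.of_eq e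
    exact CharTwo.two_eq_zero)
  have conj_sq : ∀ g M : SL2, M * M = -1 → g * M * g⁻¹ * (g * M * g⁻¹) = -1 := by
    intro g M hM
    rw [show g * M * g⁻¹ * (g * M * g⁻¹) = g * (M * M) * g⁻¹ by group, hM]
    simp
  have back : ∀ g A' : SL2, g * A * g⁻¹ = A' →
      (∃ C : SL2, C * C = -1 ∧ Odd (orderOf (mk (A' * C))) ∧ Odd (orderOf (mk (g * B * g⁻¹ * C)))) →
      ∃ C : SL2, C * C = -1 ∧ Odd (orderOf (mk (A * C))) ∧ Odd (orderOf (mk (B * C))) := by
    rintro g A' rfl ⟨C, hC, c1, c2⟩
    have e : g * (g⁻¹ * C * g) * g⁻¹ = C := by group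
    refine ⟨g⁻¹ * C * g, by simpa using conj_sq g⁻¹ C hC, ?_, ?_⟩
    · rw [← odd_conj (g := g), e]; exact c1
    · rw [← odd_conj (g := g), e]; exact c2
  rcases (show Fintype.card F % 4 = 1 ∨ Fintype.card F % 4 = 3 by omega) with h1 | h3
  · obtain ⟨i, hi⟩ : IsSquare (-1 : F) := by rw [FiniteField.isSquare_neg_one_iff]; omega
    let D : SL2 := mkSL !![i, 0; 0, -i] (by rw [Matrix.det_fin_two_of]; linear_combination hi)
    obtain ⟨g, hg⟩ := CfsgLib.InvolChar.sl_conj h2 A D hA (sq_neg_one_of_trace _ (by simp [D, mkSL_val, Matrix.trace_fin_two]))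
    refine back g D hg ?_
    have n1 : g * B * g⁻¹ ≠ D := fun e => hne.1 (by
      rw [← hg] at e
      exact mul_left_cancel (mul_right_cancel e))
    have n2 : g * B * g⁻¹ ≠ -D := fun e => hne.2 (by
      rw [← hg] at e
      apply mul_left_cancel (a := g)
      apply mul_right_cancel (b := g⁻¹)
      rw [e]; simp)
    obtain ⟨C, hC, t1, t2⟩ := one_mod_four D (g * B * g⁻¹) i hi.symm h2 rfl (conj_sq g B hB) ⟨n1, n2⟩
    exact ⟨C, hC, trace_two_odd (Nat.odd_iff.2 hodd) _ t1, trace_two_odd (Nat.odd_iff.2 hodd) _ t2⟩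
  · obtain ⟨g, hg⟩ := CfsgLib.InvolChar.sl_conj h2 A J hA J_sq
    refine back g J hg ?_
    obtain ⟨C, hC, l1, l2⟩ := three_mod_four h3 hq (g * B * g⁻¹) (conj_sq g B hB) fun hl => hnadj (by
      have := line_odd h3 h2 _ hl
      rwa [← hg, odd_conj] at this)
    exact ⟨C, hC, line_odd h3 h2 _ l1, line_odd h3 h2 _ l2⟩

theorem char_two_common [CharP F 2] (A B : SL2) (hA : A * A = 1) (hA1 : A ≠ 1) (hB : B * B = 1)
    (hB1 : B ≠ 1) : ∃ C : SL2, C * C = 1 ∧ C ≠ 1 ∧ Odd (orderOf (A * C)) ∧ Odd (orderOf (B * C)) := by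
  obtain ⟨P, hP⟩ := char_two_conj A hA hA1
  have hr : (2 : F) = 0 := CharTwo.two_eq_zero
  set B' := P⁻¹ * B * P with hB'
  have hB'sq : B' * B' = 1 := by
    rw [hB', show P⁻¹ * B * P * (P⁻¹ * B * P) = P⁻¹ * (B * B) * P by group, hB, mul_one, inv_mul_cancel]
  have hB'1 : B' ≠ 1 := fun e => hB1 (by
    calc B = P * B' * P⁻¹ := by rw [hB']; group
      _ = 1 := by rw [e, mul_one, mul_inv_cancel])
  suffices ∃ C : SL2, C * C = 1 ∧ C ≠ 1 ∧ (T2 * C).1.trace ≠ 0 ∧ (B' * C).1.trace ≠ 0 by
    obtain ⟨C, hC, hC1, t1, t2⟩ := this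
    refine ⟨P * C * P⁻¹, ?_, fun e => hC1 ?_, ?_, ?_⟩
    · rw [show P * C * P⁻¹ * (P * C * P⁻¹) = P * (C * C) * P⁻¹ by group, hC, mul_one, mul_inv_cancel]
    · calc C = P⁻¹ * (P * C * P⁻¹) * P := by group
        _ = 1 := by rw [e, mul_one, inv_mul_cancel]
    · rw [← hP, show P * T2 * P⁻¹ * (P * C * P⁻¹) = MulAut.conj P (T2 * C) by simp [mul_assoc],
        MulEquiv.orderOf_eq]
      exact trace_odd _ t1
    · rw [show B * (P * C * P⁻¹) = MulAut.conj P (B' * C) by simp [hB', mul_assoc], MulEquiv.orderOf_eq]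
      exact trace_odd _ t2
  obtain ⟨Q, hQ⟩ := char_two_conj B' hB'sq hB'1
  have hd : B'.1 0 0 + B'.1 1 1 = 0 := by
    rw [← Matrix.trace_fin_two, ← hQ, Matrix.SpecialLinearGroup.coe_mul, Matrix.SpecialLinearGroup.coe_mul,
      Matrix.trace_mul_cycle, ← Matrix.SpecialLinearGroup.coe_mul, inv_mul_cancel, Matrix.SpecialLinearGroup.coe_one,
      one_mul, Matrix.trace_fin_two]
    simp [T2_val]
    linear_combination hr
  by_cases hb : B'.1 0 1 = 0
  · refine ⟨mkSL !![0, 1; 1, 0] (by rw [Matrix.det_fin_two_of]; linear_combination -hr), ?_, ?_, ?_, ?_⟩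
    · apply Subtype.ext; ext i j; fin_cases i <;> fin_cases j <;> simp [mkSL_val, Matrix.mul_apply, Fin.sum_univ_two]
    · intro e
      have := congrFun (congrFun (congrArg Subtype.val e) 0) 1
      simp [mkSL_val] at this
    · simp [T2_val, mkSL_val, Matrix.trace_fin_two, Matrix.mul_apply, Fin.sum_univ_two]
    · simp [mkSL_val, Matrix.trace_fin_two, Matrix.mul_apply, Fin.sum_univ_two, hb]
      intro hc
      have h00 := congrFun (congrFun (congrArg Subtype.val hB'sq) 0) 0
      simp [mkSL_val, Matrix.mul_apply, Fin.sum_univ_two, hb] at h00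
      have e00 : B'.1 0 0 = 1 := by
        rcases mul_self_eq_one_iff.1 h00 with e | e
        · exact e
        · rw [e]; linear_combination -hr
      apply hB'1
      apply Subtype.ext
      ext i j; fin_cases i <;> fin_cases j <;> simp [hb, hc, e00]
      linear_combination hd - e00 - hr
  · refine ⟨mkSL !![1, 0; 1, 1] (by simp [Matrix.det_fin_two_of]), ?_, ?_, ?_, ?_⟩
    · apply Subtype.ext; ext i j; fin_cases i <;> fin_cases j <;>
        simp [mkSL_val, Matrix.mul_apply, Fin.sum_univ_two] <;> linear_combination hr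
    · intro e
      have := congrFun (congrFun (congrArg Subtype.val e) 1) 0
      simp [mkSL_val] at this
    · simp [T2_val, mkSL_val, Matrix.trace_fin_two, Matrix.mul_apply, Fin.sum_univ_two]
      intro e
      exact one_ne_zero (show (1 : F) = 0 by linear_combination e - hr)
    · simp [mkSL_val, Matrix.trace_fin_two, Matrix.mul_apply, Fin.sum_univ_two]
      intro e
      exact hb (by linear_combination e - hd)


/-- Let F be a finite field with at least 4 elements and let X be a conjugacy class of involutions of PSL(2, F). The graph on X joining two distinct involutions whose product has odd order is connected and has diameter exactly 2. -/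
theorem result {F : Type*} [Field F] [Fintype F] (hF : 4 ≤ Fintype.card F)
    (t : Matrix.ProjectiveSpecialLinearGroup (Fin 2) F) (ht : orderOf t = 2) :
    (SimpleGraph.fromRel fun x y : {x : Matrix.ProjectiveSpecialLinearGroup (Fin 2) F // IsConj t x} =>
        Odd (orderOf (x.1 * y.1))).Connected ∧
      (SimpleGraph.fromRel fun x y : {x : Matrix.ProjectiveSpecialLinearGroup (Fin 2) F // IsConj t x} =>
        Odd (orderOf (x.1 * y.1))).diam = 2 := by
  classical
  set r : {x : Matrix.ProjectiveSpecialLinearGroup (Fin 2) F // IsConj t x} →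
      {x : Matrix.ProjectiveSpecialLinearGroup (Fin 2) F // IsConj t x} → Prop :=
    fun x y => Odd (orderOf (x.1 * y.1)) with hr
  have hord : ∀ x, IsConj t x → orderOf x = 2 := by
    intro x hx
    obtain ⟨q, rfl⟩ := isConj_iff.1 hx
    rw [show q * t * q⁻¹ = MulAut.conj q t from rfl, MulEquiv.orderOf_eq, ht]
  have hinv : ∀ x, IsConj t x → x⁻¹ = x := fun x hx => by
    refine inv_eq_of_mul_eq_one_right ?_
    have := pow_orderOf_eq_one x
    rwa [hord x hx, pow_two] at this
  have hsym : ∀ x y, r x y → r y x := by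
    intro x y h
    have e : y.1 * x.1 = (x.1 * y.1)⁻¹ := by rw [_root_.mul_inv_rev, hinv _ x.2, hinv _ y.2]
    simp only [hr] at h ⊢
    rwa [e, orderOf_inv]
  refine CfsgLib.InvolChar.DiamTwo.connected_diam_two r hsym ?_ ?_
  all_goals by_cases h2 : (2 : F) = 0
  · haveI : CharP F 2 := CharTwo.of_one_ne_zero_of_two_eq_zero one_ne_zero h2
    intro x y _ _
    have mkinj : ∀ M : Matrix.SpecialLinearGroup (Fin 2) F, mk M = 1 → M = 1 := by
      intro M hM
      rcases mk_eq_one.1 hM with e | e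
      · exact e
      · rw [e]; apply Subtype.ext; ext i j; simp [CharTwo.neg_eq]
    have hneg : (-1 : Matrix.SpecialLinearGroup (Fin 2) F) = 1 := mkinj _ (mk_eq_one.2 (Or.inr rfl))
    obtain ⟨A, hA, hA1, hA2⟩ := invol_lift x.1 (hord _ x.2)
    obtain ⟨B, hB, hB1, hB2⟩ := invol_lift y.1 (hord _ y.2)
    obtain ⟨T, hT, hT1, hT2⟩ := invol_lift t ht
    rw [hneg, or_self] at hA1 hA2 hB1 hB2 hT1 hT2
    obtain ⟨C, hC, hC1, o1, o2⟩ := char_two_common A B hA2 hA1 hB2 hB1
    obtain ⟨P, hP⟩ := char_two_conj C hC hC1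
    obtain ⟨Q, hQ⟩ := char_two_conj T hT2 hT1
    have hz : IsConj t (mk C) := by
      refine isConj_iff.2 ⟨mk (P * Q⁻¹), ?_⟩
      rw [← hT, ← mk_conj, ← hQ, ← hP]
      congr 1
      group
    refine ⟨⟨mk C, hz⟩, ?_, ?_⟩
    · show Odd (orderOf (x.1 * mk C))
      rw [← hA, ← mk_mul]
      exact o1.of_dvd_nat (orderOf_map_dvd _ _)
    · show Odd (orderOf (y.1 * mk C))
      rw [← hB, ← mk_mul]
      exact o2.of_dvd_nat (orderOf_map_dvd _ _)
  · intro x y hxy hnr
    obtain ⟨A, hA, hA1, hA2⟩ := invol_lift x.1 (hord _ x.2)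
    obtain ⟨B, hB, hB1, hB2⟩ := invol_lift y.1 (hord _ y.2)
    obtain ⟨T, hT, hT1, hT2⟩ := invol_lift t ht
    have fix : ∀ M : Matrix.SpecialLinearGroup (Fin 2) F, ¬ (M = 1 ∨ M = -1) → (M * M = 1 ∨ M * M = -1) → M * M = -1 :=
      fun M h1 h => h.resolve_left fun e => h1 (CfsgLib.InvolChar.sl_inv_only h2 M e)
    have hA3 := fix A hA1 hA2
    obtain ⟨C, hC, o1, o2⟩ := sl_common hF h2 A B hA3 (fix B hB1 hB2)
      ⟨fun e => hxy (Subtype.ext (by rw [← hA, ← hB, e])), fun e => hxy (Subtype.ext (by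
        rw [← hA, ← hB, e, show (-A : Matrix.SpecialLinearGroup (Fin 2) F) = A * -1 by simp, mk_mul, mk_eq_one.2 (Or.inr rfl), mul_one]))⟩
      (fun h => hnr (by show Odd _; rw [← hA, ← hB, ← mk_mul]; exact h))
    obtain ⟨g, hg⟩ := CfsgLib.InvolChar.sl_conj h2 T C (fix T hT1 hT2) hC
    refine ⟨⟨mk C, isConj_iff.2 ⟨mk g, by rw [← hT, ← mk_conj, hg]⟩⟩, ?_, ?_⟩
    · show Odd _
      rw [← hA, ← mk_mul]; exact o1
    · show Odd _
      rw [← hB, ← mk_mul]; exact o2
  · haveI : CharP F 2 := CharTwo.of_one_ne_zero_of_two_eq_zero one_ne_zero h2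
    obtain ⟨s, -, hs⟩ := Finset.exists_mem_notMem_of_card_lt_card
      (show ({0, 1} : Finset F).card < (Finset.univ : Finset F).card by
        rw [Finset.card_pair zero_ne_one, Finset.card_univ]; omega)
    simp only [Finset.mem_insert, Finset.mem_singleton, not_or] at hs
    let M : F → Matrix.SpecialLinearGroup (Fin 2) F := fun a => mkSL !![1, a; 0, 1] (by simp [Matrix.det_fin_two_of])
    have hmul : ∀ a b, M a * M b = M (a + b) := fun a b => by
      apply Subtype.ext; ext i j; fin_cases i <;> fin_cases j <;> simp [M, mkSL_val, Matrix.mul_apply, Fin.sum_univ_two, add_comm]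
    have hM0 : M 0 = 1 := by
      apply Subtype.ext; ext i j; fin_cases i <;> fin_cases j <;> simp [M, mkSL_val]
    have hne : ∀ a, a ≠ 0 → mk (M a) ≠ 1 := fun a ha e => by
      rcases mk_eq_one.1 e with q | q <;>
        have := congrFun (congrFun (congrArg Subtype.val q) 0) 1 <;> simp [M, mkSL_val] at this <;> exact ha this
    have hsq : ∀ a, mk (M a) ^ 2 = 1 := fun a => by
      rw [← mk_pow, pow_two, hmul, CharTwo.add_self_eq_zero, hM0]; exact mk_eq_one.2 (Or.inl rfl)
    have hconj : ∀ a, a ≠ 0 → IsConj t (mk (M a)) := by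
      intro a ha
      obtain ⟨T, hT, hT1, hT2⟩ := invol_lift t ht
      have hneg : (-1 : Matrix.SpecialLinearGroup (Fin 2) F) = 1 := by
        apply Subtype.ext; ext i j; simp [CharTwo.neg_eq]
      rw [hneg, or_self] at hT1 hT2
      obtain ⟨P, hP⟩ := char_two_conj (M a) (by rw [hmul, CharTwo.add_self_eq_zero, hM0])
        (fun e => hne a ha (by rw [e]; exact mk_eq_one.2 (Or.inl rfl)))
      obtain ⟨Q, hQ⟩ := char_two_conj T hT2 hT1
      refine isConj_iff.2 ⟨mk (P * Q⁻¹), ?_⟩
      rw [← hT, ← mk_conj, ← hQ, ← hP]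
      congr 1
      group
    have h1s : (1 : F) + s ≠ 0 := fun e => hs.2 (CharTwo.add_eq_zero.1 e).symm
    refine ⟨⟨mk (M 1), hconj 1 one_ne_zero⟩, ⟨mk (M s), hconj s hs.1⟩, fun e => h1s ?_, ?_⟩
    · have e' : mk (M 1) = mk (M s) := congrArg Subtype.val e
      by_contra h0
      apply hne _ h0
      rw [← hmul, mk_mul, e', ← pow_two, hsq]
    · show ¬ Odd _
      rw [← mk_mul, hmul, orderOf_eq_prime (hsq _) (hne _ h1s)]
      decide
  · obtain ⟨a, b, hab⟩ := CfsgLib.Classical.exists_mul_sq_add_mul_sq h2 one_ne_zero one_ne_zero (-1 : F)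
    let B : Matrix.SpecialLinearGroup (Fin 2) F := ⟨!![a, b; b, -a], by rw [Matrix.det_fin_two_of]; linear_combination -hab⟩
    have hB : B * B = -1 := sq_neg_one_of_trace _ (by simp [B, Matrix.trace_fin_two])
    obtain ⟨T, hT, hT1, hT2⟩ := invol_lift t ht
    have hT3 : T * T = -1 := hT2.resolve_left fun e => hT1 (CfsgLib.InvolChar.sl_inv_only h2 T e)
    have hconj : ∀ M : Matrix.SpecialLinearGroup (Fin 2) F, M * M = -1 → IsConj t (mk M) := fun M hM => by
      obtain ⟨g, hg⟩ := CfsgLib.InvolChar.sl_conj h2 T M hT3 hM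
      exact isConj_iff.2 ⟨mk g, by rw [← hT, ← mk_conj, hg]⟩
    have htr : ((J : Matrix.SpecialLinearGroup (Fin 2) F) * B).1.trace = 0 := by
      show (!![0, -1; 1, 0] * !![a, b; b, -a] : Matrix (Fin 2) (Fin 2) F).trace = 0
      simp [Matrix.trace_fin_two, Matrix.mul_apply, Fin.sum_univ_two]
    have h2' := sq_neg_one_of_trace _ htr
    have hne : mk (J * B) ≠ 1 := fun e => by
      have hx := htr
      rcases mk_eq_one.1 e with q | q <;> rw [q] at hx <;> simp at hx <;> exact h2 (by linear_combination hx)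
    refine ⟨⟨mk J, hconj J J_sq⟩, ⟨mk B, hconj B hB⟩, fun e => hne ?_, ?_⟩
    · have e' : mk (J : Matrix.SpecialLinearGroup (Fin 2) F) = mk B := congrArg Subtype.val e
      rw [mk_mul, e', ← mk_mul, hB]
      exact mk_eq_one.2 (Or.inr rfl)
    · show ¬ Odd _
      rw [← mk_mul, orderOf_eq_prime (p := 2) ?_ hne]
      · decide
      · rw [← mk_pow, pow_two, h2']; exact mk_eq_one.2 (Or.inr rfl)

end Cfsg.Agent.S3266
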