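import Cfsg.Statements.S3269
import Mathlib
import Cfsg.Agent.S0215
import Cfsg.Agent.Lib.Invol.Quaternion
import Cfsg.Agent.Lib.InvolChar.Basic
-- import your own Cfsg.Agent.* helpers here

set_option autoImplicit false
open Cfsg

namespace Cfsg.Agent.S3269


/-- A characteristic central involution of a direct product of a quaternion group and a group with
central involutions. -/
theorem exists_fixed_involution {P : Type*} [Group P] [Finite P] (hP : IsPGroup 2 P) (Q R : Subgroup P)
    (hcomm : ∀ a ∈ Q, ∀ b ∈ R, a * b = b * a) (hdis : Q ⊓ R = ⊥) (htop : Q ⊔ R = ⊤)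
    (z : P) (hzQ : z ∈ Q) (hz : orderOf z = 2) (huniq : ∀ s ∈ Q, orderOf s = 2 → s = z)
    (hsq : ∃ y ∈ Q, y * y = z)
    (hC : ∀ s ∈ Q, s ≠ 1 → s ≠ z → ∀ t ∈ Q, ∀ u ∈ Q, t * s = s * t → u * s = s * u → t * u = u * t)
    (hna : ∃ a ∈ Q, ∃ b ∈ Q, a * b ≠ b * a) (h8 : 4 < Nat.card ↥Q)
    (hR : ∀ r ∈ R, orderOf r = 2 → ∀ s ∈ R, r * s = s * r) :
    (∀ u : P, orderOf u = 2 → u ∈ Subgroup.center P) ∧
      ∃ w : P, orderOf w = 2 ∧ ∀ φ : P ≃* P, φ w = w := by
  classical
  have hz2 : z * z = 1 := CfsgLib.Invol.mul_self_of_orderOf_two hz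
  have hz1 : z ≠ 1 := CfsgLib.Invol.ne_one_of_orderOf_two hz
  have hcenQ : ∀ s ∈ Q, (∀ t ∈ Q, t * s = s * t) → s = 1 ∨ s = z := by
    intro s hs hall
    by_contra h
    push Not at h
    obtain ⟨a, ha, b, hb, hab⟩ := hna
    exact hab (hC s hs h.1 h.2 a ha b hb (hall a ha) (hall b hb))
  have hzpow : ∀ s ∈ Q, s ≠ 1 → z ∈ Subgroup.zpowers s := by
    intro s hs hs1
    obtain ⟨k, hk⟩ := (IsPGroup.iff_orderOf (p := 2)).1 hP s
    rcases k with _ | k
    · rw [pow_zero] at hk; exact absurd (orderOf_eq_one_iff.1 hk) hs1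
    · have h2 : orderOf (s ^ (2 ^ k)) = 2 := by
        rw [orderOf_pow, hk, pow_succ, Nat.gcd_eq_right ⟨2, rfl⟩, Nat.mul_div_cancel_left _ (by positivity)]
      rw [← huniq _ (pow_mem hs _) h2]
      exact pow_mem (Subgroup.mem_zpowers s) _
  -- coordinates
  let μ : ↥Q × ↥R →* P := MonoidHom.noncommCoprod Q.subtype R.subtype (fun a b => hcomm a a.2 b b.2)
  have hμinj : Function.Injective μ := by
    rw [injective_iff_map_eq_one]
    rintro ⟨a, b⟩ h
    have h' : (a : P) * (b : P) = 1 := h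
    have haR : (a : P) ∈ R := by rw [eq_inv_of_mul_eq_one_left h']; exact inv_mem b.2
    have ha : (a : P) = 1 := Subgroup.mem_bot.1 (hdis ▸ Subgroup.mem_inf.2 ⟨a.2, haR⟩)
    rw [ha, one_mul] at h'
    exact Prod.ext (Subtype.ext ha) (Subtype.ext h')
  have hμsurj : Function.Surjective μ := by
    rw [← MonoidHom.range_eq_top, eq_top_iff, ← htop]
    refine sup_le (fun a ha => ⟨(⟨a, ha⟩, 1), ?_⟩) (fun b hb => ⟨(1, ⟨b, hb⟩), ?_⟩)
    · show a * ((1 : ↥R) : P) = a
      simp
    · show ((1 : ↥Q) : P) * b = b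
      simp
  let E : ↥Q × ↥R ≃* P := MulEquiv.ofBijective μ ⟨hμinj, hμsurj⟩
  let πQ : P →* ↥Q := (MonoidHom.fst _ _).comp E.symm.toMonoidHom
  let πR : P →* ↥R := (MonoidHom.snd _ _).comp E.symm.toMonoidHom
  have hdec : ∀ p, p = (πQ p : P) * (πR p : P) := fun p => (E.apply_symm_apply p).symm
  have hπq : ∀ a (ha : a ∈ Q), (πQ a : P) = a := by
    intro a ha
    have : E.symm a = (⟨a, ha⟩, 1) := by
      rw [MulEquiv.symm_apply_eq]
      show a = a * ((1 : ↥R) : P)
      simp
    show ((E.symm a).1 : P) = a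
    rw [this]
  have hπr : ∀ b ∈ R, (πQ b : P) = 1 := by
    intro b hb
    have : E.symm b = (1, ⟨b, hb⟩) := by
      rw [MulEquiv.symm_apply_eq]
      show b = ((1 : ↥Q) : P) * b
      simp
    show ((E.symm b).1 : P) = 1
    rw [this]; rfl
  have hqz : ∀ q ∈ Q, q * q = 1 → q = 1 ∨ q = z := fun q hq h => by
    by_cases h1 : q = 1
    · exact Or.inl h1
    · exact Or.inr (huniq q hq (orderOf_eq_prime (by rw [sq, h]) h1))
  have hzZ : z ∈ Subgroup.center P := by
    rw [Subgroup.mem_center_iff]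
    intro p
    have hzq : ∀ q ∈ Q, q * z = z * q := by
      intro q hq
      by_cases h1 : q = 1
      · rw [h1, one_mul, mul_one]
      · obtain ⟨k, hk⟩ := Subgroup.mem_zpowers_iff.1 (hzpow q hq h1)
        rw [← hk]; exact (Commute.self_zpow q k).eq
    rw [hdec p, mul_assoc, ← hcomm z hzQ _ (πR p).2, ← mul_assoc, hzq _ (πQ p).2, mul_assoc]
  have hcen : ∀ u : P, orderOf u = 2 → u ∈ Subgroup.center P := by
    intro u hu
    have hu2 := CfsgLib.Invol.mul_self_of_orderOf_two hu
    have h1 : πQ u * πQ u = 1 := by rw [← map_mul, hu2, map_one]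
    have h2 : πR u * πR u = 1 := by rw [← map_mul, hu2, map_one]
    have hr : ∀ s ∈ R, (πR u : P) * s = s * πR u := by
      intro s hs
      by_cases h : (πR u : P) = 1
      · rw [h, one_mul, mul_one]
      · exact hR _ (πR u).2 (orderOf_eq_prime (by rw [sq]; exact congrArg Subtype.val h2) h) s hs
    have hrc : (πR u : P) ∈ Subgroup.center P := by
      rw [Subgroup.mem_center_iff]
      intro p
      rw [hdec p, mul_assoc, ← hr _ (πR p).2, ← mul_assoc, hcomm _ (πQ p).2 _ (πR u).2, mul_assoc]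
    rw [hdec u]
    refine mul_mem ?_ hrc
    rcases hqz _ (πQ u).2 (congrArg Subtype.val h1) with h | h <;> rw [h]
    · exact one_mem _
    · exact hzZ
  refine ⟨hcen, ?_⟩
  -- the dichotomy
  obtain ⟨y, hy, hyz⟩ := hsq
  have hdich : ∀ φ : P ≃* P, φ z = z ∨ φ z ∈ R := by
    intro φ
    let X := fun a : P => (πQ (φ a) : P)
    have hXY : ∀ a ∈ Q, ∀ b ∈ R, X a * X b = X b * X a := fun a ha b hb => by
      show (πQ (φ a) : P) * πQ (φ b) = πQ (φ b) * πQ (φ a)
      rw [← Subgroup.coe_mul, ← map_mul, ← map_mul, hcomm a ha b hb, map_mul, map_mul, Subgroup.coe_mul]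
    have hgen : ∀ q ∈ Q, ∃ a ∈ Q, ∃ b ∈ R, q = X a * X b := by
      intro q hq
      refine ⟨_, (πQ (φ.symm q)).2, _, (πR (φ.symm q)).2, ?_⟩
      show q = (πQ (φ _) : P) * πQ (φ _)
      rw [← Subgroup.coe_mul, ← map_mul, ← map_mul, ← hdec, φ.apply_symm_apply, hπq q hq]
    by_cases hsmall : ∀ a ∈ Q, X a = 1 ∨ X a = z
    · right
      have h1 : X z = 1 := by
        show (πQ (φ z) : P) = 1
        rw [← hyz, map_mul, map_mul, Subgroup.coe_mul]
        rcases hsmall y hy with h | h <;> rw [show (πQ (φ y) : P) = X y from rfl, h]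
        · exact one_mul 1
        · exact hz2
      rw [hdec (φ z), show (πQ (φ z) : P) = 1 from h1, one_mul]
      exact (πR _).2
    left
    push Not at hsmall
    obtain ⟨a0, ha0, hs1, hsz⟩ := hsmall
    have hXab : ∃ a ∈ Q, ∃ a' ∈ Q, X a * X a' ≠ X a' * X a := by
      by_contra hab
      push Not at hab
      obtain ⟨p, hp, q, hq, hpq⟩ := hna
      obtain ⟨a, ha, b, hb, rfl⟩ := hgen p hp
      obtain ⟨a', ha', b', hb', rfl⟩ := hgen q hq
      apply hpq
      have hbb : Commute (X b) (X b') := hC (X a0) (πQ _).2 hs1 hsz (X b) (πQ _).2 (X b') (πQ _).2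
        (hXY a0 ha0 b hb).symm (hXY a0 ha0 b' hb').symm
      exact ((Commute.mul_right (hab a ha a' ha') (hXY a ha b' hb')).mul_left
        (Commute.mul_right ((hXY a' ha' b hb).symm : Commute (X b) (X a')) hbb)).eq
    obtain ⟨a1, ha1, a2, ha2, hne⟩ := hXab
    have hY : ∀ b ∈ R, X b = 1 ∨ X b = z := by
      intro b hb
      by_contra h
      push Not at h
      exact hne (hC (X b) (πQ _).2 h.1 h.2 (X a1) (πQ _).2 (X a2) (πQ _).2 (hXY a1 ha1 b hb) (hXY a2 ha2 b hb))
    let ψ : ↥Q →* ↥Q := (πQ.comp φ.toMonoidHom).comp Q.subtype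
    have hψs : Function.Surjective ψ := by
      rw [← MonoidHom.range_eq_top, eq_top_iff]
      intro q _
      have hzr : (⟨z, hzQ⟩ : ↥Q) ∈ ψ.range := by
        have hz' := hzpow (X a0) (πQ _).2 hs1
        obtain ⟨k, hk⟩ := Subgroup.mem_zpowers_iff.1 hz'
        refine ⟨(⟨a0, ha0⟩ : ↥Q) ^ k, ?_⟩
        rw [map_zpow]
        exact Subtype.ext (by rw [Subgroup.coe_zpow]; exact hk)
      obtain ⟨a, ha, b, hb, hq⟩ := hgen q q.2
      rcases hY b hb with h | h <;> rw [h] at hq
      · exact ⟨⟨a, ha⟩, Subtype.ext (by rw [hq, mul_one]; rfl)⟩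
      · have : q = ψ ⟨a, ha⟩ * ⟨z, hzQ⟩ := Subtype.ext hq
        rw [this]; exact mul_mem ⟨_, rfl⟩ hzr
    have hψi : Function.Injective ψ := Finite.injective_iff_surjective.2 hψs
    have hψz : (πQ (φ z) : P) = z := by
      refine huniq _ (πQ _).2 ?_
      rw [Subgroup.orderOf_coe, show πQ (φ z) = ψ ⟨z, hzQ⟩ from rfl, orderOf_injective ψ hψi,
        ← Subgroup.orderOf_coe]
      exact hz
    have hρz : (πR (φ z) : P) = 1 := by
      by_contra hne1
      let ρ : ↥Q →* ↥R := (πR.comp φ.toMonoidHom).comp Q.subtype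
      have hρi : Function.Injective ρ := by
        rw [injective_iff_map_eq_one]
        intro s hs
        by_contra hs1'
        obtain ⟨k, hk⟩ := Subgroup.mem_zpowers_iff.1 (hzpow s s.2 (fun h => hs1' (Subtype.ext h)))
        apply hne1
        have : (⟨z, hzQ⟩ : ↥Q) = s ^ k := Subtype.ext (by rw [Subgroup.coe_zpow]; exact hk.symm)
        show ((ρ ⟨z, hzQ⟩ : ↥R) : P) = 1
        rw [this, map_zpow, hs, one_zpow]; rfl
      let σ : ↥R →* ↥R := (πR.comp φ.toMonoidHom).comp R.subtype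
      set B := σ.range with hBdef
      let ν : ↥Q × ↥B →* ↥R := MonoidHom.noncommCoprod ρ B.subtype (by
        rintro a ⟨_, b, rfl⟩
        show πR (φ (a : P)) * πR (φ (b : P)) = πR (φ (b : P)) * πR (φ (a : P))
        rw [← map_mul, ← map_mul, hcomm a a.2 b b.2, map_mul, map_mul])
      have hker : Nat.card ↥ν.ker ≤ 2 := by
        have hk1 : ∀ p ∈ ν.ker, ((p : ↥Q × ↥B).1 : P) = 1 ∨ ((p : ↥Q × ↥B).1 : P) = z := by
          rintro ⟨a, ⟨_, b, rfl⟩⟩ hp
          refine hcenQ _ a.2 fun t ht => ?_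
          have hp' : ρ a * σ b = 1 := MonoidHom.mem_ker.1 hp
          have h1 : ρ (⟨t, ht⟩ * a) = ρ (a * ⟨t, ht⟩) := by
            rw [map_mul, map_mul, eq_inv_of_mul_eq_one_left hp']
            have hc : Commute (ρ ⟨t, ht⟩) (σ b) := by
              show πR (φ t) * πR (φ (b : P)) = πR (φ (b : P)) * πR (φ t)
              rw [← map_mul, ← map_mul, hcomm t ht b b.2, map_mul, map_mul]
            exact hc.inv_right.eq
          exact congrArg Subtype.val (hρi h1)
        let ι : ↥ν.ker → Fin 2 := fun p => if ((p : ↥Q × ↥B).1 : P) = 1 then 0 else 1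
        have hι : Function.Injective ι := by
          intro p q h
          have e1 : (p : ↥Q × ↥B).1 = (q : ↥Q × ↥B).1 := by
            apply Subtype.ext
            rcases hk1 p p.2 with h1 | h1 <;> rcases hk1 q q.2 with h2 | h2
            · rw [h1, h2]
            · simp only [ι] at h
              rw [if_pos h1, if_neg (by rw [h2]; exact hz1)] at h
              exact absurd h (by decide)
            · simp only [ι] at h
              rw [if_pos h2, if_neg (by rw [h1]; exact hz1)] at h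
              exact absurd h (by decide)
            · rw [h1, h2]
          have e2 : ρ (p : ↥Q × ↥B).1 * ((p : ↥Q × ↥B).2 : ↥R) = ρ (q : ↥Q × ↥B).1 * ((q : ↥Q × ↥B).2 : ↥R) :=
            (MonoidHom.mem_ker.1 p.2).trans (MonoidHom.mem_ker.1 q.2).symm
          rw [e1] at e2
          exact Subtype.ext (Prod.ext e1 (Subtype.ext (mul_left_cancel e2)))
        simpa using Nat.card_le_card_of_injective ι hι
      have h1 : Nat.card ↥Q * Nat.card ↥B ≤ 2 * Nat.card ↥R := by
        rw [← Nat.card_prod, ← ν.ker.card_mul_index, Subgroup.index_ker]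
        exact Nat.mul_le_mul hker (Subgroup.card_le_card_group _)
      have h2 : Nat.card ↥R ≤ 2 * Nat.card ↥B := by
        let κ : ↥R → Fin 2 × ↥B := fun b => (if X b = 1 then 0 else 1, ⟨σ b, ⟨b, rfl⟩⟩)
        have hκ : Function.Injective κ := by
          intro b b' h
          have e1 : X b = X b' := by
            have h' := congrArg Prod.fst h
            rcases hY b b.2 with h1 | h1 <;> rcases hY b' b'.2 with h3 | h3
            · rw [h1, h3]
            · simp [κ, h1, h3, hz1] at h'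
            · simp [κ, h1, h3, hz1] at h'
            · rw [h1, h3]
          have e2 : (πR (φ (b : P)) : P) = πR (φ (b' : P)) :=
            congrArg (fun p : Fin 2 × ↥B => ((p.2 : ↥R) : P)) h
          refine Subtype.ext (φ.injective ?_)
          rw [hdec (φ b), hdec (φ b'), show (πQ (φ b) : P) = X b from rfl, e1, e2]
        simpa [Nat.card_prod] using Nat.card_le_card_of_injective κ hκ
      have hB : 0 < Nat.card ↥B := Nat.card_pos
      nlinarith
    rw [hdec (φ z), hψz, hρz, mul_one]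
  -- the product over the orbit
  haveI := Fintype.ofFinite P
  letI : CommGroup ↥(Subgroup.center P) :=
    { (inferInstance : Group ↥(Subgroup.center P)) with mul_comm := fun a b => Subtype.ext (Subgroup.mem_center_iff.1 b.2 a) }
  have hφzo : ∀ φ : P ≃* P, φ z ∈ Subgroup.center P := fun φ => hcen _ (by rw [MulEquiv.orderOf_eq, hz])
  let zc : ↥(Subgroup.center P) := ⟨z, hzZ⟩
  let O : Finset ↥(Subgroup.center P) := Finset.univ.filter fun c => ∃ φ : P ≃* P, φ z = (c : P)
  have hzO : zc ∈ O := Finset.mem_filter.2 ⟨Finset.mem_univ _, MulEquiv.refl P, rfl⟩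
  set w : ↥(Subgroup.center P) := ∏ c ∈ O, c with hw
  have hw2 : w * w = 1 := by
    rw [hw, ← Finset.prod_mul_distrib]
    refine Finset.prod_eq_one fun c hc => ?_
    obtain ⟨φ, hφ⟩ := (Finset.mem_filter.1 hc).2
    refine Subtype.ext ?_
    rw [Subgroup.coe_mul, ← hφ, ← map_mul, hz2, map_one]; rfl
  have hw1 : (w : P) ≠ 1 := by
    intro h
    have hrest : ((∏ c ∈ O.erase zc, c : ↥(Subgroup.center P)) : P) ∈ R := by
      have : (∏ c ∈ O.erase zc, c : ↥(Subgroup.center P)) ∈ R.subgroupOf (Subgroup.center P) := by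
        refine prod_mem fun c hc => ?_
        obtain ⟨φ, hφ⟩ := (Finset.mem_filter.1 (Finset.mem_of_mem_erase hc)).2
        rcases hdich φ with h1 | h1
        · exact absurd (Subtype.ext (hφ.symm.trans h1) : c = zc) (Finset.ne_of_mem_erase hc)
        · exact Subgroup.mem_subgroupOf.2 (hφ ▸ h1)
      exact Subgroup.mem_subgroupOf.1 this
    rw [hw, ← Finset.mul_prod_erase O (fun c => c) hzO, Subgroup.coe_mul] at h
    have hzR : z ∈ R := by
      rw [show z = ((∏ c ∈ O.erase zc, c : ↥(Subgroup.center P)) : P)⁻¹ from eq_inv_of_mul_eq_one_left h]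
      exact inv_mem hrest
    exact hz1 (Subgroup.mem_bot.1 (hdis ▸ Subgroup.mem_inf.2 ⟨hzQ, hzR⟩))
  refine ⟨w, orderOf_eq_prime (by rw [sq]; exact congrArg Subtype.val hw2) hw1, fun φ => ?_⟩
  let φc : ↥(Subgroup.center P) →* ↥(Subgroup.center P) := (φ.toMonoidHom.comp (Subgroup.center P).subtype).codRestrict _
    fun c => Subgroup.mem_center_iff.2 fun p => by
      obtain ⟨p', rfl⟩ := φ.surjective p
      show φ p' * φ (c : P) = φ (c : P) * φ p'
      rw [← map_mul, ← map_mul, Subgroup.mem_center_iff.1 c.2 p']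
  have hφc : Function.Injective φc := fun a b h => Subtype.ext (φ.injective (congrArg Subtype.val h))
  have himg : O.image φc = O := by
    refine Finset.eq_of_subset_of_card_le (fun c hc => ?_) (by rw [Finset.card_image_of_injective _ hφc])
    obtain ⟨d, hd, rfl⟩ := Finset.mem_image.1 hc
    obtain ⟨χ, hχ⟩ := (Finset.mem_filter.1 hd).2
    refine Finset.mem_filter.2 ⟨Finset.mem_univ _, χ.trans φ, ?_⟩
    show φ (χ z) = φ (d : P)
    rw [hχ]
  have : φc w = w := by
    rw [hw, map_prod]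
    conv_rhs => rw [← himg]
    rw [Finset.prod_image (fun a _ b _ h => hφc h)]
  exact congrArg Subtype.val this


/-- Let G be a finite group whose Sylow 2-subgroup S is an internal direct product Q × R with Q generalized quaternion (of order at least 8) and R a subgroup all of whose involutions are central in R. Then G is not simple. In particular no finite simple group has a Sylow 2-subgroup that is a direct product of one or more generalized quaternion groups. -/
theorem result {G : Type*} [Group G] [Finite G]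
    (S : Sylow 2 G) (Q R : Subgroup G) (hQR : Cfsg.IsInternalDirectProduct Q R (S : Subgroup G))
    (n : ℕ) (hn : 1 ≤ n) (eQ : ↥Q ≃* QuaternionGroup (2 ^ n))
    (hR : ∀ r ∈ R, orderOf r = 2 → ∀ s ∈ R, r * s = s * r) :
    ¬ IsSimpleGroup G := by
  classical
  intro hsimp
  haveI : Fact (Nat.Prime 2) := ⟨Nat.prime_two⟩
  obtain ⟨hQS, hRS, hc, hd, hj⟩ := hQR
  obtain ⟨m, rfl⟩ : ∃ m, n = m + 1 := ⟨n - 1, by omega⟩
  obtain ⟨x, y, hxQ, hyQ, hox, hoy, hyx, hyy, hgen⟩ := CfsgLib.Invol.quaternion_gens Q m eQ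
  set z := x ^ (2 ^ (m + 1)) with hzdef
  have huniq : ∀ s ∈ Q, orderOf s = 2 → s = z := fun s hs h =>
    CfsgLib.Invol.quaternion_unique hox hoy hyx hgen hs h
  have hzo : orderOf z = 2 := by
    rw [hzdef, orderOf_pow, hox, pow_succ 2 (m + 1), Nat.gcd_eq_right ⟨2, rfl⟩,
      Nat.mul_div_cancel_left _ (by positivity)]
  have hxsq : x * x ≠ 1 := by
    intro h
    have h1 := orderOf_dvd_of_pow_eq_one (show x ^ 2 = 1 by rw [sq, h])
    rw [hox] at h1
    have h2 := Nat.le_of_dvd (by norm_num) h1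
    have : 4 ≤ 2 ^ (m + 2) := by rw [pow_add]; have := Nat.one_le_two_pow (n := m); omega
    omega
  have hyxc : ∀ i : ℕ, y * x ^ i * y⁻¹ = (x ^ i)⁻¹ := fun i => by rw [← conj_pow, hyx, inv_pow]
  have hC : ∀ s ∈ Q, s ≠ 1 → s ≠ z → ∀ t ∈ Q, ∀ u ∈ Q, t * s = s * t → u * s = s * u → t * u = u * t := by
    intro s hs hs1 hsz t ht u hu hts hus
    obtain ⟨i, rfl | rfl⟩ := hgen s hs
    · have hpow : ∀ t ∈ Q, t * x ^ i = x ^ i * t → ∃ j : ℕ, t = x ^ j := by
        intro t ht htc
        obtain ⟨j, rfl | rfl⟩ := hgen t ht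
        · exact ⟨j, rfl⟩
        · exfalso
          have h1 : (x ^ i)⁻¹ = x ^ i := by
            have hxx : Commute (x ^ i) (x ^ j) := (Commute.refl x).pow_pow i j
            calc (x ^ i)⁻¹ = y * x ^ i * y⁻¹ := (hyxc i).symm
              _ = y * (x ^ i * x ^ j) * (x ^ j)⁻¹ * y⁻¹ := by group
              _ = y * x ^ j * x ^ i * (x ^ j)⁻¹ * y⁻¹ := by rw [hxx.eq]; group
              _ = x ^ i * (y * x ^ j) * (x ^ j)⁻¹ * y⁻¹ := by rw [htc]
              _ = x ^ i := by group
          exact hsz (huniq _ (pow_mem hxQ i) (orderOf_eq_prime (by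
            rw [sq]; nth_rewrite 1 [← h1]; exact inv_mul_cancel _) hs1))
      obtain ⟨j, rfl⟩ := hpow t ht hts
      obtain ⟨k, rfl⟩ := hpow u hu hus
      exact ((Commute.refl x).pow_pow j k).eq
    · have hmem : ∀ t ∈ Q, t * (y * x ^ i) = y * x ^ i * t → ∃ c, (c = 1 ∨ c = z) ∧ (t = c ∨ t = y * x ^ i * c) := by
        intro t ht htc
        have hcase : ∀ d ∈ Q, (∃ l : ℕ, d = x ^ l) → d * (y * x ^ i) = y * x ^ i * d → d = 1 ∨ d = z := by
          rintro d hd ⟨l, rfl⟩ hdc
          have h1 : (x ^ l)⁻¹ = x ^ l := by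
            have hxx : Commute (x ^ l) (x ^ i) := (Commute.refl x).pow_pow l i
            calc (x ^ l)⁻¹ = y * x ^ l * y⁻¹ := (hyxc l).symm
              _ = y * (x ^ l * x ^ i) * (x ^ i)⁻¹ * y⁻¹ := by group
              _ = y * x ^ i * x ^ l * (x ^ i)⁻¹ * y⁻¹ := by rw [hxx.eq]; group
              _ = x ^ l * (y * x ^ i) * (x ^ i)⁻¹ * y⁻¹ := by rw [hdc]
              _ = x ^ l := by group
          by_cases hd1 : x ^ l = 1
          · exact Or.inl hd1
          · exact Or.inr (huniq _ hd (orderOf_eq_prime (by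
              rw [sq]; nth_rewrite 1 [← h1]; exact inv_mul_cancel _) hd1))
        obtain ⟨j, rfl | rfl⟩ := hgen t ht
        · exact ⟨x ^ j, hcase _ ht ⟨j, rfl⟩ htc, Or.inl rfl⟩
        · refine ⟨(y * x ^ i)⁻¹ * (y * x ^ j), ?_, Or.inr (by group)⟩
          refine hcase _ (mul_mem (inv_mem (mul_mem hyQ (pow_mem hxQ i))) (mul_mem hyQ (pow_mem hxQ j))) ?_ ?_
          · obtain ⟨l, hl⟩ : ∃ l : ℕ, x ^ l = (x ^ i)⁻¹ * x ^ j :=
              mem_powers_iff_mem_zpowers.2 (mul_mem (inv_mem (pow_mem (Subgroup.mem_zpowers x) i))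
                (pow_mem (Subgroup.mem_zpowers x) j))
            exact ⟨l, by rw [hl]; group⟩
          · calc (y * x ^ i)⁻¹ * (y * x ^ j) * (y * x ^ i) = (y * x ^ i)⁻¹ * ((y * x ^ j) * (y * x ^ i)) := by group
              _ = _ := by rw [htc]; group
      obtain ⟨c, hc1, htc⟩ := hmem t ht hts
      obtain ⟨d, hd1, htd⟩ := hmem u hu hus
      have hzy : Commute z (y * x ^ i) := by
        have h1 : Commute (y * y) y := (Commute.refl y).mul_left (Commute.refl y)
        rw [hyy] at h1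
        exact h1.mul_right ((Commute.refl x).pow_pow _ i)
      have hcd : ∀ c, (c = 1 ∨ c = z) → Commute c (y * x ^ i) ∧ Commute c z := by
        rintro c (rfl | rfl)
        · exact ⟨Commute.one_left _, Commute.one_left _⟩
        · exact ⟨hzy, Commute.refl _⟩
      have hcd' : Commute c d := by
        rcases hd1 with h | h <;> rw [h]
        · exact Commute.one_right _
        · exact (hcd c hc1).2
      obtain ⟨hcy, -⟩ := hcd c hc1
      obtain ⟨hdy, -⟩ := hcd d hd1
      rcases htc with e1 | e1 <;> rcases htd with e2 | e2 <;> rw [e1, e2]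
      · exact hcd'.eq
      · exact (hcy.mul_right hcd').eq
      · exact (hdy.symm.mul_left hcd').eq
      · exact (((Commute.refl _).mul_right hdy.symm).mul_left (hcy.mul_right hcd')).eq
  set P := (S : Subgroup G) with hP
  obtain ⟨hcen, w, hwo, hwfix⟩ := exists_fixed_involution (P := ↥P) S.2 (Q.subgroupOf P) (R.subgroupOf P)
    (fun a ha b hb => Subtype.ext (hc a ha b hb))
    (eq_bot_iff.2 fun a ha => by
      have : (a : G) ∈ Q ⊓ R := ⟨ha.1, ha.2⟩
      rw [hd, Subgroup.mem_bot] at this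
      exact Subgroup.mem_bot.2 (Subtype.ext this))
    (by rw [← Subgroup.subgroupOf_sup hQS hRS, hj, Subgroup.subgroupOf_self])
    ⟨z, hQS (pow_mem hxQ _)⟩ (pow_mem hxQ _ : z ∈ Q) (by rw [← Subgroup.orderOf_coe]; exact hzo)
    (fun s hs h => Subtype.ext (huniq s hs (by rw [Subgroup.orderOf_coe]; exact h)))
    ⟨⟨y, hQS hyQ⟩, hyQ, Subtype.ext hyy⟩
    (fun s hs hs1 hsz t ht u hu h1 h2 => Subtype.ext (hC s hs (fun h => hs1 (Subtype.ext h))
      (fun h => hsz (Subtype.ext h)) t ht u hu (congrArg Subtype.val h1) (congrArg Subtype.val h2)))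
    ⟨⟨x, hQS hxQ⟩, hxQ, ⟨y, hQS hyQ⟩, hyQ, fun h => hxsq (by
      have h' : x * y = y * x := congrArg Subtype.val h
      have : y * x * y⁻¹ = x := by rw [← h', mul_inv_cancel_right]
      rw [hyx] at this
      nth_rewrite 1 [← this]
      exact inv_mul_cancel x)⟩
    (by
      rw [Nat.card_congr (Subgroup.subgroupOfEquivOfLe hQS).toEquiv, Nat.card_congr eQ.toEquiv,
        Nat.card_eq_fintype_card, QuaternionGroup.card]
      have := Nat.one_le_two_pow (n := m)
      rw [pow_succ]; omega)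
    (fun r hr h s hs => Subtype.ext (hR r hr (by rw [Subgroup.orderOf_coe]; exact h) s hs))
  have hiso : ∀ g : G, g * (w : G) * g⁻¹ ∈ S → g * (w : G) * g⁻¹ = w := by
    intro g hg
    have huc := hcen ⟨_, hg⟩ (by
      rw [← Subgroup.orderOf_coe]
      show orderOf (g * (w : G) * g⁻¹) = 2
      rw [CfsgLib.Invol.orderOf_conj_eq, Subgroup.orderOf_coe, hwo])
    have hwc := hcen w hwo
    obtain ⟨n, hn, hne⟩ := S.conj_eq_normalizer_conj_of_mem_centralizer (w : G) g⁻¹
      (Subgroup.mem_centralizer_iff.2 fun s hs => congrArg Subtype.val (Subgroup.mem_center_iff.1 hwc ⟨s, hs⟩))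
      (by
        rw [inv_inv]
        exact Subgroup.mem_centralizer_iff.2 fun s hs => congrArg Subtype.val (Subgroup.mem_center_iff.1 huc ⟨s, hs⟩))
    rw [inv_inv] at hne
    rw [hne]
    have hnm : ∀ s ∈ P, n⁻¹ * s * n ∈ P := by
      intro s hs
      have h3 := (Subgroup.mem_normalizer_iff.1 (inv_mem hn) s).1 hs
      rwa [inv_inv] at h3
    let φ : ↥P ≃* ↥P :=
      { toFun := fun s => ⟨n⁻¹ * s * n, hnm s s.2⟩
        invFun := fun s => ⟨n * s * n⁻¹, (Subgroup.mem_normalizer_iff.1 hn s).1 s.2⟩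
        left_inv := fun s => Subtype.ext (by show n * (n⁻¹ * (s : G) * n) * n⁻¹ = s; group)
        right_inv := fun s => Subtype.ext (by show n⁻¹ * (n * (s : G) * n⁻¹) * n = s; group)
        map_mul' := fun a b => Subtype.ext (by
          show n⁻¹ * ((a : G) * b) * n = n⁻¹ * a * n * (n⁻¹ * b * n)
          group) }
    exact congrArg Subtype.val (hwfix φ)
  have hwG : orderOf (w : G) = 2 := by rw [Subgroup.orderOf_coe, hwo]
  obtain ⟨N, hN, hodd, hcom⟩ := Cfsg.Agent.S0215.result S (w : G) hwG w.2 hiso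
  have h2G : 2 ∣ Nat.card G := hwG ▸ orderOf_dvd_natCard _
  rcases hN.eq_bot_or_eq_top with rfl | rfl
  · have hwc : (w : G) ∈ Subgroup.center G := Subgroup.mem_center_iff.2 fun g => by
      have h := Subgroup.mem_bot.1 (hcom g)
      calc g * (w : G) = ((w : G) * g * (w : G)⁻¹ * g⁻¹) * g * w := by rw [h, one_mul]
        _ = (w : G) * g := by group
    rcases Subgroup.Normal.eq_bot_or_eq_top (H := Subgroup.center G) inferInstance with h | h
    · rw [h, Subgroup.mem_bot] at hwc
      rw [hwc, orderOf_one] at hwG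
      norm_num at hwG
    · apply hxsq
      have hc' : y * x = x * y := Subgroup.mem_center_iff.1 (h ▸ Subgroup.mem_top x : x ∈ Subgroup.center G) y
      have : y * x * y⁻¹ = x := by rw [hc', mul_inv_cancel_right]
      rw [hyx] at this
      nth_rewrite 1 [← this]
      exact inv_mul_cancel x
  · rw [Subgroup.card_top] at hodd
    exact (Nat.not_even_iff_odd.2 hodd) (even_iff_two_dvd.2 h2G)

end Cfsg.Agent.S3269
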