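import Cfsg.Statements.S3276
import Mathlib
-- import your own Cfsg.Agent.* helpers here

set_option autoImplicit false
open Cfsg

namespace Cfsg.Agent.S3276

/-- Two non-conjugate involutions centralise a common involution. -/
lemma exists_common {G : Type*} [Group G] [Finite G] (x y : G) (hx : orderOf x = 2) (hy : orderOf y = 2)
    (hn : ¬ IsConj x y) : ∃ w : G, orderOf w = 2 ∧ Commute w x ∧ Commute w y := by
  have hxx : x⁻¹ = x := inv_eq_of_mul_eq_one_right (by rw [← sq, ← hx, pow_orderOf_eq_one])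
  have hyy : y⁻¹ = y := inv_eq_of_mul_eq_one_right (by rw [← sq, ← hy, pow_orderOf_eq_one])
  have hx2 : x * x = 1 := by nth_rewrite 1 [← hxx]; exact inv_mul_cancel x
  have hy2 : y * y = 1 := by nth_rewrite 1 [← hyy]; exact inv_mul_cancel y
  set d := x * y with hd
  have hxd : SemiconjBy x d d⁻¹ := by
    simp only [SemiconjBy, hd, mul_inv_rev, hxx, hyy]
    rw [← mul_assoc, hx2, one_mul, mul_assoc, hx2, mul_one]
  have hyd : SemiconjBy y d d⁻¹ := by
    simp only [SemiconjBy, hd, mul_inv_rev, hxx, hyy, mul_assoc]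
  rcases Nat.even_or_odd' (orderOf d) with ⟨m, hm | hm⟩
  · have hpos := orderOf_pos d
    have hw : orderOf (d ^ m) = 2 := by
      rw [orderOf_pow' _ (by omega : m ≠ 0), hm, Nat.gcd_mul_left_left]
      exact Nat.mul_div_cancel _ (by omega)
    have hinv : d⁻¹ ^ m = d ^ m := by
      rw [inv_pow]
      exact inv_eq_of_mul_eq_one_right (by rw [← pow_add, ← two_mul, ← hm, pow_orderOf_eq_one])
    refine ⟨d ^ m, hw, ?_, ?_⟩
    · exact ((hxd.pow_right m).eq.trans (by rw [hinv])).symm
    · exact ((hyd.pow_right m).eq.trans (by rw [hinv])).symm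
  · exfalso
    apply hn
    rw [isConj_iff]
    refine ⟨d ^ m, ?_⟩
    have h1 : d ^ m * x * (d ^ m)⁻¹ = d ^ (2 * m) * x := by
      have := (hxd.pow_right m).inv_right.eq
      rw [inv_pow, inv_inv] at this
      rw [mul_assoc, this, ← mul_assoc, two_mul, pow_add]
    have h2 : d ^ (2 * m) = d⁻¹ := by
      apply eq_inv_of_mul_eq_one_left
      rw [← pow_succ, ← hm, pow_orderOf_eq_one]
    rw [h1, h2, hd, mul_inv_rev, hxx, hyy, mul_assoc, hx2, mul_one]



/-- Let x and y be commuting, non-conjugate involutions of a finite group G, and suppose that for every involution u commuting with x, each conjugate of y that commutes with u also commutes with y. Then the normal closure of y is a proper, normal, elementary abelian 2-subgroup of G; and if y is the only involution of that normal closure commuting with x, it has order at most 4. -/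
theorem result {G : Type*} [Group G] [Finite G] (x y : G) (hx : orderOf x = 2) (hy : orderOf y = 2)
    (hxy : Commute x y) (hnc : ¬ IsConj x y)
    (hstar : ∀ u : G, orderOf u = 2 → Commute u x → ∀ g : G, Commute (g * y * g⁻¹) u → Commute (g * y * g⁻¹) y) :
    Subgroup.normalClosure ({y} : Set G) ≠ ⊤ ∧ Cfsg.IsElementaryAbelian 2 (Subgroup.normalClosure ({y} : Set G)) ∧
      ((∀ u ∈ Subgroup.normalClosure ({y} : Set G), orderOf u = 2 → Commute u x → u = y) →
        Nat.card ↥(Subgroup.normalClosure ({y} : Set G)) ≤ 4) := by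
  have hxx : ∀ a : G, orderOf a = 2 → a * a = 1 := fun a ha => by
    rw [← sq, ← ha, pow_orderOf_eq_one]
  have hord : ∀ g : G, orderOf (g * y * g⁻¹) = 2 := fun g => by
    rw [← hy]; exact ((SemiconjBy.conj_mk g y).orderOf_eq g).symm
  have hconj : ∀ g : G, IsConj y (g * y * g⁻¹) := fun g => isConj_iff.2 ⟨g, rfl⟩
  have h1 : ∀ g : G, Commute (g * y * g⁻¹) y := by
    intro g
    obtain ⟨u, hu, hux, huy⟩ := exists_common x (g * y * g⁻¹) hx (hord g)
      (fun h => hnc (h.trans (hconj g).symm))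
    exact hstar u hu hux g huy.symm
  let s := Group.conjugatesOfSet ({y} : Set G)
  have hs : ∀ c ∈ s, ∃ g, g * y * g⁻¹ = c := by
    intro c hc
    obtain ⟨b, hb, hbc⟩ := Group.mem_conjugatesOfSet_iff.1 hc
    obtain rfl : b = y := Set.mem_singleton_iff.1 hb
    exact isConj_iff.1 hbc
  have hcomm : ∀ a ∈ s, ∀ b ∈ s, a * b = b * a := by
    intro a ha b hb
    obtain ⟨g, rfl⟩ := hs a ha
    obtain ⟨k, rfl⟩ := hs b hb
    have := Commute.conj (h1 (k⁻¹ * g)) k
    rw [show k * (k⁻¹ * g * y * (k⁻¹ * g)⁻¹) * k⁻¹ = g * y * g⁻¹ by group] at this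
    exact this.eq
  have hmc : IsMulCommutative ↥(Subgroup.normalClosure ({y} : Set G)) :=
    Subgroup.isMulCommutative_closure hcomm
  have hsq : ∀ a ∈ Subgroup.normalClosure ({y} : Set G), a ^ 2 = 1 := by
    intro a ha
    refine Subgroup.closure_induction (p := fun b _ => b ^ 2 = 1) ?_ (one_pow 2) ?_ ?_ ha
    · intro c hc
      obtain ⟨g, rfl⟩ := hs c hc
      rw [sq]; exact hxx _ (hord g)
    · intro a b ha' hb' ha2 hb2
      have := congrArg Subtype.val (hmc.is_comm.comm ⟨a, ha'⟩ ⟨b, hb'⟩)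
      rw [(show Commute a b from this).mul_pow, ha2, hb2, one_mul]
    · intro a _ ha2
      rw [inv_pow, ha2, inv_one]
  have hyE : y ∈ Subgroup.normalClosure ({y} : Set G) :=
    Subgroup.subset_normalClosure (Set.mem_singleton y)
  refine ⟨?_, ⟨hmc, hsq⟩, ?_⟩
  · intro htop
    have hab : ∀ a b : G, a * b = b * a := fun a b => congrArg Subtype.val
      (hmc.is_comm.comm ⟨a, htop ▸ Subgroup.mem_top a⟩ ⟨b, htop ▸ Subgroup.mem_top b⟩)
    have hle : Subgroup.normalClosure ({y} : Set G) ≤ Subgroup.zpowers y := by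
      unfold Subgroup.normalClosure
      rw [Subgroup.closure_le]
      intro c hc
      obtain ⟨g, rfl⟩ := hs c hc
      rw [hab g y, mul_inv_cancel_right]
      exact Subgroup.mem_zpowers y
    obtain ⟨k, hk⟩ := mem_powers_iff_mem_zpowers.2 (hle (htop ▸ Subgroup.mem_top x))
    simp only at hk
    rcases Nat.even_or_odd' k with ⟨m, rfl | rfl⟩
    · rw [pow_mul, sq, hxx y hy, one_pow] at hk
      simp [← hk] at hx
    · rw [pow_succ, pow_mul, sq, hxx y hy, one_pow, one_mul] at hk
      exact hnc (hk ▸ IsConj.refl y)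
  · intro hu
    let E := Subgroup.normalClosure ({y} : Set G)
    let ψ : ↥E →* ↥E :=
    { toFun := fun e => e * ⟨x * e * x⁻¹, (Subgroup.normalClosure_normal (s := ({y} : Set G))).conj_mem e e.2 x⟩
      map_one' := by simp
      map_mul' := fun a b => by
        have hh := hmc.is_comm.comm
        apply Subtype.ext
        have e1 : (b : G) * (x * a * x⁻¹) = x * a * x⁻¹ * b := congrArg Subtype.val
          (hh b ⟨x * a * x⁻¹, (Subgroup.normalClosure_normal (s := ({y} : Set G))).conj_mem a a.2 x⟩)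
        simp only [Subgroup.coe_mul]
        calc (a : G) * b * (x * (a * b) * x⁻¹) = a * (b * (x * a * x⁻¹)) * (x * b * x⁻¹) := by group
          _ = a * (x * a * x⁻¹ * b) * (x * b * x⁻¹) := by rw [e1]
          _ = _ := by group }
    have hfix : ∀ e : ↥E, x * (e : G) * x⁻¹ = e → (e : G) ∈ ({1, y} : Set G) := by
      intro e he
      rcases eq_or_ne (e : G) 1 with h | h
      · exact Or.inl h
      · exact Or.inr (hu e e.2 (orderOf_eq_prime (hsq e e.2) h)
          (mul_inv_eq_iff_eq_mul.1 he).symm)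
    have hsmall : ∀ K : Subgroup ↥E, (∀ e ∈ K, x * (e : G) * x⁻¹ = e) → Nat.card ↥K ≤ 2 := by
      intro K hK
      calc Nat.card ↥K ≤ Nat.card ↥({1, y} : Set G) :=
            Nat.card_le_card_of_injective (fun e => ⟨(e.1 : G), hfix e.1 (hK e.1 e.2)⟩)
              (fun a b hab => Subtype.ext (Subtype.ext (congrArg Subtype.val hab :)))
        _ ≤ 2 := by
            rw [Nat.card_coe_set_eq]
            exact (Set.ncard_insert_le _ _).trans (by simp)
    have hker : Nat.card ↥ψ.ker ≤ 2 := hsmall _ (fun e he => by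
      have h2 : (e : G) * (x * e * x⁻¹) = 1 := congrArg Subtype.val (MonoidHom.mem_ker.1 he)
      calc x * (e : G) * x⁻¹ = (e : G)⁻¹ := eq_inv_of_mul_eq_one_right h2
        _ = e := inv_eq_of_mul_eq_one_right (by rw [← sq]; exact hsq e e.2))
    have hran : Nat.card ↥ψ.range ≤ 2 := hsmall _ (by
      rintro _ ⟨e, rfl⟩
      change x * ((e : G) * (x * e * x⁻¹)) * x⁻¹ = (e : G) * (x * e * x⁻¹)
      have hxe : x * (x * (e : G) * x⁻¹) * x⁻¹ = e := by
        rw [show x * (x * (e : G) * x⁻¹) * x⁻¹ = (x * x) * e * (x * x)⁻¹ by group, hxx x hx]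
        simp
      rw [show x * ((e : G) * (x * e * x⁻¹)) * x⁻¹ = (x * e * x⁻¹) * (x * (x * e * x⁻¹) * x⁻¹) by group,
        hxe]
      exact congrArg Subtype.val
        (hmc.is_comm.comm (⟨x * e * x⁻¹, (Subgroup.normalClosure_normal (s := ({y} : Set G))).conj_mem e e.2 x⟩ : ↥E) e))
    calc Nat.card ↥E = ψ.ker.index * Nat.card ↥ψ.ker := (Subgroup.index_mul_card _).symm
      _ = Nat.card ↥ψ.range * Nat.card ↥ψ.ker := by rw [Subgroup.index_ker]
      _ ≤ 4 := Nat.mul_le_mul hran hker

end Cfsg.Agent.S3276
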