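import Cfsg.Statements.S3280
import Cfsg.Agent.Lib.SmallCent.Reduce
import Cfsg.Agent.Lib.Classical.GLOrder
import Cfsg.Agent.S0243
import Cfsg.Agent.S0494
import Cfsg.Agent.S0984
import Cfsg.Agent.Lib.SmallGroups.Order168Model
import Cfsg.Agent.Lib.SmallGroups.NineLocal.SymSix

set_option autoImplicit false
open Cfsg

namespace Cfsg.Agent.S3280

/-- A non-cyclic finite simple group containing an element whose centralizer has order at most 4 is isomorphic to the alternating group of degree 5, 6 or 7, or to PSL(2, 7). -/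
theorem result {G : Type*} [Group G] [Finite G] [IsSimpleGroup G] (hG : ¬ IsCyclic G)
    (w : G) (hw : Nat.card ↥(Subgroup.centralizer ({w} : Set G)) ≤ 4) :
    Nonempty (G ≃* ↥(alternatingGroup (Fin 5))) ∨ Nonempty (G ≃* ↥(alternatingGroup (Fin 6))) ∨
      Nonempty (G ≃* ↥(alternatingGroup (Fin 7))) ∨
      (∃ (F : Type) (_ : Field F) (_ : Fintype F), Fintype.card F = 7 ∧ Nonempty (G ≃* Matrix.ProjectiveSpecialLinearGroup (Fin 2) F)) := by
  have hG' : ¬ IsMulCommutative G := fun hc => by
    letI : CommGroup G := { (inferInstance : Group G) with mul_comm := hc.is_comm.comm }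
    have : Fact (Nat.card G).Prime := ⟨IsSimpleGroup.prime_card⟩
    exact hG (isCyclic_of_prime_card (p := Nat.card G) rfl)
  haveI : Nontrivial G := IsSimpleGroup.toNontrivial
  have hpos : 1 < Nat.card G := Finite.one_lt_card
  have h60 : Nat.card G ≤ 100 → Nat.card G = 60 := Cfsg.Agent.S0493.result hG
  set C := Subgroup.centralizer ({w} : Set G) with hC
  have hdvd : orderOf w ∣ Nat.card C := by
    rw [← Nat.card_zpowers]
    exact Subgroup.card_dvd_of_le (Subgroup.zpowers_le.2 (Subgroup.mem_centralizer_singleton_iff.2 rfl))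
  have hw1 : w ≠ 1 := by
    intro e
    have : Nat.card C = Nat.card G := by
      rw [hC, e, show Subgroup.centralizer ({1} : Set G) = ⊤ from eq_top_iff.2 fun g _ =>
        Subgroup.mem_centralizer_singleton_iff.2 (by rw [mul_one, one_mul]), Subgroup.card_top]
    have := h60 (by omega)
    omega
  have ho1 : orderOf w ≠ 1 := fun e => hw1 (orderOf_eq_one_iff.1 e)
  have ho0 : 0 < orderOf w := orderOf_pos w
  have hCpos : 0 < Nat.card C := Nat.card_pos
  have hle := Nat.le_of_dvd hCpos hdvd
  haveI : Fact (Nat.Prime 2) := ⟨Nat.prime_two⟩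
  haveI : Fact (Nat.Prime 7) := ⟨by norm_num⟩
  rcases (show Nat.card C = 2 ∨ Nat.card C = 3 ∨ Nat.card C = 4 by omega) with h | h | h
  · exfalso
    have hwo : orderOf w = 2 := by omega
    obtain ⟨S, hS⟩ := (IsPGroup.of_card (p := 2) (n := 1) (G := Subgroup.zpowers w)
      (by rw [Nat.card_zpowers, hwo]; rfl)).exists_le_sylow
    have hwS : w ∈ (S : Subgroup G) := hS (Subgroup.mem_zpowers w)
    have hCz : C = Subgroup.zpowers w :=
      (Subgroup.eq_of_le_of_card_ge (Subgroup.zpowers_le.2 (Subgroup.mem_centralizer_singleton_iff.2 rfl))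
        (by rw [Nat.card_zpowers, hwo, ← hC, h])).symm
    haveI : Nontrivial (S : Subgroup G) :=
      ⟨⟨⟨w, hwS⟩, 1, fun e => hw1 (congrArg Subtype.val e)⟩⟩
    haveI := S.2.center_nontrivial
    obtain ⟨z, hz⟩ := exists_ne (1 : Subgroup.center (S : Subgroup G))
    have hzw : ((z : (S : Subgroup G)) : G) ∈ C := Subgroup.mem_centralizer_singleton_iff.2
      (congrArg Subtype.val (Subgroup.mem_center_iff.1 z.2 ⟨w, hwS⟩)).symm
    rw [hCz] at hzw
    obtain ⟨i, hi⟩ := hzw
    have hzne : ((z : (S : Subgroup G)) : G) ≠ 1 := fun e => hz (Subtype.ext (Subtype.ext e))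
    have hzw' : ((z : (S : Subgroup G)) : G) = w := by
      have hi' : w ^ i = ((z : (S : Subgroup G)) : G) := hi
      rcases Int.emod_two_eq_zero_or_one i with e | e <;>
        rw [← zpow_mod_orderOf, hwo, show ((2 : ℕ) : ℤ) = 2 from rfl, e] at hi'
      · rw [zpow_zero] at hi'; exact absurd hi'.symm hzne
      · rw [zpow_one] at hi'; exact hi'.symm
    have hSle : (S : Subgroup G) ≤ Subgroup.zpowers w := fun x hx => by
      rw [← hCz]
      refine Subgroup.mem_centralizer_singleton_iff.2 ?_
      have := congrArg Subtype.val (Subgroup.mem_center_iff.1 z.2 ⟨x, hx⟩)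
      simp only [Subgroup.coe_mul] at this
      rwa [hzw'] at this
    exact CfsgLib.SmallCent.not_cyclic_sylow hG' S (hwo ▸ orderOf_dvd_natCard w)
      (Subgroup.isCyclic_of_le hSle)
  · have hwo : orderOf w = 3 := by
      rw [h] at hdvd
      exact ((Nat.dvd_prime Nat.prime_three).1 hdvd).resolve_left ho1
    have hX : Nat.card (Subgroup.zpowers w) = 3 := by rw [Nat.card_zpowers, hwo]
    have hCX : Subgroup.centralizer ((Subgroup.zpowers w : Subgroup G) : Set G) = Subgroup.zpowers w := by
      have hXC : Subgroup.zpowers w ≤ C := Subgroup.zpowers_le.2 (Subgroup.mem_centralizer_singleton_iff.2 rfl)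
      have e : Subgroup.zpowers w = C := Subgroup.eq_of_le_of_card_ge hXC (by rw [hX, h])
      refine le_antisymm (fun x hx => e.ge (Subgroup.mem_centralizer_singleton_iff.2
        (Subgroup.mem_centralizer_iff.1 hx w (Subgroup.mem_zpowers w)).symm)) fun x hx => ?_
      refine Subgroup.mem_centralizer_iff.2 fun y hy => ?_
      obtain ⟨i, rfl⟩ := hx
      obtain ⟨j, rfl⟩ := hy
      exact ((Commute.refl w).zpow_zpow j i).eq
    rcases Cfsg.Agent.S3331.result _ hX hCX with ⟨N, hN, -, -, hq⟩ | ⟨N, hN, hc, -, ⟨e⟩⟩ | e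
    · exfalso
      have hq' : Nat.card (G ⧸ N) = 3 ∨ Nat.card (G ⧸ N) = 6 := hq.imp id fun ⟨e⟩ => by
        rw [Nat.card_congr e.toEquiv, Nat.card_perm, Nat.card_fin]; rfl
      rw [← Subgroup.index_eq_card] at hq'
      rcases hN.eq_bot_or_eq_top with e | e
      · rw [e, Subgroup.index_bot] at hq'
        have := h60 (by omega)
        omega
      · rw [e, Subgroup.index_top] at hq'
        omega
    · rcases hN.eq_bot_or_eq_top with e' | e'
      · subst e'
        exact Or.inl ⟨(QuotientGroup.quotientBot (G := G)).symm.trans e⟩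
      · subst e'
        exact absurd ⟨⟨fun a b => congrArg Subtype.val
          (hc.is_comm.comm ⟨a, Subgroup.mem_top a⟩ ⟨b, Subgroup.mem_top b⟩)⟩⟩ hG'
    · exact Or.inr (Or.inr (Or.inr ⟨ZMod 7, inferInstance, inferInstance, ZMod.card 7, e⟩))
  · have hwo : orderOf w = 2 ∨ orderOf w = 4 := by
      rw [h] at hdvd
      have : orderOf w ≤ 4 := Nat.le_of_dvd (by norm_num) hdvd
      interval_cases hh : orderOf w <;> simp_all
    rcases hwo with hwo | hwo
    · exact Or.inl (Cfsg.Agent.S0494.result (CfsgLib.SmallCent.card_of_involution hG' hG hwo h))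
    · obtain ⟨H⟩ := CfsgLib.SmallCent.exists_hyp hG' hwo h
      rcases H.card_cases hG' with hc | hc | hc
      · refine Or.inr (Or.inr (Or.inr ⟨ZMod 7, inferInstance, inferInstance, ZMod.card 7, ?_⟩))
        haveI : IsSimpleGroup (Matrix.ProjectiveSpecialLinearGroup (Fin 2) (ZMod 7)) :=
          Matrix.ProjectiveSpecialLinearGroup.rank_two_simple (by rw [Nat.card_zmod]; norm_num)
        have hp := Cfsg.Agent.S0243.result (F := ZMod 7) (ZMod.card 7) 2 le_rfl
        rw [Fin.prod_univ_two] at hp
        norm_num at hp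
        obtain ⟨e₁⟩ := CfsgLib.SmallSimple.O168.nonempty_iso hc
        obtain ⟨e₂⟩ := CfsgLib.SmallSimple.O168.nonempty_iso
          (G := Matrix.ProjectiveSpecialLinearGroup (Fin 2) (ZMod 7)) (by rw [Nat.card_eq_fintype_card]; omega)
        exact ⟨e₁.trans e₂.symm⟩
      · haveI : IsSimpleGroup ↥(alternatingGroup (Fin 6)) := alternatingGroup.isSimpleGroup (by simp)
        obtain ⟨e₁⟩ := CfsgLib.SmallSimple.O360.nonempty_iso hc
        obtain ⟨e₂⟩ := CfsgLib.SmallSimple.O360.nonempty_iso (G := ↥(alternatingGroup (Fin 6))) (by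
          rw [nat_card_alternatingGroup, Nat.card_fin]; rfl)
        exact Or.inr (Or.inl ⟨e₁.trans e₂.symm⟩)
      · exact Or.inr (Or.inr (Or.inl (Cfsg.Agent.S0984.result hc)))

end Cfsg.Agent.S3280
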