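import Cfsg.Statements.S3283
import Cfsg.Agent.Lib.ExtraNine.Apply
-- import your own Cfsg.Agent.* helpers here

set_option autoImplicit false
open Cfsg

namespace Cfsg.Agent.S3283

/-- Let G be a finite group with an involution z whose centralizer M has Q = O₂(M) extraspecial of order 2⁹ with C_M(Q) ≤ Q, and M/Q isomorphic to S₃ × A₆ or to S₃ × S₆. Then G is not simple. -/
theorem result {G : Type*} [Group G] [Finite G] (z : G) (hz : orderOf z = 2)
    (hQ : Cfsg.IsExtraspecial 2 ↥(Cfsg.pCore 2 ↥(Subgroup.centralizer ({z} : Set G)))) (hQ9 : Nat.card ↥(Cfsg.pCore 2 ↥(Subgroup.centralizer ({z} : Set G))) = 2 ^ 9)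
    (hCQ : Subgroup.centralizer ((Cfsg.pCore 2 ↥(Subgroup.centralizer ({z} : Set G))) : Set ↥(Subgroup.centralizer ({z} : Set G))) ≤ Cfsg.pCore 2 ↥(Subgroup.centralizer ({z} : Set G)))
    (hMQ : Nonempty (↥(Subgroup.centralizer ({z} : Set G)) ⧸ Cfsg.pCore 2 ↥(Subgroup.centralizer ({z} : Set G)) ≃* (Equiv.Perm (Fin 3) × ↥(alternatingGroup (Fin 6)))) ∨
      Nonempty (↥(Subgroup.centralizer ({z} : Set G)) ⧸ Cfsg.pCore 2 ↥(Subgroup.centralizer ({z} : Set G)) ≃* (Equiv.Perm (Fin 3) × Equiv.Perm (Fin 6)))) :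
    ¬ IsSimpleGroup G := by
  intro hs
  obtain ⟨ψ, hinj, hmem⟩ : ∃ ψ : (↥(Subgroup.centralizer ({z} : Set G)) ⧸
      Cfsg.pCore 2 ↥(Subgroup.centralizer ({z} : Set G))) →* CfsgLib.ExtraNine.P36, Function.Injective ψ ∧
      ∀ s, ∀ a : CfsgLib.ExtraNine.A6, ∃ y, ψ y = (s, (a : Equiv.Perm (Fin 6))) := by
    rcases hMQ with ⟨⟨e⟩⟩ | ⟨⟨e⟩⟩
    · refine ⟨((MonoidHom.id (Equiv.Perm (Fin 3))).prodMap (alternatingGroup (Fin 6)).subtype).comp
        e.toMonoidHom, ?_, fun s a => ?_⟩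
      · exact (Function.Injective.prodMap Function.injective_id
          (alternatingGroup (Fin 6)).subtype_injective).comp e.injective
      · exact ⟨e.symm (s, a), by simp⟩
    · exact ⟨e.toMonoidHom, e.injective, fun s a => ⟨e.symm (s, a), by simp⟩⟩
  have hrange : ∀ p, (∃ y, ψ y = p) → p ∈ (ψ.comp (QuotientGroup.mk' _)).range := by
    rintro p ⟨y, rfl⟩
    obtain ⟨m, rfl⟩ := QuotientGroup.mk'_surjective _ y
    exact ⟨m, rfl⟩
  refine CfsgLib.ExtraNine.false_of_quotientMap hz _ rfl hQ hQ9 hCQ (ψ.comp (QuotientGroup.mk' _))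
    (fun y => ?_) (hrange _ (hmem _ 1)) (fun a => hrange _ (hmem 1 a)) ?_
  · rw [MonoidHom.comp_apply, map_eq_one_iff ψ hinj, QuotientGroup.mk'_apply,
      QuotientGroup.eq_one_iff]
  · obtain ⟨y, hy⟩ := hrange _ (hmem (Equiv.swap 0 1) 1)
    exact ⟨y, by rw [hy]; exact CfsgLib.ExtraNine.sign_facts.2.1⟩

end Cfsg.Agent.S3283
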