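import Cfsg.Statements.S3284
import Cfsg.Agent.Lib.ExtraNine.Apply
-- import your own Cfsg.Agent.* helpers here

set_option autoImplicit false
open Cfsg

namespace Cfsg.Agent.S3284

/-- There is no non-abelian finite simple group with an involution z whose centralizer M has generalized Fitting subgroup Q = F*(M) extraspecial of order 2⁹ and M/Q isomorphic to the subgroup of S₃ × S₆ consisting of the pairs of permutations with equal sign (a group (3 × A₆)·2 in which an involution outside 3 × A₆ induces S₃ on the first factor and S₆ on the second). -/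
theorem result {G : Type*} [Group G] [Finite G] [IsSimpleGroup G] (hG : ¬ IsMulCommutative G) (z : G) (hz : orderOf z = 2)
    [hn : (Cfsg.generalizedFittingSubgroup ↥(Subgroup.centralizer ({z} : Set G))).Normal]
    (hQ : Cfsg.IsExtraspecial 2 ↥(Cfsg.generalizedFittingSubgroup ↥(Subgroup.centralizer ({z} : Set G)))) (hQ9 : Nat.card ↥(Cfsg.generalizedFittingSubgroup ↥(Subgroup.centralizer ({z} : Set G))) = 2 ^ 9)
    (e : (↥(Subgroup.centralizer ({z} : Set G)) ⧸ Cfsg.generalizedFittingSubgroup ↥(Subgroup.centralizer ({z} : Set G))) ≃*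
      ↥(MonoidHom.ker (Equiv.Perm.sign.comp (MonoidHom.fst (Equiv.Perm (Fin 3)) (Equiv.Perm (Fin 6))) *
          Equiv.Perm.sign.comp (MonoidHom.snd (Equiv.Perm (Fin 3)) (Equiv.Perm (Fin 6)))))) :
    False := by
  classical
  set X := MonoidHom.ker (Equiv.Perm.sign.comp (MonoidHom.fst (Equiv.Perm (Fin 3)) (Equiv.Perm (Fin 6))) *
    Equiv.Perm.sign.comp (MonoidHom.snd (Equiv.Perm (Fin 3)) (Equiv.Perm (Fin 6)))) with hX
  obtain ⟨s1, s2, s3⟩ := CfsgLib.ExtraNine.sign_facts
  have hc : ((CfsgLib.ExtraNine.c3, 1) : CfsgLib.ExtraNine.P36) ∈ X := by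
    rw [hX, MonoidHom.mem_ker]; simp [s1]
  have ha : ∀ a : CfsgLib.ExtraNine.A6, ((1, (a : Equiv.Perm (Fin 6))) : CfsgLib.ExtraNine.P36) ∈ X := by
    intro a
    rw [hX, MonoidHom.mem_ker]
    simp [Equiv.Perm.mem_alternatingGroup.1 a.2]
  have ht : ((Equiv.swap 0 1, Equiv.swap 0 1) : CfsgLib.ExtraNine.P36) ∈ X := by
    rw [hX, MonoidHom.mem_ker]; simp [s2, s3]
  let q := e.toMonoidHom.comp (QuotientGroup.mk' _)
  have hq : Function.Surjective q := e.surjective.comp (QuotientGroup.mk'_surjective _)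
  have hqk : ∀ y, q y = 1 ↔ y ∈ Cfsg.generalizedFittingSubgroup ↥(Subgroup.centralizer ({z} : Set G)) :=
    fun y => by
      show e (QuotientGroup.mk' _ y) = 1 ↔ _
      rw [MulEquiv.map_eq_one_iff, QuotientGroup.mk'_apply, QuotientGroup.eq_one_iff]
  have hp : IsPGroup 2 ↥(Cfsg.generalizedFittingSubgroup ↥(Subgroup.centralizer ({z} : Set G))) :=
    IsPGroup.of_card hQ9
  have hpc : Cfsg.generalizedFittingSubgroup ↥(Subgroup.centralizer ({z} : Set G)) =
      Cfsg.pCore 2 ↥(Subgroup.centralizer ({z} : Set G)) := by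
    haveI : Fact (Nat.Prime 2) := ⟨Nat.prime_two⟩
    haveI := CfsgLib.Cores.pCore_characteristic (G := ↥(Subgroup.centralizer ({z} : Set G))) 2
    refine le_antisymm (CfsgLib.Cores.le_pCore hp) fun y hy => (hqk y).1 ?_
    haveI : ((Cfsg.pCore 2 ↥(Subgroup.centralizer ({z} : Set G))).map q).Normal :=
      Subgroup.Normal.map inferInstance q hq
    have hb := CfsgLib.ExtraNine.normal_two_trivial X hc ha _
      ((CfsgLib.Cores.isPGroup_pCore (G := ↥(Subgroup.centralizer ({z} : Set G))) 2).map q)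
    exact Subgroup.mem_bot.1 (hb ▸ Subgroup.mem_map_of_mem q hy)
  have hrange : ∀ p, p ∈ X → p ∈ (X.subtype.comp q).range := fun p hp => by
    obtain ⟨y, hy⟩ := hq ⟨p, hp⟩
    exact ⟨y, congrArg Subtype.val hy⟩
  refine CfsgLib.ExtraNine.false_of_quotientMap hz _ hpc hQ hQ9
    CfsgLib.Cores.centralizer_generalizedFittingSubgroup_le (X.subtype.comp q) (fun y => ?_)
    (hrange _ hc) (fun a => hrange _ (ha a)) ?_
  · rw [MonoidHom.comp_apply, map_eq_one_iff _ X.subtype_injective, hqk]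
  · obtain ⟨y, hy⟩ := hrange _ ht
    exact ⟨y, by rw [hy]; exact s2⟩

end Cfsg.Agent.S3284
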