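import Cfsg.Statements.S3294
import Mathlib
import Cfsg.Agent.Lib.Solvable.Fitting
import Cfsg.Agent.Lib.Cores.Basic
import Cfsg.Agent.Lib.Transfer.Basic
import Cfsg.Agent.S3178
-- import your own Cfsg.Agent.* helpers here

set_option autoImplicit false
open Cfsg

namespace Cfsg.Agent.S3294

open QuaternionGroup in
theorem quat_invol {n : ℕ} (q : QuaternionGroup (2 ^ n)) (h : q ^ 2 = 1) :
    q = 1 ∨ q = a ((2 ^ n : ℕ) : ZMod (2 * 2 ^ n)) := by
  have hne : NeZero (2 * 2 ^ n) := ⟨by positivity⟩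
  have hN : ((2 ^ n : ℕ) : ZMod (2 * 2 ^ n)) ≠ 0 := by
    rw [ne_eq, ZMod.natCast_eq_zero_iff]
    exact Nat.not_dvd_of_pos_of_lt (by positivity) (by linarith [Nat.two_pow_pos n])
  rcases q with i | i
  · rw [sq, a_mul_a, one_def, QuaternionGroup.a.injEq] at h
    rw [← ZMod.natCast_zmod_val i, ← Nat.cast_add, ZMod.natCast_eq_zero_iff] at h
    obtain ⟨m, hm⟩ := h
    have hlt := i.val_lt
    have hv : i.val = 0 ∨ i.val = 2 ^ n := by
      rcases Nat.lt_or_ge m 1 with h1 | h1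
      · left; interval_cases m; omega
      rcases Nat.lt_or_ge m 2 with h2 | h2
      · right; interval_cases m; omega
      · have := Nat.mul_le_mul_left (2 * 2 ^ n) h2; omega
    rcases hv with hv | hv
    · left; rw [← ZMod.natCast_zmod_val i, hv, Nat.cast_zero, a_zero]
    · right; rw [← ZMod.natCast_zmod_val i, hv]
  · exact absurd h (by rw [xa_sq, one_def, QuaternionGroup.a.injEq]; exact hN)

theorem quat_eight_ne {n : ℕ} (hn : 3 ≤ n) : (8 : ZMod (2 * 2 ^ n)) ≠ 0 := by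
  rw [show (8 : ZMod (2 * 2 ^ n)) = ((8 : ℕ) : ZMod (2 * 2 ^ n)) by norm_num, ne_eq,
    ZMod.natCast_eq_zero_iff]
  intro h
  have h1 := Nat.le_of_dvd (by norm_num) h
  have h2 : 2 ^ 3 ≤ 2 ^ n := Nat.pow_le_pow_right (by norm_num) hn
  omega

open QuaternionGroup in
theorem quat_fix {X : Type*} [Group X] [Finite X] {n : ℕ} (hn : 3 ≤ n) (T : Subgroup X)
    (e : ↥T ≃* QuaternionGroup (2 ^ n)) (F : Subgroup X) [F.Normal] (hFT : F ≤ T)
    (g : X) (hodd : Odd (orderOf g)) : ∀ f ∈ F, g * f * g⁻¹ = f := by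
  have hne : NeZero (2 * 2 ^ n) := ⟨by positivity⟩
  have hgF : ∀ f ∈ F, g * f * g⁻¹ ∈ F := fun f hf => ‹F.Normal›.conj_mem f hf g
  let E : ∀ f : X, f ∈ F → QuaternionGroup (2 ^ n) := fun f hf => e ⟨f, hFT hf⟩
  have Emul : ∀ f f' (hf : f ∈ F) (hf' : f' ∈ F), E (f * f') (mul_mem hf hf') = E f hf * E f' hf' :=
    fun f f' hf hf' => e.map_mul ⟨f, hFT hf⟩ ⟨f', hFT hf'⟩
  have Einj : ∀ f f' (hf : f ∈ F) (hf' : f' ∈ F), E f hf = E f' hf' → f = f' :=
    fun f f' hf hf' h => congrArg Subtype.val (e.injective h)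
  have Eone : ∀ f (hf : f ∈ F), E f hf = 1 → f = 1 := fun f hf h =>
    congrArg Subtype.val (e.injective (h.trans e.map_one.symm))
  have Ecg : ∀ f f' (hf : f ∈ F) (hf' : f' ∈ F), f = f' → E f hf = E f' hf' := by
    rintro f _ hf hf' rfl; rfl
  let InA : X → Prop := fun f => ∃ hf : f ∈ F, ∃ i, E f hf = a i
  have h2pow : ∀ f ∈ F, ∃ k : ℕ, f ^ (2 ^ k) = 1 := by
    intro f hf
    have hp : IsPGroup 2 (QuaternionGroup (2 ^ n)) :=
      IsPGroup.of_card (n := n + 2) (by rw [Nat.card_eq_fintype_card, QuaternionGroup.card]; ring)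
    obtain ⟨k, hk⟩ := hp (E f hf)
    refine ⟨k, ?_⟩
    have : e ((⟨f, hFT hf⟩ : ↥T) ^ (2 ^ k)) = 1 := by rw [map_pow]; exact hk
    exact congrArg Subtype.val (e.injective (this.trans e.map_one.symm))
  have hinv : ∀ f ∈ F, f ^ 2 = 1 → g * f * g⁻¹ = f := by
    intro f hf h2
    by_cases h1 : f = 1
    · subst h1; simp
    have key : ∀ t (ht : t ∈ F), t ^ 2 = 1 → t ≠ 1 → E t ht = a ((2 ^ n : ℕ) : ZMod (2 * 2 ^ n)) := by
      intro t ht ht2 ht1
      refine (quat_invol (E t ht) ?_).resolve_left fun h => ht1 (Eone t ht h)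
      show e ⟨t, hFT ht⟩ ^ 2 = 1
      rw [← map_pow, ← e.map_one]
      exact congrArg e (Subtype.ext ht2)
    have hgf2 : (g * f * g⁻¹) ^ 2 = 1 := by rw [conj_pow, h2]; group
    have hgf1 : g * f * g⁻¹ ≠ 1 := fun h => h1 (conj_eq_one_iff.1 h)
    exact Einj _ _ (hgF f hf) hf ((key _ (hgF f hf) hgf2 hgf1).trans (key f hf h2 h1).symm)
  have hhigh : ∀ f (hf : f ∈ F), f ^ 4 ≠ 1 → InA f := by
    intro f hf h4
    rcases hE : E f hf with i | i
    · exact ⟨hf, i, hE⟩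
    · exfalso; apply h4
      have : e ((⟨f, hFT hf⟩ : ↥T) ^ 4) = 1 := by
        rw [map_pow]; show E f hf ^ 4 = 1; rw [hE, xa_pow_four]
      exact congrArg Subtype.val (e.injective (this.trans e.map_one.symm))
  have hinvA : ∀ f, InA f → InA (g * f * g⁻¹) := by
    rintro f ⟨hf, i, hi⟩
    by_cases hx : ∀ x (hx : x ∈ F), ∃ j, E x hx = a j
    · exact ⟨hgF f hf, hx _ (hgF f hf)⟩
    push Not at hx
    obtain ⟨x, hxF, hx⟩ := hx
    rcases hE : E x hxF with j | j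
    · exact absurd hE (hx j)
    obtain ⟨s, hs⟩ : ∃ s : ↥T, e s = a 1 := ⟨e.symm (a 1), e.apply_symm_apply _⟩
    have hyF : (s : X) * x * (s : X)⁻¹ ∈ F := ‹F.Normal›.conj_mem x hxF s
    have hy : E _ hyF = xa (j - 2) := by
      show e (s * ⟨x, hFT hxF⟩ * s⁻¹) = _
      rw [map_mul, map_mul, map_inv, hs]
      show a 1 * E x hxF * (a 1)⁻¹ = _
      rw [hE, mul_inv_eq_iff_eq_mul, a_mul_xa, xa_mul_a]
      ring_nf
    have hc0 : ∃ c, ∃ hc : c ∈ F, E c hc = a 2 := by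
      have hxi : E x⁻¹ (inv_mem hxF) = (xa j)⁻¹ := by
        rw [← hE]; exact map_inv e ⟨x, hFT hxF⟩
      refine ⟨_, mul_mem hyF (inv_mem hxF), ?_⟩
      rw [Emul _ _ hyF (inv_mem hxF), hy, hxi, mul_inv_eq_iff_eq_mul, a_mul_xa]
    obtain ⟨c, hc, hEc⟩ := hc0
    have hbig : ∀ t (ht : t ∈ F) (k : ZMod (2 * 2 ^ n)), E t ht = a k → 4 * k ≠ 0 →
        InA (g * t * g⁻¹) := by
      intro t ht k hk hk4
      refine hhigh _ (hgF t ht) fun h4 => hk4 ?_
      rw [conj_pow] at h4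
      have h4' : t ^ 4 = 1 := conj_eq_one_iff.1 h4
      have h5 : E t ht ^ 4 = 1 := by
        show e ⟨t, hFT ht⟩ ^ 4 = 1
        rw [← map_pow, ← e.map_one]
        exact congrArg e (Subtype.ext h4')
      rw [hk, pow_succ, pow_succ, pow_two, a_mul_a, a_mul_a, a_mul_a, one_def,
        QuaternionGroup.a.injEq] at h5
      rw [← h5]; ring
    by_cases h4i : 4 * i = 0
    · have h8 : (4 : ZMod (2 * 2 ^ n)) * (i + 2) ≠ 0 := by
        rw [mul_add, h4i, zero_add]; norm_num; exact quat_eight_ne hn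
      have hcc : (4 : ZMod (2 * 2 ^ n)) * 2 ≠ 0 := by norm_num; exact quat_eight_ne hn
      have hfc : E (f * c) (mul_mem hf hc) = a (i + 2) := by rw [Emul f c hf hc, hi, hEc, a_mul_a]
      obtain ⟨h1, k1, hk1⟩ := hbig (f * c) (mul_mem hf hc) _ hfc h8
      obtain ⟨h2, k2, hk2⟩ := hbig c hc _ hEc hcc
      refine ⟨hgF f hf, k1 - k2, ?_⟩
      have e1 : E (g * f * g⁻¹) (hgF f hf) * E (g * c * g⁻¹) h2 = E (g * (f * c) * g⁻¹) h1 := by
        rw [← Emul _ _ (hgF f hf) h2]; exact Ecg (g * f * g⁻¹ * (g * c * g⁻¹)) (g * (f * c) * g⁻¹) (mul_mem (hgF f hf) h2) h1 (by group)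
      rw [hk1, hk2, ← eq_mul_inv_iff_mul_eq] at e1
      rw [e1, mul_inv_eq_iff_eq_mul, a_mul_a, sub_add_cancel]
    · exact hbig f hf i hi h4i
  have hfixA : ∀ k : ℕ, ∀ f, InA f → f ^ (2 ^ k) = 1 → g * f * g⁻¹ = f := by
    intro k
    induction k with
    | zero => intro f _ h; rw [pow_zero, pow_one] at h; subst h; simp
    | succ k ih =>
      intro f hfA hk
      obtain ⟨hf', i', hi'⟩ := hinvA f hfA
      obtain ⟨hf, i, hi⟩ := hfA
      have hsq : InA (f ^ 2) := ⟨pow_mem hf 2, i + i, by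
        show e ((⟨f, hFT hf⟩ : ↥T) ^ 2) = _
        rw [map_pow]; show E f hf ^ 2 = _; rw [hi, sq, a_mul_a]⟩
      have h2 := ih (f ^ 2) hsq (by rw [← pow_mul, ← pow_succ']; exact hk)
      have hc : Commute (g * f * g⁻¹) f := by
        refine Einj _ _ (mul_mem hf' hf) (mul_mem hf hf') ?_
        rw [Emul _ _ hf' hf, Emul _ _ hf hf', hi, hi', a_mul_a, a_mul_a, add_comm]
      have hy : (g * f * g⁻¹ * f⁻¹) ^ 2 = 1 := by
        rw [hc.inv_right.mul_pow, conj_pow, h2, inv_pow, mul_inv_cancel]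
      have hyF : g * f * g⁻¹ * f⁻¹ ∈ F := mul_mem hf' (inv_mem hf)
      exact mul_inv_eq_one.1 (Cfsg.Agent.S3178.fix_of_shift (g := g) (x := f)
        (y := g * f * g⁻¹ * f⁻¹) (by group) (hinv _ hyF hy) hodd ⟨1, by simpa using hy⟩)
  intro f hf
  rcases hE : E f hf with i | i
  · obtain ⟨k, hk⟩ := h2pow f hf; exact hfixA k f ⟨hf, i, hE⟩ hk
  have hf' := hgF f hf
  rcases hE' : E _ hf' with j | j
  · exfalso
    -- all conjugates of elements of `A` lie in `A`
    have : ∀ m : ℕ, InA (g ^ m * (g * f * g⁻¹) * (g ^ m)⁻¹) := by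
      intro m
      induction m with
      | zero => simpa using ⟨hf', j, hE'⟩
      | succ m ih =>
        have := hinvA _ ih
        rwa [show g ^ (m + 1) * (g * f * g⁻¹) * (g ^ (m + 1))⁻¹
          = g * (g ^ m * (g * f * g⁻¹) * (g ^ m)⁻¹) * g⁻¹ by rw [pow_succ']; group]
    have h0 := this (orderOf g - 1)
    have h1 : g ^ (orderOf g - 1) * g = 1 := by
      rw [← pow_succ, Nat.sub_add_cancel (orderOf_pos g), pow_orderOf_eq_one]
    have h2 : g ^ (orderOf g - 1) * (g * f * g⁻¹) * (g ^ (orderOf g - 1))⁻¹ = f := by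
      calc _ = (g ^ (orderOf g - 1) * g) * f * (g ^ (orderOf g - 1) * g)⁻¹ := by group
        _ = f := by rw [h1]; group
    rw [h2] at h0
    obtain ⟨hf0, i0, hi0⟩ := h0
    rw [hE] at hi0
    exact absurd hi0 (by simp)
  have hyF : g * f * g⁻¹ * f⁻¹ ∈ F := mul_mem hf' (inv_mem hf)
  have hyA : InA (g * f * g⁻¹ * f⁻¹) := by
    refine ⟨hyF, ((2 ^ n : ℕ) : ZMod (2 * 2 ^ n)) + ((2 ^ n : ℕ) : ZMod (2 * 2 ^ n)) + i - j, ?_⟩
    have hfi : E f⁻¹ (inv_mem hf) = (xa i)⁻¹ := by rw [← hE]; exact map_inv e ⟨f, hFT hf⟩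
    rw [Emul _ _ hf' (inv_mem hf), hE', hfi, mul_inv_eq_iff_eq_mul, a_mul_xa]
    congr 1
    have : ((2 ^ n : ℕ) : ZMod (2 * 2 ^ n)) + ((2 ^ n : ℕ) : ZMod (2 * 2 ^ n)) = 0 := by
      rw [← Nat.cast_add, ← two_mul, ZMod.natCast_self]
    rw [this]; ring
  obtain ⟨k, hk⟩ := h2pow _ hyF
  exact mul_inv_eq_one.1 (Cfsg.Agent.S3178.fix_of_shift (g := g) (x := f)
    (y := g * f * g⁻¹ * f⁻¹) (by group) (hfixA k _ hyA hk) hodd ⟨k, hk⟩)


/-- A finite solvable group whose Sylow 2-subgroups are generalized quaternion of order at least 32 has a normal 2-complement. -/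
theorem result {G : Type*} [Group G] [Finite G] (hsol : Group.IsSolvable G) (T : Sylow 2 G) (n : ℕ) (hn : 3 ≤ n) (hT : Nonempty ((T : Subgroup G) ≃* QuaternionGroup (2 ^ n))) : Cfsg.HasNormalPComplement 2 G := by
  haveI : Fact (Nat.Prime 2) := ⟨Nat.prime_two⟩
  obtain ⟨e⟩ := hT
  haveI hON : (Cfsg.oddCore G).Normal := Subgroup.sSup_normal _ fun N hN => hN.1
  set X := G ⧸ Cfsg.oddCore G with hX
  let π : G →* X := QuotientGroup.mk' (Cfsg.oddCore G)
  have hπ : Function.Surjective π := QuotientGroup.mk'_surjective _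
  haveI : Group.IsSolvable X := Group.isSolvable_of_surjective (f := π) hπ
  have hF := CfsgLib.Solvable.centralizer_pCore_le (G := X) 2 (CfsgLib.Cores.pPrimeCore_quotient_self 2)
  set F := Cfsg.pCore 2 X with hFdef
  haveI : F.Normal := Subgroup.sSup_normal _ fun N hN => hN.1
  let T' : Sylow 2 X := T.mapSurjective hπ
  have hinj : Function.Injective (π.subgroupMap (T : Subgroup G)) := by
    rw [injective_iff_map_eq_one]
    intro t ht
    have h1 : (t : G) ∈ Cfsg.oddCore G := (QuotientGroup.eq_one_iff _).1 (congrArg Subtype.val ht)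
    obtain ⟨k, hk⟩ := T.isPGroup' t
    have hc : (orderOf (t : G)).Coprime 2 :=
      (CfsgLib.Cores.coprime_card_pPrimeCore (G := G) 2).coprime_dvd_left
        (Subgroup.orderOf_dvd_natCard _ h1)
    have := CfsgLib.Transfer.eq_one_of_coprime_of_pow hc (k := k)
      (orderOf_dvd_of_pow_eq_one (by simpa using congrArg Subtype.val hk))
    exact Subtype.ext (orderOf_eq_one_iff.1 this)
  let eT : ↥(T : Subgroup G) ≃* ↥((T : Subgroup G).map π) :=
    MulEquiv.ofBijective (π.subgroupMap (T : Subgroup G)) ⟨hinj, π.subgroupMap_surjective _⟩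
  have hFT : F ≤ (T : Subgroup G).map π := by
    have := CfsgLib.Cores.pCore_le_sylow T'
    exact this
  have key : ∀ x : X, Odd (orderOf x) → x = 1 := by
    intro x hx
    have h1 : x ∈ Subgroup.centralizer (F : Set X) := by
      rw [Subgroup.mem_centralizer_iff]
      intro f hf
      have := quat_fix hn ((T : Subgroup G).map π) (eT.symm.trans e) F hFT x hx f hf
      calc f * x = (x * f * x⁻¹) * x := by rw [this]
        _ = x * f := by group
    obtain ⟨k, hk⟩ := (CfsgLib.Cores.isPGroup_pCore (G := X) 2) ⟨x, hF h1⟩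
    have := CfsgLib.Transfer.eq_one_of_coprime_of_pow (p := 2) (Nat.coprime_two_right.2 hx) (k := k)
      (orderOf_dvd_of_pow_eq_one (by simpa using congrArg Subtype.val hk))
    exact orderOf_eq_one_iff.1 this
  have hXp : IsPGroup 2 X := by
    intro x
    refine ⟨(orderOf x).factorization 2, key _ ?_⟩
    rw [orderOf_pow_of_dvd (pow_ne_zero _ two_ne_zero) (Nat.ordProj_dvd _ _)]
    exact Nat.coprime_two_left.1 (Nat.coprime_ordCompl Nat.prime_two (orderOf_pos x).ne')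
  obtain ⟨k, hk⟩ := IsPGroup.iff_card.1 hXp
  exact CfsgLib.Transfer.hasNormalPComplement_of hON (CfsgLib.Cores.coprime_card_pPrimeCore 2) hk

end Cfsg.Agent.S3294
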