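import Cfsg.Statements.S3301
import Cfsg.Agent.Lib.InvolChar.LargeExtraTransfer
import Cfsg.Agent.Lib.InvolChar.LargeExtraChar
import Cfsg.Agent.Lib.Cores.Basic
-- import your own Cfsg.Agent.* helpers here

set_option autoImplicit false
open Cfsg

namespace Cfsg.Agent.S3301

theorem zmod4_even : ∀ u : ZMod 4, u + u = 0 → (ZMod.castHom (by norm_num : 2 ∣ 4) (ZMod 2)) u = 0 := by decide

theorem zmod4_double : ∀ u : ZMod 4, (ZMod.castHom (by norm_num : 2 ∣ 4) (ZMod 2)) u = 0 → u + u = 0 := by decide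

/-- The embedding of the group of order two into the units of the integers. -/
def toUnits : Multiplicative (ZMod 2) →* ℤˣ where
  toFun u := if Multiplicative.toAdd u = 0 then 1 else -1
  map_one' := rfl
  map_mul' := by decide

theorem toUnits_eq_one : ∀ u : Multiplicative (ZMod 2), toUnits u = 1 → u = 1 := by decide


/-- Let G be a finite group with no nontrivial 2-group quotient (O^2(G) = G), z an involution of G with H = C_G(z), and suppose E = O_2(H) is extraspecial with C_G(E) ≤ E. Then the Sylow 2-subgroups of H/[H, H] are elementary abelian: every element of 2-power order of the abelianization of H has order at most 2. -/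
theorem result {G : Type*} [Group G] [Finite G] (hres : Cfsg.pResidual 2 G = ⊤) (z : G) (hz : orderOf z = 2)
    (E : Subgroup G) (hE : E = (Cfsg.pCore 2 ↥(Subgroup.centralizer ({z} : Set G))).map (Subgroup.centralizer ({z} : Set G)).subtype)
    (hext : Cfsg.IsExtraspecial 2 ↥E) (hcent : Subgroup.centralizer (E : Set G) ≤ E) :
    ∀ q : Abelianization ↥(Subgroup.centralizer ({z} : Set G)), (∃ k : ℕ, orderOf q = 2 ^ k) → q ^ 2 = 1 := by
  classical
  obtain ⟨hzz, hz1⟩ : z * z = 1 ∧ z ≠ 1 := by
    have := orderOf_eq_prime_iff.1 hz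
    rwa [sq] at this
  set H := Subgroup.centralizer ({z} : Set G) with hH
  have hEH : E ≤ H := hE ▸ Subgroup.map_subtype_le _
  have hEn : ∀ h ∈ H, ∀ e ∈ E, h * e * h⁻¹ ∈ E := by
    intro h hh x hx
    rw [hE] at hx ⊢
    obtain ⟨x', hx', rfl⟩ := hx
    haveI := CfsgLib.Cores.pCore_characteristic (G := ↥H) 2
    exact ⟨⟨h, hh⟩ * x' * (⟨h, hh⟩ : H)⁻¹, (inferInstance : (Cfsg.pCore 2 H).Normal).conj_mem x' hx' _, rfl⟩
  have hno : ∀ f : G →* Multiplicative (ZMod 2), ∀ g, f g = 1 := fun f g =>
    toUnits_eq_one _ (CfsgLib.InvolChar.LargeExtraTransfer.hom_units_trivial hres (toUnits.comp f) g)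
  have key : ∀ μ : H →* Multiplicative (ZMod 4), ∀ h, μ h * μ h = 1 := by
    intro μ h
    let m : G → ZMod 4 := fun g => if hg : g ∈ H then Multiplicative.toAdd (μ ⟨g, hg⟩) else 0
    let χ : G → ZMod 2 := fun g => (ZMod.castHom (by norm_num : 2 ∣ 4) (ZMod 2)) (m g)
    have hm : ∀ a ∈ H, ∀ b ∈ H, m (a * b) = m a + m b := fun a ha b hb => by
      simp only [m, dif_pos ha, dif_pos hb, dif_pos (mul_mem ha hb)]
      rw [← toAdd_mul, ← map_mul]; rfl
    have h0 := CfsgLib.InvolChar.LargeExtraChar.char_zero hno hzz hz1 E hEH hEn hext hcent (χ := χ)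
      (fun a ha b hb => by
        show (ZMod.castHom _ (ZMod 2)) (m (a * b)) = _
        rw [hm a ha b hb, map_add])
      (fun a ha haa => zmod4_even _ (by
        rw [← hm a ha a ha, haa]
        simp only [m, dif_pos (one_mem H)]
        show Multiplicative.toAdd (μ 1) = 0
        rw [map_one]; rfl))
      (fun a ha b hb c hc habc => zmod4_even _ (by
        rw [← hm a ha a ha, habc, hm _ (mul_mem (mul_mem hb hc) (inv_mem hb)) _ (inv_mem hc),
          hm _ (mul_mem hb hc) _ (inv_mem hb), hm _ hb _ hc]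
        have hi : ∀ u ∈ H, m u⁻¹ = -m u := fun u hu => by
          simp only [m, dif_pos hu, dif_pos (inv_mem hu)]
          rw [← toAdd_inv, ← map_inv]; rfl
        rw [hi b hb, hi c hc]; abel))
    have h1 := zmod4_double _ (h0 h h.2)
    simp only [m, dif_pos h.2] at h1
    exact Multiplicative.toAdd.injective ((toAdd_mul _ _).trans h1)
  intro q hq
  obtain ⟨k, hk⟩ := hq
  obtain ⟨ι, hι, n, hn, ⟨e⟩⟩ := CommGroup.equiv_prod_multiplicative_zmod_of_finite (Abelianization ↥H)
  refine e.injective (funext fun i => ?_)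
  rw [map_pow, map_one, Pi.pow_apply, Pi.one_apply]
  by_cases h4 : 4 ∣ n i
  · exfalso
    obtain ⟨h, hh⟩ := QuotientGroup.mk_surjective (e.symm (Pi.mulSingle i (Multiplicative.ofAdd 1)))
    let μ : H →* Multiplicative (ZMod 4) :=
      (AddMonoidHom.toMultiplicative (ZMod.castHom h4 (ZMod 4)).toAddMonoidHom).comp
        ((Pi.evalMonoidHom _ i).comp (e.toMonoidHom.comp Abelianization.of))
    have h1 : μ h = Multiplicative.ofAdd (1 : ZMod 4) := by
      show Multiplicative.ofAdd ((ZMod.castHom h4 (ZMod 4)) (Multiplicative.toAdd (e (Abelianization.of h) i))) = _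
      rw [show Abelianization.of h = e.symm (Pi.mulSingle i (Multiplicative.ofAdd 1)) from hh,
        MulEquiv.apply_symm_apply, Pi.mulSingle_eq_same, toAdd_ofAdd, map_one]
    have h2 := key μ h
    rw [h1, ← ofAdd_add, ofAdd_eq_one] at h2
    exact absurd h2 (by decide)
  · have h1 : orderOf (e q i) ∣ 2 ^ k := by
      rw [← hk, ← MulEquiv.orderOf_eq e q]
      exact orderOf_map_dvd (Pi.evalMonoidHom _ i) (e q)
    haveI : NeZero (n i) := ⟨by have := hn i; omega⟩
    have h2 : orderOf (e q i) ∣ n i := by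
      have := orderOf_dvd_natCard (e q i)
      rwa [Nat.card_congr (Multiplicative.toAdd), Nat.card_zmod] at this
    obtain ⟨j, -, hj⟩ := (Nat.dvd_prime_pow Nat.prime_two).1 h1
    refine orderOf_dvd_iff_pow_eq_one.1 ?_
    rw [hj]
    rcases Nat.lt_or_ge j 2 with hj2 | hj2
    · exact (pow_dvd_pow 2 (show j ≤ 1 by omega)).trans (pow_one 2).dvd
    · exact absurd (((pow_dvd_pow 2 hj2).trans (hj ▸ h2))) h4

end Cfsg.Agent.S3301
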