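import Cfsg.Statements.S3305
import Mathlib
-- import your own Cfsg.Agent.* helpers here

set_option autoImplicit false
open Cfsg

namespace Cfsg.Agent.S3305

/-- If any two distinct Sylow 2-subgroups of the finite group G intersect in a cyclic group, then the same holds in every quotient group G/H, H a normal subgroup of G. -/
theorem result {G : Type*} [Group G] [Finite G]
    (hC : ∀ S T : Sylow 2 G, S ≠ T → IsCyclic ↥((S : Subgroup G) ⊓ (T : Subgroup G))) (H : Subgroup G) [H.Normal] :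
    ∀ S T : Sylow 2 (G ⧸ H), S ≠ T → IsCyclic ↥((S : Subgroup (G ⧸ H)) ⊓ (T : Subgroup (G ⧸ H))) := by
  intro S T hST
  haveI : Fact (Nat.Prime 2) := ⟨Nat.prime_two⟩
  let π := QuotientGroup.mk' H
  have hπ : Function.Surjective π := QuotientGroup.mk'_surjective H
  let X : Subgroup G := ((S : Subgroup (G ⧸ H)) ⊓ (T : Subgroup (G ⧸ H))).comap π
  obtain ⟨R⟩ : Nonempty (Sylow 2 ↥X) := inferInstance
  let R' : Subgroup G := (R : Subgroup ↥X).map X.subtype
  -- Sylow subgroups of `G` over `S` and `T` containing `R'`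
  have lift : ∀ U : Sylow 2 (G ⧸ H), X ≤ (U : Subgroup (G ⧸ H)).comap π →
      ∃ P : Sylow 2 G, R' ≤ (P : Subgroup G) ∧ (P : Subgroup G).map π = (U : Subgroup (G ⧸ H)) := by
    intro U hXU
    let Y : Subgroup G := (U : Subgroup (G ⧸ H)).comap π
    have hR'Y : R' ≤ Y := (Subgroup.map_subtype_le _).trans hXU
    have hp : IsPGroup 2 ↥(R'.subgroupOf Y) :=
      (R.isPGroup'.map X.subtype).comap_subtype
    obtain ⟨Q, hQ⟩ := hp.exists_le_sylow
    have hidx : ¬ 2 ∣ ((Q : Subgroup ↥Y).map Y.subtype).index := by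
      rw [Subgroup.index_map_subtype, Subgroup.index_comap_of_surjective _ hπ]
      exact (Nat.prime_two.not_dvd_mul Q.not_dvd_index U.not_dvd_index)
    refine ⟨(Q.isPGroup'.map Y.subtype).toSylow hidx, ?_, ?_⟩
    · intro r hr
      exact ⟨⟨r, hR'Y hr⟩, hQ hr, rfl⟩
    · simp only [IsPGroup.toSylow_coe]
      rw [Subgroup.map_map]
      apply le_antisymm
      · rintro _ ⟨q, _, rfl⟩; exact q.2
      · let f : ↥Y →* ↥(U : Subgroup (G ⧸ H)) := (π.comp Y.subtype).codRestrict _ fun q => q.2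
        have hf : Function.Surjective f := by
          rintro ⟨b, hb⟩
          obtain ⟨a, rfl⟩ := hπ b
          exact ⟨⟨a, hb⟩, rfl⟩
        have htop := U.isPGroup'
        have hmap : (Q.mapSurjective hf : Subgroup ↥(U : Subgroup (G ⧸ H))) = ⊤ := by
          refine ((Q.mapSurjective hf).3 (htop.to_subgroup ⊤) le_top).symm
        intro b hb
        have : (⟨b, hb⟩ : ↥(U : Subgroup (G ⧸ H))) ∈ (Q : Subgroup ↥Y).map f := by
          rw [← Sylow.coe_mapSurjective hf, hmap]; trivial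
        obtain ⟨q, hq, hqe⟩ := this
        exact ⟨q, hq, congrArg Subtype.val hqe⟩
  obtain ⟨P, hRP, hP⟩ := lift S (Subgroup.comap_mono inf_le_left)
  obtain ⟨P', hRP', hP'⟩ := lift T (Subgroup.comap_mono inf_le_right)
  have hne : P ≠ P' := fun h => hST (Sylow.ext (by rw [← hP, ← hP', h]))
  haveI := hC P P' hne
  haveI : IsCyclic ↥R' := Subgroup.isCyclic_of_le (le_inf hRP hRP')
  have hD : R'.map π = (S : Subgroup (G ⧸ H)) ⊓ (T : Subgroup (G ⧸ H)) := by
    let D : Subgroup (G ⧸ H) := (S : Subgroup (G ⧸ H)) ⊓ (T : Subgroup (G ⧸ H))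
    let f : ↥X →* ↥D := (π.comp X.subtype).codRestrict _ fun q => q.2
    have hf : Function.Surjective f := by
      rintro ⟨b, hb⟩
      obtain ⟨a, rfl⟩ := hπ b
      exact ⟨⟨a, hb⟩, rfl⟩
    have hpD : IsPGroup 2 ↥D := S.isPGroup'.to_le inf_le_left
    have hmap : (R.mapSurjective hf : Subgroup ↥D) = ⊤ :=
      ((R.mapSurjective hf).3 (hpD.to_subgroup ⊤) le_top).symm
    apply le_antisymm
    · rintro _ ⟨_, ⟨q, _, rfl⟩, rfl⟩; exact q.2
    · intro b hb
      have : (⟨b, hb⟩ : ↥D) ∈ (R : Subgroup ↥X).map f := by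
        rw [← Sylow.coe_mapSurjective hf, hmap]; trivial
      obtain ⟨q, hq, hqe⟩ := this
      exact ⟨q, ⟨q, hq, rfl⟩, congrArg Subtype.val hqe⟩
  rw [← hD]
  exact isCyclic_of_surjective (π.subgroupMap R') (π.subgroupMap_surjective R')

end Cfsg.Agent.S3305
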