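import Cfsg.Statements.S3303
import Mathlib
import Cfsg.Agent.S3305
import Cfsg.Agent.Lib.Solvable.Fitting
import Cfsg.Agent.Lib.Cores.Basic
-- import your own Cfsg.Agent.* helpers here

set_option autoImplicit false
open Cfsg

namespace Cfsg.Agent.S3303

/-- Let G be a finite solvable group in which the intersection of any two distinct Sylow 2-subgroups is cyclic. Then G/O(G) has a normal Sylow 2-subgroup, where O(G) is the largest normal subgroup of odd order. -/
theorem result {G : Type*} [Group G] [Finite G] (hs : Group.IsSolvable G)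
    (hC : ∀ S T : Sylow 2 G, S ≠ T → IsCyclic ↥((S : Subgroup G) ⊓ (T : Subgroup G))) :
    ∃ P : Sylow 2 (G ⧸ Cfsg.oddCore G), (P : Subgroup (G ⧸ Cfsg.oddCore G)).Normal := by
  haveI : Fact (Nat.Prime 2) := ⟨Nat.prime_two⟩
  set Q := G ⧸ Cfsg.oddCore G with hQdef
  haveI : Group.IsSolvable Q := Group.isSolvable_of_surjective (f := QuotientGroup.mk' (Cfsg.oddCore G))
    (QuotientGroup.mk'_surjective _)
  have hC' := Cfsg.Agent.S3305.result hC (Cfsg.oddCore G)
  by_cases hsub : ∀ S T : Sylow 2 Q, S = T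
  · haveI : Subsingleton (Sylow 2 Q) := ⟨hsub⟩
    obtain ⟨P⟩ := (inferInstance : Nonempty (Sylow 2 Q))
    exact ⟨P, P.normal_of_subsingleton⟩
  push_neg at hsub
  obtain ⟨S, T, hST⟩ := hsub
  exfalso
  have hA : Subgroup.centralizer (Cfsg.pCore 2 Q : Set Q) ≤ Cfsg.pCore 2 Q :=
    CfsgLib.Solvable.centralizer_pCore_le 2 (CfsgLib.Cores.pPrimeCore_quotient_self 2)
  set A := Cfsg.pCore 2 Q with hAdef
  have hAp : IsPGroup 2 ↥A := CfsgLib.Cores.isPGroup_pCore 2
  haveI hAn : A.Normal := Subgroup.sSup_normal _ fun N hN => hN.1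
  haveI := hC' S T hST
  haveI hAc : IsCyclic ↥A :=
    Subgroup.isCyclic_of_le (le_inf (CfsgLib.Cores.pCore_le_sylow S) (CfsgLib.Cores.pCore_le_sylow T))
  let f : Q →* MulAut ↥A := MulAut.conjNormal
  have hker : f.ker ≤ Subgroup.centralizer (A : Set Q) := by
    intro k hk
    rw [Subgroup.mem_centralizer_iff]
    intro a ha
    have h1 : f k ⟨a, ha⟩ = ⟨a, ha⟩ := by rw [MonoidHom.mem_ker.1 hk]; rfl
    have h2 : k * a * k⁻¹ = a := by
      have := congrArg Subtype.val h1
      simpa [f, MulAut.conjNormal_apply] using this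
    calc a * k = (k * a * k⁻¹) * k := by rw [h2]
      _ = k * a := by group
  have hMA : IsPGroup 2 (MulAut ↥A) := by
    obtain ⟨k, hk⟩ := IsPGroup.iff_card.1 hAp
    rcases Nat.eq_zero_or_pos k with h0 | h0
    · exact IsPGroup.of_card (n := 0) (by rw [IsCyclic.card_mulAut, hk, h0, pow_zero, Nat.totient_one])
    · exact IsPGroup.of_card (n := k - 1) (by
        rw [IsCyclic.card_mulAut, hk, Nat.totient_prime_pow Nat.prime_two h0]; simp)
  have htop : IsPGroup 2 ↥(⊤ : Subgroup Q) := by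
    have := (hMA.to_subgroup ⊤).comap_of_ker_isPGroup f (hAp.to_le (hker.trans hA))
    rwa [Subgroup.comap_top] at this
  have hS : (S : Subgroup Q) = ⊤ := (S.3 htop le_top).symm
  have hT : (T : Subgroup Q) = ⊤ := (T.3 htop le_top).symm
  exact hST (Sylow.ext (hS.trans hT.symm))

end Cfsg.Agent.S3303
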