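import Cfsg.Statements.S3306
import Cfsg.Agent.Lib.CyclicTwoInt.Central
import Cfsg.Agent.Lib.Solvable.Fitting
import Cfsg.Agent.S3305

set_option autoImplicit false
open Cfsg

namespace Cfsg.Agent.S3306

/-- Let G be a finite nonsolvable group in which any two distinct Sylow 2-subgroups intersect in a cyclic group, and let N be a solvable normal subgroup of G. Then the image of N in G/O(G) is a cyclic 2-group contained in the centre of G/O(G) (O(G) the largest normal subgroup of odd order). In other words the solvable radical of G is V·O(G) with V a cyclic 2-group central modulo O(G). -/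
theorem result {G : Type*} [Group G] [Finite G] (hns : ¬ Group.IsSolvable G)
    (hC : ∀ S T : Sylow 2 G, S ≠ T → IsCyclic ↥((S : Subgroup G) ⊓ (T : Subgroup G)))
    (N : Subgroup G) [N.Normal] (hN : Group.IsSolvable ↥N) :
    IsCyclic ↥(N.map (QuotientGroup.mk' (Cfsg.oddCore G))) ∧ IsPGroup 2 ↥(N.map (QuotientGroup.mk' (Cfsg.oddCore G))) ∧
      N.map (QuotientGroup.mk' (Cfsg.oddCore G)) ≤ Subgroup.center (G ⧸ Cfsg.oddCore G) := by
  haveI : Fact (Nat.Prime 2) := ⟨Nat.prime_two⟩
  set π := QuotientGroup.mk' (oddCore G) with hπ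
  have hπs : Function.Surjective π := QuotientGroup.mk'_surjective _
  have hO : oddCore (G ⧸ oddCore G) = ⊥ := CfsgLib.Cores.pPrimeCore_quotient_self 2
  have hc : CfsgLib.CyclicTwoInt.CycInt (G ⧸ oddCore G) := Cfsg.Agent.S3305.result hC (oddCore G)
  have hns' : ¬ Group.IsSolvable (G ⧸ oddCore G) := fun h =>
    hns (CfsgLib.CyclicTwoInt.isSolvable_of_normal (oddCore G)
      (Cfsg.Agent.S0205.result CfsgLib.Cores.odd_card_oddCore) h)
  set M := N.map π
  haveI hMn : M.Normal := Subgroup.Normal.map inferInstance π hπs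
  haveI : Group.IsSolvable M :=
    Group.isSolvable_of_surjective (π.subgroupMap_surjective N)
  have hR := CfsgLib.CyclicTwoInt.core_le_center hc hns' hO
  have hMc : pPrimeCore 2 M = ⊥ := by
    have h := CfsgLib.Cores.map_subtype_pPrimeCore_le_of_normal 2 M
    rw [show pPrimeCore 2 (G ⧸ oddCore G) = ⊥ from hO, le_bot_iff,
      Subgroup.map_eq_bot_iff_of_injective _ M.subtype_injective] at h
    exact h
  have htop : pCore 2 M = ⊤ := by
    refine top_le_iff.1 fun m _ => CfsgLib.Solvable.centralizer_pCore_le 2 hMc ?_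
    intro x hx
    refine Subtype.ext ?_
    have hxR : (x : G ⧸ oddCore G) ∈ pCore 2 (G ⧸ oddCore G) :=
      CfsgLib.Cores.map_subtype_pCore_le_of_normal 2 M (Subgroup.mem_map_of_mem M.subtype hx)
    exact ((Subgroup.mem_center_iff.1 (hR hxR)) (m : G ⧸ oddCore G)).symm
  have hMp : IsPGroup 2 M := CfsgLib.Cores.pCore_eq_top_iff.1 htop
  have hMR : M ≤ pCore 2 (G ⧸ oddCore G) := CfsgLib.Cores.le_pCore hMp
  haveI := CfsgLib.CyclicTwoInt.isCyclic_core hc hns'
  exact ⟨isCyclic_of_injective (Subgroup.inclusion hMR) (Subgroup.inclusion_injective hMR), hMp,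
    hMR.trans hR⟩

end Cfsg.Agent.S3306
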