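import Cfsg.Statements.S3309
import Cfsg.Agent.Lib.InvolChar.CentralTransfer
import Cfsg.Agent.Lib.Transfer.Fusion
-- import your own Cfsg.Agent.* helpers here

set_option autoImplicit false
open Cfsg

namespace Cfsg.Agent.S3309


theorem d8_center : ∀ d : DihedralGroup 4, (∀ x, x * d = d * x) → ∃ y, d = y * y := by decide

theorem gen_fst : ((Multiplicative.ofAdd 1, 1) : Multiplicative (ZMod 2) × DihedralGroup 4) ^ 2 = 1 ∧
    ((Multiplicative.ofAdd 1, 1) : Multiplicative (ZMod 2) × DihedralGroup 4) ≠ 1 ∧
    (Multiplicative.ofAdd 1 : Multiplicative (ZMod 2)) ≠ 1 := by decide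

theorem sq_fst : ∀ x : Multiplicative (ZMod 2), x * x = 1 := by decide


/-- A finite group whose Sylow 2-subgroups are isomorphic to the direct product of a group of order 2 and the dihedral group of order 8 is not a non-abelian simple group. -/
theorem result {G : Type*} [Group G] [Finite G] (S : Sylow 2 G) (hS : Nonempty (↥(S : Subgroup G) ≃* Multiplicative (ZMod 2) × DihedralGroup 4))
    [IsSimpleGroup G] (hG : ¬ IsMulCommutative G) : False := by
  haveI : Fact (Nat.Prime 2) := ⟨Nat.prime_two⟩
  obtain ⟨e⟩ := hS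
  let χ : ↥(S : Subgroup G) →* Multiplicative (ZMod 2) := (MonoidHom.fst _ _).comp e.toMonoidHom
  set Q := χ.ker.map (S : Subgroup G).subtype with hQ
  have hQS : Q ≤ (S : Subgroup G) := Subgroup.map_subtype_le _
  set c : ↥(S : Subgroup G) := e.symm (Multiplicative.ofAdd 1, 1) with hc
  have hχ : Function.Surjective χ := fun t => ⟨e.symm (t, 1), by simp [χ]⟩
  have hQi : Q.relIndex (S : Subgroup G) = 2 := by
    rw [Subgroup.relIndex, Subgroup.subgroupOf, hQ,
      Subgroup.comap_map_eq_self_of_injective (S : Subgroup G).subtype_injective,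
      Subgroup.index_ker, MonoidHom.range_eq_top.2 hχ, Subgroup.card_top]
    simp
  have hcord : orderOf (c : G) = 2 := by
    rw [Subgroup.orderOf_coe, hc, MulEquiv.orderOf_eq]
    exact orderOf_eq_prime gen_fst.1 gen_fst.2.1
  have hccent : ∀ s ∈ (S : Subgroup G), s * (c : G) = (c : G) * s := by
    intro s hs
    have : (⟨s, hs⟩ : ↥(S : Subgroup G)) * c = c * ⟨s, hs⟩ := by
      apply e.injective
      rw [map_mul, map_mul, hc, e.apply_symm_apply]
      exact Prod.ext (mul_comm _ _) (by simp)
    exact congrArg Subtype.val this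
  rcases CfsgLib.InvolChar.exists_conj_central S Q hQS hQi (c : G) hcord hccent with ⟨M, hMn, hMi, hcM⟩ | ⟨g, hgQ, hgc⟩
  · rcases hMn.eq_bot_or_eq_top with h | h
    · subst h
      rw [Subgroup.index_bot] at hMi
      haveI : Fact (Nat.card G).Prime := ⟨hMi ▸ Nat.prime_two⟩
      haveI := isCyclic_of_prime_card (α := G) rfl
      exact hG inferInstance
    · exact hcM (h ▸ Subgroup.mem_top _)
  · obtain ⟨v, hv, hve⟩ := hgQ
    -- `v` is a square
    have hv1 : (e v).1 = 1 := hv
    obtain ⟨y, hy⟩ := d8_center (e v).2 fun x => by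
      have hx : e.symm (1, x) ∈ χ.ker := by
        show (e (e.symm _)).1 = 1
        rw [e.apply_symm_apply]
      have h1 := hgc _ ⟨_, hx, rfl⟩
      rw [← hve] at h1
      have h2 : e.symm (1, x) * v = v * e.symm (1, x) := Subtype.ext h1
      simpa using congrArg (fun w => (e w).2) h2
    have hsq : v = e.symm (1, y) * e.symm (1, y) := by
      apply e.injective
      rw [map_mul, e.apply_symm_apply]
      exact Prod.ext (by simpa using hv1) hy
    have hScent : ∀ s ∈ (S : Subgroup G), s * (v : G) = (v : G) * s := by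
      intro s hs
      have h3 : (⟨s, hs⟩ : ↥(S : Subgroup G)) * v = v * ⟨s, hs⟩ := by
        apply e.injective
        refine Prod.ext ?_ ?_
        · simp [hv1]
        · have hx : e.symm (1, (e ⟨s, hs⟩).2) ∈ χ.ker := by
            show (e (e.symm _)).1 = 1
            rw [e.apply_symm_apply]
          have h1 := hgc _ ⟨_, hx, rfl⟩
          rw [← hve] at h1
          have h2 : e.symm (1, (e ⟨s, hs⟩).2) * v = v * e.symm (1, (e ⟨s, hs⟩).2) := Subtype.ext h1
          simpa using congrArg (fun w => (e w).2) h2
      exact congrArg Subtype.val h3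
    have hX : ∀ w : G, (∀ s ∈ (S : Subgroup G), s * w = w * s) →
        (S : Subgroup G) ≤ Subgroup.normalizer ({w} : Set G) := by
      intro w hw s hs
      rw [Subgroup.mem_normalizer_iff_conj_image_eq]
      simp [hw s hs]
    obtain ⟨n, hn, hnv⟩ := CfsgLib.Transfer.exists_mem_normalizer_image_eq S (X := {(v : G)}) (Y := {(c : G)})
      (hX _ hScent) (hX _ hccent) (g := g) (by
        rw [Set.image_singleton]
        simp only [Subgroup.coe_subtype] at hve
        rw [hve]; simp [mul_assoc])
    rw [Set.image_singleton, Set.singleton_eq_singleton_iff, MulAut.conj_apply] at hnv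
    -- so `c` is a square as well
    have hy' : n * (e.symm (1, y) : G) * n⁻¹ ∈ (S : Subgroup G) :=
      (Subgroup.mem_normalizer_iff.mp hn _).mp (e.symm (1, y)).2
    have h4 : c = (⟨_, hy'⟩ : ↥(S : Subgroup G)) * ⟨_, hy'⟩ := by
      apply Subtype.ext
      rw [← hnv, hsq]
      push_cast
      group
    have h5 := congrArg (fun w => (e w).1) h4
    simp only [map_mul, hc, e.apply_symm_apply, Prod.fst_mul, sq_fst] at h5
    exact absurd h5 gen_fst.2.2

end Cfsg.Agent.S3309
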