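import Cfsg.Statements.S3313
import Cfsg.Agent.S0213
import Cfsg.Agent.Lib.InvolChar.MinusThirtyTwo
import Cfsg.Agent.Lib.Cores.Fitting
import Cfsg.Agent.Lib.Cores.Components
import Cfsg.Agent.Lib.Invol.Counting
-- import your own Cfsg.Agent.* helpers here

set_option autoImplicit false
set_option linter.style.haveILetI false
open Cfsg

namespace Cfsg.Agent.S3313

open Subgroup in
theorem prod_bij {G : Type*} [Group G] {A B S : Subgroup G} (h : Cfsg.IsInternalDirectProduct A B S) :
    (∀ a ∈ A, ∀ b ∈ B, ∀ a' ∈ A, ∀ b' ∈ B, a * b = a' * b' → a = a' ∧ b = b') ∧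
      ∀ s ∈ S, ∃ a ∈ A, ∃ b ∈ B, s = a * b := by
  obtain ⟨-, -, hc, hinf, hsup⟩ := h
  refine ⟨fun a ha b hb a' ha' b' hb' e => ?_, fun s hs => ?_⟩
  · have h1 : a'⁻¹ * a = b' * b⁻¹ := by
      rw [inv_mul_eq_iff_eq_mul, ← mul_assoc, ← e, mul_inv_cancel_right]
    have h2 : a'⁻¹ * a ∈ A ⊓ B := mem_inf.2 ⟨mul_mem (inv_mem ha') ha, h1 ▸ mul_mem hb' (inv_mem hb)⟩
    rw [hinf, mem_bot, inv_mul_eq_one] at h2
    subst h2
    exact ⟨rfl, mul_left_cancel e⟩
  · let f := MonoidHom.noncommCoprod A.subtype B.subtype (fun a b => hc a a.2 b b.2)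
    have hr : f.range = S := by
      refine (MonoidHom.noncommCoprod_range _ _ _).trans ?_
      rw [range_subtype, range_subtype, hsup]
    obtain ⟨p, hp⟩ := (hr.symm ▸ hs : s ∈ f.range)
    exact ⟨p.1, p.1.2, p.2, p.2.2, hp.symm⟩

/-- Counting pairs by the first member of a conjugation-invariant relation. -/
theorem card_rel {G : Type*} [Group G] [Finite G] (x : G) (P : G → G → Prop)
    (hP : ∀ g a b, P (g * a * g⁻¹) (g * b * g⁻¹) ↔ P a b) :
    Nat.card {p : G × G // IsConj x p.1 ∧ P p.1 p.2} = Nat.card {y : G // IsConj x y} * Nat.card {b : G // P x b} := by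
  classical
  haveI := Fintype.ofFinite G
  let e : {p : G × G // IsConj x p.1 ∧ P p.1 p.2} ≃ Σ y : {y : G // IsConj x y}, {b : G // P y b} :=
    { toFun := fun p => ⟨⟨p.1.1, p.2.1⟩, ⟨p.1.2, p.2.2⟩⟩
      invFun := fun q => ⟨(q.1.1, q.2.1), q.1.2, q.2.2⟩
      left_inv := fun p => rfl
      right_inv := fun q => rfl }
  rw [Nat.card_congr e, Nat.card_sigma, Finset.sum_congr rfl (fun y _ => show _ = Nat.card {b : G // P x b} from ?_)]
  · simp
  · obtain ⟨g, hg⟩ := isConj_iff.mp y.2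
    refine (Nat.card_congr (Equiv.subtypeEquiv (MulAut.conj g).toEquiv fun b => ?_)).symm
    show P x b ↔ P y (g * b * g⁻¹)
    rw [← hg, hP]

theorem a5_invol : Nat.card {a : alternatingGroup (Fin 5) // a * a = 1 ∧ a ≠ 1} = 15 := by
  rw [Nat.card_eq_fintype_card]; decide +kernel

theorem a5_pairs : Nat.card {p : alternatingGroup (Fin 5) × alternatingGroup (Fin 5) //
    p.1 * p.1 = 1 ∧ p.1 ≠ 1 ∧ p.2 * p.2 = 1 ∧ (p.1 * p.2) ^ 15 = 1} = 195 := by
  rw [Nat.card_eq_fintype_card]; decide +kernel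

theorem eq_one_or_self {G : Type*} [Group G] {w x : G} (hw : w * w = 1) (hx : x ∈ Subgroup.zpowers w) :
    x = 1 ∨ x = w := by
  obtain ⟨k, rfl⟩ := Subgroup.mem_zpowers_iff.1 hx
  have h2 : w ^ (2 : ℤ) = 1 := by rw [zpow_two]; exact hw
  rcases Int.even_or_odd' k with ⟨j, rfl | rfl⟩
  · exact Or.inl (by rw [zpow_mul, h2, one_zpow])
  · exact Or.inr (by rw [zpow_add, zpow_mul, h2, one_zpow, one_mul, zpow_one])

theorem orderOf_eq_two_iff' {G : Type*} [Group G] {x : G} : orderOf x = 2 ↔ x * x = 1 ∧ x ≠ 1 := by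
  rw [orderOf_eq_prime_iff, sq]

theorem comm_of_mem_zpowers {G : Type*} [Group G] {u v w : G} (hu : u * u = 1) (hv : v * v = 1) (hw : w * w = 1)
    (h : w ∈ Subgroup.zpowers (u * v)) : u * w = w * u ∧ v * w = w * v := by
  obtain ⟨n, hn⟩ := Subgroup.mem_zpowers_iff.1 h
  have hi : w⁻¹ = w := inv_eq_of_mul_eq_one_right hw
  have h1 : u * w * u⁻¹ = w⁻¹ := by
    rw [← hn, ← conj_zpow, show u * (u * v) * u⁻¹ = (u * v)⁻¹ by
      rw [← mul_assoc, hu, one_mul, _root_.mul_inv_rev, inv_eq_of_mul_eq_one_right hv], inv_zpow]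
  have h2 : v * w * v⁻¹ = w⁻¹ := by
    rw [← hn, ← conj_zpow, show v * (u * v) * v⁻¹ = (u * v)⁻¹ by
      rw [_root_.mul_inv_rev, inv_eq_of_mul_eq_one_right hu, inv_eq_of_mul_eq_one_right hv, mul_assoc,
        mul_assoc u, hv, mul_one], inv_zpow]
  rw [hi] at h1 h2
  exact ⟨mul_inv_eq_iff_eq_mul.1 h1, mul_inv_eq_iff_eq_mul.1 h2⟩


/-- The order of a simple group with the involution pattern of the Hall–Janko group. Let G be a non-abelian finite simple group with exactly two conjugacy classes of involutions, represented by z and t, such that: F*(C_G(z)) is an extraspecial 2-group; Q = O₂(C_G(z)) has order 32 and C_G(z) is the semidirect product of Q by a subgroup isomorphic to A₅; every involution of Q is conjugate to z and every other involution of C_G(z) is conjugate to t; C_G(t) is an internal direct product V × B with V a four-group containing t and B ≅ A₅; every involution of B is conjugate to z and every other involution of C_G(t) is conjugate to t. Then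 |G| = 604800. -/
theorem result {G : Type*} [Group G] [Finite G]
    [IsSimpleGroup G] (hna : ¬ IsMulCommutative G) (z t : G) (hz : orderOf z = 2) (ht : orderOf t = 2)
    (hzt : ¬ IsConj z t) (hcl : ∀ x : G, orderOf x = 2 → IsConj x z ∨ IsConj x t)
    (hex : Cfsg.IsExtraspecial 2 ↥(Cfsg.generalizedFittingSubgroup ↥(Subgroup.centralizer ({z} : Set G))))
    (hQ : Nat.card ↥(Cfsg.pCore 2 ↥(Subgroup.centralizer ({z} : Set G))) = 32)
    (K : Subgroup G) (hK : Nonempty (↥K ≃* alternatingGroup (Fin 5)))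
    (hKC : K ⊔ (Cfsg.pCore 2 ↥(Subgroup.centralizer ({z} : Set G))).map (Subgroup.centralizer ({z} : Set G)).subtype = Subgroup.centralizer ({z} : Set G))
    (hKQ : K ⊓ (Cfsg.pCore 2 ↥(Subgroup.centralizer ({z} : Set G))).map (Subgroup.centralizer ({z} : Set G)).subtype = ⊥)
    (hQz : ∀ x ∈ (Cfsg.pCore 2 ↥(Subgroup.centralizer ({z} : Set G))).map (Subgroup.centralizer ({z} : Set G)).subtype, orderOf x = 2 → IsConj x z)
    (hCz : ∀ x ∈ Subgroup.centralizer ({z} : Set G), orderOf x = 2 →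
      x ∉ (Cfsg.pCore 2 ↥(Subgroup.centralizer ({z} : Set G))).map (Subgroup.centralizer ({z} : Set G)).subtype → IsConj x t)
    (V B : Subgroup G) (hVB : Cfsg.IsInternalDirectProduct V B (Subgroup.centralizer ({t} : Set G)))
    (hV : Nat.card ↥V = 4) (hV2 : ∀ v ∈ V, v ^ 2 = 1) (htV : t ∈ V) (hB : Nonempty (↥B ≃* alternatingGroup (Fin 5)))
    (hBz : ∀ x ∈ B, orderOf x = 2 → IsConj x z)
    (hCt : ∀ x ∈ Subgroup.centralizer ({t} : Set G), orderOf x = 2 → x ∉ B → IsConj x t) :
    Nat.card G = 604800 := by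
  classical
  haveI := Fintype.ofFinite G
  haveI : Fact (Nat.Prime 2) := ⟨Nat.prime_two⟩
  set H := Subgroup.centralizer ({z} : Set G) with hH
  haveI hFn : (Cfsg.generalizedFittingSubgroup ↥H).Normal := CfsgLib.Cores.generalizedFittingSubgroup_normal
  have hFe : Cfsg.generalizedFittingSubgroup ↥H = Cfsg.pCore 2 ↥H :=
    le_antisymm (CfsgLib.Cores.le_pCore hex.1.1)
      ((CfsgLib.Cores.pCore_le_fittingSubgroup 2).trans CfsgLib.Cores.fittingSubgroup_le_generalizedFittingSubgroup)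
  rw [hFe] at hex
  haveI hQc := CfsgLib.Cores.pCore_characteristic (G := ↥H) 2
  haveI : (Cfsg.pCore 2 ↥H).Normal := inferInstance
  set Qi := Cfsg.pCore 2 ↥H with hQi
  -- basic elements
  obtain ⟨hzz, hz1⟩ := orderOf_eq_two_iff'.1 hz
  obtain ⟨htt, ht1⟩ := orderOf_eq_two_iff'.1 ht
  have hzH : z ∈ H := Subgroup.mem_centralizer_singleton_iff.2 rfl
  let zH : H := ⟨z, hzH⟩
  have hzcen : ∀ h : H, h * zH = zH * h := fun h => Subtype.ext (Subgroup.mem_centralizer_singleton_iff.1 h.2)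
  have hzQ : zH ∈ Qi := by
    haveI : (Subgroup.zpowers zH).Normal := ⟨fun a ha g => by
      have hc : g * a = a * g := by
        obtain ⟨k, rfl⟩ := Subgroup.mem_zpowers_iff.1 ha
        exact ((show Commute g zH from hzcen g).zpow_right k).eq
      rw [hc, mul_inv_cancel_right]; exact ha⟩
    refine CfsgLib.Cores.le_pCore (N := Subgroup.zpowers zH) ?_ (Subgroup.mem_zpowers zH)
    refine IsPGroup.of_card (n := 1) ?_
    rw [Nat.card_zpowers, pow_one]
    exact orderOf_eq_two_iff'.2 ⟨Subtype.ext hzz, fun e => hz1 (congrArg Subtype.val e)⟩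
  obtain ⟨zb, b⟩ := CfsgLib.InvolChar.MinusThirtyTwo.exists_base hex hQ
  have hzb : (⟨zH, hzQ⟩ : Qi) = zb := by
    refine (b.hcen _ (Subgroup.mem_center_iff.2 fun x => Subtype.ext (hzcen x))).resolve_left fun e => hz1 ?_
    exact congrArg (fun w : Qi => ((w : H) : G)) e
  subst hzb
  -- the complement
  set K' := K.subgroupOf H with hK'
  have hKH : K ≤ H := le_sup_left.trans hKC.le
  have hK'iso : Nonempty (↥K' ≃* alternatingGroup (Fin 5)) :=
    hK.map fun e => (Subgroup.subgroupOfEquivOfLe hKH).trans e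
  have hdis : ∀ a : H, a ∈ K' → a ∈ Qi → a = 1 := by
    intro a ha hb
    refine Subtype.ext ?_
    have : (a : G) ∈ K ⊓ Qi.map H.subtype := Subgroup.mem_inf.2 ⟨ha, ⟨a, hb, rfl⟩⟩
    rwa [hKQ, Subgroup.mem_bot] at this
  have htop : Qi ⊔ K' = ⊤ := by
    apply Subgroup.map_injective H.subtype_injective
    rw [Subgroup.map_sup, hK', Subgroup.map_subgroupOf_eq_of_le hKH, ← MonoidHom.range_eq_map,
      Subgroup.range_subtype, sup_comm]
    exact hKC
  have hdec : ∀ h : H, ∃ q ∈ Qi, ∃ k ∈ K', q * k = h := fun h => by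
    have : h ∈ Qi ⊔ K' := htop ▸ Subgroup.mem_top h
    exact Subgroup.mem_sup_of_normal_left.1 this
  have huniq : ∀ q ∈ Qi, ∀ k ∈ K', ∀ q' ∈ Qi, ∀ k' ∈ K', q * k = q' * k' → q = q' ∧ k = k' := by
    intro q hq k hk q' hq' k' hk' e
    have e1 : q'⁻¹ * q = k' * k⁻¹ := by
      rw [inv_mul_eq_iff_eq_mul, ← mul_assoc, ← e, mul_inv_cancel_right]
    have e2 := hdis _ (mul_mem hk' (inv_mem hk)) (e1 ▸ mul_mem (inv_mem hq') hq)
    rw [mul_inv_eq_one] at e2
    subst e2
    exact ⟨mul_right_cancel e, rfl⟩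
  have hA5 : Nat.card (alternatingGroup (Fin 5)) = 60 := by
    rw [nat_card_alternatingGroup]; norm_num [Nat.factorial]
  have hHc : Nat.card H = 1920 := by
    let F : Qi × K' → H := fun p => p.1 * p.2
    have hF : Function.Bijective F := ⟨fun p p' e => by
        obtain ⟨e1, e2⟩ := huniq _ p.1.2 _ p.2.2 _ p'.1.2 _ p'.2.2 e
        exact Prod.ext (Subtype.ext e1) (Subtype.ext e2),
      fun h => by
        obtain ⟨q, hq, k, hk, e⟩ := hdec h
        exact ⟨(⟨q, hq⟩, ⟨k, hk⟩), e⟩⟩
    rw [← Nat.card_eq_of_bijective F hF, Nat.card_prod, hQ, Nat.card_congr hK'iso.some.toEquiv, hA5]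
  -- the centralizer of `t`
  obtain ⟨eB⟩ := hB
  obtain ⟨hVBu, hVBd⟩ := prod_bij hVB
  have hVC : V ≤ Subgroup.centralizer ({t} : Set G) := hVB.1
  have hBC : B ≤ Subgroup.centralizer ({t} : Set G) := hVB.2.1
  have hcVB : ∀ a ∈ V, ∀ c ∈ B, a * c = c * a := hVB.2.2.1
  have hCtc : Nat.card (Subgroup.centralizer ({t} : Set G)) = 240 := by
    let F : V × B → Subgroup.centralizer ({t} : Set G) := fun p => ⟨p.1 * p.2, mul_mem (hVC p.1.2) (hBC p.2.2)⟩
    have hF : Function.Bijective F := ⟨fun p p' e => by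
        obtain ⟨e1, e2⟩ := hVBu _ p.1.2 _ p.2.2 _ p'.1.2 _ p'.2.2 (congrArg Subtype.val e)
        exact Prod.ext (Subtype.ext e1) (Subtype.ext e2),
      fun h => by
        obtain ⟨a, ha, c, hc, e⟩ := hVBd h h.2
        exact ⟨(⟨a, ha⟩, ⟨c, hc⟩), Subtype.ext e.symm⟩⟩
    rw [← Nat.card_eq_of_bijective F hF, Nat.card_prod, hV, Nat.card_congr eB.toEquiv, hA5]
  -- classes
  have hnot : ∀ x : G, IsConj z x → IsConj t x → False := fun x h1 h2 => hzt (h1.trans h2.symm)
  have hord : ∀ {a x : G}, orderOf a = 2 → IsConj a x → orderOf x = 2 := fun ha h =>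
    (CfsgLib.Invol.orderOf_eq_of_isConj h).symm.trans ha
  have hBz' : ∀ x : G, x ∈ Subgroup.centralizer ({t} : Set G) → IsConj z x → x ∈ B := fun x hx hc => by
    by_contra hxB
    exact hnot x hc (hCt x hx (hord hz hc) hxB).symm
  have hQmem : ∀ v : H, (v : G) ∈ Qi.map H.subtype ↔ v ∈ Qi := fun v => Subgroup.mem_map_iff_mem H.subtype_injective
  have hcz : ∀ v : G, v * z = z * v → IsConj t v → ∃ hv : v ∈ H, (⟨v, hv⟩ : H) ∉ Qi := fun v hv hc => by
    refine ⟨Subgroup.mem_centralizer_singleton_iff.2 hv, fun h => ?_⟩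
    exact hnot v (hQz v ((hQmem ⟨v, _⟩).2 h) (hord ht hc)).symm hc
  -- the number of involutions of `H` outside `Qi`
  let IH := {v : H // v * v = 1 ∧ v ∉ Qi}
  have hIH : Nat.card IH = 120 := by
    have e1 : Nat.card {p : G × G // IsConj z p.1 ∧ IsConj t p.2 ∧ p.1 * p.2 = p.2 * p.1} =
        Nat.card {y : G // IsConj z y} * Nat.card IH := by
      rw [card_rel z (fun a c => IsConj t c ∧ a * c = c * a) (fun g a c => by
        refine and_congr ⟨fun h => h.trans (isConj_iff.mpr ⟨g⁻¹, by group⟩),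
          fun h => h.trans (isConj_iff.mpr ⟨g, rfl⟩)⟩ ?_
        rw [show g * a * g⁻¹ * (g * c * g⁻¹) = g * (a * c) * g⁻¹ by group,
          show g * c * g⁻¹ * (g * a * g⁻¹) = g * (c * a) * g⁻¹ by group]
        exact ⟨fun h => mul_left_cancel (mul_right_cancel h), fun h => by rw [h]⟩)]
      congr 1
      refine (Nat.card_eq_of_bijective (fun v : IH => (⟨((v : H) : G), ?_, ?_⟩ : {c : G // IsConj t c ∧ z * c = c * z})) ⟨?_, ?_⟩).symm
      · exact (hCz _ v.1.2 (orderOf_eq_two_iff'.2 ⟨congrArg Subtype.val v.2.1,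
          fun e => v.2.2 (by rw [show (v : H) = 1 from Subtype.ext e]; exact one_mem _)⟩)
          (fun h => v.2.2 ((hQmem _).1 h))).symm
      · exact (Subgroup.mem_centralizer_singleton_iff.1 v.1.2).symm
      · intro v w e
        have := congrArg Subtype.val e
        exact Subtype.ext (Subtype.ext this)
      · rintro ⟨c, hc, hzc⟩
        obtain ⟨hv, hvQ⟩ := hcz c hzc.symm hc
        exact ⟨⟨⟨c, hv⟩, Subtype.ext (orderOf_eq_two_iff'.1 (hord ht hc)).1, hvQ⟩, rfl⟩
    have e2 : Nat.card {p : G × G // IsConj z p.1 ∧ IsConj t p.2 ∧ p.1 * p.2 = p.2 * p.1} =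
        Nat.card {y : G // IsConj t y} * 15 := by
      have es : {p : G × G // IsConj z p.1 ∧ IsConj t p.2 ∧ p.1 * p.2 = p.2 * p.1} ≃
          {p : G × G // IsConj t p.1 ∧ IsConj z p.2 ∧ p.2 * p.1 = p.1 * p.2} :=
        Equiv.subtypeEquiv (Equiv.prodComm G G) fun p => and_left_comm
      rw [Nat.card_congr es, card_rel t (fun a c => IsConj z c ∧ c * a = a * c) (fun g a c => by
        refine and_congr ⟨fun h => h.trans (isConj_iff.mpr ⟨g⁻¹, by group⟩),
          fun h => h.trans (isConj_iff.mpr ⟨g, rfl⟩)⟩ ?_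
        rw [show g * a * g⁻¹ * (g * c * g⁻¹) = g * (a * c) * g⁻¹ by group,
          show g * c * g⁻¹ * (g * a * g⁻¹) = g * (c * a) * g⁻¹ by group]
        exact ⟨fun h => mul_left_cancel (mul_right_cancel h), fun h => by rw [h]⟩)]
      congr 1
      rw [← a5_invol]
      refine (Nat.card_eq_of_bijective (fun a : {a : alternatingGroup (Fin 5) // a * a = 1 ∧ a ≠ 1} =>
        (⟨(eB.symm a : G), ?_, ?_⟩ : {c : G // IsConj z c ∧ c * t = t * c})) ⟨?_, ?_⟩).symm
      · refine (hBz _ (eB.symm a).2 ?_).symm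
        rw [Subgroup.orderOf_coe, MulEquiv.orderOf_eq]
        exact orderOf_eq_two_iff'.2 a.2
      · exact Subgroup.mem_centralizer_singleton_iff.1 (hBC (eB.symm a).2)
      · intro a c e
        exact Subtype.ext (eB.symm.injective (Subtype.ext (congrArg Subtype.val e :)))
      · rintro ⟨c, hc, htc⟩
        have hcB := hBz' c (Subgroup.mem_centralizer_singleton_iff.2 htc) hc
        have ho : orderOf (eB ⟨c, hcB⟩) = 2 := by
          rw [MulEquiv.orderOf_eq, ← Subgroup.orderOf_coe]; exact hord hz hc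
        refine ⟨⟨eB ⟨c, hcB⟩, orderOf_eq_two_iff'.1 ho⟩, Subtype.ext ?_⟩
        simp
    have k1 := CfsgLib.Invol.card_conjugates_mul z
    have k2 := CfsgLib.Invol.card_conjugates_mul t
    rw [← hH, hHc] at k1
    rw [hCtc] at k2
    rw [e2] at e1
    have hg : 0 < Nat.card G := Nat.card_pos
    have : Nat.card G * (Nat.card IH * 240) = Nat.card G * (15 * 1920) := by
      calc Nat.card G * (Nat.card IH * 240)
          = (Nat.card {y : G // IsConj z y} * 1920) * (Nat.card IH * 240) := by rw [k1]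
        _ = (Nat.card {y : G // IsConj z y} * Nat.card IH) * (1920 * 240) := by ring
        _ = (Nat.card {y : G // IsConj t y} * 15) * (1920 * 240) := by rw [e1]
        _ = (Nat.card {y : G // IsConj t y} * 240) * (15 * 1920) := by ring
        _ = Nat.card G * (15 * 1920) := by rw [k2]
    have := Nat.eq_of_mul_eq_mul_left hg this
    omega
  -- splitting by the complement
  let φ : K' →* MulAut Qi := MulAut.conjNormal.comp K'.subtype
  have hφv : ∀ (k : K') (q : Qi), ((φ k q : Qi) : H) = k * q * (k : H)⁻¹ := fun k q => rfl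
  let KI := {k : K' // orderOf k = 2}
  let F : (Σ k : KI, {q : Qi // φ k.1 q = q⁻¹}) → IH := fun s => ⟨(s.2.1 : H) * (s.1.1 : H), by
    have hkk : (s.1.1 : H) * (s.1.1 : H) = 1 := congrArg Subtype.val (orderOf_eq_two_iff'.1 s.1.2).1
    have h2 : (s.1.1 : H) * (s.2.1 : H) * (s.1.1 : H)⁻¹ = ((s.2.1 : H))⁻¹ := by
      rw [← hφv, s.2.2]; rfl
    refine ⟨?_, fun h => ?_⟩
    · calc (s.2.1 : H) * (s.1.1 : H) * ((s.2.1 : H) * (s.1.1 : H))
          = (s.2.1 : H) * ((s.1.1 : H) * (s.2.1 : H) * (s.1.1 : H)⁻¹) * ((s.1.1 : H) * (s.1.1 : H)) := by group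
        _ = 1 := by rw [h2, hkk, mul_inv_cancel, one_mul]
    · have hkQ : (s.1.1 : H) ∈ Qi := by
        have := mul_mem (inv_mem s.2.1.2) h
        rwa [inv_mul_cancel_left] at this
      exact (orderOf_eq_two_iff'.1 s.1.2).2 (Subtype.ext (hdis _ s.1.1.2 hkQ))⟩
  have hF : Function.Bijective F := by
    refine ⟨fun s s' e => ?_, fun v => ?_⟩
    · obtain ⟨e1, e2⟩ := huniq _ s.2.1.2 _ s.1.1.2 _ s'.2.1.2 _ s'.1.1.2 (congrArg Subtype.val e)
      obtain ⟨k, q⟩ := s
      obtain ⟨k', q'⟩ := s'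
      obtain rfl : k = k' := Subtype.ext (Subtype.ext e2)
      obtain rfl : q = q' := Subtype.ext (Subtype.ext e1)
      rfl
    · obtain ⟨q, hq, k, hk, e⟩ := hdec v.1
      have h0 := v.2.1
      rw [← e] at h0
      have hnm : q * (k * q * k⁻¹) ∈ Qi := mul_mem hq ((inferInstance : Qi.Normal).conj_mem q hq k)
      have h1 : q * (k * q * k⁻¹) * (k * k) = 1 := by rw [← h0]; group
      obtain ⟨e1, e2⟩ := huniq _ hnm _ (mul_mem hk hk) 1 (one_mem _) 1 (one_mem _) (by rw [h1, one_mul])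
      have hk1 : k ≠ 1 := fun h => v.2.2 (by rw [← e, h, mul_one]; exact hq)
      refine ⟨⟨⟨⟨k, hk⟩, orderOf_eq_two_iff'.2 ⟨Subtype.ext e2, fun h => hk1 (congrArg Subtype.val h)⟩⟩,
        ⟨⟨q, hq⟩, Subtype.ext ?_⟩⟩, Subtype.ext e⟩
      rw [hφv]
      exact (inv_eq_of_mul_eq_one_right e1).symm
  have hKI : Nat.card KI = 15 := by
    rw [← a5_invol]
    refine Nat.card_congr (Equiv.subtypeEquiv hK'iso.some.toEquiv fun k => ?_)
    rw [← orderOf_eq_two_iff', show hK'iso.some.toEquiv k = hK'iso.some k from rfl, MulEquiv.orderOf_eq]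
  have hsum : ∑ k : KI, Nat.card {q : Qi // φ k.1 q = q⁻¹} = 120 := by
    rw [← Nat.card_sigma, Nat.card_eq_of_bijective F hF, hIH]
  have hφ : φ ≠ 1 := by
    intro h
    have hc : ∀ k : KI, Nat.card {q : Qi // φ k.1 q = q⁻¹} = Nat.card {q : Qi // q * q = 1} := fun k => by
      refine Nat.card_congr (Equiv.subtypeEquivRight fun q => ?_)
      rw [h]
      exact mul_eq_one_iff_eq_inv.symm
    rw [Finset.sum_congr rfl (fun k _ => hc k), Finset.sum_const, Finset.card_univ,
      ← Nat.card_eq_fintype_card, hKI, smul_eq_mul] at hsum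
    have hg := CfsgLib.InvolChar.MinusThirtyTwo.gauss b
    have h1 : ∀ x : Qi, CfsgLib.InvolChar.MinusThirtyTwo.chi x = 2 * (if x * x = 1 then 1 else 0) - 1 :=
      fun x => by unfold CfsgLib.InvolChar.MinusThirtyTwo.chi; split_ifs <;> norm_num
    rw [Finset.sum_congr rfl (fun x _ => h1 x), Finset.sum_sub_distrib, ← Finset.mul_sum, Finset.sum_boole,
      ← Fintype.card_subtype, Finset.sum_const, Finset.card_univ, ← Nat.card_eq_fintype_card,
      ← Nat.card_eq_fintype_card, hQ, show Nat.card {q : Qi // q * q = 1} = 8 by omega] at hg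
    norm_num at hg
  obtain ⟨hS, hpair, hkey⟩ := CfsgLib.InvolChar.MinusThirtyTwo.key b hK'iso φ hφ
  have h8 : ∀ k : KI, Nat.card {q : Qi // φ k.1 q = q⁻¹} = 8 := by
    intro k
    refine le_antisymm (hkey k.1 k.2).1 ?_
    by_contra hlt
    have := Finset.sum_lt_sum (s := (Finset.univ : Finset KI)) (g := fun _ => 8)
      (fun j _ => (hkey j.1 j.2).1) ⟨k, Finset.mem_univ _, by omega⟩
    rw [hsum, Finset.sum_const, Finset.card_univ, ← Nat.card_eq_fintype_card, hKI] at this
    simp at this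
  -- the two counts
  set zQ : Qi := ⟨zH, hzQ⟩ with hzQdef
  let U : IH → Type _ := fun v =>
    {u : Qi // u * u = 1 ∧ u ≠ 1 ∧ u ≠ zQ ∧ MulAut.conjNormal (v : H) u ≠ u}
  have hU : ∀ v : IH, Nat.card (U v) = 8 := by
    intro v
    obtain ⟨⟨k, q, hq⟩, hs⟩ := hF.2 v
    rw [← (hkey k.1 k.2).2 (h8 k) q hq]
    refine Nat.card_congr (Equiv.subtypeEquivRight fun u => ?_)
    have e : MulAut.conjNormal (v : H) u = q * φ k.1 u * q⁻¹ := by
      rw [← hs]
      refine Subtype.ext ?_
      show (q : H) * (k.1 : H) * (u : H) * ((q : H) * (k.1 : H))⁻¹ =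
        (q : H) * ((k.1 : H) * (u : H) * (k.1 : H)⁻¹) * (q : H)⁻¹
      group
    rw [e]
  have hNz : Nat.card {p : G × G // IsConj z p.1 ∧ IsConj t p.2 ∧ z ∈ Subgroup.zpowers (p.1 * p.2)} = 960 := by
    let M : (Σ v : IH, U v) → G × G := fun s => (((s.2.1 : H) : G), ((s.1.1 : H) : G))
    have hMi : Function.Injective M := by
      rintro ⟨v, u⟩ ⟨v', u'⟩ e
      obtain rfl : v = v' := Subtype.ext (Subtype.ext (congrArg Prod.snd e :))
      obtain rfl : u = u' := Subtype.ext (Subtype.ext (Subtype.ext (congrArg Prod.fst e :)))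
      rfl
    have hMr : ∀ p : G × G, (IsConj z p.1 ∧ IsConj t p.2 ∧ z ∈ Subgroup.zpowers (p.1 * p.2)) ↔ p ∈ Set.range M := by
      intro p
      constructor
      · rintro ⟨h1, h2, h3⟩
        obtain ⟨hu2, hu1⟩ := orderOf_eq_two_iff'.1 (hord hz h1)
        obtain ⟨hv2, hv1⟩ := orderOf_eq_two_iff'.1 (hord ht h2)
        obtain ⟨cu, cv⟩ := comm_of_mem_zpowers hu2 hv2 hzz h3
        obtain ⟨hvH, hvQ⟩ := hcz p.2 cv h2
        have huH : p.1 ∈ H := Subgroup.mem_centralizer_singleton_iff.2 cu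
        have huQ : (⟨p.1, huH⟩ : H) ∈ Qi := by
          by_contra h
          exact hnot p.1 h1 (hCz p.1 huH (hord hz h1) fun hm => h ((hQmem ⟨p.1, huH⟩).1 hm)).symm
        let v : IH := ⟨⟨p.2, hvH⟩, Subtype.ext hv2, hvQ⟩
        refine ⟨⟨v, ⟨⟨⟨p.1, huH⟩, huQ⟩, Subtype.ext (Subtype.ext hu2), ?_, ?_, ?_⟩⟩, rfl⟩
        · exact fun e => hu1 (congrArg (fun w : Qi => ((w : H) : G)) e)
        · intro e
          have e' : p.1 = z := congrArg (fun w : Qi => ((w : H) : G)) e
          rw [e'] at h3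
          have hzv : z * p.2 * (z * p.2) = 1 := by
            rw [mul_assoc z, ← mul_assoc p.2, cv, mul_assoc z, hv2, mul_one, hzz]
          rcases eq_one_or_self hzv h3 with h | h
          · exact hz1 h
          · exact hv1 (left_eq_mul.1 h)
        · intro e
          have e' : p.2 * p.1 * p.2⁻¹ = p.1 := congrArg (fun w : Qi => ((w : H) : G)) e
          have huv : p.1 * p.2 * (p.1 * p.2) = 1 := by
            rw [mul_assoc p.1, ← mul_assoc p.2, mul_inv_eq_iff_eq_mul.1 e', mul_assoc p.1, hv2, mul_one, hu2]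
          rcases eq_one_or_self huv h3 with h | h
          · exact hz1 h
          · refine hvQ ?_
            have : (⟨p.2, hvH⟩ : H) = ⟨p.1, huH⟩ * zH := Subtype.ext (by
              show p.2 = p.1 * z
              rw [h, ← mul_assoc, hu2, one_mul])
            rw [this]
            exact mul_mem huQ hzQ
      · rintro ⟨⟨v, u, hu2, hu1, huz, hmove⟩, rfl⟩
        have huG : orderOf ((u : H) : G) = 2 := orderOf_eq_two_iff'.2
          ⟨congrArg (fun w : Qi => ((w : H) : G)) hu2, fun e => hu1 (Subtype.ext (Subtype.ext e))⟩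
        have hvv : ((v : H) : G) * ((v : H) : G) = 1 := congrArg Subtype.val v.2.1
        refine ⟨(hQz _ ((hQmem _).2 u.2) huG).symm, (hCz _ v.1.2 (orderOf_eq_two_iff'.2 ⟨hvv,
          fun e => v.2.2 (by rw [show (v : H) = 1 from Subtype.ext e]; exact one_mem _)⟩) (fun h => v.2.2 ((hQmem _).1 h))).symm, ?_⟩
        set u' : Qi := MulAut.conjNormal (v : H) u
        set w : Qi := u * u' with hw
        have hw' : ((u : H) : G) * ((v : H) : G) * (((u : H) : G) * ((v : H) : G)) = ((w : H) : G) := by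
          show _ = ((u : H) : G) * (((v : H) : G) * ((u : H) : G) * ((v : H) : G)⁻¹)
          rw [inv_eq_of_mul_eq_one_right hvv]; group
        have hwz : w = zQ ∨ w * w = zQ := by
          rcases CfsgLib.InvolChar.MinusThirtyTwo.sq_cases b w with h | h
          · refine Or.inl ?_
            have hu'2 : u' * u' = 1 := by rw [← map_mul, hu2, map_one]
            have hcom : u * u' = u' * u := by
              have h' := inv_eq_of_mul_eq_one_right h
              rw [hw, _root_.mul_inv_rev, inv_eq_of_mul_eq_one_right hu2, inv_eq_of_mul_eq_one_right hu'2] at h'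
              exact h'.symm
            have hzfix : MulAut.conjNormal (v : H) zQ = zQ := Subtype.ext (by
              show (v : H) * zH * (v : H)⁻¹ = zH
              rw [hzcen, mul_inv_cancel_right])
            rcases hpair u u' hu2 hu1 huz hu'2
              (fun e => hu1 ((MulAut.conjNormal (v : H)).injective (e.trans (map_one _).symm)))
              (fun e => huz ((MulAut.conjNormal (v : H)).injective (e.trans hzfix.symm))) hcom with e | e
            · exact absurd e hmove
            · rw [hw, e, ← mul_assoc, b.hzc, mul_assoc, hu2, mul_one]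
          · exact Or.inr h
        show z ∈ Subgroup.zpowers (((u : H) : G) * ((v : H) : G))
        have hm := Subgroup.mem_zpowers (((u : H) : G) * ((v : H) : G))
        have hm2 := hw' ▸ mul_mem hm hm
        rcases hwz with h | h
        · rw [h] at hm2; exact hm2
        · have hm4 := mul_mem hm2 hm2
          have : ((w : H) : G) * ((w : H) : G) = z := congrArg (fun x : Qi => ((x : H) : G)) h
          rwa [this] at hm4
    rw [Nat.card_congr (Equiv.subtypeEquivRight hMr)]
    show Nat.card (Set.range M) = 960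
    rw [Nat.card_range_of_injective hMi, Nat.card_sigma, Finset.sum_congr rfl (fun v _ => hU v),
      Finset.sum_const, Finset.card_univ, ← Nat.card_eq_fintype_card, hIH]
    norm_num
  have hNt : Nat.card {p : G × G // IsConj z p.1 ∧ IsConj t p.2 ∧ t ∈ Subgroup.zpowers (p.1 * p.2)} = 195 := by
    rw [← a5_pairs]
    let A := alternatingGroup (Fin 5)
    have htc : ∀ c ∈ B, c * t = t * c := fun c hc => Subgroup.mem_centralizer_singleton_iff.1 (hBC hc)
    have hP : ∀ x : {p : A × A // p.1 * p.1 = 1 ∧ p.1 ≠ 1 ∧ p.2 * p.2 = 1 ∧ (p.1 * p.2) ^ 15 = 1},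
        IsConj z ((eB.symm x.1.1 : B) : G) ∧ IsConj t (t * ((eB.symm x.1.2 : B) : G)) ∧
          t ∈ Subgroup.zpowers (((eB.symm x.1.1 : B) : G) * (t * ((eB.symm x.1.2 : B) : G))) := by
      rintro ⟨⟨a, c⟩, ha, ha1, hc, hac⟩
      set a' : G := ((eB.symm a : B) : G)
      set c' : G := ((eB.symm c : B) : G)
      have haB : a' ∈ B := (eB.symm a).2
      have hcB : c' ∈ B := (eB.symm c).2
      have ha2 : orderOf a' = 2 := by
        rw [Subgroup.orderOf_coe, MulEquiv.orderOf_eq]; exact orderOf_eq_two_iff'.2 ⟨ha, ha1⟩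
      have hc2 : c' * c' = 1 := by
        rw [← Subgroup.coe_mul, ← map_mul, hc, map_one, Subgroup.coe_one]
      have hac' : (a' * c') ^ 15 = 1 := by
        rw [← Subgroup.coe_mul, ← map_mul, ← Subgroup.coe_pow, ← map_pow, hac, map_one, Subgroup.coe_one]
      have htB : t ∉ B := fun h => ht1 (Subgroup.mem_bot.1 (hVB.2.2.2.1 ▸ Subgroup.mem_inf.2 ⟨htV, h⟩))
      have hv2 : t * c' * (t * c') = 1 := by
        rw [mul_assoc t, ← mul_assoc c', htc c' hcB, mul_assoc t, hc2, mul_one, htt]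
      refine ⟨(hBz a' haB ha2).symm, (hCt (t * c') (mul_mem (hVC htV) (hBC hcB)) ?_ ?_).symm, ?_⟩
      · refine orderOf_eq_two_iff'.2 ⟨hv2, fun e => htB ?_⟩
        rw [eq_inv_of_mul_eq_one_left e]; exact inv_mem hcB
      · intro h
        exact htB (by have := mul_mem h (inv_mem hcB); rwa [mul_inv_cancel_right] at this)
      · have e : a' * (t * c') = t * (a' * c') := by rw [← mul_assoc, htc a' haB, mul_assoc]
        rw [e]
        have ht15 : t ^ 15 = t := by rw [show 15 = 2 * 7 + 1 by norm_num, pow_succ, pow_mul, sq, htt, one_pow, one_mul]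
        have := Subgroup.npow_mem_zpowers (t * (a' * c')) 15
        rwa [(show Commute t (a' * c') from (htc _ (mul_mem haB hcB)).symm).mul_pow, hac', mul_one, ht15] at this
    refine (Nat.card_eq_of_bijective (fun x => (⟨(((eB.symm x.1.1 : B) : G), t * ((eB.symm x.1.2 : B) : G)), hP x⟩ :
      {p : G × G // IsConj z p.1 ∧ IsConj t p.2 ∧ t ∈ Subgroup.zpowers (p.1 * p.2)})) ⟨?_, ?_⟩).symm
    · intro x y e
      have e1 := congrArg (fun p => p.1.1) e
      have e2 := congrArg (fun p => p.1.2) e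
      exact Subtype.ext (Prod.ext (eB.symm.injective (Subtype.ext e1))
        (eB.symm.injective (Subtype.ext (mul_left_cancel e2))))
    · rintro ⟨⟨u, v⟩, h1, h2, h3⟩
      obtain ⟨hu2, hu1⟩ := orderOf_eq_two_iff'.1 (hord hz h1)
      obtain ⟨hv2, hv1⟩ := orderOf_eq_two_iff'.1 (hord ht h2)
      obtain ⟨cu, cv⟩ := comm_of_mem_zpowers hu2 hv2 htt h3
      have huB := hBz' u (Subgroup.mem_centralizer_singleton_iff.2 cu) h1
      obtain ⟨a, haV, c, hcB, rfl⟩ := hVBd v (Subgroup.mem_centralizer_singleton_iff.2 cv)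
      have haa : a * a = 1 := by rw [← sq]; exact hV2 a haV
      have hac := hcVB a haV c hcB
      have hcc : c * c = 1 := by
        rw [mul_assoc a, ← mul_assoc c, ← hac, mul_assoc a, ← mul_assoc, haa, one_mul] at hv2
        exact hv2
      obtain ⟨n, hn⟩ := (mem_powers_iff_mem_zpowers (x := u * (a * c))).2 h3
      change (u * (a * c)) ^ n = t at hn
      have e : u * (a * c) = a * (u * c) := by rw [← mul_assoc, ← hcVB a haV u huB, mul_assoc]
      rw [e, (show Commute a (u * c) from hcVB a haV _ (mul_mem huB hcB)).mul_pow] at hn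
      obtain ⟨h4, h5⟩ := hVBu _ (pow_mem haV n) _ (pow_mem (mul_mem huB hcB) n) t htV 1 (one_mem _)
        (by rw [hn, mul_one])
      rcases Nat.even_or_odd' n with ⟨m, rfl | rfl⟩
      · rw [pow_mul, sq, haa, one_pow] at h4
        exact absurd h4.symm ht1
      · rw [pow_succ, pow_mul, sq, haa, one_pow, one_mul] at h4
        subst h4
        have ho : orderOf (eB ⟨u * c, mul_mem huB hcB⟩) ∣ 15 := by
          have hd : orderOf (eB ⟨u * c, mul_mem huB hcB⟩) ∣ 2 * m + 1 := by
            refine orderOf_dvd_of_pow_eq_one ?_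
            rw [← map_pow, show (⟨u * c, mul_mem huB hcB⟩ : B) ^ (2 * m + 1) = 1 from Subtype.ext (by
              rw [Subgroup.coe_pow, Subgroup.coe_one]; exact h5), map_one]
          have h60 : orderOf (eB ⟨u * c, mul_mem huB hcB⟩) ∣ 4 * 15 := by
            rw [show 4 * 15 = Nat.card A from hA5.symm]; exact orderOf_dvd_natCard _
          refine Nat.Coprime.dvd_of_dvd_mul_left ?_ h60
          rw [show (4 : ℕ) = 2 ^ 2 by norm_num]
          refine Nat.Coprime.pow_right 2 (Nat.Coprime.coprime_dvd_left hd ?_)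
          simp
        refine ⟨⟨(eB ⟨u, huB⟩, eB ⟨c, hcB⟩), ?_, ?_, ?_, ?_⟩, ?_⟩
        · rw [← map_mul, show (⟨u, huB⟩ : B) * ⟨u, huB⟩ = 1 from Subtype.ext hu2, map_one]
        · intro e'
          exact hu1 (congrArg Subtype.val (eB.injective (e'.trans (map_one eB).symm)))
        · rw [← map_mul, show (⟨c, hcB⟩ : B) * ⟨c, hcB⟩ = 1 from Subtype.ext hcc, map_one]
        · rw [← map_mul]
          exact orderOf_dvd_iff_pow_eq_one.1 ho
        · simp
  have hall : ∀ x : G, orderOf x = 2 → IsConj z x ∨ IsConj t x := fun x hx =>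
    (hcl x hx).imp (·.symm) (·.symm)
  rw [Cfsg.Agent.S0213.result z t hz ht hzt hall, hNz, hNt, hCtc, ← hH, hHc]

end Cfsg.Agent.S3313
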