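import Cfsg.Statements.S3333
import Cfsg.Agent.Lib.SmallGroups.NineLocal.SymSix

set_option autoImplicit false
open Cfsg

namespace Cfsg.Agent.S3333

/-- Let G be a finite group with a Sylow 3-subgroup S of order 9 that is its own centralizer, with N_G(S)/S dihedral of order 8, and such that C_G(x) ≤ N_G(S) for every non-identity x in S. Then S is normal in G or G is isomorphic to the symmetric group of degree 6. -/
theorem result {G : Type*} [Group G] [Finite G]
    (P : Sylow 3 G) (S : Subgroup G) (hSP : S = P) (hcard : Nat.card S = 9)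
    (hC : Subgroup.centralizer (S : Set G) = S)
    (eN : Subgroup.normalizer (S : Set G) ⧸ S.subgroupOf (Subgroup.normalizer (S : Set G)) ≃* DihedralGroup 4)
    (hcent : ∀ x ∈ S, x ≠ 1 → Subgroup.centralizer ({x} : Set G) ≤ Subgroup.normalizer (S : Set G)) :
    S.Normal ∨ Nonempty (G ≃* Equiv.Perm (Fin 6)) := by
  classical
  subst hSP
  have hexp : ∀ m ∈ (P : Subgroup G), m ^ 3 = 1 := by
    intro g hg
    by_contra hg3
    haveI : Fact (Nat.Prime 3) := ⟨Nat.prime_three⟩
    have hord : orderOf (⟨g, hg⟩ : ↥(P : Subgroup G)) = 3 ^ (1 + 1) := by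
      refine orderOf_eq_prime_pow (fun e => hg3 ?_) ?_
      · simpa using congrArg Subtype.val e
      · rw [show 3 ^ (1 + 1) = Nat.card ↥(P : Subgroup G) by rw [hcard]; rfl]; exact pow_card_eq_one'
    haveI : IsCyclic ↥(P : Subgroup G) := isCyclic_of_orderOf_eq_card _ (by rw [hord, hcard]; rfl)
    let γ : ↥(P : Subgroup G) := ⟨g, hg⟩
    have hgen : ∀ x : ↥(P : Subgroup G), ∃ i : ℤ, γ ^ i = x := by
      intro x
      have hz : Subgroup.zpowers γ = ⊤ := Subgroup.eq_top_of_card_eq _ (by rw [Nat.card_zpowers, hord, hcard]; rfl)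
      exact Subgroup.mem_zpowers_iff.mp (hz ▸ Subgroup.mem_top x)
    have hA : ∀ a b : MulAut ↥(P : Subgroup G), a * b = b * a := by
      intro a b
      refine MulEquiv.ext fun x => ?_
      obtain ⟨i, rfl⟩ := hgen x
      obtain ⟨ja, hja⟩ := hgen (a γ)
      obtain ⟨jb, hjb⟩ := hgen (b γ)
      show a (b (γ ^ i)) = b (a (γ ^ i))
      rw [map_zpow, map_zpow, map_zpow, map_zpow, ← hja, ← hjb, map_zpow, map_zpow, ← hja, ← hjb]
      simp only [← zpow_mul]
      congr 1
      ring
    have hker : ((P : Subgroup G).normalizerMonoidHom).ker =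
        (P : Subgroup G).subgroupOf (Subgroup.normalizer ((P : Subgroup G) : Set G)) := by
      rw [Subgroup.normalizerMonoidHom_ker, hC]
    have hcomm : ∀ a b : ↥(Subgroup.normalizer ((P : Subgroup G) : Set G)) ⧸
        (P : Subgroup G).subgroupOf (Subgroup.normalizer ((P : Subgroup G) : Set G)), a * b = b * a := by
      intro a b
      obtain ⟨a, rfl⟩ := QuotientGroup.mk_surjective a
      obtain ⟨b, rfl⟩ := QuotientGroup.mk_surjective b
      rw [← QuotientGroup.mk_mul, ← QuotientGroup.mk_mul, QuotientGroup.eq, ← hker, MonoidHom.mem_ker, map_mul,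
        map_inv, map_mul, map_mul]
      exact inv_mul_eq_one.mpr (hA _ _)
    have h1 := hcomm (eN.symm (DihedralGroup.r 1)) (eN.symm (DihedralGroup.sr 0))
    rw [← map_mul, ← map_mul] at h1
    exact absurd (eN.symm.injective h1) (by decide)
  exact CfsgLib.SmallGroups.NineLocal.Hyp.sym_six_of_dihedral ⟨hcard, hexp, hC, hcent⟩ eN

end Cfsg.Agent.S3333
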