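import Cfsg.Statements.S3335

set_option autoImplicit false
open Cfsg

namespace Cfsg.Agent.S3335

open Equiv

/-- Carmichael's relations on `x 0, …, x (m - 1)`. -/
structure Rels {G : Type*} [Group G] (x : ℕ → G) (m : ℕ) : Prop where
  cube : 0 < m → x 0 ^ 3 = 1
  sq : ∀ i, 1 ≤ i → i < m → x i * x i = 1
  braid : ∀ i, i + 1 < m → (x i * x (i + 1)) ^ 3 = 1
  far : ∀ i j, i + 1 < j → j < m → (x i * x j) ^ 2 = 1

/-- The coset representative `x l * x (l-1) * ⋯` with `d` factors. -/
def crep {G : Type*} [Group G] (x : ℕ → G) (l : ℕ) : ℕ → G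
  | 0 => 1
  | d + 1 => crep x l d * x (l - d)

section
variable {G : Type*} [Group G] {x : ℕ → G} {l : ℕ}

theorem inv_zero (h : Rels x (l + 1)) : (x 0)⁻¹ = x 0 ^ 2 := by
  rw [inv_eq_iff_mul_eq_one, ← pow_succ']; exact h.cube (by omega)

theorem inv_pos (h : Rels x (l + 1)) {i : ℕ} (hi : 1 ≤ i) (hil : i ≤ l) : (x i)⁻¹ = x i :=
  inv_eq_of_mul_eq_one_left (h.sq i hi (by omega))

theorem comm_pos (h : Rels x (l + 1)) {i j : ℕ} (hi : 1 ≤ i) (hij : i + 1 < j) (hj : j ≤ l) :
    Commute (x i) (x j) := by
  have e := h.far i j hij (by omega)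
  rw [sq, mul_eq_one_iff_eq_inv, mul_inv_rev, inv_pos h hi (by omega), inv_pos h (by omega) hj] at e
  exact e

theorem braid_pos (h : Rels x (l + 1)) {i : ℕ} (hi : 1 ≤ i) (hil : i < l) :
    x (i + 1) * x i * x (i + 1) = x i * x (i + 1) * x i := by
  have e := h.braid i (by omega)
  simp only [pow_succ, pow_zero, one_mul] at e
  have e' : x (i + 1) * x i * x (i + 1) = (x i * x (i + 1) * x i)⁻¹ * 1 := by
    rw [← e]; group
  rw [e', mul_one, mul_inv_rev, mul_inv_rev, inv_pos h hi (by omega), inv_pos h (by omega) (by omega), mul_assoc]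

/-- Moving a small generator past the representative. -/
theorem crep_comm_small (h : Rels x (l + 1)) : ∀ d j, 1 ≤ j → j + d + 1 ≤ l → d ≤ l →
    crep x l d * x j = x j * crep x l d
  | 0, j, _, _, _ => by simp [crep]
  | d + 1, j, hj, hjd, hd => by
    rw [crep, mul_assoc, (comm_pos h hj (show j + 1 < l - d by omega) (by omega)).symm.eq, ← mul_assoc,
      crep_comm_small h d j hj (by omega) (by omega), mul_assoc]

/-- Moving a large generator past the representative lowers it. -/
theorem crep_large (h : Rels x (l + 1)) : ∀ d j, j ≤ l → l + 2 ≤ j + d → d ≤ l →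
    crep x l d * x j = x (j - 1) * crep x l d
  | 0, j, _, _, _ => by omega
  | d + 1, j, hj, hjd, hd => by
    by_cases e : j = l - d + 1
    · obtain ⟨d', rfl⟩ : ∃ d', d = d' + 1 := ⟨d - 1, by omega⟩
      have e1 : l - (d' + 1) + 1 = l - d' := by omega
      have e2 := braid_pos h (i := l - (d' + 1)) (by omega) (by omega)
      rw [e1] at e2
      rw [show j = l - d' by omega, show l - d' - 1 = l - (d' + 1) by omega, crep, crep]
      calc crep x l d' * x (l - d') * x (l - (d' + 1)) * x (l - d')
          = crep x l d' * (x (l - d') * x (l - (d' + 1)) * x (l - d')) := by group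
        _ = crep x l d' * (x (l - (d' + 1)) * x (l - d') * x (l - (d' + 1))) := by rw [e2]
        _ = crep x l d' * x (l - (d' + 1)) * x (l - d') * x (l - (d' + 1)) := by group
        _ = _ := by rw [crep_comm_small h d' _ (by omega) (by omega) (by omega)]; group
    · rw [crep, mul_assoc, (comm_pos h (i := l - d) (j := j) (by omega) (by omega) hj).eq, ← mul_assoc,
        crep_large h d j hj (by omega) (by omega), mul_assoc]

/-- The generator of order three twists past. -/
theorem crep_zero (h : Rels x (l + 1)) : ∀ d, d + 1 ≤ l →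
    ∀ e : G, (e = x 0 ∨ e = (x 0)⁻¹) → ∃ e', (e' = x 0 ∨ e' = (x 0)⁻¹) ∧ crep x l d * e = e' * crep x l d
  | 0, _, e, he => ⟨e, he, by simp [crep]⟩
  | d + 1, hd, e, he => by
    have hr := h.far 0 (l - d) (by omega) (by omega)
    rw [sq, mul_eq_one_iff_eq_inv, mul_inv_rev, inv_pos h (by omega) (by omega)] at hr
    have h1 : x (l - d) * x 0 = (x 0)⁻¹ * x (l - d) := by
      calc x (l - d) * x 0 = (x 0)⁻¹ * (x 0 * x (l - d)) * x 0 := by group
        _ = (x 0)⁻¹ * x (l - d) := by rw [hr]; group
    have hflip : x (l - d) * e = e⁻¹ * x (l - d) := by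
      rcases he with rfl | rfl
      · exact h1
      · rw [inv_inv, ← hr]
    obtain ⟨e', he', h2⟩ := crep_zero h d (by omega) e⁻¹ (by
      rcases he with rfl | rfl
      · exact Or.inr rfl
      · exact Or.inl (inv_inv _))
    exact ⟨e', he', by rw [crep, mul_assoc, hflip, ← mul_assoc, h2, mul_assoc]⟩

theorem zero_past (h : Rels x (l + 1)) {j : ℕ} (hj : 2 ≤ j) (hjl : j ≤ l) :
    x 0 * x j = x j * (x 0)⁻¹ := by
  have hr := h.far 0 j (by omega) (by omega)
  rwa [sq, mul_eq_one_iff_eq_inv, mul_inv_rev, inv_pos h (by omega) hjl] at hr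

/-- The set of representatives is invariant. -/
theorem reps_mul (h : Rels x (l + 1)) (P : G → Prop) (hP : ∀ i < l, ∀ e, (e = x i ∨ e = (x i)⁻¹) → P e)
    (h1 : P 1) (hmul : ∀ a b, P a → P b → P (a * b)) (i : ℕ) (hi : i ≤ l) (g : G)
    (hg : (∃ d ≤ l, g = crep x l d) ∨ g = crep x l l * x 0 ∨ g = crep x l l * (x 0)⁻¹) :
    ∃ a g', P a ∧ ((∃ d ≤ l, g' = crep x l d) ∨ g' = crep x l l * x 0 ∨ g' = crep x l l * (x 0)⁻¹) ∧
      g * x i = a * g' := by
  have x02 : x 0 * x 0 = (x 0)⁻¹ := by rw [inv_zero h, sq]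
  rcases Nat.eq_zero_or_pos i with rfl | hi1
  · rcases hg with ⟨d, hd, rfl⟩ | rfl | rfl
    · rcases eq_or_lt_of_le hd with rfl | hd'
      · exact ⟨1, crep x d d * x 0, h1, Or.inr (Or.inl rfl), by simp⟩
      · obtain ⟨e', he', h2⟩ := crep_zero h d hd' (x 0) (Or.inl rfl)
        exact ⟨e', _, hP 0 (by omega) e' he', Or.inl ⟨d, hd, rfl⟩, h2⟩
    · exact ⟨1, _, h1, Or.inr (Or.inr rfl), by rw [mul_assoc, x02, one_mul]⟩
    · exact ⟨1, _, h1, Or.inl ⟨l, le_rfl, rfl⟩, by simp⟩
  have hsmall : ∀ d j, 1 ≤ j → j ≤ l → d ≤ l → ∃ a g', P a ∧ (∃ d' ≤ l, g' = crep x l d') ∧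
      crep x l d * x j = a * g' := by
    intro d j hj hjl hd
    by_cases h1' : j + d = l
    · exact ⟨1, _, h1, ⟨d + 1, by omega, rfl⟩, by rw [one_mul, crep, show l - d = j by omega]⟩
    by_cases h2' : j + d = l + 1
    · obtain ⟨d', rfl⟩ : ∃ d', d = d' + 1 := ⟨d - 1, by omega⟩
      refine ⟨1, _, h1, ⟨d', by omega, rfl⟩, ?_⟩
      rw [one_mul, crep, show l - d' = j by omega, mul_assoc, h.sq j hj (by omega), mul_one]
    by_cases h3' : j + d < l
    · exact ⟨x j, _, hP j (by omega) _ (Or.inl rfl), ⟨d, hd, rfl⟩, crep_comm_small h d j hj (by omega) hd⟩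
    · exact ⟨x (j - 1), _, hP _ (by omega) _ (Or.inl rfl), ⟨d, hd, rfl⟩, crep_large h d j hjl (by omega) hd⟩
  rcases hg with ⟨d, hd, rfl⟩ | hg
  · obtain ⟨a, g', ha, hg', e⟩ := hsmall d i hi1 hi hd
    exact ⟨a, g', ha, Or.inl hg', e⟩
  rcases eq_or_lt_of_le (show 1 ≤ i from hi1) with hi' | hi'
  · -- i = 1
    subst hi'
    obtain ⟨l', rfl⟩ : ∃ l', l = l' + 1 := ⟨l - 1, by omega⟩
    have hb := h.braid 0 (by omega)
    simp only [pow_succ, pow_zero, one_mul, zero_add] at hb
    have hx1 : (x 1)⁻¹ = x 1 := inv_pos h le_rfl (by omega)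
    have k1 : x 1 * x 0 * x 1 = (x 0)⁻¹ * x 1 * (x 0)⁻¹ := by
      have : x 1 * x 0 * x 1 = (x 0)⁻¹ * (x 1)⁻¹ * (x 0)⁻¹ * 1 := by rw [← hb]; group
      rw [this, hx1, mul_one]
    have k2 : x 1 * (x 0)⁻¹ * x 1 = x 0 * x 1 * x 0 := by
      have := congrArg (·⁻¹) k1
      simpa [mul_inv_rev, hx1, mul_assoc] using this
    have hc : crep x (l' + 1) (l' + 1) = crep x (l' + 1) l' * x 1 := by
      rw [crep, show l' + 1 - l' = 1 by omega]
    rcases hg with rfl | rfl
    · obtain ⟨e', he', h2⟩ := crep_zero h l' le_rfl (x 0)⁻¹ (Or.inr rfl)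
      refine ⟨e', _, hP 0 (by omega) e' he', Or.inr (Or.inr rfl), ?_⟩
      rw [hc]
      calc crep x (l' + 1) l' * x 1 * x 0 * x 1 = crep x (l' + 1) l' * (x 1 * x 0 * x 1) := by group
        _ = crep x (l' + 1) l' * (x 0)⁻¹ * (x 1 * (x 0)⁻¹) := by rw [k1]; group
        _ = _ := by rw [h2]; group
    · obtain ⟨e', he', h2⟩ := crep_zero h l' le_rfl (x 0) (Or.inl rfl)
      refine ⟨e', _, hP 0 (by omega) e' he', Or.inr (Or.inl rfl), ?_⟩
      rw [hc]
      calc crep x (l' + 1) l' * x 1 * (x 0)⁻¹ * x 1 = crep x (l' + 1) l' * (x 1 * (x 0)⁻¹ * x 1) := by group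
        _ = crep x (l' + 1) l' * x 0 * (x 1 * x 0) := by rw [k2]; group
        _ = _ := by rw [h2]; group
  · obtain ⟨a, g', ha, ⟨d', hd', rfl⟩, e⟩ := hsmall l i hi1 hi le_rfl
    have hz := zero_past h hi' hi
    have hlarge : crep x l l * x i = x (i - 1) * crep x l l := crep_large h l i hi (by omega) le_rfl
    have hP' : P (x (i - 1)) := hP _ (by omega) _ (Or.inl rfl)
    rcases hg with rfl | rfl
    · refine ⟨x (i - 1), _, hP', Or.inr (Or.inr rfl), ?_⟩
      rw [mul_assoc, hz, ← mul_assoc, hlarge, mul_assoc]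
    · refine ⟨x (i - 1), _, hP', Or.inr (Or.inl rfl), ?_⟩
      have hz' : (x 0)⁻¹ * x i = x i * x 0 := by
        calc (x 0)⁻¹ * x i = (x 0)⁻¹ * (x i * (x 0)⁻¹) * x 0 := by group
          _ = x i * x 0 := by rw [← hz]; group
      rw [mul_assoc, hz', ← mul_assoc, hlarge, mul_assoc]

end

/-- The relations bound the group. -/
theorem rels_bound {G : Type*} [Group G] (x : ℕ → G) : ∀ m, Rels x m →
    ∃ S : Finset G, (∀ g ∈ Subgroup.closure (x '' {i | i < m}), g ∈ S) ∧ 2 * S.card ≤ (m + 2).factorial := by
  classical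
  intro m
  induction m with
  | zero =>
    intro _
    refine ⟨{1}, fun g hg => ?_, le_rfl⟩
    simp at hg
    simp [hg]
  | succ l ih =>
    intro h
    obtain ⟨S, hS, hSc⟩ := ih ⟨fun hl => h.cube (by omega), fun i h1 h2 => h.sq i h1 (by omega),
      fun i hi => h.braid i (by omega), fun i j h1 h2 => h.far i j h1 (by omega)⟩
    let R : Finset G := (Finset.range (l + 1)).image (crep x l) ∪ {crep x l l * x 0, crep x l l * (x 0)⁻¹}
    refine ⟨Finset.image₂ (· * ·) S R, fun g hg => ?_, ?_⟩
    · have hR : ∀ g, g ∈ R ↔ ((∃ d ≤ l, g = crep x l d) ∨ g = crep x l l * x 0 ∨ g = crep x l l * (x 0)⁻¹) := by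
        intro g
        simp only [R, Finset.mem_union, Finset.mem_image, Finset.mem_range, Finset.mem_insert, Finset.mem_singleton,
          Nat.lt_succ_iff]
        exact or_congr ⟨fun ⟨d, hd, e⟩ => ⟨d, hd, e.symm⟩, fun ⟨d, hd, e⟩ => ⟨d, hd, e.symm⟩⟩ Iff.rfl
      suffices ∃ a, a ∈ Subgroup.closure (x '' {i | i < l}) ∧ ∃ g' ∈ R, g = a * g' by
        obtain ⟨a, ha, g', hg', rfl⟩ := this
        exact Finset.mem_image₂_of_mem (hS a ha) hg'
      have step : ∀ (g : G), (∃ a, a ∈ Subgroup.closure (x '' {i | i < l}) ∧ ∃ g' ∈ R, g = a * g') →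
          ∀ i ≤ l, ∃ a, a ∈ Subgroup.closure (x '' {i | i < l}) ∧ ∃ g' ∈ R, g * x i = a * g' := by
        rintro _ ⟨a, ha, g', hg', rfl⟩ i hi
        obtain ⟨b, g'', hb, hg'', e⟩ := reps_mul h (· ∈ Subgroup.closure (x '' {i | i < l}))
          (fun j hj e he => by
            rcases he with rfl | rfl
            · exact Subgroup.subset_closure ⟨j, hj, rfl⟩
            · exact inv_mem (Subgroup.subset_closure ⟨j, hj, rfl⟩))
          (one_mem _) (fun _ _ => mul_mem) i hi g' ((hR g').1 hg')
        exact ⟨a * b, mul_mem ha hb, g'', (hR g'').2 hg'', by rw [mul_assoc, e, ← mul_assoc]⟩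
      induction hg using Subgroup.closure_induction_right with
      | one => exact ⟨1, one_mem _, crep x l 0, (hR _).2 (Or.inl ⟨0, by omega, rfl⟩), by simp [crep]⟩
      | mul_right u _ v hv ihu =>
        obtain ⟨i, hi, rfl⟩ := hv
        exact step u ihu i (Nat.lt_succ_iff.1 hi)
      | mul_inv_cancel u _ v hv ihu =>
        obtain ⟨i, hi, rfl⟩ := hv
        rcases Nat.eq_zero_or_pos i with rfl | hi1
        · rw [inv_zero h, sq, ← mul_assoc]
          exact step _ (step u ihu 0 (Nat.zero_le _)) 0 (Nat.zero_le _)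
        · rw [inv_pos h hi1 (Nat.lt_succ_iff.1 hi)]
          exact step u ihu i (Nat.lt_succ_iff.1 hi)
    · have hRc : R.card ≤ l + 3 :=
        ((Finset.card_union_le _ _).trans (Nat.add_le_add (Finset.card_image_le.trans (Finset.card_range _).le) Finset.card_le_two)).trans (by omega)
      calc 2 * (Finset.image₂ (· * ·) S R).card ≤ 2 * (S.card * R.card) :=
            Nat.mul_le_mul_left _ (Finset.card_image₂_le _ _ _)
        _ ≤ (l + 2).factorial * (l + 3) := by rw [← mul_assoc]; exact Nat.mul_le_mul hSc hRc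
        _ = (l + 1 + 2).factorial := by rw [show l + 1 + 2 = (l + 2) + 1 by omega, Nat.factorial_succ (l + 2), mul_comm]

/-- The image of a generator. -/
def gen (m i : ℕ) : Perm (Fin (m + 2)) :=
  if i = 0 then swap (Fin.ofNat (m + 2) 0) (Fin.ofNat (m + 2) 1) * swap (Fin.ofNat (m + 2) 1) (Fin.ofNat (m + 2) 2)
  else swap (Fin.ofNat (m + 2) 0) (Fin.ofNat (m + 2) 1) * swap (Fin.ofNat (m + 2) (i + 1)) (Fin.ofNat (m + 2) (i + 2))

theorem pt_ne {m a b : ℕ} (ha : a < m + 2) (hb : b < m + 2) (hab : a ≠ b) :
    Fin.ofNat (m + 2) a ≠ Fin.ofNat (m + 2) b := by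
  intro h
  have := congrArg Fin.val h
  simp [Fin.ofNat, Nat.mod_eq_of_lt ha, Nat.mod_eq_of_lt hb] at this
  exact hab this

theorem swap_conj {α : Type*} [DecidableEq α] (s : Perm α) (a b : α) :
    s * swap a b * s⁻¹ = swap (s a) (s b) := by
  rw [Equiv.swap_apply_apply]

theorem swap_commute {α : Type*} [DecidableEq α] {a b c d : α} (h1 : a ≠ c) (h2 : a ≠ d) (h3 : b ≠ c) (h4 : b ≠ d) :
    Commute (swap a b) (swap c d) := by
  refine Equiv.Perm.Disjoint.commute fun z => ?_
  by_cases hz : z = a ∨ z = b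
  · right
    rcases hz with rfl | rfl
    · exact swap_apply_of_ne_of_ne h1 h2
    · exact swap_apply_of_ne_of_ne h3 h4
  · left
    push Not at hz
    exact swap_apply_of_ne_of_ne hz.1 hz.2

theorem swap_pow_three {α : Type*} [DecidableEq α] [Fintype α] {a b c : α} (hab : a ≠ b) (hac : a ≠ c) (hbc : b ≠ c) :
    (swap a b * swap a c) ^ 3 = 1 := by
  have h := (Equiv.Perm.isThreeCycle_swap_mul_swap_same hab hac hbc).orderOf
  rw [← h]
  exact pow_orderOf_eq_one _

theorem gen_rels (m : ℕ) : Rels (gen m) m := by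
  have ne := @pt_ne m
  refine ⟨fun hm => ?_, fun i h1 h2 => ?_, fun i hi => ?_, fun i j hij hj => ?_⟩
  · rw [gen, if_pos rfl, swap_comm (Fin.ofNat (m + 2) 0) (Fin.ofNat (m + 2) 1)]
    exact swap_pow_three (ne (by omega) (by omega) (by omega)) (ne (by omega) (by omega) (by omega))
      (ne (by omega) (by omega) (by omega))
  · rw [gen, if_neg (by omega)]
    have hc : Commute (swap (Fin.ofNat (m + 2) 0) (Fin.ofNat (m + 2) 1))
        (swap (Fin.ofNat (m + 2) (i + 1)) (Fin.ofNat (m + 2) (i + 2))) :=
      swap_commute (ne (by omega) (by omega) (by omega)) (ne (by omega) (by omega) (by omega))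
        (ne (by omega) (by omega) (by omega)) (ne (by omega) (by omega) (by omega))
    rw [← mul_assoc, mul_assoc _ (swap _ _) (swap (Fin.ofNat (m + 2) 0) _), ← hc.eq, ← mul_assoc, swap_mul_self,
      one_mul, swap_mul_self]
  · set a := Fin.ofNat (m + 2) 0
    set b := Fin.ofNat (m + 2) 1
    rcases Nat.eq_zero_or_pos i with rfl | hi0
    · set c := Fin.ofNat (m + 2) 2
      set d := Fin.ofNat (m + 2) 3
      rw [gen, if_pos rfl, gen, if_neg (by omega)]
      have hab : a ≠ b := ne (by omega) (by omega) (by omega)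
      have hac : a ≠ c := ne (by omega) (by omega) (by omega)
      have had : a ≠ d := ne (by omega) (by omega) (by omega)
      have hbc : b ≠ c := ne (by omega) (by omega) (by omega)
      have hbd : b ≠ d := ne (by omega) (by omega) (by omega)
      have hcd : c ≠ d := ne (by omega) (by omega) (by omega)
      show (swap a b * swap b c * (swap a b * swap c d)) ^ 3 = 1
      have e : swap a b * swap b c * (swap a b * swap c d) = swap a c * swap c d := by
        rw [← mul_assoc]
        congr 1
        have := swap_conj (swap a b) b c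
        rw [Equiv.swap_inv, swap_apply_right, swap_apply_of_ne_of_ne hac.symm hbc.symm] at this
        exact this
      rw [e, swap_comm a c]
      exact swap_pow_three hac.symm hcd had
    · rw [gen, if_neg (by omega), gen, if_neg (by omega)]
      set c := Fin.ofNat (m + 2) (i + 1)
      set d := Fin.ofNat (m + 2) (i + 2)
      set e := Fin.ofNat (m + 2) (i + 1 + 2)
      have hac : a ≠ c := ne (by omega) (by omega) (by omega)
      have had : a ≠ d := ne (by omega) (by omega) (by omega)
      have hbc : b ≠ c := ne (by omega) (by omega) (by omega)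
      have hbd : b ≠ d := ne (by omega) (by omega) (by omega)
      show (swap a b * swap c d * (swap a b * swap d e)) ^ 3 = 1
      rw [← mul_assoc, mul_assoc (swap a b) (swap c d), ← (swap_commute hac had hbc hbd).eq, ← mul_assoc,
        swap_mul_self, one_mul, swap_comm c d]
      exact swap_pow_three (ne (by omega) (by omega) (by omega)) (ne (by omega) (by omega) (by omega))
        (ne (by omega) (by omega) (by omega))
  · set a := Fin.ofNat (m + 2) 0
    set b := Fin.ofNat (m + 2) 1
    rw [gen, gen, if_neg (show ¬ j = 0 by omega)]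
    set e := Fin.ofNat (m + 2) (j + 1)
    set f := Fin.ofNat (m + 2) (j + 2)
    have hae : a ≠ e := ne (by omega) (by omega) (by omega)
    have haf : a ≠ f := ne (by omega) (by omega) (by omega)
    have hbe : b ≠ e := ne (by omega) (by omega) (by omega)
    have hbf : b ≠ f := ne (by omega) (by omega) (by omega)
    rcases Nat.eq_zero_or_pos i with rfl | hi0
    · set c := Fin.ofNat (m + 2) 2
      rw [if_pos rfl]
      have hab : a ≠ b := ne (by omega) (by omega) (by omega)
      have hac : a ≠ c := ne (by omega) (by omega) (by omega)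
      have hbc : b ≠ c := ne (by omega) (by omega) (by omega)
      have hce : c ≠ e := ne (by omega) (by omega) (by omega)
      have hcf : c ≠ f := ne (by omega) (by omega) (by omega)
      show (swap a b * swap b c * (swap a b * swap e f)) ^ 2 = 1
      have e1 : swap a b * swap b c * swap a b = swap a c := by
        have := swap_conj (swap a b) b c
        rwa [Equiv.swap_inv, swap_apply_right, swap_apply_of_ne_of_ne hac.symm hbc.symm] at this
      rw [← mul_assoc, e1, sq, ← mul_assoc, mul_assoc _ (swap e f) (swap a c),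
        ← (swap_commute hae haf hce hcf).eq, ← mul_assoc, swap_mul_self, one_mul, swap_mul_self]
    · rw [if_neg (by omega)]
      set c := Fin.ofNat (m + 2) (i + 1)
      set d := Fin.ofNat (m + 2) (i + 2)
      have hac : a ≠ c := ne (by omega) (by omega) (by omega)
      have had : a ≠ d := ne (by omega) (by omega) (by omega)
      have hbc : b ≠ c := ne (by omega) (by omega) (by omega)
      have hbd : b ≠ d := ne (by omega) (by omega) (by omega)
      rw [← mul_assoc, mul_assoc (swap a b) (swap c d), ← (swap_commute hac had hbc hbd).eq, ← mul_assoc,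
        swap_mul_self, one_mul, sq, ← mul_assoc, mul_assoc _ (swap e f) (swap c d),
        ← (swap_commute (ne (by omega) (by omega) (by omega) : c ≠ e) (ne (by omega) (by omega) (by omega) : c ≠ f)
          (ne (by omega) (by omega) (by omega) : d ≠ e) (ne (by omega) (by omega) (by omega) : d ≠ f)).eq,
        ← mul_assoc, swap_mul_self, one_mul, swap_mul_self]

theorem gen_even (m i : ℕ) (hi : i < m) : gen m i ∈ alternatingGroup (Fin (m + 2)) := by
  have ne := @pt_ne m
  rw [Equiv.Perm.mem_alternatingGroup, gen]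
  split_ifs <;> rw [Equiv.Perm.sign_mul, Equiv.Perm.sign_swap (ne (by omega) (by omega) (by omega)),
    Equiv.Perm.sign_swap (ne (by omega) (by omega) (by omega))] <;> rfl

theorem gen_generate (m : ℕ) (hm : 1 ≤ m) :
    alternatingGroup (Fin (m + 2)) ≤ Subgroup.closure (gen m '' {i | i < m}) := by
  set R := Subgroup.closure (gen m '' {i | i < m})
  have ne := @pt_ne m
  set a := Fin.ofNat (m + 2) 0 with ha
  set b := Fin.ofNat (m + 2) 1 with hb
  have hab : a ≠ b := ne (by omega) (by omega) (by omega)
  have hmem : ∀ i, i < m → gen m i ∈ R := fun i hi => Subgroup.subset_closure ⟨i, hi, rfl⟩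
  have hcyc : ∀ k, 2 ≤ k → k < m + 2 → swap a b * swap b (Fin.ofNat (m + 2) k) ∈ R := by
    intro k hk
    induction k, hk using Nat.le_induction with
    | base => intro _; have := hmem 0 (by omega); rwa [gen, if_pos rfl] at this
    | succ k hk ih =>
      intro hk'
      set c := Fin.ofNat (m + 2) k
      set d := Fin.ofNat (m + 2) (k + 1)
      have hx : swap a b * swap c d ∈ R := by
        have h := hmem (k - 1) (by omega)
        rw [gen, if_neg (by omega), show k - 1 + 1 = k by omega, show k - 1 + 2 = k + 1 by omega] at h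
        exact h
      have hac : a ≠ c := ne (by omega) (by omega) (by omega)
      have had : a ≠ d := ne (by omega) (by omega) (by omega)
      have hbc : b ≠ c := ne (by omega) (by omega) (by omega)
      have hbd : b ≠ d := ne (by omega) (by omega) (by omega)
      have h1 : (swap a b * swap c d) * (swap a b * swap b c) * (swap a b * swap c d)⁻¹ ∈ R :=
        mul_mem (mul_mem hx (ih (by omega))) (inv_mem hx)
      have e : (swap a b * swap c d) * (swap a b * swap b c) * (swap a b * swap c d)⁻¹ = swap a b * swap a d := by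
        have h2 : ∀ u v, (swap a b * swap c d) * swap u v * (swap a b * swap c d)⁻¹ =
            swap ((swap a b * swap c d) u) ((swap a b * swap c d) v) := fun u v => swap_conj _ u v
        have : (swap a b * swap c d) * (swap a b * swap b c) * (swap a b * swap c d)⁻¹ =
            ((swap a b * swap c d) * swap a b * (swap a b * swap c d)⁻¹) *
              ((swap a b * swap c d) * swap b c * (swap a b * swap c d)⁻¹) := by group
        rw [this, h2, h2]
        simp only [Equiv.Perm.mul_apply]
        rw [swap_apply_of_ne_of_ne hac had, swap_apply_of_ne_of_ne hbc hbd, swap_apply_left c d,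
          swap_apply_left, swap_apply_right, swap_apply_of_ne_of_ne had.symm hbd.symm, swap_comm b a]
      rw [e] at h1
      have e2 : swap a b * swap b d = (swap a b * swap a d)⁻¹ := by
        have h3 := swap_conj (swap a b) b d
        rw [Equiv.swap_inv, swap_apply_right, swap_apply_of_ne_of_ne had.symm hbd.symm] at h3
        rw [mul_inv_rev, Equiv.swap_inv, Equiv.swap_inv, ← h3, mul_assoc _ (swap a b) (swap a b), swap_mul_self, mul_one]
      exact e2 ▸ inv_mem h1
  set s := swap a b with hs
  have hnorm : ∀ r ∈ R, s * r * s ∈ R := by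
    intro r hr
    induction hr using Subgroup.closure_induction with
    | mem g hg =>
      obtain ⟨i, hi, rfl⟩ := hg
      rw [gen]
      split_ifs with h0
      · have e : s * (swap a b * swap b (Fin.ofNat (m + 2) 2)) * s = (swap a b * swap b (Fin.ofNat (m + 2) 2))⁻¹ := by
          rw [mul_inv_rev, Equiv.swap_inv, Equiv.swap_inv, hs, ← mul_assoc, swap_mul_self, one_mul]
        rw [← ha, ← hb, e]
        exact inv_mem (hcyc 2 le_rfl (by omega))
      · have hc : Commute s (swap (Fin.ofNat (m + 2) (i + 1)) (Fin.ofNat (m + 2) (i + 2))) := by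
          have : i < m := hi
          exact swap_commute (ne (by omega) (by omega) (by omega)) (ne (by omega) (by omega) (by omega))
            (ne (by omega) (by omega) (by omega)) (ne (by omega) (by omega) (by omega))
        have : s * (s * swap (Fin.ofNat (m + 2) (i + 1)) (Fin.ofNat (m + 2) (i + 2))) * s =
            s * swap (Fin.ofNat (m + 2) (i + 1)) (Fin.ofNat (m + 2) (i + 2)) := by
          rw [mul_assoc, mul_assoc, ← hc.eq, ← mul_assoc s s, hs, swap_mul_self, one_mul]
        rw [← ha, ← hb, ← hs, this]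
        have h := hmem i hi
        rwa [gen, if_neg h0] at h
    | one => rw [mul_one, hs, swap_mul_self]; exact one_mem _
    | mul u v _ _ hu hv =>
      have : s * (u * v) * s = (s * u * s) * (s * v * s) := by
        simp only [mul_assoc, hs, Equiv.swap_mul_self_mul]
      rw [this]; exact mul_mem hu hv
    | inv u _ hu =>
      have : s * u⁻¹ * s = (s * u * s)⁻¹ := by
        simp only [mul_inv_rev, hs, Equiv.swap_inv, mul_assoc]
      rw [this]; exact inv_mem hu
  let E : Subgroup (Perm (Fin (m + 2))) :=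
    { carrier := {g | g ∈ R ∨ g * s ∈ R}
      one_mem' := Or.inl (one_mem _)
      mul_mem' := by
        rintro g h (hg | hg) (hh | hh)
        · exact Or.inl (mul_mem hg hh)
        · exact Or.inr (by rw [mul_assoc]; exact mul_mem hg hh)
        · refine Or.inr ?_
          have : g * h * s = g * s * (s * h * s) := by simp only [mul_assoc, hs, Equiv.swap_mul_self_mul]
          rw [this]; exact mul_mem hg (hnorm h hh)
        · refine Or.inl ?_
          have : g * h = g * s * (s * (h * s) * s) := by
            simp only [mul_assoc, hs, Equiv.swap_mul_self_mul, swap_mul_self, mul_one]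
          rw [this]; exact mul_mem hg (hnorm _ hh)
      inv_mem' := by
        rintro g (hg | hg)
        · exact Or.inl (inv_mem hg)
        · refine Or.inr ?_
          have : g⁻¹ * s = s * (g * s)⁻¹ * s := by
            simp only [mul_inv_rev, hs, Equiv.swap_inv, mul_assoc, Equiv.swap_mul_self_mul]
          rw [this]; exact hnorm _ (inv_mem hg) }
  have hsE : s ∈ E := Or.inr (by rw [hs, swap_mul_self]; exact one_mem _)
  have hstar : ∀ z, z ≠ a → swap a z ∈ E := by
    intro z hz
    by_cases hzb : z = b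
    · exact hzb ▸ hsE
    obtain ⟨k, hk⟩ : ∃ k : ℕ, k < m + 2 ∧ Fin.ofNat (m + 2) k = z :=
      ⟨z.val, z.isLt, Fin.ext (by simp [Fin.ofNat, Nat.mod_eq_of_lt z.isLt])⟩
    have h2 : 2 ≤ k := by
      by_contra h
      rcases (show k = 0 ∨ k = 1 by omega) with rfl | rfl
      · exact hz (hk.2.symm)
      · exact hzb (hk.2.symm)
    have h1 : swap a b * swap b z ∈ E := Or.inl (hk.2 ▸ hcyc k h2 hk.1)
    have h3 : swap a z = swap a b * swap b z * swap a b := by
      have h := swap_conj (swap a b) b z
      rw [Equiv.swap_inv, swap_apply_right, swap_apply_of_ne_of_ne hz hzb] at h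
      exact h.symm
    rw [h3]; exact mul_mem h1 hsE
  have htop : ∀ σ, σ ∈ E := by
    intro σ
    induction σ using Equiv.Perm.swap_induction_on with
    | one => exact one_mem _
    | swap_mul f u v huv ih =>
      refine mul_mem ?_ ih
      by_cases hu : u = a
      · subst hu; exact hstar v huv.symm
      by_cases hv : v = a
      · subst hv; rw [swap_comm]; exact hstar u hu
      have e : swap u v = swap a u * swap a v * swap a u := by
        have h := swap_conj (swap a u) a v
        rw [Equiv.swap_inv, swap_apply_left, swap_apply_of_ne_of_ne hv huv.symm] at h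
        exact h.symm
      rw [e]; exact mul_mem (mul_mem (hstar u hu) (hstar v hv)) (hstar u hu)
  intro σ hσ
  rcases htop σ with h | h
  · exact h
  · exfalso
    have hR : R ≤ alternatingGroup (Fin (m + 2)) := by
      rw [Subgroup.closure_le]
      rintro _ ⟨i, hi, rfl⟩
      exact gen_even m i hi
    have hsA : s ∈ alternatingGroup (Fin (m + 2)) := by
      have := mul_mem (inv_mem hσ) (hR h)
      rwa [inv_mul_cancel_left] at this
    rw [Equiv.Perm.mem_alternatingGroup, hs, Equiv.Perm.sign_swap hab] at hsA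
    exact absurd hsA (by decide)

/-- A presentation of the alternating group of degree n ≥ 3 on generators x_1, …, x_{n−2} (indexed here by 0, …, n−3): the first generator cubes to 1, every other generator squares to 1, the product of two consecutive generators has order dividing 3, and the product of two generators at distance at least 2 has order dividing 2. The group so presented is isomorphic to the alternating group of degree n. -/
theorem result (n : ℕ) (hn : 3 ≤ n) :
    Nonempty (PresentedGroup
      ({g : FreeGroup (Fin (n - 2)) | ∃ i : Fin (n - 2), i.val = 0 ∧ g = FreeGroup.of i ^ 3} ∪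
       {g | ∃ i : Fin (n - 2), 1 ≤ i.val ∧ g = FreeGroup.of i ^ 2} ∪
       {g | ∃ i j : Fin (n - 2), j.val = i.val + 1 ∧ g = (FreeGroup.of i * FreeGroup.of j) ^ 3} ∪
       {g | ∃ i j : Fin (n - 2), i.val + 1 < j.val ∧ g = (FreeGroup.of i * FreeGroup.of j) ^ 2})
      ≃* alternatingGroup (Fin n)) := by
  classical
  obtain ⟨m, rfl⟩ : ∃ m, n = m + 2 := ⟨n - 2, by omega⟩
  have hm : 1 ≤ m := by omega
  have hR := gen_rels m
  rw [show m + 2 - 2 = m by omega]
  set rels : Set (FreeGroup (Fin m)) :=
    {g : FreeGroup (Fin m) | ∃ i : Fin m, i.val = 0 ∧ g = FreeGroup.of i ^ 3} ∪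
       {g | ∃ i : Fin m, 1 ≤ i.val ∧ g = FreeGroup.of i ^ 2} ∪
       {g | ∃ i j : Fin m, j.val = i.val + 1 ∧ g = (FreeGroup.of i * FreeGroup.of j) ^ 3} ∪
       {g | ∃ i j : Fin m, i.val + 1 < j.val ∧ g = (FreeGroup.of i * FreeGroup.of j) ^ 2}
  let f : Fin m → alternatingGroup (Fin (m + 2)) := fun i => ⟨gen m i, gen_even m i i.isLt⟩
  have hf : ∀ r ∈ rels, FreeGroup.lift f r = 1 := by
    intro r hr
    apply Subtype.ext
    rcases hr with ((⟨i, hi, rfl⟩ | ⟨i, hi, rfl⟩) | ⟨i, j, hij, rfl⟩) | ⟨i, j, hij, rfl⟩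
    · simp only [map_pow, FreeGroup.lift_apply_of, f, SubmonoidClass.coe_pow]
      rw [hi]; exact hR.cube (by omega)
    · simp only [map_pow, FreeGroup.lift_apply_of, f, SubmonoidClass.coe_pow]
      rw [sq]; exact hR.sq i hi i.isLt
    · simp only [map_pow, map_mul, FreeGroup.lift_apply_of, f, SubmonoidClass.coe_pow, Subgroup.coe_mul]
      rw [hij]; exact hR.braid i (by omega)
    · simp only [map_pow, map_mul, FreeGroup.lift_apply_of, f, SubmonoidClass.coe_pow, Subgroup.coe_mul]
      exact hR.far i j hij j.isLt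
  let φ := PresentedGroup.toGroup hf
  have hφs : Function.Surjective φ := by
    intro y
    have hy := gen_generate m hm y.2
    have hle : Subgroup.closure (gen m '' {i | i < m}) ≤
        φ.range.map (alternatingGroup (Fin (m + 2))).subtype := by
      rw [Subgroup.closure_le]
      rintro _ ⟨i, hi, rfl⟩
      exact ⟨f ⟨i, hi⟩, ⟨PresentedGroup.of ⟨i, hi⟩, PresentedGroup.toGroup.of hf⟩, rfl⟩
    obtain ⟨z, ⟨w, rfl⟩, hzy⟩ := hle hy
    exact ⟨w, Subtype.ext hzy⟩
  let x : ℕ → PresentedGroup rels := fun i => if h : i < m then PresentedGroup.of ⟨i, h⟩ else 1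
  have hone : ∀ r ∈ rels, PresentedGroup.mk rels r = 1 := fun r hr => PresentedGroup.one_of_mem hr
  have hx : Rels x m := by
    refine ⟨fun h => ?_, fun i h1 h2 => ?_, fun i hi => ?_, fun i j hij hj => ?_⟩
    · have := hone _ (Or.inl (Or.inl (Or.inl ⟨⟨0, h⟩, rfl, rfl⟩)))
      rw [map_pow] at this
      simp only [x, dif_pos h]; exact this
    · have := hone _ (Or.inl (Or.inl (Or.inr ⟨⟨i, h2⟩, h1, rfl⟩)))
      rw [map_pow, sq] at this
      simp only [x, dif_pos h2]; exact this
    · have := hone _ (Or.inl (Or.inr ⟨⟨i, by omega⟩, ⟨i + 1, hi⟩, rfl, rfl⟩))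
      rw [map_pow, map_mul] at this
      simp only [x, dif_pos hi, dif_pos (show i < m by omega)]; exact this
    · have := hone _ (Or.inr ⟨⟨i, by omega⟩, ⟨j, hj⟩, hij, rfl⟩)
      rw [map_pow, map_mul] at this
      simp only [x, dif_pos hj, dif_pos (show i < m by omega)]; exact this
  obtain ⟨S, hS, hSc⟩ := rels_bound x m hx
  have hall : ∀ g : PresentedGroup rels, g ∈ S := by
    intro g
    refine hS g ?_
    have hg : g ∈ Subgroup.closure (Set.range (PresentedGroup.of (rels := rels))) := by
      rw [PresentedGroup.closure_range_of]; trivial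
    refine Subgroup.closure_mono ?_ hg
    rintro _ ⟨i, rfl⟩
    exact ⟨i.val, i.isLt, by simp [x]⟩
  haveI : Fintype (PresentedGroup rels) := ⟨S, hall⟩
  have hA : 2 * Nat.card (alternatingGroup (Fin (m + 2))) = (m + 2).factorial := by
    haveI : Nontrivial (Fin (m + 2)) := inferInstance
    rw [two_mul_nat_card_alternatingGroup, Nat.card_perm, Nat.card_fin]
  refine ⟨MulEquiv.ofBijective φ ((Fintype.bijective_iff_surjective_and_card φ).2 ⟨hφs, ?_⟩)⟩
  refine le_antisymm ?_ (Fintype.card_le_of_surjective φ hφs)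
  rw [← Nat.card_eq_fintype_card (α := alternatingGroup (Fin (m + 2)))]
  have : Fintype.card (PresentedGroup rels) = S.card := by
    rw [← Finset.card_univ]; congr 1; ext g; simp [hall g]
  omega

end Cfsg.Agent.S3335
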