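import Cfsg.Statements.S3346
import Cfsg.Agent.Lib.HSRec.Assemble
import Cfsg.Agent.Lib.HSRec.MFacts
import Cfsg.Agent.Lib.HSRec.Cases

set_option autoImplicit false
open Cfsg

namespace Cfsg.Agent.S3346

/-- A characterization of the Higman–Sims group. Let G be a finite group with an involution t, H = C_G(t) and R = O₂(H). Suppose R is the central product of a cyclic group of order 4 with an extraspecial group of order 32 (R = CE with C cyclic of order 4 central in R, E extraspecial of order 32, and C ∩ E = Z(E)), and H/R is isomorphic to Sym(5). Suppose further that V ≤ R is elementary abelian of order 8 with M = N_G(V) satisfying O₂(M) ≅ C₄ × C₄ × C₄ and M/O₂(M) ≅ GL(3,2). Then G is isomorphic to the Higman–Sims group. -/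
theorem result {G : Type*} [Group G] [Finite G]
    (t : G) (ht : orderOf t = 2) (H : Subgroup G) (hH : H = Subgroup.centralizer ({t} : Set G))
    (R : Subgroup G) (hR : R = (Cfsg.pCore 2 H).map H.subtype)
    (Cy E : Subgroup G) (hCy : IsCyclic Cy) (hCycard : Nat.card Cy = 4)
    (hCyle : Cy ≤ R ⊓ Subgroup.centralizer (R : Set G))
    (hEle : E ≤ R) (hEex : Cfsg.IsExtraspecial 2 E) (hEcard : Nat.card E = 32)
    (hprod : Cy ⊔ E = R) (hmeet : Cy ⊓ E = E ⊓ Subgroup.centralizer (E : Set G))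
    (eH : H ⧸ Cfsg.pCore 2 H ≃* Equiv.Perm (Fin 5))
    (V : Subgroup G) (hVcomm : IsMulCommutative V) (hVexp : ∀ v ∈ V, v ^ 2 = 1) (hVcard : Nat.card V = 8)
    (hVR : V ≤ R) (M : Subgroup G) (hM : M = Subgroup.normalizer (V : Set G))
    (eOM : Cfsg.pCore 2 M ≃* Multiplicative (ZMod 4 × ZMod 4 × ZMod 4))
    (eM : M ⧸ Cfsg.pCore 2 M ≃* GL (Fin 3) (ZMod 2)) :
    Cfsg.Spor.IsoHS G := by
  subst hH
  set C : Subgroup G := Subgroup.centralizer ({t} : Set G) with hCdef
  haveI : (Cfsg.pCore 2 ↥C).Normal := Cfsg.pCore_normal 2 ↥C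
  let π : ↥C →* Equiv.Perm (Fin 5) := eH.toMonoidHom.comp (QuotientGroup.mk' _)
  have hker : ∀ h : ↥C, π h = 1 ↔ (h : G) ∈ R := fun h => by
    show eH (QuotientGroup.mk' _ h) = 1 ↔ _
    rw [map_eq_one_iff eH eH.injective, QuotientGroup.mk'_apply, QuotientGroup.eq_one_iff, hR,
      Subgroup.mem_map_iff_mem (Subgroup.subtype_injective _) (x := h) |>.symm]
    rfl
  have hsurj : Function.Surjective π := eH.surjective.comp (QuotientGroup.mk'_surjective _)
  have hRH : R ≤ C := hR ▸ Subgroup.map_subtype_le _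
  have htC : t ∈ C := Subgroup.mem_centralizer_singleton_iff.2 rfl
  have htR : t ∈ R := by
    refine (hker ⟨t, htC⟩).1 ?_
    have hc : ∀ σ, π ⟨t, htC⟩ * σ = σ * π ⟨t, htC⟩ := fun σ => by
      obtain ⟨x, rfl⟩ := hsurj σ
      rw [← map_mul, ← map_mul]
      exact congrArg π (Subtype.ext (Subgroup.mem_centralizer_singleton_iff.1 x.2).symm)
    have dec : ∀ n : Equiv.Perm (Fin 5), (∀ a ∈ ([Equiv.swap 0 1, finRotate 5] : List (Equiv.Perm (Fin 5))),
        n * a = a * n) → n = 1 := by decide +kernel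
    exact dec _ fun a _ => hc a
  have htc : ∀ r ∈ R, r * t = t * r := fun r hr => Subgroup.mem_centralizer_singleton_iff.1 (hRH hr)
  obtain ⟨x, y, x', y', c, -, F⟩ := CfsgLib.HSRec.Pin.exists_frame t ht R Cy E hCy hCycard hCyle hEle hEex hEcard hprod hmeet htR htc
  have hVc : ∀ a ∈ V, ∀ b ∈ V, a * b = b * a := fun a ha b hb =>
    congrArg Subtype.val (hVcomm.is_comm.comm (⟨a, ha⟩ : ↥V) ⟨b, hb⟩)
  have hVs : ∀ a ∈ V, a * a = 1 := fun a ha => by rw [← pow_two]; exact hVexp a ha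
  have htV : t ∈ V := CfsgLib.HSRec.Pin.t_mem_of_frame F hVR hVcard hVc hVs
  haveI : (Cfsg.pCore 2 ↥M).Normal := Cfsg.pCore_normal 2 ↥M
  have hR64 : Nat.card R = 64 := by
    let f : Fin 64 → ↥R := fun r => ⟨_, F.mem r r.2⟩
    have hf : Function.Bijective f := ⟨fun r r' e => Fin.ext (F.inj r r' r.2 r'.2 (congrArg Subtype.val e)),
      fun ⟨g, hg⟩ => by obtain ⟨r, hr, e⟩ := F.surj g hg; exact ⟨⟨r, hr⟩, Subtype.ext e⟩⟩
    rw [← Nat.card_eq_of_bijective f hf, Nat.card_fin]
  have hC : Nat.card ↥C = 7680 := by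
    have h1 : Nat.card π.ker = 64 := by
      rw [← hR64]
      exact Nat.card_congr
        { toFun := fun x => ⟨((x : ↥C) : G), (hker _).1 x.2⟩
          invFun := fun g => ⟨⟨g, hRH g.2⟩, (hker _).2 g.2⟩
          left_inv := fun x => rfl
          right_inv := fun x => rfl }
    have h2 : π.ker.index = 120 := by
      rw [Subgroup.index_ker, MonoidHom.range_eq_top.2 hsurj]
      simp [Nat.card_eq_fintype_card, Fintype.card_perm, Nat.factorial]
    rw [← Subgroup.card_mul_index π.ker, h1, h2]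
  have FM := CfsgLib.HSRec.MFacts.facts_of t ht V M hVc hVs hVcard hM eOM eM htV hC
  have hMcard : Nat.card ↥M = 10752 := by
    have h1 := Subgroup.card_mul_index (Cfsg.pCore 2 ↥M)
    rw [Subgroup.index, Nat.card_congr eM.toEquiv, CfsgLib.InvolChar.SubgroupsA8.gl3_card,
      Nat.card_congr eOM.toEquiv] at h1
    simpa using h1.symm
  have S : CfsgLib.HSRec.Pin.Setting t R V π :=
    ⟨ht, hsurj, hker, hRH, htV, hVR, hVcard, hVc, hVs, FM.comm, fun a b d a' b' d' ha hb hd ha' hb' hd' n n' => by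
      obtain ⟨g, hg, e⟩ := FM.move a b d a' b' d' ha hb hd ha' hb' hd' n n'
      exact ⟨g, fun v hv => (Subgroup.mem_normalizer_iff.1 (hM ▸ hg) v).1 hv, e⟩, FM.cardNV⟩
  exact CfsgLib.HSRec.isoHS_of_pieces S F
    (fun q a b L => CfsgLib.HSRec.Pin.exists_code ht L)
    (fun el Co hV => CfsgLib.HSRec.MFacts.local_of hM hMcard FM Co hV)

end Cfsg.Agent.S3346
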