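import Cfsg.Statements.S3349
import Cfsg.Agent.Lib.PGroup.Extraspecial

set_option autoImplicit false
open Cfsg
open scoped commutatorElement

namespace Cfsg.Agent.S3349

/-- Let Q be a finite extraspecial p-group and α an automorphism of Q fixing every element of some maximal abelian subgroup of Q. Then the order of α is a power of p. -/
theorem result {Q : Type*} [Group Q] [Finite Q]
    (p : ℕ) [Fact p.Prime] (hQ : Cfsg.IsExtraspecial p Q) (α : MulAut Q)
    (A : Subgroup Q) (hA : IsMulCommutative A) (hmax : ∀ B : Subgroup Q, A ≤ B → IsMulCommutative B → B = A)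
    (hfix : ∀ a ∈ A, α a = a) :
    ∃ k : ℕ, orderOf α = p ^ k := by
  have hsp := hQ.1
  have hcomm : ∀ a ∈ A, ∀ b ∈ A, a * b = b * a := fun a ha b hb =>
    congrArg Subtype.val (hA.is_comm.comm ⟨a, ha⟩ ⟨b, hb⟩)
  have hmem : ∀ x : Q, (∀ a ∈ A, x * a = a * x) → x ∈ A := by
    intro x hx
    have hc : IsMulCommutative (Subgroup.closure (insert x (A : Set Q)) : Subgroup Q) :=
      Subgroup.isMulCommutative_closure (by
        rintro a (rfl | ha) b (rfl | hb)
        · rfl
        · exact hx b hb
        · exact (hx a ha).symm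
        · exact hcomm a ha b hb)
    have h := hmax _ (fun a ha => Subgroup.subset_closure (Set.mem_insert_of_mem _ ha)) hc
    rw [← h]; exact Subgroup.subset_closure (Set.mem_insert x _)
  have hZ : Subgroup.center Q ≤ A := fun z hz => hmem z fun a _ =>
    ((Subgroup.mem_center_iff.1 hz) a).symm
  have hconj : ∀ x : Q, ∀ a ∈ A, x * a * x⁻¹ ∈ A := by
    intro x a ha
    have : ⁅x, a⁆ * a ∈ A := mul_mem (hZ (CfsgLib.PGroup.special_comm_mem_center hsp x a)) ha
    simpa [commutatorElement_def] using this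
  have hd : ∀ x : Q, x⁻¹ * α x ∈ A := by
    intro x
    refine hmem _ fun a ha => ?_
    have h1 : α (x * a * x⁻¹) = x * a * x⁻¹ := hfix _ (hconj x a ha)
    rw [map_mul, map_mul, hfix a ha, map_inv] at h1
    have h2 : α x * a = x * a * x⁻¹ * α x := mul_inv_eq_iff_eq_mul.1 h1
    rw [mul_assoc, h2]
    group
  have hpow : ∀ (n : ℕ) (x : Q), (α ^ n) x = x * (x⁻¹ * α x) ^ n := by
    intro n
    induction n with
    | zero => simp
    | succ n ih =>
      intro x
      rw [pow_succ', MulAut.mul_apply, ih, map_mul, map_pow, hfix _ (hd x), pow_succ', ← mul_assoc,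
        mul_inv_cancel_left]
  have h1 : α ^ p ^ 2 = 1 := by
    ext x
    rw [hpow, CfsgLib.PGroup.special_pow_sq hsp, mul_one, MulAut.one_apply]
  obtain ⟨k, -, hk⟩ := (Nat.dvd_prime_pow Fact.out).1 (orderOf_dvd_of_pow_eq_one h1)
  exact ⟨k, hk⟩

end Cfsg.Agent.S3349
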