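import Cfsg.Statements.S3357
import Cfsg.Agent.Lib.Icosa.Complex
import Cfsg.Agent.S4292

set_option autoImplicit false
open Cfsg

namespace Cfsg.Agent.S3357

/-- Let G be a finite group that occurs as a Frobenius complement. Then G has a faithful irreducible representation over an algebraic closure of the rationals in which no non-identity element of G has 1 as an eigenvalue: there are n ≥ 1 and an injective homomorphism ρ from G to GL(n) over that field, with no invariant subspace other than 0 and the whole space, such that for g ≠ 1 the only vector fixed by ρ(g) is 0. -/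
theorem result {G : Type*} [Group G] [Finite G]
    (hFC : ∃ (L : Type) (_ : Group L) (_ : Finite L) (H : Subgroup L), Cfsg.IsFrobeniusComplement H ∧ Nonempty (G ≃* H)) :
    ∃ (n : ℕ) (ρ : G →* GL (Fin n) (AlgebraicClosure ℚ)), 0 < n ∧ Function.Injective ρ ∧
      (∀ W : Submodule (AlgebraicClosure ℚ) (Fin n → AlgebraicClosure ℚ),
        (∀ g : G, ∀ w ∈ W, ((ρ g : GL (Fin n) (AlgebraicClosure ℚ)) : Matrix (Fin n) (Fin n) (AlgebraicClosure ℚ)).mulVec w ∈ W) → W = ⊥ ∨ W = ⊤) ∧
      ∀ g : G, g ≠ 1 → ∀ v : Fin n → AlgebraicClosure ℚ,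
        ((ρ g : GL (Fin n) (AlgebraicClosure ℚ)) : Matrix (Fin n) (Fin n) (AlgebraicClosure ℚ)).mulVec v = v → v = 0 := by
  classical
  obtain ⟨r, hr, hrA, h1⟩ := Cfsg.Agent.S4292.exists_rep hFC
  obtain ⟨V, _, _, _, _, σ, hσ⟩ := CfsgLib.Icosa.exists_field_rep (AlgebraicClosure ℚ) hrA h1
  let K := AlgebraicClosure ℚ
  let P : ℕ → Prop := fun d => ∃ U : Submodule K V, U ≠ ⊥ ∧ (∀ g, ∀ u ∈ U, σ g u ∈ U) ∧ Module.finrank K U = d
  have hP : ∃ d, P d := ⟨_, ⊤, top_ne_bot, fun _ _ _ => Submodule.mem_top, rfl⟩
  obtain ⟨U, hU0, hUinv, hUd⟩ := Nat.find_spec hP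
  let b := Module.finBasis K U
  let τ : G →* Module.End K U :=
    { toFun := fun g => (σ g).restrict (hUinv g)
      map_one' := LinearMap.ext fun u => Subtype.ext (by
        rw [LinearMap.restrict_apply, Module.End.one_apply]; simp)
      map_mul' := fun a c => LinearMap.ext fun u => Subtype.ext (by simp [LinearMap.restrict_apply]) }
  let μ : G →* Matrix (Fin (Module.finrank K U)) (Fin (Module.finrank K U)) K :=
    (LinearMap.toMatrixAlgEquiv b).toAlgHom.toRingHom.toMonoidHom.comp τ
  let ρ : G →* GL (Fin (Module.finrank K U)) K := μ.toHomUnits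
  have hmv : ∀ g (v : Fin (Module.finrank K U) → K),
      ((ρ g : GL (Fin (Module.finrank K U)) K) : Matrix (Fin (Module.finrank K U)) (Fin (Module.finrank K U)) K).mulVec v =
        b.equivFun (τ g (b.equivFun.symm v)) := by
    intro g v
    show (LinearMap.toMatrix b b (τ g)).mulVec v = _
    have e : ⇑(b.repr (b.equivFun.symm v)) = v := b.equivFun.apply_symm_apply v
    have h := LinearMap.toMatrix_mulVec_repr b b (τ g) (b.equivFun.symm v)
    rw [e] at h
    exact h
  have hnt : Nontrivial U := Submodule.nontrivial_iff_ne_bot.2 hU0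
  have hfix : ∀ g : G, g ≠ 1 → ∀ v, ((ρ g : GL (Fin (Module.finrank K U)) K) :
      Matrix (Fin (Module.finrank K U)) (Fin (Module.finrank K U)) K).mulVec v = v → v = 0 := by
    intro g hg v hv
    rw [hmv] at hv
    have h2 : τ g (b.equivFun.symm v) = b.equivFun.symm v := by
      apply b.equivFun.injective
      rw [hv, LinearEquiv.apply_symm_apply]
    have h3 : (b.equivFun.symm v : V) = 0 := hσ g hg _ (congrArg Subtype.val h2)
    have h4 : b.equivFun.symm v = 0 := Subtype.ext h3
    rw [← b.equivFun.apply_symm_apply v, h4, map_zero]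
  refine ⟨Module.finrank K U, ρ, Module.finrank_pos, ?_, ?_, hfix⟩
  · rw [injective_iff_map_eq_one]
    intro g hg
    by_contra hg1
    obtain ⟨u, hu⟩ := exists_ne (0 : U)
    refine hu ?_
    have h2 := hfix g hg1 (b.equivFun u) (by rw [hg, Units.val_one, Matrix.one_mulVec])
    simpa using h2
  · intro W hW
    let W' : Submodule K U := W.comap b.equivFun.toLinearMap
    rcases eq_or_ne W' ⊥ with h0 | h0
    · left
      rw [eq_bot_iff]
      intro w hw
      have : b.equivFun.symm w ∈ W' := by
        show b.equivFun (b.equivFun.symm w) ∈ W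
        rwa [LinearEquiv.apply_symm_apply]
      rw [h0, Submodule.mem_bot] at this
      rw [Submodule.mem_bot, ← b.equivFun.apply_symm_apply w, this, map_zero]
    · right
      have hPW : P (Module.finrank K W') := by
        refine ⟨W'.map U.subtype, ?_, ?_, ?_⟩
        · exact fun h => h0 (Submodule.map_injective_of_injective U.injective_subtype (by rw [h, Submodule.map_bot]))
        · rintro g _ ⟨u, hu, rfl⟩
          refine ⟨τ g u, ?_, rfl⟩
          show b.equivFun (τ g u) ∈ W
          have h2 := hW g _ hu
          rwa [hmv, LinearEquiv.coe_coe, LinearEquiv.symm_apply_apply] at h2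
        · exact Submodule.finrank_map_subtype_eq U W'
      have hle : Module.finrank K U ≤ Module.finrank K W' := hUd ▸ Nat.find_min' hP hPW
      have htop : W' = ⊤ := Submodule.eq_top_of_finrank_eq (le_antisymm (Submodule.finrank_le W') hle)
      rw [eq_top_iff]
      intro w _
      have : b.equivFun.symm w ∈ W' := htop ▸ Submodule.mem_top
      have h5 : b.equivFun (b.equivFun.symm w) ∈ W := this
      rwa [LinearEquiv.apply_symm_apply] at h5

end Cfsg.Agent.S3357
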