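import Cfsg.Statements.S3358
import Cfsg.Agent.Lib.Icosa.SixTypes
import Cfsg.Agent.Lib.Icosa.Complement

set_option autoImplicit false
open Cfsg

namespace Cfsg.Agent.S3358

open Subgroup CfsgLib.Icosa
open scoped commutatorElement

variable {G : Type*} [Group G] [Finite G] {V : Type*} [AddCommGroup V] [Module ℂ V] [FiniteDimensional ℂ V]
  [Nontrivial V] {ρ : G →* Module.End ℂ V}

theorem eq_zero_of_fixed (h : IsFPF ρ) {g : G} (hg : g ≠ 1) {S : Module.End ℂ V} (hS : ρ g * S = S) : S = 0 :=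
  LinearMap.ext fun v => h g hg _ (by rw [← Module.End.mul_apply, hS])

/-- An element of prime order centralizes the abelian groups of coprime order that it normalizes. -/
theorem commute_of_normalizes (h : IsFPF ρ) {Y : Subgroup G} [IsMulCommutative Y] {a : G} {p : ℕ} [hp : Fact p.Prime]
    (hap : a ^ p = 1) (hpY : ¬ p ∣ Nat.card Y) (haY : ∀ v ∈ Y, a * v * a⁻¹ ∈ Y) : ∀ v ∈ Y, Commute a v := by
  classical
  rcases eq_or_ne a 1 with rfl | ha1
  · exact fun v _ => Commute.one_left v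
  have hao : orderOf a = p := orderOf_eq_prime hap ha1
  have hcomm : ∀ u ∈ Y, ∀ v ∈ Y, u * v = v * u := fun u hu v hv =>
    congrArg Subtype.val (mul_comm' (⟨u, hu⟩ : Y) ⟨v, hv⟩)
  let δ : Y →* Y := MonoidHom.mk' (fun v => ⟨a * v * a⁻¹ * (v : G)⁻¹, mul_mem (haY v v.2) (inv_mem v.2)⟩) (by
    intro u v
    apply Subtype.ext
    show a * (u * v : G) * a⁻¹ * ((u : G) * v)⁻¹ = (a * u * a⁻¹ * (u : G)⁻¹) * (a * v * a⁻¹ * (v : G)⁻¹)
    have h1 := hcomm _ (mul_mem (haY v v.2) (inv_mem v.2)) _ (inv_mem u.2)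
    calc a * (u * v : G) * a⁻¹ * ((u : G) * v)⁻¹ = a * u * a⁻¹ * ((a * v * a⁻¹ * (v : G)⁻¹) * (u : G)⁻¹) := by group
      _ = a * u * a⁻¹ * ((u : G)⁻¹ * (a * v * a⁻¹ * (v : G)⁻¹)) := by rw [h1]
      _ = _ := by group)
  -- fixed points on the image are trivial
  have hfix : ∀ w ∈ δ.range, a * (w : G) * a⁻¹ = w → w = 1 := by
    rintro w ⟨v, rfl⟩ hw
    have hwv : a * (v : G) * a⁻¹ = (δ v : G) * v := by
      show a * (v : G) * a⁻¹ = a * v * a⁻¹ * (v : G)⁻¹ * v
      group
    have hit : ∀ k : ℕ, a ^ k * (v : G) * (a ^ k)⁻¹ = (δ v : G) ^ k * v := by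
      intro k
      induction k with
      | zero => simp
      | succ k ih =>
        have hc : Commute a ((δ v : G) ^ k) := Commute.pow_right (mul_inv_eq_iff_eq_mul.1 hw) k
        calc a ^ (k + 1) * (v : G) * (a ^ (k + 1))⁻¹ = a * (a ^ k * v * (a ^ k)⁻¹) * a⁻¹ := by rw [pow_succ']; group
          _ = (a * (δ v : G) ^ k * a⁻¹) * (a * v * a⁻¹) := by rw [ih]; group
          _ = (δ v : G) ^ (k + 1) * v := by rw [hc.eq, mul_inv_cancel_right, hwv, ← mul_assoc, pow_succ]
    have h1 := hit p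
    rw [hap, inv_one, mul_one, one_mul, right_eq_mul] at h1
    have h2 : (δ v) ^ p = 1 := Subtype.ext (by simpa using h1)
    rw [← orderOf_eq_one_iff]
    exact Nat.eq_one_of_dvd_coprimes ((hp.out.coprime_iff_not_dvd).2 hpY) (orderOf_dvd_of_pow_eq_one h2)
      (_root_.orderOf_dvd_natCard _)
  intro v hv
  by_contra hne
  have hR : (δ ⟨v, hv⟩ : G) ≠ 1 := fun e => hne (mul_inv_eq_iff_eq_mul.1 (mul_inv_eq_one.1 e))
  set R := δ.range with hRdef
  have : Fintype R := Fintype.ofFinite R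
  let ι : R → G := fun w => ((w : Y) : G)
  have hRnorm : ∀ w : R, ∀ i : ℕ, ∃ w' : R, ι w' = a ^ i * ι w * (a ^ i)⁻¹ := by
    intro w i
    induction i with
    | zero => exact ⟨w, by simp⟩
    | succ i ih =>
      obtain ⟨⟨w', hw'⟩, he⟩ := ih
      obtain ⟨u, rfl⟩ := hw'
      refine ⟨⟨δ ⟨a * u * a⁻¹, haY u u.2⟩, ⟨_, rfl⟩⟩, ?_⟩
      show a * (a * u * a⁻¹) * a⁻¹ * (a * u * a⁻¹)⁻¹ = a ^ (i + 1) * ι w * (a ^ (i + 1))⁻¹
      calc a * (a * u * a⁻¹) * a⁻¹ * (a * u * a⁻¹)⁻¹ = a * (a * u * a⁻¹ * (u : G)⁻¹) * a⁻¹ := by group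
        _ = a * ((δ u : Y) : G) * a⁻¹ := rfl
        _ = _ := by rw [show ((δ u : Y) : G) = a ^ i * ι w * (a ^ i)⁻¹ from he, pow_succ']; group
  choose ψ hψ using hRnorm
  let f : ℕ → R → R := fun i w => w * (ψ w i)⁻¹
  have hsumR : ∑ w : R, ρ (ι w) = 0 := by
    let w₀ : R := ⟨δ ⟨v, hv⟩, ⟨_, rfl⟩⟩
    refine eq_zero_of_fixed h (g := ι w₀) hR ?_
    rw [Finset.mul_sum]
    exact Fintype.sum_equiv (Equiv.mulLeft w₀) _ _ (fun w => by rw [← map_mul]; rfl)
  have hbij : ∀ i : ℕ, 0 < i → i < p → Function.Bijective (f i) := by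
    intro i hi hip
    refine Finite.injective_iff_bijective.1 fun w w' hww => ?_
    have h1 : ι w * (a ^ i * ι w * (a ^ i)⁻¹)⁻¹ = ι w' * (a ^ i * ι w' * (a ^ i)⁻¹)⁻¹ := by
      rw [← hψ w i, ← hψ w' i]
      exact congrArg ι hww
    set d := (ι w')⁻¹ * ι w with hd
    have hdY : d ∈ Y := mul_mem (inv_mem (w' : Y).2) (w : Y).2
    have h2 : Commute (a ^ i) d := by
      have h4 : a ^ i * ι w * (a ^ i)⁻¹ = (ι w')⁻¹ * ι w * (a ^ i * ι w' * (a ^ i)⁻¹) := by
        have hY1 : a ^ i * ι w * (a ^ i)⁻¹ ∈ Y := hψ w i ▸ (ψ w i : Y).2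
        have hY2 : a ^ i * ι w' * (a ^ i)⁻¹ ∈ Y := hψ w' i ▸ (ψ w' i : Y).2
        have h5 : (ι w * (a ^ i * ι w * (a ^ i)⁻¹)⁻¹) = ι w' * (a ^ i * ι w' * (a ^ i)⁻¹)⁻¹ := h1
        calc a ^ i * ι w * (a ^ i)⁻¹ = (ι w * (a ^ i * ι w * (a ^ i)⁻¹)⁻¹)⁻¹ * ι w := by group
          _ = a ^ i * ι w' * (a ^ i)⁻¹ * ((ι w')⁻¹ * ι w) := by rw [h5]; group
          _ = _ := hcomm _ hY2 _ hdY
      show a ^ i * d = d * a ^ i
      rw [hd]
      calc a ^ i * ((ι w')⁻¹ * ι w) = (a ^ i * ι w' * (a ^ i)⁻¹)⁻¹ * (a ^ i * ι w * (a ^ i)⁻¹) * a ^ i := by group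
        _ = (a ^ i * ι w' * (a ^ i)⁻¹)⁻¹ * ((a ^ i * ι w' * (a ^ i)⁻¹) * ((ι w')⁻¹ * ι w)) * a ^ i := by
          rw [h4, hcomm _ hdY _ (hψ w' i ▸ (ψ w' i : Y).2)]
        _ = _ := by group
    have hcop : i.Coprime (orderOf a) := by
      rw [hao]
      exact (hp.out.coprime_iff_not_dvd.2 fun hd' => absurd (Nat.le_of_dvd hi hd') (not_le.2 hip)).symm
    obtain ⟨j, hj⟩ := exists_pow_eq_self_of_coprime hcop
    have h3 : a * d * a⁻¹ = d := by rw [← hj, (h2.pow_left j).eq, mul_inv_cancel_right]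
    have h6 : (⟨d, hdY⟩ : Y) = 1 := hfix _ (by
      rw [show (⟨d, hdY⟩ : Y) = ((w' : R) : Y)⁻¹ * (w : Y) from rfl]
      exact mul_mem (inv_mem (w' : R).2) w.2) h3
    have h7 : ι w' = ι w := inv_mul_eq_one.1 (congrArg Subtype.val h6)
    exact Subtype.ext (Subtype.ext h7.symm)
  have hS : ∑ i ∈ Finset.range p, ρ (a ^ i) = 0 := by
    refine eq_zero_of_fixed h ha1 ?_
    rw [Finset.mul_sum]
    have e : ∀ i, ρ a * ρ (a ^ i) = ρ (a ^ (i + 1)) := fun i => by rw [← map_mul, ← pow_succ']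
    simp only [e]
    have h1 := Finset.sum_range_succ (fun i => ρ (a ^ i)) p
    rw [Finset.sum_range_succ', hap, pow_zero] at h1
    exact add_right_cancel h1
  have h0 : ∑ i ∈ Finset.range p, ∑ w : R, ρ (ι w * a ^ i * (ι w)⁻¹) = 0 := by
    rw [Finset.sum_comm]
    refine Finset.sum_eq_zero fun w _ => ?_
    simp only [map_mul]
    rw [← Finset.sum_mul, ← Finset.mul_sum, hS, mul_zero, zero_mul]
  rw [Finset.sum_eq_single_of_mem 0 (Finset.mem_range.2 hp.out.pos)] at h0
  · have h1 : ((Fintype.card R : ℕ) : Module.End ℂ V) = 0 := by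
      simpa using h0
    exact h.natCast_ne_zero Fintype.card_ne_zero h1
  · intro i hi hi0
    have hb := hbij i (Nat.pos_of_ne_zero hi0) (Finset.mem_range.1 hi)
    have e : ∀ w : R, ρ (ι w * a ^ i * (ι w)⁻¹) = ρ (ι (f i w)) * ρ (a ^ i) := by
      intro w
      rw [← map_mul]
      congr 1
      show _ = ι w * (ι (ψ w i))⁻¹ * a ^ i
      rw [hψ]
      group
    simp only [e]
    rw [← Finset.sum_mul, Function.Bijective.sum_comp hb (fun w => ρ (ι w)), hsumR, zero_mul]

/-- The presentation of a Z-group with fixed-point-free representation. -/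
theorem presentation (h : IsFPF ρ) (hZ : IsZGroup G) :
    ∃ n m r : ℕ, 0 < n ∧ 0 < m ∧ Nat.Coprime (r - 1) m ∧ Nat.Coprime n m ∧ 1 ≤ r ∧
      r ^ (n / ∏ p ∈ n.primeFactors, p) % m = 1 % m ∧
      Nonempty (G ≃* PresentedGroup
        ({FreeGroup.of (0 : Fin 2) ^ n, FreeGroup.of (1 : Fin 2) ^ m,
          (FreeGroup.of (0 : Fin 2))⁻¹ * FreeGroup.of 1 * FreeGroup.of 0 * (FreeGroup.of (1 : Fin 2) ^ r)⁻¹} :
          Set (FreeGroup (Fin 2)))) := by
  classical
  set M := _root_.commutator G with hMdef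
  have hMc : IsCyclic M := IsZGroup.isCyclic_commutator G
  have hcop : (Nat.card M).Coprime M.index := IsZGroup.coprime_commutator_index G
  obtain ⟨C, hC⟩ := exists_right_complement'_of_coprime hcop
  have hGab : IsCyclic (Abelianization G) := IsZGroup.isCyclic_abelianization
  have hCc : IsCyclic C := by
    let q : C →* Abelianization G := Abelianization.of.comp C.subtype
    refine isCyclic_of_injective q ((injective_iff_map_eq_one _).2 fun c hc => ?_)
    have h1 : (c : G) ∈ M ⊓ C := ⟨(QuotientGroup.eq_one_iff (c : G)).1 hc, c.2⟩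
    rw [hC.disjoint.eq_bot, mem_bot] at h1
    exact Subtype.ext h1
  obtain ⟨x₀, hx₀⟩ := hCc.exists_generator
  obtain ⟨y₀, hy₀⟩ := hMc.exists_generator
  set x : G := Subtype.val x₀ with hxdef
  set y : G := Subtype.val y₀ with hydef
  set n := orderOf x with hndef
  set m := orderOf y with hmdef
  have hn : n = Nat.card C := by rw [hndef, orderOf_coe, orderOf_eq_card_of_forall_mem_zpowers hx₀]
  have hm : m = Nat.card M := by rw [hmdef, orderOf_coe, orderOf_eq_card_of_forall_mem_zpowers hy₀]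
  have hMy : ∀ v ∈ M, v ∈ zpowers y := fun v hv => by
    obtain ⟨i, hi⟩ := hy₀ ⟨v, hv⟩
    exact ⟨i, by simpa using congrArg Subtype.val hi⟩
  have hCx : ∀ v ∈ C, v ∈ zpowers x := fun v hv => by
    obtain ⟨i, hi⟩ := hx₀ ⟨v, hv⟩
    exact ⟨i, by simpa using congrArg Subtype.val hi⟩
  have hMn : M.Normal := inferInstance
  obtain ⟨r₀, -, hr₀⟩ : ∃ r₀ : ℕ, r₀ < m ∧ x⁻¹ * y * x = y ^ r₀ := by
    obtain ⟨i, hi⟩ := hMy _ (hMn.conj_mem' y y₀.2 x)
    have hm0 : (m : ℤ) ≠ 0 := by exact_mod_cast (orderOf_pos y).ne'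
    refine ⟨(i % (m : ℤ)).toNat, ?_, ?_⟩
    · have h1 := Int.emod_lt_of_pos i (by exact_mod_cast orderOf_pos y : (0 : ℤ) < m)
      have h2 := Int.emod_nonneg i hm0
      omega
    · rw [← zpow_natCast, Int.toNat_of_nonneg (Int.emod_nonneg i hm0), hmdef, zpow_mod_orderOf]
      exact hi.symm
  set r := if r₀ = 0 then m else r₀ with hrdef
  have hr : x⁻¹ * y * x = y ^ r := by
    rw [hr₀, hrdef]
    split_ifs with h0
    · rw [h0, pow_zero, hmdef, pow_orderOf_eq_one]
    · rfl
  have hr1 : 1 ≤ r := by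
    rw [hrdef]; split_ifs with h0
    · exact orderOf_pos y
    · omega
  have hcopnm : Nat.Coprime n m := by
    rw [hn, hm, ← hC.symm.index_eq_card]; exact hcop.symm
  have hgen : ∀ g : G, g ∈ closure ({x, y} : Set G) := by
    intro g
    obtain ⟨⟨u, c⟩, huc⟩ := (hC : Function.Bijective _).2 g
    dsimp only at huc
    rw [← huc]
    refine mul_mem ?_ ?_
    · exact (zpowers_le.2 (Subgroup.subset_closure (Set.mem_insert_of_mem x (Set.mem_singleton y)))) (hMy _ u.2)
    · exact (zpowers_le.2 (Subgroup.subset_closure (Set.mem_insert x {y}))) (hCx _ c.2)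
  have hcopr : Nat.Coprime (r - 1) m := by
    set D := zpowers (y ^ (r - 1)) with hD
    have hconj : x⁻¹ * y ^ (r - 1) * x = (y ^ (r - 1)) ^ r := by
      have := conj_pow (i := r - 1) (a := x⁻¹) (b := y)
      rw [inv_inv, hr] at this
      rw [← this, ← pow_mul, ← pow_mul, mul_comm]
    have hDn : D.Normal := by
      refine normalizer_eq_top_iff.1 (top_le_iff.1 fun g _ => ?_)
      have hle : closure ({x, y} : Set G) ≤ normalizer (D : Set G) := by
        rw [closure_le]
        have hmem : ∀ u : G, (u * y ^ (r - 1) * u⁻¹ ∈ D) → u ∈ normalizer (D : Set G) := by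
          intro u hu
          have hmap : D.map (MulAut.conj u).toMonoidHom = D := by
            refine eq_of_le_of_card_ge ?_ (by rw [card_map_of_injective (MulAut.conj u).injective])
            rw [hD, MonoidHom.map_zpowers, zpowers_le]
            exact hu
          refine mem_normalizer_iff.2 fun w => ?_
          conv_rhs => rw [← hmap]
          rw [mem_map_equiv, MulAut.conj_symm_apply]
          constructor <;> intro hw <;> simpa [mul_assoc] using hw
        rintro u (rfl | rfl)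
        · rw [SetLike.mem_coe, ← inv_mem_iff]
          exact hmem _ (by rw [inv_inv, hconj]; exact pow_mem (mem_zpowers _) r)
        · exact hmem _ (by
            rw [((Commute.refl y).pow_right (r - 1)).eq, mul_inv_cancel_right]; exact mem_zpowers _)
      exact hle (hgen g)
    have hMD : M ≤ D := by
      set π := QuotientGroup.mk' D
      have hxy : Commute (π x) (π y) := by
        have h1 : π (x⁻¹ * y * x) = π y := by
          rw [hr, show y ^ r = y ^ (r - 1) * y by rw [← pow_succ, Nat.sub_add_cancel hr1], map_mul,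
            show π (y ^ (r - 1)) = 1 from (QuotientGroup.eq_one_iff _).2 (mem_zpowers _), one_mul]
        rw [map_mul, map_mul, map_inv, mul_assoc, inv_mul_eq_iff_eq_mul] at h1
        exact h1.symm
      have hcom : ∀ u v : G ⧸ D, u * v = v * u := by
        have hcl : ∀ u : G ⧸ D, u ∈ closure ({π x, π y} : Set (G ⧸ D)) := fun u => by
          obtain ⟨g, rfl⟩ := QuotientGroup.mk_surjective u
          have h2 := mem_map_of_mem π (hgen g)
          rw [MonoidHom.map_closure, Set.image_pair] at h2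
          exact h2
        have hle : closure ({π x, π y} : Set (G ⧸ D)) ≤ centralizer ({π x, π y} : Set (G ⧸ D)) := (closure_le _).2 (by
          rintro w hw
          refine mem_centralizer_iff.2 fun w' hw' => ?_
          rcases hw with rfl | rfl <;> rcases hw' with rfl | rfl <;>
            first | rfl | exact hxy.eq | exact hxy.eq.symm)
        intro u v
        have h3 : u ∈ centralizer ((closure ({π x, π y} : Set (G ⧸ D)) : Subgroup (G ⧸ D)) : Set (G ⧸ D)) := by
          rw [centralizer_closure]; exact hle (hcl u)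
        exact (mem_centralizer_iff.1 h3 v (hcl v)).symm
      rw [hMdef, commutator_def, commutator_le]
      intro u _ v _
      refine (QuotientGroup.eq_one_iff _).1 ?_
      show π ⁅u, v⁆ = 1
      rw [map_commutatorElement, commutatorElement_eq_one_iff_mul_comm]
      exact hcom _ _
    have h4 : m ∣ orderOf (y ^ (r - 1)) := by
      rw [hm, ← Nat.card_zpowers]; exact card_dvd_of_le hMD
    rw [orderOf_pow, ← hmdef] at h4
    have h5 := Nat.div_mul_cancel (Nat.gcd_dvd_left m (r - 1))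
    have h6 : m / Nat.gcd m (r - 1) = m := Nat.dvd_antisymm (Nat.div_dvd_of_dvd (Nat.gcd_dvd_left m (r - 1))) h4
    rw [h6] at h5
    have h7 : Nat.gcd m (r - 1) = 1 :=
      Nat.eq_of_mul_eq_mul_left (orderOf_pos y) (h5.trans (mul_one m).symm)
    exact (Nat.coprime_comm.1 h7)
  -- conjugation by powers of `x`
  have hpowconj : ∀ k : ℕ, (x ^ k)⁻¹ * y * x ^ k = y ^ (r ^ k) := by
    intro k
    induction k with
    | zero => simp
    | succ k ih =>
      have h1 := conj_pow (i := r ^ k) (a := x⁻¹) (b := y)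
      rw [inv_inv, hr] at h1
      calc (x ^ (k + 1))⁻¹ * y * x ^ (k + 1) = x⁻¹ * ((x ^ k)⁻¹ * y * x ^ k) * x := by rw [pow_succ]; group
        _ = y ^ (r ^ (k + 1)) := by rw [ih, ← h1, ← pow_mul, pow_succ']
  set n' := ∏ p ∈ n.primeFactors, p with hn'
  have hn'd : n' ∣ n := Nat.prod_primeFactors_dvd n
  have hz : Commute (x ^ (n / n')) y := by
    set z := x ^ (n / n') with hzdef
    have hn0 : 0 < n := orderOf_pos x
    have hzo : orderOf z = n' := by
      rw [hzdef, hndef, orderOf_pow_orderOf_div (orderOf_pos x).ne' hn'd]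
    let S := zpowers z ⊓ centralizer ({y} : Set G)
    have hall : ∀ p ∈ n.primeFactors, p ∣ Nat.card S := by
      intro p hp
      have hpp := Nat.prime_of_mem_primeFactors hp
      have := Fact.mk hpp
      have hpn' : p ∣ n' := Finset.dvd_prod_of_mem _ hp
      set a := z ^ (n' / p)
      have hao : orderOf a = p := by
        have h1 := orderOf_pow_orderOf_div (orderOf_pos z).ne' (hzo ▸ hpn')
        rwa [hzo] at h1
      have hay : Commute a y := by
        have : IsMulCommutative M := ⟨⟨fun u v => hMc.commGroup.mul_comm u v⟩⟩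
        exact commute_of_normalizes h (hao ▸ pow_orderOf_eq_one a) (fun hd =>
          hpp.ne_one (Nat.eq_one_of_dvd_coprimes hcopnm (Nat.dvd_of_mem_primeFactors hp) (hm ▸ hd)))
          (fun v hv => hMn.conj_mem v hv a) y y₀.2
      have haS : a ∈ S := ⟨pow_mem (mem_zpowers z) _, mem_centralizer_singleton_iff.2 hay.eq⟩
      rw [← hao, ← orderOf_mk a haS]
      exact _root_.orderOf_dvd_natCard _
    have hS : n' ∣ Nat.card S := Finset.prod_primes_dvd _
      (fun p hp => (Nat.prime_of_mem_primeFactors hp).prime) hall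
    have heq : S = zpowers z := eq_of_le_of_card_ge inf_le_left (by
      rw [Nat.card_zpowers, hzo]; exact Nat.le_of_dvd Nat.card_pos hS)
    have h2 : z ∈ S := heq ▸ mem_zpowers z
    exact mem_centralizer_singleton_iff.1 h2.2
  have hmod : r ^ (n / n') % m = 1 % m := by
    have h1 := hpowconj (n / n')
    rw [mul_assoc, ← hz.eq, inv_mul_cancel_left] at h1
    exact pow_eq_pow_iff_modEq.1 (h1.symm.trans (pow_one y).symm)
  refine ⟨n, m, r, orderOf_pos x, orderOf_pos y, hcopr, hcopnm, hr1, hmod, ?_⟩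
  set rels := ({FreeGroup.of (0 : Fin 2) ^ n, FreeGroup.of (1 : Fin 2) ^ m,
      (FreeGroup.of (0 : Fin 2))⁻¹ * FreeGroup.of 1 * FreeGroup.of 0 * (FreeGroup.of (1 : Fin 2) ^ r)⁻¹} :
      Set (FreeGroup (Fin 2))) with hrels
  let φ : PresentedGroup rels →* G := PresentedGroup.toGroup (f := ![x, y]) (by
    intro w hw
    rcases hw with rfl | rfl | rfl
    · simp [hndef, pow_orderOf_eq_one]
    · simp [hmdef, pow_orderOf_eq_one]
    · simp [hr])
  set X : PresentedGroup rels := PresentedGroup.of 0 with hX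
  set Y : PresentedGroup rels := PresentedGroup.of 1 with hY
  have hrel : ∀ w ∈ rels, PresentedGroup.mk rels w = 1 := fun w hw =>
    (PresentedGroup.mk_eq_one_iff).2 (Subgroup.subset_normalClosure hw)
  have hXn : X ^ n = 1 := (map_pow _ _ _).symm.trans (hrel _ (Or.inl rfl))
  have hYm : Y ^ m = 1 := (map_pow _ _ _).symm.trans (hrel _ (Or.inr (Or.inl rfl)))
  have hXY : X⁻¹ * Y * X = Y ^ r := mul_inv_eq_one.1 (by
    have h1 := hrel _ (Or.inr (Or.inr rfl))
    simp only [map_mul, map_inv, map_pow] at h1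
    exact h1)
  have hYX : ∀ j : ℕ, Y ^ j * X = X * Y ^ (r * j) := by
    intro j
    have h1 := conj_pow (i := j) (a := X⁻¹) (b := Y)
    rw [inv_inv, hXY, ← pow_mul] at h1
    rw [h1]
    group
  have hform : ∀ g : PresentedGroup rels, ∃ i j : ℕ, g = X ^ i * Y ^ j := by
    intro g
    have hg : g ∈ Subgroup.closure (Set.range (PresentedGroup.of : Fin 2 → PresentedGroup rels)) := by
      rw [PresentedGroup.closure_range_of]; exact mem_top g
    have hXi : X⁻¹ = X ^ (n - 1) := inv_eq_of_mul_eq_one_right (by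
      rw [← pow_succ', Nat.sub_add_cancel (orderOf_pos x : 0 < n), hXn])
    have hYi : Y⁻¹ = Y ^ (m - 1) := inv_eq_of_mul_eq_one_right (by
      rw [← pow_succ', Nat.sub_add_cancel (orderOf_pos y : 0 < m), hYm])
    have hYXk : ∀ k j : ℕ, Y ^ j * X ^ k = X ^ k * Y ^ (r ^ k * j) := by
      intro k
      induction k with
      | zero => intro j; simp
      | succ k ih =>
        intro j
        rw [pow_succ, ← mul_assoc, ih, mul_assoc, hYX, ← mul_assoc, ← mul_assoc, pow_succ']
    refine closure_induction_right ⟨0, 0, by simp⟩ (fun a _ b hb ha => ?_) (fun a _ b hb ha => ?_) hg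
    · obtain ⟨i, j, rfl⟩ := ha
      obtain ⟨t, rfl⟩ := hb
      fin_cases t
      · exact ⟨i + 1, r * j, by show X ^ i * Y ^ j * X = _; rw [mul_assoc, hYX, pow_succ, mul_assoc]⟩
      · exact ⟨i, j + 1, by show X ^ i * Y ^ j * Y = _; rw [mul_assoc, pow_succ]⟩
    · obtain ⟨i, j, rfl⟩ := ha
      obtain ⟨t, rfl⟩ := hb
      fin_cases t
      · exact ⟨i + (n - 1), r ^ (n - 1) * j, by
          show X ^ i * Y ^ j * X⁻¹ = _
          rw [hXi, mul_assoc, hYXk, pow_add, mul_assoc]⟩
      · exact ⟨i, j + (m - 1), by show X ^ i * Y ^ j * Y⁻¹ = _; rw [hYi, mul_assoc, pow_add]⟩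
  let Φ : Fin n × Fin m → PresentedGroup rels := fun ij => X ^ (ij.1 : ℕ) * Y ^ (ij.2 : ℕ)
  have hΦ : Function.Surjective Φ := fun g => by
    obtain ⟨i, j, rfl⟩ := hform g
    exact ⟨(⟨i % n, Nat.mod_lt _ (orderOf_pos x)⟩, ⟨j % m, Nat.mod_lt _ (orderOf_pos y)⟩), by
      show X ^ (i % n) * Y ^ (j % m) = X ^ i * Y ^ j
      rw [← pow_eq_pow_mod i hXn, ← pow_eq_pow_mod j hYm]⟩
  have : Finite (PresentedGroup rels) := Finite.of_surjective Φ hΦ
  have hφ : Function.Surjective φ := by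
    rw [← MonoidHom.range_eq_top, eq_top_iff]
    intro g _
    refine (closure_le φ.range).2 ?_ (hgen g)
    rintro u (rfl | rfl)
    · exact ⟨X, by simp [φ, hX]⟩
    · exact ⟨Y, by simp [φ, hY]⟩
  have hle : Nat.card (PresentedGroup rels) ≤ Nat.card G := by
    refine (Nat.card_le_card_of_surjective Φ hΦ).trans_eq ?_
    rw [Nat.card_prod, Nat.card_fin, Nat.card_fin, hn, hm, ← hC.card_mul_card, mul_comm]
  exact ⟨(MulEquiv.ofBijective φ
    ((Nat.bijective_iff_surjective_and_card φ).2 ⟨hφ, le_antisymm hle (Nat.card_le_card_of_surjective φ hφ)⟩)).symm⟩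

/-- Structure of solvable Frobenius complements. Let G be a finite solvable group that occurs as a Frobenius complement. Then G has a normal subgroup G₀ such that G/G₀ is isomorphic to a subgroup of Sym(4) (G₀ is the kernel of a homomorphism to Sym(4)), all Sylow subgroups of G₀ are cyclic, and G₀ has a presentation ⟨x, y | x^n = 1, y^m = 1, x⁻¹ y x = y^r⟩ with n, m ≥ 1, gcd(r − 1, m) = gcd(n, m) = 1 and r^(n/n′) ≡ 1 (mod m), where n′ is the product of the distinct primes dividing n. -/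
theorem result {G : Type*} [Group G] [Finite G] (hsol : Group.IsSolvable G)
    (hFC : ∃ (L : Type) (_ : Group L) (_ : Finite L) (H : Subgroup L), Cfsg.IsFrobeniusComplement H ∧ Nonempty (G ≃* H)) :
    ∃ G₀ : Subgroup G, G₀.Normal ∧
      (∃ f : G →* Equiv.Perm (Fin 4), f.ker = G₀) ∧
      (∀ (p : ℕ) [Fact p.Prime] (P : Sylow p G₀), IsCyclic P) ∧
      ∃ n m r : ℕ, 0 < n ∧ 0 < m ∧ Nat.Coprime (r - 1) m ∧ Nat.Coprime n m ∧ 1 ≤ r ∧
        r ^ (n / ∏ p ∈ n.primeFactors, p) % m = 1 % m ∧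
        Nonempty (G₀ ≃* PresentedGroup
          ({FreeGroup.of (0 : Fin 2) ^ n, FreeGroup.of (1 : Fin 2) ^ m,
            (FreeGroup.of (0 : Fin 2))⁻¹ * FreeGroup.of 1 * FreeGroup.of 0 * (FreeGroup.of (1 : Fin 2) ^ r)⁻¹} :
            Set (FreeGroup (Fin 2)))) := by
  obtain ⟨V, _, _, _, _, ρ, hρ⟩ := CfsgLib.Icosa.exists_fpf_rep hFC
  obtain ⟨N, hN, hZ, hT⟩ := hρ.exists_six_type
  have hA5 : ¬ Group.IsSolvable (alternatingGroup (Fin 5)) := by
    intro hA
    have : Group.IsSolvable (Equiv.Perm (Fin 5)) :=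
      CfsgLib.InvolChar.A8Normalizer.isSolvable_of_hom Equiv.Perm.sign hA inferInstance
    exact Equiv.Perm.not_isSolvable_fin_5 this
  have hf : ∃ f : G →* Equiv.Perm (Fin 4), f.ker = N := by
    rcases hT with rfl | ⟨f, -, hk⟩ | ⟨f, -, hk⟩ | ⟨f, -, hk⟩ | ⟨f, hs, -⟩ | ⟨f, hs, -⟩
    · exact ⟨1, MonoidHom.ker_one⟩
    · let e : DihedralGroup 2 ≃ Fin 4 := Finite.equivFinOfCardEq DihedralGroup.nat_card
      refine ⟨(e.permCongrHom.toMonoidHom.comp (MulAction.toPermHom (DihedralGroup 2) (DihedralGroup 2))).comp f, ?_⟩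
      rw [← hk, MonoidHom.ker_comp_of_injective]
      exact e.permCongrHom.injective.comp (fun a b hab => by
        simpa using congrArg (fun σ : Equiv.Perm (DihedralGroup 2) => σ 1) hab)
    · refine ⟨(alternatingGroup (Fin 4)).subtype.comp f, ?_⟩
      rw [← hk, MonoidHom.ker_comp_of_injective]
      exact Subgroup.subtype_injective _
    · exact ⟨f, hk⟩
    · exact absurd (Group.isSolvable_of_surjective hs) hA5
    · exact absurd (Group.isSolvable_of_surjective hs) Equiv.Perm.not_isSolvable_fin_5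
  have := hZ
  exact ⟨N, hN, hf, fun p hp P => hZ.isZGroup p hp.out P, presentation (hρ.restrict N) hZ⟩

end Cfsg.Agent.S3358
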