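import Cfsg.Statements.S3361
import Cfsg.Agent.Lib.Recognition.Huppert.Structure
import Cfsg.Agent.Lib.Recognition.Huppert.Regular

set_option autoImplicit false
open Cfsg

namespace Cfsg.Agent.S3361

/-- Let q be a prime and V a non-trivial finite vector space over the field with q elements, and let G be a finite solvable group acting faithfully and linearly on V and regularly on the non-zero vectors (transitively, with only the identity fixing a non-zero vector). Then either V can be identified with the additive group of a finite field F so that every element of G acts as x ↦ a·σ(x) (a ∈ F, σ a field automorphism), or V has 5^2, 7^2, 11^2 or 23^2 elements. Moreover, if q ≠ 2 then G has a normal subgroup of index 2, except that when V has 25 elements G may be isomorphic to SL(2,3) and when V has 121 elements G may be isomorphic to SL(2,3) × C₅. -/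
theorem result
    (q : ℕ) [Fact q.Prime] {V : Type*} [AddCommGroup V] [Module (ZMod q) V] [Finite V] [Nontrivial V]
    {G : Type*} [Group G] [Finite G] (hsol : Group.IsSolvable G)
    (ρ : G →* (V ≃ₗ[ZMod q] V)) (hρ : Function.Injective ρ)
    (htrans : ∀ v w : V, v ≠ 0 → w ≠ 0 → ∃ g : G, ρ g v = w)
    (hreg : ∀ v : V, v ≠ 0 → ∀ g : G, ρ g v = v → g = 1) :
    ((∃ (F : Type) (_ : Field F) (_ : Fintype F) (e : V ≃+ F),
        ∀ g : G, ∃ (a : F) (σ : F ≃+* F), ∀ v : V, e (ρ g v) = a * σ (e v)) ∨
      Nat.card V ∈ ({25, 49, 121, 529} : Set ℕ)) ∧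
    (q ≠ 2 → (∃ N : Subgroup G, N.Normal ∧ N.index = 2) ∨
      (Nat.card V = 25 ∧ Nonempty (G ≃* Matrix.SpecialLinearGroup (Fin 2) (ZMod 3))) ∨
      (Nat.card V = 121 ∧ Nonempty (G ≃* Matrix.SpecialLinearGroup (Fin 2) (ZMod 3) × Multiplicative (ZMod 5)))) := by
  classical
  let θ : G →* (Module.End (ZMod q) V)ˣ :=
    (LinearMap.GeneralLinearGroup.generalLinearEquiv (ZMod q) V).symm.toMonoidHom.comp ρ
  have hθ : ∀ (g : G) (v : V), (θ g : Module.End (ZMod q) V) v = ρ g v := fun _ _ => rfl
  have hinj : Function.Injective θ :=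
    (LinearMap.GeneralLinearGroup.generalLinearEquiv (ZMod q) V).symm.injective.comp hρ
  rcases CfsgLib.Recognition.Huppert.dichotomy θ hsol hinj (fun v w hv hw => by simpa only [hθ] using htrans v w hv hw) with
    ⟨h, h2⟩ | ⟨A, E, hAn, hEn, hAc, hAz, hAE, hEA, hAq, hc, hsq, hrad, hmax, -, h⟩
  · exact ⟨Or.inl (by simpa only [hθ] using h), fun hq2 => Or.inl (h2 hq2)⟩
  haveI := hAn
  haveI := hEn
  haveI : Fact (Nat.Prime 5) := ⟨by norm_num⟩
  -- the order of `G`
  have hGcard : Nat.card G = Nat.card V - 1 := by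
    obtain ⟨v₀, hv₀⟩ := exists_ne (0 : V)
    have hne : ∀ g : G, ρ g v₀ ≠ 0 := fun g h => hv₀ (by simpa using (ρ g).map_eq_zero_iff.1 h)
    have hbij : Function.Bijective (fun g : G => (⟨ρ g v₀, hne g⟩ : {v : V // v ≠ 0})) := by
      refine ⟨fun a b e => ?_, fun v => ?_⟩
      · have e' : ρ a v₀ = ρ b v₀ := congrArg Subtype.val e
        refine (inv_mul_eq_one.1 (hreg v₀ hv₀ (b⁻¹ * a) ?_)).symm
        rw [map_mul, LinearEquiv.mul_apply, e', ← LinearEquiv.mul_apply, ← map_mul, inv_mul_cancel, map_one]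
        rfl
      · obtain ⟨g, hg⟩ := htrans v₀ v hv₀ v.2
        exact ⟨g, Subtype.ext hg⟩
    rw [Nat.card_eq_of_bijective _ hbij]
    haveI := Fintype.ofFinite V
    rw [Nat.card_eq_fintype_card, Fintype.card_subtype_compl (fun v : V => v = 0), Fintype.card_subtype_eq,
      Nat.card_eq_fintype_card]
  have hinv : ∀ x y : G, x ^ 2 = 1 → x ≠ 1 → y ^ 2 = 1 → y ≠ 1 → x = y := by
    have hneg : ∀ x : G, x ^ 2 = 1 → x ≠ 1 → ∀ v, ρ x v = -v := by
      intro x hx hx1 v
      by_contra hne
      refine hx1 (hreg (v + ρ x v) (fun h => hne (eq_neg_of_add_eq_zero_right h)) x ?_)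
      rw [map_add, ← LinearEquiv.mul_apply, ← map_mul, ← pow_two, hx, map_one, add_comm]
      rfl
    intro x y hx hx1 hy hy1
    exact hρ (LinearEquiv.ext fun v => by rw [hneg x hx hx1, hneg y hy hy1])
  have hEcard : Nat.card E = Nat.card A * A.relIndex E := by
    rw [← Subgroup.relIndex_bot_left E, ← Subgroup.relIndex_bot_left A,
      Subgroup.relIndex_mul_relIndex ⊥ A E bot_le hAE]
  have hG := E.card_mul_index
  rw [hEcard, hGcard] at hG
  have hA0 : 0 < Nat.card A := Nat.card_pos
  have hA1 : 1 < Nat.card A := by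
    by_contra h
    obtain ⟨x, hx, hxA⟩ := SetLike.not_le_iff_exists.1 hEA
    have hbot : A = ⊥ := Subgroup.card_eq_one.1 (by omega)
    refine hxA (hrad x hx fun y hy => ?_)
    have := hc (Subgroup.commutator_mem_commutator hx hy)
    rw [hbot, Subgroup.mem_bot] at this
    exact commutatorElement_eq_one_iff_mul_comm.1 this
  have hidx : E.index ≠ 1 := fun h =>
    CfsgLib.Recognition.Huppert.extension_ne_top hAz hc hEA hmax (Subgroup.index_eq_one.1 h)
  rcases h with ⟨hV, h4, ht, hq⟩ | ⟨hV, rfl, h16⟩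
  swap
  · exfalso
    have h2 : Nat.card A = 2 := by have := Nat.le_of_dvd (by norm_num) hAq; omega
    rw [h2, h16, hV] at hG
    omega
  rw [h4, hV] at hG
  have ht' : E.index = 2 ∨ E.index = 3 ∨ E.index = 6 := by
    have key : ∀ t : ℕ, t ∣ 6 → t ≠ 1 → t = 2 ∨ t = 3 ∨ t = 6 := fun t h1 h2 => by
      have := Nat.le_of_dvd (by norm_num) h1
      interval_cases t <;> omega
    exact key _ ht hidx
  have hnor : E.index = 2 ∨ E.index = 6 → ∃ N : Subgroup G, N.Normal ∧ N.index = 2 := by
    rintro (h | h)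
    · exact ⟨E, hEn, h⟩
    · haveI : Fact (Nat.Prime 3) := ⟨Nat.prime_three⟩
      have hQ : Nat.card (G ⧸ E) = 6 := h
      obtain ⟨B, hB⟩ := Sylow.exists_subgroup_card_pow_prime (G := G ⧸ E) (n := 1) 3 (hQ ▸ by norm_num)
      have hBi : B.index = 2 := by
        have h2 := B.card_mul_index
        rw [hB, hQ] at h2
        omega
      haveI : B.Normal := Subgroup.normal_of_index_eq_two hBi
      exact ⟨B.comap (QuotientGroup.mk' E), inferInstance,
        (Subgroup.index_comap_of_surjective B (QuotientGroup.mk'_surjective E)).trans hBi⟩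
  simp only [Set.mem_insert_iff, Set.mem_singleton_iff] at hq ⊢
  have hq3 : q ≠ 3 := by
    rintro rfl
    have h2 : Nat.card A = 2 := by have := Nat.le_of_dvd (by norm_num) hAq; omega
    rw [h2] at hG
    omega
  refine ⟨Or.inr (by rcases hq with rfl | rfl | rfl | rfl | rfl <;> simp_all), fun hq2 => ?_⟩
  rcases ht' with h2 | h3 | h6
  · exact Or.inl (hnor (Or.inl h2))
  swap
  · exact Or.inl (hnor (Or.inr h6))
  rw [h3] at hG
  refine Or.inr ?_
  rcases hq with rfl | rfl | rfl | rfl | rfl
  · exact absurd rfl hq3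
  · -- twenty-five
    have h2 : Nat.card A = 2 * 1 := by omega
    obtain ⟨U, hU, hUc⟩ := CfsgLib.Recognition.Huppert.exists_sl23 hAz hAE hEA hc hsq hrad hmax hinv h4 h3
      (k := 1) odd_one (by norm_num) h2
    have htop : U = ⊤ := Subgroup.eq_top_of_card_eq U (by rw [hUc, hGcard, hV]; norm_num)
    subst htop
    exact Or.inl ⟨hV, hU.map fun e => Subgroup.topEquiv.symm.trans e⟩
  · exfalso
    have := Nat.le_of_dvd (by norm_num) hAq
    revert hAq hG
    generalize Nat.card A = a at *
    intro hAq hG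
    interval_cases a <;> omega
  · -- one hundred and twenty-one
    have h2 : Nat.card A = 2 * 5 := by omega
    obtain ⟨U, ⟨eU⟩, hUc⟩ := CfsgLib.Recognition.Huppert.exists_sl23 hAz hAE hEA hc hsq hrad hmax hinv h4 h3
      (k := 5) (by decide) (by norm_num) h2
    obtain ⟨w, hw⟩ := exists_prime_orderOf_dvd_card' (G := A) 5 (h2 ▸ dvd_mul_left 5 2)
    set C := Subgroup.zpowers (w : G) with hC
    have hCc : C ≤ Subgroup.center G := Subgroup.zpowers_le.2 (hAz w.2)
    have hCcard : Nat.card C = 5 := by rw [hC, Nat.card_zpowers, Subgroup.orderOf_coe, hw]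
    let φ : U × C →* G := MonoidHom.noncommCoprod U.subtype C.subtype
      fun u c => Subgroup.mem_center_iff.1 (hCc c.2) u
    have hφ : Function.Bijective φ := by
      refine (Nat.bijective_iff_injective_and_card φ).2 ⟨?_, ?_⟩
      · rw [injective_iff_map_eq_one]
        rintro ⟨u, c⟩ huc
        have huc' : (u : G) * c = 1 := huc
        have hd : orderOf (c : G) ∣ Nat.gcd 5 24 := Nat.dvd_gcd
          (hCcard ▸ Subgroup.orderOf_dvd_natCard C c.2)
          (hUc ▸ (by rw [← orderOf_inv, ← eq_inv_of_mul_eq_one_left huc']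
                     exact Subgroup.orderOf_dvd_natCard U u.2))
        have hc1 : (c : G) = 1 := orderOf_eq_one_iff.1 (Nat.dvd_one.1 (by simpa using hd))
        rw [hc1, mul_one] at huc'
        exact Prod.ext (Subtype.ext huc') (Subtype.ext hc1)
      · rw [Nat.card_prod, hUc, hCcard, hGcard, hV]
        norm_num
    exact Or.inr ⟨hV, ⟨(MulEquiv.ofBijective φ hφ).symm.trans (eU.prodCongr
      (mulEquivOfPrimeCardEq (p := 5) hCcard (by simp)))⟩⟩
  · exfalso
    have := Nat.le_of_dvd (by norm_num) hAq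
    revert hAq hG
    generalize Nat.card A = a at *
    intro hAq hG
    interval_cases a <;> omega

end Cfsg.Agent.S3361
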