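import Cfsg.Statements.S3362
import Cfsg.Agent.Lib.Golay.PermList

set_option autoImplicit false
open Cfsg

namespace Cfsg.Agent.S3362

open CfsgLib.Golay

/-- The generators as image lists. -/
def gensL : List (List ℕ) :=
  [[0,1,2,4,5,3,7,8,6,10,11,9],
   [0,1,2,6,7,8,9,10,11,3,4,5],
   [0,1,2,3,6,9,5,8,11,4,7,10],
   [0,1,2,3,7,11,10,5,6,8,9,4],
   [0,1,2,3,10,8,11,6,4,7,5,9],
   [3,1,2,0,4,5,7,6,10,11,8,9],
   [1,0,2,3,4,5,9,10,11,6,7,8],
   [0,2,1,3,4,5,11,9,10,7,8,6]]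

/-- Levels: base point, number of generators, transversal words. -/
def lvls : List (ℕ × List ℕ × List (List ℕ)) :=
  [(2, [0,1,2,3,4,5,6,7], [[],[7],[6,7],[5,6,7],[0,5,6,7],[1,5,6,7],[0,0,5,6,7],[1,0,5,6,7],[4,0,5,6,7],[1,1,5,6,7],[4,1,5,6,7],[1,0,0,5,6,7]]),
   (1, [0,1,2,3,4,5,6], [[],[6],[5,6],[0,5,6],[1,5,6],[0,0,5,6],[1,0,5,6],[4,0,5,6],[1,1,5,6],[4,1,5,6],[1,0,0,5,6]]),
   (0, [0,1,2,3,4,5], [[],[5],[0,5],[1,5],[0,0,5],[1,0,5],[4,0,5],[1,1,5],[4,1,5],[1,0,0,5]]),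
   (3, [0,1,2,3,4], [[],[0],[1],[0,0],[1,0],[4,0],[1,1],[4,1],[1,0,0]]),
   (4, [2,3,4], [[],[2],[3],[4],[2,2],[4,2],[2,3],[3,4]])]

/-- The identity list. -/
def idL : List ℕ := List.range 12

/-- The list of a word. -/
def wordL (w : List ℕ) : List ℕ := w.foldr (fun i acc => compL (gensL.getD i idL) acc) idL

/-- `g` is given by the image list `L`. -/
def Rep (g : Equiv.Perm (Fin 12)) (L : List ℕ) : Prop :=
  L.length = 12 ∧ ∀ i : Fin 12, (g i).val = L.getD i.val 0

theorem rep_one : Rep 1 idL := ⟨rfl, fun i => by fin_cases i <;> rfl⟩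

theorem getD_compL (A B : List ℕ) {i : ℕ} (hi : i < B.length) :
    (compL A B).getD i 0 = A.getD (B.getD i 0) 0 := by
  simp [compL, List.getD_eq_getElem?_getD, hi]

theorem rep_mul {g h : Equiv.Perm (Fin 12)} {A B : List ℕ} (hg : Rep g A) (hh : Rep h B) :
    Rep (g * h) (compL A B) := by
  refine ⟨by rw [compL_length]; exact hh.1, fun i => ?_⟩
  have hi : i.val < B.length := by rw [hh.1]; exact i.isLt
  rw [Equiv.Perm.mul_apply, hg.2, hh.2, getD_compL A B hi]

theorem rep_unique {g h : Equiv.Perm (Fin 12)} {L : List ℕ} (hg : Rep g L) (hh : Rep h L) : g = h :=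
  Equiv.ext fun i => Fin.ext (by rw [hg.2, hh.2])

/-- Sifting through transversals given as lists. -/
def sift : List (ℕ × List (List ℕ)) → List ℕ → Bool
  | [], x => x == idL
  | (b, T) :: rest, x =>
    T.any fun t => t.getD b 0 == x.getD b 0 &&
      ((compL (invL t) x).all fun v => decide (v < 12)) && compL t (compL (invL t) x) == x &&
      sift rest (compL (invL t) x)

/-- Transversals of the levels. -/
def trans (k : ℕ) : List (ℕ × List (List ℕ)) := (lvls.drop k).map fun l => (l.1, l.2.2.map wordL)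

theorem step_rep {g tg : Equiv.Perm (Fin 12)} {t x x' : List ℕ} (hg : Rep g x) (ht : Rep tg t)
    (hx' : (x'.all fun v => decide (v < 12)) = true) (he : (compL t x' == x) = true) :
    Rep (tg⁻¹ * g) x' := by
  rw [beq_iff_eq] at he
  have hlen : x'.length = 12 := by rw [← hg.1, ← he, compL_length]
  refine ⟨hlen, fun i => ?_⟩
  have hi : i.val < x'.length := by rw [hlen]; exact i.isLt
  have hv : x'.getD i.val 0 < 12 := by
    rw [List.getD_eq_getElem _ _ hi]
    simpa using List.all_eq_true.1 hx' _ (List.getElem_mem hi)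
  have : g i = tg ⟨x'.getD i.val 0, hv⟩ := Fin.ext (by
    rw [hg.2, ht.2, ← he, getD_compL t x' hi])
  rw [Equiv.Perm.mul_apply, this]
  simp

theorem sift_mem (K : Subgroup (Equiv.Perm (Fin 12))) :
    ∀ (ls : List (ℕ × List (List ℕ))), (∀ l ∈ ls, ∀ t ∈ l.2, ∃ h ∈ K, Rep h t) →
      ∀ g x, Rep g x → sift ls x = true → g ∈ K
  | [], _, g, x, hg, hs => by
    simp only [sift, beq_iff_eq] at hs
    subst hs
    rw [rep_unique hg rep_one]
    exact K.one_mem
  | (b, T) :: rest, hK, g, x, hg, hs => by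
    simp only [sift, List.any_eq_true, Bool.and_eq_true] at hs
    obtain ⟨t, ht, ⟨⟨-, hall⟩, he⟩, hrest⟩ := hs
    obtain ⟨tg, htK, htr⟩ := hK _ List.mem_cons_self t ht
    have := sift_mem K rest (fun l hl => hK l (List.mem_cons_of_mem _ hl)) _ _ (step_rep hg htr hall he) hrest
    simpa using K.mul_mem htK this

theorem sift_cons (K' : Subgroup (Equiv.Perm (Fin 12))) (b : ℕ) (T : List (List ℕ))
    (rest : List (ℕ × List (List ℕ))) (hK : ∀ l ∈ rest, ∀ t ∈ l.2, ∃ h ∈ K', Rep h t)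
    (f : List ℕ → Equiv.Perm (Fin 12)) (hf : ∀ t ∈ T, Rep (f t) t)
    (g : Equiv.Perm (Fin 12)) (x : List ℕ) (hg : Rep g x) (hs : sift ((b, T) :: rest) x = true) :
    ∃ t ∈ T.map f, t⁻¹ * g ∈ K' := by
  simp only [sift, List.any_eq_true, Bool.and_eq_true] at hs
  obtain ⟨t, ht, ⟨⟨-, hall⟩, he⟩, hrest⟩ := hs
  exact ⟨f t, List.mem_map_of_mem ht, sift_mem K' rest hK _ _ (step_rep hg (hf t ht) hall he) hrest⟩

/-- One level: the stabiliser and the order. -/
theorem level (S : Set (Equiv.Perm (Fin 12))) (T : List (Equiv.Perm (Fin 12))) (p : Fin 12)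
    (K' : Subgroup (Equiv.Perm (Fin 12))) (hK' : K' ≤ Subgroup.closure S)
    (hfix : K' ≤ MulAction.stabilizer (Equiv.Perm (Fin 12)) p)
    (hT : ∀ t ∈ T, t ∈ Subgroup.closure S) (hone : (1 : Equiv.Perm (Fin 12)) ∈ T)
    (hnd : (T.map fun t => t p).Nodup)
    (hstep : ∀ g ∈ S, ∀ t ∈ T, ∃ t' ∈ T, t'⁻¹ * (g * t) ∈ K') :
    Subgroup.closure S ⊓ MulAction.stabilizer (Equiv.Perm (Fin 12)) p = K' ∧
      Nat.card (Subgroup.closure S) = T.length * Nat.card K' := by
  have hdec : ∀ k ∈ Subgroup.closure S, ∃ t ∈ T, t⁻¹ * k ∈ K' := by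
    intro k hk
    rw [← Subgroup.mem_toSubmonoid, Subgroup.closure_toSubmonoid_of_finite] at hk
    induction hk using Submonoid.closure_induction_left with
    | one => exact ⟨1, hone, by simp⟩
    | mul_left g hg k _ ih =>
      obtain ⟨t, ht, htk⟩ := ih
      obtain ⟨t', ht', hmem⟩ := hstep g hg t ht
      refine ⟨t', ht', ?_⟩
      have := mul_mem hmem htk
      rwa [show t'⁻¹ * (g * t) * (t⁻¹ * k) = t'⁻¹ * (g * k) by group] at this
  have himg : ∀ k ∈ Subgroup.closure S, ∀ t ∈ T, t⁻¹ * k ∈ K' → k p = t p := by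
    intro k _ t _ h
    have := MulAction.mem_stabilizer_iff.1 (hfix h)
    rw [Equiv.Perm.smul_def, Equiv.Perm.mul_apply, Equiv.Perm.inv_eq_iff_eq] at this
    exact this
  have hst : Subgroup.closure S ⊓ MulAction.stabilizer (Equiv.Perm (Fin 12)) p = K' := by
    refine le_antisymm (fun k hk => ?_) (le_inf hK' hfix)
    obtain ⟨hk1, hk2⟩ := Subgroup.mem_inf.1 hk
    obtain ⟨t, ht, htk⟩ := hdec k hk1
    have e : t p = (1 : Equiv.Perm (Fin 12)) p := by
      rw [← himg k hk1 t ht htk]; exact MulAction.mem_stabilizer_iff.1 hk2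
    have : t = 1 := List.inj_on_of_nodup_map hnd ht hone e
    simpa [this] using htk
  refine ⟨hst, ?_⟩
  rw [card_eq_of_transversal (Subgroup.closure S) p T hT hnd (fun h hh => by
    obtain ⟨t, ht, htk⟩ := hdec h hh
    exact List.mem_map.2 ⟨t, ht, (himg h hh t ht htk).symm⟩), hst]

/-- The kernel check of one level. -/
def levelCheck (k : ℕ) : Bool :=
  match lvls.drop k with
  | [] => true
  | (b, gs, ws) :: _ =>
    gs.all (fun i => decide (i < 8) && (ws.all fun w => sift (trans k) (compL (gensL.getD i idL) (wordL w)))) &&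
      ws.all (fun w => w.all fun i => gs.contains i) && ws.contains [] &&
      decide ((ws.map fun w => (wordL w).getD b 0).Nodup) && decide (b < 12) &&
      ((lvls.drop (k + 1)).all fun l => l.2.1.all fun i => gs.contains i && (gensL.getD i idL).getD b 0 == b) &&
      ((lvls.drop (k + 1)).all fun l => l.2.2.all fun w => w.all fun i => ((lvls.drop (k + 1)).headD (0, [], [])).2.1.contains i)

theorem levels_ok : (List.range 5).all levelCheck = true := by decide +kernel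

/-- An explicit construction of the Mathieu groups of degrees 11 and 12. On the points 0, …, 11 let s = (3 4 5)(6 7 8)(9 10 11), t = (3 6 9)(4 7 10)(5 8 11), u = (4 6 5 9)(7 8 11 10), v = (4 7 5 11)(6 10 9 8), w = (4 10 5 8)(6 11 9 7), x₁ = (0 3)(6 7)(8 10)(9 11), x₂ = (0 1)(6 9)(7 10)(8 11), x₃ = (1 2)(6 11)(7 9)(8 10) (each written as a product of transpositions). Then the group M₁₂ generated by all eight permutations is sharply 5-transitive on the 12 points and has order 95040, and the group M₁₁ generated by the first seven has order 7920 and is the stabilizer of the point 2 in M₁₂. -/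
theorem result
    (s t u v w x₁ x₂ x₃ : Equiv.Perm (Fin 12))
    (hs : s = Equiv.swap (3 : Fin 12) 5 * Equiv.swap (3 : Fin 12) 4 * Equiv.swap (6 : Fin 12) 8 * Equiv.swap (6 : Fin 12) 7 * Equiv.swap (9 : Fin 12) 11 * Equiv.swap (9 : Fin 12) 10) (ht : t = Equiv.swap (3 : Fin 12) 9 * Equiv.swap (3 : Fin 12) 6 * Equiv.swap (4 : Fin 12) 10 * Equiv.swap (4 : Fin 12) 7 * Equiv.swap (5 : Fin 12) 11 * Equiv.swap (5 : Fin 12) 8)
    (hu : u = Equiv.swap (4 : Fin 12) 9 * Equiv.swap (4 : Fin 12) 5 * Equiv.swap (4 : Fin 12) 6 * Equiv.swap (7 : Fin 12) 10 * Equiv.swap (7 : Fin 12) 11 * Equiv.swap (7 : Fin 12) 8) (hv : v = Equiv.swap (4 : Fin 12) 11 * Equiv.swap (4 : Fin 12) 5 * Equiv.swap (4 : Fin 12) 7 * Equiv.swap (6 : Fin 12) 8 * Equiv.swap (6 : Fin 12) 9 * Equiv.swap (6 : Fin 12) 10) (hw : w = Equiv.swap (4 : Fin 12) 8 * Equiv.swap (4 : Fin 12) 5 * Equiv.swap (4 : Fin 12) 10 * Equiv.swap (6 : Fin 12) 7 * Equiv.swap (6 : Fin 12) 9 * Equiv.swap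 (6 : Fin 12) 11)
    (hx₁ : x₁ = Equiv.swap (0 : Fin 12) 3 * Equiv.swap (6 : Fin 12) 7 * Equiv.swap (8 : Fin 12) 10 * Equiv.swap (9 : Fin 12) 11) (hx₂ : x₂ = Equiv.swap (0 : Fin 12) 1 * Equiv.swap (6 : Fin 12) 9 * Equiv.swap (7 : Fin 12) 10 * Equiv.swap (8 : Fin 12) 11)
    (hx₃ : x₃ = Equiv.swap (1 : Fin 12) 2 * Equiv.swap (6 : Fin 12) 11 * Equiv.swap (7 : Fin 12) 9 * Equiv.swap (8 : Fin 12) 10)
    (M₁₂ M₁₁ : Subgroup (Equiv.Perm (Fin 12))) (hM₁₂ : M₁₂ = Subgroup.closure {s, t, u, v, w, x₁, x₂, x₃})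
    (hM₁₁ : M₁₁ = Subgroup.closure {s, t, u, v, w, x₁, x₂}) :
    MulAction.IsMultiplyPretransitive M₁₂ (Fin 12) 5 ∧ (∀ y : Fin 5 ↪ Fin 12, MulAction.stabilizer M₁₂ y = ⊥) ∧
    Nat.card M₁₂ = 95040 ∧ Nat.card M₁₁ = 7920 ∧
    M₁₁ = M₁₂ ⊓ MulAction.stabilizer (Equiv.Perm (Fin 12)) (2 : Fin 12) := by
  classical
  let G : List (Equiv.Perm (Fin 12)) := [s, t, u, v, w, x₁, x₂, x₃]
  have hrep : ∀ i < 8, Rep (G.getD i 1) (gensL.getD i idL) := by
    intro i hi
    subst hs ht hu hv hw hx₁ hx₂ hx₃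
    interval_cases i <;> exact ⟨rfl, by decide +kernel⟩
  let elt : List ℕ → Equiv.Perm (Fin 12) := fun ws => ws.foldr (fun i acc => G.getD i 1 * acc) 1
  have helt : ∀ ws : List ℕ, (∀ i ∈ ws, i < 8) → Rep (elt ws) (wordL ws) := by
    intro ws
    induction ws with
    | nil => exact fun _ => rep_one
    | cons i ws ih =>
      intro h
      exact rep_mul (hrep i (h i List.mem_cons_self)) (ih fun j hj => h j (List.mem_cons_of_mem _ hj))
  let K : ℕ → Subgroup (Equiv.Perm (Fin 12)) := fun k =>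
    Subgroup.closure ((fun i => G.getD i 1) '' {i | i ∈ ((lvls.drop k).headD (0, [], [])).2.1})
  have heltK : ∀ k (ws : List ℕ), (∀ i ∈ ws, i ∈ ((lvls.drop k).headD (0, [], [])).2.1) → elt ws ∈ K k := by
    intro k ws
    induction ws with
    | nil => exact fun _ => one_mem _
    | cons i ws ih =>
      intro h
      exact mul_mem (Subgroup.subset_closure ⟨i, h i List.mem_cons_self, rfl⟩)
        (ih fun j hj => h j (List.mem_cons_of_mem _ hj))
  have hlev : ∀ k, k < 5 → ∀ b gs ws rest (hd : lvls.drop k = (b, gs, ws) :: rest) (hb : b < 12),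
      K k ⊓ MulAction.stabilizer (Equiv.Perm (Fin 12)) (⟨b, hb⟩ : Fin 12) = K (k + 1) ∧
      Nat.card (K k) = ws.length * Nat.card (K (k + 1)) := by
    intro k hk b gs ws rest hd hb
    have hok := List.all_eq_true.1 levels_ok k (List.mem_range.2 hk)
    have hrest : lvls.drop (k + 1) = rest := by
      have h := congrArg List.tail hd
      rwa [List.tail_drop, List.tail_cons] at h
    simp only [levelCheck, hd, hrest, Bool.and_eq_true, List.all_eq_true, List.contains_iff_mem,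
      decide_eq_true_eq, beq_iff_eq] at hok
    obtain ⟨⟨⟨⟨⟨⟨hgs, hws⟩, hone⟩, hnd⟩, -⟩, hsub⟩, hlow⟩ := hok
    have hKk : K k = Subgroup.closure ((fun i => G.getD i 1) '' {i | i ∈ gs}) := by
      simp only [K, hd]; rfl
    have hKk1 : K (k + 1) = Subgroup.closure ((fun i => G.getD i 1) '' {i | i ∈ (rest.headD (0, [], [])).2.1}) := by
      simp only [K, hrest]
    have hsub' : ∀ i ∈ (rest.headD (0, [], [])).2.1, i ∈ gs ∧ (gensL.getD i idL).getD b 0 = b := by
      cases rest with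
      | nil => simp
      | cons l r => exact fun i hi => hsub l List.mem_cons_self i hi
    rw [hKk]
    have hw8 : ∀ x ∈ ws, ∀ i ∈ x, i < 8 := fun x hx i hi => (hgs i (hws x hx i hi)).1
    have hle : K (k + 1) ≤ Subgroup.closure ((fun i => G.getD i 1) '' {i | i ∈ gs}) := by
      rw [hKk1]
      exact Subgroup.closure_mono (Set.image_mono fun i hi => (hsub' i hi).1)
    have hfix : K (k + 1) ≤ MulAction.stabilizer (Equiv.Perm (Fin 12)) (⟨b, hb⟩ : Fin 12) := by
      rw [hKk1, Subgroup.closure_le]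
      rintro _ ⟨i, hi, rfl⟩
      obtain ⟨h1, h2⟩ := hsub' i hi
      refine MulAction.mem_stabilizer_iff.2 (Fin.ext ?_)
      rw [Equiv.Perm.smul_def, (hrep i (hgs i h1).1).2]
      exact h2
    have key := level ((fun i => G.getD i 1) '' {i | i ∈ gs}) (ws.map elt) ⟨b, hb⟩ (K (k + 1)) hle hfix
      (fun z hz => by
        obtain ⟨x, hx', rfl⟩ := List.mem_map.1 hz
        exact hKk ▸ heltK k x (fun i hi => by simp only [hd]; exact hws x hx' i hi))
      (List.mem_map.2 ⟨[], hone, rfl⟩)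
      (by
        rw [List.map_map]
        refine List.Nodup.of_map Fin.val ?_
        rw [List.map_map]
        convert hnd using 1
        exact List.map_congr_left fun x hx => (helt x (hw8 x hx)).2 ⟨b, hb⟩)
      (by
        rintro _ ⟨i, hi, rfl⟩ _ hz
        obtain ⟨x, hx, rfl⟩ := List.mem_map.1 hz
        have hs' := (hgs i hi).2 x hx
        simp only [trans, hd, List.map_cons] at hs'
        obtain ⟨t', ht', hmem⟩ := sift_cons (K (k + 1)) b _ _ (fun l hl y hy => by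
            obtain ⟨l, hl', rfl⟩ := List.mem_map.1 hl
            obtain ⟨y, hy', rfl⟩ := List.mem_map.1 hy
            have hy8 : ∀ i ∈ y, i < 8 := fun j hj => by
              have hj' := hlow l hl' y hy' j hj
              exact (hgs j (hsub' j hj').1).1
            exact ⟨elt y, heltK (k + 1) y (fun j hj => by rw [hrest]; exact hlow l hl' y hy' j hj),
              helt y hy8⟩)
          (fun L => if h : ∃ y ∈ ws, wordL y = L then elt h.choose else 1)
          (fun L hL => by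
            obtain ⟨y, hy, rfl⟩ := List.mem_map.1 hL
            have h : ∃ y' ∈ ws, wordL y' = wordL y := ⟨y, hy, rfl⟩
            rw [dif_pos h]
            have h2 := helt _ (hw8 _ h.choose_spec.1)
            exact Eq.mp (congrArg (Rep (elt h.choose)) h.choose_spec.2) h2)
          _ _ (rep_mul (hrep i (hgs i hi).1) (helt x (hw8 x hx))) hs'
        obtain ⟨L, hL, rfl⟩ := List.mem_map.1 ht'
        obtain ⟨y, hy, rfl⟩ := List.mem_map.1 hL
        have h : ∃ y' ∈ ws, wordL y' = wordL y := ⟨y, hy, rfl⟩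
        rw [dif_pos h] at hmem
        exact ⟨_, List.mem_map.2 ⟨_, h.choose_spec.1, rfl⟩, hmem⟩)
    exact ⟨key.1, by rw [key.2, List.length_map]⟩
  have hK5 : K 5 = ⊥ := by
    rw [Subgroup.eq_bot_iff_forall]
    intro x hx
    have : ((fun i => G.getD i 1) '' {i : ℕ | i ∈ ((lvls.drop 5).headD (0, [], [])).2.1}) = ∅ := by
      simp [lvls]
    simp only [K, this, Subgroup.closure_empty, Subgroup.mem_bot] at hx
    exact hx
  have h0 : M₁₂ = K 0 := by
    rw [hM₁₂]
    refine congrArg Subgroup.closure (Set.ext fun x => ?_)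
    simp [lvls, G, or_and_right, exists_or, eq_comm]
  have h1 : M₁₁ = K 1 := by
    rw [hM₁₁]
    refine congrArg Subgroup.closure (Set.ext fun x => ?_)
    simp [lvls, G, or_and_right, exists_or, eq_comm]
  obtain ⟨s0, c0⟩ := hlev 0 (by norm_num) _ _ _ _ rfl (by norm_num)
  obtain ⟨s1, c1⟩ := hlev 1 (by norm_num) _ _ _ _ rfl (by norm_num)
  obtain ⟨s2, c2⟩ := hlev 2 (by norm_num) _ _ _ _ rfl (by norm_num)
  obtain ⟨s3, c3⟩ := hlev 3 (by norm_num) _ _ _ _ rfl (by norm_num)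
  obtain ⟨s4, c4⟩ := hlev 4 (by norm_num) _ _ _ _ rfl (by norm_num)
  simp only [zero_add, List.length_cons, List.length_nil, Nat.reduceAdd] at s0 s1 s2 s3 s4 c0 c1 c2 c3 c4
  rw [hK5, Subgroup.card_bot] at c4
  have hc12 : Nat.card M₁₂ = 95040 := by rw [h0, c0, c1, c2, c3, c4]
  have hc11 : Nat.card M₁₁ = 7920 := by rw [h1, c1, c2, c3, c4]
  let y0 : Fin 5 ↪ Fin 12 := ⟨![2, 1, 0, 3, 4], by decide⟩
  have hstab0 : MulAction.stabilizer M₁₂ y0 = ⊥ := by
    refine (Subgroup.eq_bot_iff_forall _).2 fun g hg => Subtype.ext ?_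
    have hg' : ∀ i, (g : Equiv.Perm (Fin 12)) (y0 i) = y0 i := fun i =>
      DFunLike.congr_fun (MulAction.mem_stabilizer_iff.1 hg) i
    have g1 : (g : Equiv.Perm (Fin 12)) ∈ K 1 := s0 ▸ Subgroup.mem_inf.2 ⟨h0 ▸ g.2, hg' 0⟩
    have g2 : (g : Equiv.Perm (Fin 12)) ∈ K 2 := s1 ▸ Subgroup.mem_inf.2 ⟨g1, hg' 1⟩
    have g3 : (g : Equiv.Perm (Fin 12)) ∈ K 3 := s2 ▸ Subgroup.mem_inf.2 ⟨g2, hg' 2⟩
    have g4 : (g : Equiv.Perm (Fin 12)) ∈ K 4 := s3 ▸ Subgroup.mem_inf.2 ⟨g3, hg' 3⟩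
    have g5 : (g : Equiv.Perm (Fin 12)) ∈ K 5 := s4 ▸ Subgroup.mem_inf.2 ⟨g4, hg' 4⟩
    rwa [hK5, Subgroup.mem_bot] at g5
  have horb : MulAction.orbit M₁₂ y0 = Set.univ := by
    refine Set.eq_of_subset_of_ncard_le (Set.subset_univ _) (le_of_eq ?_) (Set.toFinite _)
    have h := Subgroup.index_mul_card (MulAction.stabilizer M₁₂ y0)
    rw [hstab0, Subgroup.card_bot, mul_one, hc12] at h
    have hi : (MulAction.stabilizer M₁₂ y0).index = (MulAction.orbit M₁₂ y0).ncard :=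
      MulAction.index_stabilizer _ _
    rw [← hi, hstab0, h, Set.ncard_univ, Nat.card_eq_fintype_card,
      Fintype.card_embedding_eq]
    rfl
  have htr : ∀ y, ∃ g : M₁₂, g • y0 = y := fun y => MulAction.mem_orbit_iff.1 (horb ▸ Set.mem_univ y)
  refine ⟨⟨fun a b => ?_⟩, fun y => ?_, hc12, hc11, ?_⟩
  · obtain ⟨g, rfl⟩ := htr a
    obtain ⟨k, rfl⟩ := htr b
    refine ⟨k * g⁻¹, DFunLike.ext _ _ fun i => ?_⟩
    show ((k * g⁻¹ : M₁₂) : Equiv.Perm (Fin 12)) ((g : Equiv.Perm (Fin 12)) (y0 i)) = (k : Equiv.Perm (Fin 12)) (y0 i)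
    simp
  · obtain ⟨g, rfl⟩ := htr y
    refine (Subgroup.eq_bot_iff_forall _).2 fun a ha => ?_
    have ha' : g⁻¹ * a * g ∈ MulAction.stabilizer M₁₂ y0 := by
      refine MulAction.mem_stabilizer_iff.2 (DFunLike.ext _ _ fun i => ?_)
      have e := DFunLike.congr_fun (MulAction.mem_stabilizer_iff.1 ha) i
      show ((g⁻¹ * a * g : M₁₂) : Equiv.Perm (Fin 12)) (y0 i) = y0 i
      simp only [Subgroup.coe_mul, Equiv.Perm.mul_apply, Subgroup.coe_inv]
      rw [Equiv.Perm.inv_eq_iff_eq]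
      exact e
    rw [hstab0, Subgroup.mem_bot] at ha'
    calc a = g * (g⁻¹ * a * g) * g⁻¹ := by group
      _ = 1 := by rw [ha']; group
  · rw [h1, h0, ← s0]
    rfl

end Cfsg.Agent.S3362
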