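import Cfsg.Statements.S3366
import Cfsg.Agent.Lib.SmallGroups.ShapeThree.Coords

set_option autoImplicit false
open Cfsg
open scoped commutatorElement

namespace Cfsg.Agent.S3366

/-- Let X be a finite group with O₃(X) extraspecial of order 27 and exponent 3, X/O₃(X) isomorphic to SL(2,3), O₂(X) = 1, and a Sylow 3-subgroup of X containing an elementary abelian subgroup of order 27. Then X is isomorphic to the centralizer in PSp(4,3) of a 3-central element of order 3 (an element of order 3 in the centre of a Sylow 3-subgroup). -/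
theorem result {X : Type*} [Group X] [Finite X]
    (hR : Cfsg.IsExtraspecial 3 (Cfsg.pCore 3 X)) (hRcard : Nat.card (Cfsg.pCore 3 X) = 27)
    (hRexp : ∀ r ∈ Cfsg.pCore 3 X, r ^ 3 = 1)
    (e : X ⧸ Cfsg.pCore 3 X ≃* Matrix.SpecialLinearGroup (Fin 2) (ZMod 3))
    (hO2 : Cfsg.pCore 2 X = ⊥)
    (hE : ∃ E : Subgroup X, IsMulCommutative E ∧ (∀ a ∈ E, a ^ 3 = 1) ∧ Nat.card E = 27)
    (F : Type*) [Field F] [Fintype F] (hF : Fintype.card F = 3) :
    ∃ (c : Cfsg.PSp 2 F) (S : Sylow 3 (Cfsg.PSp 2 F)), orderOf c = 3 ∧ c ∈ (S : Subgroup (Cfsg.PSp 2 F)) ∧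
      c ∈ Subgroup.centralizer ((S : Subgroup (Cfsg.PSp 2 F)) : Set (Cfsg.PSp 2 F)) ∧
      Nonempty (X ≃* Subgroup.centralizer ({c} : Set (Cfsg.PSp 2 F))) := by
  obtain ⟨⟨-, -, hcomm⟩, hcen⟩ := hR
  obtain ⟨E, hE1, hE2, hE3⟩ := hE
  set φ : X →* Matrix.SpecialLinearGroup (Fin 2) (ZMod 3) :=
    e.toMonoidHom.comp (QuotientGroup.mk' (Cfsg.pCore 3 X)) with hφ
  have hker : φ.ker = Cfsg.pCore 3 X := by
    ext x
    show e (QuotientGroup.mk x) = 1 ↔ _
    rw [map_eq_one_iff e e.injective, QuotientGroup.eq_one_iff]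
  let S : CfsgLib.SmallGroups.ShapeThree.Shape X :=
    { φ := φ
      surj := e.surjective.comp (QuotientGroup.mk'_surjective _)
      finite := inferInstance
      cardR := by rw [hker, hRcard]
      expR := by rw [hker]; exact hRexp
      cardZ := by
        rw [hker]
        set R := Cfsg.pCore 3 X
        have h : R ⊓ Subgroup.centralizer (R : Set X) = (Subgroup.center R).map R.subtype := by
          ext x
          simp only [Subgroup.mem_inf, Subgroup.mem_map, Subgroup.mem_centralizer_iff]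
          constructor
          · rintro ⟨hx, hc⟩
            exact ⟨⟨x, hx⟩, Subgroup.mem_center_iff.2 fun g => Subtype.ext (hc g g.2), rfl⟩
          · rintro ⟨y, hy, rfl⟩
            exact ⟨y.2, fun g hg => congrArg Subtype.val (Subgroup.mem_center_iff.1 hy ⟨g, hg⟩)⟩
        rw [h, Subgroup.card_map_of_injective (Subgroup.subtype_injective R), hcen]
      commZ := by
        rw [hker]
        intro r hr s hs
        rw [Subgroup.mem_centralizer_iff]
        intro g hg
        have h : ⁅(⟨r, hr⟩ : Cfsg.pCore 3 X), ⟨s, hs⟩⁆ ∈ Subgroup.center (Cfsg.pCore 3 X) := by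
          rw [← hcomm, commutator_def]
          exact Subgroup.commutator_mem_commutator (Subgroup.mem_top _) (Subgroup.mem_top _)
        exact congrArg Subtype.val (Subgroup.mem_center_iff.1 h ⟨g, hg⟩)
      noTwo := fun P hP hP2 => le_bot_iff.1 (hO2 ▸ CfsgLib.Cores.le_pCore hP2)
      E := E
      commE := fun a ha b hb => congrArg Subtype.val (hE1.1.comm ⟨a, ha⟩ ⟨b, hb⟩)
      expE := hE2
      cardE := hE3 }
  have hchar : CharP F 3 := by
    obtain ⟨q, hq⟩ := CharP.exists F
    obtain ⟨n, hq', hn⟩ := FiniteField.card F q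
    rw [hF] at hn
    have hd : q ∣ 3 := hn ▸ dvd_pow_self q n.ne_zero
    rwa [← (Nat.prime_dvd_prime_iff_eq hq' Nat.prime_three).1 hd]
  haveI := hchar
  let ι : ZMod 3 →+* F := ZMod.castHom (dvd_refl 3) F
  obtain ⟨P, hP1, hP2⟩ := CfsgLib.SmallGroups.ShapeThree.exists_sylow_central ι hF
  refine ⟨CfsgLib.SmallGroups.ShapeThree.para ι CfsgLib.SmallGroups.ShapeThree.cT, P,
    CfsgLib.SmallGroups.ShapeThree.orderOf_para_cT ι hF, hP1, hP2, ?_⟩
  let e1 := (Equiv.ofBijective S.θ S.θ_bijective).symm.trans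
    (Equiv.ofBijective _ (CfsgLib.SmallGroups.ShapeThree.bijective_para ι hF))
  refine ⟨MulEquiv.mk' e1 fun x y => ?_⟩
  obtain ⟨x, rfl⟩ := S.θ_bijective.2 x
  obtain ⟨y, rfl⟩ := S.θ_bijective.2 y
  rw [← S.θ_comb]
  apply Subtype.ext
  simp only [e1, Equiv.trans_apply, Equiv.ofBijective_symm_apply_apply, Equiv.ofBijective_apply,
    Subgroup.coe_mul, CfsgLib.SmallGroups.ShapeThree.para_comb]

end Cfsg.Agent.S3366
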