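import Cfsg.Statements.S3370
import Cfsg.Agent.Lib.Recognition.Huppert.Structure
import Cfsg.Agent.Lib.Recognition.Huppert.PrimePowerOrbit
import Cfsg.Agent.Lib.Invol.GLTwoSylow
import Cfsg.Agent.Lib.Solvable.UniqueSubgroup
import Cfsg.Agent.Lib.Invol.QDW.OddCoreSimple

set_option autoImplicit false
open Cfsg

namespace Cfsg.Agent.S3370

/-- Let q be a prime, V a non-trivial finite vector space over the field with q elements, and G a non-trivial finite p-group (p prime) acting faithfully and linearly on V and transitively on the non-zero vectors. Then either q = 2 and G has prime order p = |V| − 1; or p = 2, V has q elements with q = 2^m + 1 and G is cyclic of order 2^m; or p = 2, q = 3, V has 9 elements and G is cyclic of order 8, quaternion of order 8, or semidihedral of order 16. -/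
theorem result (q : ℕ) [Fact q.Prime] {V : Type*} [AddCommGroup V] [Module (ZMod q) V] [Finite V] [Nontrivial V]
    {G : Type*} [Group G] [Finite G] [Nontrivial G] (p : ℕ) [Fact p.Prime] (hG : IsPGroup p G)
    (ρ : G →* (V ≃ₗ[ZMod q] V)) (hρ : Function.Injective ρ)
    (htrans : ∀ v w : V, v ≠ 0 → w ≠ 0 → ∃ g : G, ρ g v = w) :
    (q = 2 ∧ p = Nat.card V - 1 ∧ Nat.card G = p) ∨
    (p = 2 ∧ Nat.card V = q ∧ (∃ m : ℕ, q = 2 ^ m + 1 ∧ Nat.card G = 2 ^ m) ∧ IsCyclic G) ∨
    (p = 2 ∧ q = 3 ∧ Nat.card V = 9 ∧
      ((IsCyclic G ∧ Nat.card G = 8) ∨ Nonempty (G ≃* QuaternionGroup 2) ∨ (Cfsg.IsQuasiDihedral G ∧ Nat.card G = 16))) := by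
  classical
  let θ : G →* (Module.End (ZMod q) V)ˣ :=
    (LinearMap.GeneralLinearGroup.generalLinearEquiv (ZMod q) V).symm.toMonoidHom.comp ρ
  have hθ : ∀ (g : G) (v : V), (θ g : Module.End (ZMod q) V) v = ρ g v := fun _ _ => rfl
  have hinj : Function.Injective θ :=
    (LinearMap.GeneralLinearGroup.generalLinearEquiv (ZMod q) V).symm.injective.comp hρ
  have htr' : ∀ v w : V, v ≠ 0 → w ≠ 0 → ∃ g, (θ g : Module.End (ZMod q) V) v = w :=
    fun v w hv hw => by simpa only [hθ] using htrans v w hv hw
  haveI : Group.IsNilpotent G := hG.isNilpotent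
  obtain ⟨K, hK⟩ := IsPGroup.iff_card.1 hG
  have hq := (Fact.out : q.Prime)
  have hp := (Fact.out : p.Prime)
  have hK1 : 1 ≤ K := by
    by_contra h
    have := Finite.one_lt_card (α := G)
    rw [hK, show K = 0 by omega, pow_zero] at this
    omega
  obtain ⟨n, hn⟩ : ∃ n, Nat.card V = q ^ n :=
    ⟨Module.finrank (ZMod q) V, by rw [Module.natCard_eq_pow_finrank (K := ZMod q) (V := V), Nat.card_zmod]⟩
  have hn1 : 1 ≤ n := by
    by_contra h
    have := Finite.one_lt_card (α := V)
    rw [hn, show n = 0 by omega, pow_zero] at this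
    omega
  have horb : q ^ n - 1 ∣ p ^ K := by
    rw [← hn, ← hK]; exact CfsgLib.Recognition.Huppert.card_nonzero_dvd θ htr'
  obtain ⟨k, hkK, hk⟩ := (Nat.dvd_prime_pow hp).1 horb
  by_cases hq2 : q = 2
  · subst hq2
    refine Or.inl ⟨rfl, ?_⟩
    rcases Nat.eq_zero_or_pos k with rfl | hkpos
    · -- two points
      exfalso
      rw [pow_zero] at hk
      have hn1' : n = 1 := by
        have h2 : 2 ^ n = 2 ^ 1 := by have := Nat.one_le_two_pow (n := n); omega
        exact Nat.pow_right_injective le_rfl h2
      obtain ⟨g, hg⟩ := exists_ne (1 : G)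
      refine hg (hρ (LinearEquiv.ext fun v => ?_))
      rw [map_one]
      change ρ g v = v
      by_cases hv : v = 0
      · rw [hv, map_zero]
      · have hcard : Nat.card {w : V // w ≠ 0} = 1 := by
          haveI := Fintype.ofFinite V
          rw [Nat.card_eq_fintype_card, Fintype.card_subtype_compl (fun w : V => w = 0),
            Fintype.card_subtype_eq, ← Nat.card_eq_fintype_card, hn, hn1']
          norm_num
        have := (Nat.card_eq_one_iff_unique.1 hcard).1.elim
          (⟨ρ g v, fun h => hv ((ρ g).map_eq_zero_iff.1 h)⟩ : {w : V // w ≠ 0}) ⟨v, hv⟩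
        exact congrArg Subtype.val this
    have hk1 := CfsgLib.Recognition.Huppert.eq_one_of_two_pow_sub_one hp hkpos hk
    rw [hk1, pow_one] at hk
    refine ⟨by rw [hn, hk], ?_⟩
    have hnp : n < p := by
      have h1 := Nat.lt_two_pow_self (n := n)
      rcases (by omega : n < p ∨ n = p) with h | h
      · exact h
      · exfalso
        have h2 : n = 1 := by
          have hge : ∀ j, 2 ≤ j → j + 1 < 2 ^ j := by
            intro j hj
            induction j, hj using Nat.le_induction with
            | base => norm_num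
            | succ j hj ih => rw [pow_succ]; omega
          by_contra hne
          have := hge n (by omega)
          omega
        have := hp.two_le
        omega
    rcases CfsgLib.Recognition.Huppert.dichotomy θ inferInstance hinj htr' with ⟨hsemi, -⟩ | ⟨A, E, -, -, -, -, -, -, -, -, -, -, -, -, h⟩
    · obtain ⟨F, hF, hFf, e, he⟩ := hsemi
      haveI : CharP F 2 := by
        refine (CharP.charP_iff_prime_eq_zero Nat.prime_two).2 ?_
        obtain ⟨v, hv⟩ : ∃ v, e v = 1 := ⟨e.symm 1, e.apply_symm_apply 1⟩
        have h0 : e v + e v = 0 := by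
          rw [← map_add, ← two_smul (ZMod 2) v, show (2 : ZMod 2) = 0 from rfl, zero_smul, map_zero]
        rw [hv] at h0
        push_cast
        rw [← one_add_one_eq_two]; exact h0
      letI := ZMod.algebra F 2
      have hFcard : Nat.card F = 2 ^ n := by rw [← Nat.card_congr e.toEquiv, hn]
      choose a σ hσ using fun g => he g
      -- an embedding into pairs
      have hinjmap : Function.Injective (fun g : G => ((⟨a g, fun h => by
          obtain ⟨v, hv⟩ := exists_ne (0 : V)
          have h1 := hσ g v
          rw [h, zero_mul, ← map_zero e] at h1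
          exact hv (by
            have h2 := e.injective h1
            rw [hθ] at h2
            exact (ρ g).map_eq_zero_iff.1 h2)⟩ : {x : F // x ≠ 0}),
          AlgEquiv.ofRingEquiv (R := ZMod 2) (f := σ g) (fun r => by
            rw [← RingEquiv.coe_toRingHom, ← RingHom.comp_apply]
            exact congrFun (congrArg DFunLike.coe (Subsingleton.elim ((σ g).toRingHom.comp (algebraMap (ZMod 2) F)) (algebraMap (ZMod 2) F))) r))) := by
        intro g h hgh
        simp only [Prod.mk.injEq, Subtype.mk.injEq] at hgh
        refine hρ (LinearEquiv.ext fun v => e.injective ?_)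
        rw [← hθ, ← hθ, hσ g, hσ h, hgh.1]
        exact congrArg (a h * ·) (AlgEquiv.congr_fun hgh.2 (e v))
      haveI := Fintype.ofFinite F
      have hle := Nat.card_le_card_of_injective _ hinjmap
      rw [Nat.card_prod, IsGalois.card_aut_eq_finrank] at hle
      have hfr : Module.finrank (ZMod 2) F = n := by
        have h3 := Module.natCard_eq_pow_finrank (K := ZMod 2) (V := F)
        rw [Nat.card_zmod, hFcard] at h3
        exact (Nat.pow_right_injective le_rfl h3).symm
      rw [hfr, Nat.card_eq_fintype_card (α := {x : F // x ≠ 0}), Fintype.card_subtype_compl (fun x : F => x = 0),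
        Fintype.card_subtype_eq, ← Nat.card_eq_fintype_card, hFcard, hk, hK] at hle
      have hlt : p * n < p * p := Nat.mul_lt_mul_of_pos_left hnp hp.pos
      rw [hK]
      have hK2 : K < 2 := by
        by_contra hK2
        have := Nat.pow_le_pow_right hp.pos (not_lt.1 hK2)
        rw [pow_two] at this
        omega
      rw [show K = 1 by omega, pow_one]
    · exfalso
      rcases h with ⟨-, -, -, h5⟩ | ⟨-, h5, -⟩
      · simp at h5
      · omega
  have hodd : Odd q := hq.odd_of_ne_two hq2
  have hp2 : p = 2 := by
    have h2 : 2 ∣ p ^ K := (even_iff_two_dvd.1 (Nat.Odd.sub_odd hodd.pow odd_one)).trans horb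
    exact ((Nat.prime_dvd_prime_iff_eq Nat.prime_two hp).1 (Nat.prime_two.dvd_of_dvd_pow h2)).symm
  subst hp2
  rcases CfsgLib.Recognition.Huppert.eq_one_or_nine hq hn1 hk with rfl | ⟨rfl, rfl, rfl⟩
  · -- the line
    refine Or.inr (Or.inl ⟨rfl, by rw [hn, pow_one], ?_⟩)
    rw [pow_one] at hn hk
    obtain ⟨v₀, hv₀⟩ := exists_ne (0 : V)
    have hspan : ∀ v : V, ∃ c : ZMod q, c • v₀ = v := by
      have hbij : Function.Bijective (fun c : ZMod q => c • v₀) := by
        refine (Nat.bijective_iff_injective_and_card _).2 ⟨fun a b h => ?_, by rw [Nat.card_zmod, hn]⟩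
        have h' : a • v₀ = b • v₀ := h
        rw [← sub_eq_zero, ← sub_smul, smul_eq_zero] at h'
        exact sub_eq_zero.1 (h'.resolve_right hv₀)
      exact hbij.2
    choose c hc using fun g : G => hspan (ρ g v₀)
    have hext : ∀ g h : G, c g = c h → g = h := fun g h e => hρ (LinearEquiv.ext fun v => by
      obtain ⟨t, rfl⟩ := hspan v
      rw [map_smul, map_smul, ← hc g, ← hc h, e])
    let f : G →* ZMod q :=
      { toFun := c
        map_one' := smul_left_injective (ZMod q) hv₀ (by
          change c 1 • v₀ = (1 : ZMod q) • v₀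
          rw [hc, map_one, one_smul]
          rfl)
        map_mul' := fun g h => smul_left_injective (ZMod q) hv₀ (by
          change c (g * h) • v₀ = (c g * c h) • v₀
          rw [hc, map_mul, LinearEquiv.mul_apply, ← hc h, map_smul, ← hc g, smul_smul, mul_comm]) }
    have hcyc : IsCyclic G := isCyclic_of_injective f.toHomUnits fun g h e =>
      hext g h (congrArg Units.val e)
    have hcardle : Nat.card G ≤ q - 1 := by
      have h1 := Nat.card_le_card_of_injective (f.toHomUnits)
        (fun g h e => hext g h (congrArg Units.val e))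
      rwa [Nat.card_eq_fintype_card (α := (ZMod q)ˣ), ZMod.card_units] at h1
    refine ⟨⟨k, by have := hq.two_le; omega, ?_⟩, hcyc⟩
    have hge := Nat.pow_le_pow_right (show 0 < 2 by norm_num) hkK
    omega
  · -- the nine point plane
    refine Or.inr (Or.inr ⟨rfl, rfl, by rw [hn]; norm_num, ?_⟩)
    have hfr : Module.finrank (ZMod 3) V = 2 := by
      have h := Module.natCard_eq_pow_finrank (K := ZMod 3) (V := V)
      rw [Nat.card_zmod, hn] at h
      exact (Nat.pow_right_injective (by norm_num : 2 ≤ 3) h).symm
    let b := Module.finBasisOfFinrankEq (ZMod 3) V hfr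
    let μ : G →* GL (Fin 2) (ZMod 3) :=
      (Units.map (LinearMap.toMatrixAlgEquiv b).toMonoidHom).comp θ
    have hμ : Function.Injective μ :=
      (Units.map_injective (LinearMap.toMatrixAlgEquiv b).injective).comp hinj
    have h48 : Nat.card (GL (Fin 2) (ZMod 3)) = 48 := by
      rw [Matrix.card_GL_field, Fin.prod_univ_two, ZMod.card]; norm_num
    have hd := Subgroup.card_dvd_of_injective μ hμ
    rw [hK, h48] at hd
    have hK4 : K ≤ 4 := by
      by_contra h
      have h32 : 2 ^ 5 ∣ 48 := (pow_dvd_pow 2 (by omega : 5 ≤ K)).trans hd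
      norm_num at h32
    rcases (by omega : K = 3 ∨ K = 4) with rfl | rfl
    · have h8 : Nat.card G = 8 := by rw [hK]; norm_num
      have hfree : ∀ v : V, v ≠ 0 → ∀ g : G, ρ g v = v → g = 1 := by
        intro v hv g hg
        have hbij : Function.Bijective (fun g : G => (⟨ρ g v, fun h => hv ((ρ g).map_eq_zero_iff.1 h)⟩ : {w : V // w ≠ 0})) := by
          refine (Nat.bijective_iff_surjective_and_card _).2 ⟨fun w => ?_, ?_⟩
          · obtain ⟨g, hg⟩ := htrans v w hv w.2
            exact ⟨g, Subtype.ext hg⟩
          · haveI := Fintype.ofFinite V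
            rw [h8, Nat.card_eq_fintype_card, Fintype.card_subtype_compl (fun w : V => w = 0),
              Fintype.card_subtype_eq, ← Nat.card_eq_fintype_card, hn]
            norm_num
        exact hbij.1 (Subtype.ext (by simpa using hg))
      have hneg : ∀ x : G, orderOf x = 2 → ∀ v, ρ x v = -v := by
        intro x hx v
        by_contra hne
        have hx2 : x ^ 2 = 1 := hx ▸ pow_orderOf_eq_one x
        have h1 := hfree (v + ρ x v) (fun h => hne (eq_neg_of_add_eq_zero_right h)) x (by
          rw [map_add, ← LinearEquiv.mul_apply, ← map_mul, ← pow_two, hx2, map_one, add_comm]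
          rfl)
        rw [h1, orderOf_one] at hx
        omega
      rcases CfsgLib.Solvable.isCyclic_or_quaternion hG (fun x y hx hy => by
        have : x = y := hρ (LinearEquiv.ext fun v => by rw [hneg x hx, hneg y hy])
        rw [this]; exact Subgroup.mem_zpowers y) with hc | ⟨-, j, ⟨e⟩⟩
      · exact Or.inl ⟨hc, h8⟩
      · refine Or.inr (Or.inl ?_)
        have hcard := Nat.card_congr e.toEquiv
        haveI : NeZero (2 ^ j) := ⟨pow_ne_zero _ two_ne_zero⟩
        rw [h8, Nat.card_eq_fintype_card, QuaternionGroup.card] at hcard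
        have hj2 : 2 ^ j = 2 := by omega
        rw [hj2] at e
        exact ⟨e⟩
    · refine Or.inr (Or.inr ⟨?_, by rw [hK]; norm_num⟩)
      haveI : Fact (Nat.Prime 2) := ⟨Nat.prime_two⟩
      have h16 : Nat.card μ.range = 16 := by
        rw [← Nat.card_congr (MonoidHom.ofInjective hμ).toEquiv, hK]; norm_num
      let P : Sylow 2 (GL (Fin 2) (ZMod 3)) := Sylow.ofCard μ.range (by
        have h4 : (2 ^ 4 * 3 : ℕ).factorization 2 = 4 := by
          rw [Nat.factorization_mul (by norm_num) (by norm_num), Nat.prime_two.factorization_pow,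
            Nat.prime_three.factorization]
          simp
        rw [h16, h48, show (48 : ℕ) = 2 ^ 4 * 3 by norm_num, h4]
        norm_num)
      have hP := CfsgLib.Invol.GLTwo.gl_quasiDihedral P (by rw [ZMod.card])
      exact CfsgLib.Invol.QDW.isQuasiDihedral_congr
        ((MulEquiv.subgroupCongr (Sylow.coe_ofCard _ _)).trans (MonoidHom.ofInjective hμ).symm) hP

end Cfsg.Agent.S3370
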