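import Cfsg.Statements.S3371
import Cfsg.Agent.Lib.Techniques.HalfTrans.Maximal

set_option autoImplicit false
open Cfsg

namespace Cfsg.Agent.S3371

/-- Let q be a prime, V a non-trivial finite vector space over the field with q elements, and G a finite p-group (p prime) acting faithfully and linearly on V such that all G-orbits on the non-zero vectors have the same size. Then one of the following holds: G is cyclic or generalized quaternion and acts semiregularly on the non-zero vectors; or V has q² elements with q = 2^m − 1 and G is dihedral of order 2^(m+1) or semidihedral of order 2^(m+2); or V has q² elements with q = 2^m + 1 and, in suitable coordinates V = F_q², G is exactly the group of maps (x, y) ↦ (a x, ± a⁻¹ y) and (x, y) ↦ (± a⁻¹ y, a x) with a ≠ 0; or V has 81 elements (q = 3) and G is a 2-group. -/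
theorem result (q : ℕ) [Fact q.Prime] {V : Type*} [AddCommGroup V] [Module (ZMod q) V] [Finite V] [Nontrivial V]
    {G : Type*} [Group G] [Finite G] (p : ℕ) [Fact p.Prime] (hG : IsPGroup p G)
    (ρ : G →* (V ≃ₗ[ZMod q] V)) (hρ : Function.Injective ρ)
    (hhalf : ∀ v w : V, v ≠ 0 → w ≠ 0 → Nat.card {u : V | ∃ g : G, ρ g v = u} = Nat.card {u : V | ∃ g : G, ρ g w = u}) :
    ((IsCyclic G ∨ ∃ n : ℕ, Nonempty (G ≃* QuaternionGroup n)) ∧ ∀ v : V, v ≠ 0 → ∀ g : G, ρ g v = v → g = 1) ∨
    (Nat.card V = q ^ 2 ∧ ∃ m : ℕ, q = 2 ^ m - 1 ∧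
      (Nonempty (G ≃* DihedralGroup (2 ^ m)) ∨ (Cfsg.IsQuasiDihedral G ∧ Nat.card G = 2 ^ (m + 2)))) ∨
    (Nat.card V = q ^ 2 ∧ (∃ m : ℕ, q = 2 ^ m + 1) ∧
      ∃ e : V ≃ₗ[ZMod q] (Fin 2 → ZMod q), ∀ f : (Fin 2 → ZMod q) ≃ₗ[ZMod q] (Fin 2 → ZMod q),
        (∃ g : G, f = e.symm.trans ((ρ g).trans e)) ↔
        ∃ a s : ZMod q, a ≠ 0 ∧ (s = 1 ∨ s = -1) ∧
          ((∀ v, f v = ![a * v 0, s * a⁻¹ * v 1]) ∨ (∀ v, f v = ![s * a⁻¹ * v 1, a * v 0]))) ∨
    (Nat.card V = 81 ∧ q = 3 ∧ p = 2) := by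
  classical
  open CfsgLib.HalfTransP in
  rcases eq_or_ne p q with rfl | hpq
  · -- unipotent: a common fixed vector
    left
    letI : MulAction G V := MulAction.compHom V ρ
    obtain ⟨b, hb, hb0⟩ := hG.exists_fixed_point_of_prime_dvd_card_of_fixed_point V
      (a := (0 : V)) (by
        rw [Module.natCard_eq_pow_finrank (K := ZMod p), Nat.card_zmod]
        exact dvd_pow_self p (Module.finrank_pos (R := ZMod p) (M := V)).ne') (fun g => map_zero (ρ g))
    have hb1 : Nat.card {u : V | ∃ g : G, ρ g b = u} = 1 := by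
      have hset : {u : V | ∃ g : G, ρ g b = u} = {b} := by
        ext u
        exact ⟨fun ⟨g, hg⟩ => hg.symm.trans (hb g), fun hu => ⟨1, (hu : u = b).symm ▸ hb 1⟩⟩
      rw [hset]
      simp
    have hall : ∀ g : G, g = 1 := fun g => hρ (by
      rw [map_one]
      refine LinearEquiv.ext fun v => ?_
      show ρ g v = v
      by_cases hv : v = 0
      · rw [hv, map_zero]
      · have h1 := (hhalf v b hv hb0.symm).trans hb1
        obtain ⟨hsub, -⟩ := Nat.card_eq_one_iff_unique.1 h1
        exact congrArg Subtype.val (Subsingleton.elim (⟨ρ g v, g, rfl⟩ : {u : V | ∃ g : G, ρ g v = u})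
          ⟨v, 1, act_one ρ v⟩))
    haveI : Subsingleton G := ⟨fun x y => (hall x).trans (hall y).symm⟩
    exact ⟨Or.inl isCyclic_of_subsingleton, fun v _ g _ => hall g⟩
  open CfsgLib.HalfTransP in
  by_cases hs : ∀ v : V, v ≠ 0 → stab ρ v = ⊥
  · exact Or.inl ⟨semiregular_case hpq hG hs, fun v hv g hg => Subgroup.mem_bot.1 ((hs v hv).le hg)⟩
  push Not at hs
  obtain ⟨v1, hv1, hst⟩ := hs
  open CfsgLib.HalfTransP in
  have hh : Half ρ := ⟨hρ, card_stab_eq hhalf, fun v hv hbot => hst (Subgroup.eq_bot_of_card_eq _ (by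
    rw [card_stab_eq hhalf v1 v hv1 hv, hbot, Subgroup.card_bot]))⟩
  obtain ⟨g1, hg1, hg11⟩ := (Subgroup.bot_or_exists_ne_one _).resolve_left hst
  haveI : Nontrivial G := ⟨⟨g1, 1, hg11⟩⟩
  obtain ⟨z, hzo, hzc⟩ := CfsgLib.HalfTransP.exists_center_order hG
  have hz := hh.central hpq hzo hzc
  right
  by_cases hcyc : ∀ A : Subgroup G, A.Normal → IsMulCommutative A → IsCyclic A
  swap
  · push Not at hcyc
    obtain ⟨A, hAn, hA, hAc⟩ := hcyc
    obtain ⟨e, he⟩ := CfsgLib.HalfTransP.exists_plane hG hzo hzc hAn hA hAc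
    rcases eq_or_ne p 2 with rfl | hp2
    · rcases he.two_case hG hz hh hpq.symm with ⟨h81, h3⟩ | h
      · exact Or.inr (Or.inr ⟨h81, h3, rfl⟩)
      · exact Or.inr (Or.inl h)
    · exact (he.false_of_odd hz hh hpq hp2).elim
  left
  -- a noncyclic abelian subgroup
  have hB : ∃ B : Subgroup G, IsMulCommutative B ∧ ¬ IsCyclic B := by
    obtain ⟨w, hwst, hw⟩ : ∃ w ∈ CfsgLib.HalfTransP.stab ρ v1, orderOf w = p :=
      CfsgLib.PGroup.exists_orderOf_eq hG hst
    have hwp : w ^ p = 1 := by rw [← hw, pow_orderOf_eq_one]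
    have hwz : w ∉ Subgroup.zpowers z := fun h => hv1 (hz.pow_free h (fun e => (Fact.out : p.Prime).ne_one (by
      rw [← hw, e, orderOf_one])) hwst)
    refine ⟨Subgroup.closure {w, z}, Subgroup.isMulCommutative_closure (by
      rintro x (rfl | rfl) y (rfl | rfl)
      · rfl
      · exact hzc x
      · exact (hzc y).symm
      · rfl), fun hc => ?_⟩
    set B := Subgroup.closure ({w, z} : Set G)
    have hwB : w ∈ B := Subgroup.subset_closure (Or.inl rfl)
    have hzB : z ∈ B := Subgroup.subset_closure (Or.inr rfl)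
    haveI := hc
    haveI : Fintype B := Fintype.ofFinite B
    have hle := IsCyclic.card_pow_eq_one_le (α := B) (n := p) (Fact.out : p.Prime).pos
    let U : Finset B := Finset.univ.filter fun b => b ^ p = 1
    have hsub : insert (⟨w, hwB⟩ : B) (Finset.univ.filter fun b : B => (b : G) ∈ Subgroup.zpowers z) ⊆ U := by
      intro b hb
      rw [Finset.mem_insert, Finset.mem_filter] at hb
      refine Finset.mem_filter.2 ⟨Finset.mem_univ _, Subtype.ext ?_⟩
      rcases hb with rfl | ⟨-, i, hi⟩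
      · exact hwp
      · show (b : G) ^ p = 1
        rw [← hi]
        show (z ^ i) ^ p = 1
        rw [← zpow_natCast, ← zpow_mul, mul_comm, zpow_mul, zpow_natCast, ← hzo, pow_orderOf_eq_one, one_zpow]
    have hzc' : (Finset.univ.filter fun b : B => (b : G) ∈ Subgroup.zpowers z).card = p := by
      rw [← Fintype.card_subtype, ← Nat.card_eq_fintype_card,
        show (Nat.card {b : B // (b : G) ∈ Subgroup.zpowers z}) = Nat.card (Subgroup.zpowers z) from
          Nat.card_congr (Subgroup.subgroupOfEquivOfLe (Subgroup.zpowers_le.2 hzB)).toEquiv, Nat.card_zpowers, hzo]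
    have := (Finset.card_le_card hsub).trans hle
    have hni : (⟨w, hwB⟩ : B) ∉ Finset.univ.filter fun b : B => (b : G) ∈ Subgroup.zpowers z :=
      fun h => hwz (Finset.mem_filter.1 h).2
    rw [Finset.card_insert_of_notMem hni, hzc'] at this
    omega
  obtain ⟨rfl, hgood, -⟩ := CfsgLib.PGroup.NormalRankOne.good hG hcyc hB
  have hq2 : q ≠ 2 := hpq.symm
  rcases CfsgLib.PGroup.RankTwo.classify hgood hG with ⟨k, ⟨e⟩⟩ | ⟨k, hcard, a, b, ha, hb, hab⟩ | ⟨k, ⟨e⟩⟩
  · have hsr : ∀ i : ℤ, (DihedralGroup.r 1 : DihedralGroup (2 ^ (k + 2))) ^ i ≠ DihedralGroup.sr 0 := fun i => by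
      simp
    obtain ⟨hV, hq, -⟩ := CfsgLib.HalfTransP.maximal_case hh hq2
      (a := e.symm (DihedralGroup.r 1)) (s := e.symm (DihedralGroup.sr 0)) (m := k) (r := -1)
      (by rw [MulEquiv.orderOf_eq, DihedralGroup.orderOf_r_one])
      (by rw [Nat.card_congr e.toEquiv, DihedralGroup.nat_card]; ring)
      (fun h => by
        obtain ⟨i, hi⟩ := h
        exact hsr i (e.symm.injective ((map_zpow e.symm _ i).trans hi)))
      (by rw [← map_mul, DihedralGroup.sr_mul_self, map_one])
      (by rw [← map_mul, ← map_inv, ← map_mul, ← map_zpow, zpow_neg_one]; congr 1; simp)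
      (Or.inl rfl)
    have := hq rfl
    exact ⟨hV, k + 2, by omega, Or.inl ⟨e⟩⟩
  · have hk : (1 : ℕ) ≤ 2 ^ (k + 2) := Nat.one_le_two_pow
    have hbr : b * a * b⁻¹ = a ^ ((2 : ℤ) ^ (k + 1 + 1) - 1) := by
      rw [hab, ← zpow_natCast, Nat.cast_sub hk]
      push_cast
      rfl
    have hbA : b ∉ Subgroup.zpowers a := by
      rintro ⟨i, hi⟩
      have h1 : b * a * b⁻¹ = a := by
        rw [← show a ^ i = b from hi]; group
      rw [hab] at h1
      nth_rewrite 2 [← pow_one a] at h1
      rw [pow_eq_pow_iff_modEq, ha] at h1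
      have h8 : 4 ≤ 2 ^ (k + 2) := by
        rw [pow_add]; have := Nat.one_le_two_pow (n := k); omega
      have h2 : 2 ^ (k + 3) = 2 * 2 ^ (k + 2) := by ring
      rw [Nat.ModEq, Nat.mod_eq_of_lt (by omega), Nat.mod_eq_of_lt (by omega)] at h1
      omega
    obtain ⟨hV, -, hq⟩ := CfsgLib.HalfTransP.maximal_case hh hq2 (a := a) (s := b) (m := k + 1)
      (r := (2 : ℤ) ^ (k + 1 + 1) - 1) (by rw [ha]) (by rw [hcard]) hbA
      (by rw [← sq, ← hb, pow_orderOf_eq_one]) hbr (Or.inr ⟨by omega, rfl⟩)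
    have h4 : (1 : ℤ) < 2 ^ (k + 1 + 1) := one_lt_pow₀ (by norm_num) (by omega)
    have := hq (by omega)
    refine ⟨hV, k + 2, by rw [show k + 1 + 1 = k + 2 by omega] at this; omega, Or.inr ⟨?_, hcard⟩⟩
    refine ⟨k + 3, by omega, hcard, a, b, ha, hb, ?_⟩
    rw [hab]
    rfl
  · exfalso
    obtain ⟨w, hwst, hw⟩ := CfsgLib.PGroup.exists_orderOf_eq hG hst
    have hwc : ∀ g : G, Commute g w := by
      have key : ∀ (N : ℕ) [NeZero N] (x : QuaternionGroup N), x * x = 1 → ∀ y, Commute y x := by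
        intro N _ x hx y
        rcases x with i | i
        · rw [QuaternionGroup.a_mul_a, ← QuaternionGroup.a_zero] at hx
          have hii : i + i = 0 := QuaternionGroup.a.inj hx
          rcases y with j | j
          · show _ * _ = _ * _
            rw [QuaternionGroup.a_mul_a, QuaternionGroup.a_mul_a, add_comm]
          · show _ * _ = _ * _
            rw [QuaternionGroup.xa_mul_a, QuaternionGroup.a_mul_xa,
              show j - i = j + i by rw [sub_eq_add_neg, neg_eq_of_add_eq_zero_left hii]]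
        · exfalso
          have := QuaternionGroup.orderOf_xa i
          have h2 : orderOf (QuaternionGroup.xa i) ∣ 2 := orderOf_dvd_of_pow_eq_one (by rw [sq, hx])
          rw [this] at h2
          norm_num at h2
      intro g
      have hw2 : w * w = 1 := by
        have h := pow_orderOf_eq_one w
        rwa [hw, sq] at h
      have h := key _ (e w) (by rw [← map_mul, hw2, map_one]) (e g)
      exact e.injective (by rw [map_mul, map_mul, h.eq])
    exact hv1 ((hh.central hpq hw hwc).free v1 hwst)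

end Cfsg.Agent.S3371
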