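import Cfsg.Statements.S3374
import Cfsg.Agent.S3378
import Cfsg.Agent.Lib.Recognition.IcosaPres

set_option autoImplicit false
open Cfsg

namespace Cfsg.Agent.S3374

open CfsgLib

abbrev SL := Matrix.SpecialLinearGroup (Fin 2) (ZMod 11)

def gx : SL := ⟨!![0, 1; 10, 10], by decide +kernel⟩
def gy : SL := ⟨!![0, 2; 5, 3], by decide +kernel⟩
def gz : SL := ⟨!![10, 0; 0, 10], by decide +kernel⟩

def gen : ℕ → SL := fun g => [gx, gy, gz, gx⁻¹, gy⁻¹, gz⁻¹].getD g 1

def els : List SL := (List.range 120).map fun i => CosetCert.act gen (Recognition.sl25Data.rep i)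

/-- The entries of a matrix. -/
def code (A : SL) : List ℕ := [(A.1 0 0).val, (A.1 0 1).val, (A.1 1 0).val, (A.1 1 1).val]

def codes : List (List ℕ) := [[1,0,0,1],[0,1,10,10],[0,2,5,3],[10,0,0,10],[10,10,1,0],[3,9,6,0],[9,9,8,2],[0,10,1,1],[2,5,0,6],[5,3,6,6],[10,6,4,8],[0,9,6,8],[6,6,0,2],[1,1,10,0],[8,2,5,0],[2,0,9,6],[6,8,5,5],[6,0,2,2],[2,2,3,9],[8,5,7,10],[5,4,3,7],[5,0,9,9],[9,6,0,5],[0,6,9,0],[9,0,2,5],[6,3,1,8],[3,8,8,7],[4,8,8,8],[1,5,7,3],[8,8,10,6],[5,5,0,9],[0,4,8,3],[7,3,3,3],[3,6,4,1],[7,1,4,7],[0,5,2,0],[8,3,3,4],[4,4,3,6],[3,7,3,0],[6,7,8,4],[7,10,7,7],[7,7,8,5],[3,0,5,4],[8,4,8,0],[5,8,10,3],[7,0,5,8],[4,7,0,3],[4,10,7,4],[1,8,4,0],[4,0,6,3],[8,7,0,7],[0,7,3,8],[7,8,2,4],[3,3,1,5],[9,1,4,3],[4,1,4,4],[5,6,2,7],[3,4,0,4],[4,3,9,7],[0,3,7,1],[7,4,0,8],[6,1,7,5],[3,10,7,9],[8,0,6,7],[7,5,9,5],[5,10,4,6],[10,8,8,1],[10,3,7,0],[8,1,4,2],[10,5,6,2],[1,4,2,9],[0,8,4,10],[6,2,6,4],[1,6,5,9],[2,7,4,9],[6,5,9,4],[2,4,2,10],[2,10,7,8],[8,6,2,3],[9,7,9,1],[4,6,2,6],[4,9,5,6],[9,4,7,2],[3,2,10,7],[10,7,9,2],[9,5,6,1],[7,9,1,3],[1,3,3,10],[3,5,9,8],[2,6,5,10],[5,2,8,10],[4,2,10,8],[5,9,5,7],[6,4,10,5],[2,9,8,9],[8,9,1,4],[6,9,3,1],[5,7,1,6],[9,3,1,9],[7,2,6,5],[2,3,1,2],[1,2,8,6],[9,8,10,9],[10,1,2,8],[2,8,10,2],[9,2,3,2],[8,10,9,10],[10,9,3,5],[9,10,5,2],[3,1,2,1],[1,9,1,10],[2,1,6,9],[1,10,9,3],[4,5,1,7],[5,1,7,6],[7,6,10,4],[10,2,10,1],[6,10,4,5],[10,4,5,1],[1,7,6,10]]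

theorem els_codes : els.map code = codes := by decide +kernel

theorem codes_ok : codes.Nodup ∧ ∀ c ∈ codes, c = [1, 0, 0, 1] ∨
    (((c.getD 0 0 + 10) * (c.getD 3 0 + 10) + 121 - c.getD 1 0 * c.getD 2 0) % 11 ≠ 0) := by
  decide +kernel

theorem els_nodup : els.Nodup := List.Nodup.of_map code (els_codes ▸ codes_ok.1)

theorem els_fpf : ∀ A ∈ els, A = 1 ∨ Matrix.det ((A : Matrix (Fin 2) (Fin 2) (ZMod 11)) - 1) ≠ 0 := by
  intro A hA
  rcases codes_ok.2 (code A) (els_codes ▸ List.mem_map_of_mem hA) with h | h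
  · left
    simp only [code, List.cons.injEq, and_true] at h
    obtain ⟨h0, h1, h2, h3⟩ := h
    refine Subtype.ext (Matrix.ext fun i j => ZMod.val_injective 11 ?_)
    fin_cases i <;> fin_cases j
    exacts [h0, h1, h2, h3]
  · right
    intro hd
    apply h
    simp only [code, List.getD_cons_zero, List.getD_cons_succ]
    have hlt : (A.1 0 1).val * (A.1 1 0).val ≤ 121 :=
      Nat.mul_le_mul (ZMod.val_lt (A.1 0 1)).le (ZMod.val_lt (A.1 1 0)).le
    rw [← Nat.dvd_iff_mod_eq_zero, ← ZMod.natCast_eq_zero_iff]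
    rw [Nat.cast_sub (le_trans hlt (Nat.le_add_left _ _))]
    push_cast
    simp only [ZMod.natCast_zmod_val]
    rw [Matrix.det_fin_two] at hd
    simp only [Matrix.sub_apply, Matrix.one_apply_eq, ne_eq, Fin.isValue, zero_ne_one, not_false_eq_true,
      Matrix.one_apply_ne, one_ne_zero, sub_zero] at hd
    rw [show (121 : ZMod 11) = 0 from by decide, show (10 : ZMod 11) = -1 from by decide, add_zero]
    linear_combination hd

def H : Subgroup SL := Subgroup.closure {gx, gy, gz}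

theorem gen_mem (g : ℕ) : gen g ∈ H := by
  have hx' : gx ∈ H := Subgroup.subset_closure (Or.inl rfl)
  have hy' : gy ∈ H := Subgroup.subset_closure (Or.inr (Or.inl rfl))
  have hz' : gz ∈ H := Subgroup.subset_closure (Or.inr (Or.inr rfl))
  show List.getD _ g 1 ∈ H
  match g with
  | 0 => exact hx'
  | 1 => exact hy'
  | 2 => exact hz'
  | 3 => exact inv_mem hx'
  | 4 => exact inv_mem hy'
  | 5 => exact inv_mem hz'
  | _ + 6 => exact one_mem H

theorem act_mem (w : List ℕ) : CosetCert.act gen w ∈ H := by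
  induction w with
  | nil => exact one_mem H
  | cons g w ih => exact mul_mem ih (gen_mem g)

theorem rel_x : gx ^ 3 = 1 := Subtype.ext (by decide +kernel)
theorem rel_y : gy ^ 5 = 1 := Subtype.ext (by decide +kernel)
theorem rel_z : gz ^ 2 = 1 := Subtype.ext (by decide +kernel)
theorem rel_zx : gz * gx = gx * gz := Subtype.ext (by decide +kernel)
theorem rel_zy : gz * gy = gy * gz := Subtype.ext (by decide +kernel)
theorem rel_xy : (gx * gy) ^ 2 = gz := Subtype.ext (by decide +kernel)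

def hx : H := ⟨gx, Subgroup.subset_closure (Or.inl rfl)⟩
def hy : H := ⟨gy, Subgroup.subset_closure (Or.inr (Or.inl rfl))⟩
def hz : H := ⟨gz, Subgroup.subset_closure (Or.inr (Or.inr rfl))⟩

theorem closure_top : Subgroup.closure {hx, hy, hz} = ⊤ := by
  apply Subgroup.map_injective H.subtype_injective
  rw [MonoidHom.map_closure, ← MonoidHom.range_eq_map, Subgroup.range_subtype, Set.image_insert_eq,
    Set.image_insert_eq, Set.image_singleton]
  rfl

theorem els_eq : ∀ h ∈ H, h ∈ els := by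
  have hsub : (els.toFinset : Set SL) ⊆ H := by
    intro w hw
    obtain ⟨i, -, rfl⟩ := List.mem_map.1 (List.mem_toFinset.1 hw)
    exact act_mem _
  have h1 := (Recognition.card_le_oneTwenty (x := hx) (y := hy) (z := hz) closure_top
    (Subtype.ext rel_x) (Subtype.ext rel_y) (Subtype.ext rel_z)
    (by
      have : hz * hx = hx * hz := Subtype.ext rel_zx
      rw [mul_assoc hz⁻¹, ← this]; group)
    (by rw [show (hx * hy) ^ 2 = hz from Subtype.ext rel_xy, mul_inv_cancel])).2
  rw [show Nat.card H = (H : Set SL).ncard from Nat.card_coe_set_eq _] at h1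
  have h2 : (els.toFinset : Set SL) = H := by
    refine Set.eq_of_subset_of_ncard_le hsub ?_ (Set.toFinite _)
    rw [Set.ncard_coe_finset, List.toFinset_card_of_nodup els_nodup]
    exact h1.trans (by simp [els])
  intro h hh
  exact List.mem_toFinset.1 (h2.ge hh)

theorem card_H : Nat.card H = 120 := by
  have hsub : (els.toFinset : Set SL) = H := by
    ext w
    refine ⟨fun hw => ?_, fun hw => List.mem_toFinset.2 (els_eq w hw)⟩
    obtain ⟨i, -, rfl⟩ := List.mem_map.1 (List.mem_toFinset.1 hw)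
    exact act_mem _
  rw [show Nat.card H = (H : Set SL).ncard from Nat.card_coe_set_eq _, ← hsub, Set.ncard_coe_finset,
    List.toFinset_card_of_nodup els_nodup]
  simp [els]

theorem fpf (h : SL) (hh : h ∈ H) (h1 : h ≠ 1) (v : Fin 2 → ZMod 11)
    (hv : (h : Matrix (Fin 2) (Fin 2) (ZMod 11)).mulVec v = v) : v = 0 := by
  haveI : Fact (Nat.Prime 11) := ⟨by norm_num⟩
  refine Matrix.eq_zero_of_mulVec_eq_zero ((els_fpf h (els_eq h hh)).resolve_left h1) ?_
  rw [Matrix.sub_mulVec, hv, Matrix.one_mulVec, sub_self]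

abbrev V := Multiplicative (Fin 2 → ZMod 11)

def act : H →* MulAut V where
  toFun g := AddEquiv.toMultiplicative
    { toFun := fun v => ((g : SL) : Matrix (Fin 2) (Fin 2) (ZMod 11)).mulVec v
      invFun := fun v => (((g : SL)⁻¹ : SL) : Matrix (Fin 2) (Fin 2) (ZMod 11)).mulVec v
      left_inv := fun v => by
        simp only [Matrix.mulVec_mulVec]
        rw [← Matrix.SpecialLinearGroup.coe_mul, inv_mul_cancel, Matrix.SpecialLinearGroup.coe_one,
          Matrix.one_mulVec]
      right_inv := fun v => by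
        simp only [Matrix.mulVec_mulVec]
        rw [← Matrix.SpecialLinearGroup.coe_mul, mul_inv_cancel, Matrix.SpecialLinearGroup.coe_one,
          Matrix.one_mulVec]
      map_add' := fun v w => Matrix.mulVec_add _ v w }
  map_one' := by
    apply MulEquiv.ext
    intro v
    exact congrArg Multiplicative.ofAdd (Matrix.one_mulVec v.toAdd)
  map_mul' g h := by
    apply MulEquiv.ext
    intro v
    show Multiplicative.ofAdd
        ((((g * h : H) : SL) : Matrix (Fin 2) (Fin 2) (ZMod 11)).mulVec v.toAdd) =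
      Multiplicative.ofAdd (((g : SL) : Matrix (Fin 2) (Fin 2) (ZMod 11)).mulVec
        ((((h : SL) : Matrix (Fin 2) (Fin 2) (ZMod 11))).mulVec v.toAdd))
    rw [Matrix.mulVec_mulVec, Subgroup.coe_mul, Matrix.SpecialLinearGroup.coe_mul]

/-- SL(2,5) occurs as a Frobenius complement: there is a finite group L with a subgroup H isomorphic to SL(2,5) which is a non-trivial proper subgroup meeting each conjugate gHg⁻¹ with g outside H trivially. -/
theorem result :
    ∃ (L : Type) (_ : Group L) (_ : Finite L) (H : Subgroup L),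
      Cfsg.IsFrobeniusComplement H ∧ Nonempty (H ≃* Matrix.SpecialLinearGroup (Fin 2) (ZMod 5)) := by
  obtain ⟨e1⟩ := Cfsg.Agent.S3378.equiv_of_gens (x := hx) (y := hy) (z := hz) card_H (Subtype.ext rel_x)
    (Subtype.ext rel_y) (Subtype.ext rel_z) (Subtype.ext rel_zx) (Subtype.ext rel_zy) (Subtype.ext rel_xy)
    closure_top
  obtain ⟨e2⟩ := Cfsg.Agent.S3378.presented_equiv_SL
  haveI : Finite (V ⋊[act] H) := Finite.of_equiv _ SemidirectProduct.equivProd.symm
  set R := (SemidirectProduct.inr (φ := act)).range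
  refine ⟨V ⋊[act] H, inferInstance, inferInstance, R, ⟨?_, ?_, ?_⟩,
    ⟨((MonoidHom.ofInjective SemidirectProduct.inr_injective).symm.trans (e1.symm.trans e2))⟩⟩
  · intro h
    have h1 : (SemidirectProduct.inr hz : V ⋊[act] H) ∈ R := ⟨hz, rfl⟩
    rw [h, Subgroup.mem_bot] at h1
    have := congrArg SemidirectProduct.right h1
    simp only [SemidirectProduct.right_inr, SemidirectProduct.one_right] at this
    exact absurd (congrArg (fun g : H => (g : SL)) this) (by decide +kernel : gz ≠ 1)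
  · intro h
    have h1 : (SemidirectProduct.inl (Multiplicative.ofAdd ![1, 0]) : V ⋊[act] H) ∈ R := h ▸ Subgroup.mem_top _
    obtain ⟨g, hg⟩ := h1
    have := congrArg SemidirectProduct.left hg
    simp only [SemidirectProduct.left_inr, SemidirectProduct.left_inl] at this
    have := congrArg (fun v : V => v.toAdd 0) this
    simp at this
    exact absurd this (by decide)
  · intro g hg
    rw [Subgroup.eq_bot_iff_forall]
    rintro x ⟨⟨a, rfl⟩, hx2⟩
    obtain ⟨y, ⟨b, rfl⟩, hy⟩ := hx2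
    have hy' : g * SemidirectProduct.inr b * g⁻¹ = SemidirectProduct.inr a := hy
    have hr := congrArg SemidirectProduct.right hy'
    have hl := congrArg SemidirectProduct.left hy'
    simp only [SemidirectProduct.mul_left, SemidirectProduct.mul_right, SemidirectProduct.left_inr,
      SemidirectProduct.right_inr, SemidirectProduct.inv_left, SemidirectProduct.inv_right, map_one,
      mul_one] at hr hl
    rw [← MulAut.mul_apply, ← map_mul, hr, map_inv, mul_inv_eq_one] at hl
    by_contra ha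
    apply hg
    have hv : g.left = 1 := congrArg Multiplicative.ofAdd (fpf (a : SL) a.2
      (fun e => ha (by rw [show a = 1 from Subtype.ext e, map_one])) _ (congrArg Multiplicative.toAdd hl.symm))
    exact ⟨g.right, by ext <;> simp [hv]⟩

end Cfsg.Agent.S3374
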