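import Cfsg.Statements.S3375

set_option autoImplicit false
open Cfsg

namespace Cfsg.Agent.S3375

/-- Let γ be an automorphism of order 2 of a finite group H. (i) If γ fixes only the identity, then H is abelian and γ inverts every element. (ii) If γ has exactly two fixed points and H has a subgroup of index 2, then H has a γ-invariant abelian subgroup of index 2 on which γ acts by inversion. -/
theorem result {H : Type*} [Group H] [Finite H] (γ : MulAut H) (hγ : orderOf γ = 2) :
    ((∀ h : H, γ h = h → h = 1) → (∀ a b : H, a * b = b * a) ∧ ∀ h : H, γ h = h⁻¹) ∧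
    ((Nat.card {h : H // γ h = h} = 2 ∧ ∃ M : Subgroup H, M.index = 2) →
      ∃ A : Subgroup H, A.index = 2 ∧ IsMulCommutative A ∧ (∀ a ∈ A, γ a ∈ A) ∧ ∀ a ∈ A, γ a = a⁻¹) := by
  have hsq : ∀ h, γ (γ h) = h := fun h => by
    have : γ ^ 2 = 1 := hγ ▸ pow_orderOf_eq_one γ
    simpa [sq] using DFunLike.congr_fun this h
  set f : H → H := fun h => h⁻¹ * γ h with hf
  have hinv : ∀ h, γ (f h) = (f h)⁻¹ := fun h => by simp [hf, hsq]
  have hdiff : ∀ g h, f g = f h → γ (g * h⁻¹) = g * h⁻¹ := by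
    intro g h e
    have e' : γ g = g * h⁻¹ * γ h := by
      rw [mul_assoc, show h⁻¹ * γ h = g⁻¹ * γ g from e.symm, mul_inv_cancel_left]
    rw [map_mul, map_inv, e', mul_inv_cancel_right]
  have hab : ∀ a b : H, γ a = a⁻¹ → γ b = b⁻¹ → γ (a * b) = (a * b)⁻¹ → a * b = b * a := by
    intro a b ha hb h
    rw [map_mul, ha, hb, ← mul_inv_rev, inv_inj] at h
    exact h.symm
  constructor
  · intro hfix
    have hinj : Function.Injective f := fun g h e => mul_inv_eq_one.1 (hfix _ (hdiff g h e))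
    have hall : ∀ h, γ h = h⁻¹ := fun h => by
      obtain ⟨g, rfl⟩ := (Finite.injective_iff_surjective.1 hinj) h
      exact hinv g
    exact ⟨fun a b => hab a b (hall a) (hall b) (hall _), hall⟩
  · rintro ⟨hcard, M, hM⟩
    obtain ⟨A, hA, hAγ⟩ : ∃ A : Subgroup H, A.index = 2 ∧ ∀ a, γ a ∈ A ↔ a ∈ A := by
      by_cases hMγ : ∀ a, γ a ∈ M ↔ a ∈ M
      · exact ⟨M, hM, hMγ⟩
      let A : Subgroup H :=
        { carrier := {a | γ a ∈ M ↔ a ∈ M}
          one_mem' := by simp
          mul_mem' := fun {a b} (ha : γ a ∈ M ↔ a ∈ M) (hb : γ b ∈ M ↔ b ∈ M) => by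
            show γ (a * b) ∈ M ↔ a * b ∈ M
            rw [map_mul, Subgroup.mul_mem_iff_of_index_two hM, Subgroup.mul_mem_iff_of_index_two hM,
              ha, hb]
          inv_mem' := fun {a} (ha : γ a ∈ M ↔ a ∈ M) => by
            show γ a⁻¹ ∈ M ↔ a⁻¹ ∈ M
            rw [map_inv, inv_mem_iff, inv_mem_iff, ha] }
      push_neg at hMγ
      obtain ⟨c, hc⟩ := hMγ
      have hc' : ¬ (γ c ∈ M ↔ c ∈ M) := by tauto
      refine ⟨A, Subgroup.index_eq_two_iff.2 ⟨c, fun b => ?_⟩, fun a => ?_⟩
      · show Xor (γ (b * c) ∈ M ↔ b * c ∈ M) (γ b ∈ M ↔ b ∈ M)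
        rw [map_mul, Subgroup.mul_mem_iff_of_index_two hM, Subgroup.mul_mem_iff_of_index_two hM]
        by_cases h1 : γ b ∈ M <;> by_cases h2 : b ∈ M <;> by_cases h3 : γ c ∈ M <;>
          by_cases h4 : c ∈ M <;> simp_all [Xor]
      · show (γ (γ a) ∈ M ↔ γ a ∈ M) ↔ (γ a ∈ M ↔ a ∈ M)
        rw [hsq]; tauto
    have hfA : ∀ h, f h ∈ A := fun h => by
      show h⁻¹ * γ h ∈ A
      rw [Subgroup.mul_mem_iff_of_index_two hA, inv_mem_iff, hAγ]
    classical
    haveI := Fintype.ofFinite H
    set fA : H → A := fun h => ⟨f h, hfA h⟩ with hfA'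
    have hfib : ∀ a : A, (Finset.univ.filter fun h => fA h = a).card ≤ 2 := by
      intro a
      rcases (Finset.univ.filter fun h => fA h = a).eq_empty_or_nonempty with he | ⟨h0, hh0⟩
      · simp [he]
      rw [Finset.mem_filter] at hh0
      rw [← hcard, Nat.card_eq_fintype_card, Fintype.card_subtype]
      refine Finset.card_le_card_of_injOn (fun h => h * h0⁻¹) ?_
        (fun u _ v _ huv => mul_right_cancel huv)
      intro h hh
      simp only [Finset.mem_coe, Finset.mem_filter, Finset.mem_univ, true_and] at hh ⊢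
      exact hdiff h h0 (congrArg Subtype.val (hh.trans hh0.2.symm))
    have hsurj : Function.Surjective fA := by
      intro a
      have heq : (Finset.univ.image fA) = Finset.univ := by
        rw [← Finset.card_eq_iff_eq_univ]
        refine le_antisymm (Finset.card_le_univ _) ?_
        have h1 : Fintype.card H ≤ 2 * (Finset.univ.image fA).card :=
          Finset.card_le_mul_card_image Finset.univ 2 fun a _ => hfib a
        have h2 : Fintype.card H = 2 * Fintype.card A := by
          rw [← Nat.card_eq_fintype_card, ← Nat.card_eq_fintype_card, ← A.index_mul_card, hA]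
        omega
      obtain ⟨g, -, hg⟩ := Finset.mem_image.1 (heq ▸ Finset.mem_univ a)
      exact ⟨g, hg⟩
    have hallA : ∀ a ∈ A, γ a = a⁻¹ := fun a ha => by
      obtain ⟨g, hg⟩ := hsurj ⟨a, ha⟩
      rw [show a = f g from (congrArg Subtype.val hg).symm]
      exact hinv g
    refine ⟨A, hA, ⟨⟨fun a b => Subtype.ext ?_⟩⟩, fun a ha => (hAγ a).2 ha, hallA⟩
    exact hab a b (hallA a a.2) (hallA b b.2) (hallA _ (mul_mem a.2 b.2))

end Cfsg.Agent.S3375
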