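import Cfsg.Statements.S3376
import Cfsg.Agent.Lib.Transfer.CyclicMaximal

set_option autoImplicit false
open Cfsg

open scoped Pointwise

namespace Cfsg.Agent.S3376

/-- In an abelian group of exponent 3 a nontrivial element avoids some subgroup of index 3. -/
theorem exists_index_three_not_mem {A : Type*} [CommGroup A] [Finite A] (hA : ∀ a : A, a ^ 3 = 1) (z : A) (hz : z ≠ 1) :
    ∃ W : Subgroup A, z ∉ W ∧ W.index = 3 := by
  obtain ⟨W, hW⟩ := Set.Finite.exists_maximal (Set.toFinite {W : Subgroup A | z ∉ W})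
    ⟨⊥, fun h => hz (Subgroup.mem_bot.1 h)⟩
  refine ⟨W, hW.prop, ?_⟩
  have hgen : ∀ x : A, ∃ i : ℤ, (z ^ i)⁻¹ * x ∈ W := by
    intro x
    by_cases hx : x ∈ W
    · exact ⟨0, by simpa using hx⟩
    have hzW : z ∈ W ⊔ Subgroup.zpowers x := by
      by_contra h
      exact hx (hW.le_of_ge h le_sup_left (Subgroup.mem_sup_right (Subgroup.mem_zpowers x)))
    obtain ⟨w, hw, u, hu, hwu⟩ := Subgroup.mem_sup.1 hzW
    obtain ⟨k, rfl⟩ := Subgroup.mem_zpowers_iff.1 hu
    have hx3 : (x : A) ^ (3 : ℤ) = 1 := by rw [show (3 : ℤ) = ((3 : ℕ) : ℤ) from rfl, zpow_natCast]; exact hA x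
    have hmod : x ^ k = x ^ (k % 3) := by
      conv_lhs => rw [← Int.emod_add_mul_ediv k 3, zpow_add, zpow_mul, hx3, one_zpow, mul_one]
    rw [hmod] at hwu
    have h0 : 0 ≤ k % 3 := Int.emod_nonneg k (by norm_num)
    have h1 : k % 3 < 3 := Int.emod_lt_of_pos k (by norm_num)
    interval_cases hk : k % 3
    · rw [zpow_zero, mul_one] at hwu
      exact absurd (hwu ▸ hw) hW.prop
    · refine ⟨1, ?_⟩
      rw [← hwu, zpow_one, zpow_one, mul_inv_rev, mul_comm x⁻¹, mul_assoc, inv_mul_cancel, mul_one]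
      exact W.inv_mem hw
    · refine ⟨2, ?_⟩
      have : (z ^ (2 : ℤ))⁻¹ * x = (w ^ (2 : ℤ))⁻¹ := by
        rw [← hwu, mul_zpow, mul_inv_rev, ← zpow_mul, show (2 : ℤ) * 2 = 3 + 1 from rfl, zpow_add, hx3, one_mul, zpow_one,
          mul_comm x⁻¹, mul_assoc, inv_mul_cancel, mul_one]
      rw [this]
      exact W.inv_mem (W.zpow_mem hw 2)
  have hord : orderOf (QuotientGroup.mk' W z) = 3 :=
    orderOf_eq_prime (by rw [← map_pow, hA, map_one]) fun h => hW.prop ((QuotientGroup.eq_one_iff z).1 h)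
  rw [Subgroup.index, ← hord, ← Nat.card_zpowers]
  refine (Nat.card_congr (Equiv.subtypeUnivEquiv fun c => ?_)).symm
  obtain ⟨x, rfl⟩ := QuotientGroup.mk_surjective c
  obtain ⟨i, hi⟩ := hgen x
  refine Subgroup.mem_zpowers_iff.2 ⟨i, ?_⟩
  rw [← map_zpow]
  exact QuotientGroup.eq.2 hi

theorem g9_cube : (Equiv.swap (0 : Fin 9) 1 * Equiv.swap 1 2 * Equiv.swap 3 4 * Equiv.swap 4 5 * Equiv.swap 6 7 * Equiv.swap 7 8) ^ 3 = 1 := by
  ext i; fin_cases i <;> rfl

theorem g9_fix : ∀ i : Fin 9, (Equiv.swap (0 : Fin 9) 1 * Equiv.swap 1 2 * Equiv.swap 3 4 * Equiv.swap 4 5 * Equiv.swap 6 7 * Equiv.swap 7 8 : Equiv.Perm (Fin 9)) i ≠ i := by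
  decide

/-- Let G be a group of order 162 = 3⁴·2 with Sylow 3-subgroup S and Sylow 2-subgroup T, having an elementary abelian normal subgroup J of order 27, such that Z = Z(S) has order 3, Z centralizes T, and C_S(T) ≠ S. Then G is isomorphic to the centralizer in Sym(9) of a product of three disjoint 3-cycles. -/
theorem result {G : Type*} [Group G] [Finite G] (hG : Nat.card G = 162)
    (S : Sylow 3 G) (T : Sylow 2 G) (J : Subgroup G) [hJn : J.Normal] (hJcomm : IsMulCommutative J)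
    (hJexp : ∀ a ∈ J, a ^ 3 = 1) (hJcard : Nat.card J = 27)
    (Z : Subgroup G) (hZ : Z = (S : Subgroup G) ⊓ Subgroup.centralizer ((S : Subgroup G) : Set G)) (hZcard : Nat.card Z = 3)
    (hZT : Z ≤ Subgroup.centralizer ((T : Subgroup G) : Set G))
    (hST : (S : Subgroup G) ⊓ Subgroup.centralizer ((T : Subgroup G) : Set G) ≠ S) :
    Nonempty (G ≃* Subgroup.centralizer ({Equiv.swap (0 : Fin 9) 1 * Equiv.swap 1 2 * Equiv.swap 3 4 * Equiv.swap 4 5 * Equiv.swap 6 7 * Equiv.swap 7 8} : Set (Equiv.Perm (Fin 9)))) := by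
  classical
  have hfac : ∀ (p k : ℕ) [Fact p.Prime] (P : Sylow p G) (m : ℕ), 162 = p ^ k * m → ¬ p ∣ m → Nat.card P = p ^ k := by
    intro p k _ P m h hm
    rw [P.card_eq_multiplicity, hG, h]
    have hm0 : m ≠ 0 := fun h0 => hm (h0 ▸ dvd_zero p)
    rw [Nat.factorization_mul (pow_ne_zero _ (Fact.out : p.Prime).ne_zero) hm0, Finsupp.add_apply,
      Nat.Prime.factorization_pow (Fact.out : p.Prime), Finsupp.single_eq_same,
      Nat.factorization_eq_zero_of_not_dvd hm, add_zero]
  have hS : Nat.card S = 81 := hfac 3 4 S 2 (by norm_num) (by norm_num)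
  have hT : Nat.card T = 2 := hfac 2 1 T 81 (by norm_num) (by norm_num)
  have hSi : (S : Subgroup G).index = 2 := by
    have := (S : Subgroup G).card_mul_index
    rw [hG] at this
    have h81 : Nat.card (S : Subgroup G) = 81 := hS
    rw [h81] at this
    omega
  haveI hSn : (S : Subgroup G).Normal := Subgroup.normal_of_index_eq_two hSi
  have hJS : J ≤ (S : Subgroup G) := by
    have hJp : IsPGroup 3 J := IsPGroup.of_card (n := 3) (by rw [hJcard]; norm_num)
    rw [← S.is_maximal' (hJp.to_sup_of_normal_left S.isPGroup') le_sup_right]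
    exact le_sup_left
  have hcJ : ∀ a ∈ J, ∀ b ∈ J, a * b = b * a := fun a ha b hb =>
    congrArg Subtype.val (hJcomm.is_comm.comm ⟨a, ha⟩ ⟨b, hb⟩)
  obtain ⟨⟨z, hzZ⟩, hzgen⟩ := (isCyclic_of_prime_card (p := 3) hZcard : IsCyclic Z).exists_generator
  have hZz : ∀ x ∈ Z, ∃ i : ℤ, x = z ^ i := fun x hx => by
    obtain ⟨i, hi⟩ := hzgen ⟨x, hx⟩
    exact ⟨i, (congrArg Subtype.val hi).symm⟩
  have hz3 : z ^ 3 = 1 := by
    have h := pow_card_eq_one' (x := (⟨z, hzZ⟩ : Z))
    rw [hZcard] at h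
    exact congrArg Subtype.val h
  have hz1 : z ≠ 1 := fun h => by
    have : Z = ⊥ := le_bot_iff.1 fun x hx => by
      obtain ⟨i, rfl⟩ := hZz x hx
      simp [h]
    rw [this, Subgroup.card_bot] at hZcard
    omega
  have hzS : ∀ s ∈ (S : Subgroup G), s * z = z * s := fun s hs =>
    Subgroup.mem_centralizer_iff.1 (Subgroup.mem_inf.1 (hZ ▸ hzZ)).2 s hs
  have hzSmem : z ∈ (S : Subgroup G) := (Subgroup.mem_inf.1 (hZ ▸ hzZ)).1
  have hzJ : z ∈ J := by
    haveI : (J.subgroupOf (S : Subgroup G)).Normal := inferInstance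
    obtain ⟨U, hUJ, hUc, -, hU⟩ := CfsgLib.PGroup.exists_card_eq_le_center S.isPGroup' (J.subgroupOf (S : Subgroup G))
      (fun h => by
        have h1 := Nat.card_congr (Subgroup.subgroupOfEquivOfLe hJS).toEquiv
        rw [h, Subgroup.card_bot, hJcard] at h1
        omega)
    have hUZ : U.map (S : Subgroup G).subtype ≤ Z := by
      rintro _ ⟨u, hu, rfl⟩
      rw [hZ]
      exact ⟨u.2, Subgroup.mem_centralizer_iff.2 fun s hs =>
        congrArg Subtype.val (Subgroup.mem_center_iff.1 (hUc hu) ⟨s, hs⟩)⟩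
    have hEq : U.map (S : Subgroup G).subtype = Z := Subgroup.eq_of_le_of_card_ge hUZ (by
      rw [Subgroup.card_map_of_injective (Subgroup.subtype_injective _), hU, hZcard])
    obtain ⟨u, hu, rfl⟩ := hEq.symm ▸ hzZ
    exact hUJ hu
  haveI := isCyclic_of_prime_card (p := 2) hT
  obtain ⟨⟨t, htT⟩, htgen⟩ := IsCyclic.exists_generator (α := (T : Subgroup G))
  have ht2 : t * t = 1 := by
    have h := pow_card_eq_one' (x := (⟨t, htT⟩ : (T : Subgroup G)))
    rw [hT, sq] at h
    exact congrArg Subtype.val h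
  have htS : t ∉ (S : Subgroup G) := fun h => by
    have h1 : (T : Subgroup G) ≤ (S : Subgroup G) := fun x hx => by
      obtain ⟨i, hi⟩ := htgen ⟨x, hx⟩
      rw [show x = t ^ i from (congrArg Subtype.val hi).symm]
      exact zpow_mem h i
    have h2 := Subgroup.card_dvd_of_le h1
    rw [show Nat.card (T : Subgroup G) = 2 from hT, show Nat.card (S : Subgroup G) = 81 from hS] at h2
    norm_num at h2
  have hzt : t * z = z * t := Subgroup.mem_centralizer_iff.1 (hZT hzZ) t htT
  have hzc : ∀ g : G, g * z = z * g := fun g => by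
    by_cases hg : g ∈ (S : Subgroup G)
    · exact hzS g hg
    have h1 : g * t ∈ (S : Subgroup G) := (Subgroup.mul_mem_iff_of_index_two hSi).2 ⟨fun h => (hg h).elim, fun h => (htS h).elim⟩
    calc g * z = g * t * (t * z) := by rw [mul_assoc, ← mul_assoc t, ht2, one_mul]
      _ = g * t * z * t := by rw [hzt, ← mul_assoc]
      _ = z * g := by rw [hzS _ h1, mul_assoc, mul_assoc, ht2, mul_one]
  have htJ : ∀ x ∈ J, t * x * t ∈ J := fun x hx => by
    have h := hJn.conj_mem x hx t
    rwa [inv_eq_of_mul_eq_one_left ht2] at h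
  have htt : ∀ x : G, t * (t * x * t) * t = x := fun x => by
    rw [show t * (t * x * t) * t = (t * t) * x * (t * t) by group, ht2, one_mul, mul_one]
  -- a `t`-invariant complement to the centre in `J`
  obtain ⟨W, hWJ, hzW, hWt, hWc⟩ : ∃ W : Subgroup G, W ≤ J ∧ z ∉ W ∧ (∀ x ∈ W, t * x * t ∈ W) ∧ Nat.card W = 9 := by
    letI : CommGroup J := { (inferInstance : Group J) with mul_comm := fun a b => Subtype.ext (hcJ a a.2 b b.2) }
    obtain ⟨W₀, hW₀, hmax⟩ := exists_index_three_not_mem (fun a : J => Subtype.ext (hJexp a a.2)) ⟨z, hzJ⟩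
      fun h => hz1 (congrArg Subtype.val h)
    let sym : J →* J :=
      { toFun := fun x => x * ⟨t * x * t, htJ x x.2⟩
        map_one' := Subtype.ext (by simp [ht2])
        map_mul' := fun a b => Subtype.ext (by
          show a.1 * b.1 * (t * (a.1 * b.1) * t) = a.1 * (t * a.1 * t) * (b.1 * (t * b.1 * t))
          rw [show t * (a.1 * b.1) * t = (t * a.1 * t) * (t * b.1 * t) by
            rw [show (t * a.1 * t) * (t * b.1 * t) = t * a.1 * (t * t) * b.1 * t by group, ht2]; group,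
            mul_assoc, ← mul_assoc b.1, hcJ b b.2 _ (htJ a a.2)]
          group) }
    let W₁ := W₀.comap sym
    have hzs : sym ⟨z, hzJ⟩ = (⟨z, hzJ⟩ : J) ^ 2 := Subtype.ext (by
      show z * (t * z * t) = z ^ 2
      rw [hzt, mul_assoc z, ht2, mul_one, sq])
    have hzn : (⟨z, hzJ⟩ : J) ∉ W₁ := fun h => by
      have h2 : sym ⟨z, hzJ⟩ ∈ W₀ := h
      rw [hzs] at h2
      have h3 := W₀.pow_mem h2 2
      rw [← pow_mul, show (2 * 2 : ℕ) = 3 + 1 from rfl, pow_succ,
        show (⟨z, hzJ⟩ : J) ^ 3 = 1 from Subtype.ext hz3, one_mul] at h3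
      exact hW₀ h3
    refine ⟨W₁.map J.subtype, Subgroup.map_subtype_le _, ?_, ?_, ?_⟩
    · rintro ⟨u, hu, hue⟩
      exact hzn ((Subtype.ext hue : u = ⟨z, hzJ⟩) ▸ hu)
    · rintro _ ⟨u, hu, rfl⟩
      refine ⟨⟨t * u.1 * t, htJ u u.2⟩, ?_, rfl⟩
      show sym ⟨t * u.1 * t, htJ u u.2⟩ ∈ W₀
      have : sym ⟨t * u.1 * t, htJ u u.2⟩ = sym u := Subtype.ext (by
        show t * u.1 * t * (t * (t * u.1 * t) * t) = u.1 * (t * u.1 * t)
        rw [htt, hcJ _ (htJ u u.2) _ u.2])
      rw [this]; exact hu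
    · rw [Subgroup.card_map_of_injective (Subgroup.subtype_injective _)]
      have h1 : W₁.index ∣ 3 := by
        rw [show W₁.index = W₀.relIndex sym.range from Subgroup.index_comap W₀ sym, ← hmax]
        exact Subgroup.relIndex_dvd_index_of_normal _ _
      have h2 := W₁.card_mul_index
      rw [hJcard] at h2
      rcases (Nat.dvd_prime Nat.prime_three).1 h1 with h | h
      · exact absurd (Subgroup.index_eq_one.1 h ▸ Subgroup.mem_top (⟨z, hzJ⟩ : J)) hzn
      · rw [h] at h2; omega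
  let K : Subgroup G :=
    { carrier := {x | x ∈ W ∨ x * t ∈ W}
      one_mem' := Or.inl W.one_mem
      mul_mem' := fun {a b} ha hb => by
        rcases ha with ha | ha <;> rcases hb with hb | hb
        · exact Or.inl (W.mul_mem ha hb)
        · exact Or.inr (by rw [mul_assoc]; exact W.mul_mem ha hb)
        · refine Or.inr ?_
          rw [show a * b * t = (a * t) * (t * b * t) by
            rw [show (a * t) * (t * b * t) = a * (t * t) * b * t by group, ht2, mul_one]]
          exact W.mul_mem ha (hWt _ hb)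
        · refine Or.inl ?_
          rw [show a * b = (a * t) * (t * (b * t) * t) by
            rw [show (a * t) * (t * (b * t) * t) = a * (t * t) * b * (t * t) by group, ht2, mul_one, mul_one]]
          exact W.mul_mem ha (hWt _ hb)
      inv_mem' := fun {a} ha => by
        rcases ha with ha | ha
        · exact Or.inl (W.inv_mem ha)
        · refine Or.inr ?_
          have h := hWt _ (W.inv_mem ha)
          rwa [mul_inv_rev, inv_eq_of_mul_eq_one_left ht2,
            show t * (t * a⁻¹) * t = (t * t) * a⁻¹ * t by group, ht2, one_mul] at h }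
  have hKm : ∀ x, x ∈ K ↔ (x ∈ W ∨ x * t ∈ W) := fun x => Iff.rfl
  have hKS : ∀ x ∈ K, x ∈ (S : Subgroup G) → x ∈ W := fun x hx hxS =>
    hx.resolve_right fun h => htS <| by
      have := (S : Subgroup G).mul_mem (inv_mem hxS) (hJS (hWJ h))
      rwa [inv_mul_cancel_left] at this
  have htK : t ∈ K := Or.inr (by rw [ht2]; exact W.one_mem)
  have hKi : K.index = 9 := by
    have hWK : W ≤ K := fun x hx => Or.inl hx
    have h1 : (W.subgroupOf K).index = 2 := by
      refine Subgroup.index_eq_two_iff.2 ⟨⟨t, htK⟩, fun b => ?_⟩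
      simp only [Subgroup.mem_subgroupOf, Subgroup.coe_mul]
      by_cases hb : b.1 ∈ W
      · exact Or.inr ⟨hb, fun h => htS (by
          have := (S : Subgroup G).mul_mem (inv_mem (hJS (hWJ hb))) (hJS (hWJ h))
          rwa [inv_mul_cancel_left] at this)⟩
      · exact Or.inl ⟨b.2.resolve_left hb, hb⟩
    have h2 := (W.subgroupOf K).card_mul_index
    rw [h1, Nat.card_congr (Subgroup.subgroupOfEquivOfLe hWK).toEquiv, hWc] at h2
    have h3 := K.card_mul_index
    rw [← h2, hG] at h3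
    omega
  have hcore : K.normalCore = ⊥ := by
    have hN : ∀ x ∈ K.normalCore, x ∈ (S : Subgroup G) → x = 1 := by
      intro x hx hxS
      by_contra hx1
      have hne : (K.normalCore.subgroupOf (S : Subgroup G)) ≠ ⊥ := fun h => hx1
        (congrArg Subtype.val (Subgroup.mem_bot.1 (show (⟨x, hxS⟩ : (S : Subgroup G)) ∈ (⊥ : Subgroup (S : Subgroup G)) by
          rw [← h]; exact hx)))
      obtain ⟨U, hUK, hUc, -, hU⟩ := CfsgLib.PGroup.exists_card_eq_le_center S.isPGroup' _ hne
      have hUZ : U.map (S : Subgroup G).subtype ≤ Z := by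
        rintro _ ⟨u, hu, rfl⟩
        rw [hZ]
        exact ⟨u.2, Subgroup.mem_centralizer_iff.2 fun s hs =>
          congrArg Subtype.val (Subgroup.mem_center_iff.1 (hUc hu) ⟨s, hs⟩)⟩
      have hEq : U.map (S : Subgroup G).subtype = Z := Subgroup.eq_of_le_of_card_ge hUZ (by
        rw [Subgroup.card_map_of_injective (Subgroup.subtype_injective _), hU, hZcard])
      obtain ⟨u, hu, hue⟩ := hEq.symm ▸ hzZ
      have hzK : z ∈ K := hue ▸ Subgroup.normalCore_le K (hUK hu)
      exact hzW (hKS z hzK hzSmem)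
    rw [Subgroup.eq_bot_iff_forall]
    intro x hx
    by_contra hx1
    have hxS : x ∉ (S : Subgroup G) := fun h => hx1 (hN x hx h)
    have hxc : ∀ g, g * x = x * g := fun g => by
      have h1 : g * x * g⁻¹ * x⁻¹ ∈ (S : Subgroup G) := by
        rw [Subgroup.mul_mem_iff_of_index_two hSi, Subgroup.mul_mem_iff_of_index_two hSi,
          Subgroup.mul_mem_iff_of_index_two hSi, inv_mem_iff, inv_mem_iff]
        tauto
      exact mul_inv_eq_iff_eq_mul.1 (mul_inv_eq_one.1
        (hN _ (mul_mem (K.normalCore_normal.conj_mem x hx g) (inv_mem hx)) h1))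
    have hx2 : x ^ 2 = 1 := hN _ (pow_mem hx 2) (Subgroup.sq_mem_of_index_two hSi x)
    haveI hXn : (Subgroup.zpowers x).Normal := ⟨fun y hy g => by
      obtain ⟨i, rfl⟩ := Subgroup.mem_zpowers_iff.1 hy
      rw [(Commute.zpow_right (hxc g) i).eq, mul_inv_cancel_right]
      exact zpow_mem (Subgroup.mem_zpowers x) i⟩
    have hXp : IsPGroup 2 (Subgroup.zpowers x) := fun y => by
      obtain ⟨i, hi⟩ := Subgroup.mem_zpowers_iff.1 y.2
      refine ⟨1, Subtype.ext ?_⟩
      show (y : G) ^ (2 ^ 1) = 1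
      rw [← hi, pow_one, ← zpow_natCast, ← zpow_mul, mul_comm, zpow_mul, zpow_natCast, hx2, one_zpow]
    have hxT : x ∈ (T : Subgroup G) := by
      rw [← T.is_maximal' (hXp.to_sup_of_normal_left T.isPGroup') le_sup_right]
      exact Subgroup.mem_sup_left (Subgroup.mem_zpowers x)
    refine hST (inf_eq_left.2 fun s _ => Subgroup.mem_centralizer_iff.2 fun y hy => ?_)
    have h2 : y = 1 ∨ y = x := by
      by_contra h
      push Not at h
      have h3 : ({(⟨1, one_mem _⟩ : (T : Subgroup G)), ⟨x, hxT⟩, ⟨y, hy⟩} : Finset (T : Subgroup G)).card = 3 :=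
        Finset.card_eq_three.2 ⟨_, _, _, fun e => hx1 (congrArg Subtype.val e).symm,
          fun e => h.1 (congrArg Subtype.val e).symm, fun e => h.2 (congrArg Subtype.val e).symm, rfl⟩
      haveI := Fintype.ofFinite (T : Subgroup G)
      have h4 := Finset.card_le_univ ({(⟨1, one_mem _⟩ : (T : Subgroup G)), ⟨x, hxT⟩, ⟨y, hy⟩} : Finset (T : Subgroup G))
      rw [h3, ← Nat.card_eq_fintype_card, show Nat.card (T : Subgroup G) = 2 from hT] at h4
      omega
    rcases h2 with rfl | rfl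
    · simp
    · exact (hxc s).symm
  have e : G ⧸ K ≃ Fin 9 := by
    haveI := Fintype.ofFinite (G ⧸ K)
    exact Fintype.equivFinOfCardEq (by rw [← Nat.card_eq_fintype_card]; exact hKi)
  let φ : G →* Equiv.Perm (Fin 9) := (Equiv.permCongrHom e).toMonoidHom.comp (MulAction.toPermHom G (G ⧸ K))
  have hφinj : Function.Injective φ := (Equiv.permCongrHom e).injective.comp (by
    rw [← MonoidHom.ker_eq_bot_iff, ← Subgroup.normalCore_eq_ker, hcore])
  set g9 : Equiv.Perm (Fin 9) := Equiv.swap (0 : Fin 9) 1 * Equiv.swap 1 2 * Equiv.swap 3 4 * Equiv.swap 4 5 * Equiv.swap 6 7 * Equiv.swap 7 8 with hg9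
  have htype : ∀ σ : Equiv.Perm (Fin 9), σ ^ 3 = 1 → (∀ i, σ i ≠ i) → σ.cycleType = Multiset.replicate 3 3 := by
    intro σ h3 hfix
    have ho : orderOf σ = 3 := orderOf_eq_prime h3 fun h => hfix 0 (by rw [h]; rfl)
    obtain ⟨k, hk⟩ := Equiv.Perm.cycleType_prime_order (σ := σ) (ho ▸ Nat.prime_three)
    rw [ho] at hk
    have h9 : σ.support = Finset.univ := Finset.eq_univ_iff_forall.2 fun i => Equiv.Perm.mem_support.2 (hfix i)
    have hs := Equiv.Perm.sum_cycleType σ
    rw [hk, Multiset.sum_replicate, h9, Finset.card_univ, Fintype.card_fin, smul_eq_mul] at hs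
    rw [hk, show k + 1 = 3 by omega]
  have hg9t : g9.cycleType = Multiset.replicate 3 3 := htype g9 g9_cube g9_fix
  have hzfix : ∀ i, φ z i ≠ i := by
    intro i
    obtain ⟨c, rfl⟩ := e.surjective i
    show (Equiv.permCongrHom e (MulAction.toPermHom G (G ⧸ K) z)) (e c) ≠ e c
    rw [Equiv.permCongrHom_coe, Equiv.permCongr_apply, Equiv.symm_apply_apply]
    intro h
    obtain ⟨g, rfl⟩ := QuotientGroup.mk_surjective c
    have h1 : ((z * g : G) : G ⧸ K) = (g : G ⧸ K) := e.injective h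
    have h2 := QuotientGroup.eq.1 h1.symm
    rw [← hzc g, inv_mul_cancel_left] at h2
    exact hzW (hKS z h2 hzSmem)
  have hcy : (φ z).cycleType = g9.cycleType := (htype _ (by rw [← map_pow, hz3, map_one]) hzfix).trans hg9t.symm
  obtain ⟨c, hc⟩ := isConj_iff.1 (Equiv.Perm.isConj_iff_cycleType_eq.2 hcy)
  let ψ : G →* Subgroup.centralizer ({g9} : Set (Equiv.Perm (Fin 9))) :=
    ((MulAut.conj c).toMonoidHom.comp φ).codRestrict _ fun g => Subgroup.mem_centralizer_singleton_iff.2 (by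
      show c * φ g * c⁻¹ * g9 = g9 * (c * φ g * c⁻¹)
      rw [← hc]
      have : φ g * φ z = φ z * φ g := by rw [← map_mul, ← map_mul, hzc g]
      calc c * φ g * c⁻¹ * (c * φ z * c⁻¹) = c * (φ g * φ z) * c⁻¹ := by group
        _ = c * (φ z * φ g) * c⁻¹ := by rw [this]
        _ = c * φ z * c⁻¹ * (c * φ g * c⁻¹) := by group)
  have hψ : Function.Injective ψ := fun a b h => hφinj ((MulAut.conj c).injective (congrArg Subtype.val h))
  refine ⟨MulEquiv.ofBijective ψ ((Nat.bijective_iff_injective_and_card ψ).2 ⟨hψ, ?_⟩)⟩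
  rw [hG, Equiv.Perm.nat_card_centralizer, hg9t]
  decide

end Cfsg.Agent.S3376
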