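import Cfsg.Statements.S3379

set_option autoImplicit false
open Cfsg

namespace Cfsg.Agent.S3379

/-- Let G be a finite group all of whose Sylow subgroups are cyclic. Then G is generated by two elements x and y of coprime orders n and m with x⁻¹yx = y^r, where gcd(r − 1, m) = 1 and r^n ≡ 1 (mod m). -/
theorem result {G : Type*} [Group G] [Finite G]
    (hZ : ∀ (p : ℕ) [Fact p.Prime] (P : Sylow p G), IsCyclic (P : Subgroup G)) :
    ∃ (x y : G) (n m r : ℕ), Subgroup.closure {x, y} = ⊤ ∧ orderOf x = n ∧ orderOf y = m ∧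
      x⁻¹ * y * x = y ^ r ∧ Nat.Coprime (r - 1) m ∧ Nat.Coprime n m ∧ 1 ≤ r ∧ r ^ n % m = 1 % m := by
  haveI : IsZGroup G := ⟨fun p hp P => by haveI := Fact.mk hp; exact hZ p P⟩
  haveI := IsZGroup.isCyclic_commutator G
  obtain ⟨⟨y, hy⟩, hyg⟩ := IsCyclic.exists_generator (α := commutator G)
  obtain ⟨K, hK⟩ := Subgroup.exists_right_complement'_of_coprime
    (IsZGroup.coprime_commutator_index G)
  haveI : IsCyclic K := by
    refine isCyclic_of_injective ((Abelianization.of (G := G)).comp K.subtype) ?_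
    rw [injective_iff_map_eq_one]
    intro a ha
    have h1 : (a : G) ∈ commutator G := by
      rw [← Abelianization.ker_of]; exact ha
    exact Subtype.ext (Subgroup.disjoint_def.1 hK.disjoint h1 a.2)
  obtain ⟨⟨x, hx⟩, hxg⟩ := IsCyclic.exists_generator (α := K)
  have hym : orderOf y = Nat.card (commutator G) := by
    rw [← orderOf_eq_card_of_forall_mem_zpowers hyg, Subgroup.orderOf_mk]
  have hxn : orderOf x = (commutator G).index := by
    rw [hK.symm.index_eq_card, ← orderOf_eq_card_of_forall_mem_zpowers hxg, Subgroup.orderOf_mk]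
  have hcop : Nat.Coprime (orderOf x) (orderOf y) := by
    rw [hxn, hym]; exact (IsZGroup.coprime_commutator_index G).symm
  have hclo : Subgroup.closure {x, y} = ⊤ := by
    rw [eq_top_iff, ← hK.sup_eq_top, sup_le_iff]
    constructor
    · intro a ha
      obtain ⟨k, hk⟩ := Subgroup.mem_zpowers_iff.1 (hyg ⟨a, ha⟩)
      have : y ^ k = a := by simpa using congrArg Subtype.val hk
      rw [← this]
      exact zpow_mem (Subgroup.subset_closure (by simp)) k
    · intro a ha
      obtain ⟨k, hk⟩ := Subgroup.mem_zpowers_iff.1 (hxg ⟨a, ha⟩)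
      have : x ^ k = a := by simpa using congrArg Subtype.val hk
      rw [← this]
      exact zpow_mem (Subgroup.subset_closure (by simp)) k
  have hconj : x⁻¹ * y * x ∈ Subgroup.zpowers y := by
    have h1 : x⁻¹ * y * x ∈ commutator G := by
      simpa using (inferInstance : (commutator G).Normal).conj_mem y hy x⁻¹
    obtain ⟨k, hk⟩ := Subgroup.mem_zpowers_iff.1 (hyg ⟨_, h1⟩)
    exact Subgroup.mem_zpowers_iff.2 ⟨k, by simpa using congrArg Subtype.val hk⟩
  obtain ⟨r0, hr0 : y ^ r0 = x⁻¹ * y * x⟩ :=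
    (isOfFinOrder_of_finite y).mem_powers_iff_mem_zpowers.2 hconj
  set r := r0 + orderOf y with hr
  have hr1 : 1 ≤ r := le_add_left (orderOf_pos y)
  have hrel : x⁻¹ * y * x = y ^ r := by rw [hr, pow_add, pow_orderOf_eq_one, mul_one, hr0]
  have hit : ∀ i : ℕ, (x ^ i)⁻¹ * y * x ^ i = y ^ r ^ i := by
    intro i
    induction i with
    | zero => simp
    | succ i ih =>
      calc (x ^ (i + 1))⁻¹ * y * x ^ (i + 1) = x⁻¹ * ((x ^ i)⁻¹ * y * x ^ i) * x := by
            rw [pow_succ]; group
        _ = (x⁻¹ * y * x) ^ r ^ i := by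
            rw [ih]
            simpa using (conj_pow (a := x⁻¹) (b := y) (i := r ^ i)).symm
        _ = _ := by rw [hrel, ← pow_mul, pow_succ, mul_comm]
  have hn := hit (orderOf x)
  rw [pow_orderOf_eq_one, inv_one, one_mul, mul_one] at hn
  refine ⟨x, y, orderOf x, orderOf y, r, hclo, rfl, rfl, hrel, ?_, hcop, hr1, ?_⟩
  swap
  · exact (pow_eq_pow_iff_modEq.1 ((pow_one y).trans hn)).symm
  have hNy : ∀ g : G, g * y * g⁻¹ ∈ Subgroup.zpowers y := by
    intro g
    have h1 := (inferInstance : (commutator G).Normal).conj_mem y hy g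
    obtain ⟨k, hk⟩ := Subgroup.mem_zpowers_iff.1 (hyg ⟨_, h1⟩)
    exact Subgroup.mem_zpowers_iff.2 ⟨k, by simpa using congrArg Subtype.val hk⟩
  haveI hN : (Subgroup.zpowers (y ^ (r - 1))).Normal := ⟨fun a ha g => by
    obtain ⟨k, rfl⟩ := Subgroup.mem_zpowers_iff.1 ha
    obtain ⟨l, hl⟩ := Subgroup.mem_zpowers_iff.1 (hNy g)
    refine Subgroup.mem_zpowers_iff.2 ⟨l * k, ?_⟩
    rw [← conj_zpow, ← conj_pow, ← hl, ← zpow_natCast, ← zpow_natCast, ← zpow_mul, ← zpow_mul, ← zpow_mul]
    ring_nf⟩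
  set φ := QuotientGroup.mk' (Subgroup.zpowers (y ^ (r - 1))) with hφ
  have hxy : Commute (φ x) (φ y) := by
    have h : φ (y ^ (r - 1)) = 1 :=
      (QuotientGroup.eq_one_iff _).2 (Subgroup.mem_zpowers _)
    have h1 : φ (x⁻¹ * y * x) = φ y := by
      rw [hrel, ← pow_sub_mul_pow y hr1, map_mul, h, one_mul, pow_one]
    have h2 : φ x⁻¹ * φ y * φ x = φ y := by rw [← map_mul, ← map_mul, h1]
    rw [map_inv] at h2
    calc φ x * φ y = φ x * ((φ x)⁻¹ * φ y * φ x) := by rw [h2]
      _ = φ y * φ x := by group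
  have hall : ∀ a : G, Commute (φ x) (φ a) ∧ Commute (φ y) (φ a) := by
    intro a
    have ha : a ∈ Subgroup.closure {x, y} := hclo ▸ Subgroup.mem_top a
    induction ha using Subgroup.closure_induction with
    | mem z hz =>
      rcases hz with rfl | rfl
      · exact ⟨Commute.refl _, hxy.symm⟩
      · exact ⟨hxy, Commute.refl _⟩
    | one => simp
    | mul u v _ _ hu hv => exact ⟨by rw [map_mul]; exact hu.1.mul_right hv.1,
        by rw [map_mul]; exact hu.2.mul_right hv.2⟩
    | inv u _ hu => exact ⟨by rw [map_inv]; exact hu.1.inv_right, by rw [map_inv]; exact hu.2.inv_right⟩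
  have hab : ∀ a b : G, Commute (φ a) (φ b) := by
    intro a b
    have ha : a ∈ Subgroup.closure {x, y} := hclo ▸ Subgroup.mem_top a
    induction ha using Subgroup.closure_induction with
    | mem z hz =>
      rcases hz with rfl | rfl
      · exact (hall b).1
      · exact (hall b).2
    | one => simp
    | mul u v _ _ hu hv => rw [map_mul]; exact hu.mul_left hv
    | inv u _ hu => rw [map_inv]; exact hu.inv_left
  have hle : commutator G ≤ Subgroup.zpowers (y ^ (r - 1)) := by
    rw [commutator_def, Subgroup.commutator_le]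
    intro a _ b _
    rw [← QuotientGroup.eq_one_iff, ← QuotientGroup.mk'_apply, ← hφ, map_commutatorElement,
      commutatorElement_eq_one_iff_commute]
    exact hab a b
  have hdvd : orderOf y ∣ orderOf (y ^ (r - 1)) := orderOf_dvd_of_mem_zpowers (hle hy)
  rw [orderOf_pow] at hdvd
  have hg := Nat.gcd_dvd_left (orderOf y) (r - 1)
  obtain ⟨c, hc⟩ := hdvd
  have hge : 0 < Nat.gcd (orderOf y) (r - 1) := Nat.gcd_pos_of_pos_left _ (orderOf_pos y)
  have h1 : orderOf y / Nat.gcd (orderOf y) (r - 1) = orderOf y :=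
    Nat.dvd_antisymm (Nat.div_dvd_of_dvd hg) ⟨c, hc⟩
  rcases (Nat.div_eq_self.1 h1) with h | h
  · exact absurd h (orderOf_pos y).ne'
  · rw [Nat.coprime_comm]; exact h

end Cfsg.Agent.S3379
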