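import Cfsg.Statements.S3380
import Cfsg.Agent.Lib.PGroup.NormalRankOne
import Cfsg.Agent.Lib.Solvable.UniqueSubgroup
import Cfsg.Agent.Lib.Transfer.CyclicMaximal
import Cfsg.Agent.Lib.Solvable.HallHigmanArith
import Cfsg.Agent.S0519

set_option autoImplicit false
open Cfsg

open scoped Pointwise

namespace Cfsg.Agent.S3380

open CfsgLib CfsgLib.PGroup

/-- Outside cyclic, quaternion, dihedral and semidihedral groups there is a normal subgroup of type
`(p, p)`. -/
theorem exists_elemAb {G : Type*} [Group G] [Finite G] (p : ℕ) [hp : Fact p.Prime] (hG : IsPGroup p G)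
    (hnc : ¬ IsCyclic G) (hnq : ∀ n : ℕ, ¬ Nonempty (G ≃* QuaternionGroup n))
    (hnd : ∀ n : ℕ, ¬ Nonempty (G ≃* DihedralGroup n)) (hnsd : ¬ Cfsg.IsQuasiDihedral G) :
    ∃ E : Subgroup G, E.Normal ∧ IsElementaryAbelian p E ∧ Nat.card E = p ^ 2 := by
  classical
  by_cases hn : ∀ A : Subgroup G, A.Normal → IsMulCommutative A → IsCyclic A
  · exfalso
    by_cases hm : ∃ B : Subgroup G, IsMulCommutative B ∧ ¬ IsCyclic B
    · rcases (Cfsg.Agent.S0519.result p hG hn hm).2 with ⟨n, h⟩ | ⟨n, -, h⟩ | h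
      · exact hnq n h
      · exact hnd n h
      · exact hnsd h
    push Not at hm
    have hnt : (⊤ : Subgroup G) ≠ ⊥ := fun h => hnc (by
      have h1 : ∀ a : G, a = 1 := fun a => Subgroup.mem_bot.1 (h ▸ Subgroup.mem_top a)
      haveI : Subsingleton G := ⟨fun a b => by rw [h1 a, h1 b]⟩
      infer_instance)
    obtain ⟨Z, -, hZc, -, hZ⟩ := PGroup.exists_card_eq_le_center hG ⊤ hnt
    have key : ∀ x : G, orderOf x = p → Subgroup.zpowers x = Z := by
      intro x hx
      set A := Subgroup.zpowers x ⊔ Z with hA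
      have hxz : ∀ a ∈ A, ∀ b ∈ A, a * b = b * a := by
        intro a ha b hb
        obtain ⟨a₁, ⟨i, rfl⟩, a₂, ha₂, rfl⟩ := Subgroup.mem_sup_of_normal_right.1
          (show a ∈ Subgroup.zpowers x ⊔ Subgroup.center G from sup_le_sup_left hZc _ ha)
        obtain ⟨b₁, ⟨j, rfl⟩, b₂, hb₂, rfl⟩ := Subgroup.mem_sup_of_normal_right.1
          (show b ∈ Subgroup.zpowers x ⊔ Subgroup.center G from sup_le_sup_left hZc _ hb)
        exact Commute.mul_left
          (Commute.mul_right (Commute.zpow_zpow_self x i j) (Subgroup.mem_center_iff.1 hb₂ _))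
          ((Subgroup.mem_center_iff.1 ha₂ _).symm)
      have hcyc : IsCyclic A :=
        hm A ⟨⟨fun a b => Subtype.ext (hxz a a.2 b b.2)⟩⟩
      have hdvd : Nat.card A ∣ p := by
        rw [← IsCyclic.exponent_eq_card, Monoid.exponent_dvd_iff_forall_pow_eq_one]
        rintro ⟨a, ha⟩
        refine Subtype.ext ?_
        show a ^ p = 1
        haveI : Z.Normal := ⟨fun z hz g => by
          rwa [Subgroup.mem_center_iff.1 (hZc hz) g, mul_inv_cancel_right]⟩
        obtain ⟨a₁, ⟨i, rfl⟩, a₂, ha₂, rfl⟩ := Subgroup.mem_sup_of_normal_right.1 ha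
        have h2 : a₂ ^ p = 1 := by
          have h3 : (⟨a₂, ha₂⟩ : Z) ^ Nat.card Z = 1 := pow_card_eq_one'
          rw [hZ] at h3
          exact congrArg Subtype.val h3
        rw [Commute.mul_pow (Subgroup.mem_center_iff.1 (hZc ha₂) _), h2, mul_one, ← zpow_natCast,
          ← zpow_mul, mul_comm, zpow_mul, zpow_natCast, ← hx, pow_orderOf_eq_one, one_zpow]
      have h1 := Subgroup.eq_of_le_of_card_ge (le_sup_left : Subgroup.zpowers x ≤ A)
        (by rw [Nat.card_zpowers, hx]; exact Nat.le_of_dvd hp.out.pos hdvd)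
      have h2 := Subgroup.eq_of_le_of_card_ge (le_sup_right : Z ≤ A)
        (by rw [hZ]; exact Nat.le_of_dvd hp.out.pos hdvd)
      exact h1.trans h2.symm
    rcases Solvable.isCyclic_or_quaternion hG (fun x y hx hy => by
        rw [key y hy, ← key x hx]; exact Subgroup.mem_zpowers x) with h | ⟨-, n, h⟩
    · exact hnc h
    · exact hnq _ h
  push Not at hn
  obtain ⟨A, hAn, hAm, hAc⟩ := hn
  have hcomm : ∀ a ∈ A, ∀ b ∈ A, a * b = b * a := fun a ha b hb =>
    congrArg Subtype.val (hAm.is_comm.comm ⟨a, ha⟩ ⟨b, hb⟩)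
  obtain ⟨k, hk⟩ := IsPGroup.iff_card.1 (hG.to_subgroup (omegaOne p A))
  have hk2 : 2 ≤ k := by
    by_contra hlt
    refine hAc (Transfer.isCyclic_of_omega_le hG hcomm ?_)
    rw [hk]
    exact (Nat.pow_le_pow_right hp.out.pos (by omega)).trans (pow_one p).le
  have := omegaOne_normal p A
  obtain ⟨U, hU, hUn, hUc⟩ := Transfer.exists_normal_card_sq hG (K := omegaOne p A) (hk ▸ pow_dvd_pow p hk2)
  exact ⟨U, hUn, PGroup.elemAb_mono (elemAb_omegaOne_of_comm hcomm) hU, hUc⟩

/-- A faithful irreducible module is induced from the centraliser of a normal subgroup of type `(p, p)`. -/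
theorem imprimitive (q : ℕ) [hq : Fact q.Prime] {V : Type*} [AddCommGroup V] [Module (ZMod q) V]
    [Finite V] [Nontrivial V] {G : Type*} [Group G] [Finite G] (p : ℕ) [hp : Fact p.Prime]
    (hG : IsPGroup p G) (ρ : G →* (V ≃ₗ[ZMod q] V)) (hρ : Function.Injective ρ)
    (hirr : ∀ W : Submodule (ZMod q) V, (∀ g : G, ∀ w ∈ W, ρ g w ∈ W) → W = ⊥ ∨ W = ⊤)
    (hnc : ¬ IsCyclic G) (E : Subgroup G) [E.Normal] (hEe : IsElementaryAbelian p E)
    (hEc : Nat.card E = p ^ 2) :
    ∃ (H : Subgroup G) (W : Fin p → Submodule (ZMod q) V), H.index = p ∧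
      iSup W = ⊤ ∧ iSupIndep W ∧
      (∀ h ∈ H, ∀ i, ∀ w ∈ W i, ρ h w ∈ W i) ∧
      (∀ i, ∃ h ∈ H, h ≠ 1 ∧ ∀ w ∈ W i, ρ h w = w) ∧
      ∀ g : G, g ∉ H → ∃ σ : Equiv.Perm (Fin p), orderOf σ = p ∧ ∀ i, (W i).map (ρ g : V →ₗ[ZMod q] V) = W (σ i) := by
  classical
  -- fixed spaces
  let Fx : G → Submodule (ZMod q) V := fun g => LinearMap.ker ((ρ g : V →ₗ[ZMod q] V) - 1)
  have hFx : ∀ (g : G) (v : V), v ∈ Fx g ↔ ρ g v = v := fun g v => by
    simp [Fx, sub_eq_zero]
  have hact : ∀ (g g' : G) (v : V), ρ g (ρ g' v) = ρ (g * g') v := fun g g' v => by rw [map_mul]; rfl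
  have hFxinv : ∀ g h : G, g * h = h * g → ∀ v ∈ Fx h, ρ g v ∈ Fx h := fun g h hgh v hv => by
    rw [hFx] at hv ⊢
    rw [hact, ← hgh, ← hact, hv]
  have hfaith : ∀ g : G, (∀ v, ρ g v = v) → g = 1 := fun g hg => hρ (by
    rw [map_one]; exact LinearEquiv.ext hg)
  have hEne : E ≠ ⊥ := fun h => by
    rw [h, Subgroup.card_bot] at hEc
    exact hp.out.ne_one (Nat.eq_one_of_mul_eq_one_right (by rw [hEc, sq] : p * p = 1))
  obtain ⟨Z, hZE, hZc, hZn, hZ⟩ := PGroup.exists_card_eq_le_center hG E hEne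
  obtain ⟨⟨z, hzZ⟩, hz₀⟩ := (isCyclic_of_prime_card hZ : IsCyclic Z).exists_generator
  have hZz : Z = Subgroup.zpowers z := le_antisymm (fun w hw => by
    obtain ⟨i, hi⟩ := hz₀ ⟨w, hw⟩
    exact ⟨i, congrArg Subtype.val hi⟩) (Subgroup.zpowers_le.2 hzZ)
  have hoz : orderOf z = p := by rw [← Nat.card_zpowers, ← hZz, hZ]
  have hz1 : z ≠ 1 := fun h => hp.out.ne_one (by rw [← hoz, h, orderOf_one])
  have hzp : z ^ p = 1 := hoz ▸ pow_orderOf_eq_one z
  have hzc : ∀ g, g * z = z * g := fun g => Subgroup.mem_center_iff.1 (hZc hzZ) g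
  obtain ⟨e, heE, heZ⟩ := SetLike.not_le_iff_exists.1 (fun h : E ≤ Z => by
    have := Subgroup.card_le_of_le h
    rw [hEc, hZ] at this
    nlinarith [hp.out.two_le])
  have hep : e ^ p = 1 := hEe.2 e heE
  have hez : Commute e z := hzc e
  have hCz : ∀ v, ρ z v = v → v = 0 := fun v hv => by
    rcases hirr (Fx z) (fun g w hw => hFxinv g z (hzc g) w hw) with h | h
    · exact (Submodule.mem_bot _).1 (h ▸ (hFx z v).2 hv)
    · exact absurd (hfaith z fun w => (hFx z w).1 (h ▸ Submodule.mem_top)) hz1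
  -- the norms
  let N : G → Module.End (ZMod q) V := fun g => ∑ j ∈ Finset.range p, (ρ (g ^ j) : V →ₗ[ZMod q] V)
  have hN : ∀ (g : G) (v : V), N g v = ∑ j ∈ Finset.range p, ρ (g ^ j) v := fun g v => by
    simp [N, LinearMap.sum_apply]
  have hNfix : ∀ g : G, g ^ p = 1 → ∀ v, ρ g (N g v) = N g v := fun g hg v => by
    rw [hN, map_sum]
    have h1 : ∑ j ∈ Finset.range p, ρ g (ρ (g ^ j) v) + ρ (g ^ 0) v =
        ∑ j ∈ Finset.range p, ρ (g ^ j) v + ρ (g ^ p) v := by
      rw [← Finset.sum_range_succ (fun j => ρ (g ^ j) v), Finset.sum_range_succ' (fun j => ρ (g ^ j) v)]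
      exact congrArg (· + _) (Finset.sum_congr rfl fun j _ => by rw [hact, pow_succ'])
    rw [hg, pow_zero] at h1
    exact add_right_cancel h1
  have hNself : ∀ (g : G) (v : V), ρ g v = v → N g v = p • v := fun g v hv => by
    have hpw : ∀ j : ℕ, ρ (g ^ j) v = v := fun j => by
      induction j with
      | zero => simp
      | succ j ih => rw [pow_succ, ← hact, hv, ih]
    rw [hN, Finset.sum_congr rfl fun j _ => hpw j, Finset.sum_const, Finset.card_range]
  have hfp : ∀ i : ℕ, (e * z ^ i) ^ p = 1 := fun i => by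
    rw [(hez.pow_right i).mul_pow, hep, one_mul, ← pow_mul, mul_comm, pow_mul, hzp, one_pow]
  have hNz : ∀ v, N z v = 0 := fun v => hCz _ (hNfix z hzp v)
  have hdecomp : ∀ v, ∑ i ∈ Finset.range p, N (e * z ^ i) v = p • v := by
    intro v
    rw [Finset.sum_congr rfl fun i _ => hN (e * z ^ i) v, Finset.sum_comm,
      Finset.sum_eq_single_of_mem 0 (Finset.mem_range.2 hp.out.pos) fun j hj hj0 => ?_]
    · simp
    · obtain ⟨t, ht⟩ := Solvable.exists_mul_mod_prime_pow (p := p) (m := 1) (j := j)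
        (Nat.pos_of_ne_zero hj0) (by rw [pow_one]; exact Finset.mem_range.1 hj)
      rw [pow_one, Nat.sub_self, pow_zero, Nat.mod_eq_of_lt hp.out.one_lt] at ht
      have h1 : ∀ i : ℕ, ρ ((e * z ^ i) ^ j) v = ρ (e ^ j) (ρ ((z ^ j) ^ i) v) := fun i => by
        rw [hact, (hez.pow_right i).mul_pow, ← pow_mul, ← pow_mul, mul_comm i j]
      rw [Finset.sum_congr rfl fun i _ => h1 i, ← map_sum]
      have h2 : ∑ i ∈ Finset.range p, ρ ((z ^ j) ^ i) v = 0 := by
        rw [← hN]
        refine hCz _ ?_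
        have h3 := hNfix (z ^ j) (by rw [← pow_mul, mul_comm, pow_mul, hzp, one_pow]) v
        have hpw : ∀ t : ℕ, ρ ((z ^ j) ^ t) (N (z ^ j) v) = N (z ^ j) v := fun t => by
          induction t with
          | zero => simp
          | succ t ih => rw [pow_succ, ← hact, h3, ih]
        have h4 := hpw t
        rwa [← pow_mul, ← Nat.mod_add_div (j * t) p, pow_add, pow_mul z p, hzp, one_pow, mul_one, ht,
          pow_one] at h4
      rw [h2, map_zero]
  -- the characteristic is not `p`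
  have hpq : (p : ZMod q) ≠ 0 := fun h => by
    have hpeq : q = p := (Nat.prime_dvd_prime_iff_eq hq.out hp.out).1 ((ZMod.natCast_eq_zero_iff _ _).1 h)
    subst hpeq
    letI : MulAction (Subgroup.zpowers z) V :=
      { smul := fun w v => ρ w.1 v
        one_smul := fun v => by show ρ 1 v = v; rw [map_one]; rfl
        mul_smul := fun w w' v => (hact w.1 w'.1 v).symm }
    have hZp : IsPGroup q (Subgroup.zpowers z) := hG.to_subgroup _
    have hd : q ∣ Nat.card V := by
      obtain ⟨v, hv⟩ := exists_ne (0 : V)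
      have h1 : addOrderOf v = q := addOrderOf_eq_prime (by
        rw [← Nat.cast_smul_eq_nsmul (ZMod q), h, zero_smul]) hv
      exact h1 ▸ addOrderOf_dvd_natCard v
    obtain ⟨v, hv, hv0⟩ := hZp.exists_fixed_point_of_prime_dvd_card_of_fixed_point (α := V) hd
      (a := 0) (fun w => map_zero (ρ w.1))
    exact hv0 (hCz v (hv ⟨z, Subgroup.mem_zpowers z⟩)).symm
  have hroot : ∀ v : V, p • v = 0 → v = 0 := fun v hv => by
    rw [← Nat.cast_smul_eq_nsmul (ZMod q), smul_eq_zero] at hv
    exact hv.resolve_left hpq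
  -- the cocycle
  have hcoc : ∀ g : G, ∃ c : ℕ, g * e = e * z ^ c * g := by
    intro g
    set π := QuotientGroup.mk' Z
    haveI : (E.map π).Normal := ‹E.Normal›.map π (QuotientGroup.mk'_surjective Z)
    obtain ⟨U, hUE, hUc, -, hU⟩ := PGroup.exists_card_eq_le_center (hG.to_quotient Z) (E.map π)
      fun h => heZ ((QuotientGroup.eq_one_iff e).1
        (Subgroup.mem_bot.1 (h ▸ Subgroup.mem_map_of_mem π heE)))
    have hUeq : U = E.map π := Subgroup.eq_of_le_of_card_ge hUE (by
      have h2 := Subgroup.card_mul_index (Z.subgroupOf E)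
      have h3 : (Z.subgroupOf E).index = Nat.card (E.map π) := by
        rw [← Subgroup.relIndex_ker]
        show Z.relIndex E = π.ker.relIndex E
        rw [show π.ker = Z from QuotientGroup.ker_mk' Z]
      rw [Nat.card_congr (Subgroup.subgroupOfEquivOfLe hZE).toEquiv, h3, hZ, hEc, sq] at h2
      rw [hU]; exact (Nat.eq_of_mul_eq_mul_left hp.out.pos h2).le)
    have h1 := Subgroup.mem_center_iff.1 (hUc (hUeq ▸ Subgroup.mem_map_of_mem π heE)) (π g)
    rw [← map_mul, ← map_mul] at h1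
    have h2 : (e * g)⁻¹ * (g * e) ∈ Subgroup.zpowers z := hZz ▸ QuotientGroup.eq.1 h1.symm
    obtain ⟨c, hc⟩ := (Submonoid.mem_powers_iff _ _).1 ((mem_powers_iff_mem_zpowers).2 h2)
    refine ⟨c, ?_⟩
    rw [eq_inv_mul_iff_mul_eq] at hc
    rw [← hc, mul_assoc, mul_assoc, ((Commute.pow_right (hzc g) c)).eq]
  choose c hc using hcoc
  have hcuniq : ∀ (g : G) (a : ℕ), g * e = e * z ^ a * g → (c g : ZMod p) = a := fun g a ha => by
    rw [hc g] at ha
    have h1 : z ^ c g = z ^ a := mul_left_cancel (mul_right_cancel ha)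
    rw [pow_eq_pow_iff_modEq, hoz] at h1
    exact (ZMod.natCast_eq_natCast_iff _ _ _).2 h1
  let φ : G →* Multiplicative (ZMod p) := MonoidHom.mk' (fun g => Multiplicative.ofAdd (c g : ZMod p))
    fun g g' => by
      rw [← ofAdd_add]
      refine congrArg _ ?_
      rw [← Nat.cast_add]
      refine hcuniq _ _ ?_
      rw [mul_assoc, hc g', ← mul_assoc, ← mul_assoc, hc g, mul_assoc (e * z ^ c g),
        (Commute.pow_right (hzc g) (c g')).eq, ← mul_assoc, mul_assoc e, ← pow_add]
      group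
  have hφker : ∀ g, g ∈ φ.ker ↔ g * e = e * g := by
    intro g
    rw [MonoidHom.mem_ker]
    constructor
    · intro h
      have h1 : (c g : ZMod p) = 0 := Multiplicative.ofAdd.injective h
      rw [hc g, ← Nat.mod_add_div (c g) p, pow_add, pow_mul z p, hzp, one_pow, mul_one,
        Nat.mod_eq_zero_of_dvd ((ZMod.natCast_eq_zero_iff _ _).1 h1), pow_zero, mul_one]
    · intro h
      show Multiplicative.ofAdd (c g : ZMod p) = 1
      rw [hcuniq g 0 (by rw [pow_zero, mul_one]; exact h)]; simp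
  have hnoncent : ∃ g, g ∉ φ.ker := by
    by_contra hall
    push Not at hall
    -- then some line acts trivially
    by_cases htriv : ∀ i < p, Fx (e * z ^ i) = ⊥
    · obtain ⟨v, hv⟩ := exists_ne (0 : V)
      refine hv (hroot v ?_)
      rw [← hdecomp]
      exact Finset.sum_eq_zero fun i hi => (Submodule.mem_bot _).1
        (htriv i (Finset.mem_range.1 hi) ▸ (hFx _ _).2 (hNfix _ (hfp i) v))
    push Not at htriv
    obtain ⟨i, -, hi⟩ := htriv
    refine heZ ?_
    have hcomm : ∀ g, g * (e * z ^ i) = e * z ^ i * g := fun g =>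
      (Commute.mul_right ((hφker g).1 (hall g)) (Commute.pow_right (hzc g) i) :)
    have h1 : e * z ^ i = 1 := hfaith _ fun v =>
      (hFx _ v).1 (((hirr _ fun g w hw => hFxinv g _ (hcomm g) w hw).resolve_left hi) ▸ Submodule.mem_top)
    rw [mul_eq_one_iff_eq_inv.1 h1]
    exact inv_mem (pow_mem hzZ i)
  let W : Fin p → Submodule (ZMod q) V := fun i => Fx (e * z ^ (i : ℕ))
  have hindex : φ.ker.index = p := by
    rw [Subgroup.index_ker]
    obtain ⟨g, hg⟩ := hnoncent
    have hd : Nat.card φ.range ∣ p := by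
      have := Subgroup.card_subgroup_dvd_card φ.range
      rwa [Nat.card_congr Multiplicative.toAdd, Nat.card_zmod] at this
    refine ((Nat.dvd_prime hp.out).1 hd).resolve_left fun h1 => hg ?_
    rw [MonoidHom.mem_ker, ← Subgroup.mem_bot, ← Subgroup.card_eq_one.1 h1]
    exact ⟨g, rfl⟩
  refine ⟨φ.ker, W, hindex, ?_, ?_, ?_, ?_, ?_⟩
  · rw [eq_top_iff]
    intro v _
    have h1 : p • v ∈ iSup W := by
      rw [← hdecomp]
      exact Submodule.sum_mem _ fun i hi =>
        Submodule.mem_iSup_of_mem (⟨i, Finset.mem_range.1 hi⟩ : Fin p) ((hFx _ _).2 (hNfix _ (hfp i) v))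
    have h2 := Submodule.smul_mem _ (p : ZMod q)⁻¹ h1
    rwa [← Nat.cast_smul_eq_nsmul (ZMod q), smul_smul, inv_mul_cancel₀ hpq, one_smul] at h2
  · rw [iSupIndep_def]
    intro i
    rw [Submodule.disjoint_def]
    intro v hv hv'
    have hker : (⨆ (j) (_ : j ≠ i), W j) ≤ LinearMap.ker (N (e * z ^ (i : ℕ))) := by
      refine iSup₂_le fun j hj w hw => ?_
      rw [LinearMap.mem_ker]
      have hA : ρ (e * z ^ (i : ℕ)) (N (e * z ^ (i : ℕ)) w) = N (e * z ^ (i : ℕ)) w := hNfix _ (hfp _) _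
      have hB : ρ (e * z ^ (j : ℕ)) (N (e * z ^ (i : ℕ)) w) = N (e * z ^ (i : ℕ)) w := by
        rw [hN, map_sum]
        refine Finset.sum_congr rfl fun m _ => ?_
        have hcm : Commute (e * z ^ (j : ℕ)) ((e * z ^ (i : ℕ)) ^ m) :=
          ((((Commute.refl e).mul_right (hez.pow_right i)).mul_left
            (((hez.symm).pow_left j).mul_right ((Commute.refl z).pow_pow j i))).pow_right m)
        rw [hact, hcm.eq, ← hact, (hFx _ w).1 hw]
      set u := N (e * z ^ (i : ℕ)) w
      -- both lines fix `u`, so `z` does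
      have hmove : ∀ a b : ℕ, a < b → b < p → ρ (e * z ^ a) u = u → ρ (e * z ^ b) u = u → u = 0 := by
        intro a b hab hb ha' hb'
        obtain ⟨t, ht⟩ := Solvable.exists_mul_mod_prime_pow (p := p) (m := 1) (j := b - a)
          (by omega) (by rw [pow_one]; omega)
        rw [pow_one, Nat.sub_self, pow_zero, Nat.mod_eq_of_lt hp.out.one_lt] at ht
        have h1 : ρ (z ^ (b - a)) u = u := by
          apply (ρ (e * z ^ a)).injective
          rw [hact, mul_assoc, ← pow_add, Nat.add_sub_cancel' hab.le, hb', ha']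
        have hpw : ∀ t : ℕ, ρ ((z ^ (b - a)) ^ t) u = u := fun t => by
          induction t with
          | zero => simp
          | succ t ih => rw [pow_succ, ← hact, h1, ih]
        have h4 := hpw t
        rw [← pow_mul, ← Nat.mod_add_div ((b - a) * t) p, pow_add, pow_mul z p, hzp, one_pow, mul_one,
          ht, pow_one] at h4
        exact hCz u h4
      rcases lt_or_gt_of_ne (fun h => hj (Fin.ext h) : (j : ℕ) ≠ i) with h | h
      · exact hmove _ _ h i.2 hB hA
      · exact hmove _ _ h j.2 hA hB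
    have h1 := LinearMap.mem_ker.1 (hker hv')
    rw [hNself _ v ((hFx _ v).1 hv)] at h1
    exact hroot v h1
  · intro h hh i w hw
    exact hFxinv h _ ((Commute.mul_right ((hφker h).1 hh) (Commute.pow_right (hzc h) i)) :) w hw
  · intro i
    refine ⟨e * z ^ (i : ℕ), (hφker _).2 ?_, fun h => heZ ?_, fun w hw => (hFx _ w).1 hw⟩
    · exact ((Commute.refl e).mul_left ((hez.symm).pow_left i) :)
    · rw [mul_eq_one_iff_eq_inv.1 h]
      exact inv_mem (pow_mem hzZ i)
  · intro g hg
    haveI : NeZero p := ⟨hp.out.ne_zero⟩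
    refine ⟨Equiv.addRight (Fin.ofNat p (c g)), orderOf_eq_prime ?_ ?_, fun i => ?_⟩
    · have hpw : ∀ (m : ℕ) (a : Fin p), (Equiv.addRight (Fin.ofNat p (c g)) ^ m) a = a + Fin.ofNat p (m * c g) := by
        intro m
        induction m with
        | zero => intro a; simp
        | succ m ih =>
          intro a
          rw [pow_succ, Equiv.Perm.mul_apply, ih]
          apply Fin.ext
          simp [Fin.val_add, Fin.ofNat, add_mul]
          ring_nf
      refine Equiv.ext fun a => ?_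
      rw [hpw]
      simp [Fin.ofNat]
    · intro h
      refine hg ((hφker g).2 ?_)
      have h1 : Fin.ofNat p (c g) = 0 := by simpa using Equiv.Perm.congr_fun h 0
      have h2 : c g % p = 0 := by simpa [Fin.ofNat] using congrArg Fin.val h1
      rw [hc g, ← Nat.mod_add_div (c g) p, pow_add, pow_mul z p, hzp, one_pow, mul_one, h2, pow_zero,
        mul_one]
    · have h1 : g * (e * z ^ (i : ℕ)) =
          e * z ^ ((Equiv.addRight (Fin.ofNat p (c g)) i : Fin p) : ℕ) * g := by
        rw [← mul_assoc, hc g, mul_assoc (e * z ^ c g), (Commute.pow_right (hzc g) (i : ℕ)).eq,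
          ← mul_assoc, mul_assoc e, ← pow_add]
        congr 2
        conv_lhs => rw [← Nat.mod_add_div (c g + i) p, pow_add, pow_mul z p, hzp, one_pow, mul_one]
        congr 1
        simp [Fin.val_add, Fin.ofNat, add_comm]
      ext v
      rw [Submodule.mem_map]
      constructor
      · rintro ⟨w, hw, rfl⟩
        refine (hFx _ _).2 ?_
        show ρ _ (ρ g w) = ρ g w
        rw [hact, ← h1, ← hact, (hFx _ w).1 hw]
      · intro hv
        refine ⟨ρ g⁻¹ v, (hFx _ _).2 ?_, ?_⟩
        · apply (ρ g).injective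
          rw [hact, h1, hact, mul_assoc, mul_inv_cancel, mul_one, hact, mul_inv_cancel, map_one,
            (hFx _ v).1 hv]
          rfl
        · show ρ g (ρ g⁻¹ v) = v
          rw [hact, mul_inv_cancel, map_one]; rfl

/-- Let a finite p-group G act faithfully and irreducibly on a non-trivial finite vector space V over the field with q elements (q prime), and suppose G is not cyclic, generalized quaternion, dihedral or semidihedral. Then G has a subgroup H of index p and V is the direct sum of p subspaces, each invariant under H, on none of which H acts faithfully, and which every element of G outside H permutes in a single p-cycle. -/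
theorem result
    (q : ℕ) [Fact q.Prime] {V : Type*} [AddCommGroup V] [Module (ZMod q) V] [Finite V] [Nontrivial V]
    {G : Type*} [Group G] [Finite G] (p : ℕ) [Fact p.Prime] (hG : IsPGroup p G)
    (ρ : G →* (V ≃ₗ[ZMod q] V)) (hρ : Function.Injective ρ)
    (hirr : ∀ W : Submodule (ZMod q) V, (∀ g : G, ∀ w ∈ W, ρ g w ∈ W) → W = ⊥ ∨ W = ⊤)
    (hnc : ¬ IsCyclic G) (hnq : ∀ n : ℕ, ¬ Nonempty (G ≃* QuaternionGroup n))
    (hnd : ∀ n : ℕ, ¬ Nonempty (G ≃* DihedralGroup n)) (hnsd : ¬ Cfsg.IsQuasiDihedral G) :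
    ∃ (H : Subgroup G) (W : Fin p → Submodule (ZMod q) V), H.index = p ∧
      iSup W = ⊤ ∧ iSupIndep W ∧
      (∀ h ∈ H, ∀ i, ∀ w ∈ W i, ρ h w ∈ W i) ∧
      (∀ i, ∃ h ∈ H, h ≠ 1 ∧ ∀ w ∈ W i, ρ h w = w) ∧
      ∀ g : G, g ∉ H → ∃ σ : Equiv.Perm (Fin p), orderOf σ = p ∧ ∀ i, (W i).map (ρ g : V →ₗ[ZMod q] V) = W (σ i) := by
  classical
  obtain ⟨E, hEn, hEe, hEc⟩ := exists_elemAb p hG hnc hnq hnd hnsd
  exact imprimitive q p hG ρ hρ hirr hnc E hEe hEc

end Cfsg.Agent.S3380
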