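import Cfsg.Statements.S3381

set_option autoImplicit false
open Cfsg

namespace Cfsg.Agent.S3381

section
variable {q : ℕ} {V : Type*} [AddCommGroup V] [Module (ZMod q) V] {G : Type*} [Group G]
  (ρ : G →* (V ≃ₗ[ZMod q] V))

/-- Fixed vectors. -/
def fixV (g : G) : AddSubgroup V where
  carrier := {v | ρ g v = v}
  add_mem' := fun {a b} ha hb => by
    simp only [Set.mem_ofPred_eq] at *
    rw [map_add, ha, hb]
  zero_mem' := map_zero (ρ g)
  neg_mem' := fun {a} ha => by
    simp only [Set.mem_ofPred_eq] at *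
    rw [map_neg, ha]

lemma mem_fixV {g : G} {v : V} : v ∈ fixV ρ g ↔ ρ g v = v := Iff.rfl

lemma mul_apply' (g h : G) (v : V) : ρ (g * h) v = ρ g (ρ h v) := by rw [map_mul]; rfl

lemma card_mul_le [Finite V] {A B : AddSubgroup V} (h : A ⊓ B = ⊥) :
    Nat.card A * Nat.card B ≤ Nat.card V := by
  rw [← Nat.card_prod]
  exact Nat.card_le_card_of_injective (fun x : A × B => (x.1 : V) + x.2)
    (AddSubgroup.add_injective_of_disjoint (disjoint_iff.2 h))

lemma stab_unique [Finite G] (hstab : ∀ v : V, v ≠ 0 → Nat.card {g : G // ρ g v = v} = 2)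
    {v : V} (hv : v ≠ 0) :
    (∃ t : G, t ≠ 1 ∧ ρ t v = v) ∧ ∀ s t : G, s ≠ 1 → t ≠ 1 → ρ s v = v → ρ t v = v → s = t := by
  have h1 : ρ 1 v = v := by rw [map_one]; rfl
  obtain ⟨⟨t, ht⟩, hne, huniq⟩ := (Nat.card_eq_two_iff' (⟨1, h1⟩ : {g : G // ρ g v = v})).1 (hstab v hv)
  refine ⟨⟨t, fun h => hne (Subtype.ext h), ht⟩, fun a b ha hb hav hbv => ?_⟩
  have hA := huniq ⟨a, hav⟩ fun h => ha (congrArg Subtype.val h)
  have hB := huniq ⟨b, hbv⟩ fun h => hb (congrArg Subtype.val h)
  exact (congrArg Subtype.val hA).trans (congrArg Subtype.val hB).symm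

end

/-- Let G be a finite group acting faithfully and linearly on a non-trivial finite vector space V over the field with q elements (q prime) so that every non-zero vector has a stabilizer of order 2, and suppose G has a central involution. Then V has q^(2r) elements for some r and G contains exactly q^r + 1 non-central involutions. -/
theorem result
    (q : ℕ) [Fact q.Prime] {V : Type*} [AddCommGroup V] [Module (ZMod q) V] [Finite V] [Nontrivial V]
    {G : Type*} [Group G] [Finite G] (ρ : G →* (V ≃ₗ[ZMod q] V)) (hρ : Function.Injective ρ)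
    (hstab : ∀ v : V, v ≠ 0 → Nat.card {g : G // ρ g v = v} = 2)
    (z : G) (hz : orderOf z = 2) (hzc : z ∈ Subgroup.center G) :
    ∃ r : ℕ, Nat.card V = q ^ (2 * r) ∧
      Nat.card {g : G // orderOf g = 2 ∧ g ∉ Subgroup.center G} = q ^ r + 1 := by
  classical
  have hq : q.Prime := Fact.out
  have hone : ∀ v : V, ρ 1 v = v := fun v => by rw [map_one]; rfl
  have hU : ∀ v : V, v ≠ 0 → _ := fun v hv => (stab_unique ρ hstab hv).2
  have hE : ∀ v : V, v ≠ 0 → _ := fun v hv => (stab_unique ρ hstab hv).1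
  have hne : ∀ g : G, orderOf g = 2 → g ≠ 1 := fun g hg h => by simp [h] at hg
  have hsq : ∀ g : G, orderOf g = 2 → g * g = 1 := fun g hg => by
    rw [← sq, ← hg]; exact pow_orderOf_eq_one g
  -- central involutions negate
  have hneg : ∀ c : G, orderOf c = 2 → c ∈ Subgroup.center G → ∀ u : V, ρ c u = -u := by
    intro c hc hcc
    have hfree : ∀ v : V, ρ c v = v → v = 0 := by
      intro v hv
      by_contra hv0
      obtain ⟨u, hu⟩ : ∃ u : V, ρ c u ≠ u := by
        by_contra hall
        push Not at hall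
        exact hne c hc (hρ (LinearEquiv.ext fun x => (hall x).trans (hone x).symm))
      have hu0 : u ≠ 0 := fun h => hu (by rw [h, map_zero])
      obtain ⟨t, ht1, htu⟩ := hE u hu0
      have huv : u + v ≠ 0 := fun h => hu (by
        rw [eq_neg_of_add_eq_zero_left h, map_neg, hv])
      obtain ⟨s, hs1, hsuv⟩ := hE _ huv
      have hcomm : ∀ g : G, ∀ x : V, ρ g (ρ c x) = ρ c (ρ g x) := fun g x => by
        rw [← mul_apply', ← mul_apply', Subgroup.mem_center_iff.1 hcc g]
      have hw : ρ c u - u ≠ 0 := sub_ne_zero.2 hu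
      have htw : ρ t (ρ c u - u) = ρ c u - u := by rw [map_sub, hcomm, htu]
      have hsw : ρ s (ρ c u - u) = ρ c u - u := by
        have h2 : ρ c u - u = ρ c (u + v) - (u + v) := by rw [map_add, hv]; abel
        rw [h2, map_sub, hcomm, hsuv]
      have hst : s = t := hU _ hw s t hs1 ht1 hsw htw
      have htv : ρ t v = v := by
        rw [hst, map_add, htu] at hsuv
        exact add_left_cancel hsuv
      have htc : t = c := hU v hv0 t c ht1 (hne c hc) htv hv
      exact hu (htc ▸ htu)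
    intro u
    have h := hfree (u + ρ c u) (by
      rw [map_add, ← mul_apply', hsq c hc, hone, add_comm])
    exact eq_neg_of_add_eq_zero_right h
  have hzne : ∀ v : V, v ≠ 0 → -v ≠ v := by
    intro v hv h
    have hz2 : ρ z v = v := by rw [hneg z hz hzc, h]
    refine hne z hz (hρ (LinearEquiv.ext fun x => ?_))
    rw [hone]
    rcases eq_or_ne x 0 with rfl | hx
    · simp
    · rw [hneg z hz hzc]
      have h2 : (2 : ZMod q) • v = 0 := by rw [two_smul]; nth_rw 1 [← h]; exact neg_add_cancel v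
      rcases smul_eq_zero.1 h2 with h2 | h2
      · have hxx : x + x = 0 := by rw [← two_smul (ZMod q) x, h2, zero_smul]
        exact neg_eq_of_add_eq_zero_left hxx
      · exact absurd h2 hv
  let I := {g : G // orderOf g = 2 ∧ g ∉ Subgroup.center G}
  change ∃ r : ℕ, _ ∧ Nat.card I = _
  -- z translation
  have hzI : ∀ t : I, orderOf (t.1 * z) = 2 ∧ t.1 * z ∉ Subgroup.center G := by
    intro t
    have hnc : t.1 * z ∉ Subgroup.center G := fun h => t.2.2 (by
      simpa using mul_mem h (inv_mem hzc))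
    refine ⟨orderOf_eq_prime ?_ (fun h => hnc (h ▸ one_mem _)), hnc⟩
    rw [sq, ← mul_assoc, mul_assoc t.1 z t.1, ← (Subgroup.mem_center_iff.1 hzc t.1), ← mul_assoc, hsq _ t.2.1, one_mul,
      hsq z hz]
  let Z : I → I := fun t => ⟨t.1 * z, hzI t⟩
  let F : I → AddSubgroup V := fun t => fixV ρ t.1
  have hFZ : ∀ (t : I) (v : V), v ∈ F (Z t) ↔ ρ t.1 v = -v := by
    intro t v
    show ρ (t.1 * z) v = v ↔ _
    rw [mul_apply', hneg z hz hzc, map_neg, neg_eq_iff_eq_neg]
  have hdis : ∀ s t : I, s ≠ t → F s ⊓ F t = ⊥ := by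
    intro s t hst
    refine (AddSubgroup.eq_bot_iff_forall _).2 fun v hv => ?_
    by_contra hv0
    exact hst (Subtype.ext (hU v hv0 _ _ (hne _ s.2.1) (hne _ t.2.1) hv.1 hv.2))
  have hcover : ∀ v : V, v ≠ 0 → ∃ t : I, v ∈ F t := by
    intro v hv
    obtain ⟨t, ht1, htv⟩ := hE v hv
    have ht2 : t * t = 1 := by
      by_contra h
      have := hU v hv (t * t) t h ht1 (by rw [mul_apply', htv, htv]) htv
      exact ht1 (mul_eq_left.1 this)
    have hto : orderOf t = 2 := orderOf_eq_prime (by rw [sq, ht2]) ht1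
    exact ⟨⟨t, hto, fun hc => hzne v hv ((hneg t hto hc v).symm.trans htv)⟩, htv⟩
  have hprod : ∀ t : I, Nat.card (F t) * Nat.card (F (Z t)) = Nat.card V := by
    intro t
    refine le_antisymm (card_mul_le (hdis _ _ fun h => ?_)) ?_
    · have := congrArg Subtype.val h
      exact hne z hz (mul_eq_left.1 this.symm)
    · rw [← Nat.card_prod]
      have htt : ∀ x, ρ t.1 (ρ t.1 x) = x := fun x => by rw [← mul_apply', hsq _ t.2.1, hone]
      refine Nat.card_le_card_of_injective (fun v : V =>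
        ((⟨v + ρ t.1 v, by show ρ t.1 _ = _; rw [map_add, htt, add_comm]⟩,
          ⟨v - ρ t.1 v, (hFZ t _).2 (by rw [map_sub, htt, neg_sub])⟩) : F t × F (Z t))) ?_
      intro a b hab
      simp only [Prod.mk.injEq, Subtype.mk.injEq] at hab
      have h2 : (a - b) + (a - b) = 0 := by
        have e1 := sub_eq_zero.2 hab.1
        have e2 := sub_eq_zero.2 hab.2
        calc (a - b) + (a - b) = ((a + ρ t.1 a) - (b + ρ t.1 b)) + ((a - ρ t.1 a) - (b - ρ t.1 b)) := by abel
          _ = 0 := by rw [e1, e2, add_zero]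
      by_contra hne'
      exact hzne (a - b) (sub_ne_zero.2 hne') (neg_eq_of_add_eq_zero_left h2)
  obtain ⟨v0, hv0⟩ := exists_ne (0 : V)
  obtain ⟨t0, ht0⟩ := hcover v0 hv0
  have hpos : ∀ t : I, 0 < Nat.card (F t) := fun t => Nat.card_pos
  -- any two involutions in different pairs
  have hpair : ∀ s t : I, s ≠ t → s ≠ Z t →
      Nat.card (F s) = Nat.card (F t) ∧ Nat.card (F t) * Nat.card (F t) = Nat.card V := by
    intro s t h1 h2
    have hZZ : ∀ x : I, Z (Z x) = x := fun x => Subtype.ext (by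
      show x.1 * z * z = x.1
      rw [mul_assoc, hsq z hz, mul_one])
    have a1 := card_mul_le (hdis s t h1)
    have a2 := card_mul_le (hdis s (Z t) h2)
    have a3 := card_mul_le (hdis (Z s) t fun h => h2 (by rw [← h, hZZ]))
    have a4 := card_mul_le (hdis (Z s) (Z t) fun h => h1 (by rw [← hZZ s, h, hZZ]))
    have b1 := hprod s
    have b2 := hprod t
    set A := Nat.card (F s)
    set A' := Nat.card (F (Z s))
    set B := Nat.card (F t)
    set B' := Nat.card (F (Z t))
    have hAB : A ≤ B := Nat.le_of_mul_le_mul_right (a2.trans b2.ge) (hpos _)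
    have hBA : B ≤ A := by
      exact Nat.le_of_mul_le_mul_left (show A' * B ≤ A' * A from (a3.trans b1.ge).trans_eq (mul_comm A A')) (hpos (Z s))
    have hAB' : A = B := le_antisymm hAB hBA
    refine ⟨hAB', le_antisymm (hAB' ▸ a1) ?_⟩
    have : B' * B' ≤ B * B' := by
      have hA' : A' = B' := Nat.eq_of_mul_eq_mul_left (show 0 < A from hpos s) (b1.trans (by rw [hAB']; exact b2.symm))
      rw [b2]; exact hA' ▸ a4
    rw [← b2]
    exact Nat.mul_le_mul_left _ (Nat.le_of_mul_le_mul_right this (hpos _))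
  obtain ⟨s0, hs0, hs0'⟩ : ∃ s : I, s ≠ t0 ∧ s ≠ Z t0 := by
    by_contra hall
    push Not at hall
    have hAB : ∀ v : V, v ∈ F t0 ∨ v ∈ F (Z t0) := by
      intro v
      rcases eq_or_ne v 0 with rfl | hv
      · exact Or.inl (zero_mem _)
      · obtain ⟨t, ht⟩ := hcover v hv
        by_cases h : t = t0
        · exact Or.inl (h ▸ ht)
        · exact Or.inr (hall t h ▸ ht)
    obtain ⟨v1, hv1, hv10⟩ : ∃ v ∈ F (Z t0), v ≠ 0 := by
      by_contra h
      push Not at h
      refine hne t0.1 t0.2.1 (hρ (LinearEquiv.ext fun x => ?_))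
      rw [hone]
      rcases hAB x with hx | hx
      · exact hx
      · rw [h x hx, map_zero]
    rcases hAB (v0 + v1) with h | h
    · have : v1 ∈ F t0 := by simpa using sub_mem h ht0
      exact hv10 ((AddSubgroup.eq_bot_iff_forall _).1 (hdis t0 (Z t0) fun e => hne z hz
        (mul_eq_left.1 (congrArg Subtype.val e).symm)) v1 ⟨this, hv1⟩)
    · have : v0 ∈ F (Z t0) := by simpa using sub_mem h hv1
      exact hv0 ((AddSubgroup.eq_bot_iff_forall _).1 (hdis t0 (Z t0) fun e => hne z hz
        (mul_eq_left.1 (congrArg Subtype.val e).symm)) v0 ⟨ht0, this⟩)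
  obtain ⟨hA, hsqA⟩ := hpair s0 t0 hs0 hs0'
  set A := Nat.card (F t0) with hAdef
  have hall : ∀ t : I, Nat.card (F t) = A := by
    intro t
    by_cases h1 : t = t0
    · rw [h1]
    by_cases h2 : t = Z t0
    · subst h2
      exact Nat.eq_of_mul_eq_mul_left (hpos t0) ((hprod t0).trans hsqA.symm)
    exact (hpair t t0 h1 h2).1
  haveI := Module.Finite.of_finite (R := ZMod q) (M := V)
  have hcardV : Nat.card V = q ^ Module.finrank (ZMod q) V := by
    rw [Module.natCard_eq_pow_finrank (K := ZMod q), Nat.card_zmod]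
  obtain ⟨r, -, hr⟩ := (Nat.dvd_prime_pow hq).1 (hcardV ▸ hsqA ▸ dvd_mul_right A A)
  refine ⟨r, by rw [← hsqA, hr, two_mul, pow_add], ?_⟩
  let e : (Σ t : I, {v : F t // (v : V) ≠ 0}) → {v : V // v ≠ 0} := fun x => ⟨x.2.1.1, x.2.2⟩
  have hbij : Function.Bijective e := by
    constructor
    · rintro ⟨s, ⟨⟨v, hv⟩, hv0⟩⟩ ⟨t, ⟨⟨w, hw⟩, hw0⟩⟩ h
      obtain rfl : v = w := congrArg Subtype.val h
      obtain rfl : s = t := Subtype.ext (hU v hv0 _ _ (hne _ s.2.1) (hne _ t.2.1) hv hw)
      rfl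
    · rintro ⟨v, hv⟩
      obtain ⟨t, ht⟩ := hcover v hv
      exact ⟨⟨t, ⟨⟨v, ht⟩, hv⟩⟩, rfl⟩
  have hcount := Nat.card_eq_of_bijective e hbij
  haveI := Fintype.ofFinite I
  rw [Nat.card_sigma] at hcount
  have hone' : ∀ t : I, Nat.card {v : F t // (v : V) ≠ 0} = A - 1 := by
    intro t
    haveI := Fintype.ofFinite (F t)
    rw [← hall t, Nat.card_eq_fintype_card, Nat.card_eq_fintype_card]
    simp
  have hone'' : Nat.card {v : V // v ≠ 0} = Nat.card V - 1 := by
    haveI := Fintype.ofFinite V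
    rw [Nat.card_eq_fintype_card, Nat.card_eq_fintype_card]
    simp
  rw [Finset.sum_congr rfl (fun t _ => hone' t), Finset.sum_const, Finset.card_univ, smul_eq_mul,
    ← Nat.card_eq_fintype_card, hone'', ← hsqA] at hcount
  have hA1 : 1 < A := by
    rw [hAdef, AddSubgroup.one_lt_card_iff_ne_bot]
    intro h
    exact hv0 ((AddSubgroup.mem_bot).1 (h ▸ ht0))
  rw [← hr]
  refine Nat.eq_of_mul_eq_mul_right (Nat.sub_pos_of_lt hA1) (hcount.trans ?_)
  rw [← Nat.mul_self_sub_mul_self_eq, Nat.mul_one]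

end Cfsg.Agent.S3381
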