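import Cfsg.Statements.S3382

set_option autoImplicit false
open Cfsg

namespace Cfsg.Agent.S3382

attribute [-simp] ZMod.inv_coe_unit

section
variable {q : ℕ} [Fact q.Prime]

/-- The monomial map with parameters `(σ, a, s)`. -/
def el (σ : Bool) (a s : (ZMod q)ˣ) : (Fin 2 → ZMod q) ≃ₗ[ZMod q] (Fin 2 → ZMod q) where
  toFun v := if σ then ![(s : ZMod q) * (a : ZMod q)⁻¹ * v 1, (a : ZMod q) * v 0]
    else ![(a : ZMod q) * v 0, (s : ZMod q) * (a : ZMod q)⁻¹ * v 1]
  invFun v := if σ then ![(a : ZMod q)⁻¹ * v 1, (a : ZMod q) * (s : ZMod q)⁻¹ * v 0]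
    else ![(a : ZMod q)⁻¹ * v 0, (a : ZMod q) * (s : ZMod q)⁻¹ * v 1]
  map_add' v w := by cases σ <;> funext i <;> fin_cases i <;> simp [mul_add]
  map_smul' c v := by cases σ <;> funext i <;> fin_cases i <;> simp [mul_left_comm]
  left_inv v := by
    have ha : (a : ZMod q) ≠ 0 := a.ne_zero
    have hs : (s : ZMod q) ≠ 0 := s.ne_zero
    cases σ <;> funext i <;> fin_cases i <;> simp <;> field_simp
  right_inv v := by
    have ha : (a : ZMod q) ≠ 0 := a.ne_zero
    have hs : (s : ZMod q) ≠ 0 := s.ne_zero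
    cases σ <;> funext i <;> fin_cases i <;> simp <;> field_simp

lemma el_apply (σ : Bool) (a s : (ZMod q)ˣ) (v : Fin 2 → ZMod q) :
    el σ a s v = if σ then ![(s : ZMod q) * (a : ZMod q)⁻¹ * v 1, (a : ZMod q) * v 0]
    else ![(a : ZMod q) * v 0, (s : ZMod q) * (a : ZMod q)⁻¹ * v 1] := rfl

lemma val_inv' (a : (ZMod q)ˣ) : ((a⁻¹ : (ZMod q)ˣ) : ZMod q) = (a : ZMod q)⁻¹ :=
  Units.val_inv_eq_inv_val a

lemma el_mul (σ τ : Bool) (a s c t : (ZMod q)ˣ) :
    el σ a s * el τ c t = el (xor σ τ) (if τ then s * c * a⁻¹ else a * c) (s * t) := by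
  refine LinearEquiv.ext fun v => ?_
  show el σ a s (el τ c t v) = _
  have ha : (a : ZMod q) ≠ 0 := a.ne_zero
  have hc : (c : ZMod q) ≠ 0 := c.ne_zero
  have hs : (s : ZMod q) ≠ 0 := s.ne_zero
  funext i
  cases σ <;> cases τ <;> fin_cases i <;>
    simp [el_apply, Units.val_mul, val_inv', -ZMod.inv_coe_unit] <;> field_simp

lemma el_one : el false (1 : (ZMod q)ˣ) 1 = 1 := by
  refine LinearEquiv.ext fun v => ?_
  funext i
  fin_cases i <;> simp [el_apply]

lemma el_inj {σ τ : Bool} {a s c t : (ZMod q)ˣ} (h : el σ a s = el τ c t) :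
    σ = τ ∧ a = c ∧ s = t := by
  have h0 := DFunLike.congr_fun h ![1, 0]
  have h1 := DFunLike.congr_fun h ![0, 1]
  cases σ <;> cases τ <;> simp [el_apply, a.ne_zero, c.ne_zero] at h0 h1
  all_goals
    obtain rfl : a = c := Units.ext h0
    refine ⟨rfl, rfl, ?_⟩
    have h2 := mul_right_cancel₀ (inv_ne_zero a.ne_zero) h1
    first
    | exact Units.ext h2
    | exact Units.ext h2.symm

/-- An endomorphism of an abelian 2-group fixing the involutions has 2-power order. -/
lemma fix_omega {M : Type*} [Group M] (D : Subgroup M) (hDc : ∀ a ∈ D, ∀ b ∈ D, a * b = b * a)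
    (β : MulAut M) (hD : ∀ a ∈ D, β a ∈ D) (h2 : ∀ a ∈ D, a ^ 2 = 1 → β a = a) (j : ℕ) :
    (∀ a ∈ D, (β ^ 2 ^ j) a ∈ D) ∧ ∀ a ∈ D, a ^ 2 ^ (j + 1) = 1 → (β ^ 2 ^ j) a = a := by
  induction j with
  | zero => simpa using ⟨hD, h2⟩
  | succ j ih =>
    have hmul : ∀ a, (β ^ 2 ^ (j + 1)) a = (β ^ 2 ^ j) ((β ^ 2 ^ j) a) := fun a => by
      rw [pow_succ 2 j, mul_two, pow_add]; rfl
    refine ⟨fun a ha => by rw [hmul]; exact ih.1 _ (ih.1 a ha), fun a ha hpow => ?_⟩
    set γ := β ^ 2 ^ j
    have hc : a⁻¹ * γ a ∈ D := mul_mem (inv_mem ha) (ih.1 a ha)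
    have hsq : γ a ^ 2 = a ^ 2 := by
      rw [← map_pow]
      exact ih.2 _ (pow_mem ha 2) (by rw [← pow_mul, ← pow_succ', hpow])
    have hc2 : (a⁻¹ * γ a) ^ 2 = 1 := by
      rw [Commute.mul_pow (hDc _ (inv_mem ha) _ (ih.1 a ha)), hsq, inv_pow, inv_mul_cancel]
    have hcfix : γ (a⁻¹ * γ a) = a⁻¹ * γ a := ih.2 _ hc (by
      rw [pow_succ' 2 j, pow_mul, hc2, one_pow])
    rw [hmul]
    calc γ (γ a) = γ (a * (a⁻¹ * γ a)) := by rw [mul_inv_cancel_left]
      _ = γ a * (a⁻¹ * γ a) := by rw [map_mul, hcfix]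
      _ = a * (a⁻¹ * γ a) ^ 2 := by rw [sq, ← mul_assoc a, mul_inv_cancel_left]
      _ = a := by rw [hc2, mul_one]

lemma fix_coset {M : Type*} [Group M] (γ : MulAut M) (t d : M) (ht : γ t = t * d) (hd : γ d = d)
    (n : ℕ) : (γ ^ n) t = t * d ^ n := by
  induction n with
  | zero => simp
  | succ n ih =>
    rw [pow_succ', MulAut.mul_apply, ih, map_mul, map_pow, ht, hd, mul_assoc, ← pow_succ']


/-- Signs as units. -/
def u (b : Bool) : (ZMod q)ˣ := if b then -1 else 1

lemma u_xor (a b : Bool) : (u (xor a b) : (ZMod q)ˣ) = u a * u b := by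
  cases a <;> cases b <;> simp [u]

lemma u_inv (a : Bool) : (u a : (ZMod q)ˣ)⁻¹ = u a := by
  cases a <;> simp [u]

/-- Multiplication of codes. -/
def cm (x y : Bool × Bool × Bool) : Bool × Bool × Bool :=
  (xor x.1 y.1, if y.1 then xor (xor x.2.2 y.2.1) x.2.1 else xor x.2.1 y.2.1, xor x.2.2 y.2.2)

lemma el_cm (x y : Bool × Bool × Bool) :
    el (q := q) x.1 (u x.2.1) (u x.2.2) * el y.1 (u y.2.1) (u y.2.2) =
      el (cm x y).1 (u (cm x y).2.1) (u (cm x y).2.2) := by
  rw [el_mul]
  obtain ⟨a, b, c⟩ := x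
  obtain ⟨d, e, f⟩ := y
  cases d <;> simp [cm, u_xor, u_inv, mul_assoc]

end

/-- Let q = 2^m + 1 be a prime other than 5. Then the automorphism group of the group of linear maps of F_q² of the forms (x, y) ↦ (a x, ± a⁻¹ y) and (x, y) ↦ (± a⁻¹ y, a x) with a ≠ 0 is itself a 2-group. -/
theorem result (q m : ℕ) [Fact q.Prime] (hq : q = 2 ^ m + 1) (hq5 : q ≠ 5)
    (T : Subgroup ((Fin 2 → ZMod q) ≃ₗ[ZMod q] (Fin 2 → ZMod q)))
    (hT : ∀ f, f ∈ T ↔ ∃ a s : ZMod q, a ≠ 0 ∧ (s = 1 ∨ s = -1) ∧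
      ((∀ v, f v = ![a * v 0, s * a⁻¹ * v 1]) ∨ (∀ v, f v = ![s * a⁻¹ * v 1, a * v 0]))) :
    IsPGroup 2 (MulAut T) := by
  classical
  intro α
  have helT : ∀ σ a s, (s = 1 ∨ s = -1) → el σ a s ∈ T := by
    intro σ a s hs
    refine (hT _).2 ⟨a, s, a.ne_zero, by rcases hs with rfl | rfl <;> simp, ?_⟩
    cases σ
    · exact Or.inl fun v => by simp [el_apply]
    · exact Or.inr fun v => by simp [el_apply]
  have hsurj : ∀ x : T, ∃ σ a s, (s = 1 ∨ s = -1) ∧ x.1 = el σ a s := by
    intro x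
    obtain ⟨a, s, ha, hs, h⟩ := (hT _).1 x.2
    have hs0 : s ≠ 0 := by rcases hs with rfl | rfl <;> simp
    have hs' : Units.mk0 s hs0 = 1 ∨ Units.mk0 s hs0 = -1 := by
      rcases hs with rfl | rfl
      · exact Or.inl (Units.ext rfl)
      · exact Or.inr (Units.ext (by simp))
    rcases h with h | h
    · exact ⟨false, Units.mk0 a ha, _, hs', LinearEquiv.ext fun v => by
        rw [h]; simp [el_apply]⟩
    · exact ⟨true, Units.mk0 a ha, _, hs', LinearEquiv.ext fun v => by
        rw [h]; simp [el_apply]⟩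
  have hqm : q - 1 = 2 ^ m := (congrArg (· - 1) hq).trans (Nat.add_sub_cancel _ 1)
  have hsm : ∀ s : (ZMod q)ˣ, (s = 1 ∨ s = -1) → s * s = 1 := by rintro s (rfl | rfl) <;> simp
  -- the diagonal subgroup
  let D : Subgroup T :=
    { carrier := {x | ∃ a s, x.1 = el false a s}
      mul_mem' := by
        rintro x y ⟨a, s, hx⟩ ⟨c, t, hy⟩
        exact ⟨a * c, s * t, by rw [Subgroup.coe_mul, hx, hy, el_mul]; simp⟩
      one_mem' := ⟨1, 1, by rw [el_one]; rfl⟩
      inv_mem' := by
        rintro x ⟨a, s, hx⟩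
        refine ⟨a⁻¹, s⁻¹, ?_⟩
        rw [Subgroup.coe_inv, inv_eq_iff_mul_eq_one, hx, el_mul]
        simp [el_one] }
  have hDc : ∀ x ∈ D, ∀ y ∈ D, x * y = y * x := by
    rintro x ⟨a, s, hx⟩ y ⟨c, t, hy⟩
    apply Subtype.ext
    rw [Subgroup.coe_mul, Subgroup.coe_mul, hx, hy, el_mul, el_mul]
    simp [mul_comm]
  have hout : ∀ x y : T, x ∉ D → y ∉ D → x⁻¹ * y ∈ D := by
    intro x y hx hy
    obtain ⟨σ, a, s, -, hx'⟩ := hsurj x
    obtain ⟨τ, c, t, -, hy'⟩ := hsurj y
    obtain ⟨ρ', b, u, -, hz'⟩ := hsurj (x⁻¹ * y)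
    cases σ
    · exact absurd ⟨a, s, hx'⟩ hx
    cases τ
    · exact absurd ⟨c, t, hy'⟩ hy
    refine ⟨b, u, ?_⟩
    have e := congrArg Subtype.val (mul_inv_cancel_left x y)
    rw [Subgroup.coe_mul, hz', hx', hy', el_mul] at e
    have := (el_inj e).1
    cases ρ'
    · exact hz'
    · simp at this
  have hDpow : ∀ (a s : (ZMod q)ˣ) (n : ℕ), el false a s ^ n = el false (a ^ n) (s ^ n) := by
    intro a s n
    induction n with
    | zero => simp [el_one]
    | succ n ih => rw [pow_succ, ih, el_mul]; simp [pow_succ]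
  have hexp : ∀ x ∈ D, x ^ (2 ^ m) = 1 := by
    rintro x ⟨a, s, hx⟩
    apply Subtype.ext
    rw [SubmonoidClass.coe_pow, hx, hDpow, ← hqm, ZMod.units_pow_card_sub_one_eq_one,
      ZMod.units_pow_card_sub_one_eq_one, el_one]
    rfl
  -- finishing from a subgroup fixed pointwise
  have hfin : ∀ k : ℕ, (∀ x ∈ D, (α ^ 2 ^ k) x = x) → ∃ k : ℕ, α ^ 2 ^ k = 1 := by
    intro k hk
    refine ⟨k + m, MulEquiv.ext fun x => ?_⟩
    rw [pow_add, pow_mul]
    by_cases hx : x ∈ D
    · have : ∀ n : ℕ, ((α ^ 2 ^ k) ^ n) x = x := by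
        intro n
        induction n with
        | zero => simp
        | succ n ih => rw [pow_succ', MulAut.mul_apply, ih, hk x hx]
      exact this _
    · have hgx : (α ^ 2 ^ k) x ∉ D := fun h => hx (by
        have e := hk _ h
        rwa [(α ^ 2 ^ k).injective e] at h)
      have hd : x⁻¹ * (α ^ 2 ^ k) x ∈ D := hout _ _ hx hgx
      rw [fix_coset _ x _ (mul_inv_cancel_left _ _).symm (hk _ hd), hexp _ hd, mul_one]
      rfl
  have hneg1 : 1 ≤ m → (-1 : (ZMod q)ˣ) ≠ 1 := fun h1 h => by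
    have hv := congrArg Units.val h
    simp only [Units.val_neg, Units.val_one] at hv
    have h2 : ((2 : ℕ) : ZMod q) = 0 := by push_cast; linear_combination -hv
    rw [ZMod.natCast_eq_zero_iff] at h2
    have := (Nat.prime_dvd_prime_iff_eq Fact.out Nat.prime_two).1 h2
    have : 2 ≤ 2 ^ m := le_trans (by norm_num) (Nat.pow_le_pow_right (by norm_num) h1)
    omega
  by_cases hm : m ≤ 2
  · interval_cases m
    · -- q = 2
      have hu : ∀ a : (ZMod q)ˣ, a = 1 := fun a => by
        have := ZMod.units_pow_card_sub_one_eq_one q a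
        rwa [hqm, pow_zero, pow_one] at this
      refine hfin 0 fun x hx => ?_
      obtain ⟨a, s, hx'⟩ := hx
      have : x = 1 := Subtype.ext (by rw [hx', hu a, hu s, el_one]; rfl)
      simp [this]
    · -- q = 3
      have hn1 : (-1 : (ZMod q)ˣ) ≠ 1 := hneg1 (by omega)
      have hcases : ∀ a : (ZMod q)ˣ, ∃ b, a = u b := by
        intro a
        have ha2 : (a : ZMod q) ^ 2 = 1 := by
          have := ZMod.units_pow_card_sub_one_eq_one q a
          rw [hqm, pow_one] at this
          rw [← Units.val_pow_eq_pow_val, this]; rfl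
        rcases sq_eq_one_iff.1 ha2 with h | h
        · exact ⟨false, Units.ext h⟩
        · exact ⟨true, Units.ext (by simpa [u] using h)⟩
      have hu : ∀ b : Bool, (u b : (ZMod q)ˣ) = 1 ∨ (u b : (ZMod q)ˣ) = -1 := by
        intro b; cases b <;> simp [u]
      let E : Bool × Bool × Bool → T := fun c => ⟨el c.1 (u c.2.1) (u c.2.2), helT _ _ _ (hu _)⟩
      have hEm : ∀ c d, E c * E d = E (cm c d) := fun c d => Subtype.ext (el_cm c d)
      have hE1 : E (false, false, false) = 1 := Subtype.ext el_one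
      have hui : ∀ a b : Bool, (u a : (ZMod q)ˣ) = u b → a = b := by
        intro a b h
        cases a <;> cases b <;> first | rfl | exact absurd h hn1 | exact absurd h.symm hn1
      have hEi : ∀ c d, E c = E d → c = d := by
        rintro ⟨a, b, c⟩ ⟨d, e, f⟩ h
        obtain ⟨h1, h2, h3⟩ := el_inj (congrArg Subtype.val h)
        obtain rfl : a = d := h1
        exact Prod.ext rfl (Prod.ext (hui _ _ h2) (hui _ _ h3))
      have hEs : ∀ x : T, ∃ c, E c = x := by
        intro x
        obtain ⟨σ, a, s, -, hx⟩ := hsurj x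
        obtain ⟨a', rfl⟩ := hcases a
        obtain ⟨s', rfl⟩ := hcases s
        exact ⟨(σ, a', s'), Subtype.ext hx.symm⟩
      set R : Bool × Bool × Bool := (true, false, true) with hR
      set Y : Bool × Bool × Bool := (false, false, true) with hY
      set r : T := E R with hrdef
      set y : T := E Y with hydef
      have hp2 : r ^ 2 = E (cm R R) := by rw [sq, hrdef, hEm]
      have hp3 : r ^ 3 = E (cm (cm R R) R) := by rw [pow_succ, hp2, hrdef, hEm]
      have hr4 : r ^ 4 = 1 := by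
        rw [pow_succ, hp3, hrdef, hEm, ← hE1]
        exact congrArg E (by decide)
      have hrsq : r ^ 2 ≠ 1 := fun h => by
        rw [hp2, ← hE1] at h
        exact absurd (hEi _ _ h) (by decide)
      have hsq' : ∀ x : T, x ^ 2 ≠ 1 → x = r ∨ x = r ^ 3 := by
        intro x h2
        obtain ⟨c, rfl⟩ := hEs x
        have key : ∀ d : Bool × Bool × Bool, cm d d = (false, false, false) ∨ d = (true, false, true) ∨
            d = cm (cm (true, false, true) (true, false, true)) (true, false, true) := by decide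
        have : cm c c = (false, false, false) ∨ c = R ∨ c = cm (cm R R) R := key c
        rcases this with h | h | h
        · exact absurd (by rw [sq, hEm, h, hE1]) h2
        · exact Or.inl (congrArg E h)
        · exact Or.inr (by rw [hp3, h])
      have hall : ∀ x : T, (∃ j : ℕ, x = r ^ j) ∨ ∃ j : ℕ, x = y * r ^ j := by
        intro x
        obtain ⟨c, rfl⟩ := hEs x
        have : c = (false, false, false) ∨ c = R ∨ c = cm R R ∨ c = cm (cm R R) R ∨ c = Y ∨ c = cm Y R ∨
            c = cm Y (cm R R) ∨ c = cm Y (cm (cm R R) R) := by revert c; decide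
        rcases this with h | h | h | h | h | h | h | h
        · exact Or.inl ⟨0, by rw [pow_zero, h, hE1]⟩
        · exact Or.inl ⟨1, by rw [pow_one, h]⟩
        · exact Or.inl ⟨2, by rw [hp2, h]⟩
        · exact Or.inl ⟨3, by rw [hp3, h]⟩
        · exact Or.inr ⟨0, by rw [pow_zero, mul_one, h]⟩
        · exact Or.inr ⟨1, by rw [pow_one, hydef, hrdef, hEm, h]⟩
        · exact Or.inr ⟨2, by rw [hp2, hydef, hEm, h]⟩
        · exact Or.inr ⟨3, by rw [hp3, hydef, hEm, h]⟩
      have hαr : α r = r ∨ α r = r ^ 3 :=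
        hsq' _ fun h => hrsq (α.injective (by rw [map_pow, h, map_one]))
      have hβr : (α ^ 2) r = r := by
        rw [sq, MulAut.mul_apply]
        rcases hαr with h | h
        · rw [h, h]
        · rw [h, map_pow, h, ← pow_mul, show 3 * 3 = 4 * 2 + 1 from rfl, pow_succ, pow_mul, hr4, one_pow, one_mul]
      have hβy : ∃ j : ℕ, (α ^ 2) y = y * r ^ j := by
        rcases hall ((α ^ 2) y) with ⟨j, hj⟩ | h
        · exfalso
          have hy : y = r ^ j := (α ^ 2).injective (by rw [hj, map_pow, hβr])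
          have hc : Commute y r := hy ▸ Commute.pow_self r j
          have e := hc.eq
          rw [hydef, hrdef, hEm, hEm] at e
          exact absurd (hEi _ _ e) (by decide)
        · exact h
      obtain ⟨j, hj⟩ := hβy
      refine ⟨3, MulEquiv.ext fun x => ?_⟩
      have hy8 : (α ^ 2 ^ 3) y = y := by
        rw [show 2 ^ 3 = 2 * 4 from rfl, pow_mul,
          fix_coset _ y _ hj (by rw [map_pow, hβr]), ← pow_mul, mul_comm, pow_mul, hr4, one_pow, mul_one]
      have hr8 : (α ^ 2 ^ 3) r = r := by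
        rw [show 2 ^ 3 = 2 * 4 from rfl, pow_mul,
          fix_coset _ r 1 (by rw [hβr, mul_one]) (map_one _), one_pow, mul_one]
      rcases hall x with ⟨i, rfl⟩ | ⟨i, rfl⟩
      · rw [map_pow, hr8]; rfl
      · rw [map_mul, map_pow, hr8, hy8]; rfl
    · exact absurd (by omega) hq5
  · -- q ≥ 17
    have hm3 : 3 ≤ m := by omega
    obtain ⟨g, hg⟩ := IsCyclic.exists_generator (α := (ZMod q)ˣ)
    have hgo : orderOf g = 2 ^ m := by
      rw [orderOf_eq_card_of_forall_mem_zpowers hg, Nat.card_eq_fintype_card, ZMod.card_units q, hqm]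
    have h8 : 8 ≤ 2 ^ m := le_trans (by norm_num) (Nat.pow_le_pow_right (by norm_num) hm3)
    have hg4 : g ^ 4 ≠ 1 := fun h => by
      have := Nat.le_of_dvd (by norm_num) (orderOf_dvd_of_pow_eq_one h)
      omega
    have hneg1 := hneg1 (by omega)
    have hout4 : ∀ x : T, x ∉ D → x ^ 4 = 1 := by
      intro x hx
      obtain ⟨σ, a, s, hs, hx'⟩ := hsurj x
      cases σ
      · exact absurd ⟨a, s, hx'⟩ hx
      apply Subtype.ext
      rw [SubmonoidClass.coe_pow, hx', show 4 = 2 * 2 from rfl, pow_mul, sq (el true a s), el_mul]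
      simp [hsm s hs, hDpow, ← el_one, sq, el_mul]
    have hgD : ∀ s, (hs : s = 1 ∨ s = -1) → α ⟨el false g s, helT _ _ _ hs⟩ ∈ D := by
      intro s hs
      by_contra h
      have e := hout4 _ h
      rw [← map_pow, EmbeddingLike.map_eq_one_iff] at e
      have e' := congrArg Subtype.val e
      rw [SubmonoidClass.coe_pow, hDpow, OneMemClass.coe_one, ← el_one] at e'
      exact hg4 (el_inj e').2.1
    have hαD : ∀ x ∈ D, α x ∈ D := by
      rintro x ⟨a, s, hx⟩
      obtain ⟨σ, a', s', hs, hx'⟩ := hsurj x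
      obtain ⟨-, rfl, rfl⟩ := el_inj (hx.symm.trans hx')
      obtain ⟨n, rfl⟩ : ∃ n : ℕ, g ^ n = a := mem_powers_iff_mem_zpowers.2 (hg a)
      have hx2 : x = (⟨el false g 1, helT _ _ _ (Or.inl rfl)⟩ : T) ^ n *
          ((⟨el false g 1, helT _ _ _ (Or.inl rfl)⟩ : T)⁻¹ * ⟨el false g s, helT _ _ _ hs⟩) := by
        apply Subtype.ext
        rw [Subgroup.coe_mul, SubmonoidClass.coe_pow, Subgroup.coe_mul, Subgroup.coe_inv, hx, hDpow]
        have : (el false g 1)⁻¹ = el false g⁻¹ 1 := inv_eq_of_mul_eq_one_right (by rw [el_mul]; simp [el_one])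
        rw [this, el_mul, el_mul]
        simp
      rw [hx2, map_mul, map_mul, map_inv, map_pow]
      exact mul_mem (pow_mem (hgD 1 (Or.inl rfl)) n) (mul_mem (inv_mem (hgD 1 (Or.inl rfl))) (hgD s hs))
    have hinv : ∀ x ∈ D, x ^ 2 = 1 → ∃ a s : (ZMod q)ˣ, x.1 = el false a s ∧ (a = 1 ∨ a = -1) ∧ (s = 1 ∨ s = -1) := by
      rintro x ⟨a, s, hx⟩ h2
      obtain ⟨σ, a', s', hs, hx'⟩ := hsurj x
      obtain ⟨-, rfl, rfl⟩ := el_inj (hx.symm.trans hx')
      refine ⟨a, s, hx, ?_, hs⟩
      have e := congrArg Subtype.val h2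
      rw [SubmonoidClass.coe_pow, hx, hDpow, OneMemClass.coe_one, ← el_one] at e
      have ha2 : (a : ZMod q) ^ 2 = 1 := by
        rw [← Units.val_pow_eq_pow_val, (el_inj e).2.1]; rfl
      rcases sq_eq_one_iff.1 ha2 with h | h
      · exact Or.inl (Units.ext h)
      · exact Or.inr (Units.ext (by simpa using h))
    let z : T := ⟨el false (-1) 1, helT _ _ _ (Or.inl rfl)⟩
    let y : T := ⟨el false 1 (-1), helT _ _ _ (Or.inr rfl)⟩
    have hzcen : z ∈ Subgroup.center T := by
      rw [Subgroup.mem_center_iff]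
      intro x
      obtain ⟨σ, a, s, hs, hx⟩ := hsurj x
      apply Subtype.ext
      rw [Subgroup.coe_mul, Subgroup.coe_mul, hx, el_mul, el_mul]
      cases σ <;> simp [Units.ext_iff] <;> rfl
    have hycen : y ∉ Subgroup.center T := by
      intro h
      have e := congrArg Subtype.val (Subgroup.mem_center_iff.1 h ⟨el true 1 1, helT _ _ _ (Or.inl rfl)⟩)
      simp only [y, Subgroup.coe_mul, el_mul] at e
      have e' := (el_inj e).2.1
      simp only [Bool.false_eq_true, if_false, if_true, mul_one, inv_one, one_mul] at e'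
      exact hneg1 e'.symm
    have hyzcen : y * z ∉ Subgroup.center T := fun h => hycen (by
      simpa using mul_mem h (inv_mem hzcen))
    have hfour : ∀ x ∈ D, x ^ 2 = 1 → x = 1 ∨ x = z ∨ x = y ∨ x = y * z := by
      intro x hx h2
      obtain ⟨a, s, e, ha, hs⟩ := hinv x hx h2
      rcases ha with rfl | rfl <;> rcases hs with rfl | rfl
      · exact Or.inl (Subtype.ext (by rw [e, el_one]; rfl))
      · exact Or.inr (Or.inr (Or.inl (Subtype.ext e)))
      · exact Or.inr (Or.inl (Subtype.ext e))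
      · refine Or.inr (Or.inr (Or.inr (Subtype.ext ?_)))
        rw [e, Subgroup.coe_mul]; simp only [y, z, el_mul]; simp
    have hz2 : z ^ 2 = 1 := Subtype.ext (by
      rw [SubmonoidClass.coe_pow]; simp only [z, hDpow]; simp [el_one])
    have hy2 : y ^ 2 = 1 := Subtype.ext (by
      rw [SubmonoidClass.coe_pow]; simp only [y, hDpow]; simp [el_one])
    have hcen : ∀ x, x ∈ Subgroup.center T → α x ∈ Subgroup.center T := fun x hx => by
      rw [Subgroup.mem_center_iff] at hx ⊢
      intro g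
      apply α.symm.injective
      rw [map_mul, map_mul, α.symm_apply_apply, hx]
    have hcen' : ∀ x, α x ∈ Subgroup.center T → x ∈ Subgroup.center T := fun x hx => by
      rw [Subgroup.mem_center_iff] at hx ⊢
      intro g
      apply α.injective
      rw [map_mul, map_mul, hx]
    have hαz : α z = z := by
      rcases hfour (α z) (hαD z ⟨_, _, rfl⟩) (by rw [← map_pow, hz2, map_one]) with h | h | h | h
      · rw [EmbeddingLike.map_eq_one_iff] at h
        have e := (el_inj ((congrArg Subtype.val h).trans el_one.symm)).2.1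
        exact absurd e hneg1
      · exact h
      · exact absurd (h ▸ hcen z hzcen) hycen
      · exact absurd (h ▸ hcen z hzcen) hyzcen
    have hαy : α y = y ∨ α y = y * z := by
      rcases hfour (α y) (hαD y ⟨_, _, rfl⟩) (by rw [← map_pow, hy2, map_one]) with h | h | h | h
      · exact absurd (hcen' y (h ▸ one_mem _)) hycen
      · exact absurd (hcen' y (h ▸ hzcen)) hycen
      · exact Or.inl h
      · exact Or.inr h
    have hβy : (α ^ 2) y = y := by
      rw [sq, MulAut.mul_apply]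
      rcases hαy with h | h
      · rw [h, h]
      · rw [h, map_mul, h, hαz, mul_assoc, ← sq, hz2, mul_one]
    have hβz : (α ^ 2) z = z := by rw [sq, MulAut.mul_apply, hαz, hαz]
    have key := fix_omega D hDc (α ^ 2) (fun a ha => hαD _ (hαD a ha)) (fun a ha h2 => by
      rcases hfour a ha h2 with rfl | rfl | rfl | rfl
      · exact map_one _
      · exact hβz
      · exact hβy
      · rw [map_mul, hβy, hβz]) m
    refine hfin (m + 1) fun x hx => ?_
    rw [pow_succ', pow_mul]
    exact key.2 x hx (by rw [pow_succ, pow_mul, hexp x hx, one_pow])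

end Cfsg.Agent.S3382
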