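import Cfsg.Statements.S3383
import Cfsg.Agent.Lib.PGroup.Basic

set_option autoImplicit false
open Cfsg
open scoped Pointwise

namespace Cfsg.Agent.S3383

theorem conj_mem_iff {L : Type*} [Group L] {H : Subgroup L} {g x : L} :
    x ∈ MulAut.conj g • H ↔ g⁻¹ * x * g ∈ H := by
  rw [Subgroup.mem_pointwise_smul_iff_inv_smul_mem, ← map_inv, MulAut.smul_def, MulAut.conj_apply,
    inv_inv]

theorem eq_one_of_commute {L : Type*} [Group L] {H : Subgroup L}
    (hH : Cfsg.IsFrobeniusComplement H) {x h : L} (hx : x ∈ Cfsg.frobeniusKernel H) (hh : h ∈ H)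
    (hh1 : h ≠ 1) (hc : Commute h x) : x = 1 := by
  rcases hx with hx | hx
  · exact hx
  exfalso
  have hxH : x ∉ H := fun e => hx 1 (by simpa using e)
  have hm : h ∈ H ⊓ MulAut.conj x • H := ⟨hh, conj_mem_iff.2 (by
    rw [show x⁻¹ * h * x = h by rw [mul_assoc, hc.eq, inv_mul_cancel_left]]; exact hh)⟩
  rw [hH.2.2 x hxH, Subgroup.mem_bot] at hm
  exact hh1 hm

/-- Let H be a Frobenius complement in a finite group L and K the Frobenius kernel (as a subgroup). Then K is characteristic in L, and every normal subgroup of L either contains K or is contained in K. -/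
theorem result {L : Type*} [Group L] [Finite L]
    (H : Subgroup L) (hH : Cfsg.IsFrobeniusComplement H)
    (K : Subgroup L) (hK : (K : Set L) = Cfsg.frobeniusKernel H) :
    K.Characteristic ∧ ∀ N : Subgroup L, N.Normal → K ≤ N ∨ N ≤ K := by
  haveI hKn : K.Normal := ⟨fun x hx g => by
    have hx' : x ∈ Cfsg.frobeniusKernel H := hK ▸ hx
    change g * x * g⁻¹ ∈ (K : Set L)
    rw [hK]
    rcases hx' with rfl | hx'
    · exact Or.inl (by simp)
    · refine Or.inr fun a ha => hx' (g⁻¹ * a) ?_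
      rw [conj_mem_iff] at ha ⊢
      simpa [mul_assoc] using ha⟩
  have hKmem : ∀ x, x ∈ K ↔ x ∈ Cfsg.frobeniusKernel H := fun x => by
    rw [← hK, SetLike.mem_coe]
  have hcop : Nat.Coprime (Nat.card K) (Nat.card H) := by
    by_contra hnc
    obtain ⟨p, hp, hpK, hpH⟩ := Nat.Prime.not_coprime_iff_dvd.1 hnc
    haveI := Fact.mk hp
    obtain ⟨h, hh⟩ := exists_prime_orderOf_dvd_card' (G := H) p hpH
    have hho : orderOf (h : L) = p := by rw [Subgroup.orderOf_coe, hh]
    obtain ⟨P, hP⟩ := (IsPGroup.of_card (p := p) (n := 1)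
      (by rw [Nat.card_zpowers, hho, pow_one]) : IsPGroup p (Subgroup.zpowers (h : L))).exists_le_sylow
    haveI : ((K : Subgroup L).subgroupOf (P : Subgroup L)).Normal := inferInstance
    haveI : Nontrivial (P : Subgroup L) := (Subgroup.nontrivial_iff_ne_bot _).2 fun e => by
      have := hP (Subgroup.mem_zpowers (h : L))
      rw [e, Subgroup.mem_bot] at this
      rw [this, orderOf_one] at hho
      exact hp.ne_one hho.symm
    have hne : (K.subgroupOf (P : Subgroup L)) ≠ ⊥ := by
      intro e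
      obtain ⟨Q⟩ := (inferInstance : Nonempty (Sylow p K))
      obtain ⟨R, hR⟩ := Q.exists_comap_eq_of_injective K.subtype_injective
      obtain ⟨g, hg⟩ := MulAction.exists_smul_eq L P R
      have hQb : (Q : Subgroup K) ≠ ⊥ := Q.ne_bot_of_dvd_card hpK
      obtain ⟨⟨x, hxQ⟩, hx1⟩ := @exists_ne ↥(Q : Subgroup K) ((Subgroup.nontrivial_iff_ne_bot _).2 hQb) 1
      have hxR : (x : L) ∈ (R : Subgroup L) := by
        rw [← hR, Subgroup.mem_comap] at hxQ; exact hxQ
      rw [← hg, Sylow.coe_subgroup_smul, conj_mem_iff] at hxR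
      have hmem : (⟨_, hxR⟩ : (P : Subgroup L)) ∈ K.subgroupOf (P : Subgroup L) := by
        simpa [Subgroup.mem_subgroupOf] using hKn.conj_mem _ x.2 g⁻¹
      rw [e, Subgroup.mem_bot] at hmem
      have h1 : g⁻¹ * (x : L) * g = 1 := congrArg Subtype.val hmem
      have h2 : (x : L) = 1 := by
        have := congrArg (fun u => g * u * g⁻¹) h1
        simpa [mul_assoc] using this
      exact hx1 (Subtype.ext (Subtype.ext h2))
    obtain ⟨z, hzc, hzK, hz1⟩ : ∃ z : (P : Subgroup L), z ∈ Subgroup.center (P : Subgroup L) ∧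
        z ∈ K.subgroupOf (P : Subgroup L) ∧ z ≠ 1 := by
      obtain ⟨z, hz, hz1⟩ := Subgroup.bot_or_exists_ne_one _ |>.resolve_left
        (CfsgLib.PGroup.inf_center_ne_bot P.2 (K.subgroupOf (P : Subgroup L)) hne)
      obtain ⟨hz2, hz3⟩ := Subgroup.mem_inf.1 hz
      exact ⟨z, by assumption, by assumption, hz1⟩
    have h1 : (z : L) = 1 := eq_one_of_commute hH ((hKmem _).1 hzK) h.2
      (fun e => by rw [e, orderOf_one] at hho; exact hp.ne_one hho.symm)
      (congrArg Subtype.val ((Subgroup.mem_center_iff.1 hzc) ⟨_, hP (Subgroup.mem_zpowers (h : L))⟩))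
    exact hz1 (Subtype.ext h1)
  have hiff : ∀ x, x ∈ K ↔ Nat.Coprime (orderOf x) (Nat.card H) := by
    intro x
    constructor
    · intro hx
      exact Nat.Coprime.coprime_dvd_left (Subgroup.orderOf_dvd_natCard K hx) hcop
    · intro hx
      rw [hKmem]
      by_contra hxk
      simp only [Cfsg.frobeniusKernel, Set.mem_setOf_eq, not_or, not_forall, not_not] at hxk
      obtain ⟨hx1, g, hg⟩ := hxk
      rw [conj_mem_iff] at hg
      have h2 : orderOf (g⁻¹ * x * g) = orderOf x := by
        have := MulEquiv.orderOf_eq (MulAut.conj g⁻¹) x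
        simpa using this
      have hd := Subgroup.orderOf_dvd_natCard H hg
      rw [h2] at hd
      exact hx1 (orderOf_eq_one_iff.1 (Nat.eq_one_of_dvd_coprimes hx (dvd_refl _) hd))
  refine ⟨Subgroup.characteristic_iff_comap_eq.2 fun φ => ?_, fun N hN => ?_⟩
  · ext x
    simp only [Subgroup.mem_comap, hiff, MulEquiv.toMonoidHom_eq_coe, MonoidHom.coe_coe,
      MulEquiv.orderOf_eq]
  · by_cases hNK : N ≤ K
    · exact Or.inr hNK
    left
    obtain ⟨n, hnN, hnK⟩ := SetLike.not_le_iff_exists.1 hNK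
    rw [hKmem] at hnK
    simp only [Cfsg.frobeniusKernel, Set.mem_setOf_eq, not_or, not_forall, not_not] at hnK
    obtain ⟨hn1, g, hg⟩ := hnK
    rw [conj_mem_iff] at hg
    set h := g⁻¹ * n * g with hh
    have hhN : h ∈ N := by simpa [hh] using hN.conj_mem n hnN g⁻¹
    have hh1 : h ≠ 1 := fun e => hn1 (by
      have := congrArg (fun u => g * u * g⁻¹) e
      simpa [hh, mul_assoc] using this)
    let f : K → K := fun k => ⟨(k : L) * h * (k : L)⁻¹ * h⁻¹, by
      have h1 : h * (k : L)⁻¹ * h⁻¹ ∈ K := hKn.conj_mem _ (inv_mem k.2) h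
      simpa [mul_assoc] using mul_mem k.2 h1⟩
    have hinj : Function.Injective f := by
      intro k l e
      have e' : (k : L) * h * (k : L)⁻¹ * h⁻¹ = (l : L) * h * (l : L)⁻¹ * h⁻¹ := congrArg Subtype.val e
      have e2 : (k : L) * h * (k : L)⁻¹ = (l : L) * h * (l : L)⁻¹ := mul_right_cancel e'
      have hc : Commute h ((l : L)⁻¹ * k) := by
        have := congrArg (fun u => (l : L)⁻¹ * u * k) e2
        simp only [mul_assoc, inv_mul_cancel, mul_one, inv_mul_cancel_left] at this
        show h * _ = _ * h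
        exact this.symm.trans (mul_assoc _ _ _).symm
      have := eq_one_of_commute hH ((hKmem _).1 (mul_mem (inv_mem l.2) k.2)) hg hh1 hc
      exact Subtype.ext (inv_mul_eq_one.1 this).symm
    intro k hk
    obtain ⟨a, ha⟩ := (Finite.injective_iff_surjective.1 hinj) ⟨k, hk⟩
    rw [show k = (a : L) * h * (a : L)⁻¹ * h⁻¹ from (congrArg Subtype.val ha).symm]
    exact mul_mem (hN.conj_mem h hhN a) (inv_mem hhN)

end Cfsg.Agent.S3383
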