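import Cfsg.Statements.S3389

set_option autoImplicit false
open Cfsg

namespace Cfsg.Agent.S3389

/-- Let G be a finite group acting faithfully and transitively on a finite set Ω with fixity k ≥ 1: every non-identity element fixes at most k points and some non-identity element fixes exactly k points. Then |Z(G)| divides k; if k = 2 then |G| is even; and for every prime p > k dividing |G| and every point α, either p does not divide |G_α| or G_α contains a Sylow p-subgroup of G. -/
theorem result {G : Type*} [Group G] [Finite G] {Ω : Type*} [Fintype Ω] [MulAction G Ω] [FaithfulSMul G Ω]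
    (htr : MulAction.IsPretransitive G Ω) (k : ℕ) (hk : 1 ≤ k)
    (hfix : ∀ g : G, g ≠ 1 → Nat.card (MulAction.fixedBy Ω g) ≤ k) (hex : ∃ g : G, g ≠ 1 ∧ Nat.card (MulAction.fixedBy Ω g) = k) :
    Nat.card (Subgroup.center G) ∣ k ∧ (k = 2 → 2 ∣ Nat.card G) ∧
      ∀ (p : ℕ), p.Prime → k < p → p ∣ Nat.card G → ∀ α : Ω,
        ¬ p ∣ Nat.card (MulAction.stabilizer G α) ∨ ¬ p ∣ (MulAction.stabilizer G α).index := by
  classical
  haveI := htr
  haveI := Fintype.ofFinite G
  obtain ⟨g, hg1, hgk⟩ := hex
  have fix_le : ∀ (x : G), x ≠ 1 → ∀ s : Set Ω, (∀ w ∈ s, x • w = w) → s.ncard ≤ k := fun x hx s hs => by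
    refine (Set.ncard_le_ncard (t := MulAction.fixedBy Ω x) (fun w hw => hs w hw) (Set.toFinite _)).trans ?_
    rw [← Nat.card_coe_set_eq]
    exact hfix x hx
  have hne : (MulAction.fixedBy Ω g).Nonempty := by
    rw [← Set.nonempty_coe_sort]
    exact (Nat.card_pos_iff.1 (by omega)).1
  refine ⟨?_, ?_, ?_⟩
  · -- the centre acts freely
    letI : MulAction (Subgroup.center G) (MulAction.fixedBy Ω g) :=
      { smul := fun z w => ⟨(z : G) • (w : Ω), by
          show g • (z : G) • (w : Ω) = (z : G) • (w : Ω)
          rw [← mul_smul, Subgroup.mem_center_iff.1 z.2 g, mul_smul, show g • (w : Ω) = w from w.2]⟩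
        one_smul := fun w => Subtype.ext (one_smul G (w : Ω))
        mul_smul := fun z z' w => Subtype.ext (mul_smul (z : G) (z' : G) (w : Ω)) }
    have hfree : ∀ w : MulAction.fixedBy Ω g, MulAction.stabilizer (Subgroup.center G) w = ⊥ := by
      intro w
      rw [eq_bot_iff]
      intro z hz
      rw [Subgroup.mem_bot]
      refine Subtype.ext (FaithfulSMul.eq_of_smul_eq_smul (α := Ω) fun v => ?_)
      have hz' : (z : G) • (w : Ω) = w := congrArg Subtype.val (MulAction.mem_stabilizer_iff.1 hz)
      obtain ⟨t, rfl⟩ := MulAction.exists_smul_eq G (w : Ω) v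
      rw [← mul_smul, ← Subgroup.mem_center_iff.1 z.2 t, mul_smul, hz', Subgroup.coe_one, one_smul]
    rw [← hgk, Nat.card_congr (MulAction.selfEquivOrbitsQuotientProd hfree), Nat.card_prod]
    exact dvd_mul_left _ _
  · -- two fixed points give an element of even order
    intro hk2
    subst hk2
    obtain ⟨a, b, hab, hfixg⟩ : ∃ a b : Ω, a ≠ b ∧ MulAction.fixedBy Ω g = {a, b} :=
      Set.ncard_eq_two.1 (by rw [← Nat.card_coe_set_eq]; exact hgk)
    have hga : g • a = a := by
      have : a ∈ MulAction.fixedBy Ω g := hfixg ▸ Set.mem_insert a {b}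
      exact this
    have hgb : g • b = b := by
      have : b ∈ MulAction.fixedBy Ω g := hfixg ▸ Set.mem_insert_of_mem a rfl
      exact this
    set A := MulAction.stabilizer G a
    have hS : ∀ x : Ω, 0 < (Finset.univ.filter fun h : A => h ≠ 1 ∧ (h : G) • x = x).card ↔
        ∃ h : A, h ≠ 1 ∧ (h : G) • x = x := fun x => by
      rw [Finset.card_pos]
      exact ⟨fun ⟨h, hh⟩ => ⟨h, (Finset.mem_filter.1 hh).2⟩, fun ⟨h, hh⟩ => ⟨h, by simpa using hh⟩⟩
    -- the points other than `a` with non-trivial stabiliser in `A` form one orbit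
    have huniq : ∀ c d : Ω, c ≠ a → d ≠ a → (∃ h : A, h ≠ 1 ∧ (h : G) • c = c) →
        (∃ h : A, h ≠ 1 ∧ (h : G) • d = d) → d ∈ MulAction.orbit A c := by
      intro c d hca hda hc hd
      by_contra hcd
      let s : Ω → Finset Ω := fun x => Finset.univ.filter (· ∈ MulAction.orbit A x)
      let F : Ω → Finset A := fun x => Finset.univ.filter fun h : A => h ≠ 1 ∧ (h : G) • x = x
      have hx : ∀ x : Ω, x ≠ a → ∀ y ∈ s x, y ≠ a := by
        intro x hxa y hy e
        obtain ⟨h, hh⟩ := (Finset.mem_filter.1 hy).2
        have hh' : h • x = h • a := by rw [show h • a = a from h.2, ← e]; exact hh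
        exact hxa (smul_left_cancel h hh')
      have hdisjs : Disjoint (s c) (s d) := by
        rw [Finset.disjoint_left]
        intro y hy hy'
        have h1 := (Finset.mem_filter.1 hy).2
        have h2 := (Finset.mem_filter.1 hy').2
        rw [← MulAction.orbit_eq_iff] at h1 h2
        exact hcd (MulAction.orbit_eq_iff.1 (h2.symm.trans h1))
      have hpair : ((s c ∪ s d : Finset Ω) : Set Ω).PairwiseDisjoint F := by
        intro y hy z hz hyz
        rw [Function.onFun, Finset.disjoint_left]
        intro h hh hh'
        obtain ⟨h1, hy'⟩ := (Finset.mem_filter.1 hh).2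
        obtain ⟨-, hz'⟩ := (Finset.mem_filter.1 hh').2
        have hya : y ≠ a := by
          rcases Finset.mem_union.1 hy with hy | hy
          exacts [hx c hca y hy, hx d hda y hy]
        have hza : z ≠ a := by
          rcases Finset.mem_union.1 hz with hz | hz
          exacts [hx c hca z hz, hx d hda z hz]
        have := fix_le (h : G) (fun e => h1 (Subtype.ext e)) {a, y, z}
          (fun w hw => by rcases hw with rfl | rfl | rfl; exacts [h.2, hy', hz'])
        rw [Set.ncard_insert_of_notMem (by simp [hya.symm, hza.symm]), Set.ncard_pair hyz] at this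
        omega
      have hle : ((s c ∪ s d).biUnion F).card ≤ Fintype.card A - 1 := by
        rw [← Finset.card_univ, ← Finset.card_erase_of_mem (Finset.mem_univ 1)]
        refine Finset.card_le_card fun h hh => ?_
        obtain ⟨x, -, hx⟩ := Finset.mem_biUnion.1 hh
        exact Finset.mem_erase.2 ⟨(Finset.mem_filter.1 hx).2.1, Finset.mem_univ _⟩
      rw [Finset.card_biUnion hpair, Finset.sum_union hdisjs] at hle
      have half : ∀ x : Ω, (∃ h : A, h ≠ 1 ∧ (h : G) • x = x) →
          Fintype.card A ≤ 2 * ∑ y ∈ s x, (F y).card := by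
        intro x hx'
        have hcount : ∀ y ∈ s x, (F y).card + 1 = Nat.card (MulAction.stabilizer A x) := by
          intro y hy
          have hy' : MulAction.orbitRel A Ω y x := (Finset.mem_filter.1 hy).2
          rw [← Nat.card_congr (MulAction.stabilizerEquivStabilizerOfOrbitRel hy').toEquiv,
            Nat.card_eq_fintype_card, Fintype.card_subtype]
          have : (Finset.univ.filter fun h : A => h ∈ MulAction.stabilizer A y) = insert 1 (F y) := by
            ext h
            by_cases h1 : h = 1
            · simp [h1]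
            · simp [F, h1, MulAction.mem_stabilizer_iff, Subgroup.smul_def]
          rw [this, Finset.card_insert_of_notMem (by simp [F])]
        have hpos : 2 ≤ Nat.card (MulAction.stabilizer A x) := by
          have hx0 : x ∈ s x := by simp [s]
          rw [← hcount x hx0]
          obtain ⟨h, hh⟩ := hx'
          have : 0 < (F x).card := Finset.card_pos.2 ⟨h, by simpa [F] using hh⟩
          omega
        have horb : (s x).card * Nat.card (MulAction.stabilizer A x) = Fintype.card A := by
          rw [← Nat.card_eq_fintype_card, ← (MulAction.stabilizer A x).card_mul_index,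
            MulAction.index_stabilizer, mul_comm]
          congr 1
          rw [← Set.ncard_coe_finset]
          congr 1
          ext y; simp [s]
        rw [← horb, Finset.mul_sum, Finset.card_eq_sum_ones, Finset.sum_mul]
        refine Finset.sum_le_sum fun y hy => ?_
        have := hcount y hy
        omega
      have h1 := half c hc
      have h2 := half d hd
      have : 0 < Fintype.card A := Fintype.card_pos
      omega
    obtain ⟨t, ht⟩ := MulAction.exists_smul_eq G b a
    have h1 : b ∈ MulAction.orbit A (t • a) := by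
      refine huniq (t • a) b (fun e => hab (smul_left_cancel t (e.trans ht.symm))) hab.symm ?_
        ⟨⟨g, hga⟩, fun e => hg1 (congrArg Subtype.val e), hgb⟩
      refine ⟨⟨t * g * t⁻¹, ?_⟩, fun e => hg1 ?_, ?_⟩
      · show (t * g * t⁻¹) • a = a
        conv_lhs => rw [← ht]
        rw [mul_smul, inv_smul_smul, mul_smul, hgb, ht]
      · have := congrArg Subtype.val e
        simpa using this
      · show (t * g * t⁻¹) • t • a = t • a
        rw [mul_smul, inv_smul_smul, mul_smul, hga]
    obtain ⟨⟨x, hxa⟩, hx⟩ := h1
    have hx' : (x * t) • a = b := by rw [mul_smul]; exact hx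
    have hxb : (x * t) • b = a := by rw [mul_smul, ht]; exact hxa
    set w := x * t
    by_contra hodd
    have ho : Odd (orderOf w) := (Nat.not_even_iff_odd.1 fun h => hodd
      ((even_iff_two_dvd.1 h).trans (orderOf_dvd_natCard w)))
    obtain ⟨m, hm⟩ := ho
    have hsq : (w ^ 2) • a = a := by rw [pow_two, mul_smul, hx', hxb]
    have hw : w = (w ^ 2) ^ (m + 1) := by
      rw [← pow_mul, show 2 * (m + 1) = orderOf w + 1 by omega, pow_succ, pow_orderOf_eq_one, one_mul]
    have : ∀ j, ((w ^ 2) ^ j) • a = a := fun j => by
      induction j with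
      | zero => simp
      | succ j ih => rw [pow_succ, mul_smul, hsq, ih]
    exact hab (by rw [← hx']; conv_lhs => rw [← this (m + 1), ← hw])
  · intro p hp hkp hpd α
    by_contra hcon
    push_neg at hcon
    obtain ⟨h1, h2⟩ := hcon
    haveI := Fact.mk hp
    obtain ⟨P⟩ : Nonempty (Sylow p (MulAction.stabilizer G α)) := inferInstance
    set H := (P : Subgroup (MulAction.stabilizer G α)).map (MulAction.stabilizer G α).subtype
    set e := (Nat.card (MulAction.stabilizer G α)).factorization p
    have hH : Nat.card H = p ^ e := by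
      rw [Subgroup.card_map_of_injective (MulAction.stabilizer G α).subtype_injective,
        Sylow.card_eq_multiplicity]
    have he : 1 ≤ e := hp.factorization_pos_of_dvd Nat.card_pos.ne' h1
    have hdvd : p ^ (e + 1) ∣ Nat.card G := by
      rw [← (MulAction.stabilizer G α).card_mul_index, pow_succ]
      exact mul_dvd_mul (Nat.ordProj_dvd _ _) h2
    obtain ⟨Q, hQ⟩ := Sylow.exists_subgroup_card_pow_prime p
      (Sylow.prime_pow_dvd_card_normalizer hdvd hH)
    obtain ⟨u, hu⟩ : ∃ u ∈ H, u ≠ (1 : G) := by
      refine (Subgroup.nontrivial_iff_exists_ne_one H).1 (Finite.one_lt_card_iff_nontrivial.1 ?_)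
      rw [hH]; exact Nat.one_lt_pow (by omega) hp.one_lt
    have hHα : ∀ h ∈ H, h • α = α := fun h hh => by
      obtain ⟨h', -, rfl⟩ := hh
      exact h'.2
    set R := Q.map (Subgroup.normalizer (H : Set G)).subtype
    have hR : Nat.card R = p ^ (e + 1) := by
      rw [Subgroup.card_map_of_injective (Subgroup.normalizer (H : Set G)).subtype_injective, hQ]
    have horb : (MulAction.orbit R α).ncard ≤ k := by
      refine fix_le u hu.2 _ ?_
      rintro _ ⟨⟨r, hr⟩, rfl⟩
      obtain ⟨r', -, rfl⟩ := hr
      show u • (r' : G) • α = (r' : G) • α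
      have := (Subgroup.mem_normalizer_iff''.1 r'.2 u).1 hu.1
      have := hHα _ this
      rwa [mul_smul, mul_smul, inv_smul_eq_iff] at this
    have hidx : (MulAction.stabilizer R α).index = 1 := by
      have hd := (MulAction.stabilizer R α).index_dvd_card
      rw [hR] at hd
      obtain ⟨i, -, hi⟩ := (Nat.dvd_prime_pow hp).1 hd
      rw [← MulAction.index_stabilizer] at horb
      rcases Nat.eq_zero_or_pos i with rfl | hi0
      · rw [hi, pow_zero]
      · have : p ≤ p ^ i := Nat.le_self_pow (by omega) p
        omega
    have hRle : R ≤ MulAction.stabilizer G α := fun r hr => by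
      have : (⟨r, hr⟩ : R) ∈ MulAction.stabilizer R α := by
        rw [Subgroup.index_eq_one.1 hidx]; exact Subgroup.mem_top _
      exact this
    have := Subgroup.card_dvd_of_le hRle
    rw [hR] at this
    have := (hp.pow_dvd_iff_le_factorization Nat.card_pos.ne').1 this
    omega

end Cfsg.Agent.S3389
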