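import Cfsg.Statements.S3390
import Cfsg.Agent.Lib.Transfer.MaximalClass
import Cfsg.Agent.S4399
import Cfsg.Agent.Lib.Invol.Counting
import Mathlib.GroupTheory.Focal

set_option autoImplicit false
open Cfsg

namespace Cfsg.Agent.S3390

open MulAction Subgroup
open scoped Pointwise commutatorElement

theorem quaternion_invol_central {n : ℕ} [NeZero n] (x : QuaternionGroup n) (hx : x * x = 1)
    (y : QuaternionGroup n) : x * y = y * x := by
  cases x with
  | a i =>
    rw [QuaternionGroup.a_mul_a, QuaternionGroup.one_def, QuaternionGroup.a.injEq] at hx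
    have hneg : -i = i := neg_eq_of_add_eq_zero_left hx
    cases y with
    | a j => rw [QuaternionGroup.a_mul_a, QuaternionGroup.a_mul_a, add_comm]
    | xa j => rw [QuaternionGroup.a_mul_xa, QuaternionGroup.xa_mul_a, sub_eq_add_neg, hneg]
  | xa i =>
    exfalso
    rw [QuaternionGroup.xa_mul_xa, QuaternionGroup.one_def, QuaternionGroup.a.injEq, add_sub_cancel_right,
      ZMod.natCast_eq_zero_iff] at hx
    have := Nat.le_of_dvd (Nat.pos_of_ne_zero (NeZero.ne n)) hx
    have := Nat.pos_of_ne_zero (NeZero.ne n)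
    omega

/-- An involution with centralizer of order at most four forces maximal class. -/
theorem dsd_of_small_centralizer {S : Type*} [Group S] [Finite S] (h2 : IsPGroup 2 S)
    (h4 : 4 ≤ Nat.card S) (x : S) (hx1 : x ≠ 1) (hxx : x * x = 1)
    (hC : Nat.card (centralizer ({x} : Set S)) ≤ 4) :
    ((∃ n : ℕ, Nonempty (S ≃* DihedralGroup n)) ∨ Cfsg.IsQuasiDihedral S) ∨
      (Nat.card S = 4 ∧ IsCyclic S) := by
  haveI := Fact.mk Nat.prime_two
  obtain ⟨n, hn⟩ := IsPGroup.iff_card.1 h2
  have hn2 : 2 ≤ n := (Nat.pow_le_pow_iff_right (by norm_num : 1 < 2)).1 (by rw [← hn]; simpa using h4)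
  rcases eq_or_lt_of_le hn2 with rfl | hn3
  · by_cases hc : IsCyclic S
    · exact Or.inr ⟨hn.trans (by norm_num), hc⟩
    haveI : Nontrivial S := ⟨⟨x, 1, hx1⟩⟩
    have hexp : Monoid.exponent S = 2 := by
      rw [Monoid.exponent_eq_prime_iff Nat.prime_two]
      intro g hg
      obtain ⟨j, hj, hj'⟩ := (Nat.dvd_prime_pow Nat.prime_two).1 (hn ▸ orderOf_dvd_natCard g)
      have h0 : j ≠ 0 := fun h => hg (orderOf_eq_one_iff.1 (by rw [hj', h, pow_zero]))
      have h2' : j ≠ 2 := fun h => hc (isCyclic_of_orderOf_eq_card g (by rw [hj', h, hn]))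
      rw [hj', show j = 1 by omega, pow_one]
    haveI : IsKleinFour S := ⟨hn.trans (by norm_num), hexp⟩
    exact Or.inl (Or.inl ⟨2, IsKleinFour.nonempty_mulEquiv⟩)
  haveI : Nontrivial S := ⟨⟨x, 1, hx1⟩⟩
  have hn8 : 8 ≤ Nat.card S := by
    rw [hn]; exact le_trans (by norm_num) (Nat.pow_le_pow_right (by norm_num) hn3)
  set A := centralizer ({x} : Set S) with hA
  have hxA : x ∈ A := mem_centralizer_singleton_iff.2 rfl
  have hxc : x ∉ center S := fun h => by
    have : A = ⊤ := eq_top_iff.2 fun y _ =>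
      mem_centralizer_singleton_iff.2 ((mem_center_iff.1 h y))
    rw [this, card_top] at hC
    omega
  have hA4 : Nat.card A = 2 ^ 2 := by
    obtain ⟨j, hj, hj'⟩ := (Nat.dvd_prime_pow Nat.prime_two).1 (hn ▸ card_subgroup_dvd_card A)
    have : 2 < Nat.card A := by
      haveI := h2.center_nontrivial
      obtain ⟨z, hz⟩ := exists_ne (1 : center S)
      have hz1 : (z : S) ≠ 1 := fun h => hz (Subtype.ext h)
      have hzA : (z : S) ∈ A := mem_centralizer_singleton_iff.2 ((mem_center_iff.1 z.2 x)).symm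
      classical
      haveI := Fintype.ofFinite A
      rw [Nat.card_eq_fintype_card, Fintype.two_lt_card_iff]
      refine ⟨⟨1, one_mem _⟩, ⟨x, hxA⟩, ⟨z, hzA⟩, fun h => hx1 (congrArg Subtype.val h).symm,
        fun h => hz1 (congrArg Subtype.val h).symm, fun h => hxc ?_⟩
      rw [show x = (z : S) from congrArg Subtype.val h]
      exact z.2
    rw [hj'] at this hC ⊢
    have h1 : 2 ^ j ≤ 2 ^ 2 := by norm_num; exact hC
    have h2 : 2 ^ 1 < 2 ^ j := by norm_num; exact this
    rw [Nat.pow_le_pow_iff_right (by norm_num)] at h1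
    rw [Nat.pow_lt_pow_iff_right (by norm_num)] at h2
    rw [show j = 2 by omega]
  have hcl : Group.nilpotencyClass S = n - 1 := by
    refine CfsgLib.Transfer.nilpotencyClass_of_self_centralizing hn A hA4 (le_antisymm ?_ ?_)
    · exact fun y hy => mem_centralizer_singleton_iff.2 ((mem_centralizer_iff.1 hy x hxA)).symm
    · haveI := IsPGroup.isMulCommutative_of_card_eq_prime_sq (p := 2) hA4
      exact A.le_centralizer
  obtain ⟨hidx, hsq⟩ := CfsgLib.Transfer.squares_mem_commutator hn3 hn hcl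
  rcases Cfsg.Agent.S4399.result h2 hidx (fun q => by
      induction q using QuotientGroup.induction_on with
      | H g => exact (QuotientGroup.eq_one_iff _).2 (hsq g)) with h | ⟨k, hk⟩ | ⟨k, hk, a, b, ha, hb, hab⟩ | ⟨k, ⟨e⟩⟩
  · omega
  · exact Or.inl (Or.inl ⟨_, hk⟩)
  · exact Or.inl (Or.inr ⟨k + 3, by omega, hk, a, b, ha, hb, hab⟩)
  · exfalso
    haveI : NeZero (2 ^ (k + 1)) := ⟨by positivity⟩
    refine hxc (mem_center_iff.2 fun y => e.injective ?_)
    rw [map_mul, map_mul]
    exact (quaternion_invol_central _ (by rw [← map_mul, hxx, map_one]) _).symm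

theorem card_le_double {G : Type*} [Group G] [Finite G] {A : Subgroup G} (B : Set G) (g : G)
    (h : ∀ x ∈ A, x ∈ B ∨ g * x ∈ B) : Nat.card A ≤ 2 * Nat.card B := by
  classical
  let f : A → Bool × B := fun x => if hx : (x : G) ∈ B then (true, ⟨x, hx⟩)
    else (false, ⟨g * x, (h x x.2).resolve_left hx⟩)
  have hf : Function.Injective f := by
    intro a b hab
    by_cases ha : (a : G) ∈ B <;> by_cases hb : (b : G) ∈ B <;>
      simp only [f, ha, hb, dite_true, dite_false, Prod.mk.injEq, Subtype.mk.injEq, mul_right_inj,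
        Bool.true_eq_false, Bool.false_eq_true, true_and, false_and] at hab <;>
      exact Subtype.ext hab
  have := Nat.card_le_card_of_injective f hf
  rwa [Nat.card_prod, Nat.card_eq_fintype_card (α := Bool), Fintype.card_bool] at this

/-- A normal subgroup of index two from a fusion invariant partition of a Sylow two-subgroup. -/
theorem exists_index_two {G : Type*} [Group G] [Finite G] (S : Sylow 2 G) (T : Subgroup G)
    (hTS : T ≤ (S : Subgroup G)) (u : G) (hu : u ∈ (S : Subgroup G)) (huT : u ∉ T) (hu2 : u * u ∈ T)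
    (hidx : T.relIndex (S : Subgroup G) = 2)
    (hfus : ∀ x ∈ (S : Subgroup G), ∀ g : G, g * x * g⁻¹ ∈ (S : Subgroup G) → (x ∈ T ↔ g * x * g⁻¹ ∈ T)) :
    ∃ N : Subgroup G, N.Normal ∧ N.index = 2 ∧ T ≤ N ∧ u ∉ N := by
  haveI := Fact.mk Nat.prime_two
  have hfoc : (S : Subgroup G).focalSubgroup ≤ T := by
    rw [focalSubgroup_def, closure_le]
    rintro _ ⟨hmem, x, hx, g, rfl⟩
    have he : (⁅x, g⁆ : G) = x * (g * x⁻¹ * g⁻¹) := by rw [commutatorElement_def]; group
    have h1 : g * x⁻¹ * g⁻¹ ∈ (S : Subgroup G) := by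
      have := mul_mem (inv_mem hx) hmem
      rwa [he, inv_mul_cancel_left] at this
    have h2 := hfus x⁻¹ (inv_mem hx) g h1
    rw [T.inv_mem_iff] at h2
    rw [SetLike.mem_coe, he]
    have key := (mul_mem_iff_of_index_two (H := T.subgroupOf (S : Subgroup G)) hidx
      (a := (⟨x, hx⟩ : (S : Subgroup G))) (b := ⟨g * x⁻¹ * g⁻¹, h1⟩))
    simp only [mem_subgroupOf, coe_mul] at key
    exact key.2 h2
  have hcomT : _root_.commutator G ⊓ (S : Subgroup G) ≤ T := by
    rw [commutator_inf_eq_focalSubgroup]; exact hfoc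
  set M := _root_.commutator G ⊔ T with hM
  haveI hMn : M.Normal := ⟨fun m hm g => by
    have e : g * m * g⁻¹ = ⁅g, m⁆ * m := by rw [commutatorElement_def]; group
    rw [e]
    exact mul_mem (mem_sup_left (commutator_mem_commutator (mem_top g) (mem_top m))) hm⟩
  have huM : u ∉ M := by
    intro h
    rw [hM, ← SetLike.mem_coe, normal_mul] at h
    obtain ⟨c, hc, t, ht, rfl⟩ := h
    exact huT (mul_mem (hcomT ⟨hc, by have h' := mul_mem hu (inv_mem (hTS ht)); rwa [mul_inv_cancel_right] at h'⟩) ht)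
  haveI hcomm : IsMulCommutative (G ⧸ M) :=
    Normal.quotient_commutative_iff_commutator_le.2 le_sup_left
  open scoped IsMulCommutative in
  let sq : G ⧸ M →* G ⧸ M := powMonoidHom 2
  set π := QuotientGroup.mk' M with hπ
  have hu1 : π u ≠ 1 := fun h => huM ((QuotientGroup.eq_one_iff u).1 h)
  have huk : π u ∈ sq.ker := by
    show π u ^ 2 = 1
    rw [← map_pow, pow_two]
    exact (QuotientGroup.eq_one_iff _).2 (mem_sup_right hu2)
  have hker2 : IsPGroup 2 sq.ker := fun y => ⟨1, by rw [pow_one]; exact Subtype.ext y.2⟩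
  have hk : Nat.card sq.ker = 2 := by
    obtain ⟨j, hj⟩ := IsPGroup.iff_card.1 hker2
    have h1 : Nat.card sq.ker ∣ M.index := by rw [index_eq_card]; exact card_subgroup_dvd_card _
    have h2 : M.index ∣ 2 * (S : Subgroup G).index := by
      have hh := relIndex_mul_index hTS
      rw [hidx] at hh
      rw [hh]
      exact index_dvd_of_le le_sup_right
    have hj1 : j ≤ 1 := by
      by_contra hcon
      have h4 : 2 ^ 2 ∣ 2 * (S : Subgroup G).index :=
        ((pow_dvd_pow 2 (by omega : 2 ≤ j)).trans (hj ▸ h1)).trans h2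
      exact S.not_dvd_index (Nat.dvd_of_mul_dvd_mul_left two_pos (by simpa [pow_two] using h4))
    have h3 : 1 < Nat.card sq.ker := by
      rw [Finite.one_lt_card_iff_nontrivial]
      exact ⟨⟨⟨π u, huk⟩, 1, fun h => hu1 (congrArg Subtype.val h)⟩⟩
    interval_cases j
    · rw [hj] at h3; norm_num at h3
    · rw [hj, pow_one]
  refine ⟨sq.range.comap π, inferInstance, ?_, ?_, ?_⟩
  · rw [index_comap_of_surjective _ (QuotientGroup.mk'_surjective M)]
    have h1 := sq.range.card_mul_index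
    have h2 := sq.ker.card_mul_index
    rw [index_ker, hk] at h2
    refine Nat.eq_of_mul_eq_mul_left (Nat.card_pos (α := sq.range)) ?_
    rw [h1, ← h2, mul_comm]
  · intro t ht
    rw [mem_comap, show π t = 1 from (QuotientGroup.eq_one_iff t).2 (mem_sup_right ht)]
    exact one_mem _
  · intro h
    rw [mem_comap] at h
    obtain ⟨y, hy⟩ := h
    have hy2 : y ^ 2 = π u := hy
    have h1 : M.index ∣ 2 * (S : Subgroup G).index := by
      have hh := relIndex_mul_index hTS
      rw [hidx] at hh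
      rw [hh]
      exact index_dvd_of_le le_sup_right
    have hy4 : y ^ 2 ^ 2 = 1 := by
      rw [show 2 ^ 2 = 2 * 2 by norm_num, pow_mul, hy2]; exact huk
    obtain ⟨j, hj, hj'⟩ := (Nat.dvd_prime_pow Nat.prime_two).1 (orderOf_dvd_of_pow_eq_one hy4)
    have hj2 : j = 2 := by
      by_contra hne
      refine hu1 (hy2 ▸ orderOf_dvd_iff_pow_eq_one.1 ?_)
      rw [hj']
      exact (pow_dvd_pow 2 (by omega : j ≤ 1)).trans (by norm_num)
    have h4 : 2 ^ 2 ∣ 2 * (S : Subgroup G).index := by
      have hj4 : orderOf y = 2 ^ 2 := by rw [hj', hj2]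
      rw [← hj4]
      exact ((orderOf_dvd_natCard y).trans (index_eq_card M).symm.dvd).trans h1
    exact S.not_dvd_index (Nat.dvd_of_mul_dvd_mul_left two_pos (by simpa [pow_two] using h4))

theorem fix3 {G : Type*} [Group G] {Ω : Type*} [Fintype Ω] [MulAction G Ω]
    (hfix : ∀ g : G, g ≠ 1 → Nat.card (MulAction.fixedBy Ω g) ≤ 2) {g : G} {a b c : Ω}
    (ha : g • a = a) (hb : g • b = b) (hc : g • c = c) (hab : a ≠ b) (hac : a ≠ c) (hbc : b ≠ c) :
    g = 1 := by
  classical
  by_contra hg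
  have h := hfix g hg
  rw [Nat.card_eq_fintype_card] at h
  refine absurd h (not_le.2 ?_)
  rw [Fintype.two_lt_card_iff]
  exact ⟨⟨a, ha⟩, ⟨b, hb⟩, ⟨c, hc⟩, fun e => hab (congrArg Subtype.val e),
    fun e => hac (congrArg Subtype.val e), fun e => hbc (congrArg Subtype.val e)⟩

/-- An index-two subgroup containing the stabilizers acts as a Frobenius group. -/
theorem frobenius_of_index_two {G : Type*} [Group G] [Finite G] {Ω : Type*} [Fintype Ω]
    [MulAction G Ω] [MulAction.IsPretransitive G Ω]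
    (hfix : ∀ g : G, g ≠ 1 → Nat.card (MulAction.fixedBy Ω g) ≤ 2) (α : Ω) (N : Subgroup G)
    (hN : N.index = 2) (hle : stabilizer G α ≤ N) (hne : stabilizer G α ≠ ⊥)
    (h4 : ¬ 4 ∣ Fintype.card Ω) (h2 : 2 < Fintype.card Ω) :
    ∃ H : Subgroup N, Cfsg.IsFrobeniusComplement H := by
  have hstab : stabilizer N α = (stabilizer G α).subgroupOf N := by
    ext x; simp [mem_subgroupOf, Subgroup.smul_def]
  have hcard : Fintype.card Ω = 2 * Nat.card (orbit N α) := by
    rw [← Nat.card_eq_fintype_card, ← index_stabilizer_of_transitive G α, ← relIndex_mul_index hle, hN,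
      Nat.card_coe_set_eq, ← index_stabilizer, hstab, mul_comm, relIndex]
  refine ⟨stabilizer N α, ?_, ?_, ?_⟩
  · rw [hstab, ne_eq, subgroupOf_eq_bot, disjoint_iff, inf_eq_left.2 hle]
    exact hne
  · intro h
    have h1 : (stabilizer N α).index = 1 := by rw [h, index_top]
    rw [index_stabilizer, ← Nat.card_coe_set_eq] at h1
    omega
  intro g hg
  rw [eq_bot_iff]
  rintro x ⟨hxα, hxg⟩
  rw [Subgroup.mem_bot]
  by_contra hx1
  have hγ : x • g • α = g • α := by
    have h := mem_pointwise_smul_iff_inv_smul_mem.1 hxg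
    rw [← map_inv, MulAut.smul_def, MulAut.conj_apply, inv_inv, mem_stabilizer_iff, mul_smul, mul_smul,
      inv_smul_eq_iff] at h
    exact h
  have hxα' : x • α = α := hxα
  have hgα : g • α ≠ α := hg
  obtain ⟨p, hp, hpx⟩ := Nat.exists_prime_and_dvd (n := orderOf x) (fun h => hx1 (orderOf_eq_one_iff.1 h))
  haveI := Fact.mk hp
  set y := x ^ (orderOf x / p) with hy
  have hyo : orderOf y = p := orderOf_pow_orderOf_div (orderOf_pos x).ne' hpx
  have hy1 : ((y : N) : G) ≠ 1 := fun h => by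
    have : y = 1 := Subtype.ext h
    rw [this, orderOf_one] at hyo
    exact hp.one_lt.ne hyo
  have hyα : y • α = α :=
    mem_stabilizer_iff.1 (pow_mem (mem_stabilizer_iff.2 hxα' : x ∈ stabilizer N α) _)
  have hyγ : y • g • α = g • α :=
    mem_stabilizer_iff.1 (pow_mem (mem_stabilizer_iff.2 hγ : x ∈ stabilizer N (g • α)) _)
  have hP : IsPGroup p (zpowers y) := IsPGroup.of_card (n := 1) (by rw [Nat.card_zpowers, hyo, pow_one])
  have honly : ∀ ω : Ω, y • ω = ω → ω = α ∨ ω = g • α := by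
    intro ω hω
    by_contra hcon
    push Not at hcon
    exact hy1 (fix3 hfix (g := (y : G)) hyα hyγ hω hgα.symm hcon.1.symm hcon.2.symm)
  have hfixΩ : fixedPoints (zpowers y) Ω = {α, g • α} := by
    ext ω
    constructor
    · exact fun h => honly ω (h ⟨y, mem_zpowers y⟩)
    · rintro h ⟨z, hz⟩
      show z • ω = ω
      refine mem_stabilizer_iff.1 (zpowers_le.2 ?_ hz)
      rcases h with rfl | rfl
      · exact hyα
      · exact hyγ
  have hfixO : fixedPoints (zpowers y) (orbit N α) =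
      {⟨α, mem_orbit_self α⟩, ⟨g • α, mem_orbit α g⟩} := by
    ext ⟨ω, hω⟩
    constructor
    · intro h
      have h1 : y • ω = ω := congrArg Subtype.val (h ⟨y, mem_zpowers y⟩)
      rcases honly ω h1 with rfl | rfl
      · exact Or.inl rfl
      · exact Or.inr rfl
    · rintro h ⟨z, hz⟩
      refine Subtype.ext ?_
      show z • ω = ω
      refine mem_stabilizer_iff.1 (zpowers_le.2 ?_ hz)
      rcases h with h | h <;> cases h
      · exact hyα
      · exact hyγ
  have e1 := hP.card_modEq_card_fixedPoints Ω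
  have e2 := hP.card_modEq_card_fixedPoints (orbit N α)
  rw [hfixΩ, Nat.card_coe_set_eq (α := Ω) ({α, g • α} : Set Ω), Set.ncard_pair hgα.symm,
    Nat.card_eq_fintype_card, hcard] at e1
  rw [hfixO, Nat.card_coe_set_eq (α := orbit N α) ({⟨α, mem_orbit_self α⟩, ⟨g • α, mem_orbit α g⟩} : Set _),
    Set.ncard_pair fun h => hgα (congrArg Subtype.val h).symm] at e2
  have h22 : (2 : ℕ) ≡ 2 * 2 [MOD p] := e1.symm.trans (Nat.ModEq.mul_left 2 e2)
  have hp2 : p = 2 := by
    have h := (Nat.modEq_iff_dvd' (by norm_num : 2 ≤ 2 * 2)).1 h22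
    exact (Nat.prime_dvd_prime_iff_eq hp Nat.prime_two).1 h
  subst hp2
  unfold Nat.ModEq at e2
  omega

/-- Let G be a finite group acting faithfully and transitively on a finite set Ω with fixity 2 (every non-identity element fixes at most two points, and some fixes exactly two). Let α ∈ Ω and S a Sylow 2-subgroup of G. Then one of the following holds: the stabilizer S_α of α in S is trivial; S is dihedral or semidihedral and either |S_α| = 2 or |S : S_α| = 2; |S| ≥ 4, S has exactly one orbit of size 2 on Ω, every other S-orbit is regular, and G has a normal subgroup of index 2 or of index |S| which is a Frobenius group; or S ≤ G_α. -/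
theorem result {G : Type*} [Group G] [Finite G] {Ω : Type*} [Fintype Ω] [MulAction G Ω] [FaithfulSMul G Ω] (htr : MulAction.IsPretransitive G Ω)
    (hfix : ∀ g : G, g ≠ 1 → Nat.card (MulAction.fixedBy Ω g) ≤ 2) (hex : ∃ g : G, g ≠ 1 ∧ Nat.card (MulAction.fixedBy Ω g) = 2) (α : Ω) (S : Sylow 2 G) :
    (S : Subgroup G) ⊓ MulAction.stabilizer G α = ⊥ ∨
    (((∃ n : ℕ, Nonempty (↥(S : Subgroup G) ≃* DihedralGroup n)) ∨ Cfsg.IsQuasiDihedral ↥(S : Subgroup G)) ∧
       (Nat.card ↥((S : Subgroup G) ⊓ MulAction.stabilizer G α) = 2 ∨ ((S : Subgroup G) ⊓ MulAction.stabilizer G α).relIndex (S : Subgroup G) = 2)) ∨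
    (4 ≤ Nat.card (S : Subgroup G) ∧
       (∃ ω : Ω, Nat.card (MulAction.orbit ↥(S : Subgroup G) ω) = 2 ∧
          ∀ ω' : Ω, ω' ∉ MulAction.orbit ↥(S : Subgroup G) ω → Nat.card (MulAction.orbit ↥(S : Subgroup G) ω') = Nat.card (S : Subgroup G)) ∧
       ∃ N : Subgroup G, N.Normal ∧ (N.index = 2 ∨ N.index = Nat.card (S : Subgroup G)) ∧ (∃ H : Subgroup ↥N, Cfsg.IsFrobeniusComplement H)) ∨
    (S : Subgroup G) ≤ MulAction.stabilizer G α := by
  classical
  haveI := htr
  haveI := Fact.mk Nat.prime_two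
  set T := (S : Subgroup G) ⊓ MulAction.stabilizer G α with hT
  by_cases hT1 : T = ⊥
  · exact Or.inl hT1
  by_cases hSle : (S : Subgroup G) ≤ stabilizer G α
  · exact Or.inr (Or.inr (Or.inr hSle))
  right
  have hTS : T ≤ (S : Subgroup G) := inf_le_left
  have hmemT : ∀ x, x ∈ (S : Subgroup G) → (x ∈ T ↔ x • α = α) := fun x hx =>
    ⟨fun h => h.2, fun h => ⟨hx, h⟩⟩
  -- an element of `S` outside `T` normalizing `T`
  obtain ⟨n, hnS, hnT, hnN⟩ : ∃ n ∈ (S : Subgroup G), n ∉ T ∧ ∀ t, t ∈ T → n * t * n⁻¹ ∈ T := by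
    haveI := S.2.isNilpotent
    have hlt : T.subgroupOf (S : Subgroup G) < ⊤ := lt_top_iff_ne_top.2 fun h =>
      hSle ((subgroupOf_eq_top.1 h).trans inf_le_right)
    have h := normalizerCondition_of_isNilpotent _ hlt
    obtain ⟨n, hn, hnT⟩ := SetLike.exists_of_lt h
    refine ⟨n, n.2, fun hh => hnT hh, fun t ht => ?_⟩
    exact (mem_normalizer_iff.1 hn ⟨t, hTS ht⟩).1 ht
  set β := n • α with hβ
  have hβα : β ≠ α := fun h => hnT ((hmemT n hnS).2 h)
  have hnN' : ∀ t, t ∈ T → n⁻¹ * t * n ∈ T := by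
    intro t ht
    let φ : T → T := fun x => ⟨n * x * n⁻¹, hnN x x.2⟩
    have hinj : Function.Injective φ := fun a b h =>
      Subtype.ext (by simpa [φ] using congrArg Subtype.val h)
    obtain ⟨x, hx⟩ := Finite.surjective_of_injective hinj ⟨t, ht⟩
    have hx' : n * (x : G) * n⁻¹ = t := congrArg Subtype.val hx
    rw [← hx', show n⁻¹ * (n * (x : G) * n⁻¹) * n = x by group]
    exact x.2
  have hTα : ∀ t ∈ T, t • α = α := fun t ht => ht.2
  have hTβ : ∀ t ∈ T, t • β = β := by
    intro t ht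
    have h := hTα _ (hnN' t ht)
    rwa [mul_smul, mul_smul, inv_smul_eq_iff] at h
  obtain ⟨t₀, ht₀, ht₀1⟩ := T.bot_or_exists_ne_one.resolve_left hT1
  have honly : ∀ t ∈ T, t ≠ 1 → ∀ ω, t • ω = ω → ω = α ∨ ω = β := by
    intro t ht ht1 ω hω
    by_contra hcon
    push Not at hcon
    exact ht1 (fix3 hfix (hTα t ht) (hTβ t ht) hω hβα.symm hcon.1.symm hcon.2.symm)
  -- elements of `S` normalizing `T`
  have hnorm : ∀ m ∈ (S : Subgroup G), m⁻¹ * t₀ * m ∈ T → m ∈ T ∨ n⁻¹ * m ∈ T := by
    intro m hm h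
    have h1 : t₀ • m • α = m • α := by
      have := hTα _ h
      rwa [mul_smul, mul_smul, inv_smul_eq_iff] at this
    rcases honly t₀ ht₀ ht₀1 _ h1 with h2 | h2
    · exact Or.inl ((hmemT m hm).2 h2)
    · refine Or.inr ((hmemT _ (mul_mem (inv_mem hnS) hm)).2 ?_)
      rw [mul_smul, h2, hβ, inv_smul_smul]
  have hnn : n * n ∈ T := by
    refine (hmemT _ (mul_mem hnS hnS)).2 ?_
    rw [mul_smul, ← hβ]
    have h1 : t₀ • n • β = n • β := by
      have := hTβ _ (hnN' t₀ ht₀)
      rwa [mul_smul, mul_smul, inv_smul_eq_iff] at this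
    refine (honly t₀ ht₀ ht₀1 _ h1).resolve_right fun h => hβα ?_
    have h' : n • β = n • α := h.trans hβ
    exact smul_left_cancel n h'
  have hS4 : 4 ≤ Nat.card (S : Subgroup G) := by
    have hd : Nat.card T * T.relIndex (S : Subgroup G) = Nat.card (S : Subgroup G) := by
      rw [← relIndex_bot_left T, ← relIndex_bot_left (S : Subgroup G)]
      exact relIndex_mul_relIndex _ _ _ bot_le hTS
    have h1 : 1 < Nat.card T := by
      rw [Finite.one_lt_card_iff_nontrivial]; exact (nontrivial_iff_ne_bot T).2 hT1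
    have h2 : T.relIndex (S : Subgroup G) ≠ 1 := fun h => hnT (relIndex_eq_one.1 h hnS)
    have h3 : T.relIndex (S : Subgroup G) ≠ 0 := index_ne_zero_of_finite
    rw [← hd]
    nlinarith [show 2 ≤ T.relIndex (S : Subgroup G) by omega]
  have hsmall : ∀ x : (S : Subgroup G), (x : G) ≠ 1 → (x : G) * x = 1 → ∀ (B : Set G) (g : G),
      Nat.card B ≤ 2 → (∀ c ∈ (S : Subgroup G), c * x = x * c → c ∈ B ∨ g * c ∈ B) →
      ((∃ m : ℕ, Nonempty (↥(S : Subgroup G) ≃* DihedralGroup m)) ∨
        Cfsg.IsQuasiDihedral ↥(S : Subgroup G)) ∨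
        (Nat.card (S : Subgroup G) = 4 ∧ IsCyclic (S : Subgroup G)) := by
    intro x hx1 hxx B g hB hcov
    refine dsd_of_small_centralizer S.2 hS4 x (fun h => hx1 (by rw [h]; rfl)) (Subtype.ext hxx) ?_
    rw [Nat.card_congr (equivMapOfInjective (centralizer ({x} : Set (S : Subgroup G))) _
      (S : Subgroup G).subtype_injective).toEquiv]
    refine (card_le_double B g ?_).trans (by omega)
    rintro _ ⟨c, hc, rfl⟩
    exact hcov c c.2 (congrArg Subtype.val (mem_centralizer_singleton_iff.1 hc))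
  by_cases hNT : ∀ m ∈ (S : Subgroup G), m ∈ T ∨ n⁻¹ * m ∈ T
  swap
  · -- `T` has order two
    obtain ⟨t₁, ht₁, hcard⟩ : ∃ t, t ∈ T ∧ ∀ x ∈ T, x ≠ 1 → x = t := by
      push Not at hNT
      obtain ⟨m₀, hm₀, hm₀T, hm₀n⟩ := hNT
      set N1 : Subgroup (S : Subgroup G) := normalizer ((T.subgroupOf (S : Subgroup G)) : Set (S : Subgroup G))
        with hN1
      have hmemN1 : ∀ m : (S : Subgroup G), m ∈ N1 → (m : G) ∈ T ∨ n⁻¹ * (m : G) ∈ T := by
        intro m hm
        refine hnorm m m.2 ?_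
        have := (mem_normalizer_iff.1 (inv_mem hm) ⟨t₀, hTS ht₀⟩).1 ht₀
        simpa [mem_subgroupOf] using this
      have hlt : N1 < ⊤ := lt_top_iff_ne_top.2 fun h => by
        rcases hmemN1 ⟨m₀, hm₀⟩ (h ▸ mem_top _) with h' | h'
        · exact hm₀T h'
        · exact hm₀n h'
      haveI := S.2.isNilpotent
      obtain ⟨m, hm, hmN⟩ := SetLike.exists_of_lt (normalizerCondition_of_isNilpotent _ hlt)
      have hnN1 : ∀ x : (S : Subgroup G), (x : G) ∈ T ∨ n⁻¹ * (x : G) ∈ T → x ∈ N1 := by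
        have hT1' : T.subgroupOf (S : Subgroup G) ≤ N1 := le_normalizer
        have hn1 : (⟨n, hnS⟩ : (S : Subgroup G)) ∈ N1 := by
          rw [hN1, mem_normalizer_iff]
          refine fun y => ⟨fun hy => hnN y hy, fun hy => ?_⟩
          have := hnN' _ hy
          simpa [mem_subgroupOf, mul_assoc] using this
        rintro x (hx | hx)
        · exact hT1' hx
        · rw [show x = ⟨n, hnS⟩ * (⟨n⁻¹ * x, mul_mem (inv_mem hnS) x.2⟩ : (S : Subgroup G)) from
            Subtype.ext (mul_inv_cancel_left n (x : G)).symm]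
          exact mul_mem hn1 (hT1' hx)
      have hmT : (m : G) ∉ T := fun h => hmN (hnN1 m (Or.inl h))
      have hmn : n⁻¹ * (m : G) ∉ T := fun h => hmN (hnN1 m (Or.inr h))
      have hmα : (m : G) • α ≠ α ∧ (m : G) • α ≠ β := by
        refine ⟨fun h => hmT ((hmemT _ m.2).2 h), fun h => hmn ((hmemT _ (mul_mem (inv_mem hnS) m.2)).2 ?_)⟩
        rw [mul_smul, h, hβ, inv_smul_smul]
      -- the conjugate of `T` under `m`
      have himg : ∀ x ∈ T, x ≠ 1 → (m : G) * x * (m : G)⁻¹ ∉ T ∧ n⁻¹ * ((m : G) * x * (m : G)⁻¹) ∈ T := by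
        intro x hx hx1
        have hne : (m : G) * x * (m : G)⁻¹ ≠ 1 := by simpa using hx1
        have hnot : (m : G) * x * (m : G)⁻¹ ∉ T := by
          intro h
          have hf : ((m : G) * x * (m : G)⁻¹) • (m : G) • α = (m : G) • α := by
            rw [mul_smul, mul_smul, inv_smul_smul, hTα x hx]
          rcases honly _ h hne _ hf with h' | h'
          · exact hmα.1 h'
          · exact hmα.2 h'
        refine ⟨hnot, ?_⟩
        have hmem : m * ⟨x, hTS hx⟩ * m⁻¹ ∈ N1 :=
          (mem_normalizer_iff.1 hm _).1 (le_normalizer (mem_subgroupOf.2 hx))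
        exact (hmemN1 _ hmem).resolve_left hnot
      refine ⟨t₀, ht₀, fun x hx hx1 => ?_⟩
      by_contra hne
      obtain ⟨-, hx'⟩ := himg x hx hx1
      obtain ⟨-, ht'⟩ := himg t₀ ht₀ ht₀1
      have h1 : (n⁻¹ * ((m : G) * x * (m : G)⁻¹))⁻¹ * (n⁻¹ * ((m : G) * t₀ * (m : G)⁻¹)) ∈ T :=
        mul_mem (inv_mem hx') ht'
      rw [show (n⁻¹ * ((m : G) * x * (m : G)⁻¹))⁻¹ * (n⁻¹ * ((m : G) * t₀ * (m : G)⁻¹)) =
        (m : G) * (x⁻¹ * t₀) * (m : G)⁻¹ by group] at h1
      exact (himg (x⁻¹ * t₀) (mul_mem (inv_mem hx) ht₀) (fun h => hne (inv_mul_eq_one.1 h))).1 h1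
    have hTset : (T : Set G) = {1, t₁} := by
      ext x
      constructor
      · intro hx
        by_cases h : x = 1
        · exact Or.inl h
        · exact Or.inr (hcard x hx h)
      · rintro (rfl | rfl)
        · exact one_mem T
        · exact ht₁
    have ht₁1 : t₁ ≠ 1 := fun h => ht₀1 ((hcard t₀ ht₀ ht₀1).trans h)
    have hTcard : Nat.card T = 2 := by
      have h : Nat.card (T : Set G) = 2 := by
        rw [hTset, Nat.card_coe_set_eq, Set.ncard_pair ht₁1.symm]
      exact h
    have htt : t₁ * t₁ = 1 := by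
      by_contra h
      exact ht₁1 (mul_eq_left.1 (hcard _ (mul_mem ht₁ ht₁) h))
    have ht01 : t₀ = t₁ := hcard t₀ ht₀ ht₀1
    rcases hsmall ⟨t₁, hTS ht₁⟩ ht₁1 htt (T : Set G) n⁻¹ hTcard.le (fun c hc hcc => by
        refine hnorm c hc ?_
        have hcc' : c * t₁ = t₁ * c := hcc
        rw [ht01, mul_assoc, ← hcc', inv_mul_cancel_left]
        exact ht₁) with h | ⟨h4, hcy⟩
    · exact Or.inl ⟨h, Or.inl hTcard⟩
    · exfalso
      apply hNT
      intro m hm
      refine hnorm m hm ?_
      have hc : (⟨m, hm⟩ : (S : Subgroup G)) * ⟨t₀, hTS ht₀⟩ = ⟨t₀, hTS ht₀⟩ * ⟨m, hm⟩ :=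
        by letI := IsCyclic.commGroup (α := (S : Subgroup G)); exact mul_comm _ _
      have hc' : m * t₀ = t₀ * m := congrArg Subtype.val hc
      rw [mul_assoc, ← hc', inv_mul_cancel_left]
      exact ht₀
  -- now `T` has index two
  have hidx : T.relIndex (S : Subgroup G) = 2 := by
    rw [relIndex, index_eq_two_iff]
    refine ⟨⟨n, hnS⟩, fun b => ?_⟩
    by_cases hb : (b : G) ∈ T
    · exact Or.inr ⟨hb, fun h => hnT (by simpa using mul_mem (inv_mem hb) (mem_subgroupOf.1 h))⟩
    · refine Or.inl ⟨mem_subgroupOf.2 ?_, hb⟩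
      have h := (hNT b b.2).resolve_left hb
      show (b : G) * n ∈ T
      rw [show (b : G) * n = n * (n⁻¹ * b) * n⁻¹ * (n * n) by group]
      exact mul_mem (hnN _ h) hnn
  by_cases hD : (∃ m : ℕ, Nonempty (↥(S : Subgroup G) ≃* DihedralGroup m)) ∨
      Cfsg.IsQuasiDihedral ↥(S : Subgroup G)
  · exact Or.inl ⟨hD, Or.inr hidx⟩
  right; left
  -- all other orbits are regular
  have hreg : ∀ s ∈ (S : Subgroup G), ∀ ω, ω ≠ α → ω ≠ β → s • ω = ω → s = 1 := by
    intro s hs ω hωα hωβ hsω
    by_contra hs1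
    have hsT : s ∉ T := fun h => by
      rcases honly s h hs1 ω hsω with h' | h'
      · exact hωα h'
      · exact hωβ h'
    have hsn : n⁻¹ * s ∈ T := (hNT s hs).resolve_left hsT
    have hss : s * s ∈ T := by
      have h1 := mul_mem_iff_of_index_two (H := T.subgroupOf (S : Subgroup G)) hidx
        (a := (⟨s, hs⟩ : (S : Subgroup G))) (b := ⟨s, hs⟩)
      simp only [mem_subgroupOf, coe_mul, iff_self, iff_true] at h1
      exact h1
    have hs2 : s * s = 1 := by
      by_contra h
      rcases honly _ hss h ω (by rw [mul_smul, hsω, hsω]) with h' | h'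
      · exact hωα h'
      · exact hωβ h'
    set B : Set G := {c | c ∈ T ∧ c * s = s * c} with hB
    have hBcard : Nat.card B ≤ 2 := by
      refine le_trans (Nat.card_le_card_of_injective
        (fun c : B => (⟨(c : G) • ω, ?_⟩ : fixedBy Ω s)) ?_) (hfix s hs1)
      · show s • (c : G) • ω = (c : G) • ω
        rw [← mul_smul, ← c.2.2, mul_smul, hsω]
      · intro a b hab
        have hab' : (a : G) • ω = (b : G) • ω := congrArg Subtype.val hab
        have hmem : (b : G)⁻¹ * a ∈ T := mul_mem (inv_mem b.2.1) a.2.1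
        by_contra hne
        have hne1 : (b : G)⁻¹ * a ≠ 1 := fun h => hne (Subtype.ext (inv_mul_eq_one.1 h).symm)
        rcases honly _ hmem hne1 ω (by rw [mul_smul, hab', inv_smul_smul]) with h' | h'
        · exact hωα h'
        · exact hωβ h'
    rcases hsmall ⟨s, hs⟩ hs1 hs2 B s hBcard (fun c hc hcc => by
        have hcc' : c * s = s * c := hcc
        by_cases hcT : c ∈ T
        · exact Or.inl ⟨hcT, hcc'⟩
        · refine Or.inr ⟨?_, by rw [mul_assoc, hcc']⟩
          have h1 := mul_mem_iff_of_index_two (H := T.subgroupOf (S : Subgroup G)) hidx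
            (a := (⟨s, hs⟩ : (S : Subgroup G))) (b := ⟨c, hc⟩)
          simp only [mem_subgroupOf, coe_mul] at h1
          exact h1.2 (iff_of_false hsT hcT)) with h | ⟨h4, hcy⟩
    · exact hD h
    · have hT2 : Nat.card T = 2 := by
        have hd : Nat.card T * T.relIndex (S : Subgroup G) = Nat.card (S : Subgroup G) := by
          rw [← relIndex_bot_left T, ← relIndex_bot_left (S : Subgroup G)]
          exact relIndex_mul_relIndex _ _ _ bot_le hTS
        rw [hidx, h4] at hd
        omega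
      have hto : orderOf (⟨t₀, hTS ht₀⟩ : (S : Subgroup G)) = 2 := by
        rw [Subgroup.orderOf_mk]
        have h := orderOf_dvd_natCard (⟨t₀, ht₀⟩ : T)
        rw [hT2, Subgroup.orderOf_mk, Nat.dvd_prime Nat.prime_two] at h
        exact h.resolve_left fun e => ht₀1 (orderOf_eq_one_iff.1 e)
      have hso : orderOf (⟨s, hs⟩ : (S : Subgroup G)) = 2 :=
        orderOf_eq_prime (by rw [pow_two]; exact Subtype.ext hs2) fun e => hs1 (congrArg Subtype.val e)
      obtain ⟨r, hr⟩ := hcy.exists_generator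
      have heq := CfsgLib.Invol.mem_zpowers_unique_involution (hr _) (hr _) hso hto
      have hi' : s = t₀ := congrArg Subtype.val heq
      exact hsT (hi' ▸ ht₀)
  have horb : orbit (S : Subgroup G) α = {α, β} := by
    ext ω
    constructor
    · rintro ⟨⟨s, hs⟩, rfl⟩
      rcases hNT s hs with h | h
      · exact Or.inl (hTα s h)
      · refine Or.inr ?_
        show s • α = β
        have h' := hTα _ h
        rwa [mul_smul, inv_smul_eq_iff] at h'
    · rintro (rfl | rfl)
      · exact mem_orbit_self _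
      · exact ⟨⟨n, hnS⟩, rfl⟩
  refine ⟨hS4, ⟨α, ?_, ?_⟩, ?_⟩
  · rw [horb, Nat.card_coe_set_eq, Set.ncard_pair hβα.symm]
  · intro ω' hω'
    rw [horb] at hω'
    have hωα : ω' ≠ α := fun h => hω' (Or.inl h)
    have hωβ : ω' ≠ β := fun h => hω' (Or.inr h)
    refine (Nat.card_eq_of_bijective (fun s : (S : Subgroup G) => (⟨s • ω', mem_orbit ω' s⟩ : orbit (S : Subgroup G) ω')) ⟨?_, ?_⟩).symm
    · intro a b hab
      have h : (a : G) • ω' = (b : G) • ω' := congrArg Subtype.val hab
      refine Subtype.ext (inv_mul_eq_one.1 (hreg _ (mul_mem (inv_mem b.2) a.2) ω' hωα hωβ ?_)).symm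
      rw [mul_smul, h, inv_smul_smul]
    · rintro ⟨_, s, rfl⟩; exact ⟨s, rfl⟩
  -- the normal subgroup of index two
  have hfixT : ∀ x ∈ (S : Subgroup G), x ≠ 1 → ((∃ ω : Ω, x • ω = ω) ↔ x ∈ T) := by
    refine fun x hx hx1 => ⟨fun ⟨ω, hω⟩ => ?_, fun h => ⟨α, hTα x h⟩⟩
    by_cases hωα : ω = α
    · exact (hmemT x hx).2 (hωα ▸ hω)
    by_cases hωβ : ω = β
    · subst hωβ
      refine (hNT x hx).resolve_right fun h => hβα ?_
      have hx' : x • α = β := by
        have h' := hTα _ h
        rwa [mul_smul, inv_smul_eq_iff] at h'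
      exact (smul_left_cancel x (hx'.trans hω.symm)).symm
    exact absurd (hreg x hx ω hωα hωβ hω) hx1
  obtain ⟨N, hNn, hNi, hTN, hnN2⟩ := exists_index_two S T hTS n hnS hnT hnn hidx (by
    intro x hx g hgx
    by_cases hx1 : x = 1
    · simp [hx1]
    rw [← hfixT x hx hx1, ← hfixT _ hgx (by simpa using hx1)]
    constructor
    · rintro ⟨ω, hω⟩
      exact ⟨g • ω, by rw [mul_smul, mul_smul, inv_smul_smul, hω]⟩
    · rintro ⟨ω, hω⟩
      refine ⟨g⁻¹ • ω, ?_⟩
      rw [mul_smul, mul_smul] at hω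
      rw [eq_inv_smul_iff]; exact hω)
  refine ⟨N, hNn, Or.inl hNi, ?_⟩
  have hTst : T ≤ stabilizer G α := inf_le_right
  have hdvd : (stabilizer G α).index ∣ 2 * (S : Subgroup G).index := by
    have hh := relIndex_mul_index hTS
    rw [hidx] at hh
    rw [hh]; exact index_dvd_of_le hTst
  have h4 : ¬ 4 ∣ Fintype.card Ω := by
    rw [← Nat.card_eq_fintype_card, ← index_stabilizer_of_transitive G α]
    intro h
    exact S.not_dvd_index (Nat.dvd_of_mul_dvd_mul_left (by norm_num) ((h.trans hdvd) : 2 * 2 ∣ _))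
  have h2 : 2 < Fintype.card Ω := by
    by_contra hcon
    refine ht₀1 (eq_of_smul_eq_smul (α := Ω) fun ω => ?_)
    rw [one_smul]
    by_cases hω : ω = α
    · rw [hω]; exact hTα t₀ ht₀
    by_cases hω' : ω = β
    · rw [hω']; exact hTβ t₀ ht₀
    exact absurd (Fintype.two_lt_card_iff.2 ⟨ω, α, β, hω, hω', hβα.symm⟩) hcon
  refine frobenius_of_index_two hfix α N hNi ?_ ?_ h4 h2
  · -- the stabilizer lies in `N`
    intro x hx
    by_contra hxN
    have hrel : N.relIndex (stabilizer G α) = 2 := by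
      rw [relIndex, index_eq_two_iff]
      refine ⟨⟨x, hx⟩, fun b => ?_⟩
      simp only [mem_subgroupOf, coe_mul, mul_mem_iff_of_index_two hNi]
      by_cases hb : (b : G) ∈ N <;> simp [hb, hxN, Xor']
    have hTd : Nat.card T * 2 ∣ Nat.card (stabilizer G α) := by
      have h1 : Nat.card (N ⊓ stabilizer G α : Subgroup G) * 2 = Nat.card (stabilizer G α) := by
        rw [← hrel, ← inf_relIndex_right, ← relIndex_bot_left (N ⊓ stabilizer G α),
          ← relIndex_bot_left (stabilizer G α)]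
        exact relIndex_mul_relIndex _ _ _ bot_le inf_le_right
      rw [← h1]
      exact Nat.mul_dvd_mul_right (card_dvd_of_le (le_inf hTN hTst)) 2
    obtain ⟨c, hc⟩ := hTd
    have hd : Nat.card T * T.relIndex (S : Subgroup G) = Nat.card (S : Subgroup G) := by
      rw [← relIndex_bot_left T, ← relIndex_bot_left (S : Subgroup G)]
      exact relIndex_mul_relIndex _ _ _ bot_le hTS
    rw [hidx] at hd
    have hG := (stabilizer G α).card_mul_index
    rw [hc, hd, ← (S : Subgroup G).card_mul_index, mul_assoc] at hG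
    have heq := Nat.eq_of_mul_eq_mul_left Nat.card_pos hG
    have heven : 2 ∣ (stabilizer G α).index := by
      have hs : ((stabilizer G α).subgroupOf (S : Subgroup G)).index = 2 := by
        have : (stabilizer G α).relIndex (S : Subgroup G) = 2 := by
          rw [← inf_relIndex_right, inf_comm]; exact hidx
        exact this
      rw [index_stabilizer_of_transitive G α]
      have e := S.2.card_modEq_card_fixedPoints Ω
      have hempty : IsEmpty (fixedPoints (S : Subgroup G) Ω) := ⟨fun ⟨ω, hω⟩ => by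
        have hω1 : t₀ • ω = ω := hω ⟨t₀, hTS ht₀⟩
        have hω2 : n • ω = ω := hω ⟨n, hnS⟩
        rcases honly t₀ ht₀ ht₀1 ω hω1 with rfl | rfl
        · exact hnT ((hmemT n hnS).2 hω2)
        · exact hβα ((smul_left_cancel n hω2 : β = α))⟩
      rw [Nat.card_of_isEmpty (α := fixedPoints (S : Subgroup G) Ω)] at e
      exact Nat.modEq_zero_iff_dvd.1 e
    exact S.not_dvd_index (heq ▸ dvd_mul_of_dvd_right heven c)
  · intro h
    exact hT1 (le_bot_iff.1 (hTst.trans h.le))

end Cfsg.Agent.S3390
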