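import Cfsg.Statements.S3391
import Cfsg.Agent.Lib.Recognition.Suzuki.Fixity
import Cfsg.Agent.Lib.Recognition.Suzuki.Partition
-- import your own Cfsg.Agent.* helpers here

set_option autoImplicit false
open Cfsg

namespace Cfsg.Agent.S3391

open CfsgLib.Suzuki CfsgLib.Recognition in
/-- Let q = 2^{2m+1} ≥ 8 and let G be isomorphic to the Suzuki group Sz(q). If G acts faithfully and transitively on a finite set Ω with fixity 2 (every non-identity element fixes at most two points, and some fixes exactly two), then either |Ω| = q² + 1 and the action is 2-transitive, or |Ω| = q²(q² + 1) and the point stabilizers have order q − 1. -/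
theorem result {G : Type*} [Group G] [Finite G] (F : Type) [Field F] [Fintype F] (m : ℕ) (hm : 1 ≤ m) (hF : Fintype.card F = 2 ^ (2 * m + 1))
    (e : G ≃* ↥(Cfsg.Lie.Sz F (2 ^ (m + 1)))) {Ω : Type*} [Fintype Ω] [MulAction G Ω] [FaithfulSMul G Ω] (htr : MulAction.IsPretransitive G Ω)
    (hfix : ∀ g : G, g ≠ 1 → Nat.card (MulAction.fixedBy Ω g) ≤ 2) (hex : ∃ g : G, g ≠ 1 ∧ Nat.card (MulAction.fixedBy Ω g) = 2) :
    (Fintype.card Ω = Fintype.card F ^ 2 + 1 ∧ MulAction.IsMultiplyPretransitive G Ω 2) ∨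
    (Fintype.card Ω = Fintype.card F ^ 2 * (Fintype.card F ^ 2 + 1) ∧ ∀ α : Ω, Nat.card (MulAction.stabilizer G α) = Fintype.card F - 1) := by
  haveI : CharP F 2 := charTwo hF
  letI : MulAction ↥(Cfsg.Lie.Sz F (2 ^ (m + 1))) Ω := MulAction.compHom Ω e.symm.toMonoidHom
  have hsmul : ∀ (s : ↥(Cfsg.Lie.Sz F (2 ^ (m + 1)))) (x : Ω), s • x = e.symm s • x := fun _ _ => rfl
  have hsmul' : ∀ (g : G) (x : Ω), e g • x = g • x := fun g x => by rw [hsmul, MulEquiv.symm_apply_apply]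
  haveI := htr
  haveI : MulAction.IsPretransitive ↥(Cfsg.Lie.Sz F (2 ^ (m + 1))) Ω :=
    ⟨fun x y => by
      obtain ⟨g, hg⟩ := MulAction.exists_smul_eq G x y
      exact ⟨e g, by rw [hsmul', hg]⟩⟩
  haveI : FaithfulSMul ↥(Cfsg.Lie.Sz F (2 ^ (m + 1))) Ω :=
    ⟨fun {a b} h => e.symm.injective (FaithfulSMul.eq_of_smul_eq_smul fun x : Ω => by rw [← hsmul, ← hsmul, h x])⟩
  have hset : ∀ g : G, MulAction.fixedBy Ω (e g) = MulAction.fixedBy Ω g := fun g =>
    Set.ext fun x => by simp only [MulAction.mem_fixedBy, hsmul']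
  obtain ⟨g₀, hg₀, hcard⟩ := hex
  haveI : Nonempty (MulAction.fixedBy Ω g₀) := (Nat.card_pos_iff.1 (by omega)).1
  obtain ⟨⟨ω₀, hω₀⟩⟩ := (inferInstance : Nonempty (MulAction.fixedBy Ω g₀))
  have hne : e g₀ ≠ 1 := fun h => hg₀ (e.injective (h.trans (map_one e).symm))
  rcases SzFixity.fixity_two (Ω := Ω) hF hm (fun x hx => (SzPartition.centralizer_card hF hm hx).2.2)
    (fun g hg => by
      obtain ⟨g, rfl⟩ := e.surjective g
      rw [hset]
      exact hfix g fun h => hg (by rw [h, map_one]))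
    hne (ω₀ := ω₀) (by rw [hsmul']; exact hω₀) with ⟨h1, h2⟩ | ⟨h1, h2⟩
  · refine Or.inl ⟨by rw [← Nat.card_eq_fintype_card, h1], ?_⟩
    rw [MulAction.is_two_pretransitive_iff] at h2 ⊢
    intro a b c d hab hcd
    obtain ⟨s, hs⟩ := h2 hab hcd
    exact ⟨e.symm s, hs⟩
  · refine Or.inr ⟨by rw [← Nat.card_eq_fintype_card, h1], fun α => ?_⟩
    rw [← h2 α]
    exact Nat.card_congr (e.toEquiv.subtypeEquiv fun g => by
      show g • α = α ↔ e g • α = α
      rw [hsmul'])

end Cfsg.Agent.S3391
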