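import Cfsg.Statements.S3401
import Cfsg.Agent.Lib.Recognition.PowerAction

set_option autoImplicit false
open Cfsg

namespace Cfsg.Agent.S3401

open MulAction CfsgLib.Recognition

theorem socle_simple {G : Type*} [Group G] [Finite G] {Ω : Type*} [Fintype Ω] [MulAction G Ω] [FaithfulSMul G Ω]
    (h2 : IsMultiplyPretransitive G Ω 2) (hn : Fintype.card Ω % 4 = 2) (hn2 : 2 < Fintype.card Ω) :
    ∃ (N : Subgroup G) (_ : N.Normal), N ≠ ⊥ ∧ IsPretransitive N Ω ∧ IsSimpleGroup N ∧
      ¬ IsMulCommutative N ∧ Subgroup.centralizer (N : Set G) = ⊥ ∧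
      (∀ K : Subgroup G, K.Normal → K ≠ ⊥ → N ≤ K) := by
  classical
  haveI : Nontrivial Ω := Fintype.one_lt_card_iff_nontrivial.1 (by omega)
  obtain ⟨α⟩ := (inferInstance : Nonempty Ω)
  haveI hprim : IsPreprimitive G Ω := isPreprimitive_of_is_two_pretransitive h2
  have h2' : ∀ {a b c d : Ω}, a ≠ b → c ≠ d → ∃ g : G, g • a = c ∧ g • b = d :=
    fun {_ _ _ _} => is_two_pretransitive_iff.1 h2
  have hsuborb : ∀ β γ : Ω, β ≠ α → γ ≠ α → ∃ h ∈ stabilizer G α, h • β = γ := by
    intro β γ hβ hγ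
    obtain ⟨g, hg1, hg2⟩ := h2' hβ.symm hγ.symm
    exact ⟨g, hg1, hg2⟩
  have htrans : ∀ M : Subgroup G, M.Normal → M ≠ ⊥ → IsPretransitive M Ω := by
    intro M hM hne
    haveI := hM
    refine IsQuasiPreprimitive.isPretransitive_of_normal fun h => hne ?_
    rw [eq_bot_iff]
    intro x hx
    refine Subgroup.mem_bot.2 (eq_of_smul_eq_smul (α := Ω) fun ω => ?_)
    rw [one_smul]
    exact (h ▸ Set.mem_univ ω : ω ∈ fixedPoints M Ω) ⟨x, hx⟩
  haveI : Nontrivial G := by
    obtain ⟨β, hβ⟩ := exists_ne α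
    obtain ⟨g, hg, -⟩ := h2' hβ hβ.symm
    exact ⟨g, 1, fun h => hβ (by rw [← one_smul G β, ← h, hg])⟩
  obtain ⟨N, ⟨hNn, hN⟩, hNmin⟩ := (Set.toFinite {N : Subgroup G | N.Normal ∧ N ≠ ⊥}).exists_minimal
    ⟨⊤, inferInstance, top_ne_bot⟩
  haveI := hNn
  have hmin : ∀ K : Subgroup G, K.Normal → K ≤ N → K = ⊥ ∨ K = N := fun K hK hle =>
    or_iff_not_imp_left.mpr fun h => le_antisymm hle (hNmin ⟨hK, h⟩ hle)
  haveI hNt := htrans N inferInstance hN
  haveI : Nontrivial N := N.nontrivial_iff_ne_bot.mpr hN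
  have hnotsemi : ¬ ∀ (n : N) (ω : Ω), n • ω = ω → n = 1 := by
    intro hsemi
    have hinj : ∀ a b : N, a • α = b • α → a = b := fun a b h =>
      (inv_mul_eq_one.1 (hsemi (b⁻¹ * a) α (by rw [mul_smul, h, inv_smul_smul]))).symm
    have hord : ∀ a b : N, a ≠ 1 → b ≠ 1 → orderOf a = orderOf b := by
      intro a b ha hb
      obtain ⟨h, hh, e⟩ := hsuborb (a • α) (b • α) (fun e => ha (hsemi a α e)) (fun e => hb (hsemi b α e))
      have hh' : h⁻¹ • α = α := by rw [inv_smul_eq_iff, mem_stabilizer_iff.1 hh]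
      have hab : MulAut.conjNormal h a = b := by
        refine hinj _ _ ?_
        rw [← e, Subgroup.smul_def, MulAut.conjNormal_apply, mul_smul, mul_smul, hh', Subgroup.smul_def]
      rw [← hab, MulEquiv.orderOf_eq]
    obtain ⟨q, hq, hqd⟩ := Nat.exists_prime_and_dvd (n := Nat.card N)
      (fun h => by have := Finite.one_lt_card (α := N); omega)
    haveI := Fact.mk hq
    obtain ⟨x, hx⟩ := exists_prime_orderOf_dvd_card' q hqd
    have hx1 : x ≠ 1 := fun h => by rw [h, orderOf_one] at hx; exact hq.one_lt.ne hx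
    have hpg : IsPGroup q N := IsPGroup.iff_orderOf.2 fun a => by
      by_cases ha : a = 1
      · exact ⟨0, by rw [ha, orderOf_one, pow_zero]⟩
      · exact ⟨1, by rw [hord a x ha hx1, hx, pow_one]⟩
    obtain ⟨k, hk⟩ := hpg.exists_card_eq
    have hcard : Fintype.card Ω = Nat.card N := by
      rw [← Nat.card_eq_fintype_card]
      exact (Nat.card_congr (Equiv.ofBijective (fun n : N => n • α) ⟨hinj, exists_smul_eq N α⟩)).symm
    rw [hk] at hcard
    rcases hq.eq_two_or_odd' with rfl | hodd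
    · rcases (show k = 0 ∨ k = 1 ∨ 2 ≤ k by omega) with rfl | rfl | hk2
      · simp at hcard; omega
      · simp at hcard; omega
      · have : 4 ∣ Fintype.card Ω := hcard ▸ (show 2 ^ 2 ∣ 2 ^ k from Nat.pow_dvd_pow 2 hk2)
        omega
    · have : Odd (Fintype.card Ω) := hcard ▸ hodd.pow
      rw [Nat.odd_iff] at this; omega
  obtain ⟨n₀, ω₀, hn₀, hn₀1⟩ : ∃ (n : N) (ω : Ω), n • ω = ω ∧ n ≠ 1 := by
    simpa only [not_forall, exists_prop] using hnotsemi
  have hnc : ¬ IsMulCommutative N := by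
    intro hc
    refine hn₀1 (Subtype.ext (eq_of_smul_eq_smul (α := Ω) fun τ => ?_))
    obtain ⟨c, hc'⟩ := exists_smul_eq N ω₀ τ
    change n₀ • τ = (1 : G) • τ
    rw [one_smul, ← hc', ← mul_smul, hc.is_comm.comm n₀ c, mul_smul, hn₀]
  have hC : Subgroup.centralizer (N : Set G) = ⊥ := by
    by_contra hC
    haveI := htrans _ inferInstance hC
    refine hn₀1 (Subtype.ext (eq_of_smul_eq_smul (α := Ω) fun ω => ?_))
    obtain ⟨c, hc⟩ := exists_smul_eq (Subgroup.centralizer (N : Set G)) ω₀ ω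
    have hcomm := Subgroup.mem_centralizer_iff.1 c.2 n₀ n₀.2
    rw [Subgroup.coe_one, one_smul, ← hc, Subgroup.smul_def, ← mul_smul, hcomm, mul_smul]
    exact congrArg ((c : G) • ·) hn₀
  obtain ⟨S, _, _, _, m, hS, hm1, ⟨e⟩⟩ := PowerAction.power_decomp N hN hmin hnc
  obtain rfl : m = 1 := by
    by_contra hne
    exact PowerAction.two_transitive_power_false α N e hS hmin (by omega) hsuborb
  let e' : N ≃* S := e.trans (MulEquiv.funUnique (Fin 1) S)
  refine ⟨N, inferInstance, hN, hNt,
    IsSimpleGroup.isSimpleGroup_of_surjective e'.symm.toMonoidHom e'.symm.surjective, hnc, hC, ?_⟩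
  intro K hK hKne
  haveI := hK
  rcases hmin (K ⊓ N) inferInstance inf_le_right with h | h
  · exfalso
    apply hKne
    rw [eq_bot_iff, ← hC]
    intro k hk
    exact Subgroup.mem_centralizer_iff.2 fun n hn =>
      ((Subgroup.commute_of_normal_of_disjoint K N hK hNn (disjoint_iff.2 h) k n hk hn).eq).symm
  · exact inf_eq_right.1 h

theorem two_transitive_of_normal {G : Type*} [Group G] [Finite G] {Ω : Type*} [Fintype Ω] [MulAction G Ω]
    (h2 : IsMultiplyPretransitive G Ω 2) (hn : Fintype.card Ω % 4 = 2) (M : Subgroup G) [hMn : M.Normal]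
    [IsPretransitive M Ω] : IsMultiplyPretransitive M Ω 2 := by
  classical
  haveI : Nonempty Ω := Fintype.card_pos_iff.1 (by omega)
  obtain ⟨α⟩ := (inferInstance : Nonempty Ω)
  have h2' : ∀ {a b c d : Ω}, a ≠ b → c ≠ d → ∃ g : G, g • a = c ∧ g • b = d :=
    fun {_ _ _ _} => is_two_pretransitive_iff.1 h2
  let A : Subgroup M := stabilizer M α
  -- all nontrivial orbits of `A` have odd length
  have hodd : ∀ β : Ω, β ≠ α → ¬ 2 ∣ Nat.card (orbit A β) := by
    intro β hβ hd
    have hsame : ∀ γ : Ω, γ ≠ α → Nat.card (orbit A γ) = Nat.card (orbit A β) := by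
      intro γ hγ
      obtain ⟨g, hg1, hg2⟩ := h2' hγ.symm hβ.symm
      have hg' : g⁻¹ • α = α := by rw [inv_smul_eq_iff, hg1]
      refine Nat.card_congr
        { toFun := fun x => ⟨g • (x : Ω), ?_⟩
          invFun := fun y => ⟨g⁻¹ • (y : Ω), ?_⟩
          left_inv := fun x => Subtype.ext (inv_smul_smul g _)
          right_inv := fun y => Subtype.ext (smul_inv_smul g _) }
      · obtain ⟨a, ha⟩ := x.2
        refine ⟨⟨⟨g * ((a : M) : G) * g⁻¹, hMn.conj_mem _ (a : M).2 g⟩, ?_⟩, ?_⟩
        · change (g * ((a : M) : G) * g⁻¹) • α = α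
          rw [mul_smul, mul_smul, hg', show ((a : M) : G) • α = α from a.2, hg1]
        · change (g * ((a : M) : G) * g⁻¹) • β = g • (x : Ω)
          rw [← hg2, mul_smul, mul_smul, inv_smul_smul]
          exact congrArg (g • ·) ha
      · obtain ⟨a, ha⟩ := y.2
        refine ⟨⟨⟨g⁻¹ * ((a : M) : G) * g, by simpa using hMn.conj_mem _ (a : M).2 g⁻¹⟩, ?_⟩, ?_⟩
        · change (g⁻¹ * ((a : M) : G) * g) • α = α
          rw [mul_smul, mul_smul, hg1, show ((a : M) : G) • α = α from a.2, hg']
        · change (g⁻¹ * ((a : M) : G) * g) • γ = g⁻¹ • (y : Ω)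
          rw [mul_smul, mul_smul, hg2]
          exact congrArg (g⁻¹ • ·) ha
    haveI := Fintype.ofFinite (Quotient (orbitRel A Ω))
    have hsum : Fintype.card Ω = ∑ q : Quotient (orbitRel A Ω), Nat.card (orbit A q.out) := by
      rw [← Nat.card_eq_fintype_card, Nat.card_congr (selfEquivSigmaOrbits A Ω), Nat.card_sigma]
    rw [← Finset.add_sum_erase _ _ (Finset.mem_univ (Quotient.mk'' α : Quotient (orbitRel A Ω)))] at hsum
    have hone : Nat.card (orbit A (Quotient.mk'' α : Quotient (orbitRel A Ω)).out) = 1 := by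
      have hmem : (Quotient.mk'' α : Quotient (orbitRel A Ω)).out ∈ orbit A α :=
        orbitRel_apply.1 (Quotient.mk_out (s := orbitRel A Ω) α)
      obtain ⟨a, ha⟩ := hmem
      have hout : (Quotient.mk'' α : Quotient (orbitRel A Ω)).out = α := ha.symm.trans a.2
      rw [hout, Nat.card_eq_one_iff_unique]
      refine ⟨⟨?_⟩, ⟨⟨α, mem_orbit_self α⟩⟩⟩
      rintro ⟨_, a, rfl⟩ ⟨_, b, rfl⟩
      exact Subtype.ext (a.2.trans b.2.symm)
    have hrest : 2 ∣ ∑ q ∈ Finset.univ.erase (Quotient.mk'' α : Quotient (orbitRel A Ω)), Nat.card (orbit A q.out) := by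
      refine Finset.dvd_sum fun q hq => ?_
      by_cases hqα : q.out = α
      · refine absurd ?_ (Finset.mem_erase.1 hq).1
        rw [← hqα]; exact (Quotient.out_eq q).symm
      · rw [hsame _ hqα]; exact hd
    rw [hone] at hsum
    omega
  -- a Sylow 2-subgroup of `A`
  obtain ⟨T₀⟩ := (inferInstance : Nonempty (Sylow 2 A))
  let T : Subgroup M := (T₀ : Subgroup A).map A.subtype
  have hTcard : Nat.card T = Nat.card (T₀ : Subgroup A) :=
    (Nat.card_congr ((T₀ : Subgroup A).equivMapOfInjective A.subtype A.subtype_injective).toEquiv).symm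
  have hTp : IsPGroup 2 T := T₀.2.map _
  let F : Set Ω := {ω | ∀ t ∈ T, t • ω = ω}
  have hTα : α ∈ F := by
    rintro t ⟨t', -, rfl⟩
    exact t'.2
  have hfix : ∀ β : Ω, β ≠ α → ∃ γ ∈ F, γ ∈ orbit A β := by
    intro β hβ
    obtain ⟨γ, hγ⟩ := T₀.2.nonempty_fixed_point_of_prime_not_dvd_card (orbit A β) (hodd β hβ)
    refine ⟨γ, ?_, γ.2⟩
    rintro t ⟨t', ht', rfl⟩
    exact congrArg Subtype.val (hγ ⟨t', ht'⟩)
  suffices hF : Nat.card F ≤ 2 by
    have hAtr : ∀ β γ : Ω, β ≠ α → γ ≠ α → ∃ a ∈ A, a • β = γ := by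
      intro β γ hβ hγ
      obtain ⟨β', hβF, a, ha⟩ := hfix β hβ
      obtain ⟨γ', hγF, b, hb⟩ := hfix γ hγ
      have hβ' : β' ≠ α := by
        intro h
        refine hβ ((MulAction.injective (a : M)) ?_)
        exact (ha.trans h).trans a.2.symm
      have hγ' : γ' ≠ α := by
        intro h
        refine hγ ((MulAction.injective (b : M)) ?_)
        exact (hb.trans h).trans b.2.symm
      have heq : β' = γ' := by
        by_contra hne
        haveI : Finite F := inferInstance
        have h3 : ({α, β', γ'} : Finset Ω) ⊆ Finset.univ.filter (· ∈ F) := by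
          intro x hx
          simp only [Finset.mem_insert, Finset.mem_singleton] at hx
          rcases hx with rfl | rfl | rfl <;> simp [hTα, hβF, hγF]
        have := Finset.card_le_card h3
        rw [Finset.card_insert_of_notMem (by simp [hβ'.symm, hγ'.symm]), Finset.card_pair hne] at this
        have hc : Nat.card F = (Finset.univ.filter (· ∈ F)).card := by
          rw [Nat.card_eq_fintype_card, Fintype.card_subtype]
        omega
      refine ⟨(b : M)⁻¹ * (a : M), A.mul_mem (A.inv_mem b.2) a.2, ?_⟩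
      rw [mul_smul, inv_smul_eq_iff]
      exact (ha.trans heq).trans hb.symm
    rw [is_two_pretransitive_iff]
    intro a b c d hab hcd
    obtain ⟨g₁, hg₁⟩ := exists_smul_eq M a α
    obtain ⟨g₂, hg₂⟩ := exists_smul_eq M c α
    obtain ⟨h, hh, e⟩ := hAtr (g₁ • b) (g₂ • d)
      (fun h' => hab (MulAction.injective g₁ (hg₁.trans h'.symm)))
      (fun h' => hcd (MulAction.injective g₂ (hg₂.trans h'.symm)))
    refine ⟨g₂⁻¹ * h * g₁, ?_, ?_⟩
    · rw [mul_smul, mul_smul, hg₁, show h • α = α from hh, ← hg₂, inv_smul_smul]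
    · rw [mul_smul, mul_smul, e, inv_smul_smul]
  -- the normalizer of `T` in `M` acting on the fixed points
  let NT : Subgroup M := Subgroup.normalizer (T : Set M)
  have hstable : ∀ (g : NT) (ω : Ω), ω ∈ F → (g : M) • ω ∈ F := by
    intro g ω hω t ht
    have ht' : (g : M)⁻¹ * t * (g : M) ∈ T :=
      (Subgroup.mem_normalizer_iff.1 g.2 _).2 (by simpa [mul_assoc] using ht)
    have := hω _ ht'
    rw [mul_smul, mul_smul, inv_smul_eq_iff] at this
    exact this
  letI act' : MulAction NT F :=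
    { smul := fun g x => ⟨(g : M) • (x : Ω), hstable g x x.2⟩
      one_smul := fun x => Subtype.ext (one_smul M (x : Ω))
      mul_smul := fun g h x => Subtype.ext (mul_smul (g : M) (h : M) (x : Ω)) }
  have hsmul : ∀ (g : NT) (x : F), ((g • x : F) : Ω) = (g : M) • (x : Ω) := fun _ _ => rfl
  -- conjugacy inside a stabilizer
  have hcardstab : ∀ γ : Ω, Nat.card (stabilizer M γ) = Nat.card A := by
    intro γ
    obtain ⟨g, hg⟩ := exists_smul_eq M α γ
    exact (Nat.card_congr (MulAction.stabilizerEquivStabilizer (G := M) hg.symm).toEquiv).symm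
  have hsyl : ∀ (B : Subgroup M), B ≤ A → ∀ U V : Subgroup M, U ≤ B → V ≤ B → IsPGroup 2 U → IsPGroup 2 V →
      Nat.card U = Nat.card T → Nat.card V = Nat.card T → ∃ k ∈ B, ∀ x, x ∈ U → k * x * k⁻¹ ∈ V := by
    intro B hB U V hU hV hUp hVp hUc hVc
    have hfac : ∀ W : Subgroup M, W ≤ B → IsPGroup 2 W → Nat.card W = Nat.card T →
        ∃ P : Sylow 2 B, (P : Subgroup B) = W.subgroupOf B := by
      intro W hW hWp hWc
      have hwp : IsPGroup 2 (W.subgroupOf B) := hWp.of_equiv (Subgroup.subgroupOfEquivOfLe hW).symm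
      obtain ⟨P, hP⟩ := hwp.exists_le_sylow
      refine ⟨P, (Subgroup.eq_of_le_of_card_ge hP ?_).symm⟩
      rw [Nat.card_congr (Subgroup.subgroupOfEquivOfLe hW).toEquiv, hWc, hTcard]
      have hPA : IsPGroup 2 (((P : Subgroup B).map B.subtype).subgroupOf A) := by
        refine (P.2.map B.subtype).of_equiv (Subgroup.subgroupOfEquivOfLe ?_).symm
        exact (Subgroup.map_subtype_le _).trans hB
      obtain ⟨Q, hQ⟩ := hPA.exists_le_sylow
      calc Nat.card (P : Subgroup B) = Nat.card (((P : Subgroup B).map B.subtype).subgroupOf A) := by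
            rw [Nat.card_congr (Subgroup.subgroupOfEquivOfLe ((Subgroup.map_subtype_le _).trans hB)).toEquiv]
            exact Nat.card_congr ((P : Subgroup B).equivMapOfInjective B.subtype B.subtype_injective).toEquiv
        _ ≤ Nat.card (Q : Subgroup A) := Subgroup.card_le_of_le hQ
        _ = Nat.card (T₀ : Subgroup A) := by rw [Sylow.card_eq_multiplicity, Sylow.card_eq_multiplicity]
    obtain ⟨P, hP⟩ := hfac U hU hUp hUc
    obtain ⟨Q, hQ⟩ := hfac V hV hVp hVc
    obtain ⟨k, hk⟩ := exists_smul_eq B P Q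
    refine ⟨k, k.2, fun x hx => ?_⟩
    have h1 : (⟨x, hU hx⟩ : B) ∈ (P : Subgroup B) := by rw [hP]; exact hx
    have h2 : k * ⟨x, hU hx⟩ * k⁻¹ ∈ ((k • P : Sylow 2 B) : Subgroup B) := by
      rw [Sylow.coe_subgroup_smul]
      exact Subgroup.smul_mem_pointwise_smul _ _ _ h1
    rw [hk, hQ] at h2
    exact h2
  have hconjcard : ∀ (g : G), ∃ U : Subgroup M, IsPGroup 2 U ∧ Nat.card U = Nat.card T ∧
      ∀ x : M, x ∈ U ↔ ∃ t ∈ T, ((x : M) : G) = g * ((t : M) : G) * g⁻¹ := by
    intro g
    refine ⟨T.map (MulAut.conjNormal g : M ≃* M).toMonoidHom, hTp.map _,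
      (Nat.card_congr (T.equivMapOfInjective _ (MulAut.conjNormal g : M ≃* M).injective).toEquiv).symm, fun x => ?_⟩
    constructor
    · rintro ⟨t, ht, rfl⟩
      exact ⟨t, ht, MulAut.conjNormal_apply g t⟩
    · rintro ⟨t, ht, hx⟩
      exact ⟨t, ht, Subtype.ext ((MulAut.conjNormal_apply g t).trans hx.symm)⟩
  have hTA : T ≤ A := Subgroup.map_subtype_le _
  haveI htrF : IsPretransitive NT F := by
    rw [isPretransitive_iff_base (⟨α, hTα⟩ : F)]
    rintro ⟨γ, hγ⟩
    obtain ⟨g, hg⟩ := exists_smul_eq M α γ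
    have hg' : g⁻¹ • γ = α := by rw [inv_smul_eq_iff, hg]
    obtain ⟨U, hUp, hUc, hU⟩ := hconjcard ((g : G))⁻¹
    have hUA : U ≤ A := by
      intro x hx
      obtain ⟨t, ht, hxt⟩ := (hU x).1 hx
      change (x : G) • α = α
      rw [hxt, inv_inv, mul_smul, mul_smul, ← Subgroup.smul_def g, hg]
      exact (congrArg (((g : G))⁻¹ • ·) (hγ t ht)).trans (by rw [← hg']; rfl)
    obtain ⟨k, hk, hkc⟩ := hsyl A le_rfl T U hTA hUA hTp hUp rfl hUc
    have hmem : g * k ∈ NT := by
      refine Subgroup.mem_normalizer_fintype fun x hx => ?_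
      obtain ⟨t, ht, hxt⟩ := (hU _).1 (hkc x hx)
      have : g * k * x * (g * k)⁻¹ = t := by
        rw [show g * k * x * (g * k)⁻¹ = g * (k * x * k⁻¹) * g⁻¹ by group]
        apply Subtype.ext
        simp only [Subgroup.coe_mul, Subgroup.coe_inv] at hxt ⊢
        rw [hxt]; group
      rw [SetLike.mem_coe, this]; exact ht
    exact ⟨⟨g * k, hmem⟩, Subtype.ext (by
      rw [hsmul]; change (g * k) • α = γ; rw [mul_smul, show k • α = α from hk, hg])⟩
  have hGT : ∀ β γ : Ω, β ∈ F → γ ∈ F → β ≠ α → γ ≠ α → ∃ g : G, g • α = α ∧ g • β = γ ∧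
      ∀ x ∈ T, ∃ y ∈ T, ((y : M) : G) = g * ((x : M) : G) * g⁻¹ := by
    intro β γ hβF hγF hβ hγ
    obtain ⟨g, hg1, hg2⟩ := h2' hβ.symm hγ.symm
    obtain ⟨U, hUp, hUc, hU⟩ := hconjcard g
    let B : Subgroup M := A ⊓ stabilizer M γ
    have hTB : T ≤ B := fun t ht => ⟨hTA ht, hγF t ht⟩
    have hg' : g⁻¹ • α = α := by rw [inv_smul_eq_iff, hg1]
    have hUB : U ≤ B := by
      intro x hx
      obtain ⟨t, ht, hxt⟩ := (hU x).1 hx
      constructor
      · change (x : G) • α = α
        rw [hxt, mul_smul, mul_smul, hg', show ((t : M) : G) • α = α from hTA ht, hg1]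
      · change (x : G) • γ = γ
        rw [hxt, ← hg2, mul_smul, mul_smul, inv_smul_smul, show ((t : M) : G) • β = β from hβF t ht]
    obtain ⟨k, hk, hkc⟩ := hsyl B inf_le_left U T hUB hTB hUp hTp hUc rfl
    refine ⟨(k : G) * g, ?_, ?_, fun x hx => ?_⟩
    · rw [mul_smul, hg1]; exact hk.1
    · rw [mul_smul, hg2]; exact hk.2
    · have hxU : (⟨g * ((x : M) : G) * g⁻¹, hMn.conj_mem _ x.2 g⟩ : M) ∈ U := (hU _).2 ⟨x, hx, rfl⟩
      exact ⟨_, hkc _ hxU, by simp [mul_assoc]⟩
  haveI : Finite F := inferInstance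
  haveI := Fintype.ofFinite F
  -- elements of stabilizers in `NT` of odd "index"
  have hstabodd : ∀ (x : F) (y : NT), y • x = x → ∃ j, Odd j ∧ (y : M) ^ j ∈ T := by
    intro x y hy
    let Q : Subgroup NT := stabilizer NT x
    let T' : Subgroup Q := (T.subgroupOf NT).subgroupOf Q
    haveI : (T.subgroupOf NT).Normal := Subgroup.normal_in_normalizer
    haveI : T'.Normal := inferInstance
    refine ⟨T'.index, ?_, ?_⟩
    · rw [← Nat.not_even_iff_odd]
      intro hev
      obtain ⟨z, hz⟩ := exists_prime_orderOf_dvd_card' 2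
        (show 2 ∣ Nat.card (Q ⧸ T') by rw [← Subgroup.index_eq_card]; exact even_iff_two_dvd.1 hev)
      obtain ⟨z', rfl⟩ := QuotientGroup.mk'_surjective T' z
      let U : Subgroup M := (((Subgroup.zpowers (QuotientGroup.mk' T' z')).comap (QuotientGroup.mk' T')).map Q.subtype).map NT.subtype
      have hUp : IsPGroup 2 U := by
        refine (IsPGroup.map ?_ _).map _
        refine IsPGroup.comap_of_ker_isPGroup (IsPGroup.of_card (n := 1) (by rw [Nat.card_zpowers, hz, pow_one])) _ ?_
        rw [QuotientGroup.ker_mk']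
        exact hTp.of_injective ((NT.subtype.comp (Q.subtype.comp T'.subtype)).codRestrict T fun w => w.2)
          (fun a b e => Subtype.ext (Subtype.ext (Subtype.ext (congrArg (fun z : T => (z : M)) e))))
      have hUstab : U ≤ stabilizer M (x : Ω) := by
        rintro _ ⟨_, ⟨w, -, rfl⟩, rfl⟩
        exact (hsmul (w : NT) x).symm.trans (congrArg Subtype.val w.2)
      have hTU : T < U := by
        refine lt_of_le_of_ne (fun t ht => ?_) fun heq => ?_
        · have htN : t ∈ NT := Subgroup.le_normalizer ht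
          have htQ : (⟨t, htN⟩ : NT) ∈ Q := Subtype.ext (x.2 t ht)
          refine ⟨⟨t, htN⟩, ⟨⟨⟨t, htN⟩, htQ⟩, ?_, rfl⟩, rfl⟩
          rw [Subgroup.coe_comap, Set.mem_preimage, SetLike.mem_coe,
            show QuotientGroup.mk' T' ⟨⟨t, htN⟩, htQ⟩ = 1 from (QuotientGroup.eq_one_iff _).2 ht]
          exact Subgroup.one_mem _
        · have hzU : ((z' : NT) : M) ∈ U := ⟨_, ⟨z', Subgroup.mem_zpowers _, rfl⟩, rfl⟩
          have hzT : z' ∈ T' := by rw [← heq] at hzU; exact hzU
          rw [show QuotientGroup.mk' T' z' = 1 from (QuotientGroup.eq_one_iff _).2 hzT, orderOf_one] at hz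
          omega
      obtain ⟨g, hg⟩ := exists_smul_eq M (x : Ω) α
      let U' : Subgroup A := (U.map (MulAut.conj g).toMonoidHom).subgroupOf A
      have hU'le : U.map (MulAut.conj g).toMonoidHom ≤ A := by
        rintro _ ⟨u, hu, rfl⟩
        change (g * u * g⁻¹) • α = α
        rw [← hg, mul_smul, mul_smul, inv_smul_smul, show u • (x : Ω) = x from hUstab hu]
      have hU'p : IsPGroup 2 U' := (hUp.map _).of_equiv (Subgroup.subgroupOfEquivOfLe hU'le).symm
      obtain ⟨R, hR⟩ := hU'p.exists_le_sylow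
      have h1 := Subgroup.card_le_of_le hR
      rw [Nat.card_congr (Subgroup.subgroupOfEquivOfLe hU'le).toEquiv,
        ← Nat.card_congr (U.equivMapOfInjective _ (MulAut.conj g).injective).toEquiv,
        Sylow.card_eq_multiplicity R, ← Sylow.card_eq_multiplicity T₀, ← hTcard] at h1
      exact hTU.ne (Subgroup.eq_of_le_of_card_ge hTU.le h1)
    · have := T'.pow_index_mem (⟨y, hy⟩ : Q)
      simpa [T', Subgroup.mem_subgroupOf] using this
  have hTtriv : ∀ t : NT, (t : M) ∈ T → ∀ x : F, t • x = x := fun t ht x => Subtype.ext (x.2 _ ht)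
  -- the sign character
  let ε : NT →* ℤˣ := Equiv.Perm.sign.comp (MulAction.toPermHom NT F)
  have hεstab : ∀ (x : F) (y : NT), y • x = x → ε y = 1 := by
    intro x y hy
    obtain ⟨j, hj, hyT⟩ := hstabodd x y hy
    have h1 : MulAction.toPermHom NT F (y ^ j) = 1 := Equiv.ext fun z => hTtriv (y ^ j) (by simpa using hyT) z
    have h2 : ε y ^ j = 1 := by rw [← map_pow]; simp [ε, h1]
    rcases Int.units_eq_one_or (ε y) with h | h
    · exact h
    · rw [h, hj.neg_one_pow] at h2; rw [h]; exact h2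
  -- the fixed point set has size two modulo four
  have hFcard : Nat.card NT = Nat.card F * Nat.card (stabilizer NT (⟨α, hTα⟩ : F)) := by
    rw [← Subgroup.index_mul_card (stabilizer NT (⟨α, hTα⟩ : F)), index_stabilizer_of_transitive]
  have hTdvd : Nat.card T ∣ Nat.card (stabilizer NT (⟨α, hTα⟩ : F)) :=
    Subgroup.card_dvd_of_injective
      (((Subgroup.inclusion (Subgroup.le_normalizer : T ≤ NT))).codRestrict (stabilizer NT (⟨α, hTα⟩ : F))
        fun t => hTtriv _ t.2 _)
      (fun a b e => Subtype.ext (congrArg (fun z : stabilizer NT (⟨α, hTα⟩ : F) => ((z : NT) : M)) e))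
  have hnot4 : ¬ 4 ∣ Nat.card F := by
    intro h4
    have hd : 4 * Nat.card T ∣ Nat.card NT := hFcard ▸ mul_dvd_mul h4 hTdvd
    have hMc : Nat.card M = Fintype.card Ω * Nat.card A := by
      rw [← Subgroup.index_mul_card A, index_stabilizer_of_transitive, Nat.card_eq_fintype_card]
    have hd' : 4 * Nat.card T ∣ Fintype.card Ω * Nat.card A := hMc ▸ hd.trans (Subgroup.card_subgroup_dvd_card NT)
    rw [hTcard, Sylow.card_eq_multiplicity T₀] at hd'
    set a := (Nat.card A).factorization 2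
    have hA : Nat.card A = 2 ^ a * (Nat.card A / 2 ^ a) := (Nat.ordProj_mul_ordCompl_eq_self _ 2).symm
    have hnd : ¬ 2 ∣ Nat.card A / 2 ^ a := Nat.not_dvd_ordCompl Nat.prime_two Nat.card_pos.ne'
    rw [hA, show Fintype.card Ω * (2 ^ a * (Nat.card A / 2 ^ a)) = (Fintype.card Ω * (Nat.card A / 2 ^ a)) * 2 ^ a by ring] at hd'
    have hd4 := Nat.dvd_of_mul_dvd_mul_right (by positivity) hd'
    have : Nat.Coprime 4 (Nat.card A / 2 ^ a) :=
      Nat.Coprime.pow_left 2 (Nat.prime_two.coprime_iff_not_dvd.2 hnd)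
    have := this.dvd_of_dvd_mul_right hd4
    omega
  have hFev : 2 ∣ Nat.card F := by
    have h := hTp.card_modEq_card_fixedPoints Ω
    have he : Nat.card (fixedPoints T Ω) = Nat.card F := Nat.card_congr
      { toFun := fun x => ⟨x, fun t ht => x.2 ⟨t, ht⟩⟩
        invFun := fun x => ⟨x, fun t => x.2 t t.2⟩
        left_inv := fun x => rfl
        right_inv := fun x => rfl }
    rw [he, Nat.ModEq, Nat.card_eq_fintype_card] at h
    omega
  -- an element of sign -1
  haveI := Fact.mk Nat.prime_two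
  have hTN : Nat.card (T.subgroupOf NT) = 2 ^ (Nat.card A).factorization 2 := by
    rw [Nat.card_congr (Subgroup.subgroupOfEquivOfLe (Subgroup.le_normalizer : T ≤ NT)).toEquiv, hTcard,
      Sylow.card_eq_multiplicity T₀]
  obtain ⟨P, hP, hTP⟩ := Sylow.exists_subgroup_card_pow_prime_le 2 (G := NT)
    (m := (Nat.card A).factorization 2 + 1) (by
      rw [hFcard, pow_succ, mul_comm]
      exact mul_dvd_mul hFev (by rw [← Sylow.card_eq_multiplicity T₀, ← hTcard]; exact hTdvd))
    (T.subgroupOf NT) hTN (by omega)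
  obtain ⟨y, hyP, hyT⟩ : ∃ y ∈ P, (y : M) ∉ T := by
    by_contra hcon
    simp only [not_exists, not_and, not_not] at hcon
    have h := Subgroup.card_le_of_le (show P ≤ T.subgroupOf NT from fun y hy => hcon y hy)
    rw [hP, hTN] at h
    exact absurd h (not_le.2 (Nat.pow_lt_pow_right one_lt_two (Nat.lt_succ_self _)))
  have hyp : IsPGroup 2 (Subgroup.zpowers y) := (IsPGroup.of_card hP).to_le (Subgroup.zpowers_le.2 hyP)
  have hy2 : ((y ^ 2 : NT) : M) ∈ T := by
    have hidx : ((T.subgroupOf NT).subgroupOf P).index = 2 := by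
      have h := Subgroup.index_mul_card ((T.subgroupOf NT).subgroupOf P)
      rw [Nat.card_congr (Subgroup.subgroupOfEquivOfLe hTP).toEquiv, hTN, hP, pow_succ'] at h
      exact Nat.eq_of_mul_eq_mul_right (by positivity) h
    have := Subgroup.sq_mem_of_index_two hidx (⟨y, hyP⟩ : P)
    simpa [Subgroup.mem_subgroupOf] using this
  have hnofix : ∀ x : F, y • x ≠ x := by
    intro x hx
    obtain ⟨j, hj, hjT⟩ := hstabodd x y hx
    obtain ⟨k, hk⟩ := IsPGroup.iff_orderOf.1 hyp ⟨y, Subgroup.mem_zpowers y⟩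
    rw [Subgroup.orderOf_mk] at hk
    have hcop : Nat.Coprime j (orderOf (y : M)) := by
      rw [Subgroup.orderOf_coe, hk]
      exact Nat.Coprime.pow_right _ ((Nat.coprime_two_right).2 hj)
    obtain ⟨i, hi⟩ := exists_pow_eq_self_of_coprime hcop
    exact hyT (hi ▸ T.pow_mem hjT i)
  have hεy : ε y ≠ 1 := by
    intro hy1
    set σ := MulAction.toPermHom NT F y with hσ
    have hσ2 : σ ^ 2 = 1 := by
      rw [hσ, ← map_pow]
      exact Equiv.ext fun z => hTtriv _ hy2 z
    have hsign : Equiv.Perm.sign σ = (-1) ^ ((Fintype.card F - Fintype.card (Function.fixedPoints σ)) / 2) :=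
      Equiv.Perm.sign_of_pow_two_eq_one hσ2
    have h0 : Fintype.card (Function.fixedPoints σ) = 0 :=
      Fintype.card_eq_zero_iff.2 ⟨fun z => hnofix z.1 z.2⟩
    have hF2 : Odd (Fintype.card F / 2) := by
      rw [Nat.odd_iff]
      rw [Nat.card_eq_fintype_card] at hnot4 hFev
      omega
    rw [h0, Nat.sub_zero, hF2.neg_one_pow] at hsign
    rw [show ε y = Equiv.Perm.sign σ from rfl, hsign] at hy1
    exact absurd hy1 (by decide)
  -- the orbit of the kernel
  have hker2 : ε.ker.index = 2 := by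
    rw [Subgroup.index_ker]
    have htop : ε.range = ⊤ := by
      rw [eq_top_iff]
      intro u _
      rcases Int.units_eq_one_or u with rfl | rfl
      · exact Subgroup.one_mem _
      · refine ⟨y, ?_⟩
        rcases Int.units_eq_one_or (ε y) with h | h
        · exact absurd h hεy
        · exact h
    rw [htop, Subgroup.card_top, Nat.card_eq_fintype_card, Fintype.card_units_int]
  set x₀ : F := ⟨α, hTα⟩
  have hKfix : ∀ k ∈ ε.ker, k • x₀ = x₀ := by
    -- the orbit has odd size and is stable under the stabilizer in the big group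
    have horb : 2 * Nat.card (orbit ε.ker x₀) = Nat.card F := by
      have hle : stabilizer NT x₀ ≤ ε.ker := fun z hz => hεstab x₀ z hz
      have h1 : Nat.card (orbit ε.ker x₀) = (stabilizer NT x₀).relIndex ε.ker := by
        change (orbit ε.ker x₀).ncard = _
        rw [← index_stabilizer]
        have hst : stabilizer ε.ker x₀ = (stabilizer NT x₀).subgroupOf ε.ker := by ext z; rfl
        rw [hst]; rfl
      rw [h1, ← hker2, mul_comm, Subgroup.relIndex_mul_index hle, index_stabilizer_of_transitive]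
    intro k hk
    by_contra hne
    set β : Ω := ((k • x₀ : F) : Ω) with hβdef
    have hβα : β ≠ α := fun h => hne (Subtype.ext h)
    have hall : ∀ γ : F, γ ∈ orbit ε.ker x₀ := by
      intro γ
      by_cases hγ : (γ : Ω) = α
      · rw [show γ = x₀ from Subtype.ext hγ]; exact mem_orbit_self _
      obtain ⟨g, hgα, hgβ, hgT⟩ := hGT β γ (k • x₀).2 γ.2 hβα hγ
      let T' : Set M := T
      have hgN : ∀ z : M, z ∈ NT → MulAut.conjNormal g z ∈ NT := by
        intro z hz
        refine Subgroup.mem_normalizer_fintype fun x hx => ?_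
        -- pull back `x` along conjugation by `g`
        let c : T → T := fun w => ⟨MulAut.conjNormal g (w : M), by
          obtain ⟨v, hv, e⟩ := hgT w w.2
          rwa [show MulAut.conjNormal g (w : M) = v from Subtype.ext ((MulAut.conjNormal_apply g _).trans e.symm)]⟩
        have hcs : Function.Surjective c := Finite.injective_iff_surjective.1 fun a b e =>
          Subtype.ext ((MulAut.conjNormal g : M ≃* M).injective (congrArg Subtype.val e))
        obtain ⟨w, hw⟩ := hcs ⟨x, hx⟩
        have hw' : MulAut.conjNormal g (w : M) = x := congrArg Subtype.val hw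
        have hz' : z * (w : M) * z⁻¹ ∈ T := (Subgroup.mem_normalizer_iff.1 hz _).1 w.2
        have := (c ⟨_, hz'⟩).2
        simp only [c, map_mul, map_inv, hw'] at this
        exact this
      have hgF : ∀ z : F, g • (z : Ω) ∈ F := by
        intro z t ht
        let c : T → T := fun w => ⟨MulAut.conjNormal g (w : M), by
          obtain ⟨v, hv, e⟩ := hgT w w.2
          rwa [show MulAut.conjNormal g (w : M) = v from Subtype.ext ((MulAut.conjNormal_apply g _).trans e.symm)]⟩
        have hcs : Function.Surjective c := Finite.injective_iff_surjective.1 fun a b e =>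
          Subtype.ext ((MulAut.conjNormal g : M ≃* M).injective (congrArg Subtype.val e))
        obtain ⟨w, hw⟩ := hcs ⟨t, ht⟩
        have hw' : MulAut.conjNormal g (w : M) = t := congrArg Subtype.val hw
        rw [← hw', Subgroup.smul_def, MulAut.conjNormal_apply, mul_smul, mul_smul, inv_smul_smul]
        exact congrArg (g • ·) (z.2 _ w.2)
      let k' : NT := ⟨MulAut.conjNormal g (k : M), hgN _ k.2⟩
      let φ : F ≃ F := Equiv.ofBijective (fun z => ⟨g • (z : Ω), hgF z⟩)
        (Finite.injective_iff_bijective.1 fun a b e =>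
          Subtype.ext (MulAction.injective g (congrArg Subtype.val e)))
      have hperm : MulAction.toPermHom NT F k' = φ * MulAction.toPermHom NT F k * φ⁻¹ := by
        refine Equiv.ext fun z => ?_
        obtain ⟨w, rfl⟩ := φ.surjective z
        simp only [Equiv.Perm.coe_mul, Function.comp_apply, Equiv.Perm.inv_def, Equiv.symm_apply_apply]
        apply Subtype.ext
        change ((MulAut.conjNormal g (k : M) : M) : G) • g • (w : Ω) = g • ((k : M) • (w : Ω))
        rw [MulAut.conjNormal_apply, mul_smul, mul_smul, inv_smul_smul, ← Subgroup.smul_def]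
      have hk' : k' ∈ ε.ker := by
        rw [MonoidHom.mem_ker] at hk ⊢
        change Equiv.Perm.sign (MulAction.toPermHom NT F k') = 1
        rw [hperm, map_mul, map_mul, map_inv]
        rw [show Equiv.Perm.sign (MulAction.toPermHom NT F k) = 1 from hk, mul_one, mul_inv_cancel]
      refine ⟨⟨k', hk'⟩, Subtype.ext ?_⟩
      change ((MulAut.conjNormal g (k : M) : M) : G) • α = γ
      rw [MulAut.conjNormal_apply, mul_smul, mul_smul, show g⁻¹ • α = α by rw [inv_smul_eq_iff, hgα]]
      exact hgβ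
    have hfull : Nat.card (orbit ε.ker x₀) = Nat.card F :=
      Nat.card_congr ⟨Subtype.val, fun z => ⟨z, hall z⟩, fun z => rfl, fun z => rfl⟩
    haveI : Nonempty F := ⟨x₀⟩
    have := Nat.card_pos (α := F)
    omega
  have h1 : Nat.card (orbit ε.ker x₀) = 1 := by
    rw [Nat.card_eq_one_iff_unique]
    refine ⟨⟨?_⟩, ⟨⟨x₀, mem_orbit_self _⟩⟩⟩
    rintro ⟨_, a, rfl⟩ ⟨_, b, rfl⟩
    exact Subtype.ext ((hKfix a a.2).trans (hKfix b b.2).symm)
  have hle : stabilizer NT x₀ ≤ ε.ker := fun z hz => hεstab x₀ z hz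
  have h2F : Nat.card F = (stabilizer NT x₀).index := (index_stabilizer_of_transitive _ _).symm
  rw [h2F, ← Subgroup.relIndex_mul_index hle, hker2]
  have : (stabilizer NT x₀).relIndex ε.ker = 1 :=
    Subgroup.relIndex_eq_one.2 fun z hz => hKfix z hz
  omega

/-- Let G be a doubly transitive permutation group on a finite set Ω with |Ω| ≡ 2 mod 4 and |Ω| > 2. Then G has a unique minimal normal subgroup M (a nontrivial normal subgroup contained in every nontrivial normal subgroup); M is simple and doubly transitive on Ω, and its centralizer in G is trivial (so G embeds in Aut(M)). -/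
theorem result {G : Type*} [Group G] [Finite G] {Ω : Type*} [Fintype Ω] [MulAction G Ω] [FaithfulSMul G Ω]
    (h2 : MulAction.IsMultiplyPretransitive G Ω 2) (hn : Fintype.card Ω % 4 = 2) (hn2 : 2 < Fintype.card Ω) :
    ∃ M : Subgroup G, M.Normal ∧ M ≠ ⊥ ∧ (∀ N : Subgroup G, N.Normal → N ≠ ⊥ → M ≤ N) ∧
      IsSimpleGroup ↥M ∧ MulAction.IsMultiplyPretransitive ↥M Ω 2 ∧ Subgroup.centralizer (M : Set G) = ⊥ := by
  obtain ⟨N, hNn, hN, hNt, hsimp, hnc, hC, hle⟩ := socle_simple h2 hn hn2
  haveI := hNn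
  haveI := hNt
  exact ⟨N, hNn, hN, hle, hsimp, two_transitive_of_normal h2 hn N, hC⟩

end Cfsg.Agent.S3401
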