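import Cfsg.Statements.S3410
import Cfsg.Agent.Lib.ONanAbelian.Main

set_option autoImplicit false
open Cfsg

namespace Cfsg.Agent.S3410

/-- Let a finite group G act faithfully and 2-transitively on a finite set X, and let N be an abelian normal subgroup of the stabilizer of a point x which is not semiregular on the remaining points (some non-identity element of N fixes a second point). Then the generalized Fitting subgroup of G is isomorphic to PSL_n(F) for some n ≥ 3 and some finite field F. -/
theorem result {G X : Type*} [Group G] [Finite G] [Fintype X]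
    [MulAction G X] [FaithfulSMul G X] (h2 : MulAction.IsMultiplyPretransitive G X 2) (x : X)
    (N : Subgroup G) (hNle : N ≤ MulAction.stabilizer G x)
    (hNnormal : ∀ g ∈ MulAction.stabilizer G x, ∀ n ∈ N, g * n * g⁻¹ ∈ N) (hNab : IsMulCommutative N)
    (hnsr : ∃ n ∈ N, n ≠ 1 ∧ ∃ y : X, y ≠ x ∧ n • y = y) :
    ∃ (F : Type) (_ : Field F) (_ : Fintype F) (n : ℕ), 3 ≤ n ∧
      Nonempty (↥(Cfsg.generalizedFittingSubgroup G) ≃* Matrix.ProjectiveSpecialLinearGroup (Fin n) F) := by
  classical
  obtain ⟨S⟩ := CfsgLib.ONanAbelian.exists_sys h2 x N hNle hNnormal hNab hnsr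
  obtain ⟨n₀, -, -, y, hy, -⟩ := hnsr
  obtain ⟨m, F, iF, iFF, hm, -, L, hL, ⟨e⟩, hC⟩ := S.psl_normal ⟨y, x, hy⟩
  have h3 : 3 ≤ Fintype.card (Fin (m + 1)) := by rw [Fintype.card_fin]; omega
  haveI := CfsgLib.Classical.isSimpleGroup_PSL (F := F) h3
  haveI : Nontrivial L := e.toEquiv.nontrivial
  haveI : IsSimpleGroup L := IsSimpleGroup.isSimpleGroup_of_surjective e.symm.toMonoidHom e.symm.surjective
  haveI : L.Normal := hL
  have hP : Group.IsPerfect (Matrix.ProjectiveSpecialLinearGroup (Fin (m + 1)) F) :=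
    ⟨CfsgLib.Classical.commutator_PSL_eq_top h3⟩
  have hperf : Group.IsPerfect L :=
    Group.IsPerfect.ofSurjective (f := e.symm.toMonoidHom) e.symm.surjective
  rw [CfsgLib.ONanAbelian.generalizedFitting_eq_of_simple_normal L hperf hC]
  exact ⟨F, iF, iFF, m + 1, by omega, ⟨e⟩⟩

end Cfsg.Agent.S3410
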