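import Cfsg.Statements.S3412
import Cfsg.Agent.Lib.GLTwoThree.CommGraph
import Cfsg.Agent.Lib.SL3.Involution
-- import your own Cfsg.Agent.* helpers here

set_option autoImplicit false
open Cfsg

namespace Cfsg.Agent.S3412

theorem two_ne : (2 : ZMod 3) ≠ 0 := by decide

/-- Let H be a finite group whose commuting graph (vertices the non-identity elements, two joined when they commute) is isomorphic to that of PSL_3(3): there is a bijection between the non-identity elements of H and of PSL_3(3) under which two elements commute exactly when their images do. Then H ≅ PSL_3(3). -/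
theorem result {H : Type*} [Group H] [Finite H]
    (f : {h : H // h ≠ 1} ≃ {g : Matrix.ProjectiveSpecialLinearGroup (Fin 3) (ZMod 3) // g ≠ 1})
    (hf : ∀ x y : {h : H // h ≠ 1}, (x : H) * y = y * x ↔ ((f x) : Matrix.ProjectiveSpecialLinearGroup (Fin 3) (ZMod 3)) * (f y) = (f y) * (f x)) :
    Nonempty (H ≃* Matrix.ProjectiveSpecialLinearGroup (Fin 3) (ZMod 3)) := by
  classical
  haveI : Fact (Nat.Prime 3) := ⟨Nat.prime_three⟩
  obtain ⟨π⟩ := CfsgLib.GLTwoThree.exists_pslEquiv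
  haveI := CfsgLib.GLTwoThree.isSimpleGroup_SL_three
  have h2 : (2 : ZMod 3) ≠ 0 := two_ne
  have hu : orderOf (CfsgLib.SL3.negTwo : Matrix.SpecialLinearGroup (Fin 3) (ZMod 3)) = 2 :=
    orderOf_eq_prime (by rw [pow_two]; exact CfsgLib.SL3.negTwo_mul_self) (CfsgLib.SL3.negTwo_ne_one h2)
  obtain ⟨φ, hφ, -⟩ := CfsgLib.GLTwoThree.exists_loc hu (CfsgLib.SL3.centralizerEquiv h2).symm
  have hn : Nat.card (Matrix.SpecialLinearGroup (Fin 3) (ZMod 3)) = 5616 :=
    CfsgLib.GLTwoThree.card_SL_three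
  let g : {x : Matrix.ProjectiveSpecialLinearGroup (Fin 3) (ZMod 3) // x ≠ 1} ≃
      {y : Matrix.SpecialLinearGroup (Fin 3) (ZMod 3) // y ≠ 1} :=
    π.symm.toEquiv.subtypeEquiv fun x => by simp
  let F : H → Matrix.SpecialLinearGroup (Fin 3) (ZMod 3) := fun x =>
    if hx : x = 1 then 1 else (g (f ⟨x, hx⟩)).1
  have hF1 : F 1 = 1 := dif_pos rfl
  have hFx : ∀ (x : H) (hx : x ≠ 1), F x = π.symm (f ⟨x, hx⟩).1 := fun x hx => dif_neg hx
  have hFbij : Function.Bijective F := by
    constructor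
    · intro x y hxy
      by_cases hx : x = 1 <;> by_cases hy : y = 1
      · rw [hx, hy]
      · exfalso
        rw [hx, hF1] at hxy
        exact (g (f ⟨y, hy⟩)).2 ((show F y = (g (f ⟨y, hy⟩)).1 from dif_neg hy).symm.trans hxy.symm)
      · exfalso
        rw [hy, hF1] at hxy
        exact (g (f ⟨x, hx⟩)).2 ((show F x = (g (f ⟨x, hx⟩)).1 from dif_neg hx).symm.trans hxy)
      · rw [hFx x hx, hFx y hy] at hxy
        exact congrArg Subtype.val (f.injective (Subtype.ext (π.symm.injective hxy)))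
    · intro y
      by_cases hy : y = 1
      · exact ⟨1, by rw [hF1, hy]⟩
      · refine ⟨(f.symm (g.symm ⟨y, hy⟩)).1, ?_⟩
        rw [show F (f.symm (g.symm ⟨y, hy⟩)).1 = (g (f (f.symm (g.symm ⟨y, hy⟩)))).1 from
          dif_neg (f.symm (g.symm ⟨y, hy⟩)).2]
        simp
  have hcomm : ∀ x y : H, F x * F y = F y * F x ↔ x * y = y * x := by
    intro x y
    by_cases hx : x = 1
    · simp [hx, hF1]
    by_cases hy : y = 1
    · simp [hy, hF1]
    rw [hFx x hx, hFx y hy, ← map_mul, ← map_mul, π.symm.injective.eq_iff]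
    exact (hf ⟨x, hx⟩ ⟨y, hy⟩).symm
  obtain ⟨ψ, hψ, h1, hH⟩ := CfsgLib.GLTwoThree.loc_of_commuting hφ
    (CfsgLib.GLTwoThree.oneClass_simple hφ) hn (Equiv.ofBijective F hFbij) hF1 hcomm
  haveI := CfsgLib.GLTwoThree.isSimpleGroup_of_oneClass hψ h1
  obtain ⟨e⟩ := CfsgLib.GLTwoThree.nonempty_equiv_SL hψ h1 hH
  exact ⟨e.symm.trans π⟩

end Cfsg.Agent.S3412
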