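import Cfsg.Statements.S3419
import Cfsg.Agent.Lib.Spectrum.TwoPrimes
import Cfsg.Agent.Lib.Spectrum.AltBigPrimes

set_option autoImplicit false
open Cfsg

namespace Cfsg.Agent.S3419

/-- Let n ≥ 5 and let G be a finite group with the same order and the same set of element orders as the alternating group of degree n. Then G is not solvable. -/
theorem result {G : Type*} [Group G] [Finite G] (n : ℕ) (hn : 5 ≤ n)
    (hcard : Nat.card G = Nat.card ↥(alternatingGroup (Fin n)))
    (hspec : Set.range (orderOf : G → ℕ) = Set.range (orderOf : ↥(alternatingGroup (Fin n)) → ℕ)) :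
    ¬ Group.IsSolvable G := by
  by_cases h6 : n = 6
  · subst h6
    have h := CfsgLib.Spectrum.two_mul_natCard_alt 6 (by norm_num)
    rw [show (6 : ℕ).factorial = 720 by decide, ← hcard] at h
    exact CfsgLib.Spectrum.not_solvable_aux hspec (p := 3) (q := 5) (a := 2) (c := 8) (by norm_num)
      (by norm_num) (by norm_num) (by norm_num) (by decide) (by norm_num) (by omega)
      (by decide) (by decide)
  by_cases h10 : n = 10
  · subst h10
    have h := CfsgLib.Spectrum.two_mul_natCard_alt 10 (by norm_num)
    rw [show (10 : ℕ).factorial = 3628800 by decide, ← hcard] at h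
    exact CfsgLib.Spectrum.not_solvable_aux hspec (p := 5) (q := 7) (a := 2) (c := 10368)
      (by norm_num) (by norm_num) (by norm_num) (by norm_num) (by decide) (by norm_num) (by omega)
      (by decide) (by decide)
  obtain ⟨p, q, hp, hq, hlt, h1, h2⟩ : ∃ p q : ℕ, p.Prime ∧ q.Prime ∧ p < q ∧ n < 2 * p ∧ q ≤ n := by
    rcases Nat.lt_or_ge n 11 with h | h
    · by_cases h5 : n = 5
      · exact ⟨3, 5, by norm_num, by norm_num, by norm_num, by omega, by omega⟩
      · exact ⟨5, 7, by norm_num, by norm_num, by norm_num, by omega, by omega⟩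
    · obtain ⟨p, q, hp, hq, hne, a1, a2, a3, a4⟩ := CfsgLib.Spectrum.exists_two_primes_half h
      rcases lt_or_gt_of_ne hne with h' | h'
      · exact ⟨p, q, hp, hq, h', a1, a4⟩
      · exact ⟨q, p, hq, hp, h', a3, a2⟩
  exact CfsgLib.Spectrum.not_solvable_two_big hn hcard hspec hp hq hlt h1 h2

end Cfsg.Agent.S3419
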