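import Cfsg.Statements.S3420
import Cfsg.Agent.Lib.Spectrum.TwoPrimes
import Cfsg.Agent.Lib.Spectrum.AltBigPrimes
import Cfsg.Agent.Lib.Solvable.MinimalNormal

set_option autoImplicit false
open Cfsg

namespace Cfsg.Agent.S3420

theorem not_dvd_card_sup {G : Type*} [Group G] [Finite G] {p : ℕ} (hp : p.Prime) {A B : Subgroup G}
    [B.Normal] (hA : ¬ p ∣ Nat.card A) (hB : ¬ p ∣ Nat.card B) :
    ¬ p ∣ Nat.card (A ⊔ B : Subgroup G) := by
  intro h
  rw [← Subgroup.card_mul_index (B.subgroupOf (A ⊔ B)),
    Nat.card_congr (Subgroup.subgroupOfEquivOfLe (le_sup_right : B ≤ A ⊔ B)).toEquiv] at h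
  rcases (Nat.Prime.dvd_mul hp).1 h with h' | h'
  · exact hB h'
  · rw [← Subgroup.relIndex, Subgroup.relIndex_sup_right] at h'
    exact hA (h'.trans (Subgroup.relIndex_dvd_card _ _))

/-- A minimal normal subgroup whose order has a prime to the first power only is simple. -/
theorem isSimple_minimal {G : Type*} [Group G] [Finite G] (M : Subgroup G) [M.Normal] (hM : M ≠ ⊥)
    (hmin : ∀ K : Subgroup G, K.Normal → K ≤ M → K = ⊥ ∨ K = M) {p : ℕ} (hp : p.Prime)
    (hpM : p ∣ Nat.card M) (hsq : ¬ p ^ 2 ∣ Nat.card M) : IsSimpleGroup M := by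
  haveI : Nontrivial M := (Subgroup.nontrivial_iff_ne_bot _).2 hM
  refine ⟨fun T hT => ?_⟩
  by_contra hne
  rw [not_or] at hne
  obtain ⟨T, hTn, hT0, -, hTmin⟩ := CfsgLib.Solvable.exists_minimal_normal_le (G := M) T hne.1
  have hTtop : T ≠ ⊤ := fun e => by
    rcases hTmin _ hT (e ▸ le_top) with h | h
    · exact hne.1 h
    · exact hne.2 (h.trans e)
  classical
  set φ : G →* MulAut M := MulAut.conjNormal with hφ
  let C : G → Subgroup M := fun g => T.map (φ g).toMonoidHom
  have hCn : ∀ g, (C g).Normal := fun g => hTn.map _ (φ g).surjective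
  have hCc : ∀ g, Nat.card (C g) = Nat.card T := fun g =>
    (Nat.card_congr (T.equivMapOfInjective _ (φ g).injective).toEquiv).symm
  have hsup : (⨆ g, C g) = ⊤ := by
    set K := ((⨆ g, C g) : Subgroup M).map M.subtype with hK
    have hKn : K.Normal := by
      refine ⟨fun k hk h => ?_⟩
      have hle : (⨆ g, C g).map (φ h).toMonoidHom ≤ ⨆ g, C g := by
        rw [Subgroup.map_iSup]
        refine iSup_le fun g => ?_
        have : (C g).map (φ h).toMonoidHom = C (h * g) := by
          simp only [C, Subgroup.map_map, map_mul]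
          congr 1
        rw [this]
        exact le_iSup C (h * g)
      obtain ⟨m, hm, rfl⟩ := hk
      exact ⟨φ h m, hle (Subgroup.mem_map_of_mem _ hm), by simp [hφ]⟩
    rcases hmin K hKn (Subgroup.map_subtype_le _) with h | h
    · exfalso
      apply hT0
      rw [Subgroup.map_eq_bot_iff_of_injective _ M.subtype_injective, iSup_eq_bot] at h
      exact (Subgroup.map_eq_bot_iff_of_injective _ (φ 1).injective).1 (h 1)
    · apply Subgroup.map_injective M.subtype_injective
      rw [← hK, h, ← MonoidHom.range_eq_map, Subgroup.range_subtype]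
  have hpT : p ∣ Nat.card T := by
    by_contra hn
    haveI := Fintype.ofFinite G
    have hall : ∀ s : Finset G, ¬ p ∣ Nat.card (s.sup C : Subgroup M) ∧ (s.sup C).Normal := by
      intro s
      induction s using Finset.induction_on with
      | empty =>
        refine ⟨?_, by rw [Finset.sup_empty]; infer_instance⟩
        rw [Finset.sup_empty, Subgroup.card_bot]
        exact hp.not_dvd_one
      | insert a s _ ih =>
        rw [Finset.sup_insert]
        haveI := ih.2
        haveI := hCn a
        exact ⟨not_dvd_card_sup hp (by rw [hCc]; exact hn) ih.1, inferInstance⟩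
    have := (hall Finset.univ).1
    rw [Finset.sup_univ_eq_iSup, hsup, Subgroup.card_top] at this
    exact this hpM
  obtain ⟨g, hg⟩ : ∃ g, C g ≠ T := by
    by_contra hall
    push_neg at hall
    simp only [hall, iSup_const] at hsup
    exact hTtop hsup
  haveI := hCn g
  have hdis : C g ⊓ T = ⊥ := by
    rcases hTmin (C g ⊓ T) inferInstance inf_le_right with h | h
    · exact h
    · exact absurd (Subgroup.eq_of_le_of_card_ge (inf_eq_right.1 h) (hCc g).le).symm hg
  apply hsq
  haveI := hTn
  have h1 : Nat.card (C g ⊔ T : Subgroup M) = Nat.card T * Nat.card T := by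
    rw [← Subgroup.card_mul_index (T.subgroupOf (C g ⊔ T)),
      Nat.card_congr (Subgroup.subgroupOfEquivOfLe (le_sup_right : T ≤ C g ⊔ T)).toEquiv,
      ← Subgroup.relIndex, Subgroup.relIndex_sup_right, ← Subgroup.inf_relIndex_right, inf_comm,
      hdis, Subgroup.relIndex_bot_left, hCc]
  exact (by rw [sq, h1]; exact mul_dvd_mul hpT hpT : p ^ 2 ∣ Nat.card (C g ⊔ T : Subgroup M)).trans
    (Subgroup.card_subgroup_dvd_card _)

/-- Let n ≥ 11 and let G be a finite group with the same order and the same set of element orders as the alternating group of degree n. Then G has normal subgroups N < H such that H/N is a non-abelian simple group whose order is divisible by every prime p with n/2 < p ≤ n. -/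
theorem result {G : Type*} [Group G] [Finite G] (n : ℕ) (hn : 11 ≤ n)
    (hcard : Nat.card G = Nat.card ↥(alternatingGroup (Fin n)))
    (hspec : Set.range (orderOf : G → ℕ) = Set.range (orderOf : ↥(alternatingGroup (Fin n)) → ℕ)) :
    ∃ (N H : Subgroup G) (_ : N.Normal), H.Normal ∧ N < H ∧
      IsSimpleGroup (↥H ⧸ N.subgroupOf H) ∧ ¬ IsMulCommutative (↥H ⧸ N.subgroupOf H) ∧
      ∀ p : ℕ, p.Prime → n < 2 * p → p ≤ n → p ∣ Nat.card (↥H ⧸ N.subgroupOf H) := by
  classical
  let Big : ℕ → Prop := fun p => p.Prime ∧ n < 2 * p ∧ p ≤ n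
  haveI := Fintype.ofFinite (Subgroup G)
  let S : Finset (Subgroup G) :=
    Finset.univ.filter fun N => N.Normal ∧ ∀ p, Big p → ¬ p ∣ Nat.card N
  obtain ⟨N, hNS, hmax⟩ := S.exists_max_image (fun N : Subgroup G => Nat.card N) ⟨⊥, by
    simp only [S, Finset.mem_filter, Finset.mem_univ, true_and]
    exact ⟨inferInstance, fun p hp => by rw [Subgroup.card_bot]; exact hp.1.not_dvd_one⟩⟩
  simp only [S, Finset.mem_filter, Finset.mem_univ, true_and] at hNS
  obtain ⟨hNn, hN⟩ := hNS
  haveI := hNn
  obtain ⟨p0, q0, hp0, hq0, hne0, a1, a2, a3, a4⟩ := CfsgLib.Spectrum.exists_two_primes_half hn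
  have hdvd : ∀ p, Big p → p ∣ Nat.card G := fun p hp =>
    hcard ▸ CfsgLib.Spectrum.dvd_card_alt hp.1 (by obtain ⟨-, h, -⟩ := hp; omega) hp.2.2
  have hsqG : ∀ p, Big p → ¬ p ^ 2 ∣ Nat.card G := fun p hp =>
    hcard ▸ CfsgLib.Spectrum.not_sq_dvd_card_alt hp.1 hp.2.1 hp.2.2
  haveI : Nontrivial (G ⧸ N) := by
    rw [QuotientGroup.nontrivial_iff]
    exact fun e => hN p0 ⟨hp0, a1, a2⟩ (by rw [e, Subgroup.card_top]; exact hdvd p0 ⟨hp0, a1, a2⟩)
  obtain ⟨M, hMn, hM0, hMmin⟩ := CfsgLib.Solvable.exists_minimal_normal (G := G ⧸ N)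
  haveI := hMn
  set H := M.comap (QuotientGroup.mk' N) with hH
  haveI hHn : H.Normal := inferInstance
  have hHcard : Nat.card H = Nat.card N * Nat.card M := CfsgLib.Solvable.card_comap_mk' N M
  have hlt : N < H := by
    refine lt_of_le_of_ne (fun x hx => ?_) fun e => hM0 ?_
    · rw [hH, Subgroup.mem_comap, QuotientGroup.mk'_apply, (QuotientGroup.eq_one_iff x).2 hx]
      exact one_mem M
    · apply Subgroup.eq_bot_of_card_eq
      have := congrArg (fun K : Subgroup G => Nat.card K) e
      simp only [hHcard] at this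
      exact Nat.eq_of_mul_eq_mul_left Nat.card_pos (by rw [mul_one]; exact this.symm)
  obtain ⟨p, hp, hpM⟩ : ∃ p, Big p ∧ p ∣ Nat.card M := by
    by_contra hno
    push_neg at hno
    have hmem : H ∈ S := by
      simp only [S, Finset.mem_filter, Finset.mem_univ, true_and]
      refine ⟨hHn, fun r hr hd => ?_⟩
      rw [hHcard] at hd
      rcases (Nat.Prime.dvd_mul hr.1).1 hd with h | h
      · exact hN r hr h
      · exact hno r hr h
    exact absurd (hmax H hmem) (not_le.2 (lt_of_le_of_ne (Subgroup.card_le_of_le hlt.le) fun e =>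
      hlt.ne (Subgroup.eq_of_le_of_card_ge hlt.le e.ge)))
  have hall : ∀ q, Big q → q ∣ Nat.card M := by
    intro q hq
    by_contra hqM
    have hpq : p ≠ q := fun e => hqM (e ▸ hpM)
    haveI := Fact.mk hp.1
    haveI := Fact.mk hq.1
    obtain ⟨x0, hx0⟩ := exists_prime_orderOf_dvd_card' (G := H) p (hHcard ▸ hpM.mul_left _)
    obtain ⟨P, hP⟩ := (IsPGroup.of_card (p := p) (n := 1)
      (by rw [Nat.card_zpowers, Subgroup.orderOf_coe, hx0, pow_one]) :
        IsPGroup p (Subgroup.zpowers (x0 : G))).exists_le_sylow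
    have hPc : Nat.card P = p := by
      obtain ⟨k, hk⟩ := P.2.exists_card_eq
      have h2 : k < 2 := by
        by_contra h2
        exact hsqG p hp ((pow_dvd_pow p (not_lt.1 h2)).trans (hk ▸ Subgroup.card_subgroup_dvd_card _))
      have h1 := Subgroup.card_dvd_of_le hP
      rw [Nat.card_zpowers, Subgroup.orderOf_coe, hx0, hk] at h1
      rcases k with _ | _ | k
      · exact absurd h1 (by rw [pow_zero]; exact hp.1.not_dvd_one)
      · rw [hk, zero_add, pow_one]
      · omega
    have hgen : Subgroup.zpowers (x0 : G) = (P : Subgroup G) :=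
      Subgroup.eq_of_le_of_card_ge hP (by rw [Nat.card_zpowers, Subgroup.orderOf_coe, hx0, hPc])
    have hPH : (P : Subgroup G) ≤ H := hgen ▸ (by rw [Subgroup.zpowers_le]; exact x0.2)
    have hfr := P.normalizer_sup_eq_top' hPH
    have hqn : q ∣ Nat.card (Subgroup.normalizer (P : Set G)) := by
      have h1 : q ∣ Nat.card (Subgroup.normalizer (P : Set G) ⊔ H : Subgroup G) := by
        rw [hfr, Subgroup.card_top]; exact hdvd q hq
      by_contra hn'
      refine not_dvd_card_sup hq.1 hn' ?_ h1
      intro hd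
      rw [hHcard] at hd
      rcases (Nat.Prime.dvd_mul hq.1).1 hd with h | h
      · exact hN q hq h
      · exact hqM h
    obtain ⟨y, hy⟩ := exists_prime_orderOf_dvd_card' (G := Subgroup.normalizer (P : Set G)) q hqn
    have hd : ¬ q ∣ p - 1 := by
      intro hd
      obtain ⟨t, ht⟩ := hd
      have h1 := hp.2.2; have h2 := hq.2.1; have h3 := hp.1.two_le
      have h4 := hp.2.1
      have ht1 : t = 1 := by
        have : q * t < q * 2 := by omega
        have := Nat.lt_of_mul_lt_mul_left this
        rcases t with _ | t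
        · omega
        · omega
      subst ht1
      have ho1 := hp.1.odd_of_ne_two (by omega)
      have ho2 := hq.1.odd_of_ne_two (by omega)
      rw [Nat.odd_iff] at ho1 ho2
      omega
    refine CfsgLib.Spectrum.not_orderOf_of_spectrum hspec hq.1 hp.1 hpq.symm ?_ ((y : G) * (x0 : G))
      (CfsgLib.Spectrum.orderOf_mul_of_normalizes hq.1 hp.1 hpq.symm hd
        (by rw [Subgroup.orderOf_coe, hx0]) (by rw [Subgroup.orderOf_coe, hy]) ?_)
    · have := hp.2.1; have := hq.2.1; omega
    · rw [hgen]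
      exact (Subgroup.mem_normalizer_iff.1 y.2 _).1 (hP (Subgroup.mem_zpowers _))
  have hMG : Nat.card M ∣ Nat.card G :=
    (Subgroup.card_subgroup_dvd_card M).trans (Subgroup.card_quotient_dvd_card N)
  have hsimple : IsSimpleGroup M :=
    isSimple_minimal M hM0 hMmin hp.1 hpM fun h => hsqG p hp (h.trans hMG)
  have hnc : ¬ IsMulCommutative M := by
    intro hc
    haveI := hc
    obtain ⟨r, hr, hpow⟩ := CfsgLib.Solvable.exists_prime_pow_eq_one_of_minimal_normal M hM0 hMmin
      (Group.isSolvable_of_comm fun a b => hc.is_comm.comm a b)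
    have hone : ∀ s, Big s → s = r := by
      intro s hs
      haveI := Fact.mk hs.1
      obtain ⟨u, hu⟩ := exists_prime_orderOf_dvd_card' (G := M) s (hall s hs)
      exact (Nat.prime_dvd_prime_iff_eq hs.1 hr).1
        (hu ▸ orderOf_dvd_of_pow_eq_one (Subtype.ext (by simpa using hpow u u.2)))
    exact hne0 ((hone p0 ⟨hp0, a1, a2⟩).trans (hone q0 ⟨hq0, a3, a4⟩).symm)
  let f : H →* M :=
    ((QuotientGroup.mk' N).comp H.subtype).codRestrict M fun h => h.2
  have hfs : Function.Surjective f := by
    rintro ⟨m, hm⟩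
    obtain ⟨g, rfl⟩ := QuotientGroup.mk'_surjective N m
    exact ⟨⟨g, hm⟩, rfl⟩
  have hker : f.ker = N.subgroupOf H := by
    ext x
    rw [MonoidHom.mem_ker, Subgroup.mem_subgroupOf, Subtype.ext_iff]
    exact QuotientGroup.eq_one_iff (x : G)
  haveI : (N.subgroupOf H).Normal := inferInstance
  let e : (↥H ⧸ N.subgroupOf H) ≃* M :=
    (QuotientGroup.quotientMulEquivOfEq hker.symm).trans
      (QuotientGroup.quotientKerEquivOfSurjective f hfs)
  refine ⟨N, H, hNn, hHn, hlt, e.isSimpleGroup, fun h => hnc ?_, fun r hr h1 h2 => ?_⟩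
  · exact ⟨⟨fun a b => e.symm.injective (by rw [map_mul, map_mul]; exact h.is_comm.comm _ _)⟩⟩
  · rw [Nat.card_congr e.toEquiv]; exact hall r ⟨hr, h1, h2⟩

end Cfsg.Agent.S3420
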