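import Cfsg.Statements.S3421
import Cfsg.Agent.Lib.SmallGroups.PSLSpectrum.Recognise
import Cfsg.Agent.Lib.PGroup.SelfCentSimple.PSL
import Cfsg.Agent.Lib.Classical.Dickson.PSLMap
import Cfsg.Agent.S1230
import Cfsg.Agent.S2475
import Cfsg.Agent.S0243

set_option autoImplicit false
open Cfsg

namespace Cfsg.Agent.S3421


universe u v

theorem card_psl_even {F : Type v} [Field F] [Fintype F] {f : ℕ} (hf : Fintype.card F = 2 ^ f)
    (h3 : 3 < Fintype.card F) :
    Nat.card (Matrix.ProjectiveSpecialLinearGroup (Fin 2) F) =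
      Fintype.card F * (Fintype.card F ^ 2 - 1) := by
  have h := Cfsg.Agent.S0243.result (F := F) (q := Fintype.card F) rfl 2 le_rfl
  set q := Fintype.card F
  have hg : Nat.gcd 2 (q - 1) = 1 := by
    refine (Nat.prime_two.coprime_iff_not_dvd).2 fun h2 => ?_
    have : Even q := hf ▸ (Nat.even_pow.2 ⟨even_two, by rintro rfl; simp at hf; omega⟩)
    obtain ⟨c, hc⟩ := this
    omega
  rw [hg, one_mul, Fin.prod_univ_two] at h
  simp only [Fin.val_zero, Fin.val_one, pow_zero, pow_one] at h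
  refine Nat.eq_of_mul_eq_mul_left (show 0 < q - 1 by omega) (h.trans ?_)
  have e : q ^ 2 - q = q * (q - 1) := by rw [Nat.mul_sub_one, pow_two]
  rw [e]; ring

theorem half_inj {a b : ℕ} (h : a * (a ^ 2 - 1) = b * (b ^ 2 - 1)) (ha : 2 ≤ a) (hb : 2 ≤ b) :
    a = b := by
  rcases lt_trichotomy a b with hlt | he | hgt
  · exfalso
    exact absurd h (Nat.ne_of_lt (Nat.mul_lt_mul_of_lt_of_le hlt (by gcongr)
      (Nat.sub_pos_of_lt (lt_of_lt_of_le (by omega : 1 < b) (Nat.le_self_pow two_ne_zero b)))))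
  · exact he
  · exfalso
    exact absurd h.symm (Nat.ne_of_lt (Nat.mul_lt_mul_of_lt_of_le hgt (by gcongr)
      (Nat.sub_pos_of_lt (lt_of_lt_of_le (by omega : 1 < a) (Nat.le_self_pow two_ne_zero a)))))

theorem iso_of_card {G : Type u} [Group G] {F : Type v} [Field F] [Fintype F] {K : Type}
    [Field K] [Fintype K] (hc : Fintype.card K = Fintype.card F)
    (e : G ≃* Matrix.ProjectiveSpecialLinearGroup (Fin 2) K) :
    Nonempty (G ≃* Matrix.ProjectiveSpecialLinearGroup (Fin 2) F) :=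
  ⟨e.trans (CfsgLib.Classical.Dickson.pslCongr (FiniteField.ringEquivOfCardEq hc))⟩

/-- Characteristic two: the involution centralisers are elementary abelian. -/
theorem even_case {G : Type u} [Group G] [Finite G] {F : Type v} [Field F] [Fintype F] {f : ℕ}
    (hf : Fintype.card F = 2 ^ f) (hF : 3 < Fintype.card F)
    (hspec : ∀ g : G, orderOf g ∣ 2 ∨ orderOf g ∣ Fintype.card F - 1 ∨ orderOf g ∣ Fintype.card F + 1)
    (hex : ∃ h : G, orderOf h = Fintype.card F + 1)
    (hcard : Nat.card G = Fintype.card F * (Fintype.card F ^ 2 - 1)) :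
    Nonempty (G ≃* Matrix.ProjectiveSpecialLinearGroup (Fin 2) F) := by
  classical
  haveI : Fact (Nat.Prime 2) := ⟨Nat.prime_two⟩
  set q := Fintype.card F
  have hf2 : 2 ≤ f := by
    by_contra h
    have : 2 ^ f ≤ 2 ^ 1 := Nat.pow_le_pow_right two_pos (by omega)
    omega
  have hqe : Even q := hf ▸ (Nat.even_pow.2 ⟨even_two, by omega⟩)
  obtain ⟨q', hq'⟩ := hqe
  have hev : ∀ g : G, 2 ∣ orderOf g → g ^ 2 = 1 := by
    intro g hg
    rcases hspec g with h | h | h
    · exact orderOf_dvd_iff_pow_eq_one.1 h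
    · have := hg.trans h; omega
    · have := hg.trans h; omega
  obtain ⟨T⟩ : Nonempty (Sylow 2 G) := inferInstance
  have hTc : Nat.card (T : Subgroup G) = q := by
    rw [hf]
    refine CfsgLib.SmallGroups.card_sylow_eq (m := q ^ 2 - 1) (hcard.trans (congrArg (· * (q ^ 2 - 1)) hf)) ?_ T
    rw [hq', show (q' + q') ^ 2 = 2 * (2 * q' * q') by ring]
    have : 1 ≤ 2 * q' * q' := by nlinarith
    omega
  have hTexp : ∀ x ∈ (T : Subgroup G), x ^ 2 = 1 := by
    intro x hx
    rcases eq_or_ne x 1 with rfl | hx1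
    · exact one_pow _
    obtain ⟨n, hn⟩ := IsPGroup.iff_orderOf.1 T.2 ⟨x, hx⟩
    rw [Subgroup.orderOf_mk] at hn
    refine hev x (hn ▸ dvd_pow_self 2 ?_)
    rintro rfl
    exact hx1 (orderOf_eq_one_iff.1 (by simpa using hn))
  have hnc : ¬ IsCyclic (T : Subgroup G) := by
    intro hc
    obtain ⟨⟨g, hgT⟩, hg⟩ := hc.exists_generator
    have h1 := orderOf_eq_card_of_forall_mem_zpowers hg
    rw [Subgroup.orderOf_mk, hTc] at h1
    have := Nat.le_of_dvd two_pos (orderOf_dvd_of_pow_eq_one (hTexp g hgT))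
    omega
  obtain ⟨h, ho⟩ := hex
  have hnn : ¬ (T : Subgroup G).Normal := by
    intro hn
    letI : MulAction (Subgroup.zpowers h) {z : (T : Subgroup G) // z ≠ 1} :=
      { smul := fun a z => ⟨⟨(a : G) * (z.1 : G) * (a : G)⁻¹, hn.conj_mem _ z.1.2 a⟩,
          fun e => z.2 (Subtype.ext (by simpa using congrArg Subtype.val e))⟩
        one_smul := fun z => Subtype.ext (Subtype.ext (by
          show ((1 : Subgroup.zpowers h) : G) * (z.1 : G) * ((1 : Subgroup.zpowers h) : G)⁻¹ = _
          simp))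
        mul_smul := fun a b z => Subtype.ext (Subtype.ext (by
          show ((a * b : Subgroup.zpowers h) : G) * (z.1 : G) * ((a * b : Subgroup.zpowers h) : G)⁻¹ =
            (a : G) * ((b : G) * (z.1 : G) * (b : G)⁻¹) * (a : G)⁻¹
          simp [mul_assoc])) }
    have hd := CfsgLib.SmallGroups.PSLSpectrum.dvd_card_of_free (D := Subgroup.zpowers h)
      (X := {z : (T : Subgroup G) // z ≠ 1}) fun a z hz => by
      have h2 : Commute (a : G) (z.1 : G) := mul_inv_eq_iff_eq_mul.1
        (congrArg (fun t : {z : (T : Subgroup G) // z ≠ 1} => ((t.1 : (T : Subgroup G)) : G)) hz)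
      by_contra ha
      have hzo : orderOf (z.1 : G) = 2 :=
        orderOf_eq_prime (hTexp _ z.1.2) (fun e => z.2 (Subtype.ext e))
      have had : orderOf (a : G) ∣ q + 1 := ho ▸ orderOf_dvd_of_mem_zpowers a.2
      have hcop : (orderOf (a : G)).Coprime (orderOf (z.1 : G)) := by
        rw [hzo]
        exact Nat.Coprime.coprime_dvd_left had (Nat.coprime_two_right.2 ⟨q', by omega⟩)
      have ho2 := h2.orderOf_mul_eq_mul_orderOf_of_coprime hcop
      rw [hzo] at ho2
      have h3 := orderOf_dvd_of_pow_eq_one (hev _ (ho2 ▸ dvd_mul_left 2 _))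
      rw [ho2] at h3
      have h4 : orderOf (a : G) ∣ 1 := Nat.dvd_of_mul_dvd_mul_right two_pos (by simpa using h3)
      exact ha (Subtype.ext (orderOf_eq_one_iff.1 (Nat.dvd_one.1 h4)))
    rw [Nat.card_zpowers, ho] at hd
    have hX : Nat.card {z : (T : Subgroup G) // z ≠ 1} = q - 1 := by
      haveI := Fintype.ofFinite (T : Subgroup G)
      rw [Nat.card_eq_fintype_card, Fintype.card_subtype_compl]
      simp only [Fintype.card_unique]
      rw [← Nat.card_eq_fintype_card, hTc]
    rw [hX] at hd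
    have := Nat.le_of_dvd (by omega) hd
    omega
  have hC : ∀ t : G, orderOf t = 2 → IsMulCommutative (Subgroup.centralizer ({t} : Set G)) ∧
      ∀ c ∈ Subgroup.centralizer ({t} : Set G), c ^ 2 = 1 := by
    intro t ht
    have hsq : ∀ c ∈ Subgroup.centralizer ({t} : Set G), c ^ 2 = 1 := by
      intro c hc
      by_cases h2 : 2 ∣ orderOf c
      · exact hev c h2
      have hcomm : Commute c t := Subgroup.mem_centralizer_singleton_iff.1 hc
      have hcop : (orderOf c).Coprime (orderOf t) := by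
        rw [ht]; exact (Nat.prime_two.coprime_iff_not_dvd.2 h2).symm
      have ho2 := hcomm.orderOf_mul_eq_mul_orderOf_of_coprime hcop
      rw [ht] at ho2
      have h3 := orderOf_dvd_of_pow_eq_one (hev _ (ho2 ▸ dvd_mul_left 2 _))
      rw [ho2] at h3
      have h4 : orderOf c ∣ 1 := Nat.dvd_of_mul_dvd_mul_right two_pos (by simpa using h3)
      rw [orderOf_eq_one_iff.1 (Nat.dvd_one.1 h4), one_pow]
    refine ⟨⟨⟨fun a b => Subtype.ext ?_⟩⟩, hsq⟩
    have hinv : ∀ c ∈ Subgroup.centralizer ({t} : Set G), c⁻¹ = c := fun c hc =>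
      inv_eq_of_mul_eq_one_left (by rw [← pow_two]; exact hsq c hc)
    show (a : G) * b = b * a
    rw [← hinv _ (mul_mem a.2 b.2), mul_inv_rev, hinv _ a.2, hinv _ b.2]
  obtain ⟨K, iK, iF, hK, ⟨e⟩⟩ := Cfsg.Agent.S1230.result T hnc hnn hC
  exact iso_of_card (hK.trans hTc) e

/-- Let F be a finite field with more than 3 elements. A finite group G is isomorphic to PSL(2, F) if and only if G has the same set of element orders and the same order as PSL(2, F). -/
theorem result {G : Type*} [Group G] [Finite G] {F : Type*} [Field F] [Fintype F] (hF : 3 < Fintype.card F) :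
    Nonempty (G ≃* Matrix.ProjectiveSpecialLinearGroup (Fin 2) F) ↔
      (Set.range (orderOf : G → ℕ) = Set.range (orderOf : Matrix.ProjectiveSpecialLinearGroup (Fin 2) F → ℕ) ∧
        Nat.card G = Nat.card (Matrix.ProjectiveSpecialLinearGroup (Fin 2) F)) := by
  classical
  constructor
  · rintro ⟨e⟩
    refine ⟨?_, Nat.card_congr e.toEquiv⟩
    ext n
    constructor
    · rintro ⟨g, rfl⟩; exact ⟨e g, e.orderOf_eq g⟩
    · rintro ⟨g, rfl⟩; exact ⟨e.symm g, e.symm.orderOf_eq g⟩
  rintro ⟨hrange, hcard⟩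
  obtain ⟨p, hp⟩ := CharP.exists F
  obtain ⟨n, hpp, hn⟩ := FiniteField.card F p
  haveI := Fact.mk hpp
  have hs := hrange.trans (Cfsg.Agent.S2475.result (F := F) p (by omega))
  have hspec : ∀ g : G, orderOf g ∈ {m : ℕ | m ∣ p ∨ m ∣ (Fintype.card F - 1) / Nat.gcd 2 (Fintype.card F - 1) ∨
      m ∣ (Fintype.card F + 1) / Nat.gcd 2 (Fintype.card F - 1)} := fun g => hs ▸ ⟨g, rfl⟩
  set q := Fintype.card F with hq
  rcases eq_or_ne p 2 with rfl | hp2
  · have hg : Nat.gcd 2 (q - 1) = 1 := by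
      refine Nat.prime_two.coprime_iff_not_dvd.2 fun h2 => ?_
      obtain ⟨c, hc⟩ : Even q := hn ▸ Nat.even_pow.2 ⟨even_two, n.ne_zero⟩
      omega
    obtain ⟨h, hh⟩ : q + 1 ∈ Set.range (orderOf : G → ℕ) := by
      rw [hs, hg]; exact Or.inr (Or.inr (by rw [Nat.div_one]))
    refine even_case hn hF (fun g => ?_) ⟨h, hh⟩ (hcard.trans (card_psl_even hn hF))
    simpa [hg, Nat.div_one] using hspec g
  · have hodd : Odd q := hn ▸ (hpp.odd_of_ne_two hp2).pow
    obtain ⟨j, hj⟩ := hodd
    have hg : Nat.gcd 2 (q - 1) = 2 := Nat.gcd_eq_left ⟨j, by omega⟩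
    have h2 : (2 : F) ≠ 0 := fun h => hp2 ((Nat.prime_dvd_prime_iff_eq hpp Nat.prime_two).1
      ((CharP.cast_eq_zero_iff F p 2).1 (by simpa using h)))
    have hG : 2 * Nat.card G = q * (q ^ 2 - 1) := by
      rw [hcard]; exact CfsgLib.PGroup.SelfCentSimple.two_card_psl h2
    have hGj : Nat.card G = 2 * q * j * (j + 1) := by
      refine Nat.eq_of_mul_eq_mul_left two_pos (hG.trans ?_)
      rw [show q ^ 2 - 1 = 4 * j * (j + 1) from Nat.sub_eq_of_eq_add (by rw [hj]; ring)]
      ring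
    have hmem : ∀ d, d = j ∨ d = j + 1 → ∃ g : G, orderOf g = d := by
      intro d hd
      have : d ∈ Set.range (orderOf : G → ℕ) := by
        rw [hs, hg]
        rcases hd with rfl | rfl
        · exact Or.inr (Or.inl (by rw [show (q - 1) / 2 = d by omega]))
        · exact Or.inr (Or.inr (by rw [show (q + 1) / 2 = j + 1 by omega]))
      exact this
    have hsp : ∀ g : G, orderOf g ∣ p ∨ orderOf g ∣ j ∨ orderOf g ∣ j + 1 := by
      intro g
      have := hspec g
      rw [hg, show (q - 1) / 2 = j by omega, show (q + 1) / 2 = j + 1 by omega] at this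
      exact this
    obtain ⟨m, k, H⟩ : ∃ m k, CfsgLib.SmallGroups.PSLSpectrum.Hyp G p q m k := by
      rcases Nat.even_or_odd j with he | ho
      · exact ⟨j, j + 1, hpp, ⟨n, hn⟩, he, he.add_one, by obtain ⟨c, hc⟩ := he; omega, by omega,
          Or.inr rfl, hGj, hsp, hmem j (Or.inl rfl), hmem _ (Or.inr rfl)⟩
      · exact ⟨j + 1, j, hpp, ⟨n, hn⟩, ho.add_one, ho, by obtain ⟨c, hc⟩ := ho; omega, by omega,
          Or.inl rfl, hGj.trans (by ring), fun g => (hsp g).imp_right Or.symm,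
          hmem _ (Or.inr rfl), hmem j (Or.inl rfl)⟩
    obtain ⟨K, iK, iF, hK, ⟨e⟩⟩ := H.nonempty_psl
    refine iso_of_card (half_inj ?_ Fintype.one_lt_card (by omega)) e
    have hK2 : (2 : K) ≠ 0 := Ring.two_ne_zero hK
    rw [← CfsgLib.PGroup.SelfCentSimple.two_card_psl hK2, ← Nat.card_congr e.toEquiv]
    exact hG

end Cfsg.Agent.S3421
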