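import Cfsg.Statements.S3430
import Cfsg.Agent.Lib.Recognition.Zsigmondy
-- import your own Cfsg.Agent.* helpers here

set_option autoImplicit false
open Cfsg

namespace Cfsg.Agent.S3430

/-- Let q, n ≥ 2 be integers. Unless (n = 2 and q + 1 = 2^s·3^t for some s ≥ 0 and t ≤ 1), or (q = 2 and n ∈ {4, 6, 10, 12, 18}), or (q = 3 and n ∈ {4, 6}), or (q, n) = (5, 6), there is a prime p dividing q^n − 1 but no q^i − 1 with 1 ≤ i < n (a primitive prime divisor), such that p > n + 1 or p² divides q^n − 1. -/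
theorem result (q n : ℕ) (hq : 2 ≤ q) (hn : 2 ≤ n)
    (h1 : ¬ (n = 2 ∧ ∃ s t : ℕ, t ≤ 1 ∧ q + 1 = 2 ^ s * 3 ^ t))
    (h2 : ¬ (q = 2 ∧ (n = 4 ∨ n = 6 ∨ n = 10 ∨ n = 12 ∨ n = 18)))
    (h3 : ¬ (q = 3 ∧ (n = 4 ∨ n = 6))) (h4 : ¬ (q = 5 ∧ n = 6)) :
    ∃ p : ℕ, p.Prime ∧ p ∣ q ^ n - 1 ∧ (∀ i : ℕ, 1 ≤ i → i < n → ¬ p ∣ q ^ i - 1) ∧ (n + 1 < p ∨ p ^ 2 ∣ q ^ n - 1) := by
  rcases eq_or_ne n 2 with rfl | hn2
  · have hdvd : q + 1 ∣ q ^ 2 - 1 := ⟨q - 1, by rw [← Nat.sq_sub_sq, one_pow]⟩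
    have hmin : ∀ p, p.Prime → 2 < p → p ∣ q + 1 → ∀ i : ℕ, 1 ≤ i → i < 2 → ¬ p ∣ q ^ i - 1 := by
      intro p hp hp2 hd i h1 h2 hh
      obtain rfl : i = 1 := by omega
      rw [pow_one] at hh
      have h := Nat.dvd_sub hd hh
      rw [show q + 1 - (q - 1) = 2 by omega] at h
      have := Nat.le_of_dvd (by norm_num) h
      omega
    by_cases h9 : 9 ∣ q + 1
    · exact ⟨3, Nat.prime_three, ((by norm_num : 3 ∣ 9).trans h9).trans hdvd,
        hmin 3 Nat.prime_three (by norm_num) ((by norm_num : 3 ∣ 9).trans h9), Or.inr (h9.trans hdvd)⟩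
    by_cases hp : ∃ p, p.Prime ∧ 3 < p ∧ p ∣ q + 1
    · obtain ⟨p, hp, h3, hd⟩ := hp
      exact ⟨p, hp, hd.trans hdvd, hmin p hp (by omega) hd, Or.inl (by omega)⟩
    exfalso
    apply h1
    refine ⟨rfl, (q + 1).factorization 2, (q + 1).factorization 3, ?_, ?_⟩
    · by_contra h
      exact h9 ((pow_dvd_pow 3 (by omega : 2 ≤ (q + 1).factorization 3)).trans (Nat.ordProj_dvd _ _))
    · have hsub : (q + 1).primeFactors ⊆ ({2, 3} : Finset ℕ) := by
        intro p hp'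
        obtain ⟨hpp, hd, -⟩ := Nat.mem_primeFactors.1 hp'
        simp only [Finset.mem_insert, Finset.mem_singleton]
        have := hpp.two_le
        by_contra hne
        exact hp ⟨p, hpp, by omega, hd⟩
      conv_lhs => rw [← Nat.prod_factorization_pow_eq_self (by omega : q + 1 ≠ 0)]
      rw [Finsupp.prod_of_support_subset _ hsub _ (fun i _ => pow_zero i),
        Finset.prod_pair (by norm_num)]
  · refine CfsgLib.Recognition.Zsigmondy.exists_large_primitive (by omega) hq ?_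
    simp only [CfsgLib.Recognition.Zsigmondy.exceptions, List.mem_cons, Prod.mk.injEq, List.not_mem_nil, or_false]
    omega

end Cfsg.Agent.S3430
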