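import Cfsg.Statements.S3431
import Cfsg.Agent.Lib.SmallGroups.AltSameOrder
-- Template for statement S3431 (row 3431; see /opt/grader/pristine/manifest.json for weights).
-- Copy to Cfsg/Agent/S3431.lean and replace the sorry. The statement below is byte-identical to the frozen
-- statement Cfsg.CfsgFrozen.S3431 (Cfsg/Statements/S3431.lean; the theorem Cfsg.recog5_small_alternating_by_same_order_counts);
-- the grader kernel-checks Cfsg.Agent.S3431.result against that frozen type. Keep the theorem IN THIS FILE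
-- (a `result` declared elsewhere and merely imported here is not credited); helpers may live anywhere
-- under Cfsg/Agent/.

set_option autoImplicit false
open Cfsg

namespace Cfsg.Agent.S3431

open CfsgLib.FGS.Counts CfsgLib.AltNSE

theorem cnt_eq_filter {H : Type*} [Group H] [Fintype H] [DecidableEq H] (m : ℕ) (hm : 0 < m) :
    cnt H m = (Finset.univ.filter fun g : H => g ^ m = 1 ∧ ∀ i < m, 0 < i → g ^ i ≠ 1).card := by
  rw [cnt, Nat.card_eq_fintype_card, Fintype.card_subtype]
  exact congrArg Finset.card (Finset.filter_congr fun g _ => by rw [orderOf_eq_iff hm])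

set_option maxRecDepth 100000 in
theorem pow_four : ∀ g : alternatingGroup (Fin 4), g ^ 2 = 1 ∨ g ^ 3 = 1 := by
  decide +kernel

set_option maxRecDepth 100000 in
theorem pow_five : ∀ g : alternatingGroup (Fin 5), g ^ 2 = 1 ∨ g ^ 3 = 1 ∨ g ^ 5 = 1 := by
  decide +kernel

set_option maxRecDepth 100000 in
theorem pow_six : ∀ g : alternatingGroup (Fin 6), g ^ 4 = 1 ∨ g ^ 3 = 1 ∨ g ^ 5 = 1 := by
  decide +kernel

set_option maxRecDepth 100000 in
theorem counts_four : (Finset.image (fun m : ℕ => (Finset.univ.filter fun g : alternatingGroup (Fin 4) =>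
    g ^ m = 1 ∧ ∀ i < m, 0 < i → g ^ i ≠ 1).card) ({1, 2, 3} : Finset ℕ)) = {1, 3, 8} := by
  decide +kernel

set_option maxRecDepth 100000 in
theorem counts_five : (Finset.image (fun m : ℕ => (Finset.univ.filter fun g : alternatingGroup (Fin 5) =>
    g ^ m = 1 ∧ ∀ i < m, 0 < i → g ^ i ≠ 1).card) ({1, 2, 3, 5} : Finset ℕ)) = {1, 15, 20, 24} := by
  decide +kernel

set_option maxRecDepth 100000 in
theorem counts_six : (Finset.image (fun m : ℕ => (Finset.univ.filter fun g : alternatingGroup (Fin 6) =>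
    g ^ m = 1 ∧ ∀ i < m, 0 < i → g ^ i ≠ 1).card) ({1, 2, 3, 4, 5} : Finset ℕ)) = {1, 45, 80, 90, 144} := by
  decide +kernel

/-- From the set of sizes to the recognition hypothesis. -/
theorem hyp_of {G H : Type*} [Group G] [Finite G] [Group H] [Fintype H] [DecidableEq H]
    (s V : Finset ℕ) (hpos : ∀ m ∈ s, 0 < m) (hord : ∀ g : H, orderOf g ∈ s)
    (hV : Finset.image (fun m : ℕ => (Finset.univ.filter fun g : H =>
      g ^ m = 1 ∧ ∀ i < m, 0 < i → g ^ i ≠ 1).card) s = V) (hzero : 0 ∉ V)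
    (h : (fun m : ℕ => Nat.card {g : G // orderOf g = m}) '' Set.range (orderOf : G → ℕ) =
      (fun m : ℕ => Nat.card {g : H // orderOf g = m}) '' Set.range (orderOf : H → ℕ)) :
    Hyp G V := by
  have himg : (fun m : ℕ => Nat.card {g : H // orderOf g = m}) '' Set.range (orderOf : H → ℕ) = ↑V := by
    rw [← hV]
    ext v
    simp only [Set.mem_image, Set.mem_range, Finset.coe_image, Finset.mem_coe]
    constructor
    · rintro ⟨_, ⟨g, rfl⟩, rfl⟩
      exact ⟨orderOf g, hord g, (cnt_eq_filter _ (orderOf_pos g)).symm⟩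
    · rintro ⟨m, hm, rfl⟩
      have h0 : cnt H m ≠ 0 := by
        intro e
        rw [cnt_eq_filter m (hpos m hm)] at e
        exact hzero (hV ▸ Finset.mem_image.2 ⟨m, hm, e⟩)
      obtain ⟨g, hg⟩ := exists_of_cnt h0
      exact ⟨m, ⟨g, hg⟩, cnt_eq_filter m (hpos m hm)⟩
  rw [himg] at h
  refine ⟨fun m hm => ?_, fun v hv => ?_⟩
  · obtain ⟨x, hx⟩ := exists_of_cnt hm
    rw [← Finset.mem_coe, ← h]
    exact ⟨m, ⟨x, hx⟩, rfl⟩
  · rw [← Finset.mem_coe, ← h] at hv
    obtain ⟨m, -, hm⟩ := hv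
    exact ⟨m, hm⟩

theorem ord_cases {H : Type*} [Group H] {g : H} {n : ℕ} (hn : 0 < n) (h : g ^ n = 1) :
    orderOf g ∈ n.divisors :=
  Nat.mem_divisors.2 ⟨orderOf_dvd_of_pow_eq_one h, hn.ne'⟩

/-- Let n be 4, 5 or 6 and let G be a finite group whose set of sizes of same-order classes (the set of numbers #{g : o(g) = m} over the element orders m of G) equals that of the alternating group of degree n. Then G is isomorphic to that alternating group. -/
theorem result {G : Type*} [Group G] [Finite G] (n : ℕ) (hn : n = 4 ∨ n = 5 ∨ n = 6)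
    (h : ((fun m : ℕ => Nat.card {g : G // orderOf g = m}) '' Set.range (orderOf : G → ℕ)) = ((fun m : ℕ => Nat.card {g : ↥(alternatingGroup (Fin n)) // orderOf g = m}) '' Set.range (orderOf : ↥(alternatingGroup (Fin n)) → ℕ))) :
    Nonempty (G ≃* ↥(alternatingGroup (Fin n))) := by
  rcases hn with rfl | rfl | rfl
  · refine four (hyp_of {1, 2, 3} _ (by decide) (fun g => ?_) counts_four (by decide) h)
    rcases pow_four g with e | e
    · exact (by decide : ∀ m ∈ Nat.divisors 2, m ∈ ({1, 2, 3} : Finset ℕ)) _ (ord_cases (by norm_num) e)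
    · exact (by decide : ∀ m ∈ Nat.divisors 3, m ∈ ({1, 2, 3} : Finset ℕ)) _ (ord_cases (by norm_num) e)
  · refine five (hyp_of {1, 2, 3, 5} _ (by decide) (fun g => ?_) counts_five (by decide) h)
    rcases pow_five g with e | e | e
    · exact (by decide : ∀ m ∈ Nat.divisors 2, m ∈ ({1, 2, 3, 5} : Finset ℕ)) _ (ord_cases (by norm_num) e)
    · exact (by decide : ∀ m ∈ Nat.divisors 3, m ∈ ({1, 2, 3, 5} : Finset ℕ)) _ (ord_cases (by norm_num) e)
    · exact (by decide : ∀ m ∈ Nat.divisors 5, m ∈ ({1, 2, 3, 5} : Finset ℕ)) _ (ord_cases (by norm_num) e)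
  · refine six (hyp_of {1, 2, 3, 4, 5} _ (by decide) (fun g => ?_) counts_six (by decide) h)
    rcases pow_six g with e | e | e
    · exact (by decide : ∀ m ∈ Nat.divisors 4, m ∈ ({1, 2, 3, 4, 5} : Finset ℕ)) _ (ord_cases (by norm_num) e)
    · exact (by decide : ∀ m ∈ Nat.divisors 3, m ∈ ({1, 2, 3, 4, 5} : Finset ℕ)) _ (ord_cases (by norm_num) e)
    · exact (by decide : ∀ m ∈ Nat.divisors 5, m ∈ ({1, 2, 3, 4, 5} : Finset ℕ)) _ (ord_cases (by norm_num) e)

end Cfsg.Agent.S3431
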