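import Cfsg.Statements.S3437
import Cfsg.Agent.Lib.Spectrum.O48
import Cfsg.Agent.Lib.KnownSimple.PSLSpectrum

set_option autoImplicit false
open Cfsg

namespace Cfsg.Agent.S3437

open Matrix

/-- Coefficients of `A ^ n` in `1, A, A ^ 2` when `A ^ 3 = t A ^ 2 - s A + 1`. -/
def co (t s : ZMod 3) : ℕ → ZMod 3 × ZMod 3 × ZMod 3
  | 0 => (1, 0, 0)
  | n + 1 =>
    let c := co t s n
    (c.2.2, c.1 - c.2.2 * s, c.2.1 + c.2.2 * t)

theorem co_cases : ∀ t s : ZMod 3, co t s 13 = (1, 0, 0) ∨ co t s 8 = (1, 0, 0) ∨ co t s 6 = (1, 0, 0) := by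
  decide

theorem cayley3 {R : Type*} [CommRing R] (A : Matrix (Fin 3) (Fin 3) R) (hA : A.det = 1) :
    A * (A * A) = 1 - (A 0 0 * A 1 1 - A 0 1 * A 1 0 + (A 0 0 * A 2 2 - A 0 2 * A 2 0)
      + (A 1 1 * A 2 2 - A 1 2 * A 2 1)) • A + (A 0 0 + A 1 1 + A 2 2) • (A * A) := by
  rw [show (1 : Matrix (Fin 3) (Fin 3) R) = A.det • 1 by rw [hA, one_smul]]
  ext i j
  fin_cases i <;> fin_cases j <;>
    simp [Matrix.mul_apply, Fin.sum_univ_three, Matrix.det_fin_three] <;> ring

theorem sl3_pow_cases {F : Type*} [CommRing F] (φ : ZMod 3 →+* F) (hφ : Function.Surjective φ)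
    (A : Matrix.SpecialLinearGroup (Fin 3) F) : A ^ 13 = 1 ∨ A ^ 8 = 1 ∨ A ^ 6 = 1 := by
  set M : Matrix (Fin 3) (Fin 3) F := A.1 with hM
  obtain ⟨t, ht⟩ := hφ (M 0 0 + M 1 1 + M 2 2)
  obtain ⟨s, hs⟩ := hφ (M 0 0 * M 1 1 - M 0 1 * M 1 0 + (M 0 0 * M 2 2 - M 0 2 * M 2 0)
      + (M 1 1 * M 2 2 - M 1 2 * M 2 1))
  have h3 := cayley3 M A.2
  rw [← ht, ← hs] at h3
  have hpow : ∀ n, M ^ n = φ (co t s n).1 • 1 + φ (co t s n).2.1 • M + φ (co t s n).2.2 • (M * M) := by
    intro n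
    induction n with
    | zero => simp [co]
    | succ n ih =>
      rw [pow_succ', ih]
      simp only [co, mul_add, Matrix.mul_smul, mul_one, h3, map_sub, map_add, map_mul, smul_add,
        smul_sub, add_smul, sub_smul, smul_smul]
      abel
  have key : ∀ n, co t s n = (1, 0, 0) → A ^ n = 1 := fun n h => Subtype.ext (by
    rw [Matrix.SpecialLinearGroup.coe_pow, ← hM, hpow, h]; simp)
  exact (co_cases t s).imp (key 13) (Or.imp (key 8) (key 6))

/-- An element of order 13. -/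
def A13 : Matrix.SpecialLinearGroup (Fin 3) (ZMod 3) := ⟨!![0, 0, 1; 1, 0, 1; 0, 1, 0], by decide⟩

/-- An element of order 8. -/
def A8 : Matrix.SpecialLinearGroup (Fin 3) (ZMod 3) := ⟨!![0, 1, 0; 1, 1, 0; 0, 0, 2], by decide⟩

/-- An element of order 6. -/
def A6 : Matrix.SpecialLinearGroup (Fin 3) (ZMod 3) := ⟨!![2, 1, 0; 0, 2, 0; 0, 0, 1], by decide⟩

theorem orders_A : orderOf A13 = 13 ∧ orderOf A8 = 8 ∧ orderOf A6 = 6 := by
  refine ⟨(orderOf_eq_iff (by norm_num)).2 ⟨?_, ?_⟩, (orderOf_eq_iff (by norm_num)).2 ⟨?_, ?_⟩,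
    (orderOf_eq_iff (by norm_num)).2 ⟨?_, ?_⟩⟩ <;> decide +kernel

/-- There is a finite solvable group with exactly the same set of element orders as the simple group PSL(3,3). -/
theorem result {F : Type*} [Field F] [Fintype F] (hF : Fintype.card F = 3) :
    ∃ (H : Type) (_ : Group H) (_ : Fintype H), Group.IsSolvable H ∧
      Set.range (orderOf : H → ℕ) = Set.range (orderOf : Matrix.ProjectiveSpecialLinearGroup (Fin 3) F → ℕ) := by
  classical
  open CfsgLib.Spectrum.O48 in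
  refine ⟨W, inferInstance, Fintype.ofFinite W, isSolvable_W, ?_⟩
  rw [CfsgLib.Spectrum.O48.range_orderOf_W]
  haveI : Fact (Nat.Prime 3) := ⟨Nat.prime_three⟩
  haveI : CharP F 3 := charP_of_card_eq_prime hF
  let φ : ZMod 3 →+* F := ZMod.castHom dvd_rfl F
  have hφ : Function.Surjective φ :=
    ((Fintype.bijective_iff_injective_and_card φ).2 ⟨φ.injective, by rw [ZMod.card, hF]⟩).2
  have hps : ∀ (A : Matrix.SpecialLinearGroup (Fin 3) F),
      orderOf (CfsgLib.KnownSimple.pslMk A) = orderOf A := by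
    intro A
    refine orderOf_eq_orderOf_iff.2 fun n => ?_
    rw [CfsgLib.KnownSimple.pslMk_pow_eq_one_iff]
    constructor
    · rintro ⟨c, hc⟩
      have hd := congrArg Matrix.det hc
      rw [← Matrix.SpecialLinearGroup.coe_pow, (A ^ n).prop, Matrix.det_smul, Matrix.det_one, mul_one,
        Fintype.card_fin, ← hF, FiniteField.pow_card] at hd
      apply Subtype.ext
      rw [Matrix.SpecialLinearGroup.coe_pow, hc, ← hd, one_smul]
      rfl
    · intro h
      exact ⟨1, by rw [← Matrix.SpecialLinearGroup.coe_pow, h, one_smul]; rfl⟩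
  have hinj : Function.Injective (Matrix.SpecialLinearGroup.map (n := Fin 3) φ) := fun A B h =>
    Subtype.ext (Matrix.map_injective φ.injective (congrArg Subtype.val h))
  have wit : ∀ (B : Matrix.SpecialLinearGroup (Fin 3) (ZMod 3)) (d : ℕ), d ∣ orderOf B →
      d ∈ Set.range (orderOf : Matrix.ProjectiveSpecialLinearGroup (Fin 3) F → ℕ) := by
    intro B d hd
    refine ⟨CfsgLib.KnownSimple.pslMk (Matrix.SpecialLinearGroup.map φ B) ^ (orderOf B / d), ?_⟩
    have ho : orderOf (CfsgLib.KnownSimple.pslMk (Matrix.SpecialLinearGroup.map φ B)) = orderOf B := by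
      rw [hps, orderOf_injective _ hinj]
    conv_lhs => rw [← ho]
    rw [orderOf_pow_orderOf_div (by rw [ho]; exact (orderOf_pos B).ne') (by rw [ho]; exact hd)]
  obtain ⟨o13, o8, o6⟩ := orders_A
  ext d
  constructor
  · intro hd
    simp only [Set.mem_insert_iff, Set.mem_singleton_iff] at hd
    rcases hd with rfl | rfl | rfl | rfl | rfl | rfl | rfl
    · exact wit A8 1 (one_dvd _)
    · exact wit A8 2 (by rw [o8]; norm_num)
    · exact wit A6 3 (by rw [o6]; norm_num)
    · exact wit A8 4 (by rw [o8]; norm_num)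
    · exact wit A6 6 (by rw [o6])
    · exact wit A8 8 (by rw [o8])
    · exact wit A13 13 (by rw [o13])
  · rintro ⟨x, rfl⟩
    obtain ⟨A, rfl⟩ : ∃ A, CfsgLib.KnownSimple.pslMk A = x := QuotientGroup.mk'_surjective _ x
    rw [hps]
    have key : ∀ n ∈ [13, 8, 6], ∀ d < 14, d ∣ n → d ∈ [1, 2, 3, 4, 6, 8, 13] := by decide
    have fin : ∀ n ∈ [13, 8, 6], A ^ n = 1 → orderOf A ∈ [1, 2, 3, 4, 6, 8, 13] := fun n hn h => by
      have hd := orderOf_dvd_of_pow_eq_one h
      have h14 : n < 14 ∧ 0 < n := by simp at hn; omega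
      exact key n hn _ (lt_of_le_of_lt (Nat.le_of_dvd h14.2 hd) h14.1) hd
    have := (sl3_pow_cases φ hφ A)
    have hm : orderOf A ∈ [1, 2, 3, 4, 6, 8, 13] := by
      rcases this with h | h | h
      · exact fin 13 (by simp) h
      · exact fin 8 (by simp) h
      · exact fin 6 (by simp) h
    simpa using hm

end Cfsg.Agent.S3437
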