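import Cfsg.Statements.S3438
import Cfsg.Agent.Lib.Spectrum.U33Frobenius
import Cfsg.Agent.Lib.SmallGroups.U33Degrees.Model

set_option autoImplicit false
open Cfsg

namespace Cfsg.Agent.S3438

open Matrix CfsgLib.Techniques.UThreeLTwo
open CfsgLib.SmallGroups.U33Degrees (UnitB unitB_iff)

/-- Coefficients of `A ^ n` in `1, A, A ^ 2` when `A ^ 3 = t A ^ 2 - s A + 1`. -/
def co (t s : W9) : ℕ → W9 × W9 × W9
  | 0 => (1, 0, 0)
  | n + 1 =>
    let c := co t s n
    (c.2.2, c.1 - c.2.2 * s, c.2.1 + c.2.2 * t)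

theorem co_cases : ∀ t : W9, co t (W9.cube t) 7 = (1, 0, 0) ∨ co t (W9.cube t) 8 = (1, 0, 0) ∨
    co t (W9.cube t) 12 = (1, 0, 0) := by
  decide +kernel

theorem cayley3 {R : Type*} [CommRing R] (A : Matrix (Fin 3) (Fin 3) R) (hA : A.det = 1) :
    A * (A * A) = 1 - (A 0 0 * A 1 1 - A 0 1 * A 1 0 + (A 0 0 * A 2 2 - A 0 2 * A 2 0)
      + (A 1 1 * A 2 2 - A 1 2 * A 2 1)) • A + (A 0 0 + A 1 1 + A 2 2) • (A * A) := by
  rw [show (1 : Matrix (Fin 3) (Fin 3) R) = A.det • 1 by rw [hA, one_smul]]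
  ext i j
  fin_cases i <;> fin_cases j <;>
    simp [Matrix.mul_apply, Fin.sum_univ_three, Matrix.det_fin_three] <;> ring

theorem unit_pow_cases {M : Matrix (Fin 3) (Fin 3) W9} (hM : M ∈ unitW9) :
    M ^ 7 = 1 ∨ M ^ 8 = 1 ∨ M ^ 12 = 1 := by
  obtain ⟨hdet, hu⟩ := hM
  set t := M 0 0 + M 1 1 + M 2 2 with ht
  have hadj : M.map W9.cube = (Mᵀ).adjugate := by
    calc M.map W9.cube = ((Mᵀ).adjugate * Mᵀ) * M.map W9.cube := by
          rw [Matrix.adjugate_mul, Matrix.det_transpose, hdet, one_smul, Matrix.one_mul]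
      _ = (Mᵀ).adjugate := by rw [Matrix.mul_assoc, hu, Matrix.mul_one]
  have hs : M 0 0 * M 1 1 - M 0 1 * M 1 0 + (M 0 0 * M 2 2 - M 0 2 * M 2 0)
      + (M 1 1 * M 2 2 - M 1 2 * M 2 1) = W9.cube t := by
    have h0 := congrFun (congrFun hadj 0) 0
    have h1 := congrFun (congrFun hadj 1) 1
    have h2 := congrFun (congrFun hadj 2) 2
    simp [Matrix.adjugate_fin_three] at h0 h1 h2
    rw [ht, map_add, map_add, h0, h1, h2]
    ring
  have h3 := cayley3 M hdet
  rw [hs, ← ht] at h3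
  have hpow : ∀ n, M ^ n = (co t (W9.cube t) n).1 • (1 : Matrix (Fin 3) (Fin 3) W9) +
      (co t (W9.cube t) n).2.1 • M + (co t (W9.cube t) n).2.2 • (M * M) := by
    intro n
    induction n with
    | zero => simp [co]
    | succ n ih =>
      rw [pow_succ', ih]
      simp only [co, mul_add, Matrix.mul_smul, mul_one, h3, smul_add,
        smul_sub, add_smul, sub_smul, smul_smul]
      abel
  have key : ∀ n, co t (W9.cube t) n = (1, 0, 0) → M ^ n = 1 := fun n h => by
    rw [hpow, h]; simp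
  exact (co_cases t).imp (key 7) (Or.imp (key 8) (key 12))

/-- There is a finite solvable group with exactly the same set of element orders as the simple group PSU(3,3) (realised over the field with 9 elements). -/
theorem result {F : Type*} [Field F] [Fintype F] (hF : Fintype.card F = 9) :
    ∃ (H : Type) (_ : Group H) (_ : Fintype H), Group.IsSolvable H ∧ Set.range (orderOf : H → ℕ) = Set.range (orderOf : Cfsg.PSU 3 F 3 → ℕ) := by
  classical
  refine ⟨CfsgLib.Spectrum.U33Frob.W, inferInstance, Fintype.ofFinite _,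
    CfsgLib.Spectrum.U33Frob.isSolvable_W, ?_⟩
  rw [CfsgLib.Spectrum.U33Frob.range_orderOf_W]
  obtain ⟨φ, E, hE, hcube, hinj, hE1, hEm, hrange⟩ := CfsgLib.SmallGroups.U33Degrees.exists_coord hF
  have hF' : Fintype.card F = 3 ^ 2 := hF
  have hbot : Subgroup.center (SU 3 F 3) = ⊥ := Subgroup.card_eq_one.1 (by
    rw [CfsgLib.Classical.card_center_su (q := 3) hF' (by norm_num : 2 ≤ 3)]; norm_num)
  let π : SU 3 F 3 →* Cfsg.PSU 3 F 3 := QuotientGroup.mk' _
  have hπ : Function.Injective π := (injective_iff_map_eq_one _).2 fun g hg => by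
    have : g ∈ Subgroup.center (SU 3 F 3) := (QuotientGroup.eq_one_iff _).1 hg
    rwa [hbot, Subgroup.mem_bot] at this
  have hEpow : ∀ g n, E (g ^ n) = E g ^ n := by
    intro g n
    induction n with
    | zero => simp [hE1]
    | succ n ih => rw [pow_succ, pow_succ, hEm, ih]
  have wit : ∀ (c n : ℕ), 0 < n → UnitB (dec c) = true →
      (dec c ^ n = 1 ∧ ∀ k < n, 0 < k → dec c ^ k ≠ 1) → ∀ e, e ∣ n →
      e ∈ Set.range (orderOf : Cfsg.PSU 3 F 3 → ℕ) := by
    intro c n hn hu hp e he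
    obtain ⟨g, hg⟩ := (hrange _).mpr ((unitB_iff _).mp hu)
    have ho : orderOf (π g) = n := by
      rw [orderOf_injective π hπ]
      refine (orderOf_eq_iff hn).2 ⟨hinj ?_, fun k hk hk0 hk1 => hp.2 k hk hk0 ?_⟩
      · rw [hEpow, hg, hp.1, hE1]
      · rw [← hg, ← hEpow, hk1, hE1]
    refine ⟨π g ^ (n / e), ?_⟩
    conv_lhs => rw [← ho]
    rw [orderOf_pow_orderOf_div (by omega) (by rw [ho]; exact he)]
  have w7 := wit 971469 7 (by norm_num) (by decide +kernel) (by decide +kernel)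
  have w8 := wit 551367 8 (by norm_num) (by decide +kernel) (by decide +kernel)
  have w12 := wit 977949 12 (by norm_num) (by decide +kernel) (by decide +kernel)
  ext d
  constructor
  · intro hd
    simp only [Set.mem_insert_iff, Set.mem_singleton_iff] at hd
    rcases hd with rfl | rfl | rfl | rfl | rfl | rfl | rfl | rfl
    · exact w8 1 (by norm_num)
    · exact w8 2 (by norm_num)
    · exact w12 3 (by norm_num)
    · exact w8 4 (by norm_num)
    · exact w12 6 (by norm_num)
    · exact w7 7 (by norm_num)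
    · exact w8 8 (by norm_num)
    · exact w12 12 (by norm_num)
  · rintro ⟨x, rfl⟩
    obtain ⟨g, rfl⟩ : ∃ g, π g = x := QuotientGroup.mk'_surjective _ x
    rw [orderOf_injective π hπ]
    have hX := (hrange (E g)).mp ⟨g, rfl⟩
    have key : ∀ n ∈ [7, 8, 12], ∀ d < 13, d ∣ n → d ∈ [1, 2, 3, 4, 6, 7, 8, 12] := by decide
    have fin : ∀ n ∈ [7, 8, 12], E g ^ n = 1 → orderOf g ∈ [1, 2, 3, 4, 6, 7, 8, 12] := fun n hn h => by
      have hd := orderOf_dvd_of_pow_eq_one (hinj ((hEpow g n).trans (h.trans hE1.symm)))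
      have h14 : n < 13 ∧ 0 < n := by simp at hn; omega
      exact key n hn _ (lt_of_le_of_lt (Nat.le_of_dvd h14.2 hd) h14.1) hd
    have hm : orderOf g ∈ [1, 2, 3, 4, 6, 7, 8, 12] := by
      rcases unit_pow_cases hX with h | h | h
      · exact fin 7 (by simp) h
      · exact fin 8 (by simp) h
      · exact fin 12 (by simp) h
    simpa using hm

end Cfsg.Agent.S3438
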