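import Cfsg.Statements.S3448
import Cfsg.Agent.Lib.Spectrum.A5

set_option autoImplicit false
open Cfsg

namespace Cfsg.Agent.S3448

/-- The set of element orders of the direct product of two copies of the alternating group of degree 5 is {1, 2, 3, 5, 6, 10, 15}. (It is shared by the direct product of two Frobenius groups of orders 50 and 75, so this direct product is not determined by its element orders.) -/
theorem result : Set.range (orderOf : alternatingGroup (Fin 5) × alternatingGroup (Fin 5) → ℕ) = {1, 2, 3, 5, 6, 10, 15} := by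
  have h : Set.range (orderOf : alternatingGroup (Fin 5) → ℕ) = {1, 2, 3, 5} := CfsgLib.Spectrum.orders_A5
  ext n
  simp only [Set.mem_range, Set.mem_insert_iff, Set.mem_singleton_iff, Prod.exists, Prod.orderOf_mk]
  constructor
  · rintro ⟨a, b, rfl⟩
    have ha : orderOf a ∈ ({1, 2, 3, 5} : Set ℕ) := h ▸ Set.mem_range_self a
    have hb : orderOf b ∈ ({1, 2, 3, 5} : Set ℕ) := h ▸ Set.mem_range_self b
    simp only [Set.mem_insert_iff, Set.mem_singleton_iff] at ha hb
    rcases ha with ha | ha | ha | ha <;> rcases hb with hb | hb | hb | hb <;>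
      simp [ha, hb, Nat.lcm]
  · intro hn
    have key : ∀ x ∈ ({1, 2, 3, 5} : Set ℕ), ∀ y ∈ ({1, 2, 3, 5} : Set ℕ),
        ∃ a b : alternatingGroup (Fin 5), (orderOf a).lcm (orderOf b) = x.lcm y := by
      intro x hx y hy
      obtain ⟨a, rfl⟩ := h.symm ▸ hx
      obtain ⟨b, rfl⟩ := h.symm ▸ hy
      exact ⟨a, b, rfl⟩
    rcases hn with rfl | rfl | rfl | rfl | rfl | rfl | rfl
    · exact key 1 (by simp) 1 (by simp)
    · exact key 1 (by simp) 2 (by simp)
    · exact key 1 (by simp) 3 (by simp)
    · exact key 1 (by simp) 5 (by simp)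
    · exact key 2 (by simp) 3 (by simp)
    · exact key 2 (by simp) 5 (by simp)
    · exact key 3 (by simp) 5 (by simp)

end Cfsg.Agent.S3448
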