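import Cfsg.Statements.S3449
import Cfsg.Agent.Lib.Spectrum.A5

set_option autoImplicit false
open Cfsg

namespace Cfsg.Agent.S3449

/-- The direct product of three copies of the alternating group of degree 5 has exactly the same set of element orders as the cyclic group of order 30, namely the divisors of 30; in particular a direct power of a non-abelian simple group need not be determined by its element orders. -/
theorem result : Set.range (orderOf : alternatingGroup (Fin 5) × alternatingGroup (Fin 5) × alternatingGroup (Fin 5) → ℕ) =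
      Set.range (orderOf : Multiplicative (ZMod 30) → ℕ) := by
  ext n
  simp only [Set.mem_range, Prod.exists, Prod.orderOf_mk]
  have hc : IsAddCyclic (ZMod 30) := inferInstance
  have hR : ∀ d : ℕ, (∃ g : Multiplicative (ZMod 30), orderOf g = d) ↔ d ∣ 30 := by
    intro d
    constructor
    · rintro ⟨g, rfl⟩
      simpa using orderOf_dvd_card (x := g)
    · intro hd
      refine ⟨Multiplicative.ofAdd ((30 / d : ℕ) : ZMod 30), ?_⟩
      rw [orderOf_ofAdd_eq_addOrderOf, ZMod.addOrderOf_coe _ (by norm_num)]
      have : d ∈ Nat.divisors 30 := Nat.mem_divisors.2 ⟨hd, by norm_num⟩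
      revert this
      have : ∀ d ∈ Nat.divisors 30, 30 / Nat.gcd 30 (30 / d) = d := by decide
      exact this d
  rw [hR]
  have h := CfsgLib.Spectrum.orders_A5
  constructor
  · rintro ⟨a, b, c, rfl⟩
    have hA : ∀ a : alternatingGroup (Fin 5), orderOf a ∣ 30 := by
      intro a
      have ha : orderOf a ∈ ({1, 2, 3, 5} : Set ℕ) := h ▸ Set.mem_range_self a
      simp only [Set.mem_insert_iff, Set.mem_singleton_iff] at ha
      rcases ha with ha | ha | ha | ha <;> rw [ha] <;> norm_num
    exact Nat.lcm_dvd (hA a) (Nat.lcm_dvd (hA b) (hA c))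
  · intro hd
    have key : ∀ x ∈ ({1, 2, 3, 5} : Set ℕ), ∀ y ∈ ({1, 2, 3, 5} : Set ℕ), ∀ z ∈ ({1, 2, 3, 5} : Set ℕ),
        ∃ a b c : alternatingGroup (Fin 5),
          (orderOf a).lcm ((orderOf b).lcm (orderOf c)) = x.lcm (y.lcm z) := by
      intro x hx y hy z hz
      obtain ⟨a, rfl⟩ := h.symm ▸ hx
      obtain ⟨b, rfl⟩ := h.symm ▸ hy
      obtain ⟨c, rfl⟩ := h.symm ▸ hz
      exact ⟨a, b, c, rfl⟩
    have hm : n ∈ Nat.divisors 30 := Nat.mem_divisors.2 ⟨hd, by norm_num⟩
    have e : Nat.divisors 30 = {1, 2, 3, 5, 6, 10, 15, 30} := by decide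
    rw [e] at hm
    simp only [Finset.mem_insert, Finset.mem_singleton] at hm
    rcases hm with rfl | rfl | rfl | rfl | rfl | rfl | rfl | rfl
    · exact key 1 (by simp) 1 (by simp) 1 (by simp)
    · exact key 1 (by simp) 1 (by simp) 2 (by simp)
    · exact key 1 (by simp) 1 (by simp) 3 (by simp)
    · exact key 1 (by simp) 1 (by simp) 5 (by simp)
    · exact key 1 (by simp) 2 (by simp) 3 (by simp)
    · exact key 1 (by simp) 2 (by simp) 5 (by simp)
    · exact key 1 (by simp) 3 (by simp) 5 (by simp)
    · exact key 2 (by simp) 3 (by simp) 5 (by simp)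

end Cfsg.Agent.S3449
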