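import Cfsg.Statements.S3452
import Cfsg.Agent.Lib.Spectrum.PGLWitness
import Cfsg.Agent.Lib.Spectrum.Frob40
import Cfsg.Agent.Lib.Spectrum.Unbounded
import Cfsg.Agent.Lib.Solvable.BurnsideHall

set_option autoImplicit false
open Cfsg

namespace Cfsg.Agent.S3452

/-- For F a finite field whose number of elements is a prime or equals 9, the group PGL(2,F) = GL(2,F)/Z(GL(2,F)) is not determined by its set of element orders: for every bound N there is a finite group of order greater than N with exactly the same set of element orders as PGL(2,F). -/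
theorem result {F : Type*} [Field F] [Fintype F] (hF : (Fintype.card F).Prime ∨ Fintype.card F = 9) (N : ℕ) :
    ∃ (H : Type) (_ : Group H) (_ : Fintype H), N < Fintype.card H ∧
      Set.range (orderOf : H → ℕ) = Set.range (orderOf : Matrix.GeneralLinearGroup (Fin 2) F ⧸ Subgroup.center (Matrix.GeneralLinearGroup (Fin 2) F) → ℕ) := by
  classical
  set G := Matrix.GeneralLinearGroup (Fin 2) F ⧸ Subgroup.center (Matrix.GeneralLinearGroup (Fin 2) F)
  rcases hF with hp | h9
  · by_cases h5 : 5 ≤ Fintype.card F
    · exact CfsgLib.Spectrum.exists_large_orders_pgl2_prime hp h5 N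
    · have hq : Fintype.card F = 2 ∨ Fintype.card F = 3 := by
        rcases Nat.lt_or_ge (Fintype.card F) 4 with h | h
        · have := hp.two_le; omega
        · exact absurd (show Fintype.card F = 4 by omega) (fun e => by rw [e] at hp; norm_num at hp)
      haveI := Fact.mk hp
      haveI : CharP F (Fintype.card F) := charP_of_card_eq_prime rfl
      have hdvd : Nat.card G ∣ 48 := by
        refine (Subgroup.card_quotient_dvd_card _).trans ?_
        rw [Matrix.card_GL_field]
        rcases hq with h | h <;> rw [h] <;> decide
      have hsolG : Group.IsSolvable G := by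
        refine CfsgLib.Solvable.isSolvable_of_primeFactors_card_le_two ?_
        refine le_trans (Finset.card_le_card (Nat.primeFactors_mono hdvd (by norm_num))) ?_
        rw [show (48 : ℕ).primeFactors = {2, 3} by decide +kernel]
        simp
      obtain ⟨x, hx⟩ : ∃ x : G, x ≠ 1 := by
        let T : Matrix.GeneralLinearGroup (Fin 2) F :=
          ⟨!![1, 1; 0, 1], !![1, -1; 0, 1], by ext i j; fin_cases i <;> fin_cases j <;> simp [Matrix.mul_apply],
            by ext i j; fin_cases i <;> fin_cases j <;> simp [Matrix.mul_apply]⟩
        let U : Matrix.GeneralLinearGroup (Fin 2) F :=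
          ⟨!![1, 0; 1, 1], !![1, 0; -1, 1], by ext i j; fin_cases i <;> fin_cases j <;> simp [Matrix.mul_apply],
            by ext i j; fin_cases i <;> fin_cases j <;> simp [Matrix.mul_apply]⟩
        refine ⟨(T : G), fun e => ?_⟩
        have hc := Subgroup.mem_center_iff.1 ((QuotientGroup.eq_one_iff T).1 e) U
        have := congrArg (fun A : Matrix.GeneralLinearGroup (Fin 2) F => (A : Matrix (Fin 2) (Fin 2) F) 0 0) hc
        simp [T, U, Matrix.mul_apply] at this
      exact CfsgLib.Spectrum.exists_isospectral_large_of_solvable (⊤ : Subgroup G)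
        (fun e => hx (by simpa [e] using Subgroup.mem_top x))
        (by haveI := hsolG; infer_instance) N
  · haveI : Fact (Nat.Prime 3) := ⟨Nat.prime_three⟩
    have h9' : Fintype.card F = 3 ^ 2 := h9.trans (by norm_num)
    haveI : CharP F 3 := charP_of_card_eq_prime_pow h9'
    have h2 : (2 : F) ≠ 0 := by
      intro e
      have := (CharP.cast_eq_zero_iff F 3 2).1 (by exact_mod_cast e)
      omega
    obtain ⟨H, i1, i2, hlt, hr⟩ := CfsgLib.Spectrum.Frob40.exists_large_orders N
    refine ⟨H, i1, i2, hlt, ?_⟩
    rw [hr, CfsgLib.Spectrum.range_orderOf_pgl2 h2 (p := 3) (k := 2) h9', h9]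

end Cfsg.Agent.S3452
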