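import Cfsg.Statements.S3466
import Cfsg.Agent.Lib.Spectrum.SpFourTwins.Tensor
import Cfsg.Agent.Lib.Spectrum.Unbounded
import Cfsg.Agent.Lib.Spectrum.Sp43Solvable
import Cfsg.Agent.Lib.Spectrum.PSp43

set_option autoImplicit false
open Cfsg

namespace Cfsg.Agent.S3466

/-- Let F be a finite field with q ≥ 3 elements such that q is not of the form 3^(2t+1) with t ≥ 1. Then PSp(4,F) is not determined by its set of element orders, not even up to finitely many groups: for every bound N there is a finite group of order greater than N with exactly the same set of element orders as PSp(4,F). -/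
theorem result {F : Type*} [Field F] [Fintype F] (h3 : 3 ≤ Fintype.card F) (hq : ∀ t : ℕ, 1 ≤ t → Fintype.card F ≠ 3 ^ (2 * t + 1)) (N : ℕ) :
    ∃ (H : Type) (_ : Group H) (_ : Fintype H), N < Fintype.card H ∧ Set.range (orderOf : H → ℕ) = Set.range (orderOf : Cfsg.PSp 2 F → ℕ) := by
  classical
  obtain ⟨p, hp'⟩ := CharP.exists F
  haveI := hp'
  obtain ⟨n, hp, hcard⟩ := FiniteField.card F p
  haveI := Fact.mk hp
  set e : ℕ := (n : ℕ) with he
  have he0 : e ≠ 0 := n.2.ne'
  have hB : ∀ b : Cfsg.PSp 2 F, CfsgLib.SpFourTwins.Adm p (p ^ e) (orderOf b) := fun b =>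
    hcard ▸ CfsgLib.SpFourTwins.adm_orderOf hcard b
  have hB' : ∀ m, CfsgLib.SpFourTwins.Adm p (p ^ e) m → ∃ b : Cfsg.PSp 2 F, m ∣ orderOf b := fun m hm =>
    CfsgLib.SpFourTwins.exists_of_adm hcard (hcard.symm ▸ hm)
  have hK : Nat.card (GaloisField p (e * 2)) = (p ^ e) ^ 2 := by
    rw [GaloisField.card p (e * 2) (by omega), pow_mul]
  by_cases hp3 : p = 3
  · rcases Nat.even_or_odd e with heven | ⟨t, ht⟩
    · exact CfsgLib.SpFourTwins.tens_twin (K := GaloisField p (e * 2)) he0 heven hp3 hK hB hB' N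
    · rcases Nat.eq_zero_or_pos t with h0 | h0
      · have hF : Fintype.card F = 3 := by rw [hcard, hp3, ht, h0]; norm_num
        have hW : Set.range (orderOf : CfsgLib.Spectrum.Sp43Solvable.W → ℕ) = Set.range (orderOf : Cfsg.PSp 2 F → ℕ) :=
          CfsgLib.Spectrum.Sp43Solvable.range_orderOf_W.trans (CfsgLib.Spectrum.PSp43.range_orderOf hF).symm
        haveI := CfsgLib.Spectrum.Sp43Solvable.isSolvable_W
        have hne : (⊤ : Subgroup CfsgLib.Spectrum.Sp43Solvable.W) ≠ ⊥ := by
          intro h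
          obtain ⟨b, hb⟩ := hB' 2 (Or.inr (Or.inl (Dvd.dvd.mul_left
            (by rw [hp3, ht, h0]; norm_num) p)))
          obtain ⟨w, hw⟩ : orderOf b ∈ Set.range (orderOf : CfsgLib.Spectrum.Sp43Solvable.W → ℕ) := hW ▸ ⟨b, rfl⟩
          have : w = 1 := by
            have hm := Subgroup.mem_top w
            rwa [h, Subgroup.mem_bot] at hm
          rw [this, orderOf_one] at hw
          rw [← hw] at hb
          norm_num at hb
        obtain ⟨H, i1, i2, h1, h2⟩ := CfsgLib.Spectrum.exists_isospectral_large_of_solvable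
          (G := CfsgLib.Spectrum.Sp43Solvable.W) (V := (⊤ : Subgroup _)) hne inferInstance N
        exact ⟨H, i1, i2, h1, h2.trans hW⟩
      · exact absurd (by rw [hcard, hp3, ht]) (hq t h0)
  · exact CfsgLib.SpFourTwins.herm_twin (K := GaloisField p (e * 2)) he0 hp3 hK hB hB' N

end Cfsg.Agent.S3466
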