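import Cfsg.Statements.S3491
import Cfsg.Agent.Lib.Spectrum.ASL24
import Cfsg.Agent.Lib.Spectrum.Unbounded

set_option autoImplicit false
open Cfsg

namespace Cfsg.Agent.S3491

/-- The alternating group of degree 6 is not determined by its set of element orders, not even up to finitely many groups: for every bound N there is a finite group of order greater than N with exactly the same set of element orders as the alternating group of degree 6. -/
theorem result (N : ℕ) : ∃ (H : Type) (_ : Group H) (_ : Fintype H), N < Fintype.card H ∧ Set.range (orderOf : H → ℕ) = Set.range (orderOf : alternatingGroup (Fin 6) → ℕ) := by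
  classical
  let F4 := GaloisField 2 2
  haveI : Fintype F4 := Fintype.ofFinite F4
  have h4 : Fintype.card F4 = 4 := by
    rw [← Nat.card_eq_fintype_card, GaloisField.card 2 2 (by norm_num)]; norm_num
  let A := CfsgLib.Spectrum.affineBlockGroup F4
  let ψ : A →* Matrix (Fin 2) (Fin 2) F4 :=
    { toFun := fun g => ((g : Matrix.SpecialLinearGroup (Fin 3) F4) :
        Matrix (Fin 3) (Fin 3) F4).submatrix Fin.castSucc Fin.castSucc
      map_one' := by ext i j; simp [Matrix.one_apply]
      map_mul' := fun g h => by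
        obtain ⟨g0, g1, g2⟩ := CfsgLib.Spectrum.mem_affineBlockGroup.1 g.2
        obtain ⟨h0, h1, h2⟩ := CfsgLib.Spectrum.mem_affineBlockGroup.1 h.2
        ext i j
        fin_cases i <;> fin_cases j <;>
          simp [Matrix.mul_apply, Fin.sum_univ_three, h0, h1] }
  have hmem : ∀ g : A, g ∈ ψ.ker ↔
      ∀ i j : Fin 2, ((g : Matrix.SpecialLinearGroup (Fin 3) F4) :
        Matrix (Fin 3) (Fin 3) F4) i.castSucc j.castSucc = (1 : Matrix (Fin 2) (Fin 2) F4) i j := by
    intro g
    exact ⟨fun h i j => congrFun (congrFun h i) j, fun h => Matrix.ext h⟩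
  have hshape : ∀ g : A, g ∈ ψ.ker → ∀ h : A, h ∈ ψ.ker → g * h = h * g := by
    intro g hg h hh
    obtain ⟨g0, g1, g2⟩ := CfsgLib.Spectrum.mem_affineBlockGroup.1 g.2
    obtain ⟨h0, h1, h2⟩ := CfsgLib.Spectrum.mem_affineBlockGroup.1 h.2
    have a00 := (hmem g).1 hg 0 0
    have a01 := (hmem g).1 hg 0 1
    have a10 := (hmem g).1 hg 1 0
    have a11 := (hmem g).1 hg 1 1
    have b00 := (hmem h).1 hh 0 0
    have b01 := (hmem h).1 hh 0 1
    have b10 := (hmem h).1 hh 1 0
    have b11 := (hmem h).1 hh 1 1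
    simp at a00 a01 a10 a11 b00 b01 b10 b11
    apply Subtype.ext; apply Subtype.ext
    change (((g : Matrix.SpecialLinearGroup (Fin 3) F4) : Matrix (Fin 3) (Fin 3) F4) *
      ((h : Matrix.SpecialLinearGroup (Fin 3) F4) : Matrix (Fin 3) (Fin 3) F4)) = _ * _
    ext i j
    fin_cases i <;> fin_cases j <;>
      simp [Matrix.mul_apply, Fin.sum_univ_three, g0, g1, g2, h0, h1, h2, a00, a01, a10, a11,
        b00, b01, b10, b11, add_comm]
  have hexp : ∀ g : A, g ∈ ψ.ker → g ^ 2 = 1 := by
    intro g hg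
    obtain ⟨g0, g1, g2⟩ := CfsgLib.Spectrum.mem_affineBlockGroup.1 g.2
    have a00 := (hmem g).1 hg 0 0
    have a01 := (hmem g).1 hg 0 1
    have a10 := (hmem g).1 hg 1 0
    have a11 := (hmem g).1 hg 1 1
    simp at a00 a01 a10 a11
    apply Subtype.ext; apply Subtype.ext
    change ((g : Matrix.SpecialLinearGroup (Fin 3) F4) : Matrix (Fin 3) (Fin 3) F4) ^ 2 = 1
    ext i j
    fin_cases i <;> fin_cases j <;>
      simp [pow_two, Matrix.mul_apply, Fin.sum_univ_three, g0, g1, g2, a00, a01, a10, a11,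
        CharTwo.add_self_eq_zero]
  have hne : ψ.ker ≠ ⊥ := by
    intro hbot
    let t : A := ⟨⟨!![1, 0, 1; 0, 1, 0; 0, 0, 1], by simp [Matrix.det_fin_three]⟩,
      Subgroup.subset_closure ⟨rfl, rfl, rfl⟩⟩
    have : t ∈ ψ.ker := (hmem t).2 fun i j => by fin_cases i <;> fin_cases j <;> rfl
    rw [hbot, Subgroup.mem_bot] at this
    have h' := congrFun (congrFun (congrArg
      (fun x : A => ((x : Matrix.SpecialLinearGroup (Fin 3) F4) : Matrix (Fin 3) (Fin 3) F4)) this) 0) 2
    simp [t] at h'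
  obtain ⟨H, i1, i2, hN, hH⟩ := CfsgLib.Spectrum.exists_isospectral_large_of_elementary ψ.ker
    Nat.prime_two hne ⟨⟨fun a b => Subtype.ext (hshape a a.2 b b.2)⟩⟩
    (fun a => Subtype.ext (hexp a a.2)) N
  refine ⟨H, i1, i2, hN, ?_⟩
  rw [hH, CfsgLib.Spectrum.orders_A6]
  exact CfsgLib.Spectrum.affineBlock_orders h4

end Cfsg.Agent.S3491
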