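import Cfsg.Statements.S3493
import Cfsg.Agent.Lib.Recognition.CentralizerMaximal
import Cfsg.Agent.Lib.Classical22.CharSimple

set_option autoImplicit false
open Cfsg

namespace Cfsg.Agent.S3493

open MulAction

/-- Automorphisms of a power of a nonabelian simple group map factors into factors. -/
theorem aut_single {S : Type*} [Group S] [Finite S] [IsSimpleGroup S] (hS : ∃ a b : S, a * b ≠ b * a)
    {m : ℕ} (φ : (Fin m → S) ≃* (Fin m → S)) (i : Fin m) :
    ∃ j, ∀ s : S, ∃ u, φ (Pi.mulSingle i s) = Pi.mulSingle j u := by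
  classical
  obtain ⟨s₀, hs₀⟩ := exists_ne (1 : S)
  have hne : φ (Pi.mulSingle i s₀) ≠ 1 := by simpa using hs₀
  obtain ⟨j, hj⟩ := Function.ne_iff.1 hne
  refine ⟨j, ?_⟩
  have hn : ((MonoidHom.mulSingle (fun _ : Fin m => S) i).range.map φ.toMonoidHom).Normal :=
    Subgroup.Normal.map (CfsgLib.Recognition.SimplePower.normal_factor i) _ φ.surjective
  have hmem : ∀ t : S, ∃ u, φ (Pi.mulSingle i u) = Pi.mulSingle j t := by
    intro t
    obtain ⟨_, ⟨u, rfl⟩, hu⟩ := CfsgLib.Recognition.SimplePower.mulSingle_mem_of_normal hS hn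
      (x := φ (Pi.mulSingle i s₀)) ⟨_, ⟨s₀, rfl⟩, rfl⟩ hj t
    exact ⟨u, hu⟩
  choose g hg using hmem
  have hginj : Function.Injective g := fun a b h => by
    have := hg a; rw [h, hg b] at this
    exact (Pi.mulSingle_injective (M := fun _ : Fin m => S) j this).symm
  intro s
  obtain ⟨t, rfl⟩ := (Finite.injective_iff_surjective.1 hginj) s
  exact ⟨t, hg t⟩

theorem single_index_unique {S : Type*} [Group S] {m : ℕ} {i j : Fin m} {s u : S} (hs : s ≠ 1)
    (h : (Pi.mulSingle i s : Fin m → S) = Pi.mulSingle j u) : i = j := by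
  classical
  by_contra hne
  have := congrFun h i
  rw [Pi.mulSingle_eq_same, Pi.mulSingle_eq_of_ne hne] at this
  exact hs this

theorem power_decomp {G : Type*} [Group G] [Finite G] (N : Subgroup G) [N.Normal] (hN : N ≠ ⊥)
    (hmin : ∀ M : Subgroup G, M.Normal → M ≤ N → M = ⊥ ∨ M = N) (hnc : ¬ IsMulCommutative N) :
    ∃ (S : Type) (_ : Group S) (_ : Finite S) (_ : IsSimpleGroup S) (m : ℕ),
      (∃ a b : S, a * b ≠ b * a) ∧ 1 ≤ m ∧ Nonempty (N ≃* (Fin m → S)) := by
  classical
  have hchar : ∀ H : Subgroup N, H.Characteristic → H = ⊥ ∨ H = ⊤ := by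
    intro H hH
    haveI := hH
    rcases hmin (H.map N.subtype) inferInstance (Subgroup.map_subtype_le H) with h | h
    · exact Or.inl (Subgroup.map_injective N.subtype_injective (h.trans (Subgroup.map_bot _).symm))
    · refine Or.inr (Subgroup.map_injective N.subtype_injective (h.trans ?_))
      rw [← MonoidHom.range_eq_map, Subgroup.range_subtype]
  haveI : Nontrivial N := N.nontrivial_iff_ne_bot.mpr hN
  obtain ⟨S, _, _, m, hm, ⟨e⟩⟩ := CfsgLib.Classical22.charSimple_iff.1 hchar
  have hS : ∃ a b : S, a * b ≠ b * a := by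
    by_contra hab
    simp only [not_exists, not_not] at hab
    exact hnc ⟨⟨fun a b => e.injective (by rw [map_mul, map_mul]; funext i; exact hab _ _)⟩⟩
  haveI : Finite (Fin m → S) := Finite.of_equiv _ e.toEquiv
  have hfin : Finite S := Finite.of_injective
    (fun s : S => (Pi.mulSingle (⟨0, by omega⟩ : Fin m) s : Fin m → S))
    (Pi.mulSingle_injective (M := fun _ : Fin m => S) _)
  exact ⟨S, inferInstance, hfin, inferInstance, m, hS, hm, ⟨e⟩⟩

section

variable {G : Type*} [Group G] [Finite G] {Ω : Type*} [MulAction G Ω] [FaithfulSMul G Ω]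
  (α : Ω) (N : Subgroup G) [hNn : N.Normal]

/-- Point stabilizer of `β` inside that of `α`. -/
abbrev Stab (β : Ω) : Subgroup (stabilizer G α) := (stabilizer G β).subgroupOf (stabilizer G α)

variable {S : Type*} [Group S] {m : ℕ} (e : N ≃* (Fin m → S))

/-- The point attached to an element of the power. -/
def pt (x : Fin m → S) : Ω := ((e.symm x : N) : G) • α

/-- Conjugation seen in the power. -/
def act (g : G) : (Fin m → S) ≃* (Fin m → S) := e.symm.trans ((MulAut.conjNormal g).trans e)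

omit [Finite G] [FaithfulSMul G Ω] in
theorem smul_pt {g : G} (hg : g • α = α) (x : Fin m → S) : g • pt α N e x = pt α N e (act N e g x) := by
  have hg' : g⁻¹ • α = α := by rw [inv_smul_eq_iff, hg]
  simp [pt, act, MulAut.conjNormal_apply, mul_smul, hg']

omit [Finite G] in
theorem act_mul (g h : G) (x : Fin m → S) : act N e (g * h) x = act N e g (act N e h x) := by
  simp [act, map_mul, MulAut.mul_apply]

omit [Finite G] [FaithfulSMul G Ω] in
theorem pt_eq_iff (x y : Fin m → S) : pt α N e x = pt α N e y ↔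
    x⁻¹ * y ∈ (stabilizer N α).map e.toMonoidHom := by
  rw [show (stabilizer N α).map e.toMonoidHom = (stabilizer N α).comap e.symm.toMonoidHom from
    Subgroup.map_equiv_eq_comap_symm e _]
  rw [Subgroup.mem_comap, mem_stabilizer_iff, Subgroup.smul_def]
  simp only [pt, MulEquiv.coe_toMonoidHom, map_mul, map_inv, Subgroup.coe_mul, Subgroup.coe_inv,
    mul_smul, inv_smul_eq_iff]
  exact eq_comm

theorem transitive_factors [IsPretransitive N Ω] [Finite S] [IsSimpleGroup S] (hS : ∃ a b : S, a * b ≠ b * a)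
    (hN : ∀ M : Subgroup G, M.Normal → M ≤ N → M = ⊥ ∨ M = N) (i j : Fin m) :
    ∃ h ∈ stabilizer G α, ∀ s : S, ∃ u, act N e h (Pi.mulSingle i s) = Pi.mulSingle j u := by
  classical
  obtain ⟨s₀, hs₀⟩ := exists_ne (1 : S)
  let J : Set (Fin m) := {l | ∃ h ∈ stabilizer G α, ∀ s : S, ∃ u, act N e h (Pi.mulSingle i s) = Pi.mulSingle l u}
  let R : Subgroup (Fin m → S) :=
    { carrier := {x | ∀ l, l ∉ J → x l = 1}
      one_mem' := fun l _ => rfl
      mul_mem' := fun {x y} hx hy l hl => by simp [hx l hl, hy l hl]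
      inv_mem' := fun {x} hx l hl => by simp [hx l hl] }
  have hRN : ∀ n : N, ∀ x ∈ R, e n * x * (e n)⁻¹ ∈ R := fun n x hx l hl => by simp [hx l hl]
  have hmapJ : ∀ h ∈ stabilizer G α, ∀ l ∈ J, ∀ s : S, act N e h (Pi.mulSingle l s) ∈ R := by
    intro h hh l hl s
    obtain ⟨h₀, hh₀, hu₀⟩ := hl
    obtain ⟨l', hl'⟩ := aut_single hS (act N e h) l
    obtain ⟨u, hu⟩ := hl' s
    have hl'J : l' ∈ J := by
      refine ⟨h * h₀, (stabilizer G α).mul_mem hh hh₀, fun s => ?_⟩
      obtain ⟨u₀, e₀⟩ := hu₀ s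
      obtain ⟨u₁, e₁⟩ := hl' u₀
      exact ⟨u₁, by rw [act_mul, e₀, e₁]⟩
    intro c hc
    rw [hu, Pi.mulSingle_eq_of_ne (fun hcl : c = l' => hc (hcl ▸ hl'J))]
  have hRH : ∀ h ∈ stabilizer G α, ∀ x ∈ R, act N e h x ∈ R := by
    intro h hh x hx
    have : x ∈ R.comap (act N e h).toMonoidHom := by
      refine Subgroup.pi_mem_of_mulSingle_mem x fun l => ?_
      by_cases hl : l ∈ J
      · exact hmapJ h hh l hl _
      · rw [hx l hl, Pi.mulSingle_one]; exact Subgroup.one_mem _
    exact this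
  let R' : Subgroup G := (R.comap e.toMonoidHom).map N.subtype
  have hR' : R'.Normal := by
    refine ⟨?_⟩
    rintro _ ⟨⟨z, hzN⟩, hz, rfl⟩ g
    obtain ⟨n, hn⟩ := exists_smul_eq N α (g • α)
    rw [Subgroup.smul_def] at hn
    have hh : (n : G)⁻¹ * g ∈ stabilizer G α := by
      rw [mem_stabilizer_iff, mul_smul, ← hn, inv_smul_smul]
    have h1 : act N e ((n : G)⁻¹ * g) (e ⟨z, hzN⟩) ∈ R := hRH _ hh _ hz
    have h2 := hRN n _ h1
    refine ⟨_, show n * MulAut.conjNormal ((n : G)⁻¹ * g) ⟨z, hzN⟩ * n⁻¹ ∈ R.comap e.toMonoidHom by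
      rw [Subgroup.mem_comap]; simpa [act] using h2, ?_⟩
    simp [MulAut.conjNormal_apply, mul_assoc]
  have hiJ : i ∈ J := ⟨1, Subgroup.one_mem _, fun s => ⟨s, by simp [act]⟩⟩
  rcases hN R' hR' (Subgroup.map_subtype_le _) with h | h
  · exfalso
    have hm : ((e.symm (Pi.mulSingle i s₀) : N) : G) ∈ R' :=
      ⟨_, show e.symm (Pi.mulSingle i s₀) ∈ R.comap e.toMonoidHom by
        rw [Subgroup.mem_comap]
        intro l hl
        simp [show l ≠ i from fun e' => hl (e' ▸ hiJ)], rfl⟩
    rw [h, Subgroup.mem_bot, OneMemClass.coe_eq_one] at hm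
    exact hs₀ (by simpa using congrArg (fun z => e z i) hm)
  · by_contra hj
    have hm : ((e.symm (Pi.mulSingle j s₀) : N) : G) ∈ R' := h.symm ▸ (e.symm (Pi.mulSingle j s₀)).2
    obtain ⟨z, hz, hz'⟩ := hm
    obtain rfl : z = e.symm (Pi.mulSingle j s₀) := Subtype.ext hz'
    have := (show e (e.symm (Pi.mulSingle j s₀)) ∈ R from hz) j hj
    exact hs₀ (by simpa using this)

include e in
/-- No regular minimal normal subgroup is a proper power of a nonabelian simple group. -/
theorem regular_power_false [IsPretransitive N Ω] [Finite S] [IsSimpleGroup S] (hS : ∃ a b : S, a * b ≠ b * a)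
    (hN : ∀ M : Subgroup G, M.Normal → M ≤ N → M = ⊥ ∨ M = N) (hm : 2 ≤ m)
    (hsemi : ∀ (n : N) (ω : Ω), n • ω = ω → n = 1)
    (hco : ∀ β : Ω, β ≠ α → IsCoatom (Stab α β : Subgroup (stabilizer G α))) : False := by
  classical
  have hinj : ∀ x y, pt α N e x = pt α N e y → x = y := by
    intro x y h
    obtain ⟨z, hz, hz'⟩ := (pt_eq_iff α N e x y).1 h
    have hz1 : z = 1 := hsemi z α hz
    rw [hz1, map_one] at hz'
    exact inv_mul_eq_one.1 hz'.symm
  have hne : ∀ x : Fin m → S, x ≠ 1 → pt α N e x ≠ α := by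
    intro x hx h
    exact hx (hinj x 1 (by simpa [pt] using h))
  let X : (Fin m → S) → Subgroup (stabilizer G α) := fun x => Stab α (pt α N e x)
  have hmemX : ∀ (h : stabilizer G α) x, h ∈ X x ↔ act N e (h : G) x = x := by
    intro h x
    rw [Subgroup.mem_subgroupOf, mem_stabilizer_iff, smul_pt α N e h.2]
    exact ⟨fun e' => hinj _ _ e', fun e' => by rw [e']⟩
  have hpowX : ∀ x (r : ℕ), x ^ r ≠ 1 → X (x ^ r) = X x := by
    intro x r hr
    have hle : X x ≤ X (x ^ r) := fun h hh => by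
      rw [hmemX] at hh ⊢; rw [map_pow, hh]
    exact ((hco _ (hne x fun e' => hr (by rw [e', one_pow]))).le_iff.1 hle).resolve_left (hco _ (hne _ hr)).1
  -- elements in different coordinates of coprime prime orders
  have hcop : ∀ (i j : Fin m) (s u : S), i ≠ j → s ≠ 1 → u ≠ 1 → Nat.Coprime (orderOf s) (orderOf u) →
      X (Pi.mulSingle i s) = X (Pi.mulSingle j u) := by
    intro i j s u hij hs hu hc
    have hcomm : Commute (Pi.mulSingle i s : Fin m → S) (Pi.mulSingle j u) :=
      Pi.mulSingle_commute (f := fun _ : Fin m => S) hij s u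
    have h1 : (Pi.mulSingle i s * Pi.mulSingle j u : Fin m → S) ^ orderOf u = Pi.mulSingle i (s ^ orderOf u) := by
      rw [hcomm.mul_pow, ← Pi.mulSingle_pow, ← Pi.mulSingle_pow, pow_orderOf_eq_one, Pi.mulSingle_one, mul_one]
    have h2 : (Pi.mulSingle i s * Pi.mulSingle j u : Fin m → S) ^ orderOf s = Pi.mulSingle j (u ^ orderOf s) := by
      rw [hcomm.mul_pow, ← Pi.mulSingle_pow, ← Pi.mulSingle_pow, pow_orderOf_eq_one, Pi.mulSingle_one, one_mul]
    have hs' : s ^ orderOf u ≠ 1 := fun h => hs (orderOf_eq_one_iff.1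
      (Nat.Coprime.eq_one_of_dvd hc (orderOf_dvd_of_pow_eq_one h)))
    have hu' : u ^ orderOf s ≠ 1 := fun h => hu (orderOf_eq_one_iff.1
      (Nat.Coprime.eq_one_of_dvd hc.symm (orderOf_dvd_of_pow_eq_one h)))
    have e1 := hpowX (Pi.mulSingle i s * Pi.mulSingle j u) (orderOf u) (by rw [h1]; simpa using hs')
    have e2 := hpowX (Pi.mulSingle i s * Pi.mulSingle j u) (orderOf s) (by rw [h2]; simpa using hu')
    rw [h1, Pi.mulSingle_pow, hpowX _ _ (by rw [← Pi.mulSingle_pow]; simpa using hs')] at e1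
    rw [h2, Pi.mulSingle_pow, hpowX _ _ (by rw [← Pi.mulSingle_pow]; simpa using hu')] at e2
    exact e1.trans e2.symm
  have hns := CfsgLib.Recognition.SimplePower.not_isSolvable_of_simple hS
  obtain ⟨p, q, r, hp, hq, hr, hpq, hpr, hqr, hpd, hqd, hrd⟩ :=
    CfsgLib.Recognition.SimplePower.exists_three_primes hns
  haveI : Nontrivial (Fin m) := Fin.nontrivial_iff_two_le.2 hm
  -- every single element has the same stabilizer
  have hall : ∀ (i j : Fin m) (s u : S), s ≠ 1 → u ≠ 1 → X (Pi.mulSingle i s) = X (Pi.mulSingle j u) := by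
    have hred : ∀ (i : Fin m) (s : S), s ≠ 1 → ∃ (a : ℕ) (s' : S), a.Prime ∧ orderOf s' = a ∧
        X (Pi.mulSingle i s') = X (Pi.mulSingle i s) := by
      intro i s hs
      obtain ⟨a, ha, had⟩ := Nat.exists_prime_and_dvd (n := orderOf s) (fun h => hs (orderOf_eq_one_iff.1 h))
      have ho := orderOf_pow_orderOf_div (orderOf_pos s).ne' had
      have hne1 : s ^ (orderOf s / a) ≠ 1 := fun h => by
        rw [h, orderOf_one] at ho; exact ha.one_lt.ne ho
      refine ⟨a, _, ha, ho, ?_⟩
      rw [Pi.mulSingle_pow]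
      exact hpowX _ _ (by rw [← Pi.mulSingle_pow]; simpa using hne1)
    have hdiff : ∀ (i j : Fin m) (s u : S), i ≠ j → s ≠ 1 → u ≠ 1 → X (Pi.mulSingle i s) = X (Pi.mulSingle j u) := by
      intro i j s u hij hs hu
      obtain ⟨a, s', ha, hsa, e1⟩ := hred i s hs
      obtain ⟨b, u', hb, hub, e2⟩ := hred j u hu
      have hs'1 : s' ≠ 1 := fun h => by rw [h, orderOf_one] at hsa; exact ha.one_lt.ne hsa
      have hu'1 : u' ≠ 1 := fun h => by rw [h, orderOf_one] at hub; exact hb.one_lt.ne hub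
      rw [← e1, ← e2]
      by_cases hab : a = b
      · obtain ⟨c, hc, hcd, hca⟩ : ∃ c : ℕ, c.Prime ∧ c ∣ Nat.card S ∧ c ≠ a := by
          by_cases h : p = a
          · exact ⟨q, hq, hqd, fun h' => hpq (h.trans h'.symm)⟩
          · exact ⟨p, hp, hpd, h⟩
        obtain ⟨d, hd, hdd, hdc, hda⟩ : ∃ d : ℕ, d.Prime ∧ d ∣ Nat.card S ∧ d ≠ c ∧ d ≠ a := by
          by_cases h1 : p = a ∨ p = c
          · by_cases h2 : q = a ∨ q = c
            · exact ⟨r, hr, hrd, by omega, by omega⟩
            · exact ⟨q, hq, hqd, by omega, by omega⟩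
          · exact ⟨p, hp, hpd, by omega, by omega⟩
        haveI := Fact.mk hc; haveI := Fact.mk hd
        obtain ⟨y, hy⟩ := exists_prime_orderOf_dvd_card' c hcd
        obtain ⟨w, hw⟩ := exists_prime_orderOf_dvd_card' d hdd
        have hy1 : y ≠ 1 := fun h => by rw [h, orderOf_one] at hy; exact hc.one_lt.ne hy
        have hw1 : w ≠ 1 := fun h => by rw [h, orderOf_one] at hw; exact hd.one_lt.ne hw
        rw [hcop i j s' y hij hs'1 hy1 (by rw [hsa, hy]; exact (Nat.coprime_primes ha hc).2 hca.symm),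
          hcop j i y w hij.symm hy1 hw1 (by rw [hy, hw]; exact (Nat.coprime_primes hc hd).2 hdc.symm),
          hcop i j w u' hij hw1 hu'1 (by rw [hw, hub]; exact (Nat.coprime_primes hd hb).2 (hab ▸ hda))]
      · exact hcop i j s' u' hij hs'1 hu'1 (by rw [hsa, hub]; exact (Nat.coprime_primes ha hb).2 hab)
    intro i j s u hs hu
    by_cases hij : i = j
    · obtain ⟨l, hl⟩ := exists_ne i
      exact (hdiff i l s s hl.symm hs hs).trans (hdiff l j s u (hij ▸ hl) hs hu)
    · exact hdiff i j s u hij hs hu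
  obtain ⟨s₀, hs₀⟩ := exists_ne (1 : S)
  obtain ⟨i₀, -⟩ := exists_pair_ne (Fin m)
  have hbot : X (Pi.mulSingle i₀ s₀) = ⊥ := by
    rw [eq_bot_iff]
    intro h hh
    have hfix : ∀ x : Fin m → S, act N e (h : G) x = x := by
      intro x
      have : x ∈ ((act N e (h : G)).toMonoidHom.eqLocus (MonoidHom.id _)) := by
        refine Subgroup.pi_mem_of_mulSingle_mem x fun l => ?_
        by_cases hx : x l = 1
        · rw [hx, Pi.mulSingle_one]; exact Subgroup.one_mem _
        · exact (hmemX h _).1 (hall i₀ l s₀ (x l) hs₀ hx ▸ hh)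
      exact this
    refine Subgroup.mem_bot.2 (Subtype.ext (eq_of_smul_eq_smul (α := Ω) fun ω => ?_))
    obtain ⟨n, hn⟩ := exists_smul_eq N α ω
    have hω : ω = pt α N e (e n) := by simp [pt, ← hn, Subgroup.smul_def]
    rw [hω, smul_pt α N e h.2, hfix, Subgroup.coe_one, one_smul]
  have hcoat : IsCoatom (⊥ : Subgroup (stabilizer G α)) := hbot ▸ hco _ (hne _ (by simpa using hs₀))
  obtain ⟨g, hg⟩ := Subgroup.ne_bot_iff_exists_ne_one.1 (fun h : (⊤ : Subgroup (stabilizer G α)) = ⊥ => hcoat.1 h.symm)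
  obtain ⟨c, hc, hcd⟩ := Nat.exists_prime_and_dvd (n := orderOf (g : stabilizer G α))
    (fun h => hg (Subtype.ext (orderOf_eq_one_iff.1 h)))
  have hyo : orderOf ((g : stabilizer G α) ^ (orderOf (g : stabilizer G α) / c)) = c :=
    orderOf_pow_orderOf_div (orderOf_pos _).ne' hcd
  obtain ⟨h, hh⟩ : ∃ h : stabilizer G α, orderOf h = c := ⟨_, hyo⟩
  have hgen : ∀ k : stabilizer G α, k ≠ 1 → Subgroup.zpowers k = ⊤ := by
    intro k hk
    refine hcoat.2 _ (bot_lt_iff_ne_bot.2 fun e' => hk ?_)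
    exact Subgroup.mem_bot.1 (e' ▸ Subgroup.mem_zpowers k)
  -- a nontrivial element of the stabilizer moves every factor
  have hmove : ∀ k : stabilizer G α, k ≠ 1 → ∀ i : Fin m, ∀ s : S, s ≠ 1 → act N e (k : G) (Pi.mulSingle i s) i = 1 := by
    intro k hk i s hs
    obtain ⟨j, hj⟩ := aut_single hS (act N e (k : G)) i
    obtain ⟨u, hu⟩ := hj s
    rw [hu]
    refine Pi.mulSingle_eq_of_ne (M := fun _ : Fin m => S) (fun hij => ?_) u
    subst hij
    obtain ⟨l, hl⟩ := exists_ne i
    obtain ⟨k', hk', hkl⟩ := transitive_factors α N e hS hN i l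
    have hstab : ∀ n : ℕ, ∀ s : S, ∃ u, act N e ((k : G) ^ n) (Pi.mulSingle i s) = Pi.mulSingle i u := by
      intro n
      induction n with
      | zero => exact fun s => ⟨s, by simp [act]⟩
      | succ n ih =>
        intro s
        obtain ⟨u, hu⟩ := hj s
        obtain ⟨v, hv⟩ := ih u
        exact ⟨v, by rw [pow_succ, act_mul, hu, hv]⟩
    have hk'mem : (⟨k', hk'⟩ : stabilizer G α) ∈ Subgroup.zpowers k := hgen k hk ▸ Subgroup.mem_top _
    obtain ⟨n, hn⟩ := (isOfFinOrder_of_finite k).mem_powers_iff_mem_zpowers.2 hk'mem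
    obtain ⟨u', hu'⟩ := hstab n s
    obtain ⟨v', hv'⟩ := hkl s
    have hn' : (k : G) ^ n = k' := by simpa using congrArg Subtype.val hn
    rw [hn', hv'] at hu'
    have hv1 : v' ≠ 1 := fun e' => hs (by
      rw [e', Pi.mulSingle_one, map_eq_one_iff _ (act N e k').injective] at hv'
      exact Pi.mulSingle_eq_one_iff.1 hv')
    exact hl (single_index_unique hv1 hu')
  set a := act N e (h : G) with ha
  -- every element of `N` is a twisted commutator
  have hh1 : h ≠ 1 := fun e' => by rw [e', orderOf_one] at hh; exact hc.one_lt.ne hh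
  have hsurj : Function.Surjective (fun z : Fin m → S => z⁻¹ * a z) := by
    refine Finite.injective_iff_surjective.1 fun z w e' => ?_
    replace e' : z⁻¹ * a z = w⁻¹ * a w := e'
    have hzw : a (w * z⁻¹) = w * z⁻¹ := by
      rw [map_mul, map_inv]
      have hw : a w = w * (z⁻¹ * a z) := by rw [e', mul_inv_cancel_left]
      rw [hw]; group
    by_contra hne'
    have hx : w * z⁻¹ ≠ 1 := fun e'' => hne' (mul_inv_eq_one.1 e'').symm
    have hX : X (w * z⁻¹) = ⊤ := by
      rw [eq_top_iff, ← hgen h hh1, Subgroup.zpowers_le, hmemX]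
      exact hzw
    exact (hco _ (hne _ hx)).1 hX
  obtain ⟨z, hz⟩ := hsurj (Pi.mulSingle i₀ s₀)
  replace hz : z⁻¹ * a z = Pi.mulSingle i₀ s₀ := hz
  let y : G := ((e.symm (Pi.mulSingle i₀ s₀) : N) : G)
  have hyh : y * (h : G) = ((e.symm z : N) : G)⁻¹ * (h : G) * ((e.symm z : N) : G) := by
    simp [y, ← hz, a, act, MulAut.conjNormal_apply, mul_assoc]
  have hpow : (y * (h : G)) ^ c = 1 := by
    have h' : (h : G) ^ c = 1 := by rw [← hh, ← Subgroup.orderOf_coe]; exact pow_orderOf_eq_one _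
    rw [hyh, show ((e.symm z : N) : G)⁻¹ * (h : G) * ((e.symm z : N) : G) =
      ((e.symm z : N) : G)⁻¹ * (h : G) * (((e.symm z : N) : G)⁻¹)⁻¹ by rw [inv_inv], conj_pow, h']
    group
  have key : ∀ n : ℕ, n < c → ∃ w : Fin m → S, w i₀ = s₀ ∧
      (y * (h : G)) ^ (n + 1) = ((e.symm w : N) : G) * (h : G) ^ (n + 1) := by
    intro n hn
    induction n with
    | zero => exact ⟨Pi.mulSingle i₀ s₀, Pi.mulSingle_eq_same _ _, by simp [y]⟩
    | succ n ih =>
      obtain ⟨w, hw, hw'⟩ := ih (by omega)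
      refine ⟨w * act N e ((h : G) ^ (n + 1)) (Pi.mulSingle i₀ s₀), ?_, ?_⟩
      · have hk1 : h ^ (n + 1) ≠ 1 := pow_ne_one_of_lt_orderOf (by omega) (by omega)
        have := hmove (h ^ (n + 1)) hk1 i₀ s₀ hs₀
        rw [Subgroup.coe_pow] at this
        rw [Pi.mul_apply, hw, this, mul_one]
      · have hk : ((e.symm (w * act N e ((h : G) ^ (n + 1)) (Pi.mulSingle i₀ s₀)) : N) : G) =
            ((e.symm w : N) : G) * ((h : G) ^ (n + 1) * y * ((h : G) ^ (n + 1))⁻¹) := by
          rw [map_mul, Subgroup.coe_mul]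
          congr 1
          simp only [act, MulEquiv.trans_apply, MulEquiv.symm_apply_apply, MulAut.conjNormal_apply, y]
        rw [pow_succ (y * (h : G)) (n + 1), hw', hk, pow_succ (h : G) (n + 1)]
        group
  obtain ⟨w, hw, hw'⟩ := key (c - 1) (by have := hc.pos; omega)
  have hc1 : c - 1 + 1 = c := by have := hc.pos; omega
  rw [hc1, hpow, ← hh, ← Subgroup.orderOf_coe, pow_orderOf_eq_one, mul_one] at hw'
  have hw1 : w = 1 := e.symm.injective (by rw [map_one]; exact Subtype.ext hw'.symm)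
  exact hs₀ (by rw [← hw, hw1, Pi.one_apply])

include e in
/-- A non-regular minimal normal subgroup which is a proper power is impossible. -/
theorem nonregular_power_false [IsPretransitive N Ω] [Finite S] [IsSimpleGroup S] (hS : ∃ a b : S, a * b ≠ b * a)
    (hN : ∀ M : Subgroup G, M.Normal → M ≤ N → M = ⊥ ∨ M = N) (hm : 2 ≤ m) [Nontrivial Ω]
    (hHmax : IsCoatom (stabilizer G α)) (hLne : stabilizer N α ≠ ⊥)
    (hco : ∀ β : Ω, β ≠ α → IsCoatom (Stab α β : Subgroup (stabilizer G α))) : False := by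
  classical
  haveI : IsPretransitive G Ω := ⟨fun x y => by
    obtain ⟨n, hn⟩ := exists_smul_eq N x y; exact ⟨(n : G), hn⟩⟩
  set L : Subgroup (Fin m → S) := (stabilizer N α).map e.toMonoidHom with hL
  -- suborbits are orbits of the socle part
  have horb : ∀ β : Ω, ∀ h ∈ stabilizer G α, ∃ n : N, n • α = α ∧ (n : G) • β = h • β := by
    intro β h hh
    by_cases hβ : β = α
    · exact ⟨1, one_smul _ _, by rw [hβ, mem_stabilizer_iff.1 hh, Subgroup.coe_one, one_smul]⟩
    let L' : Subgroup (stabilizer G α) := N.subgroupOf (stabilizer G α)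
    haveI : L'.Normal := Subgroup.normal_subgroupOf
    have hsup : L' ⊔ Stab α β = ⊤ := by
      refine (hco β hβ).2 _ (lt_of_le_of_ne le_sup_right fun heq => ?_)
      have hle : L' ≤ Stab α β := sup_eq_right.1 heq.symm
      obtain ⟨g, hg⟩ := exists_smul_eq G α β
      let Lg : Subgroup G := N ⊓ stabilizer G α
      have hfix : ∀ x ∈ Lg, x • β = β := fun x hx =>
        mem_stabilizer_iff.1 (Subgroup.mem_subgroupOf.1 (hle (x := (⟨x, hx.2⟩ : stabilizer G α)) (Subgroup.mem_subgroupOf.2 hx.1)))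
      have hginv : ∀ x ∈ Lg, g⁻¹ * x * g ∈ Lg := by
        intro x hx
        refine ⟨by simpa using hNn.conj_mem x hx.1 g⁻¹, ?_⟩
        change (g⁻¹ * x * g) • α = α
        rw [mul_smul, mul_smul, hg, hfix x hx, inv_smul_eq_iff, hg]
      have hmem : g⁻¹ ∈ Subgroup.normalizer (Lg : Set G) := by
        refine Subgroup.mem_normalizer_fintype fun x hx => ?_
        simpa using hginv x hx
      have hleN : stabilizer G α ≤ Subgroup.normalizer (Lg : Set G) := by
        intro k hk
        refine Subgroup.mem_normalizer_fintype fun x hx => ?_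
        exact ⟨hNn.conj_mem x hx.1 k, (stabilizer G α).mul_mem ((stabilizer G α).mul_mem hk hx.2) ((stabilizer G α).inv_mem hk)⟩
      rcases hHmax.le_iff.1 hleN with h' | h'
      · have hn : Lg.Normal := Subgroup.normalizer_eq_top_iff.1 h'
        rcases hN Lg hn inf_le_left with h'' | h''
        · apply hLne
          rw [eq_bot_iff]
          intro n hn'
          have : (n : G) ∈ Lg := ⟨n.2, hn'⟩
          rw [h'', Subgroup.mem_bot] at this
          exact Subgroup.mem_bot.2 (Subtype.ext this)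
        · obtain ⟨γ, hγ⟩ := exists_ne α
          obtain ⟨n, hn'⟩ := exists_smul_eq N α γ
          have : (n : G) ∈ Lg := h''.symm ▸ n.2
          exact hγ (hn'.symm.trans this.2)
      · rw [h'] at hmem
        refine hβ ?_
        rw [← hg, ← inv_inv g]
        exact mem_stabilizer_iff.1 ((stabilizer G α).inv_mem hmem)
    have hhmem : (⟨h, hh⟩ : stabilizer G α) ∈ L' ⊔ Stab α β := hsup ▸ Subgroup.mem_top _
    obtain ⟨y, hy, z, hz, hyz⟩ := Subgroup.mem_sup_of_normal_left.1 hhmem
    have hyz' : (y : G) * (z : G) = h := congrArg Subtype.val hyz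
    refine ⟨⟨(y : G), hy⟩, y.2, ?_⟩
    change (y : G) • β = h • β
    rw [← hyz', mul_smul, mem_stabilizer_iff.1 (Subgroup.mem_subgroupOf.1 hz)]
  have hactL : ∀ x : Fin m → S, ∀ h ∈ stabilizer G α, ∃ l₁ ∈ L, ∃ l₂ ∈ L, act N e h x = l₁ * x * l₂ := by
    intro x h hh
    obtain ⟨n, hn, hn'⟩ := horb (pt α N e x) h hh
    rw [smul_pt α N e (mem_stabilizer_iff.1 hh)] at hn'
    have hpt : (n : G) • pt α N e x = pt α N e (e n * x) := by simp [pt, mul_smul]
    rw [hpt, pt_eq_iff] at hn'
    exact ⟨e n, ⟨n, hn, rfl⟩, _, hn', by group⟩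
  have hactLmem : ∀ x ∈ L, ∀ h ∈ stabilizer G α, act N e h x ∈ L := by
    intro x hx h hh
    obtain ⟨l₁, h1, l₂, h2, e'⟩ := hactL x h hh
    rw [e']; exact L.mul_mem (L.mul_mem h1 hx) h2
  haveI : Nontrivial (Fin m) := Fin.nontrivial_iff_two_le.2 hm
  have hproj : ∀ i : Fin m, L.map (Pi.evalMonoidHom (fun _ : Fin m => S) i) = ⊤ := by
    intro i
    rw [eq_top_iff]
    intro t _
    by_contra ht
    have ht1 : t ≠ 1 := fun e' => ht (e' ▸ Subgroup.one_mem _)
    obtain ⟨j, hj⟩ := exists_ne i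
    obtain ⟨h, hh, hij⟩ := transitive_factors α N e hS hN i j
    obtain ⟨l₁, h1, l₂, h2, e'⟩ := hactL (Pi.mulSingle i t) h hh
    obtain ⟨u, hu⟩ := hij t
    rw [hu] at e'
    have hcoord := congrFun e' i
    rw [Pi.mulSingle_eq_of_ne hj.symm, Pi.mul_apply, Pi.mul_apply, Pi.mulSingle_eq_same] at hcoord
    have : t = (l₁ i)⁻¹ * (l₂ i)⁻¹ := by
      calc t = (l₁ i)⁻¹ * (l₁ i * t * l₂ i) * (l₂ i)⁻¹ := by group
        _ = (l₁ i)⁻¹ * (l₂ i)⁻¹ := by rw [← hcoord]; group
    exact ht ⟨l₁⁻¹ * l₂⁻¹, L.mul_mem (L.inv_mem h1) (L.inv_mem h2), this.symm⟩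
  have hKnorm : ∀ i : Fin m, (L.comap (MonoidHom.mulSingle (fun _ : Fin m => S) i)).Normal := by
    refine fun i => ⟨fun y hy g => ?_⟩
    obtain ⟨l, hl, hlg⟩ := (hproj i ▸ Subgroup.mem_top g :
      g ∈ L.map (Pi.evalMonoidHom (fun _ : Fin m => S) i))
    have : l * Pi.mulSingle i y * l⁻¹ ∈ L :=
      L.mul_mem (L.mul_mem hl (by simpa using hy)) (L.inv_mem hl)
    rw [Subgroup.mem_comap]
    convert this using 1
    funext k
    rcases eq_or_ne k i with rfl | hk
    · simp [← hlg]
    · simp [hk]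
  have hK : ∀ (i : Fin m) (s : S), Pi.mulSingle i s ∈ L → s = 1 := by
    intro i s hs
    by_contra hs1
    have htop := (hKnorm i).eq_bot_or_eq_top.resolve_left fun h => hs1 (Subgroup.mem_bot.1
      (h ▸ (Subgroup.mem_comap.2 (by simpa using hs) : s ∈ L.comap (MonoidHom.mulSingle (fun _ : Fin m => S) i))))
    have hLtop : L = ⊤ := by
      rw [eq_top_iff]
      intro x _
      refine Subgroup.pi_mem_of_mulSingle_mem x fun l => ?_
      obtain ⟨h, hh, hil⟩ := transitive_factors α N e hS hN i l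
      choose f hf using hil
      have hfs : Function.Surjective f := Finite.injective_iff_surjective.1 fun a b e' => by
        have : act N e h (Pi.mulSingle i a) = act N e h (Pi.mulSingle i b) := by rw [hf, hf, e']
        exact Pi.mulSingle_injective (M := fun _ : Fin m => S) i ((act N e h).injective this)
      obtain ⟨a, ha⟩ := hfs (x l)
      rw [← ha, ← hf]
      refine hactLmem _ ?_ h hh
      have := (htop ▸ Subgroup.mem_top a : a ∈ L.comap (MonoidHom.mulSingle (fun _ : Fin m => S) i))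
      simpa using this
    obtain ⟨γ, hγ⟩ := exists_ne α
    obtain ⟨n, hn⟩ := exists_smul_eq N α γ
    obtain ⟨n', hn', he⟩ := (hLtop ▸ Subgroup.mem_top (e n) : e n ∈ L)
    rw [e.injective he] at hn'
    exact hγ (hn.symm.trans hn')
  have hm2 : m = 2 := by
    by_contra hne
    have h3 : 3 ≤ m := by omega
    have hpair : ∀ i j : Fin m, i ≠ j → ∀ a : S, ∃ l ∈ L, l i = a ∧ ∀ c, c ≠ i → c ≠ j → l c = 1 := by
      intro i j hij
      let A : Subgroup S :=
        { carrier := {a | ∃ l ∈ L, l i = a ∧ ∀ c, c ≠ i → c ≠ j → l c = 1}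
          one_mem' := ⟨1, L.one_mem, rfl, fun c _ _ => rfl⟩
          mul_mem' := by
            rintro a b ⟨l, hl, rfl, hl'⟩ ⟨k, hk, rfl, hk'⟩
            exact ⟨l * k, L.mul_mem hl hk, rfl, fun c h1 h2 => by simp [hl' c h1 h2, hk' c h1 h2]⟩
          inv_mem' := by
            rintro a ⟨l, hl, rfl, hl'⟩
            exact ⟨l⁻¹, L.inv_mem hl, rfl, fun c h1 h2 => by simp [hl' c h1 h2]⟩ }
      have hAn : A.Normal := by
        refine ⟨?_⟩
        rintro a ⟨l, hl, rfl, hl'⟩ g
        obtain ⟨k, hk, hkg⟩ := (hproj i ▸ Subgroup.mem_top g :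
          g ∈ L.map (Pi.evalMonoidHom (fun _ : Fin m => S) i))
        exact ⟨k * l * k⁻¹, L.mul_mem (L.mul_mem hk hl) (L.inv_mem hk), by simp [← hkg],
          fun c h1 h2 => by simp [hl' c h1 h2]⟩
      obtain ⟨t, ht⟩ := exists_ne (1 : S)
      obtain ⟨h, hh, hhij⟩ := transitive_factors α N e hS hN i j
      obtain ⟨l₁, h1, l₂, h2, e'⟩ := hactL (Pi.mulSingle i t) h hh
      obtain ⟨u, hu⟩ := hhij t
      rw [hu] at e'
      have hl12 : l₁ i * l₂ i ∈ A := by
        refine ⟨l₁ * l₂, L.mul_mem h1 h2, rfl, fun c hc1 hc2 => ?_⟩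
        have := congrFun e' c
        rw [Pi.mulSingle_eq_of_ne hc2, Pi.mul_apply, Pi.mul_apply, Pi.mulSingle_eq_of_ne hc1, mul_one] at this
        exact this.symm
      have hne1 : l₁ i * l₂ i ≠ 1 := by
        intro h12
        have := congrFun e' i
        rw [Pi.mulSingle_eq_of_ne hij, Pi.mul_apply, Pi.mul_apply, Pi.mulSingle_eq_same,
          eq_inv_of_mul_eq_one_right h12] at this
        exact ht (conj_eq_one_iff.1 this.symm)
      have hAtop := hAn.eq_bot_or_eq_top.resolve_left fun e'' => hne1 (Subgroup.mem_bot.1 (e'' ▸ hl12))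
      exact fun a => (hAtop ▸ Subgroup.mem_top a : a ∈ A)
    obtain ⟨i, j, hij⟩ := exists_pair_ne (Fin m)
    obtain ⟨c, hci, hcj⟩ : ∃ c : Fin m, c ≠ i ∧ c ≠ j := by
      by_contra hcon
      simp only [not_exists, not_and, not_not] at hcon
      have : (Finset.univ : Finset (Fin m)) ⊆ {i, j} := fun x _ => by
        by_cases hx : x = i
        · simp [hx]
        · simp [hcon x hx]
      have := (Finset.card_le_card this).trans Finset.card_le_two
      rw [Finset.card_univ, Fintype.card_fin] at this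
      omega
    obtain ⟨a, b, hab⟩ := hS
    obtain ⟨l, hl, hla, hl'⟩ := hpair i j hij a
    obtain ⟨k, hk, hkb, hk'⟩ := hpair i c hci.symm b
    have hsingle : l * k * l⁻¹ * k⁻¹ = Pi.mulSingle i (a * b * a⁻¹ * b⁻¹) := by
      funext x
      rcases eq_or_ne x i with rfl | hx
      · simp [hla, hkb]
      · rw [Pi.mulSingle_eq_of_ne hx]
        by_cases hxj : x = j
        · have := hk' x hx (hxj ▸ hcj.symm)
          simp [this]
        · simp [hl' x hx hxj]
    have := hK i _ (hsingle ▸ L.mul_mem (L.mul_mem (L.mul_mem hl hk) (L.inv_mem hl)) (L.inv_mem hk))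
    exact hab (mul_inv_eq_iff_eq_mul.mp (mul_inv_eq_one.mp this))
  subst hm2
  let π : ↥L →* S := (Pi.evalMonoidHom (fun _ : Fin 2 => S) 0).comp L.subtype
  have hπ : Function.Bijective π := by
    refine ⟨(injective_iff_map_eq_one π).2 fun l hl => ?_, fun s => ?_⟩
    · have hl1 : (l : Fin 2 → S) = Pi.mulSingle 1 ((l : Fin 2 → S) 1) := by
        funext x
        fin_cases x
        · simpa [π] using hl
        · simp
      have := hK 1 _ (hl1 ▸ l.2)
      exact Subtype.ext (by rw [hl1, this, Pi.mulSingle_one]; rfl)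
    · obtain ⟨l, hl, hls⟩ := (hproj 0 ▸ Subgroup.mem_top s : s ∈ L.map (Pi.evalMonoidHom (fun _ : Fin 2 => S) 0))
      exact ⟨⟨l, hl⟩, hls⟩
  let σ : S →* ↥L := (MulEquiv.ofBijective π hπ).symm.toMonoidHom
  have hσ0 : ∀ s, (σ s : Fin 2 → S) 0 = s := fun s => (MulEquiv.ofBijective π hπ).apply_symm_apply s
  let ν : S →* G := N.subtype.comp (e.symm.toMonoidHom.comp (L.subtype.comp σ))
  have hνmem : ∀ s, ν s ∈ stabilizer G α := by
    intro s
    obtain ⟨n, hn, hne'⟩ := (σ s).2
    change ((e.symm (σ s : Fin 2 → S) : N) : G) • α = α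
    rw [← hne']
    simp only [MulEquiv.coe_toMonoidHom, MulEquiv.symm_apply_apply]
    exact hn
  let ψ : S →* stabilizer G α := ν.codRestrict _ hνmem
  have hψinj : Function.Injective ψ := fun a b e' => by
    have h1 : ((e.symm (σ a : Fin 2 → S) : N) : G) = ((e.symm (σ b : Fin 2 → S) : N) : G) := congrArg (fun z : stabilizer G α => (z : G)) e'
    have h2 := e.symm.injective (Subtype.ext h1)
    have := congrFun h2 0
    rwa [hσ0, hσ0] at this
  have hrange : ψ.range = N.subgroupOf (stabilizer G α) := by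
    ext x
    constructor
    · rintro ⟨s, rfl⟩
      exact (e.symm (σ s : Fin 2 → S)).2
    · intro hx
      have hxL : e ⟨(x : G), hx⟩ ∈ L := ⟨_, x.2, rfl⟩
      refine ⟨π ⟨_, hxL⟩, Subtype.ext ?_⟩
      change ((e.symm (σ (π ⟨_, hxL⟩) : Fin 2 → S) : N) : G) = x
      rw [show σ (π ⟨_, hxL⟩) = ⟨_, hxL⟩ from (MulEquiv.ofBijective π hπ).symm_apply_apply ⟨_, hxL⟩]
      simp
  haveI : ψ.range.Normal := by rw [hrange]; infer_instance
  let P : S → Ω := fun s => pt α N e (Pi.mulSingle 0 s)
  have hPinj : ∀ s u, P s = P u → s = u := by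
    intro s u h
    have := (pt_eq_iff α N e _ _).1 h
    rw [← Pi.mulSingle_inv, ← Pi.mulSingle_mul] at this
    exact inv_mul_eq_one.1 (hK 0 _ this)
  have hPne : ∀ s, s ≠ 1 → P s ≠ α := by
    intro s hs h
    exact hs (hPinj s 1 (h.trans (by simp [P, pt])))
  refine CfsgLib.Recognition.CentralizerMaximal.false_of_centralizer_coatoms hS ψ hψinj
    (fun s => Stab α (P s)) (fun s hs => hco _ (hPne s hs)) ?_ ?_
  · intro s r h hh
    rw [Subgroup.mem_subgroupOf, mem_stabilizer_iff] at hh ⊢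
    simp only [P] at hh ⊢
    rw [smul_pt α N e h.2] at hh ⊢
    obtain ⟨j, hj⟩ := aut_single hS (act N e (h : G)) (0 : Fin 2)
    obtain ⟨u, hu⟩ := hj s
    rw [hu] at hh
    rw [Pi.mulSingle_pow, map_pow, hu]
    rw [pt_eq_iff] at hh ⊢
    rcases eq_or_ne j 0 with rfl | hj0
    · rw [← Pi.mulSingle_inv, ← Pi.mulSingle_mul] at hh
      rw [(inv_mul_eq_one.1 (hK 0 _ hh)), inv_mul_cancel]
      exact L.one_mem
    · have hc : Commute ((Pi.mulSingle j u : Fin 2 → S)⁻¹) (Pi.mulSingle 0 s) :=
        (Pi.mulSingle_commute (f := fun _ : Fin 2 => S) hj0 u s).inv_left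
      rw [← inv_pow, ← hc.mul_pow]
      exact L.pow_mem hh r
  · intro t s
    rw [Subgroup.mem_subgroupOf, mem_stabilizer_iff]
    simp only [P]
    rw [smul_pt α N e (ψ t).2]
    have hact : act N e ((ψ t : stabilizer G α) : G) (Pi.mulSingle 0 s) = Pi.mulSingle 0 (t * s * t⁻¹) := by
      have : act N e ((ψ t : stabilizer G α) : G) (Pi.mulSingle 0 s) =
          (σ t : Fin 2 → S) * Pi.mulSingle 0 s * (σ t : Fin 2 → S)⁻¹ := by
        apply e.symm.injective
        apply Subtype.ext
        simp [act, ψ, ν, MulAut.conjNormal_apply]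
      rw [this]
      funext x
      fin_cases x
      · simp [hσ0]
      · simp
    rw [hact]
    constructor
    · intro h
      exact mul_inv_eq_iff_eq_mul.1 (hPinj _ _ h)
    · intro h
      rw [mul_inv_eq_iff_eq_mul.2 h]

/-- A regular simple minimal normal subgroup with nontrivial centralizer is impossible. -/
theorem regular_simple_false (hsimp : IsSimpleGroup N) (hnc : ∃ a b : N, a * b ≠ b * a)
    [IsPretransitive N Ω] (hsemi : ∀ (n : N) (ω : Ω), n • ω = ω → n = 1)
    [IsPretransitive (Subgroup.centralizer (N : Set G)) Ω]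
    (hco : ∀ β : Ω, β ≠ α → IsCoatom (Stab α β : Subgroup (stabilizer G α))) : False := by
  classical
  set M := Subgroup.centralizer (N : Set G) with hM
  have hMsemi : ∀ (c : M) (ω : Ω), c • ω = ω → c = 1 := by
    intro c ω h
    refine Subtype.ext (eq_of_smul_eq_smul (α := Ω) fun τ => ?_)
    obtain ⟨n, hn⟩ := exists_smul_eq N ω τ
    have hc := Subgroup.mem_centralizer_iff.1 c.2 n n.2
    rw [Subgroup.coe_one, one_smul, ← hn, Subgroup.smul_def, ← mul_smul, ← hc, mul_smul]
    exact congrArg ((n : G) • ·) h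
  have hcomm : ∀ (c : M) (n : N), (n : G) * c = c * n := fun c n =>
    Subgroup.mem_centralizer_iff.1 c.2 n n.2
  have hex : ∀ t : N, ∃ c : M, ((t : G) * c) • α = α := by
    intro t
    obtain ⟨c, hc⟩ := exists_smul_eq M α ((t : G)⁻¹ • α)
    rw [Subgroup.smul_def] at hc
    exact ⟨c, by rw [mul_smul, hc, smul_inv_smul]⟩
  choose f hf using hex
  have huniq : ∀ (t : N) (c : M), ((t : G) * c) • α = α → c = f t := by
    intro t c hc
    have h1 : (c : G) • α = (f t : G) • α := smul_left_cancel (t : G) (by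
      rw [← mul_smul, ← mul_smul, hc, hf t])
    exact (inv_mul_eq_one.1 (hMsemi ((f t)⁻¹ * c) α (by
      rw [mul_smul, Subgroup.smul_def c, h1, ← Subgroup.smul_def, inv_smul_smul]))).symm
  have hprod : ∀ t u : N, ((t * u : N) : G) * ((f t * f u : M) : G) = ((t : G) * f t) * ((u : G) * f u) := by
    intro t u
    rw [Subgroup.coe_mul, Subgroup.coe_mul]
    calc (t : G) * u * ((f t : G) * f u) = (t : G) * ((u : G) * f t) * f u := by group
      _ = (t : G) * ((f t : G) * u) * f u := by rw [hcomm (f t) u]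
      _ = ((t : G) * f t) * ((u : G) * f u) := by group
  have hmul : ∀ t u : N, f (t * u) = f t * f u := fun t u =>
    (huniq (t * u) (f t * f u) (by rw [hprod, mul_smul, hf u, hf t])).symm
  let ν : N →* G := MonoidHom.mk' (fun t => (t : G) * f t) (fun t u => by rw [hmul, hprod])
  let ψ : N →* stabilizer G α := ν.codRestrict _ (fun t => mem_stabilizer_iff.2 (hf t))
  have hψ : ∀ t : N, ((ψ t : stabilizer G α) : G) = (t : G) * f t := fun t => rfl
  have hψinj : Function.Injective ψ := by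
    refine (injective_iff_map_eq_one ψ).2 fun t ht => ?_
    have h1 : (t : G) * (f t : G) = 1 := by
      have := congrArg Subtype.val ht
      rwa [hψ] at this
    have htz : t ∈ Subgroup.center N := Subgroup.mem_center_iff.2 fun u => Subtype.ext (by
      rw [Subgroup.coe_mul, Subgroup.coe_mul, eq_inv_of_mul_eq_one_left h1]
      exact ((show Commute (u : G) (f t : G) from hcomm (f t) u).inv_right).eq)
    haveI := hsimp
    rcases (inferInstance : (Subgroup.center N).Normal).eq_bot_or_eq_top with h' | h'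
    · exact Subgroup.mem_bot.1 (h' ▸ htz)
    · obtain ⟨a, b, hab⟩ := hnc
      exact absurd (Subgroup.mem_center_iff.1 (h' ▸ Subgroup.mem_top b) a) hab
  have hMn : M.Normal := inferInstance
  haveI : ψ.range.Normal := by
    refine ⟨?_⟩
    rintro _ ⟨t, rfl⟩ g
    refine ⟨MulAut.conjNormal (g : G) t, Subtype.ext ?_⟩
    rw [hψ]
    have hc : f (MulAut.conjNormal (g : G) t) = ⟨(g : G) * f t * (g : G)⁻¹, hMn.conj_mem _ (f t).2 _⟩ := by
      refine (huniq _ _ ?_).symm
      rw [MulAut.conjNormal_apply, show (g : G) * t * (g : G)⁻¹ * ((g : G) * f t * (g : G)⁻¹) =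
        (g : G) * ((t : G) * f t) * (g : G)⁻¹ by group, mul_smul, mul_smul,
        mem_stabilizer_iff.1 ((stabilizer G α).inv_mem g.2), hf t, mem_stabilizer_iff.1 g.2]
    rw [hc, MulAut.conjNormal_apply]
    simp [hψ, mul_assoc]
  let P : N → Ω := fun s => s • α
  have hPinj : ∀ s u, P s = P u → s = u := fun s u h => by
    have h' : s • α = u • α := h
    exact (inv_mul_eq_one.1 (hsemi (u⁻¹ * s) α (by rw [mul_smul, h', inv_smul_smul]))).symm
  have hPne : ∀ s : N, s ≠ 1 → P s ≠ α := fun s hs h => hs (hsemi s α h)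
  have hconjpt : ∀ (h : stabilizer G α) (s : N), (h : G) • P s = P (MulAut.conjNormal (h : G) s) := by
    intro h s
    simp [P, Subgroup.smul_def, MulAut.conjNormal_apply, mul_smul,
      mem_stabilizer_iff.1 ((stabilizer G α).inv_mem h.2)]
  refine CfsgLib.Recognition.CentralizerMaximal.false_of_centralizer_coatoms (T := N) hnc ψ hψinj
    (fun s => Stab α (P s)) (fun s hs => hco _ (hPne s hs)) ?_ ?_
  · intro s r h hh
    rw [Subgroup.mem_subgroupOf, mem_stabilizer_iff] at hh ⊢
    rw [hconjpt] at hh ⊢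
    rw [map_pow, hPinj _ _ hh]
  · intro t s
    rw [Subgroup.mem_subgroupOf, mem_stabilizer_iff, hconjpt]
    have hact : MulAut.conjNormal ((ψ t : stabilizer G α) : G) s = t * s * t⁻¹ := by
      apply Subtype.ext
      rw [MulAut.conjNormal_apply, hψ, mul_inv_rev, Subgroup.coe_mul, Subgroup.coe_mul, Subgroup.coe_inv]
      calc (t : G) * f t * s * ((f t : G)⁻¹ * (t : G)⁻¹)
          = (t : G) * ((f t : G) * s) * (f t : G)⁻¹ * (t : G)⁻¹ := by group
        _ = (t : G) * ((s : G) * f t) * (f t : G)⁻¹ * (t : G)⁻¹ := by rw [hcomm (f t) s]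
        _ = (t : G) * s * (t : G)⁻¹ := by group
    rw [hact]
    constructor
    · intro h; exact mul_inv_eq_iff_eq_mul.1 (hPinj _ _ h)
    · intro h; rw [mul_inv_eq_iff_eq_mul.2 h]

end

/-- An extremely primitive permutation group is of affine type or almost simple. Let a finite group G act faithfully and primitively on a finite set Ω with at least two points, in such a way that every point stabilizer acts primitively on each of its own orbits in Ω (an orbit of size one counts as primitive). Then either G has a non-trivial abelian normal subgroup whose elements other than the identity fix no point (affine type), or G has a non-abelian simple normal subgroup with trivial centralizer (almost simple). -/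
theorem result {G : Type*} [Group G] [Finite G] {Ω : Type*} [Fintype Ω] [MulAction G Ω] [FaithfulSMul G Ω] (hΩ : 2 ≤ Fintype.card Ω) (hprim : MulAction.IsPreprimitive G Ω) (hep : ∀ (α : Ω) (ω : Ω), MulAction.IsPreprimitive (MulAction.stabilizer G α) (MulAction.orbit (MulAction.stabilizer G α) ω)) :
    (∃ N : Subgroup G, N.Normal ∧ N ≠ ⊥ ∧ IsMulCommutative N ∧ ∀ ω : Ω, MulAction.stabilizer N ω = ⊥) ∨ (∃ T : Subgroup G, T.Normal ∧ IsSimpleGroup T ∧ ¬ IsMulCommutative T ∧ Subgroup.centralizer (T : Set G) = ⊥) := by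
  classical
  haveI : Nontrivial Ω := Fintype.one_lt_card_iff_nontrivial.1 (by omega)
  haveI := hprim
  obtain ⟨α⟩ := (inferInstance : Nonempty Ω)
  have htrans : ∀ M : Subgroup G, M.Normal → M ≠ ⊥ → MulAction.IsPretransitive M Ω := by
    intro M hM hne
    haveI := hM
    refine MulAction.IsQuasiPreprimitive.isPretransitive_of_normal fun h => hne ?_
    rw [eq_bot_iff]
    intro x hx
    refine Subgroup.mem_bot.2 (eq_of_smul_eq_smul (α := Ω) fun ω => ?_)
    rw [one_smul]
    exact (h ▸ Set.mem_univ ω : ω ∈ MulAction.fixedPoints M Ω) ⟨x, hx⟩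
  haveI : Nontrivial G := by
    obtain ⟨β, hβ⟩ := exists_ne α
    obtain ⟨g, hg⟩ := MulAction.exists_smul_eq G α β
    exact ⟨g, 1, fun h => hβ (by rw [← hg, h, one_smul])⟩
  obtain ⟨N, ⟨hNn, hN⟩, hNmin⟩ := (Set.toFinite {N : Subgroup G | N.Normal ∧ N ≠ ⊥}).exists_minimal
    ⟨⊤, inferInstance, top_ne_bot⟩
  haveI := hNn
  have hmin : ∀ K : Subgroup G, K.Normal → K ≤ N → K = ⊥ ∨ K = N := fun K hK hle =>
    or_iff_not_imp_left.mpr fun h => le_antisymm hle (hNmin ⟨hK, h⟩ hle)
  haveI hNt := htrans N inferInstance hN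
  by_cases hNc : IsMulCommutative N
  · refine Or.inl ⟨N, inferInstance, hN, hNc, fun ω => eq_bot_iff.2 fun n hn => Subgroup.mem_bot.2 ?_⟩
    refine Subtype.ext (eq_of_smul_eq_smul (α := Ω) fun τ => ?_)
    obtain ⟨c, hc⟩ := MulAction.exists_smul_eq N ω τ
    change n • τ = (1 : G) • τ
    rw [one_smul, ← hc, ← mul_smul, hNc.is_comm.comm n c, mul_smul, MulAction.mem_stabilizer_iff.1 hn]
  · right
    have hHmax := MulAction.IsPreprimitive.isCoatom_stabilizer_of_isPreprimitive G α
    have hnofix : ∀ β : Ω, β ≠ α → ∃ h ∈ MulAction.stabilizer G α, h • β ≠ β := by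
      intro β hβ
      by_contra hcon
      simp only [not_exists, not_and, not_not] at hcon
      obtain ⟨g, hg⟩ := MulAction.exists_smul_eq G α β
      have hmem : g⁻¹ ∈ Subgroup.normalizer (MulAction.stabilizer G α : Set G) := by
        refine Subgroup.mem_normalizer_fintype fun x hx => ?_
        rw [SetLike.mem_coe, MulAction.mem_stabilizer_iff, inv_inv, mul_smul, mul_smul, hg, hcon x hx, inv_smul_eq_iff, hg]
      rcases hHmax.le_iff.1 Subgroup.le_normalizer with htop | heq
      · haveI : (MulAction.stabilizer G α).Normal := Subgroup.normalizer_eq_top_iff.1 htop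
        have hHbot : MulAction.stabilizer G α = ⊥ := by
          by_contra hne
          obtain ⟨γ, hγ⟩ := exists_ne α
          haveI := htrans _ inferInstance hne
          obtain ⟨k, hk⟩ := MulAction.exists_smul_eq (MulAction.stabilizer G α) α γ
          exact hγ (hk.symm.trans k.2)
        refine hNc ⟨⟨fun a b => ?_⟩⟩
        have hcoat : IsCoatom (⊥ : Subgroup G) := hHbot ▸ hHmax
        by_cases ha : a = 1
        · rw [ha, one_mul, mul_one]
        have hgen : Subgroup.zpowers (a : G) = ⊤ :=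
          hcoat.2 _ (bot_lt_iff_ne_bot.2 fun e' => ha (Subtype.ext (Subgroup.mem_bot.1 (e' ▸ Subgroup.mem_zpowers (a : G)))))
        obtain ⟨k, hk⟩ := Subgroup.mem_zpowers_iff.1 (hgen ▸ Subgroup.mem_top (b : G))
        exact Subtype.ext (by
          rw [Subgroup.coe_mul, Subgroup.coe_mul, ← hk]
          exact ((Commute.refl (a : G)).zpow_right k).eq)
      · rw [heq] at hmem
        refine hβ ?_
        rw [← hg, ← inv_inv g]
        exact MulAction.mem_stabilizer_iff.1 ((MulAction.stabilizer G α).inv_mem hmem)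
    have hco : ∀ β : Ω, β ≠ α → IsCoatom (Stab α β : Subgroup (MulAction.stabilizer G α)) := by
      intro β hβ
      obtain ⟨h, hh, hhβ⟩ := hnofix β hβ
      haveI : Nontrivial ↥(MulAction.orbit (MulAction.stabilizer G α) β) :=
        ⟨⟨β, MulAction.mem_orbit_self β⟩, ⟨h • β, ⟨⟨h, hh⟩, rfl⟩⟩, fun e' => hhβ (congrArg Subtype.val e').symm⟩
      haveI := hep α β
      have := MulAction.IsPreprimitive.isCoatom_stabilizer_of_isPreprimitive (MulAction.stabilizer G α)
        (⟨β, MulAction.mem_orbit_self β⟩ : MulAction.orbit (MulAction.stabilizer G α) β)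
      convert this using 1
      ext k
      simp only [Stab, Subgroup.mem_subgroupOf, MulAction.mem_stabilizer_iff, Subtype.ext_iff]
      rfl
    obtain ⟨S, _, _, _, m, hS, hm1, ⟨e⟩⟩ := power_decomp N hN hmin hNc
    by_cases hsemi : ∀ (n : N) (ω : Ω), n • ω = ω → n = 1
    · by_cases hm : 2 ≤ m
      · exact (regular_power_false α N e hS hmin hm hsemi hco).elim
      obtain rfl : m = 1 := by omega
      let e' : N ≃* S := e.trans (MulEquiv.funUnique (Fin 1) S)
      haveI : Nontrivial N := e'.toEquiv.nontrivial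
      have hsimp : IsSimpleGroup N := IsSimpleGroup.isSimpleGroup_of_surjective e'.symm.toMonoidHom e'.symm.surjective
      by_cases hC : Subgroup.centralizer (N : Set G) = ⊥
      · exact ⟨N, inferInstance, hsimp, hNc, hC⟩
      haveI := htrans _ inferInstance hC
      exact (regular_simple_false α N hsimp (by
        obtain ⟨a, b, hab⟩ := hS
        exact ⟨e'.symm a, e'.symm b, fun h => hab (e'.symm.injective (by rw [map_mul, map_mul, h]))⟩) hsemi hco).elim
    · obtain ⟨n₀, ω₀, hn₀, hn₀1⟩ : ∃ (n : N) (ω : Ω), n • ω = ω ∧ n ≠ 1 := by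
        simpa only [not_forall, exists_prop] using hsemi
      have hLne : MulAction.stabilizer N α ≠ ⊥ := by
        intro hbot
        obtain ⟨k, hk⟩ := MulAction.exists_smul_eq N ω₀ α
        have hmem : k * n₀ * k⁻¹ ∈ MulAction.stabilizer N α := by
          rw [MulAction.mem_stabilizer_iff, mul_smul, mul_smul, ← hk, inv_smul_smul, hn₀]
        rw [hbot, Subgroup.mem_bot] at hmem
        exact hn₀1 (conj_eq_one_iff.1 hmem)
      by_cases hm : 2 ≤ m
      · exact (nonregular_power_false α N e hS hmin hm hHmax hLne hco).elim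
      obtain rfl : m = 1 := by omega
      let e' : N ≃* S := e.trans (MulEquiv.funUnique (Fin 1) S)
      haveI : Nontrivial N := e'.toEquiv.nontrivial
      have hsimp : IsSimpleGroup N := IsSimpleGroup.isSimpleGroup_of_surjective e'.symm.toMonoidHom e'.symm.surjective
      refine ⟨N, inferInstance, hsimp, hNc, ?_⟩
      by_contra hC
      haveI := htrans _ inferInstance hC
      refine hn₀1 (Subtype.ext (eq_of_smul_eq_smul (α := Ω) fun ω => ?_))
      obtain ⟨c, hc⟩ := MulAction.exists_smul_eq (Subgroup.centralizer (N : Set G)) ω₀ ω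
      have hcomm := Subgroup.mem_centralizer_iff.1 c.2 n₀ n₀.2
      rw [Subgroup.coe_one, one_smul, ← hc, Subgroup.smul_def, ← mul_smul, hcomm, mul_smul]
      exact congrArg ((c : G) • ·) hn₀

end Cfsg.Agent.S3493
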