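import Cfsg.Statements.S3495

set_option autoImplicit false
open Cfsg

namespace Cfsg.Agent.S3495

/-- Let a finite group G act faithfully and primitively on a finite set Ω with non-trivial point stabilizers, each acting primitively on every one of its orbits (an extremely primitive group), and suppose G has an elementary abelian normal p-subgroup N acting regularly on Ω (affine type). Then every non-trivial subgroup M of a point stabilizer G_α that is normal in G_α has the same orbits on Ω as G_α, and normalizes no subgroup of N other than 1 and N. -/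
theorem result {G : Type*} [Group G] [Finite G] {Ω : Type*} [Fintype Ω] [MulAction G Ω] [FaithfulSMul G Ω] (hprim : MulAction.IsPreprimitive G Ω) (hH : ∀ α : Ω, MulAction.stabilizer G α ≠ ⊥) (hep : ∀ (α : Ω) (ω : Ω), MulAction.IsPreprimitive (MulAction.stabilizer G α) (MulAction.orbit (MulAction.stabilizer G α) ω))
    (N : Subgroup G) [N.Normal] (hNc : IsMulCommutative N) (p : ℕ) (hp : p.Prime) (hNp : ∀ n ∈ N, n ^ p = 1)
    (hNtr : MulAction.IsPretransitive N Ω) (hNreg : ∀ ω : Ω, MulAction.stabilizer N ω = ⊥) (α : Ω) (M : Subgroup G) (hM : M ≠ ⊥) (hMle : M ≤ MulAction.stabilizer G α)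
    (hMn : MulAction.stabilizer G α ≤ Subgroup.normalizer (M : Set G)) :
    (∀ ω : Ω, MulAction.orbit M ω = MulAction.orbit (MulAction.stabilizer G α) ω) ∧
    (∀ L : Subgroup G, L ≤ N → M ≤ Subgroup.normalizer (L : Set G) → L = ⊥ ∨ L = N) := by
  classical
  set S := MulAction.stabilizer G α with hS
  have hfix : ∀ m ∈ M, m • α = α := fun m hm => MulAction.mem_stabilizer_iff.1 (hMle hm)
  -- subgroups of `N` normalised by the stabiliser
  have hinvar : ∀ L : Subgroup G, L ≤ N → S ≤ Subgroup.normalizer (L : Set G) → L = ⊥ ∨ L = N := by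
    intro L hL hn
    by_cases hb : L = ⊥
    · exact Or.inl hb
    right
    have hNn : N ≤ Subgroup.normalizer (L : Set G) := by
      intro x hx
      rw [Subgroup.mem_normalizer_iff]
      intro l
      constructor
      · intro hl
        have := congrArg Subtype.val (hNc.is_comm.comm ⟨x, hx⟩ ⟨l, hL hl⟩)
        simp only [Subgroup.coe_mul] at this
        rw [this, mul_inv_cancel_right]; exact hl
      · intro hl
        have hl' : l ∈ N := by
          simpa [mul_assoc] using (inferInstance : N.Normal).conj_mem _ (hL hl) x⁻¹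
        have := congrArg Subtype.val (hNc.is_comm.comm ⟨x, hx⟩ ⟨l, hl'⟩)
        simp only [Subgroup.coe_mul] at this
        rwa [this, mul_inv_cancel_right] at hl
    haveI : L.Normal := by
      rw [← Subgroup.normalizer_eq_top_iff, eq_top_iff]
      intro g _
      obtain ⟨⟨n, hn'⟩, hn2⟩ := hNtr.exists_smul_eq α (g • α)
      have hmem : n⁻¹ * g ∈ S := by
        rw [hS, MulAction.mem_stabilizer_iff, mul_smul, ← hn2]
        exact inv_smul_smul n α
      simpa using mul_mem (hNn hn') (hn hmem)
    haveI := hprim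
    have hLt : MulAction.IsPretransitive L Ω := by
      refine MulAction.IsQuasiPreprimitive.isPretransitive_of_normal (G := G) fun e => hb ?_
      rw [Subgroup.eq_bot_iff_forall]
      intro l hl
      refine eq_of_smul_eq_smul (α := Ω) fun ω => ?_
      have := Set.eq_univ_iff_forall.1 e ω ⟨l, hl⟩
      rw [one_smul]; exact this
    refine le_antisymm hL fun x hx => ?_
    obtain ⟨⟨l, hl⟩, hl2⟩ := hLt.exists_smul_eq α (x • α)
    have : (⟨l⁻¹ * x, mul_mem (hL (inv_mem hl)) hx⟩ : N) ∈ MulAction.stabilizer N α := by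
      rw [MulAction.mem_stabilizer_iff, Subgroup.smul_def, mul_smul, ← hl2]
      exact inv_smul_smul l α
    rw [hNreg, Subgroup.mem_bot, Subtype.ext_iff, OneMemClass.coe_one, inv_mul_eq_one] at this
    rw [← this]; exact hl
  have hinj : ∀ x ∈ N, ∀ y ∈ N, x • α = y • α → x = y := by
    intro x hx y hy e
    have : (⟨y⁻¹ * x, mul_mem (inv_mem hy) hx⟩ : N) ∈ MulAction.stabilizer N α := by
      rw [MulAction.mem_stabilizer_iff, Subgroup.smul_def, mul_smul, e, inv_smul_smul]
    rw [hNreg, Subgroup.mem_bot, Subtype.ext_iff, OneMemClass.coe_one, inv_mul_eq_one] at this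
    exact this.symm
  have hconj : ∀ s ∈ S, ∀ x : G, (s * x * s⁻¹) • α = s • x • α := by
    intro s hs x
    rw [mul_smul, mul_smul]
    congr 2
    exact inv_smul_eq_iff.2 (MulAction.mem_stabilizer_iff.1 hs).symm
  have honly : ∀ ω, (∀ m ∈ M, m • ω = ω) → ω = α := by
    let C : Subgroup G := N ⊓ Subgroup.centralizer (M : Set G)
    have hC : C = ⊥ := by
      refine (hinvar C inf_le_left fun s hs => ?_).resolve_right fun e => hM ?_
      · rw [Subgroup.mem_normalizer_iff]
        have key : ∀ t ∈ S, ∀ x ∈ C, t * x * t⁻¹ ∈ C := by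
          intro t ht x hx
          obtain ⟨h1, h2⟩ := Subgroup.mem_inf.1 hx
          refine Subgroup.mem_inf.2 ⟨(inferInstance : N.Normal).conj_mem x h1 t, ?_⟩
          rw [Subgroup.mem_centralizer_iff] at h2 ⊢
          intro m hm
          have hm' : t⁻¹ * m * t ∈ M :=
            (Subgroup.mem_normalizer_iff''.1 (hMn ht) m).1 hm
          have h3 := congrArg (fun u => t * u * t⁻¹) (h2 _ hm')
          simpa [mul_assoc] using h3
        intro x
        refine ⟨key s hs x, fun h => ?_⟩
        simpa [mul_assoc] using key s⁻¹ (inv_mem hs) _ h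
      · rw [Subgroup.eq_bot_iff_forall]
        intro m hm
        refine eq_of_smul_eq_smul (α := Ω) fun ω => ?_
        obtain ⟨⟨n, hn'⟩, rfl⟩ := hNtr.exists_smul_eq α ω
        have hc : m * n = n * m := by
          have h1 : n ∈ C := e.symm ▸ hn'
          exact Subgroup.mem_centralizer_iff.1 (Subgroup.mem_inf.1 h1).2 m hm
        rw [Subgroup.smul_def, one_smul, ← mul_smul, hc, mul_smul, hfix m hm]
    intro ω hω
    obtain ⟨⟨n, hn'⟩, rfl⟩ := hNtr.exists_smul_eq α ω
    have h1 : n ∈ C := by
      refine Subgroup.mem_inf.2 ⟨hn', ?_⟩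
      rw [Subgroup.mem_centralizer_iff]
      intro m hm
      have hmn : m * n * m⁻¹ = n := by
        refine hinj _ ((inferInstance : N.Normal).conj_mem n hn' m) n hn' ?_
        rw [hconj m (hMle hm)]; exact hω m hm
      exact mul_inv_eq_iff_eq_mul.1 hmn
    rw [hC, Subgroup.mem_bot] at h1
    show n • α = α
    rw [h1, one_smul]
  have horb : ∀ ω : Ω, MulAction.orbit M ω = MulAction.orbit S ω := by
    intro ω
    refine Set.Subset.antisymm ?_ ?_
    · rintro u ⟨⟨m, hm⟩, rfl⟩; exact ⟨⟨m, hMle hm⟩, rfl⟩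
    by_cases hω : ω = α
    · rintro u ⟨⟨s, hs⟩, rfl⟩
      subst hω
      show s • ω ∈ _
      rw [MulAction.mem_stabilizer_iff.1 hs]
      exact MulAction.mem_orbit_self ω
    haveI : (M.subgroupOf S).Normal := Subgroup.normal_subgroupOf_of_le_normalizer hMn
    haveI := hep α ω
    have ht : MulAction.IsPretransitive (M.subgroupOf S) (MulAction.orbit S ω) := by
      refine MulAction.IsQuasiPreprimitive.isPretransitive_of_normal (G := S) fun e => hω (honly ω ?_)
      intro m hm
      have := Set.eq_univ_iff_forall.1 e ⟨ω, MulAction.mem_orbit_self ω⟩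
        ⟨⟨m, hMle hm⟩, hm⟩
      exact congrArg Subtype.val this
    intro u hu
    obtain ⟨⟨⟨m, hmS⟩, hm⟩, hmu⟩ := ht.exists_smul_eq ⟨ω, MulAction.mem_orbit_self ω⟩ ⟨u, hu⟩
    exact ⟨⟨m, hm⟩, congrArg Subtype.val hmu⟩
  refine ⟨horb, fun L hL hn => hinvar L hL fun s hs => ?_⟩
  have key : ∀ t ∈ S, ∀ x ∈ L, t * x * t⁻¹ ∈ L := by
    intro t ht x hx
    have h1 : t • x • α ∈ MulAction.orbit S (x • α) := ⟨⟨t, ht⟩, rfl⟩
    rw [← horb] at h1
    obtain ⟨⟨m, hm⟩, hmx⟩ := h1
    have h2 : m * x * m⁻¹ ∈ L := (Subgroup.mem_normalizer_iff.1 (hn hm) x).1 hx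
    have h3 : (m * x * m⁻¹) • α = (t * x * t⁻¹) • α := by
      rw [hconj m (hMle hm), hconj t ht]; exact hmx
    rw [← hinj _ (hL h2) _ ((inferInstance : N.Normal).conj_mem x (hL hx) t) h3]
    exact h2
  rw [Subgroup.mem_normalizer_iff]
  intro x
  refine ⟨key s hs x, fun h => ?_⟩
  simpa [mul_assoc] using key s⁻¹ (inv_mem hs) _ h

end Cfsg.Agent.S3495
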