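import Cfsg.Statements.S3496
import Cfsg.Agent.Lib.Recognition.ExtremelyPrimitive
import Cfsg.Agent.Lib.Solvable.FrobeniusComplement
import Cfsg.Agent.Lib.PGroup.IrreducibleCyclic

set_option autoImplicit false
open Cfsg
open CfsgLib.Recognition.Extremely
open scoped IsMulCommutative

namespace Cfsg.Agent.S3496

/-- The soluble extremely primitive groups. Let a finite solvable group G act faithfully and primitively on a finite set Ω with p ^ d points (p prime), with non-trivial point stabilizers each acting primitively on every one of its orbits. Then there is a prime q such that every orbit of a point stabilizer G_α other than {α} has exactly q points, q divides p ^ d − 1 but no p ^ i − 1 with 0 < i < d, and G_α has a normal subgroup T of order q with G_α generated by T and one further element and the order of G_α dividing q·d (so G_α is cyclic of order q, or an extension of T by a cyclic group of order dividing d). -/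
theorem result {G : Type*} [Group G] [Finite G] {Ω : Type*} [Fintype Ω] [MulAction G Ω] [FaithfulSMul G Ω] [Group.IsSolvable G] (p d : ℕ) (hp : p.Prime) (hcard : Fintype.card Ω = p ^ d)
    (hprim : MulAction.IsPreprimitive G Ω) (hH : ∀ α : Ω, MulAction.stabilizer G α ≠ ⊥) (hep : ∀ (α : Ω) (ω : Ω), MulAction.IsPreprimitive (MulAction.stabilizer G α) (MulAction.orbit (MulAction.stabilizer G α) ω)) (α : Ω) :
    ∃ q : ℕ, q.Prime ∧ (∀ ω : Ω, ω ≠ α → Nat.card (MulAction.orbit (MulAction.stabilizer G α) ω) = q) ∧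
      q ∣ p ^ d - 1 ∧ (∀ i : ℕ, 0 < i → i < d → ¬ q ∣ p ^ i - 1) ∧
      ∃ T : Subgroup G, T ≤ MulAction.stabilizer G α ∧ MulAction.stabilizer G α ≤ Subgroup.normalizer (T : Set G) ∧ Nat.card T = q ∧
        (∃ h : G, MulAction.stabilizer G α = T ⊔ Subgroup.zpowers h) ∧ Nat.card (MulAction.stabilizer G α) ∣ q * d := by
  classical
  haveI := hprim
  obtain ⟨ω₀, hω₀⟩ := exists_ne_of_stabilizer_ne_bot α (hH α)
  haveI : Nontrivial Ω := ⟨⟨ω₀, α, hω₀⟩⟩
  haveI : Nontrivial G := by
    obtain ⟨g, hg⟩ := MulAction.exists_smul_eq G α ω₀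
    exact ⟨g, 1, fun h => hω₀ (by rw [← hg, h, one_smul])⟩
  haveI := Fact.mk hp
  -- minimal normal subgroups of solvable groups are commutative
  have hab : ∀ (X : Type _) [Group X] [Finite X] [Group.IsSolvable X] (N : Subgroup X) [N.Normal],
      N ≠ ⊥ → (∀ K : Subgroup X, K.Normal → K ≤ N → K = ⊥ ∨ K = N) →
      ∀ a ∈ N, ∀ b ∈ N, a * b = b * a := by
    intro X _ _ _ N _ hN hmin a ha b hb
    haveI : Nontrivial N := N.nontrivial_iff_ne_bot.mpr hN
    have hbot : commutator N = ⊥ := by
      rcases hmin ((commutator N).map N.subtype) inferInstance (Subgroup.map_subtype_le _) with h | h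
      · exact (Subgroup.map_eq_bot_iff_of_injective _ N.subtype_injective).1 h
      · exfalso
        refine (Group.IsSolvable.commutator_lt_top_of_nontrivial N).ne
          (Subgroup.map_injective N.subtype_injective (h.trans ?_))
        rw [← MonoidHom.range_eq_map, Subgroup.range_subtype]
    have := Subgroup.commutator_mem_commutator (Subgroup.mem_top (⟨a, ha⟩ : N)) (Subgroup.mem_top ⟨b, hb⟩)
    rw [← commutator_def, hbot, Subgroup.mem_bot] at this
    exact congrArg Subtype.val (commutatorElement_eq_one_iff_mul_comm.1 this)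
  -- the socle
  obtain ⟨N, hNn, hN, -, hNmin⟩ := exists_minimal_normal (⊤ : Subgroup G) top_ne_bot
  haveI := hNn
  have hNab := hab G N hN hNmin
  haveI hNc : IsMulCommutative N := ⟨⟨fun a b => Subtype.ext (hNab a a.2 b b.2)⟩⟩
  haveI hNt : MulAction.IsPretransitive N Ω := by
    refine MulAction.IsQuasiPreprimitive.isPretransitive_of_normal fun h => hN ?_
    rw [eq_bot_iff]
    intro x hx
    refine Subgroup.mem_bot.2 (eq_of_smul_eq_smul (α := Ω) fun w => ?_)
    rw [one_smul]
    exact (h ▸ Set.mem_univ w : w ∈ MulAction.fixedPoints N Ω) ⟨x, hx⟩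
  have hcent : ∀ c : G, (∀ n ∈ N, n * c = c * n) → c • α = α → c = 1 := by
    intro c hc hcα
    refine eq_of_smul_eq_smul (α := Ω) fun w => ?_
    obtain ⟨n, rfl⟩ := MulAction.exists_smul_eq N α w
    rw [one_smul, Subgroup.smul_def, ← mul_smul, ← hc n n.2, mul_smul, hcα]
  have hNfree : ∀ n ∈ N, n • α = α → n = 1 := fun n hn h => hcent n (fun m hm => hNab m hm n hn) h
  have hcardN : Nat.card N = p ^ d := by
    rw [← hcard, ← Nat.card_eq_fintype_card]
    refine Nat.card_eq_of_bijective (fun n : N => n • α) ⟨fun a b e => ?_, MulAction.exists_smul_eq N α⟩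
    have e' : (a : G) • α = (b : G) • α := e
    exact Subtype.ext (inv_mul_eq_one.1 (hNfree _ (N.mul_mem (N.inv_mem b.2) a.2)
      (by rw [mul_smul, e', inv_smul_smul]))).symm
  have hd : 0 < d := by
    rcases Nat.eq_zero_or_pos d with rfl | h
    · have := Fintype.one_lt_card (α := Ω)
      rw [hcard, pow_zero] at this
      omega
    · exact h
  obtain ⟨p', e, hp', he, hexp'⟩ := exists_prime_exponent N hNab hN hNmin
  have hpp : p' = p := by
    rw [hcardN] at he
    have h1 : p ∣ p' ^ e := he ▸ dvd_pow_self p hd.ne'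
    exact ((Nat.prime_dvd_prime_iff_eq hp hp').1 (hp.dvd_of_dvd_pow h1)).symm
  rw [hpp] at hexp'
  -- the normal subgroup of the stabiliser
  obtain ⟨A, hAn, hA, -, hAmin⟩ := exists_minimal_normal (⊤ : Subgroup (MulAction.stabilizer G α))
    (haveI := (Subgroup.nontrivial_iff_ne_bot _).2 (hH α); top_ne_bot)
  haveI := hAn
  have hAab := hab _ A hA hAmin
  haveI hAc : IsMulCommutative A := ⟨⟨fun a b => Subtype.ext (hAab a a.2 b b.2)⟩⟩
  have hreg := fun (β : Ω) (hβ : β ≠ α) => abelian_normal_regular hprim hH hep α A hA β hβ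
  obtain ⟨q, e', hq, heq, hexpA⟩ := exists_prime_exponent A hAab hA hAmin
  haveI := Fact.mk hq
  have hfpf : ∀ a ∈ A, a ≠ 1 → ∀ n ∈ N, (a : G) * n = n * a → n = 1 := by
    intro a ha ha1 n hn hcomm
    by_contra hn1
    refine ha1 ((hreg (n • α) (fun h => hn1 (hNfree n hn h))).1 a ha ?_)
    change (a : G) • n • α = n • α
    rw [← mul_smul, hcomm, mul_smul, MulAction.mem_stabilizer_iff.1 a.2]
  have hAq : Nat.card A = q := by
    haveI : IsCyclic (A.map (MulAction.stabilizer G α).subtype) := by
      refine CfsgLib.Solvable.isCyclic_of_fpf_abelian hN hNab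
        (by rw [Subgroup.normalizer_eq_top_iff.2 hNn]; exact le_top) ?_ (Or.inl ?_)
      · rintro _ ⟨a, ha, rfl⟩ ha1
        rw [eq_bot_iff]
        rintro n ⟨hn, hnc⟩
        exact Subgroup.mem_bot.2 (hfpf a ha (fun h => ha1 (by rw [h]; rfl)) n hn
          (Subgroup.mem_centralizer_iff.1 hnc _ rfl))
      · rintro _ ⟨a, ha, rfl⟩ _ ⟨b, hb, rfl⟩
        exact congrArg Subtype.val (hAab a ha b hb)
    haveI : IsCyclic A := (Subgroup.equivMapOfInjective A _ (Subgroup.subtype_injective _)).isCyclic.2 inferInstance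
    obtain ⟨g, hg⟩ := IsCyclic.exists_ofOrder_eq_natCard (α := A)
    have h1 : Nat.card A ∣ q := hg ▸ orderOf_dvd_of_pow_eq_one (Subtype.ext (hexpA g g.2))
    exact ((Nat.dvd_prime hq).1 h1).resolve_left fun h => hA (Subgroup.card_eq_one.1 h)
  obtain ⟨a, ha, ha1⟩ : ∃ a ∈ A, a ≠ 1 := by
    obtain ⟨x, hx⟩ := A.ne_bot_iff_exists_ne_one.1 hA
    exact ⟨x.1, x.2, fun e => hx (Subtype.ext e)⟩
  have horda : orderOf a = q := orderOf_eq_prime (hexpA a ha) ha1
  have hApow : ∀ x ∈ A, ∃ k : ℕ, a ^ k = x := by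
    intro x hx
    have hz : Subgroup.zpowers a = A := Subgroup.eq_of_le_of_card_ge (Subgroup.zpowers_le.2 ha)
      (by rw [Nat.card_zpowers, horda, hAq])
    exact (mem_powers_iff_mem_zpowers.2 (hz.symm ▸ hx : x ∈ Subgroup.zpowers a))
  have hz : ∀ x : Additive N, p • x = 0 := fun x =>
    congrArg Additive.ofMul (Subtype.ext (hexp' _ x.toMul.2) : x.toMul ^ p = 1)
  letI : Module (ZMod p) (Additive N) := AddCommGroup.zmodModule (n := p) (G := Additive N) hz
  obtain ⟨θ, hθ, -⟩ := exists_conj_linear N p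
  set φ : Module.End (ZMod p) (Additive N) := (θ (a : G)).val with hφ
  have hφpow : ∀ k : ℕ, (θ ((a : G) ^ k) : Module.End (ZMod p) (Additive N)) = φ ^ k := fun k => by
    rw [map_pow, Units.val_pow_eq_pow_val]
  have horbit : ∀ h ∈ MulAction.stabilizer G α, ∀ v : Additive N, ∃ k : ℕ,
      (θ h : Module.End (ZMod p) (Additive N)) v = (φ ^ k) v := by
    intro h hh v
    rcases eq_or_ne v 0 with rfl | hv
    · exact ⟨0, by simp⟩
    have hnα : (v.toMul : G) • α ≠ α := fun e => hv
      (Additive.toMul.injective (Subtype.ext (hNfree _ v.toMul.2 e)))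
    obtain ⟨x, hx, e⟩ := (hreg _ hnα).2.1 _ ⟨⟨h, hh⟩, rfl⟩
    obtain ⟨k, rfl⟩ := hApow x hx
    refine ⟨k, Additive.toMul.injective (Subtype.ext ?_)⟩
    rw [← hφpow, hθ, hθ]
    have e' : (((a ^ k : MulAction.stabilizer G α) : G) * (v.toMul : G)) • α = (h * (v.toMul : G)) • α := by
      rw [mul_smul, mul_smul]; exact e
    rw [Subgroup.coe_pow] at e'
    refine inv_mul_eq_one.1 (hNfree _ (N.mul_mem (N.inv_mem (hNn.conj_mem _ v.toMul.2 h))
      (hNn.conj_mem _ v.toMul.2 ((a : G) ^ k))) ?_)
    have hak : ((a : G) ^ k)⁻¹ • α = α := MulAction.mem_stabilizer_iff.1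
      ((MulAction.stabilizer G α).inv_mem ((MulAction.stabilizer G α).pow_mem a.2 k))
    have hhi : h⁻¹ • α = α := MulAction.mem_stabilizer_iff.1 ((MulAction.stabilizer G α).inv_mem hh)
    rw [mul_smul, mul_smul ((a : G) ^ k * _), hak, e', inv_smul_eq_iff, mul_smul (h * _), hhi]
  have hirr : ∀ W : Submodule (ZMod p) (Additive N), (∀ w ∈ W, φ w ∈ W) → W = ⊥ ∨ W = ⊤ := by
    intro W hW
    have hWk : ∀ (k : ℕ), ∀ w ∈ W, (φ ^ k) w ∈ W := fun k => by
      induction k with
      | zero => intro w hw; simpa using hw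
      | succ k ih => intro w hw; rw [pow_succ', Module.End.mul_apply]; exact hW _ (ih w hw)
    let M : Subgroup G := W.toAddSubgroup.toSubgroup'.map N.subtype
    have hMN : M ≤ N := Subgroup.map_subtype_le _
    have hmemM : ∀ (w : Additive N), (w.toMul : G) ∈ M ↔ w ∈ W := fun w => by
      constructor
      · rintro ⟨x, hx, hxe⟩
        have : x = w.toMul := Subtype.ext hxe
        subst this
        exact hx
      · exact fun hw => ⟨w.toMul, hw, rfl⟩
    have hMH : MulAction.stabilizer G α ≤ Subgroup.normalizer (M : Set G) := by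
      have key : ∀ h ∈ MulAction.stabilizer G α, ∀ x ∈ M, h * x * h⁻¹ ∈ M := by
        rintro h hh _ ⟨x, hx, rfl⟩
        obtain ⟨k, hk⟩ := horbit h hh (Additive.ofMul x)
        have h2 := (hmemM _).2 (hWk k (Additive.ofMul x) hx)
        rw [← hk, hθ] at h2
        exact h2
      intro h hh
      rw [Subgroup.mem_normalizer_iff]
      refine fun x => ⟨key h hh x, fun hx => ?_⟩
      have := key h⁻¹ ((MulAction.stabilizer G α).inv_mem hh) _ hx
      simpa [mul_assoc] using this
    have hMN' : N ≤ Subgroup.normalizer (M : Set G) := fun n hn => by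
      rw [Subgroup.mem_normalizer_iff]
      intro x
      constructor
      · intro hx
        rw [hNab n hn x (hMN hx), mul_inv_cancel_right]
        exact hx
      · intro hx
        have hxN : x ∈ N := by
          have := N.mul_mem (N.mul_mem (N.inv_mem hn) (hMN hx)) hn
          simpa [mul_assoc] using this
        rwa [hNab n hn x hxN, mul_inv_cancel_right] at hx
    have hco : IsCoatom (MulAction.stabilizer G α) :=
      MulAction.IsPreprimitive.isCoatom_stabilizer_of_isPreprimitive G α
    have htop : Subgroup.normalizer (M : Set G) = ⊤ := by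
      refine hco.2 _ (lt_of_le_of_ne hMH fun e => hN (eq_bot_iff.2 fun n hn => ?_))
      exact Subgroup.mem_bot.2 (hNfree n hn (MulAction.mem_stabilizer_iff.1 (e ▸ hMN' hn)))
    rcases hNmin M (Subgroup.normalizer_eq_top_iff.1 htop) hMN with h | h
    · refine Or.inl (eq_bot_iff.2 fun w hw => (Submodule.mem_bot _).2 ?_)
      have := (hmemM w).2 hw
      rw [h, Subgroup.mem_bot] at this
      exact Additive.toMul.injective (Subtype.ext this)
    · exact Or.inr (eq_top_iff.2 fun w _ => (hmemM w).1 (h.symm ▸ w.toMul.2))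
  have hqdvd : q ∣ p ^ d - 1 := by
    rw [← hcard, ← hAq]
    refine card_dvd_pred_of_free (A := A) α (fun x => (x : MulAction.stabilizer G α).2) ?_
    intro x w hx hxw
    by_contra hw
    exact hx (Subtype.ext ((hreg w hw).1 x x.2 hxw))
  have hpq : p ≠ q := by
    rintro rfl
    have h1 : p ∣ p ^ d := dvd_pow_self p hd.ne'
    have h2 := Nat.one_le_pow d p hp.pos
    have h3 := Nat.dvd_sub h1 hqdvd
    rw [Nat.sub_sub_self h2, Nat.dvd_one] at h3
    exact hp.one_lt.ne' h3
  obtain ⟨n₀, hn₀⟩ := N.ne_bot_iff_exists_ne_one.1 hN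
  have hφq : ∀ v, (φ ^ q) v = v := fun v => by
    rw [← hφpow, ← Subgroup.coe_pow, hexpA a ha]
    simp
  have hord : d = orderOf (p : ZMod q) := by
    have h := CfsgLib.PGroup.card_of_irreducible (p := q) (q := p) hpq (M := Additive N)
      (fun v => congrArg Additive.ofMul (Subtype.ext (hexp' _ v.toMul.2) : v.toMul ^ p = 1))
      φ.toAddMonoidHom (fun v => ?_) ⟨Additive.ofMul n₀, fun e => hn₀ ?_⟩ (fun W hW => ?_)
    · rw [show Nat.card (Additive N) = p ^ d from hcardN] at h
      exact Nat.pow_right_injective hp.two_le h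
    · have := hφq v
      rw [Module.End.pow_apply] at this
      exact this
    · have e' := congrArg (fun v : Additive N => (v.toMul : G)) e
      change ((φ (Additive.ofMul n₀)).toMul : G) = (n₀ : G) at e'
      rw [hφ, hθ] at e'
      exact Subtype.ext (hfpf a ha ha1 n₀ n₀.2 (mul_inv_eq_iff_eq_mul.1 e'))
    · rcases hirr (AddSubgroup.toZModSubmodule p W) (fun w hw => hW w hw) with h | h
      · exact Or.inl (by ext x; exact (SetLike.ext_iff.1 h x).trans (by simp))
      · exact Or.inr (by ext x; exact (SetLike.ext_iff.1 h x).trans (by simp))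
  refine ⟨q, hq, fun w hw => (hreg w hw).2.2.2.trans hAq, hqdvd, fun i hi hid hdv => ?_, ?_⟩
  · have h1 : ((p : ZMod q)) ^ i = 1 := by
      have h2 : ((p ^ i - 1 : ℕ) : ZMod q) = 0 := (ZMod.natCast_eq_zero_iff _ _).2 hdv
      rw [Nat.cast_sub (Nat.one_le_pow i p hp.pos), Nat.cast_pow, Nat.cast_one, sub_eq_zero] at h2
      exact h2
    have := Nat.le_of_dvd hi (orderOf_dvd_of_pow_eq_one h1)
    omega
  · haveI : IsCyclic A := isCyclic_of_prime_card hAq
    let c : MulAction.stabilizer G α →* MulAut A := MulAut.conjNormal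
    have hcker : c.ker = A := by
      ext h
      constructor
      · intro hh
        refine (hreg ω₀ hω₀).2.2.1 (Subgroup.mem_centralizer_iff.2 fun x hx => ?_)
        have := congrArg Subtype.val (DFunLike.congr_fun (MonoidHom.mem_ker.1 hh) (⟨x, hx⟩ : A))
        rw [MulAut.conjNormal_apply] at this
        exact (mul_inv_eq_iff_eq_mul.1 this).symm
      · intro hh
        refine MonoidHom.mem_ker.2 (MulEquiv.ext fun x => Subtype.ext ?_)
        rw [MulAut.conjNormal_apply, hAab h hh x x.2, mul_inv_cancel_right]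
        rfl
    haveI : IsCyclic (MulAut A) := (IsCyclic.mulAutMulEquiv A).isCyclic.2 (by rw [hAq]; infer_instance)
    obtain ⟨⟨_, h0, rfl⟩, hgen⟩ := IsCyclic.exists_generator (α := c.range)
    refine ⟨A.map (MulAction.stabilizer G α).subtype, Subgroup.map_subtype_le _, ?_, ?_, ⟨(h0 : G), ?_⟩, ?_⟩
    · intro h hh
      rw [Subgroup.mem_normalizer_iff]
      intro x
      constructor
      · rintro ⟨y, hy, rfl⟩
        exact ⟨⟨h, hh⟩ * y * ⟨h, hh⟩⁻¹, hAn.conj_mem y hy _, rfl⟩
      · rintro ⟨y, hy, he⟩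
        refine ⟨⟨h, hh⟩⁻¹ * y * ⟨h, hh⟩, ?_, ?_⟩
        · have := hAn.conj_mem y hy (⟨h, hh⟩⁻¹ : MulAction.stabilizer G α)
          rwa [inv_inv] at this
        · change h⁻¹ * (y : G) * h = x
          rw [show (y : G) = h * x * h⁻¹ from he]
          group
    · rw [Subgroup.card_map_of_injective (Subgroup.subtype_injective _), hAq]
    · have htop : A ⊔ Subgroup.zpowers h0 = ⊤ := by
        rw [eq_top_iff]
        intro h _
        obtain ⟨i, hi⟩ := Subgroup.mem_zpowers_iff.1 (hgen ⟨c h, h, rfl⟩)
        have hi' : c (h0 ^ i) = c h := by rw [map_zpow]; exact congrArg Subtype.val hi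
        have : h * (h0 ^ i)⁻¹ ∈ A := hcker ▸ (MonoidHom.mem_ker.2 (by rw [map_mul, map_inv, hi', mul_inv_cancel]))
        have h2 := Subgroup.mul_mem_sup this (Subgroup.zpow_mem_zpowers h0 i)
        rwa [inv_mul_cancel_right] at h2
      have h3 := congrArg (Subgroup.map (MulAction.stabilizer G α).subtype) htop
      rw [Subgroup.map_sup, MonoidHom.map_zpowers, ← MonoidHom.range_eq_map, Subgroup.range_subtype] at h3
      exact h3.symm
    · have hker : ∀ h : MulAction.stabilizer G α, h ∈ A ↔
          (θ (h : G) : Module.End (ZMod p) (Additive N)) * φ * ↑(θ (h : G))⁻¹ = φ := by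
        intro h
        rw [hφ, ← Units.val_mul, ← Units.val_mul, Units.val_inj, ← map_inv, ← map_mul, ← map_mul]
        constructor
        · intro hh
          rw [show (h : G) * a * (h : G)⁻¹ = a by
            rw [mul_inv_eq_iff_eq_mul]; exact congrArg Subtype.val (hAab h hh a ha)]
        · intro hh
          refine (hreg ω₀ hω₀).2.2.1 (Subgroup.mem_centralizer_iff.2 fun x hx => ?_)
          obtain ⟨k, rfl⟩ := hApow x hx
          suffices Commute h a from (this.pow_right k).eq.symm
          refine Subtype.ext ?_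
          have h4 : θ (((h : G) * a * (h : G)⁻¹) * (a : G)⁻¹) = 1 := by
            rw [map_mul, hh, map_inv, mul_inv_cancel]
          have h5 : ((h : G) * a * (h : G)⁻¹) * (a : G)⁻¹ = 1 := by
            refine hcent _ (fun n hn => ?_) ?_
            · have h6 := hθ (((h : G) * a * (h : G)⁻¹) * (a : G)⁻¹) (Additive.ofMul ⟨n, hn⟩)
              rw [h4] at h6
              simp only [Units.val_one, Module.End.one_apply, toMul_ofMul] at h6
              exact (eq_mul_inv_iff_mul_eq.1 h6)
            · exact MulAction.mem_stabilizer_iff.1 ((h * a * h⁻¹ * a⁻¹ : MulAction.stabilizer G α)).2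
          exact mul_inv_eq_iff_eq_mul.1 (mul_inv_eq_one.1 h5)
      haveI : Nontrivial (Additive N) := ⟨⟨Additive.ofMul n₀, 0, fun e => hn₀ e⟩⟩
      have hidx := index_centralizer_dvd φ hirr (θ.comp (MulAction.stabilizer G α).subtype)
        (fun h => by
          obtain ⟨k, hk⟩ := hApow _ (hAn.conj_mem a ha h)
          refine ⟨k, ?_⟩
          rw [← hφpow, hφ, ← Units.val_mul, ← Units.val_mul, Units.val_inj, MonoidHom.comp_apply,
            ← map_inv, ← map_mul, ← map_mul, ← Subgroup.coe_pow, hk]
          rfl) A hker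
      have hfr : Module.finrank (ZMod p) (Additive N) = d := by
        have h := @Module.natCard_eq_pow_finrank (ZMod p) (Additive N) _ _ _ (Module.Finite.of_finite)
        rw [Nat.card_zmod, show Nat.card (Additive N) = p ^ d from hcardN] at h
        exact (Nat.pow_right_injective hp.two_le h).symm
      rw [← A.card_mul_index, hAq]
      exact Nat.mul_dvd_mul_left q (hfr ▸ hidx)

end Cfsg.Agent.S3496
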