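import Cfsg.Statements.S3497
import Cfsg.Agent.Lib.Recognition.ExtremelyPrimitive
import Cfsg.Agent.Lib.Cores.Fitting

set_option autoImplicit false
open Cfsg
open CfsgLib.Recognition.Extremely

namespace Cfsg.Agent.S3497

/-- Restrictions on the point stabilizer of an extremely primitive group. Let a finite group G act faithfully and primitively on a finite set Ω with point stabilizers H = G_α whose order is neither 1 nor a prime, each acting primitively on every one of its orbits. Then H has trivial center, the Fitting subgroup F(H) is an elementary abelian p-group for some prime p, and if F(H) ≠ 1 has order p ^ e then p ^ e divides the number of points minus one and H / F(H) embeds in GL_e(p) (there is a homomorphism from H to GL_e(p) with kernel exactly F(H)). -/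
theorem result {G : Type*} [Group G] [Finite G] {Ω : Type*} [Fintype Ω] [MulAction G Ω] [FaithfulSMul G Ω] (hprim : MulAction.IsPreprimitive G Ω) (hep : ∀ (α : Ω) (ω : Ω), MulAction.IsPreprimitive (MulAction.stabilizer G α) (MulAction.orbit (MulAction.stabilizer G α) ω)) (α : Ω)
    (hH1 : MulAction.stabilizer G α ≠ ⊥) (hHp : ¬ (Nat.card (MulAction.stabilizer G α)).Prime) :
    Subgroup.center (MulAction.stabilizer G α) = ⊥ ∧
    IsMulCommutative (Cfsg.fittingSubgroup (MulAction.stabilizer G α)) ∧
    ∃ p e : ℕ, p.Prime ∧ Nat.card (Cfsg.fittingSubgroup (MulAction.stabilizer G α)) = p ^ e ∧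
      (∀ x ∈ Cfsg.fittingSubgroup (MulAction.stabilizer G α), x ^ p = 1) ∧
      (Cfsg.fittingSubgroup (MulAction.stabilizer G α) ≠ ⊥ →
        p ^ e ∣ Fintype.card Ω - 1 ∧
        ∃ φ : MulAction.stabilizer G α →* GL (Fin e) (ZMod p), φ.ker = Cfsg.fittingSubgroup (MulAction.stabilizer G α)) := by
  classical
  haveI := hprim
  have hH : ∀ β : Ω, MulAction.stabilizer G β ≠ ⊥ := by
    intro β hβ
    obtain ⟨g, hg⟩ := MulAction.exists_smul_eq G α β
    refine hH1 (Subgroup.card_eq_one.1 ?_)
    rw [Nat.card_congr (MulAction.stabilizerEquivStabilizer hg.symm).toEquiv, hβ]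
    exact Subgroup.card_bot
  obtain ⟨ω, hω⟩ := exists_ne_of_stabilizer_ne_bot α hH1
  have hreg := fun (A : Subgroup (MulAction.stabilizer G α)) (hn : A.Normal) (hA : A ≠ ⊥)
      (hc : IsMulCommutative A) (β : Ω) (hβ : β ≠ α) =>
    @abelian_normal_regular G _ _ Ω _ _ _ hprim hH hep α A hn hA hc β hβ
  have hZ : Subgroup.center (MulAction.stabilizer G α) = ⊥ := by
    by_contra hZ
    obtain ⟨hfree, -, hcen, hcard⟩ := hreg _ inferInstance hZ inferInstance ω hω
    have htop : Subgroup.center (MulAction.stabilizer G α) = ⊤ := by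
      refine eq_top_iff.2 (le_trans (fun x _ => ?_) hcen)
      exact Subgroup.mem_centralizer_iff.2 fun z hz => (Subgroup.mem_center_iff.1 hz x).symm
    haveI : Nontrivial (MulAction.orbit (MulAction.stabilizer G α) ω) := by
      refine Finite.one_lt_card_iff_nontrivial.1 ?_
      rw [hcard, htop, Subgroup.card_top]
      haveI : Nontrivial (MulAction.stabilizer G α) := (Subgroup.nontrivial_iff_ne_bot _).2 hH1
      exact Finite.one_lt_card
    haveI := hep α ω
    have hco : IsCoatom (MulAction.stabilizer (MulAction.stabilizer G α)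
        (⟨ω, MulAction.mem_orbit_self ω⟩ : MulAction.orbit (MulAction.stabilizer G α) ω)) :=
      MulAction.IsPreprimitive.isCoatom_stabilizer_of_isPreprimitive _ _
    have hbot : MulAction.stabilizer (MulAction.stabilizer G α)
        (⟨ω, MulAction.mem_orbit_self ω⟩ : MulAction.orbit (MulAction.stabilizer G α) ω) = ⊥ :=
      eq_bot_iff.2 fun x hx => Subgroup.mem_bot.2
        (hfree x (htop ▸ Subgroup.mem_top x) (congrArg Subtype.val (MulAction.mem_stabilizer_iff.1 hx)))
    rw [hbot] at hco
    apply hHp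
    obtain ⟨q, hq, hqd⟩ := Nat.exists_prime_and_dvd
      (n := Nat.card (MulAction.stabilizer G α)) fun h => hH1 (Subgroup.card_eq_one.1 h)
    haveI := Fact.mk hq
    obtain ⟨x, hx⟩ := exists_prime_orderOf_dvd_card' (G := MulAction.stabilizer G α) q hqd
    have hz : Subgroup.zpowers x = ⊤ := hco.2 _ (bot_lt_iff_ne_bot.2 fun h => by
      rw [Subgroup.zpowers_eq_bot] at h
      rw [h, orderOf_one] at hx
      exact hq.one_lt.ne hx)
    rw [← Subgroup.card_top, ← hz, Nat.card_zpowers, hx]
    exact hq
  refine ⟨hZ, ?_⟩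
  haveI hFn : (Cfsg.fittingSubgroup (MulAction.stabilizer G α)).Normal := CfsgLib.Cores.fittingSubgroup_normal
  by_cases hF : Cfsg.fittingSubgroup (MulAction.stabilizer G α) = ⊥
  · rw [hF]
    exact ⟨inferInstance, 2, 0, Nat.prime_two, by simp, fun x hx => by
      rw [Subgroup.mem_bot.1 hx, one_pow], fun h => absurd rfl h⟩
  set F := Cfsg.fittingSubgroup (MulAction.stabilizer G α) with hFdef
  haveI : Group.IsNilpotent F := CfsgLib.Cores.isNilpotent_fittingSubgroup
  haveI : Nontrivial F := (Subgroup.nontrivial_iff_ne_bot F).2 hF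
  have hCne : (Subgroup.center F).map F.subtype ≠ ⊥ := by
    rw [Ne, Subgroup.map_eq_bot_iff_of_injective _ F.subtype_injective]
    exact Group.IsNilpotent.center_ne_bot F
  obtain ⟨A, hAn, hA, hAle, hmin⟩ := exists_minimal_normal _ hCne
  haveI := hAn
  have hAcomm : ∀ a ∈ A, ∀ x ∈ F, a * x = x * a := by
    intro a ha x hx
    obtain ⟨c, hc, rfl⟩ := hAle ha
    exact (congrArg Subtype.val (Subgroup.mem_center_iff.1 hc ⟨x, hx⟩)).symm
  have hAc : IsMulCommutative A := ⟨⟨fun a b => Subtype.ext (hAcomm a a.2 b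
    (Subgroup.map_subtype_le _ (hAle b.2)))⟩⟩
  obtain ⟨-, -, hcen, -⟩ := hreg A hAn hA hAc ω hω
  have hFA : F = A := le_antisymm
    (fun x hx => hcen (Subgroup.mem_centralizer_iff.2 fun a ha => hAcomm a ha x hx))
    (hAle.trans (Subgroup.map_subtype_le _))
  rw [hFA]
  obtain ⟨p, e, hp, he, hexp⟩ := exists_prime_exponent A
    (fun a ha b hb => hAcomm a ha b (hFA ▸ hb)) hA hmin
  haveI := Fact.mk hp
  refine ⟨hAc, p, e, hp, he, hexp, fun _ => ⟨?_, ?_⟩⟩
  · rw [← he]
    refine card_dvd_pred_of_free (A := A) α (fun a => (a : MulAction.stabilizer G α).2) ?_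
    intro a x ha hax
    by_contra hx
    exact ha (Subtype.ext ((hreg A hAn hA hAc x hx).1 a a.2 hax))
  · obtain ⟨φ, hφ⟩ := exists_conj_GL A p e hexp he
    refine ⟨φ, hφ.trans (le_antisymm hcen fun a ha => Subgroup.mem_centralizer_iff.2 fun b hb => ?_)⟩
    exact hAcomm b hb a (hFA.symm ▸ ha)

end Cfsg.Agent.S3497
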