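import Cfsg.Statements.S3498

set_option autoImplicit false
open Cfsg

namespace Cfsg.Agent.S3498

/-- A maximal subgroup of a finite almost simple group does not have prime order. Here G is almost simple in the sense that it has a non-abelian simple normal subgroup T with trivial centralizer. -/
theorem result {G : Type*} [Group G] [Finite G] (T : Subgroup G) [T.Normal] (hT : IsSimpleGroup T) (hTc : ¬ IsMulCommutative T)
    (hC : Subgroup.centralizer (T : Set G) = ⊥) (H : Subgroup G) (hmax : IsCoatom H) : ¬ (Nat.card H).Prime := by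
  intro hp
  set p := Nat.card H with hpdef
  haveI := Fact.mk hp
  haveI : IsCyclic H := isCyclic_of_prime_card hpdef.symm
  have hHne : H ≠ ⊥ := fun e => hp.ne_one (by rw [hpdef, e, Subgroup.card_bot])
  have hHnn : ¬ H.Normal := by
    intro hn
    have hb : H ⊓ T = ⊥ := by
      rw [eq_bot_iff]
      intro x hx
      by_contra hx1
      have hne : H.subgroupOf T ≠ ⊥ := fun e => hx1 (by
        have : (⟨x, hx.2⟩ : T) ∈ H.subgroupOf T := hx.1
        rw [e, Subgroup.mem_bot] at this
        exact congrArg Subtype.val this)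
      have ht := ((inferInstance : (H.subgroupOf T).Normal).eq_bot_or_eq_top).resolve_left hne
      rw [Subgroup.subgroupOf_eq_top] at ht
      exact hTc ⟨⟨fun a b => Subtype.ext (congrArg Subtype.val
        ((IsMulCommutative.is_comm (M := H)).comm ⟨a, ht a.2⟩ ⟨b, ht b.2⟩) :)⟩⟩
    have hcen : H ≤ Subgroup.centralizer (T : Set G) := by
      intro x hx
      rw [Subgroup.mem_centralizer_iff]
      intro t ht
      exact (Subgroup.commute_of_normal_of_disjoint H T hn inferInstance (disjoint_iff.2 hb) x t hx ht).symm
    exact hHne (le_bot_iff.1 (hC ▸ hcen))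
  have hnorm : Subgroup.normalizer (H : Set G) = H :=
    (eq_or_ne (Subgroup.normalizer (H : Set G)) H).elim id fun h =>
      absurd (Subgroup.normalizer_eq_top_iff.1 (hmax.2 _ (lt_of_le_of_ne Subgroup.le_normalizer h.symm))) hHnn
  -- a Sylow subgroup containing `H` equals `H`
  obtain ⟨P, hP⟩ := (IsPGroup.of_card (p := p) (n := 1) (by rw [pow_one]) : IsPGroup p H).exists_le_sylow
  have hPH : (P : Subgroup G) = H := by
    by_contra hne
    have hlt : H.subgroupOf (P : Subgroup G) < ⊤ := lt_top_iff_ne_top.2 fun e =>
      hne (le_antisymm (Subgroup.subgroupOf_eq_top.1 e) hP)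
    haveI : Group.IsNilpotent (P : Subgroup G) := P.2.isNilpotent
    have hgrow := Group.normalizerCondition_of_isNilpotent (G := (P : Subgroup G)) _ hlt
    obtain ⟨x, hx, hx'⟩ := SetLike.exists_of_lt hgrow
    apply hx'
    rw [Subgroup.mem_subgroupOf, ← hnorm, Subgroup.mem_normalizer_iff]
    intro g
    have h1 := Subgroup.mem_normalizer_iff.1 hx
    constructor
    · intro hg
      exact (h1 ⟨g, hP hg⟩).1 hg
    · intro hg
      have hgP : g ∈ (P : Subgroup G) := by
        simpa [mul_assoc] using mul_mem (mul_mem (inv_mem x.2) (hP hg)) x.2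
      exact (h1 ⟨g, hgP⟩).2 hg
  by_cases hle : H ≤ T
  · -- `T = G` is simple: Burnside
    have hT' : T = ⊤ := by
      rcases eq_or_lt_of_le hle with e | e
      · exact absurd (e ▸ (inferInstance : T.Normal)) hHnn
      · exact hmax.2 T e
    have hnc : Subgroup.normalizer (P : Set G) ≤ Subgroup.centralizer (P : Set G) := by
      rw [show (P : Set G) = (H : Set G) from by rw [← hPH]; rfl, hnorm]
      exact H.le_centralizer
    have hcomp := MonoidHom.ker_transferSylow_isComplement' P hnc
    set K := (MonoidHom.transferSylow P hnc).ker with hK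
    rw [hPH] at hcomp
    by_cases hKb : K = ⊥
    · rw [hKb, Subgroup.isComplement'_bot_left] at hcomp
      exact hmax.1 hcomp
    · have hne : K.subgroupOf T ≠ ⊥ := by
        intro e
        apply hKb
        rw [eq_bot_iff]
        intro x hx
        have : (⟨x, hT' ▸ Subgroup.mem_top x⟩ : T) ∈ K.subgroupOf T := hx
        rw [e, Subgroup.mem_bot] at this
        exact congrArg Subtype.val this
      have ht := ((inferInstance : (K.subgroupOf T).Normal).eq_bot_or_eq_top).resolve_left hne
      rw [Subgroup.subgroupOf_eq_top, hT'] at ht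
      exact hHne (disjoint_self.1 (hcomp.disjoint.mono_left (le_top.trans ht)))
  · -- `H` normalises a Sylow subgroup of `T`
    have hb : H ⊓ T = ⊥ := by
      rcases ((Nat.dvd_prime hp).1 (Subgroup.card_dvd_of_le (inf_le_left : H ⊓ T ≤ H))) with e | e
      · exact Subgroup.eq_bot_of_card_eq _ e
      · exact absurd (Subgroup.eq_of_le_of_card_ge inf_le_left e.ge ▸ (inf_le_right : H ⊓ T ≤ T)) hle
    haveI hTnt : Nontrivial T := IsSimpleGroup.toNontrivial
    obtain ⟨r, hr, hrd⟩ := Nat.exists_prime_and_dvd (Finite.one_lt_card (α := T)).ne'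
    haveI := Fact.mk hr
    have hpT : ¬ p ∣ Nat.card T := by
      intro hd
      have hd' : p ^ (0 + 1 + 1) ∣ Nat.card G := by
        obtain ⟨a, ha⟩ := hd
        have h1 : Nat.card (H ⊔ T : Subgroup G) ∣ Nat.card G := Subgroup.card_subgroup_dvd_card _
        have h2 : Nat.card (H ⊔ T : Subgroup G) = p * Nat.card T := by
          have h3 := Subgroup.relIndex_sup_right H T
          have h4 : T.relIndex H = p := by
            rw [← Subgroup.inf_relIndex_right, inf_comm, hb, Subgroup.relIndex_bot_left]
          rw [h4] at h3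
          rw [← Subgroup.card_mul_index (T.subgroupOf (H ⊔ T)),
            Nat.card_congr (Subgroup.subgroupOfEquivOfLe (le_sup_right : T ≤ H ⊔ T)).toEquiv,
            ← Subgroup.relIndex, h3, mul_comm]
        rw [h2, ha] at h1
        exact (Dvd.intro a (by ring)).trans h1
      have := P.pow_dvd_card_of_pow_dvd_card hd'
      rw [hPH, ← hpdef] at this
      have h5 := Nat.le_of_dvd hp.pos this
      rw [zero_add, pow_succ, pow_one] at h5
      nlinarith [hp.two_le]
    obtain ⟨R0⟩ := (inferInstance : Nonempty (Sylow r T))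
    have hdvd : ¬ p ∣ Nat.card (Sylow r T) := fun h => hpT (h.trans
      ((Sylow.card_dvd_index R0).trans (Subgroup.index_dvd_card _)))
    letI : MulAction H (Sylow r T) := MulAction.compHom _ ((MulAut.conjNormal (H := T)).comp H.subtype)
    obtain ⟨R, hR⟩ := (IsPGroup.of_card (p := p) (n := 1) (by rw [pow_one]) :
      IsPGroup p H).nonempty_fixed_point_of_prime_not_dvd_card (Sylow r T) hdvd
    set R' := (R : Subgroup T).map T.subtype with hR'
    have hHn : H ≤ Subgroup.normalizer (R' : Set G) := by
      have key : ∀ t ∈ H, ∀ x ∈ R', t * x * t⁻¹ ∈ R' := by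
        intro t ht x hx
        obtain ⟨y, hy, rfl⟩ := hx
        have hfix : MulAut.conjNormal (H := T) t • R = R := hR ⟨t, ht⟩
        have : MulAut.conjNormal (H := T) t y ∈ (R : Subgroup T) := by
          rw [← hfix, Sylow.pointwise_smul_def]
          exact Subgroup.smul_mem_pointwise_smul y _ _ hy
        exact ⟨_, this, by simp [MulAut.conjNormal_apply]⟩
      intro h hh
      rw [Subgroup.mem_normalizer_iff]
      intro x
      refine ⟨key h hh x, fun hx => ?_⟩
      simpa [mul_assoc] using key h⁻¹ (inv_mem hh) _ hx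
    have hRb : R' ≠ ⊥ := by
      rw [hR', Ne, (R : Subgroup T).map_eq_bot_iff_of_injective T.subtype_injective]
      exact R.ne_bot_of_dvd_card hrd
    have hR'n : R'.Normal := by
      rw [← Subgroup.normalizer_eq_top_iff]
      refine hmax.2 _ (lt_of_le_of_ne hHn fun e => hRb ?_)
      rw [eq_bot_iff, ← hb]
      exact le_inf ((e ▸ Subgroup.le_normalizer : R' ≤ H)) (Subgroup.map_subtype_le _)
    have hRn : (R : Subgroup T).Normal := by
      have := (inferInstance : (R'.subgroupOf T).Normal)
      rwa [hR', Subgroup.subgroupOf, Subgroup.comap_map_eq_self_of_injective T.subtype_injective] at this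
    have htop := hRn.eq_bot_or_eq_top.resolve_left (R.ne_bot_of_dvd_card hrd)
    have hTr : IsPGroup r T := (R.2.of_equiv ((MulEquiv.subgroupCongr htop).trans Subgroup.topEquiv))
    haveI := hTr.center_nontrivial
    have hcen := (inferInstance : (Subgroup.center T).Normal).eq_bot_or_eq_top.resolve_left
      ((Subgroup.nontrivial_iff_ne_bot _).1 inferInstance)
    exact hTc ⟨⟨fun a b => ((Subgroup.mem_center_iff.1 (hcen ▸ Subgroup.mem_top b)) a)⟩⟩

end Cfsg.Agent.S3498
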