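import Cfsg.Statements.S3501
import Cfsg.Agent.Lib.Recognition.SimplePower
import Cfsg.Agent.Lib.Recognition.Derangement

set_option autoImplicit false
open Cfsg
open CfsgLib.Recognition.SimplePower

namespace Cfsg.Agent.S3501

/-- Let a finite group G act faithfully and primitively on a finite set Ω with at least two points, and suppose G is not almost simple (it has no non-abelian simple normal subgroup with trivial centralizer). Then the derangements of G form a single conjugacy class if and only if G is sharply 2-transitive (2-transitive, and no non-identity element fixes two points). -/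
theorem result {G : Type*} [Group G] [Finite G] {Ω : Type*} [Fintype Ω] [MulAction G Ω] [FaithfulSMul G Ω] (hΩ : 2 ≤ Fintype.card Ω) (hprim : MulAction.IsPreprimitive G Ω) (hnas : ¬ ∃ T : Subgroup G, T.Normal ∧ IsSimpleGroup T ∧ ¬ IsMulCommutative T ∧ Subgroup.centralizer (T : Set G) = ⊥) :
    Nat.card {c : ConjClasses G // ∃ g : G, ConjClasses.mk g = c ∧ ∀ ω : Ω, g • ω ≠ ω} = 1 ↔ (MulAction.IsMultiplyPretransitive G Ω 2 ∧ ∀ g : G, g ≠ 1 → ∀ a b : Ω, a ≠ b → g • a = a → g • b ≠ b) := by
  classical
  haveI : Nontrivial Ω := Fintype.one_lt_card_iff_nontrivial.1 (by omega)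
  haveI := hprim
  obtain ⟨α, β₀, hαβ⟩ := exists_pair_ne Ω
  constructor
  · intro hκ
    have hone : ∀ x y : G, (∀ ω : Ω, x • ω ≠ ω) → (∀ ω : Ω, y • ω ≠ ω) → IsConj x y := by
      intro x y hx hy
      haveI := Finite.card_le_one_iff_subsingleton.1 hκ.le
      exact ConjClasses.mk_eq_mk_iff_isConj.1 (congrArg Subtype.val (Subsingleton.elim
        (⟨_, x, rfl, hx⟩ : {c : ConjClasses G // ∃ g : G, ConjClasses.mk g = c ∧ ∀ ω : Ω, g • ω ≠ ω})
        ⟨_, y, rfl, hy⟩))
    have htrans : ∀ M : Subgroup G, M.Normal → M ≠ ⊥ → MulAction.IsPretransitive M Ω := by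
      intro M hM hne
      haveI := hM
      refine MulAction.IsQuasiPreprimitive.isPretransitive_of_normal fun h => hne ?_
      rw [eq_bot_iff]
      intro x hx
      refine Subgroup.mem_bot.2 (eq_of_smul_eq_smul (α := Ω) fun ω => ?_)
      rw [one_smul]
      exact (h ▸ Set.mem_univ ω : ω ∈ MulAction.fixedPoints M Ω) ⟨x, hx⟩
    haveI : Nontrivial G := by
      obtain ⟨g, hg⟩ := MulAction.exists_smul_eq G α β₀
      exact ⟨g, 1, fun h => hαβ (by rw [← hg, h, one_smul])⟩
    obtain ⟨N, ⟨hNn, hN⟩, hNmin⟩ := (Set.toFinite {N : Subgroup G | N.Normal ∧ N ≠ ⊥}).exists_minimal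
      ⟨⊤, inferInstance, top_ne_bot⟩
    haveI := hNn
    have hmin : ∀ K : Subgroup G, K.Normal → K ≤ N → K = ⊥ ∨ K = N := fun K hK hle =>
      or_iff_not_imp_left.mpr fun h => le_antisymm hle (hNmin ⟨hK, h⟩ hle)
    haveI hNt := htrans N inferInstance hN
    have hordconj : ∀ x y : G, IsConj x y → orderOf x = orderOf y := by
      intro x y h
      obtain ⟨g, rfl⟩ := isConj_iff.1 h
      exact (MulEquiv.orderOf_eq (MulAut.conj g) x).symm
    have hNc : IsMulCommutative N := by
      by_contra hnc
      obtain ⟨hns, h | h | ⟨S, _, _, _, m, hS, hm, ⟨e⟩⟩⟩ :=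
        minimal_normal_trichotomy htrans N hN hmin hnc
      · obtain ⟨a, b, c, ha, hb, -, hab, -, -⟩ := exists_three_elements hns
        have hd : ∀ t : N, t ≠ 1 → ∀ ω : Ω, (t : G) • ω ≠ ω := fun t ht ω h' => ht (h t ω h')
        have := hordconj _ _ (hone _ _ (hd a ha) (hd b hb))
        rw [Subgroup.orderOf_coe, Subgroup.orderOf_coe] at this
        exact hab this
      · exact hnas h
      · have hnsS := not_isSolvable_of_simple hS
        obtain ⟨a, b, c, ha, hb, hc, hab, hac, hbc⟩ := exists_three_elements hnsS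
        have hfix : MulAction.stabilizer N α ≠ ⊤ := by
          intro htop
          obtain ⟨n, hn⟩ := MulAction.exists_smul_eq N α β₀
          exact hαβ (((MulAction.mem_stabilizer_iff.1 (htop ▸ Subgroup.mem_top n)).symm.trans hn))
        have hconj : ∀ x x' : Fin m → S, IsConj ((e.symm x : N) : G) ((e.symm x' : N) : G) →
            ∃ π : Fin m ≃ Fin m, ∀ i, orderOf (x' (π i)) = orderOf (x i) := by
          intro x x' h
          obtain ⟨g, hg⟩ := isConj_iff.1 h
          obtain ⟨π, hπ⟩ := exists_perm_of_aut hS ((e.symm.trans (MulAut.conjNormal g)).trans e)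
          refine ⟨π, fun i => ?_⟩
          have hx' : ((e.symm.trans (MulAut.conjNormal g)).trans e) x = x' := by
            simp only [MulEquiv.trans_apply]
            rw [show MulAut.conjNormal g (e.symm x) = e.symm x' from Subtype.ext (by
              rw [MulAut.conjNormal_apply]; exact hg)]
            simp
          rw [← hx']; exact hπ x i
        obtain ⟨i, ⟨t, ht1, ht⟩ | hall⟩ := derangement_coord α N hNt hfix e
        · haveI : Nontrivial (Fin m) := Fin.nontrivial_iff_two_le.2 hm
          obtain ⟨j, hj⟩ := exists_ne i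
          obtain ⟨π, hπ⟩ := hconj (Pi.mulSingle i t * Pi.mulSingle j t) (Pi.mulSingle i t)
            (hone _ _ (ht _ (by simp [hj.symm])) (ht _ (by simp)))
          have key : ∀ l, orderOf ((Pi.mulSingle i t * Pi.mulSingle j t : Fin m → S) l) = orderOf t →
              π l = i := by
            intro l hl
            by_contra hne
            have := hπ l
            rw [hl, Pi.mulSingle_eq_of_ne hne, orderOf_one] at this
            exact ht1 (orderOf_eq_one_iff.1 this.symm)
          exact hj (π.injective ((key j (by simp [hj])).trans (key i (by simp [hj.symm])).symm))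
        · have := hordconj _ _ (hone _ _ (hall a ha) (hall b hb))
          have hord : ∀ t : S, orderOf ((e.symm (Pi.mulSingle i t) : N) : G) = orderOf t := by
            intro t
            rw [Subgroup.orderOf_coe, MulEquiv.orderOf_eq]
            exact orderOf_injective (MonoidHom.mulSingle (fun _ : Fin m => S) i)
              (Pi.mulSingle_injective (M := fun _ : Fin m => S) i) t
          rw [hord, hord] at this
          exact hab this
    have hreg : ∀ (n : N) (ω : Ω), n • ω = ω → n = 1 := by
      intro n ω h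
      refine Subtype.ext (eq_of_smul_eq_smul (α := Ω) fun τ => ?_)
      obtain ⟨c, hc⟩ := MulAction.exists_smul_eq N ω τ
      change n • τ = (1 : G) • τ
      rw [one_smul, ← hc, ← mul_smul, hNc.is_comm.comm n c, mul_smul, h]
    have hder : ∀ x ∈ N, x ≠ 1 → ∀ ω : Ω, x • ω ≠ ω := fun x hx hx1 ω h =>
      hx1 (congrArg Subtype.val (hreg ⟨x, hx⟩ ω h))
    have hin : ∀ g : G, g ∉ N → ∃ ω : Ω, g • ω = ω := by
      intro g hg
      by_contra h
      simp only [not_exists] at h
      obtain ⟨x, hx, hx1⟩ := N.ne_bot_iff_exists_ne_one.1 hN |> fun ⟨x, hx⟩ => (⟨x.1, x.2, fun e => hx (Subtype.ext e)⟩ : ∃ x ∈ N, x ≠ 1)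
      obtain ⟨c, hc⟩ := isConj_iff.1 (hone x g (hder x hx hx1) h)
      exact hg (hc ▸ hNn.conj_mem x hx c)
    refine ⟨?_, fun g hg a b hab ha hb => ?_⟩
    · have key : ∀ β γ : Ω, β ≠ α → γ ≠ α → ∃ h ∈ MulAction.stabilizer G α, h • β = γ := by
        intro β γ hβ hγ
        obtain ⟨x, hx⟩ := MulAction.exists_smul_eq N α β
        obtain ⟨y, hy⟩ := MulAction.exists_smul_eq N α γ
        have hx1 : (x : G) ≠ 1 := fun h => hβ (by rw [← hx, Subgroup.smul_def, h, one_smul])
        have hy1 : (y : G) ≠ 1 := fun h => hγ (by rw [← hy, Subgroup.smul_def, h, one_smul])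
        obtain ⟨g, hg⟩ := isConj_iff.1 (hone x y (hder x x.2 hx1) (hder y y.2 hy1))
        obtain ⟨n, hn⟩ := MulAction.exists_smul_eq N (g • α) α
        have hy' : g * x * g⁻¹ ∈ N := hNn.conj_mem x x.2 g
        have hc : (n : G) * (g * x * g⁻¹) = g * x * g⁻¹ * n :=
          congrArg Subtype.val (hNc.is_comm.comm n ⟨_, hy'⟩)
        have hh : ((n : G) * g) • α = α := by rw [mul_smul]; exact hn
        refine ⟨(n : G) * g, MulAction.mem_stabilizer_iff.2 hh, ?_⟩
        rw [← hx, Subgroup.smul_def, ← mul_smul,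
          show (n : G) * g * x = (g * x * g⁻¹) * ((n : G) * g) by
            rw [show (n : G) * g * x = (n : G) * (g * x * g⁻¹) * g by group, hc]; group,
          mul_smul, hh, hg]
        exact hy
      rw [MulAction.is_two_pretransitive_iff]
      intro a b c d hab hcd
      obtain ⟨g₁, hg₁⟩ := MulAction.exists_smul_eq G a α
      obtain ⟨g₂, hg₂⟩ := MulAction.exists_smul_eq G c α
      obtain ⟨h, hh, e⟩ := key (g₁ • b) (g₂ • d)
        (fun h' => hab (MulAction.injective g₁ (hg₁.trans h'.symm)))
        (fun h' => hcd (MulAction.injective g₂ (hg₂.trans h'.symm)))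
      refine ⟨g₂⁻¹ * h * g₁, ?_, ?_⟩
      · rw [mul_smul, mul_smul, hg₁, MulAction.mem_stabilizer_iff.1 hh, ← hg₂, inv_smul_smul]
      · rw [mul_smul, mul_smul, e, inv_smul_smul]
    · by_cases hgN : g ∈ N
      · exact hder g hgN hg a ha
      · exact hab (CfsgLib.Recognition.fixed_unique (X := Ω) N hin g hgN a b ha hb)
  · rintro ⟨h2, hsharp⟩
    have h2' : ∀ {a b c d : Ω}, a ≠ b → c ≠ d → ∃ g : G, g • a = c ∧ g • b = d :=
      MulAction.is_two_pretransitive_iff.1 h2
    haveI := Fintype.ofFinite G
    obtain ⟨n, hn⟩ : ∃ n, Fintype.card Ω = n := ⟨_, rfl⟩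
    -- counting
    have hsum := MulAction.sum_card_fixedBy_eq_card_orbits_mul_card_group G Ω
    have horb : Fintype.card (Quotient (MulAction.orbitRel G Ω)) = 1 := by
      haveI := (MulAction.pretransitive_iff_subsingleton_quotient G Ω).1 inferInstance
      exact Fintype.card_eq_one_iff.2 ⟨Quotient.mk'' α, fun a => Subsingleton.elim _ _⟩
    rw [horb, one_mul] at hsum
    have hle : ∀ g : G, g ≠ 1 → Fintype.card (MulAction.fixedBy Ω g) ≤ 1 := by
      intro g hg
      refine Fintype.card_le_one_iff.2 fun a b => Subtype.ext ?_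
      by_contra hab
      exact hsharp g hg a b hab a.2 b.2
    let D := Finset.univ.filter fun g : G => ∀ ω : Ω, g • ω ≠ ω
    have hsplit : ∀ g : G, g ≠ 1 →
        Fintype.card (MulAction.fixedBy Ω g) + (if g ∈ D then 1 else 0) = 1 := by
      intro g hg
      by_cases hd : g ∈ D
      · rw [if_pos hd]
        have : Fintype.card (MulAction.fixedBy Ω g) = 0 := Fintype.card_eq_zero_iff.2
          ⟨fun a => (Finset.mem_filter.1 hd).2 a.1 a.2⟩
        omega
      · rw [if_neg hd]
        simp only [D, Finset.mem_filter, Finset.mem_univ, true_and, not_forall, not_not] at hd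
        obtain ⟨ω, hω⟩ := hd
        rw [add_zero]
        exact le_antisymm (hle g hg) (Fintype.card_pos_iff.2 ⟨⟨ω, hω⟩⟩)
    have h1D : (1 : G) ∉ D := fun h => (Finset.mem_filter.1 h).2 α (one_smul _ _)
    have hfix1 : Fintype.card (MulAction.fixedBy Ω (1 : G)) = n := by
      rw [← hn]
      exact Fintype.card_congr ⟨Subtype.val, fun a => ⟨a, by simp⟩, fun a => Subtype.ext rfl, fun a => rfl⟩
    have hD : D.card + 1 = n := by
      have e1 : ∑ g : G, (Fintype.card (MulAction.fixedBy Ω g) + (if g ∈ D then 1 else 0)) =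
          n + (Fintype.card G - 1) := by
        rw [← Finset.add_sum_erase _ _ (Finset.mem_univ (1 : G)), if_neg h1D, add_zero, hfix1,
          Finset.sum_congr rfl (fun g hg => hsplit g (Finset.ne_of_mem_erase hg)),
          ← Finset.card_eq_sum_ones, Finset.card_erase_of_mem (Finset.mem_univ _), Finset.card_univ]
      rw [Finset.sum_add_distrib, hsum, Finset.sum_ite_mem, Finset.univ_inter,
        ← Finset.card_eq_sum_ones] at e1
      have := Fintype.card_pos (α := G)
      omega
    -- the stabiliser has order n - 1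
    have hstab : n - 1 ≤ Nat.card (MulAction.stabilizer G α) := by
      have hc : Nat.card {w : Ω // w ≠ α} = n - 1 := by
        rw [Nat.card_eq_fintype_card, Fintype.card_subtype_compl, Fintype.card_subtype_eq, hn]
      rw [← hc]
      refine Nat.card_le_card_of_surjective (fun h : MulAction.stabilizer G α =>
        (⟨(h : G) • β₀, fun e => hαβ ((MulAction.injective (h : G)
          (e.trans (MulAction.mem_stabilizer_iff.1 h.2).symm)).symm)⟩ : {w : Ω // w ≠ α})) ?_
      rintro ⟨w, hw⟩
      obtain ⟨g, hg1, hg2⟩ := h2' hαβ (Ne.symm hw)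
      exact ⟨⟨g, hg1⟩, Subtype.ext hg2⟩
    obtain ⟨x, hx⟩ : D.Nonempty := Finset.card_pos.1 (by omega)
    have hxd := (Finset.mem_filter.1 hx).2
    let K : Finset G := Finset.univ.image fun h : MulAction.stabilizer G α => (h : G) * x * (h : G)⁻¹
    have hKD : K = D := by
      refine Finset.eq_of_subset_of_card_le ?_ ?_
      · intro y hy
        obtain ⟨h, -, rfl⟩ := Finset.mem_image.1 hy
        refine Finset.mem_filter.2 ⟨Finset.mem_univ _, fun ω e => hxd ((h : G)⁻¹ • ω) ?_⟩
        rw [mul_smul, mul_smul] at e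
        exact eq_inv_smul_iff.2 e
      · rw [Finset.card_image_of_injective]
        · rw [Finset.card_univ, ← Nat.card_eq_fintype_card]; omega
        · intro a b hab
          change (a : G) * x * (a : G)⁻¹ = (b : G) * x * (b : G)⁻¹ at hab
          by_contra hne
          have hk : ((b : G)⁻¹ * a) ≠ 1 := fun e => hne (Subtype.ext (inv_mul_eq_one.1 e).symm)
          have hkα : ((b : G)⁻¹ * a) • α = α := MulAction.mem_stabilizer_iff.1
            ((MulAction.stabilizer G α).mul_mem ((MulAction.stabilizer G α).inv_mem b.2) a.2)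
          refine hsharp _ hk α (x • α) (fun e => hxd α e.symm) hkα ?_
          rw [← mul_smul, show (b : G)⁻¹ * a * x = x * ((b : G)⁻¹ * a) by
            calc (b : G)⁻¹ * a * x = (b : G)⁻¹ * ((a : G) * x * (a : G)⁻¹) * a := by group
              _ = x * ((b : G)⁻¹ * a) := by rw [hab]; group, mul_smul, hkα]
    refine Nat.card_eq_one_iff_unique.2 ⟨⟨?_⟩, ⟨⟨_, x, rfl, hxd⟩⟩⟩
    rintro ⟨_, g, rfl, hg⟩ ⟨_, g', rfl, hg'⟩
    have key : ∀ g : G, (∀ ω : Ω, g • ω ≠ ω) → IsConj x g := by
      intro g hg
      have hgK : g ∈ K := hKD ▸ Finset.mem_filter.2 ⟨Finset.mem_univ _, hg⟩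
      obtain ⟨h, -, rfl⟩ := Finset.mem_image.1 hgK
      exact isConj_iff.2 ⟨h, rfl⟩
    exact Subtype.ext (ConjClasses.mk_eq_mk_iff_isConj.2 ((key g hg).symm.trans (key g' hg')))

end Cfsg.Agent.S3501
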