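import Cfsg.Statements.S3504

set_option autoImplicit false
open Cfsg

namespace Cfsg.Agent.S3504

/-- For n ≥ 5, the fixed-point-free permutations of prime order in the symmetric group of degree n form a single conjugacy class if and only if n is a prime power. -/
theorem result (n : ℕ) (hn : 5 ≤ n) :
    Nat.card {c : ConjClasses (Equiv.Perm (Fin n)) // ∃ g : Equiv.Perm (Fin n), ConjClasses.mk g = c ∧ (orderOf g).Prime ∧ ∀ i : Fin n, g i ≠ i} = 1 ↔ IsPrimePow n := by
  classical
  have hex : ∀ r : n.primeFactors, ∃ g : Equiv.Perm (Fin n),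
      g.cycleType = Multiset.replicate (n / r) (r : ℕ) := fun r =>
    (Equiv.Perm.exists_with_cycleType_iff (α := Fin n)).2
      ⟨by rw [Multiset.sum_replicate, smul_eq_mul, Fintype.card_fin]; exact Nat.div_mul_le_self n r,
        fun a ha => by
          rw [Multiset.eq_of_mem_replicate ha]
          exact (Nat.prime_of_mem_primeFactors r.2).two_le⟩
  choose g hg using hex
  have hord : ∀ r : n.primeFactors, orderOf (g r) = r := by
    intro r
    rw [← (g r).lcm_cycleType, hg]
    have hdiv : 0 < n / (r : ℕ) := Nat.div_pos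
      (Nat.le_of_dvd (by omega) (Nat.dvd_of_mem_primeFactors r.2))
      (Nat.prime_of_mem_primeFactors r.2).pos
    refine Nat.dvd_antisymm (Multiset.lcm_dvd.2 fun b hb => ?_)
      (Multiset.dvd_lcm (Multiset.mem_replicate.2 ⟨hdiv.ne', rfl⟩))
    rw [Multiset.eq_of_mem_replicate hb]
  have hfpf : ∀ (r : n.primeFactors) (i : Fin n), g r i ≠ i := by
    intro r i
    have hs : (g r).support.card = n := by
      rw [← (g r).sum_cycleType, hg, Multiset.sum_replicate, smul_eq_mul,
        Nat.div_mul_cancel (Nat.dvd_of_mem_primeFactors r.2)]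
    rw [← Equiv.Perm.mem_support, Finset.eq_univ_of_card _ (hs.trans (Fintype.card_fin n).symm)]
    exact Finset.mem_univ i
  let F : n.primeFactors → {c : ConjClasses (Equiv.Perm (Fin n)) // ∃ g : Equiv.Perm (Fin n),
      ConjClasses.mk g = c ∧ (orderOf g).Prime ∧ ∀ i : Fin n, g i ≠ i} := fun r =>
    ⟨ConjClasses.mk (g r), g r, rfl, by rw [hord]; exact Nat.prime_of_mem_primeFactors r.2, hfpf r⟩
  have hF : Function.Bijective F := by
    refine ⟨fun a b h => ?_, fun c => ?_⟩
    · obtain ⟨t, ht⟩ := isConj_iff.1 (ConjClasses.mk_eq_mk_iff_isConj.1 (congrArg Subtype.val h))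
      refine Subtype.ext ?_
      rw [← hord a, ← hord b, ← ht, ← MulAut.conj_apply, MulEquiv.orderOf_eq]
    · obtain ⟨c, u, rfl, hu, hu'⟩ := c
      obtain ⟨m, hm⟩ := u.cycleType_prime_order hu
      have hsum : (m + 1) * orderOf u = n := by
        have hall : u.support = Finset.univ :=
          Finset.eq_univ_of_forall fun i => Equiv.Perm.mem_support.2 (hu' i)
        have := u.sum_cycleType
        rwa [hm, Multiset.sum_replicate, smul_eq_mul, hall, Finset.card_univ, Fintype.card_fin] at this
      refine ⟨⟨orderOf u, Nat.mem_primeFactors.2 ⟨hu, Dvd.intro_left _ hsum, by omega⟩⟩, ?_⟩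
      refine Subtype.ext (ConjClasses.mk_eq_mk_iff_isConj.2 (Equiv.Perm.isConj_iff_cycleType_eq.2 ?_))
      rw [hg, hm]
      congr 1
      exact Nat.div_eq_of_eq_mul_left hu.pos hsum.symm
  rw [← Nat.card_eq_of_bijective F hF, Nat.card_eq_fintype_card, Fintype.card_coe,
    isPrimePow_iff_card_primeFactors_eq_one]

end Cfsg.Agent.S3504
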