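import Cfsg.Statements.S3508

set_option autoImplicit false
open Cfsg

namespace Cfsg.Agent.S3508

theorem geom_eq (p k : ℕ) [Fact p.Prime] {V : Type*} [AddCommGroup V] [Module (ZMod p) V]
    (T : Module.End (ZMod p) V) :
    ∑ i ∈ Finset.range (p ^ k), T ^ i = (T - 1) ^ (p ^ k - 1) ∧
      T ^ (p ^ k) - 1 = (T - 1) ^ (p ^ k) := by
  have h2 : ((Polynomial.X : Polynomial (ZMod p)) - 1) ^ (p ^ k) = Polynomial.X ^ (p ^ k) - 1 := by
    rw [sub_pow_char_pow, one_pow]
  have h1 : ∑ i ∈ Finset.range (p ^ k), (Polynomial.X : Polynomial (ZMod p)) ^ i =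
      (Polynomial.X - 1) ^ (p ^ k - 1) := by
    have hne : (Polynomial.X : Polynomial (ZMod p)) - 1 ≠ 0 := by
      have := Polynomial.X_sub_C_ne_zero (1 : ZMod p)
      rwa [Polynomial.C_1] at this
    apply mul_right_cancel₀ hne
    rw [geom_sum_mul, ← pow_succ, Nat.sub_add_cancel (Nat.one_le_pow _ _ (Fact.out : p.Prime).pos), h2]
  constructor
  · have := congrArg (Polynomial.aeval T) h1
    simpa using this
  · have := congrArg (Polynomial.aeval T) h2
    simpa using this.symm

theorem nilp_index {p m : ℕ} [Fact p.Prime] {V : Type*} [AddCommGroup V] [Module (ZMod p) V]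
    [Finite V] (hV : Nat.card V = p ^ m) {D : Module.End (ZMod p) V} (hD : IsNilpotent D) :
    D ^ m = 0 := by
  have hm : Module.finrank (ZMod p) V = m := by
    have := Module.natCard_eq_pow_finrank (K := ZMod p) (V := V)
    rw [hV, Nat.card_zmod] at this
    exact (Nat.pow_right_injective (Fact.out : p.Prime).two_le this).symm
  have := LinearMap.isNilpotent_iff_charpoly D |>.1 hD
  have h := LinearMap.aeval_self_charpoly D
  rw [this, map_pow, Polynomial.aeval_X, hm] at h
  exact h

theorem unipotent_bound_aux {p m : ℕ} [Fact p.Prime] {M : Type*} [CommGroup M] [Finite M]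
    [Module (ZMod p) (Additive M)] (hcard : Nat.card M = p ^ m) (f : M →* M) {r k : ℕ}
    (hr : ∀ v, f^[p ^ r] v = v)
    (h : (∃ v, f^[p ^ k] v ≠ v) ∨ ∃ n : M, ∏ j ∈ Finset.range (p ^ k), f^[j] n ≠ 1) :
    p ^ k ≤ m := by
  let T : Module.End (ZMod p) (Additive M) := (MonoidHom.toAdditive f).toZModLinearMap p
  have hT : ∀ (i : ℕ) (v : M), (T ^ i) (Additive.ofMul v) = Additive.ofMul (f^[i] v) := by
    intro i
    induction i with
    | zero => intro v; rfl
    | succ i ih =>
      intro v
      rw [pow_succ', Module.End.mul_apply, ih, Function.iterate_succ_apply']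
      rfl
  have hT1 : T ^ (p ^ r) = 1 := LinearMap.ext fun v => by
    obtain ⟨v, rfl⟩ := Additive.ofMul.surjective v
    rw [hT, hr, Module.End.one_apply]
  have hnil : IsNilpotent (T - 1) := ⟨p ^ r, by rw [← (geom_eq p r T).2, hT1, sub_self]⟩
  have hDm := nilp_index (m := m) ((Nat.card_congr Additive.toMul).trans hcard) hnil
  by_contra hlt
  rcases h with ⟨v, hv⟩ | ⟨n, hn⟩
  · apply hv
    have h0 : T ^ (p ^ k) = 1 := by
      rw [← sub_eq_zero, (geom_eq p k T).2]
      exact pow_eq_zero_of_le (by omega) hDm
    have := hT (p ^ k) v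
    rw [h0, Module.End.one_apply] at this
    exact (Additive.ofMul.injective this).symm
  · apply hn
    have h0 : ∑ j ∈ Finset.range (p ^ k), T ^ j = 0 := by
      rw [(geom_eq p k T).1]
      exact pow_eq_zero_of_le (by omega) hDm
    have := LinearMap.congr_fun h0 (Additive.ofMul n)
    rw [LinearMap.sum_apply, Finset.sum_congr rfl (fun j _ => hT j n), ← ofMul_prod,
      LinearMap.zero_apply] at this
    exact Additive.ofMul.injective this

theorem unipotent_bound {p m : ℕ} [Fact p.Prime] {M : Type*} [CommGroup M] [Finite M]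
    (hexp : ∀ v : M, v ^ p = 1) (hcard : Nat.card M = p ^ m) (f : M →* M) {r k : ℕ}
    (hr : ∀ v, f^[p ^ r] v = v)
    (h : (∃ v, f^[p ^ k] v ≠ v) ∨ ∃ n : M, ∏ j ∈ Finset.range (p ^ k), f^[j] n ≠ 1) :
    p ^ k ≤ m :=
  @unipotent_bound_aux p m _ M _ _ (AddCommGroup.zmodModule fun v =>
    Additive.toMul.injective (by rw [toMul_nsmul, toMul_zero]; exact hexp _)) hcard f r k hr h

/-- Let a finite group G act faithfully on a set Ω with p ^ m points (p prime) and have an elementary abelian normal p-subgroup N acting regularly on Ω (so G is a group of affine transformations of an m-dimensional space over the field with p elements). If G contains an element of order p ^ r with r ≥ 1, then p ^ (r − 1) ≤ m. In particular an element of order p ^ m forces m ≤ 2, and m ≤ 1 when p is odd. -/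
theorem result {G : Type*} [Group G] [Finite G] {Ω : Type*} [Fintype Ω] [MulAction G Ω] [FaithfulSMul G Ω] (p m : ℕ) (hp : p.Prime) (hcard : Fintype.card Ω = p ^ m)
    (N : Subgroup G) [N.Normal] (hNc : IsMulCommutative N) (hNp : ∀ n ∈ N, n ^ p = 1)
    (hNtr : MulAction.IsPretransitive N Ω) (hNreg : ∀ ω : Ω, MulAction.stabilizer N ω = ⊥)
    (g : G) (r : ℕ) (hr : 1 ≤ r) (hg : orderOf g = p ^ r) :
    p ^ (r - 1) ≤ m ∧ (r = m → m ≤ 2 ∧ (2 < p → m ≤ 1)) := by
  classical
  haveI := Fact.mk hp
  haveI := hNtr
  have h1 : p ^ (r - 1) ≤ m := by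
    letI : CommGroup N := { (inferInstance : Group N) with mul_comm := fun a b => hNc.is_comm.comm a b }
    obtain ⟨ω⟩ : Nonempty Ω := by rw [← Fintype.card_pos_iff, hcard]; exact pow_pos hp.pos _
    have hcardN : Nat.card N = p ^ m := by
      rw [← hcard, ← Nat.card_eq_fintype_card]
      refine Nat.card_eq_of_bijective (fun v : N => v • ω)
        ⟨fun v w h => ?_, fun z => MulAction.exists_smul_eq N ω z⟩
      have : w⁻¹ * v ∈ MulAction.stabilizer N ω := by
        rw [MulAction.mem_stabilizer_iff, mul_smul, show v • ω = w • ω from h, inv_smul_smul]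
      rw [hNreg, Subgroup.mem_bot, inv_mul_eq_one] at this
      exact this.symm
    have hcen : ∀ x : G, (∀ v : N, MulAut.conjNormal x v = v) → x • ω = ω → x = 1 := by
      intro x hx hxω
      refine FaithfulSMul.eq_of_smul_eq_smul (α := Ω) fun z => ?_
      obtain ⟨v, rfl⟩ := MulAction.exists_smul_eq N ω z
      have h := congrArg Subtype.val (hx v)
      rw [MulAut.conjNormal_apply, mul_inv_eq_iff_eq_mul] at h
      rw [one_smul, Subgroup.smul_def, ← mul_smul, h, mul_smul, hxω]
    set f : N →* N := (MulAut.conjNormal g : N ≃* N).toMonoidHom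
    have hfi : ∀ (i : ℕ) (v : N), f^[i] v = MulAut.conjNormal (g ^ i) v := by
      intro i
      induction i with
      | zero => intro v; simp
      | succ i ih =>
        intro v
        rw [Function.iterate_succ_apply', ih, pow_succ', map_mul, MulAut.mul_apply]
        rfl
    refine unipotent_bound (r := r) (fun v => Subtype.ext (hNp v v.2)) hcardN f
      (fun v => by rw [hfi, ← hg, pow_orderOf_eq_one, map_one, MulAut.one_apply]) ?_
    set q := p ^ (r - 1) with hq
    by_cases hTq : ∃ v, f^[q] v ≠ v
    · exact Or.inl hTq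
    · push_neg at hTq
      -- the power lies in `N`
      have hcq : ∀ v : N, MulAut.conjNormal (g ^ q) v = v := fun v => by rw [← hfi, hTq]
      obtain ⟨n, hn⟩ := MulAction.exists_smul_eq N ω (g • ω)
      set u := (n : G)⁻¹ * g
      have hu : u • ω = ω := by
        rw [mul_smul, inv_smul_eq_iff]; exact hn.symm
      have hgu : g = n * u := by simp [u]
      have hupow : ∀ i : ℕ, (u ^ i) • ω = ω := fun i => by
        induction i with
        | zero => simp
        | succ i ih => rw [pow_succ, mul_smul, hu, ih]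
      have hconj : ∀ (i : ℕ) (v : N), MulAut.conjNormal (u ^ i) v = MulAut.conjNormal (g ^ i) v := by
        have h0 : ∀ v : N, MulAut.conjNormal u v = MulAut.conjNormal g v := fun v => by
          apply Subtype.ext
          rw [MulAut.conjNormal_apply, MulAut.conjNormal_apply, hgu]
          have hcomm : (n : G) * (u * v * u⁻¹) = u * v * u⁻¹ * n := by
            have := congrArg Subtype.val (mul_comm n (MulAut.conjNormal u v))
            simpa [MulAut.conjNormal_apply] using this
          calc u * v * u⁻¹ = u * v * u⁻¹ * n * (n : G)⁻¹ := by group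
            _ = n * (u * v * u⁻¹) * (n : G)⁻¹ := by rw [hcomm]
            _ = n * u * v * (n * u)⁻¹ := by group
        intro i
        induction i with
        | zero => intro v; simp
        | succ i ih =>
          intro v
          rw [pow_succ' u, pow_succ' g, map_mul MulAut.conjNormal u, map_mul MulAut.conjNormal g, MulAut.mul_apply, MulAut.mul_apply, ih, h0]
      have huq : u ^ q = 1 := hcen _ (fun v => (hconj q v).trans (hcq v)) (hupow q)
      have key : ∀ i : ℕ, g ^ i = ((∏ j ∈ Finset.range i, f^[j] n : N) : G) * u ^ i := by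
        intro i
        induction i with
        | zero => simp
        | succ i ih =>
          rw [Finset.prod_range_succ, Subgroup.coe_mul, hfi, ← hconj, MulAut.conjNormal_apply,
            pow_succ g i, ih]
          conv_lhs => arg 2; rw [hgu]
          group
      refine Or.inr ⟨n, fun h => ?_⟩
      have hd : g ^ q = 1 := by rw [key, huq, mul_one, h, Subgroup.coe_one]
      have hd' := Nat.le_of_dvd (pow_pos hp.pos _) (orderOf_dvd_of_pow_eq_one hd)
      rw [hg] at hd'
      have : q < p ^ r := Nat.pow_lt_pow_right hp.one_lt (by omega)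
      omega
  refine ⟨h1, fun hrm => ?_⟩
  subst hrm
  constructor
  · by_contra h
    obtain ⟨j, rfl⟩ : ∃ j, r = j + 3 := ⟨r - 3, by omega⟩
    have h4 : 2 ^ (j + 2) ≤ p ^ (j + 2) := Nat.pow_le_pow_left hp.two_le _
    have h5 : j + 3 < 2 ^ (j + 2) := by
      have := Nat.lt_two_pow_self (n := j + 1)
      rw [pow_succ]; omega
    rw [show j + 3 - 1 = j + 2 by omega] at h1
    omega
  · intro hp2
    by_contra h
    obtain ⟨j, rfl⟩ : ∃ j, r = j + 2 := ⟨r - 2, by omega⟩
    have h4 : 3 ^ (j + 1) ≤ p ^ (j + 1) := Nat.pow_le_pow_left (by omega) _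
    have h5 : j + 2 < 3 ^ (j + 1) := by
      have h6 : j < 3 ^ j := Nat.lt_pow_self (by norm_num)
      rw [pow_succ]; omega
    rw [show j + 2 - 1 = j + 1 by omega] at h1
    omega

end Cfsg.Agent.S3508
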