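import Cfsg.Statements.S3511

set_option autoImplicit false
open Cfsg

namespace Cfsg.Agent.S3511

/-- Let a finite group G act faithfully on a set Ω. If every element of G of square-free order has a regular cycle (an orbit of the cyclic group it generates with trivial stabilizer), then every element of G has a regular cycle. -/
theorem result {G : Type*} [Group G] [Finite G] {Ω : Type*} [MulAction G Ω] [FaithfulSMul G Ω]
    (h : ∀ g : G, Squarefree (orderOf g) → ∃ ω : Ω, MulAction.stabilizer (Subgroup.zpowers g) ω = ⊥) (g : G) :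
    ∃ ω : Ω, MulAction.stabilizer (Subgroup.zpowers g) ω = ⊥ := by
  set n := orderOf g with hn
  have hn0 : 0 < n := orderOf_pos g
  set r := ∏ p ∈ n.primeFactors, p with hr
  have hrn : r ∣ n := Nat.prod_primeFactors_dvd n
  have hr0 : 0 < r := Finset.prod_pos fun p hp => (Nat.prime_of_mem_primeFactors hp).pos
  have ho : orderOf (g ^ (n / r)) = r := orderOf_pow_orderOf_div hn0.ne' hrn
  obtain ⟨ω, hω⟩ := h (g ^ (n / r)) (by
    rw [ho]
    refine Finset.squarefree_prod_of_pairwise_isCoprime ?_ fun p hp =>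
      (Nat.prime_of_mem_primeFactors hp).squarefree
    intro p hp q hq hpq
    exact Nat.coprime_iff_isRelPrime.1 ((Nat.coprime_primes (Nat.prime_of_mem_primeFactors hp)
      (Nat.prime_of_mem_primeFactors hq)).2 hpq))
  refine ⟨ω, ?_⟩
  rw [Subgroup.eq_bot_iff_forall]
  rintro ⟨x, hx⟩ hfix
  have hfix' : x • ω = ω := hfix
  ext
  change x = 1
  by_contra hx1
  obtain ⟨p, hp, hpd⟩ := Nat.exists_prime_and_dvd (mt orderOf_eq_one_iff.1 hx1)
  have hpn : p ∣ n := hpd.trans (orderOf_dvd_of_mem_zpowers hx)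
  set y := x ^ (orderOf x / p) with hy
  have hyo : orderOf y = p := orderOf_pow_orderOf_div (orderOf_pos x).ne' hpd
  have hyω : y • ω = ω := by
    have : x ∈ MulAction.stabilizer G ω := hfix'
    exact pow_mem this _
  obtain ⟨k, hk⟩ := Submonoid.mem_powers_iff y g |>.1
    ((mem_powers_iff_mem_zpowers).2 (Subgroup.pow_mem _ hx _))
  have hpr : p ∣ r := Finset.dvd_prod_of_mem _ (Nat.mem_primeFactors.2 ⟨hp, hpn, hn0.ne'⟩)
  have hyr : g ^ (k * r) = 1 := by
    rw [pow_mul, hk, ← orderOf_dvd_iff_pow_eq_one, hyo]; exact hpr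
  have hnk : n / r ∣ k := by
    have := orderOf_dvd_of_pow_eq_one hyr
    rw [← hn, ← Nat.div_mul_cancel hrn] at this
    exact Nat.dvd_of_mul_dvd_mul_right hr0 this
  obtain ⟨c, rfl⟩ := hnk
  have hmem : y ∈ Subgroup.zpowers (g ^ (n / r)) := by
    rw [← hk, pow_mul]; exact Subgroup.npow_mem_zpowers _ _
  have : (⟨y, hmem⟩ : Subgroup.zpowers (g ^ (n / r))) ∈ MulAction.stabilizer _ ω := hyω
  rw [hω, Subgroup.mem_bot] at this
  have : y = 1 := congrArg Subtype.val this
  rw [this, orderOf_one] at hyo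
  exact hp.ne_one hyo.symm

end Cfsg.Agent.S3511
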