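import Cfsg.Statements.S3514

set_option autoImplicit false
open Cfsg

namespace Cfsg.Agent.S3514

theorem relIndex_sup_normalized {G : Type*} [Group G] [Finite G] (S K : Subgroup G)
    (h : S ≤ Subgroup.normalizer (K : Set G)) : S.relIndex (S ⊔ K) = S.relIndex K := by
  set L := S ⊔ K with hL
  have hLn : L ≤ Subgroup.normalizer (K : Set G) := sup_le h Subgroup.le_normalizer
  haveI hn : (K.subgroupOf L).Normal := Subgroup.normal_subgroupOf_of_le_normalizer hLn
  have h1 : (K.subgroupOf L).relIndex (S.subgroupOf L ⊔ K.subgroupOf L) =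
      (K.subgroupOf L).relIndex (S.subgroupOf L) := Subgroup.relIndex_sup_right _ _
  rw [← Subgroup.subgroupOf_sup (le_sup_left : S ≤ L) (le_sup_right : K ≤ L),
    Subgroup.relIndex_subgroupOf le_sup_left, Subgroup.relIndex_subgroupOf le_rfl] at h1
  have a := Subgroup.relIndex_mul_relIndex (S ⊓ K) S L inf_le_left le_sup_left
  have b := Subgroup.relIndex_mul_relIndex (S ⊓ K) K L inf_le_right le_sup_right
  rw [Subgroup.inf_relIndex_right] at b
  rw [Subgroup.inf_relIndex_left, ← h1] at a
  have hpos : 0 < K.relIndex L := Nat.pos_of_ne_zero (Subgroup.index_ne_zero_of_finite)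
  exact Nat.eq_of_mul_eq_mul_left hpos (by rw [a, ← b, mul_comm])

theorem card_orbit_eq {p : ℕ} {V : Type*} [AddCommGroup V] [Module (ZMod p) V]
    (H : Subgroup (V ≃ₗ[ZMod p] V)) (v : V) :
    Nat.card {u : V | ∃ h ∈ H, h v = u} =
      (MulAction.stabilizer (V ≃ₗ[ZMod p] V) v).relIndex H := by
  have h1 : {u : V | ∃ h ∈ H, h v = u} = MulAction.orbit H v := by
    ext u
    constructor
    · rintro ⟨h, hh, rfl⟩; exact ⟨⟨h, hh⟩, rfl⟩
    · rintro ⟨⟨h, hh⟩, rfl⟩; exact ⟨h, hh, rfl⟩
  have h2 : (MulAction.stabilizer (V ≃ₗ[ZMod p] V) v).subgroupOf H = MulAction.stabilizer H v := by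
    ext x; rfl
  rw [h1, Nat.card_coe_set_eq, ← MulAction.index_stabilizer, ← h2]
  rfl

/-- Let p be a prime, V a finite vector space over the field with p elements, and H a group of linear transformations of V all of whose orbits on V have size coprime to p. (i) Every normal subgroup K of H has all its orbits on V of size coprime to p. (ii) If N is a group of linear transformations of V of order coprime to p that is normalized by H, then the group generated by N and H has all its orbits on V of size coprime to p. -/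
theorem result (p : ℕ) [Fact p.Prime] {V : Type*} [AddCommGroup V] [Module (ZMod p) V] [Finite V]
    (H : Subgroup (V ≃ₗ[ZMod p] V)) (hH : ∀ v : V, ¬ p ∣ Nat.card {u : V | ∃ h ∈ H, h v = u}) :
    (∀ K : Subgroup (V ≃ₗ[ZMod p] V), K ≤ H → H ≤ Subgroup.normalizer (K : Set (V ≃ₗ[ZMod p] V)) →
        ∀ v : V, ¬ p ∣ Nat.card {u : V | ∃ k ∈ K, k v = u}) ∧
    (∀ N : Subgroup (V ≃ₗ[ZMod p] V), ¬ p ∣ Nat.card N → H ≤ Subgroup.normalizer (N : Set (V ≃ₗ[ZMod p] V)) →
        ∀ v : V, ¬ p ∣ Nat.card {u : V | ∃ x ∈ N ⊔ H, x v = u}) := by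
  haveI : Finite (V ≃ₗ[ZMod p] V) := Finite.of_injective _ LinearEquiv.coe_injective
  refine ⟨fun K hKH hn v hd => ?_, fun N hN hn v hd => ?_⟩
  · rw [card_orbit_eq] at hd
    apply hH v
    rw [card_orbit_eq]
    set S := MulAction.stabilizer (V ≃ₗ[ZMod p] V) v with hS
    have h1 := relIndex_sup_normalized (S ⊓ H) K (inf_le_right.trans hn)
    have h2 : (S ⊓ H).relIndex K = S.relIndex K := by
      rw [← Subgroup.inf_relIndex_right, inf_assoc, inf_eq_right.2 hKH, Subgroup.inf_relIndex_right]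
    have h3 := Subgroup.relIndex_mul_relIndex (S ⊓ H) (S ⊓ H ⊔ K) H le_sup_left
      (sup_le inf_le_right hKH)
    rw [Subgroup.inf_relIndex_right, h1, h2] at h3
    exact h3 ▸ hd.mul_right _
  · rw [card_orbit_eq] at hd
    set S := MulAction.stabilizer (V ≃ₗ[ZMod p] V) v with hS
    have h1 := relIndex_sup_normalized H N hn
    rw [sup_comm] at h1
    have h3 := Subgroup.relIndex_mul_relIndex (S ⊓ H) H (N ⊔ H) inf_le_right le_sup_right
    have h4 : S.relIndex (N ⊔ H) ∣ (S ⊓ H).relIndex (N ⊔ H) :=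
      Subgroup.relIndex_dvd_of_le_left _ inf_le_left
    rw [← h3, Subgroup.inf_relIndex_right, h1] at h4
    rcases (Nat.Prime.dvd_mul Fact.out).1 (hd.trans h4) with h | h
    · exact hH v (by rw [card_orbit_eq]; exact h)
    · exact hN (h.trans (Subgroup.relIndex_dvd_card _ _))

end Cfsg.Agent.S3514
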