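import Cfsg.Statements.S3515

set_option autoImplicit false
open Cfsg

namespace Cfsg.Agent.S3515

theorem eq_one_of_not_axis : ∀ y : Fin 2 → ZMod 2, (∀ i c, y ≠ Pi.single i c) → y = 1 := by
  decide

/-- Every primitive affine permutation group of degree p² is 3-closed. Let p be a prime and G a group of permutations of the plane V = F_p² consisting of affine maps x ↦ Ax + b, containing all translations, and acting primitively on V. Then any permutation σ of V that agrees on every triple of points with some element of G (σ preserves every G-orbit on ordered triples) already lies in G. -/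
theorem result (p : ℕ) [Fact p.Prime] (G : Subgroup (Equiv.Perm (Fin 2 → ZMod p)))
    (haff : (G : Set (Equiv.Perm (Fin 2 → ZMod p))) ⊆ {τ : Equiv.Perm (Fin 2 → ZMod p) | ∃ (A : (Fin 2 → ZMod p) ≃ₗ[ZMod p] (Fin 2 → ZMod p)) (b : Fin 2 → ZMod p), ∀ x, τ x = A x + b})
    (htrans : ∀ b : Fin 2 → ZMod p, ∃ g ∈ G, ∀ x, g x = x + b) (hprim : MulAction.IsPreprimitive G (Fin 2 → ZMod p))
    (σ : Equiv.Perm (Fin 2 → ZMod p)) (hσ : (∀ t : Fin 3 → (Fin 2 → ZMod p), ∃ g ∈ G, ∀ i, σ (t i) = g (t i))) : σ ∈ G := by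
  obtain ⟨g, hg, hgi⟩ := hσ ![0, Pi.single 0 1, Pi.single 1 1]
  suffices σ = g by rwa [this]
  have key : ∀ x y : Fin 2 → ZMod p, ∀ c : ZMod p,
      (g⁻¹ * σ) x = x → (g⁻¹ * σ) y = y → (g⁻¹ * σ) (c • x + (1 - c) • y) = c • x + (1 - c) • y := by
    intro x y c hx hy
    obtain ⟨h, hh, hhi⟩ := hσ ![x, y, c • x + (1 - c) • y]
    obtain ⟨A, b, hA⟩ := haff (mul_mem (inv_mem hg) hh)
    have e : ∀ i, (g⁻¹ * σ) (![x, y, c • x + (1 - c) • y] i) = A (![x, y, c • x + (1 - c) • y] i) + b := by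
      intro i
      rw [← hA, Equiv.Perm.mul_apply, Equiv.Perm.mul_apply, hhi]
    have e0 : A x + b = x := (e 0).symm.trans hx
    have e1 : A y + b = y := (e 1).symm.trans hy
    refine (e 2).trans ?_
    show A (c • x + (1 - c) • y) + b = _
    conv_rhs => rw [← e0, ← e1]
    rw [map_add, map_smul, map_smul]
    module
  have f0 : (g⁻¹ * σ) 0 = 0 := by
    rw [Equiv.Perm.mul_apply, show σ 0 = g 0 from hgi 0, Equiv.Perm.inv_def, Equiv.symm_apply_apply]
  have f1 : (g⁻¹ * σ) (Pi.single 0 1) = Pi.single 0 1 := by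
    rw [Equiv.Perm.mul_apply, show σ (Pi.single 0 1) = g (Pi.single 0 1) from hgi 1, Equiv.Perm.inv_def, Equiv.symm_apply_apply]
  have f2 : (g⁻¹ * σ) (Pi.single 1 1) = Pi.single 1 1 := by
    rw [Equiv.Perm.mul_apply, show σ (Pi.single 1 1) = g (Pi.single 1 1) from hgi 2, Equiv.Perm.inv_def, Equiv.symm_apply_apply]
  have haxis : ∀ i : Fin 2, ∀ c : ZMod p, (g⁻¹ * σ) (Pi.single i c) = Pi.single i c := by
    intro i c
    have h := key (Pi.single i 1) 0 c (by fin_cases i; exacts [f1, f2]) f0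
    rwa [smul_zero, add_zero, ← Pi.single_smul, smul_eq_mul, mul_one] at h
  have hall : ∀ x, (g⁻¹ * σ) x = x := by
    intro x
    by_cases h2 : (2 : ZMod p) = 0
    · by_contra hx
      have hne : ∀ i c, x ≠ Pi.single i c := fun i c e => hx (e ▸ haxis i c)
      have hne' : ∀ i c, (g⁻¹ * σ) x ≠ Pi.single i c := fun i c e =>
        hne i c ((g⁻¹ * σ).injective (e.trans (haxis i c).symm))
      have hp2 : p = 2 := by
        have := (ZMod.natCast_eq_zero_iff 2 p).1 (by exact_mod_cast h2)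
        exact (Nat.prime_dvd_prime_iff_eq Fact.out Nat.prime_two).1 this
      subst hp2
      have hone := eq_one_of_not_axis
      exact hx ((hone _ hne').trans (hone _ hne).symm)
    · have h := key (Pi.single 0 (2 * x 0)) (Pi.single 1 (2 * x 1)) (2⁻¹) (haxis _ _) (haxis _ _)
      have e : (2⁻¹ : ZMod p) • (Pi.single 0 (2 * x 0) : Fin 2 → ZMod p) +
          (1 - 2⁻¹ : ZMod p) • (Pi.single 1 (2 * x 1) : Fin 2 → ZMod p) = x := by
        funext i
        fin_cases i <;> simp [h2] <;> field_simp <;> ring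
      rwa [e] at h
  refine Equiv.ext fun x => ?_
  have := hall x
  rw [Equiv.Perm.mul_apply, Equiv.Perm.inv_eq_iff_eq] at this
  exact this

end Cfsg.Agent.S3515
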