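import Cfsg.Statements.S3516

set_option autoImplicit false
open Cfsg

namespace Cfsg.Agent.S3516

/-- Let p be an odd prime, d ≥ 3, and G a group of affine permutations x ↦ Ax + b of V = F_p^d containing all translations and all maps x ↦ Ax with A of determinant 1. Then the 3-closure of G is the full affine group: a permutation σ of V agrees on every triple of points with some element of G if and only if σ is an affine map. -/
theorem result (p : ℕ) [Fact p.Prime] (hp : p ≠ 2) (d : ℕ) (hd : 3 ≤ d) (G : Subgroup (Equiv.Perm (Fin d → ZMod p)))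
    (haff : (G : Set (Equiv.Perm (Fin d → ZMod p))) ⊆ {τ : Equiv.Perm (Fin d → ZMod p) | ∃ (A : (Fin d → ZMod p) ≃ₗ[ZMod p] (Fin d → ZMod p)) (b : Fin d → ZMod p), ∀ x, τ x = A x + b})
    (htrans : ∀ b : Fin d → ZMod p, ∃ g ∈ G, ∀ x, g x = x + b)
    (hsl : ∀ A : (Fin d → ZMod p) ≃ₗ[ZMod p] (Fin d → ZMod p), LinearMap.det (A : (Fin d → ZMod p) →ₗ[ZMod p] (Fin d → ZMod p)) = 1 → ∃ g ∈ G, ∀ x, g x = A x)
    (σ : Equiv.Perm (Fin d → ZMod p)) :
    (∀ t : Fin 3 → (Fin d → ZMod p), ∃ g ∈ G, ∀ i, σ (t i) = g (t i)) ↔ σ ∈ {τ : Equiv.Perm (Fin d → ZMod p) | ∃ (A : (Fin d → ZMod p) ≃ₗ[ZMod p] (Fin d → ZMod p)) (b : Fin d → ZMod p), ∀ x, τ x = A x + b} := by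
  constructor
  · intro hσ
    have key : ∀ x y : Fin d → ZMod p, ∀ c : ZMod p,
        σ (c • x + (1 - c) • y) = c • σ x + (1 - c) • σ y := by
      intro x y c
      obtain ⟨h, hh, hhi⟩ := hσ ![x, y, c • x + (1 - c) • y]
      obtain ⟨A, b, hA⟩ := haff hh
      have e : ∀ i, σ (![x, y, c • x + (1 - c) • y] i) = A (![x, y, c • x + (1 - c) • y] i) + b :=
        fun i => (hhi i).trans (hA _)
      have e0 : σ x = A x + b := e 0
      have e1 : σ y = A y + b := e 1
      refine (e 2).trans ?_
      show A (c • x + (1 - c) • y) + b = _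
      rw [e0, e1, map_add, map_smul, map_smul]
      module
    have h2 : (2 : ZMod p) ≠ 0 := by
      intro h
      have := (ZMod.natCast_eq_zero_iff 2 p).1 (by exact_mod_cast h)
      exact hp ((Nat.prime_dvd_prime_iff_eq Fact.out Nat.prime_two).1 this)
    have hhom : ∀ (c : ZMod p) x, σ (c • x) - σ 0 = c • (σ x - σ 0) := by
      intro c x
      have h := key x 0 c
      rw [smul_zero, add_zero] at h
      rw [h]; module
    have hadd : ∀ x y, σ (x + y) - σ 0 = (σ x - σ 0) + (σ y - σ 0) := by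
      intro x y
      have hmid : σ ((2⁻¹ : ZMod p) • (x + y)) = (2⁻¹ : ZMod p) • σ x + (1 - 2⁻¹ : ZMod p) • σ y := by
        rw [← key]
        congr 1
        have : (1 - 2⁻¹ : ZMod p) = 2⁻¹ := by field_simp; ring
        rw [this, smul_add]
      have h := hhom 2⁻¹ (x + y)
      rw [hmid] at h
      have h' := congrArg ((2 : ZMod p) • ·) h
      simp only [smul_sub, smul_add, smul_smul, mul_sub, mul_inv_cancel₀ h2, one_smul, mul_one] at h'
      rw [← h']
      module
    let L : (Fin d → ZMod p) →ₗ[ZMod p] (Fin d → ZMod p) :=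
      { toFun := fun x => σ x - σ 0
        map_add' := hadd
        map_smul' := hhom }
    have hinj : Function.Injective L := fun x y h => σ.injective (sub_left_injective h)
    exact ⟨LinearEquiv.ofInjectiveEndo L hinj, σ 0, fun x => (sub_add_cancel (σ x) (σ 0)).symm⟩
  · rintro ⟨A, b, hA⟩ t
    let S := Submodule.span (ZMod p) (Set.range ![t 1 - t 0, t 2 - t 0])
    have hS : S < ⊤ := by
      refine lt_top_iff_ne_top.2 fun e => ?_
      have h1 : Module.finrank (ZMod p) S ≤ 2 := (finrank_range_le_card _).trans (by simp)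
      rw [e, finrank_top, Module.finrank_fintype_fun_eq_card, Fintype.card_fin] at h1
      omega
    obtain ⟨φ, hφ0, hφS⟩ := Submodule.exists_le_ker_of_lt_top S hS
    obtain ⟨u, hu⟩ : ∃ u, φ u = 1 := by
      obtain ⟨w, hw⟩ : ∃ w, φ w ≠ 0 := by
        by_contra h
        push_neg at h
        exact hφ0 (LinearMap.ext h)
      exact ⟨(φ w)⁻¹ • w, by rw [map_smul, smul_eq_mul, inv_mul_cancel₀ hw]⟩
    set δ := LinearMap.det (A : (Fin d → ZMod p) →ₗ[ZMod p] (Fin d → ZMod p))
    have hδ : δ ≠ 0 := A.isUnit_det'.ne_zero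
    let v := (δ⁻¹ - 1) • u
    have hv : 1 + φ v = δ⁻¹ := by
      show 1 + φ ((δ⁻¹ - 1) • u) = _
      rw [map_smul, hu, smul_eq_mul, mul_one, add_sub_cancel]
    have hC : IsUnit (1 + φ v) := by rw [hv]; exact (inv_ne_zero hδ).isUnit
    obtain ⟨g1, hg1, hg1'⟩ := hsl ((LinearEquiv.dilatransvection hC).trans A) (by
      rw [LinearEquiv.coe_trans, LinearMap.det_comp]
      show δ * LinearMap.det (LinearMap.transvection φ v) = 1
      rw [LinearMap.transvection.det, hv, mul_inv_cancel₀ hδ])
    obtain ⟨g2, hg2, hg2'⟩ := htrans (σ (t 0) - ((LinearEquiv.dilatransvection hC).trans A) (t 0))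
    refine ⟨g2 * g1, mul_mem hg2 hg1, fun i => ?_⟩
    rw [Equiv.Perm.mul_apply, hg2', hg1']
    have hfix : ∀ i, φ (t i - t 0) = 0 := by
      intro i
      refine LinearMap.mem_ker.1 (hφS ?_)
      fin_cases i
      · simp
      · exact Submodule.subset_span ⟨0, rfl⟩
      · exact Submodule.subset_span ⟨1, rfl⟩
    have : ((LinearEquiv.dilatransvection hC).trans A) (t i - t 0) = A (t i - t 0) := by
      show A (LinearMap.transvection φ v (t i - t 0)) = _
      rw [LinearMap.transvection.apply, hfix, zero_smul, add_zero]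
    rw [map_sub, map_sub] at this
    rw [hA, hA]
    linear_combination (norm := module) this.symm

end Cfsg.Agent.S3516
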