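import Cfsg.Statements.S3517
import Cfsg.Agent.Lib.Classical22.AffineGroup

set_option autoImplicit false
open Cfsg

namespace Cfsg.Agent.S3517

/-- For d ≥ 3, the 3-closure of the affine group AGL_d(2) acting on F_2^d is the full symmetric group: every permutation of F_2^d agrees on every ordered triple of points with some affine map (AGL_d(2) is 3-transitive). -/
theorem result (d : ℕ) (hd : 3 ≤ d) (σ : Equiv.Perm (Fin d → ZMod 2)) (t : Fin 3 → (Fin d → ZMod 2)) :
    ∃ (A : (Fin d → ZMod 2) ≃ₗ[ZMod 2] (Fin d → ZMod 2)) (b : Fin d → ZMod 2), ∀ i, σ (t i) = A (t i) + b := by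
  classical
  have hcard : 3 ≤ Fintype.card (Fin d → ZMod 2) := by
    rw [Fintype.card_fun, Fintype.card_fin, ZMod.card]
    exact le_trans (by norm_num : 3 ≤ 2 ^ 3) (Nat.pow_le_pow_right (by norm_num) hd)
  obtain ⟨s, hts, hs⟩ := Finset.exists_superset_card_eq (s := Finset.univ.image t) (n := 3)
    (Finset.card_image_le.trans (by simp)) hcard
  obtain ⟨x, y, z, hxy, hxz, hyz, rfl⟩ := Finset.card_eq_three.1 hs
  have hind : ∀ a b c : Fin d → ZMod 2, a ≠ b → a ≠ c → b ≠ c →
      LinearIndependent (ZMod 2) ![b - a, c - a] := by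
    intro a b c hab hac hbc
    rw [LinearIndependent.pair_iff]
    have hcases : ∀ r : ZMod 2, r = 0 ∨ r = 1 := by decide
    intro r u hru
    rcases hcases r with rfl | rfl <;> rcases hcases u with rfl | rfl
    · exact ⟨rfl, rfl⟩
    · rw [zero_smul, zero_add, one_smul, sub_eq_zero] at hru
      exact absurd hru.symm hac
    · rw [zero_smul, add_zero, one_smul, sub_eq_zero] at hru
      exact absurd hru.symm hab
    · rw [one_smul, one_smul, ← ZModModule.sub_eq_add, sub_sub_sub_cancel_right, sub_eq_zero] at hru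
      exact absurd hru hbc
  obtain ⟨A, hA1, hA2⟩ := CfsgLib.Classical22.exists_linearEquiv_pair (hind x y z hxy hxz hyz)
    (hind (σ x) (σ y) (σ z) (σ.injective.ne hxy) (σ.injective.ne hxz) (σ.injective.ne hyz))
  refine ⟨A, σ x - A x, fun i => ?_⟩
  have hi := hts (Finset.mem_image_of_mem t (Finset.mem_univ i))
  simp only [Finset.mem_insert, Finset.mem_singleton] at hi
  rw [map_sub] at hA1 hA2
  rcases hi with h | h | h <;> rw [h]
  · abel
  · linear_combination (norm := abel) hA1.symm
  · linear_combination (norm := abel) hA2.symm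

end Cfsg.Agent.S3517
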