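import Cfsg.Statements.S3518

set_option autoImplicit false
open Cfsg

namespace Cfsg.Agent.S3518

open Polynomial in
theorem muller {p : ℕ} [Fact p.Prime] (C : Subgroup (ZMod p)ˣ) (hC : C ≠ ⊤)
    (f : ZMod p → ZMod p) (hf : Function.Injective f)
    (h : ∀ x, ∀ u : C, ∃ w : C, f (x + ((u : (ZMod p)ˣ) : ZMod p)) = f x + ((w : (ZMod p)ˣ) : ZMod p)) :
    ∃ a ∈ C, ∀ x, f x = ((a : (ZMod p)ˣ) : ZMod p) * x + f 0 := by
  classical
  let v : C → ZMod p := fun u => ((u : (ZMod p)ˣ) : ZMod p)
  have hv : Function.Injective v := fun a b e => Subtype.ext (Units.ext e)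
  choose w hw using h
  have hwb : ∀ x, Function.Bijective (w x) := fun x => Finite.injective_iff_bijective.1 fun a b e => by
    apply hv
    have := (hw x a).trans ((congrArg (fun z : C => f x + v z) e).trans (hw x b).symm)
    exact add_left_cancel (hf this)
  set m := Nat.card C with hm
  have hm0 : 0 < m := Nat.card_pos
  have hmp : 2 * m ≤ p - 1 := by
    have h1 := C.card_mul_index
    rw [Nat.card_units, Nat.card_zmod] at h1
    have h2 : 2 ≤ C.index := by
      have := Subgroup.index_ne_zero_of_finite (H := C)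
      have : C.index ≠ 1 := fun e => hC (Subgroup.index_eq_one.1 e)
      omega
    rw [← h1, mul_comm 2]
    exact Nat.mul_le_mul_left _ h2
  have hp2 : 2 ≤ p := (Fact.out : p.Prime).two_le
  have hmne : (m : ZMod p) ≠ 0 := fun e => by
    have := Nat.le_of_dvd hm0 ((ZMod.natCast_eq_zero_iff _ _).1 e)
    omega
  have hs : ∀ j, 0 < j → j < m → ∑ u : C, v u ^ j = 0 := by
    intro j hj hjm
    obtain ⟨g, hg⟩ := IsCyclic.exists_generator (α := C)
    have hgo : orderOf g = m := orderOf_eq_card_of_forall_mem_zpowers hg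
    have hg1 : v g ^ j ≠ 1 := fun e => by
      have : g ^ j = 1 := Subtype.ext (Units.ext (by simpa [v] using e))
      have := Nat.le_of_dvd hj (orderOf_dvd_of_pow_eq_one this)
      omega
    have h1 : v g ^ j * ∑ u : C, v u ^ j = ∑ u : C, v u ^ j := by
      rw [Finset.mul_sum, ← Equiv.sum_comp (Equiv.mulLeft g) (fun u : C => v u ^ j)]
      exact Finset.sum_congr rfl fun u _ => by simp [v, mul_pow]
    by_contra hne
    exact hg1 (mul_eq_right₀ hne |>.1 h1)
  have hsm : ∑ u : C, v u ^ m = (m : ZMod p) := by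
    have : ∀ u : C, v u ^ m = 1 := fun u => by
      have h1 : u ^ m = 1 := pow_card_eq_one'
      simpa [v] using congrArg v h1
    rw [Finset.sum_congr rfl fun u _ => this u]
    simp [hm]
  have hs0 : ∑ u : C, v u ^ 0 = (m : ZMod p) := by simp [hm]
  -- the interpolating polynomial
  set P := Lagrange.interpolate Finset.univ id f
  have hPe : ∀ x, P.eval x = f x := fun x =>
    Lagrange.eval_interpolate_at_node f Function.injective_id.injOn (Finset.mem_univ x)
  have hPd : P.natDegree < p := by
    by_cases h0 : P = 0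
    · rw [h0, natDegree_zero]; omega
    · have := Lagrange.degree_interpolate_lt (s := Finset.univ) (v := id) f Function.injective_id.injOn
      rw [Finset.card_univ, ZMod.card] at this
      exact (natDegree_lt_iff_degree_lt h0).2 this
  have key : ∀ i, i < m → m ≤ i * P.natDegree → p ≤ i * P.natDegree := by
    intro i him hmN
    by_contra hN
    push_neg at hN
    set h := P ^ i
    set N := i * P.natDegree
    have hP0 : P ≠ 0 := fun e => by simp [N, e] at hmN; omega
    have hhd : h.natDegree = N := natDegree_pow P i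
    let Q : (ZMod p)[X] := (∑ u : C, taylor (v u) h) - Polynomial.C (m : ZMod p) * h
    have hQe : ∀ x, Q.eval x = 0 := by
      intro x
      have h1 : ∀ u : C, (taylor (v u) h).eval x = (f x + v (w x u)) ^ i := fun u => by
        rw [taylor_eval, eval_pow, hPe, hw]
      simp only [Q, eval_sub, eval_finset_sum, eval_mul, eval_C, h1]
      rw [(hwb x).sum_comp (fun u : C => (f x + v u) ^ i)]
      simp only [add_pow, h, eval_pow, hPe]
      rw [Finset.sum_comm, Finset.sum_range_succ, Finset.sum_eq_zero fun j hj => ?_]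
      · simp [hm, mul_comm]
      · have hj' := Finset.mem_range.1 hj
        rw [← Finset.sum_mul, ← Finset.mul_sum, hs (i - j) (by omega) (by omega), mul_zero, zero_mul]
    have hQd : Q.natDegree < p := by
      refine lt_of_le_of_lt ?_ hN
      refine (natDegree_sub_le _ _).trans (max_le ?_ ((natDegree_C_mul_le _ _).trans hhd.le))
      exact natDegree_sum_le_of_forall_le _ _ fun u _ => by rw [natDegree_taylor, hhd]
    have hQ0 : Q = 0 := eq_zero_of_natDegree_lt_card_of_eval_eq_zero Q Function.injective_id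
      hQe (by rw [ZMod.card]; exact hQd)
    have hc := congrArg (fun q : (ZMod p)[X] => q.coeff (N - m)) hQ0
    simp only [Q, coeff_sub, finset_sum_coeff, taylor_coeff, coeff_C_mul, coeff_zero] at hc
    set D := hasseDeriv (N - m) h
    have hDd : D.natDegree < m + 1 := by
      have := natDegree_hasseDeriv_le h (N - m)
      rw [hhd] at this
      simp only [D]
      omega
    simp only [eval_eq_sum_range' hDd] at hc
    rw [Finset.sum_comm, Finset.sum_range_succ, ← Finset.mul_sum, hsm] at hc
    have hmid : ∑ j ∈ Finset.range m, ∑ u : C, D.coeff j * v u ^ j = (m : ZMod p) * h.coeff (N - m) := by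
      rw [Finset.sum_eq_single_of_mem 0 (Finset.mem_range.2 hm0) fun j hj hj0 => by
        rw [← Finset.mul_sum, hs j (by omega) (Finset.mem_range.1 hj), mul_zero]]
      rw [← Finset.mul_sum, hs0, hasseDeriv_coeff, zero_add, Nat.choose_self, Nat.cast_one, one_mul,
        mul_comm]
    rw [hmid, add_sub_cancel_left, mul_eq_zero, hasseDeriv_coeff,
      Nat.add_sub_cancel' hmN, mul_eq_zero] at hc
    rcases hc with (h1 | h1) | h1
    · rw [ZMod.natCast_eq_zero_iff] at h1
      have : p ∣ N.factorial := by
        rw [← Nat.choose_mul_factorial_mul_factorial (show N - m ≤ N by omega)]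
        exact (h1.mul_right _).mul_right _
      have := ((Fact.out : p.Prime).dvd_factorial).1 this
      omega
    · rw [← hhd, ← leadingCoeff, leadingCoeff_eq_zero] at h1
      exact pow_ne_zero i hP0 h1
    · exact hmne h1
  have hn1 : P.natDegree ≤ 1 := by
    by_contra hn
    push_neg at hn
    set n := P.natDegree
    by_cases hnm : m ≤ n
    · by_cases h1 : 1 < m
      · exact absurd (key 1 h1 (by rwa [one_mul])) (by rw [one_mul]; omega)
      · -- a single difference: `f` is a translation
        have hm1 : m = 1 := by omega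
        haveI : Subsingleton C := (Nat.card_eq_one_iff_unique.1 (hm ▸ hm1)).1
        have hone : ∀ x, f (x + 1) = f x + 1 := fun x => by
          have := hw x 1
          rwa [Subsingleton.elim (w x 1) 1, show ((((1 : C) : (ZMod p)ˣ)) : ZMod p) = 1 from rfl] at this
        have hall : ∀ k : ℕ, f (k : ZMod p) = k + f 0 := by
          intro k
          induction k with
          | zero => simp
          | succ k ih => rw [Nat.cast_succ, hone, ih]; ring
        have : P - (X + Polynomial.C (f 0)) = 0 := by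
          refine eq_zero_of_natDegree_lt_card_of_eval_eq_zero _ Function.injective_id (fun x => ?_) ?_
          · have := hall x.val
            rw [ZMod.natCast_zmod_val] at this
            simp [hPe, this]
          · rw [ZMod.card]
            refine lt_of_le_of_lt (natDegree_sub_le _ _) (max_lt hPd ?_)
            rw [natDegree_X_add_C]; omega
        have h2 : n = 1 := by
          show P.natDegree = 1
          rw [sub_eq_zero.1 this, natDegree_X_add_C]
        omega
    · push_neg at hnm
      set i := (m - 1) / n + 1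
      have hi1 : m ≤ i * n := by
        have h1 := Nat.div_add_mod (m - 1) n
        have h2 := Nat.mod_lt (m - 1) (show n > 0 by omega)
        rw [show i = (m - 1) / n + 1 from rfl, add_mul, one_mul, mul_comm _ n]
        omega
      have hi2 : i < m := by
        have h1 := Nat.div_add_mod (m - 1) n
        have h2 : 2 * ((m - 1) / n) ≤ n * ((m - 1) / n) := Nat.mul_le_mul_right _ hn
        simp only [i]
        omega
      have := key i hi2 hi1
      have h3 : i * n ≤ (m - 1) + n := by
        have h1 := Nat.div_add_mod (m - 1) n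
        rw [show i = (m - 1) / n + 1 from rfl, add_mul, one_mul, mul_comm _ n]
        omega
      omega
  have hlin : ∀ x, f x = P.coeff 1 * x + f 0 := by
    have hP : P = Polynomial.C (P.coeff 1) * X + Polynomial.C (P.coeff 0) :=
      eq_X_add_C_of_natDegree_le_one hn1
    have h0 : P.coeff 0 = f 0 := by rw [← hPe, coeff_zero_eq_eval_zero]
    intro x
    rw [← hPe x, ← h0]
    conv_lhs => rw [hP]
    simp
  have ha := hw 0 1
  rw [zero_add, show ((((1 : C) : (ZMod p)ˣ)) : ZMod p) = 1 from rfl, hlin 1, mul_one, add_comm] at ha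
  refine ⟨(w 0 1 : C), (w 0 1).2, fun x => ?_⟩
  rw [hlin x, add_left_cancel ha]

/-- Closures of subgroups of the one-dimensional affine group. Let p be a prime and G a group of permutations of F_p lying in the affine group AGL₁(p) = {x ↦ ax + b, a ≠ 0} and containing all translations. (1) If G is a proper subgroup of AGL₁(p), then G is 2-closed: a permutation of F_p agreeing on every ordered pair of points with some element of G lies in G. (2) Every permutation of F_p agrees on every ordered pair with some element of AGL₁(p) (the 2-closure of AGL₁(p) is the symmetric group). (3) AGL₁(p) is 3-closed: a permutation agreeing on every ordered triple with some affine map is affine. -/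
theorem result (p : ℕ) [Fact p.Prime] (G : Subgroup (Equiv.Perm (ZMod p))) (hG : G ≤ Cfsg.affineGroup (ZMod p))
    (htrans : ∀ b : ZMod p, ∃ g ∈ G, ∀ x, g x = x + b) :
    (G ≠ Cfsg.affineGroup (ZMod p) → ∀ σ : Equiv.Perm (ZMod p), (∀ t : Fin 2 → ZMod p, ∃ g ∈ G, ∀ i, σ (t i) = g (t i)) → σ ∈ G) ∧
    (∀ σ : Equiv.Perm (ZMod p), (∀ t : Fin 2 → ZMod p, ∃ g ∈ Cfsg.affineGroup (ZMod p), ∀ i, σ (t i) = g (t i))) ∧
    (∀ σ : Equiv.Perm (ZMod p), (∀ t : Fin 3 → ZMod p, ∃ g ∈ Cfsg.affineGroup (ZMod p), ∀ i, σ (t i) = g (t i)) → σ ∈ Cfsg.affineGroup (ZMod p)) := by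
  classical
  have h2 : ∀ a b c e : ZMod p, a ≠ b → c ≠ e → ∃ g ∈ Cfsg.affineGroup (ZMod p), g a = c ∧ g b = e := by
    intro a b c e hab hce
    let α : (ZMod p)ˣ := Units.mk0 ((c - e) / (a - b)) (div_ne_zero (sub_ne_zero.2 hce) (sub_ne_zero.2 hab))
    let g : Equiv.Perm (ZMod p) := (Units.mulLeft α).trans (Equiv.addRight (c - (α : ZMod p) * a))
    have hg : ∀ x, g x = (α : ZMod p) * x + (c - (α : ZMod p) * a) := fun x => rfl
    refine ⟨g, ⟨α, _, hg⟩, by rw [hg]; ring, ?_⟩
    rw [hg]
    have : (α : ZMod p) * (a - b) = c - e := div_mul_cancel₀ _ (sub_ne_zero.2 hab)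
    linear_combination -this
  refine ⟨fun hne σ hσ => ?_, fun σ t => ?_, fun σ hσ => ?_⟩
  · let C : Subgroup (ZMod p)ˣ :=
      { carrier := {a | ∃ g ∈ G, ∃ b, ∀ x, g x = (a : ZMod p) * x + b}
        one_mem' := ⟨1, one_mem _, 0, fun x => by simp⟩
        mul_mem' := by
          rintro a c ⟨g, hg, b, hgb⟩ ⟨g', hg', b', hgb'⟩
          exact ⟨g * g', mul_mem hg hg', a * b' + b, fun x => by
            rw [Equiv.Perm.mul_apply, hgb', hgb, Units.val_mul]; ring⟩
        inv_mem' := by
          rintro a ⟨g, hg, b, hgb⟩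
          refine ⟨g⁻¹, inv_mem hg, -((a⁻¹ : (ZMod p)ˣ) : ZMod p) * b, fun x => ?_⟩
          rw [Equiv.Perm.inv_eq_iff_eq, hgb, mul_add, ← mul_assoc, Units.mul_inv, one_mul, neg_mul,
            mul_neg, ← mul_assoc, Units.mul_inv]
          ring }
    have hmem : ∀ a ∈ C, ∀ b, ∀ σ' : Equiv.Perm (ZMod p), (∀ x, σ' x = (a : ZMod p) * x + b) → σ' ∈ G := by
      rintro a ⟨g, hg, b₀, hgb⟩ b σ' hσ'
      obtain ⟨g', hg', hgb'⟩ := htrans (b - b₀)
      have : σ' = g' * g := Equiv.ext fun x => by
        rw [Equiv.Perm.mul_apply, hgb', hgb, hσ']; ring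
      rw [this]; exact mul_mem hg' hg
    have hC : C ≠ ⊤ := by
      intro htop
      refine hne (le_antisymm hG fun g ⟨a, b, hgab⟩ => ?_)
      exact hmem a (htop ▸ Subgroup.mem_top a) b g hgab
    obtain ⟨a, ha, hlin⟩ := muller C hC σ σ.injective (by
      intro x u
      obtain ⟨g, hg, hgt⟩ := hσ ![x, x + ((u : (ZMod p)ˣ) : ZMod p)]
      obtain ⟨a, b, hgab⟩ := hG hg
      have e0 : σ x = g x := hgt 0
      have e1 : σ (x + ((u : (ZMod p)ˣ) : ZMod p)) = g (x + ((u : (ZMod p)ˣ) : ZMod p)) := hgt 1
      refine ⟨⟨a * u, mul_mem ⟨g, hg, b, hgab⟩ u.2⟩, ?_⟩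
      rw [e1, e0, hgab, hgab, Units.val_mul]; ring)
    exact hmem a ha _ σ hlin
  · by_cases h : t 0 = t 1
    · obtain ⟨g, hg, e, -⟩ := h2 (t 0) (t 0 + 1) (σ (t 0)) (σ (t 0) + 1) (by simp) (by simp)
      refine ⟨g, hg, fun i => ?_⟩
      fin_cases i
      · exact e.symm
      · show σ (t 1) = g (t 1)
        rw [← h, e]
    · obtain ⟨g, hg, e, e'⟩ := h2 _ _ (σ (t 0)) (σ (t 1)) h (σ.injective.ne h)
      refine ⟨g, hg, fun i => ?_⟩
      fin_cases i
      exacts [e.symm, e'.symm]
  · obtain ⟨g, hg, e, e'⟩ := h2 0 1 (σ 0) (σ 1) zero_ne_one (σ.injective.ne zero_ne_one)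
    obtain ⟨a, b, hgab⟩ := hg
    refine ⟨a, b, fun x => ?_⟩
    obtain ⟨g', ⟨a', b', hgab'⟩, hg'⟩ := hσ ![0, 1, x]
    have e0 : σ 0 = g' 0 := hg' 0
    have e1 : σ 1 = g' 1 := hg' 1
    have e2 : σ x = g' x := hg' 2
    rw [hgab'] at e0 e1 e2
    rw [hgab] at e e'
    linear_combination e2 + (1 - x) * (-e - e0) + x * (-e' - e1)

end Cfsg.Agent.S3518
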