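import Cfsg.Statements.S3520
import Cfsg.Agent.Lib.Char.Burnside
import Cfsg.Agent.Lib.Classical22.CharSimple
import Cfsg.Agent.Lib.Recognition.Derangement

set_option autoImplicit false
open Cfsg

namespace Cfsg.Agent.S3520

open MulAction

theorem exists_three_primes {K : Type*} [Group K] [Finite K] (hns : ¬ Group.IsSolvable K) :
    ∃ p q r : ℕ, p.Prime ∧ q.Prime ∧ r.Prime ∧ p ≠ q ∧ p ≠ r ∧ q ≠ r ∧
      p ∣ Nat.card K ∧ q ∣ Nat.card K ∧ r ∣ Nat.card K := by
  classical
  haveI := Fintype.ofFinite K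
  have h3 : 2 < (Nat.card K).primeFactors.card := by
    by_contra hle
    refine hns ?_
    have hn : Nat.card K ≠ 0 := Nat.card_pos.ne'
    have hprod := Nat.prod_factorization_pow_eq_self hn
    rw [Finsupp.prod, Nat.support_factorization] at hprod
    have hcases : (Nat.card K).primeFactors.card = 0 ∨ (Nat.card K).primeFactors.card = 1 ∨
        (Nat.card K).primeFactors.card = 2 := by omega
    rcases hcases with h | h | h
    · rw [Finset.card_eq_zero.1 h, Finset.prod_empty] at hprod
      exact CfsgLib.Char.isSolvable_of_card_eq_pow_mul_pow Nat.prime_two Nat.prime_three (a := 0)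
        (b := 0) (by simpa using (dvd_of_eq hprod.symm))
    · obtain ⟨p, hp⟩ := Finset.card_eq_one.1 h
      rw [hp, Finset.prod_singleton] at hprod
      exact CfsgLib.Char.isSolvable_of_card_eq_pow_mul_pow
        (Nat.prime_of_mem_primeFactors (hp ▸ Finset.mem_singleton_self p)) Nat.prime_two
        (b := 0) (by simpa using (dvd_of_eq hprod.symm))
    · obtain ⟨p, q, hpq, hp⟩ := Finset.card_eq_two.1 h
      rw [hp, Finset.prod_pair hpq] at hprod
      exact CfsgLib.Char.isSolvable_of_card_eq_pow_mul_pow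
        (Nat.prime_of_mem_primeFactors (hp ▸ Finset.mem_insert_self p {q}))
        (Nat.prime_of_mem_primeFactors (hp ▸ Finset.mem_insert_of_mem (Finset.mem_singleton_self q)))
        (dvd_of_eq hprod.symm)
  obtain ⟨p, q, r, hp, hq, hr, h1, h2, h3⟩ := Finset.two_lt_card_iff.1 h3
  exact ⟨p, q, r, Nat.prime_of_mem_primeFactors hp, Nat.prime_of_mem_primeFactors hq,
    Nat.prime_of_mem_primeFactors hr, h1, h2, h3, Nat.dvd_of_mem_primeFactors hp,
    Nat.dvd_of_mem_primeFactors hq, Nat.dvd_of_mem_primeFactors hr⟩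

theorem exists_three_elements {K : Type*} [Group K] [Finite K] (hns : ¬ Group.IsSolvable K) :
    ∃ a b c : K, a ≠ 1 ∧ b ≠ 1 ∧ c ≠ 1 ∧
      orderOf a ≠ orderOf b ∧ orderOf a ≠ orderOf c ∧ orderOf b ≠ orderOf c := by
  obtain ⟨p, q, r, hp, hq, hr, hpq, hpr, hqr, hpd, hqd, hrd⟩ := exists_three_primes hns
  haveI := Fact.mk hp; haveI := Fact.mk hq; haveI := Fact.mk hr
  obtain ⟨a, ha⟩ := exists_prime_orderOf_dvd_card' p hpd
  obtain ⟨b, hb⟩ := exists_prime_orderOf_dvd_card' q hqd
  obtain ⟨c, hc⟩ := exists_prime_orderOf_dvd_card' r hrd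
  refine ⟨a, b, c, ?_, ?_, ?_, by omega, by omega, by omega⟩ <;> intro h
  · rw [h, orderOf_one] at ha; exact hp.one_lt.ne ha
  · rw [h, orderOf_one] at hb; exact hq.one_lt.ne hb
  · rw [h, orderOf_one] at hc; exact hr.one_lt.ne hc

theorem exists_not_conj_mem {K : Type*} [Group K] [Finite K] {H : Subgroup K} (hH : H ≠ ⊤) :
    ∃ t : K, ∀ g : K, g * t * g⁻¹ ∉ H := by
  classical
  by_contra hcon
  haveI := Fintype.ofFinite K
  haveI := Fintype.ofFinite (K ⧸ H)
  have hsum := sum_card_fixedBy_eq_card_orbits_mul_card_group K (K ⧸ H)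
  have horb : Fintype.card (Quotient (orbitRel K (K ⧸ H))) = 1 := by
    haveI := (pretransitive_iff_subsingleton_quotient K (K ⧸ H)).1 inferInstance
    exact Fintype.card_eq_one_iff.2 ⟨Quotient.mk'' ((1 : K) : K ⧸ H), fun a => Subsingleton.elim _ _⟩
  rw [horb, one_mul] at hsum
  have hge : ∀ t : K, 1 ≤ Fintype.card (fixedBy (K ⧸ H) t) := by
    intro t
    simp only [not_exists, not_forall, not_not] at hcon
    obtain ⟨g, hg⟩ := hcon t
    refine Fintype.card_pos_iff.2 ⟨⟨((g⁻¹ : K) : K ⧸ H), ?_⟩⟩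
    rw [mem_fixedBy, Quotient.smul_coe, QuotientGroup.eq, smul_eq_mul]
    have := H.inv_mem hg
    simpa [mul_assoc] using this
  have h1 : 1 < Fintype.card (fixedBy (K ⧸ H) (1 : K)) := by
    have : fixedBy (K ⧸ H) (1 : K) = Set.univ := by ext; simp
    rw [← Nat.card_eq_fintype_card, this, Nat.card_univ, ← Subgroup.index_eq_card]
    exact Subgroup.one_lt_index_of_ne_top hH
  have hlt : ∑ _t : K, 1 < ∑ t : K, Fintype.card (fixedBy (K ⧸ H) t) :=
    Finset.sum_lt_sum (fun t _ => hge t) ⟨1, Finset.mem_univ _, h1⟩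
  rw [← Finset.card_eq_sum_ones, Finset.card_univ, hsum] at hlt
  exact lt_irrefl _ hlt

theorem mulSingle_mem_of_normal {S : Type*} [Group S] [IsSimpleGroup S] (hS : ∃ a b : S, a * b ≠ b * a)
    {m : ℕ} {K : Subgroup (Fin m → S)} (hK : K.Normal) {x : Fin m → S} (hx : x ∈ K) {i : Fin m}
    (hi : x i ≠ 1) (t : S) : Pi.mulSingle i t ∈ K := by
  classical
  haveI hnorm : (K.comap (MonoidHom.mulSingle (fun _ : Fin m => S) i)).Normal :=
    Subgroup.Normal.comap hK _
  obtain ⟨s, hs⟩ : ∃ s, x i * s ≠ s * x i := by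
    by_contra hcon
    simp only [not_exists, not_not] at hcon
    have hz : x i ∈ Subgroup.center S := Subgroup.mem_center_iff.mpr fun s => (hcon s).symm
    rcases (inferInstance : (Subgroup.center S).Normal).eq_bot_or_eq_top with h | h
    · rw [h] at hz; exact hi hz
    · obtain ⟨a, b, hab⟩ := hS
      exact hab (Subgroup.mem_center_iff.mp (h ▸ Subgroup.mem_top b) a)
  have hc : Pi.mulSingle i (x i * s * (x i)⁻¹ * s⁻¹) ∈ K := by
    have h1 : x * (Pi.mulSingle i s * x⁻¹ * (Pi.mulSingle i s)⁻¹) ∈ K :=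
      K.mul_mem hx (hK.conj_mem _ (K.inv_mem hx) _)
    convert h1 using 1
    funext l
    rcases eq_or_ne l i with rfl | hl
    · simp [mul_assoc]
    · simp [hl]
  have hne : x i * s * (x i)⁻¹ * s⁻¹ ≠ 1 :=
    fun h => hs (mul_inv_eq_iff_eq_mul.mp (mul_inv_eq_one.mp h))
  have htop := hnorm.eq_bot_or_eq_top.resolve_left fun h => hne (Subgroup.mem_bot.mp
    (h ▸ (Subgroup.mem_comap.2 (by simpa using hc) :
      x i * s * (x i)⁻¹ * s⁻¹ ∈ K.comap (MonoidHom.mulSingle (fun _ : Fin m => S) i))))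
  have := (htop ▸ Subgroup.mem_top t : t ∈ K.comap (MonoidHom.mulSingle (fun _ : Fin m => S) i))
  simpa using Subgroup.mem_comap.1 this

theorem normal_factor {S : Type*} [Group S] {m : ℕ} (i : Fin m) :
    (MonoidHom.mulSingle (fun _ : Fin m => S) i).range.Normal := by
  classical
  refine ⟨?_⟩
  rintro _ ⟨y, rfl⟩ g
  refine ⟨g i * y * (g i)⁻¹, ?_⟩
  funext l
  rcases eq_or_ne l i with rfl | hl
  · simp
  · simp [hl]

/-- Automorphisms of a power of a nonabelian simple group permute the coordinates. -/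
theorem exists_perm_of_aut {S : Type*} [Group S] [IsSimpleGroup S] (hS : ∃ a b : S, a * b ≠ b * a)
    {m : ℕ} (φ : (Fin m → S) ≃* (Fin m → S)) :
    ∃ π : Fin m ≃ Fin m, ∀ x i, orderOf (φ x (π i)) = orderOf (x i) := by
  classical
  obtain ⟨s₀, hs₀⟩ := exists_ne (1 : S)
  have key : ∀ ψ : (Fin m → S) ≃* (Fin m → S), ∀ i, ∃ j, ∀ t : S, ∃ u, ψ (Pi.mulSingle j t) =
      Pi.mulSingle i u := by
    intro ψ i
    have hne : (ψ.symm (Pi.mulSingle i s₀)) ≠ 1 := by simpa using hs₀
    obtain ⟨j, hj⟩ := Function.ne_iff.1 hne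
    refine ⟨j, fun t => ?_⟩
    have hn : ((MonoidHom.mulSingle (fun _ : Fin m => S) i).range.comap ψ.toMonoidHom).Normal :=
      Subgroup.Normal.comap (normal_factor i) _
    have := mulSingle_mem_of_normal hS hn (x := ψ.symm (Pi.mulSingle i s₀))
      (by simp [Subgroup.mem_comap]) hj t
    obtain ⟨u, hu⟩ := Subgroup.mem_comap.1 this
    exact ⟨u, hu.symm⟩
  choose f hf using key φ
  choose u hu using hf
  have finj : Function.Injective f := by
    intro a b hab
    by_contra hne
    have h := hu a s₀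
    rw [hab, hu b s₀] at h
    have h' := congrFun h b
    rw [Pi.mulSingle_eq_same, Pi.mulSingle_eq_of_ne (Ne.symm hne)] at h'
    have h2 := hu b s₀
    rw [h', Pi.mulSingle_one] at h2
    exact hs₀ (by simpa using congrFun ((map_eq_one_iff φ φ.injective).1 h2) (f b))
  let τ : Fin m ≃ Fin m := Equiv.ofBijective f (Finite.injective_iff_bijective.1 finj)
  refine ⟨τ.symm, fun x i => ?_⟩
  set a := τ.symm i with ha
  have hi : f a = i := τ.apply_symm_apply i
  -- split off the coordinate `i`
  let y : Fin m → S := (Pi.mulSingle i (x i))⁻¹ * x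
  have hyi : y i = 1 := by simp [y]
  have hxy : x = Pi.mulSingle i (x i) * y := by simp [y]
  have hya : φ y a = 1 := by
    have hmem : y ∈ ((Pi.evalMonoidHom (fun _ : Fin m => S) a).comp φ.toMonoidHom).ker := by
      refine Subgroup.pi_mem_of_mulSingle_mem y fun l => ?_
      rcases eq_or_ne l i with rfl | hl
      · rw [hyi, Pi.mulSingle_one]; exact Subgroup.one_mem _
      · obtain ⟨b, hb⟩ := (Finite.injective_iff_bijective.1 finj).2 l
        have hne : a ≠ b := fun h => hl (by rw [← hb, ← h, hi])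
        rw [MonoidHom.mem_ker, ← hb]
        change φ (Pi.mulSingle (f b) (y (f b))) a = 1
        rw [hu b, Pi.mulSingle_eq_of_ne hne]
    exact hmem
  have hxa : φ x a = u a (x i) := by
    rw [hxy, map_mul, Pi.mul_apply, hya, mul_one]
    simp only [← hxy]
    rw [← hi, hu a]
    simp
  rw [hxa]
  -- the coordinate map is an injective homomorphism
  let h : S →* S := ((Pi.evalMonoidHom (fun _ : Fin m => S) a).comp φ.toMonoidHom).comp
    (MonoidHom.mulSingle (fun _ : Fin m => S) (f a))
  have hh : ∀ t, h t = u a t := fun t => by simp [h, hu a]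
  have hinj : Function.Injective h := by
    intro t t' e
    rw [hh, hh] at e
    have : φ (Pi.mulSingle (f a) t) = φ (Pi.mulSingle (f a) t') := by rw [hu, hu, e]
    exact Pi.mulSingle_injective (f a) (φ.injective this)
  rw [← hh]
  exact orderOf_injective h hinj _

theorem three_classes {G : Type*} [Group G] [Finite G] {P : G → Prop}
    (hκ : Nat.card {c : ConjClasses G // ∃ g : G, ConjClasses.mk g = c ∧ P g} = 2)
    {x y z : G} (hx : P x) (hy : P y) (hz : P z)
    (hxy : ¬ IsConj x y) (hxz : ¬ IsConj x z) (hyz : ¬ IsConj y z) : False := by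
  classical
  haveI := Fintype.ofFinite {c : ConjClasses G // ∃ g : G, ConjClasses.mk g = c ∧ P g}
  rw [Nat.card_eq_fintype_card] at hκ
  let f : Fin 3 → {c : ConjClasses G // ∃ g : G, ConjClasses.mk g = c ∧ P g} :=
    ![⟨_, x, rfl, hx⟩, ⟨_, y, rfl, hy⟩, ⟨_, z, rfl, hz⟩]
  have hinj : Function.Injective f := by
    intro a b hab
    have e := congrArg Subtype.val hab
    fin_cases a <;> fin_cases b <;>
      simp [f] at e <;> (try rw [ConjClasses.mk_eq_mk_iff_isConj] at e) <;>
      first
        | rfl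
        | exact absurd e hxy | exact absurd e.symm hxy
        | exact absurd e hxz | exact absurd e.symm hxz
        | exact absurd e hyz | exact absurd e.symm hyz
  have := Fintype.card_le_of_injective f hinj
  simp [hκ] at this

theorem orderOf_eq_of_isConj {G : Type*} [Group G] {x y : G} (h : IsConj x y) :
    orderOf x = orderOf y := by
  obtain ⟨g, rfl⟩ := isConj_iff.1 h
  exact (MulEquiv.orderOf_eq (MulAut.conj g) x).symm

/-- A non-regular minimal normal power of a simple group gives three classes of derangements. -/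
theorem power_case {G : Type*} [Group G] [Finite G] {Ω : Type*} [MulAction G Ω]
    (hκ : Nat.card {c : ConjClasses G // ∃ g : G, ConjClasses.mk g = c ∧ ∀ ω : Ω, g • ω ≠ ω} = 2)
    (α : Ω) (N : Subgroup G) [N.Normal] (htr : IsPretransitive N Ω) (hfix : stabilizer N α ≠ ⊤)
    {S : Type*} [Group S] [IsSimpleGroup S] (hS : ∃ a b : S, a * b ≠ b * a) {m : ℕ} (hm : 2 ≤ m)
    (e : N ≃* (Fin m → S)) : False := by
  classical
  haveI : Finite S := by
    haveI : Finite (Fin m → S) := Finite.of_equiv _ e.toEquiv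
    exact Finite.of_injective (fun s : S => (Pi.mulSingle (⟨0, by omega⟩ : Fin m) s : Fin m → S))
      (Pi.mulSingle_injective (M := fun _ : Fin m => S) _)
  set L : Subgroup (Fin m → S) := (stabilizer N α).map e.toMonoidHom with hL
  let D : (Fin m → S) → Prop := fun x => ∀ v, v * x * v⁻¹ ∉ L
  have hD : ∀ x, D x → ∀ ω : Ω, ((e.symm x : N) : G) • ω ≠ ω := by
    intro x hx ω hω
    obtain ⟨n, hn⟩ := exists_smul_eq N ω α
    refine hx (e n) ⟨n * e.symm x * n⁻¹, ?_, by simp⟩
    rw [SetLike.mem_coe, mem_stabilizer_iff, mul_smul, mul_smul, ← hn, inv_smul_smul]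
    exact congrArg (n • ·) hω
  have hconj : ∀ x x' : Fin m → S, IsConj ((e.symm x : N) : G) ((e.symm x' : N) : G) →
      ∃ π : Fin m ≃ Fin m, ∀ i, orderOf (x' (π i)) = orderOf (x i) := by
    intro x x' h
    obtain ⟨g, hg⟩ := isConj_iff.1 h
    obtain ⟨π, hπ⟩ := exists_perm_of_aut hS ((e.symm.trans (MulAut.conjNormal g)).trans e)
    refine ⟨π, fun i => ?_⟩
    have hx' : ((e.symm.trans (MulAut.conjNormal g)).trans e) x = x' := by
      simp only [MulEquiv.trans_apply]
      rw [show MulAut.conjNormal g (e.symm x) = e.symm x' from Subtype.ext (by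
        rw [MulAut.conjNormal_apply]; exact hg)]
      simp
    rw [← hx']; exact hπ x i
  have hns : ¬ Group.IsSolvable S := by
    intro hsol
    obtain ⟨a, b, hab⟩ := hS
    exact hab ((IsSimpleGroup.comm_iff_isSolvable.2 hsol) a b)
  by_cases hproj : ∃ i, L.map (Pi.evalMonoidHom (fun _ : Fin m => S) i) ≠ ⊤
  · obtain ⟨i, hi⟩ := hproj
    obtain ⟨t, ht⟩ := exists_not_conj_mem hi
    have ht1 : t ≠ 1 := fun h => ht 1 (by simp [h, Subgroup.one_mem])
    have hot : orderOf t ≠ 1 := fun h => ht1 (orderOf_eq_one_iff.1 h)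
    obtain ⟨s, hs1, hst⟩ : ∃ s : S, orderOf s ≠ 1 ∧ orderOf s ≠ orderOf t := by
      obtain ⟨a, b, c, ha, hb, hc, hab, hac, hbc⟩ := exists_three_elements hns
      by_cases hat : orderOf a = orderOf t
      · exact ⟨b, fun h => hb (orderOf_eq_one_iff.1 h), fun h => hab (hat.trans h.symm)⟩
      · exact ⟨a, fun h => ha (orderOf_eq_one_iff.1 h), hat⟩
    haveI : Nontrivial (Fin m) := Fin.nontrivial_iff_two_le.2 hm
    obtain ⟨j, hj⟩ := exists_ne i
    let x₁ : Fin m → S := Pi.mulSingle i t
    let x₂ : Fin m → S := Pi.mulSingle i t * Pi.mulSingle j t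
    let x₃ : Fin m → S := Pi.mulSingle i t * Pi.mulSingle j s
    have hmemD : ∀ x : Fin m → S, x i = t → D x := fun x hxi v hv =>
      ht (v i) ⟨_, hv, by simp [hxi]⟩
    let cnt : (Fin m → S) → ℕ → ℕ := fun x k => (Finset.univ.filter fun l => orderOf (x l) = k).card
    have hcnt : ∀ x x' : Fin m → S, IsConj ((e.symm x : N) : G) ((e.symm x' : N) : G) →
        ∀ k, cnt x k = cnt x' k := by
      intro x x' h k
      obtain ⟨π, hπ⟩ := hconj x x' h
      refine Finset.card_equiv π fun l => ?_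
      simp [hπ]
    have h11 : cnt x₁ (orderOf t) = 1 := by
      refine Finset.card_eq_one.2 ⟨i, Finset.ext fun l => ?_⟩
      rcases eq_or_ne l i with rfl | hl
      · simp [x₁]
      · simp [x₁, hl, Ne.symm hot]
    have h21 : cnt x₂ (orderOf t) = 2 := by
      refine Finset.card_eq_two.2 ⟨i, j, hj.symm, Finset.ext fun l => ?_⟩
      rcases eq_or_ne l i with rfl | hl
      · simp [x₂, hj.symm]
      · rcases eq_or_ne l j with rfl | hlj
        · simp [x₂, hj]
        · simp [x₂, hl, hlj, Ne.symm hot]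
    have h31 : cnt x₃ (orderOf t) = 1 := by
      refine Finset.card_eq_one.2 ⟨i, Finset.ext fun l => ?_⟩
      rcases eq_or_ne l i with rfl | hl
      · simp [x₃, hj.symm]
      · rcases eq_or_ne l j with rfl | hlj
        · simp [x₃, hj, hst]
        · simp [x₃, hl, hlj, Ne.symm hot]
    have h1s : cnt x₁ (orderOf s) = 0 := by
      refine Finset.card_eq_zero.2 (Finset.filter_eq_empty_iff.2 fun l _ => ?_)
      rcases eq_or_ne l i with rfl | hl
      · simp [x₁, Ne.symm hst]
      · simp [x₁, hl, Ne.symm hs1]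
    have h3s : 0 < cnt x₃ (orderOf s) :=
      Finset.card_pos.2 ⟨j, by simp [x₃, hj]⟩
    refine three_classes hκ (hD x₁ (hmemD _ (by simp [x₁])))
      (hD x₂ (hmemD _ (by simp [x₂, hj.symm]))) (hD x₃ (hmemD _ (by simp [x₃, hj.symm])))
      (fun h => ?_) (fun h => ?_) (fun h => ?_)
    · have := hcnt _ _ h (orderOf t); omega
    · have := hcnt _ _ h (orderOf s); omega
    · have := hcnt _ _ h (orderOf t); omega
  · simp only [not_exists, not_not] at hproj
    have hnormK : ∀ i, (L.comap (MonoidHom.mulSingle (fun _ : Fin m => S) i)).Normal := by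
      refine fun i => ⟨fun y hy g => ?_⟩
      obtain ⟨l, hl, hlg⟩ := (hproj i ▸ Subgroup.mem_top g :
        g ∈ L.map (Pi.evalMonoidHom (fun _ : Fin m => S) i))
      have : l * Pi.mulSingle i y * l⁻¹ ∈ L :=
        L.mul_mem (L.mul_mem hl (by simpa using hy)) (L.inv_mem hl)
      rw [Subgroup.mem_comap]
      convert this using 1
      funext k
      rcases eq_or_ne k i with rfl | hk
      · simp [← hlg]
      · simp [hk]
    by_cases hall : ∀ i, L.comap (MonoidHom.mulSingle (fun _ : Fin m => S) i) = ⊤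
    · apply hfix
      have hLtop : L = ⊤ := by
        rw [eq_top_iff]
        intro x _
        refine Subgroup.pi_mem_of_mulSingle_mem x fun l => ?_
        have := (hall l ▸ Subgroup.mem_top (x l) :
          x l ∈ L.comap (MonoidHom.mulSingle (fun _ : Fin m => S) l))
        simpa using this
      rw [eq_top_iff]
      intro n _
      obtain ⟨n', hn', he⟩ := (hLtop ▸ Subgroup.mem_top (e n) : e n ∈ L)
      exact e.injective he ▸ hn'
    · simp only [not_forall] at hall
      obtain ⟨i, hi⟩ := hall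
      have hbot := (hnormK i).eq_bot_or_eq_top.resolve_right hi
      have hmemD : ∀ t : S, t ≠ 1 → D (Pi.mulSingle i t) := by
        intro t ht v hv
        have hv' : v * Pi.mulSingle i t * v⁻¹ = Pi.mulSingle i (v i * t * (v i)⁻¹) := by
          funext k
          rcases eq_or_ne k i with rfl | hk
          · simp
          · simp [hk]
        rw [hv'] at hv
        have : v i * t * (v i)⁻¹ = 1 := Subgroup.mem_bot.1 (hbot ▸ Subgroup.mem_comap.2 (by simpa using hv))
        exact ht (conj_eq_one_iff.1 this)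
      obtain ⟨a, b, c, ha, hb, hc, hab, hac, hbc⟩ := exists_three_elements hns
      have hord : ∀ t : S, orderOf ((e.symm (Pi.mulSingle i t) : N) : G) = orderOf t := by
        intro t
        rw [Subgroup.orderOf_coe, MulEquiv.orderOf_eq]
        exact orderOf_injective (MonoidHom.mulSingle (fun _ : Fin m => S) i)
          (Pi.mulSingle_injective (M := fun _ : Fin m => S) i) t
      refine three_classes hκ (hD _ (hmemD a ha)) (hD _ (hmemD b hb)) (hD _ (hmemD c hc))
        (fun h => ?_) (fun h => ?_) (fun h => ?_) <;>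
        (have := orderOf_eq_of_isConj h; rw [hord, hord] at this; omega)

/-- Counting: with a transitive normal semiregular subgroup, uniqueness of fixed points gives existence. -/
theorem fixed_of_unique {G : Type*} [Group G] [Finite G] {Ω : Type*} [MulAction G Ω] [Finite Ω]
    [Nonempty Ω] [IsPretransitive G Ω] (N : Subgroup G) [N.Normal] [IsPretransitive N Ω]
    (h : ∀ g : G, g ∉ N → Nat.card (fixedBy Ω g) ≤ 1) :
    ∀ g : G, g ∉ N → ∃ ω : Ω, g • ω = ω := by
  classical
  haveI := Fintype.ofFinite G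
  haveI := Fintype.ofFinite Ω
  have hsumG := sum_card_fixedBy_eq_card_orbits_mul_card_group G Ω
  have hsumN := sum_card_fixedBy_eq_card_orbits_mul_card_group N Ω
  have horbG : Fintype.card (Quotient (orbitRel G Ω)) = 1 := by
    haveI := (pretransitive_iff_subsingleton_quotient G Ω).1 inferInstance
    exact Fintype.card_eq_one_iff.2 ⟨Quotient.mk'' (Classical.arbitrary Ω), fun a => Subsingleton.elim _ _⟩
  have horbN : Fintype.card (Quotient (orbitRel N Ω)) = 1 := by
    haveI := (pretransitive_iff_subsingleton_quotient N Ω).1 inferInstance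
    exact Fintype.card_eq_one_iff.2 ⟨Quotient.mk'' (Classical.arbitrary Ω), fun a => Subsingleton.elim _ _⟩
  rw [horbG, one_mul] at hsumG
  rw [horbN, one_mul] at hsumN
  let f : G → ℕ := fun g => Fintype.card (fixedBy Ω g)
  have hNsum : ∑ g ∈ Finset.univ.filter (· ∈ N), f g = Fintype.card N := by
    rw [← hsumN, Finset.sum_subtype (p := fun g => g ∈ N) _ (fun g => by simp) f]
    exact Finset.sum_congr rfl fun g _ => Fintype.card_congr (Equiv.refl _)
  have hcardN : (Finset.univ.filter fun g : G => g ∈ N).card = Fintype.card N :=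
    (Fintype.card_subtype _).symm
  have hle : ∀ g ∈ (Finset.univ.filter fun g : G => g ∈ N)ᶜ, f g ≤ 1 := by
    intro g hg
    have := h g (by simpa using hg)
    rwa [Nat.card_eq_fintype_card] at this
  have hsplit := Finset.sum_add_sum_compl (Finset.univ.filter fun g : G => g ∈ N) f
  have hsplit' := Finset.card_add_card_compl (Finset.univ.filter fun g : G => g ∈ N)
  have hf : ∑ g : G, f g = Fintype.card G := hsumG
  have heq : ∑ g ∈ (Finset.univ.filter fun g : G => g ∈ N)ᶜ, f g =
      ∑ g ∈ (Finset.univ.filter fun g : G => g ∈ N)ᶜ, 1 := by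
    rw [← Finset.card_eq_sum_ones]; omega
  intro g hg
  have h1 := (Finset.sum_eq_sum_iff_of_le hle).1 heq g (by simp [hg])
  obtain ⟨z⟩ := Fintype.card_pos_iff.1 (by rw [show Fintype.card (fixedBy Ω g) = 1 from h1]; omega)
  exact ⟨z.1, z.2⟩

/-- A minimal normal subgroup is abelian here. -/
theorem minimal_normal_abelian {G : Type*} [Group G] [Finite G] {Ω : Type*} [MulAction G Ω]
    [FaithfulSMul G Ω] (hprim : IsPreprimitive G Ω) [Nontrivial Ω]
    (hnas : ¬ ∃ T : Subgroup G, T.Normal ∧ IsSimpleGroup T ∧ ¬ IsMulCommutative T ∧ Subgroup.centralizer (T : Set G) = ⊥)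
    (hκ : Nat.card {c : ConjClasses G // ∃ g : G, ConjClasses.mk g = c ∧ ∀ ω : Ω, g • ω ≠ ω} = 2)
    (α : Ω) (htrans : ∀ M : Subgroup G, M.Normal → M ≠ ⊥ → IsPretransitive M Ω)
    (N : Subgroup G) [N.Normal] (hN : N ≠ ⊥)
    (hmin : ∀ M : Subgroup G, M.Normal → M ≤ N → M = ⊥ ∨ M = N) : IsMulCommutative N := by
  classical
  by_contra hnc
  have hchar : ∀ H : Subgroup N, H.Characteristic → H = ⊥ ∨ H = ⊤ := by
    intro H hH
    haveI := hH
    rcases hmin (H.map N.subtype) inferInstance (Subgroup.map_subtype_le H) with h | h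
    · exact Or.inl (Subgroup.map_injective N.subtype_injective (h.trans (Subgroup.map_bot _).symm))
    · refine Or.inr (Subgroup.map_injective N.subtype_injective (h.trans ?_))
      rw [← MonoidHom.range_eq_map, Subgroup.range_subtype]
  have hns : ¬ Group.IsSolvable N := by
    intro hsol
    have hne : commutator N ≠ ⊤ := by
      intro h
      haveI : Nontrivial N := N.nontrivial_iff_ne_bot.mpr hN
      exact (Group.IsSolvable.commutator_lt_top_of_nontrivial N).ne h
    have hbot := (hchar (commutator N) inferInstance).resolve_right hne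
    exact hnc ⟨⟨fun a b => by
      have := Subgroup.commutator_mem_commutator (Subgroup.mem_top a) (Subgroup.mem_top b)
      rw [← commutator_def, hbot, Subgroup.mem_bot] at this
      exact commutatorElement_eq_one_iff_mul_comm.1 this⟩⟩
  -- not semiregular
  obtain ⟨n₀, ω₀, hn₀, hn₀1⟩ : ∃ (n : N) (ω : Ω), n • ω = ω ∧ n ≠ 1 := by
    by_contra hcon
    obtain ⟨a, b, c, ha, hb, hc, hab, hac, hbc⟩ := exists_three_elements hns
    have hd : ∀ t : N, t ≠ 1 → ∀ ω : Ω, (t : G) • ω ≠ ω := fun t ht ω h =>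
      hcon ⟨t, ω, h, ht⟩
    refine three_classes hκ (hd a ha) (hd b hb) (hd c hc) (fun h => ?_) (fun h => ?_) (fun h => ?_) <;>
      (have := orderOf_eq_of_isConj h; rw [Subgroup.orderOf_coe, Subgroup.orderOf_coe] at this; omega)
  have hC : Subgroup.centralizer (N : Set G) = ⊥ := by
    by_contra hC
    haveI := htrans _ inferInstance hC
    refine hn₀1 (Subtype.ext (eq_of_smul_eq_smul (α := Ω) fun ω => ?_))
    obtain ⟨c, hc⟩ := exists_smul_eq (Subgroup.centralizer (N : Set G)) ω₀ ω
    have hcomm := Subgroup.mem_centralizer_iff.1 c.2 n₀ n₀.2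
    rw [Subgroup.coe_one, one_smul, ← hc, Subgroup.smul_def, ← mul_smul, hcomm, mul_smul]
    exact congrArg ((c : G) • ·) hn₀
  have hsimple : ¬ IsSimpleGroup N := fun h => hnas ⟨N, inferInstance, h, hnc, hC⟩
  haveI : Nontrivial N := N.nontrivial_iff_ne_bot.mpr hN
  obtain ⟨S, _, _, m, hm1, ⟨e⟩⟩ := CfsgLib.Classical22.charSimple_iff.1 hchar
  have hS : ∃ a b : S, a * b ≠ b * a := by
    by_contra hab
    simp only [not_exists, not_not] at hab
    exact hnc ⟨⟨fun a b => e.injective (by
      rw [map_mul, map_mul]; funext i; exact hab _ _)⟩⟩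
  have hm : 2 ≤ m := by
    by_contra hlt
    obtain rfl : m = 1 := by omega
    refine hsimple ?_
    let e' : N ≃* S := e.trans (MulEquiv.funUnique (Fin 1) S)
    exact IsSimpleGroup.isSimpleGroup_of_surjective e'.symm.toMonoidHom e'.symm.surjective
  haveI htN := htrans N inferInstance hN
  refine power_case hκ α N htN (fun htop => ?_) hS hm e
  obtain ⟨β, hβ⟩ := exists_ne α
  obtain ⟨n, hn⟩ := exists_smul_eq N α β
  exact hβ (hn.symm.trans (mem_stabilizer_iff.1 (htop ▸ Subgroup.mem_top n)))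

/-- Let a finite group G act faithfully and primitively on a finite set Ω with at least two points, suppose G is not almost simple (no non-abelian simple normal subgroup with trivial centralizer), and suppose the derangements of G form exactly two conjugacy classes. Then either Ω has 3 points and G has order 3; or G has a non-trivial abelian normal subgroup N acting regularly, every non-identity element of G fixes at most one point (so, when n > 3, G is a Frobenius group with kernel N), the number n of points is odd and a point stabilizer has order (n − 1)/2; or G is 2-transitive with a non-trivial abelian regular normal subgroup and some non-identity element fixes at least two points (a non-Frobenius 2-transitive affine group). -/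
theorem result {G : Type*} [Group G] [Finite G] {Ω : Type*} [Fintype Ω] [MulAction G Ω] [FaithfulSMul G Ω] (hΩ : 2 ≤ Fintype.card Ω) (hprim : MulAction.IsPreprimitive G Ω) (hnas : ¬ ∃ T : Subgroup G, T.Normal ∧ IsSimpleGroup T ∧ ¬ IsMulCommutative T ∧ Subgroup.centralizer (T : Set G) = ⊥)
    (hκ : Nat.card {c : ConjClasses G // ∃ g : G, ConjClasses.mk g = c ∧ ∀ ω : Ω, g • ω ≠ ω} = 2) (α : Ω) :
    (Fintype.card Ω = 3 ∧ Nat.card G = 3) ∨
    ((∃ N : Subgroup G, N.Normal ∧ N ≠ ⊥ ∧ IsMulCommutative N ∧ ∀ ω : Ω, MulAction.stabilizer N ω = ⊥) ∧ (∀ g : G, g ≠ 1 → Nat.card (MulAction.fixedBy Ω g) ≤ 1) ∧ ¬ 2 ∣ Fintype.card Ω ∧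
        2 * Nat.card (MulAction.stabilizer G α) = Fintype.card Ω - 1) ∨
    ((∃ N : Subgroup G, N.Normal ∧ N ≠ ⊥ ∧ IsMulCommutative N ∧ ∀ ω : Ω, MulAction.stabilizer N ω = ⊥) ∧ MulAction.IsMultiplyPretransitive G Ω 2 ∧ ∃ g : G, g ≠ 1 ∧ 2 ≤ Nat.card (MulAction.fixedBy Ω g)) := by
  classical
  haveI : Nontrivial Ω := Fintype.one_lt_card_iff_nontrivial.1 (by omega)
  haveI := hprim
  have htrans : ∀ M : Subgroup G, M.Normal → M ≠ ⊥ → MulAction.IsPretransitive M Ω := by
    intro M hM hne
    haveI := hM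
    refine MulAction.IsQuasiPreprimitive.isPretransitive_of_normal fun h => hne ?_
    rw [eq_bot_iff]
    intro x hx
    refine Subgroup.mem_bot.2 (eq_of_smul_eq_smul (α := Ω) fun ω => ?_)
    rw [one_smul]
    exact (h ▸ Set.mem_univ ω : ω ∈ MulAction.fixedPoints M Ω) ⟨x, hx⟩
  haveI : Nontrivial G := by
    obtain ⟨β, hβ⟩ := exists_ne α
    obtain ⟨g, hg⟩ := MulAction.exists_smul_eq G α β
    exact ⟨g, 1, fun h => hβ (by rw [← hg, h, one_smul])⟩
  obtain ⟨N, ⟨hNn, hN⟩, hNmin⟩ := (Set.toFinite {N : Subgroup G | N.Normal ∧ N ≠ ⊥}).exists_minimal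
    ⟨⊤, inferInstance, top_ne_bot⟩
  haveI := hNn
  have hmin : ∀ K : Subgroup G, K.Normal → K ≤ N → K = ⊥ ∨ K = N := fun K hK hle =>
    or_iff_not_imp_left.mpr fun h => le_antisymm hle (hNmin ⟨hK, h⟩ hle)
  have hNc : IsMulCommutative N := minimal_normal_abelian hprim hnas hκ α htrans N hN hmin
  haveI hNt := htrans N inferInstance hN
  have hreg : ∀ (n : N) (ω : Ω), n • ω = ω → n = 1 := by
    intro n ω h
    refine Subtype.ext (eq_of_smul_eq_smul (α := Ω) fun τ => ?_)
    obtain ⟨c, hc⟩ := MulAction.exists_smul_eq N ω τ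
    change n • τ = (1 : G) • τ
    rw [one_smul, ← hc, ← mul_smul, hNc.is_comm.comm n c, mul_smul, h]
  have haff : ∃ N : Subgroup G, N.Normal ∧ N ≠ ⊥ ∧ IsMulCommutative N ∧ ∀ ω : Ω, MulAction.stabilizer N ω = ⊥ :=
    ⟨N, inferInstance, hN, hNc, fun ω => eq_bot_iff.2 fun n hn => Subgroup.mem_bot.2 (hreg n ω hn)⟩
  have hder : ∀ x ∈ N, x ≠ 1 → ∀ ω : Ω, x • ω ≠ ω := fun x hx hx1 ω h =>
    hx1 (congrArg Subtype.val (hreg ⟨x, hx⟩ ω h))
  -- conjugation can be done inside the stabilizer
  have hconjH : ∀ x ∈ N, ∀ g : G, ∃ h ∈ MulAction.stabilizer G α, h * x * h⁻¹ = g * x * g⁻¹ := by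
    intro x hx g
    obtain ⟨n, hn⟩ := MulAction.exists_smul_eq N (g • α) α
    refine ⟨(n : G) * g, ?_, ?_⟩
    · rw [MulAction.mem_stabilizer_iff, mul_smul]; exact hn
    · have hy : g * x * g⁻¹ ∈ N := hNn.conj_mem x hx g
      have hc : (n : G) * (g * x * g⁻¹) = g * x * g⁻¹ * n :=
        congrArg Subtype.val (hNc.is_comm.comm n ⟨_, hy⟩)
      calc (n : G) * g * x * ((n : G) * g)⁻¹ = (n : G) * (g * x * g⁻¹) * (n : G)⁻¹ := by group
        _ = g * x * g⁻¹ := by rw [hc]; group
  have hcardN : Nat.card N = Fintype.card Ω := by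
    rw [← Nat.card_eq_fintype_card]
    refine Nat.card_congr (Equiv.ofBijective (fun n : N => n • α) ⟨fun a b h => ?_, fun ω => MulAction.exists_smul_eq N α ω⟩)
    change a • α = b • α at h
    exact (inv_mul_eq_one.1 (hreg (b⁻¹ * a) α (by rw [mul_smul, h, inv_smul_smul]))).symm
  refine Or.inr ?_
  by_cases hone : ∀ x ∈ N, ∀ y ∈ N, x ≠ 1 → y ≠ 1 → IsConj x y
  · refine Or.inr ⟨haff, ?_, ?_⟩
    · have key : ∀ β γ : Ω, β ≠ α → γ ≠ α → ∃ h ∈ MulAction.stabilizer G α, h • β = γ := by
        intro β γ hβ hγ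
        obtain ⟨x, hx⟩ := MulAction.exists_smul_eq N α β
        obtain ⟨y, hy⟩ := MulAction.exists_smul_eq N α γ
        have hx1 : (x : G) ≠ 1 := fun h => hβ (by rw [← hx, Subgroup.smul_def, h, one_smul])
        have hy1 : (y : G) ≠ 1 := fun h => hγ (by rw [← hy, Subgroup.smul_def, h, one_smul])
        obtain ⟨g, hg⟩ := isConj_iff.1 (hone x x.2 y y.2 hx1 hy1)
        obtain ⟨h, hh, e⟩ := hconjH x x.2 g
        refine ⟨h, hh, ?_⟩
        have hhinv : h⁻¹ • α = α := MulAction.mem_stabilizer_iff.1 ((MulAction.stabilizer G α).inv_mem hh)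
        rw [← hx, ← hy, Subgroup.smul_def, Subgroup.smul_def, ← hg, ← e, mul_smul, mul_smul, hhinv]
      rw [MulAction.is_two_pretransitive_iff]
      intro a b c d hab hcd
      obtain ⟨g₁, hg₁⟩ := MulAction.exists_smul_eq G a α
      obtain ⟨g₂, hg₂⟩ := MulAction.exists_smul_eq G c α
      obtain ⟨h, hh, e⟩ := key (g₁ • b) (g₂ • d)
        (fun h' => hab (MulAction.injective g₁ (hg₁.trans h'.symm)))
        (fun h' => hcd (MulAction.injective g₂ (hg₂.trans h'.symm)))
      refine ⟨g₂⁻¹ * h * g₁, ?_, ?_⟩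
      · rw [mul_smul, mul_smul, hg₁, MulAction.mem_stabilizer_iff.1 hh, ← hg₂, inv_smul_smul]
      · rw [mul_smul, mul_smul, e, inv_smul_smul]
    · by_contra hcon
      simp only [not_exists, not_and, not_le] at hcon
      have hle : ∀ g : G, g ∉ N → Nat.card (MulAction.fixedBy Ω g) ≤ 1 := fun g hg => by
        have := hcon g (fun h => hg (h ▸ N.one_mem)); omega
      have hfix := fixed_of_unique N hle
      have hsub : Subsingleton {c : ConjClasses G // ∃ g : G, ConjClasses.mk g = c ∧ ∀ ω : Ω, g • ω ≠ ω} := by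
        refine ⟨?_⟩
        rintro ⟨_, g, rfl, hg⟩ ⟨_, g', rfl, hg'⟩
        have hmem : ∀ g : G, (∀ ω : Ω, g • ω ≠ ω) → g ∈ N ∧ g ≠ 1 := fun g hg =>
          ⟨by_contra fun h => (hfix g h).elim fun ω hω => hg ω hω,
            fun h => hg α (by rw [h, one_smul])⟩
        exact Subtype.ext (ConjClasses.mk_eq_mk_iff_isConj.2
          (hone g (hmem g hg).1 g' (hmem g' hg').1 (hmem g hg).2 (hmem g' hg').2))
      have := Finite.card_le_one_iff_subsingleton.2 hsub
      omega
  · simp only [not_forall] at hone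
    obtain ⟨x, hx, y, hy, hx1, hy1, hxy⟩ := hone
    have hcls : ∀ g : G, (∀ ω : Ω, g • ω ≠ ω) → IsConj x g ∨ IsConj y g := by
      intro g hg
      by_contra h
      rw [not_or] at h
      exact three_classes hκ (hder x hx hx1) (hder y hy hy1) hg hxy h.1 h.2
    have hin : ∀ g : G, (∀ ω : Ω, g • ω ≠ ω) → g ∈ N := by
      intro g hg
      rcases hcls g hg with h | h <;> obtain ⟨c, rfl⟩ := isConj_iff.1 h
      · exact hNn.conj_mem x hx c
      · exact hNn.conj_mem y hy c
    have huniq := CfsgLib.Recognition.fixed_unique (X := Ω) N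
      (fun g hg => by_contra fun h => hg (hin g fun ω hω => h ⟨ω, hω⟩))
    have hfix1 : ∀ g : G, g ≠ 1 → Nat.card (MulAction.fixedBy Ω g) ≤ 1 := by
      intro g hg
      refine Finite.card_le_one_iff_subsingleton.2 ⟨fun a b => Subtype.ext ?_⟩
      by_cases hgN : g ∈ N
      · exact absurd a.2 (hder g hgN hg a)
      · exact huniq g hgN a b a.2 b.2
    -- the stabilizer is semiregular on `N` minus the identity
    have horb : ∀ x ∈ N, x ≠ 1 → ∀ h ∈ MulAction.stabilizer G α, ∀ h' ∈ MulAction.stabilizer G α,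
        h * x * h⁻¹ = h' * x * h'⁻¹ → h = h' := by
      intro x hx hx1 h hh h' hh' e
      by_contra hne
      have hk : h'⁻¹ * h ≠ 1 := fun e' => hne (inv_mul_eq_one.1 e').symm
      have hkα : (h'⁻¹ * h) • α = α := MulAction.mem_stabilizer_iff.1
        ((MulAction.stabilizer G α).mul_mem ((MulAction.stabilizer G α).inv_mem hh') hh)
      have hkx : (h'⁻¹ * h) * x = x * (h'⁻¹ * h) := by
        calc (h'⁻¹ * h) * x = h'⁻¹ * (h * x * h⁻¹) * h := by group
          _ = x * (h'⁻¹ * h) := by rw [e]; group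
      have hkxα : (h'⁻¹ * h) • (x • α) = x • α := by rw [← mul_smul, hkx, mul_smul, hkα]
      haveI := Finite.card_le_one_iff_subsingleton.1 (hfix1 _ hk)
      exact hder x hx hx1 α (congrArg Subtype.val
        (Subsingleton.elim (⟨x • α, hkxα⟩ : MulAction.fixedBy Ω (h'⁻¹ * h)) ⟨α, hkα⟩))
    have hcard : 2 * Nat.card (MulAction.stabilizer G α) + 1 = Fintype.card Ω := by
      let H := MulAction.stabilizer G α
      let f : (H ⊕ H) → {z : N // z ≠ 1} := Sum.elim
        (fun h => ⟨⟨(h : G) * x * (h : G)⁻¹, hNn.conj_mem x hx _⟩,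
          fun e => hx1 (conj_eq_one_iff.1 (congrArg Subtype.val e))⟩)
        (fun h => ⟨⟨(h : G) * y * (h : G)⁻¹, hNn.conj_mem y hy _⟩,
          fun e => hy1 (conj_eq_one_iff.1 (congrArg Subtype.val e))⟩)
      have hf : Function.Bijective f := by
        have hmix : ∀ a b : G, a * x * a⁻¹ ≠ b * y * b⁻¹ := fun a b e =>
          hxy ((isConj_iff.2 ⟨a, e⟩).trans (isConj_iff.2 ⟨b, rfl⟩).symm)
        constructor
        · rintro (a | a) (b | b) e <;> have e' := congrArg (fun z : {z : N // z ≠ 1} => ((z : N) : G)) e <;>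
            simp only [f, Sum.elim_inl, Sum.elim_inr] at e'
          · exact congrArg Sum.inl (Subtype.ext (horb x hx hx1 a a.2 b b.2 e'))
          · exact absurd e' (hmix _ _)
          · exact absurd e'.symm (hmix _ _)
          · exact congrArg Sum.inr (Subtype.ext (horb y hy hy1 a a.2 b b.2 e'))
        · rintro ⟨z, hz⟩
          have hz1 : (z : G) ≠ 1 := fun h => hz (Subtype.ext h)
          rcases hcls z (hder z z.2 hz1) with h | h <;> obtain ⟨c, hc⟩ := isConj_iff.1 h
          · obtain ⟨k, hk, e⟩ := hconjH x hx c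
            exact ⟨Sum.inl ⟨k, hk⟩, Subtype.ext (Subtype.ext (e.trans hc))⟩
          · obtain ⟨k, hk, e⟩ := hconjH y hy c
            exact ⟨Sum.inr ⟨k, hk⟩, Subtype.ext (Subtype.ext (e.trans hc))⟩
      have h1 := Nat.card_congr (Equiv.ofBijective f hf)
      have h2 : Nat.card {z : N // z ≠ 1} + 1 = Nat.card N := by
        haveI := Fintype.ofFinite N
        have := Fintype.card_pos (α := N)
        rw [Nat.card_eq_fintype_card, Nat.card_eq_fintype_card,
          Fintype.card_subtype_compl (fun z : N => z = 1), Fintype.card_subtype_eq]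
        omega
      rw [Nat.card_sum] at h1
      change Nat.card (MulAction.stabilizer G α) + Nat.card (MulAction.stabilizer G α) = _ at h1
      omega
    exact Or.inl ⟨haff, hfix1, by omega, by omega⟩

end Cfsg.Agent.S3520
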