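import Cfsg.Statements.S3521
import Cfsg.Agent.Lib.Recog.ExtremelyPrimitive.Main

set_option autoImplicit false
set_option linter.style.haveILetI false
open Cfsg

namespace Cfsg.Agent.S3521

/-- Let a finite group G that is not solvable act faithfully and primitively on a finite set with p ^ d points (p prime), with a non-trivial abelian normal subgroup acting regularly (affine type) and with non-trivial point stabilizers each acting primitively on every one of its orbits (an insoluble extremely primitive group of affine type). Then p = 2; and if moreover G is not 2-transitive, then a point stabilizer is almost simple (it has a non-abelian simple normal subgroup with trivial centralizer). -/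
theorem result {G : Type*} [Group G] [Finite G] {Ω : Type*} [Fintype Ω] [MulAction G Ω] [FaithfulSMul G Ω] (p d : ℕ) (hp : p.Prime) (hcard : Fintype.card Ω = p ^ d) (hsol : ¬ Group.IsSolvable G)
    (N : Subgroup G) [N.Normal] (hN : N ≠ ⊥) (hNc : IsMulCommutative N) (hNreg : ∀ ω : Ω, MulAction.stabilizer N ω = ⊥)
    (hprim : MulAction.IsPreprimitive G Ω) (hH : ∀ α : Ω, MulAction.stabilizer G α ≠ ⊥) (hep : ∀ (α : Ω) (ω : Ω), MulAction.IsPreprimitive (MulAction.stabilizer G α) (MulAction.orbit (MulAction.stabilizer G α) ω)) (α : Ω) :
    p = 2 ∧ (¬ MulAction.IsMultiplyPretransitive G Ω 2 → ∃ T : Subgroup (MulAction.stabilizer G α), T.Normal ∧ IsSimpleGroup T ∧ ¬ IsMulCommutative T ∧ Subgroup.centralizer (T : Set (MulAction.stabilizer G α)) = ⊥) := by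
  have htr : ∀ K : Subgroup G, K.Normal → K ≠ ⊥ → MulAction.IsPretransitive K Ω := by
    intro K hK hK1
    haveI := hK
    refine MulAction.IsQuasiPreprimitive.isPretransitive_of_normal (G := G) (N := K) fun e => hK1 ?_
    refine (Subgroup.eq_bot_iff_forall K).2 fun k hk => FaithfulSMul.eq_of_smul_eq_smul (α := Ω) fun x => ?_
    have : x ∈ MulAction.fixedPoints K Ω := by rw [e]; trivial
    rw [one_smul]
    exact this ⟨k, hk⟩
  haveI hNt : MulAction.IsPretransitive N Ω := htr N (by assumption) hN
  letI : CommGroup N :=
    { (inferInstance : Group N) with mul_comm := fun a b => hNc.is_comm.comm a b }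
  letI : MulDistribMulAction (MulAction.stabilizer G α) N :=
    MulDistribMulAction.compHom N ((MulAut.conjNormal (H := N)).comp (MulAction.stabilizer G α).subtype)
  have hsmul : ∀ (h : MulAction.stabilizer G α) (n : N),
      ((h • n : N) : G) = (h : G) * n * (h : G)⁻¹ := fun h n => rfl
  have heq : ∀ (h : MulAction.stabilizer G α) (n : N),
      (((h • n : N) : G)) • α = (h : G) • ((n : G) • α) := fun h n => by
    rw [hsmul, mul_smul, mul_smul, show (h : G)⁻¹ • α = α from inv_smul_eq_iff.2 h.2.symm]
  have hinj : ∀ a b : N, (a : G) • α = (b : G) • α → a = b := fun a b h => by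
    have hmem : b⁻¹ * a ∈ MulAction.stabilizer N α := by
      show ((b : G)⁻¹ * (a : G)) • α = α
      rw [mul_smul, h, inv_smul_smul]
    rw [hNreg α, Subgroup.mem_bot] at hmem
    exact (eq_of_inv_mul_eq_one hmem).symm
  have hsurj : ∀ x : Ω, ∃ n : N, (n : G) • α = x := fun x =>
    MulAction.exists_smul_eq N α x
  have hdec : ∀ g : G, ∃ n : N, ∃ h : MulAction.stabilizer G α, g = (n : G) * h := fun g => by
    obtain ⟨n, hn⟩ := hsurj (g • α)
    exact ⟨n, ⟨(n : G)⁻¹ * g, by
      show ((n : G)⁻¹ * g) • α = α
      rw [mul_smul, ← hn, inv_smul_smul]⟩, (mul_inv_cancel_left _ _).symm⟩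
  have hirr : ∀ W : Subgroup N, (∀ (h : MulAction.stabilizer G α), ∀ n ∈ W, h • n ∈ W) →
      W = ⊥ ∨ W = ⊤ := by
    intro W hW
    by_cases hW1 : W.map N.subtype = ⊥
    · exact Or.inl ((Subgroup.map_eq_bot_iff_of_injective _ N.subtype_injective).1 hW1)
    right
    have hn : (W.map N.subtype).Normal := ⟨by
      rintro _ ⟨w, hw, rfl⟩ g
      obtain ⟨n, h, rfl⟩ := hdec g
      refine ⟨h • w, hW h w hw, ?_⟩
      show ((h • w : N) : G) = (n : G) * h * w * ((n : G) * h)⁻¹
      calc ((h • w : N) : G) = ((n * (h • w) * n⁻¹ : N) : G) := by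
            rw [mul_comm n, mul_inv_cancel_right]
        _ = _ := by
            rw [Subgroup.coe_mul, Subgroup.coe_mul, Subgroup.coe_inv, hsmul]; group⟩
    haveI := htr _ hn hW1
    refine eq_top_iff.2 fun n _ => ?_
    obtain ⟨⟨_, w, hw, rfl⟩, hwn⟩ := MulAction.exists_smul_eq (W.map N.subtype) α ((n : G) • α)
    rw [← hinj w n hwn]
    exact hw
  have hfaith : ∀ h : MulAction.stabilizer G α, (∀ n : N, h • n = n) → h = 1 := fun h hh => by
    refine Subtype.ext (FaithfulSMul.eq_of_smul_eq_smul (α := Ω) fun x => ?_)
    obtain ⟨n, rfl⟩ := hsurj x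
    rw [← heq, hh n, Subgroup.coe_one, one_smul]
  have hyp : CfsgLib.Recog.ExtremelyPrimitive.Hyp (MulAction.stabilizer G α) N := by
    refine ⟨hirr, hfaith, fun n hn => ?_, fun hs => hsol ?_⟩
    · have hst : MulAction.stabilizer (MulAction.stabilizer G α) n =
          MulAction.stabilizer (MulAction.stabilizer G α) ((n : G) • α) := by
        ext h
        refine ⟨fun e => ?_, fun e => ?_⟩
        · show (h : G) • (n : G) • α = (n : G) • α
          rw [← heq, show h • n = n from e]
        · exact hinj _ _ ((heq h n).trans e)
      haveI := hep α ((n : G) • α)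
      haveI : Nontrivial (MulAction.orbit (MulAction.stabilizer G α) ((n : G) • α)) := by
        by_contra hc
        rw [not_nontrivial_iff_subsingleton] at hc
        have hfix : ∀ h : MulAction.stabilizer G α, h • n = n := fun h => by
          refine hinj _ _ ((heq h n).trans ?_)
          exact congrArg Subtype.val (hc.elim
            (⟨(h : G) • (n : G) • α, ⟨h, rfl⟩⟩ :
              MulAction.orbit (MulAction.stabilizer G α) ((n : G) • α))
            ⟨(n : G) • α, MulAction.mem_orbit_self _⟩)
        rcases hirr (CfsgLib.Recog.ExtremelyPrimitive.fixV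
            (⊤ : Subgroup (MulAction.stabilizer G α))) (fun h m hm => by
              rw [hm h trivial]; exact hm) with e | e
        · have : n ∈ CfsgLib.Recog.ExtremelyPrimitive.fixV
              (⊤ : Subgroup (MulAction.stabilizer G α)) := fun h _ => hfix h
          rw [e, Subgroup.mem_bot] at this
          exact hn this
        · refine hH α ((Subgroup.eq_bot_iff_forall _).2 fun g hg => ?_)
          refine congrArg Subtype.val (hfaith ⟨g, hg⟩ fun m => ?_)
          have : m ∈ CfsgLib.Recog.ExtremelyPrimitive.fixV
              (⊤ : Subgroup (MulAction.stabilizer G α)) := by rw [e]; trivial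
          exact this _ trivial
      have hco := (MulAction.isCoatom_stabilizer_iff_preprimitive
        (G := MulAction.stabilizer G α) (X := MulAction.orbit (MulAction.stabilizer G α) ((n : G) • α))
        (⟨(n : G) • α, MulAction.mem_orbit_self _⟩ :
          MulAction.orbit (MulAction.stabilizer G α) ((n : G) • α))).2 inferInstance
      rw [hst]
      convert hco using 1
      ext h
      exact ⟨fun e => Subtype.ext e, fun e => congrArg Subtype.val e⟩
    · haveI := hs
      haveI : Group.IsSolvable N := Group.isSolvable_of_comm fun a b => hNc.is_comm.comm a b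
      haveI : Group.IsSolvable (G ⧸ N) := Group.isSolvable_of_surjective
        (f := (QuotientGroup.mk' N).comp (MulAction.stabilizer G α).subtype) fun q => by
          obtain ⟨g, rfl⟩ := QuotientGroup.mk'_surjective N q
          obtain ⟨n, h, rfl⟩ := hdec g
          refine ⟨h, ?_⟩
          rw [MonoidHom.comp_apply, map_mul, show QuotientGroup.mk' N (n : G) = 1 from
            (QuotientGroup.eq_one_iff _).2 n.2, one_mul]
          rfl
      exact (Group.isSolvable_iff_subgroup_quotient N).2 ⟨inferInstance, inferInstance⟩
  have hcardN : Nat.card N = p ^ d := by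
    rw [← hcard, ← Nat.card_eq_fintype_card]
    exact Nat.card_eq_of_bijective (fun n : N => (n : G) • α) ⟨fun a b h => hinj a b h, hsurj⟩
  have hexp : ∀ n : N, n ^ p = 1 := by
    let W : Subgroup N :=
      { carrier := {n | n ^ p = 1}
        mul_mem' := fun {a b} ha hb => by
          show (a * b) ^ p = 1
          rw [mul_pow, show a ^ p = 1 from ha, show b ^ p = 1 from hb, one_mul]
        one_mem' := one_pow p
        inv_mem' := fun {a} ha => by
          show a⁻¹ ^ p = 1
          rw [inv_pow, show a ^ p = 1 from ha, inv_one] }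
    have hd : p ∣ Nat.card N := by
      rw [hcardN]
      refine dvd_pow_self p fun e => ?_
      rw [e, pow_zero] at hcardN
      exact hN (Subgroup.eq_bot_of_card_eq N hcardN)
    haveI := Fact.mk hp
    obtain ⟨a, ha⟩ := exists_prime_orderOf_dvd_card' p hd
    rcases hirr W (fun h n hn => by
      show (h • n) ^ p = 1
      rw [← smul_pow', show n ^ p = 1 from hn, smul_one]) with e | e
    · have : a ∈ W := by
        show a ^ p = 1
        rw [← ha, pow_orderOf_eq_one]
      rw [e, Subgroup.mem_bot] at this
      rw [this, orderOf_one] at ha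
      exact absurd ha.symm hp.ne_one
    · intro n
      have : n ∈ W := by rw [e]; trivial
      exact this
  exact ⟨hyp.prime_eq_two hp hexp, fun _ => hyp.exists_simple hp hexp⟩

end Cfsg.Agent.S3521
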