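import Cfsg.Statements.S3532
import Cfsg.Agent.Lib.Spectrum.Frobenius
import Cfsg.Agent.Lib.KnownSimple.PSLSpectrum

set_option autoImplicit false
open Cfsg

namespace Cfsg.Agent.S3532

open Matrix

variable {F : Type*} [Field F] [Fintype F]

/-- The shear. -/
def shearEl : Matrix.SpecialLinearGroup (Fin 2) F := ⟨!![1, 1; 0, 1], by simp [det_fin_two]⟩

theorem shearEl_coe : ((shearEl : Matrix.SpecialLinearGroup (Fin 2) F) : Matrix (Fin 2) (Fin 2) F) =
    !![1, 1; 0, 1] := rfl

/-- The diagonal element `diag(g, g⁻¹)`. -/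
def diagEl (g : Fˣ) : Matrix.SpecialLinearGroup (Fin 2) F :=
  ⟨!![(g : F), 0; 0, ((g⁻¹ : Fˣ) : F)], by simp [det_fin_two]⟩

theorem diagEl_pow (g : Fˣ) (n : ℕ) :
    (diagEl g : Matrix (Fin 2) (Fin 2) F) ^ n = !![((g ^ n : Fˣ) : F), 0; 0, ((g⁻¹ ^ n : Fˣ) : F)] := by
  induction n with
  | zero => simp [Matrix.one_fin_two]
  | succ n ih =>
    rw [pow_succ, ih]
    show !![((g ^ n : Fˣ) : F), 0; 0, ((g⁻¹ ^ n : Fˣ) : F)] * !![(g : F), 0; 0, ((g⁻¹ : Fˣ) : F)] = _
    ext i j
    fin_cases i <;> fin_cases j <;> simp [Matrix.mul_apply, Fin.sum_univ_two, pow_succ]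

theorem ch2 (s : Matrix.SpecialLinearGroup (Fin 2) F) :
    (s : Matrix (Fin 2) (Fin 2) F) * s =
      ((s : Matrix (Fin 2) (Fin 2) F) 0 0 + (s : Matrix (Fin 2) (Fin 2) F) 1 1) • (s : Matrix (Fin 2) (Fin 2) F) - 1 := by
  have h := s.prop
  rw [det_fin_two] at h
  ext i j
  fin_cases i <;> fin_cases j <;> simp [Matrix.mul_apply, Fin.sum_univ_two]
  · linear_combination -h
  · ring
  · ring
  · linear_combination -h

open CfsgLib.KnownSimple in
/-- The elements of `PSL(2, F)` fall into three cyclic types. -/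
theorem psl2_types (p : ℕ) [hp : Fact p.Prime] [CharP F p] :
    ∃ a b : ℕ, 0 < a ∧ 0 < b ∧ a.Coprime p ∧ b.Coprime p ∧
      (∃ g : Matrix.ProjectiveSpecialLinearGroup (Fin 2) F, orderOf g = a) ∧
      (∃ g : Matrix.ProjectiveSpecialLinearGroup (Fin 2) F, orderOf g = b) ∧
      (∃ g : Matrix.ProjectiveSpecialLinearGroup (Fin 2) F, orderOf g = p) ∧
      ∀ g : Matrix.ProjectiveSpecialLinearGroup (Fin 2) F, orderOf g ∣ p ∨ orderOf g ∣ a ∨ orderOf g ∣ b := by
  classical
  haveI : Finite (Matrix.ProjectiveSpecialLinearGroup (Fin 2) F) := inferInstance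
  obtain ⟨u, hu⟩ := IsCyclic.exists_generator (α := Fˣ)
  obtain ⟨Y, hY, hsing⟩ := orderOf_pslMk_dvd_singer (F := F) (n := 2) (by norm_num) (p := p) (c := 1)
    (by rw [pow_one]; exact hp.out.two_le)
  refine ⟨orderOf (pslMk (diagEl u)), orderOf (pslMk Y), orderOf_pos _, orderOf_pos _, ?_, hY,
    ⟨_, rfl⟩, ⟨_, rfl⟩, ?_, ?_⟩
  · refine Nat.Coprime.coprime_dvd_left (orderOf_dvd_of_pow_eq_one ((pslMk_pow_eq_one_iff _ _).2 ⟨1, ?_⟩) :
      orderOf (pslMk (diagEl u)) ∣ Fintype.card F - 1) (((hp.out).coprime_iff_not_dvd).2 ?_).symm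
    · rw [diagEl_pow, ← Fintype.card_units, inv_pow, pow_card_eq_one, inv_one, one_smul,
        Matrix.one_fin_two]
      rfl
    · intro h2
      have h3 : p ∣ Fintype.card F :=
        (CharP.cast_eq_zero_iff F p _).1 (FiniteField.cast_card_eq_zero F)
      have h4 : p ∣ 1 := by
        have := Nat.dvd_sub h3 h2
        rwa [Nat.sub_sub_self Fintype.card_pos] at this
      exact hp.out.ne_one (Nat.dvd_one.1 h4)
  · refine ⟨pslMk (shearEl (F := F)), orderOf_eq_prime ?_ ?_⟩
    · rw [pslMk_pow_eq_one_iff]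
      refine ⟨1, ?_⟩
      have hpow : ∀ n : ℕ, !![(1 : F), 1; 0, 1] ^ n = !![1, (n : F); 0, 1] := by
        intro n
        induction n with
        | zero => simp [Matrix.one_fin_two]
        | succ n ih =>
          rw [pow_succ, ih]
          ext i j
          fin_cases i <;> fin_cases j <;> simp [Matrix.mul_apply, Fin.sum_univ_two] <;> ring
      rw [shearEl_coe]
      rw [hpow, CharP.cast_eq_zero, one_smul, Matrix.one_fin_two]
    · intro h
      rw [← pow_one (pslMk _), pslMk_pow_eq_one_iff] at h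
      obtain ⟨c, hc⟩ := h
      rw [pow_one, shearEl_coe] at hc
      simpa using congrFun (congrFun hc 0) 1
  · intro g
    obtain ⟨s, rfl⟩ : ∃ s, pslMk s = g := QuotientGroup.mk'_surjective _ g
    set A : Matrix (Fin 2) (Fin 2) F := (s : Matrix (Fin 2) (Fin 2) F) with hA
    set t := A 0 0 + A 1 1 with ht
    have hch : A * A = t • A - 1 := ch2 s
    by_cases hroot : ∃ r : F, r * r - t * r + 1 = 0
    · obtain ⟨r, hr⟩ := hroot
      have hr0 : r ≠ 0 := by rintro rfl; simp at hr
      by_cases hd : r = r⁻¹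
      · left
        apply orderOf_dvd_of_pow_eq_one
        rw [pslMk_pow_eq_one_iff]
        refine ⟨r ^ p, ?_⟩
        have h2 : t = r + r := by
          have : r * r = 1 := by nth_rw 2 [hd]; exact mul_inv_cancel₀ hr0
          have e : r * (t - (r + r)) = 0 := by linear_combination (-1 : F) * hr - this
          exact sub_eq_zero.1 ((mul_eq_zero.1 e).resolve_left hr0)
        have hsq : (A - r • 1) ^ 2 = 0 := by
          have h1 : r * r = 1 := by nth_rw 2 [hd]; exact mul_inv_cancel₀ hr0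
          rw [sq, sub_mul, mul_sub, mul_sub, hch, h2]
          simp only [Matrix.mul_smul, mul_one, one_mul, Matrix.smul_mul, smul_smul, h1, one_smul, add_smul]
          abel
        have hp2 : (A - r • 1) ^ p = 0 := pow_eq_zero_of_le hp.out.two_le hsq
        have := add_pow_char_pow_of_commute p 1 ((Commute.one_right (A - r • 1)).smul_right r)
        rw [sub_add_cancel, pow_one, hp2, zero_add, smul_pow, one_pow] at this
        exact this
      · right; left
        set k := orderOf (pslMk (diagEl u))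
        obtain ⟨c, hc⟩ := (pslMk_pow_eq_one_iff _ _).1 (pow_orderOf_eq_one (pslMk (diagEl u)))
        rw [diagEl_pow] at hc
        have hu1 : ((u ^ k : Fˣ) : F) = ((u⁻¹ ^ k : Fˣ) : F) := by
          have e0 := congrFun (congrFun hc 0) 0
          have e1 := congrFun (congrFun hc 1) 1
          simp at e0 e1
          simp [inv_pow]
          exact e0.trans e1.symm
        obtain ⟨m, hm⟩ : ∃ m : ℕ, u ^ m = Units.mk0 r hr0 := mem_powers_iff_mem_zpowers.2 (hu _)
        have hrk : r ^ k = r⁻¹ ^ k := by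
          have hu2 : u ^ k = u⁻¹ ^ k := Units.ext hu1
          have : (Units.mk0 r hr0) ^ k = (Units.mk0 r hr0)⁻¹ ^ k := by
            rw [← hm, ← pow_mul, mul_comm, pow_mul, hu2, ← pow_mul, mul_comm k m, pow_mul, inv_pow]
          simpa using congrArg Units.val this
        have htr : t = r + r⁻¹ := by
          have e : r * (t - r) = 1 := by linear_combination (-1 : F) * hr
          rw [← eq_inv_of_mul_eq_one_right e]; ring
        have hne : r - r⁻¹ ≠ 0 := sub_ne_zero.2 hd
        obtain ⟨e, he⟩ : ∃ e, e = (r - r⁻¹)⁻¹ • (A - r⁻¹ • 1) := ⟨_, rfl⟩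
        have hAe : A * e = r • e := by
          rw [he, Matrix.mul_smul, mul_sub, hch, htr, smul_comm r]
          congr 1
          simp only [Matrix.mul_smul, mul_one, add_smul, smul_sub, smul_smul, mul_inv_cancel₀ hr0, one_smul]
          abel
        have hA' : A = (r - r⁻¹) • e + r⁻¹ • 1 := by
          rw [he, smul_smul, mul_inv_cancel₀ hne, one_smul, sub_add_cancel]
        have hpow : ∀ n : ℕ, A ^ n = (r ^ n - r⁻¹ ^ n) • e + r⁻¹ ^ n • 1 := by
          intro n
          induction n with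
          | zero => simp
          | succ n ih =>
            rw [pow_succ', ih, mul_add, Matrix.mul_smul, Matrix.mul_smul, hAe, mul_one]
            conv_lhs => arg 2; rw [hA']
            rw [smul_add, smul_smul, smul_smul, smul_smul, ← add_assoc, ← add_smul, pow_succ, pow_succ]
            congr 2
            ring
        apply orderOf_dvd_of_pow_eq_one
        rw [pslMk_pow_eq_one_iff]
        exact ⟨r⁻¹ ^ k, by rw [← hA, hpow, hrk, sub_self, zero_smul, zero_add]⟩
    · right; right
      push Not at hroot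
      -- the algebra generated by `A` is a field
      have hinv : ∀ a b : F, a • 1 + b • A ≠ 0 → IsUnit (a • (1 : Matrix (Fin 2) (Fin 2) F) + b • A) := by
        intro a b hab
        have hn : a * a + t * a * b + b * b ≠ 0 := by
          by_cases hb : b = 0
          · subst hb
            intro h
            simp at h
            exact hab (by simp [h])
          · intro h
            apply hroot (-a / b)
            field_simp
            linear_combination h
        have key : (a • (1 : Matrix (Fin 2) (Fin 2) F) + b • A) * ((a + t * b) • 1 - b • A) =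
            (a * a + t * a * b + b * b) • 1 := by
          simp only [mul_sub, add_mul, mul_add, Matrix.smul_mul, Matrix.mul_smul, one_mul, mul_one, hch,
            smul_smul, smul_sub, smul_add, add_smul]
          module
        refine IsUnit.of_mul_eq_one ((a * a + t * a * b + b * b)⁻¹ • ((a + t * b) • 1 - b • A)) ?_
        rw [Matrix.mul_smul, key, smul_smul, inv_mul_cancel₀ hn, one_smul]
      have hspan : ∀ x ∈ Algebra.adjoin F {A}, ∃ a b : F, x = a • 1 + b • A := by
        intro x hx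
        refine Algebra.adjoin_induction ?_ ?_ ?_ ?_ hx
        · intro y hy; rw [Set.mem_singleton_iff] at hy; subst hy; exact ⟨0, 1, by simp⟩
        · intro f; exact ⟨f, 0, by simp [Algebra.algebraMap_eq_smul_one]⟩
        · rintro _ _ _ _ ⟨a, b, rfl⟩ ⟨c, d, rfl⟩
          exact ⟨a + c, b + d, by simp only [add_smul]; abel⟩
        · rintro _ _ _ _ ⟨a, b, rfl⟩ ⟨c, d, rfl⟩
          refine ⟨a * c - b * d, a * d + b * c + b * d * t, ?_⟩
          simp only [add_mul, mul_add, Matrix.smul_mul, Matrix.mul_smul, one_mul, mul_one, hch, smul_smul,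
            smul_sub]
          module
      have hidem : ∀ e : Matrix (Fin 2) (Fin 2) F, e ∈ Algebra.adjoin F {A} →
          IsIdempotentElem e → e = 0 ∨ e = 1 := by
        intro e he hi
        by_cases h0 : e = 0
        · exact Or.inl h0
        obtain ⟨a, b, rfl⟩ := hspan e he
        exact Or.inr ((hinv a b h0).mul_left_cancel (hi.eq.trans (mul_one _).symm))
      have hdvd := hsing s hidem
      rw [pow_one] at hdvd
      refine (Nat.Coprime.dvd_of_dvd_mul_left ?_ hdvd)
      refine (((hp.out).coprime_iff_not_dvd).2 fun hpd => ?_).symm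
      set N := orderOf (pslMk s) / p with hN
      have hh : pslMk s ^ N ≠ 1 := pow_ne_one_of_lt_orderOf
        (Nat.div_pos (Nat.le_of_dvd (orderOf_pos _) hpd) hp.out.pos).ne'
        (Nat.div_lt_self (orderOf_pos _) hp.out.one_lt)
      have hhp : (pslMk s ^ N) ^ p = 1 := by
        rw [← pow_mul, Nat.div_mul_cancel hpd, pow_orderOf_eq_one]
      rw [← pow_mul] at hhp
      obtain ⟨c, hc⟩ := (pslMk_pow_eq_one_iff _ _).1 hhp
      obtain ⟨d, hd⟩ : ∃ d : F, d ^ p = c :=
        ⟨(iterateFrobeniusEquiv F p 1).symm c, by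
          have := (iterateFrobeniusEquiv F p 1).apply_symm_apply c
          rwa [iterateFrobeniusEquiv_apply, iterateFrobenius_def, pow_one] at this⟩
      have hnil : (A ^ N + (-d) • 1) ^ p = 0 := by
        have := add_pow_char_pow_of_commute p 1 ((Commute.one_right (A ^ N)).smul_right (-d))
        rw [pow_one, ← pow_mul, hA, hc, smul_pow, one_pow, ← add_smul, ← hd] at this
        rw [hA, this, show d ^ p + (-d) ^ p = 0 by
          rw [← add_pow_char, add_neg_cancel, zero_pow hp.out.pos.ne'], zero_smul]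
      have hmem : A ^ N + (-d) • 1 ∈ Algebra.adjoin F {A} :=
        add_mem (pow_mem (Algebra.self_mem_adjoin_singleton F A) _) ((Algebra.adjoin F {A}).smul_mem (one_mem _) _)
      obtain ⟨a, b, hab⟩ := hspan _ hmem
      by_cases h0 : a • (1 : Matrix (Fin 2) (Fin 2) F) + b • A = 0
      · refine hh ((pslMk_pow_eq_one_iff _ _).2 ⟨d, ?_⟩)
        have : A ^ N + (-d) • 1 = 0 := by rw [hab, h0]
        rw [← hA, eq_neg_of_add_eq_zero_left this, neg_smul, neg_neg]
      · have hu' := (hinv a b h0).pow p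
        rw [← hab, hnil] at hu'
        exact not_isUnit_zero hu'

theorem lcm_cases {x y p a b : ℕ} (hx : x ∣ p ∨ x ∣ a ∨ x ∣ b) (hy : y ∣ p ∨ y ∣ a ∨ y ∣ b) :
    ∃ u v, (u ∣ p ∨ u ∣ b) ∧ (v ∣ p ∨ v ∣ a) ∧ Nat.lcm x y = Nat.lcm u v := by
  rcases hx with hx | hx | hx <;> rcases hy with hy | hy | hy
  · exact ⟨x, y, Or.inl hx, Or.inl hy, rfl⟩
  · exact ⟨x, y, Or.inl hx, Or.inr hy, rfl⟩
  · exact ⟨y, x, Or.inr hy, Or.inl hx, Nat.lcm_comm _ _⟩
  · exact ⟨y, x, Or.inl hy, Or.inr hx, Nat.lcm_comm _ _⟩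
  · exact ⟨1, Nat.lcm x y, Or.inl (one_dvd _), Or.inr (Nat.lcm_dvd hx hy), (Nat.lcm_one_left _).symm⟩
  · exact ⟨y, x, Or.inr hy, Or.inr hx, Nat.lcm_comm _ _⟩
  · exact ⟨x, y, Or.inr hx, Or.inl hy, rfl⟩
  · exact ⟨x, y, Or.inr hx, Or.inr hy, rfl⟩
  · exact ⟨Nat.lcm x y, 1, Or.inr (Nat.lcm_dvd hx hy), Or.inl (one_dvd _), (Nat.lcm_one_right _).symm⟩

theorem range_orderOf_prod (G H : Type*) [Group G] [Group H] :
    Set.range (orderOf : G × H → ℕ) =
      {d | ∃ u ∈ Set.range (orderOf : G → ℕ), ∃ v ∈ Set.range (orderOf : H → ℕ), d = Nat.lcm u v} := by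
  ext d
  constructor
  · rintro ⟨x, rfl⟩; exact ⟨_, ⟨x.1, rfl⟩, _, ⟨x.2, rfl⟩, Prod.orderOf x⟩
  · rintro ⟨_, ⟨g, rfl⟩, _, ⟨h, rfl⟩, rfl⟩; exact ⟨(g, h), Prod.orderOf_mk⟩

/-- Let q ≥ 4 be a prime power and L = PSL(2,q). There is a finite solvable group with the same set of element orders as L × L (so L × L is not determined by its spectrum). -/
theorem result {F : Type*} [Field F] [Fintype F] (hF : 4 ≤ Fintype.card F) :
    ∃ (H : Type) (_ : Group H) (_ : Finite H), Group.IsSolvable H ∧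
      Set.range (orderOf : H → ℕ) = Set.range (orderOf : Matrix.ProjectiveSpecialLinearGroup (Fin 2) F × Matrix.ProjectiveSpecialLinearGroup (Fin 2) F → ℕ) := by
  classical
  obtain ⟨p, hchar⟩ := CharP.exists F
  haveI := hchar
  haveI hp : Fact p.Prime := ⟨CharP.char_is_prime F p⟩
  obtain ⟨a, b, ha, hb, hac, hbc, ⟨ga, hga⟩, ⟨gb, hgb⟩, ⟨gp, hgp⟩, hall⟩ := psl2_types (F := F) p
  obtain ⟨f, C, hf, hC⟩ := CfsgLib.Spectrum.exists_units_subgroup p b hbc hb
  obtain ⟨g, D, hg, hD⟩ := CfsgLib.Spectrum.exists_units_subgroup p a hac ha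
  open CfsgLib.Spectrum in
  haveI : Group.IsSolvable (FrobGroup C × FrobGroup D) := by
    have hs : ∀ {K : Type} [Field K] (C : Subgroup Kˣ), Group.IsSolvable (FrobGroup C) := fun {K} _ C =>
      Group.isSolvable_of_ker_le_range (SemidirectProduct.inl : Multiplicative K →* FrobGroup C)
        SemidirectProduct.rightHom (le_of_eq SemidirectProduct.range_inl_eq_ker_rightHom.symm)
    haveI := hs C
    haveI := hs D
    infer_instance
  open CfsgLib.Spectrum in
  refine ⟨FrobGroup C × FrobGroup D, inferInstance, inferInstance, inferInstance, ?_⟩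
  rw [range_orderOf_prod, range_orderOf_prod, CfsgLib.Spectrum.range_orderOf_frobGroup (p := p) C,
    CfsgLib.Spectrum.range_orderOf_frobGroup (p := p) D, hC, hD]
  have mem : ∀ d, d ∣ p ∨ d ∣ a ∨ d ∣ b →
      d ∈ Set.range (orderOf : Matrix.ProjectiveSpecialLinearGroup (Fin 2) F → ℕ) := by
    intro d hd
    rcases hd with hd | hd | hd
    · exact ⟨gp ^ (p / d), by rw [← hgp, orderOf_pow_orderOf_div (orderOf_pos _).ne' (hgp ▸ hd)]⟩
    · exact ⟨ga ^ (a / d), by rw [← hga, orderOf_pow_orderOf_div (orderOf_pos _).ne' (hga ▸ hd)]⟩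
    · exact ⟨gb ^ (b / d), by rw [← hgb, orderOf_pow_orderOf_div (orderOf_pos _).ne' (hgb ▸ hd)]⟩
  ext d
  constructor
  · rintro ⟨u, hu, v, hv, rfl⟩
    exact ⟨u, mem u (hu.imp id Or.inr), v, mem v (hv.imp id Or.inl), rfl⟩
  · rintro ⟨_, ⟨x, rfl⟩, _, ⟨y, rfl⟩, rfl⟩
    obtain ⟨u, v, hu, hv, e⟩ := lcm_cases (hall x) (hall y)
    exact ⟨u, hu, v, hv, e⟩

end Cfsg.Agent.S3532
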