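import Cfsg.Statements.S3546
import Cfsg.Agent.Lib.Recognition.Derangement

set_option autoImplicit false
open Cfsg

namespace Cfsg.Agent.S3546

/-- Let G act faithfully and transitively on a finite set and let D be the subgroup of G generated by the derangements (the elements fixing no point). Then D is itself transitive, and D contains every element of G whose number of fixed points is different from 1. -/
theorem result {G Ω : Type*} [Group G] [Finite G] [MulAction G Ω] [FaithfulSMul G Ω] [Finite Ω]
    (htrans : MulAction.IsPretransitive G Ω) :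
    MulAction.IsPretransitive ↥(Subgroup.closure {g : G | ∀ ω : Ω, g • ω ≠ ω}) Ω ∧
    ∀ g : G, Nat.card (MulAction.fixedBy Ω g) ≠ 1 → g ∈ Subgroup.closure {g : G | ∀ ω : Ω, g • ω ≠ ω} := by
  obtain hE | hne := isEmpty_or_nonempty Ω
  · exact ⟨⟨fun x => isEmptyElim x⟩, fun g _ => Subgroup.subset_closure fun ω => isEmptyElim ω⟩
  have hD : ∀ g ∉ CfsgLib.Recognition.derangementClosure G Ω, ∃ x : Ω, g • x = x :=
    fun g hg => CfsgLib.Recognition.exists_fixed_of_not_mem hg
  refine ⟨(CfsgLib.Recognition.dvd_card_sub_one _ hD).1, fun g hg => ?_⟩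
  by_contra hg'
  obtain ⟨x, hx⟩ := hD g hg'
  refine hg (Nat.card_eq_one_iff_exists.2 ⟨⟨x, hx⟩, fun y => Subtype.ext ?_⟩)
  exact CfsgLib.Recognition.fixed_unique _ hD g hg' _ _ y.2 hx

end Cfsg.Agent.S3546
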