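import Cfsg.Statements.S3549

set_option autoImplicit false
open Cfsg

namespace Cfsg.Agent.S3549

theorem fixed_unique {G X : Type*} [Group G] [Finite G] [MulAction G X] [Finite X]
    [MulAction.IsPretransitive G X] [Nonempty X] (D : Subgroup G) [D.Normal]
    (hD : ∀ g ∉ D, ∃ x : X, g • x = x) :
    ∀ g ∉ D, ∀ x y : X, g • x = x → g • y = y → x = y := by
  classical
  haveI := Fintype.ofFinite G
  haveI := Fintype.ofFinite X
  have hsumG := MulAction.sum_card_fixedBy_eq_card_orbits_mul_card_group G X
  have hsumD := MulAction.sum_card_fixedBy_eq_card_orbits_mul_card_group D X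
  have horb : Fintype.card (Quotient (MulAction.orbitRel G X)) = 1 := by
    haveI := (MulAction.pretransitive_iff_subsingleton_quotient G X).1 inferInstance
    haveI : Nonempty (Quotient (MulAction.orbitRel G X)) :=
      ⟨Quotient.mk'' (Classical.arbitrary X)⟩
    exact Fintype.card_eq_one_iff.2 ⟨Classical.arbitrary _, fun a => Subsingleton.elim _ _⟩
  rw [horb, one_mul] at hsumG
  let f : G → ℕ := fun g => Fintype.card (MulAction.fixedBy X g)
  have hDsum : ∑ g ∈ Finset.univ.filter (· ∈ D), f g =
      Fintype.card (Quotient (MulAction.orbitRel D X)) * Fintype.card D := by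
    rw [← hsumD]
    rw [Finset.sum_subtype (p := fun g => g ∈ D) _ (fun g => by simp) f]
    exact Finset.sum_congr rfl fun g _ => Fintype.card_congr (Equiv.refl _)
  have hcardD : (Finset.univ.filter fun g : G => g ∈ D).card = Fintype.card D :=
    (Fintype.card_subtype _).symm
  have hsplit := Finset.sum_add_sum_compl (Finset.univ.filter fun g : G => g ∈ D) f
  have hsplit' := Finset.card_add_card_compl (Finset.univ.filter fun g : G => g ∈ D)
  have hge : ∀ g ∈ (Finset.univ.filter fun g : G => g ∈ D)ᶜ, 1 ≤ f g := by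
    intro g hg
    obtain ⟨x, hx⟩ := hD g (by simpa using hg)
    exact Fintype.card_pos_iff.2 ⟨⟨x, hx⟩⟩
  have hge' := Finset.card_nsmul_le_sum _ f 1 hge
  rw [smul_eq_mul, mul_one] at hge'
  change _ ≤ ∑ i ∈ (Finset.univ.filter fun g : G => g ∈ D)ᶜ, f i at hge'
  have hf : ∑ g : G, f g = Fintype.card G := hsumG
  have hk1 : 0 < Fintype.card (Quotient (MulAction.orbitRel D X)) :=
    Fintype.card_pos_iff.2 ⟨Quotient.mk'' (Classical.arbitrary X)⟩
  have hk : Fintype.card (Quotient (MulAction.orbitRel D X)) = 1 := by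
    have hDp : 0 < Fintype.card D := Fintype.card_pos
    by_contra hne
    have : 2 * Fintype.card D ≤ Fintype.card (Quotient (MulAction.orbitRel D X)) * Fintype.card D :=
      Nat.mul_le_mul_right _ (by omega)
    omega
  rw [hk, one_mul] at hDsum
  have heq : ∑ g ∈ (Finset.univ.filter fun g : G => g ∈ D)ᶜ, f g =
      ∑ g ∈ (Finset.univ.filter fun g : G => g ∈ D)ᶜ, 1 := by
    rw [← Finset.card_eq_sum_ones]; omega
  intro g hg x y hx hy
  have h := (Finset.sum_eq_sum_iff_of_le hge).1 heq.symm g (by simp [hg])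
  obtain ⟨z, hz⟩ := Fintype.card_eq_one_iff.1 h.symm
  exact congrArg Subtype.val ((hz ⟨x, hx⟩).trans (hz ⟨y, hy⟩).symm)

theorem dvd_card_sub_one {G X : Type*} [Group G] [Finite G] [MulAction G X] [Finite X]
    [MulAction.IsPretransitive G X] [Nonempty X] (D : Subgroup G) [D.Normal]
    (hD : ∀ g ∉ D, ∃ x : X, g • x = x) :
    MulAction.IsPretransitive D X ∧ D.index ∣ Nat.card X - 1 := by
  classical
  haveI := Fintype.ofFinite G
  haveI := Fintype.ofFinite X
  have hsumG := MulAction.sum_card_fixedBy_eq_card_orbits_mul_card_group G X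
  have hsumD := MulAction.sum_card_fixedBy_eq_card_orbits_mul_card_group D X
  have horb : Fintype.card (Quotient (MulAction.orbitRel G X)) = 1 := by
    haveI := (MulAction.pretransitive_iff_subsingleton_quotient G X).1 inferInstance
    haveI : Nonempty (Quotient (MulAction.orbitRel G X)) :=
      ⟨Quotient.mk'' (Classical.arbitrary X)⟩
    exact Fintype.card_eq_one_iff.2 ⟨Classical.arbitrary _, fun a => Subsingleton.elim _ _⟩
  rw [horb, one_mul] at hsumG
  let f : G → ℕ := fun g => Fintype.card (MulAction.fixedBy X g)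
  have hDsum : ∑ g ∈ Finset.univ.filter (· ∈ D), f g =
      Fintype.card (Quotient (MulAction.orbitRel D X)) * Fintype.card D := by
    rw [← hsumD]
    rw [Finset.sum_subtype (p := fun g => g ∈ D) _ (fun g => by simp) f]
    exact Finset.sum_congr rfl fun g _ => Fintype.card_congr (Equiv.refl _)
  have hcardD : (Finset.univ.filter fun g : G => g ∈ D).card = Fintype.card D :=
    (Fintype.card_subtype _).symm
  have hsplit := Finset.sum_add_sum_compl (Finset.univ.filter fun g : G => g ∈ D) f
  have hsplit' := Finset.card_add_card_compl (Finset.univ.filter fun g : G => g ∈ D)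
  have hge : ∀ g ∈ (Finset.univ.filter fun g : G => g ∈ D)ᶜ, 1 ≤ f g := by
    intro g hg
    obtain ⟨x, hx⟩ := hD g (by simpa using hg)
    exact Fintype.card_pos_iff.2 ⟨⟨x, hx⟩⟩
  have hge' := Finset.card_nsmul_le_sum _ f 1 hge
  rw [smul_eq_mul, mul_one] at hge'
  change _ ≤ ∑ i ∈ (Finset.univ.filter fun g : G => g ∈ D)ᶜ, f i at hge'
  have hf : ∑ g : G, f g = Fintype.card G := hsumG
  have hk1 : 0 < Fintype.card (Quotient (MulAction.orbitRel D X)) :=
    Fintype.card_pos_iff.2 ⟨Quotient.mk'' (Classical.arbitrary X)⟩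
  have hk : Fintype.card (Quotient (MulAction.orbitRel D X)) = 1 := by
    have hDp : 0 < Fintype.card D := Fintype.card_pos
    by_contra hne
    have : 2 * Fintype.card D ≤ Fintype.card (Quotient (MulAction.orbitRel D X)) * Fintype.card D :=
      Nat.mul_le_mul_right _ (by omega)
    omega
  rw [hk, one_mul] at hDsum
  have heq : ∑ g ∈ (Finset.univ.filter fun g : G => g ∈ D)ᶜ, f g =
      ∑ g ∈ (Finset.univ.filter fun g : G => g ∈ D)ᶜ, 1 := by
    rw [← Finset.card_eq_sum_ones]; omega
  have huniq := fixed_unique D hD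
  haveI htD : MulAction.IsPretransitive D X := by
    rw [MulAction.pretransitive_iff_subsingleton_quotient]
    exact Fintype.card_le_one_iff_subsingleton.1 hk.le
  refine ⟨htD, ?_⟩
  obtain ⟨a⟩ := ‹Nonempty X›
  set S := MulAction.stabilizer G a with hS
  have hidx : D.relIndex S = D.index := by
    have h1 := Subgroup.relIndex_sup_right S D
    have h2 : S ⊔ D = ⊤ := by
      rw [eq_top_iff]
      intro g _
      obtain ⟨⟨d, hd⟩, hd'⟩ := htD.exists_smul_eq a (g • a)
      have : d⁻¹ * g ∈ S := by
        rw [hS, MulAction.mem_stabilizer_iff, mul_smul, ← hd', Subgroup.smul_def, inv_smul_smul]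
      have h3 := mul_mem ((le_sup_right : D ≤ S ⊔ D) hd) ((le_sup_left : S ≤ S ⊔ D) this)
      rwa [mul_inv_cancel_left] at h3
    rw [h2, Subgroup.relIndex_top_right] at h1
    exact h1.symm
  have horbdvd : ∀ x : X, x ≠ a → D.index ∣ Fintype.card (MulAction.orbit S x) := by
    intro x hx
    rw [← hidx, ← Nat.card_eq_fintype_card, Nat.card_coe_set_eq, ← MulAction.index_stabilizer]
    show (D.subgroupOf S).index ∣ _
    refine Subgroup.index_dvd_of_le fun g hg => ?_
    by_contra hgD
    exact hx (huniq (g : G) hgD x a (MulAction.mem_stabilizer_iff.1 hg)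
      (MulAction.mem_stabilizer_iff.1 g.2))
  let s : Finset X := Finset.univ.erase a
  have hdvd : D.index ∣ s.card := by
    rw [Finset.card_eq_sum_card_fiberwise (f := fun x => (Quotient.mk'' x : Quotient (MulAction.orbitRel S X)))
      (t := Finset.univ) (fun x _ => Finset.mem_univ _)]
    refine Finset.dvd_sum fun q _ => ?_
    induction q using Quotient.inductionOn' with | h x => ?_
    by_cases hx : x = a
    · refine (dvd_zero _).trans (dvd_of_eq ?_)
      symm
      rw [Finset.card_eq_zero, Finset.filter_eq_empty_iff]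
      intro y hy e
      obtain ⟨g, hg⟩ := (Quotient.eq''.1 e : MulAction.orbitRel S X y x)
      rw [hx] at hg
      exact Finset.ne_of_mem_erase hy (hg.symm.trans (MulAction.mem_stabilizer_iff.1 g.2))
    · refine (horbdvd x hx).trans (dvd_of_eq ?_)
      rw [← Set.toFinset_card]
      congr 1
      ext y
      simp only [Finset.mem_filter, Set.mem_toFinset, s, Finset.mem_erase, Finset.mem_univ,
        and_true, Quotient.eq'', MulAction.orbitRel_apply]
      refine ⟨fun h => ⟨?_, h⟩, fun h => h.2⟩
      rintro rfl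
      obtain ⟨g, hg⟩ := h
      exact hx (smul_left_cancel g (hg.trans (MulAction.mem_stabilizer_iff.1 g.2).symm))
  rwa [Finset.card_erase_of_mem (Finset.mem_univ a), Finset.card_univ, ← Nat.card_eq_fintype_card]
    at hdvd

/-- Let G act faithfully, transitively but imprimitively on a finite set with n points, and let D be the subgroup generated by the derangements. Then the index of D in G is at most √n − 1. -/
theorem result {G Ω : Type*} [Group G] [Finite G] [MulAction G Ω] [FaithfulSMul G Ω] [Finite Ω]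
    (htrans : MulAction.IsPretransitive G Ω) (himp : ¬ MulAction.IsPreprimitive G Ω) :
    ((Subgroup.closure {g : G | ∀ ω : Ω, g • ω ≠ ω}).index : ℝ) ≤ Real.sqrt (Nat.card Ω) - 1 := by
  classical
  set D := Subgroup.closure {g : G | ∀ ω : Ω, g • ω ≠ ω} with hD
  haveI : D.Normal := by
    refine ⟨fun x hx h => ?_⟩
    suffices D ≤ D.comap (MulAut.conj h).toMonoidHom by simpa using this hx
    refine (Subgroup.closure_le _).2 fun g hg => Subgroup.subset_closure fun ω e => hg (h⁻¹ • ω) ?_
    simp only [MulEquiv.coe_toMonoidHom, MulAut.conj_apply, mul_smul] at e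
    exact (inv_smul_eq_iff.2 e.symm).symm
  have hfix : ∀ g ∉ D, ∃ x : Ω, g • x = x := fun g hg => by
    by_contra h
    push_neg at h
    exact hg (Subgroup.subset_closure h)
  obtain hsub | hne := isEmpty_or_nonempty Ω
  · exact absurd ⟨fun B => Or.inl Set.subsingleton_of_subsingleton⟩ himp
  obtain ⟨a⟩ := hne
  haveI : Nontrivial Ω := by
    by_contra hnt
    rw [not_nontrivial_iff_subsingleton] at hnt
    exact himp ⟨fun B => Or.inl Set.subsingleton_of_subsingleton⟩
  set S := MulAction.stabilizer G a with hS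
  have hnm : ¬ IsCoatom S := fun h =>
    himp ((MulAction.isCoatom_stabilizer_iff_preprimitive G a).1 h)
  have hStop : S ≠ ⊤ := by
    intro e
    obtain ⟨b, hb⟩ := exists_ne a
    obtain ⟨g, hg⟩ := MulAction.exists_smul_eq G a b
    have : g ∈ S := e ▸ Subgroup.mem_top g
    rw [hS, MulAction.mem_stabilizer_iff] at this
    exact hb (hg.symm.trans this)
  obtain ⟨K, hSK, hKtop⟩ : ∃ K : Subgroup G, S < K ∧ K ≠ ⊤ := by
    simp only [IsCoatom, not_and, not_forall] at hnm
    obtain ⟨K, hK, hK'⟩ := hnm hStop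
    exact ⟨K, hK, hK'⟩
  have hfix1 : ∀ g ∉ D, ∃ x : G ⧸ K, g • x = x := fun g hg => by
    obtain ⟨x, hx⟩ := hfix g hg
    obtain ⟨h, rfl⟩ := MulAction.exists_smul_eq G a x
    refine ⟨(h : G ⧸ K), ?_⟩
    rw [MulAction.Quotient.smul_coe, smul_eq_mul, eq_comm, QuotientGroup.eq]
    refine hSK.le ?_
    rw [hS, MulAction.mem_stabilizer_iff, mul_smul, mul_smul, hx, inv_smul_smul]
  obtain ⟨hT1, hb⟩ := dvd_card_sub_one (X := G ⧸ K) D hfix1
  rw [← Subgroup.index] at hb
  -- the block through `a`
  haveI : MulAction.IsPretransitive K (MulAction.orbit K a) := inferInstance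
  have hfix2 : ∀ k ∉ D.subgroupOf K, ∃ x : MulAction.orbit K a, k • x = x := fun k hk => by
    obtain ⟨x, hx⟩ := hfix (k : G) hk
    obtain ⟨h, rfl⟩ := MulAction.exists_smul_eq G a x
    -- `k` fixes only the coset `K`
    obtain ⟨hT, -⟩ := dvd_card_sub_one (X := G ⧸ K) D hfix1
    have hfx : (k : G) • (h : G ⧸ K) = (h : G ⧸ K) := by
      rw [MulAction.Quotient.smul_coe, smul_eq_mul, eq_comm, QuotientGroup.eq]
      refine hSK.le ?_
      rw [hS, MulAction.mem_stabilizer_iff, mul_smul, mul_smul, hx, inv_smul_smul]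
    have hf1 : (k : G) • ((1 : G) : G ⧸ K) = ((1 : G) : G ⧸ K) := by
      rw [MulAction.Quotient.smul_coe, smul_eq_mul, mul_one, eq_comm, QuotientGroup.eq, inv_one,
        one_mul]
      exact k.2
    have hhK : h ∈ K := by
      have := fixed_unique (X := G ⧸ K) D hfix1 (k : G) hk _ _ hfx hf1
      simpa [QuotientGroup.eq] using this
    exact ⟨⟨h • a, ⟨⟨h, hhK⟩, rfl⟩⟩, Subtype.ext hx⟩
  haveI : Nonempty (MulAction.orbit K a) := ⟨⟨a, MulAction.mem_orbit_self a⟩⟩
  obtain ⟨-, hm⟩ := dvd_card_sub_one (X := MulAction.orbit K a) (D.subgroupOf K) hfix2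
  have hKD : (D.subgroupOf K).index = D.index := by
    have h1 := Subgroup.relIndex_sup_right K D
    have h2 : K ⊔ D = ⊤ := by
      rw [eq_top_iff]
      intro g _
      obtain ⟨⟨d, hd⟩, hd'⟩ := hT1.exists_smul_eq ((1 : G) : G ⧸ K) (g : G ⧸ K)
      rw [Subgroup.smul_def, MulAction.Quotient.smul_coe, smul_eq_mul, mul_one, QuotientGroup.eq] at hd'
      have h3 := mul_mem ((le_sup_right : D ≤ K ⊔ D) hd) ((le_sup_left : K ≤ K ⊔ D) hd')
      rwa [mul_inv_cancel_left] at h3
    rw [h2, Subgroup.relIndex_top_right] at h1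
    exact h1.symm
  rw [hKD] at hm
  set m := Nat.card (MulAction.orbit K a) with hm'
  have hcard : Nat.card Ω = m * K.index := by
    rw [hm', Nat.card_coe_set_eq, ← MulAction.index_stabilizer,
      show MulAction.stabilizer K a = S.subgroupOf K from rfl,
      show (S.subgroupOf K).index = S.relIndex K from rfl, Subgroup.relIndex_mul_index hSK.le, hS,
      MulAction.index_stabilizer_of_transitive]
  have hm2 : 2 ≤ m := by
    rw [hm', Nat.card_coe_set_eq, ← MulAction.index_stabilizer,
      show MulAction.stabilizer K a = S.subgroupOf K from rfl]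
    refine Subgroup.one_lt_index_of_ne_top fun e => hSK.ne ?_
    exact le_antisymm hSK.le (Subgroup.subgroupOf_eq_top.1 e)
  have hb2 : 2 ≤ K.index := Subgroup.one_lt_index_of_ne_top hKtop
  have h1 : D.index + 1 ≤ m := by have := Nat.le_of_dvd (by omega) hm; omega
  have h2 : D.index + 1 ≤ K.index := by have := Nat.le_of_dvd (by omega) hb; omega
  have h3 : ((D.index : ℝ) + 1) ^ 2 ≤ (Nat.card Ω : ℝ) := by
    rw [hcard, sq]; exact_mod_cast Nat.mul_le_mul h1 h2
  have h4 := Real.le_sqrt_of_sq_le h3
  linarith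

end Cfsg.Agent.S3549
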