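import Cfsg.Statements.S3554

set_option autoImplicit false
open Cfsg

namespace Cfsg.Agent.S3554

/-- Let G act faithfully and transitively on a finite set and suppose G has a non-trivial cyclic normal subgroup. Then some element of G of prime order fixes no point. -/
theorem result {G Ω : Type*} [Group G] [Finite G] [MulAction G Ω] [FaithfulSMul G Ω] [Finite Ω]
    (htrans : MulAction.IsPretransitive G Ω) (C : Subgroup G) (hC : C.Normal) (hC1 : C ≠ ⊥) (hcyc : IsCyclic ↥C) :
    ∃ g : G, (orderOf g).Prime ∧ ∀ ω : Ω, g • ω ≠ ω := by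
  haveI := htrans
  obtain ⟨p, hp, hpd⟩ := Nat.exists_prime_and_dvd
    (show Nat.card C ≠ 1 from fun h => hC1 (Subgroup.card_eq_one.1 h))
  haveI := Fact.mk hp
  obtain ⟨z, hz⟩ := exists_prime_orderOf_dvd_card' p hpd
  have hzg : orderOf (z : G) = p := by rw [Subgroup.orderOf_coe, hz]
  refine ⟨z, by rw [hzg]; exact hp, fun ω hω => ?_⟩
  -- every conjugate of `z` is a power of `z`, so `z` fixes every point
  have hfix : ∀ ω' : Ω, (z : G) • ω' = ω' := by
    intro ω'
    obtain ⟨h, rfl⟩ := MulAction.exists_smul_eq G ω ω'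
    let c : C := ⟨h⁻¹ * z * h, by simpa using hC.conj_mem _ z.2 h⁻¹⟩
    have hc : c ^ p = 1 := by
      apply Subtype.ext
      change (h⁻¹ * (z : G) * h) ^ p = 1
      have := conj_pow (i := p) (a := h⁻¹) (b := (z : G))
      simp only [inv_inv] at this
      rw [this, ← hzg, pow_orderOf_eq_one]; simp
    haveI := Fintype.ofFinite C
    classical
    have hcard : ((Finset.univ : Finset C).filter fun a => a ^ p = 1).card ≤ p :=
      IsCyclic.card_pow_eq_one_le hp.pos
    have hsub : (Finset.range p).image (fun i => z ^ i) ⊆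
        (Finset.univ : Finset C).filter fun a => a ^ p = 1 := by
      intro a ha
      obtain ⟨i, -, rfl⟩ := Finset.mem_image.1 ha
      simp only [Finset.mem_filter, Finset.mem_univ, true_and]
      rw [← pow_mul, mul_comm, pow_mul, ← hz, pow_orderOf_eq_one, one_pow]
    have heq := Finset.eq_of_subset_of_card_le hsub (by
      rw [Finset.card_image_of_injOn]
      · simpa using hcard
      · intro i hi j hj hij
        exact pow_injOn_Iio_orderOf (by simpa [hz] using hi) (by simpa [hz] using hj) hij)
    have hmem : c ∈ (Finset.range p).image (fun i => z ^ i) := by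
      rw [heq]; simp [hc]
    obtain ⟨i, -, hi⟩ := Finset.mem_image.1 hmem
    have hzi : (z : G) ^ i • ω = ω := by
      have : (z : G) ∈ MulAction.stabilizer G ω := hω
      exact pow_mem this i
    have : (h⁻¹ * (z : G) * h) • ω = ω := by
      have e : ((z ^ i : C) : G) = h⁻¹ * (z : G) * h := by rw [hi]
      rw [← e]; simpa using hzi
    rw [mul_smul, mul_smul, inv_smul_eq_iff] at this
    exact this
  have : (z : G) = 1 := FaithfulSMul.eq_of_smul_eq_smul (α := Ω) (by simpa using hfix)
  rw [this, orderOf_one] at hzg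
  exact hp.ne_one hzg.symm

end Cfsg.Agent.S3554
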