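import Cfsg.Statements.S3555

set_option autoImplicit false
open Cfsg
open scoped Pointwise

namespace Cfsg.Agent.S3555

section count

variable {G Ω : Type*} [Group G] [Fintype G] [MulAction G Ω] [Fintype Ω] [DecidableEq Ω]

/-- The number of fixed points. -/
def fixNum (Ω : Type*) [MulAction G Ω] [Fintype Ω] [DecidableEq Ω] (g : G) : ℕ :=
  (Finset.univ.filter fun ω : Ω => g • ω = ω).card

theorem sum_fix [MulAction.IsPretransitive G Ω] [Nonempty Ω] :
    ∑ g : G, fixNum Ω g = Fintype.card G := by
  classical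
  have hs : ∀ a : Ω, (Finset.univ.filter fun g : G => g • a = a).card * Fintype.card Ω = Fintype.card G := by
    intro a
    have h := Nat.card_congr (MulAction.orbitProdStabilizerEquivGroup G a)
    rw [Nat.card_prod, MulAction.orbit_eq_univ, Nat.card_univ, Nat.card_eq_fintype_card,
      Nat.card_eq_fintype_card (α := G)] at h
    rw [← h, Nat.mul_comm, Nat.card_eq_fintype_card, Fintype.card_subtype]
    rfl
  obtain ⟨a⟩ := (inferInstance : Nonempty Ω)
  calc ∑ g : G, fixNum Ω g = ∑ b : Ω, (Finset.univ.filter fun g : G => g • b = b).card := by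
        simp only [fixNum, Finset.card_filter]; exact Finset.sum_comm
    _ = ∑ _b : Ω, (Finset.univ.filter fun g : G => g • a = a).card := by
        refine Finset.sum_congr rfl fun b _ => ?_
        exact Nat.eq_of_mul_eq_mul_right Fintype.card_pos ((hs b).trans (hs a).symm)
    _ = Fintype.card G := by rw [Finset.sum_const, Finset.card_univ, smul_eq_mul, Nat.mul_comm]; exact hs a

theorem sum_fix_sq_le : ∑ g : G, fixNum Ω (g * g) ≤ ∑ g : G, fixNum Ω g ^ 2 := by
  classical
  have h1 : ∑ g : G, fixNum Ω (g * g) =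
      ∑ p : Ω × Ω, (Finset.univ.filter fun g : G => g • p.1 = p.2 ∧ g • p.2 = p.1).card := by
    simp only [fixNum, Finset.card_filter]
    rw [Finset.sum_comm (γ := Ω × Ω)]
    refine Finset.sum_congr rfl fun g _ => ?_
    rw [Fintype.sum_prod_type]
    refine Finset.sum_congr rfl fun a _ => ?_
    rw [Finset.sum_eq_single (g • a)]
    · simp [mul_smul]
    · intro b _ hb; rw [if_neg]; exact fun h => hb h.1.symm
    · simp
  have h2 : ∑ g : G, fixNum Ω g ^ 2 =
      ∑ p : Ω × Ω, (Finset.univ.filter fun g : G => g • p.1 = p.1 ∧ g • p.2 = p.2).card := by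
    simp only [fixNum, Finset.card_filter, sq, Finset.sum_mul_sum]
    rw [Finset.sum_comm (γ := Ω × Ω)]
    refine Finset.sum_congr rfl fun g _ => ?_
    rw [Fintype.sum_prod_type]
    refine Finset.sum_congr rfl fun a _ => Finset.sum_congr rfl fun b _ => ?_
    by_cases ha : g • a = a <;> by_cases hb : g • b = b <;> simp [ha, hb]
  rw [h1, h2]
  refine Finset.sum_le_sum fun p _ => ?_
  by_cases h : (Finset.univ.filter fun g : G => g • p.1 = p.2 ∧ g • p.2 = p.1).Nonempty
  · obtain ⟨g0, hg0⟩ := h
    simp only [Finset.mem_filter, Finset.mem_univ, true_and] at hg0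
    refine Finset.card_le_card_of_injOn (fun g => g0⁻¹ * g) ?_ (fun x _ y _ e => mul_left_cancel e)
    intro g hg
    simp only [Finset.coe_filter, Finset.mem_univ, true_and, Set.mem_setOf_eq] at hg ⊢
    constructor
    · rw [mul_smul, hg.1, inv_smul_eq_iff, hg0.1]
    · rw [mul_smul, hg.2, inv_smul_eq_iff, hg0.2]
  · rw [Finset.not_nonempty_iff_eq_empty.1 h]; simp

theorem fix_one_of_squares [MulAction.IsPretransitive G Ω] [Nonempty Ω] [FaithfulSMul G Ω]
    (hinv : ∀ g : G, (∀ ω : Ω, g • ω ≠ ω) → g * g = 1) :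
    ∀ g : G, g ≠ 1 → ∀ a b : Ω, g • a = a → g • b = b → a = b := by
  classical
  set n := Fintype.card Ω with hn
  have hle : ∀ g : G, fixNum Ω g ≤ n := fun g => Finset.card_le_univ _
  -- pointwise lower bound
  have hge : ∀ g : G, (if fixNum Ω g = 0 then n else fixNum Ω g) ≤ fixNum Ω (g * g) := by
    intro g
    split
    · rename_i h
      have h1 : g * g = 1 := hinv g fun ω hω =>
        Finset.notMem_empty ω ((Finset.card_eq_zero.1 h) ▸ (by simp [hω] : ω ∈ Finset.univ.filter fun ω : Ω => g • ω = ω))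
      simp [h1, fixNum, n]
    · exact Finset.card_le_card fun ω => by
        simp only [Finset.mem_filter, Finset.mem_univ, true_and, mul_smul]
        intro h; rw [h, h]
  have hS : (∑ g : G, (if fixNum Ω g = 0 then (n : ℤ) else (fixNum Ω g : ℤ))) ≤ ∑ g : G, ((fixNum Ω g : ℤ) ^ 2) := by
    refine le_trans (Finset.sum_le_sum (g := fun g => (fixNum Ω (g * g) : ℤ)) fun g _ => ?_) ?_
    · have := hge g
      split at this <;> simp_all
    · exact_mod_cast sum_fix_sq_le (G := G) (Ω := Ω)
  have hF : (∑ g : G, (fixNum Ω g : ℤ)) = ∑ _g : G, (1 : ℤ) := by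
    rw [Finset.sum_const, Finset.card_univ, nsmul_one]; exact_mod_cast sum_fix (G := G) (Ω := Ω)
  -- the nonnegative terms with vanishing total
  have hterm : ∀ g : G, 0 ≤ (if fixNum Ω g = 0 then (0 : ℤ) else ((fixNum Ω g : ℤ) - 1) * (n - fixNum Ω g)) := by
    intro g
    split
    · exact le_rfl
    · have := hle g
      exact mul_nonneg (by omega) (by omega)
  have hid : ∀ g : G, (if fixNum Ω g = 0 then (0 : ℤ) else ((fixNum Ω g : ℤ) - 1) * (n - fixNum Ω g)) =
      (if fixNum Ω g = 0 then (n : ℤ) else (fixNum Ω g : ℤ)) - (fixNum Ω g : ℤ) ^ 2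
        + (n : ℤ) * ((fixNum Ω g : ℤ) - 1) := by
    intro g
    split
    · rename_i h; simp [h]
    · ring
  have hzero : ∑ g : G, (if fixNum Ω g = 0 then (0 : ℤ) else ((fixNum Ω g : ℤ) - 1) * (n - fixNum Ω g)) = 0 := by
    refine le_antisymm ?_ (Finset.sum_nonneg fun g _ => hterm g)
    simp only [hid, Finset.sum_add_distrib, Finset.sum_sub_distrib, ← Finset.mul_sum, hF]
    linarith
  intro g hg a b ha hb
  have h0 := (Finset.sum_eq_zero_iff_of_nonneg fun g _ => hterm g).1 hzero g (Finset.mem_univ g)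
  have hpos : fixNum Ω g ≠ 0 := fun h => by
    have := Finset.card_eq_zero.1 h
    exact Finset.notMem_empty a (this ▸ by simp [ha])
  rw [if_neg hpos] at h0
  rcases mul_eq_zero.1 h0 with h | h
  · have h1 : fixNum Ω g = 1 := by omega
    exact Finset.card_le_one.1 h1.le a (by simp [ha]) b (by simp [hb])
  · have h1 : fixNum Ω g = n := by omega
    refine absurd ?_ hg
    refine FaithfulSMul.eq_of_smul_eq_smul (α := Ω) fun ω => ?_
    have := Finset.eq_univ_of_card _ h1
    have hω : ω ∈ (Finset.univ.filter fun ω : Ω => g • ω = ω) := by rw [this]; exact Finset.mem_univ ω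
    simpa using hω

end count

/-- Let G act faithfully and transitively on a finite set and suppose every element of G fixing no point is an involution. Then either G is an elementary abelian 2-group, or G is a Frobenius group whose Frobenius kernel is an elementary abelian 2-group: G has a Frobenius complement H, and the elements lying in no conjugate of H, together with the identity, pairwise commute and square to the identity. -/
theorem result {G Ω : Type*} [Group G] [Finite G] [MulAction G Ω] [FaithfulSMul G Ω] [Finite Ω]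
    (htrans : MulAction.IsPretransitive G Ω) (hinv : ∀ g : G, (∀ ω : Ω, g • ω ≠ ω) → orderOf g = 2) :
    (IsMulCommutative G ∧ ∀ g : G, g ^ 2 = 1) ∨
    (∃ H : Subgroup G, Cfsg.IsFrobeniusComplement H ∧
      (∀ x ∈ Cfsg.frobeniusKernel H, x ^ 2 = 1) ∧
      ∀ x ∈ Cfsg.frobeniusKernel H, ∀ y ∈ Cfsg.frobeniusKernel H, x * y = y * x) := by
  classical
  haveI := Fintype.ofFinite G
  haveI := Fintype.ofFinite Ω
  have hsq : ∀ g : G, (∀ ω : Ω, g • ω ≠ ω) → g * g = 1 := fun g hg => by
    rw [← pow_two, ← hinv g hg, pow_orderOf_eq_one]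
  rcases isEmpty_or_nonempty Ω with hE | hN
  · refine Or.inl ⟨⟨⟨fun a b => FaithfulSMul.eq_of_smul_eq_smul (α := Ω) fun ω => (hE.false ω).elim⟩⟩,
      fun g => FaithfulSMul.eq_of_smul_eq_smul (α := Ω) fun ω => (hE.false ω).elim⟩
  have huniq := fix_one_of_squares hsq
  -- products of two derangements
  have hcomm : ∀ x y : G, (∀ ω : Ω, x • ω ≠ ω) → (∀ ω : Ω, y • ω ≠ ω) → x * y = y * x := by
    intro x y hx hy
    have hy' : y⁻¹ = y := inv_eq_of_mul_eq_one_left (hsq y hy)
    have hx' : x⁻¹ = x := inv_eq_of_mul_eq_one_left (hsq x hx)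
    by_cases hxy : ∀ ω : Ω, (x * y) • ω ≠ ω
    · have := hsq _ hxy
      calc x * y = (x * y)⁻¹ := (inv_eq_of_mul_eq_one_left this).symm
        _ = y⁻¹ * x⁻¹ := mul_inv_rev x y
        _ = y * x := by rw [hx', hy']
    · push Not at hxy
      obtain ⟨a, ha⟩ := hxy
      have hb : (x * y) • (y • a) = y • a := by
        rw [← mul_smul, mul_assoc, hsq y hy, mul_one]
        conv_lhs => rw [← ha]
        rw [← mul_smul, ← mul_assoc, hsq x hx, one_mul]
      have h1 : x * y = 1 := by
        by_contra hne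
        exact hy a (huniq _ hne _ _ hb ha)
      rw [h1, ← hsq y hy]
      have : x = y := by rw [← hy', eq_inv_of_mul_eq_one_left h1]
      rw [this]
  obtain ⟨a⟩ := hN
  set H := MulAction.stabilizer G a with hH
  have hker : ∀ x : G, x ∈ Cfsg.frobeniusKernel H → x = 1 ∨ ∀ ω : Ω, x • ω ≠ ω := by
    intro x hx
    rcases hx with hx | hx
    · exact Or.inl hx
    refine Or.inr fun ω hω => ?_
    obtain ⟨g, rfl⟩ := MulAction.exists_smul_eq G a ω
    refine hx g ?_
    rw [Subgroup.mem_pointwise_smul_iff_inv_smul_mem, hH, MulAction.mem_stabilizer_iff, ← map_inv,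
      MulAut.smul_def, MulAut.conj_apply, inv_inv, mul_smul, mul_smul, hω, inv_smul_smul]
  by_cases hbot : H = ⊥
  · left
    have hfree : ∀ g : G, g ≠ 1 → ∀ ω : Ω, g • ω ≠ ω := by
      intro g hg ω hω
      obtain ⟨k, rfl⟩ := MulAction.exists_smul_eq G a ω
      have : k⁻¹ * g * k ∈ H := by
        rw [hH, MulAction.mem_stabilizer_iff, mul_smul, mul_smul, hω, inv_smul_smul]
      rw [hbot, Subgroup.mem_bot] at this
      apply hg
      have e : g = k * (k⁻¹ * g * k) * k⁻¹ := by group
      rw [e, this]; group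
    refine ⟨⟨⟨fun x y => ?_⟩⟩, fun g => ?_⟩
    · rcases eq_or_ne x 1 with rfl | hx
      · simp
      rcases eq_or_ne y 1 with rfl | hy
      · simp
      exact hcomm x y (hfree x hx) (hfree y hy)
    · rcases eq_or_ne g 1 with rfl | hg
      · simp
      rw [pow_two]; exact hsq g (hfree g hg)
  by_cases htop : H = ⊤
  · exfalso
    refine hbot ((Subgroup.eq_bot_iff_forall _).2 fun g _ => ?_)
    refine FaithfulSMul.eq_of_smul_eq_smul (α := Ω) fun ω => ?_
    obtain ⟨k, rfl⟩ := MulAction.exists_smul_eq G a ω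
    have hk : k • a = a := (htop ▸ Subgroup.mem_top k : k ∈ H)
    have hg : g • a = a := (htop ▸ Subgroup.mem_top g : g ∈ H)
    rw [hk, hg, one_smul]
  refine Or.inr ⟨H, ⟨hbot, htop, fun g hg => ?_⟩, fun x hx => ?_, fun x hx y hy => ?_⟩
  · rw [Subgroup.eq_bot_iff_forall]
    rintro h ⟨h1, h2⟩
    by_contra hne
    refine hg (MulAction.mem_stabilizer_iff.2 (huniq h hne _ _ ?_ h1))
    change h ∈ MulAut.conj g • H at h2
    rw [Subgroup.mem_pointwise_smul_iff_inv_smul_mem, hH, MulAction.mem_stabilizer_iff, ← map_inv,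
      MulAut.smul_def, MulAut.conj_apply, inv_inv, mul_smul, mul_smul, inv_smul_eq_iff] at h2
    exact h2
  · rcases hker x hx with rfl | h
    · simp
    · rw [pow_two]; exact hsq x h
  · rcases hker x hx with rfl | h
    · simp
    rcases hker y hy with rfl | h'
    · simp
    exact hcomm x y h h'

end Cfsg.Agent.S3555
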