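import Cfsg.Statements.S3556
-- import your own Cfsg.Agent.* helpers here

set_option autoImplicit false
set_option linter.style.haveILetI false
open Cfsg

namespace Cfsg.Agent.S3556

/-- Jordan: a transitive action on at least two points has a fixed-point-free element. -/
theorem jordan_fpf {M X : Type*} [Group M] [Finite M] [MulAction M X] [Finite X]
    (htr : MulAction.IsPretransitive M X) (h2 : 2 ≤ Nat.card X) :
    ∃ m : M, ∀ x : X, m • x ≠ x := by
  classical
  haveI := Fintype.ofFinite M
  haveI := Fintype.ofFinite X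
  haveI : Nonempty X := Nat.card_pos_iff.mp (by omega) |>.1
  by_contra hc
  push Not at hc
  have h := MulAction.sum_card_fixedBy_eq_card_orbits_mul_card_group M X
  have h1 : Fintype.card (Quotient (MulAction.orbitRel M X)) = 1 := by
    rw [Fintype.card_eq_one_iff]
    obtain ⟨x⟩ := ‹Nonempty X›
    refine ⟨⟦x⟧, fun q => ?_⟩
    induction q using Quotient.inductionOn with
    | _ y => exact Quotient.sound (MulAction.exists_smul_eq M x y)
  rw [h1, one_mul] at h
  have hlt : ∑ _m : M, 1 < ∑ m : M, Fintype.card (MulAction.fixedBy X m) := by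
    apply Finset.sum_lt_sum
    · intro m _
      obtain ⟨x, hx⟩ := hc m
      exact Fintype.card_pos_iff.mpr ⟨⟨x, hx⟩⟩
    · refine ⟨1, Finset.mem_univ _, ?_⟩
      have : (MulAction.fixedBy X (1 : M)) = Set.univ := by ext x; simp
      rw [← Nat.card_eq_fintype_card, this, Nat.card_univ]
      omega
  rw [h] at hlt
  simp at hlt

/-- A proper subgroup misses some conjugacy class. -/
theorem jordan_cover {M : Type*} [Group M] [Finite M] (H : Subgroup M) (hH : H ≠ ⊤) :
    ∃ m : M, ∀ g : M, g⁻¹ * m * g ∉ H := by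
  obtain ⟨m, hm⟩ := jordan_fpf (M := M) (X := M ⧸ H) inferInstance (by
    have h := mt Subgroup.index_eq_one.mp hH
    have h0 : H.index ≠ 0 := Subgroup.index_ne_zero_of_finite
    rw [← Subgroup.index_eq_card]
    omega)
  refine ⟨m, fun g hg => hm (g : M ⧸ H) ?_⟩
  rw [MulAction.Quotient.smul_coe, QuotientGroup.eq]
  have : (m • g)⁻¹ * g = (g⁻¹ * m * g)⁻¹ := by simp [smul_eq_mul, mul_assoc]
  rw [this]
  exact H.inv_mem hg

variable {G Ω : Type*} [Group G] [Finite G] [MulAction G Ω]

/-- The centralizer of a fixed-point-free element is a `p`-group. -/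
theorem centralizer_isPGroup (p : ℕ) (hp : p.Prime)
    (hder : ∀ g : G, (∀ ω : Ω, g • ω ≠ ω) → ∃ k : ℕ, orderOf g = p ^ k)
    {x : G} (hx : ∀ ω : Ω, x • ω ≠ ω) (hΩ : Nonempty Ω) :
    IsPGroup p (Subgroup.centralizer ({x} : Set G)) := by
  classical
  haveI := Fact.mk hp
  rw [IsPGroup.iff_card]
  by_contra hne
  obtain ⟨r, hr, hrdvd, hrp⟩ :
      ∃ r : ℕ, r.Prime ∧ r ∣ Nat.card (Subgroup.centralizer ({x} : Set G)) ∧ r ≠ p := by
    by_contra hall
    push Not at hall
    exact hne ⟨_, Nat.eq_prime_pow_of_unique_prime_dvd Nat.card_pos.ne'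
      (fun {d} hd hdd => hall d hd hdd)⟩
  haveI := Fact.mk hr
  obtain ⟨⟨y, hy⟩, hyo⟩ := exists_prime_orderOf_dvd_card' r hrdvd
  rw [Subgroup.orderOf_mk] at hyo
  have hc : Commute x y := (Subgroup.mem_centralizer_singleton_iff.mp hy : y * x = x * y).symm
  obtain ⟨k, hk⟩ := hder x hx
  have hcop : Nat.Coprime (orderOf x) r := by
    rw [hk]; exact Nat.Coprime.pow_left k ((Nat.coprime_primes hp hr).mpr hrp.symm)
  have hxy : ∀ ω : Ω, (x * y) • ω ≠ ω := by
    intro ω hω
    have hst : x * y ∈ MulAction.stabilizer G ω := hω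
    have hpow : x ^ r ∈ MulAction.stabilizer G ω := by
      have := pow_mem hst r
      rwa [hc.mul_pow, ← hyo, pow_orderOf_eq_one, mul_one, hyo] at this
    obtain ⟨m, hm⟩ := exists_pow_eq_self_of_coprime hcop.symm
    have := pow_mem hpow m
    rw [hm] at this
    exact hx ω this
  obtain ⟨l, hl⟩ := hder _ hxy
  have ho : orderOf (x * y) = orderOf x * r := by
    rw [hc.orderOf_mul_eq_mul_orderOf_of_coprime (by rw [hyo]; exact hcop), hyo]
  have : r ∣ p ^ l := by rw [← hl, ho]; exact Dvd.intro_left _ rfl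
  exact hrp ((Nat.prime_dvd_prime_iff_eq hr hp).mp (hr.dvd_of_dvd_pow this))

/-- A nontrivial normal subgroup contains a minimal one. -/
theorem exists_minimal_normal {K : Subgroup G} (hK : K.Normal) (hK1 : K ≠ ⊥) :
    ∃ N : Subgroup G, N.Normal ∧ N ≠ ⊥ ∧ N ≤ K ∧
      ∀ L : Subgroup G, L.Normal → L ≠ ⊥ → L ≤ N → L = N := by
  classical
  obtain ⟨N, hm⟩ := (Set.toFinite {N : Subgroup G | N.Normal ∧ N ≠ ⊥ ∧ N ≤ K}).exists_minimal
    ⟨K, hK, hK1, le_rfl⟩
  exact ⟨N, hm.1.1, hm.1.2.1, hm.1.2.2, fun L hL hL1 hLN =>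
    le_antisymm hLN (hm.2 ⟨hL, hL1, hLN.trans hm.1.2.2⟩ hLN)⟩

/-- An abelian minimal normal subgroup is elementary abelian. -/
theorem elementary_of_minimal {N : Subgroup G} (hN : N.Normal) (hN1 : N ≠ ⊥)
    (hab : ∀ a ∈ N, ∀ b ∈ N, a * b = b * a)
    (hmin : ∀ L : Subgroup G, L.Normal → L ≠ ⊥ → L ≤ N → L = N) :
    ∃ r : ℕ, r.Prime ∧ ∀ a ∈ N, a ^ r = 1 := by
  have hc : Nat.card N ≠ 1 := fun h => hN1 (Subgroup.card_eq_one.mp h)
  obtain ⟨r, hr, hrd⟩ := Nat.exists_prime_and_dvd hc
  haveI := Fact.mk hr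
  refine ⟨r, hr, ?_⟩
  let L : Subgroup G :=
    { carrier := {a | a ∈ N ∧ a ^ r = 1}
      one_mem' := ⟨N.one_mem, one_pow r⟩
      mul_mem' := fun {a b} ha hb => ⟨N.mul_mem ha.1 hb.1, by
        rw [(show Commute a b from hab a ha.1 b hb.1).mul_pow, ha.2, hb.2, mul_one]⟩
      inv_mem' := fun {a} ha => ⟨N.inv_mem ha.1, by rw [inv_pow, ha.2, inv_one]⟩ }
  have hLn : L.Normal := ⟨fun a ha g => ⟨hN.conj_mem a ha.1 g, by rw [conj_pow, ha.2]; group⟩⟩
  have hL1 : L ≠ ⊥ := by
    obtain ⟨⟨a, ha⟩, hao⟩ := exists_prime_orderOf_dvd_card' r hrd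
    rw [Subgroup.orderOf_mk] at hao
    intro h
    have : a ∈ L := ⟨ha, hao ▸ pow_orderOf_eq_one a⟩
    rw [h, Subgroup.mem_bot] at this
    subst this
    rw [orderOf_one] at hao
    exact hr.one_lt.ne hao
  intro a ha
  have : a ∈ L := (hmin L hLn hL1 (fun _ h => h.1)) ▸ ha
  exact this.2

omit [Finite G] in
theorem fixedPoints_ne_univ [FaithfulSMul G Ω] {N : Subgroup G} (hN1 : N ≠ ⊥) :
    MulAction.fixedPoints N Ω ≠ Set.univ := by
  intro h
  apply hN1
  rw [Subgroup.eq_bot_iff_forall]
  intro a ha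
  refine FaithfulSMul.eq_of_smul_eq_smul (α := Ω) fun ω => ?_
  rw [one_smul]
  exact (Set.eq_univ_iff_forall.mp h ω) ⟨a, ha⟩




/-- Let G act faithfully and primitively on a finite set with at least two points, and suppose that for some fixed prime p every element of G fixing no point has order a power of p. Then G is of affine type (it has a regular normal subgroup that is an elementary abelian r-group for some prime r) or almost simple (it has a non-abelian simple normal subgroup with trivial centralizer). -/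
theorem result {G Ω : Type*} [Group G] [Finite G] [MulAction G Ω] [FaithfulSMul G Ω] [Finite Ω]
    (hprim : MulAction.IsPreprimitive G Ω) (hΩ : 2 ≤ Nat.card Ω) (p : ℕ) (hp : p.Prime)
    (hder : ∀ g : G, (∀ ω : Ω, g • ω ≠ ω) → ∃ k : ℕ, orderOf g = p ^ k) :
    (∃ (N : Subgroup G) (r : ℕ), r.Prime ∧ N.Normal ∧ Cfsg.IsElementaryAbelian r N ∧
      MulAction.IsPretransitive N Ω ∧ ∀ a : Ω, MulAction.stabilizer N a = ⊥) ∨
    (∃ T : Subgroup G, T.Normal ∧ IsSimpleGroup ↥T ∧ ¬ IsMulCommutative ↥T ∧
      Subgroup.centralizer (T : Set G) = ⊥) := by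
  classical
  haveI := hprim
  have hne : Nonempty Ω := Nat.card_pos_iff.mp (by omega) |>.1
  have htr : ∀ N : Subgroup G, N.Normal → N ≠ ⊥ → MulAction.IsPretransitive N Ω := fun N hN hN1 => by
    haveI := hN
    exact MulAction.IsQuasiPreprimitive.isPretransitive_of_normal (fixedPoints_ne_univ hN1)
  by_cases hA : ∃ K : Subgroup G, K.Normal ∧ K ≠ ⊥ ∧ ∀ a ∈ K, ∀ b ∈ K, a * b = b * a
  · -- affine type
    obtain ⟨K, hK, hK1, hKab⟩ := hA
    obtain ⟨N, hN, hN1, hNK, hmin⟩ := exists_minimal_normal hK hK1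
    have hab : ∀ a ∈ N, ∀ b ∈ N, a * b = b * a := fun a ha b hb => hKab a (hNK ha) b (hNK hb)
    obtain ⟨r, hr, hexp⟩ := elementary_of_minimal hN hN1 hab hmin
    haveI := htr N hN hN1
    refine Or.inl ⟨N, r, hr, hN, ⟨⟨⟨fun a b => Subtype.ext (hab a a.2 b b.2)⟩⟩, hexp⟩, inferInstance, fun a => ?_⟩
    rw [Subgroup.eq_bot_iff_forall]
    rintro ⟨n, hn⟩ hna
    apply Subtype.ext
    refine FaithfulSMul.eq_of_smul_eq_smul (α := Ω) fun ω => ?_
    obtain ⟨⟨m, hm⟩, rfl⟩ := MulAction.exists_smul_eq N a ω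
    have hna' : n • a = a := hna
    show n • (m • a) = (1 : G) • (m • a)
    rw [one_smul, smul_smul, hab n hn m hm, ← smul_smul, hna']
  · -- almost simple type
    push Not at hA
    obtain ⟨N, hN, hN1, -, hmin⟩ :=
      exists_minimal_normal (G := G) (K := ⊤) inferInstance (by
        intro h
        obtain ⟨x, y, hxy⟩ : ∃ x y : Ω, x ≠ y := by
          haveI : Nontrivial Ω := Finite.one_lt_card_iff_nontrivial.mp hΩ
          exact exists_pair_ne Ω
        obtain ⟨g, hg⟩ := MulAction.exists_smul_eq G x y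
        have : g = 1 := by
          have : g ∈ (⊤ : Subgroup G) := Subgroup.mem_top g
          rwa [h, Subgroup.mem_bot] at this
        rw [this, one_smul] at hg
        exact hxy hg)
    haveI := hN
    haveI := htr N hN hN1
    have hpC : ∀ C : Subgroup G, C.Normal → IsPGroup p C → C = ⊥ := by
      intro C hC hCp
      by_contra hC1
      haveI : Nontrivial C := (Subgroup.nontrivial_iff_ne_bot C).mpr hC1
      haveI := Fact.mk hp
      haveI := hCp.center_nontrivial
      haveI := hC
      obtain ⟨a, ha, b, hb, hab⟩ := hA ((Subgroup.center C).map C.subtype)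
        inferInstance (by
          rw [Ne, Subgroup.map_eq_bot_iff_of_injective _ C.subtype_injective]
          exact (Subgroup.nontrivial_iff_ne_bot _).mp ‹_›)
      obtain ⟨a', ha', rfl⟩ := ha
      obtain ⟨b', -, rfl⟩ := hb
      exact hab (congrArg C.subtype ((Subgroup.mem_center_iff.mp ha') b').symm)
    -- the centralizer of N is trivial
    obtain ⟨x, hx⟩ := jordan_fpf (M := N) (X := Ω) inferInstance hΩ
    have hCN : Subgroup.centralizer (N : Set G) = ⊥ := by
      refine hpC _ inferInstance ?_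
      refine (centralizer_isPGroup p hp hder (x := (x : G)) (fun ω => hx ω) hne).to_le ?_
      exact Subgroup.centralizer_le (Set.singleton_subset_iff.mpr x.2)
    refine Or.inr ⟨N, hN, ?_, ?_, hCN⟩
    · -- simplicity
      haveI : Nontrivial N := (Subgroup.nontrivial_iff_ne_bot N).mpr hN1
      refine ⟨fun M hM => ?_⟩
      by_contra hcon
      push Not at hcon
      obtain ⟨M', hM'n, hM'1, hM'M, hM'min⟩ := exists_minimal_normal hM hcon.1
      let T : Subgroup G := M'.map N.subtype
      have hTN : T ≤ N := by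
        rintro _ ⟨u, -, rfl⟩; exact u.2
      have hT1 : T ≠ ⊥ := by
        rw [Ne, Subgroup.map_eq_bot_iff_of_injective _ N.subtype_injective]; exact hM'1
      have hTconj : ∀ n ∈ N, ∀ t ∈ T, n * t * n⁻¹ ∈ T := by
        rintro n hn _ ⟨u, hu, rfl⟩
        exact ⟨⟨n, hn⟩ * u * ⟨n, hn⟩⁻¹, hM'n.conj_mem u hu _, rfl⟩
      have hTnot : ¬ T.Normal := by
        intro h
        have := hmin T h hT1 hTN
        apply hcon.2
        rw [eq_top_iff]
        intro u _
        apply hM'M
        have hu : (u : G) ∈ T := this.symm ▸ u.2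
        obtain ⟨v, hv, hvu⟩ := hu
        rwa [← Subtype.ext hvu]
      -- every conjugate of T is T or commutes with T
      have hconj : ∀ g : G, (∀ t ∈ T, g * t * g⁻¹ ∈ T) ∨
          (∀ t ∈ T, ∀ s ∈ T, g * t * g⁻¹ * s = s * (g * t * g⁻¹)) := by
        intro g
        let Tg : Subgroup G := T.map (MulAut.conj g).toMonoidHom
        have hTgN : Tg ≤ N := by
          rintro _ ⟨t, ht, rfl⟩; exact hN.conj_mem t (hTN ht) g
        have hTgconj : ∀ n ∈ N, ∀ t ∈ Tg, n * t * n⁻¹ ∈ Tg := by
          rintro n hn _ ⟨t, ht, rfl⟩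
          refine ⟨g⁻¹ * n * g * t * (g⁻¹ * n * g)⁻¹, hTconj _ ?_ t ht, ?_⟩
          · simpa using hN.conj_mem n hn g⁻¹
          · simp [MulAut.conj_apply, mul_assoc]
        have hnI : ((T ⊓ Tg).subgroupOf N).Normal := ⟨fun a ha n =>
          ⟨hTconj _ n.2 _ ha.1, hTgconj _ n.2 _ ha.2⟩⟩
        by_cases hI : (T ⊓ Tg).subgroupOf N = ⊥
        · right
          intro t ht s hs
          have htg : g * t * g⁻¹ ∈ Tg := ⟨t, ht, rfl⟩
          have hin : g * t * g⁻¹ * s * (g * t * g⁻¹)⁻¹ * s⁻¹ ∈ T ⊓ Tg := by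
            constructor
            · exact T.mul_mem (hTconj _ (hTgN htg) s hs) (T.inv_mem hs)
            · have : g * t * g⁻¹ * s * (g * t * g⁻¹)⁻¹ * s⁻¹ =
                  g * t * g⁻¹ * (s * (g * t * g⁻¹)⁻¹ * s⁻¹) := by group
              rw [this]
              exact Tg.mul_mem htg (hTgconj s (hTN hs) _ (Tg.inv_mem htg))
          have : (⟨_, hTN hin.1⟩ : N) ∈ (T ⊓ Tg).subgroupOf N := hin
          rw [hI, Subgroup.mem_bot] at this
          have h1 : g * t * g⁻¹ * s * (g * t * g⁻¹)⁻¹ * s⁻¹ = 1 := congrArg Subtype.val this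
          rw [mul_inv_eq_one, mul_inv_eq_iff_eq_mul] at h1
          exact h1
        · left
          have hle : (T ⊓ Tg).subgroupOf N ≤ M' := by
            intro u hu
            obtain ⟨v, hv, hvu⟩ := hu.1
            rwa [← Subtype.ext hvu]
          have heq := hM'min _ hnI hI hle
          have hTTg : T ≤ Tg := by
            rintro _ ⟨u, hu, rfl⟩
            have : u ∈ (T ⊓ Tg).subgroupOf N := heq ▸ hu
            exact this.2
          have hcard : Nat.card Tg = Nat.card T :=
            (Nat.card_congr (T.equivMapOfInjective _ (MulAut.conj g).injective).toEquiv).symm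
          have hTe : T = Tg := Subgroup.eq_of_le_of_card_ge hTTg hcard.le
          intro t ht
          rw [hTe]
          exact ⟨t, ht, rfl⟩
      let CT : Subgroup G := N ⊓ Subgroup.centralizer (T : Set G)
      have hTnorm : ∀ c ∈ Subgroup.centralizer (T : Set G), ∀ t ∈ T, c * t = t * c := fun c hc t ht =>
        (Subgroup.mem_centralizer_iff.mp hc t ht).symm
      have hNle : N ≤ T ⊔ CT := by
        have hK : Subgroup.normalClosure (T : Set G) ≤ T ⊔ CT := by
          refine (Subgroup.closure_le _).mpr ?_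
          intro z hz
          rw [Group.mem_conjugatesOfSet_iff] at hz
          obtain ⟨t, ht, hzt⟩ := hz
          obtain ⟨g, rfl⟩ := isConj_iff.mp hzt
          rcases hconj g with h | h
          · exact (le_sup_left : T ≤ T ⊔ CT) (h t ht)
          · refine (le_sup_right : CT ≤ T ⊔ CT) ⟨hN.conj_mem t (hTN ht) g, ?_⟩
            exact Subgroup.mem_centralizer_iff.mpr fun s hs => (h t ht s hs).symm
        have := hmin (Subgroup.normalClosure (T : Set G)) inferInstance
          (fun h => hT1 (le_bot_iff.mp (h ▸ Subgroup.le_normalClosure)))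
          (Subgroup.normalClosure_le_normal hTN)
        exact this ▸ hK
      have hCT : CT ≠ ⊥ := by
        intro h
        rw [h, sup_bot_eq] at hNle
        exact hTnot ((le_antisymm hTN hNle).symm ▸ hN)
      -- a fixed-point-free element of T
      obtain ⟨a⟩ := hne
      have hproper : (MulAction.stabilizer T a) ≠ ⊤ := by
        intro htop
        apply hT1
        rw [Subgroup.eq_bot_iff_forall]
        intro t ht
        refine FaithfulSMul.eq_of_smul_eq_smul (α := Ω) fun ω => ?_
        obtain ⟨⟨m, hm⟩, rfl⟩ := MulAction.exists_smul_eq N a ω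
        rw [one_smul]
        have hmt : (⟨m⁻¹ * t * m, by simpa using hTconj m⁻¹ (N.inv_mem hm) t ht⟩ : T) ∈
            MulAction.stabilizer T a := htop ▸ Subgroup.mem_top _
        have hmt' : (m⁻¹ * t * m) • a = a := hmt
        show t • (m • a) = m • a
        conv_rhs => rw [← hmt']
        rw [smul_smul, smul_smul]
        congr 1
        group
      obtain ⟨⟨t, ht⟩, htfree⟩ := jordan_cover _ hproper
      have htder : ∀ ω : Ω, t • ω ≠ ω := by
        intro ω hω
        obtain ⟨⟨n, hn⟩, rfl⟩ := MulAction.exists_smul_eq N a ω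
        obtain ⟨u, hu, c, hc, huc⟩ : ∃ u ∈ T, ∃ c ∈ CT, u * c = n := by
          have hle : CT ≤ Subgroup.normalizer (T : Set G) :=
            inf_le_right.trans (Subgroup.centralizer_le_normalizer _)
          have h1 : n ∈ ((T ⊔ CT : Subgroup G) : Set G) := hNle hn
          rw [Subgroup.coe_mul_of_right_le_normalizer_left T CT hle] at h1
          obtain ⟨u, hu, c, hc, huc⟩ := h1
          exact ⟨u, hu, c, hc, huc⟩
        apply htfree ⟨u, hu⟩
        show (u⁻¹ * t * u) • a = a
        have hω' : t • (n • a) = n • a := hω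
        rw [← huc, smul_smul] at hω'
        have e : (u * c)⁻¹ * (t * (u * c)) = u⁻¹ * t * u := by
          have h1 := hTnorm c hc.2 _ (T.mul_mem (T.mul_mem (T.inv_mem hu) ht) hu)
          calc (u * c)⁻¹ * (t * (u * c)) = c⁻¹ * ((u⁻¹ * t * u) * c) := by group
            _ = c⁻¹ * (c * (u⁻¹ * t * u)) := by rw [h1]
            _ = _ := by group
        rw [← e, mul_smul, hω', inv_smul_smul]
      have hpT : IsPGroup p CT := (centralizer_isPGroup p hp hder htder ⟨a⟩).to_le (fun c hc => by
        rw [Subgroup.mem_centralizer_singleton_iff]; exact hTnorm c hc.2 t ht)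
      -- conjugates of T inside CT force T abelian
      obtain ⟨g, hg⟩ : ∃ g : G, ∀ t ∈ T, ∀ s ∈ T, g * t * g⁻¹ * s = s * (g * t * g⁻¹) := by
        by_contra hall
        exact hTnot ⟨fun t ht g => (hconj g).resolve_right (fun h => hall ⟨g, h⟩) t ht⟩
      have hTp : IsPGroup p T := by
        let f : T →* CT :=
          { toFun := fun t => ⟨g * t * g⁻¹, hN.conj_mem _ (hTN t.2) g,
              Subgroup.mem_centralizer_iff.mpr fun s hs => (hg t t.2 s hs).symm⟩
            map_one' := by apply Subtype.ext; simp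
            map_mul' := fun a b => by apply Subtype.ext; simp [mul_assoc] }
        exact hpT.of_injective f (fun a b h => by
          have := congrArg Subtype.val h
          exact Subtype.ext (by simpa [f] using this))
      haveI : Nontrivial T := (Subgroup.nontrivial_iff_ne_bot T).mpr hT1
      haveI := Fact.mk hp
      haveI := hTp.center_nontrivial
      -- the centre of T is normal in N, hence T is abelian
      haveI := hM'n
      have hM'p : IsPGroup p M' := hTp.of_equiv (M'.equivMapOfInjective _ N.subtype_injective).symm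
      haveI : Nontrivial M' := (Subgroup.nontrivial_iff_ne_bot M').mpr hM'1
      haveI := hM'p.center_nontrivial
      have hZ := hM'min ((Subgroup.center M').map M'.subtype) inferInstance (by
        rw [Ne, Subgroup.map_eq_bot_iff_of_injective _ M'.subtype_injective]
        exact (Subgroup.nontrivial_iff_ne_bot _).mp ‹_›) (Subgroup.map_subtype_le _)
      have hTab : ∀ s ∈ T, ∀ t ∈ T, s * t = t * s := by
        rintro _ ⟨u, hu, rfl⟩ _ ⟨v, hv, rfl⟩
        rw [← hZ] at hu
        obtain ⟨u', hu', rfl⟩ := hu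
        exact congrArg (fun w : M' => ((w : N) : G)) ((Subgroup.mem_center_iff.mp hu') ⟨v, hv⟩).symm
      have hNab : ∀ a ∈ N, ∀ b ∈ N, a * b = b * a := by
        have hTgen : N ≤ Subgroup.closure (Group.conjugatesOfSet (T : Set G)) :=
          (hmin (Subgroup.normalClosure (T : Set G)) inferInstance
            (fun h => hT1 (le_bot_iff.mp (h ▸ Subgroup.le_normalClosure)))
            (Subgroup.normalClosure_le_normal hTN)).ge
        intro a ha b hb
        refine (Subgroup.closure_induction₂ (p := fun a b _ _ => Commute a b) ?_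
          (fun x _ => Commute.one_left x) (fun x _ => Commute.one_right x)
          (fun x y z _ _ _ h1 h2 => h1.mul_left h2) (fun y z x _ _ _ h1 h2 => h1.mul_right h2)
          (fun x y _ _ h => h.inv_left) (fun x y _ _ h => h.inv_right) (hTgen ha) (hTgen hb) :)
        intro y z hy hz
        rw [Group.mem_conjugatesOfSet_iff] at hy hz
        obtain ⟨t1, ht1, h1⟩ := hy
        obtain ⟨g1, rfl⟩ := isConj_iff.mp h1
        obtain ⟨t2, ht2, h2⟩ := hz
        obtain ⟨g2, rfl⟩ := isConj_iff.mp h2
        have key : Commute ((g2⁻¹ * g1) * t1 * (g2⁻¹ * g1)⁻¹) t2 := by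
          rcases hconj (g2⁻¹ * g1) with h | h
          · exact hTab _ (h t1 ht1) t2 ht2
          · exact h t1 ht1 t2 ht2
        have := key.map (MulAut.conj g2).toMonoidHom
        simpa [MulAut.conj_apply, mul_assoc] using this
      obtain ⟨a', ha', b', hb', hab⟩ := hA N hN hN1
      exact hab (hNab a' ha' b' hb')
    · intro hc
      obtain ⟨a, ha, b, hb, hab⟩ := hA N hN hN1
      exact hab (congrArg Subtype.val (hc.is_comm.comm (⟨a, ha⟩ : N) ⟨b, hb⟩))

end Cfsg.Agent.S3556
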