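import Cfsg.Statements.S3557
import Mathlib
import Cfsg.Agent.Lib.PGroup.Basic

set_option autoImplicit false
open Cfsg

namespace Cfsg.Agent.S3557

/-- Let G act faithfully and transitively on a finite set with 2p² points, p a prime, and suppose G is 2-closed: every permutation of the set which, on each ordered pair of points, agrees with some element of G, is itself induced by an element of G. Then some element of G of prime order fixes no point. -/
theorem result {G Ω : Type*} [Group G] [Finite G] [MulAction G Ω] [FaithfulSMul G Ω] [Finite Ω]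
    (htrans : MulAction.IsPretransitive G Ω) (p : ℕ) (hp : p.Prime) (hcard : Nat.card Ω = 2 * p ^ 2)
    (hcl : ∀ σ : Equiv.Perm Ω, (∀ a b : Ω, ∃ g : G, σ a = g • a ∧ σ b = g • b) → ∃ g : G, ∀ a : Ω, σ a = g • a) :
    ∃ g : G, (orderOf g).Prime ∧ ∀ ω : Ω, g • ω ≠ ω := by
  classical
  have : Fact p.Prime := ⟨hp⟩
  by_contra hno
  push Not at hno
  have hord : ∀ g : G, orderOf g = p → ∃ ω : Ω, g • ω = ω := fun g h => hno g (h ▸ hp)
  obtain ⟨P₀⟩ := (inferInstance : Nonempty (Sylow p G))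
  set P : Subgroup G := P₀.toSubgroup with hPdef
  have hP : IsPGroup p P := P₀.2
  have hPi : ¬ p ∣ P.index := P₀.not_dvd_index
  -- sizes of the orbits of `P`
  have horb : ∀ a : Ω, ∃ m, Nat.card (MulAction.orbit P a) = p ^ m ∧ p ^ 2 ∣ p ^ m := by
    intro a
    obtain ⟨m, hm⟩ := hP.card_orbit a
    refine ⟨m, hm, ?_⟩
    have h1 : (MulAction.stabilizer G a).relIndex P = p ^ m := by
      rw [Subgroup.relIndex, show (MulAction.stabilizer G a).subgroupOf P =
        MulAction.stabilizer P a from rfl, MulAction.index_stabilizer, ← Nat.card_coe_set_eq, hm]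
    have h2 : (MulAction.stabilizer G a).index = 2 * p ^ 2 := by
      rw [MulAction.index_stabilizer_of_transitive, hcard]
    have h3 : (MulAction.stabilizer G a).index ∣ p ^ m * P.index := by
      have e := Subgroup.index_dvd_of_le (show MulAction.stabilizer G a ⊓ P ≤ MulAction.stabilizer G a
        from inf_le_left)
      rwa [← Subgroup.relIndex_mul_index (show MulAction.stabilizer G a ⊓ P ≤ P from inf_le_right),
        Subgroup.inf_relIndex_right, h1] at e
    rw [h2] at h3
    exact (Nat.Coprime.pow_left 2 ((Nat.Prime.coprime_iff_not_dvd hp).2 hPi)).dvd_of_dvd_mul_right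
      ((Dvd.intro_left 2 rfl).trans h3)
  have hne : Nonempty Ω := (Nat.card_pos_iff.1 (by rw [hcard]; exact Nat.mul_pos two_pos (pow_pos hp.pos _))).1
  obtain ⟨a₁⟩ := hne
  have hPne : P ≠ ⊥ := by
    intro h
    obtain ⟨m, hm, hd⟩ := horb a₁
    have : Subsingleton P := by rw [h]; infer_instance
    have h1 : Nat.card (MulAction.orbit P a₁) = 1 := by
      rw [Nat.card_eq_one_iff_unique]
      refine ⟨⟨?_⟩, ⟨⟨a₁, MulAction.mem_orbit_self _⟩⟩⟩
      rintro ⟨x, g, hg⟩ ⟨y, g', hg'⟩
      obtain rfl : g = g' := Subsingleton.elim g g'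
      exact Subtype.ext (hg.symm.trans hg')
    rw [← hm, h1] at hd
    have := Nat.le_of_dvd one_pos hd
    nlinarith [hp.two_le]
  have : Nontrivial P := (Subgroup.nontrivial_iff_ne_bot P).2 hPne
  -- a central element of order `p`
  obtain ⟨z, hzc, hz⟩ : ∃ z : P, z ∈ Subgroup.center P ∧ orderOf z = p := by
    obtain ⟨k, hk⟩ := (hP.to_subgroup (Subgroup.center P)).exists_card_eq
    have hk0 : k ≠ 0 := by
      rintro rfl
      have := hP.center_nontrivial
      have h1 : 1 < Nat.card (Subgroup.center P) := Finite.one_lt_card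
      rw [hk] at h1
      simp at h1
    obtain ⟨z, hz⟩ := exists_prime_orderOf_dvd_card' p (G := Subgroup.center P)
      (by rw [hk]; exact dvd_pow_self p hk0)
    exact ⟨z.1, z.2, by rwa [Subgroup.orderOf_coe]⟩
  -- a central element fixes whole orbits
  have hfix : ∀ w : P, w ∈ Subgroup.center P → ∀ a b : Ω, b ∈ MulAction.orbit P a → w • a = a →
      w • b = b := by
    rintro w hw a b ⟨g, rfl⟩ h
    dsimp only
    rw [← mul_smul, ← Subgroup.mem_center_iff.1 hw g, mul_smul, h]
  have hzfix : ∃ ω : Ω, (z : G) • ω = ω := hord _ (by rwa [Subgroup.orderOf_coe])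
  obtain ⟨a₀, ha₀⟩ := hzfix
  set O : Set Ω := MulAction.orbit P a₀ with hO
  have hzO : ∀ a ∈ O, z • a = a := fun a ha => hfix z hzc a₀ a ha ha₀
  have hz1 : z ≠ 1 := fun h => by simp [h] at hz; exact hp.ne_one hz.symm
  obtain ⟨b₀, hb₀⟩ : ∃ b : Ω, z • b ≠ b := by
    by_contra hall
    push Not at hall
    exact hz1 (Subtype.ext (eq_of_smul_eq_smul (α := Ω) fun b => by
      rw [show (z : G) • b = b from hall b, Subgroup.coe_one, one_smul]))
  have hbO : b₀ ∉ O := fun h => hb₀ (hzO b₀ h)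
  set O' : Set Ω := MulAction.orbit P b₀ with hO'
  have hdisj : ∀ x ∈ O, x ∉ O' := by
    intro x hx hx'
    apply hbO
    have e1 := MulAction.orbit_eq_iff.2 hx
    have e2 := MulAction.orbit_eq_iff.2 hx'
    rw [hO, ← e1, e2]
    exact MulAction.mem_orbit_self _
  obtain ⟨m, hm, hmd⟩ := horb a₀
  obtain ⟨m', hm', hmd'⟩ := horb b₀
  have hpm : p ^ 2 ≤ p ^ m := Nat.le_of_dvd (pow_pos hp.pos _) hmd
  have hpm' : p ^ 2 ≤ p ^ m' := Nat.le_of_dvd (pow_pos hp.pos _) hmd'
  have hsum : Nat.card O + Nat.card O' = (O ∪ O').ncard := by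
    rw [Set.ncard_union_eq (Set.disjoint_left.2 hdisj), Nat.card_coe_set_eq, Nat.card_coe_set_eq]
  have hle : (O ∪ O').ncard ≤ 2 * p ^ 2 := by
    rw [← hcard, ← Set.ncard_univ]; exact Set.ncard_le_ncard (Set.subset_univ _)
  have hcO : Nat.card O = p ^ 2 ∧ Nat.card O' = p ^ 2 := by
    rw [hm, hm'] at hsum
    exact ⟨hm.trans (by omega), hm'.trans (by omega)⟩
  have hcov : ∀ x : Ω, x ∈ O ∨ x ∈ O' := by
    intro x
    have h : O ∪ O' = Set.univ := Set.eq_of_subset_of_ncard_le (Set.subset_univ _) (by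
      rw [Set.ncard_univ, hcard, ← hsum, hcO.1, hcO.2]; omega)
    exact (Set.ext_iff.1 h x).2 trivial
  -- kernels on the two orbits
  have hinvO : ∀ (g : P) a, a ∈ O → g • a ∈ O := fun g a ha =>
    MulAction.mem_orbit_of_mem_orbit g ha
  have hinvO' : ∀ (g : P) a, a ∈ O' → g • a ∈ O' := fun g a ha =>
    MulAction.mem_orbit_of_mem_orbit g ha
  have kerN : ∀ S : Set Ω, (∀ (g : P) a, a ∈ S → g • a ∈ S) →
      (fixingSubgroup P S).Normal := by
    intro S hS
    refine ⟨fun k hk g => (mem_fixingSubgroup_iff _).2 fun a ha => ?_⟩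
    rw [mul_smul, mul_smul, (mem_fixingSubgroup_iff _).1 hk _ (hS g⁻¹ a ha), smul_inv_smul]
  set K := fixingSubgroup P O with hK
  have hKn : K.Normal := kerN O hinvO
  have hzK : z ∈ K := (mem_fixingSubgroup_iff _).2 hzO
  have hfaith : ∀ g : P, (∀ b ∈ O', g • b = b) → g = 1 := by
    intro g hg
    by_contra hg1
    have : (fixingSubgroup P O').Normal := kerN O' hinvO'
    have hne : fixingSubgroup P O' ≠ ⊥ := fun h => hg1 ((Subgroup.eq_bot_iff_forall _).1 h g
      ((mem_fixingSubgroup_iff _).2 hg))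
    obtain ⟨⟨w, hwO, hwc⟩, hw1⟩ := Subgroup.ne_bot_iff_exists_ne_one.1
      (CfsgLib.PGroup.inf_center_ne_bot hP _ hne)
    obtain ⟨k, hk⟩ := hP w
    have hwp : ∃ j, orderOf (w ^ j) = p := by
      obtain ⟨i, -, hi⟩ := (Nat.dvd_prime_pow hp).1 (orderOf_dvd_of_pow_eq_one hk)
      refine ⟨orderOf w / p, orderOf_pow_orderOf_div (orderOf_pos w).ne' ?_⟩
      rw [hi]
      refine dvd_pow_self p fun h0 => hw1 ?_
      rw [h0, pow_zero, orderOf_eq_one_iff] at hi
      exact Subtype.ext hi
    obtain ⟨j, hj⟩ := hwp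
    set v := w ^ j with hv
    have hvO : ∀ b ∈ O', v • b = b :=
      (mem_fixingSubgroup_iff _).1 (pow_mem hwO j)
    have hvc : v ∈ Subgroup.center P := pow_mem hwc j
    have hzv : orderOf (z * v) = p := by
      refine orderOf_eq_prime ?_ fun h => hb₀ ?_
      · have hcomm : Commute z v := (Subgroup.mem_center_iff.1 hvc z)
        rw [hcomm.mul_pow]
        conv_lhs => arg 1; rw [← hz]
        conv_lhs => arg 2; rw [← hj]
        rw [pow_orderOf_eq_one, pow_orderOf_eq_one, one_mul]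
      · have h' : (z * v) • b₀ = b₀ := by rw [h, one_smul]
        rwa [mul_smul, hvO b₀ (MulAction.mem_orbit_self _)] at h'
    obtain ⟨ω, hω⟩ := hord ((z * v : P) : G) (by rwa [Subgroup.orderOf_coe])
    have hω' : (z * v) • ω = ω := hω
    rw [mul_smul] at hω'
    rcases hcov ω with h | h
    · rw [hzO _ (hinvO v ω h)] at hω'
      have hv1 : v = 1 := Subtype.ext (eq_of_smul_eq_smul (α := Ω) fun b => by
        rw [Subgroup.coe_one, one_smul]
        change v • b = b
        rcases hcov b with hb | hb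
        · refine hfix v hvc ω b ?_ hω'
          rw [MulAction.orbit_eq_iff.2 h]; exact hb
        · exact hvO b hb)
      rw [hv1, orderOf_one] at hj
      exact hp.ne_one hj.symm
    · rw [hvO ω h] at hω'
      refine hb₀ (hfix z hzc ω b₀ ?_ hω')
      rw [MulAction.orbit_eq_iff.2 h]
      exact MulAction.mem_orbit_self _
  -- the subgroup of index dividing `p` containing a point stabiliser and `K`
  set T := MulAction.stabilizer P b₀ with hT
  set M := T ⊔ K with hM
  have hTi : T.index = p ^ 2 := by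
    rw [hT, MulAction.index_stabilizer, ← Nat.card_coe_set_eq]; exact hcO.2
  have hMlt : T < M := lt_of_le_of_ne le_sup_left fun h =>
    hb₀ (show z ∈ T by rw [h]; exact Subgroup.mem_sup_right hzK)
  have hMi : M.index = 1 ∨ M.index = p := by
    have hd : M.index ∣ p ^ 2 := hTi ▸ Subgroup.index_dvd_of_le hMlt.le
    have hlt : M.index < p ^ 2 := hTi ▸ Subgroup.index_strictAnti hMlt
    obtain ⟨i, hi, hi'⟩ := (Nat.dvd_prime_pow hp).1 hd
    rw [hi'] at hlt
    have := (Nat.pow_lt_pow_iff_right hp.one_lt).1 hlt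
    interval_cases i <;> simp [hi']
  have hMn : M.Normal := by
    rcases hMi with h | h
    · rw [Subgroup.index_eq_one.1 h]; infer_instance
    · obtain ⟨n, hn⟩ := hP.exists_card_eq
      refine Subgroup.normal_of_index_eq_minFac_card ?_
      rw [h, hn, Nat.Prime.pow_minFac hp]
      rintro rfl
      have := M.index_dvd_card
      rw [h, hn, pow_zero] at this
      exact hp.ne_one (Nat.dvd_one.1 this)
  obtain ⟨u, huM, a₂, ha₂, hu⟩ : ∃ u ∈ M, ∃ a ∈ O, u • a ≠ a := by
    by_contra hall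
    push Not at hall
    have hMK : M ≤ MulAction.stabilizer P a₀ := fun u hu =>
      hall u hu a₀ (MulAction.mem_orbit_self _)
    have := Nat.le_of_dvd (Nat.pos_of_ne_zero Subgroup.index_ne_zero_of_finite)
      (Subgroup.index_dvd_of_le hMK)
    rw [MulAction.index_stabilizer, ← Nat.card_coe_set_eq, ← hO, hcO.1] at this
    rcases hMi with h | h <;> rw [h] at this <;> nlinarith [hp.two_le]
  -- every element of `M` splits
  have key : ∀ a ∈ O, ∀ b ∈ O', ∀ v ∈ M, ∃ g : P, g • b = b ∧ g • a = v • a := by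
    rintro a ha b ⟨h, rfl⟩ v hv
    have h1 : h⁻¹ * v * h ∈ M := by simpa using hMn.conj_mem v hv h⁻¹
    rw [hM, ← SetLike.mem_coe, Subgroup.mul_normal] at h1
    obtain ⟨s, hs, k, hk, hsk⟩ := h1
    refine ⟨h * s * h⁻¹, ?_, ?_⟩
    · change (h * s * h⁻¹) • h • b₀ = h • b₀
      rw [mul_smul, mul_smul, inv_smul_smul, show s • b₀ = b₀ from hs]
    · have hk' : (h * k * h⁻¹) • a = a :=
        (mem_fixingSubgroup_iff _).1 (hKn.conj_mem k hk h) a ha
      have e : v = (h * s * h⁻¹) * (h * k * h⁻¹) := by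
        have : v = h * (s * k) * h⁻¹ := by dsimp only at hsk; rw [hsk]; group
        rw [this]; group
      rw [e, mul_smul (h * s * h⁻¹) (h * k * h⁻¹), hk']
  let Q : Subgroup G :=
    { carrier := {g | ∃ v ∈ M, (∀ a ∈ O, g • a = v • a) ∧ ∀ b ∈ O', g • b = b}
      one_mem' := ⟨1, M.one_mem, fun a _ => by simp, fun b _ => one_smul _ _⟩
      mul_mem' := by
        rintro g g' ⟨v, hv, h1, h2⟩ ⟨v', hv', h1', h2'⟩
        refine ⟨v * v', M.mul_mem hv hv', fun a ha => ?_, fun b hb => ?_⟩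
        · rw [mul_smul, mul_smul, h1' a ha, h1 _ (hinvO v' a ha)]
        · rw [mul_smul, h2' b hb, h2 b hb]
      inv_mem' := by
        rintro g ⟨v, hv, h1, h2⟩
        refine ⟨v⁻¹, M.inv_mem hv, fun a ha => ?_, fun b hb => ?_⟩
        · rw [inv_smul_eq_iff, h1 _ (hinvO v⁻¹ a ha), smul_inv_smul]
        · rw [inv_smul_eq_iff, h2 b hb] }
  have hQp : IsPGroup p Q := by
    rintro ⟨g, v, hv, h1, h2⟩
    obtain ⟨n, hn⟩ := hP v
    refine ⟨n, Subtype.ext ?_⟩
    change g ^ p ^ n = 1
    have hpw : ∀ i : ℕ, (∀ a ∈ O, g ^ i • a = (v ^ i) • a) ∧ ∀ b ∈ O', g ^ i • b = b := by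
      intro i
      induction i with
      | zero => exact ⟨fun a _ => by simp, fun b _ => by simp⟩
      | succ i ih =>
        refine ⟨fun a ha => ?_, fun b hb => ?_⟩
        · rw [pow_succ', mul_smul, pow_succ', mul_smul, ih.1 a ha, h1 _ (hinvO _ a ha)]
        · rw [pow_succ', mul_smul, ih.2 b hb, h2 b hb]
    refine eq_of_smul_eq_smul (α := Ω) fun x => ?_
    rw [one_smul]
    rcases hcov x with hx | hx
    · rw [(hpw _).1 x hx, hn, one_smul]
    · exact (hpw _).2 x hx
  have hnorm : P ≤ Subgroup.normalizer (Q : Set G) := by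
    intro h hh
    let h' : P := ⟨h, hh⟩
    have one : ∀ (h' : P) (g : G), g ∈ Q → (h' : G) * g * (h' : G)⁻¹ ∈ Q := by
      rintro h' g ⟨v, hv, h1, h2⟩
      refine ⟨h' * v * h'⁻¹, hMn.conj_mem v hv h', fun a ha => ?_, fun b hb => ?_⟩
      · rw [mul_smul, mul_smul, mul_smul, mul_smul]
        change h' • g • (h'⁻¹ • a) = h' • v • h'⁻¹ • a
        rw [h1 _ (hinvO h'⁻¹ a ha)]
      · rw [mul_smul, mul_smul]
        change h' • g • (h'⁻¹ • b) = b
        rw [h2 _ (hinvO' h'⁻¹ b hb), smul_inv_smul]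
    refine Subgroup.mem_normalizer_iff.2 fun g => ⟨one h' g, fun hg => ?_⟩
    have := one h'⁻¹ _ hg
    simpa [h', mul_assoc] using this
  have hQP : Q ≤ P := by
    have hsup : IsPGroup p (P ⊔ Q : Subgroup G) := hP.to_sup_of_normal_right' hQp hnorm
    have e := P₀.is_maximal' hsup le_sup_left
    rw [← hPdef] at e
    exact e ▸ le_sup_right
  -- the split permutation is in `G`
  let σ : Equiv.Perm Ω :=
    { toFun := fun x => if x ∈ O then u • x else x
      invFun := fun x => if x ∈ O then u⁻¹ • x else x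
      left_inv := fun x => by
        by_cases hx : x ∈ O <;> simp [hx, hinvO u x]
      right_inv := fun x => by
        by_cases hx : x ∈ O <;> simp [hx, hinvO u⁻¹ x] }
  have hσO : ∀ a ∈ O, σ a = u • a := fun a ha => if_pos ha
  have hσO' : ∀ b ∈ O', σ b = b := fun b hb => if_neg fun h => hdisj b h hb
  obtain ⟨γ, hγ⟩ := hcl σ (by
    intro a b
    rcases hcov a with ha | ha <;> rcases hcov b with hb | hb
    · exact ⟨u, hσO a ha, hσO b hb⟩
    · obtain ⟨g, hgb, hga⟩ := key a ha b hb u huM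
      exact ⟨g, (hσO a ha).trans hga.symm, (hσO' b hb).trans hgb.symm⟩
    · obtain ⟨g, hga, hgb⟩ := key b hb a ha u huM
      exact ⟨g, (hσO' a ha).trans hga.symm, (hσO b hb).trans hgb.symm⟩
    · exact ⟨1, by simp [hσO' a ha], by simp [hσO' b hb]⟩)
  have hγQ : γ ∈ Q :=
    ⟨u, huM, fun a ha => (hγ a).symm.trans (hσO a ha), fun b hb => (hγ b).symm.trans (hσO' b hb)⟩
  have h1 : (⟨γ, hQP hγQ⟩ : P) = 1 := hfaith _ fun b hb => (hγ b).symm.trans (hσO' b hb)
  have h2 : γ = 1 := congrArg Subtype.val h1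
  apply hu
  rw [← hσO a₂ ha₂, hγ, h2, one_smul]

end Cfsg.Agent.S3557
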