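import Cfsg.Statements.S3560

set_option autoImplicit false
open Cfsg

namespace Cfsg.Agent.S3560

open scoped Pointwise

variable {ι : Type*} [Fintype ι] {m n : ℕ}

/-- The automorphism group of the Hamming graph, transported to `Fin n`. -/
def hamming (c : Fin n ≃ (ι → Fin m)) : Subgroup (Equiv.Perm (Fin n)) where
  carrier := {σ | ∀ a b, (∃! i, c (σ a) i ≠ c (σ b) i) ↔ ∃! i, c a i ≠ c b i}
  one_mem' := fun _ _ => Iff.rfl
  mul_mem' {σ τ} hσ hτ := fun a b => (hσ (τ a) (τ b)).trans (hτ a b)
  inv_mem' {σ} hσ := fun a b => by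
    have := hσ (σ⁻¹ a) (σ⁻¹ b)
    simpa [Equiv.Perm.inv_def] using this.symm

theorem coord_mem (c : Fin n ≃ (ι → Fin m)) (g : ι → Equiv.Perm (Fin m)) :
    (c.trans (Equiv.piCongrRight g)).trans c.symm ∈ hamming c := fun a b => by
  refine existsUnique_congr fun i => ?_
  simp

theorem perm_mem (c : Fin n ≃ (ι → Fin m)) (s : Equiv.Perm ι) :
    (c.trans (Equiv.arrowCongr s (Equiv.refl (Fin m)))).trans c.symm ∈ hamming c := fun a b => by
  simp only [Equiv.trans_apply, Equiv.apply_symm_apply, Equiv.arrowCongr_apply, Equiv.coe_refl,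
    id_eq, Function.comp_apply]
  exact Equiv.existsUnique_congr s.symm fun {i} => Iff.rfl

theorem hamming_preprimitive [Nonempty (Fin n)] (c : Fin n ≃ (ι → Fin m)) (hm : 3 ≤ m) :
    MulAction.IsPreprimitive (hamming c) (Fin n) := by
  classical
  haveI htr : MulAction.IsPretransitive (hamming c) (Fin n) := ⟨fun a b => by
    refine ⟨⟨_, coord_mem c (fun i => Equiv.swap (c a i) (c b i))⟩, ?_⟩
    show c.symm _ = b
    rw [Equiv.symm_apply_eq]
    funext i
    simp⟩
  refine ⟨fun {B} hB => ?_⟩
  rw [MulAction.IsTrivialBlock]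
  by_cases hsub : B.Subsingleton
  · exact Or.inl hsub
  refine Or.inr ?_
  rw [Set.not_subsingleton_iff] at hsub
  obtain ⟨x0, hx0, y, hy, hxy⟩ := hsub
  have move : ∀ (g : hamming c) (a : Fin n), a ∈ B → g • a ∈ B → ∀ b ∈ B, g • b ∈ B := by
    intro g a ha hga b hb
    rcases MulAction.isBlock_iff_smul_eq_or_disjoint.1 hB g with h | h
    · rw [← h]; exact Set.smul_mem_smul_set hb
    · exact absurd hga (Set.disjoint_left.1 h (Set.smul_mem_smul_set ha))
  let X := c x0
  have act : ∀ (g : ι → Equiv.Perm (Fin m)) (a : Fin n),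
      c ((⟨_, coord_mem c g⟩ : hamming c) • a) = fun i => g i (c a i) := fun g a => by
    show c (c.symm _) = _
    rw [Equiv.apply_symm_apply]; rfl
  have moveTo : ∀ (g : ι → Equiv.Perm (Fin m)) (a : Fin n), a ∈ B → c.symm (fun i => g i (c a i)) ∈ B →
      ∀ b ∈ B, c.symm (fun i => g i (c b i)) ∈ B := by
    intro g a ha hga b hb
    exact move ⟨_, coord_mem c g⟩ a ha hga b hb
  obtain ⟨i, hi⟩ : ∃ i, c x0 i ≠ c y i := by
    by_contra h
    push_neg at h
    exact hxy (c.injective (funext h))
  obtain ⟨t, ht1, ht2⟩ : ∃ t : Fin m, t ≠ X i ∧ t ≠ c y i := by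
    by_contra h
    push_neg at h
    have : (Finset.univ : Finset (Fin m)) ⊆ {X i, c y i} := fun t _ => by
      simp only [Finset.mem_insert, Finset.mem_singleton]
      exact or_iff_not_imp_left.2 (h t)
    have := (Finset.card_le_card this).trans Finset.card_le_two
    rw [Finset.card_univ, Fintype.card_fin] at this
    omega
  -- a second point of `B` differing from `y` only at `i`
  have hy' : c.symm (Function.update (c y) i t) ∈ B := by
    have h := moveTo (Function.update (fun _ => 1) i (Equiv.swap (c y i) t)) x0 hx0 ?_ y hy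
    · convert h using 2
      funext j
      by_cases hj : j = i
      · subst hj; simp
      · simp [hj]
    · convert hx0
      rw [Equiv.symm_apply_eq]
      funext j
      by_cases hj : j = i
      · subst hj
        rw [Function.update_self, Equiv.swap_apply_of_ne_of_ne hi (Ne.symm ht1)]
      · simp [hj]
  -- a point of `B` differing from `x0` only at `i`
  have hone : ∃ u : Fin m, u ≠ X i ∧ c.symm (Function.update X i u) ∈ B := by
    refine ⟨Equiv.swap (c y i) (X i) t, ?_, ?_⟩
    · rw [Equiv.swap_apply_of_ne_of_ne ht2 ht1]; exact ht1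
    · have h := moveTo (fun j => Equiv.swap (c y j) (X j)) y hy (by simpa [X] using hx0) _ hy'
      convert h using 2
      funext j
      by_cases hj : j = i
      · subst hj; simp
      · simp [hj]
  obtain ⟨u, hu, huB⟩ := hone
  have hsingle : ∀ (j : ι) (v : Fin m), c.symm (Function.update X j v) ∈ B := by
    intro j v
    by_cases hv : v = X j
    · subst hv; simpa [X] using hx0
    -- move coordinate `i` to `j`, then fix up the values
    have h1 := move ⟨_, perm_mem c (Equiv.swap i j)⟩
    let g : ι → Equiv.Perm (Fin m) := fun k =>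
      if k = j then Equiv.swap v (Equiv.swap (X i) (X j) u) * Equiv.swap (X i) (X j)
      else Equiv.swap (X (Equiv.swap i j k)) (X k)
    have hgj : g j (X i) = X j := by
      have hne : X j ≠ Equiv.swap (X i) (X j) u := fun e => hu
        ((Equiv.swap (X i) (X j)).injective (e.symm.trans (Equiv.swap_apply_left _ _).symm))
      simp only [g, if_pos, Equiv.Perm.mul_apply, Equiv.swap_apply_left]
      rw [Equiv.swap_apply_of_ne_of_ne (Ne.symm hv) hne]
    let σ : hamming c := ⟨_, coord_mem c g⟩ * ⟨_, perm_mem c (Equiv.swap i j)⟩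
    have hσ : ∀ a, c (σ • a) = fun k => g k (c a (Equiv.swap i j k)) := by
      intro a
      show c ((⟨_, coord_mem c g⟩ : hamming c) • c.symm _) = _
      rw [act, Equiv.apply_symm_apply]
      rfl
    have hfix : σ • x0 = x0 := by
      apply c.injective
      rw [hσ]
      funext k
      by_cases hk : k = j
      · subst hk; simpa [X] using hgj
      · simp only [g, if_neg hk]; exact Equiv.swap_apply_left _ _
    have h2 := move σ x0 hx0 (by rw [hfix]; exact hx0) _ huB
    convert h2 using 1
    rw [Equiv.symm_apply_eq, hσ]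
    funext k
    by_cases hk : k = j
    · subst hk
      simp [g]
    · rw [Function.update_of_ne hk]
      have : Equiv.swap i j k ≠ i := fun e => hk (by
        have := congrArg (Equiv.swap i j) e
        rwa [Equiv.swap_apply_self, Equiv.swap_apply_left] at this)
      simp [g, hk, this]
  have hall : ∀ S : Finset ι, ∀ W : ι → Fin m, (∀ k ∉ S, W k = X k) → c.symm W ∈ B := by
    intro S
    induction S using Finset.induction with
    | empty =>
      intro W hW
      rw [show W = X from funext fun k => hW k (Finset.notMem_empty k)]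
      simpa [X] using hx0
    | @insert j S hj ih =>
      intro W hW
      have hU := ih (Function.update W j (X j)) (fun k hk => by
        by_cases hkj : k = j
        · subst hkj; simp
        · rw [Function.update_of_ne hkj]; exact hW k (by simp [hkj, hk]))
      let g : ι → Equiv.Perm (Fin m) := fun k => Equiv.swap (X k) (Function.update W j (X j) k)
      have h := moveTo g x0 hx0 (by convert hU using 2; funext k; simp [g, X])
        _ (hsingle j ((g j).symm (W j)))
      convert h using 2
      funext k
      by_cases hk : k = j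
      · subst hk; simp
      · simp [g, hk]
  refine Set.eq_univ_of_forall fun b => ?_
  have := hall Finset.univ (c b) (fun k hk => absurd (Finset.mem_univ k) hk)
  simpa using this

theorem hamming_not_two (c : Fin n ≃ (ι → Fin m)) (hm : 3 ≤ m) (hι : 2 ≤ Fintype.card ι) :
    ¬ MulAction.IsMultiplyPretransitive (hamming c) (Fin n) 2 := by
  classical
  intro h
  rw [MulAction.is_two_pretransitive_iff] at h
  obtain ⟨i, j, hij⟩ := Fintype.one_lt_card_iff.1 (by omega : 1 < Fintype.card ι)
  let z : Fin m := ⟨0, by omega⟩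
  let o : Fin m := ⟨1, by omega⟩
  have hzo : z ≠ o := by simp [z, o, Fin.ext_iff]
  let X : ι → Fin m := fun _ => z
  have h1 : c.symm X ≠ c.symm (Function.update X i o) := fun e => hzo (by
    simpa [X] using congrFun (c.symm.injective e) i)
  have h2 : c.symm X ≠ c.symm (Function.update (Function.update X i o) j o) := fun e => hzo (by
    simpa [X] using congrFun (c.symm.injective e) j)
  obtain ⟨g, hg1, hg2⟩ := h h1 h2
  have := (g.2 (c.symm X) (c.symm (Function.update X i o))).2 ⟨i, by simp [X, hzo], fun k hk => by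
    by_contra hki
    simp [hki, X] at hk⟩
  rw [show (g : Equiv.Perm (Fin n)) (c.symm X) = g • c.symm X from rfl,
    show (g : Equiv.Perm (Fin n)) (c.symm (Function.update X i o)) = g • c.symm (Function.update X i o) from rfl,
    hg1, hg2] at this
  obtain ⟨k, -, hk⟩ := this
  exact hij ((hk i (by simp [X, hij, hzo])).trans (hk j (by simp [X, hzo])).symm)

/-- Let K be a finite group isomorphic to a direct product of r ≥ 2 groups all of the same order m ≥ 3. Then K is not a B-group: there is a primitive but not doubly transitive permutation group (on some finite set) containing a regular subgroup isomorphic to K. -/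
theorem result {K : Type*} [Group K] [Finite K] {ι : Type*} [Fintype ι] (F : ι → Type*) [∀ i, Group (F i)]
    (hr : 2 ≤ Fintype.card ι) (m : ℕ) (hm : 3 ≤ m) (hcard : ∀ i, Nat.card (F i) = m) (e : K ≃* (∀ i, F i)) :
    ∃ (n : ℕ) (G R : Subgroup (Equiv.Perm (Fin n))), R ≤ G ∧ Nonempty (↥R ≃* K) ∧
      MulAction.IsPretransitive ↥R (Fin n) ∧ (∀ a : Fin n, MulAction.stabilizer ↥R a = ⊥) ∧
      MulAction.IsPreprimitive ↥G (Fin n) ∧ ¬ MulAction.IsMultiplyPretransitive ↥G (Fin n) 2 := by
  classical
  haveI : ∀ i, Finite (F i) := fun i => Nat.finite_of_card_ne_zero (by rw [hcard]; omega)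
  let ei : ∀ i, F i ≃ Fin m := fun i => (Finite.equivFin (F i)).trans (finCongr (hcard i))
  let c : Fin (m ^ Fintype.card ι) ≃ (ι → Fin m) :=
    (finCongr (by simp)).trans (Fintype.equivFin (ι → Fin m)).symm
  haveI : Nonempty (Fin (m ^ Fintype.card ι)) := ⟨⟨0, pow_pos (by omega) _⟩⟩
  let d : K ≃ Fin (m ^ Fintype.card ι) := (e.toEquiv.trans (Equiv.piCongrRight ei)).trans c.symm
  let L : K →* Equiv.Perm (Fin (m ^ Fintype.card ι)) :=
    { toFun := fun k => (d.symm.trans (Equiv.mulLeft k)).trans d
      map_one' := Equiv.ext fun a => by simp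
      map_mul' := fun k l => Equiv.ext fun a => by simp [mul_assoc] }
  have hLa : ∀ k a, L k a = d (k * d.symm a) := fun k a => rfl
  have hinj : Function.Injective L := fun k l h => by
    have := congrArg (fun σ => d.symm (σ (d 1))) h
    simpa [hLa] using this
  refine ⟨m ^ Fintype.card ι, hamming c, L.range, ?_, ⟨(MonoidHom.ofInjective hinj).symm⟩, ?_, ?_,
    hamming_preprimitive c hm, hamming_not_two c hm hr⟩
  · rintro _ ⟨k, rfl⟩
    have hk : L k = (c.trans (Equiv.piCongrRight fun i =>
        ((ei i).symm.trans (Equiv.mulLeft (e k i))).trans (ei i))).trans c.symm := by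
      refine Equiv.ext fun a => ?_
      rw [hLa]
      show c.symm _ = c.symm _
      congr 1
      funext i
      show ei i (e (k * e.symm _) i) = _
      rw [map_mul, MulEquiv.apply_symm_apply]
      rfl
    rw [hk]; exact coord_mem c _
  · refine ⟨fun a b => ⟨⟨L (d.symm b * (d.symm a)⁻¹), _, rfl⟩, ?_⟩⟩
    show L _ a = b
    rw [hLa, mul_assoc, inv_mul_cancel, mul_one, Equiv.apply_symm_apply]
  · intro a
    rw [eq_bot_iff]
    rintro ⟨_, k, rfl⟩ hk
    have hk' : d (k * d.symm a) = a := hk
    rw [Subgroup.mem_bot]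
    refine Subtype.ext ?_
    show L k = 1
    rw [← Equiv.eq_symm_apply, mul_eq_right] at hk'
    rw [hk', map_one]

end Cfsg.Agent.S3560
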