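import Cfsg.Statements.S3571
import Cfsg.Agent.Lib.Derangement.SylvesterBinom
import Cfsg.Agent.Lib.Known.AltAut
import Cfsg.Agent.S0713

set_option autoImplicit false
open Cfsg

namespace Cfsg.Agent.S3571
open Equiv Equiv.Perm MulAction
open scoped Pointwise

variable {m r : ℕ}

theorem card_alt (hm : 5 ≤ m) : 2 * Nat.card ↥(alternatingGroup (Fin m)) = m.factorial := by
  haveI : Nontrivial (Fin m) := Fin.nontrivial_iff_two_le.mpr (by omega)
  rw [two_mul_nat_card_alternatingGroup, Nat.card_perm, Nat.card_fin]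

theorem sq_not_dvd_factorial [hr : Fact r.Prime] (h : m < 2 * r) : ¬ r ^ 2 ∣ m.factorial := by
  intro hd
  have hv := (padicValNat_dvd_iff_le (Nat.factorial_ne_zero m)).mp hd
  rcases Nat.lt_or_ge m r with h1 | h1
  · exact Nat.not_lt.mpr ((Nat.Prime.dvd_factorial hr.out).mp ((dvd_pow_self r two_ne_zero).trans hd)) h1
  · have hlog : Nat.log r m < 2 := Nat.log_lt_of_lt_pow (by omega) (by
      rw [pow_two]; exact lt_of_lt_of_le h (Nat.mul_le_mul_right r hr.out.two_le))
    rw [padicValNat_factorial (b := 2) hlog] at hv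
    rw [show Finset.Ico 1 2 = {1} from rfl, Finset.sum_singleton, pow_one] at hv
    have : m / r < 2 := Nat.div_lt_of_lt_mul (by omega)
    omega

/-- An element of order `r` with `m / r` cycles of length `r`. -/
theorem exists_full (hr : r.Prime) (hrm : r ≤ m) :
    ∃ σ : Perm (Fin m), σ.cycleType = Multiset.replicate (m / r) r ∧ orderOf σ = r := by
  obtain ⟨σ, hσ⟩ := (Equiv.Perm.exists_with_cycleType_iff (α := Fin m)
      (m := Multiset.replicate (m / r) r)).2 ⟨by
        rw [Multiset.sum_replicate, smul_eq_mul, Fintype.card_fin]; exact Nat.div_mul_le_self m r,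
        fun a ha => by rw [Multiset.eq_of_mem_replicate ha]; exact hr.two_le⟩
  refine ⟨σ, hσ, ?_⟩
  rw [← σ.lcm_cycleType, hσ]
  obtain ⟨j, hj⟩ : ∃ j, m / r = j + 1 :=
    ⟨m / r - 1, by have := Nat.div_pos hrm hr.pos; omega⟩
  rw [hj]
  refine Nat.dvd_antisymm (Multiset.lcm_dvd.2 fun b hb => ?_) (Multiset.dvd_lcm (by simp))
  rw [Multiset.eq_of_mem_replicate hb]

/-- Such an element leaves no small set invariant. -/
theorem not_invariant [hr : Fact r.Prime] {σ : Perm (Fin m)}
    (hσ : σ.cycleType = Multiset.replicate (m / r) r) (ho : orderOf σ = r) {s : Finset (Fin m)}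
    (hs : s.card < r) (hms : m % r < s.card) : ¬ ∀ x, σ x ∈ s ↔ x ∈ s := by
  intro hmem
  let τ : Equiv.Perm {x // x ∈ s} := σ.subtypePerm fun x => hmem x
  have hτ : τ ^ r ^ 1 = 1 := by
    refine Equiv.ext fun x => Subtype.ext ?_
    rw [Equiv.Perm.subtypePerm_pow, Equiv.Perm.subtypePerm_apply, pow_one, Equiv.Perm.one_apply]
    show (σ ^ r) x = x
    rw [← ho, pow_orderOf_eq_one, Equiv.Perm.one_apply]
  have h1 := Equiv.Perm.card_compl_support_modEq hτ
  rw [Fintype.card_coe] at h1
  have h2 : τ.supportᶜ.card ≤ m % r := by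
    have h3 : σ.supportᶜ.card = m % r := by
      rw [Finset.card_compl, ← σ.sum_cycleType, hσ, Multiset.sum_replicate, smul_eq_mul,
        Fintype.card_fin]
      have := Nat.div_add_mod m r
      rw [mul_comm] at this
      omega
    rw [← h3]
    refine Finset.card_le_card_of_injOn Subtype.val (fun x hx => ?_) Subtype.val_injective.injOn
    simp only [Finset.coe_compl, Set.mem_compl_iff, Finset.mem_coe, Finset.mem_compl,
      Equiv.Perm.mem_support, not_not] at hx ⊢
    exact congrArg Subtype.val hx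
  rw [Nat.ModEq, Nat.mod_eq_of_lt (show τ.supportᶜ.card < r by omega), Nat.mod_eq_of_lt hs] at h1
  omega

theorem isPreprimitive_of_large_cycle (M : Subgroup (Perm (Fin m))) (ht : IsPretransitive M (Fin m))
    {p : ℕ} [hp : Fact p.Prime] (hpm : m < 2 * p) (x : M) (hx : orderOf x = p) (a : Fin m)
    (ha : x • a ≠ a) : IsPreprimitive M (Fin m) := by
  haveI := ht
  refine IsPreprimitive.of_isTrivialBlock_base a fun {B} haB hB => ?_
  have hne : B.Nonempty := ⟨a, haB⟩
  have hmul := hB.ncard_block_mul_ncard_orbit_eq hne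
  rw [Nat.card_fin] at hmul
  by_cases hxB : x • B = B
  · refine Or.inr ?_
    have hsub : orbit (Subgroup.zpowers x) a ⊆ B := by
      rintro _ ⟨⟨g, hg⟩, rfl⟩
      have hgB : g • B = B := (Subgroup.zpowers_le.mpr (show x ∈ stabilizer M B from hxB)) hg
      rw [← hgB]
      exact Set.smul_mem_smul_set haB
    have hcard : (orbit (Subgroup.zpowers x) a).ncard = p := by
      have hd : (orbit (Subgroup.zpowers x) a).ncard ∣ p := by
        refine Dvd.intro (Nat.card (stabilizer (Subgroup.zpowers x) a)) ?_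
        rw [← index_stabilizer, mul_comm, Subgroup.card_mul_index, Nat.card_zpowers, hx]
      refine (hp.out.eq_one_or_self_of_dvd _ hd).resolve_left fun h1 => ha ?_
      obtain ⟨b, hb⟩ := Set.ncard_eq_one.mp h1
      have e1 : a ∈ orbit (Subgroup.zpowers x) a := mem_orbit_self a
      have e2 : x • a ∈ orbit (Subgroup.zpowers x) a := ⟨⟨x, Subgroup.mem_zpowers x⟩, rfl⟩
      rw [hb, Set.mem_singleton_iff] at e1 e2
      rw [e2, e1]
    have hle := Set.ncard_le_ncard hsub (Set.toFinite _)
    have horb : (orbit M B).ncard = 1 := by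
      have : 0 < (orbit M B).ncard := (Set.ncard_pos (Set.toFinite _)).mpr ⟨B, mem_orbit_self B⟩
      by_contra h
      have h2 := Nat.mul_le_mul (show p ≤ B.ncard by omega) (show 2 ≤ (orbit M B).ncard by omega)
      omega
    rw [horb, mul_one] at hmul
    refine Set.eq_of_subset_of_ncard_le (Set.subset_univ _) ?_ (Set.toFinite _)
    rw [Set.ncard_univ, Nat.card_fin, hmul]
  · refine Or.inl ?_
    have hinj : Function.Injective (fun g : Subgroup.zpowers x => (⟨(g : M) • B, g.1, rfl⟩ : orbit M B)) := by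
      intro g g' h
      have h' : (g : M) • B = (g' : M) • B := congrArg Subtype.val h
      by_contra hne'
      refine hxB (show x ∈ stabilizer M B from ?_)
      have hmem : (g' : M)⁻¹ * g ∈ stabilizer M B := by
        rw [mem_stabilizer_iff, mul_smul, h', inv_smul_smul]
      have hz : (g' : M)⁻¹ * g ∈ Subgroup.zpowers x := mul_mem (inv_mem g'.2) g.2
      have hne1 : (g' : M)⁻¹ * g ≠ 1 := fun h1 => hne' (Subtype.ext (inv_mul_eq_one.mp h1).symm)
      have hord : orderOf ((g' : M)⁻¹ * g) = p := by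
        refine ((hp.out.eq_one_or_self_of_dvd _ (hx ▸ orderOf_dvd_of_mem_zpowers hz))).resolve_left ?_
        rwa [orderOf_eq_one_iff]
      have heq : Subgroup.zpowers ((g' : M)⁻¹ * g) = Subgroup.zpowers x :=
        Subgroup.eq_of_le_of_card_ge (Subgroup.zpowers_le.mpr hz)
          (by rw [Nat.card_zpowers, Nat.card_zpowers, hx, hord])
      exact (Subgroup.zpowers_le.mpr hmem) (by rw [heq]; exact Subgroup.mem_zpowers x)
    have hle : p ≤ (orbit M B).ncard := by
      rw [← Nat.card_coe_set_eq, ← hx, ← Nat.card_zpowers]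
      exact Nat.card_le_card_of_injective _ hinj
    have hB1 : B.ncard ≤ 1 := by
      by_contra h
      have h2 := Nat.mul_le_mul (show 2 ≤ B.ncard by omega) hle
      omega
    exact fun u hu v hv => (Set.ncard_le_one (Set.toFinite _)).mp hB1 u hu v hv

theorem exists_conj_mem_of_sylow {A : Subgroup (Perm (Fin m))} (M : Subgroup (Perm (Fin m))) (hMA : M ≤ A)
    {q : ℕ} [Fact q.Prime] (hq : ¬ q ∣ M.relIndex A) {σ : Perm (Fin m)} (hσ : σ ∈ A) {j : ℕ}
    (hσq : σ ^ q ^ j = 1) : ∃ τ ∈ A, τ⁻¹ * σ * τ ∈ M := by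
  classical
  set M' := M.subgroupOf A with hM'
  obtain ⟨P⟩ : Nonempty (Sylow q M') := inferInstance
  have hP : IsPGroup q ((P : Subgroup M').map M'.subtype) := P.2.map _
  obtain ⟨Q, hQ⟩ := hP.exists_le_sylow
  have hcard : Nat.card ((P : Subgroup M').map M'.subtype) = Nat.card (Q : Subgroup A) := by
    rw [Subgroup.card_map_of_injective M'.subtype_injective, P.card_eq_multiplicity, Q.card_eq_multiplicity]
    congr 1
    rw [← Subgroup.card_mul_index M', Nat.factorization_mul Nat.card_pos.ne' Subgroup.index_ne_zero_of_finite,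
      Finsupp.add_apply, Nat.factorization_eq_zero_of_not_dvd (n := M'.index) hq, add_zero]
  have hQM : (Q : Subgroup A) ≤ M' := by
    rw [← Subgroup.eq_of_le_of_card_ge hQ hcard.ge]
    exact Subgroup.map_subtype_le _
  have hz : IsPGroup q (Subgroup.zpowers (⟨σ, hσ⟩ : A)) := by
    rintro ⟨g, hg⟩
    refine ⟨j, Subtype.ext ?_⟩
    obtain ⟨i, rfl⟩ := hg
    show ((⟨σ, hσ⟩ : A) ^ i) ^ q ^ j = 1
    rw [← zpow_natCast, ← zpow_mul, mul_comm, zpow_mul, zpow_natCast,
      show (⟨σ, hσ⟩ : A) ^ q ^ j = 1 from Subtype.ext (by simpa using hσq), one_zpow]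
  obtain ⟨R, hR⟩ := hz.exists_le_sylow
  obtain ⟨τ, hτ⟩ := MulAction.exists_smul_eq A Q R
  have h1 : (⟨σ, hσ⟩ : A) ∈ (R : Subgroup A) := hR (Subgroup.mem_zpowers _)
  rw [← hτ, Sylow.coe_subgroup_smul, Subgroup.mem_pointwise_smul_iff_inv_smul_mem] at h1
  have h2 : (MulAut.conj τ)⁻¹ • (⟨σ, hσ⟩ : A) ∈ M' := hQM h1
  refine ⟨τ, τ.2, ?_⟩
  simpa [hM', Subgroup.mem_subgroupOf, MulAut.smul_def, MulAut.conj_inv_apply] using h2

theorem exists_perm_alt (hm : 3 ≤ m) (s t : Finset (Fin m)) (hs : 2 ≤ s.card) (hst : s.card = t.card) :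
    ∃ π ∈ alternatingGroup (Fin m), π • s = t := by
  obtain ⟨π, hπ⟩ : ∃ π : Perm (Fin m), π • s = t := by
    refine ⟨(Finset.equivOfCardEq hst).extendSubtype,
      Finset.eq_of_subset_of_card_le ?_ (by rw [Finset.card_smul_finset, hst])⟩
    intro y hy
    obtain ⟨z, hz, rfl⟩ := Finset.mem_smul_finset.mp hy
    exact Equiv.extendSubtype_mem _ z hz
  by_cases hev : sign π = 1
  · exact ⟨π, mem_alternatingGroup.mpr hev, hπ⟩
  obtain ⟨a, ha, b, hb, hab⟩ := Finset.one_lt_card.mp hs
  refine ⟨π * swap a b, mem_alternatingGroup.mpr ?_, ?_⟩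
  · rw [map_mul, sign_swap hab]
    rcases Int.units_eq_one_or (sign π) with h | h
    · exact absurd h hev
    · rw [h]; rfl
  · rw [mul_smul, show swap a b • s = s from ?_, hπ]
    refine Finset.eq_of_subset_of_card_le ?_ (Finset.card_smul_finset _ _).ge
    intro y hy
    obtain ⟨z, hz, rfl⟩ := Finset.mem_smul_finset.mp hy
    rw [Perm.smul_def, swap_apply_def]
    split_ifs <;> assumption

theorem rel_choose (hm : 5 ≤ m) (O : Finset (Fin m)) (hO : 2 ≤ O.card) :
    (stabilizer (Perm (Fin m)) O).relIndex (alternatingGroup (Fin m)) = m.choose O.card := by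
  classical
  have h : (stabilizer (Perm (Fin m)) O).subgroupOf (alternatingGroup (Fin m)) =
      stabilizer (alternatingGroup (Fin m)) O := by
    ext g; rfl
  rw [Subgroup.relIndex, h, index_stabilizer]
  have : orbit (alternatingGroup (Fin m)) O = ↑(Finset.univ.powersetCard O.card : Finset (Finset (Fin m))) := by
    ext s
    simp only [Finset.mem_coe, Finset.mem_powersetCard, Finset.subset_univ, true_and]
    constructor
    · rintro ⟨g, rfl⟩
      simp
    · intro hs
      obtain ⟨π, hπ, e⟩ := exists_perm_alt (by omega) O s hO hs.symm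
      exact ⟨⟨π, hπ⟩, e⟩
  rw [this, Set.ncard_coe_finset, Finset.card_powersetCard, Finset.card_univ, Fintype.card_fin]

/-- The combinatorial core. -/
theorem core (hm : 5 ≤ m) (hr : r.Prime) (M : Subgroup (Perm (Fin m)))
    (hMA : M ≤ alternatingGroup (Fin m))
    (hrd : r ∣ M.relIndex (alternatingGroup (Fin m)))
    (hmax : ∀ s : ℕ, s.Prime → s ∣ M.relIndex (alternatingGroup (Fin m)) → s ≤ r)
    (hK : m ≠ 6 → ∀ O : Finset (Fin m), (∀ π : Perm (Fin m),
        (∀ σ, σ ∈ M ↔ π * σ * π⁻¹ ∈ M) → π • O = O) → M ≤ stabilizer (Perm (Fin m)) O →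
      ¬ alternatingGroup (Fin m) ≤ stabilizer (Perm (Fin m)) O →
      stabilizer (Perm (Fin m)) O ⊓ alternatingGroup (Fin m) ≤ M) :
    ∃ σ ∈ alternatingGroup (Fin m), orderOf σ = r ∧
      ∀ τ ∈ alternatingGroup (Fin m), τ⁻¹ * σ * τ ∉ M := by
  classical
  haveI := Fact.mk hr
  set A := alternatingGroup (Fin m) with hA
  have hlag : Nat.card M * M.relIndex A = Nat.card A := by
    rw [Subgroup.relIndex, ← Subgroup.card_mul_index (M.subgroupOf A),
      Nat.card_congr (Subgroup.subgroupOfEquivOfLe hMA).toEquiv]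
  have hfac : Nat.card M * M.relIndex A ∣ m.factorial := by
    rw [hlag, ← card_alt hm]; exact Dvd.intro_left _ rfl
  have hord_conj : ∀ (σ τ : Perm (Fin m)), orderOf (τ⁻¹ * σ * τ) = orderOf σ := fun σ τ => by
    simpa using orderOf_injective (MulAut.conj τ⁻¹).toMonoidHom (MulAut.conj τ⁻¹).injective σ
  -- `r` large
  rcases Nat.lt_or_ge m (2 * r) with hbig | hsmall
  · obtain ⟨s, hs⟩ := exists_prime_orderOf_dvd_card' (G := A) r (by
      rw [← hlag]; exact hrd.mul_left _)
    refine ⟨s, s.2, by rw [Subgroup.orderOf_coe, hs], fun τ _ hmem => ?_⟩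
    have h1 : r ∣ Nat.card M := by
      have := orderOf_dvd_natCard (⟨_, hmem⟩ : M)
      rwa [← Subgroup.orderOf_coe, hord_conj, Subgroup.orderOf_coe, hs] at this
    refine sq_not_dvd_factorial hbig (dvd_trans ?_ hfac)
    rw [pow_two]; exact Nat.mul_dvd_mul h1 hrd
  obtain ⟨p, hp, hp1, hp2⟩ := Nat.exists_prime_lt_and_le_two_mul (m / 2) (by omega)
  haveI := Fact.mk hp
  have hpm : m < 2 * p := by omega
  have hpn : ¬ p ∣ M.relIndex A := fun h => by have := hmax p hp h; omega
  obtain ⟨x, hx⟩ : ∃ x : M, orderOf x = p := by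
    refine exists_prime_orderOf_dvd_card' p ?_
    have hpA : p ∣ 2 * Nat.card A := by rw [card_alt hm]; exact hp.dvd_factorial.mpr (by omega)
    rw [← hlag] at hpA
    rcases hp.dvd_mul.mp hpA with h | h
    · have := Nat.le_of_dvd (by norm_num) h; omega
    · exact (hp.dvd_mul.mp h).resolve_right hpn
  have hxo : orderOf (x : Perm (Fin m)) = p := by rw [Subgroup.orderOf_coe, hx]
  obtain ⟨c, hc⟩ := Equiv.Perm.cycleType_prime_order (σ := (x : Perm (Fin m))) (hxo.symm ▸ hp)
  rw [hxo] at hc
  have hc0 : c = 0 := by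
    have := (x : Perm (Fin m)).sum_cycleType_le
    rw [hc, Multiset.sum_replicate, smul_eq_mul, Fintype.card_fin] at this
    by_contra h
    have : 2 * p ≤ (c + 1) * p := Nat.mul_le_mul_right p (by omega)
    omega
  subst hc0
  have hcyc : (x : Perm (Fin m)).IsCycle := card_cycleType_eq_one.mp (by rw [hc]; rfl)
  have hsupp : (x : Perm (Fin m)).support.card = p := by
    rw [← sum_cycleType, hc]; simp
  obtain ⟨a, ha⟩ := Finset.card_pos.mp (hsupp.symm ▸ hp.pos)
  have ha' : x • a ≠ a := mem_support.mp ha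
  set O : Finset (Fin m) := (orbit M a).toFinite.toFinset with hOdef
  have hmemO : ∀ y, y ∈ O ↔ y ∈ orbit M a := fun y => Set.Finite.mem_toFinset _
  have hsO : (x : Perm (Fin m)).support ⊆ O := fun y hy => by
    obtain ⟨i, hi⟩ := hcyc.exists_zpow_eq (mem_support.mp ha) (mem_support.mp hy)
    rw [hmemO]
    exact ⟨x ^ i, by show ((x ^ i : M) : Perm (Fin m)) a = y; rw [Subgroup.coe_zpow]; exact hi⟩
  have hpO : p ≤ O.card := hsupp ▸ Finset.card_le_card hsO
  by_cases htrans : O = Finset.univ
  · -- transitive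
    haveI ht : IsPretransitive M (Fin m) := ⟨fun u v => by
      obtain ⟨g, hg⟩ := (hmemO u).mp (htrans ▸ Finset.mem_univ u)
      obtain ⟨g', hg'⟩ := (hmemO v).mp (htrans ▸ Finset.mem_univ v)
      exact ⟨g' * g⁻¹, by rw [mul_smul, ← hg, inv_smul_smul]; exact hg'⟩⟩
    have hprim := isPreprimitive_of_large_cycle M ht hpm x hx a ha'
    have hnot : ¬ A ≤ M := fun h => by
      rw [Subgroup.relIndex_eq_one.mpr h] at hrd
      exact hr.ne_one (Nat.dvd_one.mp hrd)
    by_cases hr2 : r = 2
    · exfalso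
      haveI : Fact (Nat.Prime 3) := ⟨Nat.prime_three⟩
      have h3 : ¬ 3 ∣ M.relIndex A := fun h => by have := hmax 3 Nat.prime_three h; omega
      obtain ⟨σ, hσ⟩ := (Equiv.Perm.exists_with_cycleType_iff (α := Fin m) (m := {3})).2
        ⟨by simp; omega, by simp⟩
      have h3c : σ.IsThreeCycle := hσ
      obtain ⟨τ, -, hmem⟩ := exists_conj_mem_of_sylow M hMA h3
        (mem_alternatingGroup.mpr h3c.sign) (j := 1)
        (by rw [pow_one, ← h3c.orderOf]; exact pow_orderOf_eq_one σ)
      refine hnot (alternatingGroup_le_of_isPreprimitive_of_isThreeCycle_mem hprim ?_ hmem)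
      rw [Equiv.Perm.IsThreeCycle, show τ⁻¹ * σ * τ = τ⁻¹ * σ * τ⁻¹⁻¹ by group, cycleType_conj]
      exact hσ
    · obtain ⟨σ, hσ⟩ := (Equiv.Perm.exists_with_cycleType_iff (α := Fin m) (m := {r})).2
        ⟨by simp; omega, by simp [hr.two_le]⟩
      have ho : orderOf σ = r := by rw [← lcm_cycleType, hσ, Multiset.lcm_singleton, normalize_eq]
      have hsgn : sign σ = 1 := by
        rw [sign_of_cycleType, hσ, Multiset.sum_singleton, Multiset.card_singleton]
        exact ((hr.odd_of_ne_two hr2).add_one).neg_one_pow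
      by_cases hex : ∃ τ ∈ A, τ⁻¹ * σ * τ ∈ M
      · exfalso
        obtain ⟨τ, -, hmem⟩ := hex
        have h3 : 3 ≤ r := by have := hr.two_le; omega
        have hct : (τ⁻¹ * σ * τ).cycleType = {r} := by
          rw [show τ⁻¹ * σ * τ = τ⁻¹ * σ * τ⁻¹⁻¹ by group, cycleType_conj, hσ]
        exact hnot (Cfsg.Agent.S0713.result M hprim hr (by simpa using hm)
          (by rw [Fintype.card_fin]; omega) (card_cycleType_eq_one.mp (by rw [hct]; rfl))
          (by rw [← sum_cycleType, hct]; simp) hmem)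
      · exact ⟨σ, mem_alternatingGroup.mpr hsgn, ho, fun τ hτ h => hex ⟨τ, hτ, h⟩⟩
  · -- intransitive
    have hOlt : O.card < m := by
      have := Finset.card_lt_card (lt_of_le_of_ne (Finset.subset_univ O) htrans)
      simpa using this
    have hMstab : M ≤ stabilizer (Perm (Fin m)) O := by
      intro g hg
      refine Finset.eq_of_subset_of_card_le ?_ (Finset.card_smul_finset _ _).ge
      intro y hy
      obtain ⟨z, hz, rfl⟩ := Finset.mem_smul_finset.mp hy
      obtain ⟨g', rfl⟩ := (hmemO z).mp hz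
      exact (hmemO _).mpr ⟨⟨g, hg⟩ * g', mul_smul _ _ _⟩
    set k := Oᶜ.card with hkdef
    have hkO : k = m - O.card := by rw [hkdef, Finset.card_compl, Fintype.card_fin]
    have finish : ∀ σ ∈ A, ∀ q : ℕ, q.Prime → σ.cycleType = Multiset.replicate (m / q) q →
        orderOf σ = q → k < q → m % q < k → ∀ τ : Perm (Fin m), τ⁻¹ * σ * τ ∉ M := by
      intro σ _ q hq hσ ho hkq hmk τ hmem
      haveI := Fact.mk hq
      have h1 : (τ⁻¹ * σ * τ) • O = O := hMstab hmem
      rw [mul_smul, mul_smul, inv_smul_eq_iff] at h1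
      have hc : (τ • O)ᶜ.card = k := by
        rw [Finset.card_compl, Finset.card_smul_finset, hkdef, Finset.card_compl]
      refine not_invariant hσ ho (s := (τ • O)ᶜ) (by omega) (by omega) fun y => ?_
      have h2 : σ y ∈ τ • O ↔ y ∈ τ • O := by
        conv_lhs => rw [← h1]
        exact Finset.smul_mem_smul_finset_iff σ
      simpa [Finset.mem_compl] using not_congr h2
    have hsign : ∀ (σ : Perm (Fin m)) (q : ℕ), σ.cycleType = Multiset.replicate (m / q) q →
        Even (m / q * (q + 1)) → σ ∈ A := by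
      intro σ q hσ hev
      rw [hA, mem_alternatingGroup, sign_of_cycleType, hσ, Multiset.sum_replicate, Multiset.card_replicate,
        smul_eq_mul, show m / q * q + m / q = m / q * (q + 1) by ring]
      exact hev.neg_one_pow
    by_cases h6 : m = 6
    · subst h6
      have hp5 : p = 5 := by
        have h7 : p ≤ 6 := by omega
        interval_cases p <;> first | rfl | omega | (exfalso; revert hp; norm_num)
      subst hp5
      have hk1 : k = 1 := by omega
      obtain ⟨σ, hσ, ho⟩ := exists_full (m := 6) Nat.prime_three (by norm_num)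
      have hσA := hsign σ 3 hσ (by decide)
      have hr3 : r ≤ 3 := by omega
      by_cases hr2 : r = 2
      · exfalso
        haveI : Fact (Nat.Prime 3) := ⟨Nat.prime_three⟩
        have h3 : ¬ 3 ∣ M.relIndex A := fun h => by have := hmax 3 Nat.prime_three h; omega
        obtain ⟨τ, -, hmem⟩ := exists_conj_mem_of_sylow M hMA h3 hσA (j := 1)
          (by rw [pow_one, ← ho]; exact pow_orderOf_eq_one σ)
        exact finish σ hσA 3 Nat.prime_three hσ ho (by omega) (by omega) τ hmem
      · obtain rfl : r = 3 := by have := hr.two_le; omega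
        exact ⟨σ, hσA, ho, fun τ _ => finish σ hσA 3 Nat.prime_three hσ ho (by omega) (by omega) τ⟩
    have hO2 : 2 ≤ O.card := by have := hp.two_le; omega
    have hindex : M.relIndex A = m.choose k := by
      have hnA : ¬ A ≤ stabilizer (Perm (Fin m)) O := fun h => by
        have h1 := rel_choose hm O hO2
        rw [Subgroup.relIndex_eq_one.mpr h] at h1
        rcases Nat.choose_eq_one_iff.mp h1.symm with h2 | h2 <;> omega
      have hpres : ∀ π : Perm (Fin m), (∀ σ, σ ∈ M ↔ π * σ * π⁻¹ ∈ M) → π • O = O := by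
        intro π hπ
        obtain ⟨y, hy⟩ : (π • O ∩ O).Nonempty := by
          rw [← Finset.card_pos]
          have h1 := Finset.card_union_add_card_inter (π • O) O
          have h2 := Finset.card_le_univ (π • O ∪ O)
          rw [Fintype.card_fin] at h2
          rw [Finset.card_smul_finset] at h1
          omega
        obtain ⟨hy1, hy2⟩ := Finset.mem_inter.mp hy
        obtain ⟨z, hz, rfl⟩ := Finset.mem_smul_finset.mp hy1
        obtain ⟨gz, hgz⟩ := (hmemO z).mp hz
        obtain ⟨gy, hgy⟩ := (hmemO _).mp hy2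
        refine Finset.eq_of_subset_of_card_le ?_ (Finset.card_smul_finset _ _).ge
        intro u hu
        obtain ⟨w, hw, rfl⟩ := Finset.mem_smul_finset.mp hu
        obtain ⟨gw, hgw⟩ := (hmemO w).mp hw
        refine (hmemO _).mpr ⟨⟨π * ↑(gw * gz⁻¹) * π⁻¹, (hπ _).mp (gw * gz⁻¹).2⟩ * gy, ?_⟩
        show (_ * gy) • a = π • w
        rw [mul_smul]
        rw [show gy • a = π • z from hgy, Subgroup.smul_def]
        show (π * ↑(gw * gz⁻¹) * π⁻¹) • π • z = π • w
        rw [mul_smul, mul_smul, inv_smul_smul, ← hgz, ← hgw]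
        show π • ((gw * gz⁻¹) • gz • a) = π • gw • a
        rw [mul_smul, inv_smul_smul]
      have hle := hK h6 O hpres hMstab hnA
      have : M = stabilizer (Perm (Fin m)) O ⊓ A := le_antisymm (le_inf hMstab hMA) hle
      rw [this, Subgroup.inf_relIndex_right, hA, rel_choose hm O hO2, hkO, Nat.choose_symm hOlt.le]
    rw [hindex] at hrd hmax
    obtain ⟨q, hq, hkq, hqd⟩ := CfsgLib.Derangement.Sylv.exists_prime_gt_dvd_choose (n := m) (k := k)
      (by omega) (by omega)
    have hkr : k < r := lt_of_lt_of_le hkq (hmax q hq hqd)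
    have hmk : m % r < k := by
      by_contra h
      rw [not_lt] at h
      have hl := @Choose.choose_modEq_choose_mod_mul_choose_div_nat m k r _
      rw [Nat.mod_eq_of_lt hkr, Nat.div_eq_of_lt hkr, Nat.choose_zero_right, mul_one] at hl
      have h0 : r ∣ Nat.choose (m % r) k := by
        rw [Nat.dvd_iff_mod_eq_zero] at hrd ⊢
        exact Eq.trans (Nat.ModEq.symm hl) hrd
      have hlt : m % r < r := Nat.mod_lt _ hr.pos
      have : r ∣ Nat.factorial (m % r) := by
        rw [← Nat.choose_mul_factorial_mul_factorial h]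
        exact (h0.mul_right _).mul_right _
      have := (Nat.Prime.dvd_factorial hr).1 this
      omega
    obtain ⟨σ, hσ, ho⟩ := exists_full (m := m) hr (by omega)
    have hev : Even (m / r * (r + 1)) := by
      by_cases hr2 : r = 2
      · subst hr2
        have hk1 : k = 1 := by omega
        rw [hk1, Nat.choose_one_right] at hmax
        refine Even.mul_right ?_ _
        rcases Nat.even_or_odd (m / 2) with he | ho'
        · exact he
        · exfalso
          obtain ⟨s, hs, hsd⟩ := Nat.exists_prime_and_dvd (show m / 2 ≠ 1 by omega)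
          have hs2 := hmax s hs (hsd.trans (Nat.div_dvd_of_dvd (Nat.dvd_of_mod_eq_zero (by omega))))
          obtain rfl : s = 2 := le_antisymm hs2 hs.two_le
          rw [Nat.odd_iff] at ho'
          omega
      · exact ((hr.odd_of_ne_two hr2).add_one).mul_left _
    exact ⟨σ, hsign σ r hσ hev, ho, fun τ _ => finish σ (hsign σ r hσ hev) r hr hσ ho hkr hmk τ⟩


/-- Let G be an almost simple group whose socle is an alternating group of degree m ≥ 5 (G has a normal subgroup T isomorphic to that alternating group with trivial centralizer), acting faithfully and primitively on a finite set Ω with at least two points, and let r be the largest prime divisor of the number of points. Then G contains an element of order r fixing no point. -/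
theorem result {G Ω : Type*} [Group G] [Finite G] [MulAction G Ω] [FaithfulSMul G Ω] [Finite Ω]
    (T : Subgroup G) (hT : T.Normal) (hTc : Subgroup.centralizer (T : Set G) = ⊥) (m : ℕ) (hm : 5 ≤ m)
    (eT : ↥T ≃* ↥(alternatingGroup (Fin m))) (hprim : MulAction.IsPreprimitive G Ω) (hΩ : 2 ≤ Nat.card Ω)
    (r : ℕ) (hr : r.Prime) (hrd : r ∣ Nat.card Ω) (hmax : ∀ s : ℕ, s.Prime → s ∣ Nat.card Ω → s ≤ r) :
    ∃ g : G, orderOf g = r ∧ ∀ ω : Ω, g • ω ≠ ω := by
  classical
  haveI : Nonempty Ω := (Nat.card_pos_iff.mp (by omega)).1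
  haveI : Nontrivial Ω := Finite.one_lt_card_iff_nontrivial.mp (by omega)
  haveI := hprim
  obtain ⟨ω⟩ := ‹Nonempty Ω›
  set A := alternatingGroup (Fin m) with hA
  haveI : T.Normal := hT
  have hTfix : fixedPoints T Ω ≠ Set.univ := fun h => by
    have hA1 : Nat.card T = 1 := Nat.card_eq_one_iff_unique.mpr ⟨⟨fun s t => Subtype.ext (eq_of_smul_eq_smul
      (α := Ω) fun u => by
        have h1 : u ∈ fixedPoints T Ω := h ▸ Set.mem_univ u
        exact (h1 s).trans (h1 t).symm)⟩, inferInstance⟩
    have := card_alt hm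
    rw [← Nat.card_congr eT.toEquiv, hA1] at this
    have := Nat.self_le_factorial m
    omega
  haveI hTt : IsPretransitive T Ω := IsQuasiPreprimitive.isPretransitive_of_normal hTfix
  set ι : T →* Perm (Fin m) := A.subtype.comp eT.toMonoidHom with hι
  set H := stabilizer G ω with hH
  set M := (H.subgroupOf T).map ι with hM
  have hι_inj : Function.Injective ι := A.subtype_injective.comp eT.injective
  have hMA : M ≤ A := by rintro _ ⟨t, -, rfl⟩; exact (eT t).2
  have hrel : M.relIndex A = Nat.card Ω := by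
    have h1 : M.subgroupOf A = (H.subgroupOf T).map eT.toMonoidHom := by
      ext s
      simp only [Subgroup.mem_subgroupOf, hM, hι, Subgroup.mem_map, MonoidHom.coe_comp, Function.comp_apply,
        Subgroup.coe_subtype, MulEquiv.coe_toMonoidHom]
      exact ⟨fun ⟨t, ht, e⟩ => ⟨t, ht, Subtype.ext e⟩, fun ⟨t, ht, e⟩ => ⟨t, ht, congrArg _ e⟩⟩
    have h2 : H.subgroupOf T = stabilizer T ω := by ext t; rfl
    rw [Subgroup.relIndex, h1, Subgroup.index_map_of_bijective eT.bijective, h2, index_stabilizer_of_transitive T ω]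
  obtain ⟨σ, hσA, hσr, hσ⟩ := Cfsg.Agent.S3571.core hm hr M hMA (by rwa [hrel])
    (by rwa [hrel]) (by
      intro h6 O hpres hMs hnA
      set L : Subgroup G := ((stabilizer (Perm (Fin m)) O).comap ι).map T.subtype with hL
      have hconj : ∀ h ∈ H, ∃ π : Perm (Fin m), (∀ σ, σ ∈ M ↔ π * σ * π⁻¹ ∈ M) ∧
          ∀ t : T, ι (MulAut.conjNormal h t) = π * ι t * π⁻¹ := by
        intro h hh
        obtain ⟨π, hπ⟩ := (CfsgLib.Known.AltAut.bijective_conjNormal (n := m) (by omega) h6).2
          ((eT.symm.trans (MulAut.conjNormal h)).trans eT)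
        have hc : ∀ t : T, ι (MulAut.conjNormal h t) = π * ι t * π⁻¹ := fun t => by
          have := congrArg (fun φ : MulAut A => ((φ (eT t) : A) : Perm (Fin m))) hπ
          simp only [MulAut.conjNormal_apply, MulEquiv.trans_apply, MulEquiv.symm_apply_apply] at this
          exact this.symm
        have hiff : ∀ t : T, (t : G) ∈ H ↔ ((MulAut.conjNormal h t : T) : G) ∈ H := fun t => by
          rw [MulAut.conjNormal_apply, H.mul_mem_cancel_right (H.inv_mem hh), H.mul_mem_cancel_left hh]
        refine ⟨π, fun σ => ⟨?_, ?_⟩, hc⟩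
        · rintro ⟨t, ht, rfl⟩
          exact ⟨MulAut.conjNormal h t, (hiff t).mp ht, hc t⟩
        · rintro ⟨t, ht, e⟩
          refine ⟨(MulAut.conjNormal h).symm t, ?_, ?_⟩
          · show (((MulAut.conjNormal h).symm t : T) : G) ∈ H
            rw [hiff]
            simpa [Subgroup.mem_subgroupOf] using ht
          · have := hc ((MulAut.conjNormal h).symm t)
            rw [MulEquiv.apply_symm_apply, e] at this
            exact (mul_left_cancel (mul_right_cancel this)).symm
      have hHN : H ≤ Subgroup.normalizer (L : Set G) := by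
        have hfwd : ∀ h ∈ H, ∀ g ∈ L, h * g * h⁻¹ ∈ L := by
          rintro h hh _ ⟨t, ht, rfl⟩
          obtain ⟨π, hπM, hπc⟩ := hconj h hh
          refine ⟨MulAut.conjNormal h t, ?_, MulAut.conjNormal_apply h t⟩
          have hπO := hpres π hπM
          have ht' : ι t • O = O := ht
          show ι (MulAut.conjNormal h t) • O = O
          rw [hπc t, mul_smul, mul_smul, inv_smul_eq_iff.mpr hπO.symm, ht', hπO]
        intro h hh
        rw [Subgroup.mem_normalizer_iff]
        intro g
        refine ⟨hfwd h hh g, fun hg => ?_⟩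
        have := hfwd h⁻¹ (H.inv_mem hh) _ hg
        simpa [mul_assoc] using this
      have hco : IsCoatom H := IsPreprimitive.isCoatom_stabilizer_of_isPreprimitive G ω
      rcases hco.le_iff.mp hHN with hN | hN
      · haveI : L.Normal := Subgroup.normalizer_eq_top_iff.mp hN
        rcases hco.le_iff.mp (le_sup_left : H ≤ H ⊔ L) with hs | hs
        · exfalso
          refine hnA fun s hs' => ?_
          have hg : ((eT.symm ⟨s, hs'⟩ : T) : G) ∈ (↑(H ⊔ L) : Set G) := by rw [hs]; trivial
          rw [Subgroup.mul_normal] at hg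
          obtain ⟨h, hh, l, ⟨t, ht, rfl⟩, hmul⟩ := hg
          have hhT : h ∈ T := by
            have : h = ((eT.symm ⟨s, hs'⟩ * t⁻¹ : T) : G) := by
              rw [Subgroup.coe_mul, Subgroup.coe_inv, ← hmul]
              simp
            rw [this]; exact SetLike.coe_mem _
          have e : eT.symm ⟨s, hs'⟩ = (⟨h, hhT⟩ : T) * t := Subtype.ext hmul.symm
          have e2 : s = ι ⟨h, hhT⟩ * ι t := by
            rw [← map_mul, ← e]
            simp [hι]
          rw [e2]
          exact mul_mem (hMs ⟨⟨h, hhT⟩, hh, rfl⟩) ht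
        · rintro s ⟨hs1, hs2⟩
          refine ⟨eT.symm ⟨s, hs2⟩, ?_, by simp [hι]⟩
          have : ((eT.symm ⟨s, hs2⟩ : T) : G) ∈ L := ⟨_, show ι (eT.symm ⟨s, hs2⟩) ∈ stabilizer _ O by
            simpa [hι] using hs1, rfl⟩
          exact (hs.le : H ⊔ L ≤ H) (le_sup_right (a := H) this)
      · rintro s ⟨hs1, hs2⟩
        refine ⟨eT.symm ⟨s, hs2⟩, ?_, by simp [hι]⟩
        have : ((eT.symm ⟨s, hs2⟩ : T) : G) ∈ L := ⟨_, show ι (eT.symm ⟨s, hs2⟩) ∈ stabilizer _ O by
          simpa [hι] using hs1, rfl⟩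
        exact hN.le (Subgroup.le_normalizer this))
  refine ⟨((eT.symm ⟨σ, hσA⟩ : T) : G), ?_, fun u hu => ?_⟩
  · rw [Subgroup.orderOf_coe, MulEquiv.orderOf_eq, ← Subgroup.orderOf_coe]
    exact hσr
  obtain ⟨τ, rfl⟩ := exists_smul_eq T ω u
  refine hσ (ι τ) (eT τ).2 ⟨τ⁻¹ * eT.symm ⟨σ, hσA⟩ * τ, ?_, ?_⟩
  · show ((τ⁻¹ * eT.symm ⟨σ, hσA⟩ * τ : T) : G) ∈ stabilizer G ω
    rw [mem_stabilizer_iff, Subgroup.coe_mul, Subgroup.coe_mul, Subgroup.coe_inv, mul_smul, mul_smul,
      ← Subgroup.smul_def τ ω, hu, Subgroup.smul_def, inv_smul_smul]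
  · rw [map_mul, map_mul, map_inv]
    simp [hι]

end Cfsg.Agent.S3571
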