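import Cfsg.Statements.S3573

set_option autoImplicit false
open Cfsg

namespace Cfsg.Agent.S3573

theorem forall_fix_iff {n k r : ℕ} [hr : Fact r.Prime] (hrn : r ≤ n) (hkn : k ≤ n) :
    (∀ σ : Equiv.Perm (Fin n), orderOf σ = r → ∃ s : Finset (Fin n), s.card = k ∧ s.image σ = s) ↔
      k % r ≤ n % r := by
  classical
  constructor
  · intro h
    obtain ⟨σ, hσ⟩ := (Equiv.Perm.exists_with_cycleType_iff (α := Fin n)
      (m := Multiset.replicate (n / r) r)).2 ⟨by
        rw [Multiset.sum_replicate, smul_eq_mul, Fintype.card_fin]; exact Nat.div_mul_le_self n r,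
        fun a ha => by rw [Multiset.eq_of_mem_replicate ha]; exact hr.out.two_le⟩
    have hord : orderOf σ = r := by
      rw [← σ.lcm_cycleType, hσ]
      obtain ⟨j, hj⟩ : ∃ j, n / r = j + 1 :=
        ⟨n / r - 1, by have := Nat.div_pos hrn hr.out.pos; omega⟩
      rw [hj]
      refine Nat.dvd_antisymm (Multiset.lcm_dvd.2 fun b hb => ?_) (Multiset.dvd_lcm (by simp))
      rw [Multiset.eq_of_mem_replicate hb]
    obtain ⟨s, hs, himg⟩ := h σ hord
    have hmem : ∀ x, σ x ∈ s ↔ x ∈ s := fun x => by
      refine ⟨fun hx => ?_, fun hx => ?_⟩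
      · rw [← himg, Finset.mem_image] at hx
        obtain ⟨y, hy, e⟩ := hx
        rwa [σ.injective e] at hy
      · rw [← himg]; exact Finset.mem_image_of_mem σ hx
    let τ : Equiv.Perm {x // x ∈ s} := σ.subtypePerm fun x => hmem x
    have hτ : τ ^ r ^ 1 = 1 := by
      refine Equiv.ext fun x => Subtype.ext ?_
      rw [Equiv.Perm.subtypePerm_pow, Equiv.Perm.subtypePerm_apply, pow_one, Equiv.Perm.one_apply]
      show (σ ^ r) x = x
      rw [← hord, pow_orderOf_eq_one, Equiv.Perm.one_apply]
    have h1 := Equiv.Perm.card_compl_support_modEq hτ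
    rw [Fintype.card_coe, hs] at h1
    have h2 : τ.supportᶜ.card ≤ n % r := by
      have h3 : σ.supportᶜ.card = n % r := by
        rw [Finset.card_compl, ← σ.sum_cycleType, hσ, Multiset.sum_replicate, smul_eq_mul,
          Fintype.card_fin]
        have := Nat.div_add_mod n r
        rw [mul_comm] at this
        omega
      rw [← h3]
      refine Finset.card_le_card_of_injOn Subtype.val (fun x hx => ?_) Subtype.val_injective.injOn
      simp only [Finset.coe_compl, Set.mem_compl_iff, Finset.mem_coe, Finset.mem_compl,
        Equiv.Perm.mem_support, not_not] at hx ⊢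
      exact congrArg Subtype.val hx
    calc k % r = τ.supportᶜ.card % r := h1.symm
      _ ≤ τ.supportᶜ.card := Nat.mod_le _ _
      _ ≤ n % r := h2
  · intro hle σ hσ
    obtain ⟨c, hc⟩ := σ.cycleType_prime_order (hσ ▸ hr.out)
    rw [hσ] at hc
    have hcard : σ.cycleFactorsFinset.card = c + 1 := by
      have := congrArg Multiset.card hc
      rwa [Equiv.Perm.cycleType_def, Multiset.card_map, Multiset.card_replicate] at this
    have hsupp : ∀ τ ∈ σ.cycleFactorsFinset, τ.support.card = r := fun τ hτ => by
      have : (Finset.card ∘ Equiv.Perm.support) τ ∈ σ.cycleType := by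
        rw [Equiv.Perm.cycleType_def]; exact Multiset.mem_map_of_mem _ hτ
      rw [hc] at this
      exact Multiset.eq_of_mem_replicate this
    have hfix : σ.supportᶜ.card = n - (c + 1) * r := by
      rw [Finset.card_compl, ← σ.sum_cycleType, hc, Multiset.sum_replicate, smul_eq_mul,
        Fintype.card_fin]
    have htot : (c + 1) * r ≤ n := by
      have := σ.sum_cycleType_le
      rwa [hc, Multiset.sum_replicate, smul_eq_mul, Fintype.card_fin] at this
    set i := min (c + 1) (k / r)
    have hik : i * r ≤ k := (Nat.mul_le_mul_right r (min_le_right _ _)).trans (Nat.div_mul_le_self k r)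
    have hj : k - i * r ≤ σ.supportᶜ.card := by
      rw [hfix]
      have hk' := Nat.div_add_mod k r
      rw [mul_comm] at hk'
      rcases min_choice (c + 1) (k / r) with e | e
      · rw [show i = c + 1 from e]; omega
      · rw [show i = k / r from e]
        have hn' : (n - (c + 1) * r) % r = n % r := by
          conv_rhs => rw [← Nat.sub_add_cancel htot, Nat.add_mul_mod_self_right]
        have := Nat.mod_le (n - (c + 1) * r) r
        omega
    obtain ⟨T, hT, hTc⟩ := Finset.exists_subset_card_eq (show i ≤ σ.cycleFactorsFinset.card by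
      rw [hcard]; exact min_le_left _ _)
    obtain ⟨J, hJ, hJc⟩ := Finset.exists_subset_card_eq hj
    refine ⟨T.biUnion Equiv.Perm.support ∪ J, ?_, ?_⟩
    · have hdis : Disjoint (T.biUnion Equiv.Perm.support) J := by
        rw [Finset.disjoint_left]
        intro x hx hxJ
        obtain ⟨τ, hτ, hxτ⟩ := Finset.mem_biUnion.1 hx
        exact Finset.mem_compl.1 (hJ hxJ)
          (Equiv.Perm.mem_cycleFactorsFinset_support_le (hT hτ) hxτ)
      rw [Finset.card_union_of_disjoint hdis, hJc, Finset.card_biUnion,
        Finset.sum_congr rfl (fun τ hτ => hsupp τ (hT hτ)), Finset.sum_const, hTc, smul_eq_mul]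
      · omega
      · intro a ha b hb hab
        exact Equiv.Perm.disjoint_iff_disjoint_support.1
          (σ.cycleFactorsFinset_pairwise_disjoint (hT ha) (hT hb) hab)
    · refine Finset.eq_of_subset_of_card_le (fun y hy => ?_) (Finset.card_image_of_injective _ σ.injective).ge
      obtain ⟨x, hx, rfl⟩ := Finset.mem_image.1 hy
      rcases Finset.mem_union.1 hx with hx | hx
      · obtain ⟨τ, hτ, hxτ⟩ := Finset.mem_biUnion.1 hx
        refine Finset.mem_union_left _ (Finset.mem_biUnion.2 ⟨τ, hτ, ?_⟩)
        rw [← (Equiv.Perm.mem_cycleFactorsFinset_iff.1 (hT hτ)).2 x hxτ,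
          Equiv.Perm.apply_mem_support]
        exact hxτ
      · refine Finset.mem_union_right _ ?_
        have := Finset.mem_compl.1 (hJ hx)
        rw [Equiv.Perm.notMem_support] at this
        rwa [this]

/-- Let 1 ≤ k with 2k < n and consider the symmetric group of degree n acting on the k-subsets of an n-set. Let r be a prime dividing the number C(n,k) of k-subsets. If r is odd, then every permutation of order r fixes some k-subset if and only if r ≤ k and the remainder of k modulo r is at most the remainder of n modulo r. If r = 2, then every involution fixes some k-subset if and only if k is even or n is odd. -/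
theorem result (n k : ℕ) (hk : 1 ≤ k) (hkn : 2 * k < n) (r : ℕ) (hr : r.Prime) (hrd : r ∣ Nat.choose n k) :
    (r ≠ 2 → ((∀ σ : Equiv.Perm (Fin n), orderOf σ = r → ∃ s : Finset (Fin n), s.card = k ∧ s.image σ = s) ↔
      (r ≤ k ∧ k % r ≤ n % r))) ∧
    (r = 2 → ((∀ σ : Equiv.Perm (Fin n), orderOf σ = 2 → ∃ s : Finset (Fin n), s.card = k ∧ s.image σ = s) ↔
      (Even k ∨ Odd n))) := by
  haveI := Fact.mk hr
  have hrn : r ≤ n := by
    by_contra h
    have : r ∣ Nat.factorial n := by
      rw [← Nat.choose_mul_factorial_mul_factorial (show k ≤ n by omega)]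
      exact (hrd.mul_right _).mul_right _
    exact h ((Nat.Prime.dvd_factorial hr).1 this)
  have hiff := forall_fix_iff (k := k) hrn (by omega)
  constructor
  · intro _
    rw [hiff]
    refine ⟨fun h => ⟨?_, h⟩, fun h => h.2⟩
    by_contra hkr
    have hk' : k % r = k := Nat.mod_eq_of_lt (by omega)
    have hl := @Choose.choose_modEq_choose_mod_mul_choose_div_nat n k r _
    rw [hk', Nat.div_eq_of_lt (by omega : k < r), Nat.choose_zero_right, mul_one] at hl
    have h0 : r ∣ Nat.choose (n % r) k := by
      rw [Nat.dvd_iff_mod_eq_zero] at hrd ⊢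
      exact Eq.trans (Nat.ModEq.symm hl) hrd
    have hlt : n % r < r := Nat.mod_lt _ hr.pos
    have : r ∣ Nat.factorial (n % r) := by
      rw [← Nat.choose_mul_factorial_mul_factorial (hk' ▸ h)]
      exact (h0.mul_right _).mul_right _
    have := (Nat.Prime.dvd_factorial hr).1 this
    omega
  · rintro rfl
    rw [hiff, Nat.even_iff, Nat.odd_iff]
    omega

end Cfsg.Agent.S3573
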