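import Cfsg.Statements.S3575

set_option autoImplicit false
open Cfsg

namespace Cfsg.Agent.S3575

open Equiv Equiv.Perm Finset

theorem sum_split {β : Type*} [DecidableEq β] (S : Finset β) (q : ℕ) :
    ∀ C, C ≤ S.card * q → ∃ c : β → ℕ, (∀ j, c j ≤ q) ∧ (∀ j ∉ S, c j = 0) ∧ ∑ j ∈ S, c j = C := by
  induction S using Finset.induction with
  | empty =>
    intro C hC
    exact ⟨fun _ => 0, by simp, by simp, by simp at hC; simp [hC]⟩
  | @insert x S hx ih =>
    intro C hC
    rw [card_insert_of_notMem hx, add_mul, one_mul] at hC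
    obtain ⟨c, h1, h2, h3⟩ := ih (C - min C q) (by omega)
    refine ⟨Function.update c x (min C q), ?_, ?_, ?_⟩
    · intro j
      by_cases hj : j = x
      · subst hj; simp
      · simpa [hj] using h1 j
    · intro j hj
      simp only [mem_insert, not_or] at hj
      simpa [hj.1] using h2 j hj.2
    · rw [sum_insert hx, Function.update_self]
      have : ∀ j ∈ S, Function.update c x (min C q) j = c j := fun j hj =>
        Function.update_of_ne (ne_of_mem_of_not_mem hj hx) _ _
      rw [sum_congr rfl this, h3]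
      omega

/-- the support of a permutation killed by the prime `r` has cardinality divisible by `r` -/
theorem dvd_support {α : Type*} [Fintype α] [DecidableEq α] {r : ℕ} [Fact r.Prime]
    {σ : Perm α} (h : σ ^ r = 1) : r ∣ σ.support.card := by
  have h' := card_compl_support_modEq (p := r) (n := 1) (σ := σ) (by simpa using h)
  rw [card_compl] at h'
  have hle : σ.support.card ≤ Fintype.card α := card_le_univ _
  have := (Nat.modEq_iff_dvd' (Nat.sub_le _ _)).mp h'
  rwa [Nat.sub_sub_self hle] at this

theorem isConj_of_support {α : Type*} [Fintype α] [DecidableEq α] {r : ℕ} (hr : r.Prime)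
    {σ τ : Perm α} (hσ : σ ^ r = 1) (hτ : τ ^ r = 1)
    (h : σ.support.card = τ.support.card) : IsConj σ τ := by
  have key : ∀ ρ : Perm α, ρ ^ r = 1 → ρ.cycleType = Multiset.replicate (ρ.support.card / r) r := by
    intro ρ hρ
    have hall : ∀ n ∈ ρ.cycleType, n = r := by
      intro n hn
      have h1 : n ∣ orderOf ρ := dvd_of_mem_cycleType hn
      have h2 : orderOf ρ ∣ r := orderOf_dvd_of_pow_eq_one hρ
      rcases (Nat.dvd_prime hr).mp (h1.trans h2) with h3 | h3
      · have := two_le_of_mem_cycleType hn; omega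
      · exact h3
    have heq := Multiset.eq_replicate_card.mpr hall
    have hsum := sum_cycleType ρ
    rw [heq, Multiset.sum_replicate, smul_eq_mul] at hsum
    rw [← hsum, Nat.mul_div_cancel _ hr.pos]
    exact heq
  rw [isConj_iff_cycleType_eq, key σ hσ, key τ hτ, h]

theorem exists_perm {α : Type*} [Fintype α] [DecidableEq α] {r : ℕ} (hr : r.Prime) (s : ℕ)
    (h : r * s ≤ Fintype.card α) : ∃ σ : Perm α, σ ^ r = 1 ∧ σ.support.card = r * s := by
  obtain ⟨σ, hσ⟩ := (exists_with_cycleType_iff α (m := Multiset.replicate s r)).mpr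
    ⟨by rw [Multiset.sum_replicate, smul_eq_mul, mul_comm]; exact h,
      fun x hx => (Multiset.eq_of_mem_replicate hx) ▸ hr.two_le⟩
  refine ⟨σ, orderOf_dvd_iff_pow_eq_one.mp ?_, ?_⟩
  · rw [← lcm_cycleType, hσ]
    exact Multiset.lcm_dvd.mpr fun x hx => (Multiset.eq_of_mem_replicate hx) ▸ dvd_rfl
  · rw [← sum_cycleType, hσ, Multiset.sum_replicate, smul_eq_mul, mul_comm]

/-- `σ` fixes a uniform partition into `b` parts of size `a` -/
def FixesUP (a b : ℕ) (σ : Perm (Fin (a * b))) : Prop :=
  ∃ f : Fin (a * b) → Fin b, (∀ j : Fin b, Nat.card {x : Fin (a * b) // f x = j} = a) ∧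
    ∃ π : Equiv.Perm (Fin b), ∀ x : Fin (a * b), f (σ x) = π (f x)

/-- the admissible numbers of cycles -/
def Covered (a b r s : ℕ) : Prop := ∃ t, r * t ≤ b ∧ t * a ≤ s ∧ s ≤ t * a + (b - r * t) * (a / r)

theorem covered_of_fixes {a b r : ℕ} (ha : 2 ≤ a) (hr : r.Prime) {σ : Perm (Fin (a * b))}
    (hσ : σ ^ r = 1) (s : ℕ) (hs : σ.support.card = r * s) (h : FixesUP a b σ) :
    Covered a b r s := by
  have := Fact.mk hr
  obtain ⟨f, hf, π, hπ⟩ := h
  have hfc : ∀ j, (univ.filter fun x => f x = j).card = a := fun j => by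
    rw [← Fintype.card_subtype, ← Nat.card_eq_fintype_card, hf j]
  have hsurj : Function.Surjective f := fun j => by
    have h1 : (univ.filter fun x => f x = j).Nonempty := by
      rw [← card_pos, hfc]; omega
    obtain ⟨x, hx⟩ := h1
    exact ⟨x, (mem_filter.mp hx).2⟩
  have hpow : ∀ (n : ℕ) x, f ((σ ^ n) x) = (π ^ n) (f x) := by
    intro n
    induction n with
    | zero => simp
    | succ n ih => intro x; rw [pow_succ', pow_succ', Perm.mul_apply, Perm.mul_apply, hπ, ih]
  have hπr : π ^ r = 1 := by
    ext j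
    obtain ⟨x, rfl⟩ := hsurj j
    rw [← hpow, hσ]; rfl
  obtain ⟨t, ht⟩ := dvd_support hπr
  have hfix : ∀ j ∉ π.support, r ∣ (σ.support.filter fun x => f x = j).card ∧
      (σ.support.filter fun x => f x = j).card ≤ a := by
    intro j hj
    rw [notMem_support] at hj
    refine ⟨?_, ?_⟩
    · have hinv : ∀ x, f (σ x) = j ↔ f x = j := fun x => by
        rw [hπ]; exact ⟨fun h => π.injective (h.trans hj.symm), fun h => h ▸ hj⟩
      have h1 := dvd_support (r := r) (σ := σ.subtypePerm (p := fun x => f x = j) hinv)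
        (by rw [subtypePerm_pow]; ext x; simp [hσ])
      convert h1 using 1
      refine (Finset.card_bij (fun (x : {x : Fin (a * b) // f x = j}) _ => x.1) ?_ ?_ ?_).symm
      · intro x hx
        rw [mem_support] at hx
        rw [mem_filter, mem_support]
        exact ⟨fun h => hx (Subtype.ext h), x.2⟩
      · intro x _ y _ h; exact Subtype.ext h
      · intro x hx
        rw [mem_filter, mem_support] at hx
        exact ⟨⟨x, hx.2⟩, by rw [mem_support]; exact fun h => hx.1 (congrArg Subtype.val h), rfl⟩
    · calc _ ≤ (univ.filter fun x => f x = j).card :=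
            card_le_card (filter_subset_filter _ (subset_univ _))
        _ = a := hfc j
  have hmov : ∀ j ∈ π.support, (σ.support.filter fun x => f x = j).card = a := by
    intro j hj
    rw [mem_support] at hj
    refine Eq.trans (congrArg Finset.card ?_) (hfc j)
    ext x
    simp only [mem_filter, mem_support, mem_univ, true_and, and_iff_right_iff_imp]
    intro hx h
    exact hj (by rw [← hx, ← hπ, h])
  have hsum : σ.support.card = ∑ j : Fin b, (σ.support.filter fun x => f x = j).card :=
    card_eq_sum_card_fiberwise (fun x _ => mem_univ _)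
  rw [← sum_add_sum_compl π.support, sum_congr rfl hmov, sum_const, smul_eq_mul, ht, hs] at hsum
  have hcompl : π.supportᶜ.card = b - r * t := by rw [card_compl, ht, Fintype.card_fin]
  have hle : ∑ j ∈ π.supportᶜ, (σ.support.filter fun x => f x = j).card ≤
      (b - r * t) * (r * (a / r)) := by
    rw [← hcompl]
    refine sum_le_card_nsmul _ _ _ fun j hj => ?_
    rw [mem_compl] at hj
    obtain ⟨⟨c, hc⟩, hca⟩ := hfix j hj
    rw [hc] at hca ⊢
    exact Nat.mul_le_mul_left _ ((Nat.le_div_iff_mul_le hr.pos).mpr (by rw [mul_comm]; exact hca))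
  refine ⟨t, ?_, ?_, ?_⟩
  · rw [← ht]; simpa using card_le_univ π.support
  · refine Nat.le_of_mul_le_mul_left ?_ hr.pos
    rw [hsum, ← mul_assoc]; exact Nat.le_add_right _ _
  · refine Nat.le_of_mul_le_mul_left ?_ hr.pos
    rw [hsum]
    calc _ ≤ r * t * a + (b - r * t) * (r * (a / r)) := Nat.add_le_add_left hle _
      _ = _ := by ring

theorem fixes_of_covered {a b r : ℕ} (hr : r.Prime) {σ : Perm (Fin (a * b))}
    (hσ : σ ^ r = 1) (s : ℕ) (hs : σ.support.card = r * s) (h : Covered a b r s) :
    FixesUP a b σ := by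
  obtain ⟨t, htb, h1, h2⟩ := h
  obtain ⟨π, hπ, hπc⟩ := exists_perm (α := Fin b) hr t (by simpa using htb)
  obtain ⟨c, hcq, hc0, hcs⟩ := sum_split π.supportᶜ (a / r) (s - t * a)
    (by rw [card_compl, hπc, Fintype.card_fin]; omega)
  have hex : ∀ j : Fin b, ∃ τ : Perm (Fin a), τ ^ r = 1 ∧ τ.support.card = r * c j := fun j =>
    exists_perm hr _ (by
      rw [Fintype.card_fin]
      exact le_trans (Nat.mul_le_mul_left _ (hcq j)) (Nat.mul_div_le a r))
  choose τ hτ hτc using hex
  have hτ1 : ∀ j ∈ π.support, τ j = 1 := fun j hj => by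
    rw [← support_eq_empty_iff, ← card_eq_zero, hτc, hc0 j (by simpa using hj), mul_zero]
  let σ₀ : Perm (Fin b × Fin a) :=
    (prodCongrRight τ).trans (prodCongrLeft fun _ => π)
  have h0 : ∀ j i, σ₀ (j, i) = (π j, τ j i) := fun j i => rfl
  have hσ₀ : σ₀ ^ r = 1 := by
    ext1 ⟨j, i⟩
    by_cases hj : j ∈ π.support
    · have key : ∀ n, (σ₀ ^ n) (j, i) = ((π ^ n) j, i) := by
        intro n
        induction n with
        | zero => rfl
        | succ n ih =>
          rw [pow_succ', Perm.mul_apply, ih, h0, hτ1 _ (pow_apply_mem_support.mpr hj), pow_succ',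
            Perm.mul_apply]
          rfl
      rw [key, hπ]; rfl
    · have hj' := notMem_support.mp hj
      have key : ∀ n, (σ₀ ^ n) (j, i) = (j, (τ j ^ n) i) := by
        intro n
        induction n with
        | zero => rfl
        | succ n ih => rw [pow_succ', Perm.mul_apply, ih, h0, hj', pow_succ', Perm.mul_apply]
      rw [key, hτ]; rfl
  have hσ₀c : σ₀.support.card = r * s := by
    have hfib : ∀ j, (σ₀.support.filter fun x => x.1 = j).card =
        if j ∈ π.support then a else r * c j := by
      intro j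
      split_ifs with hj
      · have : (σ₀.support.filter fun x => x.1 = j) = {j} ×ˢ (univ : Finset (Fin a)) := by
          ext ⟨x, i⟩
          simp only [mem_filter, mem_support, mem_product, mem_singleton, mem_univ, and_true]
          refine ⟨fun h => h.2, ?_⟩
          rintro rfl
          exact ⟨fun h => mem_support.mp hj (congrArg Prod.fst h), rfl⟩
        rw [this]; simp
      · have hj' := notMem_support.mp hj
        have : (σ₀.support.filter fun x => x.1 = j) = {j} ×ˢ (τ j).support := by
          ext ⟨x, i⟩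
          simp only [mem_filter, mem_support, mem_product, mem_singleton]
          constructor
          · rintro ⟨h, rfl⟩
            exact ⟨rfl, fun hh => h (by rw [h0, hj', hh])⟩
          · rintro ⟨rfl, h⟩
            exact ⟨fun hh => h (congrArg Prod.snd hh), rfl⟩
        rw [this, card_product, card_singleton, hτc, one_mul]
    rw [card_eq_sum_card_fiberwise (f := Prod.fst) (t := univ) (fun x _ => mem_univ _),
      sum_congr rfl (fun j _ => hfib j), sum_ite, sum_const, smul_eq_mul, ← mul_sum]
    have e1 : (univ.filter fun j => j ∈ π.support) = π.support := by ext; simp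
    have e2 : (univ.filter fun j => ¬ j ∈ π.support) = π.supportᶜ := by ext; simp
    rw [e1, e2, hπc, hcs, mul_assoc, ← mul_add]
    congr 1
    omega
  let e : Fin b × Fin a ≃ Fin (a * b) :=
    (Equiv.prodComm _ _).trans finProdFinEquiv
  have h1' : (e.permCongr σ₀) ^ r = 1 := by
    rw [← Equiv.permCongrHom_coe, ← map_pow, hσ₀, map_one]
  have h2' : (e.permCongr σ₀).support.card = r * s := by
    rw [← hσ₀c]
    refine (Finset.card_bij (fun x _ => e x) ?_ ?_ ?_).symm
    · intro x hx; simpa using hx
    · intro x _ y _ h; exact e.injective h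
    · intro y hy
      refine ⟨e.symm y, ?_, e.apply_symm_apply y⟩
      rw [mem_support] at hy ⊢
      intro h
      apply hy
      rw [permCongr_apply, h, e.apply_symm_apply]
  obtain ⟨g, hg⟩ := isConj_iff.mp (isConj_of_support hr h1' hσ (h2'.trans hs.symm))
  refine ⟨fun x => (e.symm (g⁻¹ x)).1, fun j => ?_, π, fun x => ?_⟩
  · let E : {x // (e.symm (g⁻¹ x)).1 = j} ≃ Fin a :=
      { toFun := fun x => (e.symm (g⁻¹ x.1)).2
        invFun := fun i => ⟨g (e (j, i)), by simp⟩
        left_inv := fun x => by
          apply Subtype.ext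
          obtain ⟨x, hx⟩ := x
          subst hx
          simp
        right_inv := fun i => by simp }
    rw [Nat.card_congr E, Nat.card_fin]
  · have : g⁻¹ (σ x) = e.permCongr σ₀ (g⁻¹ x) := by
      rw [← hg]; simp [Perm.mul_apply]
    show (e.symm (g⁻¹ (σ x))).1 = π (e.symm (g⁻¹ x)).1
    rw [this, permCongr_apply, e.symm_apply_apply]
    rfl

theorem all_covered_iff (a b r : ℕ) (ha : 2 ≤ a) (hb : 2 ≤ b) (hr : r.Prime) (hle : r ≤ a * b) :
    (∀ s, 1 ≤ s → r * s ≤ a * b → Covered a b r s) ↔
      (r ≤ a ∧ (a % r = 0 ∨ (b % r = 0 ∧ a % r = 1) ∨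
        (a % r ≠ 0 ∧ b % r ≠ 0 ∧ (b % r) * (a % r) < r ∧
          (b < r ∨ (b % r + r) * (a % r) ≤ (b % r) * a + r)))) := by
  have hr0 := hr.pos
  set q := a / r with hq
  set l := a % r with hl
  set T := b / r with hT
  set k := b % r with hk
  have hea : a = r * q + l := (Nat.div_add_mod a r).symm
  have heb : b = r * T + k := (Nat.div_add_mod b r).symm
  have hkr : k < r := Nat.mod_lt _ hr0
  have hlr : l < r := Nat.mod_lt _ hr0
  have hab : a * b = r * (b * q + T * l) + k * l := by
    calc a * b = (r * q + l) * b := by rw [← hea]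
      _ = r * q * b + l * (r * T + k) := by rw [← heb]; ring
      _ = _ := by ring
  have htop : ∀ t, r * t ≤ b → t * a + (b - r * t) * q = b * q + t * l := by
    intro t ht
    obtain ⟨m, hm⟩ := Nat.exists_eq_add_of_le ht
    rw [hm, Nat.add_sub_cancel_left, hea]
    ring
  have htT : ∀ t, r * t ≤ b ↔ t ≤ T := fun t => by
    rw [hT, Nat.le_div_iff_mul_le hr0, mul_comm]
  -- the condition in simplified form
  have hcond : (r ≤ a ∧ (l = 0 ∨ (k = 0 ∧ l = 1) ∨ (l ≠ 0 ∧ k ≠ 0 ∧ k * l < r ∧
        (b < r ∨ (k + r) * l ≤ k * a + r)))) ↔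
      (r ≤ a ∧ k * l < r ∧ (T = 0 ∨ l ≤ k * q + 1)) := by
    have e1 : (k + r) * l ≤ k * a + r ↔ l ≤ k * q + 1 := by
      have : k * a + r = k * l + r * (k * q + 1) := by rw [hea]; ring
      rw [this, add_mul]
      exact ⟨fun h => Nat.le_of_mul_le_mul_left (Nat.le_of_add_le_add_left h) hr0,
        fun h => Nat.add_le_add_left (Nat.mul_le_mul_left _ h) _⟩
    have e2 : b < r ↔ T = 0 := by
      rw [hT, Nat.div_eq_zero_iff]
      constructor
      · intro h; exact Or.inr h
      · rintro (h | h) <;> omega
    rw [e1, e2]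
    refine and_congr_right fun _ => ⟨?_, ?_⟩
    · rintro (h | ⟨h, h'⟩ | ⟨_, _, h, h'⟩)
      · simp [h, hr0]
      · simp [h, h', hr0]
      · exact ⟨h, h'⟩
    · rintro ⟨h, h'⟩
      by_cases hl0 : l = 0
      · exact Or.inl hl0
      by_cases hk0 : k = 0
      · refine Or.inr (Or.inl ⟨hk0, ?_⟩)
        rcases h' with h' | h'
        · exfalso
          rw [hk0, h'] at heb
          simp at heb
          omega
        · rw [hk0] at h'; simp at h'; omega
      · exact Or.inr (Or.inr ⟨hl0, hk0, h, h'⟩)
  rw [hcond]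
  clear_value q l T k
  constructor
  · intro H
    have hra : r ≤ a := by
      by_contra hlt
      obtain ⟨t, -, h1, h2⟩ := H 1 le_rfl (by simpa using hle)
      rw [Nat.div_eq_of_lt (not_le.mp hlt)] at h2
      rcases t with _ | t
      · simp at h2
      · rw [add_mul] at h1; omega
    have hq1 : 1 ≤ q := hq ▸ (Nat.le_div_iff_mul_le hr0).mpr (by simpa using hra)
    refine ⟨hra, ?_, ?_⟩
    · by_contra hge
      obtain ⟨t, ht, -, h2⟩ := H (b * q + T * l + 1) (by omega)
        (by rw [hab, Nat.mul_succ]; omega)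
      rw [← hq, htop t ht] at h2
      have := Nat.mul_le_mul_right l ((htT t).mp ht)
      omega
    · by_contra hc
      simp only [not_or] at hc
      obtain ⟨T', hT'⟩ : ∃ T', T = T' + 1 := ⟨T - 1, by omega⟩
      have hTb : r * T ≤ b := (htT T).mpr le_rfl
      have hTa : 2 ≤ T * a := le_trans ha (Nat.le_mul_of_pos_left _ (by omega))
      obtain ⟨t, ht, h1, h2⟩ := H (T * a - 1) (by omega) (by
        calc r * (T * a - 1) ≤ r * T * a := by
              rw [mul_assoc]; exact Nat.mul_le_mul_left _ (Nat.sub_le _ _)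
          _ ≤ b * a := Nat.mul_le_mul_right _ hTb
          _ = a * b := mul_comm _ _)
      rw [← hq, htop t ht] at h2
      have htl : t < T := by
        by_contra hge
        have := Nat.mul_le_mul_right a (not_lt.mp hge)
        omega
      have h3 : t * l ≤ T' * l := Nat.mul_le_mul_right _ (by omega)
      have h4 : T * a + k * q = b * q + T' * l + l := by rw [heb, hea, hT']; ring
      omega
  · rintro ⟨hra, hkl, hgap⟩ s hs1 hs
    have hsle : s ≤ b * q + T * l := by
      by_contra hgt
      have := Nat.mul_le_mul_left r (not_le.mp hgt : b * q + T * l + 1 ≤ s)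
      rw [hab] at hs
      rw [Nat.mul_succ] at this
      omega
    by_cases hcase : T * a ≤ s
    · exact ⟨T, (htT T).mpr le_rfl, hcase, by rw [← hq, htop T ((htT T).mpr le_rfl)]; exact hsle⟩
    · set t := s / a with ht
      have h1 : t * a ≤ s := Nat.div_mul_le_self _ _
      have h2 : s < (t + 1) * a := by
        rw [mul_comm]; exact Nat.lt_mul_div_succ s (by omega)
      clear_value t
      have htl : t < T := by
        by_contra hge
        exact hcase (le_trans (Nat.mul_le_mul_right a (not_lt.mp hge)) h1)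
      obtain ⟨d, hd⟩ := Nat.exists_eq_add_of_le (show t + 1 ≤ T from htl)
      have htb : r * t ≤ b := (htT t).mpr htl.le
      refine ⟨t, htb, h1, ?_⟩
      rw [← hq, htop t htb]
      have h3 : (t + 1) * a + (d * r * q + k * q) = b * q + t * l + l := by
        rw [heb, hea, hd]; ring
      rcases hgap with h | h
      · omega
      · omega

theorem le_of_dvd_card (a b r : ℕ) (ha : 2 ≤ a) (hr : r.Prime)
    (hrd : r ∣ (a * b).factorial / (a.factorial ^ b * b.factorial)) : r ≤ a * b := by
  have h := Nat.uniformBell_mul_eq b (show a ≠ 0 by omega)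
  rw [mul_comm b a] at h
  have hdvd : a.factorial ^ b * b.factorial ∣ (a * b).factorial := ⟨Nat.uniformBell b a, by rw [← h]; ring⟩
  have : r ∣ (a * b).factorial := hrd.trans (Nat.div_dvd_of_dvd hdvd)
  exact hr.dvd_factorial.mp this

/-- Let a, b ≥ 2 and consider the symmetric group of degree a·b acting on the partitions of an (a·b)-set into b parts of size a (encoded as maps onto a b-element set all of whose fibres have a elements; a permutation fixes such a partition when it permutes the fibres). Let r be a prime dividing the number (ab)!/((a!)^b·b!) of such partitions, and let ℓ and k be the remainders of a and b modulo r. Then every permutation of order r fixes some such partition if and only if r ≤ a and one of the following holds: ℓ = 0; or k = 0 and ℓ = 1; or ℓ and k are non-zero, k·ℓ < r, and either b < r or (k + r)·ℓ ≤ k·a + r. -/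
theorem result (a b : ℕ) (ha : 2 ≤ a) (hb : 2 ≤ b) (r : ℕ) (hr : r.Prime)
    (hrd : r ∣ (a * b).factorial / (a.factorial ^ b * b.factorial)) :
    (∀ σ : Equiv.Perm (Fin (a * b)), orderOf σ = r →
        ∃ f : Fin (a * b) → Fin b, (∀ j : Fin b, Nat.card {x : Fin (a * b) // f x = j} = a) ∧
          ∃ π : Equiv.Perm (Fin b), ∀ x : Fin (a * b), f (σ x) = π (f x)) ↔
      (r ≤ a ∧ (a % r = 0 ∨ (b % r = 0 ∧ a % r = 1) ∨
        (a % r ≠ 0 ∧ b % r ≠ 0 ∧ (b % r) * (a % r) < r ∧ (b < r ∨ (b % r + r) * (a % r) ≤ (b % r) * a + r)))) := by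
  have := Fact.mk hr
  have hle := le_of_dvd_card a b r ha hr hrd
  rw [← all_covered_iff a b r ha hb hr hle]
  constructor
  · intro H s hs1 hs
    obtain ⟨σ, h1, h2⟩ := exists_perm (α := Fin (a * b)) hr s (by simpa using hs)
    refine covered_of_fixes ha hr h1 s h2 (H σ (orderOf_eq_prime h1 ?_))
    intro h
    rw [h, support_one, card_empty] at h2
    have := Nat.mul_pos hr.pos hs1
    omega
  · intro H σ hσ
    have h1 : σ ^ r = 1 := hσ ▸ pow_orderOf_eq_one σ
    obtain ⟨s, hs⟩ := dvd_support h1
    refine fixes_of_covered hr h1 s hs (H s ?_ ?_)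
    · rcases Nat.eq_zero_or_pos s with h0 | h0
      · exfalso
        rw [h0, mul_zero, card_eq_zero, support_eq_empty_iff] at hs
        rw [hs, orderOf_one] at hσ
        exact hr.one_lt.ne hσ
      · exact h0
    · rw [← hs]; simpa using card_le_univ σ.support

end Cfsg.Agent.S3575
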