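import Cfsg.Statements.S3580
import Cfsg.Agent.Lib.SylowFix.Main

set_option autoImplicit false
open Cfsg

namespace Cfsg.Agent.S3580

/-- Let G act faithfully and transitively on a finite set Ω, let p be an odd prime dividing the order of G and P a Sylow p-subgroup of G. Then the number of orbits of P on Ω is at most (p/(2p − 1))·(number of points). -/
theorem result {G Ω : Type*} [Group G] [Finite G] [MulAction G Ω] [FaithfulSMul G Ω] [Finite Ω]
    (htrans : MulAction.IsPretransitive G Ω) (p : ℕ) [Fact p.Prime] (hp2 : p ≠ 2) (hpG : p ∣ Nat.card G)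
    (P : Sylow p G) :
    (2 * p - 1) * Nat.card (MulAction.orbitRel.Quotient ↥(P : Subgroup G) Ω) ≤ p * Nat.card Ω := by
  classical
  have := htrans
  have hP : ∃ x : Ω, ¬ (P : Subgroup G) ≤ MulAction.stabilizer G x := by
    by_contra hall
    push Not at hall
    refine P.ne_bot_of_dvd_card hpG ((Subgroup.eq_bot_iff_forall _).2 fun g hg => ?_)
    exact eq_of_smul_eq_smul fun x : Ω => by
      rw [MulAction.mem_stabilizer_iff.1 (hall x hg), one_smul]
  obtain ⟨x, hx⟩ := hP
  let H := MulAction.stabilizer G x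
  let e : G ⧸ H ≃ Ω := Equiv.ofBijective (MulAction.ofQuotientStabilizer G x)
    ⟨MulAction.injective_ofQuotientStabilizer G x, fun y => by
      obtain ⟨k, hk⟩ := MulAction.exists_smul_eq G x y
      exact ⟨(k : G ⧸ H), hk⟩⟩
  have he : ∀ (k : G) (y : G ⧸ H), e (k • y) = k • e y := fun k y =>
    MulAction.ofQuotientStabilizer_smul G x k y
  have hx' : ¬ (P : Subgroup G) ≤ MulAction.stabilizer G (e.symm x) := fun hle => hx fun k hk => by
    rw [MulAction.mem_stabilizer_iff]
    conv_lhs => rw [← e.apply_symm_apply x]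
    rw [← he, MulAction.mem_stabilizer_iff.1 (hle hk), e.apply_symm_apply]
  have hb := CfsgLib.SylowFix.orbit_count_bound P hx'
  have hq : Nat.card (MulAction.orbitRel.Quotient (P : Subgroup G) (G ⧸ H)) =
      Nat.card (MulAction.orbitRel.Quotient (P : Subgroup G) Ω) := by
    refine Nat.card_congr (Quotient.congr e fun y z => ?_)
    simp only [MulAction.orbitRel_apply, MulAction.mem_orbit_iff]
    constructor
    · rintro ⟨k, rfl⟩
      exact ⟨k, (he k.1 z).symm⟩
    · rintro ⟨k, hk⟩
      exact ⟨k, e.injective ((he k.1 z).trans hk)⟩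
  calc _ = (2 * p - 1) * Nat.card (MulAction.orbitRel.Quotient (P : Subgroup G) (G ⧸ H)) :=
        congrArg _ hq.symm
    _ ≤ _ := hb.trans (le_of_eq (congrArg _ (Nat.card_congr e)))

end Cfsg.Agent.S3580
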