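import Cfsg.Statements.S3599
import Cfsg.Agent.Lib.Spectrum.Frobenius

set_option autoImplicit false
open Cfsg

namespace Cfsg.Agent.S3599

open CfsgLib.Spectrum

/-- The minimal Frobenius group of orders `1, k, r`. -/
theorem exists_frob (k r : ℕ) (hk : k.Prime) (hr : r.Prime) (hne : k ≠ r) :
    ∃ (F : Type) (_ : Group F) (_ : Finite F) (f : ℕ),
      f ≠ 0 ∧ r ∣ k ^ f - 1 ∧ Nat.card F = k ^ f * r ∧
      (∀ d, (∃ x : F, orderOf x = d) ↔ d = 1 ∨ d = k ∨ d = r) ∧
      (∀ H : Subgroup F, k ∣ Nat.card H → r ∣ Nat.card H → H = ⊤) ∧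
      (∀ N : Subgroup F, N.Normal → N ≠ ⊥ → k ^ f ∣ Nat.card N) := by
  haveI := Fact.mk hk
  haveI := Fact.mk hr
  set f := orderOf (k : ZMod r) with hf
  have hk0 : (k : ZMod r) ≠ 0 := fun h => hne ((Nat.prime_dvd_prime_iff_eq hr hk).1 ((ZMod.natCast_eq_zero_iff k r).1 h)).symm
  have hf0 : f ≠ 0 := by
    rw [hf]
    exact (orderOf_pos_iff.2 (isOfFinOrder_iff_pow_eq_one.2
      ⟨r - 1, by have := hr.two_le; omega, ZMod.pow_card_sub_one_eq_one hk0⟩)).ne'
  have hdiv : ∀ e : ℕ, r ∣ k ^ e - 1 ↔ f ∣ e := by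
    intro e
    rw [hf, orderOf_dvd_iff_pow_eq_one, ← ZMod.natCast_eq_zero_iff,
      Nat.cast_sub (Nat.one_le_pow _ _ hk.pos), sub_eq_zero]
    push_cast
    rfl
  have hrf : r ∣ k ^ f - 1 := (hdiv f).2 dvd_rfl
  haveI : Fintype (GaloisField k f) := Fintype.ofFinite _
  obtain ⟨g, hg⟩ := IsCyclic.exists_generator (α := (GaloisField k f)ˣ)
  have ho : orderOf g = k ^ f - 1 := by
    rw [orderOf_eq_card_of_forall_mem_zpowers hg, Nat.card_units, GaloisField.card k _ hf0]
  set C := Subgroup.zpowers (g ^ (orderOf g / r)) with hC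
  have hcC : Nat.card C = r := by
    rw [hC, Nat.card_zpowers, orderOf_pow_orderOf_div (orderOf_pos g).ne' (ho ▸ hrf)]
  have hcard : Nat.card (FrobGroup C) = k ^ f * r := by
    rw [SemidirectProduct.card, hcC, Nat.card_congr Multiplicative.toAdd, GaloisField.card k _ hf0]
  -- invariant subgroups of the kernel
  have hirr : ∀ W : Subgroup (Multiplicative (GaloisField k f)),
      (∀ c : C, ∀ v ∈ W, mulAct C c v ∈ W) → W ≠ ⊥ → W = ⊤ := by
    intro W hW hW0
    have hcardW : Nat.card W ∣ k ^ f := by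
      rw [← GaloisField.card k f hf0, ← Nat.card_congr (Multiplicative.toAdd (α := GaloisField k f))]
      exact W.card_subgroup_dvd_card
    obtain ⟨e, he, hWe⟩ := (Nat.dvd_prime_pow hk).1 hcardW
    letI : MulAction C W :=
      { smul := fun c v => ⟨mulAct C c v, hW c v v.2⟩
        one_smul := fun v => Subtype.ext (by show mulAct C 1 (v : Multiplicative _) = v; rw [map_one]; rfl)
        mul_smul := fun c d v => Subtype.ext (by show mulAct C (c * d) (v : Multiplicative _) = _; rw [map_mul]; rfl) }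
    have hCp : IsPGroup r C := IsPGroup.of_card (n := 1) (by rw [hcC, pow_one])
    have hmod := hCp.card_modEq_card_fixedPoints W
    haveI : Nontrivial C := Finite.one_lt_card_iff_nontrivial.1 (hcC ▸ hr.one_lt)
    obtain ⟨c, hc⟩ := exists_ne (1 : C)
    have hfix : Nat.card (MulAction.fixedPoints C W) = 1 := by
      have : MulAction.fixedPoints C W = {1} := Set.eq_singleton_iff_unique_mem.2
        ⟨fun c => Subtype.ext (map_one (mulAct C c)), fun v hv => Subtype.ext (mulAct_fixedPointFree hc _ (congrArg Subtype.val (hv c)))⟩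
      rw [this, Nat.card_eq_fintype_card]; simp
    rw [hfix, hWe] at hmod
    have hfe : f ∣ e := (hdiv e).1 ((Nat.modEq_iff_dvd' (Nat.one_le_pow _ _ hk.pos)).1 hmod.symm)
    have hpos : 0 < e := Nat.pos_of_ne_zero fun h => hW0 (by
      rw [h, pow_zero] at hWe
      exact Subgroup.card_eq_one.1 hWe)
    have hef : e = f := le_antisymm he (Nat.le_of_dvd hpos hfe)
    refine Subgroup.eq_top_of_card_eq _ ?_
    rw [hWe, hef, Nat.card_congr Multiplicative.toAdd, GaloisField.card k _ hf0]
  have hconj : ∀ (x : FrobGroup C) (v : Multiplicative (GaloisField k f)),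
      x * SemidirectProduct.inl v * x⁻¹ = SemidirectProduct.inl (mulAct C x.right v) := by
    intro x v
    ext
    · simp [mul_comm x.left]
    · simp
  have hlk : ∀ x : FrobGroup C, x.right = 1 → x = SemidirectProduct.inl x.left := fun x hx => by
    ext <;> simp [hx]
  refine ⟨FrobGroup C, inferInstance, inferInstance, f, hf0, hrf, hcard, fun d => ?_, fun H hHk hHr => ?_, fun N hN hN0 => ?_⟩
  · have h := Set.ext_iff.1 (range_orderOf_frobGroup (p := k) C) d
    rw [hcC, Set.mem_range] at h
    rw [h, Set.mem_ofPred_eq, Nat.dvd_prime hk, Nat.dvd_prime hr]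
    tauto
  · obtain ⟨x, hx⟩ := exists_prime_orderOf_dvd_card' r hHr
    obtain ⟨y, hy⟩ := exists_prime_orderOf_dvd_card' k hHk
    rw [← Subgroup.orderOf_coe] at hx hy
    have hxr : (x : FrobGroup C).right ≠ 1 := by
      intro h
      rw [hlk _ h, orderOf_injective _ SemidirectProduct.inl_injective] at hx
      have := orderOf_dvd_of_pow_eq_one (pow_char_multiplicative k (x : FrobGroup C).left)
      rw [hx] at this
      exact hne ((Nat.prime_dvd_prime_iff_eq hr hk).1 this).symm
    have hxC : Subgroup.zpowers (x : FrobGroup C).right = ⊤ :=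
      zpowers_eq_top_of_prime_card hcC hxr
    have hyr : (y : FrobGroup C).right = 1 := by
      have h1 : orderOf (y : FrobGroup C).right ∣ k := (orderOf_right_dvd (y : FrobGroup C)).trans (dvd_of_eq hy)
      have h2 : orderOf (y : FrobGroup C).right ∣ r := hcC ▸ orderOf_dvd_natCard _
      have h3 : orderOf (y : FrobGroup C).right ∣ 1 :=
        ((Nat.coprime_primes hk hr).2 hne) ▸ Nat.dvd_gcd h1 h2
      exact orderOf_eq_one_iff.1 (Nat.dvd_one.1 h3)
    set W := H.comap (SemidirectProduct.inl : Multiplicative (GaloisField k f) →* FrobGroup C)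
    have hW : W = ⊤ := by
      refine hirr W (fun c v hv => ?_) fun h0 => ?_
      · obtain ⟨n, rfl⟩ := Subgroup.mem_zpowers_iff.1 (hxC ▸ Subgroup.mem_top c)
        show SemidirectProduct.inl (mulAct C ((x : FrobGroup C).right ^ n) v) ∈ H
        rw [show (x : FrobGroup C).right ^ n = ((x : FrobGroup C) ^ n).right from
          (map_zpow (SemidirectProduct.rightHom (φ := mulAct C)) (x : FrobGroup C) n).symm, ← hconj]
        exact mul_mem (mul_mem (zpow_mem x.2 n) hv) (inv_mem (zpow_mem x.2 n))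
      · have hyl : (y : FrobGroup C).left ∈ W := by
          show SemidirectProduct.inl (y : FrobGroup C).left ∈ H
          rw [← hlk _ hyr]; exact y.2
        rw [h0, Subgroup.mem_bot] at hyl
        rw [hlk _ hyr, hyl, map_one, orderOf_one] at hy
        exact hk.one_lt.ne hy
    rw [eq_top_iff]
    intro z _
    rw [← SemidirectProduct.inl_left_mul_inr_right z]
    refine mul_mem (show z.left ∈ W from hW ▸ Subgroup.mem_top _) ?_
    obtain ⟨n, hn⟩ := Subgroup.mem_zpowers_iff.1 (hxC ▸ Subgroup.mem_top z.right)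
    have e : SemidirectProduct.inr z.right = SemidirectProduct.inl (((x : FrobGroup C) ^ n).left)⁻¹ * (x : FrobGroup C) ^ n := by
      have hr' : ((x : FrobGroup C) ^ n).right = z.right := by
        rw [← hn]; exact map_zpow (SemidirectProduct.rightHom (φ := mulAct C)) _ n
      ext
      · simp
      · simp [hr']
    rw [e]
    exact mul_mem (show _ ∈ W from hW ▸ Subgroup.mem_top _) (zpow_mem x.2 n)
  · set W := N.comap (SemidirectProduct.inl : Multiplicative (GaloisField k f) →* FrobGroup C)
    have hWinv : ∀ c : C, ∀ v ∈ W, mulAct C c v ∈ W := fun c v hv => by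
      show SemidirectProduct.inl (mulAct C c v) ∈ N
      rw [show mulAct C c v = mulAct C (SemidirectProduct.inr (φ := mulAct C) c).right v from rfl, ← hconj]
      exact hN.conj_mem _ hv _
    have hW : W = ⊤ := by
      refine hirr W hWinv fun h0 => hN0 ((Subgroup.eq_bot_iff_forall N).2 fun z hz => ?_)
      have hfix : ∀ v, mulAct C z.right v = v := by
        intro v
        have hm : z * SemidirectProduct.inl v * z⁻¹ * SemidirectProduct.inl v⁻¹ ∈ N := by
          rw [map_inv, mul_assoc z, mul_assoc z]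
          exact mul_mem hz (hN.conj_mem _ (inv_mem hz) _)
        rw [hconj, ← map_mul] at hm
        have hm' : mulAct C z.right v * v⁻¹ ∈ W := hm
        rw [h0, Subgroup.mem_bot, mul_inv_eq_one] at hm'
        exact hm'
      have hz1 : z.right = 1 := by
        by_contra h
        obtain ⟨v, hv⟩ := exists_ne (1 : Multiplicative (GaloisField k f))
        exact hv (mulAct_fixedPointFree h v (hfix v))
      rw [hlk z hz1] at hz ⊢
      have hz' : z.left ∈ W := hz
      rw [h0, Subgroup.mem_bot] at hz'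
      rw [hz', map_one]
    have hle : (SemidirectProduct.inl : Multiplicative (GaloisField k f) →* FrobGroup C).range ≤ N := by
      rintro _ ⟨v, rfl⟩
      exact (show v ∈ W from hW ▸ Subgroup.mem_top v)
    refine dvd_trans (dvd_of_eq ?_) (Subgroup.card_dvd_of_le hle)
    rw [Nat.card_congr (MonoidHom.ofInjective SemidirectProduct.inl_injective).toEquiv.symm,
      Nat.card_congr Multiplicative.toAdd, GaloisField.card k _ hf0]

theorem prod_dvd_of_pairwise {ι : Type*} (t : Finset ι) (c : ι → ℕ) (d : ℕ)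
    (hc : ∀ i ∈ t, ∀ j ∈ t, i ≠ j → (c i).Coprime (c j)) (hd : ∀ i ∈ t, c i ∣ d) : ∏ i ∈ t, c i ∣ d := by
  classical
  induction t using Finset.induction_on with
  | empty => simp
  | insert i t hi ih =>
    rw [Finset.prod_insert hi]
    refine Nat.Coprime.mul_dvd_of_dvd_of_dvd (Nat.Coprime.prod_right fun j hj => hc i (Finset.mem_insert_self _ _) j
      (Finset.mem_insert_of_mem hj) fun e => hi (e ▸ hj)) (hd i (Finset.mem_insert_self _ _))
      (ih (fun a ha b hb => hc a (Finset.mem_insert_of_mem ha) b (Finset.mem_insert_of_mem hb))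
        fun a ha => hd a (Finset.mem_insert_of_mem ha))

theorem dvd_factor {ι : Type*} [Fintype ι] (c : ι → ℕ) (j : ι) {d : ℕ}
    (hd : ∀ i, i ≠ j → d.Coprime (c i)) (h : d ∣ ∏ i, c i) : d ∣ c j := by
  classical
  rw [← Finset.mul_prod_erase _ _ (Finset.mem_univ j)] at h
  exact (Nat.Coprime.prod_right fun i hi => hd i (Finset.ne_of_mem_erase hi)).dvd_of_dvd_mul_right h

/-- A finite group is critical with respect to a set Ω of natural numbers when its set of element orders is Ω while no proper section H/N (H a subgroup, N normal in H, (H, N) ≠ (whole group, 1)) has Ω as its set of element orders. Let s ≥ 1 and let p(j,0), p(j,1) (j < s) be 2s pairwise distinct primes, and let Ω be the set of all products c(0)·…·c(s−1) with each c(j) ∈ {1, p(j,0), p(j,1)}. Then there are 2^s pairwise non-isomorphic finite groups critical with respect to Ω. -/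
theorem result (s : ℕ) (hs : 1 ≤ s) (p : Fin s → Fin 2 → ℕ)
    (hp : ∀ j i, (p j i).Prime) (hinj : ∀ j i j' i', p j i = p j' i' → j = j' ∧ i = i') :
    ∃ (G : Fin (2 ^ s) → Type) (_ : ∀ a, Group (G a)) (_ : ∀ a, Fintype (G a)),
      (∀ a b, a ≠ b → ¬ Nonempty (G a ≃* G b)) ∧
      ∀ a, Set.range (orderOf : (G a) → ℕ) = {m : ℕ | ∃ c : Fin s → ℕ, (∀ j, c j = 1 ∨ c j = p j 0 ∨ c j = p j 1) ∧ m = ∏ j, c j} ∧
      ∀ (H : Subgroup (G a)) (N : Subgroup ↥H) [N.Normal], (H ≠ ⊤ ∨ N ≠ ⊥) → Set.range (orderOf : (↥H ⧸ N) → ℕ) ≠ {m : ℕ | ∃ c : Fin s → ℕ, (∀ j, c j = 1 ∨ c j = p j 0 ∨ c j = p j 1) ∧ m = ∏ j, c j} := by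
  classical
  set Ω := {m : ℕ | ∃ c : Fin s → ℕ, (∀ j, c j = 1 ∨ c j = p j 0 ∨ c j = p j 1) ∧ m = ∏ j, c j}
  let b : Fin (2 ^ s) → Fin s → Fin 2 := fun a => finFunctionFinEquiv.symm a
  have hpne : ∀ j (i : Fin 2), p j i ≠ p j i.rev := fun j i h => by
    have := (hinj _ _ _ _ h).2
    have key : ∀ i : Fin 2, i ≠ i.rev := by decide
    exact key i this
  choose F hFg hFf f hf0 hfd hcard hspec htop hnorm using fun a j =>
    exists_frob (p j (b a j)) (p j (b a j).rev) (hp _ _) (hp _ _) (hpne j (b a j))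
  letI := hFg
  haveI := hFf
  have hcop : ∀ {j j' : Fin s} (i i' : Fin 2), j ≠ j' → (p j i).Coprime (p j' i') := fun i i' h =>
    (Nat.coprime_primes (hp _ _) (hp _ _)).2 fun e => h (hinj _ _ _ _ e).1
  have hFcop : ∀ a a' j j', j ≠ j' → (Nat.card (F a j)).Coprime (Nat.card (F a' j')) := by
    intro a a' j j' h
    rw [hcard, hcard]
    exact Nat.Coprime.mul_left (Nat.Coprime.mul_right ((hcop _ _ h).pow _ _) ((hcop _ _ h).pow_left _))
      (Nat.Coprime.mul_right ((hcop _ _ h).pow_right _) (hcop _ _ h))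
  have hG : ∀ a, Nat.card (∀ j, F a j) = ∏ j, Nat.card (F a j) := fun a => Nat.card_pi
  have horder : ∀ a (x : ∀ j, F a j), orderOf x = ∏ j, orderOf (x j) := by
    intro a x
    refine Nat.dvd_antisymm (orderOf_dvd_of_pow_eq_one (funext fun j =>
      orderOf_dvd_iff_pow_eq_one.1 (Finset.dvd_prod_of_mem _ (Finset.mem_univ j)))) ?_
    refine prod_dvd_of_pairwise _ _ _ (fun i _ j _ h =>
      ((hFcop a a i j h).coprime_dvd_left (orderOf_dvd_natCard _)).coprime_dvd_right (orderOf_dvd_natCard _))
      fun j _ => orderOf_map_dvd (Pi.evalMonoidHom (F a) j) x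
  haveI : ∀ a, Finite (∀ j, F a j) := fun a => inferInstance
  refine ⟨fun a => ∀ j, F a j, fun a => inferInstance, fun a => Fintype.ofFinite _, ?_, fun a => ⟨?_, ?_⟩⟩
  · rintro a a' hne ⟨e⟩
    obtain ⟨j, hj⟩ : ∃ j, b a j ≠ b a' j := by
      by_contra h
      push Not at h
      exact hne (finFunctionFinEquiv.symm.injective (funext h))
    have hc := (hG a).symm.trans ((Nat.card_congr e.toEquiv).trans (hG a'))
    have d1 : Nat.card (F a j) ∣ Nat.card (F a' j) := dvd_factor _ j (fun i hi => hFcop a a' j i hi.symm)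
      (hc ▸ Finset.dvd_prod_of_mem _ (Finset.mem_univ j))
    have d2 : Nat.card (F a' j) ∣ Nat.card (F a j) := dvd_factor _ j (fun i hi => hFcop a' a j i hi.symm)
      (hc.symm ▸ Finset.dvd_prod_of_mem _ (Finset.mem_univ j))
    have he := Nat.dvd_antisymm d1 d2
    have hrev : ∀ i i' : Fin 2, i ≠ i' → i.rev = i' := by decide
    have hr1 := hrev _ _ hj
    have hr2 := hrev _ _ (Ne.symm hj)
    rw [hcard, hcard, hr1, hr2] at he
    set k := p j (b a j) with hkdef
    set r := p j (b a' j) with hrdef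
    have hk : k.Prime := hp _ _
    have hr : r.Prime := hp _ _
    have hkr : k ≠ r := fun h => hj (hinj _ _ _ _ h).2
    have hf1 : f a j = 1 := by
      have h1 : k ^ f a j ∣ r ^ f a' j * k := he ▸ dvd_mul_right _ _
      have h2 : k ^ f a j ∣ k := (((Nat.coprime_primes hk hr).2 hkr).pow _ _).dvd_of_dvd_mul_left h1
      have h3 := (Nat.pow_dvd_pow_iff_le_right hk.one_lt).1 ((pow_one k).symm ▸ h2 : k ^ f a j ∣ k ^ 1)
      have := hf0 a j
      omega
    have hf2 : f a' j = 1 := by
      have h1 : r ^ f a' j ∣ k ^ f a j * r := he ▸ dvd_mul_right _ _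
      have h2 : r ^ f a' j ∣ r := (((Nat.coprime_primes hr hk).2 hkr.symm).pow _ _).dvd_of_dvd_mul_left h1
      have h3 := (Nat.pow_dvd_pow_iff_le_right hr.one_lt).1 ((pow_one r).symm ▸ h2 : r ^ f a' j ∣ r ^ 1)
      have := hf0 a' j
      omega
    have e1 := hfd a j
    have e2 := hfd a' j
    rw [hr1, ← hkdef, ← hrdef, hf1, pow_one] at e1
    rw [hr2, ← hkdef, ← hrdef, hf2, pow_one] at e2
    have := Nat.le_of_dvd (by have := hk.two_le; omega) e1
    have := Nat.le_of_dvd (by have := hr.two_le; omega) e2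
    omega
  · have hcases : ∀ j d, (∃ x : F a j, orderOf x = d) ↔ d = 1 ∨ d = p j 0 ∨ d = p j 1 := by
      intro j d
      rw [hspec a j d]
      have : b a j = 0 ∨ b a j = 1 := by omega
      rcases this with h | h <;> rw [h]
      · exact Iff.rfl
      · exact or_congr Iff.rfl or_comm
    ext m
    constructor
    · rintro ⟨x, rfl⟩
      exact ⟨fun j => orderOf (x j), fun j => (hcases j _).1 ⟨_, rfl⟩, horder a x⟩
    · rintro ⟨c, hc, rfl⟩
      choose x hx using fun j => (hcases j (c j)).2 (hc j)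
      exact ⟨x, by rw [horder]; exact Finset.prod_congr rfl fun j _ => hx j⟩
  · intro H N _ hHN hrange
    have hmem : ∀ j (i : Fin 2), p j i ∣ Nat.card (↥H ⧸ N) := by
      intro j i
      have : p j i ∈ Ω := by
        refine ⟨fun j' => if j' = j then p j i else 1, fun j' => ?_, ?_⟩
        · by_cases h : j' = j
          · subst h
            have : i = 0 ∨ i = 1 := by omega
            rcases this with rfl | rfl <;> simp
          · simp [h]
        · simp
      obtain ⟨q, hq⟩ := hrange ▸ this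
      exact hq ▸ orderOf_dvd_natCard q
    have hHk : ∀ j (i : Fin 2), p j i ∣ Nat.card H := fun j i =>
      (hmem j i).trans (Subgroup.card_quotient_dvd_card N)
    have hproj : ∀ j, H.map (Pi.evalMonoidHom (F a) j) = ⊤ := by
      intro j
      have key : ∀ i : Fin 2, p j i ∣ Nat.card (H.map (Pi.evalMonoidHom (F a) j)) := by
        intro i
        haveI := Fact.mk (hp j i)
        obtain ⟨x, hx⟩ := exists_prime_orderOf_dvd_card' (p j i) (hHk j i)
        rw [← Subgroup.orderOf_coe, horder] at hx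
        have hd : p j i ∣ orderOf ((x : ∀ j, F a j) j) := by
          refine dvd_factor _ j (fun j' hj' => Nat.Coprime.coprime_dvd_right (orderOf_dvd_natCard _) ?_) (dvd_of_eq hx.symm)
          rw [hcard]
          exact Nat.Coprime.mul_right ((hcop _ _ hj'.symm).pow_right _) (hcop _ _ hj'.symm)
        refine hd.trans ?_
        have hxm : ((x : ∀ j, F a j) j) ∈ H.map (Pi.evalMonoidHom (F a) j) := ⟨x, x.2, rfl⟩
        rw [← Subgroup.orderOf_mk _ hxm]
        exact orderOf_dvd_natCard _
      exact htop a j _ (key _) (key _)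
    have hHtop : H = ⊤ := by
      refine Subgroup.eq_top_of_card_eq _ (Nat.dvd_antisymm H.card_subgroup_dvd_card ?_)
      rw [hG]
      refine prod_dvd_of_pairwise _ _ _ (fun i _ j _ h => hFcop a a i j h) fun j _ => ?_
      have h := H.card_map_dvd (Pi.evalMonoidHom (F a) j)
      rwa [hproj, Subgroup.card_top] at h
    subst hHtop
    have hN0 : N ≠ ⊥ := hHN.resolve_left fun h => h rfl
    obtain ⟨j, hj⟩ : ∃ j, (N.map (Subgroup.subtype _)).map (Pi.evalMonoidHom (F a) j) ≠ ⊥ := by
      by_contra h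
      push Not at h
      refine hN0 ((Subgroup.eq_bot_iff_forall N).2 fun x hx => Subtype.ext (funext fun j => ?_))
      exact (Subgroup.eq_bot_iff_forall _).1 (h j) _ ⟨_, ⟨x, hx, rfl⟩, rfl⟩
    have hNn : ((N.map (Subgroup.subtype _)).map (Pi.evalMonoidHom (F a) j)).Normal := by
      refine Subgroup.Normal.map (Subgroup.Normal.map inferInstance _ ?_) _ (Function.surjective_eval j)
      exact fun x => ⟨⟨x, Subgroup.mem_top x⟩, rfl⟩
    have hk := (hnorm a j _ hNn hj).trans ((Subgroup.card_map_dvd _ _).trans (Subgroup.card_map_dvd _ _))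
    have hmul := Subgroup.card_eq_card_quotient_mul_card_subgroup N
    have h1 : p j (b a j) ^ (f a j + 1) ∣ ∏ i, Nat.card (F a i) := by
      rw [← hG, ← Subgroup.card_top (G := ∀ i, F a i), hmul, pow_succ, mul_comm (Nat.card _)]
      exact mul_dvd_mul hk (hmem j (b a j))
    have h2 := dvd_factor _ j (fun i hi => by
      rw [hcard]
      exact ((Nat.Coprime.mul_right ((hcop _ _ hi.symm).pow_right _) (hcop _ _ hi.symm))).pow_left _) h1
    rw [hcard, pow_succ, Nat.mul_dvd_mul_iff_left (pow_pos (hp _ _).pos _),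
      Nat.prime_dvd_prime_iff_eq (hp _ _) (hp _ _)] at h2
    exact hpne _ _ h2

end Cfsg.Agent.S3599
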