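import Cfsg.Statements.S3614
import Cfsg.Agent.Lib.HalfNormalizer.BlocksMain

set_option autoImplicit false
open Cfsg

namespace Cfsg.Agent.S3614

/-- Let G be an insoluble group acting faithfully and transitively on a finite set of prime size p, and suppose the normalizer of a Sylow p-subgroup of G has order p(p-1)/2. If p = q + 2 = 2r + 3 > 9 or p = q + 2 = 3r + 4 > 13 with q and r prime, then G is isomorphic to the alternating group of degree p. -/
theorem result {G Ω : Type*} [Group G] [Finite G] [MulAction G Ω] [FaithfulSMul G Ω] [Finite Ω]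
    (p : ℕ) (hp : p.Prime) (hΩ : Nat.card Ω = p) (htrans : MulAction.IsPretransitive G Ω)
    (hins : ¬ Group.IsSolvable G) (P : Sylow p G)
    (hN : 2 * Nat.card ↥(Subgroup.normalizer ((P : Subgroup G) : Set G)) = p * (p - 1))
    (q r : ℕ) (hq : q.Prime) (hr : r.Prime)
    (hcases : (p = q + 2 ∧ p = 2 * r + 3 ∧ 9 < p) ∨ (p = q + 2 ∧ p = 3 * r + 4 ∧ 13 < p)) :
    Nonempty (G ≃* alternatingGroup (Fin p)) := by
  classical
  letI : Fintype Ω := Fintype.ofFinite Ω
  haveI : Fact p.Prime := ⟨hp⟩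
  haveI : Fact r.Prime := ⟨hr⟩
  haveI := htrans
  have hα : Fintype.card Ω = p := by rw [← Nat.card_eq_fintype_card, hΩ]
  obtain ⟨m, hm, hpm, hr5, hq5, hpq⟩ : ∃ m, (m = 2 ∨ m = 3) ∧ p = m * r + (m + 1) ∧ 5 ≤ r ∧
      5 < q ∧ p = q + 2 := by
    have hr4 : r ≠ 4 := fun h => absurd (h ▸ hr) (by norm_num)
    rcases hcases with ⟨h1, h2, h3⟩ | ⟨h1, h2, h3⟩
    · exact ⟨2, Or.inl rfl, by omega, by omega, by omega, h1⟩
    · exact ⟨3, Or.inr rfl, by omega, by omega, by omega, h1⟩
  have h5 := CfsgLib.HalfNormalizer.five_transitive hα hq hq5 hpq hins P hN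
  set f := MulAction.toPermHom G Ω with hf
  have h5' : MulAction.IsMultiplyPretransitive f.range Ω 5 := ⟨fun x y => by
    obtain ⟨g, hg⟩ := MulAction.exists_smul_eq G x y
    exact ⟨⟨f g, g, rfl⟩, hg⟩⟩
  have hle := CfsgLib.HalfNormalizer.alternating_of_prime_blocks (r := r) f.range hm hr5
    (by rw [hα, hpm]) h5'
  have heq : f.range = alternatingGroup Ω := by
    refine le_antisymm ?_ hle
    rintro _ ⟨g, rfl⟩
    exact Equiv.Perm.mem_alternatingGroup.mpr
      (CfsgLib.HalfNormalizer.sign_eq_one hα (by omega) P hN g)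
  exact ⟨((MonoidHom.ofInjective (f := f) MulAction.toPerm_injective).trans
    (MulEquiv.subgroupCongr heq)).trans
      (Equiv.altCongrHom (Fintype.equivFinOfCardEq hα))⟩

end Cfsg.Agent.S3614
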