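import Cfsg.Statements.S3616
import Cfsg.Agent.Lib.HalfNormalizer.Overgroup
import Cfsg.Agent.Lib.Spectrum.PGL2
import Cfsg.Agent.Lib.Classical.GLOrder

set_option autoImplicit false
open Cfsg

namespace Cfsg.Agent.S3616

/-- Let p > 7 be prime and let X be a finite group acting faithfully on a set of p + 1 points by even permutations. Suppose X has a proper subgroup isomorphic to PSL(2, p) that acts doubly transitively on the set (such an action is necessarily the natural one on the projective line). Then X is 4-fold transitive. -/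
theorem result {X Ω : Type*} [Group X] [Finite X] [MulAction X Ω] [FaithfulSMul X Ω] [Fintype Ω] [DecidableEq Ω]
    (p : ℕ) (hp : p.Prime) (hp7 : 7 < p) (hΩ : Fintype.card Ω = p + 1)
    (heven : ∀ x : X, Equiv.Perm.sign (MulAction.toPerm x : Equiv.Perm Ω) = 1)
    (L : Subgroup X) (hL : Nonempty (↥L ≃* Matrix.ProjectiveSpecialLinearGroup (Fin 2) (ZMod p)))
    (hLt : MulAction.IsMultiplyPretransitive ↥L Ω 2) (hLX : L ≠ ⊤) :
    MulAction.IsMultiplyPretransitive X Ω 4 := by
  classical
  haveI : Fact p.Prime := ⟨hp⟩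
  obtain ⟨θ⟩ := hL
  have hcard : 2 * Nat.card (Matrix.ProjectiveSpecialLinearGroup (Fin 2) (ZMod p)) =
      (p + 1) * (p * (p - 1)) := by
    have h := CfsgLib.Classical.card_PSL_mul (F := ZMod p) (ZMod.card p) 2 (by norm_num)
    rw [Fin.prod_univ_two, Nat.gcd_eq_left (show 2 ∣ p - 1 from
      even_iff_two_dvd.mp (hp.even_sub_one (by omega)))] at h
    have e0 : p ^ ((0 : Fin 2) : ℕ) = 1 := pow_zero p
    have e1 : p ^ ((1 : Fin 2) : ℕ) = p := pow_one p
    rw [e0, e1] at h
    apply Nat.eq_of_mul_eq_mul_left (show 0 < p - 1 by omega)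
    rw [← mul_assoc, mul_comm (p - 1) 2, mul_assoc, h,
      show p ^ 2 - 1 = (p + 1) * (p - 1) from by rw [sq, ← Nat.mul_self_sub_mul_self_eq p 1],
      show p ^ 2 - p = p * (p - 1) from by rw [sq, Nat.mul_sub_one]]
    ring
  refine CfsgLib.HalfNormalizer.four_transitive hp7 hΩ heven L
    (by rw [Nat.card_congr θ.toEquiv, hcard]) ?_ hLt hLX
  intro hp4 w d hw hd hwd
  -- no involution commutes with a nontrivial element of order dividing (p - 1) / 2
  by_contra hd1
  have hdne : orderOf d ≠ 1 := fun h => hd1 (orderOf_eq_one_iff.mp h)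
  have hdvd : orderOf d ∣ (p - 1) / 2 := orderOf_dvd_of_pow_eq_one hd
  have hodd : Odd (orderOf d) := by
    refine Odd.of_dvd_nat (Nat.odd_iff.mpr ?_) hdvd
    omega
  have hco : Nat.Coprime (orderOf w) (orderOf d) := by
    rw [hw]; exact Nat.coprime_two_left.mpr hodd
  have hord : orderOf (θ (w * d)) = 2 * orderOf d := by
    rw [MulEquiv.orderOf_eq, Commute.orderOf_mul_eq_mul_orderOf_of_coprime hwd hco, hw]
  have h2ne : (2 : ZMod p) ≠ 0 := by
    intro h
    have h3 := (ZMod.natCast_eq_zero_iff 2 p).mp (by exact_mod_cast h)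
    have := Nat.le_of_dvd (by norm_num) h3
    omega
  rcases CfsgLib.Spectrum.orderOf_psl_cases (p := p) (k := 1) h2ne (by rw [ZMod.card, pow_one])
    (θ (w * d)) with h | h | h <;> rw [hord] at h
  · have := Nat.le_of_dvd (by omega) h
    have h2 : (2 : ℕ) ∣ p := (Nat.dvd_mul_right 2 _).trans h
    rw [Nat.prime_dvd_prime_iff_eq Nat.prime_two hp] at h2
    omega
  · rw [ZMod.card] at h
    have h2 : (2 : ℕ) ∣ (p - 1) / 2 := (Nat.dvd_mul_right 2 _).trans h
    omega
  · rw [ZMod.card] at h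
    have h3 : orderOf d ∣ (p + 1) / 2 := (Nat.dvd_mul_left _ 2).trans h
    have h4 : orderOf d ∣ (p + 1) / 2 - (p - 1) / 2 := Nat.dvd_sub h3 hdvd
    rw [show (p + 1) / 2 - (p - 1) / 2 = 1 by omega] at h4
    exact hdne (Nat.dvd_one.mp h4)

end Cfsg.Agent.S3616
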