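import Cfsg.Statements.S3619

set_option autoImplicit false
open Cfsg
open scoped Pointwise

namespace Cfsg.Agent.S3619

/-- Let G act faithfully on a finite set in such a way that every non-trivial normal subgroup of G is transitive (G is quasiprimitive). Let Γ be a subset with more than one point and not the whole set, such that the pointwise stabilizer of the complement of Γ acts transitively on Γ (a Jordan set). If that pointwise stabilizer acts primitively on Γ, then G is k-fold transitive where k is one more than the number of points outside Γ (the Jordan set is a trivial one). -/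
theorem result {G Ω : Type*} [Group G] [Finite G] [MulAction G Ω] [FaithfulSMul G Ω] [Finite Ω]
    (hqp : ∀ N : Subgroup G, N.Normal → N ≠ ⊥ → MulAction.IsPretransitive ↥N Ω)
    (Γ : Set Ω) (hΓ1 : 1 < Γ.ncard) (hΓ2 : Γ.ncard < Nat.card Ω)
    (hJ : MulAction.IsPretransitive ↥(fixingSubgroup G Γᶜ) ↥(SubMulAction.ofFixingSubgroup G Γᶜ))
    (hJp : MulAction.IsPreprimitive ↥(fixingSubgroup G Γᶜ) ↥(SubMulAction.ofFixingSubgroup G Γᶜ)) :
    MulAction.IsMultiplyPretransitive G Ω (Nat.card Ω - Γ.ncard + 1) := by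
  classical
  set J := fixingSubgroup G Γᶜ with hJdef
  haveI := hJ; haveI := hJp
  haveI hΩ : Nontrivial Ω := Finite.one_lt_card_iff_nontrivial.1 (by omega)
  have hfixJ : ∀ j : J, ∀ c ∉ Γ, (j : G) • c = c := fun j c hc =>
    (mem_fixingSubgroup_iff G).1 j.2 c hc
  have hmemJ : ∀ a ∈ Γ, a ∈ SubMulAction.ofFixingSubgroup G Γᶜ := fun a ha h => h ha
  have htJ : ∀ a ∈ Γ, ∀ b ∈ Γ, ∃ j : J, (j : G) • a = b := fun a ha b hb => by
    obtain ⟨j, hj⟩ := hJ.exists_smul_eq ⟨a, hmemJ a ha⟩ ⟨b, hmemJ b hb⟩
    exact ⟨j, congrArg Subtype.val hj⟩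
  obtain ⟨a0, a1, ha0, ha1, ha01⟩ := (Set.one_lt_ncard Γ.toFinite).1 hΓ1 |> fun ⟨x, hx, y, hy, h⟩ =>
    (⟨x, y, hx, hy, h⟩ : ∃ x y, x ∈ Γ ∧ y ∈ Γ ∧ x ≠ y)
  haveI htr : MulAction.IsPretransitive G Ω := by
    have h := hqp ⊤ inferInstance (fun e => ?_)
    · exact ⟨fun x y => let ⟨g, hg⟩ := h.exists_smul_eq x y; ⟨g, hg⟩⟩
    · obtain ⟨j, hj⟩ := htJ a0 ha0 a1 ha1
      have : (j : G) = 1 := Subgroup.mem_bot.1 (e ▸ Subgroup.mem_top _)
      rw [this, one_smul] at hj
      exact ha01 hj
  have hprim : MulAction.IsPreprimitive G Ω := by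
    constructor
    intro B hB
    by_contra hnt
    rw [MulAction.IsTrivialBlock, not_or] at hnt
    obtain ⟨hns, hnu⟩ := hnt
    obtain ⟨c0, hc0⟩ : B.Nonempty := by
      rw [Set.nonempty_iff_ne_empty]; intro e; exact hns (e ▸ Set.subsingleton_empty)
    -- some translate contains `Γ`
    obtain ⟨g0, hg0⟩ : ∃ g : G, Γ ⊆ g • B := by
      by_contra hno
      push_neg at hno
      have hfixa : ∀ a ∈ Γ, ∀ j : J, (j : G) • a = a := by
        intro a ha j
        obtain ⟨g, hg⟩ := MulAction.exists_smul_eq G c0 a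
        have haB : a ∈ g • B := hg ▸ Set.smul_mem_smul_set hc0
        have hone : ∀ x ∈ g • B, x ∈ Γ → x = a := by
          have hsub : MulAction.IsBlock J (Subtype.val ⁻¹' (g • B) :
              Set (SubMulAction.ofFixingSubgroup G Γᶜ)) := by
            rw [MulAction.isBlock_iff_smul_eq_or_disjoint]
            intro k
            have hk : k • (Subtype.val ⁻¹' (g • B) : Set (SubMulAction.ofFixingSubgroup G Γᶜ)) =
                Subtype.val ⁻¹' ((k : G) • g • B) := by
              ext u
              simp only [Set.mem_smul_set_iff_inv_smul_mem, Set.mem_preimage]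
              exact Iff.rfl
            rw [hk]
            rcases MulAction.isBlock_iff_smul_eq_or_disjoint.1 (hB.translate g) (k : G) with h | h
            · exact Or.inl (by rw [h])
            · exact Or.inr (Disjoint.preimage _ h)
          intro x hx hxΓ
          rcases hJp.isTrivialBlock_of_isBlock hsub with h | h
          · exact congrArg Subtype.val (@h ⟨x, hmemJ x hxΓ⟩ hx ⟨a, hmemJ a ha⟩ haB)
          · exact absurd (fun y hy => (Set.eq_univ_iff_forall.1 h ⟨y, hmemJ y hy⟩ :)) (hno g)
        obtain ⟨c, hcB, hca⟩ : ∃ c ∈ g • B, c ≠ a := by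
          by_contra hall
          push_neg at hall
          exact hns fun x hx y hy => smul_left_cancel g
            ((hall _ (Set.smul_mem_smul_set hx)).trans (hall _ (Set.smul_mem_smul_set hy)).symm)
        have hcΓ : c ∉ Γ := fun h => hca (hone c hcB h)
        rcases MulAction.isBlock_iff_smul_eq_or_disjoint.1 (hB.translate g) (j : G) with h | h
        · have h1 : (j : G) • a ∈ g • B := h ▸ Set.smul_mem_smul_set haB
          have h2 : (j : G) • a ∈ Γ := by
            by_contra hn'
            have := hfixJ j _ hn'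
            rw [smul_left_cancel_iff] at this
            exact hn' (this.symm ▸ ha)
          exact hone _ h1 h2
        · exact absurd hcB (Set.disjoint_left.1 h ⟨c, hcB, hfixJ j c hcΓ⟩)
      obtain ⟨j, hj⟩ := htJ a0 ha0 a1 ha1
      exact ha01 ((hfixa a0 ha0 j).symm.trans hj)
    let K : Subgroup G := ⨅ g : G, MulAction.stabilizer G (g • B)
    haveI hKn : K.Normal := ⟨fun x hx h => by
      rw [Subgroup.mem_iInf] at hx ⊢
      intro g
      rw [MulAction.mem_stabilizer_iff, mul_smul, mul_smul, ← mul_smul h⁻¹, MulAction.mem_stabilizer_iff.1 (hx _),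
        ← mul_smul, mul_inv_cancel_left]⟩
    have hJK : ∀ j : J, (j : G) ∈ K := by
      intro j
      rw [Subgroup.mem_iInf]
      intro g
      rw [MulAction.mem_stabilizer_iff]
      rcases MulAction.isBlock_iff_smul_eq_or_disjoint.1 (hB.translate g) (j : G) with h | h
      · exact h
      exfalso
      obtain ⟨x, hx⟩ : (g • B).Nonempty := ⟨_, Set.smul_mem_smul_set hc0⟩
      by_cases hout : ∃ c ∈ g • B, c ∉ Γ
      · obtain ⟨c, hc, hc'⟩ := hout
        exact Set.disjoint_left.1 h ⟨c, hc, hfixJ j c hc'⟩ hc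
      push_neg at hout
      have hsub : g • B ⊆ g0 • B := fun y hy => hg0 (hout y hy)
      have heq : g • B = g0 • B := hB.smul_eq_smul_of_nonempty ⟨x, hx, hsub hx⟩
      have h2 : (j : G) • x ∈ Γ := by
        by_contra hn'
        have := hfixJ j _ hn'
        rw [smul_left_cancel_iff] at this
        exact hn' (this.symm ▸ hout x hx)
      exact Set.disjoint_left.1 h (Set.smul_mem_smul_set hx) (heq.symm ▸ hg0 h2)
    have hKb : K ≠ ⊥ := fun e => by
      obtain ⟨j, hj⟩ := htJ a0 ha0 a1 ha1
      have : (j : G) = 1 := Subgroup.mem_bot.1 (e ▸ hJK j)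
      rw [this, one_smul] at hj
      exact ha01 hj
    refine hnu (Set.eq_univ_iff_forall.2 fun y => ?_)
    obtain ⟨⟨k, hk⟩, hky⟩ := (hqp K hKn hKb).exists_smul_eq c0 y
    have := MulAction.mem_stabilizer_iff.1 (Subgroup.mem_iInf.1 hk 1)
    rw [one_smul] at this
    rw [← this, ← hky]
    exact Set.smul_mem_smul_set hc0
  have hc := Set.ncard_add_ncard_compl Γ
  obtain ⟨n, hn⟩ : ∃ n, Γᶜ.ncard = n + 1 := ⟨Γᶜ.ncard - 1, by omega⟩
  have h := (MulAction.IsPreprimitive.isMultiplyPreprimitive hprim hn (by omega) hJp)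
  rw [show Nat.card Ω - Γ.ncard + 1 = n + 2 by omega]
  exact h.isMultiplyPretransitive

end Cfsg.Agent.S3619
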