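import Cfsg.Statements.S3620
import Cfsg.Agent.Lib.Recognition.JordanAlt

set_option autoImplicit false
open Cfsg

namespace Cfsg.Agent.S3620

open MulAction CfsgLib.Recognition.Jordan
open scoped Pointwise

theorem stabilizer_coatom_of_quasiprimitive {G Ω : Type*} [Group G] [Finite G] [MulAction G Ω] [Fintype Ω]
    [DecidableEq Ω] [FaithfulSMul G Ω] [IsPretransitive G Ω]
    (hqp : ∀ N : Subgroup G, N.Normal → N ≠ ⊥ → IsPretransitive N Ω) (Γ : Finset Ω)
    (hJ : IsJordanSet G (Γ : Set Ω)) (h1 : 1 < Γ.card) (h2 : 2 * Γ.card < Fintype.card Ω) (x0 : Ω) :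
    IsCoatom (stabilizer G x0) := by
  classical
  have hproper : stabilizer G x0 ≠ ⊤ := by
    intro h
    obtain ⟨z, hz⟩ := Fintype.exists_ne_of_one_lt_card (by omega : 1 < Fintype.card Ω) x0
    obtain ⟨g, hg⟩ := exists_smul_eq G x0 z
    exact hz (hg.symm.trans (mem_stabilizer_iff.1 (h ▸ Subgroup.mem_top g)))
  obtain ⟨M, hM, hle⟩ := (eq_top_or_exists_le_coatom (stabilizer G x0)).resolve_left hproper
  choose rep hrep using fun z : Ω => exists_smul_eq G x0 z
  let π : Ω → G ⧸ M := fun z => (rep z : G ⧸ M)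
  have hπ : ∀ (g : G) z, π (g • z) = g • π z := by
    intro g z
    show ((rep (g • z) : G) : G ⧸ M) = ((g * rep z : G) : G ⧸ M)
    refine QuotientGroup.eq.2 (hle (mem_stabilizer_iff.2 ?_))
    rw [mul_smul, mul_smul, hrep, inv_smul_eq_iff, hrep]
  haveI : Fintype (G ⧸ M) := Fintype.ofFinite _
  haveI : Nontrivial (G ⧸ M) := by
    rw [← Finite.one_lt_card_iff_nontrivial]
    exact Subgroup.one_lt_index_of_ne_top hM.1
  haveI : IsPreprimitive G (G ⧸ M) := by
    rw [← isCoatom_stabilizer_iff_preprimitive G ((1 : G) : G ⧸ M), MulAction.stabilizer_quotient]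
    exact hM
  have hπs : Function.Surjective π := fun q => by
    obtain ⟨g, rfl⟩ := exists_smul_eq G (π x0) q
    exact ⟨g • x0, hπ g x0⟩
  haveI : FaithfulSMul G (G ⧸ M) := by
    refine ⟨fun {a b} hab => ?_⟩
    by_contra hne
    have hk : b⁻¹ * a ∈ (toPermHom G (G ⧸ M)).ker := by
      rw [MonoidHom.mem_ker]
      ext q
      show (b⁻¹ * a) • q = q
      rw [mul_smul, hab, inv_smul_smul]
    have hne' : (toPermHom G (G ⧸ M)).ker ≠ ⊥ := fun h => hne
      ((inv_mul_eq_one.1 ((Subgroup.eq_bot_iff_forall _).1 h _ hk)).symm)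
    haveI := hqp _ inferInstance hne'
    obtain ⟨q, hq⟩ := exists_ne (π x0)
    obtain ⟨z, rfl⟩ := hπs q
    obtain ⟨n, rfl⟩ := exists_smul_eq (toPermHom G (G ⧸ M)).ker x0 z
    refine hq ?_
    rw [show n • x0 = (n : G) • x0 from rfl, hπ]
    exact DFunLike.congr_fun (MonoidHom.mem_ker.1 n.2) (π x0)
  have key : ∀ k : G, k ≠ 1 → (∀ z ∉ Γ, k • z = z) → ∀ q, (∀ z ∈ Γ, π z = q) → False := by
    intro k hk1 hk q hq
    refine hk1 (eq_of_smul_eq_smul fun p : G ⧸ M => ?_)
    obtain ⟨z, rfl⟩ := hπs p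
    rw [one_smul, ← hπ]
    by_cases hz : z ∈ Γ
    · by_cases hkz : k • z ∈ Γ
      · rw [hq z hz, hq _ hkz]
      · rw [show k • z = z from MulAction.injective k (hk _ hkz)]
    · rw [hk z hz]
  obtain ⟨y0, hy0, y1, hy1, hy01⟩ := Finset.one_lt_card.1 h1
  obtain ⟨k0, hk0, hk0y⟩ := hJ y0 hy0 y1 hy1
  have hk01 : k0 ≠ 1 := fun h => hy01 (by rw [← hk0y, h, one_smul])
  have hsat : ∀ z, π z ∈ Γ.image π → z ∈ Γ := by
    intro z hz
    by_contra hzΓ
    obtain ⟨γ, hγ, hγz⟩ := Finset.mem_image.1 hz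
    refine key k0 hk01 hk0 (π z) fun y hy => ?_
    obtain ⟨k, hk, hky⟩ := hJ γ hγ y hy
    rw [← hky, hπ, hγz, ← hπ, hk z hzΓ]
  have hfib : ∀ q q' : G ⧸ M, (Finset.univ.filter fun z => π z = q).card = (Finset.univ.filter fun z => π z = q').card := by
    intro q q'
    obtain ⟨g, rfl⟩ := exists_smul_eq G q q'
    refine Finset.card_bij' (fun z _ => g • z) (fun z _ => g⁻¹ • z) ?_ ?_
      (fun z _ => inv_smul_smul g z) (fun z _ => smul_inv_smul g z)
    · intro z hz; simp only [Finset.mem_filter, Finset.mem_univ, true_and] at hz ⊢; rw [hπ, hz]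
    · intro z hz; simp only [Finset.mem_filter, Finset.mem_univ, true_and] at hz ⊢; rw [hπ, hz, inv_smul_smul]
  set b := (Finset.univ.filter fun z => π z = π x0).card with hb
  have hn : Fintype.card Ω = Fintype.card (G ⧸ M) * b := by
    rw [← Finset.card_univ, Finset.card_eq_sum_card_fiberwise (t := Finset.univ) (f := π) (fun _ _ => Finset.mem_univ _),
      Finset.sum_congr rfl fun q _ => hfib q (π x0), Finset.sum_const, Finset.card_univ, smul_eq_mul]
  have hr : Γ.card = (Γ.image π).card * b := by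
    rw [Finset.card_eq_sum_card_fiberwise (t := Γ.image π) (f := π) (fun z hz => Finset.mem_image_of_mem π hz),
      Finset.sum_congr rfl fun q hq => ?_, Finset.sum_const, smul_eq_mul]
    refine Eq.trans ?_ (hfib q (π x0))
    congr 1
    ext z
    simp only [Finset.mem_filter, Finset.mem_univ, true_and]
    exact ⟨fun h => h.2, fun h => ⟨hsat z (h.symm ▸ hq), h⟩⟩
  have hb0 : 0 < b := Finset.card_pos.2 ⟨x0, by simp⟩
  have h2' : 2 * (Γ.image π).card < Fintype.card (G ⧸ M) := by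
    rw [hr, hn, ← mul_assoc] at h2
    exact Nat.lt_of_mul_lt_mul_right h2
  have h1' : 1 < (Γ.image π).card := by
    by_contra h
    exact key k0 hk01 hk0 (π y0) fun z hz =>
      Finset.card_le_one.1 (not_lt.1 h) _ (Finset.mem_image_of_mem π hz) _ (Finset.mem_image_of_mem π hy0)
  have hJ' : IsJordanSet G ((Γ.image π : Finset (G ⧸ M)) : Set (G ⧸ M)) := by
    intro u hu v hv
    obtain ⟨u', hu', rfl⟩ := Finset.mem_image.1 hu
    obtain ⟨v', hv', rfl⟩ := Finset.mem_image.1 hv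
    obtain ⟨k, hk, hkuv⟩ := hJ u' hu' v' hv'
    refine ⟨k, fun q hq => ?_, by rw [← hπ, hkuv]⟩
    obtain ⟨z, rfl⟩ := hπs q
    rw [← hπ, hk z fun h => hq (Finset.mem_image_of_mem π h)]
  have halt := alternating_le (G := G) (inferInstance) hJ' h1' h2'
  obtain ⟨g, k, k₁, x, y, w, hx, hxg, hone, hy, hw, hyx, hwx, -, hkq, hk₁q⟩ :=
    exists_commutator_data (G := G) (inferInstance) hJ' h1' h2'
  have lift : ∀ (k : G), (∀ q ∉ Γ.image π, k • q = q) → ∀ z ∉ Γ, π (k • z) = π z := fun k hk z hz => by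
    rw [hπ, hk _ fun h => hz (hsat z h)]
  -- choose lifts fixing the complement pointwise
  obtain ⟨kk, hkk, hkkx⟩ : ∃ kk : G, (∀ z ∉ Γ, kk • z = z) ∧ kk • x = y := by
    obtain ⟨x', hx', rfl⟩ := Finset.mem_image.1 hx
    have hyI : y ∈ Γ.image π := by
      by_contra h
      have h' : k • y = y := hkq y h
      exact hyx (MulAction.injective k (h'.trans hy.symm))
    obtain ⟨y', hy', rfl⟩ := Finset.mem_image.1 hyI
    obtain ⟨kk, h, h'⟩ := hJ x' hx' y' hy'
    exact ⟨kk, h, by rw [← hπ, h']⟩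
  obtain ⟨ll, hll, hllx⟩ : ∃ ll : G, (∀ z : Ω, π z ∉ g • Γ.image π → ll • z = z) ∧ ll • x = w := by
    obtain ⟨x1, hx1, rfl⟩ := Finset.mem_smul_finset.1 hxg
    obtain ⟨x', hx', rfl⟩ := Finset.mem_image.1 hx1
    have hw' : g⁻¹ • w ∈ Γ.image π := by
      by_contra h
      have h' := hk₁q _ h
      apply hwx
      rw [mul_smul, mul_smul, inv_smul_smul] at hw
      have e : k₁ • π x' = g⁻¹ • w := by rw [← hw, inv_smul_smul]
      have e2 := MulAction.injective k₁ (h'.trans e.symm)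
      rw [← e2, smul_inv_smul]
    obtain ⟨w', hw'', hw'e⟩ := Finset.mem_image.1 hw'
    obtain ⟨k2, h, h'⟩ := hJ x' hx' w' hw''
    refine ⟨g * k2 * g⁻¹, fun z hz => ?_, ?_⟩
    · rw [mul_smul, mul_smul, h _ fun hc => hz ?_, smul_inv_smul]
      have hc' : g • π (g⁻¹ • z) ∈ g • Γ.image π :=
        Finset.smul_mem_smul_finset (Finset.mem_image_of_mem π hc)
      rwa [hπ, smul_inv_smul] at hc'
    · rw [mul_smul, mul_smul, inv_smul_smul, ← hπ, h', hw'e, smul_inv_smul]
  have hkkq : ∀ q ∉ ((Γ.image π : Finset (G ⧸ M)) : Set (G ⧸ M)), kk • q = q := fun q hq => by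
    obtain ⟨z, rfl⟩ := hπs q
    rw [← hπ, hkk z fun h => hq (Finset.mem_image_of_mem π h)]
  have hllq : ∀ q ∉ ((g • Γ.image π : Finset (G ⧸ M)) : Set (G ⧸ M)), ll • q = q := fun q hq => by
    obtain ⟨z, rfl⟩ := hπs q
    rw [← hπ, hll z hq]
  obtain ⟨hc, hyw⟩ := commutator_threeCycle hkkq hllq hx hxg hone hkkx hllx hyx hwx
  set c := ll * kk * ll⁻¹ * kk⁻¹ with hcdef
  have hc3 : (toPerm c : Equiv.Perm (G ⧸ M)).IsThreeCycle :=
    hc ▸ Equiv.Perm.isThreeCycle_swap_mul_swap_same hyx.symm hwx.symm hyw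
  have hcfix : ∀ z, c • π z = π z → c • z = z := by
    intro z hz
    have hne : π z ≠ x ∧ π z ≠ y ∧ π z ≠ w := by
      have hz' : (Equiv.swap x y * Equiv.swap x w) (π z) = π z := by rw [← hc]; exact hz
      refine ⟨fun e => ?_, fun e => ?_, fun e => ?_⟩ <;> rw [e, Equiv.Perm.mul_apply] at hz'
      · rw [Equiv.swap_apply_left, Equiv.swap_apply_of_ne_of_ne hwx hyw.symm] at hz'
        exact hwx hz'
      · rw [Equiv.swap_apply_of_ne_of_ne hyx hyw, Equiv.swap_apply_right] at hz'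
        exact hyx hz'.symm
      · rw [Equiv.swap_apply_right, Equiv.swap_apply_left] at hz'
        exact hyw hz'
    refine commutator_fix (Γ := (Γ : Set Ω)) (Γ' := {z | π z ∈ g • Γ.image π}) hkk hll ?_ ?_ ?_
    · exact fun h => hne.1 (hone _ (Finset.mem_image_of_mem π h.1) h.2)
    · intro h
      have e := hone _ (Finset.mem_image_of_mem π h.1) h.2
      rw [hπ] at e
      exact hne.2.1 (by rw [← hkkx, ← e, smul_inv_smul])
    · intro h
      have e := hone _ (Finset.mem_image_of_mem π h.1) h.2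
      rw [hπ] at e
      exact hne.2.2 (by rw [← hllx, ← e, smul_inv_smul])
  have h5 : 5 ≤ Fintype.card (G ⧸ M) := by omega
  have h3fix : ∀ (a : G), (toPerm a : Equiv.Perm (G ⧸ M)).IsThreeCycle → ∀ z, a • π z = π z → a • z = z := by
    intro a ha z hz
    obtain ⟨σ, hσ⟩ := isConj_iff.1 (alternatingGroup.isThreeCycle_isConj (α := G ⧸ M) (by rw [Nat.card_eq_fintype_card]; exact h5)
      (σ := ⟨_, hc3.mem_alternatingGroup⟩) (τ := ⟨_, ha.mem_alternatingGroup⟩) hc3 ha)
    obtain ⟨h, hh⟩ := halt σ.2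
    have hσ' := congrArg Subtype.val hσ
    simp only [Subgroup.coe_mul, Subgroup.coe_inv] at hσ'
    rw [← hh] at hσ'
    have hinj : Function.Injective (toPermHom G (G ⧸ M)) := MulAction.toPerm_injective
    have ha' : h * c * h⁻¹ = a := hinj (by
      rw [map_mul, map_mul, map_inv]; exact hσ')
    rw [← ha', mul_smul, mul_smul, smul_eq_iff_eq_inv_smul, ← hπ h⁻¹] at hz
    rw [← ha', mul_smul, mul_smul, hcfix _ hz, smul_inv_smul]
  have hfibfix : ∀ a : G, (toPerm a : Equiv.Perm (G ⧸ M)) ∈ alternatingGroup (G ⧸ M) →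
      ∀ z, a • π z = π z → a • z = z := by
    intro a ha z hz
    set q := π z
    let L : Subgroup G := stabilizer G z
    let τ : Equiv.Perm {p : G ⧸ M // p ≠ q} := (toPerm a).subtypePerm fun p => by
      refine not_congr ⟨fun h => ?_, fun h => ?_⟩
      · exact MulAction.injective a (h.trans hz.symm)
      · subst h; exact hz
    have hτ : Equiv.Perm.ofSubtype τ = toPerm a :=
      Equiv.Perm.ofSubtype_subtypePerm _ fun p hp e => hp (by subst e; exact hz)
    have hτs : τ ∈ alternatingGroup {p : G ⧸ M // p ≠ q} := by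
      rw [Equiv.Perm.mem_alternatingGroup, ← Equiv.Perm.sign_ofSubtype, hτ]
      exact Equiv.Perm.mem_alternatingGroup.1 ha
    have gen : ∀ ρ0 ∈ Subgroup.closure {σ : Equiv.Perm {p : G ⧸ M // p ≠ q} | σ.IsThreeCycle},
        Equiv.Perm.ofSubtype ρ0 ∈ L.map (toPermHom G (G ⧸ M)) := by
      intro ρ0 hρ0
      induction hρ0 using Subgroup.closure_induction with
      | mem ρ hρ =>
        have h3 : (Equiv.Perm.ofSubtype ρ).IsThreeCycle := by
          rw [Equiv.Perm.IsThreeCycle, Equiv.Perm.cycleType_ofSubtype]; exact hρ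
        obtain ⟨h, hh⟩ := halt h3.mem_alternatingGroup
        have h3' : (toPerm h : Equiv.Perm (G ⧸ M)).IsThreeCycle := by rw [show (toPerm h : Equiv.Perm (G ⧸ M)) = _ from hh]; exact h3
        refine ⟨h, mem_stabilizer_iff.2 (h3fix h h3' z ?_), hh⟩
        show toPermHom G (G ⧸ M) h q = q
        rw [hh]
        exact Equiv.Perm.ofSubtype_apply_of_not_mem _ (by simp)
      | one => rw [map_one]; exact one_mem _
      | mul _ _ _ _ h1 h2 => rw [map_mul]; exact mul_mem h1 h2
      | inv _ _ h => rw [map_inv]; exact inv_mem h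
    obtain ⟨l, hl, hla⟩ := gen τ (Equiv.Perm.closure_three_cycles_eq_alternating (α := {p : G ⧸ M // p ≠ q}) ▸ hτs)
    have hinj : Function.Injective (toPermHom G (G ⧸ M)) := MulAction.toPerm_injective
    have hal : l = a := hinj (hla.trans hτ)
    exact hal ▸ mem_stabilizer_iff.1 hl
  set A := (alternatingGroup (G ⧸ M)).comap (toPermHom G (G ⧸ M))
  have hA : A ≠ ⊥ := fun h => by
    have : c ∈ A := hc3.mem_alternatingGroup
    rw [h, Subgroup.mem_bot] at this
    have h3 := hc3.orderOf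
    rw [this] at h3
    rw [show (toPerm (1 : G) : Equiv.Perm (G ⧸ M)) = 1 from map_one (toPermHom G (G ⧸ M)), orderOf_one] at h3
    omega
  haveI := hqp A inferInstance hA
  have hMle : M ≤ stabilizer G x0 := by
    intro m hm
    obtain ⟨a, ha⟩ := exists_smul_eq A x0 (m • x0)
    have hmx : m • π x0 = π x0 := by
      have e : π x0 = ((1 : G) : G ⧸ M) := QuotientGroup.eq.2 (by
        have : rep x0 ∈ M := hle (mem_stabilizer_iff.2 (hrep x0))
        simpa using inv_mem this)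
      rw [e]
      show ((m * 1 : G) : G ⧸ M) = ((1 : G) : G ⧸ M)
      exact QuotientGroup.eq.2 (by simpa using inv_mem hm)
    have := hfibfix (a : G) a.2 x0 (by rw [← hπ, show (a : G) • x0 = m • x0 from ha, hπ, hmx])
    rw [mem_stabilizer_iff, ← ha]
    exact this
  rwa [le_antisymm hle hMle]

/-- Let G act faithfully on a finite set in such a way that every non-trivial normal subgroup of G is transitive (G is quasiprimitive). Let Γ be a subset with more than one point and fewer than half of the points, such that the pointwise stabilizer of the complement of Γ acts transitively on Γ. Then G induces every even permutation of the set (G is the alternating or the symmetric group). -/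
theorem result {G Ω : Type*} [Group G] [Finite G] [MulAction G Ω] [FaithfulSMul G Ω] [Fintype Ω] [DecidableEq Ω]
    (hqp : ∀ N : Subgroup G, N.Normal → N ≠ ⊥ → MulAction.IsPretransitive ↥N Ω)
    (Γ : Set Ω) (hΓ1 : 1 < Γ.ncard) (hΓ2 : 2 * Γ.ncard < Fintype.card Ω)
    (hJ : MulAction.IsPretransitive ↥(fixingSubgroup G Γᶜ) ↥(SubMulAction.ofFixingSubgroup G Γᶜ)) :
    ∀ σ : Equiv.Perm Ω, Equiv.Perm.sign σ = 1 → ∃ x : G, (MulAction.toPerm x : Equiv.Perm Ω) = σ := by
  classical
  set Γ' : Finset Ω := Γ.toFinset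
  have hΓc : Γ'.card = Γ.ncard := (Set.ncard_eq_toFinset_card' Γ).symm
  have hJ' : CfsgLib.Recognition.Jordan.IsJordanSet G (Γ' : Set Ω) := by
    rw [Set.coe_toFinset]
    intro x hx y hy
    have hm : ∀ {z}, z ∈ Γ → z ∈ SubMulAction.ofFixingSubgroup G Γᶜ := fun {z} hz =>
      (SubMulAction.mem_ofFixingSubgroup_iff G).2 fun h => h hz
    haveI := hJ
    obtain ⟨g, hg⟩ := MulAction.exists_smul_eq (fixingSubgroup G Γᶜ) (⟨x, hm hx⟩ : SubMulAction.ofFixingSubgroup G Γᶜ) ⟨y, hm hy⟩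
    exact ⟨g, fun z hz => (mem_fixingSubgroup_iff G).1 g.2 z hz, congrArg Subtype.val hg⟩
  have h1 : 1 < Γ'.card := hΓc ▸ hΓ1
  have h2 : 2 * Γ'.card < Fintype.card Ω := hΓc ▸ hΓ2
  haveI : Finite G := inferInstance
  haveI : Nontrivial G := by
    obtain ⟨a, ha, b, hb, hab⟩ := Finset.one_lt_card.1 h1
    obtain ⟨g, -, hg⟩ := hJ' a ha b hb
    exact ⟨g, 1, fun h => hab (by rw [← hg, h, one_smul])⟩
  haveI : MulAction.IsPretransitive G Ω := by
    haveI := hqp ⊤ inferInstance top_ne_bot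
    exact ⟨fun a b => by
      obtain ⟨g, hg⟩ := MulAction.exists_smul_eq (⊤ : Subgroup G) a b
      exact ⟨g, hg⟩⟩
  haveI : Nontrivial Ω := Fintype.one_lt_card_iff_nontrivial.1 (by omega)
  obtain ⟨x0⟩ := (inferInstance : Nonempty Ω)
  have hprim : MulAction.IsPreprimitive G Ω :=
    (MulAction.isCoatom_stabilizer_iff_preprimitive G x0).1
      (stabilizer_coatom_of_quasiprimitive hqp Γ' hJ' h1 h2 x0)
  intro σ hσ
  obtain ⟨x, hx⟩ := CfsgLib.Recognition.Jordan.alternating_le hprim hJ' h1 h2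
    (Equiv.Perm.mem_alternatingGroup.2 hσ)
  exact ⟨x, hx⟩

end Cfsg.Agent.S3620
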