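import Cfsg.Statements.S3626
import Cfsg.Agent.S1159
import Cfsg.Agent.Lib.Spectrum.ReeTwin

set_option autoImplicit false
open Cfsg

namespace Cfsg.Agent.S3626

open CfsgLib.Spectrum

theorem mem_twistedG2_exists_lcm {K : Type*} [Field K] [Fintype K] {m : ℕ} (hm : 1 ≤ m)
    (hK : Fintype.card K = 3 ^ (2 * m + 1)) {a b : ↥(Cfsg.Lie.twistedG2 K (3 ^ m))}
    {n : ℕ} (hn : n = 3 ^ (2 * m + 1) - 3 ^ (m + 1) + 1 ∨ n = 3 ^ (2 * m + 1) + 3 ^ (m + 1) + 1)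
    (ha : orderOf a ∣ n) (hb : orderOf b ∣ n) :
    ∃ c : ↥(Cfsg.Lie.twistedG2 K (3 ^ m)), orderOf c = Nat.lcm (orderOf a) (orderOf b) := by
  refine (Cfsg.Agent.S1159.result hm hK _).2 ?_
  rcases hn with rfl | rfl
  · exact Or.inr (Or.inr (Or.inr (Or.inr (Or.inl (Nat.lcm_dvd ha hb)))))
  · exact Or.inr (Or.inr (Or.inr (Or.inr (Or.inr (Nat.lcm_dvd ha hb)))))

theorem range_eq {K : Type*} [Field K] [Fintype K] [CharP K 3] {m : ℕ} (hm : 1 ≤ m)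
    (hK : Fintype.card K = 3 ^ (2 * m + 1)) {k : ℕ} (hk : 1 ≤ k) :
    Set.range (orderOf : ↥(Cfsg.Lie.twistedG2 K (3 ^ m)) × ↥(Cfsg.Lie.twistedG2 K (3 ^ m)) ×
      ((Fin k → Multiplicative (Matrix (Fin 2) (Fin 2) K)) ⋊[powAct ReeTwin.act k] ReeTwin.Act K) → ℕ) =
    Set.range (orderOf : ↥(Cfsg.Lie.twistedG2 K (3 ^ m)) × ↥(Cfsg.Lie.twistedG2 K (3 ^ m)) ×
      ↥(Cfsg.Lie.twistedG2 K (3 ^ m)) → ℕ) := by
  have hspec := Cfsg.Agent.S1159.result hm hK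
  have up : ∀ x : (Fin k → Multiplicative (Matrix (Fin 2) (Fin 2) K)) ⋊[powAct ReeTwin.act k] ReeTwin.Act K,
      ∃ r : ↥(Cfsg.Lie.twistedG2 K (3 ^ m)), orderOf r = orderOf x := fun x => by
    refine (hspec _).2 ?_
    rcases ReeTwin.orders_upper hK x with h | h | h | h
    exacts [Or.inl h, Or.inr (Or.inl h), Or.inr (Or.inr (Or.inl h)), Or.inr (Or.inr (Or.inr (Or.inl h)))]
  ext n
  constructor
  · rintro ⟨⟨a, b, x⟩, rfl⟩
    obtain ⟨r, hr⟩ := up x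
    exact ⟨(a, b, r), by rw [Prod.orderOf, Prod.orderOf, Prod.orderOf, Prod.orderOf, hr]⟩
  · rintro ⟨⟨a, b, c⟩, rfl⟩
    set n₁ := 3 ^ (2 * m + 1) - 3 ^ (m + 1) + 1
    set n₂ := 3 ^ (2 * m + 1) + 3 ^ (m + 1) + 1
    have down : ∀ r : ↥(Cfsg.Lie.twistedG2 K (3 ^ m)),
        (∃ x : (Fin k → Multiplicative (Matrix (Fin 2) (Fin 2) K)) ⋊[powAct ReeTwin.act k] ReeTwin.Act K,
          orderOf x = orderOf r) ∨ orderOf r ∣ n₁ ∨ orderOf r ∣ n₂ := fun r => by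
      rcases (hspec _).1 ⟨r, rfl⟩ with h | h | h | h | h | h
      · exact Or.inl (ReeTwin.orders_lower hK hk (Or.inl h) hm)
      · exact Or.inl (ReeTwin.orders_lower hK hk (Or.inr (Or.inl h)) hm)
      · exact Or.inl (ReeTwin.orders_lower hK hk (Or.inr (Or.inr (Or.inl h))) hm)
      · exact Or.inl (ReeTwin.orders_lower hK hk (Or.inr (Or.inr (Or.inr h))) hm)
      · exact Or.inr (Or.inl h)
      · exact Or.inr (Or.inr h)
    simp only [Set.mem_range, Prod.exists, Prod.orderOf]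
    have pair : ∀ u v w : ↥(Cfsg.Lie.twistedG2 K (3 ^ m)), (orderOf u ∣ n₁ ∧ orderOf v ∣ n₁ ∨ orderOf u ∣ n₂ ∧ orderOf v ∣ n₂) →
        ∃ p q x, Nat.lcm (orderOf (p : ↥(Cfsg.Lie.twistedG2 K (3 ^ m)))) (Nat.lcm (orderOf (q : ↥(Cfsg.Lie.twistedG2 K (3 ^ m))))
          (orderOf (x : (Fin k → Multiplicative (Matrix (Fin 2) (Fin 2) K)) ⋊[powAct ReeTwin.act k] ReeTwin.Act K))) =
          Nat.lcm (Nat.lcm (orderOf u) (orderOf v)) (orderOf w) := by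
      rintro u v w (⟨hu, hv⟩ | ⟨hu, hv⟩)
      · obtain ⟨d, hd⟩ := mem_twistedG2_exists_lcm hm hK (Or.inl rfl) hu hv
        exact ⟨d, w, 1, by rw [orderOf_one, Nat.lcm_one_right, hd]⟩
      · obtain ⟨d, hd⟩ := mem_twistedG2_exists_lcm hm hK (Or.inr rfl) hu hv
        exact ⟨d, w, 1, by rw [orderOf_one, Nat.lcm_one_right, hd]⟩
    rcases down c with ⟨x, hx⟩ | hc
    · exact ⟨a, b, x, by rw [hx]⟩
    rcases down b with ⟨x, hx⟩ | hb
    · exact ⟨a, c, x, by rw [hx, Nat.lcm_comm (orderOf c)]⟩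
    rcases down a with ⟨x, hx⟩ | ha
    · exact ⟨b, c, x, by rw [hx, ← Nat.lcm_assoc, Nat.lcm_comm _ (orderOf a)]⟩
    have fab : ∀ _ : orderOf a ∣ n₁ ∧ orderOf b ∣ n₁ ∨ orderOf a ∣ n₂ ∧ orderOf b ∣ n₂, ∃ p q x,
        Nat.lcm (orderOf (p : ↥(Cfsg.Lie.twistedG2 K (3 ^ m)))) (Nat.lcm (orderOf (q : ↥(Cfsg.Lie.twistedG2 K (3 ^ m))))
          (orderOf (x : (Fin k → Multiplicative (Matrix (Fin 2) (Fin 2) K)) ⋊[powAct ReeTwin.act k] ReeTwin.Act K))) =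
          Nat.lcm (orderOf a) (Nat.lcm (orderOf b) (orderOf c)) := fun h => by
      obtain ⟨p, q, x, e⟩ := pair a b c h
      exact ⟨p, q, x, by rw [e, Nat.lcm_assoc]⟩
    rcases ha with ha | ha <;> rcases hb with hb | hb
    · exact fab (Or.inl ⟨ha, hb⟩)
    rotate_left 2
    · exact fab (Or.inr ⟨ha, hb⟩)
    all_goals rcases hc with hc | hc
    · obtain ⟨p, q, x, e⟩ := pair a c b (Or.inl ⟨ha, hc⟩)
      exact ⟨p, q, x, by rw [e, Nat.lcm_assoc, Nat.lcm_comm (orderOf c)]⟩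
    · obtain ⟨p, q, x, e⟩ := pair b c a (Or.inr ⟨hb, hc⟩)
      exact ⟨p, q, x, by rw [e, Nat.lcm_comm]⟩
    · obtain ⟨p, q, x, e⟩ := pair b c a (Or.inl ⟨hb, hc⟩)
      exact ⟨p, q, x, by rw [e, Nat.lcm_comm]⟩
    · obtain ⟨p, q, x, e⟩ := pair a c b (Or.inr ⟨ha, hc⟩)
      exact ⟨p, q, x, by rw [e, Nat.lcm_assoc, Nat.lcm_comm (orderOf c)]⟩

/-- Let R be the small Ree group over the field with q = 3^(2m+1) ≥ 27 elements. Then there are finite groups of arbitrarily large order with exactly the same set of element orders as R × R × R. -/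
theorem result {K : Type*} [Field K] [Fintype K] {m : ℕ} (hm : 1 ≤ m) (hK : Fintype.card K = 3 ^ (2 * m + 1)) (N : ℕ) :
    ∃ (H : Type) (_ : Group H) (_ : Fintype H), N < Fintype.card H ∧
      Set.range (orderOf : H → ℕ) = Set.range (orderOf : ↥(Cfsg.Lie.twistedG2 K (3 ^ m)) × ↥(Cfsg.Lie.twistedG2 K (3 ^ m)) × ↥(Cfsg.Lie.twistedG2 K (3 ^ m)) → ℕ) := by
  haveI : CharP K 3 := by
    obtain ⟨p, hp⟩ := CharP.exists K
    obtain ⟨n, hpr, hn⟩ := FiniteField.card K p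
    have hd : p ∣ 3 ^ (2 * m + 1) := hK ▸ hn ▸ dvd_pow_self p n.ne_zero
    obtain rfl := (Nat.prime_dvd_prime_iff_eq hpr Nat.prime_three).1 (hpr.dvd_of_dvd_pow hd)
    exact hp
  obtain ⟨H, _, _, ⟨e⟩⟩ := exists_small_equiv (↥(Cfsg.Lie.twistedG2 K (3 ^ m)) × ↥(Cfsg.Lie.twistedG2 K (3 ^ m)) ×
    ((Fin (N + 1) → Multiplicative (Matrix (Fin 2) (Fin 2) K)) ⋊[powAct ReeTwin.act (N + 1)] ReeTwin.Act K))
  refine ⟨H, inferInstance, inferInstance, ?_, (range_orderOf_congr e).trans (range_eq hm hK (by omega))⟩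
  rw [← Nat.card_eq_fintype_card, Nat.card_congr e.toEquiv, Nat.card_prod, Nat.card_prod, ← mul_assoc]
  refine lt_of_lt_of_le (lt_trans (Nat.lt_succ_self N) ?_) (Nat.le_mul_of_pos_left _ (Nat.mul_pos Nat.card_pos Nat.card_pos))
  exact lt_card_pow_semidirect _

end Cfsg.Agent.S3626
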