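import Cfsg.Statements.S3639
import Cfsg.Agent.Lib.Spectrum.Semidirect
import Cfsg.Agent.Lib.Spectrum.Suzuki

set_option autoImplicit false
open Cfsg

namespace Cfsg.Agent.S3639

/-- Let S be the Suzuki group over the field with q = 2^(2m+1) ≥ 8 elements. Then there are finite groups of arbitrarily large order with the same prime graph as S. -/
theorem result {F : Type*} [Field F] [Fintype F] {m : ℕ} (hm : 1 ≤ m) (hF : Fintype.card F = 2 ^ (2 * m + 1)) (N : ℕ) :
    ∃ (H : Type) (_ : Group H) (_ : Fintype H), N < Fintype.card H ∧ ((∀ r : ℕ, r.Prime → (r ∣ Nat.card ↥(Cfsg.Lie.Sz F (2 ^ (m + 1))) ↔ r ∣ Nat.card H)) ∧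
      (∀ r s : ℕ, r.Prime → s.Prime → r ≠ s → ((∃ x : ↥(Cfsg.Lie.Sz F (2 ^ (m + 1))), orderOf x = r * s) ↔ (∃ y : H, orderOf y = r * s)))) := by
  haveI : CharP F 2 := by
    have h : ((2 : F)) ^ (2 * m + 1) = 0 := by
      have := Nat.cast_card_eq_zero F
      rw [hF] at this
      exact_mod_cast this
    exact CharTwo.of_one_ne_zero_of_two_eq_zero one_ne_zero (pow_eq_zero_iff (by omega) |>.1 h)
  set K := Cfsg.Lie.Sz F (2 ^ (m + 1)) with hK
  obtain ⟨H, i1, i2, ⟨e⟩⟩ := CfsgLib.Spectrum.exists_small_equiv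
    ((Fin N → Multiplicative (Fin 4 → F)) ⋊[CfsgLib.Spectrum.powAct
      (CfsgLib.Spectrum.glVecAct K) N] K)
  refine ⟨H, i1, i2, ?_, ?_⟩
  · rw [← Nat.card_eq_fintype_card, Nat.card_congr e.toEquiv]
    exact CfsgLib.Spectrum.lt_card_pow_semidirect N
  have h2K : 2 ∣ Nat.card K := by
    have h := Subgroup.orderOf_mk (CfsgLib.Spectrum.antiJUnit : GL (Fin 4) F)
      (CfsgLib.Spectrum.antiJUnit_mem_sz (m + 1))
    have := orderOf_dvd_natCard (⟨_, CfsgLib.Spectrum.antiJUnit_mem_sz (m + 1)⟩ : K)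
    rw [h, CfsgLib.Spectrum.orderOf_antiJUnit] at this
    exact this
  have hf : ∀ g : K, (orderOf g).Prime → orderOf g ≠ 2 →
      ∀ v, CfsgLib.Spectrum.glVecAct K g v = v → v = 1 := by
    intro g hg hg2 v hv
    by_contra hv1
    have h4 := CfsgLib.Spectrum.sz_pow_four_eq_one (k := m + 1) g.2 (v := v.toAdd) hv1
      (by rw [← CfsgLib.Spectrum.glVecAct_apply, hv])
    have h4' : g ^ 4 = 1 := Subtype.ext (by rw [Subgroup.coe_pow, h4, Subgroup.coe_one])
    have h2 : orderOf g ∣ 2 ^ 2 := orderOf_dvd_of_pow_eq_one h4'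
    exact hg2 ((Nat.prime_dvd_prime_iff_eq hg Nat.prime_two).1 (hg.dvd_of_dvd_pow h2))
  obtain ⟨h1, h2⟩ := CfsgLib.Spectrum.primeGraph_pow (φ := CfsgLib.Spectrum.glVecAct K)
    Nat.prime_two h2K
    (fun v => by
      apply Multiplicative.toAdd.injective
      ext i
      simp [CharTwo.two_nsmul, nsmul_eq_mul, CharTwo.two_eq_zero])
    (fun g hg hg2 => Or.inl (hf g hg hg2)) N
  refine ⟨fun r hr => ?_, fun r s hr hs hrs => ?_⟩
  · rw [Nat.card_congr e.toEquiv]
    exact h1 r hr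
  · have t2 := Set.ext_iff.1 (CfsgLib.Spectrum.range_orderOf_congr e) (r * s)
    simp only [Set.mem_range] at t2
    rw [t2]
    exact h2 r s hr hs hrs

end Cfsg.Agent.S3639
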