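import Cfsg.Statements.S3641
import Cfsg.Agent.S0732
import Cfsg.Agent.S0811
import Cfsg.Agent.S0812
import Cfsg.Agent.Lib.SylowNumbers.Product
import Cfsg.Agent.Lib.SylowNumbers.TwoPrimeAddOne
import Cfsg.Agent.Lib.Classical.GLOrder
import Cfsg.Agent.Lib.Classical.Dickson.PSLMap
import Cfsg.Agent.Lib.Classical.Dickson.MinIndex
import Cfsg.Agent.Lib.PGroup.Basic
import Mathlib

set_option autoImplicit false
open Cfsg

namespace Cfsg.Agent.S3641

open Subgroup MulAction

theorem card_psl17 : Nat.card (Matrix.ProjectiveSpecialLinearGroup (Fin 2) (ZMod 17)) = 2448 := by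
  haveI : Fact (Nat.Prime 17) := ⟨by norm_num⟩
  have h1 := CfsgLib.Classical.Dickson.gcd_mul_card_PSL (F := ZMod 17) (ZMod.card 17)
  norm_num [-Nat.card_eq_fintype_card] at h1
  omega

theorem psl17_sylow (r : ℕ) [Fact r.Prime] (hr : r = 2 ∨ r = 3) :
    Nat.card (Sylow r (Matrix.ProjectiveSpecialLinearGroup (Fin 2) (ZMod 17))) =
      if r = 2 then 153 else 136 := by
  haveI : Fact (Nat.Prime 17) := ⟨by norm_num⟩
  set L := Matrix.ProjectiveSpecialLinearGroup (Fin 2) (ZMod 17)
  haveI : IsSimpleGroup L :=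
    Matrix.ProjectiveSpecialLinearGroup.rank_two_simple (by rw [Nat.card_eq_fintype_card, ZMod.card]; norm_num)
  have hc : Nat.card L = 2448 := card_psl17
  have key : ∀ (H : Subgroup L) (Q : Sylow r L), IsCoatom H →
      (∀ h ∈ H, h ∈ Subgroup.normalizer ((Q : Subgroup L) : Set L)) → (Q : Subgroup L) ≠ ⊥ →
      (Q : Subgroup L) ≤ H → Nat.card (Sylow r L) = H.index := by
    intro H Q hH hN hne hle
    rw [Q.card_eq_index_normalizer]
    rcases hH.le_iff.1 (show H ≤ Subgroup.normalizer ((Q : Subgroup L) : Set L) from hN) with h | h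
    · exfalso
      rcases (Subgroup.normalizer_eq_top_iff.1 h).eq_bot_or_eq_top with h' | h'
      · exact hne h'
      · exact hH.1 (top_unique (h' ▸ hle))
    · exact congrArg Subgroup.index h
  rcases hr with rfl | rfl
  · obtain ⟨H, hH, ⟨e⟩⟩ := Cfsg.Agent.S0812.result (ZMod.card 17) (by decide)
    have hH16 : Nat.card H = 16 := by
      rw [Nat.card_congr e.toEquiv, DihedralGroup.nat_card]
      rfl
    have hf : Nat.card H = 2 ^ (Nat.card L).factorization 2 := by
      rw [hH16, hc, Nat.factorization_def _ Nat.prime_two]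
      rw [show padicValNat 2 2448 = 4 from by
        rw [show (2448 : ℕ) = 2 ^ 4 * 153 by norm_num, padicValNat.mul (by norm_num) (by norm_num),
          padicValNat.prime_pow, padicValNat.eq_zero_of_not_dvd (by norm_num)]]
      norm_num
    have h := key H (Sylow.ofCard H hf) hH (fun h hh => Subgroup.le_normalizer hh)
      (fun h => by rw [Sylow.coe_ofCard] at h; rw [h, Subgroup.card_bot] at hH16; omega) le_rfl
    rw [if_pos rfl, h]
    have := Subgroup.card_mul_index H
    rw [hH16, hc] at this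
    omega
  · obtain ⟨H, hH, ⟨e⟩⟩ := Cfsg.Agent.S0811.result (ZMod.card 17) (by decide)
    have hH18 : Nat.card H = 18 := by
      rw [Nat.card_congr e.toEquiv, DihedralGroup.nat_card]
      rfl
    obtain ⟨Q0⟩ : Nonempty (Sylow 3 H) := inferInstance
    have hQ0 : Nat.card (Q0 : Subgroup H) = 9 := by
      rw [Q0.card_eq_multiplicity, hH18, Nat.factorization_def _ Nat.prime_three,
        show (18 : ℕ) = 3 ^ 2 * 2 by norm_num, padicValNat.mul (by norm_num) (by norm_num),
        padicValNat.prime_pow, padicValNat.eq_zero_of_not_dvd (by norm_num)]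
      norm_num
    haveI hQn : (Q0 : Subgroup H).Normal := by
      refine Subgroup.normal_of_index_eq_two ?_
      have := Subgroup.card_mul_index (Q0 : Subgroup H)
      rw [hQ0, hH18] at this
      omega
    have hQc : Nat.card ((Q0 : Subgroup H).map H.subtype) = 3 ^ (Nat.card L).factorization 3 := by
      rw [Subgroup.card_map_of_injective H.subtype_injective, hQ0, hc, Nat.factorization_def _ Nat.prime_three,
        show (2448 : ℕ) = 3 ^ 2 * 272 by norm_num, padicValNat.mul (by norm_num) (by norm_num),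
        padicValNat.prime_pow, padicValNat.eq_zero_of_not_dvd (by norm_num)]
      norm_num
    have hQN : ∀ h ∈ H, h ∈ Subgroup.normalizer ((((Q0 : Subgroup H).map H.subtype) : Subgroup L) : Set L) := by
      intro h hh
      have h1 := Subgroup.le_normalizer_map (H := (Q0 : Subgroup H)) H.subtype
      refine h1 ⟨⟨h, hh⟩, ?_, rfl⟩
      rw [Subgroup.normalizer_eq_top_iff.2 hQn]
      trivial
    have h := key H (Sylow.ofCard _ hQc) hH (by rw [Sylow.coe_ofCard]; exact hQN)
      (fun h => by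
        rw [Sylow.coe_ofCard] at h
        have := hQc
        rw [h, Subgroup.card_bot, ← hQc, Subgroup.card_map_of_injective H.subtype_injective, hQ0] at this
        omega)
      (by rw [Sylow.coe_ofCard]; exact Subgroup.map_subtype_le _)
    rw [if_neg (by norm_num), h]
    have := Subgroup.card_mul_index H
    rw [hH18, hc] at this
    omega

theorem card_sylow_le_of_injective {A B : Type*} [Group A] [Group B] [Finite B] {r : ℕ} [Fact r.Prime]
    (f : A →* B) (hf : Function.Injective f) : Nat.card (Sylow r A) ≤ Nat.card (Sylow r B) := by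
  haveI : Finite A := Finite.of_injective f hf
  have hex : ∀ R : Sylow r A, ∃ S : Sylow r B, (R : Subgroup A).map f ≤ S := fun R =>
    (R.2.map f).exists_le_sylow
  choose g hg using hex
  refine Nat.card_le_card_of_injective g fun R R' hRR => ?_
  have hp : IsPGroup r ((g R : Subgroup B).comap f) := (g R).2.comap_of_injective f hf
  have h1 : (R : Subgroup A) ≤ (g R : Subgroup B).comap f := Subgroup.map_le_iff_le_comap.1 (hg R)
  have h2 : (R' : Subgroup A) ≤ (g R : Subgroup B).comap f :=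
    Subgroup.map_le_iff_le_comap.1 (hRR ▸ hg R')
  exact Sylow.ext ((R.3 hp h1).symm.trans (R'.3 hp h2))

section
variable {G : Type*} [Group G] [Finite G]

/-- The image of `G` on its Sylow `17`-subgroups, when there are `18` of them. -/
theorem range_cases (α : Type*) [Fintype α] [DecidableEq α] (hα : Fintype.card α = 18)
    (X : Subgroup (Equiv.Perm α)) [IsPretransitive X α] (P : Subgroup X) (a : α)
    (hfix : ∀ p ∈ P, p • a = a) (hmove : ∀ b, b ≠ a → ∃ p ∈ P, p • b ≠ b) (hp : IsPGroup 17 P)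
    (hnor : ∀ g : X, g • a = a → g ∈ Subgroup.normalizer (P : Set X)) :
    Nonempty (X ≃* Matrix.ProjGenLinGroup (Fin 2) (ZMod 17)) ∨
      Nonempty (X ≃* Matrix.ProjectiveSpecialLinearGroup (Fin 2) (ZMod 17)) := by
  classical
  haveI h17 : Fact (Nat.Prime 17) := ⟨by norm_num⟩
  obtain ⟨k, hk⟩ := hp.exists_card_eq
  have hdvd : Nat.card P ∣ Nat.card (Equiv.Perm α) :=
    dvd_trans (Subgroup.card_subgroup_dvd_card P) (Subgroup.card_subgroup_dvd_card X)
  rw [hk, Nat.card_perm, Nat.card_eq_fintype_card, hα] at hdvd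
  have hk1 : k ≤ 1 := by
    by_contra h
    have h2 : 17 ^ 2 ∣ (18).factorial := dvd_trans (pow_dvd_pow 17 (by omega)) hdvd
    norm_num [Nat.factorial] at h2
  have hP1 : k ≠ 0 := by
    intro h
    obtain ⟨b, hb⟩ := Fintype.exists_ne_of_one_lt_card (by omega : 1 < Fintype.card α) a
    obtain ⟨p, hp, hpb⟩ := hmove b hb
    have hbot : P = ⊥ := by rw [← Subgroup.card_eq_one, hk, h, pow_zero]
    rw [hbot, Subgroup.mem_bot] at hp
    exact hpb (by rw [hp, one_smul])
  have hP17 : Nat.card P = 17 := by rw [hk, show k = 1 by omega, pow_one]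
  haveI : IsCyclic P := isCyclic_of_prime_card hP17
  have hcomm : ∀ x ∈ P, ∀ y ∈ P, x * y = y * x := fun x hx y hy => by
    haveI : IsMulCommutative P := IsCyclic.isMulCommutative
    exact congrArg Subtype.val (mul_comm' (⟨x, hx⟩ : P) ⟨y, hy⟩)
  -- the orbit of a moved point is everything else
  have horb : ∀ b c, b ≠ a → c ≠ a → ∃ p ∈ P, p • b = c := by
    intro b c hb hc
    have h1 : Nat.card (orbit P b) ∣ 17 := by
      rw [Nat.card_coe_set_eq, ← index_stabilizer, ← hP17]
      exact Subgroup.index_dvd_card _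
    have hne : Nat.card (orbit P b) ≠ 1 := by
      intro h
      obtain ⟨p, hp, hpb⟩ := hmove b hb
      obtain ⟨hs, -⟩ := Nat.card_eq_one_iff_unique.1 h
      exact hpb (congrArg Subtype.val (@Subsingleton.elim _ hs ⟨p • b, ⟨⟨p, hp⟩, rfl⟩⟩ ⟨b, mem_orbit_self b⟩))
    have h17' : Nat.card (orbit P b) = 17 := ((Nat.dvd_prime h17.out).1 h1).resolve_left hne
    have heq : orbit P b = ({a}ᶜ : Set α) := by
      refine Set.eq_of_subset_of_ncard_le ?_ ?_ (Set.toFinite _)
      · rintro _ ⟨⟨p, hp⟩, rfl⟩ (h : (p : X) • b = a)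
        exact hb (smul_left_cancel p (h.trans (hfix p hp).symm))
      · rw [Set.ncard_compl, Set.ncard_singleton, Nat.card_eq_fintype_card, hα, ← Nat.card_coe_set_eq, h17']
    obtain ⟨⟨p, hp⟩, hpc⟩ : c ∈ orbit P b := by rw [heq]; exact hc
    exact ⟨p, hp, hpc⟩
  set St := stabilizer X a
  have hSt : St ≤ Subgroup.normalizer (P : Set X) := fun g hg => hnor g hg
  let f : St →* MulAut P := P.normalizerMonoidHom.comp (Subgroup.inclusion hSt)
  have hker : f.ker = P.subgroupOf St := by
    ext x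
    rw [MonoidHom.mem_ker, MonoidHom.comp_apply, ← MonoidHom.mem_ker, Subgroup.normalizerMonoidHom_ker,
      Subgroup.mem_subgroupOf, Subgroup.mem_subgroupOf, Subgroup.coe_inclusion]
    constructor
    · intro hx
      obtain ⟨b, hb⟩ := Fintype.exists_ne_of_one_lt_card (by omega : 1 < Fintype.card α) a
      have hxb : (x : X) • b ≠ a := fun h => hb (smul_left_cancel (x : X) (h.trans (x.2 : (x : X) • a = a).symm))
      obtain ⟨p, hp, hpb⟩ := horb b _ hb hxb
      suffices h : (x : X) = p by rw [h]; exact hp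
      refine FaithfulSMul.eq_of_smul_eq_smul (α := α) fun c => ?_
      by_cases hc : c = a
      · rw [hc, hfix p hp]; exact x.2
      · obtain ⟨q, hq, hqc⟩ := horb b c hb hc
        have e1 : q * (x : X) = (x : X) * q := Subgroup.mem_centralizer_iff.1 hx q hq
        have e2 : q * p = p * q := hcomm q hq p hp
        rw [← hqc, ← mul_smul, ← mul_smul, ← e1, ← e2, mul_smul, mul_smul, hpb]
    · intro hx
      refine Subgroup.mem_centralizer_iff.2 fun q hq => ?_
      exact hcomm q hq _ hx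
  have hPle : P ≤ St := fun p hp => hfix p hp
  have hrange : Nat.card f.range ∣ 16 := by
    have h1 := Subgroup.card_subgroup_dvd_card f.range
    rwa [IsCyclic.card_mulAut, hP17, Nat.totient_prime h17.out] at h1
  have hcardSt : Nat.card St = 17 * Nat.card f.range := by
    rw [← Subgroup.card_mul_index f.ker, Subgroup.index_ker, hker,
      Nat.card_congr (Subgroup.subgroupOfEquivOfLe hPle).toEquiv, hP17]
  have hX : Nat.card X = (17 + 1) * 17 * Nat.card f.range := by
    have h1 := Subgroup.card_mul_index St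
    rw [index_stabilizer_of_transitive, hcardSt, Nat.card_eq_fintype_card (α := α), hα] at h1
    rw [← h1]
    ring
  rcases Cfsg.Agent.S0732.result h17.out (by rw [hα]) X hX
      (by have := Nat.le_of_dvd (by norm_num) hrange; omega) with ⟨-, h⟩ | ⟨-, h⟩ | ⟨q, -, hq, -⟩
  · exact Or.inl h
  · exact Or.inr h
  · exfalso
    have h3 : 3 ∣ 2 ^ q := hq ▸ ⟨6, rfl⟩
    have := Nat.Prime.dvd_of_dvd_pow Nat.prime_three h3
    norm_num at this

theorem smul_mem_of_normalizes {r : ℕ} {g : G} {Q : Sylow r G} (h : g • Q = Q) {x : G} (hx : x ∈ (Q : Subgroup G)) :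
    g * x * g⁻¹ ∈ (Q : Subgroup G) :=
  (Subgroup.mem_normalizer_iff.1 (Sylow.smul_eq_iff_mem_normalizer.1 h) x).1 hx

/-- If `K` is normal and normalizes all Sylow `r`-subgroups, so `Q ⊓ K` is independent of `Q`. -/
theorem inf_le_inf {r : ℕ} [Fact r.Prime] (K : Subgroup G) [K.Normal]
    (h : ∀ k ∈ K, ∀ Q : Sylow r G, k • Q = Q) (P Q : Sylow r G) :
    (P : Subgroup G) ⊓ K ≤ (Q : Subgroup G) := by
  have hle : (P : Subgroup G) ⊓ K ≤ Subgroup.normalizer ((Q : Subgroup G) : Set G) := fun x hx =>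
    Sylow.smul_eq_iff_mem_normalizer.1 (h x hx.2 Q)
  have h1 := Q.3 (IsPGroup.to_sup_of_normal_right' (P.2.to_le inf_le_left) Q.2 hle) le_sup_right
  exact h1 ▸ le_sup_left

theorem commute_of_normalizes {r s : ℕ} [hr : Fact r.Prime] [hs : Fact s.Prime] (hrs : r ≠ s)
    (W : Subgroup G) [W.Normal] (hW : IsPGroup r W) (R : Sylow s G) (h : ∀ w ∈ W, w • R = R)
    {w : G} (hw : w ∈ W) {x : G} (hx : x ∈ (R : Subgroup G)) : w * x = x * w := by
  have hd : Disjoint W (R : Subgroup G) := IsPGroup.disjoint_of_ne r s hrs _ _ hW R.2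
  have h1 : w * x * w⁻¹ * x⁻¹ ∈ W := by
    have := W.mul_mem hw (Subgroup.Normal.conj_mem inferInstance w⁻¹ (W.inv_mem hw) x)
    simpa [mul_assoc] using this
  have h2 : w * x * w⁻¹ * x⁻¹ ∈ (R : Subgroup G) :=
    mul_mem (smul_mem_of_normalizes (h w hw) hx) (inv_mem hx)
  have h3 := Subgroup.disjoint_def.1 hd h1 h2
  rwa [mul_inv_eq_one, mul_inv_eq_iff_eq_mul] at h3

/-- A normal subgroup `K` that normalizes every Sylow subgroup, in a group with trivial centre. -/
theorem eq_bot_of_normalizes_sylow (hZ : Subgroup.center G = ⊥) (K : Subgroup G) [K.Normal]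
    (h : ∀ r : ℕ, r.Prime → r ∣ Nat.card G → ∀ k ∈ K, ∀ Q : Sylow r G, k • Q = Q) : K = ⊥ := by
  by_contra hK
  obtain ⟨r, hr, hrK⟩ := Nat.exists_prime_and_dvd (fun h1 => hK (Subgroup.card_eq_one.1 h1))
  haveI := Fact.mk hr
  have hrG : r ∣ Nat.card G := hrK.trans (Subgroup.card_subgroup_dvd_card K)
  obtain ⟨Q⟩ : Nonempty (Sylow r G) := inferInstance
  set W := (Q : Subgroup G) ⊓ K with hW
  haveI hWn : W.Normal := ⟨fun x hx g => ⟨by
    have h1 : g * x * g⁻¹ ∈ ((g • Q : Sylow r G) : Subgroup G) ⊓ K :=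
      ⟨⟨x, hx.1, rfl⟩, Subgroup.Normal.conj_mem inferInstance x hx.2 g⟩
    exact inf_le_inf K (h r hr hrG) (g • Q) Q h1, Subgroup.Normal.conj_mem inferInstance x hx.2 g⟩⟩
  have hWne : W ≠ ⊥ := by
    intro hbot
    obtain ⟨x, hx⟩ := exists_prime_orderOf_dvd_card' (G := K) r hrK
    have hp : IsPGroup r (Subgroup.zpowers (x : G)) := IsPGroup.of_card (n := 1)
      (by rw [Nat.card_zpowers, Subgroup.orderOf_coe, hx, pow_one])
    obtain ⟨P, hP⟩ := hp.exists_le_sylow
    have h1 : (x : G) ∈ W := ⟨inf_le_inf K (h r hr hrG) P Q ⟨hP (Subgroup.mem_zpowers _), x.2⟩, x.2⟩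
    rw [hbot, Subgroup.mem_bot, OneMemClass.coe_eq_one] at h1
    rw [h1, orderOf_one] at hx
    exact hr.ne_one hx.symm
  have hne : W.subgroupOf (Q : Subgroup G) ≠ ⊥ := fun hb => hWne (by
    rw [Subgroup.subgroupOf_eq_bot] at hb
    exact disjoint_self.1 (hb.mono_right inf_le_left))
  obtain ⟨⟨⟨w, hwQ⟩, hwW, hwC⟩, hw1⟩ :=
    Subgroup.ne_bot_iff_exists_ne_one.1 (CfsgLib.PGroup.inf_center_ne_bot Q.2 _ hne)
  have hw1' : w ≠ 1 := fun hw => hw1 (Subtype.ext (Subtype.ext hw))
  have hwW' : w ∈ W := Subgroup.mem_subgroupOf.1 hwW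
  have hcent : ∀ s : ℕ, s.Prime → ∃ R : Sylow s G, (R : Subgroup G) ≤ Subgroup.centralizer {w} := by
    intro s hs
    haveI := Fact.mk hs
    by_cases hsr : s = r
    · subst hsr
      refine ⟨Q, fun x hx => Subgroup.mem_centralizer_singleton_iff.2 ?_⟩
      exact congrArg Subtype.val (Subgroup.mem_center_iff.1 hwC ⟨x, hx⟩)
    · obtain ⟨R⟩ : Nonempty (Sylow s G) := inferInstance
      refine ⟨R, fun x hx => Subgroup.mem_centralizer_singleton_iff.2 ?_⟩
      by_cases hsG : s ∣ Nat.card G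
      · exact (commute_of_normalizes (Ne.symm hsr) W (Q.2.to_le inf_le_left) R
          (fun v hv => h s hs hsG v hv.2 R) hwW' hx).symm
      · have : (R : Subgroup G) = ⊥ := by
          rw [← Subgroup.card_eq_one, R.card_eq_multiplicity, Nat.factorization_eq_zero_of_not_dvd hsG, pow_zero]
        rw [this, Subgroup.mem_bot] at hx
        rw [hx, one_mul, mul_one]
  have htop : Subgroup.centralizer ({w} : Set G) = ⊤ := by
    rw [← Subgroup.card_eq_iff_eq_top]
    refine Nat.dvd_antisymm (Subgroup.card_subgroup_dvd_card _) ?_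
    rw [Nat.dvd_iff_prime_pow_dvd_dvd]
    intro s j hs hj
    haveI := Fact.mk hs
    obtain ⟨R, hR⟩ := hcent s hs
    refine ((Nat.pow_dvd_pow s ?_).trans R.card_eq_multiplicity.symm.dvd).trans (Subgroup.card_dvd_of_le hR)
    exact (hs.pow_dvd_iff_le_factorization Nat.card_pos.ne').1 hj
  have : w ∈ Subgroup.center G := Subgroup.mem_center_iff.2 fun g =>
    Subgroup.mem_centralizer_singleton_iff.1 (htop ▸ Subgroup.mem_top g)
  rw [hZ, Subgroup.mem_bot] at this
  exact hw1' this

end

/-- Let G be a finite group with trivial centre whose set of Sylow numbers (numbers of Sylow r-subgroups, r over the prime divisors of its order) is exactly {18, 136, 153}. Then G is isomorphic to PSL(2, 17) or to PGL(2, 17). -/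
theorem result {G : Type*} [Group G] [Finite G] (hZ : Subgroup.center G = ⊥) (hNS : {c : ℕ | ∃ r : ℕ, r.Prime ∧ r ∣ Nat.card G ∧ c = Nat.card (Sylow r G)} = ({18, 136, 153} : Set ℕ))
    {F : Type*} [Field F] [Fintype F] (hF : Fintype.card F = 17) :
    Nonempty (G ≃* Matrix.ProjectiveSpecialLinearGroup (Fin 2) F) ∨ Nonempty (G ≃* (GL (Fin 2) F ⧸ Subgroup.center (GL (Fin 2) F))) := by
  classical
  haveI h17 : Fact (Nat.Prime 17) := ⟨by norm_num⟩
  have hmem : ∀ r : ℕ, r.Prime → r ∣ Nat.card G →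
      Nat.card (Sylow r G) = 18 ∨ Nat.card (Sylow r G) = 136 ∨ Nat.card (Sylow r G) = 153 := by
    intro r hr hd
    have : Nat.card (Sylow r G) ∈ ({18, 136, 153} : Set ℕ) := hNS ▸ ⟨r, hr, hd, rfl⟩
    simpa using this
  have h18 : Nat.card (Sylow 17 G) = 18 := by
    obtain ⟨r, hr, -, hc⟩ : (18 : ℕ) ∈ {c : ℕ | ∃ r : ℕ, r.Prime ∧ r ∣ Nat.card G ∧ c = Nat.card (Sylow r G)} := by
      rw [hNS]; simp
    haveI := Fact.mk hr
    have h1 := card_sylow_modEq_one r G
    rw [← hc] at h1
    have h2 : r ∣ 18 - 1 := (Nat.modEq_iff_dvd' (by norm_num)).1 h1.symm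
    obtain rfl : r = 17 := (Nat.prime_dvd_prime_iff_eq hr h17.out).1 h2
    exact hc.symm
  cases nonempty_fintype (Sylow 17 G)
  set φ := toPermHom G (Sylow 17 G) with hφ
  set X := φ.range with hXdef
  haveI : IsPretransitive X (Sylow 17 G) := ⟨fun x y => by
    obtain ⟨g, hg⟩ := exists_smul_eq G x y
    exact ⟨⟨φ g, g, rfl⟩, hg⟩⟩
  obtain ⟨P⟩ : Nonempty (Sylow 17 G) := inferInstance
  set π := φ.rangeRestrict with hπ
  have hπs : Function.Surjective π := φ.rangeRestrict_surjective
  have hcases := range_cases (Sylow 17 G) (by rw [← Nat.card_eq_fintype_card]; exact h18) X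
    ((P : Subgroup G).map π) P
    (by
      rintro _ ⟨g, hg, rfl⟩
      exact (Sylow.smul_eq_iff_mem_normalizer.2 (Subgroup.le_normalizer hg) : g • P = P))
    (by
      intro Q hQ
      by_contra h
      push_neg at h
      refine hQ (Sylow.ext ?_).symm
      have hle : (P : Subgroup G) ≤ Subgroup.normalizer ((Q : Subgroup G) : Set G) := fun g hg =>
        Sylow.smul_eq_iff_mem_normalizer.1 (h (π g) ⟨g, hg, rfl⟩)
      have h1 := P.3 (IsPGroup.to_sup_of_normal_right' P.2 Q.2 hle) le_sup_left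
      exact (Q.3 P.2 (h1 ▸ le_sup_right)))
    (P.2.map π)
    (by
      intro x hx
      obtain ⟨g, rfl⟩ := hπs x
      exact Subgroup.le_normalizer_map π ⟨g, Sylow.smul_eq_iff_mem_normalizer.1 hx, rfl⟩)
  set K := φ.ker with hK
  have hkK : π.ker = K := MonoidHom.ker_rangeRestrict φ
  -- orders
  have hcardX : Nat.card X = 2448 ∨ Nat.card X = 4896 := by
    rcases hcases with ⟨⟨e⟩⟩ | ⟨⟨e⟩⟩
    · right; rw [Nat.card_congr e.toEquiv, CfsgLib.Classical.Dickson.card_pgl (ZMod.card 17)]
    · left; rw [Nat.card_congr e.toEquiv, card_psl17]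
  obtain ⟨ι, hι⟩ : ∃ ι : Matrix.ProjectiveSpecialLinearGroup (Fin 2) (ZMod 17) →* X, Function.Injective ι := by
    rcases hcases with ⟨⟨e⟩⟩ | ⟨⟨e⟩⟩
    · exact ⟨e.symm.toMonoidHom.comp Matrix.ProjectiveSpecialLinearGroup.toPGL,
        e.symm.injective.comp Matrix.ProjectiveSpecialLinearGroup.toPGL_injective⟩
    · exact ⟨e.symm.toMonoidHom, e.symm.injective⟩
  have hGdvd : Nat.card X ∣ Nat.card G := Subgroup.card_range_dvd φ
  have hKidx : K.index = Nat.card X := Subgroup.index_ker φ
  have hbig : ∀ r : ℕ, r.Prime → r ∣ Nat.card G → r = 2 ∨ r = 3 ∨ r = 17 := by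
    intro r hr hrG
    haveI := Fact.mk hr
    by_contra hcon
    push_neg at hcon
    obtain ⟨hr2, hr3, hr17⟩ := hcon
    have hrX : ¬ r ∣ Nat.card X := by
      intro h
      have h' : r ∣ 2 ^ 5 * (3 ^ 2 * 17) := h.trans (by rcases hcardX with e | e <;> rw [e] <;> norm_num)
      rcases hr.dvd_mul.1 h' with h1 | h1
      · exact hr2 ((Nat.prime_dvd_prime_iff_eq hr Nat.prime_two).1 (hr.dvd_of_dvd_pow h1))
      rcases hr.dvd_mul.1 h1 with h1 | h1
      · exact hr3 ((Nat.prime_dvd_prime_iff_eq hr Nat.prime_three).1 (hr.dvd_of_dvd_pow h1))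
      · exact hr17 ((Nat.prime_dvd_prime_iff_eq hr h17.out).1 h1)
    have hrK : ¬ r ∣ K.index := by rw [hKidx]; exact hrX
    have hn : Nat.card (Sylow r G) = 136 ∨ Nat.card (Sylow r G) = 153 := by
      rcases hmem r hr hrG with e | e | e
      · exfalso
        have h1 := card_sylow_modEq_one r G
        rw [e] at h1
        exact hr17 ((Nat.prime_dvd_prime_iff_eq hr h17.out).1 ((Nat.modEq_iff_dvd' (by norm_num)).1 h1.symm))
      · exact Or.inl e
      · exact Or.inr e
    have hnr : r ∣ Nat.card (Sylow r G) - 1 :=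
      (Nat.modEq_iff_dvd' Nat.card_pos).1 (card_sylow_modEq_one r G).symm
    obtain ⟨P0, hP0⟩ := CfsgLib.Transfer.exists_sylow_map_eq_inf K P
    haveI hP0n : (P0 : Subgroup K).Normal := ⟨fun x hx k => by
      have h1 : (x : G) ∈ (P : Subgroup G) ⊓ K := hP0 ▸ ⟨x, hx, rfl⟩
      have h2 : ((k : G) * x * (k : G)⁻¹) ∈ (P : Subgroup G) ⊓ K :=
        ⟨smul_mem_of_normalizes (Equiv.ext_iff.1 (MonoidHom.mem_ker.1 k.2) P) h1.1,
          K.mul_mem (K.mul_mem k.2 x.2) (K.inv_mem k.2)⟩
      rw [← hP0] at h2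
      obtain ⟨y, hy, hye⟩ := h2
      have : y = k * x * k⁻¹ := Subtype.ext hye
      exact this ▸ hy⟩
    have hnK : Nat.card (Sylow r K) = Nat.card (Sylow r G) := CfsgLib.SylowNumbers.card_sylow_of_normal hrK
    obtain ⟨Q⟩ : Nonempty (Sylow r K) := inferInstance
    set N := Subgroup.normalizer ((Q : Subgroup K) : Set K) with hN
    have hNi : N.index = Nat.card (Sylow r G) := by rw [← hnK, Q.card_eq_index_normalizer]; rfl
    have h17n : 17 ∣ N.index := by rw [hNi]; rcases hn with e | e <;> rw [e] <;> norm_num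
    set Y := (Q : Subgroup K) ⊔ (P0 : Subgroup K) with hY
    have hQY : (Q : Subgroup K) ≤ Y := le_sup_left
    have hNY : Nat.card (Sylow r Y) = N.relIndex (P0 : Subgroup K) := by
      rw [CfsgLib.SylowNumbers.card_eq_index (Q.subtype hQY), Sylow.coe_subtype,
        ← Subgroup.subgroupOf_normalizer_eq hQY, ← hN]
      show N.relIndex Y = _
      have hQN : (Q : Subgroup K) ≤ N := Subgroup.le_normalizer
      rw [← Subgroup.inf_relIndex_right N Y, CfsgLib.SylowNumbers.relIndex_eq_of_forall_mul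
        (H := N ⊓ Y) (X := (P0 : Subgroup K)) inf_le_right le_sup_right fun m hm => ?_]
      · rw [← Subgroup.inf_relIndex_right (N ⊓ Y), ← Subgroup.inf_relIndex_right N (P0 : Subgroup K)]
        congr 1
        rw [inf_assoc, inf_eq_right.2 (le_sup_right : (P0 : Subgroup K) ≤ Y)]
      · obtain ⟨a, ha, b, hb, e⟩ := Subgroup.mem_sup_of_normal_right.1 hm
        exact ⟨a * b * a⁻¹, hP0n.conj_mem b hb a, a, ⟨hQN ha, hQY ha⟩, by rw [← e]; group⟩
    have h1 : N.relIndex (P0 : Subgroup K) ∣ Nat.card (P0 : Subgroup K) := Subgroup.relIndex_dvd_card _ _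
    obtain ⟨j, hj⟩ := P0.2.exists_card_eq
    rw [hj] at h1
    obtain ⟨i, -, hi⟩ := (Nat.dvd_prime_pow h17.out).1 h1
    have hle : 17 ^ i ≤ 153 := by
      have h2 : N.relIndex (P0 : Subgroup K) ≤ N.index :=
        (Subgroup.relIndex_top_right N) ▸ Subgroup.relIndex_le_of_le_right le_top (by
          rw [Subgroup.relIndex_top_right]; exact Subgroup.FiniteIndex.index_ne_zero)
      rw [hi, hNi] at h2
      omega
    have hi2 : i ≤ 1 := by
      by_contra h
      have := Nat.pow_le_pow_right (by norm_num : 0 < 17) (show 2 ≤ i by omega)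
      omega
    have hi0 : i = 0 := by
      by_contra h
      obtain rfl : i = 1 := by omega
      have h2 := card_sylow_modEq_one r Y
      rw [hNY, hi] at h2
      have h3 : r ∣ 17 ^ 1 - 1 := (Nat.modEq_iff_dvd' (by norm_num)).1 h2.symm
      have h4 : r ∣ 2 ^ 4 := by simpa using h3
      exact hr2 ((Nat.prime_dvd_prime_iff_eq hr Nat.prime_two).1 (hr.dvd_of_dvd_pow h4))
    rw [hi0, pow_zero, Subgroup.relIndex_eq_one] at hi
    exact P0.not_dvd_index (h17n.trans (Subgroup.index_dvd_of_le hi))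
  -- the kernel normalizes every Sylow subgroup
  have hnorm : ∀ r : ℕ, r.Prime → r ∣ Nat.card G → ∀ k ∈ K, ∀ Q : Sylow r G, k • Q = Q := by
    intro r hr hrG k hk Q
    haveI := Fact.mk hr
    rcases eq_or_ne r 17 with rfl | hr17
    · exact Equiv.ext_iff.1 (MonoidHom.mem_ker.1 hk) Q
    have hr23 : r = 2 ∨ r = 3 := by rcases hbig r hr hrG with h | h | h <;> simp_all
    have hsur : Function.Surjective (Sylow.mapSurjective hπs : Sylow r G → Sylow r X) :=
      Sylow.mapSurjective_surjective hπs r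
    have hle : Nat.card (Sylow r G) ≤ Nat.card (Sylow r X) := by
      have h1 := card_sylow_le_of_injective (r := r) ι hι
      rw [psl17_sylow r hr23] at h1
      have h2 : r ∣ Nat.card (Sylow r G) - 1 :=
        (Nat.modEq_iff_dvd' Nat.card_pos).1 (card_sylow_modEq_one r G).symm
      rcases hr23 with rfl | rfl <;> norm_num [-Nat.card_eq_fintype_card] at h1 <;>
        rcases hmem _ hr hrG with e | e | e <;>
        rw [e] at h2 ⊢ <;> norm_num at h2 <;> omega
    have hinj : Function.Injective (Sylow.mapSurjective hπs : Sylow r G → Sylow r X) :=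
      (hsur.bijective_of_nat_card_le hle).1
    apply hinj
    refine Sylow.ext ?_
    rw [Sylow.coe_mapSurjective, Sylow.coe_mapSurjective]
    have hπk : π k = 1 := by rw [← MonoidHom.mem_ker, hkK]; exact hk
    ext x
    constructor
    · rintro ⟨_, ⟨y, hy, rfl⟩, rfl⟩
      refine ⟨y, hy, ?_⟩
      show π y = π (k * y * k⁻¹)
      rw [map_mul, map_mul, map_inv, hπk]; group
    · rintro ⟨y, hy, rfl⟩
      refine ⟨k * y * k⁻¹, ⟨y, hy, rfl⟩, ?_⟩
      rw [map_mul, map_mul, map_inv, hπk]; group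
  have hbot := eq_bot_of_normalizes_sylow hZ K hnorm
  let e0 : G ≃* X := MonoidHom.ofInjective ((MonoidHom.ker_eq_bot_iff φ).1 hbot)
  let fe : ZMod 17 ≃+* F := ZMod.ringEquivOfPrime F h17.out hF
  rcases hcases with ⟨⟨e⟩⟩ | ⟨⟨e⟩⟩
  · exact Or.inr ⟨(e0.trans e).trans (CfsgLib.Classical.Dickson.pglCongr fe)⟩
  · exact Or.inl ⟨(e0.trans e).trans (CfsgLib.Classical.Dickson.pslCongr fe)⟩

end Cfsg.Agent.S3641
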