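import Cfsg.Statements.S3660
import Cfsg.Agent.Lib.Spectrum.Semidirect
import Cfsg.Agent.Lib.Spectrum.SL2

set_option autoImplicit false
open Cfsg

namespace Cfsg.Agent.S3660

/-- The prime graph of a finite group has the prime divisors of its order as vertices, two distinct primes p, q being joined when the group has an element of order pq; two groups have the same prime graph when they have the same prime divisors and the same joined pairs. Let F be a finite field of characteristic 2 with at least 4 elements. Then there are finite groups of arbitrarily large order with the same prime graph as PSL(2,F); in particular PSL(2,F) is not determined by its prime graph. -/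
theorem result {F : Type*} [Field F] [Fintype F] [CharP F 2] (hF : 4 ≤ Fintype.card F) (N : ℕ) :
    ∃ (H : Type) (_ : Group H) (_ : Finite H), N < Nat.card H ∧
      ((∀ p : ℕ, p.Prime → (p ∣ Nat.card (Matrix.ProjectiveSpecialLinearGroup (Fin 2) F) ↔ p ∣ Nat.card H)) ∧
      (∀ p q : ℕ, p.Prime → q.Prime → p ≠ q → ((∃ g : (Matrix.ProjectiveSpecialLinearGroup (Fin 2) F), orderOf g = p * q) ↔ (∃ g : H, orderOf g = p * q)))) := by
  obtain ⟨H, i1, i2, ⟨e⟩⟩ := CfsgLib.Spectrum.exists_small_equiv
    ((Fin N → Multiplicative (Fin 2 → F)) ⋊[CfsgLib.Spectrum.powAct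
      (CfsgLib.Spectrum.slVecAct (Fin 2) F) N] Matrix.SpecialLinearGroup (Fin 2) F)
  haveI : Fintype H := i2
  refine ⟨H, i1, Finite.of_fintype H, ?_, ?_⟩
  · rw [Nat.card_congr e.toEquiv]
    exact CfsgLib.Spectrum.lt_card_pow_semidirect N
  have hf : ∀ g : Matrix.SpecialLinearGroup (Fin 2) F, (orderOf g).Prime → orderOf g ≠ 2 →
      ∀ v, CfsgLib.Spectrum.slVecAct (Fin 2) F g v = v → v = 1 := by
    intro g hg hg2 v hv
    by_contra hv1
    have hsq := CfsgLib.Spectrum.sl2_sq_eq_one_of_fixed g (v := v.toAdd) hv1 (by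
      rw [← CfsgLib.Spectrum.slVecAct_apply, hv])
    exact hg2 ((Nat.prime_dvd_prime_iff_eq hg Nat.prime_two).1 (orderOf_dvd_of_pow_eq_one hsq))
  obtain ⟨h1, h2⟩ := CfsgLib.Spectrum.primeGraph_pow (φ := CfsgLib.Spectrum.slVecAct (Fin 2) F)
    Nat.prime_two (CfsgLib.Spectrum.two_dvd_card_sl2 (F := F))
    (fun v => by
      apply Multiplicative.toAdd.injective
      ext i
      simp [CharTwo.two_nsmul, nsmul_eq_mul, CharTwo.two_eq_zero])
    (fun g hg hg2 => Or.inl (hf g hg hg2)) N
  have e' := CfsgLib.Spectrum.pslEquivSL2 (F := F)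
  refine ⟨fun r hr => ?_, fun r s hr hs hrs => ?_⟩
  · rw [Nat.card_congr e'.toEquiv, Nat.card_congr e.toEquiv]
    exact h1 r hr
  · have t1 := Set.ext_iff.1 (CfsgLib.Spectrum.range_orderOf_congr e') (r * s)
    have t2 := Set.ext_iff.1 (CfsgLib.Spectrum.range_orderOf_congr e) (r * s)
    simp only [Set.mem_range] at t1 t2
    rw [t1, t2]
    exact h2 r s hr hs hrs

end Cfsg.Agent.S3660
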