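import Cfsg.Statements.S3662
import Cfsg.Agent.Lib.Spectrum.G2Four.Orders
import Cfsg.Agent.S1059
import Cfsg.Agent.Lib.Classical.SpOrder
import Cfsg.Agent.Lib.Spectrum.Semidirect

set_option autoImplicit false
open Cfsg Matrix

namespace Cfsg.Agent.S3662

/-- The prime graph of a finite group has the prime divisors of its order as vertices, two distinct primes p, q being joined when the group has an element of order pq; two groups have the same prime graph when they have the same prime divisors and the same joined pairs. Let F be the field with 4 elements and L the Chevalley group of type G₂ over F. There are finite groups of arbitrarily large order with the same prime graph as L. -/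
theorem result {F : Type*} [Field F] [Fintype F] (hF : Fintype.card F = 4) (N : ℕ) :
    ∃ (H : Type) (_ : Group H) (_ : Finite H), N < Nat.card H ∧
      ((∀ p : ℕ, p.Prime → (p ∣ Nat.card ↥(Cfsg.Lie.chevG2.group F) ↔ p ∣ Nat.card H)) ∧
      (∀ p q : ℕ, p.Prime → q.Prime → p ≠ q → ((∃ g : ↥(Cfsg.Lie.chevG2.group F), orderOf g = p * q) ↔ (∃ g : H, orderOf g = p * q)))) := by
  classical
  haveI : CharP F 2 := by
    haveI : Fact (Nat.Prime 2) := ⟨Nat.prime_two⟩
    exact charP_of_card_eq_prime_pow (f := 2) (by rw [hF]; norm_num)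
  haveI : Finite F := Finite.of_fintype F
  obtain ⟨φ, hinj, hsp, -⟩ := CfsgLib.Spectrum.G2.exists_embedding F
  obtain ⟨⟨g6, hg6⟩, g10, hg10⟩ := CfsgLib.Spectrum.G2.exists_orders F hF
  let act : ↥(Cfsg.Lie.chevG2.group F) →* MulAut (Multiplicative (CfsgLib.Spectrum.G2.Ix → F)) :=
    { toFun := fun g => AddEquiv.toMultiplicative
        (Matrix.GeneralLinearGroup.toLin (φ g)).toLinearEquiv.toAddEquiv
      map_one' := MulEquiv.ext fun v => by
        change Multiplicative.ofAdd ((Matrix.GeneralLinearGroup.toLin (φ 1)).toLinearEquiv v.toAdd) = _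
        simp
      map_mul' := fun a b => MulEquiv.ext fun v => by
        change Multiplicative.ofAdd ((Matrix.GeneralLinearGroup.toLin (φ (a * b))).toLinearEquiv v.toAdd) = _
        rw [map_mul, map_mul]
        rfl }
  have hact : ∀ g v, (act g v).toAdd = ((φ g : GL CfsgLib.Spectrum.G2.Ix F) :
      Matrix CfsgLib.Spectrum.G2.Ix CfsgLib.Spectrum.G2.Ix F) *ᵥ v.toAdd := fun g v => rfl
  have hG : Nat.card ↥(Cfsg.Lie.chevG2.group F) = 2 ^ 12 * 15 * 4095 := by
    rw [Cfsg.Agent.S1059.result hF]; norm_num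
  have hfix : ∀ g : ↥(Cfsg.Lie.chevG2.group F), (orderOf g).Prime → orderOf g ≠ 2 →
      (∀ v, act g v = v → v = 1) ∨ ∃ g' : ↥(Cfsg.Lie.chevG2.group F), orderOf g' = 2 * orderOf g := by
    intro g hp h2
    have hd : orderOf g ∣ 2 ^ 12 * 15 * 4095 := hG ▸ orderOf_dvd_natCard g
    by_cases h3 : orderOf g = 3
    · exact Or.inr ⟨g6, by rw [hg6, h3]⟩
    by_cases h5 : orderOf g = 5
    · exact Or.inr ⟨g10, by rw [hg10, h5]⟩
    have h713 : orderOf g = 7 ∨ orderOf g = 13 := by
      have h' : orderOf g ∣ 2 ^ 12 * (3 * 5) * (3 * 3 * 5 * 7 * 13) := by norm_num at hd ⊢; exact hd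
      have hdiv : ∀ q : ℕ, q.Prime → orderOf g ∣ q → orderOf g = q := fun q hq h =>
        (Nat.prime_dvd_prime_iff_eq hp hq).1 h
      simp only [hp.dvd_mul] at h'
      rcases h' with (h | h | h) | (((h | h) | h) | h) | h
      · exact absurd (hdiv 2 Nat.prime_two (hp.dvd_of_dvd_pow h)) h2
      · exact absurd (hdiv 3 Nat.prime_three h) h3
      · exact absurd (hdiv 5 Nat.prime_five h) h5
      · exact absurd (hdiv 3 Nat.prime_three h) h3
      · exact absurd (hdiv 3 Nat.prime_three h) h3
      · exact absurd (hdiv 5 Nat.prime_five h) h5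
      · exact Or.inl (hdiv 7 (by norm_num) h)
      · exact Or.inr (hdiv 13 (by norm_num) h)
    refine Or.inl fun v hv => ?_
    by_contra hv1
    let w : Fin 3 ⊕ Fin 3 → F := v.toAdd
    have hw : w ≠ 0 := fun e => hv1 (congrArg Multiplicative.ofAdd e)
    let σ : Matrix.symplecticGroup (Fin 3) F := ⟨_, hsp g⟩
    have hσw : σ.1 *ᵥ w = w := by
      have := congrArg Multiplicative.toAdd hv
      rwa [hact] at this
    -- the stabiliser of a vector in the symplectic group
    let A : MulAction (Matrix.symplecticGroup (Fin 3) F) (Fin 3 ⊕ Fin 3 → F) :=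
      { smul := fun s u => s.1 *ᵥ u
        one_smul := fun u => Matrix.one_mulVec u
        mul_smul := fun s t u => (Matrix.mulVec_mulVec u s.1 t.1).symm }
    have horb : @MulAction.orbit _ _ A.toSMul w = {0}ᶜ := by
      ext u
      constructor
      · rintro ⟨s, rfl⟩ h0
        exact hw (CfsgLib.Classical.sp_mulVec_injective s
          ((show s.1 *ᵥ w = 0 from h0).trans (Matrix.mulVec_zero s.1).symm))
      · intro hu
        obtain ⟨s, -, hs⟩ := CfsgLib.Classical.exists_sp_move hw hu
        exact ⟨s, hs⟩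
    have hidx := @MulAction.index_stabilizer _ _ _ A w
    rw [horb, Set.ncard_compl, Set.ncard_singleton] at hidx
    set S := @MulAction.stabilizer _ _ _ A w
    have hcardV : Nat.card (Fin 3 ⊕ Fin 3 → F) = 4096 := by
      rw [Nat.card_eq_fintype_card, Fintype.card_fun, hF]; norm_num
    have hcardSp : Nat.card (Matrix.symplecticGroup (Fin 3) F) = 4 ^ 9 * 15 * 255 * 4095 := by
      rw [CfsgLib.Classical.card_sp, hF]
      simp [Finset.prod_range_succ]
    have hS : Nat.card S = 4 ^ 9 * 15 * 255 := by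
      have h := S.card_mul_index
      rw [hidx, hcardV, hcardSp] at h
      omega
    have hord : orderOf σ = orderOf g := by
      let ι : Matrix.symplecticGroup (Fin 3) F →* Matrix (Fin 3 ⊕ Fin 3) (Fin 3 ⊕ Fin 3) F :=
        Submonoid.subtype _
      rw [← orderOf_injective ι Subtype.val_injective σ]
      change orderOf ((φ g : GL CfsgLib.Spectrum.G2.Ix F) : Matrix CfsgLib.Spectrum.G2.Ix CfsgLib.Spectrum.G2.Ix F) = _
      rw [orderOf_units, orderOf_injective φ hinj g]
    have hdvd := Subgroup.orderOf_dvd_natCard S (show σ ∈ S from hσw)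
    rw [hord, hS] at hdvd
    rcases h713 with h | h <;> rw [h] at hdvd <;> norm_num at hdvd
  obtain ⟨H, iH, iFin, ⟨e⟩⟩ := CfsgLib.Spectrum.exists_small_equiv
    ((Fin N → Multiplicative (CfsgLib.Spectrum.G2.Ix → F)) ⋊[CfsgLib.Spectrum.powAct act N] ↥(Cfsg.Lie.chevG2.group F))
  have hexp : ∀ v : Multiplicative (CfsgLib.Spectrum.G2.Ix → F), v ^ 2 = 1 := fun v =>
    Multiplicative.toAdd.injective (funext fun i => by simp [CharTwo.two_eq_zero])
  obtain ⟨hP, hE⟩ := CfsgLib.Spectrum.primeGraph_pow (φ := act) Nat.prime_two (by rw [hG]; norm_num) hexp hfix N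
  refine ⟨H, iH, inferInstance, ?_, fun p hp => ?_, fun p r hp hr hpr => ?_⟩
  · rw [Nat.card_congr e.toEquiv]
    exact CfsgLib.Spectrum.lt_card_pow_semidirect N
  · rw [Nat.card_congr e.toEquiv]; exact hP p hp
  · rw [hE p r hp hr hpr]
    constructor
    · rintro ⟨x, hx⟩
      exact ⟨e.symm x, by rw [MulEquiv.orderOf_eq, hx]⟩
    · rintro ⟨x, hx⟩
      exact ⟨e x, by rw [MulEquiv.orderOf_eq, hx]⟩

end Cfsg.Agent.S3662
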