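import Cfsg.Statements.S3663
import Cfsg.Agent.Lib.Spectrum.U34.Rep
import Cfsg.Agent.Lib.Spectrum.Semidirect
import Cfsg.Agent.Lib.Classical.HermOrder
-- import your own Cfsg.Agent.* helpers here

set_option autoImplicit false
open Cfsg

namespace Cfsg.Agent.S3663

open Matrix CfsgLib.Spectrum.U34

/-- A field isomorphism carries one unitary group into the other. -/
def suHom {F K : Type*} [Field F] [Field K] (e : F ≃+* K) : SU 3 F 4 →* SU 3 K 4 :=
  ((Matrix.SpecialLinearGroup.map (n := Fin 3) e.toRingHom).comp (SU 3 F 4).subtype).codRestrict (SU 3 K 4)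
    fun g u v => by
      have h := congrArg e (g.2 (e.symm ∘ u) (e.symm ∘ v))
      simpa [hermForm, map_sum, map_pow, Matrix.mulVec, dotProduct, Function.comp_def] using h

theorem suHom_bijective {F K : Type*} [Field F] [Field K] (e : F ≃+* K) : Function.Bijective (suHom e) := by
  refine ⟨Function.LeftInverse.injective (g := suHom e.symm) fun g => ?_, fun g => ⟨suHom e.symm g, ?_⟩⟩
  · refine Subtype.ext (Subtype.ext ?_)
    ext i j
    simp [suHom]
  · refine Subtype.ext (Subtype.ext ?_)
    ext i j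
    simp [suHom]

/-- The prime graph of a finite group has the prime divisors of its order as vertices, two distinct primes p, q being joined when the group has an element of order pq; two groups have the same prime graph when they have the same prime divisors and the same joined pairs. Let F be the field with 16 elements and L = PSU(3,4) realised over F. There are finite groups of arbitrarily large order with the same prime graph as L. -/
theorem result {F : Type*} [Field F] [Fintype F] (hF : Fintype.card F = 16) (N : ℕ) :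
    ∃ (H : Type) (_ : Group H) (_ : Finite H), N < Nat.card H ∧
      ((∀ p : ℕ, p.Prime → (p ∣ Nat.card (Cfsg.PSU 3 F 4) ↔ p ∣ Nat.card H)) ∧
      (∀ p q : ℕ, p.Prime → q.Prime → p ≠ q → ((∃ g : (Cfsg.PSU 3 F 4), orderOf g = p * q) ↔ (∃ g : H, orderOf g = p * q)))) := by
  classical
  have hF2 : Fintype.card F = 4 ^ 2 := by rw [hF]; norm_num
  let eF : F ≃+* K16 := FiniteField.ringEquivOfCardEq (by rw [hF, card_k16])
  let eS : SU 3 F 4 ≃* SU34 := MulEquiv.ofBijective (suHom eF) (suHom_bijective eF)
  have hZ : Subgroup.center (SU 3 F 4) = ⊥ :=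
    Subgroup.card_eq_one.1 (by rw [CfsgLib.Classical.card_center_su hF2 (by norm_num)]; norm_num)
  let eP : PSU 3 F 4 ≃* SU34 :=
    ((QuotientGroup.quotientMulEquivOfEq hZ).trans QuotientGroup.quotientBot).trans eS
  have hG : Nat.card SU34 = 2 ^ 6 * 3 * 5 ^ 2 * 13 := by
    have h := CfsgLib.Classical.card_su (n := 3) (q := 4) (F := K16) (by rw [card_k16]; norm_num) (by norm_num)
    simp [CfsgLib.Classical.unitaryOrder, Finset.prod_range_succ, Nat.even_iff, -Nat.card_eq_fintype_card] at h
    change Nat.card ↥(SU 3 K16 4) = _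
    omega
  obtain ⟨φ, x, hx, hfree⟩ := exists_rep
  obtain ⟨⟨g10, hg10⟩, g15, hg15⟩ := exists_orders
  let act : SU34 →* MulAut (Multiplicative (Fin 12 → ZMod 5)) :=
    { toFun := fun g => AddEquiv.toMultiplicative
        (Matrix.GeneralLinearGroup.toLin (φ.toHomUnits g)).toLinearEquiv.toAddEquiv
      map_one' := MulEquiv.ext fun v => by
        change Multiplicative.ofAdd ((Matrix.GeneralLinearGroup.toLin (φ.toHomUnits 1)).toLinearEquiv v.toAdd) = _
        simp
      map_mul' := fun a b => MulEquiv.ext fun v => by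
        change Multiplicative.ofAdd
          ((Matrix.GeneralLinearGroup.toLin (φ.toHomUnits (a * b))).toLinearEquiv v.toAdd) = _
        rw [map_mul, map_mul]
        rfl }
  have hact : ∀ g v, (act g v).toAdd = φ g *ᵥ v.toAdd := fun g v => rfl
  have hfix : ∀ g : SU34, (orderOf g).Prime → orderOf g ≠ 5 →
      (∀ v, act g v = v → v = 1) ∨ ∃ g' : SU34, orderOf g' = 5 * orderOf g := by
    intro g hp h5
    have hd : orderOf g ∣ 2 ^ 6 * 3 * 5 ^ 2 * 13 := hG ▸ orderOf_dvd_natCard g
    have hdiv : ∀ q : ℕ, q.Prime → orderOf g ∣ q → orderOf g = q := fun q hq h =>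
      (Nat.prime_dvd_prime_iff_eq hp hq).1 h
    rcases hp.dvd_mul.1 hd with h | h
    · rcases hp.dvd_mul.1 h with h | h
      · rcases hp.dvd_mul.1 h with h | h
        · exact Or.inr ⟨g10, by rw [hg10, hdiv 2 Nat.prime_two (hp.dvd_of_dvd_pow h)]⟩
        · exact Or.inr ⟨g15, by rw [hg15, hdiv 3 Nat.prime_three h]⟩
      · exact absurd (hdiv 5 Nat.prime_five (hp.dvd_of_dvd_pow h)) h5
    have hg13 : orderOf g = 13 := hdiv 13 (by norm_num) h
    refine Or.inl fun v hv => ?_
    haveI : Fact (Nat.Prime 13) := ⟨by norm_num⟩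
    have hfac : 13 ^ (Nat.card SU34).factorization 13 = 13 := by
      have h13 : Nat.Prime 13 := by norm_num
      rw [hG, Nat.factorization_mul (by norm_num) (by norm_num), Finsupp.add_apply, h13.factorization_self,
        Nat.factorization_eq_zero_of_not_dvd (by norm_num)]
      norm_num
    let P : Sylow 13 SU34 := Sylow.ofCard (Subgroup.zpowers x) (by rw [Nat.card_zpowers, hx, hfac])
    let Q : Sylow 13 SU34 := Sylow.ofCard (Subgroup.zpowers g) (by rw [Nat.card_zpowers, hg13, hfac])
    obtain ⟨c, hc⟩ := MulAction.exists_smul_eq SU34 Q P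
    have hmem : c * g * c⁻¹ ∈ (P : Subgroup SU34) := by
      rw [← hc, Sylow.coe_subgroup_smul]
      exact ⟨g, Subgroup.mem_zpowers g, rfl⟩
    obtain ⟨k, hk⟩ := (IsOfFinOrder.mem_powers_iff_mem_zpowers (isOfFinOrder_of_finite x)).2 hmem
    change x ^ k = c * g * c⁻¹ at hk
    set w := φ c *ᵥ v.toAdd with hw
    have hgv : φ g *ᵥ v.toAdd = v.toAdd := by rw [← hact, hv]
    have hxk : φ (x ^ k) *ᵥ w = w := by
      rw [hk, hw, Matrix.mulVec_mulVec, ← map_mul, inv_mul_cancel_right, map_mul, ← Matrix.mulVec_mulVec, hgv]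
    have hk13 : Nat.Coprime k (orderOf x) := by
      rw [hx]
      refine ((Nat.Prime.coprime_iff_not_dvd (by norm_num)).2 fun h13 => ?_).symm
      rw [orderOf_dvd_iff_pow_eq_one.1 (hx ▸ h13)] at hk
      have : g = 1 := by simpa using hk.symm
      rw [this, orderOf_one] at hg13
      norm_num at hg13
    obtain ⟨m, hm⟩ := exists_pow_eq_self_of_coprime hk13
    have hxw : φ x *ᵥ w = w := by
      rw [← hm, map_pow]
      clear hm
      induction m with
      | zero => simp
      | succ m ih => rw [pow_succ, ← Matrix.mulVec_mulVec, hxk, ih]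
    have hw0 := hfree w hxw
    have hv0 : v.toAdd = 0 := by
      have := congrArg (φ c⁻¹ *ᵥ ·) hw0
      simpa [hw, Matrix.mulVec_mulVec, ← map_mul] using this
    exact Multiplicative.toAdd.injective hv0
  have hexp : ∀ v : Multiplicative (Fin 12 → ZMod 5), v ^ 5 = 1 := fun v =>
    Multiplicative.toAdd.injective (funext fun i => by
      have h5 : (5 : ZMod 5) = 0 := rfl
      simp [h5])
  haveI : Fact (1 < 5) := ⟨by norm_num⟩
  obtain ⟨hP, hE⟩ := CfsgLib.Spectrum.primeGraph_pow (φ := act) Nat.prime_five (by rw [hG]; norm_num) hexp hfix N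
  refine ⟨(Fin N → Multiplicative (Fin 12 → ZMod 5)) ⋊[CfsgLib.Spectrum.powAct act N] SU34, inferInstance,
    inferInstance, CfsgLib.Spectrum.lt_card_pow_semidirect N, fun p hp => ?_, fun p r hp hr hpr => ?_⟩
  · rw [Nat.card_congr eP.toEquiv]; exact hP p hp
  · rw [← hE p r hp hr hpr]
    exact ⟨fun ⟨y, hy⟩ => ⟨eP y, by rw [MulEquiv.orderOf_eq, hy]⟩,
      fun ⟨y, hy⟩ => ⟨eP.symm y, by rw [MulEquiv.orderOf_eq, hy]⟩⟩

end Cfsg.Agent.S3663
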