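import Cfsg.Statements.S3664
import Cfsg.Agent.Lib.Spectrum.PSp63Graph
import Cfsg.Agent.Lib.Spectrum.SzEightExt

set_option autoImplicit false
open Cfsg

namespace Cfsg.Agent.S3664

/-- The prime graph of a finite group has the prime divisors of its order as vertices, two distinct primes p, q being joined when the group has an element of order pq; two groups have the same prime graph when they have the same prime divisors and the same joined pairs. Let F be the field with 3 elements and L = PSp(6,F). There are finite groups of arbitrarily large order with the same prime graph as L (a prime graph shared by the orthogonal groups Ω₇(3) and PΩ⁺₈(3)). -/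
theorem result {F : Type*} [Field F] [Fintype F] (hF : Fintype.card F = 3) (N : ℕ) :
    ∃ (H : Type) (_ : Group H) (_ : Finite H), N < Nat.card H ∧
      ((∀ p : ℕ, p.Prime → (p ∣ Nat.card (Cfsg.PSp 3 F) ↔ p ∣ Nat.card H)) ∧
      (∀ p q : ℕ, p.Prime → q.Prime → p ≠ q → ((∃ g : (Cfsg.PSp 3 F), orderOf g = p * q) ↔ (∃ g : H, orderOf g = p * q)))) := by
  haveI : CharP F 3 := charP_of_card_eq_prime (hp := ⟨Nat.prime_three⟩) hF
  haveI : Fact (Nat.Prime 2) := ⟨Nat.prime_two⟩
  letI : Fintype (GaloisField 2 3) := Fintype.ofFinite _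
  have hK : Fintype.card (GaloisField 2 3) = 2 ^ (2 * 1 + 1) := by
    rw [← Nat.card_eq_fintype_card, GaloisField.card 2 3 (by norm_num)]
  let X := CfsgLib.Spectrum.SzEight.H (GaloisField 2 3) (N + 1)
  obtain ⟨H, i1, i2, ⟨e⟩⟩ := CfsgLib.Spectrum.exists_small_equiv X
  refine ⟨H, i1, Finite.of_fintype H, ?_, ?_, ?_⟩
  · rw [Nat.card_congr e.toEquiv]
    exact (Nat.lt_succ_self N).trans (CfsgLib.Spectrum.lt_card_pow_semidirect _)
  · intro p hp
    rw [Nat.card_congr e.toEquiv, CfsgLib.Spectrum.PSp63.dvd_card_iff hF hp,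
      CfsgLib.Spectrum.SzEight.dvd_card_iff hK (N + 1) hp]
  · intro p q hp hq hpq
    rw [CfsgLib.Spectrum.PSp63.edge_iff hF hp hq hpq]
    have hrange : ∀ n : ℕ, (∃ g : H, orderOf g = n) ↔ n ∈ Set.range (orderOf : X → ℕ) := fun n =>
      Set.ext_iff.1 (CfsgLib.Spectrum.range_orderOf_congr e) n
    rw [hrange]
    obtain ⟨y, n⟩ := CfsgLib.Spectrum.SzEight.edge_facts hK (Nat.succ_pos N)
    constructor
    · intro h
      have hh : p * q ∈ [6, 10, 14, 15] := by
        simp only [CfsgLib.Spectrum.PSp63.Edge, List.mem_cons, Prod.mk.injEq, List.not_mem_nil,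
          or_false] at h
        rcases h with h | h | h | h | h | h | h | h <;> simp [h.1, h.2]
      exact y _ hh
    · rintro ⟨g, hg⟩
      have hd := hg ▸ orderOf_dvd_natCard g
      exact (CfsgLib.Spectrum.PSp63.iff_edge (fun m => m ∈ Set.range (orderOf : X → ℕ))
        (y 6 (by simp)) (y 10 (by simp)) (y 14 (by simp)) (y 15 (by simp)) (n 26 (by simp))
        (n 21 (by simp)) (n 39 (by simp)) (n 35 (by simp)) (n 65 (by simp)) (n 91 (by simp))
        ((CfsgLib.Spectrum.SzEight.dvd_card_iff hK (N + 1) hp).1 ((dvd_mul_right p q).trans hd))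
        ((CfsgLib.Spectrum.SzEight.dvd_card_iff hK (N + 1) hq).1 ((dvd_mul_left q p).trans hd)) hpq).1
        ⟨g, hg⟩

end Cfsg.Agent.S3664
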