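import Cfsg.Statements.S3670
import Cfsg.Agent.Lib.SmallGroups.U33Degrees.Borel
import Cfsg.Agent.Lib.SmallGroups.U33Degrees.Witness

set_option autoImplicit false
open Cfsg

namespace Cfsg.Agent.S3670

/-- The character degree graph of a finite group has as vertices the primes dividing some irreducible complex character degree, two distinct primes being joined when their product divides some irreducible character degree; two groups have the same character degree graph when they have the same vertices and the same joined pairs. Let F be the field with 9 elements and L = PSU(3,3) realised over F (order 6048). There is a finite solvable group of order 6048 with the same character degree graph as L; so L is not determined by its order together with its character degree graph. -/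
theorem result {F : Type*} [Field F] [Fintype F] (hF : Fintype.card F = 9) :
    ∃ (H : Type) (_ : Group H) (_ : Fintype H), Group.IsSolvable H ∧ Nat.card H = 6048 ∧ Cfsg.degreePrimes H = Cfsg.degreePrimes (Cfsg.PSU 3 F 3) ∧ Cfsg.degreeGraph H = Cfsg.degreeGraph (Cfsg.PSU 3 F 3) := by
  classical
  haveI : Fintype CfsgLib.SmallGroups.U33Degrees.Wit := Fintype.ofFinite _
  haveI : Fintype (Cfsg.PSU 3 F 3) := Fintype.ofFinite _
  have h42 := CfsgLib.SmallGroups.U33Degrees.degree_wit
  obtain ⟨hv, he⟩ := CfsgLib.SmallGroups.U33Degrees.degree_graph_eq
    CfsgLib.SmallGroups.U33Degrees.card_wit ⟨42, h42, by norm_num⟩ ⟨42, h42, by norm_num⟩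
    ⟨42, h42, by norm_num⟩
  obtain ⟨h6, h14, h21⟩ := CfsgLib.SmallGroups.U33Degrees.degrees_PSU hF
  have hP : Nat.card (Cfsg.PSU 3 F 3) = 6048 := CfsgLib.SmallGroups.U33Degrees.card_PSU hF
  obtain ⟨hv', he'⟩ := CfsgLib.SmallGroups.U33Degrees.degree_graph_eq hP h6 h14 h21
  exact ⟨_, inferInstance, inferInstance, CfsgLib.SmallGroups.U33Degrees.solvable_wit,
    CfsgLib.SmallGroups.U33Degrees.card_wit, hv.trans hv'.symm,
    SimpleGraph.ext (funext fun p => funext fun q => propext ((he p q).trans (he' p q).symm))⟩

end Cfsg.Agent.S3670
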