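import Cfsg.Statements.S3678
import Cfsg.Agent.Lib.Spectrum.Semidirect
import Cfsg.Agent.Lib.Spectrum.SL2

set_option autoImplicit false
open Cfsg

namespace Cfsg.Agent.S3678

open CfsgLib.Spectrum in
theorem zmod7_key : ∀ s : ZMod 7, ∃ k ∈ ({2, 3, 4, 7} : Finset ℕ),
    sl2Coef s k = (0, 1) ∨ sl2Coef s k = (0, -1) := by
  decide +kernel

open CfsgLib.Spectrum Matrix in
theorem sl2_seven_pow {F : Type*} [Field F] [Fintype F] (hF : Fintype.card F = 7)
    (A : Matrix.SpecialLinearGroup (Fin 2) F) :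
    ∃ k ∈ ({2, 3, 4, 7} : Finset ℕ), A ^ k = 1 ∨ A ^ k = -1 := by
  haveI : Fact (Nat.Prime 7) := ⟨by norm_num⟩
  let e : ZMod 7 ≃+* F := ZMod.ringEquivOfPrime F (by norm_num) hF
  have hmap : ∀ (s : ZMod 7) (n : ℕ), sl2Coef (e s) n = ((e (sl2Coef s n).1), e (sl2Coef s n).2) := by
    intro s n
    induction n with
    | zero => simp [sl2Coef]
    | succ n ih => simp [sl2Coef, ih]
  have key : ∀ s : ZMod 7, ∃ k ∈ ({2, 3, 4, 7} : Finset ℕ),
      sl2Coef s k = (0, 1) ∨ sl2Coef s k = (0, -1) := zmod7_key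
  obtain ⟨k, hk, hk'⟩ := key (e.symm (A : Matrix (Fin 2) (Fin 2) F).trace)
  refine ⟨k, hk, hk'.imp (fun h => ?_) (fun h => ?_)⟩
  · refine sl2_pow_eq_one A k ?_
    have := hmap (e.symm (A : Matrix (Fin 2) (Fin 2) F).trace) k
    rw [e.apply_symm_apply, h] at this
    simpa using this
  · refine sl2_pow_eq_neg_one A k ?_
    have := hmap (e.symm (A : Matrix (Fin 2) (Fin 2) F).trace) k
    rw [e.apply_symm_apply, h] at this
    simpa using this

open CfsgLib.Spectrum Matrix in
/-- The prime graph of `PSL(2,7)` has the vertices 2, 3, 7 and no edges. -/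
theorem psl2_seven_graph {F : Type*} [Field F] [Fintype F] (hF : Fintype.card F = 7) :
    (∀ r : ℕ, r.Prime →
      (r ∣ Nat.card (ProjectiveSpecialLinearGroup (Fin 2) F) ↔ r ∈ ({2, 3, 7} : Finset ℕ))) ∧
    ∀ g : ProjectiveSpecialLinearGroup (Fin 2) F, orderOf g ∈ ({1, 2, 3, 4, 7} : Finset ℕ) := by
  have hneg : ((-1 : Matrix.SpecialLinearGroup (Fin 2) F) :
      ProjectiveSpecialLinearGroup (Fin 2) F) = 1 := by
    rw [QuotientGroup.eq_one_iff, Matrix.SpecialLinearGroup.mem_center_iff]
    exact ⟨-1, by simp, by simp [map_neg, map_one]⟩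
  have hord : ∀ g : ProjectiveSpecialLinearGroup (Fin 2) F,
      orderOf g ∈ ({1, 2, 3, 4, 7} : Finset ℕ) := by
    intro g
    induction g using QuotientGroup.induction_on with
    | H A =>
      obtain ⟨k, hk, hk'⟩ := sl2_seven_pow hF A
      have hd : orderOf (A : ProjectiveSpecialLinearGroup (Fin 2) F) ∣ k := by
        apply orderOf_dvd_of_pow_eq_one
        rw [← QuotientGroup.mk_pow]
        rcases hk' with h | h
        · rw [h, QuotientGroup.mk_one]
        · rw [h, hneg]
      simp only [Finset.mem_insert, Finset.mem_singleton] at hk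
      have hle := Nat.le_of_dvd (by omega) hd
      have hpos := orderOf_pos (A : ProjectiveSpecialLinearGroup (Fin 2) F)
      revert hle hpos hd
      generalize orderOf (A : ProjectiveSpecialLinearGroup (Fin 2) F) = o
      intro hd hle hpos
      rcases hk with rfl | rfl | rfl | rfl <;> interval_cases o <;> simp_all
  refine ⟨fun r hr => ⟨fun hd => ?_, fun hd => ?_⟩, hord⟩
  · haveI := Fact.mk hr
    obtain ⟨g, hg⟩ := exists_prime_orderOf_dvd_card' r hd
    have := hord g
    rw [hg] at this
    simp only [Finset.mem_insert, Finset.mem_singleton] at this ⊢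
    rcases this with h | h | h | h | h <;> first | omega | (subst h; revert hr; decide)
  · haveI : Fact (Nat.Prime 7) := ⟨by norm_num⟩
    let e : ZMod 7 ≃+* F := ZMod.ringEquivOfPrime F (by norm_num) hF
    -- an element `[[t, -1], [1, 0]]` with `r`-th power scalar and itself not scalar
    have aux : ∀ (t : F) (n : ℕ), n.Prime → (sl2Coef t n = (0, 1) ∨ sl2Coef t n = (0, -1)) →
        n ∣ Nat.card (ProjectiveSpecialLinearGroup (Fin 2) F) := by
      intro t n hn hc
      haveI := Fact.mk hn
      have h1 : (sl2OfTrace t : ProjectiveSpecialLinearGroup (Fin 2) F) ^ n = 1 := by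
        rw [← QuotientGroup.mk_pow]
        rw [← sl2OfTrace_trace t] at hc
        rcases hc with h | h
        · rw [sl2_pow_eq_one _ _ h, QuotientGroup.mk_one]
        · rw [sl2_pow_eq_neg_one _ _ h, hneg]
      have h2 : (sl2OfTrace t : ProjectiveSpecialLinearGroup (Fin 2) F) ≠ 1 := by
        rw [Ne, QuotientGroup.eq_one_iff, Matrix.SpecialLinearGroup.mem_center_iff]
        rintro ⟨r, -, h⟩
        exact sl2OfTrace_ne_scalar t r h
      exact orderOf_eq_prime h1 h2 ▸ orderOf_dvd_natCard _
    have h7 : (7 : F) = 0 := by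
      have := FiniteField.cast_card_eq_zero F
      rw [hF] at this
      exact_mod_cast this
    simp only [Finset.mem_insert, Finset.mem_singleton] at hd
    rcases hd with rfl | rfl | rfl
    · exact aux 0 2 hr (Or.inr (by simp [sl2Coef]))
    · exact aux 1 3 hr (Or.inr (by simp [sl2Coef]))
    · refine aux 2 7 hr (Or.inl ?_)
      simp only [sl2Coef, Prod.mk.injEq]
      constructor
      · linear_combination h7
      · linear_combination (-1 : F) * h7

open CfsgLib.Spectrum Matrix in
/-- Element orders in `SL(2,8)`. -/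
theorem sl2_eight_pow {F : Type*} [Field F] [Fintype F] [CharP F 2] (hF : Fintype.card F = 8)
    (A : Matrix.SpecialLinearGroup (Fin 2) F) : A ^ 2 = 1 ∨ A ^ 7 = 1 ∨ A ^ 9 = 1 := by
  set t := (A : Matrix (Fin 2) (Fin 2) F).trace with ht
  have h8 : t ^ 8 = t := hF ▸ FiniteField.pow_card t
  have h2 : (2 : F) = 0 := CharTwo.two_eq_zero
  have hfac : t * (t + 1) * (t ^ 3 + t + 1) * (t ^ 3 + t ^ 2 + 1) = 0 := by
    linear_combination h8 + (t + t ^ 2 + t ^ 3 + 2 * t ^ 4 + 2 * t ^ 5 + t ^ 6 + t ^ 7) * h2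
  rcases mul_eq_zero.1 hfac with hfac | h
  rcases mul_eq_zero.1 hfac with hfac | h
  rcases mul_eq_zero.1 hfac with h | h
  · exact Or.inl (sl2_sq_eq_one_of_trace_zero A h)
  · refine Or.inr (Or.inr (sl2_pow_eq_one A 9 ?_))
    have h' : t = 1 := (CharTwo.add_eq_zero).1 h
    rw [← ht, h']
    simp [sl2Coef, CharTwo.neg_eq, CharTwo.add_self_eq_zero]
  · refine Or.inr (Or.inr (sl2_pow_eq_one A 9 ?_))
    rw [← ht]
    simp only [sl2Coef, CharTwo.neg_eq, Prod.mk.injEq]
    constructor <;> grind
  · refine Or.inr (Or.inl (sl2_pow_eq_one A 7 ?_))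
    rw [← ht]
    simp only [sl2Coef, CharTwo.neg_eq, Prod.mk.injEq]
    constructor <;> grind

/-- The prime graph of a finite group has the prime divisors of its order as vertices, two distinct primes p, q being joined when the group has an element of order pq; two groups have the same prime graph when they have the same prime divisors and the same joined pairs. Let F be the field with 7 elements. There are finite groups of arbitrarily large order with the same prime graph as PSL(2,F) (the graph on {2, 3, 7} with no edges, which is also the prime graph of PSL(2,8)). -/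
theorem result {F : Type*} [Field F] [Fintype F] (hF : Fintype.card F = 7) (N : ℕ) :
    ∃ (H : Type) (_ : Group H) (_ : Finite H), N < Nat.card H ∧
      ((∀ p : ℕ, p.Prime → (p ∣ Nat.card (Matrix.ProjectiveSpecialLinearGroup (Fin 2) F) ↔ p ∣ Nat.card H)) ∧
      (∀ p q : ℕ, p.Prime → q.Prime → p ≠ q → ((∃ g : (Matrix.ProjectiveSpecialLinearGroup (Fin 2) F), orderOf g = p * q) ↔ (∃ g : H, orderOf g = p * q)))) := by
  classical
  let F8 := GaloisField 2 3
  haveI : Fintype F8 := Fintype.ofFinite F8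
  have h8 : Fintype.card F8 = 8 := by
    rw [← Nat.card_eq_fintype_card, GaloisField.card 2 3 (by norm_num)]; norm_num
  obtain ⟨H, i1, i2, ⟨e⟩⟩ := CfsgLib.Spectrum.exists_small_equiv
    ((Fin N → Multiplicative (Fin 2 → F8)) ⋊[CfsgLib.Spectrum.powAct
      (CfsgLib.Spectrum.slVecAct (Fin 2) F8) N] Matrix.SpecialLinearGroup (Fin 2) F8)
  haveI : Fintype H := i2
  refine ⟨H, i1, Finite.of_fintype H, ?_, ?_⟩
  · rw [Nat.card_congr e.toEquiv]
    exact CfsgLib.Spectrum.lt_card_pow_semidirect N
  have hf : ∀ g : Matrix.SpecialLinearGroup (Fin 2) F8, (orderOf g).Prime → orderOf g ≠ 2 →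
      ∀ v, CfsgLib.Spectrum.slVecAct (Fin 2) F8 g v = v → v = 1 := by
    intro g hg hg2 v hv
    by_contra hv1
    have hsq := CfsgLib.Spectrum.sl2_sq_eq_one_of_fixed g (v := v.toAdd) hv1 (by
      rw [← CfsgLib.Spectrum.slVecAct_apply, hv])
    exact hg2 ((Nat.prime_dvd_prime_iff_eq hg Nat.prime_two).1 (orderOf_dvd_of_pow_eq_one hsq))
  obtain ⟨h1, h2⟩ := CfsgLib.Spectrum.primeGraph_pow (φ := CfsgLib.Spectrum.slVecAct (Fin 2) F8)
    Nat.prime_two (CfsgLib.Spectrum.two_dvd_card_sl2 (F := F8))
    (fun v => by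
      apply Multiplicative.toAdd.injective
      ext i
      simp [CharTwo.two_nsmul, nsmul_eq_mul, CharTwo.two_eq_zero])
    (fun g hg hg2 => Or.inl (hf g hg hg2)) N
  obtain ⟨p7, o7⟩ := psl2_seven_graph hF
  -- the two groups have the same primes and no edge
  have hdvd : ∀ A : Matrix.SpecialLinearGroup (Fin 2) F8,
      orderOf A ∣ 2 ∨ orderOf A ∣ 7 ∨ orderOf A ∣ 9 := fun A =>
    (sl2_eight_pow h8 A).imp orderOf_dvd_of_pow_eq_one
      (Or.imp orderOf_dvd_of_pow_eq_one orderOf_dvd_of_pow_eq_one)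
  have p8 : ∀ r : ℕ, r.Prime →
      (r ∣ Nat.card (Matrix.SpecialLinearGroup (Fin 2) F8) ↔ r ∈ ({2, 3, 7} : Finset ℕ)) := by
    intro r hr
    simp only [Finset.mem_insert, Finset.mem_singleton]
    constructor
    · intro hd
      haveI := Fact.mk hr
      obtain ⟨g, hg⟩ := exists_prime_orderOf_dvd_card' r hd
      rcases hdvd g with h | h | h <;> rw [hg] at h
      · exact Or.inl ((Nat.prime_dvd_prime_iff_eq hr Nat.prime_two).1 h)
      · exact Or.inr (Or.inr ((Nat.prime_dvd_prime_iff_eq hr (by norm_num)).1 h))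
      · have h3 : r ∣ 3 := hr.dvd_of_dvd_pow (show r ∣ 3 ^ 2 by simpa using h)
        exact Or.inr (Or.inl ((Nat.prime_dvd_prime_iff_eq hr Nat.prime_three).1 h3))
    · rintro (rfl | rfl | rfl)
      · exact (CfsgLib.Spectrum.two_dvd_card_sl2 (F := F8))
      · haveI : Fact (Nat.Prime 3) := ⟨Nat.prime_three⟩
        have h1' : CfsgLib.Spectrum.sl2OfTrace (1 : F8) ^ 3 = 1 := by
          apply CfsgLib.Spectrum.sl2_pow_eq_one
          rw [CfsgLib.Spectrum.sl2OfTrace_trace]
          simp [CfsgLib.Spectrum.sl2Coef, CharTwo.neg_eq, CharTwo.add_self_eq_zero]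
        have h2' : CfsgLib.Spectrum.sl2OfTrace (1 : F8) ≠ 1 := fun h =>
          CfsgLib.Spectrum.sl2OfTrace_ne_scalar (1 : F8) 1 (by rw [h, map_one]; rfl)
        have d := orderOf_dvd_natCard (CfsgLib.Spectrum.sl2OfTrace (1 : F8))
        rwa [orderOf_eq_prime h1' h2'] at d
      · haveI : Fact (Nat.Prime 7) := ⟨by norm_num⟩
        -- a primitive element `a` gives a diagonal matrix of order 7
        obtain ⟨a, ha⟩ : ∃ a : F8ˣ, orderOf a = 7 := by
          refine exists_prime_orderOf_dvd_card' 7 ?_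
          rw [Nat.card_units, Nat.card_eq_fintype_card, h8]
        let D : F8ˣ →* Matrix.SpecialLinearGroup (Fin 2) F8 :=
          { toFun := fun u => ⟨!![(u : F8), 0; 0, ((u⁻¹ : F8ˣ) : F8)], by
              simp [Matrix.det_fin_two]⟩
            map_one' := by ext i j; fin_cases i <;> fin_cases j <;> simp
            map_mul' := fun u v => Subtype.ext (by
              change _ = (!![(u : F8), 0; 0, ((u⁻¹ : F8ˣ) : F8)] *
                !![(v : F8), 0; 0, ((v⁻¹ : F8ˣ) : F8)] : Matrix (Fin 2) (Fin 2) F8)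
              rw [Matrix.mul_fin_two]
              simp [mul_comm]) }
        have hD : Function.Injective D := fun u v h => by
          refine Units.ext ?_
          have h00 := congrFun (congrFun (congrArg Subtype.val h) 0) 0
          change (u : F8) = (v : F8) at h00
          exact h00
        rw [← ha, ← orderOf_injective D hD]
        exact orderOf_dvd_natCard _
  have noedge8 : ∀ r s : ℕ, r.Prime → s.Prime → r ≠ s →
      ¬ ∃ A : Matrix.SpecialLinearGroup (Fin 2) F8, orderOf A = r * s := by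
    rintro r s hr hs hrs ⟨A, hA⟩
    have hsing : ∀ (p k : ℕ), p.Prime → r * s ∣ p ^ k → False := fun p k hp h => hrs
      (((Nat.prime_dvd_prime_iff_eq hr hp).1 (hr.dvd_of_dvd_pow ((dvd_mul_right r s).trans h))).trans
        ((Nat.prime_dvd_prime_iff_eq hs hp).1 (hs.dvd_of_dvd_pow ((dvd_mul_left s r).trans h))).symm)
    rcases hdvd A with h | h | h <;> rw [hA] at h
    · exact hsing 2 1 Nat.prime_two (by simpa using h)
    · exact hsing 7 1 (by norm_num) (by simpa using h)
    · exact hsing 3 2 Nat.prime_three (by simpa using h)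
  have noedge7 : ∀ r s : ℕ, r.Prime → s.Prime → r ≠ s →
      ¬ ∃ g : Matrix.ProjectiveSpecialLinearGroup (Fin 2) F, orderOf g = r * s := by
    rintro r s hr hs hrs ⟨g, hg⟩
    have := o7 g
    rw [hg] at this
    have h4 : 2 * 3 ≤ r * s := by
      rcases Nat.lt_or_gt_of_ne hrs with h | h
      · exact Nat.mul_le_mul hr.two_le (by have := hr.two_le; omega)
      · rw [mul_comm r s]
        exact Nat.mul_le_mul hs.two_le (by have := hs.two_le; omega)
    simp only [Finset.mem_insert, Finset.mem_singleton] at this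
    have h7 : r * s = 7 := by omega
    have hp7 : (r * s).Prime := by rw [h7]; norm_num
    exact Nat.not_prime_mul hr.ne_one hs.ne_one hp7
  refine ⟨fun r hr => ?_, fun r s hr hs hrs => ?_⟩
  · rw [p7 r hr, Nat.card_congr e.toEquiv, ← h1 r hr, p8 r hr]
  · refine iff_of_false (noedge7 r s hr hs hrs) ?_
    rintro ⟨g, hg⟩
    exact noedge8 r s hr hs hrs ((h2 r s hr hs hrs).2 ⟨e g, by rw [MulEquiv.orderOf_eq, hg]⟩)

end Cfsg.Agent.S3678
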