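import Cfsg.Statements.S3680
import Cfsg.Agent.Lib.Solvable.MinimalNormal
import Cfsg.Agent.Lib.Solvable.Primitive
import Cfsg.Agent.Lib.Solvable.TwoMinimal
import Cfsg.Agent.Lib.Classical22.CharSimple

set_option autoImplicit false
open Cfsg

namespace Cfsg.Agent.S3680

/-- The socle of a finite primitive permutation group. Let a finite group G act faithfully and primitively on a set Ω, and let N be the subgroup generated by the minimal normal subgroups of G. Then either N is an elementary abelian p-group for some prime p and acts regularly on Ω (transitively with trivial point stabilizers), or N is isomorphic to a direct product of m ≥ 1 copies of a non-abelian simple group. -/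
theorem result {G Ω : Type*} [Group G] [Finite G] [MulAction G Ω] [FaithfulSMul G Ω] [Finite Ω]
    (hprim : MulAction.IsPreprimitive G Ω) (N : Subgroup G)
    (hN : N = sSup {V : Subgroup G | V.Normal ∧ V ≠ ⊥ ∧ ∀ M : Subgroup G, M.Normal → M ≤ V → M = ⊥ ∨ M = V}) :
    (∃ p : ℕ, p.Prime ∧ IsMulCommutative N ∧ (∀ x : N, x ^ p = 1) ∧
      MulAction.IsPretransitive N Ω ∧ ∀ ω : Ω, MulAction.stabilizer N ω = ⊥) ∨
    (∃ (T : Type) (_ : Group T) (m : ℕ), 1 ≤ m ∧ IsSimpleGroup T ∧ ¬ IsMulCommutative T ∧ Nonempty (N ≃* (Fin m → T))) := by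
  classical
  haveI := hprim.toIsPretransitive
  set S0 := {V : Subgroup G | V.Normal ∧ V ≠ ⊥ ∧ ∀ M : Subgroup G, M.Normal → M ≤ V → M = ⊥ ∨ M = V}
  by_cases hG : Nontrivial G
  swap
  · rw [not_nontrivial_iff_subsingleton] at hG
    haveI : Subsingleton Ω := ⟨fun a b => by
      obtain ⟨g, rfl⟩ := MulAction.exists_smul_eq G a b
      rw [Subsingleton.elim g 1, one_smul]⟩
    exact Or.inl ⟨2, Nat.prime_two, ⟨⟨fun a b => Subsingleton.elim _ _⟩⟩, fun x => Subsingleton.elim _ _,
      ⟨fun a b => ⟨1, Subsingleton.elim _ _⟩⟩, fun ω => Subsingleton.elim _ _⟩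
  obtain ⟨A, hAn, hA1, hAmin⟩ := CfsgLib.Solvable.exists_minimal_normal (G := G)
  haveI := hAn
  haveI : Nontrivial Ω := CfsgLib.Solvable.nontrivial_of_faithful (Ω := Ω) hA1
  obtain ⟨ω⟩ := (inferInstance : Nonempty Ω)
  set U := MulAction.stabilizer G ω
  have hU : IsCoatom U := by
    haveI := hprim
    exact MulAction.IsPreprimitive.isCoatom_stabilizer_of_isPreprimitive G ω
  have hcore : U.normalCore = ⊥ := CfsgLib.Solvable.normalCore_stabilizer_eq_bot ω
  have hAS : A ∈ S0 := ⟨hAn, hA1, hAmin⟩
  have hdisj : ∀ B ∈ S0, B ≠ A → A ⊓ B = ⊥ := by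
    intro B hB hne
    haveI := hB.1
    refine (hAmin (A ⊓ B) inferInstance inf_le_left).resolve_right fun h => hne ?_
    exact ((hB.2.2 A hAn (inf_eq_left.1 h)).resolve_left hA1).symm
  by_cases hcomm : ∀ a ∈ A, ∀ b ∈ A, a * b = b * a
  · have hNA : N = A := by
      rw [hN]
      refine le_antisymm (sSup_le fun B hB => ?_) (le_sSup hAS)
      by_contra hle
      haveI := hB.1
      have hne : B ≠ A := fun e => hle e.le
      have hs := CfsgLib.Solvable.two_minimal_structure U hU hcore A B hA1 hB.2.1 (hdisj B hB hne)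
      exact hs.2.2.2.2.1 ⟨⟨fun a b => Subtype.ext (hcomm a a.2 b b.2)⟩⟩
    have hsolA : Group.IsSolvable A := by
      letI : CommGroup A := { (inferInstance : Group A) with mul_comm := fun a b => Subtype.ext (hcomm a a.2 b b.2) }
      infer_instance
    obtain ⟨p, hp, hexp⟩ := CfsgLib.Solvable.exists_prime_pow_eq_one_of_minimal_normal A hA1 hAmin hsolA
    subst hNA
    refine Or.inl ⟨p, hp, ⟨⟨fun a b => Subtype.ext (hcomm a a.2 b b.2)⟩⟩,
      fun x => Subtype.ext (hexp x x.2), ⟨fun a b => ?_⟩, fun a => ?_⟩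
    · obtain ⟨-, -, hsup, -, -, -⟩ := CfsgLib.Solvable.primitive_abelian_minimal hprim N hA1 hcomm a
      obtain ⟨g, rfl⟩ := MulAction.exists_smul_eq G a b
      obtain ⟨x, hx, u, hu, rfl⟩ := Subgroup.mem_sup_of_normal_left.1 (hsup ▸ Subgroup.mem_top g)
      exact ⟨⟨x, hx⟩, by rw [mul_smul, MulAction.mem_stabilizer_iff.1 hu]; rfl⟩
    · obtain ⟨-, -, -, hinf, -, -⟩ := CfsgLib.Solvable.primitive_abelian_minimal hprim N hA1 hcomm a
      rw [Subgroup.eq_bot_iff_forall]
      intro x hx
      exact Subtype.ext ((Subgroup.eq_bot_iff_forall _).1 hinf x ⟨x.2, hx⟩)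
  · right
    haveI : Nontrivial A := (Subgroup.nontrivial_iff_ne_bot A).2 hA1
    have hchar : ∀ H : Subgroup A, H.Characteristic → H = ⊥ ∨ H = ⊤ := by
      intro H hH
      haveI := hH
      rcases hAmin (H.map A.subtype) inferInstance (Subgroup.map_subtype_le H) with h | h
      · exact Or.inl ((Subgroup.map_eq_bot_iff_of_injective _ A.subtype_injective).1 h)
      · right
        refine Subgroup.map_injective A.subtype_injective ?_
        rw [h, ← MonoidHom.range_eq_map, Subgroup.range_subtype]
    obtain ⟨T, _, hT, n, hn, ⟨e⟩⟩ := CfsgLib.Classical22.charSimple_iff.1 hchar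
    have hTnc : ¬ IsMulCommutative T := fun h => hcomm fun a ha b hb => by
      have : (⟨a, ha⟩ : A) * ⟨b, hb⟩ = ⟨b, hb⟩ * ⟨a, ha⟩ := e.injective (by
        rw [map_mul, map_mul]; exact funext fun i => h.is_comm.comm _ _)
      exact congrArg Subtype.val this
    by_cases huniq : ∀ B ∈ S0, B = A
    · have hNA : N = A := by
        rw [hN]; exact le_antisymm (sSup_le fun B hB => (huniq B hB).le) (le_sSup hAS)
      exact ⟨T, inferInstance, n, hn, hT, hTnc, ⟨(MulEquiv.subgroupCongr hNA).trans e⟩⟩
    · push_neg at huniq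
      obtain ⟨B, hB, hne⟩ := huniq
      haveI := hB.1
      have hd := hdisj B hB hne
      obtain ⟨-, hCA, -, -, -, ⟨eAB⟩, -⟩ :=
        CfsgLib.Solvable.two_minimal_structure U hU hcore A B hA1 hB.2.1 hd
      have hNAB : N = A ⊔ B := by
        rw [hN]
        refine le_antisymm (sSup_le fun C hC => ?_) (sup_le (le_sSup hAS) (le_sSup hB))
        by_cases hCA' : C = A
        · exact hCA'.le.trans le_sup_left
        · haveI := hC.1
          refine le_trans (fun c hc => ?_) le_sup_right
          rw [← hCA, Subgroup.mem_centralizer_iff]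
          exact fun a ha => Subgroup.commute_of_normal_of_disjoint A C inferInstance inferInstance
            (disjoint_iff.2 (hdisj C hC hCA')) a c ha hc
      have hab : ∀ (a : A) (b : B), Commute (a : G) b := fun a b =>
        Subgroup.commute_of_normal_of_disjoint A B inferInstance inferInstance (disjoint_iff.2 hd) a b a.2 b.2
      let μ : A × B →* G := MonoidHom.noncommCoprod A.subtype B.subtype hab
      have hμ : Function.Injective μ := by
        rw [injective_iff_map_eq_one]
        rintro ⟨a, b⟩ h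
        have h' : (a : G) * b = 1 := h
        have ha : (a : G) ∈ A ⊓ B := ⟨a.2, by
          rw [eq_inv_of_mul_eq_one_left h']; exact B.inv_mem b.2⟩
        rw [hd, Subgroup.mem_bot] at ha
        rw [ha, one_mul] at h'
        exact Prod.ext (Subtype.ext ha) (Subtype.ext h')
      have hμr : μ.range = N := by
        rw [hNAB]; exact (MonoidHom.noncommCoprod_range _ _ _).trans (by rw [Subgroup.range_subtype, Subgroup.range_subtype])
      let split : ((Fin n → T) × (Fin n → T)) ≃* (Fin (n + n) → T) :=
        { toEquiv := (Equiv.sumArrowEquivProdArrow (Fin n) (Fin n) T).symm.trans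
            (Equiv.arrowCongr finSumFinEquiv (Equiv.refl T))
          map_mul' := fun x y => funext fun i => by
            show Sum.elim (x.1 * y.1) (x.2 * y.2) (finSumFinEquiv.symm i) =
              Sum.elim x.1 x.2 (finSumFinEquiv.symm i) * Sum.elim y.1 y.2 (finSumFinEquiv.symm i)
            rcases finSumFinEquiv.symm i with j | j <;> rfl }
      exact ⟨T, inferInstance, n + n, by omega, hT, hTnc,
        ⟨(MulEquiv.subgroupCongr hμr.symm).trans ((MonoidHom.ofInjective hμ).symm.trans
          ((MulEquiv.prodCongr e (eAB.symm.trans e)).trans split))⟩⟩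

end Cfsg.Agent.S3680
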