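import Cfsg.Statements.S3681

set_option autoImplicit false
open Cfsg

namespace Cfsg.Agent.S3681

theorem isThreeCycle_comm {Ω : Type*} [DecidableEq Ω] [Fintype Ω] (g h : Equiv.Perm Ω) (x : Ω)
    (hgx : x ∈ g.support) (hhx : x ∈ h.support)
    (hone : ∀ y, y ∈ g.support → y ∈ h.support → y = x) : (g * h * g⁻¹ * h⁻¹).IsThreeCycle := by
  simp only [Equiv.Perm.mem_support] at hgx hhx hone
  have h1 : h (g x) = g x := by
    by_contra e
    exact hgx (hone _ (fun e' => hgx (g.injective e')) e)
  set s := Equiv.swap x (g x) with hs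
  have hon : ∀ z, h z ≠ z → g z = s z := by
    intro z hz
    by_cases e : z = x
    · rw [e, hs, Equiv.swap_apply_left]
    · have hgz : g z = z := by by_contra e'; exact e (hone z e' hz)
      rw [hgz, hs, Equiv.swap_apply_of_ne_of_ne e fun e' => hz (by rw [e', h1])]
  have hconj : g * h = s * h * s * g := by
    ext y
    simp only [Equiv.Perm.mul_apply]
    by_cases hy : h y = y
    · rw [hy]
      have hf : h (s (g y)) = s (g y) := by
        by_cases ex : g y = x
        · rw [ex, hs, Equiv.swap_apply_left, h1]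
        · by_cases egx : g y = g x
          · exact absurd hy (g.injective egx ▸ hhx)
          · rw [hs, Equiv.swap_apply_of_ne_of_ne ex egx]
            by_contra e
            have hfix : g (g y) = g y := by by_contra e'; exact ex (hone _ e' e)
            rw [g.injective hfix] at e
            exact e hy
      rw [hf, hs, Equiv.swap_apply_self]
    · rw [hon y hy, hs, Equiv.swap_apply_self]
      exact hon _ fun e => hy (h.injective e)
  have hcomm : g * h * g⁻¹ * h⁻¹ = Equiv.swap (g x) x * Equiv.swap (g x) (h x) := by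
    rw [hconj, mul_inv_cancel_right, mul_assoc s h s, mul_assoc s (h * s), hs,
      Equiv.swap_comm x (g x)]
    congr 1
    rw [← Equiv.swap_comm x (g x)]
    rw [← Equiv.swap_apply_apply h x (g x), h1, Equiv.swap_comm]
  rw [hcomm]
  refine Equiv.Perm.isThreeCycle_swap_mul_swap_same hgx (fun e => ?_) (fun e => hhx e.symm)
  exact hgx (h.injective (h1.trans e))
theorem exists_moved {Ω : Type*} [DecidableEq Ω] [Fintype Ω] (G : Subgroup (Equiv.Perm Ω))
    (hA : ∀ g ∈ G, ¬ g.IsThreeCycle) : ∃ Δ : Finset Ω, (Fintype.card Ω + 1) / 2 ≤ Δ.card ∧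
      ∀ g ∈ G, g.support ⊆ Δ → g = 1 := by
  classical
  obtain ⟨Δ, hΔ, hmax⟩ := (Finset.univ.filter fun Δ : Finset Ω => ∀ g ∈ G, g.support ⊆ Δ → g = 1).exists_max_image
    Finset.card ⟨∅, by simp [Equiv.Perm.support_eq_empty_iff]⟩
  rw [Finset.mem_filter] at hΔ
  refine ⟨Δ, ?_, hΔ.2⟩
  by_contra hlt
  rw [not_le] at hlt
  have hbig : (Fintype.card Ω + 1) / 2 ≤ Δᶜ.card := by rw [Finset.card_compl]; omega
  obtain ⟨h, hh, hhs, hh1⟩ : ∃ h ∈ G, h.support ⊆ Δᶜ ∧ h ≠ 1 := by
    by_contra hno
    push_neg at hno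
    have := hmax Δᶜ (Finset.mem_filter.2 ⟨Finset.mem_univ _, fun g hg hs => hno g hg hs⟩)
    omega
  obtain ⟨x, hx⟩ := Finset.nonempty_iff_ne_empty.2 (mt Equiv.Perm.support_eq_empty_iff.1 hh1)
  have hxΔ : x ∉ Δ := Finset.mem_compl.1 (hhs hx)
  obtain ⟨g, hg, hgs, hg1⟩ : ∃ g ∈ G, g.support ⊆ insert x Δ ∧ g ≠ 1 := by
    by_contra hno
    push_neg at hno
    have := hmax _ (Finset.mem_filter.2 ⟨Finset.mem_univ _, fun g hg hs => hno g hg hs⟩)
    rw [Finset.card_insert_of_notMem hxΔ] at this
    omega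
  have hgx : x ∈ g.support := by
    by_contra hn
    exact hg1 (hΔ.2 g hg fun y hy => (Finset.mem_insert.1 (hgs hy)).resolve_left fun e => hn (e ▸ hy))
  have hone : ∀ y, y ∈ g.support → y ∈ h.support → y = x := fun y hy hy' =>
    (Finset.mem_insert.1 (hgs hy)).resolve_right (Finset.mem_compl.1 (hhs hy'))
  exact hA _ (mul_mem (mul_mem (mul_mem hg hh) (inv_mem hg)) (inv_mem hh))
    (isThreeCycle_comm g h x hgx hx hone)

/-- Bochert's bound for primitive groups. Let a finite group G act faithfully and primitively on a finite set Ω with n elements, and suppose the image of G in the symmetric group of Ω does not contain the alternating group of Ω. Then |G| · ⌊(n + 1)/2⌋! ≤ n!, that is, the index of G in the symmetric group is at least ⌊(n + 1)/2⌋!. -/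
theorem result {G Ω : Type*} [Group G] [Finite G] [MulAction G Ω] [FaithfulSMul G Ω] [Fintype Ω] [DecidableEq Ω]
    (hprim : MulAction.IsPreprimitive G Ω) (hA : ¬ alternatingGroup Ω ≤ (MulAction.toPermHom G Ω).range) :
    Nat.card G * Nat.factorial ((Fintype.card Ω + 1) / 2) ≤ Nat.factorial (Fintype.card Ω) := by
  classical
  set R := (MulAction.toPermHom G Ω).range with hR
  haveI := hprim
  have hRp : MulAction.IsPreprimitive R Ω := by
    refine MulAction.IsPreprimitive.of_surjective (φ := (MulAction.toPermHom G Ω).rangeRestrict)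
      (f := ⟨id, fun g x => rfl⟩) Function.surjective_id
  have h3 : ∀ g ∈ R, ¬ g.IsThreeCycle := fun g hg h =>
    hA (Equiv.Perm.alternatingGroup_le_of_isPreprimitive_of_isThreeCycle_mem hRp h hg)
  obtain ⟨Δ, hΔ, htriv⟩ := exists_moved R h3
  have hcardR : Nat.card R = Nat.card G :=
    (Nat.card_congr ((MulAction.toPermHom G Ω).ofInjective MulAction.toPerm_injective).toEquiv).symm
  set S := (Equiv.Perm.ofSubtype (p := (· ∈ Δ))).range with hS
  have hcardS : Nat.card S = Δ.card.factorial := by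
    rw [hS, ← Nat.card_congr ((Equiv.Perm.ofSubtype (p := (· ∈ Δ))).ofInjective
      Equiv.Perm.ofSubtype_injective).toEquiv, Nat.card_perm, Nat.card_eq_fintype_card, Fintype.card_coe]
  have hinj : Function.Injective (fun p : R × S => (p.1 : Equiv.Perm Ω) * p.2) := by
    rintro ⟨a, b⟩ ⟨c, d⟩ e
    have e' : (a : Equiv.Perm Ω) * b = c * d := e
    have h1 : (c : Equiv.Perm Ω)⁻¹ * a = d * (b : Equiv.Perm Ω)⁻¹ := by
      rw [inv_mul_eq_iff_eq_mul, ← mul_assoc, eq_mul_inv_iff_mul_eq]; exact e'
    have h2 : (c : Equiv.Perm Ω)⁻¹ * a = 1 := by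
      refine htriv _ (mul_mem (inv_mem c.2) a.2) fun y hy => ?_
      rw [h1, Equiv.Perm.mem_support] at hy
      obtain ⟨u, hu⟩ : (d : Equiv.Perm Ω) * (b : Equiv.Perm Ω)⁻¹ ∈ S := mul_mem d.2 (inv_mem b.2)
      rw [← hu] at hy
      by_contra hn
      exact hy (Equiv.Perm.ofSubtype_apply_of_not_mem _ hn)
    have hac : c = a := Subtype.ext (inv_mul_eq_one.1 h2)
    subst hac
    exact Prod.ext rfl (Subtype.ext (mul_left_cancel e'))
  have hle := Nat.card_le_card_of_injective _ hinj
  rw [Nat.card_prod, hcardR, hcardS, Nat.card_perm, Nat.card_eq_fintype_card (α := Ω)] at hle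
  exact (Nat.mul_le_mul_left _ (Nat.factorial_le hΔ)).trans hle

end Cfsg.Agent.S3681
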