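import Cfsg.Statements.S3683

set_option autoImplicit false
open Cfsg

namespace Cfsg.Agent.S3683

/-- Let a finite group G act faithfully and primitively on a set Ω, and suppose the stabilizer of a point a fixes a second point b ≠ a (a suborbit of length 1 other than {a}). Then the stabilizer of a is trivial and G is cyclic of prime order. -/
theorem result {G Ω : Type*} [Group G] [Finite G] [MulAction G Ω] [FaithfulSMul G Ω] [Finite Ω]
    (hprim : MulAction.IsPreprimitive G Ω) (a b : Ω) (hab : a ≠ b) (hfix : ∀ g : G, g • a = a → g • b = b) :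
    MulAction.stabilizer G a = ⊥ ∧ IsCyclic G ∧ (Nat.card G).Prime := by
  haveI := hprim
  haveI : Nontrivial Ω := ⟨⟨a, b, hab⟩⟩
  have hmax := MulAction.IsPreprimitive.isCoatom_stabilizer_of_isPreprimitive G a
  have hle : MulAction.stabilizer G a ≤ MulAction.stabilizer G b := fun g hg => hfix g hg
  obtain ⟨g, hg⟩ := MulAction.exists_smul_eq G a b
  have hc : Nat.card (MulAction.stabilizer G b) = Nat.card (MulAction.stabilizer G a) := by
    exact (Nat.card_congr (MulAction.stabilizerEquivStabilizer hg.symm).toEquiv).symm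
  have heq : MulAction.stabilizer G a = MulAction.stabilizer G b :=
    Subgroup.eq_of_le_of_card_ge hle hc.le
  have hgn : g ∈ Subgroup.normalizer (MulAction.stabilizer G a : Set G) := by
    rw [Subgroup.mem_normalizer_iff]
    intro x
    conv_rhs => rw [heq, MulAction.mem_stabilizer_iff, mul_smul, mul_smul,
      ← hg, inv_smul_smul, smul_left_cancel_iff]
    rw [MulAction.mem_stabilizer_iff]
  have hga : g ∉ MulAction.stabilizer G a := fun h => hab (by
    rw [MulAction.mem_stabilizer_iff, hg] at h; exact h.symm)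
  have hn : (MulAction.stabilizer G a).Normal := Subgroup.normalizer_eq_top_iff.1 (hmax.2 _
    (lt_of_le_of_ne Subgroup.le_normalizer fun e => hga (e ▸ hgn)))
  have hbot : MulAction.stabilizer G a = ⊥ := by
    rw [Subgroup.eq_bot_iff_forall]
    intro x hx
    refine eq_of_smul_eq_smul (α := Ω) fun ω => ?_
    obtain ⟨h, rfl⟩ := MulAction.exists_smul_eq G a ω
    have h1 : h⁻¹ * x * h ∈ MulAction.stabilizer G a := by simpa using hn.conj_mem x hx h⁻¹
    rw [MulAction.mem_stabilizer_iff, mul_smul, mul_smul, inv_smul_eq_iff] at h1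
    rw [one_smul]; exact h1
  rw [hbot] at hmax
  have hgen : ∀ x : G, x ≠ 1 → Subgroup.zpowers x = ⊤ := fun x hx =>
    hmax.2 _ (bot_lt_iff_ne_bot.2 (Subgroup.zpowers_ne_bot.2 hx))
  have hg1 : g ≠ 1 := fun e => hga (e ▸ one_mem _)
  refine ⟨hbot, ⟨⟨g, fun x => (hgen g hg1 ▸ Subgroup.mem_top x :)⟩⟩, ?_⟩
  haveI : Nontrivial G := ⟨⟨g, 1, hg1⟩⟩
  obtain ⟨r, hr, hrd⟩ := Nat.exists_prime_and_dvd (Finite.one_lt_card (α := G)).ne'
  haveI := Fact.mk hr
  obtain ⟨x, hx⟩ := exists_prime_orderOf_dvd_card' r hrd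
  have hx1 : x ≠ 1 := fun e => hr.ne_one (by rw [← hx, e, orderOf_one])
  rwa [← Subgroup.card_top, ← hgen x hx1, Nat.card_zpowers, hx]

end Cfsg.Agent.S3683
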