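import Cfsg.Statements.S3684
import Cfsg.Agent.Lib.Classical.QuadBinary

set_option autoImplicit false
open Cfsg

namespace Cfsg.Agent.S3684

/-- Let a finite group G act faithfully and primitively on a set Ω, and suppose the stabilizer of a point a has an orbit of length 2. Then the stabilizer of a has order 2 and G is isomorphic to the dihedral group of order 2p for some prime p. -/
theorem result {G Ω : Type*} [Group G] [Finite G] [MulAction G Ω] [FaithfulSMul G Ω] [Finite Ω]
    (hprim : MulAction.IsPreprimitive G Ω) (a b : Ω) (h2 : Nat.card (MulAction.orbit (MulAction.stabilizer G a) b) = 2) :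
    Nat.card (MulAction.stabilizer G a) = 2 ∧ ∃ p : ℕ, p.Prime ∧ Nonempty (G ≃* DihedralGroup p) := by
  classical
  set A := MulAction.stabilizer G a with hA
  set B := MulAction.stabilizer G b with hB
  have hba : b ≠ a := by
    rintro rfl
    have : MulAction.orbit A b = {b} := by
      ext z
      simp only [MulAction.mem_orbit_iff, Set.mem_singleton_iff]
      exact ⟨fun ⟨g, hg⟩ => hg ▸ g.2, fun h => ⟨1, by rw [one_smul, h]⟩⟩
    rw [this, Nat.card_eq_fintype_card, Set.card_singleton] at h2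
    omega
  haveI : Nontrivial Ω := ⟨⟨b, a, hba⟩⟩
  haveI := hprim
  have hmax : IsCoatom A := (MulAction.isCoatom_stabilizer_iff_preprimitive G a).2 hprim
  obtain ⟨t, ht⟩ := MulAction.exists_smul_eq G a b
  have hconjB : B = A.map (MulAut.conj t).toMonoidHom := by
    rw [hB, ← ht, MulAction.stabilizer_smul_eq_stabilizer_map_conj]
  have hcardAB : Nat.card B = Nat.card A := by
    rw [hconjB]
    exact Subgroup.card_map_of_injective (MulAut.conj t).injective
  have hrel : B.relIndex A = 2 := by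
    rw [Nat.card_coe_set_eq, ← MulAction.index_stabilizer] at h2
    rw [Subgroup.relIndex, ← h2]
    congr 1
  set H := A ⊓ B with hH
  have cmr : ∀ K L : Subgroup G, K ≤ L → Nat.card K * K.relIndex L = Nat.card L := fun K L h => by
    rw [← Subgroup.relIndex_bot_left, ← Subgroup.relIndex_bot_left, Subgroup.relIndex_mul_relIndex _ _ _ bot_le h]
  have hcA : Nat.card H * 2 = Nat.card A := by
    rw [← hrel, hH, ← Subgroup.inf_relIndex_left A B]
    exact cmr _ _ inf_le_left
  have hrel2 : H.relIndex B = 2 := by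
    have := cmr H B inf_le_right
    rw [hcardAB, ← hcA] at this
    exact Nat.eq_of_mul_eq_mul_left Nat.card_pos this
  have hnorm : ∀ K : Subgroup G, H ≤ K → H.relIndex K = 2 → K ≤ Subgroup.normalizer (H : Set G) :=
    fun K hK h => (Subgroup.normal_subgroupOf_iff_le_normalizer hK).1 (Subgroup.normal_of_index_eq_two h)
  have hAB : ¬ B ≤ A := fun h => by
    rw [← Subgroup.relIndex_eq_one] at h
    have h1 := Subgroup.relIndex_inf_mul_relIndex A B B
    have : H.relIndex B = A.relIndex B := Subgroup.inf_relIndex_right A B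
    omega
  have hgen : A ⊔ B = ⊤ := hmax.2 _ (lt_of_le_of_ne le_sup_left (fun h => hAB (h ▸ le_sup_right)))
  have hrelA : H.relIndex A = 2 := by rw [hH, Subgroup.inf_relIndex_left]; exact hrel
  haveI hHn : H.Normal := Subgroup.normalizer_eq_top_iff.1 (top_le_iff.1 (hgen ▸
    sup_le (hnorm A inf_le_left hrelA) (hnorm B inf_le_right hrel2)))
  have hH1 : H = ⊥ := by
    rw [eq_bot_iff]
    intro h hh
    rw [Subgroup.mem_bot]
    refine FaithfulSMul.eq_of_smul_eq_smul (α := Ω) fun z => ?_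
    obtain ⟨g, rfl⟩ := MulAction.exists_smul_eq G a z
    have hmem : g⁻¹ * h * g ∈ A := (hHn.conj_mem' h hh g).1
    rw [hA, MulAction.mem_stabilizer_iff, mul_smul, mul_smul, inv_smul_eq_iff] at hmem
    rw [hmem, one_smul]
  have hA2 : Nat.card A = 2 := by rw [← hcA, hH1, Subgroup.card_bot, one_mul]
  refine ⟨hA2, ?_⟩
  haveI : Fact (Nat.Prime 2) := ⟨Nat.prime_two⟩
  obtain ⟨x, hx⟩ := exists_prime_orderOf_dvd_card' 2 (dvd_of_eq hA2.symm)
  obtain ⟨y, hy⟩ := exists_prime_orderOf_dvd_card' 2 (dvd_of_eq (hcardAB.trans hA2).symm)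
  have gen : ∀ (K : Subgroup G) (z : K), orderOf z = 2 → Nat.card K = 2 → K = Subgroup.zpowers (z : G) := by
    intro K z hz hK
    symm
    refine Subgroup.eq_of_le_of_card_ge (Subgroup.zpowers_le.2 z.2) ?_
    rw [Nat.card_zpowers, Subgroup.orderOf_coe, hz, hK]
  have hAx := gen A x hx hA2
  have hBy := gen B y hy (hcardAB.trans hA2)
  have hxx : (x : G) * x = 1 := by
    have := pow_orderOf_eq_one (x : G)
    rwa [Subgroup.orderOf_coe, hx, sq] at this
  have hyy : (y : G) * y = 1 := by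
    have := pow_orderOf_eq_one (y : G)
    rwa [Subgroup.orderOf_coe, hy, sq] at this
  have hxi : (x : G)⁻¹ = x := inv_eq_of_mul_eq_one_right hxx
  have hyi : (y : G)⁻¹ = y := inv_eq_of_mul_eq_one_right hyy
  set r := (x : G) * y with hr
  have hsr : (x : G) * r * x = r⁻¹ := by
    rw [hr, mul_inv_rev, hxi, hyi, ← mul_assoc, hxx, one_mul]
  have htop : Subgroup.zpowers (x : G) ⊔ Subgroup.zpowers r = ⊤ := by
    rw [eq_top_iff, ← hgen]
    refine sup_le (hAx.le.trans le_sup_left) (hBy.le.trans (Subgroup.zpowers_le.2 ?_))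
    have hm := mul_mem (Subgroup.mem_sup_left (Subgroup.mem_zpowers (x : G)) :
      (x : G) ∈ Subgroup.zpowers (x : G) ⊔ Subgroup.zpowers r)
      (Subgroup.mem_sup_right (Subgroup.mem_zpowers r))
    rwa [hr, ← mul_assoc, hxx, one_mul] at hm
  have hnormal : ∀ i : ℕ, (Subgroup.zpowers (r ^ i)).Normal := by
    intro i
    refine Subgroup.normalizer_eq_top_iff.1 (top_le_iff.1 (htop ▸ sup_le ?_ ?_)) <;>
      rw [Subgroup.zpowers_le] <;> refine Subgroup.mem_normalizer_fintype fun h hh => ?_ <;>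
      obtain ⟨j, rfl⟩ := Subgroup.mem_zpowers_iff.1 hh
    · show _ * _ * _ ∈ Subgroup.zpowers (r ^ i)
      rw [← conj_zpow, ← conj_pow, hxi, hsr, inv_pow, inv_zpow]
      exact inv_mem (Subgroup.zpow_mem _ (Subgroup.mem_zpowers _) _)
    · show _ * _ * _ ∈ Subgroup.zpowers (r ^ i)
      rw [← conj_zpow, ← conj_pow, mul_inv_cancel_right]
      exact Subgroup.zpow_mem _ (Subgroup.mem_zpowers _) _
  haveI hRn : (Subgroup.zpowers r).Normal := by simpa using hnormal 1
  have hxnot : (x : G) ∉ Subgroup.zpowers r := by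
    intro h
    have hGr : Subgroup.zpowers r = ⊤ :=
      top_le_iff.1 (htop ▸ sup_le (Subgroup.zpowers_le.2 h) le_rfl)
    have hcomm : ∀ u v : G, u * v = v * u := by
      intro u v
      obtain ⟨i, rfl⟩ := Subgroup.mem_zpowers_iff.1 (hGr ▸ Subgroup.mem_top u)
      obtain ⟨j, rfl⟩ := Subgroup.mem_zpowers_iff.1 (hGr ▸ Subgroup.mem_top v)
      exact (Commute.zpow_zpow_self r i j).eq
    have : (x : G) = 1 := FaithfulSMul.eq_of_smul_eq_smul (α := Ω) fun z => by
      obtain ⟨g, rfl⟩ := MulAction.exists_smul_eq G a z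
      rw [one_smul, ← mul_smul, hcomm, mul_smul, MulAction.mem_stabilizer_iff.1 x.2]
    rw [← Subgroup.orderOf_coe, this, orderOf_one] at hx
    omega
  have mem_two : ∀ w ∈ Subgroup.zpowers (x : G), w = 1 ∨ w = x := by
    intro w hw
    obtain ⟨i, rfl⟩ := Subgroup.mem_zpowers_iff.1 hw
    rcases Int.even_or_odd' i with ⟨j, rfl | rfl⟩
    · left; rw [zpow_mul, zpow_two, hxx, one_zpow]
    · right; rw [zpow_add, zpow_mul, zpow_two, hxx, one_zpow, one_mul, zpow_one]
  set n := orderOf r with hn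
  have hcard : Nat.card G = 2 * n := by
    have h1 : (Subgroup.zpowers r).index = 2 := by
      rw [Subgroup.index_eq_two_iff]
      refine ⟨(x : G), fun g => ?_⟩
      have hg : g ∈ Subgroup.zpowers (x : G) ⊔ Subgroup.zpowers r := htop ▸ Subgroup.mem_top g
      obtain ⟨w, hw, v, hv, rfl⟩ := Subgroup.mem_sup_of_normal_right.1 hg
      rcases mem_two w hw with rfl | rfl
      · rw [one_mul]
        refine Or.inr ⟨hv, fun h => hxnot ?_⟩
        exact ((Subgroup.zpowers r).mul_mem_cancel_left hv).1 h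
      · refine Or.inl ⟨?_, fun h => hxnot (((Subgroup.zpowers r).mul_mem_cancel_right hv).1 h)⟩
        have := hRn.conj_mem v hv x
        rwa [hxi] at this
    rw [← (Subgroup.zpowers r).card_mul_index, h1, Nat.card_zpowers, mul_comm]
  have hr1 : n ≠ 1 := fun h => by
    rw [hn, orderOf_eq_one_iff, hr] at h
    exact hAB (by
      rw [hBy, Subgroup.zpowers_le, show (y : G) = x by rw [← inv_eq_of_mul_eq_one_right h, hxi]]
      exact x.2)
  obtain ⟨q, hq, hqn⟩ := Nat.exists_prime_and_dvd hr1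
  haveI := hnormal q
  have hK : Subgroup.zpowers (x : G) ⊔ Subgroup.zpowers (r ^ q) ≠ ⊤ := by
    intro h
    have hg : r ∈ Subgroup.zpowers (x : G) ⊔ Subgroup.zpowers (r ^ q) := h ▸ Subgroup.mem_top r
    obtain ⟨w, hw, v, hv, hwv⟩ := Subgroup.mem_sup_of_normal_right.1 hg
    have hvr : v ∈ Subgroup.zpowers r :=
      (Subgroup.zpowers_le.2 (Subgroup.pow_mem _ (Subgroup.mem_zpowers r) q)) hv
    rcases mem_two w hw with rfl | rfl
    · rw [one_mul] at hwv
      obtain ⟨i, rfl⟩ := Subgroup.mem_zpowers_iff.1 hv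
      rw [← zpow_natCast, ← zpow_mul] at hwv
      have h1 : r ^ ((q : ℤ) * i - 1) = 1 := by rw [zpow_sub, hwv, zpow_one, mul_inv_cancel]
      have h2 : (q : ℤ) ∣ (q : ℤ) * i - 1 :=
        (Int.natCast_dvd_natCast.2 hqn).trans (orderOf_dvd_iff_zpow_eq_one.2 h1)
      have h3 : (q : ℤ) ∣ 1 := by
        have := (dvd_mul_right (q : ℤ) i).sub h2
        simpa using this
      exact hq.ne_one (Nat.dvd_one.1 (by exact_mod_cast h3))
    · exact hxnot (by
        rw [eq_mul_inv_of_mul_eq hwv]
        exact mul_mem (Subgroup.mem_zpowers r) (inv_mem hvr))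
  have hqA : r ^ q ∈ A := by
    by_contra h
    refine hK (hmax.2 _ (lt_of_le_of_ne (hAx ▸ le_sup_left) fun e => h ?_))
    rw [e]; exact Subgroup.mem_sup_right (Subgroup.mem_zpowers _)
  have hnq : n = q := by
    rw [hAx] at hqA
    rcases mem_two _ hqA with h | h
    · exact ((Nat.prime_dvd_prime_iff_eq hq hq).1 dvd_rfl) ▸
        (((Nat.dvd_prime hq).1 (orderOf_dvd_of_pow_eq_one h)).resolve_left hr1)
    · exact absurd (h ▸ Subgroup.pow_mem _ (Subgroup.mem_zpowers r) q) hxnot
  exact ⟨q, hq, CfsgLib.Classical.dihedral_of_rotation hq.pos hnq hxx hsr hxnot (hnq ▸ hcard)⟩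

end Cfsg.Agent.S3684
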