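import Cfsg.Statements.S3696

set_option autoImplicit false
open Cfsg

namespace Cfsg.Agent.S3696

theorem amgm (l : Multiset ℕ) : l.prod * l.card ^ l.card ≤ l.sum ^ l.card := by
  induction l using Quotient.inductionOn with | h L => ?_
  show ((L : Multiset ℕ)).prod * (L : Multiset ℕ).card ^ (L : Multiset ℕ).card ≤
    (L : Multiset ℕ).sum ^ (L : Multiset ℕ).card
  rw [Multiset.prod_coe, Multiset.sum_coe, Multiset.coe_card]
  rcases Nat.eq_zero_or_pos L.length with h0 | h0
  · rw [List.length_eq_zero_iff.1 h0]; simp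
  set k := L.length with hk
  have hprod : L.prod = ∏ i : Fin k, L.get i := by rw [← List.prod_ofFn, List.ofFn_get]
  have hsum : L.sum = ∑ i : Fin k, L.get i := by rw [← List.sum_ofFn, List.ofFn_get]
  have h := Real.geom_mean_le_arith_mean (Finset.univ : Finset (Fin k)) (fun _ => (1 : ℝ))
    (fun i => (L.get i : ℝ)) (fun _ _ => zero_le_one) (by simp; exact h0) (fun _ _ => Nat.cast_nonneg _)
  simp only [Real.rpow_one, Finset.sum_const, Finset.card_univ, Fintype.card_fin, nsmul_eq_mul,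
    mul_one, one_mul] at h
  have hk' : (0 : ℝ) < k := by exact_mod_cast h0
  have hP : (0 : ℝ) ≤ ∏ i : Fin k, (L.get i : ℝ) := Finset.prod_nonneg fun _ _ => Nat.cast_nonneg _
  have h' := pow_le_pow_left₀ (Real.rpow_nonneg hP _) h k
  rw [← Real.rpow_natCast ((∏ i : Fin k, (L.get i : ℝ)) ^ ((k : ℝ)⁻¹)) k, ← Real.rpow_mul hP,
    inv_mul_cancel₀ hk'.ne', Real.rpow_one, div_pow, le_div_iff₀ (pow_pos hk' k)] at h'
  rw [hprod, hsum]
  exact_mod_cast h'

theorem exists_factors (p : ℕ) (hp : 2 ≤ p) :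
    ∀ j a : ℕ, 1 ≤ j → j ≤ a → ∃ l : Multiset ℕ, l.card = j ∧ l.prod = p ^ a ∧ l.sum ≤ p ^ a := by
  intro j
  induction j with
  | zero => intro a h; omega
  | succ j ih =>
    intro a _ hja
    rcases Nat.eq_zero_or_pos j with rfl | hj
    · exact ⟨{p ^ a}, by simp, by simp, by simp⟩
    · obtain ⟨b, rfl⟩ : ∃ b, a = b + 1 := ⟨a - 1, by omega⟩
      obtain ⟨l, hl1, hl2, hl3⟩ := ih b hj (by omega)
      refine ⟨p ::ₘ l, by simp [hl1], by rw [Multiset.prod_cons, hl2, pow_succ, mul_comm], ?_⟩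
      rw [Multiset.sum_cons, pow_succ]
      have h2 : 2 ≤ p ^ b := le_trans hp (Nat.le_self_pow (by omega) p)
      nlinarith

variable {Ω : Type*} [Fintype Ω] [DecidableEq Ω]

/-- Elements of order dividing `p` of a commutative subgroup. -/
def omegaOne (p : ℕ) (A : Subgroup (Equiv.Perm Ω)) (hc : ∀ a ∈ A, ∀ b ∈ A, a * b = b * a) :
    Subgroup (Equiv.Perm Ω) where
  carrier := {x | x ∈ A ∧ x ^ p = 1}
  one_mem' := ⟨one_mem _, one_pow _⟩
  mul_mem' {x y} hx hy := ⟨mul_mem hx.1 hy.1, by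
    rw [(show Commute x y from hc x hx.1 y hy.1).mul_pow, hx.2, hy.2, one_mul]⟩
  inv_mem' {x} hx := ⟨inv_mem hx.1, by rw [inv_pow, hx.2, inv_one]⟩

theorem bound (p : ℕ) [hp : Fact p.Prime] : ∀ (N : ℕ) (A : Subgroup (Equiv.Perm Ω))
    (hc : ∀ a ∈ A, ∀ b ∈ A, a * b = b * a) (_ : IsPGroup p A) (S : Finset Ω),
    Nat.card A ≤ N → (∀ a ∈ A, a.support ⊆ S) →
    ∃ l : Multiset ℕ, p ^ l.card = Nat.card (omegaOne p A hc) ∧ l.prod = Nat.card A ∧ l.sum ≤ S.card := by
  classical
  intro N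
  induction N with
  | zero => intro A _ _ S h; have : 0 < Nat.card A := Nat.card_pos; omega
  | succ N ih =>
    intro A hc hA S hN hS
    by_cases hA1 : A = ⊥
    · refine ⟨0, ?_, by simp [hA1], by simp⟩
      have : omegaOne p A hc = ⊥ := eq_bot_iff.2 fun x hx => hA1 ▸ hx.1
      simp [this]
    haveI : Nontrivial A := (Subgroup.nontrivial_iff_ne_bot A).2 hA1
    obtain ⟨e, he, hAe⟩ := hA.nontrivial_iff_card.1 inferInstance
    obtain ⟨x, hx⟩ := exists_prime_orderOf_dvd_card' p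
      (show p ∣ Nat.card A by rw [hAe]; exact dvd_pow_self p (by omega))
    have hxp : (x : Equiv.Perm Ω) ^ p = 1 := by
      rw [← hx, ← Subgroup.orderOf_coe, pow_orderOf_eq_one]
    obtain ⟨w, hw⟩ : ∃ w, (x : Equiv.Perm Ω) w ≠ w := by
      by_contra h
      push_neg at h
      have : x = 1 := Subtype.ext (Equiv.ext h)
      rw [this, orderOf_one] at hx
      exact hp.out.ne_one hx.symm
    set B := A ⊓ MulAction.stabilizer (Equiv.Perm Ω) w with hB
    have hcB : ∀ a ∈ B, ∀ b ∈ B, a * b = b * a := fun a ha b hb => hc a ha.1 b hb.1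
    have hBA : B ≤ A := inf_le_left
    set O := MulAction.orbit A w
    have hfixO : ∀ b ∈ B, ∀ z ∈ O, b z = z := by
      rintro b hb _ ⟨a, rfl⟩
      show (b * (a : Equiv.Perm Ω)) w = (a : Equiv.Perm Ω) w
      rw [hc b hb.1 a a.2, Equiv.Perm.mul_apply, show b w = w from hb.2]
    have hOS : O ⊆ ↑S := by
      rintro _ ⟨a, rfl⟩
      show (a : Equiv.Perm Ω) w ∈ S
      by_cases h : (a : Equiv.Perm Ω) w = w
      · rw [h]; exact hS x x.2 (Equiv.Perm.mem_support.2 hw)
      · exact hS a a.2 (Equiv.Perm.mem_support.2 fun e => h ((a : Equiv.Perm Ω).injective e))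
    have hidx : Nat.card B * O.ncard = Nat.card A := by
      rw [← MulAction.index_stabilizer, ← (MulAction.stabilizer A w).card_mul_index]
      congr 1
      refine Nat.card_congr
        { toFun := fun b => ⟨⟨b.1, b.2.1⟩, b.2.2⟩
          invFun := fun a => ⟨a.1.1, a.1.2, a.2⟩
          left_inv := fun _ => rfl
          right_inv := fun _ => rfl }
    have hOn : 2 ≤ O.ncard := by
      rw [← Set.ncard_pair hw]
      refine Set.ncard_le_ncard ?_ (Set.toFinite _)
      rintro z (rfl | rfl)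
      · exact ⟨x, rfl⟩
      · exact MulAction.mem_orbit_self _
    obtain ⟨l', hl1, hl2, hl3⟩ := ih B hcB (hA.to_le hBA) (S.filter (· ∉ O))
      (by
        have : 0 < Nat.card B := Nat.card_pos
        nlinarith)
      (fun b hb z hz => Finset.mem_filter.2
        ⟨hS b hb.1 hz, fun hzO => Equiv.Perm.mem_support.1 hz (hfixO b hb z hzO)⟩)
    obtain ⟨a, -, ha⟩ := (Nat.dvd_prime_pow hp.out).1
      (hAe ▸ Dvd.intro_left _ hidx : O.ncard ∣ p ^ e)
    set TA := omegaOne p A hc with hTA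
    set TB := omegaOne p B hcB with hTB
    have hTBeq : TB = TA ⊓ B := le_antisymm (fun y hy => ⟨⟨hy.1.1, hy.2⟩, hy.1⟩) fun y hy => ⟨hy.2, hy.1.2⟩
    have hTp : IsPGroup p TA := hA.to_le fun y hy => hy.1
    have hrel : Nat.card TB * TB.relIndex TA = Nat.card TA := by
      rw [← Subgroup.relIndex_bot_left, ← Subgroup.relIndex_bot_left,
        Subgroup.relIndex_mul_relIndex _ _ _ bot_le (hTBeq ▸ inf_le_left)]
    obtain ⟨t, ht⟩ := IsPGroup.iff_card.1 hTp
    obtain ⟨j, -, hj⟩ := (Nat.dvd_prime_pow hp.out).1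
      (ht ▸ Dvd.intro_left _ hrel : TB.relIndex TA ∣ p ^ t)
    have hjle : p ^ j ≤ p ^ a := by
      rw [← hj, ← ha, hTBeq, Subgroup.inf_relIndex_left]
      refine le_trans (Subgroup.relIndex_le_of_le_right (fun y hy => hy.1 : TA ≤ A) ?_) (le_of_eq ?_)
      · exact Subgroup.index_ne_zero_of_finite
      · refine Nat.eq_of_mul_eq_mul_left (Nat.card_pos (α := B)) ?_
        rw [hidx, ← Subgroup.relIndex_bot_left, Subgroup.relIndex_mul_relIndex _ _ _ bot_le hBA,
          Subgroup.relIndex_bot_left]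
    have hj1 : 1 ≤ j := by
      by_contra h
      rw [Nat.lt_one_iff.1 (not_le.1 h), pow_zero, Subgroup.relIndex_eq_one] at hj
      exact hw (hj ⟨x.2, hxp⟩).1.2
    have hja : j ≤ a := (Nat.pow_le_pow_iff_right hp.out.one_lt).1 hjle
    obtain ⟨l, hk1, hk2, hk3⟩ := exists_factors p hp.out.two_le j a hj1 hja
    refine ⟨l + l', ?_, ?_, ?_⟩
    · rw [Multiset.card_add, pow_add, hl1, hk1, ← hj, mul_comm]; exact hrel
    · rw [Multiset.prod_add, hl2, hk2, ← ha, mul_comm]; exact hidx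
    · rw [Multiset.sum_add]
      have hsplit := Finset.card_filter_add_card_filter_not (s := S) (· ∉ O)
      have hO : (S.filter fun z => ¬ z ∉ O).card = p ^ a := by
        rw [← ha, ← Set.ncard_coe_finset]
        congr 1
        ext z
        simp only [Finset.coe_filter, not_not]
        exact ⟨fun h => h.2, fun h => ⟨hOS h, h⟩⟩
      omega

/-- Let p be a prime, Ω a finite set with n ≥ p elements, and A an abelian p-subgroup of the symmetric group on Ω whose elements of order dividing p number p^k (so k is the rank of A). Then |A| · k^k ≤ n^k, that is, |A| ≤ (n/k)^k. -/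
theorem result {Ω : Type*} [Fintype Ω] [DecidableEq Ω]
    (p : ℕ) (hp : p.Prime) (hn : p ≤ Fintype.card Ω) (A : Subgroup (Equiv.Perm Ω)) (hA : IsPGroup p A) (hab : IsMulCommutative A)
    (k : ℕ) (hk : Nat.card {x : A // x ^ p = 1} = p ^ k) :
    Nat.card A * k ^ k ≤ Fintype.card Ω ^ k := by
  classical
  haveI := Fact.mk hp
  have hc : ∀ a ∈ A, ∀ b ∈ A, a * b = b * a := fun a ha b hb =>
    congrArg Subtype.val (hab.is_comm.comm (⟨a, ha⟩ : A) ⟨b, hb⟩)
  obtain ⟨l, h1, h2, h3⟩ := bound p _ A hc hA Finset.univ le_rfl (fun a _ => Finset.subset_univ _)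
  have hTk : Nat.card (omegaOne p A hc) = p ^ k := by
    rw [← hk]
    exact Nat.card_congr
      { toFun := fun t => ⟨⟨t.1, t.2.1⟩, Subtype.ext t.2.2⟩
        invFun := fun t => ⟨t.1.1, t.1.2, congrArg Subtype.val t.2⟩
        left_inv := fun _ => rfl
        right_inv := fun _ => rfl }
  rw [hTk] at h1
  obtain rfl := Nat.pow_right_injective hp.two_le h1
  rw [← h2]
  exact (amgm l).trans (Nat.pow_le_pow_left (h3.trans (le_of_eq Finset.card_univ)) _)

end Cfsg.Agent.S3696
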