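import Cfsg.Statements.S3703
import Cfsg.Agent.Lib.Solvable.CoprimeAction

set_option autoImplicit false
open Cfsg

namespace Cfsg.Agent.S3703

open scoped Pointwise

/-- A Frobenius group `A ⋊ ⟨y⟩` with vanishing norm of `y` acts trivially through `A`. -/
theorem fixed_of_norm_zero {V F : Type*} [CommGroup V] [Finite V] [Group F] [Finite F] (φ : F →* MulAut V)
    (A : Subgroup F) (y : F) {n : ℕ} (hn : 0 < n) (hcop : (Nat.card A).Coprime (Nat.card V))
    (hnorm : ∀ a ∈ A, y * a * y⁻¹ ∈ A)
    (hfA : ∀ i, 0 < i → i < n → ∀ a ∈ A, Commute (y ^ i) a → a = 1)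
    (hzero : ∀ v : V, ∏ i ∈ Finset.range n, φ (y ^ i) v = 1) {a : F} (ha : a ∈ A) (v : V) : φ a v = v := by
  classical
  haveI := Fintype.ofFinite A
  have pown : ∀ i : ℕ, ∀ a ∈ A, y ^ i * a * (y ^ i)⁻¹ ∈ A := by
    intro i
    induction i with
    | zero => intro a ha; simpa using ha
    | succ i ih =>
      intro a ha
      have := hnorm _ (ih a ha)
      convert this using 1
      rw [pow_succ']; group
  have sumA : ∀ w : V, φ a (∏ b : A, φ (b : F) w) = ∏ b : A, φ (b : F) w := by
    intro w
    rw [map_prod, ← Equiv.prod_comp (Equiv.mulLeft (⟨a, ha⟩ : A)) (fun b : A => φ (b : F) w)]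
    exact Finset.prod_congr rfl fun b _ => by simp [map_mul]
  have key : ∀ i, 0 < i → i < n →
      φ a (∏ b : A, φ ((b : F) * y ^ i * (b : F)⁻¹) v) = ∏ b : A, φ ((b : F) * y ^ i * (b : F)⁻¹) v := by
    intro i hi hin
    let f : A → A := fun b =>
      ⟨(b : F) * (y ^ i * (b : F)⁻¹ * (y ^ i)⁻¹), mul_mem b.2 (pown i _ (inv_mem b.2))⟩
    have hf : Function.Bijective f := by
      refine Finite.injective_iff_bijective.1 fun b c h => ?_
      have h' := congrArg (fun z : F => (c : F)⁻¹ * z * (y ^ i * (b : F))) (congrArg Subtype.val h)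
      simp only [f] at h'
      have e1 : (c : F)⁻¹ * ((b : F) * (y ^ i * (b : F)⁻¹ * (y ^ i)⁻¹)) * (y ^ i * b) =
          (c : F)⁻¹ * b * y ^ i := by group
      have e2 : (c : F)⁻¹ * ((c : F) * (y ^ i * (c : F)⁻¹ * (y ^ i)⁻¹)) * (y ^ i * b) =
          y ^ i * ((c : F)⁻¹ * b) := by group
      rw [e1, e2] at h'
      exact (Subtype.ext (inv_mul_eq_one.1
        (hfA i hi hin _ (mul_mem (inv_mem c.2) b.2) h'.symm))).symm
    have e : ∏ b : A, φ ((b : F) * y ^ i * (b : F)⁻¹) v = ∏ b : A, φ (b : F) (φ (y ^ i) v) := by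
      rw [← Equiv.prod_comp (Equiv.ofBijective f hf) (fun b : A => φ (b : F) (φ (y ^ i) v))]
      refine Finset.prod_congr rfl fun b _ => ?_
      rw [← MulAut.mul_apply, ← map_mul]
      congr 2
      simp only [Equiv.ofBijective_apply, f]
      group
    rw [e, sumA]
  have hS : ∏ b : A, ∏ i ∈ Finset.range n, φ ((b : F) * y ^ i * (b : F)⁻¹) v = 1 := by
    refine Finset.prod_eq_one fun b _ => ?_
    simp only [map_mul, MulAut.mul_apply]
    rw [← map_prod, hzero, map_one]
  rw [Finset.prod_comm, Finset.range_eq_Ico, Finset.prod_eq_prod_Ico_succ_bot hn] at hS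
  simp only [pow_zero, mul_one, mul_inv_cancel, map_one, MulAut.one_apply, Finset.prod_const,
    Finset.card_univ, ← Nat.card_eq_fintype_card] at hS
  have hfix : φ a (v ^ Nat.card A) = v ^ Nat.card A := by
    rw [eq_inv_of_mul_eq_one_left hS, map_inv, map_prod]
    congr 1
    exact Finset.prod_congr rfl fun i hi =>
      key i (by have := Finset.mem_Ico.1 hi; omega) (Finset.mem_Ico.1 hi).2
  have h1 : (φ a v * v⁻¹) ^ Nat.card A = 1 := by
    rw [mul_pow, inv_pow, ← map_pow, hfix, mul_inv_cancel]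
  exact mul_inv_eq_one.1 (orderOf_eq_one_iff.1 (Nat.eq_one_of_dvd_coprimes hcop
    (orderOf_dvd_of_pow_eq_one h1) (orderOf_dvd_natCard _)))

theorem conj_eq_self_of_abelianization {G : Type*} [Group G] [Finite G] (P : Subgroup G) {a : G}
    (ha : ∀ v ∈ P, a * v * a⁻¹ ∈ P) (hcop : (orderOf a).Coprime (Nat.card P))
    (h : ∀ v ∈ P, ∀ hv : a * v * a⁻¹ * v⁻¹ ∈ P, (⟨_, hv⟩ : P) ∈ commutator P)
    (hfix : ∀ u : P, u ∈ commutator P → a * u * a⁻¹ = u) {v : G} (hv : v ∈ P) : a * v * a⁻¹ = v := by
  have hc : a * v * a⁻¹ * v⁻¹ ∈ P := mul_mem (ha v hv) (inv_mem hv)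
  set c := a * v * a⁻¹ * v⁻¹
  have hac : a * c * a⁻¹ = c := hfix ⟨c, hc⟩ (h v hv hc)
  have hi : ∀ i : ℕ, a ^ i * v * (a ^ i)⁻¹ = c ^ i * v := by
    intro i
    induction i with
    | zero => simp
    | succ i ih =>
      calc a ^ (i + 1) * v * (a ^ (i + 1))⁻¹ = a * (a ^ i * v * (a ^ i)⁻¹) * a⁻¹ := by
            rw [pow_succ']; group
        _ = a * (c ^ i * v) * a⁻¹ := by rw [ih]
        _ = (a * c * a⁻¹) ^ i * (a * v * a⁻¹) := by rw [conj_pow]; group
        _ = c ^ i * (c * v) := by rw [hac]; simp [c]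
        _ = c ^ (i + 1) * v := by rw [pow_succ]; group
  have h1 := hi (orderOf a)
  rw [pow_orderOf_eq_one, one_mul, inv_one, mul_one, eq_comm, mul_eq_right] at h1
  have h2 : orderOf c = 1 := Nat.eq_one_of_dvd_coprimes hcop (orderOf_dvd_of_pow_eq_one h1)
    (by rw [← Subgroup.orderOf_mk c hc]; exact orderOf_dvd_natCard _)
  exact mul_inv_eq_one.1 (orderOf_eq_one_iff.1 h2)

theorem frobenius_facts {Γ : Type*} [Group Γ] [Finite Γ] {H : Subgroup Γ} {F : Subgroup Γ} [F.Normal]
    (hH : Cfsg.IsFrobeniusComplement H) (hker : Cfsg.frobeniusKernel H = (F : Set Γ)) {h : Γ}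
    (hgen : H = Subgroup.zpowers h) {f : Γ} (hf : f ∈ F) :
    orderOf (h * f) = Nat.card H ∧
      ∀ i, 0 < i → i < Nat.card H → ∀ f' ∈ F, Commute ((h * f) ^ i) f' → f' = 1 := by
  have hdis : ∀ z ∈ H, z ∈ F → z = 1 := fun z hz hzF => by
    have : z ∈ Cfsg.frobeniusKernel H := by rw [hker]; exact hzF
    rcases this with h1 | h1
    · exact h1
    · exact absurd (by simpa using hz) (h1 1)
  have hh : h ∈ H := hgen ▸ Subgroup.mem_zpowers h
  have hn : orderOf h = Nat.card H := by rw [hgen, Nat.card_zpowers]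
  have hh1 : h ≠ 1 := fun e => hH.1 (by rw [hgen, e, Subgroup.zpowers_one_eq_bot])
  have hnk : h * f ∉ Cfsg.frobeniusKernel H := by
    rw [hker]
    exact fun e => hh1 (hdis h hh ((Subgroup.mul_mem_cancel_right F hf).1 e))
  simp only [Cfsg.frobeniusKernel, Set.mem_setOf_eq, not_or, not_forall, not_not] at hnk
  obtain ⟨-, g, hg⟩ := hnk
  rw [Subgroup.mem_pointwise_smul_iff_inv_smul_mem, MulAut.smul_def,
    MulAut.conj_inv_apply] at hg
  have hpow : ∀ i : ℕ, g⁻¹ * (h * f) ^ i * g ∈ H := fun i => by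
    have := pow_mem hg i
    rwa [show g⁻¹ * (h * f) * g = g⁻¹ * (h * f) * g⁻¹⁻¹ by rw [inv_inv], conj_pow, inv_inv] at this
  have hord : orderOf (h * f) = Nat.card H := by
    apply Nat.dvd_antisymm
    · have h1 : orderOf (g⁻¹ * (h * f) * g) = orderOf (h * f) := by
        conv_lhs => rw [show g⁻¹ * (h * f) * g = MulAut.conj g⁻¹ (h * f) by simp, MulEquiv.orderOf_eq]
      rw [← h1, ← Subgroup.orderOf_mk _ hg]
      exact orderOf_dvd_natCard _
    · rw [← hn]
      apply orderOf_dvd_of_pow_eq_one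
      refine hdis _ (pow_mem hh _) ?_
      rw [← QuotientGroup.eq_one_iff]
      have : ((h * f : Γ) : Γ ⧸ F) = (h : Γ ⧸ F) := by
        rw [QuotientGroup.mk_mul, (QuotientGroup.eq_one_iff f).2 hf, mul_one]
      rw [QuotientGroup.mk_pow, ← this, ← QuotientGroup.mk_pow, pow_orderOf_eq_one, QuotientGroup.mk_one]
  refine ⟨hord, fun i hi hin f' hf' hc => ?_⟩
  have hz1 : g⁻¹ * (h * f) ^ i * g ≠ 1 := fun e => by
    have : (h * f) ^ i = 1 := by
      have := congrArg (fun z => g * z * g⁻¹) e
      simpa [mul_assoc] using this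
    have := Nat.le_of_dvd hi (orderOf_dvd_of_pow_eq_one this)
    omega
  have hf'' : g⁻¹ * f' * g ∈ F := by
    have := Subgroup.Normal.conj_mem (inferInstance : F.Normal) f' hf' g⁻¹
    rwa [inv_inv] at this
  have hmem : g⁻¹ * f' * g ∈ H := by
    by_contra hno
    have hint := hH.2.2 _ hno
    refine hz1 ((Subgroup.eq_bot_iff_forall _).1 hint _ ⟨hpow i, ?_⟩)
    show g⁻¹ * (h * f) ^ i * g ∈ (MulAut.conj (g⁻¹ * f' * g) • H : Subgroup Γ)
    rw [Subgroup.mem_pointwise_smul_iff_inv_smul_mem, MulAut.smul_def, MulAut.conj_inv_apply]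
    have hco : f'⁻¹ * (h * f) ^ i * f' = (h * f) ^ i := by rw [mul_assoc, hc.eq]; group
    have : (g⁻¹ * f' * g)⁻¹ * (g⁻¹ * (h * f) ^ i * g) * (g⁻¹ * f' * g) = g⁻¹ * (h * f) ^ i * g := by
      calc _ = g⁻¹ * (f'⁻¹ * (h * f) ^ i * f') * g := by group
        _ = _ := by rw [hco]
    rw [this]; exact hpow i
  have := hdis _ hmem hf''
  have := congrArg (fun z => g * z * g⁻¹) this
  simpa [mul_assoc] using this

/-- Let N be a normal subgroup of the finite group G such that G/N is a Frobenius group with kernel F and cyclic complement H, where the order of F is coprime to that of N and F is not contained in the image of C_G(N) in G/N. Then G has an element of order p·#H for some prime p dividing the order of N. (A standard tool in recognising groups by their element orders.) -/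
theorem result {G : Type*} [Group G] [Finite G] (N : Subgroup G) [N.Normal]
    (Fb Hb : Subgroup (G ⧸ N)) [Fb.Normal] (hHb : Cfsg.IsFrobeniusComplement Hb) (hker : Cfsg.frobeniusKernel Hb = (Fb : Set (G ⧸ N)))
    (hcyc : IsCyclic Hb) (hcop : (Nat.card Fb).Coprime (Nat.card N))
    (hnot : ¬ Fb ≤ (Subgroup.centralizer (N : Set G)).map (QuotientGroup.mk' N)) :
    ∃ p : ℕ, p.Prime ∧ p ∣ Nat.card N ∧ ∃ g : G, orderOf g = p * Nat.card Hb := by
  classical
  by_contra hcon
  push_neg at hcon
  set π : G →* G ⧸ N := QuotientGroup.mk' N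
  obtain ⟨⟨h, hh⟩, hgen'⟩ := IsCyclic.exists_generator (α := Hb)
  have hgen : Hb = Subgroup.zpowers h := by
    refine le_antisymm (fun z hz => ?_) (Subgroup.zpowers_le.2 hh)
    obtain ⟨j, hj⟩ := Subgroup.mem_zpowers_iff.1 (hgen' ⟨z, hz⟩)
    exact ⟨j, congrArg Subtype.val hj⟩
  set n := Nat.card Hb
  have hn0 : 0 < n := Nat.card_pos
  have hlift : ∀ x : G, (∃ f ∈ Fb, π x = h * f) → x ^ n = 1 := by
    intro x ⟨f, hf, hx⟩
    by_contra hne
    have hord : orderOf (π x) = n := hx ▸ (frobenius_facts hHb hker hgen hf).1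
    obtain ⟨p, hp, hpd⟩ := Nat.exists_prime_and_dvd (show orderOf (x ^ n) ≠ 1 by rwa [Ne, orderOf_eq_one_iff])
    have hxN : x ^ n ∈ N := by
      rw [← QuotientGroup.eq_one_iff (N := N)]
      show π (x ^ n) = 1
      rw [map_pow, ← hord, pow_orderOf_eq_one]
    have hdn : n ∣ orderOf x := hord ▸ orderOf_map_dvd π x
    have he : orderOf (x ^ n) = orderOf x / n := by rw [orderOf_pow_of_dvd hn0.ne' hdn]
    have hpn : p * n ∣ orderOf x := by
      rw [← Nat.div_mul_cancel hdn, ← he]; exact Nat.mul_dvd_mul_right hpd _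
    refine hcon p hp (hpd.trans ?_) (x ^ (orderOf x / (p * n))) (orderOf_pow_orderOf_div (orderOf_pos x).ne' hpn)
    rw [← Subgroup.orderOf_mk _ hxN]
    exact orderOf_dvd_natCard _
  set Ft := Fb.comap π
  obtain ⟨q, Qs, hq, hnc⟩ : ∃ (q : ℕ) (Qs : Sylow q Ft), q.Prime ∧
      ¬ (Qs : Subgroup Ft).map Ft.subtype ≤ Subgroup.centralizer (N : Set G) ∧ q ∣ Nat.card Fb := by
    by_contra hall
    push_neg at hall
    set C := (Subgroup.centralizer (N : Set G) ⊔ N) ⊓ Ft with hC
    apply hnot
    have hle : N ≤ Ft := fun z hz => by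
      show π z ∈ Fb
      rw [show π z = 1 from (QuotientGroup.eq_one_iff z).2 hz]; exact one_mem _
    have hidx : Fb ≤ C.map π := by
      have key : (C.map π).relIndex Fb = 1 := by
        by_contra hne
        obtain ⟨q, hq, hqd⟩ := Nat.exists_prime_and_dvd hne
        haveI := Fact.mk hq
        have hqF : q ∣ Nat.card Fb := hqd.trans (Subgroup.relIndex_dvd_card _ _)
        obtain ⟨Qs⟩ : Nonempty (Sylow q Ft) := inferInstance
        have hQC : (Qs : Subgroup Ft).map Ft.subtype ≤ Subgroup.centralizer (N : Set G) := by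
          by_contra h
          exact hall q Qs hq h hqF
        have hQimg : ((Qs : Subgroup Ft).map Ft.subtype).map π ≤ C.map π := by
          refine Subgroup.map_mono (le_inf (hQC.trans le_sup_left) ?_)
          exact Subgroup.map_subtype_le _
        have hCF : C.map π ≤ Fb := Subgroup.map_le_iff_le_comap.2 inf_le_right
        have hqN : ¬ q ∣ Nat.card N := fun h => hq.ne_one (Nat.eq_one_of_dvd_coprimes hcop hqF h)
        set e := (Nat.card Fb).factorization q
        have hFt : Nat.card Ft = Nat.card N * Nat.card Fb := by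
          have h1 : N.relIndex Ft = Nat.card Fb := by
            have h0 := Subgroup.relIndex_ker (f := π) (K := Ft)
            rw [QuotientGroup.ker_mk', Subgroup.map_comap_eq_self_of_surjective
              (QuotientGroup.mk'_surjective N)] at h0
            exact h0
          rw [← h1, ← Subgroup.relIndex_bot_left, ← Subgroup.relIndex_bot_left,
            Subgroup.relIndex_mul_relIndex _ _ _ bot_le hle]
        have hcardQ : q ^ e = Nat.card (((Qs : Subgroup Ft).map Ft.subtype).map π) := by
          have h1 : Nat.card ((Qs : Subgroup Ft).map Ft.subtype) = q ^ e := by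
            rw [Subgroup.card_map_of_injective Ft.subtype_injective, Qs.card_eq_multiplicity, hFt,
              Nat.factorization_mul Nat.card_pos.ne' Nat.card_pos.ne', Finsupp.add_apply,
              Nat.factorization_eq_zero_of_not_dvd hqN, zero_add]
          have h2 : N.relIndex ((Qs : Subgroup Ft).map Ft.subtype) =
              Nat.card (((Qs : Subgroup Ft).map Ft.subtype).map π) := by
            rw [← Subgroup.relIndex_ker, QuotientGroup.ker_mk']
          rw [← h1, ← h2, ← Subgroup.inf_relIndex_left _ N, CfsgLib.Solvable.disjoint_of_coprime (by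
            rw [h1]; exact Nat.Coprime.pow_left _ ((Nat.Prime.coprime_iff_not_dvd hq).2 hqN)),
            Subgroup.relIndex_bot_left]
        have hd : q ^ e ∣ Nat.card (C.map π) := hcardQ ▸ Subgroup.card_dvd_of_le hQimg
        have hm : Nat.card (C.map π) * (C.map π).relIndex Fb = Nat.card Fb := by
          rw [← Subgroup.relIndex_bot_left, ← Subgroup.relIndex_bot_left,
            Subgroup.relIndex_mul_relIndex _ _ _ bot_le hCF]
        have : q ^ (e + 1) ∣ Nat.card Fb := by
          rw [← hm, pow_succ]; exact mul_dvd_mul hd hqd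
        have := (hq.pow_dvd_iff_le_factorization Nat.card_pos.ne').1 this
        omega
      exact Subgroup.relIndex_eq_one.1 key
    refine hidx.trans ((Subgroup.map_mono inf_le_left).trans ?_)
    rw [Subgroup.map_sup, (Subgroup.map_eq_bot_iff N).2 (QuotientGroup.ker_mk' N).ge, sup_bot_eq]
  obtain ⟨hnc, hqF⟩ := hnc
  haveI := Fact.mk hq
  have hqN : ¬ q ∣ Nat.card N := fun h => hq.ne_one (Nat.eq_one_of_dvd_coprimes hcop hqF h)
  set Q := (Qs : Subgroup Ft).map Ft.subtype
  have hQF : Q ≤ Ft := Subgroup.map_subtype_le _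
  have hQq : IsPGroup q Q := Qs.2.map _
  have hcopQN : (Nat.card Q).Coprime (Nat.card N) := by
    obtain ⟨k, hk⟩ := IsPGroup.iff_card.1 hQq
    rw [hk]; exact Nat.Coprime.pow_left _ ((Nat.Prime.coprime_iff_not_dvd hq).2 hqN)
  have hQN : Q ≤ Subgroup.normalizer (N : Set G) := by
    rw [Subgroup.normalizer_eq_top]; exact le_top
  have hsol : Group.IsSolvable Q ∨ Group.IsSolvable N := Or.inl (by haveI := hQq.isNilpotent; infer_instance)
  obtain ⟨p, hp, Ps, hPinv, hPnc⟩ : ∃ (p : ℕ) (_ : p.Prime) (Ps : Sylow p N),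
      Q ≤ Subgroup.normalizer ((Ps : Subgroup N).map N.subtype : Set G) ∧
      ¬ (Ps : Subgroup N).map N.subtype ≤ Subgroup.centralizer (Q : Set G) := by
    by_contra hall
    push_neg at hall
    apply hnc
    have hC : Nat.card N ∣ Nat.card (N ⊓ Subgroup.centralizer (Q : Set G) : Subgroup G) := by
      refine (Nat.dvd_iff_prime_pow_dvd_dvd _ _).2 fun p k hp hpk => ?_
      haveI := Fact.mk hp
      obtain ⟨Ps, hPs⟩ := CfsgLib.Solvable.exists_invariant_sylow Q N hQN hcopQN hsol p
      have h1 := Subgroup.card_dvd_of_le (le_inf (Subgroup.map_subtype_le _) (hall p hp Ps hPs))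
      rw [Subgroup.card_map_of_injective N.subtype_injective, Ps.card_eq_multiplicity] at h1
      exact (Nat.pow_dvd_pow p ((hp.pow_dvd_iff_le_factorization Nat.card_pos.ne').1 hpk)).trans h1
    have hNC : N ≤ Subgroup.centralizer (Q : Set G) := by
      have : N ⊓ Subgroup.centralizer (Q : Set G) = N :=
        Subgroup.eq_of_le_of_card_ge inf_le_left (Nat.le_of_dvd Nat.card_pos hC)
      exact this ▸ inf_le_right
    exact Subgroup.le_centralizer_iff.1 hNC
  haveI := Fact.mk hp
  set P := (Ps : Subgroup N).map N.subtype with hP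
  -- a lift of a generator normalizing both `Q` and `P`
  haveI : Ft.Normal := inferInstanceAs (Fb.comap π).Normal
  obtain ⟨h0, hh0⟩ := QuotientGroup.mk'_surjective N h
  obtain ⟨x0, hx0, t, ht, hxt⟩ := Subgroup.mem_sup_of_normal_right.1
    ((Sylow.normalizer_sup_eq_top Qs).ge (Subgroup.mem_top h0))
  have hx0i : π x0 = h * (π t)⁻¹ := by
    rw [eq_mul_inv_iff_mul_eq, ← map_mul, hxt, hh0]
  have hxQ : ∀ z ∈ Q, x0⁻¹ * z * x0 ∈ Q := fun z hz => (Subgroup.mem_normalizer_iff''.1 hx0 z).1 hz
  have hxQ' : Q ≤ Subgroup.normalizer ((MulAut.conj x0 • P : Subgroup G) : Set G) := by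
    intro a ha
    refine Subgroup.mem_normalizer_fintype fun z hz => ?_
    rw [SetLike.mem_coe, Subgroup.mem_pointwise_smul_iff_inv_smul_mem, MulAut.smul_def,
      MulAut.conj_inv_apply] at hz ⊢
    have := (Subgroup.mem_normalizer_iff.1 (hPinv (hxQ a ha)) _).1 hz
    convert this using 1
    group
  obtain ⟨Ps', hPs'⟩ := CfsgLib.Solvable.exists_sylow_map_eq (K := N) (H := MulAut.conj x0 • P)
    (fun z hz => by
      rw [Subgroup.mem_pointwise_smul_iff_inv_smul_mem, MulAut.smul_def, MulAut.conj_inv_apply] at hz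
      have := Subgroup.Normal.conj_mem (inferInstance : N.Normal) _ (Subgroup.map_subtype_le _ hz) x0
      simpa [mul_assoc] using this)
    Ps (by rw [← Nat.card_congr (Subgroup.equivSMul (MulAut.conj x0) P).toEquiv,
        Subgroup.card_map_of_injective N.subtype_injective])
  obtain ⟨c, hc, hcP⟩ := CfsgLib.Solvable.exists_centralizer_conj_sylow Q N hQN hcopQN hsol Ps' Ps
    (by rw [hPs']; exact hxQ') hPinv
  set x := c * x0
  have hxP : x ∈ Subgroup.normalizer (P : Set G) := by
    have e : MulAut.conj x • P = P := by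
      rw [hPs', smul_smul, ← map_mul] at hcP
      exact hcP
    refine Subgroup.mem_normalizer_fintype fun z hz => ?_
    rw [← e]
    exact ⟨z, hz, rfl⟩
  have hxQn : ∀ a ∈ Q, x * a * x⁻¹ ∈ Q := by
    intro a ha
    have h1 := (Subgroup.mem_normalizer_iff.1 hx0 a).1 ha
    have h2 : c * (x0 * a * x0⁻¹) * c⁻¹ = x0 * a * x0⁻¹ := by
      rw [← (Subgroup.mem_centralizer_iff.1 hc.2 _ h1)]; group
    have : x * a * x⁻¹ = x0 * a * x0⁻¹ := by
      rw [← h2]; simp only [x]; group
    rw [this]; exact h1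
  have hxi : π x = h * (π t)⁻¹ := by
    rw [map_mul, show π c = 1 from (QuotientGroup.eq_one_iff c).2 hc.1, one_mul, hx0i]
  obtain ⟨hxord, hxfpf⟩ := frobenius_facts hHb hker hgen (inv_mem (show π t ∈ Fb from ht))
  rw [← hxi] at hxord hxfpf
  have hcopA : ∀ a ∈ Q, (orderOf a).Coprime (Nat.card N) := fun a ha =>
    hcopQN.coprime_dvd_left (by rw [← Subgroup.orderOf_mk _ ha]; exact orderOf_dvd_natCard _)
  apply hPnc
  -- minimal invariant subgroups: induction on subgroups of `P`
  suffices main : ∀ (R : Subgroup G), R ≤ P → x ∈ Subgroup.normalizer (R : Set G) →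
      Q ≤ Subgroup.normalizer (R : Set G) → R ≤ Subgroup.centralizer (Q : Set G) from
    main P le_rfl hxP hPinv
  intro R
  induction hR : Nat.card R using Nat.strong_induction_on generalizing R with
  | _ k ih =>
    intro hRP hxR hQR
    by_cases hR1 : R = ⊥
    · rw [hR1]; exact bot_le
    have hRp : IsPGroup p R := (Ps.2.map _).to_le hRP
    have hRN : R ≤ N := hRP.trans (Subgroup.map_subtype_le _)
    set D := (commutator R).map R.subtype
    have hDlt : Nat.card D < Nat.card R := by
      refine lt_of_le_of_ne (Nat.le_of_dvd Nat.card_pos (Subgroup.card_dvd_of_le (Subgroup.map_subtype_le _))) ?_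
      intro e
      haveI : Nontrivial R := (Subgroup.nontrivial_iff_ne_bot R).2 hR1
      haveI := hRp.isNilpotent
      haveI : Group.IsSolvable R := inferInstance
      refine (Group.IsSolvable.commutator_lt_top_of_nontrivial R).ne ?_
      rw [Subgroup.card_map_of_injective R.subtype_injective] at e
      exact Subgroup.eq_top_of_card_eq _ e
    have hDnorm : ∀ g ∈ Subgroup.normalizer (R : Set G), g ∈ Subgroup.normalizer (D : Set G) := by
      intro g hg
      have e : D = ⁅R, R⁆ := by
        rw [show D = (commutator R).map R.subtype from rfl, Subgroup.map_subtype_commutator]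
      refine Subgroup.mem_normalizer_fintype fun z hz => ?_
      rw [SetLike.mem_coe, e] at hz ⊢
      have hmap : R.map (MulAut.conj g).toMonoidHom ≤ R := by
        rintro _ ⟨r, hr, rfl⟩; exact (Subgroup.mem_normalizer_iff.1 hg r).1 hr
      have := Subgroup.mem_map_of_mem (MulAut.conj g).toMonoidHom hz
      rw [Subgroup.map_commutator] at this
      exact Subgroup.commutator_mono hmap hmap this
    have hDfix := ih _ (hR ▸ hDlt) D rfl ((Subgroup.map_subtype_le _).trans hRP) (hDnorm x hxR)
      (fun a ha => hDnorm a (hQR ha))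
    -- the action on the abelianization
    set M := Subgroup.normalizer (R : Set G)
    let cj : M → (R ≃* R) := fun g =>
      { toFun := fun v => ⟨g * v * (g : G)⁻¹, (Subgroup.mem_normalizer_iff.1 g.2 v).1 v.2⟩
        invFun := fun v => ⟨(g : G)⁻¹ * v * g, (Subgroup.mem_normalizer_iff''.1 g.2 v).1 v.2⟩
        left_inv := fun v => Subtype.ext (by show (g : G)⁻¹ * (g * v * (g : G)⁻¹) * g = v; group)
        right_inv := fun v => Subtype.ext (by show (g : G) * ((g : G)⁻¹ * v * g) * (g : G)⁻¹ = v; group)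
        map_mul' := fun v w => Subtype.ext (by
          show (g : G) * (v * w) * (g : G)⁻¹ = g * v * (g : G)⁻¹ * (g * w * (g : G)⁻¹); group) }
    let φ : M →* MulAut (Abelianization R) :=
      { toFun := fun g => (cj g).abelianizationCongr
        map_one' := MulEquiv.ext fun v => by
          induction v using QuotientGroup.induction_on with | H v => ?_
          show Abelianization.of (cj 1 v) = Abelianization.of v
          congr 1; exact Subtype.ext (by show ((1 : M) : G) * v * ((1 : M) : G)⁻¹ = v; simp)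
        map_mul' := fun g g' => MulEquiv.ext fun v => by
          induction v using QuotientGroup.induction_on with | H v => ?_
          show Abelianization.of (cj (g * g') v) = Abelianization.of (cj g (cj g' v))
          congr 1; exact Subtype.ext (by
            show ((g * g' : M) : G) * v * ((g * g' : M) : G)⁻¹ = g * (g' * v * (g' : G)⁻¹) * (g : G)⁻¹
            rw [Subgroup.coe_mul]; group) }
    set y : M := ⟨x, hxR⟩
    have hzero : ∀ v : Abelianization R, ∏ i ∈ Finset.range n, φ (y ^ i) v = 1 := by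
      intro v
      induction v using QuotientGroup.induction_on with | H v => ?_
      have hv : ∀ i : ℕ, ∃ w : R, ((v : G) * x) ^ i = (w : G) * x ^ i ∧
          (Abelianization.of w : Abelianization R) =
            ∏ j ∈ Finset.range i, φ (y ^ j) (Abelianization.of v) := by
        intro i
        induction i with
        | zero => exact ⟨1, by simp, by simp⟩
        | succ i ihi =>
          obtain ⟨w, hw1, hw2⟩ := ihi
          refine ⟨w * cj (y ^ i) v, ?_, ?_⟩
          · show ((v : G) * x) ^ (i + 1) = (w : G) * (((y ^ i : M) : G) * v * ((y ^ i : M) : G)⁻¹) * x ^ (i + 1)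
            rw [pow_succ, hw1, Subgroup.coe_pow, pow_succ, show (y : G) = x from rfl]; group
          · rw [map_mul, hw2, Finset.prod_range_succ]; rfl
      obtain ⟨w, hw1, hw2⟩ := hv n
      have e1 : ((v : G) * x) ^ n = 1 := hlift _ ⟨_, inv_mem (show π t ∈ Fb from ht), by
        rw [map_mul, show π v = 1 from (QuotientGroup.eq_one_iff _).2 (hRN v.2), one_mul, hxi]⟩
      rw [e1, hlift x ⟨_, inv_mem (show π t ∈ Fb from ht), hxi⟩, mul_one] at hw1
      rw [show w = 1 from Subtype.ext hw1.symm, map_one] at hw2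
      exact hw2.symm
    have hcopR : ∀ a ∈ Q, (orderOf a).Coprime (Nat.card R) := fun a ha =>
      (hcopA a ha).coprime_dvd_right (Subgroup.card_dvd_of_le hRN)
    intro v hv
    rw [Subgroup.mem_centralizer_iff]
    intro a ha
    refine mul_inv_eq_iff_eq_mul.1 (conj_eq_self_of_abelianization R
      (fun w hw => (Subgroup.mem_normalizer_iff.1 (hQR ha) w).1 hw) (hcopR a ha) ?_ ?_ hv)
    · intro w hw hwc
      have hfix := fixed_of_norm_zero φ (Q.subgroupOf M) y hn0 ?_
        (fun b hb => hxQn b hb) ?_ hzero (a := ⟨a, hQR ha⟩) ha (Abelianization.of ⟨w, hw⟩)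
      · rw [← Abelianization.ker_of, MonoidHom.mem_ker]
        have e : (⟨a * w * a⁻¹ * w⁻¹, hwc⟩ : R) = cj ⟨a, hQR ha⟩ ⟨w, hw⟩ * (⟨w, hw⟩ : R)⁻¹ := rfl
        rw [e, map_mul, map_inv, mul_inv_eq_one]
        exact hfix
      · rw [Nat.card_congr (Subgroup.subgroupOfEquivOfLe hQR).toEquiv]
        refine hcopQN.coprime_dvd_right ?_
        exact (Subgroup.card_quotient_dvd_card _).trans (Subgroup.card_dvd_of_le hRN)
      · intro i hi hin b hb hcomm
        refine Subtype.ext ?_
        have h1 : π (b : G) = 1 := hxfpf i hi hin _ (hQF hb) (by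
          have := congrArg (fun z : M => π (z : G)) hcomm.eq
          simpa [Commute, SemiconjBy, y] using this)
        have h2 : (b : G) ∈ Q ⊓ N := ⟨hb, (QuotientGroup.eq_one_iff _).1 h1⟩
        rw [CfsgLib.Solvable.disjoint_of_coprime hcopQN, Subgroup.mem_bot] at h2
        exact h2
    · intro u hu
      rw [mul_inv_eq_iff_eq_mul]
      exact (Subgroup.mem_centralizer_iff.1 (hDfix ⟨u, hu, rfl⟩) a ha)

end Cfsg.Agent.S3703
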