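import Cfsg.Statements.S3704
import Cfsg.Agent.Lib.Char.PermChar

set_option autoImplicit false
open Cfsg

namespace Cfsg.Agent.S3704

/-- Let G be a finite group acting faithfully and 2-transitively on a finite set Ω of size n, and let H be a subgroup of index n in G which is not transitive on Ω and fixes no point of Ω. Then H has exactly two orbits on Ω. -/
theorem result {G Ω : Type*} [Group G] [Finite G] [MulAction G Ω] [FaithfulSMul G Ω] [Finite Ω] (h2 : MulAction.IsMultiplyPretransitive G Ω 2) (H : Subgroup G) (hidx : H.index = Nat.card Ω) (hnt : ¬ MulAction.IsPretransitive H Ω) (hfix : ∀ a : Ω, ∃ h : H, h • a ≠ a) : Nat.card (MulAction.orbitRel.Quotient H Ω) = 2 := by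
  classical
  haveI := Fintype.ofFinite G
  haveI := Fintype.ofFinite H
  haveI := Fintype.ofFinite Ω
  by_cases hne : Nonempty Ω
  swap
  · exfalso
    rw [not_nonempty_iff] at hne
    exact hnt ⟨fun a => isEmptyElim a⟩
  obtain ⟨a⟩ := hne
  have hn : 2 ≤ Nat.card Ω := by
    obtain ⟨h, hh⟩ := hfix a
    exact Finite.one_lt_card_iff_nontrivial.2 ⟨⟨_, _, hh⟩⟩
  haveI := h2
  haveI : MulAction.IsPretransitive G Ω := MulAction.isPretransitive_of_is_two_pretransitive
  set χ : G → ℂ := fun g => (Nat.card (MulAction.fixedBy Ω g) : ℂ) - 1 with hχdef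
  have hχ : Cfsg.IsIrrCharacter G χ := (CfsgLib.Char.permChar_sub_one_irr_iff hn).2 h2
  set one : G → ℂ := fun _ => 1 with hone
  have h11 : Cfsg.classInner one one = 1 := CfsgLib.Char.classInner_irr_self CfsgLib.Char.isIrrCharacter_one
  set I : G → ℂ := Cfsg.indFun H (fun _ => 1) with hI
  set k := Nat.card (MulAction.orbitRel.Quotient H Ω) with hk
  have hI1 : Cfsg.classInner I one = 1 := CfsgLib.Char.classInner_indFun_one_one _
  have hIχ : Cfsg.classInner I χ = (k : ℂ) - 1 := by
    rw [hI, CfsgLib.Char.frobenius_reciprocity _ _ (CfsgLib.Char.isClassFunction_of_isIrr hχ),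
      CfsgLib.Char.classInner_def]
    have hs := CfsgLib.Char.sum_fixed_eq_card_orbits (G := H) (X := Ω)
    simp only [one_mul, hχdef, map_sub, map_one, map_natCast]
    rw [Finset.sum_sub_distrib, mul_sub]
    have e1 : ∀ x : H, Nat.card (MulAction.fixedBy Ω (x : G)) = Nat.card (MulAction.fixedBy Ω x) :=
      fun x => rfl
    simp only [e1]
    rw [hs, ← mul_assoc, inv_mul_cancel₀ (CfsgLib.Char.card_ne_zero'), one_mul, Finset.sum_const,
      Finset.card_univ, nsmul_eq_mul, mul_one, ← Nat.card_eq_fintype_card,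
      inv_mul_cancel₀ (CfsgLib.Char.card_ne_zero')]
  have hχone : χ ≠ one := by
    intro e
    have h1 := congrFun e 1
    simp only [hχdef, hone, MulAction.fixedBy_one_eq_univ, Nat.card_univ] at h1
    have hIn := CfsgLib.Char.classInner_irr_self hχ
    have hz : Cfsg.classInner χ one = 0 := by
      have hP : Cfsg.classInner (fun g : G => (Nat.card (MulAction.fixedBy Ω g) : ℂ)) one = 1 := by
        rw [CfsgLib.Char.permChar_eq_indFun (G := G) a]
        exact CfsgLib.Char.classInner_indFun_one_one _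
      rw [show χ = (fun g : G => (Nat.card (MulAction.fixedBy Ω g) : ℂ)) - one from rfl,
        CfsgLib.Char.classInner_sub_left, hP, h11, sub_self]
    rw [e, h11] at hz
    exact one_ne_zero hz
  haveI : Nonempty (MulAction.orbitRel.Quotient H Ω) := ⟨Quotient.mk'' a⟩
  have hge : k ≠ 0 := Nat.card_pos.ne'
  set Q : G → ℂ := I - one - ((k : ℂ) - 1) • χ with hQ
  have hcI : Cfsg.IsCharacter G I := CfsgLib.Char.isCharacter_indFun _ CfsgLib.Char.isCharacter_one
  have hQc : Cfsg.IsCharacter G Q := by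
    refine CfsgLib.Char.isCharacter_of_classInner_nat
      (CfsgLib.Char.isClassFunction_sub (CfsgLib.Char.isClassFunction_sub
        (CfsgLib.Char.isClassFunction_of_isCharacter hcI) (CfsgLib.Char.isClassFunction_const 1))
        (fun g c => by
          simp only [Pi.smul_apply]
          rw [(CfsgLib.Char.isClassFunction_of_isIrr hχ) g c])) fun ψ hψ => ?_
    rw [CfsgLib.Char.classInner_sub_left, CfsgLib.Char.classInner_sub_left,
      CfsgLib.Char.classInner_smul_left]
    by_cases e1 : one = ψ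
    · subst e1
      exact ⟨0, by rw [hI1, h11, CfsgLib.Char.classInner_irr_ne hχ CfsgLib.Char.isIrrCharacter_one hχone]; simp⟩
    by_cases e2 : χ = ψ
    · subst e2
      exact ⟨0, by rw [hIχ, CfsgLib.Char.classInner_irr_ne CfsgLib.Char.isIrrCharacter_one hψ e1,
        CfsgLib.Char.classInner_irr_self hχ]; simp⟩
    rw [CfsgLib.Char.classInner_irr_ne CfsgLib.Char.isIrrCharacter_one hψ e1,
      CfsgLib.Char.classInner_irr_ne hχ hψ e2, sub_zero, mul_zero, sub_zero]
    exact CfsgLib.Char.classInner_char_nat hcI (CfsgLib.Char.isCharacter_of_isIrr hψ)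
  obtain ⟨d, hd⟩ := CfsgLib.Char.exists_degree hQc
  have hdeg : (d : ℂ) = (Nat.card Ω : ℂ) - 1 - ((k : ℂ) - 1) * ((Nat.card Ω : ℂ) - 1) := by
    rw [← hd, hQ]
    simp [hI, CfsgLib.Char.indFun_one, hidx, hone, hχdef]
  have hk1 : k ≠ 1 := by
    intro e
    apply hnt
    rw [MulAction.pretransitive_iff_subsingleton_quotient]
    exact (Nat.card_eq_one_iff_unique.1 e).1
  by_contra hk2
  have hk3 : 3 ≤ k := by omega
  have h' : ((d + (k - 2) * (Nat.card Ω - 1) : ℕ) : ℂ) = ((0 : ℕ) : ℂ) := by
    push_cast [Nat.cast_sub (show 2 ≤ k by omega), Nat.cast_sub (show 1 ≤ Nat.card Ω by omega)]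
    rw [hdeg]; ring
  have h'' := Nat.cast_injective h'
  have : 0 < (k - 2) * (Nat.card Ω - 1) := Nat.mul_pos (by omega) (by omega)
  omega

end Cfsg.Agent.S3704
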