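import Cfsg.Statements.S3713
import Cfsg.Agent.Lib.Chev.CT.SpAmalgam.Main

set_option autoImplicit false
open Cfsg

namespace Cfsg.Agent.S3713

/-- A presentation of the symplectic group as the universal completion of an amalgam of small subgroups. Let F be a field with more than two elements, n ≥ 2, and Sp the group of 2n × 2n matrices over F preserving the standard alternating form, acting on column vectors; write e_k, f_k for the standard basis vectors of the two halves (a hyperbolic basis). For each k let S_k be the subgroup of Sp fixing e_l and f_l for all l ≠ k (a copy of SL(2, F) on the plane of e_k, f_k), and for each i with i + 1 < n let M_i be the subgroup fixing every e_l and fixing f_l for all l other than i, i+1 (an abelian group isomorphic to the additive group of F³). Then Sp is the universal completion of the amalgam formed by the S_k, the M_i and the subgroups generated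 by two of them: for every group H and homomorphisms σ_k : S_k → H, μ_i : M_i → H such that for each pair of these subgroups some homomorphism on the subgroup they generate restricts to the given ones, there is exactly one homomorphism Sp → H restricting to every σ_k and μ_i. -/
theorem result
    (F : Type*) [Field F] (hF : ∃ a : F, a ≠ 0 ∧ a ≠ 1) (n : ℕ) (hn : 2 ≤ n)
    (S M : Fin n → Subgroup ↥(Matrix.symplecticGroup (Fin n) F))
    (hS : ∀ j : Fin n, S j = Subgroup.closure {A : ↥(Matrix.symplecticGroup (Fin n) F) | ∀ k : Fin n, k ≠ j →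
      ((A : ↥(Matrix.symplecticGroup (Fin n) F)) : Matrix (Fin n ⊕ Fin n) (Fin n ⊕ Fin n) F).mulVec (Pi.single (Sum.inl k) (1 : F)) = (Pi.single (Sum.inl k) (1 : F)) ∧ ((A : ↥(Matrix.symplecticGroup (Fin n) F)) : Matrix (Fin n ⊕ Fin n) (Fin n ⊕ Fin n) F).mulVec (Pi.single (Sum.inr k) (1 : F)) = (Pi.single (Sum.inr k) (1 : F))})
    (hM : ∀ i : Fin n, (i : ℕ) + 1 < n → M i = Subgroup.closure {A : ↥(Matrix.symplecticGroup (Fin n) F) |
      (∀ k : Fin n, ((A : ↥(Matrix.symplecticGroup (Fin n) F)) : Matrix (Fin n ⊕ Fin n) (Fin n ⊕ Fin n) F).mulVec (Pi.single (Sum.inl k) (1 : F)) = (Pi.single (Sum.inl k) (1 : F))) ∧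
        ∀ k : Fin n, (k : ℕ) ≠ i → (k : ℕ) ≠ (i : ℕ) + 1 → ((A : ↥(Matrix.symplecticGroup (Fin n) F)) : Matrix (Fin n ⊕ Fin n) (Fin n ⊕ Fin n) F).mulVec (Pi.single (Sum.inr k) (1 : F)) = (Pi.single (Sum.inr k) (1 : F))})
    {H : Type*} [Group H] (σ : ∀ j : Fin n, ↥(S j) →* H) (μ : ∀ i : Fin n, ↥(M i) →* H)
    (hSS : ∀ j l : Fin n, j ≠ l → ∃ Ψ : ↥(S j ⊔ S l) →* H,
      (∀ (g : ↥(Matrix.symplecticGroup (Fin n) F)) (hg : g ∈ S j), Ψ ⟨g, Subgroup.mem_sup_left hg⟩ = σ j ⟨g, hg⟩) ∧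
        (∀ (g : ↥(Matrix.symplecticGroup (Fin n) F)) (hg : g ∈ S l), Ψ ⟨g, Subgroup.mem_sup_right hg⟩ = σ l ⟨g, hg⟩))
    (hMM : ∀ i i' : Fin n, i ≠ i' → (i : ℕ) + 1 < n → (i' : ℕ) + 1 < n → ∃ Ψ : ↥(M i ⊔ M i') →* H,
      (∀ (g : ↥(Matrix.symplecticGroup (Fin n) F)) (hg : g ∈ M i), Ψ ⟨g, Subgroup.mem_sup_left hg⟩ = μ i ⟨g, hg⟩) ∧
        (∀ (g : ↥(Matrix.symplecticGroup (Fin n) F)) (hg : g ∈ M i'), Ψ ⟨g, Subgroup.mem_sup_right hg⟩ = μ i' ⟨g, hg⟩))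
    (hMS : ∀ i j : Fin n, (i : ℕ) + 1 < n → ∃ Ψ : ↥(M i ⊔ S j) →* H,
      (∀ (g : ↥(Matrix.symplecticGroup (Fin n) F)) (hg : g ∈ M i), Ψ ⟨g, Subgroup.mem_sup_left hg⟩ = μ i ⟨g, hg⟩) ∧
        (∀ (g : ↥(Matrix.symplecticGroup (Fin n) F)) (hg : g ∈ S j), Ψ ⟨g, Subgroup.mem_sup_right hg⟩ = σ j ⟨g, hg⟩)) :
    ∃! Φ : ↥(Matrix.symplecticGroup (Fin n) F) →* H,
      (∀ (j : Fin n) (g : ↥(Matrix.symplecticGroup (Fin n) F)) (hg : g ∈ S j), Φ g = σ j ⟨g, hg⟩) ∧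
        (∀ (i : Fin n), (i : ℕ) + 1 < n → ∀ (g : ↥(Matrix.symplecticGroup (Fin n) F)) (hg : g ∈ M i), Φ g = μ i ⟨g, hg⟩) := by
  classical
  let G := ↥(Matrix.symplecticGroup (Fin n) F)
  let gr : ∀ (K : Subgroup G), (↥K →* H) → Subgroup (G × H) := fun K f => (K.subtype.prod f).range
  have hgr : ∀ (K L : Subgroup G) (f : ↥K →* H) (f' : ↥L →* H) (Ψ : ↥(K ⊔ L) →* H),
      (∀ (g : G) (hg : g ∈ K), Ψ ⟨g, Subgroup.mem_sup_left hg⟩ = f ⟨g, hg⟩) →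
      (∀ (g : G) (hg : g ∈ L), Ψ ⟨g, Subgroup.mem_sup_right hg⟩ = f' ⟨g, hg⟩) →
      CfsgLib.Chev.CT.SpAm.Func (gr K f ⊔ gr L f') := by
    intro K L f f' Ψ h1 h2
    refine CfsgLib.Chev.CT.SpAm.Func.mono (K := gr (K ⊔ L) Ψ) ?_ ?_
    · rintro _ ⟨x, rfl⟩ (e : (x : G) = 1)
      have : x = 1 := Subtype.ext e
      rw [this, map_one]
    · refine sup_le ?_ ?_ <;> rintro _ ⟨⟨g, hg⟩, rfl⟩
      · exact ⟨⟨g, Subgroup.mem_sup_left hg⟩, Prod.ext rfl (h1 g hg)⟩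
      · exact ⟨⟨g, Subgroup.mem_sup_right hg⟩, Prod.ext rfl (h2 g hg)⟩
  have hproj : ∀ (K : Subgroup G) (f : ↥K →* H), (gr K f).map (MonoidHom.fst G H) = K := by
    intro K f
    ext g
    constructor
    · rintro ⟨_, ⟨x, rfl⟩, rfl⟩; exact x.2
    · exact fun hg => ⟨_, ⟨⟨g, hg⟩, rfl⟩, rfl⟩
  have hFS : ∀ j, S j = CfsgLib.Chev.CT.SpAm.FS j := by
    intro j
    rw [hS j]
    conv_rhs => rw [← Subgroup.closure_eq (CfsgLib.Chev.CT.SpAm.FS (F := F) j)]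
    congr 1
    ext A
    constructor
    · rintro h x ⟨i, hi, rfl | rfl⟩
      · exact (h i hi).1
      · exact (h i hi).2
    · exact fun h k hk => ⟨h _ ⟨k, hk, Or.inl rfl⟩, h _ ⟨k, hk, Or.inr rfl⟩⟩
  have hFM : ∀ i : Fin n, (i : ℕ) + 1 < n → M i = CfsgLib.Chev.CT.SpAm.FM i := by
    intro i hi
    rw [hM i hi]
    conv_rhs => rw [← Subgroup.closure_eq (CfsgLib.Chev.CT.SpAm.FM (F := F) i)]
    congr 1
    ext A
    constructor
    · rintro h x ⟨k, rfl | ⟨h1, h2, rfl⟩⟩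
      · exact h.1 k
      · exact h.2 k h1 h2
    · exact fun h => ⟨fun k => h _ ⟨k, Or.inl rfl⟩, fun k h1 h2 => h _ ⟨k, Or.inr ⟨h1, h2, rfl⟩⟩⟩
  let A : CfsgLib.Chev.CT.SpAm.Amal F n H :=
    { LS := fun j => gr (S j) (σ j)
      LM := fun i => gr (M i) (μ i)
      LS_proj := fun j => (hproj _ _).trans (hFS j)
      LM_proj := fun i hi => (hproj _ _).trans (hFM i hi)
      fSS := fun j l hjl => by
        obtain ⟨Ψ, h1, h2⟩ := hSS j l hjl
        exact hgr _ _ _ _ Ψ h1 h2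
      fMM := fun i i' hne hi hi' => by
        obtain ⟨Ψ, h1, h2⟩ := hMM i i' hne hi hi'
        exact hgr _ _ _ _ Ψ h1 h2
      fMS := fun i j hi => by
        obtain ⟨Ψ, h1, h2⟩ := hMS i j hi
        exact hgr _ _ _ _ Ψ h1 h2 }
  obtain ⟨Φ, ⟨h1, h2⟩, huniq⟩ := A.exists_unique_hom hn hF
  refine ⟨Φ, ⟨fun j g hg => h1 j _ ⟨⟨g, hg⟩, rfl⟩, fun i hi g hg => h2 i hi _ ⟨⟨g, hg⟩, rfl⟩⟩,
    fun Ψ hΨ => huniq Ψ ⟨?_, ?_⟩⟩
  · rintro j _ ⟨⟨g, hg⟩, rfl⟩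
    exact hΨ.1 j g hg
  · rintro i hi _ ⟨⟨g, hg⟩, rfl⟩
    exact hΨ.2 i hi g hg

end Cfsg.Agent.S3713
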