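import Cfsg.Statements.S3730
import Cfsg.Agent.Lib.Recognition.CycNorm.Simple
import Cfsg.Agent.Lib.Recognition.CycNorm.Socle
import Cfsg.Agent.Lib.Recognition.CycNorm.AlmostSimple

set_option autoImplicit false
open Cfsg

namespace Cfsg.Agent.S3730

/-- Let G be a nontrivial finite group with no nontrivial solvable normal subgroup, such that for every cyclic subgroup X of even order and every nontrivial subgroup Y of X one has N_G(X) = N_G(Y) (every nontrivial subgroup of a cyclic subgroup of even order has the same normalizer as the whole cyclic subgroup). Then G is isomorphic to PSL(2, q) or to PGL(2, q) for some prime power q > 3. -/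
theorem result
    {G : Type*} [Group G] [Finite G] [Nontrivial G]
    (hss : ∀ N : Subgroup G, N.Normal → Group.IsSolvable ↥N → N = ⊥)
    (hii : ∀ X : Subgroup G, IsCyclic ↥X → Even (Nat.card ↥X) → ∀ Y : Subgroup G, Y ≤ X → Y ≠ ⊥ →
      Subgroup.normalizer (X : Set G) = Subgroup.normalizer (Y : Set G)) :
    ∃ (F : Type) (_ : Field F) (_ : Fintype F), 3 < Fintype.card F ∧
      (Nonempty (G ≃* Matrix.ProjectiveSpecialLinearGroup (Fin 2) F) ∨
        Nonempty (G ≃* Matrix.ProjGenLinGroup (Fin 2) F)) := by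
  obtain ⟨hna, hC⟩ | ⟨S, n, r, s, hd, -⟩ :=
    CfsgLib.Recognition.CycNorm.cases_main (G := G) hii hss
  · obtain ⟨F, iF, iF', π, hchar, h4, hsurj, hker, -⟩ :=
      CfsgLib.PGroup.CAI.splitLinear (Nat.card G) G rfl hna hC
    have hZ : Subgroup.center G = ⊥ := hss _ inferInstance
      (Group.isSolvable_of_comm fun a b => Subtype.ext (Subgroup.mem_center_iff.1 b.2 a))
    rw [hZ, MonoidHom.ker_eq_bot_iff] at hker
    exact ⟨F, iF, iF', by omega, Or.inl ⟨MulEquiv.ofBijective π ⟨hker, hsurj⟩⟩⟩
  · obtain ⟨L, hLn, hLs, hLnc, hLC⟩ := CfsgLib.Recognition.CycNorm.exists_simple_normal (G := G) hii hss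
    haveI := hLn
    haveI := hLs
    have h8 := CfsgLib.Recognition.CycNorm.noEight_of_dih S hd
    obtain ⟨F, iF, iF', hodd, h3, ⟨e⟩⟩ := CfsgLib.Recognition.CycNorm.psl_of_simple
      (CfsgLib.Recognition.CycNorm.CycNorm.subgroup hii L) hLnc (h8.comap L.subtype L.subtype_injective)
    exact ⟨F, iF, iF', h3, CfsgLib.Recognition.CycNorm.psl_or_pgl hii h8 S hd e hLC hodd⟩

end Cfsg.Agent.S3730
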