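import Cfsg.Statements.S3733
import Mathlib

set_option autoImplicit false
open Cfsg

namespace Cfsg.Agent.S3733

/-- Let A and V be subgroups of a finite group with V abelian and nontrivial and A normalizing V. Suppose a nonempty finite family of proper subgroups of A partitions A: every non-identity element of A lies in exactly one member. If the number of members minus one is coprime to the order of V, then some member B of the family has a non-identity fixed point on V, that is V ∩ C(B) ≠ 1. -/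
theorem result {G : Type*} [Group G] [Finite G] (A V : Subgroup G) (hVab : IsMulCommutative V) (hV : V ≠ ⊥) (hAV : A ≤ Subgroup.normalizer (V : Set G)) (𝒜 : Finset (Subgroup G)) (hne : 𝒜.Nonempty) (hprop : ∀ B ∈ 𝒜, B < A) (hpart : ∀ a ∈ A, a ≠ 1 → ∃! B, B ∈ 𝒜 ∧ a ∈ B) (hk : (𝒜.card - 1).Coprime (Nat.card V)) : ∃ B ∈ 𝒜, V ⊓ Subgroup.centralizer (B : Set G) ≠ ⊥ := by
  classical
  by_contra hcon
  push Not at hcon
  haveI := Fintype.ofFinite G
  let _iV : CommGroup V := { (inferInstance : Group V) with mul_comm := hVab.is_comm.comm }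
  let act : A → (V →* V) := fun a =>
    { toFun := fun v => ⟨a * v * (a : G)⁻¹, (Subgroup.mem_normalizer_iff.1 (hAV a.2) v).1 v.2⟩
      map_one' := Subtype.ext (by simp)
      map_mul' := fun v w => Subtype.ext (by simp [mul_assoc]) }
  have hmul : ∀ (a b : A) (v : V), act (a * b) v = act a (act b v) := fun a b v =>
    Subtype.ext (by simp [act, mul_assoc])
  -- the norm over `B`
  have hnorm : ∀ (B : Subgroup G), B ≤ A → ∀ v : V, ∀ b : A, (b : G) ∈ B →
      act b (∏ a ∈ Finset.univ.filter (fun a : A => (a : G) ∈ B), act a v) =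
        ∏ a ∈ Finset.univ.filter (fun a : A => (a : G) ∈ B), act a v := by
    intro B _ v b hb
    rw [map_prod]
    refine Finset.prod_bij' (fun a _ => b * a) (fun a _ => b⁻¹ * a) ?_ ?_ ?_ ?_ ?_
    · intro a ha
      simp only [Finset.mem_filter, Finset.mem_univ, true_and, Subgroup.coe_mul] at ha ⊢
      exact B.mul_mem hb ha
    · intro a ha
      simp only [Finset.mem_filter, Finset.mem_univ, true_and, Subgroup.coe_mul, Subgroup.coe_inv] at ha ⊢
      exact B.mul_mem (B.inv_mem hb) ha
    · intro a _; simp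
    · intro a _; simp
    · intro a _; rw [hmul]
  have hfix : ∀ B ∈ 𝒜, ∀ v : V, (∀ b : A, (b : G) ∈ B → act b v = v) → v = 1 := by
    intro B hB v hv
    have : (v : G) ∈ V ⊓ Subgroup.centralizer (B : Set G) := by
      refine ⟨v.2, Subgroup.mem_centralizer_iff.2 fun b hb => ?_⟩
      have h1 : b * v * b⁻¹ = (v : G) := congrArg Subtype.val (hv ⟨b, (hprop B hB).le hb⟩ hb)
      rwa [mul_inv_eq_iff_eq_mul] at h1
    rw [hcon B hB, Subgroup.mem_bot] at this
    exact Subtype.ext this
  have hNB : ∀ B ∈ 𝒜, ∀ v : V,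
      ∏ a ∈ Finset.univ.filter (fun a : A => (a : G) ∈ B), act a v = 1 :=
    fun B hB v => hfix B hB _ (hnorm B (hprop B hB).le v)
  obtain ⟨B₀, hB₀⟩ := hne
  have hNA : ∀ v : V, ∏ a : A, act a v = 1 := by
    intro v
    refine hfix B₀ hB₀ _ fun b hb => ?_
    rw [map_prod]
    exact Fintype.prod_equiv (Equiv.mulLeft b) _ _ fun a => (hmul b a v).symm
  -- each nontrivial `a` lies in exactly one member
  have key : ∀ v : V, v ^ (𝒜.card - 1) = 1 := by
    intro v
    have h1 : (∏ B ∈ 𝒜, ∏ a ∈ (Finset.univ.filter (fun a : A => (a : G) ∈ B)).erase 1, act a v) =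
        ∏ a ∈ (Finset.univ : Finset A).erase 1, act a v := by
      rw [← Finset.prod_biUnion]
      · congr 1
        ext a
        simp only [Finset.mem_biUnion, Finset.mem_erase, Finset.mem_filter, Finset.mem_univ,
          true_and, and_true]
        refine ⟨fun ⟨B, _, h, _⟩ => h, fun ha => ?_⟩
        obtain ⟨B, ⟨hB, haB⟩, -⟩ := hpart a a.2 (fun h0 => ha (Subtype.ext h0))
        exact ⟨B, hB, ha, haB⟩
      · intro B hB C hC hBC
        show Disjoint _ _
        rw [Finset.disjoint_left]
        intro a haB haC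
        simp only [Finset.mem_erase, Finset.mem_filter, Finset.mem_univ, true_and] at haB haC
        exact hBC ((hpart a a.2 (fun h0 => haB.1 (Subtype.ext h0))).unique ⟨hB, haB.2⟩ ⟨hC, haC.2⟩)
    have h2 : ∀ s : Finset A, (1 : A) ∈ s → ∏ a ∈ s, act a v = v * ∏ a ∈ s.erase 1, act a v := by
      intro s hs
      rw [← Finset.mul_prod_erase s _ hs]
      congr 1
      exact Subtype.ext (by simp [act])
    have h3 : ∀ B ∈ 𝒜, ∏ a ∈ (Finset.univ.filter (fun a : A => (a : G) ∈ B)).erase 1, act a v = v⁻¹ := by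
      intro B hB
      have := hNB B hB v
      rw [h2 _ (by simp)] at this
      exact eq_inv_of_mul_eq_one_right this
    have h4 : ∏ a ∈ (Finset.univ : Finset A).erase 1, act a v = v⁻¹ := by
      have := hNA v
      rw [h2 _ (Finset.mem_univ _)] at this
      exact eq_inv_of_mul_eq_one_right this
    rw [Finset.prod_congr rfl h3, Finset.prod_const, h4] at h1
    have hc : 1 ≤ 𝒜.card := Finset.card_pos.2 ⟨B₀, hB₀⟩
    have h5 : v⁻¹ ^ (𝒜.card - 1) * v⁻¹ = 1 * v⁻¹ := by
      rw [← pow_succ, Nat.sub_add_cancel hc, one_mul, h1]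
    rw [mul_right_cancel_iff, inv_pow, inv_eq_one] at h5
    exact h5
  refine hV (le_bot_iff.1 fun x hx => ?_)
  have h6 : orderOf (⟨x, hx⟩ : V) ∣ 1 := by
    rw [← hk.gcd_eq_one]
    exact Nat.dvd_gcd (orderOf_dvd_of_pow_eq_one (key _)) (orderOf_dvd_natCard _)
  exact Subgroup.mem_bot.2 (congrArg Subtype.val (orderOf_eq_one_iff.1 (Nat.dvd_one.1 h6)))

end Cfsg.Agent.S3733
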