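import Cfsg.Statements.S3734
import Cfsg.Agent.Lib.Solvable.Generation

set_option autoImplicit false
open Cfsg

namespace Cfsg.Agent.S3734

open scoped Pointwise commutatorElement

theorem conj_mem_centralizer {X : Type*} [Group X] {B : Subgroup X} {g x : X}
    (hg : ∀ b ∈ B, g * b = b * g) (hx : x ∈ Subgroup.centralizer (B : Set X)) :
    g * x * g⁻¹ ∈ Subgroup.centralizer (B : Set X) := by
  rw [Subgroup.mem_centralizer_iff] at hx ⊢
  intro b hb
  calc b * (g * x * g⁻¹) = g * (b * x) * g⁻¹ := by rw [← mul_assoc, ← mul_assoc, ← hg b hb]; group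
    _ = g * x * (b * g⁻¹) := by rw [hx b hb]; group
    _ = g * x * (g⁻¹ * b) := by
      congr 1
      rw [eq_inv_mul_iff_mul_eq, ← mul_assoc, hg b hb, mul_inv_cancel_right]
    _ = g * x * g⁻¹ * b := by group

theorem centralizer_le_gen {X : Type*} [Group X] [Finite X] (A G : Subgroup X)
    (hA : ∀ x ∈ A, ∀ y ∈ A, x * y = y * x) (hAG : A ≤ Subgroup.normalizer (G : Set X))
    (hcop : (Nat.card A).Coprime (Nat.card G)) (T : Subgroup X)
    (hT : ∀ B ≤ A, (∃ a ∈ A, B ⊔ Subgroup.zpowers a = A) → G ⊓ Subgroup.centralizer (B : Set X) ≤ T)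
    (hTG : T ≤ G) : ∀ B ≤ A, G ⊓ Subgroup.centralizer (B : Set X) ≤ T := by
  intro B
  induction B using WellFoundedGT.induction with
  | _ B ih =>
    intro hB
    by_cases hcyc : ∃ a ∈ A, B ⊔ Subgroup.zpowers a = A
    · exact hT B hB hcyc
    set K := G ⊓ Subgroup.centralizer (B : Set X) with hK
    have hAK : A ≤ Subgroup.normalizer (K : Set X) :=
      CfsgLib.Solvable.le_normalizer_of_conj_mem fun a ha x hx =>
        ⟨CfsgLib.Solvable.normalizer_conj_mem (hAG ha) hx.1,
          conj_mem_centralizer (fun b hb => hA a ha b (hB hb)) hx.2⟩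
    set W := K ⊔ A with hW
    have hAW : A ≤ W := le_sup_right
    have hKW : K ≤ W := le_sup_left
    have hBW : B ≤ W := hB.trans hAW
    have hKC : K ≤ Subgroup.centralizer (B : Set X) := inf_le_right
    haveI : (B.subgroupOf W).Normal := by
      apply Subgroup.normal_subgroupOf_of_le_normalizer
      refine sup_le (fun k hk => ?_) (fun a ha => ?_) <;>
        refine CfsgLib.Solvable.mem_normalizer_of_conj_mem fun b hb => ?_
      · rw [← Subgroup.mem_centralizer_iff.1 (hKC hk) b hb, mul_inv_cancel_right]; exact hb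
      · rw [hA a ha b (hB hb), mul_inv_cancel_right]; exact hb
    set π := QuotientGroup.mk' (B.subgroupOf W) with hπ
    set Ab := (A.subgroupOf W).map π with hAb
    set Kb := (K.subgroupOf W).map π with hKb
    have hGB : ∀ x, x ∈ G → x ∈ B → x = 1 := fun x hx hx' => by
      have : x ∈ G ⊓ A := ⟨hx, hB hx'⟩
      rwa [CfsgLib.Solvable.disjoint_of_coprime hcop.symm, Subgroup.mem_bot] at this
    have hnc : ¬ IsCyclic Ab := by
      rintro ⟨⟨⟨_, a, ha, rfl⟩, hgen⟩⟩
      refine hcyc ⟨a, ha, le_antisymm (sup_le hB ((Subgroup.zpowers_le).2 ha)) fun x hx => ?_⟩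
      obtain ⟨k, hk⟩ := hgen ⟨π ⟨x, hAW hx⟩, ⟨_, (hx : (⟨x, hAW hx⟩ : W) ∈ A.subgroupOf W), rfl⟩⟩
      have hk' : π a ^ k = π ⟨x, hAW hx⟩ := by
        have := congrArg (Subtype.val : Ab → _) hk
        simpa using this
      rw [← map_zpow, QuotientGroup.mk'_eq_mk'] at hk'
      obtain ⟨b, hb, hb'⟩ := hk'
      have e : (a : X) ^ k * (b : X) = x := by simpa using congrArg (Subtype.val : W → X) hb'
      rw [← e]
      exact mul_mem (Subgroup.mem_sup_right (zpow_mem (Subgroup.mem_zpowers _) k)) (Subgroup.mem_sup_left hb)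
    have hAbc : ∀ x ∈ Ab, ∀ y ∈ Ab, x * y = y * x := by
      rintro _ ⟨x, hx, rfl⟩ _ ⟨y, hy, rfl⟩
      rw [← map_mul, ← map_mul]
      exact congrArg π (Subtype.ext (hA _ hx _ hy))
    have hKn : Ab ≤ Subgroup.normalizer (Kb : Set (W ⧸ B.subgroupOf W)) := by
      refine CfsgLib.Solvable.le_normalizer_of_conj_mem ?_
      rintro _ ⟨a, ha, rfl⟩ _ ⟨k, hk, rfl⟩
      refine ⟨a * k * a⁻¹, (CfsgLib.Solvable.normalizer_conj_mem (hAK (Subgroup.mem_subgroupOf.1 ha)) (Subgroup.mem_subgroupOf.1 hk) : (a : X) * k * (a : X)⁻¹ ∈ K), by simp⟩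
    have hbcop : (Nat.card Ab).Coprime (Nat.card Kb) := by
      refine Nat.Coprime.coprime_dvd_left (Subgroup.card_map_dvd _ _)
        (Nat.Coprime.coprime_dvd_right (Subgroup.card_map_dvd _ _) ?_)
      rw [Nat.card_congr (Subgroup.subgroupOfEquivOfLe hAW).toEquiv,
        Nat.card_congr (Subgroup.subgroupOfEquivOfLe hKW).toEquiv]
      exact hcop.coprime_dvd_right (Subgroup.card_dvd_of_le inf_le_left)
    have hgen := CfsgLib.Solvable.iSup_centralizer_eq hAbc hnc hKn hbcop
    have hle : Kb ≤ (T.subgroupOf W).map π := by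
      rw [← hgen]
      refine iSup₂_le ?_
      rintro _ ⟨⟨a, ha, rfl⟩, ha1⟩ _ ⟨⟨k, hk, rfl⟩, hkc⟩
      refine ⟨k, ?_, rfl⟩
      have hcomm : (k : X) * a = a * k := by
        have h1 := Subgroup.mem_centralizer_singleton_iff.1 hkc
        rw [← map_mul, ← map_mul] at h1
        obtain ⟨b, hb, hb'⟩ := (QuotientGroup.mk'_eq_mk' _).1 h1
        have e : (k : X) * a * b = a * k := by simpa using congrArg (Subtype.val : W → X) hb'
        have hbK : (b : X) ∈ K := by
          have : (b : X) = (a : X)⁻¹ * (k : X)⁻¹ * a * k := by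
            rw [eq_comm, ← mul_right_inj ((k : X) * a), e]; group
          rw [this]
          refine mul_mem ?_ hk
          simpa using CfsgLib.Solvable.normalizer_conj_mem (hAK (inv_mem ha)) (inv_mem hk)
        rw [hGB _ hbK.1 hb, mul_one] at e
        exact e
      show (k : X) ∈ T
      refine ih (B ⊔ Subgroup.zpowers (a : X)) (lt_of_le_of_ne le_sup_left fun e => ha1 ?_)
        (sup_le hB ((Subgroup.zpowers_le).2 ha)) ⟨hk.1, ?_⟩
      · refine (QuotientGroup.eq_one_iff _).2 ?_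
        show (a : X) ∈ B
        rw [e]; exact Subgroup.mem_sup_right (Subgroup.mem_zpowers _)
      · have h2 : B ⊔ Subgroup.zpowers (a : X) ≤ Subgroup.centralizer {(k : X)} := by
          refine sup_le (fun b hb => Subgroup.mem_centralizer_singleton_iff.2
            (Subgroup.mem_centralizer_iff.1 hk.2 b hb)) ((Subgroup.zpowers_le).2 ?_)
          exact Subgroup.mem_centralizer_singleton_iff.2 hcomm.symm
        exact Subgroup.mem_centralizer_iff.2 fun b hb => Subgroup.mem_centralizer_singleton_iff.1 (h2 hb)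
    intro k hk
    obtain ⟨t, ht, e⟩ := hle ⟨⟨k, hKW hk⟩, hk, rfl⟩
    obtain ⟨b, hb, hb'⟩ := (QuotientGroup.mk'_eq_mk' _).1 e
    have e' : (t : X) * b = k := by simpa using congrArg (Subtype.val : W → X) hb'
    have hbG : (b : X) ∈ G := by
      rw [show (b : X) = (t : X)⁻¹ * k by rw [← e']; group]
      exact mul_mem (inv_mem (hTG ht)) hk.1
    rw [hGB _ hbG hb, mul_one] at e'
    rw [← e']; exact ht

/-- Let A and G be subgroups of a finite group with A abelian, A normalizing G and the orders of A and G coprime. Then G is generated by the fixed-point subgroups C_G(B) of those subgroups B of A for which A/B is cyclic (that is, A = ⟨B, a⟩ for some a), and [G, A] is generated by the commutator subgroups [C_G(B), A] over the same subgroups B. -/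
theorem result {X : Type*} [Group X] [Finite X] (A G : Subgroup X) (hAab : IsMulCommutative A) (hAG : A ≤ Subgroup.normalizer (G : Set X)) (hcop : (Nat.card A).Coprime (Nat.card G)) : (⨆ B ∈ {B : Subgroup X | B ≤ A ∧ ∃ a ∈ A, B ⊔ Subgroup.zpowers a = A}, G ⊓ Subgroup.centralizer (B : Set X)) = G ∧ (⨆ B ∈ {B : Subgroup X | B ≤ A ∧ ∃ a ∈ A, B ⊔ Subgroup.zpowers a = A}, ⁅G ⊓ Subgroup.centralizer (B : Set X), A⁆) = ⁅G, A⁆ := by
  have hA : ∀ x ∈ A, ∀ y ∈ A, x * y = y * x := fun x hx y hy =>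
    congrArg Subtype.val (hAab.is_comm.comm ⟨x, hx⟩ ⟨y, hy⟩)
  have hAsolv : Group.IsSolvable A :=
    Group.isSolvable_of_comm fun x y => Subtype.ext (hA _ x.2 _ y.2)
  set 𝔅 := {B : Subgroup X | B ≤ A ∧ ∃ a ∈ A, B ⊔ Subgroup.zpowers a = A} with h𝔅
  have hmain : (⨆ B ∈ 𝔅, G ⊓ Subgroup.centralizer (B : Set X)) = G := by
    refine le_antisymm (iSup₂_le fun _ _ => inf_le_left) (le_trans (le_inf le_rfl ?_)
      (centralizer_le_gen A G hA hAG hcop (⨆ B ∈ 𝔅, G ⊓ Subgroup.centralizer (B : Set X))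
        (fun B hB h => le_iSup₂ (f := fun B (_ : B ∈ 𝔅) => G ⊓ Subgroup.centralizer (B : Set X)) B ⟨hB, h⟩)
        (iSup₂_le fun _ _ => inf_le_left) ⊥ bot_le))
    intro x _
    simp [Subgroup.mem_centralizer_iff]
  refine ⟨hmain, ?_⟩
  set R := ⨆ B ∈ 𝔅, ⁅G ⊓ Subgroup.centralizer (B : Set X), A⁆ with hR
  have hAK : ∀ B ∈ 𝔅, A ≤ Subgroup.normalizer ((G ⊓ Subgroup.centralizer (B : Set X) : Subgroup X) : Set X) :=
    fun B hB => CfsgLib.Solvable.le_normalizer_of_conj_mem fun a ha x hx =>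
      ⟨CfsgLib.Solvable.normalizer_conj_mem (hAG ha) hx.1,
        conj_mem_centralizer (fun b hb => hA a ha b (hB.1 hb)) hx.2⟩
  set C := G ⊓ Subgroup.centralizer (A : Set X) with hC
  have hnorm : A ⊔ C ≤ Subgroup.normalizer (R : Set X) := by
    intro g hg
    refine CfsgLib.Solvable.mem_normalizer_of_conj_mem ?_
    rw [← CfsgLib.Solvable.conj_smul_le_iff]
    rw [hR, CfsgLib.Solvable.conj_smul_eq_map]
    simp only [Subgroup.map_iSup]
    refine iSup₂_le fun B hB => le_trans ?_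
      (le_iSup₂ (f := fun B (_ : B ∈ 𝔅) => ⁅G ⊓ Subgroup.centralizer (B : Set X), A⁆) B hB)
    rw [← CfsgLib.Solvable.conj_smul_eq_map, CfsgLib.Solvable.conj_smul_commutator]
    have h1 : A ⊔ C ≤ Subgroup.normalizer (A : Set X) :=
      sup_le Subgroup.le_normalizer (inf_le_right.trans (Subgroup.centralizer_le_normalizer _))
    have h2 : A ⊔ C ≤ Subgroup.normalizer ((G ⊓ Subgroup.centralizer (B : Set X) : Subgroup X) : Set X) :=
      sup_le (hAK B hB) (le_trans (le_inf inf_le_left (inf_le_right.trans (Subgroup.centralizer_le hB.1)))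
        Subgroup.le_normalizer)
    rw [CfsgLib.Solvable.conj_smul_self_of_mem_normalizer (h1 hg),
      CfsgLib.Solvable.conj_smul_self_of_mem_normalizer (h2 hg)]
  refine le_antisymm (iSup₂_le fun B _ => Subgroup.commutator_mono inf_le_left le_rfl) ?_
  have hGsup : G ≤ R ⊔ C := by
    conv_lhs => rw [← hmain]
    refine iSup₂_le fun B hB => ?_
    rw [← CfsgLib.Solvable.commutator_sup_centralizer (hAK B hB)
      (hcop.coprime_dvd_right (Subgroup.card_dvd_of_le inf_le_left)) (Or.inl hAsolv)]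
    exact sup_le_sup (le_iSup₂ (f := fun B (_ : B ∈ 𝔅) => ⁅G ⊓ Subgroup.centralizer (B : Set X), A⁆) B hB)
      (le_inf (inf_le_left.trans inf_le_left) inf_le_right)
  refine Subgroup.commutator_le.2 fun g hg a ha => ?_
  obtain ⟨r, hr, c, hc, rfl⟩ := CfsgLib.Solvable.exists_mul_of_mem_sup (le_sup_right.trans hnorm) (hGsup hg)
  have hca : c * a = a * c := (Subgroup.mem_centralizer_iff.1 hc.2 a ha).symm
  have e : ⁅r * c, a⁆ = r * (a * r⁻¹ * a⁻¹) := by
    rw [commutatorElement_def, mul_inv_rev]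
    calc r * c * a * (c⁻¹ * r⁻¹) * a⁻¹ = r * (c * a) * c⁻¹ * r⁻¹ * a⁻¹ := by group
      _ = r * (a * r⁻¹ * a⁻¹) := by rw [hca]; group
  rw [e]
  exact mul_mem hr (CfsgLib.Solvable.normalizer_conj_mem (hnorm (Subgroup.mem_sup_left ha)) (inv_mem hr))

end Cfsg.Agent.S3734
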