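import Cfsg.Statements.S3735
import Mathlib

set_option autoImplicit false
open Cfsg

namespace Cfsg.Agent.S3735

/-- Clifford's Theorem for actions on finite abelian groups, first part. Let H and V be subgroups of a finite group with V abelian and H normalizing V, and let A be a normal subgroup of H. If every H-invariant subgroup of V has an H-invariant complement in V, then every A-invariant subgroup of V has an A-invariant complement in V. -/
theorem result {G : Type*} [Group G] [Finite G] (H A V : Subgroup G) (hVab : IsMulCommutative V) (hHV : H ≤ Subgroup.normalizer (V : Set G)) (hAH : A ≤ H) (hAn : H ≤ Subgroup.normalizer (A : Set G)) (hss : ∀ U : Subgroup G, U ≤ V → H ≤ Subgroup.normalizer (U : Set G) → ∃ W : Subgroup G, W ≤ V ∧ H ≤ Subgroup.normalizer (W : Set G) ∧ U ⊓ W = ⊥ ∧ U ⊔ W = V) (U : Subgroup G) (hUV : U ≤ V) (hAU : A ≤ Subgroup.normalizer (U : Set G)) : ∃ W : Subgroup G, W ≤ V ∧ A ≤ Subgroup.normalizer (W : Set G) ∧ U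 ⊓ W = ⊥ ∧ U ⊔ W = V := by
  classical
  have hcomm : ∀ a ∈ V, ∀ b ∈ V, a * b = b * a := fun a ha b hb =>
    congrArg Subtype.val (hVab.is_comm.comm (⟨a, ha⟩ : V) ⟨b, hb⟩)
  have hmem : ∀ {K X : Subgroup G}, (∀ k ∈ K, ∀ x ∈ X, k * x * k⁻¹ ∈ X) →
      K ≤ Subgroup.normalizer (X : Set G) := by
    intro K X h k hk
    refine Subgroup.mem_normalizer_iff.2 fun x => ⟨h k hk x, fun hx => ?_⟩
    simpa [mul_assoc] using h k⁻¹ (K.inv_mem hk) _ hx
  have hsup : ∀ {K X Y : Subgroup G}, K ≤ Subgroup.normalizer (X : Set G) →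
      K ≤ Subgroup.normalizer (Y : Set G) → K ≤ Subgroup.normalizer ((X ⊔ Y : Subgroup G) : Set G) := by
    intro K X Y hX hY
    refine hmem fun k hk x hx => ?_
    have hle : X ⊔ Y ≤ (X ⊔ Y).comap (MulAut.conj k).toMonoidHom := sup_le
      (fun y hy => Subgroup.mem_sup_left ((Subgroup.mem_normalizer_iff.1 (hX hk) y).1 hy))
      (fun y hy => Subgroup.mem_sup_right ((Subgroup.mem_normalizer_iff.1 (hY hk) y).1 hy))
    exact hle hx
  have hinf : ∀ {K X Y : Subgroup G}, K ≤ Subgroup.normalizer (X : Set G) →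
      K ≤ Subgroup.normalizer (Y : Set G) → K ≤ Subgroup.normalizer ((X ⊓ Y : Subgroup G) : Set G) :=
    fun hX hY => hmem fun k hk x hx =>
      ⟨(Subgroup.mem_normalizer_iff.1 (hX hk) x).1 hx.1, (Subgroup.mem_normalizer_iff.1 (hY hk) x).1 hx.2⟩
  let Min : Set (Subgroup G) := {M | M ≤ V ∧ Minimal
    (fun X : Subgroup G => X ≠ ⊥ ∧ A ≤ Subgroup.normalizer (X : Set G)) M}
  -- `V` is generated by its minimal `A`-invariant subgroups
  have hsoc : sSup Min = V := by
    have hSV : sSup Min ≤ V := sSup_le fun M hM => hM.1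
    have hSH : H ≤ Subgroup.normalizer ((sSup Min : Subgroup G) : Set G) := by
      refine hmem fun h hh x hx => ?_
      suffices hle : sSup Min ≤ (sSup Min).comap (MulAut.conj h).toMonoidHom from hle hx
      refine sSup_le fun M ⟨hMV, ⟨hMb, hMA⟩, hMmin⟩ => ?_
      rw [← Subgroup.map_le_iff_le_comap]
      have key : ∀ g ∈ H, ∀ X : Subgroup G, A ≤ Subgroup.normalizer (X : Set G) →
          A ≤ Subgroup.normalizer ((X.map (MulAut.conj g).toMonoidHom : Subgroup G) : Set G) := by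
        intro g hg X hX
        refine hmem fun a ha y hy => ?_
        obtain ⟨z, hz, rfl⟩ := hy
        have hag : g⁻¹ * a * g ∈ A := by
          have := (Subgroup.mem_normalizer_iff.1 (hAn (H.inv_mem hg)) a).1 ha
          simpa using this
        exact ⟨_, (Subgroup.mem_normalizer_iff.1 (hX hag) z).1 hz, by simp [mul_assoc]⟩
      refine le_sSup ⟨?_, ⟨fun h0 => hMb ((Subgroup.map_eq_bot_iff_of_injective _
        (MulAut.conj h).injective).1 h0), key h hh M hMA⟩, fun X hX hXle => ?_⟩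
      · rintro _ ⟨z, hz, rfl⟩
        exact (Subgroup.mem_normalizer_iff.1 (hHV hh) z).1 (hMV hz)
      · have h1 : X.map (MulAut.conj h⁻¹).toMonoidHom ≤ M := by
          rintro _ ⟨z, hz, rfl⟩
          obtain ⟨w, hw, rfl⟩ := hXle hz
          simpa [mul_assoc] using hw
        have h2 : M ≤ X.map (MulAut.conj h⁻¹).toMonoidHom := hMmin ⟨fun h0 => hX.1 ((Subgroup.map_eq_bot_iff_of_injective _
          (MulAut.conj h⁻¹).injective).1 h0), key _ (H.inv_mem hh) X hX.2⟩ h1
        rintro _ ⟨z, hz, rfl⟩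
        obtain ⟨w, hw, hwz⟩ := h2 hz
        rw [← hwz]
        simpa [mul_assoc] using hw
    obtain ⟨W, hWV, hWH, hSW, hjoin⟩ := hss _ hSV hSH
    rcases eq_or_ne W ⊥ with hW | hW
    · rwa [hW, sup_bot_eq] at hjoin
    obtain ⟨M, hMW, hM⟩ := Finite.exists_le_minimal
      (p := fun X : Subgroup G => X ≠ ⊥ ∧ A ≤ Subgroup.normalizer (X : Set G)) (a := W)
      ⟨hW, hAH.trans hWH⟩
    exact absurd (le_bot_iff.1 (hSW ▸ le_inf (le_sSup ⟨hMW.trans hWV, hM⟩) hMW)) hM.1.1
  obtain ⟨W, -, ⟨hWV, hWA, hUW⟩, hWmax⟩ := Finite.exists_le_maximal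
    (p := fun W : Subgroup G => W ≤ V ∧ A ≤ Subgroup.normalizer (W : Set G) ∧ U ⊓ W = ⊥) (a := ⊥)
    ⟨bot_le, hmem fun a _ x hx => by simp [Subgroup.mem_bot.1 hx], inf_bot_eq U⟩
  refine ⟨W, hWV, hWA, hUW, le_antisymm (sup_le hUV hWV) ?_⟩
  conv_lhs => rw [← hsoc]
  refine sSup_le fun M ⟨hMV, ⟨hMb, hMA⟩, hMmin⟩ => ?_
  by_contra hM
  have hMUW : M ⊓ (U ⊔ W) = ⊥ := by
    by_contra h0
    exact hM ((hMmin ⟨h0, hinf hMA (hsup hAU hWA)⟩ inf_le_left).trans inf_le_right)
  have hWn : M ≤ Subgroup.normalizer (W : Set G) := fun x hx =>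
    Subgroup.centralizer_le_normalizer _ (Subgroup.mem_centralizer_iff.2 fun w hw =>
      hcomm w (hWV hw) x (hMV hx))
  have hnew : U ⊓ (W ⊔ M) = ⊥ := by
    refine le_bot_iff.1 fun x hx => ?_
    obtain ⟨hxU, hxWM⟩ := hx
    replace hxWM : x ∈ ((W ⊔ M : Subgroup G) : Set G) := hxWM
    rw [Subgroup.coe_mul_of_right_le_normalizer_left _ _ hWn, Set.mem_mul] at hxWM
    obtain ⟨w, hw, m, hm, rfl⟩ := hxWM
    have hm1 : m ∈ M ⊓ (U ⊔ W) := ⟨hm, by
      rw [show m = w⁻¹ * (w * m) by group]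
      exact Subgroup.mul_mem _ (Subgroup.mem_sup_right (W.inv_mem hw)) (Subgroup.mem_sup_left hxU)⟩
    rw [hMUW, Subgroup.mem_bot] at hm1
    subst hm1
    rw [mul_one] at hxU ⊢
    exact hUW ▸ ⟨hxU, hw⟩
  have := hWmax ⟨sup_le hWV hMV, hsup hWA hMA, hnew⟩ le_sup_left
  exact hM ((le_sup_right.trans this).trans le_sup_right)

end Cfsg.Agent.S3735
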