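import Cfsg.Statements.S3736
import Cfsg.Agent.S0119
import Cfsg.Agent.Lib.PGroup.CoprimeAutGroup
import Cfsg.Agent.Lib.PGroup.ElemAbelian
import Cfsg.Agent.Lib.PGroup.Extraspecial
import Cfsg.Agent.Lib.Transfer.Critical
import Cfsg.Agent.Lib.Solvable.CoprimeAction

set_option autoImplicit false
open Cfsg

namespace Cfsg.Agent.S3736

open scoped commutatorElement
open CfsgLib.PGroup

/-- The Hall–Higman reduction for a minimal non-trivial action. Let B, A and P be subgroups of a finite group with P a p-group, B normalizing P, and A a normal subgroup of B of order prime to p. Suppose A does not centralize P but centralizes every proper B-invariant subgroup of P. Then [P, A] = P; P is elementary abelian or special; B acts irreducibly on P/Φ(P), that is, the only B-invariant subgroups of P containing Φ(P) are Φ(P) and P; and if p is odd then every element of P has order dividing p. -/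
theorem result {X : Type*} [Group X] [Finite X] {p : ℕ} [Fact p.Prime] (B A P : Subgroup X) (hP : IsPGroup p P) (hBP : B ≤ Subgroup.normalizer (P : Set X)) (hAB : A ≤ B) (hAn : B ≤ Subgroup.normalizer (A : Set X)) (hAp : (Nat.card A).Coprime p) (hnt : ⁅P, A⁆ ≠ ⊥) (hmin : ∀ U : Subgroup X, U < P → B ≤ Subgroup.normalizer (U : Set X) → ⁅U, A⁆ = ⊥) : ⁅P, A⁆ = P ∧ (Cfsg.IsElementaryAbelian p P ∨ Cfsg.IsSpecial p ↥P) ∧ (∀ U : Subgroup X, (frattini ↥P).map P.subtype ≤ U → U ≤ P → B ≤ Subgroup.normalizer (U : Set X) → U = (frattini ↥P).map P.subtype ∨ U = P) ∧ (p ≠ 2 → ∀ x ∈ P, x ^ p = 1) := by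
  classical
  have hp : p.Prime := Fact.out
  haveI : Group.IsNilpotent P := hP.isNilpotent
  have hAP : A ≤ Subgroup.normalizer (P : Set X) := hAB.trans hBP
  obtain ⟨kP, hkP⟩ := IsPGroup.iff_card.1 hP
  have hcop : (Nat.card A).Coprime (Nat.card P) := hkP ▸ hAp.pow_right kP
  have hsol : Group.IsSolvable A ∨ Group.IsSolvable P := Or.inr inferInstance
  -- (1) `[P, A] = P`
  have hle : ⁅P, A⁆ ≤ P := CfsgLib.Solvable.commutator_le_of_le_normalizer hAP
  have hPA : ⁅P, A⁆ = P := by
    refine hle.eq_or_lt.resolve_right fun hlt => hnt ?_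
    have h1 := hmin ⁅P, A⁆ hlt ((le_inf hBP hAn).trans (CfsgLib.Solvable.normalizer_le_normalizer_commutator P A))
    rwa [CfsgLib.Solvable.commutator_commutator_self hAP hcop hsol] at h1
  set 𝔸 := inducedAut A P hAP with h𝔸
  have h𝔸p : (Nat.card 𝔸).Coprime p := coprime_card_inducedAut hAp
  have hgen := closure_inducedAut_eq_top (h := hAP) hPA
  -- subgroups of `P` seen in `X`
  have hproper : ∀ H : Subgroup P, H ≠ ⊤ → (∀ b ∈ B, ∀ x ∈ H, ∀ hb : b * (x : X) * b⁻¹ ∈ P, (⟨_, hb⟩ : P) ∈ H) →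
      ∀ α ∈ 𝔸, ∀ x ∈ H, α x = x := by
    intro H hH hHB α hα x hx
    have hlt : H.map P.subtype < P := by
      refine lt_of_le_of_ne (Subgroup.map_subtype_le H) fun e => hH ?_
      rw [eq_top_iff]
      intro y _
      obtain ⟨z, hz, hzy⟩ := e.ge y.2
      rwa [← Subtype.ext (a1 := z) (a2 := y) hzy]
    have hnorm : B ≤ Subgroup.normalizer ((H.map P.subtype : Subgroup X) : Set X) := by
      intro b hb
      refine Subgroup.mem_normalizer_iff.2 fun y => ⟨?_, ?_⟩
      · rintro ⟨z, hz, rfl⟩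
        exact ⟨_, hHB b hb z hz ((Subgroup.mem_normalizer_iff.1 (hBP hb) z).1 z.2), rfl⟩
      · rintro ⟨z, hz, hzy⟩
        have hzy' : (z : X) = b * y * b⁻¹ := hzy
        have hyP : y ∈ P := (Subgroup.mem_normalizer_iff.1 (hBP hb) y).2 (hzy' ▸ z.2)
        have hy' : b⁻¹ * (z : X) * (b⁻¹)⁻¹ = y := by rw [hzy']; group
        exact ⟨_, hHB b⁻¹ (B.inv_mem hb) z hz (hy'.symm ▸ hyP), hy'⟩
    have h1 := hmin _ hlt hnorm
    obtain ⟨⟨a, ha⟩, rfl⟩ := mem_inducedAut.1 hα
    refine Subtype.ext ?_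
    rw [normalizerMonoidHom_coe]
    have h2 : ⁅(x : X), a⁆ = 1 := by
      rw [← Subgroup.mem_bot, ← h1]; exact Subgroup.commutator_mem_commutator ⟨x, hx, rfl⟩ ha
    rw [commutatorElement_eq_one_iff_mul_comm] at h2
    show a * (x : X) * a⁻¹ = x
    rw [← h2, mul_inv_cancel_right]
  -- characteristic subgroups are invariant
  have hchar : ∀ H : Subgroup P, H.Characteristic →
      ∀ b ∈ B, ∀ x ∈ H, ∀ hb : b * (x : X) * b⁻¹ ∈ P, (⟨_, hb⟩ : P) ∈ H := by
    intro H hH b hb x hx hbx
    have := Subgroup.characteristic_iff_map_le.1 hH (P.normalizerMonoidHom ⟨b, hBP hb⟩) ⟨x, hx, rfl⟩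
    have e : (⟨_, hbx⟩ : P) = P.normalizerMonoidHom ⟨b, hBP hb⟩ x := Subtype.ext rfl
    rw [e]; exact this
  have hnotall : ¬ ∀ α ∈ 𝔸, ∀ x : P, α x = x := fun hall => hnt
    (Subgroup.commutator_eq_bot_iff_le_centralizer.2 (Subgroup.le_centralizer_iff.1
      (le_centralizer_of_inducedAut_fix hall)))
  -- a `B`-invariant subgroup containing everything not centralized is the whole of `P`
  have hkey : ∀ H : Subgroup P,
      (∀ b ∈ B, ∀ x ∈ H, ∀ hb : b * (x : X) * b⁻¹ ∈ P, (⟨_, hb⟩ : P) ∈ H) →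
      H ≠ ⊤ → H ≤ _root_.commutator P := fun H hHB hH u hu =>
    fixed_mem_commutator hP 𝔸 h𝔸p hgen fun α hα => hproper H hH hHB α hα u hu
  -- (2) elementary abelian or special
  have hdich : Cfsg.IsElementaryAbelian p P ∨ Cfsg.IsSpecial p ↥P := by
    by_cases hc : IsMulCommutative P
    · left
      let Ω : Subgroup P :=
        { carrier := {x | x ^ p = 1}
          one_mem' := one_pow p
          mul_mem' := fun {a b} (ha : a ^ p = 1) (hb : b ^ p = 1) => by
            show (a * b) ^ p = 1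
            rw [(show Commute a b from hc.is_comm.comm a b).mul_pow, ha, hb, one_mul]
          inv_mem' := fun {a} (ha : a ^ p = 1) => by show a⁻¹ ^ p = 1; rw [inv_pow, ha, inv_one] }
      have hΩtop : Ω = ⊤ := by
        by_contra hne
        have h1 : Ω ≤ _root_.commutator P := hkey Ω (fun b hb x (hx : x ^ p = 1) hbx => by
          show (⟨_, hbx⟩ : P) ^ p = 1
          refine Subtype.ext ?_
          rw [Subgroup.coe_pow, conj_pow, ← Subgroup.coe_pow, hx, Subgroup.coe_one, mul_one, mul_inv_cancel]) hne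
        have hbot : _root_.commutator P = ⊥ := by
          rw [_root_.commutator_def, eq_bot_iff, Subgroup.commutator_le]
          exact fun a _ b _ => Subgroup.mem_bot.2 (commutatorElement_eq_one_iff_mul_comm.2 (hc.is_comm.comm a b))
        have hnbot : P ≠ ⊥ := fun e => hnt (le_bot_iff.1 (e ▸ hle))
        obtain ⟨z, hz⟩ := exists_prime_orderOf_dvd_card' (G := P) p (by
          rw [hkP]
          exact dvd_pow_self p fun h0 => hnbot (Subgroup.eq_bot_of_card_eq _ (by rw [hkP, h0, pow_zero])))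
        have hzΩ : z ∈ Ω := by
          show z ^ p = 1
          rw [← hz, pow_orderOf_eq_one]
        rw [hbot] at h1
        have hz1 := Subgroup.mem_bot.1 (h1 hzΩ)
        rw [hz1, orderOf_one] at hz
        exact hp.ne_one hz.symm
      refine ⟨hc, fun a ha => ?_⟩
      exact congrArg Subtype.val (show (⟨a, ha⟩ : P) ^ p = 1 from hΩtop.ge (Subgroup.mem_top _))
    · right
      refine (Cfsg.Agent.S0119.result hP 𝔸 h𝔸p hgen fun H hH hHc => hproper H ?_ (hchar H hH)).1
      rintro rfl
      exact hc ⟨⟨fun a b => congrArg Subtype.val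
        (hHc.is_comm.comm (⟨a, Subgroup.mem_top a⟩ : (⊤ : Subgroup P)) ⟨b, Subgroup.mem_top b⟩)⟩⟩
  refine ⟨hPA, hdich, fun U hΦU hUP hBU => ?_, fun hp2 x hx => ?_⟩
  · -- (3) irreducibility
    by_cases hU : U = P
    · exact Or.inr hU
    left
    refine le_antisymm (fun u hu => ?_) hΦU
    have hne : U.subgroupOf P ≠ ⊤ := fun e => hU (le_antisymm hUP (Subgroup.subgroupOf_eq_top.1 e))
    have h1 := hkey _ (fun b hb x hx hbx => (Subgroup.mem_normalizer_iff.1 (hBU hb) x).1 hx) hne
      (show (⟨u, hUP hu⟩ : P) ∈ U.subgroupOf P from hu)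
    exact ⟨⟨u, hUP hu⟩, commutator_le_frattini hP h1, rfl⟩
  · -- (4) exponent `p` for odd `p`
    rcases hdich with hE | hS
    · exact hE.2 x hx
    obtain ⟨t, ht⟩ : p ∣ p.choose 2 :=
      hp.dvd_choose_self (by norm_num) (lt_of_le_of_ne hp.two_le (Ne.symm hp2))
    let Ω : Subgroup P :=
      { carrier := {y | y ^ p = 1}
        one_mem' := one_pow p
        mul_mem' := fun {a b} (ha : a ^ p = 1) (hb : b ^ p = 1) => by
          show (a * b) ^ p = 1
          have hc := special_comm_mem_center hS b a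
          rw [mul_pow_of_comm_mem_center hc, ha, hb, ht, pow_mul, special_center_pow hS hc, one_pow, one_mul, one_mul]
        inv_mem' := fun {a} (ha : a ^ p = 1) => by show a⁻¹ ^ p = 1; rw [inv_pow, ha, inv_one] }
    have hΩtop : Ω = ⊤ := by
      by_contra hne
      have hfix := hproper Ω hne (fun b hb y (hy : y ^ p = 1) hby => by
        show (⟨_, hby⟩ : P) ^ p = 1
        refine Subtype.ext ?_
        rw [Subgroup.coe_pow, conj_pow, ← Subgroup.coe_pow, hy, Subgroup.coe_one, mul_one, mul_inv_cancel])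
      refine hnotall fun α hα y => ?_
      have hα1 : α = 1 := CfsgLib.Transfer.aut_eq_one_of_fix_omega hp2 hP α
        (h𝔸p.coprime_dvd_left (by
          rw [← Subgroup.orderOf_mk (H := 𝔸) α hα]
          exact orderOf_dvd_natCard _)) (fun z hz => hfix α hα z hz)
      rw [hα1, MulAut.one_apply]
    exact congrArg Subtype.val (show (⟨x, hx⟩ : P) ^ p = 1 from hΩtop.ge (Subgroup.mem_top _))

end Cfsg.Agent.S3736
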