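import Cfsg.Statements.S3737
import Cfsg.Agent.S3736
import Cfsg.Agent.Lib.PGroup.BaerTrick
import Cfsg.Agent.Lib.PGroup.CoprimeAutGroup

set_option autoImplicit false
open Cfsg

namespace Cfsg.Agent.S3737

open scoped commutatorElement
open CfsgLib.PGroup

/-- Thompson's strengthening of the P × Q lemma for odd primes. Let p be an odd prime and let P, Q and G be subgroups of a finite group with P a p-group, Q of order prime to p and normalized by P, and G a p-group normalized by both P and Q. If every element of G centralized by P is centralized by Q, then Q centralizes G. -/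
theorem result {X : Type*} [Group X] [Finite X] {p : ℕ} [Fact p.Prime] (hp : p ≠ 2) (P Q G : Subgroup X) (hP : IsPGroup p P) (hQ : (Nat.card Q).Coprime p) (hPQ : P ≤ Subgroup.normalizer (Q : Set X)) (hG : IsPGroup p G) (hPG : P ≤ Subgroup.normalizer (G : Set X)) (hQG : Q ≤ Subgroup.normalizer (G : Set X)) (hC : G ⊓ Subgroup.centralizer (P : Set X) ≤ Subgroup.centralizer (Q : Set X)) : Q ≤ Subgroup.centralizer (G : Set X) := by
  classical
  have hBG : P ⊔ Q ≤ Subgroup.normalizer (G : Set X) := sup_le hPG hQG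
  have hBQ : P ⊔ Q ≤ Subgroup.normalizer (Q : Set X) := sup_le hPQ Subgroup.le_normalizer
  by_contra hcon
  have hGQ : ⁅G, Q⁆ ≠ ⊥ := fun h => hcon
    (Subgroup.le_centralizer_iff.1 (Subgroup.commutator_eq_bot_iff_le_centralizer.1 h))
  obtain ⟨U, ⟨hUG, hUB, hUQ⟩, hUmin⟩ := Set.Finite.exists_minimal
    (s := {U : Subgroup X | U ≤ G ∧ P ⊔ Q ≤ Subgroup.normalizer (U : Set X) ∧ ⁅U, Q⁆ ≠ ⊥})
    (Set.toFinite _) ⟨G, le_rfl, hBG, hGQ⟩
  have hUp : IsPGroup p U := hG.to_le hUG
  have hmin : ∀ W : Subgroup X, W < U → P ⊔ Q ≤ Subgroup.normalizer (W : Set X) → ⁅W, Q⁆ = ⊥ := by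
    intro W hW hWB
    by_contra hne
    exact hW.not_ge (hUmin ⟨hW.le.trans hUG, hWB, hne⟩ hW.le)
  obtain ⟨-, hdich, -, -⟩ := Cfsg.Agent.S3736.result (P ⊔ Q) Q U hUp hUB le_sup_right hBQ hQ hUQ hmin
  have hUcen : (∀ a b : U, ⁅a, b⁆ ∈ Subgroup.center U) ∧ ∀ a b : U, ⁅a, b⁆ ^ p = 1 := by
    rcases hdich with hE | hS
    · have h1 : ∀ a b : U, ⁅a, b⁆ = 1 := fun a b =>
        commutatorElement_eq_one_iff_mul_comm.2 (hE.1.is_comm.comm a b)
      exact ⟨fun a b => by rw [h1]; exact Subgroup.one_mem _, fun a b => by rw [h1, one_pow]⟩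
    · exact ⟨special_comm_mem_center hS, fun a b => special_center_pow hS (special_comm_mem_center hS a b)⟩
  have hPU : P ≤ Subgroup.normalizer (U : Set X) := le_sup_left.trans hUB
  have hQU : Q ≤ Subgroup.normalizer (U : Set X) := le_sup_right.trans hUB
  have hone := eq_one_of_fixed_le_classTwo hp hUp hUcen.1 hUcen.2 (inducedAut Q U hQU) (inducedAut P U hPU)
    (coprime_card_inducedAut hQ)
    (hP.of_surjective _ (U.normalizerMonoidHom.comp (Subgroup.inclusion hPU)).rangeRestrict_surjective)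
    (by
      rintro _ ⟨b, rfl⟩ _ ⟨q, rfl⟩
      refine ⟨⟨(b : X) * q * (b : X)⁻¹, (Subgroup.mem_normalizer_iff.1 (hPQ b.2) q).1 q.2⟩, ?_⟩
      simp only [MonoidHom.comp_apply]
      rw [← map_inv, ← map_mul, ← map_mul]
      rfl)
    (by
      intro v hv
      rintro _ ⟨q, rfl⟩
      have hvC : (v : X) ∈ G ⊓ Subgroup.centralizer (P : Set X) := by
        refine ⟨hUG v.2, Subgroup.mem_centralizer_iff.2 fun b hb => ?_⟩
        have := congrArg Subtype.val (hv _ ⟨⟨b, hb⟩, rfl⟩)
        change b * (v : X) * b⁻¹ = v at this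
        exact mul_inv_eq_iff_eq_mul.1 this
      refine Subtype.ext ?_
      show (q : X) * v * (q : X)⁻¹ = v
      rw [mul_inv_eq_iff_eq_mul]
      exact Subgroup.mem_centralizer_iff.1 (hC hvC) q q.2)
  refine hUQ (Subgroup.commutator_eq_bot_iff_le_centralizer.2 (Subgroup.le_centralizer_iff.1 ?_))
  exact le_centralizer_of_inducedAut_fix (h := hQU) fun α hα x => by rw [hone α hα]; rfl

end Cfsg.Agent.S3737
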