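import Cfsg.Statements.S3739
import Cfsg.Agent.Lib.PGroup.RankTwoAction
import Cfsg.Agent.Lib.PGroup.Basic
import Cfsg.Agent.Lib.Solvable.Generation
import Cfsg.Agent.Lib.Cores.Basic

set_option autoImplicit false
open Cfsg

namespace Cfsg.Agent.S3739

theorem ext_false {G : Type*} [Group G] [Finite G] (hr : ∀ V : Subgroup G, (∀ a ∈ V, a ^ 2 = 1) → Nat.card V ≤ 4)
    (V : Subgroup G) (hV : ∀ a ∈ V, a ^ 2 = 1) (hV4 : Nat.card V = 4) (x : G) (hx2 : x ^ 2 = 1)
    (hc : ∀ a ∈ V, a * x = x * a) : x ∈ V := by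
  set U := V ⊔ Subgroup.zpowers x with hU
  have hgen : V ⊔ Subgroup.zpowers x = Subgroup.closure ((V : Set G) ∪ {x}) := by
    rw [Subgroup.closure_union, Subgroup.closure_eq, Subgroup.zpowers_eq_closure]
  have hcV : ∀ a ∈ V, ∀ b ∈ V, a * b = b * a := fun a ha b hb => by
    have h1 : a * a = 1 := by rw [← pow_two]; exact hV a ha
    have h2 : b * b = 1 := by rw [← pow_two]; exact hV b hb
    have h3 : a * b * (a * b) = 1 := by rw [← pow_two]; exact hV _ (mul_mem ha hb)
    rw [← inv_eq_of_mul_eq_one_left h3, mul_inv_rev, inv_eq_of_mul_eq_one_left h1, inv_eq_of_mul_eq_one_left h2]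
  have hUc : ∀ a ∈ U, a ^ 2 = 1 := by
    intro a ha
    rw [hU, hgen] at ha
    have hcl : Subgroup.closure ((V : Set G) ∪ {x}) ≤ Subgroup.centralizer ((V : Set G) ∪ {x}) := by
      rw [Subgroup.closure_le]
      intro y hy
      rw [SetLike.mem_coe, Subgroup.mem_centralizer_iff]
      intro z hz
      rcases hy with hy | rfl <;> rcases hz with hz | rfl
      · exact hcV z hz y hy
      · exact (hc y hy).symm
      · exact hc z hz
      · rfl
    have key : a ∈ Subgroup.closure ((V : Set G) ∪ {x}) ∧ a ^ 2 = 1 := by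
      induction ha using Subgroup.closure_induction with
      | mem y hy => exact ⟨Subgroup.subset_closure hy, hy.elim (hV y) (fun h => by rw [Set.mem_singleton_iff.1 h]; exact hx2)⟩
      | one => exact ⟨one_mem _, one_pow 2⟩
      | mul y z _ _ hy hz =>
        refine ⟨mul_mem hy.1 hz.1, ?_⟩
        have h := hcl hy.1
        rw [← Subgroup.centralizer_closure] at h
        rw [(show Commute y z from (Subgroup.mem_centralizer_iff.1 h z hz.1).symm).mul_pow, hy.2, hz.2, one_mul]
      | inv y _ hy => exact ⟨inv_mem hy.1, by rw [inv_pow, hy.2, inv_one]⟩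
    exact key.2
  have h1 := hr U hUc
  have hVU : V = U := Subgroup.eq_of_le_of_card_ge le_sup_left (by rw [hV4]; exact h1)
  rw [hVU]
  exact Subgroup.mem_sup_right (Subgroup.mem_zpowers x)

/-- Let G be a finite group with C_G(O₂(G)) ≤ O₂(G) containing an element of order 6, and let d be a non-identity 3-element of G normalizing a nontrivial elementary abelian 2-subgroup W with C_W(d) = 1. Then G has an elementary abelian subgroup of order 8. -/
theorem result {G : Type*} [Group G] [Finite G] (hchar : Subgroup.centralizer (Cfsg.pCore 2 G : Set G) ≤ Cfsg.pCore 2 G) (hsix : ∃ g : G, orderOf g = 6) (d : G) (hd1 : d ≠ 1) (hd : IsPGroup 3 ↥(Subgroup.zpowers d)) (W : Subgroup G) (hW : Cfsg.IsElementaryAbelian 2 W) (hW1 : W ≠ ⊥) (hdW : d ∈ Subgroup.normalizer (W : Set G)) (hfpf : W ⊓ Subgroup.centralizer {d} = ⊥) : ∃ E : Subgroup G, Cfsg.IsElementaryAbelian 2 E ∧ Nat.card E = 8 := by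
  classical
  by_contra hno
  have hr : ∀ V : Subgroup G, (∀ a ∈ V, a ^ 2 = 1) → Nat.card V ≤ 4 := by
    intro V hV
    by_contra h
    haveI : Fact (Nat.Prime 2) := ⟨Nat.prime_two⟩
    obtain ⟨a, ha⟩ := IsPGroup.iff_card.1 (show IsPGroup 2 V from fun v => ⟨1, Subtype.ext (by simpa using hV v v.2)⟩)
    have ha3 : 3 ≤ a := by
      by_contra h'
      exact h (ha ▸ (Nat.pow_le_pow_right two_pos (show a ≤ 2 by omega)))
    obtain ⟨E, hE⟩ := Sylow.exists_subgroup_card_pow_prime 2 (G := V) (n := 3) (by rw [ha]; exact pow_dvd_pow 2 ha3)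
    have hsq : ∀ x ∈ E.map V.subtype, x ^ 2 = 1 := by
      rintro _ ⟨y, -, rfl⟩; exact hV y y.2
    refine hno ⟨E.map V.subtype, ⟨⟨⟨fun x y => Subtype.ext ?_⟩⟩, hsq⟩, by rw [Subgroup.card_map_of_injective V.subtype_injective, hE]; rfl⟩
    have h1 : (x : G) * x = 1 := by rw [← pow_two]; exact hsq _ x.2
    have h2 : (y : G) * y = 1 := by rw [← pow_two]; exact hsq _ y.2
    have h3 : (x : G) * y * (x * y) = 1 := by rw [← pow_two]; exact hsq _ (mul_mem x.2 y.2)
    show (x : G) * y = y * x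
    rw [← inv_eq_of_mul_eq_one_left h3, mul_inv_rev, inv_eq_of_mul_eq_one_left h1, inv_eq_of_mul_eq_one_left h2]
  haveI : Fact (Nat.Prime 2) := ⟨Nat.prime_two⟩
  haveI : Fact (Nat.Prime 3) := ⟨Nat.prime_three⟩
  have hWsq := hW.2
  have hWc : ∀ a ∈ W, ∀ b ∈ W, a * b = b * a := fun a ha b hb =>
    congrArg Subtype.val (hW.1.is_comm.comm ⟨a, ha⟩ ⟨b, hb⟩)
  have hW2 : IsPGroup 2 W := fun v => ⟨1, Subtype.ext (by simpa using hWsq v v.2)⟩
  -- a subgroup of order two invariant under `d` gives a fixed point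
  have hinv2 : ∀ K : Subgroup G, K ≤ W → (∀ k ∈ K, d * k * d⁻¹ ∈ K) → Nat.card K ≠ 2 := by
    intro K hKW hK h2
    obtain ⟨z, hz1, hz⟩ := Nat.card_eq_two_iff' (1 : K) |>.1 h2
    have hdz := hz ⟨d * (z : G) * d⁻¹, hK _ z.2⟩ fun h => hz1 (Subtype.ext (conj_eq_one_iff.1 (congrArg Subtype.val h)))
    have hmem : (z : G) ∈ W ⊓ Subgroup.centralizer {d} :=
      ⟨hKW z.2, Subgroup.mem_centralizer_singleton_iff.2 (mul_inv_eq_iff_eq_mul.1 (congrArg Subtype.val hdz)).symm⟩
    rw [hfpf, Subgroup.mem_bot] at hmem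
    exact hz1 (Subtype.ext hmem)
  have hW4 : Nat.card W = 4 := by
    obtain ⟨a, ha⟩ := IsPGroup.iff_card.1 hW2
    have := hr W hWsq
    rcases a with _ | _ | _ | a
    · exact absurd (Subgroup.card_eq_one.1 ha) hW1
    · exact absurd ha (hinv2 W le_rfl fun k hk => (Subgroup.mem_normalizer_iff.1 hdW k).1 hk)
    · exact ha
    · rw [pow_succ, pow_succ, pow_succ] at ha
      have : 0 < 2 ^ a := by positivity
      omega
  set Q := Cfsg.pCore 2 G with hQdef
  have hQ2 : IsPGroup 2 Q := CfsgLib.Cores.isPGroup_pCore 2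
  have hQn : Q.Normal := Cfsg.pCore_normal 2 G
  -- the socle of the center of `Q`
  let Z0 : Subgroup G :=
    { carrier := {x | x ∈ Q ∧ x ^ 2 = 1 ∧ ∀ q ∈ Q, q * x = x * q}
      one_mem' := ⟨Q.one_mem, one_pow 2, fun q _ => by rw [mul_one, one_mul]⟩
      mul_mem' := by
        rintro a b ⟨ha, ha2, hac⟩ ⟨hb, hb2, hbc⟩
        refine ⟨mul_mem ha hb, ?_, fun q hq => ?_⟩
        · rw [(show Commute a b from hbc a ha).mul_pow, ha2, hb2, one_mul]
        · rw [← mul_assoc, hac q hq, mul_assoc, hbc q hq, ← mul_assoc]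
      inv_mem' := by
        rintro a ⟨ha, ha2, hac⟩
        exact ⟨inv_mem ha, by rw [inv_pow, ha2, inv_one], fun q hq => ((show Commute q a from hac q hq).inv_right).eq⟩ }
  have hZn : Z0.Normal := ⟨fun x hx g => ⟨hQn.conj_mem x hx.1 g, by rw [conj_pow, hx.2.1]; group, fun q hq => by
    have h := hx.2.2 (g⁻¹ * q * g) (by simpa using hQn.conj_mem q hq g⁻¹)
    calc q * (g * x * g⁻¹) = g * (g⁻¹ * q * g * x) * g⁻¹ := by group
      _ = g * (x * (g⁻¹ * q * g)) * g⁻¹ := by rw [h]
      _ = g * x * g⁻¹ * q := by group⟩⟩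
  have hZsq : ∀ a ∈ Z0, a ^ 2 = 1 := fun a ha => ha.2.1
  have hQne : Nontrivial Q := by
    rw [Subgroup.nontrivial_iff_ne_bot]
    intro h
    have h1 : d ∈ Subgroup.centralizer (Q : Set G) := by
      rw [Subgroup.mem_centralizer_iff]; intro q hq
      rw [SetLike.mem_coe, h, Subgroup.mem_bot] at hq; subst hq; rw [one_mul, mul_one]
    have h2 := hchar h1
    exact hd1 (Subgroup.mem_bot.1 (h.le h2))
  obtain ⟨z0, hz0, hz01⟩ : ∃ z ∈ Z0, z ≠ 1 := by
    haveI := hQ2.center_nontrivial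
    obtain ⟨w, hw⟩ := exists_prime_orderOf_dvd_card' (G := Subgroup.center Q) 2
      ((hQ2.to_subgroup _).card_eq_or_dvd.resolve_left Finite.one_lt_card.ne')
    obtain ⟨hw1, hw2⟩ := orderOf_eq_prime_iff.1 hw
    refine ⟨((w : Q) : G), ⟨(w : Q).2, congrArg (fun v : Subgroup.center Q => ((v : Q) : G)) hw1,
      fun q hq => congrArg Subtype.val (Subgroup.mem_center_iff.1 w.2 ⟨q, hq⟩)⟩, fun h => hw2 (Subtype.ext (Subtype.ext h))⟩
  have hZ4 : Nat.card Z0 = 4 := by
    obtain ⟨a, ha⟩ := IsPGroup.iff_card.1 (show IsPGroup 2 Z0 from fun v => ⟨1, Subtype.ext (by simpa using hZsq v v.2)⟩)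
    have := hr Z0 hZsq
    rcases a with _ | _ | _ | a
    · rw [pow_zero, Subgroup.card_eq_one] at ha; rw [ha, Subgroup.mem_bot] at hz0; exact absurd hz0 hz01
    · exfalso
      obtain ⟨y, hy1, hy⟩ := Nat.card_eq_two_iff' (1 : Z0) |>.1 ha
      have hcz : ∀ g : G, g * z0 * g⁻¹ = z0 := fun g => by
        have h1 := hy ⟨g * z0 * g⁻¹, hZn.conj_mem _ hz0 g⟩ fun h => hz01 (conj_eq_one_iff.1 (congrArg Subtype.val h))
        have h2 := hy ⟨z0, hz0⟩ fun h => hz01 (congrArg Subtype.val h)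
        exact (congrArg Subtype.val h1).trans (congrArg Subtype.val h2).symm
      have hmem := ext_false hr W hWsq hW4 z0 (hZsq _ hz0) fun a _ => mul_inv_eq_iff_eq_mul.1 (hcz a)
      have h3 : z0 ∈ W ⊓ Subgroup.centralizer {d} :=
        ⟨hmem, Subgroup.mem_centralizer_singleton_iff.2 (mul_inv_eq_iff_eq_mul.1 (hcz d)).symm⟩
      rw [hfpf, Subgroup.mem_bot] at h3
      exact hz01 h3
    · exact ha
    · rw [pow_succ, pow_succ, pow_succ] at ha
      have : 0 < 2 ^ a := by positivity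
      omega
  have hWZ : W = Z0 := by
    set K := W ⊓ Subgroup.centralizer (Z0 : Set G) with hK
    have hKinv : ∀ k ∈ K, d * k * d⁻¹ ∈ K := fun k hk => ⟨(Subgroup.mem_normalizer_iff.1 hdW k).1 hk.1, by
      show _ ∈ Subgroup.centralizer (Z0 : Set G)
      rw [Subgroup.mem_centralizer_iff]
      intro y hy
      have h1 := Subgroup.mem_centralizer_iff.1 hk.2 (d⁻¹ * y * d) (by simpa using hZn.conj_mem y hy d⁻¹)
      calc y * (d * k * d⁻¹) = d * (d⁻¹ * y * d * k) * d⁻¹ := by group
        _ = d * (k * (d⁻¹ * y * d)) * d⁻¹ := by rw [h1]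
        _ = d * k * d⁻¹ * y := by group⟩
    obtain ⟨a, ha⟩ := IsPGroup.iff_card.1 (hW2.to_le (inf_le_left : K ≤ W))
    have hle := Subgroup.card_le_of_le (inf_le_left : K ≤ W)
    rcases a with _ | _ | _ | a
    · exfalso
      haveI := hZn
      let S3 := {x : Z0 // x ≠ 1}
      let f : W →* Equiv.Perm Z0 :=
        { toFun := fun w => (MulAut.conjNormal (w : G)).toEquiv
          map_one' := by ext x; simp
          map_mul' := fun a b => by ext x; simp }
      let f' : W →* Equiv.Perm S3 :=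
        { toFun := fun w => (f w).subtypePerm (fun x => by
            simp only [ne_eq, f]; exact not_congr (MulEquiv.map_eq_one_iff _))
          map_one' := by ext x; simp [f]
          map_mul' := fun a b => by ext x; simp [f] }
      have hinj : Function.Injective f' := by
        rw [injective_iff_map_eq_one]
        intro w hw
        have hwK : (w : G) ∈ K := ⟨w.2, by
          show _ ∈ Subgroup.centralizer (Z0 : Set G)
          rw [Subgroup.mem_centralizer_iff]
          intro y hy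
          by_cases hy1 : y = 1
          · subst hy1; rw [one_mul, mul_one]
          have := congrArg (fun (φ : Equiv.Perm S3) => (((φ ⟨⟨y, hy⟩, fun h => hy1 (congrArg Subtype.val h)⟩).1 : Z0) : G)) hw
          simp [f', f] at this
          exact (mul_inv_eq_iff_eq_mul.1 this).symm⟩
        exact Subtype.ext (Subgroup.mem_bot.1 ((Subgroup.card_eq_one.1 ha).le hwK))
      have h := Subgroup.card_dvd_of_injective f' hinj
      rw [hW4, Nat.card_perm, show Nat.card S3 = 3 by
        haveI := Fintype.ofFinite Z0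
        rw [Nat.card_eq_fintype_card, Fintype.card_subtype_compl (fun x : Z0 => x = 1), Fintype.card_subtype_eq,
          ← Nat.card_eq_fintype_card, hZ4]] at h
      exact absurd h (by decide)
    · exact absurd ha (hinv2 K inf_le_left hKinv)
    · have hKW : K = W := Subgroup.eq_of_le_of_card_ge inf_le_left (by rw [ha, hW4]; norm_num)
      have hWc' : W ≤ Subgroup.centralizer (Z0 : Set G) := hKW ▸ inf_le_right
      refine (Subgroup.eq_of_le_of_card_ge (fun z hz => ?_) (by rw [hW4, hZ4])).symm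
      exact ext_false hr W hWsq hW4 z (hZsq z hz) fun v hv => (Subgroup.mem_centralizer_iff.1 (hWc' hv) z hz).symm
    · rw [ha, hW4, pow_succ, pow_succ, pow_succ] at hle
      have : 0 < 2 ^ a := by positivity
      omega
  have hWn : W.Normal := hWZ ▸ hZn
  set C := Subgroup.centralizer (W : Set G) with hC
  have hCn : C.Normal := ⟨fun c hc g => Subgroup.mem_centralizer_iff.2 fun y hy => by
    have h1 := Subgroup.mem_centralizer_iff.1 hc (g⁻¹ * y * g) (by simpa using hWn.conj_mem y hy g⁻¹)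
    calc y * (g * c * g⁻¹) = g * (g⁻¹ * y * g * c) * g⁻¹ := by group
      _ = g * (c * (g⁻¹ * y * g)) * g⁻¹ := by rw [h1]
      _ = g * c * g⁻¹ * y := by group⟩
  have hinvC : ∀ x : G, x ^ 2 = 1 → x ∈ C → x ∈ W := fun x hx hxC =>
    ext_false hr W hWsq hW4 x hx fun v hv => Subgroup.mem_centralizer_iff.1 hxC v hv
  -- two fixed points determine the action
  have htwo : ∀ a x y : G, x ∈ W → y ∈ W → x ≠ 1 → y ≠ 1 → x ≠ y → a * x * a⁻¹ = x → a * y * a⁻¹ = y → a ∈ C := by
    intro a x y hx hy hx1 hy1 hxy hax hay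
    set F := W ⊓ Subgroup.centralizer ({a} : Set G) with hF
    have hxF : x ∈ F := ⟨hx, Subgroup.mem_centralizer_singleton_iff.2 (mul_inv_eq_iff_eq_mul.1 hax).symm⟩
    have hyF : y ∈ F := ⟨hy, Subgroup.mem_centralizer_singleton_iff.2 (mul_inv_eq_iff_eq_mul.1 hay).symm⟩
    have hsub : ({1, x, y} : Set G) ⊆ (F : Set G) := by
      rintro u (rfl | rfl | rfl)
      · exact F.one_mem
      · exact hxF
      · exact hyF
    have h3 := Set.ncard_le_ncard hsub (Set.toFinite _)
    rw [show ({1, x, y} : Set G).ncard = 3 from Set.ncard_eq_three.2 ⟨1, x, y, hx1.symm, hy1.symm, hxy, rfl⟩,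
      ← Nat.card_coe_set_eq, SetLike.coe_sort_coe] at h3
    have hdvd := Subgroup.card_dvd_of_le (inf_le_left : F ≤ W)
    rw [hW4] at hdvd
    have hF4 : Nat.card F = 4 := by
      have := Nat.le_of_dvd (by norm_num) hdvd
      interval_cases (Nat.card F)
      · norm_num at hdvd
      · rfl
    have hFW : F = W := Subgroup.eq_of_le_of_card_ge inf_le_left (by rw [hF4, hW4])
    rw [hC, Subgroup.mem_centralizer_iff]
    intro w hw
    exact Subgroup.mem_centralizer_singleton_iff.1 ((hFW.ge hw).2)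
  -- an element of odd order with a fixed point centralizes `W`
  have hfix : ∀ a x : G, Odd (orderOf a) → x ∈ W → x ≠ 1 → a * x * a⁻¹ = x → a ∈ C := by
    intro a x hodd hx hx1 hax
    obtain ⟨y, hy, hy1, hyx⟩ : ∃ y ∈ W, y ≠ 1 ∧ y ≠ x := by
      by_contra h
      push Not at h
      have hsub : (W : Set G) ⊆ {1, x} := fun y hy => by
        by_cases hy1 : y = 1
        · exact Or.inl hy1
        · exact Or.inr (h y hy hy1)
      have h2 := Set.ncard_le_ncard hsub (Set.toFinite _)
      rw [← Nat.card_coe_set_eq, SetLike.coe_sort_coe, hW4] at h2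
      have := Set.ncard_insert_le 1 ({x} : Set G)
      rw [Set.ncard_singleton] at this
      omega
    by_cases hay : a * y * a⁻¹ = y
    · exact htwo a x y hx hy hx1 hy1 hyx.symm hax hay
    -- then `a` exchanges the other two
    set y' := a * y * a⁻¹ with hy'
    have hy'W : y' ∈ W := hWn.conj_mem y hy a
    have h2 : a * y' * a⁻¹ = y := by
      by_contra h2
      have hlist : ({1, x, y, y', a * y' * a⁻¹} : Finset G).card = 5 := by
        have hy'1 : y' ≠ 1 := fun h => hy1 (conj_eq_one_iff.1 h)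
        have hy'x : y' ≠ x := fun h => hyx (mul_left_cancel (mul_right_cancel (h.trans hax.symm)))
        have hy''1 : a * y' * a⁻¹ ≠ 1 := fun h => hy'1 (conj_eq_one_iff.1 h)
        have hy''x : a * y' * a⁻¹ ≠ x := fun h => hy'x (mul_left_cancel (mul_right_cancel (h.trans hax.symm)))
        have hy''y : a * y' * a⁻¹ ≠ y' := fun h => hay (mul_left_cancel (mul_right_cancel h))
        rw [Finset.card_insert_of_notMem, Finset.card_insert_of_notMem, Finset.card_insert_of_notMem, Finset.card_pair]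
        · exact hy''y.symm
        · simp only [Finset.mem_insert, Finset.mem_singleton, not_or]; exact ⟨Ne.symm hay, Ne.symm h2⟩
        · simp only [Finset.mem_insert, Finset.mem_singleton, not_or]; exact ⟨hyx.symm, hy'x.symm, hy''x.symm⟩
        · simp only [Finset.mem_insert, Finset.mem_singleton, not_or]; exact ⟨hx1.symm, hy1.symm, hy'1.symm, hy''1.symm⟩
      have hle : ({1, x, y, y', a * y' * a⁻¹} : Finset G).card ≤ (W : Set G).ncard := by
        rw [← Set.ncard_coe_finset]
        refine Set.ncard_le_ncard (fun u hu => ?_) (Set.toFinite _)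
        simp only [Finset.coe_insert, Finset.coe_singleton, Set.mem_insert_iff, Set.mem_singleton_iff] at hu
        rcases hu with rfl | rfl | rfl | rfl | rfl
        exacts [W.one_mem, hx, hy, hy'W, hWn.conj_mem _ hy'W a]
      rw [hlist, ← Nat.card_coe_set_eq, SetLike.coe_sort_coe, hW4] at hle
      omega
    have ha2 : a ^ 2 ∈ C := htwo (a ^ 2) x y hx hy hx1 hy1 hyx.symm
      (by calc a ^ 2 * x * (a ^ 2)⁻¹ = a * (a * x * a⁻¹) * a⁻¹ := by rw [pow_two]; group
            _ = x := by rw [hax, hax])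
      (by calc a ^ 2 * y * (a ^ 2)⁻¹ = a * y' * a⁻¹ := by rw [hy', pow_two]; group
            _ = y := h2)
    obtain ⟨k, hk⟩ := hodd
    have e : a = ((a ^ 2) ^ (k + 1)) := by
      rw [← pow_mul, show 2 * (k + 1) = orderOf a + 1 by omega, pow_succ, pow_orderOf_eq_one, one_mul]
    rw [e]; exact pow_mem ha2 _
  have hdC : d ∉ C := fun h => hW1 (eq_bot_iff.2 fun v hv => by
    rw [← hfpf]; exact ⟨hv, Subgroup.mem_centralizer_singleton_iff.2 (Subgroup.mem_centralizer_iff.1 h v hv)⟩)
  have hodd3 : ∀ a : G, ∀ k, orderOf a = 3 ^ k → Odd (orderOf a) := fun a k hk => hk ▸ Odd.pow (by decide)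
  -- three-elements outside `C`
  have hout : ∀ a : G, ∀ k, orderOf a = 3 ^ k → a ∉ C → Q ⊓ Subgroup.centralizer {a} = ⊥ := by
    intro a k hk haC
    by_contra hne
    obtain ⟨z, hz⟩ := exists_prime_orderOf_dvd_card' (G := ↥(Q ⊓ Subgroup.centralizer ({a} : Set G))) 2
      ((hQ2.to_le inf_le_left).card_eq_or_dvd.resolve_left fun h => hne (Subgroup.card_eq_one.1 h))
    obtain ⟨hz1, hz2⟩ := orderOf_eq_prime_iff.1 hz
    have hzsq : (z : G) ^ 2 = 1 := congrArg Subtype.val hz1
    have hzW : (z : G) ∈ W := hinvC _ hzsq (Subgroup.mem_centralizer_iff.2 fun w hw => by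
      rw [SetLike.mem_coe, hWZ] at hw
      exact (hw.2.2 _ z.2.1).symm)
    have hza := Subgroup.mem_centralizer_singleton_iff.1 z.2.2
    exact haC (hfix a z (hodd3 a k hk) hzW (fun h => hz2 (Subtype.ext h))
      (mul_inv_eq_iff_eq_mul.2 hza.symm))
  -- an element of order three in `C`
  obtain ⟨g, hg⟩ := hsix
  set s := g ^ 3 with hs
  set u := g ^ 2 with hu
  have hso : orderOf s = 2 := by rw [hs, orderOf_pow_of_dvd (by norm_num) (by rw [hg]; norm_num), hg]
  have huo : orderOf u = 3 := by rw [hu, orderOf_pow_of_dvd (by norm_num) (by rw [hg]; norm_num), hg]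
  have hsu : s * u = u * s := by rw [hs, hu, ← pow_add, ← pow_add, add_comm]
  obtain ⟨hs1, hs2⟩ := orderOf_eq_prime_iff.1 hso
  have hsu' : u * s * u⁻¹ = s := by rw [← hsu, mul_inv_cancel_right]
  have huC : u ∈ C := by
    have hu3 : Odd (orderOf u) := by rw [huo]; decide
    by_cases hsC : s ∈ C
    · exact hfix u s hu3 (hinvC s hs1 hsC) hs2 hsu'
    -- the fixed point of `s`
    obtain ⟨x, hx, hx1, hsx⟩ : ∃ x ∈ W, x ≠ 1 ∧ s * x * s⁻¹ = x := by
      obtain ⟨w, hw, hw1⟩ := (Subgroup.ne_bot_iff_exists_ne_one.1 hW1).elim fun w hw => (⟨w.1, w.2, fun h => hw (Subtype.ext h)⟩ : ∃ w ∈ W, w ≠ 1)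
      by_cases h : s * w * s⁻¹ = w
      · exact ⟨w, hw, hw1, h⟩
      refine ⟨w * (s * w * s⁻¹), mul_mem hw (hWn.conj_mem w hw s), fun h1 => h ?_, ?_⟩
      · have hww : w * w = 1 := by rw [← pow_two]; exact hWsq w hw
        exact (mul_left_cancel (hww.trans h1.symm)).symm
      · calc s * (w * (s * w * s⁻¹)) * s⁻¹ = s * w * s⁻¹ * (s ^ 2 * w * (s ^ 2)⁻¹) := by rw [pow_two]; group
          _ = s * w * s⁻¹ * w := by rw [hs1]; group
          _ = w * (s * w * s⁻¹) := hWc _ (hWn.conj_mem w hw s) _ hw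
    refine hfix u x hu3 hx hx1 ?_
    by_contra hne
    refine hsC (htwo s x (u * x * u⁻¹) hx (hWn.conj_mem x hx u) hx1 (fun h => hx1 (conj_eq_one_iff.1 h)) (Ne.symm hne) hsx ?_)
    calc s * (u * x * u⁻¹) * s⁻¹ = s * u * x * (s * u)⁻¹ := by group
      _ = u * s * x * (u * s)⁻¹ := by rw [hsu]
      _ = u * (s * x * s⁻¹) * u⁻¹ := by group
      _ = u * x * u⁻¹ := by rw [hsx]
  -- a Sylow 3-subgroup
  obtain ⟨T, hT⟩ := (IsPGroup.of_card (p := 3) (G := Subgroup.zpowers u) (n := 1) (by rw [Nat.card_zpowers, huo, pow_one])).exists_le_sylow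
  obtain ⟨t, htT, htC⟩ : ∃ t ∈ (T : Subgroup G), t ∉ C := by
    by_contra h
    push Not at h
    obtain ⟨T', hT'⟩ := hd.exists_le_sylow
    obtain ⟨r, hr'⟩ := MulAction.exists_smul_eq G T T'
    have hdT' : d ∈ (T' : Subgroup G) := hT' (Subgroup.mem_zpowers d)
    rw [← hr', Sylow.coe_subgroup_smul, Subgroup.mem_pointwise_smul_iff_inv_smul_mem] at hdT'
    refine hdC ?_
    have h1 := hCn.conj_mem _ (h _ hdT') r
    simpa [MulAut.smul_def, mul_assoc] using h1
  set TC := (C.subgroupOf (T : Subgroup G)) with hTC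
  have hTCne : TC ≠ ⊥ := fun h => by
    have hmem : (⟨u, hT (Subgroup.mem_zpowers u)⟩ : (T : Subgroup G)) ∈ TC := huC
    rw [h, Subgroup.mem_bot] at hmem
    rw [show u = 1 from congrArg Subtype.val hmem, orderOf_one] at huo; omega
  obtain ⟨c, hc, hco⟩ := CfsgLib.PGroup.exists_orderOf_eq (p := 3) T.2 (H := TC ⊓ Subgroup.center (T : Subgroup G))
    (CfsgLib.PGroup.inf_center_ne_bot T.2 TC hTCne)
  obtain ⟨hcC, hcZ⟩ := hc
  obtain ⟨k, hk⟩ := IsPGroup.iff_orderOf.1 T.2 ⟨t, htT⟩
  rw [Subgroup.orderOf_mk] at hk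
  have hk1 : 1 ≤ k := by
    rcases k with _ | k
    · rw [pow_zero, orderOf_eq_one_iff] at hk
      exact absurd (show t ∈ C by rw [hk]; exact C.one_mem) htC
    · omega
  have hcC' : (c : G) ∈ C := hcC
  have hco' : orderOf (c : G) = 3 := by rw [Subgroup.orderOf_coe, hco]
  have hfaith : ∀ a : G, ∀ l, orderOf a = 3 ^ l → Subgroup.zpowers a ⊓ Subgroup.centralizer (Q : Set G) = ⊥ := fun a l hl => by
    refine eq_bot_iff.2 fun v hv => Subgroup.mem_bot.2 (orderOf_eq_one_iff.1 ?_)
    obtain ⟨b, hb⟩ := IsPGroup.iff_card.1 hQ2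
    have h1 := Subgroup.orderOf_dvd_natCard _ hv.1
    have h2 := Subgroup.orderOf_dvd_natCard _ (hchar hv.2)
    rw [Nat.card_zpowers, hl] at h1
    rw [hb] at h2
    exact Nat.eq_one_of_dvd_coprimes (Nat.Coprime.pow l b (by decide)) h1 h2
  have ht3 : t ^ 3 = 1 := by
    by_contra h
    have hk2 : 2 ≤ k := by
      by_contra h'
      exact h (by rw [show (3 : ℕ) = orderOf t by rw [hk, show k = 1 by omega, pow_one]]; exact pow_orderOf_eq_one t)
    exact CfsgLib.PGroup.RankTwo.main t k hk2 hk Q hQ2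
      (by rw [Subgroup.normalizer_eq_top_iff.2 hQn]; trivial) (hfaith t k hk) (hout t k hk htC) fun V _ => hr V
  have hct : (c : G) * t = t * c := (congrArg Subtype.val (Subgroup.mem_center_iff.1 hcZ ⟨t, htT⟩)).symm
  have hc3 : (c : G) ^ 3 = 1 := orderOf_dvd_iff_pow_eq_one.1 hco'.dvd
  set A := Subgroup.closure ({(c : G), t} : Set G) with hA
  have hmemA : ∀ a ∈ A, ∃ i j : ℤ, a = (c : G) ^ i * t ^ j := by
    intro a ha
    induction ha using Subgroup.closure_induction with
    | mem y hy =>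
      rcases hy with rfl | rfl
      · exact ⟨1, 0, by simp⟩
      · exact ⟨0, 1, by simp⟩
    | one => exact ⟨0, 0, by simp⟩
    | mul y z _ _ hy hz =>
      obtain ⟨i, j, rfl⟩ := hy; obtain ⟨i', j', rfl⟩ := hz
      refine ⟨i + i', j + j', ?_⟩
      rw [zpow_add, zpow_add, mul_assoc, ← mul_assoc (t ^ j), ← ((show Commute (c : G) t from hct).zpow_zpow i' j).eq]
      group
    | inv y _ hy =>
      obtain ⟨i, j, rfl⟩ := hy
      refine ⟨-i, -j, ?_⟩
      rw [mul_inv_rev, zpow_neg, zpow_neg]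
      exact (((show Commute (c : G) t from hct).zpow_zpow i j).inv_inv).symm.eq
  have hAc : ∀ x ∈ A, ∀ y ∈ A, x * y = y * x := by
    intro x hx y hy
    obtain ⟨i, j, rfl⟩ := hmemA x hx; obtain ⟨i', j', rfl⟩ := hmemA y hy
    have h0 : Commute (c : G) t := hct
    exact (((Commute.refl (c : G)).zpow_zpow i i').mul_right (h0.zpow_zpow i j')).mul_left
      ((h0.symm.zpow_zpow j i').mul_right ((Commute.refl t).zpow_zpow j j'))
  have hA3 : ∀ a : A, a ^ 3 = 1 := fun a => by
    obtain ⟨i, j, ha⟩ := hmemA a a.2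
    refine Subtype.ext ?_
    push_cast
    rw [ha, ((show Commute (c : G) t from hct).zpow_zpow i j).mul_pow, ← zpow_natCast, ← zpow_natCast (t ^ j),
      zpow_comm (c : G) i, zpow_comm t j, zpow_natCast, zpow_natCast, hc3, ht3]
    simp
  have hcyc : ¬ IsCyclic A := by
    intro h
    obtain ⟨a, ha⟩ := h.exists_generator
    have hcardA : Nat.card A ≤ 3 := by
      rw [← orderOf_eq_card_of_forall_mem_zpowers ha]; exact orderOf_le_of_pow_eq_one (by norm_num) (hA3 a)
    have hle : Subgroup.zpowers (c : G) ≤ A := Subgroup.zpowers_le.2 (Subgroup.subset_closure (Or.inl rfl))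
    have heq : Subgroup.zpowers (c : G) = A := Subgroup.eq_of_le_of_card_ge hle (by rw [Nat.card_zpowers, hco']; exact hcardA)
    have htA : t ∈ Subgroup.zpowers (c : G) := heq.symm ▸ Subgroup.subset_closure (Or.inr rfl)
    exact htC ((Subgroup.zpowers_le.2 hcC') htA)
  have hA3p : IsPGroup 3 A := fun a => ⟨1, by rw [pow_one]; exact hA3 a⟩
  have hcop : (Nat.card A).Coprime (Nat.card Q) := by
    obtain ⟨a, ha⟩ := IsPGroup.iff_card.1 hA3p
    obtain ⟨b, hb⟩ := IsPGroup.iff_card.1 hQ2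
    rw [ha, hb]; exact Nat.Coprime.pow a b (by decide)
  have hAQ : A ≤ Subgroup.normalizer (Q : Set G) := by rw [Subgroup.normalizer_eq_top_iff.2 hQn]; exact le_top
  have hgen := CfsgLib.Solvable.iSup_centralizer_eq hAc hcyc hAQ hcop
  have hQc : Q ≤ Subgroup.centralizer ({(c : G)} : Set G) := by
    rw [← hgen]
    refine iSup₂_le fun a ha => ?_
    obtain ⟨i, j, rfl⟩ := hmemA a ha.1
    by_cases hj : t ^ j = 1
    · rw [hj, mul_one] at ha ⊢
      intro q hq
      have hci : (c : G) ∈ Subgroup.zpowers ((c : G) ^ i) := by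
        have heq : Subgroup.zpowers ((c : G) ^ i) = Subgroup.zpowers (c : G) := by
          refine Subgroup.eq_of_le_of_card_ge (Subgroup.zpowers_le.2 (Subgroup.zpow_mem _ (Subgroup.mem_zpowers _) i)) ?_
          rw [Nat.card_zpowers, Nat.card_zpowers, hco', orderOf_eq_prime (p := 3) (by
            rw [← zpow_natCast, ← zpow_mul, mul_comm, zpow_mul, zpow_natCast, hc3, one_zpow]) ha.2]
        exact heq.symm ▸ Subgroup.mem_zpowers _
      obtain ⟨l, hl⟩ := Subgroup.mem_zpowers_iff.1 hci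
      rw [Subgroup.mem_centralizer_singleton_iff, ← hl]
      exact ((show Commute q ((c : G) ^ i) from Subgroup.mem_centralizer_singleton_iff.1 hq.2).zpow_right l).eq
    · have haC : (c : G) ^ i * t ^ j ∉ C := fun h => by
        have h1 : t ^ j ∈ C := by
          have := C.mul_mem (C.inv_mem (C.zpow_mem hcC' i)) h
          rwa [inv_mul_cancel_left] at this
        have htj : t ∈ Subgroup.zpowers (t ^ j) := by
          have heq : Subgroup.zpowers (t ^ j) = Subgroup.zpowers t := by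
            refine Subgroup.eq_of_le_of_card_ge (Subgroup.zpowers_le.2 (Subgroup.zpow_mem _ (Subgroup.mem_zpowers _) j)) ?_
            rw [Nat.card_zpowers, Nat.card_zpowers, orderOf_eq_prime (p := 3) (by
              rw [← zpow_natCast, ← zpow_mul, mul_comm, zpow_mul, zpow_natCast, ht3, one_zpow]) hj]
            exact orderOf_le_of_pow_eq_one (by norm_num) ht3
          exact heq.symm ▸ Subgroup.mem_zpowers _
        exact htC (Subgroup.zpowers_le.2 h1 htj)
      obtain ⟨l, hl⟩ := IsPGroup.iff_orderOf.1 hA3p ⟨_, ha.1⟩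
      rw [Subgroup.orderOf_mk] at hl
      rw [hout _ l hl haC]; exact bot_le
  have hcQ : (c : G) ∈ Subgroup.centralizer (Q : Set G) :=
    Subgroup.mem_centralizer_iff.2 fun q hq => Subgroup.mem_centralizer_singleton_iff.1 (hQc hq)
  have h1 : (c : G) ∈ (⊥ : Subgroup G) := hfaith (c : G) 1 (by rw [hco', pow_one]) ▸ ⟨Subgroup.mem_zpowers _, hcQ⟩
  rw [Subgroup.mem_bot] at h1
  rw [h1, orderOf_one] at hco'; omega

end Cfsg.Agent.S3739
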