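import Cfsg.Statements.S3740
import Cfsg.Agent.Lib.Classical.SL2OddSylow
import Cfsg.Agent.Lib.Classical.SL2Quat
import Cfsg.Agent.Lib.Classical.SL2Small
import Cfsg.Agent.Lib.Solvable.CoprimeAction

set_option autoImplicit false
open Cfsg

namespace Cfsg.Agent.S3740

open Matrix CfsgLib.Classical CfsgLib.Fusion.PSL2
open scoped MatrixGroups

variable {F : Type} [Field F] [Fintype F] {p : ℕ} [hpp : Fact p.Prime] [CharP F p]

theorem two_ne (hp : p ≠ 2) : (2 : F) ≠ 0 := by
  intro h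
  have : ((2 : ℕ) : F) = 0 := by exact_mod_cast h
  exact hp ((Nat.prime_dvd_prime_iff_eq hpp.out Nat.prime_two).1 ((CharP.cast_eq_zero_iff F p 2).1 this))

theorem unip_data {a : SL(2, F)} (ha : IsPGroup p (Subgroup.zpowers a)) :
    (a.1 0 0 - 1) + (a.1 1 1 - 1) = 0 ∧ (a.1 - 1) * (a.1 - 1) = 0 ∧ (a.1 - 1).det = 0 := by
  obtain ⟨k, hk⟩ := ha ⟨a, Subgroup.mem_zpowers a⟩
  have hk' : a.1 ^ p ^ k = 1 := by
    have := congrArg (fun g : Subgroup.zpowers a => (g : SL(2, F)).1) hk
    simpa using this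
  have hn : IsNilpotent (a.1 - 1) := ⟨p ^ k, by
    rw [sub_pow_char_pow_of_commute p k (Commute.one_right _), hk', one_pow, sub_self]⟩
  have htr : (a.1 - 1).trace = 0 := (Matrix.isNilpotent_trace_of_isNilpotent hn).eq_zero
  have hdet : (a.1 - 1).det = 0 := by
    obtain ⟨m, hm⟩ := hn
    have := congrArg Matrix.det hm
    rw [det_pow, det_zero] at this
    exact eq_zero_of_pow_eq_zero this
  rw [trace_fin_two] at htr
  refine ⟨by simpa using htr, ?_, hdet⟩
  rw [det_fin_two] at hdet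
  generalize a.1 - 1 = N at htr hdet ⊢
  ext i j
  fin_cases i <;> fin_cases j <;> simp [Matrix.mul_apply, Fin.sum_univ_two]
  · linear_combination N 0 0 * htr - hdet
  · linear_combination N 0 1 * htr
  · linear_combination N 1 0 * htr
  · linear_combination N 1 1 * htr - hdet

theorem orderOf_unip {a : SL(2, F)} (ha : IsPGroup p (Subgroup.zpowers a)) (h1 : a ≠ 1) : orderOf a = p := by
  obtain ⟨-, hN, -⟩ := unip_data ha
  refine orderOf_eq_prime (Subtype.ext ?_) h1
  have h2 : (a.1 - 1) ^ p = 0 := by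
    rw [← Nat.sub_add_cancel hpp.out.two_le, pow_add, sq, hN, mul_zero]
  rw [sub_pow_char_of_commute p (Commute.one_right _), one_pow, sub_eq_zero] at h2
  simpa using h2

theorem nonscalar_of_ne (hp : p ≠ 2) {g : SL(2, F)} (h1 : g ≠ 1) (h2 : g ≠ negOne) :
    ¬ (g.1 0 1 = 0 ∧ g.1 1 0 = 0 ∧ g.1 0 0 = g.1 1 1) := by
  rintro ⟨h01, h10, hd⟩
  have hdet : g.1.det = 1 := g.2
  rw [det_fin_two, h01, h10, ← hd] at hdet
  have : g.1 0 0 = 1 ∨ g.1 0 0 = -1 := mul_self_eq_one_iff.1 (by linear_combination hdet)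
  rcases this with h | h
  · refine h1 (Subtype.ext ?_)
    ext i j
    fin_cases i <;> fin_cases j <;> simp [h01, h10, h, ← hd]
  · refine h2 (Subtype.ext ?_)
    rw [SL2Q.negOne_coe]
    ext i j
    fin_cases i <;> fin_cases j <;> simp [h01, h10, h, ← hd]

theorem mem_zpowers_pow_p {g : SL(2, F)} (hg : (orderOf g).Coprime p) : g ∈ Subgroup.zpowers (g ^ p) :=
  mem_zpowers_pow_iff.2 hg.symm

theorem pm_of_pow_pm (hp : p ≠ 2) {g : SL(2, F)} (hg : (orderOf g).Coprime p)
    (h : g ^ p = 1 ∨ g ^ p = negOne) : g = 1 ∨ g = negOne := by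
  obtain ⟨i, hi⟩ := mem_zpowers_pow_p hg
  rw [← hi]
  rcases h with h | h <;> simp only [h]
  · exact Or.inl (_root_.one_zpow i)
  · rcases Int.even_or_odd i with ⟨j, rfl⟩ | ⟨j, rfl⟩
    · refine Or.inl ?_
      rw [← two_mul, _root_.zpow_mul, _root_.zpow_ofNat, sq, SL2Q.negOne_sq, _root_.one_zpow]
    · refine Or.inr ?_
      rw [_root_.zpow_add, _root_.zpow_mul, _root_.zpow_ofNat, sq, SL2Q.negOne_sq, _root_.one_zpow, one_mul, zpow_one]

theorem centralizes_pm (hp : p ≠ 2) {a : SL(2, F)} (ha : IsPGroup p (Subgroup.zpowers a)) (h1 : a ≠ 1)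
    {g : SL(2, F)} (hg : (orderOf g).Coprime p) (hc : g * a = a * g) : g = 1 ∨ g = negOne := by
  obtain ⟨htr, hN, hdN⟩ := unip_data ha
  have hne : a ≠ negOne := by
    intro h
    rw [h, SL2Q.negOne_coe] at htr
    simp at htr
    exact two_ne (F := F) hp ((mul_self_eq_zero).1 (show (2 : F) * 2 = 0 by linear_combination -htr))
  obtain ⟨α, β, hαβ⟩ := exists_comb_of_commute (nonscalar_of_ne hp h1 hne) (congrArg Subtype.val hc)
  have hgN : g.1 = (α + β) • (1 : Matrix (Fin 2) (Fin 2) F) + β • (a.1 - 1) := by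
    rw [hαβ]; module
  have hdet : (α + β) * (α + β) = 1 := by
    have h3 : g.1.det = 1 := g.2
    rw [hgN] at h3
    have htr' : (a.1 - 1) 0 0 + (a.1 - 1) 1 1 = 0 := by simpa using htr
    rw [det_fin_two] at hdN
    generalize a.1 - 1 = N at hdN htr' h3
    rw [det_fin_two] at h3
    simp at h3
    linear_combination h3 - (α + β) * β * htr' - β ^ 2 * hdN
  refine pm_of_pow_pm hp hg ?_
  have hpow : (g ^ p).1 = (α + β) ^ p • (1 : Matrix (Fin 2) (Fin 2) F) := by
    show g.1 ^ p = _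
    rw [hgN, add_pow_char_of_commute p ((Commute.one_left _).smul_left _ |>.smul_right _), smul_pow, smul_pow, one_pow,
      ← Nat.sub_add_cancel hpp.out.two_le, pow_add (a.1 - 1), sq (a.1 - 1), hN, mul_zero, smul_zero, add_zero]
  rcases mul_self_eq_one_iff.1 hdet with h | h
  · left; refine Subtype.ext ?_
    rw [hpow, h, one_pow, one_smul]; rfl
  · right; refine Subtype.ext ?_
    rw [hpow, h, (hpp.out.odd_of_ne_two hp).neg_one_pow, SL2Q.negOne_coe, neg_one_smul]

theorem centralizes_of_commute_conj (hp : p ≠ 2) {a x : SL(2, F)} (ha : IsPGroup p (Subgroup.zpowers a)) (h1 : a ≠ 1)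
    (hx : (orderOf x).Coprime p) (hc : a * x * a⁻¹ * x = x * (a * x * a⁻¹)) : a * x = x * a := by
  by_cases hx1 : x = 1
  · simp [hx1]
  by_cases hx2 : x = negOne
  · rw [hx2, SL2Q.negOne_comm]
  have hns := nonscalar_of_ne hp hx1 hx2
  obtain ⟨α, β, hαβ⟩ := exists_comb_of_commute hns (congrArg Subtype.val hc)
  have hdy : (a * x * a⁻¹).1.det = 1 := (a * x * a⁻¹).2
  have hdx : x.1.det = 1 := x.2
  have hty : (a * x * a⁻¹).1.trace = x.1.trace := by
    rw [Matrix.SpecialLinearGroup.coe_mul, Matrix.trace_mul_comm, ← Matrix.SpecialLinearGroup.coe_mul,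
      ← mul_assoc, inv_mul_cancel, one_mul]
  rw [hαβ] at hdy hty
  rw [trace_fin_two, trace_fin_two] at hty
  rw [det_fin_two] at hdy hdx
  simp at hdy hty
  have key : (β ^ 2 - 1) * (4 - (x.1 0 0 + x.1 1 1) ^ 2) = 0 := by
    linear_combination 4 * hdy - 4 * β ^ 2 * hdx -
      (2 * α + (x.1 0 0 + x.1 1 1) * (1 + β)) * hty
  have hne4 : 4 - (x.1 0 0 + x.1 1 1) ^ 2 ≠ 0 := by
    intro h
    obtain ⟨ε, hε, ht⟩ : ∃ ε : F, ε * ε = 1 ∧ x.1 0 0 + x.1 1 1 = 2 * ε := by
      have : (x.1 0 0 + x.1 1 1) * (x.1 0 0 + x.1 1 1) = 2 * 2 := by linear_combination -h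
      rcases mul_self_eq_mul_self_iff.1 this with h2 | h2
      · exact ⟨1, one_mul 1, by rw [h2, mul_one]⟩
      · exact ⟨-1, by ring, by rw [h2]; ring⟩
    have hM : (x.1 - ε • 1) * (x.1 - ε • 1) = 0 := by
      ext i j
      fin_cases i <;> fin_cases j <;> simp [Matrix.mul_apply, Fin.sum_univ_two]
      · linear_combination hε - hdx + x.1 0 0 * ht
      · linear_combination x.1 0 1 * ht
      · linear_combination x.1 1 0 * ht
      · linear_combination hε - hdx + x.1 1 1 * ht
    have hcom : Commute x.1 (ε • (1 : Matrix (Fin 2) (Fin 2) F)) := (Commute.one_right _).smul_right _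
    have h3 : (x.1 - ε • 1) ^ p = 0 := by
      rw [← Nat.sub_add_cancel hpp.out.two_le, pow_add, sq (x.1 - ε • 1), hM, mul_zero]
    rw [sub_pow_char_of_commute p hcom, smul_pow, one_pow, sub_eq_zero] at h3
    have hεp : ε ^ p = 1 ∨ ε ^ p = -1 := by
      rcases mul_self_eq_one_iff.1 hε with h4 | h4
      · left; rw [h4, one_pow]
      · right; rw [h4, (hpp.out.odd_of_ne_two hp).neg_one_pow]
    have := pm_of_pow_pm hp hx (hεp.imp (fun h4 => Subtype.ext (by
      show x.1 ^ p = 1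
      rw [h3, h4, one_smul])) (fun h4 => Subtype.ext (by
      show x.1 ^ p = _
      rw [h3, h4, SL2Q.negOne_coe, neg_one_smul])))
    exact this.elim hx1 hx2
  rcases mul_self_eq_one_iff.1 (show β * β = 1 by linear_combination (mul_eq_zero.1 key).resolve_right hne4) with hβ | hβ
  · have hα : α = 0 := by
      have : (2 : F) * α = 0 := by rw [hβ] at hty; linear_combination hty
      exact (mul_eq_zero.1 this).resolve_left (two_ne hp)
    have : a * x * a⁻¹ = x := Subtype.ext (by rw [hαβ, hα, hβ, zero_smul, one_smul, zero_add])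
    exact mul_inv_eq_iff_eq_mul.1 this
  · have hα : α = x.1 0 0 + x.1 1 1 := by
      have : (2 : F) * (α - (x.1 0 0 + x.1 1 1)) = 0 := by rw [hβ] at hty; linear_combination hty
      exact sub_eq_zero.1 ((mul_eq_zero.1 this).resolve_left (two_ne hp))
    have hinv : a * x * a⁻¹ = x⁻¹ := Subtype.ext (by
      rw [hαβ, Matrix.SpecialLinearGroup.coe_inv, Matrix.adjugate_fin_two, hα, hβ]
      ext i j
      fin_cases i <;> fin_cases j <;> simp)
    have h2 : a ^ 2 * x * (a ^ 2)⁻¹ = x := by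
      rw [sq, show a * a * x * (a * a)⁻¹ = a * (a * x * a⁻¹) * a⁻¹ by group, hinv,
        show a * x⁻¹ * a⁻¹ = (a * x * a⁻¹)⁻¹ by group, hinv, inv_inv]
    have h3 : a ∈ Subgroup.zpowers (a ^ 2) := by
      rw [mem_zpowers_pow_iff, orderOf_unip ha h1]
      exact Nat.Coprime.symm ((Nat.coprime_primes hpp.out Nat.prime_two).2 hp)
    obtain ⟨i, hi⟩ := h3
    have h4 : Commute (a ^ 2) x := mul_inv_eq_iff_eq_mul.1 h2
    rw [← hi]
    exact (h4.zpow_left i).eq

/-- Let F be a finite field of odd characteristic p and let a be a p-element of SL₂(F) normalizing a subgroup R of order prime to p with [R, a] ≠ 1. Then p = 3, R is a quaternion group of order 8, and R⟨a⟩ is isomorphic to SL₂(3). -/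
theorem result (F : Type) [Field F] [Fintype F] {p : ℕ} [Fact p.Prime] [CharP F p] (hp : p ≠ 2) (a : Matrix.SpecialLinearGroup (Fin 2) F) (ha : IsPGroup p ↥(Subgroup.zpowers a)) (R : Subgroup (Matrix.SpecialLinearGroup (Fin 2) F)) (hR : (Nat.card R).Coprime p) (haR : a ∈ Subgroup.normalizer (R : Set (Matrix.SpecialLinearGroup (Fin 2) F))) (hnt : ⁅R, Subgroup.zpowers a⁆ ≠ ⊥) : p = 3 ∧ Nonempty (↥R ≃* QuaternionGroup 2) ∧ Nonempty (↥(R ⊔ Subgroup.zpowers a) ≃* Matrix.SpecialLinearGroup (Fin 2) (ZMod 3)) := by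
  classical
  have h2 : (2 : F) ≠ 0 := two_ne hp
  have hpr : p.Prime := Fact.out
  have ha1 : a ≠ 1 := by
    rintro rfl
    rw [Subgroup.zpowers_one_eq_bot] at hnt
    exact hnt (by rw [Subgroup.commutator_comm, Subgroup.commutator_bot_left])
  have hao : orderOf a = p := orderOf_unip ha ha1
  have hxcop : ∀ x ∈ R, (orderOf x).Coprime p := fun x hx =>
    Nat.Coprime.coprime_dvd_left (Subgroup.orderOf_dvd_natCard _ hx) hR
  have hconj : ∀ x ∈ R, a * x * a⁻¹ ∈ R := fun x hx => (Subgroup.mem_normalizer_iff.1 haR x).1 hx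
  have hpm : ∀ x ∈ R, a * x = x * a → x = 1 ∨ x = negOne := fun x hx hc =>
    centralizes_pm hp ha ha1 (hxcop x hx) hc.symm
  have hne : (negOne : SL(2, F)) ≠ 1 := negOne_ne_one h2
  have hno : orderOf (negOne : SL(2, F)) = 2 := orderOf_eq_prime (by rw [sq, SL2Q.negOne_sq]) hne
  -- abelian invariant subgroups are `{1, -1}`
  have habel : ∀ A : Subgroup SL(2, F), A ≤ R → (∀ x ∈ A, a * x * a⁻¹ ∈ A) →
      (∀ x ∈ A, ∀ y ∈ A, x * y = y * x) → ∀ x ∈ A, x = 1 ∨ x = negOne := fun A hA hAi hAc x hx =>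
    hpm x (hA hx) (centralizes_of_commute_conj hp ha ha1 (hxcop x (hA hx)) (hAc _ (hAi x hx) _ hx))
  have hR2 : IsPGroup 2 R := by
    refine IsPGroup.of_card (n := (Nat.card R).primeFactorsList.length) (Nat.eq_prime_pow_of_unique_prime_dvd Nat.card_pos.ne' fun {r} hr hrd => ?_)
    by_contra hr2
    haveI := Fact.mk hr
    have hA : Subgroup.zpowers a ≤ Subgroup.normalizer (R : Set SL(2, F)) := Subgroup.zpowers_le.2 haR
    obtain ⟨S, hS⟩ := CfsgLib.Solvable.exists_invariant_sylow (Subgroup.zpowers a) R hA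
      (by rw [Nat.card_zpowers, hao]; exact hR.symm) (Or.inl (by infer_instance)) r
    haveI : Nontrivial (S : Subgroup R) := by
      refine Finite.one_lt_card_iff_nontrivial.1 ?_
      rw [S.card_eq_multiplicity]
      exact Nat.one_lt_pow (hr.factorization_pos_of_dvd Nat.card_pos.ne' hrd).ne' hr.one_lt
    haveI := S.2.center_nontrivial
    obtain ⟨n, hn0, hn⟩ := (S.2.to_subgroup (Subgroup.center (S : Subgroup R))).nontrivial_iff_card.1 inferInstance
    obtain ⟨z, hz⟩ := exists_prime_orderOf_dvd_card' (G := Subgroup.center (S : Subgroup R)) r (hn ▸ dvd_pow_self r hn0.ne')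
    let S' : Subgroup SL(2, F) := (S : Subgroup R).map R.subtype
    let A : Subgroup SL(2, F) := S' ⊓ Subgroup.centralizer (S' : Set SL(2, F))
    have hSn : ∀ x ∈ S', a * x * a⁻¹ ∈ S' := fun x hx => (Subgroup.mem_normalizer_iff.1 (hS (Subgroup.mem_zpowers a)) x).1 hx
    have hSn' : ∀ x ∈ S', a⁻¹ * x * a ∈ S' := fun x hx => by
      have h6 := (Subgroup.mem_normalizer_iff.1 (hS (Subgroup.inv_mem _ (Subgroup.mem_zpowers a))) x).1 hx
      rwa [inv_inv] at h6
    have hzA : ((((z : (S : Subgroup R)) : R) : SL(2, F))) ∈ A :=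
      ⟨⟨_, (z : (S : Subgroup R)).2, rfl⟩, Subgroup.mem_centralizer_iff.2 (by
        rintro _ ⟨y, hy, rfl⟩
        exact congrArg (fun w : (S : Subgroup R) => ((w : R) : SL(2, F))) (Subgroup.mem_center_iff.1 z.2 ⟨y, hy⟩))⟩
    have h3 := habel A (inf_le_left.trans (Subgroup.map_subtype_le _)) (fun x hx => ⟨hSn x hx.1, Subgroup.mem_centralizer_iff.2 fun y hy => by
      have h4 := Subgroup.mem_centralizer_iff.1 hx.2 _ (hSn' y hy)
      have h5 := congrArg (fun w => a * w * a⁻¹) h4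
      simpa [mul_assoc] using h5⟩) (fun x hx y hy => Subgroup.mem_centralizer_iff.1 hy.2 x hx.1) _ hzA
    have h4 : orderOf (((z : (S : Subgroup R)) : R) : SL(2, F)) = r := by
      rw [Subgroup.orderOf_coe, Subgroup.orderOf_coe, Subgroup.orderOf_coe, hz]
    rcases h3 with h3 | h3 <;> rw [h3] at h4
    · rw [orderOf_one] at h4; exact hr.one_lt.ne h4
    · rw [hno] at h4; exact hr2 h4.symm
  have hnab : ¬ ∀ x ∈ R, ∀ y ∈ R, x * y = y * x := by
    intro hc
    apply hnt
    rw [eq_bot_iff, Subgroup.commutator_le]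
    intro x hx w hw
    obtain ⟨i, rfl⟩ := hw
    rw [Subgroup.mem_bot, commutatorElement_eq_one_iff_mul_comm]
    rcases habel R le_rfl hconj hc x hx with rfl | rfl
    · rw [one_mul, mul_one]
    · exact SL2Q.negOne_comm _
  haveI : Fact (Nat.Prime 2) := ⟨Nat.prime_two⟩
  have hu : ∀ x y : R, orderOf x = 2 → orderOf y = 2 → x ∈ Subgroup.zpowers y := by
    intro x y hx hy
    have key : ∀ z : R, orderOf z = 2 → (z : SL(2, F)) = negOne := fun z hz => by
      obtain ⟨hz2, hz1⟩ := orderOf_eq_prime_iff.1 hz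
      exact (SL2Q.eq_of_mul_self h2 (congrArg Subtype.val ((pow_two z).symm.trans hz2))).resolve_left fun h => hz1 (Subtype.ext h)
    rw [show x = y from Subtype.ext ((key x hx).trans (key y hy).symm)]
    exact Subgroup.mem_zpowers y
  obtain ⟨k, ⟨e⟩⟩ : ∃ k : ℕ, Nonempty (R ≃* QuaternionGroup (2 ^ k)) := by
    rcases CfsgLib.Solvable.isCyclic_or_quaternion hR2 hu with hc | ⟨-, h⟩
    · exact absurd (fun x hx y hy => congrArg Subtype.val (hc.isMulCommutative.is_comm.comm (⟨x, hx⟩ : R) ⟨y, hy⟩)) hnab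
    · exact h
  let σ : R ≃* R :=
    { toFun := fun x => ⟨a * x * a⁻¹, hconj x x.2⟩
      invFun := fun x => ⟨a⁻¹ * x * a, by
        simpa using (Subgroup.mem_normalizer_iff.1 (Subgroup.inv_mem _ haR) (x : SL(2, F))).1 x.2⟩
      left_inv := fun x => Subtype.ext (show a⁻¹ * (a * (x : SL(2, F)) * a⁻¹) * a = x by group)
      right_inv := fun x => Subtype.ext (show a * (a⁻¹ * (x : SL(2, F)) * a) * a⁻¹ = x by group)
      map_mul' := fun x y => Subtype.ext (show a * ((x : SL(2, F)) * y) * a⁻¹ = a * x * a⁻¹ * (a * y * a⁻¹) by group) }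
  have hk1 : k = 1 := by
    rcases Nat.lt_trichotomy k 1 with h0 | h1 | h1
    · obtain rfl : k = 0 := by omega
      refine absurd (fun x hx y hy => ?_) hnab
      have := (show ∀ u v : QuaternionGroup (2 ^ 0), u * v = v * u by decide) (e ⟨x, hx⟩) (e ⟨y, hy⟩)
      rw [← map_mul, ← map_mul] at this
      exact congrArg Subtype.val (e.injective this)
    · exact h1
    exfalso
    set g : R := e.symm (QuaternionGroup.a 1) with hg
    have h4 : 4 ≤ 2 ^ k := by
      calc 4 = 2 ^ 2 := rfl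
        _ ≤ 2 ^ k := Nat.pow_le_pow_right (by norm_num) h1
    haveI : NeZero (2 ^ k) := ⟨by positivity⟩
    have hgo : orderOf g = 2 * 2 ^ k := by rw [hg, e.symm.orderOf_eq, QuaternionGroup.orderOf_a_one]
    have hmem : σ g ∈ Subgroup.zpowers g := by
      have ho : orderOf (e (σ g)) = 2 * 2 ^ k := by rw [e.orderOf_eq, σ.orderOf_eq, hgo]
      cases heq : e (σ g) with
      | a i =>
        refine ⟨(i.val : ℤ), ?_⟩
        apply e.injective
        show e (g ^ (i.val : ℤ)) = e (σ g)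
        rw [zpow_natCast, map_pow, hg, e.apply_symm_apply, heq, QuaternionGroup.a_one_pow, ZMod.natCast_zmod_val]
      | xa i =>
        rw [heq, QuaternionGroup.orderOf_xa] at ho
        omega
    have hinv : ∀ x ∈ (Subgroup.zpowers g).map R.subtype, a * x * a⁻¹ ∈ (Subgroup.zpowers g).map R.subtype := by
      rintro _ ⟨x, ⟨i, rfl⟩, rfl⟩
      exact ⟨σ (g ^ i), by rw [map_zpow]; exact Subgroup.zpow_mem _ hmem i, rfl⟩
    have hgpm := habel _ (Subgroup.map_subtype_le _) hinv (by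
      rintro _ ⟨x, ⟨i, rfl⟩, rfl⟩ _ ⟨y, ⟨j, rfl⟩, rfl⟩
      exact congrArg Subtype.val ((Commute.refl g).zpow_zpow i j).eq) (g : SL(2, F)) ⟨g, Subgroup.mem_zpowers g, rfl⟩
    rw [← Subgroup.orderOf_coe] at hgo
    rcases hgpm with h | h <;> rw [h] at hgo
    · rw [orderOf_one] at hgo; omega
    · rw [hno] at hgo; omega
  subst hk1
  rw [pow_one] at e
  have hR8 : Nat.card R = 8 := by
    rw [Nat.card_congr e.toEquiv, Nat.card_eq_fintype_card, QuaternionGroup.card]
  -- the fixed points of `σ`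
  have hnR : negOne ∈ R := by
    obtain ⟨z, hz⟩ := exists_prime_orderOf_dvd_card' (G := R) 2 (by rw [hR8]; norm_num)
    obtain ⟨hz2, hz1⟩ := orderOf_eq_prime_iff.1 hz
    rw [← (SL2Q.eq_of_mul_self h2 (congrArg Subtype.val ((pow_two z).symm.trans hz2))).resolve_left fun h => hz1 (Subtype.ext h)]
    exact z.2
  have hp3 : p = 3 := by
    have hPσ : IsPGroup p (Subgroup.zpowers a) := ha
    letI : MulAction (Subgroup.zpowers a) R :=
      { smul := fun g x => ⟨(g : SL(2, F)) * x * (g : SL(2, F))⁻¹,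
          (Subgroup.mem_normalizer_iff.1 ((Subgroup.zpowers_le.2 haR) g.2) x).1 x.2⟩
        one_smul := fun x => Subtype.ext (show (1 : SL(2, F)) * x * (1 : SL(2, F))⁻¹ = x by group)
        mul_smul := fun g g' x => Subtype.ext (show ((g : SL(2, F)) * g') * x * ((g : SL(2, F)) * g')⁻¹ = g * (g' * x * (g' : SL(2, F))⁻¹) * (g : SL(2, F))⁻¹ by group) }
    have hmod := hPσ.card_modEq_card_fixedPoints R
    have hfix : MulAction.fixedPoints (Subgroup.zpowers a) R = {1, ⟨negOne, hnR⟩} := by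
      ext x
      constructor
      · intro hx
        have h3 : a * (x : SL(2, F)) * a⁻¹ = x := congrArg Subtype.val (hx ⟨a, Subgroup.mem_zpowers a⟩)
        rcases hpm x x.2 (mul_inv_eq_iff_eq_mul.1 h3) with h4 | h4
        · exact Or.inl (Subtype.ext h4)
        · exact Or.inr (Subtype.ext h4)
      · rintro (rfl | rfl) g
        · exact Subtype.ext (show (g : SL(2, F)) * 1 * (g : SL(2, F))⁻¹ = 1 by group)
        · exact Subtype.ext (show (g : SL(2, F)) * negOne * (g : SL(2, F))⁻¹ = negOne by rw [← SL2Q.negOne_comm, mul_inv_cancel_right])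
    rw [hfix, hR8, Nat.card_coe_set_eq, Set.ncard_pair (fun h => hne (congrArg Subtype.val h).symm)] at hmod
    have h6 : p ∣ 6 := (Nat.modEq_iff_dvd' (by norm_num)).1 hmod.symm
    rcases hpr.dvd_mul.1 (show p ∣ 2 * 3 from h6) with h | h
    · exact absurd ((Nat.prime_dvd_prime_iff_eq hpr Nat.prime_two).1 h) hp
    · exact (Nat.prime_dvd_prime_iff_eq hpr Nat.prime_three).1 h
  refine ⟨hp3, ⟨e⟩, ?_⟩
  subst hp3
  -- a basis in which `R ⊔ ⟨a⟩` has entries in `ZMod 3`
  obtain ⟨htr, hN, hdN⟩ := unip_data ha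
  obtain ⟨v, hv⟩ : ∃ v : Fin 2 → F, (a.1 - 1).mulVec v ≠ 0 := by
    by_contra h
    push Not at h
    apply ha1
    refine Subtype.ext (sub_eq_zero.1 ?_)
    exact Matrix.mulVec_injective (funext fun v => (h v).trans (Matrix.zero_mulVec v).symm)
  set e1 := (a.1 - 1).mulVec v with he1
  have hae1 : a.1.mulVec e1 = e1 := by
    have : (a.1 - 1).mulVec e1 = 0 := by rw [he1, Matrix.mulVec_mulVec, hN, Matrix.zero_mulVec]
    rwa [Matrix.sub_mulVec, Matrix.one_mulVec, sub_eq_zero] at this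
  set i : R := e.symm (QuaternionGroup.a 1) with hidef
  have hi4 : orderOf (i : SL(2, F)) = 4 := by
    rw [Subgroup.orderOf_coe, hidef, e.symm.orderOf_eq, QuaternionGroup.orderOf_a_one]
  have hsq4 : ∀ x : SL(2, F), orderOf x = 4 → x * x = negOne := fun x hx => by
    have h4 : x ^ 4 = 1 := hx ▸ pow_orderOf_eq_one x
    refine (SL2Q.eq_of_mul_self h2 (by rw [← h4, ← sq, ← sq, ← pow_mul])).resolve_left fun h => ?_
    rw [← sq] at h
    have := Nat.le_of_dvd (by norm_num) (hx ▸ orderOf_dvd_of_pow_eq_one h)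
    norm_num at this
  have hii := hsq4 _ hi4
  let j : R := σ i
  have hj4 : orderOf (j : SL(2, F)) = 4 := by rw [Subgroup.orderOf_coe, σ.orderOf_eq, ← Subgroup.orderOf_coe, hi4]
  have hij : ¬ Commute (i : SL(2, F)) (j : SL(2, F)) := by
    intro hc
    have h5 := centralizes_of_commute_conj hp ha ha1 (hxcop _ i.2) hc.symm.eq
    rcases hpm _ i.2 h5 with h6 | h6 <;> rw [h6] at hi4
    · rw [orderOf_one] at hi4; norm_num at hi4
    · rw [hno] at hi4; norm_num at hi4
  have hR' : Subgroup.zpowers (i : SL(2, F)) ⊔ Subgroup.zpowers (j : SL(2, F)) = R := by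
    have hle : Subgroup.zpowers (i : SL(2, F)) ⊔ Subgroup.zpowers (j : SL(2, F)) ≤ R :=
      sup_le (Subgroup.zpowers_le.2 i.2) (Subgroup.zpowers_le.2 j.2)
    refine Subgroup.eq_of_le_of_card_ge hle ?_
    obtain ⟨m, hm⟩ := IsPGroup.iff_card.1 (hR2.to_le hle)
    have hlt : Nat.card (Subgroup.zpowers (i : SL(2, F))) < Nat.card ↥(Subgroup.zpowers (i : SL(2, F)) ⊔ Subgroup.zpowers (j : SL(2, F))) := by
      refine lt_of_le_of_ne (Subgroup.card_le_of_le le_sup_left) fun h => hij ?_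
      have h7 := Subgroup.eq_of_le_of_card_ge le_sup_left h.ge
      obtain ⟨m, hm⟩ := h7.ge (Subgroup.mem_sup_right (Subgroup.mem_zpowers (j : SL(2, F))))
      rw [← hm]
      exact Commute.zpow_self _ m |>.symm
    rw [Nat.card_zpowers, hi4, hm, show 4 = 2 ^ 2 from rfl] at hlt
    have h8 := (Nat.pow_lt_pow_iff_right (by norm_num : 1 < 2)).1 hlt
    rw [hm, hR8]
    exact (show 8 = 2 ^ 3 from rfl) ▸ Nat.pow_le_pow_right (by norm_num) h8
  set e2 := (i : SL(2, F)).1.mulVec e1 with he2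
  have hneg : ∀ x : SL(2, F), x * x = negOne → x.1.mulVec (x.1.mulVec e1) = -e1 := fun x hx => by
    rw [Matrix.mulVec_mulVec, ← Matrix.SpecialLinearGroup.coe_mul, hx, SL2Q.negOne_coe, Matrix.neg_mulVec, Matrix.one_mulVec]
  have hind : ∀ c : F, e2 ≠ c • e1 := by
    intro c hc
    have hje : (j : SL(2, F)).1.mulVec e1 = c • e1 := by
      have ha' : (a⁻¹).1.mulVec e1 = e1 := by
        conv_lhs => rw [← hae1]
        rw [Matrix.mulVec_mulVec, ← Matrix.SpecialLinearGroup.coe_mul, inv_mul_cancel, Matrix.SpecialLinearGroup.coe_one, Matrix.one_mulVec]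
      show (a * (i : SL(2, F)) * a⁻¹).1.mulVec e1 = _
      rw [Matrix.SpecialLinearGroup.coe_mul, Matrix.SpecialLinearGroup.coe_mul, ← Matrix.mulVec_mulVec, ha',
        ← Matrix.mulVec_mulVec, show (i : SL(2, F)).1.mulVec e1 = c • e1 from hc, Matrix.mulVec_smul, hae1]
    have hc2 : c * c = -1 := by
      have h9 := hneg _ hii
      rw [show (i : SL(2, F)).1.mulVec e1 = c • e1 from hc, Matrix.mulVec_smul,
        show (i : SL(2, F)).1.mulVec e1 = c • e1 from hc, smul_smul, ← neg_one_smul F e1] at h9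
      exact smul_left_injective F hv h9
    have hw : (i * j : R) ≠ 1 ∧ ((i * j : R) : SL(2, F)) ≠ negOne := by
      refine ⟨fun h => hij ?_, fun h => hij ?_⟩
      · rw [eq_inv_of_mul_eq_one_right h, Subgroup.coe_inv]
        exact (Commute.refl _).inv_right
      · have : (j : SL(2, F)) = (i : SL(2, F))⁻¹ * negOne := eq_inv_mul_of_mul_eq h
        rw [this]
        exact ((Commute.refl _).inv_right).mul_right (SL2Q.negOne_comm _).symm
    have hw4 : orderOf ((i * j : R) : SL(2, F)) = 4 := by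
      have h10 : orderOf (i * j : R) ∣ 4 := by
        rw [← e.orderOf_eq]
        exact orderOf_dvd_of_pow_eq_one ((show ∀ u : QuaternionGroup 2, u ^ 4 = 1 by decide) _)
      rw [Subgroup.orderOf_coe]
      rcases (Nat.dvd_prime_pow Nat.prime_two).1 (show orderOf (i * j : R) ∣ 2 ^ 2 from h10) with ⟨m, hm, hmo⟩
      rw [hmo]
      interval_cases m
      · exact absurd (orderOf_eq_one_iff.1 hmo) hw.1
      · obtain ⟨h11, -⟩ := orderOf_eq_prime_iff.1 hmo
        exact absurd ((SL2Q.eq_of_mul_self h2 (congrArg Subtype.val ((pow_two _).symm.trans h11))).resolve_left fun h => hw.1 (Subtype.ext h)) hw.2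
      · rfl
    have h12 := hneg _ (hsq4 _ hw4)
    have hij' : ((i * j : R) : SL(2, F)).1.mulVec e1 = (c * c) • e1 := by
      show ((i : SL(2, F)) * (j : SL(2, F))).1.mulVec e1 = _
      rw [Matrix.SpecialLinearGroup.coe_mul, ← Matrix.mulVec_mulVec, hje, Matrix.mulVec_smul,
        show (i : SL(2, F)).1.mulVec e1 = c • e1 from hc, smul_smul]
    rw [hij', Matrix.mulVec_smul, hij', smul_smul, hc2, neg_one_mul, neg_neg, one_smul] at h12
    have h13 : (2 : F) • e1 = 0 := by rw [two_smul]; exact eq_neg_iff_add_eq_zero.1 h12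
    exact hv ((smul_eq_zero.1 h13).resolve_left h2)
  let M : Matrix (Fin 2) (Fin 2) F := !![e1 0, e2 0; e1 1, e2 1]
  have hM : M.det ≠ 0 := by
    intro h
    rw [Matrix.det_fin_two_of] at h
    by_cases h0 : e1 0 = 0
    · have h1 : e1 1 ≠ 0 := fun h1 => hv (funext fun k => by fin_cases k; exacts [h0, h1])
      refine hind (e2 1 / e1 1) (funext fun k => ?_)
      fin_cases k
      · simp [h0] at h ⊢
        rcases h with h | h
        · exact h
        · exact absurd h h1
      · simp [h1]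
    · refine hind (e2 0 / e1 0) (funext fun k => ?_)
      fin_cases k
      · simp [h0]
      · simp only [Pi.smul_apply, smul_eq_mul, Fin.mk_one]
        field_simp
        first | linear_combination h | linear_combination -h
  have hMu : IsUnit M.det := isUnit_iff_ne_zero.2 hM
  let φ : SL(2, F) →* SL(2, F) := MonoidHom.mk' (fun g => ⟨M⁻¹ * g.1 * M, by
      rw [det_mul, det_mul, g.2, mul_one, ← det_mul, Matrix.nonsing_inv_mul M hMu, det_one]⟩) fun g g' => by
    refine Subtype.ext ?_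
    show M⁻¹ * (g.1 * g'.1) * M = M⁻¹ * g.1 * M * (M⁻¹ * g'.1 * M)
    simp only [mul_assoc, Matrix.mul_nonsing_inv_cancel_left M _ hMu]
  have hφ : Function.Injective φ := fun g g' hg => by
    have h3 : M⁻¹ * g.1 * M = M⁻¹ * g'.1 * M := congrArg Subtype.val hg
    refine Subtype.ext ?_
    have h4 := congrArg (fun z : Matrix (Fin 2) (Fin 2) F => M * z * M⁻¹) h3
    simpa only [mul_assoc, Matrix.mul_nonsing_inv M hMu, mul_one, Matrix.mul_nonsing_inv_cancel_left M _ hMu] using h4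
  have hcol : ∀ (g : SL(2, F)) (W : Matrix (Fin 2) (Fin 2) F), g.1 * M = M * W → (φ g).1 = W := fun g W h => by
    show M⁻¹ * g.1 * M = W
    rw [mul_assoc, h, Matrix.nonsing_inv_mul_cancel_left M _ hMu]
  have hmv : ∀ (g : Matrix (Fin 2) (Fin 2) F) (k : Fin 2),
      (g * M) k 0 = g.mulVec e1 k ∧ (g * M) k 1 = g.mulVec e2 k := fun g k => by
    constructor <;> simp [M, Matrix.mul_apply, Matrix.mulVec, dotProduct, Fin.sum_univ_two]
  have hφi : (φ i).1 = !![0, -1; 1, 0] := by
    refine hcol _ _ ?_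
    ext k l
    fin_cases l
    · refine ((hmv _ k).1).trans ?_
      rw [← he2]
      fin_cases k <;> simp [M, Matrix.mul_apply, Fin.sum_univ_two]
    · refine ((hmv _ k).2).trans ?_
      rw [he2, hneg _ hii]
      fin_cases k <;> simp [M, Matrix.mul_apply, Fin.sum_univ_two]
  have hφa0 : (φ a).1 0 0 = 1 ∧ (φ a).1 1 0 = 0 := by
    have h3 : M * (φ a).1 = a.1 * M := by
      show M * (M⁻¹ * a.1 * M) = _
      rw [← mul_assoc, ← mul_assoc, Matrix.mul_nonsing_inv M hMu, one_mul]
    have h4 := congrFun (congrFun h3 0) 0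
    have h5 := congrFun (congrFun h3 1) 0
    rw [(hmv _ _).1, hae1] at h4 h5
    simp [M, Matrix.mul_apply, Fin.sum_univ_two] at h4 h5
    have hMd : e1 0 * e2 1 - e2 0 * e1 1 ≠ 0 := by rwa [Matrix.det_fin_two_of] at hM
    have hx0 : ((φ a).1 0 0 - 1) * (e1 0 * e2 1 - e2 0 * e1 1) = 0 := by linear_combination e2 1 * h4 - e2 0 * h5
    have hx1 : (φ a).1 1 0 * (e1 0 * e2 1 - e2 0 * e1 1) = 0 := by linear_combination e1 0 * h5 - e1 1 * h4
    exact ⟨sub_eq_zero.1 ((mul_eq_zero.1 hx0).resolve_right hMd), (mul_eq_zero.1 hx1).resolve_right hMd⟩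
  have hφa1 : (φ a).1 1 1 = 1 := by
    have h3 : (φ a).1.det = 1 := (φ a).2
    rw [det_fin_two, hφa0.1, hφa0.2] at h3
    linear_combination h3
  obtain ⟨b, hb⟩ : ∃ b, (φ a).1 0 1 = b := ⟨_, rfl⟩
  have hφa : (φ a).1 = !![1, b; 0, 1] := by
    rw [Matrix.eta_fin_two (φ a).1, hφa0.1, hφa0.2, hφa1, hb]
  have hb2 : b = 1 ∨ b = -1 := by
    have hw : orderOf ((j * i : R) : SL(2, F)) = 4 := by
      have h10 : orderOf (j * i : R) ∣ 4 := by
        rw [← e.orderOf_eq]
        exact orderOf_dvd_of_pow_eq_one ((show ∀ u : QuaternionGroup 2, u ^ 4 = 1 by decide) _)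
      rw [Subgroup.orderOf_coe]
      rcases (Nat.dvd_prime_pow Nat.prime_two).1 (show orderOf (j * i : R) ∣ 2 ^ 2 from h10) with ⟨m, hm, hmo⟩
      rw [hmo]
      interval_cases m
      · exfalso
        refine hij ?_
        rw [eq_inv_of_mul_eq_one_left (orderOf_eq_one_iff.1 hmo), Subgroup.coe_inv]
        exact (Commute.refl _).inv_right
      · exfalso
        obtain ⟨h11, h11'⟩ := orderOf_eq_prime_iff.1 hmo
        have h12 := (SL2Q.eq_of_mul_self h2 (congrArg Subtype.val ((pow_two _).symm.trans h11))).resolve_left fun h => h11' (Subtype.ext h)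
        have : (j : SL(2, F)) = negOne * (i : SL(2, F))⁻¹ := eq_mul_inv_of_mul_eq h12
        refine hij ?_
        rw [this]
        exact Commute.mul_right (SL2Q.negOne_comm _).symm ((Commute.refl _).inv_right)
      · rfl
    have h13 : φ (a * (i : SL(2, F)) * a⁻¹ * (i : SL(2, F))) * φ (a * (i : SL(2, F)) * a⁻¹ * (i : SL(2, F))) = negOne := by
      rw [← map_mul, show a * (i : SL(2, F)) * a⁻¹ * (i : SL(2, F)) = ((j * i : R) : SL(2, F)) from rfl, hsq4 _ hw]
      refine Subtype.ext ?_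
      show M⁻¹ * (negOne : SL(2, F)).1 * M = (negOne : SL(2, F)).1
      rw [SL2Q.negOne_coe, mul_neg, mul_one, neg_mul, Matrix.nonsing_inv_mul M hMu]
    have h14 := congrArg (fun z : SL(2, F) => z.1 0 1) h13
    simp only [map_mul, map_inv, Matrix.SpecialLinearGroup.coe_mul, Matrix.SpecialLinearGroup.coe_inv, hφa, hφi, Matrix.adjugate_fin_two_of, SL2Q.negOne_coe] at h14
    simp [Matrix.mul_apply, Fin.sum_univ_two] at h14
    have h15 : b * (b ^ 2 + 2) = 0 := by linear_combination h14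
    have h30 : (3 : F) = 0 := by exact_mod_cast CharP.cast_eq_zero F 3
    rcases mul_eq_zero.1 h15 with h16 | h16
    · exfalso
      apply ha1
      apply hφ
      rw [map_one]
      refine Subtype.ext ?_
      rw [hφa, h16]
      ext k l
      fin_cases k <;> fin_cases l <;> simp
    · exact mul_self_eq_one_iff.1 (by linear_combination h16 - h30)
  let c : ZMod 3 →+* F := ZMod.castHom dvd_rfl F
  let ψ : SL(2, ZMod 3) →* SL(2, F) := Matrix.SpecialLinearGroup.map c
  have hψ : Function.Injective ψ := fun g g' hg => Subtype.ext (by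
    ext k l
    exact c.injective (congrFun (congrFun (congrArg Subtype.val hg) k) l))
  have hψv : ∀ (g : SL(2, ZMod 3)) k l, (ψ g).1 k l = c (g.1 k l) := fun _ _ _ => rfl
  have hle : (R ⊔ Subgroup.zpowers a).map φ ≤ ψ.range := by
    have hai : φ a ∈ ψ.range := by
      rcases hb2 with h | h
      · refine ⟨(⟨!![1, 1; 0, 1], by simp [Matrix.det_fin_two]⟩ : SL(2, ZMod 3)), Subtype.ext ?_⟩
        rw [hφa, h]
        refine Matrix.ext fun k l => (hψv _ k l).trans ?_
        fin_cases k <;> fin_cases l <;> simp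
      · refine ⟨(⟨!![1, -1; 0, 1], by simp [Matrix.det_fin_two]⟩ : SL(2, ZMod 3)), Subtype.ext ?_⟩
        rw [hφa, h]
        refine Matrix.ext fun k l => (hψv _ k l).trans ?_
        fin_cases k <;> fin_cases l <;> simp
    have hii' : φ i ∈ ψ.range := by
      refine ⟨(⟨!![0, -1; 1, 0], by simp [Matrix.det_fin_two]⟩ : SL(2, ZMod 3)), Subtype.ext ?_⟩
      rw [hφi]
      refine Matrix.ext fun k l => (hψv _ k l).trans ?_
      fin_cases k <;> fin_cases l <;> simp
    rw [← hR', Subgroup.map_le_iff_le_comap]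
    refine sup_le (sup_le (Subgroup.zpowers_le.2 hii') (Subgroup.zpowers_le.2 ?_)) (Subgroup.zpowers_le.2 hai)
    show φ (a * (i : SL(2, F)) * a⁻¹) ∈ ψ.range
    rw [map_mul, map_mul, map_inv]
    exact Subgroup.mul_mem _ (Subgroup.mul_mem _ hai hii') (Subgroup.inv_mem _ hai)
  have hcard : Nat.card ψ.range ≤ Nat.card ((R ⊔ Subgroup.zpowers a).map φ) := by
    have h24 : Nat.card ψ.range = 24 := by
      rw [← Nat.card_congr (MonoidHom.ofInjective hψ).toEquiv, card_SL_two (F := ZMod 3) (q := 3) (ZMod.card 3)]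
    rw [h24, Subgroup.card_map_of_injective hφ]
    have hd : Nat.card R * 3 ∣ Nat.card ↥(R ⊔ Subgroup.zpowers a) := by
      refine Nat.Coprime.mul_dvd_of_dvd_of_dvd ?_ (Subgroup.card_dvd_of_le le_sup_left) ?_
      · rw [hR8]; norm_num
      · rw [← hao, ← Nat.card_zpowers]; exact Subgroup.card_dvd_of_le le_sup_right
    rw [hR8] at hd
    exact Nat.le_of_dvd Nat.card_pos hd
  have heq := Subgroup.eq_of_le_of_card_ge hle hcard
  exact ⟨((Subgroup.equivMapOfInjective _ φ hφ).trans (MulEquiv.subgroupCongr heq)).trans (MonoidHom.ofInjective hψ).symm⟩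

end Cfsg.Agent.S3740
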