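import Cfsg.Statements.S3741
import Mathlib
import Cfsg.Agent.Lib.PGroup.Basic

set_option autoImplicit false
open Cfsg

namespace Cfsg.Agent.S3741

/-- Let A and B be subgroups of a finite p-group with [A, B] ≤ A ∩ B and [A, B] of order at most p. Then |A : C_A(B)| = |B : C_B(A)|. -/
theorem result {G : Type*} [Group G] [Finite G] {p : ℕ} [Fact p.Prime] (hG : IsPGroup p G) (A B : Subgroup G) (hAB : ⁅A, B⁆ ≤ A ⊓ B) (hcard : Nat.card ↥⁅A, B⁆ ≤ p) : (A ⊓ Subgroup.centralizer (B : Set G)).relIndex A = (B ⊓ Subgroup.centralizer (A : Set G)).relIndex B := by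
  open scoped commutatorElement in
  classical
  set D := ⁅A, B⁆ with hD
  have hp : p.Prime := Fact.out
  have hN : A ⊔ B ≤ Subgroup.normalizer (D : Set G) := by
    have key : ∀ (A B : Subgroup G), A ≤ Subgroup.normalizer ((⁅A, B⁆ : Subgroup G) : Set G) := by
      intro A B
      have hle : ∀ x ∈ A, (⁅A, B⁆ : Subgroup G).map (MulAut.conj x).toMonoidHom ≤ ⁅A, B⁆ := by
        intro x hx
        rw [Subgroup.map_le_iff_le_comap, Subgroup.commutator_le]
        intro a ha b hb
        show x * (a * b * a⁻¹ * b⁻¹) * x⁻¹ ∈ (⁅A, B⁆ : Subgroup G)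
        have : x * (a * b * a⁻¹ * b⁻¹) * x⁻¹ =
            (x * a * b * (x * a)⁻¹ * b⁻¹) * (x * b * x⁻¹ * b⁻¹)⁻¹ := by group
        rw [this]
        exact Subgroup.mul_mem _ (Subgroup.commutator_mem_commutator (A.mul_mem hx ha) hb)
          (Subgroup.inv_mem _ (Subgroup.commutator_mem_commutator hx hb))
      intro x hx
      refine Subgroup.mem_normalizer_iff.2 fun n => ⟨fun hn => hle x hx ⟨n, hn, rfl⟩, fun hn => ?_⟩
      have := hle x⁻¹ (A.inv_mem hx) ⟨_, hn, rfl⟩
      simpa [mul_assoc] using this
    refine sup_le (key A B) ?_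
    rw [hD, Subgroup.commutator_comm]
    exact key B A
  have hDK : D ≤ A ⊔ B := hAB.trans (inf_le_left.trans le_sup_left)
  have hcen : ∀ d ∈ D, ∀ k ∈ A ⊔ B, k * d = d * k := by
    obtain ⟨n, hn⟩ := IsPGroup.iff_card.1 (hG.to_subgroup D)
    rcases Nat.eq_zero_or_pos n with rfl | hpos
    · intro d hd k _
      rw [pow_zero] at hn
      have : d = 1 := by rw [← Subgroup.mem_bot, ← Subgroup.eq_bot_of_card_eq D hn]; exact hd
      simp [this]
    · have hcard' : Nat.card D = p := le_antisymm hcard (by
        rw [hn]; calc p = p ^ 1 := (pow_one p).symm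
          _ ≤ p ^ n := Nat.pow_le_pow_right hp.pos hpos)
      haveI := (Subgroup.normal_subgroupOf_iff_le_normalizer hDK).2 hN
      have := CfsgLib.PGroup.le_center_of_card_eq (hG.to_subgroup (A ⊔ B)) (D.subgroupOf (A ⊔ B))
        (by rw [Nat.card_congr (Subgroup.subgroupOfEquivOfLe hDK).toEquiv, hcard'])
      intro d hd k hk
      exact congrArg Subtype.val (Subgroup.mem_center_iff.1 (this (x := ⟨d, hDK hd⟩) hd) ⟨k, hk⟩)
  have ineq : ∀ (A B : Subgroup G), (∀ a ∈ A, ∀ b ∈ B, ⁅a, b⁆ ∈ D) →
      (∀ d ∈ D, ∀ k ∈ A, k * d = d * k) →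
      Nat.card A * Nat.card ↥(B ⊓ Subgroup.centralizer (A : Set G)) ≤
        Nat.card ↥(A ⊓ Subgroup.centralizer (B : Set G)) * Nat.card B := by
    intro A B hc hz
    suffices H : ∀ B' : Subgroup G, B ⊓ Subgroup.centralizer (A : Set G) ≤ B' → B' ≤ B →
        Nat.card A * Nat.card ↥(B ⊓ Subgroup.centralizer (A : Set G)) ≤
          Nat.card ↥(A ⊓ Subgroup.centralizer (B' : Set G)) * Nat.card B' from H B inf_le_left le_rfl
    intro B'
    induction hn : Nat.card B' using Nat.strong_induction_on generalizing B' with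
    | _ n ih =>
      subst hn
      intro h1 h2
      rcases h1.eq_or_lt with h | h
      · rw [← h]
        refine Nat.mul_le_mul_right _ (Subgroup.card_le_of_le fun a ha => ?_)
        exact ⟨ha, Subgroup.mem_centralizer_iff.2 fun b hb =>
          (Subgroup.mem_centralizer_iff.1 hb.2 a ha).symm⟩
      obtain ⟨M, hCM, hM⟩ := Finite.exists_le_maximal
        (p := fun M : Subgroup G => M < B') (a := B ⊓ Subgroup.centralizer (A : Set G)) h
      obtain ⟨b, hbB, hbM⟩ := SetLike.exists_of_lt hM.1
      have e := ih _ (Set.ncard_lt_ncard hM.1 (Set.toFinite _) |>.trans_eq rfl |> fun h => by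
        rwa [← Nat.card_coe_set_eq, ← Nat.card_coe_set_eq] at h) M rfl hCM (hM.1.le.trans h2)
      set Q := A ⊓ Subgroup.centralizer (M : Set G) with hQ
      let f : Q →* D :=
        { toFun := fun a => ⟨⁅(a : G), b⁆, hc a a.2.1 b (h2 hbB)⟩
          map_one' := by ext; simp
          map_mul' := fun u v => by
            ext
            show ⁅(u : G) * v, b⁆ = ⁅(u : G), b⁆ * ⁅(v : G), b⁆
            rw [commutatorElement_mul_left_eq_conj_mul,
              hz _ (hc v v.2.1 b (h2 hbB)) u u.2.1, mul_inv_cancel_right]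
            have hd : (⁅(u : G), b⁆ : G) * ⁅(v : G), b⁆ = ⁅(v : G), b⁆ * ⁅(u : G), b⁆ := by
              have h3 := hz _ (hc v v.2.1 b (h2 hbB))
              have h4 : Commute ⁅(v : G), b⁆ (u : G) := (h3 u u.2.1).symm
              have h5 : ∀ d ∈ D, ∀ d' ∈ D, d * d' = d' * d := by
                obtain ⟨m, hm⟩ := IsPGroup.iff_card.1 (hG.to_subgroup D)
                have : IsCyclic D := by
                  rcases (Nat.dvd_prime hp).1 (show Nat.card D ∣ p by
                    rcases m with _ | _ | m
                    · rw [hm]; simp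
                    · rw [hm]; simp
                    · exfalso
                      have : p ^ 2 ≤ p := le_trans (Nat.pow_le_pow_right hp.pos (by omega)) (hm ▸ hcard)
                      nlinarith [hp.two_le]) with h6 | h6
                  · haveI : Subsingleton D := (Nat.card_eq_one_iff_unique.1 h6).1
                    infer_instance
                  · exact isCyclic_of_prime_card h6
                obtain ⟨g, hg⟩ := this.exists_generator
                intro d hd d' hd'
                obtain ⟨i, hi⟩ := hg ⟨d, hd⟩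
                obtain ⟨j, hj⟩ := hg ⟨d', hd'⟩
                have h7 := (Commute.zpow_zpow (Commute.refl g) i j).eq
                simp only [hi, hj] at h7
                exact congrArg Subtype.val h7
              exact h5 _ (hc u u.2.1 b (h2 hbB)) _ (hc v v.2.1 b (h2 hbB))
            exact hd.symm }
      have hker : f.ker.map Q.subtype ≤ A ⊓ Subgroup.centralizer (B' : Set G) := by
        rintro _ ⟨a, ha, rfl⟩
        refine ⟨a.2.1, Subgroup.mem_centralizer_iff.2 fun w hw => ?_⟩
        have hle : M ⊔ Subgroup.zpowers b ≤ Subgroup.centralizer ({(a : G)} : Set G) :=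
          sup_le (fun k hk => Subgroup.mem_centralizer_singleton_iff.2
              (Subgroup.mem_centralizer_iff.1 a.2.2 k hk))
            (Subgroup.zpowers_le.2 (Subgroup.mem_centralizer_singleton_iff.2
              (commutatorElement_eq_one_iff_mul_comm.1 (congrArg Subtype.val ha)).symm))
        have heq : M ⊔ Subgroup.zpowers b = B' := by
          refine le_antisymm (sup_le hM.1.le (Subgroup.zpowers_le.2 hbB)) ?_
          by_contra hne
          have hlt : M ⊔ Subgroup.zpowers b < B' :=
            lt_of_le_not_ge (sup_le hM.1.le (Subgroup.zpowers_le.2 hbB)) hne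
          exact hbM (hM.2 hlt le_sup_left (Subgroup.mem_sup_right (Subgroup.mem_zpowers b)))
        exact Subgroup.mem_centralizer_singleton_iff.1 (hle (heq ▸ hw))
      have hQle : Nat.card Q ≤ Nat.card ↥(A ⊓ Subgroup.centralizer (B' : Set G)) * p := by
        rw [← Subgroup.card_mul_index f.ker, Subgroup.index_ker]
        refine Nat.mul_le_mul ?_ ((Subgroup.card_le_card_group _).trans hcard)
        rw [← Subgroup.card_map_of_injective Q.subtype_injective]
        exact Subgroup.card_le_of_le hker
      have hMp : Nat.card M * p ≤ Nat.card B' := by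
        obtain ⟨i, hi⟩ := IsPGroup.iff_card.1 (hG.to_subgroup M)
        obtain ⟨j, hj⟩ := IsPGroup.iff_card.1 (hG.to_subgroup B')
        have : Nat.card M < Nat.card B' := by
          have h6 := Set.ncard_lt_ncard hM.1 (Set.toFinite _)
          rwa [← Nat.card_coe_set_eq, ← Nat.card_coe_set_eq] at h6
        rw [hi, hj] at this ⊢
        rw [← pow_succ]
        exact Nat.pow_le_pow_right hp.pos ((Nat.pow_lt_pow_iff_right hp.one_lt).1 this)
      calc _ ≤ Nat.card Q * Nat.card M := e
        _ ≤ Nat.card ↥(A ⊓ Subgroup.centralizer (B' : Set G)) * p * Nat.card M :=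
          Nat.mul_le_mul_right _ hQle
        _ = Nat.card ↥(A ⊓ Subgroup.centralizer (B' : Set G)) * (Nat.card M * p) := by ring
        _ ≤ _ := Nat.mul_le_mul_left _ hMp
  have e1 := ineq A B (fun a ha b hb => Subgroup.commutator_mem_commutator ha hb)
    (fun d hd k hk => hcen d hd k (Subgroup.mem_sup_left hk))
  have e2 := ineq B A (fun b hb a ha => by
      rw [← commutatorElement_inv]; exact D.inv_mem (Subgroup.commutator_mem_commutator ha hb))
    (fun d hd k hk => hcen d hd k (Subgroup.mem_sup_right hk))
  have r : ∀ (C A : Subgroup G), C ≤ A → Nat.card C * C.relIndex A = Nat.card A := by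
    intro C A h
    rw [← Nat.card_congr (Subgroup.subgroupOfEquivOfLe h).toEquiv]
    exact Subgroup.card_mul_index _
  have rA := r _ A (inf_le_left (b := Subgroup.centralizer (B : Set G)))
  have rB := r _ B (inf_le_left (b := Subgroup.centralizer (A : Set G)))
  apply Nat.eq_of_mul_eq_mul_left (m := (A ⊓ Subgroup.centralizer (B : Set G)).relIndex A)
    (n := Nat.card ↥(A ⊓ Subgroup.centralizer (B : Set G)) *
      Nat.card ↥(B ⊓ Subgroup.centralizer (A : Set G))) (Nat.mul_pos Nat.card_pos Nat.card_pos)
  calc _ = Nat.card A * Nat.card ↥(B ⊓ Subgroup.centralizer (A : Set G)) := by rw [← rA]; ring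
    _ = Nat.card ↥(A ⊓ Subgroup.centralizer (B : Set G)) * Nat.card B :=
      le_antisymm e1 (by linarith [e2])
    _ = _ := by rw [← rB]; ring

end Cfsg.Agent.S3741
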