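import Cfsg.Statements.S3742
import Mathlib

set_option autoImplicit false
open Cfsg

namespace Cfsg.Agent.S3742

abbrev Q8 := QuaternionGroup 2

/-- elements of order four -/
def six (u : Q8) : Bool := u * u != 1

/-- membership in a vertex of the cube on the diagonal `k` -/
def vert (k : Fin 4) : Q8 → Bool
  | .a i => i == 1
  | .xa i => match k with
    | 0 => i == 0 || i == 3
    | 1 => i == 2 || i == 3
    | 2 => i == 0 || i == 1
    | 3 => i == 2 || i == 1

/-- `u` and `v` lie in the same vertex of the diagonal `k` -/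
def rel (k : Fin 4) (u v : Q8) : Bool := six u && six v && (vert k u == vert k v)

/-- the map with `a 1 ↦ u` and `xa 0 ↦ v` -/
def tbl (u v : Q8) : Q8 → Q8
  | .a i => u ^ i.val
  | .xa i => v * u ^ i.val

def valid (u v : Q8) : Bool := six u && six v && v != u && v != u⁻¹

theorem tbl_hom : ∀ u v : Q8, valid u v = true → ∀ x y : Q8, tbl u v (x * y) = tbl u v x * tbl u v y := by
  decide +kernel

theorem tbl_inj : ∀ u v : Q8, valid u v = true → ∀ x y : Q8, tbl u v x = tbl u v y → x = y := by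
  decide +kernel

theorem tbl_diag : ∀ u v : Q8, valid u v = true → ∀ k : Fin 4, ∃ k' : Fin 4,
    ∀ x y : Q8, rel k' (tbl u v x) (tbl u v y) = rel k x y := by
  decide +kernel

theorem rel_inj : ∀ k k' : Fin 4, (∀ x y : Q8, rel k x y = rel k' x y) → k = k' := by
  decide +kernel

theorem tbl_ker : ∀ u v : Q8, valid u v = true →
    (∀ k : Fin 4, ∀ x y : Q8, rel k (tbl u v x) (tbl u v y) = rel k x y) →
      u = .a 1 ∧ v = .xa 0 := by
  decide +kernel

theorem card_valid : Fintype.card {p : Q8 × Q8 // valid p.1 p.2 = true} = 24 := by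
  decide +kernel

theorem eq_tbl (φ : Q8 ≃* Q8) (x : Q8) : φ x = tbl (φ (.a 1)) (φ (.xa 0)) x := by
  have ha : ∀ i : ZMod (2 * 2), (QuaternionGroup.a i : Q8) = QuaternionGroup.a 1 ^ i.val := fun i => by
    rw [QuaternionGroup.a_one_pow, ZMod.natCast_zmod_val]
  cases x with
  | a i => show _ = φ (.a 1) ^ i.val; rw [← map_pow, ← ha]
  | xa i =>
    show _ = φ (.xa 0) * φ (.a 1) ^ i.val
    rw [← map_pow, ← ha, ← map_mul, QuaternionGroup.xa_mul_a, zero_add]

theorem six_map (φ : Q8 ≃* Q8) (u : Q8) : six (φ u) = six u := by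
  have h : (φ u * φ u = 1) ↔ (u * u = 1) := by rw [← map_mul, φ.map_eq_one_iff]
  rw [Bool.eq_iff_iff]
  simp only [six, bne_iff_ne]
  exact not_congr h

theorem valid_map (φ : Q8 ≃* Q8) : valid (φ (.a 1)) (φ (.xa 0)) = true := by
  have h1 : six (.a 1 : Q8) = true := by decide +kernel
  have h2 : six (.xa 0 : Q8) = true := by decide +kernel
  simp only [valid, six_map, h1, h2, Bool.true_and, Bool.and_eq_true, bne_iff_ne]
  rw [← map_inv]
  exact ⟨fun h => absurd (φ.injective h) (by decide), fun h => absurd (φ.injective h) (by decide)⟩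

/-- The automorphism group of the quaternion group of order 8 is isomorphic to the symmetric group of degree 4. -/
theorem result : Nonempty (MulAut (QuaternionGroup 2) ≃* Equiv.Perm (Fin 4)) := by
  classical
  have hex : ∀ (φ : MulAut Q8) (k : Fin 4), ∃ k' : Fin 4, ∀ x y : Q8, rel k' (φ x) (φ y) = rel k x y := by
    intro φ k
    obtain ⟨k', hk'⟩ := tbl_diag _ _ (valid_map φ) k
    exact ⟨k', fun x y => by rw [eq_tbl φ x, eq_tbl φ y]; exact hk' x y⟩
  choose f hf using hex
  have huniq : ∀ (φ : MulAut Q8) (k k' : Fin 4), (∀ x y : Q8, rel k' (φ x) (φ y) = rel k x y) →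
      k' = f φ k := by
    intro φ k k' h
    refine rel_inj k' (f φ k) fun x y => ?_
    obtain ⟨x, rfl⟩ := φ.surjective x
    obtain ⟨y, rfl⟩ := φ.surjective y
    rw [h, hf]
  have hone : ∀ k, f 1 k = k := fun k => (huniq 1 k k fun x y => rfl).symm
  have hmul : ∀ φ ψ k, f (φ * ψ) k = f φ (f ψ k) := fun φ ψ k =>
    (huniq (φ * ψ) k _ fun x y => by
      show rel (f φ (f ψ k)) (φ (ψ x)) (φ (ψ y)) = rel k x y
      rw [hf, hf]).symm
  let toPerm : MulAut Q8 →* Equiv.Perm (Fin 4) :=
    MonoidHom.mk' (fun φ => ⟨f φ, f φ⁻¹, fun k => by rw [← hmul, inv_mul_cancel, hone],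
      fun k => by rw [← hmul, mul_inv_cancel, hone]⟩) (fun φ ψ => Equiv.ext fun k => hmul φ ψ k)
  have hinj : Function.Injective toPerm := by
    rw [injective_iff_map_eq_one]
    intro φ h
    have hk : ∀ k, f φ k = k := fun k => congrArg (fun σ : Equiv.Perm (Fin 4) => σ k) h
    obtain ⟨hu, hv⟩ := tbl_ker _ _ (valid_map φ) fun k x y => by
      rw [← eq_tbl, ← eq_tbl]
      have := hf φ k x y
      rwa [hk k] at this
    refine MulEquiv.ext fun x => ?_
    rw [eq_tbl φ x, hu, hv]
    exact (eq_tbl 1 x).symm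
  have hcard : Nat.card (MulAut Q8) = 24 := by
    rw [← card_valid, ← Nat.card_eq_fintype_card]
    refine Nat.card_congr (Equiv.ofBijective (fun φ => ⟨(φ (.a 1), φ (.xa 0)), valid_map φ⟩) ⟨?_, ?_⟩)
    · intro φ ψ h
      have h' := congrArg Subtype.val h
      refine MulEquiv.ext fun x => ?_
      rw [eq_tbl φ x, eq_tbl ψ x, (Prod.mk.inj h').1, (Prod.mk.inj h').2]
    · rintro ⟨⟨u, v⟩, h⟩
      refine ⟨MulEquiv.ofBijective (MonoidHom.mk' (tbl u v) (tbl_hom u v h))
        (Finite.injective_iff_bijective.1 (fun x y hxy => tbl_inj u v h x y hxy)), Subtype.ext ?_⟩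
      show (tbl u v (.a 1), tbl u v (.xa 0)) = (u, v)
      simp only [tbl, show (1 : ZMod (2 * 2)).val = 1 from rfl, show (0 : ZMod (2 * 2)).val = 0 from rfl,
        pow_one, pow_zero, mul_one]
  refine ⟨MulEquiv.ofBijective toPerm ((Nat.bijective_iff_injective_and_card _).2 ⟨hinj, ?_⟩)⟩
  rw [hcard, Nat.card_eq_fintype_card, Fintype.card_perm, Fintype.card_fin]
  rfl

end Cfsg.Agent.S3742
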