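import Cfsg.Statements.S3744
import Cfsg.Agent.Lib.Solvable.SchurZassenhaus

set_option autoImplicit false
open Cfsg

namespace Cfsg.Agent.S3744

open scoped Pointwise

theorem dominating_step {G : Type*} [Group G] [Finite G] {p : ℕ} [Fact p.Prime]
    {K M L : Subgroup G} [K.Normal] [M.Normal] (hKM : K ≤ M) (hML : M ≤ L)
    {m n : ℕ} (hi : K.relIndex M = p ^ m) (hc : (M.relIndex L).Coprime p) (hn : L.index = p ^ n)
    (hdom : ∀ U : Subgroup G, (Nat.card U).Coprime p → ∃ g : G, MulAut.conj g • U ≤ L) :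
    ∃ L' : Subgroup G, K ≤ L' ∧ (K.relIndex L').Coprime p ∧ (∃ n : ℕ, L'.index = p ^ n) ∧
      ∀ U : Subgroup G, (Nat.card U).Coprime p → ∃ g : G, MulAut.conj g • U ≤ L' := by
  set π := QuotientGroup.mk' K with hπ
  have hsurj : Function.Surjective π := QuotientGroup.mk'_surjective K
  have hker : π.ker = K := QuotientGroup.ker_mk' K
  have hcard : ∀ S : Subgroup G, Nat.card (S.map π) = K.relIndex S := fun S => by
    have h := Subgroup.relIndex_map_map π K S
    rw [(Subgroup.map_eq_bot_iff (f := π) K).2 hker.ge, Subgroup.relIndex_bot_left, hker,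
      sup_idem] at h
    rw [h, sup_comm, Subgroup.relIndex_sup_left]
  haveI : (M.map π).Normal := Subgroup.Normal.map inferInstance π hsurj
  set Lb := L.map π with hLb
  set Mb := (M.map π).subgroupOf Lb with hMb
  have hMLb : M.map π ≤ Lb := Subgroup.map_mono hML
  have hMcard : Nat.card (M.map π) = p ^ m := by rw [hcard, hi]
  have hMbcard : Nat.card Mb = p ^ m := by
    rw [hMb, Nat.card_congr (Subgroup.subgroupOfEquivOfLe hMLb).toEquiv, hMcard]
  have hMbindex : Mb.index = M.relIndex L := by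
    rw [hMb, hLb]
    change (M.map π).relIndex (L.map π) = _
    rw [Subgroup.relIndex_map_map, hker, sup_eq_left.2 hKM, sup_eq_left.2 (hKM.trans hML)]
  have hp : p.Prime := Fact.out
  have hcop : (Nat.card Mb).Coprime Mb.index := by
    rw [hMbcard, hMbindex]; exact Nat.Coprime.pow_left m hc.symm
  obtain ⟨B, hB⟩ := Subgroup.exists_right_complement'_of_coprime hcop
  set Bb := B.map Lb.subtype with hBb
  have hBL : Bb ≤ Lb := Subgroup.map_subtype_le B
  have hBcard : Nat.card Bb = M.relIndex L := by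
    rw [hBb, Subgroup.card_map_of_injective Lb.subtype_injective, ← hMbindex, hB.symm.index_eq_card]
  refine ⟨Bb.comap π, ?_, ?_, ⟨n + m, ?_⟩, fun U hU => ?_⟩
  · intro x hx
    rw [Subgroup.mem_comap, show π x = 1 from (QuotientGroup.eq_one_iff x).2 hx]
    exact one_mem _
  · rw [← hcard, Subgroup.map_comap_eq_self_of_surjective hsurj, hBcard]
    exact hc
  · rw [Subgroup.index_comap_of_surjective _ hsurj]
    have h1 : Nat.card Bb * Bb.index = Nat.card Lb * Lb.index := by
      rw [Subgroup.card_mul_index, Subgroup.card_mul_index]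
    have h2 : Lb.index = p ^ n := by
      rw [hLb, Subgroup.index_map, hker, sup_eq_left.2 (hKM.trans hML), hn,
        (MonoidHom.range_eq_top.2 hsurj), Subgroup.index_top, mul_one]
    rw [hBcard, hcard L, h2, ← Subgroup.relIndex_mul_relIndex K M L hKM hML, hi] at h1
    refine Nat.eq_of_mul_eq_mul_left (Nat.pos_of_ne_zero (?_ : M.relIndex L ≠ 0)) ?_
    · exact fun h => by rw [h] at hBcard; exact Nat.card_pos.ne' hBcard
    · rw [h1]; ring
  · obtain ⟨g, hg⟩ := hdom U hU
    have hMs : Group.IsSolvable (M.map π) := by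
      haveI := (IsPGroup.of_card hMcard).isNilpotent
      infer_instance
    have hMB : M.map π ⊓ Bb = ⊥ := CfsgLib.Solvable.disjoint_of_coprime (by
      rw [hMcard, hBcard]; exact Nat.Coprime.pow_left m hc.symm)
    have hle : (MulAut.conj g • U).map π ≤ M.map π ⊔ Bb := by
      refine (Subgroup.map_mono hg).trans fun x hx => ?_
      obtain ⟨⟨a, b⟩, hab⟩ := (hB.existsUnique ⟨x, hx⟩).exists
      have e : ((a : Lb) : G ⧸ K) * ((b : Lb) : G ⧸ K) = x := congrArg Subtype.val hab
      rw [← e]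
      exact mul_mem (Subgroup.mem_sup_left a.2) (Subgroup.mem_sup_right ⟨_, b.2, rfl⟩)
    obtain ⟨k, hk, hkle⟩ := CfsgLib.Solvable.exists_conj_le (M.map π) Bb ((MulAut.conj g • U).map π)
      Subgroup.le_normalizer_of_normal hMB hle (by
        rw [hMcard]
        refine (Nat.Coprime.pow_left m ?_)
        refine (hU.symm).coprime_dvd_right ?_
        rw [← CfsgLib.Solvable.card_conj_smul g U]
        exact Subgroup.card_map_dvd _ _) (Or.inl hMs)
    obtain ⟨k, rfl⟩ := hsurj k
    refine ⟨k * g, ?_⟩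
    rw [← CfsgLib.Solvable.conj_smul_conj_smul]
    intro x hx
    rw [CfsgLib.Solvable.mem_conj_smul_iff] at hx
    have := CfsgLib.Solvable.conj_smul_le_iff.1 hkle _ ⟨_, hx, rfl⟩
    rw [Subgroup.mem_comap]
    simpa [mul_assoc] using this

/-- A finite p-soluble group has a p-complement, all its p-complements are conjugate, and every subgroup of order prime to p lies in one of them. Here a p-complement is a subgroup of order prime to p whose index is a power of p. -/
theorem result {G : Type*} [Group G] [Finite G] {p : ℕ} [Fact p.Prime] (hG : Cfsg.IsPSolvable p G) : (∃ H : Subgroup G, (Nat.card H).Coprime p ∧ ∃ n : ℕ, H.index = p ^ n) ∧ (∀ H₁ H₂ : Subgroup G, (Nat.card H₁).Coprime p → (∃ n : ℕ, H₁.index = p ^ n) → (Nat.card H₂).Coprime p → (∃ n : ℕ, H₂.index = p ^ n) → ∃ g : G, H₂ = H₁.map (MulAut.conj g).toMonoidHom) ∧ (∀ U : Subgroup G, (Nat.card U).Coprime p → ∃ H : Subgroup G, (Nat.card H).Coprime p ∧ (∃ n : ℕ, H.index = p ^ n) ∧ ∃ g : G, U.map (MulAut.conj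 g).toMonoidHom ≤ H) := by
  obtain ⟨N, H, h0, hl, hm, hn, hstep⟩ := hG
  have key : ∀ i : Fin (N + 1), ∃ L : Subgroup G, H i ≤ L ∧ ((H i).relIndex L).Coprime p ∧
      (∃ n : ℕ, L.index = p ^ n) ∧
      ∀ U : Subgroup G, (Nat.card U).Coprime p → ∃ g : G, MulAut.conj g • U ≤ L := by
    intro i
    induction i using Fin.reverseInduction with
    | last => exact ⟨⊤, le_top, by rw [hl]; simp, ⟨0, by simp⟩, fun U _ => ⟨1, le_top⟩⟩
    | cast i ih =>
      obtain ⟨L, hL, hLc, ⟨n, hLn⟩, hdom⟩ := ih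
      have hle : H i.castSucc ≤ H i.succ := hm Fin.castSucc_lt_succ.le
      rcases hstep i with ⟨m, hi⟩ | hi
      · haveI := hn i.castSucc; haveI := hn i.succ
        exact dominating_step hle hL hi hLc hLn hdom
      · refine ⟨L, hle.trans hL, ?_, ⟨n, hLn⟩, hdom⟩
        rw [← Subgroup.relIndex_mul_relIndex _ _ _ hle hL]
        exact hi.mul_left hLc
  obtain ⟨L, -, hLc, hLn, hdom⟩ := key 0
  rw [h0, Subgroup.relIndex_bot_left] at hLc
  refine ⟨⟨L, hLc, hLn⟩, fun H₁ H₂ hc₁ hn₁ hc₂ hn₂ => ?_, fun U hU => ?_⟩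
  · have hcard : ∀ S : Subgroup G, (Nat.card S).Coprime p → (∃ n : ℕ, S.index = p ^ n) →
        Nat.card S = Nat.card L := by
      rintro S hS ⟨a, ha⟩
      obtain ⟨b, hb⟩ := hLn
      have e := S.card_mul_index.trans L.card_mul_index.symm
      rw [ha, hb] at e
      exact Nat.dvd_antisymm ((hS.pow_right b).dvd_of_dvd_mul_right ⟨_, e.symm⟩)
        ((hLc.pow_right a).dvd_of_dvd_mul_right ⟨_, e⟩)
    obtain ⟨g₁, hg₁⟩ := hdom H₁ hc₁
    obtain ⟨g₂, hg₂⟩ := hdom H₂ hc₂
    have e₁ := CfsgLib.Solvable.conj_smul_eq_of_le hg₁ (hcard H₁ hc₁ hn₁).ge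
    have e₂ := CfsgLib.Solvable.conj_smul_eq_of_le hg₂ (hcard H₂ hc₂ hn₂).ge
    refine ⟨g₂⁻¹ * g₁, ?_⟩
    rw [← CfsgLib.Solvable.conj_smul_eq_map, ← CfsgLib.Solvable.conj_smul_conj_smul, e₁, ← e₂,
      CfsgLib.Solvable.conj_smul_conj_smul, inv_mul_cancel, map_one, one_smul]
  · obtain ⟨g, hg⟩ := hdom U hU
    exact ⟨L, hLc, hLn, g, hg⟩

end Cfsg.Agent.S3744
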