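import Cfsg.Statements.S3746
import Cfsg.Agent.Lib.Cores.Components

set_option autoImplicit false
open Cfsg

namespace Cfsg.Agent.S3746

open scoped commutatorElement

/-- Let Z ≤ Z(G) be a central subgroup of a finite group G and E a subgroup of G containing Z whose image E/Z is a component of G/Z (subnormal and quasisimple). Then the derived subgroup [E, E] is a component of G. -/
theorem result {G : Type*} [Group G] [Finite G] (Z : Subgroup G) (hZ : Z ≤ Subgroup.center G) [Z.Normal] (E : Subgroup G) (hZE : Z ≤ E) (hE : Cfsg.IsComponent (E.map (QuotientGroup.mk' Z))) : Cfsg.IsComponent ⁅E, E⁆ := by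
  classical
  set f := QuotientGroup.mk' Z with hf
  have hker : f.ker = Z := QuotientGroup.ker_mk' Z
  set L := E.map f with hL
  set D := ⁅E, E⁆ with hD
  have hEsn : E.IsSubnormal := by
    rw [← Subgroup.comap_map_eq_self (f := f) (hker.le.trans hZE)]
    exact hE.1.comap f
  have hDE : D ≤ E := CfsgLib.Cores.commutator_self_le' E
  have hDsn : D.IsSubnormal := by
    rw [hD, ← Subgroup.map_subtype_commutator]
    exact (Subgroup.Normal.isSubnormal (inferInstance : (commutator E).Normal)).trans' hEsn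
  have hmapD : D.map f = L := by
    rw [hD, Subgroup.map_commutator]
    exact CfsgLib.Cores.component_commutator_self hE
  have hEdec : ∀ x ∈ E, ∃ d ∈ D, ∃ z ∈ Z, x = d * z := by
    intro x hx
    obtain ⟨d, hd, hdx⟩ : f x ∈ D.map f := hmapD ▸ ⟨x, hx, rfl⟩
    refine ⟨d, hd, d⁻¹ * x, ?_, by group⟩
    rw [← hker, MonoidHom.mem_ker, map_mul, map_inv, hdx, inv_mul_cancel]
  have hperf : ⁅D, D⁆ = D := by
    refine le_antisymm (CfsgLib.Cores.commutator_self_le' D) ?_
    conv_lhs => rw [hD]
    refine Subgroup.commutator_le.2 fun x hx y hy => ?_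
    obtain ⟨d, hd, z, hz, rfl⟩ := hEdec x hx
    obtain ⟨e, he, w, hw, rfl⟩ := hEdec y hy
    have hzc : ∀ g, Commute z g := fun g => (Subgroup.mem_center_iff.1 (hZ hz) g).symm
    have hwc : ∀ g, Commute w g := fun g => (Subgroup.mem_center_iff.1 (hZ hw) g).symm
    have : ⁅d * z, e * w⁆ = ⁅d, e⁆ := by
      simp only [commutatorElement_def]
      calc d * z * (e * w) * (d * z)⁻¹ * (e * w)⁻¹
          = d * (z * (e * w)) * z⁻¹ * d⁻¹ * (w⁻¹ * e⁻¹) := by group
        _ = d * ((e * w) * z) * z⁻¹ * d⁻¹ * (w⁻¹ * e⁻¹) := by rw [(hzc (e * w)).eq]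
        _ = d * e * (w * d⁻¹) * w⁻¹ * e⁻¹ := by group
        _ = d * e * (d⁻¹ * w) * w⁻¹ * e⁻¹ := by rw [(hwc d⁻¹).eq]
        _ = _ := by group
    rw [this]
    exact Subgroup.commutator_mem_commutator hd he
  refine ⟨hDsn, Subgroup.isPerfect_iff.2 hperf, ?_⟩
  let π : D →* L := (f.comp D.subtype).codRestrict L fun d => ⟨_, hDE d.2, rfl⟩
  have hπ : Function.Surjective π := by
    rintro ⟨y, hy⟩
    obtain ⟨d, hd, rfl⟩ : y ∈ D.map f := hmapD.symm ▸ hy
    exact ⟨⟨d, hd⟩, rfl⟩
  set φ : D →* L ⧸ Subgroup.center L := (QuotientGroup.mk' _).comp π with hφ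
  have hφs : Function.Surjective φ := (QuotientGroup.mk'_surjective _).comp hπ
  have hkerφ : φ.ker = Subgroup.center D := by
    ext x
    rw [hφ, MonoidHom.mem_ker, MonoidHom.comp_apply, QuotientGroup.mk'_apply,
      QuotientGroup.eq_one_iff, Subgroup.mem_center_iff, Subgroup.mem_center_iff]
    constructor
    · intro h y
      -- `y ↦ ⁅x, y⁆` is a homomorphism into the centre, hence trivial on the perfect group `D`
      have hc : ∀ y : D, ⁅(x : G), (y : G)⁆ ∈ Z := fun y => by
        rw [← hker, MonoidHom.mem_ker, map_commutatorElement, commutatorElement_eq_one_iff_mul_comm]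
        exact (congrArg Subtype.val (h (π y))).symm
      let ψ : D →* G := MonoidHom.mk' (fun y => ⁅(x : G), (y : G)⁆) (fun a b => by
        have hb := Subgroup.mem_center_iff.1 (hZ (hc b))
        show ⁅(x : G), (a : G) * b⁆ = ⁅(x : G), (a : G)⁆ * ⁅(x : G), (b : G)⁆
        calc ⁅(x : G), (a : G) * b⁆ = (x : G) * a * (x : G)⁻¹ * (⁅(x : G), (b : G)⁆ * (a : G)⁻¹) := by
              simp only [commutatorElement_def]; group
          _ = (x : G) * a * (x : G)⁻¹ * ((a : G)⁻¹ * ⁅(x : G), (b : G)⁆) := by rw [hb]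
          _ = _ := by simp only [commutatorElement_def]; group)
      have hy : y ∈ ψ.ker := by
        have htop : (commutator D : Subgroup D) = ⊤ := (Subgroup.isPerfect_iff.2 hperf).commutator_eq_top
        have hle : commutator D ≤ ψ.ker := by
          rw [commutator_def, Subgroup.commutator_le]
          intro a _ b _
          rw [MonoidHom.mem_ker, map_commutatorElement, commutatorElement_eq_one_iff_mul_comm]
          exact Subgroup.mem_center_iff.1 (hZ (hc b)) _
        exact (htop ▸ hle) (Subgroup.mem_top y)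
      exact Subtype.ext (commutatorElement_eq_one_iff_mul_comm.1 (MonoidHom.mem_ker.1 hy)).symm
    · intro h y
      obtain ⟨d, rfl⟩ := hπ y
      rw [← map_mul, h d, map_mul]
  have := hE.2.2
  have hs := hE.2.2.toNontrivial
  let e : D ⧸ Subgroup.center D ≃* L ⧸ Subgroup.center L :=
    (QuotientGroup.quotientMulEquivOfEq hkerφ.symm).trans (QuotientGroup.quotientKerEquivOfSurjective φ hφs)
  have : Nontrivial (D ⧸ Subgroup.center D) := e.toEquiv.nontrivial
  exact IsSimpleGroup.isSimpleGroup_of_surjective e.symm.toMonoidHom e.symm.surjective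

end Cfsg.Agent.S3746
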