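import Cfsg.Statements.S3747
import Cfsg.Agent.Lib.Cores.Layer

set_option autoImplicit false
open Cfsg

namespace Cfsg.Agent.S3747

open scoped commutatorElement Pointwise

theorem eq_one_of_commutes_components {G : Type*} [Group G] [Finite G] (S : Finset (Subgroup G))
    (hS : ∀ L ∈ S, Cfsg.IsComponent L ∧ Subgroup.center ↥L = ⊥) :
    ∀ x ∈ S.sup id, (∀ L ∈ S, ∀ l ∈ L, l * x = x * l) → x = 1 := by
  classical
  induction S using Finset.induction with
  | empty => intro x hx _; simpa using hx
  | @insert L S hL ih =>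
    intro x hx hc
    rw [Finset.sup_insert, id_eq] at hx
    have hcen : S.sup id ≤ Subgroup.centralizer (L : Set G) := Finset.sup_le fun M hM =>
      Subgroup.commutator_eq_bot_iff_le_centralizer.1 (CfsgLib.Cores.commutator_components_eq_bot
        (hS M (Finset.mem_insert_of_mem hM)).1 (hS L (Finset.mem_insert_self _ _)).1
        (fun e => hL (e ▸ hM)))
    have hnorm : S.sup id ≤ Subgroup.normalizer (L : Set G) :=
      hcen.trans (Subgroup.centralizer_le_normalizer _)
    have hx' : x ∈ (L : Set G) * ((S.sup id : Subgroup G) : Set G) := by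
      rw [← Subgroup.coe_mul_of_right_le_normalizer_left L _ hnorm]; exact hx
    obtain ⟨l, hl, y, hy, rfl⟩ := hx'
    have hl1 : l = 1 := by
      have h1 : (⟨l, hl⟩ : L) ∈ Subgroup.center L := by
        rw [Subgroup.mem_center_iff]
        rintro ⟨m, hm⟩
        refine Subtype.ext ?_
        show m * l = l * m
        have h2 := hc L (Finset.mem_insert_self _ _) m hm
        have h3 := Subgroup.mem_centralizer_iff.1 (hcen hy) m hm
        rw [← mul_assoc, mul_assoc l y m, ← h3, ← mul_assoc] at h2
        exact mul_right_cancel h2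
      rw [(hS L (Finset.mem_insert_self _ _)).2, Subgroup.mem_bot] at h1
      exact congrArg Subtype.val h1
    subst hl1
    simp only [one_mul] at hc ⊢
    exact ih (fun M hM => hS M (Finset.mem_insert_of_mem hM)) y hy
      (fun M hM => hc M (Finset.mem_insert_of_mem hM))

theorem minimal_normalClosure {G : Type*} [Group G] [Finite G] {K : Subgroup G}
    (hK : Cfsg.IsComponent K) (hc : Subgroup.center ↥K = ⊥) :
    Subgroup.normalClosure (K : Set G) ≠ ⊥ ∧
      ∀ N : Subgroup G, N.Normal → N ≤ Subgroup.normalClosure (K : Set G) →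
        N = ⊥ ∨ N = Subgroup.normalClosure (K : Set G) := by
  classical
  haveI := Fintype.ofFinite G
  refine ⟨fun h => CfsgLib.Cores.component_ne_bot hK (le_bot_iff.1 (h ▸ Subgroup.le_normalClosure)),
    fun N hN hle => ?_⟩
  haveI := hN
  have hconj : ∀ g : G, Cfsg.IsComponent (K.map (MulAut.conj g).toMonoidHom) :=
    fun g => CfsgLib.Cores.isComponent_map_equiv (MulAut.conj g) hK
  by_cases hin : ∃ g : G, K.map (MulAut.conj g).toMonoidHom ≤ N
  · obtain ⟨g, hg⟩ := hin
    refine Or.inr (le_antisymm hle (Subgroup.normalClosure_le_normal fun k hk => ?_))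
    have := hN.conj_mem _ (hg ⟨k, hk, rfl⟩) g⁻¹
    simpa [mul_assoc] using this
  · refine Or.inl (eq_bot_iff.2 fun x hx => Subgroup.mem_bot.2 ?_)
    set S := Finset.univ.image fun g : G => K.map (MulAut.conj g).toMonoidHom
    have hM : Subgroup.normalClosure (K : Set G) ≤ S.sup id := by
      rw [Subgroup.normalClosure, Subgroup.closure_le]
      intro y hy
      obtain ⟨k, hk, hky⟩ := Group.mem_conjugatesOfSet_iff.1 hy
      obtain ⟨g, rfl⟩ := isConj_iff.1 hky
      have hle' : K.map (MulAut.conj g).toMonoidHom ≤ S.sup id :=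
        Finset.le_sup (f := id) (Finset.mem_image.2 ⟨g, Finset.mem_univ _, rfl⟩)
      exact hle' ⟨k, hk, rfl⟩
    refine eq_one_of_commutes_components S (fun L hL => ?_) x (hM (hle hx)) (fun L hL l hl => ?_)
    · obtain ⟨g, -, rfl⟩ := Finset.mem_image.1 hL
      refine ⟨hconj g, ?_⟩
      refine eq_bot_iff.2 fun z hz => Subgroup.mem_bot.2 ?_
      set e := K.equivMapOfInjective (MulAut.conj g).toMonoidHom (MulAut.conj g).injective
      obtain ⟨y, rfl⟩ := e.surjective z
      have hy : y ∈ Subgroup.center K := Subgroup.mem_center_iff.2 fun w =>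
        e.injective (by rw [map_mul, map_mul]; exact Subgroup.mem_center_iff.1 hz _)
      rw [hc, Subgroup.mem_bot] at hy
      rw [hy, map_one]
    · obtain ⟨g, -, rfl⟩ := Finset.mem_image.1 hL
      have h := ((CfsgLib.Cores.component_le_or_commutator_eq_bot (hconj g) hN.isSubnormal).resolve_left
        (fun h => hin ⟨g, h⟩))
      exact (Subgroup.mem_centralizer_iff.1 (Subgroup.commutator_eq_bot_iff_le_centralizer.1 h hl) x hx).symm

/-- Let G be a finite group. (a) If K is a component of G with trivial centre, then the normal closure of K in G is a minimal normal subgroup of G. (b) If the Fitting subgroup of G is trivial, then the layer E(G) is generated by the minimal normal subgroups of G. -/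
theorem result {G : Type*} [Group G] [Finite G] : (∀ K : Subgroup G, Cfsg.IsComponent K → Subgroup.center ↥K = ⊥ → (Subgroup.normalClosure (K : Set G) ≠ ⊥ ∧ ∀ N : Subgroup G, N.Normal → N ≤ Subgroup.normalClosure (K : Set G) → N = ⊥ ∨ N = Subgroup.normalClosure (K : Set G))) ∧ (Cfsg.fittingSubgroup G = ⊥ → sSup {N : Subgroup G | N ≠ ⊥ ∧ N.Normal ∧ ∀ N' : Subgroup G, N'.Normal → N' ≤ N → N' = ⊥ ∨ N' = N} = Cfsg.layer G) := by
  classical
  refine ⟨fun K hK hc => minimal_normalClosure hK hc, fun hF => le_antisymm ?_ ?_⟩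
  · refine sSup_le fun N ⟨hN0, hN, hmin⟩ => ?_
    haveI := hN
    haveI := CfsgLib.Cores.layer_normal (G := G)
    rcases hmin (N ⊓ Cfsg.layer G) inferInstance inf_le_left with h | h
    · have hcomm : ⁅N, Cfsg.layer G⁆ = ⊥ :=
        le_bot_iff.1 (h ▸ le_inf (Subgroup.commutator_le_left _ _) (Subgroup.commutator_le_right _ _))
      have hle := CfsgLib.Cores.centralizer_generalizedFittingSubgroup_le (G := G)
      rw [Cfsg.generalizedFittingSubgroup, hF, sup_bot_eq] at hle
      exact (Subgroup.commutator_eq_bot_iff_le_centralizer.1 hcomm).trans hle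
    · exact h.ge.trans inf_le_right
  · refine CfsgLib.Cores.layer_le_iff.2 fun L hL => ?_
    have hc : Subgroup.center ↥L = ⊥ := by
      have h1 : (Subgroup.center L).map L.subtype ≤ Cfsg.fittingSubgroup G :=
        CfsgLib.Cores.le_fittingSubgroup_of_isSubnormal
          ((Subgroup.Normal.isSubnormal inferInstance).trans' hL.1) (CfsgLib.Cores.isNilpotent_center_map L)
      rw [hF, le_bot_iff] at h1
      exact (Subgroup.map_eq_bot_iff_of_injective _ L.subtype_injective).1 h1
    obtain ⟨h1, h2⟩ := minimal_normalClosure hL hc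
    exact (Subgroup.le_normalClosure).trans (le_sSup ⟨h1, Subgroup.normalClosure_normal, h2⟩)

end Cfsg.Agent.S3747
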