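import Cfsg.Statements.S3748
import Cfsg.Agent.Lib.PGroup.Wielandt
import Cfsg.Agent.Lib.Cores.Fitting
import Cfsg.Agent.Lib.Cores.Coprime

set_option autoImplicit false
open Cfsg

namespace Cfsg.Agent.S3748

/-- Call a proper subgroup M of G primitive when M = N_G(N) for every non-trivial normal subgroup N of M. If M is a primitive subgroup of the finite group G, then no non-trivial subnormal subgroup of G is contained in M; in particular M ∩ F(G) = 1. -/
theorem result {G : Type*} [Group G] [Finite G] (M : Subgroup G) (hM : M ≠ ⊤) (hprim : ∀ N : Subgroup G, N ≤ M → M ≤ Subgroup.normalizer (N : Set G) → N ≠ ⊥ → Subgroup.normalizer (N : Set G) = M) : (∀ L : Subgroup G, L.IsSubnormal → L ≤ M → L = ⊥) ∧ M ⊓ Cfsg.fittingSubgroup G = ⊥ := by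
  have hA : ∀ L : Subgroup G, L.IsSubnormal → L ≤ M → L = ⊥ := by
    intro L hL hLM
    by_contra hLb
    -- replace `L` by a nontrivial subnormal subgroup of `G` that is normal in `M`
    set N := (Subgroup.normalClosure ((L.subgroupOf M : Subgroup M) : Set M)).map M.subtype with hNdef
    haveI hGn : Nontrivial G := by
      by_contra h
      rw [not_nontrivial_iff_subsingleton] at h
      exact hM (Subsingleton.elim _ _)
    obtain ⟨A, -, ⟨hAn, hAb⟩, hAmin⟩ := Finite.exists_le_minimal
      (p := fun A : Subgroup G => A.Normal ∧ A ≠ ⊥) (a := ⊤) ⟨inferInstance, top_ne_bot⟩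
    haveI := hAn
    have hmin : ∀ K : Subgroup G, K.Normal → K ≤ A → K = ⊥ ∨ K = A := fun K hK hKA => by
      rcases eq_or_ne K ⊥ with h | h
      · exact Or.inl h
      · exact Or.inr (le_antisymm hKA (hAmin ⟨hK, h⟩ hKA))
    have hNM : N ≤ M := Subgroup.map_subtype_le _
    have hMN : M ≤ Subgroup.normalizer (N : Set G) := by
      refine (Subgroup.normal_subgroupOf_iff_le_normalizer hNM).1 ?_
      rw [hNdef, Subgroup.subgroupOf, Subgroup.comap_map_eq_self_of_injective M.subtype_injective]
      exact Subgroup.normalClosure_normal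
    have hNb : N ≠ ⊥ := fun h => hLb (le_bot_iff.1 fun x hx => by
      rw [← h]
      exact ⟨⟨x, hLM hx⟩, Subgroup.subset_normalClosure hx, rfl⟩)
    -- the minimal normal subgroup normalizes all conjugates of `L` under `M`
    have hAN : A ≤ Subgroup.normalizer (N : Set G) := by
      have hNeq : N = ⨆ m : M, L.map (MulAut.conj (m : G)).toMonoidHom := by
        apply le_antisymm
        · rw [hNdef, Subgroup.map_le_iff_le_comap]
          refine (Subgroup.closure_le _).2 fun x hx => ?_
          obtain ⟨s, hs, hsx⟩ := Group.mem_conjugatesOfSet_iff.1 hx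
          obtain ⟨m, rfl⟩ := isConj_iff.1 hsx
          exact Subgroup.mem_iSup_of_mem m ⟨s, hs, rfl⟩
        · refine iSup_le fun m => ?_
          rintro _ ⟨x, hx, rfl⟩
          exact ⟨m * ⟨x, hLM hx⟩ * m⁻¹, Subgroup.normalClosure_normal.conj_mem _
            (Subgroup.subset_normalClosure (show (⟨x, hLM hx⟩ : M) ∈ L.subgroupOf M from hx)) _, rfl⟩
      intro a ha
      have hle : ∀ b ∈ A, N.map (MulAut.conj b).toMonoidHom ≤ N := by
        intro b hb
        rw [hNeq, Subgroup.map_iSup]
        refine iSup_le fun m => le_iSup_of_le m ?_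
        have hs : (L.map (MulAut.conj (m : G)).toMonoidHom).IsSubnormal :=
          hL.map (MulAut.conj (m : G)).surjective
        rintro _ ⟨y, hy, rfl⟩
        exact (Subgroup.mem_normalizer_iff.1
          (CfsgLib.PGroup.minimalNormal_le_normalizer hmin hs hb) y).1 hy
      refine Subgroup.mem_normalizer_iff.2 fun y => ⟨fun hy => hle a ha ⟨y, hy, rfl⟩, fun hy => ?_⟩
      have := hle a⁻¹ (A.inv_mem ha) ⟨_, hy, rfl⟩
      simpa [mul_assoc] using this
    rw [hprim N hNM hMN hNb] at hAN
    refine hM ?_
    rw [← hprim A hAN ?_ hAb, Subgroup.normalizer_eq_top_iff]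
    · exact hAn
    · rw [Subgroup.normalizer_eq_top_iff.2 hAn]; exact le_top
  refine ⟨hA, hA _ ?_ inf_le_left⟩
  have hF := CfsgLib.Cores.fittingSubgroup_normal (G := G)
  haveI := CfsgLib.Cores.isNilpotent_fittingSubgroup (G := G)
  refine Subgroup.IsSubnormal.trans inf_le_right ?_ hF.isSubnormal
  exact CfsgLib.PGroup.isSubnormal_of_isNilpotent _

end Cfsg.Agent.S3748
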