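import Cfsg.Statements.S3749
import Cfsg.Agent.Lib.Solvable.CoprimeAction
import Cfsg.Agent.Lib.Cores.Basic

set_option autoImplicit false
open Cfsg

namespace Cfsg.Agent.S3749

open scoped Pointwise

/-- Call a proper subgroup M of G primitive when M = N_G(N) for every non-trivial normal subgroup N of M. Let M be a primitive subgroup of the finite group G, p a prime with O_p(M) ≠ 1, and N a normal subgroup of G with M ∩ N = 1. Then p does not divide the order of N; for every prime q there is exactly one Sylow q-subgroup of N normalized by M; and if the order of N has at least two prime divisors then M is not a maximal subgroup of G. -/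
theorem result {G : Type*} [Group G] [Finite G] (M : Subgroup G) (hM : M ≠ ⊤) (hprim : ∀ N : Subgroup G, N ≤ M → M ≤ Subgroup.normalizer (N : Set G) → N ≠ ⊥ → Subgroup.normalizer (N : Set G) = M) {p : ℕ} [Fact p.Prime] (hOp : Cfsg.pCore p ↥M ≠ ⊥) (N : Subgroup G) [N.Normal] (hMN : M ⊓ N = ⊥) : ¬ p ∣ Nat.card N ∧ (∀ q : ℕ, [Fact q.Prime] → ∃! Q : Sylow q ↥N, M ≤ Subgroup.normalizer ((Q : Subgroup ↥N).map N.subtype : Set G)) ∧ ((∃ q r : ℕ, q.Prime ∧ r.Prime ∧ q ≠ r ∧ q ∣ Nat.card N ∧ r ∣ Nat.card N) → ¬ IsCoatom M) := by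
  have hp : p.Prime := Fact.out
  set P := (Cfsg.pCore p ↥M).map M.subtype with hP
  have hPp : IsPGroup p P := (CfsgLib.Cores.isPGroup_pCore p).map M.subtype
  have hPM : P ≤ M := Subgroup.map_subtype_le _
  have hPn : M ≤ Subgroup.normalizer (P : Set G) := by
    refine CfsgLib.Solvable.le_normalizer_of_conj_mem fun m hm x hx => ?_
    obtain ⟨y, hy, rfl⟩ := hx
    haveI : (Cfsg.pCore p ↥M).Normal := Subgroup.sSup_normal _ fun _ h => h.1
    exact ⟨⟨m, hm⟩ * y * ⟨m, hm⟩⁻¹, Subgroup.Normal.conj_mem ‹_› y hy ⟨m, hm⟩, rfl⟩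
  have hPne : P ≠ ⊥ := fun h => hOp ((Subgroup.map_eq_bot_iff_of_injective _ M.subtype_injective).1 h)
  have hNP : Subgroup.normalizer (P : Set G) = M := hprim P hPM hPn hPne
  have hPN : P ≤ Subgroup.normalizer (N : Set G) := Subgroup.le_normalizer_of_normal
  have hNPbot : N ⊓ P = ⊥ := le_bot_iff.1 (hMN ▸ le_inf (inf_le_right.trans hPM) inf_le_left)
  have hndvd : ¬ p ∣ Nat.card N := by
    intro hd
    set W := N ⊔ P with hW
    obtain ⟨S, hS⟩ := (hPp.of_equiv (Subgroup.subgroupOfEquivOfLe (le_sup_right : P ≤ W)).symm).exists_le_sylow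
    set S' := (S : Subgroup W).map W.subtype with hS'
    have hPS : P ≤ S' := fun x hx => ⟨⟨x, Subgroup.mem_sup_right hx⟩, hS hx, rfl⟩
    have hlt : P < S' := by
      refine lt_of_le_of_ne hPS fun e => ?_
      have hdvd : ¬ p ∣ (P.relIndex W) := by
        have h := S.not_dvd_index
        rw [e, hS', Subgroup.relIndex, Subgroup.subgroupOf, Subgroup.comap_map_eq_self_of_injective W.subtype_injective]
        exact h
      have hc := CfsgLib.Solvable.card_sup_of_disjoint hPN hNPbot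
      have h2 : Nat.card P * P.relIndex W = Nat.card W := by
        rw [← Subgroup.relIndex_bot_left, ← Subgroup.relIndex_bot_left W,
          Subgroup.relIndex_mul_relIndex ⊥ P W bot_le le_sup_right]
      rw [hc, mul_comm (Nat.card N)] at h2
      exact hdvd (Nat.eq_of_mul_eq_mul_left Nat.card_pos h2 ▸ hd)
    have hS'p : IsPGroup p S' := S.2.map W.subtype
    haveI := hS'p.isNilpotent
    have hne : P.subgroupOf S' < ⊤ := lt_top_iff_ne_top.2 fun e =>
      hlt.not_ge (Subgroup.subgroupOf_eq_top.1 e)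
    have hlt' := Group.normalizerCondition_of_isNilpotent (G := ↥S') _ hne
    rw [← Subgroup.subgroupOf_normalizer_eq hPS] at hlt'
    refine hlt'.not_ge fun x' hx' => ?_
    rw [Subgroup.mem_subgroupOf] at hx' ⊢
    set x := (x' : G) with hxdef
    have hx : x ∈ S' ∧ x ∈ Subgroup.normalizer (P : Set G) := ⟨x'.2, hx'⟩
    have hxM : x ∈ M := hNP ▸ hx.2
    obtain ⟨n, hn, y, hy, hxy⟩ := CfsgLib.Solvable.exists_mul_of_mem_sup hPN
      (Subgroup.map_subtype_le _ hx.1 : x ∈ W)
    have : n ∈ M ⊓ N := ⟨by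
      have := mul_mem hxM (inv_mem (hPM hy))
      rwa [hxy, mul_inv_cancel_right] at this, hn⟩
    rw [hMN, Subgroup.mem_bot] at this
    show x ∈ P
    rw [hxy, this, one_mul]; exact hy
  have hcop : (Nat.card P).Coprime (Nat.card N) := by
    obtain ⟨n, hn⟩ := IsPGroup.iff_card.1 hPp
    rw [hn]; exact Nat.Coprime.pow_left _ (hp.coprime_iff_not_dvd.2 hndvd)
  have hs : Group.IsSolvable P ∨ Group.IsSolvable N := Or.inl (by haveI := hPp.isNilpotent; infer_instance)
  have huniq : ∀ q : ℕ, [Fact q.Prime] → ∃! Q : Sylow q ↥N,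
      M ≤ Subgroup.normalizer ((Q : Subgroup ↥N).map N.subtype : Set G) := by
    intro q _
    obtain ⟨Q, hQ⟩ := CfsgLib.Solvable.exists_invariant_sylow P N hPN hcop hs q
    have hcen : ∀ Q' : Sylow q N, P ≤ Subgroup.normalizer ((Q' : Subgroup N).map N.subtype : Set G) →
        (Q : Subgroup N).map N.subtype = (Q' : Subgroup N).map N.subtype := by
      intro Q' hQ'
      obtain ⟨c, ⟨hcN, hcP⟩, hc⟩ := CfsgLib.Solvable.exists_centralizer_conj_sylow P N hPN hcop hs Q Q' hQ hQ'
      have : c ∈ M ⊓ N := ⟨hNP ▸ Subgroup.centralizer_le_normalizer _ hcP, hcN⟩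
      rw [hMN, Subgroup.mem_bot] at this
      rwa [this, map_one, one_smul] at hc
    refine ⟨Q, fun m hm => ?_, fun Q' hQ' => ?_⟩
    · set H := (Q : Subgroup N).map N.subtype
      have hle : MulAut.conj m • H ≤ N := CfsgLib.Solvable.conj_smul_le_iff.2 fun x hx =>
        Subgroup.Normal.conj_mem ‹_› x (Subgroup.map_subtype_le _ hx) m
      obtain ⟨Q', hQ'⟩ := CfsgLib.Solvable.exists_sylow_map_eq hle Q
        (by rw [CfsgLib.Solvable.card_conj_smul, CfsgLib.Solvable.card_sylow_map])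
      refine CfsgLib.Solvable.mem_normalizer_iff_conj_smul.2 (hQ'.symm.trans (hcen Q' ?_).symm)
      rw [hQ']
      intro x hx
      have hx' : m⁻¹ * x * m ∈ P := (Subgroup.mem_normalizer_iff''.1 (hPn hm) x).1 hx
      rw [CfsgLib.Solvable.mem_normalizer_iff_conj_smul, CfsgLib.Solvable.conj_smul_conj_smul,
        show x * m = m * (m⁻¹ * x * m) by group, ← CfsgLib.Solvable.conj_smul_conj_smul,
        CfsgLib.Solvable.conj_smul_self_of_mem_normalizer (hQ hx')]
    · exact Sylow.ext (Subgroup.map_injective N.subtype_injective (hcen Q' (hPM.trans hQ')).symm)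
  refine ⟨hndvd, huniq, ?_⟩
  rintro ⟨q, r, hq, hr, hqr, hqN, hrN⟩ hco
  haveI : Fact q.Prime := ⟨hq⟩
  obtain ⟨Q, hQ, -⟩ := huniq q
  set H := (Q : Subgroup N).map N.subtype
  have hHne : H ≠ ⊥ := fun e => Q.ne_bot_of_dvd_card hqN
    ((Subgroup.map_eq_bot_iff_of_injective _ N.subtype_injective).1 e)
  have hHN : H ≤ N := Subgroup.map_subtype_le _
  have htop : H ⊔ M = ⊤ := hco.2 _ (lt_of_le_of_ne le_sup_right fun e => hHne
    (le_bot_iff.1 (hMN ▸ le_inf (e ▸ le_sup_left) hHN)))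
  have hNH : N ≤ H := fun x hx => by
    obtain ⟨h, hh, m, hm, rfl⟩ := CfsgLib.Solvable.exists_mul_of_mem_sup hQ
      (htop ▸ Subgroup.mem_top x : x ∈ H ⊔ M)
    have : m ∈ M ⊓ N := ⟨hm, by simpa using mul_mem (inv_mem (hHN hh)) hx⟩
    rw [hMN, Subgroup.mem_bot] at this
    rw [this, mul_one]; exact hh
  obtain ⟨k, hk⟩ := IsPGroup.iff_card.1 (Q.2.map N.subtype)
  have hd : r ∣ q ^ k := hk ▸ hrN.trans (Subgroup.card_dvd_of_le hNH)
  exact hqr ((Nat.prime_dvd_prime_iff_eq hr hq).1 (hr.dvd_of_dvd_pow hd)).symm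

end Cfsg.Agent.S3749
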