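import Cfsg.Statements.S3750
import Cfsg.Agent.Lib.Cores.Layer2

set_option autoImplicit false
open Cfsg

namespace Cfsg.Agent.S3750

/-- Call a proper subgroup M of G primitive when M = N_G(N) for every non-trivial normal subgroup N of M. Let M be a primitive subgroup of the finite group G and N a normal subgroup of G with M ∩ F*(N) ≠ 1. Then F(G) = 1 and F*(N) = F*(G) = E(G); in particular every minimal normal subgroup of G is contained in N. -/
theorem result {G : Type*} [Group G] [Finite G] (M : Subgroup G) (hM : M ≠ ⊤) (hprim : ∀ N : Subgroup G, N ≤ M → M ≤ Subgroup.normalizer (N : Set G) → N ≠ ⊥ → Subgroup.normalizer (N : Set G) = M) (N : Subgroup G) [N.Normal] (hMF : M ⊓ (Cfsg.generalizedFittingSubgroup ↥N).map N.subtype ≠ ⊥) : Cfsg.fittingSubgroup G = ⊥ ∧ (Cfsg.generalizedFittingSubgroup ↥N).map N.subtype = Cfsg.generalizedFittingSubgroup G ∧ Cfsg.generalizedFittingSubgroup G = Cfsg.layer G ∧ ∀ K : Subgroup G, K.Normal → K ≠ ⊥ → (∀ K' : Subgroup G, K'.Normal → K' ≤ K → K' = ⊥ ∨ K' = K) → K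 ≤ N := by
  classical
  have hFN := CfsgLib.Cores.generalizedFittingSubgroup_of_normal N
  set FN := (Cfsg.generalizedFittingSubgroup ↥N).map N.subtype with hFNdef
  haveI hFsn : (Cfsg.generalizedFittingSubgroup G).Normal := CfsgLib.Cores.generalizedFittingSubgroup_normal
  haveI hFNn : FN.Normal := hFN ▸ (Subgroup.normal_inf_normal _ _)
  let D : Subgroup G := M ⊓ FN
  have hDN : Subgroup.normalizer (D : Set G) = M := by
    refine hprim D inf_le_left (fun m hm => ?_) hMF
    rw [Subgroup.mem_normalizer_iff]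
    intro y
    constructor
    · exact fun hy => ⟨M.mul_mem (M.mul_mem hm hy.1) (M.inv_mem hm), hFNn.conj_mem y hy.2 m⟩
    · intro hy
      refine ⟨?_, ?_⟩
      · simpa [mul_assoc] using M.mul_mem (M.mul_mem (M.inv_mem hm) hy.1) hm
      · simpa [mul_assoc] using hFNn.conj_mem _ hy.2 m⁻¹
  have hcentD : ∀ K : Subgroup G, (∀ k ∈ K, ∀ d ∈ D, d * k = k * d) → K ≤ M := fun K hK k hk =>
    hDN ▸ Subgroup.centralizer_le_normalizer (D : Set G) (Subgroup.mem_centralizer_iff.2 (hK k hk))
  have hnoN : ∀ K : Subgroup G, K.Normal → K ≤ M → K = ⊥ := by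
    intro K hKn hKM
    by_contra hKb
    refine hM ?_
    rw [← hprim K hKM (by rw [Subgroup.normalizer_eq_top_iff.2 hKn]; exact le_top) hKb]
    exact Subgroup.normalizer_eq_top_iff.2 hKn
  have hDle : D ≤ N := inf_le_right.trans (Subgroup.map_subtype_le _)
  have hF : Cfsg.fittingSubgroup G = ⊥ := by
    by_contra hFb
    haveI : Group.IsNilpotent (Cfsg.fittingSubgroup G) := CfsgLib.Cores.isNilpotent_fittingSubgroup
    haveI : Nontrivial (Cfsg.fittingSubgroup G) := (Subgroup.nontrivial_iff_ne_bot _).2 hFb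
    haveI : (Cfsg.fittingSubgroup G).Normal := CfsgLib.Cores.fittingSubgroup_normal
    have hZ : ((Subgroup.center (Cfsg.fittingSubgroup G)).map (Cfsg.fittingSubgroup G).subtype).Normal :=
      CfsgLib.Cores.map_center_normal _
    have hle := hcentD ((Subgroup.center (Cfsg.fittingSubgroup G)).map (Cfsg.fittingSubgroup G).subtype) (by
      rintro _ ⟨z, hz, rfl⟩ d hd
      have h1 : Cfsg.generalizedFittingSubgroup G ≤ Subgroup.centralizer {(z : G)} := by
        refine sup_le ?_ ?_
        · intro e he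
          rw [Subgroup.mem_centralizer_singleton_iff]
          exact (Subgroup.mem_centralizer_iff.1 (CfsgLib.Cores.layer_le_centralizer_fittingSubgroup he) z z.2).symm
        · intro f hf
          rw [Subgroup.mem_centralizer_singleton_iff]
          exact congrArg Subtype.val (Subgroup.mem_center_iff.1 hz ⟨f, hf⟩)
      exact Subgroup.mem_centralizer_singleton_iff.1 (h1 ((hFN.le hd.2).1)))
    have hbot := hnoN _ hZ hle
    rw [(Subgroup.map_eq_bot_iff_of_injective _ (Cfsg.fittingSubgroup G).subtype_injective)] at hbot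
    exact Group.IsNilpotent.center_ne_bot (G := ↥(Cfsg.fittingSubgroup G)) hbot
  have hEN : Cfsg.layer G ≤ N := by
    rw [CfsgLib.Cores.layer_le_iff]
    intro L hL
    by_contra hLN
    refine CfsgLib.Cores.component_ne_bot hL (le_bot_iff.1 ?_)
    rw [← hnoN (Subgroup.normalClosure (L : Set G)) inferInstance ?_]
    · exact Subgroup.subset_normalClosure
    rw [Subgroup.normalClosure, Subgroup.closure_le]
    intro y hy
    obtain ⟨x, hx, hxy⟩ := Group.mem_conjugatesOfSet_iff.1 hy
    obtain ⟨g, rfl⟩ := isConj_iff.1 hxy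
    have hLg : Cfsg.IsComponent (L.map (MulAut.conj g).toMonoidHom) := CfsgLib.Cores.isComponent_map_equiv (MulAut.conj g) hL
    have hnle : ¬ L.map (MulAut.conj g).toMonoidHom ≤ N := fun h => hLN fun l hl => by
      simpa [mul_assoc] using (inferInstance : N.Normal).conj_mem _ (h ⟨l, hl, rfl⟩) g⁻¹
    have hcomm := (CfsgLib.Cores.component_le_or_commutator_eq_bot hLg
      (Subgroup.Normal.isSubnormal (inferInstance : N.Normal))).resolve_left hnle
    refine hcentD (L.map (MulAut.conj g).toMonoidHom) (fun k hk d hd => ?_) ⟨x, hx, rfl⟩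
    exact Subgroup.mem_centralizer_iff.1 ((Subgroup.commutator_eq_bot_iff_le_centralizer.1 hcomm) hk) d (hDle hd)
  have hgen : Cfsg.generalizedFittingSubgroup G = Cfsg.layer G := by
    rw [Cfsg.generalizedFittingSubgroup, hF, sup_bot_eq]
  refine ⟨hF, ?_, hgen, fun K hK hKb hKmin => ?_⟩
  · rw [hFN, inf_eq_left]
    rw [hgen]; exact hEN
  · rcases hKmin (K ⊓ N) (Subgroup.normal_inf_normal _ _) inf_le_left with h | h
    · exfalso
      refine hKb (hnoN K hK (hcentD K fun k hk d hd => ?_))
      have : d * k * d⁻¹ * k⁻¹ ∈ K ⊓ N := by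
        refine ⟨K.mul_mem (hK.conj_mem k hk d) (K.inv_mem hk), ?_⟩
        rw [mul_assoc d, mul_assoc d]
        exact N.mul_mem (hDle hd) ((inferInstance : N.Normal).conj_mem _ (N.inv_mem (hDle hd)) k)
      rw [h, Subgroup.mem_bot, mul_inv_eq_one, mul_inv_eq_iff_eq_mul] at this
      exact this
    · exact inf_eq_left.1 h

end Cfsg.Agent.S3750
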