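import Cfsg.Statements.S3751
import Cfsg.Agent.Lib.Cores.Basic
import Cfsg.Agent.Lib.Solvable.Basic

set_option autoImplicit false
open Cfsg

namespace Cfsg.Agent.S3751

universe u

open scoped commutatorElement

variable {G : Type u} [Group G] [Finite G] {p : ℕ} [hp : Fact p.Prime]

/-- `O_p(M)` as a subgroup of `G`. -/
def Op (p : ℕ) (M : Subgroup G) : Subgroup G := (Cfsg.pCore p ↥M).map M.subtype

def IsLocal (p : ℕ) (M : Subgroup G) : Prop :=
  ∃ T : Subgroup G, IsPGroup p T ∧ T ≠ ⊥ ∧ M = Subgroup.normalizer (T : Set G)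

def IsML (p : ℕ) (M : Subgroup G) : Prop :=
  IsLocal p M ∧ ∀ L : Subgroup G, IsLocal p L → M ≤ L → L = M

def SylIn (p : ℕ) (T M : Subgroup G) : Prop :=
  T ≤ M ∧ IsPGroup p T ∧ ∀ X : Subgroup G, T ≤ X → X ≤ M → IsPGroup p X → X ≤ T

theorem Op_le (M : Subgroup G) : Op p M ≤ M := Subgroup.map_subtype_le _

theorem isPGroup_Op (M : Subgroup G) : IsPGroup p (Op p M) :=
  (CfsgLib.Cores.isPGroup_pCore p).map _

theorem le_normalizer_Op (M : Subgroup G) : M ≤ Subgroup.normalizer (Op p M : Set G) :=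
  CfsgLib.Solvable.le_normalizer_of_conj_mem fun m hm => by
    rintro _ ⟨k, hk, rfl⟩
    exact ⟨⟨m, hm⟩ * k * ⟨m, hm⟩⁻¹,
      (Subgroup.sSup_normal _ fun N hN => hN.1 : (Cfsg.pCore p ↥M).Normal).conj_mem k hk _, rfl⟩

theorem le_Op {X M : Subgroup G} (hX : IsPGroup p X) (hXM : X ≤ M)
    (hn : M ≤ Subgroup.normalizer (X : Set G)) : X ≤ Op p M := by
  haveI : (X.subgroupOf M).Normal := (Subgroup.normal_subgroupOf_iff_le_normalizer hXM).2 hn
  have h1 := CfsgLib.Cores.le_pCore (N := X.subgroupOf M) (hX.of_equiv (Subgroup.subgroupOfEquivOfLe hXM).symm)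
  intro x hx
  exact ⟨⟨x, hXM hx⟩, h1 (Subgroup.mem_subgroupOf.2 hx), rfl⟩

theorem normalizer_le_normalizer_Op (M : Subgroup G) :
    Subgroup.normalizer (M : Set G) ≤ Subgroup.normalizer (Op p M : Set G) := by
  intro g hg
  have h1 : ∀ g ∈ Subgroup.normalizer (M : Set G), ∀ x ∈ Op p M, g * x * g⁻¹ ∈ Op p M := by
    intro g hg x hx
    have hmap : (Op p M).map (MulAut.conj g).toMonoidHom ≤ Op p M := by
      refine le_Op ((isPGroup_Op M).map _) ?_ ?_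
      · rintro _ ⟨y, hy, rfl⟩
        exact (Subgroup.mem_normalizer_iff.1 hg y).1 (Op_le M hy)
      · refine CfsgLib.Solvable.le_normalizer_of_conj_mem fun m hm => ?_
        rintro _ ⟨y, hy, rfl⟩
        have hm' : g⁻¹ * m * g ∈ M := by
          have := (Subgroup.mem_normalizer_iff.1 (inv_mem hg) m).1 hm
          rwa [inv_inv] at this
        refine ⟨(g⁻¹ * m * g) * y * (g⁻¹ * m * g)⁻¹, (Subgroup.mem_normalizer_iff.1 (le_normalizer_Op M hm') y).1 hy, ?_⟩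
        show g * (g⁻¹ * m * g * y * (g⁻¹ * m * g)⁻¹) * g⁻¹ = m * (g * y * g⁻¹) * m⁻¹
        group
    exact hmap ⟨x, hx, rfl⟩
  refine Subgroup.mem_normalizer_iff.2 fun x => ⟨h1 g hg x, fun hx => ?_⟩
  have := h1 g⁻¹ (inv_mem hg) _ hx
  rwa [inv_inv, show g⁻¹ * (g * x * g⁻¹) * g = x by group] at this

theorem Op_ne_bot {M : Subgroup G} (hM : IsLocal p M) : Op p M ≠ ⊥ := by
  obtain ⟨T, hT, hT1, rfl⟩ := hM
  exact fun h => hT1 (le_bot_iff.1 (h ▸ le_Op hT Subgroup.le_normalizer le_rfl))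

theorem normalizer_Op_eq {M : Subgroup G} (hM : IsML p M) : Subgroup.normalizer (Op p M : Set G) = M :=
  hM.2 _ ⟨_, isPGroup_Op M, Op_ne_bot hM.1, rfl⟩ (le_normalizer_Op M)

theorem normalizer_eq {M : Subgroup G} (hM : IsML p M) : Subgroup.normalizer (M : Set G) = M :=
  le_antisymm ((normalizer_le_normalizer_Op M).trans (normalizer_Op_eq hM).le) Subgroup.le_normalizer

theorem exists_ML_ge {M : Subgroup G} (hM : IsLocal p M) : ∃ H, M ≤ H ∧ IsML p H := by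
  classical
  obtain ⟨H, ⟨hH, hMH⟩, hmax⟩ := Set.Finite.exists_maximal (Set.toFinite {H : Subgroup G | IsLocal p H ∧ M ≤ H})
    ⟨M, hM, le_rfl⟩
  exact ⟨H, hMH, hH, fun L hL hHL => le_antisymm (hmax ⟨hL, hMH.trans hHL⟩ hHL) hHL⟩

theorem isLocal_conj {M : Subgroup G} (hM : IsLocal p M) (g : G) :
    IsLocal p (M.map (MulAut.conj g).toMonoidHom) := by
  obtain ⟨T, hT, hT1, rfl⟩ := hM
  refine ⟨T.map (MulAut.conj g).toMonoidHom, hT.map _, fun h => hT1 ?_, ?_⟩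
  · exact (Subgroup.map_eq_bot_iff_of_injective _ (MulAut.conj g).injective).1 h
  · rw [Subgroup.map_normalizer_eq_of_bijective _ (MulAut.conj g).bijective]

theorem conj_conj_inv (M : Subgroup G) (g : G) :
    (M.map (MulAut.conj g).toMonoidHom).map (MulAut.conj g⁻¹).toMonoidHom = M := by
  rw [Subgroup.map_map]
  convert Subgroup.map_id M using 2
  ext x
  show g⁻¹ * (g * x * g⁻¹) * g⁻¹⁻¹ = x
  group

theorem isML_conj {M : Subgroup G} (hM : IsML p M) (g : G) :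
    IsML p (M.map (MulAut.conj g).toMonoidHom) := by
  refine ⟨isLocal_conj hM.1 g, fun L hL hle => ?_⟩
  have h1 := hM.2 _ (isLocal_conj hL g⁻¹) (le_trans (conj_conj_inv M g).ge (Subgroup.map_mono hle))
  rw [← h1]
  have := conj_conj_inv L g⁻¹
  rw [inv_inv] at this
  exact this.symm

theorem exists_normalizing_gt {T X : Subgroup G} (hX : IsPGroup p X) [Fact p.Prime] (hTX : T ≤ X) (hne : ¬ X ≤ T) :
    ∃ n ∈ X, n ∉ T ∧ n ∈ Subgroup.normalizer (T : Set G) := by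
  haveI := hX.isNilpotent
  have hlt : T.subgroupOf X < ⊤ := lt_of_le_of_ne le_top fun e =>
    hne (Subgroup.subgroupOf_eq_top.1 e)
  obtain ⟨n, hn, hnT⟩ := SetLike.exists_of_lt (Group.normalizerCondition_of_isNilpotent _ hlt)
  refine ⟨n, n.2, fun h => hnT (Subgroup.mem_subgroupOf.2 h), ?_⟩
  rw [← Subgroup.subgroupOf_normalizer_eq hTX] at hn
  exact hn

theorem Op_le_of_sylIn {T M : Subgroup G} (h : SylIn p T M) : Op p M ≤ T := by
  obtain ⟨hTM, hT, hmax⟩ := h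
  exact le_trans le_sup_right (hmax (T ⊔ Op p M) le_sup_left (sup_le hTM (Op_le M))
    (hT.to_sup_of_normal_right' (isPGroup_Op M) (hTM.trans (le_normalizer_Op M))))

theorem primitive_side {M : Subgroup G} (hM : IsML p M)
    (hc : Subgroup.centralizer (Cfsg.pCore p ↥M : Set ↥M) ≤ Cfsg.pCore p ↥M)
    {A : Subgroup G} (hA : A ≠ ⊥) (hAM : A ≤ M) (hn : M ≤ Subgroup.normalizer (A : Set G)) :
    Subgroup.normalizer (A : Set G) = M := by
  have hne : A ⊓ Op p M ≠ ⊥ := by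
    intro h0
    refine hA ((Subgroup.eq_bot_iff_forall A).2 fun a ha => ?_)
    have hac : ∀ y ∈ Op p M, y * a = a * y := fun y hy => by
      have h1 : ⁅y, a⁆ ∈ A ⊓ Op p M := by
        refine ⟨?_, ?_⟩
        · rw [commutatorElement_def]
          exact Subgroup.mul_mem _ ((Subgroup.mem_normalizer_iff.1 (hn (Op_le M hy)) a).1 ha) (Subgroup.inv_mem _ ha)
        · rw [commutatorElement_def, show y * a * y⁻¹ * a⁻¹ = y * (a * y⁻¹ * a⁻¹) by group]
          exact Subgroup.mul_mem _ hy ((Subgroup.mem_normalizer_iff.1 (le_normalizer_Op M (hAM ha)) _).1 (Subgroup.inv_mem _ hy))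
      rw [h0, Subgroup.mem_bot, commutatorElement_eq_one_iff_mul_comm] at h1
      exact h1
    have h2 : (⟨a, hAM ha⟩ : M) ∈ Cfsg.pCore p ↥M := hc (Subgroup.mem_centralizer_iff.2 fun y hy =>
      Subtype.ext (hac y ⟨y, hy, rfl⟩))
    have h3 : a ∈ A ⊓ Op p M := ⟨ha, ⟨_, h2, rfl⟩⟩
    rwa [h0, Subgroup.mem_bot] at h3
  have h1 : A ⊓ Op p M ≤ Op p A := le_Op ((isPGroup_Op M).to_le inf_le_right) inf_le_left
    (CfsgLib.Solvable.le_normalizer_of_conj_mem fun a ha x hx =>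
      ⟨Subgroup.mul_mem _ (Subgroup.mul_mem _ ha hx.1) (Subgroup.inv_mem _ ha),
        (Subgroup.mem_normalizer_iff.1 (le_normalizer_Op M (hAM ha)) x).1 hx.2⟩)
  have hB : Op p A ≠ ⊥ := fun h => hne (le_bot_iff.1 (h ▸ h1))
  have h2 := hM.2 _ ⟨_, isPGroup_Op A, hB, rfl⟩ (hn.trans (normalizer_le_normalizer_Op A))
  exact le_antisymm (h2 ▸ normalizer_le_normalizer_Op A) hn

/-- Two distinct subgroups M₁, M₂ of G form a primitive pair when, for {i, j} = {1, 2}, every non-trivial normal subgroup A of M_i contained in M₁ ∩ M₂ satisfies N_{M_j}(A) = M₁ ∩ M₂; the pair has characteristic p when moreover C_{M_i}(O_p(M_i)) ≤ O_p(M_i) for both i and O_p(M₁)O_p(M₂) ≤ M₁ ∩ M₂. Let G be a finite group, p a prime dividing its order, with O_p(G) = 1 and every p-local subgroup of characteristic p. Then either G has a primitive pair of characteristic p, or every maximal p-local subgroup M of G is strongly p-embedded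 in G: M is a proper subgroup, p divides its order, and for every g ∉ M the order of M ∩ gMg⁻¹ is prime to p. -/
theorem result {G : Type*} [Group G] [Finite G] {p : ℕ} [Fact p.Prime] (hloc : Cfsg.IsOfLocalCharacteristic p G) (hOp : Cfsg.pCore p G = ⊥) : (∃ M₁ M₂ : Subgroup G, M₁ ≠ M₂ ∧ (∀ A : Subgroup G, A ≠ ⊥ → A ≤ M₁ ⊓ M₂ → (M₁ ≤ Subgroup.normalizer (A : Set G) → M₂ ⊓ Subgroup.normalizer (A : Set G) = M₁ ⊓ M₂) ∧ (M₂ ≤ Subgroup.normalizer (A : Set G) → M₁ ⊓ Subgroup.normalizer (A : Set G) = M₁ ⊓ M₂)) ∧ Subgroup.centralizer (Cfsg.pCore p ↥M₁ : Set ↥M₁) ≤ Cfsg.pCore p ↥M₁ ∧ Subgroup.centralizer (Cfsg.pCore p ↥M₂ : Set ↥M₂) ≤ Cfsg.pCore p ↥M₂ ∧ (Cfsg.pCore p ↥M₁).map M₁.subtype ⊔ (Cfsg.pCore p ↥M₂).map M₂.subtype ≤ M₁ ⊓ M₂) ∨ (∀ M : Subgroup G, (∃ T : Subgroup G, IsPGroup p T ∧ T ≠ ⊥ ∧ M = Subgroup.normalizer (T : Set G)) → (∀ L : Subgroup G, (∃ T : Subgroup G, IsPGroup p T ∧ T ≠ ⊥ ∧ L = Subgroup.normalizer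 (T : Set G)) → M ≤ L → L = M) → M ≠ ⊤ ∧ p ∣ Nat.card M ∧ ∀ g : G, g ∉ M → ¬ p ∣ Nat.card ↥(M ⊓ M.map (MulAut.conj g).toMonoidHom)) := by
  classical
  by_cases hall : ∀ M : Subgroup G, IsML p M → ∀ g : G, g ∉ M → ¬ p ∣ Nat.card ↥(M ⊓ M.map (MulAut.conj g).toMonoidHom)
  · refine Or.inr fun M hM hmax => ⟨?_, ?_, hall M ⟨hM, hmax⟩⟩
    · intro htop
      obtain ⟨T, hT, hT1, hMT⟩ := hM
      haveI : T.Normal := Subgroup.normalizer_eq_top_iff.1 (hMT ▸ htop)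
      exact hT1 (le_bot_iff.1 (hOp ▸ CfsgLib.Cores.le_pCore hT))
    · obtain ⟨T, hT, hT1, rfl⟩ := hM
      obtain ⟨k, hk⟩ := hT.exists_card_eq
      have h1 : p ∣ Nat.card T := by
        rw [hk]
        refine dvd_pow_self p fun h0 => hT1 (Subgroup.card_eq_one.1 ?_)
        rw [hk, h0, pow_zero]
      exact h1.trans (Subgroup.card_dvd_of_le Subgroup.le_normalizer)
  left
  push Not at hall
  obtain ⟨M₀, hM₀, g, hg, hdvd⟩ := hall
  have hM₀' : M₀.map (MulAut.conj g).toMonoidHom ≠ M₀ := fun e => hg (by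
    rw [← normalizer_eq hM₀]
    refine Subgroup.mem_normalizer_iff.2 fun x => ⟨fun hx => ?_, fun hx => ?_⟩
    · rw [← e]; exact ⟨x, hx, rfl⟩
    · rw [← e] at hx
      obtain ⟨y, hy, hyx⟩ := hx
      rwa [show x = y from (MulAut.conj g).injective hyx.symm])
  obtain ⟨t, ht⟩ := exists_prime_orderOf_dvd_card' p hdvd
  let S : Set (Subgroup G × Subgroup G × Subgroup G) :=
    {q | IsML p q.1 ∧ IsML p q.2.1 ∧ q.1 ≠ q.2.1 ∧ q.2.2 ≤ q.1 ⊓ q.2.1 ∧ IsPGroup p q.2.2}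
  have ht0 : IsPGroup p (Subgroup.zpowers (t : G)) := IsPGroup.of_card (n := 1) (by
    rw [Nat.card_zpowers, Subgroup.orderOf_coe, ht, pow_one])
  have hS : S.Nonempty := ⟨⟨M₀, M₀.map (MulAut.conj g).toMonoidHom, Subgroup.zpowers (t : G)⟩,
    hM₀, isML_conj hM₀ g, hM₀'.symm, Subgroup.zpowers_le.2 t.2, ht0⟩
  obtain ⟨⟨M, L, T⟩, ⟨hM, hL, hML, hTle, hT⟩, hmax⟩ :=
    Set.exists_max_image S (fun q => Nat.card q.2.2) (Set.toFinite _) hS
  simp only at hM hL hML hTle hT hmax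
  have hT1 : T ≠ ⊥ := by
    intro h0
    have h1 : Nat.card (Subgroup.zpowers (t : G)) ≤ Nat.card T :=
      hmax ⟨M₀, M₀.map (MulAut.conj g).toMonoidHom, Subgroup.zpowers (t : G)⟩
        ⟨hM₀, isML_conj hM₀ g, hM₀'.symm, Subgroup.zpowers_le.2 t.2, ht0⟩
    rw [h0, Subgroup.card_bot, Nat.card_zpowers, Subgroup.orderOf_coe, ht] at h1
    exact absurd (Fact.out : p.Prime).one_lt (not_lt.2 h1)
  have hbig : ∀ M' L' X : Subgroup G, IsML p M' → IsML p L' → M' ≠ L' → T ≤ X → X ≤ M' → X ≤ L' →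
      IsPGroup p X → X ≤ T := fun M' L' X h1 h2 h3 h4 h5 h6 h7 =>
    (Subgroup.eq_of_le_of_card_ge h4 (hmax ⟨M', L', X⟩ ⟨h1, h2, h3, le_inf h5 h6, h7⟩)).ge
  have hfinish : ∀ M₁ M₂ : Subgroup G, IsML p M₁ → IsML p M₂ → M₁ ≠ M₂ → SylIn p T M₁ → SylIn p T M₂ →
      T ≤ M₁ ⊓ M₂ → ∃ M₁ M₂ : Subgroup G, M₁ ≠ M₂ ∧ (∀ A : Subgroup G, A ≠ ⊥ → A ≤ M₁ ⊓ M₂ →
        (M₁ ≤ Subgroup.normalizer (A : Set G) → M₂ ⊓ Subgroup.normalizer (A : Set G) = M₁ ⊓ M₂) ∧
        (M₂ ≤ Subgroup.normalizer (A : Set G) → M₁ ⊓ Subgroup.normalizer (A : Set G) = M₁ ⊓ M₂)) ∧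
        Subgroup.centralizer (Cfsg.pCore p ↥M₁ : Set ↥M₁) ≤ Cfsg.pCore p ↥M₁ ∧
        Subgroup.centralizer (Cfsg.pCore p ↥M₂ : Set ↥M₂) ≤ Cfsg.pCore p ↥M₂ ∧
        (Cfsg.pCore p ↥M₁).map M₁.subtype ⊔ (Cfsg.pCore p ↥M₂).map M₂.subtype ≤ M₁ ⊓ M₂ := by
    intro M₁ M₂ h1 h2 hne hs1 hs2 hle
    have hch : ∀ M : Subgroup G, IsML p M → Subgroup.centralizer (Cfsg.pCore p ↥M : Set ↥M) ≤ Cfsg.pCore p ↥M := by
      intro M hM
      obtain ⟨T', hT', hT'1, rfl⟩ := hM.1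
      exact hloc.2 T' hT' hT'1
    refine ⟨M₁, M₂, hne, fun A hA hAle => ⟨fun hn => ?_, fun hn => ?_⟩, hch M₁ h1, hch M₂ h2,
      sup_le ((Op_le_of_sylIn hs1).trans hle) ((Op_le_of_sylIn hs2).trans hle)⟩
    · rw [primitive_side h1 (hch M₁ h1) hA (hAle.trans inf_le_left) hn, inf_comm]
    · rw [primitive_side h2 (hch M₂ h2) hA (hAle.trans inf_le_right) hn]
  have key : ∀ M L : Subgroup G, IsML p M → IsML p L → M ≠ L → T ≤ M ⊓ L → ¬ SylIn p T M →
      ∃ L', IsML p L' ∧ L ≠ L' ∧ SylIn p T L ∧ SylIn p T L' := by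
    intro M L hM hL hML hTle hns
    obtain ⟨X, hTX, hXM, hX, hXT⟩ : ∃ X, T ≤ X ∧ X ≤ M ∧ IsPGroup p X ∧ ¬ X ≤ T := by
      by_contra hne
      push Not at hne
      exact hns ⟨hTle.trans inf_le_left, hT, hne⟩
    obtain ⟨n, hnX, hnT, hnN⟩ := exists_normalizing_gt hX hTX hXT
    obtain ⟨H, hNH, hH⟩ := exists_ML_ge (p := p) (M := Subgroup.normalizer (T : Set G)) ⟨T, hT, hT1, rfl⟩
    have hT' : IsPGroup p ↥(T ⊔ Subgroup.zpowers n) :=
      hX.to_le (sup_le hTX (Subgroup.zpowers_le.2 hnX))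
    have hnot : ¬ T ⊔ Subgroup.zpowers n ≤ T := fun h =>
      hnT (h (Subgroup.mem_sup_right (Subgroup.mem_zpowers n)))
    have hHM : H = M := by
      by_contra hne
      exact hnot (hbig H M _ hH hM hne le_sup_left
        (sup_le (Subgroup.le_normalizer.trans hNH) (Subgroup.zpowers_le.2 (hNH hnN)))
        (sup_le (hTle.trans inf_le_left) (Subgroup.zpowers_le.2 (hXM hnX))) hT')
    have hsL : SylIn p T L := by
      refine ⟨hTle.trans inf_le_right, hT, fun Y hTY hYL hY => ?_⟩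
      by_contra hYT
      obtain ⟨m, hmY, hmT, hmN⟩ := exists_normalizing_gt hY hTY hYT
      exact hmT (hbig M L (T ⊔ Subgroup.zpowers m) hM hL hML le_sup_left
        (sup_le (hTle.trans inf_le_left) (Subgroup.zpowers_le.2 (hHM ▸ hNH hmN)))
        (sup_le (hTle.trans inf_le_right) (Subgroup.zpowers_le.2 (hYL hmY)))
        (hY.to_le (sup_le hTY (Subgroup.zpowers_le.2 hmY))) (Subgroup.mem_sup_right (Subgroup.mem_zpowers m)))
    have hnL : n ∉ L := fun hnL => hnot (hbig M L _ hM hL hML le_sup_left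
      (sup_le (hTle.trans inf_le_left) (Subgroup.zpowers_le.2 (hXM hnX)))
      (sup_le (hTle.trans inf_le_right) (Subgroup.zpowers_le.2 hnL)) hT')
    have hTn : T.map (MulAut.conj n).toMonoidHom = T := by
      refine le_antisymm ?_ fun x hx => ?_
      · rintro _ ⟨x, hx, rfl⟩
        exact (Subgroup.mem_normalizer_iff.1 hnN x).1 hx
      · refine ⟨n⁻¹ * x * n, ?_, by show n * (n⁻¹ * x * n) * n⁻¹ = x; group⟩
        have := (Subgroup.mem_normalizer_iff.1 (inv_mem hnN) x).1 hx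
        rwa [inv_inv] at this
    refine ⟨L.map (MulAut.conj n).toMonoidHom, isML_conj hL n, fun e => hnL ?_, hsL, ?_⟩
    · rw [← normalizer_eq hL]
      refine Subgroup.mem_normalizer_iff.2 fun x => ⟨fun hx => ?_, fun hx => ?_⟩
      · rw [e]; exact ⟨x, hx, rfl⟩
      · rw [e] at hx
        obtain ⟨y, hy, hyx⟩ := hx
        rwa [show x = y from (MulAut.conj n).injective hyx.symm]
    · refine ⟨hTn ▸ Subgroup.map_mono hsL.1, hT, fun Y hTY hYL hY => ?_⟩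
      have h1 := hsL.2.2 (Y.map (MulAut.conj n⁻¹).toMonoidHom)
        (by
          refine le_trans ?_ (Subgroup.map_mono hTY)
          conv_lhs => rw [← conj_conj_inv T n, hTn])
        ((Subgroup.map_mono hYL).trans (conj_conj_inv L n).le) (hY.map _)
      intro y hy
      rw [← hTn]
      exact ⟨n⁻¹ * y * n⁻¹⁻¹, h1 ⟨y, hy, rfl⟩, by show n * (n⁻¹ * y * n⁻¹⁻¹) * n⁻¹ = y; group⟩
  by_cases h1 : SylIn p T M
  · by_cases h2 : SylIn p T L
    · exact hfinish M L hM hL hML h1 h2 hTle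
    · obtain ⟨L', hL', hne, hs, hs'⟩ := key L M hL hM hML.symm (le_inf (hTle.trans inf_le_right) (hTle.trans inf_le_left)) h2
      exact hfinish M L' hM hL' hne hs hs' (le_inf hs.1 hs'.1)
  · obtain ⟨L', hL', hne, hs, hs'⟩ := key M L hM hL hML hTle h1
    exact hfinish L L' hL hL' hne hs hs' (le_inf hs.1 hs'.1)

end Cfsg.Agent.S3751
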