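import Cfsg.Statements.S3752
import Cfsg.Agent.Lib.Cores.MaximalPair

set_option autoImplicit false
open Cfsg

namespace Cfsg.Agent.S3752

universe u

open Subgroup Cfsg CfsgLib CfsgLib.Cores
open scoped commutatorElement

variable {G : Type u} [Group G] [Finite G]

/-- One half of the primitivity of a pair. -/
def Prim (M N : Subgroup G) : Prop :=
  ∀ A : Subgroup G, A ≠ ⊥ → A ≤ M ⊓ N → N ≤ normalizer (A : Set G) → M ⊓ normalizer (A : Set G) = M ⊓ N

theorem eq_of_common {M N A : Subgroup G} (h1 : Prim M N) (h2 : Prim N M) (hA : A ≠ ⊥) (hAle : A ≤ M ⊓ N)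
    (hM : M ≤ normalizer (A : Set G)) (hN : N ≤ normalizer (A : Set G)) : M = N := by
  refine le_antisymm ?_ ?_
  · have h := h1 A hA hAle hN
    rw [inf_eq_left.2 hM] at h
    exact inf_eq_left.1 h.symm
  · have h := h2 A hA (inf_comm M N ▸ hAle) hM
    rw [inf_eq_left.2 hN] at h
    exact inf_eq_left.1 h.symm

/-- If `F(M)` and `F(N)` involve two primes `p`, `q` then `O_p(N) ≤ O_p(M)`. -/
theorem pCoreIn_le_of_prim {M N : Subgroup G} (h : FStarLinked M N) (hM : layer M = ⊥)
    (hPr : Prim M N) {p q : ℕ} [Fact p.Prime] [Fact q.Prime] (hne : p ≠ q)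
    (hq : pCore q N ≠ ⊥) : pCoreIn p N ≤ pCoreIn p M := by
  haveI := fittingSubgroup_normal (G := M)
  set X := centralizer ((fittingSubgroup M ⊓ pPrimeCore p M : Subgroup M) : Set M) with hX
  haveI : X.Normal := inferInstance
  set B := pCoreIn q N with hB
  have hBM : B ≤ M := (map_mono (pCore_le_fittingSubgroup q)).trans h.symm.fitting_le
  have hRM : pCoreIn p N ≤ M := (map_mono (pCore_le_fittingSubgroup p)).trans h.symm.fitting_le
  have hBq : IsPGroup q B := (isPGroup_pCore q).map _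
  -- `q'`-elements of `X` centralize `B`
  have key : ∀ x ∈ X, (orderOf x).Coprime q → ∀ b : M, (b : G) ∈ B → x * b = b * x := by
    intro x hx hxq b hb
    have hbW : ∀ w ∈ fittingSubgroup M ⊓ pPrimeCore q M, b * w = w * b := fun w hw =>
      Subtype.ext (mem_centralizer_iff.1 (h.pCoreIn_le_centralizer q hb) (w : G) ⟨w, hw, rfl⟩).symm
    have hxW : ∀ w ∈ pCore q M, x * w = w * x := fun w hw =>
      (mem_centralizer_iff.1 hx w (pCore_le_fitting_inf_pPrimeCore (Ne.symm hne) hw)).symm
    have hpW : ∀ w ∈ pCore p M, b * w = w * b := fun w hw => hbW w (pCore_le_fitting_inf_pPrimeCore hne hw)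
    set z := x * b * x⁻¹ * b⁻¹ with hz
    have hzF : z ∈ fittingSubgroup M := by
      refine layer_eq_bot_iff_centralizer_fitting_le.1 hM (mem_centralizer_iff.2 fun f hf => ?_)
      have h1 : z ∈ X := by
        rw [hz, mul_assoc x b, mul_assoc x]
        exact mul_mem hx (Normal.conj_mem inferInstance _ (inv_mem hx) b)
      have h2 : z ∈ centralizer ((pCore p M : Subgroup M) : Set M) := by
        have hbc : b ∈ centralizer ((pCore p M : Subgroup M) : Set M) :=
          mem_centralizer_iff.2 fun w hw => (hpW w hw).symm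
        rw [hz]
        exact mul_mem (Normal.conj_mem inferInstance b hbc x) (inv_mem hbc)
      have h3 : pCore p M ⊔ (fittingSubgroup M ⊓ pPrimeCore p M) ≤ centralizer ({z} : Set M) := by
        refine sup_le (fun w hw => ?_) (fun w hw => ?_) <;> rw [mem_centralizer_singleton_iff]
        · exact mem_centralizer_iff.1 h2 w hw
        · exact mem_centralizer_iff.1 h1 w hw
      exact mem_centralizer_singleton_iff.1 (h3 (fittingSubgroup_le_pCore_sup hf))
    obtain ⟨u, hu, v, hv, huv⟩ := mem_sup_of_normal_left.1 (fittingSubgroup_le_pCore_sup (p := q) hzF)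
    obtain ⟨j, hj⟩ := IsPGroup.iff_orderOf.1 hBq ⟨b, hb⟩
    rw [orderOf_mk, ← M.coe_subtype, orderOf_injective M.subtype M.subtype_injective] at hj
    -- the `q'`-part `v` of `z` is trivial
    have hv1 : v = 1 := by
      set π := QuotientGroup.mk' (pCore q M)
      have h1 : π (x * b * x⁻¹) = π v * π b := by
        rw [show x * b * x⁻¹ = u * v * b by rw [huv, hz, inv_mul_cancel_right], map_mul, map_mul,
          show π u = 1 from (QuotientGroup.eq_one_iff u).2 hu, one_mul]
      have hc : Commute (π v) (π b) := by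
        show π v * π b = π b * π v
        rw [← map_mul, ← map_mul, hbW v hv]
      have h2 : v ^ q ^ j ∈ pCore q M := by
        rw [← QuotientGroup.eq_one_iff]
        show π (v ^ q ^ j) = 1
        have h3 := congrArg (· ^ q ^ j) h1
        rw [hc.mul_pow, ← map_pow, ← map_pow, ← map_pow, conj_pow, ← hj, pow_orderOf_eq_one, mul_one,
          mul_inv_cancel, map_one, mul_one, eq_comm] at h3
        rw [← hj]; exact h3
      have h4 : v ^ q ^ j = 1 := by
        rw [← Subgroup.mem_bot, ← pCore_inf_pPrimeCore (G := M) q]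
        exact ⟨h2, pow_mem hv.2 _⟩
      rw [← orderOf_eq_one_iff]
      exact Nat.eq_one_of_dvd_coprimes (Nat.Coprime.pow_left j (coprime_card_pPrimeCore (G := M) q).symm)
        (orderOf_dvd_of_pow_eq_one h4) (Subgroup.orderOf_dvd_natCard _ hv.2)
    rw [hv1, mul_one] at huv
    have hxz : x * z = z * x := hxW z (huv ▸ hu)
    have hpow : ∀ n : ℕ, x ^ n * b * (x ^ n)⁻¹ = z ^ n * b := by
      intro n
      induction n with
      | zero => simp
      | succ n ih =>
        calc x ^ (n + 1) * b * (x ^ (n + 1))⁻¹ = x * (x ^ n * b * (x ^ n)⁻¹) * x⁻¹ := by rw [pow_succ']; group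
          _ = (x * z ^ n * x⁻¹) * (x * b * x⁻¹) := by rw [ih]; group
          _ = z ^ n * (z * b) := by
            rw [(show Commute x z from hxz).pow_right n |>.eq, mul_inv_cancel_right, hz, inv_mul_cancel_right]
          _ = z ^ (n + 1) * b := by rw [pow_succ]; group
    have h5 := hpow (orderOf x)
    rw [pow_orderOf_eq_one, one_mul, inv_one, mul_one, eq_comm] at h5
    have h6 : z = 1 := by
      rw [← orderOf_eq_one_iff]
      obtain ⟨n, hn⟩ := card_pCore_eq_pow (G := M) q
      exact Nat.eq_one_of_dvd_coprimes (hxq.pow_right n) (orderOf_dvd_of_pow_eq_one (mul_eq_right.1 h5))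
        (hn ▸ Subgroup.orderOf_dvd_natCard _ (huv ▸ hu))
    rw [hz, mul_inv_eq_one, mul_inv_eq_iff_eq_mul] at h6
    exact h6
  set X' := pPrimeElemClosure q X
  haveI : X'.Normal := by
    rw [← normalizer_eq_top_iff, eq_top_iff, ← (normalizer_eq_top_iff (H := X)).2 inferInstance]
    exact normalizer_le_normalizer_pPrimeElemClosure q X
  have hX'N : X'.map M.subtype ≤ N := by
    have hB1 : B ≠ ⊥ := fun hb => hq ((Subgroup.map_eq_bot_iff_of_injective _ N.subtype_injective).1 hb)
    refine le_trans (le_inf (map_subtype_le _) (le_trans ?_ (centralizer_le_normalizer _)))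
      ((hPr B hB1 (le_inf hBM (map_subtype_le _)) (le_normalizer_map_of_normal inferInstance)).le.trans inf_le_right)
    rw [map_le_iff_le_comap]
    rw [show X' = closure {x | x ∈ X ∧ (orderOf x).Coprime q} from rfl, closure_le]
    intro x hx
    exact mem_centralizer_iff.2 fun b hb => (congrArg Subtype.val (key x hx.1 hx.2 ⟨b, hBM hb⟩ hb)).symm
  -- `O_p(N) ≤ X'`
  set R := (pCoreIn p N).subgroupOf M with hR
  have hRX : R ≤ X' := by
    intro r hr
    refine mem_pPrimeElemClosure (mem_centralizer_iff.2 fun w hw =>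
      Subtype.ext (mem_centralizer_iff.1 (h.pCoreIn_le_centralizer p hr) (w : G) ⟨w, hw, rfl⟩)) ?_
    obtain ⟨n, hn⟩ := card_pCore_eq_pow (G := N) p
    refine Nat.Coprime.coprime_dvd_left ?_ (Nat.Coprime.pow_left n ((Nat.coprime_primes (Fact.out : p.Prime) Fact.out).2 hne))
    rw [← Subgroup.orderOf_coe, ← hn, ← card_map_of_injective N.subtype_injective]
    exact Subgroup.orderOf_dvd_natCard _ hr
  have hRsn : R.IsSubnormal := by
    refine IsSubnormal.step _ X' hRX (Normal.isSubnormal inferInstance) ?_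
    rw [normal_subgroupOf_iff_le_normalizer hRX]
    intro x hx
    exact Solvable.mem_normalizer_of_conj_mem fun r hr =>
      (mem_normalizer_iff.1 (le_normalizer_map_of_normal inferInstance (hX'N ⟨x, hx, rfl⟩)) (r : G)).1 hr
  rw [← map_subgroupOf_eq_of_le hRM]
  refine map_mono (le_pCore_of_isSubnormal hRsn ?_)
  exact ((isPGroup_pCore p).map N.subtype).of_equiv (subgroupOfEquivOfLe hRM).symm

/-- Bender's Theorem on primitive pairs. Two distinct subgroups M₁, M₂ of G form a primitive pair when, for {i, j} = {1, 2}, every non-trivial normal subgroup A of M_i contained in M₁ ∩ M₂ satisfies N_{M_j}(A) = M₁ ∩ M₂; the pair has characteristic p when moreover C_{M_i}(O_p(M_i)) ≤ O_p(M_i) for both i and O_p(M₁)O_p(M₂) ≤ M₁ ∩ M₂. If (M₁, M₂) is a primitive pair of the finite group G with F*(M₁) ≤ M₂ and F*(M₂) ≤ M₁, then for some prime p the pair has characteristic p. -/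
theorem result {G : Type*} [Group G] [Finite G] (M₁ M₂ : Subgroup G) (hne : M₁ ≠ M₂) (hP : ∀ A : Subgroup G, A ≠ ⊥ → A ≤ M₁ ⊓ M₂ → (M₁ ≤ Subgroup.normalizer (A : Set G) → M₂ ⊓ Subgroup.normalizer (A : Set G) = M₁ ⊓ M₂) ∧ (M₂ ≤ Subgroup.normalizer (A : Set G) → M₁ ⊓ Subgroup.normalizer (A : Set G) = M₁ ⊓ M₂)) (h₁ : (Cfsg.generalizedFittingSubgroup ↥M₁).map M₁.subtype ≤ M₂) (h₂ : (Cfsg.generalizedFittingSubgroup ↥M₂).map M₂.subtype ≤ M₁) : ∃ p : ℕ, p.Prime ∧ Subgroup.centralizer (Cfsg.pCore p ↥M₁ : Set ↥M₁) ≤ Cfsg.pCore p ↥M₁ ∧ Subgroup.centralizer (Cfsg.pCore p ↥M₂ : Set ↥M₂) ≤ Cfsg.pCore p ↥M₂ ∧ (Cfsg.pCore p ↥M₁).map M₁.subtype ⊔ (Cfsg.pCore p ↥M₂).map M₂.subtype ≤ M₁ ⊓ M₂ := by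
  classical
  have hP1 : Prim M₁ M₂ := fun A hA hle hn => (hP A hA hle).2 hn
  have hP2 : Prim M₂ M₁ := fun A hA hle hn => by
    rw [inf_comm M₂ M₁] at hle ⊢
    exact (hP A hA hle).1 hn
  have h : FStarLinked M₁ M₂ := ⟨h₁, h₂⟩
  have hne0 : ∀ M N : Subgroup G, M ≠ N → FStarLinked M N → Nontrivial ↥M := by
    intro M N hne h
    rw [Subgroup.nontrivial_iff_ne_bot]
    intro hb
    have hNb : N ≠ ⊥ := fun h0 => hne (hb.trans h0.symm)
    haveI := (Subgroup.nontrivial_iff_ne_bot N).2 hNb
    refine generalizedFittingSubgroup_ne_bot (G := N) ?_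
    exact (Subgroup.map_eq_bot_iff_of_injective _ N.subtype_injective).1 (le_bot_iff.1 (hb ▸ h.2))
  haveI := hne0 M₁ M₂ hne h
  -- no components
  have he : layerIn M₁ = layerIn M₂ := le_antisymm h.layerIn_le_layerIn h.symm.layerIn_le_layerIn
  have hbot : layerIn M₁ = ⊥ := by
    by_contra hb
    refine hne (eq_of_common hP1 hP2 hb (le_inf (map_subtype_le _) h.layerIn_le) (le_normalizer_map_of_normal layer_normal) ?_)
    rw [he]
    exact le_normalizer_map_of_normal layer_normal
  have hEM : layer M₁ = ⊥ := (Subgroup.map_eq_bot_iff_of_injective _ M₁.subtype_injective).1 hbot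
  have hEN : layer M₂ = ⊥ := (Subgroup.map_eq_bot_iff_of_injective _ M₂.subtype_injective).1 (he ▸ hbot : layerIn M₂ = ⊥)
  have hFne : fittingSubgroup M₁ ≠ ⊥ := fun hb => generalizedFittingSubgroup_ne_bot (G := M₁) (by
    rw [generalizedFittingSubgroup, hEM, hb, bot_sup_eq])
  obtain ⟨⟨p, hpm⟩, hpc⟩ : ∃ p : (Nat.card M₁).primeFactors, pCore (p : ℕ) M₁ ≠ ⊥ := by
    by_contra hcon
    push Not at hcon
    apply hFne
    rw [fittingSubgroup_eq_iSup_pCore, iSup_eq_bot]
    exact hcon
  have hp : Fact p.Prime := ⟨Nat.prime_of_mem_primeFactors hpm⟩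
  have hone : ∀ q : ℕ, q.Prime → q ≠ p → pCore q M₁ = ⊥ := by
    intro q hq hqp
    haveI := Fact.mk hq
    by_contra hqc
    have hqN : pCore q M₂ ≠ ⊥ := h.pCore_ne_bot hEN hqc
    have he : pCoreIn p M₁ = pCoreIn p M₂ :=
      le_antisymm (pCoreIn_le_of_prim h.symm hEN hP2 (Ne.symm hqp) hqc) (pCoreIn_le_of_prim h hEM hP1 (Ne.symm hqp) hqN)
    apply hne
    have hb : pCoreIn p M₁ ≠ ⊥ := fun hb => hpc ((Subgroup.map_eq_bot_iff_of_injective _ M₁.subtype_injective).1 hb)
    refine eq_of_common hP1 hP2 hb (le_inf (map_subtype_le _) (he.le.trans (map_subtype_le _))) (le_normalizer_map_of_normal inferInstance) ?_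
    rw [he]
    exact le_normalizer_map_of_normal inferInstance
  have hF1 : fittingSubgroup M₁ ≤ pCore p M₁ := by
    rw [fittingSubgroup_eq_iSup_pCore]
    refine iSup_le fun r => ?_
    rcases eq_or_ne (r : ℕ) p with hr | hr
    · rw [hr]
    · rw [hone r (Nat.prime_of_mem_primeFactors r.2) hr]; exact bot_le
  have hF2 : fittingSubgroup M₂ ≤ pCore p M₂ := by
    rw [fittingSubgroup_eq_iSup_pCore]
    refine iSup_le fun r => ?_
    haveI : Fact (r : ℕ).Prime := ⟨Nat.prime_of_mem_primeFactors r.2⟩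
    rcases eq_or_ne (r : ℕ) p with hr | hr
    · rw [hr]
    · by_contra hne'
      exact h.symm.pCore_ne_bot hEM (fun hb => hne' (hb ▸ bot_le)) (hone r Fact.out hr)
  refine ⟨p, hp.out, ?_, ?_, ?_⟩
  · refine le_trans (Subgroup.centralizer_le ?_) ((layer_eq_bot_iff_centralizer_fitting_le.1 hEM).trans hF1)
    exact hF1
  · refine le_trans (Subgroup.centralizer_le ?_) ((layer_eq_bot_iff_centralizer_fitting_le.1 hEN).trans hF2)
    exact hF2
  · exact sup_le (le_inf (map_subtype_le _) ((map_mono (pCore_le_fittingSubgroup p)).trans h.fitting_le))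
      (le_inf ((map_mono (pCore_le_fittingSubgroup p)).trans h.symm.fitting_le) (map_subtype_le _))

end Cfsg.Agent.S3752
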