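import Cfsg.Statements.S3753
import Cfsg.Agent.Lib.PGroup.KInfBelow
import Cfsg.Agent.Lib.Techniques.HomChief
import Cfsg.Agent.Lib.Transfer.Critical
import Cfsg.Agent.S0626
import Cfsg.Agent.Lib.Cores.MaximalPair

set_option autoImplicit false
open Cfsg

namespace Cfsg.Agent.S3753

universe u

open Subgroup Cfsg CfsgLib CfsgLib.Techniques
open scoped commutatorElement

theorem ab_two_quotient {G : Type u} [Group G] [Finite G] (hab : ∀ T : Sylow 2 G, IsMulCommutative ↥(T : Subgroup G))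
    (N : Subgroup G) [N.Normal] : ∀ T : Sylow 2 (G ⧸ N), IsMulCommutative ↥(T : Subgroup (G ⧸ N)) := by
  intro T
  haveI : Fact (Nat.Prime 2) := ⟨Nat.prime_two⟩
  obtain ⟨T₀, rfl⟩ := Sylow.mapSurjective_surjective (QuotientGroup.mk'_surjective N) 2 T
  refine ⟨⟨?_⟩⟩
  rintro ⟨_, a, ha, rfl⟩ ⟨_, b, hb, rfl⟩
  apply Subtype.ext
  show QuotientGroup.mk' N a * QuotientGroup.mk' N b = QuotientGroup.mk' N b * QuotientGroup.mk' N a
  rw [← map_mul, ← map_mul]
  exact congrArg (fun t : G => QuotientGroup.mk' N t)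
    (congrArg Subtype.val ((hab T₀).is_comm.comm ⟨a, ha⟩ ⟨b, hb⟩))

/-- In a group with abelian Sylow 2-subgroups whose `p`-core contains its centraliser, the K-infinity
subgroup of every `p`-subgroup containing the `p`-core is normal. -/
theorem kInf_normal {G : Type u} [Group G] [Finite G] {p : ℕ} [Fact p.Prime] (hp : p ≠ 2)
    (hab : ∀ T : Sylow 2 G, IsMulCommutative ↥(T : Subgroup G))
    (hC : centralizer (pCore p G : Set G) ≤ pCore p G) {Y : Subgroup G} (hY : pCore p G ≤ Y) :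
    (inducedFunctor kInfLower Y).Normal := by
  have hTc := CfsgLib.Cores.pCore_characteristic (G := G) p
  have hTn : (pCore p G).Normal := inferInstance
  have hT : IsPGroup p (pCore p G) := CfsgLib.Cores.isPGroup_pCore p
  obtain ⟨H, hHc, -, hcomm, hCH⟩ := CfsgLib.Transfer.exists_critical hT
  let f := (pCore p G).subtype
  have hf : Function.Injective f := Subtype.coe_injective
  set A := H.map f with hA
  have hAT : A ≤ pCore p G := map_subtype_le H
  have hAof : A.subgroupOf (pCore p G) = H := comap_map_eq_self_of_injective hf H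
  have hAchar : (A.subgroupOf (pCore p G)).Characteristic := by rw [hAof]; exact hHc
  have hZeq := KSeq.map_inf_centralizer hf H
  have hA3 : ⁅pCore p G, A⁆ ≤ A ⊓ centralizer (A : Set G) := by
    have htop : pCore p G = (⊤ : Subgroup ↥(pCore p G)).map f := by
      rw [← MonoidHom.range_eq_map, range_subtype]
    rw [commutator_comm, ← hZeq]
    conv_lhs => rw [htop, hA, ← map_commutator]
    exact map_mono hcomm
  have hA2 : ⁅A, A⁆ ≤ centralizer (A : Set G) :=
    ((commutator_mono hAT le_rfl).trans hA3).trans inf_le_right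
  have hA5 : ∀ φ : MulAut ↥(pCore p G), (orderOf φ).Coprime p →
      (∀ a : ↥(pCore p G), (a : G) ∈ A → φ a = a) → φ = 1 := fun φ hφ h => by
    have : H.Normal := inferInstance
    exact CfsgLib.Transfer.aut_eq_one_of_fix_normal hT H hCH φ hφ
      fun x hx => h x (mem_map_of_mem f hx)
  rcases CfsgLib.PGroup.KInfBelow.kInf_below_normal_or_exists Y hY A hAT hAchar hA2 hA3 hA5 with h | ⟨g, -, -, -, -, hcl⟩
  · exact h.1
  exfalso
  obtain ⟨U, V, hUV, hUA, hq, hnt⟩ := hcl hC
  haveI hUn := hUV.2.1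
  haveI hVn := hUV.2.2.1
  have hUp : IsPGroup p U := hT.to_le (hUA.trans hAT)
  let π := QuotientGroup.mk' V
  have hπ : Function.Surjective π := QuotientGroup.mk'_surjective V
  set P' := U.map π with hP'
  haveI hPn : P'.Normal := hUn.map π hπ
  have hUU : ⁅U, U⁆ ≤ V := Chief.chief_comm hUV hUp
  have hcomm' : ∀ x ∈ P', ∀ y ∈ P', x * y = y * x := by
    rintro _ ⟨x, hx, rfl⟩ _ ⟨y, hy, rfl⟩
    rw [← commutatorElement_eq_one_iff_mul_comm, ← map_commutatorElement]
    exact (QuotientGroup.eq_one_iff _).2 (hUU (commutator_mem_commutator hx hy))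
  have hel : IsElementaryAbelian p P' := by
    refine ⟨⟨⟨fun x y => Subtype.ext (hcomm' x x.2 y y.2)⟩⟩, ?_⟩
    let W : Subgroup G :=
      { carrier := {u | u ∈ U ∧ π u ^ p = 1}
        one_mem' := ⟨one_mem U, by simp⟩
        mul_mem' := fun {a b} ha hb => ⟨mul_mem ha.1 hb.1, by
          rw [map_mul, (show Commute (π a) (π b) from
            hcomm' _ (mem_map_of_mem π ha.1) _ (mem_map_of_mem π hb.1)).mul_pow, ha.2, hb.2, one_mul]⟩
        inv_mem' := fun {a} ha => ⟨inv_mem ha.1, by rw [map_inv, inv_pow, ha.2, inv_one]⟩ }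
    haveI hWn : W.Normal := ⟨fun w hw t => ⟨hUn.conj_mem w hw.1 t, by
      rw [map_mul, map_mul, map_inv, conj_pow, hw.2, mul_one, mul_inv_cancel]⟩⟩
    have hVW : V ≤ W := fun v hv => ⟨hUV.1.le hv, by
      rw [(show π v = 1 from (QuotientGroup.eq_one_iff v).2 hv), one_pow]⟩
    rcases hUV.2.2.2 W hWn hVW (fun w hw => hw.1) with h | h
    · exfalso
      have hne : P' ≠ ⊥ := fun h0 => hUV.1.not_ge (by
        have := (Subgroup.map_eq_bot_iff U).1 h0
        rwa [QuotientGroup.ker_mk'] at this)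
      obtain ⟨z, hz, hzo⟩ := CfsgLib.PGroup.exists_orderOf_eq (hUp.map π) (H := (⊤ : Subgroup P'))
        (fun h0 => hne ((Subgroup.eq_bot_iff_forall _).2 fun x hx => by
          have h1 : (⟨x, hx⟩ : P') ∈ (⊥ : Subgroup P') := h0 ▸ mem_top _
          exact congrArg Subtype.val (mem_bot.1 h1)))
      obtain ⟨u, hu, huz⟩ := z.2
      have huW : u ∈ W := ⟨hu, by
        rw [huz, ← SubmonoidClass.coe_pow, ← hzo, pow_orderOf_eq_one, OneMemClass.coe_one]⟩
      rw [h] at huW
      have : z = 1 := Subtype.ext (huz ▸ (QuotientGroup.eq_one_iff u).2 huW)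
      rw [this, orderOf_one] at hzo
      exact (Fact.out : p.Prime).ne_one hzo.symm
    · rintro _ ⟨u, hu, rfl⟩
      exact (h.ge hu).2
  have hst := (Cfsg.Agent.S0626.result hp (ab_two_quotient hab V)).1 P' hel
  have hquot : ⁅⁅P', zpowers (π g)⁆, zpowers (π g)⁆ = ⊥ := by
    rw [← MonoidHom.map_zpowers, ← map_commutator, ← map_commutator,
      Subgroup.map_eq_bot_iff, QuotientGroup.ker_mk']
    exact hq
  have hmem := hst (π g) hquot
  let ψ := (QuotientGroup.mk' (centralizer (P' : Set (G ⧸ V)))).comp π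
  let R := (pCore p ((G ⧸ V) ⧸ centralizer (P' : Set (G ⧸ V)))).comap ψ
  have hR : R.Normal := (Subgroup.sSup_normal _ fun N hN => hN.1 :
    (pCore p ((G ⧸ V) ⧸ centralizer (P' : Set (G ⧸ V)))).Normal).comap ψ
  refine hnt (Chief.commutator_zpowers_le (Chief.mem_normalizer_of_normal V g) fun u hu => ?_)
  refine HomChief.fixed_of_coprime hUV hUp (R := R) (fun r hr hc w hw => ?_) u hu g hmem
  obtain ⟨n, hn⟩ := CfsgLib.Cores.isPGroup_pCore p ⟨ψ r, hr⟩
  have h1 : ψ r = 1 := by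
    rw [← orderOf_eq_one_iff]
    exact Nat.eq_one_of_dvd_coprimes (Nat.Coprime.pow_right n hc) (orderOf_map_dvd ψ r)
      (orderOf_dvd_of_pow_eq_one (congrArg Subtype.val hn))
  have h2 := (QuotientGroup.eq_one_iff _).1 h1
  rw [KInfCritical.mem_iff_mk, map_commutatorElement, commutatorElement_eq_one_iff_mul_comm]
  exact mem_centralizer_iff.1 h2 (π w) (mem_map_of_mem π hw)

theorem functor_subgroupOf {G : Type u} [Group G] [Finite G] {Y M : Subgroup G} (h : Y ≤ M) :
    ((inducedFunctor kInfLower (Y.subgroupOf M)).map M.subtype) = inducedFunctor kInfLower Y := by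
  show ((kInfLower ↥(Y.subgroupOf M)).map (Y.subgroupOf M).subtype).map M.subtype =
    (kInfLower ↥Y).map Y.subtype
  rw [← (KSeq.map_kInf_equiv (subgroupOfEquivOfLe h)).1, Subgroup.map_map, Subgroup.map_map]
  rfl

/-- Two distinct subgroups M₁, M₂ of G form a primitive pair when, for {i, j} = {1, 2}, every non-trivial normal subgroup A of M_i contained in M₁ ∩ M₂ satisfies N_{M_j}(A) = M₁ ∩ M₂; the pair has characteristic p when moreover C_{M_i}(O_p(M_i)) ≤ O_p(M_i) for both i and O_p(M₁)O_p(M₂) ≤ M₁ ∩ M₂. If the finite group G has a primitive pair (M₁, M₂) of characteristic p for some prime p, then M₁ or M₂ has non-abelian Sylow 2-subgroups. In particular no group of odd order has a primitive pair of characteristic p. -/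
theorem result {G : Type*} [Group G] [Finite G] {p : ℕ} [Fact p.Prime] (M₁ M₂ : Subgroup G) (hne : M₁ ≠ M₂) (hP : ∀ A : Subgroup G, A ≠ ⊥ → A ≤ M₁ ⊓ M₂ → (M₁ ≤ Subgroup.normalizer (A : Set G) → M₂ ⊓ Subgroup.normalizer (A : Set G) = M₁ ⊓ M₂) ∧ (M₂ ≤ Subgroup.normalizer (A : Set G) → M₁ ⊓ Subgroup.normalizer (A : Set G) = M₁ ⊓ M₂)) (hc₁ : Subgroup.centralizer (Cfsg.pCore p ↥M₁ : Set ↥M₁) ≤ Cfsg.pCore p ↥M₁) (hc₂ : Subgroup.centralizer (Cfsg.pCore p ↥M₂ : Set ↥M₂) ≤ Cfsg.pCore p ↥M₂) (hO : (Cfsg.pCore p ↥M₁).map M₁.subtype ⊔ (Cfsg.pCore p ↥M₂).map M₂.subtype ≤ M₁ ⊓ M₂) : (∃ S : Sylow 2 ↥M₁, ¬ IsMulCommutative (S : Subgroup ↥M₁)) ∨ (∃ S : Sylow 2 ↥M₂, ¬ IsMulCommutative (S : Subgroup ↥M₂)) := by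
  classical
  by_contra hcon
  push Not at hcon
  obtain ⟨h1ab, h2ab⟩ := hcon
  set D := M₁ ⊓ M₂ with hD
  have heq : ∀ A : Subgroup G, A ≠ ⊥ → A ≤ D → M₁ ≤ normalizer (A : Set G) → M₂ ≤ normalizer (A : Set G) → False := by
    intro A hA hAD n1 n2
    have e1 := (hP A hA hAD).1 n1
    have e2 := (hP A hA hAD).2 n2
    rw [inf_eq_left.2 n2] at e1
    rw [inf_eq_left.2 n1] at e2
    exact hne (e2.trans e1.symm)
  set Q₁ := (pCore p ↥M₁).map M₁.subtype with hQ₁
  set Q₂ := (pCore p ↥M₂).map M₂.subtype with hQ₂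
  have hQn : ∀ M : Subgroup G, M ≤ normalizer ((pCore p ↥M).map M.subtype : Set G) := fun M =>
    CfsgLib.Cores.le_normalizer_map_of_normal (Subgroup.sSup_normal _ fun N hN => hN.1)
  have hQp : ∀ M : Subgroup G, IsPGroup p ↥((pCore p ↥M).map M.subtype) := fun M =>
    (CfsgLib.Cores.isPGroup_pCore p).map _
  by_cases hp2 : p = 2
  · subst hp2
    -- abelian Sylow 2-subgroups: each `O_2` is a normal Sylow subgroup
    have key : ∀ M : Subgroup G, (∀ S : Sylow 2 ↥M, IsMulCommutative ↥(S : Subgroup ↥M)) →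
        centralizer (pCore 2 ↥M : Set ↥M) ≤ pCore 2 ↥M → ∀ X : Subgroup G, IsPGroup 2 X → X ≤ M →
        X ≤ (pCore 2 ↥M).map M.subtype := by
      intro M hM hc X hX hXM
      obtain ⟨S, hS⟩ := (hX.of_equiv (subgroupOfEquivOfLe hXM).symm).exists_le_sylow
      intro x hx
      refine ⟨⟨x, hXM hx⟩, hc (mem_centralizer_iff.2 fun y hy => ?_), rfl⟩
      have hyS : y ∈ (S : Subgroup ↥M) := CfsgLib.Cores.pCore_le_sylow S hy
      exact congrArg Subtype.val ((hM S).is_comm.comm ⟨y, hyS⟩ ⟨_, hS (mem_subgroupOf.2 hx)⟩)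
    have hle := hO
    have e : Q₁ = Q₂ := le_antisymm
      (key M₂ h2ab hc₂ Q₁ (hQp M₁) ((le_sup_left.trans hle).trans inf_le_right))
      (key M₁ h1ab hc₁ Q₂ (hQp M₂) ((le_sup_right.trans hle).trans inf_le_left))
    have hne1 : Q₁ ≠ ⊥ := by
      intro h0
      have h1 := (Subgroup.map_eq_bot_iff_of_injective _ M₁.subtype_injective).1 h0
      have hM1 : M₁ = ⊥ := by
        refine (Subgroup.eq_bot_iff_forall _).2 fun x hx => ?_
        have := hc₁ (show (⟨x, hx⟩ : ↥M₁) ∈ centralizer (pCore 2 ↥M₁ : Set ↥M₁) from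
          mem_centralizer_iff.2 fun y hy => by rw [h1] at hy; rw [mem_bot.1 hy, one_mul, mul_one])
        rw [h1, mem_bot] at this
        exact congrArg Subtype.val this
      have h2 := (Subgroup.map_eq_bot_iff_of_injective _ M₂.subtype_injective).1 (e ▸ h0)
      refine hne (hM1.trans ((Subgroup.eq_bot_iff_forall _).2 fun x hx => ?_).symm)
      have := hc₂ (show (⟨x, hx⟩ : ↥M₂) ∈ centralizer (pCore 2 ↥M₂ : Set ↥M₂) from
        mem_centralizer_iff.2 fun y hy => by rw [h2] at hy; rw [mem_bot.1 hy, one_mul, mul_one])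
      rw [h2, mem_bot] at this
      exact congrArg Subtype.val this
    exact heq Q₁ hne1 (le_sup_left.trans hle) (hQn M₁) (e ▸ hQn M₂)
  set Y := Q₁ ⊔ Q₂ with hY
  have hYD : Y ≤ D := hO
  have hYp : IsPGroup p ↥Y :=
    (hQp M₁).to_sup_of_normal_left' (hQp M₂)
      ((le_sup_right.trans hYD).trans (inf_le_left.trans (hQn M₁)))
  set A := inducedFunctor kInfLower Y with hA
  have hside : ∀ M : Subgroup G, (∀ S : Sylow 2 ↥M, IsMulCommutative ↥(S : Subgroup ↥M)) →
      centralizer (pCore p ↥M : Set ↥M) ≤ pCore p ↥M → Y ≤ M → (pCore p ↥M).map M.subtype ≤ Y →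
      M ≤ normalizer (A : Set G) := by
    intro M hM hc hYM hle
    have hn := kInf_normal hp2 hM hc (Y := Y.subgroupOf M) (map_le_iff_le_comap.1 hle)
    rw [hA, ← functor_subgroupOf hYM]
    exact CfsgLib.Cores.le_normalizer_map_of_normal hn
  have hAY : A ≤ Y := map_subtype_le _
  have hAne : A ≠ ⊥ := by
    intro h0
    have h1 := (Subgroup.map_eq_bot_iff_of_injective _ Y.subtype_injective).1 h0
    have h2 := KSeq.centralizer_kInfLower_le hYp
    rw [h1] at h2
    have hY1 : Y = ⊥ := (Subgroup.eq_bot_iff_forall _).2 fun x hx =>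
      congrArg Subtype.val (mem_bot.1 (h2 (show (⟨x, hx⟩ : ↥Y) ∈ centralizer ((⊥ : Subgroup ↥Y) : Set ↥Y) from
        mem_centralizer_iff.2 fun y hy => by rw [mem_bot.1 hy, one_mul, mul_one])))
    have hb : ∀ M : Subgroup G, centralizer (pCore p ↥M : Set ↥M) ≤ pCore p ↥M →
        (pCore p ↥M).map M.subtype ≤ Y → M = ⊥ := by
      intro M hc hle
      have h3 := (Subgroup.map_eq_bot_iff_of_injective _ M.subtype_injective).1 (le_bot_iff.1 (hY1 ▸ hle))
      refine (Subgroup.eq_bot_iff_forall _).2 fun x hx => ?_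
      have := hc (show (⟨x, hx⟩ : ↥M) ∈ centralizer (pCore p ↥M : Set ↥M) from
        mem_centralizer_iff.2 fun y hy => by rw [h3] at hy; rw [mem_bot.1 hy, one_mul, mul_one])
      rw [h3, mem_bot] at this
      exact congrArg Subtype.val this
    exact hne ((hb M₁ hc₁ le_sup_left).trans (hb M₂ hc₂ le_sup_right).symm)
  exact heq A hAne (hAY.trans hYD) (hside M₁ h1ab hc₁ (hYD.trans inf_le_left) le_sup_left)
    (hside M₂ h2ab hc₂ (hYD.trans inf_le_right) le_sup_right)

end Cfsg.Agent.S3753
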