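import Cfsg.Statements.S3754
import Cfsg.Agent.Lib.PGroup.CyclicTransvection
import Cfsg.Agent.Lib.Solvable.Generation
import Cfsg.Agent.Lib.Solvable.CoprimeAction

set_option autoImplicit false
open Cfsg

namespace Cfsg.Agent.S3754

open scoped commutatorElement

/-- A subgroup of index `p` of an elementary abelian group acting faithfully and coprimely has
fixed points not centralized by the whole group. -/
theorem exists_hyperplane {H : Type*} [Group H] [Finite H] {p : ℕ} [Fact p.Prime] (K A : Subgroup H)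
    (hAK : A ≤ Subgroup.normalizer (K : Set H)) (hcop : (Nat.card A).Coprime (Nat.card K))
    (hAc : ∀ x ∈ A, ∀ y ∈ A, x * y = y * x) (hAp : ∀ x ∈ A, x ^ p = 1)
    (hfaith : ¬ K ≤ Subgroup.centralizer (A : Set H)) :
    ∃ B : Subgroup H, B ≤ A ∧ B.relIndex A = p ∧
      ¬ K ⊓ Subgroup.centralizer (B : Set H) ≤ Subgroup.centralizer (A : Set H) := by
  classical
  obtain ⟨B, ⟨hBA, hB⟩, hmax⟩ := Set.Finite.exists_maximal (Set.toFinite {B : Subgroup H | B ≤ A ∧
      ¬ K ⊓ Subgroup.centralizer (B : Set H) ≤ Subgroup.centralizer (A : Set H)})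
    ⟨⊥, bot_le, fun h => hfaith fun x hx => h ⟨hx, Subgroup.mem_centralizer_iff.2 fun y hy => by
      rw [SetLike.mem_coe, Subgroup.mem_bot] at hy; rw [hy, one_mul, mul_one]⟩⟩
  refine ⟨B, hBA, ?_, hB⟩
  have hne : B ≠ A := fun h => hB (h ▸ inf_le_right)
  obtain ⟨e1, he1A, he1⟩ := SetLike.exists_of_lt (lt_of_le_of_ne hBA hne)
  by_contra hidx
  -- a second generator outside
  obtain ⟨e2, he2A, he2⟩ : ∃ e2 ∈ A, e2 ∉ B ⊔ Subgroup.zpowers e1 := by
    by_contra h
    push Not at h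
    apply hidx
    have hAeq : A = B ⊔ Subgroup.zpowers e1 :=
      le_antisymm h (sup_le hBA (Subgroup.zpowers_le.2 he1A))
    haveI : (B.subgroupOf A).Normal := ⟨fun b hb g => by
      have : g * b * g⁻¹ = b := Subtype.ext (by
        push_cast
        rw [hAc _ g.2 _ b.2, mul_inv_cancel_right])
      rwa [this]⟩
    have hz : Subgroup.zpowers (QuotientGroup.mk' (B.subgroupOf A) ⟨e1, he1A⟩) = ⊤ := by
      rw [← MonoidHom.map_zpowers, eq_top_iff]
      intro x _
      obtain ⟨⟨y, hy⟩, rfl⟩ := QuotientGroup.mk'_surjective _ x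
      have hyz : y ∈ B ⊔ Subgroup.zpowers e1 := hAeq ▸ hy
      have hn : Subgroup.zpowers e1 ≤ Subgroup.normalizer (B : Set H) := by
        refine le_trans ?_ (Subgroup.centralizer_le_normalizer _)
        rw [Subgroup.zpowers_le, Subgroup.mem_centralizer_iff]
        exact fun b hb => hAc b (hBA hb) e1 he1A
      obtain ⟨b, hb, c, hc, rfl⟩ := CfsgLib.Solvable.exists_mul_of_mem_sup hn hyz
      obtain ⟨i, rfl⟩ := Subgroup.mem_zpowers_iff.1 hc
      refine ⟨⟨e1, he1A⟩ ^ i, Subgroup.zpow_mem _ (Subgroup.mem_zpowers _) i, ?_⟩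
      rw [QuotientGroup.mk'_apply, QuotientGroup.mk'_apply, QuotientGroup.eq, Subgroup.mem_subgroupOf]
      push_cast
      rw [← mul_assoc, hAc _ (inv_mem (Subgroup.zpow_mem _ he1A i)) _ (hBA hb), mul_assoc, inv_mul_cancel, mul_one]
      exact hb
    have h1 := congrArg (fun T : Subgroup _ => Nat.card T) hz
    simp only [Nat.card_zpowers, Subgroup.card_top] at h1
    rw [Subgroup.relIndex, Subgroup.index_eq_card, ← h1]
    refine orderOf_eq_prime ?_ fun h2 => he1 ?_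
    · rw [← map_pow, show (⟨e1, he1A⟩ : A) ^ p = 1 from Subtype.ext (hAp e1 he1A), map_one]
    · rw [QuotientGroup.mk'_apply, QuotientGroup.eq_one_iff] at h2; exact h2
  set E := Subgroup.closure ({e1, e2} : Set H) with hE
  have hEA : E ≤ A := (Subgroup.closure_le _).2 (by rintro x (rfl | rfl) <;> assumption)
  have hcyc : ¬ IsCyclic E := by
    intro h
    obtain ⟨g, hg⟩ := h.exists_generator
    have hgp : g ^ p = 1 := Subtype.ext (hAp _ (hEA g.2))
    have hcard : Nat.card E ≤ p := by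
      rw [← orderOf_eq_card_of_forall_mem_zpowers hg]
      exact orderOf_le_of_pow_eq_one (Fact.out : p.Prime).pos hgp
    have hle : Subgroup.zpowers e1 ≤ E := Subgroup.zpowers_le.2 (Subgroup.subset_closure (Or.inl rfl))
    have heq : Subgroup.zpowers e1 = E := by
      refine Subgroup.eq_of_le_of_card_ge hle ?_
      rw [Nat.card_zpowers, orderOf_eq_prime (hAp e1 he1A) (fun h => he1 (h ▸ one_mem B))]
      exact hcard
    exact he2 (Subgroup.mem_sup_right (heq.symm ▸ Subgroup.subset_closure (Or.inr rfl)))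
  set K' := K ⊓ Subgroup.centralizer (B : Set H) with hK'
  have hEK : E ≤ Subgroup.normalizer (K' : Set H) := by
    refine CfsgLib.Solvable.le_normalizer_inf (hEA.trans hAK) (le_trans ?_ (Subgroup.le_normalizer))
    intro e he
    exact Subgroup.mem_centralizer_iff.2 fun b hb => hAc b (hBA hb) e (hEA he)
  have hcop' : (Nat.card E).Coprime (Nat.card K') :=
    (hcop.coprime_dvd_left (Subgroup.card_dvd_of_le hEA)).coprime_dvd_right (Subgroup.card_dvd_of_le inf_le_left)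
  have hgen := CfsgLib.Solvable.iSup_centralizer_eq (fun x hx y hy => hAc x (hEA hx) y (hEA hy)) hcyc hEK hcop'
  obtain ⟨e, ⟨heE, he1'⟩, hec⟩ : ∃ e ∈ {e : H | e ∈ E ∧ e ≠ 1},
      ¬ K' ⊓ Subgroup.centralizer {e} ≤ Subgroup.centralizer (A : Set H) := by
    by_contra h
    push Not at h
    exact hB (hgen ▸ iSup₂_le h)
  have hup := hmax (y := B ⊔ Subgroup.zpowers e) ⟨sup_le hBA (Subgroup.zpowers_le.2 (hEA heE)), fun h => hec (fun x hx => h ⟨hx.1.1, by
    show x ∈ Subgroup.centralizer (↑(B ⊔ Subgroup.zpowers e) : Set H)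
    rw [Subgroup.mem_centralizer_iff]
    have hle : B ⊔ Subgroup.zpowers e ≤ Subgroup.centralizer ({x} : Set H) :=
      sup_le (fun b hb => Subgroup.mem_centralizer_singleton_iff.2 (Subgroup.mem_centralizer_iff.1 hx.1.2 b hb))
        (Subgroup.zpowers_le.2 (Subgroup.mem_centralizer_singleton_iff.2 (Subgroup.mem_centralizer_singleton_iff.1 hx.2).symm))
    exact fun y hy => Subgroup.mem_centralizer_singleton_iff.1 (hle hy)⟩)⟩ le_sup_left
  have heB : e ∈ B := hup (Subgroup.mem_sup_right (Subgroup.mem_zpowers e))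
  -- but `E` meets `B` trivially
  obtain ⟨i, j, hij⟩ : ∃ i j : ℤ, e = e1 ^ i * e2 ^ j := by
    clear hec hup heB he1'
    induction heE using Subgroup.closure_induction with
    | mem y hy =>
      rcases hy with rfl | rfl
      · exact ⟨1, 0, by simp⟩
      · exact ⟨0, 1, by simp⟩
    | one => exact ⟨0, 0, by simp⟩
    | mul y z _ _ hy hz =>
      obtain ⟨i, j, rfl⟩ := hy; obtain ⟨i', j', rfl⟩ := hz
      refine ⟨i + i', j + j', ?_⟩
      rw [zpow_add, zpow_add, mul_assoc, ← mul_assoc (e2 ^ j),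
        hAc _ (Subgroup.zpow_mem _ he2A j) _ (Subgroup.zpow_mem _ he1A i')]
      group
    | inv y _ hy =>
      obtain ⟨i, j, rfl⟩ := hy
      refine ⟨-i, -j, ?_⟩
      rw [mul_inv_rev, zpow_neg, zpow_neg]
      exact hAc _ (inv_mem (Subgroup.zpow_mem _ he2A j)) _ (inv_mem (Subgroup.zpow_mem _ he1A i))
  have hpw : ∀ (x : H) (S : Subgroup H) (r : ℤ), x ∈ A → x ^ r ∈ S → x ^ r ≠ 1 → x ∈ S := by
    intro x S r hx hxS hx1
    have hx1' : x ≠ 1 := fun h => hx1 (by rw [h, one_zpow])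
    have heq : Subgroup.zpowers (x ^ r) = Subgroup.zpowers x := by
      refine Subgroup.eq_of_le_of_card_ge (Subgroup.zpowers_le.2 (Subgroup.zpow_mem _ (Subgroup.mem_zpowers x) r)) ?_
      rw [Nat.card_zpowers, Nat.card_zpowers, orderOf_eq_prime (hAp x hx) hx1',
        orderOf_eq_prime (hAp _ (Subgroup.zpow_mem _ hx r)) hx1]
    exact Subgroup.zpowers_le.2 hxS (heq.symm ▸ Subgroup.mem_zpowers x)
  by_cases hj : e2 ^ j = 1
  · rw [hj, mul_one] at hij
    exact he1 (hpw e1 B i he1A (hij ▸ heB) (hij ▸ he1'))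
  · refine he2 (hpw e2 _ j he2A ?_ hj)
    rw [show e2 ^ j = (e1 ^ i)⁻¹ * e by rw [hij]; group]
    exact mul_mem (inv_mem (Subgroup.mem_sup_right (Subgroup.zpow_mem _ (Subgroup.mem_zpowers e1) i))) (Subgroup.mem_sup_left heB)

/-- Let M be a finite p-soluble group and A a p-subgroup of M with Φ(A) ≤ O_p(M) but A ≰ O_p(M). Then there is x ∈ O_{p,p'}(M) such that L = ⟨A, xAx⁻¹⟩ satisfies: x ∈ O^p(L) and O^p(L) ≤ O_{p,p'}(M); [O^p(L), A] = O^p(L); A ∩ O_p(L) has index p in A; and [A ∩ O_p(L), L] ≤ O_p(M). Here O^p(L) is the subgroup generated by the p'-elements of L and O_{p,p'}(M) the preimage of O_{p'}(M/O_p(M)). -/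
theorem result {M : Type*} [Group M] [Finite M] {p : ℕ} [Fact p.Prime] (hM : Cfsg.IsPSolvable p M) (A : Subgroup M) (hA : IsPGroup p A) (hΦ : (frattini ↥A).map A.subtype ≤ Cfsg.pCore p M) (hnot : ¬ A ≤ Cfsg.pCore p M) : ∃ x ∈ (Cfsg.pPrimeCore p (M ⧸ Cfsg.pCore p M)).comap (QuotientGroup.mk' (Cfsg.pCore p M)), x ∈ (Cfsg.pResidual p ↥(A ⊔ A.map (MulAut.conj x).toMonoidHom)).map (A ⊔ A.map (MulAut.conj x).toMonoidHom).subtype ∧ (Cfsg.pResidual p ↥(A ⊔ A.map (MulAut.conj x).toMonoidHom)).map (A ⊔ A.map (MulAut.conj x).toMonoidHom).subtype ≤ (Cfsg.pPrimeCore p (M ⧸ Cfsg.pCore p M)).comap (QuotientGroup.mk' (Cfsg.pCore p M)) ∧ ⁅(Cfsg.pResidual p ↥(A ⊔ A.map (MulAut.conj x).toMonoidHom)).map (A ⊔ A.map (MulAut.conj x).toMonoidHom).subtype, A⁆ = (Cfsg.pResidual p ↥(A ⊔ A.map (MulAut.conj x).toMonoidHom)).map (A ⊔ A.map (MulAut.conj x).toMonoidHom).subtype ∧ (A ⊓ (Cfsg.pCore p ↥(A ⊔ A.map (MulAut.conj x).toMonoidHom)).map (A ⊔ A.map (MulAut.conj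 x).toMonoidHom).subtype).relIndex A = p ∧ ⁅A ⊓ (Cfsg.pCore p ↥(A ⊔ A.map (MulAut.conj x).toMonoidHom)).map (A ⊔ A.map (MulAut.conj x).toMonoidHom).subtype, A ⊔ A.map (MulAut.conj x).toMonoidHom⁆ ≤ Cfsg.pCore p M := by
  classical
  set Q := Cfsg.pCore p M with hQ
  haveI hQc : Q.Characteristic := CfsgLib.Cores.pCore_characteristic p
  haveI hQn : Q.Normal := inferInstance
  set π := QuotientGroup.mk' Q with hπ
  have hπQ : ∀ x : M, π x = 1 ↔ x ∈ Q := fun x => QuotientGroup.eq_one_iff x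
  set K := Cfsg.pPrimeCore p (M ⧸ Q) with hK
  set Ab := A.map π with hAb
  have hAbp : IsPGroup p Ab := hA.map π
  have hAbel : (∀ x ∈ Ab, ∀ y ∈ Ab, x * y = y * x) ∧ ∀ x ∈ Ab, x ^ p = 1 := by
    constructor
    · rintro _ ⟨a, ha, rfl⟩ _ ⟨b, hb, rfl⟩
      rw [← commutatorElement_eq_one_iff_mul_comm, ← map_commutatorElement, hπQ]
      refine hΦ ⟨⁅(⟨a, ha⟩ : A), ⟨b, hb⟩⁆, CfsgLib.PGroup.commutator_le_frattini hA ?_, by simp [commutatorElement_def]⟩
      rw [commutator_def]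
      exact Subgroup.commutator_mem_commutator (Subgroup.mem_top _) (Subgroup.mem_top _)
    · rintro _ ⟨a, ha, rfl⟩
      rw [← map_pow, hπQ]
      exact hΦ ⟨⟨a, ha⟩ ^ p, CfsgLib.PGroup.pow_mem_frattini hA _, rfl⟩
  have hCK : Subgroup.centralizer (K : Set (M ⧸ Q)) ≤ K :=
    CfsgLib.PGroup.CyclicTransvection.centralizer_pPrimeCore_le (CfsgLib.Transfer.isPSolvable_quotient hM Q)
      (CfsgLib.Cores.pCore_quotient_self p)
  have hKco : (Nat.card K).Coprime p := CfsgLib.Cores.coprime_card_pPrimeCore p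
  haveI hKn : K.Normal := by haveI := CfsgLib.Cores.pPrimeCore_characteristic (G := M ⧸ Q) p; infer_instance
  have hKA : Ab ≤ Subgroup.normalizer (K : Set (M ⧸ Q)) := by rw [Subgroup.normalizer_eq_top]; exact le_top
  obtain ⟨k, hk⟩ := IsPGroup.iff_card.1 hAbp
  have hcop : (Nat.card Ab).Coprime (Nat.card K) := by rw [hk]; exact (hKco.pow_right k).symm
  have hfaith : ¬ K ≤ Subgroup.centralizer (Ab : Set (M ⧸ Q)) := fun h => by
    apply hnot
    intro a ha
    have h1 : π a ∈ K := hCK (Subgroup.le_centralizer_iff.1 h ⟨a, ha, rfl⟩)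
    have h2 := Subgroup.orderOf_dvd_natCard Ab ⟨a, ha, rfl⟩
    rw [hk] at h2
    exact (hπQ a).1 (orderOf_eq_one_iff.1 (Nat.eq_one_of_dvd_coprimes (hKco.pow_right k)
      (Subgroup.orderOf_dvd_natCard K h1) h2))
  obtain ⟨B, hBA, hBi, hB⟩ := exists_hyperplane K Ab hKA hcop hAbel.1 hAbel.2 hfaith
  set K₁ := K ⊓ Subgroup.centralizer (B : Set (M ⧸ Q)) with hK₁
  have hBc : Ab ≤ Subgroup.centralizer (B : Set (M ⧸ Q)) := fun a ha =>
    Subgroup.mem_centralizer_iff.2 fun b hb => hAbel.1 b (hBA hb) a ha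
  obtain ⟨X, ⟨hXK, hAX, hXC⟩, hXmin⟩ := Set.Finite.exists_minimal (Set.toFinite {X : Subgroup (M ⧸ Q) |
      X ≤ K₁ ∧ Ab ≤ Subgroup.normalizer (X : Set (M ⧸ Q)) ∧ ¬ X ≤ Subgroup.centralizer (Ab : Set (M ⧸ Q))})
    ⟨K₁, le_rfl, CfsgLib.Solvable.le_normalizer_inf hKA (hBc.trans Subgroup.le_normalizer), hB⟩
  -- candidates
  let L : M → Subgroup M := fun y => A ⊔ A.map (MulAut.conj y).toMonoidHom
  obtain ⟨y₀, hy₀X, hy₀⟩ : ∃ y : M, π y ∈ X ∧ π y ∉ Subgroup.centralizer (Ab : Set (M ⧸ Q)) := by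
    obtain ⟨u, hu, hu'⟩ := SetLike.not_le_iff_exists.1 hXC
    obtain ⟨y, rfl⟩ := QuotientGroup.mk'_surjective Q u
    exact ⟨y, hu, hu'⟩
  obtain ⟨T, ⟨y₁, hy₁X, hy₁C, rfl⟩, hTmin⟩ := Set.Finite.exists_minimal (Set.toFinite {T : Subgroup M |
      ∃ y : M, π y ∈ X ∧ π y ∉ Subgroup.centralizer (Ab : Set (M ⧸ Q)) ∧ T = L y}) ⟨L y₀, y₀, hy₀X, hy₀, rfl⟩
  -- the image of `L y₁` contains `π y₁`
  have hmemL : π y₁ ∈ (L y₁).map π := by
    set H := X ⊓ (L y₁).map π with hH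
    have hAL : Ab ≤ (L y₁).map π := Subgroup.map_mono le_sup_left
    have hHmem : ∀ a ∈ A, π y₁ * (π a)⁻¹ * (π y₁)⁻¹ * π a ∈ H := fun a ha => by
      refine Subgroup.mem_inf.2 ⟨?_, ?_⟩
      · have h1 : (π a)⁻¹ * (π y₁)⁻¹ * π a ∈ X := by
          have := (Subgroup.mem_normalizer_iff.1 (hAX (inv_mem (Subgroup.mem_map_of_mem π ha))) (π y₁)⁻¹).1 (inv_mem hy₁X)
          rwa [inv_inv] at this
        have := mul_mem hy₁X h1
        convert this using 1
        group
      · rw [← map_inv, ← map_inv, ← map_mul, ← map_mul, ← map_mul]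
        exact ⟨_, mul_mem (Subgroup.mem_sup_right ⟨a⁻¹, inv_mem ha, by simp⟩) (Subgroup.mem_sup_left ha), rfl⟩
    have hHnc : ¬ H ≤ Subgroup.centralizer (Ab : Set (M ⧸ Q)) := by
      intro hle
      apply hy₁C
      rw [Subgroup.mem_centralizer_iff]
      rintro _ ⟨a, ha, rfl⟩
      obtain ⟨c, hc⟩ : ∃ c, c = π y₁ * (π a)⁻¹ * (π y₁)⁻¹ * π a := ⟨_, rfl⟩
      have hcH : c ∈ H := hc ▸ hHmem a ha
      have hca : π a * c = c * π a := Subgroup.mem_centralizer_iff.1 (hle hcH) _ ⟨a, ha, rfl⟩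
      have h1 := CfsgLib.PGroup.CyclicTransvection.pow_conj_of_fixed (a := (π a)⁻¹) (x := (π y₁)⁻¹) (w := c)
        (by rw [hc]; group) (by rw [inv_inv, mul_assoc, ← hca]; group) p
      simp only [inv_pow, hAbel.2 _ ⟨a, ha, rfl⟩, inv_one, one_mul, mul_one, left_eq_mul] at h1
      have hcK : c ∈ K := (hXK (Subgroup.mem_inf.1 hcH).1).1
      have hc1 : c = 1 := orderOf_eq_one_iff.1 (Nat.eq_one_of_dvd_coprimes hKco
        (Subgroup.orderOf_dvd_natCard K hcK) (orderOf_dvd_of_pow_eq_one h1))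
      rw [hc1] at hc
      have h2 : Commute (π y₁) (π a)⁻¹ := mul_inv_eq_iff_eq_mul.1 (mul_eq_one_iff_eq_inv.1 hc.symm)
      have h3 := h2.inv_right
      rw [inv_inv] at h3
      exact h3.symm.eq
    have hHA : Ab ≤ Subgroup.normalizer (H : Set (M ⧸ Q)) :=
      CfsgLib.Solvable.le_normalizer_inf hAX (hAL.trans Subgroup.le_normalizer)
    exact (hXmin (y := H) ⟨inf_le_left.trans hXK, hHA, hHnc⟩ inf_le_left hy₁X).2
  obtain ⟨z, hz, hzy⟩ := hmemL
  have hco : (orderOf (π.comp (L y₁).subtype ⟨z, hz⟩)).Coprime p := by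
    show (orderOf (π z)).Coprime p
    rw [hzy]
    exact hKco.coprime_dvd_left (Subgroup.orderOf_dvd_natCard K (hXK hy₁X).1)
  obtain ⟨j, hj, hjo⟩ := CfsgLib.LocalEven.Offender.exists_coprime_lift (p := p) (π.comp (L y₁).subtype) (⟨z, hz⟩ : L y₁) hco
  set w : L y₁ := ⟨z, hz⟩ ^ j with hw
  set y : M := (w : M) with hy
  have hyeq : π y = π y₁ := (show π ((w : M)) = π z from hj).trans hzy
  have hyL : y ∈ L y₁ := w.2
  have hLy : L y = L y₁ := by
    have hle : L y ≤ L y₁ := by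
      refine sup_le le_sup_left ?_
      rintro _ ⟨a, ha, rfl⟩
      exact mul_mem (mul_mem hyL (Subgroup.mem_sup_left ha)) (inv_mem hyL)
    exact le_antisymm hle (hTmin ⟨y, hyeq.symm ▸ hy₁X, hyeq.symm ▸ hy₁C, rfl⟩ hle)
  refine ⟨y, ?_, ?_⟩
  · show π y ∈ K
    rw [hyeq]; exact (hXK hy₁X).1
  set L' := A ⊔ A.map (MulAut.conj y).toMonoidHom with hL'
  have hyL' : y ∈ L' := by rw [show L' = L y from rfl, hLy]; exact hyL
  set R := (Cfsg.pResidual p L').map L'.subtype with hR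
  have hyR : y ∈ R := by
    refine ⟨⟨y, hyL'⟩, CfsgLib.Transfer.mem_pResidual_of_coprime ?_, rfl⟩
    rw [Subgroup.orderOf_mk, hy, Subgroup.orderOf_coe]
    exact hjo
  have hAL : A ≤ L' := le_sup_left
  have hyAL : ∀ a ∈ A, y * a * y⁻¹ ∈ L' := fun a ha => Subgroup.mem_sup_right ⟨a, ha, rfl⟩
  have hRn : L' ≤ Subgroup.normalizer (R : Set M) := by
    haveI := CfsgLib.Transfer.pResidual_characteristic (p := p) (G := L')
    refine CfsgLib.Solvable.le_normalizer_of_conj_mem fun l hl x hx => ?_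
    obtain ⟨r, hr, rfl⟩ := hx
    exact ⟨⟨l, hl⟩ * r * ⟨l, hl⟩⁻¹, (inferInstance : (Cfsg.pResidual p L').Normal).conj_mem r hr _, rfl⟩
  -- the image of `L'` lies in `K` times the image of `A`
  have hLK : L'.map π ≤ K ⊔ Ab := by
    rw [hL', Subgroup.map_sup]
    refine sup_le le_sup_right ?_
    rintro _ ⟨_, ⟨a, ha, rfl⟩, rfl⟩
    show π (y * a * y⁻¹) ∈ K ⊔ Ab
    have hyK : π y ∈ K := by rw [hyeq]; exact (hXK hy₁X).1
    rw [map_mul, map_mul, map_inv]
    exact mul_mem (mul_mem (Subgroup.mem_sup_left hyK) (Subgroup.mem_sup_right ⟨a, ha, rfl⟩)) (Subgroup.mem_sup_left (inv_mem hyK))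
  have hRK : ∀ x ∈ R, π x ∈ K := by
    rintro _ ⟨x, hx, rfl⟩
    let f : L' →* (M ⧸ Q) ⧸ K := (QuotientGroup.mk' K).comp (π.comp L'.subtype)
    have hf : IsPGroup p f.range := (hAbp.map (QuotientGroup.mk' K)).to_le (by
      rintro _ ⟨u, rfl⟩
      have h1 := Subgroup.mem_map_of_mem (QuotientGroup.mk' K) (hLK ⟨(u : M), u.2, rfl⟩)
      rwa [Subgroup.map_sup, QuotientGroup.map_mk'_self, bot_sup_eq] at h1)
    have h1 := CfsgLib.Transfer.pResidual_le_ker hf f.rangeRestrict hx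
    rw [MonoidHom.mem_ker] at h1
    exact (QuotientGroup.eq_one_iff _).1 (congrArg Subtype.val h1)
  have hcomm : ⁅R, A⁆ = R := by
    set U := ⁅R, A⁆ with hU
    have hUR : U ≤ R := CfsgLib.Solvable.commutator_le_of_le_normalizer (hAL.trans hRn)
    have hRN : R ≤ Subgroup.normalizer (U : Set M) := CfsgLib.Solvable.le_normalizer_commutator_left R A
    have hAN : A ≤ Subgroup.normalizer (U : Set M) := CfsgLib.Solvable.le_normalizer_commutator_right (hAL.trans hRn)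
    have hRL : R ≤ L' := Subgroup.map_subtype_le _
    have hLN : L' ≤ Subgroup.normalizer (U : Set M) := by
      refine sup_le hAN ?_
      rintro _ ⟨a, ha, rfl⟩
      exact mul_mem (mul_mem (hRN hyR) (hAN ha)) (inv_mem (hRN hyR))
    refine le_antisymm hUR ?_
    haveI : (U.subgroupOf L').Normal := (Subgroup.normal_subgroupOf_iff_le_normalizer (hUR.trans hRL)).2 hLN
    have hsup : A ⊔ U = L' := by
      refine le_antisymm (sup_le hAL (hUR.trans hRL)) (sup_le le_sup_left ?_)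
      rintro _ ⟨a, ha, rfl⟩
      have h := mul_mem (Subgroup.mem_sup_right (Subgroup.commutator_mem_commutator hyR ha) : ⁅y, a⁆ ∈ A ⊔ U) (Subgroup.mem_sup_left ha : a ∈ A ⊔ U)
      rwa [commutatorElement_def, inv_mul_cancel_right] at h
    have hq : IsPGroup p (L' ⧸ U.subgroupOf L') := by
      have hAp' : IsPGroup p (A.subgroupOf L') := hA.of_equiv (Subgroup.subgroupOfEquivOfLe hAL).symm
      have htop : A.subgroupOf L' ⊔ U.subgroupOf L' = ⊤ := by
        rw [← Subgroup.subgroupOf_sup hAL (hUR.trans hRL), hsup, Subgroup.subgroupOf_self]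
      have h1 := hAp'.map (QuotientGroup.mk' (U.subgroupOf L'))
      have hmap : (A.subgroupOf L').map (QuotientGroup.mk' (U.subgroupOf L')) = ⊤ := by
        rw [← Subgroup.map_top_of_surjective _ (QuotientGroup.mk'_surjective (U.subgroupOf L')), ← htop,
          Subgroup.map_sup, QuotientGroup.map_mk'_self, sup_bot_eq]
      rw [hmap] at h1
      exact h1.of_equiv Subgroup.topEquiv
    have h1 := CfsgLib.Transfer.pResidual_le hq
    intro x hx
    obtain ⟨r, hr, rfl⟩ := hx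
    exact h1 hr
  set O := (Cfsg.pCore p L').map L'.subtype with hO
  -- the image of `L'` centralizes `B`
  have hcent : ∀ l ∈ L', ∀ b ∈ B, b * π l = π l * b := by
    have hle : L' ≤ (Subgroup.centralizer (B : Set (M ⧸ Q))).comap π := by
      refine sup_le (fun a ha => hBc ⟨a, ha, rfl⟩) ?_
      rintro _ ⟨a, ha, rfl⟩
      have hyB : y ∈ (Subgroup.centralizer (B : Set (M ⧸ Q))).comap π := by
        show π y ∈ Subgroup.centralizer (B : Set (M ⧸ Q))
        rw [hyeq]; exact (hXK hy₁X).2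
      exact mul_mem (mul_mem hyB (show a ∈ (Subgroup.centralizer (B : Set (M ⧸ Q))).comap π from hBc ⟨a, ha, rfl⟩)) (inv_mem hyB)
    exact fun l hl b hb => Subgroup.mem_centralizer_iff.1 (hle hl) b hb
  have hABO : A ⊓ B.comap π ≤ A ⊓ O := by
    refine le_inf inf_le_left fun u hu => ?_
    set N := (B.comap π).subgroupOf L' with hN
    haveI : N.Normal := ⟨fun n hn g => by
      have e : π ((g : M) * (n : M) * (g : M)⁻¹) = π (n : M) := by
        rw [map_mul, map_mul, map_inv, ← hcent g g.2 (π (n : M)) hn, mul_inv_cancel_right]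
      show π ((g : M) * (n : M) * (g : M)⁻¹) ∈ B
      rw [e]; exact hn⟩
    have hNp : IsPGroup p N := by
      refine IsPGroup.comap_subtype ?_
      refine (hAbp.to_le hBA).comap_of_ker_isPGroup _ ?_
      rw [hπ, QuotientGroup.ker_mk']
      exact CfsgLib.Cores.isPGroup_pCore p
    exact ⟨⟨u, hAL (Subgroup.mem_inf.1 hu).1⟩, CfsgLib.Cores.le_pCore hNp (Subgroup.mem_inf.1 hu).2, rfl⟩
  have hidx : (A ⊓ B.comap π).relIndex A = p := by
    rw [inf_comm, Subgroup.inf_relIndex_right, Subgroup.relIndex_comap, ← hAb, hBi]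
  have hnotO : ¬ A ≤ O := by
    intro hle
    have hLO : L' ≤ O := by
      refine sup_le hle ?_
      rintro _ ⟨a, ha, rfl⟩
      obtain ⟨o, ho, hoa⟩ := hle ha
      refine ⟨⟨y, hyL'⟩ * o * ⟨y, hyL'⟩⁻¹, ?_, ?_⟩
      · haveI := CfsgLib.Cores.pCore_characteristic (G := L') p
        exact (inferInstance : (Cfsg.pCore p L').Normal).conj_mem o ho _
      · show y * (o : M) * y⁻¹ = y * a * y⁻¹
        rw [← hoa]; rfl
    have hp := ((CfsgLib.Cores.isPGroup_pCore (G := L') p).map L'.subtype).to_le hLO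
    obtain ⟨e, he⟩ := IsPGroup.iff_orderOf.1 hp ⟨y, hyL'⟩
    rw [Subgroup.orderOf_mk] at he
    have hy1 : y = 1 := orderOf_eq_one_iff.1 (Nat.eq_one_of_dvd_coprimes (hjo.pow_right e)
      (by rw [hy, Subgroup.orderOf_coe]) he.dvd)
    apply hy₁C
    rw [← hyeq, hy1, map_one]
    exact one_mem _
  have hmul := Subgroup.relIndex_mul_relIndex (A ⊓ B.comap π) (A ⊓ O) A hABO inf_le_left
  rw [hidx] at hmul
  have hAO : (A ⊓ O).relIndex A = p := by
    rcases (Nat.dvd_prime (Fact.out : p.Prime)).1 (Dvd.intro_left _ hmul) with h | h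
    · exact absurd ((Subgroup.relIndex_eq_one.1 h).trans inf_le_right) hnotO
    · exact h
  rw [hAO] at hmul
  have hOB : A ⊓ O ≤ A ⊓ B.comap π :=
    Subgroup.relIndex_eq_one.1 (Nat.eq_of_mul_eq_mul_right (Fact.out : p.Prime).pos (hmul.trans (one_mul p).symm))
  refine ⟨hyR, ?_, hcomm, hAO, ?_⟩
  · intro x hx
    exact hRK x hx
  · rw [Subgroup.commutator_le]
    intro u hu l hl
    rw [← hπQ, map_commutatorElement, commutatorElement_eq_one_iff_mul_comm]
    exact hcent l hl _ (Subgroup.mem_inf.1 (hOB hu)).2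

end Cfsg.Agent.S3754
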