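import Cfsg.Statements.S3760

set_option autoImplicit false
open Cfsg

namespace Cfsg.Agent.S3760

/-- Let the group G act transitively on a set X, let x ∈ X with stabilizer H = G_x, and let K ≤ H. Then N_G(K) acts transitively on the set of fixed points of K if and only if every G-conjugate of K contained in H is already an H-conjugate of K. -/
theorem result {G : Type*} [Group G] {X : Type*} [MulAction G X] (htrans : ∀ a b : X, ∃ g : G, g • a = b) (x : X) (K : Subgroup G) (hK : K ≤ MulAction.stabilizer G x) : (∀ a b : X, (∀ k ∈ K, k • a = a) → (∀ k ∈ K, k • b = b) → ∃ g ∈ Subgroup.normalizer (K : Set G), g • a = b) ↔ ∀ g : G, K.map (MulAut.conj g).toMonoidHom ≤ MulAction.stabilizer G x → ∃ h ∈ MulAction.stabilizer G x, K.map (MulAut.conj g).toMonoidHom = K.map (MulAut.conj h).toMonoidHom := by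
  constructor
  · intro h g hg
    obtain ⟨n, hn, hnx⟩ := h (g⁻¹ • x) x (fun k hk => by
      rw [eq_inv_smul_iff, smul_smul, smul_smul]
      exact hg ⟨k, hk, rfl⟩) (fun k hk => hK hk)
    refine ⟨g * n⁻¹, ?_, ?_⟩
    · rw [MulAction.mem_stabilizer_iff, mul_smul]
      calc g • n⁻¹ • x = g • n⁻¹ • (n • g⁻¹ • x) := by rw [hnx]
        _ = x := by rw [inv_smul_smul, smul_inv_smul]
    · ext y
      simp only [Subgroup.mem_map, MulEquiv.coe_toMonoidHom, MulAut.conj_apply]
      have hn' := Subgroup.mem_normalizer_iff.1 hn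
      constructor
      · rintro ⟨k, hk, rfl⟩
        exact ⟨n * k * n⁻¹, (hn' k).1 hk, by group⟩
      · rintro ⟨k, hk, rfl⟩
        refine ⟨n⁻¹ * k * n, (hn' _).2 ?_, by group⟩
        simpa [mul_assoc] using hk
  · intro h a b ha hb
    obtain ⟨u, rfl⟩ := htrans x a
    obtain ⟨v, rfl⟩ := htrans x b
    have fix : ∀ w : G, (∀ k ∈ K, k • w • x = w • x) →
        ∃ t ∈ MulAction.stabilizer G x, w * t ∈ Subgroup.normalizer (K : Set G) := by
      intro w hw
      obtain ⟨t, ht, hteq⟩ := h w⁻¹ (by
        rintro _ ⟨k, hk, rfl⟩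
        simp [MulAction.mem_stabilizer_iff, mul_smul, hw k hk])
      refine ⟨t, ht, Subgroup.mem_normalizer_iff.2 fun k => ?_⟩
      constructor
      · intro hk
        have h1 : MulAut.conj t k ∈ K.map (MulAut.conj w⁻¹).toMonoidHom := by
          rw [hteq]; exact ⟨k, hk, rfl⟩
        obtain ⟨k', hk', hk''⟩ := h1
        have : w * t * k * (w * t)⁻¹ = k' := by
          simp only [MulEquiv.coe_toMonoidHom, MulAut.conj_apply] at hk''
          calc w * t * k * (w * t)⁻¹ = w * (t * k * t⁻¹) * w⁻¹ := by group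
            _ = k' := by rw [← hk'']; group
        exact this ▸ hk'
      · intro hk
        have h1 : MulAut.conj w⁻¹ (w * t * k * (w * t)⁻¹) ∈ K.map (MulAut.conj t).toMonoidHom := by
          rw [← hteq]; exact ⟨_, hk, rfl⟩
        obtain ⟨k', hk', hk''⟩ := h1
        have : k' = k := (MulAut.conj t).injective (by
          simp only [MulEquiv.coe_toMonoidHom, MulAut.conj_apply] at hk'' ⊢
          rw [hk'']; group)
        exact this ▸ hk'
    obtain ⟨s, hs, hsn⟩ := fix u ha
    obtain ⟨t, ht, htn⟩ := fix v hb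
    refine ⟨v * t * (u * s)⁻¹, Subgroup.mul_mem _ htn (Subgroup.inv_mem _ hsn), ?_⟩
    have h1 : (u * s)⁻¹ • u • x = x := by
      rw [mul_inv_rev, mul_smul, inv_smul_smul, inv_smul_eq_iff]
      exact hs.symm
    rw [mul_smul, h1, mul_smul, show t • x = x from ht]

end Cfsg.Agent.S3760
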