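import Cfsg.Statements.S3763
import Cfsg.Agent.S4416
import Cfsg.Agent.S2880
import Cfsg.Agent.Lib.LargeExtra.Extraspecial
import Mathlib.GroupTheory.NoncommCoprod

set_option autoImplicit false
open Cfsg

namespace Cfsg.Agent.S3763

open Subgroup Cfsg.Agent.S4416
open scoped commutatorElement

universe u

/-- Elementary abelian of the given order. -/
def HasEA (E : Type u) [Group E] (k : ℕ) : Prop :=
  ∃ A : Subgroup E, IsMulCommutative A ∧ (∀ a ∈ A, a ^ 2 = 1) ∧ Nat.card A = k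

theorem HasEA.extend {E : Type u} [Group E] [Finite E] {C : Subgroup E} {k : ℕ} (h : HasEA ↥C k) {x : E}
    (hx : x ^ 2 = 1) (hxC : x ∉ C) (hcomm : ∀ c ∈ C, x * c = c * x) : HasEA E (2 * k) := by
  obtain ⟨A, hA, hA2, hAk⟩ := h
  haveI := hA
  let f : ↥(zpowers x) × ↥A →* E := MonoidHom.noncommCoprod (zpowers x).subtype (C.subtype.comp A.subtype)
    fun a b => by
      obtain ⟨i, hi⟩ := mem_zpowers_iff.1 a.2
      show Commute (a : E) ((b : ↥C) : E)
      rw [← hi]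
      exact Commute.zpow_left (hcomm _ (b : ↥C).2) i
  have hz : ∀ a : E, a ∈ zpowers x → a = 1 ∨ a = x := by
    intro a ha
    obtain ⟨i, rfl⟩ := mem_zpowers_iff.1 ha
    rcases Int.even_or_odd' i with ⟨j, rfl | rfl⟩
    · left; rw [zpow_mul, zpow_ofNat, hx, one_zpow]
    · right; rw [zpow_add_one, zpow_mul, zpow_ofNat, hx, one_zpow, one_mul]
  have hinj : Function.Injective f := by
    refine (injective_iff_map_eq_one f).2 ?_
    rintro ⟨⟨a, ha⟩, b⟩ hab
    have hab' : a * ((b : ↥C) : E) = 1 := hab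
    rcases hz a ha with rfl | rfl
    · exact Prod.ext rfl (Subtype.ext (Subtype.ext (by rwa [one_mul] at hab')))
    · exact absurd (by rw [eq_inv_of_mul_eq_one_left hab']; exact inv_mem (b : ↥C).2) hxC
  refine ⟨f.range, ⟨⟨?_⟩⟩, ?_, ?_⟩
  · rintro ⟨_, a, rfl⟩ ⟨_, b, rfl⟩
    refine Subtype.ext ?_
    show f a * f b = f b * f a
    rw [← map_mul, ← map_mul, mul_comm' a b]
  · rintro _ ⟨⟨a, b⟩, rfl⟩
    rw [← map_pow, Prod.pow_mk]
    have h1 : a ^ 2 = 1 := Subtype.ext (by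
      rcases hz _ a.2 with e | e
      · rw [SubmonoidClass.coe_pow, e, one_pow]; rfl
      · rw [SubmonoidClass.coe_pow, e, hx]; rfl)
    have h2 : b ^ 2 = 1 := Subtype.ext (hA2 _ b.2)
    rw [h1, h2]; exact map_one f
  · rw [Nat.card_congr (MonoidHom.ofInjective hinj).toEquiv.symm, Nat.card_prod, Nat.card_zpowers, hAk,
      orderOf_eq_prime hx fun e => hxC (e ▸ one_mem C)]

theorem exists_ea : ∀ (n : ℕ) (E : Type u) [Group E] [Finite E], Heis E → Nat.card E = 2 ^ (2 * n + 1) →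
    (sq1 E = 2 ^ (2 * n) + 2 ^ n → HasEA E (2 ^ (n + 1))) ∧
    (sq1 E = 2 ^ (2 * n) - 2 ^ n → n ≠ 0 → HasEA E (2 ^ n)) := by
  intro n
  induction n with
  | zero =>
    intro E _ _ h hn
    refine ⟨fun _ => ⟨center E, inferInstance, fun a ha => (pow_two a).trans (zpow_two h ha), by rw [h.1]; norm_num⟩,
      fun _ h0 => absurd rfl h0⟩
  | succ n ih =>
    intro E _ _ h hn
    haveI := Fintype.ofFinite E
    have p1 : 2 ^ (2 * (n + 1)) = 4 * 2 ^ (2 * n) := by ring
    have p2 : 2 ^ (n + 1) = 2 * 2 ^ n := by ring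
    have p4 : 2 ^ n ≤ 2 ^ (2 * n) := Nat.pow_le_pow_right (by norm_num) (by omega)
    have p5 : 1 ≤ 2 ^ n := Nat.one_le_two_pow
    have hne : Nat.card E ≠ 2 := by
      rw [hn, show 2 ^ (2 * (n + 1) + 1) = 8 * 2 ^ (2 * n) by ring]; omega
    have step : 2 < sq1 E → ∃ C : Subgroup E, Heis ↥C ∧ Nat.card ↥C = 2 ^ (2 * n + 1) ∧
        ((sq1 E : ℤ) = 2 * (sq1 ↥C : ℤ) + 2 * 2 ^ (2 * n)) ∧
        ∀ k, HasEA ↥C k → HasEA E (2 * k) := by
      intro h2
      obtain ⟨x, y, hxy, hx, hy⟩ := pair_inv h hne h2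
      obtain ⟨C, hC, -, hcm, hb⟩ := exists_coords h hxy
      haveI := Fintype.ofFinite C
      have hcard := card_coords C hb
      have hCn : Nat.card ↥C = 2 ^ (2 * n + 1) := by
        rw [hn, show 2 ^ (2 * (n + 1) + 1) = 4 * 2 ^ (2 * n + 1) by ring] at hcard
        omega
      have hsum := sum_sgn_coords h C hcm hb
      rw [pair_sum h hxy, if_pos (Or.inl hx), sum_sgn, sum_sgn, hcard, hCn] at hsum
      push_cast at hsum
      refine ⟨C, hC, hCn, by rw [pow_succ] at hsum; linarith, fun k hk => hk.extend hx (fun hxC => hxy ?_)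
        fun c hc => (hcm c hc).1⟩
      exact commutatorElement_eq_one_iff_mul_comm.2 (hcm x hxC).2
    refine ⟨fun hs => ?_, fun hs _ => ?_⟩
    · obtain ⟨C, hC, hCn, he, hext⟩ := step (by rw [hs, p1, p2]; omega)
      have : sq1 ↥C = 2 ^ (2 * n) + 2 ^ n := by
        rw [hs, p1, p2] at he; push_cast at he
        have h1 : (sq1 ↥C : ℤ) = ((2 ^ (2 * n) + 2 ^ n : ℕ) : ℤ) := by push_cast; linarith
        exact_mod_cast h1
      rw [show 2 ^ (n + 1 + 1) = 2 * 2 ^ (n + 1) by ring]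
      exact hext _ ((ih ↥C hC hCn).1 this)
    · rcases Nat.eq_zero_or_pos n with rfl | hn0
      · exact ⟨center E, inferInstance, fun a ha => (pow_two a).trans (zpow_two h ha), by rw [h.1]; norm_num⟩
      have p6 : 2 ≤ 2 ^ n := le_self_pow (by norm_num) (by omega)
      have p7 : 2 * 2 ^ n ≤ 2 ^ (2 * n) := by
        rw [← p2]; exact Nat.pow_le_pow_right (by norm_num) (by omega)
      obtain ⟨C, hC, hCn, he, hext⟩ := step (by rw [hs, p1, p2]; omega)
      have : sq1 ↥C = 2 ^ (2 * n) - 2 ^ n := by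
        rw [hs, p1, p2] at he; push_cast [Nat.cast_sub p4, show 2 * 2 ^ n ≤ 4 * 2 ^ (2 * n) by omega] at he
        have h1 : (sq1 ↥C : ℤ) = ((2 ^ (2 * n) - 2 ^ n : ℕ) : ℤ) := by push_cast [Nat.cast_sub p4]; linarith
        exact_mod_cast h1
      rw [p2]
      exact hext _ ((ih ↥C hC hCn).2 this (by omega))

theorem rank_facts {E : Type u} [Group E] [Finite E] (hE : Cfsg.IsExtraspecial 2 E) {n : ℕ}
    (hn : Nat.card E = 2 ^ (2 * n + 1)) :
    1 ≤ n ∧ Cfsg.PRankLE 2 (n + 1) E ∧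
    (sq1 E = 2 ^ (2 * n) + 2 ^ n ∧ ¬ Cfsg.PRankLE 2 n E ∨
      sq1 E = 2 ^ (2 * n) - 2 ^ n ∧ Cfsg.PRankLE 2 n E ∧ ¬ Cfsg.PRankLE 2 (n - 1) E) := by
  obtain ⟨⟨m, hm1, hmn, hsq⟩, -⟩ := Cfsg.Agent.S4416.result.{_, u} E hE
  have hnm : n = m := by
    have := Nat.pow_right_injective (le_refl 2) (hn.symm.trans hmn)
    omega
  subst hnm
  have h := heis_of hE
  have hb : Cfsg.PRankLE 2 (n + 1) E := by
    intro A hA _
    set M := A ⊔ center E with hM
    have hMc : M ≤ centralizer (M : Set E) := by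
      have hc : IsMulCommutative ↥A := hA
      have h1 : A ≤ centralizer (M : Set E) := by
        rw [le_centralizer_iff, hM]
        refine sup_le (le_centralizer_iff.1 ?_) (center_le_centralizer _)
        exact fun a ha => mem_centralizer_iff.2 fun b hb => congrArg Subtype.val (mul_comm' (⟨b, hb⟩ : ↥A) ⟨a, ha⟩)
      exact sup_le h1 (center_le_centralizer _)
    have h2 := CfsgLib.LargeExtra.card_centralizer_mul_card hE M le_sup_right
    rw [hn, hE.2] at h2
    have h3 := Nat.mul_le_mul_right (Nat.card M) (Subgroup.card_le_of_le hMc)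
    rw [h2] at h3
    have h4 : (Nat.card A) * (Nat.card A) ≤ 2 ^ (n + 1) * 2 ^ (n + 1) := by
      refine le_trans (Nat.mul_le_mul (Subgroup.card_le_of_le le_sup_left) (Subgroup.card_le_of_le le_sup_left)) (h3.trans (le_of_eq ?_))
      ring
    exact Nat.mul_self_le_mul_self_iff.1 h4
  refine ⟨hm1, hb, ?_⟩
  have hno : ∀ k, HasEA E k → ∀ j, k > 2 ^ j → ¬ Cfsg.PRankLE 2 j E := by
    rintro k ⟨A, hA, hA2, rfl⟩ j hj hP
    exact absurd (hP A hA hA2) (by omega)
  have p5 : 1 ≤ 2 ^ n := Nat.one_le_two_pow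
  rcases hsq with hsq | hsq
  · left
    exact ⟨hsq, hno _ ((exists_ea n E h hn).1 hsq) n (Nat.pow_lt_pow_right (by norm_num) (by omega))⟩
  · right
    refine ⟨hsq, ?_, hno _ ((exists_ea n E h hn).2 hsq (by omega)) _ (Nat.pow_lt_pow_right (by norm_num) (by omega))⟩
    intro A hA hA2
    by_contra hlt
    push Not at hlt
    have hle := hb A hA hA2
    haveI : Fact (Nat.Prime 2) := ⟨Nat.prime_two⟩
    obtain ⟨j, hj⟩ := ((IsPGroup.of_card hn).to_subgroup A).exists_card_eq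
    rw [hj] at hlt hle
    have e1 := (Nat.pow_lt_pow_iff_right (by norm_num)).1 hlt
    have e2 := (Nat.pow_le_pow_iff_right (by norm_num)).1 hle
    have h4 := Cfsg.Agent.S2880.result n hm1 hE hn ⟨A, ⟨hA, hA2⟩, by rw [hj]; congr 1; omega⟩
    have hall : ∀ x : E, x ^ 2 = 1 ↔ ¬ orderOf x = 4 := by
      intro x
      constructor
      · intro hx h4
        have := Nat.le_of_dvd (by norm_num) (orderOf_dvd_of_pow_eq_one hx)
        omega
      · intro hx
        have h5 : orderOf x ∣ 2 ^ 2 := orderOf_dvd_of_pow_eq_one (by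
          rw [show 2 ^ 2 = 2 * 2 from rfl, pow_mul, pow_two]; exact zpow_two h (h.2.2 x))
        obtain ⟨i, hi, hio⟩ := (Nat.dvd_prime_pow Nat.prime_two).1 h5
        refine orderOf_dvd_iff_pow_eq_one.1 ?_
        interval_cases i <;> simp_all
    haveI := Fintype.ofFinite E
    classical
    have hsum : sq1 E + Nat.card {x : E // orderOf x = 4} = Nat.card E := by
      rw [sq1, Nat.card_congr (Equiv.subtypeEquivRight hall), ← Nat.card_sum]
      exact Nat.card_congr ((Equiv.sumComm _ _).trans (Equiv.sumCompl _))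
    rw [h4, hn, show sq1 E = _ from hsq, show 2 ^ (2 * n + 1) = 2 * 2 ^ (2 * n) by ring] at hsum
    have : 2 ^ n ≤ 2 ^ (2 * n) := Nat.pow_le_pow_right (by norm_num) (by omega)
    omega

/-- Let E be an extraspecial 2-group of order 2^(2n+1). Then the largest elementary abelian subgroups of E have order 2^n or 2^(n+1); and two extraspecial 2-groups of the same order whose largest elementary abelian subgroups have the same order are isomorphic. -/
theorem result {E : Type*} [Group E] [Finite E] (hE : Cfsg.IsExtraspecial 2 E) (n : ℕ) (hn : Nat.card E = 2 ^ (2 * n + 1)) : ((Cfsg.PRankLE 2 n E ∧ ¬ Cfsg.PRankLE 2 (n - 1) E) ∨ (Cfsg.PRankLE 2 (n + 1) E ∧ ¬ Cfsg.PRankLE 2 n E)) ∧ ∀ (E' : Type*) [Group E'] [Finite E'], Cfsg.IsExtraspecial 2 E' → Nat.card E' = Nat.card E → (∀ k : ℕ, Cfsg.PRankLE 2 k E ↔ Cfsg.PRankLE 2 k E') → Nonempty (E ≃* E') := by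
  obtain ⟨hn1, hb, hcase⟩ := rank_facts hE hn
  refine ⟨?_, fun E' _ _ hE' hcard hk => ?_⟩
  · rcases hcase with ⟨-, h⟩ | ⟨-, h⟩
    · exact Or.inr ⟨hb, h⟩
    · exact Or.inl h
  obtain ⟨-, -, hcase'⟩ := rank_facts hE' (hcard.trans hn)
  refine (Cfsg.Agent.S4416.result E hE).2 E' hE' hcard ?_
  show sq1 E' = sq1 E
  rcases hcase with ⟨e, h⟩ | ⟨e, h, -⟩ <;> rcases hcase' with ⟨e', h'⟩ | ⟨e', h', -⟩
  · rw [e, e']
  · exact absurd ((hk n).2 h') h
  · exact absurd ((hk n).1 h) h'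
  · rw [e, e']

end Cfsg.Agent.S3763
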