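import Cfsg.Statements.S3764
import Cfsg.Agent.Lib.Solvable.HallHigmanData
import Cfsg.Agent.Lib.Solvable.ShultGross
import Cfsg.Agent.Lib.PGroup.Extraspecial
import Cfsg.Agent.Lib.OddLocal.Puig

set_option autoImplicit false
open Cfsg

namespace Cfsg.Agent.S3764

open scoped commutatorElement

universe u v

set_option maxHeartbeats 800000 in
theorem extraspecial_fpf_operator {k : Type v} [Field k] [IsAlgClosed k] {W : Type*}
    [AddCommGroup W] [Module k W] [FiniteDimensional k W] {Q : Type u} [Group Q] [Finite Q]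
    {q r : ℕ} [hq : Fact q.Prime] [hr : Fact r.Prime] (hqr : q ≠ r) (hQ : Cfsg.IsExtraspecial q Q)
    (hQp : IsPGroup q Q)
    (hqk : (q : k) ≠ 0) (hrk : (r : k) ≠ 0) (σ : MulAut Q) (hσ : σ ^ r = 1)
    (hσZ : ∀ x, σ x = x ↔ x ∈ Subgroup.center Q)
    (ρ : Q →* Module.End k W) (hinj : Function.Injective ρ) (S : Module.End k W)
    (hS : ∀ x, S * ρ x = ρ (σ x) * S) (hSr : S ^ r = 1) (hfix : ∀ w, S w = w → w = 0) :
    q = 2 ∧ ∃ n : ℕ, r = 2 ^ n + 1 ∧ Nat.card Q = 2 ^ (2 * n + 1) := by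
  classical
  set C := Subgroup.center Q with hCdef
  letI : CommGroup C :=
    { (inferInstance : Group C) with
      mul_comm := fun a b => Subtype.ext (Subgroup.mem_center_iff.1 b.2 a) }
  have hcardk : ∀ (H : Subgroup Q), (Nat.card H : k) ≠ 0 := fun H => by
    obtain ⟨i, hi⟩ := (hQp.to_subgroup H).exists_card_eq
    rw [hi, Nat.cast_pow]; exact pow_ne_zero _ hqk
  have hQk : (Nat.card Q : k) ≠ 0 := by
    obtain ⟨i, hi⟩ := hQp.exists_card_eq
    rw [hi, Nat.cast_pow]; exact pow_ne_zero _ hqk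
  have hσC : ∀ y ∈ C, σ y ∈ C := fun y hy => by rw [(hσZ y).2 hy]; exact hy
  have hCfpf : ∀ x, x⁻¹ * σ x ∈ C → x ∈ C := by
    intro x hx
    obtain ⟨z, hz⟩ : ∃ z, z = x⁻¹ * σ x := ⟨_, rfl⟩
    rw [← hz] at hx
    have h1 := CfsgLib.Solvable.pow_apply_mul_fixed (φ := σ) (x := x) (z := z)
      (by rw [hz, mul_inv_cancel_left]) ((hσZ z).2 hx) r
    rw [hσ] at h1
    have h2 : z = 1 := CfsgLib.Solvable.eq_one_of_pow_eq_one_of_pGroup (p := r) (j := 1) hQp hqr
      (by rw [pow_one]; exact left_eq_mul.1 h1)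
    rw [hz] at h2
    exact (hσZ x).1 (inv_mul_eq_one.1 h2).symm
  have hDC : ∀ x y : Q, ⁅x, y⁆ ∈ C := fun x y => by
    have h := Subgroup.commutator_mem_commutator (Subgroup.mem_top x) (Subgroup.mem_top y)
    show ⁅x, y⁆ ∈ Subgroup.center Q
    rw [← hQ.1.2.2]
    exact h
  haveI hCn : C.Normal := inferInstance
  have hgen : Subgroup.closure (Set.range fun x : Q => x⁻¹ * σ x) ⊔ C = ⊤ := by
    obtain ⟨g, hg⟩ := CfsgLib.FGS.exists_quotient_mulAut σ hσC
    have hg1 : ∀ y, g (QuotientGroup.mk' C y) = QuotientGroup.mk' C (σ y) := fun y => by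
      have h := hg 1 y
      rwa [pow_one, pow_one] at h
    have hgf : ∀ t, g t = t → t = 1 := fun t ht => by
      obtain ⟨y, rfl⟩ := QuotientGroup.mk'_surjective C t
      rw [hg1] at ht
      exact (QuotientGroup.eq_one_iff y).2 (hCfpf y (QuotientGroup.eq.1 ht.symm))
    refine eq_top_iff.2 fun y _ => ?_
    obtain ⟨t, ht⟩ := (CfsgLib.FGS.bijective_inv_mul_apply g hgf).2 (QuotientGroup.mk' C y)
    obtain ⟨x, rfl⟩ := QuotientGroup.mk'_surjective C t
    have h1 : (x⁻¹ * σ x)⁻¹ * y ∈ C := QuotientGroup.eq.1 (by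
      show QuotientGroup.mk' C (x⁻¹ * σ x) = QuotientGroup.mk' C y
      rw [map_mul, map_inv, ← hg1]; exact ht)
    have h2 := mul_mem (Subgroup.mem_sup_left (T := C)
      (Subgroup.subset_closure ⟨x, rfl⟩ : x⁻¹ * σ x ∈ Subgroup.closure (Set.range fun x : Q => x⁻¹ * σ x)))
      (Subgroup.mem_sup_right h1)
    rwa [mul_inv_cancel_left] at h2
  let ρC : C →* Module.End k W := ρ.comp C.subtype
  obtain ⟨χ, hχ1, hχ⟩ : ∃ χ : C →* kˣ, χ ≠ 1 ∧ CfsgLib.Solvable.charProj ρC χ ≠ 0 := by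
    by_contra hcon
    push Not at hcon
    have hCtriv : ∀ a : C, a = 1 := fun a => Subtype.ext (hinj (by
      rw [OneMemClass.coe_one, map_one]
      refine CfsgLib.Solvable.ext_charProj ρC (hcardk C) fun χ => ?_
      rw [mul_one, show ρ (a : Q) = ρC a from rfl, CfsgLib.Solvable.charProj_mul_apply]
      rcases eq_or_ne χ 1 with rfl | hχ
      · simp
      · rw [hcon χ hχ, smul_zero]))
    haveI : Subsingleton C := ⟨fun a b => (hCtriv a).trans (hCtriv b).symm⟩
    exact hq.out.ne_one (hQ.2.symm.trans (Nat.card_unique))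
  set e := CfsgLib.Solvable.charProj ρC χ with he
  have hec : ∀ y, ρ y * e = e * ρ y := fun y => CfsgLib.Solvable.charProj_comm ρC χ fun u => by
    show ρ y * ρ (u : Q) = ρ (u : Q) * ρ y
    rw [← map_mul, ← map_mul, Subgroup.mem_center_iff.1 u.2 y]
  have hSe : S * e = e * S := CfsgLib.Solvable.charProj_comm ρC χ fun u => by
    show S * ρ (u : Q) = ρ (u : Q) * S
    rw [hS, (hσZ _).2 u.2]
  let U : Submodule k W := LinearMap.range e
  have hUe : ∀ w ∈ U, e w = w := by
    rintro _ ⟨w, rfl⟩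
    rw [← Module.End.mul_apply, CfsgLib.Solvable.charProj_idem ρC (hcardk C) χ]
  have hUinv : ∀ y, ∀ w ∈ U, ρ y w ∈ U := fun y w hw =>
    ⟨ρ y w, by rw [← Module.End.mul_apply, ← hec, Module.End.mul_apply, hUe w hw]⟩
  have hSU : ∀ w ∈ U, S w ∈ U := fun w hw =>
    ⟨S w, by rw [← Module.End.mul_apply, ← hSe, Module.End.mul_apply, hUe w hw]⟩
  haveI : Nontrivial U := Submodule.nontrivial_iff_ne_bot.2 fun h => hχ (LinearMap.ext fun w => by
    have h1 : e w ∈ U := ⟨w, rfl⟩
    rw [h, Submodule.mem_bot] at h1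
    exact h1)
  let ρU : Q →* Module.End k U :=
    { toFun := fun y => (ρ y).restrict (hUinv y)
      map_one' := LinearMap.ext fun w => Subtype.ext (by simp)
      map_mul' := fun y z => LinearMap.ext fun w => Subtype.ext (by simp) }
  have hscal : ∀ u : C, ρU (u : Q) = ((χ u : kˣ) : k) • 1 := fun u => LinearMap.ext fun w =>
    Subtype.ext (by
      show ρ u (w : W) = ((χ u : kˣ) : k) • (w : W)
      conv_lhs => rw [← hUe _ w.2, ← Module.End.mul_apply]
      rw [show ρ (u : Q) * e = ((χ u : kˣ) : k) • e from CfsgLib.Solvable.apply_mul_charProj ρC χ u,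
        LinearMap.smul_apply, hUe _ w.2])
  have hCker : ∀ y ∈ C, ρU y = 1 → y = 1 := by
    intro y hy h
    by_contra hy1
    refine hχ1 (MonoidHom.ext fun u => ?_)
    have h1 : χ ⟨y, hy⟩ = 1 := Units.ext (smul_left_injective k (one_ne_zero : (1 : Module.End k U) ≠ 0)
      ((hscal ⟨y, hy⟩).symm.trans (h.trans (one_smul k _).symm)))
    obtain ⟨j, rfl⟩ : ∃ j : ℤ, (⟨y, hy⟩ : C) ^ j = u :=
      Subgroup.mem_zpowers_iff.1 (mem_zpowers_of_prime_card hQ.2 fun h => hy1 (congrArg Subtype.val h))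
    rw [map_zpow, h1, one_zpow]; rfl
  have hpowU : ∀ (i : ℕ) (w : U), ((((S.restrict hSU) ^ i) w : U) : W) = (S ^ i) (w : W) := by
    intro i
    induction i with
    | zero => intro w; rfl
    | succ i ih' =>
      intro w
      rw [pow_succ', pow_succ', Module.End.mul_apply, Module.End.mul_apply, ← ih']
      rfl
  have hdata := CfsgLib.Solvable.component_data (p := r) (M := 1) one_pos hrk hQk (le_refl C) hDC σ
    (by rw [pow_one]; exact hσ)
    (fun y hy => by simpa using (hσZ y).2 hy)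
    (fun x hx => hCfpf x (by simpa using hx))
    (by simpa using hgen) hσC ρU (fun y hy => ⟨_, hscal ⟨y, hy⟩⟩)
    (Γ := S.restrict hSU)
    (fun y => LinearMap.ext fun w => Subtype.ext (LinearMap.congr_fun (hS y) (w : W)))
    (LinearMap.ext fun w => Subtype.ext (by rw [hpowU, pow_one, hSr]; rfl))
    (fun w hw => Subtype.ext (hfix _ (congrArg Subtype.val hw)))
  rcases hdata with htriv | ⟨R, hRn, hRmem, hCR, -, -, -, -, hcard, -⟩
  · exfalso
    haveI := hQp.isNilpotent
    refine CfsgLib.PGroup.extraspecial_not_comm hQ ⟨⟨fun a b => ?_⟩⟩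
    refine Subgroup.mem_center_iff.1 ((hσZ b).1 ?_) a
    have hN : ρU.ker = ⊥ := by
      by_contra hne
      obtain ⟨y, hy, hy1, hyC⟩ := CfsgLib.OddLocal.exists_central_mem_of_normal ρU.ker hne
      exact hy1 (hCker y hyC hy)
    have h1 : b⁻¹ * σ b ∈ ρU.ker := by
      have h2 := htriv b
      simp only [Nat.sub_self, pow_zero, pow_one] at h2
      show ρU (b⁻¹ * σ b) = 1
      rw [map_mul, h2, ← map_mul, inv_mul_cancel, map_one]
    rw [hN, Subgroup.mem_bot, inv_mul_eq_one] at h1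
    exact h1.symm
  · have hRC : R = C := le_antisymm (fun x hx => Subgroup.mem_center_iff.2 fun y => by
      have h1 := hCker _ (hDC x y) ((hRmem x).1 hx y)
      exact (commutatorElement_eq_one_iff_commute.1 h1).symm) hCR
    rw [hRC] at hcard
    obtain ⟨e', he'⟩ := (hQp.to_quotient C).exists_card_eq
    rw [hcard, pow_one] at he'
    obtain ⟨l, -, hl⟩ := (Nat.dvd_prime_pow hq.out).1 (Dvd.intro (r - 1) ((sq (r - 1)).symm.trans he') :
      (r - 1) ∣ q ^ e')
    have hl0 : 0 < l := by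
      rcases Nat.eq_zero_or_pos l with rfl | h
      · exfalso
        have hR1 : Nat.card (Q ⧸ C) = 1 := by rw [hcard, pow_one, hl]; simp
        haveI : Subsingleton (Q ⧸ C) := (Nat.card_eq_one_iff_unique.1 hR1).1
        refine CfsgLib.PGroup.extraspecial_not_comm hQ ⟨⟨fun a b => ?_⟩⟩
        exact Subgroup.mem_center_iff.1 ((QuotientGroup.eq_one_iff b).1 (Subsingleton.elim _ _)) a
      · exact h
    have hr2 := hr.out.two_le
    have hq2 : q = 2 := by
      by_contra hne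
      have hodd : Odd (q ^ l) := (hq.out.odd_of_ne_two hne).pow
      have h2 : 2 ∣ r := by obtain ⟨t, ht⟩ := hodd; exact ⟨t + 1, by omega⟩
      have h3 : r = 2 := ((Nat.prime_dvd_prime_iff_eq Nat.prime_two hr.out).1 h2).symm
      have h4 : q ^ l = 1 := by omega
      exact (one_lt_pow₀ hq.out.one_lt hl0.ne').ne' h4
    subst hq2
    refine ⟨rfl, l, by omega, ?_⟩
    rw [Subgroup.card_eq_card_quotient_mul_card_subgroup C, hcard, pow_one, hl, hQ.2, ← pow_mul,
      ← pow_succ]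
    ring_nf

/-- Let p, q, r be distinct primes and let X, Q, V be subgroups of a finite group with X of order r, Q an extraspecial q-group normalized by X with C_Q(X) = Z(Q), and V an elementary abelian p-group normalized by X and Q on which XQ acts faithfully ((X ⊔ Q) ∩ C(V) = 1). If C_V(X) = 1, then q = 2, r = 2^n + 1 for some n, and Q has order 2^(2n+1). -/
theorem result {G : Type*} [Group G] [Finite G] {p q r : ℕ} (hp : p.Prime) (hq : q.Prime) (hr : r.Prime) (hpq : p ≠ q) (hpr : p ≠ r) (hqr : q ≠ r) (X Q V : Subgroup G) (hX : Nat.card X = r) (hQ : Cfsg.IsExtraspecial q ↥Q) (hXQ : X ≤ Subgroup.normalizer (Q : Set G)) (hCQ : Q ⊓ Subgroup.centralizer (X : Set G) = (Subgroup.center ↥Q).map Q.subtype) (hV : Cfsg.IsElementaryAbelian p V) (hXV : X ≤ Subgroup.normalizer (V : Set G)) (hQV : Q ≤ Subgroup.normalizer (V : Set G)) (hfaith : (X ⊔ Q) ⊓ Subgroup.centralizer (V : Set G) = ⊥) (hCV : V ⊓ Subgroup.centralizer (X : Set G) = ⊥) : q = 2 ∧ ∃ n : ℕ,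 r = 2 ^ n + 1 ∧ Nat.card Q = 2 ^ (2 * n + 1) := by
  classical
  haveI := Fact.mk hp
  haveI := Fact.mk hq
  haveI := Fact.mk hr
  obtain ⟨hVc, hVe⟩ := hV
  letI : CommGroup ↥V :=
    { (inferInstance : Group ↥V) with mul_comm := fun a b => hVc.is_comm.comm a b }
  obtain ⟨d, f, hfinj, hffix⟩ := CfsgLib.Solvable.exists_scalar_rep ↥V p
    (fun a => Subtype.ext (by rw [SubgroupClass.coe_pow]; exact hVe _ a.2))
  let act : ↥(Subgroup.normalizer (V : Set G)) →* MulAut ↥V := Subgroup.normalizerMonoidHom V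
  have hX1 : X ≠ ⊥ := fun h => hr.ne_one (by rw [← hX, h, Subgroup.card_bot])
  obtain ⟨x, hxX, hx1⟩ := X.bot_or_exists_ne_one.resolve_left hX1
  have hxr : x ^ r = 1 := by
    rw [← hX]
    exact congrArg Subtype.val (pow_card_eq_one' (G := ↥X) (x := ⟨x, hxX⟩))
  have hz : Subgroup.zpowers x = X := by
    refine Subgroup.eq_of_le_of_card_ge (Subgroup.zpowers_le.2 hxX) ?_
    rw [Nat.card_zpowers, hX, orderOf_eq_prime hxr hx1]
  let σ : MulAut ↥Q := Subgroup.normalizerMonoidHom Q ⟨x, hXQ hxX⟩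
  have hσ1 : ∀ y : ↥Q, ((σ y : ↥Q) : G) = x * y * x⁻¹ := fun y => rfl
  have hσ : σ ^ r = 1 := by
    rw [← map_pow,
      show (⟨x, hXQ hxX⟩ : ↥(Subgroup.normalizer (Q : Set G))) ^ r = 1 from Subtype.ext hxr, map_one]
  have hσZ : ∀ y : ↥Q, σ y = y ↔ y ∈ Subgroup.center ↥Q := by
    intro y
    have h1 : (y : G) ∈ Subgroup.centralizer (X : Set G) ↔ σ y = y := by
      constructor
      · intro h
        refine Subtype.ext ?_
        rw [hσ1, mul_inv_eq_iff_eq_mul]
        exact Subgroup.mem_centralizer_iff.1 h x hxX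
      · intro h
        rw [← hz, Subgroup.mem_centralizer_iff]
        intro g hg
        obtain ⟨j, rfl⟩ := Subgroup.mem_zpowers_iff.1 hg
        have h2 : x * (y : G) * x⁻¹ = y := (hσ1 y).symm.trans (congrArg Subtype.val h)
        exact (Commute.zpow_left (show Commute x (y : G) from mul_inv_eq_iff_eq_mul.1 h2) j).eq
    rw [← h1]
    constructor
    · intro h
      have h2 : (y : G) ∈ (Subgroup.center ↥Q).map Q.subtype := hCQ ▸ ⟨y.2, h⟩
      obtain ⟨z, hz', hzy⟩ := h2
      rwa [← Subtype.ext hzy]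
    · intro h
      exact (hCQ.ge ⟨y, h, rfl⟩).2
  have hne : ∀ {n : ℕ}, n.Prime → n ≠ p → (n : AlgebraicClosure (ZMod p)) ≠ 0 := fun hn hnl h =>
    hnl (((Nat.prime_dvd_prime_iff_eq hp hn).1
      ((CharP.cast_eq_zero_iff (AlgebraicClosure (ZMod p)) p _).1 h)).symm)
  have hinj : Function.Injective (act.comp (Subgroup.inclusion hQV)) := by
    rw [injective_iff_map_eq_one]
    intro y hy
    have h1 : (y : G) ∈ (X ⊔ Q) ⊓ Subgroup.centralizer (V : Set G) := by
      refine ⟨Subgroup.mem_sup_right y.2, Subgroup.mem_centralizer_iff.2 fun v hv => ?_⟩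
      have h2 : (y : G) * v * (y : G)⁻¹ = v :=
        congrArg Subtype.val (DFunLike.congr_fun hy (⟨v, hv⟩ : ↥V))
      exact (mul_inv_eq_iff_eq_mul.1 h2).symm
    rw [hfaith, Subgroup.mem_bot] at h1
    exact Subtype.ext h1
  refine extraspecial_fpf_operator (r := r) hqr hQ hQ.1.1 (hne hq (Ne.symm hpq)) (hne hr (Ne.symm hpr)) σ hσ hσZ
    (f.comp (act.comp (Subgroup.inclusion hQV))) (hfinj.comp hinj) (f (act ⟨x, hXV hxX⟩)) ?_ ?_ ?_
  · intro y
    show f (act ⟨x, hXV hxX⟩) * f (act _) = f (act _) * f (act ⟨x, hXV hxX⟩)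
    rw [← map_mul f, ← map_mul f, ← map_mul act, ← map_mul act]
    refine congrArg _ (congrArg _ (Subtype.ext ?_))
    show x * (y : G) = x * (y : G) * x⁻¹ * x
    group
  · rw [← map_pow, ← map_pow,
      show (⟨x, hXV hxX⟩ : ↥(Subgroup.normalizer (V : Set G))) ^ r = 1 from Subtype.ext hxr, map_one,
      map_one]
  · refine hffix _ fun v hv => Subtype.ext ?_
    have hv' : x * (v : G) * x⁻¹ = v := congrArg Subtype.val hv
    show (v : G) = 1
    rw [← Subgroup.mem_bot, ← hCV]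
    refine ⟨v.2, ?_⟩
    show (v : G) ∈ Subgroup.centralizer (X : Set G)
    rw [← hz, Subgroup.mem_centralizer_iff]
    intro g hg
    obtain ⟨j, rfl⟩ := Subgroup.mem_zpowers_iff.1 hg
    exact (Commute.zpow_left (show Commute x (v : G) from mul_inv_eq_iff_eq_mul.1 hv') j).eq

end Cfsg.Agent.S3764
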