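import Cfsg.Statements.S3765
import Cfsg.Agent.Lib.PGroup.HallHigmanOdd
import Cfsg.Agent.Lib.Solvable.ShultGross

set_option autoImplicit false
open Cfsg

namespace Cfsg.Agent.S3765

open scoped commutatorElement

/-- Let p, q, r be distinct primes and let X, Q, V be subgroups of a finite group with X of order r normalizing the q-group Q and acting faithfully on it (X ∩ C(Q) = 1), and V a nontrivial elementary abelian p-group normalized by X and Q on which XQ acts faithfully. If q = 2 and r has the form 2^n + 1, assume in addition that Q is abelian. Then C_V(X) ≠ 1. -/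
theorem result {G : Type*} [Group G] [Finite G] {p q r : ℕ} (hp : p.Prime) (hq : q.Prime) (hr : r.Prime) (hpq : p ≠ q) (hpr : p ≠ r) (hqr : q ≠ r) (X Q V : Subgroup G) (hX : Nat.card X = r) (hQ : IsPGroup q Q) (hXQ : X ≤ Subgroup.normalizer (Q : Set G)) (hXfaith : X ⊓ Subgroup.centralizer (Q : Set G) = ⊥) (hV : Cfsg.IsElementaryAbelian p V) (hV1 : V ≠ ⊥) (hXV : X ≤ Subgroup.normalizer (V : Set G)) (hQV : Q ≤ Subgroup.normalizer (V : Set G)) (hfaith : (X ⊔ Q) ⊓ Subgroup.centralizer (V : Set G) = ⊥) (hexc : q = 2 → (∃ n : ℕ, r = 2 ^ n + 1) → IsMulCommutative Q) : V ⊓ Subgroup.centralizer (X : Set G) ≠ ⊥ := by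
  classical
  haveI := Fact.mk hp
  haveI := Fact.mk hq
  haveI := Fact.mk hr
  intro hCV
  obtain ⟨hVc, hVe⟩ := hV
  letI : CommGroup ↥V :=
    { (inferInstance : Group ↥V) with mul_comm := fun a b => hVc.is_comm.comm a b }
  obtain ⟨d, f, hfinj, hffix⟩ := CfsgLib.Solvable.exists_scalar_rep ↥V p
    (fun a => Subtype.ext (by rw [SubgroupClass.coe_pow]; exact hVe _ a.2))
  let act : ↥(Subgroup.normalizer (V : Set G)) →* MulAut ↥V := Subgroup.normalizerMonoidHom V
  have hX1 : X ≠ ⊥ := fun h => hr.ne_one (by rw [← hX, h, Subgroup.card_bot])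
  obtain ⟨x, hxX, hx1⟩ := X.bot_or_exists_ne_one.resolve_left hX1
  have hxr : x ^ r = 1 := by
    rw [← hX]
    exact congrArg Subtype.val (pow_card_eq_one' (G := ↥X) (x := ⟨x, hxX⟩))
  have hz : Subgroup.zpowers x = X := by
    refine Subgroup.eq_of_le_of_card_ge (Subgroup.zpowers_le.2 hxX) ?_
    rw [Nat.card_zpowers, hX, orderOf_eq_prime hxr hx1]
  have hcent : ∀ g : G, x * g = g * x → g ∈ Subgroup.centralizer (X : Set G) := by
    intro g hg
    rw [← hz, Subgroup.mem_centralizer_iff]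
    intro y hy
    obtain ⟨j, rfl⟩ := Subgroup.mem_zpowers_iff.1 hy
    exact (Commute.zpow_left (show Commute x g from hg) j).eq
  have hVfix : ∀ v : ↥V, act ⟨x, hXV hxX⟩ v = v → v = 1 := by
    intro v hv
    have hv' : x * (v : G) * x⁻¹ = v := congrArg Subtype.val hv
    refine Subtype.ext ?_
    show (v : G) = 1
    rw [← Subgroup.mem_bot, ← hCV]
    exact ⟨v.2, hcent _ (mul_inv_eq_iff_eq_mul.1 hv')⟩
  -- reduce to commuting modulo the kernel
  suffices hmain : ∀ y : ↥Q,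
      act (⟨x, hXV hxX⟩ * Subgroup.inclusion hQV y) = act (Subgroup.inclusion hQV y * ⟨x, hXV hxX⟩) by
    refine hx1 ?_
    rw [← Subgroup.mem_bot, ← hXfaith]
    refine ⟨hxX, Subgroup.mem_centralizer_iff.2 fun y hy => ?_⟩
    obtain ⟨t, ht⟩ : ∃ t : ↥(Subgroup.normalizer (V : Set G)),
        t = (Subgroup.inclusion hQV ⟨y, hy⟩ * ⟨x, hXV hxX⟩)⁻¹ * (⟨x, hXV hxX⟩ * Subgroup.inclusion hQV ⟨y, hy⟩) :=
      ⟨_, rfl⟩
    have h1 : act t = 1 := by rw [ht, map_mul, map_inv, hmain ⟨y, hy⟩, inv_mul_cancel]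
    have h2 : (t : G) ∈ (X ⊔ Q) ⊓ Subgroup.centralizer (V : Set G) := by
      refine ⟨?_, Subgroup.mem_centralizer_iff.2 fun v hv => ?_⟩
      · rw [ht]
        show (y * x)⁻¹ * (x * y) ∈ X ⊔ Q
        exact mul_mem (inv_mem (mul_mem (Subgroup.mem_sup_right hy) (Subgroup.mem_sup_left hxX)))
          (mul_mem (Subgroup.mem_sup_left hxX) (Subgroup.mem_sup_right hy))
      · have h3 : (t : G) * v * (t : G)⁻¹ = v :=
          congrArg Subtype.val (DFunLike.congr_fun h1 (⟨v, hv⟩ : ↥V))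
        exact (mul_inv_eq_iff_eq_mul.1 h3).symm
    rw [hfaith, Subgroup.mem_bot, ht] at h2
    have h4 : (y * x)⁻¹ * (x * y) = 1 := h2
    exact inv_mul_eq_one.1 h4
  intro y
  rcases hr.eq_two_or_odd' with hr2 | hrodd
  · -- an involution without fixed points inverts
    have hinv : ∀ v : ↥V, act ⟨x, hXV hxX⟩ v = v⁻¹ := by
      intro v
      refine eq_inv_of_mul_eq_one_left (hVfix _ ?_)
      have h2 : act ⟨x, hXV hxX⟩ (act ⟨x, hXV hxX⟩ v) = v := by
        rw [← MulAut.mul_apply, ← map_mul, ← sq, ← hr2,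
          show (⟨x, hXV hxX⟩ : ↥(Subgroup.normalizer (V : Set G))) ^ r = 1 from Subtype.ext hxr, map_one]
        rfl
      rw [map_mul, h2, mul_comm]
    refine MulEquiv.ext fun v => ?_
    rw [map_mul, map_mul, MulAut.mul_apply, MulAut.mul_apply, hinv, hinv, map_inv]
  let σ : MulAut ↥Q := Subgroup.normalizerMonoidHom Q ⟨x, hXQ hxX⟩
  have hσ : σ ^ (r ^ 1) = 1 := by
    rw [pow_one, ← map_pow,
      show (⟨x, hXQ hxX⟩ : ↥(Subgroup.normalizer (Q : Set G))) ^ r = 1 from Subtype.ext hxr, map_one]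
  have hne : ∀ {n : ℕ}, n.Prime → n ≠ p → (n : AlgebraicClosure (ZMod p)) ≠ 0 := fun hn hnl h =>
    hnl (((Nat.prime_dvd_prime_iff_eq hp hn).1
      ((CharP.cast_eq_zero_iff (AlgebraicClosure (ZMod p)) p _).1 h)).symm)
  have hr2 : r ≠ 2 := fun h => by subst h; exact absurd hrodd (by decide)
  obtain ⟨ρ, hρ⟩ : ∃ ρ : ↥Q →* Module.End (AlgebraicClosure (ZMod p)) (Fin d → AlgebraicClosure (ZMod p)),
      ρ = f.comp (act.comp (Subgroup.inclusion hQV)) := ⟨_, rfl⟩
  have hS : ∀ z, f (act ⟨x, hXV hxX⟩) * ρ z = ρ (σ z) * f (act ⟨x, hXV hxX⟩) := by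
    intro z
    rw [hρ]
    show f (act ⟨x, hXV hxX⟩) * f (act _) = f (act _) * f (act ⟨x, hXV hxX⟩)
    rw [← map_mul f, ← map_mul f, ← map_mul act, ← map_mul act]
    refine congrArg _ (congrArg _ (Subtype.ext ?_))
    show x * (z : G) = x * (z : G) * x⁻¹ * x
    group
  have hSr : f (act ⟨x, hXV hxX⟩) ^ (r ^ 1) = 1 := by
    rw [pow_one, ← map_pow, ← map_pow,
      show (⟨x, hXV hxX⟩ : ↥(Subgroup.normalizer (V : Set G))) ^ r = 1 from Subtype.ext hxr, map_one,
      map_one]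
  have hfix := hffix _ hVfix
  have key : ρ ((σ ^ (r ^ (1 - 1))) y) = ρ y := by
    by_cases hexc' : q = 2 ∧ ∃ n : ℕ, r = 2 ^ n + 1
    · letI : CommGroup ↥Q :=
        { (inferInstance : Group ↥Q) with mul_comm := fun a b => (hexc hexc'.1 hexc'.2).is_comm.comm a b }
      refine CfsgLib.Solvable.abelian_step (p := r) (m := 1) ρ ?_ σ hS hfix hσ hSr y
      obtain ⟨i, hi⟩ := hQ.exists_card_eq
      rw [hi, Nat.cast_pow]
      exact pow_ne_zero _ (hne hq (Ne.symm hpq))
    · refine CfsgLib.PGroup.hall_higman_exceptional (n := 1) hr2 ?_ hqr (hne hq (Ne.symm hpq))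
        (hne hr (Ne.symm hpr)) hQ σ hσ ρ _ hS hSr hfix y
      intro m l hm hm1 hq2 heq
      obtain rfl : m = 1 := by omega
      exact hexc' ⟨hq2, l, by rwa [pow_one] at heq⟩
  rw [Nat.sub_self, pow_zero, pow_one] at key
  refine hfinj ?_
  have h5 := hS y
  rw [key, hρ] at h5
  simp only [map_mul]
  exact h5

end Cfsg.Agent.S3765
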