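import Cfsg.Statements.S3766
import Cfsg.Agent.Lib.Cores.Fitting

set_option autoImplicit false
open Cfsg

namespace Cfsg.Agent.S3766

open scoped commutatorElement
theorem bracket_mod {G : Type*} [Group G] {A B K V : Subgroup G} [V.Normal] (h : A ≤ B ⊔ V) :
    ⁅A, K⁆ ≤ ⁅B, K⁆ ⊔ V := by
  have h1 : A.map (QuotientGroup.mk' V) ≤ B.map (QuotientGroup.mk' V) := by
    refine (Subgroup.map_mono h).trans ?_
    rw [Subgroup.map_sup, QuotientGroup.map_mk'_self, sup_bot_eq]
  have h2 : (⁅A, K⁆).map (QuotientGroup.mk' V) ≤ (⁅B, K⁆).map (QuotientGroup.mk' V) := by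
    rw [Subgroup.map_commutator, Subgroup.map_commutator]
    exact Subgroup.commutator_mono h1 le_rfl
  have h3 := (Subgroup.map_le_iff_le_comap.1 h2)
  rwa [Subgroup.comap_map_eq, QuotientGroup.ker_mk'] at h3

theorem key_fwd {G : Type*} [Group G] [Finite G] {K : Subgroup G} [K.Normal] (hK : Group.IsNilpotent K)
    {U V : Subgroup G} [U.Normal] [V.Normal] (hVU : V < U)
    (hch : ∀ W : Subgroup G, W.Normal → V ≤ W → W ≤ U → W = V ∨ W = U) : ⁅U, K⁆ ≤ V := by
  rcases hch (⁅U, K⁆ ⊔ V) inferInstance le_sup_right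
    (sup_le (Subgroup.commutator_le_left U K) hVU.le) with h | h
  · exact le_sup_left.trans h.le
  · exfalso
    have hind : ∀ j, ⁅U, K⁆ ≤ K.lowerCentralSeries j ⊔ V := by
      intro j
      induction j with
      | zero => exact (Subgroup.commutator_le_right U K).trans le_sup_left
      | succ j ih =>
        rw [Subgroup.lowerCentralSeries_succ]
        exact bracket_mod (h.ge.trans (sup_le ih le_sup_right))
    have h1 := hind (Group.nilpotencyClass K)
    rw [Subgroup.lowerCentralSeries_eq_bot_of_nilpotencyClass_le le_rfl, bot_sup_eq] at h1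
    exact hVU.not_ge (h.ge.trans (sup_le h1 le_rfl))

/-- Let G be a finite solvable group and N a normal subgroup of G. Call a pair V < U of normal subgroups of G a chief factor of G when no normal subgroup of G lies strictly between them; an element g centralizes the chief factor U/V when u g u⁻¹ g⁻¹ ∈ V for all u ∈ U. Then an element of G lies in the Fitting subgroup F(N) if and only if it lies in N and centralizes every chief factor of G; and also if and only if it lies in N and centralizes every chief factor U/V of G with U ≤ F(N). -/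
theorem result {G : Type*} [Group G] [Finite G] (hG : Group.IsSolvable G) (N : Subgroup G) [N.Normal] (g : G) : (g ∈ (Cfsg.fittingSubgroup ↥N).map N.subtype ↔ g ∈ N ∧ ∀ U V : Subgroup G, (U.Normal ∧ V.Normal ∧ V < U ∧ ∀ W : Subgroup G, W.Normal → V ≤ W → W ≤ U → W = V ∨ W = U) → ∀ u ∈ U, u * g * u⁻¹ * g⁻¹ ∈ V) ∧ (g ∈ (Cfsg.fittingSubgroup ↥N).map N.subtype ↔ g ∈ N ∧ ∀ U V : Subgroup G, (U.Normal ∧ V.Normal ∧ V < U ∧ ∀ W : Subgroup G, W.Normal → V ≤ W → W ≤ U → W = V ∨ W = U) → U ≤ (Cfsg.fittingSubgroup ↥N).map N.subtype → ∀ u ∈ U, u * g * u⁻¹ * g⁻¹ ∈ V) := by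
  classical
  haveI := hG
  set K := (Cfsg.fittingSubgroup ↥N).map N.subtype with hKdef
  haveI hKn : K.Normal := CfsgLib.Cores.map_subtype_fittingSubgroup_normal N
  have hKnil : Group.IsNilpotent K :=
    CfsgLib.Cores.isNilpotent_map CfsgLib.Cores.isNilpotent_fittingSubgroup _
  have hKN : K ≤ N := Subgroup.map_subtype_le _
  have hfwd : g ∈ K → ∀ U V : Subgroup G, (U.Normal ∧ V.Normal ∧ V < U ∧ ∀ W : Subgroup G, W.Normal → V ≤ W → W ≤ U → W = V ∨ W = U) → ∀ u ∈ U, u * g * u⁻¹ * g⁻¹ ∈ V := by
    rintro hg U V ⟨hU, hV, hVU, hch⟩ u hu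
    exact key_fwd hKnil hVU hch (Subgroup.commutator_mem_commutator hu hg)
  have hbwd : g ∈ N → (∀ U V : Subgroup G, (U.Normal ∧ V.Normal ∧ V < U ∧ ∀ W : Subgroup G, W.Normal → V ≤ W → W ≤ U → W = V ∨ W = U) → U ≤ K → ∀ u ∈ U, u * g * u⁻¹ * g⁻¹ ∈ V) → g ∈ K := by
    intro hgN hcen
    -- the centralizers of the chief factors below `K`
    set D : Subgroup G := N ⊓ ⨅ (U : Subgroup G) (V : Subgroup G)
      (_ : (U.Normal ∧ V.Normal ∧ V < U ∧ ∀ W : Subgroup G, W.Normal → V ≤ W → W ≤ U → W = V ∨ W = U) ∧ U ≤ K),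
      (Subgroup.centralizer ((U.map (QuotientGroup.mk' (Subgroup.normalClosure (V : Set G))) :
        Subgroup (G ⧸ Subgroup.normalClosure (V : Set G))) : Set (G ⧸ Subgroup.normalClosure (V : Set G)))).comap
          (QuotientGroup.mk' (Subgroup.normalClosure (V : Set G))) with hDdef
    have hgD : g ∈ D := by
      refine Subgroup.mem_inf.2 ⟨hgN, ?_⟩
      simp only [Subgroup.mem_iInf]
      rintro U V ⟨hf, hUK⟩
      rw [Subgroup.mem_comap, Subgroup.mem_centralizer_iff]
      rintro _ ⟨u, hu, rfl⟩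
      rw [← commutatorElement_eq_one_iff_mul_comm, ← map_commutatorElement, QuotientGroup.mk'_apply, QuotientGroup.eq_one_iff]
      exact Subgroup.subset_normalClosure (hcen U V hf hUK u hu)
    haveI hDn : D.Normal := by
      have h1 : ∀ (U V : Subgroup G) (_ : (U.Normal ∧ V.Normal ∧ V < U ∧ ∀ W : Subgroup G, W.Normal → V ≤ W → W ≤ U → W = V ∨ W = U) ∧ U ≤ K),
          ((Subgroup.centralizer ((U.map (QuotientGroup.mk' (Subgroup.normalClosure (V : Set G))) :
            Subgroup (G ⧸ Subgroup.normalClosure (V : Set G))) : Set (G ⧸ Subgroup.normalClosure (V : Set G)))).comap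
              (QuotientGroup.mk' (Subgroup.normalClosure (V : Set G)))).Normal := by
        intro U V hf
        haveI := hf.1.1
        haveI : (U.map (QuotientGroup.mk' (Subgroup.normalClosure (V : Set G)))).Normal :=
          hf.1.1.map _ (QuotientGroup.mk'_surjective _)
        exact Subgroup.normal_comap _
      haveI := Subgroup.normal_iInf_normal fun U => Subgroup.normal_iInf_normal fun V =>
        Subgroup.normal_iInf_normal fun hf => h1 U V hf
      rw [hDdef]; infer_instance
    have hDcen : ∀ U V : Subgroup G, (U.Normal ∧ V.Normal ∧ V < U ∧ ∀ W : Subgroup G, W.Normal → V ≤ W → W ≤ U → W = V ∨ W = U) → U ≤ K → ⁅U, D⁆ ≤ V := by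
      intro U V hf hUK
      haveI := hf.2.1
      refine Subgroup.commutator_le.2 fun u hu d hd => ?_
      have h := (Subgroup.mem_inf.1 hd).2
      simp only [Subgroup.mem_iInf] at h
      have h2 := Subgroup.mem_centralizer_iff.1 (h U V ⟨hf, hUK⟩) _ ⟨u, hu, rfl⟩
      rw [← commutatorElement_eq_one_iff_mul_comm, ← map_commutatorElement, QuotientGroup.mk'_apply,
        QuotientGroup.eq_one_iff] at h2
      exact Subgroup.normalClosure_le_normal (N := V) le_rfl h2
    -- `D` acts nilpotently on `K`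
    have hact : ∀ (n : ℕ) (U : Subgroup G), U.Normal → U ≤ K → Nat.card U = n →
        ∃ m, (fun W : Subgroup G => ⁅W, D⁆)^[m] U = ⊥ := by
      intro n
      induction n using Nat.strong_induction_on with
      | _ n ih =>
        intro U hU hUK hn
        by_cases hU0 : U = ⊥
        · exact ⟨0, hU0⟩
        haveI := hU
        obtain ⟨V, ⟨hV, hVU⟩, hmax⟩ := Set.Finite.exists_maximal
          (s := {V : Subgroup G | V.Normal ∧ V < U}) (Set.toFinite _) ⟨⊥, inferInstance, bot_lt_iff_ne_bot.2 hU0⟩
        have hch : ∀ W : Subgroup G, W.Normal → V ≤ W → W ≤ U → W = V ∨ W = U := fun W hW hVW hWU =>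
          hWU.eq_or_lt.symm.imp (fun hlt => le_antisymm (hmax ⟨hW, hlt⟩ hVW) hVW) id
        have hle : ⁅U, D⁆ ≤ V := hDcen U V ⟨hU, hV, hVU, hch⟩ hUK
        have hlt : Nat.card ↥(⁅U, D⁆ : Subgroup G) < n := by
          rw [← hn]
          refine lt_of_le_of_lt (Subgroup.card_le_of_le hle) (lt_of_le_of_ne (Subgroup.card_le_of_le hVU.le) fun e => ?_)
          exact hVU.ne (Subgroup.eq_of_le_of_card_ge hVU.le e.ge)
        obtain ⟨m, hm⟩ := ih _ hlt ⁅U, D⁆ inferInstance (hle.trans (hVU.le.trans hUK)) rfl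
        exact ⟨m + 1, by rw [Function.iterate_succ_apply]; exact hm⟩
    obtain ⟨m, hm⟩ := hact _ K hKn le_rfl rfl
    -- a normal subgroup of `D` with derived subgroup in `K` lies in `K`
    have hsmall : ∀ E : Subgroup G, E.Normal → E ≤ D → ⁅E, E⁆ ≤ K → E ≤ K := by
      intro E hE hED hEK
      haveI := hE
      have hit : ∀ i, E.lowerCentralSeries (i + 1) ≤ (fun W : Subgroup G => ⁅W, D⁆)^[i] K := by
        intro i
        induction i with
        | zero => simpa [Subgroup.lowerCentralSeries_succ, Subgroup.lowerCentralSeries_zero] using hEK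
        | succ i ih =>
          rw [Subgroup.lowerCentralSeries_succ, Function.iterate_succ_apply']
          exact Subgroup.commutator_mono ih hED
      have hnil : Group.IsNilpotent E :=
        Subgroup.isNilpotent_of_lowerCentralSeries_eq_bot (n := m + 1) (le_bot_iff.1 (hm ▸ hit m))
      have hEN : E ≤ N := hED.trans inf_le_left
      haveI : (E.subgroupOf N).Normal := Subgroup.normal_subgroupOf
      have h1 : E.subgroupOf N ≤ Cfsg.fittingSubgroup ↥N :=
        CfsgLib.Cores.le_fittingSubgroup (by haveI := hnil; exact Group.nilpotent_of_mulEquiv (Subgroup.subgroupOfEquivOfLe hEN).symm)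
      intro e he
      exact ⟨⟨e, hEN he⟩, h1 he, rfl⟩
    -- descend along the derived series
    obtain ⟨k, hk⟩ := (Group.isSolvable_def G).1 hG
    have hdesc : ∀ i, i ≤ k → D ⊓ derivedSeries G (k - i) ≤ K := by
      intro i
      induction i with
      | zero => intro _; rw [Nat.sub_zero, hk]; simp
      | succ i ih =>
        intro hi
        refine hsmall _ inferInstance inf_le_left (le_trans (le_inf ?_ ?_) (ih (by omega)))
        · exact (Subgroup.commutator_mono inf_le_left inf_le_left).trans (Subgroup.commutator_le_left D D)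
        · rw [show k - i = k - (i + 1) + 1 by omega, derivedSeries_succ]
          exact Subgroup.commutator_mono inf_le_right inf_le_right
    have hfin := hdesc k le_rfl
    rw [Nat.sub_self, derivedSeries_zero, inf_top_eq] at hfin
    exact hfin hgD
  refine ⟨⟨fun hg => ⟨hKN hg, hfwd hg⟩, fun h => hbwd h.1 fun U V hf _ => h.2 U V hf⟩,
    ⟨fun hg => ⟨hKN hg, fun U V hf _ => hfwd hg U V hf⟩, fun h => hbwd h.1 h.2⟩⟩

end Cfsg.Agent.S3766
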