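import Cfsg.Statements.S3767
import Cfsg.Agent.Lib.Solvable.HallHigmanCyclic
import Cfsg.Agent.Lib.PGroup.Extraspecial
import Mathlib.Analysis.Complex.Polynomial.Basic
import Mathlib.NumberTheory.Cyclotomic.Basic

set_option autoImplicit false
open Cfsg

namespace Cfsg.Agent.S3767

open scoped commutatorElement
open CfsgLib.Solvable

universe u v

theorem near_constant {ι : Type*} [Fintype ι] (f : ι → ℤ)
    (h : ∑ i, ∑ j, (f i - f j) ^ 2 ≤ 2 * ((Fintype.card ι : ℤ) - 1)) :
    ∃ c e : ℤ, ∑ i, f i = (Fintype.card ι : ℤ) * c + e ∧ (e = 0 ∨ e = 1 ∨ e = -1) := by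
  classical
  rcases isEmpty_or_nonempty ι with hι | hι
  · exact ⟨0, 0, by simp, Or.inl rfl⟩
  obtain ⟨i₀, hi₀⟩ := Finite.exists_max f
  set M := f i₀
  set A := Finset.univ.filter fun i => f i = M
  set B := Finset.univ.filter fun i => ¬ f i = M
  have hsplit : ∀ F : ι → ℤ, ∑ i, F i = ∑ i ∈ A, F i + ∑ i ∈ B, F i := fun F =>
    (Finset.sum_filter_add_sum_filter_not Finset.univ (fun i => f i = M) F).symm
  have hN : (Fintype.card ι : ℤ) = (A.card : ℤ) + B.card := by
    rw [← Finset.card_univ, ← Finset.card_filter_add_card_filter_not (fun i => f i = M)]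
    push_cast
    rfl
  have hA1 : 1 ≤ A.card := Finset.card_pos.2 ⟨i₀, by simp [A, M]⟩
  rcases Nat.eq_zero_or_pos B.card with hB | hB
  · refine ⟨M, 0, ?_, Or.inl rfl⟩
    rw [hsplit, hN, hB, Finset.card_eq_zero.1 hB, Finset.sum_empty, add_zero,
      Finset.sum_congr rfl (g := fun _ => M) fun i hi => (Finset.mem_filter.1 hi).2]
    simp [A]
  have hAv : ∀ i ∈ A, f i = M := fun i hi => (Finset.mem_filter.1 hi).2
  have hBv : ∀ j ∈ B, 1 ≤ M - f j := fun j hj => by
    have h1 := hi₀ j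
    have h2 := (Finset.mem_filter.1 hj).2
    omega
  set T := ∑ j ∈ B, (M - f j) ^ 2 with hT
  set S := ∑ i ∈ B, ∑ j ∈ B, (f i - f j) ^ 2 with hS
  have hrowA : ∀ i ∈ A, ∑ j, (f i - f j) ^ 2 = T := by
    intro i hi
    rw [hsplit, Finset.sum_eq_zero (s := A) fun j hj => by rw [hAv i hi, hAv j hj]; ring, zero_add]
    exact Finset.sum_congr rfl fun j hj => by rw [hAv i hi]
  have hrowB : ∀ i ∈ B, ∑ j, (f i - f j) ^ 2 =
      (A.card : ℤ) * (M - f i) ^ 2 + ∑ j ∈ B, (f i - f j) ^ 2 := by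
    intro i hi
    rw [hsplit, Finset.sum_congr rfl (s₁ := A) (g := fun _ => (M - f i) ^ 2)
      fun j hj => by rw [hAv j hj]; ring, Finset.sum_const, nsmul_eq_mul]
  have htot : ∑ i, ∑ j, (f i - f j) ^ 2 = 2 * ((A.card : ℤ) * T) + S := by
    rw [hsplit, Finset.sum_congr rfl hrowA, Finset.sum_congr rfl hrowB, Finset.sum_const,
      nsmul_eq_mul, Finset.sum_add_distrib, ← Finset.mul_sum, ← hT, ← hS]
    ring
  have hTB : (B.card : ℤ) ≤ T := by
    rw [hT, Finset.card_eq_sum_ones, Nat.cast_sum]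
    exact Finset.sum_le_sum fun j hj => by have := hBv j hj; push_cast; nlinarith
  have hS0 : 0 ≤ S := Finset.sum_nonneg fun i _ => Finset.sum_nonneg fun j _ => sq_nonneg _
  rw [htot, hN] at h
  obtain ⟨hA, hB'⟩ : (1 : ℤ) ≤ A.card ∧ (1 : ℤ) ≤ B.card := ⟨by exact_mod_cast hA1, by exact_mod_cast hB⟩
  have hab : ((A.card : ℤ) - 1) * ((B.card : ℤ) - 1) = 0 := by
    apply le_antisymm <;> nlinarith
  have hTeq : T = B.card := by nlinarith
  have hone : ∀ j ∈ B, M - f j = 1 := by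
    intro j hj
    by_contra hne
    have h2 : 2 ≤ M - f j := by have := hBv j hj; omega
    have : (B.card : ℤ) < T := by
      rw [hT, Finset.card_eq_sum_ones, Nat.cast_sum]
      exact Finset.sum_lt_sum (fun i hi => by have := hBv i hi; push_cast; nlinarith)
        ⟨j, hj, by push_cast; nlinarith⟩
    omega
  have hsum : ∑ i, f i = (A.card : ℤ) * M + (B.card : ℤ) * (M - 1) := by
    rw [hsplit, Finset.sum_congr rfl (g := fun _ => M) hAv,
      Finset.sum_congr rfl (s₁ := B) (g := fun _ => M - 1) fun j hj => by have := hone j hj; omega]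
    simp only [Finset.sum_const, nsmul_eq_mul]
  rcases mul_eq_zero.1 hab with h1 | h1
  · exact ⟨M - 1, 1, by rw [hsum, hN]; linear_combination h1, Or.inr (Or.inl rfl)⟩
  · exact ⟨M, -1, by rw [hsum, hN]; linear_combination (-1 : ℤ) * h1, Or.inr (Or.inr rfl)⟩

theorem finrank_near_multiple {k : Type v} [Field k] [IsAlgClosed k] {W : Type*} [AddCommGroup W]
    [Module k W] [FiniteDimensional k W] {N : ℕ} (hN : (N : k) ≠ 0) {G₀ : Module.End k W}
    (hG : G₀ ^ N = 1)
    (hle : ∀ ψ : k, ψ ^ N = 1 →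
      Module.finrank k (twistComm G₀ 1) ≤ Module.finrank k (twistComm G₀ ψ) + 1) :
    ∃ c e : ℤ, (Module.finrank k W : ℤ) = N * c + e ∧ (e = 0 ∨ e = 1 ∨ e = -1) := by
  classical
  haveI : NeZero N := ⟨fun h => hN (by rw [h, Nat.cast_zero])⟩
  haveI : NeZero (N : k) := ⟨hN⟩
  obtain ⟨B, d, hdN, hd⟩ := exists_eigenbasis_of_pow_eq_one hN hG
  generalize hn : Module.finrank k W = n at B d hdN hd ⊢
  letI : Fintype (rootsOfUnity N k) := Fintype.ofFinite _
  have hR : Fintype.card (rootsOfUnity N k) = N := by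
    rw [← Nat.card_eq_fintype_card]; exact HasEnoughRootsOfUnity.natCard_rootsOfUnity k N
  let D : Fin n → rootsOfUnity N k := fun i => rootsOfUnity.mkOfPowEq (d i) (hdN i)
  have hD : ∀ i, (((D i : kˣ) : k)) = d i := fun i => rootsOfUnity.coe_mkOfPowEq _
  let cnt : rootsOfUnity N k → ℕ := fun ψ =>
    (Finset.univ.filter fun ij : Fin n × Fin n => D ij.1 / D ij.2 = ψ).card
  have hcnt : ∀ ψ : rootsOfUnity N k,
      Module.finrank k (twistComm G₀ ((ψ : kˣ) : k)) = cnt ψ := by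
    intro ψ
    rw [finrank_twistComm B hd, Nat.card_eq_fintype_card, Fintype.card_subtype]
    refine congrArg Finset.card (Finset.filter_congr fun ij _ => ?_)
    rw [div_eq_iff_eq_mul, ← hD ij.1, ← hD ij.2, ← Units.val_mul, Units.val_inj,
      ← Subgroup.coe_mul, Subtype.coe_inj]
  have hle' : ∀ ψ, cnt 1 ≤ cnt ψ + 1 := fun ψ => by
    rw [← hcnt, ← hcnt]
    simpa using hle _ (by rw [← Units.val_pow_eq_pow_val]; exact congrArg Units.val ψ.2)
  let f : rootsOfUnity N k → ℤ := fun α => (Finset.univ.filter fun i => D i = α).card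
  have hsum : ∑ α, f α = n := by
    have h := Finset.card_eq_sum_card_fiberwise (s := (Finset.univ : Finset (Fin n))) (t := Finset.univ)
      (f := D) (fun _ _ => Finset.mem_univ _)
    simp only [f]
    rw [← Nat.cast_sum, ← h, Finset.card_univ, Fintype.card_fin]
  have hsq : (cnt 1 : ℤ) = ∑ α, f α * f α := by
    have e : cnt 1 = ∑ j, (Finset.univ.filter fun i => D i = D j).card := by
      simp only [cnt, div_eq_one, Finset.card_filter]
      rw [Fintype.sum_prod_type, Finset.sum_comm]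
    rw [e, Nat.cast_sum, ← Finset.sum_fiberwise Finset.univ D]
    refine Finset.sum_congr rfl fun α _ => ?_
    rw [Finset.sum_congr rfl (g := fun _ => f α) fun j hj => by rw [(Finset.mem_filter.1 hj).2]]
    rw [Finset.sum_const, nsmul_eq_mul]
  have htot : ∑ ψ, cnt ψ = n * n := by
    rw [← Finset.card_eq_sum_card_fiberwise (s := Finset.univ)
      (f := fun ij : Fin n × Fin n => D ij.1 / D ij.2) (fun _ _ => Finset.mem_univ _)]
    simp
  have hup : (N : ℤ) * cnt 1 ≤ (n : ℤ) * n + ((N : ℤ) - 1) := by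
    have h2 : ∑ ψ ∈ Finset.univ.erase (1 : rootsOfUnity N k), cnt 1 ≤
        ∑ ψ ∈ Finset.univ.erase (1 : rootsOfUnity N k), (cnt ψ + 1) :=
      Finset.sum_le_sum fun ψ _ => hle' ψ
    rw [Finset.sum_add_distrib, Finset.sum_const, Finset.sum_const,
      Finset.card_erase_of_mem (Finset.mem_univ _), Finset.card_univ, hR, smul_eq_mul,
      smul_eq_mul, mul_one] at h2
    have h3 := Finset.sum_erase_add Finset.univ cnt (Finset.mem_univ (1 : rootsOfUnity N k))
    rw [htot] at h3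
    have hN1 : 1 ≤ N := Nat.pos_of_ne_zero (NeZero.ne N)
    obtain ⟨N', rfl⟩ : ∃ N', N = N' + 1 := ⟨N - 1, by omega⟩
    rw [Nat.add_sub_cancel] at h2
    push_cast
    have h4 : ((N' * cnt 1 : ℕ) : ℤ) + cnt 1 ≤ ((n * n + N' : ℕ) : ℤ) := by exact_mod_cast (by omega : N' * cnt 1 + cnt 1 ≤ n * n + N')
    push_cast at h4
    linarith
  have key : ∑ α, ∑ β, (f α - f β) ^ 2 = 2 * (N : ℤ) * cnt 1 - 2 * ((n : ℤ) * n) := by
    rw [hsq, ← hsum]
    have : ∀ α, ∑ β, (f α - f β) ^ 2 = (N : ℤ) * (f α * f α) + ∑ β, f β * f β - 2 * (f α * ∑ β, f β) := by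
      intro α
      calc ∑ β, (f α - f β) ^ 2 = ∑ β, (f α * f α + f β * f β - 2 * (f α * f β)) :=
            Finset.sum_congr rfl fun β _ => by ring
        _ = _ := by
          rw [Finset.sum_sub_distrib, Finset.sum_add_distrib, Finset.sum_const, Finset.card_univ,
            hR, nsmul_eq_mul, ← Finset.mul_sum, ← Finset.mul_sum]
    rw [Finset.sum_congr rfl fun α _ => this α, Finset.sum_sub_distrib, Finset.sum_add_distrib,
      ← Finset.mul_sum, Finset.sum_const, Finset.card_univ, hR, nsmul_eq_mul, ← Finset.mul_sum,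
      ← Finset.sum_mul]
    ring
  obtain ⟨c, e, hce, he⟩ := near_constant f (by rw [key, hR]; linarith)
  exact ⟨c, e, by rw [← hsum, hce, hR], he⟩

set_option maxHeartbeats 400000 in
theorem extraspecial_fpf_order {Q : Type u} [Group Q] [Finite Q] {p n N : ℕ} [hp : Fact p.Prime]
    (hQ : Cfsg.IsExtraspecial p Q) (hQn : Nat.card Q = p ^ (2 * n + 1)) (hN : 0 < N)
    (γ : MulAut Q) (hγN : γ ^ N = 1) (hγZ : ∀ z ∈ Subgroup.center Q, γ z = z)
    (hsemi : ∀ x, x ∉ Subgroup.center Q → ∀ j, 0 < j → j < N →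
      x⁻¹ * (γ ^ j) x ∉ Subgroup.center Q) :
    ∃ c e : ℤ, ((p ^ n : ℕ) : ℤ) = N * c + e ∧ (e = 0 ∨ e = 1 ∨ e = -1) := by
  classical
  letI := Fintype.ofFinite Q
  set C := Subgroup.center Q with hC
  letI : CommGroup C :=
    { (inferInstance : Group C) with
      mul_comm := fun a b => Subtype.ext (Subgroup.mem_center_iff.1 b.2 a) }
  let L : Q →* Module.End ℂ (Q → ℂ) :=
    { toFun := fun x => LinearMap.funLeft ℂ ℂ (fun y => y * x)
      map_one' := by ext f y; simp [LinearMap.funLeft]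
      map_mul' := fun a b => by ext f y; simp [LinearMap.funLeft, mul_assoc] }
  have hLinj : Function.Injective L := by
    intro a b h
    have h1 := congrFun (LinearMap.congr_fun h (Pi.single a 1)) 1
    simp only [L, MonoidHom.coe_mk, OneHom.coe_mk, LinearMap.funLeft_apply, one_mul,
      Pi.single_eq_same] at h1
    by_contra hne
    rw [Pi.single_eq_of_ne (Ne.symm hne)] at h1
    exact one_ne_zero h1
  have hcardk : ∀ H : Subgroup Q, (Nat.card H : ℂ) ≠ 0 := fun H =>
    Nat.cast_ne_zero.2 Nat.card_pos.ne'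
  let ρC : C →* Module.End ℂ (Q → ℂ) := L.comp C.subtype
  obtain ⟨χ, hχ1, hχ⟩ : ∃ χ : C →* ℂˣ, χ ≠ 1 ∧ charProj ρC χ ≠ 0 := by
    by_contra hcon
    push Not at hcon
    have hCtriv : ∀ a : C, a = 1 := fun a => Subtype.ext (hLinj (by
      rw [OneMemClass.coe_one, map_one]
      refine ext_charProj ρC (hcardk C) fun χ => ?_
      rw [mul_one, show L (a : Q) = ρC a from rfl, charProj_mul_apply]
      rcases eq_or_ne χ 1 with rfl | hχ
      · simp
      · rw [hcon χ hχ, smul_zero]))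
    haveI : Subsingleton C := ⟨fun a b => (hCtriv a).trans (hCtriv b).symm⟩
    exact hp.out.ne_one (hQ.2.symm.trans Nat.card_unique)
  set e := charProj ρC χ with he
  have hec : ∀ y, L y * e = e * L y := fun y => charProj_comm ρC χ fun u => by
    show L y * L (u : Q) = L (u : Q) * L y
    rw [← map_mul, ← map_mul, Subgroup.mem_center_iff.1 u.2 y]
  set U : Submodule ℂ (Q → ℂ) := LinearMap.range e
  obtain ⟨W, ⟨hWU, hWinv, hWne⟩, hWmin⟩ := (wellFounded_lt (α := Submodule ℂ (Q → ℂ))).has_min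
    {X | X ≤ U ∧ (∀ y, ∀ w ∈ X, L y w ∈ X) ∧ X ≠ ⊥} ⟨U, le_rfl, fun y w hw => by
      obtain ⟨v, rfl⟩ := hw
      exact ⟨L y v, by rw [← Module.End.mul_apply, ← hec, Module.End.mul_apply]⟩,
      fun h => hχ (LinearMap.ext fun v => by
        have h1 : e v ∈ U := ⟨v, rfl⟩
        rw [h, Submodule.mem_bot] at h1
        exact h1)⟩
  haveI : Nontrivial W := Submodule.nontrivial_iff_ne_bot.2 hWne
  let ρ : Q →* Module.End ℂ W :=
    { toFun := fun y => (L y).restrict (hWinv y)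
      map_one' := LinearMap.ext fun w => Subtype.ext (by simp)
      map_mul' := fun y z => LinearMap.ext fun w => Subtype.ext (by simp) }
  have hirr : ∀ X : Submodule ℂ W, (∀ y, ∀ w ∈ X, ρ y w ∈ X) → X = ⊥ ∨ X = ⊤ := by
    intro X hX
    by_contra hcon
    push Not at hcon
    refine hWmin (X.map W.subtype) ⟨(Submodule.map_subtype_le _ _).trans hWU, ?_, fun h => hcon.1 ?_⟩ ?_
    · rintro y _ ⟨w, hw, rfl⟩
      exact ⟨ρ y w, hX y w hw, rfl⟩
    · exact Submodule.map_injective_of_injective (Submodule.injective_subtype W)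
        (h.trans (Submodule.map_bot _).symm)
    · refine lt_of_le_of_ne (Submodule.map_subtype_le _ _) fun h => hcon.2 ?_
      refine Submodule.map_injective_of_injective (Submodule.injective_subtype W) ?_
      rw [h, Submodule.map_top, Submodule.range_subtype]
  have hscal : ∀ u : C, ρ (u : Q) = ((χ u : ℂˣ) : ℂ) • 1 := fun u => LinearMap.ext fun w =>
    Subtype.ext (by
      show L u (w : Q → ℂ) = ((χ u : ℂˣ) : ℂ) • (w : Q → ℂ)
      obtain ⟨v, hv⟩ := hWU w.2
      rw [← hv, ← Module.End.mul_apply,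
        show L (u : Q) * e = ((χ u : ℂˣ) : ℂ) • e from apply_mul_charProj ρC χ u,
        LinearMap.smul_apply])
  have hCker : ∀ y ∈ C, ρ y = 1 → y = 1 := by
    intro y hy h
    by_contra hy1
    refine hχ1 (MonoidHom.ext fun u => ?_)
    have h1 : χ ⟨y, hy⟩ = 1 := by
      obtain ⟨w, hw⟩ := exists_ne (0 : W)
      have h2 := LinearMap.congr_fun ((hscal ⟨y, hy⟩).symm.trans h) w
      rw [LinearMap.smul_apply, Module.End.one_apply] at h2
      refine Units.ext ?_
      rw [Units.val_one]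
      by_contra hne
      have h3 : ((χ ⟨y, hy⟩ : ℂˣ) : ℂ) • (w : Q → ℂ) = (w : Q → ℂ) := congrArg Subtype.val h2
      refine hw (Subtype.ext (funext fun q => ?_))
      have h4 := congrFun h3 q
      simp only [Pi.smul_apply, smul_eq_mul] at h4
      exact (mul_eq_zero.1 (show (((χ ⟨y, hy⟩ : ℂˣ) : ℂ) - 1) * (w : Q → ℂ) q = 0 by
        rw [sub_mul, one_mul, h4, sub_self])).resolve_left (sub_ne_zero.2 hne)
    obtain ⟨j, rfl⟩ : ∃ j : ℤ, (⟨y, hy⟩ : C) ^ j = u :=
      Subgroup.mem_zpowers_iff.1 (mem_zpowers_of_prime_card hQ.2 fun h => hy1 (congrArg Subtype.val h))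
    rw [map_zpow, h1, one_zpow]; rfl
  have hR : ∀ r ∈ C, ∃ c : ℂ, ρ r = c • 1 := fun r hr => ⟨_, hscal ⟨r, hr⟩⟩
  have hD : ∀ x y : Q, ⁅x, y⁆ ∈ C := fun x y => CfsgLib.PGroup.special_comm_mem_center hQ.1 x y
  have hnd : ∀ x : Q, x ∉ C → ∃ y : Q, ρ ⁅y, x⁆ ≠ 1 := by
    intro x hx
    by_contra hcon
    push Not at hcon
    refine hx (Subgroup.mem_center_iff.2 fun y => ?_)
    exact commutatorElement_eq_one_iff_commute.1 (hCker _ (hD y x) (hcon y))
  have hQk : (Nat.card Q : ℂ) ≠ 0 := Nat.cast_ne_zero.2 Nat.card_pos.ne'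
  haveI : FiniteDimensional ℂ W := inferInstance
  have hd : Module.finrank ℂ W = p ^ n := by
    letI := Fintype.ofFinite (Q ⧸ C)
    have hcardT : Nat.card (Q ⧸ C) = Module.finrank ℂ W * Module.finrank ℂ W := by
      rw [← Module.finrank_linearMap ℂ ℂ W W,
        Module.finrank_eq_card_basis (Module.Basis.mk
          (rep_section_independent ρ hR hD hnd (fun t : Q ⧸ C => t.out) fun t => t.out_eq')
          (rep_section_span ρ hR hD hnd hQk hirr (fun t : Q ⧸ C => t.out)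
            fun t => t.out_eq').ge), Nat.card_eq_fintype_card]
    have h := Subgroup.card_eq_card_quotient_mul_card_subgroup C
    rw [hQn, hQ.2, pow_succ, two_mul, pow_add, hcardT] at h
    exact (Nat.mul_self_inj.1 (Nat.eq_of_mul_eq_mul_right hp.out.pos h)).symm
  have hγR : ∀ r ∈ C, γ r ∈ C := fun r hr => by rw [hγZ r hr]; exact hr
  obtain ⟨Γ, hΓ, hΓN⟩ := exists_intertwiner ρ hR hD hnd hirr γ hγR
    (fun r hr => by rw [hγZ r hr]) hN hγN
  obtain ⟨c, e', hce, he'⟩ := finrank_near_multiple (Nat.cast_ne_zero.2 hN.ne') hΓN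
    (fun ψ hψ => finrank_twistComm_le ρ hR hD hnd hQk hirr γ hγR hN hγN hsemi hΓ hΓN hψ)
  exact ⟨c, e', by rw [← hd]; exact hce, he'⟩

/-- Let P be an extraspecial p-group of order p^(2n+1) and H a cyclic group of order h prime to p acting on P (inside a common finite group: H normalizes P) so that C_P(x) = Z(P) for every non-identity x ∈ H. Then h divides p^n + 1 or h divides p^n − 1. -/
theorem result {G : Type*} [Group G] [Finite G] {p : ℕ} [Fact p.Prime] (P H : Subgroup G) (hP : Cfsg.IsExtraspecial p ↥P) (n : ℕ) (hn : Nat.card P = p ^ (2 * n + 1)) (hH : IsCyclic H) (hcop : (Nat.card H).Coprime p) (hHP : H ≤ Subgroup.normalizer (P : Set G)) (hfix : ∀ x ∈ H, x ≠ 1 → P ⊓ Subgroup.centralizer {x} = (Subgroup.center ↥P).map P.subtype) : Nat.card H ∣ p ^ n + 1 ∨ Nat.card H ∣ p ^ n - 1 := by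
  classical
  haveI := hH
  obtain ⟨⟨x, hx⟩, hgen⟩ := IsCyclic.exists_generator (α := ↥H)
  set N := Nat.card H with hNdef
  rcases eq_or_ne N 1 with hN1 | hN1
  · exact Or.inl (by rw [hN1]; exact one_dvd _)
  have hxN : orderOf x = N := by
    rw [← Subgroup.orderOf_mk x hx, hNdef]
    exact orderOf_eq_card_of_forall_mem_zpowers hgen
  let γ : MulAut ↥P := Subgroup.normalizerMonoidHom P ⟨x, hHP hx⟩
  have hγpow : ∀ (j : ℕ) (y : ↥P), (((γ ^ j) y : ↥P) : G) = x ^ j * y * (x ^ j)⁻¹ := fun j y => by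
    rw [← map_pow]; rfl
  have hfixj : ∀ j, 0 < j → j < N → ∀ y : ↥P, (γ ^ j) y = y → y ∈ Subgroup.center ↥P := by
    intro j hj hjN y hy
    have h1 : x ^ j ≠ 1 := fun h =>
      absurd (Nat.le_of_dvd hj (orderOf_dvd_of_pow_eq_one h)) (by omega)
    have h2 : (y : G) ∈ P ⊓ Subgroup.centralizer {x ^ j} := by
      refine ⟨y.2, Subgroup.mem_centralizer_singleton_iff.2 ?_⟩
      have h3 : x ^ j * (y : G) * (x ^ j)⁻¹ = y := (hγpow j y).symm.trans (congrArg Subtype.val hy)
      exact (mul_inv_eq_iff_eq_mul.1 h3).symm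
    rw [hfix _ (pow_mem hx j) h1] at h2
    obtain ⟨z, hz, hzy⟩ := h2
    rwa [← Subtype.ext hzy]
  have hZfix : ∀ z ∈ Subgroup.center ↥P, ∀ j, (γ ^ j) z = z := by
    intro z hz j
    rcases eq_or_ne (x ^ j) 1 with h | h
    · refine Subtype.ext ?_
      rw [hγpow, h]; simp
    · refine Subtype.ext ?_
      rw [hγpow, mul_inv_eq_iff_eq_mul]
      exact (Subgroup.mem_centralizer_singleton_iff.1
        ((hfix _ (pow_mem hx j) h).ge ⟨z, hz, rfl⟩).2).symm
  have hsemi : ∀ y, y ∉ Subgroup.center ↥P → ∀ j, 0 < j → j < N →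
      y⁻¹ * (γ ^ j) y ∉ Subgroup.center ↥P := by
    intro y hy j hj hjN hz
    refine hy (hfixj j hj hjN y ?_)
    obtain ⟨z, hzdef⟩ : ∃ z, z = y⁻¹ * (γ ^ j) y := ⟨_, rfl⟩
    rw [← hzdef] at hz
    have h1 := CfsgLib.Solvable.pow_apply_mul_fixed (φ := γ ^ j) (x := y) (z := z)
      (by rw [hzdef, mul_inv_cancel_left]) (hZfix z hz j) N
    have hγN : γ ^ N = 1 := MulEquiv.ext fun w => Subtype.ext (by
      rw [hγpow, ← hxN, pow_orderOf_eq_one]; simp)
    rw [← pow_mul, mul_comm, pow_mul, hγN, one_pow] at h1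
    have h2 : z ^ N = 1 := left_eq_mul.1 h1
    have h3 : z = 1 := by
      have h4 : z ^ p = 1 := CfsgLib.PGroup.special_center_pow hP.1 hz
      exact orderOf_eq_one_iff.1 (Nat.eq_one_of_dvd_coprimes hcop (orderOf_dvd_of_pow_eq_one h2)
        (orderOf_dvd_of_pow_eq_one h4))
    rw [hzdef] at h3
    exact (inv_mul_eq_one.1 h3).symm
  obtain ⟨c, e, hce, he⟩ := extraspecial_fpf_order hP hn (Nat.card_pos (α := ↥H)) γ
    (MulEquiv.ext fun w => Subtype.ext (by rw [hγpow, ← hNdef, ← hxN, pow_orderOf_eq_one]; simp))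
    (fun z hz => by simpa using hZfix z hz 1) hsemi
  have hpn : 1 ≤ p ^ n := Nat.one_le_pow _ _ (Fact.out : p.Prime).pos
  rcases he with rfl | rfl | rfl
  · exfalso
    apply hN1
    have h1 : (N : ℤ) ∣ ((p ^ n : ℕ) : ℤ) := ⟨c, by rw [hce, add_zero]⟩
    exact Nat.eq_one_of_dvd_coprimes (hcop.pow_right n) dvd_rfl (Int.natCast_dvd_natCast.1 h1)
  · refine Or.inr (Int.natCast_dvd_natCast.1 ⟨c, ?_⟩)
    push_cast [Nat.cast_sub hpn] at hce ⊢
    linarith
  · refine Or.inl (Int.natCast_dvd_natCast.1 ⟨c, ?_⟩)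
    push_cast at hce ⊢
    linarith

end Cfsg.Agent.S3767
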