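import Cfsg.Statements.S3768
import Cfsg.Agent.Lib.Solvable.FrobeniusTheorem

set_option autoImplicit false
open Cfsg

namespace Cfsg.Agent.S3768

theorem exists_commutator_eq {G : Type*} [Group G] [Finite G] {R : Subgroup G}
    (hR : Cfsg.IsFrobeniusComplement R) (L : Subgroup G) [L.Normal] (hL : ∀ l ∈ L, l ∈ R → l = 1)
    {r : G} (hr : r ∈ R) (hr1 : r ≠ 1) {y : G} (hy : y ∈ L) : ∃ l ∈ L, l * r * l⁻¹ * r⁻¹ = y := by
  let f : L → L := fun l => ⟨(l : G) * r * (l : G)⁻¹ * r⁻¹, by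
    have := L.mul_mem l.2 (Subgroup.Normal.conj_mem inferInstance _ (L.inv_mem l.2) r)
    simpa [mul_assoc] using this⟩
  have hf : Function.Injective f := by
    intro a b hab
    have h1 : (a : G) * r * (a : G)⁻¹ = (b : G) * r * (b : G)⁻¹ := mul_right_cancel (congrArg Subtype.val hab)
    have h2 : ((b : G)⁻¹ * a) * r = r * ((b : G)⁻¹ * a) := by
      have := congrArg (fun z => (b : G)⁻¹ * z * a) h1
      simpa [mul_assoc] using this
    have h3 := hL _ (L.mul_mem (L.inv_mem b.2) a.2) (CfsgLib.Solvable.frobenius_mem_of_commute hR hr hr1 h2)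
    exact Subtype.ext (inv_mul_eq_one.1 h3).symm
  obtain ⟨l, hl⟩ := (Finite.injective_iff_surjective.1 hf) ⟨y, hy⟩
  exact ⟨l, l.2, congrArg Subtype.val hl⟩

/-- Let G be a finite Frobenius group with Frobenius complement R and Frobenius kernel K (the identity together with the elements in no conjugate of R), and let N be a normal subgroup of G not containing K. Then G/N is a Frobenius group with Frobenius complement RN/N whose Frobenius kernel is the image of K. -/
theorem result {G : Type*} [Group G] [Finite G] (R : Subgroup G) (hR : Cfsg.IsFrobeniusComplement R) (N : Subgroup G) [N.Normal] (hKN : ¬ Cfsg.frobeniusKernel R ⊆ N) : Cfsg.IsFrobeniusComplement (R.map (QuotientGroup.mk' N)) ∧ Cfsg.frobeniusKernel (R.map (QuotientGroup.mk' N)) = QuotientGroup.mk' N '' Cfsg.frobeniusKernel R := by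
  classical
  obtain ⟨K, hK, hKn, hKc⟩ := CfsgLib.Solvable.frobenius_theorem hR
  have hd : K ⊓ R = ⊥ := hKc.disjoint.eq_bot
  have hKR : ∀ k ∈ K, k ∈ R → k = 1 := fun k hk hk' => Subgroup.mem_bot.1 (hd ▸ ⟨hk, hk'⟩)
  have hNK : N ≤ K := by
    intro n hn
    by_contra hnK
    rw [← SetLike.mem_coe, hK, CfsgLib.Solvable.mem_frobeniusKernel_iff] at hnK
    push Not at hnK
    obtain ⟨hn1, g, hg⟩ := hnK
    apply hKN
    rw [← hK]
    intro y hy
    have hr1 : g⁻¹ * n * g ≠ 1 := fun h => hn1 (by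
      have := congrArg (fun z => g * z * g⁻¹) h
      simpa [mul_assoc] using this)
    have hrN : g⁻¹ * n * g ∈ N := by simpa using Subgroup.Normal.conj_mem inferInstance n hn g⁻¹
    obtain ⟨k, -, rfl⟩ := exists_commutator_eq hR K hKR hg hr1 hy
    exact N.mul_mem (Subgroup.Normal.conj_mem inferInstance _ hrN k) (N.inv_mem hrN)
  let π := QuotientGroup.mk' N
  have hπ : Function.Surjective π := QuotientGroup.mk'_surjective N
  haveI : (K.map π).Normal := hKn.map π hπ
  have hmemK : ∀ x : G, π x ∈ K.map π → x ∈ K := by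
    rintro x ⟨k, hk, hkx⟩
    have : k⁻¹ * x ∈ N := QuotientGroup.eq.1 hkx
    simpa using K.mul_mem hk (hNK this)
  have hcomp : Subgroup.IsComplement' (K.map π) (R.map π) := by
    refine Subgroup.isComplement'_of_disjoint_and_mul_eq_univ (disjoint_iff.2 ?_) ?_
    · rw [eq_bot_iff]
      rintro _ ⟨hk, r, hr, rfl⟩
      rw [Subgroup.mem_bot, hKR r (hmemK r hk) hr, map_one]
    · refine Set.eq_univ_of_forall fun z => ?_
      obtain ⟨x, rfl⟩ := hπ z
      obtain ⟨⟨⟨k, hk⟩, ⟨r, hr⟩⟩, hkr⟩ := hKc.2 x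
      exact ⟨π k, ⟨k, hk, rfl⟩, π r, ⟨r, hr, rfl⟩, by rw [← hkr]; exact (map_mul π k r).symm⟩
  have hKb : K.map π ≠ ⊥ := fun h => hKN (by
    rw [← hK]
    intro x hx
    have : π x ∈ (⊥ : Subgroup (G ⧸ N)) := h ▸ ⟨x, hx, rfl⟩
    exact (QuotientGroup.eq_one_iff x).1 (Subgroup.mem_bot.1 this))
  have hRb : R.map π ≠ ⊥ := fun h => hR.1 ((Subgroup.eq_bot_iff_forall _).2 fun r hr => by
    have : π r ∈ (⊥ : Subgroup (G ⧸ N)) := h ▸ ⟨r, hr, rfl⟩
    exact hKR r (hNK ((QuotientGroup.eq_one_iff r).1 (Subgroup.mem_bot.1 this))) hr)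
  have hF : Cfsg.IsFrobeniusComplement (R.map π) := by
    rw [CfsgLib.Solvable.isFrobeniusComplement_iff_fpf hcomp hKb hRb]
    rintro _ ⟨r, hr, rfl⟩ hr1
    rw [eq_bot_iff]
    rintro _ ⟨⟨k, hk, rfl⟩, hc⟩
    have hr1' : r ≠ 1 := fun h => hr1 (by rw [h, map_one])
    have h1 : π (k * r * k⁻¹ * r⁻¹) = 1 := by
      have h2 := Subgroup.mem_centralizer_singleton_iff.1 hc
      rw [map_mul, map_mul, map_mul, map_inv, map_inv, h2]
      group
    obtain ⟨n, hn, hne⟩ := exists_commutator_eq hR N (fun l hl hl' => hKR l (hNK hl) hl') hr hr1' ((QuotientGroup.eq_one_iff _).1 h1)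
    have h3 : (n⁻¹ * k) * r = r * (n⁻¹ * k) := by
      have := congrArg (fun z => n⁻¹ * z * r * k) hne
      simpa [mul_assoc] using this.symm
    have h4 := hKR _ (K.mul_mem (K.inv_mem (hNK hn)) hk) (CfsgLib.Solvable.frobenius_mem_of_commute hR hr hr1' h3)
    rw [Subgroup.mem_bot, ← inv_mul_eq_one.1 h4]
    exact (QuotientGroup.eq_one_iff n).2 hn
  refine ⟨hF, (Set.eq_of_subset_of_ncard_le ?_ (le_of_eq ?_)).symm⟩
  · rintro _ ⟨k, hk, rfl⟩
    rw [CfsgLib.Solvable.mem_frobeniusKernel_iff]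
    refine or_iff_not_imp_left.2 fun hk1 g hg => hk1 ?_
    have h1 : g⁻¹ * π k * g ∈ K.map π := by
      simpa using (inferInstance : (K.map π).Normal).conj_mem _ ⟨k, hK.ge hk, rfl⟩ g⁻¹
    have h2 : g⁻¹ * π k * g = 1 := Subgroup.mem_bot.1 (hcomp.disjoint.eq_bot ▸ ⟨h1, hg⟩)
    have := congrArg (fun z => g * z * g⁻¹) h2
    show π k = 1
    simpa [mul_assoc] using this
  · rw [← Nat.card_coe_set_eq, CfsgLib.Solvable.card_frobeniusKernel hF, hcomp.index_eq_card, ← hK,
      ← Nat.card_coe_set_eq]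
    rfl

end Cfsg.Agent.S3768
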