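import Cfsg.Statements.S3769
import Cfsg.Agent.Lib.PGroup.PrimeComplementAction

set_option autoImplicit false
open Cfsg

namespace Cfsg.Agent.S3769

open scoped commutatorElement

/-- Let G and V be subgroups of a finite group with G solvable of odd order normalizing V, V an elementary abelian ℓ-group for a prime ℓ not dividing the order of G, and suppose G has a normal Hall subgroup K with a complement R of prime order. If C_V(R) = 1, then [R, K] centralizes V. -/
theorem result {X : Type*} [Group X] [Finite X] (G : Subgroup X) (hsolv : Group.IsSolvable G) (hodd : Odd (Nat.card G)) (V : Subgroup X) {ℓ : ℕ} (hℓ : ℓ.Prime) (hV : Cfsg.IsElementaryAbelian ℓ V) (hℓG : ¬ ℓ ∣ Nat.card G) (hGV : G ≤ Subgroup.normalizer (V : Set X)) (K R : Subgroup X) (hKG : K ≤ G) (hKn : G ≤ Subgroup.normalizer (K : Set X)) (hHall : (Nat.card K).Coprime (K.relIndex G)) (hRG : R ≤ G) (hR : (Nat.card R).Prime) (hKR : K ⊓ R = ⊥) (hKRG : K ⊔ R = G) (hCV : V ⊓ Subgroup.centralizer (R : Set X) = ⊥) :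 ⁅R, K⁆ ≤ Subgroup.centralizer (V : Set X) := by
  classical
  haveI := Fact.mk hℓ
  haveI := Fact.mk hR
  obtain ⟨hVc, hVe⟩ := hV
  have hRp : Nat.card R ∣ Nat.card G := Subgroup.card_dvd_of_le hRG
  have hKd : Nat.card K ∣ Nat.card G := Subgroup.card_dvd_of_le hKG
  have hRne : R ≠ ⊥ := fun h => hR.ne_one (by rw [h, Subgroup.card_bot])
  have hnot : ¬ R ≤ K := fun h => hRne (by rwa [inf_eq_right.2 h] at hKR)
  have hpK : ¬ Nat.card R ∣ Nat.card K := by
    intro hd
    have h1 : Nat.card R ∣ K.relIndex G := by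
      have h3 := CfsgLib.Solvable.card_sup_of_disjoint (hRG.trans hKn) hKR
      rw [hKRG] at h3
      have h4 := Subgroup.relIndex_mul_relIndex (⊥ : Subgroup X) K G bot_le hKG
      rw [Subgroup.relIndex_bot_left, Subgroup.relIndex_bot_left, h3] at h4
      exact (Nat.eq_of_mul_eq_mul_left Nat.card_pos h4).symm ▸ dvd_rfl
    exact hR.ne_one (Nat.eq_one_of_dvd_coprimes hHall hd h1)
  rw [Subgroup.commutator_le]
  intro r hr x hx
  rcases eq_or_ne r 1 with rfl | hr1
  · simp
  refine CfsgLib.PGroup.commutator_mem_centralizer_of_coprime (p := Nat.card R) (ℓ := ℓ)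
    (fun h => ?_) (fun h => hℓG (h ▸ hRp)) V hVc hVe (hGV (hRG hr)) ?_ ?_ K
    (hodd.of_dvd_nat hKd) hpK (fun h => hℓG (h.trans hKd)) (hKG.trans hGV) (hKn (hRG hr)) hx
  · exact Nat.not_even_iff_odd.2 hodd (even_iff_two_dvd.2 (h ▸ hRp))
  · have := pow_card_eq_one' (G := ↥R) (x := ⟨r, hr⟩)
    exact congrArg Subtype.val this
  · intro v hv h
    have hz : Subgroup.zpowers r = R :=
      Subgroup.eq_of_le_of_card_ge (Subgroup.zpowers_le.2 hr) (by
        rw [Nat.card_zpowers]
        have hd := orderOf_dvd_of_pow_eq_one (congrArg Subtype.val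
          (pow_card_eq_one' (G := ↥R) (x := ⟨r, hr⟩)))
        rcases (Nat.dvd_prime hR).1 hd with h1 | h1
        · exact absurd (orderOf_eq_one_iff.1 h1) hr1
        · exact h1.ge)
    rw [← Subgroup.mem_bot, ← hCV]
    refine ⟨hv, Subgroup.mem_centralizer_iff.2 fun s hs => ?_⟩
    rw [SetLike.mem_coe, ← hz, Subgroup.mem_zpowers_iff] at hs
    obtain ⟨j, rfl⟩ := hs
    exact (Commute.zpow_left (show Commute r v from mul_inv_eq_iff_eq_mul.1 h) j).eq

end Cfsg.Agent.S3769
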