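import Cfsg.Statements.S3770
import Cfsg.Agent.Lib.PGroup.FrobeniusFixedLine
import Cfsg.Agent.Lib.Solvable.FrobeniusTheorem

set_option autoImplicit false
open Cfsg

namespace Cfsg.Agent.S3770

open scoped commutatorElement

universe u

theorem exists_line_rep_aux (A : Type u) [CommGroup A] [Finite A] (r : ℕ) [hr : Fact r.Prime]
    [Module (ZMod r) (Additive A)] :
    ∃ (d : ℕ) (f : MulAut A →* Module.End (AlgebraicClosure (ZMod r))
        (Fin d → AlgebraicClosure (ZMod r))),
      Function.Injective f ∧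
        ∀ (a : MulAut A) (v₀ : A), v₀ ≠ 1 → (∀ v, a v = v → v ∈ Subgroup.zpowers v₀) →
          ∀ x y, f a x = x → f a y = y → x ≠ 0 → ∃ c : AlgebraicClosure (ZMod r), y = c • x := by
  classical
  haveI : Finite (Additive A) := Finite.of_equiv A Additive.ofMul
  haveI : Module.Finite (ZMod r) (Additive A) := Module.Finite.of_finite
  let B := Module.finBasis (ZMod r) (Additive A)
  let d := Module.finrank (ZMod r) (Additive A)
  let k := AlgebraicClosure (ZMod r)
  let g : Module.End (ZMod r) (Additive A) →+* Module.End k (Fin d → k) :=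
    ((Matrix.toLinAlgEquiv' : Matrix (Fin d) (Fin d) k ≃ₐ[k] _).toRingEquiv.toRingHom).comp
      (((algebraMap (ZMod r) k).mapMatrix).comp (LinearMap.toMatrixAlgEquiv B).toRingEquiv.toRingHom)
  have hginj : Function.Injective g :=
    (Matrix.toLinAlgEquiv' : Matrix (Fin d) (Fin d) k ≃ₐ[k] _).injective.comp
      ((Matrix.map_injective (algebraMap (ZMod r) k).injective).comp
        (LinearMap.toMatrixAlgEquiv B).injective)
  refine ⟨d, (g : _ →* _).comp (CfsgLib.Solvable.zmodAut r), ?_, ?_⟩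
  · intro a b hab
    refine MulEquiv.ext fun x => ?_
    have h := LinearMap.congr_fun (hginj hab) (Additive.ofMul x)
    rw [CfsgLib.Solvable.zmodAut_apply, CfsgLib.Solvable.zmodAut_apply] at h
    exact Additive.ofMul.injective h
  intro a v₀ hv₀ hfix x y hx hy hx0
  set M : Matrix (Fin d) (Fin d) (ZMod r) :=
    LinearMap.toMatrixAlgEquiv B (CfsgLib.Solvable.zmodAut r a) with hM
  have hmv : ∀ w : Fin d → k, (M.map (algebraMap (ZMod r) k)).mulVec w = w →
      ∀ φ : k →ₗ[ZMod r] ZMod r, ∃ t : ZMod r,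
        (fun i => φ (w i)) = t • B.equivFun (Additive.ofMul v₀) := by
    intro w hw φ
    have h1 : M.mulVec (fun i => φ (w i)) = fun i => φ (w i) := by
      funext i
      conv_rhs => rw [← congrFun hw i]
      simp only [Matrix.mulVec, dotProduct, Matrix.map_apply, map_sum]
      refine Finset.sum_congr rfl fun j _ => ?_
      rw [← Algebra.smul_def, map_smul, smul_eq_mul]
    have h2 : CfsgLib.Solvable.zmodAut r a (B.equivFun.symm fun i => φ (w i)) =
        B.equivFun.symm fun i => φ (w i) := by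
      apply B.equivFun.injective
      rw [LinearEquiv.apply_symm_apply]
      have h3 := LinearMap.toMatrix_mulVec_repr B B (CfsgLib.Solvable.zmodAut r a)
        (B.equivFun.symm fun i => φ (w i))
      rw [show ⇑(B.repr (B.equivFun.symm fun i => φ (w i))) = fun i => φ (w i) from
        B.equivFun.apply_symm_apply _] at h3
      exact h3.symm.trans h1
    rw [CfsgLib.Solvable.zmodAut_apply] at h2
    obtain ⟨j, hj⟩ := Subgroup.mem_zpowers_iff.1
      (hfix _ (Additive.ofMul.injective (h2.trans (ofMul_toMul _).symm)))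
    refine ⟨(j : ZMod r), ?_⟩
    rw [← map_smul, ← LinearEquiv.symm_apply_eq, Int.cast_smul_eq_zsmul]
    exact ((congrArg Additive.ofMul hj).trans (ofMul_toMul _)).symm
  set e := B.equivFun (Additive.ofMul v₀)
  obtain ⟨i₀, hi₀⟩ : ∃ i, e i ≠ 0 := by
    by_contra hcon
    push Not at hcon
    refine hv₀ (Additive.ofMul.injective (B.equivFun.injective ?_))
    exact (funext hcon).trans (map_zero B.equivFun).symm
  have hform : ∀ w : Fin d → k, (M.map (algebraMap (ZMod r) k)).mulVec w = w →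
      w = (algebraMap (ZMod r) k (e i₀)⁻¹ * w i₀) • fun i => algebraMap (ZMod r) k (e i) := by
    intro w hw
    funext i
    refine sub_eq_zero.1 ((Module.forall_dual_apply_eq_zero_iff (ZMod r) _).1 fun φ => ?_)
    obtain ⟨t, ht⟩ := hmv w hw φ
    have ei : φ (w i) = t * e i := congrFun ht i
    have e0 : φ (w i₀) = t * e i₀ := congrFun ht i₀
    rw [map_sub, Pi.smul_apply, smul_eq_mul,
      show algebraMap (ZMod r) k (e i₀)⁻¹ * w i₀ * algebraMap (ZMod r) k (e i) =
        ((e i₀)⁻¹ * e i) • w i₀ by rw [Algebra.smul_def, map_mul]; ring,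
      map_smul, ei, e0, smul_eq_mul, sub_eq_zero]
    field_simp
  have hx' := hform x hx
  have hy' := hform y hy
  set E₀ : Fin d → k := fun i => algebraMap (ZMod r) k (e i)
  set α := algebraMap (ZMod r) k (e i₀)⁻¹ * x i₀
  set β := algebraMap (ZMod r) k (e i₀)⁻¹ * y i₀
  have hα : α ≠ 0 := fun h => hx0 (by rw [hx', h, zero_smul])
  exact ⟨β / α, by rw [hy', hx', smul_smul, div_mul_cancel₀ _ hα]⟩

theorem exists_line_rep (A : Type u) [CommGroup A] [Finite A] (r : ℕ) [hr : Fact r.Prime]
    (hexp : ∀ a : A, a ^ r = 1) :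
    ∃ (d : ℕ) (f : MulAut A →* Module.End (AlgebraicClosure (ZMod r))
        (Fin d → AlgebraicClosure (ZMod r))),
      Function.Injective f ∧
        ∀ (a : MulAut A) (v₀ : A), v₀ ≠ 1 → (∀ v, a v = v → v ∈ Subgroup.zpowers v₀) →
          ∀ x y, f a x = x → f a y = y → x ≠ 0 → ∃ c : AlgebraicClosure (ZMod r), y = c • x := by
  have h0 : ∀ v : Additive A, r • v = 0 := fun v => by
    refine Additive.toMul.injective ?_
    rw [toMul_nsmul, toMul_zero]
    exact hexp _
  exact @exists_line_rep_aux A _ _ r _ (AddCommGroup.zmodModule h0)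

/-- Let G and V be subgroups of a finite group with G a Frobenius group with complement R of prime order and kernel K, G normalizing V, and V an elementary abelian ℓ-group for a prime ℓ not dividing the order of G. If C_V(R) has order ℓ, then the derived subgroup of K centralizes V. -/
theorem result {X : Type*} [Group X] [Finite X] (G : Subgroup X) (V : Subgroup X) {ℓ : ℕ} (hℓ : ℓ.Prime) (hV : Cfsg.IsElementaryAbelian ℓ V) (hℓG : ¬ ℓ ∣ Nat.card G) (hGV : G ≤ Subgroup.normalizer (V : Set X)) (R : Subgroup ↥G) (hR : Cfsg.IsFrobeniusComplement R) (hRp : (Nat.card R).Prime) (hCV : Nat.card ↥(V ⊓ Subgroup.centralizer ((R.map G.subtype : Subgroup X) : Set X)) = ℓ) : ⁅Subgroup.closure (Subtype.val '' Cfsg.frobeniusKernel R), Subgroup.closure (Subtype.val '' Cfsg.frobeniusKernel R)⁆ ≤ Subgroup.centralizer (V : Set X) := by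
  classical
  haveI := Fact.mk hℓ
  haveI := Fact.mk hRp
  obtain ⟨hVc, hVe⟩ := hV
  letI : CommGroup ↥V :=
    { (inferInstance : Group ↥V) with mul_comm := fun a b => hVc.is_comm.comm a b }
  obtain ⟨N, hN, hNn, -⟩ := CfsgLib.Solvable.frobenius_theorem hR
  have hmem : ∀ z : ↥G, z ∈ N ↔ z ∈ Cfsg.frobeniusKernel R := fun z => Set.ext_iff.1 hN z
  rw [← hN, show (Subtype.val : ↥G → X) = G.subtype from rfl, ← Subgroup.coe_map,
    Subgroup.closure_eq]
  obtain ⟨d, f, hfinj, hfline⟩ := exists_line_rep ↥V ℓ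
    (fun a => Subtype.ext (by rw [SubgroupClass.coe_pow]; exact hVe _ a.2))
  let act : ↥G →* MulAut ↥V := (Subgroup.normalizerMonoidHom V).comp (Subgroup.inclusion hGV)
  have hRne : R ≠ ⊥ := hR.1
  obtain ⟨r, hrR, hr1⟩ := R.bot_or_exists_ne_one.resolve_left hRne
  have hz : Subgroup.zpowers r = R := by
    refine Subgroup.eq_of_le_of_card_ge (Subgroup.zpowers_le.2 hrR) ?_
    rw [Nat.card_zpowers]
    have hd : orderOf r ∣ Nat.card R := orderOf_dvd_of_pow_eq_one
      (congrArg Subtype.val (pow_card_eq_one' (G := ↥R) (x := ⟨r, hrR⟩)))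
    rcases (Nat.dvd_prime hRp).1 hd with h1 | h1
    · exact absurd (orderOf_eq_one_iff.1 h1) hr1
    · exact h1.ge
  have hrp : r ^ Nat.card R = 1 :=
    congrArg Subtype.val (pow_card_eq_one' (G := ↥R) (x := ⟨r, hrR⟩))
  haveI := hNn
  let σ : MulAut ↥N := MulAut.conjNormal r
  have hσ : σ ^ Nat.card R = 1 := by rw [← map_pow, hrp, map_one]
  have hfpf : ∀ z, σ z = z → z = 1 := by
    intro z hzz
    have h1 : r * (z : ↥G) * r⁻¹ = z := by rw [← MulAut.conjNormal_apply]; exact congrArg Subtype.val hzz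
    have h2 := CfsgLib.Solvable.frobenius_mem_of_commute hR hrR hr1 (mul_inv_eq_iff_eq_mul.1 h1).symm
    exact Subtype.ext (CfsgLib.Solvable.frobeniusKernel_inter ((hmem _).1 z.2) h2)
  have hNk : (Nat.card N : AlgebraicClosure (ZMod ℓ)) ≠ 0 := fun h =>
    hℓG (((CharP.cast_eq_zero_iff (AlgebraicClosure (ZMod ℓ)) ℓ _).1 h).trans
      (Subgroup.card_subgroup_dvd_card N))
  have hint : ∀ z : ↥N, f (act r) * (f.comp (act.comp N.subtype)) z =
      (f.comp (act.comp N.subtype)) (σ z) * f (act r) := fun z => by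
    show f (act r) * f (act (z : ↥G)) = f (act ((σ z : ↥N) : ↥G)) * f (act r)
    rw [← map_mul f, ← map_mul f, ← map_mul act, ← map_mul act]
    refine congrArg _ (congrArg _ ?_)
    show r * (z : ↥G) = _
    rw [MulAut.conjNormal_apply]
    group
  have hC : ∀ v : ↥V, act r v = v →
      (v : X) ∈ V ⊓ Subgroup.centralizer ((R.map G.subtype : Subgroup X) : Set X) := by
    intro v hv
    refine ⟨v.2, Subgroup.mem_centralizer_iff.2 ?_⟩
    rintro _ ⟨s, hs, rfl⟩
    rw [SetLike.mem_coe, ← hz, Subgroup.mem_zpowers_iff] at hs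
    obtain ⟨j, rfl⟩ := hs
    have hrv : (r : X) * v * (r : X)⁻¹ = v := congrArg Subtype.val hv
    rw [map_zpow]
    exact (Commute.zpow_left (show Commute (r : X) (v : X) from mul_inv_eq_iff_eq_mul.1 hrv) j).eq
  set D := V ⊓ Subgroup.centralizer ((R.map G.subtype : Subgroup X) : Set X) with hD
  obtain ⟨w, hwD, hw1⟩ := D.bot_or_exists_ne_one.resolve_left fun h => by
    rw [h, Subgroup.card_bot] at hCV
    exact hℓ.ne_one hCV.symm
  have hline := hfline (act r) ⟨w, hwD.1⟩ (fun h => hw1 (congrArg Subtype.val h)) (fun v hv => by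
    have hzw : Subgroup.zpowers w = D := by
      refine Subgroup.eq_of_le_of_card_ge (Subgroup.zpowers_le.2 hwD) ?_
      rw [hCV, Nat.card_zpowers, orderOf_eq_prime (hVe w hwD.1) hw1]
    obtain ⟨j, hj⟩ := Subgroup.mem_zpowers_iff.1 (hzw.symm ▸ hC v hv : (v : X) ∈ Subgroup.zpowers w)
    exact ⟨j, Subtype.ext (by rw [← hj]; simp)⟩)
  have hmain := (CfsgLib.PGroup.commute_of_fixed_line_aux (p := Nat.card R) _ rfl hNk σ hσ hfpf
    (f.comp (act.comp N.subtype)) (f (act r)) hint
    (by rw [← map_pow, ← map_pow, hrp, map_one, map_one]) hline).1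
  rw [Subgroup.commutator_le]
  rintro _ ⟨x, hx, rfl⟩ _ ⟨y, hy, rfl⟩
  have h1 := hmain ⟨x, hx⟩ ⟨y, hy⟩
  simp only [MonoidHom.coe_comp, Function.comp_apply, Subgroup.coe_subtype, ← map_mul] at h1
  have h2 : act ⁅x, y⁆ = 1 := by
    rw [map_commutatorElement, commutatorElement_eq_one_iff_commute]
    show act x * act y = act y * act x
    rw [← map_mul, ← map_mul]
    exact hfinj h1
  rw [← map_commutatorElement, Subgroup.mem_centralizer_iff]
  intro v hv
  have h3 : ((⁅x, y⁆ : ↥G) : X) * v * ((⁅x, y⁆ : ↥G) : X)⁻¹ = v :=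
    congrArg Subtype.val (DFunLike.congr_fun h2 (⟨v, hv⟩ : ↥V))
  exact (mul_inv_eq_iff_eq_mul.1 h3).symm

end Cfsg.Agent.S3770
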