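import Cfsg.Statements.S3772
import Cfsg.Prelude.Def_Transfer
import Cfsg.Agent.Lib.PGroup.Basic
import Cfsg.Agent.Lib.PGroup.Extraspecial

set_option autoImplicit false
open Cfsg

namespace Cfsg.Agent.S3772

open scoped commutatorElement
open CfsgLib.PGroup

/-- Let G be a finite 2-group whose Frattini subgroup Φ(G) has order 2, with |G : Φ(G)| = 2^d, and let j be the number of elements x of G with x² = 1. Then j = 2^d, or j = 2^d + 2^(d−r) or j = 2^d − 2^(d−r) for some positive integer r with 2r ≤ d. Moreover if d = 2r and j is 2^d + 2^r or 2^d − 2^r, then G is extraspecial. -/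
theorem result {G : Type*} [Group G] [Finite G] (hG : IsPGroup 2 G) (hΦ : Nat.card (frattini G) = 2) (d : ℕ) (hd : (frattini G).index = 2 ^ d) : (Nat.card {x : G // x ^ 2 = 1} = 2 ^ d ∨ ∃ r : ℕ, 1 ≤ r ∧ 2 * r ≤ d ∧ (Nat.card {x : G // x ^ 2 = 1} = 2 ^ d + 2 ^ (d - r) ∨ Nat.card {x : G // x ^ 2 = 1} + 2 ^ (d - r) = 2 ^ d)) ∧ (∀ r : ℕ, d = 2 * r → (Nat.card {x : G // x ^ 2 = 1} = 2 ^ d + 2 ^ r ∨ Nat.card {x : G // x ^ 2 = 1} + 2 ^ r = 2 ^ d) → Cfsg.IsExtraspecial 2 G) := by
  classical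
  haveI := Fintype.ofFinite G
  set Φ := frattini G with hΦdef
  haveI : Φ.Normal := by rw [hΦdef]; infer_instance
  have hΦc : Φ ≤ Subgroup.center G := le_center_of_card_eq hG Φ hΦ
  have hsqΦ : ∀ x : G, x ^ 2 ∈ Φ := fun x => pow_mem_frattini hG x
  have hcΦ : ∀ a b : G, ⁅a, b⁆ ∈ Φ := fun a b =>
    commutator_le_frattini hG (Subgroup.commutator_mem_commutator (Subgroup.mem_top a) (Subgroup.mem_top b))
  have hzz : ∀ u ∈ Φ, u * u = 1 := fun u hu => by
    have h : (⟨u, hu⟩ : Φ) ^ 2 = 1 := hΦ ▸ pow_card_eq_one'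
    rw [← sq]; exact congrArg Subtype.val h
  have htwo : ∀ u ∈ Φ, ∀ v ∈ Φ, u ≠ 1 → v ≠ 1 → u = v := by
    intro u hu v hv hu1 hv1
    by_contra huv
    have h3 : 3 ≤ Nat.card Φ := by
      rw [← SetLike.coe_sort_coe, Nat.card_coe_set_eq]
      refine le_trans (le_of_eq ?_) (Set.ncard_le_ncard (s := {1, u, v}) ?_ (Set.toFinite _))
      · rw [Set.ncard_eq_three.2 ⟨1, u, v, Ne.symm hu1, Ne.symm hv1, huv, rfl⟩]
      · rintro a (rfl | rfl | rfl)
        exacts [Φ.one_mem, hu, hv]
    omega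
  let χ : G → ℤ := fun x => if x ^ 2 = 1 then 1 else -1
  let δ : G → G → ℤ := fun x a => if x * a = a * x then 1 else -1
  have hχmul : ∀ x a : G, χ (x * a) = χ x * χ a * δ x a := by
    intro x a
    have h : (x * a) ^ 2 = x ^ 2 * a ^ 2 * ⁅a, x⁆ := by
      rw [mul_pow_of_comm_mem_center (hΦc (hcΦ a x)), Nat.choose_self, pow_one]
    have hiff : x * a = a * x ↔ ⁅a, x⁆ = 1 := by rw [commutatorElement_eq_one_iff_mul_comm, eq_comm]
    have h2 := hzz _ (hsqΦ x)
    simp only [χ, δ, h, hiff]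
    by_cases hu : x ^ 2 = 1 <;> by_cases hv : a ^ 2 = 1 <;> by_cases hw : ⁅a, x⁆ = 1
    · simp [hu, hv, hw]
    · simp [hu, hv, hw]
    · simp [hu, hv, hw]
    · rw [htwo _ (hcΦ a x) _ (hsqΦ a) hw hv]; simp [hu, hv, hzz _ (hsqΦ a)]
    · simp [hu, hv, hw]
    · rw [htwo _ (hcΦ a x) _ (hsqΦ x) hw hu]; simp [hu, hv, h2]
    · rw [htwo _ (hsqΦ a) _ (hsqΦ x) hv hu]; simp [hu, hw, h2]
    · rw [htwo _ (hsqΦ a) _ (hsqΦ x) hv hu, htwo _ (hcΦ a x) _ (hsqΦ x) hw hu, h2]; simp [hu]
  have hχsq : ∀ x, χ x * χ x = 1 := fun x => by simp only [χ]; split_ifs <;> norm_num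
  have hδsum : ∀ a : G, ∑ x, δ x a = if a ∈ Subgroup.center G then (Fintype.card G : ℤ) else 0 := by
    intro a
    split_ifs with ha
    · have : ∀ x, δ x a = 1 := fun x => if_pos (Subgroup.mem_center_iff.1 ha x)
      rw [Finset.sum_congr rfl fun x _ => this x]
      simp
    · obtain ⟨b, hb⟩ := not_forall.1 (mt Subgroup.mem_center_iff.2 ha)
      have hδmul : ∀ x, δ (x * b) a = - δ x a := by
        intro x
        have hcen := hΦc (hcΦ b a)
        have hm : ⁅x * b, a⁆ = ⁅x, a⁆ * ⁅b, a⁆ := comm_mul_left hcen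
        have hb1 : ⁅b, a⁆ ≠ 1 := fun h => hb (commutatorElement_eq_one_iff_mul_comm.1 h)
        simp only [δ, ← commutatorElement_eq_one_iff_mul_comm, hm]
        by_cases hx : ⁅x, a⁆ = 1
        · simp [hx, hb1]
        · simp [hx, htwo _ (hcΦ x a) _ (hcΦ b a) hx hb1, hzz _ (hcΦ b a), hb1]
      have h := Equiv.sum_comp (Equiv.mulRight b) (fun x => δ x a)
      simp only [Equiv.coe_mulRight, hδmul, Finset.sum_neg_distrib] at h
      linarith
  set Z := Subgroup.center G with hZdef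
  set T := ∑ x, χ x with hT
  have hT2 : T * T = (Fintype.card G : ℤ) * ∑ a ∈ Finset.univ.filter (· ∈ Z), χ a := by
    calc T * T = ∑ x, ∑ a, χ x * χ (x * a) := by
          rw [hT, Finset.sum_mul]
          refine Finset.sum_congr rfl fun x _ => ?_
          rw [Finset.mul_sum]
          exact (Equiv.sum_comp (Equiv.mulLeft x) (fun y => χ x * χ y)).symm
      _ = ∑ a, χ a * ∑ x, δ x a := by
          rw [Finset.sum_comm]
          refine Finset.sum_congr rfl fun a _ => ?_
          rw [Finset.mul_sum]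
          refine Finset.sum_congr rfl fun x _ => ?_
          rw [hχmul]; linear_combination (χ a * δ x a) * hχsq x
      _ = _ := by
          rw [Finset.mul_sum, Finset.sum_filter]
          refine Finset.sum_congr rfl fun a _ => ?_
          rw [hδsum]; split_ifs <;> ring
  -- `T = 2 j - |G|`
  set j := Nat.card {x : G // x ^ 2 = 1} with hj
  have hGc : Nat.card G = 2 ^ (d + 1) := by rw [← Φ.card_mul_index, hΦ, hd, pow_succ']
  have hTj : T = 2 * ((j : ℤ) - 2 ^ d) := by
    have h1 : (j : ℤ) = ∑ x : G, if x ^ 2 = 1 then 1 else 0 := by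
      rw [Finset.sum_boole, hj, Nat.card_eq_fintype_card, Fintype.card_subtype]
    have h2 : ∀ x : G, χ x = 2 * (if x ^ 2 = 1 then 1 else 0) - 1 := fun x => by
      simp only [χ]; split_ifs <;> norm_num
    rw [hT, Finset.sum_congr rfl fun x _ => h2 x, Finset.sum_sub_distrib, ← Finset.mul_sum, ← h1,
      Finset.sum_const, Finset.card_univ, ← Nat.card_eq_fintype_card, hGc]
    push_cast [pow_succ]
    ring
  obtain ⟨t, ht⟩ := IsPGroup.iff_card.1 (hG.to_subgroup Z)
  have hcases : T * T = 0 ∨ (T * T = (2 : ℤ) ^ (d + 1 + t) ∧ ∀ a ∈ Z, a ^ 2 = 1) := by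
    by_cases hall : ∀ a ∈ Z, a ^ 2 = 1
    · right
      refine ⟨?_, hall⟩
      rw [hT2, ← Nat.card_eq_fintype_card, hGc, Finset.sum_congr rfl (g := fun _ => (1 : ℤ))
        (fun a ha => if_pos (hall a (Finset.mem_filter.1 ha).2)), Finset.sum_const, nsmul_eq_mul, mul_one,
        ← Fintype.card_subtype, ← Nat.card_eq_fintype_card, show Nat.card {x // x ∈ Z} = 2 ^ t from ht]
      push_cast
      rw [← pow_add]
    · left
      obtain ⟨b, hbZ, hb⟩ : ∃ b ∈ Z, b ^ 2 ≠ 1 := by simpa using hall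
      have hneg : ∀ a, χ (a * b) = - χ a := fun a => by
        rw [hχmul, show δ a b = 1 from if_pos (Subgroup.mem_center_iff.1 hbZ a),
          show χ b = -1 from if_neg hb]
        ring
      have h := Finset.sum_equiv (Equiv.mulRight b) (s := Finset.univ.filter (· ∈ Z))
        (t := Finset.univ.filter (· ∈ Z)) (f := fun a => χ (a * b)) (g := χ)
        (fun a => by simp [Z.mul_mem_cancel_right hbZ]) (fun a _ => rfl)
      simp only [hneg, Finset.sum_neg_distrib] at h
      rw [hT2, show ∑ a ∈ Finset.univ.filter (· ∈ Z), χ a = 0 by linarith, mul_zero]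
  -- nonabelian when the square sum does not vanish
  have hnab : (∀ a ∈ Z, a ^ 2 = 1) → t ≤ d := by
    intro hall
    by_contra htd
    have h1 : Z = ⊤ := Subgroup.eq_top_of_le_card _ (by rw [hGc, ht]; exact Nat.pow_le_pow_right two_pos (by omega))
    have hexp : ∀ x : G, x ^ 2 = 1 := fun x => hall x (h1.ge (Subgroup.mem_top x))
    haveI : Nontrivial G := Finite.one_lt_card_iff_nontrivial.1 (hGc ▸ Nat.one_lt_pow (by omega) (by norm_num))
    have : Φ = ⊥ := by
      refine eq_bot_iff.2 fun g hg => ?_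
      by_contra hg1
      obtain ⟨M, hgM, hM⟩ := Finite.exists_le_maximal (p := fun M : Subgroup G => g ∉ M) (a := (⊥ : Subgroup G))
        (by simpa using hg1)
      refine hM.1 (frattini_le_coatom (K := M) ⟨fun h => hM.1 (h ▸ Subgroup.mem_top g), fun L hL => ?_⟩ hg)
      by_contra hLt
      have hgL : g ∈ L := by
        by_contra hgL
        exact hL.not_ge (hM.2 hgL hL.le)
      obtain ⟨y, -, hy⟩ := SetLike.exists_of_lt (lt_top_iff_ne_top.2 hLt)
      have hyM : y ∉ M := fun h => hy (hL.le h)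
      have hg' : g ∈ M ⊔ Subgroup.zpowers y := by
        by_contra hc
        exact hyM ((hM.2 hc le_sup_left) (Subgroup.mem_sup_right (Subgroup.mem_zpowers y)))
      haveI : M.Normal := ⟨fun a ha u => by
        rw [Subgroup.mem_center_iff.1 (h1.ge (Subgroup.mem_top a) : a ∈ Z) u, mul_inv_cancel_right]; exact ha⟩
      rw [← SetLike.mem_coe, Subgroup.normal_mul, Set.mem_mul] at hg'
      obtain ⟨a, ha, w, hw, hawg⟩ := hg'
      obtain ⟨i, rfl⟩ := Subgroup.mem_zpowers_iff.1 hw
      have hmem : y ^ i ∈ L := by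
        have : a⁻¹ * g ∈ L := L.mul_mem (L.inv_mem (hL.le ha)) hgL
        rwa [← hawg, inv_mul_cancel_left] at this
      rcases Int.even_or_odd i with ⟨k, rfl⟩ | ⟨k, rfl⟩
      · refine hM.1 ?_
        rw [← hawg, ← two_mul, zpow_mul, zpow_two, ← sq, hexp, one_zpow, mul_one]
        exact ha
      · rw [zpow_add, zpow_mul, zpow_two, ← sq, hexp, one_zpow, one_mul, zpow_one] at hmem
        exact hy hmem
    rw [this, Subgroup.card_bot] at hΦ
    exact absurd hΦ (by norm_num)
  have hmain : j = 2 ^ d ∨ ∃ e, (j = 2 ^ d + 2 ^ e ∨ j + 2 ^ e = 2 ^ d) ∧ 2 * e + 2 = d + 1 + t ∧ t ≤ d := by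
    rcases hcases with h | ⟨h, hall⟩
    · left
      have : T = 0 := by simpa using mul_self_eq_zero.1 h
      rw [hTj] at this
      have : (j : ℤ) = ((2 ^ d : ℕ) : ℤ) := by push_cast; linarith
      exact_mod_cast this
    · right
      have h' : ((j : ℤ) - 2 ^ d).natAbs ^ 2 * 2 ^ 2 = 2 ^ (d + 1 + t) := by
        have h'' : ((((j : ℤ) - 2 ^ d).natAbs ^ 2 * 2 ^ 2 : ℕ) : ℤ) = ((2 ^ (d + 1 + t) : ℕ) : ℤ) := by
          push_cast
          rw [sq_abs, ← h, hTj]; ring
        exact_mod_cast h''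
      obtain ⟨e, -, he⟩ := (Nat.dvd_prime_pow Nat.prime_two).1
        (Dvd.dvd.trans (dvd_pow_self _ two_ne_zero) ⟨_, h'.symm⟩ : ((j : ℤ) - 2 ^ d).natAbs ∣ 2 ^ (d + 1 + t))
      rw [he, ← pow_mul, ← pow_add] at h'
      have he2 := Nat.pow_right_injective le_rfl h'
      refine ⟨e, ?_, by omega, hnab hall⟩
      rcases Int.natAbs_eq ((j : ℤ) - 2 ^ d) with h0 | h0
      · left
        have : (j : ℤ) = ((2 ^ d + 2 ^ e : ℕ) : ℤ) := by
          rw [he] at h0; push_cast at h0 ⊢; linarith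
        exact_mod_cast this
      · right
        have : ((j + 2 ^ e : ℕ) : ℤ) = ((2 ^ d : ℕ) : ℤ) := by
          rw [he] at h0; push_cast at h0 ⊢; linarith
        exact_mod_cast this
  have ht1 : 1 ≤ t := by
    by_contra h0
    have := Subgroup.card_le_of_le hΦc
    rw [hΦ, ht, show t = 0 by omega] at this
    omega
  refine ⟨?_, fun r hr hjr => ?_⟩
  · rcases hmain with h | ⟨e, h, he, htd⟩
    · exact Or.inl h
    · refine Or.inr ⟨d - e, by omega, by omega, ?_⟩
      rwa [show d - (d - e) = e by omega]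
  · rcases hmain with h | ⟨e, h, he, htd⟩
    · exfalso
      have h1 : 0 < 2 ^ r := Nat.two_pow_pos r
      omega
    · have hee : e = r := by
        have h1 : 2 ^ e = 2 ^ r := by
          have := Nat.two_pow_pos e
          have := Nat.two_pow_pos r
          omega
        exact Nat.pow_right_injective le_rfl h1
      refine isExtraspecial_mk hG ?_ ?_ (fun a b => hΦc (hcΦ a b)) (fun a => hΦc (hsqΦ a))
      · rw [← hZdef, ht, show t = 1 by omega]; norm_num
      · intro hc
        have h1 : Z = ⊤ := eq_top_iff.2 fun a _ => Subgroup.mem_center_iff.2 fun b => hc.is_comm.comm b a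
        have h2 := ht
        rw [h1, Subgroup.card_top, hGc] at h2
        have := Nat.pow_right_injective le_rfl h2
        omega

end Cfsg.Agent.S3772
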