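import Cfsg.Statements.S3775
import Cfsg.Agent.Lib.PGroup.InvariantComplement

set_option autoImplicit false
open Cfsg

namespace Cfsg.Agent.S3775

variable {A : Type*} [CommGroup A] [Finite A] {p : ℕ} [Fact p.Prime]

theorem inv_of_map {X : Subgroup (MulAut A)} {B : Subgroup A}
    (h : ∀ x ∈ X, B.map x.toMonoidHom = B) : ∀ x : X, ∀ b ∈ B, (x : MulAut A) b ∈ B :=
  fun x b hb => h x x.2 ▸ Subgroup.mem_map_of_mem _ hb

theorem map_of_inv {X : Subgroup (MulAut A)} {B : Subgroup A}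
    (h : ∀ x : X, ∀ b ∈ B, (x : MulAut A) b ∈ B) : ∀ x ∈ X, B.map x.toMonoidHom = B := fun x hx =>
  Subgroup.eq_of_le_of_card_ge (by rintro _ ⟨b, hb, rfl⟩; exact h ⟨x, hx⟩ b hb)
    (by rw [Subgroup.card_map_of_injective x.injective])

theorem indecomposable_step {X : Subgroup (MulAut A)} (hX : (Nat.card X).Coprime p)
    (h1 : ¬ ∃ B C : Subgroup A, B ≠ ⊥ ∧ C ≠ ⊥ ∧ (∀ x ∈ X, B.map x.toMonoidHom = B) ∧
      (∀ x ∈ X, C.map x.toMonoidHom = C) ∧ B ⊓ C = ⊥ ∧ B ⊔ C = ⊤)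
    {e : ℕ} (hexp : ∀ a : A, a ^ p ^ (e + 1) = 1) (U : Subgroup A) (hUr : U ≤ (powMonoidHom (p ^ e) : A →* A).range)
    (hUi : ∀ x : X, ∀ b ∈ U, (x : MulAut A) b ∈ U) (hUb : U ≠ ⊥) :
    (powMonoidHom (p ^ e) : A →* A).range = U ∧ ∀ a : A, a ^ p ^ e = 1 → ∃ b, b ^ p = a := by
  classical
  have hp : p.Prime := Fact.out
  have hfeq : ∀ (x : MulAut A) (a : A), x a ^ p ^ e = x (a ^ p ^ e) := fun x a => (map_pow x a _).symm
  obtain ⟨B, ⟨hBi, hBU⟩, hmin⟩ := WellFounded.has_min (wellFounded_lt (α := Subgroup A))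
    {B | (∀ x : X, ∀ b ∈ B, (x : MulAut A) b ∈ B) ∧ B.map (powMonoidHom (p ^ e)) = U}
    ⟨U.comap (powMonoidHom (p ^ e)), fun x b hb => by
      show ((x : MulAut A) b) ^ p ^ e ∈ U
      rw [hfeq]
      exact hUi x _ hb, Subgroup.map_comap_eq_self hUr⟩
  let σ : X →* MulAut B := MonoidHom.mk' (fun x =>
    { toFun := fun b => ⟨(x : MulAut A) b, hBi x b b.2⟩
      invFun := fun b => ⟨((x⁻¹ : X) : MulAut A) b, hBi x⁻¹ b b.2⟩
      left_inv := fun b => Subtype.ext (by simp)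
      right_inv := fun b => Subtype.ext (by simp)
      map_mul' := fun a b => Subtype.ext (by simp) }) fun x y => by ext; rfl
  let R : Subgroup B := (powMonoidHom p : B →* B).range
  have hR : ∀ x : X, R.map (σ x).toMonoidHom = R := fun x =>
    Subgroup.eq_of_le_of_card_ge (by rintro _ ⟨_, ⟨b, rfl⟩, rfl⟩; exact ⟨σ x b, (map_pow (σ x) b p).symm⟩)
      (by rw [Subgroup.card_map_of_injective (σ x).injective])
  let ρ : X →* MulAut (B ⧸ R) := MonoidHom.mk' (fun x => QuotientGroup.congr R R (σ x) (hR x))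
    fun x y => by
      ext q
      obtain ⟨b, rfl⟩ := QuotientGroup.mk_surjective q
      show (QuotientGroup.congr R R (σ (x * y)) (hR _)) (b : B ⧸ R) = (QuotientGroup.congr R R (σ x) (hR _)) ((QuotientGroup.congr R R (σ y) (hR _)) (b : B ⧸ R))
      simp only [QuotientGroup.congr_mk, map_mul, MulAut.mul_apply]
      rfl
  let K : Subgroup (B ⧸ R) := ((powMonoidHom (p ^ e) : B →* B).ker).map (QuotientGroup.mk' R)
  have hQ : ∀ q : B ⧸ R, q ^ p = 1 := fun q => by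
    obtain ⟨b, rfl⟩ := QuotientGroup.mk_surjective q
    rw [← QuotientGroup.mk_pow, QuotientGroup.eq_one_iff]
    exact ⟨b, rfl⟩
  obtain ⟨C₀, hC₀, hC₀'⟩ := CfsgLib.PGroup.exists_complement_of_free (p := p) (e := 0)
    (fun q : B ⧸ R => by rw [zero_add, pow_one]; exact hQ q) K (fun k _ hk => ⟨1, one_mem _, by
      rw [pow_zero, pow_one] at hk
      rw [one_pow, hk]⟩)
  obtain ⟨C, hCi, hCK, hCT⟩ := CfsgLib.PGroup.exists_invariant_complement ρ
    (Nat.Coprime.coprime_dvd_right (Monoid.exponent_dvd_of_forall_pow_eq_one hQ) hX) K (by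
      rintro x _ ⟨b, hb, rfl⟩
      refine ⟨σ x b, ?_, rfl⟩
      have hb' : b ^ p ^ e = 1 := hb
      show (σ x b) ^ p ^ e = 1
      rw [← map_pow, hb', map_one]) C₀ hC₀ hC₀'
  let B' : Subgroup A := (C.comap (QuotientGroup.mk' R)).map B.subtype
  have hB'eq : B' = B := by
    refine (Subgroup.map_subtype_le _).lt_or_eq.resolve_left (hmin B' ⟨?_, ?_⟩)
    · rintro x _ ⟨b, hb, rfl⟩
      exact ⟨σ x b, hCi x _ hb, rfl⟩
    · refine le_antisymm (hBU ▸ Subgroup.map_mono (Subgroup.map_subtype_le _)) ?_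
      rw [← hBU]
      rintro _ ⟨b, hb, rfl⟩
      obtain ⟨k, ⟨k', hk', rfl⟩, c, hc, hkc⟩ := Subgroup.mem_sup.1 (hCT.ge (Subgroup.mem_top (QuotientGroup.mk' R ⟨b, hb⟩)))
      refine ⟨((k'⁻¹ * ⟨b, hb⟩ : B) : A), ⟨k'⁻¹ * ⟨b, hb⟩, ?_, rfl⟩, ?_⟩
      · show QuotientGroup.mk' R (k'⁻¹ * ⟨b, hb⟩) ∈ C
        rw [map_mul, map_inv, ← hkc, inv_mul_cancel_left]
        exact hc
      · have hk'' : (k' : A) ^ p ^ e = 1 := by
          have := congrArg Subtype.val (show k' ^ p ^ e = 1 from hk')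
          simpa using this
        simp [mul_pow, hk'']
  have hpow : ∀ b ∈ B, b ^ p ^ e = 1 → ∃ b₀ ∈ B, b₀ ^ p = b := by
    intro b hb hbe
    have h1 : QuotientGroup.mk' R ⟨b, hb⟩ ∈ K ⊓ C := by
      refine ⟨⟨⟨b, hb⟩, Subtype.ext (by simpa using hbe), rfl⟩, ?_⟩
      obtain ⟨d, hd, hdb⟩ := hB'eq.ge hb
      rwa [← (Subtype.ext hdb : d = ⟨b, hb⟩)]
    rw [hCK, Subgroup.mem_bot, QuotientGroup.mk'_apply, QuotientGroup.eq_one_iff] at h1
    obtain ⟨b₀, hb₀⟩ := h1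
    exact ⟨b₀, b₀.2, by simpa using congrArg Subtype.val hb₀⟩
  obtain ⟨D₀, hD₀, hD₀'⟩ := CfsgLib.PGroup.exists_complement_of_free hexp B hpow
  obtain ⟨D, hDi, hBD, hBDT⟩ := CfsgLib.PGroup.exists_invariant_complement X.subtype
    ((hX.pow_right (e + 1)).coprime_dvd_right (Monoid.exponent_dvd_of_forall_pow_eq_one hexp)) B hBi D₀ hD₀ hD₀'
  have hBb : B ≠ ⊥ := by
    intro h
    rw [h, Subgroup.map_bot] at hBU
    exact hUb hBU.symm
  have hD : D = ⊥ := by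
    by_contra h
    exact h1 ⟨B, D, hBb, h, map_of_inv hBi, map_of_inv hDi, hBD, hBDT⟩
  rw [hD, sup_bot_eq] at hBDT
  subst hBDT
  refine ⟨by rw [MonoidHom.range_eq_map, hBU], fun a ha => ?_⟩
  obtain ⟨b, -, hb⟩ := hpow a (Subgroup.mem_top a) ha
  exact ⟨b, hb⟩

/-- Let A be a finite abelian p-group and X a group of automorphisms of A of order prime to p. Call a subgroup of A invariant when every element of X maps it onto itself. Then the following are equivalent: (i) A is not the direct product of two nontrivial invariant subgroups; (ii) every invariant subgroup of A is one of the subgroups Ω_i(A) = {a : a^(p^i) = 1}; (iii) the subgroup Ω₁(A) of elements of order dividing p has no invariant subgroups other than 1 and itself. -/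
theorem result {A : Type*} [CommGroup A] [Finite A] {p : ℕ} [Fact p.Prime] (hA : IsPGroup p A) (X : Subgroup (MulAut A)) (hX : (Nat.card X).Coprime p) : ((¬ ∃ B C : Subgroup A, B ≠ ⊥ ∧ C ≠ ⊥ ∧ (∀ x ∈ X, B.map x.toMonoidHom = B) ∧ (∀ x ∈ X, C.map x.toMonoidHom = C) ∧ B ⊓ C = ⊥ ∧ B ⊔ C = ⊤) ↔ (∀ B : Subgroup A, (∀ x ∈ X, B.map x.toMonoidHom = B) → ∃ i : ℕ, ∀ a : A, a ∈ B ↔ a ^ p ^ i = 1)) ∧ ((∀ B : Subgroup A, (∀ x ∈ X, B.map x.toMonoidHom = B) → ∃ i : ℕ, ∀ a : A, a ∈ B ↔ a ^ p ^ i = 1) ↔ (∀ B : Subgroup A, (∀ x ∈ X, B.map x.toMonoidHom = B) → (∀ b ∈ B, b ^ p = 1) → B = ⊥ ∨ ∀ a : A, a ∈ B ↔ a ^ p = 1)) := by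
  classical
  have hp : p.Prime := Fact.out
  have h21 : (∀ B : Subgroup A, (∀ x ∈ X, B.map x.toMonoidHom = B) → ∃ i : ℕ, ∀ a : A, a ∈ B ↔ a ^ p ^ i = 1) →
      ¬ ∃ B C : Subgroup A, B ≠ ⊥ ∧ C ≠ ⊥ ∧ (∀ x ∈ X, B.map x.toMonoidHom = B) ∧ (∀ x ∈ X, C.map x.toMonoidHom = C) ∧ B ⊓ C = ⊥ ∧ B ⊔ C = ⊤ := by
    rintro h ⟨B, C, hB, hC, hBi, hCi, hBC, -⟩
    obtain ⟨i, hi⟩ := h B hBi
    obtain ⟨j, hj⟩ := h C hCi
    have hz : ∀ (D : Subgroup A) (i : ℕ), D ≠ ⊥ → (∀ a : A, a ∈ D ↔ a ^ p ^ i = 1) → 0 < i := by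
      intro D i hD hi
      by_contra h0
      obtain rfl : i = 0 := by omega
      exact hD ((Subgroup.eq_bot_iff_forall _).2 fun a ha => by simpa using (hi a).1 ha)
    haveI : Nontrivial A := by
      by_contra hn
      rw [not_nontrivial_iff_subsingleton] at hn
      exact hB (Subsingleton.elim _ _)
    obtain ⟨n, hn0, hn⟩ := hA.nontrivial_iff_card.1 inferInstance
    obtain ⟨a, ha⟩ := exists_prime_orderOf_dvd_card' (G := A) p (hn ▸ dvd_pow_self p hn0.ne')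
    have hmem : ∀ (D : Subgroup A) (i : ℕ), 0 < i → (∀ a : A, a ∈ D ↔ a ^ p ^ i = 1) → a ∈ D := fun D i h0 hD =>
      (hD a).2 (orderOf_dvd_iff_pow_eq_one.1 (ha ▸ dvd_pow_self p h0.ne'))
    have : a ∈ B ⊓ C := ⟨hmem B i (hz B i hB hi) hi, hmem C j (hz C j hC hj) hj⟩
    rw [hBC, Subgroup.mem_bot] at this
    rw [this, orderOf_one] at ha
    exact hp.one_lt.ne ha
  have h23 : (∀ B : Subgroup A, (∀ x ∈ X, B.map x.toMonoidHom = B) → ∃ i : ℕ, ∀ a : A, a ∈ B ↔ a ^ p ^ i = 1) →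
      ∀ B : Subgroup A, (∀ x ∈ X, B.map x.toMonoidHom = B) → (∀ b ∈ B, b ^ p = 1) → B = ⊥ ∨ ∀ a : A, a ∈ B ↔ a ^ p = 1 := by
    intro h B hB hBp
    obtain ⟨i, hi⟩ := h B hB
    rcases Nat.eq_zero_or_pos i with rfl | h0
    · exact Or.inl ((Subgroup.eq_bot_iff_forall _).2 fun a ha => by simpa using (hi a).1 ha)
    · refine Or.inr fun a => ⟨hBp a, fun ha => (hi a).2 ?_⟩
      obtain ⟨j, rfl⟩ := Nat.exists_eq_add_of_le (show 1 ≤ i from h0)
      rw [pow_add, pow_one, pow_mul, ha, one_pow]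
  have h32 : (∀ B : Subgroup A, (∀ x ∈ X, B.map x.toMonoidHom = B) → (∀ b ∈ B, b ^ p = 1) → B = ⊥ ∨ ∀ a : A, a ∈ B ↔ a ^ p = 1) →
      ∀ B : Subgroup A, (∀ x ∈ X, B.map x.toMonoidHom = B) → ∃ i : ℕ, ∀ a : A, a ∈ B ↔ a ^ p ^ i = 1 := by
    intro h B hB
    obtain ⟨n, hn⟩ := IsPGroup.iff_card.1 hA
    have hex : ∃ i, ∀ b ∈ B, b ^ p ^ i = 1 := ⟨n, fun b _ => hn ▸ pow_card_eq_one'⟩
    set i := Nat.find hex with hi
    have hle : ∀ j, j ≤ i → ∀ a : A, a ^ p ^ j = 1 → a ∈ B := by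
      intro j
      induction j with
      | zero => intro _ a ha; rw [pow_zero, pow_one] at ha; rw [ha]; exact B.one_mem
      | succ j ih =>
        intro hj a ha
        let Ω : Subgroup A := (powMonoidHom (p ^ (j + 1)) : A →* A).ker
        let T : Subgroup A := (B ⊓ Ω).map (powMonoidHom (p ^ j))
        have hT : ∀ x ∈ X, T.map x.toMonoidHom = T := by
          refine map_of_inv fun x => ?_
          rintro _ ⟨b, ⟨hb, hb'⟩, rfl⟩
          refine ⟨(x : MulAut A) b, ⟨inv_of_map hB x b hb, ?_⟩, (map_pow (x : MulAut A) b _).symm⟩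
          show ((x : MulAut A) b) ^ p ^ (j + 1) = 1
          rw [← map_pow, show b ^ p ^ (j + 1) = 1 from hb', map_one]
        have hTp : ∀ t ∈ T, t ^ p = 1 := by
          rintro _ ⟨b, ⟨-, hb'⟩, rfl⟩
          show (b ^ p ^ j) ^ p = 1
          rw [← pow_mul, ← pow_succ]
          exact hb'
        rcases h T hT hTp with hbot | hall
        · exfalso
          obtain ⟨k, hk⟩ := Nat.exists_eq_add_of_le hj
          have hmin := Nat.find_min hex (show j + k < Nat.find hex by omega)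
          push Not at hmin
          obtain ⟨b, hb, hb1⟩ := hmin
          apply hb1
          have : (b ^ p ^ k) ^ p ^ j ∈ T := ⟨b ^ p ^ k, ⟨pow_mem hb _, by
            show (b ^ p ^ k) ^ p ^ (j + 1) = 1
            rw [← pow_mul, ← pow_add, add_comm, ← hk]
            exact Nat.find_spec hex b hb⟩, rfl⟩
          rw [hbot, Subgroup.mem_bot, ← pow_mul, ← pow_add, add_comm] at this
          exact this
        · obtain ⟨b, ⟨hb, -⟩, hba⟩ := (hall (a ^ p ^ j)).2 (by rw [← pow_mul, ← pow_succ]; exact ha)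
          have h3 : a * b⁻¹ ∈ B := ih (by omega) _ (by
            rw [mul_pow, inv_pow, show b ^ p ^ j = a ^ p ^ j from hba, mul_inv_cancel])
          simpa using B.mul_mem h3 hb
    exact ⟨i, fun a => ⟨fun ha => Nat.find_spec hex a ha, hle i le_rfl a⟩⟩
  have h13 : (¬ ∃ B C : Subgroup A, B ≠ ⊥ ∧ C ≠ ⊥ ∧ (∀ x ∈ X, B.map x.toMonoidHom = B) ∧ (∀ x ∈ X, C.map x.toMonoidHom = C) ∧ B ⊓ C = ⊥ ∧ B ⊔ C = ⊤) →
      ∀ B : Subgroup A, (∀ x ∈ X, B.map x.toMonoidHom = B) → (∀ b ∈ B, b ^ p = 1) → B = ⊥ ∨ ∀ a : A, a ∈ B ↔ a ^ p = 1 := by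
    intro h1 U hUi hUp
    refine or_iff_not_imp_left.2 fun hUb => ?_
    obtain ⟨n, hn⟩ := IsPGroup.iff_card.1 hA
    have hex : ∃ i, ∀ a : A, a ^ p ^ i = 1 := ⟨n, fun a => hn ▸ pow_card_eq_one'⟩
    have h0 : Nat.find hex ≠ 0 := fun h0 => hUb ((Subgroup.eq_bot_iff_forall _).2 fun a _ => by
      have := Nat.find_spec hex a
      rwa [h0, pow_zero, pow_one] at this)
    obtain ⟨e, he⟩ := Nat.exists_eq_succ_of_ne_zero h0
    have hexp : ∀ a : A, a ^ p ^ (e + 1) = 1 := fun a => by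
      have := Nat.find_spec hex a
      rwa [he] at this
    have hVb : (powMonoidHom (p ^ e) : A →* A).range ≠ ⊥ := by
      intro h
      apply Nat.find_min hex (show e < Nat.find hex by omega)
      exact fun a => Subgroup.mem_bot.1 (h ▸ (⟨a, rfl⟩ : a ^ p ^ e ∈ (powMonoidHom (p ^ e) : A →* A).range))
    have hVi : ∀ x : X, ∀ b ∈ (powMonoidHom (p ^ e) : A →* A).range, (x : MulAut A) b ∈ (powMonoidHom (p ^ e) : A →* A).range := by
      rintro x _ ⟨b, rfl⟩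
      exact ⟨(x : MulAut A) b, (map_pow (x : MulAut A) b _).symm⟩
    have hroot := (indecomposable_step hX h1 hexp _ le_rfl hVi hVb).2
    have hlift : ∀ k, k ≤ e → ∀ a : A, a ^ p = 1 → ∃ b, b ^ p ^ k = a := by
      intro k
      induction k with
      | zero => exact fun _ a _ => ⟨a, by simp⟩
      | succ k ih =>
        intro hk a ha
        obtain ⟨b, hb⟩ := ih (by omega) a ha
        have hb1 : b ^ p ^ e = 1 := by
          obtain ⟨m, hm⟩ := Nat.exists_eq_add_of_le (show k + 1 ≤ e from hk)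
          rw [hm, pow_add, pow_mul, pow_succ, pow_mul, hb, ha, one_pow]
        obtain ⟨c, hc⟩ := hroot b hb1
        exact ⟨c, by rw [pow_succ', pow_mul, hc, hb]⟩
    have hUV : U ≤ (powMonoidHom (p ^ e) : A →* A).range := fun a ha => hlift e le_rfl a (hUp a ha)
    have hVU := (indecomposable_step hX h1 hexp U hUV (inv_of_map hUi) hUb).1
    exact fun a => ⟨hUp a, fun ha => hVU.le (hlift e le_rfl a ha)⟩
  exact ⟨⟨fun h => h32 (h13 h), h21⟩, ⟨h23, h32⟩⟩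

end Cfsg.Agent.S3775
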