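import Cfsg.Statements.S3776
import Cfsg.Agent.Lib.PGroup.Suzuki.Structure

set_option autoImplicit false
open Cfsg

namespace Cfsg.Agent.S3776

/-- Let G be a finite non-abelian 2-group with more than one involution admitting a solvable group of automorphisms that permutes its involutions transitively. Then the derived subgroup, the Frattini subgroup and the centre of G coincide and consist exactly of the elements x with x² = 1. -/
theorem result {G : Type*} [Group G] [Finite G] (hG : IsPGroup 2 G) (hna : ¬ IsMulCommutative G) (htwo : ∃ x y : G, x ≠ y ∧ x ≠ 1 ∧ x ^ 2 = 1 ∧ y ≠ 1 ∧ y ^ 2 = 1) (hY : ∃ Y : Subgroup (MulAut G), Group.IsSolvable Y ∧ ∀ x y : G, x ≠ 1 → x ^ 2 = 1 → y ≠ 1 → y ^ 2 = 1 → ∃ a ∈ Y, a x = y) : commutator G = frattini G ∧ frattini G = Subgroup.center G ∧ ∀ x : G, x ∈ Subgroup.center G ↔ x ^ 2 = 1 := by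
  obtain ⟨Y, hsol, htr⟩ := hY
  obtain ⟨φ, ⟨c⟩⟩ := CfsgLib.PGroup.SuzukiExp.exists_ctx hG htwo Y hsol htr
  obtain ⟨h1, h2, h3, -⟩ := c.special fun h => hna ⟨⟨h⟩⟩
  exact ⟨h1, h2, h3⟩

end Cfsg.Agent.S3776
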