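import Cfsg.Statements.S3778
import Cfsg.Agent.Lib.Transfer.MaximalClass

set_option autoImplicit false
open Cfsg

namespace Cfsg.Agent.S3778

open scoped commutatorElement

theorem breadth_bound {G : Type*} [Group G] [Finite G] {p : ℕ} [Fact p.Prime] (hG : IsPGroup p G) (b : ℕ)
    (hb0 : b ≠ 0) (hb : ∀ x : G, (Subgroup.centralizer ({x} : Set G)).index ≤ p ^ b) [Group.IsNilpotent G] :
    (Group.nilpotencyClass G - 1) * (p - 1) < b * p := by
  classical
  haveI := Fintype.ofFinite G
  have hp : p.Prime := Fact.out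
  let c := Group.nilpotencyClass G
  let γ : ℕ → Subgroup G := fun i => (⊤ : Subgroup G).lowerCentralSeries i
  haveI hγn : ∀ i, (γ i).Normal := fun i => inferInstanceAs ((⊤ : Subgroup G).lowerCentralSeries i).Normal
  let C : ℕ → Subgroup G := fun i => (Subgroup.centralizer
    (((γ i).map (QuotientGroup.mk' (γ (i + 2))) : Subgroup (G ⧸ γ (i + 2))) : Set (G ⧸ γ (i + 2)))).comap
      (QuotientGroup.mk' (γ (i + 2)))
  have hmem : ∀ i x, x ∈ C i ↔ ∀ y ∈ γ i, ⁅y, x⁆ ∈ γ (i + 2) := by
    intro i x
    simp only [C, Subgroup.mem_comap, Subgroup.mem_centralizer_iff, Subgroup.coe_map, Set.forall_mem_image, SetLike.mem_coe]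
    refine forall₂_congr fun y _ => ?_
    rw [← commutatorElement_eq_one_iff_mul_comm, ← map_commutatorElement, QuotientGroup.mk'_apply, QuotientGroup.eq_one_iff]
  have hstab : ∀ i, γ i ≤ γ (i + 1) → γ i = ⊥ := by
    intro i hi
    have hall : ∀ n, γ i ≤ γ (i + n) := by
      intro n
      induction n with
      | zero => exact le_rfl
      | succ n ih =>
        refine hi.trans ?_
        show (⊤ : Subgroup G).lowerCentralSeries (i + 1) ≤ (⊤ : Subgroup G).lowerCentralSeries (i + n + 1)
        rw [Subgroup.lowerCentralSeries_succ, Subgroup.lowerCentralSeries_succ]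
        exact Subgroup.commutator_mono ih le_rfl
    have h1 := hall c
    have h2 : γ (i + c) = ⊥ := Subgroup.lowerCentralSeries_eq_bot_iff_nilpotencyClass_le.2 (by omega)
    exact le_bot_iff.1 (h2 ▸ h1)
  have hproper : ∀ i, i + 2 ≤ c → C i ≠ ⊤ := by
    intro i hi htop
    have h1 : γ (i + 1) ≤ γ (i + 2) := by
      show (⊤ : Subgroup G).lowerCentralSeries (i + 1) ≤ _
      rw [Subgroup.lowerCentralSeries_succ, Subgroup.commutator_le]
      exact fun y hy x _ => (hmem i x).1 (htop ▸ Subgroup.mem_top x) y hy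
    have h2 := Subgroup.lowerCentralSeries_eq_bot_iff_nilpotencyClass_le.1 (hstab (i + 1) h1)
    omega
  let S : G → Finset ℕ := fun x => (Finset.range (c - 1)).filter fun i => x ∉ C i
  have hS : ∀ x, (S x).card ≤ b := by
    intro x
    let Z := Subgroup.centralizer ({x} : Set G)
    let E : ℕ → Subgroup G := fun i => γ i ⊔ Z
    have hEanti : ∀ i, E (i + 1) ≤ E i := fun i => sup_le_sup_right
      (Subgroup.lowerCentralSeries_antitone (⊤ : Subgroup G) (Nat.le_succ i)) _
    have hstrict : ∀ i, x ∉ C i → E (i + 1) < E i := by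
      intro i hx
      refine lt_of_le_of_ne (hEanti i) fun heq => hx ((hmem i x).2 fun y hy => ?_)
      have hyE : y ∈ E (i + 1) := heq ▸ Subgroup.mem_sup_left hy
      rw [← SetLike.mem_coe, Subgroup.normal_mul] at hyE
      obtain ⟨z, hz, w, hw, rfl⟩ := hyE
      show ⁅z * w, x⁆ ∈ γ (i + 2)
      rw [show ⁅z * w, x⁆ = z * ⁅w, x⁆ * z⁻¹ * ⁅z, x⁆ by simp [commutatorElement_def, mul_assoc]]
      have hwx : ⁅w, x⁆ = 1 := commutatorElement_eq_one_iff_mul_comm.2 (Subgroup.mem_centralizer_singleton_iff.1 hw)
      rw [hwx, mul_one, mul_inv_cancel, one_mul]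
      exact Subgroup.commutator_mem_commutator hz (Subgroup.mem_top x)
    have hchain : ∀ i, p ^ ((Finset.range i).filter fun j => x ∉ C j).card * Nat.card (E i) ≤ Nat.card G := by
      intro i
      induction i with
      | zero => simpa using Subgroup.card_le_card_group (E 0)
      | succ i ih =>
        rw [Finset.range_add_one, Finset.filter_insert]
        by_cases hx : x ∈ C i
        · rw [if_neg (not_not.2 hx)]
          exact (Nat.mul_le_mul_left _ (Subgroup.card_le_of_le (hEanti i))).trans ih
        · rw [if_pos hx, Finset.card_insert_of_notMem (by simp), pow_succ, mul_assoc]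
          exact (Nat.mul_le_mul_left _ (CfsgLib.Transfer.prime_mul_card_le hG (hstrict i hx))).trans ih
    have h1 := (Nat.mul_le_mul_left _ (Subgroup.card_le_of_le (le_sup_right : Z ≤ E (c - 1)))).trans (hchain (c - 1))
    rw [← Z.card_mul_index, mul_comm (Nat.card Z)] at h1
    exact (Nat.pow_le_pow_iff_right hp.one_lt).1 ((Nat.le_of_mul_le_mul_right h1 Nat.card_pos).trans (hb x))
  have h1S : S 1 = ∅ := Finset.filter_eq_empty_iff.2 fun i _ => not_not.2 (C i).one_mem
  have hsum : ∑ x : G, (S x).card = ∑ i ∈ Finset.range (c - 1), (Finset.univ.filter fun x => x ∉ C i).card := by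
    simp only [S, Finset.card_filter]
    exact Finset.sum_comm
  have hlow : (c - 1) * ((p - 1) * Nat.card G) ≤ p * ∑ x : G, (S x).card := by
    rw [hsum, Finset.mul_sum]
    refine le_trans (le_of_eq ?_) (Finset.card_nsmul_le_sum _ _ ((p - 1) * Nat.card G) fun i hi => ?_)
    · rw [Finset.card_range, smul_eq_mul]
    · rw [Finset.mem_range] at hi
      have hlt : C i < ⊤ := lt_top_iff_ne_top.2 (hproper i (by omega))
      have h2 := CfsgLib.Transfer.prime_mul_card_le hG hlt
      rw [Subgroup.card_top] at h2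
      have h3 : (Finset.univ.filter fun x => x ∉ C i).card + Nat.card (C i) = Nat.card G := by
        rw [Nat.card_eq_fintype_card, Nat.card_eq_fintype_card, Fintype.card_subtype, add_comm,
          Finset.card_filter_add_card_filter_not, Finset.card_univ]
      rw [← h3] at h2 ⊢
      rw [Nat.sub_mul, one_mul, mul_add]
      omega
  have hhi : ∑ x : G, (S x).card < b * Nat.card G := by
    rw [Nat.card_eq_fintype_card, ← Finset.card_univ, mul_comm, ← smul_eq_mul, ← Finset.sum_const]
    exact Finset.sum_lt_sum (fun x _ => hS x) ⟨1, Finset.mem_univ _, by rw [h1S, Finset.card_empty]; exact Nat.pos_of_ne_zero hb0⟩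
  have hfin : (c - 1) * (p - 1) * Nat.card G < b * p * Nat.card G := by
    calc (c - 1) * (p - 1) * Nat.card G ≤ p * ∑ x : G, (S x).card := by rw [mul_assoc]; exact hlow
      _ < p * (b * Nat.card G) := (Nat.mul_lt_mul_left hp.pos).2 hhi
      _ = b * p * Nat.card G := by ring
  exact Nat.lt_of_mul_lt_mul_right hfin

/-- If G is a finite p-group in which every conjugacy class has at most p^b elements (every element has centralizer of index at most p^b), then G is abelian when b = 0, and when b ≥ 1 its nilpotency class c satisfies (c − 1)(p − 1) < bp, that is c < bp/(p − 1) + 1, and hence c ≤ 2b. -/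
theorem result {G : Type*} [Group G] [Finite G] {p : ℕ} [Fact p.Prime] (hG : IsPGroup p G) (b : ℕ) (hb : ∀ x : G, (Subgroup.centralizer ({x} : Set G)).index ≤ p ^ b) : ∃ c : ℕ, (⊤ : Subgroup G).lowerCentralSeries c = ⊥ ∧ (b ≠ 0 → (c - 1) * (p - 1) < b * p ∧ c ≤ 2 * b) ∧ (b = 0 → c ≤ 1) := by
  classical
  haveI := hG.isNilpotent
  refine ⟨Group.nilpotencyClass G, Subgroup.lowerCentralSeries_eq_bot_iff_nilpotencyClass_le.2 le_rfl, fun hb0 => ?_, fun hb0 => ?_⟩
  · have h := breadth_bound hG b hb0 hb
    refine ⟨h, ?_⟩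
    by_contra hc
    have hp2 : 2 ≤ p := (Fact.out : p.Prime).two_le
    have h1 : 2 * b * (p - 1) ≤ (Group.nilpotencyClass G - 1) * (p - 1) := Nat.mul_le_mul_right _ (by omega)
    have h2 : b * p ≤ 2 * b * (p - 1) := by
      rw [mul_assoc, mul_left_comm]
      exact Nat.mul_le_mul_left b (by omega)
    omega
  · subst hb0
    refine Subgroup.lowerCentralSeries_eq_bot_iff_nilpotencyClass_le.1 ?_
    rw [Subgroup.top_lowerCentralSeries_one, commutator_def, Subgroup.commutator_eq_bot_iff_le_centralizer]
    intro y _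
    rw [Subgroup.mem_centralizer_iff]
    intro x _
    have h1 := hb y
    rw [pow_zero] at h1
    have h2 : Subgroup.centralizer ({y} : Set G) = ⊤ := Subgroup.index_eq_one.1 (le_antisymm h1 (Nat.one_le_iff_ne_zero.2 Subgroup.index_ne_zero_of_finite))
    exact Subgroup.mem_centralizer_singleton_iff.1 (h2 ▸ Subgroup.mem_top x)

end Cfsg.Agent.S3778
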