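import Cfsg.Statements.S3779
import Cfsg.Agent.Lib.PGroup.GradedLieRing
import Cfsg.Agent.Lib.FGS.ThompsonKernel
import Mathlib.GroupTheory.SpecificGroups.Cyclic

set_option autoImplicit false
open Cfsg

namespace Cfsg.Agent.S3779

open Subgroup CfsgLib.PGroup.Kreknin
open scoped commutatorElement

universe u

section Conv

variable {M : Type u} [AddCommGroup M] {p : ℕ} [NeZero p]

/-- Convolution. -/
noncomputable def conv (β : Bracket M) : (ZMod p → M) →+ (ZMod p → M) →+ (ZMod p → M) where
  toFun f :=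
    { toFun := fun g k => ∑ i : ZMod p, β.B (f i) (g (k - i))
      map_zero' := by funext k; simp
      map_add' := fun g g' => by funext k; simp [Finset.sum_add_distrib] }
  map_zero' := by ext g k; simp
  map_add' f f' := by ext g k; simp [Finset.sum_add_distrib]

theorem conv_apply (β : Bracket M) (f g : ZMod p → M) (k : ZMod p) :
    conv β f g k = ∑ i : ZMod p, β.B (f i) (g (k - i)) := rfl

theorem conv_skew (β : Bracket M) (f g : ZMod p → M) : conv β f g = - conv β g f := by
  funext k
  rw [Pi.neg_apply, conv_apply, conv_apply, ← Finset.sum_neg_distrib]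
  refine Fintype.sum_equiv (Equiv.subLeft k) _ _ fun i => ?_
  rw [Equiv.subLeft_apply, sub_sub_cancel]
  exact β.skew _ _

theorem conv_conv (β : Bracket M) (f g h : ZMod p → M) (k : ZMod p) :
    conv β (conv β f g) h k = ∑ a : ZMod p, ∑ b : ZMod p, β.B (β.B (f a) (g b)) (h (k - a - b)) := by
  rw [conv_apply]
  simp only [conv_apply, map_sum, AddMonoidHom.finsetSum_apply]
  rw [Finset.sum_comm]
  refine Finset.sum_congr rfl fun a _ => ?_
  refine Fintype.sum_equiv (Equiv.subRight a) _ _ fun i => ?_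
  rw [Equiv.subRight_apply, sub_sub, add_sub_cancel]

theorem conv_jac (β : Bracket M) (f g h : ZMod p → M) :
    conv β (conv β f g) h + conv β (conv β g h) f + conv β (conv β h f) g = 0 := by
  funext k
  rw [Pi.add_apply, Pi.add_apply, Pi.zero_apply, conv_conv, conv_conv, conv_conv]
  have e2 : ∑ b : ZMod p, ∑ c : ZMod p, β.B (β.B (g b) (h c)) (f (k - b - c)) =
      ∑ a : ZMod p, ∑ b : ZMod p, β.B (β.B (g b) (h (k - a - b))) (f a) := by
    rw [Finset.sum_comm (f := fun a b => β.B (β.B (g b) (h (k - a - b))) (f a))]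
    refine Finset.sum_congr rfl fun b _ => ?_
    refine Fintype.sum_equiv (Equiv.subLeft (k - b)) _ _ fun c => ?_
    rw [Equiv.subLeft_apply, show k - (k - b - c) - b = c by abel]
  have e3 : ∑ c : ZMod p, ∑ a : ZMod p, β.B (β.B (h c) (f a)) (g (k - c - a)) =
      ∑ a : ZMod p, ∑ b : ZMod p, β.B (β.B (h (k - a - b)) (f a)) (g b) := by
    rw [Finset.sum_comm]
    refine Finset.sum_congr rfl fun a _ => ?_
    refine Fintype.sum_equiv (Equiv.subLeft (k - a)) _ _ fun c => ?_
    rw [Equiv.subLeft_apply, show k - a - (k - a - c) = c by abel, show k - c - a = k - a - c by abel]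
  rw [e2, e3, ← Finset.sum_add_distrib, ← Finset.sum_add_distrib]
  refine Finset.sum_eq_zero fun a _ => ?_
  rw [← Finset.sum_add_distrib, ← Finset.sum_add_distrib]
  exact Finset.sum_eq_zero fun b _ => β.jac _ _ _

/-- The convolution bracket. -/
noncomputable def convB (β : Bracket M) : Bracket (ZMod p → M) := ⟨conv β, conv_skew β, conv_jac β⟩

/-- The eigen component of degree `j`. -/
noncomputable def eigen (A : M →+ M) : Fam (ZMod p → M) p := fun j =>
  { carrier := {f | ∑ k, f k = 0 ∧ ∀ k, A (f k) = f (k - j)}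
    zero_mem' := ⟨by simp, fun k => by simp⟩
    add_mem' := fun {f g} hf hg => ⟨by simp [Finset.sum_add_distrib, hf.1, hg.1], fun k => by simp [hf.2 k, hg.2 k]⟩
    neg_mem' := fun {f} hf => ⟨by simp [hf.1], fun k => by simp [hf.2 k]⟩ }

theorem eigen_closed (β : Bracket M) (A : M →+ M) (hA : ∀ u v, A (β.B u v) = β.B (A u) (A v)) :
    br (convB β) (eigen (p := p) A) (eigen A) ≤ eigen A := by
  refine br_le _ fun a b f hf g hg => ⟨?_, fun k => ?_⟩
  · show ∑ k, conv β f g k = 0
    simp only [conv_apply]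
    rw [Finset.sum_comm]
    refine Finset.sum_eq_zero fun i _ => ?_
    rw [← map_sum, Fintype.sum_equiv (Equiv.subRight i) (fun x => g (x - i)) g fun x => rfl, hg.1, map_zero]
  · show A (conv β f g k) = conv β f g (k - (a + b))
    simp only [conv_apply, map_sum, hA, hf.2, hg.2]
    refine Fintype.sum_equiv (Equiv.subRight a) _ _ fun i => ?_
    rw [Equiv.subRight_apply, show k - (a + b) - (i - a) = k - i - b by abel]

/-- `p δ v - v`. -/
noncomputable def uu : M →+ (ZMod p → M) where
  toFun v := fun k => (if k = 0 then p • v else 0) - v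
  map_zero' := by funext k; simp
  map_add' v w := by funext k; simp only [Pi.add_apply, smul_add]; split_ifs <;> abel

theorem conv_uu (β : Bracket M) (v w : M) : conv β (uu (p := p) v) (uu w) = p • uu (β.B v w) := by
  funext k
  simp only [conv_apply, uu, AddMonoidHom.coe_mk, ZeroHom.coe_mk, Pi.smul_apply, map_sub,
    AddMonoidHom.sub_apply, Finset.sum_sub_distrib]
  simp only [apply_ite (fun x : M => (β.B v) x), apply_ite (fun x : M →+ M => x w), apply_ite β.B, map_zero,
    AddMonoidHom.zero_apply, map_nsmul, AddMonoidHom.smul_apply]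
  simp [sub_eq_zero, Finset.sum_ite_eq, Finset.sum_ite_eq', smul_sub, ite_apply, apply_ite, smul_ite]

theorem p_nsmul_uu_mem [Fact p.Prime] (A : M →+ M) (hAp : ∀ v, A^[p] v = v) (v : M) :
    p • uu (p := p) v ∈ ⨆ j, eigen (p := p) A j := by
  have hsum0 : ∑ k : ZMod p, uu (p := p) v k = 0 := by
    simp [uu, Finset.sum_sub_distrib]
  have hh : ∀ (n : ℕ) (F : ZMod p → M), A^[n] (∑ k, F k) = ∑ k, A^[n] (F k) := by
    intro n
    induction n with
    | zero => intro F; simp
    | succ n ihn => intro F; simp only [Function.iterate_succ_apply', ihn, map_sum]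
  let w : ZMod p → ZMod p → M := fun j k => ∑ i ∈ Finset.range p, A^[i] (uu v (k + j * (i : ZMod p)))
  have hw : ∀ j, w j ∈ eigen A j := by
    intro j
    refine ⟨?_, fun k => ?_⟩
    · simp only [w]
      rw [Finset.sum_comm]
      refine Finset.sum_eq_zero fun i _ => ?_
      rw [← hh, Fintype.sum_equiv (Equiv.addRight (j * (i : ZMod p))) (fun k => uu (p := p) v (k + j * (i : ZMod p)))
        (uu (p := p) v) fun x => rfl, hsum0, iterate_map_zero]
    · simp only [w, map_sum]
      set F : ℕ → M := fun i => A^[i] (uu v (k - j + j * (i : ZMod p))) with hF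
      have h1 : ∀ i, A (A^[i] (uu v (k + j * (i : ZMod p)))) = F (i + 1) := fun i => by
        simp only [hF, Function.iterate_succ_apply']
        congr 3
        push_cast; ring
      rw [Finset.sum_congr rfl fun i _ => h1 i]
      obtain ⟨m, hm⟩ : ∃ m, p = m + 1 := ⟨p - 1, by have := NeZero.pos p; omega⟩
      have hper : F (m + 1) = F 0 := by
        simp only [hF, ← hm, hAp, ZMod.natCast_self, Nat.cast_zero, mul_zero, add_zero, Function.iterate_zero, id_eq]
      show _ = ∑ i ∈ Finset.range p, F i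
      rw [show Finset.range p = Finset.range (m + 1) by rw [hm], Finset.sum_range_succ,
        Finset.sum_range_succ' F, hper]
  have hsum : ∑ j, w j = p • uu v := by
    funext k
    rw [Finset.sum_apply, Pi.smul_apply]
    simp only [w]
    rw [Finset.sum_comm]
    rw [Finset.sum_eq_single 0]
    · simp [Finset.sum_const, ZMod.card]
    · intro i hi hi0
      rw [Finset.mem_range] at hi
      rw [← hh]
      suffices hbij : Function.Bijective fun j : ZMod p => k + j * (i : ZMod p) by
        rw [hbij.sum_comp (uu (p := p) v), hsum0, iterate_map_zero]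
      have hne : (i : ZMod p) ≠ 0 := fun h => hi0 (Nat.eq_zero_of_dvd_of_lt ((ZMod.natCast_eq_zero_iff i p).1 h) hi)
      exact (Equiv.addLeft k).bijective.comp (mulRight_bijective₀ _ hne)
    · intro h; exact absurd (Finset.mem_range.2 (NeZero.pos p)) h
  rw [← hsum]
  exact sum_mem fun j _ => AddSubgroup.mem_iSup_of_mem j (hw j)

end Conv

section ClassBound

variable {G : Type u} [Group G] [Finite G] {p : ℕ} [hp : Fact p.Prime]

theorem class_bound (α : MulAut G) (hαp : α ^ p = 1) (hfpf : ∀ g : G, α g = g → g = 1) (hnil : Group.IsNilpotent G)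
    (c : ℕ) (hc : ∀ {M : Type u} [AddCommGroup M] (β : Bracket M) (S : Fam M p), S 0 = ⊥ →
      br β S S ≤ S → lcs β S c = ⊥) : (⊤ : Subgroup G).lowerCentralSeries c = ⊥ := by
  have hcop : ¬ p ∣ Nat.card G := by
    intro hd
    haveI := Fintype.ofFinite G
    let π : Equiv.Perm G := α.toEquiv
    have hπ : ∀ (i : ℕ) (x : G), (π ^ i) x = (α ^ i) x := by
      intro i
      induction i with
      | zero => intro x; simp
      | succ i ih => intro x; rw [pow_succ, Equiv.Perm.mul_apply, ih, pow_succ, MulAut.mul_apply]; rfl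
    have hπp : π ^ p ^ 1 = 1 := Equiv.ext fun x => by rw [pow_one, hπ, hαp]; rfl
    rw [Nat.card_eq_fintype_card] at hd
    obtain ⟨b, hb, hb1⟩ := Equiv.Perm.exists_fixed_point_of_prime' hd hπp (a := 1) (map_one α)
    exact hb1 (hfpf b hb)
  have hpow : ∀ i x, α x = x → (α ^ i) x = x := fun i x hx => by
    induction i with
    | zero => simp
    | succ i ih => rw [pow_succ, MulAut.mul_apply, hx, ih]
  set A := grA α with hAdef
  set β := grBracket (G := G) with hβ
  have hit : ∀ (i : ℕ) {n : ℕ} (x : ↥(gam G n)), ∃ y : ↥(gam G n), (y : G) = (α ^ i) x ∧ A^[i] (gcl n x) = gcl n y := by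
    intro i
    induction i with
    | zero => intro n x; exact ⟨x, by simp, rfl⟩
    | succ i ih =>
      intro n x
      obtain ⟨y, hy, e⟩ := ih x
      refine ⟨⟨α y, mem_gam_map α y.2⟩, ?_, ?_⟩
      · rw [pow_succ', MulAut.mul_apply, ← hy]
      · rw [Function.iterate_succ_apply', e, hAdef, grA_gcl]
  have hAp : ∀ v, A^[p] v = v := by
    intro v
    induction v using gr_induction with
    | h0 => exact iterate_map_zero A p
    | hadd a b ha hb => rw [iterate_map_add, ha, hb]
    | hg n x =>
      obtain ⟨y, hy, e⟩ := hit p x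
      rw [e, show y = x from Subtype.ext (by rw [hy, hαp]; rfl)]
  have hgamfix : ∀ n, ∀ y : ↥(gam G n), A (gcl n y) = gcl n y → gcl n y = 0 := by
    intro n y hy
    rw [hAdef, grA_gcl] at hy
    have h1 : (y : G)⁻¹ * α y ∈ gam G (n + 1) := by
      have := (gcl_eq_zero (y⁻¹ * ⟨α (y : G), mem_gam_map α y.2⟩)).1 (by rw [gcl_mul, gcl_inv, hy, neg_add_cancel])
      exact this
    let f : ↥(gam G (n + 1)) → ↥(gam G (n + 1)) := fun t => ⟨(t : G)⁻¹ * α t, mul_mem (inv_mem t.2) (mem_gam_map α t.2)⟩
    have hf : Function.Injective f := fun a b h => Subtype.ext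
      ((CfsgLib.FGS.bijective_inv_mul_apply α hfpf).1 (congrArg Subtype.val h :))
    obtain ⟨t, ht⟩ := (Finite.injective_iff_surjective.1 hf) ⟨_, h1⟩
    have : (t : G) = y := (CfsgLib.FGS.bijective_inv_mul_apply α hfpf).1 (congrArg Subtype.val ht :)
    rw [gcl_eq_zero, ← this]
    exact t.2
  have hsumA : ∀ v, ∑ i ∈ Finset.range p, A^[i] v = 0 := by
    intro v
    induction v using gr_induction with
    | h0 => exact Finset.sum_eq_zero fun i _ => iterate_map_zero A i
    | hadd a b ha hb => simp only [iterate_map_add, Finset.sum_add_distrib, ha, hb, add_zero]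
    | hg n x =>
      have hrange : ∀ m, ∃ y : ↥(gam G n), ∑ i ∈ Finset.range m, A^[i] (gcl n x) = gcl n y := by
        intro m
        induction m with
        | zero => exact ⟨1, by rw [gcl_one]; simp⟩
        | succ m ih =>
          obtain ⟨y, hy⟩ := ih
          obtain ⟨y', -, e⟩ := hit m x
          exact ⟨y * y', by rw [Finset.sum_range_succ, hy, e, gcl_mul]⟩
      obtain ⟨y, hy⟩ := hrange p
      rw [hy]
      refine hgamfix n y ?_
      rw [← hy, map_sum]
      obtain ⟨m, hm⟩ : ∃ m, p = m + 1 := ⟨p - 1, by have := hp.out.pos; omega⟩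
      have e := hAp (gcl n x)
      rw [hm] at e
      rw [hm, Finset.sum_range_succ (fun i => A (A^[i] (gcl n x))), Finset.sum_range_succ' (fun i => A^[i] (gcl n x))]
      simp only [← Function.iterate_succ_apply' A]
      rw [e, Function.iterate_zero, id_eq]
  have htors : ∀ v : Gr G, p • v = 0 → v = 0 := by
    intro v hv
    refine DFinsupp.ext fun n => ?_
    have h1 : p • v n = 0 := (DFinsupp.smul_apply p v n).symm.trans (DFunLike.congr_fun hv n)
    refine AddMonoid.addOrderOf_eq_one_iff.1 (Nat.eq_one_of_dvd_coprimes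
      (hp.out.coprime_iff_not_dvd.2 hcop) (addOrderOf_dvd_iff_nsmul_eq_zero.2 h1) ?_)
    refine (addOrderOf_dvd_natCard (v n)).trans ?_
    rw [show Nat.card (Factor G n) = Nat.card (FactorM G n) from rfl]
    exact (Subgroup.card_quotient_dvd_card _).trans (Subgroup.card_subgroup_dvd_card _)
  have htorse : ∀ (e : ℕ) (v : Gr G), p ^ e • v = 0 → v = 0 := by
    intro e
    induction e with
    | zero => intro v h; simpa using h
    | succ e ih => intro v h; exact htors v (ih _ (by rwa [pow_succ, mul_nsmul'] at h))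
  set S : Fam (ZMod p → Gr G) p := eigen A with hS
  have h0 : S 0 = ⊥ := by
    refine le_bot_iff.1 fun f hf => AddSubgroup.mem_bot.2 (funext fun k => ?_)
    have hfx : A (f k) = f k := by rw [hf.2 k, sub_zero]
    have := hsumA (f k)
    rw [Finset.sum_congr rfl fun i _ => Function.iterate_fixed hfx i, Finset.sum_const, Finset.card_range] at this
    exact htors _ this
  have hSc : br (convB β) S S ≤ S := eigen_closed β A (grA_B α)
  have hstep : ∀ m, ∀ F ∈ ⨆ j, lcs (convB β) S m j, ∀ F' ∈ ⨆ j, S j,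
      conv β F F' ∈ ⨆ j, lcs (convB β) S (m + 1) j := by
    intro m F hF F' hF'
    induction hF using AddSubgroup.iSup_induction' with
    | hp i x hx =>
      induction hF' using AddSubgroup.iSup_induction' with
      | hp j y hy => exact AddSubgroup.mem_iSup_of_mem (i + j) (mem_br (convB β) hx hy)
      | h1 => rw [map_zero]; exact zero_mem _
      | hadd a b _ _ ha hb => rw [map_add]; exact add_mem ha hb
    | h1 => rw [map_zero, AddMonoidHom.zero_apply]; exact zero_mem _
    | hadd a b _ _ ha hb => rw [map_add, AddMonoidHom.add_apply]; exact add_mem ha hb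
  have key : ∀ m, ∀ x : ↥(gam G m), ∃ e, p ^ e • uu (p := p) (gcl m x) ∈ ⨆ j, lcs (convB β) S m j := by
    intro m
    induction m with
    | zero => intro x; exact ⟨1, by rw [pow_one]; exact p_nsmul_uu_mem A hAp _⟩
    | succ m ih =>
      intro x
      refine closure_induction (p := fun g hg => ∃ e, p ^ e • uu (p := p) (gcl (m + 1) ⟨g, hg⟩) ∈
        ⨆ j, lcs (convB β) S (m + 1) j) ?_ ?_ ?_ ?_ x.2
      · rintro _ ⟨a, ha, g, -, rfl⟩
        obtain ⟨e, he⟩ := ih ⟨a, ha⟩
        refine ⟨e + 1 + 1, ?_⟩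
        have h2 := hstep m _ he _ (p_nsmul_uu_mem (p := p) A hAp (gcl 0 (⟨g, (mem_top g : g ∈ gam G 0)⟩ : ↥(gam G 0))))
        rw [map_nsmul, map_nsmul, AddMonoidHom.smul_apply, conv_uu, ← mul_nsmul', ← mul_nsmul'] at h2
        have e3 : β.B (gcl m ⟨a, ha⟩) (gcl 0 (⟨g, (mem_top g : g ∈ gam G 0)⟩ : ↥(gam G 0))) =
            gcl (m + 1) ⟨⁅a, g⁆, commutator_mem_commutator ha (mem_top g)⟩ := by
          show grB _ _ = _
          rw [grB_gcl]
          exact gcl_congr rfl rfl
        rw [e3] at h2
        rw [pow_succ, pow_succ]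
        rwa [mul_comm (p ^ e) p]
      · refine ⟨0, ?_⟩
        rw [show (⟨1, _⟩ : ↥(gam G (m + 1))) = 1 from rfl, gcl_one, map_zero, smul_zero]
        exact zero_mem _
      · rintro a b ha hb ⟨e, he⟩ ⟨e', he'⟩
        refine ⟨e + e', ?_⟩
        rw [show (⟨a * b, _⟩ : ↥(gam G (m + 1))) = (⟨a, ha⟩ * ⟨b, hb⟩ : ↥(gam G (m + 1))) from rfl, gcl_mul, map_add,
          smul_add]
        refine add_mem ?_ ?_
        · rw [pow_add, mul_comm, mul_nsmul']; exact nsmul_mem he _
        · rw [pow_add, mul_nsmul']; exact nsmul_mem he' _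
      · rintro a ha ⟨e, he⟩
        refine ⟨e, ?_⟩
        rw [show (⟨a⁻¹, _⟩ : ↥(gam G (m + 1))) = (⟨a, ha⟩⁻¹ : ↥(gam G (m + 1))) from rfl, gcl_inv, map_neg, smul_neg]
        exact neg_mem he
  have hstab : gam G c ≤ gam G (c + 1) := by
    intro x hx
    obtain ⟨e, he⟩ := key c ⟨x, hx⟩
    have hbot := hc (convB β) S h0 hSc
    rw [hbot, show (⨆ j : ZMod p, (⊥ : Fam (ZMod p → Gr G) p) j) = ⊥ from iSup_bot, AddSubgroup.mem_bot] at he
    have h1 := congrFun he 1
    have hne : (1 : ZMod p) ≠ 0 := one_ne_zero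
    simp only [Pi.smul_apply, uu, AddMonoidHom.coe_mk, ZeroHom.coe_mk, if_neg hne, zero_sub, smul_neg,
      Pi.zero_apply, neg_eq_zero] at h1
    exact (gcl_eq_zero _).1 (htorse e _ h1)
  obtain ⟨n, hn⟩ := Subgroup.nilpotent_iff_lowerCentralSeries.1 hnil
  have hall : ∀ j, gam G c ≤ gam G (c + j) := by
    intro j
    induction j with
    | zero => exact le_rfl
    | succ j ih =>
      refine hstab.trans ?_
      show ⁅gam G c, ⊤⁆ ≤ ⁅gam G (c + j), ⊤⁆
      exact commutator_mono ih le_rfl
  refine le_bot_iff.1 ((hall n).trans ?_)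
  rw [← hn]
  exact Subgroup.lowerCentralSeries_antitone (⊤ : Subgroup G) (Nat.le_add_left n c)

end ClassBound

/-- Let G be a finite group with an automorphism of prime order p fixing only the identity. Then G is nilpotent; if p = 2 then G is abelian, if p = 3 then G has class at most 2, and in general the class of G is at most ξ = 1 + (p−1) + (p−1)² + ⋯ + (p−1)^(n−1) with n = 2^(p−1) − 1 (the Higman–Kreknin–Kostrikin bound). -/
theorem result {G : Type*} [Group G] [Finite G] {p : ℕ} (hp : p.Prime) (α : MulAut G) (hα : orderOf α = p) (hfpf : ∀ g : G, α g = g → g = 1) : (p = 2 → (⊤ : Subgroup G).lowerCentralSeries 1 = ⊥) ∧ (p = 3 → (⊤ : Subgroup G).lowerCentralSeries 2 = ⊥) ∧ (⊤ : Subgroup G).lowerCentralSeries (Finset.sum (Finset.range (2 ^ (p - 1) - 1)) (fun i => (p - 1) ^ i)) = ⊥ := by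
  haveI := Fact.mk hp
  have hαp : α ^ p = 1 := hα ▸ pow_orderOf_eq_one α
  have hnil : Group.IsNilpotent G := CfsgLib.FGS.isNilpotent_of_fpf_prime hp α hfpf hαp
  refine ⟨fun h2 => ?_, fun h3 => ?_, ?_⟩
  · exact class_bound α hαp hfpf hnil 1 fun β S h0 hS => lcs_one β h2 h0 hS
  · exact class_bound α hαp hfpf hnil 2 fun β S h0 hS => lcs_two β h3 h0 hS
  · exact class_bound α hαp hfpf hnil _ fun β S h0 hS => lcs_eq_bot_of_der β _ S h0 hS (kreknin β h0 hS)

end Cfsg.Agent.S3779
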