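import Cfsg.Statements.S3783
import Cfsg.Agent.Lib.PGroup.AbelianSylowLength

set_option autoImplicit false
open Cfsg

namespace Cfsg.Agent.S3783

universe u

theorem step {p : ℕ} [hp : Fact p.Prime] (n : ℕ)
    (ih : ∀ {H : Type u} [Group H] [Finite H], Cfsg.IsPSolvable p H →
      (∀ (q : ℕ) [Fact q.Prime], q ≠ p → ∀ Q : Sylow q H, IsMulCommutative (Q : Subgroup H)) →
      (∀ (P : Sylow p H), ∀ x ∈ (P : Subgroup H), x ^ p ^ n = 1) → Cfsg.PLengthLE p n H)
    {H : Type u} [Group H] [Finite H] (hsol : Cfsg.IsPSolvable p H)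
    (hO : Cfsg.pPrimeCore p H = ⊥)
    (hab : ∀ (q : ℕ) [Fact q.Prime], q ≠ p → ∀ Q : Sylow q H, IsMulCommutative (Q : Subgroup H))
    (hexp : ∀ (P : Sylow p H), ∀ x ∈ (P : Subgroup H), x ^ p ^ (n + 1) = 1) :
    Cfsg.PLengthLE p (n + 1) H := by
  refine CfsgLib.PGroup.pLengthLE_succ_of_ker_le (QuotientGroup.mk' (Cfsg.pCore p H))
    (QuotientGroup.mk'_surjective _)
    (by rw [QuotientGroup.ker_mk', CfsgLib.PGroup.useries_two_of_pPrimeCore_eq_bot p H hO]) ?_
  refine ih (CfsgLib.Transfer.isPSolvable_quotient hsol _)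
    (fun q _ hq Q => CfsgLib.PGroup.sylow_comm_of_surjective (QuotientGroup.mk'_surjective _) (hab q hq) Q)
    ?_
  intro P
  obtain ⟨P, rfl⟩ := Sylow.mapSurjective_surjective (QuotientGroup.mk'_surjective (Cfsg.pCore p H)) p P
  rintro _ ⟨a, ha, rfl⟩
  rw [← map_pow, QuotientGroup.mk'_apply, QuotientGroup.eq_one_iff]
  exact CfsgLib.PGroup.pow_mem_pCore_of_abelian_sylow hsol hO hab hexp P ha

theorem pLength_of_abelian_sylow {p : ℕ} [hp : Fact p.Prime] : ∀ (n : ℕ) {G : Type u} [Group G]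
    [Finite G], Cfsg.IsPSolvable p G →
    (∀ (q : ℕ) [Fact q.Prime], q ≠ p → ∀ Q : Sylow q G, IsMulCommutative (Q : Subgroup G)) →
    (∀ (P : Sylow p G), ∀ x ∈ (P : Subgroup G), x ^ p ^ n = 1) → Cfsg.PLengthLE p n G := by
  intro n
  induction n with
  | zero =>
    intro G _ _ _ _ hexp
    obtain ⟨P⟩ : Nonempty (Sylow p G) := inferInstance
    show (Cfsg.upperPSeries p G (2 * 0 + 1)).1 = ⊤
    rw [show (Cfsg.upperPSeries p G (2 * 0 + 1)).1 = CfsgLib.PGroup.useries p G 1 from rfl,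
      CfsgLib.PGroup.useries_one, eq_top_iff]
    refine CfsgLib.Cores.le_pPrimeCore ?_
    have hP : (P : Subgroup G) = ⊥ := by
      rw [Subgroup.eq_bot_iff_forall]
      intro x hx
      simpa using hexp P x hx
    rw [Subgroup.card_top, Nat.coprime_comm, hp.out.coprime_iff_not_dvd]
    intro hd
    have h1 := P.dvd_card_of_dvd_card hd
    rw [hP, Subgroup.card_bot, Nat.dvd_one] at h1
    exact hp.out.ne_one h1
  | succ n ih =>
    intro G _ _ hsol hab hexp
    haveI : (Cfsg.pPrimeCore p G).Normal := by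
      haveI := CfsgLib.Cores.pPrimeCore_characteristic (G := G) p
      infer_instance
    refine CfsgLib.PGroup.pLengthLE_of_coprime_ker (QuotientGroup.mk' (Cfsg.pPrimeCore p G))
      (QuotientGroup.mk'_surjective _)
      (by rw [QuotientGroup.ker_mk']; exact CfsgLib.Cores.coprime_card_pPrimeCore p) ?_
    have hO : Cfsg.pPrimeCore p (G ⧸ Cfsg.pPrimeCore p G) = ⊥ :=
      CfsgLib.Cores.pPrimeCore_quotient_self (G := G) p
    have hsol' := CfsgLib.Transfer.isPSolvable_quotient hsol (Cfsg.pPrimeCore p G)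
    have hab' : ∀ (q : ℕ) [Fact q.Prime], q ≠ p → ∀ Q : Sylow q (G ⧸ Cfsg.pPrimeCore p G),
        IsMulCommutative (Q : Subgroup (G ⧸ Cfsg.pPrimeCore p G)) := fun q _ hq Q =>
      CfsgLib.PGroup.sylow_comm_of_surjective (QuotientGroup.mk'_surjective _) (hab q hq) Q
    have hexp' := fun P => CfsgLib.PGroup.exp_sylow_of_surjective
      (QuotientGroup.mk'_surjective (Cfsg.pPrimeCore p G)) hexp P
    exact step n (fun {H} _ _ => ih) hsol' hO hab' hexp'

/-- Let G be a finite p-soluble group in which, for every prime q ≠ p, the Sylow q-subgroups are abelian. If the Sylow p-subgroups of G have exponent dividing p^n, then G has p-length at most n. -/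
theorem result {G : Type*} [Group G] [Finite G] {p : ℕ} [Fact p.Prime] (hG : Cfsg.IsPSolvable p G) (hab : ∀ (q : ℕ) [Fact q.Prime], q ≠ p → ∀ Q : Sylow q G, IsMulCommutative (Q : Subgroup G)) (n : ℕ) (hexp : ∀ (P : Sylow p G), ∀ x ∈ (P : Subgroup G), x ^ p ^ n = 1) : Cfsg.PLengthLE p n G := by
  exact pLength_of_abelian_sylow n hG hab hexp

end Cfsg.Agent.S3783
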