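import Cfsg.Statements.S3785
import Cfsg.Agent.Lib.Transfer.Critical
import Cfsg.Agent.Lib.PGroup.NilpotentCover
import Cfsg.Agent.Lib.PGroup.CoprimeAutGroup
import Cfsg.Agent.Lib.Solvable.Fitting
import Cfsg.Agent.Lib.Cores.Coprime
import Cfsg.Agent.Lib.Cores.Fitting
import Cfsg.Agent.Lib.OddLocal.Basic

set_option autoImplicit false
open Cfsg

namespace Cfsg.Agent.S3785

open scoped commutatorElement
set_option maxHeartbeats 400000

/-- Let G be a finite solvable group whose Fitting subgroup F(G) has odd order. If an element g of G commutes with every element of prime order of F(G), then g ∈ F(G). -/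
theorem result {G : Type*} [Group G] [Finite G] (hG : Group.IsSolvable G) (hodd : Odd (Nat.card (Cfsg.fittingSubgroup G))) (g : G) (hg : ∀ x ∈ Cfsg.fittingSubgroup G, (orderOf x).Prime → g * x = x * g) : g ∈ Cfsg.fittingSubgroup G := by
  classical
  haveI := hG
  set F := Cfsg.fittingSubgroup G with hF
  haveI : F.Normal := CfsgLib.Cores.fittingSubgroup_normal
  haveI hFnil : Group.IsNilpotent F := CfsgLib.Cores.isNilpotent_fittingSubgroup
  set C := Subgroup.centralizer {x : G | x ∈ F ∧ (orderOf x).Prime} with hCdef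
  have hgC : g ∈ C := Subgroup.mem_centralizer_iff.2 fun x hx => (hg x hx.1 hx.2).symm
  haveI hCn : C.Normal := by
    refine ⟨fun c hc t => Subgroup.mem_centralizer_iff.2 fun x hx => ?_⟩
    have hx' : t⁻¹ * x * t ∈ {x : G | x ∈ F ∧ (orderOf x).Prime} := by
      refine ⟨by simpa using (inferInstance : F.Normal).conj_mem x hx.1 t⁻¹, ?_⟩
      have h := (MulAut.conj t⁻¹).orderOf_eq x
      simp only [MulAut.conj_apply, inv_inv] at h
      rw [h]; exact hx.2
    have h := Subgroup.mem_centralizer_iff.1 hc _ hx'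
    calc x * (t * c * t⁻¹) = t * (t⁻¹ * x * t * c) * t⁻¹ := by group
      _ = t * (c * (t⁻¹ * x * t)) * t⁻¹ := by rw [h]
      _ = t * c * t⁻¹ * x := by group
  -- the normal `p`-subgroup of `p`-elements of `F`
  have hR : ∀ (p : ℕ), Fact p.Prime → ∃ R : Subgroup G, R ≤ F ∧ R.Normal ∧ IsPGroup p R ∧
      ∀ (y : G) (k : ℕ), y ∈ F → y ^ p ^ k = 1 → y ∈ R := by
    intro p _
    obtain ⟨S⟩ := Sylow.nonempty (p := p) (G := F)
    have hSn : (S : Subgroup F).Normal :=
      ((Group.isNilpotent_of_finite_tfae (G := F)).out 0 3 rfl rfl).mp hFnil p ‹_› S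
    haveI := S.characteristic_of_normal hSn
    refine ⟨(S : Subgroup F).map F.subtype, Subgroup.map_subtype_le _, inferInstance, S.isPGroup'.map _, ?_⟩
    intro y k hy hyk
    refine ⟨⟨y, hy⟩, CfsgLib.PGroup.mem_sylow_of_mem_normalizer S (k := k) (Subtype.ext (by simpa using hyk)) ?_, rfl⟩
    rw [Subgroup.normalizer_eq_top_iff.2 hSn]
    exact Subgroup.mem_top _
  -- elements of order prime to `p` in `C` centralize the `p`-part of `F`
  have hact : ∀ (p : ℕ), Fact p.Prime → ∀ R : Subgroup G, R ≤ F → R.Normal → IsPGroup p R →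
      ∀ u ∈ C, (orderOf u).Coprime p → ∀ y ∈ R, u * y = y * u := by
    intro p _ R hRF hRn hRp u hu hup y hy
    rcases eq_or_ne R ⊥ with rfl | hR0
    · rw [Subgroup.mem_bot] at hy
      simp [hy]
    have hp2 : p ≠ 2 := by
      rintro rfl
      obtain ⟨k, hk⟩ := IsPGroup.iff_card.1 hRp
      have hk0 : k ≠ 0 := fun h => hR0 (Subgroup.eq_bot_of_card_eq _ (by rw [hk, h, pow_zero]))
      have h2 : 2 ∣ Nat.card F := (hk ▸ dvd_pow_self 2 hk0).trans (Subgroup.card_dvd_of_le hRF)
      exact Nat.not_even_iff_odd.2 hodd (even_iff_two_dvd.2 h2)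
    haveI := hRn
    set α : MulAut R := MulAut.conjNormal u
    have hord : (orderOf α).Coprime p := hup.coprime_dvd_left (orderOf_map_dvd _ u)
    have h1 : α = 1 := CfsgLib.Transfer.aut_eq_one_of_fix_omega hp2 hRp α hord fun z hz => by
      refine Subtype.ext ?_
      rw [MulAut.conjNormal_apply, mul_inv_eq_iff_eq_mul]
      rcases eq_or_ne z 1 with rfl | hz1
      · simp
      · exact (Subgroup.mem_centralizer_iff.1 hu (z : G) ⟨hRF z.2, by
          rw [Subgroup.orderOf_coe, orderOf_eq_prime hz hz1]; exact Fact.out⟩).symm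
    have h2 := congrArg (fun β : MulAut R => ((β ⟨y, hy⟩ : R) : G)) h1
    simp only [α, MulAut.conjNormal_apply, MulAut.one_apply] at h2
    exact mul_inv_eq_iff_eq_mul.1 h2
  have hact' : ∀ (q : ℕ), Fact q.Prime → ∀ u ∈ C, (∃ k, u ^ q ^ k = 1) → ∀ y ∈ F, (orderOf y).Coprime q →
      u * y = y * u := by
    intro q hq u hu huk y hy hyq
    obtain ⟨k, hk⟩ := huk
    suffices h : (Subgroup.centralizer ({u} : Set G)).subgroupOf (Subgroup.zpowers y) = ⊤ from
      (Subgroup.mem_centralizer_singleton_iff.1 (Subgroup.subgroupOf_eq_top.1 h (Subgroup.mem_zpowers y))).symm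
    refine CfsgLib.PGroup.eq_top_of_forall_sylow_le fun p hp => ?_
    obtain ⟨S⟩ := Sylow.nonempty (p := p) (G := Subgroup.zpowers y)
    refine ⟨S, fun w hw => ?_⟩
    obtain ⟨j, hj⟩ := S.isPGroup' ⟨w, hw⟩
    have hj' : (w : G) ^ p ^ j = 1 := congrArg (fun z : (S : Subgroup (Subgroup.zpowers y)) => ((z : Subgroup.zpowers y) : G)) hj
    show (w : G) ∈ Subgroup.centralizer ({u} : Set G)
    by_cases hpq : p = q
    · subst hpq
      obtain ⟨i, hi⟩ := Subgroup.mem_zpowers_iff.1 w.2
      have h1 : orderOf (w : G) ∣ orderOf y := orderOf_dvd_of_pow_eq_one (by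
        rw [← hi, ← zpow_natCast, ← zpow_mul, mul_comm, zpow_mul, zpow_natCast, pow_orderOf_eq_one, one_zpow])
      have h3 : (w : G) = 1 := orderOf_eq_one_iff.1
        (Nat.eq_one_of_dvd_coprimes (hyq.pow_right j) h1 (orderOf_dvd_of_pow_eq_one hj'))
      rw [h3]; exact Subgroup.one_mem _
    · obtain ⟨R, hRF, hRn, hRp, hRmem⟩ := hR p hp
      have hwF : (w : G) ∈ F := Subgroup.zpowers_le.2 hy w.2
      exact Subgroup.mem_centralizer_singleton_iff.2 (hact p hp R hRF hRn hRp u hu
        (Nat.Coprime.coprime_dvd_left (orderOf_dvd_of_pow_eq_one hk)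
          (((Nat.coprime_primes hq.out hp.out).2 (Ne.symm hpq)).pow_left k)) _ (hRmem _ j hwF hj')).symm
  -- the core: coprime prime-power elements of `C` commute
  have hcomm : ∀ (q r : ℕ), Fact q.Prime → Fact r.Prime → q ≠ r → ∀ u ∈ C, ∀ v ∈ C, ∀ i j : ℕ,
      u ^ q ^ i = 1 → v ^ r ^ j = 1 → u * v = v * u := by
    intro q r hq hr hqr u hu v hv i j hui hvj
    set w := u * v * u⁻¹ * v⁻¹ with hw
    have hwC : ∀ y ∈ F, w * y = y * w := by
      intro y hy
      suffices h : (Subgroup.centralizer ({w} : Set G)).subgroupOf F = ⊤ from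
        (Subgroup.mem_centralizer_singleton_iff.1 (Subgroup.subgroupOf_eq_top.1 h hy)).symm
      refine CfsgLib.PGroup.eq_top_of_forall_sylow_le fun p hp => ?_
      obtain ⟨S⟩ := Sylow.nonempty (p := p) (G := F)
      refine ⟨S, fun z hz => ?_⟩
      obtain ⟨R, hRF, hRn, hRp, hRmem⟩ := hR p hp
      obtain ⟨l, hl⟩ := S.isPGroup' ⟨z, hz⟩
      have hzR : (z : G) ∈ R := hRmem _ l z.2 (congrArg (fun t : (S : Subgroup F) => ((t : F) : G)) hl)
      show (z : G) ∈ Subgroup.centralizer ({w} : Set G)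
      refine Subgroup.mem_centralizer_singleton_iff.2 ?_
      haveI := hRn
      have key : MulAut.conjNormal (H := R) w = 1 := by
        rw [hw, map_mul, map_mul, map_mul, map_inv, map_inv]
        by_cases hpq : p = q
        · subst hpq
          have hv1 : MulAut.conjNormal (H := R) v = 1 := by
            refine MulEquiv.ext fun t => Subtype.ext ?_
            rw [MulAut.conjNormal_apply, MulAut.one_apply, mul_inv_eq_iff_eq_mul]
            exact hact p hp R hRF hRn hRp v hv (Nat.Coprime.coprime_dvd_left (orderOf_dvd_of_pow_eq_one hvj)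
              (((Nat.coprime_primes hr.out hp.out).2 (Ne.symm hqr)).pow_left j)) _ t.2
          simp [hv1]
        · have hu1 : MulAut.conjNormal (H := R) u = 1 := by
            refine MulEquiv.ext fun t => Subtype.ext ?_
            rw [MulAut.conjNormal_apply, MulAut.one_apply, mul_inv_eq_iff_eq_mul]
            exact hact p hp R hRF hRn hRp u hu (Nat.Coprime.coprime_dvd_left (orderOf_dvd_of_pow_eq_one hui)
              (((Nat.coprime_primes hq.out hp.out).2 (Ne.symm hpq)).pow_left i)) _ t.2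
          simp [hu1]
      have h2 := congrArg (fun β : MulAut R => ((β ⟨z, hzR⟩ : R) : G)) key
      simp only [MulAut.conjNormal_apply, MulAut.one_apply] at h2
      exact (mul_inv_eq_iff_eq_mul.1 h2).symm
    have hwF : w ∈ F := CfsgLib.Solvable.centralizer_fittingSubgroup_le
      (Subgroup.mem_centralizer_iff.2 fun y hy => (hwC y hy).symm)
    -- `w` is an `r`-element for every suitable pair
    have part : ∀ (r' : ℕ), Fact r'.Prime → ∀ (x : G) (l : ℕ) (a : G), x ∈ C → x ^ r' ^ l = 1 → a ∈ F →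
        (a * x) ^ r' ^ l = 1 → (∀ y ∈ F, a * y = y * a) → ∃ m, a ^ r' ^ m = 1 := by
      intro r' hr' x l a hx hxl ha hax hac
      obtain ⟨s, b, hsb, hsm, hbm, ⟨m, hsm'⟩, hbcop⟩ := CfsgLib.Cores.exists_pow_mul_pow r' a
      have hbF : b ∈ F := Subgroup.zpowers_le.2 ha hbm
      have hsF : s ∈ F := Subgroup.zpowers_le.2 ha hsm
      obtain ⟨R, hRF, hRn, hRp, hRmem⟩ := hR r' hr'
      have hsR : s ∈ R := hRmem s m hsF (hsm' ▸ pow_orderOf_eq_one s)
      have hbx : Commute b x := (hact' r' hr' x hx ⟨l, hxl⟩ b hbF hbcop).symm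
      have hsbc : Commute b s := by
        obtain ⟨i, rfl⟩ := Subgroup.mem_zpowers_iff.1 hsm
        obtain ⟨i', rfl⟩ := Subgroup.mem_zpowers_iff.1 hbm
        exact Commute.zpow_zpow_self a i' i
      -- `s * x` is an `r'`-element
      haveI := hRn
      have hsup : IsPGroup r' (Subgroup.zpowers x ⊔ R : Subgroup G) := by
        refine IsPGroup.to_sup_of_normal_right (fun ⟨y, hy⟩ => ⟨l, Subtype.ext ?_⟩) hRp
        obtain ⟨i, rfl⟩ := Subgroup.mem_zpowers_iff.1 hy
        show (x ^ i) ^ r' ^ l = 1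
        rw [← zpow_natCast, ← zpow_mul, mul_comm, zpow_mul, zpow_natCast, hxl, one_zpow]
      obtain ⟨M, hM⟩ := hsup ⟨s * x, Subgroup.mul_mem _ (Subgroup.mem_sup_right hsR)
        (Subgroup.mem_sup_left (Subgroup.mem_zpowers x))⟩
      have hM' : (s * x) ^ r' ^ M = 1 := congrArg Subtype.val hM
      have hax' : a * x = (s * x) * b := by rw [hsb, mul_assoc, hbx.eq, ← mul_assoc]
      have hc2 : Commute (s * x) b := (hsbc.symm).mul_left hbx.symm
      have h2 : b ^ r' ^ (M + l) = 1 := by
        have h3 : (a * x) ^ r' ^ (M + l) = 1 := by rw [add_comm, pow_add, pow_mul, hax, one_pow]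
        rw [hax', hc2.mul_pow, pow_add r' M l, pow_mul (s * x), hM', one_pow, one_mul] at h3
        rwa [pow_add r' M l]
      have hb1 : b = 1 := orderOf_eq_one_iff.1
        (Nat.eq_one_of_dvd_coprimes (hbcop.pow_right (M + l)) dvd_rfl (orderOf_dvd_of_pow_eq_one h2))
      exact ⟨m, by rw [hsb, hb1, mul_one, ← hsm', pow_orderOf_eq_one]⟩
    obtain ⟨m1, hm1⟩ := part r hr v j w hv hvj hwF (by
      rw [show w * v = u * v * u⁻¹ by rw [hw]; group, conj_pow, hvj, mul_one, mul_inv_cancel]) hwC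
    obtain ⟨m2, hm2⟩ := part q hq u i w⁻¹ hu hui (F.inv_mem hwF) (by
      rw [show w⁻¹ * u = v * u * v⁻¹ by rw [hw]; group, conj_pow, hui, mul_one, mul_inv_cancel])
      (fun y hy => (Commute.inv_left (hwC y hy : Commute w y)).eq)
    have h1 : w = 1 := orderOf_eq_one_iff.1 (Nat.eq_one_of_dvd_coprimes
      (((Nat.coprime_primes hr.out hq.out).2 (Ne.symm hqr)).pow m1 m2)
      (orderOf_dvd_of_pow_eq_one hm1) (orderOf_dvd_of_pow_eq_one (by simpa using hm2)))
    calc u * v = w * v * u := by rw [hw]; group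
      _ = v * u := by rw [h1, one_mul]
  -- hence `C` is nilpotent
  have hnil : Group.IsNilpotent C := by
    refine ((Group.isNilpotent_of_finite_tfae (G := C)).out 0 3 rfl rfl).mpr fun r hr R => ?_
    refine Subgroup.normalizer_eq_top_iff.1 (CfsgLib.PGroup.eq_top_of_forall_sylow_le fun q hq => ?_)
    by_cases hqr : q = r
    · subst hqr
      exact ⟨R, Subgroup.le_normalizer⟩
    obtain ⟨S⟩ := Sylow.nonempty (p := q) (G := C)
    refine ⟨S, fun s hs => Subgroup.centralizer_le_normalizer _ (Subgroup.mem_centralizer_iff.2 fun t ht => ?_)⟩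
    obtain ⟨i, hi⟩ := S.isPGroup' ⟨s, hs⟩
    obtain ⟨j, hj⟩ := R.isPGroup' ⟨t, ht⟩
    exact Subtype.ext (hcomm q r hq hr hqr s s.2 t t.2 i j
      (congrArg (fun z : (S : Subgroup C) => ((z : C) : G)) hi)
      (congrArg (fun z : (R : Subgroup C) => ((z : C) : G)) hj)).symm
  exact CfsgLib.Cores.le_fittingSubgroup hnil hgC

end Cfsg.Agent.S3785
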