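import Cfsg.Statements.S3786
import Cfsg.Agent.Lib.PGroup.HallHigmanLength
import Cfsg.Agent.Lib.PGroup.HHLength2e

set_option autoImplicit false
open Cfsg

open scoped Pointwise

namespace Cfsg.Agent.S3786

open CfsgLib.PGroup

universe u

/-- Outside the exceptional case the `p`-length is at most the exponent. -/
theorem pLength_le_exponent {p : ℕ} [hp : Fact p.Prime] (hp2 : p ≠ 2) : ∀ (n : ℕ) {G : Type u} [Group G]
    [Finite G], IsPSolvable p G →
    ((¬ ∃ k : ℕ, p = 2 ^ k + 1) ∨ ∀ S : Sylow 2 G, IsMulCommutative (S : Subgroup G)) →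
    (∀ (P : Sylow p G), ∀ x ∈ (P : Subgroup G), x ^ p ^ n = 1) → PLengthLE p n G := by
  intro n
  induction n with
  | zero =>
    intro G _ _ _ _ hexp
    obtain ⟨P⟩ : Nonempty (Sylow p G) := inferInstance
    show (upperPSeries p G (2 * 0 + 1)).1 = ⊤
    rw [show (upperPSeries p G (2 * 0 + 1)).1 = useries p G 1 from rfl, useries_one, eq_top_iff]
    refine CfsgLib.Cores.le_pPrimeCore ?_
    have hP : (P : Subgroup G) = ⊥ := by
      rw [Subgroup.eq_bot_iff_forall]
      intro x hx
      simpa using hexp P x hx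
    rw [Subgroup.card_top, Nat.coprime_comm, hp.out.coprime_iff_not_dvd]
    intro hd
    have h1 := P.dvd_card_of_dvd_card hd
    rw [hP, Subgroup.card_bot, Nat.dvd_one] at h1
    exact hp.out.ne_one h1
  | succ n ih =>
    intro G _ _ hsol hnx hexp
    haveI : (pPrimeCore p G).Normal := by
      haveI := CfsgLib.Cores.pPrimeCore_characteristic (G := G) p
      infer_instance
    refine pLengthLE_of_coprime_ker (QuotientGroup.mk' (pPrimeCore p G))
      (QuotientGroup.mk'_surjective _)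
      (by rw [QuotientGroup.ker_mk']; exact CfsgLib.Cores.coprime_card_pPrimeCore p) ?_
    set G₀ := G ⧸ pPrimeCore p G
    have hO : pPrimeCore p G₀ = ⊥ := CfsgLib.Cores.pPrimeCore_quotient_self (G := G) p
    have hsol₀ := CfsgLib.Transfer.isPSolvable_quotient hsol (pPrimeCore p G)
    have hnx₀ : (¬ ∃ k : ℕ, p = 2 ^ k + 1) ∨ ∀ S : Sylow 2 G₀, IsMulCommutative (S : Subgroup G₀) :=
      hnx.imp id fun h S => sylow_comm_of_surjective (QuotientGroup.mk'_surjective _) h S
    have hexp₀ : ∀ (P : Sylow p G₀), ∀ x ∈ (P : Subgroup G₀), x ^ p ^ (n + 1) = 1 := fun P =>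
      exp_sylow_of_surjective (QuotientGroup.mk'_surjective (pPrimeCore p G)) hexp P
    refine pLengthLE_succ_of_ker_le (QuotientGroup.mk' (pCore p G₀)) (QuotientGroup.mk'_surjective _)
      (by rw [QuotientGroup.ker_mk', useries_two_of_pPrimeCore_eq_bot p G₀ hO]) ?_
    refine ih (CfsgLib.Transfer.isPSolvable_quotient hsol₀ _)
      (hnx₀.imp id fun h S => sylow_comm_of_surjective (QuotientGroup.mk'_surjective _) h S) fun P => ?_
    obtain ⟨P, rfl⟩ := Sylow.mapSurjective_surjective (QuotientGroup.mk'_surjective (pCore p G₀)) p P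
    rw [Sylow.coe_mapSurjective]
    rintro _ ⟨a, ha, rfl⟩
    rw [← map_pow, QuotientGroup.mk'_apply, QuotientGroup.eq_one_iff]
    by_contra hnot
    obtain ⟨r, hr⟩ := exists_norm_not_mem_frattini hp2 hsol₀ hO hnx₀
      (by rw [hexp₀ P a ha]; exact one_mem _) hnot
    refine hr 1 ?_ (one_mem _)
    rw [hexp₀ P a ha, hexp₀ P _ (mul_mem (CfsgLib.Cores.pCore_le_sylow P r.2) ha)]
    simp

/-- The Hall–Higman bound on p-length. Let p be an odd prime and G a finite p-soluble group whose Sylow p-subgroups have exponent dividing p^e. (a) If p is not of the form 2^k + 1, or if the Sylow 2-subgroups of G are abelian, then G has p-length at most e. (b) In every case G has p-length at most 2e. -/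
theorem result {G : Type*} [Group G] [Finite G] {p : ℕ} [Fact p.Prime] (hp : p ≠ 2) (hG : Cfsg.IsPSolvable p G) (e : ℕ) (hexp : ∀ (P : Sylow p G), ∀ x ∈ (P : Subgroup G), x ^ p ^ e = 1) : (((¬ ∃ k : ℕ, p = 2 ^ k + 1) ∨ ∀ S : Sylow 2 G, IsMulCommutative (S : Subgroup G)) → Cfsg.PLengthLE p e G) ∧ Cfsg.PLengthLE p (2 * e) G := by
  have hmain : ((¬ ∃ k : ℕ, p = 2 ^ k + 1) ∨ ∀ S : Sylow 2 G, IsMulCommutative (S : Subgroup G)) →
      Cfsg.PLengthLE p e G := fun h => pLength_le_exponent hp e hG h hexp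
  refine ⟨hmain, ?_⟩
  by_cases hf : ∃ k : ℕ, p = 2 ^ k + 1
  · obtain ⟨s, hs⟩ := hf
    exact CfsgLib.PGroup.HH2e.pLengthLE_two_mul hp hs e hG hexp
  · exact CfsgLib.PGroup.pLengthLE_mono (by omega) (hmain (Or.inl hf))

end Cfsg.Agent.S3786
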