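import Cfsg.Statements.S3787
import Cfsg.Agent.Lib.PGroup.WreathSection

set_option autoImplicit false
open Cfsg

namespace Cfsg.Agent.S3787

/-- Let G be a finite p-soluble group, p an odd prime not of the form 2^k + 1, and suppose the wreath product C_p ≀ C_p (of order p^(p+1)) is not involved in a Sylow p-subgroup of G: no section of a Sylow p-subgroup is isomorphic to it. Then G has p-length at most 1. -/
theorem result {G : Type*} [Group G] [Finite G] {p : ℕ} [Fact p.Prime] (hp2 : p ≠ 2) (hnf : (¬ ∃ k : ℕ, p = 2 ^ k + 1)) (hG : Cfsg.IsPSolvable p G) (P : Sylow p G) (hwr : ∀ (W : Type) [Group W] [Finite W], (∃ (B : Subgroup W) (t : W), B.Normal ∧ IsMulCommutative B ∧ (∀ b ∈ B, b ^ p = 1) ∧ Nat.card B = p ^ p ∧ orderOf t = p ∧ t ∉ B ∧ Nat.card W = p ^ (p + 1) ∧ Nat.card ↥(B ⊓ Subgroup.centralizer ({t} : Set W)) = p) → ¬ Cfsg.Involves W ↥(P : Subgroup G)) : Cfsg.PLengthLE p 1 G := by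
  classical
  have hp : p.Prime := Fact.out
  haveI : (Cfsg.pPrimeCore p G).Normal := by
    haveI := CfsgLib.Cores.pPrimeCore_characteristic (G := G) p
    infer_instance
  set π := QuotientGroup.mk' (Cfsg.pPrimeCore p G) with hπ
  have hπs : Function.Surjective π := QuotientGroup.mk'_surjective _
  refine CfsgLib.PGroup.pLengthLE_of_coprime_ker π hπs
    (by rw [hπ, QuotientGroup.ker_mk']; exact CfsgLib.Cores.coprime_card_pPrimeCore p) ?_
  have hO : Cfsg.pPrimeCore p (G ⧸ Cfsg.pPrimeCore p G) = ⊥ :=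
    CfsgLib.Cores.pPrimeCore_quotient_self (G := G) p
  have hsol := CfsgLib.Transfer.isPSolvable_quotient hG (Cfsg.pPrimeCore p G)
  set Pb := P.mapSurjective hπs
  have hsub : (Pb : Subgroup (G ⧸ Cfsg.pPrimeCore p G)) ≤ Cfsg.pCore p (G ⧸ Cfsg.pPrimeCore p G) := by
    by_contra hcon
    obtain ⟨z, hzP, hzR⟩ := SetLike.not_le_iff_exists.1 hcon
    obtain ⟨a, ha⟩ := Pb.2 ⟨z, hzP⟩
    have hz : z ^ p ^ a = 1 := congrArg Subtype.val ha
    have hex : ∃ m, z ^ p ^ m ∈ Cfsg.pCore p (G ⧸ Cfsg.pPrimeCore p G) := ⟨a, hz ▸ one_mem _⟩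
    obtain ⟨m, hm⟩ : ∃ m, Nat.find hex = m + 1 := Nat.exists_eq_succ_of_ne_zero fun h => hzR (by
      have := Nat.find_spec hex
      rwa [h, pow_zero, pow_one] at this)
    obtain ⟨W, iW, iWf, hW, hinv⟩ := CfsgLib.PGroup.involves_wreath hp2 hsol hO hnf Pb
      (pow_mem hzP (p ^ m)) (Nat.find_min hex (by omega))
      (by rw [← pow_mul, ← pow_succ, ← hm]; exact Nat.find_spec hex)
    refine hwr W hW (CfsgLib.LocalEven.Offender.involves_of_surjective
      ((π.comp (P : Subgroup G).subtype).codRestrict (Pb : Subgroup _) fun a =>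
        (Sylow.coe_mapSurjective hπs P).ge ⟨a, a.2, rfl⟩) ?_ hinv)
    rintro ⟨b, hb⟩
    obtain ⟨a, ha, rfl⟩ := (Sylow.coe_mapSurjective hπs P).le hb
    exact ⟨⟨a, ha⟩, rfl⟩
  set R := Cfsg.pCore p (G ⧸ Cfsg.pPrimeCore p G) with hR
  refine CfsgLib.PGroup.pLengthLE_succ_of_ker_le (k := 0) (QuotientGroup.mk' R)
    (QuotientGroup.mk'_surjective _)
    (by rw [QuotientGroup.ker_mk', CfsgLib.PGroup.useries_two_of_pPrimeCore_eq_bot p _ hO]) ?_
  show (Cfsg.upperPSeries p ((G ⧸ Cfsg.pPrimeCore p G) ⧸ R) (2 * 0 + 1)).1 = ⊤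
  rw [show (Cfsg.upperPSeries p ((G ⧸ Cfsg.pPrimeCore p G) ⧸ R) (2 * 0 + 1)).1 =
    CfsgLib.PGroup.useries p ((G ⧸ Cfsg.pPrimeCore p G) ⧸ R) 1 from rfl,
    CfsgLib.PGroup.useries_one, eq_top_iff]
  refine CfsgLib.Cores.le_pPrimeCore ?_
  rw [Subgroup.card_top, Nat.coprime_comm, hp.coprime_iff_not_dvd]
  intro hd
  refine Pb.not_dvd_index ?_
  exact dvd_trans hd (Subgroup.index_dvd_of_le hsub)

end Cfsg.Agent.S3787
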