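import Cfsg.Statements.S3788
import Cfsg.Agent.Lib.PGroup.CyclicTransvection

set_option autoImplicit false
open Cfsg

namespace Cfsg.Agent.S3788

open scoped commutatorElement

/-- Let G be a finite p-soluble group, P a Sylow p-subgroup of G and A a cyclic normal subgroup of P. If p is odd, or if no section of G is isomorphic to the symmetric group of degree 4, then A ≤ O_{p',p}(G). -/
theorem result {G : Type*} [Group G] [Finite G] {p : ℕ} [Fact p.Prime] (hG : Cfsg.IsPSolvable p G) (P : Sylow p G) (A : Subgroup G) (hAP : A ≤ (P : Subgroup G)) (hAn : (P : Subgroup G) ≤ Subgroup.normalizer (A : Set G)) (hA : IsCyclic A) (h : p ≠ 2 ∨ ¬ Cfsg.Involves (Equiv.Perm (Fin 4)) G) : A ≤ Cfsg.pPrimePCore p G := by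
  classical
  obtain ⟨hsol⟩ : Nonempty (PLift (Cfsg.IsPSolvable p G)) := ⟨⟨hG⟩⟩
  obtain ⟨g₀, hg₀⟩ := hA.exists_generator
  obtain ⟨a, haA, hgen⟩ : ∃ a ∈ A, ∀ x ∈ A, x ∈ Subgroup.zpowers a :=
    ⟨g₀, g₀.2, fun x hx => by
      obtain ⟨i, hi⟩ := hg₀ ⟨x, hx⟩
      exact ⟨i, by simpa using congrArg Subtype.val hi⟩⟩
  have hAn' : ∀ u ∈ (P : Subgroup G), a * u * a⁻¹ * u⁻¹ ∈ A := by
    intro u hu
    have h1 := (Subgroup.mem_normalizer_iff.1 (hAn hu) a⁻¹).1 (inv_mem haA)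
    simpa [mul_assoc] using mul_mem haA h1
  set N := Cfsg.pPrimeCore p G with hN
  haveI hNn : N.Normal := by haveI := CfsgLib.Cores.pPrimeCore_characteristic (G := G) p; infer_instance
  set π₁ := QuotientGroup.mk' N with hπ₁
  suffices hmem : π₁ a ∈ Cfsg.pCore p (G ⧸ N) by
    intro x hx
    obtain ⟨i, rfl⟩ := Subgroup.mem_zpowers_iff.1 (hgen x hx)
    show π₁ (a ^ i) ∈ Cfsg.pCore p (G ⧸ N)
    rw [map_zpow]
    exact Subgroup.zpow_mem _ hmem i
  by_contra haQ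
  set Q := Cfsg.pCore p (G ⧸ N) with hQ
  have hQp : IsPGroup p Q := CfsgLib.Cores.isPGroup_pCore p
  haveI hQc : Q.Characteristic := CfsgLib.Cores.pCore_characteristic p
  have hCQ : Subgroup.centralizer (Q : Set (G ⧸ N)) ≤ Q :=
    CfsgLib.Transfer.centralizer_pCore_le_of_isPSolvable (CfsgLib.Transfer.isPSolvable_quotient hG N)
      (CfsgLib.Cores.pPrimeCore_quotient_self p)
  set Φ := (frattini Q).map Q.subtype with hΦ
  haveI hΦn : Φ.Normal := by rw [hΦ]; haveI := frattini_characteristic (G := Q); infer_instance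
  have hΦQ : Φ ≤ Q := Subgroup.map_subtype_le _
  set π₂ := QuotientGroup.mk' Φ with hπ₂
  have hπ₂s : Function.Surjective π₂ := QuotientGroup.mk'_surjective Φ
  set V := Cfsg.pCore p ((G ⧸ N) ⧸ Φ) with hV
  have hVeq : Q.map π₂ = V := CfsgLib.Cores.map_mk'_pCore Φ hΦQ
  haveI hVc : V.Characteristic := CfsgLib.Cores.pCore_characteristic p
  haveI hVn : V.Normal := inferInstance
  have hcomap : ∀ x, π₂ x ∈ V → x ∈ Q := by
    intro x hx
    rw [← hVeq] at hx
    obtain ⟨q, hq, hqx⟩ := hx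
    rw [QuotientGroup.mk'_apply, QuotientGroup.mk'_apply, QuotientGroup.eq] at hqx
    simpa using mul_mem hq (hΦQ hqx)
  have hVel : Cfsg.IsElementaryAbelian p V := by
    refine ⟨⟨⟨?_⟩⟩, ?_⟩
    · rintro ⟨x, hx⟩ ⟨y, hy⟩
      rw [← hVeq] at hx hy
      obtain ⟨u, hu, rfl⟩ := hx
      obtain ⟨v, hv, rfl⟩ := hy
      refine Subtype.ext ?_
      show π₂ u * π₂ v = π₂ v * π₂ u
      rw [← map_mul, ← map_mul, QuotientGroup.mk'_apply, QuotientGroup.mk'_apply, QuotientGroup.eq]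
      refine ⟨(⟨v⁻¹ * u⁻¹ * v * u, mul_mem (mul_mem (mul_mem (inv_mem hv) (inv_mem hu)) hv) hu⟩ : Q), ?_,
        show v⁻¹ * u⁻¹ * v * u = (u * v)⁻¹ * (v * u) by group⟩
      refine CfsgLib.PGroup.commutator_le_frattini hQp ?_
      have h := Subgroup.commutator_mem_commutator (Subgroup.mem_top (⟨v, hv⟩⁻¹ : Q)) (Subgroup.mem_top (⟨u, hu⟩⁻¹ : Q))
      rw [← commutator_def] at h
      convert h using 1
      exact Subtype.ext (by simp [commutatorElement_def])
    · intro x hx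
      rw [← hVeq] at hx
      obtain ⟨u, hu, rfl⟩ := hx
      rw [← map_pow, QuotientGroup.mk'_apply, QuotientGroup.eq_one_iff]
      exact ⟨⟨u, hu⟩ ^ p, CfsgLib.PGroup.pow_mem_frattini hQp _, rfl⟩
  have hVp : IsPGroup p V := CfsgLib.Cores.isPGroup_pCore p
  have hCV : Subgroup.centralizer (V : Set ((G ⧸ N) ⧸ Φ)) = V := by
    refine le_antisymm ?_ (@Subgroup.le_centralizer _ _ _ hVel.1)
    set C₁ := (Subgroup.centralizer (V : Set ((G ⧸ N) ⧸ Φ))).comap π₂ with hC₁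
    have hp1 : IsPGroup p C₁ := by
      rintro ⟨g, hg⟩
      refine ⟨(orderOf g).factorization p, Subtype.ext ?_⟩
      show g ^ p ^ (orderOf g).factorization p = 1
      set g' := g ^ p ^ (orderOf g).factorization p with hg'
      have hco : (orderOf g').Coprime p := by
        rw [hg', orderOf_pow_of_dvd (pow_ne_zero _ (Fact.out : p.Prime).ne_zero) (Nat.ordProj_dvd _ _)]
        exact (Nat.coprime_ordCompl (Fact.out : p.Prime) (orderOf_pos g).ne').symm
      have hcen : g' ∈ Subgroup.centralizer (Q : Set (G ⧸ N)) := by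
        refine CfsgLib.PStab.mem_centralizer_of_frattini hQp
          (by rw [Subgroup.normalizer_eq_top]; trivial) hco fun q hq => ?_
        have h1 : π₂ g' ∈ Subgroup.centralizer (V : Set ((G ⧸ N) ⧸ Φ)) := by
          rw [hg', map_pow]; exact pow_mem hg _
        have h2 := Subgroup.mem_centralizer_iff.1 h1 (π₂ q) (hVeq.le ⟨q, hq, rfl⟩)
        show ⁅g', q⁆ ∈ Φ
        rw [← QuotientGroup.eq_one_iff, ← QuotientGroup.mk'_apply]
        show π₂ ⁅g', q⁆ = 1
        rw [map_commutatorElement, commutatorElement_eq_one_iff_mul_comm]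
        exact h2.symm
      have h3 := Subgroup.orderOf_dvd_natCard _ (hCQ hcen)
      obtain ⟨e, he⟩ := IsPGroup.iff_card.1 hQp
      rw [he] at h3
      exact orderOf_eq_one_iff.1 (Nat.eq_one_of_dvd_coprimes (hco.pow_right e) dvd_rfl h3)
    haveI : (Subgroup.centralizer (V : Set ((G ⧸ N) ⧸ Φ))).Normal := by
      refine ⟨fun c hc g => Subgroup.mem_centralizer_iff.2 fun y hy => ?_⟩
      have h1 := Subgroup.mem_centralizer_iff.1 hc (g⁻¹ * y * g) (by simpa using hVn.conj_mem y hy g⁻¹)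
      calc y * (g * c * g⁻¹) = g * (g⁻¹ * y * g * c) * g⁻¹ := by group
        _ = g * (c * (g⁻¹ * y * g)) * g⁻¹ := by rw [h1]
        _ = g * c * g⁻¹ * y := by group
    haveI : C₁.Normal := Subgroup.Normal.comap inferInstance _
    intro x hx
    obtain ⟨y, rfl⟩ := hπ₂s x
    exact hVeq.le ⟨y, CfsgLib.Cores.le_pCore hp1 hx, rfl⟩
  set π₃ := QuotientGroup.mk' V with hπ₃
  have hπ₃s : Function.Surjective π₃ := QuotientGroup.mk'_surjective V
  set K := (Cfsg.pPrimeCore p (((G ⧸ N) ⧸ Φ) ⧸ V)).comap π₃ with hK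
  haveI : K.Normal := by
    haveI := CfsgLib.Cores.pPrimeCore_characteristic (G := ((G ⧸ N) ⧸ Φ) ⧸ V) p
    exact Subgroup.Normal.comap inferInstance _
  have hKrel : (V.relIndex K).Coprime p := by
    have h1 := Subgroup.relIndex_ker π₃ (K := K)
    rw [QuotientGroup.ker_mk', hK, Subgroup.map_comap_eq_self_of_surjective hπ₃s] at h1
    rw [h1]
    exact CfsgLib.Cores.coprime_card_pPrimeCore p
  have hfaith : ∀ y : (G ⧸ N) ⧸ Φ, IsPGroup p (Subgroup.zpowers y) → (∀ k ∈ K, ⁅y, k⁆ ∈ V) → y ∈ V := by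
    intro y hy hall
    have h1 : π₃ y ∈ Subgroup.centralizer (Cfsg.pPrimeCore p (((G ⧸ N) ⧸ Φ) ⧸ V) : Set (((G ⧸ N) ⧸ Φ) ⧸ V)) := by
      refine Subgroup.mem_centralizer_iff.2 fun u hu => ?_
      obtain ⟨k, rfl⟩ := hπ₃s u
      have h2 : π₃ ⁅y, k⁆ = 1 := (QuotientGroup.eq_one_iff _).2 (hall k hu)
      rw [map_commutatorElement, commutatorElement_eq_one_iff_mul_comm] at h2
      exact h2.symm
    have h3 := CfsgLib.PGroup.CyclicTransvection.centralizer_pPrimeCore_le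
      (CfsgLib.Transfer.isPSolvable_quotient (CfsgLib.Transfer.isPSolvable_quotient
        (CfsgLib.Transfer.isPSolvable_quotient hG N) Φ) V) (CfsgLib.Cores.pCore_quotient_self p) h1
    have h4 : π₃ y = 1 := CfsgLib.LocalEven.eq_one_of_pow_eq_one_of_pGroup (hy.map π₃) ⟨y, Subgroup.mem_zpowers y, rfl⟩
      ((CfsgLib.Cores.coprime_card_pPrimeCore p).coprime_dvd_left (Subgroup.orderOf_dvd_natCard _ h3))
      (pow_orderOf_eq_one _)
    exact (QuotientGroup.eq_one_iff y).1 h4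
  set b := π₂ (π₁ a) with hb
  have hbV : b ∉ V := fun h => haQ (hcomap _ h)
  have hap : IsPGroup p (Subgroup.zpowers b) := by
    have h1 : IsPGroup p (Subgroup.zpowers a) := P.2.to_le (Subgroup.zpowers_le.2 (hAP haA))
    have h2 := (h1.map π₁).map π₂
    rwa [MonoidHom.map_zpowers, MonoidHom.map_zpowers] at h2
  obtain ⟨e, he⟩ := IsPGroup.iff_orderOf.1 P.2 ⟨a, hAP haA⟩
  rw [Subgroup.orderOf_mk] at he
  have hδ : ∀ v ∈ V, b * v * b⁻¹ * v⁻¹ ∈ Subgroup.zpowers (b ^ p) := by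
    intro v hv
    rw [← hVeq] at hv
    obtain ⟨q, hq, rfl⟩ := hv
    obtain ⟨u, hu, rfl⟩ : ∃ u ∈ (P : Subgroup G), π₁ u = q := by
      have h1 := CfsgLib.Cores.pCore_le_sylow (P.mapSurjective (QuotientGroup.mk'_surjective N)) hq
      rwa [Sylow.coe_mapSurjective] at h1
    obtain ⟨r, hr⟩ := Subgroup.mem_zpowers_iff.1 (hgen _ (hAn' u hu))
    have hrQ : π₁ a ^ r ∈ Q := by
      rw [← map_zpow, hr, map_mul, map_mul, map_mul, map_inv, map_inv]
      exact mul_mem ((inferInstance : Q.Normal).conj_mem _ hq _) (inv_mem hq)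
    by_cases hpr : (p : ℤ) ∣ r
    · obtain ⟨r', rfl⟩ := hpr
      refine ⟨r', ?_⟩
      show (b ^ p) ^ r' = _
      rw [← zpow_natCast, ← zpow_mul, hb, ← map_inv, ← map_inv, ← map_mul, ← map_mul, ← map_mul, ← map_zpow,
        ← map_inv, ← map_inv, ← map_mul, ← map_mul, ← map_mul, ← map_zpow, hr]
    · exfalso
      have hcop : IsCoprime r ((p : ℤ) ^ e) := by
        refine IsCoprime.pow_right ?_
        exact ((Nat.prime_iff_prime_int.1 (Fact.out : p.Prime)).coprime_iff_not_dvd.2 hpr).symm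
      obtain ⟨x, y, hxy⟩ := hcop
      apply haQ
      have h1 : π₁ a ^ ((p : ℤ) ^ e) = 1 := by
        rw [← map_zpow, ← Nat.cast_pow, zpow_natCast, ← he, pow_orderOf_eq_one, map_one]
      have h2 : π₁ a = (π₁ a ^ r) ^ x := by
        conv_lhs => rw [← zpow_one (π₁ a), ← hxy, zpow_add, mul_comm y, zpow_mul (π₁ a) _ y, h1, one_zpow, mul_one,
          mul_comm x, zpow_mul]
      rw [h2]; exact Subgroup.zpow_mem _ hrQ x
  have hVcomm : ∀ x ∈ V, ∀ y ∈ V, x * y = y * x := fun x hx y hy =>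
    congrArg Subtype.val (hVel.1.is_comm.comm ⟨x, hx⟩ ⟨y, hy⟩)
  have hbδ : ∀ w ∈ Subgroup.zpowers (b ^ p), b * w * b⁻¹ = w := fun w hw => by
    obtain ⟨i, rfl⟩ := Subgroup.mem_zpowers_iff.1 hw
    group
  have hbp : b ^ p ∈ V := by
    rw [← hCV, Subgroup.mem_centralizer_iff]
    intro v hv
    obtain ⟨w, hwdef⟩ : ∃ w, w = b * v * b⁻¹ * v⁻¹ := ⟨_, rfl⟩
    have hwz : w ∈ Subgroup.zpowers (b ^ p) := hwdef ▸ hδ v hv
    have hwV : w ∈ V := hwdef ▸ mul_mem (hVn.conj_mem v hv b) (inv_mem hv)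
    have h1 := CfsgLib.PGroup.CyclicTransvection.pow_conj_of_fixed (a := b) (x := v) (w := w)
      (by rw [hVcomm v hv w hwV, hwdef]; group) (hbδ w hwz) p
    rw [hVel.2 w hwV, mul_one, mul_inv_eq_iff_eq_mul] at h1
    exact h1.symm
  by_cases hp2 : p = 2
  · subst hp2
    refine (h.resolve_left (fun h => h rfl)) (CfsgLib.LocalEven.Offender.involves_of_surjective
      (π₂.comp π₁) (hπ₂s.comp (QuotientGroup.mk'_surjective N))
      (CfsgLib.LocalEven.Offender.involves_perm_four (V := V) (H := V) (K := K) hVel hCV hVp hKrel hfaith hap hbV hbp ?_))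
    let f : V →* Subgroup.zpowers (b ^ 2) := MonoidHom.mk' (fun v => ⟨_, hδ v v.2⟩) fun v w => by
      refine Subtype.ext ?_
      show b * (v * w : (G ⧸ N) ⧸ Φ) * b⁻¹ * ((v : (G ⧸ N) ⧸ Φ) * w)⁻¹ = b * v * b⁻¹ * (v : (G ⧸ N) ⧸ Φ)⁻¹ * (b * w * b⁻¹ * (w : (G ⧸ N) ⧸ Φ)⁻¹)
      have hwc := hVcomm _ (mul_mem (hVn.conj_mem _ w.2 b) (inv_mem w.2)) _ (inv_mem v.2)
      calc b * (v * w : (G ⧸ N) ⧸ Φ) * b⁻¹ * ((v : (G ⧸ N) ⧸ Φ) * w)⁻¹
          = b * v * b⁻¹ * ((b * w * b⁻¹ * (w : (G ⧸ N) ⧸ Φ)⁻¹) * (v : (G ⧸ N) ⧸ Φ)⁻¹) := by group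
        _ = _ := by rw [hwc]; group
    have hker : f.ker.map V.subtype ≤ V ⊓ Subgroup.centralizer (Subgroup.zpowers b : Set ((G ⧸ N) ⧸ Φ)) := by
      rintro _ ⟨v, hv, rfl⟩
      refine ⟨v.2, ?_⟩
      have h1 : b * v * b⁻¹ * (v : (G ⧸ N) ⧸ Φ)⁻¹ = 1 := congrArg Subtype.val hv
      rw [mul_inv_eq_one] at h1
      rw [Subgroup.zpowers_eq_closure, Subgroup.centralizer_closure]
      exact Subgroup.mem_centralizer_singleton_iff.2 (mul_inv_eq_iff_eq_mul.1 h1).symm
    have h1 := Subgroup.card_le_of_le hker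
    rw [Subgroup.card_map_of_injective V.subtype_injective] at h1
    have h2 := f.ker.card_mul_index
    have h3 : f.ker.index ≤ 2 := by
      rw [Subgroup.index_ker]
      refine (Nat.card_le_card_of_injective Subtype.val Subtype.val_injective).trans ?_
      rw [Nat.card_zpowers]
      exact orderOf_le_of_pow_eq_one two_pos (hVel.2 _ hbp)
    rw [← h2, mul_comm]
    exact Nat.mul_le_mul h3 h1
  · exact CfsgLib.PGroup.CyclicTransvection.false_of_odd (K := K) hp2 hVel hCV hKrel hfaith hap hbV hbp hδ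

end Cfsg.Agent.S3788
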