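import Cfsg.Statements.S3790
import Cfsg.Agent.Lib.PGroup.PLength

set_option autoImplicit false
open Cfsg

namespace Cfsg.Agent.S3790

open CfsgLib.PGroup

theorem subdirect_pLength {p : ℕ} [Fact p.Prime] {G : Type*} [Group G] [Finite G] {ι : Type*} {k : ℕ}
    (N : ι → Subgroup G) (hN : ∀ i, (N i).Normal)
    (h : ∀ i, haveI := hN i; Cfsg.PLengthLE p k (G ⧸ N i)) (s : Finset ι) :
    ∃ (M : Subgroup G) (_ : M.Normal), (∀ x ∈ M, ∀ i ∈ s, x ∈ N i) ∧ Cfsg.PLengthLE p k (G ⧸ M) := by
  classical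
  induction s using Finset.induction_on with
  | empty =>
    refine ⟨⊤, inferInstance, by simp, ?_⟩
    haveI : Subsingleton (G ⧸ (⊤ : Subgroup G)) := QuotientGroup.subsingleton_quotient_top
    exact top_le_iff.1 fun x _ => Subsingleton.elim (1 : G ⧸ (⊤ : Subgroup G)) x ▸ one_mem _
  | @insert a t _ ih =>
    obtain ⟨M, hM, hMt, hMk⟩ := ih
    haveI := hN a
    haveI := hM
    refine ⟨N a ⊓ M, Subgroup.normal_inf_normal _ _, fun x hx i hi => ?_, pLengthLE_inf (N a) M (h a) hMk⟩
    rcases Finset.mem_insert.1 hi with rfl | hi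
    · exact hx.1
    · exact hMt x hx.2 i hi

theorem trivial_pLength {p k : ℕ} {X : Type*} [Group X] [Subsingleton X] : Cfsg.PLengthLE p k X :=
  top_le_iff.1 fun x _ => Subsingleton.elim (1 : X) x ▸ one_mem _

universe u

theorem step {p : ℕ} [hp : Fact p.Prime] {r : ℕ} (q : Fin r → ℕ) (hq : ∀ i, (q i).Prime ∧ q i ≠ p)
    (l : Fin r → ℕ)
    (IH : ∀ l' : Fin r → ℕ, Finset.univ.sum l' < Finset.univ.sum l → ∀ (H : Type u) [Group H] [Finite H],
      (∀ s : ℕ, s.Prime → s ∣ Nat.card H → s ≠ p → ∃ i, q i = s) →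
      (∀ i, Cfsg.PLengthLE (q i) (l' i) H) → Cfsg.PLengthLE p (Finset.univ.prod fun i => 1 + l' i) H)
    {Y : Type u} [Group Y] [Finite Y] (hYp : Cfsg.pCore p Y = ⊥)
    (hYc : ∀ s : ℕ, s.Prime → s ∣ Nat.card Y → s ≠ p → ∃ i, q i = s)
    (hYl : ∀ i, Cfsg.PLengthLE (q i) (l i) Y) :
    Cfsg.PLengthLE p ((Finset.univ.prod fun i => 1 + l i) - 1) Y := by
  classical
  have hone : ∀ i, Cfsg.PLengthLE p ((Finset.univ.prod fun i => 1 + l i) - 1) (Y ⧸ Cfsg.pPrimeCore (q i) Y) := by
    intro i
    haveI := Fact.mk (hq i).1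
    let f := QuotientGroup.mk' (Cfsg.pPrimeCore (q i) Y)
    have hf : Function.Surjective f := QuotientGroup.mk'_surjective _
    have hXl : ∀ j, Cfsg.PLengthLE (q j) (l j) (Y ⧸ Cfsg.pPrimeCore (q i) Y) := fun j => by
      haveI := Fact.mk (hq j).1
      exact pLengthLE_of_surjective f hf (hYl j)
    have hX0 : Cfsg.pPrimeCore (q i) (Y ⧸ Cfsg.pPrimeCore (q i) Y) = ⊥ := CfsgLib.Cores.pPrimeCore_quotient_self (q i)
    rcases Nat.eq_zero_or_pos (l i) with h0 | h0
    · have h1 : useries (q i) (Y ⧸ Cfsg.pPrimeCore (q i) Y) (2 * 0 + 1) = ⊤ := h0 ▸ hXl i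
      rw [useries_one, hX0] at h1
      haveI : Subsingleton (Y ⧸ Cfsg.pPrimeCore (q i) Y) := Subgroup.subsingleton_iff.1 (subsingleton_iff_bot_eq_top.1 h1)
      exact trivial_pLength
    · obtain ⟨m, hm⟩ := Nat.exists_eq_add_of_le h0
      let g := QuotientGroup.mk' (Cfsg.pCore (q i) (Y ⧸ Cfsg.pPrimeCore (q i) Y))
      have hg : Function.Surjective g := QuotientGroup.mk'_surjective _
      have hlt : Finset.univ.sum (Function.update l i m) < Finset.univ.sum l := by
        rw [Finset.sum_update_of_mem (Finset.mem_univ i), ← Finset.add_sum_erase _ _ (Finset.mem_univ i),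
          Finset.sdiff_singleton_eq_erase]
        omega
      have hZ := IH (Function.update l i m) hlt ((Y ⧸ Cfsg.pPrimeCore (q i) Y) ⧸ Cfsg.pCore (q i) (Y ⧸ Cfsg.pPrimeCore (q i) Y))
        (fun s hs hd => hYc s hs ((hd.trans (Subgroup.card_quotient_dvd_card _)).trans (Subgroup.card_quotient_dvd_card _)))
        (fun j => by
          haveI := Fact.mk (hq j).1
          by_cases hji : j = i
          · subst hji
            rw [Function.update_self]
            refine pLengthLE_quotient_pred g hg ?_ (show Cfsg.PLengthLE (q j) (m + 1) _ from by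
              have := hXl j
              rwa [show l j = m + 1 by omega] at this)
            rw [useries_two_of_pPrimeCore_eq_bot _ _ hX0, QuotientGroup.ker_mk']
          · rw [Function.update_of_ne hji]
            exact pLengthLE_of_surjective g hg (hXl j))
      refine pLengthLE_mono ?_ (pLengthLE_of_coprime_ker g hg ?_ hZ)
      · have e1 : (Finset.univ.prod fun j => 1 + Function.update l i m j) = (1 + m) * ∏ j ∈ Finset.univ.erase i, (1 + l j) := by
          rw [← Finset.mul_prod_erase _ _ (Finset.mem_univ i), Function.update_self]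
          congr 1
          exact Finset.prod_congr rfl fun j hj => by rw [Function.update_of_ne (Finset.ne_of_mem_erase hj)]
        have hR : 1 ≤ ∏ j ∈ Finset.univ.erase i, (1 + l j) := Finset.prod_pos fun j _ => Nat.add_pos_left Nat.one_pos _
        rw [e1, ← Finset.mul_prod_erase _ (fun j => 1 + l j) (Finset.mem_univ i), show 1 + l i = (1 + m) + 1 by omega,
          ]
        simp only [add_mul, one_mul]
        omega
      · rw [QuotientGroup.ker_mk']
        obtain ⟨k, hk⟩ := (CfsgLib.Cores.isPGroup_pCore (G := Y ⧸ Cfsg.pPrimeCore (q i) Y) (q i)).exists_card_eq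
        rw [hk]
        exact Nat.Coprime.pow_left _ ((Nat.coprime_primes (hq i).1 hp.out).2 (hq i).2)
  obtain ⟨M, hMn, hM, hMk⟩ := subdirect_pLength (fun i => Cfsg.pPrimeCore (q i) Y) (fun i => inferInstance) hone Finset.univ
  haveI := hMn
  have hMb : M ≤ ⊥ := by
    rw [← hYp]
    refine CfsgLib.Cores.le_pCore (IsPGroup.of_card (Nat.eq_prime_pow_of_unique_prime_dvd Nat.card_pos.ne'
      (fun {s} hs hd => by_contra fun hsp => ?_)))
    obtain ⟨i, rfl⟩ := hYc s hs (hd.trans (Subgroup.card_subgroup_dvd_card M)) hsp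
    haveI := Fact.mk (hq i).1
    exact CfsgLib.Cores.not_dvd_card_pPrimeCore (q i) (hd.trans (Subgroup.card_dvd_of_le fun x hx => hM x hx i (Finset.mem_univ i)))
  let φ : Y ⧸ M →* Y := QuotientGroup.lift M (MonoidHom.id Y) fun x hx => Subgroup.mem_bot.1 (hMb hx)
  exact pLengthLE_of_surjective φ (fun y => ⟨(y : Y ⧸ M), rfl⟩) hMk

theorem bound {p : ℕ} [hp : Fact p.Prime] {r : ℕ} (q : Fin r → ℕ) (hq : ∀ i, (q i).Prime ∧ q i ≠ p) :
    ∀ (n : ℕ) (l : Fin r → ℕ), Finset.univ.sum l = n → ∀ (G : Type u) [Group G] [Finite G],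
    (∀ s : ℕ, s.Prime → s ∣ Nat.card G → s ≠ p → ∃ i, q i = s) →
    (∀ i, Cfsg.PLengthLE (q i) (l i) G) → Cfsg.PLengthLE p (Finset.univ.prod fun i => 1 + l i) G := by
  classical
  intro n
  induction n using Nat.strong_induction_on with
  | _ n ih =>
    intro l hl G _ _ hcover hlen
    let f := QuotientGroup.mk' (Cfsg.pCore p G)
    have hf : Function.Surjective f := QuotientGroup.mk'_surjective _
    have hpos : 1 ≤ Finset.univ.prod fun i => 1 + l i := Finset.prod_pos fun i _ => Nat.add_pos_left Nat.one_pos _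
    have hY := step q hq l (fun l' hlt H _ _ => ih _ (hl ▸ hlt) l' rfl H) (Y := G ⧸ Cfsg.pCore p G)
      (CfsgLib.Cores.pCore_quotient_self p) (fun s hs hd => hcover s hs (hd.trans (Subgroup.card_quotient_dvd_card _)))
      (fun i => by
        haveI := Fact.mk (hq i).1
        exact pLengthLE_of_surjective f hf (hlen i))
    rw [← Nat.sub_add_cancel hpos]
    refine pLengthLE_succ_of_ker_le f hf ?_ hY
    rw [QuotientGroup.ker_mk']
    refine le_series_succ (n := 1) ⟨fun hn => absurd hn (by decide), fun _ => ?_⟩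
    obtain ⟨k, hk⟩ := (CfsgLib.Cores.isPGroup_pCore (G := G) p).exists_card_eq
    obtain ⟨j, -, hj⟩ := (Nat.dvd_prime_pow hp.out).1 (hk ▸ Subgroup.relIndex_dvd_card (useries p G 1) (Cfsg.pCore p G))
    exact ⟨j, hj⟩

/-- Let G be a finite solvable group and p a prime. Suppose p₁, …, p_r are distinct primes, all different from p, that include every prime dividing the order of G other than p, and that G has p_i-length at most l_i for each i. Then G has p-length at most the product of the numbers 1 + l_i. -/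
theorem result {G : Type*} [Group G] [Finite G] (hG : Group.IsSolvable G) (p : ℕ) [Fact p.Prime] (r : ℕ) (q : Fin r → ℕ) (hq : ∀ i, (q i).Prime ∧ q i ≠ p) (hinj : Function.Injective q) (hcover : ∀ s : ℕ, s.Prime → s ∣ Nat.card G → s ≠ p → ∃ i, q i = s) (l : Fin r → ℕ) (hl : ∀ i, Cfsg.PLengthLE (q i) (l i) G) : Cfsg.PLengthLE p (Finset.univ.prod fun i => 1 + l i) G := by
  exact bound q hq _ l rfl G hcover hl

end Cfsg.Agent.S3790
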