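import Cfsg.Statements.S3791
import Cfsg.Agent.Lib.PGroup.PLength

set_option autoImplicit false
open Cfsg

namespace Cfsg.Agent.S3791

open CfsgLib.PGroup

theorem derived_le_map {G : Type*} [Group G] (S : Subgroup G) {a : ℕ} (h : derivedSeries G a ≤ S) :
    ∀ n, derivedSeries G (a + n) ≤ (derivedSeries ↥S n).map S.subtype := by
  intro n
  induction n with
  | zero =>
    rw [derivedSeries_zero, ← MonoidHom.range_eq_map, Subgroup.range_subtype]
    exact h
  | succ n ih =>
    rw [← Nat.add_assoc, derivedSeries_succ, derivedSeries_succ, Subgroup.map_commutator]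
    exact Subgroup.commutator_mono ih ih

theorem derived_map_eq_bot {G H : Type*} [Group G] [Group H] (f : G →* H) (S : Subgroup G) {n : ℕ}
    (h : derivedSeries ↥S n = ⊥) : derivedSeries ↥(S.map f) n = ⊥ := by
  rw [← map_derivedSeries_eq (MonoidHom.subgroupMap_surjective f S) n, h, Subgroup.map_bot]

universe u

theorem bound {r : ℕ} (q : Fin r → ℕ) (hq : ∀ i, (q i).Prime) (d : Fin r → ℕ) :
    ∀ (n : ℕ) (l : Fin r → ℕ), Finset.univ.sum l = n → ∀ (G : Type u) [Group G] [Finite G],
    (∀ s : ℕ, s.Prime → s ∣ Nat.card G → ∃ i, q i = s) →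
    (∀ i, haveI := Fact.mk (hq i); ∀ S : Sylow (q i) G, derivedSeries ↥(S : Subgroup G) (d i) = ⊥) →
    (∀ i, Cfsg.PLengthLE (q i) (l i) G) →
    derivedSeries G (Finset.univ.sum fun i => d i * l i) = ⊥ := by
  classical
  intro n
  induction n using Nat.strong_induction_on with
  | _ n ih =>
    intro l hl G _ _ hcover hd hlen
    have hone : ∀ i, derivedSeries G (Finset.univ.sum fun j => d j * l j) ≤ Cfsg.pPrimeCore (q i) G := by
      intro i
      haveI := Fact.mk (hq i)
      let f := QuotientGroup.mk' (Cfsg.pPrimeCore (q i) G)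
      have hf : Function.Surjective f := QuotientGroup.mk'_surjective _
      rw [← QuotientGroup.ker_mk' (Cfsg.pPrimeCore (q i) G), ← Subgroup.map_eq_bot_iff, map_derivedSeries_eq hf]
      have hXl : ∀ j, Cfsg.PLengthLE (q j) (l j) (G ⧸ Cfsg.pPrimeCore (q i) G) := fun j => by
        haveI := Fact.mk (hq j)
        exact pLengthLE_of_surjective f hf (hlen j)
      have hX0 : Cfsg.pPrimeCore (q i) (G ⧸ Cfsg.pPrimeCore (q i) G) = ⊥ := CfsgLib.Cores.pPrimeCore_quotient_self (q i)
      rcases Nat.eq_zero_or_pos (l i) with h0 | h0
      · have h1 : useries (q i) (G ⧸ Cfsg.pPrimeCore (q i) G) (2 * 0 + 1) = ⊤ := h0 ▸ hXl i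
        rw [useries_one, hX0] at h1
        haveI := Subgroup.subsingleton_iff.1 (subsingleton_iff_bot_eq_top.1 h1)
        exact Subsingleton.elim _ _
      · obtain ⟨m, hm⟩ := Nat.exists_eq_add_of_le h0
        let g := QuotientGroup.mk' (Cfsg.pCore (q i) (G ⧸ Cfsg.pPrimeCore (q i) G))
        have hg : Function.Surjective g := QuotientGroup.mk'_surjective _
        have hlt : Finset.univ.sum (Function.update l i m) < n := by
          rw [← hl, Finset.sum_update_of_mem (Finset.mem_univ i), ← Finset.add_sum_erase _ _ (Finset.mem_univ i),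
            Finset.sdiff_singleton_eq_erase]
          omega
        have hZ := ih _ hlt (Function.update l i m) rfl
          ((G ⧸ Cfsg.pPrimeCore (q i) G) ⧸ Cfsg.pCore (q i) (G ⧸ Cfsg.pPrimeCore (q i) G))
          (fun s hs hds => hcover s hs ((hds.trans (Subgroup.card_quotient_dvd_card _)).trans (Subgroup.card_quotient_dvd_card _)))
          (fun j => by
            haveI := Fact.mk (hq j)
            intro S
            obtain ⟨T, rfl⟩ := Sylow.mapSurjective_surjective (f := g.comp f) (hg.comp hf) (q j) S
            exact derived_map_eq_bot (g.comp f) (T : Subgroup G) (hd j T))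
          (fun j => by
            haveI := Fact.mk (hq j)
            by_cases hji : j = i
            · subst hji
              rw [Function.update_self]
              refine pLengthLE_quotient_pred g hg ?_ (show Cfsg.PLengthLE (q j) (m + 1) _ from by
                have := hXl j
                rwa [show l j = m + 1 by omega] at this)
              rw [useries_two_of_pPrimeCore_eq_bot _ _ hX0, QuotientGroup.ker_mk']
            · rw [Function.update_of_ne hji]
              exact pLengthLE_of_surjective g hg (hXl j))
        obtain ⟨S⟩ := (inferInstance : Nonempty (Sylow (q i) G))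
        let S' : Sylow (q i) (G ⧸ Cfsg.pPrimeCore (q i) G) := S.mapSurjective hf
        have hle : derivedSeries (G ⧸ Cfsg.pPrimeCore (q i) G) (Finset.univ.sum fun j => d j * Function.update l i m j) ≤ (S' : Subgroup (G ⧸ Cfsg.pPrimeCore (q i) G)) := by
          refine le_trans ?_ (CfsgLib.Cores.pCore_le_sylow S')
          rw [← QuotientGroup.ker_mk' (Cfsg.pCore (q i) (G ⧸ Cfsg.pPrimeCore (q i) G)), ← Subgroup.map_eq_bot_iff, map_derivedSeries_eq hg]
          exact hZ
        have hS' : derivedSeries ↥(S' : Subgroup (G ⧸ Cfsg.pPrimeCore (q i) G)) (d i) = ⊥ :=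
          derived_map_eq_bot f (S : Subgroup G) (hd i S)
        have h2 := derived_le_map _ hle (d i)
        rw [hS', Subgroup.map_bot] at h2
        have hsum : (Finset.univ.sum fun j => d j * l j) = (Finset.univ.sum fun j => d j * Function.update l i m j) + d i := by
          rw [← Finset.add_sum_erase _ _ (Finset.mem_univ i), ← Finset.add_sum_erase _ (fun j => d j * Function.update l i m j) (Finset.mem_univ i),
            Finset.sum_congr rfl fun j hj => show d j * Function.update l i m j = d j * l j by rw [Function.update_of_ne (Finset.ne_of_mem_erase hj)],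
            Function.update_self, show l i = m + 1 by omega]
          ring
        rw [hsum]
        exact le_bot_iff.1 h2
    refine Subgroup.eq_bot_of_card_eq _ (by_contra fun hc => ?_)
    obtain ⟨s, hs, hsd⟩ := Nat.exists_prime_and_dvd hc
    obtain ⟨i, rfl⟩ := hcover s hs (hsd.trans (Subgroup.card_subgroup_dvd_card _))
    haveI := Fact.mk (hq i)
    exact CfsgLib.Cores.not_dvd_card_pPrimeCore (q i) (hsd.trans (Subgroup.card_dvd_of_le (hone i)))

/-- The Hall–Higman bound on derived length: let G be a finite solvable group, let p₁, …, p_r be distinct primes that include every prime dividing the order of G, and suppose that for each i the Sylow p_i-subgroups of G have derived length at most d_i and G has p_i-length at most l_i. Then G has derived length at most Σ d_i l_i. -/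
theorem result {G : Type*} [Group G] [Finite G] (hG : Group.IsSolvable G) (r : ℕ) (q : Fin r → ℕ) (hq : ∀ i, (q i).Prime) (hinj : Function.Injective q) (hcover : ∀ s : ℕ, s.Prime → s ∣ Nat.card G → ∃ i, q i = s) (d l : Fin r → ℕ) (hd : ∀ i, ∀ P : Subgroup G, (haveI := Fact.mk (hq i); ∃ S : Sylow (q i) G, (S : Subgroup G) = P) → derivedSeries ↥P (d i) = ⊥) (hl : ∀ i, Cfsg.PLengthLE (q i) (l i) G) : derivedSeries G (Finset.univ.sum fun i => d i * l i) = ⊥ := by
  exact bound q hq d _ l rfl G hcover (fun i => by haveI := Fact.mk (hq i); exact fun S => hd i _ ⟨S, rfl⟩) hl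

end Cfsg.Agent.S3791
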