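import Cfsg.Statements.S3796
import Cfsg.Agent.Lib.Solvable.WardReduction

set_option autoImplicit false
open Cfsg

open scoped Pointwise

namespace Cfsg.Agent.S3796

/-- Ward's Theorem: let G be a finite solvable group and A an elementary abelian group of automorphisms of G of order p² (p a prime) with no non-identity common fixed point. Then G has Fitting height at most 2: G has Fitting height at most m when there is a chain of normal subgroups 1 = F₀ ≤ F₁ ≤ ⋯ ≤ F_m = G with each F_{i+1}/F_i nilpotent. -/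
theorem result {G : Type*} [Group G] [Finite G] (hG : Group.IsSolvable G) {p : ℕ} (hp : p.Prime) (A : Subgroup (MulAut G)) (hA : Cfsg.IsElementaryAbelian p A) (hcard : Nat.card A = p ^ 2) (hfpf : ∀ g : G, (∀ a ∈ A, a g = g) → g = 1) : ∃ F : Fin (2 + 1) → Subgroup G, F 0 = ⊥ ∧ F (Fin.last 2) = ⊤ ∧ Monotone F ∧ (∀ i, (F i).Normal) ∧ ∀ i : Fin 2, ∃ k : ℕ, (F i.succ).lowerCentralSeries k ≤ F i.castSucc := by
  haveI := hG
  haveI := Fact.mk hp
  letI : CommGroup A :=
    { A.toGroup with mul_comm := fun a b => hA.1.is_comm.comm a b }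
  haveI hFn : (Cfsg.fittingSubgroup G).Normal := CfsgLib.Cores.fittingSubgroup_normal
  have hexp : ∀ a : A, a ^ p = 1 := fun a => Subtype.ext (hA.2 a a.2)
  have hq := CfsgLib.Solvable.isNilpotent_quotient_fitting (A := A) hcard hexp A.subtype
    (fun x hx => hfpf x fun a ha => hx ⟨a, ha⟩)
  have hn1 : ∃ k : ℕ, (⊤ : Subgroup (G ⧸ Cfsg.fittingSubgroup G)).lowerCentralSeries k ≤ ⊥ := by
    haveI := hq
    obtain ⟨k, hk⟩ := (Subgroup.isNilpotent_iff_lowerCentralSeries
      (⊤ : Subgroup (G ⧸ Cfsg.fittingSubgroup G))).1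
      (Group.nilpotent_of_mulEquiv Subgroup.topEquiv.symm)
    exact ⟨k, hk.le⟩
  refine CfsgLib.Solvable.chain_step (Cfsg.fittingSubgroup G)
    CfsgLib.Cores.isNilpotent_fittingSubgroup (m := 1) ⟨Fin.cons ⊥ fun _ => ⊤, rfl, rfl, ?_, ?_,
      fun i => ?_⟩
  · refine Fin.monotone_iff_le_succ.2 fun i => ?_
    fin_cases i
    exact bot_le
  · intro i
    induction i using Fin.cases with
    | zero => simp only [Fin.cons_zero]; infer_instance
    | succ j => simp only [Fin.cons_succ]; infer_instance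
  · fin_cases i
    exact hn1

end Cfsg.Agent.S3796
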