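import Cfsg.Statements.S3797
import Cfsg.Agent.Lib.PGroup.OneInvolutionClass
import Cfsg.Agent.Lib.PGroup.PLength

set_option autoImplicit false
set_option linter.style.haveILetI false
open Cfsg

namespace Cfsg.Agent.S3797

open Subgroup CfsgLib.PGroup

universe u

/-- A commutative `2`-group with automorphisms transitive on involutions is homocyclic. -/
theorem homocyclic_of_transitive {A : Type u} [CommGroup A] [Finite A] (hA : IsPGroup 2 A)
    (htr : ∀ x y : A, x ≠ 1 → x ^ 2 = 1 → y ≠ 1 → y ^ 2 = 1 → ∃ f : MulAut A, f x = y) :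
    ∃ m r : ℕ, Nonempty (A ≃* (Fin r → Multiplicative (ZMod (2 ^ m)))) := by
  classical
  obtain ⟨ι, hι, k, hk, ⟨e⟩⟩ := CommGroup.equiv_prod_multiplicative_zmod_of_finite A
  have he : ∃ m, ∀ x : A, x ^ 2 ^ m = 1 := by
    obtain ⟨m, hm⟩ := (IsPGroup.iff_card (p := 2)).1 hA
    exact ⟨m, fun x => by rw [← hm]; exact pow_card_eq_one'⟩
  set m := Nat.find he with hm
  refine ⟨m, Fintype.card ι, ?_⟩
  suffices hall : ∀ i, k i = 2 ^ m by
    have e1 : A ≃* (ι → Multiplicative (ZMod (2 ^ m))) :=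
      e.trans (MulEquiv.piCongrRight fun i =>
        AddEquiv.toMultiplicative (ZMod.ringEquivCongr (hall i)).toAddEquiv)
    exact ⟨e1.trans
      { Equiv.arrowCongr (Fintype.equivFin ι) (Equiv.refl _) with map_mul' := fun _ _ => rfl }⟩
  intro i
  have hpow : ∀ (j : ι) (c : ZMod (k j)) (l : ℕ) (x : A), e x j = Multiplicative.ofAdd c →
      e (x ^ l) j = Multiplicative.ofAdd ((l : ZMod (k j)) * c) := by
    intro j c l x hx
    rw [map_pow, Pi.pow_apply, hx, ← ofAdd_nsmul, nsmul_eq_mul]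
  let g : A := e.symm (Pi.mulSingle i (Multiplicative.ofAdd 1))
  have hg : e g i = Multiplicative.ofAdd 1 := by simp [g]
  have hkdvd : k i ∣ 2 ^ m := by
    have h := hpow i 1 (2 ^ m) g hg
    rw [Nat.find_spec he g, map_one, mul_one] at h
    exact (ZMod.natCast_eq_zero_iff _ _).1 (congrArg Multiplicative.toAdd h).symm
  obtain ⟨d, hd, hkd⟩ := (Nat.dvd_prime_pow Nat.prime_two).1 hkdvd
  rw [hkd]
  congr 1
  by_contra hne
  have hdm : d < m := lt_of_le_of_ne hd hne
  have hd0 : d ≠ 0 := by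
    intro h; have := hk i; rw [hkd, h, pow_zero] at this; omega
  -- an element of largest order and its involution
  obtain ⟨x, hx⟩ : ∃ x : A, x ^ 2 ^ (m - 1) ≠ 1 := by
    by_contra h
    push Not at h
    exact Nat.find_min he (show m - 1 < m by omega) h
  set y := g ^ 2 ^ (d - 1) with hy
  have hy1 : y ≠ 1 := by
    intro h
    have h1 := hpow i 1 (2 ^ (d - 1)) g hg
    rw [← hy, h, map_one, mul_one] at h1
    have h2 := (ZMod.natCast_eq_zero_iff _ _).1 (congrArg Multiplicative.toAdd h1).symm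
    rw [hkd, Nat.pow_dvd_pow_iff_le_right (le_refl 2)] at h2
    omega
  have hy2 : y ^ 2 = 1 := by
    rw [hy, ← pow_mul, ← pow_succ, show d - 1 + 1 = d by omega]
    apply e.injective
    rw [map_pow, map_one]
    funext j
    rw [Pi.pow_apply, Pi.one_apply, show e g = Pi.mulSingle i (Multiplicative.ofAdd 1) from e.apply_symm_apply _]
    rcases eq_or_ne j i with rfl | hji
    · rw [Pi.mulSingle_eq_same, ← ofAdd_nsmul, nsmul_eq_mul, mul_one, ← hkd, ZMod.natCast_self]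
      rfl
    · rw [Pi.mulSingle_eq_of_ne hji, one_pow]
  obtain ⟨f, hf⟩ := htr (x ^ 2 ^ (m - 1)) y hx (by
    rw [← pow_mul, ← pow_succ, show m - 1 + 1 = m by omega, Nat.find_spec he x]) hy1 hy2
  apply hy1
  apply e.injective
  rw [map_one]
  funext j
  rw [Pi.one_apply]
  rcases eq_or_ne j i with rfl | hji
  · rw [← hf, map_pow, hpow j (Multiplicative.toAdd (e (f x) j)) _ (f x) rfl]
    have : ((2 ^ (m - 1) : ℕ) : ZMod (k j)) = 0 :=
      (ZMod.natCast_eq_zero_iff _ _).2 (hkd ▸ pow_dvd_pow 2 (by omega))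
    rw [this, zero_mul]
    rfl
  · rw [hy, map_pow, Pi.pow_apply, show e g = Pi.mulSingle i (Multiplicative.ofAdd 1) from e.apply_symm_apply _,
      Pi.mulSingle_eq_of_ne hji, one_pow]

theorem main {G : Type u} [Group G] [Finite G] (hG : Group.IsSolvable G) (S : Sylow 2 G)
    (htwo : ∃ x y : G, x ∈ (S : Subgroup G) ∧ y ∈ (S : Subgroup G) ∧ x ≠ y ∧ x ≠ 1 ∧ x ^ 2 = 1 ∧
      y ≠ 1 ∧ y ^ 2 = 1)
    (hconj : ∀ x y : G, x ≠ 1 → x ^ 2 = 1 → y ≠ 1 → y ^ 2 = 1 → IsConj x y) :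
    Cfsg.PLengthLE 2 1 G ∧ ∃ Y : Subgroup (MulAut ↥(S : Subgroup G)), Group.IsSolvable Y ∧
      ∀ x y : ↥(S : Subgroup G), x ≠ 1 → x ^ 2 = 1 → y ≠ 1 → y ^ 2 = 1 → ∃ a ∈ Y, a x = y := by
  classical
  haveI := hG
  haveI : Fact (Nat.Prime 2) := ⟨Nat.prime_two⟩
  haveI hOn : (pPrimeCore 2 G).Normal := sSup_normal _ fun N hN => hN.1
  set π := QuotientGroup.mk' (pPrimeCore 2 G) with hπ
  have hOodd : Odd (Nat.card (pPrimeCore 2 G)) :=
    Nat.coprime_two_right.1 (CfsgLib.Cores.coprime_card_pPrimeCore 2)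
  have hSO : ∀ x ∈ (S : Subgroup G), x ∈ pPrimeCore 2 G → x = 1 := by
    intro x hx hx'
    obtain ⟨j, hj⟩ := S.2 ⟨x, hx⟩
    exact OneClass.eq_one_of_pow_odd_of_two hOodd
      (congrArg Subtype.val (pow_card_eq_one' (x := (⟨x, hx'⟩ : pPrimeCore 2 G))))
      (congrArg Subtype.val hj)
  have hinvo : ∀ x : G, x ≠ 1 → x ^ 2 = 1 → orderOf x = 2 := fun x h1 h2 => orderOf_eq_prime h2 h1
  haveI : Group.IsSolvable (G ⧸ pPrimeCore 2 G) :=
    Group.isSolvable_of_surjective (QuotientGroup.mk'_surjective _)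
  have hlift : ∀ c : G ⧸ pPrimeCore 2 G, orderOf c = 2 → ∃ x : G, x ≠ 1 ∧ x ^ 2 = 1 ∧ π x = c := by
    intro c hc
    obtain ⟨g, rfl⟩ := QuotientGroup.mk'_surjective _ c
    have hc2 : π g ^ 2 = 1 := orderOf_dvd_iff_pow_eq_one.1 (dvd_of_eq hc)
    refine ⟨g ^ Nat.card (pPrimeCore 2 G), ?_, ?_, ?_⟩
    swap
    · rw [← pow_mul, mul_comm, pow_mul]
      have hg : g ^ 2 ∈ pPrimeCore 2 G := by
        rw [← QuotientGroup.eq_one_iff, QuotientGroup.mk_pow]
        exact hc2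
      exact congrArg Subtype.val (pow_card_eq_one' (x := (⟨g ^ 2, hg⟩ : pPrimeCore 2 G)))
    swap
    · obtain ⟨k, hk⟩ := hOodd
      rw [map_pow, hk, pow_succ, pow_mul, hc2, one_pow, one_mul]
    · intro h
      obtain ⟨k, hk⟩ := hOodd
      have h1 := congrArg π h
      rw [map_pow, map_one, hk, pow_succ, pow_mul, hc2, one_pow, one_mul] at h1
      rw [h1, orderOf_one] at hc
      omega
  obtain ⟨x0, y0, hx0S, hy0S, hne, hx01, hx02, hy01, hy02⟩ := htwo
  have himg : ∀ x ∈ (S : Subgroup G), x ≠ 1 → x ^ 2 = 1 → orderOf (π x) = 2 := fun x hx h1 h2 =>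
    orderOf_eq_prime (by rw [← map_pow, h2, map_one]) fun h =>
      h1 (hSO x hx ((QuotientGroup.eq_one_iff x).1 h))
  have hidx : Odd (pCore 2 (G ⧸ pPrimeCore 2 G)).index := by
    refine OneClass.odd_index_pCore (CfsgLib.Cores.pPrimeCore_quotient_self 2)
      ⟨π x0, π y0, fun h => hne ?_, himg _ hx0S hx01 hx02, himg _ hy0S hy01 hy02⟩ ?_
    · exact inv_mul_eq_one.1 (hSO _ (mul_mem ((S : Subgroup G).inv_mem hx0S) hy0S) (QuotientGroup.eq.1 h))
    · intro a b ha hb
      obtain ⟨x, hx1, hx2, rfl⟩ := hlift a ha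
      obtain ⟨y, hy1, hy2, rfl⟩ := hlift b hb
      exact MonoidHom.map_isConj π (hconj x y hx1 hx2 hy1 hy2)
  set P := pCore 2 (G ⧸ pPrimeCore 2 G) with hP
  haveI hPn : P.Normal := sSup_normal _ fun N hN => hN.1
  refine ⟨?_, ?_⟩
  · refine pLengthLE_of_coprime_ker π (QuotientGroup.mk'_surjective _) ?_ ?_
    · rw [hπ, QuotientGroup.ker_mk']
      exact CfsgLib.Cores.coprime_card_pPrimeCore 2
    show useries 2 (G ⧸ pPrimeCore 2 G) 3 = ⊤
    refine top_le_iff.1 (le_series_succ (n := 2) (N := ⊤) ⟨fun _ => ?_, fun h => absurd even_two h⟩)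
    rw [useries_two_of_pPrimeCore_eq_bot 2 _ (CfsgLib.Cores.pPrimeCore_quotient_self 2), relIndex_top_right]
    exact Nat.coprime_two_right.2 hidx
  -- `O S` is normal
  set N := P.comap π with hN
  haveI : N.Normal := hPn.comap _
  have hSN : (S : Subgroup G) ≤ N := by
    intro x hx
    have hc : π x ∈ P := by
      rw [← QuotientGroup.eq_one_iff]
      obtain ⟨j, hj⟩ := S.2 ⟨x, hx⟩
      refine OneClass.eq_one_of_pow_odd_of_two hidx (j := j) ?_ ?_
      · rw [Subgroup.index]; exact pow_card_eq_one'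
      · rw [← QuotientGroup.mk_pow, ← map_pow, show x ^ 2 ^ j = 1 from congrArg Subtype.val hj, map_one]
        rfl
    exact hc
  have hNS : ∀ g ∈ N, ∃ o ∈ pPrimeCore 2 G, ∃ s ∈ (S : Subgroup G), o * s = g := by
    have hle : N ≤ pPrimeCore 2 G ⊔ (S : Subgroup G) := by
      refine (eq_of_le_of_card_ge (sup_le ?_ hSN) ?_).ge
      · intro o ho
        show π o ∈ P
        rw [show π o = 1 from (QuotientGroup.eq_one_iff o).2 ho]
        exact one_mem _
      have hN' : Nat.card N = Nat.card (pPrimeCore 2 G) * Nat.card P :=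
        CfsgLib.Solvable.card_comap_mk' _ P
      obtain ⟨p, hp⟩ := (IsPGroup.iff_card (p := 2)).1 (CfsgLib.Cores.isPGroup_pCore (G := G ⧸ pPrimeCore 2 G) 2)
      have hS : 2 ^ p ∣ Nat.card (S : Subgroup G) := by
        refine S.pow_dvd_card_of_pow_dvd_card ?_
        rw [← hp]
        exact (card_subgroup_dvd_card P).trans (Subgroup.card_quotient_dvd_card _)
      have h1 : Nat.card (pPrimeCore 2 G) ∣ Nat.card ↥(pPrimeCore 2 G ⊔ (S : Subgroup G)) :=
        card_dvd_of_le le_sup_left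
      have h2 : 2 ^ p ∣ Nat.card ↥(pPrimeCore 2 G ⊔ (S : Subgroup G)) :=
        hS.trans (card_dvd_of_le le_sup_right)
      rw [hN', hP, hp]
      exact Nat.le_of_dvd Nat.card_pos ((Nat.Coprime.pow_right _
        (CfsgLib.Cores.coprime_card_pPrimeCore 2)).mul_dvd_of_dvd_of_dvd h1 h2)
    intro g hg
    exact mem_sup_of_normal_left.1 (hle hg)
  have hfrat : normalizer ((S : Subgroup G) : Set G) ⊔ N = ⊤ := Sylow.normalizer_sup_eq_top' S hSN
  have hsol : Group.IsSolvable (normalizer ((S : Subgroup G) : Set G)) := inferInstance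
  refine ⟨(normalizerMonoidHom (S : Subgroup G)).range,
    Group.isSolvable_of_surjective (normalizerMonoidHom (S : Subgroup G)).rangeRestrict_surjective,
    fun x y hx hx2 hy hy2 => ?_⟩
  obtain ⟨c, hc⟩ := isConj_iff.1 (hconj (x : G) (y : G) (fun h => hx (Subtype.ext h))
    (by rw [← Subgroup.coe_pow, hx2, Subgroup.coe_one]) (fun h => hy (Subtype.ext h))
    (by rw [← Subgroup.coe_pow, hy2, Subgroup.coe_one]))
  obtain ⟨m, hm, n, hn, rfl⟩ := mem_sup_of_normal_left.1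
    (show c ∈ N ⊔ normalizer ((S : Subgroup G) : Set G) by rw [sup_comm, hfrat]; exact mem_top c)
  obtain ⟨o, ho, s, hs, rfl⟩ := hNS m hm
  have hsn : s * n ∈ normalizer ((S : Subgroup G) : Set G) := mul_mem (le_normalizer hs) hn
  refine ⟨normalizerMonoidHom (S : Subgroup G) ⟨s * n, hsn⟩, ⟨_, rfl⟩, ?_⟩
  have hx' : s * n * (x : G) * (s * n)⁻¹ ∈ (S : Subgroup G) := (mem_normalizer_iff.1 hsn _).1 x.2
  refine Subtype.ext ?_
  show s * n * (x : G) * (s * n)⁻¹ = y
  refine inv_mul_eq_one.1 (hSO _ (mul_mem ((S : Subgroup G).inv_mem hx') y.2) ?_)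
  refine (QuotientGroup.eq_one_iff _).1 ?_
  rw [← hc, show (o * s * n) * (x : G) * (o * s * n)⁻¹ = o * (s * n * (x : G) * (s * n)⁻¹) * o⁻¹ by group]
  simp only [QuotientGroup.mk_mul, QuotientGroup.mk_inv, (QuotientGroup.eq_one_iff o).2 ho]
  group

/-- Let G be a finite solvable group of even order whose Sylow 2-subgroups contain more than one involution, and suppose all involutions of G are conjugate. Then G has 2-length at most 1, and a Sylow 2-subgroup S of G is either homocyclic (a direct product of cyclic groups of one common order) or a non-abelian 2-group with more than one involution admitting a solvable group of automorphisms transitive on its involutions. -/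
theorem result {G : Type*} [Group G] [Finite G] (hG : Group.IsSolvable G) (heven : Even (Nat.card G)) (S : Sylow 2 G) (htwo : ∃ x y : G, x ∈ (S : Subgroup G) ∧ y ∈ (S : Subgroup G) ∧ x ≠ y ∧ x ≠ 1 ∧ x ^ 2 = 1 ∧ y ≠ 1 ∧ y ^ 2 = 1) (hconj : ∀ x y : G, x ≠ 1 → x ^ 2 = 1 → y ≠ 1 → y ^ 2 = 1 → IsConj x y) : Cfsg.PLengthLE 2 1 G ∧ ((∃ m r : ℕ, Nonempty (↥(S : Subgroup G) ≃* (Fin r → Multiplicative (ZMod (2 ^ m))))) ∨ (¬ IsMulCommutative (S : Subgroup G) ∧ ∃ Y : Subgroup (MulAut ↥(S : Subgroup G)), Group.IsSolvable Y ∧ ∀ x y : ↥(S : Subgroup G), x ≠ 1 → x ^ 2 = 1 → y ≠ 1 → y ^ 2 = 1 → ∃ a ∈ Y, a x = y)) := by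
  obtain ⟨hlen, Y, hY, htr⟩ := main hG S htwo hconj
  refine ⟨hlen, ?_⟩
  by_cases hc : IsMulCommutative (S : Subgroup G)
  · letI : CommGroup ↥(S : Subgroup G) :=
      { (inferInstance : Group ↥(S : Subgroup G)) with mul_comm := fun a b => hc.is_comm.comm a b }
    exact Or.inl (homocyclic_of_transitive (A := ↥(S : Subgroup G)) S.2
      fun x y hx hx2 hy hy2 => (htr x y hx hx2 hy hy2).imp fun a ha => ha.2)
  · exact Or.inr ⟨hc, Y, hY, htr⟩

end Cfsg.Agent.S3797
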