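import Cfsg.Statements.S3798
import Mathlib
import Cfsg.Agent.Lib.PGroup.PLength
import Cfsg.Agent.Lib.Components.OmegaFixed
import Cfsg.Agent.Lib.PGroup.CyclicTransvection
import Cfsg.Agent.Lib.Signalizer.Ambient
import Cfsg.Agent.Lib.Solvable.Hall
import Cfsg.Agent.Lib.Transfer.PSolvable

set_option autoImplicit false
set_option linter.style.haveILetI false
open Cfsg

namespace Cfsg.Agent.S3798

open Subgroup CfsgLib.PGroup

universe u

/-- The heart of the proof: with trivial `p'`-core the index of `O_p` is prime to `p`. -/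
theorem not_dvd_index {H : Type u} [Group H] [Finite H] {p : ℕ} [hp : Fact p.Prime] (hp2 : p ≠ 2)
    (hdvd : p ∣ Nat.card H) (hsol : Cfsg.IsPSolvable p H) (hO : pPrimeCore p H = ⊥)
    (htr : ∀ x y : H, orderOf x = p → orderOf y = p → ∃ a : MulAut H, y ∈ zpowers (a x)) :
    ¬ p ∣ (pCore p H).index := by
  intro hidx
  haveI hPc : (pCore p H).Characteristic := CfsgLib.Cores.pCore_characteristic p
  set P := pCore p H with hP
  have hPp : IsPGroup p P := CfsgLib.Cores.isPGroup_pCore p
  have hCP : centralizer (P : Set H) ≤ P :=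
    CfsgLib.Transfer.centralizer_pCore_le_of_isPSolvable hsol hO
  obtain ⟨z0, hz0⟩ := exists_prime_orderOf_dvd_card' (G := H) p hdvd
  have hPne : P ≠ ⊥ := fun h => by
    have h1 : z0 ∈ P := hCP (mem_centralizer_iff.2 fun g hg => by
      rw [h, SetLike.mem_coe, mem_bot] at hg
      rw [hg, one_mul, mul_one])
    rw [h, mem_bot] at h1
    rw [h1, orderOf_one] at hz0
    exact hp.out.ne_one hz0.symm
  haveI : Nontrivial P := (Subgroup.nontrivial_iff_ne_bot P).2 hPne
  obtain ⟨z, hz⟩ : ∃ z : center P, orderOf z = p := by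
    haveI := hPp.center_nontrivial
    obtain ⟨k, hk⟩ := (IsPGroup.iff_card (p := p)).1 (hPp.to_subgroup (center P))
    refine exists_prime_orderOf_dvd_card' p ?_
    rw [hk]
    refine dvd_pow_self p fun h0 => ?_
    rw [h0, pow_zero] at hk
    have := Finite.one_lt_card (α := center P)
    omega
  set Z := (center P).map P.subtype with hZ
  haveI hZn : Z.Characteristic := characteristic_iff_map_le.2 fun φ => by
    rintro _ ⟨_, ⟨c, hc, rfl⟩, rfl⟩
    refine ⟨⟨φ (c : H), ?_⟩, mem_center_iff.2 fun g => Subtype.ext ?_, rfl⟩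
    · exact characteristic_iff_map_le.1 hPc φ ⟨c, c.2, rfl⟩
    · have hg : φ.symm (g : H) ∈ P := characteristic_iff_map_le.1 hPc φ.symm ⟨g, g.2, rfl⟩
      have h1 := congrArg (fun x : P => φ (x : H)) (mem_center_iff.1 hc ⟨_, hg⟩)
      simpa using h1
  have hzo : orderOf ((z : P) : H) = p := by rw [Subgroup.orderOf_coe, Subgroup.orderOf_coe, hz]
  have hinv : ∀ x : H, x ^ p = 1 → x ∈ Z := by
    intro x hx
    rcases eq_or_ne x 1 with rfl | hx1
    · exact one_mem _
    obtain ⟨a, ha⟩ := htr _ x hzo (orderOf_eq_prime hx hx1)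
    refine zpowers_le.2 ?_ ha
    rw [← characteristic_iff_map_eq.1 hZn a]
    exact ⟨_, ⟨(z : P), z.2, rfl⟩, rfl⟩
  have hZc : ∀ x ∈ Z, ∀ g ∈ P, g * x = x * g := by
    rintro _ ⟨c, hc, rfl⟩ g hg
    exact congrArg Subtype.val (mem_center_iff.1 hc ⟨g, hg⟩)
  have hZP : Z ≤ P := map_subtype_le _
  let V : Subgroup H :=
    { carrier := {x | x ^ p = 1}
      one_mem' := one_pow p
      mul_mem' := fun {x y} hx hy => by
        show (x * y) ^ p = 1
        rw [Commute.mul_pow (hZc y (hinv y hy) x (hZP (hinv x hx))), hx, hy, one_mul]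
      inv_mem' := fun {x} hx => by
        show x⁻¹ ^ p = 1
        rw [inv_pow, (hx : x ^ p = 1), inv_one] }
  haveI : V.Normal := ⟨fun x hx g => by
    show (g * x * g⁻¹) ^ p = 1
    rw [conj_pow, (hx : x ^ p = 1), mul_one, mul_inv_cancel]⟩
  have hpodd : ∀ x ∈ P, (orderOf x).Coprime p → x = 1 := fun x hx ho => by
    obtain ⟨j, hj⟩ := hPp ⟨x, hx⟩
    exact orderOf_eq_one_iff.1 (Nat.Coprime.eq_one_of_dvd (Nat.Coprime.pow_right j ho)
      (orderOf_dvd_of_pow_eq_one (congrArg Subtype.val hj)))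
  -- the centraliser of `V` is the core
  have hCV : centralizer (V : Set H) ≤ P := by
    refine CfsgLib.Cores.le_pCore (IsPGroup.iff_orderOf.2 fun c => ?_)
    refine ⟨(orderOf c).factorization p, ?_⟩
    obtain ⟨c, hc⟩ := c
    rw [Subgroup.orderOf_mk]
    set k := (orderOf c).factorization p with hk
    set m := orderOf c / p ^ k with hm
    have hkm : p ^ k * m = orderOf c := Nat.mul_div_cancel' (Nat.ordProj_dvd _ _)
    have hmp : m.Coprime p := (Nat.coprime_ordCompl hp.out (orderOf_pos c).ne').symm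
    have ho : orderOf (c ^ p ^ k) = m := by
      rw [orderOf_pow' c (pow_ne_zero _ hp.out.ne_zero), Nat.gcd_eq_right ⟨m, hkm.symm⟩]
    have hle : zpowers (c ^ p ^ k) ≤ centralizer (P : Set H) := by
      refine CfsgLib.Components.commute_of_fixed_omega hp2 hPp (Q := zpowers (c ^ p ^ k)) (A := ⊥)
        (by rw [Nat.card_zpowers, ho]; exact hmp) IsPGroup.of_bot
        (le_normalizer_of_normal) bot_le bot_le fun v _ hv1 _ => ?_
      refine mem_centralizer_iff.2 fun g hg => ?_
      have hcV : c ^ p ^ k ∈ centralizer (V : Set H) := pow_mem hc _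
      exact (mem_centralizer_iff.1 (zpowers_le.2 hcV hg) v hv1).symm
    have h1 := hpodd _ (hCP (hle (mem_zpowers _))) (by rw [ho]; exact hmp)
    rw [h1, orderOf_one] at ho
    rw [← hkm, ← ho, mul_one]
  -- a normal `p'`-subgroup of `H / P`
  haveI : (pPrimeCore p (H ⧸ P)).Characteristic := CfsgLib.Cores.pPrimeCore_characteristic p
  set Y := pPrimeCore p (H ⧸ P) with hY
  set Yc := Y.comap (QuotientGroup.mk' P) with hYc
  haveI hYcc : Yc.Characteristic := CfsgLib.Signalizer.characteristic_comap_mk' P Y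
  have hYne : ¬ Yc ≤ P := fun hle => by
    have hYb : Y = ⊥ := by
      rw [eq_bot_iff]
      intro y hy
      obtain ⟨g, rfl⟩ := QuotientGroup.mk'_surjective P y
      exact (QuotientGroup.eq_one_iff g).2 (hle hy)
    have h1 := CfsgLib.PGroup.CyclicTransvection.centralizer_pPrimeCore_le
      (CfsgLib.Transfer.isPSolvable_quotient hsol P) (CfsgLib.Cores.pCore_quotient_self p)
    rw [← hY, hYb] at h1
    have hsub : Nat.card (H ⧸ P) = 1 := by
      rw [← Subgroup.card_top, Subgroup.card_eq_one, eq_bot_iff]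
      exact fun x _ => h1 (mem_centralizer_iff.2 fun g hg => by
        rw [Set.mem_singleton_iff.1 hg, one_mul, mul_one])
    rw [Subgroup.index, hsub] at hidx
    exact hp.out.ne_one (Nat.dvd_one.1 hidx)
  have hYcop : (Nat.card Y).Coprime p := CfsgLib.Cores.coprime_card_pPrimeCore p
  obtain ⟨e, he⟩ := hPp.exists_card_eq
  have hcard : Nat.card Yc = Nat.card P * Nat.card Y := CfsgLib.Solvable.card_comap_mk' P Y
  have hPY : P ≤ Yc := fun g hg => by
    show (g : H ⧸ P) ∈ Y
    rw [(QuotientGroup.eq_one_iff g).2 hg]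
    exact one_mem _
  -- a complement
  have hcop : (Nat.card P).Coprime (Nat.card Y) := by
    rw [he]; exact (Nat.Coprime.pow_right e hYcop).symm
  obtain ⟨B, hB⟩ : ∃ B : Subgroup H, B ≤ Yc ∧ Nat.card B = Nat.card Y := by
    have hcP : Nat.card (P.subgroupOf Yc) = Nat.card P :=
      Nat.card_congr (subgroupOfEquivOfLe hPY).toEquiv
    have hindex : (P.subgroupOf Yc).index = Nat.card Y := by
      have h := (P.subgroupOf Yc).card_mul_index
      rw [hcP, hcard] at h
      exact Nat.eq_of_mul_eq_mul_left Nat.card_pos h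
    obtain ⟨B, hB⟩ := Subgroup.exists_right_complement'_of_coprime (N := P.subgroupOf Yc)
      (by rw [hcP, hindex]; exact hcop)
    exact ⟨B.map Yc.subtype, map_subtype_le _,
      by rw [card_map_of_injective Yc.subtype_injective, ← hB.symm.index_eq_card, hindex]⟩
  have hdisj : P ⊓ B = ⊥ := inf_eq_bot_of_coprime (by rw [hB.2]; exact hcop)
  have hsup : P ⊔ B = Yc := by
    refine eq_of_le_of_card_ge (sup_le hPY hB.1) ?_
    rw [hcard, ← hB.2]
    refine Nat.le_of_dvd Nat.card_pos (Nat.Coprime.mul_dvd_of_dvd_of_dvd (by rw [hB.2]; exact hcop)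
      (card_dvd_of_le le_sup_left) (card_dvd_of_le le_sup_right))
  have hfrat : ∀ g : H, ∃ k ∈ P, k * g ∈ normalizer (B : Set H) := by
    intro g
    have hle : B.map (MulAut.conj g).toMonoidHom ≤ P ⊔ B := by
      rw [hsup]
      rintro _ ⟨b, hb, rfl⟩
      exact (inferInstance : Yc.Normal).conj_mem b (hB.1 hb) g
    have hcg : Nat.card (B.map (MulAut.conj g).toMonoidHom) = Nat.card Y := by
      rw [card_map_of_injective (K := B) (MulAut.conj g).injective, hB.2]
    haveI := hPp.isNilpotent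
    obtain ⟨k, hk, hkle⟩ := CfsgLib.Solvable.exists_conj_le P B _ le_normalizer_of_normal hdisj hle
      (by rw [hcg]; exact hcop) (Or.inl inferInstance)
    refine ⟨k, hk, mem_normalizer_iff_map_conj_eq.2 (eq_of_le_of_card_ge ?_ ?_)⟩
    · rintro _ ⟨b, hb, rfl⟩
      refine hkle ⟨g * b * g⁻¹, ⟨b, hb, rfl⟩, ?_⟩
      simp [mul_assoc]
    · exact (card_map_of_injective (K := B) (MulAut.conj (k * g)).injective).ge
  have hN : p ∣ Nat.card (normalizer (B : Set H)) := by
    refine hidx.trans ?_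
    rw [Subgroup.index]
    refine Subgroup.card_dvd_of_surjective ((QuotientGroup.mk' P).comp (normalizer (B : Set H)).subtype)
      fun x => ?_
    obtain ⟨g, rfl⟩ := QuotientGroup.mk'_surjective P x
    obtain ⟨k, hk, hkN⟩ := hfrat g
    exact ⟨⟨k * g, hkN⟩, by simp [(QuotientGroup.eq_one_iff k).2 hk]⟩
  obtain ⟨⟨t, htN⟩, hto⟩ := exists_prime_orderOf_dvd_card' p hN
  rw [Subgroup.orderOf_mk] at hto
  have htV : t ∈ V := by show t ^ p = 1; rw [← hto, pow_orderOf_eq_one]
  have htB : t ∈ centralizer (Yc : Set H) := by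
    suffices h : Yc ≤ centralizer ({t} : Set H) from
      mem_centralizer_iff.2 fun y hy => mem_centralizer_singleton_iff.1 (h hy)
    rw [← hsup]
    refine sup_le (fun g hg => mem_centralizer_singleton_iff.2 (hZc t (hinv t htV) g hg)) fun b hb => ?_
    have h1 : t * b * t⁻¹ * b⁻¹ ∈ B := mul_mem ((mem_normalizer_iff.1 htN b).1 hb) (B.inv_mem hb)
    have h2 : t * b * t⁻¹ * b⁻¹ ∈ P := by
      rw [mul_assoc, mul_assoc]
      refine mul_mem (hZP (hinv t htV)) ?_
      rw [← mul_assoc]
      exact (inferInstance : P.Normal).conj_mem _ (P.inv_mem (hZP (hinv t htV))) b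
    have h4 : t * b * t⁻¹ * b⁻¹ = 1 := by rw [← mem_bot, ← hdisj]; exact ⟨h2, h1⟩
    refine mem_centralizer_singleton_iff.2 ?_
    calc b * t = (t * b * t⁻¹ * b⁻¹)⁻¹ * (t * b) := by group
      _ = t * b := by rw [h4, inv_one, one_mul]
  -- so the whole of `V` centralises `Yc`
  haveI hCYc : (centralizer (Yc : Set H)).Characteristic := inferInstance
  have hVY : V ≤ centralizer (Yc : Set H) := by
    intro x hx
    rcases eq_or_ne x 1 with rfl | hx1
    · exact one_mem _
    obtain ⟨a, ha⟩ := htr t x hto (orderOf_eq_prime hx hx1)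
    refine zpowers_le.2 ?_ ha
    rw [← characteristic_iff_map_eq.1 hCYc a]
    exact ⟨t, htB, rfl⟩
  exact hYne fun y hy => hCV (mem_centralizer_iff.2 fun v hv =>
    (mem_centralizer_iff.1 (hVY hv) y hy).symm)

theorem main {G : Type u} [Group G] [Finite G] {p : ℕ} [hp : Fact p.Prime] (hp2 : p ≠ 2)
    (hdvd : p ∣ Nat.card G) (hG : Cfsg.IsPSolvable p G)
    (htrans : ∀ U V : Subgroup G, Nat.card U = p → Nat.card V = p →
      ∃ a : MulAut G, U.map a.toMonoidHom = V) : Cfsg.PLengthLE p 1 G := by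
  haveI hOc : (pPrimeCore p G).Characteristic := CfsgLib.Cores.pPrimeCore_characteristic p
  set O := pPrimeCore p G with hO
  have hOcop : (Nat.card O).Coprime p := CfsgLib.Cores.coprime_card_pPrimeCore p
  have hdvd' : p ∣ Nat.card (G ⧸ O) := by
    rw [card_eq_card_quotient_mul_card_subgroup O] at hdvd
    exact (Nat.Coprime.dvd_of_dvd_mul_right hOcop.symm hdvd)
  have hlift : ∀ c : G ⧸ O, orderOf c = p → ∃ x : G, orderOf x = p ∧
      c ∈ zpowers (x : G ⧸ O) := by
    intro c hc
    obtain ⟨g, rfl⟩ := QuotientGroup.mk_surjective c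
    have hg : g ^ p ∈ O := by
      rw [← QuotientGroup.eq_one_iff, QuotientGroup.mk_pow]
      exact orderOf_dvd_iff_pow_eq_one.1 (dvd_of_eq hc)
    have hpow : (g ^ Nat.card O) ^ p = 1 := by
      rw [← pow_mul, mul_comm, pow_mul]
      exact congrArg Subtype.val (pow_card_eq_one' (x := (⟨g ^ p, hg⟩ : O)))
    have hmem : (g : G ⧸ O) ∈ zpowers ((g ^ Nat.card O : G) : G ⧸ O) := by
      rw [QuotientGroup.mk_pow, mem_zpowers_pow_iff, hc]
      exact hOcop
    refine ⟨g ^ Nat.card O, orderOf_eq_prime hpow fun h => ?_, hmem⟩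
    rw [h] at hmem
    change (g : G ⧸ O) ∈ zpowers (1 : G ⧸ O) at hmem
    rw [zpowers_one_eq_bot, mem_bot] at hmem
    rw [hmem, orderOf_one] at hc
    exact hp.out.ne_one hc.symm
  refine pLengthLE_of_coprime_ker (QuotientGroup.mk' O) (QuotientGroup.mk'_surjective O)
    (by rw [QuotientGroup.ker_mk']; exact hOcop) ?_
  have hidx : ¬ p ∣ (pCore p (G ⧸ O)).index := by
    refine not_dvd_index hp2 hdvd' (CfsgLib.Transfer.isPSolvable_quotient hG O)
      (CfsgLib.Cores.pPrimeCore_quotient_self p) fun x y hx hy => ?_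
    obtain ⟨x', hx', hxm⟩ := hlift x hx
    obtain ⟨y', hy', hym⟩ := hlift y hy
    obtain ⟨a, ha⟩ := htrans (zpowers x') (zpowers y') (by rw [Nat.card_zpowers, hx'])
      (by rw [Nat.card_zpowers, hy'])
    refine ⟨QuotientGroup.congr O O a (characteristic_iff_map_eq.1 hOc a), ?_⟩
    obtain ⟨i, hi⟩ := hxm
    refine zpowers_le.2 ?_ hym
    -- `x` generates the same subgroup as the image of `x'`
    have hxx : (x' : G ⧸ O) ∈ zpowers x := by
      have hle : zpowers x ≤ zpowers (x' : G ⧸ O) := zpowers_le.2 ⟨i, hi⟩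
      have heq := eq_of_le_of_card_ge hle (by
        rw [Nat.card_zpowers, Nat.card_zpowers, hx]
        exact Nat.le_of_dvd hp.out.pos
          (hx' ▸ orderOf_map_dvd (QuotientGroup.mk' O) x'))
      rw [heq]
      exact mem_zpowers _
    have hyy : y' ∈ (zpowers x').map a.toMonoidHom := ha.symm ▸ mem_zpowers y'
    obtain ⟨_, ⟨j, rfl⟩, hj⟩ := hyy
    obtain ⟨l, hl⟩ := hxx
    refine ⟨l * j, ?_⟩
    show QuotientGroup.congr O O a _ x ^ (l * j) = (y' : G ⧸ O)
    rw [← map_zpow, zpow_mul, show x ^ l = (x' : G ⧸ O) from hl, ← hj]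
    rfl
  show useries p (G ⧸ O) 3 = ⊤
  refine top_le_iff.1 (le_series_succ (n := 2) (N := ⊤) ⟨fun _ => ?_, fun h => absurd even_two h⟩)
  rw [useries_two_of_pPrimeCore_eq_bot p _ (CfsgLib.Cores.pPrimeCore_quotient_self p), relIndex_top_right]
  exact ((Nat.Prime.coprime_iff_not_dvd hp.out).2 hidx).symm

/-- The Gaschütz–Yen Theorem: let G be a finite p-soluble group, p an odd prime dividing its order, such that the automorphism group of G permutes the subgroups of G of order p transitively. Then G has p-length at most 1. -/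
theorem result {G : Type*} [Group G] [Finite G] {p : ℕ} [Fact p.Prime] (hp : p ≠ 2) (hdvd : p ∣ Nat.card G) (hG : Cfsg.IsPSolvable p G) (htrans : ∀ U V : Subgroup G, Nat.card U = p → Nat.card V = p → ∃ a : MulAut G, U.map a.toMonoidHom = V) : Cfsg.PLengthLE p 1 G := by
  exact main hp hdvd hG htrans

end Cfsg.Agent.S3798
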