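import Cfsg.Statements.S3799
import Cfsg.Agent.Lib.PGroup.Extraspecial

set_option autoImplicit false
open Cfsg

namespace Cfsg.Agent.S3799

open scoped commutatorElement
/-- The Heisenberg group of dimension `2 n + 1` over `ZMod p`. -/
@[ext] structure Heis (n p : ℕ) where
  a : Fin n → ZMod p
  b : Fin n → ZMod p
  c : ZMod p

namespace Heis

variable {n p : ℕ}

instance : Mul (Heis n p) := ⟨fun x y => ⟨x.a + y.a, x.b + y.b, x.c + y.c + x.a ⬝ᵥ y.b⟩⟩
instance : One (Heis n p) := ⟨⟨0, 0, 0⟩⟩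
instance : Inv (Heis n p) := ⟨fun x => ⟨-x.a, -x.b, -x.c + x.a ⬝ᵥ x.b⟩⟩

theorem mul_a (x y : Heis n p) : (x * y).a = x.a + y.a := rfl
theorem mul_b (x y : Heis n p) : (x * y).b = x.b + y.b := rfl
theorem mul_c (x y : Heis n p) : (x * y).c = x.c + y.c + x.a ⬝ᵥ y.b := rfl
theorem one_a : (1 : Heis n p).a = 0 := rfl
theorem one_b : (1 : Heis n p).b = 0 := rfl
theorem one_c : (1 : Heis n p).c = 0 := rfl
theorem inv_a (x : Heis n p) : x⁻¹.a = -x.a := rfl
theorem inv_b (x : Heis n p) : x⁻¹.b = -x.b := rfl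
theorem inv_c (x : Heis n p) : x⁻¹.c = -x.c + x.a ⬝ᵥ x.b := rfl

instance : Group (Heis n p) where
  mul_assoc x y z := by
    ext <;> simp only [mul_a, mul_b, mul_c, add_dotProduct, dotProduct_add, Pi.add_apply] <;> ring
  one_mul x := by ext <;> simp [mul_a, mul_b, mul_c, one_a, one_b, one_c]
  mul_one x := by ext <;> simp [mul_a, mul_b, mul_c, one_a, one_b, one_c]
  inv_mul_cancel x := by
    ext <;> simp [mul_a, mul_b, mul_c, inv_a, inv_b, inv_c, one_a, one_b, one_c]

def equivProd : Heis n p ≃ (Fin n → ZMod p) × (Fin n → ZMod p) × ZMod p where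
  toFun x := (x.a, x.b, x.c)
  invFun x := ⟨x.1, x.2.1, x.2.2⟩
  left_inv _ := rfl
  right_inv _ := rfl

theorem card_eq (n p : ℕ) : Nat.card (Heis n p) = p ^ (1 + 2 * n) := by
  rw [Nat.card_congr equivProd, Nat.card_prod, Nat.card_prod, Nat.card_fun, Nat.card_zmod, Nat.card_fin]
  ring

theorem pow_eq (x : Heis n p) (k : ℕ) :
    x ^ k = ⟨k • x.a, k • x.b, k • x.c + (k.choose 2) • (x.a ⬝ᵥ x.b)⟩ := by
  induction k with
  | zero => ext <;> simp [one_a, one_b, one_c]
  | succ k ih =>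
    rw [pow_succ, ih]
    have hc : (k + 1).choose 2 = k + k.choose 2 := by
      rw [Nat.choose_succ_succ, Nat.choose_one_right]
    ext
    · simp [mul_a, add_mul]
    · simp [mul_b, add_mul]
    · rw [mul_c, smul_dotProduct]
      simp only [nsmul_eq_mul, hc]
      push_cast
      ring

theorem mem_center_iff (x : Heis n p) : x ∈ Subgroup.center (Heis n p) ↔ x.a = 0 ∧ x.b = 0 := by
  rw [Subgroup.mem_center_iff]
  constructor
  · intro h
    constructor <;> funext i
    · have := congrArg Heis.c (h ⟨0, Pi.single i 1, 0⟩)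
      simp only [mul_c, zero_dotProduct, dotProduct_single, mul_one] at this
      simpa using this.symm
    · have := congrArg Heis.c (h ⟨Pi.single i 1, 0, 0⟩)
      simp only [mul_c, dotProduct_zero, single_dotProduct, one_mul] at this
      simpa using this
  · rintro ⟨ha, hb⟩ y
    ext
    · simp [mul_a, ha]
    · simp [mul_b, hb]
    · simp [mul_c, ha, hb, add_comm]

/-- The unitriangular matrix of an element. -/
def mat (x : Heis n p) : Matrix (Unit ⊕ (Fin n ⊕ Unit)) (Unit ⊕ (Fin n ⊕ Unit)) (ZMod p) :=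
  fun i j => match i, j with
    | Sum.inl _, Sum.inl _ => 1
    | Sum.inl _, Sum.inr (Sum.inl j) => x.a j
    | Sum.inl _, Sum.inr (Sum.inr _) => x.c
    | Sum.inr (Sum.inl i), Sum.inr (Sum.inl j) => if i = j then 1 else 0
    | Sum.inr (Sum.inl i), Sum.inr (Sum.inr _) => x.b i
    | Sum.inr (Sum.inr _), Sum.inr (Sum.inr _) => 1
    | _, _ => 0

def matHom (n p : ℕ) : Heis n p →* Matrix (Unit ⊕ (Fin n ⊕ Unit)) (Unit ⊕ (Fin n ⊕ Unit)) (ZMod p) where
  toFun := mat
  map_one' := by
    ext (⟨⟩ | i | ⟨⟩) (⟨⟩ | j | ⟨⟩) <;> simp [mat, Matrix.one_apply, one_a, one_b, one_c]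
  map_mul' x y := by
    ext (⟨⟩ | i | ⟨⟩) (⟨⟩ | j | ⟨⟩) <;>
      simp [mat, Matrix.mul_apply, Fintype.sum_sum_type, mul_a, mul_b, mul_c, dotProduct] <;> ring

theorem matHom_injective : Function.Injective (matHom n p) := fun x y h => by
  ext i
  · exact congrFun (congrFun h (Sum.inl ())) (Sum.inr (Sum.inl i))
  · exact congrFun (congrFun h (Sum.inr (Sum.inl i))) (Sum.inr (Sum.inr ()))
  · exact congrFun (congrFun h (Sum.inl ())) (Sum.inr (Sum.inr ()))

end Heis

/-- For every odd prime p and every n ≥ 1 there is an extraspecial p-group of order p^(1+2n) and exponent p; concretely, the general linear group of degree n + 2 over the field with p elements contains such a subgroup. -/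
theorem result (p : ℕ) [Fact p.Prime] (hp : p ≠ 2) (n : ℕ) (hn : 1 ≤ n) : ∃ E : Subgroup (Matrix.GeneralLinearGroup (Fin (n + 2)) (ZMod p)), Cfsg.IsExtraspecial p ↥E ∧ Nat.card E = p ^ (1 + 2 * n) ∧ ∀ x ∈ E, x ^ p = 1 := by
  classical
  have hpp : p.Prime := Fact.out
  haveI : Finite (Heis n p) := Finite.of_equiv _ Heis.equivProd.symm
  have hexp : ∀ x : Heis n p, x ^ p = 1 := by
    intro x
    obtain ⟨t, ht⟩ : p ∣ p.choose 2 :=
      hpp.dvd_choose_self (by norm_num) (lt_of_le_of_ne hpp.two_le (Ne.symm hp))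
    rw [Heis.pow_eq, ht]
    ext <;> simp [Heis.one_a, Heis.one_b, Heis.one_c, mul_assoc]
  -- the matrix representation
  let σ : Unit ⊕ (Fin n ⊕ Unit) ≃ Fin (n + 2) := Fintype.equivFinOfCardEq (by simp; omega)
  let f : Heis n p →* Matrix.GeneralLinearGroup (Fin (n + 2)) (ZMod p) :=
    ((Matrix.reindexAlgEquiv (ZMod p) (ZMod p) σ).toMonoidHom.comp (Heis.matHom n p)).toHomUnits
  have hf : Function.Injective f := fun x y h => Heis.matHom_injective
    ((Matrix.reindexAlgEquiv (ZMod p) (ZMod p) σ).injective (congrArg Units.val h))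
  let e : Heis n p ≃* f.range := MonoidHom.ofInjective hf
  have hHp : IsPGroup p (Heis n p) := IsPGroup.of_card (Heis.card_eq n p)
  refine ⟨f.range, CfsgLib.PGroup.isExtraspecial_mk (hHp.of_equiv e) ?_ ?_ ?_ ?_, ?_, ?_⟩
  · rw [← Nat.card_congr (Subgroup.centerCongr e).toEquiv]
    refine (Nat.card_congr ?_).trans (Nat.card_zmod p)
    exact
      { toFun := fun x => x.1.c
        invFun := fun c => ⟨⟨0, 0, c⟩, (Heis.mem_center_iff _).2 ⟨rfl, rfl⟩⟩
        left_inv := fun x => by
          obtain ⟨ha, hb⟩ := (Heis.mem_center_iff _).1 x.2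
          refine Subtype.ext (Heis.ext ha.symm hb.symm rfl)
        right_inv := fun c => rfl }
  · intro h
    let x : Heis n p := ⟨Pi.single ⟨0, hn⟩ 1, 0, 0⟩
    let y : Heis n p := ⟨0, Pi.single ⟨0, hn⟩ 1, 0⟩
    have h1 : x * y = y * x := e.injective (by rw [map_mul, map_mul]; exact h.is_comm.comm _ _)
    have h2 := congrArg Heis.c h1
    simp [x, y, Heis.mul_c] at h2
  · intro u v
    obtain ⟨x, rfl⟩ := e.surjective u
    obtain ⟨y, rfl⟩ := e.surjective v
    rw [← map_commutatorElement]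
    refine Subgroup.mem_center_iff.2 fun w => ?_
    obtain ⟨z, rfl⟩ := e.surjective w
    rw [← map_mul, ← map_mul]
    have hc : ⁅x, y⁆ ∈ Subgroup.center (Heis n p) := (Heis.mem_center_iff _).2
      ⟨by simp [commutatorElement_def, Heis.mul_a, Heis.inv_a],
       by simp [commutatorElement_def, Heis.mul_b, Heis.inv_b]⟩
    rw [Subgroup.mem_center_iff.1 hc z]
  · intro u
    obtain ⟨x, rfl⟩ := e.surjective u
    rw [← map_pow, hexp, map_one]
    exact Subgroup.one_mem _
  · rw [← Nat.card_congr e.toEquiv, Heis.card_eq]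
  · rintro u ⟨x, rfl⟩
    rw [← map_pow, hexp, map_one]

end Cfsg.Agent.S3799
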