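import Cfsg.Statements.S3800
import Mathlib

set_option autoImplicit false
open Cfsg

namespace Cfsg.Agent.S3800

open scoped Pointwise commutatorElement

/-- Let G be a finite group, N a normal subgroup of G whose order is prime to p, and P a p-subgroup of G. Then in G/N the normalizer of the image of P is the image of N_G(P), and the centralizer of the image of P is the image of C_G(P). -/
theorem result {G : Type*} [Group G] [Finite G] {p : ℕ} [Fact p.Prime] (N : Subgroup G) [N.Normal] (hN : (Nat.card N).Coprime p) (P : Subgroup G) (hP : IsPGroup p P) : Subgroup.normalizer ((P.map (QuotientGroup.mk' N)) : Set (G ⧸ N)) = (Subgroup.normalizer (P : Set G)).map (QuotientGroup.mk' N) ∧ Subgroup.centralizer ((P.map (QuotientGroup.mk' N)) : Set (G ⧸ N)) = (Subgroup.centralizer (P : Set G)).map (QuotientGroup.mk' N) := by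
  set f := QuotientGroup.mk' N with hf
  have hp : p.Prime := Fact.out
  have hdisj : ∀ x ∈ P, x ∈ N → x = 1 := by
    intro x hxP hxN
    obtain ⟨k, hk⟩ := hP ⟨x, hxP⟩
    have h1 : orderOf x ∣ p ^ k := orderOf_dvd_of_pow_eq_one (congrArg Subtype.val hk)
    exact orderOf_eq_one_iff.1 (Nat.dvd_one.1 ((Nat.Coprime.pow_right k hN) ▸
      Nat.dvd_gcd (Subgroup.orderOf_dvd_natCard N hxN) h1))
  have hnorm : ∀ g : G, f g ∈ Subgroup.normalizer ((P.map f : Subgroup (G ⧸ N)) : Set (G ⧸ N)) →
      ∃ h ∈ Subgroup.normalizer (P : Set G), f h = f g := by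
    intro g hg
    set K := (P.map f).comap f
    have hPK : P ≤ K := Subgroup.le_comap_map _ _
    have hidx : ¬ p ∣ (P.subgroupOf K).index := by
      intro hd
      have hKN : K = N ⊔ P := by
        rw [sup_comm, ← QuotientGroup.ker_mk' N, ← Subgroup.comap_map_eq]
      have h2 : P.relIndex K ∣ Nat.card N := by
        have e1 : Nat.card P * P.relIndex K = Nat.card K := by
          rw [← Nat.card_congr (Subgroup.subgroupOfEquivOfLe hPK).toEquiv]
          exact Subgroup.card_mul_index _
        have e2 : Nat.card N * N.relIndex K = Nat.card K := by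
          have hNK : N ≤ K := hKN ▸ le_sup_left
          rw [← Nat.card_congr (Subgroup.subgroupOfEquivOfLe hNK).toEquiv]
          exact Subgroup.card_mul_index _
        have e3 : N.relIndex K ∣ Nat.card P := by
          rw [hKN, Subgroup.relIndex_sup_left]
          exact ⟨Nat.card ↥(N.subgroupOf P), by rw [Subgroup.relIndex, mul_comm, Subgroup.card_mul_index]⟩
        obtain ⟨c, hc⟩ := e3
        refine ⟨c, ?_⟩
        have hpos : 0 < N.relIndex K := Nat.pos_of_ne_zero fun h0 => by
          rw [h0, mul_zero] at e2; exact Nat.card_pos.ne e2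
        apply Nat.eq_of_mul_eq_mul_left hpos
        rw [mul_comm _ (Nat.card N), e2, ← e1, hc]
        ring
      have h3 : p ∣ Nat.gcd (Nat.card N) p := Nat.dvd_gcd (hd.trans h2) dvd_rfl
      rw [hN.gcd_eq_one] at h3
      exact hp.one_lt.ne' (Nat.dvd_one.1 h3)
    let S : Sylow p K := (hP.comap_subtype).toSylow hidx
    have hgP : P.map (MulAut.conj g).toMonoidHom ≤ K := by
      rintro _ ⟨x, hx, rfl⟩
      show f (g * x * g⁻¹) ∈ P.map f
      rw [map_mul, map_mul, map_inv]
      exact (Subgroup.mem_normalizer_iff.1 hg _).1 ⟨x, hx, rfl⟩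
    have hidx' : ¬ p ∣ ((P.map (MulAut.conj g).toMonoidHom).subgroupOf K).index := by
      intro hd
      apply hidx
      have e : ∀ Q : Subgroup G, Q ≤ K → Nat.card Q * (Q.subgroupOf K).index = Nat.card K := fun Q h => by
        rw [← Nat.card_congr (Subgroup.subgroupOfEquivOfLe h).toEquiv]
        exact Subgroup.card_mul_index _
      have e1 := e _ hPK
      have e2 := e _ hgP
      rw [Subgroup.card_map_of_injective (MulAut.conj g).injective, ← e1] at e2
      rwa [← Nat.eq_of_mul_eq_mul_left Nat.card_pos e2]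
    let S' : Sylow p K := ((hP.map (MulAut.conj g).toMonoidHom).comap_subtype).toSylow hidx'
    obtain ⟨⟨k, hk⟩, hk'⟩ := MulAction.exists_smul_eq K S' S
    have hkK : k ∈ K := hk
    obtain ⟨x, hx, hxk⟩ : ∃ x ∈ P, f x = f k := hk
    refine ⟨x⁻¹ * k * g, ?_, by rw [map_mul, map_mul, map_inv, hxk, inv_mul_cancel, one_mul]⟩
    rw [mul_assoc]
    refine Subgroup.mul_mem _ (Subgroup.le_normalizer (P.inv_mem hx)) ?_
    have hle : P.map (MulAut.conj (k * g)).toMonoidHom ≤ P := by
      rintro _ ⟨y, hy, rfl⟩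
      have hmem : k * g * y * (k * g)⁻¹ ∈ K := by
        rw [show k * g * y * (k * g)⁻¹ = k * (g * y * g⁻¹) * k⁻¹ by group]
        exact K.mul_mem (K.mul_mem hkK (hgP ⟨y, hy, rfl⟩)) (K.inv_mem hkK)
      have h0 : (⟨k * g * y * (k * g)⁻¹, hmem⟩ : K) ∈ (S : Subgroup K) := by
        rw [← hk', Sylow.coe_subgroup_smul]
        exact ⟨⟨g * y * g⁻¹, hgP ⟨y, hy, rfl⟩⟩, ⟨y, hy, rfl⟩, Subtype.ext (by
          show k * (g * y * g⁻¹) * k⁻¹ = _
          group)⟩
      exact h0
    have heq := Subgroup.eq_of_le_of_card_ge hle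
      (Subgroup.card_map_of_injective (MulAut.conj (k * g)).injective).ge
    refine Subgroup.mem_normalizer_iff.2 fun y => ⟨fun hy => hle ⟨y, hy, rfl⟩, fun hy => ?_⟩
    rw [← heq] at hy
    obtain ⟨z, hz, hz'⟩ := hy
    exact (MulAut.conj (k * g)).injective hz' ▸ hz
  constructor
  · refine le_antisymm (fun q hq => ?_) ?_
    · obtain ⟨g, rfl⟩ := QuotientGroup.mk'_surjective N q
      exact hnorm g hq
    · exact (Subgroup.le_normalizer_map (H := P) f)
  · refine le_antisymm (fun q hq => ?_) ?_
    · obtain ⟨g, rfl⟩ := QuotientGroup.mk'_surjective N q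
      obtain ⟨h, hh, hfh⟩ := hnorm g (Subgroup.centralizer_le_normalizer _ hq)
      refine ⟨h, Subgroup.mem_centralizer_iff.2 fun x hx => ?_, hfh⟩
      have h1 : h * x * h⁻¹ * x⁻¹ = 1 := hdisj _
        (P.mul_mem ((Subgroup.mem_normalizer_iff.1 hh x).1 hx) (P.inv_mem hx))
        ((QuotientGroup.eq_one_iff _).1 (by
          show f (h * x * h⁻¹ * x⁻¹) = 1
          rw [map_mul, map_mul, map_mul, map_inv, map_inv, hfh,
            ← Subgroup.mem_centralizer_iff.1 hq (f x) ⟨x, hx, rfl⟩]
          simp only [hf]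
          group))
      rw [mul_inv_eq_one, mul_inv_eq_iff_eq_mul] at h1
      exact h1.symm
    · rintro _ ⟨g, hg, rfl⟩
      refine Subgroup.mem_centralizer_iff.2 ?_
      rintro _ ⟨x, hx, rfl⟩
      rw [← map_mul, ← map_mul, Subgroup.mem_centralizer_iff.1 hg x hx]

end Cfsg.Agent.S3800
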