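import Cfsg.Statements.S3802
import Cfsg.Agent.Lib.PGroup.Wielandt

set_option autoImplicit false
open Cfsg

namespace Cfsg.Agent.S3802

/-- Let G be a finite group, M a maximal subgroup of G and N a subnormal subgroup of G contained in M. Then N is contained in every conjugate of M, that is, N lies in the core of M in G. -/
theorem result {G : Type*} [Group G] [Finite G] (M N : Subgroup G) (hM : IsCoatom M) (hN : N.IsSubnormal) (hNM : N ≤ M) :
    N ≤ Subgroup.normalCore M := by
  -- induction on the order of the quotient by a normal subgroup contained in `M`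
  suffices H : ∀ (n : ℕ) (K : Subgroup G) [K.Normal], Nat.card (G ⧸ K) = n → K ≤ M →
      N ≤ Subgroup.normalCore M from H _ ⊥ rfl bot_le
  intro n
  induction n using Nat.strong_induction_on with
  | _ n ih =>
    intro K _ hn hKM
    set f := QuotientGroup.mk' K with hf
    have hMbar : IsCoatom (M.map f) := by
      refine ⟨fun h => hM.1 ?_, fun L hL => ?_⟩
      · have := Subgroup.comap_map_eq f M
        rw [h, Subgroup.comap_top, QuotientGroup.ker_mk', sup_eq_left.2 hKM] at this
        exact this.symm
      · have h1 : M < L.comap f := by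
          refine lt_of_le_not_ge (Subgroup.map_le_iff_le_comap.1 hL.le) fun h => hL.not_ge ?_
          rw [← Subgroup.map_comap_eq_self_of_surjective (QuotientGroup.mk'_surjective K) L]
          exact Subgroup.map_mono h
        rw [← Subgroup.map_comap_eq_self_of_surjective (QuotientGroup.mk'_surjective K) L,
          hM.2 _ h1, Subgroup.map_top_of_surjective _ (QuotientGroup.mk'_surjective K)]
    haveI : Nontrivial (G ⧸ K) := by
      by_contra h
      rw [not_nontrivial_iff_subsingleton] at h
      exact hMbar.1 (Subsingleton.elim _ _)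
    obtain ⟨A, -, ⟨hAn, hAb⟩, hAmin⟩ := Finite.exists_le_minimal
      (p := fun A : Subgroup (G ⧸ K) => A.Normal ∧ A ≠ ⊥) (a := ⊤)
      ⟨inferInstance, top_ne_bot⟩
    haveI := hAn
    have hmin : ∀ L : Subgroup (G ⧸ K), L.Normal → L ≤ A → L = ⊥ ∨ L = A := fun L hL hLA => by
      rcases eq_or_ne L ⊥ with h | h
      · exact Or.inl h
      · exact Or.inr (le_antisymm hLA (hAmin ⟨hL, h⟩ hLA))
    by_cases hAM : A ≤ M.map f
    · have hK' : K ≤ A.comap f := by
        exact (QuotientGroup.ker_mk' K).ge.trans (Subgroup.ker_le_comap f A)
      have hlt : K < A.comap f := lt_of_le_not_ge hK' fun h => hAb (by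
        rw [← Subgroup.map_comap_eq_self_of_surjective (QuotientGroup.mk'_surjective K) A,
          Subgroup.map_eq_bot_iff, QuotientGroup.ker_mk']
        exact h)
      refine ih _ ?_ (A.comap f) rfl ?_
      · rw [← hn, ← Subgroup.index_eq_card, ← Subgroup.index_eq_card]
        exact Subgroup.index_strictAnti hlt
      · refine (Subgroup.comap_mono hAM).trans ?_
        rw [Subgroup.comap_map_eq, QuotientGroup.ker_mk', sup_eq_left.2 hKM]
    · have h := CfsgLib.PGroup.normalClosure_le_of_isSubnormal_of_isCoatom hMbar
        (hN.map (QuotientGroup.mk'_surjective K)) (Subgroup.map_mono hNM) hmin hAM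
      refine fun x hx g => ?_
      have h1 : f (g * x * g⁻¹) ∈ M.map f := by
        apply h
        rw [map_mul, map_mul, map_inv]
        exact Subgroup.normalClosure_normal.conj_mem _
          (Subgroup.subset_normalClosure (show f x ∈ N.map f from ⟨x, hx, rfl⟩)) _
      have h2 : g * x * g⁻¹ ∈ (M.map f).comap f := h1
      rwa [Subgroup.comap_map_eq, QuotientGroup.ker_mk', sup_eq_left.2 hKM] at h2

end Cfsg.Agent.S3802
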