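import Cfsg.Statements.S3803
import Cfsg.Agent.Lib.PGroup.MinimalAction

set_option autoImplicit false
open Cfsg

namespace Cfsg.Agent.S3803

open scoped Pointwise commutatorElement

/-- Let P be a 2-subgroup and A a subgroup of odd order of a finite group, with A normalizing P. Let D ≤ P with 1 < |D| < |P|. If every subgroup of P of order |D|, and also every subgroup of P of order 4 in case |D| = 2, is normalized by A, then A centralizes P. -/
theorem result {X : Type*} [Group X] [Finite X] (P A D : Subgroup X) (hP : IsPGroup 2 P) (hA : Odd (Nat.card A))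
    (hAP : A ≤ Subgroup.normalizer (P : Set X)) (hDP : D ≤ P) (hD1 : 1 < Nat.card D) (hD2 : Nat.card D < Nat.card P)
    (hinv : ∀ E : Subgroup X, E ≤ P → (Nat.card E = Nat.card D ∨ (Nat.card D = 2 ∧ Nat.card E = 4)) → A ≤ Subgroup.normalizer (E : Set X)) :
    A ≤ Subgroup.centralizer (P : Set X) := by
  classical
  haveI : Fact (Nat.Prime 2) := ⟨Nat.prime_two⟩
  suffices key : ∀ (n : ℕ) (Q : Subgroup X), Nat.card Q = n → Q ≤ P →
      A ≤ Subgroup.normalizer (Q : Set X) → Q ≤ Subgroup.centralizer (A : Set X) by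
    exact Subgroup.le_centralizer_iff.1 (key _ P rfl le_rfl hAP)
  intro n
  induction n using Nat.strong_induction_on with
  | _ n ih =>
  intro Q hn hQP hAQ
  subst hn
  by_contra hnc
  have hQ : IsPGroup 2 Q := hP.to_le hQP
  have hsub : ∀ K : Subgroup X, K < Q → A ≤ Subgroup.normalizer (K : Set X) →
      K ≤ Subgroup.centralizer (A : Set X) := fun K hK hAK =>
    ih _ (Set.Finite.card_lt_card (Set.toFinite _) hK) K rfl (hK.le.trans hQP) hAK
  have hcopQ : ∀ U : Subgroup X, U ≤ P → (Nat.card A).Coprime (Nat.card U) := fun U hU => by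
    obtain ⟨j, hj⟩ := IsPGroup.iff_card.1 (hP.to_le hU)
    rw [hj]
    exact (Nat.coprime_two_right.2 hA).pow_right j
  obtain ⟨hgen, hDQ, hfix, hsq, hexp⟩ := CfsgLib.PGroup.minimal_action hQ hAQ (hcopQ Q hQP) hsub hnc
  obtain ⟨k, hk⟩ := IsPGroup.iff_card.1 (hP.to_le hDP)
  have hk0 : k ≠ 0 := by rintro rfl; rw [pow_zero] at hk; omega
  obtain ⟨q, hq⟩ := IsPGroup.iff_card.1 hQ
  -- a cyclic `Q` is centralised
  have hnotcyc : ∀ x ∈ Q, Subgroup.zpowers x ≠ Q := by
    intro x hx e
    have hD : ⁅Q, Q⁆ = ⊥ := by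
      rw [← e]
      refine Subgroup.commutator_eq_bot_iff_le_centralizer.2 fun y hy => Subgroup.mem_centralizer_iff.2 fun z hz => ?_
      obtain ⟨i, rfl⟩ := Subgroup.mem_zpowers_iff.1 hy
      obtain ⟨j, rfl⟩ := Subgroup.mem_zpowers_iff.1 hz
      rw [← zpow_add, ← zpow_add, add_comm]
    have hx2 : x ^ 2 = 1 := by
      have := hsq x hx
      rwa [hD, Subgroup.mem_bot] at this
    have hd : Nat.card Q ∣ 2 := by rw [← e, Nat.card_zpowers]; exact orderOf_dvd_of_pow_eq_one hx2
    refine hnc ?_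
    rw [← e, Subgroup.zpowers_le, Subgroup.mem_centralizer_iff]
    intro a ha
    by_cases hx1 : x = 1
    · rw [hx1, mul_one, one_mul]
    have hmem : a * x * a⁻¹ ∈ Subgroup.zpowers x := e.symm ▸ CfsgLib.Solvable.normalizer_conj_mem (hAQ ha) hx
    obtain ⟨j, hj⟩ := mem_powers_iff_mem_zpowers.2 hmem
    have hj' : x ^ j = a * x * a⁻¹ := hj
    rcases Nat.even_or_odd j with ⟨i, rfl⟩ | ⟨i, rfl⟩
    · rw [← two_mul, pow_mul, hx2, one_pow, eq_comm, conj_eq_one_iff] at hj'
      exact absurd hj' hx1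
    · rw [pow_succ, pow_mul, hx2, one_pow, one_mul, eq_mul_inv_iff_mul_eq] at hj'
      exact hj'.symm
  by_cases hbig : q ≤ k
  · -- `Q` lies in a subgroup of order `2 |D|`
    obtain ⟨K, hK⟩ := IsPGroup.iff_card.1 hP
    have hkK : k + 1 ≤ K := by
      rw [hk, hK] at hD2
      exact (Nat.pow_lt_pow_iff_right Nat.one_lt_two).1 hD2
    obtain ⟨U', hU', hQU'⟩ := Sylow.exists_subgroup_card_pow_prime_le (G := ↥P) 2 (m := k + 1) (n := q)
      (H := Q.subgroupOf P) (hK ▸ pow_dvd_pow 2 hkK)
      (by rw [Nat.card_congr (Subgroup.subgroupOfEquivOfLe hQP).toEquiv, hq]) (by omega)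
    set U := U'.map P.subtype with hUdef
    have hUc : Nat.card U = 2 ^ (k + 1) := by rw [hUdef, Subgroup.card_map_of_injective P.subtype_injective, hU']
    have hUP : U ≤ P := Subgroup.map_subtype_le _
    have hQU : Q ≤ U := fun x hx => ⟨⟨x, hQP hx⟩, hQU' hx, rfl⟩
    have hU : IsPGroup 2 U := hP.to_le hUP
    haveI : Nontrivial U := by
      rw [Subgroup.nontrivial_iff_ne_bot]
      intro e
      rw [e, Subgroup.card_bot] at hUc
      have : 2 ≤ 2 ^ (k + 1) := Nat.le_self_pow k.succ_ne_zero 2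
      omega
    -- maximal subgroups of `U` are normalised
    have hmax : ∀ M : Subgroup U, IsCoatom M → M.index = 2 ∧ ∀ a ∈ A, ∀ y ∈ M.map U.subtype, a * y * a⁻¹ ∈ M.map U.subtype := by
      intro M hM
      have hi := CfsgLib.PGroup.index_of_isCoatom hU hM
      refine ⟨hi, fun a ha y hy => ?_⟩
      have hc : Nat.card (M.map U.subtype) = Nat.card D := by
        have h := M.card_mul_index
        rw [hi, hUc, pow_succ] at h
        rw [Subgroup.card_map_of_injective U.subtype_injective, hk]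
        omega
      exact CfsgLib.Solvable.normalizer_conj_mem (hinv _ ((Subgroup.map_subtype_le M).trans hUP) (Or.inl hc) ha) hy
    have hAU : A ≤ Subgroup.normalizer (U : Set X) := by
      refine CfsgLib.Solvable.le_normalizer_of_conj_mem fun a ha x hx => ?_
      obtain ⟨M, hM, hxM⟩ : ∃ M : Subgroup U, IsCoatom M ∧ Subgroup.zpowers (⟨x, hx⟩ : U) ≤ M := by
        refine (eq_top_or_exists_le_coatom _).resolve_left fun e => ?_
        have hUx : U = Subgroup.zpowers x := by
          have := congrArg (Subgroup.map U.subtype) e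
          rw [MonoidHom.map_zpowers, ← MonoidHom.range_eq_map, Subgroup.range_subtype] at this
          exact this.symm
        haveI : IsCyclic Q := by
          haveI : IsCyclic U := by rw [hUx]; infer_instance
          haveI : IsCyclic (Q.subgroupOf U) := Subgroup.isCyclic _
          exact isCyclic_of_surjective _ (Subgroup.subgroupOfEquivOfLe hQU).surjective
        obtain ⟨y, hy⟩ := (Subgroup.isCyclic_iff_exists_zpowers_eq_top Q).1 inferInstance
        exact hnotcyc y (hy ▸ Subgroup.mem_zpowers y) hy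
      exact Subgroup.map_subtype_le M ((hmax M hM).2 a ha x ⟨⟨x, hx⟩, hxM (Subgroup.mem_zpowers _), rfl⟩)
    have hcomm : ⁅U, A⁆ ≤ (frattini U).map U.subtype := by
      rw [Subgroup.commutator_le]
      intro x hx a ha
      have hxU : ⁅x, a⁆ ∈ U := by
        rw [show ⁅x, a⁆ = x * (a * x⁻¹ * a⁻¹) by simp only [commutatorElement_def]; group]
        exact U.mul_mem hx (CfsgLib.Solvable.normalizer_conj_mem (hAU ha) (U.inv_mem hx))
      refine ⟨⟨_, hxU⟩, ?_, rfl⟩
      show _ ∈ frattini U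
      rw [frattini, Order.radical]
      simp only [Subgroup.mem_iInf]
      intro M hM
      obtain ⟨hi, hMinv⟩ := hmax M hM
      have hy : a * x⁻¹ * a⁻¹ ∈ U := CfsgLib.Solvable.normalizer_conj_mem (hAU ha) (U.inv_mem hx)
      have e : (⟨_, hxU⟩ : U) = ⟨x, hx⟩ * ⟨_, hy⟩ := Subtype.ext (by simp only [commutatorElement_def, Subgroup.coe_mul]; group)
      rw [e, Subgroup.mul_mem_iff_of_index_two hi]
      constructor
      · intro hxM
        obtain ⟨z, hz, hz'⟩ := hMinv a ha x⁻¹ ⟨(⟨x, hx⟩ : U)⁻¹, M.inv_mem hxM, rfl⟩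
        rwa [show (⟨_, hy⟩ : U) = z from Subtype.ext hz'.symm]
      · intro hyM
        obtain ⟨z, hz, hz'⟩ := hMinv a⁻¹ (A.inv_mem ha) _ ⟨(⟨_, hy⟩ : U), hyM, rfl⟩
        rw [show (⟨x, hx⟩ : U) = z⁻¹ from Subtype.ext (by
          rw [InvMemClass.coe_inv]
          have hz'' : (z : X) = a⁻¹ * (a * x⁻¹ * a⁻¹) * a⁻¹⁻¹ := hz'
          rw [hz'']; group)]
        exact M.inv_mem hz
    have hUsol : Group.IsSolvable U := by haveI := hU.isNilpotent; infer_instance
    have hsup := CfsgLib.Solvable.commutator_sup_centralizer hAU (hcopQ U hUP) (Or.inr hUsol)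
    refine hnc (hQU.trans ?_)
    have htop : (Subgroup.centralizer (A : Set X)).subgroupOf U ⊔ frattini U = ⊤ := by
      rw [eq_top_iff]
      intro x _
      have hx : (x : X) ∈ ⁅U, A⁆ ⊔ (U ⊓ Subgroup.centralizer (A : Set X)) := hsup.symm ▸ x.2
      have hle : ⁅U, A⁆ ⊔ (U ⊓ Subgroup.centralizer (A : Set X)) ≤
          ((Subgroup.centralizer (A : Set X)).subgroupOf U ⊔ frattini U).map U.subtype :=
        sup_le (hcomm.trans (Subgroup.map_mono le_sup_right))
          (fun y hy => ⟨⟨y, hy.1⟩, Subgroup.mem_sup_left hy.2, rfl⟩)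
      obtain ⟨z, hz, hz'⟩ := hle hx
      rwa [show x = z from Subtype.ext hz'.symm]
    exact Subgroup.subgroupOf_eq_top.1 (CfsgLib.PGroup.eq_top_of_sup_frattini htop)
  · -- every element has order at most `4` and lies in a proper normalised subgroup
    push Not at hbig
    refine hnc fun x hx => ?_
    have hx4 : x ^ (2 * 2) = 1 := by rw [pow_mul]; exact hexp _ (hsq x hx)
    have hdvd : orderOf x ∣ 2 ^ 2 := by rw [sq]; exact orderOf_dvd_of_pow_eq_one hx4
    obtain ⟨j, hj, hxj⟩ := (Nat.dvd_prime_pow Nat.prime_two).1 hdvd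
    by_cases hjk : j ≤ k
    · obtain ⟨E', hE', hxE'⟩ := Sylow.exists_subgroup_card_pow_prime_le (G := ↥Q) 2 (m := k) (n := j)
        (H := Subgroup.zpowers (⟨x, hx⟩ : Q)) (hq ▸ pow_dvd_pow 2 hbig.le)
        (by rw [Nat.card_zpowers, Subgroup.orderOf_mk, hxj]) hjk
      have hc : Nat.card (E'.map Q.subtype) = Nat.card D := by
        rw [Subgroup.card_map_of_injective Q.subtype_injective, hE', hk]
      have hlt : E'.map Q.subtype < Q := lt_of_le_of_ne (Subgroup.map_subtype_le _) fun e => by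
        rw [e, hq, hk] at hc
        exact absurd (Nat.pow_right_injective le_rfl hc) (by omega)
      exact hsub _ hlt (hinv _ (hlt.le.trans hQP) (Or.inl hc)) ⟨⟨x, hx⟩, hxE' (Subgroup.mem_zpowers _), rfl⟩
    · have hj2 : j = 2 := by omega
      have hk1 : k = 1 := by omega
      have hle : Subgroup.zpowers x ≤ Q := Subgroup.zpowers_le.2 hx
      refine hsub _ (lt_of_le_of_ne hle (hnotcyc x hx)) (hinv _ (hle.trans hQP) (Or.inr ⟨by rw [hk, hk1, pow_one], ?_⟩)) (Subgroup.mem_zpowers x)
      rw [Nat.card_zpowers, hxj, hj2]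
      norm_num

end Cfsg.Agent.S3803
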