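import Cfsg.Statements.S3804
import Cfsg.Agent.Lib.PGroup.Counting

set_option autoImplicit false
open Cfsg

namespace Cfsg.Agent.S3804

/-- Let G and H be subgroups of a finite group with G normalizing H, fix a real number α > 0, and for a subgroup A of G put m(A) = |A|^α · |C_H(A)|. Let A and B be nontrivial subgroups of G at which m attains its maximum over all nontrivial subgroups of G, and assume that A ∩ B ≠ 1 or that this maximum is at least |H|. Then AB = BA is a subgroup at which m is again maximal, C_H(A ∩ B) = C_H(A) C_H(B), and if A ∩ B ≠ 1 then m is maximal at A ∩ B as well. -/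
theorem result {X : Type*} [Group X] [Finite X] (G H : Subgroup X) (hGH : G ≤ Subgroup.normalizer (H : Set X)) (α : ℝ) (hα : 0 < α)
    (A B : Subgroup X) (hA : A ≤ G) (hB : B ≤ G) (hA1 : A ≠ ⊥) (hB1 : B ≠ ⊥)
    (hAmax : ∀ A' : Subgroup X, A' ≤ G → A' ≠ ⊥ → (fun A : Subgroup X => ((Nat.card A : ℝ) ^ α) * (Nat.card ↥(H ⊓ Subgroup.centralizer (A : Set X)) : ℝ)) A' ≤ (fun A : Subgroup X => ((Nat.card A : ℝ) ^ α) * (Nat.card ↥(H ⊓ Subgroup.centralizer (A : Set X)) : ℝ)) A)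
    (hBmax : ∀ A' : Subgroup X, A' ≤ G → A' ≠ ⊥ → (fun A : Subgroup X => ((Nat.card A : ℝ) ^ α) * (Nat.card ↥(H ⊓ Subgroup.centralizer (A : Set X)) : ℝ)) A' ≤ (fun A : Subgroup X => ((Nat.card A : ℝ) ^ α) * (Nat.card ↥(H ⊓ Subgroup.centralizer (A : Set X)) : ℝ)) B)
    (hcase : A ⊓ B ≠ ⊥ ∨ (Nat.card H : ℝ) ≤ (fun A : Subgroup X => ((Nat.card A : ℝ) ^ α) * (Nat.card ↥(H ⊓ Subgroup.centralizer (A : Set X)) : ℝ)) A) :
    (∀ a ∈ A, ∀ b ∈ B, ∃ b' ∈ B, ∃ a' ∈ A, a * b = b' * a') ∧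
    (∀ A' : Subgroup X, A' ≤ G → A' ≠ ⊥ → (fun A : Subgroup X => ((Nat.card A : ℝ) ^ α) * (Nat.card ↥(H ⊓ Subgroup.centralizer (A : Set X)) : ℝ)) A' ≤ (fun A : Subgroup X => ((Nat.card A : ℝ) ^ α) * (Nat.card ↥(H ⊓ Subgroup.centralizer (A : Set X)) : ℝ)) (A ⊔ B)) ∧
    (∀ h ∈ H ⊓ Subgroup.centralizer ((A ⊓ B : Subgroup X) : Set X), ∃ u ∈ H ⊓ Subgroup.centralizer (A : Set X), ∃ v ∈ H ⊓ Subgroup.centralizer (B : Set X), h = u * v) ∧
    (A ⊓ B ≠ ⊥ → ∀ A' : Subgroup X, A' ≤ G → A' ≠ ⊥ → (fun A : Subgroup X => ((Nat.card A : ℝ) ^ α) * (Nat.card ↥(H ⊓ Subgroup.centralizer (A : Set X)) : ℝ)) A' ≤ (fun A : Subgroup X => ((Nat.card A : ℝ) ^ α) * (Nat.card ↥(H ⊓ Subgroup.centralizer (A : Set X)) : ℝ)) (A ⊓ B)) := by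
  set m : Subgroup X → ℝ := fun A => ((Nat.card A : ℝ) ^ α) *
    (Nat.card ↥(H ⊓ Subgroup.centralizer (A : Set X)) : ℝ) with hm
  change ∀ A' : Subgroup X, A' ≤ G → A' ≠ ⊥ → m A' ≤ m A at hAmax
  change ∀ A' : Subgroup X, A' ≤ G → A' ≠ ⊥ → m A' ≤ m B at hBmax
  change A ⊓ B ≠ ⊥ ∨ (Nat.card H : ℝ) ≤ m A at hcase
  have hpos : ∀ K : Subgroup X, 0 < (Nat.card K : ℝ) := fun K => Nat.cast_pos.2 Nat.card_pos
  have hmpos : ∀ K, 0 < m K := fun K => mul_pos (Real.rpow_pos_of_pos (hpos _) _) (hpos _)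
  have hAB : m A = m B := le_antisymm (hBmax A hA hA1) (hAmax B hB hB1)
  set CA := H ⊓ Subgroup.centralizer (A : Set X)
  set CB := H ⊓ Subgroup.centralizer (B : Set X)
  have hCinf : CA ⊓ CB = H ⊓ Subgroup.centralizer ((A ⊔ B : Subgroup X) : Set X) := by
    apply le_antisymm
    · rintro h ⟨⟨hh, ha⟩, ⟨_, hb⟩⟩
      refine ⟨hh, Subgroup.mem_centralizer_iff.2 fun g hg => ?_⟩
      have hle : A ⊔ B ≤ Subgroup.centralizer ({h} : Set X) := sup_le
        (fun a ha' => Subgroup.mem_centralizer_singleton_iff.2 (Subgroup.mem_centralizer_iff.1 ha a ha'))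
        (fun b hb' => Subgroup.mem_centralizer_singleton_iff.2 (Subgroup.mem_centralizer_iff.1 hb b hb'))
      exact Subgroup.mem_centralizer_singleton_iff.1 (hle hg)
    · exact le_inf (inf_le_inf_left _ (Subgroup.centralizer_le (fun a ha => Subgroup.mem_sup_left ha)))
        (inf_le_inf_left _ (Subgroup.centralizer_le (fun a ha => Subgroup.mem_sup_right ha)))
  have hCsup : CA ⊔ CB ≤ H ⊓ Subgroup.centralizer ((A ⊓ B : Subgroup X) : Set X) :=
    sup_le (inf_le_inf_left _ (Subgroup.centralizer_le (fun a ha => ha.1)))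
      (inf_le_inf_left _ (Subgroup.centralizer_le (fun a ha => ha.2)))
  set C0 := H ⊓ Subgroup.centralizer ((A ⊓ B : Subgroup X) : Set X)
  set C1 := H ⊓ Subgroup.centralizer ((A ⊔ B : Subgroup X) : Set X)
  have hn1 := CfsgLib.PGroup.card_mul_card_le_sup_inf A B
  have hn2 : Nat.card CA * Nat.card CB ≤ Nat.card C0 * Nat.card C1 := by
    refine (CfsgLib.PGroup.card_mul_card_le_sup_inf CA CB).trans ?_
    rw [hCinf]
    exact Nat.mul_le_mul_right _ (Subgroup.card_le_of_le hCsup)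
  set n : ℝ := (Nat.card A : ℝ) * Nat.card B with hn
  set N : ℝ := (Nat.card ↥(A ⊔ B) : ℝ) * Nat.card ↥(A ⊓ B) with hN
  set c : ℝ := (Nat.card CA : ℝ) * Nat.card CB with hc
  set C : ℝ := (Nat.card C0 : ℝ) * Nat.card C1 with hC
  have hnN : n ≤ N := by rw [hn, hN]; exact_mod_cast hn1
  have hcC : c ≤ C := by rw [hc, hC]; exact_mod_cast hn2
  have hnpos : 0 < n := mul_pos (hpos _) (hpos _)
  have hcpos : 0 < c := mul_pos (hpos _) (hpos _)
  have hprod : m A * m B = n ^ α * c := by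
    rw [hn, hc, Real.mul_rpow (hpos A).le (hpos B).le, hm]; ring
  have hprod' : m (A ⊔ B) * m (A ⊓ B) = N ^ α * C := by
    rw [hN, hC, Real.mul_rpow (hpos _).le (hpos _).le, hm]; ring
  have hsup : m (A ⊔ B) ≤ m A :=
    hAmax _ (sup_le hA hB) (fun h => hA1 (eq_bot_iff.2 (h ▸ le_sup_left)))
  have hinf : m (A ⊓ B) ≤ m A := by
    by_cases h0 : A ⊓ B = ⊥
    · rcases hcase with h | h
      · exact absurd h0 h
      · refine le_trans ?_ h
        rw [h0, hm]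
        simp only [Subgroup.card_bot, Nat.cast_one, Real.one_rpow, one_mul]
        exact_mod_cast Subgroup.card_le_of_le (inf_le_left : H ⊓ _ ≤ H)
    · exact hAmax _ (inf_le_left.trans hA) h0
  have key : n ^ α * c ≤ N ^ α * C := mul_le_mul (Real.rpow_le_rpow hnpos.le hnN hα.le) hcC
    hcpos.le (Real.rpow_nonneg (hnpos.le.trans hnN) _)
  rw [← hprod, ← hprod', ← hAB] at key
  have e1 : m (A ⊔ B) = m A := le_antisymm hsup (by nlinarith [hmpos A, hmpos (A ⊔ B), hmpos (A ⊓ B)])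
  have e2 : m (A ⊓ B) = m A := le_antisymm hinf (by nlinarith [hmpos A, hmpos (A ⊔ B), hmpos (A ⊓ B)])
  have heq : N ^ α * C = n ^ α * c := by rw [← hprod, ← hprod', ← hAB, e1, e2]
  have eC : C = c := by
    refine le_antisymm ?_ hcC
    by_contra h
    have h1 : n ^ α * c < n ^ α * C := mul_lt_mul_of_pos_left (not_le.1 h) (Real.rpow_pos_of_pos hnpos _)
    have h2 : n ^ α * C ≤ N ^ α * C :=
      mul_le_mul_of_nonneg_right (Real.rpow_le_rpow hnpos.le hnN hα.le) (hcpos.le.trans hcC)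
    linarith
  have eN : N = n := by
    refine le_antisymm ?_ hnN
    by_contra h
    rw [eC] at heq
    have h1 : n ^ α * c < N ^ α * c :=
      mul_lt_mul_of_pos_right (Real.rpow_lt_rpow hnpos.le (not_le.1 h) hα) hcpos
    linarith
  have hN' : Nat.card ↥(A ⊔ B) * Nat.card ↥(A ⊓ B) ≤ Nat.card A * Nat.card B := by
    have := eN.le; rw [hn, hN] at this; exact_mod_cast this
  have hC' : Nat.card C0 * Nat.card C1 ≤ Nat.card CA * Nat.card CB := by
    have := eC.le; rw [hc, hC] at this; exact_mod_cast this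
  refine ⟨fun a ha b hb => ?_, fun A' h1 h2 => (hAmax A' h1 h2).trans e1.ge, fun h hh => ?_,
    fun _ A' h1 h2 => (hAmax A' h1 h2).trans e2.ge⟩
  · obtain ⟨a', ha', b', hb', he⟩ := CfsgLib.PGroup.exists_mul_of_card_sup_inf_le hN'
      (Subgroup.inv_mem _ (Subgroup.mul_mem_sup ha hb))
    exact ⟨b'⁻¹, B.inv_mem hb', a'⁻¹, A.inv_mem ha', by rw [← mul_inv_rev, he, inv_inv]⟩
  · have hsupeq : CA ⊔ CB = C0 := by
      refine Subgroup.eq_of_le_of_card_ge hCsup ?_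
      have h3 := CfsgLib.PGroup.card_mul_card_le_sup_inf CA CB
      rw [hCinf] at h3
      exact Nat.le_of_mul_le_mul_right (hC'.trans h3) Nat.card_pos
    obtain ⟨u, hu, v, hv, he⟩ := CfsgLib.PGroup.exists_mul_of_card_sup_inf_le (A := CA) (B := CB)
      (by rw [hsupeq, hCinf]; exact hC') (x := h) (by rw [hsupeq]; exact hh)
    exact ⟨u, hu, v, hv, he.symm⟩

end Cfsg.Agent.S3804
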