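import Cfsg.Statements.S3805
import Cfsg.Agent.Lib.SmallGroups.NineLocal.Action

set_option autoImplicit false
open Cfsg

namespace Cfsg.Agent.S3805

/-- Let G be a finite group whose Sylow 3-subgroup T is elementary abelian of order 9 and self-centralizing, with N_G(T)/T a Klein four-group, and suppose that the centralizer of every nonidentity element of T lies in N_G(T). Then T is normal in G. -/
theorem result {G : Type*} [Group G] [Finite G]
    (T : Sylow 3 G) (hT : Cfsg.IsElementaryAbelian 3 (T : Subgroup G)) (hcard : Nat.card T = 9)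
    (hC : Subgroup.centralizer ((T : Subgroup G) : Set G) = T)
    [hn : ((T : Subgroup G).subgroupOf (Subgroup.normalizer ((T : Subgroup G) : Set G))).Normal]
    (hK : IsKleinFour (↥(Subgroup.normalizer ((T : Subgroup G) : Set G)) ⧸
      (T : Subgroup G).subgroupOf (Subgroup.normalizer ((T : Subgroup G) : Set G))))
    (hloc : ∀ t ∈ (T : Subgroup G), t ≠ 1 →
      Subgroup.centralizer ({t} : Set G) ≤ Subgroup.normalizer ((T : Subgroup G) : Set G)) :
    Subgroup.normalizer ((T : Subgroup G) : Set G) = ⊤ := by
  open CfsgLib.SmallGroups.NineLocal in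
  have h : Hyp T := ⟨hcard, fun m hm => hT.2 m hm, hC, hloc⟩
  rw [Subgroup.normalizer_eq_top_iff]
  have hidx : ((T : Subgroup G).subgroupOf (Subgroup.normalizer ((T : Subgroup G) : Set G))).index = 4 := by
    rw [Subgroup.index]; exact hK.card_four
  refine h.normal_of_klein ?_ fun n hn => ?_
  · rw [← Subgroup.card_mul_index ((T : Subgroup G).subgroupOf (Subgroup.normalizer ((T : Subgroup G) : Set G))),
      hidx, (Nat.card_congr (Subgroup.subgroupOfEquivOfLe Subgroup.le_normalizer).toEquiv).trans hcard]
  · have h2 := hK.exponent_two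
    have h3 := Monoid.pow_exponent_eq_one
      (QuotientGroup.mk (⟨n, hn⟩ : ↥(Subgroup.normalizer ((T : Subgroup G) : Set G))) :
        ↥(Subgroup.normalizer ((T : Subgroup G) : Set G)) ⧸
          (T : Subgroup G).subgroupOf (Subgroup.normalizer ((T : Subgroup G) : Set G)))
    rw [h2, pow_two, ← QuotientGroup.mk_mul, QuotientGroup.eq_one_iff] at h3
    exact h3

end Cfsg.Agent.S3805
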