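import Cfsg.Statements.S3806
import Mathlib
import Cfsg.Agent.Lib.Transfer.MaximalClass
import Cfsg.Agent.Lib.PGroup.Commutators
import Cfsg.Agent.Lib.PGroup.Extraspecial

set_option autoImplicit false
open Cfsg

namespace Cfsg.Agent.S3806

open Subgroup
open scoped commutatorElement

universe u

/-- `γ_i`, with `γ_1 = γ_0 = ⊤`. -/
def lc (X : Type u) [Group X] (i : ℕ) : Subgroup X := (⊤ : Subgroup X).lowerCentralSeries (i - 1)

section gen
variable {X : Type u} [Group X]

theorem lc_anti {i j : ℕ} (h : i ≤ j) : lc X j ≤ lc X i :=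
  Subgroup.lowerCentralSeries_antitone _ (Nat.sub_le_sub_right h 1)

theorem lc_one : lc X 1 = ⊤ := rfl

instance lc_normal (i : ℕ) : (lc X i).Normal := by unfold lc; infer_instance

theorem lc_succ {i : ℕ} (hi : 1 ≤ i) : lc X (i + 1) = ⁅lc X i, (⊤ : Subgroup X)⁆ := by
  obtain ⟨j, rfl⟩ : ∃ j, i = j + 1 := ⟨i - 1, by omega⟩
  exact Subgroup.lowerCentralSeries_succ _ j

theorem lc_add {i j : ℕ} (hi : 1 ≤ i) (hj : 1 ≤ j) : ⁅lc X i, lc X j⁆ ≤ lc X (i + j) := by
  obtain ⟨j, rfl⟩ : ∃ l, j = l + 1 := ⟨j - 1, by omega⟩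
  refine (CfsgLib.PGroup.commutator_lowerCentralSeries_le (G := X) j (lc X i)).trans (le_of_eq ?_)
  generalize j + 1 = r
  induction r with
  | zero => rfl
  | succ r ih => rw [Function.iterate_succ_apply', ih, ← add_assoc, lc_succ (by omega)]; rfl

theorem comm_mem {i j d : ℕ} (hi : 1 ≤ i) (hj : 1 ≤ j) (hd : d ≤ i + j) {a b : X}
    (ha : a ∈ lc X i) (hb : b ∈ lc X j) : ⁅a, b⁆ ∈ lc X d :=
  lc_anti hd (lc_add hi hj (commutator_mem_commutator ha hb))

/-- the centre of the quotient by `lc (d+1)` contains the image of `lc d`. -/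
theorem map_mk_mem_center {r d : ℕ} (hd : 1 ≤ d) (hr : r ≤ d + 1) {a : X} (ha : a ∈ lc X d) :
    QuotientGroup.mk' (lc X r) a ∈ center (X ⧸ lc X r) := by
  refine mem_center_iff.2 fun q => ?_
  obtain ⟨g, rfl⟩ := QuotientGroup.mk'_surjective _ q
  refine commutatorElement_eq_one_iff_mul_comm.1 ?_
  rw [← map_commutatorElement, QuotientGroup.mk'_apply, QuotientGroup.eq_one_iff]
  exact comm_mem (i := 1) le_rfl hd (by omega) (lc_one (X := X) ▸ mem_top g) ha

theorem mk_comm {N : Subgroup X} [N.Normal] {a b : X} (h : ⁅a, b⁆ ∈ N) :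
    Commute (QuotientGroup.mk' N a) (QuotientGroup.mk' N b) := by
  refine commutatorElement_eq_one_iff_mul_comm.1 ?_
  rw [← map_commutatorElement, QuotientGroup.mk'_apply, QuotientGroup.eq_one_iff]
  exact h

theorem commutator_le_of_gen {N A A' B B' : Subgroup X} [N.Normal] {a b : X}
    (hA : A ≤ zpowers a ⊔ A') (hB : B ≤ zpowers b ⊔ B') (hab : ⁅a, b⁆ ∈ N)
    (hA' : ⁅A', B⁆ ≤ N) (hB' : ∀ y ∈ B', ⁅a, y⁆ ∈ N) : ⁅A, B⁆ ≤ N := by
  have h1 : ∀ y ∈ B, ⁅a, y⁆ ∈ N := by
    intro y hy
    have hle : zpowers b ⊔ B' ≤ (centralizer ({QuotientGroup.mk' N a} : Set (X ⧸ N))).comap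
        (QuotientGroup.mk' N) := sup_le
      (zpowers_le.2 (mem_centralizer_singleton_iff.2 (mk_comm hab).eq.symm))
      (fun y hy => mem_centralizer_singleton_iff.2 (mk_comm (hB' y hy)).eq.symm)
    have h := mem_centralizer_singleton_iff.1 (hle (hB hy))
    rw [← QuotientGroup.eq_one_iff, ← QuotientGroup.mk'_apply, map_commutatorElement]
    exact commutatorElement_eq_one_iff_mul_comm.2 h.symm
  refine commutator_le.2 fun x hx y hy => ?_
  have hle : zpowers a ⊔ A' ≤ (centralizer ({QuotientGroup.mk' N y} : Set (X ⧸ N))).comap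
      (QuotientGroup.mk' N) := sup_le
    (zpowers_le.2 (mem_centralizer_singleton_iff.2 (mk_comm (h1 y hy)).eq))
    (fun z hz => mem_centralizer_singleton_iff.2
      (mk_comm (hA' (commutator_mem_commutator hz hy))).eq)
  have h := mem_centralizer_singleton_iff.1 (hle (hA hx))
  rw [← QuotientGroup.eq_one_iff, ← QuotientGroup.mk'_apply, map_commutatorElement]
  exact commutatorElement_eq_one_iff_mul_comm.2 h

theorem deriv_comm {Y : Type u} [Group Y] {s a b : Y} (h1 : Commute ⁅s, a⁆ ⁅a, b⁆)
    (h2 : Commute ⁅s, b⁆ ⁅a, b⁆) (h3 : ⁅a, ⁅s, b⁆⁆ ∈ center Y) (h4 : ⁅⁅s, a⁆, b⁆ ∈ center Y)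
    (h5 : ⁅⁅s, a⁆, ⁅s, b⁆⁆ ∈ center Y) :
    ⁅s, ⁅a, b⁆⁆ = ⁅a, ⁅s, b⁆⁆ * ⁅⁅s, a⁆, b⁆ * ⁅⁅s, a⁆, ⁅s, b⁆⁆ := by
  have e1 : s * ⁅a, b⁆ * s⁻¹ = ⁅⁅s, a⁆ * a, ⁅s, b⁆ * b⁆ := by
    simp only [commutatorElement_def]; group
  have e0 : ⁅a, ⁅s, b⁆ * b⁆ = ⁅a, ⁅s, b⁆⁆ * ⁅a, b⁆ := by
    rw [commutatorElement_mul_right_eq_mul_conj, mul_assoc ⁅a, ⁅s, b⁆⁆, mul_assoc ⁅a, ⁅s, b⁆⁆,
      h2.eq, mul_inv_cancel_right]
  have e2 : ⁅⁅s, a⁆, ⁅s, b⁆ * b⁆ = ⁅⁅s, a⁆, ⁅s, b⁆⁆ * ⁅⁅s, a⁆, b⁆ := by
    exact CfsgLib.PGroup.comm_mul_right h4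
  have c3 : ∀ g, Commute g ⁅a, ⁅s, b⁆⁆ := fun g => mem_center_iff.1 h3 g
  calc ⁅s, ⁅a, b⁆⁆ = (s * ⁅a, b⁆ * s⁻¹) * ⁅a, b⁆⁻¹ := by simp only [commutatorElement_def]
    _ = _ := by
      rw [e1, commutatorElement_mul_left_eq_conj_mul, e0, e2,
        ((c3 ⁅s, a⁆).mul_right h1).eq, mul_inv_cancel_right]
      have c4 : ∀ g, Commute g ⁅⁅s, a⁆, b⁆ := fun g => mem_center_iff.1 h4 g
      have c5 : ∀ g, Commute g ⁅⁅s, a⁆, ⁅s, b⁆⁆ := fun g => mem_center_iff.1 h5 g
      rw [mul_assoc ⁅a, ⁅s, b⁆⁆, mul_assoc ⁅a, ⁅s, b⁆⁆, mul_assoc ⁅a, ⁅s, b⁆⁆]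
      congr 1
      rw [((c5 _).mul_right (c4 _)).eq, mul_inv_cancel_right, (c5 _).eq]

theorem alternate {Y : Type u} [Group Y] (U : ℕ → Y) {N : ℕ}
    (h : ∀ i, 1 ≤ i → i < N → U i * U (i + 1) = 1) :
    ∀ i, 1 ≤ i → i ≤ N → U i = (U 1) ^ ((-1 : ℤ) ^ (i - 1)) := by
  intro i hi
  induction i, hi using Nat.le_induction with
  | base => intro _; simp
  | succ i hi ih =>
    intro hiN
    rw [eq_inv_of_mul_eq_one_right (h i hi (by omega)), ih (by omega), ← zpow_neg]
    congr 1
    rw [show i + 1 - 1 = (i - 1) + 1 by omega, pow_succ]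
    ring

/-- the iterated commutators `e, [s,e], [s,s,e], …`, indexed from `1`. -/
def eseq (s e : X) (i : ℕ) : X := (fun x => ⁅s, x⁆)^[i - 1] e

theorem eseq_succ (s e : X) {i : ℕ} (hi : 1 ≤ i) : eseq s e (i + 1) = ⁅s, eseq s e i⁆ := by
  obtain ⟨j, rfl⟩ : ∃ j, i = j + 1 := ⟨i - 1, by omega⟩
  exact Function.iterate_succ_apply' _ j e

theorem eseq_mem_lc (s e : X) : ∀ i, eseq s e i ∈ lc X i
  | 0 => lc_one (X := X) ▸ mem_top _
  | 1 => lc_one (X := X) ▸ mem_top _
  | i + 2 => by
    rw [eseq_succ s e (by omega), ← commutatorElement_inv, inv_mem_iff, lc_succ (by omega)]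
    exact commutator_mem_commutator (eseq_mem_lc s e (i + 1)) (mem_top s)

end gen

section maxclass
variable {X : Type u} [Group X] [Finite X] {p n : ℕ} [hp : Fact p.Prime]

/-- Standing hypotheses: order `p ^ n` and maximal class. -/
structure MC (X : Type u) [Group X] (p n : ℕ) : Prop where
  card : Nat.card X = p ^ n
  cls : Group.nilpotencyClass X = n - 1
  five : 5 ≤ n

theorem MC.pgroup (h : MC X p n) : IsPGroup p X := IsPGroup.of_card h.card

theorem MC.lc_card (h : MC X p n) {i : ℕ} (h2 : 2 ≤ i) (hi : i ≤ n) :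
    Nat.card (lc X i) = p ^ (n - i) := by
  have := h.five
  unfold lc
  rw [CfsgLib.Transfer.card_lowerCentralSeries h.card (by omega) h.cls (by omega) (by omega)]
  congr 1
  omega

theorem MC.lc_bot (h : MC X p n) {i : ℕ} (hi : n ≤ i) : lc X i = ⊥ := by
  refine eq_bot_iff.2 ((lc_anti hi).trans (le_of_eq ?_))
  have := h.five
  exact CfsgLib.Transfer.lowerCentralSeries_eq_bot h.card (by omega)

theorem MC.lc_lt (h : MC X p n) {i : ℕ} (h2 : 2 ≤ i) (hi : i < n) : ¬ lc X i ≤ lc X (i + 1) := by
  intro hle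
  have := card_le_of_le hle
  rw [h.lc_card h2 hi.le, h.lc_card (by omega) hi] at this
  have := (Nat.pow_le_pow_iff_right hp.out.one_lt).1 this
  omega

omit hp in
theorem gen_of_card [Fact p.Prime] (hX : IsPGroup p X) {A B : Subgroup X} (hAB : A ≤ B)
    (hc : Nat.card B = p * Nat.card A) {e : X} (he : e ∈ B) (heA : e ∉ A) :
    B ≤ zpowers e ⊔ A := by
  refine (eq_of_le_of_card_ge (sup_le (zpowers_le.2 he) hAB) ?_).ge
  rw [hc]
  exact CfsgLib.Transfer.prime_mul_card_le hX (lt_of_le_of_ne le_sup_right fun h =>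
    heA (h ▸ mem_sup_left (mem_zpowers e)))

theorem MC.lc_gen (h : MC X p n) {i : ℕ} (h2 : 2 ≤ i) (hi : i < n) {e : X} (he : e ∈ lc X i)
    (he' : e ∉ lc X (i + 1)) : lc X i ≤ zpowers e ⊔ lc X (i + 1) := by
  refine gen_of_card h.pgroup (lc_anti (by omega)) ?_ he he'
  rw [h.lc_card h2 hi.le, h.lc_card (by omega) hi, ← pow_succ']
  congr 1
  omega

theorem MC.pow_mem (h : MC X p n) {i : ℕ} (h2 : 2 ≤ i) (hi : i < n) {e : X} (he : e ∈ lc X i) :
    e ^ p ∈ lc X (i + 1) := by
  have hidx : ((lc X (i + 1)).subgroupOf (lc X i)).index = p := by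
    have := ((lc X (i + 1)).subgroupOf (lc X i)).card_mul_index
    rw [Nat.card_congr (subgroupOfEquivOfLe (lc_anti (by omega))).toEquiv, h.lc_card h2 hi.le,
      h.lc_card (by omega) hi, show p ^ (n - i) = p ^ (n - (i + 1)) * p by
        rw [← pow_succ]; congr 1; omega] at this
    exact Nat.eq_of_mul_eq_mul_left (pow_pos hp.out.pos _) this
  have := ((lc X (i + 1)).subgroupOf (lc X i)).pow_index_mem ⟨e, he⟩
  rw [hidx] at this
  exact this

/-- The two-step centralizer of `γ_j`. -/
def cent (X : Type u) [Group X] (j : ℕ) : Subgroup X :=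
  (centralizer ((lc X j).map (QuotientGroup.mk' (lc X (j + 2))) : Set (X ⧸ lc X (j + 2)))).comap
    (QuotientGroup.mk' (lc X (j + 2)))

theorem mem_cent {j : ℕ} {g : X} : g ∈ cent X j ↔ ∀ x ∈ lc X j, ⁅g, x⁆ ∈ lc X (j + 2) := by
  rw [cent, mem_comap, mem_centralizer_iff]
  constructor
  · intro h x hx
    rw [← QuotientGroup.eq_one_iff, ← QuotientGroup.mk'_apply, map_commutatorElement]
    exact commutatorElement_eq_one_iff_mul_comm.2 (h _ (mem_map_of_mem _ hx)).symm
  · rintro h _ ⟨x, hx, rfl⟩
    exact (mk_comm (h x hx)).eq.symm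

theorem MC.cent_ne_top (h : MC X p n) {j : ℕ} (h1 : 1 ≤ j) (hj : j + 1 < n) : cent X j ≠ ⊤ := by
  intro hT
  refine h.lc_lt (i := j + 1) (by omega) hj ?_
  rw [lc_succ h1, commutator_comm, commutator_le]
  exact fun g _ x hx => mem_cent.1 (hT ▸ mem_top g) x hx

theorem MC.cent_two_index (h : MC X p n) : (cent X 2).index = p := by
  have h5 := h.five
  set π := QuotientGroup.mk' (lc X 4) with hπ
  obtain ⟨e, he, he'⟩ := SetLike.not_le_iff_exists.1 (h.lc_lt (i := 2) le_rfl (by omega))
  set Z := (lc X 3).map π with hZ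
  have hZc : Z ≤ center (X ⧸ lc X 4) := by
    rintro _ ⟨x, hx, rfl⟩
    exact map_mk_mem_center (by omega) le_rfl hx
  have hZp : Nat.card Z = p := by
    have h1 := ((lc X 4).subgroupOf (lc X 3)).card_mul_index
    rw [Nat.card_congr (subgroupOfEquivOfLe (lc_anti (by omega : (3:ℕ) ≤ 4))).toEquiv,
      h.lc_card (by omega) (by omega), h.lc_card (by omega) (by omega),
      show p ^ (n - 3) = p ^ (n - 4) * p by rw [← pow_succ]; congr 1; omega] at h1
    have h2 := Nat.eq_of_mul_eq_mul_left (pow_pos hp.out.pos _) h1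
    have h3 : Z = ((QuotientGroup.mk' (lc X 4)).comp (lc X 3).subtype).range := by
      rw [MonoidHom.range_comp, range_subtype]
    rw [h3, ← index_ker]
    convert h2 using 2
    ext x
    simp [mem_subgroupOf, MonoidHom.mem_ker]
  have hC : cent X 2 = (centralizer ({π e} : Set (X ⧸ lc X 4))).comap π := by
    refine le_antisymm (fun g hg => mem_centralizer_singleton_iff.2
      (mem_centralizer_iff.1 hg _ (mem_map_of_mem _ he)).symm) fun g hg => ?_
    refine mem_centralizer_iff.2 ?_
    rintro _ ⟨x, hx, rfl⟩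
    have hle : lc X 2 ≤ (centralizer ({π g} : Set (X ⧸ lc X 4))).comap π := by
      refine (h.lc_gen le_rfl (by omega) he he').trans (sup_le (zpowers_le.2 ?_) ?_)
      · exact mem_centralizer_singleton_iff.2 (mem_centralizer_singleton_iff.1 hg).symm
      · intro z hz
        exact mem_centralizer_singleton_iff.2 (mem_center_iff.1 (hZc (mem_map_of_mem _ hz)) _).symm
    exact mem_centralizer_singleton_iff.1 (hle hx)
  have hne : ¬ (⊤ : Subgroup (X ⧸ lc X 4)) ≤ centralizer ({π e} : Set (X ⧸ lc X 4)) := fun hle =>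
    h.cent_ne_top (j := 2) (by omega) (by omega) (by
      rw [hC, eq_top_iff]; intro g _; exact hle (mem_top _))
  have hx : ∀ q ∈ (⊤ : Subgroup (X ⧸ lc X 4)), ⁅q, π e⁆ ∈ Z := by
    intro q _
    obtain ⟨g, rfl⟩ := QuotientGroup.mk'_surjective _ q
    rw [← map_commutatorElement]
    exact mem_map_of_mem _ (comm_mem (i := 1) le_rfl (by omega) le_rfl (lc_one (X := X) ▸ mem_top g) he)
  have hcard := CfsgLib.PGroup.card_inf_centralizer_mul (K := ⊤) hZc hZp hx hne
  rw [top_inf_eq, card_top] at hcard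
  rw [hC, index_comap_of_surjective _ (QuotientGroup.mk'_surjective _)]
  refine Nat.eq_of_mul_eq_mul_left (Nat.card_pos
    (α := centralizer ({π e} : Set (X ⧸ lc X 4)))) ?_
  rw [card_mul_index, hcard]

theorem lc_two_le_cent : lc X 2 ≤ cent X 2 :=
  fun _ hg => mem_cent.2 fun _ hx => comm_mem (by omega) (by omega) le_rfl hg hx

theorem MC.cent_gen (h : MC X p n) {e : X} (he : e ∈ cent X 2) (he' : e ∉ lc X 2) :
    cent X 2 ≤ zpowers e ⊔ lc X 2 := by
  have h5 := h.five
  refine gen_of_card h.pgroup lc_two_le_cent ?_ he he'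
  have := (cent X 2).card_mul_index
  rw [h.cent_two_index, h.card, show p ^ n = p * p ^ (n - 2) * p by
    rw [← pow_succ', ← pow_succ]; congr 1; omega] at this
  rw [h.lc_card le_rfl (by omega)]
  exact Nat.eq_of_mul_eq_mul_right hp.out.pos this

/-- `P_i` : `P_1 = cent 2` and `P_i = γ_i` above. -/
def Pser (X : Type u) [Group X] (i : ℕ) : Subgroup X := if i ≤ 1 then cent X 2 else lc X i

theorem Pser_le (i : ℕ) : Pser X i ≤ lc X i := by
  unfold Pser
  split_ifs with h
  · intro x _
    exact lc_anti h (lc_one (X := X) ▸ mem_top x)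
  · exact le_rfl

theorem lc_le_Pser {i : ℕ} (h : 2 ≤ i) : lc X i ≤ Pser X i := by
  unfold Pser; rw [if_neg (by omega)]

theorem Pser_one : Pser X 1 = cent X 2 := rfl

/-- The level `D` of the degree of commutativity. -/
def Level (X : Type u) [Group X] (D : ℕ) : Prop :=
  ∀ i j, 1 ≤ i → 1 ≤ j → i + j = D → ⁅Pser X i, Pser X j⁆ ≤ lc X (D + 1)

theorem MC.cent_eq (h : MC X p n) {j : ℕ} (hj : 2 ≤ j) (hjn : j + 1 < n)
    (hL : Level X (j + 1)) : cent X j = cent X 2 := by
  have hle : cent X 2 ≤ cent X j := fun g hg => mem_cent.2 fun x hx =>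
    hL 1 j le_rfl (by omega) (by omega)
      (commutator_mem_commutator (Pser_one (X := X) ▸ hg) (lc_le_Pser hj hx))
  refine (eq_of_le_of_card_ge hle ?_).symm
  have h1 := index_dvd_of_le hle
  rw [h.cent_two_index] at h1
  rcases (Nat.dvd_prime hp.out).1 h1 with h2 | h2
  · exact absurd (index_eq_one.1 h2) (h.cent_ne_top (by omega) hjn)
  · have e1 := (cent X 2).card_mul_index
    rw [h.cent_two_index, ← (cent X j).card_mul_index, h2] at e1
    exact (Nat.eq_of_mul_eq_mul_right hp.out.pos e1).ge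

theorem MC.exists_one (h : MC X p n) : ∃ e, e ∈ cent X 2 ∧ e ∉ lc X 2 := by
  refine SetLike.not_le_iff_exists.1 fun hle => ?_
  have h5 := h.five
  have := card_le_of_le hle
  have h1 := (cent X 2).card_mul_index
  rw [h.cent_two_index, h.card, show p ^ n = p ^ (n - 1) * p by rw [← pow_succ]; congr 1; omega] at h1
  rw [Nat.eq_of_mul_eq_mul_right hp.out.pos h1, h.lc_card le_rfl (by omega)] at this
  have := (Nat.pow_le_pow_iff_right hp.out.one_lt).1 this
  omega

theorem MC.eseq_not_mem (h : MC X p n) {s e : X} (hs : s ∉ cent X 2) (he : e ∈ cent X 2)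
    (he' : e ∉ lc X 2) :
    ∀ i, 1 ≤ i → i < n → (∀ r, 2 ≤ r → r < i → s ∉ cent X r) →
      eseq s e i ∉ lc X (i + 1) := by
  intro i hi
  induction i, hi using Nat.le_induction with
  | base => intro _ _; exact he'
  | succ i hi ih =>
    intro hin hr hmem
    rw [eseq_succ s e hi] at hmem
    rcases eq_or_lt_of_le hi with rfl | hi2
    · -- `X` would be abelian modulo `γ_3`
      change ⁅s, e⁆ ∈ lc X 3 at hmem
      set π := QuotientGroup.mk' (lc X 3)
      have htop : zpowers s ⊔ cent X 2 = ⊤ := by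
        have h1 := index_dvd_of_le (H := cent X 2) (K := zpowers s ⊔ cent X 2) le_sup_right
        rw [h.cent_two_index] at h1
        rcases (Nat.dvd_prime hp.out).1 h1 with h2 | h2
        · exact index_eq_one.1 h2
        · refine absurd (mem_sup_left (T := cent X 2) (mem_zpowers s)) ?_
          have e1 := (cent X 2).card_mul_index
          rw [h.cent_two_index, ← (zpowers s ⊔ cent X 2).card_mul_index, h2] at e1
          rw [← eq_of_le_of_card_ge (le_sup_right : cent X 2 ≤ zpowers s ⊔ cent X 2)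
            (Nat.eq_of_mul_eq_mul_right hp.out.pos e1).ge]
          exact hs
      have hlc2 : ∀ z ∈ lc X 2, π z ∈ center (X ⧸ lc X 3) := fun z hz =>
        map_mk_mem_center (by omega) le_rfl hz
      have hcent : cent X 2 ≤ (centralizer ({π s} : Set (X ⧸ lc X 3))).comap π := by
        refine (h.cent_gen he he').trans (sup_le (zpowers_le.2 ?_) fun z hz => ?_)
        · exact mem_centralizer_singleton_iff.2 (mk_comm hmem).eq.symm
        · exact mem_centralizer_singleton_iff.2 (mem_center_iff.1 (hlc2 z hz) _).symm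
      have hsc : π s ∈ center (X ⧸ lc X 3) := by
        refine mem_center_iff.2 fun q => ?_
        obtain ⟨g, rfl⟩ := QuotientGroup.mk'_surjective _ q
        have : zpowers s ⊔ cent X 2 ≤ (centralizer ({π s} : Set (X ⧸ lc X 3))).comap π :=
          sup_le (zpowers_le.2 (mem_centralizer_singleton_iff.2 rfl)) hcent
        exact mem_centralizer_singleton_iff.1 (this (htop.symm ▸ mem_top g))
      refine h.lc_lt (i := 2) le_rfl (by omega) ?_
      rw [show (2 : ℕ) = 1 + 1 from rfl, lc_succ le_rfl, lc_one]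
      have hgen : (⊤ : Subgroup X) ≤ zpowers s ⊔ (zpowers e ⊔ lc X 2) := by
        rw [← htop]; exact sup_le_sup_left (h.cent_gen he he') _
      refine commutator_le_of_gen hgen hgen ?_ ?_ ?_
      · rw [commutatorElement_self]; exact one_mem _
      · refine commutator_le_of_gen le_rfl hgen ?_ ?_ ?_
        · rw [← commutatorElement_inv]; exact inv_mem hmem
        · exact commutator_le.2 fun a ha b _ => comm_mem (by omega) le_rfl le_rfl ha
            (lc_one (X := X) ▸ mem_top b)
        · intro y hy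
          rcases mem_sup_of_normal_right.1 hy with ⟨a, ⟨l, rfl⟩, b, hb, rfl⟩
          rw [← QuotientGroup.eq_one_iff, ← QuotientGroup.mk'_apply, map_commutatorElement,
            map_mul, map_zpow]
          exact commutatorElement_eq_one_iff_mul_comm.2
            (((Commute.refl _).zpow_right l).mul_right (mem_center_iff.1 (hlc2 b hb) _)).eq
      · intro y _
        rw [← QuotientGroup.eq_one_iff, ← QuotientGroup.mk'_apply, map_commutatorElement]
        exact commutatorElement_eq_one_iff_mul_comm.2 (mem_center_iff.1 hsc _).symm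
    · refine hr i (by omega) (by omega) (mem_cent.2 fun x hx => ?_)
      have hgen := h.lc_gen (by omega) (by omega) (eseq_mem_lc s e i)
        (ih (by omega) fun r h2 h3 => hr r h2 (by omega))
      have : ⁅zpowers s, lc X i⁆ ≤ lc X (i + 2) :=
        commutator_le_of_gen (A' := ⊥) (by rw [sup_bot_eq]) hgen hmem (by simp)
          (fun y hy => comm_mem le_rfl (by omega) (by omega) (lc_one (X := X) ▸ mem_top s) hy)
      exact this (commutator_mem_commutator (mem_zpowers s) hx)

theorem eseq_mem_Pser {s e : X} (he : e ∈ cent X 2) {i : ℕ} (hi : 1 ≤ i) :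
    eseq s e i ∈ Pser X i := by
  rcases eq_or_lt_of_le hi with rfl | h
  · exact Pser_one (X := X) ▸ he
  · exact lc_le_Pser h (eseq_mem_lc s e i)

theorem MC.exists_avoid (h : MC X p n) (hp5 : 4 ≤ p) (A B : Subgroup X) (hA : A ≠ ⊤) (hB : B ≠ ⊤) :
    ∃ s, s ∉ cent X 2 ∧ s ∉ A ∧ s ∉ B := by
  classical
  haveI : Fintype X := Fintype.ofFinite X
  have hb : ∀ H : Subgroup X, H ≠ ⊤ →
      p * (Finset.univ.filter fun x => x ∈ H).card ≤ Fintype.card X := by
    intro H hH
    rw [← Fintype.card_subtype, ← Nat.card_eq_fintype_card, ← Nat.card_eq_fintype_card]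
    have := CfsgLib.Transfer.prime_mul_card_le h.pgroup (lt_top_iff_ne_top.2 hH)
    rwa [card_top] at this
  by_contra hcon
  push Not at hcon
  have hsub : (Finset.univ : Finset X) ⊆ (Finset.univ.filter fun x => x ∈ cent X 2) ∪
      ((Finset.univ.filter fun x => x ∈ A) ∪ (Finset.univ.filter fun x => x ∈ B)) := by
    intro x _
    simp only [Finset.mem_union, Finset.mem_filter, Finset.mem_univ, true_and]
    tauto
  have h1 := (Finset.card_le_card hsub).trans ((Finset.card_union_le _ _).trans
    (add_le_add_right (Finset.card_union_le _ _) _))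
  rw [Finset.card_univ] at h1
  have h2 := hb _ (h.cent_ne_top (j := 2) (by omega) (by have := h.five; omega))
  have h3 := hb A hA
  have h4 := hb B hB
  have h0 : 0 < Fintype.card X := Fintype.card_pos
  nlinarith

theorem MC.level_of_gens (h : MC X p n) {s e : X} (he : e ∈ cent X 2) (he' : e ∉ lc X 2)
    {D : ℕ} (hD : D ≤ n) (hne : ∀ i, 2 ≤ i → i < D → eseq s e i ∉ lc X (i + 1))
    (hu : ∀ i, 1 ≤ i → i < D → ⁅eseq s e i, eseq s e (D - i)⁆ ∈ lc X (D + 1)) : Level X D := by
  intro i j hi hj hij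
  have hgen : ∀ r, 1 ≤ r → r < D → Pser X r ≤ zpowers (eseq s e r) ⊔ lc X (r + 1) := by
    intro r hr hrD
    rcases eq_or_lt_of_le hr with rfl | h2
    · exact h.cent_gen he he'
    · unfold Pser
      rw [if_neg (by omega)]
      exact h.lc_gen h2 (by omega) (eseq_mem_lc s e r) (hne r h2 hrD)
  refine commutator_le_of_gen (hgen i hi (by omega)) (hgen j hj (by omega)) ?_ ?_ ?_
  · have := hu i hi (by omega)
    rwa [show D - i = j by omega] at this
  · exact commutator_le.2 fun a ha b hb => comm_mem (by omega) hj (by omega) ha (Pser_le j hb)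
  · exact fun y hy => comm_mem hi (by omega) (by omega) (eseq_mem_lc s e i) hy

/-- The products of consecutive `u`'s at level `D`, given level `D - 1`. -/
theorem u_rel {s e : X} (he : e ∈ cent X 2) {D : ℕ} (hD : 3 ≤ D) (hL : Level X (D - 1)) :
    ∀ i, 1 ≤ i → i < D - 1 →
      ⁅eseq s e i, eseq s e (D - i)⁆ * ⁅eseq s e (i + 1), eseq s e (D - (i + 1))⁆ ∈ lc X (D + 1) := by
  intro i hi hiD
  set π := QuotientGroup.mk' (lc X (D + 1))
  set a := eseq s e i with ha
  set b := eseq s e (D - (i + 1)) with hb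
  have hab : ⁅a, b⁆ ∈ lc X D := by
    have := hL i (D - (i + 1)) hi (by omega) (by omega)
      (commutator_mem_commutator (eseq_mem_Pser (s := s) he hi) (eseq_mem_Pser (s := s) he (by omega)))
    rwa [show D - 1 + 1 = D by omega] at this
  have hb' : eseq s e (D - i) = ⁅s, b⁆ := by
    rw [hb, show D - i = (D - (i + 1)) + 1 by omega, eseq_succ s e (by omega)]
  have ha' : eseq s e (i + 1) = ⁅s, a⁆ := eseq_succ s e hi
  have hcab : π ⁅a, b⁆ ∈ center _ := map_mk_mem_center (by omega) le_rfl hab
  have h3 : π ⁅a, ⁅s, b⁆⁆ ∈ center _ := map_mk_mem_center (d := D) (by omega) le_rfl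
    (comm_mem hi (by omega) (by omega) (eseq_mem_lc s e i) (hb' ▸ eseq_mem_lc s e (D - i)))
  have h4 : π ⁅⁅s, a⁆, b⁆ ∈ center _ := map_mk_mem_center (d := D) (by omega) le_rfl
    (comm_mem (i := i + 1) (by omega) (by omega) (by omega) (ha' ▸ eseq_mem_lc s e (i + 1))
      (eseq_mem_lc s e (D - (i + 1))))
  have h5 : π ⁅⁅s, a⁆, ⁅s, b⁆⁆ = 1 := by
    rw [QuotientGroup.mk'_apply, QuotientGroup.eq_one_iff]
    exact comm_mem (i := i + 1) (by omega) (by omega) (by omega) (ha' ▸ eseq_mem_lc s e (i + 1))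
      (hb' ▸ eseq_mem_lc s e (D - i))
  have h0 : π ⁅s, ⁅a, b⁆⁆ = 1 := by
    rw [map_commutatorElement]
    exact commutatorElement_eq_one_iff_mul_comm.2 (mem_center_iff.1 hcab _)
  simp only [map_commutatorElement] at hcab h3 h4 h5 h0
  rw [deriv_comm (mem_center_iff.1 hcab _) (mem_center_iff.1 hcab _) h3 h4
    (h5.symm ▸ one_mem _), h5, mul_one] at h0
  rw [← QuotientGroup.eq_one_iff, ← QuotientGroup.mk'_apply, hb', ha']
  simpa only [map_mul, map_commutatorElement] using h0

theorem MC.levels (h : MC X p n) {k : ℕ} (hn : n = 2 * k + 1) (hk : k + 2 ≤ p) :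
    ∀ D, 2 ≤ D → D ≤ 2 * k → Level X D := by
  have h5 := h.five
  obtain ⟨e, he, he'⟩ := h.exists_one
  intro D
  induction D using Nat.strong_induction_on with
  | _ D ih =>
    intro hD2 hDk
    have hcent : ∀ j, 2 ≤ j → j + 1 < D → cent X j = cent X 2 := fun j h2 hj =>
      h.cent_eq h2 (by omega) (ih (j + 1) hj (by omega) (by omega))
    rcases Nat.lt_or_ge D 4 with hD4 | hD4
    · -- small levels
      intro i j hi hj hij
      rcases (show D = 2 ∨ D = 3 by omega) with rfl | rfl
      · obtain ⟨rfl, rfl⟩ : i = 1 ∧ j = 1 := by omega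
        refine commutator_le_of_gen (h.cent_gen he he') (h.cent_gen he he')
          (by rw [commutatorElement_self]; exact one_mem _) ?_ ?_
        · exact commutator_le.2 fun a ha b hb => comm_mem (by omega) le_rfl le_rfl ha
            (lc_one (X := X) ▸ mem_top b)
        · exact fun y hy => comm_mem le_rfl (by omega) le_rfl (lc_one (X := X) ▸ mem_top e) hy
      · rcases (show i = 1 ∧ j = 2 ∨ i = 2 ∧ j = 1 by omega) with ⟨rfl, rfl⟩ | ⟨rfl, rfl⟩
        · exact commutator_le.2 fun a ha b hb => mem_cent.1 ha b (Pser_le 2 hb)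
        · rw [commutator_comm]
          exact commutator_le.2 fun a ha b hb => mem_cent.1 ha b (Pser_le 2 hb)
    obtain ⟨s, hs, hsA, hsB⟩ := h.exists_avoid (by omega) (cent X (D - 1))
      (if D + 1 < n then cent X D else cent X (D - 1))
      (h.cent_ne_top (by omega) (by omega)) (by
        split_ifs with hlt
        · exact h.cent_ne_top (by omega) hlt
        · exact h.cent_ne_top (by omega) (by omega))
    have hnot : ∀ r, 2 ≤ r → r < D → s ∉ cent X r := by
      intro r h2 hr
      rcases eq_or_lt_of_le (show r ≤ D - 1 by omega) with rfl | hr'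
      · exact hsA
      · rw [hcent r h2 (by omega)]; exact hs
    have hne : ∀ i, 2 ≤ i → i ≤ D → eseq s e i ∉ lc X (i + 1) := fun i h2 hi =>
      h.eseq_not_mem hs he he' i (by omega) (by omega) fun r hr hri => hnot r hr (by omega)
    refine h.level_of_gens he he' (by omega) (fun i h2 hi => hne i h2 hi.le) ?_
    have hLprev : Level X (D - 1) := ih (D - 1) (by omega) (by omega) (by omega)
    set U : ℕ → X ⧸ lc X (D + 1) := fun i =>
      QuotientGroup.mk' (lc X (D + 1)) ⁅eseq s e i, eseq s e (D - i)⁆ with hU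
    have hUrel : ∀ i, 1 ≤ i → i < D - 1 → U i * U (i + 1) = 1 := fun i hi hiD => by
      simp only [hU]
      rw [← map_mul, QuotientGroup.mk'_apply, QuotientGroup.eq_one_iff]
      exact u_rel he (by omega) hLprev i hi hiD
    have halt := alternate U hUrel
    suffices hU1 : U 1 = 1 by
      intro i hi hiD
      have := halt i hi (by omega)
      rw [hU1, one_zpow] at this
      exact (QuotientGroup.eq_one_iff _).1 this
    rcases Nat.even_or_odd' D with ⟨m, rfl | rfl⟩
    · -- even level
      have h1 := halt m (by omega) (by omega)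
      have h2 : U m = 1 := by
        simp only [hU]
        rw [show 2 * m - m = m by omega, commutatorElement_self, map_one]
      rw [h2] at h1
      rcases neg_one_pow_eq_or ℤ (m - 1) with hpm | hpm <;> rw [hpm] at h1
      · rwa [zpow_one, eq_comm] at h1
      · rwa [zpow_neg_one, eq_comm, inv_eq_one] at h1
    · -- odd level `2 m + 1`
      set D := 2 * m + 1 with hDdef
      have hDn : D + 1 < n := by omega
      rw [if_pos hDn] at hsB
      have heD : eseq s e (D + 1) ∉ lc X (D + 2) := h.eseq_not_mem hs he he' (D + 1) (by omega)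
        (by omega) fun r hr hrD => by
          rcases eq_or_lt_of_le (show r ≤ D by omega) with rfl | hr'
          · exact hsB
          · exact hnot r hr hr'
      set π := QuotientGroup.mk' (lc X (D + 2)) with hπ
      set E : ℕ → X ⧸ lc X (D + 2) := fun i => π (eseq s e i) with hE
      set S := π s
      have hcen : ∀ {d : ℕ} {x : X}, D + 1 ≤ d → x ∈ lc X d → π x ∈ center (X ⧸ lc X (D + 2)) :=
        fun {d x} hd hx => map_mk_mem_center (by omega) le_rfl (lc_anti hd hx)
      have hSE : ∀ i, 1 ≤ i → ⁅S, E i⁆ = E (i + 1) := fun i hi => by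
        simp only [hE, S]; rw [← map_commutatorElement, eseq_succ s e hi]
      set U2 : ℕ → X ⧸ lc X (D + 2) := fun i => π ⁅eseq s e i, eseq s e (D - i)⁆ with hU2
      have hu_mem : ∀ i, 1 ≤ i → i < D → ⁅eseq s e i, eseq s e (D - i)⁆ ∈ lc X D := fun i hi hiD =>
        comm_mem hi (by omega) (by omega) (eseq_mem_lc s e i) (eseq_mem_lc s e _)
      have hcomm : ∀ g : X, ∀ i, 1 ≤ i → i < D → ⁅π g, U2 i⁆ ∈ center (X ⧸ lc X (D + 2)) :=
        fun g i hi hiD => by
        simp only [hU2]; rw [← map_commutatorElement]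
        exact hcen (d := 1 + D) (by omega)
          (comm_mem le_rfl (by omega) le_rfl (lc_one (X := X) ▸ mem_top g) (hu_mem i hi hiD))
      -- commutation of `U2 i * U2 (i+1)` with everything
      have hUU : ∀ g : X, ∀ i, 1 ≤ i → i < D - 1 → ⁅π g, U2 i⁆ * ⁅π g, U2 (i + 1)⁆ = 1 := by
        intro g i hi hiD
        rw [← CfsgLib.PGroup.comm_mul_right (hcomm g (i + 1) (by omega) (by omega))]
        refine commutatorElement_eq_one_iff_mul_comm.2 (mem_center_iff.1 ?_ _)
        simp only [hU2]
        rw [← map_mul]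
        exact hcen le_rfl (u_rel he (by omega) hLprev i hi hiD)
      set W : ℕ → X ⧸ lc X (D + 2) := fun i => ⁅S, U2 i⁆ with hW
      have hWalt := alternate W (fun i hi hiD => hUU s i hi hiD)
      set V : ℕ → X ⧸ lc X (D + 2) := fun i => π ⁅eseq s e i, eseq s e (D + 1 - i)⁆ with hV
      have hVc : ∀ i, 1 ≤ i → i ≤ D → V i ∈ center (X ⧸ lc X (D + 2)) := fun i hi hiD => by
        simp only [hV]
        exact hcen le_rfl (comm_mem hi (by omega) (by omega) (eseq_mem_lc s e i) (eseq_mem_lc s e _))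
      have hVrel : ∀ i, 1 ≤ i → i < D → V i * V (i + 1) = W i := by
        intro i hi hiD
        have ea : ⁅S, E i⁆ = E (i + 1) := hSE i hi
        have eb : ⁅S, E (D - i)⁆ = E (D + 1 - i) := by
          rw [hSE _ (by omega), show D - i + 1 = D + 1 - i by omega]
        have eu : U2 i = ⁅E i, E (D - i)⁆ := by simp only [hU2, hE, map_commutatorElement]
        have key := deriv_comm (s := S) (a := E i) (b := E (D - i)) ?_ ?_ ?_ ?_ ?_
        · rw [ea, eb] at key
          simp only [hW, hV]
          rw [eu, key, map_commutatorElement, map_commutatorElement,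
            show D + 1 - (i + 1) = D - i by omega]
          have : ⁅E (i + 1), E (D + 1 - i)⁆ = 1 := by
            simp only [hE]
            rw [← map_commutatorElement, QuotientGroup.mk'_apply, QuotientGroup.eq_one_iff]
            exact comm_mem (by omega) (by omega) (by omega) (eseq_mem_lc s e _) (eseq_mem_lc s e _)
          rw [this, mul_one]
        · rw [ea, ← eu]
          simp only [hE, hU2]
          refine mk_comm (comm_mem (i := i + 1) (by omega) (by omega) (by omega)
            (eseq_mem_lc s e _) (hu_mem i hi hiD))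
        · rw [eb, ← eu]
          simp only [hE, hU2]
          refine mk_comm (comm_mem (i := D + 1 - i) (by omega) (by omega) (by omega)
            (eseq_mem_lc s e _) (hu_mem i hi hiD))
        · rw [eb]; simp only [hE]; rw [← map_commutatorElement]
          exact hcen le_rfl (comm_mem hi (by omega) (by omega) (eseq_mem_lc s e _) (eseq_mem_lc s e _))
        · rw [ea]; simp only [hE]; rw [← map_commutatorElement]
          exact hcen le_rfl (comm_mem (by omega) (by omega) (by omega) (eseq_mem_lc s e _) (eseq_mem_lc s e _))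
        · rw [ea, eb]; simp only [hE]; rw [← map_commutatorElement]
          exact hcen le_rfl (comm_mem (by omega) (by omega) (by omega) (eseq_mem_lc s e _) (eseq_mem_lc s e _))
      have hW1c : W 1 ∈ center (X ⧸ lc X (D + 2)) := hcomm s 1 le_rfl (by omega)
      have hVform : ∀ i, 1 ≤ i → i ≤ m + 1 →
          V i = (V 1 * (W 1) ^ (-((i : ℤ) - 1))) ^ ((-1 : ℤ) ^ (i - 1)) := by
        intro i hi
        induction i, hi using Nat.le_induction with
        | base => intro _; simp
        | succ i hi ihi =>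
          intro hiD
          rw [show i + 1 - 1 = (i - 1) + 1 by omega, pow_succ]
          rw [show V (i + 1) = (V i)⁻¹ * W i by rw [← hVrel i hi (by omega), inv_mul_cancel_left],
            hWalt i hi (by omega), ihi (by omega)]
          have hc : Commute (V 1) (W 1) := mem_center_iff.1 hW1c _
          rw [(hc.zpow_right _).mul_zpow, (hc.zpow_right _).mul_zpow, mul_inv_rev, ← zpow_neg,
            ← zpow_mul, ← zpow_mul, ← zpow_neg]
          push_cast
          rw [((hc.zpow_zpow _ _).eq).symm, mul_assoc, ← zpow_add]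
          congr 1
          · congr 1; ring
          · congr 1; ring
      have hV1 : V 1 = (W 1) ^ (m : ℤ) := by
        have h1 := hVform (m + 1) (by omega) le_rfl
        have h2 : V (m + 1) = 1 := by
          simp only [hV]
          rw [show D + 1 - (m + 1) = m + 1 by omega, commutatorElement_self, map_one]
        rw [h2, show m + 1 - 1 = m by omega] at h1
        push_cast at h1
        rw [add_sub_cancel_right] at h1
        rcases neg_one_pow_eq_or ℤ m with hpm | hpm <;> rw [hpm] at h1
        · rw [zpow_one, eq_comm, zpow_neg, mul_inv_eq_one] at h1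
          exact h1
        · rw [zpow_neg_one, eq_comm, inv_eq_one, zpow_neg, mul_inv_eq_one] at h1
          exact h1
      -- `u 1` modulo `γ_{D+1}`
      obtain ⟨a, ha, z, hz, hu1⟩ : ∃ a ∈ zpowers (eseq s e D), ∃ z ∈ lc X (D + 1),
          a * z = ⁅eseq s e 1, eseq s e (D - 1)⁆ :=
        mem_sup_of_normal_right.1 (h.lc_gen (by omega) (by omega) (eseq_mem_lc s e D)
          (hne D (by omega) le_rfl) (hu_mem 1 le_rfl (by omega)))
      obtain ⟨c, rfl⟩ := (isOfFinOrder_of_finite (eseq s e D)).mem_powers_iff_mem_zpowers.2 ha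
      change eseq s e D ^ c * z = _ at hu1
      have hU21 : ∀ g : X, ⁅π g, U2 1⁆ = ⁅π g, E D⁆ ^ c := by
        intro g
        simp only [hU2, hE]
        rw [← hu1, map_mul, map_pow]
        have hzc : π z ∈ center (X ⧸ lc X (D + 2)) := hcen le_rfl hz
        have h1 : ⁅π g, π z⁆ = 1 :=
          commutatorElement_eq_one_iff_mul_comm.2 (mem_center_iff.1 hzc _)
        rw [CfsgLib.PGroup.comm_mul_right (h1.symm ▸ one_mem _), h1, mul_one,
          CfsgLib.PGroup.comm_pow_right]
        rw [← map_commutatorElement]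
        exact hcen (d := 1 + D) (by omega)
          (comm_mem le_rfl (by omega) le_rfl (lc_one (X := X) ▸ mem_top g) (eseq_mem_lc s e D))
      set w := E (D + 1) with hw
      have hW1 : W 1 = w ^ c := by
        show ⁅S, U2 1⁆ = _
        rw [hU21, hSE D (by omega)]
      -- commutation with `e 1`
      have he1 : ⁅E 1, U2 2⁆ = 1 := by
        have ha' : ⁅e, eseq s e 2⁆ ∈ lc X 4 := mem_cent.1 he _ (eseq_mem_lc s e 2)
        have hb' : ⁅e, eseq s e (D - 2)⁆ ∈ lc X D := by
          have := hLprev 1 (D - 2) le_rfl (by omega) (by omega)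
            (commutator_mem_commutator (Pser_one (X := X) ▸ he) (eseq_mem_Pser (s := s) he (i := D - 2) (by omega)))
          rwa [show D - 1 + 1 = D by omega] at this
        have eE1 : E 1 = π e := rfl
        have eu : U2 2 = ⁅E 2, E (D - 2)⁆ := by simp only [hU2, hE, map_commutatorElement]
        have e3 : ⁅E 2, ⁅E 1, E (D - 2)⁆⁆ = 1 := by
          simp only [eE1, hE]; rw [← map_commutatorElement, ← map_commutatorElement,
            QuotientGroup.mk'_apply, QuotientGroup.eq_one_iff]
          exact comm_mem (i := 2) (by omega) (by omega) (by omega) (eseq_mem_lc s e 2) hb'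
        have e4 : ⁅⁅E 1, E 2⁆, E (D - 2)⁆ = 1 := by
          simp only [eE1, hE]; rw [← map_commutatorElement, ← map_commutatorElement,
            QuotientGroup.mk'_apply, QuotientGroup.eq_one_iff]
          exact comm_mem (i := 4) (by omega) (by omega) (by omega) ha' (eseq_mem_lc s e _)
        have e5 : ⁅⁅E 1, E 2⁆, ⁅E 1, E (D - 2)⁆⁆ = 1 := by
          simp only [eE1, hE]; rw [← map_commutatorElement, ← map_commutatorElement,
            ← map_commutatorElement, QuotientGroup.mk'_apply, QuotientGroup.eq_one_iff]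
          exact comm_mem (i := 4) (by omega) (by omega) (by omega) ha' hb'
        rw [eu, deriv_comm (h3 := e3.symm ▸ one_mem _) (h4 := e4.symm ▸ one_mem _)
          (h5 := e5.symm ▸ one_mem _), e3, e4, e5, one_mul, one_mul]
        · rw [← eu]; simp only [hU2, hE, eE1, ← map_commutatorElement]
          exact mk_comm (comm_mem (i := 4) (by omega) (by omega) (by omega) ha' (hu_mem 2 (by omega) (by omega)))
        · rw [← eu]; simp only [hU2, hE, eE1, ← map_commutatorElement]
          exact mk_comm (comm_mem (i := D) (by omega) (by omega) (by omega) hb' (hu_mem 2 (by omega) (by omega)))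
      have he2 : ⁅E 1, U2 1⁆ = 1 := by
        have := hUU (eseq s e 1) 1 le_rfl (by omega)
        rw [show π (eseq s e 1) = E 1 from rfl, he1, mul_one] at this
        exact this
      rw [show E 1 = π (eseq s e 1) from rfl, hU21,
        show ⁅π (eseq s e 1), E D⁆ = V 1 by
          simp only [hV, hE, map_commutatorElement, show D + 1 - 1 = D by omega],
        hV1, hW1, ← zpow_natCast w c, ← zpow_mul, ← zpow_natCast, ← zpow_mul] at he2
      have hwp : orderOf w = p := by
        refine orderOf_eq_prime ?_ fun h1 => heD ((QuotientGroup.eq_one_iff _).1 h1)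
        simp only [hw, hE]
        rw [← map_pow, QuotientGroup.mk'_apply, QuotientGroup.eq_one_iff]
        exact h.pow_mem (by omega) hDn (eseq_mem_lc s e (D + 1))
      have hdvd := orderOf_dvd_iff_zpow_eq_one.2 he2
      rw [hwp] at hdvd
      have hpc : p ∣ c := by
        have h1 : p ∣ c * m * c := by exact_mod_cast hdvd
        rcases hp.out.dvd_mul.1 h1 with h2 | h2
        · rcases hp.out.dvd_mul.1 h2 with h3 | h3
          · exact h3
          · exact absurd (Nat.le_of_dvd (by omega) h3) (by omega)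
        · exact h2
      simp only [hU]
      rw [QuotientGroup.mk'_apply, QuotientGroup.eq_one_iff, ← hu1]
      obtain ⟨q, rfl⟩ := hpc
      rw [pow_mul]
      exact mul_mem (_root_.pow_mem (h.pow_mem (by omega) (by omega) (eseq_mem_lc s e D)) q) hz

/-- The middle term is abelian of exponent `p`. -/
theorem MC.middle (h : MC X p n) {k : ℕ} (hn : n = 2 * k + 1) (hk : k + 2 ≤ p) :
    (∀ a ∈ lc X k, ∀ b ∈ lc X k, a * b = b * a) ∧ ∀ a ∈ lc X k, a ^ p = 1 := by
  classical
  have h5 := h.five
  have hk2 : 2 ≤ k := by omega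
  have hL := h.levels hn hk
  have hab : ∀ a ∈ lc X k, ∀ b ∈ lc X k, a * b = b * a := by
    intro a ha b hb
    refine commutatorElement_eq_one_iff_mul_comm.1 ?_
    have := hL (2 * k) (by omega) le_rfl k k (by omega) (by omega) (by omega)
      (commutator_mem_commutator (lc_le_Pser hk2 ha) (lc_le_Pser hk2 hb))
    rw [h.lc_bot (by omega)] at this
    exact mem_bot.1 this
  refine ⟨hab, ?_⟩
  obtain ⟨s, hs, -, -⟩ := h.exists_avoid (by omega) (cent X 2) (cent X 2)
    (h.cent_ne_top (by omega) (by omega)) (h.cent_ne_top (by omega) (by omega))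
  have hnot : ∀ r, 2 ≤ r → r < 2 * k → s ∉ cent X r := fun r h2 hr => by
    rw [h.cent_eq h2 (by omega) (hL (r + 1) (by omega) (by omega))]; exact hs
  have hsp : s ^ p ∈ lc X 2 := by
    rw [show lc X 2 = _root_.commutator X from Subgroup.top_lowerCentralSeries_one]
    refine CfsgLib.Transfer.pow_prime_mem_commutator h.pgroup (fun hc => ?_)
      (CfsgLib.Transfer.index_commutator_eq_sq h.card (by omega) h.cls) s
    exact h.lc_lt (i := 2) le_rfl (by omega) (by
      rw [show (2 : ℕ) = 1 + 1 from rfl, lc_succ le_rfl, lc_one]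
      exact commutator_le.2 fun a _ b _ => by
        rw [commutatorElement_eq_one_iff_mul_comm.2 (IsMulCommutative.is_comm.comm a b)]
        exact one_mem _)
  have hspZ : ∀ j, 2 ≤ j → j ≤ 2 * k → s ^ p ∈ lc X j := by
    intro j hj
    induction j, hj using Nat.le_induction with
    | base => intro _; exact hsp
    | succ j hj ih =>
      intro hjk
      by_contra hnm
      refine hnot j hj (by omega) (mem_cent.2 fun x hx => ?_)
      have : ⁅zpowers s, lc X j⁆ ≤ lc X (j + 2) :=
        commutator_le_of_gen (A' := ⊥) (by rw [sup_bot_eq])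
          (h.lc_gen hj (by omega) (ih (by omega)) hnm)
          (by rw [commutatorElement_eq_one_iff_mul_comm.2 ((Commute.refl s).pow_right p).eq]
              exact one_mem _) (by simp)
          (fun y hy => comm_mem le_rfl (by omega) (by omega) (lc_one (X := X) ▸ mem_top s) hy)
      exact this (commutator_mem_commutator (mem_zpowers s) hx)
  have hspc : ∀ g : X, ⁅s ^ p, g⁆ = 1 := by
    intro g
    have := comm_mem (d := 2 * k + 1) (by omega) le_rfl le_rfl (hspZ (2 * k) (by omega) le_rfl)
      (lc_one (X := X) ▸ mem_top g)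
    rwa [h.lc_bot (by omega), mem_bot] at this
  obtain ⟨e, he, he'⟩ := h.exists_one
  haveI : IsMulCommutative ↥(lc X k) := ⟨⟨fun a b => Subtype.ext (hab a a.2 b b.2)⟩⟩
  letI : CommGroup ↥(lc X k) :=
    { (inferInstance : Group ↥(lc X k)) with mul_comm := fun a b => Subtype.ext (hab a a.2 b b.2) }
  suffices ∀ r, ∀ j, k ≤ j → n ≤ j + r → ∀ a ∈ lc X j, a ^ p = 1 by
    exact this n k le_rfl (by omega)
  intro r
  induction r with
  | zero =>
    intro j _ hj a ha
    rw [h.lc_bot (by omega), mem_bot] at ha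
    rw [ha, one_pow]
  | succ r ih =>
    intro j hj hjn a ha
    rcases Nat.lt_or_ge j n with hjn' | hjn'
    swap
    · rw [h.lc_bot hjn', mem_bot] at ha
      rw [ha, one_pow]
    have hnm : eseq s e j ∉ lc X (j + 1) := h.eseq_not_mem hs he he' j (by omega) hjn'
      fun r' h2 hr => hnot r' h2 (by omega)
    let c : ℕ → ↥(lc X k) := fun l =>
      ⟨eseq s e (j + l), lc_anti (by omega) (eseq_mem_lc s e (j + l))⟩
    set b := eseq s e (j - 1) with hb
    have hbs : ⁅s, b⁆ = eseq s e j := by
      rw [hb, ← eseq_succ s e (by omega), show j - 1 + 1 = j by omega]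
    have hcbig : ∀ l, n ≤ j + l → c l = 1 := fun l hl => Subtype.ext (by
      have := eseq_mem_lc s e (j + l)
      rwa [h.lc_bot hl, mem_bot] at this)
    let φ : ↥(lc X k) →* ↥(lc X k) :=
      MonoidHom.mk' (fun x => ⟨s * x * s⁻¹, (lc_normal k).conj_mem _ x.2 s⟩)
        (fun x y => Subtype.ext (by simp))
    have hφc : ∀ l, φ (c l) = c (l + 1) * c l := fun l => Subtype.ext (by
      show s * eseq s e (j + l) * s⁻¹ = eseq s e (j + (l + 1)) * eseq s e (j + l)
      rw [← add_assoc, eseq_succ s e (by omega), commutatorElement_def, inv_mul_cancel_right])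
    have hexp : ∀ i, i ≤ p →
        ⁅s ^ i, b⁆ = ((∏ l ∈ Finset.range p, c l ^ i.choose (l + 1) : ↥(lc X k)) : X) := by
      intro i
      induction i with
      | zero => intro _; simp
      | succ i ihi =>
        intro hi
        rw [pow_succ', commutatorElement_mul_left_eq_conj_mul, ihi (by omega), hbs]
        have hc0 : ((c 0 : ↥(lc X k)) : X) = eseq s e j := rfl
        rw [← hc0]
        change ((φ _ : ↥(lc X k)) : X) * _ = _
        rw [← Subgroup.coe_mul]
        congr 1
        rw [map_prod]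
        simp only [map_pow, hφc, mul_pow, Finset.prod_mul_distrib, Nat.choose_succ_succ, pow_add]
        obtain ⟨p', hp'⟩ : ∃ p', p = p' + 1 := ⟨p - 1, by omega⟩
        have hs1 : (∏ l ∈ Finset.range p, c (l + 1) ^ i.choose (l + 1)) * c 0 =
            ∏ l ∈ Finset.range p, c l ^ i.choose l := by
          have h1 := Finset.prod_range_succ' (fun l => c l ^ i.choose l) p
          rw [Finset.prod_range_succ, hcbig p (by omega), one_pow, mul_one] at h1
          rw [h1]; simp
        rw [← hs1]
        ac_rfl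
    have hfin := hexp p le_rfl
    rw [hspc, eq_comm, OneMemClass.coe_eq_one,
      Finset.prod_eq_single (a := 0) (fun l hl hl0 => ?_)
        (fun hh => absurd (Finset.mem_range.2 (show 0 < p by omega)) hh), zero_add,
      Nat.choose_one_right] at hfin
    · -- conclusion
      have h0 : eseq s e j ^ p = 1 := congrArg Subtype.val hfin
      rcases mem_sup_of_normal_right.1 (h.lc_gen (by omega) hjn' (eseq_mem_lc s e j) hnm ha) with
        ⟨x, ⟨i, rfl⟩, y, hy, rfl⟩
      have hcom : Commute (eseq s e j ^ i) y :=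
        (show Commute (eseq s e j) y from hab _ (lc_anti hj (eseq_mem_lc s e j)) _
          (lc_anti (by omega) hy)).zpow_left i
      show ((eseq s e j) ^ i * y) ^ p = 1
      rw [hcom.mul_pow, ih (j + 1) (by omega) (by omega) y hy, mul_one, ← zpow_natCast, zpow_comm,
        zpow_natCast, h0, one_zpow]
    · rw [Finset.mem_range] at hl
      rcases eq_or_lt_of_le (show l + 1 ≤ p by omega) with hlp | hlp
      · rw [hcbig l (by omega), one_pow]
      · obtain ⟨q, hq⟩ := hp.out.dvd_choose_self (Nat.succ_ne_zero l) hlp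
        rw [hq, pow_mul]
        have : c l ^ p = 1 := Subtype.ext (ih (j + l) (by omega) (by omega) _ (eseq_mem_lc s e (j + l)))
        rw [this, one_pow]

theorem sectional_lift {S : Type u} [Group S] {r : ℕ} (h : Cfsg.SectionalPRankLE p r S)
    (N : Subgroup S) [N.Normal] : Cfsg.PRankLE p r (S ⧸ N) := by
  intro A hA hAe
  set N' : Subgroup (⊤ : Subgroup S) := N.subgroupOf ⊤
  let f : (⊤ : Subgroup S) ⧸ N' →* S ⧸ N :=
    QuotientGroup.map N' N (⊤ : Subgroup S).subtype (fun x hx => hx)
  have hf : Function.Bijective f := by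
    constructor
    · intro a b hab
      obtain ⟨a, rfl⟩ := QuotientGroup.mk'_surjective _ a
      obtain ⟨b, rfl⟩ := QuotientGroup.mk'_surjective _ b
      exact QuotientGroup.eq.2 (QuotientGroup.eq.1 hab : (a : S)⁻¹ * b ∈ N)
    · intro q
      obtain ⟨g, rfl⟩ := QuotientGroup.mk'_surjective _ q
      exact ⟨QuotientGroup.mk' _ ⟨g, mem_top g⟩, rfl⟩
  have hcard : Nat.card (A.comap f) = Nat.card A := by
    rw [← card_map_of_injective (f := f) (K := A.comap f) hf.1, map_comap_eq_self_of_surjective hf.2]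
  rw [← hcard]
  refine h ⊤ N' (A.comap f) ⟨⟨fun a b => Subtype.ext (hf.1 ?_)⟩⟩ fun a ha => hf.1 ?_
  · simp only [Subgroup.coe_mul, map_mul]
    exact congrArg Subtype.val (hA.is_comm.comm (⟨_, a.2⟩ : ↥A) ⟨_, b.2⟩)
  · rw [map_pow, map_one]
    exact hAe _ ha

end maxclass

/-- Let p be a prime and S a finite p-group of order pⁿ (n ≥ 2) of maximal nilpotency class n − 1 whose sectional p-rank is exactly k (every section has p-rank at most k, and some section has p-rank k). If p ≥ k + 2 then the order of S is at most p^(2k). -/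
theorem result {S : Type*} [Group S] [Finite S] (p : ℕ) [Fact p.Prime] (hS : IsPGroup p S) [Group.IsNilpotent S]
    (n : ℕ) (hn : 2 ≤ n) (hcard : Nat.card S = p ^ n) (hmax : Group.nilpotencyClass S = n - 1)
    (k : ℕ) (hk : 1 ≤ k) (hsr : Cfsg.SectionalPRankLE p k S ∧ ¬ Cfsg.SectionalPRankLE p (k - 1) S)
    (hpk : k + 2 ≤ p) : Nat.card S ≤ p ^ (2 * k) := by
  by_contra hcon
  rw [not_le] at hcon
  have hlt : 2 * k < n := by
    rw [hcard] at hcon
    exact (Nat.pow_lt_pow_iff_right (Fact.out : p.Prime).one_lt).1 hcon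
  have hpP : p.Prime := Fact.out
  rcases Nat.lt_or_ge k 2 with hk1 | hk2
  · -- the Frattini quotient has rank two
    obtain rfl : k = 1 := by omega
    have hnc : ¬ IsCyclic S := fun hc => by
      have : IsMulCommutative S := ⟨⟨fun a b => by
        obtain ⟨g, hg⟩ := hc.exists_generator
        obtain ⟨i, rfl⟩ := hg a
        obtain ⟨j, rfl⟩ := hg b
        exact (Commute.zpow_zpow (Commute.refl g) i j).eq⟩⟩
      have h1 : (⊤ : Subgroup S).lowerCentralSeries 1 = ⊥ := by
        rw [Subgroup.top_lowerCentralSeries_one, _root_.commutator_def, eq_bot_iff, commutator_le]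
        intro a _ b _
        exact commutatorElement_eq_one_iff_mul_comm.2 (this.is_comm.comm a b)
      have := Subgroup.lowerCentralSeries_eq_bot_iff_nilpotencyClass_le.1 h1
      omega
    have hidx := CfsgLib.Transfer.index_commutator_eq_sq hcard hn hmax
    have h1 := sectional_lift hsr.1 (_root_.commutator S) ⊤ ⟨⟨fun a b => Subtype.ext (by
        obtain ⟨x, hx⟩ := QuotientGroup.mk'_surjective _ (a : S ⧸ _root_.commutator S)
        obtain ⟨y, hy⟩ := QuotientGroup.mk'_surjective _ (b : S ⧸ _root_.commutator S)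
        simp only [Subgroup.coe_mul, ← hx, ← hy]
        exact (mk_comm (by rw [_root_.commutator_def]; exact commutator_mem_commutator (mem_top x) (mem_top y))).eq)⟩⟩
      (fun q _ => by
        obtain ⟨x, rfl⟩ := QuotientGroup.mk'_surjective _ q
        rw [← map_pow, QuotientGroup.mk'_apply, QuotientGroup.eq_one_iff]
        exact CfsgLib.Transfer.pow_prime_mem_commutator hS hnc hidx x)
    rw [card_top, ← index_eq_card, hidx] at h1
    have := (Nat.pow_le_pow_iff_right hpP.one_lt).1 h1
    omega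
  set N := (⊤ : Subgroup S).lowerCentralSeries (2 * k) with hN
  haveI : N.Normal := by rw [hN]; infer_instance
  have hNcard : Nat.card N = p ^ (n - 1 - 2 * k) :=
    CfsgLib.Transfer.card_lowerCentralSeries hcard hn hmax (by omega) (by omega)
  have hQ : Nat.card (S ⧸ N) = p ^ (2 * k + 1) := by
    have h1 := N.card_mul_index
    rw [hNcard, hcard, index_eq_card, show n = (n - 1 - 2 * k) + (2 * k + 1) by omega, pow_add,
      show (n - 1 - 2 * k) + (2 * k + 1) - 1 - 2 * k = n - 1 - 2 * k by omega] at h1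
    exact Nat.eq_of_mul_eq_mul_left (pow_pos hpP.pos _) h1
  have := (IsPGroup.of_card hQ).isNilpotent
  have hcls : Group.nilpotencyClass (S ⧸ N) = 2 * k + 1 - 1 := by
    refine le_antisymm (CfsgLib.Transfer.nilpotencyClass_le_of_card hQ (by omega)) ?_
    by_contra hlow
    have h1 : (⊤ : Subgroup (S ⧸ N)).lowerCentralSeries (2 * k - 1) = ⊥ :=
      Subgroup.lowerCentralSeries_eq_bot_iff_nilpotencyClass_le.2 (by omega)
    rw [← map_top_of_surjective _ (QuotientGroup.mk'_surjective N), ← Subgroup.map_lowerCentralSeries,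
      Subgroup.map_eq_bot_iff, QuotientGroup.ker_mk'] at h1
    have h2 := card_le_of_le h1
    rw [hNcard, CfsgLib.Transfer.card_lowerCentralSeries hcard hn hmax (by omega) (by omega)] at h2
    have := (Nat.pow_le_pow_iff_right hpP.one_lt).1 h2
    omega
  have hMC : MC (S ⧸ N) p (2 * k + 1) := ⟨hQ, hcls, by omega⟩
  obtain ⟨hab, hexp⟩ := hMC.middle rfl hpk
  have hcA := sectional_lift hsr.1 N (lc (S ⧸ N) k) ⟨⟨fun a b => Subtype.ext (hab a a.2 b b.2)⟩⟩ hexp
  rw [hMC.lc_card hk2 (by omega)] at hcA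
  have := (Nat.pow_le_pow_iff_right hpP.one_lt).1 hcA
  omega

end Cfsg.Agent.S3806
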