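import Cfsg.Statements.S3807
import Cfsg.Agent.Lib.PGroup.PrimeIndex
import Cfsg.Agent.Lib.PGroup.ElemAbelian

set_option autoImplicit false
open Cfsg

namespace Cfsg.Agent.S3807

open scoped commutatorElement

/-- Let S be a non-abelian finite p-group with an abelian subgroup A of index p. Then [S : Z(S)] = p·#[S,S], and either [S,S] has order p, S/Z(S) is elementary abelian of order p², and S has exactly p + 1 abelian subgroups of index p; or [S,S] has order at least p² and A is the only abelian subgroup of index p in S. -/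
theorem result {S : Type*} [Group S] [Finite S] (p : ℕ) [Fact p.Prime] (hS : IsPGroup p S) (hna : ¬ IsMulCommutative S)
    (A : Subgroup S) (hA : IsMulCommutative ↥A) (hAi : A.index = p) :
    (Subgroup.center S).index = p * Nat.card (commutator S) ∧
      ((Nat.card (commutator S) = p ∧ Cfsg.IsElementaryAbelian p (⊤ : Subgroup (S ⧸ Subgroup.center S)) ∧
          Nat.card (S ⧸ Subgroup.center S) = p ^ 2 ∧
          Nat.card {B : Subgroup S // IsMulCommutative ↥B ∧ B.index = p} = p + 1) ∨
        (p ^ 2 ≤ Nat.card (commutator S) ∧ ∀ B : Subgroup S, IsMulCommutative ↥B → B.index = p → B = A)) := by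
  classical
  have hp : p.Prime := Fact.out
  have hidx := CfsgLib.PGroup.index_center_eq hS hna hA hAi
  refine ⟨hidx, ?_⟩
  have hne : commutator S ≠ ⊥ := fun h => hna ⟨⟨fun a b => commutatorElement_eq_one_iff_mul_comm.1 (by
    rw [← Subgroup.mem_bot, ← h]
    exact Subgroup.commutator_mem_commutator (Subgroup.mem_top a) (Subgroup.mem_top b))⟩⟩
  obtain ⟨k, hk⟩ := IsPGroup.iff_card.1 (hS.to_subgroup (commutator S))
  have hk0 : k ≠ 0 := by rintro rfl; exact hne (Subgroup.eq_bot_of_card_eq _ (by simpa using hk))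
  rcases eq_or_ne k 1 with rfl | hk1
  · left
    rw [pow_one] at hk
    have hQ : Nat.card (S ⧸ Subgroup.center S) = p ^ 2 := by
      rw [← Subgroup.index_eq_card, hidx, hk, sq]
    have he : ∀ x : S ⧸ Subgroup.center S, x ^ p = 1 := by
      intro x
      obtain ⟨i, hi, hxi⟩ := (Nat.dvd_prime_pow hp).1 (hQ ▸ orderOf_dvd_natCard x)
      rcases Nat.lt_or_ge i 2 with h | h
      · exact orderOf_dvd_iff_pow_eq_one.1 (hxi ▸ (Nat.pow_dvd_pow p (by omega : i ≤ 1)).trans (by simp))
      · exfalso
        haveI : IsCyclic (S ⧸ Subgroup.center S) :=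
          isCyclic_of_orderOf_eq_card x (by rw [hxi, hQ, show i = 2 by omega])
        exact hna ⟨⟨commutative_of_cyclic_center_quotient (QuotientGroup.mk' (Subgroup.center S))
          (by rw [QuotientGroup.ker_mk'])⟩⟩
    refine ⟨hk, ⟨⟨⟨fun a b => Subtype.ext (IsPGroup.commutative_of_card_eq_prime_sq hQ a.1 b.1)⟩⟩,
      fun a _ => he a⟩, hQ, ?_⟩
    rw [← CfsgLib.PGroup.card_subgroups_prime_of_sq hQ he]
    set f := QuotientGroup.mk' (Subgroup.center S) with hf
    have hfs : Function.Surjective f := QuotientGroup.mk'_surjective _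
    have hZB : ∀ B : Subgroup S, IsMulCommutative ↥B → B.index = p → Subgroup.center S ≤ B :=
      fun B hB hBi => CfsgLib.PGroup.center_le_of_abelian_index hna hB hBi
    refine Nat.card_congr (Equiv.ofBijective (fun B => ⟨B.1.map f, ?_⟩) ⟨?_, ?_⟩)
    · have h1 : (B.1.map f).index = p := by
        rw [Subgroup.index_map_eq B.1 hfs (by rw [hf, QuotientGroup.ker_mk']; exact hZB _ B.2.1 B.2.2), B.2.2]
      have h2 := Subgroup.card_mul_index (B.1.map f)
      rw [h1, hQ, sq] at h2
      exact Nat.eq_of_mul_eq_mul_right hp.pos h2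
    · intro B C h
      have h' : B.1.map f = C.1.map f := congrArg Subtype.val h
      refine Subtype.ext ?_
      have e : ∀ D : Subgroup S, Subgroup.center S ≤ D → (D.map f).comap f = D := fun D hD =>
        Subgroup.comap_map_eq_self (by rw [hf, QuotientGroup.ker_mk']; exact hD)
      rw [← e _ (hZB _ B.2.1 B.2.2), h', e _ (hZB _ C.2.1 C.2.2)]
    · rintro ⟨K, hK⟩
      refine ⟨⟨K.comap f, ?_, ?_⟩, Subtype.ext (Subgroup.map_comap_eq_self_of_surjective hfs K)⟩
      · haveI : IsCyclic K := isCyclic_of_prime_card hK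
        obtain ⟨⟨q, hq⟩, hgen⟩ := IsCyclic.exists_generator (α := K)
        obtain ⟨b, hb⟩ := hfs q
        refine ⟨⟨fun x y => Subtype.ext ?_⟩⟩
        have dec : ∀ u ∈ K.comap f, ∃ i : ℤ, ∃ z ∈ Subgroup.center S, u = b ^ i * z := by
          intro u hu
          obtain ⟨i, hi⟩ := Subgroup.mem_zpowers_iff.1 (hgen ⟨f u, hu⟩)
          refine ⟨i, (b ^ i)⁻¹ * u, ?_, by group⟩
          rw [← QuotientGroup.eq_one_iff]
          show f ((b ^ i)⁻¹ * u) = 1
          rw [map_mul, map_inv, map_zpow, hb, ← show q ^ i = f u from congrArg Subtype.val hi,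
            inv_mul_cancel]
        obtain ⟨i, z, hz, hx⟩ := dec _ x.2
        obtain ⟨j, w, hw, hy⟩ := dec _ y.2
        show (x : S) * y = y * x
        rw [hx, hy]
        have c1 : Commute z (b ^ j) := (Subgroup.mem_center_iff.1 hz _).symm
        have c2 : Commute w (b ^ i) := (Subgroup.mem_center_iff.1 hw _).symm
        have c3 : Commute z w := (Subgroup.mem_center_iff.1 hz _).symm
        exact (((Commute.zpow_zpow_self b i j).mul_right c2.symm).mul_left (c1.mul_right c3)).eq
      · rw [Subgroup.index_comap_of_surjective _ hfs]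
        refine Nat.eq_of_mul_eq_mul_left hp.pos ?_
        conv_lhs => rw [← hK]
        rw [Subgroup.card_mul_index, hQ, sq]
  · right
    refine ⟨hk ▸ Nat.pow_le_pow_right hp.pos (by omega), fun B hB hBi => ?_⟩
    by_contra hne'
    have hcA := CfsgLib.PGroup.isCoatom_of_index_prime (A := A) (hAi ▸ hp)
    have hcB := CfsgLib.PGroup.isCoatom_of_index_prime (A := B) (hBi ▸ hp)
    have htop : A ⊔ B = ⊤ := hcA.2 _ (lt_of_le_of_ne le_sup_left fun h => hne' (by
      have hBA : B ≤ A := h ▸ le_sup_right
      exact (hcB.le_iff.1 hBA).resolve_left hcA.1 |>.symm))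
    have hle : A ⊓ B ≤ Subgroup.center S := by
      intro x hx
      have : (A ⊔ B : Subgroup S) ≤ Subgroup.centralizer ({x} : Set S) := sup_le
        (fun a ha => Subgroup.mem_centralizer_singleton_iff.2
          (congrArg Subtype.val (hA.is_comm.comm (⟨a, ha⟩ : A) ⟨x, hx.1⟩)))
        (fun a ha => Subgroup.mem_centralizer_singleton_iff.2
          (congrArg Subtype.val (hB.is_comm.comm (⟨a, ha⟩ : B) ⟨x, hx.2⟩)))
      rw [htop] at this
      exact Subgroup.mem_center_iff.2 fun g => Subgroup.mem_centralizer_singleton_iff.1 (this (Subgroup.mem_top g))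
    have h2 : (Subgroup.center S).index ≤ p * p :=
      calc (Subgroup.center S).index ≤ (A ⊓ B).index :=
            Nat.le_of_dvd (Nat.pos_of_ne_zero Subgroup.index_ne_zero_of_finite) (Subgroup.index_dvd_of_le hle)
        _ ≤ A.index * B.index := Subgroup.index_inf_le
        _ = p * p := by rw [hAi, hBi]
    rw [hidx, hk] at h2
    have h3 : p ^ k ≤ p ^ 1 := by rw [pow_one]; exact Nat.le_of_mul_le_mul_left h2 hp.pos
    have := (Nat.pow_le_pow_iff_right hp.one_lt).1 h3
    omega

end Cfsg.Agent.S3807
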