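import Cfsg.Statements.S3809
import Cfsg.Agent.Lib.PGroup.ExtraspecialIndex

set_option autoImplicit false
open Cfsg

namespace Cfsg.Agent.S3809

/-- Let S be a finite p-group with an extraspecial subgroup of index p. Then S has order p^(2+2n) for some n ≥ 1, derived length at most 3, and exponent dividing p³. -/
theorem result {S : Type*} [Group S] [Finite S] (p : ℕ) [Fact p.Prime] (hS : IsPGroup p S) (Q : Subgroup S) (hQ : Cfsg.IsExtraspecial p ↥Q) (hQi : Q.index = p) :
    (∃ n : ℕ, 1 ≤ n ∧ Nat.card S = p ^ (2 + 2 * n)) ∧ derivedSeries S 3 = ⊥ ∧ ∀ x : S, x ^ (p ^ 3) = 1 := by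
  have hp : p.Prime := Fact.out
  obtain ⟨hn, hc, hinf⟩ := CfsgLib.PGroup.extraspecial_center_map hS Q hQ hQi
  obtain ⟨n, hn1, hn2⟩ := CfsgLib.PGroup.extraspecial_card hQ
  have hco := CfsgLib.PGroup.isCoatom_of_index_prime (A := Q) (hQi ▸ hp)
  refine ⟨⟨n, hn1, ?_⟩, ?_, fun x => ?_⟩
  · rw [← Subgroup.card_mul_index Q, hn2, hQi, ← pow_succ]
    congr 1
    omega
  · have h1 : derivedSeries S 1 ≤ Q := by
      rw [derivedSeries_one]
      exact CfsgLib.PGroup.commutator_le_of_isCoatom hS hco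
    have h2 : derivedSeries S 2 ≤ Subgroup.center S := by
      rw [derivedSeries_succ]
      refine (Subgroup.commutator_mono h1 h1).trans ?_
      rw [← Subgroup.map_subtype_commutator, hQ.1.2.2, ← hinf]
      exact inf_le_right
    rw [derivedSeries_succ, eq_bot_iff, Subgroup.commutator_le]
    exact fun a _ b hb => Subgroup.mem_bot.2
      (commutatorElement_eq_one_iff_mul_comm.2 (Subgroup.mem_center_iff.1 (h2 hb) a))
  · have h := congrArg Subtype.val (CfsgLib.PGroup.special_pow_sq hQ.1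
      ⟨x ^ p, CfsgLib.PGroup.pow_mem_of_isCoatom hS hco x⟩)
    rw [pow_succ', pow_mul]
    simpa using h

end Cfsg.Agent.S3809
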