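import Cfsg.Statements.S3810
import Cfsg.Agent.Lib.PGroup.ExtraspecialIndex

set_option autoImplicit false
open Cfsg

namespace Cfsg.Agent.S3810

open scoped commutatorElement

/-- Let S be a finite p-group with an extraspecial subgroup of index p. Then S has an abelian subgroup of index p if and only if S has order p⁴. -/
theorem result {S : Type*} [Group S] [Finite S] (p : ℕ) [Fact p.Prime] (hS : IsPGroup p S) (Q : Subgroup S) (hQ : Cfsg.IsExtraspecial p ↥Q) (hQi : Q.index = p) :
    (∃ A : Subgroup S, IsMulCommutative ↥A ∧ A.index = p) ↔ Nat.card S = p ^ 4 := by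
  classical
  have hp : p.Prime := Fact.out
  obtain ⟨hn, hc, hinf⟩ := CfsgLib.PGroup.extraspecial_center_map hS Q hQ hQi
  obtain ⟨n, hn1, hn2⟩ := CfsgLib.PGroup.extraspecial_card hQ
  have hnaQ := CfsgLib.PGroup.extraspecial_not_comm hQ
  constructor
  · rintro ⟨A, hA, hAi⟩
    have hB : IsMulCommutative ↥(A.subgroupOf Q) :=
      ⟨⟨fun a b => Subtype.ext (Subtype.ext (by
        have h := congrArg Subtype.val
          (hA.is_comm.comm (⟨((a : Q) : S), a.2⟩ : A) ⟨((b : Q) : S), b.2⟩)
        simpa using h))⟩⟩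
    have hBi : (A.subgroupOf Q).index = p := by
      haveI := CfsgLib.PGroup.normal_of_isCoatom hS
        (CfsgLib.PGroup.isCoatom_of_index_prime (A := A) (hAi ▸ hp))
      have h0 : A.relIndex Q ∣ p := hAi ▸ Subgroup.relIndex_dvd_index_of_normal A Q
      rcases (Nat.dvd_prime hp).1 h0 with h | h
      · refine absurd ?_ hnaQ
        refine ⟨⟨fun a b => Subtype.ext ?_⟩⟩
        have h := congrArg Subtype.val
          (hA.is_comm.comm (⟨(a : S), Subgroup.relIndex_eq_one.1 h a.2⟩ : A) ⟨(b : S), Subgroup.relIndex_eq_one.1 h b.2⟩)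
        simpa using h
      · exact h
    have h1 := CfsgLib.PGroup.index_center_eq hQ.1.1 hnaQ hB hBi
    have h2 := (Subgroup.center Q).card_mul_index
    rw [h1, hQ.1.2.2, hQ.2, hn2, ← sq, ← pow_succ'] at h2
    have h3 : 2 + 1 = 2 * n + 1 := Nat.pow_right_injective hp.two_le h2
    rw [← Subgroup.card_mul_index Q, hn2, hQi, ← h3, ← pow_succ]
  · intro h4
    have hQ3 : Nat.card Q = p ^ 3 := by
      refine Nat.eq_of_mul_eq_mul_right hp.pos ?_
      rw [← pow_succ, ← h4, ← Subgroup.card_mul_index Q, hQi]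
    set Z0 := (Subgroup.center Q).map Q.subtype with hZ0
    have hZ0le : Z0 ≤ Subgroup.center S := hinf ▸ inf_le_right
    have hZ0Q : Z0 ≤ Q := hinf ▸ inf_le_left
    haveI : Z0.Normal := by haveI := hn; rw [hZ0]; infer_instance
    set f := QuotientGroup.mk' Z0
    have hSq : IsPGroup p (S ⧸ Z0) := hS.to_quotient Z0
    haveI : (Q.map f).Normal := Subgroup.Normal.map hn f (QuotientGroup.mk'_surjective _)
    have hne : Q.map f ≠ ⊥ := by
      rw [Ne, Subgroup.map_eq_bot_iff, QuotientGroup.ker_mk']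
      intro hle
      have := Subgroup.card_le_of_le hle
      rw [hc, hQ3] at this
      have := hp.two_le
      nlinarith [Nat.pow_lt_pow_right hp.one_lt (show 1 < 3 by norm_num), pow_one p]
    obtain ⟨⟨w, hw⟩, hw1'⟩ := Subgroup.ne_bot_iff_exists_ne_one.1 (CfsgLib.PGroup.inf_center_ne_bot hSq _ hne)
    have hw1 : w ≠ 1 := fun h => hw1' (Subtype.ext h)
    obtain ⟨⟨e, he, rfl⟩, hwc⟩ := hw
    have heZ : e ∉ Z0 := fun h => hw1 ((QuotientGroup.eq_one_iff e).2 h)
    have hcomm : ∀ s ∈ (⊤ : Subgroup S), ⁅s, e⁆ ∈ Z0 := fun s _ => by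
      rw [← QuotientGroup.eq_one_iff]
      show f ⁅s, e⁆ = 1
      rw [map_commutatorElement]
      exact commutatorElement_eq_one_iff_mul_comm.2 (Subgroup.mem_center_iff.1 hwc _)
    have hecen : e ∉ Subgroup.center S := fun h => heZ (hinf ▸ ⟨he, h⟩)
    have hC := CfsgLib.PGroup.card_inf_centralizer_mul hZ0le hc hcomm
      (fun hle => hecen (Subgroup.mem_center_iff.2 fun g =>
        Subgroup.mem_centralizer_singleton_iff.1 (hle (Subgroup.mem_top g))))
    rw [top_inf_eq, Subgroup.card_top, h4] at hC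
    set C := Subgroup.centralizer ({e} : Set S) with hCdef
    have hC3 : Nat.card C = p ^ 3 := Nat.eq_of_mul_eq_mul_right hp.pos (hC.trans (pow_succ p 3))
    refine ⟨C, ?_, ?_⟩
    · have hle : Z0 ⊔ Subgroup.zpowers e ≤ (Subgroup.center C).map C.subtype := by
        refine sup_le (fun z hz => ?_) (Subgroup.zpowers_le.2 ?_)
        · have hzC : z ∈ C := Subgroup.mem_centralizer_singleton_iff.2 (Subgroup.mem_center_iff.1 (hZ0le hz) e).symm
          exact ⟨⟨z, hzC⟩, Subgroup.mem_center_iff.2 fun g =>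
            Subtype.ext (Subgroup.mem_center_iff.1 (hZ0le hz) g), rfl⟩
        · exact ⟨⟨e, Subgroup.mem_centralizer_singleton_iff.2 rfl⟩, Subgroup.mem_center_iff.2 fun g =>
            Subtype.ext (Subgroup.mem_centralizer_singleton_iff.1 g.2), rfl⟩
      have hlt : p < Nat.card (Subgroup.center C) := by
        rw [← Subgroup.card_map_of_injective C.subtype_injective, ← hc]
        refine lt_of_le_of_ne (Subgroup.card_le_of_le (le_sup_left.trans hle)) fun h => heZ ?_
        rw [Subgroup.eq_of_le_of_card_ge (le_sup_left.trans hle) h.ge]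
        exact hle (Subgroup.mem_sup_right (Subgroup.mem_zpowers e))
      obtain ⟨k, hk, hk'⟩ := (Nat.dvd_prime_pow hp).1 (hC3 ▸ Subgroup.card_subgroup_dvd_card (Subgroup.center C))
      have hk2 : 2 ≤ k := by
        by_contra hk2
        rw [hk'] at hlt
        exact absurd hlt (not_lt.2 (le_trans (Nat.pow_le_pow_right hp.pos (by omega : k ≤ 1)) (pow_one p).le))
      haveI : IsCyclic (C ⧸ Subgroup.center C) := by
        have h := (Subgroup.center C).card_mul_index
        rw [hk', hC3, Subgroup.index_eq_card] at h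
        rcases eq_or_lt_of_le hk with rfl | hk3
        · have h1 : Nat.card (C ⧸ Subgroup.center C) = 1 :=
            Nat.eq_of_mul_eq_mul_left (pow_pos hp.pos 3) (h.trans (mul_one _).symm)
          exact @isCyclic_of_subsingleton _ _ (Nat.card_eq_one_iff_unique.1 h1).1
        · rw [show k = 2 by omega, pow_succ p 2] at h
          exact isCyclic_of_prime_card (Nat.eq_of_mul_eq_mul_left (pow_pos hp.pos 2) h)
      exact ⟨⟨commutative_of_cyclic_center_quotient (QuotientGroup.mk' (Subgroup.center C))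
        (by rw [QuotientGroup.ker_mk'])⟩⟩
    · have h := C.card_mul_index
      rw [hC3, h4, pow_succ p 3] at h
      exact Nat.eq_of_mul_eq_mul_left (pow_pos hp.pos 3) h

end Cfsg.Agent.S3810
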