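import Cfsg.Statements.S3811
import Cfsg.Agent.Lib.Transfer.MaximalClass

set_option autoImplicit false
open Cfsg

namespace Cfsg.Agent.S3811

open scoped commutatorElement

universe u

/-- A self-centralizing abelian subgroup of index `p` in its normalizer. -/
structure Soft {P : Type u} [Group P] (p : ℕ) (E : Subgroup P) : Prop where
  comm : IsMulCommutative E
  cent : Subgroup.centralizer (E : Set P) ≤ E
  idx : E.relIndex (Subgroup.normalizer (E : Set P)) = p

theorem Soft.lt_normalizer {P : Type u} [Group P] {p : ℕ} [Fact p.Prime] {E : Subgroup P} (h : Soft p E) :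
    E < Subgroup.normalizer (E : Set P) := by
  refine lt_of_le_of_ne Subgroup.le_normalizer fun he => ?_
  have := h.idx
  rw [← he, Subgroup.relIndex_self] at this
  exact (Fact.out : p.Prime).one_lt.ne this

theorem inf_normalizer_ne {P : Type u} [Group P] [Finite P] {p : ℕ} [Fact p.Prime] (hP : IsPGroup p P)
    {A K : Subgroup P} (h : A < K) : ∃ x ∈ K, x ∈ Subgroup.normalizer (A : Set P) ∧ x ∉ A := by
  haveI := (hP.to_subgroup K).isNilpotent
  have h1 : A.subgroupOf K < ⊤ := by
    rw [lt_top_iff_ne_top]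
    intro he
    exact h.not_ge (Subgroup.subgroupOf_eq_top.1 he)
  obtain ⟨x, hx1, hx2⟩ := SetLike.exists_of_lt (Group.normalizerCondition_of_isNilpotent (A.subgroupOf K) h1)
  rw [← Subgroup.subgroupOf_normalizer_eq h.le] at hx1
  exact ⟨x, x.2, hx1, fun hh => hx2 hh⟩

theorem Soft.normalizer_le_of_lt {P : Type u} [Group P] [Finite P] {p : ℕ} [Fact p.Prime] (hP : IsPGroup p P)
    {E K : Subgroup P} (h : Soft p E) (hK : E < K) : Subgroup.normalizer (E : Set P) ≤ K := by
  obtain ⟨x, hxK, hxN, hxE⟩ := inf_normalizer_ne hP hK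
  have h1 : E ≤ K ⊓ Subgroup.normalizer (E : Set P) := le_inf hK.le Subgroup.le_normalizer
  have h2 := Subgroup.relIndex_mul_relIndex E _ _ h1 (inf_le_right : K ⊓ Subgroup.normalizer (E : Set P) ≤ _)
  rw [h.idx] at h2
  rcases (Nat.dvd_prime (Fact.out : p.Prime)).1 (Dvd.intro _ h2) with h3 | h3
  · exact absurd (Subgroup.relIndex_eq_one.1 h3 ⟨hxK, hxN⟩) hxE
  · rw [h3, mul_eq_left₀ (Fact.out : p.Prime).ne_zero, Subgroup.relIndex_eq_one] at h2
    exact h2.trans inf_le_left

theorem card_mul_relIndex' {P : Type u} [Group P] {A B : Subgroup P} (h : A ≤ B) :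
    Nat.card A * A.relIndex B = Nat.card B := by
  rw [← Subgroup.relIndex_bot_left, ← Subgroup.relIndex_bot_left]
  exact Subgroup.relIndex_mul_relIndex _ _ _ bot_le h

theorem conj_mem_normalizer {P : Type u} [Group P] {H : Subgroup P} {g x : P}
    (hg : g ∈ Subgroup.normalizer (H : Set P)) (hx : x ∈ H) : g * x * g⁻¹ ∈ H :=
  (Subgroup.mem_normalizer_iff.1 hg x).1 hx

theorem Soft.next_index {P : Type u} [Group P] [Finite P] {p : ℕ} [hp : Fact p.Prime] (hP : IsPGroup p P)
    {E : Subgroup P} (h : Soft p E) (hne : Subgroup.normalizer (E : Set P) ≠ ⊤) :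
    (Subgroup.normalizer (E : Set P)).relIndex
      (Subgroup.normalizer (Subgroup.normalizer (E : Set P) : Set P)) = p := by
  classical
  set N1 := Subgroup.normalizer (E : Set P) with hN1
  set N2 := Subgroup.normalizer (N1 : Set P) with hN2
  have hlt : N1 < N2 := by
    haveI := hP.isNilpotent
    exact Group.normalizerCondition_of_isNilpotent N1 (lt_top_iff_ne_top.2 hne)
  let Z : Subgroup P := E ⊓ Subgroup.centralizer (N1 : Set P)
  have hZE : Z < E := by
    refine lt_of_le_of_ne inf_le_left fun he => h.lt_normalizer.not_ge ?_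
    refine le_trans (fun x hx => ?_) h.cent
    rw [Subgroup.mem_centralizer_iff]
    intro e he'
    exact (Subgroup.mem_centralizer_iff.1 (he.ge he').2 x hx).symm
  have hdisj : ∀ y ∈ N2, y ∉ N1 → ∀ e ∈ E, y * e * y⁻¹ ∈ E → y * e * y⁻¹ ∈ Z := by
    intro y hy hy1 e he hye
    refine ⟨hye, Subgroup.mem_centralizer_iff.2 fun n hn => ?_⟩
    have hsup : E ⊔ E.map (MulAut.conj y).toMonoidHom = N1 := by
      refine le_antisymm (sup_le Subgroup.le_normalizer ?_) (h.normalizer_le_of_lt hP ?_)
      · rintro _ ⟨z, hz, rfl⟩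
        exact conj_mem_normalizer hy (Subgroup.le_normalizer hz)
      · refine left_lt_sup.2 fun hle => hy1 ?_
        exact Subgroup.mem_normalizer_fintype (S := (E : Set P)) fun z hz => hle ⟨z, hz, rfl⟩
    have hle : E ⊔ E.map (MulAut.conj y).toMonoidHom ≤ Subgroup.centralizer {y * e * y⁻¹} := by
      refine sup_le (fun z hz => Subgroup.mem_centralizer_singleton_iff.2 ?_) ?_
      · exact congrArg Subtype.val (h.comm.is_comm.comm (⟨z, hz⟩ : E) ⟨_, hye⟩)
      · rintro _ ⟨z, hz, rfl⟩
        rw [Subgroup.mem_centralizer_singleton_iff]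
        have h1 : z * e = e * z := congrArg Subtype.val (h.comm.is_comm.comm (⟨z, hz⟩ : E) ⟨e, he⟩)
        show y * z * y⁻¹ * (y * e * y⁻¹) = y * e * y⁻¹ * (y * z * y⁻¹)
        calc _ = y * (z * e) * y⁻¹ := by group
          _ = y * (e * z) * y⁻¹ := by rw [h1]
          _ = _ := by group
    exact Subgroup.mem_centralizer_singleton_iff.1 (hle (hsup.ge hn))
  let A := (↥N2 ⧸ N1.subgroupOf N2) × {e : P // e ∈ E ∧ e ∉ Z}
  let f : A → {n : P // n ∈ N1 ∧ n ∉ Z} := fun a =>
    ⟨((a.1.out : N2) : P) * a.2.1 * ((a.1.out : N2) : P)⁻¹,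
      conj_mem_normalizer (a.1.out : N2).2 (Subgroup.le_normalizer a.2.2.1), fun hz => a.2.2.2
        ⟨a.2.2.1, Subgroup.mem_centralizer_iff.2 fun n hn => by
          have h1 := Subgroup.mem_centralizer_iff.1 hz.2 _ (conj_mem_normalizer (a.1.out : N2).2 hn)
          have h2 := congrArg (fun z => ((a.1.out : N2) : P)⁻¹ * z * ((a.1.out : N2) : P)) h1
          simpa [mul_assoc] using h2⟩⟩
  have hf : Function.Injective f := by
    rintro ⟨q, e, he, heZ⟩ ⟨r, d, hd, hdZ⟩ heq
    have h1 : ((q.out : N2) : P) * e * ((q.out : N2) : P)⁻¹ = ((r.out : N2) : P) * d * ((r.out : N2) : P)⁻¹ :=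
      congrArg Subtype.val heq
    have hqr : q = r := by
      rw [← QuotientGroup.out_eq' q, ← QuotientGroup.out_eq' r, QuotientGroup.eq, Subgroup.mem_subgroupOf]
      by_contra hn
      have hy : ((r.out : N2) : P)⁻¹ * ((q.out : N2) : P) ∈ N2 := N2.mul_mem (N2.inv_mem (r.out : N2).2) (q.out : N2).2
      have hd' : ((r.out : N2) : P)⁻¹ * ((q.out : N2) : P) * e * (((r.out : N2) : P)⁻¹ * ((q.out : N2) : P))⁻¹ = d := by
        have h2 := congrArg (fun z => ((r.out : N2) : P)⁻¹ * z * ((r.out : N2) : P)) h1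
        simpa [mul_assoc] using h2
      refine hdZ (hd' ▸ hdisj _ hy (fun hh => hn ?_) e he (by rw [hd']; exact hd))
      simpa using N1.inv_mem hh
    subst hqr
    exact Prod.ext rfl (Subtype.ext (mul_left_cancel (mul_right_cancel h1)))
  have hcard := Nat.card_le_card_of_injective f hf
  have hA : Nat.card A = N1.relIndex N2 * Nat.card {e : P // e ∈ E ∧ e ∉ Z} := by
    rw [Nat.card_prod]; rfl
  rw [hA] at hcard
  have hdiff : ∀ B : Subgroup P, Z ≤ B → Nat.card {e : P // e ∈ B ∧ e ∉ Z} + Nat.card Z = Nat.card B := by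
    intro B hB
    haveI := Fintype.ofFinite P
    simp only [Nat.card_eq_fintype_card, Fintype.card_subtype]
    have h1 := Finset.card_filter_add_card_filter_not (s := Finset.univ.filter fun x => x ∈ B) (fun x => x ∈ Z)
    rw [Finset.filter_filter, Finset.filter_filter, add_comm] at h1
    rw [← h1]
    congr 2
    exact Finset.filter_congr fun x _ => ⟨fun hx => ⟨hB hx, hx⟩, fun hx => hx.2⟩
  have hE := hdiff E inf_le_left
  have hN := hdiff N1 (inf_le_left.trans Subgroup.le_normalizer)
  have hN1c : Nat.card E * p = Nat.card N1 := by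
    rw [← h.idx]; exact card_mul_relIndex' Subgroup.le_normalizer
  have hZp := CfsgLib.Transfer.prime_mul_card_le hP hZE
  obtain ⟨k, hk⟩ : ∃ k, N1.relIndex N2 = p ^ k := by
    obtain ⟨m, hm⟩ := IsPGroup.iff_card.1 (hP.to_subgroup N2)
    obtain ⟨j, -, hj⟩ := (Nat.dvd_prime_pow hp.out).1 (hm ▸ Subgroup.relIndex_dvd_card N1 N2)
    exact ⟨j, hj⟩
  have hk1 : k ≠ 0 := by
    rintro rfl
    rw [pow_zero, Subgroup.relIndex_eq_one] at hk
    exact hlt.not_ge hk
  suffices hk2 : k < 2 by rw [hk, show k = 1 by omega, pow_one]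
  by_contra hk2
  have h2 : p ^ 2 ≤ p ^ k := Nat.pow_le_pow_right hp.out.pos (by omega)
  have h3 : 0 < Nat.card Z := Nat.card_pos
  have hp2 := hp.out.two_le
  rw [hk] at hcard
  have h4 : p ^ 2 * Nat.card {e : P // e ∈ E ∧ e ∉ Z} ≤ Nat.card {n : P // n ∈ N1 ∧ n ∉ Z} :=
    (Nat.mul_le_mul_right _ h2).trans hcard
  nlinarith

theorem le_center_of_soft {P : Type u} [Group P] {p : ℕ} {E : Subgroup P} (h : Soft p E) :
    Subgroup.center P ≤ E :=
  (Subgroup.center_le_centralizer _).trans h.cent

theorem relIndex_normalizer_quot {P : Type u} [Group P] (Z K : Subgroup P) [Z.Normal] (hZK : Z ≤ K) :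
    (K.map (QuotientGroup.mk' Z)).relIndex (Subgroup.normalizer (K.map (QuotientGroup.mk' Z) : Set (P ⧸ Z))) =
      K.relIndex (Subgroup.normalizer (K : Set P)) := by
  have hπ : Function.Surjective (QuotientGroup.mk' Z) := QuotientGroup.mk'_surjective Z
  have hK : (K.map (QuotientGroup.mk' Z)).comap (QuotientGroup.mk' Z) = K :=
    Subgroup.comap_map_eq_self (by rw [QuotientGroup.ker_mk']; exact hZK)
  have hN := Subgroup.comap_normalizer_eq_of_surjective (K.map (QuotientGroup.mk' Z)) hπ
  rw [hK] at hN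
  have h1 : ((K.map (QuotientGroup.mk' Z)).comap (QuotientGroup.mk' Z)).relIndex
      ((Subgroup.normalizer (K.map (QuotientGroup.mk' Z) : Set (P ⧸ Z))).comap (QuotientGroup.mk' Z)) =
        K.relIndex (Subgroup.normalizer (K : Set P)) := by rw [hN, hK]
  rw [← h1, Subgroup.relIndex_comap, Subgroup.map_comap_eq_self_of_surjective hπ]

theorem soft_quot_normalizer {P : Type u} [Group P] [Finite P] {p : ℕ} [Fact p.Prime] (hP : IsPGroup p P)
    {E : Subgroup P} (h : Soft p E) (Z : Subgroup P) [Z.Normal] (hZE : Z ≤ E)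
    (hne : Subgroup.normalizer (E : Set P) ≠ ⊤)
    (hcomm : ∀ a ∈ Subgroup.normalizer (E : Set P), ∀ b ∈ Subgroup.normalizer (E : Set P), ⁅a, b⁆ ∈ Z) :
    Soft p ((Subgroup.normalizer (E : Set P)).map (QuotientGroup.mk' Z)) := by
  refine ⟨⟨⟨?_⟩⟩, ?_, ?_⟩
  · rintro ⟨_, a, ha, rfl⟩ ⟨_, b, hb, rfl⟩
    refine Subtype.ext (commutatorElement_eq_one_iff_mul_comm.1 ?_)
    show ⁅QuotientGroup.mk' Z a, QuotientGroup.mk' Z b⁆ = 1
    rw [← map_commutatorElement]
    exact (QuotientGroup.eq_one_iff _).2 (hcomm a ha b hb)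
  · intro q hq
    obtain ⟨x, rfl⟩ := QuotientGroup.mk'_surjective Z q
    refine ⟨x, Subgroup.mem_normalizer_fintype (S := (E : Set P)) fun e he => ?_, rfl⟩
    have h1 := commutatorElement_eq_one_iff_mul_comm.2
      (Subgroup.mem_centralizer_iff.1 hq _ ⟨e, Subgroup.le_normalizer he, rfl⟩).symm
    rw [← map_commutatorElement, QuotientGroup.mk'_apply, QuotientGroup.eq_one_iff] at h1
    have h2 := E.mul_mem (hZE h1) he
    simpa [commutatorElement_def] using h2
  · rw [relIndex_normalizer_quot Z _ (hZE.trans Subgroup.le_normalizer)]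
    exact h.next_index hP hne

theorem main1 {p : ℕ} [hp : Fact p.Prime] : ∀ (n : ℕ) (P : Type u) [Group P] [Finite P], Nat.card P = n →
    IsPGroup p P → ∀ E : Subgroup P, Soft p E →
      (∀ K L : Subgroup P, E ≤ K → E ≤ L → K ≤ L ∨ L ≤ K) ∧
      (∀ K : Subgroup P, E ≤ K → K ≠ ⊤ → K.relIndex (Subgroup.normalizer (K : Set P)) = p) := by
  intro n
  induction n using Nat.strong_induction_on with
  | _ n ih =>
    intro P _ _ hn hP E h
    classical
    haveI : Nontrivial P := by
      by_contra hnt
      rw [not_nontrivial_iff_subsingleton] at hnt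
      exact h.lt_normalizer.ne (Subsingleton.elim _ _)
    have hZb : Subgroup.center P ≠ ⊥ := by
      haveI := hP.center_nontrivial
      exact (Subgroup.nontrivial_iff_ne_bot _).1 inferInstance
    have hlt : Nat.card (P ⧸ Subgroup.center P) < n := by
      rw [← hn, Subgroup.card_eq_card_quotient_mul_card_subgroup (Subgroup.center P)]
      exact lt_mul_of_one_lt_right Nat.card_pos ((Subgroup.one_lt_card_iff_ne_bot _).2 hZb)
    let π := QuotientGroup.mk' (Subgroup.center P)
    have hback : ∀ {K : Subgroup P}, E ≤ K → (K.map π).comap π = K := fun hK =>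
      Subgroup.comap_map_eq_self (by rw [QuotientGroup.ker_mk']; exact (le_center_of_soft h).trans hK)
    have hne_top : ∀ {K : Subgroup P}, E ≤ K → K ≠ ⊤ → K.map π ≠ ⊤ := fun hK hKt he => hKt (by
      rw [← hback hK, he, Subgroup.comap_top])
    by_cases hA : Subgroup.centralizer ((E.map π : Subgroup _) : Set (P ⧸ Subgroup.center P)) ≤ E.map π
    · haveI := h.comm
      have hS : Soft p (E.map π) := ⟨Subgroup.map_isMulCommutative E π, hA, by
        rw [relIndex_normalizer_quot _ _ (le_center_of_soft h)]; exact h.idx⟩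
      obtain ⟨h1, h2⟩ := ih _ hlt _ rfl (hP.to_quotient _) _ hS
      refine ⟨fun K L hK hL => ?_, fun K hK hKt => ?_⟩
      · rw [← hback hK, ← hback hL]
        exact (h1 _ _ (Subgroup.map_mono hK) (Subgroup.map_mono hL)).imp Subgroup.comap_mono Subgroup.comap_mono
      · rw [← relIndex_normalizer_quot (Subgroup.center P) K ((le_center_of_soft h).trans hK)]
        exact h2 _ (Subgroup.map_mono hK) (hne_top hK hKt)
    · set N1 := Subgroup.normalizer (E : Set P) with hN1
      obtain ⟨q, hqC, hqE⟩ := SetLike.not_le_iff_exists.1 hA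
      obtain ⟨x, rfl⟩ := QuotientGroup.mk'_surjective (Subgroup.center P) q
      have hxE : x ∉ E := fun hx => hqE ⟨x, hx, rfl⟩
      have hxN : x ∈ N1 := Subgroup.mem_normalizer_fintype (S := (E : Set P)) fun e he => by
        have h1 := commutatorElement_eq_one_iff_mul_comm.2
          (Subgroup.mem_centralizer_iff.1 hqC _ ⟨e, he, rfl⟩).symm
        rw [← map_commutatorElement, QuotientGroup.mk'_apply, QuotientGroup.eq_one_iff] at h1
        have h2 := E.mul_mem (le_center_of_soft h h1) he
        simpa [commutatorElement_def] using h2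
      have hgen : E ⊔ Subgroup.zpowers x = N1 := le_antisymm (sup_le Subgroup.le_normalizer (Subgroup.zpowers_le.2 hxN))
        (h.normalizer_le_of_lt hP (left_lt_sup.2 fun hle => hxE (hle (Subgroup.mem_zpowers x))))
      have hN1c : N1.map π ≤ Subgroup.centralizer ((N1.map π : Subgroup _) : Set (P ⧸ Subgroup.center P)) := by
        haveI := h.comm
        have hEc : IsMulCommutative (E.map π) := Subgroup.map_isMulCommutative E π
        have h1 : E.map π ≤ Subgroup.centralizer ((E.map π : Subgroup _) : Set _) := @Subgroup.le_centralizer _ _ _ hEc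
        have h2 : N1.map π ≤ Subgroup.centralizer ((E.map π : Subgroup _) : Set _) := by
          rw [← hgen, Subgroup.map_sup, MonoidHom.map_zpowers]
          exact sup_le h1 (Subgroup.zpowers_le.2 hqC)
        have h3 : E.map π ≤ Subgroup.centralizer ((N1.map π : Subgroup _) : Set _) := Subgroup.le_centralizer_iff.1 h2
        have h4 : π x ∈ Subgroup.centralizer ((N1.map π : Subgroup _) : Set _) := by
          have h5 : N1.map π ≤ Subgroup.centralizer {π x} := by
            rw [← hgen, Subgroup.map_sup, MonoidHom.map_zpowers]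
            refine sup_le (fun e he => Subgroup.mem_centralizer_singleton_iff.2 ?_) (Subgroup.zpowers_le.2 ?_)
            · exact (Subgroup.mem_centralizer_iff.1 hqC e he)
            · exact Subgroup.mem_centralizer_singleton_iff.2 rfl
          exact Subgroup.mem_centralizer_iff.2 fun e he => Subgroup.mem_centralizer_singleton_iff.1 (h5 he)
        rw [← hgen, Subgroup.map_sup, MonoidHom.map_zpowers]
        exact sup_le (by rw [← MonoidHom.map_zpowers, ← Subgroup.map_sup, hgen]; exact h3)
          (Subgroup.zpowers_le.2 (by rw [← MonoidHom.map_zpowers, ← Subgroup.map_sup, hgen]; exact h4))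
      have hcomm : ∀ a ∈ N1, ∀ b ∈ N1, ⁅a, b⁆ ∈ Subgroup.center P := fun a ha b hb => by
        rw [← QuotientGroup.eq_one_iff, ← QuotientGroup.mk'_apply, map_commutatorElement, commutatorElement_eq_one_iff_mul_comm]
        exact Subgroup.mem_centralizer_iff.1 (hN1c ⟨b, hb, rfl⟩) _ ⟨a, ha, rfl⟩
      have hcases : ∀ K : Subgroup P, E ≤ K → K = E ∨ N1 ≤ K := fun K hK =>
        hK.eq_or_lt.imp Eq.symm (h.normalizer_le_of_lt hP)
      by_cases hN1t : N1 = ⊤
      · refine ⟨fun K L hK hL => ?_, fun K hK hKt => ?_⟩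
        · rcases hcases K hK with rfl | h1
          · exact Or.inl hL
          · exact Or.inr (le_trans le_top (hN1t ▸ h1))
        · rcases hcases K hK with rfl | h1
          · exact h.idx
          · exact absurd (top_le_iff.1 (hN1t ▸ h1)) hKt
      obtain ⟨h1, h2⟩ := ih _ hlt _ rfl (hP.to_quotient _) _
        (soft_quot_normalizer hP h _ (le_center_of_soft h) hN1t hcomm)
      refine ⟨fun K L hK hL => ?_, fun K hK hKt => ?_⟩
      · rcases hcases K hK with rfl | hK1
        · exact Or.inl hL
        rcases hcases L hL with rfl | hL1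
        · exact Or.inr hK
        rw [← hback hK, ← hback hL]
        exact (h1 _ _ (Subgroup.map_mono hK1) (Subgroup.map_mono hL1)).imp Subgroup.comap_mono Subgroup.comap_mono
      · rcases hcases K hK with rfl | hK1
        · exact h.idx
        rw [← relIndex_normalizer_quot (Subgroup.center P) K ((le_center_of_soft h).trans hK)]
        exact h2 _ (Subgroup.map_mono hK1) (hne_top hK hKt)

theorem comm_central {P : Type u} [Group P] [Finite P] {p : ℕ} [hp : Fact p.Prime] (hP : IsPGroup p P)
    {E : Subgroup P} (h : Soft p E) : ∀ K : Subgroup P, E ≤ K → K ≠ ⊤ →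
      ∀ a ∈ Subgroup.normalizer (E : Set P), ∀ b ∈ Subgroup.normalizer (E : Set P),
        ⁅a, b⁆ ∈ Subgroup.centralizer (K : Set P) := by
  classical
  obtain ⟨hord, hidx⟩ := main1 (p := p) _ P rfl hP E h
  intro K
  induction K using WellFoundedLT.induction with
  | _ K ih =>
    intro hEK hKt a ha b hb
    rcases hEK.eq_or_lt with rfl | hlt
    · -- commutators of `N(E)` lie in `E`
      have hab : ⁅a, b⁆ ∈ E := by
        haveI : (E.subgroupOf (Subgroup.normalizer (E : Set P))).Normal := Subgroup.normal_in_normalizer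
        haveI : IsCyclic (↥(Subgroup.normalizer (E : Set P)) ⧸ E.subgroupOf (Subgroup.normalizer (E : Set P))) :=
          isCyclic_of_prime_card (p := p) h.idx
        have h1 : (QuotientGroup.mk' (E.subgroupOf (Subgroup.normalizer (E : Set P)))) ⁅(⟨a, ha⟩ : ↥(Subgroup.normalizer (E : Set P))), ⟨b, hb⟩⁆ = 1 := by
          rw [map_commutatorElement, commutatorElement_eq_one_iff_mul_comm]
          exact (IsCyclic.commGroup).mul_comm _ _
        exact Subgroup.mem_subgroupOf.1 ((QuotientGroup.eq_one_iff _).1 h1)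
      exact @Subgroup.le_centralizer _ _ _ h.comm _ hab
    obtain ⟨B, ⟨hEB, hBK⟩, hBmax⟩ := WellFounded.has_min (wellFounded_gt (α := Subgroup P))
      {B | E ≤ B ∧ B < K} ⟨E, le_rfl, hlt⟩
    have hBt : B ≠ ⊤ := fun e => hKt (top_le_iff.1 (e ▸ hBK.le))
    have hNB : Subgroup.normalizer (B : Set P) = K := by
      obtain ⟨x, hxK, hxN, hxB⟩ := inf_normalizer_ne hP hBK
      have h1 : B ≤ K ⊓ Subgroup.normalizer (B : Set P) := le_inf hBK.le Subgroup.le_normalizer
      have h2 := Subgroup.relIndex_mul_relIndex B _ _ h1 (inf_le_right : K ⊓ Subgroup.normalizer (B : Set P) ≤ _)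
      rw [hidx B hEB hBt] at h2
      have hle : Subgroup.normalizer (B : Set P) ≤ K := by
        rcases (Nat.dvd_prime hp.out).1 (Dvd.intro _ h2) with h3 | h3
        · exact absurd (Subgroup.relIndex_eq_one.1 h3 ⟨hxK, hxN⟩) hxB
        · rw [h3, mul_eq_left₀ hp.out.ne_zero, Subgroup.relIndex_eq_one] at h2
          exact h2.trans inf_le_left
      refine hle.eq_or_lt.resolve_right fun hh => hBmax _ ⟨hEB.trans Subgroup.le_normalizer, hh⟩ ?_
      exact lt_of_le_of_ne Subgroup.le_normalizer fun e => hxB (e ▸ hxN)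
    obtain ⟨y, hyN, hyK⟩ : ∃ y ∈ Subgroup.normalizer (K : Set P), y ∉ K := by
      haveI := hP.isNilpotent
      exact SetLike.exists_of_lt (Group.normalizerCondition_of_isNilpotent K (lt_top_iff_ne_top.2 hKt))
    let c := (MulAut.conj y).toMonoidHom
    have hcK : ∀ {H : Subgroup P}, H ≤ K → H.map c ≤ K := by
      rintro H hH _ ⟨z, hz, rfl⟩
      exact conj_mem_normalizer hyN (hH hz)
    have hBc : B.map c ≠ B := fun e => hyK (hNB ▸ Subgroup.mem_normalizer_fintype (S := (B : Set P)) fun z hz => e.le ⟨z, hz, rfl⟩)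
    have hEc : ¬ E.map c ≤ B := by
      intro hle
      apply hBc
      have h1 : E ≤ B.comap c := Subgroup.map_le_iff_le_comap.1 hle
      have hc : Nat.card (B.comap c) = Nat.card B := by
        rw [← Subgroup.card_map_of_injective (f := c) (MulAut.conj y).injective,
          Subgroup.map_comap_eq_self_of_surjective (MulAut.conj y).surjective]
      have heq : B.comap c = B := by
        rcases hord _ B h1 hEB with h2 | h2
        · exact Subgroup.eq_of_le_of_card_ge h2 hc.ge
        · exact (Subgroup.eq_of_le_of_card_ge h2 hc.le).symm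
      conv_lhs => rw [← heq]
      exact Subgroup.map_comap_eq_self_of_surjective (MulAut.conj y).surjective B
    have hsup : B ⊔ E.map c = K := (sup_le hBK.le (hcK hlt.le)).eq_or_lt.resolve_right fun hh =>
      hBmax _ ⟨hEB.trans le_sup_left, hh⟩ (left_lt_sup.2 hEc)
    have hzB := fun a ha b hb => ih B hBK hEB hBt a ha b hb
    let ZB : Subgroup P := B ⊓ Subgroup.centralizer (B : Set P)
    have hab : ⁅a, b⁆ ∈ ZB := by
      refine ⟨?_, hzB a ha b hb⟩
      have h1 : ⁅a, b⁆ ∈ Subgroup.centralizer (E : Set P) := Subgroup.centralizer_le hEB (hzB a ha b hb)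
      exact hEB (h.cent h1)
    have hKZ : K ≤ Subgroup.normalizer (ZB : Set P) := by
      intro k hk
      have hk' : k ∈ Subgroup.normalizer (B : Set P) := hNB ▸ hk
      refine Subgroup.mem_normalizer_fintype (S := (ZB : Set P)) fun z hz => ⟨conj_mem_normalizer hk' hz.1, Subgroup.mem_centralizer_iff.2 fun w hw => ?_⟩
      have h1 := Subgroup.mem_centralizer_iff.1 hz.2 _ (conj_mem_normalizer (Subgroup.inv_mem _ hk') hw)
      have h2 := congrArg (fun t => k * t * k⁻¹) h1
      simpa [mul_assoc] using h2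
    -- it suffices to commute with `E ^ y`
    suffices hEy : E.map c ≤ Subgroup.centralizer {⁅a, b⁆} by
      have hBz : B ≤ Subgroup.centralizer {⁅a, b⁆} := fun w hw =>
        Subgroup.mem_centralizer_singleton_iff.2 (Subgroup.mem_centralizer_iff.1 hab.2 w hw)
      refine Subgroup.mem_centralizer_iff.2 fun k hk => ?_
      exact Subgroup.mem_centralizer_singleton_iff.1 ((sup_le hBz hEy) (hsup.ge hk))
    have hEcab : ∀ {u : P}, u ∈ E.map c → E.map c ≤ Subgroup.centralizer {u} := by
      haveI := h.comm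
      intro u hu w hw
      exact Subgroup.mem_centralizer_singleton_iff.2
        (congrArg Subtype.val ((Subgroup.map_isMulCommutative E c).is_comm.comm (⟨w, hw⟩ : E.map c) ⟨u, hu⟩))
    by_cases hZE : ZB ≤ E.map c
    · exact hEcab (hZE hab)
    -- otherwise `ZB` meets `N(E) ^ y` outside `E ^ y`
    have hN1y : (Subgroup.normalizer (E : Set P)).map c ≤ E.map c ⊔ ZB := by
      rw [Subgroup.map_le_iff_le_comap]
      refine h.normalizer_le_of_lt hP (lt_of_le_of_ne ?_ ?_)
      · exact Subgroup.map_le_iff_le_comap.1 le_sup_left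
      · intro e
        apply hZE
        have h1 := congrArg (Subgroup.map c) e
        rw [Subgroup.map_comap_eq_self_of_surjective (MulAut.conj y).surjective] at h1
        exact h1 ▸ le_sup_right
    obtain ⟨x, hxN, hxE⟩ := SetLike.exists_of_lt h.lt_normalizer
    have hx' : c x ∈ E.map c ⊔ ZB := hN1y ⟨x, hxN, rfl⟩
    rw [← SetLike.mem_coe, Subgroup.coe_mul_of_left_le_normalizer_right (E.map c) ZB ((hcK hlt.le).trans hKZ)] at hx'
    obtain ⟨_, ⟨e0, he0, rfl⟩, w, hw, hew⟩ := hx'
    have hew' : c e0 * w = c x := hew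
    set x0 := e0⁻¹ * x with hx0
    have hcx0 : c x0 = w := by rw [hx0, map_mul, map_inv, ← hew', inv_mul_cancel_left]
    have hx0N : x0 ∈ Subgroup.normalizer (E : Set P) :=
      Subgroup.mul_mem _ (Subgroup.inv_mem _ (Subgroup.le_normalizer he0)) hxN
    have hx0E : x0 ∉ E := fun hh => hxE (by simpa [hx0] using E.mul_mem he0 hh)
    let T : Subgroup P := ZB.comap c
    have hKT : K ≤ Subgroup.normalizer (T : Set P) := by
      intro k hk
      refine Subgroup.mem_normalizer_fintype (S := (T : Set P)) fun z hz => ?_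
      show c (k * z * k⁻¹) ∈ ZB
      rw [map_mul, map_mul, map_inv]
      exact conj_mem_normalizer (hKZ (conj_mem_normalizer hyN hk)) hz
    have hx0T : x0 ∈ T := show c x0 ∈ ZB from hcx0 ▸ hw
    have hcomm0 : ∀ a' ∈ Subgroup.normalizer (E : Set P), ∀ b' ∈ Subgroup.normalizer (E : Set P), ⁅a', b'⁆ ∈ T := by
      have hN1K : Subgroup.normalizer (E : Set P) ≤ K := h.normalizer_le_of_lt hP hlt
      haveI : (T.subgroupOf (Subgroup.normalizer (T : Set P))).Normal := Subgroup.normal_in_normalizer
      have hgen : E ⊔ Subgroup.zpowers x0 = Subgroup.normalizer (E : Set P) :=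
        le_antisymm (sup_le Subgroup.le_normalizer (Subgroup.zpowers_le.2 hx0N))
          (h.normalizer_le_of_lt hP (left_lt_sup.2 fun hle => hx0E (hle (Subgroup.mem_zpowers x0))))
      let L := Subgroup.normalizer (T : Set P)
      let π := QuotientGroup.mk' (T.subgroupOf L)
      have hN1L : Subgroup.normalizer (E : Set P) ≤ L := hN1K.trans hKT
      let M : Subgroup (L ⧸ T.subgroupOf L) := (E.subgroupOf L).map π
      have hM : IsMulCommutative M := by
        haveI : IsMulCommutative (E.subgroupOf L) := ⟨⟨fun u v => Subtype.ext (Subtype.ext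
          (congrArg Subtype.val (h.comm.is_comm.comm (⟨u.1.1, u.2⟩ : E) ⟨v.1.1, v.2⟩) :))⟩⟩
        exact Subgroup.map_isMulCommutative _ π
      have hmem : ∀ u (hu : u ∈ Subgroup.normalizer (E : Set P)), π ⟨u, hN1L hu⟩ ∈ M := by
        intro u hu
        rw [← hgen, ← SetLike.mem_coe, Subgroup.coe_mul_of_right_le_normalizer_left _ _ (Subgroup.zpowers_le.2 hx0N)] at hu
        obtain ⟨e, he, w', hw', hew⟩ := hu
        have hw'T : w' ∈ T := (Subgroup.zpowers_le.2 hx0T) hw'
        refine ⟨⟨e, hN1L (Subgroup.le_normalizer he)⟩, he, QuotientGroup.eq.2 (Subgroup.mem_subgroupOf.2 ?_)⟩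
        show e⁻¹ * u ∈ T
        rw [← hew]
        show e⁻¹ * (e * w') ∈ T
        rwa [inv_mul_cancel_left]
      intro a' ha' b' hb'
      have h1 : π ⁅(⟨a', hN1L ha'⟩ : L), ⟨b', hN1L hb'⟩⁆ = 1 := by
        rw [map_commutatorElement, commutatorElement_eq_one_iff_mul_comm]
        exact congrArg Subtype.val (hM.is_comm.comm (⟨_, hmem a' ha'⟩ : M) ⟨_, hmem b' hb'⟩)
      exact Subgroup.mem_subgroupOf.1 ((QuotientGroup.eq_one_iff _).1 h1)
    have habT := hcomm0 a ha b hb
    have hBc' : B.comap c ≠ B := fun e => hBc (by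
      conv_lhs => rw [← e]
      exact Subgroup.map_comap_eq_self_of_surjective (MulAut.conj y).surjective B)
    have hBcK : B.comap c ≤ K := fun z hz => by
      have h1 := conj_mem_normalizer (Subgroup.inv_mem _ hyN) (hBK.le hz)
      simpa [c, mul_assoc] using h1
    have hsup2 : B ⊔ B.comap c = K := by
      refine (sup_le hBK.le hBcK).eq_or_lt.resolve_right fun hh => hBmax _ ⟨hEB.trans le_sup_left, hh⟩ (left_lt_sup.2 fun hle => hBc' ?_)
      refine Subgroup.eq_of_le_of_card_ge hle (le_of_eq ?_)
      conv_lhs => rw [← Subgroup.map_comap_eq_self_of_surjective (f := c) (MulAut.conj y).surjective B]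
      exact Subgroup.card_map_of_injective (MulAut.conj y).injective
    refine (hcK hlt.le).trans ?_
    rw [← hsup2]
    refine sup_le (fun w hw => Subgroup.mem_centralizer_singleton_iff.2 (Subgroup.mem_centralizer_iff.1 hab.2 w hw)) fun w hw => ?_
    rw [Subgroup.mem_centralizer_singleton_iff]
    refine (MulAut.conj y).injective ?_
    rw [map_mul, map_mul]
    exact Subgroup.mem_centralizer_iff.1 (show c ⁅a, b⁆ ∈ ZB from habT).2 _ hw

theorem nilpotencyClass_congr {G H : Type*} [Group G] [Group H] [Group.IsNilpotent G] [Group.IsNilpotent H]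
    (e : G ≃* H) : Group.nilpotencyClass G = Group.nilpotencyClass H :=
  le_antisymm (nilpotencyClass_le_of_surjective e.symm.toMonoidHom e.symm.surjective)
    (nilpotencyClass_le_of_surjective e.toMonoidHom e.surjective)

theorem class_step {P : Type u} [Group P] [Finite P] {p : ℕ} [hp : Fact p.Prime] (hP : IsPGroup p P)
    {E K : Subgroup P} [K.Normal] (h : Soft p E) (hEK : E < K) (hKt : K ≠ ⊤) {j : ℕ}
    (hidx : K.index * p ^ (j + 1) = E.index) [Group.IsNilpotent ↥K]
    (IH : ∀ (Q : Type u) [Group Q] [Finite Q], Nat.card Q < Nat.card P → IsPGroup p Q →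
      ∀ F : Subgroup Q, Soft p F → ∀ L : Subgroup Q, ∀ [Group.IsNilpotent ↥L], F ≤ L → L ≠ ⊤ →
        ∀ i, L.index * p ^ i = F.index → Group.nilpotencyClass L = i + 1) :
    Group.nilpotencyClass K = j + 2 := by
  classical
  have hN1K := h.normalizer_le_of_lt hP hEK
  have hN1t : Subgroup.normalizer (E : Set P) ≠ ⊤ := fun e => hKt (top_le_iff.1 (e ▸ hN1K))
  let Zk : Subgroup P := (Subgroup.center K).map K.subtype
  haveI : Zk.Normal := inferInstanceAs ((Subgroup.center K).map K.subtype).Normal
  have hZE : Zk ≤ E := by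
    rintro _ ⟨z, hz, rfl⟩
    exact h.cent (Subgroup.mem_centralizer_iff.2 fun e he =>
      congrArg Subtype.val (Subgroup.mem_center_iff.1 hz ⟨e, hEK.le he⟩))
  have hcomm : ∀ a ∈ Subgroup.normalizer (E : Set P), ∀ b ∈ Subgroup.normalizer (E : Set P), ⁅a, b⁆ ∈ Zk := by
    intro a ha b hb
    have h1 : ⁅a, b⁆ ∈ K := by
      rw [commutatorElement_def]
      exact K.mul_mem (K.mul_mem (K.mul_mem (hN1K ha) (hN1K hb)) (K.inv_mem (hN1K ha))) (K.inv_mem (hN1K hb))
    refine ⟨⟨_, h1⟩, Subgroup.mem_center_iff.2 fun k => Subtype.ext ?_, rfl⟩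
    exact Subgroup.mem_centralizer_iff.1 (comm_central hP h K hEK.le hKt a ha b hb) k k.2
  haveI hKnt : Nontrivial K := (Subgroup.nontrivial_iff_ne_bot _).2 (ne_bot_of_gt hEK)
  have hZb : Zk ≠ ⊥ := by
    rw [Ne, Subgroup.map_eq_bot_iff_of_injective _ K.subtype_injective]
    exact Group.IsNilpotent.center_ne_bot (G := ↥K)
  have hlt : Nat.card (P ⧸ Zk) < Nat.card P := by
    rw [Subgroup.card_eq_card_quotient_mul_card_subgroup Zk]
    exact lt_mul_of_one_lt_right Nat.card_pos ((Subgroup.one_lt_card_iff_ne_bot _).2 hZb)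
  let π := QuotientGroup.mk' Zk
  have hπ : Function.Surjective π := QuotientGroup.mk'_surjective Zk
  have hker : π.ker ≤ K := by rw [QuotientGroup.ker_mk']; exact hZE.trans hEK.le
  haveI : Group.IsNilpotent ↥(K.map π) := ((hP.to_quotient Zk).to_subgroup _).isNilpotent
  have hclass : Group.nilpotencyClass ↥(K.map π) = j + 1 := by
    refine IH (P ⧸ Zk) hlt (hP.to_quotient Zk) _ (soft_quot_normalizer hP h Zk hZE hN1t hcomm) (K.map π)
      (Subgroup.map_mono hN1K) (fun e => hKt ?_) j ?_
    · rw [← Subgroup.comap_map_eq_self hker, e, Subgroup.comap_top]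
    · rw [Subgroup.index_map_eq _ hπ hker, Subgroup.index_map_eq _ hπ
        (by rw [QuotientGroup.ker_mk']; exact hZE.trans Subgroup.le_normalizer)]
      refine Nat.eq_of_mul_eq_mul_left hp.out.pos ?_
      rw [mul_left_comm, ← pow_succ', hidx, ← Subgroup.relIndex_mul_index (Subgroup.le_normalizer (H := E)), h.idx]
  let g : K →* ↥(K.map π) := π.subgroupMap K
  have hg : Function.Surjective g := π.subgroupMap_surjective K
  have hgk : g.ker = Subgroup.center K := by
    ext k
    rw [MonoidHom.mem_ker]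
    constructor
    · intro hk
      obtain ⟨z, hz, hzk⟩ := (QuotientGroup.eq_one_iff (N := Zk) (k : P)).1 (congrArg Subtype.val hk)
      rwa [← Subtype.ext hzk]
    · intro hk
      exact Subtype.ext ((QuotientGroup.eq_one_iff (N := Zk) (k : P)).2 ⟨k, hk, rfl⟩)
  rw [nilpotencyClass_eq_quotient_center_plus_one, nilpotencyClass_congr
    ((QuotientGroup.quotientMulEquivOfEq hgk.symm).trans (QuotientGroup.quotientKerEquivOfSurjective g hg)), hclass]

theorem main2 {p : ℕ} [hp : Fact p.Prime] : ∀ (n : ℕ) (P : Type u) [Group P] [Finite P], Nat.card P = n →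
    IsPGroup p P → ∀ E : Subgroup P, Soft p E → ∀ K : Subgroup P, ∀ [Group.IsNilpotent ↥K], E ≤ K → K ≠ ⊤ →
      ∀ i, K.index * p ^ i = E.index → Group.nilpotencyClass K = i + 1 := by
  intro n
  induction n using Nat.strong_induction_on with
  | _ n ih =>
    intro P _ _ hn hP E h K _ hEK hKt i hi
    classical
    rcases i with _ | j
    · have hKE : E = K := by
        refine hEK.eq_or_lt.resolve_right fun hlt => ?_
        have := Subgroup.index_strictAnti hlt
        rw [pow_zero, mul_one] at hi
        omega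
      subst hKE
      haveI := h.comm
      have h1 : Group.nilpotencyClass ↥E ≤ 1 :=
        Group.IsNilpotent.nilpotencyClass_le_one_iff.2 h.comm
      have h0 : Group.nilpotencyClass ↥E ≠ 0 := by
        rw [Ne, nilpotencyClass_zero_iff_subsingleton]
        intro hs
        refine h.lt_normalizer.not_ge fun x _ => h.cent (Subgroup.mem_centralizer_iff.2 fun e he => ?_)
        have he1 : e = 1 := congrArg Subtype.val (Subsingleton.elim (⟨e, he⟩ : E) 1)
        rw [he1, mul_one, one_mul]
      omega
    · have hlt : E < K := by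
        refine lt_of_le_of_ne hEK fun e => ?_
        subst e
        have h1 : 1 < p ^ (j + 1) := Nat.one_lt_pow (by omega) hp.out.one_lt
        have h2 : 0 < E.index := Nat.pos_of_ne_zero Subgroup.index_ne_zero_of_finite
        nlinarith
      let L := Subgroup.normalizer (K : Set P)
      have hKL : K ≤ L := Subgroup.le_normalizer
      have hKL' : K < L := by
        haveI := hP.isNilpotent
        exact Group.normalizerCondition_of_isNilpotent K (lt_top_iff_ne_top.2 hKt)
      have hN1L : Subgroup.normalizer (E : Set P) ≤ L := (h.normalizer_le_of_lt hP hlt).trans hKL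
      have hEL : E ≤ L := hEK.trans hKL
      have hS : Soft p (E.subgroupOf L) := by
        refine ⟨⟨⟨fun u v => Subtype.ext (Subtype.ext
          (congrArg Subtype.val (h.comm.is_comm.comm (⟨u.1.1, u.2⟩ : E) ⟨v.1.1, v.2⟩) :))⟩⟩, fun u hu => ?_, ?_⟩
        · exact h.cent (Subgroup.mem_centralizer_iff.2 fun e he =>
            congrArg Subtype.val (Subgroup.mem_centralizer_iff.1 hu ⟨e, hEL he⟩ he))
        · rw [← Subgroup.subgroupOf_normalizer_eq hEL, Subgroup.relIndex_subgroupOf hN1L]
          exact h.idx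
      haveI : (K.subgroupOf L).Normal := Subgroup.normal_in_normalizer
      haveI : Group.IsNilpotent ↥(K.subgroupOf L) := ((hP.to_subgroup L).to_subgroup _).isNilpotent
      have hres := class_step (hP.to_subgroup L) (E := E.subgroupOf L) (K := K.subgroupOf L) hS
        (lt_of_le_of_ne (fun x hx => hEK hx) fun e => hlt.ne (by
          rw [← Subgroup.map_subgroupOf_eq_of_le hEL, e, Subgroup.map_subgroupOf_eq_of_le hKL]))
        (fun e => hKL'.not_ge (Subgroup.subgroupOf_eq_top.1 e)) (j := j)
        (by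
          refine Nat.eq_of_mul_eq_mul_right (Nat.pos_of_ne_zero (Subgroup.index_ne_zero_of_finite (H := L))) ?_
          show K.relIndex L * p ^ (j + 1) * L.index = E.relIndex L * L.index
          rw [Subgroup.relIndex_mul_index hEL, ← hi, mul_right_comm, Subgroup.relIndex_mul_index hKL])
        (fun Q _ _ hQ hQp F hF L' _ h1 h2 i h3 =>
          ih (Nat.card Q) (hn ▸ hQ.trans_le (Subgroup.card_le_card_group L)) Q rfl hQp F hF L' h1 h2 i h3)
      rw [← nilpotencyClass_congr (Subgroup.subgroupOfEquivOfLe hKL), hres]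

/-- Let P be a finite p-group and E an abelian subgroup of P that contains its centralizer, has index p in its normalizer, and has index at least p² in P. Then the subgroups of P containing E are totally ordered by inclusion, each proper one has index p in its normalizer (so they form the normalizer tower of E, with all steps of index p), and the i-th member of the tower above E has nilpotency class i + 1 whenever it is a proper subgroup of P. -/
theorem result {P : Type*} [Group P] [Finite P] (p : ℕ) [Fact p.Prime] (hP : IsPGroup p P)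
    (E : Subgroup P) (hEab : IsMulCommutative ↥E) (hC : Subgroup.centralizer (E : Set P) ≤ E)
    (hN : (E.subgroupOf (Subgroup.normalizer (E : Set P))).index = p) (hidx : p ^ 2 ≤ E.index) :
    (∀ K L : Subgroup P, E ≤ K → E ≤ L → K ≤ L ∨ L ≤ K) ∧
      (∀ K : Subgroup P, E ≤ K → K ≠ ⊤ → (K.subgroupOf (Subgroup.normalizer (K : Set P))).index = p) ∧
      ∀ (i : ℕ) (K : Subgroup P) [Group.IsNilpotent ↥K], E ≤ K → K ≠ ⊤ → K.index * p ^ i = E.index →
        Group.nilpotencyClass ↥K = i + 1 := by
  classical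
  have hS : Soft p E := ⟨hEab, hC, hN⟩
  obtain ⟨h1, h2⟩ := main1 (p := p) _ P rfl hP E hS
  exact ⟨h1, h2, fun i K _ hEK hKt hi => main2 (p := p) _ P rfl hP E hS K hEK hKt i hi⟩

end Cfsg.Agent.S3811
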