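import Cfsg.Statements.S3815

set_option autoImplicit false
open Cfsg

namespace Cfsg.Agent.S3815

/-- Let G be a finite group, p a prime and d ∈ G an element of order prime to p. If dg has order prime to p for every element g ∈ G of order prime to p, then d ∈ O_{p'}(G). -/
theorem result {G : Type*} [Group G] [Finite G] {p : ℕ} [Fact p.Prime]
    (d : G) (hd : (orderOf d).Coprime p)
    (h : ∀ g : G, (orderOf g).Coprime p → (orderOf (d * g)).Coprime p) :
    d ∈ Cfsg.pPrimeCore p G := by
  let S : Set G := {x | ∀ g : G, (orderOf g).Coprime p → (orderOf (x * g)).Coprime p}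
  have hS1 : (1 : G) ∈ S := fun g hg => by rwa [one_mul]
  have hmul : ∀ x ∈ S, ∀ y ∈ S, x * y ∈ S := fun x hx y hy g hg => by
    rw [mul_assoc]; exact hx _ (hy g hg)
  have hpow : ∀ x ∈ S, ∀ n : ℕ, x ^ n ∈ S := by
    intro x hx n
    induction n with
    | zero => simpa using hS1
    | succ n ih => rw [pow_succ]; exact hmul _ ih _ hx
  let D : Subgroup G :=
    { carrier := S
      one_mem' := hS1
      mul_mem' := fun {a b} ha hb => hmul a ha b hb
      inv_mem' := fun {a} ha => by
        rw [← mul_one a⁻¹, ← pow_orderOf_eq_one a, ← Nat.sub_add_cancel (orderOf_pos a), pow_succ',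
          inv_mul_cancel_left]
        exact hpow a ha _ }
  have horder : ∀ t y : G, orderOf (t * y * t⁻¹) = orderOf y := fun t y =>
    orderOf_injective (MulAut.conj t).toMonoidHom (MulAut.conj t).injective y
  haveI : D.Normal := ⟨fun x hx t g hg => by
    have h2 := hx (t⁻¹ * g * t) (by
      have := horder t⁻¹ g
      rw [inv_inv] at this
      rwa [this])
    rw [← horder t] at h2
    simpa [mul_assoc] using h2⟩
  refine (le_sSup (a := D) ⟨inferInstance, ?_⟩ : D ≤ Cfsg.pPrimeCore p G) h
  refine ((Fact.out : p.Prime).coprime_iff_not_dvd.2 fun hdvd => ?_).symm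
  obtain ⟨x, hx⟩ := exists_prime_orderOf_dvd_card' p hdvd
  have := x.2 1 (by simp)
  rw [mul_one, Subgroup.orderOf_coe, hx, Nat.coprime_self] at this
  exact (Fact.out : p.Prime).ne_one this

end Cfsg.Agent.S3815
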