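import Cfsg.Statements.S3818
import Cfsg.Agent.Lib.FGS.FixedHalf.Main

set_option autoImplicit false
open Cfsg

namespace Cfsg.Agent.S3818

/-- Let G be a finite solvable group and P a subgroup of G of prime order p > 3 whose conjugates generate G. Let V be a faithful irreducible representation of G over a field of positive characteristic, finite-dimensional. Then the subspace of V fixed by P has dimension less than half the dimension of V. -/
theorem result {G : Type*} [Group G] [Finite G] [Group.IsSolvable G]
    {p : ℕ} [Fact p.Prime] (hp : 3 < p) (P : Subgroup G) (hP : Nat.card P = p) (hgen : Subgroup.normalClosure (P : Set G) = ⊤)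
    {k : Type*} [Field k] (ℓ : ℕ) [Fact ℓ.Prime] [CharP k ℓ]
    {V : Type*} [AddCommGroup V] [Module k V] [FiniteDimensional k V]
    (ρ : Representation k G V) [ρ.IsIrreducible] (hfaith : Function.Injective ρ) :
    2 * Module.finrank k ↥(⨅ g : ↥P, LinearMap.ker (ρ (g : G) - LinearMap.id)) < Module.finrank k V := by
  have hP' : 1 < Nat.card P := hP ▸ (Fact.out : p.Prime).one_lt
  haveI : Nontrivial P := Finite.one_lt_card_iff_nontrivial.1 hP'
  obtain ⟨⟨g, hgP⟩, hg1⟩ := exists_ne (1 : P)
  have hg : orderOf g = p := by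
    have hd : orderOf (⟨g, hgP⟩ : P) ∣ p := hP ▸ orderOf_dvd_natCard _
    rw [← Subgroup.orderOf_mk g hgP]
    exact ((Nat.dvd_prime Fact.out).1 hd).resolve_left fun h => hg1 (orderOf_eq_one_iff.1 h)
  have hz : Subgroup.zpowers g = P := Subgroup.eq_of_le_of_card_ge (Subgroup.zpowers_le.2 hgP)
    (by rw [Nat.card_zpowers, hg, hP])
  have hgen' : Subgroup.normalClosure ({g} : Set G) = ⊤ := by
    rw [eq_top_iff, ← hgen]
    refine Subgroup.normalClosure_le_normal ?_
    rw [← hz]
    exact SetLike.coe_subset_coe.2 (Subgroup.zpowers_le.2 (Subgroup.subset_normalClosure rfl))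
  have hp5 : 5 ≤ p := by
    rcases Nat.lt_or_ge p 5 with h | h
    · have h4 : p = 4 := by omega
      exact absurd (Fact.out : p.Prime) (by rw [h4]; norm_num)
    · exact h
  exact lt_of_le_of_lt (Nat.mul_le_mul_left 2 (Submodule.finrank_mono
    (iInf_le (fun g : ↥P => LinearMap.ker (ρ (g : G) - LinearMap.id)) ⟨g, hgP⟩)))
    (CfsgLib.FGS.FixedHalf.fixed_lt_half_of_irreducible (ℓ := ℓ) hp5 hg hgen' ρ hfaith)

end Cfsg.Agent.S3818
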