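import Cfsg.Statements.S3819
import Cfsg.Agent.Lib.LocalEven.CharP
import Cfsg.Agent.Lib.Solvable.Fitting
import Cfsg.Agent.Lib.Solvable.CoprimeAction
import Cfsg.Agent.Lib.Cores.Basic

set_option autoImplicit false
open Cfsg

namespace Cfsg.Agent.S3819

open scoped commutatorElement
open CfsgLib.LocalEven

universe u

theorem conj_mem_core {G : Type u} [Group G] [Finite G] {q : ℕ} [Fact q.Prime] {C : Subgroup G} {g : G}
    (hg : g ∈ Subgroup.normalizer (C : Set G)) {x : G}
    (hx : x ∈ (Cfsg.pPrimeCore q ↥C).map C.subtype) :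
    g * x * g⁻¹ ∈ (Cfsg.pPrimeCore q ↥C).map C.subtype := by
  haveI := CfsgLib.Cores.pPrimeCore_characteristic (G := ↥C) q
  obtain ⟨y, hy, rfl⟩ := hx
  exact ⟨Subgroup.normalizerMonoidHom C ⟨g, hg⟩ y,
    (Subgroup.characteristic_iff_map_eq.1 inferInstance _).le ⟨y, hy, rfl⟩, rfl⟩

theorem orderOf_coprime {G : Type u} [Group G] [Finite G] {q : ℕ} {S : Subgroup G}
    (h : (Nat.card S).Coprime q) {x : G} (hx : x ∈ S) : (orderOf x).Coprime q :=
  Nat.Coprime.coprime_dvd_left (Subgroup.orderOf_mk x hx ▸ orderOf_dvd_natCard (⟨x, hx⟩ : S)) h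

set_option maxHeartbeats 400000 in
theorem key {G : Type u} [Group G] [Finite G] {q : ℕ} [hq : Fact q.Prime] (K : Subgroup G) [K.Normal]
    (hK : Group.IsSolvable K) (R : Subgroup G) [R.Normal] (hR : R = (Cfsg.pPrimeCore q ↥K).map K.subtype)
    (z : G) (hz : IsPGroup q (Subgroup.zpowers z)) (O : Subgroup G) (hO : (Nat.card O).Coprime q)
    (hOz : ∀ l ∈ O, z * l = l * z)
    (hOn : ∀ k ∈ K, z * k = k * z → ∀ l ∈ O, k * l * k⁻¹ ∈ O) :
    (∀ l ∈ O, ∀ k ∈ K, ⁅l, k⁆ ∈ R) ∧ O ⊓ K ≤ R := by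
  classical
  set π := QuotientGroup.mk' R with hπ
  set Kb := K.map π with hKb
  haveI hKbn : Kb.Normal := Subgroup.Normal.map inferInstance π (QuotientGroup.mk'_surjective R)
  haveI hKbs : Group.IsSolvable Kb :=
    Group.isSolvable_of_surjective (π.subgroupMap_surjective K)
  have hRK : R ≤ K := hR ▸ Subgroup.map_subtype_le _
  have hRcop : (Nat.card R).Coprime q := by
    rw [hR, Subgroup.card_map_of_injective K.subtype_injective]
    exact CfsgLib.Cores.coprime_card_pPrimeCore q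
  have hKbO : Cfsg.pPrimeCore q ↥Kb = ⊥ := by
    rw [eq_bot_iff]
    set f := π.subgroupMap K
    set N := (Cfsg.pPrimeCore q ↥Kb).comap f
    haveI hN : N.Normal := by
      haveI := CfsgLib.Cores.pPrimeCore_characteristic (G := ↥Kb) q
      infer_instance
    have hsurj : Function.Surjective f := π.subgroupMap_surjective K
    have hNcop : (Nat.card N).Coprime q := by
      have h1 : Nat.card N = f.ker.relIndex N * Nat.card (f.ker.subgroupOf N) := by
        rw [mul_comm]; exact (Subgroup.card_mul_index _).symm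
      rw [h1, Subgroup.relIndex_ker, Subgroup.map_comap_eq_self_of_surjective hsurj]
      refine (CfsgLib.Cores.coprime_card_pPrimeCore q).mul_left ?_
      rw [Nat.card_congr (Subgroup.subgroupOfEquivOfLe (MonoidHom.ker_le_comap f _)).toEquiv]
      refine Nat.Coprime.coprime_dvd_left ?_ hRcop
      have h2 : f.ker.map K.subtype ≤ R := by
        rintro _ ⟨y, hy, rfl⟩
        exact (QuotientGroup.eq_one_iff (y : G)).1 (congrArg Subtype.val (MonoidHom.mem_ker.1 hy))
      rw [← Subgroup.card_map_of_injective K.subtype_injective]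
      exact Subgroup.card_dvd_of_le h2
    intro x hx
    obtain ⟨y, rfl⟩ := hsurj x
    have hy : (y : G) ∈ R := hR ▸ ⟨y, CfsgLib.Cores.le_pPrimeCore hNcop hx, rfl⟩
    exact Subgroup.mem_bot.2 (Subtype.ext ((QuotientGroup.eq_one_iff (y : G)).2 hy))
  set Q := (Cfsg.pCore q ↥Kb).map Kb.subtype with hQ
  haveI hQn : Q.Normal := CfsgLib.Cores.map_subtype_pCore_normal q Kb
  have hQp : IsPGroup q Q := (CfsgLib.Cores.isPGroup_pCore q).map _
  have hQK : Q ≤ Kb := Subgroup.map_subtype_le _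
  have hQc : ∀ x ∈ Kb, (∀ v ∈ Q, x * v = v * x) → x ∈ Q := fun x hx h =>
    ⟨⟨x, hx⟩, CfsgLib.Solvable.centralizer_pCore_le q hKbO
      (Subgroup.mem_centralizer_iff.2 fun v hv => Subtype.ext (h v ⟨v, hv, rfl⟩).symm), rfl⟩
  have hQN : ∀ g : G ⧸ R, g ∈ Subgroup.normalizer (Q : Set (G ⧸ R)) := fun g => by
    rw [Subgroup.normalizer_eq_top]; trivial
  have hcent : ∀ l ∈ O, ∀ v ∈ Q, π l * v = v * π l := by
    intro l hl
    have hlo : (orderOf (π l)).Coprime q :=
      Nat.Coprime.coprime_dvd_left (orderOf_map_dvd π l) (orderOf_coprime hO hl)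
    refine commute_of_commute_fixed (R := Subgroup.zpowers (π z)) ?_ hQp ?_ hlo (hQN _) ?_ ?_
    · rw [← MonoidHom.map_zpowers]; exact hz.map π
    · exact fun r _ => hQN r
    · intro r hr
      obtain ⟨j, rfl⟩ := Subgroup.mem_zpowers_iff.1 hr
      exact (Commute.zpow_right (show Commute (π l) (π z) by
        show π l * π z = π z * π l
        rw [← map_mul, ← map_mul, hOz l hl]) j).eq
    · intro v hv hvz
      obtain ⟨k, hk, rfl⟩ := hQK hv
      have hzc : ∀ a ∈ Subgroup.zpowers z, ⁅a, k⁆ ∈ R := fun a ha => by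
        refine (QuotientGroup.eq_one_iff _).1 ?_
        show π ⁅a, k⁆ = 1
        rw [map_commutatorElement, commutatorElement_eq_one_iff_commute]
        exact hvz _ (by rw [← MonoidHom.map_zpowers]; exact ⟨a, ha, rfl⟩)
      obtain ⟨j, hj⟩ := hz.exists_card_eq
      obtain ⟨m, hm, hmk⟩ := CfsgLib.Solvable.exists_mul_mem_centralizer (Subgroup.zpowers z) R
        (by rw [Subgroup.normalizer_eq_top]; exact le_top) (by rw [hj]; exact hRcop.symm.pow_left j)
        (Or.inl inferInstance) k hzc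
      have hmkK : m * k ∈ K := mul_mem (hRK hm) hk
      have hcz : z * (m * k) = (m * k) * z :=
        Subgroup.mem_centralizer_iff.1 hmk z (Subgroup.mem_zpowers z)
      have h1 : ⁅l, m * k⁆ ∈ O := by
        rw [show ⁅l, m * k⁆ = l * ((m * k) * l⁻¹ * (m * k)⁻¹) by rw [commutatorElement_def]; group]
        exact mul_mem hl (hOn _ hmkK hcz _ (inv_mem hl))
      have h2 : π ⁅l, m * k⁆ = ⁅π l, π k⁆ := by
        rw [map_commutatorElement, map_mul, (show π m = 1 from (QuotientGroup.eq_one_iff m).2 hm),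
          one_mul]
      have h3 : ⁅π l, π k⁆ ∈ Q := by
        rw [commutatorElement_def]
        exact mul_mem (hQn.conj_mem _ hv _) (inv_mem hv)
      have h4 : ⁅π l, π k⁆ = 1 := eq_one_of_pow_eq_one_of_pGroup hQp h3
        (Nat.Coprime.coprime_dvd_left (orderOf_map_dvd π ⁅l, m * k⁆) (orderOf_coprime hO h1))
        (by rw [h2, pow_orderOf_eq_one])
      exact (commutatorElement_eq_one_iff_commute.1 h4).eq
  have hmain : ∀ l ∈ O, ∀ k ∈ K, ⁅l, k⁆ ∈ R := by
    intro l hl k hk
    refine (QuotientGroup.eq_one_iff _).1 ?_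
    show π ⁅l, k⁆ = 1
    rw [map_commutatorElement, commutatorElement_eq_one_iff_commute]
    have hkb : π k ∈ Kb := ⟨k, hk, rfl⟩
    set d := (π k)⁻¹ * (π l * π k * (π l)⁻¹)
    have hdK : d ∈ Kb := mul_mem (inv_mem hkb) (hKbn.conj_mem _ hkb _)
    have hd : d ∈ Q := by
      refine hQc d hdK fun v hv => ?_
      have e1 : ∀ w ∈ Q, π l * w * (π l)⁻¹ = w := fun w hw => by
        rw [hcent l hl w hw, mul_inv_cancel_right]
      have hw : π k * v * (π k)⁻¹ ∈ Q := hQn.conj_mem _ hv _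
      have e2 : π k * v * (π k)⁻¹ =
          (π l * π k * (π l)⁻¹) * v * (π l * π k * (π l)⁻¹)⁻¹ := by
        calc π k * v * (π k)⁻¹ = π l * (π k * v * (π k)⁻¹) * (π l)⁻¹ := (e1 _ hw).symm
          _ = (π l * π k * (π l)⁻¹) * (π l * v * (π l)⁻¹) * (π l * π k * (π l)⁻¹)⁻¹ := by group
          _ = _ := by rw [e1 v hv]
      calc d * v = (π k)⁻¹ * ((π l * π k * (π l)⁻¹) * v * (π l * π k * (π l)⁻¹)⁻¹) *
            (π l * π k * (π l)⁻¹) := by simp only [d]; group
        _ = (π k)⁻¹ * (π k * v * (π k)⁻¹) * (π l * π k * (π l)⁻¹) := by rw [← e2]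
        _ = v * d := by simp only [d]; group
    refine commute_of_conj_eq_mul hQp hd
      (Nat.Coprime.coprime_dvd_left (orderOf_map_dvd π l) (orderOf_coprime hO hl)) ?_ ?_
    · simp only [d]; group
    · exact hcent l hl d hd
  refine ⟨hmain, fun l hl => ?_⟩
  refine (QuotientGroup.eq_one_iff l).1 ?_
  have hlK : π l ∈ Kb := ⟨l, hl.2, rfl⟩
  have hlQ : π l ∈ Q := hQc _ hlK (hcent l hl.1)
  exact eq_one_of_pow_eq_one_of_pGroup hQp hlQ
    (Nat.Coprime.coprime_dvd_left (orderOf_map_dvd π l) (orderOf_coprime hO hl.1)) (pow_orderOf_eq_one _)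

/-- Let G be a finite group with Sylow p-subgroup P and H = O_{p'}(G), and suppose G = PH and the commutator subgroup [H, P] is solvable. Let q be a prime and z an element of q-power order of C_H(P). Then (O_{q'}(C_H(z)) ∩ O_{q'}(C_H(P))) · [O_{q'}(C_H(z)), P] ≤ O_{q'}(H). -/
theorem result {G : Type*} [Group G] [Finite G] {p : ℕ} [Fact p.Prime]
    (P : Sylow p G) (hPH : Cfsg.pPrimeCore p G ⊔ (P : Subgroup G) = ⊤)
    (hsol : Group.IsSolvable ↥⁅Cfsg.pPrimeCore p G, (P : Subgroup G)⁆)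
    {q : ℕ} [Fact q.Prime] (z : G) (hzH : z ∈ Cfsg.pPrimeCore p G) (hzP : z ∈ Subgroup.centralizer ((P : Subgroup G) : Set G))
    (hz : ∃ k : ℕ, orderOf z = q ^ k) :
    ((Cfsg.pPrimeCore q ↥(Cfsg.pPrimeCore p G ⊓ Subgroup.centralizer ({z} : Set G))).map
        (Cfsg.pPrimeCore p G ⊓ Subgroup.centralizer ({z} : Set G)).subtype ⊓
      (Cfsg.pPrimeCore q ↥(Cfsg.pPrimeCore p G ⊓ Subgroup.centralizer ((P : Subgroup G) : Set G))).map
        (Cfsg.pPrimeCore p G ⊓ Subgroup.centralizer ((P : Subgroup G) : Set G)).subtype) ⊔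
    ⁅(Cfsg.pPrimeCore q ↥(Cfsg.pPrimeCore p G ⊓ Subgroup.centralizer ({z} : Set G))).map
        (Cfsg.pPrimeCore p G ⊓ Subgroup.centralizer ({z} : Set G)).subtype, (P : Subgroup G)⁆ ≤
    (Cfsg.pPrimeCore q ↥(Cfsg.pPrimeCore p G)).map (Cfsg.pPrimeCore p G).subtype := by
  classical
  set H := Cfsg.pPrimeCore p G with hHdef
  haveI hHn : H.Normal := by
    haveI := CfsgLib.Cores.pPrimeCore_characteristic (G := G) p
    infer_instance
  set Cz := H ⊓ Subgroup.centralizer ({z} : Set G) with hCz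
  set Cp := H ⊓ Subgroup.centralizer ((P : Subgroup G) : Set G) with hCp
  set O := (Cfsg.pPrimeCore q ↥Cz).map Cz.subtype with hO
  set X := (Cfsg.pPrimeCore q ↥Cp).map Cp.subtype with hX
  set K := ⁅H, (P : Subgroup G)⁆ with hKdef
  have hPH' : (P : Subgroup G) ≤ Subgroup.normalizer (H : Set G) := by
    rw [Subgroup.normalizer_eq_top]; exact le_top
  have hKH : K ≤ H := Subgroup.commutator_le_left H (P : Subgroup G)
  haveI hKn : K.Normal := by
    rw [← Subgroup.normalizer_eq_top_iff, eq_top_iff, ← hPH]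
    exact sup_le (CfsgLib.Solvable.le_normalizer_commutator_left H _)
      (CfsgLib.Solvable.le_normalizer_commutator_right hPH')
  haveI hRn : ((Cfsg.pPrimeCore q ↥K).map K.subtype).Normal :=
    CfsgLib.Cores.map_subtype_pPrimeCore_normal q K
  set R := (Cfsg.pPrimeCore q ↥K).map K.subtype with hR
  obtain ⟨k, hk⟩ := hz
  have hzp : IsPGroup q (Subgroup.zpowers z) := IsPGroup.of_card (by rw [Nat.card_zpowers, hk])
  have hOcop : (Nat.card O).Coprime q := by
    rw [hO, Subgroup.card_map_of_injective Cz.subtype_injective]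
    exact CfsgLib.Cores.coprime_card_pPrimeCore q
  have hXcop : (Nat.card X).Coprime q := by
    rw [hX, Subgroup.card_map_of_injective Cp.subtype_injective]
    exact CfsgLib.Cores.coprime_card_pPrimeCore q
  have hkey := key (q := q) K hsol R hR z hzp O hOcop
    (fun l hl => (Subgroup.mem_centralizer_singleton_iff.1 (Subgroup.map_subtype_le _ hl : l ∈ Cz).2).symm)
    (fun y hy hyz l hl => conj_mem_core (Subgroup.le_normalizer
      (⟨hKH hy, Subgroup.mem_centralizer_singleton_iff.2 hyz.symm⟩ : y ∈ Cz)) hl)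
  obtain ⟨hcomm, hOK⟩ := hkey
  haveI hTn : ((Cfsg.pPrimeCore q ↥H).map H.subtype).Normal :=
    CfsgLib.Cores.map_subtype_pPrimeCore_normal q H
  have hRcop : (Nat.card R).Coprime q := by
    rw [hR, Subgroup.card_map_of_injective K.subtype_injective]
    exact CfsgLib.Cores.coprime_card_pPrimeCore q
  have hinto : ∀ S : Subgroup G, S ≤ H → (∀ h ∈ H, ∀ s ∈ S, h * s * h⁻¹ ∈ S) →
      (Nat.card S).Coprime q → S ≤ (Cfsg.pPrimeCore q ↥H).map H.subtype := by
    intro S hS hconj hcop s hs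
    haveI : (S.subgroupOf H).Normal := ⟨fun a ha b => hconj b b.2 a ha⟩
    exact ⟨⟨s, hS hs⟩, CfsgLib.Cores.le_pPrimeCore (N := S.subgroupOf H)
      (by rw [Nat.card_congr (Subgroup.subgroupOfEquivOfLe hS).toEquiv]; exact hcop) hs, rfl⟩
  have hRT : R ≤ (Cfsg.pPrimeCore q ↥H).map H.subtype :=
    hinto R ((Subgroup.map_subtype_le _).trans hKH) (fun h _ s hs => hRn.conj_mem s hs h) hRcop
  refine sup_le ?_ ((?_ : ⁅O, (P : Subgroup G)⁆ ≤ O ⊓ K).trans (hOK.trans hRT))
  · intro l hl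
    let S : Subgroup G := Subgroup.closure {g : G | ∃ h ∈ H, g = h * l * h⁻¹}
    have hS1 : S ≤ X ⊔ R := by
      rw [Subgroup.closure_le]
      rintro _ ⟨h, hh, rfl⟩
      have hcopP : (Nat.card (P : Subgroup G)).Coprime (Nat.card H) := by
        obtain ⟨j, hj⟩ := P.2.exists_card_eq
        rw [hj]
        exact (CfsgLib.Cores.coprime_card_pPrimeCore (G := G) p).symm.pow_left j
      haveI : Group.IsNilpotent (P : Subgroup G) := P.2.isNilpotent
      obtain ⟨x, hx, c, hc, rfl⟩ := CfsgLib.Solvable.exists_commutator_mul_centralizer (A := (P : Subgroup G))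
        (K := H) hPH' hcopP (Or.inl inferInstance) hh
      have h1 : c * l * c⁻¹ ∈ X := conj_mem_core (Subgroup.le_normalizer (hc : c ∈ Cp)) hl.2
      have h2 : ⁅x, c * l * c⁻¹⁆ ∈ R := by
        have h3 := hcomm l hl.1 (c⁻¹ * x * c) (by simpa using hKn.conj_mem x hx c⁻¹)
        have h4 := inv_mem (hRn.conj_mem _ h3 c)
        convert h4 using 1
        simp only [commutatorElement_def]; group
      rw [SetLike.mem_coe, show x * c * l * (x * c)⁻¹ = ⁅x, c * l * c⁻¹⁆ * (c * l * c⁻¹) by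
        rw [commutatorElement_def]; group]
      exact mul_mem (Subgroup.mem_sup_right h2) (Subgroup.mem_sup_left h1)
    have hS2 : ∀ h ∈ H, ∀ s ∈ S, h * s * h⁻¹ ∈ S := by
      intro h hh s hs
      suffices S ≤ S.comap (MulAut.conj h).toMonoidHom from this hs
      rw [Subgroup.closure_le]
      rintro _ ⟨g, hg, rfl⟩
      exact Subgroup.subset_closure ⟨h * g, mul_mem hh hg, by simp [mul_assoc]⟩
    have hScop : (Nat.card S).Coprime q := by
      refine Nat.Coprime.coprime_dvd_left (Subgroup.card_dvd_of_le hS1) ?_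
      rw [sup_comm]
      exact Nat.Coprime.coprime_dvd_left (CfsgLib.Cores.card_sup_dvd_mul R X) (hRcop.mul_left hXcop)
    refine hinto S (hS1.trans (sup_le ((Subgroup.map_subtype_le _).trans inf_le_left)
      ((Subgroup.map_subtype_le _).trans hKH))) hS2 hScop (Subgroup.subset_closure ⟨1, one_mem H, by simp⟩)
  · refine le_inf ?_ (Subgroup.commutator_mono ((Subgroup.map_subtype_le _).trans inf_le_left) le_rfl)
    refine Subgroup.commutator_le.2 fun l hl y hy => ?_
    rw [show ⁅l, y⁆ = l * (y * l⁻¹ * y⁻¹) by rw [commutatorElement_def]; group]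
    refine mul_mem hl (conj_mem_core ?_ (inv_mem hl))
    refine CfsgLib.LocalEven.mem_normalizer_of_conj_le ?_
    rintro _ ⟨g, hg, rfl⟩
    refine ⟨hHn.conj_mem g hg.1 y, Subgroup.mem_centralizer_singleton_iff.2 ?_⟩
    have hyz : Commute y z := Subgroup.mem_centralizer_iff.1 hzP y hy
    have hgz : Commute g z := Subgroup.mem_centralizer_singleton_iff.1 hg.2
    exact ((hyz.mul_left hgz).mul_left hyz.inv_left).eq

end Cfsg.Agent.S3819
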