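import Cfsg.Statements.S3820

set_option autoImplicit false
open Cfsg

namespace Cfsg.Agent.S3820

/-- Call a subgroup H of G pronormal if H and gHg⁻¹ are conjugate inside ⟨H, gHg⁻¹⟩ for every g ∈ G. Let S ≤ H ≤ G be subgroups of a finite group with S pronormal in G (for instance S a Sylow subgroup). Then H is pronormal in G if and only if H and gHg⁻¹ are conjugate inside ⟨H, gHg⁻¹⟩ for every g ∈ N_G(S). In particular H is pronormal whenever N_G(S) ≤ H. -/
theorem result {G : Type*} [Group G] [Finite G] (S H : Subgroup G) (hSH : S ≤ H)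
    (hS : Cfsg.IsPronormal S) :
    Cfsg.IsPronormal H ↔
      ∀ g ∈ Subgroup.normalizer (S : Set G), ∃ w ∈ H ⊔ H.map (MulAut.conj g).toMonoidHom,
        H.map (MulAut.conj g).toMonoidHom = H.map (MulAut.conj w).toMonoidHom := by
  have hcomp : ∀ (K : Subgroup G) (a b : G), K.map (MulAut.conj (a * b)).toMonoidHom =
      (K.map (MulAut.conj b).toMonoidHom).map (MulAut.conj a).toMonoidHom := by
    intro K a b
    rw [Subgroup.map_map]
    congr 1
    ext x
    simp [mul_assoc]
  refine ⟨fun h g _ => h g, fun h g => ?_⟩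
  obtain ⟨x, hx, hxeq⟩ := hS g
  have hg' : x⁻¹ * g ∈ Subgroup.normalizer (S : Set G) := by
    rw [Subgroup.mem_normalizer_iff]
    intro s
    have he : ∀ t : G, x⁻¹ * g * t * (x⁻¹ * g)⁻¹ =
        (MulAut.conj x).symm (MulAut.conj g t) := by
      intro t; simp [mul_assoc]
    rw [he]
    constructor
    · intro hs
      have h1 : MulAut.conj g s ∈ S.map (MulAut.conj g).toMonoidHom := ⟨s, hs, rfl⟩
      rw [hxeq] at h1
      obtain ⟨u, hu, hu'⟩ := h1
      rw [← hu']
      show (MulAut.conj x).symm (MulAut.conj x u) ∈ S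
      rw [MulEquiv.symm_apply_apply]
      exact hu
    · intro hs
      have h1 : MulAut.conj g s ∈ S.map (MulAut.conj x).toMonoidHom :=
        ⟨_, hs, (MulAut.conj x).apply_symm_apply _⟩
      rw [← hxeq] at h1
      obtain ⟨u, hu, hu'⟩ := h1
      exact (MulAut.conj g).injective hu' ▸ hu
  obtain ⟨w, hw, hweq⟩ := h _ hg'
  have hSle : S ⊔ S.map (MulAut.conj g).toMonoidHom ≤ H ⊔ H.map (MulAut.conj g).toMonoidHom :=
    sup_le_sup hSH (Subgroup.map_mono hSH)
  refine ⟨x * w, Subgroup.mul_mem _ (hSle hx) ?_, ?_⟩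
  · refine (?_ : H ⊔ H.map (MulAut.conj (x⁻¹ * g)).toMonoidHom ≤ _) hw
    refine sup_le le_sup_left ?_
    rintro _ ⟨t, ht, rfl⟩
    have : (MulAut.conj (x⁻¹ * g)).toMonoidHom t = x⁻¹ * (g * t * g⁻¹) * x := by
      simp [mul_assoc]
    rw [this]
    exact Subgroup.mul_mem _ (Subgroup.mul_mem _ (Subgroup.inv_mem _ (hSle hx))
      (Subgroup.mem_sup_right ⟨t, ht, by simp⟩)) (hSle hx)
  · rw [hcomp H x w, ← hweq, ← hcomp, mul_inv_cancel_left]

end Cfsg.Agent.S3820
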