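import Cfsg.Statements.S3821

set_option autoImplicit false
open Cfsg

namespace Cfsg.Agent.S3821

/-- Let A be a normal subgroup of the finite group G and H a subgroup of A. Then H is pronormal in G (H and gHg⁻¹ conjugate inside ⟨H, gHg⁻¹⟩ for every g ∈ G) if and only if H is pronormal in A and G = A · N_G(H). -/
theorem result {G : Type*} [Group G] [Finite G] (A H : Subgroup G) [A.Normal] (hHA : H ≤ A) :
    Cfsg.IsPronormal H ↔ (Cfsg.IsPronormal (H.subgroupOf A) ∧ A ⊔ Subgroup.normalizer (H : Set G) = ⊤) := by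
  have hcomp : ∀ (K : Subgroup G) (a b : G), K.map (MulAut.conj (a * b)).toMonoidHom =
      (K.map (MulAut.conj b).toMonoidHom).map (MulAut.conj a).toMonoidHom := by
    intro K a b
    rw [Subgroup.map_map]
    congr 1
    ext x
    simp [mul_assoc]
  have hnorm : ∀ n : G, n ∈ Subgroup.normalizer (H : Set G) ↔
      H.map (MulAut.conj n).toMonoidHom = H := by
    intro n
    rw [Subgroup.mem_normalizer_iff, SetLike.ext_iff]
    constructor
    · intro h y
      constructor
      · rintro ⟨s, hs, rfl⟩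
        simpa [MulAut.conj_apply] using (h s).1 hs
      · intro hy
        refine ⟨n⁻¹ * y * n, (h _).2 ?_, by simp [mul_assoc]⟩
        simpa [mul_assoc] using hy
    · intro h s
      constructor
      · intro hs; exact (h _).1 ⟨s, hs, by simp⟩
      · intro hs
        obtain ⟨u, hu, hu'⟩ := (h _).2 hs
        simp at hu'
        exact hu' ▸ hu
  have hsub : ∀ a : A, (H.subgroupOf A).map (MulAut.conj a).toMonoidHom =
      (H.map (MulAut.conj (a : G)).toMonoidHom).subgroupOf A := by
    intro a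
    ext y
    constructor
    · rintro ⟨t, ht, rfl⟩; exact ⟨t, ht, by simp⟩
    · rintro ⟨t, ht, ht'⟩
      exact ⟨⟨t, hHA ht⟩, ht, Subtype.ext (by simpa using ht')⟩
  have hmap : ∀ g : G, H.map (MulAut.conj g).toMonoidHom ≤ A := by
    rintro g _ ⟨t, ht, rfl⟩
    exact ‹A.Normal›.conj_mem t (hHA ht) g
  constructor
  · intro h
    refine ⟨fun a => ?_, eq_top_iff.2 fun g _ => ?_⟩
    · obtain ⟨x, hx, hxeq⟩ := h (a : G)
      have hxA : x ∈ A := sup_le hHA (hmap _) hx
      refine ⟨⟨x, hxA⟩, ?_, by rw [hsub, hsub, hxeq]⟩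
      rw [hsub, ← Subgroup.subgroupOf_sup hHA (hmap _)]
      exact hx
    · obtain ⟨x, hx, hxeq⟩ := h g
      have hn : x⁻¹ * g ∈ Subgroup.normalizer (H : Set G) := by
        rw [hnorm, hcomp, hxeq, ← hcomp, inv_mul_cancel]
        ext y; simp
      rw [show g = x * (x⁻¹ * g) by group]
      exact Subgroup.mul_mem_sup (sup_le hHA (hmap _) hx) hn
  · rintro ⟨h, htop⟩ g
    have hg : g ∈ A ⊔ Subgroup.normalizer (H : Set G) := htop ▸ Subgroup.mem_top g
    rw [← SetLike.mem_coe, Subgroup.normal_mul, Set.mem_mul] at hg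
    obtain ⟨a, ha, n, hn, rfl⟩ := hg
    obtain ⟨x, hx, hxeq⟩ := h ⟨a, ha⟩
    refine ⟨x, ?_, ?_⟩
    · rw [hcomp, (hnorm n).1 hn]
      rw [hsub, ← Subgroup.subgroupOf_sup hHA (hmap _)] at hx
      exact hx
    · rw [hsub, hsub] at hxeq
      rw [hcomp, (hnorm n).1 hn]
      exact (Subgroup.subgroupOf_inj.1 hxeq |> fun e => by
        rwa [inf_eq_left.2 (hmap _), inf_eq_left.2 (hmap _)] at e)

end Cfsg.Agent.S3821
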