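import Cfsg.Statements.S3822
import Cfsg.Agent.Lib.FGS.FixedHalf.FittingTimes

set_option autoImplicit false
open Cfsg

namespace Cfsg.Agent.S3822

/-- Let G be a finite group and P a subgroup of prime order p > 3. Consider the solvable subgroups A of G of the form A = ⟨P, aPa⁻¹⟩ for some a ∈ A, and let A be maximal under inclusion among them. Then for every nilpotent subgroup V of G normalized by A, the subgroup F(A)V generated by the Fitting subgroup of A and V is nilpotent. -/
theorem result {G : Type*} [Group G] [Finite G]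
    {p : ℕ} [Fact p.Prime] (hp : 3 < p) (P : Subgroup G) (hP : Nat.card P = p) (A : Subgroup G)
    (hA : Group.IsSolvable ↥A ∧ ∃ a ∈ A, A = P ⊔ P.map (MulAut.conj a).toMonoidHom)
    (hmax : ∀ B : Subgroup G, A ≤ B → Group.IsSolvable ↥B → (∃ b ∈ B, B = P ⊔ P.map (MulAut.conj b).toMonoidHom) → B = A)
    (V : Subgroup G) (hV : Group.IsNilpotent ↥V) (hAV : A ≤ Subgroup.normalizer (V : Set G)) :
    Group.IsNilpotent ↥((Cfsg.fittingSubgroup ↥A).map A.subtype ⊔ V) := by
  have hP' : 1 < Nat.card P := hP ▸ (Fact.out : p.Prime).one_lt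
  haveI : Nontrivial P := Finite.one_lt_card_iff_nontrivial.1 hP'
  obtain ⟨⟨g, hgP⟩, hg1⟩ := exists_ne (1 : P)
  have hg : orderOf g = p := by
    have hd : orderOf (⟨g, hgP⟩ : P) ∣ p := hP ▸ orderOf_dvd_natCard _
    rw [← Subgroup.orderOf_mk g hgP]
    exact ((Nat.dvd_prime Fact.out).1 hd).resolve_left fun h => hg1 (orderOf_eq_one_iff.1 h)
  have hz : Subgroup.zpowers g = P := Subgroup.eq_of_le_of_card_ge (Subgroup.zpowers_le.2 hgP)
    (by rw [Nat.card_zpowers, hg, hP])
  have key : ∀ b : G, P ⊔ P.map (MulAut.conj b).toMonoidHom = Subgroup.closure ({g, b * g * b⁻¹} : Set G) := by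
    intro b
    rw [← hz, MonoidHom.map_zpowers, Subgroup.zpowers_eq_closure, Subgroup.zpowers_eq_closure,
      ← Subgroup.closure_union, Set.singleton_union]
    rfl
  obtain ⟨hAs, a, haA, hA⟩ := hA
  haveI := hAs
  have hp5 : 5 ≤ p := by
    rcases Nat.lt_or_ge p 5 with h | h
    · have h4 : p = 4 := by omega
      exact absurd (Fact.out : p.Prime) (by rw [h4]; norm_num)
    · exact h
  exact CfsgLib.FGS.FixedHalf.nilpotent_fittingOf_sup A hp5 hg haA (hA.trans (key a))
    (fun B hAB hB ⟨b, hb, e⟩ => hmax B hAB hB ⟨b, hb, e.trans (key b).symm⟩) V hV hAV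

end Cfsg.Agent.S3822
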