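import Cfsg.Statements.S3824
import Cfsg.Agent.Lib.Char.Burnside
import Cfsg.Agent.Lib.PGroup.Counting

set_option autoImplicit false
open Cfsg

namespace Cfsg.Agent.S3824

universe u
theorem aux (n : ℕ) : ∀ (G : Type u) [Group G] [Finite G], Nat.card G = n → ∀ A : Subgroup G,
    (∀ a ∈ A, ∀ b ∈ A, a * b = b * a) → (∃ k, A.index = 2 ^ k) → Group.IsSolvable G := by
  induction n using Nat.strong_induction_on with
  | _ n ih =>
    intro G _ _ hn A hA hidx
    obtain ⟨k, hk⟩ := hidx
    rcases subsingleton_or_nontrivial G with h | h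
    · infer_instance
    by_cases hA0 : A = ⊥
    · have hp : IsPGroup 2 G := IsPGroup.of_card (n := k) (by rw [← hk, hA0, Subgroup.index_bot])
      haveI := Fact.mk Nat.prime_two
      haveI := IsPGroup.isNilpotent hp
      infer_instance
    by_cases hs : IsSimpleGroup G
    · obtain ⟨⟨a, haA⟩, ha1⟩ := Subgroup.ne_bot_iff_exists_ne_one.1 hA0
      have hle : A ≤ Subgroup.centralizer ({a} : Set G) := fun b hb =>
        Subgroup.mem_centralizer_singleton_iff.2 (hA b hb a haA)
      obtain ⟨j, -, hj⟩ := (Nat.dvd_prime_pow Nat.prime_two).1 (hk ▸ Subgroup.index_dvd_of_le hle)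
      haveI := Fintype.ofFinite G
      have hp := CfsgLib.Char.prime_card_of_class_primePow 2 j Nat.prime_two a (fun h => ha1 (Subtype.ext h)) hj
      haveI := Fact.mk hp
      haveI : IsCyclic G := isCyclic_of_prime_card rfl
      exact Group.isSolvable_of_comm fun a b => by
        obtain ⟨g, hg⟩ := IsCyclic.exists_generator (α := G)
        obtain ⟨i, rfl⟩ := hg a
        obtain ⟨l, rfl⟩ := hg b
        exact (Commute.zpow_zpow (Commute.refl g) i l).eq
    obtain ⟨N, hN, hNbot, hNtop⟩ : ∃ N : Subgroup G, N.Normal ∧ N ≠ ⊥ ∧ N ≠ ⊤ := by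
      by_contra! hc
      exact hs { eq_bot_or_eq_top_of_normal := fun N hN => or_iff_not_imp_left.2 fun h' => hc N hN h' }
    haveI := hN
    have h1 : Group.IsSolvable N := by
      have hlt : Nat.card N < n := hn ▸ lt_of_le_of_ne (Nat.le_of_dvd Nat.card_pos N.card_subgroup_dvd_card)
          fun h => hNtop (Subgroup.eq_top_of_card_eq _ h)
      refine ih _ hlt N rfl (A.subgroupOf N) ?_ ?_
      · exact fun a ha b hb => Subtype.ext (hA (a : G) ha (b : G) hb)
      · have h2 : A.relIndex N ∣ A.index := by
          have e0 : A.relIndex N = A.relIndex (A ⊔ N) := by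
            have e1 := (A.subgroupOf N).card_mul_index
            have e2 := (A.subgroupOf (A ⊔ N)).card_mul_index
            rw [Nat.card_congr (Subgroup.subgroupOfEquivOfLe le_sup_left).toEquiv] at e2
            have e3 := CfsgLib.PGroup.card_setMul_mul_card_inf A N
            rw [← Subgroup.mul_normal] at e3
            have e4 : Nat.card (A.subgroupOf N) = Nat.card ↥(A ⊓ N) := by
              rw [← Subgroup.inf_subgroupOf_right, Nat.card_congr (Subgroup.subgroupOfEquivOfLe inf_le_right).toEquiv]
            rw [e4] at e1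
            change Nat.card ↥(A ⊔ N) * Nat.card ↥(A ⊓ N) = Nat.card A * Nat.card N at e3
            refine Nat.eq_of_mul_eq_mul_left (Nat.mul_pos (Nat.card_pos (α := A)) (Nat.card_pos (α := ↥(A ⊓ N)))) ?_
            calc Nat.card A * Nat.card ↥(A ⊓ N) * A.relIndex N = Nat.card A * Nat.card N := by
                  rw [mul_assoc]; exact congrArg _ e1
              _ = Nat.card ↥(A ⊔ N) * Nat.card ↥(A ⊓ N) := e3.symm
              _ = Nat.card A * (A.subgroupOf (A ⊔ N)).index * Nat.card ↥(A ⊓ N) := by rw [e2]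
              _ = _ := by rw [Subgroup.relIndex]; ring
          rw [e0]
          exact Dvd.intro _ (Subgroup.relIndex_mul_index (le_sup_left : A ≤ A ⊔ N))
        obtain ⟨j, -, hj⟩ := (Nat.dvd_prime_pow Nat.prime_two).1 (hk ▸ h2)
        exact ⟨j, hj⟩
    have h2 : Group.IsSolvable (G ⧸ N) := by
      have hlt : Nat.card (G ⧸ N) < n := by
        rw [← hn, ← Subgroup.index_eq_card]
        conv_rhs => rw [← N.card_mul_index]
        exact lt_mul_of_one_lt_left (Nat.pos_of_ne_zero Subgroup.index_ne_zero_of_finite)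
          ((Subgroup.one_lt_card_iff_ne_bot N).2 hNbot)
      refine ih _ hlt (G ⧸ N) rfl (A.map (QuotientGroup.mk' N)) ?_ ?_
      · rintro _ ⟨a, ha, rfl⟩ _ ⟨b, hb, rfl⟩
        rw [← map_mul, hA a ha b hb, map_mul]
      · obtain ⟨j, -, hj⟩ := (Nat.dvd_prime_pow Nat.prime_two).1
          (hk ▸ Subgroup.index_map_dvd A (QuotientGroup.mk'_surjective N))
        exact ⟨j, hj⟩
    exact Group.isSolvable_of_ker_le_range N.subtype (QuotientGroup.mk' N)
      (by rw [QuotientGroup.ker_mk', Subgroup.range_subtype])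

/-- Every finite group having an abelian subgroup whose index is a power of 2 is solvable. -/
theorem result {G : Type*} [Group G] [Finite G]
    (A : Subgroup G) (hA : IsMulCommutative A) (hidx : ∃ k : ℕ, A.index = 2 ^ k) : Group.IsSolvable G := by
  exact aux _ G rfl A (fun a ha b hb => congrArg Subtype.val (hA.is_comm.comm (⟨a, ha⟩ : A) ⟨b, hb⟩)) hidx

end Cfsg.Agent.S3824
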