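import Cfsg.Statements.S3825
import Mathlib

set_option autoImplicit false
open Cfsg

namespace Cfsg.Agent.S3825

/-- Let U be a subgroup of a finite group H and w an involution of H normalizing U and commuting with exactly two elements of U, the identity and y. If V is a non-cyclic elementary abelian 2-subgroup of U containing y which is normal in U and invariant under w, then V is a Sylow 2-subgroup of U, V has order 4, and U/V is abelian. -/
theorem result {H : Type*} [Group H] [Finite H] (U : Subgroup H) (w : H) (hw : orderOf w = 2)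
    (hwU : w ∈ Subgroup.normalizer (U : Set H)) (y : H) (hy : y ≠ 1) (hyU : y ∈ U)
    (hfix : ∀ u ∈ U, w * u * w⁻¹ = u ↔ (u = 1 ∨ u = y))
    (V : Subgroup H) (hVU : V ≤ U) (hVn : (V.subgroupOf U).Normal) (hVw : ∀ v ∈ V, w * v * w⁻¹ ∈ V)
    (hVe : Cfsg.IsElementaryAbelian 2 V) (hVc : ¬ IsCyclic ↥V) (hyV : y ∈ V) :
    ¬ 2 ∣ V.relIndex U ∧ Nat.card ↥V = 4 ∧ ⁅U, U⁆ ≤ V := by
  classical
  have hcomm : ∀ a ∈ V, ∀ b ∈ V, a * b = b * a := fun a ha b hb =>
    congrArg Subtype.val (hVe.1.is_comm.comm (⟨a, ha⟩ : V) ⟨b, hb⟩)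
  have hinvV : ∀ a ∈ V, a⁻¹ = a := fun a ha => inv_eq_iff_mul_eq_one.2 (by rw [← sq]; exact hVe.2 a ha)
  have hw2 : ∀ x : H, w * (w * x * w⁻¹) * w⁻¹ = x := by
    intro x
    have h2 : w * w = 1 := by rw [← sq, ← hw, pow_orderOf_eq_one]
    calc w * (w * x * w⁻¹) * w⁻¹ = (w * w) * x * (w * w)⁻¹ := by group
      _ = x := by rw [h2]; simp
  -- the commutator map on `V`
  let f : V →* H :=
    { toFun := fun v => w * v * w⁻¹ * v
      map_one' := by simp
      map_mul' := fun a b => by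
        have h1 : (a : H) * b = b * a := hcomm a a.2 b b.2
        have h2 : (w * (b : H) * w⁻¹) * a = a * (w * b * w⁻¹) := hcomm _ (hVw b b.2) _ a.2
        show w * ((a : H) * b) * w⁻¹ * ((a : H) * b) = _
        calc w * ((a : H) * b) * w⁻¹ * ((a : H) * b) = w * a * w⁻¹ * ((w * b * w⁻¹) * a) * b := by group
          _ = _ := by rw [h2]; group }
  have hfy : ∀ v : V, f v = 1 ∨ f v = y := by
    intro v
    refine (hfix _ (hVU (V.mul_mem (hVw v v.2) v.2))).1 ?_
    show w * (w * (v : H) * w⁻¹ * v) * w⁻¹ = w * (v : H) * w⁻¹ * v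
    calc w * (w * (v : H) * w⁻¹ * v) * w⁻¹ = (w * (w * v * w⁻¹) * w⁻¹) * (w * v * w⁻¹) := by group
      _ = _ := by rw [hw2]; exact hcomm _ v.2 _ (hVw v v.2)
  have hker : ∀ v : V, f v = 1 → (v : H) = 1 ∨ (v : H) = y := by
    intro v hv
    refine (hfix v (hVU v.2)).1 ?_
    have hv' : w * (v : H) * w⁻¹ * v = 1 := hv
    rw [mul_eq_one_iff_eq_inv, hinvV v v.2] at hv'
    exact hv'
  have hV4 : Nat.card V ≤ 4 := by
    rw [← Subgroup.card_mul_index f.ker, Subgroup.index_ker]
    have two : ∀ (S : Subgroup H), (∀ x ∈ S, x = 1 ∨ x = y) → Nat.card S ≤ 2 := by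
      intro S hS
      rw [← SetLike.coe_sort_coe, Nat.card_coe_set_eq]
      exact (Set.ncard_le_ncard (t := {1, y}) (fun x hx => hS x hx) (Set.toFinite _)).trans
        ((Set.ncard_insert_le _ _).trans (by simp))
    have h1 : Nat.card f.ker ≤ 2 := by
      rw [← Subgroup.card_map_of_injective V.subtype_injective]
      exact two _ (by rintro _ ⟨v, hv, rfl⟩; exact hker v hv)
    have h2 : Nat.card f.range ≤ 2 := two _ (by rintro _ ⟨v, rfl⟩; exact hfy v)
    exact le_trans (Nat.mul_le_mul h1 h2) le_rfl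
  have hVcard : Nat.card V = 4 := by
    have hp : IsPGroup 2 V := fun a => ⟨1, Subtype.ext (by simpa using hVe.2 a a.2)⟩
    obtain ⟨k, hk⟩ := IsPGroup.iff_card.1 hp
    rw [hk] at hV4 ⊢
    have : k ≠ 0 ∧ k ≠ 1 := by
      constructor <;> rintro rfl <;> apply hVc
      · exact @isCyclic_of_subsingleton _ _ (Nat.card_eq_one_iff_unique.1 (by rw [hk, pow_zero])).1
      · exact isCyclic_of_prime_card (p := 2) (by rw [hk, pow_one])
    have : k ≤ 2 := (Nat.pow_le_pow_iff_right (by norm_num : 1 < 2)).1 (hV4.trans_eq (by norm_num))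
    rw [show k = 2 by omega]; norm_num
  -- some element of `V` is mapped to `y`
  obtain ⟨v₀, hv₀⟩ : ∃ v : V, f v = y := by
    by_contra! hno
    have : Nat.card V ≤ 2 := by
      rw [← SetLike.coe_sort_coe, Nat.card_coe_set_eq]
      exact (Set.ncard_le_ncard (t := {1, y}) (fun x hx => hker ⟨x, hx⟩ ((hfy ⟨x, hx⟩).resolve_right (hno _)))
        (Set.toFinite _)).trans ((Set.ncard_insert_le _ _).trans (by simp))
    omega
  -- `w` is fixed point free on `U / V`
  let N := V.subgroupOf U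
  haveI : N.Normal := hVn
  let c : U →* U :=
    { toFun := fun u => ⟨w * u * w⁻¹, (Subgroup.mem_normalizer_iff.1 hwU u).1 u.2⟩
      map_one' := Subtype.ext (by simp)
      map_mul' := fun a b => Subtype.ext (by simp [mul_assoc]) }
  let φ : U ⧸ N →* U ⧸ N := QuotientGroup.map N N c (fun u hu => hVw _ hu)
  have hφ : MonoidHom.FixedPointFree φ := by
    intro q
    induction q using QuotientGroup.induction_on with
    | _ u =>
      intro hq
      have hmem : (u : H)⁻¹ * (w * u * w⁻¹) ∈ V := by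
        have h1 : ((c u : U) : U ⧸ N) = (u : U ⧸ N) := hq
        exact (QuotientGroup.eq (s := N)).1 h1.symm
      refine (QuotientGroup.eq_one_iff u).2 ?_
      show (u : H) ∈ V
      set v := (u : H)⁻¹ * (w * u * w⁻¹) with hv
      have hwu : w * (u : H) * w⁻¹ = u * v := by rw [hv]; group
      have hvfix : w * v * w⁻¹ = v := by
        have h1 := hw2 u
        rw [hwu] at h1
        have h2 : (u : H) * v * (w * v * w⁻¹) = u := by
          calc (u : H) * v * (w * v * w⁻¹) = (w * u * w⁻¹) * (w * v * w⁻¹) := by rw [hwu]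
            _ = w * ((u : H) * v) * w⁻¹ := by group
            _ = u := h1
        have h3 : v * (w * v * w⁻¹) = 1 := mul_left_cancel (a := (u : H)) (by rw [← mul_assoc, h2, mul_one])
        rw [eq_inv_of_mul_eq_one_right h3, hinvV v hmem]
      rcases (hfix v (hVU hmem)).1 hvfix with h | h
      · have : w * (u : H) * w⁻¹ = u := by rw [hwu, h, mul_one]
        rcases (hfix u u.2).1 this with h' | h' <;> rw [h']
        exacts [V.one_mem, hyV]
      · have hwv0 : w * (v₀ : H) * w⁻¹ = y * v₀ := by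
          have h1 : w * (v₀ : H) * w⁻¹ * v₀ = y := hv₀
          have hsq : (v₀ : H) * v₀ = 1 := by rw [← sq]; exact hVe.2 _ v₀.2
          calc w * (v₀ : H) * w⁻¹ = w * v₀ * w⁻¹ * ((v₀ : H) * v₀) := by rw [hsq, mul_one]
            _ = w * v₀ * w⁻¹ * (v₀ : H) * v₀ := by rw [← mul_assoc]
            _ = _ := by rw [h1]
        have : w * ((u : H) * v₀) * w⁻¹ = u * v₀ := by
          calc w * ((u : H) * v₀) * w⁻¹ = (w * u * w⁻¹) * (w * v₀ * w⁻¹) := by group
            _ = u * (y * y) * v₀ := by rw [hwu, h, hwv0]; group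
            _ = u * v₀ := by rw [← sq, hVe.2 y hyV, mul_one]
        rw [show (u : H) = ((u : H) * v₀) * (v₀ : H)⁻¹ by group]
        refine V.mul_mem ?_ (V.inv_mem v₀.2)
        rcases (hfix _ (U.mul_mem u.2 (hVU v₀.2))).1 this with h' | h' <;> rw [h']
        exacts [V.one_mem, hyV]
  have hinv : Function.Involutive φ := by
    intro q
    induction q using QuotientGroup.induction_on with
    | _ u => exact congrArg _ (Subtype.ext (hw2 u))
  refine ⟨fun h => ?_, hVcard, Subgroup.commutator_le.2 fun a ha b hb => ?_⟩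
  · have := MonoidHom.FixedPointFree.odd_card_of_involutive hφ hinv
    rw [← Subgroup.index_eq_card] at this
    exact Nat.not_even_iff_odd.2 this (even_iff_two_dvd.2 h)
  · have := MonoidHom.FixedPointFree.commute_all_of_involutive hφ hinv
      ((⟨a, ha⟩ : U) : U ⧸ N) ((⟨b, hb⟩ : U) : U ⧸ N)
    have h1 : ((⟨a, ha⟩ * ⟨b, hb⟩ * (⟨a, ha⟩)⁻¹ * (⟨b, hb⟩)⁻¹ : U) : U ⧸ N) = 1 := by
      simp only [QuotientGroup.mk_mul, QuotientGroup.mk_inv]
      rw [this.eq]; group
    exact (QuotientGroup.eq_one_iff (N := N)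
      ((⟨a, ha⟩ : U) * ⟨b, hb⟩ * (⟨a, ha⟩)⁻¹ * (⟨b, hb⟩)⁻¹)).1 h1

end Cfsg.Agent.S3825
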