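import Cfsg.Statements.S3835
import Cfsg.Agent.Lib.Techniques.QdBasics
import Mathlib.GroupTheory.SpecificGroups.Alternating
import Mathlib.GroupTheory.SpecificGroups.Cyclic
import Mathlib.GroupTheory.Sylow
import Mathlib.GroupTheory.GroupAction.Quotient
import Mathlib.Tactic.LinearCombination
import Mathlib.Tactic.IntervalCases

set_option autoImplicit false
open Cfsg

namespace Cfsg.Agent.S3835

open Subgroup CfsgLib.Techniques.Qd
open scoped commutatorElement

section Affine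

variable {p : ℕ}

abbrev Pl (p : ℕ) := ZMod p × ZMod p

/-- The affine map of a matrix. -/
def affFun (M : ↥(Cfsg.qd p)) (v : Pl p) : Pl p :=
  (M.1.1 0 0 * v.1 + M.1.1 0 1 * v.2 + M.1.1 0 2, M.1.1 1 0 * v.1 + M.1.1 1 1 * v.2 + M.1.1 1 2)

theorem affFun_one (v : Pl p) : affFun 1 v = v := by
  simp [affFun, Matrix.one_apply]

theorem affFun_mul (M N : ↥(Cfsg.qd p)) (v : Pl p) : affFun (M * N) v = affFun M (affFun N v) := by
  obtain ⟨a, b, c, d, x, y, h, hM⟩ := exists_mk M.2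
  obtain ⟨a', b', c', d', x', y', h', hN⟩ := exists_mk N.2
  simp only [affFun, Subgroup.coe_mul, hM, hN, mk_mul]
  simp only [CfsgLib.Techniques.Qd.mk]
  refine Prod.ext ?_ ?_ <;> simp <;> ring

/-- The affine action. -/
def affHom : ↥(Cfsg.qd p) →* Equiv.Perm (Pl p) where
  toFun M := ⟨affFun M, affFun M⁻¹, fun v => by rw [← affFun_mul, inv_mul_cancel, affFun_one],
    fun v => by rw [← affFun_mul, mul_inv_cancel, affFun_one]⟩
  map_one' := Equiv.ext affFun_one
  map_mul' M N := Equiv.ext (affFun_mul M N)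

theorem affHom_injective : Function.Injective (affHom (p := p)) := by
  refine (injective_iff_map_eq_one _).2 fun M hM => ?_
  obtain ⟨a, b, c, d, x, y, h, hMk⟩ := exists_mk M.2
  have h0 : affFun M (0, 0) = (0, 0) := Equiv.ext_iff.1 hM (0, 0)
  have h1 : affFun M (1, 0) = (1, 0) := Equiv.ext_iff.1 hM (1, 0)
  have h2 : affFun M (0, 1) = (0, 1) := Equiv.ext_iff.1 hM (0, 1)
  simp [affFun, hMk, CfsgLib.Techniques.Qd.mk] at h0 h1 h2
  obtain ⟨rfl, rfl⟩ := h0
  simp at h1 h2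
  obtain ⟨rfl, rfl⟩ := h1
  obtain ⟨rfl, rfl⟩ := h2
  exact Subtype.ext (hMk.trans (mk_one _))

theorem normalClosure_up_eq_top [Fact p.Prime] : normalClosure ({up 1} : Set ↥(Cfsg.qd p)) = ⊤ := by
  refine eq_top_iff.2 fun M _ => ?_
  set N := normalClosure ({up 1} : Set ↥(Cfsg.qd p)) with hN
  haveI : N.Normal := normalClosure_normal
  have hx : ∀ x : ZMod p, (⟨CfsgLib.Techniques.Qd.mk 1 0 0 1 x 0 (by ring), mk_mem _ _ _ _ _ _ _⟩ : ↥(Cfsg.qd p)) ∈ N := by
    intro x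
    set t : ↥(Cfsg.qd p) := ⟨CfsgLib.Techniques.Qd.mk 1 0 0 1 0 x (by ring), mk_mem _ _ _ _ _ _ _⟩
    have : (⟨CfsgLib.Techniques.Qd.mk 1 0 0 1 x 0 (by ring), mk_mem _ _ _ _ _ _ _⟩ : ↥(Cfsg.qd p)) = up 1 * (t * up (-1) * t⁻¹) := by
      rw [← mul_assoc, eq_mul_inv_iff_mul_eq]
      apply Subtype.ext
      simp only [t, up, Subgroup.coe_mul, mk_mul]
      congr 1 <;> ring
    rw [this]
    exact mul_mem (up_mem_normalClosure 1) (Normal.conj_mem inferInstance _ (up_mem_normalClosure (-1)) _)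
  have hy : ∀ x : ZMod p, (⟨CfsgLib.Techniques.Qd.mk 1 0 0 1 0 x (by ring), mk_mem _ _ _ _ _ _ _⟩ : ↥(Cfsg.qd p)) ∈ N := by
    intro x
    set t : ↥(Cfsg.qd p) := ⟨CfsgLib.Techniques.Qd.mk 1 0 0 1 x 0 (by ring), mk_mem _ _ _ _ _ _ _⟩
    have : (⟨CfsgLib.Techniques.Qd.mk 1 0 0 1 0 x (by ring), mk_mem _ _ _ _ _ _ _⟩ : ↥(Cfsg.qd p)) = low 1 * (t * low (-1) * t⁻¹) := by
      rw [← mul_assoc, eq_mul_inv_iff_mul_eq]
      apply Subtype.ext
      simp only [t, low, Subgroup.coe_mul, mk_mul]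
      congr 1 <;> ring
    rw [this]
    exact mul_mem (low_mem_normalClosure 1) (Normal.conj_mem inferInstance _ (low_mem_normalClosure (-1)) _)
  obtain ⟨a, b, c, d, x, y, h, hM⟩ := exists_mk M.2
  have hlin : (⟨CfsgLib.Techniques.Qd.mk a b c d 0 0 h, mk_mem _ _ _ _ _ _ _⟩ : ↥(Cfsg.qd p)) ∈ N := by
    by_cases hc : c = 0
    · have had : a * d = 1 := by rw [hc] at h; linear_combination h
      have e : (⟨CfsgLib.Techniques.Qd.mk a b c d 0 0 h, mk_mem _ _ _ _ _ _ _⟩ : ↥(Cfsg.qd p)) = diag a d had * up (d * b) := by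
        apply Subtype.ext
        simp only [CfsgLib.Techniques.Qd.diag, up, Subgroup.coe_mul, mk_mul]
        congr 1 <;> first
          | ring1
          | exact hc.trans (by ring)
          | linear_combination (-b) * had
      rw [e]
      exact mul_mem (diag_mem_normalClosure _ _ _) (up_mem_normalClosure _)
    · have e : (⟨CfsgLib.Techniques.Qd.mk a b c d 0 0 h, mk_mem _ _ _ _ _ _ _⟩ : ↥(Cfsg.qd p)) =
          up ((a - 1) / c) * low c * up ((d - 1) / c) := by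
        apply Subtype.ext
        simp only [up, low, Subgroup.coe_mul, mk_mul]
        congr 1 <;> field_simp <;> first
          | ring1
          | linear_combination -h
          | linear_combination h
      rw [e]
      exact mul_mem (mul_mem (up_mem_normalClosure _) (low_mem_normalClosure _)) (up_mem_normalClosure _)
  have e : M = (⟨CfsgLib.Techniques.Qd.mk 1 0 0 1 x 0 (by ring), mk_mem _ _ _ _ _ _ _⟩ : ↥(Cfsg.qd p)) *
      (⟨CfsgLib.Techniques.Qd.mk 1 0 0 1 0 y (by ring), mk_mem _ _ _ _ _ _ _⟩ : ↥(Cfsg.qd p)) * ⟨CfsgLib.Techniques.Qd.mk a b c d 0 0 h, mk_mem _ _ _ _ _ _ _⟩ := by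
    apply Subtype.ext
    simp only [Subgroup.coe_mul, hM, mk_mul]
    congr 1 <;> ring
  rw [e]
  exact mul_mem (mul_mem (hx x) (hy y)) hlin

theorem exists_nonabelian_pgroup [Fact p.Prime] :
    ∃ P : Subgroup ↥(Cfsg.qd p), IsPGroup p P ∧ ∃ g ∈ P, ∃ h ∈ P, g * h ≠ h * g := by
  let P : Subgroup ↥(Cfsg.qd p) :=
    { carrier := {M | ∃ a x y : ZMod p, (M : Matrix.SpecialLinearGroup (Fin 3) (ZMod p)) = CfsgLib.Techniques.Qd.mk 1 a 0 1 x y (by ring)}
      one_mem' := ⟨0, 0, 0, (mk_one _).symm⟩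
      mul_mem' := by
        rintro M N ⟨a, x, y, hM⟩ ⟨a', x', y', hN⟩
        refine ⟨a' + a, x' + a * y' + x, y' + y, ?_⟩
        rw [Subgroup.coe_mul, hM, hN, mk_mul]
        congr 1 <;> ring
      inv_mem' := by
        rintro M ⟨a, x, y, hM⟩
        refine ⟨-a, a * y - x, -y, ?_⟩
        rw [Subgroup.coe_inv, hM]
        apply inv_eq_of_mul_eq_one_right
        rw [mk_mul, ← mk_one (p := p) (by ring)]
        congr 1 <;> ring }
  have hcard : Nat.card P = p ^ 3 := by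
    have : Nat.card (ZMod p × ZMod p × ZMod p) = Nat.card P := by
      refine Nat.card_congr (Equiv.ofBijective
        (fun v : ZMod p × ZMod p × ZMod p => (⟨⟨CfsgLib.Techniques.Qd.mk 1 v.1 0 1 v.2.1 v.2.2 (by ring), mk_mem _ _ _ _ _ _ _⟩,
          v.1, v.2.1, v.2.2, rfl⟩ : P)) ⟨?_, ?_⟩)
      · intro v w h
        have h' := congrArg (fun M : P => ((M : ↥(Cfsg.qd p)) : Matrix.SpecialLinearGroup (Fin 3) (ZMod p)).1) h
        refine Prod.ext ?_ (Prod.ext ?_ ?_)
        · simpa [CfsgLib.Techniques.Qd.mk] using congrFun (congrFun h' 0) 1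
        · simpa [CfsgLib.Techniques.Qd.mk] using congrFun (congrFun h' 0) 2
        · simpa [CfsgLib.Techniques.Qd.mk] using congrFun (congrFun h' 1) 2
      · rintro ⟨M, a, x, y, hM⟩
        exact ⟨(a, x, y), Subtype.ext (Subtype.ext hM.symm)⟩
    rw [← this, Nat.card_prod, Nat.card_prod, Nat.card_zmod]; ring
  refine ⟨P, IsPGroup.of_card hcard, up 1, ⟨1, 0, 0, rfl⟩,
    ⟨CfsgLib.Techniques.Qd.mk 1 0 0 1 0 1 (by ring), mk_mem _ _ _ _ _ _ _⟩, ⟨0, 0, 1, rfl⟩, fun h => ?_⟩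
  have h1 : (up 1 * ⟨_, mk_mem 1 0 0 1 0 1 (by ring)⟩ : ↥(Cfsg.qd p)).1 =
      (⟨_, mk_mem 1 0 0 1 0 1 (by ring)⟩ * up 1 : ↥(Cfsg.qd p)).1 := congrArg Subtype.val h
  simp only [up, Subgroup.coe_mul, mk_mul] at h1
  have h' := congrFun (congrFun (congrArg Subtype.val h1) 0) 2
  simp [CfsgLib.Techniques.Qd.mk] at h'

end Affine

theorem pgroup_small_commute {p : ℕ} [hp : Fact p.Prime] {X : Type*} [Fintype X] [DecidableEq X]
    (hX : Fintype.card X < p ^ 2) {P : Subgroup (Equiv.Perm X)} (hP : IsPGroup p P) :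
    ∀ g ∈ P, ∀ h ∈ P, g * h = h * g := by
  intro g hg h hh
  refine Equiv.ext fun x => ?_
  let O := MulAction.orbit ↥P x
  have hOp : ∃ k, Nat.card O = p ^ k := by
    obtain ⟨k, hk⟩ := hP.card_orbit x
    exact ⟨k, hk⟩
  obtain ⟨k, hk⟩ := hOp
  have hk1 : k ≤ 1 := by
    by_contra hk2
    have h1 : Nat.card O ≤ Fintype.card X := by
      rw [← Nat.card_eq_fintype_card]; exact Nat.card_le_card_of_injective _ Subtype.val_injective
    have h2 : p ^ 2 ≤ p ^ k := Nat.pow_le_pow_right hp.out.pos (by omega)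
    omega
  let ψ := MulAction.toPermHom ↥P O
  obtain ⟨m, hm⟩ := IsPGroup.iff_card.1 (hP.of_surjective ψ.rangeRestrict ψ.rangeRestrict_surjective)
  have hm1 : m ≤ 1 := by
    by_contra hm2
    have hd : p ^ 2 ∣ Nat.factorial p := by
      refine (pow_dvd_pow p (by omega : 2 ≤ m)).trans (hm ▸ (Subgroup.card_subgroup_dvd_card ψ.range).trans ?_)
      rw [Nat.card_perm, hk]
      exact Nat.factorial_dvd_factorial (le_trans (Nat.pow_le_pow_right hp.out.pos hk1) (le_of_eq (pow_one p)))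
    obtain ⟨q, hq⟩ : ∃ q, p = q + 1 := ⟨p - 1, by have := hp.out.pos; omega⟩
    rw [hq, Nat.factorial_succ, pow_two, ← hq] at hd
    have := (hp.out.dvd_factorial).1 (Nat.dvd_of_mul_dvd_mul_left hp.out.pos hd)
    omega
  have hcy : IsCyclic ↥ψ.range := by
    rcases Nat.le_one_iff_eq_zero_or_eq_one.1 hm1 with rfl | rfl
    · haveI : Subsingleton ↥ψ.range := (Nat.card_eq_one_iff_unique.1 (by rw [hm, pow_zero])).1
      infer_instance
    · exact isCyclic_of_prime_card (p := p) (by rw [hm, pow_one])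
  haveI := hcy.isMulCommutative
  have hcomm := congrArg Subtype.val (mul_comm' (⟨ψ ⟨g, hg⟩, _, rfl⟩ : ↥ψ.range) ⟨ψ ⟨h, hh⟩, _, rfl⟩)
  exact congrArg Subtype.val (Equiv.ext_iff.1 hcomm ⟨x, MulAction.mem_orbit_self x⟩)

theorem qd_not_involved {p : ℕ} [hp : Fact p.Prime] {n : ℕ} (hn : n < p ^ 2) :
    ¬ Cfsg.Involves ↥(Cfsg.qd p) ↥(alternatingGroup (Fin n)) := by
  rintro ⟨K, R, hR, ⟨e⟩⟩
  haveI := hR
  obtain ⟨P, hP, g, hg, h, hh, hgh⟩ := exists_nonabelian_pgroup (p := p)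
  let π : ↥K →* ↥(Cfsg.qd p) := e.toMonoidHom.comp (QuotientGroup.mk' _)
  have hπ : Function.Surjective π := e.surjective.comp (QuotientGroup.mk'_surjective _)
  obtain ⟨S⟩ : Nonempty (Sylow p ↥K) := inferInstance
  obtain ⟨T, hT⟩ := hP.exists_le_sylow
  obtain ⟨y, hy⟩ := MulAction.exists_smul_eq ↥(Cfsg.qd p) (S.mapSurjective hπ) T
  let F : ↥K →* Equiv.Perm (Fin n) := (alternatingGroup (Fin n)).subtype.comp K.subtype
  have hF : Function.Injective F := Subtype.val_injective.comp Subtype.val_injective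
  have habS : ∀ a ∈ (S : Subgroup ↥K), ∀ b ∈ (S : Subgroup ↥K), a * b = b * a := by
    intro a ha b hb
    have := pgroup_small_commute (p := p) (X := Fin n) (by rwa [Fintype.card_fin]) (S.2.map F) (F a) ⟨a, ha, rfl⟩ (F b) ⟨b, hb, rfl⟩
    rw [← map_mul, ← map_mul] at this
    exact hF this
  have hmem : ∀ t ∈ P, ∃ a ∈ (S : Subgroup ↥K), t = y * π a * y⁻¹ := by
    intro t ht
    have h1 : t ∈ ((y • S.mapSurjective hπ : Sylow p ↥(Cfsg.qd p)) : Subgroup ↥(Cfsg.qd p)) := by rw [hy]; exact hT ht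
    rw [Sylow.coe_subgroup_smul] at h1
    obtain ⟨w, hw, rfl⟩ := h1
    obtain ⟨a, ha, rfl⟩ := hw
    exact ⟨a, ha, rfl⟩
  obtain ⟨a, ha, rfl⟩ := hmem g hg
  obtain ⟨b, hb, rfl⟩ := hmem h hh
  refine hgh ?_
  calc y * π a * y⁻¹ * (y * π b * y⁻¹) = y * π (a * b) * y⁻¹ := by rw [map_mul]; group
    _ = y * π (b * a) * y⁻¹ := by rw [habS a ha b hb]
    _ = _ := by rw [map_mul]; group

theorem qd_embeds {p : ℕ} [hp : Fact p.Prime] (hp2 : p ≠ 2) {n : ℕ} (hn : p ^ 2 ≤ n) :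
    ∃ H : Subgroup (alternatingGroup (Fin n)), Nonempty (↥H ≃* ↥(Cfsg.qd p)) := by
  classical
  obtain ⟨ι⟩ : Nonempty (Pl p ↪ Fin n) := Function.Embedding.nonempty_of_card_le (by
    rw [Fintype.card_prod, ZMod.card, Fintype.card_fin, ← pow_two]; exact hn)
  let e : Pl p ≃ {i // i ∈ Set.range ι} := Equiv.ofInjective ι ι.injective
  let f : ↥(Cfsg.qd p) →* Equiv.Perm (Fin n) := (Equiv.Perm.extendDomainHom e).comp affHom
  have hf : Function.Injective f := (Equiv.Perm.extendDomainHom_injective e).comp affHom_injective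
  have hmem : ∀ M, f M ∈ alternatingGroup (Fin n) := by
    have hle : normalClosure ({up 1} : Set ↥(Cfsg.qd p)) ≤ (Equiv.Perm.sign.comp f).ker := by
      refine normalClosure_le_normal ?_
      intro z hz
      rw [Set.mem_singleton_iff] at hz
      rw [hz, SetLike.mem_coe, MonoidHom.mem_ker]
      have h1 := congrArg (Equiv.Perm.sign.comp f) (up_one_pow_self (p := p))
      rw [map_pow, map_one] at h1
      rcases Int.units_eq_one_or ((Equiv.Perm.sign.comp f) (up (1 : ZMod p))) with h | h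
      · exact h
      · rw [h, Odd.neg_one_pow (hp.out.odd_of_ne_two hp2)] at h1
        exact absurd h1 (by decide)
    intro M
    exact Equiv.Perm.mem_alternatingGroup.2 (hle (normalClosure_up_eq_top (p := p) ▸ mem_top M))
  let g := f.codRestrict (alternatingGroup (Fin n)) hmem
  exact ⟨g.range, ⟨(MonoidHom.ofInjective (f := g) fun a b h => hf (congrArg Subtype.val h :)).symm⟩⟩

/-- Let p be an odd prime and n a natural number. The alternating group of degree n has a subgroup isomorphic to Qd(p) (the natural semidirect product of an elementary abelian group of order p² by SL₂(p)) if and only if n ≥ p²; and if n < p² then Qd(p) is not even involved in it. -/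
theorem result {p : ℕ} [Fact p.Prime] (hp : p ≠ 2) (n : ℕ) : ((∃ H : Subgroup (alternatingGroup (Fin n)), Nonempty (↥H ≃* ↥(Cfsg.qd p))) ↔ p ^ 2 ≤ n) ∧ (n < p ^ 2 → ¬ Cfsg.Involves ↥(Cfsg.qd p) ↥(alternatingGroup (Fin n))) := by
  refine ⟨⟨fun ⟨H, ⟨e⟩⟩ => ?_, qd_embeds hp⟩, qd_not_involved⟩
  by_contra hlt
  refine qd_not_involved (not_le.1 hlt) ⟨H, ⊥, ?_, ?_⟩
  · rw [Subgroup.bot_subgroupOf]; infer_instance
  · exact ⟨((QuotientGroup.quotientMulEquivOfEq (Subgroup.bot_subgroupOf H)).trans (QuotientGroup.quotientBot)).trans e⟩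

end Cfsg.Agent.S3835
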