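import Cfsg.Statements.S3836
import Mathlib
import Cfsg.Agent.Lib.Cores.Basic

set_option autoImplicit false
open Cfsg

namespace Cfsg.Agent.S3836

/-- Let G be a finite group that is p-stable in the normalizer form: for every p-subgroup Q and every x ∈ N_G(Q) with [Q, x, x] = 1, the image of x in N_G(Q)/C_G(Q) lies in O_p(N_G(Q)/C_G(Q)). Then every subgroup of G is p-stable in the same sense. -/
theorem result {G : Type*} [Group G] [Finite G] {p : ℕ} [Fact p.Prime] (hst : Cfsg.IsNormalizerPStable p G) (H : Subgroup G) : Cfsg.IsNormalizerPStable p ↥H := by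
  intro P hP g hg hcomm
  set P' := P.map H.subtype with hP'
  have hg' : (g : G) ∈ Subgroup.normalizer (P' : Set G) :=
    Subgroup.le_normalizer_map (H := P) H.subtype ⟨g, hg, rfl⟩
  have hc' : ⁅⁅P', Subgroup.zpowers (g : G)⁆, Subgroup.zpowers (g : G)⁆ = ⊥ := by
    have := congrArg (Subgroup.map H.subtype) hcomm
    simpa [Subgroup.map_commutator, MonoidHom.map_zpowers, hP'] using this
  have h := hst P' (hP.map H.subtype) g hg' hc'
  let φ : ↥(Subgroup.normalizer (P : Set H)) →* ↥(Subgroup.normalizer (P' : Set G)) :=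
    { toFun := fun x => ⟨((x : H) : G), Subgroup.le_normalizer_map (H := P) H.subtype ⟨x, x.2, rfl⟩⟩
      map_one' := rfl
      map_mul' := fun _ _ => rfl }
  haveI hC : ((Subgroup.centralizer (P : Set H)).subgroupOf (Subgroup.normalizer (P : Set H))).Normal :=
    inferInstance
  have hker : ∀ x : ↥(Subgroup.normalizer (P : Set H)),
      φ x ∈ (Subgroup.centralizer (P' : Set G)).subgroupOf (Subgroup.normalizer (P' : Set G)) ↔
      x ∈ (Subgroup.centralizer (P : Set H)).subgroupOf (Subgroup.normalizer (P : Set H)) := by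
    intro x
    simp only [Subgroup.mem_subgroupOf, Subgroup.mem_centralizer_iff]
    constructor
    · exact fun hx y hy => Subtype.ext (hx _ ⟨y, hy, rfl⟩)
    · rintro hx _ ⟨y, hy, rfl⟩
      exact congrArg Subtype.val (hx y hy)
  let ψ := QuotientGroup.map ((Subgroup.centralizer (P : Set H)).subgroupOf (Subgroup.normalizer (P : Set H)))
    ((Subgroup.centralizer (P' : Set G)).subgroupOf (Subgroup.normalizer (P' : Set G))) φ
    (fun x hx => (hker x).2 hx)
  have hψ : Function.Injective ψ := by
    rw [injective_iff_map_eq_one]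
    intro q
    induction q using QuotientGroup.induction_on with
    | _ x =>
      intro hx
      exact (QuotientGroup.eq_one_iff x).2 ((hker x).1 ((QuotientGroup.eq_one_iff _).1 hx))
  have hle := CfsgLib.Cores.le_pCore (N := (Cfsg.pCore p (↥(Subgroup.normalizer (P' : Set G)) ⧸
      (Subgroup.centralizer (P' : Set G)).subgroupOf (Subgroup.normalizer (P' : Set G)))).comap ψ)
    (hn := by haveI := CfsgLib.Cores.pCore_characteristic (G := ↥(Subgroup.normalizer (P' : Set G)) ⧸ (Subgroup.centralizer (P' : Set G)).subgroupOf (Subgroup.normalizer (P' : Set G))) p; infer_instance)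
    ((CfsgLib.Cores.isPGroup_pCore p).comap_of_injective ψ hψ)
  exact hle h

end Cfsg.Agent.S3836
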