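import Cfsg.Statements.S3838
import Cfsg.Agent.Lib.Transfer.Frobenius
import Cfsg.Agent.Lib.Transfer.Tate

set_option autoImplicit false
open Cfsg

namespace Cfsg.Agent.S3838

/-- Let G be a finite group with Sylow p-subgroup P such that N_G(P) has a normal p-complement. Then N_G(Q) has a normal p-complement for every subgroup Q with [P, P] ≤ Q ≤ Φ(P). -/
theorem result {G : Type*} [Group G] [Finite G] {p : ℕ} [Fact p.Prime] (P : Sylow p G) (hN : Cfsg.HasNormalPComplement p ↥(Subgroup.normalizer ((P : Subgroup G) : Set G))) (Q : Subgroup G) (h1 : (commutator ↥(P : Subgroup G)).map (P : Subgroup G).subtype ≤ Q) (h2 : Q ≤ (frattini ↥(P : Subgroup G)).map (P : Subgroup G).subtype) : Cfsg.HasNormalPComplement p ↥(Subgroup.normalizer (Q : Set G)) := by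
  open CfsgLib.Transfer in
  classical
  have hp : p.Prime := Fact.out
  have hQP : Q ≤ (P : Subgroup G) := h2.trans (Subgroup.map_subtype_le _)
  have hcomm : ∀ x ∈ (P : Subgroup G), ∀ y ∈ (P : Subgroup G), x * y * x⁻¹ * y⁻¹ ∈ Q := by
    intro x hx y hy
    exact h1 ⟨⟨x, hx⟩ * ⟨y, hy⟩ * ⟨x, hx⟩⁻¹ * ⟨y, hy⟩⁻¹,
      Subgroup.commutator_mem_commutator (Subgroup.mem_top _) (Subgroup.mem_top _), rfl⟩
  let M : Subgroup G := Subgroup.normalizer (Q : Set G)
  have hPM : (P : Subgroup G) ≤ M := by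
    intro x hx
    rw [Subgroup.mem_normalizer_iff]
    intro y
    refine ⟨fun hy => ?_, fun hy => ?_⟩
    · have := Q.mul_mem (hcomm x hx y (hQP hy)) hy
      simpa using this
    · have hyP : y ∈ (P : Subgroup G) := by
        have := P.mul_mem (P.mul_mem (P.inv_mem hx) (hQP hy)) hx
        simpa [mul_assoc] using this
      have := Q.mul_mem (Q.inv_mem (hcomm x hx y hyP)) hy
      simpa [mul_assoc] using this
  let P' : Sylow p M := P.subtype hPM
  have hP'mem : ∀ m : M, m ∈ (P' : Subgroup M) ↔ (m : G) ∈ (P : Subgroup G) := fun m => Iff.rfl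
  let Q' : Subgroup M := Q.subgroupOf M
  haveI : Q'.Normal := Subgroup.normal_in_normalizer
  let π := QuotientGroup.mk' Q'
  have hπ : Function.Surjective π := QuotientGroup.mk'_surjective Q'
  let P2 : Sylow p (M ⧸ Q') := P'.mapSurjective hπ
  have hP2 : (P2 : Subgroup (M ⧸ Q')) = (P' : Subgroup M).map π := rfl
  have hmem2 : ∀ m : M, π m ∈ (P2 : Subgroup (M ⧸ Q')) → (m : G) ∈ (P : Subgroup G) := by
    intro m hm
    rw [hP2] at hm
    obtain ⟨x, hx, he⟩ := hm
    have : x⁻¹ * m ∈ Q' := QuotientGroup.eq.1 he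
    have h3 := P.mul_mem ((hP'mem x).1 hx) (hQP (Subgroup.mem_subgroupOf.1 this))
    simpa using h3
  have hab : IsMulCommutative (P2 : Subgroup (M ⧸ Q')) := by
    constructor; constructor
    rintro ⟨a, ha⟩ ⟨b, hb⟩
    rw [hP2] at ha hb
    obtain ⟨x, hx, rfl⟩ := ha
    obtain ⟨y, hy, rfl⟩ := hb
    apply Subtype.ext
    show π x * π y = π y * π x
    rw [← map_mul, ← map_mul]
    refine QuotientGroup.eq.2 (Subgroup.mem_subgroupOf.2 ?_)
    have := hcomm _ (P.inv_mem ((hP'mem y).1 hy)) _ (P.inv_mem ((hP'mem x).1 hx))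
    simpa [mul_assoc] using this
  have hq : HasNormalPComplement p (M ⧸ Q') := by
    refine hasNormalPComplement_of_abelian_sylow P2 hab fun g hg hco => ?_
    obtain ⟨m, rfl⟩ := hπ g
    have hmN : (m : G) ∈ Subgroup.normalizer ((P : Subgroup G) : Set G) := by
      rw [Subgroup.mem_normalizer_iff]
      intro y
      constructor
      · intro hy
        have h3 := (Subgroup.mem_normalizer_iff.1 hg (π ⟨y, hPM hy⟩)).1 ⟨⟨y, hPM hy⟩, (hP'mem _).2 hy, rfl⟩
        rw [← map_inv, ← map_mul, ← map_mul] at h3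
        exact hmem2 _ h3
      · intro hy
        have hyM : y ∈ M := by
          have := M.mul_mem (M.mul_mem (M.inv_mem m.2) (hPM hy)) m.2
          simpa [mul_assoc] using this
        have h3 : π m * π ⟨y, hyM⟩ * (π m)⁻¹ ∈ (P2 : Subgroup (M ⧸ Q')) := by
          rw [← map_inv, ← map_mul, ← map_mul]
          exact ⟨m * ⟨y, hyM⟩ * m⁻¹, (hP'mem _).2 hy, rfl⟩
        exact hmem2 ⟨y, hyM⟩ ((Subgroup.mem_normalizer_iff.1 hg _).2 h3)
    let a : ℕ := p ^ (orderOf m).factorization p
    have hco2 : (orderOf (⟨(m : G), hmN⟩ ^ a : Subgroup.normalizer ((P : Subgroup G) : Set G))).Coprime p := by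
      rw [← Subgroup.orderOf_coe]
      show (orderOf ((m : G) ^ a)).Coprime p
      rw [← SubmonoidClass.coe_pow, Subgroup.orderOf_coe, orderOf_pow' m (pow_ne_zero _ hp.ne_zero),
        Nat.gcd_eq_right (Nat.ordProj_dvd _ _)]
      exact (Nat.coprime_ordCompl hp (orderOf_pos m).ne').symm
    have hc : π m ^ a ∈ Subgroup.centralizer ((P2 : Subgroup (M ⧸ Q')) : Set (M ⧸ Q')) := by
      rw [Subgroup.mem_centralizer_iff]
      rintro _ ⟨x, hx, rfl⟩
      rw [← map_pow, ← map_mul, ← map_mul]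
      congr 1
      apply Subtype.ext
      have hx' := (hP'mem x).1 hx
      have key := mem_centralizer_of_hasNormalPComplement hN
        (Q := (P : Subgroup G).subgroupOf (Subgroup.normalizer ((P : Subgroup G) : Set G)))
        (P.2.of_equiv (Subgroup.subgroupOfEquivOfLe Subgroup.le_normalizer).symm)
        (by rw [Subgroup.normalizer_eq_top_iff.2 Subgroup.normal_in_normalizer]; exact Subgroup.mem_top _) hco2
      have h4 := congrArg Subtype.val (Subgroup.mem_centralizer_iff.1 key ⟨(x : G), Subgroup.le_normalizer hx'⟩ hx')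
      simpa using h4
    have : π m ∈ Subgroup.zpowers (π m ^ a) := by
      rw [mem_zpowers_pow_iff]
      exact hco.symm.pow_left _
    exact (Subgroup.zpowers_le.2 hc) this
  refine hasNormalPComplement_of_le_frattini P' ?_
  have hbot := (hasNormalPComplement_iff_inf_sylow P2).1 hq
  intro m hm
  have hmQ : (m : G) ∈ Q := by
    have : π m ∈ (P2 : Subgroup (M ⧸ Q')) ⊓ Cfsg.pResidual p (M ⧸ Q') :=
      ⟨⟨m, hm.1, rfl⟩, map_pResidual_le π ⟨m, hm.2, rfl⟩⟩
    rw [hbot, Subgroup.mem_bot] at this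
    exact Subgroup.mem_subgroupOf.1 ((QuotientGroup.eq_one_iff m).1 this)
  let e : ↥(P' : Subgroup M) ≃* ↥(P : Subgroup G) := Subgroup.subgroupOfEquivOfLe hPM
  obtain ⟨w, hw, hwe⟩ := h2 hmQ
  refine ⟨⟨m, hm.1⟩, ?_, rfl⟩
  have he : e ⟨m, hm.1⟩ = w := Subtype.ext hwe.symm
  have hs := frattini_le_comap_frattini_of_surjective (φ := e.symm.toMonoidHom) e.symm.surjective hw
  rwa [Subgroup.mem_comap, MulEquiv.coe_toMonoidHom, ← he, e.symm_apply_apply] at hs

end Cfsg.Agent.S3838
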