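import Cfsg.Statements.S3839
import Cfsg.Agent.Lib.Transfer.Frobenius
import Cfsg.Agent.Lib.Solvable.Basic

set_option autoImplicit false
open Cfsg

namespace Cfsg.Agent.S3839

open scoped Pointwise commutatorElement
open CfsgLib.Solvable (normalizer_conj_mem mem_normalizer_of_conj_mem le_normalizer_of_conj_mem
  conj_smul_le_iff mem_conj_smul_iff card_conj_smul conj_smul_self_of_mem_normalizer)

theorem centralizes_of_npc {G : Type*} [Group G] [Finite G] {p : ℕ} [Fact p.Prime] {H : Subgroup G}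
    (hH : Cfsg.HasNormalPComplement p H) {R : Subgroup G} (hRH : R ≤ H) (hR : IsPGroup p R)
    {g : G} (hgH : g ∈ H) (hgR : g ∈ Subgroup.normalizer (R : Set G)) (hg : (orderOf g).Coprime p) :
    ∀ r ∈ R, r * g = g * r := by
  intro r hr
  have h := CfsgLib.Transfer.frobeniusCond_of_hasNormalPComplement hH (R.subgroupOf H)
    (hR.of_equiv (Subgroup.subgroupOfEquivOfLe hRH).symm) ⟨g, hgH⟩
    (mem_normalizer_of_conj_mem fun x hx => Subgroup.mem_subgroupOf.2
      (normalizer_conj_mem hgR (Subgroup.mem_subgroupOf.1 hx)))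
    (by rwa [Subgroup.orderOf_mk])
  exact congrArg Subtype.val (Subgroup.mem_centralizer_iff.1 h ⟨r, hRH hr⟩ hr)

theorem centralizes_core {G : Type*} [Group G] [Finite G] {p : ℕ} [hp : Fact p.Prime] (S : Sylow p G)
    (D : Subgroup G) (hD : Cfsg.IsStronglyClosed D (S : Subgroup G)) (U R : Subgroup G) (g : G)
    (hUD : U ≤ D) (hUR : U ≤ R) (hRp : IsPGroup p R) (hRU : R ≤ Subgroup.normalizer (U : Set G))
    (hgU : g ∈ Subgroup.normalizer (U : Set G)) (hgR : g ∈ Subgroup.normalizer (R : Set G))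
    (hg : (orderOf g).Coprime p)
    (hbig : ∀ W : Subgroup G, W ≤ D → Nat.card U < Nat.card W →
      Cfsg.HasNormalPComplement p ↥(Subgroup.normalizer (W : Set G)))
    (hC : ¬ D ⊓ Subgroup.centralizer (U : Set G) ≤ U)
    (TM : Sylow p ↥(Subgroup.normalizer (U : Set G) ⊓ Subgroup.normalizer (R : Set G)))
    (hRT : R.subgroupOf (Subgroup.normalizer (U : Set G) ⊓ Subgroup.normalizer (R : Set G)) ≤ TM)
    (hT : (TM : Subgroup ↥(Subgroup.normalizer (U : Set G) ⊓ Subgroup.normalizer (R : Set G))).map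
      (Subgroup.subtype _) ≤ (S : Subgroup G)) :
    ∀ r ∈ R, r * g = g * r := by
  let M := Subgroup.normalizer (U : Set G) ⊓ Subgroup.normalizer (R : Set G)
  have hRM : R ≤ M := le_inf hRU Subgroup.le_normalizer
  have hgM : g ∈ M := ⟨hgU, hgR⟩
  have hRS : R ≤ (S : Subgroup G) := fun r hr => hT ⟨⟨r, hRM hr⟩, hRT hr, rfl⟩
  have hSD : ∀ s ∈ (S : Subgroup G), ∀ d ∈ D, s * d * s⁻¹ ∈ D := fun s hs d hd =>
    hD.2 d hd s ((S : Subgroup G).mul_mem ((S : Subgroup G).mul_mem hs (hD.1 hd)) ((S : Subgroup G).inv_mem hs))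
  by_cases hW : R ⊓ D ≤ U
  swap
  · have hlt : Nat.card U < Nat.card (R ⊓ D : Subgroup G) :=
      Set.Finite.card_lt_card (Set.toFinite _) (lt_of_le_not_ge (le_inf hUR hUD) hW)
    refine centralizes_of_npc (hbig _ inf_le_right hlt) ?_ hRp ?_ hgR hg
    · refine le_normalizer_of_conj_mem fun x hx y hy => ⟨?_, hSD x (hRS hx) y hy.2⟩
      exact R.mul_mem (R.mul_mem hx hy.1) (R.inv_mem hx)
    · refine mem_normalizer_of_conj_mem fun y hy => ?_
      have h1 := normalizer_conj_mem hgR hy.1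
      exact ⟨h1, hD.2 y hy.2 g (hRS h1)⟩
  -- an element of `D` centralising `U` and `R / U`
  obtain ⟨c, hcD, hcU, hcM, hcC, hcR⟩ : ∃ c, c ∈ D ∧ c ∉ U ∧ c ∈ M ∧ (∀ u ∈ U, u * c = c * u) ∧
      ∀ r ∈ R, ⁅c, r⁆ ∈ U := by
    set X := U ⊔ (D ⊓ Subgroup.centralizer (U : Set G)) with hX
    have hUX : D ⊓ Subgroup.centralizer (U : Set G) ≤ Subgroup.normalizer (U : Set G) :=
      inf_le_right.trans (Subgroup.centralizer_le_normalizer _)
    have hXD : X ≤ D := sup_le hUD inf_le_left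
    have hRDC : R ≤ Subgroup.normalizer ((D ⊓ Subgroup.centralizer (U : Set G) : Subgroup G) : Set G) :=
      le_normalizer_of_conj_mem fun r hr y hy => ⟨hSD r (hRS hr) y hy.1,
        normalizer_conj_mem (CfsgLib.Solvable.normalizer_le_normalizer_centralizer U (hRU hr)) hy.2⟩
    have hRX : R ≤ Subgroup.normalizer (X : Set G) :=
      (le_inf hRU hRDC).trans (Subgroup.normalizer_inf_normalizer_le_normalizer_sup _ _)
    have hlt : R < X ⊔ R := lt_of_le_not_ge le_sup_right fun h =>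
      hC (le_sup_right.trans ((le_inf (le_sup_left.trans h) hXD).trans hW))
    have hQS : X ⊔ R ≤ (S : Subgroup G) := sup_le (hXD.trans hD.1) hRS
    haveI := (S.2.to_le hQS).isNilpotent
    have hne : R.subgroupOf (X ⊔ R) < ⊤ := lt_top_iff_ne_top.2 fun e =>
      hlt.not_ge (Subgroup.subgroupOf_eq_top.1 e)
    obtain ⟨y, hy, hyR⟩ := SetLike.exists_of_lt (Group.normalizerCondition_of_isNilpotent _ hne)
    rw [← Subgroup.subgroupOf_normalizer_eq le_sup_right, Subgroup.mem_subgroupOf] at hy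
    rw [Subgroup.mem_subgroupOf] at hyR
    obtain ⟨x, hx, r, hr, hxr⟩ := CfsgLib.Solvable.exists_mul_of_mem_sup hRX y.2
    have hxR : x ∈ Subgroup.normalizer (R : Set G) := by
      have h := mul_mem hy (inv_mem (Subgroup.le_normalizer (H := R) hr))
      rwa [hxr, mul_inv_cancel_right] at h
    obtain ⟨u, hu, c, hc, huc⟩ := CfsgLib.Solvable.exists_mul_of_mem_sup hUX hx
    have hcR : c ∈ Subgroup.normalizer (R : Set G) := by
      have h := mul_mem (inv_mem (Subgroup.le_normalizer (H := R) (hUR hu))) hxR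
      rwa [huc, inv_mul_cancel_left] at h
    refine ⟨c, hc.1, fun hcU => hyR ?_, ⟨hUX hc, hcR⟩, Subgroup.mem_centralizer_iff.1 hc.2, fun r' hr' => hW ⟨?_, ?_⟩⟩
    · rw [hxr, huc]; exact R.mul_mem (R.mul_mem (hUR hu) (hUR hcU)) hr
    · rw [commutatorElement_def]; exact R.mul_mem (normalizer_conj_mem hcR hr') (R.inv_mem hr')
    · have e : ⁅c, r'⁆ = c * (r' * c⁻¹ * r'⁻¹) := by rw [commutatorElement_def]; group
      rw [e]; exact D.mul_mem hc.1 (hSD r' (hRS hr') _ (D.inv_mem hc.1))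
  -- the subgroup of `M` acting trivially on `U` and on `R / U`
  let K : Subgroup G :=
    { carrier := {x | x ∈ M ∧ (∀ u ∈ U, u * x = x * u) ∧ ∀ r ∈ R, ⁅x, r⁆ ∈ U}
      one_mem' := ⟨M.one_mem, fun u _ => by simp, fun r _ => by simp⟩
      mul_mem' := by
        rintro x y ⟨hxM, hx, hx'⟩ ⟨hyM, hy, hy'⟩
        refine ⟨M.mul_mem hxM hyM, fun u hu => by rw [← mul_assoc, hx u hu, mul_assoc, hy u hu, mul_assoc], fun r hr => ?_⟩
        have e : ⁅x * y, r⁆ = x * ⁅y, r⁆ * x⁻¹ * ⁅x, r⁆ := by simp only [commutatorElement_def]; group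
        rw [e, ← hx _ (hy' r hr), mul_inv_cancel_right]
        exact U.mul_mem (hy' r hr) (hx' r hr)
      inv_mem' := by
        rintro x ⟨hxM, hx, hx'⟩
        refine ⟨M.inv_mem hxM, fun u hu => by rw [eq_inv_mul_iff_mul_eq, ← mul_assoc, ← hx u hu, mul_inv_cancel_right], fun r hr => ?_⟩
        have e : ⁅x⁻¹, r⁆ = x⁻¹ * ⁅x, r⁆⁻¹ * x := by simp only [commutatorElement_def]; group
        rw [e, mul_assoc, hx _ (U.inv_mem (hx' r hr)), inv_mul_cancel_left]
        exact U.inv_mem (hx' r hr) }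
  have hKM : K ≤ M := fun x hx => hx.1
  have hMK : M ≤ Subgroup.normalizer (K : Set G) := by
    refine le_normalizer_of_conj_mem fun m hm x ⟨hxM, hx, hx'⟩ => ⟨M.mul_mem (M.mul_mem hm hxM) (M.inv_mem hm), fun u hu => ?_, fun r hr => ?_⟩
    · have hu' : m⁻¹ * u * m ∈ U := (Subgroup.mem_normalizer_iff''.1 hm.1 u).1 hu
      calc u * (m * x * m⁻¹) = m * (m⁻¹ * u * m * x) * m⁻¹ := by group
        _ = m * (x * (m⁻¹ * u * m)) * m⁻¹ := by rw [hx _ hu']
        _ = m * x * m⁻¹ * u := by group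
    · have hr' : m⁻¹ * r * m ∈ R := (Subgroup.mem_normalizer_iff''.1 hm.2 r).1 hr
      have e : ⁅m * x * m⁻¹, r⁆ = m * ⁅x, m⁻¹ * r * m⁆ * m⁻¹ := by simp only [commutatorElement_def]; group
      rw [e]; exact normalizer_conj_mem hm.1 (hx' _ hr')
  set KM := K.subgroupOf M with hKMdef
  haveI : KM.Normal := Subgroup.normal_subgroupOf_of_le_normalizer hMK
  -- `TM` meets `K` in a Sylow subgroup
  have hTeq : ∀ x : M, (x : G) ∈ (S : Subgroup G) → x ∈ (TM : Subgroup M) := by
    intro x hx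
    have h1 : (TM : Subgroup M) ≤ (S : Subgroup G).subgroupOf M := fun y hy => hT ⟨y, hy, rfl⟩
    have h2 := TM.3 (S.2.comap_of_injective M.subtype M.subtype_injective) h1
    rw [← h2]; exact hx
  obtain ⟨P, hP⟩ : ∃ P : Sylow p KM, (TM : Subgroup M).subgroupOf KM = (P : Subgroup KM) := by
    obtain ⟨P, hP⟩ := (TM.2.comap_of_injective KM.subtype KM.subtype_injective).exists_le_sylow
    refine ⟨P, Subgroup.eq_of_le_of_card_ge hP ?_⟩
    obtain ⟨T', hT'⟩ := (P.2.map KM.subtype).exists_le_sylow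
    obtain ⟨m, hm⟩ := MulAction.exists_smul_eq M T' TM
    let f : ↥(P : Subgroup KM) → ↥((TM : Subgroup M).subgroupOf KM) := fun y =>
      ⟨⟨m * ((y : KM) : M) * m⁻¹, Subgroup.Normal.conj_mem inferInstance _ (y : KM).2 m⟩, by
        show m * ((y : KM) : M) * m⁻¹ ∈ (TM : Subgroup M)
        rw [← hm, Sylow.coe_subgroup_smul]
        exact mem_conj_smul_iff.2 (by
          simpa [mul_assoc] using hT' ⟨(y : KM), y.2, rfl⟩)⟩
    refine Nat.card_le_card_of_injective f fun y z h => ?_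
    have h' := congrArg (fun w : ((TM : Subgroup M).subgroupOf KM) => ((w : KM) : M)) h
    simp only [f] at h'
    exact Subtype.ext (Subtype.ext (mul_left_cancel (mul_right_cancel h')))
  have hPmem : ∀ x : M, x ∈ (P : Subgroup KM).map KM.subtype ↔ (x : G) ∈ (S : Subgroup G) ∧ (x : G) ∈ K := by
    intro x
    rw [← hP, Subgroup.subgroupOf_map_subtype]
    exact ⟨fun h => ⟨hT ⟨x, h.1, rfl⟩, h.2⟩, fun h => ⟨hTeq x h.1, h.2⟩⟩
  have hgtop : (⟨g, hgM⟩ : M) ∈ KM ⊔ Subgroup.normalizer (((P : Subgroup KM).map KM.subtype : Subgroup M) : Set M) := by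
    rw [sup_comm, Sylow.normalizer_sup_eq_top P]; exact Subgroup.mem_top _
  obtain ⟨k, hk, h, hh, hgkh⟩ := CfsgLib.Solvable.exists_mul_of_mem_sup
    (Subgroup.le_normalizer_of_normal) hgtop
  -- `W' = U ⊔ (D ⊓ S ⊓ K)`
  set E := D ⊓ K with hE
  set W' := U ⊔ E with hW'
  have hlt' : U < W' := lt_of_le_of_ne le_sup_left fun e => hcU (by
      have : c ∈ W' := Subgroup.mem_sup_right ⟨hcD, hcM, hcC, hcR⟩
      rwa [← e] at this)
  have hWcard : Nat.card U < Nat.card W' := Set.Finite.card_lt_card (Set.toFinite _) hlt'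
  have hhE : (h : G) ∈ Subgroup.normalizer (E : Set G) := by
    refine mem_normalizer_of_conj_mem fun y hy => ?_
    have hy' : (⟨y, hKM hy.2⟩ : M) ∈ (P : Subgroup KM).map KM.subtype := (hPmem _).2 ⟨hD.1 hy.1, hy.2⟩
    have h1 := (hPmem _).1 (normalizer_conj_mem hh hy')
    exact ⟨hD.2 y hy.1 h h1.1, h1.2⟩
  have hnpc := hbig W' (sup_le hUD inf_le_left) hWcard
  have hhW : (h : G) ∈ Subgroup.normalizer (W' : Set G) :=
    Subgroup.normalizer_inf_normalizer_le_normalizer_sup _ _ ⟨h.2.1, hhE⟩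
  have hRW : R ≤ Subgroup.normalizer (W' : Set G) := fun r hr =>
    Subgroup.normalizer_inf_normalizer_le_normalizer_sup _ _ ⟨hRU hr, mem_normalizer_of_conj_mem fun y hy =>
      ⟨hSD r (hRS hr) y hy.1, normalizer_conj_mem (hMK (hRM hr)) hy.2⟩⟩
  obtain ⟨a, b, hb, hab⟩ := Nat.exists_eq_pow_mul_and_not_dvd (orderOf_pos (h : G)).ne' p hp.out.ne_one
  have hh' : ((h : G) ^ p ^ a) ∈ K := by
    have hord : (orderOf ((h : G) ^ p ^ a)).Coprime p := by
      rw [orderOf_pow_of_dvd (pow_ne_zero _ hp.out.ne_zero) (hab ▸ dvd_mul_right _ _), hab,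
        Nat.mul_div_cancel_left _ (pow_pos hp.out.pos _)]
      exact (hp.out.coprime_iff_not_dvd.2 hb).symm
    have hc' := centralizes_of_npc hnpc hRW hRp (pow_mem hhW _)
      (pow_mem h.2.2 _) hord
    refine ⟨pow_mem h.2 _, fun u hu => hc' u (hUR hu), fun r hr => ?_⟩
    rw [commutatorElement_eq_one_iff_mul_comm.2 (hc' r hr).symm]; exact U.one_mem
  have hgpow : ∀ j : ℕ, ∃ k' ∈ K, g ^ j = k' * (h : G) ^ j := by
    intro j
    induction j with
    | zero => exact ⟨1, K.one_mem, by simp⟩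
    | succ j ih =>
      obtain ⟨k', hk', e⟩ := ih
      refine ⟨k' * ((h : G) ^ j * (k : G) * ((h : G) ^ j)⁻¹),
        K.mul_mem hk' (normalizer_conj_mem (hMK (pow_mem h.2 j)) (Subgroup.mem_subgroupOf.1 hk)), ?_⟩
      have eg : g = (k : G) * (h : G) := congrArg Subtype.val hgkh
      rw [pow_succ, e, eg, pow_succ]; group
  have hgK : g ∈ K := by
    obtain ⟨k', hk', e⟩ := hgpow (p ^ a)
    have h1 : g ^ p ^ a ∈ K := by rw [e]; exact K.mul_mem hk' hh'
    obtain ⟨w, hw⟩ := exists_pow_eq_self_of_coprime (n := p ^ a) (x := g) ((hg.pow_right a).symm)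
    rw [← hw]; exact K.pow_mem h1 w
  obtain ⟨-, hgC, hgR'⟩ := hgK
  intro r hr
  set u := ⁅g, r⁆ with hu
  have hj : ∀ j : ℕ, g ^ j * r * (g ^ j)⁻¹ = u ^ j * r := by
    intro j
    induction j with
    | zero => simp
    | succ j ih =>
      have hgu : g * u ^ j = u ^ j * g := (hgC _ (U.pow_mem (hgR' r hr) j)).symm
      calc g ^ (j + 1) * r * (g ^ (j + 1))⁻¹ = g * (g ^ j * r * (g ^ j)⁻¹) * g⁻¹ := by rw [pow_succ']; group
        _ = g * u ^ j * r * g⁻¹ := by rw [ih]; group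
        _ = u ^ j * (g * r * g⁻¹ * r⁻¹) * r := by rw [hgu]; group
        _ = u ^ (j + 1) * r := by rw [← commutatorElement_def, ← hu, pow_succ]
  have h1 := hj (orderOf g)
  rw [pow_orderOf_eq_one, one_mul, inv_one, mul_one, right_eq_mul] at h1
  obtain ⟨i, hi⟩ := hRp.exists_orderOf_eq_pow ⟨u, hUR (hgR' r hr)⟩
  rw [Subgroup.orderOf_mk] at hi
  have hu1 : u = 1 := orderOf_eq_one_iff.1
    (Nat.eq_one_of_dvd_coprimes (hg.pow_right i) (orderOf_dvd_of_pow_eq_one h1) (hi ▸ dvd_rfl))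
  exact (commutatorElement_eq_one_iff_mul_comm.1 hu1).symm

/-- A Frobenius normal p-complement criterion relative to a strongly closed subgroup. Let G be a finite group, S a Sylow p-subgroup and D a subgroup of S strongly closed in S with respect to G. Then G has a normal p-complement if and only if N_G(U) has a normal p-complement for every subgroup U of D with C_D(U) ≤ U. -/
theorem result {G : Type*} [Group G] [Finite G] {p : ℕ} [Fact p.Prime] (S : Sylow p G) (D : Subgroup G) (hD : Cfsg.IsStronglyClosed D (S : Subgroup G)) : Cfsg.HasNormalPComplement p G ↔ ∀ U : Subgroup G, U ≤ D → D ⊓ Subgroup.centralizer (U : Set G) ≤ U → Cfsg.HasNormalPComplement p ↥(Subgroup.normalizer (U : Set G)) := by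
  classical
  refine ⟨fun h U _ _ => CfsgLib.Transfer.hasNormalPComplement_subgroup h _, fun hloc => ?_⟩
  suffices key : ∀ (n : ℕ) (U : Subgroup G), Nat.card G - Nat.card U = n → U ≤ D →
      Cfsg.HasNormalPComplement p ↥(Subgroup.normalizer (U : Set G)) by
    have h := key _ ⊥ rfl bot_le
    rw [Subgroup.normalizer_eq_top_iff.2 (inferInstance : (⊥ : Subgroup G).Normal)] at h
    exact (CfsgLib.Transfer.hasNormalPComplement_congr Subgroup.topEquiv).1 h
  intro n
  induction n using Nat.strong_induction_on with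
  | _ n ih =>
  intro U hn hUD
  set NU := Subgroup.normalizer (U : Set G) with hNU
  refine CfsgLib.Transfer.hasNormalPComplement_of_frobeniusCond fun Q hQ g hgQ hg => ?_
  set R := Q.map NU.subtype ⊔ U with hR
  have hUp : IsPGroup p U := S.2.to_le (hUD.trans hD.1)
  have hQU : Q.map NU.subtype ≤ Subgroup.normalizer (U : Set G) := Subgroup.map_subtype_le Q
  have hRp : IsPGroup p R := (hQ.map NU.subtype).to_sup_of_normal_right' hUp hQU
  have hRU : R ≤ Subgroup.normalizer (U : Set G) := sup_le hQU Subgroup.le_normalizer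
  have hgQ' : (g : G) ∈ Subgroup.normalizer ((Q.map NU.subtype : Subgroup G) : Set G) := by
    refine mem_normalizer_of_conj_mem ?_
    rintro _ ⟨y, hy, rfl⟩
    exact ⟨g * y * g⁻¹, normalizer_conj_mem hgQ hy, by simp⟩
  have hgR : (g : G) ∈ Subgroup.normalizer (R : Set G) :=
    Subgroup.normalizer_inf_normalizer_le_normalizer_sup _ _ ⟨hgQ', g.2⟩
  suffices hcent : ∀ r ∈ R, r * (g : G) = g * r by
    rw [Subgroup.mem_centralizer_iff]
    exact fun y hy => Subtype.ext (hcent _ (Subgroup.mem_sup_left ⟨y, hy, rfl⟩))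
  set M := Subgroup.normalizer (U : Set G) ⊓ Subgroup.normalizer (R : Set G) with hM
  have hRM : R ≤ M := le_inf hRU Subgroup.le_normalizer
  obtain ⟨TM, hTM⟩ := (hRp.of_equiv (Subgroup.subgroupOfEquivOfLe hRM).symm).exists_le_sylow
  obtain ⟨P0, hP0⟩ := (TM.2.map M.subtype).exists_le_sylow
  obtain ⟨x, hx⟩ := MulAction.exists_smul_eq G P0 S
  have hconjS : ∀ y ∈ (TM : Subgroup M).map M.subtype, x * y * x⁻¹ ∈ (S : Subgroup G) := fun y hy => by
    rw [← hx, Sylow.coe_subgroup_smul]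
    exact mem_conj_smul_iff.2 (by simpa [mul_assoc] using hP0 hy)
  set U₂ := MulAut.conj x • U with hU2
  set R₂ := MulAut.conj x • R with hR2
  have hU2D : U₂ ≤ D := conj_smul_le_iff.2 fun y hy => hD.2 y (hUD hy) x
    (hconjS y ⟨⟨y, hRM (Subgroup.mem_sup_right hy)⟩, hTM (Subgroup.mem_sup_right hy), rfl⟩)
  have hcR2 : ∀ {H : Subgroup G} {y : G}, y ∈ H → x * y * x⁻¹ ∈ MulAut.conj x • H :=
    fun {H y} hy => mem_conj_smul_iff.2 (by simpa [mul_assoc] using hy)
  have hnorm : ∀ {H : Subgroup G} {y : G}, y ∈ Subgroup.normalizer (H : Set G) →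
      x * y * x⁻¹ ∈ Subgroup.normalizer ((MulAut.conj x • H : Subgroup G) : Set G) := by
    intro H y hy
    refine mem_normalizer_of_conj_mem fun z hz => ?_
    rw [mem_conj_smul_iff] at hz ⊢
    have := normalizer_conj_mem hy hz
    simpa [mul_assoc] using this
  have hR2U : R₂ ≤ Subgroup.normalizer (U₂ : Set G) := conj_smul_le_iff.2 fun y hy => hnorm (hRU hy)
  have hR2p : IsPGroup p R₂ := hRp.of_equiv (Subgroup.equivSMul (MulAut.conj x) R)
  have hg2 : (orderOf (x * (g : G) * x⁻¹)).Coprime p := by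
    rw [show x * (g : G) * x⁻¹ = MulAut.conj x (g : G) from rfl, MulEquiv.orderOf_eq, Subgroup.orderOf_coe]
    exact hg
  suffices hcent2 : ∀ r ∈ R₂, r * (x * (g : G) * x⁻¹) = x * g * x⁻¹ * r by
    intro r hr
    have h := hcent2 _ (hcR2 hr)
    exact (MulAut.conj x).injective (by
      rw [map_mul, map_mul]; exact h)
  have hbig : ∀ W : Subgroup G, W ≤ D → Nat.card U₂ < Nat.card W →
      Cfsg.HasNormalPComplement p ↥(Subgroup.normalizer (W : Set G)) := by
    intro W hWD hWc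
    refine ih _ ?_ W rfl hWD
    have := Subgroup.card_le_card_group W
    rw [hU2, card_conj_smul] at hWc
    omega
  by_cases hC : D ⊓ Subgroup.centralizer (U₂ : Set G) ≤ U₂
  · exact centralizes_of_npc (hloc U₂ hU2D hC) hR2U hR2p (hnorm g.2) (hnorm hgR) hg2
  set M₂ := Subgroup.normalizer (U₂ : Set G) ⊓ Subgroup.normalizer (R₂ : Set G) with hM2
  have hTle : MulAut.conj x • (TM : Subgroup M).map M.subtype ≤ M₂ := conj_smul_le_iff.2 fun y hy =>
    ⟨hnorm ((Subgroup.map_subtype_le _ hy : y ∈ M).1), hnorm ((Subgroup.map_subtype_le _ hy : y ∈ M).2)⟩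
  obtain ⟨T2, hT2⟩ := (((TM.2.map M.subtype).of_equiv (Subgroup.equivSMul (MulAut.conj x) _)).of_equiv
    (Subgroup.subgroupOfEquivOfLe hTle).symm).exists_le_sylow
  have hT2eq : ∀ y ∈ (T2 : Subgroup M₂).map M₂.subtype, x⁻¹ * y * x ∈ (TM : Subgroup M).map M.subtype := by
    have hMle : ∀ y ∈ M₂, x⁻¹ * y * x ∈ M := by
      intro y hy
      constructor
      · refine mem_normalizer_of_conj_mem fun z hz => ?_
        have := mem_conj_smul_iff.1 (normalizer_conj_mem hy.1 (hcR2 hz))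
        simpa [mul_assoc] using this
      · refine mem_normalizer_of_conj_mem fun z hz => ?_
        have := mem_conj_smul_iff.1 (normalizer_conj_mem hy.2 (hcR2 hz))
        simpa [mul_assoc] using this
    set T2m := (T2 : Subgroup M₂).map M₂.subtype
    set Q1 := MulAut.conj x⁻¹ • T2m with hQ1
    have hQ1M : Q1 ≤ M := conj_smul_le_iff.2 fun y hy => by
      simpa using hMle y (Subgroup.map_subtype_le _ hy)
    have hle : (TM : Subgroup M) ≤ Q1.subgroupOf M := fun y hy => by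
      rw [Subgroup.mem_subgroupOf, hQ1, mem_conj_smul_iff, inv_inv]
      exact ⟨⟨_, hTle (hcR2 ⟨y, hy, rfl⟩)⟩, hT2 (hcR2 ⟨y, hy, rfl⟩), rfl⟩
    have heq := TM.3 (((T2.2.map M₂.subtype).of_equiv (Subgroup.equivSMul (MulAut.conj x⁻¹) _)).of_equiv
      (Subgroup.subgroupOfEquivOfLe hQ1M).symm) hle
    intro y hy
    have hmem : x⁻¹ * y * x ∈ Q1 := by
      rw [hQ1, mem_conj_smul_iff]
      have e : x⁻¹⁻¹ * (x⁻¹ * y * x) * x⁻¹ = y := by group
      rw [e]; exact hy
    exact ⟨⟨_, hQ1M hmem⟩, heq ▸ (Subgroup.mem_subgroupOf.2 hmem), rfl⟩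
  refine centralizes_core S D hD U₂ R₂ _ hU2D (CfsgLib.Solvable.conj_smul_mono x le_sup_right) hR2p hR2U
    (hnorm g.2) (hnorm hgR) hg2 hbig hC T2 ?_ ?_
  · intro y hy
    refine hT2 ?_
    rw [Subgroup.mem_subgroupOf] at hy ⊢
    have hy' := mem_conj_smul_iff.1 hy
    refine mem_conj_smul_iff.2 ⟨⟨_, hRM hy'⟩, hTM hy', rfl⟩
  · intro y hy
    have := hconjS _ (hT2eq y hy)
    simpa [mul_assoc] using this

end Cfsg.Agent.S3839
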