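import Cfsg.Statements.S3857
import Cfsg.Agent.Lib.Solvable.Fitting
import Cfsg.Agent.Lib.Solvable.FrobeniusTheorem
import Cfsg.Agent.Lib.Solvable.FrobeniusComplement
import Cfsg.Agent.Lib.Solvable.UniqueSubgroup
import Cfsg.Agent.Lib.Cores.Basic

set_option autoImplicit false
open Cfsg

namespace Cfsg.Agent.S3857

open scoped Pointwise commutatorElement

def PiGrp {G : Type*} [Group G] (A : Set ℕ) (H : Subgroup G) : Prop :=
  ∀ q : ℕ, q.Prime → q ∣ Nat.card H → q ∈ A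

def NoMix (A : Set ℕ) (G : Type*) [Group G] : Prop :=
  ∀ x y : G, (orderOf x).Prime → (orderOf y).Prime → orderOf x ∈ A → orderOf y ∉ A → x * y ≠ y * x

theorem NoMix.compl {A : Set ℕ} {G : Type*} [Group G] (h : NoMix A G) : NoMix Aᶜ G :=
  fun x y hx hy hxA hyA hc => h y x hy hx (not_not.1 hyA) hxA hc.symm

theorem exists_prime_order_pow {G : Type*} [Group G] [Finite G] {x : G} (hx : x ≠ 1) :
    ∃ q k : ℕ, q.Prime ∧ q ∣ orderOf x ∧ orderOf (x ^ k) = q := by
  obtain ⟨q, hq, hqd⟩ := Nat.exists_prime_and_dvd (mt orderOf_eq_one_iff.1 hx)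
  refine ⟨q, orderOf x / q, hq, hqd, ?_⟩
  rw [orderOf_pow' _ (Nat.div_pos (Nat.le_of_dvd (orderOf_pos x) hqd) hq.pos).ne',
    Nat.gcd_eq_right (Nat.div_dvd_of_dvd hqd), Nat.div_div_self hqd (orderOf_pos x).ne']

theorem noMix_elts {A : Set ℕ} {G : Type*} [Group G] [Finite G] (h : NoMix A G) {H C : Subgroup G}
    (hH : PiGrp A H) (hC : PiGrp Aᶜ C) {x y : G} (hx : x ∈ H) (hy : y ∈ C) (hx1 : x ≠ 1) (hy1 : y ≠ 1) :
    x * y ≠ y * x := by
  intro hc
  obtain ⟨q, k, hq, hqd, hk⟩ := exists_prime_order_pow hx1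
  obtain ⟨r, l, hr, hrd, hl⟩ := exists_prime_order_pow hy1
  exact h (x ^ k) (y ^ l) (hk ▸ hq) (hl ▸ hr) (hk ▸ hH q hq (hqd.trans (Subgroup.orderOf_dvd_natCard _ hx)))
    (hl ▸ hC r hr (hrd.trans (Subgroup.orderOf_dvd_natCard _ hy))) ((show Commute x y from hc).pow_pow k l).eq

theorem noMix_subgroup {A : Set ℕ} {G : Type*} [Group G] (h : NoMix A G) (K : Subgroup G) : NoMix A K :=
  fun x y hx hy hxA hyA hc => h x y (by rwa [Subgroup.orderOf_coe]) (by rwa [Subgroup.orderOf_coe])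
    (by rwa [Subgroup.orderOf_coe]) (by rwa [Subgroup.orderOf_coe]) (congrArg Subtype.val hc)

theorem noMix_quotient {A : Set ℕ} {G : Type*} [Group G] [Finite G] (h : NoMix A G) (H : Subgroup G) [H.Normal] :
    NoMix A (G ⧸ H) := by
  intro x y hx hy hxA hyA hc
  have hne : orderOf x ≠ orderOf y := fun e => hyA (e ▸ hxA)
  have hz : orderOf (x * y) = orderOf x * orderOf y :=
    Commute.orderOf_mul_eq_mul_orderOf_of_coprime hc ((Nat.coprime_primes hx hy).2 hne)
  obtain ⟨g, hg⟩ := QuotientGroup.mk_surjective (x * y)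
  obtain ⟨c, hd⟩ : orderOf x * orderOf y ∣ orderOf g := hz ▸ hg ▸ orderOf_map_dvd (QuotientGroup.mk' H) g
  have hc0 : c ≠ 0 := by
    rintro rfl
    exact (orderOf_pos g).ne' (by rw [hd, mul_zero])
  have hga : orderOf (g ^ (orderOf y * c)) = orderOf x := by
    rw [orderOf_pow' _ (mul_ne_zero hy.ne_zero hc0), hd, mul_assoc,
      Nat.gcd_eq_right (dvd_mul_left _ _), Nat.mul_div_cancel _ (Nat.pos_of_ne_zero (mul_ne_zero hy.ne_zero hc0))]
  have hgb : orderOf (g ^ (orderOf x * c)) = orderOf y := by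
    rw [orderOf_pow' _ (mul_ne_zero hx.ne_zero hc0), hd, mul_comm (orderOf x) (orderOf y), mul_assoc,
      Nat.gcd_eq_right (dvd_mul_left _ _), Nat.mul_div_cancel _ (Nat.pos_of_ne_zero (mul_ne_zero hx.ne_zero hc0))]
  exact h _ _ (hga ▸ hx) (hgb ▸ hy) (hga ▸ hxA) (hgb ▸ hyA) (Commute.pow_pow_self g _ _).eq

theorem piGrp_compl_disjoint {A : Set ℕ} {G : Type*} [Group G] [Finite G] {H C : Subgroup G}
    (hH : PiGrp A H) (hC : PiGrp Aᶜ C) : (Nat.card H).Coprime (Nat.card C) :=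
  Nat.coprime_of_dvd fun q hq h1 h2 => hC q hq h2 (hH q hq h1)

theorem exists_max_pi {G : Type*} [Group G] [Finite G] (A : Set ℕ) :
    ∃ M : Subgroup G, M.Normal ∧ PiGrp A M ∧ ∀ N : Subgroup G, N.Normal → PiGrp A N → N ≤ M := by
  refine ⟨sSup {N : Subgroup G | N.Normal ∧ PiGrp A N}, ?_⟩
  have h := CfsgLib.Cores.sSup_normal_induction (fun N : Subgroup G => N.Normal ∧ PiGrp A N)
    ⟨inferInstance, fun q hq hd => absurd (Nat.eq_one_of_dvd_one (Subgroup.card_bot (G := G) ▸ hd)) hq.ne_one⟩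
    (fun N M hN hM h1 h2 => ⟨Subgroup.sup_normal N M, fun q hq hd =>
      (hq.dvd_mul.1 (hd.trans (CfsgLib.Cores.card_sup_dvd_mul N M))).elim (h1.2 q hq) (h2.2 q hq)⟩)
    {N : Subgroup G | N.Normal ∧ PiGrp A N} fun N hN => ⟨hN.1, hN⟩
  exact ⟨h.1, h.2, fun N hN hN' => le_sSup (show N ∈ {N : Subgroup G | N.Normal ∧ PiGrp A N} from ⟨hN, hN'⟩)⟩

theorem frob_of_noMix {A : Set ℕ} {G : Type*} [Group G] [Finite G] (h : NoMix A G) (H : Subgroup G) [H.Normal]
    (hH : PiGrp A H) {C : Subgroup G} (hC : PiGrp Aᶜ C) (hc : Subgroup.IsComplement' H C)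
    (hHb : H ≠ ⊥) (hCb : C ≠ ⊥) :
    Cfsg.IsFrobeniusComplement C ∧ Cfsg.frobeniusKernel C = (H : Set G) := by
  have hF : Cfsg.IsFrobeniusComplement C := by
    rw [CfsgLib.Solvable.isFrobeniusComplement_iff_fpf hc hHb hCb]
    intro c hc' hc1
    refine (Subgroup.eq_bot_iff_forall _).2 fun x hx => by_contra fun hx1 => ?_
    exact noMix_elts h hH hC hx.1 hc' hx1 hc1 (Subgroup.mem_centralizer_singleton_iff.1 hx.2)
  refine ⟨hF, (Set.eq_of_subset_of_ncard_le ?_ (le_of_eq ?_)).symm⟩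
  · intro k hk
    rw [CfsgLib.Solvable.mem_frobeniusKernel_iff]
    refine or_iff_not_imp_left.2 fun hk1 g hg => hk1 ?_
    have h1 : g⁻¹ * k * g ∈ H := by simpa using Subgroup.Normal.conj_mem inferInstance k hk g⁻¹
    have h2 : g⁻¹ * k * g = 1 := Subgroup.mem_bot.1 (hc.disjoint.eq_bot ▸ ⟨h1, hg⟩)
    have := congrArg (fun z => g * z * g⁻¹) h2
    simpa [mul_assoc] using this
  · rw [← Nat.card_coe_set_eq, CfsgLib.Solvable.card_frobeniusKernel hF, hc.index_eq_card, ← Nat.card_coe_set_eq]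
    rfl

theorem commute_conj_of_cyclic {G : Type*} [Group G] (F : Subgroup G) [F.Normal] [IsCyclic F] (x y : G) :
    ⁅x, y⁆ ∈ Subgroup.centralizer (F : Set G) := by
  obtain ⟨g, hg⟩ := IsCyclic.exists_generator (α := F)
  have hx := fun (x : G) => hg ⟨x * g * x⁻¹, Subgroup.Normal.conj_mem inferInstance _ g.2 x⟩
  have key : ∀ x : G, ∃ i : ℤ, ∀ f ∈ F, x * f * x⁻¹ = f ^ i := by
    intro x
    obtain ⟨i, hi⟩ := hx x
    refine ⟨i, fun f hf => ?_⟩
    obtain ⟨j, hj⟩ := hg ⟨f, hf⟩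
    have hj' : (g : G) ^ j = f := by simpa using congrArg Subtype.val hj
    have hi' : (g : G) ^ i = x * g * x⁻¹ := by simpa using congrArg Subtype.val hi
    rw [← hj', ← conj_zpow, ← hi', ← zpow_mul, ← zpow_mul, mul_comm]
  obtain ⟨i, hi⟩ := key x
  obtain ⟨j, hj⟩ := key y
  obtain ⟨i', hi'⟩ := key x⁻¹
  obtain ⟨j', hj'⟩ := key y⁻¹
  rw [Subgroup.mem_centralizer_iff]
  intro f hf
  have h1 : x * y * (x⁻¹ * (y⁻¹ * f * y) * x) * y⁻¹ * x⁻¹ = f := by
    have a1 : y⁻¹ * f * y = f ^ j' := by simpa using hj' f hf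
    have a2 : x⁻¹ * (f ^ j') * x = f ^ (j' * i') := by
      rw [show x⁻¹ * f ^ j' * x = x⁻¹ * f ^ j' * x⁻¹⁻¹ by rw [inv_inv], hi' _ (F.zpow_mem hf _), zpow_mul]
    have a3 : x⁻¹ * f * x = f ^ i' := by simpa using hi' f hf
    have a4 : y⁻¹ * (f ^ i') * y = f ^ (i' * j') := by
      rw [show y⁻¹ * f ^ i' * y = y⁻¹ * f ^ i' * y⁻¹⁻¹ by rw [inv_inv], hj' _ (F.zpow_mem hf _), zpow_mul]
    rw [a1, a2, mul_comm j' i', ← a4, ← a3]
    group
  have h2 : ⁅x, y⁆ * f * ⁅x, y⁆⁻¹ = f := by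
    conv_rhs => rw [← h1]
    rw [commutatorElement_def]
    group
  exact (mul_inv_eq_iff_eq_mul.1 h2).symm

theorem structure_of_noMix {G : Type*} [Group G] [Finite G] [Group.IsSolvable G] {A : Set ℕ} (h : NoMix A G)
    {q : ℕ} (hq : q.Prime) (hqA : q ∈ A) (N : Subgroup G) [N.Normal] (hN : IsPGroup q N) (hNb : N ≠ ⊥)
    {b : ℕ} (hb : b.Prime) (hbA : b ∉ A) (hbG : b ∣ Nat.card G) :
    (∃ C : Subgroup G, Cfsg.IsFrobeniusComplement C) ∨
    (∃ (H K : Subgroup G) (_ : H.Normal), K.Normal ∧ H < K ∧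
      (∃ C : Subgroup ↥K, Cfsg.IsFrobeniusComplement C ∧ Cfsg.frobeniusKernel C = (H.subgroupOf K : Set ↥K)) ∧
      (∃ C : Subgroup (G ⧸ H), Cfsg.IsFrobeniusComplement C ∧ Cfsg.frobeniusKernel C = (K.map (QuotientGroup.mk' H) : Set (G ⧸ H)))) := by
  classical
  obtain ⟨H, hHn, hH, hHmax⟩ := exists_max_pi (G := G) A
  haveI := hHn
  haveI : Fact q.Prime := ⟨hq⟩
  have hHb : H ≠ ⊥ := by
    intro hb'
    refine hNb (le_bot_iff.1 (hb' ▸ hHmax N inferInstance fun r hr hrd => ?_))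
    obtain ⟨n, hn⟩ := IsPGroup.iff_card.1 hN
    rw [hn] at hrd
    exact ((Nat.prime_dvd_prime_iff_eq hr hq).1 (hr.dvd_of_dvd_pow hrd)) ▸ hqA
  let π := QuotientGroup.mk' H
  have hπ : Function.Surjective π := QuotientGroup.mk'_surjective H
  have hmixQ := noMix_quotient h H
  have hnoA : ∀ M : Subgroup (G ⧸ H), M.Normal → PiGrp A M → M = ⊥ := by
    intro M hM hMA
    have hle : M.comap π ≤ H := hHmax _ (hM.comap π) fun r hr hrd => by
      rw [CfsgLib.Solvable.card_comap_mk'] at hrd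
      rcases hr.dvd_mul.1 hrd with h1 | h1
      · first | exact hMA r hr h1 | exact hH r hr h1
      · first | exact hH r hr h1 | exact hMA r hr h1
    rw [← Subgroup.map_comap_eq_self_of_surjective hπ M, Subgroup.map_eq_bot_iff, QuotientGroup.ker_mk']
    exact hle
  obtain ⟨L, hLn, hL, hLmax⟩ := exists_max_pi (G := G ⧸ H) Aᶜ
  haveI := hLn
  haveI : Nontrivial (G ⧸ H) := by
    by_contra hn
    rw [not_nontrivial_iff_subsingleton] at hn
    have : H = ⊤ := QuotientGroup.subgroup_eq_top_of_subsingleton H hn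
    exact hbA (hH b hb (by rw [this, Subgroup.card_top]; exact hbG))
  have hLb : L ≠ ⊥ := by
    intro hLb
    obtain ⟨M, r, a, hMn, hr, ha, -, hMc, hMb, -⟩ := CfsgLib.Solvable.exists_normal_prime_pow_card (G := G ⧸ H)
    by_cases hrA : r ∈ A
    · exact hMb (hnoA M hMn fun s hs hsd => ((Nat.prime_dvd_prime_iff_eq hs hr).1 (hs.dvd_of_dvd_pow (hMc ▸ hsd))) ▸ hrA)
    · exact hMb (le_bot_iff.1 (hLb ▸ hLmax M hMn fun s hs hsd => ((Nat.prime_dvd_prime_iff_eq hs hr).1 (hs.dvd_of_dvd_pow (hMc ▸ hsd))) ▸ hrA))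
  let K : Subgroup G := L.comap π
  have hHK : H ≤ K := fun x hx => by
    show π x ∈ L
    rw [show π x = 1 from (QuotientGroup.eq_one_iff x).2 hx]
    exact L.one_mem
  have hKcard : Nat.card K = Nat.card H * Nat.card L := by
    have := CfsgLib.Solvable.card_comap_mk' H L
    first | exact this | (rw [this, mul_comm])
  have hHK' : Nat.card (H.subgroupOf K) = Nat.card H := Nat.card_congr (Subgroup.subgroupOfEquivOfLe hHK).toEquiv
  have hidx : (H.subgroupOf K).index = Nat.card L := by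
    have := (H.subgroupOf K).card_mul_index
    rw [hHK', hKcard] at this
    exact Nat.eq_of_mul_eq_mul_left Nat.card_pos this
  haveI : (H.subgroupOf K).Normal := hHn.comap _
  obtain ⟨C, hC⟩ := Subgroup.exists_right_complement'_of_coprime (N := H.subgroupOf K)
    (by rw [hHK', hidx]; exact Nat.coprime_of_dvd fun r hr h1 h2 => hL r hr h2 (hH r hr h1))
  have hCcard : Nat.card C = Nat.card L := by rw [← hidx, hC.symm.index_eq_card]
  have hCpi : PiGrp Aᶜ C := fun r hr hrd => hL r hr (hCcard ▸ hrd)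
  have hHpi' : PiGrp A (H.subgroupOf K) := fun r hr hrd => hH r hr (hHK' ▸ hrd)
  have hCb : C ≠ ⊥ := fun e => hLb (Subgroup.eq_bot_of_card_eq _ (by rw [← hCcard, e, Subgroup.card_bot]))
  have hHb' : H.subgroupOf K ≠ ⊥ := fun e => hHb (Subgroup.eq_bot_of_card_eq _ (by rw [← hHK', e, Subgroup.card_bot]))
  obtain ⟨hFK, hkerK⟩ := frob_of_noMix (noMix_subgroup h K) (H.subgroupOf K) hHpi' hCpi hC hHb' hCb
  by_cases hKtop : K = ⊤
  · left
    let C' : Subgroup G := C.map K.subtype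
    have hC'c : Nat.card C' = Nat.card C := Subgroup.card_map_of_injective K.subtype_injective
    have hc' : Subgroup.IsComplement' H C' := by
      refine Subgroup.isComplement'_of_coprime ?_ ?_
      · rw [hC'c, hCcard, ← Subgroup.card_top (G := G), ← hKtop, hKcard]
      · rw [hC'c, hCcard]; exact Nat.coprime_of_dvd fun r hr h1 h2 => hL r hr h2 (hH r hr h1)
    exact ⟨C', (frob_of_noMix h H hH (fun r hr hrd => hCpi r hr (hC'c ▸ hrd)) hc' hHb
      (fun e => hCb (Subgroup.eq_bot_of_card_eq _ (by rw [← hC'c, e, Subgroup.card_bot])))).1⟩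
  right
  have hnotB : ∃ a : ℕ, a.Prime ∧ a ∈ A ∧ a ∣ Nat.card (G ⧸ H) := by
    by_contra hno
    push Not at hno
    refine hKtop (eq_top_iff.2 fun g _ => ?_)
    exact hLmax ⊤ inferInstance (fun r hr hrd hrA => hno r hr hrA (by rwa [Subgroup.card_top] at hrd)) (Subgroup.mem_top _)
  obtain ⟨a, ha, haA, haQ⟩ := hnotB
  haveI : Fact a.Prime := ⟨ha⟩
  obtain ⟨t, ht⟩ := exists_prime_orderOf_dvd_card' (G := G ⧸ H) a haQ
  have ht1 : t ≠ 1 := fun e => ha.one_lt.ne (by rw [← ht, e, orderOf_one])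
  have htA : PiGrp A (Subgroup.zpowers t) := fun r hr hrd => by
    rw [Nat.card_zpowers, ht] at hrd
    exact ((Nat.prime_dvd_prime_iff_eq hr ha).1 hrd) ▸ haA
  have hfpf : ∀ l ∈ L, l ≠ 1 → t * l ≠ l * t := fun l hl hl1 =>
    noMix_elts hmixQ htA hL (Subgroup.mem_zpowers t) hl ht1 hl1
  -- the Fitting subgroup of the quotient
  haveI : Group.IsSolvable (G ⧸ H) := solvable_of_surjective hπ
  let F : Subgroup (G ⧸ H) := Cfsg.fittingSubgroup (G ⧸ H)
  haveI hFn : F.Normal := CfsgLib.Cores.fittingSubgroup_normal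
  have hFL : F ≤ L := by
    show Cfsg.fittingSubgroup (G ⧸ H) ≤ L
    rw [CfsgLib.Cores.fittingSubgroup_eq_iSup_pCore]
    refine iSup_le fun r => ?_
    have hr : (r : ℕ).Prime := Nat.prime_of_mem_primeFactors r.2
    haveI : Fact (r : ℕ).Prime := ⟨hr⟩
    have hrp : IsPGroup (r : ℕ) (Cfsg.pCore (r : ℕ) (G ⧸ H)) := CfsgLib.Cores.isPGroup_pCore _
    obtain ⟨n, hn⟩ := IsPGroup.iff_card.1 hrp
    have hrn : (Cfsg.pCore (r : ℕ) (G ⧸ H)).Normal := Cfsg.pCore_normal _ _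
    by_cases hrA : (r : ℕ) ∈ A
    · rw [hnoA _ hrn fun s hs hsd => ((Nat.prime_dvd_prime_iff_eq hs hr).1 (hs.dvd_of_dvd_pow (hn ▸ hsd))) ▸ hrA]
      exact bot_le
    · exact hLmax _ hrn fun s hs hsd => ((Nat.prime_dvd_prime_iff_eq hs hr).1 (hs.dvd_of_dvd_pow (hn ▸ hsd))) ▸ hrA
  haveI hFnil : Group.IsNilpotent F := CfsgLib.Cores.isNilpotent_fittingSubgroup
  let σ : C →* G ⧸ H := (π.comp K.subtype).comp C.subtype
  have hσ : Function.Injective σ := by
    refine (injective_iff_map_eq_one σ).2 fun c hc' => Subtype.ext ?_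
    exact Subgroup.mem_bot.1 (hC.disjoint.eq_bot ▸
      (⟨(QuotientGroup.eq_one_iff (N := H) ((c : K) : G)).1 hc', c.2⟩ : (c : K) ∈ H.subgroupOf K ⊓ C))
  have hσL : σ.range = L := by
    refine Subgroup.eq_of_le_of_card_ge ?_ ?_
    · rintro _ ⟨c, rfl⟩
      exact (c : K).2
    · rw [← hCcard, Nat.card_congr (MonoidHom.ofInjective hσ).toEquiv]
  have huniq : ∀ r : ℕ, r.Prime → ∀ x y : G ⧸ H, x ∈ L → y ∈ L → x * y = y * x → orderOf x = r → orderOf y = r →
      x ∈ Subgroup.zpowers y := by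
    intro r hr x y hx hy hxy hox hoy
    obtain ⟨c, rfl⟩ := hσL.ge hx
    obtain ⟨d, rfl⟩ := hσL.ge hy
    have hcd : (c : K) * (d : K) = (d : K) * (c : K) :=
      congrArg Subtype.val (hσ (show σ (c * d) = σ (d * c) by rw [map_mul, map_mul, hxy]))
    rw [orderOf_injective σ hσ] at hox hoy
    obtain ⟨i, hi⟩ := CfsgLib.Solvable.mem_zpowers_of_fpf (H := C) (K := H.subgroupOf K) hHb'
      (fun c _ => by rw [Subgroup.normalizer_eq_top_iff.2 inferInstance]; exact Subgroup.mem_top c)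
      (fun a ha ha1 => by
        refine (Subgroup.eq_bot_iff_forall _).2 fun z hz => by_contra fun hz1 => ?_
        exact noMix_elts (noMix_subgroup h K) hHpi' hCpi hz.1 ha hz1 ha1 (Subgroup.mem_centralizer_singleton_iff.1 hz.2))
      c.2 d.2 hcd (by rw [Subgroup.orderOf_coe, Subgroup.orderOf_coe, hox, hoy])
    exact ⟨i, by show σ d ^ i = σ c; rw [← map_zpow]; exact congrArg σ (Subtype.ext (by simpa using hi))⟩
  have hFz : IsZGroup F := by
    refine ⟨fun r hr S => ?_⟩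
    haveI : Fact r.Prime := ⟨hr⟩
    have hSn : (S : Subgroup F).Normal :=
      (((Group.isNilpotent_of_finite_tfae (G := F)).out 0 3 rfl rfl).mp hFnil) r ⟨hr⟩ S
    have hu : ∀ x y : (S : Subgroup F), orderOf x = r → orderOf y = r → x ∈ Subgroup.zpowers y := by
      intro x y hx hy
      haveI : Nontrivial (S : Subgroup F) := ⟨⟨x, 1, fun e => hr.one_lt.ne' (hx ▸ e ▸ orderOf_one)⟩⟩
      haveI := S.2.center_nontrivial
      obtain ⟨n, hn0, hn⟩ := (S.2.to_subgroup (Subgroup.center (S : Subgroup F))).nontrivial_iff_card.1 inferInstance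
      obtain ⟨z, hz⟩ := exists_prime_orderOf_dvd_card' (G := Subgroup.center (S : Subgroup F)) r (hn ▸ dvd_pow_self r hn0.ne')
      have key : ∀ w : (S : Subgroup F), orderOf w = r → Subgroup.zpowers w = Subgroup.zpowers (z : (S : Subgroup F)) := by
        intro w hw
        have hzo : orderOf (z : (S : Subgroup F)) = r := (Subgroup.orderOf_coe z).trans hz
        obtain ⟨i, hi⟩ := huniq r hr (((w : F)) : G ⧸ H) (((z : (S : Subgroup F)) : F) : G ⧸ H) (hFL (w : F).2)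
          (hFL ((z : (S : Subgroup F)) : F).2)
          (congrArg (fun u : (S : Subgroup F) => ((u : F) : G ⧸ H)) (Subgroup.mem_center_iff.1 z.2 w))
          (by rw [Subgroup.orderOf_coe, Subgroup.orderOf_coe, hw]) (by rw [Subgroup.orderOf_coe, Subgroup.orderOf_coe, hzo])
        refine Subgroup.eq_of_le_of_card_ge (Subgroup.zpowers_le.2 ⟨i, Subtype.ext (Subtype.ext (by simpa using hi))⟩) ?_
        rw [Nat.card_zpowers, Nat.card_zpowers, hw, hzo]
      rw [key y hy, ← key x hx]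
      exact Subgroup.mem_zpowers x
    rcases CfsgLib.Solvable.isCyclic_or_quaternion S.2 hu with hcy | ⟨rfl, k, ⟨e⟩⟩
    · exact hcy
    · exfalso
      obtain ⟨z, hz⟩ := exists_prime_orderOf_dvd_card' (G := F) 2 (by
        refine dvd_trans ?_ (Subgroup.card_subgroup_dvd_card (S : Subgroup F))
        rw [Nat.card_congr e.toEquiv, Nat.card_eq_fintype_card, QuaternionGroup.card]
        exact dvd_mul_of_dvd_left (by norm_num) _)
      have hmem : ∀ w : F, orderOf w = 2 → w ∈ (S : Subgroup F) := by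
        intro w hw
        have hwp : IsPGroup 2 (Subgroup.zpowers w) := IsPGroup.of_card (n := 1) (by rw [Nat.card_zpowers, hw, pow_one])
        obtain ⟨R, hR⟩ := hwp.exists_le_sylow
        haveI : Subsingleton (Sylow 2 F) := @Unique.instSubsingleton _ (Sylow.unique_of_normal S hSn)
        rw [Subsingleton.elim S R]
        exact hR (Subgroup.mem_zpowers w)
      let w : F := ⟨t * (z : G ⧸ H) * t⁻¹, hFn.conj_mem _ z.2 t⟩
      have hw : orderOf w = 2 := by
        rw [← Subgroup.orderOf_coe]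
        show orderOf (t * (z : G ⧸ H) * t⁻¹) = 2
        rw [show t * (z : G ⧸ H) * t⁻¹ = MulAut.conj t (z : G ⧸ H) from rfl, MulEquiv.orderOf_eq, Subgroup.orderOf_coe, hz]
      obtain ⟨i, hi⟩ := hu ⟨w, hmem w hw⟩ ⟨z, hmem z hz⟩ (by rw [Subgroup.orderOf_mk, hw]) (by rw [Subgroup.orderOf_mk, hz])
      have hi' : (z : G ⧸ H) ^ i = t * (z : G ⧸ H) * t⁻¹ :=
        congrArg (fun u : (S : Subgroup F) => ((u : F) : G ⧸ H)) hi
      have hzt : (z : G ⧸ H) ^ i = (z : G ⧸ H) := by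
        rcases Int.even_or_odd i with ⟨j, rfl⟩ | ⟨j, rfl⟩
        · exfalso
          have h2 : (z : G ⧸ H) ^ (j + j) = 1 := by
            rw [← two_mul, zpow_mul, zpow_ofNat, ← hz, ← Subgroup.orderOf_coe, pow_orderOf_eq_one, one_zpow]
          rw [h2] at hi'
          have h3 : (z : G ⧸ H) = 1 := conj_eq_one_iff.1 hi'.symm
          rw [← Subgroup.orderOf_coe, h3, orderOf_one] at hz
          exact absurd hz (by norm_num)
        · rw [zpow_add, zpow_mul, zpow_ofNat, ← hz, ← Subgroup.orderOf_coe, pow_orderOf_eq_one, one_zpow, one_mul, zpow_one]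
      rw [hzt] at hi'
      refine hfpf _ (hFL z.2) (fun e1 => ?_) ((mul_inv_eq_iff_eq_mul.1 hi'.symm))
      rw [← Subgroup.orderOf_coe, e1, orderOf_one] at hz
      exact absurd hz (by norm_num)
  haveI := hFz
  haveI hFc : IsCyclic F := inferInstance
  have hcomm : ∀ x y : G ⧸ H, ⁅x, y⁆ ∈ L := fun x y =>
    hFL (CfsgLib.Solvable.centralizer_fittingSubgroup_le (commute_conj_of_cyclic F x y))
  have hQA : ∀ r : ℕ, r.Prime → r ∉ A → ¬ r ∣ L.index := by
    intro r hr hrA hrd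
    haveI : Fact r.Prime := ⟨hr⟩
    obtain ⟨c, hc'⟩ := exists_prime_orderOf_dvd_card' (G := (G ⧸ H) ⧸ L) r (by rwa [← Subgroup.index_eq_card])
    let M : Subgroup (G ⧸ H) := (Subgroup.zpowers c).comap (QuotientGroup.mk' L)
    have hMn : M.Normal := by
      constructor
      intro m hm g
      show QuotientGroup.mk' L (g * m * g⁻¹) ∈ Subgroup.zpowers c
      have : QuotientGroup.mk' L (g * m * g⁻¹) = QuotientGroup.mk' L m := by
        refine (QuotientGroup.eq.2 ?_).symm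
        rw [show m⁻¹ * (g * m * g⁻¹) = ⁅m⁻¹, g⁆ by rw [commutatorElement_def, inv_inv, mul_assoc, mul_assoc]; simp [mul_assoc]]
        exact hcomm _ _
      rw [this]; exact hm
    have hML := hLmax M hMn fun s hs hsd => by
      rw [CfsgLib.Solvable.card_comap_mk'] at hsd
      rcases hs.dvd_mul.1 hsd with h1 | h1
      · first | exact hL s hs h1 | (rw [Nat.card_zpowers, hc'] at h1; exact ((Nat.prime_dvd_prime_iff_eq hs hr).1 h1) ▸ hrA)
      · first | exact hL s hs h1 | (rw [Nat.card_zpowers, hc'] at h1; exact ((Nat.prime_dvd_prime_iff_eq hs hr).1 h1) ▸ hrA)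
    obtain ⟨g, hg⟩ := QuotientGroup.mk_surjective c
    have hgM : g ∈ M := by
      show QuotientGroup.mk' L g ∈ Subgroup.zpowers c
      rw [QuotientGroup.mk'_apply, hg]
      exact Subgroup.mem_zpowers c
    rw [← hg, (QuotientGroup.eq_one_iff g).2 (hML hgM), orderOf_one] at hc'
    exact hr.one_lt.ne hc'
  have hidxA : ∀ r : ℕ, r.Prime → r ∣ L.index → r ∈ A := fun r hr hrd => by_contra fun hrA => hQA r hr hrA hrd
  obtain ⟨D, hD⟩ := Subgroup.exists_right_complement'_of_coprime (N := L)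
    (Nat.coprime_of_dvd fun r hr h1 h2 => hL r hr h1 (hidxA r hr h2))
  have hDcard : Nat.card D = L.index := hD.symm.index_eq_card.symm
  have hDb : D ≠ ⊥ := by
    intro e
    have h1 : L.index = 1 := by rw [← hDcard, e, Subgroup.card_bot]
    exact hKtop (by show L.comap π = ⊤; rw [Subgroup.index_eq_one.1 h1, Subgroup.comap_top])
  obtain ⟨hFQ, hkerQ⟩ := frob_of_noMix hmixQ.compl L hL
    (fun r hr hrd => by rw [compl_compl]; exact hidxA r hr (hDcard ▸ hrd)) hD hLb hDb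
  refine ⟨H, K, hHn, hLn.comap π, lt_of_le_of_ne hHK ?_, ⟨C, hFK, hkerK⟩, ⟨D, hFQ, ?_⟩⟩
  · intro e
    exact hLb (Subgroup.eq_bot_of_card_eq _ (Nat.eq_of_mul_eq_mul_left (Nat.card_pos (α := H)) (by rw [← hKcard, ← e, mul_one])))
  · rw [hkerQ, Subgroup.map_comap_eq_self_of_surjective hπ]

/-- A finite solvable group whose prime graph (prime divisors of the order, two distinct primes joined when there is an element of order their product) is disconnected is a Frobenius group or a 2-Frobenius group (it has normal subgroups H < K with K a Frobenius group with kernel H and G/H a Frobenius group with kernel K/H). -/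
theorem result {G : Type*} [Group G] [Finite G] (hsol : Group.IsSolvable G)
    (hdisc : (∃ A : Set ℕ, (∃ a ∈ A, a.Prime ∧ a ∣ Nat.card G) ∧ (∃ b ∉ A, b.Prime ∧ b ∣ Nat.card G) ∧
      ∀ a ∈ A, ∀ b ∉ A, a.Prime → b.Prime → a ∣ Nat.card G → b ∣ Nat.card G → ¬ ∃ g : G, orderOf g = a * b)) :
    (∃ C : Subgroup G, Cfsg.IsFrobeniusComplement C) ∨
    (∃ (H K : Subgroup G) (_ : H.Normal), K.Normal ∧ H < K ∧
      (∃ C : Subgroup ↥K, Cfsg.IsFrobeniusComplement C ∧ Cfsg.frobeniusKernel C = (H.subgroupOf K : Set ↥K)) ∧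
      (∃ C : Subgroup (G ⧸ H), Cfsg.IsFrobeniusComplement C ∧ Cfsg.frobeniusKernel C = (K.map (QuotientGroup.mk' H) : Set (G ⧸ H)))) := by
  classical
  obtain ⟨A, ⟨a, haA, ha, haG⟩, ⟨b, hbA, hb, hbG⟩, hno⟩ := hdisc
  haveI := hsol
  have hmix : NoMix A G := fun x y hx hy hxA hyA hc => hno _ hxA _ hyA hx hy (orderOf_dvd_natCard x) (orderOf_dvd_natCard y)
    ⟨x * y, Commute.orderOf_mul_eq_mul_orderOf_of_coprime hc ((Nat.coprime_primes hx hy).2 fun e => hyA (e ▸ hxA))⟩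
  haveI : Nontrivial G := Finite.one_lt_card_iff_nontrivial.1 (lt_of_lt_of_le ha.one_lt (Nat.le_of_dvd Nat.card_pos haG))
  obtain ⟨N, q, k, hNn, hq, -, hNp, -, hNb, -⟩ := CfsgLib.Solvable.exists_normal_prime_pow_card (G := G)
  haveI := hNn
  by_cases hqA : q ∈ A
  · exact structure_of_noMix hmix hq hqA N hNp hNb hb hbA hbG
  · exact structure_of_noMix hmix.compl hq hqA N hNp hNb ha (fun h => h haA) haG

end Cfsg.Agent.S3857
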