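import Cfsg.Statements.S3858
import Mathlib

set_option autoImplicit false
open Cfsg

namespace Cfsg.Agent.S3858

open scoped Pointwise

/-- Let G be a finite group with a normal non-abelian simple subgroup T whose centralizer is trivial (G almost simple with socle T), r a prime and R a Sylow r-subgroup of G meeting T nontrivially. Then R lies in exactly one maximal subgroup of G if and only if G has exactly one conjugacy class of maximal subgroups whose index is prime to r. -/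
theorem result {G : Type*} [Group G] [Finite G] (T : Subgroup G) [T.Normal] (hT : IsSimpleGroup T) (hna : ¬ IsMulCommutative T)
    (hC : Subgroup.centralizer (T : Set G) = ⊥) {r : ℕ} [Fact r.Prime] (R : Sylow r G) (hR0 : (R : Subgroup G) ⊓ T ≠ ⊥) :
    (∃! M : Subgroup G, IsCoatom M ∧ (R : Subgroup G) ≤ M) ↔
      ((∃ M : Subgroup G, IsCoatom M ∧ ¬ r ∣ M.index) ∧
        ∀ M₁ M₂ : Subgroup G, IsCoatom M₁ → ¬ r ∣ M₁.index → IsCoatom M₂ → ¬ r ∣ M₂.index → ∃ g : G, M₂ = M₁.map (MulAut.conj g).toMonoidHom) := by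
  haveI := hT
  have hRn : ¬ (R : Subgroup G).Normal := by
    intro h
    apply hna
    rcases (inferInstance : ((((R : Subgroup G) ⊓ T).subgroupOf T)).Normal).eq_bot_or_eq_top with h1 | h1
    · refine absurd (le_bot_iff.1 fun x hx => ?_) hR0
      have : (⟨x, hx.2⟩ : T) ∈ ((R : Subgroup G) ⊓ T).subgroupOf T := hx
      rw [h1, Subgroup.mem_bot] at this
      exact Subgroup.mem_bot.2 (congrArg Subtype.val this)
    · have hp : IsPGroup r T := R.isPGroup'.to_le ((Subgroup.subgroupOf_eq_top.1 h1).trans inf_le_left)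
      haveI := hp.center_nontrivial
      rcases (inferInstance : ((Subgroup.center T)).Normal).eq_bot_or_eq_top with h2 | h2
      · exact absurd h2 ((Subgroup.nontrivial_iff_ne_bot _).1 inferInstance)
      · exact ⟨⟨fun a b => Subgroup.mem_center_iff.1 (h2 ▸ Subgroup.mem_top b) a⟩⟩
  have hidx : ∀ M : Subgroup G, (R : Subgroup G) ≤ M → ¬ r ∣ M.index := fun M h hd =>
    R.not_dvd_index (hd.trans (Subgroup.index_dvd_of_le h))
  have hcon : ∀ M : Subgroup G, ¬ r ∣ M.index →
      ∃ g : G, (R : Subgroup G).map (MulAut.conj g).toMonoidHom ≤ M := by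
    intro M hM
    obtain ⟨P⟩ := Sylow.nonempty (p := r) (G := M)
    have hP : ¬ r ∣ ((P : Subgroup M).map M.subtype).index := by
      rw [Subgroup.index_map_of_injective _ M.subtype_injective, Subgroup.range_subtype]
      intro h
      rcases (Fact.out : r.Prime).dvd_mul.1 h with h | h
      · exact P.not_dvd_index h
      · exact hM h
    let P' : Sylow r G := (P.isPGroup'.map M.subtype).toSylow hP
    obtain ⟨g, hg⟩ := MulAction.exists_smul_eq G R P'
    refine ⟨g, ?_⟩
    have : ((g • R : Sylow r G) : Subgroup G) ≤ M := by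
      rw [hg]; exact Subgroup.map_subtype_le _
    exact this
  constructor
  · rintro ⟨M, ⟨hM, hRM⟩, hu⟩
    refine ⟨⟨M, hM, hidx M hRM⟩, ?_⟩
    have key : ∀ M₁ : Subgroup G, IsCoatom M₁ → ¬ r ∣ M₁.index →
        ∃ g : G, M₁ = M.map (MulAut.conj g).toMonoidHom := by
      intro M₁ h₁ hi₁
      obtain ⟨g, hg⟩ := hcon M₁ hi₁
      refine ⟨g, ?_⟩
      have hco : IsCoatom (M₁.map (MulAut.conj g⁻¹).toMonoidHom) :=
        (MulEquiv.mapSubgroup (MulAut.conj g⁻¹)).isCoatom_iff _ |>.2 h₁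
      have := hu _ ⟨hco, fun x hx => ⟨_, hg ⟨x, hx, rfl⟩, by simp [mul_assoc]⟩⟩
      rw [← this, Subgroup.map_map]
      ext y; simp [mul_assoc]
    intro M₁ M₂ h₁ hi₁ h₂ hi₂
    obtain ⟨g₁, rfl⟩ := key M₁ h₁ hi₁
    obtain ⟨g₂, rfl⟩ := key M₂ h₂ hi₂
    refine ⟨g₂ * g₁⁻¹, ?_⟩
    rw [Subgroup.map_map]
    congr 1
    ext y; simp [mul_assoc]
  · rintro ⟨-, hconj⟩
    obtain ⟨M₀, hM₀, hN⟩ := (eq_top_or_exists_le_coatom
      (Subgroup.normalizer ((R : Subgroup G) : Set G))).resolve_left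
        (fun h => hRn (Subgroup.normalizer_eq_top_iff.1 h))
    refine ⟨M₀, ⟨hM₀, Subgroup.le_normalizer.trans hN⟩, fun M ⟨hM, hRM⟩ => ?_⟩
    obtain ⟨x, rfl⟩ := hconj M₀ M hM₀ (hidx _ (Subgroup.le_normalizer.trans hN)) hM (hidx _ hRM)
    have hx : ((x⁻¹ • R : Sylow r G) : Subgroup G) ≤ M₀ := by
      rintro _ ⟨y, hy, rfl⟩
      obtain ⟨z, hz, hzy⟩ := hRM hy
      have : MulDistribMulAction.toMonoidEnd (MulAut G) G (MulAut.conj x⁻¹) y = z := by
        show x⁻¹ * y * x⁻¹⁻¹ = z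
        rw [← hzy]
        show x⁻¹ * (x * z * x⁻¹) * x⁻¹⁻¹ = z
        group
      exact this ▸ hz
    have hR0' : (R : Subgroup G) ≤ M₀ := Subgroup.le_normalizer.trans hN
    obtain ⟨m, hm⟩ := MulAction.exists_smul_eq M₀ (R.subtype hR0') ((x⁻¹ • R).subtype hx)
    rw [Sylow.smul_subtype] at hm
    have h1 : ((m : G) • R : Sylow r G) = x⁻¹ • R := Sylow.subtype_injective hm
    have h2 : (x * m) • R = R := by rw [mul_smul, h1, smul_inv_smul]
    have h3 : x ∈ M₀ := by
      have := M₀.mul_mem (hN (Sylow.smul_eq_iff_mem_normalizer.1 h2)) (M₀.inv_mem m.2)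
      simpa using this
    ext y
    constructor
    · rintro ⟨z, hz, rfl⟩; exact M₀.mul_mem (M₀.mul_mem h3 hz) (M₀.inv_mem h3)
    · intro hy
      exact ⟨x⁻¹ * y * x, M₀.mul_mem (M₀.mul_mem (M₀.inv_mem h3) hy) h3, by simp [mul_assoc]⟩

end Cfsg.Agent.S3858
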