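import Cfsg.Statements.S3859
import Mathlib

set_option autoImplicit false
open Cfsg

namespace Cfsg.Agent.S3859

open scoped Pointwise

/-- Let G be a finite group with a normal non-abelian simple subgroup T whose centralizer is trivial (G almost simple with socle T), r a prime and R a Sylow r-subgroup of G meeting T nontrivially. If R lies in exactly one maximal subgroup of G, then G/T is an r-group. -/
theorem result {G : Type*} [Group G] [Finite G] (T : Subgroup G) [T.Normal] (hT : IsSimpleGroup T) (hna : ¬ IsMulCommutative T)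
    (hC : Subgroup.centralizer (T : Set G) = ⊥) {r : ℕ} [Fact r.Prime] (R : Sylow r G) (hR0 : (R : Subgroup G) ⊓ T ≠ ⊥)
    (huniq : ∃! M : Subgroup G, IsCoatom M ∧ (R : Subgroup G) ≤ M) : IsPGroup r (G ⧸ T) := by
  obtain ⟨M, ⟨hM, hRM⟩, huM⟩ := huniq
  haveI := hT
  have hTne : T ≠ ⊥ := fun h => hR0 (by rw [h, inf_bot_eq])
  have hnP : ¬ IsPGroup r T := by
    intro h
    apply hna
    haveI := h.center_nontrivial
    rcases (inferInstance : ((Subgroup.center T)).Normal).eq_bot_or_eq_top with h1 | h1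
    · exact absurd h1 ((Subgroup.nontrivial_iff_ne_bot _).1 inferInstance)
    · exact ⟨⟨fun a b => Subgroup.mem_center_iff.1 (h1 ▸ Subgroup.mem_top b) a⟩⟩
  have hTR : T ⊔ (R : Subgroup G) = ⊤ := by
    by_contra hne
    obtain ⟨M', hM', hle⟩ := (eq_top_or_exists_le_coatom (T ⊔ (R : Subgroup G))).resolve_left hne
    rw [huM M' ⟨hM', le_sup_right.trans hle⟩] at hle
    obtain ⟨P₀⟩ := Sylow.nonempty (p := r) (G := T)
    obtain ⟨Q, hQ⟩ := P₀.exists_comap_subtype_eq
    obtain ⟨g, rfl⟩ := MulAction.exists_smul_eq G R Q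
    have hcard : Nat.card (((R : Subgroup G) ⊓ T).subgroupOf T) = Nat.card P₀ := by
      rw [show Nat.card P₀ = Nat.card (P₀ : Subgroup T) from rfl, ← hQ,
        ← Subgroup.card_map_of_injective T.subtype_injective (K := ((R : Subgroup G) ⊓ T).subgroupOf T),
        ← Subgroup.card_map_of_injective T.subtype_injective (K := ((g • R : Sylow r G) : Subgroup G).comap T.subtype),
        show ((g • R : Sylow r G) : Subgroup G).comap T.subtype = ((g • R : Sylow r G) : Subgroup G).subgroupOf T from rfl,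
        Subgroup.subgroupOf_map_subtype, Subgroup.subgroupOf_map_subtype, inf_assoc, inf_idem,
        ← Subgroup.card_map_of_injective (f := (MulAut.conj g).toMonoidHom) (MulAut.conj g).injective (K := (R : Subgroup G) ⊓ T)]
      congr 2
      ext y
      constructor
      · rintro ⟨z, ⟨hz1, hz2⟩, rfl⟩
        exact ⟨⟨z, hz1, rfl⟩, ‹T.Normal›.conj_mem z hz2 g⟩
      · rintro ⟨⟨z, hz1, rfl⟩, hz2⟩
        refine ⟨z, ⟨hz1, ?_⟩, rfl⟩
        have h5 : g * z * g⁻¹ ∈ T := hz2
        simpa [mul_assoc] using ‹T.Normal›.conj_mem _ h5 g⁻¹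
    let P : Sylow r T := Sylow.ofCard (((R : Subgroup G) ⊓ T).subgroupOf T)
      (hcard.trans P₀.card_eq_multiplicity)
    have hfr := Sylow.normalizer_sup_eq_top P
    have hmap : (P : Subgroup T).map T.subtype = (R : Subgroup G) ⊓ T := by
      show (Sylow.ofCard _ _ : Sylow r T).toSubgroup.map T.subtype = _
      rw [Sylow.coe_ofCard]
      rw [Subgroup.map_subgroupOf_eq_of_le inf_le_right]
    rw [hmap] at hfr
    have hNne : Subgroup.normalizer (((R : Subgroup G) ⊓ T : Subgroup G) : Set G) ≠ ⊤ := by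
      intro h
      haveI := Subgroup.normalizer_eq_top_iff.1 h
      rcases (inferInstance : ((((R : Subgroup G) ⊓ T).subgroupOf T)).Normal).eq_bot_or_eq_top with h1 | h1
      · exact hR0 (le_bot_iff.1 fun x hx => by
          have : (⟨x, hx.2⟩ : T) ∈ ((R : Subgroup G) ⊓ T).subgroupOf T := hx
          rw [h1, Subgroup.mem_bot] at this
          exact Subgroup.mem_bot.2 (congrArg Subtype.val this))
      · refine hnP (R.isPGroup'.to_le ?_)
        exact (Subgroup.subgroupOf_eq_top.1 h1).trans inf_le_left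
    obtain ⟨M'', hM'', hle'⟩ := (eq_top_or_exists_le_coatom _).resolve_left hNne
    have hRN : (R : Subgroup G) ≤ Subgroup.normalizer (((R : Subgroup G) ⊓ T : Subgroup G) : Set G) := by
      intro x hx
      refine Subgroup.mem_normalizer_iff.2 fun y => ⟨fun hy =>
        ⟨(R : Subgroup G).mul_mem ((R : Subgroup G).mul_mem hx hy.1) ((R : Subgroup G).inv_mem hx),
          ‹T.Normal›.conj_mem y hy.2 x⟩, fun hy => ?_⟩
      refine ⟨?_, ?_⟩
      · show y ∈ (R : Subgroup G)
        have := (R : Subgroup G).mul_mem ((R : Subgroup G).mul_mem ((R : Subgroup G).inv_mem hx) hy.1) hx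
        simpa [mul_assoc, SetLike.mem_coe] using this
      · simpa [mul_assoc] using ‹T.Normal›.conj_mem _ hy.2 x⁻¹
    rw [huM M'' ⟨hM'', hRN.trans hle'⟩] at hle'
    exact hM.1 (top_le_iff.1 (hfr.symm.le.trans (sup_le hle' (le_sup_left.trans hle))))
  refine IsPGroup.of_surjective R.isPGroup' ((QuotientGroup.mk' T).comp (R : Subgroup G).subtype) ?_
  intro q
  obtain ⟨g, rfl⟩ := QuotientGroup.mk'_surjective T q
  have hg : g ∈ T ⊔ (R : Subgroup G) := hTR ▸ Subgroup.mem_top g
  rw [← SetLike.mem_coe, Subgroup.normal_mul, Set.mem_mul] at hg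
  obtain ⟨t, ht, x, hx, rfl⟩ := hg
  refine ⟨⟨x, hx⟩, ?_⟩
  show QuotientGroup.mk' T x = QuotientGroup.mk' T (t * x)
  rw [map_mul, show QuotientGroup.mk' T t = 1 from (QuotientGroup.eq_one_iff t).2 ht, one_mul]

end Cfsg.Agent.S3859
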