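import Cfsg.Statements.S3862
import Cfsg.Agent.Lib.Transfer.Frobenius
import Cfsg.Agent.Lib.Solvable.CoprimeAction
import Cfsg.Agent.Lib.PGroup.Basic

set_option autoImplicit false
open Cfsg

namespace Cfsg.Agent.S3862

open scoped commutatorElement Pointwise

theorem centralizes_of_real {G : Type*} [Group G] [Finite G]
    (h : ∀ x : G, (∃ j : ℕ, orderOf x = 2 ^ j) → IsConj x x⁻¹ → x ∈ Subgroup.center G) (g : G)
    (hg : (orderOf g).Coprime 2) : ∀ (n : ℕ) (Q : Subgroup G), Nat.card Q = n → IsPGroup 2 Q →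
      g ∈ Subgroup.normalizer (Q : Set G) → g ∈ Subgroup.centralizer (Q : Set G) := by
  classical
  intro n
  induction n using Nat.strong_induction_on with
  | _ n ih =>
  intro Q hn hQ hgQ
  subst hn
  set A := Subgroup.zpowers g with hA
  have hAQ : A ≤ Subgroup.normalizer (Q : Set G) := (Subgroup.zpowers_le).2 hgQ
  have hcop : (Nat.card A).Coprime (Nat.card Q) := by
    obtain ⟨k, hk⟩ := IsPGroup.iff_card.1 hQ
    rw [Nat.card_zpowers, hk]; exact hg.pow_right k
  have hAc : ∀ K : Subgroup G, g ∈ Subgroup.centralizer (K : Set G) →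
      K ≤ Subgroup.centralizer (A : Set G) := by
    intro K hK
    rw [Subgroup.le_centralizer_iff, hA, Subgroup.zpowers_le]
    exact hK
  have hsub : ∀ K : Subgroup G, K < Q → A ≤ Subgroup.normalizer (K : Set G) →
      K ≤ Subgroup.centralizer (A : Set G) := fun K hK hAK =>
    hAc K (ih _ (Set.Finite.card_lt_card (Set.toFinite _) hK) K rfl (hQ.to_le hK.le)
      (hAK (Subgroup.mem_zpowers g)))
  suffices hmain : Q ≤ Subgroup.centralizer (A : Set G) from
    Subgroup.le_centralizer_iff.1 hmain (Subgroup.mem_zpowers g)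
  by_contra hnc
  have hs : Group.IsSolvable A ∨ Group.IsSolvable Q := Or.inr (by haveI := hQ.isNilpotent; infer_instance)
  have hgen : ⁅Q, A⁆ = Q := by
    by_contra hne
    have hle := CfsgLib.Solvable.commutator_le_of_le_normalizer hAQ
    have h1 := hsub _ (lt_of_le_of_ne hle hne) (CfsgLib.Solvable.le_normalizer_commutator_right hAQ)
    refine hnc (Subgroup.commutator_eq_bot_iff_le_centralizer.1 ?_)
    rw [← CfsgLib.Solvable.commutator_commutator_self hAQ hcop hs]
    exact Subgroup.commutator_eq_bot_iff_le_centralizer.2 h1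
  have hQbot : Q ≠ ⊥ := fun e => hnc (e ▸ bot_le)
  set D := ⁅Q, Q⁆ with hD
  have hDlt : D < Q := CfsgLib.Solvable.commutator_self_lt (by haveI := hQ.isNilpotent; infer_instance) hQbot
  have hAD : A ≤ Subgroup.normalizer (D : Set G) :=
    (le_inf hAQ hAQ).trans (CfsgLib.Solvable.normalizer_le_normalizer_commutator Q Q)
  have hDA := hsub D hDlt hAD
  have hDQ : ∀ d ∈ D, ∀ q ∈ Q, q * d = d * q := by
    have h1 : ⁅⁅A, D⁆, Q⁆ = ⊥ := by
      rw [Subgroup.commutator_comm A D, Subgroup.commutator_eq_bot_iff_le_centralizer.2 hDA,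
        Subgroup.commutator_bot_left]
    have h2 : ⁅⁅D, Q⁆, A⁆ = ⊥ := by
      refine Subgroup.commutator_eq_bot_iff_le_centralizer.2 (le_trans ?_ hDA)
      exact (Subgroup.commutator_mono hDlt.le le_rfl)
    have h3 := Subgroup.commutator_commutator_eq_bot_of_rotate h1 h2
    rw [hgen] at h3
    have h4 := Subgroup.commutator_eq_bot_iff_le_centralizer.1 h3
    exact fun d hd q hq => (Subgroup.mem_centralizer_iff.1 (h4 hq) d hd).symm
  -- fixed points lie in `D`
  have hfix : ∀ c ∈ Q, c ∈ Subgroup.centralizer (A : Set G) → c ∈ D := by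
    intro c hc hcA
    let conjQ : A → Q → Q := fun a q => ⟨a * q * a⁻¹, CfsgLib.Solvable.normalizer_conj_mem (hAQ a.2) q.2⟩
    haveI := Fintype.ofFinite A
    let τ : Q →* Abelianization Q := MonoidHom.mk' (fun q => ∏ a : A, Abelianization.of (conjQ a q)) fun x y => by
      rw [← Finset.prod_mul_distrib]
      refine Finset.prod_congr rfl fun a _ => ?_
      rw [← map_mul]
      exact congrArg _ (Subtype.ext (by simp [conjQ, mul_assoc]))
    have hτA : ∀ (a : A) (q : Q), τ (conjQ a q) = τ q := by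
      intro a q
      refine Fintype.prod_equiv (Equiv.mulRight a) _ _ fun b => congrArg _ (Subtype.ext ?_)
      simp only [conjQ, Equiv.coe_mulRight, Subgroup.coe_mul, mul_inv_rev]
      group
    have hker : ⁅Q, A⁆ ≤ τ.ker.map Q.subtype := by
      rw [Subgroup.commutator_le]
      intro q hq a ha
      refine ⟨⟨q, hq⟩ * conjQ ⟨a, ha⟩ (⟨q, hq⟩⁻¹), ?_, ?_⟩
      · show τ _ = 1
        rw [map_mul, hτA, map_inv, mul_inv_cancel]
      · simp [conjQ, commutatorElement_def, mul_assoc]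
    rw [hgen] at hker
    obtain ⟨c', hc', hcc⟩ := hker hc
    obtain rfl : c' = ⟨c, hc⟩ := Subtype.ext hcc
    have hpow : (Abelianization.of (⟨c, hc⟩ : Q)) ^ Nat.card A = 1 := by
      rw [← (show τ ⟨c, hc⟩ = 1 from hc'), Nat.card_eq_fintype_card, ← Finset.card_univ, ← Finset.prod_const]
      refine Finset.prod_congr rfl fun a _ => congrArg _ (Subtype.ext ?_)
      show c = (a : G) * c * (a : G)⁻¹
      rw [Subgroup.mem_centralizer_iff.1 hcA a a.2, mul_inv_cancel_right]
    have h1 : Abelianization.of (⟨c, hc⟩ : Q) = 1 := by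
      refine orderOf_eq_one_iff.1 (Nat.eq_one_of_dvd_coprimes hcop (orderOf_dvd_of_pow_eq_one hpow) ?_)
      exact (orderOf_map_dvd _ _).trans (orderOf_dvd_natCard _)
    have h2 : (⟨c, hc⟩ : Q) ∈ commutator Q := by
      rwa [← Abelianization.ker_of, MonoidHom.mem_ker]
    rw [hD, ← Subgroup.map_subtype_commutator]
    exact ⟨_, h2, rfl⟩
  -- squares lie in `D`
  have hsq : ∀ x ∈ Q, x ^ 2 ∈ D := by
    intro x hx
    set S := (frattini Q).map Q.subtype with hS
    have hxS : x ^ 2 ∈ S := ⟨(⟨x, hx⟩ : Q) ^ 2, CfsgLib.PGroup.pow_mem_frattini hQ _, rfl⟩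
    have hSQ : S < Q := by
      refine lt_of_le_of_ne (Subgroup.map_subtype_le _) fun e => ?_
      haveI : Nontrivial Q := (Subgroup.nontrivial_iff_ne_bot Q).2 hQbot
      refine CfsgLib.PGroup.frattini_ne_top hQ (Subgroup.map_injective Q.subtype_injective ?_)
      rw [← MonoidHom.range_eq_map, Subgroup.range_subtype]
      exact e
    have hAS : A ≤ Subgroup.normalizer (S : Set G) := by
      refine CfsgLib.Solvable.le_normalizer_of_conj_mem fun a ha y hy => ?_
      obtain ⟨z, hz, rfl⟩ := hy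
      let φ : MulAut Q := (Q.normalizerMonoidHom) ⟨a, hAQ ha⟩
      have hφ : φ z ∈ frattini Q := by
        have := (Subgroup.characteristic_iff_map_le.1 (frattini_characteristic (G := Q))) φ
        exact this ⟨z, hz, rfl⟩
      exact ⟨φ z, hφ, rfl⟩
    exact hfix _ (hSQ.le hxS) (hsub S hSQ hAS hxS)
  -- every element outside `D` is real, hence central
  obtain ⟨x, hxQ, hxD⟩ := SetLike.exists_of_lt hDlt
  have hcm : ∀ y ∈ Q, ∀ z ∈ Q, ⁅y, z⁆ ∈ D := fun y hy z hz => Subgroup.commutator_mem_commutator hy hz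
  have hmulr : ∀ u ∈ Q, ∀ y ∈ Q, ∀ z ∈ Q, ⁅u, y * z⁆ = ⁅u, y⁆ * ⁅u, z⁆ := by
    intro u hu y hy z hz
    have e : ⁅u, y * z⁆ = ⁅u, y⁆ * (y * ⁅u, z⁆ * y⁻¹) := by simp only [commutatorElement_def]; group
    rw [e, hDQ _ (hcm u hu z hz) y hy, mul_inv_cancel_right]
  have hmull : ∀ u ∈ Q, ∀ v ∈ Q, ∀ z ∈ Q, ⁅u * v, z⁆ = ⁅v, z⁆ * ⁅u, z⁆ := by
    intro u hu v hv z hz
    have e : ⁅u * v, z⁆ = u * ⁅v, z⁆ * u⁻¹ * ⁅u, z⁆ := by simp only [commutatorElement_def]; group
    rw [e, hDQ _ (hcm v hv z hz) u hu, mul_inv_cancel_right]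
  let B : Subgroup G :=
    { carrier := {d | ∃ y ∈ Q, ⁅x, y⁆ = d}
      one_mem' := ⟨1, Q.one_mem, commutatorElement_one_right x⟩
      mul_mem' := by
        rintro _ _ ⟨y, hy, rfl⟩ ⟨z, hz, rfl⟩
        exact ⟨y * z, Q.mul_mem hy hz, hmulr x hxQ y hy z hz⟩
      inv_mem' := by
        rintro _ ⟨y, hy, rfl⟩
        refine ⟨y⁻¹, Q.inv_mem hy, eq_inv_of_mul_eq_one_left ?_⟩
        rw [← hmulr x hxQ _ (Q.inv_mem hy) y hy, inv_mul_cancel, commutatorElement_one_right] }
  let R : Subgroup G :=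
    { carrier := {u | u ∈ Q ∧ ∀ z ∈ Q, ⁅u, z⁆ ∈ B}
      one_mem' := ⟨Q.one_mem, fun z _ => by rw [commutatorElement_one_left]; exact B.one_mem⟩
      mul_mem' := by
        rintro u v ⟨hu, hu'⟩ ⟨hv, hv'⟩
        exact ⟨Q.mul_mem hu hv, fun z hz => by rw [hmull u hu v hv z hz]; exact B.mul_mem (hv' z hz) (hu' z hz)⟩
      inv_mem' := by
        rintro u ⟨hu, hu'⟩
        refine ⟨Q.inv_mem hu, fun z hz => ?_⟩
        have e : ⁅u⁻¹, z⁆ = ⁅u, z⁆⁻¹ := by
          refine eq_inv_of_mul_eq_one_left ?_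
          rw [← hmull u hu _ (Q.inv_mem hu) z hz, mul_inv_cancel, commutatorElement_one_left]
        rw [e]; exact B.inv_mem (hu' z hz) }
  have hxR : x ∈ R := ⟨hxQ, fun z hz => ⟨z, hz, rfl⟩⟩
  have hB : x ^ 2 ∈ B := by
    have hDB : D ≤ B := by
      rcases (show R ≤ Q from fun u hu => hu.1).eq_or_lt with e | hlt
      · exact Subgroup.commutator_le.2 fun u hu z hz => (e.ge hu : u ∈ R).2 z hz
      · exfalso
        have hAR : A ≤ Subgroup.normalizer (R : Set G) := by
          refine CfsgLib.Solvable.le_normalizer_of_conj_mem fun a ha u hu => ?_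
          refine ⟨CfsgLib.Solvable.normalizer_conj_mem (hAQ ha) hu.1, fun z hz => ?_⟩
          have hz' := CfsgLib.Solvable.normalizer_conj_mem (hAQ (inv_mem ha)) hz
          have e : ⁅a * u * a⁻¹, z⁆ = a * ⁅u, a⁻¹ * z * a⁆ * a⁻¹ := by
            simp only [commutatorElement_def]; group
          rw [inv_inv] at hz'
          rw [e, Subgroup.mem_centralizer_iff.1 (hDA (hcm u hu.1 _ hz')) a ha, mul_inv_cancel_right]
          exact hu.2 _ hz'
        exact hxD (hfix x hxQ (hsub R hlt hAR hxR))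
    exact hDB (hsq x hxQ)
  obtain ⟨y, hy, e⟩ := hB
  have hconj : IsConj x x⁻¹ := by
    refine isConj_iff.2 ⟨y, ?_⟩
    have e1 : y * x * y⁻¹ = ⁅x, y⁆⁻¹ * x := by simp only [commutatorElement_def]; group
    rw [e1, e, sq, mul_inv_rev, inv_mul_cancel_right]
  have hxc := h x (hQ.exists_orderOf_eq_pow ⟨x, hxQ⟩ |>.imp fun j hj => by rwa [Subgroup.orderOf_mk] at hj) hconj
  exact hxD (hfix x hxQ (Subgroup.center_le_centralizer _ hxc))

/-- If every 2-element of the finite group G that is conjugate to its inverse lies in the centre of G, then G has a normal 2-complement. -/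
theorem result {G : Type*} [Group G] [Finite G] (h : ∀ x : G, (∃ j : ℕ, orderOf x = 2 ^ j) → IsConj x x⁻¹ → x ∈ Subgroup.center G) : Cfsg.HasNormalPComplement 2 G := by
  haveI : Fact (Nat.Prime 2) := ⟨Nat.prime_two⟩
  refine CfsgLib.Transfer.hasNormalPComplement_of_frobeniusCond fun Q hQ g hgQ hg => ?_
  exact centralizes_of_real h g hg _ Q rfl hQ hgQ

end Cfsg.Agent.S3862
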