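import Cfsg.Statements.S3863
import Mathlib
import Cfsg.Agent.Lib.PGroup.ClassSize

set_option autoImplicit false
open Cfsg

namespace Cfsg.Agent.S3863

/-- Let x be an element of the finite group G that is conjugate to its inverse. Then some 2-element conjugates x to its inverse; if the conjugacy class of x has odd size then x ^ 2 = 1; and x lies in, and is conjugate to its inverse inside, every normal subgroup of odd index. -/
theorem result {G : Type*} [Group G] [Finite G] (x : G) (hx : IsConj x x⁻¹) : (∃ t : G, (∃ j : ℕ, orderOf t = 2 ^ j) ∧ t * x * t⁻¹ = x⁻¹) ∧ (Odd (Subgroup.centralizer ({x} : Set G)).index → x ^ 2 = 1) ∧ ∀ (N : Subgroup G) [N.Normal], Odd N.index → ∃ hxN : x ∈ N, IsConj (⟨x, hxN⟩ : N) (⟨x, hxN⟩ : N)⁻¹ := by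
  classical
  obtain ⟨g, hg⟩ := isConj_iff.1 hx
  have hodd : ∀ m : ℕ, Odd m → g ^ m * x * (g ^ m)⁻¹ = x⁻¹ := by
    have h2 : g * x⁻¹ * g⁻¹ = x := by
      calc g * x⁻¹ * g⁻¹ = (g * x * g⁻¹)⁻¹ := by group
        _ = x := by rw [hg, inv_inv]
    have heven : ∀ m : ℕ, g ^ (2 * m) * x * (g ^ (2 * m))⁻¹ = x := by
      intro m
      induction m with
      | zero => simp
      | succ m ih =>
        calc g ^ (2 * (m + 1)) * x * (g ^ (2 * (m + 1)))⁻¹
            = g * (g * (g ^ (2 * m) * x * (g ^ (2 * m))⁻¹) * g⁻¹) * g⁻¹ := by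
              rw [show 2 * (m + 1) = 1 + 1 + 2 * m by ring, pow_add, pow_add, pow_one]; group
          _ = x := by rw [ih, hg, h2]
    rintro m ⟨j, rfl⟩
    calc g ^ (2 * j + 1) * x * (g ^ (2 * j + 1))⁻¹ = g * (g ^ (2 * j) * x * (g ^ (2 * j))⁻¹) * g⁻¹ := by
          rw [add_comm, pow_add, pow_one]; group
      _ = x⁻¹ := by rw [heven, hg]
  obtain ⟨k, m, hm, hkm⟩ := Nat.exists_eq_two_pow_mul_odd (orderOf_pos g).ne'
  have ht : orderOf (g ^ m) = 2 ^ k := by
    rw [orderOf_pow' _ (by rintro rfl; simp at hm), hkm, Nat.gcd_eq_right (dvd_mul_left _ _),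
      Nat.mul_div_cancel _ (Nat.pos_of_ne_zero (by rintro rfl; simp at hm))]
  refine ⟨⟨g ^ m, ⟨k, ht⟩, hodd m hm⟩, fun hC => ?_, fun N _ hN => ?_⟩
  · -- inversion permutes the class, which has odd size
    rw [← CfsgLib.PGroup.ncard_conjugates_eq_index, ← Nat.card_coe_set_eq] at hC
    let σ : (Set.range fun c : G => c * x * c⁻¹) → (Set.range fun c : G => c * x * c⁻¹) :=
      fun y => ⟨(y : G)⁻¹, by
        obtain ⟨c, hc⟩ := y.2
        refine ⟨c * g, ?_⟩
        show c * g * x * (c * g)⁻¹ = _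
        rw [← hc]
        calc c * g * x * (c * g)⁻¹ = c * (g * x * g⁻¹) * c⁻¹ := by group
          _ = (c * x * c⁻¹)⁻¹ := by rw [hg]; group⟩
    have hσ : Function.Involutive σ := fun y => Subtype.ext (inv_inv _)
    haveI := Fintype.ofFinite (Set.range fun c : G => c * x * c⁻¹)
    obtain ⟨y, hy⟩ := Equiv.Perm.exists_fixed_point_of_prime (p := 2) (n := 1)
      (by rw [← Nat.card_eq_fintype_card]; exact Nat.not_even_iff_odd.2 hC |> fun h hd => h (even_iff_two_dvd.2 hd))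
      (σ := hσ.toPerm σ) (Equiv.ext fun y => hσ y)
    obtain ⟨c, hc⟩ := y.2
    have hy' : (y : G)⁻¹ = (y : G) := congrArg Subtype.val hy
    have hc' : (y : G) = c * x * c⁻¹ := hc.symm
    rw [hc'] at hy'
    have h3 : (c * x * c⁻¹) * (c * x * c⁻¹) = 1 := by
      nth_rewrite 1 [← hy']
      exact inv_mul_cancel _
    calc x ^ 2 = c⁻¹ * ((c * x * c⁻¹) * (c * x * c⁻¹)) * c := by rw [sq]; group
      _ = 1 := by rw [h3]; group
  · have hQ : Odd (Nat.card (G ⧸ N)) := by rwa [← Subgroup.index_eq_card]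
    have h2elt : ∀ t : G, (∃ j, orderOf t = 2 ^ j) → t ∈ N := by
      rintro t ⟨j, hj⟩
      rw [← QuotientGroup.eq_one_iff, ← orderOf_eq_one_iff]
      refine Nat.dvd_one.1 ?_
      have h1 : orderOf (t : G ⧸ N) ∣ 2 ^ j := hj ▸ orderOf_map_dvd (QuotientGroup.mk' N) t
      have h2 := Nat.dvd_gcd h1 (orderOf_dvd_natCard (t : G ⧸ N))
      rwa [(Nat.Coprime.pow_left j (Nat.coprime_two_left.2 hQ)).gcd_eq_one] at h2
    have htN := h2elt (g ^ m) ⟨k, ht⟩
    have hxN : x ∈ N := by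
      rw [← QuotientGroup.eq_one_iff, ← orderOf_eq_one_iff]
      refine Nat.dvd_one.1 ?_
      have h1 : orderOf (x : G ⧸ N) ∣ 2 := by
        refine orderOf_dvd_of_pow_eq_one ?_
        have h3 := congrArg (QuotientGroup.mk' N) (hodd m hm)
        rw [map_mul, map_mul, map_inv, map_inv,
          show QuotientGroup.mk' N (g ^ m) = 1 from (QuotientGroup.eq_one_iff _).2 htN] at h3
        simp at h3
        rw [sq]
        nth_rewrite 1 [h3]
        exact inv_mul_cancel _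
      have h2 := Nat.dvd_gcd h1 (orderOf_dvd_natCard (x : G ⧸ N))
      rwa [(Nat.coprime_two_left.2 hQ).gcd_eq_one] at h2
    exact ⟨hxN, isConj_iff.2 ⟨⟨g ^ m, htN⟩, Subtype.ext (hodd m hm)⟩⟩

end Cfsg.Agent.S3863
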