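import Cfsg.Statements.S3864
import Cfsg.Agent.Lib.Invol.DihedralClasses

set_option autoImplicit false
open Cfsg

namespace Cfsg.Agent.S3864

open CfsgLib.Invol.DihSylow

/-- Let G be a finite group whose Sylow 2-subgroups are dihedral of order 2 ^ n with n ≥ 3, and count the conjugacy classes of involutions of G. Then exactly one of the following holds: there is one class of involutions and no normal subgroup of index 2; there are two classes of involutions, a normal subgroup of index 2 and none of index 4; there are three classes of involutions and G has a normal 2-complement. -/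
theorem result {G : Type*} [Group G] [Finite G] (P : Sylow 2 G) (n : ℕ) (hn : 3 ≤ n) (hdih : Nonempty (↥(P : Subgroup G) ≃* DihedralGroup (2 ^ (n - 1)))) : (Nat.card {C : ConjClasses G // ∃ g : G, ConjClasses.mk g = C ∧ orderOf g = 2} = 1 ∧ ∀ N : Subgroup G, N.Normal → N.index ≠ 2) ∨ (Nat.card {C : ConjClasses G // ∃ g : G, ConjClasses.mk g = C ∧ orderOf g = 2} = 2 ∧ (∃ N : Subgroup G, N.Normal ∧ N.index = 2) ∧ ∀ N : Subgroup G, N.Normal → N.index ≠ 4) ∨ (Nat.card {C : ConjClasses G // ∃ g : G, ConjClasses.mk g = C ∧ orderOf g = 2} = 3 ∧ Cfsg.HasNormalPComplement 2 G) := by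
  obtain ⟨e⟩ := hdih
  have hm : 3 ≤ 2 ^ (n - 1) :=
    le_trans (by norm_num) (Nat.pow_le_pow_right two_pos (show 2 ≤ n - 1 by omega))
  obtain ⟨ι, q, hd⟩ := exists_data P e hm
  by_cases h0 : IsConj (zz ι q) (ss ι 0) <;> by_cases h1 : IsConj (zz ι q) (ss ι 1)
  · exact Or.inl ⟨card_one hd h0 h1, fun N _ => no_index_two hd h0 h1 N⟩
  · obtain ⟨M, hM, hi, -⟩ := exists_index_two hd h1
    exact Or.inr (Or.inl ⟨card_two hd (Or.inl ⟨rfl, rfl⟩) h0 h1, ⟨M, hM, hi⟩, no_index_four hd (Or.inl rfl) h0⟩)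
  · obtain ⟨M, hM, hi, -⟩ := exists_index_two hd h0
    exact Or.inr (Or.inl ⟨card_two hd (Or.inr ⟨rfl, rfl⟩) h1 h0, ⟨M, hM, hi⟩, no_index_four hd (Or.inr rfl) h1⟩)
  · exact Or.inr (Or.inr ⟨card_three hd h0 h1, hasNormalPComplement hd h0 h1⟩)

end Cfsg.Agent.S3864
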