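import Cfsg.Statements.S3865
import Cfsg.Agent.Lib.PGroup.MaxClassDichotomy

set_option autoImplicit false
open Cfsg

namespace Cfsg.Agent.S3865

/-- Let G be a finite group whose Sylow p-subgroup P has order p ^ n with n ≥ 2 and nilpotency class n - 1 (maximal class), whose largest normal subgroup of order prime to p is trivial, and which has no proper normal subgroup of index prime to p. Then either some x ∈ P has a centralizer in G whose order has p-part p ^ 2, or G is quasisimple with centre of order at most p. -/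
theorem result {G : Type*} [Group G] [Finite G] (p : ℕ) [Fact p.Prime] (P : Sylow p G) (n : ℕ) (hP : Nat.card P = p ^ n) (hn : 2 ≤ n) (hmax : Group.nilpotencyClass ↥(P : Subgroup G) = n - 1) (hcore : Cfsg.pPrimeCore p G = ⊥) (hres : ∀ N : Subgroup G, N.Normal → (N.index).Coprime p → N = ⊤) : (∃ x ∈ (P : Subgroup G), (Nat.card (Subgroup.centralizer ({x} : Set G))).factorization p = 2) ∨ (Cfsg.IsQuasisimple G ∧ Nat.card (Subgroup.center G) ≤ p) := by
  rcases Nat.lt_or_ge n 3 with h3 | h3
  · left
    refine ⟨1, one_mem _, ?_⟩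
    have htop : Subgroup.centralizer ({(1 : G)} : Set G) = ⊤ :=
      (Subgroup.eq_top_iff' _).2 fun g => Subgroup.mem_centralizer_singleton_iff.2 (by simp)
    rw [htop, Subgroup.card_top]
    have hn2 : n = 2 := by omega
    rw [P.card_eq_multiplicity] at hP
    rw [Nat.pow_right_injective (Fact.out : p.Prime).two_le hP, hn2]
  by_cases hN : ∃ N : Subgroup G, N.Normal ∧
      p ^ 2 ≤ Nat.card ((P : Subgroup G) ⊓ N : Subgroup G) ∧ ¬ (P : Subgroup G) ≤ N
  · obtain ⟨N, hNn, h2, hPN⟩ := hN
    haveI := hNn
    exact Or.inl (CfsgLib.PGroup.MaxClassDichotomy.exists_small_of_normal hP h3 hmax N h2 hPN)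
  · push Not at hN
    exact Or.inr (CfsgLib.PGroup.MaxClassDichotomy.isQuasisimple_of hP h3 hmax hcore hres hN)

end Cfsg.Agent.S3865
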